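import Mathlib
import Cfsg.Statements.S0002

set_option autoImplicit false
open Pointwise
open Cfsg

namespace Cfsg.Agent.S0002

open MulOpposite MulAction

/-- The class of a transversal in `QuotientDiff`. -/
noncomputable def toQD {G : Type*} [Group G] (A : Subgroup G) [IsMulCommutative A] [A.FiniteIndex]
    (T : A.LeftTransversal) : A.QuotientDiff := Quotient.mk'' T

theorem smul_toQD {G : Type*} [Group G] (A : Subgroup G) [IsMulCommutative A] [A.FiniteIndex]
    [A.Normal] (g : G) (T : A.LeftTransversal) : g • toQD A T = toQD A (op g⁻¹ • T) := rfl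

/-- A complement of an abelian normal Hall subgroup is the stabilizer of its own class. -/
theorem eq_stabilizer {G : Type*} [Group G] [Finite G] (A : Subgroup G) [A.Normal]
    [IsMulCommutative A] (hA : (Nat.card A).Coprime A.index)
    (H : Subgroup G) (hH : Subgroup.IsComplement' A H) :
    H = stabilizer G (toQD A ⟨(H : Set G), hH.symm⟩) := by
  set α : A.QuotientDiff := toQD A ⟨(H : Set G), hH.symm⟩ with hα
  have hle : H ≤ stabilizer G α := by
    intro h hh
    rw [mem_stabilizer_iff, hα, smul_toQD]
    congr 1
    apply Subtype.ext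
    change op h⁻¹ • (H : Set G) = (H : Set G)
    ext x
    rw [Set.mem_smul_set_iff_inv_smul_mem]
    simp only [← op_inv, inv_inv, op_smul_eq_mul, SetLike.mem_coe]
    exact H.mul_mem_cancel_right hh
  have hc := Subgroup.isComplement'_stabilizer_of_coprime (α := α) hA
  have h1 := hH.card_mul_card
  have h2 := hc.card_mul_card
  apply Subgroup.eq_of_le_of_card_ge hle
  have hpos : 0 < Nat.card A := Nat.card_pos
  have : Nat.card A * Nat.card (stabilizer G α) = Nat.card A * Nat.card H := by rw [h1, h2]
  exact (Nat.eq_of_mul_eq_mul_left hpos this).le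

/-- Schur's Theorem, conjugacy part, for an abelian normal subgroup of coprime order and index: any two complements are conjugate by an element of the normal subgroup. -/
theorem result {G : Type*} [Group G] [Finite G] (A : Subgroup G) [A.Normal] [IsMulCommutative A]
    (hA : (Nat.card A).Coprime A.index)
    (H K : Subgroup G) (hH : Subgroup.IsComplement' A H) (hK : Subgroup.IsComplement' A K) :
    ∃ a ∈ A, MulAut.conj a • H = K := by
  have eH := eq_stabilizer A hA H hH
  have eK := eq_stabilizer A hA K hK
  obtain ⟨a, ha⟩ := Subgroup.exists_smul_eq hA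
    (toQD A ⟨(H : Set G), hH.symm⟩) (toQD A ⟨(K : Set G), hK.symm⟩)
  refine ⟨a, a.2, ?_⟩
  have ha' : (a : G) • toQD A ⟨(H : Set G), hH.symm⟩ = toQD A ⟨(K : Set G), hK.symm⟩ := ha
  rw [eK, ← ha', stabilizer_smul_eq_stabilizer_map_conj, ← eH]
  rfl

end Cfsg.Agent.S0002
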