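import Cfsg.Statements.S0598
import Mathlib

set_option autoImplicit false
open Cfsg

namespace Cfsg.Agent.S0598

open scoped commutatorElement

variable {G : Type*} [Group G]

/-- `C_V(X)` -/
abbrev cv (V X : Subgroup G) : Subgroup G := V ⊓ Subgroup.centralizer (X : Set G)

/-- the Thompson product `|X| |C_V(X)|` -/
noncomputable abbrev mm (V X : Subgroup G) : ℕ := Nat.card X * Nat.card (cv V X)

theorem card_mul_relIndex [Finite G] {K L : Subgroup G} (h : K ≤ L) :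
    Nat.card K * K.relIndex L = Nat.card L := by
  have := Subgroup.relIndex_mul_relIndex (⊥ : Subgroup G) K L bot_le h
  rwa [Subgroup.relIndex_bot_left, Subgroup.relIndex_bot_left] at this

/-- `|H||K| ≤ |H ∩ K| |⟨H, K⟩|` -/
theorem card_mul_card_le [Finite G] (H K : Subgroup G) :
    Nat.card H * Nat.card K ≤ Nat.card (H ⊓ K : Subgroup G) * Nat.card (H ⊔ K : Subgroup G) := by
  have h1 := card_mul_relIndex (inf_le_left : H ⊓ K ≤ H)
  have h2 := card_mul_relIndex (le_sup_right : K ≤ H ⊔ K)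
  have h3 : (H ⊓ K).relIndex H ≤ K.relIndex (H ⊔ K) := by
    rw [Subgroup.inf_relIndex_left]
    apply Subgroup.relIndex_le_of_le_right le_sup_left
    intro h0
    rw [h0, mul_zero] at h2
    exact Nat.card_pos.ne' h2.symm
  calc Nat.card H * Nat.card K
      = Nat.card (H ⊓ K : Subgroup G) * (H ⊓ K).relIndex H * Nat.card K := by rw [h1]
    _ ≤ Nat.card (H ⊓ K : Subgroup G) * K.relIndex (H ⊔ K) * Nat.card K := by
        apply Nat.mul_le_mul_right
        exact Nat.mul_le_mul_left _ h3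
    _ = Nat.card (H ⊓ K : Subgroup G) * Nat.card (H ⊔ K : Subgroup G) := by
        rw [← h2]; ring

theorem cv_sup (V B₁ B₂ : Subgroup G) : cv V (B₁ ⊔ B₂) = cv V B₁ ⊓ cv V B₂ := by
  ext x
  simp only [cv, Subgroup.mem_inf]
  constructor
  · rintro ⟨hV, hx⟩
    exact ⟨⟨hV, Subgroup.centralizer_le (show (B₁ : Set G) ⊆ (B₁ ⊔ B₂ : Subgroup G) from
        (le_sup_left : B₁ ≤ B₁ ⊔ B₂)) hx⟩,
      ⟨hV, Subgroup.centralizer_le (show (B₂ : Set G) ⊆ (B₁ ⊔ B₂ : Subgroup G) from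
        (le_sup_right : B₂ ≤ B₁ ⊔ B₂)) hx⟩⟩
  · rintro ⟨⟨hV, h1⟩, ⟨_, h2⟩⟩
    refine ⟨hV, ?_⟩
    have hle : B₁ ⊔ B₂ ≤ Subgroup.centralizer ({x} : Set G) := by
      apply sup_le
      · intro g hg
        rw [Subgroup.mem_centralizer_iff]
        intro y hy
        rw [Set.mem_singleton_iff] at hy
        subst hy
        exact (Subgroup.mem_centralizer_iff.mp h1 g hg).symm
      · intro g hg
        rw [Subgroup.mem_centralizer_iff]
        intro y hy
        rw [Set.mem_singleton_iff] at hy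
        subst hy
        exact (Subgroup.mem_centralizer_iff.mp h2 g hg).symm
    rw [Subgroup.mem_centralizer_iff]
    intro g hg
    exact (Subgroup.mem_centralizer_iff.mp (hle hg) x rfl).symm

theorem cv_anti (V : Subgroup G) {B₁ B₂ : Subgroup G} (h : B₁ ≤ B₂) : cv V B₂ ≤ cv V B₁ :=
  inf_le_inf_left _ (Subgroup.centralizer_le h)

/-- T1: members of maximal Thompson product are closed under intersection -/
theorem inter_of_max [Finite G] (V A B₁ B₂ : Subgroup G) (hB₁ : B₁ ≤ A) (hB₂ : B₂ ≤ A)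
    (hmax : ∀ B : Subgroup G, B ≤ A → mm V B ≤ mm V A) (h1 : mm V B₁ = mm V A)
    (h2 : mm V B₂ = mm V A) :
    mm V (B₁ ⊓ B₂) = mm V A ∧ cv V (B₁ ⊓ B₂) = cv V B₁ ⊔ cv V B₂ := by
  have hμpos : 0 < mm V A := Nat.mul_pos Nat.card_pos Nat.card_pos
  have hI : cv V B₁ ⊔ cv V B₂ ≤ cv V (B₁ ⊓ B₂) :=
    sup_le (cv_anti V inf_le_left) (cv_anti V inf_le_right)
  have e1 := card_mul_card_le B₁ B₂
  have e2 := card_mul_card_le (cv V B₁) (cv V B₂)
  have e3 : Nat.card (cv V B₁ ⊔ cv V B₂ : Subgroup G) ≤ Nat.card (cv V (B₁ ⊓ B₂)) :=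
    Subgroup.card_le_of_le hI
  have e4 : mm V (B₁ ⊔ B₂) ≤ mm V A := hmax _ (sup_le hB₁ hB₂)
  have e5 : mm V (B₁ ⊓ B₂) ≤ mm V A := hmax _ (inf_le_left.trans hB₁)
  have hJ : Nat.card (cv V (B₁ ⊔ B₂)) = Nat.card (cv V B₁ ⊓ cv V B₂ : Subgroup G) := by
    rw [cv_sup]
  -- the main chain
  have chain : mm V A * mm V A ≤
      mm V (B₁ ⊔ B₂) * (Nat.card (B₁ ⊓ B₂ : Subgroup G) * Nat.card (cv V B₁ ⊔ cv V B₂ : Subgroup G)) := by
    calc mm V A * mm V A = mm V B₁ * mm V B₂ := by rw [h1, h2]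
      _ = (Nat.card B₁ * Nat.card B₂) * (Nat.card (cv V B₁) * Nat.card (cv V B₂)) := by
          simp only [mm]; ring
      _ ≤ (Nat.card (B₁ ⊓ B₂ : Subgroup G) * Nat.card (B₁ ⊔ B₂ : Subgroup G)) *
          (Nat.card (cv V B₁ ⊓ cv V B₂ : Subgroup G) * Nat.card (cv V B₁ ⊔ cv V B₂ : Subgroup G)) :=
          Nat.mul_le_mul e1 e2
      _ = mm V (B₁ ⊔ B₂) * (Nat.card (B₁ ⊓ B₂ : Subgroup G) * Nat.card (cv V B₁ ⊔ cv V B₂ : Subgroup G)) := by
          simp only [mm]; rw [hJ]; ring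
  have hIpos : 0 < Nat.card (B₁ ⊓ B₂ : Subgroup G) := Nat.card_pos
  have c1 : mm V A ≤ Nat.card (B₁ ⊓ B₂ : Subgroup G) * Nat.card (cv V B₁ ⊔ cv V B₂ : Subgroup G) := by
    have : mm V A * mm V A ≤ mm V A * (Nat.card (B₁ ⊓ B₂ : Subgroup G) * Nat.card (cv V B₁ ⊔ cv V B₂ : Subgroup G)) :=
      chain.trans (Nat.mul_le_mul_right _ e4)
    exact Nat.le_of_mul_le_mul_left this hμpos
  have c2 : Nat.card (B₁ ⊓ B₂ : Subgroup G) * Nat.card (cv V B₁ ⊔ cv V B₂ : Subgroup G) ≤ mm V (B₁ ⊓ B₂) :=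
    Nat.mul_le_mul_left _ e3
  have hm : mm V (B₁ ⊓ B₂) = mm V A := le_antisymm e5 (c1.trans c2)
  refine ⟨hm, ?_⟩
  symm
  apply Subgroup.eq_of_le_of_card_ge hI
  have : Nat.card (B₁ ⊓ B₂ : Subgroup G) * Nat.card (cv V (B₁ ⊓ B₂)) ≤
      Nat.card (B₁ ⊓ B₂ : Subgroup G) * Nat.card (cv V B₁ ⊔ cv V B₂ : Subgroup G) := by
    calc Nat.card (B₁ ⊓ B₂ : Subgroup G) * Nat.card (cv V (B₁ ⊓ B₂)) = mm V A := hm
      _ ≤ _ := c1
  exact Nat.le_of_mul_le_mul_left this hIpos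


section single

variable (V A : Subgroup G)

theorem conj_mem_of_normalizer (hAV : A ≤ Subgroup.normalizer (V : Set G)) {a v : G} (ha : a ∈ A)
    (hv : v ∈ V) : a * v * a⁻¹ ∈ V :=
  (Subgroup.mem_normalizer_iff.mp (hAV ha) v).mp hv

theorem comm_mem (hAV : A ≤ Subgroup.normalizer (V : Set G)) {a u : G} (ha : a ∈ A)
    (hu : u ∈ V) : ⁅u, a⁆ ∈ V := by
  rw [commutatorElement_def]
  have : u * a * u⁻¹ * a⁻¹ = u * (a * u⁻¹ * a⁻¹) := by group
  rw [this]
  exact V.mul_mem hu (conj_mem_of_normalizer V A hAV ha (V.inv_mem hu))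

/-- H1: the conjugation actions of elements of `A` on `V` commute -/
theorem conj_comm (hAV : A ≤ Subgroup.normalizer (V : Set G))
    (hab : ⁅A, A⁆ ≤ Subgroup.centralizer (V : Set G)) {a b v : G} (ha : a ∈ A) (hb : b ∈ A)
    (hv : v ∈ V) : a * (b * v * b⁻¹) * a⁻¹ = b * (a * v * a⁻¹) * b⁻¹ := by
  have hw : b * (a * v * a⁻¹) * b⁻¹ ∈ V :=
    conj_mem_of_normalizer V A hAV hb (conj_mem_of_normalizer V A hAV ha hv)
  have hc : ⁅a, b⁆ ∈ Subgroup.centralizer (V : Set G) :=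
    hab (Subgroup.commutator_mem_commutator ha hb)
  have h1 := Subgroup.mem_centralizer_iff.mp hc _ hw
  -- h1 : w * ⁅a,b⁆ = ⁅a,b⁆ * w
  have h2 : ⁅a, b⁆ * (b * (a * v * a⁻¹) * b⁻¹) * ⁅a, b⁆⁻¹ = a * (b * v * b⁻¹) * a⁻¹ := by
    rw [commutatorElement_def]; group
  rw [← h2, ← h1]
  group

/-- K1 -/
theorem mem_centralizer_of_comm_mem (hVc : ∀ x ∈ V, ∀ y ∈ V, x * y = y * x)
    (hAV : A ≤ Subgroup.normalizer (V : Set G))
    (hab : ⁅A, A⁆ ≤ Subgroup.centralizer (V : Set G)) {u d : G} (hu : u ∈ V) (hd : d ∈ A)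
    (hw : ⁅u, d⁆ ∈ Subgroup.centralizer (A : Set G)) {x : G} (hx : x ∈ A) :
    ⁅u, x⁆ * d = d * ⁅u, x⁆ := by
  have hwV : ⁅u, d⁆ ∈ V := comm_mem V A hAV hd hu
  have hxV : ⁅u, x⁆ ∈ V := comm_mem V A hAV hx hu
  have e1 : d * u⁻¹ * d⁻¹ = u⁻¹ * ⁅u, d⁆ := by rw [commutatorElement_def]; group
  have e2 : d * u * d⁻¹ = ⁅u, d⁆⁻¹ * u := by rw [commutatorElement_def]; group
  have e3 : d * (x * u⁻¹ * x⁻¹) * d⁻¹ = x * (d * u⁻¹ * d⁻¹) * x⁻¹ :=
    conj_comm V A hAV hab hd hx (V.inv_mem hu)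
  have e4 : x * ⁅u, d⁆ * x⁻¹ = ⁅u, d⁆ := by
    have := Subgroup.mem_centralizer_iff.mp hw x hx
    rw [this]; group
  have key : d * ⁅u, x⁆ * d⁻¹ = ⁅u, x⁆ := by
    calc d * ⁅u, x⁆ * d⁻¹ = (d * u * d⁻¹) * (d * (x * u⁻¹ * x⁻¹) * d⁻¹) := by
          rw [commutatorElement_def]; group
      _ = (⁅u, d⁆⁻¹ * u) * (x * (u⁻¹ * ⁅u, d⁆) * x⁻¹) := by rw [e2, e3, e1]
      _ = ⁅u, d⁆⁻¹ * (u * x * u⁻¹ * x⁻¹) * (x * ⁅u, d⁆ * x⁻¹) := by group
      _ = ⁅u, d⁆⁻¹ * ⁅u, x⁆ * ⁅u, d⁆ := by rw [e4, commutatorElement_def u x]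
      _ = ⁅u, x⁆ := by
          rw [mul_assoc, hVc _ hxV _ hwV, ← mul_assoc, inv_mul_cancel, one_mul]
  calc ⁅u, x⁆ * d = (d * ⁅u, x⁆ * d⁻¹) * d := by rw [key]
    _ = d * ⁅u, x⁆ := by group

/-- K2 -/
theorem comm_mem_centralizer_of_eq {u a a' c c' : G} (ha' : a' ∈ A)
    (hc : c ∈ cv V A) (hc' : c' ∈ cv V A) (h : ⁅u, a⁆ * c = ⁅u, a'⁆ * c') :
    ⁅u, a'⁻¹ * a⁆ ∈ Subgroup.centralizer (A : Set G) := by
  have e1 : ⁅u, a⁆ = ⁅u, a'⁆ * (a' * ⁅u, a'⁻¹ * a⁆ * a'⁻¹) := by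
    simp only [commutatorElement_def]; group
  rw [e1, mul_assoc, mul_right_inj] at h
  -- h : a' * ⁅u, d⁆ * a'⁻¹ * c = c'
  have hcc : c' * c⁻¹ ∈ cv V A := Subgroup.mul_mem _ hc' (Subgroup.inv_mem _ hc)
  have e2 : a' * ⁅u, a'⁻¹ * a⁆ * a'⁻¹ = c' * c⁻¹ := by rw [← h]; group
  have e3 : ⁅u, a'⁻¹ * a⁆ = a'⁻¹ * (c' * c⁻¹) * a' := by rw [← e2]; group
  have e4 : a'⁻¹ * (c' * c⁻¹) * a' = c' * c⁻¹ := by
    have := Subgroup.mem_centralizer_iff.mp hcc.2 a' ha'
    -- a' * (c' c⁻¹) = (c' c⁻¹) * a'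
    calc a'⁻¹ * (c' * c⁻¹) * a' = a'⁻¹ * ((c' * c⁻¹) * a') := by group
      _ = a'⁻¹ * (a' * (c' * c⁻¹)) := by rw [this]
      _ = c' * c⁻¹ := by group
  rw [e3, e4]
  exact hcc.2

end single


/-- the generators `[u, a]`, `a ∈ A` -/
abbrev gens (A : Subgroup G) (u : G) : Set G := {x | ∃ a ∈ A, ⁅u, a⁆ = x}

/-- SE: the single element replacement -/
theorem single_element [Finite G] (V A : Subgroup G) (hVc : ∀ x ∈ V, ∀ y ∈ V, x * y = y * x)
    (hAV : A ≤ Subgroup.normalizer (V : Set G))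
    (hab : ⁅A, A⁆ ≤ Subgroup.centralizer (V : Set G)) {u : G} (hu : u ∈ V) :
    Subgroup.closure (gens A u) ⊔ cv V A ≤ cv V (A ⊓ Subgroup.centralizer (gens A u)) ∧
    Nat.card A * Nat.card (cv V A) ≤
      Nat.card (A ⊓ Subgroup.centralizer (gens A u) : Subgroup G) *
        Nat.card (Subgroup.closure (gens A u) ⊔ cv V A : Subgroup G) := by
  classical
  constructor
  · apply sup_le
    · rw [Subgroup.closure_le]
      rintro x ⟨a, ha, rfl⟩
      refine Subgroup.mem_inf.mpr ⟨comm_mem V A hAV ha hu, ?_⟩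
      rw [Subgroup.mem_centralizer_iff]
      intro b hb
      have := Subgroup.mem_centralizer_iff.mp hb.2 ⁅u, a⁆ ⟨a, ha, rfl⟩
      exact this.symm
    · exact cv_anti V inf_le_left
  · -- counting
    haveI := Fintype.ofFinite ↥A
    haveI := Fintype.ofFinite ↥(cv V A)
    haveI := Fintype.ofFinite ↥(A ⊓ Subgroup.centralizer (gens A u) : Subgroup G)
    haveI := Fintype.ofFinite ↥(Subgroup.closure (gens A u) ⊔ cv V A : Subgroup G)
    let f : ↥A × ↥(cv V A) → ↥(Subgroup.closure (gens A u) ⊔ cv V A : Subgroup G) :=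
      fun x => ⟨⁅u, (x.1 : G)⁆ * (x.2 : G), Subgroup.mul_mem_sup
        (Subgroup.subset_closure ⟨x.1, x.1.2, rfl⟩) x.2.2⟩
    have hfib : ∀ t ∈ (Finset.univ : Finset (↥A × ↥(cv V A))).image f,
        ((Finset.univ : Finset (↥A × ↥(cv V A))).filter fun x => f x = t).card ≤
          Fintype.card ↥(A ⊓ Subgroup.centralizer (gens A u) : Subgroup G) := by
      intro t ht
      obtain ⟨x₀, _, hx₀⟩ := Finset.mem_image.mp ht
      have hmem : ∀ x : ↥A × ↥(cv V A), f x = t →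
          (x₀.1 : G)⁻¹ * (x.1 : G) ∈ (A ⊓ Subgroup.centralizer (gens A u) : Subgroup G) := by
        intro x hx
        have heq : ⁅u, (x.1 : G)⁆ * (x.2 : G) = ⁅u, (x₀.1 : G)⁆ * (x₀.2 : G) := by
          have := hx.trans hx₀.symm
          exact congrArg Subtype.val this
        have h1 := comm_mem_centralizer_of_eq V A x₀.1.2 x.2.2 x₀.2.2 heq
        have hdA : (x₀.1 : G)⁻¹ * (x.1 : G) ∈ A := A.mul_mem (A.inv_mem x₀.1.2) x.1.2
        refine Subgroup.mem_inf.mpr ⟨hdA, ?_⟩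
        rw [Subgroup.mem_centralizer_iff]
        rintro y ⟨a, ha, rfl⟩
        exact mem_centralizer_of_comm_mem V A hVc hAV hab hu hdA h1 ha
      let g : ↥A × ↥(cv V A) → ↥(A ⊓ Subgroup.centralizer (gens A u) : Subgroup G) :=
        fun x => if h : (x₀.1 : G)⁻¹ * (x.1 : G) ∈ (A ⊓ Subgroup.centralizer (gens A u) : Subgroup G)
          then ⟨_, h⟩ else 1
      have := Finset.card_le_card_of_injOn (s := (Finset.univ : Finset (↥A × ↥(cv V A))).filter fun x => f x = t)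
        (t := (Finset.univ : Finset ↥(A ⊓ Subgroup.centralizer (gens A u) : Subgroup G))) g
        (fun _ _ => Finset.mem_coe.mpr (Finset.mem_univ _)) (by
          intro x hx y hy hxy
          have hx' : f x = t := (Finset.mem_filter.mp (Finset.mem_coe.mp hx)).2
          have hy' : f y = t := (Finset.mem_filter.mp (Finset.mem_coe.mp hy)).2
          simp only [g, dif_pos (hmem x hx'), dif_pos (hmem y hy')] at hxy
          have h1 : (x₀.1 : G)⁻¹ * (x.1 : G) = (x₀.1 : G)⁻¹ * (y.1 : G) := congrArg Subtype.val hxy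
          have h2 : (x.1 : G) = (y.1 : G) := mul_left_cancel h1
          have h3 : ⁅u, (x.1 : G)⁆ * (x.2 : G) = ⁅u, (y.1 : G)⁆ * (y.2 : G) :=
            congrArg Subtype.val (hx'.trans hy'.symm)
          rw [h2] at h3
          have h4 : (x.2 : G) = (y.2 : G) := mul_left_cancel h3
          exact Prod.ext (Subtype.ext h2) (Subtype.ext h4))
      rwa [Finset.card_univ] at this
    have h1 := Finset.card_le_mul_card_image (Finset.univ : Finset (↥A × ↥(cv V A))) _ hfib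
    have h2 : ((Finset.univ : Finset (↥A × ↥(cv V A))).image f).card ≤
        Fintype.card ↥(Subgroup.closure (gens A u) ⊔ cv V A : Subgroup G) := Finset.card_le_univ _
    rw [Finset.card_univ, Fintype.card_prod] at h1
    simp only [Nat.card_eq_fintype_card]
    exact h1.trans (Nat.mul_le_mul_left _ h2)


/-- SE under maximality -/
theorem single_element_max [Finite G] (V A : Subgroup G) (hVc : ∀ x ∈ V, ∀ y ∈ V, x * y = y * x)
    (hAV : A ≤ Subgroup.normalizer (V : Set G))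
    (hab : ⁅A, A⁆ ≤ Subgroup.centralizer (V : Set G))
    (hmax : ∀ B : Subgroup G, B ≤ A → mm V B ≤ mm V A) {u : G} (hu : u ∈ V) :
    mm V (A ⊓ Subgroup.centralizer (gens A u)) = mm V A ∧
    cv V (A ⊓ Subgroup.centralizer (gens A u)) = Subgroup.closure (gens A u) ⊔ cv V A := by
  obtain ⟨h1, h2⟩ := single_element V A hVc hAV hab hu
  have h3 : Nat.card (Subgroup.closure (gens A u) ⊔ cv V A : Subgroup G) ≤
      Nat.card (cv V (A ⊓ Subgroup.centralizer (gens A u))) := Subgroup.card_le_of_le h1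
  have h4 := hmax (A ⊓ Subgroup.centralizer (gens A u)) inf_le_left
  have hBpos : 0 < Nat.card (A ⊓ Subgroup.centralizer (gens A u) : Subgroup G) := Nat.card_pos
  have h5 : mm V A ≤ mm V (A ⊓ Subgroup.centralizer (gens A u)) :=
    h2.trans (Nat.mul_le_mul_left _ h3)
  have hm := le_antisymm h4 h5
  refine ⟨hm, ?_⟩
  symm
  apply Subgroup.eq_of_le_of_card_ge h1
  have : Nat.card (A ⊓ Subgroup.centralizer (gens A u) : Subgroup G) *
      Nat.card (cv V (A ⊓ Subgroup.centralizer (gens A u))) ≤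
      Nat.card (A ⊓ Subgroup.centralizer (gens A u) : Subgroup G) *
        Nat.card (Subgroup.closure (gens A u) ⊔ cv V A : Subgroup G) := by
    calc _ = mm V A := hm
      _ ≤ _ := h2
  exact Nat.le_of_mul_le_mul_left this hBpos

/-- generators `[u, a]`, `u ∈ S`, `a ∈ A` -/
abbrev gensS (A : Subgroup G) (S : Set G) : Set G := {x | ∃ u ∈ S, ∃ a ∈ A, ⁅u, a⁆ = x}

theorem centralizer_union' (X Y : Set G) :
    Subgroup.centralizer (X ∪ Y) = Subgroup.centralizer X ⊓ Subgroup.centralizer Y := by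
  ext g
  simp only [Subgroup.mem_inf, Subgroup.mem_centralizer_iff, Set.mem_union]
  constructor
  · intro h
    exact ⟨fun x hx => h x (Or.inl hx), fun x hx => h x (Or.inr hx)⟩
  · rintro ⟨h1, h2⟩ x (hx | hx)
    · exact h1 x hx
    · exact h2 x hx

/-- the replacement theorem for a finite set of elements of `V` -/
theorem replacement_finset [Finite G] [DecidableEq G] (V A : Subgroup G)
    (hVc : ∀ x ∈ V, ∀ y ∈ V, x * y = y * x)
    (hAV : A ≤ Subgroup.normalizer (V : Set G))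
    (hab : ⁅A, A⁆ ≤ Subgroup.centralizer (V : Set G))
    (hmax : ∀ B : Subgroup G, B ≤ A → mm V B ≤ mm V A) (S : Finset G) (hS : ∀ u ∈ S, u ∈ V) :
    mm V (A ⊓ Subgroup.centralizer (gensS A (S : Set G))) = mm V A ∧
    cv V (A ⊓ Subgroup.centralizer (gensS A (S : Set G))) =
      Subgroup.closure (gensS A (S : Set G)) ⊔ cv V A := by
  induction S using Finset.induction_on with
  | empty =>
    have h0 : gensS A ((∅ : Finset G) : Set G) = ∅ := by
      ext x; simp [gensS]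
    rw [h0]
    have h1 : Subgroup.centralizer (∅ : Set G) = ⊤ := by
      rw [Subgroup.centralizer_eq_top_iff_subset]; exact Set.empty_subset _
    rw [h1, inf_top_eq, Subgroup.closure_empty, bot_sup_eq]
    exact ⟨rfl, rfl⟩
  | insert u S' hu ih =>
    have hS' : ∀ v ∈ S', v ∈ V := fun v hv => hS v (Finset.mem_insert_of_mem hv)
    have huV : u ∈ V := hS u (Finset.mem_insert_self u S')
    obtain ⟨ih1, ih2⟩ := ih hS'
    obtain ⟨s1, s2⟩ := single_element_max V A hVc hAV hab hmax huV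
    have hunion : gensS A ((insert u S' : Finset G) : Set G) = gens A u ∪ gensS A (S' : Set G) := by
      ext x
      simp only [gensS, gens, Finset.coe_insert, Set.mem_insert_iff, Set.mem_setOf_eq, Set.mem_union,
        Finset.mem_coe]
      constructor
      · rintro ⟨v, hv | hv, a, ha, rfl⟩
        · left; exact ⟨a, ha, by rw [hv]⟩
        · right; exact ⟨v, hv, a, ha, rfl⟩
      · rintro (⟨a, ha, rfl⟩ | ⟨v, hv, a, ha, rfl⟩)
        · exact ⟨u, Or.inl rfl, a, ha, rfl⟩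
        · exact ⟨v, Or.inr hv, a, ha, rfl⟩
    have hB : A ⊓ Subgroup.centralizer (gensS A ((insert u S' : Finset G) : Set G)) =
        (A ⊓ Subgroup.centralizer (gens A u)) ⊓ (A ⊓ Subgroup.centralizer (gensS A (S' : Set G))) := by
      rw [hunion, centralizer_union']
      ext g
      simp only [Subgroup.mem_inf]
      tauto
    obtain ⟨t1, t2⟩ := inter_of_max V A _ _ inf_le_left inf_le_left hmax s1 ih1
    rw [hB]
    refine ⟨t1, ?_⟩
    rw [t2, s2, ih2, hunion, Subgroup.closure_union]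
    apply le_antisymm
    · apply sup_le
      · exact sup_le (le_sup_left.trans le_sup_left) le_sup_right
      · exact sup_le (le_sup_right.trans le_sup_left) le_sup_right
    · apply sup_le
      · exact sup_le (le_sup_left.trans le_sup_left) (le_sup_left.trans le_sup_right)
      · exact le_sup_right.trans le_sup_left

/-- the replacement theorem under the maximality hypothesis -/
theorem replacement [Finite G] (V A U : Subgroup G)
    (hVc : ∀ x ∈ V, ∀ y ∈ V, x * y = y * x)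
    (hAV : A ≤ Subgroup.normalizer (V : Set G))
    (hab : ⁅A, A⁆ ≤ Subgroup.centralizer (V : Set G)) (hU : U ≤ V)
    (hmax : ∀ B : Subgroup G, B ≤ A → mm V B ≤ mm V A) :
    mm V (A ⊓ Subgroup.centralizer ((⁅U, A⁆ : Subgroup G) : Set G)) = mm V A ∧
    cv V (A ⊓ Subgroup.centralizer ((⁅U, A⁆ : Subgroup G) : Set G)) = ⁅U, A⁆ ⊔ cv V A := by
  classical
  have hfin : (U : Set G).Finite := Set.toFinite _
  have h := replacement_finset V A hVc hAV hab hmax hfin.toFinset (by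
    intro u hu
    exact hU (hfin.mem_toFinset.mp hu))
  have hg : gensS A ((hfin.toFinset : Finset G) : Set G) = {g | ∃ g₁ ∈ U, ∃ g₂ ∈ A, ⁅g₁, g₂⁆ = g} := by
    ext x
    simp [gensS]
  rw [hg] at h
  have hcl : Subgroup.closure {g | ∃ g₁ ∈ U, ∃ g₂ ∈ A, ⁅g₁, g₂⁆ = g} = ⁅U, A⁆ :=
    (Subgroup.commutator_def U A).symm
  have hcen : Subgroup.centralizer ((⁅U, A⁆ : Subgroup G) : Set G) =
      Subgroup.centralizer {g | ∃ g₁ ∈ U, ∃ g₂ ∈ A, ⁅g₁, g₂⁆ = g} := by
    rw [← hcl, Subgroup.centralizer_closure]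
  rw [hcen, ← hcl]
  exact h

/-- Thompson's replacement dichotomy: for A acting with abelian image on an elementary abelian p-group V and U ≤ V, either some subgroup of A increases the product of its order with the order of its fixed points, or C_A([U,A]) preserves that product and has fixed points exactly [U,A]C_V(A). -/
theorem result {G : Type*} [Group G] [Finite G] {p : ℕ} [Fact p.Prime] (V A : Subgroup G) (hV : Cfsg.IsElementaryAbelian p V) (hAV : A ≤ Subgroup.normalizer (V : Set G)) (hab : ⁅A, A⁆ ≤ Subgroup.centralizer (V : Set G)) (U : Subgroup G) (hU : U ≤ V) : ∃ B : Subgroup G, B ≤ A ∧ ((Nat.card A * Nat.card ↥(V ⊓ Subgroup.centralizer (A : Set G)) < Nat.card B * Nat.card ↥(V ⊓ Subgroup.centralizer (B : Set G))) ∨ (B = A ⊓ Subgroup.centralizer ((⁅U, A⁆ : Subgroup G) : Set G) ∧ (V ⊓ Subgroup.centralizer (B : Set G)) = ⁅U, A⁆ ⊔ (V ⊓ Subgroup.centralizer (A : Set G)) ∧ Nat.card A * Nat.card ↥(V ⊓ Subgroup.centralizer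 (A : Set G)) = Nat.card B * Nat.card ↥(V ⊓ Subgroup.centralizer (B : Set G)))) := by
  by_cases hmax : ∀ B : Subgroup G, B ≤ A → mm V B ≤ mm V A
  · have hVc : ∀ x ∈ V, ∀ y ∈ V, x * y = y * x := by
      intro x hx y hy
      have := hV.1
      have h1 := mul_comm' (⟨x, hx⟩ : V) ⟨y, hy⟩
      exact congrArg Subtype.val h1
    obtain ⟨h1, h2⟩ := replacement V A U hVc hAV hab hU hmax
    exact ⟨A ⊓ Subgroup.centralizer ((⁅U, A⁆ : Subgroup G) : Set G), inf_le_left,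
      Or.inr ⟨rfl, h2, h1.symm⟩⟩
  · push Not at hmax
    obtain ⟨B, hB, hlt⟩ := hmax
    exact ⟨B, hB, Or.inl hlt⟩

end Cfsg.Agent.S0598
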