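import Cfsg.Statements.S3734
import Mathlib
import Cfsg.Agent.Lib.Helper6.HolomorphGen
import Cfsg.Agent.Lib.Helper13.Coprime

set_option autoImplicit false
open Cfsg

namespace Cfsg.Agent.S3734

variable {X : Type*} [Group X]

/-- the subgroup generated by the `G ⊓ C(B)` -/
def gen (A G : Subgroup X) : Subgroup X :=
  ⨆ B ∈ {B : Subgroup X | B ≤ A ∧ ∃ a ∈ A, B ⊔ Subgroup.zpowers a = A},
    G ⊓ Subgroup.centralizer (B : Set X)

theorem gen_mono (A : Subgroup X) {G' G : Subgroup X} (h : G' ≤ G) : gen A G' ≤ gen A G :=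
  iSup₂_mono fun _ _ => inf_le_inf_right _ h

theorem gen_le (A G : Subgroup X) : gen A G ≤ G :=
  iSup₂_le fun _ _ => inf_le_left

theorem conj_mem_of_le_normalizer {A G : Subgroup X} (hAG : A ≤ Subgroup.normalizer (G : Set X))
    {a g : X} (ha : a ∈ A) (hg : g ∈ G) : a * g * a⁻¹ ∈ G :=
  (Subgroup.mem_normalizer_iff.mp (hAG ha) g).mp hg

theorem le_normalizer_of_conj_mem' (A N : Subgroup X)
    (h : ∀ x ∈ A, ∀ n ∈ N, x * n * x⁻¹ ∈ N) : A ≤ Subgroup.normalizer (N : Set X) := by
  intro x hx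
  rw [Subgroup.mem_normalizer_iff]
  intro n
  refine ⟨h x hx n, fun hn => ?_⟩
  have := h x⁻¹ (A.inv_mem hx) _ hn
  simpa [mul_assoc] using this

theorem part1 [Finite X] (A : Subgroup X) (hAab : IsMulCommutative A) :
    ∀ (n : ℕ) (G : Subgroup X), Nat.card G = n → A ≤ Subgroup.normalizer (G : Set X) →
      (Nat.card A).Coprime (Nat.card G) → G ≤ gen A G := by
  intro n
  induction n using Nat.strong_induction_on with
  | _ n ih =>
  intro G hn hAG hcop
  have hcomm : ∀ a b : X, a ∈ A → b ∈ A → a * b = b * a := fun a b ha hb =>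
    congrArg Subtype.val (hAab.is_comm.comm (⟨a, ha⟩ : A) ⟨b, hb⟩)
  let ψ : ↥A →* MulAut ↥G := G.normalizerMonoidHom.comp (Subgroup.inclusion hAG)
  have hψ : ∀ (a : ↥A) (g : ↥G), ((ψ a g : ↥G) : X) = a * g * (a : X)⁻¹ := fun a g => rfl
  let H : Subgroup (MulAut ↥G) := ψ.range
  letI : CommGroup ↥H :=
    { (inferInstance : Group ↥H) with
      mul_comm := by
        rintro ⟨_, ⟨a, rfl⟩⟩ ⟨_, ⟨b, rfl⟩⟩
        apply Subtype.ext
        show ψ a * ψ b = ψ b * ψ a
        rw [← map_mul, ← map_mul, hAab.is_comm.comm a b] }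
  by_cases hcyc : IsCyclic ↥H
  · -- cyclic case: `C_A(G)` is cocyclic
    obtain ⟨⟨_, ⟨a, rfl⟩⟩, hgen⟩ := IsCyclic.exists_generator (α := ↥H)
    set B : Subgroup X := A ⊓ Subgroup.centralizer (G : Set X) with hB
    have hBmem : B ∈ {B : Subgroup X | B ≤ A ∧ ∃ a ∈ A, B ⊔ Subgroup.zpowers a = A} := by
      refine ⟨inf_le_left, (a : X), a.2, le_antisymm (sup_le inf_le_left ?_) ?_⟩
      · rw [Subgroup.zpowers_le]; exact a.2
      · intro z hz
        obtain ⟨k, hk⟩ := Subgroup.mem_zpowers_iff.mp (hgen ⟨ψ ⟨z, hz⟩, ⟨_, rfl⟩⟩)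
        have hk' : ψ a ^ k = ψ ⟨z, hz⟩ := congrArg Subtype.val hk
        rw [← map_zpow] at hk'
        have hmem : z * ((a : X) ^ k)⁻¹ ∈ B := by
          refine ⟨A.mul_mem hz (A.inv_mem (A.zpow_mem a.2 k)), ?_⟩
          show _ ∈ Subgroup.centralizer (G : Set X)
          rw [Subgroup.mem_centralizer_iff]
          intro g hg
          have h1 := congrArg (fun f => ((f ⟨g, hg⟩ : ↥G) : X)) hk'
          simp only [hψ] at h1
          have h2 : ((a ^ k : ↥A) : X) = (a : X) ^ k := by simp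
          rw [h2] at h1
          have hc := hcomm z ((a : X) ^ k) hz (A.zpow_mem a.2 k)
          have hc' : ((a : X) ^ k)⁻¹ * z = z * ((a : X) ^ k)⁻¹ := by
            rw [inv_mul_eq_iff_eq_mul, ← mul_assoc, ← hc, mul_assoc, mul_inv_cancel,
              mul_one]
          calc g * (z * ((a : X) ^ k)⁻¹) = g * (((a : X) ^ k)⁻¹ * z) := by rw [hc']
            _ = ((a : X) ^ k)⁻¹ * ((a : X) ^ k * g * ((a : X) ^ k)⁻¹) * z := by group
            _ = ((a : X) ^ k)⁻¹ * (z * g * z⁻¹) * z := by rw [h1]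
            _ = (((a : X) ^ k)⁻¹ * z) * g := by group
            _ = z * ((a : X) ^ k)⁻¹ * g := by rw [hc']
        have : z = (z * ((a : X) ^ k)⁻¹) * (a : X) ^ k := by group
        rw [this]
        exact Subgroup.mul_mem_sup hmem (Subgroup.zpow_mem_zpowers _ k)
    refine le_iSup₂_of_le B hBmem (le_inf le_rfl ?_)
    rw [Subgroup.le_centralizer_iff]
    exact inf_le_right
  · obtain ⟨r, hr, α, β, hα, hβ, hα1, hβα⟩ := Lib.Helper12.exists_rank_two (H := ↥H) hcyc
    haveI : Fact r.Prime := ⟨hr⟩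
    have hrA : r ∣ Nat.card A := by
      have h1 : orderOf α = r := orderOf_eq_prime hα hα1
      have h2 : orderOf α ∣ Nat.card ↥H := orderOf_dvd_natCard α
      rw [h1] at h2
      exact h2.trans (Subgroup.card_range_dvd ψ)
    have hcopr : (Nat.card ↥G).Coprime r := (Nat.Coprime.coprime_dvd_left hrA hcop).symm
    set N₀ : Subgroup ↥G := (gen A G).subgroupOf G with hN₀
    have key : ∀ γ ∈ H, γ ≠ 1 → ∀ g₀ : ↥G, γ g₀ = g₀ → g₀ ∈ N₀ := by
      rintro _ ⟨z, rfl⟩ hγ g₀ hg₀
      set Gz : Subgroup X := G ⊓ Subgroup.centralizer ({(z : X)} : Set X) with hGz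
      have hlt : Gz < G := by
        refine lt_of_le_of_ne inf_le_left (fun heq => hγ ?_)
        ext g
        rw [hψ]
        have hg : (g : X) ∈ Gz := by rw [heq]; exact g.2
        have h1 : (g : X) * z = z * g := Subgroup.mem_centralizer_singleton_iff.mp hg.2
        simp only [MulAut.one_apply]
        rw [← h1]; group
      have hcard : Nat.card Gz < n := by
        rw [← hn]; exact Lib.Helper13.card_lt_of_lt hlt
      have hAGz : A ≤ Subgroup.normalizer (Gz : Set X) := by
        apply le_normalizer_of_conj_mem'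
        intro a ha g hg
        refine ⟨conj_mem_of_le_normalizer hAG ha hg.1, ?_⟩
        show _ ∈ Subgroup.centralizer ({(z : X)} : Set X)
        rw [Subgroup.mem_centralizer_singleton_iff]
        have h1 : g * z = z * g := Subgroup.mem_centralizer_singleton_iff.mp hg.2
        have h2 := hcomm a z ha z.2
        have h3 : a⁻¹ * z = z * a⁻¹ := by
          rw [inv_mul_eq_iff_eq_mul, ← mul_assoc, h2, mul_assoc, mul_inv_cancel, mul_one]
        calc a * g * a⁻¹ * z = a * g * (a⁻¹ * z) := by group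
          _ = a * (g * z) * a⁻¹ := by rw [h3]; group
          _ = (a * z) * g * a⁻¹ := by rw [h1]; group
          _ = z * (a * g * a⁻¹) := by rw [h2]; group
      have hcopz : (Nat.card A).Coprime (Nat.card Gz) :=
        Nat.Coprime.coprime_dvd_right (Subgroup.card_dvd_of_le inf_le_left) hcop
      have hle := (ih _ hcard Gz rfl hAGz hcopz).trans (gen_mono A inf_le_left)
      rw [hN₀, Subgroup.mem_subgroupOf]
      apply hle
      refine ⟨g₀.2, ?_⟩
      show _ ∈ Subgroup.centralizer ({(z : X)} : Set X)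
      rw [Subgroup.mem_centralizer_singleton_iff]
      have h1 := congrArg Subtype.val hg₀
      rw [hψ] at h1
      calc (g₀ : X) * z = ((z : X) * g₀ * (z : X)⁻¹) * z := by rw [h1]
        _ = z * g₀ := by group
    have htop : N₀ = ⊤ := by
      apply Lib.Helper6.holomorph_gen r hcopr (α : MulAut ↥G) (β : MulAut ↥G)
      · exact congrArg Subtype.val (mul_comm α β)
      · exact congrArg Subtype.val hα
      · exact congrArg Subtype.val hβ
      · exact key α α.2 (fun h => hα1 (Subtype.ext h))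
      · intro i
        apply key _ (H.mul_mem (H.pow_mem α.2 _) β.2)
        intro h
        apply hβα
        have h' : α ^ i.val * β = 1 := Subtype.ext h
        rw [mul_eq_one_iff_eq_inv] at h'
        have : β = (α ^ i.val)⁻¹ := by rw [h', inv_inv]
        rw [this]
        exact Subgroup.inv_mem _ (Subgroup.npow_mem_zpowers _ _)
    intro g hg
    have : (⟨g, hg⟩ : ↥G) ∈ N₀ := by rw [htop]; trivial
    exact Subgroup.mem_subgroupOf.mp this

theorem le_normalizer_biSup {ι : Type*} (A : Subgroup X) (S : Set ι) (K : ι → Subgroup X)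
    (h : ∀ i ∈ S, A ≤ Subgroup.normalizer (K i : Set X)) :
    A ≤ Subgroup.normalizer ((⨆ i ∈ S, K i : Subgroup X) : Set X) := by
  apply le_normalizer_of_conj_mem'
  intro a ha n hn
  have hle : (⨆ i ∈ S, K i) ≤ (⨆ i ∈ S, K i).comap (MulAut.conj a).toMonoidHom := by
    apply iSup₂_le
    intro i hi k hk
    rw [Subgroup.mem_comap]
    show a * k * a⁻¹ ∈ _
    exact (le_iSup₂_of_le i hi le_rfl : K i ≤ _) (conj_mem_of_le_normalizer (h i hi) ha hk)
  exact hle hn

open Lib.Helper13 in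
open scoped Pointwise commutatorElement in
theorem part2 [Finite X] (A G : Subgroup X) (hAab : IsMulCommutative A)
    (hAG : A ≤ Subgroup.normalizer (G : Set X)) (hcop : (Nat.card A).Coprime (Nat.card G)) :
    ⁅G, A⁆ ≤ ⨆ B ∈ {B : Subgroup X | B ≤ A ∧ ∃ a ∈ A, B ⊔ Subgroup.zpowers a = A},
      ⁅G ⊓ Subgroup.centralizer (B : Set X), A⁆ := by
  have hcomm : ∀ a b : X, a ∈ A → b ∈ A → a * b = b * a := fun a b ha hb =>
    congrArg Subtype.val (hAab.is_comm.comm (⟨a, ha⟩ : A) ⟨b, hb⟩)
  set 𝓑 : Set (Subgroup X) := {B : Subgroup X | B ≤ A ∧ ∃ a ∈ A, B ⊔ Subgroup.zpowers a = A}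
    with h𝓑
  set G₂ : Subgroup X := ⨆ B ∈ 𝓑, ⁅G ⊓ Subgroup.centralizer (B : Set X), A⁆ with hG₂
  set H : Subgroup X := ⁅G, A⁆ with hH
  have hHG : H ≤ G := commutator_le_of_le_normalizer G A hAG
  have hAH : A ≤ Subgroup.normalizer (H : Set X) :=
    le_sup_right.trans (le_normalizer_commutator G A)
  have hcopH : (Nat.card A).Coprime (Nat.card H) :=
    Nat.Coprime.coprime_dvd_right (Subgroup.card_dvd_of_le hHG) hcop
  have hsolv : Group.IsSolvable A := Group.isSolvable_of_comm hAab.is_comm.comm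
  have hH1 : H ≤ gen A H := part1 A hAab _ H rfl hAH hcopH
  have hstable : ⁅H, A⁆ = H := coprime_commutator_stable A G hAG hcop (Or.inl hsolv)
  set C : Subgroup X := H ⊓ Subgroup.centralizer (A : Set X) with hC
  have hpiece : ∀ B ∈ 𝓑, H ⊓ Subgroup.centralizer (B : Set X) ≤ G₂ ⊔ C := by
    intro B hB
    have hAHB : A ≤ Subgroup.normalizer ((H ⊓ Subgroup.centralizer (B : Set X) : Subgroup X) : Set X) := by
      apply le_normalizer_of_conj_mem'
      intro a ha g hg
      refine ⟨conj_mem_of_le_normalizer hAH ha hg.1, ?_⟩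
      show _ ∈ Subgroup.centralizer (B : Set X)
      rw [Subgroup.mem_centralizer_iff]
      intro b hb
      have h1 : b * g = g * b := Subgroup.mem_centralizer_iff.mp hg.2 b hb
      have h2 := hcomm a b ha (hB.1 hb)
      have h3 : a⁻¹ * b = b * a⁻¹ := by
        rw [inv_mul_eq_iff_eq_mul, ← mul_assoc, h2, mul_assoc, mul_inv_cancel, mul_one]
      calc b * (a * g * a⁻¹) = (b * a) * g * a⁻¹ := by group
        _ = a * (b * g) * a⁻¹ := by rw [← h2]; group
        _ = a * g * (b * a⁻¹) := by rw [h1]; group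
        _ = a * g * a⁻¹ * b := by rw [← h3]; group
    have hcopB : (Nat.card A).Coprime (Nat.card (H ⊓ Subgroup.centralizer (B : Set X) : Subgroup X)) :=
      Nat.Coprime.coprime_dvd_right (Subgroup.card_dvd_of_le inf_le_left) hcopH
    have hdec := coprime_commutator_sup_centralizer A (H ⊓ Subgroup.centralizer (B : Set X)) hAHB
      hcopB (Or.inl hsolv)
    rw [← hdec]
    apply sup_le_sup
    · exact le_iSup₂_of_le B hB (Subgroup.commutator_mono (inf_le_inf_right _ hHG) le_rfl)
    · exact inf_le_inf_right _ inf_le_left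
  have hH2 : H ≤ G₂ ⊔ C := hH1.trans (iSup₂_le hpiece)
  have hAG₂ : A ≤ Subgroup.normalizer (G₂ : Set X) :=
    le_normalizer_biSup A 𝓑 _ fun B _ => le_sup_right.trans (le_normalizer_commutator _ A)
  have hCG₂ : C ≤ Subgroup.normalizer (G₂ : Set X) :=
    le_normalizer_biSup C 𝓑 _ fun B hB =>
      (le_inf (inf_le_left.trans hHG) (inf_le_right.trans
        (Subgroup.centralizer_le (by exact_mod_cast hB.1)))).trans
        (le_sup_left.trans (le_normalizer_commutator _ A))
  rw [← hstable, Subgroup.commutator_le]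
  intro x hx a ha
  have hx' : x ∈ ((G₂ ⊔ C : Subgroup X) : Set X) := hH2 hx
  rw [Subgroup.coe_mul_of_right_le_normalizer_left G₂ C hCG₂] at hx'
  obtain ⟨n, hn, c, hc, rfl⟩ := Set.mem_mul.mp hx'
  have hn : n ∈ G₂ := hn
  have hc : c ∈ C := hc
  have hca : a * c = c * a := Subgroup.mem_centralizer_iff.mp hc.2 a ha
  have : ⁅n * c, a⁆ = n * (a * n⁻¹ * a⁻¹) := by
    rw [commutatorElement_def]
    calc n * c * a * (n * c)⁻¹ * a⁻¹ = n * (c * a) * c⁻¹ * n⁻¹ * a⁻¹ := by group
      _ = n * (a * c) * c⁻¹ * n⁻¹ * a⁻¹ := by rw [hca]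
      _ = n * (a * n⁻¹ * a⁻¹) := by group
  rw [this]
  exact G₂.mul_mem hn (conj_mem_of_le_normalizer hAG₂ ha (G₂.inv_mem hn))

/-- Let A and G be subgroups of a finite group with A abelian, A normalizing G and the orders of A and G coprime. Then G is generated by the fixed-point subgroups C_G(B) of those subgroups B of A for which A/B is cyclic (that is, A = ⟨B, a⟩ for some a), and [G, A] is generated by the commutator subgroups [C_G(B), A] over the same subgroups B. -/
theorem result {X : Type*} [Group X] [Finite X] (A G : Subgroup X) (hAab : IsMulCommutative A) (hAG : A ≤ Subgroup.normalizer (G : Set X)) (hcop : (Nat.card A).Coprime (Nat.card G)) : (⨆ B ∈ {B : Subgroup X | B ≤ A ∧ ∃ a ∈ A, B ⊔ Subgroup.zpowers a = A}, G ⊓ Subgroup.centralizer (B : Set X)) = G ∧ (⨆ B ∈ {B : Subgroup X | B ≤ A ∧ ∃ a ∈ A, B ⊔ Subgroup.zpowers a = A}, ⁅G ⊓ Subgroup.centralizer (B : Set X), A⁆) = ⁅G, A⁆ := by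
  refine ⟨le_antisymm (gen_le A G) (part1 A hAab _ G rfl hAG hcop), le_antisymm ?_ (part2 A G hAab hAG hcop)⟩
  exact iSup₂_le fun B _ => Subgroup.commutator_mono inf_le_left le_rfl

end Cfsg.Agent.S3734
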