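import Cfsg.Statements.S2833
import Cfsg.Agent.Lib.Helper16.ThompsonAxB2

set_option autoImplicit false
open Cfsg
open Cfsg.Agent.Lib.Helper16
open scoped commutatorElement Pointwise

namespace Cfsg.Agent.S2833

/-- If `X` and `Y` normalize `J` and `⁅V, X⁆, ⁅V, Y⁆ ≤ J` then `⁅V, X ⊔ Y⁆ ≤ J`. -/
theorem commutator_sup_le_of {G : Type*} [Group G] (V X Y J : Subgroup G)
    (hXJ : X ≤ Subgroup.normalizer (J : Set G)) (hYJ : Y ≤ Subgroup.normalizer (J : Set G))
    (hX : ⁅V, X⁆ ≤ J) (hY : ⁅V, Y⁆ ≤ J) : ⁅V, X ⊔ Y⁆ ≤ J := by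
  let S : Subgroup G :=
    { carrier := {l | l ∈ Subgroup.normalizer (J : Set G) ∧ ∀ v ∈ V, ⁅v, l⁆ ∈ J}
      one_mem' := ⟨Subgroup.one_mem _, fun v _ => by
        rw [commutatorElement_one_right]; exact J.one_mem⟩
      mul_mem' := by
        rintro a b ⟨ha1, ha2⟩ ⟨hb1, hb2⟩
        refine ⟨Subgroup.mul_mem _ ha1 hb1, fun v hv => ?_⟩
        have e : ⁅v, a * b⁆ = ⁅v, a⁆ * (a * ⁅v, b⁆ * a⁻¹) := by
          simp only [commutatorElement_def]; group
        rw [e]
        exact J.mul_mem (ha2 v hv) ((Subgroup.mem_normalizer_iff.mp ha1 _).mp (hb2 v hv))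
      inv_mem' := by
        rintro a ⟨ha1, ha2⟩
        refine ⟨Subgroup.inv_mem _ ha1, fun v hv => ?_⟩
        have e : ⁅v, a⁻¹⁆ = a⁻¹ * (⁅v, a⁆)⁻¹ * a⁻¹⁻¹ := by
          simp only [commutatorElement_def]; group
        rw [e]
        exact (Subgroup.mem_normalizer_iff.mp (Subgroup.inv_mem _ ha1) _).mp
          (J.inv_mem (ha2 v hv)) }
  have hXS : X ≤ S := fun x hx =>
    ⟨hXJ hx, fun v hv => hX (Subgroup.commutator_mem_commutator hv hx)⟩
  have hYS : Y ≤ S := fun y hy =>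
    ⟨hYJ hy, fun v hv => hY (Subgroup.commutator_mem_commutator hv hy)⟩
  rw [Subgroup.commutator_le]
  intro v hv l hl
  exact ((sup_le hXS hYS) hl).2 v hv

/-- For `B ≤ V` and `x ∈ X`: `B^x ≤ B ⊔ ⁅V, X⁆`. -/
theorem map_conj_le_sup_commutator {G : Type*} [Group G] (V X B : Subgroup G) (hBV : B ≤ V)
    {x : G} (hx : x ∈ X) : B.map (MulAut.conj x).toMonoidHom ≤ B ⊔ ⁅V, X⁆ := by
  rintro _ ⟨b, hb, rfl⟩
  show (MulAut.conj x) b ∈ _
  rw [MulAut.conj_apply]
  have e : x * b * x⁻¹ = (⁅b, x⁆)⁻¹ * b := by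
    simp only [commutatorElement_def]; group
  rw [e]
  exact (B ⊔ ⁅V, X⁆).mul_mem
    (le_sup_right (α := Subgroup G) (Subgroup.inv_mem _ (Subgroup.commutator_mem_commutator (hBV hb) hx)))
    (le_sup_left (α := Subgroup G) hb)

/-- Let V be a subgroup of a finite group G normalized by the subgroup L, let X ≤ L and g ∈ L with [V, X, X] = 1 and L generated by X and gXg⁻¹. Put W = [V, L]. Then W = [V, X]·[V, gXg⁻¹], C_W(X) = [V, X], and C_W(L) = [V, X] ∩ [V, gXg⁻¹]. -/
theorem result {G : Type*} [Group G] [Finite G] (V L : Subgroup G) (hLV : L ≤ Subgroup.normalizer (V : Set G)) (X : Subgroup G) (hX : X ≤ L) (g : G) (hg : g ∈ L) (hq : ⁅⁅V, X⁆, X⁆ = ⊥) (hgen : X ⊔ X.map (MulAut.conj g).toMonoidHom = L) (W : Subgroup G) (hW : W = ⁅V, L⁆) : ⁅V, X⁆ ⊔ ⁅V, X.map (MulAut.conj g).toMonoidHom⁆ = W ∧ W ⊓ Subgroup.centralizer (X : Set G) = ⁅V, X⁆ ∧ W ⊓ Subgroup.centralizer (L : Set G) = ⁅V, X⁆ ⊓ ⁅V, X.map (MulAut.conj g).toMonoidHom⁆ := by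
  set Xg := X.map (MulAut.conj g).toMonoidHom with hXg
  set A := ⁅V, X⁆ with hA
  set Ag := ⁅V, Xg⁆ with hAg'
  have hXgL : Xg ≤ L := by rw [← hgen]; exact le_sup_right
  have hXV : X ≤ Subgroup.normalizer (V : Set G) := hX.trans hLV
  have hXgV : Xg ≤ Subgroup.normalizer (V : Set G) := hXgL.trans hLV
  have hAV : A ≤ V := commutator_le_of_le_normalizer' V X hXV
  have hAgV : Ag ≤ V := commutator_le_of_le_normalizer' V Xg hXgV
  have hVA : V ≤ Subgroup.normalizer (A : Set G) := le_normalizer_commutator_left V X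
  have hXA : X ≤ Subgroup.normalizer (A : Set G) := le_normalizer_commutator_right V X
  have hXgAg : Xg ≤ Subgroup.normalizer (Ag : Set G) := le_normalizer_commutator_right V Xg
  have hAW : A ≤ W := by rw [hW]; exact Subgroup.commutator_mono le_rfl hX
  have hAgW : Ag ≤ W := by rw [hW]; exact Subgroup.commutator_mono le_rfl hXgL
  -- X and Xg normalize J = A ⊔ Ag
  have key1 : ∀ x ∈ X, (A ⊔ Ag).map (MulAut.conj x).toMonoidHom ≤ A ⊔ Ag := by
    intro x hx
    rw [Subgroup.map_sup]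
    apply sup_le
    · rw [(map_conj_eq_self_iff A x).mpr (hXA hx)]; exact le_sup_left
    · refine (map_conj_le_sup_commutator V X Ag hAgV hx).trans ?_
      rw [sup_comm]
  have key2 : ∀ x ∈ Xg, (A ⊔ Ag).map (MulAut.conj x).toMonoidHom ≤ A ⊔ Ag := by
    intro x hx
    rw [Subgroup.map_sup]
    apply sup_le
    · exact map_conj_le_sup_commutator V Xg A hAV hx
    · rw [(map_conj_eq_self_iff Ag x).mpr (hXgAg hx)]; exact le_sup_right
  have hXJ : X ≤ Subgroup.normalizer ((A ⊔ Ag : Subgroup G) : Set G) := fun x hx =>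
    mem_normalizer_of_map_conj_le _ x (key1 x hx) (key1 x⁻¹ (X.inv_mem hx))
  have hXgJ : Xg ≤ Subgroup.normalizer ((A ⊔ Ag : Subgroup G) : Set G) := fun x hx =>
    mem_normalizer_of_map_conj_le _ x (key2 x hx) (key2 x⁻¹ (Xg.inv_mem hx))
  have part1 : A ⊔ Ag = W := by
    apply le_antisymm (sup_le hAW hAgW)
    rw [hW, ← hgen]
    exact commutator_sup_le_of V X Xg (A ⊔ Ag) hXJ hXgJ le_sup_left le_sup_right
  -- quadratic action
  have hAX : A ≤ Subgroup.centralizer (X : Set G) :=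
    Subgroup.commutator_eq_bot_iff_le_centralizer.mp hq
  have hAg : Ag = A.map (MulAut.conj g).toMonoidHom := by
    rw [hA, Subgroup.map_commutator, (map_conj_eq_self_iff V g).mpr (hLV hg)]
  have hqg : ⁅Ag, Xg⁆ = ⊥ := by
    rw [hAg, hXg, ← Subgroup.map_commutator, hq, Subgroup.map_bot]
  have hAgXg : Ag ≤ Subgroup.centralizer (Xg : Set G) :=
    Subgroup.commutator_eq_bot_iff_le_centralizer.mp hqg
  -- elements of `Ag ∩ C(X)` lie in `A`
  have hcomm_g : ∀ b : G, b ∈ Subgroup.centralizer (X : Set G) →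
      b ∈ Subgroup.centralizer (Xg : Set G) → g * b = b * g := by
    intro b hb1 hb2
    have h1 : X ≤ Subgroup.centralizer ({b} : Set G) := by
      intro x hx
      rw [Subgroup.mem_centralizer_iff]
      intro h hh
      rw [Set.mem_singleton_iff.mp hh]
      exact (Subgroup.mem_centralizer_iff.mp hb1 x hx).symm
    have h2 : Xg ≤ Subgroup.centralizer ({b} : Set G) := by
      intro x hx
      rw [Subgroup.mem_centralizer_iff]
      intro h hh
      rw [Set.mem_singleton_iff.mp hh]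
      exact (Subgroup.mem_centralizer_iff.mp hb2 x hx).symm
    have h3 : g ∈ Subgroup.centralizer ({b} : Set G) := by
      have : L ≤ Subgroup.centralizer ({b} : Set G) := by rw [← hgen]; exact sup_le h1 h2
      exact this hg
    exact (Subgroup.mem_centralizer_iff.mp h3 b rfl).symm
  have part2 : W ⊓ Subgroup.centralizer (X : Set G) = A := by
    apply le_antisymm
    · intro w hw
      obtain ⟨hwW, hwC⟩ := Subgroup.mem_inf.mp hw
      rw [← part1] at hwW
      have hw' : w ∈ ((A ⊔ Ag : Subgroup G) : Set G) := hwW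
      rw [Subgroup.coe_mul_of_right_le_normalizer_left A Ag (hAgV.trans hVA)] at hw'
      obtain ⟨a, ha, b, hb, rfl⟩ := hw'
      have ha' : a ∈ A := ha
      have hb' : b ∈ Ag := hb
      have hbX : b ∈ Subgroup.centralizer (X : Set G) := by
        have : b = a⁻¹ * (a * b) := by group
        rw [this]
        exact Subgroup.mul_mem _ (Subgroup.inv_mem _ (hAX ha')) hwC
      have hgb := hcomm_g b hbX (hAgXg hb')
      have hbA : b ∈ A := by
        rw [hAg, mem_map_conj_iff] at hb'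
        have : g⁻¹ * b * g = b := by rw [mul_assoc, ← hgb]; group
        rwa [this] at hb'
      exact A.mul_mem ha' hbA
    · exact le_inf hAW hAX
  refine ⟨part1, part2, ?_⟩
  apply le_antisymm
  · intro w hw
    obtain ⟨hwW, hwC⟩ := Subgroup.mem_inf.mp hw
    have hwX : w ∈ Subgroup.centralizer (X : Set G) := Subgroup.centralizer_le hX hwC
    have hwA : w ∈ A := by
      rw [← part2]; exact Subgroup.mem_inf.mpr ⟨hwW, hwX⟩
    refine Subgroup.mem_inf.mpr ⟨hwA, ?_⟩
    rw [hAg]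
    have hgw : g * w = w * g := (Subgroup.mem_centralizer_iff.mp hwC g hg)
    have : g * w * g⁻¹ = w := by rw [hgw]; group
    rw [← this]
    exact conj_mem_map_conj A g hwA
  · apply le_inf (inf_le_left.trans hAW)
    rw [Subgroup.le_centralizer_iff, ← hgen]
    apply sup_le
    · exact (Subgroup.le_centralizer_iff.mp hAX).trans (Subgroup.centralizer_le inf_le_left)
    · exact (Subgroup.le_centralizer_iff.mp hAgXg).trans (Subgroup.centralizer_le inf_le_right)

end Cfsg.Agent.S2833
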