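import Cfsg.Statements.S0611
import Mathlib
import Cfsg.Agent.Lib.Helper14.Offender2

set_option autoImplicit false
open Cfsg

namespace Cfsg.Agent.S0611

/-- Minimal nontrivially-acting best offenders in such a faithful group have order p, commutator [V, B] of order p and fixed points of index p. -/
theorem result {G : Type*} [Group G] [Finite G] {p : ℕ} [Fact p.Prime] (V H : Subgroup G) (hV : Cfsg.IsElementaryAbelian p V) (hHV : H ≤ Subgroup.normalizer (V : Set G)) (hf : H ⊓ Subgroup.centralizer (V : Set G) = ⊥) (hS1 : Subgroup.centralizer (Cfsg.pPrimeCore p ↥H : Set ↥H) ≤ Cfsg.pPrimeCore p ↥H) (hS3 : H = ⨆ A : {A : Subgroup G // A ≤ H ∧ Cfsg.IsBestOffenderOn p V A}, (A : Subgroup G)) (hH1 : H ≠ ⊥) (A : Subgroup G) (hAH : A ≤ H) (hA : Cfsg.IsBestOffenderOn p V A) (hAV : ⁅V, A⁆ ≠ ⊥) (hmin : ∀ B : Subgroup G, B ≤ A → Cfsg.IsBestOffenderOn p V B → ⁅V, B⁆ ≠ ⊥ → B = A) : Nat.card A = p ∧ Nat.card ↥(⁅V, A⁆) = p ∧ ((V ⊓ Subgroup.centralizer (A : Set G))).relIndex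 V = p := by
  have hp : p.Prime := Fact.out
  have hVp : IsPGroup p V := Cfsg.Agent.Lib.Helper17.ea_isPGroup hV
  have hS1' := Cfsg.Agent.Lib.Helper14.Off.kk_self_centralizing p H hS1
  have hA1 : A ≠ ⊥ := by
    intro h
    apply hAV
    rw [h, Subgroup.commutator_bot_right]
  have hcard : Nat.card A = p :=
    Cfsg.Agent.Lib.Helper14.Off.card_eq_p_of_minimal V H hVp hHV hf hS1' A hAH hA hA1 hmin
  have hmm := Cfsg.Agent.Lib.Helper14.Off.mm_eq_of_bestOffender V H hVp hHV hf hS1' A hAH hA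
  have hcvpos : 0 < Nat.card ↥(V ⊓ Subgroup.centralizer (A : Set G)) := Nat.card_pos
  have hrel : (V ⊓ Subgroup.centralizer (A : Set G)).relIndex V = p := by
    have h1 := Cfsg.Agent.S0598.card_mul_relIndex
      (inf_le_left : V ⊓ Subgroup.centralizer (A : Set G) ≤ V)
    have h2 : p * Nat.card ↥(V ⊓ Subgroup.centralizer (A : Set G)) = Nat.card V := by
      rw [← hcard]; exact hmm
    rw [← h2, mul_comm p] at h1
    exact Nat.eq_of_mul_eq_mul_left hcvpos h1
  refine ⟨hcard, ?_, hrel⟩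
  -- A = zpowers a
  obtain ⟨a, haA, ha1⟩ : ∃ a ∈ A, a ≠ 1 := by
    by_contra hcon
    push Not at hcon
    apply hA1
    rw [eq_bot_iff]
    intro x hx
    exact Subgroup.mem_bot.mpr (hcon x hx)
  have hea := Cfsg.Agent.Lib.Helper14.Off.ea_of_bestOffender V H A hf hAH hA
  have hord : orderOf a = p := by
    have hdvd : orderOf a ∣ p := orderOf_dvd_of_pow_eq_one (hea.2 a haA)
    rcases (Nat.dvd_prime hp).mp hdvd with h | h
    · exact absurd (orderOf_eq_one_iff.mp h) ha1
    · exact h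
  have hAz : Subgroup.zpowers a = A := by
    apply Subgroup.eq_of_le_of_card_ge
    · rw [Subgroup.zpowers_le]; exact haA
    · rw [Nat.card_zpowers, hord, hcard]
  have hVab : V ≤ Subgroup.centralizer (V : Set G) :=
    (Cfsg.Agent.Lib.Helper17.ea_iff.mp hV).1
  have h3 := Cfsg.Agent.Lib.Helper14.Off.card_commutator_zpowers_mul V hVab a (hHV (hAH haA))
  rw [hAz] at h3
  have h2 : p * Nat.card ↥(V ⊓ Subgroup.centralizer (A : Set G)) = Nat.card V := by
    rw [← hcard]; exact hmm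
  rw [← h2] at h3
  exact Nat.eq_of_mul_eq_mul_right hcvpos h3

end Cfsg.Agent.S0611
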