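import Cfsg.Statements.S0590
import Mathlib

set_option autoImplicit false
open Cfsg
open scoped commutatorElement

namespace Cfsg.Agent.S0590

/-- Quadratic action on an elementary abelian p-group forces the acting group modulo the kernel of the action to be elementary abelian. -/
theorem result {G : Type*} [Group G] [Finite G] {p : ℕ} [Fact p.Prime] (V H : Subgroup G) (hV : Cfsg.IsElementaryAbelian p V) (hHV : H ≤ Subgroup.normalizer (V : Set G)) (hq : ⁅⁅V, H⁆, H⁆ = ⊥) : ⁅H, H⁆ ≤ Subgroup.centralizer (V : Set G) ∧ ∀ a ∈ H, a ^ p ∈ Subgroup.centralizer (V : Set G) := by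
  obtain ⟨hVc, hVp⟩ := hV
  -- V is commutative
  have hcommV : ∀ x ∈ V, ∀ y ∈ V, x * y = y * x := by
    intro x hx y hy
    have := (isMulCommutative_iff.mp hVc) (⟨x, hx⟩ : V) ⟨y, hy⟩
    exact congrArg Subtype.val this
  -- H normalizes V
  have hnorm : ∀ a ∈ H, ∀ v ∈ V, a * v * a⁻¹ ∈ V := by
    intro a ha v hv
    exact (Subgroup.mem_normalizer_iff.mp (hHV ha) v).mp hv
  -- w a v := a v a⁻¹ v⁻¹ lies in V and is centralized by H
  have hwV : ∀ a ∈ H, ∀ v ∈ V, a * v * a⁻¹ * v⁻¹ ∈ V := by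
    intro a ha v hv
    exact V.mul_mem (hnorm a ha v hv) (V.inv_mem hv)
  have hwC : ∀ a ∈ H, ∀ v ∈ V, ∀ b ∈ H, b * (a * v * a⁻¹ * v⁻¹) = (a * v * a⁻¹ * v⁻¹) * b := by
    intro a ha v hv b hb
    have h1 : ⁅v, a⁆ ∈ ⁅V, H⁆ := Subgroup.commutator_mem_commutator hv ha
    have h2 : ⁅V, H⁆ ≤ Subgroup.centralizer (H : Set G) :=
      Subgroup.commutator_eq_bot_iff_le_centralizer.mp hq
    have h3 : (⁅v, a⁆)⁻¹ ∈ Subgroup.centralizer (H : Set G) := Subgroup.inv_mem _ (h2 h1)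
    have h4 : (⁅v, a⁆)⁻¹ = a * v * a⁻¹ * v⁻¹ := by
      rw [commutatorElement_def]; group
    rw [h4] at h3
    exact Subgroup.mem_centralizer_iff.mp h3 b hb
  -- double conjugation
  have hdouble : ∀ a ∈ H, ∀ b ∈ H, ∀ v ∈ V,
      (a * b) * v * (a * b)⁻¹ = (b * v * b⁻¹ * v⁻¹) * ((a * v * a⁻¹ * v⁻¹) * v) := by
    intro a ha b hb v hv
    have hc := hwC b hb v hv a ha
    calc (a * b) * v * (a * b)⁻¹ = (a * (b * v * b⁻¹ * v⁻¹)) * v * a⁻¹ := by group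
      _ = ((b * v * b⁻¹ * v⁻¹) * a) * v * a⁻¹ := by rw [hc]
      _ = (b * v * b⁻¹ * v⁻¹) * ((a * v * a⁻¹ * v⁻¹) * v) := by group
  have hswap : ∀ a ∈ H, ∀ b ∈ H, ∀ v ∈ V, (a * b) * v * (a * b)⁻¹ = (b * a) * v * (b * a)⁻¹ := by
    intro a ha b hb v hv
    rw [hdouble a ha b hb v hv, hdouble b hb a ha v hv]
    calc (b * v * b⁻¹ * v⁻¹) * ((a * v * a⁻¹ * v⁻¹) * v)
        = ((b * v * b⁻¹ * v⁻¹) * (a * v * a⁻¹ * v⁻¹)) * v := (mul_assoc _ _ _).symm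
      _ = ((a * v * a⁻¹ * v⁻¹) * (b * v * b⁻¹ * v⁻¹)) * v := by
          rw [hcommV _ (hwV b hb v hv) _ (hwV a ha v hv)]
      _ = (a * v * a⁻¹ * v⁻¹) * ((b * v * b⁻¹ * v⁻¹) * v) := mul_assoc _ _ _
  constructor
  · rw [Subgroup.commutator_le]
    intro a ha b hb
    rw [Subgroup.mem_centralizer_iff]
    intro v hv
    -- u = (b a)⁻¹ v (b a)
    have hbaH : (b * a)⁻¹ ∈ H := H.inv_mem (H.mul_mem hb ha)
    have hu : (b * a)⁻¹ * v * ((b * a)⁻¹)⁻¹ ∈ V := hnorm _ hbaH v hv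
    have := hswap a ha b hb _ hu
    have e1 : (b * a) * ((b * a)⁻¹ * v * ((b * a)⁻¹)⁻¹) * (b * a)⁻¹ = v := by group
    rw [e1] at this
    rw [commutatorElement_def]
    have e2 : a * b * a⁻¹ * b⁻¹ = (a * b) * (b * a)⁻¹ := by group
    rw [e2]
    calc v * ((a * b) * (b * a)⁻¹)
        = ((a * b) * ((b * a)⁻¹ * v * ((b * a)⁻¹)⁻¹) * (a * b)⁻¹) * ((a * b) * (b * a)⁻¹) := by rw [this]
      _ = (a * b) * (b * a)⁻¹ * v := by group
  · intro a ha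
    rw [Subgroup.mem_centralizer_iff]
    intro v hv
    have hpow : ∀ n : ℕ, a ^ n * v * (a ^ n)⁻¹ = (a * v * a⁻¹ * v⁻¹) ^ n * v := by
      intro n
      induction n with
      | zero => simp
      | succ n ih =>
        have hc : a * (a * v * a⁻¹ * v⁻¹) ^ n = (a * v * a⁻¹ * v⁻¹) ^ n * a := by
          have : Commute a (a * v * a⁻¹ * v⁻¹) := hwC a ha v hv a ha
          exact (this.pow_right n).eq
        have e0 : a * v * a⁻¹ = (a * v * a⁻¹ * v⁻¹) * v := by group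
        calc a ^ (n + 1) * v * (a ^ (n + 1))⁻¹ = a * (a ^ n * v * (a ^ n)⁻¹) * a⁻¹ := by
              rw [pow_succ']; simp only [mul_assoc, mul_inv_rev]
          _ = a * ((a * v * a⁻¹ * v⁻¹) ^ n * v) * a⁻¹ := by rw [ih]
          _ = (a * (a * v * a⁻¹ * v⁻¹) ^ n) * v * a⁻¹ := by simp only [mul_assoc]
          _ = ((a * v * a⁻¹ * v⁻¹) ^ n * a) * v * a⁻¹ := by rw [hc]
          _ = (a * v * a⁻¹ * v⁻¹) ^ n * (a * v * a⁻¹) := by simp only [mul_assoc]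
          _ = (a * v * a⁻¹ * v⁻¹) ^ n * ((a * v * a⁻¹ * v⁻¹) * v) := by rw [← e0]
          _ = (a * v * a⁻¹ * v⁻¹) ^ (n + 1) * v := by rw [pow_succ]; exact (mul_assoc _ _ _).symm
    have h1 := hpow p
    rw [hVp _ (hwV a ha v hv), one_mul] at h1
    calc v * a ^ p = (a ^ p * v * (a ^ p)⁻¹) * a ^ p := by rw [h1]
      _ = a ^ p * v := by group

end Cfsg.Agent.S0590
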