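import Cfsg.Statements.S1463
import Mathlib
import Cfsg.Agent.Lib.Helper15.TwoByTwo
import Cfsg.Agent.Lib.Helper15.ModularPGroup

set_option autoImplicit false
open scoped MatrixGroups
open Cfsg

namespace Cfsg.Agent.S1463

open Cfsg.Agent.Lib.Helper15.TwoByTwo

variable {F : Type*} [Field F]

/-- the matrix of an element of a subgroup of `GL₂`. -/
def mat {L : Subgroup (GL (Fin 2) F)} (x : L) : Matrix (Fin 2) (Fin 2) F :=
  ((x : GL (Fin 2) F) : Matrix (Fin 2) (Fin 2) F)

theorem mat_mul {L : Subgroup (GL (Fin 2) F)} (x y : L) : mat (x * y) = mat x * mat y := rfl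

theorem mat_one {L : Subgroup (GL (Fin 2) F)} : mat (1 : L) = 1 := rfl

theorem mat_pow {L : Subgroup (GL (Fin 2) F)} (x : L) (n : ℕ) : mat (x ^ n) = mat x ^ n := by
  induction n with
  | zero => simp [mat_one]
  | succ n ih => rw [pow_succ, pow_succ, mat_mul, ih]

theorem mat_mul_inv {L : Subgroup (GL (Fin 2) F)} (x : L) : mat x * mat x⁻¹ = 1 := by
  rw [← mat_mul, mul_inv_cancel, mat_one]

theorem mat_inv_mul {L : Subgroup (GL (Fin 2) F)} (x : L) : mat x⁻¹ * mat x = 1 := by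
  rw [← mat_mul, inv_mul_cancel, mat_one]

theorem mat_injective {L : Subgroup (GL (Fin 2) F)} : Function.Injective (mat (L := L)) := by
  intro x y h
  exact Subtype.ext (Units.ext h)

/-- In an odd-order subgroup of `SL₂`-type matrices, non-identity elements are non-scalar. -/
theorem nonscalar_of_ne_one (L : Subgroup (GL (Fin 2) F)) [Finite L] (hodd : Odd (Nat.card L))
    (hdet : ∀ u : L, (mat u).det = 1) (u : L) (hu : u ≠ 1) : ∀ c : F, mat u ≠ c • 1 := by
  intro c hc
  have h1 : c ^ 2 = 1 := by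
    have := hdet u
    rw [hc] at this
    simpa [Matrix.det_smul, Fintype.card_fin] using this
  have h2 : c = 1 ∨ c = -1 := by
    have : (c - 1) * (c + 1) = 0 := by linear_combination h1
    rcases mul_eq_zero.mp this with h | h
    · left; exact sub_eq_zero.mp h
    · right; exact eq_neg_of_add_eq_zero_left h
  rcases h2 with h | h
  · apply hu
    apply mat_injective
    rw [hc, h, one_smul, mat_one]
  · have h3 : u ^ 2 = 1 := by
      apply mat_injective
      rw [mat_pow, hc, h, mat_one, pow_two]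
      simp
    have h4 : orderOf u ∣ 2 := orderOf_dvd_of_pow_eq_one h3
    have h5 : orderOf u ∣ Nat.card L := orderOf_dvd_natCard u
    have h6 : orderOf u = 1 := by
      have h7 : Nat.Coprime 2 (Nat.card L) := by
        rw [Nat.coprime_two_left]
        exact hodd
      exact Nat.eq_one_of_dvd_coprimes h7 h4 h5
    exact hu (orderOf_eq_one_iff.mp h6)

/-- Claim A: Sylow `r`-subgroups (`r ≠ p`) are central in their normalizers. -/
theorem normalizer_le_centralizer (p : ℕ) [hp : Fact p.Prime] [CharP F p] (hp2 : p ≠ 2)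
    (L : Subgroup (GL (Fin 2) F)) [Finite L] (hodd : Odd (Nat.card L))
    (hdet : ∀ u : L, (mat u).det = 1) (r : ℕ) [hr : Fact r.Prime] (hrp : r ≠ p)
    (R : Sylow r L) :
    Subgroup.normalizer ((R : Subgroup L) : Set L) ≤ Subgroup.centralizer ((R : Subgroup L) : Set L) := by
  have h2 : (2 : F) ≠ 0 := by
    intro h
    have h1 : ((2 : ℕ) : F) = 0 := by exact_mod_cast h
    rw [CharP.cast_eq_zero_iff F p 2] at h1
    have := (Nat.prime_dvd_prime_iff_eq hp.out Nat.prime_two).mp h1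
    exact hp2 this
  have hrF : ∀ k : ℕ, ((r ^ k : ℕ) : F) ≠ 0 := by
    intro k h
    rw [CharP.cast_eq_zero_iff F p (r ^ k)] at h
    have := hp.out.dvd_of_dvd_pow h
    exact hrp ((Nat.prime_dvd_prime_iff_eq hp.out hr.out).mp this).symm
  intro g hg
  rw [Subgroup.mem_centralizer_iff]
  intro x hx
  by_cases hx1 : x = 1
  · rw [hx1, one_mul, mul_one]
  -- a nontrivial central element of R
  haveI : Nontrivial (R : Subgroup L) := ⟨⟨⟨x, hx⟩, 1, fun h => hx1 (congrArg Subtype.val h)⟩⟩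
  haveI := IsPGroup.center_nontrivial R.isPGroup'
  obtain ⟨⟨z, hz⟩, hz1⟩ := exists_ne (1 : Subgroup.center (R : Subgroup L))
  have hz1' : (z : L) ≠ 1 := by
    intro h
    apply hz1
    exact Subtype.ext (Subtype.ext h)
  have hzns := nonscalar_of_ne_one L hodd hdet z.1 hz1'
  -- every element of R lies in F + F z
  have hspan : ∀ y : L, y ∈ (R : Subgroup L) → ∃ α β : F, mat y = α • 1 + β • mat z.1 := by
    intro y hy
    apply comm_nonscalar (mat z.1) (mat y) hzns
    have := (Subgroup.mem_center_iff.mp hz) ⟨y, hy⟩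
    have h3 : y * z.1 = z.1 * y := congrArg Subtype.val this
    rw [← mat_mul, ← mat_mul, h3]
  have hxns := nonscalar_of_ne_one L hodd hdet x hx1
  have hconj : g * x * g⁻¹ ∈ (R : Subgroup L) :=
    (Subgroup.mem_normalizer_iff.mp hg x).mp hx
  have hcomm : mat x * (mat g * mat x * mat g⁻¹) = (mat g * mat x * mat g⁻¹) * mat x := by
    have := comm_of_span (mat z.1) (mat x) (mat (g * x * g⁻¹)) (hspan x hx) (hspan _ hconj)
    rwa [mat_mul, mat_mul] at this
  obtain ⟨k, hk⟩ := R.isPGroup' ⟨x, hx⟩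
  have hxk : mat x ^ (r ^ k) = 1 := by
    rw [← mat_pow]
    have : x ^ (r ^ k) = 1 := by
      have := congrArg Subtype.val hk
      simpa using this
    rw [this, mat_one]
  have hgm : mat g ^ (Nat.card L) = 1 := by
    rw [← mat_pow, pow_card_eq_one', mat_one]
  have key := conj_eq_self_of_odd h2 (mat x) (mat g) (mat g⁻¹) (mat_mul_inv g) (mat_inv_mul g) hxns
    (r ^ k) (hrF k) hxk hcomm (Nat.card L) hodd hgm
  have h4 : g * x * g⁻¹ = x := by
    apply mat_injective
    rw [mat_mul, mat_mul]; exact key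
  calc x * g = (g * x * g⁻¹) * g := by rw [h4]
    _ = g * x := by group

/-- Claim B: an odd-order finite subgroup of `SL₂`-type matrices has a normal `p`-subgroup containing
all its `p`-elements. -/
theorem exists_normal_sylow (p : ℕ) [hp : Fact p.Prime] [CharP F p] (hp2 : p ≠ 2)
    (L : Subgroup (GL (Fin 2) F)) [Finite L] (hodd : Odd (Nat.card L))
    (hdet : ∀ u : L, (mat u).det = 1) :
    ∃ K : Subgroup L, K.Normal ∧ IsPGroup p K ∧ ∀ u : L, (∃ k : ℕ, u ^ (p ^ k) = 1) → u ∈ K := by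
  classical
  have hr : ∀ r : {r : ℕ // r.Prime ∧ r ≠ p}, ∃ Kr : Subgroup L, Kr.Normal ∧ ¬ r.1 ∣ Nat.card Kr ∧
      ∀ u : L, (∃ k : ℕ, u ^ (p ^ k) = 1) → u ∈ Kr := by
    rintro ⟨r, hrprime, hrp⟩
    haveI : Fact r.Prime := ⟨hrprime⟩
    obtain ⟨R⟩ : Nonempty (Sylow r L) := inferInstance
    have hNC := normalizer_le_centralizer p hp2 L hodd hdet r hrp R
    refine ⟨(MonoidHom.transferSylow R hNC).ker, MonoidHom.normal_ker _,
      MonoidHom.not_dvd_card_ker_transferSylow R hNC, ?_⟩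
    rintro u ⟨k, hk⟩
    rw [MonoidHom.mem_ker]
    obtain ⟨t, ht⟩ : ∃ t : (R : Subgroup L), t = MonoidHom.transferSylow R hNC u := ⟨_, rfl⟩
    rw [← ht]
    have h1 : t ^ (p ^ k) = 1 := by
      rw [ht, ← map_pow, hk, map_one]
    obtain ⟨j, hj⟩ := R.isPGroup' t
    have h2 : orderOf t ∣ p ^ k := orderOf_dvd_of_pow_eq_one h1
    have h3 : orderOf t ∣ r ^ j := orderOf_dvd_of_pow_eq_one hj
    have h4 : Nat.Coprime (p ^ k) (r ^ j) :=
      Nat.Coprime.pow _ _ ((Nat.coprime_primes hp.out hrprime).mpr (Ne.symm hrp))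
    exact orderOf_eq_one_iff.mp (Nat.eq_one_of_dvd_coprimes h4 h2 h3)
  choose Kf hKn hKr hKp using hr
  refine ⟨⨅ r, Kf r, Subgroup.normal_iInf_normal hKn, ?_, ?_⟩
  · have hcard : ∀ d : ℕ, d.Prime → d ∣ Nat.card (⨅ r, Kf r : Subgroup L) → d = p := by
      intro d hd hdvd
      by_contra hne
      apply hKr ⟨d, hd, hne⟩
      exact hdvd.trans (Subgroup.card_dvd_of_le (iInf_le _ _))
    have := Nat.eq_prime_pow_of_unique_prime_dvd (Nat.card_pos (α := (⨅ r, Kf r : Subgroup L))).ne'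
      (fun {d} hd hdvd => hcard d hd hdvd)
    exact IsPGroup.of_card this
  · intro u hu
    rw [Subgroup.mem_iInf]
    intro r
    exact hKp r u hu

theorem result {F : Type*} [Field F] (p : ℕ) [Fact p.Prime] [CharP F p] (hp : p ≠ 2)
    (H : Subgroup (GL (Fin 2) F)) [Finite H] (hodd : Odd (Nat.card H))
    (hirr : ∀ v : Fin 2 → F, v ≠ 0 → ∃ g ∈ H, (g : Matrix (Fin 2) (Fin 2) F).mulVec v ∉ Submodule.span F {v}) :
    ¬ p ∣ Nat.card H := by
  classical
  intro hdvd
  obtain ⟨L, hLdef⟩ : ∃ L : Subgroup (GL (Fin 2) F),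
      L = H ⊓ (Matrix.GeneralLinearGroup.det (n := Fin 2) (R := F)).ker := ⟨_, rfl⟩
  have hLH : L ≤ H := hLdef ▸ inf_le_left
  have hLmem : ∀ u : GL (Fin 2) F, u ∈ L ↔ u ∈ H ∧ Matrix.GeneralLinearGroup.det u = 1 := by
    intro u
    rw [hLdef, Subgroup.mem_inf, MonoidHom.mem_ker]
  have hLdet : ∀ u ∈ L, Matrix.GeneralLinearGroup.det u = 1 := by
    intro u hu
    rw [hLdef] at hu
    exact MonoidHom.mem_ker.mp hu.2
  haveI : Finite L := Finite.of_injective (Subgroup.inclusion hLH) (Subgroup.inclusion_injective hLH)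
  have hoddL : Odd (Nat.card L) := Odd.of_dvd_nat hodd (Subgroup.card_dvd_of_le hLH)
  have hdet : ∀ u : L, (mat u).det = 1 := by
    intro u
    have := congrArg Units.val (hLdet u.1 u.2)
    rwa [Matrix.GeneralLinearGroup.val_det_apply] at this
  obtain ⟨K, hKn, hKp, hKall⟩ := exists_normal_sylow p hp L hoddL hdet
  -- an element of order p
  obtain ⟨u₀, hu₀⟩ := exists_prime_orderOf_dvd_card' (G := H) p hdvd
  have hu₀p : (u₀ : GL (Fin 2) F) ^ p = 1 := by
    have : u₀ ^ p = 1 := by rw [← hu₀]; exact pow_orderOf_eq_one u₀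
    have := congrArg Subtype.val this
    simpa using this
  have hu₀det : Matrix.GeneralLinearGroup.det (u₀ : GL (Fin 2) F) = 1 := by
    have h1 : (Matrix.GeneralLinearGroup.det (u₀ : GL (Fin 2) F)) ^ p = 1 := by
      rw [← map_pow, hu₀p, map_one]
    have h2 : ((Matrix.GeneralLinearGroup.det (u₀ : GL (Fin 2) F) : Fˣ) : F) ^ p = 1 := by
      have := congrArg Units.val h1
      simpa using this
    apply Units.ext
    apply frobenius_inj F p
    rw [frobenius_def, frobenius_def, h2]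
    simp
  have hu₀L : (u₀ : GL (Fin 2) F) ∈ L := (hLmem _).mpr ⟨u₀.2, hu₀det⟩
  have hu₁K : (⟨u₀.1, hu₀L⟩ : L) ∈ K := by
    apply hKall
    refine ⟨1, ?_⟩
    apply Subtype.ext
    rw [pow_one]
    simpa using hu₀p
  have hu₁ne : (⟨u₀.1, hu₀L⟩ : L) ≠ 1 := by
    intro h
    have h1 : (u₀ : GL (Fin 2) F) = 1 := congrArg Subtype.val h
    have h2 : u₀ = 1 := Subtype.ext h1
    rw [h2, orderOf_one] at hu₀
    exact (Fact.out (p := p.Prime)).one_lt.ne hu₀
  -- the fixed vector
  have hpV : ∀ v : Fin 2 → F, p • v = 0 := by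
    intro v
    funext i
    simp only [Pi.smul_apply, Pi.zero_apply]
    rw [← Nat.cast_smul_eq_nsmul F p (v i), CharP.cast_eq_zero, zero_smul]
  let ρ : K →* AddMonoid.End (Fin 2 → F) :=
    { toFun := fun k => (Matrix.mulVecLin (mat k.1)).toAddMonoidHom
      map_one' := by
        apply AddMonoidHom.ext
        intro v
        show (mat (1 : L)).mulVec v = v
        rw [mat_one, Matrix.one_mulVec]
      map_mul' := by
        intro a b
        apply AddMonoidHom.ext
        intro v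
        show (mat (a.1 * b.1)).mulVec v = (mat a.1).mulVec ((mat b.1).mulVec v)
        rw [mat_mul, Matrix.mulVec_mulVec] }
  have hρ : ∀ (k : K) (v : Fin 2 → F), ρ k v = (mat k.1).mulVec v := fun _ _ => rfl
  obtain ⟨v, hv0, hvfix⟩ := Cfsg.Agent.Lib.Helper15.exists_fixed_ne_zero (p := p) hpV hKp ρ
    (fun _ => (1 : F)) (by
      intro h
      have := congrFun h 0
      simp at this)
  obtain ⟨g, hgH, hw⟩ := hirr v hv0
  -- K fixes g v
  have hwfix : ∀ k : K, (mat k.1).mulVec ((g : Matrix (Fin 2) (Fin 2) F).mulVec v)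
      = (g : Matrix (Fin 2) (Fin 2) F).mulVec v := by
    intro k
    have hkL : g⁻¹ * (k.1 : GL (Fin 2) F) * g ∈ L := by
      refine (hLmem _).mpr ⟨H.mul_mem (H.mul_mem (H.inv_mem hgH) (hLH k.1.2)) hgH, ?_⟩
      rw [map_mul, map_mul, hLdet _ k.1.2, mul_one, ← map_mul,
        inv_mul_cancel, map_one]
    have hkK : (⟨g⁻¹ * (k.1 : GL (Fin 2) F) * g, hkL⟩ : L) ∈ K := by
      apply hKall
      obtain ⟨j, hj⟩ := hKp k
      refine ⟨j, ?_⟩
      apply Subtype.ext
      have h1 : (k.1 : GL (Fin 2) F) ^ (p ^ j) = 1 := by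
        have := congrArg (fun z : K => ((z : L) : GL (Fin 2) F)) hj
        simpa using this
      show (g⁻¹ * (k.1 : GL (Fin 2) F) * g) ^ (p ^ j) = 1
      have h2 : (g⁻¹ * (k.1 : GL (Fin 2) F) * g) ^ (p ^ j)
          = g⁻¹ * (k.1 : GL (Fin 2) F) ^ (p ^ j) * g := by
        have := conj_pow (a := g⁻¹) (b := (k.1 : GL (Fin 2) F)) (i := p ^ j)
        rwa [inv_inv] at this
      rw [h2, h1]; group
    have h3 := hvfix ⟨_, hkK⟩
    rw [hρ] at h3
    have h4 : mat (⟨g⁻¹ * (k.1 : GL (Fin 2) F) * g, hkL⟩ : L)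
        = ((g⁻¹ : GL (Fin 2) F) : Matrix (Fin 2) (Fin 2) F) * mat k.1
          * (g : Matrix (Fin 2) (Fin 2) F) := rfl
    rw [h4] at h3
    have h5 : (g : Matrix (Fin 2) (Fin 2) F) * ((g⁻¹ : GL (Fin 2) F) : Matrix (Fin 2) (Fin 2) F)
        = 1 := by
      rw [← Matrix.GeneralLinearGroup.coe_mul, mul_inv_cancel, Matrix.GeneralLinearGroup.coe_one]
    calc (mat k.1).mulVec ((g : Matrix (Fin 2) (Fin 2) F).mulVec v)
        = ((g : Matrix (Fin 2) (Fin 2) F) *
            (((g⁻¹ : GL (Fin 2) F) : Matrix (Fin 2) (Fin 2) F) * mat k.1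
              * (g : Matrix (Fin 2) (Fin 2) F))).mulVec v := by
          rw [Matrix.mulVec_mulVec]
          congr 1
          rw [← mul_assoc, ← mul_assoc, h5, one_mul]
      _ = (g : Matrix (Fin 2) (Fin 2) F).mulVec v := by
          rw [← Matrix.mulVec_mulVec, h3]
  have hfinal := eq_one_of_fix_two (mat (⟨u₀.1, hu₀L⟩ : L)) v
    ((g : Matrix (Fin 2) (Fin 2) F).mulVec v) hv0 hw
    (by
      have := hvfix ⟨_, hu₁K⟩
      rwa [hρ] at this)
    (hwfix ⟨_, hu₁K⟩)
  apply hu₁ne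
  apply mat_injective
  rw [hfinal, mat_one]

end Cfsg.Agent.S1463
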