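import Mathlib
import Cfsg.Statements.S0058
import Cfsg.Agent.Lib.Helper12.Generation

set_option autoImplicit false
open Cfsg

namespace Cfsg.Agent.S0058

/-- Generation by centralisers: when a noncyclic abelian group A normalises K with coprime orders, K is generated by the fixed-point subgroups of the nonidentity elements of A. -/
theorem result {G : Type*} [Group G] [Finite G] (A K : Subgroup G)
    [IsMulCommutative A] (hA : ¬ IsCyclic A) (hAK : A ≤ Subgroup.normalizer (K : Set G)) (hcop : (Nat.card A).Coprime (Nat.card K)) :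
    (⨆ a ∈ {a : G | a ∈ A ∧ a ≠ 1}, K ⊓ Subgroup.centralizer {a}) = K := by
  apply le_antisymm
  · exact iSup₂_le (fun a _ => inf_le_left)
  · letI : CommGroup A :=
      { (inferInstance : Group A) with mul_comm := fun a b => mul_comm' a b }
    obtain ⟨p, hp, x, y, hxp, hyp, hx1, hyx⟩ := Cfsg.Agent.Lib.Helper12.exists_rank_two hA
    haveI : Fact p.Prime := ⟨hp⟩
    have hxpG : (x : G) ^ p = 1 := by
      have := congrArg Subtype.val hxp
      simpa using this
    have hypG : (y : G) ^ p = 1 := by
      have := congrArg Subtype.val hyp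
      simpa using this
    have hx1G : (x : G) ≠ 1 := fun h => hx1 (Subtype.ext h)
    have hxyG : (x : G) * (y : G) = (y : G) * (x : G) := by
      have := mul_comm' x y
      exact congrArg Subtype.val this
    have hne : ∀ i : ℕ, (x : G) ^ i * (y : G) ≠ 1 := by
      intro i h
      apply hyx
      have : y = (x ^ i)⁻¹ := by
        apply Subtype.ext
        simp only [Subgroup.coe_inv, Subgroup.coe_pow]
        exact eq_inv_of_mul_eq_one_right h
      rw [this]
      exact Subgroup.inv_mem _ (Subgroup.pow_mem _ (Subgroup.mem_zpowers x) i)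
    have hpdvd : p ∣ Nat.card A := by
      have h1 : orderOf x = p := by
        rcases (Nat.dvd_prime hp).mp (orderOf_dvd_of_pow_eq_one hxp) with h | h
        · exact absurd (orderOf_eq_one_iff.mp h) hx1
        · exact h
      rw [← h1]
      exact orderOf_dvd_natCard x
    have hcopK : (Nat.card K).Coprime p := (Nat.Coprime.coprime_dvd_left hpdvd hcop).symm
    apply Cfsg.Agent.Lib.Helper12.le_gen_of_coprime K hcopK (x : G) (y : G) (hAK x.2) (hAK y.2)
      hxyG hxpG hypG
    · exact le_iSup₂_of_le (x : G) ⟨x.2, hx1G⟩ le_rfl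
    · intro i
      exact le_iSup₂_of_le ((x : G) ^ i.val * (y : G))
        ⟨A.mul_mem (A.pow_mem x.2 _) y.2, hne i.val⟩ le_rfl

end Cfsg.Agent.S0058
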