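import Cfsg.Statements.S0218
-- no extra imports

set_option autoImplicit false
open Cfsg

namespace Cfsg.Agent.S0218

/-- The generalized quaternion group of order 2^(n+3) contains exactly one element of order 2. -/
theorem result (n : ℕ) : Nat.card {x : QuaternionGroup (2 ^ (n + 1)) // orderOf x = 2} = 1 := by
  set N : ℕ := 2 ^ (n + 1) with hN
  have hNpos : 0 < N := by positivity
  have : NeZero N := ⟨hNpos.ne'⟩
  have : NeZero (2 * N) := ⟨by positivity⟩
  have key : ∀ x : QuaternionGroup N, orderOf x = 2 ↔ x = QuaternionGroup.a (N : ZMod (2 * N)) := by
    intro x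
    constructor
    · intro hx
      cases x with
      | a i =>
        have h2 : (QuaternionGroup.a i : QuaternionGroup N) * QuaternionGroup.a i = 1 := by
          have := pow_orderOf_eq_one (QuaternionGroup.a i : QuaternionGroup N)
          rwa [hx, pow_two] at this
        have h1 : (QuaternionGroup.a i : QuaternionGroup N) ≠ 1 := by
          intro h
          rw [h, orderOf_one] at hx
          omega
        rw [QuaternionGroup.a_mul_a, QuaternionGroup.one_def] at h2
        rw [QuaternionGroup.one_def] at h1
        have h2' : i + i = 0 := by
          injection h2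
        have h1' : i ≠ 0 := by
          intro h
          exact h1 (by rw [h])
        congr 1
        -- i + i = 0 in ZMod (2N), i ≠ 0 → i = N
        have hv : (i.val + i.val) % (2 * N) = 0 := by
          have := congrArg ZMod.val h2'
          rwa [ZMod.val_add, ZMod.val_zero] at this
        have hlt : i.val < 2 * N := ZMod.val_lt i
        have hne : i.val ≠ 0 := by
          intro h
          exact h1' ((ZMod.val_eq_zero i).mp h)
        have hval : i.val = N := by
          obtain ⟨c, hc⟩ := Nat.dvd_of_mod_eq_zero hv
          have hc1 : c = 1 := by
            have hc_lt : c < 2 := by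
              by_contra hcon
              have hcon := Nat.le_of_not_lt hcon
              have : 2 * N * 2 ≤ 2 * N * c := Nat.mul_le_mul_left _ hcon
              omega
            have hc_pos : c ≠ 0 := by
              intro h0
              rw [h0] at hc
              omega
            omega
          rw [hc1] at hc
          omega
        have : i = ((i.val : ℕ) : ZMod (2 * N)) := (ZMod.natCast_zmod_val i).symm
        rw [this, hval]
      | xa i =>
        rw [QuaternionGroup.orderOf_xa] at hx
        omega
    · rintro rfl
      have h2 : (QuaternionGroup.a (N : ZMod (2 * N)) : QuaternionGroup N) ^ 2 = 1 := by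
        rw [pow_two, QuaternionGroup.a_mul_a, QuaternionGroup.one_def]
        congr 1
        have : ((N : ZMod (2 * N)) + N) = ((2 * N : ℕ) : ZMod (2 * N)) := by push_cast; ring
        rw [this, ZMod.natCast_self]
      have h1 : (QuaternionGroup.a (N : ZMod (2 * N)) : QuaternionGroup N) ≠ 1 := by
        rw [QuaternionGroup.one_def]
        intro h
        injection h with h'
        have := (ZMod.natCast_eq_zero_iff N (2 * N)).mp h'
        have := Nat.le_of_dvd hNpos this
        omega
      exact orderOf_eq_prime h2 h1
  rw [Nat.card_eq_one_iff_unique]
  refine ⟨⟨?_⟩, ⟨⟨_, (key _).mpr rfl⟩⟩⟩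
  rintro ⟨x, hx⟩ ⟨y, hy⟩
  rw [Subtype.mk.injEq, (key x).mp hx, (key y).mp hy]

end Cfsg.Agent.S0218
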