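import Cfsg.Statements.S2331
import Mathlib
import Cfsg.Agent.Lib.Helper12.SL2

set_option autoImplicit false
open Cfsg

namespace Cfsg.Agent.S2331

open Cfsg.Agent.Lib.Helper12.SL2

variable {F : Type*} [Field F]

local notation "SL2" => Matrix.SpecialLinearGroup (Fin 2)

/-- companion matrix of `X² - t X + 1` -/
def compS (t : F) : SL2 F := mk 0 (-1) 1 t (by ring)

theorem tr_eq_of_isConj {g h : SL2 F} (hc : IsConj g h) : g 0 0 + g 1 1 = h 0 0 + h 1 1 := by
  rw [isConj_iff] at hc
  obtain ⟨x, rfl⟩ := hc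
  have h1 : Matrix.trace ((x * g * x⁻¹ : SL2 F) : Matrix (Fin 2) (Fin 2) F) =
      Matrix.trace (g : Matrix (Fin 2) (Fin 2) F) := by
    rw [Matrix.SpecialLinearGroup.coe_mul, Matrix.SpecialLinearGroup.coe_mul, Matrix.trace_mul_comm,
      ← mul_assoc, ← Matrix.SpecialLinearGroup.coe_mul, inv_mul_cancel,
      Matrix.SpecialLinearGroup.coe_one, one_mul]
  rw [Matrix.trace_fin_two, Matrix.trace_fin_two] at h1
  exact h1.symm

/-- `det [v | g v]` -/
def Phi (g : SL2 F) (v0 v1 : F) : F :=
  g 1 0 * v0 ^ 2 + (g 1 1 - g 0 0) * v0 * v1 - g 0 1 * v1 ^ 2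

theorem isConj_comp_of_Phi (g : SL2 F) (v0 v1 s : F) (hv : Phi g v0 v1 ≠ 0)
    (hs : Phi g v0 v1 = s * s) : IsConj g (compS (g 0 0 + g 1 1)) := by
  have hs0 : s ≠ 0 := by
    rintro rfl
    rw [mul_zero] at hs
    exact hv hs
  have hdet : v0 / s * ((g 1 0 * v0 + g 1 1 * v1) / s) - (g 0 0 * v0 + g 0 1 * v1) / s * (v1 / s) = 1 := by
    rw [Phi] at hs
    field_simp
    linear_combination hs
  have hd := det_eq g
  rw [isConj_comm, isConj_iff]
  refine ⟨mk (v0 / s) ((g 0 0 * v0 + g 0 1 * v1) / s) (v1 / s) ((g 1 0 * v0 + g 1 1 * v1) / s) hdet, ?_⟩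
  rw [mul_inv_eq_iff_eq_mul]
  apply ext4
  · simp only [mul_apply', compS, mk_00, mk_01, mk_10, mk_11]
    ring
  · simp only [mul_apply', compS, mk_00, mk_01, mk_10, mk_11]
    field_simp
    linear_combination v0 * hd
  · simp only [mul_apply', compS, mk_00, mk_01, mk_10, mk_11]
    ring
  · simp only [mul_apply', compS, mk_00, mk_01, mk_10, mk_11]
    field_simp
    linear_combination v1 * hd

theorem isConj_comp_of_not_scalar [Fintype F] [CharP F 2] (g : SL2 F)
    (hg : ¬ (g 0 1 = 0 ∧ g 1 0 = 0 ∧ g 0 0 = g 1 1)) :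
    IsConj g (compS (g 0 0 + g 1 1)) := by
  have hsq : ∀ a : F, ∃ s, a = s * s := fun a =>
    FiniteField.isSquare_of_char_two (ringChar.eq F 2) a
  by_cases h10 : g 1 0 = 0
  · by_cases h01 : g 0 1 = 0
    · have hne : g 0 0 ≠ g 1 1 := fun h => hg ⟨h01, h10, h⟩
      obtain ⟨s, hs⟩ := hsq (Phi g 1 1)
      refine isConj_comp_of_Phi g 1 1 s ?_ hs
      rw [Phi, h10, h01]
      intro h
      apply hne
      linear_combination (-1 : F) * h
    · obtain ⟨s, hs⟩ := hsq (Phi g 0 1)
      refine isConj_comp_of_Phi g 0 1 s ?_ hs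
      rw [Phi]
      simpa using h01
  · obtain ⟨s, hs⟩ := hsq (Phi g 1 0)
    refine isConj_comp_of_Phi g 1 0 s ?_ hs
    rw [Phi]
    simpa using h10

/-- the parametrization of the conjugacy classes -/
def param : F ⊕ Unit → ConjClasses (SL2 F)
  | Sum.inl t => ConjClasses.mk (compS t)
  | Sum.inr _ => ConjClasses.mk 1

theorem param_bijective [Fintype F] [CharP F 2] :
    Function.Bijective (param : F ⊕ Unit → ConjClasses (SL2 F)) := by
  constructor
  · rintro (t | a) (t' | a') h
    · simp only [param, ConjClasses.mk_eq_mk_iff_isConj] at h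
      have h1 := tr_eq_of_isConj h
      simp only [compS, mk_00, mk_11] at h1
      have ht : t = t' := by linear_combination h1
      rw [ht]
    · exfalso
      simp only [param, ConjClasses.mk_eq_mk_iff_isConj] at h
      rw [isConj_one_left] at h
      have := congrArg (fun y : SL2 F => y 1 0) h
      simp [compS] at this
    · exfalso
      simp only [param, ConjClasses.mk_eq_mk_iff_isConj] at h
      rw [isConj_one_right] at h
      have := congrArg (fun y : SL2 F => y 1 0) h
      simp [compS] at this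
    · rfl
  · intro C
    obtain ⟨g, rfl⟩ := ConjClasses.exists_rep C
    by_cases hg : g 0 1 = 0 ∧ g 1 0 = 0 ∧ g 0 0 = g 1 1
    · obtain ⟨h01, h10, h00⟩ := hg
      have hd := det_eq g
      rw [h01, zero_mul, sub_zero, ← h00] at hd
      have h2 : (2 : F) = 0 := by
        have := CharP.cast_eq_zero F 2
        exact_mod_cast this
      have h1 : g 0 0 = 1 := by
        have : (g 0 0 - 1) ^ 2 = 0 := by linear_combination hd - g 0 0 * h2 + h2
        exact sub_eq_zero.mp (pow_eq_zero_iff (two_ne_zero) |>.mp this)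
      refine ⟨Sum.inr (), ?_⟩
      simp only [param]
      congr 1
      apply ext4 <;> simp [h01, h10, ← h00, h1]
    · refine ⟨Sum.inl (g 0 0 + g 1 1), ?_⟩
      simp only [param]
      exact (ConjClasses.mk_eq_mk_iff_isConj.mpr (isConj_comp_of_not_scalar g hg)).symm

theorem card_classes [Fintype F] [CharP F 2] :
    Nat.card (ConjClasses (SL2 F)) = Fintype.card F + 1 := by
  classical
  rw [← Nat.card_congr (Equiv.ofBijective _ (param_bijective (F := F))), Nat.card_sum,
    Nat.card_eq_fintype_card, Nat.card_unique]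


/-- Over a finite field with q elements, q even, the special linear group SL₂ has exactly q + 1 conjugacy classes. -/
theorem result {F : Type*} [Field F] [Fintype F] [CharP F 2] :
    Nat.card (ConjClasses (Matrix.SpecialLinearGroup (Fin 2) F)) = Fintype.card F + 1 := by
  exact card_classes

end Cfsg.Agent.S2331
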