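import Cfsg.Statements.S0800
import Mathlib
import Cfsg.Agent.Lib.Helper12.SL2

set_option autoImplicit false
open Cfsg

namespace Cfsg.Agent.S0800

open Cfsg.Agent.Lib.Helper12.SL2

variable {F : Type*} [Field F]

local notation "SL2" => Matrix.SpecialLinearGroup (Fin 2)
local notation "M2" => Matrix (Fin 2) (Fin 2)

theorem ch (M : M2 F) (hdet : M.det = 1) :
    M * M = (M 0 0 + M 1 1) • M - 1 := by
  rw [Matrix.det_fin_two] at hdet
  ext i j
  fin_cases i <;> fin_cases j <;>
    simp [Matrix.mul_apply, Fin.sum_univ_two] <;>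
    first | ring1 | linear_combination hdet | linear_combination (-1 : F) * hdet

theorem pow_mem_span (M : M2 F) (hdet : M.det = 1) (k : ℕ) :
    ∃ s t : F, M ^ k = s • (1 : M2 F) + t • M := by
  induction k with
  | zero => exact ⟨1, 0, by simp⟩
  | succ k ih =>
    obtain ⟨s, t, h⟩ := ih
    refine ⟨-t, s + t * (M 0 0 + M 1 1), ?_⟩
    rw [pow_succ, h, add_mul, smul_mul_assoc, smul_mul_assoc, one_mul, ch M hdet]
    module

theorem det_ne' (M : M2 F) (hE : ∀ (c : F) (v : Fin 2 → F), v ≠ 0 → M.mulVec v ≠ c • v)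
    (s t : F) (hst : ¬ (s = 0 ∧ t = 0)) : (s • (1 : M2 F) + t • M).det ≠ 0 := by
  intro hdet
  obtain ⟨v, hv, hNv⟩ := Matrix.exists_mulVec_eq_zero_iff.mpr hdet
  rw [Matrix.add_mulVec, Matrix.smul_mulVec, Matrix.smul_mulVec, Matrix.one_mulVec] at hNv
  by_cases ht : t = 0
  · subst ht
    have hs : s ≠ 0 := fun h => hst ⟨h, rfl⟩
    rw [zero_smul, add_zero] at hNv
    exact hv ((smul_eq_zero.mp hNv).resolve_left hs)
  · apply hE (-s / t) v hv
    have : t • M.mulVec v = -(s • v) := by
      rw [eq_neg_iff_add_eq_zero, add_comm]; exact hNv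
    calc M.mulVec v = t⁻¹ • (t • M.mulVec v) := by rw [smul_smul, inv_mul_cancel₀ ht, one_smul]
      _ = t⁻¹ • (-(s • v)) := by rw [this]
      _ = (-s / t) • v := by rw [smul_neg, smul_smul, ← neg_smul]; congr 1; field_simp

theorem key [Fintype F] (M : M2 F) (hdet : M.det = 1)
    (hE : ∀ (c : F) (v : Fin 2 → F), v ≠ 0 → M.mulVec v ≠ c • v) :
    M ^ (Fintype.card F) = M ∨ M ^ (Fintype.card F) * M = 1 := by
  obtain ⟨p, hp⟩ := CharP.exists F
  haveI := hp
  obtain ⟨n, hpp, hcard⟩ := FiniteField.card F p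
  haveI : Fact p.Prime := ⟨hpp⟩
  set τ := M 0 0 + M 1 1 with hτ
  set N := M ^ (Fintype.card F) with hN
  have hch := ch M hdet
  have hNM : N * M = M * N := by
    rw [hN, ← pow_succ, ← pow_succ']
  -- Frobenius applied to Cayley–Hamilton
  have hfrob : N * N = τ • N - 1 := by
    have h1 : (M * M) ^ (Fintype.card F) = N * N := (Commute.refl M).mul_pow _
    have hcomm : Commute (τ • M) (1 : M2 F) := Commute.one_right _
    have h2 : (τ • M - 1) ^ (Fintype.card F) = τ • N - 1 := by
      conv_lhs => rw [hcard]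
      rw [sub_pow_char_pow_of_commute p n hcomm, ← hcard, smul_pow, one_pow, FiniteField.pow_card]
    rw [← h1, hch, h2]
  have hAB : (N - M) * (N - (τ • (1 : M2 F) - M)) = 0 := by
    have e : (N - M) * (N - (τ • (1 : M2 F) - M)) =
        N * N - τ • N + (N * M - M * N) + (τ • M - M * M) := by
      simp only [sub_mul, mul_sub, mul_smul_comm, mul_one, smul_mul_assoc, one_mul]
      module
    rw [e, hfrob, hNM, hch]
    abel
  obtain ⟨s, t, hst⟩ := pow_mem_span M hdet (Fintype.card F)
  have hA : N - M = s • (1 : M2 F) + (t - 1) • M := by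
    rw [hN, hst, sub_smul, one_smul]
    abel
  by_cases h0 : s = 0 ∧ t - 1 = 0
  · left
    obtain ⟨hs, ht⟩ := h0
    rw [hs, ht, zero_smul, zero_smul, add_zero] at hA
    exact sub_eq_zero.mp hA
  · right
    have hdetA := det_ne' M hE s (t - 1) h0
    rw [← hA] at hdetA
    have hunit : IsUnit (N - M) := (Matrix.isUnit_iff_isUnit_det _).mpr (isUnit_iff_ne_zero.mpr hdetA)
    have hB : N - (τ • (1 : M2 F) - M) = 0 := hunit.mul_right_eq_zero.mp hAB
    have hN' : N = τ • (1 : M2 F) - M := sub_eq_zero.mp hB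
    rw [hN', sub_mul, smul_mul_assoc, one_mul, hch]
    abel


theorem pow_smul_eigen (g : SL2 F) (v : Fin 2 → F) (c : F) (h : g • v = c • v) (k : ℕ) :
    (g ^ k) • v = c ^ k • v := by
  induction k with
  | zero => simp
  | succ k ih =>
    rw [pow_succ, mul_smul, h, smul_comm, ih, smul_smul, pow_succ, mul_comm]

theorem main [Fintype F] {q : ℕ} (hF : Fintype.card F = q) (p : ℕ) [Fact p.Prime] [CharP F p]
    (g : SL2 F) (hg : Nat.Coprime (orderOf g) p) : orderOf g ∣ q - 1 ∨ orderOf g ∣ q + 1 := by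
  subst hF
  have hq : 2 ≤ Fintype.card F := Fintype.one_lt_card
  by_cases hE : ∀ (c : F) (v : Fin 2 → F), v ≠ 0 →
      (g : M2 F).mulVec v ≠ c • v
  · rcases key (g : M2 F) g.det_coe hE with h | h
    · left
      have h1 : g ^ (Fintype.card F) = g := by
        apply Subtype.ext
        rw [Matrix.SpecialLinearGroup.coe_pow]
        exact h
      have h2 : g ^ (Fintype.card F - 1) = 1 := by
        have : g ^ (Fintype.card F - 1) * g = 1 * g := by
          rw [← pow_succ, Nat.sub_add_cancel (by omega), h1, one_mul]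
        exact mul_right_cancel this
      exact orderOf_dvd_of_pow_eq_one h2
    · right
      have h1 : g ^ (Fintype.card F + 1) = 1 := by
        apply Subtype.ext
        rw [pow_succ, Matrix.SpecialLinearGroup.coe_mul, Matrix.SpecialLinearGroup.coe_pow]
        exact h
      exact orderOf_dvd_of_pow_eq_one h1
  · left
    push Not at hE
    obtain ⟨c, v, hv, hcv⟩ := hE
    have hgv : g • v = c • v := hcv
    have hc : c ≠ 0 := by
      rintro rfl
      rw [zero_smul] at hgv
      apply hv
      have := congrArg (fun w => g⁻¹ • w) hgv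
      simpa using this
    have h1 : (g ^ (Fintype.card F - 1)) • v = v := by
      rw [pow_smul_eigen g v c hgv, FiniteField.pow_card_sub_one_eq_one c hc, one_smul]
    have h2 := pow_p_eq_one_of_fix (p := p) (g ^ (Fintype.card F - 1)) v hv h1
    rw [← pow_mul] at h2
    have h3 : orderOf g ∣ (Fintype.card F - 1) * p := orderOf_dvd_of_pow_eq_one h2
    exact hg.dvd_of_dvd_mul_right h3


/-- Tori of SL_2(q): if g ∈ SL_2(q) has order coprime to the characteristic p, then the order of g divides q − 1 or q + 1. -/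
theorem result {F : Type*} [Field F] [Fintype F] {q : ℕ} (hF : Fintype.card F = q) (p : ℕ) [Fact p.Prime] [CharP F p] (g : Matrix.SpecialLinearGroup (Fin 2) F) (hg : Nat.Coprime (orderOf g) p) : orderOf g ∣ q - 1 ∨ orderOf g ∣ q + 1 := by
  exact main hF p g hg

end Cfsg.Agent.S0800
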