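import Cfsg.Statements.S2471
import Mathlib
import Cfsg.Agent.Lib.Helper12.SL2b

set_option autoImplicit false
open Cfsg

namespace Cfsg.Agent.S2471

open Cfsg.Agent.Lib.Helper12.SL2

variable {F : Type*} [Field F]

local notation "SL2" => Matrix.SpecialLinearGroup (Fin 2)

/-- the central element `-1` -/
def zc : SL2 F := mk (-1) 0 0 (-1) (by ring)

theorem zc_central (x : SL2 F) : x * zc = zc * x := by
  apply ext4 <;> simp [mul_apply', zc]

theorem zc_mem_center : (zc : SL2 F) ∈ Subgroup.center (SL2 F) := by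
  rw [Subgroup.mem_center_iff]
  intro x
  exact zc_central x

theorem zc_mul_self : (zc : SL2 F) * zc = 1 := by
  apply ext4 <;> simp [mul_apply', zc]

/-- an element commuting with a nontrivial `up b` has `p`-th power in the centre -/
theorem pow_p_mem_center [Fintype F] {p : ℕ} [Fact p.Prime] [CharP F p] {b : F} (hb : b ≠ 0)
    (x : SL2 F) (hx : x ∈ Subgroup.centralizer ({up b} : Set (SL2 F))) :
    x ^ p ∈ Subgroup.center (SL2 F) := by
  obtain ⟨h10, h00⟩ := (mem_centralizer_up hb x).mp hx
  have hd := det_eq x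
  rw [h10, mul_zero, sub_zero, ← h00] at hd
  rcases mul_self_eq_one_iff.mp hd with h1 | h1
  · -- x fixes e1
    have hfix : x • (![1, 0] : Fin 2 → F) = ![1, 0] := by
      ext i
      fin_cases i <;> simp [Cfsg.Agent.Lib.Helper12.SL2.smul_apply, h1, h10]
    rw [pow_p_eq_one_of_fix (p := p) x _ (by simp) hfix]
    exact Subgroup.one_mem _
  · have hfix : (zc * x) • (![1, 0] : Fin 2 → F) = ![1, 0] := by
      ext i
      fin_cases i <;> simp [Cfsg.Agent.Lib.Helper12.SL2.smul_apply, mul_apply', zc, h1, h10]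
    have h2 := pow_p_eq_one_of_fix (p := p) (zc * x) _ (by simp) hfix
    have hcomm : Commute (zc : SL2 F) x := (zc_central x).symm
    rw [hcomm.mul_pow] at h2
    have h3 : x ^ p = (zc ^ p)⁻¹ := eq_inv_of_mul_eq_one_right h2
    rw [h3]
    exact Subgroup.inv_mem _ (Subgroup.pow_mem _ zc_mem_center _)

theorem main [Fintype F] (p : ℕ) [Fact p.Prime] [CharP F p] (hp : p ≠ 2)
    (g : Matrix.ProjectiveSpecialLinearGroup (Fin 2) F) : orderOf g ≠ 2 * p := by
  intro hord
  obtain ⟨x, rfl⟩ := QuotientGroup.mk_surjective g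
  have hp2 := (Fact.out : p.Prime).two_le
  -- u = x^4 has order p
  have h1 : (QuotientGroup.mk x : Matrix.ProjectiveSpecialLinearGroup (Fin 2) F) ^ (2 * p) = 1 := by
    rw [← hord]; exact pow_orderOf_eq_one _
  have h1' : x ^ (2 * p) ∈ Subgroup.center (SL2 F) := by
    rw [← QuotientGroup.eq_one_iff, QuotientGroup.mk_pow]; exact h1
  have hup : (x ^ 4) ^ p = 1 := by
    -- x^(2p) is central of square one, so scalar ±1, so its square is 1
    have hsq : (x ^ (2 * p)) * (x ^ (2 * p)) = 1 := by
      obtain ⟨r, hr, hr2⟩ := Matrix.SpecialLinearGroup.mem_center_iff.mp h1'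
      have h00 : (x ^ (2 * p)) 0 0 = r := by
        have := congrFun (congrFun hr2 0) 0
        simpa using this.symm
      have h11 : (x ^ (2 * p)) 1 1 = r := by
        have := congrFun (congrFun hr2 1) 1
        simpa using this.symm
      have h01 : (x ^ (2 * p)) 0 1 = 0 := by
        have := congrFun (congrFun hr2 0) 1
        simpa using this.symm
      have h10 : (x ^ (2 * p)) 1 0 = 0 := by
        have := congrFun (congrFun hr2 1) 0
        simpa using this.symm
      have hr' : r * r = 1 := by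
        have := hr
        simp only [Fintype.card_fin] at this
        rw [← this, pow_two]
      apply ext4 <;> simp [mul_apply', h00, h11, h01, h10, hr']
    rw [← pow_mul]
    have : 4 * p = 2 * p + 2 * p := by ring
    rw [this, pow_add]
    exact hsq
  have hu1 : x ^ 4 ≠ 1 := by
    intro h4
    have : (QuotientGroup.mk x : Matrix.ProjectiveSpecialLinearGroup (Fin 2) F) ^ 4 = 1 := by
      rw [← QuotientGroup.mk_pow, h4]; rfl
    have hdvd := orderOf_dvd_of_pow_eq_one this
    rw [hord] at hdvd
    have hp4 : p ∣ 4 := Dvd.dvd.trans (Dvd.intro_left 2 rfl) hdvd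
    have hp_le : p ≤ 4 := Nat.le_of_dvd (by norm_num) hp4
    interval_cases p
    · exact hp rfl
    · norm_num at hp4
    · exact absurd (Fact.out : Nat.Prime 4) (by norm_num)
  have hord4 : orderOf (x ^ 4) = p := orderOf_eq_prime hup hu1
  obtain ⟨k, b, hb, hk⟩ := exists_conj_up_of_orderOf (x ^ 4) hord4
  -- k⁻¹ x k commutes with up b
  have hcent : k⁻¹ * x * k ∈ Subgroup.centralizer ({up b} : Set (SL2 F)) := by
    rw [Subgroup.mem_centralizer_singleton_iff, ← hk]
    have : Commute x (x ^ 4) := (Commute.refl x).pow_right 4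
    calc k⁻¹ * x * k * (k⁻¹ * x ^ 4 * k) = k⁻¹ * (x * x ^ 4) * k := by group
      _ = k⁻¹ * (x ^ 4 * x) * k := by rw [this.eq]
      _ = k⁻¹ * x ^ 4 * k * (k⁻¹ * x * k) := by group
  have hpc := pow_p_mem_center (p := p) hb _ hcent
  have hxp : x ^ p ∈ Subgroup.center (SL2 F) := by
    have e : (k⁻¹ * x * k) ^ p = k⁻¹ * x ^ p * k := by
      rw [show k⁻¹ * x * k = k⁻¹ * x * k⁻¹⁻¹ by rw [inv_inv], conj_pow, inv_inv]
    rw [e] at hpc
    have hnorm := (inferInstance : (Subgroup.center (SL2 F)).Normal).conj_mem _ hpc k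
    have e2 : k * (k⁻¹ * x ^ p * k) * k⁻¹ = x ^ p := by group
    rwa [e2] at hnorm
  have h2 : (QuotientGroup.mk x : Matrix.ProjectiveSpecialLinearGroup (Fin 2) F) ^ p = 1 := by
    rw [← QuotientGroup.mk_pow]
    exact (QuotientGroup.eq_one_iff _).mpr hxp
  have hdvd := orderOf_dvd_of_pow_eq_one h2
  rw [hord] at hdvd
  have := Nat.le_of_dvd (by omega) hdvd
  omega


/-- In PSL(2,q) with q odd, the characteristic p is isolated from 2 in the prime graph: for F a finite field of odd characteristic p with at least 5 elements, PSL(2,F) has no element of order 2p. -/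
theorem result {F : Type*} [Field F] [Fintype F] (p : ℕ) [Fact p.Prime] [CharP F p] (hp : p ≠ 2) (h5 : 5 ≤ Fintype.card F) (g : Matrix.ProjectiveSpecialLinearGroup (Fin 2) F) :
    orderOf g ≠ 2 * p := by
  exact main p hp g

end Cfsg.Agent.S2471
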