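import Cfsg.Statements.S2475
import Mathlib
import Cfsg.Agent.Lib.Helper12.SL2b
import Cfsg.Agent.S0800
import Cfsg.Agent.S2471

set_option autoImplicit false
open Cfsg

namespace Cfsg.Agent.S2475

open Cfsg.Agent.Lib.Helper12.SL2

variable {F : Type*} [Field F]

local notation "SL2" => Matrix.SpecialLinearGroup (Fin 2)
local notation "M2" => Matrix (Fin 2) (Fin 2)
local notation "PSL2" => Matrix.ProjectiveSpecialLinearGroup (Fin 2)

theorem mem_center_iff' (x : SL2 F) :
    x ∈ Subgroup.center (SL2 F) ↔ x 0 1 = 0 ∧ x 1 0 = 0 ∧ x 0 0 = x 1 1 := by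
  rw [Matrix.SpecialLinearGroup.mem_center_iff]
  constructor
  · rintro ⟨r, -, hr⟩
    have h00 := congrFun (congrFun hr 0) 0
    have h11 := congrFun (congrFun hr 1) 1
    have h01 := congrFun (congrFun hr 0) 1
    have h10 := congrFun (congrFun hr 1) 0
    simp at h00 h11 h01 h10
    exact ⟨h01.symm, h10.symm, h00.symm.trans h11⟩
  · rintro ⟨h01, h10, h00⟩
    have hd := det_eq x
    rw [h01, zero_mul, sub_zero, ← h00] at hd
    refine ⟨x 0 0, by rw [Fintype.card_fin, pow_two]; exact hd, ?_⟩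
    ext i j
    fin_cases i <;> fin_cases j <;> simp [h01, h10, h00]

theorem sq_eq_one_of_mem_center (x : SL2 F) (hx : x ∈ Subgroup.center (SL2 F)) : x * x = 1 := by
  obtain ⟨h01, h10, h00⟩ := (mem_center_iff' x).mp hx
  have hd := det_eq x
  rw [h01, zero_mul, sub_zero, ← h00] at hd
  apply ext4 <;> simp [mul_apply', h01, h10, ← h00, hd]

theorem mem_center_of_sq_eq_one (h2 : (2 : F) ≠ 0) (x : SL2 F) (hx : x * x = 1) :
    x ∈ Subgroup.center (SL2 F) := by
  have hch := Cfsg.Agent.S0800.ch (x : M2 F) x.det_coe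
  have hxx : (x : M2 F) * (x : M2 F) = 1 := by
    rw [← Matrix.SpecialLinearGroup.coe_mul, hx, Matrix.SpecialLinearGroup.coe_one]
  rw [hxx] at hch
  -- (τ • x) = 2
  have h00 := congrFun (congrFun hch 0) 0
  have h01 := congrFun (congrFun hch 0) 1
  have h10 := congrFun (congrFun hch 1) 0
  have h11 := congrFun (congrFun hch 1) 1
  simp at h00 h01 h10 h11
  have hτ : x 0 0 + x 1 1 ≠ 0 := by
    intro h
    rw [h] at h00
    apply h2
    linear_combination h00
  rw [mem_center_iff']
  refine ⟨?_, ?_, ?_⟩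
  · rcases h01 with h | h
    · exact absurd h hτ
    · exact h
  · rcases h10 with h | h
    · exact absurd h hτ
    · exact h
  · have : (x 0 0 + x 1 1) * (x 0 0 - x 1 1) = 0 := by linear_combination h11 - h00
    exact sub_eq_zero.mp ((mul_eq_zero.mp this).resolve_left hτ)

theorem center_eq_bot_of_char_two (h2 : (2 : F) = 0) : Subgroup.center (SL2 F) = ⊥ := by
  rw [eq_bot_iff]
  intro x hx
  obtain ⟨h01, h10, h00⟩ := (mem_center_iff' x).mp hx
  have hd := det_eq x
  rw [h01, zero_mul, sub_zero, ← h00] at hd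
  have h1 : x 0 0 = 1 := by
    have : (x 0 0 - 1) ^ 2 = 0 := by linear_combination hd - x 0 0 * h2 + h2
    exact sub_eq_zero.mp (pow_eq_zero_iff (two_ne_zero) |>.mp this)
  rw [Subgroup.mem_bot]
  apply ext4 <;> simp [h01, h10, ← h00, h1]


theorem zc_smul (v : Fin 2 → F) : (Cfsg.Agent.S2471.zc : SL2 F) • v = (-1 : F) • v := by
  ext i
  fin_cases i <;> simp [Cfsg.Agent.Lib.Helper12.SL2.smul_apply, Cfsg.Agent.S2471.zc]

theorem pow_p_mem_center_of_eigen [Fintype F] {p : ℕ} [Fact p.Prime] [CharP F p] (g : SL2 F)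
    (v : Fin 2 → F) (hv : v ≠ 0) (c : F) (hc : c * c = 1) (h : g • v = c • v) :
    g ^ p ∈ Subgroup.center (SL2 F) := by
  rcases mul_self_eq_one_iff.mp hc with h1 | h1
  · rw [h1, one_smul] at h
    rw [pow_p_eq_one_of_fix (p := p) g v hv h]
    exact Subgroup.one_mem _
  · have hfix : (Cfsg.Agent.S2471.zc * g) • v = v := by
      rw [mul_smul, h, zc_smul, smul_smul, h1]
      simp
    have h2 := pow_p_eq_one_of_fix (p := p) (Cfsg.Agent.S2471.zc * g) v hv hfix
    have hcomm : Commute (Cfsg.Agent.S2471.zc : SL2 F) g := (Cfsg.Agent.S2471.zc_central g).symm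
    rw [hcomm.mul_pow] at h2
    have h3 : g ^ p = (Cfsg.Agent.S2471.zc ^ p)⁻¹ := eq_inv_of_mul_eq_one_right h2
    rw [h3]
    exact Subgroup.inv_mem _ (Subgroup.pow_mem _ Cfsg.Agent.S2471.zc_mem_center _)

/-- trace from an eigenvalue -/
theorem trace_of_eigen (g : SL2 F) (v : Fin 2 → F) (hv : v ≠ 0) (c : F) (h : g • v = c • v) :
    c * c - (g 0 0 + g 1 1) * c + 1 = 0 := by
  have h0 := congrFun h 0
  have h1 := congrFun h 1
  rw [Cfsg.Agent.Lib.Helper12.SL2.smul_apply] at h0 h1
  simp only [Pi.smul_apply, smul_eq_mul] at h0 h1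
  have hd := det_eq g
  have e0 : (c * c - (g 0 0 + g 1 1) * c + 1) * v 0 = 0 := by
    linear_combination (g 1 1 - c) * h0 - g 0 1 * h1 - v 0 * hd
  have e1 : (c * c - (g 0 0 + g 1 1) * c + 1) * v 1 = 0 := by
    linear_combination (g 0 0 - c) * h1 - g 1 0 * h0 - v 1 * hd
  by_contra hne
  apply hv
  ext i
  fin_cases i
  · exact (mul_eq_zero.mp e0).resolve_left hne
  · exact (mul_eq_zero.mp e1).resolve_left hne

/-- split semisimple elements have order dividing `q - 1` -/
theorem pow_card_sub_one_of_eigen [Fintype F] (g : SL2 F) (v : Fin 2 → F) (hv : v ≠ 0) (c : F)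
    (hc : c * c ≠ 1) (h : g • v = c • v) : g ^ (Fintype.card F - 1) = 1 := by
  have hc0 : c ≠ 0 := by
    rintro rfl
    rw [zero_smul] at h
    apply hv
    have := congrArg (fun w => g⁻¹ • w) h
    simpa using this
  have htr := trace_of_eigen g v hv c h
  have hτ : g 0 0 + g 1 1 = c + c⁻¹ := by
    field_simp
    linear_combination (-1 : F) * htr
  have hδ : c - c⁻¹ ≠ 0 := by
    intro hδ
    apply hc
    field_simp at hδ
    linear_combination hδ
  set M : M2 F := (g : M2 F) with hM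
  have hch := Cfsg.Agent.S0800.ch M g.det_coe
  rw [hτ] at hch
  set e : M2 F := (c - c⁻¹)⁻¹ • (M - c⁻¹ • (1 : M2 F)) with he
  set f : M2 F := (1 : M2 F) - e with hf
  have hδe : (c - c⁻¹) • e = M - c⁻¹ • (1 : M2 F) := by
    rw [he, smul_smul, mul_inv_cancel₀ hδ, one_smul]
  have hMe : M = c • e + c⁻¹ • f := by
    have h1 : c • e + c⁻¹ • f = (c - c⁻¹) • e + c⁻¹ • (1 : M2 F) := by
      rw [hf]; module
    rw [h1, hδe]; abel
  have hee : e * e = e := by
    have h1 : (M - c⁻¹ • (1 : M2 F)) * (M - c⁻¹ • (1 : M2 F)) =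
        (c - c⁻¹) • (M - c⁻¹ • (1 : M2 F)) := by
      simp only [sub_mul, mul_sub, mul_smul_comm, smul_mul_assoc, mul_one, one_mul, hch]
      match_scalars <;> field_simp <;> ring
    have h2 : ((c - c⁻¹) • e) * ((c - c⁻¹) • e) = (c - c⁻¹) • ((c - c⁻¹) • e) := by
      rw [hδe, h1]
    rw [smul_mul_smul_comm, smul_smul] at h2
    have h3 : (c - c⁻¹) * (c - c⁻¹) ≠ 0 := mul_ne_zero hδ hδ
    exact smul_right_injective _ h3 h2
  have hef : e * f = 0 := by rw [hf, mul_sub, mul_one, hee, sub_self]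
  have hfe : f * e = 0 := by rw [hf, sub_mul, one_mul, hee, sub_self]
  have hff : f * f = f := by
    rw [hf]; simp only [mul_sub, sub_mul, mul_one, one_mul, hee]; abel
  have hpow : ∀ k : ℕ, M ^ k = c ^ k • e + (c⁻¹) ^ k • f := by
    intro k
    induction k with
    | zero => simp [hf]
    | succ k ih =>
      rw [pow_succ, ih]
      conv_lhs => rw [hMe]
      simp only [add_mul, mul_add, smul_mul_smul_comm, hee, hef, hfe, hff, smul_zero, add_zero,
        zero_add]
      rw [pow_succ, pow_succ]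
  apply Subtype.ext
  rw [Matrix.SpecialLinearGroup.coe_pow, Matrix.SpecialLinearGroup.coe_one]
  show M ^ (Fintype.card F - 1) = 1
  rw [hpow, FiniteField.pow_card_sub_one_eq_one c hc0,
    FiniteField.pow_card_sub_one_eq_one c⁻¹ (inv_ne_zero hc0), one_smul, one_smul, hf]
  abel


/-- trichotomy for elements of `SL₂(q)` -/
theorem trichotomy [Fintype F] (p : ℕ) [Fact p.Prime] [CharP F p] (g : SL2 F) :
    g ^ p ∈ Subgroup.center (SL2 F) ∨ g ^ (Fintype.card F - 1) = 1 ∨
      g ^ (Fintype.card F + 1) = 1 := by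
  have hq : 2 ≤ Fintype.card F := Fintype.one_lt_card
  by_cases hE : ∀ (c : F) (v : Fin 2 → F), v ≠ 0 →
      (g : M2 F).mulVec v ≠ c • v
  · rcases Cfsg.Agent.S0800.key (g : M2 F) g.det_coe hE with h | h
    · right; left
      have h1 : g ^ (Fintype.card F) = g := by
        apply Subtype.ext
        rw [Matrix.SpecialLinearGroup.coe_pow]
        exact h
      have : g ^ (Fintype.card F - 1) * g = 1 * g := by
        rw [← pow_succ, Nat.sub_add_cancel (by omega), h1, one_mul]
      exact mul_right_cancel this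
    · right; right
      apply Subtype.ext
      rw [pow_succ, Matrix.SpecialLinearGroup.coe_mul, Matrix.SpecialLinearGroup.coe_pow]
      exact h
  · push Not at hE
    obtain ⟨c, v, hv, hcv⟩ := hE
    have hgv : g • v = c • v := hcv
    by_cases hc : c * c = 1
    · left
      exact pow_p_mem_center_of_eigen g v hv c hc hgv
    · right; left
      exact pow_card_sub_one_of_eigen g v hv c hc hgv

theorem two_eq_zero_iff [Fintype F] (p : ℕ) [Fact p.Prime] [CharP F p] :
    (2 : F) = 0 ↔ p = 2 := by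
  have h := CharP.cast_eq_zero_iff F p 2
  rw [Nat.cast_ofNat] at h
  rw [h]
  constructor
  · intro hd
    exact (Nat.prime_dvd_prime_iff_eq Fact.out Nat.prime_two).mp hd
  · rintro rfl; exact dvd_rfl

theorem even_card_of_two_eq_zero [Fintype F] (h2 : (2 : F) = 0) : Even (Fintype.card F) := by
  obtain ⟨p, hp⟩ := CharP.exists F
  have : Fact p.Prime := ⟨CharP.char_is_prime F p⟩
  obtain ⟨n, -, hn⟩ := FiniteField.card F p
  have hp2 : p = 2 := (two_eq_zero_iff p).mp h2
  rw [hn, hp2]
  exact (Nat.even_pow.mpr ⟨even_two, n.pos.ne'⟩)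

theorem odd_card_of_two_ne_zero [Fintype F] (h2 : (2 : F) ≠ 0) : Odd (Fintype.card F) := by
  obtain ⟨p, hp⟩ := CharP.exists F
  have : Fact p.Prime := ⟨CharP.char_is_prime F p⟩
  obtain ⟨n, -, hn⟩ := FiniteField.card F p
  have hp2 : p ≠ 2 := fun h => h2 ((two_eq_zero_iff p).mpr h)
  rw [hn]
  exact Odd.pow ((Fact.out : p.Prime).odd_of_ne_two hp2)

theorem gcd_of_two_eq_zero [Fintype F] (h2 : (2 : F) = 0) :
    Nat.gcd 2 (Fintype.card F - 1) = 1 := by
  obtain ⟨k, hk⟩ := even_card_of_two_eq_zero h2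
  have hq : 2 ≤ Fintype.card F := Fintype.one_lt_card
  have : Fintype.card F - 1 = 2 * (k - 1) + 1 := by omega
  rw [this]
  simp

theorem gcd_of_two_ne_zero [Fintype F] (h2 : (2 : F) ≠ 0) :
    Nat.gcd 2 (Fintype.card F - 1) = 2 := by
  obtain ⟨k, hk⟩ := odd_card_of_two_ne_zero h2
  have : Fintype.card F - 1 = 2 * k := by omega
  rw [this]
  simp

theorem orderOf_mk_dvd_iff (g : SL2 F) (m : ℕ) :
    orderOf (QuotientGroup.mk g : PSL2 F) ∣ m ↔ g ^ m ∈ Subgroup.center (SL2 F) := by
  rw [orderOf_dvd_iff_pow_eq_one, ← QuotientGroup.mk_pow]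
  exact QuotientGroup.eq_one_iff _

/-- halving: in odd characteristic, `g^(2k) = 1` forces `g^k` central. -/
theorem half_mem_center (h2 : (2 : F) ≠ 0) (g : SL2 F) (k : ℕ) (h : g ^ (2 * k) = 1) :
    g ^ k ∈ Subgroup.center (SL2 F) := by
  apply mem_center_of_sq_eq_one h2
  rw [← pow_add, ← two_mul]
  exact h

theorem partA [Fintype F] (p : ℕ) [Fact p.Prime] [CharP F p] (x : PSL2 F) :
    orderOf x ∣ p ∨ orderOf x ∣ (Fintype.card F - 1) / Nat.gcd 2 (Fintype.card F - 1) ∨
      orderOf x ∣ (Fintype.card F + 1) / Nat.gcd 2 (Fintype.card F - 1) := by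
  obtain ⟨g, rfl⟩ := QuotientGroup.mk_surjective x
  have hq : 2 ≤ Fintype.card F := Fintype.one_lt_card
  by_cases h2 : (2 : F) = 0
  · rw [gcd_of_two_eq_zero h2, Nat.div_one, Nat.div_one]
    rcases trichotomy p g with h | h | h
    · left; exact (orderOf_mk_dvd_iff g p).mpr h
    · right; left
      rw [orderOf_mk_dvd_iff, h]; exact Subgroup.one_mem _
    · right; right
      rw [orderOf_mk_dvd_iff, h]; exact Subgroup.one_mem _
  · rw [gcd_of_two_ne_zero h2]
    obtain ⟨k, hk⟩ := odd_card_of_two_ne_zero h2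
    rcases trichotomy p g with h | h | h
    · left; exact (orderOf_mk_dvd_iff g p).mpr h
    · right; left
      have e : Fintype.card F - 1 = 2 * k := by omega
      rw [e] at h ⊢
      rw [Nat.mul_div_cancel_left _ (by norm_num), orderOf_mk_dvd_iff]
      exact half_mem_center h2 g k h
    · right; right
      have e : Fintype.card F + 1 = 2 * (k + 1) := by omega
      rw [e] at h ⊢
      rw [Nat.mul_div_cancel_left _ (by norm_num), orderOf_mk_dvd_iff]
      exact half_mem_center h2 g (k + 1) h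


/-! ### Part B: realizing the orders -/

theorem exists_orderOf_of_dvd {G : Type*} [Group G] (y : G) (hy : orderOf y ≠ 0) (m : ℕ)
    (hm : m ∣ orderOf y) : ∃ z : G, orderOf z = m :=
  ⟨y ^ (orderOf y / m), orderOf_pow_orderOf_div hy hm⟩

theorem orderOf_mk_of_center_eq_bot (hZ : Subgroup.center (SL2 F) = ⊥) (g : SL2 F) :
    orderOf (QuotientGroup.mk g : PSL2 F) = orderOf g := by
  apply Nat.dvd_antisymm
  · rw [orderOf_mk_dvd_iff, pow_orderOf_eq_one]; exact Subgroup.one_mem _
  · have h := (orderOf_mk_dvd_iff g (orderOf (QuotientGroup.mk g : PSL2 F))).mp dvd_rfl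
    have h' : g ^ orderOf (QuotientGroup.mk g : PSL2 F) ∈ (⊥ : Subgroup (SL2 F)) := hZ ▸ h
    rw [Subgroup.mem_bot] at h'
    exact orderOf_dvd_of_pow_eq_one h'

theorem orderOf_mk_of_even (h2 : (2 : F) ≠ 0) (g : SL2 F) (k : ℕ) (hk : orderOf g = 2 * k) :
    orderOf (QuotientGroup.mk g : PSL2 F) = k := by
  apply Nat.dvd_antisymm
  · rw [orderOf_mk_dvd_iff]
    apply half_mem_center h2
    rw [← hk, pow_orderOf_eq_one]
  · have h := (orderOf_mk_dvd_iff g (orderOf (QuotientGroup.mk g : PSL2 F))).mp dvd_rfl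
    have h' := sq_eq_one_of_mem_center _ h
    rw [← pow_add, ← two_mul] at h'
    have := orderOf_dvd_of_pow_eq_one h'
    rw [hk] at this
    exact Nat.dvd_of_mul_dvd_mul_left (by norm_num) this

theorem dg_pow (t : F) (ht : t ≠ 0) (k : ℕ) : dg t ht ^ k = dg (t ^ k) (pow_ne_zero k ht) := by
  induction k with
  | zero => apply ext4 <;> simp [dg]
  | succ k ih =>
    rw [pow_succ, ih]
    apply ext4 <;> simp [mul_apply', dg, pow_succ, mul_comm]

theorem dg_eq_one_iff (t : F) (ht : t ≠ 0) : dg t ht = 1 ↔ t = 1 := by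
  constructor
  · intro h
    have := congrArg (fun g : SL2 F => g 0 0) h
    simpa [dg] using this
  · rintro rfl
    apply ext4 <;> simp [dg]

theorem orderOf_dg (t : F) (ht : t ≠ 0) : orderOf (dg t ht) = orderOf t := by
  apply Nat.dvd_antisymm
  · rw [orderOf_dvd_iff_pow_eq_one, dg_pow, dg_eq_one_iff, pow_orderOf_eq_one]
  · rw [orderOf_dvd_iff_pow_eq_one]
    have := pow_orderOf_eq_one (dg t ht)
    rwa [dg_pow, dg_eq_one_iff] at this

theorem exists_orderOf_card_sub_one [Fintype F] : ∃ Y : SL2 F, orderOf Y = Fintype.card F - 1 := by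
  classical
  obtain ⟨ξ, hξ⟩ := IsCyclic.exists_ofOrder_eq_natCard (α := Fˣ)
  rw [Nat.card_units, Nat.card_eq_fintype_card] at hξ
  refine ⟨dg (ξ : F) ξ.ne_zero, ?_⟩
  rw [orderOf_dg, orderOf_units, hξ]

theorem exists_orderOf_card_add_one [Fintype F] (p : ℕ) [Fact p.Prime] [CharP F p] :
    ∃ Y : SL2 F, orderOf Y = Fintype.card F + 1 := by
  classical
  have hq : 2 ≤ Fintype.card F := Fintype.one_lt_card
  let K := FiniteField.Extension F p 2
  have hfr : Module.finrank F K = 2 := FiniteField.finrank_extension F p 2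
  have hcard : Nat.card K = Fintype.card F ^ 2 := by
    rw [FiniteField.natCard_extension, Nat.card_eq_fintype_card]
  let b : Module.Basis (Fin 2) F K := Module.finBasisOfFinrankEq F K hfr
  let φ : K →ₐ[F] M2 F := Algebra.leftMulMatrix b
  have hφ : Function.Injective φ := Algebra.leftMulMatrix_injective b
  obtain ⟨ξ, hξ⟩ := IsCyclic.exists_ofOrder_eq_natCard (α := Kˣ)
  rw [Nat.card_units, hcard] at hξ
  have hX : φ (ξ : K) * φ ((ξ⁻¹ : Kˣ) : K) = 1 := by
    rw [← map_mul, Units.mul_inv, map_one]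
  have hdet : (φ (ξ : K)).det ≠ 0 := by
    intro h0
    have := congrArg Matrix.det hX
    rw [Matrix.det_mul, h0, zero_mul, Matrix.det_one] at this
    exact zero_ne_one this
  have hdetY : (φ (ξ : K) ^ (Fintype.card F - 1)).det = 1 := by
    rw [Matrix.det_pow, FiniteField.pow_card_sub_one_eq_one _ hdet]
  obtain ⟨Y, hY⟩ : ∃ Y : SL2 F, (Y : M2 F) = φ (ξ : K) ^ (Fintype.card F - 1) :=
    ⟨⟨_, hdetY⟩, rfl⟩
  refine ⟨Y, ?_⟩
  have hpow : ∀ k : ℕ, Y ^ k = 1 ↔ (Fintype.card F + 1) ∣ k := by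
    intro k
    have h1 : Y ^ k = 1 ↔ ((Y ^ k : SL2 F) : M2 F) = 1 :=
      ⟨fun h => by rw [h, Matrix.SpecialLinearGroup.coe_one],
        fun h => Subtype.ext (by rw [h, Matrix.SpecialLinearGroup.coe_one])⟩
    rw [h1, Matrix.SpecialLinearGroup.coe_pow, hY]
    rw [← pow_mul, ← map_pow, ← map_one φ, hφ.eq_iff, ← Units.val_pow_eq_pow_val, Units.val_eq_one,
      ← orderOf_dvd_iff_pow_eq_one, hξ]
    have e : Fintype.card F ^ 2 - 1 = (Fintype.card F - 1) * (Fintype.card F + 1) := by
      obtain ⟨n, hn⟩ : ∃ n, Fintype.card F = n + 1 := ⟨Fintype.card F - 1, by omega⟩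
      rw [hn]; simp only [Nat.add_sub_cancel]; ring_nf; omega
    rw [e]
    exact Nat.mul_dvd_mul_iff_left (by omega)
  apply Nat.dvd_antisymm
  · rw [orderOf_dvd_iff_pow_eq_one, hpow]
  · rw [← hpow, pow_orderOf_eq_one]


theorem orderOf_mk_up_one [Fintype F] (p : ℕ) [Fact p.Prime] [CharP F p] :
    orderOf (QuotientGroup.mk (up (1 : F)) : PSL2 F) = p := by
  apply orderOf_eq_prime
  · rw [← QuotientGroup.mk_pow, ← orderOf_up (p := p) (one_ne_zero (α := F)), pow_orderOf_eq_one]
    rfl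
  · intro h
    have h1 : up (1 : F) ∈ Subgroup.center (SL2 F) := (QuotientGroup.eq_one_iff _).mp h
    have := ((mem_center_iff' _).mp h1).1
    simp [up] at this

theorem main [Fintype F] (p : ℕ) [Fact p.Prime] [CharP F p] :
    Set.range (orderOf : PSL2 F → ℕ) =
      {m : ℕ | m ∣ p ∨ m ∣ (Fintype.card F - 1) / Nat.gcd 2 (Fintype.card F - 1) ∨
        m ∣ (Fintype.card F + 1) / Nat.gcd 2 (Fintype.card F - 1)} := by
  have hq : 2 ≤ Fintype.card F := Fintype.one_lt_card
  ext m
  simp only [Set.mem_range, Set.mem_ofPred_eq]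
  constructor
  · rintro ⟨x, rfl⟩
    exact partA p x
  · rintro (h | h | h)
    · have h1 := orderOf_mk_up_one (F := F) p
      exact exists_orderOf_of_dvd _ (by rw [h1]; exact (Fact.out : p.Prime).ne_zero) m
        (by rw [h1]; exact h)
    · obtain ⟨Y, hY⟩ := exists_orderOf_card_sub_one (F := F)
      by_cases h2 : (2 : F) = 0
      · rw [gcd_of_two_eq_zero h2, Nat.div_one] at h
        have h1 := orderOf_mk_of_center_eq_bot (center_eq_bot_of_char_two h2) Y
        exact exists_orderOf_of_dvd _ (by rw [h1, hY]; omega) m (by rw [h1, hY]; exact h)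
      · rw [gcd_of_two_ne_zero h2] at h
        obtain ⟨k, hk⟩ := odd_card_of_two_ne_zero h2
        have e : Fintype.card F - 1 = 2 * k := by omega
        rw [e, Nat.mul_div_cancel_left _ (by norm_num)] at h
        have h1 := orderOf_mk_of_even h2 Y k (hY.trans e)
        exact exists_orderOf_of_dvd _ (by rw [h1]; omega) m (by rw [h1]; exact h)
    · obtain ⟨Y, hY⟩ := exists_orderOf_card_add_one (F := F) p
      by_cases h2 : (2 : F) = 0
      · rw [gcd_of_two_eq_zero h2, Nat.div_one] at h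
        have h1 := orderOf_mk_of_center_eq_bot (center_eq_bot_of_char_two h2) Y
        exact exists_orderOf_of_dvd _ (by rw [h1, hY]; omega) m (by rw [h1, hY]; exact h)
      · rw [gcd_of_two_ne_zero h2] at h
        obtain ⟨k, hk⟩ := odd_card_of_two_ne_zero h2
        have e : Fintype.card F + 1 = 2 * (k + 1) := by omega
        rw [e, Nat.mul_div_cancel_left _ (by norm_num)] at h
        have h1 := orderOf_mk_of_even h2 Y (k + 1) (hY.trans e)
        exact exists_orderOf_of_dvd _ (by rw [h1]; omega) m (by rw [h1]; exact h)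


/-- The set of element orders of PSL(2,q): let F be a finite field of characteristic p with q ≥ 4 elements and d = gcd(2, q − 1). The orders of elements of PSL(2,F) are exactly the divisors of p, of (q − 1)/d and of (q + 1)/d. -/
theorem result {F : Type*} [Field F] [Fintype F] (p : ℕ) [Fact p.Prime] [CharP F p] (h4 : 4 ≤ Fintype.card F) :
    Set.range (orderOf : Matrix.ProjectiveSpecialLinearGroup (Fin 2) F → ℕ) =
      {m : ℕ | m ∣ p ∨ m ∣ (Fintype.card F - 1) / Nat.gcd 2 (Fintype.card F - 1) ∨ m ∣ (Fintype.card F + 1) / Nat.gcd 2 (Fintype.card F - 1)} := by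
  exact main p

end Cfsg.Agent.S2475
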