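import Cfsg.Statements.S2301
import Mathlib
import Cfsg.Agent.Lib.Helper12.SL2b

set_option autoImplicit false
open Cfsg

namespace Cfsg.Agent.S2301

open Cfsg.Agent.Lib.Helper12.SL2

variable {F : Type*} [Field F]

local notation "SL2" => Matrix.SpecialLinearGroup (Fin 2)

theorem isConj_up_iff {b b' : F} (hb : b ≠ 0) (hb' : b' ≠ 0) :
    IsConj (up b) (up b') ↔ IsSquare (b * b') := by
  constructor
  · intro h
    rw [isConj_iff] at h
    obtain ⟨x, hx⟩ := h
    have hx' : x * up b = up b' * x := by rw [← hx]; group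
    have h00 := congrArg (fun g : SL2 F => g 0 0) hx'
    have h01 := congrArg (fun g : SL2 F => g 0 1) hx'
    simp only [mul_apply', up, mk_00, mk_01, mk_10, mk_11] at h00 h01
    have hc : x 1 0 = 0 := by
      have : b' * x 1 0 = 0 := by linear_combination (-1 : F) * h00
      exact (mul_eq_zero.mp this).resolve_left hb'
    have hd := det_eq x
    rw [hc, mul_zero, sub_zero] at hd
    refine ⟨x 0 0 * b, ?_⟩
    have h01' : x 0 0 * b = b' * x 1 1 := by linear_combination h01
    calc b * b' = b * b' * (x 0 0 * x 1 1) := by rw [hd, mul_one]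
      _ = x 0 0 * b * (b' * x 1 1) := by ring
      _ = x 0 0 * b * (x 0 0 * b) := by rw [h01']
  · rintro ⟨s, hs⟩
    have hs0 : s ≠ 0 := by
      rintro rfl
      rw [mul_zero] at hs
      exact mul_ne_zero hb hb' hs
    have h := isConj_up_of_sq (s / b) (div_ne_zero hs0 hb) b
    have e : (s / b) ^ 2 * b = b' := by
      field_simp
      linear_combination (-1 : F) * hs
    rwa [e] at h

theorem card_sq_eq_one (h2 : (2 : F) ≠ 0) : Nat.card {a : F // a * a = 1} = 2 := by
  rw [Nat.card_eq_two_iff]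
  refine ⟨⟨1, by simp⟩, ⟨-1, by simp⟩, ?_, ?_⟩
  · intro h
    have := congrArg Subtype.val h
    simp only at this
    apply h2
    linear_combination this
  · ext ⟨a, ha⟩
    simp only [Set.mem_insert_iff, Set.mem_singleton_iff, Subtype.mk.injEq, Set.mem_univ, iff_true]
    exact mul_self_eq_one_iff.mp ha

theorem card_centralizer_up [Fintype F] (h2 : (2 : F) ≠ 0) {b : F} (hb : b ≠ 0) :
    Nat.card (Subgroup.centralizer ({up b} : Set (SL2 F))) = 2 * Fintype.card F := by
  have hprod : Nat.card ({a : F // a * a = 1} × F) = 2 * Fintype.card F := by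
    rw [Nat.card_prod, card_sq_eq_one h2, Nat.card_eq_fintype_card]
  rw [← hprod]
  symm
  refine Nat.card_congr (Equiv.ofBijective
    (fun ac : {a : F // a * a = 1} × F =>
      (⟨mk ac.1.1 ac.2 0 ac.1.1 (by rw [mul_zero, sub_zero]; exact ac.1.2),
        (mem_centralizer_up hb _).mpr ⟨rfl, rfl⟩⟩ :
      Subgroup.centralizer ({up b} : Set (SL2 F)))) ⟨?_, ?_⟩)
  · rintro ⟨⟨a, ha⟩, c⟩ ⟨⟨a', ha'⟩, c'⟩ hab
    have h := congrArg Subtype.val hab
    simp only at h
    have h00 := congrArg (fun g : SL2 F => g 0 0) h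
    have h01 := congrArg (fun g : SL2 F => g 0 1) h
    simp only [mk_00, mk_01] at h00 h01
    subst h00
    subst h01
    rfl
  · rintro ⟨x, hx⟩
    obtain ⟨hc, had⟩ := (mem_centralizer_up hb x).mp hx
    have hd := det_eq x
    rw [hc, mul_zero, sub_zero, ← had] at hd
    refine ⟨(⟨x 0 0, hd⟩, x 0 1), Subtype.ext ?_⟩
    apply ext4 <;> simp [hc, ← had]

theorem mul_nonsquare [Fintype F] (hF : ringChar F ≠ 2) {a b : F} (ha : ¬ IsSquare a)
    (hb : ¬ IsSquare b) : IsSquare (a * b) := by
  have ha0 : a ≠ 0 := by rintro rfl; exact ha ⟨0, by simp⟩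
  have hb0 : b ≠ 0 := by rintro rfl; exact hb ⟨0, by simp⟩
  rw [FiniteField.isSquare_iff hF ha0] at ha
  rw [FiniteField.isSquare_iff hF hb0] at hb
  rw [FiniteField.isSquare_iff hF (mul_ne_zero ha0 hb0), mul_pow]
  rw [(FiniteField.pow_dichotomy hF ha0).resolve_left ha,
    (FiniteField.pow_dichotomy hF hb0).resolve_left hb]
  simp


/-- Over a finite field with q elements of odd characteristic p, the elements of order p of SL₂ (the non-identity unipotent elements) fall into exactly two conjugacy classes, each of size (q² − 1)/2; two upper unitriangular matrices with non-zero off-diagonal entries b and b′ are conjugate exactly when bb′ is a square. -/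
theorem result {F : Type*} [Field F] [Fintype F] (p : ℕ) [Fact p.Prime] [CharP F p] (hp : p ≠ 2) :
    Nat.card {C : ConjClasses (Matrix.SpecialLinearGroup (Fin 2) F) // ∃ g : Matrix.SpecialLinearGroup (Fin 2) F, orderOf g = p ∧ ConjClasses.mk g = C} = 2 ∧
    (∀ g : Matrix.SpecialLinearGroup (Fin 2) F, orderOf g = p → Nat.card (ConjClasses.mk g).carrier = (Fintype.card F ^ 2 - 1) / 2) ∧
    ∀ g h : Matrix.SpecialLinearGroup (Fin 2) F, (g : Matrix (Fin 2) (Fin 2) F) 0 0 = 1 → (g : Matrix (Fin 2) (Fin 2) F) 1 1 = 1 → (g : Matrix (Fin 2) (Fin 2) F) 1 0 = 0 → (g : Matrix (Fin 2) (Fin 2) F) 0 1 ≠ 0 →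
      (h : Matrix (Fin 2) (Fin 2) F) 0 0 = 1 → (h : Matrix (Fin 2) (Fin 2) F) 1 1 = 1 → (h : Matrix (Fin 2) (Fin 2) F) 1 0 = 0 → (h : Matrix (Fin 2) (Fin 2) F) 0 1 ≠ 0 →
      (IsConj g h ↔ IsSquare ((g : Matrix (Fin 2) (Fin 2) F) 0 1 * (h : Matrix (Fin 2) (Fin 2) F) 0 1)) := by
  have hF : ringChar F ≠ 2 := by rw [ringChar.eq F p]; exact hp
  have h2 : (2 : F) ≠ 0 := Ring.two_ne_zero hF
  have hkey : ∀ g : Matrix.SpecialLinearGroup (Fin 2) F, orderOf g = p →
      ∃ b : F, b ≠ 0 ∧ IsConj g (up b) := by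
    intro g hg
    obtain ⟨k, b, hb, hk⟩ := exists_conj_up_of_orderOf g hg
    exact ⟨b, hb, isConj_iff.mpr ⟨k⁻¹, by rw [inv_inv, hk]⟩⟩
  refine ⟨?_, ?_, ?_⟩
  · obtain ⟨n, hn⟩ := FiniteField.exists_nonsquare hF
    have hn0 : n ≠ 0 := by rintro rfl; exact hn ⟨0, by simp⟩
    rw [Nat.card_eq_two_iff]
    refine ⟨⟨ConjClasses.mk (up 1), up 1, orderOf_up one_ne_zero, rfl⟩,
      ⟨ConjClasses.mk (up n), up n, orderOf_up hn0, rfl⟩, ?_, ?_⟩
    · intro h
      have := congrArg Subtype.val h
      simp only at this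
      rw [ConjClasses.mk_eq_mk_iff_isConj, isConj_up_iff one_ne_zero hn0, one_mul] at this
      exact hn this
    · ext ⟨C, g, hg, hC⟩
      subst hC
      simp only [Set.mem_insert_iff, Set.mem_singleton_iff, Subtype.mk.injEq, Set.mem_univ,
        iff_true]
      obtain ⟨b, hb, hgb⟩ := hkey g hg
      by_cases hsq : IsSquare b
      · left
        rw [ConjClasses.mk_eq_mk_iff_isConj]
        refine hgb.trans ?_
        rw [isConj_up_iff hb one_ne_zero, mul_one]
        exact hsq
      · right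
        rw [ConjClasses.mk_eq_mk_iff_isConj]
        refine hgb.trans ?_
        rw [isConj_up_iff hb hn0]
        exact mul_nonsquare hF hsq hn
  · intro g hg
    obtain ⟨b, hb, hgb⟩ := hkey g hg
    rw [ConjClasses.mk_eq_mk_iff_isConj.mpr hgb]
    have h1 := Cfsg.Agent.Lib.Helper9.card_carrier_mul_card_centralizer (up b)
    rw [card_centralizer_up h2 hb, card_SL2] at h1
    have h3 : Nat.card (ConjClasses.mk (up b)).carrier * 2 = Fintype.card F ^ 2 - 1 := by
      apply Nat.eq_of_mul_eq_mul_left (Fintype.card_pos (α := F))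
      rw [← h1]
      ring
    omega
  · intro g h g00 g11 g10 g01 h00 h11 h10 h01
    have eg : g = up (g 0 1) := by
      apply ext4
      · simpa [up] using g00
      · simp [up]
      · simpa [up] using g10
      · simpa [up] using g11
    have eh : h = up (h 0 1) := by
      apply ext4
      · simpa [up] using h00
      · simp [up]
      · simpa [up] using h10
      · simpa [up] using h11
    have := isConj_up_iff g01 h01
    rwa [← eg, ← eh] at this

end Cfsg.Agent.S2301
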