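import Cfsg.Statements.S2428
import Mathlib
import Cfsg.Agent.Lib.Helper12.C8

set_option autoImplicit false
open Cfsg

namespace Cfsg.Agent.S2428

open Cfsg.Agent.Lib.Helper12.SL2

variable {F : Type*} [Field F]

local notation "SL2" => Matrix.SpecialLinearGroup (Fin 2)
local notation "M2" => Matrix (Fin 2) (Fin 2)

theorem two_ne_zero_of_odd [Fintype F] (hodd : Odd (Fintype.card F)) : (2 : F) ≠ 0 := by
  intro h
  have := Cfsg.Agent.S2475.even_card_of_two_eq_zero h
  exact (Nat.not_even_iff_odd.mpr hodd) this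

theorem main [Fintype F] (hodd : Odd (Fintype.card F))
    (d : SL2 F) (hd01 : (d : M2 F) 0 1 = 0) (hd10 : (d : M2 F) 1 0 = 0)
    (hda : (d : M2 F) 0 0 ^ 2 ≠ 1) :
    (∀ g : SL2 F, g ∈ Subgroup.centralizer ({d} : Set (SL2 F)) ↔
      ((g : M2 F) 0 1 = 0 ∧ (g : M2 F) 1 0 = 0)) ∧
    Nat.card (Subgroup.normalizer ((Subgroup.centralizer ({d} : Set (SL2 F))) : Set (SL2 F))) =
      2 * (Fintype.card F - 1) ∧
    Nat.card (ConjClasses (Subgroup.normalizer
      ((Subgroup.centralizer ({d} : Set (SL2 F))) : Set (SL2 F)))) = (Fintype.card F + 5) / 2 ∧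
    ∀ g : SL2 F, g ∈ Subgroup.normalizer ((Subgroup.centralizer ({d} : Set (SL2 F))) : Set (SL2 F)) →
      g ∉ Subgroup.centralizer ({d} : Set (SL2 F)) → (g : M2 F) * (g : M2 F) = -1 := by
  have h2 := two_ne_zero_of_odd hodd
  have hΔ := tr_sq_ne_four_of_diag d hd01 hda
  have hcard := card_Tor_diag d hd01 hd10 hda
  have hq : 2 ≤ Fintype.card F := Fintype.one_lt_card
  refine ⟨fun g => mem_Tor_diag_iff d hd01 hd10 hda g, ?_, ?_, ?_⟩
  · have := card_normalizer_centralizer h2 d hΔ
    rw [this]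
    congr 1
  · have := card_conjClasses_NTor h2 d hΔ
    have hc : Nat.card (Tor d) = Fintype.card F - 1 := hcard
    rw [hc] at this
    have h3 : 2 * Nat.card (ConjClasses (NTor d)) = Fintype.card F + 5 := by omega
    show Nat.card (ConjClasses (NTor d)) = (Fintype.card F + 5) / 2
    omega
  · intro g hg hgT
    have := sq_of_not_mem h2 d hΔ g hg hgT
    rwa [Matrix.SpecialLinearGroup.coe_mul] at this


/-- Let F be a finite field with q elements, q odd, and let d be a diagonal element of SL₂ over F whose diagonal entry a has a² ≠ 1 (such d exist exactly when q > 3). Then the centraliser of d is precisely the diagonal subgroup T; the normaliser of T has order 2(q − 1) and exactly (q + 5)/2 conjugacy classes; and every element of that normaliser outside T has square equal to −1. -/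
theorem result {F : Type*} [Field F] [Fintype F] (hodd : Odd (Fintype.card F))
    (d : Matrix.SpecialLinearGroup (Fin 2) F) (hd01 : (d : Matrix (Fin 2) (Fin 2) F) 0 1 = 0) (hd10 : (d : Matrix (Fin 2) (Fin 2) F) 1 0 = 0) (hda : (d : Matrix (Fin 2) (Fin 2) F) 0 0 ^ 2 ≠ 1) :
    (∀ g : Matrix.SpecialLinearGroup (Fin 2) F, g ∈ Subgroup.centralizer ({d} : Set (Matrix.SpecialLinearGroup (Fin 2) F)) ↔ ((g : Matrix (Fin 2) (Fin 2) F) 0 1 = 0 ∧ (g : Matrix (Fin 2) (Fin 2) F) 1 0 = 0)) ∧
    Nat.card (Subgroup.normalizer ((Subgroup.centralizer ({d} : Set (Matrix.SpecialLinearGroup (Fin 2) F))) : Set (Matrix.SpecialLinearGroup (Fin 2) F))) = 2 * (Fintype.card F - 1) ∧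
    Nat.card (ConjClasses (Subgroup.normalizer ((Subgroup.centralizer ({d} : Set (Matrix.SpecialLinearGroup (Fin 2) F))) : Set (Matrix.SpecialLinearGroup (Fin 2) F)))) = (Fintype.card F + 5) / 2 ∧
    ∀ g : Matrix.SpecialLinearGroup (Fin 2) F, g ∈ Subgroup.normalizer ((Subgroup.centralizer ({d} : Set (Matrix.SpecialLinearGroup (Fin 2) F))) : Set (Matrix.SpecialLinearGroup (Fin 2) F)) →
      g ∉ Subgroup.centralizer ({d} : Set (Matrix.SpecialLinearGroup (Fin 2) F)) → ((g * g) : Matrix (Fin 2) (Fin 2) F) = -1 := by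
  exact main hodd d hd01 hd10 hda

end Cfsg.Agent.S2428
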