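import Cfsg.Statements.S2430
import Mathlib
import Cfsg.Agent.Lib.Helper12.C8
import Cfsg.Agent.S2428

set_option autoImplicit false
open Cfsg

namespace Cfsg.Agent.S2430

open Cfsg.Agent.Lib.Helper12.SL2

variable {F : Type*} [Field F]

local notation "SL2" => Matrix.SpecialLinearGroup (Fin 2)
local notation "M2" => Matrix (Fin 2) (Fin 2)

/-- a `p`-element centralizing a Sylow `p`-subgroup lies in it. -/
theorem mem_sylow_of_commute {G : Type*} [Group G] {ℓ : ℕ} [Fact ℓ.Prime] (P : Sylow ℓ G) (t : G)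
    (k : ℕ) (ht : t ^ ℓ ^ k = 1) (hc : ∀ x ∈ P, t * x = x * t) : t ∈ P := by
  have hZ : IsPGroup ℓ (Subgroup.zpowers t) := by
    rintro ⟨y, hy⟩
    obtain ⟨j, rfl⟩ := Subgroup.mem_zpowers_iff.mp hy
    refine ⟨k, ?_⟩
    apply Subtype.ext
    simp only [Subgroup.coe_pow, Subgroup.coe_one]
    rw [← zpow_natCast, ← zpow_mul, mul_comm, zpow_mul, zpow_natCast, ht, one_zpow]
  have hle : Subgroup.zpowers t ≤ Subgroup.normalizer ((P : Subgroup G) : Set G) := by
    rw [Subgroup.zpowers_le, Subgroup.mem_normalizer_iff]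
    intro x
    constructor
    · intro hx
      rw [hc x hx, mul_inv_cancel_right]; exact hx
    · intro hx
      have h1 := hc _ hx
      -- t * (t x t⁻¹) = (t x t⁻¹) * t  ⇒  t x = x t... derive x = t x t⁻¹
      have h2 : t * x * t⁻¹ = x := by
        have hy : t⁻¹ * (t * x * t⁻¹) * t = t * x * t⁻¹ := by
          calc t⁻¹ * (t * x * t⁻¹) * t = t⁻¹ * ((t * x * t⁻¹) * t) := mul_assoc _ _ _
            _ = t⁻¹ * (t * (t * x * t⁻¹)) := by rw [h1]
            _ = t * x * t⁻¹ := by group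
        calc t * x * t⁻¹ = t⁻¹ * (t * x * t⁻¹) * t := hy.symm
          _ = x := by group
      rw [← h2]; exact hx
  have hsup := IsPGroup.to_sup_of_normal_right' hZ P.2 hle
  have hmax := P.is_maximal' hsup le_sup_right
  have : t ∈ Subgroup.zpowers t ⊔ (P : Subgroup G) :=
    (le_sup_left : Subgroup.zpowers t ≤ _) (Subgroup.mem_zpowers t)
  rw [hmax] at this
  exact this

theorem main [Fintype F] (hodd : Odd (Fintype.card F)) (ℓ : ℕ) [Fact ℓ.Prime] (hℓ : ℓ ≠ 2)
    (P : Sylow ℓ (SL2 F)) (hdvd : ℓ ∣ Fintype.card F - 1 ∨ ℓ ∣ Fintype.card F + 1) :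
    ∃ z : SL2 F, tr z ^ 2 ≠ 4 ∧ Subgroup.centralizer ((P : Subgroup (SL2 F)) : Set (SL2 F)) = Tor z ∧
      Subgroup.normalizer ((P : Subgroup (SL2 F)) : Set (SL2 F)) = NTor z ∧ ℓ ∣ Nat.card (Tor z) := by
  classical
  have h2 := Cfsg.Agent.S2428.two_ne_zero_of_odd hodd
  have hq : 2 ≤ Fintype.card F := Fintype.one_lt_card
  obtain ⟨p, hp⟩ := CharP.exists F
  have : Fact p.Prime := ⟨CharP.char_is_prime F p⟩
  obtain ⟨n, -, hn⟩ := FiniteField.card F p
  have hpq : p ∣ Fintype.card F := by rw [hn]; exact dvd_pow_self p n.pos.ne'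
  have hℓp : ℓ ≠ p := by
    rintro rfl
    rcases hdvd with h | h
    · have h1 : ℓ ∣ (Fintype.card F - 1) + 1 := by
        rw [Nat.sub_add_cancel (by omega)]; exact hpq
      have : ℓ ∣ 1 := (Nat.dvd_add_right h).mp h1
      exact (Fact.out : ℓ.Prime).one_lt.ne' (Nat.dvd_one.mp this)
    · have : ℓ ∣ 1 := (Nat.dvd_add_right hpq).mp h
      exact (Fact.out : ℓ.Prime).one_lt.ne' (Nat.dvd_one.mp this)
  -- P is nontrivial
  have hℓcard : ℓ ∣ Nat.card (SL2 F) := by
    rw [card_SL2]
    have e : Fintype.card F ^ 2 - 1 = (Fintype.card F - 1) * (Fintype.card F + 1) := by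
      obtain ⟨m, hm⟩ : ∃ m, Fintype.card F = m + 1 := ⟨Fintype.card F - 1, by omega⟩
      rw [hm]; simp only [Nat.add_sub_cancel]; ring_nf; omega
    rw [e]
    rcases hdvd with h | h
    · exact Dvd.dvd.mul_left (Dvd.dvd.mul_right h _) _
    · exact Dvd.dvd.mul_left (Dvd.dvd.mul_left h _) _
  have hPne : (P : Subgroup (SL2 F)) ≠ ⊥ := P.ne_bot_of_dvd_card hℓcard
  have : Nontrivial (P : Subgroup (SL2 F)) := (Subgroup.nontrivial_iff_ne_bot _).mpr hPne
  have hcn := IsPGroup.center_nontrivial P.2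
  obtain ⟨⟨z, hzc⟩, hz1⟩ := exists_ne (1 : Subgroup.center (P : Subgroup (SL2 F)))
  have hz1' : (z : SL2 F) ≠ 1 := by
    intro h
    apply hz1
    apply Subtype.ext
    apply Subtype.ext
    exact h
  obtain ⟨k, hk⟩ := P.2 z
  have hk' : (z : SL2 F) ^ ℓ ^ k = 1 := by
    have := congrArg Subtype.val hk
    simpa using this
  have hzP : ∀ x ∈ (P : Subgroup (SL2 F)), x * (z : SL2 F) = (z : SL2 F) * x := by
    intro x hx
    have := (Subgroup.mem_center_iff.mp hzc) ⟨x, hx⟩
    exact congrArg Subtype.val this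
  -- z is regular
  have hΔ : tr (z : SL2 F) ^ 2 ≠ 4 := by
    intro h4
    have hsq : IsSquare (tr (z : SL2 F) ^ 2 - 4) := by rw [h4, sub_self]; exact ⟨0, by simp⟩
    have hE : ¬ ∀ (c : F) (v : Fin 2 → F), v ≠ 0 → ((z : SL2 F) : M2 F).mulVec v ≠ c • v :=
      fun hE => not_isSquare_of_noeig h2 _ hE hsq
    push Not at hE
    obtain ⟨c, v, hv, hcv⟩ := hE
    have htr := Cfsg.Agent.S2475.trace_of_eigen (z : SL2 F) v hv c hcv
    have hcc : c * c = 1 := by
      have h5 : (2 * c - tr (z : SL2 F)) ^ 2 = 0 := by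
        unfold tr at h4 ⊢
        linear_combination 4 * htr + h4
      have h6 : 2 * c = tr (z : SL2 F) := sub_eq_zero.mp (pow_eq_zero_iff (two_ne_zero) |>.mp h5)
      have h7 : (2 : F) * 2 * (c * c - 1) = 0 := by
        have : (2 * c) ^ 2 = 4 := by rw [h6]; exact h4
        linear_combination this
      have h8 := (mul_eq_zero.mp h7).resolve_left (mul_ne_zero h2 h2)
      exact sub_eq_zero.mp h8
    have h1 := Cfsg.Agent.S2475.pow_p_mem_center_of_eigen (p := p) (z : SL2 F) v hv c hcc hcv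
    have h3 := Cfsg.Agent.S2475.sq_eq_one_of_mem_center _ h1
    rw [← pow_add, ← two_mul] at h3
    have hd1 := orderOf_dvd_of_pow_eq_one h3
    have hd2 := orderOf_dvd_of_pow_eq_one hk'
    have hcop : Nat.Coprime (ℓ ^ k) (2 * p) := by
      apply Nat.Coprime.pow_left
      apply Nat.Coprime.mul_right
      · exact (Nat.coprime_primes Fact.out Nat.prime_two).mpr hℓ
      · exact (Nat.coprime_primes Fact.out Fact.out).mpr hℓp
    have := Nat.dvd_gcd hd2 hd1
    rw [hcop.gcd_eq_one, Nat.dvd_one, orderOf_eq_one_iff] at this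
    exact hz1' this
  have hNS := nonScalar_of_tr (z : SL2 F) hΔ
  have hPT : (P : Subgroup (SL2 F)) ≤ Tor (z : SL2 F) := by
    intro x hx
    rw [Subgroup.mem_centralizer_singleton_iff]
    exact hzP x hx
  refine ⟨(z : SL2 F), hΔ, ?_, ?_, ?_⟩
  · -- centralizer
    ext g
    rw [Subgroup.mem_centralizer_iff]
    constructor
    · intro hg
      rw [Subgroup.mem_centralizer_singleton_iff]
      exact (hg _ z.2).symm
    · intro hg x hx
      rw [Subgroup.mem_centralizer_singleton_iff] at hg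
      exact commute_of_commute (z : SL2 F) x g hNS (hzP x hx) hg
  · -- normalizer
    apply le_antisymm
    · intro g hg
      rw [mem_normalizer_centralizer_iff h2 _ hΔ]
      have h1 : g * (z : SL2 F) * g⁻¹ ∈ (P : Subgroup (SL2 F)) :=
        (Subgroup.mem_normalizer_iff.mp hg _).mp z.2
      exact eq_or_eq_inv_of_tr_eq h2 _ _ hΔ (hzP _ h1) (tr_conj g _)
    · -- N(T) ≤ N(P)
      have key : ∀ g ∈ NTor (z : SL2 F), ∀ x ∈ (P : Subgroup (SL2 F)),
          g * x * g⁻¹ ∈ (P : Subgroup (SL2 F)) := by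
        intro g hg x hx
        have hxT : g * x * g⁻¹ ∈ Tor (z : SL2 F) :=
          (Subgroup.mem_normalizer_iff.mp hg x).mp (hPT hx)
        obtain ⟨j, hj⟩ := P.2 ⟨x, hx⟩
        have hj' : x ^ ℓ ^ j = 1 := by
          have := congrArg Subtype.val hj
          simpa using this
        apply mem_sylow_of_commute P _ j
        · rw [conj_pow, hj', mul_one, mul_inv_cancel]
        · intro y hy
          rw [Subgroup.mem_centralizer_singleton_iff] at hxT
          exact commute_of_commute (z : SL2 F) _ y hNS hxT (hzP y hy)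
      intro g hg
      rw [Subgroup.mem_normalizer_iff]
      intro x
      constructor
      · exact key g hg x
      · intro hx
        have := key g⁻¹ (Subgroup.inv_mem _ hg) _ hx
        have e : g⁻¹ * (g * x * g⁻¹) * g⁻¹⁻¹ = x := by group
        rwa [e] at this
  · -- ℓ divides |T|
    have hzT : (z : SL2 F) ∈ Tor (z : SL2 F) := Subgroup.mem_centralizer_singleton_iff.mpr rfl
    have hd2 := orderOf_dvd_of_pow_eq_one hk'
    obtain ⟨j, hj, hjo⟩ := (Nat.dvd_prime_pow Fact.out).mp hd2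
    have hj0 : j ≠ 0 := by
      rintro rfl
      rw [pow_zero, orderOf_eq_one_iff] at hjo
      exact hz1' hjo
    have h1 : orderOf (z : SL2 F) ∣ Nat.card (Tor (z : SL2 F)) := by
      have := orderOf_dvd_natCard (⟨(z : SL2 F), hzT⟩ : Tor (z : SL2 F))
      rwa [Subgroup.orderOf_mk] at this
    rw [hjo] at h1
    exact (dvd_pow_self ℓ hj0).trans h1


theorem final [Fintype F] (hodd : Odd (Fintype.card F)) (ℓ : ℕ) [Fact ℓ.Prime] (hℓ : ℓ ≠ 2)
    (P : Sylow ℓ (SL2 F)) :
    (ℓ ∣ Fintype.card F - 1 →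
      Nat.card (Subgroup.centralizer ((P : Subgroup (SL2 F)) : Set (SL2 F))) = Fintype.card F - 1 ∧
      IsCyclic (Subgroup.centralizer ((P : Subgroup (SL2 F)) : Set (SL2 F))) ∧
      Nat.card (Subgroup.normalizer ((P : Subgroup (SL2 F)) : Set (SL2 F))) =
        2 * (Fintype.card F - 1)) ∧
    (ℓ ∣ Fintype.card F + 1 →
      Nat.card (Subgroup.centralizer ((P : Subgroup (SL2 F)) : Set (SL2 F))) = Fintype.card F + 1 ∧
      IsCyclic (Subgroup.centralizer ((P : Subgroup (SL2 F)) : Set (SL2 F))) ∧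
      Nat.card (Subgroup.normalizer ((P : Subgroup (SL2 F)) : Set (SL2 F))) =
        2 * (Fintype.card F + 1)) := by
  have h2 := Cfsg.Agent.S2428.two_ne_zero_of_odd hodd
  have hq : 2 ≤ Fintype.card F := Fintype.one_lt_card
  have hℓ2 : ¬ ℓ ∣ 2 := by
    intro h
    exact hℓ ((Nat.prime_dvd_prime_iff_eq Fact.out Nat.prime_two).mp h)
  constructor
  · intro hd
    obtain ⟨z, hΔ, hC, hN, hℓT⟩ := main hodd ℓ hℓ P (Or.inl hd)
    obtain ⟨hcard, hcyc⟩ := card_Tor_regular h2 z hΔ
    have hc : Nat.card (Tor z) = Fintype.card F - 1 := by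
      rcases hcard with h | h
      · exact h
      · exfalso
        rw [h] at hℓT
        have e : Fintype.card F + 1 = (Fintype.card F - 1) + 2 := by omega
        rw [e] at hℓT
        exact hℓ2 ((Nat.dvd_add_right hd).mp hℓT)
    rw [hC, hN]
    refine ⟨hc, hcyc, ?_⟩
    have := card_normalizer_centralizer h2 z hΔ
    rw [this]
    congr 1
  · intro hd
    obtain ⟨z, hΔ, hC, hN, hℓT⟩ := main hodd ℓ hℓ P (Or.inr hd)
    obtain ⟨hcard, hcyc⟩ := card_Tor_regular h2 z hΔ
    have hc : Nat.card (Tor z) = Fintype.card F + 1 := by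
      rcases hcard with h | h
      · exfalso
        rw [h] at hℓT
        have e : Fintype.card F + 1 = (Fintype.card F - 1) + 2 := by omega
        rw [e] at hd
        exact hℓ2 ((Nat.dvd_add_right hℓT).mp hd)
      · exact h
    rw [hC, hN]
    refine ⟨hc, hcyc, ?_⟩
    have := card_normalizer_centralizer h2 z hΔ
    rw [this]
    congr 1


/-- Let F be a finite field with q elements, q odd, ℓ an odd prime, and P a Sylow ℓ-subgroup of SL₂ over F. If ℓ divides q − 1, the centraliser of P is cyclic of order q − 1 (a split torus) and the normaliser of P has order 2(q − 1); if ℓ divides q + 1, the centraliser of P is cyclic of order q + 1 (a non-split torus) and the normaliser of P has order 2(q + 1). -/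
theorem result {F : Type*} [Field F] [Fintype F] (hodd : Odd (Fintype.card F)) (ℓ : ℕ) [Fact ℓ.Prime] (hℓ : ℓ ≠ 2)
    (P : Sylow ℓ (Matrix.SpecialLinearGroup (Fin 2) F)) :
    (ℓ ∣ Fintype.card F - 1 →
      Nat.card (Subgroup.centralizer ((P : Subgroup (Matrix.SpecialLinearGroup (Fin 2) F)) : Set (Matrix.SpecialLinearGroup (Fin 2) F))) = Fintype.card F - 1 ∧
      IsCyclic (Subgroup.centralizer ((P : Subgroup (Matrix.SpecialLinearGroup (Fin 2) F)) : Set (Matrix.SpecialLinearGroup (Fin 2) F))) ∧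
      Nat.card (Subgroup.normalizer ((P : Subgroup (Matrix.SpecialLinearGroup (Fin 2) F)) : Set (Matrix.SpecialLinearGroup (Fin 2) F))) = 2 * (Fintype.card F - 1)) ∧
    (ℓ ∣ Fintype.card F + 1 →
      Nat.card (Subgroup.centralizer ((P : Subgroup (Matrix.SpecialLinearGroup (Fin 2) F)) : Set (Matrix.SpecialLinearGroup (Fin 2) F))) = Fintype.card F + 1 ∧
      IsCyclic (Subgroup.centralizer ((P : Subgroup (Matrix.SpecialLinearGroup (Fin 2) F)) : Set (Matrix.SpecialLinearGroup (Fin 2) F))) ∧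
      Nat.card (Subgroup.normalizer ((P : Subgroup (Matrix.SpecialLinearGroup (Fin 2) F)) : Set (Matrix.SpecialLinearGroup (Fin 2) F))) = 2 * (Fintype.card F + 1)) := by
  exact final hodd ℓ hℓ P

end Cfsg.Agent.S2430
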