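import Cfsg.Statements.S2508
import Mathlib
import Cfsg.Agent.Lib.Helper12.C9
import Cfsg.Agent.S2428
import Cfsg.Agent.S2301

set_option autoImplicit false
open Cfsg

namespace Cfsg.Agent.S2508

open Cfsg.Agent.Lib.Helper12.SL2

variable {F : Type*} [Field F]

local notation "SL2" => Matrix.SpecialLinearGroup (Fin 2)
local notation "M2" => Matrix (Fin 2) (Fin 2)
local notation "PSL2" => Matrix.ProjectiveSpecialLinearGroup (Fin 2)

theorem mem_center_iff_eq (h2 : (2 : F) ≠ 0) (x : SL2 F) :
    x ∈ Subgroup.center (SL2 F) ↔ x = 1 ∨ x = zc' := by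
  constructor
  · intro hx
    exact eq_one_or_zc_of_sq h2 x (Cfsg.Agent.S2475.sq_eq_one_of_mem_center x hx)
  · rintro (rfl | rfl)
    · exact Subgroup.one_mem _
    · exact Cfsg.Agent.S2471.zc_mem_center

/-- the preimage in `SL₂` of the centralizer of the image of `g` in `PSL₂`. -/
noncomputable def Ct (g : SL2 F) : Subgroup (SL2 F) :=
  (Subgroup.centralizer ({(QuotientGroup.mk g : PSL2 F)} : Set (PSL2 F))).comap
    (QuotientGroup.mk' (Subgroup.center (SL2 F)))

theorem index_Ct (g : SL2 F) :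
    (Ct g).index = (Subgroup.centralizer ({(QuotientGroup.mk g : PSL2 F)} : Set (PSL2 F))).index :=
  Subgroup.index_comap_of_surjective _ (QuotientGroup.mk'_surjective _)

theorem mem_Ct_iff (h2 : (2 : F) ≠ 0) (g h : SL2 F) :
    h ∈ Ct g ↔ h * g = g * h ∨ h * g = zc' * (g * h) := by
  unfold Ct
  rw [Subgroup.mem_comap, Subgroup.mem_centralizer_singleton_iff]
  show (QuotientGroup.mk (h * g) : PSL2 F) = QuotientGroup.mk (g * h) ↔ _
  rw [QuotientGroup.eq, mem_center_iff_eq h2]
  constructor
  · rintro (h1 | h1)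
    · left
      calc h * g = (h * g) * ((h * g)⁻¹ * (g * h)) := by rw [h1, mul_one]
        _ = g * h := by group
    · right
      have hz : (zc' : SL2 F) * zc' = 1 := Cfsg.Agent.S2471.zc_mul_self
      have h3 : g * h = (h * g) * zc' := by
        calc g * h = (h * g) * ((h * g)⁻¹ * (g * h)) := by group
          _ = (h * g) * zc' := by rw [h1]
      rw [h3, ← Cfsg.Agent.S2471.zc_central, mul_assoc, hz, mul_one]
  · rintro (h1 | h1)
    · left; rw [h1]; group
    · right
      rw [h1]
      have hz : (zc' : SL2 F) * zc' = 1 := Cfsg.Agent.S2471.zc_mul_self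
      have : (zc' : SL2 F)⁻¹ = zc' := inv_eq_of_mul_eq_one_left hz
      rw [mul_inv_rev, this, mul_assoc, ← Cfsg.Agent.S2471.zc_central, ← mul_assoc]
      rw [inv_mul_cancel, one_mul]

theorem tr_zc_mul (g : SL2 F) : tr (zc' * g) = - tr g := by
  simp only [tr, mul_apply', zc', Cfsg.Agent.S2471.zc, mk_00, mk_01, mk_10, mk_11]
  ring

theorem Ct_eq_Tor (h2 : (2 : F) ≠ 0) (g : SL2 F) (htr : tr g ≠ 0) : Ct g = Tor g := by
  ext h
  rw [mem_Ct_iff h2, Subgroup.mem_centralizer_singleton_iff]
  constructor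
  · rintro (h1 | h1)
    · exact h1
    · exfalso
      have h3 : h * g * h⁻¹ = zc' * g := by
        rw [h1]; group
      have h4 := tr_conj h g
      rw [h3, tr_zc_mul] at h4
      apply htr
      have : 2 * tr g = 0 := by linear_combination -h4
      exact (mul_eq_zero.mp this).resolve_left h2
  · intro h1; exact Or.inl h1

theorem inv_eq_zc_mul (g : SL2 F) (htr : tr g = 0) : g⁻¹ = zc' * g := by
  have h1 := sq_eq_zc_of_tr_eq_zero g htr
  have hz : (zc' : SL2 F) * zc' = 1 := Cfsg.Agent.S2471.zc_mul_self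
  apply inv_eq_of_mul_eq_one_left
  rw [mul_assoc, h1, hz]

theorem Ct_eq_NTor (h2 : (2 : F) ≠ 0) (g : SL2 F) (htr : tr g = 0) : Ct g = NTor g := by
  have hΔ := tr_sq_ne_four_of_tr_eq_zero h2 g htr
  ext h
  rw [mem_Ct_iff h2, mem_normalizer_centralizer_iff h2 g hΔ, inv_eq_zc_mul g htr]
  constructor
  · rintro (h1 | h1)
    · left; rw [h1]; group
    · right; rw [h1]; group
  · rintro (h1 | h1)
    · left
      calc h * g = h * g * h⁻¹ * h := by group
        _ = g * h := by rw [h1]
    · right
      calc h * g = h * g * h⁻¹ * h := by group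
        _ = zc' * g * h := by rw [h1]
        _ = zc' * (g * h) := mul_assoc _ _ _

theorem Tor_zc_mul (g : SL2 F) : Tor (zc' * g) = Tor g := by
  ext h
  rw [Subgroup.mem_centralizer_singleton_iff, Subgroup.mem_centralizer_singleton_iff]
  constructor
  · intro h1
    have : zc' * (h * g) = zc' * (g * h) := by
      calc zc' * (h * g) = h * (zc' * g) := by
            rw [← mul_assoc, ← Cfsg.Agent.S2471.zc_central, mul_assoc]
        _ = zc' * g * h := h1
        _ = zc' * (g * h) := mul_assoc _ _ _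
    exact mul_left_cancel this
  · intro h1
    calc h * (zc' * g) = zc' * (h * g) := by
          rw [← mul_assoc, Cfsg.Agent.S2471.zc_central, mul_assoc]
      _ = zc' * (g * h) := by rw [h1]
      _ = zc' * g * h := (mul_assoc _ _ _).symm


theorem card_Tor_conj_up [Fintype F] (h2 : (2 : F) ≠ 0) (g k : SL2 F) (b : F) (hb : b ≠ 0)
    (hk : k⁻¹ * g * k = up b) : Nat.card (Tor g) = 2 * Fintype.card F := by
  have e := TorConjEquiv k⁻¹ g
  rw [inv_inv, hk] at e
  rw [Nat.card_congr e.toEquiv]
  exact Cfsg.Agent.S2301.card_centralizer_up h2 hb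

theorem isSquare_neg_four_iff (h2 : (2 : F) ≠ 0) : IsSquare ((0 : F) ^ 2 - 4) ↔ IsSquare (-1 : F) := by
  constructor
  · rintro ⟨r, hr⟩
    refine ⟨r / 2, ?_⟩
    field_simp
    linear_combination hr
  · rintro ⟨i, hi⟩
    refine ⟨2 * i, ?_⟩
    linear_combination 4 * hi

/-- the possible orders of `Ct g`. -/
theorem card_Ct_cases [Fintype F] (h2 : (2 : F) ≠ 0) (g : SL2 F) :
    Ct g = ⊤ ∨ Nat.card (Ct g) = 2 * Fintype.card F ∨
      (IsSquare (-1 : F) ∧ Nat.card (Ct g) = 2 * (Fintype.card F - 1)) ∨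
      (¬ IsSquare (-1 : F) ∧ Nat.card (Ct g) = 2 * (Fintype.card F + 1)) ∨
      Nat.card (Ct g) = Fintype.card F - 1 ∨ Nat.card (Ct g) = Fintype.card F + 1 := by
  by_cases htr : tr g = 0
  · -- trace zero
    have hΔ := tr_sq_ne_four_of_tr_eq_zero h2 g htr
    have hN := card_normalizer_centralizer h2 g hΔ
    rw [Ct_eq_NTor h2 g htr]
    by_cases hs : IsSquare (-1 : F)
    · right; right; left
      refine ⟨hs, ?_⟩
      have hs' : IsSquare (tr g ^ 2 - 4) := by rw [htr]; exact (isSquare_neg_four_iff h2).mpr hs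
      show Nat.card (NTor g) = _
      rw [hN, (card_Tor_of_isSquare h2 g hΔ hs').1]
    · right; right; right; left
      refine ⟨hs, ?_⟩
      have hs' : ¬ IsSquare (tr g ^ 2 - 4) := by
        rw [htr]; exact fun h => hs ((isSquare_neg_four_iff h2).mp h)
      show Nat.card (NTor g) = _
      rw [hN, (card_Tor_of_not_isSquare h2 g hs').1]
  · rw [Ct_eq_Tor h2 g htr]
    by_cases hΔ : tr g ^ 2 = 4
    · -- unipotent up to sign
      have hsq : IsSquare (tr g ^ 2 - 4) := by rw [hΔ, sub_self]; exact ⟨0, by simp⟩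
      have hE : ¬ ∀ (c : F) (v : Fin 2 → F), v ≠ 0 → (g : M2 F).mulVec v ≠ c • v :=
        fun hE => not_isSquare_of_noeig h2 _ hE hsq
      push Not at hE
      obtain ⟨c, v, hv, hcv⟩ := hE
      have hgv : g • v = c • v := hcv
      have htr' := Cfsg.Agent.S2475.trace_of_eigen g v hv c hcv
      have hcc : c * c = 1 := by
        have h5 : (2 * c - tr g) ^ 2 = 0 := by
          unfold tr at hΔ ⊢
          linear_combination 4 * htr' + hΔ
        have h6 : 2 * c = tr g := sub_eq_zero.mp (pow_eq_zero_iff (two_ne_zero) |>.mp h5)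
        have h7 : (2 : F) * 2 * (c * c - 1) = 0 := by
          have : (2 * c) ^ 2 = 4 := by rw [h6]; exact hΔ
          linear_combination this
        have h8 := (mul_eq_zero.mp h7).resolve_left (mul_ne_zero h2 h2)
        exact sub_eq_zero.mp h8
      rcases mul_self_eq_one_iff.mp hcc with h1 | h1
      · rw [h1, one_smul] at hgv
        obtain ⟨k, b, hk⟩ := exists_conj_up_of_fix g v hv hgv
        by_cases hb : b = 0
        · left
          rw [hb, up_zero] at hk
          have hg1 : g = 1 := by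
            calc g = k * (k⁻¹ * g * k) * k⁻¹ := by group
              _ = 1 := by rw [hk]; group
          rw [hg1, eq_top_iff]
          intro x _
          rw [Subgroup.mem_centralizer_singleton_iff, mul_one, one_mul]
        · right; left
          exact card_Tor_conj_up h2 g k b hb hk
      · have hfix : (zc' * g) • v = v := by
          rw [mul_smul, hgv, Cfsg.Agent.S2475.zc_smul, smul_smul, h1]
          simp
        obtain ⟨k, b, hk⟩ := exists_conj_up_of_fix (zc' * g) v hv hfix
        by_cases hb : b = 0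
        · left
          rw [hb, up_zero] at hk
          have hg1 : zc' * g = 1 := by
            calc zc' * g = k * (k⁻¹ * (zc' * g) * k) * k⁻¹ := by group
              _ = 1 := by rw [hk]; group
          rw [← Tor_zc_mul, hg1, eq_top_iff]
          intro x _
          rw [Subgroup.mem_centralizer_singleton_iff, mul_one, one_mul]
        · right; left
          rw [← Tor_zc_mul]
          exact card_Tor_conj_up h2 (zc' * g) k b hb hk
    · rcases (card_Tor_regular h2 g hΔ).1 with h | h
      · right; right; right; right; left; exact h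
      · right; right; right; right; right; exact h

theorem sq_sub_one (q : ℕ) (hq : 2 ≤ q) : q ^ 2 - 1 = (q - 1) * (q + 1) := by
  obtain ⟨n, hn⟩ : ∃ n, q = n + 1 := ⟨q - 1, by omega⟩
  rw [hn]; simp only [Nat.add_sub_cancel]; ring_nf; omega

theorem card_mul_index_Ct [Fintype F] (g : SL2 F) :
    Nat.card (Ct g) * (Ct g).index = Fintype.card F * ((Fintype.card F - 1) * (Fintype.card F + 1)) := by
  rw [Subgroup.card_mul_index, card_SL2, sq_sub_one _ Fintype.one_lt_card]

/-- arithmetic: the index from the order -/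
theorem idx_arith (q c i : ℕ) (hq : 3 ≤ q) (hodd : q % 2 = 1)
    (h : c * i = q * ((q - 1) * (q + 1))) :
    (c = 2 * q → i = (q ^ 2 - 1) / 2) ∧ (c = 2 * (q - 1) → i = q * (q + 1) / 2) ∧
    (c = 2 * (q + 1) → i = q * (q - 1) / 2) ∧ (c = q - 1 → i = q * (q + 1)) ∧
    (c = q + 1 → i = q * (q - 1)) := by
  have e := sq_sub_one q (by omega)
  refine ⟨?_, ?_, ?_, ?_, ?_⟩
  · rintro rfl
    have : q * (2 * i) = q * ((q - 1) * (q + 1)) := by rw [← h]; ring
    have h3 := Nat.eq_of_mul_eq_mul_left (by omega) this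
    rw [e]; omega
  · rintro rfl
    have : (q - 1) * (2 * i) = (q - 1) * (q * (q + 1)) := by rw [← mul_assoc, ← mul_assoc, mul_comm (q - 1) 2, h]; ring
    have h3 := Nat.eq_of_mul_eq_mul_left (by omega) this
    omega
  · rintro rfl
    have : (q + 1) * (2 * i) = (q + 1) * (q * (q - 1)) := by rw [← mul_assoc, ← mul_assoc, mul_comm (q + 1) 2, h]; ring
    have h3 := Nat.eq_of_mul_eq_mul_left (by omega) this
    omega
  · rintro rfl
    have : (q - 1) * i = (q - 1) * (q * (q + 1)) := by rw [h]; ring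
    exact Nat.eq_of_mul_eq_mul_left (by omega) this
  · rintro rfl
    have : (q + 1) * i = (q + 1) * (q * (q - 1)) := by rw [h]; ring
    exact Nat.eq_of_mul_eq_mul_left (by omega) this


theorem index_cases [Fintype F] (h2 : (2 : F) ≠ 0) (h7 : 7 ≤ Fintype.card F)
    (hodd : Fintype.card F % 2 = 1) (g : SL2 F) :
    (Ct g).index = 1 ∨ (Ct g).index = (Fintype.card F ^ 2 - 1) / 2 ∨
      (IsSquare (-1 : F) ∧ (Ct g).index = Fintype.card F * (Fintype.card F + 1) / 2) ∨
      (¬ IsSquare (-1 : F) ∧ (Ct g).index = Fintype.card F * (Fintype.card F - 1) / 2) ∨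
      (Ct g).index = Fintype.card F * (Fintype.card F + 1) ∨
      (Ct g).index = Fintype.card F * (Fintype.card F - 1) := by
  have hci := card_mul_index_Ct g
  obtain ⟨a1, a2, a3, a4, a5⟩ := idx_arith (Fintype.card F) _ _ (by omega) hodd hci
  rcases card_Ct_cases h2 g with h | h | ⟨hs, h⟩ | ⟨hs, h⟩ | h | h
  · left; rw [h]; exact Subgroup.index_top
  · right; left; exact a1 h
  · right; right; left; exact ⟨hs, a2 h⟩
  · right; right; right; left; exact ⟨hs, a3 h⟩
  · right; right; right; right; left; exact a4 h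
  · right; right; right; right; right; exact a5 h

theorem wit_one [Fintype F] : (Ct (1 : SL2 F)).index = 1 := by
  rw [Subgroup.index_eq_one, eq_top_iff]
  intro x _
  unfold Ct
  rw [Subgroup.mem_comap, Subgroup.mem_centralizer_singleton_iff]
  show _ * (QuotientGroup.mk (1 : SL2 F) : PSL2 F) = QuotientGroup.mk (1 : SL2 F) * _
  rw [QuotientGroup.mk_one, mul_one, one_mul]

theorem wit_up [Fintype F] (h2 : (2 : F) ≠ 0) (h7 : 7 ≤ Fintype.card F)
    (hodd : Fintype.card F % 2 = 1) :
    (Ct (up (1 : F))).index = (Fintype.card F ^ 2 - 1) / 2 := by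
  have hci := card_mul_index_Ct (up (1 : F))
  obtain ⟨a1, -, -, -, -⟩ := idx_arith (Fintype.card F) _ _ (by omega) hodd hci
  apply a1
  have htr : tr (up (1 : F)) ≠ 0 := by
    simp only [tr, up, mk_00, mk_11]
    intro h; apply h2; linear_combination h
  rw [Ct_eq_Tor h2 _ htr]
  exact Cfsg.Agent.S2301.card_centralizer_up h2 one_ne_zero

theorem wit_tr_zero [Fintype F] (h2 : (2 : F) ≠ 0) (h7 : 7 ≤ Fintype.card F)
    (hodd : Fintype.card F % 2 = 1) :
    ∃ g : SL2 F, (IsSquare (-1 : F) → (Ct g).index = Fintype.card F * (Fintype.card F + 1) / 2) ∧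
      (¬ IsSquare (-1 : F) → (Ct g).index = Fintype.card F * (Fintype.card F - 1) / 2) := by
  refine ⟨Cfsg.Agent.S2331.compS 0, ?_⟩
  have htr : tr (Cfsg.Agent.S2331.compS (0 : F)) = 0 := by
    simp [tr, Cfsg.Agent.S2331.compS]
  have hci := card_mul_index_Ct (Cfsg.Agent.S2331.compS (0 : F))
  obtain ⟨-, a2, a3, -, -⟩ := idx_arith (Fintype.card F) _ _ (by omega) hodd hci
  have hΔ := tr_sq_ne_four_of_tr_eq_zero h2 _ htr
  have hN := card_normalizer_centralizer h2 _ hΔ
  rw [Ct_eq_NTor h2 _ htr] at a2 a3 ⊢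
  constructor
  · intro hs
    apply a2
    have hs' : IsSquare (tr (Cfsg.Agent.S2331.compS (0 : F)) ^ 2 - 4) := by
      rw [htr]; exact (isSquare_neg_four_iff h2).mpr hs
    show Nat.card (NTor _) = _
    rw [hN, (card_Tor_of_isSquare h2 _ hΔ hs').1]
  · intro hs
    apply a3
    have hs' : ¬ IsSquare (tr (Cfsg.Agent.S2331.compS (0 : F)) ^ 2 - 4) := by
      rw [htr]; exact fun h => hs ((isSquare_neg_four_iff h2).mp h)
    show Nat.card (NTor _) = _
    rw [hN, (card_Tor_of_not_isSquare h2 _ hs').1]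

theorem wit_split [Fintype F] (h2 : (2 : F) ≠ 0) (h7 : 7 ≤ Fintype.card F)
    (hodd : Fintype.card F % 2 = 1) :
    ∃ g : SL2 F, (Ct g).index = Fintype.card F * (Fintype.card F + 1) := by
  classical
  obtain ⟨ξ, hξ⟩ := IsCyclic.exists_ofOrder_eq_natCard (α := Fˣ)
  rw [Nat.card_units, Nat.card_eq_fintype_card] at hξ
  have hξ4 : (ξ : F) ^ 4 ≠ 1 := by
    intro h
    have h' : ξ ^ 4 = 1 := by
      apply Units.ext
      rw [Units.val_pow_eq_pow_val]; exact h
    have := orderOf_dvd_of_pow_eq_one h'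
    rw [hξ] at this
    have := Nat.le_of_dvd (by norm_num) this
    omega
  have hc0 : (ξ : F) ≠ 0 := ξ.ne_zero
  set c : F := (ξ : F) with hc
  refine ⟨dg c hc0, ?_⟩
  have hci := card_mul_index_Ct (dg c hc0)
  obtain ⟨-, -, -, a4, -⟩ := idx_arith (Fintype.card F) _ _ (by omega) hodd hci
  apply a4
  have hc2 : c ^ 2 ≠ 1 := by
    intro h
    apply hξ4
    have : c ^ 4 = (c ^ 2) ^ 2 := by ring
    rw [this, h, one_pow]
  have htr : tr (dg c hc0) ≠ 0 := by
    simp only [tr, dg, mk_00, mk_11]
    intro h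
    apply hξ4
    have h1 : c ^ 2 = -1 := by
      field_simp at h
      linear_combination h
    have : c ^ 4 = (c ^ 2) ^ 2 := by ring
    rw [this, h1]; ring
  rw [Ct_eq_Tor h2 _ htr]
  have h01 : (dg c hc0) 0 1 = 0 := by simp [dg]
  have h10 : (dg c hc0) 1 0 = 0 := by simp [dg]
  have h00 : (dg c hc0) 0 0 ^ 2 ≠ 1 := by simpa [dg] using hc2
  exact card_Tor_diag _ h01 h10 h00

theorem wit_nonsplit [Fintype F] (h2 : (2 : F) ≠ 0) (h7 : 7 ≤ Fintype.card F)
    (hodd : Fintype.card F % 2 = 1) :
    ∃ g : SL2 F, (Ct g).index = Fintype.card F * (Fintype.card F - 1) := by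
  obtain ⟨Y, hord, hTY, hns⟩ := exists_nonsplit (F := F) h2
  refine ⟨Y, ?_⟩
  have hci := card_mul_index_Ct Y
  obtain ⟨-, -, -, -, a5⟩ := idx_arith (Fintype.card F) _ _ (by omega) hodd hci
  apply a5
  have htr : tr Y ≠ 0 := by
    intro h
    have h1 := sq_eq_zc_of_tr_eq_zero Y h
    have h4 : Y ^ 4 = 1 := by
      have : Y ^ 4 = (Y * Y) * (Y * Y) := by
        rw [show 4 = 2 + 2 from rfl, pow_add, pow_two]
      rw [this, h1]; exact Cfsg.Agent.S2471.zc_mul_self
    have := orderOf_dvd_of_pow_eq_one h4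
    rw [hord] at this
    have := Nat.le_of_dvd (by norm_num) this
    omega
  rw [Ct_eq_Tor h2 _ htr]
  exact (card_Tor_of_not_isSquare h2 Y hns).1

theorem main [Fintype F] (hodd : ¬ 2 ∣ Fintype.card F) (h7 : 7 ≤ Fintype.card F) :
    (Fintype.card F % 4 = 1 →
      Set.range (fun g : PSL2 F => (Subgroup.centralizer ({g} : Set (PSL2 F))).index) =
        {1, (Fintype.card F ^ 2 - 1) / 2, Fintype.card F * (Fintype.card F + 1) / 2,
          Fintype.card F * (Fintype.card F - 1), Fintype.card F * (Fintype.card F + 1)}) ∧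
    (Fintype.card F % 4 = 3 →
      Set.range (fun g : PSL2 F => (Subgroup.centralizer ({g} : Set (PSL2 F))).index) =
        {1, (Fintype.card F ^ 2 - 1) / 2, Fintype.card F * (Fintype.card F - 1) / 2,
          Fintype.card F * (Fintype.card F + 1), Fintype.card F * (Fintype.card F - 1)}) := by
  have hodd' : Fintype.card F % 2 = 1 := by omega
  have h2 : (2 : F) ≠ 0 := by
    intro h
    have := Cfsg.Agent.S2475.even_card_of_two_eq_zero h
    exact hodd (even_iff_two_dvd.mp this)
  have hrange : Set.range (fun g : PSL2 F => (Subgroup.centralizer ({g} : Set (PSL2 F))).index) =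
      Set.range (fun g : SL2 F => (Ct g).index) := by
    ext m
    simp only [Set.mem_range]
    constructor
    · rintro ⟨x, rfl⟩
      obtain ⟨g, rfl⟩ := QuotientGroup.mk_surjective x
      exact ⟨g, index_Ct g⟩
    · rintro ⟨g, rfl⟩
      exact ⟨QuotientGroup.mk g, (index_Ct g).symm⟩
  obtain ⟨g3, hg3a, hg3b⟩ := wit_tr_zero h2 h7 hodd'
  obtain ⟨g4, hg4⟩ := wit_split h2 h7 hodd'
  obtain ⟨g5, hg5⟩ := wit_nonsplit h2 h7 hodd'
  constructor
  · intro hq
    have hs : IsSquare (-1 : F) := by rw [FiniteField.isSquare_neg_one_iff]; omega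
    rw [hrange]
    apply Set.eq_of_subset_of_subset
    · rintro _ ⟨g, rfl⟩
      simp only [Set.mem_insert_iff, Set.mem_singleton_iff]
      rcases index_cases h2 h7 hodd' g with h | h | ⟨-, h⟩ | ⟨hns, -⟩ | h | h
      · left; exact h
      · right; left; exact h
      · right; right; left; exact h
      · exact absurd hs hns
      · right; right; right; right; exact h
      · right; right; right; left; exact h
    · intro m hm
      simp only [Set.mem_insert_iff, Set.mem_singleton_iff] at hm
      rcases hm with rfl | rfl | rfl | rfl | rfl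
      · exact ⟨1, wit_one⟩
      · exact ⟨up 1, wit_up h2 h7 hodd'⟩
      · exact ⟨g3, hg3a hs⟩
      · exact ⟨g5, hg5⟩
      · exact ⟨g4, hg4⟩
  · intro hq
    have hs : ¬ IsSquare (-1 : F) := by rw [FiniteField.isSquare_neg_one_iff]; omega
    rw [hrange]
    apply Set.eq_of_subset_of_subset
    · rintro _ ⟨g, rfl⟩
      simp only [Set.mem_insert_iff, Set.mem_singleton_iff]
      rcases index_cases h2 h7 hodd' g with h | h | ⟨hs', -⟩ | ⟨-, h⟩ | h | h
      · left; exact h
      · right; left; exact h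
      · exact absurd hs' hs
      · right; right; left; exact h
      · right; right; right; left; exact h
      · right; right; right; right; exact h
    · intro m hm
      simp only [Set.mem_insert_iff, Set.mem_singleton_iff] at hm
      rcases hm with rfl | rfl | rfl | rfl | rfl
      · exact ⟨1, wit_one⟩
      · exact ⟨up 1, wit_up h2 h7 hodd'⟩
      · exact ⟨g3, hg3b hs⟩
      · exact ⟨g4, hg4⟩
      · exact ⟨g5, hg5⟩


/-- Let F be a finite field with q elements, q odd and q ≥ 7. If q ≡ 1 (mod 4) the conjugacy class sizes of PSL(2,F) are exactly 1, (q² − 1)/2, q(q + 1)/2, q(q − 1) and q(q + 1); if q ≡ 3 (mod 4) they are exactly 1, (q² − 1)/2, q(q − 1)/2, q(q + 1) and q(q − 1). -/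
theorem result {F : Type*} [Field F] [Fintype F]
    (hodd : ¬ 2 ∣ Fintype.card F) (h7 : 7 ≤ Fintype.card F) :
    (Fintype.card F % 4 = 1 →
      Set.range (fun g : (Matrix.ProjectiveSpecialLinearGroup (Fin 2) F) => (Subgroup.centralizer ({g} : Set (Matrix.ProjectiveSpecialLinearGroup (Fin 2) F))).index) =
        {1, (Fintype.card F ^ 2 - 1) / 2, Fintype.card F * (Fintype.card F + 1) / 2,
          Fintype.card F * (Fintype.card F - 1), Fintype.card F * (Fintype.card F + 1)}) ∧
    (Fintype.card F % 4 = 3 →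
      Set.range (fun g : (Matrix.ProjectiveSpecialLinearGroup (Fin 2) F) => (Subgroup.centralizer ({g} : Set (Matrix.ProjectiveSpecialLinearGroup (Fin 2) F))).index) =
        {1, (Fintype.card F ^ 2 - 1) / 2, Fintype.card F * (Fintype.card F - 1) / 2,
          Fintype.card F * (Fintype.card F + 1), Fintype.card F * (Fintype.card F - 1)}) := by
  exact main hodd h7

end Cfsg.Agent.S2508
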