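import Cfsg.Statements.S0807
import Mathlib
import Cfsg.Agent.Lib.Helper12.C9
import Cfsg.Agent.Lib.Helper12.Klein
import Cfsg.Agent.Lib.Helper9.ClassSize
import Cfsg.Agent.S2508

set_option autoImplicit false
open Cfsg

namespace Cfsg.Agent.S0807

open Cfsg.Agent.Lib.Helper12.SL2 Cfsg.Agent.Lib.Helper12.Klein Cfsg.Agent.S2508

variable {F : Type*} [Field F]

local notation "SL2" => Matrix.SpecialLinearGroup (Fin 2)
local notation "M2" => Matrix (Fin 2) (Fin 2)
local notation "PSL2" => Matrix.ProjectiveSpecialLinearGroup (Fin 2)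

/-- the quotient map -/
noncomputable abbrev mkH : SL2 F →* PSL2 F := QuotientGroup.mk' (Subgroup.center (SL2 F))

theorem card_center (h2 : (2 : F) ≠ 0) : Nat.card (Subgroup.center (SL2 F)) = 2 := by
  rw [Nat.card_eq_two_iff]
  refine ⟨⟨1, Subgroup.one_mem _⟩, ⟨zc', Cfsg.Agent.S2471.zc_mem_center⟩, ?_, ?_⟩
  · intro h
    exact zc_ne_one h2 (congrArg Subtype.val h).symm
  · ext ⟨x, hx⟩
    simp only [Set.mem_insert_iff, Set.mem_singleton_iff, Set.mem_univ, iff_true]
    rcases (mem_center_iff_eq h2 x).mp hx with h | h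
    · left; exact Subtype.ext h
    · right; exact Subtype.ext h

theorem card_SL2_eq [Finite F] (h2 : (2 : F) ≠ 0) : Nat.card (SL2 F) = 2 * Nat.card (PSL2 F) := by
  have := Subgroup.card_eq_card_quotient_mul_card_subgroup (Subgroup.center (SL2 F))
  rw [card_center h2] at this
  rw [this, mul_comm]

/-- images of subgroups containing the centre have half the order -/
theorem card_map_mk [Finite F] (h2 : (2 : F) ≠ 0) (H : Subgroup (SL2 F))
    (hZ : Subgroup.center (SL2 F) ≤ H) : Nat.card H = 2 * Nat.card (H.map mkH) := by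
  have h1 : (H.map mkH).index = H.index := by
    rw [← Subgroup.index_comap_of_surjective (H.map mkH) (QuotientGroup.mk'_surjective _),
      Subgroup.comap_map_eq_self]
    rw [QuotientGroup.ker_mk']; exact hZ
  have h3 := (H.map mkH).card_mul_index
  have h4 := H.card_mul_index
  rw [card_SL2_eq h2, ← h3, h1] at h4
  have hidx : H.index ≠ 0 := Subgroup.index_ne_zero_of_finite
  have : Nat.card H * H.index = (2 * Nat.card (H.map mkH)) * H.index := by rw [h4]; ring
  exact Nat.eq_of_mul_eq_mul_right (Nat.pos_of_ne_zero hidx) this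

theorem center_le_Tor (g : SL2 F) : Subgroup.center (SL2 F) ≤ Tor g := by
  intro x hx
  rw [Subgroup.mem_centralizer_singleton_iff]
  exact (Subgroup.mem_center_iff.mp hx g).symm

/-- the centralizer in `PSL₂` of the image of a trace-zero element -/
theorem centralizer_mk_eq (h2 : (2 : F) ≠ 0) (g : SL2 F) (htr : tr g = 0) :
    Subgroup.centralizer ({(QuotientGroup.mk g : PSL2 F)} : Set (PSL2 F)) = (NTor g).map mkH := by
  rw [← Ct_eq_NTor h2 g htr]
  unfold Ct
  rw [Subgroup.map_comap_eq_self_of_surjective (QuotientGroup.mk'_surjective _)]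

theorem orderOf_mk_eq_two_iff (h2 : (2 : F) ≠ 0) (h : SL2 F) :
    orderOf (QuotientGroup.mk h : PSL2 F) = 2 ↔ tr h = 0 := by
  rw [orderOf_two_iff]
  constructor
  · rintro ⟨h1, h3⟩
    have h4 : h * h ∈ Subgroup.center (SL2 F) := by
      rw [← QuotientGroup.eq_one_iff]; exact h1
    rcases (mem_center_iff_eq h2 _).mp h4 with h5 | h5
    · exfalso
      apply h3
      rw [QuotientGroup.eq_one_iff]
      exact Cfsg.Agent.S2475.mem_center_of_sq_eq_one h2 h h5
    · exact tr_eq_zero_of_sq_eq_zc h h5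
  · intro htr
    have h1 := sq_eq_zc_of_tr_eq_zero h htr
    constructor
    · show (QuotientGroup.mk (h * h) : PSL2 F) = 1
      rw [QuotientGroup.eq_one_iff, h1]
      exact Cfsg.Agent.S2471.zc_mem_center
    · intro h3
      rw [QuotientGroup.eq_one_iff] at h3
      have h5 := Cfsg.Agent.S2475.sq_eq_one_of_mem_center h h3
      rw [h1] at h5
      exact zc_ne_one h2 h5

/-- the partners of a fixed involution -/
theorem pairPred_iff (h2 : (2 : F) ≠ 0) (g : SL2 F) (htr : tr g = 0) (b : PSL2 F) :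
    PairPred ((QuotientGroup.mk g : PSL2 F), b) ↔
      b ∈ (NTor g).map mkH ∧ b ∉ (Tor g).map mkH := by
  have hΔ := tr_sq_ne_four_of_tr_eq_zero h2 g htr
  have ha := (orderOf_mk_eq_two_iff h2 g).mpr htr
  obtain ⟨h, rfl⟩ := QuotientGroup.mk_surjective b
  unfold PairPred
  simp only
  constructor
  · rintro ⟨-, hb, hne, hcomm⟩
    have hbtr := (orderOf_mk_eq_two_iff h2 h).mp hb
    have hmem : (QuotientGroup.mk h : PSL2 F) ∈
        Subgroup.centralizer ({(QuotientGroup.mk g : PSL2 F)} : Set (PSL2 F)) := by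
      rw [Subgroup.mem_centralizer_singleton_iff]; exact hcomm.symm
    rw [centralizer_mk_eq h2 g htr] at hmem
    refine ⟨hmem, ?_⟩
    rintro ⟨h', hh', hmk⟩
    -- h' ∈ Tor g with mk h' = mk h an involution
    have hb' : orderOf (QuotientGroup.mk h' : PSL2 F) = 2 := by
      have : (QuotientGroup.mk h' : PSL2 F) = QuotientGroup.mk h := hmk
      rw [this]; exact hb
    have htr' := (orderOf_mk_eq_two_iff h2 h').mp hb'
    rw [SetLike.mem_coe, Subgroup.mem_centralizer_singleton_iff] at hh'
    rcases eq_or_eq_inv_of_tr_eq h2 g h' hΔ hh' (htr'.trans htr.symm) with e | e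
    · apply hne
      have : (QuotientGroup.mk h' : PSL2 F) = QuotientGroup.mk h := hmk
      rw [← this, e]
    · apply hne
      have : (QuotientGroup.mk h' : PSL2 F) = QuotientGroup.mk h := hmk
      rw [← this, e, inv_eq_zc_mul g htr]
      show (QuotientGroup.mk g : PSL2 F) = QuotientGroup.mk (zc' * g)
      rw [QuotientGroup.eq]
      have : g⁻¹ * (zc' * g) = zc' := by
        rw [← mul_assoc, Cfsg.Agent.S2471.zc_central, mul_assoc, inv_mul_cancel, mul_one]
      rw [this]
      exact Cfsg.Agent.S2471.zc_mem_center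
  · rintro ⟨⟨h', hh', hmk⟩, hnot⟩
    have hmk' : (QuotientGroup.mk h' : PSL2 F) = QuotientGroup.mk h := hmk
    have hh'T : h' ∉ Tor g := fun hT => hnot ⟨h', hT, hmk⟩
    have hsq := sq_of_not_mem h2 g hΔ h' hh' hh'T
    have hsq' : h' * h' = zc' := by
      apply Subtype.ext
      rw [hsq, coe_zc]
    have htr' := tr_eq_zero_of_sq_eq_zc h' hsq'
    refine ⟨ha, ?_, ?_, ?_⟩
    · rw [← hmk']; exact (orderOf_mk_eq_two_iff h2 h').mpr htr'
    · intro e
      apply hnot
      refine ⟨g, Subgroup.mem_centralizer_singleton_iff.mpr rfl, ?_⟩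
      exact e
    · have hmem : (QuotientGroup.mk h' : PSL2 F) ∈
          Subgroup.centralizer ({(QuotientGroup.mk g : PSL2 F)} : Set (PSL2 F)) := by
        rw [centralizer_mk_eq h2 g htr]; exact ⟨h', hh', rfl⟩
      rw [Subgroup.mem_centralizer_singleton_iff] at hmem
      rw [← hmk']; exact hmem.symm


/-- the number of partners of a fixed involution: `n` with `2 n = |C(a)|`. -/
theorem card_partners [Fintype F] (h2 : (2 : F) ≠ 0) (g : SL2 F) (htr : tr g = 0) :
    2 * Nat.card {b : PSL2 F // PairPred ((QuotientGroup.mk g : PSL2 F), b)} =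
      Nat.card (Subgroup.centralizer ({(QuotientGroup.mk g : PSL2 F)} : Set (PSL2 F))) := by
  have hΔ := tr_sq_ne_four_of_tr_eq_zero h2 g htr
  have hle : Tor g ≤ NTor g := centralizer_le_normalizer h2 g hΔ
  have hN := card_normalizer_centralizer h2 g hΔ
  have c1 := card_map_mk h2 (Tor g) (center_le_Tor g)
  have c2 := card_map_mk h2 (NTor g) ((center_le_Tor g).trans hle)
  have hN' : Nat.card (NTor g) = 2 * Nat.card (Tor g) := hN
  rw [centralizer_mk_eq h2 g htr]
  have hsub : (((Tor g).map mkH : Subgroup (PSL2 F)) : Set (PSL2 F)) ⊆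
      (((NTor g).map mkH : Subgroup (PSL2 F)) : Set (PSL2 F)) := by
    intro x hx
    exact Subgroup.map_mono hle hx
  have hcount : Nat.card {b : PSL2 F // PairPred ((QuotientGroup.mk g : PSL2 F), b)} =
      Nat.card ((NTor g).map mkH) - Nat.card ((Tor g).map mkH) := by
    have e : {b : PSL2 F // PairPred ((QuotientGroup.mk g : PSL2 F), b)} ≃
        ((((NTor g).map mkH : Subgroup (PSL2 F)) : Set (PSL2 F)) \
          (((Tor g).map mkH : Subgroup (PSL2 F)) : Set (PSL2 F)) : Set (PSL2 F)) :=
      Equiv.subtypeEquivRight (fun b => by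
        rw [pairPred_iff h2 g htr b, Set.mem_sdiff]; rfl)
    rw [Nat.card_congr e, Nat.card_coe_set_eq, Set.ncard_sdiff hsub (Set.toFinite _),
      ← Nat.card_coe_set_eq, ← Nat.card_coe_set_eq]
    rfl
  rw [hcount]
  omega

theorem exists_tr_zero : ∃ g : SL2 F, tr g = 0 :=
  ⟨Cfsg.Agent.S2331.compS 0, by simp [tr, Cfsg.Agent.S2331.compS]⟩

theorem isConj_involutions [Fintype F] (h2 : (2 : F) ≠ 0) (a b : PSL2 F) (ha : orderOf a = 2)
    (hb : orderOf b = 2) : IsConj a b := by
  obtain ⟨g, rfl⟩ := QuotientGroup.mk_surjective a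
  obtain ⟨h, rfl⟩ := QuotientGroup.mk_surjective b
  rw [orderOf_mk_eq_two_iff h2] at ha hb
  exact (QuotientGroup.mk' (Subgroup.center (SL2 F))).map_isConj (isConj_of_tr_eq_zero h2 g h ha hb)

/-- the number of involutions times the order of an involution centralizer is `|G|`. -/
theorem card_involutions [Fintype F] (h2 : (2 : F) ≠ 0) (a : PSL2 F) (ha : orderOf a = 2) :
    Nat.card {b : PSL2 F // orderOf b = 2} *
      Nat.card (Subgroup.centralizer ({a} : Set (PSL2 F))) = Nat.card (PSL2 F) := by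
  rw [← Cfsg.Agent.Lib.Helper9.card_carrier_mul_card_centralizer a]
  congr 1
  apply Nat.card_congr
  refine Equiv.subtypeEquivRight (fun b => ?_)
  rw [ConjClasses.mem_carrier_iff_mk_eq, ConjClasses.mk_eq_mk_iff_isConj]
  constructor
  · intro hb
    exact (isConj_involutions h2 a b ha hb).symm
  · intro hc
    obtain ⟨c, hc⟩ := isConj_iff.mp hc
    have := (MulAut.conj c).orderOf_eq b
    rw [MulAut.conj_apply, hc, ha] at this
    exact this.symm

theorem two_mul_card_pairs [Fintype F] (h2 : (2 : F) ≠ 0) :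
    2 * Nat.card {p : PSL2 F × PSL2 F // PairPred p} = Nat.card (PSL2 F) := by
  classical
  have : Fintype (PSL2 F) := Fintype.ofFinite _
  set I := Nat.card {b : PSL2 F // orderOf b = 2} with hI
  have hIpos : 0 < I := by
    obtain ⟨g, hg⟩ := exists_tr_zero (F := F)
    have : Nonempty {b : PSL2 F // orderOf b = 2} :=
      ⟨⟨QuotientGroup.mk g, (orderOf_mk_eq_two_iff h2 g).mpr hg⟩⟩
    exact Nat.card_pos
  rw [Nat.card_congr (Equiv.subtypeProdEquivSigmaSubtype (fun a b : PSL2 F => PairPred (a, b))),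
    Nat.card_sigma]
  -- each summand
  have hsum : ∀ a : PSL2 F, (2 * I) * Nat.card {b : PSL2 F // PairPred (a, b)} =
      if orderOf a = 2 then Nat.card (PSL2 F) else 0 := by
    intro a
    by_cases ha : orderOf a = 2
    · rw [if_pos ha]
      obtain ⟨g, rfl⟩ := QuotientGroup.mk_surjective a
      have htr := (orderOf_mk_eq_two_iff h2 g).mp ha
      have h1 := card_partners h2 g htr
      have h3 := card_involutions h2 _ ha
      rw [← h3, ← h1, hI]
      ring
    · rw [if_neg ha]
      have : IsEmpty {b : PSL2 F // PairPred (a, b)} := ⟨fun ⟨b, hb⟩ => ha hb.1⟩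
      rw [Nat.card_of_isEmpty, mul_zero]
  have h5 : (2 * I) * ∑ a : PSL2 F, Nat.card {b : PSL2 F // PairPred (a, b)} =
      I * Nat.card (PSL2 F) := by
    rw [Finset.mul_sum, Finset.sum_congr rfl (fun a _ => hsum a), Finset.sum_ite,
      Finset.sum_const_zero, add_zero, Finset.sum_const, smul_eq_mul]
    congr 1
    rw [hI, Nat.card_eq_fintype_card, Fintype.card_subtype]
  have h6 : I * (2 * ∑ a : PSL2 F, Nat.card {b : PSL2 F // PairPred (a, b)}) =
      I * Nat.card (PSL2 F) := by rw [← h5]; ring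
  exact Nat.eq_of_mul_eq_mul_left hIpos h6

theorem main [Fintype F] {q : ℕ} (hF : Fintype.card F = q) (hodd : Odd q) :
    12 * Nat.card {V : Subgroup (PSL2 F) // IsKleinFour V} = Nat.card (PSL2 F) := by
  subst hF
  have h2 := Cfsg.Agent.S2428.two_ne_zero_of_odd hodd
  have h6 := six_mul_card (G := PSL2 F)
  have hp := two_mul_card_pairs (F := F) h2
  rw [← hp, ← h6]
  ring


/-- For q odd, twelve times the number of Klein four-subgroups of PSL_2(q) equals the order of PSL_2(q). -/
theorem result {F : Type*} [Field F] [Fintype F] {q : ℕ} (hF : Fintype.card F = q) (hodd : Odd q) : 12 * Nat.card {V : Subgroup (Matrix.ProjectiveSpecialLinearGroup (Fin 2) F) // IsKleinFour V} = Nat.card (Matrix.ProjectiveSpecialLinearGroup (Fin 2) F) := by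
  exact main hF hodd

end Cfsg.Agent.S0807
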