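import Mathlib
import Cfsg.Statements.S3377

set_option autoImplicit false
open Cfsg

namespace Cfsg.Agent.S3377

abbrev F2 := FreeGroup (Fin 2)
def fx : F2 := FreeGroup.of 0
def fy : F2 := FreeGroup.of 1
def rels : Set F2 := {fx ^ 3, fy ^ 5, (fx * fy) ^ 2}
def rel : Fin 3 → F2 := ![fx ^ 3, fy ^ 5, (fx * fy) ^ 2]

theorem rel_mem (i : Fin 3) : rel i ∈ Subgroup.normalClosure rels := by
  apply Subgroup.subset_normalClosure
  fin_cases i <;> simp [rel, rels]

def cterm (t : F2 × Fin 3 × Bool) : F2 :=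
  t.1 * (if t.2.2 then rel t.2.1 else (rel t.2.1)⁻¹) * t.1⁻¹

def cprod (l : List (F2 × Fin 3 × Bool)) : F2 := (l.map cterm).prod

theorem cterm_mem (t : F2 × Fin 3 × Bool) : cterm t ∈ Subgroup.normalClosure rels := by
  unfold cterm
  apply Subgroup.Normal.conj_mem inferInstance
  split_ifs
  · exact rel_mem _
  · exact inv_mem (rel_mem _)

theorem cprod_mem (l : List (F2 × Fin 3 × Bool)) : cprod l ∈ Subgroup.normalClosure rels := by
  unfold cprod
  apply Subgroup.list_prod_mem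
  intro x hx
  obtain ⟨t, _, rfl⟩ := List.mem_map.1 hx
  exact cterm_mem t

theorem mk_eq_of_cert {a b : F2} (l : List (F2 × Fin 3 × Bool)) (h : a / b = cprod l) :
    PresentedGroup.mk rels a = PresentedGroup.mk rels b := by
  apply eq_of_div_eq_one
  rw [← map_div, PresentedGroup.mk_eq_one_iff, h]
  exact cprod_mem l

def T : Fin 12 → F2 := ![(1), (fx), (fx * fx), (fx * fx * fy), (fx * fx * fy * fx), (fx * fx * fy * fy), (fx * fx * fy * fx * fx), (fx * fx * fy * fy * fx), (fx * fx * fy * fx * fx * fy), (fx * fx * fy * fx * fx * fy * fy), (fx * fx * fy * fx * fx * fy * fy * fx), (fx * fx * fy * fx * fx * fy * fy * fx * fx)]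
def nx : Fin 12 → Fin 12 := ![1, 2, 0, 4, 6, 7, 3, 8, 5, 10, 11, 9]
def mx : Fin 12 → ℕ := ![0, 0, 0, 0, 0, 0, 0, 1, 4, 0, 0, 0]
def ny : Fin 12 → Fin 12 := ![0, 2, 3, 5, 1, 4, 8, 6, 9, 10, 7, 11]
def my : Fin 12 → ℕ := ![1, 4, 0, 0, 0, 1, 0, 0, 0, 1, 4, 4]

theorem ex_0 : PresentedGroup.mk rels ((1) * fx) = PresentedGroup.mk rels (fy ^ 0 * (fx)) :=
  mk_eq_of_cert [] (by decide)
theorem ey_0 : PresentedGroup.mk rels ((1) * fy) = PresentedGroup.mk rels (fy ^ 1 * (1)) :=
  mk_eq_of_cert [] (by decide)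
theorem ex_1 : PresentedGroup.mk rels ((fx) * fx) = PresentedGroup.mk rels (fy ^ 0 * (fx * fx)) :=
  mk_eq_of_cert [] (by decide)
theorem ey_1 : PresentedGroup.mk rels ((fx) * fy) = PresentedGroup.mk rels (fy ^ 4 * (fx * fx)) :=
  mk_eq_of_cert [(1, 2, true), (fy⁻¹, 0, false), (1, 1, false)] (by decide)
theorem ex_2 : PresentedGroup.mk rels ((fx * fx) * fx) = PresentedGroup.mk rels (fy ^ 0 * (1)) :=
  mk_eq_of_cert [(1, 0, true)] (by decide)
theorem ey_2 : PresentedGroup.mk rels ((fx * fx) * fy) = PresentedGroup.mk rels (fy ^ 0 * (fx * fx * fy)) :=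
  mk_eq_of_cert [] (by decide)
theorem ex_3 : PresentedGroup.mk rels ((fx * fx * fy) * fx) = PresentedGroup.mk rels (fy ^ 0 * (fx * fx * fy * fx)) :=
  mk_eq_of_cert [] (by decide)
theorem ey_3 : PresentedGroup.mk rels ((fx * fx * fy) * fy) = PresentedGroup.mk rels (fy ^ 0 * (fx * fx * fy * fy)) :=
  mk_eq_of_cert [] (by decide)
theorem ex_4 : PresentedGroup.mk rels ((fx * fx * fy * fx) * fx) = PresentedGroup.mk rels (fy ^ 0 * (fx * fx * fy * fx * fx)) :=
  mk_eq_of_cert [] (by decide)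
theorem ey_4 : PresentedGroup.mk rels ((fx * fx * fy * fx) * fy) = PresentedGroup.mk rels (fy ^ 0 * (fx)) :=
  mk_eq_of_cert [(fx, 2, true)] (by decide)
theorem ex_5 : PresentedGroup.mk rels ((fx * fx * fy * fy) * fx) = PresentedGroup.mk rels (fy ^ 0 * (fx * fx * fy * fy * fx)) :=
  mk_eq_of_cert [] (by decide)
theorem ey_5 : PresentedGroup.mk rels ((fx * fx * fy * fy) * fy) = PresentedGroup.mk rels (fy ^ 1 * (fx * fx * fy * fx)) :=
  mk_eq_of_cert [(fx * fx, 1, true), (1, 0, true), (fy, 2, false), (fy * fx, 2, false)] (by decide)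
theorem ex_6 : PresentedGroup.mk rels ((fx * fx * fy * fx * fx) * fx) = PresentedGroup.mk rels (fy ^ 0 * (fx * fx * fy)) :=
  mk_eq_of_cert [(fx * fx * fy, 0, true)] (by decide)
theorem ey_6 : PresentedGroup.mk rels ((fx * fx * fy * fx * fx) * fy) = PresentedGroup.mk rels (fy ^ 0 * (fx * fx * fy * fx * fx * fy)) :=
  mk_eq_of_cert [] (by decide)
theorem ex_7 : PresentedGroup.mk rels ((fx * fx * fy * fy * fx) * fx) = PresentedGroup.mk rels (fy ^ 1 * (fx * fx * fy * fx * fx * fy)) :=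
  mk_eq_of_cert [(fx * fx * fy * fy, 0, true), (fx * fx, 1, true), (1, 0, true), (fy, 2, false), (fy * fx, 2, false), (fy * fx * fx * fy * fx, 2, false)] (by decide)
theorem ey_7 : PresentedGroup.mk rels ((fx * fx * fy * fy * fx) * fy) = PresentedGroup.mk rels (fy ^ 0 * (fx * fx * fy * fx * fx)) :=
  mk_eq_of_cert [(fx * fx * fy * fy, 2, true), (fx * fx * fy, 0, false)] (by decide)
theorem ex_8 : PresentedGroup.mk rels ((fx * fx * fy * fx * fx * fy) * fx) = PresentedGroup.mk rels (fy ^ 4 * (fx * fx * fy * fy)) :=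
  mk_eq_of_cert [(fx * fx * fy * fx, 2, true), (fx, 2, true), (1, 2, true), (fy⁻¹, 0, false), (fy⁻¹ * fx * fx, 1, false), (1, 1, false)] (by decide)
theorem ey_8 : PresentedGroup.mk rels ((fx * fx * fy * fx * fx * fy) * fy) = PresentedGroup.mk rels (fy ^ 0 * (fx * fx * fy * fx * fx * fy * fy)) :=
  mk_eq_of_cert [] (by decide)
theorem ex_9 : PresentedGroup.mk rels ((fx * fx * fy * fx * fx * fy * fy) * fx) = PresentedGroup.mk rels (fy ^ 0 * (fx * fx * fy * fx * fx * fy * fy * fx)) :=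
  mk_eq_of_cert [] (by decide)
theorem ey_9 : PresentedGroup.mk rels ((fx * fx * fy * fx * fx * fy * fy) * fy) = PresentedGroup.mk rels (fy ^ 1 * (fx * fx * fy * fx * fx * fy * fy * fx)) :=
  mk_eq_of_cert [(fx * fx * fy * fx * fx * fy, 1, true), (fx * fx * fy, 0, true), (fx * fx * fy * fy, 2, false), (fx * fx * fy * fy * fx, 2, false), (fx * fx * fy * fy, 0, true), (fx * fx, 1, true), (1, 0, true), (fy, 2, false), (fy * fx, 2, false), (fy * fx * fx * fy * fx, 2, false)] (by decide)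
theorem ex_10 : PresentedGroup.mk rels ((fx * fx * fy * fx * fx * fy * fy * fx) * fx) = PresentedGroup.mk rels (fy ^ 0 * (fx * fx * fy * fx * fx * fy * fy * fx * fx)) :=
  mk_eq_of_cert [] (by decide)
theorem ey_10 : PresentedGroup.mk rels ((fx * fx * fy * fx * fx * fy * fy * fx) * fy) = PresentedGroup.mk rels (fy ^ 4 * (fx * fx * fy * fy * fx)) :=
  mk_eq_of_cert [(fx * fx * fy * fx, 2, true), (fx, 2, true), (1, 2, true), (fy⁻¹, 0, false), (fy⁻¹ * fx * fx, 1, false), (fy⁻¹ * fx * fx * fy * fy, 0, false), (fy⁻¹ * fx * fx * fy * fy * fx, 2, true), (1, 1, false)] (by decide)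
theorem ex_11 : PresentedGroup.mk rels ((fx * fx * fy * fx * fx * fy * fy * fx * fx) * fx) = PresentedGroup.mk rels (fy ^ 0 * (fx * fx * fy * fx * fx * fy * fy)) :=
  mk_eq_of_cert [(fx * fx * fy * fx * fx * fy * fy, 0, true)] (by decide)
theorem ey_11 : PresentedGroup.mk rels ((fx * fx * fy * fx * fx * fy * fy * fx * fx) * fy) = PresentedGroup.mk rels (fy ^ 4 * (fx * fx * fy * fx * fx * fy * fy * fx * fx)) :=
  mk_eq_of_cert [(fx * fx * fy * fx * fx * fy * fy * fx, 2, true), (fx * fx * fy * fx, 2, true), (fx, 2, true), (1, 2, true), (fy⁻¹, 0, false), (fy⁻¹ * fx * fx, 1, false), (fy⁻¹ * fx * fx * fy * fy, 0, false), (fy⁻¹ * fx * fx * fy * fy * fx, 2, true), (fy⁻¹ * fx * fx * fy * fy, 2, true), (fy⁻¹ * fx * fx * fy, 0, false), (fy⁻¹ * fx * fx * fy * fx * fx * fy, 1, false), (fy⁻¹ * fx * fx * fy * fx * fx * fy * fy, 0, false), (1, 1, false)] (by decide)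

theorem entry_x : ∀ i : Fin 12,
    PresentedGroup.mk rels (T i * fx) = PresentedGroup.mk rels (fy ^ mx i * T (nx i)) := by
  intro i; fin_cases i
  · exact ex_0
  · exact ex_1
  · exact ex_2
  · exact ex_3
  · exact ex_4
  · exact ex_5
  · exact ex_6
  · exact ex_7
  · exact ex_8
  · exact ex_9
  · exact ex_10
  · exact ex_11

theorem entry_y : ∀ i : Fin 12,
    PresentedGroup.mk rels (T i * fy) = PresentedGroup.mk rels (fy ^ my i * T (ny i)) := by
  intro i; fin_cases i
  · exact ey_0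
  · exact ey_1
  · exact ey_2
  · exact ey_3
  · exact ey_4
  · exact ey_5
  · exact ey_6
  · exact ey_7
  · exact ey_8
  · exact ey_9
  · exact ey_10
  · exact ey_11

abbrev G := PresentedGroup rels

def ev (p : Fin 12 × Fin 5) : G := PresentedGroup.mk rels (fy ^ (p.2 : ℕ) * T p.1)

theorem my5 : (PresentedGroup.mk rels fy) ^ 5 = 1 := by
  rw [← map_pow]
  exact PresentedGroup.one_of_mem (by simp [rels])

theorem mx3 : (PresentedGroup.mk rels fx) ^ 3 = 1 := by
  rw [← map_pow]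
  exact PresentedGroup.one_of_mem (by simp [rels])

theorem ev_of (i : Fin 12) (k : ℕ) :
    PresentedGroup.mk rels (fy ^ k * T i) = ev (i, ⟨k % 5, Nat.mod_lt _ (by norm_num)⟩) := by
  unfold ev
  simp only [map_mul, map_pow]
  congr 1
  exact pow_eq_pow_mod k my5

theorem step_gen (s : F2) (n : Fin 12 → Fin 12) (m : Fin 12 → ℕ)
    (h : ∀ i : Fin 12, PresentedGroup.mk rels (T i * s) = PresentedGroup.mk rels (fy ^ m i * T (n i)))
    (p : Fin 12 × Fin 5) : ∃ q, ev p * PresentedGroup.mk rels s = ev q := by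
  obtain ⟨i, k⟩ := p
  refine ⟨(n i, ⟨((k : ℕ) + m i) % 5, Nat.mod_lt _ (by norm_num)⟩), ?_⟩
  rw [← ev_of]
  unfold ev
  have h1 := h i
  simp only [map_mul, map_pow] at h1 ⊢
  rw [mul_assoc, h1, pow_add, mul_assoc]

theorem step_pow (g : G) (hg : ∀ p, ∃ q, ev p * g = ev q) (n : ℕ) : ∀ p, ∃ q, ev p * g ^ n = ev q := by
  induction n with
  | zero => intro p; exact ⟨p, by simp⟩
  | succ n ih =>
    intro p
    obtain ⟨q, hq⟩ := ih p
    obtain ⟨r, hr⟩ := hg q
    exact ⟨r, by rw [pow_succ, ← mul_assoc, hq, hr]⟩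

theorem step_all (w : F2) : ∀ p, ∃ q, ev p * PresentedGroup.mk rels w = ev q := by
  induction w using FreeGroup.induction_on with
  | C1 => intro p; exact ⟨p, by simp⟩
  | of a =>
    fin_cases a
    · exact step_gen fx nx mx entry_x
    · exact step_gen fy ny my entry_y
  | inv_of a _ =>
    fin_cases a
    · have h2 := step_pow _ (step_gen fx nx mx entry_x) 2
      have e : (PresentedGroup.mk rels (FreeGroup.of (0 : Fin 2)))⁻¹ = (PresentedGroup.mk rels fx) ^ 2 := by
        rw [inv_eq_iff_mul_eq_one]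
        have := mx3
        rw [pow_succ'] at this
        exact this
      intro p
      rw [map_inv]
      show ∃ q, ev p * (PresentedGroup.mk rels (FreeGroup.of (0 : Fin 2)))⁻¹ = ev q
      rw [e]
      exact h2 p
    · have h2 := step_pow _ (step_gen fy ny my entry_y) 4
      have e : (PresentedGroup.mk rels (FreeGroup.of (1 : Fin 2)))⁻¹ = (PresentedGroup.mk rels fy) ^ 4 := by
        rw [inv_eq_iff_mul_eq_one]
        have := my5
        rw [pow_succ'] at this
        exact this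
      intro p
      rw [map_inv]
      show ∃ q, ev p * (PresentedGroup.mk rels (FreeGroup.of (1 : Fin 2)))⁻¹ = ev q
      rw [e]
      exact h2 p
  | mul x y hx hy =>
    intro p
    obtain ⟨q, hq⟩ := hx p
    obtain ⟨r, hr⟩ := hy q
    exact ⟨r, by rw [map_mul, ← mul_assoc, hq, hr]⟩

theorem ev_surjective : Function.Surjective ev := by
  intro g
  obtain ⟨w, rfl⟩ := PresentedGroup.mk_surjective rels g
  obtain ⟨q, hq⟩ := step_all w (0, 0)
  refine ⟨q, hq.symm.trans ?_⟩
  have : ev (0, 0) = 1 := by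
    unfold ev
    simp [T]
  rw [this, one_mul]

def a5 : alternatingGroup (Fin 5) := ⟨Equiv.swap 0 3 * Equiv.swap 3 1, by rw [Equiv.Perm.mem_alternatingGroup]; decide +kernel⟩
def b5 : alternatingGroup (Fin 5) :=
  ⟨Equiv.swap 0 1 * Equiv.swap 1 2 * Equiv.swap 2 3 * Equiv.swap 3 4,
    by rw [Equiv.Perm.mem_alternatingGroup]; decide +kernel⟩
def gens : Fin 2 → alternatingGroup (Fin 5) := ![a5, b5]

theorem gens_rel : ∀ r ∈ rels, FreeGroup.lift gens r = 1 := by
  intro r hr
  simp only [rels, Set.mem_insert_iff, Set.mem_singleton_iff] at hr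
  rcases hr with rfl | rfl | rfl
  · simp only [fx, map_pow, FreeGroup.lift_apply_of, gens, Matrix.cons_val_zero]
    decide +kernel
  · simp only [fy, map_pow, FreeGroup.lift_apply_of, gens, Matrix.cons_val_one, Matrix.cons_val_zero]
    decide +kernel
  · simp only [fx, fy, map_pow, map_mul, FreeGroup.lift_apply_of, gens, Matrix.cons_val_one,
      Matrix.cons_val_zero]
    decide +kernel

def phi : G →* alternatingGroup (Fin 5) := PresentedGroup.toGroup gens_rel

def T5 : Fin 12 → alternatingGroup (Fin 5) := fun i => FreeGroup.lift gens (T i)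

theorem phi_ev (p : Fin 12 × Fin 5) : phi (ev p) = b5 ^ (p.2 : ℕ) * T5 p.1 := by
  unfold ev phi T5
  have : ∀ w : F2, PresentedGroup.toGroup gens_rel (PresentedGroup.mk rels w) = FreeGroup.lift gens w := by
    intro w
    rfl
  rw [this, map_mul, map_pow]
  simp [fy, gens]
def T5e : Fin 12 → alternatingGroup (Fin 5) := ![(1), (a5), (a5 * a5), (a5 * a5 * b5), (a5 * a5 * b5 * a5), (a5 * a5 * b5 * b5), (a5 * a5 * b5 * a5 * a5), (a5 * a5 * b5 * b5 * a5), (a5 * a5 * b5 * a5 * a5 * b5), (a5 * a5 * b5 * a5 * a5 * b5 * b5), (a5 * a5 * b5 * a5 * a5 * b5 * b5 * a5), (a5 * a5 * b5 * a5 * a5 * b5 * b5 * a5 * a5)]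

theorem T5_eq : T5 = T5e := by
  funext i
  fin_cases i <;> simp [T5, T, T5e, fx, fy, gens, mul_assoc]

theorem inj5 : Function.Injective (fun p : Fin 12 × Fin 5 => b5 ^ (p.2 : ℕ) * T5e p.1) := by
  decide +kernel

theorem main : Nonempty (G ≃* alternatingGroup (Fin 5)) := by
  have hinj : Function.Injective (fun p : Fin 12 × Fin 5 => phi (ev p)) := by
    have : (fun p : Fin 12 × Fin 5 => phi (ev p)) = (fun p : Fin 12 × Fin 5 => b5 ^ (p.2 : ℕ) * T5e p.1) := by
      funext p
      rw [phi_ev, T5_eq]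
    rw [this]
    exact inj5
  have hcard : Fintype.card (Fin 12 × Fin 5) = Fintype.card (alternatingGroup (Fin 5)) := by
    rw [card_alternatingGroup]
    simp
    decide
  have hbij : Function.Bijective (fun p : Fin 12 × Fin 5 => phi (ev p)) :=
    (Fintype.bijective_iff_injective_and_card _).2 ⟨hinj, hcard⟩
  have hphi_inj : Function.Injective phi := by
    intro g g' h
    obtain ⟨p, rfl⟩ := ev_surjective g
    obtain ⟨q, rfl⟩ := ev_surjective g'
    rw [hinj h]
  have hphi_surj : Function.Surjective phi := by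
    intro z
    obtain ⟨p, hp⟩ := hbij.2 z
    exact ⟨ev p, hp⟩
  exact ⟨MulEquiv.ofBijective phi ⟨hphi_inj, hphi_surj⟩⟩

/-- The alternating group of degree 5 has the presentation ⟨x, y | x³ = 1, y⁵ = 1, (xy)² = 1⟩: the group so presented is isomorphic to Alt(5). -/
theorem result :
    Nonempty (PresentedGroup ({FreeGroup.of (0 : Fin 2) ^ 3, FreeGroup.of (1 : Fin 2) ^ 5,
        (FreeGroup.of (0 : Fin 2) * FreeGroup.of 1) ^ 2} : Set (FreeGroup (Fin 2))) ≃* alternatingGroup (Fin 5)) := by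
  exact main

end Cfsg.Agent.S3377
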