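import Cfsg.Statements.S0804
import Mathlib
import Cfsg.Agent.Lib.Helper12.RecogB
import Cfsg.Agent.Lib.Helper12.Quat
import Cfsg.Agent.Lib.Helper12.SL2b
import Cfsg.Agent.S0807
import Cfsg.Agent.S2475
import Cfsg.Agent.S3377

set_option autoImplicit false
open Cfsg

namespace Cfsg.Agent.S0804

open Cfsg.Agent.Lib.Helper12 Cfsg.Agent.Lib.Helper12.SL2 Cfsg.Agent.S0807 Cfsg.Agent.Lib.Helper12.Quat

local notation "SL2" => Matrix.SpecialLinearGroup (Fin 2)
local notation "PSL2" => Matrix.ProjectiveSpecialLinearGroup (Fin 2)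

/-- a group generated by `x`, `y` with `x³ = y⁵ = (xy)² = 1`, `x ≠ 1`, contains `A₅` -/
theorem exists_A5_of_gens {G : Type*} [Group G] (x y : G) (hx : x ^ 3 = 1) (hy : y ^ 5 = 1)
    (hxy : (x * y) ^ 2 = 1) (hx1 : x ≠ 1) :
    ∃ H : Subgroup G, Nonempty (H ≃* alternatingGroup (Fin 5)) := by
  obtain ⟨e⟩ := Cfsg.Agent.S3377.result
  let f : Fin 2 → G := ![x, y]
  have hrel : ∀ r ∈ ({FreeGroup.of (0 : Fin 2) ^ 3, FreeGroup.of (1 : Fin 2) ^ 5,
        (FreeGroup.of (0 : Fin 2) * FreeGroup.of 1) ^ 2} : Set (FreeGroup (Fin 2))),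
      FreeGroup.lift f r = 1 := by
    intro r hr
    simp only [Set.mem_insert_iff, Set.mem_singleton_iff] at hr
    rcases hr with rfl | rfl | rfl
    · simp [f, hx]
    · simp [f, hy]
    · simp [f, hxy]
  let φ := PresentedGroup.toGroup hrel
  let ψ : alternatingGroup (Fin 5) →* G := φ.comp e.symm.toMonoidHom
  have hinj : Function.Injective ψ := by
    rw [← MonoidHom.ker_eq_bot_iff]
    rcases (ψ.normal_ker).eq_bot_or_eq_top with h | h
    · exact h
    · exfalso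
      apply hx1
      have h1 : e (PresentedGroup.of 0) ∈ ψ.ker := by rw [h]; trivial
      rw [MonoidHom.mem_ker] at h1
      have h2 : ψ (e (PresentedGroup.of 0)) = x := by
        show φ (e.symm (e (PresentedGroup.of 0))) = x
        rw [MulEquiv.symm_apply_apply]
        show PresentedGroup.toGroup hrel (PresentedGroup.of 0) = x
        rw [PresentedGroup.toGroup.of]
        rfl
      rw [← h2, h1]
  exact Recog.exists_subgroup_of_injective ψ hinj ⟨⊤, ⟨Subgroup.topEquiv⟩⟩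


variable {F : Type*} [Field F]

/-- `Z = p • Y - r` entrywise -/
def IsLin (Y Z : SL2 F) (p r : F) : Prop :=
  Z 0 0 = p * Y 0 0 - r ∧ Z 0 1 = p * Y 0 1 ∧ Z 1 0 = p * Y 1 0 ∧ Z 1 1 = p * Y 1 1 - r

theorem isLin_one (Y : SL2 F) : IsLin Y 1 0 (-1) := by
  refine ⟨?_, ?_, ?_, ?_⟩ <;> simp

theorem isLin_mul (Y Z : SL2 F) (p r : F) (h : IsLin Y Z p r) :
    IsLin Y (Z * Y) (tr Y * p - r) p := by
  obtain ⟨h00, h01, h10, h11⟩ := h
  have hd := det_eq Y
  unfold tr
  refine ⟨?_, ?_, ?_, ?_⟩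
  · rw [mul_apply', h00, h01]; linear_combination (-p) * hd
  · rw [mul_apply', h00, h01]; ring
  · rw [mul_apply', h10, h11]; ring
  · rw [mul_apply', h10, h11]; linear_combination (-p) * hd

theorem isLin_pow5 (Y : SL2 F) : IsLin Y (Y ^ 5) (tr Y ^ 4 - 3 * tr Y ^ 2 + 1) (tr Y ^ 3 - 2 * tr Y) := by
  have h1 := isLin_mul Y _ _ _ (isLin_one Y)
  have h2 := isLin_mul Y _ _ _ h1
  have h3 := isLin_mul Y _ _ _ h2
  have h4 := isLin_mul Y _ _ _ h3
  have h5 := isLin_mul Y _ _ _ h4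
  have e : (1 : SL2 F) * Y * Y * Y * Y * Y = Y ^ 5 := by simp only [pow_succ, pow_zero]
  rw [e] at h5
  convert h5 using 1 <;> ring

theorem isLin_pow3 (Y : SL2 F) : IsLin Y (Y ^ 3) (tr Y ^ 2 - 1) (tr Y) := by
  have h1 := isLin_mul Y _ _ _ (isLin_one Y)
  have h2 := isLin_mul Y _ _ _ h1
  have h3 := isLin_mul Y _ _ _ h2
  have e : (1 : SL2 F) * Y * Y * Y = Y ^ 3 := by simp only [pow_succ, pow_zero]
  rw [e] at h3
  convert h3 using 1 <;> ring

theorem pow_five_eq_one (Y : SL2 F) (h : tr Y ^ 2 + tr Y - 1 = 0) : Y ^ 5 = 1 := by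
  obtain ⟨h00, h01, h10, h11⟩ := isLin_pow5 Y
  have e1 : tr Y ^ 4 - 3 * tr Y ^ 2 + 1 = 0 := by
    linear_combination (tr Y ^ 2 - tr Y - 1) * h
  have e2 : tr Y ^ 3 - 2 * tr Y = -1 := by
    linear_combination (tr Y - 1) * h
  rw [e1, e2] at h00 h11
  rw [e1] at h01 h10
  apply ext4
  · rw [h00]; simp
  · rw [h01]; simp
  · rw [h10]; simp
  · rw [h11]; simp

theorem pow_three_eq_zc (X : SL2 F) (h : tr X = 1) : X ^ 3 = zc' := by
  obtain ⟨h00, h01, h10, h11⟩ := isLin_pow3 X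
  rw [h] at h00 h01 h10 h11
  apply ext4
  · rw [h00]; simp [zc', Cfsg.Agent.S2471.zc]
  · rw [h01]; simp [zc', Cfsg.Agent.S2471.zc]
  · rw [h10]; simp [zc', Cfsg.Agent.S2471.zc]
  · rw [h11]; simp [zc', Cfsg.Agent.S2471.zc]

/-- an element of order five gives a root of `τ² + τ - 1` -/
theorem exists_tau_of_pow_five (Y : SL2 F) (h5 : Y ^ 5 = 1) (hY : NonScalar Y) :
    ∃ τ : F, τ ^ 2 + τ - 1 = 0 := by
  obtain ⟨h00, h01, h10, h11⟩ := isLin_pow5 Y
  rw [h5] at h00 h01 h10 h11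
  simp at h00 h01 h10 h11
  set τ := tr Y with hτ
  have hp : τ ^ 4 - 3 * τ ^ 2 + 1 = 0 := by
    by_contra hne
    apply hY
    refine ⟨?_, ?_, ?_⟩
    · rcases h01 with h | h
      · exact absurd h hne
      · exact h
    · rcases h10 with h | h
      · exact absurd h hne
      · exact h
    · have : (τ ^ 4 - 3 * τ ^ 2 + 1) * (Y 0 0 - Y 1 1) = 0 := by
        linear_combination h11 - h00
      rcases mul_eq_zero.mp this with h | h
      · exact absurd h hne
      · exact sub_eq_zero.mp h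
  rw [hp] at h00
  have hr : τ ^ 3 - 2 * τ + 1 = 0 := by linear_combination h00
  refine ⟨τ, ?_⟩
  by_contra hne
  have h1 : (τ - 1) * (τ ^ 2 + τ - 1) = 0 := by linear_combination hr
  have ht1 : τ = 1 := by
    rcases mul_eq_zero.mp h1 with h | h
    · exact sub_eq_zero.mp h
    · exact absurd h hne
  rw [ht1] at hp
  norm_num at hp


theorem exists_tau [Fintype F] (h : 5 ∣ Fintype.card F * (Fintype.card F ^ 2 - 1)) :
    ∃ τ : F, τ ^ 2 + τ - 1 = 0 := by
  haveI : Fact (Nat.Prime 5) := ⟨by norm_num⟩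
  rw [← SL2.card_SL2] at h
  obtain ⟨Y, hY⟩ := exists_prime_orderOf_dvd_card' 5 h
  have h5 : Y ^ 5 = 1 := by rw [← hY]; exact pow_orderOf_eq_one Y
  apply exists_tau_of_pow_five Y h5
  rintro ⟨h01, h10, h00⟩
  have hd := det_eq Y
  rw [h01, zero_mul, sub_zero, ← h00] at hd
  have h2 : Y * Y = 1 := by
    apply ext4
    · rw [mul_apply', h01, zero_mul, add_zero, hd]; simp
    · rw [mul_apply', h01]; simp
    · rw [mul_apply', h10]; simp
    · rw [mul_apply', h10, zero_mul, zero_add, ← h00, hd]; simp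
  have h1 : Y = 1 := by
    have : Y ^ 5 = (Y * Y) * (Y * Y) * Y := by simp only [pow_succ, pow_zero, one_mul, mul_assoc]
    rw [this, h2, one_mul, one_mul] at h5
    exact h5
  rw [h1, orderOf_one] at hY
  norm_num at hY

theorem exists_X [Fintype F] (τ : F) (hτ : τ ^ 2 + τ - 1 = 0) :
    ∃ a b : F, a * (1 - a) - b * (b + τ) = 1 := by
  by_cases h2 : (2 : F) = 0
  · refine ⟨τ, 0, ?_⟩
    linear_combination (-1 : F) * hτ + (τ - 1) * h2
  · have hodd := Cfsg.Agent.S2475.odd_card_of_two_ne_zero h2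
    have hq2 : Fintype.card F % 2 = 1 := Nat.odd_iff.mp hodd
    obtain ⟨x, y, h⟩ := exists_sq_add_sq hq2 (1 : F) 1 ((τ ^ 2 - 3) / 4) one_ne_zero one_ne_zero
    have h4 : (4 : F) ≠ 0 := by
      have : (4 : F) = 2 * 2 := by norm_num
      rw [this]; exact mul_ne_zero h2 h2
    refine ⟨x + 1 / 2, y - τ / 2, ?_⟩
    field_simp at h ⊢
    linear_combination (-1 : F) * h

theorem result_mpr [Fintype F] (h : 5 ∣ Fintype.card F * (Fintype.card F ^ 2 - 1)) :
    ∃ H : Subgroup (PSL2 F), Nonempty (H ≃* alternatingGroup (Fin 5)) := by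
  obtain ⟨τ, hτ⟩ := exists_tau h
  obtain ⟨a, b, hab⟩ := exists_X τ hτ
  have hτ0 : τ ≠ 0 := by
    rintro rfl
    norm_num at hτ
  set X : SL2 F := mk a b (b + τ) (1 - a) hab with hX
  have htrX : tr X = 1 := by
    unfold tr; simp only [hX, mk_00, mk_11]; ring
  have htrY : tr (X * qi) = τ := by
    unfold tr
    simp only [mul_apply', hX, qi, mk_00, mk_01, mk_10, mk_11]
    ring
  have hY5 : (X * qi) ^ 5 = 1 := pow_five_eq_one _ (by rw [htrY]; exact hτ)
  have hX3 : X ^ 3 = zc' := pow_three_eq_zc X htrX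
  apply exists_A5_of_gens (mkH X⁻¹ : PSL2 F) (mkH (X * qi))
  · rw [← map_pow, inv_pow, hX3, map_inv, mkH_zc, inv_one]
  · rw [← map_pow, hY5, map_one]
  · rw [← map_mul, inv_mul_cancel_left, pow_two, ← map_mul, qi_sq, mkH_zc]
  · intro h1
    have h3 : (mkH X : PSL2 F) = 1 := by
      rw [map_inv, inv_eq_one] at h1; exact h1
    have h4 : X ∈ Subgroup.center (SL2 F) := (QuotientGroup.eq_one_iff X).mp h3
    have h5 : ¬ NonScalar X := by rw [nonScalar_iff]; exact not_not.mpr h4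
    apply h5
    rintro ⟨h01, h10, -⟩
    simp only [hX, mk_01, mk_10] at h01 h10
    apply hτ0
    linear_combination h10 - h01


/-- PSL_2(q) has a subgroup isomorphic to A_5 iff 5 ∣ q(q² − 1). -/
theorem result {F : Type*} [Field F] [Fintype F] {q : ℕ} (hF : Fintype.card F = q) : (∃ H : Subgroup (Matrix.ProjectiveSpecialLinearGroup (Fin 2) F), Nonempty (H ≃* alternatingGroup (Fin 5))) ↔ 5 ∣ q * (q ^ 2 - 1) := by
  subst hF
  constructor
  · rintro ⟨H, ⟨e⟩⟩
    have h1 : Nat.card H = 60 := by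
      rw [Nat.card_congr e.toEquiv, nat_card_alternatingGroup]
      simp
      decide
    have h2 : Nat.card H ∣ Nat.card (Matrix.ProjectiveSpecialLinearGroup (Fin 2) F) :=
      Subgroup.card_subgroup_dvd_card H
    have h3 : Nat.card (Matrix.ProjectiveSpecialLinearGroup (Fin 2) F) ∣
        Nat.card (Matrix.SpecialLinearGroup (Fin 2) F) :=
      Subgroup.card_quotient_dvd_card _
    rw [SL2.card_SL2] at h3
    rw [h1] at h2
    exact (show 5 ∣ 60 by norm_num).trans (h2.trans h3)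
  · exact result_mpr

end Cfsg.Agent.S0804
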