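import Cfsg.Statements.S4337
import Mathlib.GroupTheory.Solvable
import Mathlib.GroupTheory.Perm.ViaEmbedding
import Mathlib.Data.Fintype.Perm
import Mathlib.GroupTheory.Perm.Sign
import Mathlib.GroupTheory.NoncommCoprod

set_option autoImplicit false
set_option linter.unusedSectionVars false
open Cfsg

namespace Cfsg.Agent.S4337

open Equiv

section S4
set_option maxRecDepth 100000

def inV4 (σ : Perm (Fin 4)) : Prop := σ * σ = 1 ∧ (σ = 1 ∨ ∀ x : Fin 4, σ x ≠ x)
instance : DecidablePred inV4 := fun σ => by unfold inV4; infer_instance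

def inA4 (σ : Perm (Fin 4)) : Prop := σ * σ * σ = 1 ∨ inV4 σ
instance : DecidablePred inA4 := fun σ => by unfold inA4; infer_instance

theorem a4_of_sign : ∀ a : Perm (Fin 4), Perm.sign a = 1 → inA4 a := by decide

theorem comm_a4 (a b : Perm (Fin 4)) : inA4 (a * b * a⁻¹ * b⁻¹) := by
  apply a4_of_sign
  rw [map_mul, map_mul, map_mul, map_inv, map_inv, mul_comm (Perm.sign a) (Perm.sign b), mul_assoc,
    mul_assoc, mul_inv_cancel_left, mul_inv_cancel]

theorem v4_mul : ∀ a b : Perm (Fin 4), inV4 a → inV4 b → inV4 (a * b) := by decide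
theorem v4_inv : ∀ a : Perm (Fin 4), inV4 a → inV4 a⁻¹ := by decide
theorem a4_mul : ∀ a b : Perm (Fin 4), inA4 a → inA4 b → inA4 (a * b) := by decide
theorem a4_inv : ∀ a : Perm (Fin 4), inA4 a → inA4 a⁻¹ := by decide
theorem comm_v4 : ∀ a b : Perm (Fin 4), inA4 a → inA4 b → inV4 (a * b * a⁻¹ * b⁻¹) := by decide
theorem comm_one : ∀ a b : Perm (Fin 4), inV4 a → inV4 b → a * b * a⁻¹ * b⁻¹ = 1 := by decide

def v4 : Subgroup (Perm (Fin 4)) where
  carrier := {σ | inV4 σ}
  mul_mem' := fun {a b} ha hb => v4_mul a b ha hb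
  one_mem' := by show inV4 1; decide
  inv_mem' := fun {a} ha => v4_inv a ha

def a4 : Subgroup (Perm (Fin 4)) where
  carrier := {σ | inA4 σ}
  mul_mem' := fun {a b} ha hb => a4_mul a b ha hb
  one_mem' := by show inA4 1; decide
  inv_mem' := fun {a} ha => a4_inv a ha

/-- The symmetric group on four letters is solvable. -/
theorem perm_fin4_solvable : Group.IsSolvable (Perm (Fin 4)) := by
  refine ⟨⟨3, ?_⟩⟩
  have h1 : derivedSeries (Perm (Fin 4)) 1 ≤ a4 := by
    rw [derivedSeries_succ, Subgroup.commutator_le]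
    intro g _ h _
    exact comm_a4 g h
  have h2 : derivedSeries (Perm (Fin 4)) 2 ≤ v4 := by
    rw [derivedSeries_succ, Subgroup.commutator_le]
    intro g hg h hh
    exact comm_v4 g h (h1 hg) (h1 hh)
  rw [derivedSeries_succ, eq_bot_iff, Subgroup.commutator_le]
  intro g hg h hh
  rw [Subgroup.mem_bot]
  exact comm_one g h (h2 hg) (h2 hh)

end S4

variable {α : Type*} [DecidableEq α] [Fintype α]

/-- the symmetric group on a set of at most four elements is solvable -/
theorem perm_solvable_of_card_le (β : Type*) [Fintype β] [DecidableEq β] (h : Fintype.card β ≤ 4) :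
    Group.IsSolvable (Perm β) := by
  have h' : Fintype.card β ≤ Fintype.card (Fin 4) := by simpa using h
  obtain ⟨ι⟩ := Function.Embedding.nonempty_of_card_le h'
  haveI := perm_fin4_solvable
  exact Group.isSolvable_of_isSolvable_injective (Equiv.Perm.viaEmbeddingHom_injective ι)

/-- a subgroup of a solvable-range is solvable -/
theorem solvable_of_le_range {G H : Type*} [Group G] [Group H] [Group.IsSolvable G] (f : G →* H)
    (K : Subgroup H) (hK : K ≤ f.range) : Group.IsSolvable K := by
  haveI : Group.IsSolvable f.range := Group.isSolvable_of_surjective f.rangeRestrict_surjective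
  exact Group.isSolvable_of_isSolvable_injective (Subgroup.inclusion_injective hK)

/-- permutations supported on a set `T` of at most four points generate a solvable group -/
theorem solvable_closure_of_support (T : Finset α) (hT : T.card ≤ 4) (X : Set (Perm α))
    (hX : ∀ σ ∈ X, ∀ x, x ∉ T → σ x = x) : Group.IsSolvable (Subgroup.closure X) := by
  haveI : Group.IsSolvable (Perm {x // x ∈ T}) :=
    perm_solvable_of_card_le _ (by simpa using hT)
  apply solvable_of_le_range (Perm.ofSubtype (p := fun x => x ∈ T))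
  rw [Subgroup.closure_le]
  intro σ hσ
  have h₂ : ∀ x, σ x ≠ x → x ∈ T := by
    intro x hx
    by_contra hxT
    exact hx (hX σ hσ x hxT)
  have h₁ : ∀ x, σ x ∈ T ↔ x ∈ T := by
    intro x
    constructor
    · intro h
      by_contra hxT
      rw [hX σ hσ x hxT] at h
      exact hxT h
    · intro h
      by_contra hxT
      have := hX σ hσ (σ x) hxT
      have h3 : σ x = x := σ.injective this
      rw [h3] at hxT
      exact hxT h
  exact ⟨Perm.subtypePerm σ h₁, Perm.ofSubtype_subtypePerm h₁ h₂⟩

/-- adjoining an element commuting with all generators preserves solvability -/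
theorem solvable_closure_insert {G : Type*} [Group G] (X : Set G) (c : G) (hc : ∀ σ ∈ X, Commute σ c)
    (hX : Group.IsSolvable (Subgroup.closure X)) : Group.IsSolvable (Subgroup.closure (insert c X)) := by
  have hcomm : ∀ (m : Subgroup.closure X) (n : Subgroup.zpowers c),
      Commute ((Subgroup.closure X).subtype m) ((Subgroup.zpowers c).subtype n) := by
    rintro ⟨m, hm⟩ ⟨n, hn⟩
    show Commute m n
    have h1 : Subgroup.closure X ≤ Subgroup.centralizer {c} := by
      rw [Subgroup.closure_le]
      intro σ hσ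
      rw [SetLike.mem_coe, Subgroup.mem_centralizer_iff]
      intro y hy
      rw [Set.mem_singleton_iff] at hy
      rw [hy]
      exact (hc σ hσ).symm.eq
    have h2 : Commute m c := by
      have := Subgroup.mem_centralizer_iff.1 (h1 hm) c (Set.mem_singleton c)
      exact this.symm
    obtain ⟨k, rfl⟩ := Subgroup.mem_zpowers_iff.1 hn
    exact h2.zpow_right k
  have : Group.IsSolvable (Subgroup.zpowers c) := by
    apply Group.isSolvable_of_comm
    rintro ⟨x, hx⟩ ⟨y, hy⟩
    obtain ⟨k, rfl⟩ := Subgroup.mem_zpowers_iff.1 hx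
    obtain ⟨l, rfl⟩ := Subgroup.mem_zpowers_iff.1 hy
    apply Subtype.ext
    show c ^ k * c ^ l = c ^ l * c ^ k
    rw [← zpow_add, ← zpow_add, add_comm]
  apply solvable_of_le_range (MonoidHom.noncommCoprod _ _ hcomm)
  rw [Subgroup.closure_le]
  intro σ hσ
  rcases hσ with rfl | hσ
  · exact ⟨(1, ⟨σ, Subgroup.mem_zpowers σ⟩), by simp⟩
  · exact ⟨(⟨σ, Subgroup.subset_closure hσ⟩, 1), by simp⟩

theorem commute_of_support {σ τ : Perm α} (A C : Finset α) (hσ : ∀ x, x ∉ A → σ x = x)
    (hτ : ∀ x, x ∉ C → τ x = x) (hAC : Disjoint A C) : Commute σ τ := by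
  apply Equiv.Perm.Disjoint.commute
  intro x
  by_cases hx : x ∈ A
  · right
    exact hτ x (Finset.disjoint_left.1 hAC hx)
  · left
    exact hσ x hx

theorem card_union3_le (U V W : Finset α) (hU : U.card ≤ 2) (hV : V.card ≤ 2) (hW : W.card ≤ 2)
    (h1 : (U ∩ V).Nonempty) (h2 : (W ∩ (U ∪ V)).Nonempty) : (U ∪ V ∪ W).card ≤ 4 := by
  have e1 := Finset.card_union_add_card_inter U V
  have e2 := Finset.card_union_add_card_inter (U ∪ V) W
  have p1 : 0 < (U ∩ V).card := Finset.card_pos.2 h1
  have p2 : 0 < ((U ∪ V) ∩ W).card := by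
    rw [Finset.inter_comm]; exact Finset.card_pos.2 h2
  omega

/-- the core statement, with the three supports given -/
theorem solvable_of_three (a b c : Perm α) (A B C : Finset α) (hA : A.card ≤ 2) (hB : B.card ≤ 2)
    (hC : C.card ≤ 2) (ha : ∀ x, x ∉ A → a x = x) (hb : ∀ x, x ∉ B → b x = x)
    (hc : ∀ x, x ∉ C → c x = x) :
    Group.IsSolvable (Subgroup.closure ({a, b, c} : Set (Perm α))) := by
  have card2 : ∀ U V : Finset α, U.card ≤ 2 → V.card ≤ 2 → (U ∪ V).card ≤ 4 := by
    intro U V hU hV
    have := Finset.card_union_le U V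
    omega
  -- isolated cases
  by_cases h3 : Disjoint C (A ∪ B)
  · have hX : Group.IsSolvable (Subgroup.closure ({a, b} : Set (Perm α))) := by
      apply solvable_closure_of_support (A ∪ B) (card2 A B hA hB)
      rintro σ (rfl | rfl) x hx
      · exact ha x (fun h => hx (Finset.mem_union_left _ h))
      · exact hb x (fun h => hx (Finset.mem_union_right _ h))
    have h := solvable_closure_insert ({a, b} : Set (Perm α)) c (by
      rintro σ (rfl | rfl)
      · exact commute_of_support A C ha hc (Finset.disjoint_left.2 fun x hxA hxC =>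
          Finset.disjoint_left.1 h3 hxC (Finset.mem_union_left _ hxA))
      · exact commute_of_support B C hb hc (Finset.disjoint_left.2 fun x hxB hxC =>
          Finset.disjoint_left.1 h3 hxC (Finset.mem_union_right _ hxB))) hX
    have e : ({a, b, c} : Set (Perm α)) = insert c {a, b} := by
      ext σ; simp only [Set.mem_insert_iff, Set.mem_singleton_iff]; tauto
    rw [e]; exact h
  by_cases h2 : Disjoint B (A ∪ C)
  · have hX : Group.IsSolvable (Subgroup.closure ({a, c} : Set (Perm α))) := by
      apply solvable_closure_of_support (A ∪ C) (card2 A C hA hC)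
      rintro σ (rfl | rfl) x hx
      · exact ha x (fun h => hx (Finset.mem_union_left _ h))
      · exact hc x (fun h => hx (Finset.mem_union_right _ h))
    have h := solvable_closure_insert ({a, c} : Set (Perm α)) b (by
      rintro σ (rfl | rfl)
      · exact commute_of_support A B ha hb (Finset.disjoint_left.2 fun x hxA hxB =>
          Finset.disjoint_left.1 h2 hxB (Finset.mem_union_left _ hxA))
      · exact commute_of_support C B hc hb (Finset.disjoint_left.2 fun x hxC hxB =>
          Finset.disjoint_left.1 h2 hxB (Finset.mem_union_right _ hxC))) hX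
    have e : ({a, b, c} : Set (Perm α)) = insert b {a, c} := by
      ext σ; simp only [Set.mem_insert_iff, Set.mem_singleton_iff]; tauto
    rw [e]; exact h
  by_cases h1 : Disjoint A (B ∪ C)
  · have hX : Group.IsSolvable (Subgroup.closure ({b, c} : Set (Perm α))) := by
      apply solvable_closure_of_support (B ∪ C) (card2 B C hB hC)
      rintro σ (rfl | rfl) x hx
      · exact hb x (fun h => hx (Finset.mem_union_left _ h))
      · exact hc x (fun h => hx (Finset.mem_union_right _ h))
    exact solvable_closure_insert ({b, c} : Set (Perm α)) a (by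
      rintro σ (rfl | rfl)
      · exact commute_of_support B A hb ha (Finset.disjoint_left.2 fun x hxB hxA =>
          Finset.disjoint_left.1 h1 hxA (Finset.mem_union_left _ hxB))
      · exact commute_of_support C A hc ha (Finset.disjoint_left.2 fun x hxC hxA =>
          Finset.disjoint_left.1 h1 hxA (Finset.mem_union_right _ hxC))) hX
  -- connected case
  rw [Finset.not_disjoint_iff_nonempty_inter] at h1 h2 h3
  have hT : ∃ T : Finset α, T.card ≤ 4 ∧ A ⊆ T ∧ B ⊆ T ∧ C ⊆ T := by
    by_cases hAB : (A ∩ B).Nonempty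
    · refine ⟨A ∪ B ∪ C, card_union3_le A B C hA hB hC hAB h3, ?_, ?_, ?_⟩
      · intro x hx; simp [hx]
      · intro x hx; simp [hx]
      · intro x hx; simp [hx]
    · have hAC : (A ∩ C).Nonempty := by
        obtain ⟨x, hx⟩ := h1
        rw [Finset.mem_inter, Finset.mem_union] at hx
        rcases hx.2 with h | h
        · exact absurd ⟨x, Finset.mem_inter.2 ⟨hx.1, h⟩⟩ hAB
        · exact ⟨x, Finset.mem_inter.2 ⟨hx.1, h⟩⟩
      refine ⟨A ∪ C ∪ B, card_union3_le A C B hA hC hB hAC h2, ?_, ?_, ?_⟩
      · intro x hx; simp [hx]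
      · intro x hx; simp [hx]
      · intro x hx; simp [hx]
  obtain ⟨T, hTc, hAT, hBT, hCT⟩ := hT
  apply solvable_closure_of_support T hTc
  rintro σ (rfl | rfl | rfl) x hx
  · exact ha x (fun h => hx (hAT h))
  · exact hb x (fun h => hx (hBT h))
  · exact hc x (fun h => hx (hCT h))

/-- In a finite symmetric group, any three transpositions generate a solvable subgroup. -/
theorem result (n : ℕ) (a b c : Equiv.Perm (Fin n))
    (ha : a.IsSwap) (hb : b.IsSwap) (hc : c.IsSwap) :
    Group.IsSolvable (Subgroup.closure ({a, b, c} : Set (Equiv.Perm (Fin n)))) := by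
  obtain ⟨x₁, y₁, _, rfl⟩ := ha
  obtain ⟨x₂, y₂, _, rfl⟩ := hb
  obtain ⟨x₃, y₃, _, rfl⟩ := hc
  have key : ∀ x y z : Fin n, z ∉ ({x, y} : Finset (Fin n)) → Equiv.swap x y z = z := by
    intro x y z hz
    rw [Finset.mem_insert, Finset.mem_singleton] at hz
    push Not at hz
    exact Equiv.swap_apply_of_ne_of_ne hz.1 hz.2
  exact solvable_of_three _ _ _ {x₁, y₁} {x₂, y₂} {x₃, y₃} Finset.card_le_two Finset.card_le_two
    Finset.card_le_two (key x₁ y₁) (key x₂ y₂) (key x₃ y₃)

end Cfsg.Agent.S4337
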