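import Mathlib
import Cfsg.Statements.S1952
-- import your own Cfsg.Agent.* helpers here

set_option autoImplicit false
open Cfsg

namespace Cfsg.Agent.S1952

open Polynomial in
theorem poly_id (p : ℕ) [Fact p.Prime] :
    ((X : (ZMod p)[X]) - 1) ^ (p - 1) = ∑ i ∈ Finset.range p, (X : (ZMod p)[X]) ^ i := by
  have hp : p.Prime := Fact.out
  have h1 : ((X : (ZMod p)[X]) - 1) ^ p = X ^ p - 1 := by
    rw [sub_pow_char, one_pow]
  have h2 : ((X : (ZMod p)[X]) - 1) * ∑ i ∈ Finset.range p, (X : (ZMod p)[X]) ^ i = X ^ p - 1 :=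
    mul_geom_sum _ _
  have h3 : ((X : (ZMod p)[X]) - 1) ≠ 0 := by
    have := X_sub_C_ne_zero (1 : ZMod p)
    simpa using this
  apply mul_left_cancel₀ h3
  rw [h2, ← h1, ← pow_succ']
  congr 1
  have := hp.pos
  omega

theorem end_id {p : ℕ} [Fact p.Prime] {V : Type*} [AddCommGroup V] [Module (ZMod p) V]
    (T : Module.End (ZMod p) V) :
    (T - 1) ^ (p - 1) = ∑ i ∈ Finset.range p, T ^ i := by
  have := congrArg (Polynomial.aeval T) (poly_id p)
  simpa using this

theorem card_bound {p : ℕ} [Fact p.Prime] {V : Type*} [AddCommGroup V] [Module (ZMod p) V] [Finite V]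
    (T : Module.End (ZMod p) V) (hT : T ^ p = 1) (K : Submodule (ZMod p) V) (hK : ∀ a ∈ K, T a ∈ K)
    (x : V) (hx : (∑ i ∈ Finset.range p, T ^ i) x ∉ K) :
    p ^ p * Nat.card K ≤ Nat.card V := by
  have hp : p.Prime := Fact.out
  set D : Module.End (ZMod p) V := T - 1 with hD
  have hDN : D ^ (p - 1) = ∑ i ∈ Finset.range p, T ^ i := end_id T
  have hDp : D ^ p = 0 := by
    have h1 : D ^ p = D * D ^ (p - 1) := by
      rw [← pow_succ']; congr 1; have := hp.pos; omega
    rw [h1, hDN, hD, mul_geom_sum, hT, sub_self]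
  have hDK : ∀ a ∈ K, D a ∈ K := by
    intro a ha
    rw [hD, LinearMap.sub_apply]
    exact K.sub_mem (hK a ha) (by simpa using ha)
  let C : ℕ → Submodule (ZMod p) V := fun m => K.comap (D ^ m)
  have hC0 : C 0 = K := by
    ext a; simp [C]
  have hmono : ∀ m, C m ≤ C (m + 1) := by
    intro m a ha
    simp only [C, Submodule.mem_comap] at ha ⊢
    rw [pow_succ', Module.End.mul_apply]
    exact hDK _ ha
  have hstrict : ∀ m, m < p → C m < C (m + 1) := by
    intro m hm
    refine lt_of_le_of_ne (hmono m) ?_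
    intro heq
    have hw : (D ^ (p - 1 - m)) x ∈ C (m + 1) := by
      simp only [C, Submodule.mem_comap]
      rw [← Module.End.mul_apply, ← pow_add]
      have : m + 1 + (p - 1 - m) = p := by omega
      rw [this, hDp]
      simp
    rw [← heq] at hw
    simp only [C, Submodule.mem_comap] at hw
    rw [← Module.End.mul_apply, ← pow_add] at hw
    have : m + (p - 1 - m) = p - 1 := by omega
    rw [this, hDN] at hw
    exact hx hw
  have hfin : ∀ m, m ≤ p → Module.finrank (ZMod p) K + m ≤ Module.finrank (ZMod p) (C m) := by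
    intro m
    induction m with
    | zero => intro _; rw [hC0]; simp
    | succ m ih =>
      intro hm
      have := ih (by omega)
      have h2 := Submodule.finrank_lt_finrank_of_lt (hstrict m (by omega))
      omega
  have h1 := hfin p le_rfl
  have h2 : Module.finrank (ZMod p) (C p) ≤ Module.finrank (ZMod p) V := Submodule.finrank_le _
  rw [Module.natCard_eq_pow_finrank (K := ZMod p) (V := V),
    Module.natCard_eq_pow_finrank (K := ZMod p) (V := K), Nat.card_zmod, ← pow_add]
  exact Nat.pow_le_pow_right hp.pos (by omega)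

theorem comm_bound {B : Type*} [CommGroup B] [Finite B] {p : ℕ} [Fact p.Prime] (hB : ∀ b : B, b ^ p = 1)
    (t : B →* B) (htp : ∀ b, (t^[p]) b = b) (K : Subgroup B) (hK : ∀ b ∈ K, t b ∈ K) (x : B)
    (hx : ((List.range p).map (fun i => (t^[i]) x)).prod ∉ K) : p ^ p * Nat.card K ≤ Nat.card B := by
  have _i2 : Module (ZMod p) (Additive B) := AddCommGroup.zmodModule (n := p) (by
    intro a
    have : p • a = Additive.ofMul ((Additive.toMul a : B) ^ p) := rfl
    rw [this, hB]; rfl)
  let T : Module.End (ZMod p) (Additive B) := (MonoidHom.toAdditive t).toZModLinearMap p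
  have hT1 : ∀ a : Additive B, T a = Additive.ofMul (t (Additive.toMul a)) := fun a => rfl
  have hTi : ∀ (i : ℕ) (a : Additive B), (T ^ i) a = Additive.ofMul ((t^[i]) (Additive.toMul a)) := by
    intro i
    induction i with
    | zero => intro a; simp
    | succ i ih =>
      intro a
      rw [pow_succ, Module.End.mul_apply, ih, hT1, Function.iterate_succ_apply]
      rfl
  have hT : T ^ p = 1 := by
    apply LinearMap.ext
    intro a
    rw [hTi, htp]; rfl
  let KV : Submodule (ZMod p) (Additive B) :=
    AddSubgroup.toZModSubmodule p (Subgroup.toAddSubgroup K)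
  have hKV : ∀ a : Additive B, a ∈ KV ↔ Additive.toMul a ∈ K := fun a => Iff.rfl
  have hKT : ∀ a ∈ KV, T a ∈ KV := by
    intro a ha
    rw [hKV] at ha ⊢
    rw [hT1]
    exact hK _ ha
  have hsum : ∀ n : ℕ, Additive.toMul (∑ i ∈ Finset.range n, (T ^ i) (Additive.ofMul x))
      = ((List.range n).map (fun i => (t^[i]) x)).prod := by
    intro n
    induction n with
    | zero => simp
    | succ n ih =>
      rw [Finset.sum_range_succ, toMul_add, ih, List.range_succ, List.map_append,
        List.prod_append, hTi]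
      simp
  have hx' : (∑ i ∈ Finset.range p, T ^ i) (Additive.ofMul x) ∉ KV := by
    rw [LinearMap.sum_apply, hKV, hsum]
    exact hx
  have key := card_bound T hT KV hKT _ hx'
  exact key

theorem core_bound {P : Type*} [Group P] [Finite P] {p : ℕ} [Fact p.Prime] (A : Subgroup P) [A.Normal]
    (hA : Cfsg.IsElementaryAbelian p A) (x y : P) (hx : x ∈ A) (hyp : y ^ p ∈ A)
    (K : Subgroup P) [K.Normal] (hKA : K ≤ A)
    (hv : ((List.range p).map (fun i => (y ^ i)⁻¹ * x * y ^ i)).prod ∉ K) :
    p ^ p * Nat.card K ≤ Nat.card A := by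
  letI : CommGroup A := { (inferInstance : Group A) with mul_comm := hA.1.is_comm.comm }
  let T₀ : A →* A := (MulAut.conjNormal y⁻¹ : MulAut A).toMonoidHom
  have hT1 : ∀ a : A, ((T₀ a : A) : P) = y⁻¹ * (a : P) * y := by
    intro a
    have : ((T₀ a : A) : P) = y⁻¹ * (a : P) * y⁻¹⁻¹ := MulAut.conjNormal_apply _ _
    rw [inv_inv] at this
    exact this
  have hTi : ∀ (i : ℕ) (a : A), (((T₀^[i]) a : A) : P) = (y ^ i)⁻¹ * (a : P) * y ^ i := by
    intro i
    induction i with
    | zero => intro a; simp
    | succ i ih =>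
      intro a
      rw [Function.iterate_succ_apply, ih, hT1, pow_succ']
      group
  have htp : ∀ b : A, (T₀^[p]) b = b := by
    intro b
    apply Subtype.ext
    rw [hTi]
    have := hA.1.is_comm.comm (⟨y ^ p, hyp⟩ : A) b
    have h3 : y ^ p * (b : P) = (b : P) * y ^ p := congrArg Subtype.val this
    rw [mul_assoc, ← h3, inv_mul_cancel_left]
  have hK : ∀ b ∈ K.subgroupOf A, T₀ b ∈ K.subgroupOf A := by
    intro b hb
    rw [Subgroup.mem_subgroupOf] at hb ⊢
    rw [hT1]
    have := (inferInstance : K.Normal).conj_mem _ hb y⁻¹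
    rwa [inv_inv] at this
  have hx' : ((List.range p).map (fun i => (T₀^[i]) (⟨x, hx⟩ : A))).prod ∉ K.subgroupOf A := by
    rw [Subgroup.mem_subgroupOf]
    have : ((((List.range p).map (fun i => (T₀^[i]) (⟨x, hx⟩ : A))).prod : A) : P)
        = ((List.range p).map (fun i => (y ^ i)⁻¹ * x * y ^ i)).prod := by
      rw [← Subgroup.coe_subtype, map_list_prod, List.map_map]
      congr 1
      apply List.map_congr_left
      intro i _
      simp only [Function.comp, Subgroup.coe_subtype, hTi]
    rw [this]
    exact hv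
  have key := comm_bound (p := p) (B := A) (fun b => Subtype.ext (hA.2 b b.2)) T₀ htp (K.subgroupOf A) hK ⟨x, hx⟩ hx'
  rw [Nat.card_congr (Subgroup.subgroupOfEquivOfLe hKA).toEquiv] at key
  exact key

theorem exists_hyperplane {B : Type*} [CommGroup B] [Finite B] {p : ℕ} [Fact p.Prime]
    (hB : ∀ b : B, b ^ p = 1) (v : B) (hv : v ≠ 1) : ∃ H : Subgroup B, H.index = p ∧ v ∉ H := by
  have hp : p.Prime := Fact.out
  have _i2 : Module (ZMod p) (Additive B) := AddCommGroup.zmodModule (n := p) (by
    intro a
    have : p • a = Additive.ofMul ((Additive.toMul a : B) ^ p) := rfl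
    rw [this, hB]; rfl)
  have hv' : Additive.ofMul v ≠ 0 := fun h => hv (by simpa using h)
  have := (Module.forall_dual_apply_eq_zero_iff (ZMod p) (Additive.ofMul v)).not.2 hv'
  push Not at this
  obtain ⟨φ, hφ⟩ := this
  let ψ : B →* Multiplicative (ZMod p) := AddMonoidHom.toMultiplicativeRight φ.toAddMonoidHom
  have hψv : ψ v ≠ 1 := by
    intro h
    apply hφ
    have : ψ v = Multiplicative.ofAdd (φ (Additive.ofMul v)) := rfl
    rw [this] at h
    simpa using h
  refine ⟨ψ.ker, ?_, fun h => hψv (MonoidHom.mem_ker.1 h)⟩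
  rw [Subgroup.index_ker]
  have h1 : Nat.card ψ.range ∣ p := by
    have := Subgroup.card_subgroup_dvd_card ψ.range
    have h2 : Nat.card (Multiplicative (ZMod p)) = p := by
      rw [Nat.card_congr Multiplicative.toAdd, Nat.card_zmod]
    rwa [h2] at this
  rcases (Nat.dvd_prime hp).1 h1 with h | h
  · exfalso
    have hbot := Subgroup.eq_bot_of_card_eq _ h
    have : ψ v ∈ ψ.range := ⟨v, rfl⟩
    rw [hbot, Subgroup.mem_bot] at this
    exact hψv this
  · exact h

theorem fact_sq (p : ℕ) [Fact p.Prime] :
    (Nat.card (Equiv.Perm (Fin (p ^ 2)))).factorization p = p + 1 := by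
  have hp : p.Prime := Fact.out
  rw [Nat.card_perm, Nat.card_fin, sq, Nat.factorization_factorial_mul hp]
  have := Nat.factorization_factorial_mul (n := 1) hp
  rw [mul_one] at this
  rw [this]
  simp [add_comm]


/-- Let P be a finite p-group with a normal elementary abelian subgroup A of index p, and let x ∈ A and y ∈ P with y outside A. If the product of the p conjugates y^(-i) x y^i (i = 0, …, p−1) is not the identity, then the wreath product Z_p ≀ Z_p, realised as a Sylow p-subgroup of the symmetric group of degree p², is a homomorphic image of P. -/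
theorem result {P : Type*} [Group P] [Finite P] {p : ℕ} [Fact p.Prime] (hP : IsPGroup p P) (A : Subgroup P) [A.Normal]
    (hA : Cfsg.IsElementaryAbelian p A) (hidx : A.index = p) (x y : P) (hx : x ∈ A) (hy : y ∉ A)
    (hprod : ((List.range p).map (fun i => (y ^ i)⁻¹ * x * y ^ i)).prod ≠ 1) :
    ∃ (Q : Sylow p (Equiv.Perm (Fin (p ^ 2)))) (f : P →* ↥(Q : Subgroup (Equiv.Perm (Fin (p ^ 2))))), Function.Surjective f := by
  have hp : p.Prime := Fact.out
  set v := ((List.range p).map (fun i => (y ^ i)⁻¹ * x * y ^ i)).prod with hv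
  have hvA : v ∈ A := by
    apply Subgroup.list_prod_mem
    intro z hz
    rw [List.mem_map] at hz
    obtain ⟨i, _, rfl⟩ := hz
    have := (inferInstance : A.Normal).conj_mem _ hx (y ^ i)⁻¹
    rwa [inv_inv] at this
  letI : CommGroup A := { (inferInstance : Group A) with mul_comm := hA.1.is_comm.comm }
  obtain ⟨H₀, hH₀idx, hvH₀⟩ := exists_hyperplane (B := A) (p := p) (fun b => Subtype.ext (hA.2 b b.2))
    ⟨v, hvA⟩ (by intro h; exact hprod (congrArg Subtype.val h))
  let H : Subgroup P := H₀.map A.subtype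
  have hHA : H ≤ A := Subgroup.map_subtype_le _
  have hHidx : H.index = p ^ 2 := by rw [Subgroup.index_map_subtype, hH₀idx, hidx, sq]
  have hvH : v ∉ H := by
    intro h
    obtain ⟨a, ha, hav⟩ := h
    have : a = ⟨v, hvA⟩ := Subtype.ext hav
    exact hvH₀ (this ▸ ha)
  let K := H.normalCore
  have hKH : K ≤ H := Subgroup.normalCore_le H
  have hKn : K.Normal := Subgroup.normalCore_normal H
  have hyp : y ^ p ∈ A := by
    have := A.pow_index_mem y
    rwa [hidx] at this
  have hbound := core_bound A hA x y hx hyp K (hKH.trans hHA) (fun h => hvH (hKH h))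
  have hcard : Nat.card (P ⧸ H) = p ^ 2 := by rw [← Subgroup.index_eq_card]; exact hHidx
  let e : (P ⧸ H) ≃ Fin (p ^ 2) := Finite.equivFinOfCardEq hcard
  let g : P →* Equiv.Perm (Fin (p ^ 2)) :=
    (Equiv.permCongrHom e).toMonoidHom.comp (MulAction.toPermHom P (P ⧸ H))
  have hker : g.ker = K := by
    ext z
    rw [MonoidHom.mem_ker]
    show _ ↔ z ∈ H.normalCore
    rw [Subgroup.normalCore_eq_ker, MonoidHom.mem_ker]
    constructor
    · intro h
      apply (Equiv.permCongrHom e).injective
      rw [map_one]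
      exact h
    · intro h
      show (Equiv.permCongrHom e) (MulAction.toPermHom P (P ⧸ H) z) = 1
      rw [h, map_one]
  have hrange : Nat.card g.range = K.index := by rw [← hker, Subgroup.index_ker]
  have hlow : p ^ (p + 1) ≤ K.index := by
    have h1 : K.index * Nat.card K = Nat.card P := K.index_mul_card
    have h2 : A.index * Nat.card A = Nat.card P := A.index_mul_card
    have hKpos : 0 < Nat.card K := Nat.card_pos
    have : p ^ (p + 1) * Nat.card K ≤ K.index * Nat.card K := by
      rw [h1, ← h2, hidx, pow_succ', mul_assoc]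
      exact Nat.mul_le_mul_left p hbound
    exact Nat.le_of_mul_le_mul_right this hKpos
  have hpg : IsPGroup p g.range := hP.of_surjective g.rangeRestrict g.rangeRestrict_surjective
  obtain ⟨Q₀, hQ₀⟩ := hpg.exists_le_sylow
  have hQ₀card := Q₀.card_eq_multiplicity
  have hfact := fact_sq p
  have hup : Nat.card g.range ∣ p ^ (p + 1) := by
    rw [← hfact, ← hQ₀card]
    exact Subgroup.card_dvd_of_le hQ₀
  have hcardrange : Nat.card g.range = p ^ (p + 1) :=
    le_antisymm (Nat.le_of_dvd (pow_pos hp.pos _) hup) (hrange ▸ hlow)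
  refine ⟨Sylow.ofCard g.range (by rw [hcardrange, hfact]), g.rangeRestrict, g.rangeRestrict_surjective⟩

end Cfsg.Agent.S1952
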