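import Mathlib
import Cfsg.Statements.S1971
import Cfsg.Agent.S1952
-- import your own Cfsg.Agent.* helpers here

set_option autoImplicit false
universe u
open Cfsg
open scoped Pointwise commutatorElement

namespace Cfsg.Agent.S1971

/-- `X` has a normal subgroup of index `p`. -/
def HasIdxP (p : ℕ) (X : Type*) [Group X] : Prop := ∃ N : Subgroup X, N.Normal ∧ N.index = p

theorem hasIdxP_of_surjective {p : ℕ} {X Y : Type*} [Group X] [Group Y] (f : X →* Y)
    (hf : Function.Surjective f) (h : HasIdxP p Y) : HasIdxP p X := by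
  obtain ⟨N, hN, hi⟩ := h
  exact ⟨N.comap f, hN.comap f, by rw [N.index_comap_of_surjective hf, hi]⟩

theorem hasIdxP_of_comm {p : ℕ} [Fact p.Prime] {B : Type*} [CommGroup B] [Finite B]
    (h : p ∣ Nat.card B) : HasIdxP p B := by
  have hp : p.Prime := Fact.out
  let f : B →* B := powMonoidHom p
  obtain ⟨b, hb⟩ := exists_prime_orderOf_dvd_card' p h
  have hbne : b ≠ 1 := by
    intro h1
    rw [h1, orderOf_one] at hb
    exact hp.one_lt.ne hb
  have hbk : f b = 1 := by
    show b ^ p = 1
    rw [← hb]; exact pow_orderOf_eq_one b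
  have hninj : ¬ Function.Injective f := fun hinj => hbne (hinj (by rw [hbk, map_one]))
  have hnsurj : ¬ Function.Surjective f := fun hs => hninj (Finite.injective_iff_surjective.2 hs)
  have hrange : f.range ≠ ⊤ := fun h => hnsurj (MonoidHom.range_eq_top.1 h)
  obtain ⟨c, hc⟩ : ∃ c : B, c ∉ f.range := by
    by_contra hcon
    push Not at hcon
    exact hrange (eq_top_iff.2 fun x _ => hcon x)
  have hQ : ∀ z : B ⧸ f.range, z ^ p = 1 := by
    intro z
    induction z using QuotientGroup.induction_on with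
    | H z =>
      rw [← QuotientGroup.mk_pow, QuotientGroup.eq_one_iff]
      exact ⟨z, rfl⟩
  have hcne : (c : B ⧸ f.range) ≠ 1 := by
    intro h1
    rw [QuotientGroup.eq_one_iff] at h1
    exact hc h1
  obtain ⟨H, hH, _⟩ := Cfsg.Agent.S1952.exists_hyperplane (p := p) hQ (c : B ⧸ f.range) hcne
  exact hasIdxP_of_surjective (QuotientGroup.mk' f.range) (QuotientGroup.mk'_surjective _)
    ⟨H, inferInstance, hH⟩

theorem hasIdxP_of_notMem_commutator {p : ℕ} [Fact p.Prime] {X : Type*} [Group X] [Finite X]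
    (t : X) (ht : ∃ k : ℕ, t ^ (p ^ k) = 1) (htc : t ∉ commutator X) : HasIdxP p X := by
  have hp : p.Prime := Fact.out
  apply hasIdxP_of_surjective (Abelianization.of : X →* Abelianization X)
    (QuotientGroup.mk'_surjective _)
  apply hasIdxP_of_comm
  have hne : (Abelianization.of t : Abelianization X) ≠ 1 := by
    intro h1
    exact htc ((QuotientGroup.eq_one_iff t).1 h1)
  obtain ⟨k, hk⟩ := ht
  have h1 : (Abelianization.of t : Abelianization X) ^ (p ^ k) = 1 := by
    rw [← map_pow, hk, map_one]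
  have h2 := orderOf_dvd_of_pow_eq_one h1
  obtain ⟨j, _, hj⟩ := (Nat.dvd_prime_pow hp).1 h2
  have hj0 : j ≠ 0 := by
    rintro rfl
    rw [pow_zero, orderOf_eq_one_iff] at hj
    exact hne hj
  have : p ∣ orderOf (Abelianization.of t : Abelianization X) := by
    rw [hj]; exact dvd_pow_self p hj0
  exact this.trans (orderOf_dvd_natCard _)

theorem hasIdxP_of_isPGroup {p : ℕ} [Fact p.Prime] {Q : Type*} [Group Q] [Finite Q]
    (hQ : IsPGroup p Q) [Nontrivial Q] : HasIdxP p Q := by
  have _ : Group.IsNilpotent Q := hQ.isNilpotent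
  have hlt : commutator Q < ⊤ := by
    rw [commutator_def]
    exact Group.IsSolvable.commutator_lt_top_of_nontrivial Q
  obtain ⟨t, _, ht⟩ := SetLike.exists_of_lt hlt
  exact hasIdxP_of_notMem_commutator t (hQ t) ht

theorem hasIdxP_of_quotient {p : ℕ} [Fact p.Prime] {X : Type*} [Group X] [Finite X]
    (M : Subgroup X) [M.Normal] (hQ : IsPGroup p (X ⧸ M)) (hM : M ≠ ⊤) : HasIdxP p X := by
  have _ : Nontrivial (X ⧸ M) := by
    rw [← Finite.one_lt_card_iff_nontrivial, ← Subgroup.index_eq_card]
    have h1 : M.index ≠ 1 := fun h => hM (Subgroup.index_eq_one.1 h)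
    have h0 : M.index ≠ 0 := Subgroup.index_ne_zero_of_finite
    omega
  exact hasIdxP_of_surjective (QuotientGroup.mk' M) (QuotientGroup.mk'_surjective _)
    (hasIdxP_of_isPGroup hQ)

/-- `T` is a nontrivial Sylow `p`-subgroup such that `p'`-elements of `N(T)` centralize `T`. -/
def Good (p : ℕ) {X : Type*} [Group X] (T : Subgroup X) : Prop :=
  IsPGroup p T ∧ ¬ p ∣ T.index ∧ T ≠ ⊥ ∧
    ∀ g ∈ Subgroup.normalizer (T : Set X), (orderOf g).Coprime p →
      g ∈ Subgroup.centralizer (T : Set X)

theorem base {p : ℕ} [Fact p.Prime] {X : Type*} [Group X] [Finite X] (T : Subgroup X) [T.Normal]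
    (hT : Good p T) : HasIdxP p X := by
  have hp : p.Prime := Fact.out
  obtain ⟨hTp, hidx, hne, hc⟩ := hT
  have hc' : ∀ g : X, (orderOf g).Coprime p → g ∈ Subgroup.centralizer (T : Set X) :=
    fun g hg => hc g (by rw [Subgroup.normalizer_eq_top]; trivial) hg
  have hQ : IsPGroup p (X ⧸ Subgroup.centralizer (T : Set X)) := by
    intro z
    induction z using QuotientGroup.induction_on with
    | H x =>
      obtain ⟨a, m, hm, hx⟩ := Nat.exists_eq_pow_mul_and_not_dvd (orderOf_pos x).ne' p hp.ne_one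
      refine ⟨a, ?_⟩
      rw [← QuotientGroup.mk_pow, QuotientGroup.eq_one_iff]
      apply hc'
      have h1 : (x ^ (p ^ a)) ^ m = 1 := by rw [← pow_mul, ← hx, pow_orderOf_eq_one]
      exact Nat.Coprime.coprime_dvd_left (orderOf_dvd_of_pow_eq_one h1)
        ((Nat.Prime.coprime_iff_not_dvd hp).2 hm).symm
  by_cases hCtop : Subgroup.centralizer (T : Set X) = ⊤
  · let P : Sylow p X := hTp.toSylow hidx
    have hPT : (P : Subgroup X) = T := rfl
    have hP : Subgroup.normalizer ((P : Subgroup X) : Set X) ≤ Subgroup.centralizer (P : Set X) := by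
      intro g _
      show g ∈ Subgroup.centralizer (T : Set X)
      rw [hCtop]; trivial
    have hcompl := MonoidHom.ker_transferSylow_isComplement' P hP
    have hMidx : (MonoidHom.transferSylow P hP).ker.index = Nat.card T := hcompl.symm.index_eq_card
    obtain ⟨k, hk⟩ := (IsPGroup.iff_card.1 hTp)
    have hk0 : k ≠ 0 := by
      rintro rfl
      rw [pow_zero] at hk
      exact hne (Subgroup.card_eq_one.1 hk)
    have hQ2 : IsPGroup p (X ⧸ (MonoidHom.transferSylow P hP).ker) :=
      IsPGroup.of_card (n := k) (by rw [← Subgroup.index_eq_card, hMidx, hk])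
    refine hasIdxP_of_quotient _ hQ2 ?_
    intro htop
    rw [← Subgroup.index_eq_one, hMidx, hk] at htop
    have := Nat.one_lt_pow hk0 hp.one_lt
    omega
  · exact hasIdxP_of_quotient _ hQ hCtop

theorem good_comap {p : ℕ} [Fact p.Prime] {X Y : Type*} [Group X] [Group Y] [Finite X] [Finite Y]
    (ψ : Y →* X) (hψ : Function.Injective ψ) (T : Subgroup X) (hTr : T ≤ ψ.range) (hT : Good p T) :
    Good p (T.comap ψ) := by
  obtain ⟨hTp, hidx, hne, hc⟩ := hT
  refine ⟨hTp.comap_of_injective ψ hψ, ?_, ?_, ?_⟩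
  · rw [Subgroup.index_comap]
    exact fun h => hidx (h.trans (Subgroup.relIndex_dvd_index_of_le hTr))
  · intro hbot
    apply hne
    rw [Subgroup.eq_bot_iff_forall]
    intro t ht
    obtain ⟨y, rfl⟩ := hTr ht
    have : y ∈ T.comap ψ := ht
    rw [hbot, Subgroup.mem_bot] at this
    rw [this, map_one]
  · intro y hy hco
    have h1 : ψ y ∈ Subgroup.normalizer (T : Set X) := by
      apply Subgroup.mem_normalizer_fintype
      intro t ht
      obtain ⟨t', rfl⟩ := hTr ht
      have ht' : t' ∈ T.comap ψ := ht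
      have := (Subgroup.mem_normalizer_iff.1 hy t').1 ht'
      have h2 : ψ (y * t' * y⁻¹) ∈ T := this
      simpa using h2
    have h2 : orderOf (ψ y) = orderOf y := orderOf_injective ψ hψ y
    have h3 := hc _ h1 (h2 ▸ hco)
    rw [Subgroup.mem_centralizer_iff] at h3 ⊢
    intro t' ht'
    apply hψ
    rw [map_mul, map_mul]
    exact h3 _ ht'

theorem good_map {p : ℕ} [Fact p.Prime] {X Y : Type*} [Group X] [Group Y] [Finite X] [Finite Y]
    (q : X →* Y) (hq : Function.Surjective q) (T : Subgroup X) (hker : q.ker ≤ T) (hT : Good p T)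
    (hne' : T.map q ≠ ⊥) : Good p (T.map q) := by
  have hp : p.Prime := Fact.out
  obtain ⟨hTp, hidx, hne, hc⟩ := hT
  refine ⟨hTp.map q, ?_, hne', ?_⟩
  · exact fun h => hidx (h.trans (Subgroup.index_map_dvd T hq))
  · intro y hy hco
    obtain ⟨g, rfl⟩ := hq y
    have hgN : g ∈ Subgroup.normalizer (T : Set X) := by
      apply Subgroup.mem_normalizer_fintype
      intro t ht
      have h1 : q g * q t * (q g)⁻¹ ∈ T.map q :=
        (Subgroup.mem_normalizer_iff.1 hy (q t)).1 (Subgroup.mem_map_of_mem q ht)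
      obtain ⟨t₂, ht₂, h2⟩ := h1
      have h3 : t₂⁻¹ * (g * t * g⁻¹) ∈ q.ker := by
        rw [MonoidHom.mem_ker, map_mul, map_inv, h2, map_mul, map_mul, map_inv]
        group
      have h4 := T.mul_mem ht₂ (hker h3)
      rwa [mul_inv_cancel_left] at h4
    obtain ⟨a, m, hm, hx⟩ := Nat.exists_eq_pow_mul_and_not_dvd (orderOf_pos g).ne' p hp.ne_one
    have h1 : (g ^ (p ^ a)) ^ m = 1 := by rw [← pow_mul, ← hx, pow_orderOf_eq_one]
    have h2 : (orderOf (g ^ (p ^ a))).Coprime p :=
      Nat.Coprime.coprime_dvd_left (orderOf_dvd_of_pow_eq_one h1)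
        ((Nat.Prime.coprime_iff_not_dvd hp).2 hm).symm
    have h3 := hc _ (Subgroup.pow_mem _ hgN _) h2
    have h4 : q (g ^ (p ^ a)) ∈ Subgroup.centralizer ((T.map q : Subgroup Y) : Set Y) := by
      rw [Subgroup.mem_centralizer_iff] at h3 ⊢
      rintro _ ⟨t, ht, rfl⟩
      rw [← map_mul, ← map_mul, h3 t ht]
    have h5 : (p ^ a).Coprime (orderOf (q g)) := (Nat.Coprime.pow_right a hco).symm
    obtain ⟨j, hj⟩ := exists_pow_eq_self_of_coprime h5
    rw [← hj, ← map_pow]
    exact Subgroup.pow_mem _ h4 _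

theorem good_of_sylow {p : ℕ} [Fact p.Prime] {X : Type*} [Group X] [Finite X] (T T' : Subgroup X)
    (hT : Good p T) (hT'p : IsPGroup p T') (hT'i : ¬ p ∣ T'.index) : Good p T' := by
  obtain ⟨g, hg⟩ := MulAction.exists_smul_eq X (hT.1.toSylow hT.2.1) (hT'p.toSylow hT'i)
  have h1 : T' = MulAut.conj g • T := by
    have := congrArg (fun P : Sylow p X => (P : Subgroup X)) hg
    simp only [Sylow.coe_subgroup_smul] at this
    exact this.symm
  have h2 : T' = T.comap (MulAut.conj g⁻¹).toMonoidHom := by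
    rw [h1]
    ext x
    rw [Subgroup.mem_pointwise_smul_iff_inv_smul_mem, Subgroup.mem_comap]
    simp [MulAut.smul_def]
  rw [h2]
  apply good_comap _ (MulAut.conj g⁻¹).injective T _ hT
  intro t _
  exact ⟨(MulAut.conj g⁻¹).symm t, by simp [mul_assoc]⟩

/-- conjugation by a normalizing element as an automorphism of the subgroup -/
def conjEquiv {X : Type*} [Group X] (T : Subgroup X) (g : X)
    (hg : g ∈ Subgroup.normalizer (T : Set X)) : ↥T ≃* ↥T where
  toFun t := ⟨g * t * g⁻¹, (Subgroup.mem_normalizer_iff.1 hg t).1 t.2⟩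
  invFun t := ⟨g⁻¹ * t * g, by
    have := (Subgroup.mem_normalizer_iff.1 hg (g⁻¹ * t * g)).2 (by simp [mul_assoc])
    exact this⟩
  left_inv t := by ext; simp [mul_assoc]
  right_inv t := by ext; simp [mul_assoc]
  map_mul' a b := by ext; simp [mul_assoc]

theorem W_le {X : Type u} [Group X] (W : ∀ (Q : Type u) [Group Q], Subgroup Q) (T : Subgroup X) :
    inducedFunctor W T ≤ T := Subgroup.map_subtype_le _

theorem W_ne_bot {p : ℕ} [Fact p.Prime] {X : Type u} [Group X] [Finite X]
    (W : ∀ (Q : Type u) [Group Q], Subgroup Q) (hW : IsCharPFunctor.{u} p W) (T : Subgroup X)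
    (hTp : IsPGroup p T) (hne : T ≠ ⊥) : inducedFunctor W T ≠ ⊥ := by
  intro h
  have h1 : W ↥T = ⊥ := (Subgroup.map_eq_bot_iff_of_injective _ (Subgroup.subtype_injective T)).1 h
  have : Nontrivial ↥T := (Subgroup.nontrivial_iff_ne_bot T).2 hne
  exact hW.1 ↥T hTp this h1

theorem W_normalizer {p : ℕ} [Fact p.Prime] {X : Type u} [Group X] [Finite X]
    (W : ∀ (Q : Type u) [Group Q], Subgroup Q) (hW : IsCharPFunctor.{u} p W) (T : Subgroup X)
    (hTp : IsPGroup p T) :
    Subgroup.normalizer (T : Set X) ≤ Subgroup.normalizer ((inducedFunctor W T : Subgroup X) : Set X) := by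
  intro g hg
  apply Subgroup.mem_normalizer_fintype
  rintro _ ⟨t, ht, rfl⟩
  have h1 := hW.2 ↥T ↥T hTp (conjEquiv T g hg)
  have h2 : (conjEquiv T g hg) t ∈ W ↥T := by
    rw [← h1]
    exact Subgroup.mem_map_of_mem _ ht
  exact ⟨_, h2, rfl⟩

theorem sectionSub {G : Type u} [Group G] (K R : Subgroup G) [hR : (R.subgroupOf K).Normal]
    (N : Subgroup (↥K ⧸ R.subgroupOf K)) :
    ∃ (K₁ : Subgroup G) (hR₁ : (R.subgroupOf K₁).Normal)
      (ψ : (↥K₁ ⧸ R.subgroupOf K₁) →* (↥K ⧸ R.subgroupOf K)),
      Function.Injective ψ ∧ ψ.range = N := by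
  let π := QuotientGroup.mk' (R.subgroupOf K)
  let K₁ : Subgroup G := (N.comap π).map K.subtype
  have hK₁K : K₁ ≤ K := Subgroup.map_subtype_le _
  let ι : ↥K₁ →* ↥K := Subgroup.inclusion hK₁K
  let θ : ↥K₁ →* (↥K ⧸ R.subgroupOf K) := π.comp ι
  have hker : θ.ker = R.subgroupOf K₁ := by
    ext k
    rw [MonoidHom.mem_ker]
    show π (ι k) = 1 ↔ _
    rw [QuotientGroup.mk'_apply, QuotientGroup.eq_one_iff, Subgroup.mem_subgroupOf,
      Subgroup.mem_subgroupOf]
    rfl
  have hR₁ : (R.subgroupOf K₁).Normal := hker ▸ θ.normal_ker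
  refine ⟨K₁, hR₁, QuotientGroup.lift (R.subgroupOf K₁) θ (fun k hk => by
    rw [← hker] at hk; exact hk), ?_, ?_⟩
  · rw [injective_iff_map_eq_one]
    intro y hy
    induction y using QuotientGroup.induction_on with
    | H k =>
      rw [QuotientGroup.lift_mk] at hy
      rw [QuotientGroup.eq_one_iff, ← hker]
      exact hy
  · ext x
    constructor
    · rintro ⟨y, rfl⟩
      induction y using QuotientGroup.induction_on with
      | H k =>
        rw [QuotientGroup.lift_mk]
        obtain ⟨k', hk', hkk⟩ := k.2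
        have : ι k = k' := Subtype.ext hkk.symm
        show π (ι k) ∈ N
        rw [this]
        exact hk'
    · intro hx
      obtain ⟨k', rfl⟩ := QuotientGroup.mk'_surjective (R.subgroupOf K) x
      have hk' : k' ∈ N.comap π := hx
      refine ⟨QuotientGroup.mk (⟨k'.val, Subgroup.mem_map_of_mem _ hk'⟩ : ↥K₁), ?_⟩
      rw [QuotientGroup.lift_mk]
      rfl

theorem sectionQuot {G : Type u} [Group G] (K R : Subgroup G) [hR : (R.subgroupOf K).Normal]
    (Wn : Subgroup (↥K ⧸ R.subgroupOf K)) [hWn : Wn.Normal] :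
    ∃ (R₁ : Subgroup G) (hR₁ : (R₁.subgroupOf K).Normal)
      (q : (↥K ⧸ R.subgroupOf K) →* (↥K ⧸ R₁.subgroupOf K)),
      Function.Surjective q ∧ q.ker = Wn := by
  let π := QuotientGroup.mk' (R.subgroupOf K)
  let R₁ : Subgroup G := (Wn.comap π).map K.subtype
  have hsub : R₁.subgroupOf K = Wn.comap π :=
    Subgroup.comap_map_eq_self_of_injective (Subgroup.subtype_injective K) _
  have hR₁ : (R₁.subgroupOf K).Normal := hsub ▸ (hWn.comap π)
  refine ⟨R₁, hR₁, QuotientGroup.lift (R.subgroupOf K) (QuotientGroup.mk' (R₁.subgroupOf K))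
    (fun k hk => by
      rw [QuotientGroup.ker_mk', hsub, Subgroup.mem_comap]
      have : π k = 1 := (QuotientGroup.eq_one_iff k).2 hk
      rw [this]; exact Wn.one_mem), ?_, ?_⟩
  · intro y
    induction y using QuotientGroup.induction_on with
    | H k => exact ⟨π k, by rw [QuotientGroup.mk'_apply, QuotientGroup.lift_mk]; rfl⟩
  · ext x
    obtain ⟨k, rfl⟩ := QuotientGroup.mk'_surjective (R.subgroupOf K) x
    rw [MonoidHom.mem_ker, QuotientGroup.mk'_apply, QuotientGroup.lift_mk,
      QuotientGroup.mk'_apply, QuotientGroup.eq_one_iff, hsub, Subgroup.mem_comap]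
    rfl


theorem main {G : Type u} [Group G] [Finite G] {p : ℕ} [Fact p.Prime]
    (W : ∀ (Q : Type u) [Group Q], Subgroup Q) (hW : Cfsg.IsCharPFunctor.{u} p W)
    (hctl : ∀ (K R : Subgroup G) [hR : (R.subgroupOf K).Normal],
      Cfsg.ControlsTransferIn p (Cfsg.inducedFunctor (G := (↥K ⧸ R.subgroupOf K)) W) ⊤) :
    ∀ n : ℕ, ∀ (K R : Subgroup G) [hR : (R.subgroupOf K).Normal],
      Nat.card (↥K ⧸ R.subgroupOf K) = n →
      (∃ T : Subgroup (↥K ⧸ R.subgroupOf K), Good p T) → HasIdxP p (↥K ⧸ R.subgroupOf K) := by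
  intro n
  induction n using Nat.strong_induction_on with
  | _ n ih =>
    intro K R hR hcard hex
    obtain ⟨T₁, hT₁⟩ := hex
    obtain ⟨T, _, hTp, hTi, hTeq⟩ := hctl K R
    rw [Subgroup.relIndex_top_right] at hTi
    have hT : Good p T := good_of_sylow T₁ T hT₁ hTp hTi
    have hWle : inducedFunctor W T ≤ T := W_le W T
    have hWne : inducedFunctor W T ≠ ⊥ := W_ne_bot W hW T hTp hT.2.2.1
    have hWN := W_normalizer W hW T hTp
    simp only [top_inf_eq] at hTeq
    set Nm : Subgroup (↥K ⧸ R.subgroupOf K) := Subgroup.normalizer ((inducedFunctor W T : Subgroup (↥K ⧸ R.subgroupOf K)) : Set (↥K ⧸ R.subgroupOf K)) with hNm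
    by_cases hN : Nm = ⊤
    · -- the functor value is normal: pass to the quotient
      have hWn : (inducedFunctor W T).Normal := Subgroup.normalizer_eq_top_iff.1 hN
      obtain ⟨R₁, hR₁, q, hqs, hqk⟩ := sectionQuot K R (inducedFunctor W T)
      have _inst1 : (R₁.subgroupOf K).Normal := hR₁
      by_cases hTq : T.map q = ⊥
      · have hle : T ≤ inducedFunctor W T := by
          rw [← hqk]; exact (Subgroup.map_eq_bot_iff T).1 hTq
        have hTW : T = inducedFunctor W T := le_antisymm hle hWle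
        have hTn : T.Normal := hTW ▸ hWn
        exact base T hT
      · have hG := good_map q hqs T (hqk ▸ hWle) hT hTq
        have hlt : Nat.card (↥K ⧸ R₁.subgroupOf K) < n := by
          rw [← hcard]
          have e := QuotientGroup.quotientKerEquivOfSurjective q hqs
          have h1 := Subgroup.card_eq_card_quotient_mul_card_subgroup q.ker
          rw [Nat.card_congr e.toEquiv, hqk] at h1
          have h2 : 1 < Nat.card (inducedFunctor W T) := (Subgroup.one_lt_card_iff_ne_bot _).2 hWne
          have h3 : 0 < Nat.card (↥K ⧸ R₁.subgroupOf K) := Nat.card_pos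
          rw [h1]
          nlinarith
        exact hasIdxP_of_surjective q hqs (ih _ hlt K R₁ rfl ⟨_, hG⟩)
    · -- proper normalizer: use control of transfer
      obtain ⟨K₁, hR₁, ψ, hψi, hψr⟩ := sectionSub K R Nm
      have _inst1 : (R.subgroupOf K₁).Normal := hR₁
      have hTN : T ≤ Nm :=
        Subgroup.le_normalizer.trans hWN
      have hG := good_comap ψ hψi T (hψr ▸ hTN) hT
      have hlt : Nat.card (↥K₁ ⧸ R.subgroupOf K₁) < n := by
        rw [← hcard, Nat.card_congr (Equiv.ofInjective ψ hψi)]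
        have h1 : Nat.card (Set.range ψ) = Nat.card ψ.range := rfl
        rw [h1, hψr]
        have h2 := Subgroup.index_mul_card
          Nm
        have h3 : Nm.index ≠ 1 :=
          fun h => hN (Subgroup.index_eq_one.1 h)
        have h4 : Nm.index ≠ 0 :=
          Subgroup.index_ne_zero_of_finite
        have h5 : 0 < Nat.card Nm :=
          Nat.card_pos
        rw [← h2]
        have h6 : 2 ≤ Nm.index := by
          omega
        nlinarith
      obtain ⟨M', hM'n, hM'i⟩ := ih _ hlt K₁ R rfl ⟨_, hG⟩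
      have hp : p.Prime := Fact.out
      have hnotle : ¬ T ≤ M'.map ψ := by
        intro hle
        have h1 : T.comap ψ ≤ M' := by
          intro y hy
          obtain ⟨m, hm, hmy⟩ := hle hy
          rw [← hψi hmy]; exact hm
        have h2 := Subgroup.index_dvd_of_le h1
        rw [hM'i] at h2
        exact hG.2.1 h2
      obtain ⟨t, htT, htM⟩ := SetLike.not_le_iff_exists.1 hnotle
      apply hasIdxP_of_notMem_commutator t (by
        obtain ⟨k, hk⟩ := hTp ⟨t, htT⟩
        exact ⟨k, by simpa using congrArg Subtype.val hk⟩)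
      intro htc
      rw [commutator_def] at htc
      have h1 : t ∈ T ⊓ ⁅(⊤ : Subgroup (↥K ⧸ R.subgroupOf K)), ⊤⁆ := ⟨htT, htc⟩
      rw [hTeq] at h1
      apply htM
      have hcomm : ∀ a b : (↥K₁ ⧸ R.subgroupOf K₁), ⁅a, b⁆ ∈ M' := by
        intro a b
        have hcyc : IsCyclic ((↥K₁ ⧸ R.subgroupOf K₁) ⧸ M') :=
          isCyclic_of_prime_card (p := p) (by rw [← Subgroup.index_eq_card]; exact hM'i)
        have := hcyc.isMulCommutative
        rw [← QuotientGroup.eq_one_iff, commutatorElement_def]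
        simp only [QuotientGroup.mk_mul, QuotientGroup.mk_inv]
        rw [this.is_comm.comm (a : (↥K₁ ⧸ R.subgroupOf K₁) ⧸ M') b]
        group
      have hNN : ⁅Nm,
          Nm⁆ ≤ M'.map ψ := by
        rw [← hψr, MonoidHom.range_eq_map, ← Subgroup.map_commutator]
        apply Subgroup.map_mono
        rw [Subgroup.commutator_le]
        intro a _ b _
        exact hcomm a b
      exact hNN h1.2


/-- Let p be a prime, G a finite group with nontrivial Sylow p-subgroup S, and W an isomorphism-invariant p-group functor (W assigns to every group Q a subgroup W(Q), nontrivial whenever Q is a nontrivial finite p-group, and every isomorphism from a finite p-group Q onto a group R carries W(Q) onto W(R)) that controls transfer in every section of G. If N_G(S)/C_G(S) is a p-group (every element of N_G(S) of order prime to p centralizes S), then G has a normal subgroup of index p. -/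
theorem result {G : Type u} [Group G] [Finite G] {p : ℕ} [Fact p.Prime] (W : ∀ (Q : Type u) [Group Q], Subgroup Q) (hW : Cfsg.IsCharPFunctor.{u} p W) (hctl : ∀ (K R : Subgroup G) [hR : (R.subgroupOf K).Normal], Cfsg.ControlsTransferIn p (Cfsg.inducedFunctor (G := (↥K ⧸ R.subgroupOf K)) W) ⊤) (S : Sylow p G) (hS : (S : Subgroup G) ≠ ⊥) (hN : ∀ g ∈ Subgroup.normalizer (((S : Subgroup G) : Subgroup G) : Set G), (orderOf g).Coprime p → g ∈ Subgroup.centralizer ((S : Subgroup G) : Set G)) : ∃ N : Subgroup G, N.Normal ∧ N.index = p := by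
  haveI hbn : ((⊥ : Subgroup G).subgroupOf ⊤).Normal := by
    rw [Subgroup.bot_subgroupOf]; infer_instance
  let ψ : (↥(⊤ : Subgroup G) ⧸ (⊥ : Subgroup G).subgroupOf ⊤) →* G :=
    QuotientGroup.lift ((⊥ : Subgroup G).subgroupOf ⊤) (⊤ : Subgroup G).subtype (fun k hk => by
      rw [Subgroup.mem_subgroupOf, Subgroup.mem_bot] at hk
      rw [MonoidHom.mem_ker]; exact hk)
  have hψi : Function.Injective ψ := by
    rw [injective_iff_map_eq_one]
    intro y hy
    induction y using QuotientGroup.induction_on with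
    | H k =>
      rw [QuotientGroup.lift_mk] at hy
      rw [QuotientGroup.eq_one_iff, Subgroup.mem_subgroupOf, Subgroup.mem_bot]
      exact hy
  have hψs : Function.Surjective ψ := fun g => ⟨QuotientGroup.mk ⟨g, trivial⟩, rfl⟩
  have hGood : Good p (S : Subgroup G) := ⟨S.2, S.not_dvd_index, hS, hN⟩
  have hG := good_comap ψ hψi (S : Subgroup G) (fun g _ => hψs g) hGood
  have key := main W hW hctl _ ⊤ ⊥ rfl ⟨_, hG⟩
  obtain ⟨M, hMn, hMi⟩ := key
  refine ⟨M.map ψ, hMn.map ψ hψs, ?_⟩
  rw [Subgroup.index_map_of_bijective ⟨hψi, hψs⟩, hMi]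

end Cfsg.Agent.S1971
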