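import Mathlib
import Cfsg.Statements.S1960
import Cfsg.Agent.Lib.Helper1.FamilyTransfer

set_option autoImplicit false
open Cfsg

namespace Cfsg.Agent.S1960

open Cfsg.Agent.Lib.Helper1 Cfsg.Agent.Lib.Helper29
open scoped commutatorElement

theorem result {G : Type*} [Group G] [Finite G] {p : ℕ} [Fact p.Prime] (S : Sylow p G) (𝓦 : Set (Subgroup G → Subgroup G)) (h𝓦 : ∀ W ∈ 𝓦, Cfsg.IsConjugacyFunctor p W) (hloc : ∀ T : Subgroup G, T ≤ (S : Subgroup G) → T ≠ ⊥ → ¬ p ∣ ((S : Subgroup G) ⊓ Subgroup.normalizer ((T : Subgroup G) : Set G)).relIndex (Subgroup.normalizer ((T : Subgroup G) : Set G)) → Cfsg.FamilyControlsTransferIn p 𝓦 (Subgroup.normalizer ((T : Subgroup G) : Set G))) : Cfsg.FamilyControlsTransferIn p 𝓦 ⊤ := by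
  refine ⟨S, le_top, S.isPGroup', ?_, ?_⟩
  · rw [Subgroup.relIndex_top_right]; exact S.not_dvd_index
  set F : Subgroup G := ⨆ W ∈ 𝓦, (S : Subgroup G) ⊓
    ⁅(⊤ : Subgroup G) ⊓ Subgroup.normalizer ((W (S : Subgroup G) : Subgroup G) : Set G),
      (⊤ : Subgroup G) ⊓ Subgroup.normalizer ((W (S : Subgroup G) : Subgroup G) : Set G)⁆ with hFdef
  have hF : ∀ W ∈ 𝓦, (S : Subgroup G) ⊓
      ⁅Subgroup.normalizer ((W (S : Subgroup G) : Subgroup G) : Set G),
        Subgroup.normalizer ((W (S : Subgroup G) : Subgroup G) : Set G)⁆ ≤ F := by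
    intro W hW
    have h1 : (S : Subgroup G) ⊓
      ⁅(⊤ : Subgroup G) ⊓ Subgroup.normalizer ((W (S : Subgroup G) : Subgroup G) : Set G),
        (⊤ : Subgroup G) ⊓ Subgroup.normalizer ((W (S : Subgroup G) : Subgroup G) : Set G)⁆ ≤ F :=
      le_iSup₂ (f := fun W (_ : W ∈ 𝓦) => (S : Subgroup G) ⊓
        ⁅(⊤ : Subgroup G) ⊓ Subgroup.normalizer ((W (S : Subgroup G) : Subgroup G) : Set G),
          (⊤ : Subgroup G) ⊓ Subgroup.normalizer ((W (S : Subgroup G) : Subgroup G) : Set G)⁆) W hW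
    rw [top_inf_eq] at h1
    exact h1
  apply le_antisymm
  · have hSt : ∀ T ∈ sylFamily p (S : Subgroup G), T ≠ ⊥ →
        0 ≤ Nat.card (nS (S : Subgroup G) T) →
        nS (S : Subgroup G) T ⊓
          ⁅Subgroup.normalizer (T : Set G), Subgroup.normalizer (T : Set G)⁆ ≤ F :=
      fun T hT hTne _ => family_wp_transfer S 𝓦 h𝓦 hloc F hF _ T hT hTne rfl
    have hfoc : (S : Subgroup G) ⊓ ⁅(⊤ : Subgroup G), ⊤⁆ = (S : Subgroup G).focalSubgroup := by
      rw [inf_comm]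
      exact Subgroup.commutator_inf_eq_focalSubgroup S
    rw [hfoc, Subgroup.focalSubgroup_def, Subgroup.closure_le]
    rintro _ ⟨hgS, x, hxS, u, rfl⟩
    have huS : u * x * u⁻¹ ∈ (S : Subgroup G) := by
      have h1 : (⁅x, u⁆)⁻¹ * x ∈ (S : Subgroup G) := mul_mem (inv_mem hgS) hxS
      have : (⁅x, u⁆)⁻¹ * x = u * x * u⁻¹ := by rw [commutatorElement_def]; group
      rwa [this] at h1
    set T := Subgroup.zpowers x with hT
    have hTS : T ≤ (S : Subgroup G) := by
      rw [hT, Subgroup.zpowers_le]; exact hxS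
    have hTg : cj u⁻¹⁻¹ T ≤ (S : Subgroup G) := by
      rw [inv_inv, hT]
      change (Subgroup.zpowers x).map (MulAut.conj u).toMonoidHom ≤ _
      rw [MonoidHom.map_zpowers, Subgroup.zpowers_le]
      exact huS
    have hch := alperin_goldschmidt_chain S (sylFamily p (S : Subgroup G)) (fun U hU => hU.1)
      (sylFamily_criterion S) _ T hTS rfl u⁻¹ hTg
    have := chain_increments_mem (sylFamily p (S : Subgroup G)) (S : Subgroup G) F 0
      (fun U hU => hU.1) hSt _ _ hch (Nat.zero_le _) x (Subgroup.mem_zpowers x)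
    have e : x * (u⁻¹⁻¹ * x * u⁻¹)⁻¹ = ⁅x, u⁆ := by rw [commutatorElement_def]; group
    rw [e] at this
    exact this
  · apply iSup₂_le
    intro W _
    exact inf_le_inf_left _ (Subgroup.commutator_mono inf_le_left inf_le_left)

end Cfsg.Agent.S1960
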