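import Mathlib
import Cfsg.Statements.S1975

set_option autoImplicit false
open Cfsg

namespace Cfsg.Agent.S1975

lemma upper_anti {P : Type*} [Group P] {Q Q' : Subgroup P} (h : Q ≤ Q') :
    Cfsg.kUpperStarFamily Q' ⊆ Cfsg.kUpperStarFamily Q := by
  intro B hB
  exact ⟨hB.1, (Subgroup.commutator_mono le_rfl h).trans hB.2⟩

lemma lower_anti {P : Type*} [Group P] {Q Q' : Subgroup P} (h : Q ≤ Q') :
    Cfsg.kLowerStarFamily Q' ⊆ Cfsg.kLowerStarFamily Q := by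
  intro B hB
  refine ⟨hB.1, h.trans hB.2.1, fun A hA hAQ => hB.2.2 A hA (hAQ.trans h)⟩

lemma step_mono {P : Type*} [Group P] {Q Q' : Subgroup P} (h : Q ≤ Q') :
    sSup (Cfsg.kUpperStarFamily (sSup (Cfsg.kLowerStarFamily Q))) ≤
      sSup (Cfsg.kUpperStarFamily (sSup (Cfsg.kLowerStarFamily Q'))) :=
  sSup_le_sSup (upper_anti (sSup_le_sSup (lower_anti h)))

lemma odd_anti {P : Type*} [Group P] (n : ℕ) : Cfsg.kSeqOdd P (n + 1) ≤ Cfsg.kSeqOdd P n := by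
  induction n with
  | zero => simp [Cfsg.kSeqOdd]
  | succ k ih =>
    rw [Cfsg.kSeqOdd, Cfsg.kSeqOdd]
    exact step_mono ih

theorem result {P : Type*} [Group P] [Finite P] {p : ℕ} [Fact p.Prime] (hP : IsPGroup p P) (n : ℕ) : Cfsg.kSeqOdd P (n + 1) ≤ Cfsg.kSeqOdd P n ∧ Cfsg.kSeqEven P n ≤ Cfsg.kSeqEven P (n + 1) := by
  refine ⟨odd_anti n, ?_⟩
  unfold Cfsg.kSeqEven
  exact sSup_le_sSup (lower_anti (odd_anti n))

end Cfsg.Agent.S1975
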