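import Cfsg.Statements.S1980

set_option autoImplicit false
open Cfsg

namespace Cfsg.Agent.S1980

theorem abelian_le_centralizer {P : Type*} [Group P] (A : Subgroup P) (hA : IsMulCommutative ↥A) :
    A ≤ Subgroup.centralizer (A : Set P) := by
  intro a ha
  rw [Subgroup.mem_centralizer_iff]
  intro b hb
  have := hA.is_comm.comm (⟨b, hb⟩ : A) ⟨a, ha⟩
  exact congrArg Subtype.val this

theorem abelian_mem_classTwo {P : Type*} [Group P] (A : Subgroup P) (hA : IsMulCommutative ↥A) :
    A ∈ Cfsg.classTwoSubgroups P := by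
  show ⁅A, A⁆ ≤ Subgroup.centralizer (A : Set P)
  have h : ⁅A, A⁆ = ⊥ := by
    rw [Subgroup.commutator_eq_bot_iff_le_centralizer]
    exact abelian_le_centralizer A hA
  rw [h]; exact bot_le

theorem abelian_normal_mem_lower {P : Type*} [Group P] (A : Subgroup P) [A.Normal]
    (hA : IsMulCommutative ↥A) (Q : Subgroup P) : A ∈ Cfsg.kLowerStarFamily Q := by
  refine ⟨abelian_mem_classTwo A hA, ?_, ?_⟩
  · rw [Subgroup.normalizer_eq_top]; exact le_top
  · intro A' _ _ _ _ _
    rw [inf_eq_left.mpr (abelian_le_centralizer A hA)]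
    exact Subgroup.commutator_le_left A A'

theorem abelian_normal_mem_upper {P : Type*} [Group P] (A : Subgroup P) [A.Normal]
    (hA : IsMulCommutative ↥A) (Q : Subgroup P) : A ∈ Cfsg.kUpperStarFamily Q := by
  refine ⟨abelian_mem_classTwo A hA, ?_⟩
  rw [inf_eq_left.mpr (abelian_le_centralizer A hA)]
  exact Subgroup.commutator_le_left A Q

theorem result {P : Type*} [Group P] [Finite P] {p : ℕ} [Fact p.Prime] (hP : IsPGroup p P) (A : Subgroup P) [A.Normal] (hA : IsMulCommutative ↥A) : A ∈ Cfsg.classTwoSubgroups P ∧ ∀ n : ℕ, A ∈ Cfsg.kLowerStarFamily (Cfsg.kSeqOdd P n) ∧ A ∈ Cfsg.kUpperStarFamily (Cfsg.kSeqEven P n) :=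
  ⟨abelian_mem_classTwo A hA, fun _ => ⟨abelian_normal_mem_lower A hA _, abelian_normal_mem_upper A hA _⟩⟩

end Cfsg.Agent.S1980
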