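import Cfsg.Statements.S0015
import Cfsg.Agent.Lib.Helper2.NilpotentBasic

set_option autoImplicit false
open Cfsg

namespace Cfsg.Agent.S0015

set_option maxHeartbeats 400000 in
/-- In a finite nilpotent group, an abelian normal subgroup that is maximal among abelian normal subgroups equals its own centralizer. -/
theorem result {G : Type*} [Group G] [Finite G] [Group.IsNilpotent G]
    (N : Subgroup G) [N.Normal] [IsMulCommutative N]
    (hmax : ∀ M : Subgroup G, M.Normal → IsMulCommutative M → N ≤ M → M = N) :
    Subgroup.centralizer (N : Set G) = N := by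
  have hNC : N ≤ Subgroup.centralizer (N : Set G) :=
    Subgroup.le_centralizer_iff_isMulCommutative.mpr inferInstance
  by_contra hne
  set C := Subgroup.centralizer (N : Set G) with hC
  have hCn : C.Normal := inferInstance
  -- the image of C in G ⧸ N is a nontrivial normal subgroup
  let π := QuotientGroup.mk' N
  have hπ : Function.Surjective π := QuotientGroup.mk'_surjective N
  have hCbar : (C.map π).Normal := Subgroup.Normal.map hCn π hπ
  have hCbar_ne : C.map π ≠ ⊥ := by
    intro h
    apply hne
    apply le_antisymm _ hNC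
    intro c hc
    have : π c ∈ C.map π := Subgroup.mem_map_of_mem π hc
    rw [h, Subgroup.mem_bot] at this
    exact (QuotientGroup.eq_one_iff c).mp this
  have hmeet := Cfsg.Agent.Lib.Helper2.normal_inf_center_ne_bot (C.map π) hCbar_ne
  obtain ⟨y, hy, hy1⟩ := (Subgroup.bot_or_exists_ne_one _).resolve_left hmeet
  obtain ⟨hyC, hyZ⟩ := Subgroup.mem_inf.mp hy
  obtain ⟨x, hxC, hxy⟩ := Subgroup.mem_map.mp hyC
  have hxN : x ∉ N := by
    intro hx
    apply hy1
    rw [← hxy]
    exact (QuotientGroup.eq_one_iff x).mpr hx
  let M : Subgroup G := (Subgroup.zpowers y).comap π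
  have hZn : (Subgroup.zpowers y).Normal := by
    refine ⟨fun n hn g => ?_⟩
    have hnZ : n ∈ Subgroup.center (G ⧸ N) := by
      obtain ⟨k, rfl⟩ := Subgroup.mem_zpowers_iff.mp hn
      exact Subgroup.zpow_mem _ hyZ k
    have : g * n * g⁻¹ = n := by
      rw [Subgroup.mem_center_iff] at hnZ
      rw [hnZ g, mul_inv_cancel_right]
    rwa [this]
  have hMn : M.Normal := inferInstance
  have hMeq : M = Subgroup.zpowers x ⊔ N := by
    change (Subgroup.zpowers y).comap π = _
    rw [← hxy, ← MonoidHom.map_zpowers, Subgroup.comap_map_eq, QuotientGroup.ker_mk']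
  have hzx : Subgroup.zpowers x ≤ C := by
    rw [Subgroup.zpowers_le]; exact hxC
  have hzz : Subgroup.zpowers x ≤ Subgroup.centralizer (Subgroup.zpowers x : Set G) :=
    Subgroup.le_centralizer_iff_isMulCommutative.mpr inferInstance
  have hMc : IsMulCommutative M := by
    rw [hMeq]
    apply Subgroup.le_centralizer_iff_isMulCommutative.mp
    apply sup_le
    · rw [Subgroup.le_centralizer_iff]
      apply sup_le hzz
      rw [Subgroup.le_centralizer_iff]
      exact hzx
    · rw [Subgroup.le_centralizer_iff]
      exact sup_le hzx hNC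
  have hNM : N ≤ M := by rw [hMeq]; exact le_sup_right
  have hMN := hmax M hMn hMc hNM
  apply hxN
  rw [← hMN, hMeq]
  exact Subgroup.mem_sup_left (Subgroup.mem_zpowers x)

end Cfsg.Agent.S0015
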