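import Cfsg.Statements.S1978
import Cfsg.Agent.S1980
import Cfsg.Agent.S0015

set_option autoImplicit false
open Cfsg

namespace Cfsg.Agent.S1978

/-- A finite nilpotent group has a self-centralizing abelian normal subgroup. -/
theorem exists_self_centralizing {G : Type*} [Group G] [Finite G] [Group.IsNilpotent G] :
    ∃ N : Subgroup G, N.Normal ∧ IsMulCommutative N ∧ Subgroup.centralizer (N : Set G) = N := by
  let S : Set (Subgroup G) := {M | M.Normal ∧ IsMulCommutative M}
  have hne : S.Nonempty := ⟨⊥, inferInstance, inferInstance⟩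
  obtain ⟨N, hNS, hmin⟩ := (wellFounded_gt (α := Subgroup G)).has_min S hne
  obtain ⟨hNn, hNc⟩ := hNS
  refine ⟨N, hNn, hNc, ?_⟩
  have := hNn
  have := hNc
  apply Cfsg.Agent.S0015.result N
  intro M hMn hMc hNM
  by_contra hne'
  exact hmin M ⟨hMn, hMc⟩ (lt_of_le_of_ne hNM (Ne.symm hne'))

theorem result {P : Type*} [Group P] [Finite P] {p : ℕ} [Fact p.Prime] (hP : IsPGroup p P) : Subgroup.centralizer (Cfsg.kInfLower P : Set P) ≤ Cfsg.kInfLower P ∧ Subgroup.center P ≤ Subgroup.centralizer (Cfsg.kInfLower P : Set P) ∧ Subgroup.centralizer (Cfsg.kInfUpper P : Set P) ≤ Cfsg.kInfUpper P ∧ Subgroup.center P ≤ Subgroup.centralizer (Cfsg.kInfUpper P : Set P) := by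
  have : Group.IsNilpotent P := hP.isNilpotent
  obtain ⟨N, hNn, hNc, hCN⟩ := exists_self_centralizing (G := P)
  have := hNn
  have hNL : N ≤ Cfsg.kInfLower P := by
    have h0 : N ≤ Cfsg.kSeqEven P 0 := le_sSup (Cfsg.Agent.S1980.abelian_normal_mem_lower N hNc _)
    exact h0.trans (le_iSup (Cfsg.kSeqEven P) 0)
  have hNU : N ≤ Cfsg.kInfUpper P := by
    apply le_iInf
    intro n
    cases n with
    | zero => exact le_top
    | succ n =>
      show N ≤ sSup (Cfsg.kUpperStarFamily (sSup (Cfsg.kLowerStarFamily (Cfsg.kSeqOdd P n))))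
      exact le_sSup (Cfsg.Agent.S1980.abelian_normal_mem_upper N hNc _)
  refine ⟨?_, Subgroup.center_le_centralizer _, ?_, Subgroup.center_le_centralizer _⟩
  · calc Subgroup.centralizer (Cfsg.kInfLower P : Set P)
        ≤ Subgroup.centralizer (N : Set P) := Subgroup.centralizer_le hNL
      _ = N := hCN
      _ ≤ Cfsg.kInfLower P := hNL
  · calc Subgroup.centralizer (Cfsg.kInfUpper P : Set P)
        ≤ Subgroup.centralizer (N : Set P) := Subgroup.centralizer_le hNU
      _ = N := hCN
      _ ≤ Cfsg.kInfUpper P := hNU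

end Cfsg.Agent.S1978
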