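import Cfsg.Statements.S0094
import Cfsg.Agent.Lib.Helper11.PGroupFrattini
import Mathlib

set_option autoImplicit false
open Cfsg
open scoped commutatorElement

namespace Cfsg.Agent.S0094

/-- If `⁅x, y⁆` is central then `x ^ n * y = ⁅x, y⁆ ^ n * y * x ^ n`. -/
theorem pow_mul_eq_of_commutator_central {P : Type*} [Group P] (x y : P)
    (hc : ⁅x, y⁆ ∈ Subgroup.center P) (n : ℕ) : x ^ n * y = ⁅x, y⁆ ^ n * y * x ^ n := by
  have hcomm : ∀ g : P, g * ⁅x, y⁆ = ⁅x, y⁆ * g := fun g => (Subgroup.mem_center_iff.mp hc g)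
  have h1 : x * y = ⁅x, y⁆ * y * x := by
    rw [commutatorElement_def]; group
  induction n with
  | zero => simp
  | succ n ih =>
    calc x ^ (n + 1) * y = x * (x ^ n * y) := by rw [pow_succ']; group
      _ = x * (⁅x, y⁆ ^ n * y * x ^ n) := by rw [ih]
      _ = (x * ⁅x, y⁆ ^ n) * y * x ^ n := by group
      _ = (⁅x, y⁆ ^ n * x) * y * x ^ n := by
          have : x * ⁅x, y⁆ ^ n = ⁅x, y⁆ ^ n * x := by
            have hcn : ⁅x, y⁆ ^ n ∈ Subgroup.center P := Subgroup.pow_mem _ hc n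
            exact Subgroup.mem_center_iff.mp hcn x
          rw [this]
      _ = ⁅x, y⁆ ^ n * (x * y) * x ^ n := by group
      _ = ⁅x, y⁆ ^ n * (⁅x, y⁆ * y * x) * x ^ n := by rw [← h1]
      _ = ⁅x, y⁆ ^ (n + 1) * y * x ^ (n + 1) := by rw [pow_succ, pow_succ']; group

/-- In a special p-group every central element has order dividing p. -/
theorem result {P : Type*} [Group P] [Finite P] {p : ℕ} [Fact p.Prime] (h : Cfsg.IsSpecial p P) (z : P) (hz : z ∈ Subgroup.center P) : z ^ p = 1 := by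
  obtain ⟨hP, hfr, hcomm⟩ := h
  -- every commutator has p-th power one
  have hcp : ∀ x y : P, ⁅x, y⁆ ^ p = 1 := by
    intro x y
    have hc : ⁅x, y⁆ ∈ Subgroup.center P := by
      rw [← hcomm]
      exact Subgroup.commutator_mem_commutator (Subgroup.mem_top x) (Subgroup.mem_top y)
    have hxp : x ^ p ∈ Subgroup.center P := by
      rw [← hfr]; exact Cfsg.Agent.Lib.Helper11.pow_mem_frattini_of_isPGroup hP x
    have h1 := pow_mul_eq_of_commutator_central x y hc p
    have h2 : x ^ p * y = y * x ^ p := (Subgroup.mem_center_iff.mp hxp y).symm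
    rw [h2] at h1
    -- y * x^p = c^p * y * x^p
    have h3 : ⁅x, y⁆ ^ p * (y * x ^ p) = 1 * (y * x ^ p) := by
      rw [one_mul, ← mul_assoc]; exact h1.symm
    exact mul_right_cancel h3
  have hmem : z ∈ commutator P := by rw [hcomm]; exact hz
  rw [commutator_def, Subgroup.commutator_def] at hmem
  have key : z ∈ Subgroup.center P ∧ z ^ p = 1 := by
    refine Subgroup.closure_induction (p := fun g _ => g ∈ Subgroup.center P ∧ g ^ p = 1)
      ?_ ?_ ?_ ?_ hmem
    · rintro g ⟨x, -, y, -, rfl⟩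
      refine ⟨?_, hcp x y⟩
      rw [← hcomm]
      exact Subgroup.commutator_mem_commutator (Subgroup.mem_top x) (Subgroup.mem_top y)
    · exact ⟨Subgroup.one_mem _, one_pow _⟩
    · rintro a b - - ⟨ha, hap⟩ ⟨hb, hbp⟩
      refine ⟨Subgroup.mul_mem _ ha hb, ?_⟩
      have hab : Commute a b := (Subgroup.mem_center_iff.mp ha b).symm
      rw [hab.mul_pow, hap, hbp, one_mul]
    · rintro a - ⟨ha, hap⟩
      exact ⟨Subgroup.inv_mem _ ha, by rw [inv_pow, hap, inv_one]⟩
  exact key.2

end Cfsg.Agent.S0094
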