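import Cfsg.Statements.S0096
import Cfsg.Agent.S0094
import Mathlib

set_option autoImplicit false
open Cfsg
open scoped commutatorElement

namespace Cfsg.Agent.S0096

theorem mul_pow_aux {P : Type*} [Group P] (x y c : P)
    (hcomm : ∀ (k : ℕ) (g : P), g * c ^ k = c ^ k * g)
    (h1 : ∀ n : ℕ, y ^ n * x = c ^ n * x * y ^ n) (n : ℕ) :
    (x * y) ^ n = x ^ n * y ^ n * c ^ (∑ i ∈ Finset.range n, i) := by
  induction n with
  | zero => simp
  | succ n ih =>
    calc (x * y) ^ (n + 1) = (x * y) ^ n * (x * y) := pow_succ _ _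
      _ = x ^ n * y ^ n * c ^ (∑ i ∈ Finset.range n, i) * (x * y) := by rw [ih]
      _ = x ^ n * (y ^ n * x) * y * c ^ (∑ i ∈ Finset.range n, i) := by
          rw [mul_assoc (x ^ n * y ^ n), ← hcomm _ (x * y)]; simp only [mul_assoc]
      _ = x ^ n * (c ^ n * x * y ^ n) * y * c ^ (∑ i ∈ Finset.range n, i) := by rw [h1]
      _ = (x ^ n * c ^ n) * x * y ^ n * y * c ^ (∑ i ∈ Finset.range n, i) := by
          simp only [mul_assoc]
      _ = (c ^ n * x ^ n) * x * y ^ n * y * c ^ (∑ i ∈ Finset.range n, i) := by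
          rw [hcomm n (x ^ n)]
      _ = c ^ n * (x ^ (n + 1) * y ^ (n + 1) * c ^ (∑ i ∈ Finset.range n, i)) := by
          rw [pow_succ, pow_succ]; simp only [mul_assoc]
      _ = x ^ (n + 1) * y ^ (n + 1) * c ^ (∑ i ∈ Finset.range n, i) * c ^ n := by
          rw [← hcomm n]
      _ = x ^ (n + 1) * y ^ (n + 1) * c ^ (∑ i ∈ Finset.range (n + 1), i) := by
          rw [mul_assoc _ (c ^ _), ← pow_add, Finset.sum_range_succ]

/-- In a group where `⁅y, x⁆` is central, `(x * y) ^ n = x ^ n * y ^ n * ⁅y, x⁆ ^ (∑ i < n, i)`. -/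
theorem mul_pow_of_commutator_central {P : Type*} [Group P] (x y : P)
    (hc : ⁅y, x⁆ ∈ Subgroup.center P) (n : ℕ) :
    (x * y) ^ n = x ^ n * y ^ n * ⁅y, x⁆ ^ (∑ i ∈ Finset.range n, i) := by
  have hcomm : ∀ (k : ℕ) (g : P), g * ⁅y, x⁆ ^ k = ⁅y, x⁆ ^ k * g := fun k g =>
    (Subgroup.mem_center_iff.mp (Subgroup.pow_mem _ hc k) g)
  exact mul_pow_aux x y ⁅y, x⁆ hcomm
    (fun n => Cfsg.Agent.S0094.pow_mul_eq_of_commutator_central y x hc n) n

/-- For an odd prime `p`, `p` divides `0 + 1 + ⋯ + (p - 1)`. -/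
theorem dvd_sum_range_of_odd_prime {p : ℕ} (hp : p.Prime) (hp2 : p ≠ 2) :
    p ∣ ∑ i ∈ Finset.range p, i := by
  have h1 : (∑ i ∈ Finset.range p, i) * 2 = p * (p - 1) := Finset.sum_range_id_mul_two p
  have h2 : p ∣ (∑ i ∈ Finset.range p, i) * 2 := by rw [h1]; exact dvd_mul_right _ _
  have hcop : Nat.Coprime p 2 := (Nat.coprime_primes hp Nat.prime_two).mpr hp2
  exact hcop.dvd_of_dvd_mul_right h2

/-- In a group of class at most two and odd prime `p`, the product of two elements of order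
dividing `p` has order dividing `p`. -/
theorem mul_pow_eq_one {P : Type*} [Group P] {p : ℕ} (hp : p.Prime) (hp2 : p ≠ 2)
    (h2 : ⁅commutator P, (⊤ : Subgroup P)⁆ = ⊥) (x y : P) (hx : x ^ p = 1) (hy : y ^ p = 1) :
    (x * y) ^ p = 1 := by
  have hcen : ∀ a b : P, ⁅a, b⁆ ∈ Subgroup.center P := by
    intro a b
    rw [Subgroup.mem_center_iff]
    intro g
    have hab : ⁅a, b⁆ ∈ commutator P :=
      Subgroup.commutator_mem_commutator (Subgroup.mem_top a) (Subgroup.mem_top b)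
    have : ⁅⁅a, b⁆, g⁆ ∈ ⁅commutator P, (⊤ : Subgroup P)⁆ :=
      Subgroup.commutator_mem_commutator hab (Subgroup.mem_top g)
    rw [h2, Subgroup.mem_bot] at this
    exact (commutatorElement_eq_one_iff_mul_comm.mp this).symm
  have hc := hcen y x
  -- ⁅y, x⁆ ^ p = 1
  have hcp : ⁅y, x⁆ ^ p = 1 := by
    have h1 := Cfsg.Agent.S0094.pow_mul_eq_of_commutator_central y x hc p
    rw [hy, one_mul, mul_one] at h1
    have h3 : ⁅y, x⁆ ^ p * x = 1 * x := by rw [one_mul]; exact h1.symm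
    exact mul_right_cancel h3
  rw [mul_pow_of_commutator_central x y hc p, hx, hy, one_mul, one_mul]
  obtain ⟨k, hk⟩ := dvd_sum_range_of_odd_prime hp hp2
  rw [hk, pow_mul, hcp, one_pow]

/-- For odd p, in a p-group of class at most two the elements of order dividing p generate a subgroup of exponent dividing p. -/
theorem result {P : Type*} [Group P] [Finite P] {p : ℕ} [Fact p.Prime] (hp : p ≠ 2) (hP : IsPGroup p P) (h2 : ⁅commutator P, (⊤ : Subgroup P)⁆ = ⊥) (g : P) (hg : g ∈ Subgroup.closure {x : P | x ^ p = 1}) : g ^ p = 1 := by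
  refine Subgroup.closure_induction (p := fun g _ => g ^ p = 1) ?_ ?_ ?_ ?_ hg
  · intro x hx; exact hx
  · exact one_pow _
  · intro a b _ _ ha hb
    exact mul_pow_eq_one (Fact.out : p.Prime) hp h2 a b ha hb
  · intro a _ ha
    rw [inv_pow, ha, inv_one]

end Cfsg.Agent.S0096
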