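import Cfsg.Statements.S0086
import Mathlib

set_option autoImplicit false
open Cfsg

namespace Cfsg.Agent.S0086

/-- A normal complement to a Sylow p-subgroup is exactly the set of elements of order prime to p. -/
theorem result {G : Type*} [Group G] [Finite G] {p : ℕ} [Fact p.Prime] (P : Sylow p G) (N : Subgroup G) [N.Normal] (hN : N.IsComplement' (P : Subgroup G)) (x : G) : x ∈ N ↔ Nat.Coprime (orderOf x) p := by
  have hp : p.Prime := Fact.out
  have hidx : N.index = Nat.card P := hN.symm.index_eq_card
  have hNcard : Nat.card N = (P : Subgroup G).index := hN.index_eq_card.symm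
  constructor
  · intro hx
    have h1 : orderOf x ∣ Nat.card N := by
      have := orderOf_dvd_natCard (⟨x, hx⟩ : N)
      rwa [Subgroup.orderOf_mk] at this
    rw [hNcard] at h1
    have h2 : ¬ p ∣ (P : Subgroup G).index := P.not_dvd_index
    have h3 : Nat.Coprime (P : Subgroup G).index p := by
      rw [Nat.coprime_comm]; exact (Nat.Prime.coprime_iff_not_dvd hp).2 h2
    exact Nat.Coprime.coprime_dvd_left h1 h3
  · intro hx
    have hq : IsPGroup p (G ⧸ N) := by
      have : Nat.card (G ⧸ N) = Nat.card P := by rw [← hidx]; rfl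
      obtain ⟨n, hn⟩ := IsPGroup.iff_card.mp P.2
      exact IsPGroup.of_card (n := n) (by rw [this, hn])
    obtain ⟨k, hk⟩ := hq (QuotientGroup.mk x : G ⧸ N)
    have h1 : orderOf (QuotientGroup.mk x : G ⧸ N) ∣ p ^ k := orderOf_dvd_of_pow_eq_one hk
    have h2 : orderOf (QuotientGroup.mk x : G ⧸ N) ∣ orderOf x :=
      orderOf_dvd_of_pow_eq_one (by rw [← QuotientGroup.mk_pow, pow_orderOf_eq_one]; rfl)
    have h3 : orderOf (QuotientGroup.mk x : G ⧸ N) = 1 :=
      Nat.eq_one_of_dvd_coprimes (Nat.Coprime.pow_right k hx) h2 h1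
    rw [orderOf_eq_one_iff] at h3
    exact (QuotientGroup.eq_one_iff x).1 h3

end Cfsg.Agent.S0086
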