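import Cfsg.Statements.S0072
import Cfsg.Agent.Lib.Helper11.FrobeniusLocal
import Cfsg.Agent.S0086
import Mathlib

set_option autoImplicit false
open Cfsg

namespace Cfsg.Agent.S0072

open Subgroup Cfsg.Agent.Lib.Helper11

/-- Subgroups of groups with a normal `p`-complement have a normal `p`-complement. -/
theorem hasNormalPComplement_subgroup {G : Type*} [Group G] [Finite G] (p : ℕ) [Fact p.Prime]
    (h : Cfsg.HasNormalPComplement p G) (H : Subgroup G) : Cfsg.HasNormalPComplement p H := by
  obtain ⟨P, K, hKn, hK⟩ := h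
  have hp : p.Prime := Fact.out
  obtain ⟨PH⟩ : Nonempty (Sylow p H) := inferInstance
  refine ⟨PH, K.subgroupOf H, hKn.subgroupOf H, ?_⟩
  have h1 : ¬ p ∣ Nat.card (K.subgroupOf H) := by
    intro hd
    have h2 : Nat.card (K.subgroupOf H) ∣ Nat.card K := by
      have : Nat.card ((K.subgroupOf H).map H.subtype) = Nat.card (K.subgroupOf H) :=
        Subgroup.card_map_of_injective H.subtype_injective
      rw [← this, Subgroup.subgroupOf_map_subtype]
      exact Subgroup.card_dvd_of_le inf_le_left
    have h3 : p ∣ Nat.card K := hd.trans h2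
    rw [← hK.index_eq_card] at h3
    exact P.not_dvd_index h3
  obtain ⟨a, ha⟩ := IsPGroup.iff_card.mp P.2
  have h4 : (K.subgroupOf H).index ∣ p ^ a := by
    have h5 : K.index = p ^ a := by rw [← ha]; exact hK.symm.index_eq_card
    rw [← h5]
    exact Subgroup.relIndex_dvd_index_of_normal K H
  obtain ⟨b, -, hb⟩ := (Nat.dvd_prime_pow hp).mp h4
  exact isComplement'_sylow_of_coprime_of_index PH _ h1 b hb

/-- A finite group has a normal p-complement if and only if every p-local subgroup (normalizer of a nontrivial p-subgroup) has one. -/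
theorem result {G : Type*} [Group G] [Finite G] (p : ℕ) [Fact p.Prime] : Cfsg.HasNormalPComplement p G ↔ ∀ Q : Subgroup G, IsPGroup p Q → Q ≠ ⊥ → Cfsg.HasNormalPComplement p (Subgroup.normalizer (Q : Set G)) := by
  constructor
  · intro h Q _ _
    exact hasNormalPComplement_subgroup p h _
  · intro h
    have hc : LocalPNilpotent p G := by
      intro D hD g hg hgo
      by_cases hDbot : D = ⊥
      · rw [hDbot, mem_centralizer_iff]
        intro d hd
        have : d = 1 := by simpa using hd
        rw [this, one_mul, mul_one]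
      obtain ⟨PN, K, hKn, hK⟩ := h D hD hDbot
      have hKmem : ∀ x : normalizer (D : Set G), x ∈ K ↔ Nat.Coprime (orderOf x) p :=
        fun x => Cfsg.Agent.S0086.result PN K hK x
      have hgK : (⟨g, hg⟩ : normalizer (D : Set G)) ∈ K := by
        rw [hKmem, ← Subgroup.orderOf_coe]; exact hgo
      have hDn : (D.subgroupOf (normalizer (D : Set G))).Normal := Subgroup.normal_in_normalizer
      rw [mem_centralizer_iff]
      intro d hd
      set g' : normalizer (D : Set G) := ⟨g, hg⟩ with hg'
      set d' : normalizer (D : Set G) := ⟨d, le_normalizer hd⟩ with hd'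
      have hd'D : d' ∈ D.subgroupOf (normalizer (D : Set G)) := mem_subgroupOf.mpr hd
      have h1 : g' * d' * g'⁻¹ * d'⁻¹ ∈ D.subgroupOf (normalizer (D : Set G)) :=
        Subgroup.mul_mem _ (hDn.conj_mem _ hd'D g') (Subgroup.inv_mem _ hd'D)
      have h2 : g' * d' * g'⁻¹ * d'⁻¹ ∈ K := by
        have h3 : d' * g'⁻¹ * d'⁻¹ ∈ K := hKn.conj_mem _ (K.inv_mem hgK) d'
        have : g' * d' * g'⁻¹ * d'⁻¹ = g' * (d' * g'⁻¹ * d'⁻¹) := by group
        rw [this]; exact K.mul_mem hgK h3
      have h4 : g' * d' * g'⁻¹ * d'⁻¹ = 1 := by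
        have hcop := (hKmem _).mp h2
        have hDp : IsPGroup p (D.subgroupOf (normalizer (D : Set G))) := hD.comap_subtype
        obtain ⟨j, hj⟩ := hDp ⟨_, h1⟩
        have hj' : (g' * d' * g'⁻¹ * d'⁻¹) ^ p ^ j = 1 := by
          have := congrArg Subtype.val hj
          simpa using this
        have hdvd : orderOf (g' * d' * g'⁻¹ * d'⁻¹) ∣ p ^ j := orderOf_dvd_of_pow_eq_one hj'
        have h5 : orderOf (g' * d' * g'⁻¹ * d'⁻¹) = 1 :=
          Nat.eq_one_of_dvd_coprimes (Nat.Coprime.pow_right j hcop) dvd_rfl hdvd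
        exact orderOf_eq_one_iff.mp h5
      have h6 : g' * d' = d' * g' := by
        have : g' * d' = (g' * d' * g'⁻¹ * d'⁻¹) * (d' * g') := by group
        rw [this, h4, one_mul]
      have := congrArg Subtype.val h6
      exact this.symm
    obtain ⟨P⟩ : Nonempty (Sylow p G) := inferInstance
    obtain ⟨K, hKn, hK⟩ := exists_normal_complement_of_local hc P
    exact ⟨P, K, hKn, hK⟩

end Cfsg.Agent.S0072
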