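import Cfsg.Statements.S0116
import Cfsg.Agent.Lib.Helper11.AlperinTame

set_option autoImplicit false
open Cfsg

namespace Cfsg.Agent.S0116

open Subgroup Cfsg.Agent.Lib.Helper11
open scoped Pointwise

section

variable {G : Type*} [Group G] {p : ℕ}

/-- `P ⊓ Q` is a tame intersection. -/
def Tame (P Q : Sylow p G) : Prop :=
  ¬ p ∣ ((P : Subgroup G) ⊓ normalizer ((((P : Subgroup G) ⊓ (Q : Subgroup G)) : Subgroup G) : Set G)).relIndex
      (normalizer ((((P : Subgroup G) ⊓ (Q : Subgroup G)) : Subgroup G) : Set G)) ∧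
  ¬ p ∣ ((Q : Subgroup G) ⊓ normalizer ((((P : Subgroup G) ⊓ (Q : Subgroup G)) : Subgroup G) : Set G)).relIndex
      (normalizer ((((P : Subgroup G) ⊓ (Q : Subgroup G)) : Subgroup G) : Set G))

/-- The conjugate `x⁻¹ A x` of a set. -/
def cs (x : G) (A : Set G) : Set G := (fun a => x⁻¹ * a * x) '' A

theorem cs_one (A : Set G) : cs 1 A = A := by
  unfold cs
  simp

theorem cs_mul (x y : G) (A : Set G) : cs (x * y) A = cs y (cs x A) := by
  unfold cs
  rw [Set.image_image]
  congr 1
  funext a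
  group

theorem cs_mono (x : G) {A B : Set G} (h : A ⊆ B) : cs x A ⊆ cs x B := Set.image_mono h

theorem mem_cs {x : G} {A : Set G} {z : G} : z ∈ cs x A ↔ x * z * x⁻¹ ∈ A := by
  unfold cs
  constructor
  · rintro ⟨a, ha, rfl⟩
    have : x * (x⁻¹ * a * x) * x⁻¹ = a := by group
    rw [this]; exact ha
  · intro h
    exact ⟨x * z * x⁻¹, h, by group⟩

/-- A list of steps carrying `A` along tame intersections. -/
def IsChain (P : Sylow p G) : Set G → List (Sylow p G × G) → Prop
  | _, [] => True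
  | A, qx :: l => Tame P qx.1 ∧
      qx.2 ∈ normalizer ((((P : Subgroup G) ⊓ (qx.1 : Subgroup G)) : Subgroup G) : Set G) ∧
      A ⊆ ((((P : Subgroup G) ⊓ (qx.1 : Subgroup G)) : Subgroup G) : Set G) ∧ IsChain P (cs qx.2 A) l

/-- The product of the steps. -/
def lprod (l : List (Sylow p G × G)) : G := (l.map Prod.snd).prod

theorem lprod_nil : lprod ([] : List (Sylow p G × G)) = 1 := rfl

theorem lprod_cons (qx : Sylow p G × G) (l : List (Sylow p G × G)) :
    lprod (qx :: l) = qx.2 * lprod l := by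
  unfold lprod
  rw [List.map_cons, List.prod_cons]

theorem lprod_append (l₁ l₂ : List (Sylow p G × G)) :
    lprod (l₁ ++ l₂) = lprod l₁ * lprod l₂ := by
  unfold lprod
  rw [List.map_append, List.prod_append]

theorem IsChain.mono (P : Sylow p G) : ∀ (l : List (Sylow p G × G)) {A B : Set G}, A ⊆ B →
    IsChain P B l → IsChain P A l
  | [], _, _, _, _ => trivial
  | qx :: l, A, B, hAB, h => by
    obtain ⟨h1, h2, h3, h4⟩ := h
    exact ⟨h1, h2, hAB.trans h3, IsChain.mono P l (cs_mono qx.2 hAB) h4⟩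

theorem IsChain.append (P : Sylow p G) : ∀ (l₁ l₂ : List (Sylow p G × G)) {A : Set G},
    IsChain P A l₁ → IsChain P (cs (lprod l₁) A) l₂ → IsChain P A (l₁ ++ l₂)
  | [], l₂, A, _, h2 => by
    rw [lprod_nil, cs_one] at h2
    exact h2
  | qx :: l, l₂, A, h1, h2 => by
    obtain ⟨h11, h12, h13, h14⟩ := h1
    rw [lprod_cons, cs_mul] at h2
    exact ⟨h11, h12, h13, IsChain.append P l l₂ h14 h2⟩

theorem IsChain.single (P Q : Sylow p G) (x : G) (A : Set G) (hT : Tame P Q)
    (hx : x ∈ normalizer ((((P : Subgroup G) ⊓ (Q : Subgroup G)) : Subgroup G) : Set G))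
    (hA : A ⊆ ((((P : Subgroup G) ⊓ (Q : Subgroup G)) : Subgroup G) : Set G)) :
    IsChain P A [(Q, x)] := ⟨hT, hx, hA, trivial⟩

theorem lprod_single (Q : Sylow p G) (x : G) : lprod [(Q, x)] = x := by
  rw [lprod_cons, lprod_nil, mul_one]

theorem tame_self [Finite G] [Fact p.Prime] (P : Sylow p G) : Tame P P := by
  have hsyl : ¬ p ∣ ((P : Subgroup G) ⊓ normalizer ((P : Subgroup G) : Set G)).relIndex
      (normalizer ((P : Subgroup G) : Set G)) := by
    rw [inf_of_le_left le_normalizer]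
    intro hdvd
    apply P.not_dvd_index
    rw [← Subgroup.relIndex_mul_index (le_normalizer (H := (P : Subgroup G)))]
    exact hdvd.mul_right _
  unfold Tame
  rw [inf_idem]
  exact ⟨hsyl, hsyl⟩

/-- the image of a Sylow subgroup under conjugation -/
theorem coe_smul_sylow_eq_map (Q : Sylow p G) (g : G) :
    ((g • Q : Sylow p G) : Subgroup G) = (Q : Subgroup G).map (MulAut.conj g).toMonoidHom := by
  ext z
  rw [mem_smul_sylow_iff, Subgroup.mem_map]
  constructor
  · intro h
    exact ⟨g⁻¹ * z * g, h, by simp [MulAut.conj_apply]; group⟩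
  · rintro ⟨y, hy, rfl⟩
    have : g⁻¹ * ((MulAut.conj g).toMonoidHom y) * g = y := by
      simp [MulAut.conj_apply]; group
    rw [this]; exact hy

theorem card_conj_smul [Finite G] (H : Subgroup G) (g : G) :
    Nat.card (MulAut.conj g • H : Subgroup G) = Nat.card H :=
  (Nat.card_congr (Subgroup.equivSMul (MulAut.conj g) H).toEquiv).symm

/-- **Alperin's fusion theorem**, Sylow form: every Sylow `Q` is carried to `P` by a chain through
tame intersections. -/
theorem exists_chain_aux [Finite G] [Fact p.Prime] (P : Sylow p G) (k : ℕ) : ∀ Q : Sylow p G,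
    Nat.card (P : Subgroup G) - Nat.card ((P : Subgroup G) ⊓ Q : Subgroup G) = k →
    ∃ l : List (Sylow p G × G), IsChain P (((P : Subgroup G) ⊓ Q : Subgroup G) : Set G) l ∧
      (lprod l)⁻¹ • Q = P := by
  induction k using Nat.strong_induction_on with
  | _ k ih =>
  intro Q hk
  set D : Subgroup G := (P : Subgroup G) ⊓ Q with hD
  by_cases hDP : D = P
  · have hle : (P : Subgroup G) ≤ Q := hDP ▸ inf_le_right
    have : (Q : Subgroup G) = P := P.is_maximal' Q.2 hle
    refine ⟨[], trivial, ?_⟩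
    rw [lprod_nil, inv_one, one_smul]
    exact Sylow.ext this
  have hDltP : D < P := lt_of_le_of_ne inf_le_left hDP
  have hcardle : ∀ R : Sylow p G, Nat.card ((P : Subgroup G) ⊓ R : Subgroup G) ≤
      Nat.card (P : Subgroup G) := fun R =>
    Nat.le_of_dvd Nat.card_pos (Subgroup.card_dvd_of_le inf_le_left)
  have hcardD : Nat.card D < Nat.card (P : Subgroup G) := card_lt_card_of_lt hDltP
  -- the induction hypothesis, packaged
  have IH : ∀ R : Sylow p G, Nat.card D < Nat.card ((P : Subgroup G) ⊓ R : Subgroup G) →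
      ∃ l : List (Sylow p G × G), IsChain P (((P : Subgroup G) ⊓ R : Subgroup G) : Set G) l ∧
        (lprod l)⁻¹ • R = P := by
    intro R hR
    have h2 := hcardle R
    exact ih _ (by omega) R rfl
  -- core step
  have core : ∀ Q' : Sylow p G, Nat.card ((P : Subgroup G) ⊓ Q' : Subgroup G) = Nat.card D →
      ¬ p ∣ ((P : Subgroup G) ⊓ normalizer ((((P : Subgroup G) ⊓ Q' : Subgroup G)) : Set G)).relIndex
        (normalizer ((((P : Subgroup G) ⊓ Q' : Subgroup G)) : Set G)) →
      ∃ l : List (Sylow p G × G), IsChain P (((P : Subgroup G) ⊓ Q' : Subgroup G) : Set G) l ∧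
        (lprod l)⁻¹ • Q' = P := by
    intro Q' hcard hNP
    set D' : Subgroup G := (P : Subgroup G) ⊓ Q' with hD'
    set N : Subgroup G := normalizer (D' : Set G) with hN
    have hD'P : D' ≤ P := inf_le_left
    have hD'Q' : D' ≤ Q' := inf_le_right
    have hD'neP : D' ≠ P := by
      intro h
      rw [h] at hcard
      omega
    have hD'neQ' : D' ≠ Q' := by
      intro h
      have hle : (Q' : Subgroup G) ≤ P := by rw [← h]; exact inf_le_left
      have h2 : (P : Subgroup G) = Q' := Q'.is_maximal' P.2 hle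
      exact hD'neP (by rw [h, h2])
    have hD'ltQ' : D' < Q' := lt_of_le_of_ne hD'Q' hD'neQ'
    have hNQ := lt_inf_normalizer_of_lt (Q' : Subgroup G) D' Q'.2 hD'ltQ'
    have hpgP : IsPGroup p (((P : Subgroup G) ⊓ N).subgroupOf N) :=
      (P.2.to_le inf_le_left).comap_subtype
    set NPsyl : Sylow p N := hpgP.toSylow hNP with hNPsyl
    have hpgQ : IsPGroup p (((Q' : Subgroup G) ⊓ N).subgroupOf N) :=
      (Q'.2.to_le inf_le_left).comap_subtype
    obtain ⟨T1, hT1⟩ := hpgQ.exists_le_sylow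
    obtain ⟨n, hn⟩ := MulAction.exists_smul_eq N T1 NPsyl
    have hnN : (n : G) ∈ N := n.2
    have hconj : ∀ y ∈ (Q' : Subgroup G) ⊓ N, (n : G) * y * (n : G)⁻¹ ∈ (P : Subgroup G) ⊓ N := by
      intro y hy
      have hyN : y ∈ N := hy.2
      have h1 : (⟨y, hyN⟩ : N) ∈ (T1 : Subgroup N) := hT1 (mem_subgroupOf.mpr hy)
      have h2 : n * ⟨y, hyN⟩ * n⁻¹ ∈ ((n • T1 : Sylow p N) : Subgroup N) := by
        rw [mem_smul_sylow_iff]
        have : n⁻¹ * (n * ⟨y, hyN⟩ * n⁻¹) * n = ⟨y, hyN⟩ := by group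
        rw [this]; exact h1
      have hcoe : (NPsyl : Subgroup N) = ((P : Subgroup G) ⊓ N).subgroupOf N :=
        IsPGroup.toSylow_coe hpgP hNP
      rw [hn, hcoe, mem_subgroupOf] at h2
      simpa using h2
    set Q2 : Sylow p G := (n : G) • Q' with hQ2
    have hD'Q2 : D' ≤ (P : Subgroup G) ⊓ Q2 := by
      intro d hd
      refine Subgroup.mem_inf.2 ⟨hD'P hd, ?_⟩
      rw [hQ2, mem_smul_sylow_iff]
      exact hD'Q' (conj_inv_mem_of_mem_normalizer D' hnN hd)
    have hcardQ2 : Nat.card D < Nat.card ((P : Subgroup G) ⊓ Q2 : Subgroup G) := by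
      have h1 : MulAut.conj (n : G) • ((Q' : Subgroup G) ⊓ N) ≤ (P : Subgroup G) ⊓ Q2 := by
        intro z hz
        obtain ⟨y, hy, rfl⟩ := (Subgroup.mem_smul_pointwise_iff_exists _ _ _).1 hz
        rw [MulAut.smul_def, MulAut.conj_apply]
        refine Subgroup.mem_inf.2 ⟨(hconj y hy).1, ?_⟩
        rw [hQ2, mem_smul_sylow_iff]
        have : (n : G)⁻¹ * ((n : G) * y * (n : G)⁻¹) * (n : G) = y := by group
        rw [this]; exact hy.1
      have h2 := Subgroup.card_le_of_le h1
      rw [card_conj_smul] at h2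
      have h3 : Nat.card D' < Nat.card ((Q' : Subgroup G) ⊓ N : Subgroup G) := card_lt_card_of_lt hNQ
      omega
    obtain ⟨l2, hl2, hl2Q⟩ := IH Q2 hcardQ2
    -- a chain for `n⁻¹`
    obtain ⟨ln, hln, hlnprod⟩ : ∃ ln : List (Sylow p G × G), IsChain P (D' : Set G) ln ∧
        lprod ln = (n : G)⁻¹ := by
      set T : Sylow p G := (n : G)⁻¹ • P with hTdef
      have hD'T : D' ≤ (P : Subgroup G) ⊓ T := by
        intro d hd
        refine Subgroup.mem_inf.2 ⟨hD'P hd, ?_⟩
        rw [hTdef, mem_smul_sylow_iff, inv_inv]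
        exact hD'P (conj_mem_of_mem_normalizer D' hnN hd)
      by_cases hPT : (P : Subgroup G) ⊓ T = D'
      · have hTN : ¬ p ∣ ((T : Subgroup G) ⊓ N).relIndex N := by
          have e1 : (T : Subgroup G) ⊓ N = MulAut.conj (n : G)⁻¹ • ((P : Subgroup G) ⊓ N) := by
            rw [Subgroup.smul_inf, Subgroup.conj_smul_eq_self_of_mem (inv_mem hnN), hTdef,
              Sylow.coe_subgroup_smul]
          rw [e1, relIndex_conj_smul _ _ _ (inv_mem hnN)]
          exact hNP
        have htame : Tame P T := by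
          unfold Tame
          rw [hPT]
          exact ⟨hNP, hTN⟩
        refine ⟨[(T, (n : G)⁻¹)], IsChain.single P T _ _ htame ?_ ?_, lprod_single _ _⟩
        · rw [hPT]; exact inv_mem hnN
        · rw [hPT]
      · have hlt : D' < (P : Subgroup G) ⊓ T := lt_of_le_of_ne hD'T (Ne.symm hPT)
        have hcardT : Nat.card D < Nat.card ((P : Subgroup G) ⊓ T : Subgroup G) := by
          have := card_lt_card_of_lt hlt
          omega
        obtain ⟨lT, hlT, hlTT⟩ := IH T hcardT
        set xT := lprod lT with hxT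
        have hmN : xT⁻¹ * (n : G)⁻¹ ∈ normalizer ((P : Subgroup G) : Set G) := by
          have h1 : (xT⁻¹ * (n : G)⁻¹) • P = P := by rw [mul_smul, ← hTdef, hlTT]
          exact Sylow.smul_eq_iff_mem_normalizer.mp h1
        have hsub : cs xT (D' : Set G) ⊆ ((((P : Subgroup G) ⊓ (P : Subgroup G)) : Subgroup G) : Set G) := by
          intro z hz
          rw [mem_cs] at hz
          rw [inf_idem]
          have hzT : xT * z * xT⁻¹ ∈ (T : Subgroup G) := (hD'T hz).2
          have hT' : T = xT • P := by rw [← hlTT, smul_inv_smul]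
          rw [hT', mem_smul_sylow_iff] at hzT
          have : xT⁻¹ * (xT * z * xT⁻¹) * xT = z := by group
          rw [this] at hzT
          exact hzT
        have hstep : IsChain P (cs xT (D' : Set G)) [(P, xT⁻¹ * (n : G)⁻¹)] := by
          apply IsChain.single P P _ _ (tame_self P) _ hsub
          rw [inf_idem]; exact hmN
        refine ⟨lT ++ [(P, xT⁻¹ * (n : G)⁻¹)], ?_, ?_⟩
        · apply IsChain.append P lT _ (IsChain.mono P lT _ hlT) hstep
          exact_mod_cast hlt.le
        · rw [lprod_append, lprod_single, ← hxT]; group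
    refine ⟨ln ++ l2, ?_, ?_⟩
    · apply IsChain.append P ln l2 hln
      rw [hlnprod]
      have hcs : cs (n : G)⁻¹ (D' : Set G) ⊆ (D' : Set G) := by
        intro z hz
        rw [mem_cs] at hz
        have := conj_mem_of_mem_normalizer D' hnN hz
        have e : (n : G) * ((n : G)⁻¹ * z * (n : G)⁻¹⁻¹) * (n : G)⁻¹ = z := by group
        rwa [e] at this
      exact IsChain.mono P l2 (hcs.trans (by exact_mod_cast hD'Q2)) hl2
    · rw [lprod_append, hlnprod, mul_inv_rev, inv_inv, mul_smul, ← hQ2, hl2Q]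
  -- reduction to the core step
  set N : Subgroup G := normalizer (D : Set G) with hN
  have hNPlt := lt_inf_normalizer_of_lt (P : Subgroup G) D P.2 hDltP
  obtain ⟨S₁, S', hS1, hS1'⟩ := exists_sylow_tower N ((P : Subgroup G) ⊓ N)
    (P.2.to_le inf_le_left) inf_le_right
  have hle1 : (P : Subgroup G) ⊓ N ≤ (P : Subgroup G) ⊓ S' :=
    le_inf inf_le_left (hS1.trans hS1')
  have hcardS' : Nat.card D < Nat.card ((P : Subgroup G) ⊓ S' : Subgroup G) :=
    lt_of_lt_of_le (card_lt_card_of_lt hNPlt) (Subgroup.card_le_of_le hle1)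
  obtain ⟨l1, hl1, hl1S⟩ := IH S' hcardS'
  set x1 := lprod l1 with hx1
  set Q1 : Sylow p G := x1⁻¹ • Q with hQ1
  have hS'eq : S' = x1 • P := by rw [← hl1S, smul_inv_smul]
  have hDS' : D ≤ (P : Subgroup G) ⊓ S' := hNPlt.le.trans hle1
  have hsub : cs x1 (D : Set G) ⊆ ((((P : Subgroup G) ⊓ Q1) : Subgroup G) : Set G) := by
    intro z hz
    rw [mem_cs] at hz
    refine Subgroup.mem_inf.2 ⟨?_, ?_⟩
    · have h1 : x1 * z * x1⁻¹ ∈ (S' : Subgroup G) := (hDS' hz).2
      rw [hS'eq, mem_smul_sylow_iff] at h1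
      have : x1⁻¹ * (x1 * z * x1⁻¹) * x1 = z := by group
      rwa [this] at h1
    · rw [hQ1, mem_smul_sylow_iff, inv_inv]
      exact (Subgroup.mem_inf.1 hz).2
  have hchainD : IsChain P (D : Set G) l1 :=
    IsChain.mono P l1 (by exact_mod_cast hDS') hl1
  suffices h : ∃ l' : List (Sylow p G × G),
      IsChain P ((((P : Subgroup G) ⊓ Q1) : Subgroup G) : Set G) l' ∧ (lprod l')⁻¹ • Q1 = P by
    obtain ⟨l', hl', hl'Q⟩ := h
    refine ⟨l1 ++ l', IsChain.append P l1 l' hchainD (IsChain.mono P l' hsub hl'), ?_⟩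
    rw [lprod_append, mul_inv_rev, mul_smul, ← hx1, ← hQ1, hl'Q]
  set f : G →* G := (MulAut.conj x1⁻¹).toMonoidHom with hf
  have hfb : Function.Bijective f := (MulAut.conj x1⁻¹).bijective
  have hfapp : ∀ y, f y = x1⁻¹ * y * x1 := by
    intro y
    rw [hf]
    simp [MulAut.conj_apply]
  have hDmap : D.map f ≤ (P : Subgroup G) ⊓ Q1 := by
    rintro _ ⟨y, hy, rfl⟩
    apply hsub
    rw [mem_cs, hfapp]
    have : x1 * (x1⁻¹ * y * x1) * x1⁻¹ = y := by group
    rw [this]; exact hy
  have hcardmap : Nat.card (D.map f) = Nat.card D := Subgroup.card_map_of_injective hfb.injective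
  have hcardge : Nat.card D ≤ Nat.card ((P : Subgroup G) ⊓ Q1 : Subgroup G) := by
    rw [← hcardmap]; exact Subgroup.card_le_of_le hDmap
  rcases hcardge.lt_or_eq with hlt | heq
  · exact IH Q1 hlt
  · apply core Q1 heq.symm
    have hD1 : D.map f = (P : Subgroup G) ⊓ Q1 :=
      Subgroup.eq_of_le_of_card_ge hDmap (by rw [hcardmap, heq])
    have hN1 : normalizer ((((P : Subgroup G) ⊓ Q1) : Subgroup G) : Set G) = N.map f := by
      rw [← hD1, hN, Subgroup.map_normalizer_eq_of_bijective D hfb]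
    rw [hN1]
    set A : Subgroup G := (S₁ : Subgroup N).map N.subtype with hA
    have hAN : A ≤ N := map_subtype_le _
    have hArel : A.relIndex N = (S₁ : Subgroup N).index := by
      rw [Subgroup.relIndex, hA]
      congr 1
      exact Subgroup.comap_map_eq_self_of_injective (subtype_injective N) _
    have hAP : A.map f ≤ (P : Subgroup G) := by
      rintro _ ⟨a, ha, rfl⟩
      have h1 : a ∈ (S' : Subgroup G) := hS1' ha
      rw [hS'eq, mem_smul_sylow_iff] at h1
      rw [hfapp]; exact h1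
    have hAN' : A.map f ≤ N.map f := Subgroup.map_mono hAN
    have h1 : ((P : Subgroup G) ⊓ N.map f).relIndex (N.map f) ∣ (A.map f).relIndex (N.map f) :=
      Subgroup.relIndex_dvd_of_le_left (N.map f) (le_inf hAP hAN')
    rw [Subgroup.relIndex_map_map_of_injective A N hfb.injective, hArel] at h1
    intro hdvd
    exact S₁.not_dvd_index (hdvd.trans h1)

theorem exists_chain [Finite G] [Fact p.Prime] (P Q : Sylow p G) :
    ∃ l : List (Sylow p G × G), IsChain P (((P : Subgroup G) ⊓ Q : Subgroup G) : Set G) l ∧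
      (lprod l)⁻¹ • Q = P :=
  exists_chain_aux P _ Q rfl

/-- Alperin's fusion theorem, list form. -/
theorem exists_chain_set [Finite G] [Fact p.Prime] (P : Sylow p G) (A : Set G) (g : G)
    (hA : A ⊆ ((P : Subgroup G) : Set G)) (hAg : cs g A ⊆ ((P : Subgroup G) : Set G)) :
    ∃ l : List (Sylow p G × G), IsChain P A l ∧ lprod l = g := by
  set Q : Sylow p G := g • P with hQ
  have hAQ : A ⊆ ((((P : Subgroup G) ⊓ Q) : Subgroup G) : Set G) := by
    intro a ha
    refine Subgroup.mem_inf.2 ⟨hA ha, ?_⟩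
    rw [hQ, mem_smul_sylow_iff]
    apply hAg
    exact ⟨a, ha, rfl⟩
  obtain ⟨l, hl, hlQ⟩ := exists_chain P Q
  set x := lprod l with hx
  have hyN : x⁻¹ * g ∈ normalizer ((P : Subgroup G) : Set G) := by
    apply Sylow.smul_eq_iff_mem_normalizer.mp
    rw [mul_smul, ← hQ, hlQ]
  have hsub : cs x A ⊆ ((((P : Subgroup G) ⊓ (P : Subgroup G)) : Subgroup G) : Set G) := by
    intro z hz
    rw [mem_cs] at hz
    rw [inf_idem]
    have h1 : x * z * x⁻¹ ∈ (Q : Subgroup G) := (Subgroup.mem_inf.1 (hAQ hz)).2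
    have h2 : z ∈ ((x⁻¹ • Q : Sylow p G) : Subgroup G) := by
      rw [mem_smul_sylow_iff, inv_inv]; exact h1
    rw [hlQ] at h2
    exact h2
  refine ⟨l ++ [(P, x⁻¹ * g)], IsChain.append P l _ (IsChain.mono P l hAQ hl) ?_, ?_⟩
  · apply IsChain.single P P _ _ (tame_self P) _ hsub
    rw [inf_idem]; exact hyN
  · rw [lprod_append, lprod_single, ← hx]; group

theorem IsChain.forall_mem (P : Sylow p G) : ∀ (l : List (Sylow p G × G)) {A : Set G},
    IsChain P A l → ∀ qx ∈ l, Tame P qx.1 ∧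
      qx.2 ∈ normalizer ((((P : Subgroup G) ⊓ (qx.1 : Subgroup G)) : Subgroup G) : Set G)
  | [], _, _, qx, hqx => by simp at hqx
  | q0 :: l, A, h, qx, hqx => by
    obtain ⟨h1, h2, _, h4⟩ := h
    rcases List.mem_cons.1 hqx with rfl | hmem
    · exact ⟨h1, h2⟩
    · exact IsChain.forall_mem P l h4 qx hmem

theorem IsChain.head_subset (P : Sylow p G) (l : List (Sylow p G × G)) {A : Set G}
    (h : IsChain P A l) (h0 : 0 < l.length) :
    A ⊆ ((((P : Subgroup G) ⊓ ((l.get ⟨0, h0⟩).1 : Subgroup G)) : Subgroup G) : Set G) := by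
  cases l with
  | nil => simp at h0
  | cons q0 l => exact h.2.2.1

theorem IsChain.take_subset (P : Sylow p G) : ∀ (l : List (Sylow p G × G)) {A : Set G},
    IsChain P A l → ∀ (j : ℕ) (h : j + 1 < l.length),
      cs (((l.map Prod.snd).take (j + 1)).prod) A ⊆
        ((((P : Subgroup G) ⊓ ((l.get ⟨j + 1, h⟩).1 : Subgroup G)) : Subgroup G) : Set G)
  | [], _, _, j, h => by simp at h
  | q0 :: l, A, hc, j, h => by
    obtain ⟨_, _, _, h4⟩ := hc
    have hlen : j < l.length := by
      rw [List.length_cons] at h; omega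
    rw [List.map_cons, List.take_succ_cons, List.prod_cons, cs_mul]
    cases j with
    | zero =>
      rw [List.take_zero, List.prod_nil, cs_one]
      exact IsChain.head_subset P l h4 hlen
    | succ j =>
      exact IsChain.take_subset P l h4 j hlen

end

theorem result {G : Type*} [Group G] [Finite G] {p : ℕ} [Fact p.Prime] (P : Sylow p G) (A : Set G) (g : G) (hA : A ⊆ (P : Set G)) (hAg : (fun a => g⁻¹ * a * g) '' A ⊆ (P : Set G)) : ∃ (n : ℕ) (Q : Fin n → Sylow p G) (x : Fin n → G), (List.ofFn x).prod = g ∧ (∀ i : Fin n, x i ∈ Subgroup.normalizer ((((P : Subgroup G) ⊓ (Q i : Subgroup G)) : Subgroup G) : Set G) ∧ ¬ p ∣ ((P : Subgroup G) ⊓ Subgroup.normalizer ((((P : Subgroup G) ⊓ (Q i : Subgroup G)) : Subgroup G) : Set G)).relIndex (Subgroup.normalizer ((((P : Subgroup G) ⊓ (Q i : Subgroup G)) : Subgroup G) : Set G)) ∧ ¬ p ∣ ((Q i : Subgroup G) ⊓ Subgroup.normalizer ((((P : Subgroup G) ⊓ (Q i : Subgroup G)) : Subgroup G) : Set G)).relIndex (Subgroup.normalizer ((((P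 : Subgroup G) ⊓ (Q i : Subgroup G)) : Subgroup G) : Set G))) ∧ (∀ h : 0 < n, A ⊆ (((P : Subgroup G) ⊓ (Q ⟨0, h⟩ : Subgroup G) : Subgroup G) : Set G)) ∧ ∀ i : Fin n, ∀ h : i.val + 1 < n, (fun a => (((List.ofFn x).take (i.val + 1)).prod)⁻¹ * a * ((List.ofFn x).take (i.val + 1)).prod) '' A ⊆ (((P : Subgroup G) ⊓ (Q ⟨i.val + 1, h⟩ : Subgroup G) : Subgroup G) : Set G) := by
  obtain ⟨l, hl, hlg⟩ := exists_chain_set P A g hA hAg
  have hofFn : List.ofFn (fun i : Fin l.length => (l.get i).2) = l.map Prod.snd := by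
    have h1 : (fun i : Fin l.length => (l.get i).2) = Prod.snd ∘ l.get := rfl
    rw [h1, ← List.map_ofFn, List.ofFn_get]
  refine ⟨l.length, fun i => (l.get i).1, fun i => (l.get i).2, ?_, ?_, ?_, ?_⟩
  · rw [hofFn]; exact hlg
  · intro i
    obtain ⟨⟨h1, h2⟩, h3⟩ := IsChain.forall_mem P l hl (l.get i) (List.get_mem l i)
    exact ⟨h3, h1, h2⟩
  · intro h0
    exact IsChain.head_subset P l hl h0
  · intro i h
    rw [hofFn]
    exact IsChain.take_subset P l hl i.val h

end Cfsg.Agent.S0116
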