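import Cfsg.Statements.S0502
import Cfsg.Agent.Lib.Helper11.FourGroup
import Cfsg.Agent.Lib.Helper2.NilpotentBasic
import Cfsg.Agent.Lib.Helper24.KleinSylow

set_option autoImplicit false
open Cfsg

namespace Cfsg.Agent.S0502

open Subgroup Cfsg.Agent.Lib.Helper11 Cfsg.Agent.Lib.Helper24

section

variable {P : Type*} [Group P]

theorem isKleinFour_of_card_of_sq (H : Subgroup P) (hcard : Nat.card H = 4)
    (hsq : ∀ x ∈ H, x * x = 1) : IsKleinFour H := by
  refine ⟨hcard, ?_⟩
  have hdvd : Monoid.exponent H ∣ 2 := by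
    apply Monoid.exponent_dvd_of_forall_pow_eq_one
    rintro ⟨q, hq⟩
    apply Subtype.ext
    simpa [pow_two] using hsq q hq
  rcases (Nat.dvd_prime Nat.prime_two).1 hdvd with h1 | h1
  · exfalso
    rw [Monoid.exp_eq_one_iff] at h1
    have : Nat.card H ≤ 1 := Finite.card_le_one_iff_subsingleton.2 h1
    omega
  · exact h1

/-- An involution acting on a normal elementary abelian 2-subgroup of order at least 8
centralizes a four-subgroup of it. -/
theorem exists_four_centralized [Finite P] (hP : IsPGroup 2 P)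
    (E : Subgroup P) [hEn : E.Normal] (hE : ∀ x ∈ E, ∀ y ∈ E, x * y = y * x)
    (hE2 : ∀ e ∈ E, e * e = 1) (hE8 : 8 ≤ Nat.card E) (a : P) (ha : a * a = 1) :
    ∃ F : Subgroup P, F ≤ E ∧ IsKleinFour F ∧ ∀ f ∈ F, f * a = a * f := by
  have hainv : a⁻¹ = a := inv_eq_of_mul_eq_one_left ha
  have hconj : ∀ x ∈ E, a * x * a⁻¹ ∈ E := fun x hx => hEn.conj_mem x hx a
  let φ : E →* E :=
    { toFun := fun x => ⟨x * (a * x * a⁻¹), E.mul_mem x.2 (hconj x x.2)⟩
      map_one' := by
        apply Subtype.ext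
        simp
      map_mul' := by
        intro x y
        apply Subtype.ext
        show (x : P) * y * (a * (x * y) * a⁻¹) = x * (a * x * a⁻¹) * (y * (a * y * a⁻¹))
        have h1 : (y : P) * (a * x * a⁻¹) = (a * x * a⁻¹) * y := hE _ y.2 _ (hconj x x.2)
        calc (x : P) * y * (a * (x * y) * a⁻¹) = x * (y * (a * x * a⁻¹)) * (a * y * a⁻¹) := by group
          _ = x * ((a * x * a⁻¹) * y) * (a * y * a⁻¹) := by rw [h1]
          _ = x * (a * x * a⁻¹) * (y * (a * y * a⁻¹)) := by group }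
  have hφ : ∀ x : E, ((φ x : E) : P) = x * (a * x * a⁻¹) := fun x => rfl
  set CE : Subgroup P := E ⊓ centralizer ({a} : Set P) with hCE
  have hmemC : ∀ x : P, x ∈ centralizer ({a} : Set P) ↔ a * x * a⁻¹ = x := by
    intro x
    rw [mem_centralizer_iff]
    constructor
    · intro h
      have := h a rfl
      rw [this]; group
    · intro h y hy
      rw [Set.mem_singleton_iff] at hy
      subst hy
      calc y * x = y * x * y⁻¹ * y := by group
        _ = x * y := by rw [h]
  have hker : φ.ker.map E.subtype ≤ CE := by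
    rintro _ ⟨x, hx, rfl⟩
    refine Subgroup.mem_inf.2 ⟨x.2, ?_⟩
    rw [hmemC]
    have h1 : (x : P) * (a * x * a⁻¹) = 1 := by
      have := congrArg Subtype.val (MonoidHom.mem_ker.1 hx)
      simpa [hφ] using this
    have h2 : a * (x : P) * a⁻¹ = (x : P)⁻¹ := (inv_eq_of_mul_eq_one_right h1).symm
    show a * (x : P) * a⁻¹ = (x : P)
    rw [h2]
    exact inv_eq_of_mul_eq_one_left (hE2 x x.2)
  have hrange : φ.range.map E.subtype ≤ CE := by
    rintro _ ⟨_, ⟨x, rfl⟩, rfl⟩
    refine Subgroup.mem_inf.2 ⟨(φ x).2, ?_⟩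
    rw [hmemC]
    show a * ((φ x : E) : P) * a⁻¹ = ((φ x : E) : P)
    rw [hφ]
    have h1 : a * ((x : P) * (a * x * a⁻¹)) * a⁻¹ = (a * x * a⁻¹) * (a * a * x * (a * a)⁻¹) := by
      group
    rw [h1, ha, one_mul, inv_one, mul_one]
    exact hE _ (hconj x x.2) _ x.2
  have hc1 : Nat.card φ.ker ≤ Nat.card CE := by
    rw [← Subgroup.card_map_of_injective (Subgroup.subtype_injective E)]
    exact Subgroup.card_le_of_le hker
  have hc2 : Nat.card φ.range ≤ Nat.card CE := by
    rw [← Subgroup.card_map_of_injective (Subgroup.subtype_injective E)]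
    exact Subgroup.card_le_of_le hrange
  have hc3 : Nat.card φ.ker * Nat.card φ.range = Nat.card E := by
    rw [← Subgroup.index_ker, Subgroup.card_mul_index]
  have hc4 : 8 ≤ Nat.card CE * Nat.card CE := by
    calc 8 ≤ Nat.card E := hE8
      _ = Nat.card φ.ker * Nat.card φ.range := hc3.symm
      _ ≤ Nat.card CE * Nat.card CE := Nat.mul_le_mul hc1 hc2
  have hc5 : 2 ^ 2 ≤ Nat.card CE := by
    obtain ⟨m, hm⟩ := (hP.to_subgroup CE).exists_card_eq
    rw [hm] at hc4 ⊢
    apply Nat.pow_le_pow_right (by norm_num)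
    by_contra hlt
    have hm1 : m ≤ 1 := by omega
    have : 2 ^ m ≤ 2 ^ 1 := Nat.pow_le_pow_right (by norm_num) hm1
    nlinarith
  obtain ⟨F, hFle, hFcard⟩ := Sylow.exists_subgroup_le_card_pow_prime_of_le_card Nat.prime_two hP hc5
  refine ⟨F, hFle.trans inf_le_left, ?_, ?_⟩
  · apply isKleinFour_of_card_of_sq F (by rw [hFcard]; norm_num)
    intro x hx
    exact hE2 x (hFle hx).1
  · intro f hf
    have := (hmemC f).1 (hFle hf).2
    calc f * a = (a * f * a⁻¹) * a := by rw [this]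
      _ = a * f := by group

end

theorem result {P : Type*} [Group P] [Finite P] (hP : IsPGroup 2 P)
    (E : Subgroup P) [E.Normal] (hE : IsMulCommutative E) (hE2 : ∀ e ∈ E, e ^ 2 = 1) (hE8 : 8 ≤ Nat.card E) :
    Cfsg.IsFourConnected P := by
  haveI : Fact (Nat.Prime 2) := ⟨Nat.prime_two⟩
  have hEc : ∀ x ∈ E, ∀ y ∈ E, x * y = y * x := by
    intro x hx y hy
    have := mul_comm' (⟨x, hx⟩ : E) ⟨y, hy⟩
    exact congrArg Subtype.val this
  have hEsq : ∀ e ∈ E, e * e = 1 := fun e he => by rw [← pow_two]; exact hE2 e he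
  -- a central involution in `E`
  haveI : Group.IsNilpotent P := hP.isNilpotent
  have hEne : E ≠ ⊥ := by
    intro h
    rw [h, Subgroup.card_bot] at hE8
    omega
  have hmeet := Cfsg.Agent.Lib.Helper2.normal_inf_center_ne_bot E hEne
  obtain ⟨e, he1⟩ := (Subgroup.ne_bot_iff_exists_ne_one).1 hmeet
  obtain ⟨e, heE, heZ⟩ : ∃ e' : P, e' ∈ E ∧ e' ∈ Subgroup.center P ∧ e' ≠ 1 := by
    refine ⟨(e : P), e.2.1, e.2.2, ?_⟩
    intro h
    apply he1
    exact Subtype.ext h
  obtain ⟨heZ, he1⟩ := heZ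
  have hecomm : ∀ x : P, x * e = e * x := fun x => (Subgroup.mem_center_iff.1 heZ x)
  have hee : e * e = 1 := hEsq e heE
  -- a reference four-group
  obtain ⟨F0, hF0E, hF0K, -⟩ := exists_four_centralized hP E hEc hEsq hE8 e hee
  -- every four-group is joined to `F0`
  have key : ∀ U : Subgroup P, IsKleinFour U → Relation.ReflTransGen
      (fun A B : Subgroup P => IsKleinFour A ∧ IsKleinFour B ∧ ∀ a ∈ A, ∀ b ∈ B, a * b = b * a)
      U F0 := by
    intro U hU
    obtain ⟨a', b', ha'U, hb'U, ha'1, hb'1, ha'b'⟩ := klein_exists_pair U hU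
    obtain ⟨a, haU, ha1, hae⟩ : ∃ a ∈ U, a ≠ 1 ∧ a ≠ e := by
      by_cases h : a' = e
      · exact ⟨b', hb'U, hb'1, fun hc => ha'b' (h.trans hc.symm)⟩
      · exact ⟨a', ha'U, ha'1, h⟩
    have haa : a * a = 1 := klein_sq U hU a haU
    have hae' : a * e = e * a := hecomm a
    set W := fourSubgroup a e haa hee hae' with hW
    have hWK : IsKleinFour W := isKleinFour_fourSubgroup ha1 he1 hae
    obtain ⟨F, hFE, hFK, hFa⟩ := exists_four_centralized hP E hEc hEsq hE8 a haa
    have h1 : IsKleinFour U ∧ IsKleinFour W ∧ ∀ u ∈ U, ∀ w ∈ W, u * w = w * u := by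
      refine ⟨hU, hWK, ?_⟩
      intro u hu w hw
      rcases mem_fourSubgroup.1 hw with rfl | rfl | rfl | rfl
      · simp
      · exact klein_comm U hU u _ hu haU
      · exact hecomm u
      · rw [← mul_assoc, klein_comm U hU u _ hu haU, mul_assoc, hecomm u, mul_assoc]
    have h2 : IsKleinFour W ∧ IsKleinFour F ∧ ∀ w ∈ W, ∀ f ∈ F, w * f = f * w := by
      refine ⟨hWK, hFK, ?_⟩
      intro w hw f hf
      rcases mem_fourSubgroup.1 hw with rfl | rfl | rfl | rfl
      · simp
      · exact (hFa f hf).symm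
      · exact (hecomm f).symm
      · rw [mul_assoc, ← hecomm f, ← mul_assoc, ← hFa f hf, mul_assoc]
    have h3 : IsKleinFour F ∧ IsKleinFour F0 ∧ ∀ f ∈ F, ∀ g ∈ F0, f * g = g * f :=
      ⟨hFK, hF0K, fun f hf g hg => hEc f (hFE hf) g (hF0E hg)⟩
    exact Relation.ReflTransGen.head h1 (Relation.ReflTransGen.head h2
      (Relation.ReflTransGen.single h3))
  intro U V hU hV
  have hsymm : Symmetric
      (fun A B : Subgroup P => IsKleinFour A ∧ IsKleinFour B ∧ ∀ a ∈ A, ∀ b ∈ B, a * b = b * a) := by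
    rintro A B ⟨hA, hB, h⟩
    exact ⟨hB, hA, fun b hb a ha => (h a ha b hb).symm⟩
  have hrev : ∀ A B : Subgroup P, Relation.ReflTransGen
      (fun A B : Subgroup P => IsKleinFour A ∧ IsKleinFour B ∧ ∀ a ∈ A, ∀ b ∈ B, a * b = b * a)
      A B → Relation.ReflTransGen
      (fun A B : Subgroup P => IsKleinFour A ∧ IsKleinFour B ∧ ∀ a ∈ A, ∀ b ∈ B, a * b = b * a)
      B A := by
    intro A B h
    induction h with
    | refl => exact Relation.ReflTransGen.refl
    | tail _ hbc ih => exact Relation.ReflTransGen.head (hsymm hbc) ih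
  exact (key U hU).trans (hrev _ _ (key V hV))

end Cfsg.Agent.S0502
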