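import Cfsg.Statements.S0520
import Cfsg.Agent.S0116
import Cfsg.Agent.S0502
import Cfsg.Agent.Lib.Helper11.WeaklyClosed

set_option autoImplicit false
open Cfsg

namespace Cfsg.Agent.S0520

open Subgroup Cfsg.Agent.Lib.Helper11

section

variable {G : Type*} [Group G]

/-- conjugate of a subgroup: `g B g⁻¹` -/
def cj (g : G) (B : Subgroup G) : Subgroup G := B.map (MulAut.conj g).toMonoidHom

theorem mem_cj {g : G} {B : Subgroup G} {x : G} : x ∈ cj g B ↔ g⁻¹ * x * g ∈ B := by
  unfold cj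
  rw [Subgroup.mem_map]
  constructor
  · rintro ⟨b, hb, rfl⟩
    have : g⁻¹ * (MulAut.conj g).toMonoidHom b * g = b := by
      show g⁻¹ * (g * b * g⁻¹) * g = b
      group
    rw [this]; exact hb
  · intro h
    refine ⟨g⁻¹ * x * g, h, ?_⟩
    show g * (g⁻¹ * x * g) * g⁻¹ = x
    group

theorem conj_mem_cj {g : G} {B : Subgroup G} {b : G} (hb : b ∈ B) : g * b * g⁻¹ ∈ cj g B := by
  rw [mem_cj]
  have : g⁻¹ * (g * b * g⁻¹) * g = b := by group
  rw [this]; exact hb

theorem cj_one (B : Subgroup G) : cj 1 B = B := by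
  ext x; rw [mem_cj]; simp

theorem cj_mul (g h : G) (B : Subgroup G) : cj (g * h) B = cj g (cj h B) := by
  ext x
  rw [mem_cj, mem_cj, mem_cj]
  have : (g * h)⁻¹ * x * (g * h) = h⁻¹ * (g⁻¹ * x * g) * h := by group
  rw [this]

theorem cj_inv_cj (g : G) (B : Subgroup G) : cj g⁻¹ (cj g B) = B := by
  rw [← cj_mul, inv_mul_cancel, cj_one]

theorem cj_cj_inv (g : G) (B : Subgroup G) : cj g (cj g⁻¹ B) = B := by
  rw [← cj_mul, mul_inv_cancel, cj_one]

theorem cj_mono (g : G) {A B : Subgroup G} (h : A ≤ B) : cj g A ≤ cj g B :=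
  Subgroup.map_mono h

theorem card_cj (g : G) (B : Subgroup G) : Nat.card (cj g B) = Nat.card B :=
  Subgroup.card_map_of_injective (MulAut.conj g).injective

theorem klein_sq' {U : Subgroup G} (hU : IsKleinFour U) {u : G} (hu : u ∈ U) : u * u = 1 := by
  have := IsKleinFour.mul_self (⟨u, hu⟩ : U)
  exact congrArg Subtype.val this

theorem klein_comm' {U : Subgroup G} (hU : IsKleinFour U) {u v : G} (hu : u ∈ U) (hv : v ∈ U) :
    u * v = v * u := by
  have := IsKleinFour.isMulCommutative (G := U)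
  have h := mul_comm' (⟨u, hu⟩ : U) ⟨v, hv⟩
  exact congrArg Subtype.val h

theorem isKleinFour_cj (g : G) {B : Subgroup G} (hB : IsKleinFour B) : IsKleinFour (cj g B) := by
  apply Cfsg.Agent.S0502.isKleinFour_of_card_of_sq
  · rw [card_cj]; exact hB.card_four
  · intro x hx
    rw [mem_cj] at hx
    have h1 := klein_sq' hB hx
    have : x * x = g * ((g⁻¹ * x * g) * (g⁻¹ * x * g)) * g⁻¹ := by group
    rw [this, h1]; group

/-- the commuting relation on four-groups -/
def Rel (A B : Subgroup G) : Prop :=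
  IsKleinFour A ∧ IsKleinFour B ∧ ∀ a ∈ A, ∀ b ∈ B, a * b = b * a

theorem Rel.symm {A B : Subgroup G} (h : Rel A B) : Rel B A :=
  ⟨h.2.1, h.1, fun b hb a ha => (h.2.2 a ha b hb).symm⟩

theorem Rel.cj (g : G) {A B : Subgroup G} (h : Rel A B) : Rel (cj g A) (cj g B) := by
  refine ⟨isKleinFour_cj g h.1, isKleinFour_cj g h.2.1, ?_⟩
  intro a ha b hb
  rw [mem_cj] at ha hb
  have h1 := h.2.2 _ ha _ hb
  calc a * b = g * ((g⁻¹ * a * g) * (g⁻¹ * b * g)) * g⁻¹ := by group
    _ = g * ((g⁻¹ * b * g) * (g⁻¹ * a * g)) * g⁻¹ := by rw [h1]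
    _ = b * a := by group

/-- connectedness -/
def Conn (A B : Subgroup G) : Prop := Relation.ReflTransGen Rel A B

theorem Conn.symm {A B : Subgroup G} (h : Conn A B) : Conn B A := by
  induction h with
  | refl => exact Relation.ReflTransGen.refl
  | tail _ hbc ih => exact Relation.ReflTransGen.head hbc.symm ih

theorem Conn.cj (g : G) {A B : Subgroup G} (h : Conn A B) : Conn (cj g A) (cj g B) := by
  induction h with
  | refl => exact Relation.ReflTransGen.refl
  | tail _ hbc ih => exact Relation.ReflTransGen.tail ih (hbc.cj g)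

theorem Conn.trans {A B C : Subgroup G} (h : Conn A B) (h' : Conn B C) : Conn A C :=
  Relation.ReflTransGen.trans h h'

/-- a group of 2-rank at least 2 contains a four-group -/
theorem exists_four_of_not_rank {H : Type*} [Group H] [Finite H] (h : ¬ Cfsg.PRankLE 2 1 H) :
    ∃ U : Subgroup H, IsKleinFour U := by
  unfold Cfsg.PRankLE at h
  push_neg at h
  obtain ⟨A, -, hA2, hAcard⟩ := h
  have hAp : IsPGroup 2 A := by
    intro a
    refine ⟨1, ?_⟩
    apply Subtype.ext
    simpa using hA2 a a.2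
  obtain ⟨k, hk⟩ := hAp.exists_card_eq
  have hk2 : 2 ≤ k := by
    by_contra hlt
    have hk1 : k ≤ 1 := by omega
    have : 2 ^ k ≤ 2 ^ 1 := Nat.pow_le_pow_right (by norm_num) hk1
    omega
  have h4 : 2 ^ 2 ≤ Nat.card A := by
    rw [hk]; exact Nat.pow_le_pow_right (by norm_num) hk2
  obtain ⟨K, hK⟩ := Sylow.exists_subgroup_card_pow_prime_of_le_card Nat.prime_two hAp h4
  refine ⟨K.map A.subtype, ?_⟩
  apply Cfsg.Agent.S0502.isKleinFour_of_card_of_sq
  · rw [Subgroup.card_map_of_injective (Subgroup.subtype_injective A), hK]; norm_num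
  · rintro _ ⟨x, -, rfl⟩
    have := hA2 x x.2
    rw [pow_two] at this
    exact this

theorem exists_four_le_of_not_rank [Finite G] {Q : Subgroup G} (h : ¬ Cfsg.PRankLE 2 1 Q) :
    ∃ U : Subgroup G, IsKleinFour U ∧ U ≤ Q := by
  obtain ⟨U', hU'⟩ := exists_four_of_not_rank h
  refine ⟨U'.map Q.subtype, ?_, Subgroup.map_subtype_le _⟩
  apply Cfsg.Agent.S0502.isKleinFour_of_card_of_sq
  · rw [Subgroup.card_map_of_injective (Subgroup.subtype_injective Q)]; exact hU'.card_four
  · rintro _ ⟨x, hx, rfl⟩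
    have := klein_sq' hU' hx
    exact congrArg Subtype.val this

theorem isKleinFour_subgroupOf {U D : Subgroup G} (hU : IsKleinFour U) (hUD : U ≤ D) :
    IsKleinFour (U.subgroupOf D) := by
  apply Cfsg.Agent.S0502.isKleinFour_of_card_of_sq
  · rw [Nat.card_congr (Subgroup.subgroupOfEquivOfLe hUD).toEquiv]; exact hU.card_four
  · intro x hx
    apply Subtype.ext
    exact klein_sq' hU (Subgroup.mem_subgroupOf.1 hx)

theorem not_rank_of_four_le {U D : Subgroup G} (hU : IsKleinFour U) (hUD : U ≤ D) :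
    ¬ Cfsg.PRankLE 2 1 D := by
  intro h
  have hK := isKleinFour_subgroupOf hU hUD
  have h1 := h (U.subgroupOf D) IsKleinFour.isMulCommutative (fun a ha => by
    have := klein_sq' hK ha
    rw [pow_two]; exact this)
  rw [hK.card_four] at h1
  omega

/-- four-groups of `S` are connected in `G` if `S` is four-connected -/
theorem conn_of_le {S : Subgroup G} (hS : Cfsg.IsFourConnected S) {U V : Subgroup G}
    (hU : IsKleinFour U) (hV : IsKleinFour V) (hUS : U ≤ S) (hVS : V ≤ S) : Conn U V := by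
  have h := hS (U.subgroupOf S) (V.subgroupOf S) (isKleinFour_subgroupOf hU hUS)
    (isKleinFour_subgroupOf hV hVS)
  have step : ∀ A B : Subgroup S,
      (IsKleinFour A ∧ IsKleinFour B ∧ ∀ a ∈ A, ∀ b ∈ B, a * b = b * a) →
      Rel (A.map S.subtype) (B.map S.subtype) := by
    rintro A B ⟨hA, hB, hc⟩
    refine ⟨?_, ?_, ?_⟩
    · apply Cfsg.Agent.S0502.isKleinFour_of_card_of_sq
      · rw [Subgroup.card_map_of_injective (Subgroup.subtype_injective S)]; exact hA.card_four
      · rintro _ ⟨x, hx, rfl⟩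
        exact congrArg Subtype.val (klein_sq' hA hx)
    · apply Cfsg.Agent.S0502.isKleinFour_of_card_of_sq
      · rw [Subgroup.card_map_of_injective (Subgroup.subtype_injective S)]; exact hB.card_four
      · rintro _ ⟨x, hx, rfl⟩
        exact congrArg Subtype.val (klein_sq' hB hx)
    · rintro _ ⟨a, ha, rfl⟩ _ ⟨b, hb, rfl⟩
      exact congrArg Subtype.val (hc a ha b hb)
  have h2 : ∀ A B : Subgroup S, Relation.ReflTransGen
      (fun A B : Subgroup S => IsKleinFour A ∧ IsKleinFour B ∧ ∀ a ∈ A, ∀ b ∈ B, a * b = b * a)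
      A B → Conn (A.map S.subtype) (B.map S.subtype) := by
    intro A B hAB
    induction hAB with
    | refl => exact Relation.ReflTransGen.refl
    | tail _ hbc ih => exact Relation.ReflTransGen.tail ih (step _ _ hbc)
  have h3 := h2 _ _ h
  rw [Subgroup.map_subgroupOf_eq_of_le hUS, Subgroup.map_subgroupOf_eq_of_le hVS] at h3
  exact h3

/-- every four-group is conjugate into a given Sylow 2-subgroup -/
theorem exists_cj_le_sylow [Finite G] (S : Sylow 2 G) {V : Subgroup G} (hV : IsKleinFour V) :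
    ∃ x : G, cj x V ≤ (S : Subgroup G) := by
  haveI : Fact (Nat.Prime 2) := ⟨Nat.prime_two⟩
  have hpg : IsPGroup 2 V := IsPGroup.of_card (n := 2) (by rw [hV.card_four]; norm_num)
  obtain ⟨Q, hQ⟩ := hpg.exists_le_sylow
  obtain ⟨g, hg⟩ := MulAction.exists_smul_eq G Q S
  refine ⟨g, ?_⟩
  intro x hx
  rw [mem_cj] at hx
  rw [← hg, mem_smul_sylow_iff]
  exact hQ hx

/-- a `p`-subgroup of `Γ ≥ S` is `Γ`-conjugate into the Sylow subgroup `S` -/
theorem exists_cj_le_of_le [Finite G] {p : ℕ} [Fact p.Prime] (S : Sylow p G) (Γ : Subgroup G)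
    (hS : (S : Subgroup G) ≤ Γ) (C : Subgroup G) (hC : C ≤ Γ) (hCp : IsPGroup p C) :
    ∃ δ ∈ Γ, cj δ C ≤ (S : Subgroup G) := by
  have hpg : IsPGroup p (C.subgroupOf Γ) := hCp.comap_subtype
  obtain ⟨T, hT⟩ := hpg.exists_le_sylow
  obtain ⟨δ, hδ⟩ := MulAction.exists_smul_eq Γ T (S.subtype hS)
  refine ⟨δ, δ.2, ?_⟩
  intro x hx
  rw [mem_cj] at hx
  have hxΓ : x ∈ Γ := by
    have : x = (δ : G) * ((δ : G)⁻¹ * x * (δ : G)) * (δ : G)⁻¹ := by simp [mul_assoc]
    rw [this]
    exact mul_mem (mul_mem δ.2 (hC hx)) (inv_mem δ.2)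
  have h1 : (⟨(δ : G)⁻¹ * x * δ, hC hx⟩ : Γ) ∈ (T : Subgroup Γ) := hT (mem_subgroupOf.2 hx)
  have h2 : (⟨x, hxΓ⟩ : Γ) ∈ ((δ • T : Sylow p Γ) : Subgroup Γ) := by
    rw [mem_smul_sylow_iff]
    exact h1
  rw [hδ, Sylow.coe_subtype, mem_subgroupOf] at h2
  exact h2

/-- **Alperin**: elements fusing a four-group inside `S` lie in the 2-generated core. -/
theorem lprod_mem_of_chain [Finite G] (S : Sylow 2 G) (Γ : Subgroup G)
    (hΓ : ∀ D : Subgroup G, D ≤ (S : Subgroup G) → (∃ U : Subgroup G, IsKleinFour U ∧ U ≤ D) →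
      normalizer (D : Set G) ≤ Γ) :
    ∀ (l : List (Sylow 2 G × G)) (A : Set G), Cfsg.Agent.S0116.IsChain S A l →
      (∃ U : Subgroup G, IsKleinFour U ∧ (U : Set G) ⊆ A) → Cfsg.Agent.S0116.lprod l ∈ Γ
  | [], _, _, _ => by
    rw [Cfsg.Agent.S0116.lprod_nil]; exact one_mem _
  | qx :: l, A, hc, ⟨U, hU, hUA⟩ => by
    obtain ⟨_, h2, h3, h4⟩ := hc
    rw [Cfsg.Agent.S0116.lprod_cons]
    apply mul_mem
    · exact hΓ _ inf_le_left ⟨U, hU, fun u hu => h3 (hUA hu)⟩ h2
    · apply lprod_mem_of_chain S Γ hΓ l _ h4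
      refine ⟨cj qx.2⁻¹ U, isKleinFour_cj _ hU, ?_⟩
      intro z hz
      rw [SetLike.mem_coe, mem_cj, inv_inv] at hz
      rw [Cfsg.Agent.S0116.mem_cs]
      exact hUA hz

end

theorem result {G : Type*} [Group G] [Finite G] (h2 : ¬ Cfsg.PRankLE 2 1 G)
    (S : Sylow 2 G) (hS : Cfsg.IsFourConnected (S : Subgroup G)) :
    ¬ Cfsg.IsFourConnected G ↔
      (⨆ Q : {Q : Subgroup G // Q ≤ (S : Subgroup G) ∧ ¬ Cfsg.PRankLE 2 1 Q},
          Subgroup.normalizer ((Q : Subgroup G) : Set G)) ≠ ⊤ := by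
  haveI : Fact (Nat.Prime 2) := ⟨Nat.prime_two⟩
  set Γ : Subgroup G := ⨆ Q : {Q : Subgroup G // Q ≤ (S : Subgroup G) ∧ ¬ Cfsg.PRankLE 2 1 Q},
          Subgroup.normalizer ((Q : Subgroup G) : Set G) with hΓdef
  obtain ⟨U0, hU0⟩ := exists_four_of_not_rank h2
  obtain ⟨x0, hx0⟩ := exists_cj_le_sylow S hU0
  set U1 := cj x0 U0 with hU1def
  have hU1 : IsKleinFour U1 := isKleinFour_cj x0 hU0
  have hΓ : ∀ D : Subgroup G, D ≤ (S : Subgroup G) → (∃ U : Subgroup G, IsKleinFour U ∧ U ≤ D) →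
      normalizer (D : Set G) ≤ Γ := by
    rintro D hD ⟨U, hU, hUD⟩
    exact le_iSup (fun Q : {Q : Subgroup G // Q ≤ (S : Subgroup G) ∧ ¬ Cfsg.PRankLE 2 1 Q} =>
      normalizer ((Q : Subgroup G) : Set G)) ⟨D, hD, not_rank_of_four_le hU hUD⟩
  have hSΓ : (S : Subgroup G) ≤ Γ := le_normalizer.trans (hΓ S le_rfl ⟨U1, hU1, hx0⟩)
  have hmain : Cfsg.IsFourConnected G ↔ Γ = ⊤ := by
    constructor
    · intro hconn
      rw [eq_top_iff]
      intro g _
      -- closure of `T`
      have hT : ∀ B C : Subgroup G, Rel B C → (∃ γ ∈ Γ, cj γ B ≤ (S : Subgroup G)) →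
          ∃ γ ∈ Γ, cj γ C ≤ (S : Subgroup G) := by
        rintro B C hBC ⟨γ, hγ, hγB⟩
        have hBC' := hBC.cj γ
        have hC'Γ : cj γ C ≤ Γ := by
          intro c hc
          apply hΓ (cj γ B) hγB ⟨cj γ B, hBC'.1, le_rfl⟩
          apply Subgroup.centralizer_le_normalizer
          rw [mem_centralizer_iff]
          intro b hb
          exact hBC'.2.2 b hb c hc
        have hCp : IsPGroup 2 (cj γ C) :=
          IsPGroup.of_card (n := 2) (by rw [hBC'.2.1.card_four]; norm_num)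
        obtain ⟨δ, hδ, hδC⟩ := exists_cj_le_of_le S Γ hSΓ (cj γ C) hC'Γ hCp
        refine ⟨δ * γ, mul_mem hδ hγ, ?_⟩
        rw [cj_mul]; exact hδC
      have hTall : ∀ B : Subgroup G, Conn U1 B → ∃ γ ∈ Γ, cj γ B ≤ (S : Subgroup G) := by
        intro B hB
        induction hB with
        | refl => exact ⟨1, one_mem _, by rw [cj_one]; exact hx0⟩
        | tail _ hbc ih => exact hT _ _ hbc ih
      obtain ⟨γ, hγ, hγg⟩ := hTall (cj g U1) (hconn U1 (cj g U1) hU1 (isKleinFour_cj g hU1))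
      rw [← cj_mul] at hγg
      -- Alperin
      have hA : (U1 : Set G) ⊆ ((S : Subgroup G) : Set G) := hx0
      have hAg : Cfsg.Agent.S0116.cs (γ * g)⁻¹ (U1 : Set G) ⊆ ((S : Subgroup G) : Set G) := by
        intro z hz
        rw [Cfsg.Agent.S0116.mem_cs] at hz
        apply hγg
        rw [mem_cj]
        rw [inv_inv] at hz
        exact hz
      obtain ⟨l, hl, hlg⟩ := Cfsg.Agent.S0116.exists_chain_set S (U1 : Set G) (γ * g)⁻¹ hA hAg
      have hmem := lprod_mem_of_chain S Γ hΓ l _ hl ⟨U1, hU1, le_rfl⟩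
      rw [hlg] at hmem
      have h3 : γ * g ∈ Γ := by
        have := inv_mem hmem
        rwa [inv_inv] at this
      have : g = γ⁻¹ * (γ * g) := by group
      rw [this]
      exact mul_mem (inv_mem hγ) h3
    · intro htop
      let Stab : Subgroup G :=
        { carrier := {g | ∀ B : Subgroup G, Conn U1 B ↔ Conn U1 (cj g B)}
          one_mem' := by
            intro B
            rw [cj_one]
          mul_mem' := by
            intro a b ha hb B
            rw [cj_mul]
            exact (hb B).trans (ha (cj b B))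
          inv_mem' := by
            intro a ha B
            have := ha (cj a⁻¹ B)
            rw [cj_cj_inv] at this
            exact this.symm }
      have hle : Γ ≤ Stab := by
        apply iSup_le
        rintro ⟨Q, hQS, hQr⟩
        have hfwd : ∀ g ∈ normalizer (Q : Set G), ∀ B : Subgroup G, Conn U1 B →
            Conn U1 (cj g B) := by
          intro g hg B hB
          obtain ⟨W, hW, hWQ⟩ := exists_four_le_of_not_rank hQr
          have h1 : Conn U1 W := conn_of_le hS hU1 hW hx0 (hWQ.trans hQS)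
          have hgW : cj g W ≤ (S : Subgroup G) := by
            intro x hx
            rw [mem_cj] at hx
            apply hQS
            have h5 := (mem_normalizer_iff.1 hg (g⁻¹ * x * g)).1 (hWQ hx)
            have : g * (g⁻¹ * x * g) * g⁻¹ = x := by group
            rwa [this] at h5
          have h2 : Conn U1 (cj g W) := conn_of_le hS hU1 (isKleinFour_cj g hW) hx0 hgW
          exact h2.trans ((h1.symm.trans hB).cj g)
        intro g hg B
        constructor
        · exact hfwd g hg B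
        · intro h
          have := hfwd g⁻¹ (inv_mem hg) _ h
          rwa [cj_inv_cj] at this
      have hStab : ∀ g : G, g ∈ Stab := by
        intro g
        apply hle
        rw [htop]
        trivial
      have hall : ∀ V : Subgroup G, IsKleinFour V → Conn U1 V := by
        intro V hV
        obtain ⟨x, hx⟩ := exists_cj_le_sylow S hV
        have h1 : Conn U1 (cj x V) := conn_of_le hS hU1 (isKleinFour_cj x hV) hx0 hx
        have := (hStab x⁻¹ (cj x V)).1 h1
        rwa [cj_inv_cj] at this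
      intro U V hU hV
      exact (hall U hU).symm.trans (hall V hV)
  rw [hmain]

end Cfsg.Agent.S0520
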