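import Cfsg.Statements.S5078

set_option autoImplicit false
open Cfsg

namespace Cfsg.Agent.S5078

theorem aux {Ω : Type*} [Group Ω] {S : Subgroup Ω} [Finite S] (F : Cfsg.FusionSystem S) (P Q : Subgroup Ω)
    (hP : F.IsReceptive P) (ψ : Q →* Ω) (hψ : ψ ∈ F.Hom Q) (hψrange : ψ.range = P) :
    Nat.card (FusionSystem.centralizerIn S Q) ≤ Nat.card (FusionSystem.centralizerIn S P) := by
  obtain ⟨hPS, hrec⟩ := hP
  have hQS : Q ≤ S := (F.le_of_mem hψ).1
  obtain ⟨ψ', hψ', hext⟩ := hrec Q ψ hψ hψrange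
  have hCext : FusionSystem.centralizerIn S Q ≤ FusionSystem.extender S Q ψ := by
    intro c hc
    apply Subgroup.subset_closure
    refine ⟨hc.1, Subgroup.centralizer_le_normalizer _ hc.2, 1, S.one_mem, ?_⟩
    intro x hx
    have hc2 : c ∈ Subgroup.centralizer (Q : Set Ω) := hc.2
    rw [Subgroup.mem_centralizer_iff] at hc2
    have h1 : c * (x : Ω) * c⁻¹ = x := by
      rw [← hc2 x x.2]; group
    have h2 : (⟨c * (x : Ω) * c⁻¹, hx⟩ : Q) = x := Subtype.ext h1
    rw [h2]; simp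
  have hQext : Q ≤ FusionSystem.extender S Q ψ := by
    intro q hq
    apply Subgroup.subset_closure
    refine ⟨hQS hq, Subgroup.le_normalizer hq, ψ ⟨q, hq⟩, (F.le_of_mem hψ).2 _, ?_⟩
    intro x hx
    rw [← map_inv, ← map_mul, ← map_mul]
    rfl
  have hψ'S := (F.le_of_mem hψ').2
  have hψ'inj := F.injective_of_mem hψ'
  have hmap : ∀ c : FusionSystem.centralizerIn S Q,
      ψ' ⟨c.1, hCext c.2⟩ ∈ FusionSystem.centralizerIn S P := by
    intro c
    refine ⟨hψ'S _, ?_⟩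
    show ψ' ⟨c.1, hCext c.2⟩ ∈ Subgroup.centralizer (P : Set Ω)
    rw [Subgroup.mem_centralizer_iff]
    intro y hy
    rw [← hψrange] at hy
    obtain ⟨x, rfl⟩ := hy
    rw [← hext x.1 x.2 (hQext x.2), ← map_mul, ← map_mul]
    congr 1
    apply Subtype.ext
    have hc2 : (c : Ω) ∈ Subgroup.centralizer (Q : Set Ω) := c.2.2
    rw [Subgroup.mem_centralizer_iff] at hc2
    exact hc2 x x.2
  have : Finite (FusionSystem.centralizerIn S P) :=
    Finite.of_injective (fun x : FusionSystem.centralizerIn S P => (⟨x.1, x.2.1⟩ : S))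
      (fun a b h => Subtype.ext (congrArg (fun z : S => (z : Ω)) h))
  apply Nat.card_le_card_of_injective
    (fun c : FusionSystem.centralizerIn S Q => (⟨ψ' ⟨c.1, hCext c.2⟩, hmap c⟩ : FusionSystem.centralizerIn S P))
  intro a b hab
  have h1 : ψ' ⟨a.1, hCext a.2⟩ = ψ' ⟨b.1, hCext b.2⟩ := congrArg Subtype.val hab
  have h2 := hψ'inj h1
  exact Subtype.ext (congrArg (fun z : FusionSystem.extender S Q ψ => (z : Ω)) h2)

/-- In any fusion system over a finite subgroup S, a receptive subgroup is fully centralized. -/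
theorem result {Ω : Type*} [Group Ω] {S : Subgroup Ω} [Finite S] (F : Cfsg.FusionSystem S) (P : Subgroup Ω) (hP : F.IsReceptive P) : F.IsFullyCentralized P := by
  refine ⟨hP.1, ?_⟩
  rintro Q ⟨φ, hφ, rfl⟩
  obtain ⟨ψ, hψ, hψφ⟩ := F.inv_mem hφ
  apply aux F P φ.range hP ψ hψ
  ext y
  constructor
  · rintro ⟨⟨_, x, rfl⟩, rfl⟩
    rw [hψφ x]; exact x.2
  · intro hy
    exact ⟨⟨φ ⟨y, hy⟩, ⟨_, rfl⟩⟩, hψφ ⟨y, hy⟩⟩

end Cfsg.Agent.S5078
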