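import Cfsg.Statements.S5255
import Cfsg.Agent.Lib.Helper29.FusionInner
import Cfsg.Agent.Lib.Helper29.FusionRS

set_option autoImplicit false
open Cfsg

namespace Cfsg.Agent.S5255

open Subgroup Cfsg.Agent.Lib.Helper29

section Generic

variable {Ω : Type*} [Group Ω]

/-- If `A` normalizes `B` then every element of `A ⊔ B` is a product `a * b`. -/
theorem exists_mul_of_mem_sup (A B : Subgroup Ω) (h : ∀ a ∈ A, ∀ b ∈ B, a * b * a⁻¹ ∈ B)
    {x : Ω} (hx : x ∈ A ⊔ B) : ∃ a ∈ A, ∃ b ∈ B, x = a * b := by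
  let M : Subgroup Ω :=
    { carrier := {x | ∃ a ∈ A, ∃ b ∈ B, x = a * b}
      one_mem' := ⟨1, A.one_mem, 1, B.one_mem, by simp⟩
      mul_mem' := by
        rintro _ _ ⟨a, ha, b, hb, rfl⟩ ⟨a', ha', b', hb', rfl⟩
        refine ⟨a * a', A.mul_mem ha ha', (a'⁻¹ * b * a'⁻¹⁻¹) * b', B.mul_mem ?_ hb', by group⟩
        exact h _ (A.inv_mem ha') _ hb
      inv_mem' := by
        rintro _ ⟨a, ha, b, hb, rfl⟩
        refine ⟨a⁻¹, A.inv_mem ha, a * b⁻¹ * a⁻¹, h _ ha _ (B.inv_mem hb), by group⟩ }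
  have hA : A ≤ M := fun a ha => ⟨a, ha, 1, B.one_mem, by simp⟩
  have hB : B ≤ M := fun b hb => ⟨1, A.one_mem, b, hb, by simp⟩
  exact (sup_le hA hB) hx

/-- Normalizers grow in finite `p`-groups. -/
theorem exists_normalizer_not_mem {p : ℕ} [Fact p.Prime] (P Q : Subgroup Ω) [Finite Q]
    (hQ : IsPGroup p Q) (hlt : P < Q) : ∃ x ∈ Q, x ∈ normalizer (P : Set Ω) ∧ x ∉ P := by
  haveI : Group.IsNilpotent Q := hQ.isNilpotent
  have hnc : NormalizerCondition Q := Group.normalizerCondition_of_isNilpotent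
  have hH : P.subgroupOf Q < ⊤ := by
    rw [lt_top_iff_ne_top]
    intro h
    rw [Subgroup.subgroupOf_eq_top] at h
    exact (not_le_of_gt hlt) h
  have h1 := hnc _ hH
  rw [← Subgroup.subgroupOf_normalizer_eq hlt.le] at h1
  obtain ⟨y, hyN, hyD⟩ := SetLike.exists_of_lt h1
  exact ⟨y, y.2, mem_subgroupOf.mp hyN, fun hc => hyD (mem_subgroupOf.mpr hc)⟩

theorem card_lt_of_lt {M N : Subgroup Ω} [Finite N] (h : M < N) : Nat.card M < Nat.card N :=
  Set.ncard_lt_ncard (s := (M : Set Ω)) (t := (N : Set Ω)) (by exact_mod_cast h) (Set.toFinite _)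

end Generic

section Main

variable {Ω : Type*} [Group Ω] {S : Subgroup Ω}

theorem conj_mem_T (F : FusionSystem S) {T : Subgroup Ω} (hT : F.StronglyClosed T) {s t : Ω}
    (hs : s ∈ S) (ht : t ∈ T) : s * t * s⁻¹ ∈ T :=
  hT.2 T le_rfl (conjHom T s) (F.conj_mem hT.1 hs) ⟨t, ht⟩

theorem mem_K_iff (F : FusionSystem S) {T : Subgroup Ω} (hT : F.StronglyClosed T) {x : Ω} :
    x ∈ T ⊔ FusionSystem.centralizerIn S T ↔
      ∃ t ∈ T, t⁻¹ * x ∈ FusionSystem.centralizerIn S T := by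
  constructor
  · intro hx
    rw [sup_comm] at hx
    obtain ⟨c, hc, t, ht, rfl⟩ := exists_mul_of_mem_sup (FusionSystem.centralizerIn S T) T
      (fun a ha b hb => conj_mem_T F hT ha.1 hb) hx
    refine ⟨t, ht, ?_⟩
    have hct : t * c = c * t := (mem_centralizer_iff.1 hc.2) t ht
    have : t⁻¹ * (c * t) = c := by rw [← hct]; group
    rw [this]; exact hc
  · rintro ⟨t, ht, hc⟩
    have : x = t * (t⁻¹ * x) := by group
    rw [this]
    exact mul_mem (mem_sup_left ht) (mem_sup_right hc)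

theorem K_le (F : FusionSystem S) {T : Subgroup Ω} (hT : F.StronglyClosed T) :
    T ⊔ FusionSystem.centralizerIn S T ≤ S :=
  sup_le hT.1 inf_le_left

/-- A map of the system defined on a subgroup containing `T` maps `T` onto `T`. -/
theorem exists_preimage_T [Finite S] (F : FusionSystem S) {T : Subgroup Ω} (hT : F.StronglyClosed T)
    {R : Subgroup Ω} (hTR : T ≤ R) {φ : R →* Ω} (hφ : φ ∈ F.Hom R) {t0 : Ω} (ht0 : t0 ∈ T) :
    ∃ (t1 : Ω) (ht1 : t1 ∈ T), φ ⟨t1, hTR ht1⟩ = t0 := by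
  have hψ : φ.comp (Subgroup.inclusion hTR) ∈ F.Hom T := restrict_mem F hTR hφ
  have hψT : ∀ x : T, φ (Subgroup.inclusion hTR x) ∈ T := fun x => hT.2 T le_rfl _ hψ x
  let ψ' : T → T := fun x => ⟨φ (Subgroup.inclusion hTR x), hψT x⟩
  have hinj : Function.Injective ψ' := by
    intro a b hab
    have h1 : φ (Subgroup.inclusion hTR a) = φ (Subgroup.inclusion hTR b) :=
      congrArg Subtype.val hab
    exact (F.injective_of_mem hψ) h1
  haveI : Finite T := finite_of_le hT.1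
  obtain ⟨t1, ht1⟩ := Finite.surjective_of_injective hinj ⟨t0, ht0⟩
  refine ⟨t1, t1.2, ?_⟩
  exact congrArg Subtype.val ht1

theorem key [Finite S] {p : ℕ} [Fact p.Prime] (hS : IsPGroup p S) (F : FusionSystem S)
    (hF : F.IsSaturated p) {T : Subgroup Ω} (hT : F.StronglyClosed T) (k : ℕ) :
    ∀ R : Subgroup Ω, R ≤ S → Nat.card S - Nat.card R = k →
      (∃ R0, R0 ≤ T ⊔ FusionSystem.centralizerIn S T ∧ F.IsConj R R0) →
      R ≤ T ⊔ FusionSystem.centralizerIn S T := by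
  induction k using Nat.strong_induction_on with
  | _ k IH =>
  intro R hRS hk ⟨R0, hR0K, hconj0⟩
  set K := T ⊔ FusionSystem.centralizerIn S T with hK
  have hKS : K ≤ S := K_le F hT
  haveI : Finite R := finite_of_le hRS
  have hcardle : ∀ {Q : Subgroup Ω}, Q ≤ S → Nat.card Q ≤ Nat.card S := fun {Q} hQ =>
    Subgroup.card_le_of_le hQ
  have IH' : ∀ R1 : Subgroup Ω, R1 ≤ S → Nat.card R < Nat.card R1 →
      (∃ R0, R0 ≤ K ∧ F.IsConj R1 R0) → R1 ≤ K := by
    intro R1 hR1S hlt hex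
    refine IH (Nat.card S - Nat.card R1) ?_ R1 hR1S rfl hex
    have h1 := hcardle hR1S
    have h2 := hcardle hRS
    omega
  obtain ⟨φ, hφ, hφr⟩ := hconj0
  have hφR0 : ∀ x : R, φ x ∈ R0 := fun x => hφr ▸ ⟨x, rfl⟩
  by_cases hTR : T ≤ R
  · -- Case 1
    intro r hr
    rw [hK, mem_K_iff F hT]
    obtain ⟨t0, ht0, hc0⟩ := (mem_K_iff F hT).1 (hR0K (hφR0 ⟨r, hr⟩))
    obtain ⟨t1, ht1, ht1e⟩ := exists_preimage_T F hT hTR hφ ht0
    refine ⟨t1, ht1, Subgroup.mem_inf.2 ⟨mul_mem (inv_mem (hT.1 ht1)) (hRS hr), ?_⟩⟩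
    rw [mem_centralizer_iff]
    intro t ht
    have htT : t ∈ T := ht
    obtain ⟨u, hu⟩ : ∃ u : R, u = ⟨t1, hTR ht1⟩⁻¹ * ⟨r, hr⟩ := ⟨_, rfl⟩
    obtain ⟨v, hv⟩ : ∃ v : R, v = ⟨t, hTR htT⟩ := ⟨_, rfl⟩
    have hφu : φ u = t0⁻¹ * φ ⟨r, hr⟩ := by
      rw [hu, map_mul, map_inv, ht1e]
    have hφv : φ v ∈ T := by
      have hψ : φ.comp (Subgroup.inclusion hTR) ∈ F.Hom T := restrict_mem F hTR hφ
      rw [hv]
      exact hT.2 T le_rfl _ hψ ⟨t, htT⟩
    have hcomm : φ (v * u) = φ (u * v) := by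
      rw [map_mul, map_mul, hφu]
      exact (mem_centralizer_iff.1 hc0.2) _ hφv
    have := (F.injective_of_mem hφ) hcomm
    rw [hu, hv] at this
    exact congrArg Subtype.val this
  · -- Case 2
    obtain ⟨R', hconj', hfa, hrec⟩ := hF R hRS
    have hR0R' : F.IsConj R0 R' := isConj_trans F (isConj_symm F ⟨φ, hφ, hφr⟩) hconj'
    have hcardR0 : Nat.card R0 = Nat.card R := (card_eq_of_isConj F ⟨φ, hφ, hφr⟩).symm
    have hR0S : R0 ≤ S := hR0K.trans hKS
    -- Step A
    have hR'K : R' ≤ K := by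
      obtain ⟨θ0, hθ0, hθ0N, hθ0R, hθ0map⟩ := exists_hom_normalizer p hS F R' R0 hfa hrec hR0R'
      by_cases hR0eq : R0 = K
      · exfalso
        apply hTR
        have hTR0 : T ≤ R0 := by rw [hR0eq, hK]; exact le_sup_left
        obtain ⟨ψ, hψ, hinv⟩ := exists_inv_iso F hφ hφr
        intro t ht
        obtain ⟨t1, ht1, ht1e⟩ := exists_preimage_T F hT hTR0 hψ ht
        obtain ⟨x, hx⟩ : ∃ x : R, φ x = t1 := by
          have : t1 ∈ φ.range := by rw [hφr]; exact hTR0 ht1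
          exact this
        have h1 := hinv x (hφR0 x)
        have h2 : ψ ⟨φ x, hφR0 x⟩ = ψ ⟨t1, hTR0 ht1⟩ := by
          congr 1
          exact Subtype.ext hx
        rw [← ht1e, ← h2, h1]
        exact x.2
      · haveI : Finite K := finite_of_le hKS
        obtain ⟨x, hxK, hxN, hxR0⟩ := exists_normalizer_not_mem (p := p) R0 K
          (hS.to_le hKS) (lt_of_le_of_ne hR0K hR0eq)
        set M0 := K ⊓ FusionSystem.normalizerIn S R0 with hM0
        have hR0M0 : R0 ≤ M0 := le_inf hR0K (le_normalizerIn hR0S)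
        have hxM0 : x ∈ M0 := ⟨hxK, hKS hxK, hxN⟩
        have hM0S : M0 ≤ S := inf_le_left.trans hKS
        haveI : Finite M0 := finite_of_le hM0S
        have hlt : Nat.card R0 < Nat.card M0 := by
          exact card_lt_of_lt (lt_of_le_of_ne hR0M0 (fun h => hxR0 (h ▸ hxM0)))
        have hθ0' : θ0.comp (Subgroup.inclusion (inf_le_right : M0 ≤ _)) ∈ F.Hom M0 :=
          restrict_mem F _ hθ0
        set θ0' := θ0.comp (Subgroup.inclusion (inf_le_right : M0 ≤ FusionSystem.normalizerIn S R0))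
          with hθ0'def
        have hconjM : F.IsConj M0 θ0'.range := ⟨θ0', hθ0', rfl⟩
        have hM1K : θ0'.range ≤ K := by
          apply IH' _ (isConj_le_right F hconjM)
          · rw [← card_eq_of_isConj F hconjM, ← hcardR0]; exact hlt
          · exact ⟨M0, inf_le_left, isConj_symm F hconjM⟩
        intro y hy
        rw [← hθ0map] at hy
        obtain ⟨n, hn, rfl⟩ := hy
        apply hM1K
        have hnR0 : (n : Ω) ∈ R0 := hn
        exact ⟨⟨n, hR0M0 hnR0⟩, rfl⟩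
    -- Step B
    obtain ⟨θ, hθ, hθN, hθR, hθmap⟩ := exists_hom_normalizer p hS F R' R hfa hrec hconj'
    have hRTS : R ⊔ T ≤ S := sup_le hRS hT.1
    haveI : Finite (R ⊔ T : Subgroup Ω) := finite_of_le hRTS
    have hlt : R < R ⊔ T := by
      refine lt_of_le_of_ne le_sup_left ?_
      intro h
      apply hTR
      rw [h]; exact le_sup_right
    obtain ⟨x, hxRT, hxN, hxR⟩ := exists_normalizer_not_mem (p := p) R (R ⊔ T)
      (hS.to_le hRTS) hlt
    set M := (R ⊔ T) ⊓ FusionSystem.normalizerIn S R with hM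
    have hRM : R ≤ M := le_inf le_sup_left (le_normalizerIn hRS)
    have hxM : x ∈ M := ⟨hxRT, hRTS hxRT, hxN⟩
    have hMS : M ≤ S := inf_le_left.trans hRTS
    haveI : Finite M := finite_of_le hMS
    have hltM : Nat.card R < Nat.card M := by
      exact card_lt_of_lt (lt_of_le_of_ne hRM (fun h => hxR (h ▸ hxM)))
    have hθ' : θ.comp (Subgroup.inclusion (inf_le_right : M ≤ _)) ∈ F.Hom M :=
      restrict_mem F _ hθ
    set θ' := θ.comp (Subgroup.inclusion (inf_le_right : M ≤ FusionSystem.normalizerIn S R))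
      with hθ'def
    have hM1K : θ'.range ≤ K := by
      rintro _ ⟨⟨m, hm⟩, rfl⟩
      obtain ⟨r, hr, t, ht, hmrt⟩ := exists_mul_of_mem_sup R T
        (fun a ha b hb => conj_mem_T F hT (hRS ha) hb) hm.1
      have hrN : r ∈ FusionSystem.normalizerIn S R := le_normalizerIn hRS hr
      have htN : t ∈ FusionSystem.normalizerIn S R := by
        have : t = r⁻¹ * m := by rw [hmrt]; group
        rw [this]
        exact mul_mem (inv_mem hrN) hm.2
      have hsplit : θ' ⟨m, hm⟩ = θ ⟨r, hrN⟩ * θ ⟨t, htN⟩ := by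
        rw [← map_mul]
        show θ ⟨m, hm.2⟩ = _
        congr 1
        exact Subtype.ext hmrt
      rw [hsplit]
      apply mul_mem
      · exact hR'K (hθR r hr hrN)
      · apply mem_sup_left
        have hθT : θ.comp (Subgroup.inclusion (inf_le_right :
            T ⊓ FusionSystem.normalizerIn S R ≤ FusionSystem.normalizerIn S R)) ∈
            F.Hom (T ⊓ FusionSystem.normalizerIn S R) := restrict_mem F _ hθ
        exact hT.2 _ inf_le_left _ hθT ⟨t, ht, htN⟩
    have hMK : M ≤ K := IH' M hMS hltM ⟨θ'.range, hM1K, ⟨θ', hθ', rfl⟩⟩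
    exact hRM.trans hMK

end Main

theorem result {Ω : Type*} [Group Ω] {S : Subgroup Ω} [Finite S] (p : ℕ) [Fact p.Prime] (hS : IsPGroup p S) (F : Cfsg.FusionSystem S) (hF : F.IsSaturated p) (T : Subgroup Ω) (hT : F.StronglyClosed T) : F.StronglyClosed (T ⊔ Cfsg.FusionSystem.centralizerIn S T) := by
  refine ⟨K_le F hT, ?_⟩
  intro R hRK φ hφ x
  have hconj : F.IsConj R φ.range := ⟨φ, hφ, rfl⟩
  have h := key hS F hF hT _ φ.range (isConj_le_right F hconj) rfl ⟨R, hRK, isConj_symm F hconj⟩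
  exact h ⟨x, rfl⟩

end Cfsg.Agent.S5255
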