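import Cfsg.Statements.S1910
import Cfsg.Agent.S0520
import Cfsg.Agent.S5255
import Cfsg.Agent.Lib.Helper11.WeaklyClosed

set_option autoImplicit false
open Cfsg

namespace Cfsg.Agent.S1910

open Subgroup Cfsg.Agent.Lib.Helper11
open Cfsg.Agent.S0520 (cj mem_cj conj_mem_cj cj_one cj_mul cj_inv_cj cj_cj_inv cj_mono card_cj)

section Generic

variable {G : Type*} [Group G]

/-- a 2-subgroup of a subgroup of odd order is trivial -/
theorem eq_bot_of_two_odd [Finite G] {H K : Subgroup G} (hH : IsPGroup 2 H) (hle : H ≤ K)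
    (hK : Odd (Nat.card K)) : H = ⊥ := by
  haveI : Fact (Nat.Prime 2) := ⟨Nat.prime_two⟩
  obtain ⟨n, hn⟩ := hH.exists_card_eq
  have hdvd : Nat.card H ∣ Nat.card K := Subgroup.card_dvd_of_le hle
  rw [← Subgroup.card_eq_one]
  rcases n with _ | n
  · simpa using hn
  · exfalso
    have h2 : 2 ∣ Nat.card K := dvd_trans ⟨2 ^ n, by rw [hn, pow_succ, mul_comm]⟩ hdvd
    exact (Nat.not_even_iff_odd.2 hK) (even_iff_two_dvd.2 h2)

theorem cj_le_of_mem_normalizer {A U : Subgroup G} {y : G} (hy : y ∈ normalizer (A : Set G))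
    (hU : U ≤ A) : cj y U ≤ A := by
  intro u hu
  rw [mem_cj] at hu
  have h1 := (mem_normalizer_iff.1 hy (y⁻¹ * u * y)).1 (hU hu)
  have : y * (y⁻¹ * u * y) * y⁻¹ = u := by group
  rwa [this] at h1

theorem mem_normalizer_of_cj_le [Finite G] {T : Subgroup G} {x : G} (h : cj x T ≤ T) :
    x ∈ normalizer (T : Set G) := by
  have heq : cj x T = T := Subgroup.eq_of_le_of_card_ge h (by rw [card_cj])
  rw [mem_normalizer_iff]
  intro t
  constructor
  · intro ht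
    rw [← heq]
    exact conj_mem_cj ht
  · intro ht
    rw [← heq, mem_cj] at ht
    have : x⁻¹ * (x * t * x⁻¹) * x = t := by group
    rwa [this] at ht

/-- relative Sylow: conjugacy -/
theorem exists_cj_le_rel [Finite G] {p : ℕ} [Fact p.Prime] {S K U : Subgroup G}
    (hS : IsPGroup p S) (hidx : ¬ p ∣ S.relIndex K) (hUK : U ≤ K) (hU : IsPGroup p U) :
    ∃ y ∈ K, cj y U ≤ S := by
  have hS' : IsPGroup p (S.subgroupOf K) := hS.comap_subtype
  obtain ⟨P, hP⟩ : ∃ P : Sylow p K, (P : Subgroup K) = S.subgroupOf K :=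
    ⟨hS'.toSylow hidx, rfl⟩
  have hU' : IsPGroup p (U.subgroupOf K) := hU.comap_subtype
  obtain ⟨T, hT⟩ := hU'.exists_le_sylow
  obtain ⟨δ, hδ⟩ := MulAction.exists_smul_eq K T P
  refine ⟨δ, δ.2, ?_⟩
  intro x hx
  rw [mem_cj] at hx
  have hxK : x ∈ K := by
    have : x = (δ : G) * ((δ : G)⁻¹ * x * (δ : G)) * (δ : G)⁻¹ := by simp [mul_assoc]
    rw [this]
    exact mul_mem (mul_mem δ.2 (hUK hx)) (inv_mem δ.2)
  have h1 : (⟨(δ : G)⁻¹ * x * δ, hUK hx⟩ : K) ∈ (T : Subgroup K) := hT (mem_subgroupOf.2 hx)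
  have h2 : (⟨x, hxK⟩ : K) ∈ ((δ • T : Sylow p K) : Subgroup K) := by
    rw [mem_smul_sylow_iff]
    exact h1
  rw [hδ, hP, mem_subgroupOf] at h2
  exact h2

/-- relative Sylow: maximality -/
theorem eq_of_rel_le [Finite G] {p : ℕ} [Fact p.Prime] {T T' K : Subgroup G}
    (hidx : ¬ p ∣ T.relIndex K) (hTT' : T ≤ T') (hT'K : T' ≤ K) (hT' : IsPGroup p T') :
    T' = T := by
  have h1 : T.relIndex T' * T'.relIndex K = T.relIndex K :=
    Subgroup.relIndex_mul_relIndex T T' K hTT' hT'K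
  have h2 : ¬ p ∣ T.relIndex T' := fun h => hidx (h1 ▸ dvd_mul_of_dvd_left h _)
  obtain ⟨k, hk⟩ := hT'.exists_card_eq
  have h3 : T.relIndex T' ∣ p ^ k := hk ▸ (Subgroup.index_dvd_card _)
  obtain ⟨n, -, hn⟩ := (Nat.dvd_prime_pow (Fact.out)).1 h3
  rcases n with _ | n
  · exact le_antisymm (Subgroup.relIndex_eq_one.1 (by simpa using hn)) hTT'
  · exact absurd (hn ▸ dvd_pow_self p (Nat.succ_ne_zero n)) h2

/-- relative Sylow: existence above a given `p`-subgroup -/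
theorem exists_rel_sylow_ge [Finite G] {p : ℕ} [Fact p.Prime] {U K : Subgroup G}
    (hUK : U ≤ K) (hU : IsPGroup p U) :
    ∃ T : Subgroup G, U ≤ T ∧ T ≤ K ∧ IsPGroup p T ∧ ¬ p ∣ T.relIndex K := by
  have hU' : IsPGroup p (U.subgroupOf K) := hU.comap_subtype
  obtain ⟨P, hP⟩ := hU'.exists_le_sylow
  refine ⟨(P : Subgroup K).map K.subtype, ?_, ?_, ?_, ?_⟩
  · intro u hu
    exact ⟨⟨u, hUK hu⟩, hP (mem_subgroupOf.2 hu), rfl⟩
  · rintro _ ⟨k, -, rfl⟩
    exact k.2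
  · exact P.2.map _
  · have : ((P : Subgroup K).map K.subtype).subgroupOf K = (P : Subgroup K) := by
      ext k
      rw [mem_subgroupOf]
      constructor
      · rintro ⟨k', hk', hkk'⟩
        have : k' = k := Subtype.ext hkk'
        rwa [← this]
      · intro hk
        exact ⟨k, hk, rfl⟩
    rw [Subgroup.relIndex, this]
    exact P.not_dvd_index

end Generic

section Main

variable {G : Type*} [Group G]

/-- the "odd intersection with conjugates" half of tight embedding -/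
def TI2 (K : Subgroup G) : Prop :=
  ∀ x : G, x ∉ normalizer (K : Set G) → Odd (Nat.card ↥(K ⊓ cj x K))

theorem TI2.conj {K : Subgroup G} (h : TI2 K) (g : G) : TI2 (cj g K) := by
  intro x hx
  have hy : g⁻¹ * x * g ∉ normalizer (K : Set G) := by
    intro hy
    apply hx
    rw [mem_normalizer_iff]
    intro u
    rw [mem_cj, mem_cj]
    have := mem_normalizer_iff.1 hy (g⁻¹ * u * g)
    have e : g⁻¹ * x * g * (g⁻¹ * u * g) * (g⁻¹ * x * g)⁻¹ = g⁻¹ * (x * u * x⁻¹) * g := by group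
    rwa [e] at this
  have h1 := h _ hy
  have e : cj g (K ⊓ cj (g⁻¹ * x * g) K) = cj g K ⊓ cj x (cj g K) := by
    ext u
    rw [mem_cj, Subgroup.mem_inf, Subgroup.mem_inf, mem_cj, mem_cj, mem_cj, mem_cj]
    have e1 : (g⁻¹ * x * g)⁻¹ * (g⁻¹ * u * g) * (g⁻¹ * x * g) = g⁻¹ * (x⁻¹ * u * x) * g := by
      group
    rw [e1]
  rw [← e, card_cj]
  exact h1

variable [Finite G] {A B T S : Subgroup G}

/-- basic facts -/
theorem basic (hAB : Odd (Nat.card ↥(A ⊓ B)))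
    (hTB : T ≤ B) (hTA : T ≤ normalizer (A : Set G)) (hT2 : IsPGroup 2 T)
    (hTS : T ≤ S) (hS : S ≤ A ⊔ T) :
    T ⊓ A = ⊥ ∧
    (∀ t ∈ T, ∀ r ∈ S ⊓ normalizer (T : Set G) ⊓ A, t * r = r * t) ∧
    (∀ n ∈ S ⊓ normalizer (T : Set G), ∃ t ∈ T, ∃ r ∈ S ⊓ normalizer (T : Set G) ⊓ A,
      n = t * r) := by
  have h1 : T ⊓ A = ⊥ :=
    eq_bot_of_two_odd (hT2.to_le inf_le_left) (le_inf inf_le_right (inf_le_left.trans hTB)) hAB
  refine ⟨h1, ?_, ?_⟩
  · intro t ht r hr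
    have hrN : r ∈ normalizer (T : Set G) := hr.1.2
    have hrA : r ∈ A := hr.2
    have hc : t * r * t⁻¹ * r⁻¹ ∈ T ⊓ A := by
      refine Subgroup.mem_inf.2 ⟨?_, ?_⟩
      · have h2 : r * t⁻¹ * r⁻¹ ∈ T := (mem_normalizer_iff.1 hrN t⁻¹).1 (inv_mem ht)
        have : t * r * t⁻¹ * r⁻¹ = t * (r * t⁻¹ * r⁻¹) := by group
        rw [this]
        exact mul_mem ht h2
      · have h2 : t * r * t⁻¹ ∈ A := (mem_normalizer_iff.1 (hTA ht) r).1 hrA
        exact mul_mem h2 (inv_mem hrA)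
    rw [h1, Subgroup.mem_bot] at hc
    calc t * r = (t * r * t⁻¹ * r⁻¹) * (r * t) := by group
      _ = r * t := by rw [hc, one_mul]
  · intro n hn
    have hn' : n ∈ T ⊔ A := by
      rw [sup_comm]
      exact hS hn.1
    obtain ⟨t, ht, a, ha, hnta⟩ := Cfsg.Agent.S5255.exists_mul_of_mem_sup T A
      (fun t ht a ha => (mem_normalizer_iff.1 (hTA ht) a).1 ha) hn'
    refine ⟨t, ht, a, ?_, hnta⟩
    have hTN : T ≤ S ⊓ normalizer (T : Set G) := le_inf hTS le_normalizer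
    have : a = t⁻¹ * n := by rw [hnta]; group
    refine Subgroup.mem_inf.2 ⟨?_, ha⟩
    rw [this]
    exact mul_mem (inv_mem (hTN ht)) hn

theorem lemmaA (g : G) (hB : B = cj g A) (hBti : TI2 B)
    (hAB : Odd (Nat.card ↥(A ⊓ B)))
    (hT1 : T ≠ ⊥) (hTB : T ≤ B) (hTA : T ≤ normalizer (A : Set G)) (hT2 : IsPGroup 2 T)
    (hTidx : ¬ 2 ∣ T.relIndex (B ⊓ normalizer (A : Set G)))
    (hTS : T ≤ S) (hS : S ≤ A ⊔ T) (hS2 : IsPGroup 2 S) (hSidx : ¬ 2 ∣ S.relIndex (A ⊔ T)) :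
    S ⊓ normalizer (T : Set G) ⊓ A ≤ normalizer (B : Set G) ∧
    Nat.card T ≤ Nat.card ↥(S ⊓ normalizer (T : Set G) ⊓ A) ∧
    (Nat.card ↥(S ⊓ normalizer (T : Set G) ⊓ A) = Nat.card T →
      Nonempty (↥(S ⊓ normalizer (T : Set G) ⊓ A) ≃* T)) := by
  haveI : Fact (Nat.Prime 2) := ⟨Nat.prime_two⟩
  obtain ⟨hTA0, hcomm, hdec⟩ := basic hAB hTB hTA hT2 hTS hS
  have hATN : A ⊔ T ≤ normalizer (A : Set G) := sup_le le_normalizer hTA
  refine ⟨?_, ?_⟩
  · intro x hx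
    by_contra hxB
    have hodd := hBti x hxB
    apply hT1
    refine eq_bot_of_two_odd hT2 (le_inf hTB ?_) hodd
    intro t ht
    rw [mem_cj]
    have h1 := hcomm t ht x hx
    have : x⁻¹ * t * x = t := by
      calc x⁻¹ * t * x = x⁻¹ * (t * x) := by group
        _ = x⁻¹ * (x * t) := by rw [h1]
        _ = t := by group
    rw [this]
    exact hTB ht
  by_cases hN : S ⊓ normalizer (T : Set G) = S
  · -- `S` normalizes `T`
    rw [hN]
    have hT0A : cj g⁻¹ T ≤ A := by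
      have := cj_mono g⁻¹ hTB
      rwa [hB, cj_inv_cj] at this
    have hT0p : IsPGroup 2 (cj g⁻¹ T) := hT2.map _
    obtain ⟨y, hyK, hy⟩ := exists_cj_le_rel hS2 hSidx (hT0A.trans le_sup_left) hT0p
    have hyA : cj y (cj g⁻¹ T) ≤ A := cj_le_of_mem_normalizer (hATN hyK) hT0A
    have hle : cj y (cj g⁻¹ T) ≤ S ⊓ A := le_inf hy hyA
    have hcard : Nat.card (cj y (cj g⁻¹ T)) = Nat.card T := by rw [card_cj, card_cj]
    refine ⟨?_, ?_⟩
    · rw [← hcard]
      exact Subgroup.card_le_of_le hle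
    · intro heq
      have heq' : cj y (cj g⁻¹ T) = S ⊓ A :=
        Subgroup.eq_of_le_of_card_ge hle (by rw [hcard, heq])
      have e1 : T ≃* cj g⁻¹ T :=
        T.equivMapOfInjective (MulAut.conj g⁻¹).toMonoidHom (MulAut.conj g⁻¹).injective
      have e2 : cj g⁻¹ T ≃* cj y (cj g⁻¹ T) :=
        (cj g⁻¹ T).equivMapOfInjective (MulAut.conj y).toMonoidHom (MulAut.conj y).injective
      exact ⟨((e1.trans e2).trans (MulEquiv.subgroupCongr heq')).symm⟩
  · -- `N_S(T) < S`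
    have hlt : S ⊓ normalizer (T : Set G) < S := lt_of_le_of_ne inf_le_left hN
    obtain ⟨x, hxS, hxN, hxn⟩ := Cfsg.Agent.S5255.exists_normalizer_not_mem (p := 2) _ S hS2 hlt
    have hxT : x ∉ normalizer (T : Set G) := fun h => hxn (Subgroup.mem_inf.2 ⟨hxS, h⟩)
    have hT'N : cj x T ≤ S ⊓ normalizer (T : Set G) :=
      cj_le_of_mem_normalizer hxN (le_inf hTS le_normalizer)
    have hxB : x ∉ normalizer (B : Set G) := by
      intro hxB
      apply hxT
      apply mem_normalizer_of_cj_le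
      have h1 : cj x T ≤ B := cj_le_of_mem_normalizer hxB hTB
      have h2 : S ⊓ B = T := by
        apply eq_of_rel_le hTidx (le_inf hTS hTB) _ (hS2.to_le inf_le_left)
        exact le_inf inf_le_right (inf_le_left.trans (hS.trans hATN))
      exact (le_inf (hT'N.trans inf_le_left) h1).trans h2.le
    have hodd := hBti x hxB
    have hTT' : cj x T ⊓ T = ⊥ :=
      eq_bot_of_two_odd (hT2.to_le inf_le_right)
        (le_inf (inf_le_right.trans hTB) (inf_le_left.trans (cj_mono x hTB))) hodd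
    -- quotient of `N = N_S(T)` by `T`
    set N : Subgroup G := S ⊓ normalizer (T : Set G) with hNdef
    have hTN : T ≤ N := le_inf hTS le_normalizer
    haveI hnorm : (T.subgroupOf N).Normal :=
      (Subgroup.normal_subgroupOf_iff_le_normalizer hTN).2 inf_le_right
    let φ : N →* N ⧸ T.subgroupOf N := QuotientGroup.mk' _
    let φR : ↥(N ⊓ A) →* N ⧸ T.subgroupOf N := φ.comp (Subgroup.inclusion inf_le_left)
    let φT : ↥(cj x T) →* N ⧸ T.subgroupOf N := φ.comp (Subgroup.inclusion hT'N)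
    have hRinj : Function.Injective φR := by
      rw [injective_iff_map_eq_one]
      intro r hr
      have h1 : Subgroup.inclusion inf_le_left r ∈ T.subgroupOf N :=
        (QuotientGroup.eq_one_iff _).1 hr
      rw [mem_subgroupOf] at h1
      have h2 : (r : G) ∈ T ⊓ A := ⟨h1, r.2.2⟩
      rw [hTA0, mem_bot] at h2
      exact Subtype.ext h2
    have hRsurj : Function.Surjective φR := by
      intro q
      obtain ⟨n, rfl⟩ := QuotientGroup.mk_surjective q
      obtain ⟨t, ht, r, hr, hntr⟩ := hdec n n.2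
      refine ⟨⟨r, hr⟩, ?_⟩
      show φ (Subgroup.inclusion inf_le_left ⟨r, hr⟩) = φ n
      have e : n = ⟨t, hTN ht⟩ * Subgroup.inclusion inf_le_left ⟨r, hr⟩ := Subtype.ext hntr
      rw [e, map_mul]
      have e1 : φ ⟨t, hTN ht⟩ = 1 := (QuotientGroup.eq_one_iff _).2 (mem_subgroupOf.2 ht)
      rw [e1, one_mul]
    have hTinj : Function.Injective φT := by
      rw [injective_iff_map_eq_one]
      intro u hu
      have h1 : Subgroup.inclusion hT'N u ∈ T.subgroupOf N :=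
        (QuotientGroup.eq_one_iff _).1 hu
      rw [mem_subgroupOf] at h1
      have h2 : (u : G) ∈ cj x T ⊓ T := ⟨u.2, h1⟩
      rw [hTT', mem_bot] at h2
      exact Subtype.ext h2
    have hcR : Nat.card ↥(N ⊓ A) = Nat.card (N ⧸ T.subgroupOf N) :=
      Nat.card_congr (Equiv.ofBijective φR ⟨hRinj, hRsurj⟩)
    have hcT : Nat.card (cj x T) = Nat.card T := card_cj x T
    refine ⟨?_, ?_⟩
    · rw [← hcT, hcR]
      exact Nat.card_le_card_of_injective φT hTinj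
    · intro heq
      have hTbij : Function.Bijective φT := by
        apply Function.Injective.bijective_of_nat_card_le hTinj
        rw [← hcR, heq, hcT]
      have e1 : ↥(N ⊓ A) ≃* N ⧸ T.subgroupOf N := MulEquiv.ofBijective φR ⟨hRinj, hRsurj⟩
      have e2 : ↥(cj x T) ≃* N ⧸ T.subgroupOf N := MulEquiv.ofBijective φT hTbij
      have e3 : T ≃* cj x T :=
        T.equivMapOfInjective (MulAut.conj x).toMonoidHom (MulAut.conj x).injective
      exact ⟨e1.trans (e2.symm.trans e3.symm)⟩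

end Main

/-- Let Q be a tightly embedded subgroup of a finite group G, g an element outside N_G(Q), T a nontrivial Sylow 2-subgroup of Q^g ∩ N_G(Q), and S a Sylow 2-subgroup of QT containing T. Then T ∩ Q = 1, and N_S(T) is the direct product of T and N_S(T) ∩ Q, with N_S(T) ∩ Q isomorphic to T. -/
theorem result {G : Type*} [Group G] [Finite G] (Q : Subgroup G) (hQ : Cfsg.IsTightlyEmbedded Q)
    (g : G) (hg : g ∉ Subgroup.normalizer (Q : Set G))
    (T : Subgroup G) (hT1 : T ≠ ⊥) (hT : T ≤ Q.map (MulAut.conj g).toMonoidHom ⊓ Subgroup.normalizer (Q : Set G))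
    (hTsyl : IsPGroup 2 T ∧ ¬ 2 ∣ T.relIndex (Q.map (MulAut.conj g).toMonoidHom ⊓ Subgroup.normalizer (Q : Set G)))
    (S : Subgroup G) (hTS : T ≤ S) (hS : S ≤ Q ⊔ T) (hSsyl : IsPGroup 2 S ∧ ¬ 2 ∣ S.relIndex (Q ⊔ T)) :
    T ⊓ Q = ⊥ ∧
      T ⊓ (S ⊓ Subgroup.normalizer (T : Set G) ⊓ Q) = ⊥ ∧
      ⁅T, S ⊓ Subgroup.normalizer (T : Set G) ⊓ Q⁆ = ⊥ ∧
      T ⊔ (S ⊓ Subgroup.normalizer (T : Set G) ⊓ Q) = S ⊓ Subgroup.normalizer (T : Set G) ∧
      Nonempty (↥(S ⊓ Subgroup.normalizer (T : Set G) ⊓ Q) ≃* T) := by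
  haveI : Fact (Nat.Prime 2) := ⟨Nat.prime_two⟩
  have hti : TI2 Q := hQ.2
  have hTB : T ≤ cj g Q := hT.trans inf_le_left
  have hTA : T ≤ normalizer (Q : Set G) := hT.trans inf_le_right
  have hAB : Odd (Nat.card ↥(Q ⊓ cj g Q)) := hQ.2 g hg
  have hTidx : ¬ 2 ∣ T.relIndex (cj g Q ⊓ normalizer (Q : Set G)) := hTsyl.2
  obtain ⟨hTA0, hcomm, hdec⟩ := basic hAB hTB hTA hTsyl.1 hTS hS
  obtain ⟨hRB, hle, hiso⟩ := lemmaA g rfl (hti.conj g) hAB hT1 hTB hTA hTsyl.1 hTidx hTS hS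
    hSsyl.1 hSsyl.2
  -- the mirrored configuration
  have hR2 : IsPGroup 2 ↥(S ⊓ normalizer (T : Set G) ⊓ Q) :=
    hSsyl.1.to_le (inf_le_left.trans inf_le_left)
  have hRK : S ⊓ normalizer (T : Set G) ⊓ Q ≤ Q ⊓ normalizer (cj g Q : Set G) :=
    le_inf inf_le_right hRB
  obtain ⟨T', hRT', hT'K, hT'2, hT'idx⟩ := exists_rel_sylow_ge hRK hR2
  have hT'B : T' ≤ cj g Q ⊔ T' := le_sup_right
  obtain ⟨S', hT'S', hS'K, hS'2, hS'idx⟩ := exists_rel_sylow_ge hT'B hT'2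
  have hT1' : T' ≠ ⊥ := by
    intro h
    have hR1 : S ⊓ normalizer (T : Set G) ⊓ Q = ⊥ := le_bot_iff.1 (h ▸ hRT')
    rw [hR1] at hle
    apply hT1
    rw [← Subgroup.card_eq_one]
    have := Nat.card_pos (α := T)
    have h1 : Nat.card (⊥ : Subgroup G) = 1 := Subgroup.card_bot
    omega
  have hBA : Q = cj g⁻¹ (cj g Q) := (cj_inv_cj g Q).symm
  have hAB' : Odd (Nat.card ↥(cj g Q ⊓ Q)) := by rw [inf_comm]; exact hAB
  obtain ⟨hR'Q, hle', -⟩ := lemmaA (A := cj g Q) (B := Q) (T := T') (S := S') g⁻¹ hBA hti hAB'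
    hT1' (hT'K.trans inf_le_left) (hT'K.trans inf_le_right) hT'2 hT'idx hT'S' hS'K hS'2 hS'idx
  have hR'2 : IsPGroup 2 ↥(S' ⊓ normalizer (T' : Set G) ⊓ cj g Q) :=
    hS'2.to_le (inf_le_left.trans inf_le_left)
  have hR'K : S' ⊓ normalizer (T' : Set G) ⊓ cj g Q ≤ cj g Q ⊓ normalizer (Q : Set G) :=
    le_inf inf_le_right hR'Q
  obtain ⟨y, -, hy⟩ := exists_cj_le_rel hTsyl.1 hTidx hR'K hR'2
  have h1 : Nat.card ↥(S' ⊓ normalizer (T' : Set G) ⊓ cj g Q) ≤ Nat.card T := by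
    rw [← card_cj y]
    exact Subgroup.card_le_of_le hy
  have h2 : Nat.card ↥(S ⊓ normalizer (T : Set G) ⊓ Q) ≤ Nat.card T' :=
    Subgroup.card_le_of_le hRT'
  have heq : Nat.card ↥(S ⊓ normalizer (T : Set G) ⊓ Q) = Nat.card T := by omega
  refine ⟨hTA0, ?_, ?_, ?_, hiso heq⟩
  · rw [eq_bot_iff, ← hTA0]
    exact le_inf inf_le_left (inf_le_right.trans inf_le_right)
  · rw [Subgroup.commutator_eq_bot_iff_le_centralizer]
    intro t ht r hr
    exact (hcomm t ht r hr).symm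
  · apply le_antisymm
    · exact sup_le (le_inf hTS le_normalizer) inf_le_left
    · intro n hn
      obtain ⟨t, ht, r, hr, rfl⟩ := hdec n hn
      exact mul_mem (mem_sup_left ht) (mem_sup_right hr)

end Cfsg.Agent.S1910
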