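import Cfsg.Statements.S2005
import Cfsg.Agent.S0072
import Cfsg.Agent.S1910
import Cfsg.Agent.Lib.Helper13.NPC
import Cfsg.Agent.Lib.Helper16.PClosedQuot
import Cfsg.Agent.Lib.Helper20.PConstrainedFusion
import Cfsg.Agent.Lib.Helper20.PSolvable

set_option autoImplicit false
set_option linter.unusedSectionVars false
open Cfsg

universe u

namespace Cfsg.Agent.S2005

open Subgroup Cfsg.Agent.Lib.Helper13

section Functor

variable {p : ℕ} [Fact p.Prime] {W : ∀ (Q : Type u) [Group Q], Subgroup Q}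

/-- naturality of the induced functor along a homomorphism injective on the subgroup -/
theorem induced_map (hW : Cfsg.IsCharPFunctor.{u} p W) {X X' : Type u} [Group X] [Group X']
    (φ : X →* X') (A : Subgroup X) [Finite A] (hA : IsPGroup p A)
    (hinj : ∀ a ∈ A, φ a = 1 → a = 1) :
    Cfsg.inducedFunctor W (A.map φ) = (Cfsg.inducedFunctor W A).map φ := by
  have hbij : Function.Bijective (φ.subgroupMap A) := by
    refine ⟨?_, φ.subgroupMap_surjective A⟩
    rw [injective_iff_map_eq_one]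
    intro a ha
    apply Subtype.ext
    apply hinj a a.2
    have := congrArg Subtype.val ha
    simpa using this
  let ψ : A ≃* A.map φ := MulEquiv.ofBijective (φ.subgroupMap A) hbij
  have h := hW.2 A (A.map φ) hA ψ
  unfold Cfsg.inducedFunctor
  rw [← h, Subgroup.map_map, Subgroup.map_map]
  congr 1

theorem induced_map_eq (hW : Cfsg.IsCharPFunctor.{u} p W) {X X' : Type u} [Group X] [Group X']
    (φ : X →* X') (A : Subgroup X) [Finite A] (hA : IsPGroup p A)
    (hinj : ∀ a ∈ A, φ a = 1 → a = 1) {B : Subgroup X'} (hB : A.map φ = B) :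
    Cfsg.inducedFunctor W B = (Cfsg.inducedFunctor W A).map φ := by
  rw [← hB]
  exact induced_map hW φ A hA hinj

theorem induced_le {X : Type u} [Group X] (A : Subgroup X) :
    Cfsg.inducedFunctor W A ≤ A := by
  unfold Cfsg.inducedFunctor
  rintro _ ⟨a, -, rfl⟩
  exact a.2

theorem induced_ne_bot (hW : Cfsg.IsCharPFunctor.{u} p W) {X : Type u} [Group X]
    (A : Subgroup X) [Finite A] (hA : IsPGroup p A) (hne : A ≠ ⊥) :
    Cfsg.inducedFunctor W A ≠ ⊥ := by
  haveI : Nontrivial A := by
    rw [Subgroup.nontrivial_iff_ne_bot]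
    exact hne
  have h1 := hW.1 A hA inferInstance
  unfold Cfsg.inducedFunctor
  intro h
  apply h1
  rw [Subgroup.map_eq_bot_iff_of_injective _ A.subtype_injective] at h
  exact h

/-- the normalizer of a finite `p`-subgroup normalizes its image under the functor -/
theorem normalizer_le_normalizer_induced (hW : Cfsg.IsCharPFunctor.{u} p W) {X : Type u} [Group X]
    (A : Subgroup X) [Finite A] (hA : IsPGroup p A) :
    normalizer (A : Set X) ≤ normalizer ((Cfsg.inducedFunctor W A : Subgroup X) : Set X) := by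
  intro g hg
  rw [mem_normalizer_iff_map_conj_eq] at hg ⊢
  have := induced_map_eq hW (MulAut.conj g).toMonoidHom A hA
    (fun a _ h => (MulAut.conj g).injective (by simpa using h)) hg
  exact this.symm

end Functor

section Local

variable (p : ℕ) [Fact p.Prime] (W : ∀ (Q : Type u) [Group Q], Subgroup Q)

/-- the local condition on a single group -/
def Loc (Y : Type u) [Group Y] : Prop :=
  Subgroup.centralizer ((Cfsg.pCore p Y : Subgroup Y) : Set Y) ≤ Cfsg.pCore p Y →
  Cfsg.HasNormalPComplement p (Y ⧸ Cfsg.pCore p Y) →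
  ∀ T : Sylow p Y, IsCoatom (T : Subgroup Y) →
    (Cfsg.inducedFunctor (G := Y) W (T : Subgroup Y)).Normal

variable {p W}

theorem map_pCore_equiv {Y₁ Y₂ : Type u} [Group Y₁] [Group Y₂] [Finite Y₁] (e : Y₁ ≃* Y₂) :
    (Cfsg.pCore p Y₁).map e.toMonoidHom = Cfsg.pCore p Y₂ := by
  apply Cfsg.Agent.Lib.Helper16.map_pCore_of_surjective e.toMonoidHom e.surjective
  have : e.toMonoidHom.ker = ⊥ := (MonoidHom.ker_eq_bot_iff _).2 e.injective
  rw [this]
  exact IsPGroup.of_bot

theorem Loc.of_equiv (hW : Cfsg.IsCharPFunctor.{u} p W) {Y₁ Y₂ : Type u} [Group Y₁] [Group Y₂]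
    [Finite Y₁] (e : Y₁ ≃* Y₂) (h : Loc p W Y₁) : Loc p W Y₂ := by
  haveI : Finite Y₂ := Finite.of_equiv _ e.toEquiv
  intro hC hN T hT
  have hO : (Cfsg.pCore p Y₁).map e.toMonoidHom = Cfsg.pCore p Y₂ := map_pCore_equiv e
  have hmemO : ∀ y : Y₁, y ∈ Cfsg.pCore p Y₁ ↔ e y ∈ Cfsg.pCore p Y₂ := by
    intro y
    rw [← hO]
    constructor
    · intro hy
      exact ⟨y, hy, rfl⟩
    · rintro ⟨y', hy', hyy'⟩
      have : y' = y := e.injective hyy'
      rwa [← this]
  have hC₁ : Subgroup.centralizer ((Cfsg.pCore p Y₁ : Subgroup Y₁) : Set Y₁) ≤ Cfsg.pCore p Y₁ := by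
    intro x hx
    rw [hmemO]
    apply hC
    rw [Subgroup.mem_centralizer_iff]
    intro y₂ hy₂
    obtain ⟨y₁, rfl⟩ := e.surjective y₂
    have h1 : y₁ ∈ Cfsg.pCore p Y₁ := (hmemO y₁).2 hy₂
    have h2 := Subgroup.mem_centralizer_iff.1 hx y₁ h1
    rw [← map_mul, ← map_mul, h2]
  have hN₁ : Cfsg.HasNormalPComplement p (Y₁ ⧸ Cfsg.pCore p Y₁) := by
    rw [npc_iff] at hN ⊢
    exact NPC.of_equiv (QuotientGroup.congr (Cfsg.pCore p Y₁) (Cfsg.pCore p Y₂) e hO).symm hN
  -- the Sylow subgroup of `Y₁`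
  let T₁ : Sylow p Y₁ := T.comapOfInjective e.toMonoidHom e.injective
    (by rw [MonoidHom.range_eq_top.2 e.surjective]; exact le_top)
  have hT₁ : (T₁ : Subgroup Y₁) = (T : Subgroup Y₂).comap e.toMonoidHom := rfl
  have hmap : (T₁ : Subgroup Y₁).map e.toMonoidHom = (T : Subgroup Y₂) := by
    rw [hT₁, Subgroup.map_comap_eq_self_of_surjective e.surjective]
  have hco : IsCoatom (T₁ : Subgroup Y₁) := by
    have := (e.comapSubgroup).isCoatom_iff (a := (T : Subgroup Y₂))
    exact this.2 hT
  have hn := h hC₁ hN₁ T₁ hco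
  have heq := induced_map_eq hW e.toMonoidHom (T₁ : Subgroup Y₁) T₁.2
    (fun a _ ha => e.injective (by simpa using ha)) hmap
  rw [heq]
  exact hn.map e.toMonoidHom e.surjective

variable (p W)

/-- `Y` is a section of `X` -/
def IsSec (Y : Type u) [Group Y] (X : Type u) [Group X] : Prop :=
  ∃ (K : Subgroup X) (f : K →* Y), Function.Surjective f

/-- every section satisfies the local condition -/
def SecLoc (X : Type u) [Group X] : Prop :=
  ∀ (Y : Type u) [Group Y] [Finite Y], IsSec Y X → Loc p W Y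

variable {p W}

theorem IsSec.refl (X : Type u) [Group X] : IsSec X X :=
  ⟨⊤, (Subgroup.topEquiv : (⊤ : Subgroup X) ≃* X).toMonoidHom,
    (Subgroup.topEquiv : (⊤ : Subgroup X) ≃* X).surjective⟩

theorem IsSec.of_subgroup {Y X : Type u} [Group Y] [Group X] (H : Subgroup X)
    (h : IsSec Y H) : IsSec Y X := by
  obtain ⟨K, f, hf⟩ := h
  refine ⟨K.map H.subtype,
    f.comp (K.equivMapOfInjective H.subtype H.subtype_injective).symm.toMonoidHom, ?_⟩
  exact hf.comp (MulEquiv.surjective _)

theorem IsSec.of_quotient {Y X : Type u} [Group Y] [Group X] (N : Subgroup X) [N.Normal]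
    (h : IsSec Y (X ⧸ N)) : IsSec Y X := by
  obtain ⟨K, f, hf⟩ := h
  refine ⟨K.comap (QuotientGroup.mk' N), f.comp ((QuotientGroup.mk' N).subgroupComap K), ?_⟩
  apply hf.comp
  exact MonoidHom.subgroupComap_surjective_of_surjective _ _ (QuotientGroup.mk'_surjective N)

theorem SecLoc.subgroup {X : Type u} [Group X] (h : SecLoc p W X) (H : Subgroup X) :
    SecLoc p W H := fun Y _ _ hY => h Y (IsSec.of_subgroup H hY)

theorem SecLoc.quotient {X : Type u} [Group X] (h : SecLoc p W X) (N : Subgroup X) [N.Normal] :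
    SecLoc p W (X ⧸ N) := fun Y _ _ hY => h Y (IsSec.of_quotient N hY)

theorem secLoc_of_hloc (hW : Cfsg.IsCharPFunctor.{u} p W) {G : Type u} [Group G] [Finite G]
    (hloc : ∀ (K R : Subgroup G) [hR : (R.subgroupOf K).Normal], Loc p W (↥K ⧸ R.subgroupOf K)) :
    SecLoc p W G := by
  rintro Y _ _ ⟨K, f, hf⟩
  have hRK : (f.ker.map K.subtype).subgroupOf K = f.ker :=
    Subgroup.comap_map_eq_self_of_injective K.subtype_injective _
  haveI : ((f.ker.map K.subtype).subgroupOf K).Normal := by rw [hRK]; infer_instance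
  have e : ↥K ⧸ (f.ker.map K.subtype).subgroupOf K ≃* Y :=
    (QuotientGroup.quotientMulEquivOfEq hRK).trans (QuotientGroup.quotientKerEquivOfSurjective f hf)
  exact Loc.of_equiv hW e (hloc K (f.ker.map K.subtype))

variable (p W)

/-- the global hypothesis: the normalizer of `W(S)` has a normal `p`-complement -/
def HypN (X : Type u) [Group X] : Prop :=
  ∃ S : Sylow p X,
    NPC p ↥(normalizer ((Cfsg.inducedFunctor W (S : Subgroup X) : Subgroup X) : Set X))

variable {p W}

theorem HypN.all (hW : Cfsg.IsCharPFunctor.{u} p W) {X : Type u} [Group X] [Finite X]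
    (h : HypN p W X) (S' : Sylow p X) :
    NPC p ↥(normalizer ((Cfsg.inducedFunctor W (S' : Subgroup X) : Subgroup X) : Set X)) := by
  obtain ⟨S, hS⟩ := h
  obtain ⟨g, hg⟩ := MulAction.exists_smul_eq X S S'
  have hmap : (S : Subgroup X).map (MulAut.conj g).toMonoidHom = (S' : Subgroup X) := by
    rw [← hg]; rfl
  have heq := induced_map_eq hW (MulAut.conj g).toMonoidHom (S : Subgroup X) S.2
    (fun a _ h => (MulAut.conj g).injective (by simpa using h)) hmap
  rw [heq, ← Subgroup.map_equiv_normalizer_eq _ (MulAut.conj g)]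
  exact NPC.of_equiv ((normalizer _).equivMapOfInjective _ (MulAut.conj g).injective) hS

/-- a `p`-subgroup of `M` has order at most the `p`-part of `|M|` -/
theorem card_le_pp {X : Type u} [Group X] [Finite X] {Q M : Subgroup X} (hQM : Q ≤ M)
    (hQ : IsPGroup p Q) : Nat.card Q ≤ p ^ (Nat.card M).factorization p := by
  have hp : p.Prime := Fact.out
  obtain ⟨k, hk⟩ := IsPGroup.iff_card.mp hQ
  have hdvd : Nat.card Q ∣ Nat.card M := Subgroup.card_dvd_of_le hQM
  rw [hk] at hdvd ⊢
  have hM0 : Nat.card M ≠ 0 := Nat.card_pos.ne'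
  exact Nat.pow_le_pow_right hp.pos ((hp.pow_dvd_iff_le_factorization hM0).1 hdvd)

theorem sylow_card_eq_pp {X : Type u} [Group X] [Finite X] (S : Sylow p X) :
    Nat.card S = p ^ (Nat.card X).factorization p := S.card_eq_multiplicity

/-- `A` is a relative Sylow subgroup of `A ⊔ Y` when `Y` is a normal `p'`-subgroup -/
theorem not_dvd_relIndex_sup {X : Type u} [Group X] [Finite X] (A Y : Subgroup X) [Y.Normal]
    (hY : (Nat.card Y).Coprime p) : ¬ p ∣ A.relIndex (A ⊔ Y) := by
  have hp : p.Prime := Fact.out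
  have h1 : (⊥ : Subgroup X).relIndex A * A.relIndex (A ⊔ Y) = (⊥ : Subgroup X).relIndex (A ⊔ Y) :=
    Subgroup.relIndex_mul_relIndex _ _ _ bot_le le_sup_left
  rw [Subgroup.relIndex_bot_left, Subgroup.relIndex_bot_left] at h1
  have h2 : Nat.card (A ⊔ Y : Subgroup X) ∣ Nat.card A * Nat.card Y :=
    Cfsg.Agent.Lib.Helper20.card_sup_dvd_mul A Y
  rw [← h1] at h2
  have h3 : A.relIndex (A ⊔ Y) ∣ Nat.card Y :=
    Nat.dvd_of_mul_dvd_mul_left Nat.card_pos h2
  intro hd
  have h4 : p ∣ Nat.card Y := hd.trans h3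
  have := Nat.Coprime.eq_one_of_dvd hY.symm h4
  exact hp.one_lt.ne' this

/-- Frattini: normalizer of the image of a `p`-subgroup modulo a normal `p'`-subgroup -/
theorem normalizer_map_mk {X : Type u} [Group X] [Finite X] (A Y : Subgroup X) [Y.Normal]
    (hA : IsPGroup p A) (hY : (Nat.card Y).Coprime p) :
    normalizer ((A.map (QuotientGroup.mk' Y) : Subgroup (X ⧸ Y)) : Set (X ⧸ Y))
      = (normalizer (A : Set X)).map (QuotientGroup.mk' Y) := by
  apply le_antisymm
  · intro xbar hxbar
    obtain ⟨x, rfl⟩ := QuotientGroup.mk'_surjective Y xbar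
    have hx : x ∈ (normalizer ((A.map (QuotientGroup.mk' Y) : Subgroup (X ⧸ Y)) : Set (X ⧸ Y))).comap
        (QuotientGroup.mk' Y) := hxbar
    rw [Subgroup.comap_normalizer_eq_of_surjective _ (QuotientGroup.mk'_surjective Y),
      Subgroup.comap_map_eq, QuotientGroup.ker_mk'] at hx
    have h1 : Cfsg.Agent.S0520.cj x A ≤ A ⊔ Y :=
      Cfsg.Agent.S1910.cj_le_of_mem_normalizer hx le_sup_left
    obtain ⟨y, hyB, hy⟩ := Cfsg.Agent.S1910.exists_cj_le_rel hA (not_dvd_relIndex_sup A Y hY) h1
      (hA.map _)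
    rw [← Cfsg.Agent.S0520.cj_mul] at hy
    have hyx : y * x ∈ normalizer (A : Set X) := Cfsg.Agent.S1910.mem_normalizer_of_cj_le hy
    rw [Subgroup.mem_sup_of_normal_right] at hyB
    obtain ⟨a, ha, n, hn, rfl⟩ := hyB
    refine ⟨a⁻¹ * (a * n * x), mul_mem (inv_mem (le_normalizer ha)) hyx, ?_⟩
    have hn1 : (QuotientGroup.mk' Y) n = 1 := by
      rw [← MonoidHom.mem_ker, QuotientGroup.ker_mk']; exact hn
    simp only [map_mul, map_inv, hn1]
    group
  · exact Subgroup.le_normalizer_map _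

/-- a group with a normal `p`-subgroup whose quotient has a normal `p`-complement is
`p`-solvable -/
theorem isPSolvable_of_quotient_npc {X : Type u} [Group X] [Finite X] (O : Subgroup X) [O.Normal]
    (hO : IsPGroup p O) (h : NPC p (X ⧸ O)) : Cfsg.IsPSolvable p X := by
  obtain ⟨Nb, hNn, hcop, k, hk⟩ := h
  have hOK : O ≤ Nb.comap (QuotientGroup.mk' O) := by
    intro o ho
    rw [Subgroup.mem_comap]
    have : (QuotientGroup.mk' O) o = 1 := by
      rw [← MonoidHom.mem_ker, QuotientGroup.ker_mk']; exact ho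
    rw [this]; exact one_mem _
  refine ⟨3, ![⊥, O, Nb.comap (QuotientGroup.mk' O), ⊤], rfl, rfl, ?_, ?_, ?_⟩
  · rw [Fin.monotone_iff_le_succ]
    intro i
    fin_cases i
    · exact bot_le
    · exact hOK
    · exact le_top
  · intro i
    fin_cases i
    · exact Subgroup.normal_bot
    · show O.Normal
      infer_instance
    · exact hNn.comap _
    · exact Subgroup.normal_top
  · intro i
    fin_cases i
    · left
      obtain ⟨a, ha⟩ := IsPGroup.iff_card.mp hO
      refine ⟨a, ?_⟩
      show (⊥ : Subgroup X).relIndex O = p ^ a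
      rw [Subgroup.relIndex_bot_left, ha]
    · right
      show (O.relIndex (Nb.comap (QuotientGroup.mk' O))).Coprime p
      have h2 : ((⊥ : Subgroup (X ⧸ O)).comap (QuotientGroup.mk' O)).relIndex
          (Nb.comap (QuotientGroup.mk' O)) = Nat.card Nb := by
        rw [Subgroup.relIndex_comap, Subgroup.relIndex_bot_left,
          Subgroup.map_comap_eq_self_of_surjective (QuotientGroup.mk'_surjective O)]
      rw [MonoidHom.comap_bot, QuotientGroup.ker_mk'] at h2
      rw [h2]
      exact hcop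
    · left
      refine ⟨k, ?_⟩
      show (Nb.comap (QuotientGroup.mk' O)).relIndex ⊤ = p ^ k
      rw [Subgroup.relIndex_top_right,
        Subgroup.index_comap_of_surjective _ (QuotientGroup.mk'_surjective O), hk]

/-- the inclusion of normalizers `N_M(A) → N_X(A.map M.subtype)` -/
theorem npc_normalizer_subgroup {X : Type u} [Group X] [Finite X] (M : Subgroup X)
    (A : Subgroup M) {B : Subgroup X} (hB : A.map M.subtype = B)
    (h : NPC p ↥(normalizer (B : Set X))) : NPC p ↥(normalizer (A : Set M)) := by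
  have hmem : ∀ x : ↥(normalizer (A : Set M)),
      (M.subtype.comp (normalizer (A : Set M)).subtype) x ∈ normalizer (B : Set X) := by
    intro x
    rw [← hB]
    exact Subgroup.le_normalizer_map M.subtype ⟨x.1, x.2, rfl⟩
  refine NPC.of_injective
    ((M.subtype.comp (normalizer (A : Set M)).subtype).codRestrict _ hmem) ?_ h
  intro x y hxy
  have := congrArg Subtype.val hxy
  exact Subtype.ext (Subtype.ext this)

theorem npc_top_iff {X : Type u} [Group X] [Finite X] : NPC p ↥(⊤ : Subgroup X) ↔ NPC p X :=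
  ⟨NPC.of_equiv Subgroup.topEquiv, NPC.of_equiv Subgroup.topEquiv.symm⟩

theorem main (hW : Cfsg.IsCharPFunctor.{u} p W) : ∀ (n : ℕ) (X : Type u) [Group X] [Finite X],
    Nat.card X = n → SecLoc p W X → HypN p W X → NPC p X := by
  intro n
  induction n using Nat.strong_induction_on with
  | _ n ih =>
  intro X _ _ hcard hsec hyp
  have hp : p.Prime := Fact.out
  by_contra hnot
  -- a bad local subgroup exists
  have hex : ∃ Q : Subgroup X, IsPGroup p Q ∧ Q ≠ ⊥ ∧ ¬ NPC p ↥(normalizer (Q : Set X)) := by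
    by_contra hcon
    push_neg at hcon
    apply hnot
    rw [← npc_iff, Cfsg.Agent.S0072.result p]
    intro Q hQ hne
    rw [npc_iff]
    exact hcon Q hQ hne
  -- choose `H` maximal
  let bad : Set (Subgroup X) :=
    {Q | IsPGroup p Q ∧ Q ≠ ⊥ ∧ ¬ NPC p ↥(normalizer (Q : Set X))}
  let f : Subgroup X → ℕ := fun Q => (Nat.card ↥(normalizer (Q : Set X))).factorization p
  obtain ⟨H₁, hH₁, hmax₁⟩ := Set.exists_max_image bad f (Set.toFinite bad) hex
  let bad' : Set (Subgroup X) := {Q | Q ∈ bad ∧ f Q = f H₁}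
  obtain ⟨H, hH, hmax₂⟩ := Set.exists_max_image bad' (fun Q => Nat.card Q) (Set.toFinite bad')
    ⟨H₁, hH₁, rfl⟩
  obtain ⟨⟨hHp, hHne, hHbad⟩, hfH⟩ := hH
  have hM : ∀ Q : Subgroup X, IsPGroup p Q → Q ≠ ⊥ →
      (f H < f Q ∨ (f H = f Q ∧ Nat.card H < Nat.card Q)) →
      NPC p ↥(normalizer (Q : Set X)) := by
    intro Q hQ hQne hcmp
    by_contra hQbad
    have hQmem : Q ∈ bad := ⟨hQ, hQne, hQbad⟩
    have h1 := hmax₁ Q hQmem
    rcases hcmp with hlt | ⟨heq, hlt⟩
    · rw [hfH] at hlt
      exact absurd h1 (not_le.2 hlt)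
    · have hQmem' : Q ∈ bad' := ⟨hQmem, by rw [← heq, hfH]⟩
      have h2 := hmax₂ Q hQmem'
      exact absurd h2 (not_le.2 hlt)
  -- `H` is normal
  have hHtop : normalizer (H : Set X) = ⊤ := by
    by_contra hne
    apply hHbad
    have hlt : Nat.card ↥(normalizer (H : Set X)) < n := by
      rw [← hcard]
      have h0 : normalizer (H : Set X) < ⊤ := lt_top_iff_ne_top.2 hne
      have h1 := Cfsg.Agent.S5255.card_lt_of_lt h0
      rwa [Subgroup.card_top] at h1
    refine ih _ hlt ↥(normalizer (H : Set X)) rfl (hsec.subgroup _) ?_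
    obtain ⟨T⟩ : Nonempty (Sylow p ↥(normalizer (H : Set X))) := inferInstance
    refine ⟨T, ?_⟩
    obtain ⟨T', hT'⟩ : ∃ T' : Subgroup X,
        T' = (T : Subgroup ↥(normalizer (H : Set X))).map (normalizer (H : Set X)).subtype :=
      ⟨_, rfl⟩
    have hT'p : IsPGroup p T' := by rw [hT']; exact T.2.map _
    have hW' : Cfsg.inducedFunctor W T'
        = (Cfsg.inducedFunctor W (T : Subgroup ↥(normalizer (H : Set X)))).map
          (normalizer (H : Set X)).subtype := by
      rw [hT']
      exact induced_map hW (normalizer (H : Set X)).subtype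
        (T : Subgroup ↥(normalizer (H : Set X))) T.2
        (fun a _ h => (normalizer (H : Set X)).subtype_injective (by simpa using h))
    apply npc_normalizer_subgroup _ _ hW'.symm
    have hHT' : H ≤ T' := by
      have hn : (H.subgroupOf (normalizer (H : Set X))).Normal := Subgroup.normal_in_normalizer
      have h1 : H.subgroupOf (normalizer (H : Set X)) ≤ (T : Subgroup ↥(normalizer (H : Set X))) :=
        Cfsg.Agent.Lib.Helper16.normal_pgroup_le_sylow hn hHp.comap_subtype T
      intro h hh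
      rw [hT']
      exact ⟨⟨h, le_normalizer hh⟩, h1 (mem_subgroupOf.2 hh), rfl⟩
    have hT'ne : T' ≠ ⊥ := fun h => hHne (le_bot_iff.1 (h ▸ hHT'))
    have hWne := induced_ne_bot hW T' hT'p hT'ne
    have hWp : IsPGroup p ↥(Cfsg.inducedFunctor W T') := hT'p.to_le (induced_le T')
    by_cases hSyl : ∃ S : Sylow p X, (S : Subgroup X) = T'
    · obtain ⟨S, hS⟩ := hSyl
      rw [← hS]
      exact hyp.all hW S
    · apply hM _ hWp hWne
      left
      obtain ⟨P, hP⟩ := hT'p.exists_le_sylow
      have hlt' : T' < (P : Subgroup X) := lt_of_le_of_ne hP (fun h => hSyl ⟨P, h.symm⟩)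
      obtain ⟨x, hxP, hxN, hxT⟩ :=
        Cfsg.Agent.S5255.exists_normalizer_not_mem (p := p) T' (P : Subgroup X) P.2 hlt'
      have h1 : T' < (P : Subgroup X) ⊓ normalizer (T' : Set X) := by
        refine lt_of_le_of_ne (le_inf hP le_normalizer) ?_
        intro h
        apply hxT
        rw [h]
        exact Subgroup.mem_inf.2 ⟨hxP, hxN⟩
      have h2 : Nat.card T' < Nat.card ↥((P : Subgroup X) ⊓ normalizer (T' : Set X)) :=
        Cfsg.Agent.S5255.card_lt_of_lt h1
      have h3 : Nat.card ↥((P : Subgroup X) ⊓ normalizer (T' : Set X))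
          ≤ p ^ f (Cfsg.inducedFunctor W T') :=
        card_le_pp (inf_le_right.trans (normalizer_le_normalizer_induced hW T' hT'p))
          (P.2.to_le inf_le_left)
      have h4 : Nat.card T' = p ^ f H := by
        rw [hT', Subgroup.card_map_of_injective (normalizer (H : Set X)).subtype_injective]
        exact sylow_card_eq_pp T
      have h5 : p ^ f H < p ^ f (Cfsg.inducedFunctor W T') := by
        rw [← h4]; exact lt_of_lt_of_le h2 h3
      exact (Nat.pow_lt_pow_iff_right hp.one_lt).1 h5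
  have hHn : H.Normal := normalizer_eq_top_iff.1 hHtop
  -- `H = O_p(X)`
  have hHO : H = Cfsg.pCore p X := by
    have hle : H ≤ Cfsg.pCore p X := Cfsg.Agent.Lib.Helper16.le_pCore hHn hHp
    refine Subgroup.eq_of_le_of_card_ge hle ?_
    by_contra hlt
    push_neg at hlt
    apply hnot
    have hOp : IsPGroup p ↥(Cfsg.pCore p X) := Cfsg.Agent.Lib.Helper16.pCore_isPGroup p X
    have hOne : Cfsg.pCore p X ≠ ⊥ := fun h => hHne (le_bot_iff.1 (h ▸ hle))
    have hOtop : normalizer ((Cfsg.pCore p X : Subgroup X) : Set X) = ⊤ :=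
      normalizer_eq_top_iff.2 inferInstance
    have h1 := hM _ hOp hOne (Or.inr ⟨by show f H = f (Cfsg.pCore p X); simp only [f, hHtop, hOtop], hlt⟩)
    rw [hOtop] at h1
    exact npc_top_iff.1 h1
  have hfH : f H = (Nat.card X).factorization p := by
    simp only [f, hHtop, Subgroup.card_top]
  -- a Sylow subgroup
  obtain ⟨S⟩ : Nonempty (Sylow p X) := inferInstance
  have hHS : H ≤ (S : Subgroup X) := Cfsg.Agent.Lib.Helper16.normal_pgroup_le_sylow hHn hHp S
  have hHSne : H ≠ (S : Subgroup X) := by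
    intro h
    apply hnot
    have h1 := hyp.all hW S
    have h2 : normalizer ((Cfsg.inducedFunctor W (S : Subgroup X) : Subgroup X) : Set X) = ⊤ := by
      rw [eq_top_iff, ← hHtop, h]
      exact normalizer_le_normalizer_induced hW (S : Subgroup X) S.2
    rw [h2] at h1
    exact npc_top_iff.1 h1
  -- maximality in terms of `O_p(X)`
  have hMO : ∀ Q : Subgroup X, IsPGroup p Q → Nat.card H < Nat.card Q →
      (S : Subgroup X) ≤ normalizer (Q : Set X) → NPC p ↥(normalizer (Q : Set X)) := by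
    intro Q hQ hlt hSQ
    have hQne : Q ≠ ⊥ := by
      intro h
      rw [h, Subgroup.card_bot] at hlt
      have := Nat.card_pos (α := H)
      omega
    apply hM Q hQ hQne
    right
    refine ⟨?_, hlt⟩
    rw [hfH]
    apply le_antisymm
    · have h1 : Nat.card S ≤ p ^ f Q := card_le_pp hSQ S.2
      rw [sylow_card_eq_pp S] at h1
      exact (Nat.pow_le_pow_iff_right hp.one_lt).1 h1
    · have hdvd : Nat.card ↥(normalizer (Q : Set X)) ∣ Nat.card X := Subgroup.card_subgroup_dvd_card _
      exact (Nat.factorization_le_iff_dvd Nat.card_pos.ne' Nat.card_pos.ne').2 hdvd p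
  subst hHO
  -- the quotient by `O_p(X)` has a normal `p`-complement
  have hquot : NPC p (X ⧸ Cfsg.pCore p X) := by
    have hlt : Nat.card (X ⧸ Cfsg.pCore p X) < n := by
      rw [← hcard, Subgroup.card_eq_card_quotient_mul_card_subgroup (Cfsg.pCore p X)]
      have h1 : 1 < Nat.card ↥(Cfsg.pCore p X) := (Subgroup.one_lt_card_iff_ne_bot _).2 hHne
      have h2 := Nat.card_pos (α := X ⧸ Cfsg.pCore p X)
      nlinarith
    refine ih _ hlt (X ⧸ Cfsg.pCore p X) rfl (hsec.quotient _) ?_
    have hsurj := QuotientGroup.mk'_surjective (Cfsg.pCore p X)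
    refine ⟨S.mapSurjective hsurj, ?_⟩
    rw [Sylow.coe_mapSurjective]
    have hker : (QuotientGroup.mk' (Cfsg.pCore p X)).ker = Cfsg.pCore p X := QuotientGroup.ker_mk' _
    obtain ⟨π, hπ⟩ : ∃ π : X →* X ⧸ Cfsg.pCore p X, π = QuotientGroup.mk' (Cfsg.pCore p X) :=
      ⟨_, rfl⟩
    rw [← hπ] at hsurj hker ⊢
    obtain ⟨Wb, hWb⟩ : ∃ Wb : Subgroup (X ⧸ Cfsg.pCore p X),
        Wb = Cfsg.inducedFunctor W ((S : Subgroup X).map π) := ⟨_, rfl⟩
    rw [← hWb]
    have h1 : normalizer (Wb : Set (X ⧸ Cfsg.pCore p X))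
        = (normalizer ((Wb.comap π : Subgroup X) : Set X)).map π := by
      rw [← Subgroup.comap_normalizer_eq_of_surjective _ hsurj,
        Subgroup.map_comap_eq_self_of_surjective hsurj]
    rw [h1]
    refine NPC.of_surjective (π.subgroupMap _) (π.subgroupMap_surjective _) ?_
    have hSmap : ((S : Subgroup X).map π).comap π = (S : Subgroup X) := by
      rw [Subgroup.comap_map_eq, hker, sup_eq_left]; exact hHS
    have hL₁S : Wb.comap π ≤ (S : Subgroup X) := by
      rw [← hSmap, hWb]; exact Subgroup.comap_mono (induced_le _)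
    have hSbp : IsPGroup p ↥((S : Subgroup X).map π) := S.2.map _
    have hSbne : (S : Subgroup X).map π ≠ ⊥ := by
      intro h
      apply hHSne
      apply le_antisymm hHS
      rw [← hSmap, h, MonoidHom.comap_bot, hker]
    have hWbne : Wb ≠ ⊥ := by rw [hWb]; exact induced_ne_bot hW _ hSbp hSbne
    apply hMO _ (S.2.to_le hL₁S)
    · apply Cfsg.Agent.S5255.card_lt_of_lt
      refine lt_of_le_of_ne ?_ ?_
      · intro o ho
        rw [Subgroup.mem_comap]
        have : π o = 1 := by rw [← MonoidHom.mem_ker, hker]; exact ho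
        rw [this]; exact one_mem _
      · intro h
        apply hWbne
        have h2 := Subgroup.map_comap_eq_self_of_surjective hsurj Wb
        rw [← h] at h2
        rw [← h2, Subgroup.map_eq_bot_iff, hker]
    · rw [← Subgroup.comap_normalizer_eq_of_surjective _ hsurj, ← hSmap]
      apply Subgroup.comap_mono
      rw [hWb]
      exact le_normalizer.trans (normalizer_le_normalizer_induced hW _ hSbp)
  -- `O_{p'}(X) = 1`
  have hOp' : Cfsg.pPrimeCore p X = ⊥ := by
    by_contra hYne
    apply hnot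
    have hYcop : (Nat.card ↥(Cfsg.pPrimeCore p X)).Coprime p :=
      Cfsg.Agent.Lib.Helper20.pPrimeCore_coprime' p
    apply NPC.of_quotient (Cfsg.pPrimeCore p X) hYcop
    have hlt : Nat.card (X ⧸ Cfsg.pPrimeCore p X) < n := by
      rw [← hcard, Subgroup.card_eq_card_quotient_mul_card_subgroup (Cfsg.pPrimeCore p X)]
      have h1 : 1 < Nat.card ↥(Cfsg.pPrimeCore p X) := (Subgroup.one_lt_card_iff_ne_bot _).2 hYne
      have h2 := Nat.card_pos (α := X ⧸ Cfsg.pPrimeCore p X)
      nlinarith
    refine ih _ hlt (X ⧸ Cfsg.pPrimeCore p X) rfl (hsec.quotient _) ?_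
    have hsurj := QuotientGroup.mk'_surjective (Cfsg.pPrimeCore p X)
    refine ⟨S.mapSurjective hsurj, ?_⟩
    rw [Sylow.coe_mapSurjective]
    have hinj : ∀ a ∈ (S : Subgroup X), (QuotientGroup.mk' (Cfsg.pPrimeCore p X)) a = 1 → a = 1 := by
      intro a ha h
      have h1 : a ∈ Cfsg.pPrimeCore p X := by
        rw [← QuotientGroup.ker_mk' (Cfsg.pPrimeCore p X)]; exact h
      have h2 : a ∈ (S : Subgroup X) ⊓ Cfsg.pPrimeCore p X := ⟨ha, h1⟩
      rw [Cfsg.Agent.Lib.Helper20.sylow_inf_pPrimeCore_eq_bot S] at h2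
      exact h2
    rw [induced_map hW _ (S : Subgroup X) S.2 hinj,
      normalizer_map_mk _ _ (S.2.to_le (induced_le _)) hYcop]
    exact NPC.of_surjective ((QuotientGroup.mk' _).subgroupMap _)
      ((QuotientGroup.mk' _).subgroupMap_surjective _) (hyp.all hW S)
  -- `C_X(O_p(X)) ≤ O_p(X)`
  have hC : Subgroup.centralizer ((Cfsg.pCore p X : Subgroup X) : Set X) ≤ Cfsg.pCore p X :=
    Cfsg.Agent.Lib.Helper20.centralizer_pCore_le_of_isPSolvable
      (isPSolvable_of_quotient_npc (Cfsg.pCore p X) hHp hquot) hOp'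
  -- `S` is a maximal subgroup
  have hco : IsCoatom (S : Subgroup X) := by
    constructor
    · intro htop
      apply hnot
      apply NPC.of_isPGroup
      have h1 : IsPGroup p ↥(⊤ : Subgroup X) := htop ▸ S.2
      exact h1.of_equiv Subgroup.topEquiv
    · intro M hSM
      by_contra hMtop
      have hlt : Nat.card ↥M < n := by
        rw [← hcard]
        have h0 : M < ⊤ := lt_top_iff_ne_top.2 hMtop
        have h1 := Cfsg.Agent.S5255.card_lt_of_lt h0
        rwa [Subgroup.card_top] at h1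
      have hMnpc : NPC p ↥M := by
        refine ih _ hlt ↥M rfl (hsec.subgroup M) ?_
        refine ⟨S.subtype hSM.le, ?_⟩
        have hB : ((S.subtype hSM.le : Sylow p ↥M) : Subgroup ↥M).map M.subtype = (S : Subgroup X) := by
          rw [Sylow.coe_subtype, Subgroup.map_subgroupOf_eq_of_le hSM.le]
        have heq := induced_map_eq hW M.subtype ((S.subtype hSM.le : Sylow p ↥M) : Subgroup ↥M)
          (S.subtype hSM.le).2 (fun a _ h => M.subtype_injective (by simpa using h)) hB
        exact npc_normalizer_subgroup M _ heq.symm (hyp.all hW S)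
      obtain ⟨Q, hQn, hQcop, j, hj⟩ := hMnpc
      -- `Q` centralizes `O_p(X)`
      have hQC : Q.map M.subtype ≤ Subgroup.centralizer ((Cfsg.pCore p X : Subgroup X) : Set X) := by
        rintro _ ⟨q, hq, rfl⟩
        rw [Subgroup.mem_centralizer_iff]
        intro o ho
        have hoM : o ∈ M := hSM.le (hHS ho)
        have h1 : (⟨o, hoM⟩ : ↥M) * q * (⟨o, hoM⟩ : ↥M)⁻¹ * q⁻¹ ∈ Q :=
          mul_mem (hQn.conj_mem q hq _) (inv_mem hq)
        have h2 : ((⟨o, hoM⟩ : ↥M) * q * (⟨o, hoM⟩ : ↥M)⁻¹ * q⁻¹ : ↥M).1 ∈ Cfsg.pCore p X := by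
          have : ((⟨o, hoM⟩ : ↥M) * q * (⟨o, hoM⟩ : ↥M)⁻¹ * q⁻¹ : ↥M).1
              = o * ((q : X) * o⁻¹ * (q : X)⁻¹) := by
            simp [mul_assoc]
          rw [this]
          exact mul_mem ho (hHn.conj_mem _ (inv_mem ho) _)
        -- the commutator has `p`-power order and `p'`-order
        have h3 : ((⟨o, hoM⟩ : ↥M) * q * (⟨o, hoM⟩ : ↥M)⁻¹ * q⁻¹ : ↥M) = 1 := by
          obtain ⟨k, hk⟩ := (IsPGroup.iff_orderOf.1 hHp) ⟨_, h2⟩
          have hk' : orderOf ((⟨o, hoM⟩ : ↥M) * q * (⟨o, hoM⟩ : ↥M)⁻¹ * q⁻¹ : ↥M) = p ^ k := by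
            rw [← Subgroup.orderOf_coe, ← hk, ← Subgroup.orderOf_coe]
          have hd : orderOf ((⟨o, hoM⟩ : ↥M) * q * (⟨o, hoM⟩ : ↥M)⁻¹ * q⁻¹ : ↥M) ∣ Nat.card Q := by
            have := orderOf_dvd_natCard (⟨_, h1⟩ : Q)
            rwa [Subgroup.orderOf_mk] at this
          rw [hk'] at hd
          have h4 : (p ^ k).Coprime (Nat.card Q) := (Nat.Coprime.pow_left k hQcop.symm)
          have h5 : p ^ k = 1 := Nat.Coprime.eq_one_of_dvd h4 hd
          rw [h5] at hk'
          exact orderOf_eq_one_iff.1 hk'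
        have h6 := congrArg Subtype.val h3
        simp only [Subgroup.coe_mul, Subgroup.coe_inv, Subgroup.coe_one] at h6
        -- o * q = q * o
        calc o * (q : X) = (o * (q : X) * o⁻¹ * (q : X)⁻¹) * ((q : X) * o) := by group
          _ = (q : X) * o := by rw [h6, one_mul]
      have hQbot : Q = ⊥ := by
        have h1 : Q.map M.subtype ≤ Cfsg.pCore p X := hQC.trans hC
        have h2 : IsPGroup p ↥(Q.map M.subtype) := hHp.to_le h1
        obtain ⟨k, hk⟩ := IsPGroup.iff_card.mp h2
        rw [Subgroup.card_map_of_injective M.subtype_injective] at hk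
        have h3 : (p ^ k).Coprime p := hk ▸ hQcop
        rcases k with _ | k
        · rw [← Subgroup.card_eq_one]; simpa using hk
        · exfalso
          have : p ∣ 1 := by
            have h4 := Nat.Coprime.gcd_eq_one h3
            rw [← h4]
            exact Nat.dvd_gcd (dvd_pow_self p (Nat.succ_ne_zero k)) dvd_rfl
          exact hp.one_lt.ne' (Nat.dvd_one.1 this)
      rw [hQbot, Subgroup.index_bot] at hj
      have hMp : IsPGroup p ↥M := IsPGroup.of_card hj
      have := S.3 hMp hSM.le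
      exact hSM.ne this.symm
  -- conclusion
  apply hnot
  have hn := hsec X (IsSec.refl X) hC (npc_iff.2 hquot) S hco
  have h1 := hyp.all hW S
  rw [normalizer_eq_top_iff.2 hn] at h1
  exact npc_top_iff.1 h1

end Local

/-- Thompson's normal p-complement criterion in functor form. Let p be a prime, G a finite group with Sylow p-subgroup S, and W an isomorphism-invariant p-group functor (W assigns to every group Q a subgroup W(Q), nontrivial whenever Q is a nontrivial finite p-group, and every isomorphism from a finite p-group Q onto a group R carries W(Q) onto W(R)). Suppose N_G(W(S)) has a normal p-complement, and that W(S*) is normal in G* whenever G* = K/R is a section of G with C_{G*}(O_p(G*)) ≤ O_p(G*) such that G*/O_p(G*) has a normal p-complement, and S* is a Sylow p-subgroup of G* that is a maximal subgroup of G*. Then G has a normal p-complement. -/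
theorem result {G : Type u} [Group G] [Finite G] {p : ℕ} [Fact p.Prime] (W : ∀ (Q : Type u) [Group Q], Subgroup Q) (hW : Cfsg.IsCharPFunctor.{u} p W) (S : Sylow p G) (hN : Cfsg.HasNormalPComplement p ↥(Subgroup.normalizer ((Cfsg.inducedFunctor (G := G) W (S : Subgroup G) : Subgroup G) : Set G))) (hloc : ∀ (K R : Subgroup G) [hR : (R.subgroupOf K).Normal], Subgroup.centralizer ((Cfsg.pCore p (↥K ⧸ R.subgroupOf K) : Subgroup (↥K ⧸ R.subgroupOf K)) : Set (↥K ⧸ R.subgroupOf K)) ≤ Cfsg.pCore p (↥K ⧸ R.subgroupOf K) → Cfsg.HasNormalPComplement p ((↥K ⧸ R.subgroupOf K) ⧸ Cfsg.pCore p (↥K ⧸ R.subgroupOf K)) → ∀ T : Sylow p (↥K ⧸ R.subgroupOf K), IsCoatom (T : Subgroup (↥K ⧸ R.subgroupOf K)) → (Cfsg.inducedFunctor (G := (↥K ⧸ R.subgroupOf K)) W ((T : Subgroup (↥K ⧸ R.subgroupOf K)))).Normal) : Cfsg.HasNormalPComplement p G := by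
  rw [npc_iff]
  refine main hW (Nat.card G) G rfl (secLoc_of_hloc hW ?_) ⟨S, npc_iff.1 hN⟩
  intro K R hR
  exact hloc K R

end Cfsg.Agent.S2005
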