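import Cfsg.Statements.S2011
import Cfsg.Agent.Lib.Helper17.NormalHall
import Cfsg.Agent.Lib.Helper29.GroupFusion
import Cfsg.Agent.Lib.Helper2.Cores
open Cfsg.Agent.Lib.Helper17

set_option autoImplicit false
open Cfsg

namespace Cfsg.Agent.S2011

/-- Let G be a finite group with Sylow p-subgroup P and Q ≤ P. Then Q is centric in the fusion system of G on P (C_P(R) ≤ R for every G-conjugate R of Q lying in P) if and only if C_G(Q) is the internal direct product of Z(Q) = Q ∩ C_G(Q) and the largest normal subgroup of C_G(Q) of order prime to p. -/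
theorem result {G : Type*} [Group G] [Finite G] (p : ℕ) [Fact p.Prime] (P : Sylow p G) (Q : Subgroup G) (hQ : Q ≤ P) : (Cfsg.groupFusionSystem (P : Subgroup G)).IsCentric Q ↔ Cfsg.IsInternalDirectProduct (Q ⊓ Subgroup.centralizer (Q : Set G)) ((Cfsg.pPrimeCore p ↥(Subgroup.centralizer (Q : Set G))).map (Subgroup.centralizer (Q : Set G)).subtype) (Subgroup.centralizer (Q : Set G)) := by
  classical
  have hp : p.Prime := Fact.out
  set C : Subgroup G := Subgroup.centralizer (Q : Set G) with hC
  set Z : Subgroup G := Q ⊓ C with hZ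
  set O' : Subgroup C := Cfsg.pPrimeCore p C with hO'
  have hO'cop : (Nat.card O').Coprime p := Cfsg.Agent.Lib.Helper2.pPrimeCore_coprime p
  have hQp : IsPGroup p Q := P.2.to_le hQ
  have hZp : IsPGroup p Z := hQp.to_le inf_le_left
  set Z' : Subgroup C := Z.subgroupOf C with hZ'
  have hZ'p : IsPGroup p Z' := hZp.comap_subtype
  have hZ'central : ∀ z ∈ Z', ∀ c : C, z * c = c * z := by
    intro z hz c
    apply Subtype.ext
    have hzQ : (z : G) ∈ Q := (Subgroup.mem_inf.mp (show (z : G) ∈ Z from hz)).1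
    exact (Subgroup.mem_centralizer_iff.mp c.2) (z : G) hzQ
  haveI hZ'n : Z'.Normal := by
    constructor
    intro z hz c
    have : c * z * c⁻¹ = z := by
      rw [← hZ'central z hz c, mul_assoc, mul_inv_cancel, mul_one]
    rw [this]; exact hz
  have hdisj : Disjoint Z' O' := by
    apply Subgroup.disjoint_of_coprime_natCard
    obtain ⟨k, hk⟩ := IsPGroup.iff_card.mp hZ'p
    rw [hk]
    exact (Nat.Coprime.pow_right k hO'cop).symm
  have hmapZ' : Z'.map C.subtype = Z := by
    rw [hZ', Subgroup.subgroupOf_map_subtype]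
    exact inf_eq_left.mpr inf_le_right
  -- the direct product condition is equivalent to Z' ⊔ O' = ⊤
  have hIDP : Cfsg.IsInternalDirectProduct Z (O'.map C.subtype) C ↔ Z' ⊔ O' = ⊤ := by
    constructor
    · rintro ⟨-, -, -, -, hsup⟩
      apply Subgroup.map_injective C.subtype_injective
      rw [Subgroup.map_sup, hmapZ', hsup, ← MonoidHom.range_eq_map, Subgroup.range_subtype]
    · intro htop
      refine ⟨inf_le_right, Subgroup.map_subtype_le _, ?_, ?_, ?_⟩
      · intro a ha b hb
        have hbC : b ∈ C := Subgroup.map_subtype_le _ hb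
        exact (Subgroup.mem_centralizer_iff.mp hbC) a (Subgroup.mem_inf.mp ha).1
      · rw [eq_bot_iff]
        intro x hx
        obtain ⟨hxZ, hxO⟩ := Subgroup.mem_inf.mp hx
        obtain ⟨y, hy, rfl⟩ := Subgroup.mem_map.mp hxO
        have : y ∈ Z' ⊓ O' := Subgroup.mem_inf.mpr ⟨hxZ, hy⟩
        rw [hdisj.eq_bot, Subgroup.mem_bot] at this
        rw [this]; exact Subgroup.one_mem _
      · have := congrArg (Subgroup.map C.subtype) htop
        rw [Subgroup.map_sup, hmapZ', ← MonoidHom.range_eq_map, Subgroup.range_subtype] at this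
        exact this
  rw [hIDP]
  constructor
  · -- (⇒)
    rintro ⟨-, hcentric⟩
    obtain ⟨T', hT'⟩ := hZ'p.exists_le_sylow
    set T : Subgroup G := (T' : Subgroup C).map C.subtype with hT
    have hTp : IsPGroup p T := T'.2.map _
    have hTC : T ≤ C := Subgroup.map_subtype_le _
    have hTnorm : T ≤ Subgroup.normalizer (Q : Set G) :=
      hTC.trans (Subgroup.centralizer_le_normalizer _)
    have hTQ : IsPGroup p (T ⊔ Q : Subgroup G) :=
      IsPGroup.to_sup_of_normal_right' hTp hQp hTnorm
    obtain ⟨g, hg⟩ := Cfsg.Agent.Lib.Helper29.exists_cj_le_sylow P hTQ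
    have hRP : Cfsg.Agent.Lib.Helper29.cj g Q ≤ (P : Subgroup G) :=
      (Cfsg.Agent.Lib.Helper29.cj_mono le_sup_right).trans hg
    have hconj : (Cfsg.groupFusionSystem (P : Subgroup G)).IsConj Q
        (Cfsg.Agent.Lib.Helper29.cj g Q) :=
      Cfsg.Agent.Lib.Helper29.groupFusionSystem_isConj_iff.mpr ⟨hQ, hRP, g, rfl⟩
    have hcent := hcentric _ hconj
    have h1 : Cfsg.Agent.Lib.Helper29.cj g T ≤
        Cfsg.FusionSystem.centralizerIn (P : Subgroup G) (Cfsg.Agent.Lib.Helper29.cj g Q) := by
      apply le_inf ((Cfsg.Agent.Lib.Helper29.cj_mono le_sup_left).trans hg)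
      rw [← Cfsg.Agent.Lib.Helper29.cj_centralizer]
      exact Cfsg.Agent.Lib.Helper29.cj_mono hTC
    have h2 : Cfsg.Agent.Lib.Helper29.cj g T ≤ Cfsg.Agent.Lib.Helper29.cj g Q := h1.trans hcent
    have hTQ' : T ≤ Q := by
      have := Cfsg.Agent.Lib.Helper29.cj_mono (g := g⁻¹) h2
      rwa [Cfsg.Agent.Lib.Helper29.cj_inv_cj, Cfsg.Agent.Lib.Helper29.cj_inv_cj] at this
    have hT'Z' : (T' : Subgroup C) = Z' := by
      apply le_antisymm _ hT'
      intro x hx
      have hxT : (x : G) ∈ T := Subgroup.mem_map.mpr ⟨x, hx, rfl⟩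
      exact Subgroup.mem_inf.mpr ⟨hTQ' hxT, hTC hxT⟩
    have hnc : Subgroup.normalizer ((T' : Subgroup C) : Set C) ≤
        Subgroup.centralizer ((T' : Subgroup C) : Set C) := by
      intro c _
      rw [Subgroup.mem_centralizer_iff]
      intro z hz
      have hz' : z ∈ Z' := by
        have : z ∈ (T' : Subgroup C) := hz
        rwa [hT'Z'] at this
      exact hZ'central z hz' c
    have hcompl : Subgroup.IsComplement' (MonoidHom.transferSylow T' hnc).ker (T' : Subgroup C) :=
      MonoidHom.ker_transferSylow_isComplement' T' hnc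
    have hKcop : (Nat.card (MonoidHom.transferSylow T' hnc).ker).Coprime p := by
      have h3 : (T' : Subgroup C).index = Nat.card (MonoidHom.transferSylow T' hnc).ker :=
        hcompl.index_eq_card
      have h4 : ¬ p ∣ Nat.card (MonoidHom.transferSylow T' hnc).ker := by
        rw [← h3]; exact T'.not_dvd_index
      exact ((Nat.Prime.coprime_iff_not_dvd hp).mpr h4).symm
    have hKle : (MonoidHom.transferSylow T' hnc).ker ≤ O' :=
      Cfsg.Agent.Lib.Helper2.le_pPrimeCore inferInstance hKcop
    have htop := hcompl.sup_eq_top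
    rw [eq_top_iff, ← htop]
    apply sup_le (hKle.trans le_sup_right)
    rw [hT'Z']
    exact le_sup_left
  · -- (⇐)
    intro htop
    refine ⟨hQ, ?_⟩
    intro R hR
    obtain ⟨-, hRP, g, rfl⟩ := Cfsg.Agent.Lib.Helper29.groupFusionSystem_isConj_iff.mp hR
    have hcompl : Subgroup.IsComplement' O' Z' := by
      apply Subgroup.isComplement'_of_disjoint_and_mul_eq_univ hdisj.symm
      rw [← Subgroup.normal_mul, sup_comm, htop, Subgroup.coe_top]
    have hidx : Z'.index = Nat.card O' := hcompl.index_eq_card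
    intro x hx
    obtain ⟨hxP, hxC⟩ := Subgroup.mem_inf.mp hx
    rw [← Cfsg.Agent.Lib.Helper29.cj_centralizer, Cfsg.Agent.Lib.Helper29.mem_cj] at hxC
    -- y = g⁻¹ x g ∈ C, a p-element
    obtain ⟨k, hk⟩ := (IsPGroup.iff_orderOf.mp P.2) ⟨x, hxP⟩
    have hox : orderOf x = p ^ k := by
      rw [← hk]; exact (Subgroup.orderOf_mk x hxP).symm
    have hoy : orderOf (⟨g⁻¹ * x * g, hxC⟩ : C) = p ^ k := by
      rw [← Subgroup.orderOf_coe, ← hox]
      have := (MulAut.conj g⁻¹).orderOf_eq x
      simpa using this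
    have hmem : (⟨g⁻¹ * x * g, hxC⟩ : C) ∈ Z' := by
      apply mem_of_coprime_index Z'
      rw [hoy, hidx]
      exact (Nat.Coprime.pow_right k hO'cop).symm
    rw [Cfsg.Agent.Lib.Helper29.mem_cj]
    exact (Subgroup.mem_inf.mp (show g⁻¹ * x * g ∈ Z from hmem)).1

end Cfsg.Agent.S2011
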