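import Cfsg.Statements.S0680
import Mathlib

set_option autoImplicit false
open Cfsg

namespace Cfsg.Agent.S0680

open MulAction

/-- counting the fixed-point-free elements (plus the identity) via Burnside's lemma -/
theorem card_fpf {G α : Type*} [Group G] [Finite G] [MulAction G α] [Finite α] (n : ℕ)
    (hn : Nat.card α = n) (h2 : 2 ≤ n) [MulAction.IsPretransitive G α]
    (hG : Nat.card G = n * (n - 1))
    (hfix : ∀ g : G, g ≠ 1 → ∀ a b : α, g • a = a → g • b = b → a = b) :
    Nat.card {g : G // g = 1 ∨ ∀ a : α, g • a ≠ a} = n := by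
  classical
  haveI := Fintype.ofFinite G
  haveI := Fintype.ofFinite α
  haveI : Nonempty α := by
    rw [← Finite.card_pos_iff, hn]; omega
  haveI : Fintype (Quotient (orbitRel G α)) := Fintype.ofFinite _
  have hB := MulAction.sum_card_fixedBy_eq_card_orbits_mul_card_group G α
  have horb : Fintype.card (Quotient (orbitRel G α)) = 1 := by
    haveI : Unique (Quotient (orbitRel G α)) :=
      Classical.choice ((MulAction.pretransitive_iff_unique_quotient_of_nonempty G α).mp inferInstance)
    exact Fintype.card_unique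
  rw [horb, one_mul] at hB
  have hsplit := Finset.sum_filter_add_sum_filter_not (Finset.univ : Finset G)
    (fun g : G => g = 1 ∨ ∀ a : α, g • a ≠ a) (fun g => Fintype.card (fixedBy α g))
  rw [hB] at hsplit
  have hs1 : ∑ g ∈ Finset.univ.filter (fun g : G => g = 1 ∨ ∀ a : α, g • a ≠ a),
      Fintype.card (fixedBy α g) = n := by
    rw [Finset.sum_eq_single_of_mem (1 : G) (by simp)]
    · rw [← hn, Nat.card_eq_fintype_card]
      exact Fintype.card_eq.mpr ⟨Equiv.subtypeUnivEquiv (fun a => by simp)⟩
    · intro g hg hg1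
      rw [Finset.mem_filter] at hg
      rcases hg.2 with h | h
      · exact absurd h hg1
      · rw [Fintype.card_eq_zero_iff]
        exact ⟨fun ⟨a, ha⟩ => h a ha⟩
  have hs2 : ∑ g ∈ Finset.univ.filter (fun g : G => ¬ (g = 1 ∨ ∀ a : α, g • a ≠ a)),
      Fintype.card (fixedBy α g)
      = (Finset.univ.filter (fun g : G => ¬ (g = 1 ∨ ∀ a : α, g • a ≠ a))).card := by
    rw [Finset.card_eq_sum_ones]
    apply Finset.sum_congr rfl
    intro g hg
    rw [Finset.mem_filter] at hg
    have hg' := hg.2
    push Not at hg'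
    obtain ⟨hg1, a, ha⟩ := hg'
    rw [Fintype.card_eq_one_iff]
    exact ⟨⟨a, ha⟩, fun ⟨b, hb⟩ => Subtype.ext (hfix g hg1 b a hb ha)⟩
  have hcompl := Finset.card_filter_add_card_filter_not (s := (Finset.univ : Finset G))
    (fun g : G => g = 1 ∨ ∀ a : α, g • a ≠ a)
  rw [Finset.card_univ] at hcompl
  rw [hs1, hs2] at hsplit
  rw [Nat.card_eq_fintype_card, Fintype.card_subtype]
  omega


/-- the centralizer of a fixed-point-free element is the set of fixed-point-free elements with the
identity, and all fixed-point-free elements are conjugate to it -/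
theorem centralizer_fpf {G α : Type*} [Group G] [Finite G] [MulAction G α] [Finite α] (n : ℕ)
    (hn : Nat.card α = n) (h2 : 2 ≤ n) [MulAction.IsPretransitive G α]
    (hG : Nat.card G = n * (n - 1))
    (hfix : ∀ g : G, g ≠ 1 → ∀ a b : α, g • a = a → g • b = b → a = b)
    (x : G) (hx : ∀ a : α, x • a ≠ a) :
    (∀ g : G, g ∈ Subgroup.centralizer ({x} : Set G) ↔ (g = 1 ∨ ∀ a : α, g • a ≠ a)) ∧
    (∀ y : G, (∀ a : α, y • a ≠ a) → ∃ g : G, g * x * g⁻¹ = y) := by
  classical
  haveI : Nonempty α := by
    rw [← Finite.card_pos_iff, hn]; omega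
  have hx1 : x ≠ 1 := by
    rintro rfl
    obtain ⟨a⟩ := ‹Nonempty α›
    exact hx a (one_smul _ _)
  have hN := card_fpf n hn h2 hG hfix
  -- centralizer ⊆ N
  have hCN : ∀ g : G, g ∈ Subgroup.centralizer ({x} : Set G) → (g = 1 ∨ ∀ a : α, g • a ≠ a) := by
    intro g hg
    by_contra hcon
    push Not at hcon
    obtain ⟨hg1, a, ha⟩ := hcon
    have hcomm : x * g = g * x := Subgroup.mem_centralizer_iff.mp hg x rfl
    have h1 : g • (x • a) = x • a := by
      rw [← mul_smul, ← hcomm, mul_smul, ha]
    exact hx a (hfix g hg1 _ _ h1 ha)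
  -- conjugates of x are fixed-point-free
  have hconj : ∀ g : G, ∀ a : α, (g * x * g⁻¹) • a ≠ a := by
    intro g a h
    apply hx (g⁻¹ • a)
    have : x • g⁻¹ • a = g⁻¹ • ((g * x * g⁻¹) • a) := by
      simp only [← mul_smul]; congr 1; group
    rw [this, h]
  -- the set S of fixed-point-free elements has n - 1 elements
  have hS : Nat.card {g : G // ∀ a : α, g • a ≠ a} = n - 1 := by
    have e : {g : G // g = 1 ∨ ∀ a : α, g • a ≠ a} ≃ Option {g : G // ∀ a : α, g • a ≠ a} :=
      { toFun := fun g => if h : (g : G) = 1 then none else some ⟨g, g.2.resolve_left h⟩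
        invFun := fun o => match o with
          | none => ⟨1, Or.inl rfl⟩
          | some g => ⟨g, Or.inr g.2⟩
        left_inv := by
          intro g
          by_cases h : (g : G) = 1
          · simp only [h, dite_true]
            exact Subtype.ext h.symm
          · simp [h]
        right_inv := by
          intro o
          cases o with
          | none => simp
          | some g =>
            have hg1 : (g : G) ≠ 1 := by
              intro h
              obtain ⟨a⟩ := ‹Nonempty α›
              exact g.2 a (by rw [h, one_smul])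
            simp [hg1] }
    have := Nat.card_congr e
    rw [hN, Finite.card_option] at this
    omega
  -- orbit-stabilizer for conjugation
  have hidx := MulAction.index_stabilizer (G := ConjAct G) (x := x)
  have hmul := Subgroup.card_mul_index (stabilizer (ConjAct G) x)
  have hcardConj : Nat.card (ConjAct G) = n * (n - 1) := hG
  have horb_sub : orbit (ConjAct G) x ⊆ {g : G | ∀ a : α, g • a ≠ a} := by
    intro y hy
    rw [ConjAct.mem_orbit_conjAct, isConj_comm, isConj_iff] at hy
    obtain ⟨c, rfl⟩ := hy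
    exact hconj c
  have horb_le : (orbit (ConjAct G) x).ncard ≤ n - 1 := by
    have := Set.ncard_le_ncard horb_sub (Set.toFinite _)
    rwa [← Nat.card_coe_set_eq {g : G | ∀ a : α, g • a ≠ a}, Set.coe_ofPred, hS] at this
  have hstabC : Nat.card (stabilizer (ConjAct G) x) ≤ Nat.card (Subgroup.centralizer ({x} : Set G)) := by
    apply Nat.card_le_card_of_injective
      (fun c : stabilizer (ConjAct G) x => (⟨ConjAct.ofConjAct (c : ConjAct G), by
        rw [Subgroup.mem_centralizer_iff]
        intro h hh
        rw [Set.mem_singleton_iff] at hh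
        subst hh
        have := c.2
        rw [MulAction.mem_stabilizer_iff, ConjAct.smul_def] at this
        calc h * ConjAct.ofConjAct (c : ConjAct G)
            = (ConjAct.ofConjAct (c : ConjAct G) * h * (ConjAct.ofConjAct (c : ConjAct G))⁻¹)
              * ConjAct.ofConjAct (c : ConjAct G) := by rw [this]
          _ = ConjAct.ofConjAct (c : ConjAct G) * h := by group⟩ :
        Subgroup.centralizer ({x} : Set G)))
    intro c c' h
    have := congrArg Subtype.val h
    apply Subtype.ext
    exact ConjAct.ofConjAct.injective this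
  have hιinj : Function.Injective (fun c : Subgroup.centralizer ({x} : Set G) =>
      (⟨(c : G), hCN c c.2⟩ : {g : G // g = 1 ∨ ∀ a : α, g • a ≠ a})) := by
    intro c c' h
    have h' : (c : G) = (c' : G) := congrArg (fun z : {g : G // g = 1 ∨ ∀ a : α, g • a ≠ a} => (z : G)) h
    exact Subtype.ext h'
  have hCle : Nat.card (Subgroup.centralizer ({x} : Set G)) ≤ n := by
    rw [← hN]
    exact Nat.card_le_card_of_injective _ hιinj
  have hstab_le : Nat.card (stabilizer (ConjAct G) x) ≤ n := hstabC.trans hCle
  rw [hidx, hcardConj] at hmul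
  -- arithmetic
  have hn1 : 1 ≤ n - 1 := by omega
  have horb_eq : (orbit (ConjAct G) x).ncard = n - 1 := by
    by_contra hne
    have hlt : (orbit (ConjAct G) x).ncard < n - 1 := lt_of_le_of_ne horb_le hne
    have : Nat.card (stabilizer (ConjAct G) x) * (orbit (ConjAct G) x).ncard < n * (n - 1) := by
      calc Nat.card (stabilizer (ConjAct G) x) * (orbit (ConjAct G) x).ncard
          ≤ n * (orbit (ConjAct G) x).ncard := Nat.mul_le_mul_right _ hstab_le
        _ < n * (n - 1) := Nat.mul_lt_mul_of_pos_left hlt (by omega)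
    omega
  have hstab_eq : Nat.card (stabilizer (ConjAct G) x) = n := by
    rw [horb_eq] at hmul
    exact Nat.eq_of_mul_eq_mul_right (by omega) hmul
  constructor
  · intro g
    constructor
    · exact hCN g
    · intro hg
      have hCeq : n ≤ Nat.card (Subgroup.centralizer ({x} : Set G)) := by
        rw [← hstab_eq]; exact hstabC
      have hbij := hιinj.bijective_of_nat_card_le (by rw [hN]; exact hCeq)
      obtain ⟨c, hc⟩ := hbij.2 ⟨g, hg⟩
      have := congrArg Subtype.val hc
      simp only at this
      rw [← this]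
      exact c.2
  · intro y hy
    have hset : orbit (ConjAct G) x = {g : G | ∀ a : α, g • a ≠ a} := by
      apply Set.eq_of_subset_of_ncard_le horb_sub _ (Set.toFinite _)
      rw [horb_eq, ← Nat.card_coe_set_eq {g : G | ∀ a : α, g • a ≠ a}, Set.coe_ofPred, hS]
    have : y ∈ orbit (ConjAct G) x := by rw [hset]; exact hy
    rw [ConjAct.mem_orbit_conjAct, isConj_comm, isConj_iff] at this
    exact this


theorem conj_fpf {G α : Type*} [Group G] [MulAction G α] (x : G) (hx : ∀ a : α, x • a ≠ a)
    (g : G) : ∀ a : α, (g * x * g⁻¹) • a ≠ a := by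
  intro a h
  apply hx (g⁻¹ • a)
  have : x • g⁻¹ • a = g⁻¹ • ((g * x * g⁻¹) • a) := by
    simp only [← mul_smul]; congr 1; group
  rw [this, h]

/-- structure of a finite group acting transitively on `n` points, of order `n(n-1)`, in which
non-identity elements fix at most one point -/
theorem core {G α : Type*} [Group G] [Finite G] [MulAction G α] [Finite α] (n : ℕ)
    (hn : Nat.card α = n) (h2 : 2 ≤ n) [MulAction.IsPretransitive G α]
    (hG : Nat.card G = n * (n - 1))
    (hfix : ∀ g : G, g ≠ 1 → ∀ a b : α, g • a = a → g • b = b → a = b) :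
    ∃ p j : ℕ, p.Prime ∧ 1 ≤ j ∧ n = p ^ j ∧ ∃ N : Subgroup G, N.Normal ∧
      (∀ g, g ∈ N ↔ g = 1 ∨ ∀ a : α, g • a ≠ a) ∧ Nat.card N = n ∧
      (∀ x ∈ N, ∀ y ∈ N, x * y = y * x) ∧ (∀ x ∈ N, x ^ p = 1) := by
  classical
  have hn1 : n ≠ 1 := by omega
  have hp : (n.minFac).Prime := Nat.minFac_prime hn1
  have hpn : n.minFac ∣ n := Nat.minFac_dvd n
  haveI := Fact.mk hp
  have hstab : ∀ a : α, Nat.card (stabilizer G a) = n - 1 := by
    intro a
    have h1 := Subgroup.card_mul_index (stabilizer G a)
    rw [MulAction.index_stabilizer_of_transitive, hn, hG, mul_comm n (n - 1)] at h1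
    exact Nat.eq_of_mul_eq_mul_right (by omega) h1
  have hpG : n.minFac ∣ Nat.card G := by rw [hG]; exact Dvd.dvd.mul_right hpn _
  obtain ⟨x, hxo⟩ := exists_prime_orderOf_dvd_card' n.minFac hpG
  have hx : ∀ a : α, x • a ≠ a := by
    intro a ha
    have hmem : x ∈ stabilizer G a := ha
    have h1 : orderOf x ∣ Nat.card (stabilizer G a) := Subgroup.orderOf_dvd_natCard _ hmem
    rw [hxo, hstab] at h1
    have h3 : n.minFac ∣ n - (n - 1) := Nat.dvd_sub hpn h1
    have h4 : n - (n - 1) = 1 := by omega
    rw [h4] at h3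
    exact hp.one_lt.ne' (Nat.dvd_one.mp h3)
  obtain ⟨hmem, hconjall⟩ := centralizer_fpf n hn h2 hG hfix x hx
  have hcardN : Nat.card (Subgroup.centralizer ({x} : Set G)) = n := by
    rw [← card_fpf n hn h2 hG hfix]
    exact Nat.card_congr (Equiv.subtypeEquivRight (fun g => hmem g))
  have hexp : ∀ y ∈ Subgroup.centralizer ({x} : Set G), y ^ n.minFac = 1 := by
    intro y hy
    rcases (hmem y).mp hy with rfl | hy'
    · exact one_pow _
    · obtain ⟨g, rfl⟩ := hconjall y hy'
      rw [conj_pow, ← hxo, pow_orderOf_eq_one]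
      group
  have hpg : IsPGroup n.minFac (Subgroup.centralizer ({x} : Set G)) := by
    intro y
    refine ⟨1, ?_⟩
    rw [pow_one]
    exact Subtype.ext (by simpa using hexp y y.2)
  obtain ⟨j, hj⟩ := (IsPGroup.iff_card).mp hpg
  rw [hcardN] at hj
  have hj1 : 1 ≤ j := by
    rcases Nat.eq_zero_or_pos j with rfl | h
    · rw [pow_zero] at hj; omega
    · exact h
  refine ⟨n.minFac, j, hp, hj1, hj, Subgroup.centralizer ({x} : Set G), ?_, hmem, hcardN, ?_, hexp⟩
  · constructor
    intro y hy g
    rcases (hmem y).mp hy with rfl | hy'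
    · simp
    · exact (hmem _).mpr (Or.inr (conj_fpf y hy' g))
  · intro y hy z hz
    rcases (hmem y).mp hy with rfl | hy'
    · simp
    · obtain ⟨hmem', _⟩ := centralizer_fpf n hn h2 hG hfix y hy'
      have hz' : z ∈ Subgroup.centralizer ({y} : Set G) := (hmem' z).mpr ((hmem z).mp hz)
      exact Subgroup.mem_centralizer_iff.mp hz' y rfl


/-- A finite sharply doubly transitive permutation group has degree a prime power `p ^ j`; a Sylow `p`-subgroup is normal, elementary abelian and regular, and consists of the identity together with the elements without fixed points. (Frobenius' Theorem is not needed.) -/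
theorem result {α : Type*} [Fintype α] [DecidableEq α] (G : Subgroup (Equiv.Perm α)) [MulAction.IsMultiplyPretransitive G α 2] (hsharp : ∀ x : Fin 2 ↪ α, MulAction.stabilizer G x = ⊥) (h2 : 2 ≤ Fintype.card α) : ∃ p j : ℕ, p.Prime ∧ 1 ≤ j ∧ Fintype.card α = p ^ j ∧ ∀ (hp : Fact p.Prime) (P : Sylow p G), (P : Subgroup G).Normal ∧ IsMulCommutative (P : Subgroup G) ∧ (∀ x ∈ (P : Subgroup G), x ^ p = 1) ∧ MulAction.IsPretransitive (P : Subgroup G) α ∧ (∀ a : α, MulAction.stabilizer (P : Subgroup G) a = ⊥) ∧ ∀ g : G, g ∈ (P : Subgroup G) ↔ g = 1 ∨ ∀ a : α, g • a ≠ a := by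
  classical
  haveI : MulAction.IsPretransitive G α := MulAction.isPretransitive_of_is_two_pretransitive
  have hncard : Nat.card α = Fintype.card α := Nat.card_eq_fintype_card
  -- non-identity elements fix at most one point
  have hfix : ∀ g : G, g ≠ 1 → ∀ a b : α, g • a = a → g • b = b → a = b := by
    intro g hg1 a b ha hb
    by_contra hab
    have hmem : g ∈ MulAction.stabilizer G (Function.Embedding.embFinTwo hab) := by
      rw [MulAction.mem_stabilizer_iff]
      ext i
      fin_cases i
      · exact ha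
      · exact hb
    rw [hsharp, Subgroup.mem_bot] at hmem
    exact hg1 hmem
  -- the order of G
  have hG : Nat.card G = Fintype.card α * (Fintype.card α - 1) := by
    obtain ⟨a, b, hab⟩ := Fintype.exists_pair_of_one_lt_card (show 1 < Fintype.card α by omega)
    have h2t : ∀ {a b c d : α} (_ : a ≠ b) (_ : c ≠ d), ∃ g : G, g • a = c ∧ g • b = d :=
      (MulAction.is_two_pretransitive_iff (G := G) (α := α)).mp inferInstance
    haveI : @MulAction.IsPretransitive G (Fin 2 ↪ α)
        (inferInstance : MulAction G (Fin 2 ↪ α)).toSMul := ⟨fun x y => by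
      obtain ⟨g, h0, h1⟩ := h2t (x.injective.ne (by decide : (0 : Fin 2) ≠ 1))
        (y.injective.ne (by decide : (0 : Fin 2) ≠ 1))
      refine ⟨g, ?_⟩
      ext i
      fin_cases i
      · exact h0
      · exact h1⟩
    have h1 := MulAction.index_stabilizer_of_transitive (G := G) (x := Function.Embedding.embFinTwo hab)
    rw [hsharp, Subgroup.index_bot, Nat.card_eq_fintype_card (α := Fin 2 ↪ α),
      Fintype.card_embedding_eq, Fintype.card_fin] at h1
    rw [h1]
    simp [Nat.descFactorial, mul_comm]
  obtain ⟨p, j, hp, hj, hnp, N, hNn, hNmem, hNcard, hNcomm, hNexp⟩ :=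
    core (Fintype.card α) hncard h2 hG hfix
  refine ⟨p, j, hp, hj, hnp, ?_⟩
  intro hpf P
  -- P = N
  have hNp : IsPGroup p N := by
    intro y
    refine ⟨1, ?_⟩
    rw [pow_one]
    exact Subtype.ext (by simpa using hNexp y y.2)
  have hNP : N ≤ (P : Subgroup G) := hNp.le_sylow_of_normal P
  have hPN : (P : Subgroup G) = N := by
    symm
    apply Subgroup.eq_of_le_of_card_ge hNP
    obtain ⟨k, hk⟩ := (IsPGroup.iff_card).mp P.2
    have hdvd : Nat.card (P : Subgroup G) ∣ Nat.card G := Subgroup.card_subgroup_dvd_card _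
    rw [hk, hG, hnp] at hdvd
    have hcop : (p ^ k).Coprime (p ^ j - 1) := by
      apply Nat.Coprime.pow_left
      rw [Nat.Prime.coprime_iff_not_dvd hp]
      intro hd
      have h3 : p ∣ p ^ j := dvd_pow_self p (by omega)
      have h4 : p ∣ p ^ j - (p ^ j - 1) := Nat.dvd_sub h3 hd
      have hpos : 0 < p ^ j := Nat.pos_of_ne_zero (pow_ne_zero _ hp.ne_zero)
      have h5 : p ^ j - (p ^ j - 1) = 1 := by omega
      rw [h5] at h4
      exact hp.one_lt.ne' (Nat.dvd_one.mp h4)
    have h6 : p ^ k ∣ p ^ j := hcop.dvd_of_dvd_mul_right hdvd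
    rw [hk, hNcard, hnp]
    exact Nat.le_of_dvd (Nat.pos_of_ne_zero (pow_ne_zero _ hp.ne_zero)) h6
  rw [hPN]
  have hstabN : ∀ a : α, MulAction.stabilizer N a = ⊥ := by
    intro a
    rw [eq_bot_iff]
    intro g hg
    rw [MulAction.mem_stabilizer_iff] at hg
    rw [Subgroup.mem_bot]
    rcases (hNmem g).mp g.2 with h | h
    · exact Subtype.ext h
    · exact absurd hg (h a)
  refine ⟨hNn, ⟨⟨fun a b => Subtype.ext (hNcomm a a.2 b b.2)⟩⟩, hNexp, ?_, hstabN, hNmem⟩
  constructor
  intro a b
  have h1 := MulAction.index_stabilizer (G := N) (x := a)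
  rw [hstabN, Subgroup.index_bot, hNcard, ← hncard] at h1
  have h2 : MulAction.orbit N a = Set.univ := by
    rw [Set.eq_univ_iff_ncard, ← h1]
  have : b ∈ MulAction.orbit N a := by rw [h2]; trivial
  exact this

end Cfsg.Agent.S0680
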