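import Cfsg.Statements.S0683
import Mathlib
import Cfsg.Agent.S0680

set_option autoImplicit false
open Cfsg

namespace Cfsg.Agent.S0683

/-- the near-field attached to a group with a regular normal abelian subgroup `N` and a point
stabilizer regular on the remaining points -/
theorem nearfield_of_regular {G α : Type*} [Group G] [MulAction G α] (N : Subgroup G)
    (hNn : N.Normal) (hNc : ∀ x ∈ N, ∀ y ∈ N, x * y = y * x) (o e : α) (hoe : o ≠ e)
    (hN : ∀ x : α, ∃ n ∈ N, n • o = x) (hNfree : ∀ n ∈ N, n • o = o → n = 1)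
    (hH : ∀ a : α, a ≠ o → ∃ h : G, h • o = o ∧ h • e = a)
    (hHfree : ∀ h : G, h • o = o → h • e = e → h = 1) :
    ∃ _ : Cfsg.NearField α,
      (∀ g : G, ∃ a b : α, a ≠ 0 ∧ ∀ x : α, g • x = x * a + b) ∧
      (∀ a b : α, a ≠ 0 → ∃ g : G, ∀ x : α, g • x = x * a + b) := by
  classical
  choose τ hτN hτo using hN
  -- uniqueness for N
  have hNuniq : ∀ n ∈ N, ∀ n' ∈ N, n • o = n' • o → n = n' := by
    intro n hn n' hn' h
    have h1 : (n'⁻¹ * n) • o = o := by rw [mul_smul, h, ← mul_smul, inv_mul_cancel, one_smul]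
    have h2 := hNfree _ (N.mul_mem (N.inv_mem hn') hn) h1
    calc n = n' * (n'⁻¹ * n) := by group
      _ = n' := by rw [h2, mul_one]
  have hτuniq : ∀ n ∈ N, τ (n • o) = n := fun n hn =>
    hNuniq _ (hτN _) _ hn (hτo _)
  have hτo1 : τ o = 1 := by
    have := hτuniq 1 N.one_mem
    rwa [one_smul] at this
  -- the point stabilizer
  have hHex : ∀ a : α, ∃ h : G, a ≠ o → (h • o = o ∧ h • e = a) := by
    intro a
    by_cases ha : a = o
    · exact ⟨1, fun h => absurd ha h⟩
    · obtain ⟨h, hh⟩ := hH a ha
      exact ⟨h, fun _ => hh⟩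
  choose η hη using hHex
  have hHuniq : ∀ h h' : G, h • o = o → h' • o = o → h • e = h' • e → h = h' := by
    intro h h' ho ho' he
    have h1 : (h'⁻¹ * h) • o = o := by
      rw [mul_smul, ho, ← ho', ← mul_smul, inv_mul_cancel, one_smul, ho']
    have h2 : (h'⁻¹ * h) • e = e := by
      rw [mul_smul, he, ← mul_smul, inv_mul_cancel, one_smul]
    have h3 := hHfree _ h1 h2
    calc h = h' * (h'⁻¹ * h) := by group
      _ = h' := by rw [h3, mul_one]
  have hηe : η e = 1 := by
    obtain ⟨h1, h2⟩ := hη e hoe.symm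
    exact hHuniq _ _ h1 (one_smul _ _) (by rw [h2, one_smul])
  have hfix_ne : ∀ h : G, h • o = o → ∀ a : α, a ≠ o → h • a ≠ o := by
    intro h ho a ha hc
    apply ha
    have : h • a = h • o := by rw [hc, ho]
    exact MulAction.injective h this
  -- raw operations
  let add : α → α → α := fun x y => τ x • y
  let mul : α → α → α := fun x a => if a = o then o else η a • x
  have hadd_assoc : ∀ a b c : α, add (add a b) c = add a (add b c) := by
    intro a b c
    change τ (τ a • b) • c = τ a • (τ b • c)
    have : τ (τ a • b) = τ a * τ b := by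
      have h1 : τ a • b = (τ a * τ b) • o := by rw [mul_smul, hτo]
      rw [h1]
      exact hτuniq _ (N.mul_mem (hτN a) (hτN b))
    rw [this, mul_smul]
  have hzero_add : ∀ a : α, add o a = a := by
    intro a
    change τ o • a = a
    rw [hτo1, one_smul]
  have hneg : ∀ a : α, add ((τ a)⁻¹ • o) a = o := by
    intro a
    change τ ((τ a)⁻¹ • o) • a = o
    rw [hτuniq _ (N.inv_mem (hτN a))]
    exact inv_smul_eq_iff.mpr (hτo a).symm
  have hadd_comm : ∀ a b : α, add a b = add b a := by
    intro a b
    change τ a • b = τ b • a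
    conv_lhs => rw [← hτo b]
    conv_rhs => rw [← hτo a]
    rw [← mul_smul, ← mul_smul, hNc _ (hτN a) _ (hτN b)]
  have hmul_assoc : ∀ a b c : α, mul (mul a b) c = mul a (mul b c) := by
    intro a b c
    change (if c = o then o else η c • (if b = o then o else η b • a)) =
      (if (if c = o then o else η c • b) = o then o else η (if c = o then o else η c • b) • a)
    by_cases hc : c = o
    · simp [hc]
    · obtain ⟨hc1, hc2⟩ := hη c hc
      by_cases hb : b = o
      · simp [hc, hb, hc1]
      · obtain ⟨hb1, hb2⟩ := hη b hb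
        have hne : η c • b ≠ o := hfix_ne _ hc1 b hb
        simp only [hc, hb, if_false, hne]
        obtain ⟨hd1, hd2⟩ := hη (η c • b) hne
        have : η (η c • b) = η c * η b := by
          apply hHuniq _ _ hd1
          · rw [mul_smul, hb1, hc1]
          · rw [hd2, mul_smul, hb2]
        rw [this, mul_smul]
  have hone_mul : ∀ a : α, mul e a = a := by
    intro a
    change (if a = o then o else η a • e) = a
    by_cases ha : a = o
    · simp [ha]
    · simp only [ha, if_false]
      exact (hη a ha).2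
  have hmul_one : ∀ a : α, mul a e = a := by
    intro a
    change (if e = o then o else η e • a) = a
    simp only [hoe.symm, if_false, hηe, one_smul]
  have hdistrib : ∀ a b c : α, mul (add a b) c = add (mul a c) (mul b c) := by
    intro a b c
    change (if c = o then o else η c • (τ a • b)) =
      τ (if c = o then o else η c • a) • (if c = o then o else η c • b)
    by_cases hc : c = o
    · simp only [hc, if_true, hτo1, one_smul]
    · simp only [hc, if_false]
      obtain ⟨hc1, hc2⟩ := hη c hc
      have h1 : τ (η c • a) = η c * τ a * (η c)⁻¹ := by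
        have h2 : η c • a = (η c * τ a * (η c)⁻¹) • o := by
          rw [mul_smul, mul_smul]
          have : (η c)⁻¹ • o = o := by
            conv_lhs => rw [← hc1]
            rw [← mul_smul, inv_mul_cancel, one_smul]
          rw [this, hτo]
        rw [h2]
        exact hτuniq _ (hNn.conj_mem _ (hτN a) _)
      rw [h1, mul_smul, mul_smul, ← mul_smul (η c)⁻¹, inv_mul_cancel, one_smul]
  have hmul_zero : ∀ a : α, mul a o = o := by
    intro a
    change (if o = o then o else η o • a) = o
    simp
  have hzero_mul : ∀ a : α, mul o a = o := by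
    intro a
    change (if a = o then o else η a • o) = o
    by_cases ha : a = o
    · simp [ha]
    · simp only [ha, if_false]
      exact (hη a ha).1
  have hinv : ∀ a : α, a ≠ o → ∃ b : α, mul a b = e ∧ mul b a = e := by
    intro a ha
    obtain ⟨ha1, ha2⟩ := hη a ha
    have hinvo : (η a)⁻¹ • o = o := by
      conv_lhs => rw [← ha1]
      rw [← mul_smul, inv_mul_cancel, one_smul]
    have hb : (η a)⁻¹ • e ≠ o := hfix_ne _ hinvo e hoe.symm
    obtain ⟨hb1, hb2⟩ := hη _ hb
    have hηb : η ((η a)⁻¹ • e) = (η a)⁻¹ := hHuniq _ _ hb1 hinvo hb2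
    refine ⟨(η a)⁻¹ • e, ?_, ?_⟩
    · change (if (η a)⁻¹ • e = o then o else η ((η a)⁻¹ • e) • a) = e
      simp only [hb, if_false, hηb]
      exact inv_smul_eq_iff.mpr ha2.symm
    · change (if a = o then o else η a • ((η a)⁻¹ • e)) = e
      simp only [ha, if_false]
      rw [← mul_smul, mul_inv_cancel, one_smul]
  -- the structures
  letI iAdd : Add α := ⟨add⟩
  letI iZero : Zero α := ⟨o⟩
  letI iNeg : Neg α := ⟨fun x => (τ x)⁻¹ • o⟩
  let addG : AddGroup α := AddGroup.ofLeftAxioms hadd_assoc hzero_add hneg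
  let monM : Monoid α :=
    { mul := mul
      one := e
      mul_assoc := hmul_assoc
      one_mul := hone_mul
      mul_one := hmul_one }
  let nf : Cfsg.NearField α :=
    { toAddGroup := addG
      toMonoid := monM
      right_distrib := hdistrib
      mul_zero := hmul_zero
      zero_ne_one := hoe
      exists_inv := hinv }
  refine ⟨nf, ?_, ?_⟩
  · intro g
    -- b := g • o, h := (τ b)⁻¹ * g fixes o, a := h • e
    have hfixo : ((τ (g • o))⁻¹ * g) • o = o := by
      rw [mul_smul]
      exact inv_smul_eq_iff.mpr (hτo (g • o)).symm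
    have hane : ((τ (g • o))⁻¹ * g) • e ≠ o := hfix_ne _ hfixo e hoe.symm
    refine ⟨((τ (g • o))⁻¹ * g) • e, g • o, hane, ?_⟩
    intro x
    obtain ⟨hd1, hd2⟩ := hη _ hane
    have hηa : η (((τ (g • o))⁻¹ * g) • e) = (τ (g • o))⁻¹ * g := hHuniq _ _ hd1 hfixo hd2
    change g • x = add (mul x (((τ (g • o))⁻¹ * g) • e)) (g • o)
    rw [hadd_comm]
    change g • x = τ (g • o) • (if ((τ (g • o))⁻¹ * g) • e = o then o else η (((τ (g • o))⁻¹ * g) • e) • x)
    simp only [hane, if_false, hηa]
    rw [← mul_smul, ← mul_assoc, mul_inv_cancel, one_mul]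
  · intro a b ha
    have ha' : a ≠ o := ha
    refine ⟨τ b * η a, ?_⟩
    intro x
    change (τ b * η a) • x = add (mul x a) b
    rw [hadd_comm]
    change (τ b * η a) • x = τ b • (if a = o then o else η a • x)
    simp only [ha', if_false]
    rw [mul_smul]

/-- A finite sharply doubly transitive permutation group is the affine group of a near-field: the permuted set carries a near-field structure for which the group consists exactly of the maps `x ↦ x * a + b` with `a ≠ 0`. -/
theorem result {α : Type*} [Fintype α] [DecidableEq α] (H : Subgroup (Equiv.Perm α)) [MulAction.IsMultiplyPretransitive H α 2] (hsharp : ∀ x : Fin 2 ↪ α, MulAction.stabilizer H x = ⊥) (h2 : 2 ≤ Fintype.card α) : ∃ _ : Cfsg.NearField α, ∀ σ : Equiv.Perm α, σ ∈ H ↔ ∃ a b : α, a ≠ 0 ∧ ∀ x : α, σ x = x * a + b := by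
  classical
  obtain ⟨p, j, hp, hj, hnp, hP⟩ := Cfsg.Agent.S0680.result H hsharp h2
  haveI hpf : Fact p.Prime := ⟨hp⟩
  obtain ⟨P⟩ := (inferInstance : Nonempty (Sylow p H))
  obtain ⟨hPn, hPc, hPexp, hPtrans, hPfree, hPmem⟩ := hP hpf P
  obtain ⟨o, e, hoe⟩ := Fintype.exists_pair_of_one_lt_card (show 1 < Fintype.card α by omega)
  have h2t : ∀ {a b c d : α} (_ : a ≠ b) (_ : c ≠ d), ∃ g : H, g • a = c ∧ g • b = d :=
    (MulAction.is_two_pretransitive_iff (G := H) (α := α)).mp inferInstance
  have hfix : ∀ g : H, g • o = o → g • e = e → g = 1 := by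
    intro g ha hb
    have hmem : g ∈ MulAction.stabilizer H (Function.Embedding.embFinTwo hoe) := by
      rw [MulAction.mem_stabilizer_iff]
      ext i
      fin_cases i
      · exact ha
      · exact hb
    rw [hsharp, Subgroup.mem_bot] at hmem
    exact hmem
  have hNc : ∀ x ∈ (P : Subgroup H), ∀ y ∈ (P : Subgroup H), x * y = y * x := by
    intro x hx y hy
    have := hPc.is_comm.comm ⟨x, hx⟩ ⟨y, hy⟩
    exact Subtype.ext_iff.mp this
  have hN : ∀ x : α, ∃ n ∈ (P : Subgroup H), n • o = x := by
    intro x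
    obtain ⟨n, hn⟩ := MulAction.exists_smul_eq (P : Subgroup H) o x
    exact ⟨n.1, n.2, hn⟩
  have hNfree : ∀ n ∈ (P : Subgroup H), n • o = o → n = 1 := by
    intro n hn hno
    have hmem : (⟨n, hn⟩ : (P : Subgroup H)) ∈ MulAction.stabilizer (P : Subgroup H) o := by
      rw [MulAction.mem_stabilizer_iff]
      exact hno
    rw [hPfree o, Subgroup.mem_bot] at hmem
    exact Subtype.ext_iff.mp hmem
  have hH : ∀ a : α, a ≠ o → ∃ h : H, h • o = o ∧ h • e = a := by
    intro a ha
    exact h2t hoe (Ne.symm ha)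
  obtain ⟨nf, h1, h2'⟩ := nearfield_of_regular (G := H) (α := α) (P : Subgroup H) hPn hNc o e hoe
    hN hNfree hH hfix
  refine ⟨nf, ?_⟩
  intro σ
  constructor
  · intro hσ
    obtain ⟨a, b, ha, hab⟩ := h1 ⟨σ, hσ⟩
    exact ⟨a, b, ha, fun x => hab x⟩
  · rintro ⟨a, b, ha, hab⟩
    obtain ⟨g, hg⟩ := h2' a b ha
    have : σ = (g : Equiv.Perm α) := by
      apply Equiv.ext
      intro x
      rw [hab x, ← hg x]
      rfl
    rw [this]
    exact g.2

end Cfsg.Agent.S0683
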