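import Cfsg.Statements.S0728
import Mathlib

set_option autoImplicit false
open Cfsg

namespace Cfsg.Agent.S0728

section
variable {G α : Type*} [Group G] [MulAction G α]

/-- the embedding of three distinct points -/
def emb3 (p q r : α) (hpq : p ≠ q) (hpr : p ≠ r) (hqr : q ≠ r) : Fin 3 ↪ α :=
  ⟨![p, q, r], by
    intro i j hij
    fin_cases i <;> fin_cases j <;> simp_all⟩

theorem emb3_zero (p q r : α) (hpq : p ≠ q) (hpr : p ≠ r) (hqr : q ≠ r) :
    emb3 p q r hpq hpr hqr 0 = p := rfl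
theorem emb3_one (p q r : α) (hpq : p ≠ q) (hpr : p ≠ r) (hqr : q ≠ r) :
    emb3 p q r hpq hpr hqr 1 = q := rfl
theorem emb3_two (p q r : α) (hpq : p ≠ q) (hpr : p ≠ r) (hqr : q ≠ r) :
    emb3 p q r hpq hpr hqr 2 = r := rfl

theorem exists_map3 (h3 : MulAction.IsMultiplyPretransitive G α 3) {p q r p' q' r' : α}
    (hpq : p ≠ q) (hpr : p ≠ r) (hqr : q ≠ r) (hpq' : p' ≠ q') (hpr' : p' ≠ r')
    (hqr' : q' ≠ r') : ∃ g : G, g • p = p' ∧ g • q = q' ∧ g • r = r' := by
  obtain ⟨g, hg⟩ := h3.exists_smul_eq (emb3 p q r hpq hpr hqr) (emb3 p' q' r' hpq' hpr' hqr')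
  refine ⟨g, ?_, ?_, ?_⟩
  · have := DFunLike.congr_fun hg 0
    rwa [Function.Embedding.smul_apply, emb3_zero, emb3_zero] at this
  · have := DFunLike.congr_fun hg 1
    rwa [Function.Embedding.smul_apply, emb3_one, emb3_one] at this
  · have := DFunLike.congr_fun hg 2
    rwa [Function.Embedding.smul_apply, emb3_two, emb3_two] at this

theorem eq_one_of_fix3 (hsharp : ∀ x : Fin 3 ↪ α, MulAction.stabilizer G x = ⊥) {g : G}
    {p q r : α} (hpq : p ≠ q) (hpr : p ≠ r) (hqr : q ≠ r)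
    (hp : g • p = p) (hq : g • q = q) (hr : g • r = r) : g = 1 := by
  have h : g ∈ MulAction.stabilizer G (emb3 p q r hpq hpr hqr) := by
    rw [MulAction.mem_stabilizer_iff]
    ext i
    fin_cases i
    · show (g • emb3 p q r hpq hpr hqr) 0 = emb3 p q r hpq hpr hqr 0
      rw [Function.Embedding.smul_apply, emb3_zero, hp]
    · show (g • emb3 p q r hpq hpr hqr) 1 = emb3 p q r hpq hpr hqr 1
      rw [Function.Embedding.smul_apply, emb3_one, hq]
    · show (g • emb3 p q r hpq hpr hqr) 2 = emb3 p q r hpq hpr hqr 2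
      rw [Function.Embedding.smul_apply, emb3_two, hr]
  rw [hsharp] at h
  exact Subgroup.mem_bot.mp h

theorem eq_of_agree3 (hsharp : ∀ x : Fin 3 ↪ α, MulAction.stabilizer G x = ⊥) {g h : G}
    {p q r : α} (hpq : p ≠ q) (hpr : p ≠ r) (hqr : q ≠ r)
    (hp : g • p = h • p) (hq : g • q = h • q) (hr : g • r = h • r) : g = h := by
  have h1 : h⁻¹ * g = 1 := by
    apply eq_one_of_fix3 hsharp hpq hpr hqr
    · rw [mul_smul, hp, inv_smul_smul]
    · rw [mul_smul, hq, inv_smul_smul]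
    · rw [mul_smul, hr, inv_smul_smul]
  have : g = h * (h⁻¹ * g) := by group
  rw [this, h1, mul_one]

/-- the conjugating element -/
theorem conj_step (h3 : MulAction.IsMultiplyPretransitive G α 3)
    (hsharp : ∀ x : Fin 3 ↪ α, MulAction.stabilizer G x = ⊥) {a b c : α} (hab : a ≠ b)
    (hca : c ≠ a) (hcb : c ≠ b) {x y : G} (hx3 : x ^ 3 = 1) (hy3 : y ^ 3 = 1) (hx1 : x ≠ 1)
    (hy1 : y ≠ 1) (hxa : x • a = a) (hxb : x • b = b) (hya : y • a = a) (hyb : y • b = b) :
    ∃ g : G, g • c = c ∧ y = g * x * g⁻¹ ∧ ((g • a = a ∧ g • b = b) ∨ (g • a = b ∧ g • b = a)) := by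
  have fixfree : ∀ {w : G}, w ≠ 1 → w • a = a → w • b = b → ∀ e : α, w • e = e → e = a ∨ e = b := by
    intro w hw1 hwa hwb e he
    by_contra hcon
    push_neg at hcon
    exact hw1 (eq_one_of_fix3 hsharp hab hcon.1.symm hcon.2.symm hwa hwb he)
  have cyc : ∀ {w : G}, w ^ 3 = 1 → w ≠ 1 → w • a = a → w • b = b →
      w • c ≠ c ∧ w • w • c ≠ c ∧ w • c ≠ w • w • c ∧ w • w • w • c = c := by
    intro w hw3 hw1 hwa hwb
    have h1 : w • c ≠ c := by
      intro h
      rcases fixfree hw1 hwa hwb c h with h | h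
      · exact hca h
      · exact hcb h
    have h3' : w • w • w • c = c := by
      rw [← mul_smul, ← mul_smul, ← pow_three', hw3, one_smul]
    refine ⟨h1, ?_, ?_, h3'⟩
    · intro h
      apply h1
      have := h3'
      rw [h] at this
      exact this
    · intro h
      exact h1 ((MulAction.injective w h).symm)
  obtain ⟨hx_1, hx_2, hx_12, hx_3⟩ := cyc hx3 hx1 hxa hxb
  obtain ⟨hy_1, hy_2, hy_12, hy_3⟩ := cyc hy3 hy1 hya hyb
  obtain ⟨g, hgc, hg1, hg2⟩ := exists_map3 h3 hx_1.symm hx_2.symm hx_12 hy_1.symm hy_2.symm hy_12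
  have hy : y = g * x * g⁻¹ := by
    apply eq_of_agree3 hsharp hy_1.symm hy_2.symm hy_12
    · -- at c
      rw [mul_smul, mul_smul]
      have : g⁻¹ • c = c := by
        rw [inv_smul_eq_iff, hgc]
      rw [this, hg1]
    · -- at y • c
      rw [mul_smul, mul_smul]
      have : g⁻¹ • y • c = x • c := by
        rw [inv_smul_eq_iff, hg1]
      rw [this, hg2]
    · rw [mul_smul, mul_smul]
      have : g⁻¹ • y • y • c = x • x • c := by
        rw [inv_smul_eq_iff, hg2]
      rw [this, hx_3, hgc, hy_3]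
  refine ⟨g, hgc, hy, ?_⟩
  have hga : y • (g • a) = g • a := by
    rw [hy, mul_smul, mul_smul, inv_smul_smul, hxa]
  have hgb : y • (g • b) = g • b := by
    rw [hy, mul_smul, mul_smul, inv_smul_smul, hxb]
  have hgab : g • a ≠ g • b := fun h => hab (MulAction.injective g h)
  rcases fixfree hy1 hya hyb _ hga with h | h
  · rcases fixfree hy1 hya hyb _ hgb with h' | h'
    · exact absurd (h.trans h'.symm) hgab
    · exact Or.inl ⟨h, h'⟩
  · rcases fixfree hy1 hya hyb _ hgb with h' | h'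
    · exact Or.inr ⟨h, h'⟩
    · exact absurd (h.trans h'.symm) hgab

theorem key (h3 : MulAction.IsMultiplyPretransitive G α 3)
    (hsharp : ∀ x : Fin 3 ↪ α, MulAction.stabilizer G x = ⊥) {a b c : α} (hab : a ≠ b)
    (hca : c ≠ a) (hcb : c ≠ b) {x y : G} (hx3 : x ^ 3 = 1) (hy3 : y ^ 3 = 1) (hx1 : x ≠ 1)
    (hy1 : y ≠ 1) (hxa : x • a = a) (hxb : x • b = b) (hya : y • a = a) (hyb : y • b = b) :
    y = x ∨ y = x⁻¹ := by
  have hxi3 : x⁻¹ ^ 3 = 1 := by rw [inv_pow, hx3, inv_one]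
  have hxi1 : x⁻¹ ≠ 1 := by simpa using hx1
  have hxia : x⁻¹ • a = a := by rw [inv_smul_eq_iff, hxa]
  have hxib : x⁻¹ • b = b := by rw [inv_smul_eq_iff, hxb]
  obtain ⟨g, hgc, hyg, hg⟩ := conj_step h3 hsharp hab hca hcb hx3 hy3 hx1 hy1 hxa hxb hya hyb
  obtain ⟨g', hgc', hyg', hg'⟩ :=
    conj_step h3 hsharp hab hca hcb hxi3 hy3 hxi1 hy1 hxia hxib hya hyb
  rcases hg with ⟨hga, hgb⟩ | ⟨hga, hgb⟩
  · left
    have : g = 1 := eq_one_of_fix3 hsharp hab hca.symm hcb.symm hga hgb hgc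
    rw [hyg, this]; simp
  · rcases hg' with ⟨hga', hgb'⟩ | ⟨hga', hgb'⟩
    · right
      have : g' = 1 := eq_one_of_fix3 hsharp hab hca.symm hcb.symm hga' hgb' hgc'
      rw [hyg', this]; simp
    · exfalso
      have hgg : g = g' := by
        apply eq_of_agree3 hsharp hab hca.symm hcb.symm
        · rw [hga, hga']
        · rw [hgb, hgb']
        · rw [hgc, hgc']
      rw [← hgg] at hyg'
      have h1 : g * x * g⁻¹ = g * x⁻¹ * g⁻¹ := hyg.symm.trans hyg'
      have h2 : x = x⁻¹ := by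
        have := mul_right_cancel h1
        exact mul_left_cancel this
      have h4 : x ^ 2 = 1 := by
        rw [pow_two]
        nth_rewrite 2 [h2]
        exact mul_inv_cancel x
      apply hx1
      have : x ^ 3 = x ^ 2 * x := pow_succ x 2
      rw [hx3, h4, one_mul] at this
      exact this.symm

end

/-- In a sharply triply transitive group of even degree at least 6 (degree `q + 1`, `q` odd), a two-point stabiliser has at most one subgroup of order 3. -/
theorem result {α : Type*} [Fintype α] [DecidableEq α] (heven : Even (Fintype.card α)) (h6 : 6 ≤ Fintype.card α) (G : Subgroup (Equiv.Perm α)) (h3 : MulAction.IsMultiplyPretransitive G α 3) (hsharp : ∀ x : Fin 3 ↪ α, MulAction.stabilizer G x = ⊥) {a b : α} (hab : a ≠ b) (A B : Subgroup G) (hA : A ≤ MulAction.stabilizer G a ⊓ MulAction.stabilizer G b) (hB : B ≤ MulAction.stabilizer G a ⊓ MulAction.stabilizer G b) (hA3 : Nat.card A = 3) (hB3 : Nat.card B = 3) : A = B := by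
  classical
  -- a third point
  obtain ⟨c, hca, hcb⟩ : ∃ c : α, c ≠ a ∧ c ≠ b := by
    by_contra hcon
    push_neg at hcon
    have : (Finset.univ : Finset α) ⊆ {a, b} := by
      intro e _
      by_cases h : e = a
      · simp [h]
      · simp [hcon e h]
    have h1 := Finset.card_le_card this
    rw [Finset.card_univ] at h1
    have h2 : ({a, b} : Finset α).card ≤ 2 := Finset.card_le_two
    omega
  haveI : Finite A := Nat.finite_of_card_ne_zero (by rw [hA3]; norm_num)
  haveI : Finite B := Nat.finite_of_card_ne_zero (by rw [hB3]; norm_num)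
  -- nonidentity element of A
  have hAne : A ≠ ⊥ := by
    intro h
    rw [h, Subgroup.card_bot] at hA3
    norm_num at hA3
  obtain ⟨x, hxA, hx1⟩ := (Subgroup.ne_bot_iff_exists_ne_one).mp hAne |>.imp (fun x hx => hx) |> fun ⟨x, hx⟩ => (⟨(x : G), x.2, fun h => hx (Subtype.ext h)⟩ : ∃ x : G, x ∈ A ∧ x ≠ 1)
  have pow3 : ∀ (H : Subgroup G), Nat.card H = 3 → ∀ w ∈ H, w ^ 3 = 1 := by
    intro H hH w hw
    have h1 : (⟨w, hw⟩ : H) ^ Nat.card H = 1 := pow_card_eq_one'
    rw [hH] at h1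
    have h2 := congrArg Subtype.val h1
    simpa using h2
  have hx3 := pow3 A hA3 x hxA
  have hxs := hA hxA
  rw [Subgroup.mem_inf, MulAction.mem_stabilizer_iff, MulAction.mem_stabilizer_iff] at hxs
  symm
  apply Subgroup.eq_of_le_of_card_ge
  · intro y hyB
    by_cases hy1 : y = 1
    · rw [hy1]; exact A.one_mem
    have hy3 := pow3 B hB3 y hyB
    have hys := hB hyB
    rw [Subgroup.mem_inf, MulAction.mem_stabilizer_iff, MulAction.mem_stabilizer_iff] at hys
    rcases key h3 hsharp hab hca hcb hx3 hy3 hx1 hy1 hxs.1 hxs.2 hys.1 hys.2 with h | h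
    · rw [h]; exact hxA
    · rw [h]; exact A.inv_mem hxA
  · rw [hA3, hB3]

end Cfsg.Agent.S0728
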