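import Cfsg.Statements.S0111
-- import your own Cfsg.Agent.* helpers here

set_option autoImplicit false
open Cfsg

namespace Cfsg.Agent.S0111

/-- The Thompson transfer lemma states that an involution of a Sylow 2-subgroup P lying outside a subgroup Q of index 2 in P either lies outside some normal subgroup of index 2 in G or is conjugate to an element of Q. -/
theorem result {G : Type*} [Group G] [Finite G] (P : Sylow 2 G) (Q : Subgroup G) (hQP : Q ≤ (P : Subgroup G)) (hQi : Q.relIndex (P : Subgroup G) = 2) (u : G) (hu : orderOf u = 2) (huP : u ∈ (P : Subgroup G)) (huQ : u ∉ Q) : (∃ M : Subgroup G, M.Normal ∧ M.index = 2 ∧ u ∉ M) ∨ ∃ g : G, g * u * g⁻¹ ∈ Q := by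
  classical
  by_contra hcon
  rw [not_or] at hcon
  obtain ⟨hM, hg⟩ := hcon
  have hM' : ∀ M : Subgroup G, M.Normal → M.index = 2 → u ∈ M := by
    intro M h1 h2
    by_contra h3
    exact hM ⟨M, h1, h2, h3⟩
  have hg' : ∀ g : G, g * u * g⁻¹ ∉ Q := fun g h => hg ⟨g, h⟩
  have : Fintype (G ⧸ Q) := Fintype.ofFinite _
  -- the permutation induced by u on G ⧸ Q
  obtain ⟨σ, hσdef⟩ : ∃ σ : Equiv.Perm (G ⧸ Q), σ = MulAction.toPermHom G (G ⧸ Q) u := ⟨_, rfl⟩
  have hσapply : ∀ g : G, σ (QuotientGroup.mk g) = QuotientGroup.mk (u * g) := by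
    intro g; rw [hσdef]; rfl
  -- σ has no fixed points
  have hnofix : ∀ x : G ⧸ Q, σ x ≠ x := by
    intro x
    induction x using QuotientGroup.induction_on with
    | H g =>
      rw [hσapply]
      intro h
      rw [QuotientGroup.eq] at h
      apply hg' g⁻¹
      have : g⁻¹ * u * g⁻¹⁻¹ = ((u * g)⁻¹ * g)⁻¹ := by group
      rw [this]
      exact Q.inv_mem h
  have hσ1 : σ ≠ 1 := by
    intro h
    apply hnofix (QuotientGroup.mk 1)
    rw [h]; rfl
  have hσsq : σ ^ 2 = 1 := by
    rw [hσdef, ← map_pow, ← hu, pow_orderOf_eq_one, map_one]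
  have hσ2 : orderOf σ = 2 := orderOf_eq_prime hσsq hσ1
  -- cycle type
  obtain ⟨k, hk⟩ := Equiv.Perm.cycleType_prime_order (σ := σ) (by rw [hσ2]; exact Nat.prime_two)
  rw [hσ2] at hk
  have hsupp : σ.support = Finset.univ := by
    ext x; simp [Equiv.Perm.mem_support, hnofix x]
  have hsum : σ.cycleType.sum = Q.index := by
    rw [Equiv.Perm.sum_cycleType, hsupp, Finset.card_univ, Subgroup.index, Nat.card_eq_fintype_card]
  have hsum2 : σ.cycleType.sum = (k + 1) * 2 := by
    rw [hk, Multiset.sum_replicate, smul_eq_mul]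
  have hidx : Q.index = 2 * (P : Subgroup G).index := by
    rw [← Subgroup.relIndex_mul_index hQP, hQi]
  have hodd : ¬ 2 ∣ (P : Subgroup G).index := P.not_dvd_index
  have hk1 : k + 1 = (P : Subgroup G).index := by
    have : (k + 1) * 2 = 2 * (P : Subgroup G).index := by rw [← hsum2, hsum, hidx]
    omega
  have hsign : Equiv.Perm.sign σ = -1 := by
    rw [Equiv.Perm.sign_of_cycleType, hsum2, hk, Multiset.card_replicate]
    have hodd' : Odd (k + 1) := by
      rw [hk1]
      exact Nat.odd_iff.mpr (Nat.two_dvd_ne_zero.mp hodd)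
    have : Odd ((k + 1) * 2 + (k + 1)) := by
      obtain ⟨m, hm⟩ := hodd'
      exact ⟨3 * m + 1, by omega⟩
    exact this.neg_one_pow
  -- the kernel of the sign of the action
  obtain ⟨ψ, hψ⟩ : ∃ ψ : G →* ℤˣ, ψ = Equiv.Perm.sign.comp (MulAction.toPermHom G (G ⧸ Q)) := ⟨_, rfl⟩
  have hψu : ψ u = -1 := by
    rw [hψ, MonoidHom.comp_apply, ← hσdef, hsign]
  have hsurj : Function.Surjective ψ := by
    intro z
    rcases Int.units_eq_one_or z with h | h
    · exact ⟨1, by rw [map_one, h]⟩
    · exact ⟨u, by rw [hψu, h]⟩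
  have hindex : ψ.ker.index = 2 := by
    rw [Subgroup.index_ker, MonoidHom.range_eq_top.mpr hsurj, Subgroup.card_top,
      Nat.card_eq_fintype_card, Fintype.card_units_int]
  have huker : u ∈ ψ.ker := hM' ψ.ker (MonoidHom.normal_ker ψ) hindex
  rw [MonoidHom.mem_ker, hψu] at huker
  exact absurd huker (by decide)

end Cfsg.Agent.S0111
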