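import Cfsg.Statements.S1007
import Mathlib
import Cfsg.Agent.Lib.Helper2.Order168f

set_option autoImplicit false
set_option maxHeartbeats 800000
open Cfsg

namespace Cfsg.Agent.S1007

open Cfsg.Agent.Lib.Helper2.Order168

section
variable {G : Type*} [Group G] [Finite G] [IsSimpleGroup G]

/-- generators of a dihedral Sylow 2-subgroup -/
structure D8Pair (T : Sylow 2 G) (a x : G) : Prop where
  haT : a ∈ (T : Subgroup G)
  hxT : x ∈ (T : Subgroup G)
  ha4 : orderOf a = 4
  hx2 : orderOf x = 2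
  hxA : x ∉ Subgroup.zpowers a
  hc : x * a * x⁻¹ = a ^ 3

variable {T : Sylow 2 G} {a x : G}

theorem D8Pair.exists_pair (h : Nat.card G = 168) (T : Sylow 2 G) : ∃ a x : G, D8Pair T a x := by
  obtain ⟨a, x, haT, hxT, ha4, hx2, hxA, hc, -⟩ := sylow_two_structure h T
  exact ⟨a, x, ⟨haT, hxT, ha4, hx2, hxA, hc⟩⟩

theorem D8Pair.xx (hp : D8Pair T a x) : x * x = 1 := by
  have := pow_orderOf_eq_one x
  rwa [hp.hx2, pow_two] at this

theorem D8Pair.a4 (hp : D8Pair T a x) : a ^ 4 = 1 := by
  have := pow_orderOf_eq_one a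
  rwa [hp.ha4] at this

theorem D8Pair.mul_pair (hp : D8Pair T a x) : D8Pair T a (x * a) := by
  have hxx := hp.xx
  have ha4' := hp.a4
  have hyy : (x * a) * (x * a) = 1 := by
    have e : (x * a) * (x * a) = (x * a * x⁻¹) * (x * x) * a := by group
    rw [e, hp.hc, hxx, mul_one, ← pow_succ]
    exact ha4'
  have hyA : x * a ∉ Subgroup.zpowers a := by
    intro hmem
    apply hp.hxA
    have e : x = (x * a) * a⁻¹ := by group
    rw [e]
    exact Subgroup.mul_mem _ hmem (Subgroup.inv_mem _ (Subgroup.mem_zpowers a))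
  have hy1 : x * a ≠ 1 := fun h1 => hyA (h1 ▸ Subgroup.one_mem _)
  refine ⟨hp.haT, Subgroup.mul_mem _ hp.hxT hp.haT, hp.ha4, ?_, hyA, ?_⟩
  · haveI : Fact (Nat.Prime 2) := ⟨by norm_num⟩
    apply orderOf_eq_prime _ hy1
    rw [pow_two]; exact hyy
  · have e : x * a * a * (x * a)⁻¹ = x * a * x⁻¹ := by group
    rw [e]; exact hp.hc

theorem D8Pair.z_comm (h : Nat.card G = 168) (hp : D8Pair T a x) :
    ∀ t ∈ (T : Subgroup G), t * a ^ 2 = a ^ 2 * t := by
  have hcl := closure_eq_sylow_two h T hp.haT hp.ha4 hp.hxT hp.hxA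
  have ha4' := hp.a4
  have hle : Subgroup.closure ({a, x} : Set G) ≤ Subgroup.centralizer ({a ^ 2} : Set G) := by
    rw [Subgroup.closure_le]
    intro y hy
    rw [SetLike.mem_coe, Subgroup.mem_centralizer_singleton_iff]
    rcases hy with rfl | hy
    · exact ((Commute.refl y).pow_right 2).eq
    · rw [Set.mem_singleton_iff] at hy
      rw [hy]
      have h1 : x * a ^ 2 * x⁻¹ = a ^ 2 := by
        rw [← conj_pow, hp.hc, ← pow_mul]
        have : a ^ (3 * 2) = a ^ 2 * a ^ 4 := by rw [← pow_add]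
        rw [this, ha4', mul_one]
      have e : x * a ^ 2 = (x * a ^ 2 * x⁻¹) * x := by group
      rw [e, h1]
  intro t ht
  rw [← hcl] at ht
  exact Subgroup.mem_centralizer_singleton_iff.mp (hle ht)

theorem D8Pair.z_order (hp : D8Pair T a x) : orderOf (a ^ 2) = 2 := by
  rw [orderOf_pow' a (by norm_num), hp.ha4]
  norm_num

theorem D8Pair.z_ne (hp : D8Pair T a x) : a ^ 2 ≠ x :=
  fun h => hp.hxA (h ▸ Subgroup.pow_mem _ (Subgroup.mem_zpowers a) 2)

theorem D8Pair.z_ne_one (hp : D8Pair T a x) : a ^ 2 ≠ 1 := by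
  intro h1
  have := hp.z_order
  rw [h1, orderOf_one] at this
  omega

theorem D8Pair.x_ne_one (hp : D8Pair T a x) : x ≠ 1 :=
  fun h1 => hp.hxA (h1 ▸ Subgroup.one_mem _)

theorem D8Pair.klein (h : Nat.card G = 168) (hp : D8Pair T a x) :
    IsKleinFour ↥(Subgroup.closure ({a ^ 2, x} : Set G)) :=
  kleinFour_closure_pair hp.z_order hp.hx2 hp.z_ne ((hp.z_comm h x hp.hxT).symm)

theorem D8Pair.klein_le (hp : D8Pair T a x) :
    Subgroup.closure ({a ^ 2, x} : Set G) ≤ (T : Subgroup G) := by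
  rw [Subgroup.closure_le]
  intro y hy
  rcases hy with rfl | hy
  · exact Subgroup.pow_mem _ hp.haT 2
  · rw [Set.mem_singleton_iff] at hy
    rw [hy]; exact hp.hxT

theorem D8Pair.klein_ne (h : Nat.card G = 168) (hp : D8Pair T a x) :
    Subgroup.closure ({a ^ 2, x} : Set G) ≠ Subgroup.closure ({a ^ 2, x * a} : Set G) := by
  intro heq
  have hx : x ∈ Subgroup.closure ({a ^ 2, x} : Set G) :=
    Subgroup.subset_closure (Set.mem_insert_of_mem _ rfl)
  have hxa : x * a ∈ Subgroup.closure ({a ^ 2, x} : Set G) := by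
    rw [heq]; exact Subgroup.subset_closure (Set.mem_insert_of_mem _ rfl)
  have ha : a ∈ Subgroup.closure ({a ^ 2, x} : Set G) := by
    have h1 := Subgroup.mul_mem _ (Subgroup.inv_mem _ hx) hxa
    have e : x⁻¹ * (x * a) = a := by group
    rwa [e] at h1
  have haa := klein_mul_self (hp.klein h) ha
  have : a ^ 2 = 1 := by rw [pow_two]; exact haa
  exact hp.z_ne_one this

theorem D8Pair.klein_cases (h : Nat.card G = 168) (hp : D8Pair T a x) {U : Subgroup G}
    (hUT : U ≤ (T : Subgroup G)) (hU : IsKleinFour ↥U) :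
    U = Subgroup.closure ({a ^ 2, x} : Set G) ∨
      U = Subgroup.closure ({a ^ 2, x * a} : Set G) := by
  have hzU := klein_center_mem h T hp.haT hp.ha4 hUT hU
  obtain ⟨u, huU, huA⟩ := klein_exists_not_mem h T hp.ha4 hU
  have hxx := hp.xx
  have ha4' := hp.a4
  have hxu := mul_mem_zpowers_of_not_mem h T hp.haT hp.ha4 hp.hxT (hUT huU) hp.hxA huA
  have hu_eq : u = x * (x * u) := by rw [← mul_assoc, hxx, one_mul]
  have hmem : x ∈ U ∨ x * a ∈ U := by
    rcases mem_zpowers_four hp.ha4 hxu with h1 | h1 | h1 | h1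
    · left
      rw [h1, mul_one] at hu_eq
      rw [← hu_eq]; exact huU
    · right
      rw [h1] at hu_eq
      rw [← hu_eq]; exact huU
    · left
      rw [h1] at hu_eq
      have e : x = u * a ^ 2 := by
        have e4 : a ^ 2 * a ^ 2 = a ^ 4 := by group
        rw [hu_eq, mul_assoc, e4, ha4', mul_one]
      rw [e]; exact Subgroup.mul_mem _ huU hzU
    · right
      rw [h1] at hu_eq
      have e : x * a = u * a ^ 2 := by
        have e5 : a ^ 3 * a ^ 2 = a ^ 4 * a := by group
        rw [hu_eq, mul_assoc, e5, ha4', one_mul]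
      rw [e]; exact Subgroup.mul_mem _ huU hzU
  rcases hmem with hx | hx
  · left
    exact klein_eq_closure hU hzU hx hp.z_ne_one hp.x_ne_one hp.z_ne
  · right
    exact klein_eq_closure hU hzU hx hp.z_ne_one hp.mul_pair.x_ne_one hp.mul_pair.z_ne

end

/-- Let G be a simple group of order 168 and T a Sylow 2-subgroup. Then T contains exactly two subgroups that are Klein four-groups; they are not conjugate in G; and the normalizer of every Klein four-subgroup of G is isomorphic to the symmetric group of degree 4. -/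
theorem result {G : Type*} [Group G] [Finite G] [IsSimpleGroup G] (h : Nat.card G = 168) (T : Sylow 2 G) : Nat.card {U : Subgroup G // U ≤ (T : Subgroup G) ∧ IsKleinFour ↥U} = 2 ∧ (∀ U W : Subgroup G, U ≤ (T : Subgroup G) → W ≤ (T : Subgroup G) → IsKleinFour ↥U → IsKleinFour ↥W → U ≠ W → ∀ g : G, U.map (MulAut.conj g).toMonoidHom ≠ W) ∧ ∀ U : Subgroup G, IsKleinFour ↥U → Nonempty (↥(Subgroup.normalizer (U : Set G)) ≃* Equiv.Perm (Fin 4)) := by
  obtain ⟨a, x, hp⟩ := D8Pair.exists_pair h T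
  refine ⟨?_, ?_, ?_⟩
  · rw [Nat.card_eq_two_iff]
    refine ⟨⟨Subgroup.closure ({a ^ 2, x} : Set G), hp.klein_le, hp.klein h⟩,
      ⟨Subgroup.closure ({a ^ 2, x * a} : Set G), hp.mul_pair.klein_le, hp.mul_pair.klein h⟩,
      ?_, ?_⟩
    · intro heq
      have := congrArg Subtype.val heq
      exact hp.klein_ne h this
    · ext ⟨U, hUT, hU⟩
      simp only [Set.mem_insert_iff, Set.mem_singleton_iff, Set.mem_univ, iff_true]
      rcases hp.klein_cases h hUT hU with h1 | h1
      · left; exact Subtype.ext h1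
      · right; exact Subtype.ext h1
  · intro U W hUT hWT hU hW hne g hg
    exact hne (klein_not_conj h T hUT hWT hU hW g hg)
  · intro U hU
    exact subgroup_card_24_equiv h _ (card_normalizer_klein h hU)

end Cfsg.Agent.S1007
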