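import Cfsg.Statements.S0055
import Mathlib

set_option autoImplicit false
open Cfsg
open scoped commutatorElement IsMulCommutative

namespace Cfsg.Agent.S0055

variable {G : Type*} [Group G] (A V : Subgroup G) (hAV : A ≤ Subgroup.normalizer (V : Set G))

/-- Conjugation by `a ∈ A` on `V`. -/
def cj (a : A) : V →* V where
  toFun v := ⟨(a : G) * v * (a : G)⁻¹, (Subgroup.mem_normalizer_iff.mp (hAV a.2) v).mp v.2⟩
  map_one' := by ext; simp
  map_mul' x y := by ext; simp

theorem cj_coe (a : A) (v : V) : ((cj A V hAV a v : V) : G) = a * v * (a : G)⁻¹ := rfl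

theorem cj_mul (a b : A) (v : V) : cj A V hAV a (cj A V hAV b v) = cj A V hAV (a * b) v := by
  ext
  simp only [cj_coe, Subgroup.coe_mul, mul_inv_rev]
  group

variable [IsMulCommutative V] [Fintype A]

/-- The norm map. -/
noncomputable def nrm : V →* V := ∏ a : A, cj A V hAV a

theorem nrm_apply (v : V) : nrm A V hAV v = ∏ a : A, cj A V hAV a v :=
  MonoidHom.finsetProd_apply _ _ _

theorem cj_nrm (b : A) (v : V) : cj A V hAV b (nrm A V hAV v) = nrm A V hAV v := by
  rw [nrm_apply, map_prod]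
  simp_rw [cj_mul]
  exact Fintype.prod_equiv (Equiv.mulLeft b) _ _ (fun a => rfl)

theorem nrm_cj (b : A) (v : V) : nrm A V hAV (cj A V hAV b v) = nrm A V hAV v := by
  rw [nrm_apply, nrm_apply]
  simp_rw [cj_mul]
  exact Fintype.prod_equiv (Equiv.mulRight b) _ _ (fun a => rfl)

theorem nrm_fixed (v : V) (hv : ∀ a : A, cj A V hAV a v = v) :
    nrm A V hAV v = v ^ Nat.card A := by
  rw [nrm_apply]
  simp_rw [hv]
  rw [Finset.prod_const, Finset.card_univ, Nat.card_eq_fintype_card]

omit [IsMulCommutative V] [Fintype A] in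
include hAV in
theorem comm_le : ⁅V, A⁆ ≤ V := by
  rw [Subgroup.commutator_le]
  intro v hv a ha
  rw [commutatorElement_def]
  have h1 : a * v⁻¹ * a⁻¹ ∈ V := (Subgroup.mem_normalizer_iff.mp (hAV ha) v⁻¹).mp (V.inv_mem hv)
  have : v * a * v⁻¹ * a⁻¹ = v * (a * v⁻¹ * a⁻¹) := by group
  rw [this]
  exact V.mul_mem hv h1

theorem comm_le_ker : ⁅V, A⁆ ≤ (nrm A V hAV).ker.map V.subtype := by
  rw [Subgroup.commutator_le]
  intro v hv a ha
  refine ⟨⟨v, hv⟩ * (cj A V hAV ⟨a, ha⟩ ⟨v, hv⟩)⁻¹, ?_, ?_⟩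
  · show nrm A V hAV _ = 1
    rw [map_mul, map_inv, nrm_cj, mul_inv_cancel]
  · rw [commutatorElement_def]
    simp only [Subgroup.subtype_apply, Subgroup.coe_mul, Subgroup.coe_inv, cj_coe]
    group

end Cfsg.Agent.S0055

namespace Cfsg.Agent.S0055

/-- Under coprime action on an abelian group V = C_V(A) × [V, A]. -/
theorem result {G : Type*} [Group G] [Finite G] (A V : Subgroup G) [IsMulCommutative V]
    (hAV : A ≤ Subgroup.normalizer (V : Set G)) (hcop : (Nat.card A).Coprime (Nat.card V)) :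
    (V ⊓ Subgroup.centralizer (A : Set G)) ⊓ ⁅V, A⁆ = ⊥ ∧ (V ⊓ Subgroup.centralizer (A : Set G)) ⊔ ⁅V, A⁆ = V := by
  classical
  haveI : Fintype A := Fintype.ofFinite A
  have hfix : ∀ x : V, (x : G) ∈ Subgroup.centralizer (A : Set G) → ∀ a : A, cj A V hAV a x = x := by
    intro x hx a
    ext
    rw [cj_coe]
    have := (Subgroup.mem_centralizer_iff.mp hx) a a.2
    rw [this]; group
  constructor
  · rw [eq_bot_iff]
    intro x hx
    obtain ⟨⟨hxV, hxC⟩, hxW⟩ := hx
    rw [Subgroup.mem_bot]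
    obtain ⟨y, hy, hyx⟩ := comm_le_ker A V hAV hxW
    have hyx' : y = ⟨x, hxV⟩ := Subtype.ext hyx
    subst hyx'
    have h1 : nrm A V hAV ⟨x, hxV⟩ = 1 := hy
    rw [nrm_fixed A V hAV ⟨x, hxV⟩ (hfix ⟨x, hxV⟩ hxC)] at h1
    have h2 : orderOf (⟨x, hxV⟩ : V) ∣ Nat.card A := orderOf_dvd_of_pow_eq_one h1
    have h3 : orderOf (⟨x, hxV⟩ : V) ∣ Nat.card V := orderOf_dvd_natCard _
    have h4 : orderOf (⟨x, hxV⟩ : V) = 1 := Nat.eq_one_of_dvd_coprimes hcop h2 h3
    rw [orderOf_eq_one_iff] at h4
    exact congrArg Subtype.val h4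
  · apply le_antisymm
    · exact sup_le inf_le_left (comm_le A V hAV)
    · intro v hv
      set v' : V := ⟨v, hv⟩ with hv'
      have hco : (Nat.card A).Coprime (orderOf v') :=
        Nat.Coprime.coprime_dvd_right (orderOf_dvd_natCard _) hcop
      obtain ⟨m, hm⟩ := exists_pow_eq_self_of_coprime hco
      have hmem : ((v' ^ Nat.card A : V) : G) ∈ (V ⊓ Subgroup.centralizer (A : Set G)) ⊔ ⁅V, A⁆ := by
        have hsplit : v' ^ Nat.card A = nrm A V hAV v' * (v' ^ Nat.card A * (nrm A V hAV v')⁻¹) := by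
          rw [mul_comm (v' ^ Nat.card A), ← mul_assoc, mul_inv_cancel, one_mul]
        rw [hsplit, Subgroup.coe_mul]
        apply Subgroup.mul_mem_sup
        · refine ⟨(nrm A V hAV v').2, ?_⟩
          show (nrm A V hAV v' : G) ∈ Subgroup.centralizer (A : Set G)
          rw [Subgroup.mem_centralizer_iff]
          intro a ha
          have := congrArg Subtype.val (cj_nrm A V hAV ⟨a, ha⟩ v')
          rw [cj_coe] at this
          calc a * (nrm A V hAV v' : G) = (a * (nrm A V hAV v' : G) * a⁻¹) * a := by group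
            _ = (nrm A V hAV v' : G) * a := by rw [this]
        · have hprod : v' ^ Nat.card A * (nrm A V hAV v')⁻¹ = ∏ a : A, (v' * (cj A V hAV a v')⁻¹) := by
            rw [Finset.prod_mul_distrib, Finset.prod_inv_distrib, Finset.prod_const, Finset.card_univ,
              Nat.card_eq_fintype_card, nrm_apply]
          rw [hprod]
          have hsub : (∏ a : A, (v' * (cj A V hAV a v')⁻¹)) ∈ (⁅V, A⁆ : Subgroup G).subgroupOf V := by
            apply Subgroup.prod_mem
            intro a _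
            rw [Subgroup.mem_subgroupOf]
            have h1 : ⁅v, (a : G)⁆ ∈ ⁅V, A⁆ := Subgroup.commutator_mem_commutator hv a.2
            have h2 : ((v' * (cj A V hAV a v')⁻¹ : V) : G) = ⁅v, (a : G)⁆ := by
              rw [commutatorElement_def]
              simp only [Subgroup.coe_mul, Subgroup.coe_inv, cj_coe, hv']
              group
            rw [h2]; exact h1
          exact hsub
      have hv2 : v = ((v' ^ Nat.card A : V) : G) ^ m := by
        have := congrArg Subtype.val hm
        simpa using this.symm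
      rw [hv2]
      exact Subgroup.pow_mem _ hmem m

end Cfsg.Agent.S0055
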