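-- Statement S1024: root elements x_r(t) are trivial exactly for t = 0.
-- Proof (helper6): read off matrix entries; table facts about negIdx by kernel decision.
import Cfsg.Statements.S1024
import Mathlib

set_option autoImplicit false
open Cfsg

namespace Cfsg.Agent.S1024

open Cfsg.Lie

theorem neg_facts (D : Cfsg.Lie.ChevalleyDatum) (hD : D ∈ [Cfsg.Lie.chevG2, Cfsg.Lie.chevB2, Cfsg.Lie.chevD4, Cfsg.Lie.chevF4, Cfsg.Lie.chevE6, Cfsg.Lie.chevE7, Cfsg.Lie.chevE8]) :
    ∀ r < D.nroots, D.negIdx.getD r 0 < D.nroots ∧ D.negIdx.getD r 0 ≠ r := by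
  simp only [List.mem_cons, List.not_mem_nil, or_false] at hD
  rcases hD with rfl | rfl | rfl | rfl | rfl | rfl | rfl
  · decide +kernel
  · decide +kernel
  · decide +kernel
  · decide +kernel
  · decide +kernel
  · decide +kernel
  · decide +kernel

theorem chainCoeff_pos (D : Cfsg.Lie.ChevalleyDatum) (r s u : ℕ) :
    ∀ km ∈ D.chainCoeff r s u, 1 ≤ km.1 := by
  intro km hkm
  unfold ChevalleyDatum.chainCoeff at hkm
  rw [List.mem_flatMap] at hkm
  obtain ⟨e, _, he⟩ := hkm
  rw [List.mem_map] at he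
  obtain ⟨q, _, rfl⟩ := he
  exact Nat.le_add_left 1 _

variable {F : Type*} [Field F]

theorem xMat_zero (D : Cfsg.Lie.ChevalleyDatum) (r : Fin D.nroots) : D.xMat F r 0 = 1 := by
  ext row col
  rw [Matrix.one_apply]
  rcases col with i | s
  · rcases row with i' | u
    · simp [ChevalleyDatum.xMat]
    · simp [ChevalleyDatum.xMat]
  · by_cases hsr : s = r
    · rcases row with i' | u
      · simp [ChevalleyDatum.xMat, hsr]
      · simp [ChevalleyDatum.xMat, hsr]
    · by_cases hneg : s.val = D.negIdx.getD r.val 0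
      · rcases row with i' | u
        · simp [ChevalleyDatum.xMat, hsr, hneg]
        · by_cases hus : u = s
          · simp [ChevalleyDatum.xMat, hsr, hneg, hus]
          · simp [ChevalleyDatum.xMat, hsr, hneg, hus]
      · rcases row with i' | u
        · simp [ChevalleyDatum.xMat, hsr, hneg]
        · have hsum : ((D.chainCoeff r.val s.val u.val).map
              fun km => ((km.2 : ℤ) : F) * (0 : F) ^ km.1).sum = 0 := by
            apply List.sum_eq_zero
            intro x hx
            rw [List.mem_map] at hx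
            obtain ⟨km, hkm, rfl⟩ := hx
            have := chainCoeff_pos D _ _ _ km hkm
            rw [zero_pow (by omega), mul_zero]
          simp only [ChevalleyDatum.xMat, Matrix.of_apply, hsr, hneg, if_false, hsum, add_zero]
          simp

/-- `x_r(0) = 1`, and `x_r(t) = 1` forces `t = 0`: the map `t ↦ x_r(t)` is injective. -/
theorem result {F : Type*} [Field F] (D : Cfsg.Lie.ChevalleyDatum) (hD : D ∈ [Cfsg.Lie.chevG2, Cfsg.Lie.chevB2, Cfsg.Lie.chevD4, Cfsg.Lie.chevF4, Cfsg.Lie.chevE6, Cfsg.Lie.chevE7, Cfsg.Lie.chevE8]) (r : ℕ) (hr : r < D.nroots) (t : F) :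
    D.x F r t = 1 ↔ t = 0 := by
  unfold ChevalleyDatum.x
  rw [dif_pos hr]
  constructor
  · intro h
    obtain ⟨h1, h2⟩ := neg_facts D hD r hr
    have h3 := congrFun (congrFun h (Sum.inr ⟨r, hr⟩)) (Sum.inr ⟨D.negIdx.getD r 0, h1⟩)
    have hne : (⟨D.negIdx.getD r 0, h1⟩ : Fin D.nroots) ≠ ⟨r, hr⟩ := by
      intro hh
      exact h2 (congrArg Fin.val hh)
    have hne' : (⟨r, hr⟩ : Fin D.nroots) ≠ ⟨D.negIdx.getD r 0, h1⟩ := fun hh => hne hh.symm
    rw [Matrix.one_apply_ne (by intro hh; exact hne' (Sum.inr.inj hh))] at h3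
    simp only [ChevalleyDatum.xMat, Matrix.of_apply, hne, if_false, if_true, hne'] at h3
    simpa using h3
  · intro h
    rw [h]
    exact xMat_zero D ⟨r, hr⟩

end Cfsg.Agent.S1024
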