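import Cfsg.Statements.S0254
import Mathlib
import Cfsg.Agent.S0804

set_option autoImplicit false
open Cfsg

namespace Cfsg.Agent.S0254

open Cfsg.Agent.Lib.Helper12 Cfsg.Agent.Lib.Helper12.SL2

/-- a faithful coset action of degree six by a group of order 360 identifies it with `A₆` -/
theorem nonempty_mulEquiv_alternating_six {G : Type*} [Group G] [Finite G] (H : Subgroup G)
    (hidx : H.index = 6) (hcore : H.normalCore = ⊥) (hcard : Nat.card G = 360) :
    Nonempty (G ≃* alternatingGroup (Fin 6)) := by
  classical
  have : Fintype (G ⧸ H) := Fintype.ofFinite _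
  have hc : Fintype.card (G ⧸ H) = 6 := by
    rw [← Nat.card_eq_fintype_card]; exact hidx
  have e0 : (G ⧸ H) ≃ Fin 6 := Fintype.equivFinOfCardEq hc
  set f : G →* Equiv.Perm (Fin 6) :=
    (Equiv.permCongrHom e0).toMonoidHom.comp (MulAction.toPermHom G (G ⧸ H)) with hf
  have hinj : Function.Injective f := by
    rw [hf, MonoidHom.coe_comp]
    apply Function.Injective.comp (Equiv.permCongrHom e0).injective
    rw [← MonoidHom.ker_eq_bot_iff, ← Subgroup.normalCore_eq_ker, hcore]
  have e : G ≃* f.range := MonoidHom.ofInjective hinj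
  have hr : Nat.card f.range = 360 := by rw [← Nat.card_congr e.toEquiv, hcard]
  have hidx2 : f.range.index = 2 := by
    have h1 := f.range.card_mul_index
    rw [hr, Nat.card_eq_fintype_card, Fintype.card_perm, Fintype.card_fin] at h1
    have : (6 : ℕ).factorial = 720 := rfl
    rw [this] at h1
    omega
  have := Equiv.Perm.eq_alternatingGroup_of_index_eq_two hidx2
  exact ⟨e.trans (MulEquiv.subgroupCongr this)⟩


/-- PSL_2(9) is isomorphic to A_6. -/
theorem result {F : Type*} [Field F] [Fintype F] (hF : Fintype.card F = 9) : Nonempty (Matrix.ProjectiveSpecialLinearGroup (Fin 2) F ≃* alternatingGroup (Fin 6)) := by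
  classical
  have hsimple : IsSimpleGroup (Matrix.ProjectiveSpecialLinearGroup (Fin 2) F) :=
    Matrix.ProjectiveSpecialLinearGroup.rank_two_simple (by rw [Nat.card_eq_fintype_card, hF]; norm_num)
  have h2 : (2 : F) ≠ 0 := by
    intro h
    have := Cfsg.Agent.S2475.even_card_of_two_eq_zero h
    rw [hF] at this
    exact absurd this (by decide)
  have hcard : Nat.card (Matrix.ProjectiveSpecialLinearGroup (Fin 2) F) = 360 := by
    have h1 := Cfsg.Agent.S0807.card_SL2_eq (F := F) h2
    rw [SL2.card_SL2, hF] at h1
    omega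
  obtain ⟨H, ⟨e⟩⟩ := Cfsg.Agent.S0804.result_mpr (F := F) (by rw [hF]; norm_num)
  have hH : Nat.card H = 60 := by
    rw [Nat.card_congr e.toEquiv, nat_card_alternatingGroup]
    simp
    decide
  have hidx : H.index = 6 := by
    have := H.card_mul_index
    rw [hH, hcard] at this
    omega
  apply nonempty_mulEquiv_alternating_six H hidx _ hcard
  rcases (Subgroup.normalCore_normal H).eq_bot_or_eq_top with h | h
  · exact h
  · exfalso
    have hle := Subgroup.normalCore_le H
    rw [h] at hle
    have : H = ⊤ := top_le_iff.mp hle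
    rw [this, Subgroup.index_top] at hidx
    omega

end Cfsg.Agent.S0254
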