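import Cfsg.Statements.S0752
import Mathlib

set_option autoImplicit false
open Cfsg

namespace Cfsg.Agent.S0752

open Module

universe u v

variable {F : Type u} [Field F]

/-- The orthogonal complement of a hyperbolic pair. -/
def perp {V : Type v} [AddCommGroup V] [Module F V] (B : LinearMap.BilinForm F V) (x y : V) :
    Submodule F V := LinearMap.ker (B x) ⊓ LinearMap.ker (B y)

theorem mem_perp {V : Type v} [AddCommGroup V] [Module F V] (B : LinearMap.BilinForm F V)
    (x y w : V) : w ∈ perp B x y ↔ B x w = 0 ∧ B y w = 0 := by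
  unfold perp
  simp [Submodule.mem_inf, LinearMap.mem_ker]

/-- Splitting off a hyperbolic plane. -/
theorem split {V : Type v} [AddCommGroup V] [Module F V] (B : LinearMap.BilinForm F V)
    (hA : B.IsAlt) (x y : V) (hxy : B x y = 1) :
    ∃ φ : ((F × F) × perp B x y) ≃ₗ[F] V,
      ∀ (a b : F) (w : perp B x y), φ ((a, b), w) = a • x + b • y + (w : V) := by
  let g : ((F × F) × perp B x y) →ₗ[F] V :=
    ((LinearMap.toSpanSingleton F V x).coprod (LinearMap.toSpanSingleton F V y)).coprod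
      (perp B x y).subtype
  have hg : ∀ (a b : F) (w : perp B x y), g ((a, b), w) = a • x + b • y + (w : V) := by
    intro a b w
    simp [g, LinearMap.coprod_apply, LinearMap.toSpanSingleton_apply]
  have hyx : B y x = -1 := by rw [← hA.neg_eq x y, hxy]
  have hinj : Function.Injective g := by
    rw [injective_iff_map_eq_zero]
    rintro ⟨⟨a, b⟩, w⟩ h
    rw [hg] at h
    have hw := (mem_perp B x y w).1 w.2
    have h1 : B x (a • x + b • y + (w : V)) = b := by
      simp [hA.self_eq_zero, hxy, hw.1]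
    have h2 : B y (a • x + b • y + (w : V)) = -a := by
      simp [hA.self_eq_zero, hyx, hw.2]
    rw [h] at h1 h2
    simp only [map_zero] at h1 h2
    have ha : a = 0 := by rw [← neg_eq_zero]; exact h2.symm
    have hb : b = 0 := h1.symm
    rw [ha, hb, zero_smul, zero_smul, zero_add, zero_add] at h
    have hw0 : w = 0 := Subtype.ext h
    rw [ha, hb, hw0]
    rfl
  have hsurj : Function.Surjective g := by
    intro z
    have hmem : z - B z y • x - B x z • y ∈ perp B x y := by
      rw [mem_perp]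
      constructor
      · simp [hA.self_eq_zero, hxy]
      · simp only [map_sub, map_smul, smul_eq_mul, hyx, hA.self_eq_zero]
        rw [← hA.neg_eq z y]; ring
    refine ⟨((B z y, B x z), ⟨_, hmem⟩), ?_⟩
    rw [hg]
    simp only
    abel
  exact ⟨LinearEquiv.ofBijective g ⟨hinj, hsurj⟩, hg⟩

/-- The generic-index version of the statement. -/
def Goal (V : Type v) [AddCommGroup V] [Module F V] (B : LinearMap.BilinForm F V) : Prop :=
  ∃ (ι κ : Type) (_ : Fintype ι) (_ : Fintype κ) (_ : DecidableEq ι)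
    (b : Basis ((ι ⊕ ι) ⊕ κ) F V),
    (∀ i j : ι, B (b (Sum.inl (Sum.inl i))) (b (Sum.inl (Sum.inr j))) = if i = j then 1 else 0) ∧
    (∀ i j : ι, B (b (Sum.inl (Sum.inl i))) (b (Sum.inl (Sum.inl j))) = 0) ∧
    (∀ i j : ι, B (b (Sum.inl (Sum.inr i))) (b (Sum.inl (Sum.inr j))) = 0) ∧
    (∀ (j : κ) (z : V), B (b (Sum.inr j)) z = 0)

theorem goal_of_zero {V : Type v} [AddCommGroup V] [Module F V] [FiniteDimensional F V]
    (B : LinearMap.BilinForm F V) (h0 : ∀ x y, B x y = 0) : Goal V B := by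
  refine ⟨Empty, Fin (finrank F V), inferInstance, inferInstance, inferInstance,
    (finBasis F V).reindex (Equiv.emptySum (Empty ⊕ Empty) _).symm, ?_, ?_, ?_, ?_⟩
  · intro i; exact i.elim
  · intro i; exact i.elim
  · intro i; exact i.elim
  · intro j z; exact h0 _ _

/-- The reindexing equivalence used in the inductive step. -/
def shuffle (ι κ : Type) :
    (Unit ⊕ Unit) ⊕ ((ι ⊕ ι) ⊕ κ) ≃ ((Unit ⊕ ι) ⊕ (Unit ⊕ ι)) ⊕ κ :=
  (Equiv.sumAssoc (Unit ⊕ Unit) (ι ⊕ ι) κ).symm.trans
    (Equiv.sumCongr (Equiv.sumSumSumComm Unit Unit ι ι) (Equiv.refl κ))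

theorem goal_step {V : Type v} [AddCommGroup V] [Module F V]
    (B : LinearMap.BilinForm F V) (hA : B.IsAlt) (x y : V) (hxy : B x y = 1)
    (hrec : Goal (perp B x y) (B.restrict (perp B x y))) : Goal V B := by
  obtain ⟨φ, hφ⟩ := split B hA x y hxy
  obtain ⟨ι, κ, _, _, _, b', r1, r2, r3, r4⟩ := hrec
  have hyx : B y x = -1 := by rw [← hA.neg_eq x y, hxy]
  have hres : ∀ a b : perp B x y, B.restrict (perp B x y) a b = B (a : V) (b : V) :=
    fun _ _ => rfl
  simp only [hres] at r1 r2 r3 r4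
  let bb : Basis ((Unit ⊕ Unit) ⊕ ((ι ⊕ ι) ⊕ κ)) F V :=
    (((Basis.singleton Unit F).prod (Basis.singleton Unit F)).prod b').map φ
  let bn : Basis (((Unit ⊕ ι) ⊕ (Unit ⊕ ι)) ⊕ κ) F V := bb.reindex (shuffle ι κ)
  have e1 : bn (Sum.inl (Sum.inl (Sum.inl ()))) = x := by
    simp [bn, bb, shuffle, hφ]
  have e2 : bn (Sum.inl (Sum.inr (Sum.inl ()))) = y := by
    simp [bn, bb, shuffle, hφ]
  have e3 : ∀ i, bn (Sum.inl (Sum.inl (Sum.inr i))) = (b' (Sum.inl (Sum.inl i)) : V) := by
    intro i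
    simp [bn, bb, shuffle, hφ]
  have e4 : ∀ i, bn (Sum.inl (Sum.inr (Sum.inr i))) = (b' (Sum.inl (Sum.inr i)) : V) := by
    intro i
    simp [bn, bb, shuffle, hφ]
  have e5 : ∀ j, bn (Sum.inr j) = (b' (Sum.inr j) : V) := by
    intro j
    simp [bn, bb, shuffle, hφ]
  have px : ∀ w : perp B x y, B x w = 0 := fun w => ((mem_perp B x y w).1 w.2).1
  have py : ∀ w : perp B x y, B y w = 0 := fun w => ((mem_perp B x y w).1 w.2).2
  have px' : ∀ w : perp B x y, B w x = 0 := fun w => by rw [← hA.neg_eq, px, neg_zero]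
  have py' : ∀ w : perp B x y, B w y = 0 := fun w => by rw [← hA.neg_eq, py, neg_zero]
  refine ⟨Unit ⊕ ι, κ, inferInstance, inferInstance, inferInstance, bn, ?_, ?_, ?_, ?_⟩
  · rintro (⟨⟩ | i) (⟨⟩ | j)
    · rw [e1, e2, hxy]; simp
    · rw [e1, e4, px]; simp
    · rw [e3, e2, py']; simp
    · rw [e3, e4]
      rw [r1 i j]
      simp
  · rintro (⟨⟩ | i) (⟨⟩ | j)
    · rw [e1, hA.self_eq_zero]
    · rw [e1, e3, px]
    · rw [e3, e1, px']
    · rw [e3, e3]
      exact r2 i j
  · rintro (⟨⟩ | i) (⟨⟩ | j)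
    · rw [e2, hA.self_eq_zero]
    · rw [e2, e4, py]
    · rw [e4, e2, py']
    · rw [e4, e4]
      exact r3 i j
  · intro j z
    rw [e5]
    obtain ⟨⟨⟨a, b⟩, w⟩, rfl⟩ := φ.surjective z
    rw [hφ]
    simp only [map_add, map_smul, px', py', smul_zero, zero_add]
    exact r4 j w

theorem goal_all (n : ℕ) : ∀ (V : Type v) [AddCommGroup V] [Module F V] [FiniteDimensional F V]
    (B : LinearMap.BilinForm F V), B.IsAlt → finrank F V = n → Goal V B := by
  induction n using Nat.strong_induction_on with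
  | _ n ih =>
    intro V _ _ _ B hA hn
    by_cases h0 : ∀ x y, B x y = 0
    · exact goal_of_zero B h0
    · push Not at h0
      obtain ⟨x, y0, hxy0⟩ := h0
      have hxy : B x ((B x y0)⁻¹ • y0) = 1 := by
        rw [map_smul, smul_eq_mul, inv_mul_cancel₀ hxy0]
      set y := (B x y0)⁻¹ • y0
      obtain ⟨φ, -⟩ := split B hA x y hxy
      have hdim : finrank F (perp B x y) < n := by
        have := φ.finrank_eq
        rw [Module.finrank_prod, Module.finrank_prod, Module.finrank_self] at this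
        omega
      apply goal_step B hA x y hxy
      exact ih _ hdim (perp B x y) (B.restrict (perp B x y))
        (fun w => hA (w : V)) rfl

theorem result {F V : Type*} [Field F] [AddCommGroup V] [Module F V] [FiniteDimensional F V] (B : LinearMap.BilinForm F V) (hA : B.IsAlt) : ∃ (m k : ℕ) (b : Module.Basis ((Fin m ⊕ Fin m) ⊕ Fin k) F V), (∀ i j : Fin m, B (b (Sum.inl (Sum.inl i))) (b (Sum.inl (Sum.inr j))) = if i = j then 1 else 0) ∧ (∀ i j : Fin m, B (b (Sum.inl (Sum.inl i))) (b (Sum.inl (Sum.inl j))) = 0) ∧ (∀ i j : Fin m, B (b (Sum.inl (Sum.inr i))) (b (Sum.inl (Sum.inr j))) = 0) ∧ (∀ (j : Fin k) (v : V), B (b (Sum.inr j)) v = 0) := by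
  obtain ⟨ι, κ, _, _, _, b, r1, r2, r3, r4⟩ := goal_all (finrank F V) V B hA rfl
  let eι : ι ≃ Fin (Fintype.card ι) := Fintype.equivFin ι
  let eκ : κ ≃ Fin (Fintype.card κ) := Fintype.equivFin κ
  refine ⟨Fintype.card ι, Fintype.card κ,
    b.reindex (Equiv.sumCongr (Equiv.sumCongr eι eι) eκ), ?_, ?_, ?_, ?_⟩
  · intro i j
    simp only [Basis.reindex_apply, Equiv.sumCongr_symm, Equiv.sumCongr_apply, Sum.map_inl,
      Sum.map_inr]
    rw [r1]
    simp only [EmbeddingLike.apply_eq_iff_eq]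
  · intro i j
    simp only [Basis.reindex_apply, Equiv.sumCongr_symm, Equiv.sumCongr_apply, Sum.map_inl]
    rw [r2]
  · intro i j
    simp only [Basis.reindex_apply, Equiv.sumCongr_symm, Equiv.sumCongr_apply, Sum.map_inl,
      Sum.map_inr]
    rw [r3]
  · intro j z
    simp only [Basis.reindex_apply, Equiv.sumCongr_symm, Equiv.sumCongr_apply, Sum.map_inr]
    rw [r4]

end Cfsg.Agent.S0752
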