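import Cfsg.Statements.S0766
import Mathlib
import Cfsg.Agent.Lib.Helper27.SympTransv2

set_option autoImplicit false
open Cfsg

namespace Cfsg.Agent.S0766

open Cfsg.Agent.Lib.Helper27.SympTransv

theorem TW_top_le {F : Type*} [Field F] (m : ℕ) :
    TW (⊤ : Submodule F (Fin m ⊕ Fin m → F)) ≤
      Subgroup.closure {A : Matrix.symplecticGroup (Fin m) F | ∃ (w : Fin m ⊕ Fin m → F) (c : F),
        (A : Matrix (Fin m ⊕ Fin m) (Fin m ⊕ Fin m) F) = Cfsg.sympTransvection m w c} := by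
  apply Subgroup.closure_mono
  rintro A ⟨w, -, c, hA⟩
  exact ⟨w, c, hA⟩

theorem result {F : Type*} [Field F] (m : ℕ) (u v u' v' : Fin m ⊕ Fin m → F) (h : Cfsg.sympForm m F u v = 1) (h' : Cfsg.sympForm m F u' v' = 1) : ∃ A ∈ Subgroup.closure {A : Matrix.symplecticGroup (Fin m) F | ∃ (w : Fin m ⊕ Fin m → F) (c : F), (A : Matrix (Fin m ⊕ Fin m) (Fin m ⊕ Fin m) F) = Cfsg.sympTransvection m w c}, (A : Matrix (Fin m ⊕ Fin m) (Fin m ⊕ Fin m) F).mulVec u = u' ∧ (A : Matrix (Fin m ⊕ Fin m) (Fin m ⊕ Fin m) F).mulVec v = v' := by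
  obtain ⟨A, hA, h1, h2⟩ := trans_pair (⊤ : Submodule F (Fin m ⊕ Fin m → F)) nondegOn_top u v u' v'
    Submodule.mem_top Submodule.mem_top Submodule.mem_top Submodule.mem_top h h'
  exact ⟨A, TW_top_le m hA, h1, h2⟩

end Cfsg.Agent.S0766
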