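import Cfsg.Statements.S0765
import Mathlib
import Cfsg.Agent.Lib.Helper27.SympTransv2
import Cfsg.Agent.S0766

set_option autoImplicit false
open Cfsg

namespace Cfsg.Agent.S0765

open Cfsg.Agent.Lib.Helper27.SympTransv Matrix

variable {F : Type*} [Field F] {m : ℕ}

/-- Standard basis vector `e_i`. -/
abbrev E (i : Fin m) : Fin m ⊕ Fin m → F := Pi.single (Sum.inl i) 1

/-- Standard basis vector `f_i`. -/
abbrev Fv (i : Fin m) : Fin m ⊕ Fin m → F := Pi.single (Sum.inr i) 1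

/-- Vectors supported on the indices `≥ j`. -/
def Wj (j : ℕ) : Submodule F (Fin m ⊕ Fin m → F) where
  carrier := {x | ∀ i : Fin m, (i : ℕ) < j → x (Sum.inl i) = 0 ∧ x (Sum.inr i) = 0}
  add_mem' := by
    intro x y hx hy i hi
    simp [(hx i hi).1, (hx i hi).2, (hy i hi).1, (hy i hi).2]
  zero_mem' := by
    intro i _
    exact ⟨rfl, rfl⟩
  smul_mem' := by
    intro c x hx i hi
    simp [(hx i hi).1, (hx i hi).2]

theorem mem_Wj (j : ℕ) (x : Fin m ⊕ Fin m → F) :
    x ∈ Wj (F := F) (m := m) j ↔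
      ∀ i : Fin m, (i : ℕ) < j → x (Sum.inl i) = 0 ∧ x (Sum.inr i) = 0 := Iff.rfl

theorem E_mem_Wj (j : ℕ) (i : Fin m) (h : j ≤ (i : ℕ)) : (E i : Fin m ⊕ Fin m → F) ∈ Wj j := by
  intro i' hi'
  have hne : i' ≠ i := by
    intro h'; rw [h'] at hi'; omega
  constructor
  · exact Pi.single_eq_of_ne (fun h' => hne (Sum.inl_injective h')) _
  · exact Pi.single_eq_of_ne (fun h' => by cases h') _

theorem Fv_mem_Wj (j : ℕ) (i : Fin m) (h : j ≤ (i : ℕ)) : (Fv i : Fin m ⊕ Fin m → F) ∈ Wj j := by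
  intro i' hi'
  have hne : i' ≠ i := by
    intro h'; rw [h'] at hi'; omega
  constructor
  · exact Pi.single_eq_of_ne (fun h' => by cases h') _
  · exact Pi.single_eq_of_ne (fun h' => hne (Sum.inr_injective h')) _

theorem nondegOn_Wj (j : ℕ) : NondegOn (Wj (F := F) (m := m) j) := by
  intro u hu hu0
  have : ∃ s, u s ≠ 0 := by
    by_contra hne
    apply hu0
    funext s
    by_contra hs
    exact hne ⟨s, hs⟩
  obtain ⟨s, hs⟩ := this
  rcases s with i | i
  · have hji : j ≤ (i : ℕ) := by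
      by_contra hlt
      exact hs (hu i (not_le.mp hlt)).1
    refine ⟨Fv i, Fv_mem_Wj j i hji, ?_⟩
    rw [sf_single_inr]
    exact neg_ne_zero.mpr hs
  · have hji : j ≤ (i : ℕ) := by
      by_contra hlt
      exact hs (hu i (not_le.mp hlt)).2
    refine ⟨E i, E_mem_Wj j i hji, ?_⟩
    rw [sf_single_inl]
    exact hs

theorem E_perp_Wj (j : ℕ) (i : Fin m) (hi : (i : ℕ) < j) (w : Fin m ⊕ Fin m → F)
    (hw : w ∈ Wj (F := F) (m := m) j) : sympForm m F (E i) w = 0 := by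
  rw [sf_swap, sf_single_inl, (hw i hi).2, neg_zero]

theorem Fv_perp_Wj (j : ℕ) (i : Fin m) (hi : (i : ℕ) < j) (w : Fin m ⊕ Fin m → F)
    (hw : w ∈ Wj (F := F) (m := m) j) : sympForm m F (Fv i) w = 0 := by
  rw [sf_swap, sf_single_inr, (hw i hi).1, neg_zero, neg_zero]

/-- An element fixing the first `j` hyperbolic pairs maps the later basis vectors into `Wj j`. -/
theorem act_mem_Wj (h : Matrix.symplecticGroup (Fin m) F) (j : ℕ)
    (hfix : ∀ i : Fin m, (i : ℕ) < j → act h (E i) = E i ∧ act h (Fv i) = Fv i)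
    (x : Fin m ⊕ Fin m → F) (hx : x ∈ Wj (F := F) (m := m) j) : act h x ∈ Wj j := by
  intro i hi
  constructor
  · have h1 : sympForm m F (act h x) (Fv i) = - (act h x) (Sum.inl i) := sf_single_inr _ i
    have h2 : sympForm m F (act h x) (Fv i) = sympForm m F x (Fv i) := by
      conv_lhs => rw [← (hfix i hi).2]
      exact act_preserves h x (Fv i)
    rw [h2, sf_single_inr, (hx i hi).1] at h1
    have h3 := h1.symm
    simpa using h3
  · have h1 : sympForm m F (act h x) (E i) = (act h x) (Sum.inr i) := sf_single_inl _ i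
    have h2 : sympForm m F (act h x) (E i) = sympForm m F x (E i) := by
      conv_lhs => rw [← (hfix i hi).1]
      exact act_preserves h x (E i)
    rw [h2, sf_single_inl, (hx i hi).2] at h1
    exact h1.symm

theorem step (g : Matrix.symplecticGroup (Fin m) F) :
    ∀ j : ℕ, j ≤ m → ∃ t ∈ TW (⊤ : Submodule F (Fin m ⊕ Fin m → F)),
      ∀ i : Fin m, (i : ℕ) < j → act (t * g) (E i) = E i ∧ act (t * g) (Fv i) = Fv i := by
  intro j
  induction j with
  | zero =>
    intro _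
    exact ⟨1, one_mem _, fun i hi => absurd hi (Nat.not_lt_zero _)⟩
  | succ j ih =>
    intro hj
    obtain ⟨t, ht, hfix⟩ := ih (by omega)
    have hmem := act_mem_Wj (t * g) j hfix
    have hu : act (t * g) (Fv ⟨j, hj⟩) ∈ Wj (F := F) (m := m) j :=
      hmem _ (Fv_mem_Wj j ⟨j, hj⟩ (le_refl _))
    have hv : act (t * g) (E ⟨j, hj⟩) ∈ Wj (F := F) (m := m) j :=
      hmem _ (E_mem_Wj j ⟨j, hj⟩ (le_refl _))
    have h1 : sympForm m F (Fv ⟨j, hj⟩ : Fin m ⊕ Fin m → F) (E ⟨j, hj⟩) = 1 := by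
      rw [sf_single_inl]
      simp
    have huv : sympForm m F (act (t * g) (Fv ⟨j, hj⟩)) (act (t * g) (E ⟨j, hj⟩)) = 1 := by
      rw [act_preserves, h1]
    obtain ⟨A, hA, hAu, hAv⟩ := trans_pair (Wj (F := F) (m := m) j) (nondegOn_Wj j) _ _
      (Fv ⟨j, hj⟩) (E ⟨j, hj⟩) hu hv (Fv_mem_Wj j ⟨j, hj⟩ (le_refl _))
      (E_mem_Wj j ⟨j, hj⟩ (le_refl _)) huv h1
    refine ⟨A * t, mul_mem (TW_mono le_top hA) ht, ?_⟩
    intro i hi
    rw [mul_assoc, act_mul, act_mul A]
    by_cases hij : (i : ℕ) < j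
    · rw [(hfix i hij).1, (hfix i hij).2]
      exact ⟨TW_fix _ A hA _ (E_perp_Wj j i hij), TW_fix _ A hA _ (Fv_perp_Wj j i hij)⟩
    · have hij' : i = ⟨j, hj⟩ := by
        apply Fin.ext
        simp only
        omega
      rw [hij']
      exact ⟨hAv, hAu⟩

theorem eq_one_of_fix (h : Matrix.symplecticGroup (Fin m) F)
    (hfix : ∀ i : Fin m, act h (E i) = E i ∧ act h (Fv i) = Fv i) : h = 1 := by
  apply Subtype.ext
  ext a b
  have hb : (h : Matrix (Fin m ⊕ Fin m) (Fin m ⊕ Fin m) F) *ᵥ Pi.single b 1 = Pi.single b 1 := by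
    rcases b with i | i
    · exact (hfix i).1
    · exact (hfix i).2
  rw [Matrix.mulVec_single_one] at hb
  have := congrFun hb a
  rw [Matrix.col_apply] at this
  rw [this, Pi.single_apply]
  change _ = (1 : Matrix (Fin m ⊕ Fin m) (Fin m ⊕ Fin m) F) a b
  rw [Matrix.one_apply]

theorem result {F : Type*} [Field F] (m : ℕ) : Subgroup.closure {A : Matrix.symplecticGroup (Fin m) F | ∃ (w : Fin m ⊕ Fin m → F) (c : F), (A : Matrix (Fin m ⊕ Fin m) (Fin m ⊕ Fin m) F) = Cfsg.sympTransvection m w c} = ⊤ := by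
  rw [eq_top_iff]
  intro g _
  obtain ⟨t, ht, hfix⟩ := step g m (le_refl _)
  have h1 : t * g = 1 := eq_one_of_fix (t * g) (fun i => hfix i i.2)
  have hg : g = t⁻¹ := eq_inv_of_mul_eq_one_right h1
  rw [hg]
  exact inv_mem (Cfsg.Agent.S0766.TW_top_le m ht)

end Cfsg.Agent.S0765
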