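import Cfsg.Statements.S0269
import Mathlib
import Cfsg.Agent.Lib.Helper27.SympTransv3

set_option autoImplicit false
open Cfsg

namespace Cfsg.Agent.S0269

open Matrix Cfsg.Agent.Lib.Helper27.SympTransv

variable {F : Type*} [Field F] {m : ℕ}

/-- The image of a transvection in the abelianisation. -/
noncomputable def t (w : Fin m ⊕ Fin m → F) (c : F) :
    Abelianization (Matrix.symplecticGroup (Fin m) F) :=
  Abelianization.of (tv w c)

theorem t_eq (w w' : Fin m ⊕ Fin m → F) (hw : w ≠ 0) (hw' : w' ≠ 0) (c : F) :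
    t w c = t w' c := by
  obtain ⟨A, -, hA⟩ := trans1 (⊤ : Submodule F (Fin m ⊕ Fin m → F)) nondegOn_top w w'
    Submodule.mem_top Submodule.mem_top hw hw'
  unfold t
  rw [← hA, ← conj_tv, map_mul, map_mul, map_inv, mul_comm, inv_mul_cancel_left]

theorem t_add (w : Fin m ⊕ Fin m → F) (c d : F) : t w (c + d) = t w c * t w d := by
  unfold t
  rw [← map_mul, tv_mul]

theorem t_neg (w : Fin m ⊕ Fin m → F) (c : F) : t w (-c) = (t w c)⁻¹ := by
  unfold t
  rw [← map_inv, tv_inv]

theorem t_zero (w : Fin m ⊕ Fin m → F) : t w (0 : F) = 1 := by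
  unfold t
  rw [tv_zero_right, map_one]

theorem t_smul (a : F) (w : Fin m ⊕ Fin m → F) (c : F) : t (a • w) c = t w (a ^ 2 * c) := by
  unfold t
  rw [tv_smul]

theorem all_trivial (h : ∀ w : Fin m ⊕ Fin m → F, w ≠ 0 → ∀ c : F, t w c = 1) :
    commutator (Matrix.symplecticGroup (Fin m) F) = ⊤ := by
  apply eq_top_of_tv_mem
  intro w c
  by_cases hw : w = 0
  · rw [hw, tv_zero_left]
    exact one_mem _
  · rw [← Abelianization.ker_of, MonoidHom.mem_ker]
    exact h w hw c

/-! ### Case A: at least four scalars -/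

theorem exists_scalar [Fintype F] (h4 : 4 ≤ Fintype.card F) : ∃ a : F, a ≠ 0 ∧ a ^ 2 - 1 ≠ 0 := by
  classical
  have hcard : ({0, 1, -1} : Finset F).card < (Finset.univ : Finset F).card := by
    rw [Finset.card_univ]
    calc ({0, 1, -1} : Finset F).card ≤ 3 := Finset.card_le_three
      _ < Fintype.card F := h4
  obtain ⟨a, -, ha⟩ := Finset.exists_mem_notMem_of_card_lt_card hcard
  simp only [Finset.mem_insert, Finset.mem_singleton, not_or] at ha
  refine ⟨a, ha.1, ?_⟩
  intro h
  have : (a - 1) * (a + 1) = 0 := by linear_combination h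
  rcases mul_eq_zero.mp this with h1 | h1
  · exact ha.2.1 (sub_eq_zero.mp h1)
  · exact ha.2.2 (eq_neg_of_add_eq_zero_left h1)

theorem caseA [Fintype F] (h4 : 4 ≤ Fintype.card F) (w : Fin m ⊕ Fin m → F) (hw : w ≠ 0)
    (c : F) : t w c = 1 := by
  obtain ⟨a, ha0, ha⟩ := exists_scalar h4
  have hc : c = a ^ 2 * (c / (a ^ 2 - 1)) + -(c / (a ^ 2 - 1)) := by
    field_simp
    ring
  rw [hc, t_add, t_neg, ← t_smul, t_eq (a • w) w (smul_ne_zero ha0 hw) hw, mul_inv_cancel]

/-! ### Case B: odd characteristic, two orthogonal vectors -/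

theorem six_identity (u v : Fin m ⊕ Fin m → F) (huv : sympForm m F u v = 0) (c : F) :
    tv (u + v) c * tv u (-c) * tv v (-c) * (tv (u - v) c * tv u (-c) * tv v (-c)) = 1 := by
  have hvu : sympForm m F v u = 0 := by rw [sf_swap, huv, neg_zero]
  apply act_ext
  intro x
  simp only [act_mul, act_tv, act_one, sf_add_left, sf_sub_left, sf_smul_left, sf_add_right,
    sf_sub_right, sf_self, huv, hvu, mul_zero, add_zero, sub_zero, zero_add, sub_self]
  module

theorem caseB (h2 : (2 : F) ≠ 0) (u v : Fin m ⊕ Fin m → F) (huv : sympForm m F u v = 0)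
    (hu : u ≠ 0) (hv : v ≠ 0) (hp : u + v ≠ 0) (hm : u - v ≠ 0)
    (w : Fin m ⊕ Fin m → F) (hw : w ≠ 0) (c : F) : t w c = 1 := by
  have key : ∀ d : F, t w (d + d) = 1 := by
    intro d
    have h := congrArg (Abelianization.of (G := Matrix.symplecticGroup (Fin m) F))
      (six_identity u v huv d)
    simp only [map_mul, map_one] at h
    change t (u + v) d * t u (-d) * t v (-d) * (t (u - v) d * t u (-d) * t v (-d)) = 1 at h
    rw [t_eq (u + v) w hp hw, t_eq u w hu hw, t_eq v w hv hw, t_eq (u - v) w hm hw, t_neg] at h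
    rw [t_add]
    have h' : (t w d * t w d)⁻¹ = 1 := by
      rw [← h]
      group
    exact inv_eq_one.mp h'
  have hc : c = c / 2 + c / 2 := by
    field_simp
    ring
  rw [hc]
  exact key _

/-! ### Case C: characteristic two, three orthogonal vectors -/

theorem seven_identity (h2 : (2 : F) = 0) (u v w : Fin m ⊕ Fin m → F)
    (huv : sympForm m F u v = 0) (huw : sympForm m F u w = 0) (hvw : sympForm m F v w = 0)
    (c : F) :
    tv u c * tv v c * tv w c * tv (u + v) c * tv (u + w) c * tv (v + w) c * tv (u + v + w) c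
      = 1 := by
  have hvu : sympForm m F v u = 0 := by rw [sf_swap, huv, neg_zero]
  have hwu : sympForm m F w u = 0 := by rw [sf_swap, huw, neg_zero]
  have hwv : sympForm m F w v = 0 := by rw [sf_swap, hvw, neg_zero]
  apply act_ext
  intro x
  simp only [act_mul, act_tv, act_one, sf_add_left, sf_smul_left, sf_add_right,
    sf_self, huv, hvu, huw, hwu, hvw, hwv, mul_zero, add_zero]
  linear_combination (norm := module)
    (h2 • ((c * (2 * sympForm m F x u + sympForm m F x v + sympForm m F x w)) • u +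
      (c * (sympForm m F x u + 2 * sympForm m F x v + sympForm m F x w)) • v +
      (c * (sympForm m F x u + sympForm m F x v + 2 * sympForm m F x w)) • w))

theorem caseC (h2 : (2 : F) = 0) (u v w : Fin m ⊕ Fin m → F)
    (huv : sympForm m F u v = 0) (huw : sympForm m F u w = 0) (hvw : sympForm m F v w = 0)
    (hu : u ≠ 0) (hv : v ≠ 0) (hw : w ≠ 0) (h1 : u + v ≠ 0) (h3 : u + w ≠ 0) (h4 : v + w ≠ 0)
    (h5 : u + v + w ≠ 0)
    (z : Fin m ⊕ Fin m → F) (hz : z ≠ 0) (c : F) : t z c = 1 := by
  have h := congrArg (Abelianization.of (G := Matrix.symplecticGroup (Fin m) F))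
    (seven_identity h2 u v w huv huw hvw c)
  simp only [map_mul, map_one] at h
  change t u c * t v c * t w c * t (u + v) c * t (u + w) c * t (v + w) c * t (u + v + w) c = 1 at h
  rw [t_eq u z hu hz, t_eq v z hv hz, t_eq w z hw hz, t_eq (u + v) z h1 hz, t_eq (u + w) z h3 hz,
    t_eq (v + w) z h4 hz, t_eq (u + v + w) z h5 hz] at h
  have hsq : t z c * t z c = 1 := by
    rw [← t_add, ← two_mul, h2, zero_mul, t_zero]
  calc t z c = t z c * t z c * (t z c * t z c) * (t z c * t z c) * t z c := by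
        rw [hsq, one_mul, one_mul, one_mul]
    _ = 1 := by rw [← h]; group

/-! ### Basis vectors -/

theorem E_ne_zero (i : Fin m) : (Pi.single (Sum.inl i) 1 : Fin m ⊕ Fin m → F) ≠ 0 := by
  intro h
  have := congrFun h (Sum.inl i)
  simp at this

theorem E_perp (i j : Fin m) :
    sympForm m F (Pi.single (Sum.inl i) 1 : Fin m ⊕ Fin m → F) (Pi.single (Sum.inl j) 1) = 0 := by
  rw [sf_single_inl]
  simp

theorem result {F : Type*} [Field F] [Fintype F] (m : ℕ) (h : 3 ≤ m ∨ (m = 2 ∧ 3 ≤ Fintype.card F) ∨ 4 ≤ Fintype.card F) : commutator (Matrix.symplecticGroup (Fin m) F) = ⊤ := by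
  apply all_trivial
  intro z hz c
  by_cases h4 : 4 ≤ Fintype.card F
  · exact caseA h4 z hz c
  · by_cases h2 : (2 : F) = 0
    · have hm : 3 ≤ m := by
        rcases h with h | ⟨_, h3⟩ | h
        · exact h
        · exfalso
          have hcard : Fintype.card F = 3 := by omega
          have h3' : ((Fintype.card F : ℕ) : F) = 0 := FiniteField.cast_card_eq_zero F
          rw [hcard] at h3'
          have : (1 : F) = 0 := by
            have : (1 : F) = ((3 : ℕ) : F) - 2 := by norm_num
            rw [this, h3', h2, sub_zero]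
          exact one_ne_zero this
        · exact absurd h h4
      set u : Fin m ⊕ Fin m → F := Pi.single (Sum.inl ⟨0, by omega⟩) 1 with hu
      set v : Fin m ⊕ Fin m → F := Pi.single (Sum.inl ⟨1, by omega⟩) 1 with hv
      set w : Fin m ⊕ Fin m → F := Pi.single (Sum.inl ⟨2, by omega⟩) 1 with hw
      have e0 : ∀ y : Fin m ⊕ Fin m → F, y (Sum.inl ⟨0, by omega⟩) ≠ 0 → y ≠ 0 := by
        intro y hy h0
        rw [h0] at hy
        exact hy rfl
      have e1 : ∀ y : Fin m ⊕ Fin m → F, y (Sum.inl ⟨1, by omega⟩) ≠ 0 → y ≠ 0 := by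
        intro y hy h0
        rw [h0] at hy
        exact hy rfl
      refine caseC h2 u v w (E_perp _ _) (E_perp _ _) (E_perp _ _) (E_ne_zero _) (E_ne_zero _)
        (E_ne_zero _) (e0 _ ?_) (e0 _ ?_) (e1 _ ?_) (e0 _ ?_) z hz c
      · simp [hu, hv, Fin.ext_iff]
      · simp [hu, hw, Fin.ext_iff]
      · simp [hv, hw, Fin.ext_iff]
      · simp [hu, hv, hw, Fin.ext_iff]
    · have hm : 2 ≤ m := by
        rcases h with h | ⟨h, _⟩ | h
        · omega
        · omega
        · exact absurd h h4
      set u : Fin m ⊕ Fin m → F := Pi.single (Sum.inl ⟨0, by omega⟩) 1 with hu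
      set v : Fin m ⊕ Fin m → F := Pi.single (Sum.inl ⟨1, by omega⟩) 1 with hv
      have e0 : ∀ y : Fin m ⊕ Fin m → F, y (Sum.inl ⟨0, by omega⟩) ≠ 0 → y ≠ 0 := by
        intro y hy h0
        rw [h0] at hy
        exact hy rfl
      refine caseB h2 u v (E_perp _ _) (E_ne_zero _) (E_ne_zero _) (e0 _ ?_) (e0 _ ?_) z hz c
      · simp [hu, hv, Fin.ext_iff]
      · simp [hu, hv, Fin.ext_iff]

end Cfsg.Agent.S0269
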