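import Cfsg.Statements.S0768
import Mathlib
import Cfsg.Agent.Lib.Helper27.SympTransv2

set_option autoImplicit false
open Cfsg
open scoped LinearAlgebra.Projectivization Pointwise

namespace Cfsg.Agent.S0768

open Cfsg.Agent.Lib.Helper27.SympTransv Matrix

variable {F : Type*} [Field F] {m : ℕ}

/-- A symplectic matrix as an element of `spGL`. -/
def lift (A : Matrix.symplecticGroup (Fin m) F) : ↥(Cfsg.spGL m F) :=
  ⟨⟨(A : Matrix (Fin m ⊕ Fin m) (Fin m ⊕ Fin m) F),
      ((A⁻¹ : Matrix.symplecticGroup (Fin m) F) : Matrix (Fin m ⊕ Fin m) (Fin m ⊕ Fin m) F),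
      by
        have := congrArg Subtype.val (mul_inv_cancel A)
        exact this,
      by
        have := congrArg Subtype.val (inv_mul_cancel A)
        exact this⟩,
    fun u v => sp_preserves A.1 A.2 u v⟩

theorem lift_smul (A : Matrix.symplecticGroup (Fin m) F) (v : Fin m ⊕ Fin m → F) :
    lift A • v = act A v := rfl

theorem act_ne_zero (A : Matrix.symplecticGroup (Fin m) F) (v : Fin m ⊕ Fin m → F) (hv : v ≠ 0) :
    act A v ≠ 0 := by
  rw [← lift_smul]
  exact (smul_ne_zero_iff_ne (lift A)).mpr hv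

theorem lift_smul_mk (A : Matrix.symplecticGroup (Fin m) F) (v : Fin m ⊕ Fin m → F) (hv : v ≠ 0) :
    lift A • Projectivization.mk F v hv = Projectivization.mk F (act A v) (act_ne_zero A v hv) :=
  rfl

/-- The vector `v` is non-zero and represents a point of `B`. -/
def InB (B : Set (ℙ F (Fin m ⊕ Fin m → F))) (v : Fin m ⊕ Fin m → F) : Prop :=
  ∃ hv : v ≠ 0, Projectivization.mk F v hv ∈ B

theorem inB_smul (B : Set (ℙ F (Fin m ⊕ Fin m → F))) (v : Fin m ⊕ Fin m → F) (c : F) (hc : c ≠ 0)
    (h : InB B v) : InB B (c • v) := by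
  obtain ⟨hv, hB⟩ := h
  refine ⟨smul_ne_zero hc hv, ?_⟩
  have : Projectivization.mk F (c • v) (smul_ne_zero hc hv) = Projectivization.mk F v hv := by
    rw [Projectivization.mk_eq_mk_iff]
    exact ⟨Units.mk0 c hc, rfl⟩
  rw [this]
  exact hB

/-- Block invariance in vector form. -/
theorem block_key (B : Set (ℙ F (Fin m ⊕ Fin m → F)))
    (hB : MulAction.IsBlock ↥(Cfsg.spGL m F) B) (A : Matrix.symplecticGroup (Fin m) F)
    (u : Fin m ⊕ Fin m → F) (hu : InB B u) (hAu : InB B (act A u))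
    (v : Fin m ⊕ Fin m → F) (hv : InB B v) : InB B (act A v) := by
  obtain ⟨hu0, huB⟩ := hu
  obtain ⟨hAu0, hAuB⟩ := hAu
  obtain ⟨hv0, hvB⟩ := hv
  have h1 : lift A • Projectivization.mk F u hu0 ∈ B := by
    rw [lift_smul_mk]
    exact hAuB
  have h2 : lift A • B = B := hB.smul_eq_of_mem huB h1
  have h3 : lift A • Projectivization.mk F v hv0 ∈ lift A • B := Set.smul_mem_smul_set hvB
  rw [h2, lift_smul_mk] at h3
  exact ⟨_, h3⟩

theorem exists_common (u w : Fin m ⊕ Fin m → F) (hu : u ≠ 0) (hw : w ≠ 0) :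
    ∃ z, sympForm m F u z ≠ 0 ∧ sympForm m F w z ≠ 0 := by
  obtain ⟨a, -, ha⟩ := nondegOn_top u Submodule.mem_top hu
  obtain ⟨b, -, hb⟩ := nondegOn_top w Submodule.mem_top hw
  by_cases h1 : sympForm m F w a ≠ 0
  · exact ⟨a, ha, h1⟩
  · by_cases h2 : sympForm m F u b ≠ 0
    · exact ⟨b, h2, hb⟩
    · rw [not_not] at h1 h2
      refine ⟨a + b, ?_, ?_⟩
      · rw [sf_add_right, h2, add_zero]; exact ha
      · rw [sf_add_right, h1, zero_add]; exact hb

/-- Points not orthogonal to a point of the block, one of which lies in the block, all do. -/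
theorem step_D2 (B : Set (ℙ F (Fin m ⊕ Fin m → F)))
    (hB : MulAction.IsBlock ↥(Cfsg.spGL m F) B) (u v : Fin m ⊕ Fin m → F) (hu : InB B u)
    (hv : InB B v) (huv : sympForm m F u v ≠ 0) (w : Fin m ⊕ Fin m → F)
    (huw : sympForm m F u w ≠ 0) : InB B w := by
  have h1 : sympForm m F u ((sympForm m F u v)⁻¹ • v) = 1 := by
    rw [sf_smul_right, inv_mul_cancel₀ huv]
  have h2 : sympForm m F u ((sympForm m F u w)⁻¹ • w) = 1 := by
    rw [sf_smul_right, inv_mul_cancel₀ huw]
  obtain ⟨A, -, hAu, hAv⟩ := trans2 (⊤ : Submodule F (Fin m ⊕ Fin m → F)) u _ _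
    Submodule.mem_top Submodule.mem_top Submodule.mem_top h1 h2
  have h3 : InB B (act A ((sympForm m F u v)⁻¹ • v)) :=
    block_key B hB A u hu (by rw [hAu]; exact hu) _ (inB_smul B v _ (inv_ne_zero huv) hv)
  rw [hAv] at h3
  have h4 := inB_smul B _ (sympForm m F u w) huw h3
  rwa [smul_smul, mul_inv_cancel₀ huw, one_smul] at h4

theorem step_C2 (B : Set (ℙ F (Fin m ⊕ Fin m → F)))
    (hB : MulAction.IsBlock ↥(Cfsg.spGL m F) B) (u v : Fin m ⊕ Fin m → F) (hu : InB B u)
    (hv : InB B v) (huv : sympForm m F u v ≠ 0) (w : Fin m ⊕ Fin m → F) (hw : w ≠ 0) :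
    InB B w := by
  by_cases huw : sympForm m F u w ≠ 0
  · exact step_D2 B hB u v hu hv huv w huw
  · obtain ⟨z, hz1, hz2⟩ := exists_common u w hu.1 hw
    have hz : InB B z := step_D2 B hB u v hu hv huv z hz1
    have hzu : sympForm m F z u ≠ 0 := by
      rw [sf_swap]; exact neg_ne_zero.mpr hz1
    have hzw : sympForm m F z w ≠ 0 := by
      rw [sf_swap]; exact neg_ne_zero.mpr hz2
    exact step_D2 B hB z u hz hu hzu w hzw

theorem exists_perp_not (u v : Fin m ⊕ Fin m → F) (hv : v ≠ 0)
    (hind : ∀ c : F, v ≠ c • u) :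
    ∃ z, sympForm m F u z = 0 ∧ sympForm m F v z ≠ 0 := by
  obtain ⟨a, -, ha⟩ := nondegOn_top v Submodule.mem_top hv
  by_cases hua : sympForm m F u a = 0
  · exact ⟨a, hua, ha⟩
  · have hv' : v - (sympForm m F v a / sympForm m F u a) • u ≠ 0 := by
      intro h
      exact hind _ (sub_eq_zero.mp h)
    obtain ⟨b, -, hb⟩ := nondegOn_top _ Submodule.mem_top hv'
    refine ⟨b - (sympForm m F u b / sympForm m F u a) • a, ?_, ?_⟩
    · rw [sf_sub_right, sf_smul_right, div_mul_cancel₀ _ hua, sub_self]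
    · rw [sf_sub_left, sf_smul_left] at hb
      rw [sf_sub_right, sf_smul_right]
      intro h
      apply hb
      have h5 : sympForm m F (v - (sympForm m F v a / sympForm m F u a) • u) a = 0 := by
        rw [sf_sub_left, sf_smul_left, div_mul_cancel₀ _ hua, sub_self]
      have h6 : sympForm m F u (b - (sympForm m F u b / sympForm m F u a) • a) = 0 := by
        rw [sf_sub_right, sf_smul_right, div_mul_cancel₀ _ hua, sub_self]
      field_simp
      field_simp at h
      linear_combination h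

theorem block_univ (B : Set (ℙ F (Fin m ⊕ Fin m → F)))
    (hB : MulAction.IsBlock ↥(Cfsg.spGL m F) B) (p q : ℙ F (Fin m ⊕ Fin m → F)) (hp : p ∈ B)
    (hq : q ∈ B) (hpq : p ≠ q) : B = Set.univ := by
  have hu : InB B p.rep := ⟨p.rep_nonzero, by rw [Projectivization.mk_rep]; exact hp⟩
  have hv : InB B q.rep := ⟨q.rep_nonzero, by rw [Projectivization.mk_rep]; exact hq⟩
  have hall : ∀ w : Fin m ⊕ Fin m → F, w ≠ 0 → InB B w := by
    by_cases huv : sympForm m F p.rep q.rep ≠ 0
    · exact step_C2 B hB _ _ hu hv huv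
    · rw [not_not] at huv
      have hind : ∀ c : F, q.rep ≠ c • p.rep := by
        intro c hc
        apply hpq
        rw [← Projectivization.mk_rep p, ← Projectivization.mk_rep q,
          Projectivization.mk_eq_mk_iff]
        have hc0 : c ≠ 0 := by
          rintro rfl
          rw [zero_smul] at hc
          exact q.rep_nonzero hc
        refine ⟨Units.mk0 c⁻¹ (inv_ne_zero hc0), ?_⟩
        change c⁻¹ • q.rep = p.rep
        rw [hc, smul_smul, inv_mul_cancel₀ hc0, one_smul]
      obtain ⟨z, hz1, hz2⟩ := exists_perp_not p.rep q.rep q.rep_nonzero hind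
      have hAu : act (tv z 1) p.rep = p.rep := by
        rw [act_tv, hz1, mul_zero, zero_smul, add_zero]
      have hAv : act (tv z 1) q.rep = q.rep + sympForm m F q.rep z • z := by
        rw [act_tv, one_mul]
      have hv2 : InB B (q.rep + sympForm m F q.rep z • z) := by
        rw [← hAv]
        exact block_key B hB (tv z 1) p.rep hu (by rw [hAu]; exact hu) q.rep hv
      have hne : sympForm m F q.rep (q.rep + sympForm m F q.rep z • z) ≠ 0 := by
        rw [sf_add_right, sf_self, zero_add, sf_smul_right]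
        exact mul_ne_zero hz2 hz2
      exact step_C2 B hB _ _ hv hv2 hne
  rw [Set.eq_univ_iff_forall]
  intro x
  obtain ⟨_, hx⟩ := hall x.rep x.rep_nonzero
  rwa [Projectivization.mk_rep] at hx

theorem result {F : Type*} [Field F] [Finite F] (m : ℕ) (hm : 1 ≤ m) : MulAction.IsPreprimitive ↥(Cfsg.spGL m F) (ℙ F (Fin m ⊕ Fin m → F)) := by
  have htrans : MulAction.IsPretransitive ↥(Cfsg.spGL m F) (ℙ F (Fin m ⊕ Fin m → F)) := by
    constructor
    intro p q
    obtain ⟨A, -, hA⟩ := trans1 (⊤ : Submodule F (Fin m ⊕ Fin m → F)) nondegOn_top p.rep q.rep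
      Submodule.mem_top Submodule.mem_top p.rep_nonzero q.rep_nonzero
    refine ⟨lift A, ?_⟩
    conv_lhs => rw [← Projectivization.mk_rep p]
    rw [lift_smul_mk]
    conv_rhs => rw [← Projectivization.mk_rep q]
    congr 1
  refine { toIsPretransitive := htrans, isTrivialBlock_of_isBlock := ?_ }
  intro B hB
  by_cases hsub : B.Subsingleton
  · exact Or.inl hsub
  · right
    rw [Set.not_subsingleton_iff] at hsub
    obtain ⟨p, hp, q, hq, hpq⟩ := hsub
    exact block_univ B hB p q hp hq hpq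

end Cfsg.Agent.S0768
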