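import Cfsg.Statements.S0270
import Mathlib
import Cfsg.Agent.Lib.Helper27.SympTransv3
import Cfsg.Agent.S0768
import Cfsg.Agent.S0269

set_option autoImplicit false
open Cfsg

namespace Cfsg.Agent.S0270

open Matrix Cfsg.Agent.Lib.Helper27.SympTransv
open scoped LinearAlgebra.Projectivization Pointwise

variable {F : Type*} [Field F] {m : ℕ}

/-- A matrix preserving the symplectic form is symplectic. -/
theorem mem_symplectic_of_preserves (M : Matrix (Fin m ⊕ Fin m) (Fin m ⊕ Fin m) F)
    (h : ∀ u v, sympForm m F (M *ᵥ u) (M *ᵥ v) = sympForm m F u v) :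
    M ∈ Matrix.symplecticGroup (Fin m) F := by
  rw [SymplecticGroup.mem_iff']
  ext i j
  have h1 := h (Pi.single i 1) (Pi.single j 1)
  rw [sf_def, sf_def] at h1
  have e1 : (M *ᵥ Pi.single i 1) ⬝ᵥ (Matrix.J (Fin m) F *ᵥ (M *ᵥ Pi.single j 1)) =
      (Pi.single i 1) ⬝ᵥ (Mᵀ *ᵥ (Matrix.J (Fin m) F *ᵥ (M *ᵥ Pi.single j 1))) := by
    rw [dotProduct_comm]
    exact (Matrix.dotProduct_transpose_mulVec M (Pi.single i 1) _).symm
  rw [e1, Matrix.mulVec_mulVec, Matrix.mulVec_mulVec, Matrix.mulVec_single_one,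
    Matrix.mulVec_single_one, single_one_dotProduct, single_one_dotProduct] at h1
  exact h1

theorem lift_surjective : Function.Surjective (Cfsg.Agent.S0768.lift (F := F) (m := m)) := by
  intro g
  refine ⟨⟨(g.1 : Matrix (Fin m ⊕ Fin m) (Fin m ⊕ Fin m) F),
    mem_symplectic_of_preserves _ g.2⟩, ?_⟩
  apply Subtype.ext
  apply Units.ext
  rfl

theorem smul_mk (A : Matrix.symplecticGroup (Fin m) F) (v : Fin m ⊕ Fin m → F) (hv : v ≠ 0) :
    A • Projectivization.mk F v hv =
      Projectivization.mk F (act A v) (Cfsg.Agent.S0768.act_ne_zero A v hv) := rfl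

/-- The identity as an equivariant map from the `Sp`-action to the `spGL`-action. -/
def fId : ℙ F (Fin m ⊕ Fin m → F) →ₑ[Cfsg.Agent.S0768.lift (F := F) (m := m)]
    ℙ F (Fin m ⊕ Fin m → F) where
  toFun := id
  map_smul' A p := by
    induction p using Projectivization.ind with
    | _ v hv => rfl

theorem isPreprimitive [Finite F] (hm : 1 ≤ m) :
    MulAction.IsPreprimitive (Matrix.symplecticGroup (Fin m) F) (ℙ F (Fin m ⊕ Fin m → F)) :=
  (MulAction.isPreprimitive_congr (f := fId) lift_surjective Function.bijective_id).mpr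
    (Cfsg.Agent.S0768.result m hm)

/-! ### The Iwasawa structure -/

/-- The transvection group with centre `w`. -/
def T' (w : Fin m ⊕ Fin m → F) : Subgroup (Matrix.symplecticGroup (Fin m) F) where
  carrier := {g | ∃ c : F, g = tv w c}
  mul_mem' := by
    rintro _ _ ⟨c, rfl⟩ ⟨d, rfl⟩
    exact ⟨c + d, tv_mul w c d⟩
  one_mem' := ⟨0, (tv_zero_right w).symm⟩
  inv_mem' := by
    rintro _ ⟨c, rfl⟩
    exact ⟨-c, tv_inv w c⟩

theorem T'_smul (a : F) (ha : a ≠ 0) (w : Fin m ⊕ Fin m → F) : T' (a • w) = T' w := by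
  ext g
  constructor
  · rintro ⟨c, rfl⟩
    exact ⟨a ^ 2 * c, tv_smul a w c⟩
  · rintro ⟨c, rfl⟩
    refine ⟨c / a ^ 2, ?_⟩
    rw [tv_smul]
    congr 1
    field_simp

theorem T'_conj (g : Matrix.symplecticGroup (Fin m) F) (w : Fin m ⊕ Fin m → F) :
    T' (act g w) = MulAut.conj g • T' w := by
  ext h
  rw [Subgroup.mem_smul_pointwise_iff_exists]
  constructor
  · rintro ⟨c, rfl⟩
    refine ⟨tv w c, ⟨c, rfl⟩, ?_⟩
    rw [MulAut.smul_def, MulAut.conj_apply, conj_tv]
  · rintro ⟨s, ⟨c, rfl⟩, rfl⟩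
    refine ⟨c, ?_⟩
    rw [MulAut.smul_def, MulAut.conj_apply, conj_tv]

/-- The transvection group of a projective point. -/
noncomputable def T (p : ℙ F (Fin m ⊕ Fin m → F)) : Subgroup (Matrix.symplecticGroup (Fin m) F) := T' p.rep

theorem T_mk (w : Fin m ⊕ Fin m → F) (hw : w ≠ 0) : T (Projectivization.mk F w hw) = T' w := by
  obtain ⟨a, ha⟩ := Projectivization.exists_smul_eq_mk_rep F w hw
  unfold T
  rw [← ha, Units.smul_def]
  exact T'_smul (a : F) a.ne_zero w

/-- The Iwasawa structure of the symplectic group acting on points. -/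
noncomputable def iwasawa : MulAction.IwasawaStructure (Matrix.symplecticGroup (Fin m) F)
    (ℙ F (Fin m ⊕ Fin m → F)) where
  T := T
  is_comm p := by
    refine ⟨⟨?_⟩⟩
    rintro ⟨a, ⟨c, rfl⟩⟩ ⟨b, ⟨d, rfl⟩⟩
    apply Subtype.ext
    change tv p.rep c * tv p.rep d = tv p.rep d * tv p.rep c
    rw [tv_mul, tv_mul, add_comm]
  is_conj g p := by
    induction p using Projectivization.ind with
    | _ v hv =>
      rw [smul_mk, T_mk, T_mk, T'_conj]
  is_generator := by
    apply eq_top_of_tv_mem
    intro w c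
    by_cases hw : w = 0
    · rw [hw, tv_zero_left]
      exact one_mem _
    · apply Subgroup.mem_iSup_of_mem (Projectivization.mk F w hw)
      rw [T_mk]
      exact ⟨c, rfl⟩

/-! ### The kernel of the action -/

theorem mem_center_of_fix (g : Matrix.symplecticGroup (Fin m) F)
    (h : ∀ p : ℙ F (Fin m ⊕ Fin m → F), g • p = p) :
    g ∈ Subgroup.center (Matrix.symplecticGroup (Fin m) F) := by
  set f : (Fin m ⊕ Fin m → F) →ₗ[F] (Fin m ⊕ Fin m → F) :=
    Matrix.mulVecLin (g : Matrix (Fin m ⊕ Fin m) (Fin m ⊕ Fin m) F) with hf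
  obtain ⟨a, ha⟩ := f.exists_eq_smul_id_of_forall_notLinearIndependent
    fun (v : Fin m ⊕ Fin m → F) ↦ by
      by_cases hv : v = 0
      · simp [hv, linearIndependent_fin2]
      · have h1 := h (Projectivization.mk F v hv)
        rw [smul_mk, Projectivization.mk_eq_mk_iff'] at h1
        obtain ⟨b, hb⟩ := h1
        rw [LinearIndependent.pair_iff' hv]
        intro hne
        exact hne b (by rw [hf, Matrix.mulVecLin_apply]; exact hb)
  have hact : ∀ x, act g x = a • x := by
    intro x
    have := LinearMap.congr_fun ha x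
    rw [hf, Matrix.mulVecLin_apply] at this
    rw [show act g x = (g : Matrix (Fin m ⊕ Fin m) (Fin m ⊕ Fin m) F) *ᵥ x from rfl, this]
    simp
  rw [Subgroup.mem_center_iff]
  intro k
  apply act_ext
  intro x
  rw [act_mul, act_mul, hact, hact, act_smul]

theorem not_comm_of_pair (u v : Fin m ⊕ Fin m → F) (h : sympForm m F u v = 1) :
    tv u (1 : F) * tv v 1 ≠ tv v 1 * tv u 1 := by
  intro hc
  have h1 := congrArg (fun A => act A v) hc
  simp only [act_mul, act_tv, sf_self, mul_zero, zero_smul, add_zero, sf_add_left, sf_smul_left,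
    one_mul] at h1
  have hvu : sympForm m F v u = -1 := by rw [sf_swap, h]
  rw [hvu] at h1
  have h2 : v = 0 := by
    have h3 : v + (-1 : F) • u = v + (-1 : F) • u + (-1 : F) • v := by
      convert h1 using 2
      rw [h, zero_add, mul_one]
    have h4 : (-1 : F) • v = 0 := by
      have := h3
      rw [left_eq_add] at this
      exact this
    rw [neg_smul, one_smul, neg_eq_zero] at h4
    exact h4
  rw [h2, sf_zero_right] at h
  exact zero_ne_one h

theorem result {F : Type*} [Field F] [Fintype F] (m : ℕ) (hm : 2 ≤ m) (h : m = 2 → 3 ≤ Fintype.card F) : IsSimpleGroup (Cfsg.PSp m F) := by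
  have hperf : commutator (Matrix.symplecticGroup (Fin m) F) = ⊤ := by
    apply Cfsg.Agent.S0269.result
    by_cases h3 : 3 ≤ m
    · exact Or.inl h3
    · have h2 : m = 2 := by omega
      exact Or.inr (Or.inl ⟨h2, h h2⟩)
  have : MulAction.IsPreprimitive (Matrix.symplecticGroup (Fin m) F)
      (ℙ F (Fin m ⊕ Fin m → F)) := isPreprimitive (by omega)
  have key : ∀ N : Subgroup (Matrix.symplecticGroup (Fin m) F), N.Normal →
      N ≤ Subgroup.center (Matrix.symplecticGroup (Fin m) F) ∨ N = ⊤ := by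
    intro N hN
    by_cases hfix : MulAction.fixedPoints N (ℙ F (Fin m ⊕ Fin m → F)) = Set.univ
    · left
      intro g hg
      apply mem_center_of_fix
      intro p
      have := Set.eq_univ_iff_forall.mp hfix p
      exact this ⟨g, hg⟩
    · right
      have := iwasawa.commutator_le N hfix
      rw [hperf] at this
      exact top_le_iff.mp this
  refine { exists_pair_ne := ?_, eq_bot_or_eq_top_of_normal := ?_ }
  · set u : Fin m ⊕ Fin m → F := Pi.single (Sum.inr ⟨0, by omega⟩) 1 with hu
    set v : Fin m ⊕ Fin m → F := Pi.single (Sum.inl ⟨0, by omega⟩) 1 with hv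
    have huv : sympForm m F u v = 1 := by
      rw [hv, sf_single_inl, hu]
      simp
    refine ⟨(QuotientGroup.mk (tv u (1 : F)) : Cfsg.PSp m F), 1, ?_⟩
    intro h1
    rw [QuotientGroup.eq_one_iff, Subgroup.mem_center_iff] at h1
    exact not_comm_of_pair u v huv (h1 (tv v 1)).symm
  · intro K hK
    set N := K.comap (QuotientGroup.mk' (Subgroup.center (Matrix.symplecticGroup (Fin m) F)))
      with hNdef
    have hN : N.Normal := hK.comap _
    rcases key N hN with h1 | h1
    · left
      rw [eq_bot_iff]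
      intro x hx
      obtain ⟨g, rfl⟩ := QuotientGroup.mk_surjective x
      have hg : g ∈ N := hx
      rw [Subgroup.mem_bot]
      exact (QuotientGroup.eq_one_iff g).mpr (h1 hg)
    · right
      rw [eq_top_iff]
      intro x _
      obtain ⟨g, rfl⟩ := QuotientGroup.mk_surjective x
      have hg : g ∈ N := by rw [h1]; trivial
      exact hg

end Cfsg.Agent.S0270
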