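import Cfsg.Statements.S0749
import Mathlib

set_option autoImplicit false
open Cfsg

namespace Cfsg.Agent.S0749

variable {F V : Type*} [Field F] [AddCommGroup V] [Module F V]

/-- The transvection `z ↦ z + c B(z, u) u` for an alternating form. -/
def tvE (B : LinearMap.BilinForm F V) (hA : B.IsAlt) (u : V) (c : F) : V ≃ₗ[F] V where
  toFun z := z + (c * B z u) • u
  map_add' := by
    intro z z'
    rw [map_add, LinearMap.add_apply]
    module
  map_smul' := by
    intro a z
    rw [map_smul, LinearMap.smul_apply, RingHom.id_apply, smul_eq_mul]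
    module
  invFun z := z - (c * B z u) • u
  left_inv := by
    intro z
    simp only
    rw [map_add, LinearMap.add_apply, map_smul, LinearMap.smul_apply, hA.self_eq_zero u]
    simp
  right_inv := by
    intro z
    simp only
    rw [map_sub, LinearMap.sub_apply, map_smul, LinearMap.smul_apply, hA.self_eq_zero u]
    simp

theorem tvE_apply (B : LinearMap.BilinForm F V) (hA : B.IsAlt) (u : V) (c : F) (z : V) :
    tvE B hA u c z = z + (c * B z u) • u := rfl

theorem tvE_preserves (B : LinearMap.BilinForm F V) (hA : B.IsAlt) (u : V) (c : F) (z z' : V) :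
    B (tvE B hA u c z) (tvE B hA u c z') = B z z' := by
  rw [tvE_apply, tvE_apply]
  simp only [map_add, map_smul, LinearMap.add_apply, LinearMap.smul_apply, hA.self_eq_zero,
    smul_eq_mul]
  have := LinearMap.IsAlt.neg hA u z'
  linear_combination (-(c * B z u)) * this

/-- One transvection moves `x` to `y` when `B x y ≠ 0`, fixing everything orthogonal to `y - x`. -/
theorem step (B : LinearMap.BilinForm F V) (hA : B.IsAlt) (H : Submodule F V) (x y : V)
    (hne : B x y ≠ 0) (hperp : ∀ h ∈ H, B (y - x) h = 0) :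
    ∃ g : V ≃ₗ[F] V, (∀ u v, B (g u) (g v) = B u v) ∧ (∀ h ∈ H, g h = h) ∧ g x = y := by
  refine ⟨tvE B hA (y - x) (B x y)⁻¹, tvE_preserves B hA _ _, ?_, ?_⟩
  · intro h hh
    rw [tvE_apply]
    have h1 : B h (y - x) = 0 := by
      have := LinearMap.IsAlt.neg hA (y - x) h
      rw [hperp h hh, neg_zero] at this
      exact this.symm
    rw [h1, mul_zero, zero_smul, add_zero]
  · rw [tvE_apply, map_sub, hA.self_eq_zero, sub_zero, inv_mul_cancel₀ hne, one_smul]
    abel

theorem exists_fix_map [FiniteDimensional F V] (B : LinearMap.BilinForm F V)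
    (hB : B.Nondegenerate) (hA : B.IsAlt) (H : Submodule F V) (x y : V) (hx : x ∉ H)
    (hy : y ∉ H) (hperp : ∀ h ∈ H, B (y - x) h = 0) :
    ∃ g : V ≃ₗ[F] V, (∀ u v, B (g u) (g v) = B u v) ∧ (∀ h ∈ H, g h = h) ∧ g x = y := by
  by_cases hne : B x y ≠ 0
  · exact step B hA H x y hne hperp
  · rw [not_not] at hne
    have hdp := LinearMap.BilinForm.orthogonal_orthogonal hB hA.isRefl H
    have key : ∀ z : V, z ∉ H → ∃ w : V, (∀ h ∈ H, B h w = 0) ∧ B z w ≠ 0 := by
      intro z hz
      rw [← hdp] at hz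
      rw [LinearMap.BilinForm.mem_orthogonal_iff] at hz
      simp only [not_forall] at hz
      obtain ⟨w, hw, hwz⟩ := hz
      refine ⟨w, fun h hh => hw h hh, ?_⟩
      intro h0
      apply hwz
      have := LinearMap.IsAlt.neg hA z w
      rw [h0, neg_zero] at this
      exact this.symm
    obtain ⟨w₁, hw₁, hxw₁⟩ := key x hx
    obtain ⟨w₂, hw₂, hyw₂⟩ := key y hy
    have hw : ∃ w : V, (∀ h ∈ H, B h w = 0) ∧ B x w ≠ 0 ∧ B y w ≠ 0 := by
      by_cases h1 : B y w₁ ≠ 0
      · exact ⟨w₁, hw₁, hxw₁, h1⟩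
      · by_cases h2 : B x w₂ ≠ 0
        · exact ⟨w₂, hw₂, h2, hyw₂⟩
        · rw [not_not] at h1 h2
          refine ⟨w₁ + w₂, fun h hh => by rw [map_add, hw₁ h hh, hw₂ h hh, add_zero], ?_, ?_⟩
          · rw [map_add, h2, add_zero]; exact hxw₁
          · rw [map_add, h1, zero_add]; exact hyw₂
    obtain ⟨w, hwH, hxw, hyw⟩ := hw
    have hwH' : ∀ h ∈ H, B w h = 0 := by
      intro h hh
      have := LinearMap.IsAlt.neg hA h w
      rw [hwH h hh, neg_zero] at this
      exact this.symm
    obtain ⟨g₁, hg₁, hg₁H, hg₁x⟩ := step B hA H x (x + w)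
      (by rw [map_add, hA.self_eq_zero, zero_add]; exact hxw)
      (by intro h hh; rw [add_sub_cancel_left]; exact hwH' h hh)
    obtain ⟨g₂, hg₂, hg₂H, hg₂x⟩ := step B hA H (x + w) y
      (by
        rw [map_add, LinearMap.add_apply, hne, zero_add]
        intro h0
        apply hyw
        have := LinearMap.IsAlt.neg hA y w
        rw [h0] at this
        exact neg_eq_zero.mp this)
      (by
        intro h hh
        have e : y - (x + w) = (y - x) - w := by abel
        rw [e, map_sub, LinearMap.sub_apply, hperp h hh, hwH' h hh, sub_zero])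
    refine ⟨g₁.trans g₂, fun u v => ?_, fun h hh => ?_, ?_⟩
    · rw [LinearEquiv.trans_apply, LinearEquiv.trans_apply, hg₂, hg₁]
    · rw [LinearEquiv.trans_apply, hg₁H h hh, hg₂H h hh]
    · rw [LinearEquiv.trans_apply, hg₁x, hg₂x]

theorem main [FiniteDimensional F V] (B : LinearMap.BilinForm F V) (hB : B.Nondegenerate)
    (hA : B.IsAlt) (s : Finset V) :
    ∀ f : V →ₗ[F] V,
      (∀ x ∈ Submodule.span F (s : Set V), ∀ x' ∈ Submodule.span F (s : Set V),
        B (f x) (f x') = B x x') →
      (∀ x ∈ Submodule.span F (s : Set V), f x = 0 → x = 0) →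
      ∃ g : V ≃ₗ[F] V, (∀ u v, B (g u) (g v) = B u v) ∧
        ∀ x ∈ Submodule.span F (s : Set V), g x = f x := by
  classical
  induction s using Finset.induction_on with
  | empty =>
    intro f _ _
    refine ⟨LinearEquiv.refl F V, fun u v => rfl, ?_⟩
    intro x hx
    rw [Finset.coe_empty, Submodule.span_empty, Submodule.mem_bot] at hx
    rw [hx, map_zero, map_zero]
  | insert a s _ ih =>
    intro f hf hinj
    set H := Submodule.span F (s : Set V) with hH
    have hle : H ≤ Submodule.span F ((insert a s : Finset V) : Set V) := by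
      apply Submodule.span_mono
      rw [Finset.coe_insert]
      exact Set.subset_insert _ _
    have haX : a ∈ Submodule.span F ((insert a s : Finset V) : Set V) := by
      apply Submodule.subset_span
      rw [Finset.coe_insert]
      exact Set.mem_insert _ _
    obtain ⟨g₁, hg₁, hg₁H⟩ := ih f (fun x hx x' hx' => hf x (hle hx) x' (hle hx'))
      (fun x hx => hinj x (hle hx))
    have hdecomp : ∀ x ∈ Submodule.span F ((insert a s : Finset V) : Set V),
        ∃ c : F, ∃ h ∈ H, x = c • a + h := by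
      intro x hx
      rw [Finset.coe_insert, Submodule.mem_span_insert] at hx
      exact hx
    by_cases haH : a ∈ H
    · refine ⟨g₁, hg₁, ?_⟩
      intro x hx
      obtain ⟨c, h, hh, rfl⟩ := hdecomp x hx
      exact hg₁H _ (H.add_mem (H.smul_mem c haH) hh)
    · set y := g₁.symm (f a) with hy
      have hg₁y : g₁ y = f a := by rw [hy, LinearEquiv.apply_symm_apply]
      have hyH : y ∉ H := by
        intro hyH
        have h1 : f y = f a := by rw [← hg₁H y hyH, hg₁y]
        have h2 : f (y - a) = 0 := by rw [map_sub, h1, sub_self]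
        have h3 := hinj (y - a) (Submodule.sub_mem _ (hle hyH) haX) h2
        apply haH
        rw [← sub_eq_zero.mp h3]
        exact hyH
      have hperp : ∀ h ∈ H, B (y - a) h = 0 := by
        intro h hh
        rw [map_sub, LinearMap.sub_apply, sub_eq_zero, ← hg₁ y h, hg₁y, hg₁H h hh]
        exact hf a haX h (hle hh)
      obtain ⟨g₂, hg₂, hg₂H, hg₂a⟩ := exists_fix_map B hB hA H a y haH hyH hperp
      refine ⟨g₂.trans g₁, fun u v => ?_, ?_⟩
      · rw [LinearEquiv.trans_apply, LinearEquiv.trans_apply, hg₁, hg₂]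
      · intro x hx
        obtain ⟨c, h, hh, rfl⟩ := hdecomp x hx
        rw [LinearEquiv.trans_apply, map_add, map_smul, hg₂a, hg₂H h hh, map_add, map_smul,
          hg₁y, hg₁H h hh, map_add, map_smul]

theorem result {F V : Type*} [Field F] [AddCommGroup V] [Module F V] [FiniteDimensional F V] (B : LinearMap.BilinForm F V) (hB : B.Nondegenerate) (hA : B.IsAlt) (X Y : Submodule F V) (φ : X ≃ₗ[F] Y) (hφ : ∀ x x' : X, B (φ x : V) (φ x' : V) = B (x : V) (x' : V)) : ∃ g : V ≃ₗ[F] V, (∀ u v : V, B (g u) (g v) = B u v) ∧ ∀ x : X, g (x : V) = (φ x : V) := by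
  obtain ⟨f, hf⟩ := LinearMap.exists_extend (Y.subtype.comp φ.toLinearMap)
  have hfx : ∀ x : X, f (x : V) = (φ x : V) := by
    intro x
    have := LinearMap.congr_fun hf x
    exact this
  obtain ⟨s, hs⟩ := (IsNoetherian.noetherian X : X.FG)
  obtain ⟨g, hg, hgX⟩ := main B hB hA s f
    (by
      intro x hx x' hx'
      rw [hs] at hx hx'
      have h1 := hfx ⟨x, hx⟩
      have h2 := hfx ⟨x', hx'⟩
      simp only at h1 h2
      rw [h1, h2]
      exact hφ ⟨x, hx⟩ ⟨x', hx'⟩)
    (by
      intro x hx h0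
      rw [hs] at hx
      have h1 := hfx ⟨x, hx⟩
      simp only at h1
      rw [h0] at h1
      have h2 : φ ⟨x, hx⟩ = 0 := Subtype.ext h1.symm
      have h3 : (⟨x, hx⟩ : X) = 0 := φ.map_eq_zero_iff.mp h2
      exact congrArg Subtype.val h3)
  refine ⟨g, hg, ?_⟩
  intro x
  rw [hgX x.1 (by rw [hs]; exact x.2)]
  exact hfx x

end Cfsg.Agent.S0749
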