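import Cfsg.Statements.S0304
import Mathlib
import Cfsg.Agent.Lib.Helper19.QuadStd
import Cfsg.Agent.S0270

set_option autoImplicit false
open Cfsg

namespace Cfsg.Agent.S0304

open Matrix QuadraticMap Cfsg.Agent.Lib.Helper27.SympTransv Cfsg.Agent.Lib.Helper19.QuadStd

section basics

variable {F : Type*} [Field F] [CharP F 2] {m : ℕ}

/-- Extension of a vector by zero in the radical coordinate. -/
def ext (v : Fin m ⊕ Fin m → F) : Unit ⊕ (Fin m ⊕ Fin m) → F := Sum.elim (fun _ => 0) v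

omit [CharP F 2] in
lemma ext_inr (v : Fin m ⊕ Fin m → F) : ext v ∘ Sum.inr = v := rfl

lemma polar_eq_symp (x y : Unit ⊕ (Fin m ⊕ Fin m) → F) :
    polar (Cfsg.quadFormOdd m F) x y = sympForm m F (x ∘ Sum.inr) (y ∘ Sum.inr) := by
  rw [← coe_stdOdd, polar_stdOdd, sf_apply, CharTwo.two_eq_zero, zero_mul, zero_mul, zero_add]
  apply Finset.sum_congr rfl
  intro i _
  simp only [Function.comp_apply, CharTwo.sub_eq_add]
  ring

omit [CharP F 2] in
lemma quadFormOdd_eq (x : Unit ⊕ (Fin m ⊕ Fin m) → F) :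
    Cfsg.quadFormOdd m F x = x (Sum.inl ()) ^ 2 + Cfsg.quadFormPlus m F (x ∘ Sum.inr) := rfl

/-- The underlying matrix. -/
abbrev mat (A : Cfsg.isometryGroup F (Cfsg.quadFormOdd m F)) :
    Matrix (Unit ⊕ (Fin m ⊕ Fin m)) (Unit ⊕ (Fin m ⊕ Fin m)) F :=
  ((A : GL (Unit ⊕ (Fin m ⊕ Fin m)) F) : Matrix (Unit ⊕ (Fin m ⊕ Fin m)) (Unit ⊕ (Fin m ⊕ Fin m)) F)

omit [CharP F 2] in
lemma iso_apply (A : Cfsg.isometryGroup F (Cfsg.quadFormOdd m F))
    (v : Unit ⊕ (Fin m ⊕ Fin m) → F) :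
    Cfsg.quadFormOdd m F (mat A *ᵥ v) = Cfsg.quadFormOdd m F v := A.2 v v

omit [CharP F 2] in
lemma iso_polar (A : Cfsg.isometryGroup F (Cfsg.quadFormOdd m F))
    (x y : Unit ⊕ (Fin m ⊕ Fin m) → F) :
    polar (Cfsg.quadFormOdd m F) (mat A *ᵥ x) (mat A *ᵥ y) =
      polar (Cfsg.quadFormOdd m F) x y := by
  unfold polar
  rw [← Matrix.mulVec_add, iso_apply, iso_apply, iso_apply]

/-- The lower right block. -/
def lr (A : Matrix (Unit ⊕ (Fin m ⊕ Fin m)) (Unit ⊕ (Fin m ⊕ Fin m)) F) :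
    Matrix (Fin m ⊕ Fin m) (Fin m ⊕ Fin m) F := A.toBlocks₂₂

omit [CharP F 2] in
lemma mulVec_ext_inr (A : Matrix (Unit ⊕ (Fin m ⊕ Fin m)) (Unit ⊕ (Fin m ⊕ Fin m)) F)
    (v : Fin m ⊕ Fin m → F) : (A *ᵥ ext v) ∘ Sum.inr = lr A *ᵥ v := by
  funext i
  simp [Matrix.mulVec, dotProduct, Fintype.sum_sum_type, ext, lr, Matrix.toBlocks₂₂]

omit [CharP F 2] in
lemma mulVec_ext_inl (A : Matrix (Unit ⊕ (Fin m ⊕ Fin m)) (Unit ⊕ (Fin m ⊕ Fin m)) F)
    (v : Fin m ⊕ Fin m → F) : (A *ᵥ ext v) (Sum.inl ()) = ∑ j, A (Sum.inl ()) (Sum.inr j) * v j := by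
  simp [Matrix.mulVec, dotProduct, Fintype.sum_sum_type, ext]

/-- The first column of an isometry. -/
lemma col_zero (A : Cfsg.isometryGroup F (Cfsg.quadFormOdd m F)) :
    (∀ k, mat A (Sum.inr k) (Sum.inl ()) = 0) ∧
      mat A (Sum.inl ()) (Sum.inl ()) = 1 := by
  classical
  set u := mat A *ᵥ (Pi.single (Sum.inl ()) 1) with hu
  have hucol : ∀ k, u k = mat A k (Sum.inl ()) := by
    intro k
    rw [hu, Matrix.mulVec_single_one]
    rfl
  have hperp : ∀ w, polar (Cfsg.quadFormOdd m F) u w = 0 := by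
    intro w
    have h1 := iso_polar A (Pi.single (Sum.inl ()) 1) (mat A⁻¹ *ᵥ w)
    have h2 : mat A *ᵥ (mat A⁻¹ *ᵥ w) = w := by
      rw [Matrix.mulVec_mulVec]
      have : mat A * mat A⁻¹ = 1 := by
        have h3 : A * A⁻¹ = 1 := mul_inv_cancel A
        have h4 := congrArg (fun g : Cfsg.isometryGroup F (Cfsg.quadFormOdd m F) => mat g) h3
        exact h4
      rw [this, Matrix.one_mulVec]
    rw [h2] at h1
    rw [h1, polar_eq_symp, sf_apply]
    apply Finset.sum_eq_zero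
    intro i _
    simp
  have hu' : ∀ k, u (Sum.inr k) = 0 := by
    intro k
    rcases k with i | i
    · have := hperp (Pi.single (Sum.inr (Sum.inr i)) 1)
      rw [polar_eq_symp, sf_apply] at this
      simpa [Pi.single_apply, CharTwo.sub_eq_add] using this
    · have := hperp (Pi.single (Sum.inr (Sum.inl i)) 1)
      rw [polar_eq_symp, sf_apply] at this
      simpa [Pi.single_apply, CharTwo.sub_eq_add] using this
  have hQ := iso_apply A (Pi.single (Sum.inl ()) 1)
  rw [← hu, quadFormOdd_eq, quadFormOdd_eq] at hQ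
  have h0 : u ∘ Sum.inr = 0 := by
    funext k
    exact hu' k
  rw [h0] at hQ
  simp [Cfsg.quadFormPlus] at hQ
  constructor
  · intro k
    rw [← hucol, hu' k]
  · rw [← hucol]
    rcases hQ with h | h
    · exact h
    · rw [h, CharTwo.neg_eq]

omit [CharP F 2] in
lemma lr_mul (A B : Matrix (Unit ⊕ (Fin m ⊕ Fin m)) (Unit ⊕ (Fin m ⊕ Fin m)) F)
    (hA : ∀ k, A (Sum.inr k) (Sum.inl ()) = 0) : lr (A * B) = lr A * lr B := by
  ext i j
  simp [lr, Matrix.toBlocks₂₂, Matrix.mul_apply, Fintype.sum_sum_type, hA]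

lemma lr_mem (A : Cfsg.isometryGroup F (Cfsg.quadFormOdd m F)) :
    lr (mat A) ∈ Matrix.symplecticGroup (Fin m) F := by
  apply Cfsg.Agent.S0270.mem_symplectic_of_preserves
  intro u v
  rw [← mulVec_ext_inr, ← mulVec_ext_inr, ← polar_eq_symp, iso_polar, polar_eq_symp, ext_inr,
    ext_inr]

/-- The homomorphism to the symplectic group. -/
def toSymp : Cfsg.isometryGroup F (Cfsg.quadFormOdd m F) →* Matrix.symplecticGroup (Fin m) F where
  toFun A := ⟨lr (mat A), lr_mem A⟩
  map_one' := by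
    apply Subtype.ext
    show lr (1 : Matrix _ _ F) = 1
    ext i j
    simp [lr, Matrix.toBlocks₂₂, Matrix.one_apply]
  map_mul' A B := by
    apply Subtype.ext
    show lr (mat A * mat B) = _
    rw [lr_mul _ _ (col_zero A).1]
    rfl

end basics

section bij

variable {F : Type*} [Field F] [CharP F 2] {m : ℕ}

lemma toSymp_injective :
    Function.Injective (toSymp : Cfsg.isometryGroup F (Cfsg.quadFormOdd m F) →* _) := by
  classical
  rw [injective_iff_map_eq_one]
  intro A hA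
  have hlr : lr (mat A) = 1 := congrArg Subtype.val hA
  obtain ⟨hc0, hc1⟩ := col_zero A
  have hrow : ∀ j, mat A (Sum.inl ()) (Sum.inr j) = 0 := by
    intro j
    have h1 := iso_apply A (ext (Pi.single j 1))
    rw [quadFormOdd_eq, quadFormOdd_eq, mulVec_ext_inr, mulVec_ext_inl, hlr, Matrix.one_mulVec,
      ext_inr] at h1
    simp [ext, Pi.single_apply] at h1
    exact h1
  apply Subtype.ext
  apply Units.ext
  show mat A = 1
  ext i j
  rcases i with u | i <;> rcases j with u' | j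
  · simpa using hc1
  · simpa using hrow j
  · simpa using hc0 i
  · have := congrFun (congrFun hlr i) j
    simpa [lr, Matrix.toBlocks₂₂, Matrix.one_apply] using this

lemma polar_plus_eq_symp (v w : Fin m ⊕ Fin m → F) :
    polar (Cfsg.quadFormPlus m F) v w = sympForm m F v w := by
  rw [← coe_stdPlus, polar_stdPlus, sf_apply]
  apply Finset.sum_congr rfl
  intro i _
  simp only [CharTwo.sub_eq_add]
  ring

omit [CharP F 2] in
lemma quadFormPlus_smul (c : F) (v : Fin m ⊕ Fin m → F) :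
    Cfsg.quadFormPlus m F (c • v) = c ^ 2 * Cfsg.quadFormPlus m F v := by
  rw [← coe_stdPlus, QuadraticMap.map_smul, smul_eq_mul, pow_two]

/-- The defect of a symplectic matrix with respect to the quadratic form. -/
def defect (S : Matrix (Fin m ⊕ Fin m) (Fin m ⊕ Fin m) F) (v : Fin m ⊕ Fin m → F) : F :=
  Cfsg.quadFormPlus m F (S *ᵥ v) + Cfsg.quadFormPlus m F v

lemma defect_add (S : Matrix (Fin m ⊕ Fin m) (Fin m ⊕ Fin m) F)
    (hS : S ∈ Matrix.symplecticGroup (Fin m) F) (v w : Fin m ⊕ Fin m → F) :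
    defect S (v + w) = defect S v + defect S w := by
  unfold defect
  have h1 : ∀ x y : Fin m ⊕ Fin m → F, Cfsg.quadFormPlus m F (x + y) =
      Cfsg.quadFormPlus m F x + Cfsg.quadFormPlus m F y + sympForm m F x y := by
    intro x y
    rw [← polar_plus_eq_symp]
    unfold polar
    ring
  rw [Matrix.mulVec_add, h1, h1, sp_preserves S hS]
  have : sympForm m F v w + sympForm m F v w = 0 := CharTwo.add_self_eq_zero _
  linear_combination this

omit [CharP F 2] in
lemma defect_smul (S : Matrix (Fin m ⊕ Fin m) (Fin m ⊕ Fin m) F) (c : F)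
    (v : Fin m ⊕ Fin m → F) : defect S (c • v) = c ^ 2 * defect S v := by
  unfold defect
  rw [Matrix.mulVec_smul, quadFormPlus_smul, quadFormPlus_smul]
  ring

lemma defect_sum (S : Matrix (Fin m ⊕ Fin m) (Fin m ⊕ Fin m) F)
    (hS : S ∈ Matrix.symplecticGroup (Fin m) F) (v : Fin m ⊕ Fin m → F) :
    defect S v = ∑ j, v j ^ 2 * defect S (Pi.single j 1) := by
  classical
  have h0 : defect S 0 = 0 := by
    have := defect_add S hS 0 0
    rw [add_zero] at this
    exact left_eq_add.1 this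
  let Dh : (Fin m ⊕ Fin m → F) →+ F := AddMonoidHom.mk' (defect S) (defect_add S hS)
  have hv : v = ∑ j, v j • (Pi.single j 1 : Fin m ⊕ Fin m → F) := by
    funext k
    simp [Pi.single_apply]
  conv_lhs => rw [hv]
  have : defect S (∑ j, v j • (Pi.single j 1 : Fin m ⊕ Fin m → F)) =
      Dh (∑ j, v j • (Pi.single j 1 : Fin m ⊕ Fin m → F)) := rfl
  rw [this, map_sum]
  apply Finset.sum_congr rfl
  intro j _
  show defect S (v j • Pi.single j 1) = _
  rw [defect_smul]

lemma toSymp_surjective [Finite F] :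
    Function.Surjective (toSymp : Cfsg.isometryGroup F (Cfsg.quadFormOdd m F) →* _) := by
  classical
  rintro ⟨S, hS⟩
  have hchar : ringChar F = 2 := ringChar.eq F 2
  choose lam hlam using fun j : Fin m ⊕ Fin m =>
    FiniteField.isSquare_of_char_two hchar (defect S (Pi.single j 1))
  let M : Matrix (Unit ⊕ (Fin m ⊕ Fin m)) (Unit ⊕ (Fin m ⊕ Fin m)) F :=
    Matrix.fromBlocks 1 (Matrix.of fun _ j => lam j) 0 S
  have hMinl : ∀ v, (M *ᵥ v) (Sum.inl ()) = v (Sum.inl ()) + ∑ j, lam j * v (Sum.inr j) := by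
    intro v
    simp [M, Matrix.mulVec, dotProduct, Fintype.sum_sum_type, Matrix.one_apply]
  have hMinr : ∀ v, (M *ᵥ v) ∘ Sum.inr = S *ᵥ (v ∘ Sum.inr) := by
    intro v
    funext i
    simp [M, Matrix.mulVec, dotProduct, Fintype.sum_sum_type]
  have hMQ : ∀ v, Cfsg.quadFormOdd m F (M *ᵥ v) = Cfsg.quadFormOdd m F v := by
    intro v
    rw [quadFormOdd_eq, quadFormOdd_eq, hMinl, hMinr, CharTwo.add_sq, CharTwo.sum_sq]
    have h1 : ∑ j, (lam j * v (Sum.inr j)) ^ 2 = defect S (v ∘ Sum.inr) := by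
      rw [defect_sum S hS]
      apply Finset.sum_congr rfl
      intro j _
      rw [hlam j]
      simp only [Function.comp_apply]
      ring
    rw [h1]
    unfold defect
    have : Cfsg.quadFormPlus m F (S *ᵥ (v ∘ Sum.inr)) + Cfsg.quadFormPlus m F (S *ᵥ (v ∘ Sum.inr))
        = 0 := CharTwo.add_self_eq_zero _
    linear_combination this
  have hdet : IsUnit M.det := by
    have : M.det = (1 : Matrix Unit Unit F).det * S.det := Matrix.det_fromBlocks_zero₂₁ _ _ _
    rw [this, Matrix.det_one, one_mul]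
    exact SymplecticGroup.symplectic_det hS
  obtain ⟨u, hu⟩ := (Matrix.isUnit_iff_isUnit_det M).2 hdet
  refine ⟨⟨u, ?_⟩, ?_⟩
  · intro v _
    show Cfsg.quadFormOdd m F ((u : Matrix _ _ F) *ᵥ v) = Cfsg.quadFormOdd m F v
    rw [hu]
    exact hMQ v
  · apply Subtype.ext
    show lr (u : Matrix _ _ F) = S
    rw [hu]
    exact Matrix.toBlocks_fromBlocks₂₂ _ _ _ _

end bij

/-- In characteristic 2, O_{2m+1}(q) is isomorphic to Sp_{2m}(q). -/
theorem result {F : Type*} [Field F] [Fintype F] [CharP F 2] (m : ℕ) : Nonempty (Cfsg.isometryGroup F (Cfsg.quadFormOdd m F) ≃* Matrix.symplecticGroup (Fin m) F) := by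
  exact ⟨MulEquiv.ofBijective toSymp ⟨toSymp_injective, toSymp_surjective⟩⟩

end Cfsg.Agent.S0304
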