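import Cfsg.Statements.S2585
import Mathlib
import Cfsg.Agent.S0304
import Cfsg.Agent.Lib.Helper27.SympWitt

set_option autoImplicit false
open Cfsg

namespace Cfsg.Agent.S2585

open Matrix QuadraticMap Cfsg.Agent.Lib.Helper27.SympTransv Cfsg.Agent.Lib.Helper19.QuadStd
open Cfsg.Agent.S0304

section aux

variable {F : Type*} [Field F] [Fintype F] [CharP F 2] {m : ℕ}

/-- The defect of a symplectic matrix is the square of a linear functional. -/
lemma exists_defect_vector (S : Matrix (Fin m ⊕ Fin m) (Fin m ⊕ Fin m) F)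
    (hS : S ∈ Matrix.symplecticGroup (Fin m) F) :
    ∃ a : Fin m ⊕ Fin m → F, ∀ v, defect S v = (sympForm m F v a) ^ 2 := by
  classical
  have hchar : ringChar F = 2 := ringChar.eq F 2
  choose lam hlam using fun j : Fin m ⊕ Fin m =>
    FiniteField.isSquare_of_char_two hchar (defect S (Pi.single j 1))
  refine ⟨Sum.elim (fun i => lam (Sum.inr i)) (fun i => lam (Sum.inl i)), ?_⟩
  intro v
  rw [defect_sum S hS, sf_apply]
  simp only [Sum.elim_inl, Sum.elim_inr, CharTwo.sub_eq_add]
  rw [CharTwo.sum_sq, Fintype.sum_sum_type]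
  rw [← Finset.sum_add_distrib]
  apply Finset.sum_congr rfl
  intro i _
  rw [hlam, hlam, CharTwo.add_sq]
  ring

lemma fixed_perp (S : Matrix (Fin m ⊕ Fin m) (Fin m ⊕ Fin m) F) {a : Fin m ⊕ Fin m → F}
    (ha : ∀ v, defect S v = (sympForm m F v a) ^ 2) (w : Fin m ⊕ Fin m → F) (hw : S *ᵥ w = w) :
    sympForm m F w a = 0 := by
  have h1 := ha w
  unfold defect at h1
  rw [hw, CharTwo.add_self_eq_zero] at h1
  exact pow_eq_zero_iff (two_ne_zero) |>.1 h1.symm

/-- Solvability of `(S - 1) c = S a`. -/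
lemma exists_solution (A : Matrix.symplecticGroup (Fin m) F) {a : Fin m ⊕ Fin m → F}
    (ha : ∀ w, (A : Matrix _ _ F) *ᵥ w = w → sympForm m F w a = 0) :
    ∃ c : Fin m ⊕ Fin m → F, (A : Matrix _ _ F) *ᵥ c - c = (A : Matrix _ _ F) *ᵥ a := by
  set S : Matrix (Fin m ⊕ Fin m) (Fin m ⊕ Fin m) F := (A : Matrix (Fin m ⊕ Fin m) (Fin m ⊕ Fin m) F) with hSdef
  have hS : S ∈ Matrix.symplecticGroup (Fin m) F := A.2
  set L : (Fin m ⊕ Fin m → F) →ₗ[F] (Fin m ⊕ Fin m → F) := (S - 1).mulVecLin with hL
  have hLapp : ∀ u, L u = S *ᵥ u - u := by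
    intro u
    rw [hL, Matrix.mulVecLin_apply, Matrix.sub_mulVec, Matrix.one_mulVec]
  have hrefl : (sympB m F).IsRefl := (sympB_isAlt (m := m) (F := F)).isRefl
  have hnd := sympB_nondegenerate (m := m) (F := F)
  -- surjectivity of `S`
  have hsurj : ∀ y, ∃ u, S *ᵥ u = y := by
    intro y
    refine ⟨((A⁻¹ : Matrix.symplecticGroup (Fin m) F) : Matrix _ _ F) *ᵥ y, ?_⟩
    rw [Matrix.mulVec_mulVec]
    have : S * ((A⁻¹ : Matrix.symplecticGroup (Fin m) F) : Matrix _ _ F) = 1 := by
      have h1 : A * A⁻¹ = 1 := mul_inv_cancel A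
      have h2 := congrArg (fun g : Matrix.symplecticGroup (Fin m) F =>
        (g : Matrix (Fin m ⊕ Fin m) (Fin m ⊕ Fin m) F)) h1
      exact h2
    rw [this, Matrix.one_mulVec]
  have hperp : (sympB m F).orthogonal (LinearMap.range L) ≤ LinearMap.ker L := by
    intro x hx
    rw [LinearMap.mem_ker, hLapp, sub_eq_zero]
    -- `B (S u) (x - S x) = 0` for all `u`
    have h1 : ∀ u, sympForm m F (S *ᵥ u) (x - S *ᵥ x) = 0 := by
      intro u
      have h2 := hx (L u) (LinearMap.mem_range_self L u)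
      rw [sympB_apply, hLapp, sf_sub_left] at h2
      rw [sf_sub_right, sp_preserves S hS]
      linear_combination h2
    have h3 : x - S *ᵥ x = 0 := by
      apply hnd.2
      intro y
      obtain ⟨u, rfl⟩ := hsurj y
      rw [sympB_apply]
      exact h1 u
    exact (sub_eq_zero.1 h3).symm
  have hmem : S *ᵥ a ∈ (sympB m F).orthogonal (LinearMap.ker L) := by
    intro w hw
    rw [LinearMap.mem_ker, hLapp, sub_eq_zero] at hw
    show sympB m F w (S *ᵥ a) = 0
    rw [sympB_apply]
    have := sp_preserves S hS w a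
    rw [hw] at this
    rw [this]
    exact ha w hw
  have hrange : S *ᵥ a ∈ LinearMap.range L := by
    have h1 := LinearMap.BilinForm.orthogonal_le hperp hmem
    rwa [LinearMap.BilinForm.orthogonal_orthogonal hnd hrefl] at h1
  obtain ⟨c, hc⟩ := hrange
  exact ⟨c, by rw [← hLapp]; exact hc⟩

end aux

/-- Over a finite field of characteristic two every element of the symplectic group is orthogonal for a suitable quadratic form: for each A in Sp_2m(F) there is a quadratic form Q on F^(2m) whose polar form is the alternating form defining Sp_2m(F) (so Q is non-degenerate) and which A preserves. Equivalently, for m ≥ 1, Sp_2m(F) is the union of the conjugates of its two orthogonal subgroups O⁺_2m(F) and O⁻_2m(F). -/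
theorem result {F : Type*} [Field F] [Fintype F] [CharP F 2] {m : ℕ} (A : Matrix.symplecticGroup (Fin m) F) : ∃ Q : QuadraticForm F (Fin m ⊕ Fin m → F), (∀ u v : Fin m ⊕ Fin m → F, QuadraticMap.polar ⇑Q u v = Cfsg.sympForm m F u v) ∧ ∀ v : Fin m ⊕ Fin m → F, Q ((A : Matrix (Fin m ⊕ Fin m) (Fin m ⊕ Fin m) F).mulVec v) = Q v := by
  classical
  set S : Matrix (Fin m ⊕ Fin m) (Fin m ⊕ Fin m) F := (A : Matrix (Fin m ⊕ Fin m) (Fin m ⊕ Fin m) F) with hSdef
  have hS : S ∈ Matrix.symplecticGroup (Fin m) F := A.2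
  obtain ⟨a, ha⟩ := exists_defect_vector S hS
  obtain ⟨c, hc⟩ := exists_solution A (fun w hw => fixed_perp S ha w hw)
  let ℓ : (Fin m ⊕ Fin m → F) →ₗ[F] F := (sympB m F).flip c
  have hℓ : ∀ v, ℓ v = sympForm m F v c := fun v => sympB_apply v c
  refine ⟨stdPlus m F + QuadraticMap.linMulLin ℓ ℓ, ?_, ?_⟩
  · intro u v
    have h1 : polar ⇑(stdPlus m F + QuadraticMap.linMulLin ℓ ℓ) u v =
        polar ⇑(stdPlus m F) u v + polar ⇑(QuadraticMap.linMulLin ℓ ℓ) u v := by
      unfold polar
      simp only [_root_.add_apply]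
      ring
    rw [h1, coe_stdPlus, polar_plus_eq_symp]
    have h2 : polar ⇑(QuadraticMap.linMulLin ℓ ℓ) u v = 0 := by
      unfold polar
      simp only [QuadraticMap.linMulLin_apply, map_add]
      have : ℓ u * ℓ v + ℓ u * ℓ v = 0 := CharTwo.add_self_eq_zero _
      linear_combination this
    rw [h2, add_zero]
  · intro v
    simp only [_root_.add_apply, QuadraticMap.linMulLin_apply, hℓ, stdPlus_apply]
    have hc1 : c = S *ᵥ c - S *ᵥ a := by
      rw [← hc]
      abel
    have hneg : ∀ x : Fin m ⊕ Fin m → F, -x = x := fun x => by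
      funext i
      simp [CharTwo.neg_eq]
    have hc' : c = S *ᵥ (c + a) := by
      rw [Matrix.mulVec_add]
      conv_lhs => rw [hc1, sub_eq_add_neg, hneg]
    have h1 : sympForm m F (S *ᵥ v) c = sympForm m F v c + sympForm m F v a := by
      conv_lhs => rw [hc']
      rw [sp_preserves S hS, sf_add_right]
    rw [h1]
    have h2 := ha v
    unfold defect at h2
    have h3 : (sympForm m F v c + sympForm m F v a) * (sympForm m F v c + sympForm m F v a) =
        sympForm m F v c * sympForm m F v c + sympForm m F v a ^ 2 := by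
      rw [← pow_two, CharTwo.add_sq]
      ring
    rw [h3, ← h2]
    have : Cfsg.quadFormPlus m F (S *ᵥ v) + Cfsg.quadFormPlus m F (S *ᵥ v) = 0 :=
      CharTwo.add_self_eq_zero _
    linear_combination this

end Cfsg.Agent.S2585
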