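import Cfsg.Statements.S4623
import Cfsg.Agent.Lib.Helper23.SymSylow

set_option autoImplicit false
open Cfsg

namespace Cfsg.Agent.S4623

/-- For every prime p and every n, a Sylow p-subgroup P of the symmetric group on n letters has P/P' elementary abelian (the p-th power of every element of P lies in the derived subgroup of P), and the same holds for a Sylow p-subgroup of the alternating group on n letters. -/
theorem result (p : ℕ) [Fact p.Prime] (n : ℕ) (P : Sylow p (Equiv.Perm (Fin n))) (Q : Sylow p (alternatingGroup (Fin n))) :
    (∀ x : (P : Subgroup (Equiv.Perm (Fin n))), x ^ p ∈ commutator (P : Subgroup (Equiv.Perm (Fin n)))) ∧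
    (∀ x : (Q : Subgroup (alternatingGroup (Fin n))), x ^ p ∈ commutator (Q : Subgroup (alternatingGroup (Fin n)))) := by
  open Cfsg.Agent.Lib.Helper23.SymSylow in
  refine ⟨?_, ?_⟩
  · intro x
    obtain ⟨S, hS, h1, -⟩ := sylow_gen p P
    exact pow_mem_commutator_of_range p (P : Subgroup (Equiv.Perm (Fin n))).subtype
      (Subgroup.subtype_injective _) S (by rw [Subgroup.range_subtype]; exact hS) h1 x
  · intro x
    -- the image of Q in Perm (Fin n)
    have hQp : IsPGroup p ((Q : Subgroup (alternatingGroup (Fin n))).map
        (alternatingGroup (Fin n)).subtype) := Q.isPGroup'.map _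
    obtain ⟨P', hP'⟩ := hQp.exists_le_sylow
    have hQeq : (Q : Subgroup (alternatingGroup (Fin n))) =
        (P' : Subgroup (Equiv.Perm (Fin n))).subgroupOf (alternatingGroup (Fin n)) := by
      symm
      apply Q.is_maximal'
      · exact P'.isPGroup'.comap_of_injective _ (Subgroup.subtype_injective _)
      · exact Subgroup.map_le_iff_le_comap.mp hP'
    have hmap : (Q : Subgroup (alternatingGroup (Fin n))).map (alternatingGroup (Fin n)).subtype =
        (P' : Subgroup (Equiv.Perm (Fin n))) ⊓ alternatingGroup (Fin n) := by
      rw [hQeq, Subgroup.subgroupOf_map_subtype]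
    obtain ⟨S, hS, h1, h2⟩ := sylow_gen p P'
    obtain ⟨T, hT, hT1⟩ := alt_gen p S h1 h2
    refine pow_mem_commutator_of_range p
      ((alternatingGroup (Fin n)).subtype.comp (Q : Subgroup (alternatingGroup (Fin n))).subtype)
      ((Subgroup.subtype_injective _).comp (Subgroup.subtype_injective _)) T ?_ hT1 x
    rw [MonoidHom.range_comp, Subgroup.range_subtype, hmap, hS, hT]

end Cfsg.Agent.S4623
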