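import Mathlib
import Cfsg.Statements.S0871

set_option autoImplicit false
open Cfsg

namespace Cfsg.Agent.S0871

theorem count_preimage {K : Type*} [Group K] (P : Subgroup K) (t : Set (K ⧸ P)) :
    Nat.card {k : K // (k : K ⧸ P) ∈ t} = Nat.card P * Nat.card t := by
  rw [← Nat.card_prod]
  exact Nat.card_congr (QuotientGroup.preimageMkEquivSubgroupProdSet P t)

theorem extendByZero_one {G : Type*} [Group G] (H : Subgroup G) [DecidablePred (· ∈ H)] (g : G) :
    Cfsg.extendByZero H (fun _ => (1 : ℂ)) g = if g ∈ H then 1 else 0 := by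
  unfold Cfsg.extendByZero
  split_ifs with h
  · have := Function.Injective.extend_apply (f := (Subtype.val : H → G)) Subtype.val_injective
      (fun _ => (1 : ℂ)) 0 ⟨g, h⟩
    simpa using this
  · rw [Function.extend_apply']
    · rfl
    · rintro ⟨⟨a, ha⟩, rfl⟩
      exact h ha

theorem indFun_one {G : Type*} [Group G] [Fintype G] (H : Subgroup G) (x : G) :
    Cfsg.indFun H (fun _ => (1 : ℂ)) x
      = (Nat.card H : ℂ)⁻¹ * (Nat.card {g : G // g⁻¹ * x * g ∈ H} : ℂ) := by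
  classical
  unfold Cfsg.indFun
  congr 1
  simp_rw [extendByZero_one]
  rw [Finset.sum_boole]
  congr 1
  rw [Nat.card_eq_fintype_card, Fintype.card_subtype]

theorem result {G : Type*} [Group G] [Fintype G] (x : G) (p : ℕ) (hp : p.Prime) : ∃ H : Subgroup G, (∃ C : Subgroup G, C ≤ H ∧ H ≤ Subgroup.normalizer (C : Set G) ∧ IsCyclic C ∧ Nat.Coprime (Nat.card C) p ∧ ∃ k : ℕ, C.relIndex H = p ^ k) ∧ ∃ n : ℕ, Cfsg.indFun H (fun _ => 1) x = (n : ℂ) ∧ ¬ p ∣ n := by
  classical
  haveI : Fact p.Prime := ⟨hp⟩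
  have ho : orderOf x ≠ 0 := (orderOf_pos x).ne'
  obtain ⟨a, m, hm, hom⟩ := Nat.exists_eq_pow_mul_and_not_dvd ho p hp.ne_one
  set y := x ^ (p ^ a) with hy
  have hyo : orderOf y = m := by
    rw [hy, orderOf_pow, hom, Nat.gcd_eq_right (dvd_mul_right _ _)]
    exact Nat.mul_div_cancel_left m (pow_pos hp.pos a)
  have hmp : Nat.Coprime m p := ((Nat.Prime.coprime_iff_not_dvd hp).mpr hm).symm
  set C := Subgroup.zpowers y with hC
  set N := Subgroup.normalizer (C : Set G) with hN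
  have hCN : C ≤ N := Subgroup.le_normalizer
  have hCcard : Nat.card C = m := by rw [hC, Nat.card_zpowers, hyo]
  have hxN : x ∈ N := by
    apply Subgroup.mem_normalizer_fintype
    intro h hh
    obtain ⟨k, rfl⟩ := Subgroup.mem_zpowers_iff.mp hh
    have hc : Commute x (y ^ k) := ((Commute.refl x).pow_right _).zpow_right k
    rw [hc.eq, mul_inv_cancel_right]
    exact hh
  set Cn : Subgroup N := C.subgroupOf N with hCn
  haveI hCnN : Cn.Normal := Subgroup.normal_in_normalizer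
  set π : N →* N ⧸ Cn := QuotientGroup.mk' Cn with hπ
  set xN : N := ⟨x, hxN⟩ with hxNdef
  -- the image of x is a p-element
  have hxbar : (π xN) ^ (p ^ a) = 1 := by
    rw [← map_pow, hπ, QuotientGroup.mk'_apply, QuotientGroup.eq_one_iff, hCn,
      Subgroup.mem_subgroupOf]
    show x ^ (p ^ a) ∈ C
    exact Subgroup.mem_zpowers y
  have hZp : IsPGroup p (Subgroup.zpowers (π xN)) := by
    obtain ⟨j, -, hj⟩ := (Nat.dvd_prime_pow hp).mp (orderOf_dvd_of_pow_eq_one hxbar)
    exact IsPGroup.of_card ((Nat.card_zpowers _).trans hj)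
  obtain ⟨P, hP⟩ := hZp.exists_le_sylow
  set Hn : Subgroup N := (P : Subgroup (N ⧸ Cn)).comap π with hHn
  set H : Subgroup G := Hn.map N.subtype with hH
  have memH : ∀ g : G, g ∈ H ↔ ∃ hg : g ∈ N, π ⟨g, hg⟩ ∈ (P : Subgroup (N ⧸ Cn)) := by
    intro g
    rw [hH, Subgroup.mem_map]
    constructor
    · rintro ⟨⟨g', hg'⟩, h1, rfl⟩
      exact ⟨hg', h1⟩
    · rintro ⟨hg, h1⟩
      exact ⟨⟨g, hg⟩, h1, rfl⟩
  have hCH : C ≤ H := by
    intro c hc
    rw [memH]
    refine ⟨hCN hc, ?_⟩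
    have : π ⟨c, hCN hc⟩ = 1 := by
      rw [hπ, QuotientGroup.mk'_apply, QuotientGroup.eq_one_iff, hCn, Subgroup.mem_subgroupOf]
      exact hc
    rw [this]; exact one_mem _
  have hHN : H ≤ N := by
    intro g hg
    obtain ⟨hg', -⟩ := (memH g).mp hg
    exact hg'
  -- cardinalities
  have hCncard : Nat.card Cn = Nat.card C := by
    rw [hCn]
    exact Nat.card_congr (Subgroup.subgroupOfEquivOfLe hCN).toEquiv
  have hHncard : Nat.card Hn = Nat.card Cn * Nat.card (P : Subgroup (N ⧸ Cn)) := by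
    have := count_preimage Cn ((P : Subgroup (N ⧸ Cn)) : Set (N ⧸ Cn))
    exact this
  have hHcard : Nat.card H = Nat.card C * Nat.card (P : Subgroup (N ⧸ Cn)) := by
    rw [← hCncard, ← hHncard, hH]
    exact Nat.card_congr (Subgroup.equivMapOfInjective Hn N.subtype N.subtype_injective).symm.toEquiv
  obtain ⟨k, hk⟩ := IsPGroup.iff_card.mp P.isPGroup'
  have hrel : C.relIndex H = p ^ k := by
    have h1 := Subgroup.relIndex_mul_relIndex (⊥ : Subgroup G) C H bot_le hCH
    rw [Subgroup.relIndex_bot_left, Subgroup.relIndex_bot_left, hHcard, hk] at h1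
    have hCpos : 0 < Nat.card C := Nat.card_pos
    exact Nat.eq_of_mul_eq_mul_left hCpos h1
  -- conjugates landing in H come from N
  have hTN : ∀ g : G, g⁻¹ * x * g ∈ H → g ∈ N := by
    intro g hg
    have hconj : ∀ (b : G) (n : ℕ), (g⁻¹ * b * g) ^ n = g⁻¹ * b ^ n * g := by
      intro b n
      have := map_pow (MulAut.conj g⁻¹) b n
      simpa [MulAut.conj_apply] using this.symm
    have hconjz : ∀ (b : G) (n : ℤ), (g⁻¹ * b * g) ^ n = g⁻¹ * b ^ n * g := by
      intro b n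
      have := map_zpow (MulAut.conj g⁻¹) b n
      simpa [MulAut.conj_apply] using this.symm
    set u := g⁻¹ * y * g with hu
    have huH : u ∈ H := by
      rw [hu, hy, ← hconj]
      exact pow_mem hg _
    obtain ⟨huN, huP⟩ := (memH u).mp huH
    have hum : u ^ m = 1 := by
      rw [hu, hconj, ← hyo, pow_orderOf_eq_one]; group
    have h1 : (π ⟨u, huN⟩) ^ m = 1 := by
      rw [← map_pow]
      have : (⟨u, huN⟩ : N) ^ m = 1 := by
        apply Subtype.ext
        simpa using hum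
      rw [this, map_one]
    obtain ⟨j, hj⟩ := P.isPGroup' ⟨π ⟨u, huN⟩, huP⟩
    have h2 : (π ⟨u, huN⟩) ^ (p ^ j) = 1 := by
      have := congrArg Subtype.val hj
      simpa using this
    have h3 : π ⟨u, huN⟩ = 1 := by
      have d1 := orderOf_dvd_of_pow_eq_one h1
      have d2 := orderOf_dvd_of_pow_eq_one h2
      have hc : Nat.Coprime m (p ^ j) := Nat.Coprime.pow_right j hmp
      have := Nat.eq_one_of_dvd_coprimes hc d1 d2
      exact orderOf_eq_one_iff.mp this
    have huC : u ∈ C := by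
      rw [hπ, QuotientGroup.mk'_apply, QuotientGroup.eq_one_iff, hCn, Subgroup.mem_subgroupOf] at h3
      exact h3
    have hginv : g⁻¹ ∈ N := by
      apply Subgroup.mem_normalizer_fintype
      intro n hn
      obtain ⟨k, rfl⟩ := Subgroup.mem_zpowers_iff.mp hn
      rw [inv_inv, ← hconjz]
      exact zpow_mem huC k
    exact (inv_mem_iff (H := N)).mp hginv
  -- the fixed points
  set Q := N ⧸ Cn with hQ
  set Pq : Subgroup Q := (P : Subgroup Q) with hPq
  set Fix : Set (Q ⧸ Pq) := MulAction.fixedPoints (Subgroup.zpowers (π xN)) (Q ⧸ Pq) with hFixdef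
  have hmod := hZp.card_modEq_card_fixedPoints (Q ⧸ Pq)
  have hFix : ¬ p ∣ Nat.card Fix := by
    intro hdvd
    have h1 : p ∣ Nat.card (Q ⧸ Pq) := by
      rw [Nat.dvd_iff_mod_eq_zero] at hdvd ⊢
      rw [hmod, hdvd]
    exact P.not_dvd_index h1
  have memFix : ∀ q : Q, ((q : Q ⧸ Pq) ∈ Fix) ↔ q⁻¹ * π xN * q ∈ Pq := by
    intro q
    have hbase : (π xN • (q : Q ⧸ Pq) = (q : Q ⧸ Pq)) ↔ q⁻¹ * π xN * q ∈ Pq := by
      rw [MulAction.Quotient.smul_mk, QuotientGroup.eq, smul_eq_mul]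
      rw [← inv_mem_iff (H := Pq)]
      have : ((π xN * q)⁻¹ * q)⁻¹ = q⁻¹ * π xN * q := by group
      rw [this]
    rw [← hbase, hFixdef, MulAction.mem_fixedPoints]
    constructor
    · intro h
      exact h ⟨π xN, Subgroup.mem_zpowers _⟩
    · intro h
      have hle : Subgroup.zpowers (π xN) ≤ MulAction.stabilizer Q (q : Q ⧸ Pq) := by
        rw [Subgroup.zpowers_le]
        exact h
      rintro ⟨z, hz⟩
      exact hle hz
  have hT : Nat.card {g : G // g⁻¹ * x * g ∈ H}
      = Nat.card Cn * (Nat.card Pq * Nat.card Fix) := by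
    have e1 := count_preimage Pq Fix
    have e2 := count_preimage Cn {q : Q | (q : Q ⧸ Pq) ∈ Fix}
    have e3 : Nat.card Cn * (Nat.card Pq * Nat.card Fix)
        = Nat.card {k : N // ((k : N ⧸ Cn)) ∈ {q : Q | (q : Q ⧸ Pq) ∈ Fix}} := by
      rw [e2, ← e1]; rfl
    rw [e3]
    refine Nat.card_congr ?_
    refine
      { toFun := fun g => ⟨⟨g.1, hTN g.1 g.2⟩, ?_⟩
        invFun := fun n => ⟨n.1.1, ?_⟩
        left_inv := fun g => rfl
        right_inv := fun n => rfl }
    · show ((⟨g.1, hTN g.1 g.2⟩ : N) : Q) ∈ {q : Q | (q : Q ⧸ Pq) ∈ Fix}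
      rw [Set.mem_setOf_eq, memFix]
      obtain ⟨h1, h2⟩ := (memH _).mp g.2
      have : π ⟨g.1⁻¹ * x * g.1, h1⟩ = ((⟨g.1, hTN g.1 g.2⟩ : N) : Q)⁻¹ * π xN * ((⟨g.1, hTN g.1 g.2⟩ : N) : Q) := by
        rw [hπ]
        simp only [QuotientGroup.mk'_apply]
        rw [← QuotientGroup.mk_inv, ← QuotientGroup.mk_mul, ← QuotientGroup.mk_mul]
        rfl
      rw [← this]
      exact h2
    · have hn := n.2
      rw [Set.mem_setOf_eq, memFix] at hn
      rw [memH]
      have hmemN : n.1.1⁻¹ * x * n.1.1 ∈ N := N.mul_mem (N.mul_mem (N.inv_mem n.1.2) hxN) n.1.2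
      refine ⟨hmemN, ?_⟩
      have : π ⟨n.1.1⁻¹ * x * n.1.1, hmemN⟩ = ((n.1 : N) : Q)⁻¹ * π xN * ((n.1 : N) : Q) := by
        rw [hπ]
        simp only [QuotientGroup.mk'_apply]
        rw [← QuotientGroup.mk_inv, ← QuotientGroup.mk_mul, ← QuotientGroup.mk_mul]
        rfl
      rw [this]
      exact hn
  refine ⟨H, ⟨C, hCH, hHN, ?_, ?_, k, hrel⟩, Nat.card Fix, ?_, hFix⟩
  · rw [hC]; infer_instance
  · rw [hCcard]; exact hmp
  · rw [indFun_one, hT, hHcard, hCncard]
    have h1 : (Nat.card C : ℂ) ≠ 0 := by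
      have : 0 < Nat.card C := Nat.card_pos
      exact_mod_cast this.ne'
    have h2 : (Nat.card Pq : ℂ) ≠ 0 := by
      have : 0 < Nat.card Pq := Nat.card_pos
      exact_mod_cast this.ne'
    push_cast
    field_simp
    rfl

end Cfsg.Agent.S0871
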