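import Cfsg.Statements.S2623
import Mathlib
import Cfsg.Agent.Lib.Helper19.QuadDisc

set_option autoImplicit false
open Cfsg

namespace Cfsg.Agent.S2623

open Cfsg.Agent.Lib.Helper19.QuadWitt QuadraticMap
open scoped Matrix

section aux

variable {F : Type*} [Field F] [Fintype F]

lemma isSquare_mul_of_not {a b : F} (ha : ¬ IsSquare a) (hb : ¬ IsSquare b) : IsSquare (a * b) := by
  classical
  have ha0 : a ≠ 0 := by
    rintro rfl
    exact ha (IsSquare.zero)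
  have hb0 : b ≠ 0 := by
    rintro rfl
    exact hb (IsSquare.zero)
  rw [← quadraticChar_one_iff_isSquare (mul_ne_zero ha0 hb0), map_mul,
    quadraticChar_neg_one_iff_not_isSquare.2 ha, quadraticChar_neg_one_iff_not_isSquare.2 hb]
  norm_num

lemma not_isSquare_disc (h2 : (2 : F) ≠ 0) {ζ : F} (hζ : ∀ t : F, t ^ 2 + t + ζ ≠ 0) :
    ¬ IsSquare (1 - 4 * ζ) := by
  rintro ⟨r, hr⟩
  apply hζ ((-1 + r) / 2)
  field_simp
  linear_combination (-1 : F) * hr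

lemma isSquare_of_sq_mul {u a : F} (hu : u ≠ 0) (h : IsSquare (u ^ 2 * a)) : IsSquare a := by
  obtain ⟨r, hr⟩ := h
  refine ⟨r / u, ?_⟩
  field_simp
  linear_combination hr

end aux

section iso

variable {F V : Type*} [Field F] [AddCommGroup V] [Module F V] [FiniteDimensional F V]
  {Q Q' : QuadraticForm F V}

lemma iso_of_families (hQ : (polarBilin Q).Nondegenerate) {ι : Type*} [Fintype ι] [DecidableEq ι]
    (b₁ : Module.Basis ι F V) (t : ι → V)
    (hval : ∀ r : ι → F, Q' (∑ s, r s • t s) = Q (∑ s, r s • b₁ s)) :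
    ∃ g : V ≃ₗ[F] V, ∀ v, Q' (g v) = Q v := by
  let g := b₁.constr F t
  have hg : ∀ v, Q' (g v) = 1 * Q v := by
    intro v
    rw [one_mul]
    show Q' (b₁.constr F t v) = _
    rw [Module.Basis.constr_apply_fintype]
    simp only [Module.Basis.equivFun_apply]
    rw [hval, b₁.sum_repr]
  exact ⟨similarityEquiv hQ g one_ne_zero hg rfl, fun v => by
    rw [similarityEquiv_apply, hg, one_mul]⟩

lemma linearIndependent_of_gram_det_ne_zero {ι : Type*} [Fintype ι] [DecidableEq ι] (v : ι → V)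
    (hdet : (gram Q v).det ≠ 0) : LinearIndependent F v := by
  rw [Fintype.linearIndependent_iff]
  intro c hc
  have h1 : c ᵥ* gram Q v = 0 := by
    funext s'
    simp only [Matrix.vecMul, dotProduct, gram_apply, Pi.zero_apply]
    have := congrArg (fun w => polar ⇑Q w (v s')) hc
    simp only [polar_sum_left, polar_smul_left, smul_eq_mul, polar_zero_left] at this
    exact this
  have := Matrix.eq_zero_of_vecMul_eq_zero hdet h1
  intro i
  exact congrFun this i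

lemma IsHyp.init {k : ℕ} {e f : Fin (k + 1) → V} (h : IsHyp Q e f) :
    IsHyp Q (fun i => e (Fin.castSucc i)) (fun i => f (Fin.castSucc i)) :=
  ⟨fun i => h.Qe _, fun i => h.Qf _, fun i j => by
    rw [h.ef]
    simp [Fin.castSucc_inj], fun i j => h.ee _ _, fun i j => h.ff _ _⟩

lemma IsHyp.last_mem {k : ℕ} {e f : Fin (k + 1) → V} (h : IsHyp Q e f) :
    e (Fin.last k) ∈ perp Q (fun i => e (Fin.castSucc i)) (fun i => f (Fin.castSucc i)) ∧
    f (Fin.last k) ∈ perp Q (fun i => e (Fin.castSucc i)) (fun i => f (Fin.castSucc i)) := by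
  constructor
  · intro i
    refine ⟨h.ee _ _, ?_⟩
    rw [polar_comm, h.ef, if_neg (Fin.castSucc_lt_last i).ne']
  · intro i
    refine ⟨?_, h.ff _ _⟩
    rw [h.ef, if_neg (Fin.castSucc_lt_last i).ne]

end iso


section families

variable {F V : Type*} [Field F] [AddCommGroup V] [Module F V] {Q : QuadraticForm F V}

lemma Q_family_hyp {k : ℕ} {e f : Fin k → V} (h : IsHyp Q e f) (r : Fin k ⊕ Fin k → F) :
    Q (∑ s, r s • Sum.elim e f s) = ∑ i, r (Sum.inl i) * r (Sum.inr i) := by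
  rw [Fintype.sum_sum_type]
  simp only [Sum.elim_inl, Sum.elim_inr]
  have := hyp_Q h (fun i => r (Sum.inl i)) (fun i => r (Sum.inr i)) (Submodule.zero_mem _)
  rw [add_zero, QuadraticMap.map_zero, add_zero] at this
  exact this

lemma Q_family_pairs {k : ℕ} {e f : Fin k → V} (h : IsHyp Q e f) {x y : V}
    (hx : x ∈ perp Q e f) (hy : y ∈ perp Q e f) (r : (Fin k ⊕ Fin k) ⊕ Fin 2 → F) :
    Q (∑ s, r s • Sum.elim (Sum.elim e f) ![x, y] s) =
      ∑ i, r (Sum.inl (Sum.inl i)) * r (Sum.inl (Sum.inr i)) +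
        (r (Sum.inr 0) ^ 2 * Q x + r (Sum.inr 1) ^ 2 * Q y +
          r (Sum.inr 0) * r (Sum.inr 1) * polar ⇑Q x y) := by
  rw [Fintype.sum_sum_type, Fintype.sum_sum_type, Fin.sum_univ_two]
  simp only [Sum.elim_inl, Sum.elim_inr, Matrix.cons_val_zero, Matrix.cons_val_one]
  rw [hyp_Q h (fun i => r (Sum.inl (Sum.inl i))) (fun i => r (Sum.inl (Sum.inr i)))
    (Submodule.add_mem _ (Submodule.smul_mem _ _ hx) (Submodule.smul_mem _ _ hy)), Q_lin2]

lemma Q_family_odd {k : ℕ} {e f : Fin k → V} (h : IsHyp Q e f) {x : V}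
    (hx : x ∈ perp Q e f) (r : Unit ⊕ (Fin k ⊕ Fin k) → F) :
    Q (∑ s, r s • Sum.elim (fun _ : Unit => x) (Sum.elim e f) s) =
      ∑ i, r (Sum.inr (Sum.inl i)) * r (Sum.inr (Sum.inr i)) + r (Sum.inl ()) ^ 2 * Q x := by
  rw [Fintype.sum_sum_type, Fintype.sum_sum_type]
  simp only [Sum.elim_inl, Sum.elim_inr, Finset.univ_unique, Finset.sum_singleton]
  rw [add_comm, hyp_Q h (fun i => r (Sum.inr (Sum.inl i))) (fun i => r (Sum.inr (Sum.inr i)))
    (Submodule.smul_mem _ _ hx), QuadraticMap.map_smul]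
  simp only [smul_eq_mul]
  congr 1
  ring

end families

section dets

variable {F V : Type*} [Field F] [Finite F] [AddCommGroup V] [Module F V] [FiniteDimensional F V]
  {Q : QuadraticForm F V}

lemma det_of_hyp {k : ℕ} (hV : Module.finrank F V = 2 * (k + 1)) {e f : Fin (k + 1) → V}
    (h : IsHyp Q e f) {ι₀ : Type*} [Fintype ι₀] [DecidableEq ι₀] (b₀ : Module.Basis ι₀ F V) :
    ∃ u : F, u ≠ 0 ∧ (gram Q b₀).det = u ^ 2 * ((Jp k F).det * (-1)) := by
  classical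
  have hi := IsHyp.init h
  obtain ⟨hx, hy⟩ := IsHyp.last_mem h
  have hd := det_gram_pairs hi hx hy
  rw [h.Qe, h.Qf, h.ef, if_pos rfl] at hd
  have hd' : (gram Q (Sum.elim (Sum.elim (fun i => e (Fin.castSucc i))
      (fun i => f (Fin.castSucc i))) ![e (Fin.last k), f (Fin.last k)])).det =
      (Jp k F).det * (-1) := by
    rw [hd]
    ring
  have hne : (Jp k F).det * (-1) ≠ 0 :=
    mul_ne_zero (det_Jp_ne_zero k) (neg_ne_zero.2 one_ne_zero)
  have hli := linearIndependent_of_gram_det_ne_zero (Q := Q) _ (by rw [hd']; exact hne)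
  let b₁ := basisOfLinearIndependentOfCardEqFinrank hli (by rw [hV]; simp; ring)
  have hb₁ : ⇑b₁ = _ := coe_basisOfLinearIndependentOfCardEqFinrank _ _
  obtain ⟨u, hu, hdet⟩ := gram_det_change Q b₀ b₁
  rw [hb₁, hd'] at hdet
  exact ⟨u, hu, hdet⟩

lemma det_of_ell {k : ℕ} (hV : Module.finrank F V = 2 * (k + 1)) {e f : Fin k → V}
    (h : IsHyp Q e f) {x y : V} (hx : x ∈ perp Q e f) (hy : y ∈ perp Q e f) (hQx : Q x = 1)
    (hxy : polar ⇑Q x y = 1) (hζ : ∀ t : F, t ^ 2 + t + Q y ≠ 0)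
    {ι₀ : Type*} [Fintype ι₀] [DecidableEq ι₀] (b₀ : Module.Basis ι₀ F V) :
    ∃ u : F, u ≠ 0 ∧ (gram Q b₀).det = u ^ 2 * ((Jp k F).det * (4 * Q y - 1)) := by
  classical
  have hd := det_gram_pairs h hx hy
  rw [hQx, hxy] at hd
  have hli := elliptic_linearIndependent h hx hy hQx hxy hζ
  let b₁ := basisOfLinearIndependentOfCardEqFinrank hli (by rw [hV]; simp; ring)
  have hb₁ : ⇑b₁ = _ := coe_basisOfLinearIndependentOfCardEqFinrank _ _
  obtain ⟨u, hu, hdet⟩ := gram_det_change Q b₀ b₁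
  rw [hb₁, hd] at hdet
  refine ⟨u, hu, ?_⟩
  rw [hdet]
  ring

lemma det_of_odd {m : ℕ} (hV : Module.finrank F V = 2 * m + 1) {e f : Fin m → V}
    (h : IsHyp Q e f) {x : V} (hx : x ∈ perp Q e f) (hQx : Q x ≠ 0)
    {ι₀ : Type*} [Fintype ι₀] [DecidableEq ι₀] (b₀ : Module.Basis ι₀ F V) :
    ∃ u : F, u ≠ 0 ∧ (gram Q b₀).det = u ^ 2 * (2 * Q x * (Jp m F).det) := by
  classical
  have hx0 : x ≠ 0 := by
    rintro rfl
    exact hQx (QuadraticMap.map_zero Q)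
  have hli := odd_linearIndependent h hx hx0
  let b₁ := basisOfLinearIndependentOfCardEqFinrank hli (by rw [hV]; simp; ring)
  have hb₁ : ⇑b₁ = _ := coe_basisOfLinearIndependentOfCardEqFinrank _ _
  obtain ⟨u, hu, hdet⟩ := gram_det_change Q b₀ b₁
  rw [hb₁, det_gram_odd h hx] at hdet
  exact ⟨u, hu, hdet⟩

end dets


section main

variable {F : Type*} [Field F] [Fintype F] {n : ℕ}

lemma gram_std (Q : QuadraticForm F (Fin n → F)) :
    Matrix.of (fun i j : Fin n => polar ⇑Q (Pi.single i 1) (Pi.single j 1)) =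
      gram Q (Pi.basisFun F (Fin n)) := by
  ext i j
  simp [gram, Pi.basisFun_apply]

lemma forward (Q₁ Q₂ : QuadraticForm F (Fin n → F)) (g : (Fin n → F) ≃ₗ[F] (Fin n → F))
    (hg : ∀ v, Q₂ (g v) = Q₁ v) :
    IsSquare ((gram Q₁ (Pi.basisFun F (Fin n))).det * (gram Q₂ (Pi.basisFun F (Fin n))).det) := by
  let b₀ := Pi.basisFun F (Fin n)
  let b₀' := b₀.map g
  have h1 : gram Q₂ b₀' = gram Q₁ b₀ := by
    ext i j
    simp only [gram_apply, b₀', Module.Basis.map_apply]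
    unfold polar
    rw [← map_add, hg, hg, hg]
  obtain ⟨u, hu, hdet⟩ := gram_det_change Q₂ b₀' b₀
  rw [h1] at hdet
  refine ⟨u * (gram Q₂ b₀).det, ?_⟩
  rw [hdet]
  ring

lemma backward_even (h2 : (2 : F) ≠ 0) {m : ℕ} (hn : n = 2 * m)
    (Q₁ Q₂ : QuadraticForm F (Fin n → F)) (h₁ : (polarBilin Q₁).Nondegenerate)
    (h₂ : (polarBilin Q₂).Nondegenerate)
    (hsq : IsSquare ((gram Q₁ (Pi.basisFun F (Fin n))).det *
      (gram Q₂ (Pi.basisFun F (Fin n))).det)) :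
    ∃ g : (Fin n → F) ≃ₗ[F] (Fin n → F), ∀ v, Q₂ (g v) = Q₁ v := by
  classical
  have hV : Module.finrank F (Fin n → F) = 2 * m := by
    rw [Module.finrank_fin_fun, hn]
  rcases Nat.eq_zero_or_pos m with hm0 | hmpos
  · subst hm0
    have hn0 : n = 0 := by omega
    subst hn0
    refine ⟨LinearEquiv.refl _ _, fun v => ?_⟩
    have hv : v = 0 := Subsingleton.elim _ _
    rw [hv, map_zero, QuadraticMap.map_zero, QuadraticMap.map_zero]
  rcases even_structure (Q := Q₁) h₁ hV with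
    ⟨e₁, f₁, hh₁⟩ | ⟨k₁, hk₁, e₁, f₁, x₁, y₁, hh₁, hx₁, hy₁, hQx₁, hxy₁, hζ₁⟩ <;>
  rcases even_structure (Q := Q₂) h₂ hV with
    ⟨e₂, f₂, hh₂⟩ | ⟨k₂, hk₂, e₂, f₂, x₂, y₂, hh₂, hx₂, hy₂, hQx₂, hxy₂, hζ₂⟩
  · -- hyp / hyp
    haveI : Nonempty (Fin m ⊕ Fin m) := ⟨Sum.inl ⟨0, hmpos⟩⟩
    let b₁ := basisOfLinearIndependentOfCardEqFinrank hh₁.linearIndependent
      (by rw [hV]; simp; ring)
    have hb₁ : ⇑b₁ = Sum.elim e₁ f₁ := coe_basisOfLinearIndependentOfCardEqFinrank _ _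
    exact iso_of_families h₁ b₁ (Sum.elim e₂ f₂) (fun r => by
      rw [hb₁, Q_family_hyp hh₂, Q_family_hyp hh₁])
  · -- hyp / ell : impossible
    exfalso
    subst hk₂
    obtain ⟨u₁, hu₁, hd₁⟩ := det_of_hyp hV hh₁ (Pi.basisFun F (Fin n))
    obtain ⟨u₂, hu₂, hd₂⟩ := det_of_ell hV hh₂ hx₂ hy₂ hQx₂ hxy₂ hζ₂ (Pi.basisFun F (Fin n))
    rw [hd₁, hd₂] at hsq
    have : IsSquare ((u₁ * u₂ * (Jp k₂ F).det) ^ 2 * (1 - 4 * Q₂ y₂)) := by
      convert hsq using 1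
      ring
    exact not_isSquare_disc h2 hζ₂ (isSquare_of_sq_mul
      (mul_ne_zero (mul_ne_zero hu₁ hu₂) (det_Jp_ne_zero k₂)) this)
  · -- ell / hyp : impossible
    exfalso
    subst hk₁
    obtain ⟨u₁, hu₁, hd₁⟩ := det_of_ell hV hh₁ hx₁ hy₁ hQx₁ hxy₁ hζ₁ (Pi.basisFun F (Fin n))
    obtain ⟨u₂, hu₂, hd₂⟩ := det_of_hyp hV hh₂ (Pi.basisFun F (Fin n))
    rw [hd₁, hd₂] at hsq
    have : IsSquare ((u₁ * u₂ * (Jp k₁ F).det) ^ 2 * (1 - 4 * Q₁ y₁)) := by
      convert hsq using 1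
      ring
    exact not_isSquare_disc h2 hζ₁ (isSquare_of_sq_mul
      (mul_ne_zero (mul_ne_zero hu₁ hu₂) (det_Jp_ne_zero k₁)) this)
  · -- ell / ell
    have hkk : k₁ = k₂ := by omega
    subst hkk
    have hD₁ := not_isSquare_disc h2 hζ₁
    have hD₂ := not_isSquare_disc h2 hζ₂
    obtain ⟨σ, hσ⟩ := isSquare_mul_of_not hD₁ hD₂
    have hD₂0 : (1 - 4 * Q₂ y₂) ≠ 0 := by
      intro h0
      apply hD₂
      rw [h0]
      exact IsSquare.zero
    set ρ := σ / (1 - 4 * Q₂ y₂) with hρdef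
    have hρ : ρ ^ 2 * (1 - 4 * Q₂ y₂) = 1 - 4 * Q₁ y₁ := by
      rw [hρdef]
      field_simp
      linear_combination (-1 : F) * hσ
    have hy₂' : ((1 + ρ) / 2) • x₂ + (-ρ) • y₂ ∈ perp Q₂ e₂ f₂ :=
      Submodule.add_mem _ (Submodule.smul_mem _ _ hx₂) (Submodule.smul_mem _ _ hy₂)
    have hxy₂' : polar ⇑Q₂ x₂ (((1 + ρ) / 2) • x₂ + (-ρ) • y₂) = 1 := by
      rw [polar_add_right, polar_smul_right, polar_smul_right, polar_self, hQx₂, hxy₂]
      simp only [smul_eq_mul, nsmul_eq_mul, Nat.cast_ofNat, mul_one]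
      field_simp
      ring
    have hQy₂' : Q₂ (((1 + ρ) / 2) • x₂ + (-ρ) • y₂) = Q₁ y₁ := by
      rw [Q_lin2, hQx₂, hxy₂]
      field_simp
      linear_combination (-1 : F) * hρ
    have hζ₂' : ∀ t : F, t ^ 2 + t + Q₂ (((1 + ρ) / 2) • x₂ + (-ρ) • y₂) ≠ 0 := by
      rw [hQy₂']
      exact hζ₁
    let b₁ := basisOfLinearIndependentOfCardEqFinrank
      (elliptic_linearIndependent hh₁ hx₁ hy₁ hQx₁ hxy₁ hζ₁) (by rw [hV]; simp; omega)
    have hb₁ : ⇑b₁ = Sum.elim (Sum.elim e₁ f₁) ![x₁, y₁] :=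
      coe_basisOfLinearIndependentOfCardEqFinrank _ _
    exact iso_of_families h₁ b₁
      (Sum.elim (Sum.elim e₂ f₂) ![x₂, ((1 + ρ) / 2) • x₂ + (-ρ) • y₂]) (fun r => by
        rw [hb₁, Q_family_pairs hh₂ hx₂ hy₂', Q_family_pairs hh₁ hx₁ hy₁, hQx₂, hQy₂', hxy₂',
          hQx₁, hxy₁])

lemma backward_odd (h2 : (2 : F) ≠ 0) {m : ℕ} (hn : n = 2 * m + 1)
    (Q₁ Q₂ : QuadraticForm F (Fin n → F)) (h₁ : (polarBilin Q₁).Nondegenerate)
    (h₂ : (polarBilin Q₂).Nondegenerate)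
    (hsq : IsSquare ((gram Q₁ (Pi.basisFun F (Fin n))).det *
      (gram Q₂ (Pi.basisFun F (Fin n))).det)) :
    ∃ g : (Fin n → F) ≃ₗ[F] (Fin n → F), ∀ v, Q₂ (g v) = Q₁ v := by
  classical
  have hV : Module.finrank F (Fin n → F) = 2 * m + 1 := by
    rw [Module.finrank_fin_fun, hn]
  obtain ⟨e₁, f₁, x₁, hh₁, hx₁, hQx₁⟩ := odd_structure (Q := Q₁) h₁ hV
  obtain ⟨e₂, f₂, x₂, hh₂, hx₂, hQx₂⟩ := odd_structure (Q := Q₂) h₂ hV
  obtain ⟨u₁, hu₁, hd₁⟩ := det_of_odd hV hh₁ hx₁ hQx₁ (Pi.basisFun F (Fin n))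
  obtain ⟨u₂, hu₂, hd₂⟩ := det_of_odd hV hh₂ hx₂ hQx₂ (Pi.basisFun F (Fin n))
  rw [hd₁, hd₂] at hsq
  have hsq' : IsSquare ((u₁ * u₂ * 2 * (Jp m F).det) ^ 2 * (Q₁ x₁ * Q₂ x₂)) := by
    convert hsq using 1
    ring
  obtain ⟨s, hs⟩ := isSquare_of_sq_mul
    (mul_ne_zero (mul_ne_zero (mul_ne_zero hu₁ hu₂) h2) (det_Jp_ne_zero m)) hsq'
  have hs0 : s ≠ 0 := by
    rintro rfl
    rw [mul_zero] at hs
    exact mul_ne_zero hQx₁ hQx₂ hs
  have hx₁0 : x₁ ≠ 0 := by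
    rintro rfl
    exact hQx₁ (QuadraticMap.map_zero Q₁)
  let b₁ := basisOfLinearIndependentOfCardEqFinrank (odd_linearIndependent hh₁ hx₁ hx₁0)
    (by rw [hV]; simp; ring)
  have hb₁ : ⇑b₁ = Sum.elim (fun _ : Unit => x₁) (Sum.elim e₁ f₁) :=
    coe_basisOfLinearIndependentOfCardEqFinrank _ _
  have hQ' : Q₂ ((Q₁ x₁ / s) • x₂) = Q₁ x₁ := by
    rw [QuadraticMap.map_smul, smul_eq_mul]
    field_simp
    linear_combination hs
  exact iso_of_families h₁ b₁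
    (Sum.elim (fun _ : Unit => (Q₁ x₁ / s) • x₂) (Sum.elim e₂ f₂)) (fun r => by
      rw [hb₁, Q_family_odd hh₂ (Submodule.smul_mem _ _ hx₂), Q_family_odd hh₁ hx₁, hQ'])

end main

/-- Over a finite field of odd order, two quadratic forms on F^n with non-degenerate polar forms are isometric (related by an invertible linear change of variables) if and only if their discriminants (determinants of the Gram matrices of their polar forms) lie in the same square class. -/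
theorem result {F : Type*} [Field F] [Fintype F] (h2 : (2 : F) ≠ 0) {n : ℕ} (Q₁ Q₂ : QuadraticForm F (Fin n → F)) (h₁ : (QuadraticMap.polarBilin Q₁).Nondegenerate) (h₂ : (QuadraticMap.polarBilin Q₂).Nondegenerate) : (∃ g : (Fin n → F) ≃ₗ[F] (Fin n → F), ∀ v, Q₂ (g v) = Q₁ v) ↔ IsSquare ((Matrix.of (fun i j : Fin n => QuadraticMap.polar ⇑Q₁ (Pi.single i 1) (Pi.single j 1))).det * (Matrix.of (fun i j : Fin n => QuadraticMap.polar ⇑Q₂ (Pi.single i 1) (Pi.single j 1))).det) := by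
  rw [gram_std, gram_std]
  constructor
  · rintro ⟨g, hg⟩
    exact forward Q₁ Q₂ g hg
  · intro hsq
    rcases Nat.even_or_odd' n with ⟨m, hm | hm⟩
    · exact backward_even h2 hm Q₁ Q₂ h₁ h₂ hsq
    · exact backward_odd h2 hm Q₁ Q₂ h₁ h₂ hsq

end Cfsg.Agent.S2623
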