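import Cfsg.Statements.S0751
import Mathlib

set_option autoImplicit false
open Cfsg

namespace Cfsg.Agent.S0751

variable {F V : Type*} [Field F] [AddCommGroup V] [Module F V]

section
variable (σ : F →+* F) (B : V →ₛₗ[σ] V →ₗ[F] F)

theorem B_smul_left (a : F) (x y : V) : B (a • x) y = σ a * B x y := by
  rw [map_smulₛₗ, LinearMap.smul_apply, smul_eq_mul]

theorem B_smul_right (a : F) (x y : V) : B x (a • y) = a * B x y := by
  rw [map_smul, smul_eq_mul]

theorem B_add_left (x x' y : V) : B (x + x') y = B x y + B x' y := by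
  rw [map_add, LinearMap.add_apply]

theorem B_sub_left (x x' y : V) : B (x - x') y = B x y - B x' y := by
  rw [map_sub, LinearMap.sub_apply]

/-- The quasi-reflection / transvection `z ↦ z + c B(u, z) u`. -/
def tH (u : V) (c : F) (hc : c + σ c + c * σ c * B u u = 0) :
    V ≃ₗ[F] V where
  toFun z := z + (c * B u z) • u
  map_add' := by
    intro z z'
    rw [map_add]
    module
  map_smul' := by
    intro a z
    rw [map_smul, RingHom.id_apply, smul_eq_mul]
    module
  invFun z := z + (σ c * B u z) • u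
  left_inv := by
    intro z
    simp only
    rw [map_add, map_smul, smul_eq_mul, add_assoc, ← add_smul]
    have : c * B u z + σ c * (B u z + c * B u z * B u u) =
        B u z * (c + σ c + c * σ c * B u u) := by ring
    rw [this, hc, mul_zero, zero_smul, add_zero]
  right_inv := by
    intro z
    simp only
    rw [map_add, map_smul, smul_eq_mul, add_assoc, ← add_smul]
    have : σ c * B u z + c * (B u z + σ c * B u z * B u u) =
        B u z * (c + σ c + c * σ c * B u u) := by ring
    rw [this, hc, mul_zero, zero_smul, add_zero]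

theorem tH_apply (u : V) (c : F)
    (hc : c + σ c + c * σ c * B u u = 0) (z : V) :
    tH σ B u c hc z = z + (c * B u z) • u := rfl

theorem tH_preserves (hS : B.IsSymm) (u : V) (c : F)
    (hc : c + σ c + c * σ c * B u u = 0) (z z' : V) :
    B (tH σ B u c hc z) (tH σ B u c hc z') = B z z' := by
  rw [tH_apply, tH_apply]
  simp only [map_add, map_smul, map_smulₛₗ, LinearMap.add_apply, LinearMap.smul_apply, smul_eq_mul,
    map_mul, hS.eq u z]
  linear_combination (B z u * B u z') * hc

/-- One step: `x ↦ y` when `B (y - x) x ≠ 0`. -/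
theorem step (hS : B.IsSymm) (H : Submodule F V) (x y : V)
    (hxy : B x x = B y y) (hne : B (y - x) x ≠ 0) (hperp : ∀ h ∈ H, B (y - x) h = 0) :
    ∃ g : V ≃ₗ[F] V, (∀ u v, B (g u) (g v) = B u v) ∧ (∀ h ∈ H, g h = h) ∧ g x = y := by
  set u := y - x with hu
  set β := B u x with hβ
  have hσβ : σ β = B x u := hS.eq u x
  have hσβ0 : σ β ≠ 0 := (map_ne_zero σ).mpr hne
  have hc : β⁻¹ + σ β⁻¹ + β⁻¹ * σ β⁻¹ * B u u = 0 := by
    rw [map_inv₀]
    have h1 : σ β + β + B u u = 0 := by
      rw [hσβ, hβ, hu]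
      simp only [map_sub, LinearMap.sub_apply]
      linear_combination hxy.symm
    field_simp
    linear_combination h1
  refine ⟨tH σ B u β⁻¹ hc, tH_preserves σ B hS u β⁻¹ hc, ?_, ?_⟩
  · intro h hh
    rw [tH_apply, hperp h hh, mul_zero, zero_smul, add_zero]
  · rw [tH_apply, ← hβ, inv_mul_cancel₀ hne, one_smul, hu]
    abel

/-- Separation: a vector outside `span s` is detected by a vector orthogonal to `span s`. -/
theorem sep (hσ2 : ∀ a : F, σ (σ a) = a) (hB : B.Nondegenerate) (s : Finset V) :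
    ∀ x : V, x ∉ Submodule.span F (s : Set V) →
      ∃ w : V, (∀ h ∈ Submodule.span F (s : Set V), B h w = 0) ∧ B x w ≠ 0 := by
  classical
  induction s using Finset.induction_on with
  | empty =>
    intro x hx
    rw [Finset.coe_empty, Submodule.span_empty, Submodule.mem_bot] at hx
    have : ∃ w, B x w ≠ 0 := by
      by_contra hne
      apply hx
      apply hB.1 x
      intro w
      by_contra hw
      exact hne ⟨w, hw⟩
    obtain ⟨w, hw⟩ := this
    refine ⟨w, ?_, hw⟩
    intro h hh
    rw [Finset.coe_empty, Submodule.span_empty, Submodule.mem_bot] at hh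
    rw [hh, map_zero, LinearMap.zero_apply]
  | insert a s _ ih =>
    intro x hx
    set H := Submodule.span F (s : Set V) with hH
    have hspan : ∀ z, z ∈ Submodule.span F ((insert a s : Finset V) : Set V) ↔
        ∃ c : F, ∃ h ∈ H, z = c • a + h := by
      intro z
      rw [Finset.coe_insert, Submodule.mem_span_insert]
    have hxH : x ∉ H := by
      intro hxH
      apply hx
      rw [hspan]
      exact ⟨0, x, hxH, by rw [zero_smul, zero_add]⟩
    obtain ⟨w₁, hw₁, hxw₁⟩ := ih x hxH
    by_cases ha : B a w₁ = 0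
    · refine ⟨w₁, ?_, hxw₁⟩
      intro z hz
      obtain ⟨c, h, hh, rfl⟩ := (hspan z).mp hz
      rw [B_add_left, B_smul_left, ha, mul_zero, zero_add]
      exact hw₁ h hh
    · set c₀ : F := σ (B x w₁ / B a w₁) with hc₀
      have hσc₀ : σ c₀ = B x w₁ / B a w₁ := hσ2 _
      set x'' := x - c₀ • a with hx''
      have hx''w₁ : B x'' w₁ = 0 := by
        rw [hx'', B_sub_left, B_smul_left, hσc₀]
        field_simp
        ring
      have hx''H : x'' ∉ H := by
        intro hmem
        apply hx
        rw [hspan]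
        exact ⟨c₀, x'', hmem, by rw [hx'']; abel⟩
      obtain ⟨w₂, hw₂, hxw₂⟩ := ih x'' hx''H
      set l : F := -(B a w₂ / B a w₁) with hl
      refine ⟨w₂ + l • w₁, ?_, ?_⟩
      · intro z hz
        obtain ⟨c, h, hh, rfl⟩ := (hspan z).mp hz
        rw [map_add, B_smul_right, B_add_left, B_add_left, B_smul_left, B_smul_left, hw₂ h hh,
          hw₁ h hh, hl]
        field_simp
        ring
      · have hxe : x = x'' + c₀ • a := by rw [hx'']; abel
        rw [hxe, map_add, B_smul_right, B_add_left, B_add_left, B_smul_left, B_smul_left, hx''w₁,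
          hl]
        intro h0
        apply hxw₂
        have : B x'' w₂ + σ c₀ * B a w₂ + -(B a w₂ / B a w₁) * (0 + σ c₀ * B a w₁) =
            B x'' w₂ := by
          field_simp
          ring
        rw [← this]
        exact h0

/-- Non-zero scalars with prescribed trace. -/
theorem exists_trace (hσ2 : ∀ a : F, σ (σ a) = a) (hσ : σ ≠ RingHom.id F) (n : F)
    (hn : σ n = n) : ∃ ν : F, ν ≠ 0 ∧ ν + σ ν = -n := by
  obtain ⟨ζ, hζ⟩ : ∃ ζ : F, σ ζ ≠ ζ := by
    by_contra hne
    apply hσ
    ext a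
    by_contra ha
    exact hne ⟨a, ha⟩
  have hζ0 : ζ ≠ 0 := by
    rintro rfl
    exact hζ (map_zero σ)
  by_cases h2 : (2 : F) = 0
  · have hneg : ∀ a : F, -a = a := by
      intro a
      have : a + a = 0 := by rw [← two_mul, h2, zero_mul]
      exact neg_eq_of_add_eq_zero_left this
    by_cases hn0 : n = 0
    · refine ⟨1, one_ne_zero, ?_⟩
      rw [map_one, hn0, neg_zero, ← two_mul, h2, zero_mul]
    · set τ := ζ + σ ζ with hτ
      have hτ0 : τ ≠ 0 := by
        intro h0
        apply hζ
        have := eq_neg_of_add_eq_zero_right h0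
        rw [hneg] at this
        exact this
      have hστ : σ τ = τ := by rw [hτ, map_add, hσ2 ζ]; ring
      refine ⟨n * ζ / τ, div_ne_zero (mul_ne_zero hn0 hζ0) hτ0, ?_⟩
      rw [map_div₀, map_mul, hn, hστ, hneg]
      field_simp
      rw [hτ]
  · by_cases hn0 : n = 0
    · refine ⟨ζ - σ ζ, fun h0 => hζ (sub_eq_zero.mp h0).symm, ?_⟩
      rw [map_sub, hσ2 ζ, hn0]
      ring
    · have hσ2' : σ 2 = 2 := map_ofNat σ 2
      refine ⟨-n / 2, div_ne_zero (neg_ne_zero.mpr hn0) h2, ?_⟩
      rw [map_div₀, map_neg, hn, hσ2']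
      field_simp
      ring

theorem exists_fix_map (hσ2 : ∀ a : F, σ (σ a) = a) (hσ : σ ≠ RingHom.id F) (hS : B.IsSymm)
    (hB : B.Nondegenerate) (s : Finset V) (x y : V)
    (hx : x ∉ Submodule.span F (s : Set V)) (hy : y ∉ Submodule.span F (s : Set V))
    (hxy : B x x = B y y) (hperp : ∀ h ∈ Submodule.span F (s : Set V), B (y - x) h = 0) :
    ∃ g : V ≃ₗ[F] V, (∀ u v, B (g u) (g v) = B u v) ∧
      (∀ h ∈ Submodule.span F (s : Set V), g h = h) ∧ g x = y := by
  set H := Submodule.span F (s : Set V) with hH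
  by_cases hne : B (y - x) x ≠ 0
  · exact step σ B hS H x y hxy hne hperp
  · rw [not_not] at hne
    obtain ⟨w₁, hw₁, hxw₁⟩ := sep σ B hσ2 hB s x hx
    obtain ⟨w₂, hw₂, hyw₂⟩ := sep σ B hσ2 hB s y hy
    have hw : ∃ w : V, (∀ h ∈ H, B h w = 0) ∧ B x w ≠ 0 ∧ B y w ≠ 0 := by
      by_cases h1 : B y w₁ ≠ 0
      · exact ⟨w₁, hw₁, hxw₁, h1⟩
      · by_cases h2 : B x w₂ ≠ 0
        · exact ⟨w₂, hw₂, h2, hyw₂⟩
        · rw [not_not] at h1 h2
          refine ⟨w₁ + w₂, fun h hh => by rw [map_add, hw₁ h hh, hw₂ h hh, add_zero], ?_, ?_⟩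
          · rw [map_add, h2, add_zero]; exact hxw₁
          · rw [map_add, h1, zero_add]; exact hyw₂
    obtain ⟨w₀, hw₀H, hxw₀, hyw₀⟩ := hw
    set b := B w₀ x with hb
    have hσb : σ b = B x w₀ := hS.eq w₀ x
    have hb0 : b ≠ 0 := by
      intro h0
      apply hxw₀
      rw [← hσb, h0, map_zero]
    have hσb0 : σ b ≠ 0 := (map_ne_zero σ).mpr hb0
    set n := B w₀ w₀ with hn
    have hσn : σ n = n := hS.eq w₀ w₀
    obtain ⟨ν, hν0, hν⟩ := exists_trace σ hσ2 hσ n hσn
    have hσν0 : σ ν ≠ 0 := (map_ne_zero σ).mpr hν0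
    set l : F := b / ν with hl
    have hl0 : l ≠ 0 := div_ne_zero hb0 hν0
    have hσl : σ l = σ b / σ ν := by rw [hl, map_div₀]
    set w := l • w₀ with hw
    have hxw : B x w = l * σ b := by rw [hw, B_smul_right, hσb]
    have hwx : B w x = σ l * b := by rw [hw, B_smul_left]
    have hww : B w w = σ l * l * n := by rw [hw, B_smul_left, B_smul_right]; ring
    have hsum : B x w + B w x + B w w = 0 := by
      rw [hxw, hwx, hww, hσl, hl]
      field_simp
      linear_combination (b * σ b) * hν
    have hwH : ∀ h ∈ H, B w h = 0 := by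
      intro h hh
      have h1 : B w₀ h = 0 := by
        rw [← hS.eq h w₀, hw₀H h hh, map_zero]
      rw [hw, B_smul_left, h1, mul_zero]
    set z := x + w with hz
    have hzz : B z z = B x x := by
      rw [hz]
      simp only [map_add, LinearMap.add_apply]
      linear_combination hsum
    have hzx : z - x = w := by rw [hz]; abel
    obtain ⟨g₁, hg₁, hg₁H, hg₁x⟩ := step σ B hS H x z hzz.symm
      (by rw [hzx, hwx]; exact mul_ne_zero ((map_ne_zero σ).mpr hl0) hb0)
      (by intro h hh; rw [hzx]; exact hwH h hh)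
    have hyz : y - z = (y - x) - w := by rw [hz]; abel
    have hyw : B y w = l * B y w₀ := by rw [hw, B_smul_right]
    obtain ⟨g₂, hg₂, hg₂H, hg₂x⟩ := step σ B hS H z y (hzz.trans hxy)
      (by
        have e : B (y - z) z = B y w := by
          rw [hyz, hz]
          simp only [map_add, map_sub, LinearMap.add_apply, LinearMap.sub_apply]
          simp only [map_sub, LinearMap.sub_apply] at hne
          linear_combination hne - hsum
        rw [e, hyw]
        exact mul_ne_zero hl0 hyw₀)
      (by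
        intro h hh
        rw [hyz, B_sub_left, hperp h hh, hwH h hh, sub_zero])
    refine ⟨g₁.trans g₂, fun u v => ?_, fun h hh => ?_, ?_⟩
    · rw [LinearEquiv.trans_apply, LinearEquiv.trans_apply, hg₂, hg₁]
    · rw [LinearEquiv.trans_apply, hg₁H h hh, hg₂H h hh]
    · rw [LinearEquiv.trans_apply, hg₁x, hg₂x]

theorem main (hσ2 : ∀ a : F, σ (σ a) = a) (hσ : σ ≠ RingHom.id F) (hS : B.IsSymm)
    (hB : B.Nondegenerate) (s : Finset V) :
    ∀ f : V →ₗ[F] V,
      (∀ x ∈ Submodule.span F (s : Set V), ∀ x' ∈ Submodule.span F (s : Set V),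
        B (f x) (f x') = B x x') →
      (∀ x ∈ Submodule.span F (s : Set V), f x = 0 → x = 0) →
      ∃ g : V ≃ₗ[F] V, (∀ u v, B (g u) (g v) = B u v) ∧
        ∀ x ∈ Submodule.span F (s : Set V), g x = f x := by
  classical
  induction s using Finset.induction_on with
  | empty =>
    intro f _ _
    refine ⟨LinearEquiv.refl F V, fun u v => rfl, ?_⟩
    intro x hx
    rw [Finset.coe_empty, Submodule.span_empty, Submodule.mem_bot] at hx
    rw [hx, map_zero, map_zero]
  | insert a s _ ih =>
    intro f hf hinj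
    set H := Submodule.span F (s : Set V) with hH
    have hle : H ≤ Submodule.span F ((insert a s : Finset V) : Set V) := by
      apply Submodule.span_mono
      rw [Finset.coe_insert]
      exact Set.subset_insert _ _
    have haX : a ∈ Submodule.span F ((insert a s : Finset V) : Set V) := by
      apply Submodule.subset_span
      rw [Finset.coe_insert]
      exact Set.mem_insert _ _
    obtain ⟨g₁, hg₁, hg₁H⟩ := ih f (fun x hx x' hx' => hf x (hle hx) x' (hle hx'))
      (fun x hx => hinj x (hle hx))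
    have hdecomp : ∀ x ∈ Submodule.span F ((insert a s : Finset V) : Set V),
        ∃ c : F, ∃ h ∈ H, x = c • a + h := by
      intro x hx
      rw [Finset.coe_insert, Submodule.mem_span_insert] at hx
      exact hx
    by_cases haH : a ∈ H
    · refine ⟨g₁, hg₁, ?_⟩
      intro x hx
      obtain ⟨c, h, hh, rfl⟩ := hdecomp x hx
      exact hg₁H _ (H.add_mem (H.smul_mem c haH) hh)
    · set y := g₁.symm (f a) with hy
      have hg₁y : g₁ y = f a := by rw [hy, LinearEquiv.apply_symm_apply]
      have hyH : y ∉ H := by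
        intro hyH
        have h1 : f y = f a := by rw [← hg₁H y hyH, hg₁y]
        have h2 : f (y - a) = 0 := by rw [map_sub, h1, sub_self]
        have h3 := hinj (y - a) (Submodule.sub_mem _ (hle hyH) haX) h2
        apply haH
        rw [← sub_eq_zero.mp h3]
        exact hyH
      have hperp : ∀ h ∈ H, B (y - a) h = 0 := by
        intro h hh
        rw [B_sub_left, sub_eq_zero, ← hg₁ y h, hg₁y, hg₁H h hh]
        exact hf a haX h (hle hh)
      have hxy : B a a = B y y := by
        rw [← hg₁ y y, hg₁y]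
        exact (hf a haX a haX).symm
      obtain ⟨g₂, hg₂, hg₂H, hg₂a⟩ := exists_fix_map σ B hσ2 hσ hS hB s a y haH hyH hxy hperp
      refine ⟨g₂.trans g₁, fun u v => ?_, ?_⟩
      · rw [LinearEquiv.trans_apply, LinearEquiv.trans_apply, hg₁, hg₂]
      · intro x hx
        obtain ⟨c, h, hh, rfl⟩ := hdecomp x hx
        rw [LinearEquiv.trans_apply, map_add, map_smul, hg₂a, hg₂H h hh, map_add, map_smul,
          hg₁y, hg₁H h hh, map_add, map_smul]

end

theorem result {F V : Type*} [Field F] [Finite F] [AddCommGroup V] [Module F V] [FiniteDimensional F V] (σ : F →+* F) (hσ : σ ≠ RingHom.id F) (hσ2 : ∀ a : F, σ (σ a) = a) (B : V →ₛₗ[σ] V →ₗ[F] F) (hS : B.IsSymm) (hB : B.Nondegenerate) (X Y : Submodule F V) (φ : X ≃ₗ[F] Y) (hφ : ∀ x x' : X, B (φ x : V) (φ x' : V) = B (x : V) (x' : V)) : ∃ g : V ≃ₗ[F] V, (∀ u v : V, B (g u) (g v) = B u v) ∧ ∀ x : X, g (x : V) = (φ x : V) := by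
  obtain ⟨f, hf⟩ := LinearMap.exists_extend (Y.subtype.comp φ.toLinearMap)
  have hfx : ∀ x : X, f (x : V) = (φ x : V) := by
    intro x
    have := LinearMap.congr_fun hf x
    exact this
  obtain ⟨s, hs⟩ := (IsNoetherian.noetherian X : X.FG)
  obtain ⟨g, hg, hgX⟩ := main σ B hσ2 hσ hS hB s f
    (by
      intro x hx x' hx'
      rw [hs] at hx hx'
      have h1 := hfx ⟨x, hx⟩
      have h2 := hfx ⟨x', hx'⟩
      simp only at h1 h2
      rw [h1, h2]
      exact hφ ⟨x, hx⟩ ⟨x', hx'⟩)
    (by
      intro x hx h0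
      rw [hs] at hx
      have h1 := hfx ⟨x, hx⟩
      simp only at h1
      rw [h0] at h1
      have h2 : φ ⟨x, hx⟩ = 0 := Subtype.ext h1.symm
      have h3 : (⟨x, hx⟩ : X) = 0 := φ.map_eq_zero_iff.mp h2
      exact congrArg Subtype.val h3)
  refine ⟨g, hg, ?_⟩
  intro x
  rw [hgX x.1 (by rw [hs]; exact x.2)]
  exact hfx x

end Cfsg.Agent.S0751
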