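import Cfsg.Statements.S0754

set_option autoImplicit false
open Cfsg

namespace Cfsg.Agent.S0754

open Polynomial in
/-- In a field F with q^2 elements, every non-zero μ with μ^q = μ (that is, μ in the subfield of order q) has exactly q + 1 solutions λ of λ^(q+1) = μ. -/
theorem result {F : Type*} [Field F] [Fintype F] {q : ℕ} (hF : Fintype.card F = q ^ 2) (μ : F) (hμ : μ ≠ 0) (hμq : μ ^ q = μ) : Nat.card {x : F // x ^ (q + 1) = μ} = q + 1 := by
  classical
  have hq2 : 2 ≤ q := by
    have h1 : 1 < Fintype.card F := Fintype.one_lt_card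
    rw [hF] at h1
    by_contra h
    have : q = 0 ∨ q = 1 := by omega
    rcases this with rfl | rfl <;> simp at h1
  have hμ1 : μ ^ (q - 1) = 1 := by
    have : μ ^ (q - 1) * μ = μ := by
      rw [← pow_succ]
      have : q - 1 + 1 = q := by omega
      rw [this, hμq]
    exact mul_right_cancel₀ hμ (by rw [this, one_mul])
  set P : F[X] := X ^ (q + 1) - C μ with hP
  have hne : (X ^ Fintype.card F - X : F[X]) ≠ 0 :=
    FiniteField.X_pow_card_sub_X_ne_zero F Fintype.one_lt_card
  have hdvd : P ∣ (X ^ Fintype.card F - X : F[X]) := by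
    have h1 : P ∣ (X ^ (q + 1)) ^ (q - 1) - (C μ) ^ (q - 1) := sub_dvd_pow_sub_pow _ _ _
    rw [← C_pow, hμ1, C_1, ← pow_mul] at h1
    have h2 : (X ^ Fintype.card F - X : F[X]) = X * (X ^ ((q + 1) * (q - 1)) - 1) := by
      rw [mul_sub, mul_one, ← pow_succ', hF]
      congr 2
      have : q = (q - 1) + 1 := by omega
      conv_lhs => rw [this]
      ring_nf
      have : q - 1 + 1 = q := by omega
      nlinarith [this]
    rw [h2]
    exact Dvd.dvd.mul_left h1 _
  have hroots : roots (X ^ Fintype.card F - X : F[X]) = Finset.univ.val :=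
    FiniteField.roots_X_pow_card_sub_X F
  have hsplit : Splits (X ^ Fintype.card F - X : F[X]) := by
    rw [splits_iff_card_roots, hroots,
      FiniteField.X_pow_card_sub_X_natDegree_eq F Fintype.one_lt_card]
    rfl
  have hPsplit : P.Splits := Splits.of_dvd hsplit hne hdvd
  have hPdeg : P.natDegree = q + 1 := natDegree_X_pow_sub_C
  have hcard : P.roots.card = q + 1 := by
    rw [← hPdeg]; exact (splits_iff_card_roots.mp hPsplit)
  have hnodup : P.roots.Nodup := by
    refine Multiset.nodup_of_le (roots.le_of_dvd hne hdvd) ?_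
    rw [hroots]; exact Finset.univ.nodup
  have hP0 : P ≠ 0 := by
    intro h
    rw [h, natDegree_zero] at hPdeg
    omega
  have hfin : (Finset.univ.filter (fun x : F => x ^ (q + 1) = μ)) = P.roots.toFinset := by
    ext x
    rw [Multiset.mem_toFinset, mem_roots hP0, IsRoot.def]
    simp only [Finset.mem_filter, Finset.mem_univ, true_and, hP, eval_sub, eval_pow, eval_X,
      eval_C, sub_eq_zero]
  rw [Nat.card_eq_fintype_card, Fintype.card_subtype, hfin,
    Multiset.toFinset_card_of_nodup hnodup, hcard]

end Cfsg.Agent.S0754
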