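import Cfsg.Statements.S0755
import Mathlib

set_option autoImplicit false
open Cfsg

namespace Cfsg.Agent.S0755

open Module

universe u v

section Norm

variable {F : Type u} [Field F]

/-- Hilbert 90 for an involution. -/
theorem hilbert90 (σ : F →+* F) (hσ : σ ≠ RingHom.id F) (hσ2 : ∀ a : F, σ (σ a) = a)
    (a : F) (ha : σ a * a = 1) : ∃ b : F, b ≠ 0 ∧ b = σ b * a := by
  by_cases h1 : 1 + a = 0
  · -- a = -1
    have ha' : a = -1 := by linear_combination h1
    have : ∃ c, σ c ≠ c := by
      by_contra hcon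
      push Not at hcon
      apply hσ
      ext c
      simpa using hcon c
    obtain ⟨c, hc⟩ := this
    refine ⟨c - σ c, fun h => hc (sub_eq_zero.mp h).symm, ?_⟩
    rw [ha', map_sub, hσ2]; ring
  · refine ⟨1 + a, h1, ?_⟩
    rw [map_add, map_one, add_mul, one_mul, ha]; ring

variable [Finite F]

theorem norm_surj (σ : F →+* F) (hσ : σ ≠ RingHom.id F)
    (hσ2 : ∀ a : F, σ (σ a) = a) (c : F) (hc0 : c ≠ 0) (hc : σ c = c) :
    ∃ a : F, σ a * a = c := by
  let S : Fˣ →* Fˣ := Units.map (σ : F →* F)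
  have hS : ∀ x : Fˣ, ((S x : Fˣ) : F) = σ x := fun x => rfl
  have hSS : ∀ x : Fˣ, S (S x) = x := by
    intro x; ext; rw [hS, hS, hσ2]
  let N : Fˣ →* Fˣ := S * MonoidHom.id Fˣ
  let D : Fˣ →* Fˣ := MonoidHom.id Fˣ / S
  have hN : ∀ x, N x = S x * x := fun x => rfl
  have hD : ∀ x, D x = x / S x := fun x => rfl
  have h1 : D.range = N.ker := by
    ext x
    rw [MonoidHom.mem_range, MonoidHom.mem_ker]
    constructor
    · rintro ⟨b, rfl⟩
      rw [hN, hD, map_div, hSS, mul_comm, div_mul_div_cancel, div_self']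
    · intro hx
      rw [hN] at hx
      have hx' : σ (x : F) * (x : F) = 1 := by
        have := congrArg (fun u : Fˣ => (u : F)) hx
        simpa [hS] using this
      obtain ⟨b, hb0, hb⟩ := hilbert90 σ hσ hσ2 (x : F) hx'
      refine ⟨Units.mk0 b hb0, ?_⟩
      rw [hD, div_eq_iff_eq_mul]
      ext
      rw [Units.val_mul, hS, Units.val_mk0, mul_comm]
      exact hb
  have h2 : N.range ≤ D.ker := by
    rintro _ ⟨a, rfl⟩
    rw [MonoidHom.mem_ker, hD, hN, map_mul, hSS, mul_comm a, div_self']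
  have c1 : Nat.card N.ker * Nat.card N.range = Nat.card Fˣ := by
    rw [← Subgroup.index_ker]; exact Subgroup.card_mul_index _
  have c2 : Nat.card D.ker * Nat.card D.range = Nat.card Fˣ := by
    rw [← Subgroup.index_ker]; exact Subgroup.card_mul_index _
  have c3 : Nat.card N.range = Nat.card D.ker := by
    rw [h1] at c2
    have hpos : 0 < Nat.card N.ker := Nat.card_pos
    have : Nat.card N.ker * Nat.card N.range = Nat.card N.ker * Nat.card D.ker := by
      rw [c1, mul_comm, c2]
    exact Nat.eq_of_mul_eq_mul_left hpos this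
  have h3 : N.range = D.ker := Subgroup.eq_of_le_of_card_ge h2 (le_of_eq c3.symm)
  have hcmem : Units.mk0 c hc0 ∈ D.ker := by
    rw [MonoidHom.mem_ker, hD, div_eq_one]
    ext
    rw [hS, Units.val_mk0, hc]
  rw [← h3] at hcmem
  obtain ⟨a, ha⟩ := hcmem
  refine ⟨(a : F), ?_⟩
  have := congrArg (fun u : Fˣ => (u : F)) ha
  simpa [hN, hS] using this

end Norm

section Geom

variable {F : Type u} [Field F]

theorem exists_anisotropic {V : Type v} [AddCommGroup V] [Module F V] [Nontrivial V]
    (σ : F →+* F) (hσ : σ ≠ RingHom.id F) (hσ2 : ∀ a : F, σ (σ a) = a)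
    (B : V →ₛₗ[σ] V →ₗ[F] F) (hS : B.IsSymm) (hB : B.Nondegenerate) : ∃ x, B x x ≠ 0 := by
  by_contra hcon
  push Not at hcon
  obtain ⟨u, hu⟩ := exists_ne (0 : V)
  have : ∃ w, B u w ≠ 0 := by
    by_contra h
    push Not at h
    exact hu (hB.1 u h)
  obtain ⟨w, hw⟩ := this
  have hwu : B w u = σ (B u w) := (hS.eq u w).symm
  have key : ∀ a : F, σ a * B u w + a * σ (B u w) = 0 := by
    intro a
    have := hcon (a • u + w)
    simp only [map_add, LinearMap.add_apply, LinearMap.map_smulₛₗ, LinearMap.smul_apply,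
      map_smul, smul_eq_mul, hcon, hwu] at this
    linear_combination this
  have ht0 : σ (B u w) ≠ 0 := by
    intro h
    apply hw
    have := congrArg σ h
    rwa [hσ2, map_zero] at this
  have hT : ∀ c : F, σ c + c = 0 := by
    intro c
    have := key (c * (σ (B u w))⁻¹)
    rw [map_mul, map_inv₀, hσ2] at this
    have e1 : σ c * (B u w)⁻¹ * B u w = σ c := by field_simp
    have e2 : c * (σ (B u w))⁻¹ * σ (B u w) = c := by field_simp
    rw [e1, e2] at this
    exact this
  have h2 : (1 : F) + 1 = 0 := by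
    have := hT 1
    rwa [map_one] at this
  apply hσ
  ext c
  have h3 := hT c
  have h4 : c + c = 0 := by linear_combination c * h2
  simp only [RingHom.id_apply]
  linear_combination h3 - h4

/-- Splitting off a unit vector. -/
theorem split {V : Type v} [AddCommGroup V] [Module F V]
    (σ : F →+* F) (B : V →ₛₗ[σ] V →ₗ[F] F) (x : V) (hx : B x x = 1) :
    ∃ φ : (F × LinearMap.ker (B x)) ≃ₗ[F] V,
      ∀ (a : F) (w : LinearMap.ker (B x)), φ (a, w) = a • x + (w : V) := by
  let g : (F × LinearMap.ker (B x)) →ₗ[F] V :=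
    (LinearMap.toSpanSingleton F V x).coprod (LinearMap.ker (B x)).subtype
  have hg : ∀ (a : F) (w : LinearMap.ker (B x)), g (a, w) = a • x + (w : V) := by
    intro a w
    simp [g, LinearMap.coprod_apply, LinearMap.toSpanSingleton_apply]
  have hinj : Function.Injective g := by
    rw [injective_iff_map_eq_zero]
    rintro ⟨a, w⟩ h
    rw [hg] at h
    have hw : B x (w : V) = 0 := LinearMap.mem_ker.mp w.2
    have h1 : B x (a • x + (w : V)) = a := by
      simp [hx, hw]
    rw [h, map_zero] at h1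
    rw [← h1, zero_smul, zero_add] at h
    have hw0 : w = 0 := Subtype.ext h
    rw [← h1, hw0]
    rfl
  have hsurj : Function.Surjective g := by
    intro z
    have hmem : z - B x z • x ∈ LinearMap.ker (B x) := by
      rw [LinearMap.mem_ker]
      simp [hx]
    refine ⟨(B x z, ⟨_, hmem⟩), ?_⟩
    rw [hg]
    simp only
    abel
  exact ⟨LinearEquiv.ofBijective g ⟨hinj, hsurj⟩, hg⟩

def Goal (V : Type v) [AddCommGroup V] [Module F V] (σ : F →+* F)
    (B : V →ₛₗ[σ] V →ₗ[F] F) : Prop :=
  ∃ (ι : Type) (_ : Fintype ι) (_ : DecidableEq ι) (b : Basis ι F V),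
    ∀ i j : ι, B (b i) (b j) = if i = j then 1 else 0

theorem goal_step {V : Type v} [AddCommGroup V] [Module F V]
    (σ : F →+* F) (B : V →ₛₗ[σ] V →ₗ[F] F) (hS : B.IsSymm) (x : V) (hx : B x x = 1)
    (hrec : Goal (LinearMap.ker (B x)) σ
      (B.domRestrict₁₂ (LinearMap.ker (B x)) (LinearMap.ker (B x)))) : Goal V σ B := by
  obtain ⟨φ, hφ⟩ := split σ B x hx
  obtain ⟨ι, _, _, b', r1⟩ := hrec
  simp only [LinearMap.domRestrict₁₂_apply] at r1
  let bn : Basis (Unit ⊕ ι) F V := ((Basis.singleton Unit F).prod b').map φ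
  have e1 : bn (Sum.inl ()) = x := by
    simp [bn, hφ]
  have e2 : ∀ i, bn (Sum.inr i) = (b' i : V) := by
    intro i
    simp [bn, hφ]
  have px : ∀ w : LinearMap.ker (B x), B x w = 0 := fun w => LinearMap.mem_ker.mp w.2
  have px' : ∀ w : LinearMap.ker (B x), B w x = 0 := fun w => by
    rw [← hS.eq, px, map_zero]
  refine ⟨Unit ⊕ ι, inferInstance, inferInstance, bn, ?_⟩
  rintro (⟨⟩ | i) (⟨⟩ | j)
  · rw [e1, hx]; simp
  · rw [e1, e2, px]; simp
  · rw [e2, e1, px']; simp
  · rw [e2, e2, r1 i j]; simp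

theorem nondeg_restrict {V : Type v} [AddCommGroup V] [Module F V]
    (σ : F →+* F) (B : V →ₛₗ[σ] V →ₗ[F] F) (hS : B.IsSymm) (hB : B.Nondegenerate)
    (x : V) (hx : B x x = 1) :
    (B.domRestrict₁₂ (LinearMap.ker (B x)) (LinearMap.ker (B x))).Nondegenerate := by
  obtain ⟨φ, hφ⟩ := split σ B x hx
  have px : ∀ w : LinearMap.ker (B x), B x w = 0 := fun w => LinearMap.mem_ker.mp w.2
  have px' : ∀ w : LinearMap.ker (B x), B w x = 0 := fun w => by
    rw [← hS.eq, px, map_zero]
  constructor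
  · intro w hw
    simp only [LinearMap.domRestrict₁₂_apply] at hw
    have : (w : V) = 0 := by
      apply hB.1
      intro z
      obtain ⟨⟨a, w'⟩, rfl⟩ := φ.surjective z
      rw [hφ, map_add, map_smul, px', smul_zero, zero_add]
      exact hw w'
    exact Subtype.ext this
  · intro w hw
    simp only [LinearMap.domRestrict₁₂_apply] at hw
    have : (w : V) = 0 := by
      apply hB.2
      intro z
      obtain ⟨⟨a, w'⟩, rfl⟩ := φ.surjective z
      rw [hφ, map_add, LinearMap.add_apply, LinearMap.map_smulₛₗ, LinearMap.smul_apply, px,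
        smul_zero, zero_add]
      exact hw w'
    exact Subtype.ext this

variable [Finite F]

theorem goal_all (σ : F →+* F) (hσ : σ ≠ RingHom.id F) (hσ2 : ∀ a : F, σ (σ a) = a) (n : ℕ) :
    ∀ (V : Type v) [AddCommGroup V] [Module F V] [FiniteDimensional F V]
    (B : V →ₛₗ[σ] V →ₗ[F] F), B.IsSymm → B.Nondegenerate → finrank F V = n → Goal V σ B := by
  induction n using Nat.strong_induction_on with
  | _ n ih =>
    intro V _ _ _ B hS hB hn
    rcases subsingleton_or_nontrivial V with hsub | hnt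
    · exact ⟨Empty, inferInstance, inferInstance, Basis.empty V, fun i => i.elim⟩
    · obtain ⟨x0, hx0⟩ := exists_anisotropic σ hσ hσ2 B hS hB
      have hfix : σ (B x0 x0) = B x0 x0 := hS.eq x0 x0
      have hfix' : σ (B x0 x0)⁻¹ = (B x0 x0)⁻¹ := by rw [map_inv₀, hfix]
      obtain ⟨a, ha⟩ := norm_surj σ hσ hσ2 (B x0 x0)⁻¹ (inv_ne_zero hx0) hfix'
      have hx : B (a • x0) (a • x0) = 1 := by
        simp only [LinearMap.map_smulₛₗ, LinearMap.smul_apply, map_smul, smul_eq_mul]
        have h5 : (B x0 x0)⁻¹ * B x0 x0 = 1 := inv_mul_cancel₀ hx0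
        linear_combination (B x0 x0) * ha + h5
      set x := a • x0
      obtain ⟨φ, -⟩ := split σ B x hx
      have hdim : finrank F (LinearMap.ker (B x)) < n := by
        have := φ.finrank_eq
        rw [Module.finrank_prod, Module.finrank_self] at this
        omega
      apply goal_step σ B hS x hx
      exact ih _ hdim (LinearMap.ker (B x)) _ (hS.domRestrict _)
        (nondeg_restrict σ B hS hB x hx) rfl

end Geom

theorem result {F V : Type*} [Field F] [Finite F] [AddCommGroup V] [Module F V] [FiniteDimensional F V] (σ : F →+* F) (hσ : σ ≠ RingHom.id F) (hσ2 : ∀ a : F, σ (σ a) = a) (B : V →ₛₗ[σ] V →ₗ[F] F) (hS : B.IsSymm) (hB : B.Nondegenerate) : ∃ b : Module.Basis (Fin (Module.finrank F V)) F V, ∀ i j, B (b i) (b j) = if i = j then 1 else 0 := by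
  obtain ⟨ι, _, _, b, r⟩ := goal_all σ hσ hσ2 (finrank F V) V B hS hB rfl
  have hcard : Fintype.card ι = finrank F V := (Module.finrank_eq_card_basis b).symm
  let e : ι ≃ Fin (finrank F V) := Fintype.equivFinOfCardEq hcard
  refine ⟨b.reindex e, ?_⟩
  intro i j
  simp only [Basis.reindex_apply]
  rw [r]
  simp only [EmbeddingLike.apply_eq_iff_eq]

end Cfsg.Agent.S0755
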