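import Cfsg.Statements.S0771
import Mathlib

set_option autoImplicit false
open Cfsg

namespace Cfsg.Agent.S0771

open Matrix

variable {F : Type*} [Field F]
variable {ι α β : Type} [Fintype ι] [DecidableEq ι] [Fintype α] [DecidableEq α]
  [Fintype β] [DecidableEq β]

/-- The subspace of vectors vanishing on the `β`-part. -/
def Ssub (e : α ⊕ β ≃ ι) : Submodule F (ι → F) where
  carrier := {v | ∀ b, v (e (Sum.inr b)) = 0}
  add_mem' := by
    intro u v hu hv b
    simp [hu b, hv b]
  zero_mem' := by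
    intro b
    rfl
  smul_mem' := by
    intro c v hv b
    simp [hv b]

theorem mem_Ssub (e : α ⊕ β ≃ ι) (v : ι → F) : v ∈ Ssub e ↔ ∀ b, v (e (Sum.inr b)) = 0 := Iff.rfl

theorem mulVec_mem_of_zero (e : α ⊕ β ≃ ι) (M : Matrix ι ι F)
    (h : ∀ b a, M (e (Sum.inr b)) (e (Sum.inl a)) = 0) (v : ι → F) (hv : v ∈ Ssub e) :
    M *ᵥ v ∈ Ssub e := by
  intro b
  change (M *ᵥ v) (e (Sum.inr b)) = 0
  rw [Matrix.mulVec, dotProduct, ← e.sum_comp, Fintype.sum_sum_type]
  have hv' : ∀ b', v (e (Sum.inr b')) = 0 := hv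
  simp [h, hv']

theorem zero_of_mulVec_mem (e : α ⊕ β ≃ ι) (M : Matrix ι ι F)
    (h : ∀ v ∈ Ssub e, M *ᵥ v ∈ Ssub e) (b : β) (a : α) :
    M (e (Sum.inr b)) (e (Sum.inl a)) = 0 := by
  have hv : (Pi.single (e (Sum.inl a)) 1 : ι → F) ∈ Ssub e := by
    intro b'
    rw [Pi.single_apply, if_neg]
    intro h'
    have := e.injective h'
    cases this
  have := h _ hv b
  rw [Matrix.mulVec_single_one] at this
  exact this

theorem mulVec_injective_of_GL (g : GL ι F) :
    Function.Injective (fun v : ι → F => (g : Matrix ι ι F) *ᵥ v) := by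
  intro v w hvw
  have h1 : ((g⁻¹ : GL ι F) : Matrix ι ι F) * (g : Matrix ι ι F) = 1 := by
    rw [← Units.val_mul, inv_mul_cancel, Units.val_one]
  have := congrArg (fun u => ((g⁻¹ : GL ι F) : Matrix ι ι F) *ᵥ u) hvw
  simpa [Matrix.mulVec_mulVec, h1] using this

theorem mem_stab_iff (e : α ⊕ β ≃ ι) (g : GL ι F) :
    g ∈ Cfsg.stabilizing (Cfsg.glToMat ι F) (Ssub (F := F) e : Set (ι → F)) ↔
      ∀ b a, (g : Matrix ι ι F) (e (Sum.inr b)) (e (Sum.inl a)) = 0 := by
  constructor
  · intro hg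
    apply zero_of_mulVec_mem
    intro v hv
    exact (hg v).mp hv
  · intro h v
    have hfwd := mulVec_mem_of_zero e _ h
    refine ⟨hfwd v, fun hv => ?_⟩
    let f : Ssub (F := F) e →ₗ[F] Ssub (F := F) e :=
      (Matrix.toLin' (g : Matrix ι ι F)).restrict (fun v hv => by
        rw [Matrix.toLin'_apply]; exact hfwd v hv)
    have hfinj : Function.Injective f := by
      intro x y hxy
      apply Subtype.ext
      apply mulVec_injective_of_GL g
      have := congrArg Subtype.val hxy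
      simpa [f, LinearMap.restrict_apply] using this
    have hfsurj := LinearMap.injective_iff_surjective.mp hfinj
    obtain ⟨w, hw⟩ := hfsurj ⟨_, hv⟩
    have h2 : (g : Matrix ι ι F) *ᵥ (w : ι → F) = (g : Matrix ι ι F) *ᵥ v := by
      have := congrArg Subtype.val hw
      simpa [f, LinearMap.restrict_apply] using this
    have h3 := mulVec_injective_of_GL g h2
    rw [← h3]
    exact w.2

/-- The block parametrisation of the parabolic. -/
noncomputable def Phi (e : α ⊕ β ≃ ι) (p : GL α F × GL β F × Matrix α β F) :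
    {g : GL ι F // ∀ b a, (g : Matrix ι ι F) (e (Sum.inr b)) (e (Sum.inl a)) = 0} :=
  ⟨Matrix.GeneralLinearGroup.mkOfDetNeZero
      (Matrix.reindex e e (Matrix.fromBlocks (p.1 : Matrix α α F) p.2.2 0 (p.2.1 : Matrix β β F)))
      (by
        rw [Matrix.det_reindex_self, Matrix.det_fromBlocks_zero₂₁]
        exact mul_ne_zero (Matrix.GeneralLinearGroup.det_ne_zero p.1)
          (Matrix.GeneralLinearGroup.det_ne_zero p.2.1)),
    by
      intro b a
      simp [Matrix.GeneralLinearGroup.mkOfDetNeZero, Matrix.reindex_apply]⟩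

theorem Phi_coe (e : α ⊕ β ≃ ι) (p : GL α F × GL β F × Matrix α β F) :
    (((Phi e p).1 : GL ι F) : Matrix ι ι F) =
      Matrix.reindex e e (Matrix.fromBlocks (p.1 : Matrix α α F) p.2.2 0 (p.2.1 : Matrix β β F)) :=
  rfl

theorem Phi_injective (e : α ⊕ β ≃ ι) : Function.Injective (Phi (F := F) e) := by
  intro p p' h
  have h1 : (((Phi e p).1 : GL ι F) : Matrix ι ι F) = (((Phi e p').1 : GL ι F) : Matrix ι ι F) := by
    rw [h]
  rw [Phi_coe, Phi_coe] at h1
  have h2 := (Matrix.reindex e e).injective h1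
  rw [Matrix.fromBlocks_inj] at h2
  obtain ⟨hA, hB, -, hD⟩ := h2
  refine Prod.ext (Units.ext hA) (Prod.ext (Units.ext hD) hB)

theorem Phi_surjective (e : α ⊕ β ≃ ι) : Function.Surjective (Phi (F := F) e) := by
  rintro ⟨g, hg⟩
  have hM : Matrix.reindex e.symm e.symm (g : Matrix ι ι F) =
      Matrix.fromBlocks (Matrix.reindex e.symm e.symm (g : Matrix ι ι F)).toBlocks₁₁
        (Matrix.reindex e.symm e.symm (g : Matrix ι ι F)).toBlocks₁₂ 0
        (Matrix.reindex e.symm e.symm (g : Matrix ι ι F)).toBlocks₂₂ := by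
    conv_lhs => rw [← Matrix.fromBlocks_toBlocks (Matrix.reindex e.symm e.symm (g : Matrix ι ι F))]
    congr 1
    ext b a
    simp [Matrix.toBlocks₂₁, Matrix.reindex_apply, hg]
  have hdet : (Matrix.reindex e.symm e.symm (g : Matrix ι ι F)).det ≠ 0 := by
    rw [Matrix.det_reindex_self]
    exact Matrix.GeneralLinearGroup.det_ne_zero g
  rw [hM, Matrix.det_fromBlocks_zero₂₁] at hdet
  have hA := left_ne_zero_of_mul hdet
  have hD := right_ne_zero_of_mul hdet
  refine ⟨(Matrix.GeneralLinearGroup.mkOfDetNeZero _ hA,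
    Matrix.GeneralLinearGroup.mkOfDetNeZero _ hD,
    (Matrix.reindex e.symm e.symm (g : Matrix ι ι F)).toBlocks₁₂), ?_⟩
  apply Subtype.ext
  apply Units.ext
  rw [Phi_coe]
  have key : Matrix.reindex e e
      (Matrix.fromBlocks (Matrix.reindex e.symm e.symm (g : Matrix ι ι F)).toBlocks₁₁
        (Matrix.reindex e.symm e.symm (g : Matrix ι ι F)).toBlocks₁₂ 0
        (Matrix.reindex e.symm e.symm (g : Matrix ι ι F)).toBlocks₂₂) = (g : Matrix ι ι F) := by
    rw [← hM]
    ext i j
    simp [Matrix.reindex_apply]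
  exact key

theorem card_stab [Fintype F] (e : α ⊕ β ≃ ι) :
    Nat.card ↥(Cfsg.stabilizing (Cfsg.glToMat ι F) (Ssub (F := F) e : Set (ι → F))) =
      Nat.card (GL α F) * (Nat.card (GL β F) * Fintype.card F ^ (Fintype.card α * Fintype.card β)) := by
  rw [Nat.card_congr (Equiv.subtypeEquivRight (mem_stab_iff e)),
    ← Nat.card_congr (Equiv.ofBijective (Phi (F := F) e) ⟨Phi_injective e, Phi_surjective e⟩),
    Nat.card_prod, Nat.card_prod]
  congr 2
  rw [Nat.card_eq_fintype_card]
  change Fintype.card (α → β → F) = _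
  rw [Fintype.card_fun, Fintype.card_fun, ← pow_mul, mul_comm]

theorem result {F : Type*} [Field F] [Fintype F] {q : ℕ} (hF : Fintype.card F = q) (n k : ℕ) (hk : k ≤ n) : Nat.card ↥(Cfsg.stabilizing (Cfsg.glToMat (Fin n) F) {v : Fin n → F | ∀ i : Fin n, k ≤ (i : ℕ) → v i = 0}) = q ^ (k * (n - k)) * (∏ i : Fin k, (q ^ k - q ^ (i : ℕ))) * ∏ i : Fin (n - k), (q ^ (n - k) - q ^ (i : ℕ)) := by
  let e : Fin k ⊕ Fin (n - k) ≃ Fin n :=
    finSumFinEquiv.trans (finCongr (Nat.add_sub_cancel' hk))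
  have hS : {v : Fin n → F | ∀ i : Fin n, k ≤ (i : ℕ) → v i = 0} =
      (Ssub (F := F) e : Set (Fin n → F)) := by
    ext v
    constructor
    · intro h b
      apply h
      simp [e]
    · intro h i hi
      have hi' : i = e (Sum.inr ⟨(i : ℕ) - k, by omega⟩) := by
        apply Fin.ext
        simp [e]
        omega
      rw [hi']
      exact h _
  rw [hS, card_stab e, Matrix.card_GL_field, Matrix.card_GL_field, hF, Fintype.card_fin,
    Fintype.card_fin]
  ring

end Cfsg.Agent.S0771
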