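import Cfsg.Statements.S0773
import Mathlib
import Cfsg.Agent.S0771

set_option autoImplicit false
open Cfsg

namespace Cfsg.Agent.S0773

open Matrix Cfsg.Agent.S0771

variable {F : Type*} [Field F]

/-- The standard splitting of the coordinates. -/
def eK (n k : ℕ) (hk : k ≤ n) : Fin k ⊕ Fin (n - k) ≃ Fin n :=
  finSumFinEquiv.trans (finCongr (Nat.add_sub_cancel' hk))

theorem eK_inl (n k : ℕ) (hk : k ≤ n) (a : Fin k) : ((eK n k hk (Sum.inl a) : Fin n) : ℕ) = a := by
  simp [eK]

theorem eK_inr (n k : ℕ) (hk : k ≤ n) (b : Fin (n - k)) :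
    ((eK n k hk (Sum.inr b) : Fin n) : ℕ) = k + b := by
  simp [eK]

/-- The coordinate subspace, as a set. -/
def SS (n k : ℕ) : Set (Fin n → F) := {v : Fin n → F | ∀ i : Fin n, k ≤ (i : ℕ) → v i = 0}

theorem SS_eq (n k : ℕ) (hk : k ≤ n) :
    SS (F := F) n k = (Ssub (F := F) (eK n k hk) : Set (Fin n → F)) := by
  ext v
  constructor
  · intro h b
    apply h
    rw [eK_inr]
    omega
  · intro h i hi
    have hi' : i = eK n k hk (Sum.inr ⟨(i : ℕ) - k, by omega⟩) := by
      apply Fin.ext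
      rw [eK_inr]
      simp
      omega
    rw [hi']
    exact h _

/-- The parabolic subgroup. -/
abbrev Pk (n k : ℕ) : Subgroup (GL (Fin n) F) :=
  Cfsg.stabilizing (Cfsg.glToMat (Fin n) F) (SS (F := F) n k)

theorem mem_Pk_iff (n k : ℕ) (hk : k ≤ n) (g : GL (Fin n) F) :
    g ∈ Pk (F := F) n k ↔
      ∀ i j : Fin n, k ≤ (i : ℕ) → (j : ℕ) < k → (g : Matrix (Fin n) (Fin n) F) i j = 0 := by
  unfold Pk
  rw [SS_eq n k hk, mem_stab_iff]
  constructor
  · intro h i j hi hj
    have hi' : i = eK n k hk (Sum.inr ⟨(i : ℕ) - k, by omega⟩) := by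
      apply Fin.ext
      rw [eK_inr]
      simp
      omega
    have hj' : j = eK n k hk (Sum.inl ⟨(j : ℕ), hj⟩) := by
      apply Fin.ext
      rw [eK_inl]
    rw [hi', hj']
    exact h _ _
  · intro h b a
    apply h
    · rw [eK_inr]; omega
    · rw [eK_inl]; exact a.2

/-! ### The isomorphism -/

/-- Inverse transpose conjugated by the reversal of coordinates. -/
noncomputable def psiFun (n : ℕ) (g : GL (Fin n) F) : GL (Fin n) F :=
  Matrix.GeneralLinearGroup.mkOfDetNeZero
    (Matrix.reindex Fin.revPerm Fin.revPerm ((g⁻¹ : GL (Fin n) F) : Matrix (Fin n) (Fin n) F)ᵀ)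
    (by
      rw [Matrix.det_reindex_self, Matrix.det_transpose]
      exact Matrix.GeneralLinearGroup.det_ne_zero g⁻¹)

theorem psiFun_coe (n : ℕ) (g : GL (Fin n) F) :
    ((psiFun n g : GL (Fin n) F) : Matrix (Fin n) (Fin n) F) =
      Matrix.reindex Fin.revPerm Fin.revPerm ((g⁻¹ : GL (Fin n) F) : Matrix (Fin n) (Fin n) F)ᵀ :=
  rfl

theorem psiFun_mul (n : ℕ) (g h : GL (Fin n) F) :
    psiFun n (g * h) = psiFun n g * psiFun n h := by
  apply Units.ext
  rw [Units.val_mul, psiFun_coe, psiFun_coe, psiFun_coe, _root_.mul_inv_rev, Units.val_mul,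
    Matrix.transpose_mul]
  simp only [Matrix.reindex_apply]
  rw [Matrix.submatrix_mul_equiv]

/-- The automorphism as a monoid hom. -/
noncomputable def psi (n : ℕ) : GL (Fin n) F →* GL (Fin n) F :=
  MonoidHom.mk' (psiFun n) (psiFun_mul n)

theorem psi_apply (n : ℕ) (g : GL (Fin n) F) (i j : Fin n) :
    ((psi n g : GL (Fin n) F) : Matrix (Fin n) (Fin n) F) i j =
      ((g⁻¹ : GL (Fin n) F) : Matrix (Fin n) (Fin n) F) (Fin.rev j) (Fin.rev i) := by
  change ((psiFun n g : GL (Fin n) F) : Matrix (Fin n) (Fin n) F) i j = _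
  rw [psiFun_coe]
  simp [Matrix.reindex_apply, Fin.revPerm_symm]

theorem psi_psi (n : ℕ) (g : GL (Fin n) F) : psi n (psi n g) = g := by
  apply Units.ext
  ext i j
  rw [psi_apply, ← map_inv, psi_apply, inv_inv, Fin.rev_rev, Fin.rev_rev]

theorem psi_mem (n k : ℕ) (hk : k ≤ n) (g : GL (Fin n) F) (hg : g ∈ Pk (F := F) n k) :
    psi n g ∈ Pk (F := F) n (n - k) := by
  rw [mem_Pk_iff n (n - k) (Nat.sub_le n k)]
  intro i j hi hj
  rw [psi_apply]
  have hg' := (mem_Pk_iff n k hk g⁻¹).mp (inv_mem hg)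
  apply hg'
  · rw [Fin.val_rev]; have := j.2; omega
  · rw [Fin.val_rev]; have := i.2; omega

/-- The isomorphism of the two parabolics. -/
noncomputable def isoP (n k : ℕ) (hk : k ≤ n) : ↥(Pk (F := F) n k) ≃* ↥(Pk (F := F) n (n - k)) where
  toFun x := ⟨psi n x.1, psi_mem n k hk x.1 x.2⟩
  invFun y := ⟨psi n y.1, by
    have := psi_mem n (n - k) (Nat.sub_le n k) y.1 y.2
    rwa [Nat.sub_sub_self hk] at this⟩
  left_inv x := Subtype.ext (psi_psi n _)
  right_inv y := Subtype.ext (psi_psi n _)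
  map_mul' x y := Subtype.ext (map_mul (psi n) _ _)

/-! ### Non-conjugacy -/

section dims

variable {ι α β : Type} [Fintype ι] [DecidableEq ι] [Fintype α] [DecidableEq α]
  [Fintype β] [DecidableEq β]

/-- The coordinate subspace is a copy of `α → F`. -/
def SsubEquiv (e : α ⊕ β ≃ ι) : Ssub (F := F) e ≃ₗ[F] (α → F) where
  toFun v := fun a => v.1 (e (Sum.inl a))
  map_add' u v := by ext a; rfl
  map_smul' c v := by ext a; rfl
  invFun x := ⟨fun i => Sum.elim x (fun _ => 0) (e.symm i), by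
    intro b
    simp⟩
  left_inv v := by
    apply Subtype.ext
    funext i
    change Sum.elim (fun a => v.1 (e (Sum.inl a))) (fun _ => 0) (e.symm i) = v.1 i
    rcases h : e.symm i with a | b
    · have : i = e (Sum.inl a) := by rw [← h, Equiv.apply_symm_apply]
      rw [this]; simp
    · have : i = e (Sum.inr b) := by rw [← h, Equiv.apply_symm_apply]
      rw [this]
      simp only [Sum.elim_inr]
      exact (v.2 b).symm
  right_inv x := by
    funext a
    simp

theorem finrank_Ssub (e : α ⊕ β ≃ ι) : Module.finrank F (Ssub (F := F) e) = Fintype.card α := by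
  rw [LinearEquiv.finrank_eq (SsubEquiv e), Module.finrank_fintype_fun_eq_card]

end dims

/-- Elementary transvection as an element of `GL`. -/
noncomputable def T (n : ℕ) (i j : Fin n) (hij : i ≠ j) : GL (Fin n) F :=
  Matrix.GeneralLinearGroup.mkOfDetNeZero (Matrix.transvection i j (1 : F)) (by
    rw [Matrix.det_transvection_of_ne _ _ hij]; exact one_ne_zero)

theorem T_coe (n : ℕ) (i j : Fin n) (hij : i ≠ j) :
    ((T (F := F) n i j hij : GL (Fin n) F) : Matrix (Fin n) (Fin n) F) =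
      Matrix.transvection i j (1 : F) := rfl

theorem T_mem (n b : ℕ) (hb : b ≤ n) (i j : Fin n) (hij : i ≠ j)
    (h : ¬ (b ≤ (i : ℕ) ∧ (j : ℕ) < b)) : T (F := F) n i j hij ∈ Pk (F := F) n b := by
  rw [mem_Pk_iff n b hb]
  intro r c hr hc
  rw [T_coe, Matrix.transvection, Matrix.add_apply, Matrix.one_apply, Matrix.single_apply]
  have hrc : r ≠ c := by
    intro h'; rw [h'] at hr; omega
  rw [if_neg hrc, if_neg, add_zero]
  rintro ⟨rfl, rfl⟩
  exact h ⟨hr, hc⟩

theorem T_mulVec (n : ℕ) (i j : Fin n) (hij : i ≠ j) (u : Fin n → F) :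
    ((T (F := F) n i j hij : GL (Fin n) F) : Matrix (Fin n) (Fin n) F) *ᵥ u =
      u + u j • Pi.single i (1 : F) := by
  rw [T_coe, Matrix.transvection, Matrix.add_mulVec, Matrix.one_mulVec, Matrix.single_mulVec_eq,
    one_mul]

theorem le_of_conj (n a b : ℕ) (ha0 : 0 < a) (ha : a ≤ n) (hb : b ≤ n) (g : GL (Fin n) F)
    (h : (Pk (F := F) n a).map (MulAut.conj g).toMonoidHom = Pk (F := F) n b) : b ≤ a := by
  -- the image subspace
  let U : Submodule F (Fin n → F) :=
    (Ssub (F := F) (eK n a ha)).map (Matrix.toLin' (g : Matrix (Fin n) (Fin n) F))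
  have hU : ∀ u, u ∈ U ↔ ∃ v ∈ Ssub (F := F) (eK n a ha),
      (g : Matrix (Fin n) (Fin n) F) *ᵥ v = u := by
    intro u
    simp only [U, Submodule.mem_map, Matrix.toLin'_apply]
  -- invariance
  have hinv : ∀ h' ∈ Pk (F := F) n b, ∀ u ∈ U,
      ((h' : GL (Fin n) F) : Matrix (Fin n) (Fin n) F) *ᵥ u ∈ U := by
    intro h' hh' u hu
    rw [← h] at hh'
    obtain ⟨p, hp, rfl⟩ := hh'
    obtain ⟨v, hv, rfl⟩ := (hU u).mp hu
    rw [hU]
    refine ⟨(p : Matrix (Fin n) (Fin n) F) *ᵥ v, ?_, ?_⟩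
    · have hp' : p ∈ Cfsg.stabilizing (Cfsg.glToMat (Fin n) F) (SS (F := F) n a) := hp
      have hv' : v ∈ SS (F := F) n a := by rw [SS_eq n a ha]; exact hv
      have := (hp' v).mp hv'
      rw [SS_eq n a ha] at this
      exact this
    · have h1 : ((g⁻¹ : GL (Fin n) F) : Matrix (Fin n) (Fin n) F) *
          (g : Matrix (Fin n) (Fin n) F) = 1 := by
        rw [← Units.val_mul, inv_mul_cancel, Units.val_one]
      simp only [MulEquiv.coe_toMonoidHom, MulAut.conj_apply, Units.val_mul,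
        Matrix.mulVec_mulVec]
      rw [Matrix.mul_assoc, Matrix.mul_assoc, h1, Matrix.mul_one]
  -- a nonzero vector in U
  have hu0 : ∃ u ∈ U, u ≠ 0 := by
    refine ⟨(g : Matrix (Fin n) (Fin n) F) *ᵥ Pi.single (⟨0, by omega⟩ : Fin n) 1, ?_, ?_⟩
    · rw [hU]
      refine ⟨_, ?_, rfl⟩
      have : (Pi.single (⟨0, by omega⟩ : Fin n) 1 : Fin n → F) ∈ SS (F := F) n a := by
        intro i hi
        rw [Pi.single_apply, if_neg]
        intro hi'
        rw [hi'] at hi
        simp at hi
        omega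
      rw [SS_eq n a ha] at this
      exact this
    · intro h0
      have h1 : (g : Matrix (Fin n) (Fin n) F) *ᵥ Pi.single (⟨0, by omega⟩ : Fin n) 1 =
          (g : Matrix (Fin n) (Fin n) F) *ᵥ (0 : Fin n → F) := by
        rw [h0, Matrix.mulVec_zero]
      have h2 := mulVec_injective_of_GL g h1
      have h3 := congrFun h2 (⟨0, by omega⟩ : Fin n)
      simp at h3
  obtain ⟨u, huU, hune⟩ := hu0
  -- key step: from u_j ≠ 0 and an allowed transvection get e_i ∈ U
  have hstep : ∀ i j : Fin n, i ≠ j → ¬ (b ≤ (i : ℕ) ∧ (j : ℕ) < b) → u j ≠ 0 →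
      (Pi.single i (1 : F) : Fin n → F) ∈ U := by
    intro i j hij hallow huj
    have h1 := hinv _ (T_mem n b hb i j hij hallow) u huU
    rw [T_mulVec] at h1
    have h2 : u j • (Pi.single i (1 : F) : Fin n → F) ∈ U := by
      have := U.sub_mem h1 huU
      simpa using this
    have h3 := U.smul_mem (u j)⁻¹ h2
    rwa [smul_smul, inv_mul_cancel₀ huj, one_smul] at h3
  -- all e_i with i < b lie in U
  have hei : ∀ i : Fin n, (i : ℕ) < b → (Pi.single i (1 : F) : Fin n → F) ∈ U := by
    by_cases hcase : ∃ j : Fin n, b ≤ (j : ℕ) ∧ u j ≠ 0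
    · obtain ⟨j, hj, huj⟩ := hcase
      intro i hi
      apply hstep i j _ _ huj
      · intro hij; rw [hij] at hi; omega
      · intro h'; omega
    · have hcase : ∀ j : Fin n, b ≤ (j : ℕ) → u j = 0 := fun j hj =>
        by_contra fun hne => hcase ⟨j, hj, hne⟩
      have hex : ∃ j : Fin n, u j ≠ 0 := by
        by_contra hne
        apply hune
        funext j
        by_contra hj
        exact hne ⟨j, hj⟩
      obtain ⟨j, huj⟩ := hex
      have hjb : (j : ℕ) < b := by
        by_contra hjb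
        exact huj (hcase j (not_lt.mp hjb))
      have hne : ∀ i : Fin n, (i : ℕ) < b → i ≠ j → (Pi.single i (1 : F) : Fin n → F) ∈ U := by
        intro i hi hij
        apply hstep i j hij _ huj
        intro h'; omega
      intro i hi
      by_cases hij : i = j
      · subst hij
        -- u = Σ u l • e_l
        have hsum := pi_eq_sum_univ' u
        rw [← Finset.add_sum_erase Finset.univ _ (Finset.mem_univ i)] at hsum
        have hrest : ∑ l ∈ Finset.univ.erase i, u l • (Pi.single l (1 : F) : Fin n → F) ∈ U := by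
          apply U.sum_mem
          intro l hl
          have hli : l ≠ i := Finset.ne_of_mem_erase hl
          by_cases hlb : (l : ℕ) < b
          · exact U.smul_mem _ (hne l hlb hli)
          · rw [hcase l (not_lt.mp hlb), zero_smul]
            exact U.zero_mem
        have h2 : u i • (Pi.single i (1 : F) : Fin n → F) ∈ U := by
          have h3 : u i • (Pi.single i (1 : F) : Fin n → F) =
              u - ∑ l ∈ Finset.univ.erase i, u l • (Pi.single l (1 : F) : Fin n → F) := by
            rw [eq_sub_iff_add_eq]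
            exact hsum.symm
          rw [h3]
          exact U.sub_mem huU hrest
        have h3 := U.smul_mem (u i)⁻¹ h2
        rwa [smul_smul, inv_mul_cancel₀ huj, one_smul] at h3
      · exact hne i hi hij
  -- hence S_b ≤ U
  have hle : Ssub (F := F) (eK n b hb) ≤ U := by
    intro v hv
    have hv' : v ∈ SS (F := F) n b := by rw [SS_eq n b hb]; exact hv
    rw [pi_eq_sum_univ' v]
    apply U.sum_mem
    intro l _
    by_cases hlb : (l : ℕ) < b
    · exact U.smul_mem _ (hei l hlb)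
    · rw [hv' l (not_lt.mp hlb), zero_smul]
      exact U.zero_mem
  have h1 := Submodule.finrank_mono hle
  have h2 : Module.finrank F U ≤ Module.finrank F (Ssub (F := F) (eK n a ha)) :=
    Submodule.finrank_map_le _ _
  rw [finrank_Ssub] at h1 h2
  simp only [Fintype.card_fin] at h1 h2
  omega

theorem result {F : Type*} [Field F] [Finite F] (n k : ℕ) (hk0 : 0 < k) (hkn : k < n) (h2 : 2 * k ≠ n) : Nonempty (↥(Cfsg.stabilizing (Cfsg.glToMat (Fin n) F) {v : Fin n → F | ∀ i : Fin n, k ≤ (i : ℕ) → v i = 0}) ≃* ↥(Cfsg.stabilizing (Cfsg.glToMat (Fin n) F) {v : Fin n → F | ∀ i : Fin n, n - k ≤ (i : ℕ) → v i = 0})) ∧ ∀ g : Matrix.GeneralLinearGroup (Fin n) F, (Cfsg.stabilizing (Cfsg.glToMat (Fin n) F) {v : Fin n → F | ∀ i : Fin n, k ≤ (i : ℕ) → v i = 0}).map (MulAut.conj g).toMonoidHom ≠ Cfsg.stabilizing (Cfsg.glToMat (Fin n) F) {v : Fin n → F | ∀ i : Fin n, n - k ≤ (i : ℕ) → v i = 0} := by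
  refine ⟨⟨isoP n k hkn.le⟩, ?_⟩
  intro g hg
  have hg' : (Pk (F := F) n k).map (MulAut.conj g).toMonoidHom = Pk (F := F) n (n - k) := hg
  have h1 := le_of_conj n k (n - k) hk0 hkn.le (Nat.sub_le n k) g hg'
  have hg'' : (Pk (F := F) n (n - k)).map (MulAut.conj g⁻¹).toMonoidHom = Pk (F := F) n k := by
    rw [← hg', Subgroup.map_map]
    have : (MulAut.conj g⁻¹).toMonoidHom.comp (MulAut.conj g).toMonoidHom =
        MonoidHom.id (GL (Fin n) F) := by
      ext x : 1
      simp [MulAut.conj_apply, mul_assoc]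
    rw [this, Subgroup.map_id]
  have h3 := le_of_conj n (n - k) k (by omega) (Nat.sub_le n k) hkn.le g⁻¹ hg''
  omega

end Cfsg.Agent.S0773
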