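import Cfsg.Statements.S0772
import Mathlib
import Cfsg.Agent.S0773

set_option autoImplicit false
open Cfsg

namespace Cfsg.Agent.S0772

open Matrix Cfsg.Agent.S0773

variable {F : Type*} [Field F] {n : ℕ}

/-- The matrix of the (generalised) transvection `x ↦ x + (φ ⬝ x) a`. -/
def Tm (a φ : Fin n → F) : Matrix (Fin n) (Fin n) F := 1 + Matrix.vecMulVec a φ

theorem Tm_apply (a φ : Fin n → F) (i j : Fin n) :
    Tm a φ i j = (if i = j then 1 else 0) + a i * φ j := by
  unfold Tm
  rw [Matrix.add_apply, Matrix.one_apply, Matrix.vecMulVec_apply]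

theorem det_Tm (a φ : Fin n → F) : (Tm a φ).det = 1 + φ ⬝ᵥ a := by
  unfold Tm
  rw [Matrix.vecMulVec_eq (Fin 1)]
  exact Matrix.det_one_add_replicateCol_mul_replicateRow a φ

theorem Tm_mulVec (a φ x : Fin n → F) : Tm a φ *ᵥ x = x + (φ ⬝ᵥ x) • a := by
  unfold Tm
  rw [Matrix.add_mulVec, Matrix.one_mulVec, Matrix.vecMulVec_mulVec, op_smul_eq_smul]

theorem conj_Tm (x : GL (Fin n) F) (a φ : Fin n → F) :
    (x : Matrix (Fin n) (Fin n) F) * Tm a φ * ((x⁻¹ : GL (Fin n) F) : Matrix (Fin n) (Fin n) F) =
      Tm ((x : Matrix (Fin n) (Fin n) F) *ᵥ a)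
        (φ ᵥ* ((x⁻¹ : GL (Fin n) F) : Matrix (Fin n) (Fin n) F)) := by
  unfold Tm
  rw [Matrix.mul_add, Matrix.add_mul, Matrix.mul_one, Matrix.mul_vecMulVec, Matrix.vecMulVec_mul]
  congr 1
  exact Units.mul_inv x

/-- All invertible matrices with the given underlying matrix lie in `K`. -/
def InK (K : Subgroup (GL (Fin n) F)) (N : Matrix (Fin n) (Fin n) F) : Prop :=
  ∀ g : GL (Fin n) F, (g : Matrix (Fin n) (Fin n) F) = N → g ∈ K

theorem InK_conj (K : Subgroup (GL (Fin n) F)) (x : GL (Fin n) F) (hx : x ∈ K)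
    (N : Matrix (Fin n) (Fin n) F) (hN : InK K N) :
    InK K ((x : Matrix (Fin n) (Fin n) F) * N *
      ((x⁻¹ : GL (Fin n) F) : Matrix (Fin n) (Fin n) F)) := by
  intro g hg
  have h1 : ((x⁻¹ * g * x : GL (Fin n) F) : Matrix (Fin n) (Fin n) F) = N := by
    rw [Units.val_mul, Units.val_mul, hg]
    have e1 : ((x⁻¹ : GL (Fin n) F) : Matrix (Fin n) (Fin n) F) *
        (x : Matrix (Fin n) (Fin n) F) = 1 := Units.inv_mul x
    calc ((x⁻¹ : GL (Fin n) F) : Matrix (Fin n) (Fin n) F) *
          ((x : Matrix (Fin n) (Fin n) F) * N *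
            ((x⁻¹ : GL (Fin n) F) : Matrix (Fin n) (Fin n) F)) * (x : Matrix (Fin n) (Fin n) F)
        = (((x⁻¹ : GL (Fin n) F) : Matrix (Fin n) (Fin n) F) * (x : Matrix (Fin n) (Fin n) F)) *
            N * (((x⁻¹ : GL (Fin n) F) : Matrix (Fin n) (Fin n) F) *
              (x : Matrix (Fin n) (Fin n) F)) := by
          simp only [Matrix.mul_assoc]
      _ = N := by rw [e1, Matrix.one_mul, Matrix.mul_one]
  have h2 := hN _ h1
  have h3 : g = x * (x⁻¹ * g * x) * x⁻¹ := by group
  rw [h3]
  exact K.mul_mem (K.mul_mem hx h2) (K.inv_mem hx)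

/-- The set of centres `a` all of whose transvections lie in `K`. -/
def A (K : Subgroup (GL (Fin n) F)) (a : Fin n → F) : Prop :=
  ∀ φ : Fin n → F, φ ⬝ᵥ a = 0 → InK K (Tm a φ)

theorem A_smul (K : Subgroup (GL (Fin n) F)) (x : GL (Fin n) F) (hx : x ∈ K) (a : Fin n → F)
    (ha : A K a) : A K ((x : Matrix (Fin n) (Fin n) F) *ᵥ a) := by
  intro ψ hψ
  set φ := ψ ᵥ* (x : Matrix (Fin n) (Fin n) F) with hφ
  have h1 : φ ⬝ᵥ a = 0 := by
    rw [hφ, ← Matrix.dotProduct_mulVec]
    exact hψ
  have h2 := InK_conj K x hx _ (ha φ h1)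
  rw [conj_Tm] at h2
  have h3 : φ ᵥ* ((x⁻¹ : GL (Fin n) F) : Matrix (Fin n) (Fin n) F) = ψ := by
    rw [hφ, Matrix.vecMul_vecMul]
    have : (x : Matrix (Fin n) (Fin n) F) *
        ((x⁻¹ : GL (Fin n) F) : Matrix (Fin n) (Fin n) F) = 1 := Units.mul_inv x
    rw [this, Matrix.vecMul_one]
  rw [h3] at h2
  exact h2

theorem A_of_mem (k : ℕ) (hk : k ≤ n) (K : Subgroup (GL (Fin n) F))
    (hK : Pk (F := F) n k ≤ K) (a : Fin n → F) (ha : ∀ i : Fin n, k ≤ (i : ℕ) → a i = 0) :
    A K a := by
  intro φ _ g hg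
  apply hK
  rw [mem_Pk_iff n k hk]
  intro i j hi hj
  rw [hg, Tm_apply, ha i hi, zero_mul, add_zero, if_neg]
  intro hij
  rw [hij] at hi
  omega

theorem result {F : Type*} [Field F] [Finite F] (n k : ℕ) (hk0 : 0 < k) (hkn : k < n) : IsCoatom (Cfsg.stabilizing (Cfsg.glToMat (Fin n) F) {v : Fin n → F | ∀ i : Fin n, k ≤ (i : ℕ) → v i = 0}) := by
  have hk : k ≤ n := hkn.le
  change IsCoatom (Pk (F := F) n k)
  constructor
  · -- proper
    intro htop
    have hmem : T (F := F) n ⟨k, hkn⟩ ⟨0, by omega⟩ (by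
        intro h; have := congrArg Fin.val h; simp at this; omega) ∈ Pk (F := F) n k := by
      rw [htop]; trivial
    rw [mem_Pk_iff n k hk] at hmem
    have := hmem ⟨k, hkn⟩ ⟨0, by omega⟩ (le_refl _) hk0
    have hne : (⟨k, hkn⟩ : Fin n) ≠ ⟨0, by omega⟩ := by
      intro h
      have := congrArg Fin.val h
      simp only at this
      omega
    rw [T_coe, Matrix.transvection, Matrix.add_apply, Matrix.one_apply_ne hne,
      Matrix.single_apply_same, zero_add] at this
    exact one_ne_zero this
  · intro K hK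
    have hle : Pk (F := F) n k ≤ K := hK.le
    -- an element of `K` outside the parabolic
    obtain ⟨g, hgK, hgP⟩ := SetLike.exists_of_lt hK
    rw [mem_Pk_iff n k hk] at hgP
    simp only [not_forall] at hgP
    obtain ⟨i₁, j₁, hi₁, hj₁, hg1⟩ := hgP
    -- the column `a₁ = g e_{j₁}`
    set a₁ : Fin n → F := (g : Matrix (Fin n) (Fin n) F) *ᵥ Pi.single j₁ 1 with ha₁
    have ha₁i : a₁ i₁ = (g : Matrix (Fin n) (Fin n) F) i₁ j₁ := by
      rw [ha₁, Matrix.mulVec_single_one]
      rfl
    have hA₁ : A K a₁ := by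
      apply A_smul K g hgK
      apply A_of_mem k hk K hle
      intro i hi
      rw [Pi.single_apply, if_neg]
      intro h
      rw [h] at hi
      omega
    -- the column replacement matrix
    have hdet : (Tm (a₁ - Pi.single i₁ 1) (Pi.single i₁ 1)).det ≠ 0 := by
      rw [det_Tm, single_one_dotProduct, Pi.sub_apply, Pi.single_eq_same, ha₁i]
      intro h0
      apply hg1
      linear_combination h0
    set h := Matrix.GeneralLinearGroup.mkOfDetNeZero _ hdet with hh
    have hhcoe : (h : Matrix (Fin n) (Fin n) F) = Tm (a₁ - Pi.single i₁ 1) (Pi.single i₁ 1) := rfl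
    have hhP : h ∈ Pk (F := F) n k := by
      rw [mem_Pk_iff n k hk]
      intro i j hi hj
      rw [hhcoe, Tm_apply, Pi.single_apply, if_neg, if_neg, mul_zero, add_zero]
      · intro hij
        rw [hij] at hj
        omega
      · intro hij
        rw [hij] at hi
        omega
    have hhe : (h : Matrix (Fin n) (Fin n) F) *ᵥ Pi.single i₁ 1 = a₁ := by
      rw [hhcoe, Tm_mulVec, single_one_dotProduct, Pi.single_eq_same, one_smul]
      abel
    have hAi₁ : A K (Pi.single i₁ 1) := by
      have h1 := A_smul K h⁻¹ (K.inv_mem (hle hhP)) a₁ hA₁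
      have h2 : ((h⁻¹ : GL (Fin n) F) : Matrix (Fin n) (Fin n) F) *ᵥ a₁ = Pi.single i₁ 1 := by
        rw [← hhe, Matrix.mulVec_mulVec]
        have : ((h⁻¹ : GL (Fin n) F) : Matrix (Fin n) (Fin n) F) *
            (h : Matrix (Fin n) (Fin n) F) = 1 := Units.inv_mul h
        rw [this, Matrix.one_mulVec]
      rwa [h2] at h1
    -- all basis vectors beyond `k`
    have hAi : ∀ i : Fin n, k ≤ (i : ℕ) → A K (Pi.single i 1) := by
      intro i hi
      by_cases hii : i = i₁
      · rw [hii]; exact hAi₁
      · have hx := T_mem (F := F) n k hk i i₁ hii (by omega)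
        have h1 := A_smul K _ (hle hx) _ hAi₁
        rw [T_mulVec, Pi.single_eq_same, one_smul] at h1
        -- now subtract `e_{i₁}` with the inverse of `T i₁ i`
        have hy := T_mem (F := F) n k hk i₁ i (Ne.symm hii) (by omega)
        have h2 := A_smul K _ (K.inv_mem (hle hy)) _ h1
        have h3 : (((T (F := F) n i₁ i (Ne.symm hii))⁻¹ : GL (Fin n) F) :
            Matrix (Fin n) (Fin n) F) *ᵥ (Pi.single i₁ 1 + Pi.single i 1) = Pi.single i 1 := by
          have h4 : ((T (F := F) n i₁ i (Ne.symm hii) : GL (Fin n) F) :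
              Matrix (Fin n) (Fin n) F) *ᵥ Pi.single i 1 = Pi.single i₁ 1 + Pi.single i 1 := by
            rw [T_mulVec, Pi.single_eq_same, one_smul, add_comm]
          rw [← h4, Matrix.mulVec_mulVec]
          have : (((T (F := F) n i₁ i (Ne.symm hii))⁻¹ : GL (Fin n) F) :
              Matrix (Fin n) (Fin n) F) * ((T (F := F) n i₁ i (Ne.symm hii) : GL (Fin n) F) :
              Matrix (Fin n) (Fin n) F) = 1 := Units.inv_mul _
          rw [this, Matrix.one_mulVec]
        rwa [h3] at h2
    -- now everything is in `K`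
    rw [eq_top_iff]
    intro x _
    have key : InK K (x : Matrix (Fin n) (Fin n) F) := by
      apply Matrix.diagonal_transvection_induction_of_det_ne_zero (InK K) _
        (Matrix.GeneralLinearGroup.det_ne_zero x)
      · intro D _ y hy
        apply hle
        rw [mem_Pk_iff n k hk]
        intro i j hi hj
        rw [hy, Matrix.diagonal_apply_ne]
        intro hij
        rw [hij] at hi
        omega
      · intro t y hy
        by_cases hlow : k ≤ (t.i : ℕ) ∧ (t.j : ℕ) < k
        · have h1 := hAi t.i hlow.1 (t.c • Pi.single t.j 1) (by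
            rw [smul_dotProduct, single_one_dotProduct, Pi.single_apply, if_neg t.hij.symm,
              smul_zero])
          apply h1
          rw [hy, TransvectionStruct.toMatrix, Matrix.transvection]
          unfold Tm
          congr 1
          ext r c
          rw [Matrix.vecMulVec_apply, Matrix.single_apply, Pi.single_apply, Pi.smul_apply,
            Pi.single_apply]
          by_cases hr : r = t.i
          · by_cases hc : c = t.j
            · rw [if_pos hr, if_pos hc, if_pos ⟨hr.symm, hc.symm⟩]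
              simp
            · rw [if_neg hc, if_neg]
              · simp
              · rintro ⟨-, h'⟩
                exact hc h'.symm
          · rw [if_neg hr, if_neg]
            · simp
            · rintro ⟨h', -⟩
              exact hr h'.symm
        · apply hle
          rw [mem_Pk_iff n k hk]
          intro r c hr hc
          rw [hy, TransvectionStruct.toMatrix, Matrix.transvection, Matrix.add_apply,
            Matrix.one_apply, Matrix.single_apply]
          have hrc : r ≠ c := by
            intro h'; rw [h'] at hr; omega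
          rw [if_neg hrc, if_neg, add_zero]
          rintro ⟨rfl, rfl⟩
          exact hlow ⟨hr, hc⟩
      · intro M N hM hN hPM hPN y hy
        set yM := Matrix.GeneralLinearGroup.mkOfDetNeZero M hM
        set yN := Matrix.GeneralLinearGroup.mkOfDetNeZero N hN
        have : y = yM * yN := by
          apply Units.ext
          rw [hy]
          rfl
        rw [this]
        exact K.mul_mem (hPM yM rfl) (hPN yN rfl)
    exact key x rfl

end Cfsg.Agent.S0772
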