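import Cfsg.Statements.S0284
import Mathlib
import Cfsg.Agent.Lib.Helper27.UCount

set_option autoImplicit false
open Cfsg

namespace Cfsg.Agent.S0284

open Cfsg.Agent.Lib.Helper27.Unitary

/-- The standard Hermitian form on F^n, |F| = q^2, has exactly q^(n-1) (q^n - (-1)^n) vectors of norm 1. -/
theorem result {F : Type*} [Field F] [Fintype F] {q : ℕ} (hF : Fintype.card F = q ^ 2) (n : ℕ) : Nat.card {v : Fin n → F // Cfsg.hermForm n F q v v = 1} = (if Even n then q ^ (n - 1) * (q ^ n - 1) else q ^ (n - 1) * (q ^ n + 1)) := by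
  have hq := two_le_q hF
  obtain ⟨-, h1⟩ := cnt_closed hF n
  change cnt n q (1 : F) = _
  have hq0 : (q : ℤ) ≠ 0 := by
    have : (0 : ℤ) < q := by exact_mod_cast (by omega : 0 < q)
    exact this.ne'
  apply Nat.cast_injective (R := ℤ)
  apply mul_left_cancel₀ hq0
  rw [h1]
  rcases n with _ | k
  · simp
  · have hle : 1 ≤ q ^ (k + 1) := Nat.one_le_pow _ _ (by omega)
    split_ifs with he
    · have h2 : (-1 : ℤ) ^ (k + 1) = 1 := he.neg_one_pow
      rw [h2]
      simp only [Nat.add_sub_cancel]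
      push_cast [Nat.cast_sub hle]
      ring
    · have h2 : (-1 : ℤ) ^ (k + 1) = -1 := (Nat.not_even_iff_odd.mp he).neg_one_pow
      rw [h2]
      simp only [Nat.add_sub_cancel]
      push_cast
      ring

end Cfsg.Agent.S0284
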