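import Cfsg.Statements.S0780
import Mathlib
import Cfsg.Agent.Lib.Helper27.UGen2

set_option autoImplicit false
open Cfsg

namespace Cfsg.Agent.S0780

open Cfsg.Agent.Lib.Helper27.Unitary Matrix

variable {F : Type*} [Field F] [Fintype F] {q n : ℕ}

/-- The embedding of `SU_n` into `GL_n`. -/
noncomputable def phi (n : ℕ) (F : Type*) [Field F] (q : ℕ) :
    ↥(Cfsg.SU n F q) →* GL (Fin n) F :=
  (Matrix.SpecialLinearGroup.toGL).comp (Cfsg.SU n F q).subtype

theorem phi_coe (A : ↥(Cfsg.SU n F q)) :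
    ((phi n F q A : GL (Fin n) F) : Matrix (Fin n) (Fin n) F) =
      ((A : Matrix.SpecialLinearGroup (Fin n) F) : Matrix (Fin n) (Fin n) F) := rfl

theorem phi_injective : Function.Injective (phi n F q) := by
  intro A B h
  apply Subtype.ext
  apply Subtype.ext
  have := congrArg (fun g : GL (Fin n) F => (g : Matrix (Fin n) (Fin n) F)) h
  exact this

theorem phi_mem (A : ↥(Cfsg.SU n F q)) :
    phi n F q A ∈ GU n F q ⊓ Cfsg.Geo.specialLinear (Fin n) F := by
  rw [mem_SUg_iff]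
  refine ⟨?_, ?_⟩
  · rw [mem_GU_iff]
    intro u v
    exact A.2 u v
  · rw [phi_coe]
    exact (A : Matrix.SpecialLinearGroup (Fin n) F).2

/-- Lifting an element of `GU_n ∩ SL_n` to `SU_n`. -/
theorem exists_lift {g : GL (Fin n) F}
    (hg : g ∈ GU n F q ⊓ Cfsg.Geo.specialLinear (Fin n) F) :
    ∃ A : ↥(Cfsg.SU n F q), phi n F q A = g := by
  rw [mem_SUg_iff] at hg
  refine ⟨⟨⟨(g : Matrix (Fin n) (Fin n) F), hg.2⟩, ?_⟩, ?_⟩
  · intro u v
    exact hg.1 u v
  · apply Units.ext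
    rfl

/-- Generation of SU_n(q), n ≥ 3, (n, q) ≠ (3, 2), by unitary transvections: the subgroup generated by the elements whose matrix is x ↦ x + c h(x, v) v with v isotropic is all of SU_n(q). -/
theorem result {F : Type*} [Field F] [Fintype F] {q : ℕ} (hF : Fintype.card F = q ^ 2) (n : ℕ) (hn : 3 ≤ n) (h32 : ¬ (n = 3 ∧ q = 2)) : Subgroup.closure {A : ↥(Cfsg.SU n F q) | ∃ (v : Fin n → F) (c : F), Cfsg.hermForm n F q v v = 0 ∧ ((A : Matrix.SpecialLinearGroup (Fin n) F) : Matrix (Fin n) (Fin n) F) = Cfsg.unitaryTransvection n q v c} = ⊤ := by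
  rw [eq_top_iff]
  intro A _
  have h1 : phi n F q A ∈ TW q (⊤ : Submodule F (Fin n → F)) := SUg_le_TW hF h32 (phi_mem A)
  have h2 : TW q (⊤ : Submodule F (Fin n → F)) ≤
      Subgroup.map (phi n F q) (Subgroup.closure {A : ↥(Cfsg.SU n F q) | ∃ (v : Fin n → F) (c : F),
        Cfsg.hermForm n F q v v = 0 ∧
        ((A : Matrix.SpecialLinearGroup (Fin n) F) : Matrix (Fin n) (Fin n) F) =
          Cfsg.unitaryTransvection n q v c}) := by
    unfold TW
    rw [Subgroup.closure_le]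
    rintro g ⟨v, -, c, hv, hc, rfl⟩
    obtain ⟨B, hB⟩ := exists_lift (tv_mem_SUg hF v hc)
    refine ⟨B, Subgroup.subset_closure ⟨v, c, hv, ?_⟩, hB⟩
    rw [← phi_coe, hB, tv_coe hv]
  obtain ⟨B, hB, hBA⟩ := h2 h1
  rw [← phi_injective hBA]
  exact hB

end Cfsg.Agent.S0780
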