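import Cfsg.Statements.S0783
import Mathlib
import Cfsg.Agent.Lib.Helper27.UCenter

set_option autoImplicit false
open Cfsg

namespace Cfsg.Agent.S0783

open Cfsg.Agent.Lib.Helper27.Unitary Matrix

variable {F : Type*} [Field F] [Fintype F] {q n : ℕ}

/-- The group of elements of norm one. -/
def mu (F : Type*) [Field F] (q : ℕ) : Subgroup Fˣ := (powMonoidHom (q + 1) : Fˣ →* Fˣ).ker

theorem mem_mu {x : Fˣ} : x ∈ mu F q ↔ x ^ (q + 1) = 1 := by
  unfold mu
  rw [MonoidHom.mem_ker, powMonoidHom_apply]

theorem mem_mu' {x : Fˣ} : x ∈ mu F q ↔ (x : F) * (x : F) ^ q = 1 := by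
  rw [mem_mu, ← pow_succ', Units.ext_iff, Units.val_pow_eq_pow_val, Units.val_one]

theorem card_mu (hF : Fintype.card F = q ^ 2) : Nat.card (mu F q) = q + 1 := by
  rw [← Cfsg.Agent.S0754.result hF (1 : F) one_ne_zero (one_pow q)]
  refine Nat.card_congr ⟨fun x => ⟨(x.1 : F), ?_⟩, fun y => ⟨Units.mk0 y.1 ?_, ?_⟩, ?_, ?_⟩
  · have := mem_mu.mp x.2
    rw [Units.ext_iff, Units.val_pow_eq_pow_val, Units.val_one] at this
    exact this
  · intro h
    have := y.2
    rw [h, zero_pow (by omega)] at this
    exact zero_ne_one this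
  · rw [mem_mu, Units.ext_iff, Units.val_pow_eq_pow_val, Units.val_one, Units.val_mk0]
    exact y.2
  · intro x
    apply Subtype.ext
    apply Units.ext
    rfl
  · intro y
    rfl

/-- The scalar matrix as an element of `GL_n`. -/
noncomputable def scal (n : ℕ) (a : Fˣ) : GL (Fin n) F :=
  Matrix.GeneralLinearGroup.mkOfDetNeZero ((a : F) • (1 : Matrix (Fin n) (Fin n) F)) (by
    rw [Matrix.det_smul, Matrix.det_one, mul_one]
    exact pow_ne_zero _ a.ne_zero)

theorem gact_scal (a : Fˣ) (x : Fin n → F) : gact (scal n a) x = (a : F) • x := by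
  unfold gact scal
  rw [Matrix.GeneralLinearGroup.mkOfDetNeZero]
  simp [Matrix.smul_mulVec]

theorem det_scal (a : Fˣ) : (scal n a : Matrix (Fin n) (Fin n) F).det = (a : F) ^ n := by
  unfold scal
  rw [Matrix.GeneralLinearGroup.mkOfDetNeZero]
  simp [Matrix.det_smul]

theorem scal_mem_GU {a : Fˣ} (ha : a ∈ mu F q) : scal n a ∈ GU n F q := by
  rw [mem_GU_iff]
  intro u v
  rw [gact_scal, gact_scal, hf_smul_left, hf_smul_right, ← mul_assoc, mem_mu'.mp ha, one_mul]

theorem scal_comm (a : Fˣ) (g : GL (Fin n) F) : scal n a * g = g * scal n a := by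
  apply gact_ext
  intro x
  rw [gact_mul, gact_mul, gact_scal, gact_scal, gact_smul]

/-- The determinant as a homomorphism `GU_n → μ`. -/
noncomputable def detU (hF : Fintype.card F = q ^ 2) (n : ℕ) : ↥(GU n F q) →* ↥(mu F q) :=
  ((Matrix.GeneralLinearGroup.det : GL (Fin n) F →* Fˣ).comp (GU n F q).subtype).codRestrict
    (mu F q) (by
      intro g
      rw [mem_mu']
      exact GU_det hF g.2)

theorem detU_coe (hF : Fintype.card F = q ^ 2) (g : ↥(GU n F q)) :
    (((detU hF n g : ↥(mu F q)) : Fˣ) : F) = ((g : GL (Fin n) F) : Matrix (Fin n) (Fin n) F).det :=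
  rfl

theorem detU_surjective (hF : Fintype.card F = q ^ 2) (hn : 1 ≤ n) :
    Function.Surjective (detU hF n) := by
  intro l
  have hv : hermForm n F q (Pi.single (⟨0, by omega⟩ : Fin n) (1 : F))
      (Pi.single (⟨0, by omega⟩ : Fin n) (1 : F)) ≠ 0 := by
    rw [hf_single_right hF, Pi.single_eq_same]
    exact one_ne_zero
  obtain ⟨g, hg, hdet, -⟩ := exists_qr hF _ hv ((l : Fˣ) : F) (mem_mu'.mp l.2)
  refine ⟨⟨g, hg⟩, ?_⟩
  apply Subtype.ext
  apply Units.ext
  rw [detU_coe]
  exact hdet

/-- PGU_n(q)/PSU_n(q) is cyclic of order (n, q+1): for n ≥ 2 and |F| = q² there is a surjective homomorphism from GU_n(q) onto the cyclic group of order gcd(n, q + 1) whose kernel is generated by the determinant-one elements together with the centre. -/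
theorem result {F : Type*} [Field F] [Fintype F] {q : ℕ} (hF : Fintype.card F = q ^ 2) (n : ℕ) (hn : 2 ≤ n) : ∃ φ : ↥(Cfsg.GU n F q) →* Multiplicative (ZMod (Nat.gcd n (q + 1))), Function.Surjective φ ∧ φ.ker = (Matrix.GeneralLinearGroup.det : Matrix.GeneralLinearGroup (Fin n) F →* Fˣ).ker.subgroupOf (Cfsg.GU n F q) ⊔ Subgroup.center ↥(Cfsg.GU n F q) := by
  classical
  set d := Nat.gcd n (q + 1) with hd
  have hd0 : d ≠ 0 := by
    intro h
    have := Nat.gcd_eq_zero_iff.mp h
    omega
  haveI : NeZero d := ⟨hd0⟩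
  have hcyc : IsCyclic ↥(mu F q) := inferInstance
  set N := Nat.card ↥(mu F q) with hN
  have hNq : N = q + 1 := card_mu hF
  haveI : NeZero N := ⟨by rw [hNq]; omega⟩
  have hdN : d ∣ N := by rw [hNq]; exact Nat.gcd_dvd_right _ _
  have hdn : d ∣ n := Nat.gcd_dvd_left _ _
  let e : Multiplicative (ZMod N) ≃* ↥(mu F q) := zmodCyclicMulEquiv hcyc
  let c : ZMod N →+* ZMod d := ZMod.castHom hdN (ZMod d)
  let cM : Multiplicative (ZMod N) →* Multiplicative (ZMod d) :=
    AddMonoidHom.toMultiplicative c.toAddMonoidHom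
  have hcM : ∀ y : Multiplicative (ZMod N), cM y = Multiplicative.ofAdd (c (Multiplicative.toAdd y)) :=
    fun y => rfl
  let φ : ↥(GU n F q) →* Multiplicative (ZMod d) := cM.comp (e.symm.toMonoidHom.comp (detU hF n))
  have hφ : ∀ g, φ g = cM (e.symm (detU hF n g)) := fun g => rfl
  -- n-th powers die
  have hpow : ∀ x : Multiplicative (ZMod d), x ^ n = 1 := by
    intro x
    have : x ^ n = Multiplicative.ofAdd (n • Multiplicative.toAdd x) := rfl
    rw [this, nsmul_eq_mul, (ZMod.natCast_eq_zero_iff n d).mpr hdn, zero_mul]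
    rfl
  -- kernel criterion
  have hker : ∀ g : ↥(GU n F q), φ g = 1 ↔ ∃ l : ↥(mu F q), detU hF n g = l ^ n := by
    intro g
    constructor
    · intro h
      rw [hφ, hcM] at h
      set y : ZMod N := Multiplicative.toAdd (e.symm (detU hF n g)) with hy
      have hcy : c y = 0 := by
        have := congrArg Multiplicative.toAdd h
        simpa using this
      have hdvd : d ∣ y.val := by
        rw [← ZMod.natCast_eq_zero_iff]
        have : c y = ((y.val : ℕ) : ZMod d) := by
          rw [ZMod.castHom_apply, ZMod.cast_eq_val]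
        rw [← this]
        exact hcy
      obtain ⟨k, hk⟩ := hdvd
      have hbez : ((d : ℕ) : ZMod N) = (n : ZMod N) * ((Nat.gcdA n (q + 1) : ℤ) : ZMod N) := by
        have h1 := Nat.gcd_eq_gcd_ab n (q + 1)
        have h2 := congrArg (fun z : ℤ => (z : ZMod N)) h1
        simp only [Int.cast_natCast, Int.cast_add, Int.cast_mul] at h2
        rw [hd, h2]
        have : ((q + 1 : ℕ) : ZMod N) = 0 := by
          rw [← hNq]; exact ZMod.natCast_self N
        rw [this, zero_mul, add_zero]
      have hyn : y = n • (((Nat.gcdA n (q + 1) : ℤ) : ZMod N) * (k : ZMod N)) := by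
        rw [nsmul_eq_mul, ← mul_assoc, ← hbez, ← Nat.cast_mul, ← hk, ZMod.natCast_zmod_val]
      refine ⟨e (Multiplicative.ofAdd (((Nat.gcdA n (q + 1) : ℤ) : ZMod N) * (k : ZMod N))), ?_⟩
      rw [← map_pow]
      have : detU hF n g = e (Multiplicative.ofAdd y) := by
        rw [hy]
        simp
      rw [this, hyn]
      rfl
    · rintro ⟨l, hl⟩
      rw [hφ, hl, map_pow, map_pow, hpow]
  refine ⟨φ, ?_, ?_⟩
  · -- surjectivity
    intro z
    obtain ⟨y, hy⟩ := ZMod.ringHom_surjective c (Multiplicative.toAdd z)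
    obtain ⟨g, hg⟩ := detU_surjective hF (by omega : 1 ≤ n) (e (Multiplicative.ofAdd y))
    refine ⟨g, ?_⟩
    rw [hφ, hg, MulEquiv.symm_apply_apply, hcM]
    simp [hy]
  · -- kernel
    apply le_antisymm
    · intro g hg
      rw [MonoidHom.mem_ker, hker] at hg
      obtain ⟨l, hl⟩ := hg
      have hs : scal n (l : Fˣ) ∈ GU n F q := scal_mem_GU l.2
      have hdet : ((g : GL (Fin n) F) : Matrix (Fin n) (Fin n) F).det = ((l : Fˣ) : F) ^ n := by
        rw [← detU_coe hF, hl]
        simp
      have hmem1 : (g * ⟨scal n (l : Fˣ), hs⟩⁻¹ : ↥(GU n F q)) ∈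
          (Matrix.GeneralLinearGroup.det : GL (Fin n) F →* Fˣ).ker.subgroupOf (GU n F q) := by
        rw [Subgroup.mem_subgroupOf, MonoidHom.mem_ker]
        apply Units.ext
        simp only [Subgroup.coe_mul, InvMemClass.coe_inv, map_mul, map_inv, Units.val_mul,
          Units.val_one]
        rw [Matrix.GeneralLinearGroup.val_det_apply, hdet]
        have : ((Matrix.GeneralLinearGroup.det (scal n (l : Fˣ)))⁻¹ : Fˣ) =
            ((l : Fˣ) ^ n)⁻¹ := by
          congr 1
          apply Units.ext
          rw [Matrix.GeneralLinearGroup.val_det_apply, det_scal, Units.val_pow_eq_pow_val]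
        rw [this]
        simp
      have hmem2 : (⟨scal n (l : Fˣ), hs⟩ : ↥(GU n F q)) ∈ Subgroup.center ↥(GU n F q) := by
        rw [Subgroup.mem_center_iff]
        intro h
        apply Subtype.ext
        exact (scal_comm (l : Fˣ) (h : GL (Fin n) F)).symm
      have : g = (g * ⟨scal n (l : Fˣ), hs⟩⁻¹) * ⟨scal n (l : Fˣ), hs⟩ := by group
      rw [this]
      exact Subgroup.mul_mem_sup hmem1 hmem2
    · apply sup_le
      · intro g hg
        rw [Subgroup.mem_subgroupOf, MonoidHom.mem_ker] at hg
        rw [MonoidHom.mem_ker, hker]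
        refine ⟨1, ?_⟩
        rw [one_pow]
        apply Subtype.ext
        exact hg
      · intro z hz
        rw [Subgroup.mem_center_iff] at hz
        rw [MonoidHom.mem_ker, hker]
        obtain ⟨a, ha⟩ := scalar_of_commute hF (z : GL (Fin n) F) (by
          intro g hg
          have := hz ⟨g, hg⟩
          have h2 := congrArg (fun w : ↥(GU n F q) => (w : GL (Fin n) F)) this
          exact h2.symm)
        -- `a` has norm one
        have ha1 : a * a ^ q = 1 := by
          have h1 := GU_preserves z.2 (Pi.single (⟨0, by omega⟩ : Fin n) (1 : F))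
            (Pi.single (⟨0, by omega⟩ : Fin n) (1 : F))
          rw [ha, hf_smul_left, hf_smul_right, hf_single_right hF, Pi.single_eq_same] at h1
          linear_combination h1
        have ha0 : a ≠ 0 := by
          rintro rfl
          rw [zero_mul] at ha1
          exact zero_ne_one ha1
        have hamu : Units.mk0 a ha0 ∈ mu F q := by
          rw [mem_mu', Units.val_mk0]
          exact ha1
        refine ⟨⟨Units.mk0 a ha0, hamu⟩, ?_⟩
        apply Subtype.ext
        apply Units.ext
        rw [detU_coe]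
        have hz' : (z : GL (Fin n) F) = scal n (Units.mk0 a ha0) := by
          apply gact_ext
          intro x
          rw [ha, gact_scal, Units.val_mk0]
        rw [hz', det_scal]
        simp

end Cfsg.Agent.S0783
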