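import Mathlib
import Cfsg.Statements.S1324
import Cfsg.Agent.Lib.Helper12.Generation

set_option autoImplicit false
open Cfsg

namespace Cfsg.Agent.S1324

/-- In an elementary abelian `p`-group every nontrivial element is avoided by a subgroup of index `p`. -/
theorem exists_hyperplane_not_mem {E : Type*} [CommGroup E] [Finite E] {p : ℕ} [Fact p.Prime]
    (hexp : ∀ a : E, a ^ p = 1) (b : E) (hb : b ≠ 1) :
    ∃ E' : Subgroup E, b ∉ E' ∧ E'.index = p := by
  classical
  have hp : p.Prime := Fact.out
  have hord : ∀ c : E, c ≠ 1 → orderOf c = p := by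
    intro c hc
    rcases (Nat.dvd_prime hp).mp (orderOf_dvd_of_pow_eq_one (hexp c)) with h | h
    · exact absurd (orderOf_eq_one_iff.mp h) hc
    · exact h
  -- if `c ^ n ≠ 1` then `c` is a power of `c ^ n`
  have hgen : ∀ (c : E) (n : ℕ), c ^ n ≠ 1 → ∃ m : ℕ, (c ^ n) ^ m = c := by
    intro c n hcn
    have hc1 : c ≠ 1 := by
      intro h; apply hcn; rw [h, one_pow]
    apply exists_pow_eq_self_of_coprime
    rw [hord c hc1, Nat.coprime_comm, Nat.Prime.coprime_iff_not_dvd hp]
    intro hdvd
    apply hcn
    obtain ⟨k, rfl⟩ := hdvd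
    rw [pow_mul, hexp, one_pow]
  have hfin : {E' : Subgroup E | b ∉ E'}.Finite := Set.toFinite _
  have hne : {E' : Subgroup E | b ∉ E'}.Nonempty :=
    ⟨⊥, by simpa [Subgroup.mem_bot] using hb⟩
  obtain ⟨E', hE', hmax⟩ := Set.exists_max_image _ (fun E' : Subgroup E => Nat.card E') hfin hne
  have hE'b : b ∉ E' := hE'
  refine ⟨E', hE'b, ?_⟩
  have hsup : E' ⊔ Subgroup.zpowers b = ⊤ := by
    by_contra hne'
    obtain ⟨c, hc⟩ : ∃ c, c ∉ E' ⊔ Subgroup.zpowers b := by
      by_contra h
      push Not at h
      exact hne' (eq_top_iff.mpr fun x _ => h x)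
    have hcE' : c ∉ E' := fun h => hc ((le_sup_left : E' ≤ E' ⊔ Subgroup.zpowers b) h)
    have hbF : b ∉ E' ⊔ Subgroup.zpowers c := by
      intro hbm
      obtain ⟨a', ha', u, hu, hau⟩ := Subgroup.mem_sup.mp hbm
      rw [← (isOfFinOrder_of_finite c).mem_powers_iff_mem_zpowers] at hu
      obtain ⟨n, rfl⟩ := (Submonoid.mem_powers_iff _ _).mp hu
      by_cases hcn : c ^ n = 1
      · rw [hcn, mul_one] at hau
        exact hE'b (hau ▸ ha')
      · obtain ⟨m, hm⟩ := hgen c n hcn
        apply hc
        rw [← hm]
        apply Subgroup.pow_mem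
        have e : c ^ n = a'⁻¹ * b := by rw [← hau]; group
        rw [e]
        exact Subgroup.mul_mem_sup (E'.inv_mem ha') (Subgroup.mem_zpowers b)
    have hle : Nat.card (E' ⊔ Subgroup.zpowers c : Subgroup E) ≤ Nat.card E' := hmax _ hbF
    have hEq : E' = E' ⊔ Subgroup.zpowers c := Subgroup.eq_of_le_of_card_ge le_sup_left hle
    apply hcE'
    rw [hEq]
    exact (le_sup_right : Subgroup.zpowers c ≤ E' ⊔ Subgroup.zpowers c) (Subgroup.mem_zpowers c)
  have hinf : E' ⊓ Subgroup.zpowers b = ⊥ := by
    rw [eq_bot_iff]
    rintro u ⟨huE, huZ⟩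
    rw [Subgroup.mem_bot]
    by_contra hu1
    have huZ' : u ∈ Subgroup.zpowers b := huZ
    have huE : u ∈ E' := huE
    rw [← (isOfFinOrder_of_finite b).mem_powers_iff_mem_zpowers] at huZ'
    obtain ⟨n, rfl⟩ := (Submonoid.mem_powers_iff _ _).mp huZ'
    obtain ⟨m, hm⟩ := hgen b n hu1
    apply hE'b
    rw [← hm]
    exact E'.pow_mem huE m
  have h1 : E'.relIndex (Subgroup.zpowers b ⊔ E') = E'.relIndex (Subgroup.zpowers b) :=
    Subgroup.relIndex_sup_right (Subgroup.zpowers b) E'
  rw [sup_comm, hsup, Subgroup.relIndex_top_right, ← Subgroup.inf_relIndex_right, hinf,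
    Subgroup.relIndex_bot_left, Nat.card_zpowers, hord b hb] at h1
  exact h1

theorem relIndex_mul_card {G : Type*} [Group G] {B A : Subgroup G} (h : B ≤ A) :
    Nat.card B * B.relIndex A = Nat.card A := by
  have := Subgroup.relIndex_mul_relIndex (⊥ : Subgroup G) B A bot_le h
  rwa [Subgroup.relIndex_bot_left, Subgroup.relIndex_bot_left] at this

theorem main {G : Type*} [Group G] [Finite G] (p : ℕ) [Fact p.Prime] :
    ∀ n : ℕ, ∀ A X : Subgroup G, Nat.card A = n → IsMulCommutative A → (∀ a ∈ A, a ^ p = 1) →
      p ^ 2 ≤ Nat.card A → (Nat.card X).Coprime p → A ≤ Subgroup.normalizer (X : Set G) →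
      X ≤ ⨆ B : {B : Subgroup G // B ≤ A ∧ B.relIndex A ≤ p},
        X ⊓ Subgroup.centralizer ((B : Subgroup G) : Set G) := by
  intro n
  induction n using Nat.strong_induction_on with
  | _ n ih =>
    intro A X hn hAc hAe hA2 hcop hAX
    have hp : p.Prime := Fact.out
    have hAp : IsPGroup p A := by
      rintro ⟨a, ha⟩
      refine ⟨1, Subtype.ext ?_⟩
      simpa using hAe a ha
    have hcomm : ∀ a ∈ A, ∀ c ∈ A, a * c = c * a := by
      intro a ha c hc
      have := mul_comm' (⟨a, ha⟩ : A) ⟨c, hc⟩
      exact congrArg Subtype.val this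
    set K₀ : Subgroup G := ⨆ B : {B : Subgroup G // B ≤ A ∧ B.relIndex A ≤ p},
        X ⊓ Subgroup.centralizer ((B : Subgroup G) : Set G) with hK₀
    have hordA : ∀ b ∈ A, b ≠ 1 → orderOf b = p := by
      intro b hb hb1
      rcases (Nat.dvd_prime hp).mp (orderOf_dvd_of_pow_eq_one (hAe b hb)) with h | h
      · exact absurd (orderOf_eq_one_iff.mp h) hb1
      · exact h
    -- the key claim: centralizers of nonidentity elements of A lie in K₀
    have key : ∀ b ∈ A, b ≠ 1 → X ⊓ Subgroup.centralizer ({b} : Set G) ≤ K₀ := by
      intro b hbA hb1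
      have hzb : Subgroup.zpowers b ≤ A := by rwa [Subgroup.zpowers_le]
      have hCb : Subgroup.centralizer ({b} : Set G) ≤
          Subgroup.centralizer ((Subgroup.zpowers b : Subgroup G) : Set G) := by
        intro g hg
        rw [Subgroup.mem_centralizer_singleton_iff] at hg
        rw [Subgroup.mem_centralizer_iff]
        intro z hz
        obtain ⟨k, rfl⟩ := Subgroup.mem_zpowers_iff.mp hz
        exact ((Commute.zpow_right hg k).eq).symm
      by_cases hcard : Nat.card A = p ^ 2
      · have hrel : (Subgroup.zpowers b).relIndex A ≤ p := by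
          have h1 := relIndex_mul_card hzb
          rw [Nat.card_zpowers, hordA b hbA hb1, hcard, pow_two] at h1
          have := Nat.eq_of_mul_eq_mul_left hp.pos h1
          omega
        exact le_iSup_of_le ⟨Subgroup.zpowers b, hzb, hrel⟩ (inf_le_inf_left _ hCb)
      · -- a hyperplane avoiding b
        letI : CommGroup A :=
          { (inferInstance : Group A) with mul_comm := fun a c => mul_comm' a c }
        obtain ⟨E', hE'b, hE'i⟩ := exists_hyperplane_not_mem (E := A) (p := p)
          (fun a => Subtype.ext (by simpa using hAe a a.2)) ⟨b, hbA⟩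
          (fun h => hb1 (congrArg Subtype.val h))
        set A' : Subgroup G := E'.map A.subtype with hA'
        have hA'A : A' ≤ A := Subgroup.map_subtype_le _
        have hA'card : Nat.card A' = Nat.card E' := Subgroup.card_map_of_injective A.subtype_injective
        have hcardA : Nat.card A = Nat.card A' * p := by
          rw [hA'card, ← hE'i]; exact (Subgroup.card_mul_index E').symm
        have hbA' : b ∉ A' := by
          rintro ⟨e, he, heb⟩
          apply hE'b
          have : e = ⟨b, hbA⟩ := Subtype.ext heb
          rwa [← this]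
        have hA'p : IsPGroup p A' := hAp.to_le hA'A
        obtain ⟨k, hk⟩ := IsPGroup.iff_card.mp hA'p
        have hA'2 : p ^ 2 ≤ Nat.card A' := by
          have hlt : p ^ 2 < Nat.card A := lt_of_le_of_ne hA2 (Ne.symm hcard)
          rw [hcardA, hk, pow_two] at hlt
          have hk1 : p < p ^ k := by
            have := Nat.lt_of_mul_lt_mul_right hlt
            exact this
          have hk2 : 1 < k := by
            by_contra hk2
            push Not at hk2
            have : p ^ k ≤ p ^ 1 := Nat.pow_le_pow_right hp.pos hk2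
            rw [pow_one] at this
            omega
          rw [hk]
          exact Nat.pow_le_pow_right hp.pos hk2
        set Xb : Subgroup G := X ⊓ Subgroup.centralizer ({b} : Set G) with hXb
        have hA'X : A' ≤ Subgroup.normalizer (Xb : Set G) := by
          intro a ha
          have haA : a ∈ A := hA'A ha
          apply Subgroup.mem_normalizer_fintype
          rintro g ⟨hgX, hgb⟩
          have hgb : g ∈ Subgroup.centralizer ({b} : Set G) := hgb
          refine ⟨(Subgroup.mem_normalizer_iff.mp (hAX haA) g).mp hgX, ?_⟩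
          change a * g * a⁻¹ ∈ Subgroup.centralizer ({b} : Set G)
          rw [Subgroup.mem_centralizer_singleton_iff] at hgb ⊢
          have hab : a * b = b * a := hcomm a haA b hbA
          have hab' : a⁻¹ * b = b * a⁻¹ := by
            calc a⁻¹ * b = a⁻¹ * (b * a) * a⁻¹ := by group
              _ = a⁻¹ * (a * b) * a⁻¹ := by rw [hab]
              _ = b * a⁻¹ := by group
          calc a * g * a⁻¹ * b = a * g * (a⁻¹ * b) := by group
            _ = a * g * (b * a⁻¹) := by rw [hab']
            _ = a * (g * b) * a⁻¹ := by group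
            _ = a * (b * g) * a⁻¹ := by rw [hgb]
            _ = (a * b) * g * a⁻¹ := by group
            _ = (b * a) * g * a⁻¹ := by rw [hab]
            _ = b * (a * g * a⁻¹) := by group
        have hXbcop : (Nat.card Xb).Coprime p :=
          Nat.Coprime.coprime_dvd_left (Subgroup.card_dvd_of_le inf_le_left) hcop
        have hlt : Nat.card A' < n := by
          rw [← hn, hcardA]
          have hpos : 0 < Nat.card A' := Nat.card_pos
          have := hp.one_lt
          nlinarith
        have hA'c : IsMulCommutative A' := by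
          rw [isMulCommutative_iff]
          rintro ⟨a, ha⟩ ⟨c, hc⟩
          exact Subtype.ext (hcomm a (hA'A ha) c (hA'A hc))
        have hIH := ih (Nat.card A') hlt A' Xb rfl hA'c (fun a ha => hAe a (hA'A ha)) hA'2 hXbcop hA'X
        refine hIH.trans ?_
        apply iSup_le
        rintro ⟨B', hB'A', hB'rel⟩
        set B : Subgroup G := Subgroup.zpowers b ⊔ B' with hB
        have hBA : B ≤ A := sup_le hzb (hB'A'.trans hA'A)
        have hB'B : B' ≤ B := le_sup_right
        have hbB : b ∈ B := (le_sup_left : Subgroup.zpowers b ≤ B) (Subgroup.mem_zpowers b)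
        have hbB' : b ∉ B' := fun h => hbA' (hB'A' h)
        -- |B| ≥ p |B'|
        have hBcard : p * Nat.card B' ≤ Nat.card B := by
          obtain ⟨s, hs⟩ := IsPGroup.iff_card.mp (hAp.to_le hBA)
          obtain ⟨t, ht⟩ := IsPGroup.iff_card.mp (hAp.to_le ((hB'A'.trans hA'A)))
          have hle : Nat.card B' ≤ Nat.card B := Subgroup.card_le_of_le hB'B
          have hne : Nat.card B' ≠ Nat.card B := by
            intro h
            apply hbB'
            have := Subgroup.eq_of_le_of_card_ge hB'B (le_of_eq h.symm)
            rw [this]; exact hbB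
          rw [hs, ht] at hle hne ⊢
          have hts : t < s := by
            rcases Nat.lt_or_ge t s with h | h
            · exact h
            · exfalso
              have : p ^ s ≤ p ^ t := Nat.pow_le_pow_right hp.pos h
              omega
          calc p * p ^ t = p ^ (t + 1) := by rw [pow_succ, mul_comm]
            _ ≤ p ^ s := Nat.pow_le_pow_right hp.pos hts
        have hBrel : B.relIndex A ≤ p := by
          have h1 := relIndex_mul_card hBA
          have h2 := relIndex_mul_card hB'A'
          -- card A = card A' * p ≤ (card B' * relIndex) * p ≤ card B' * p * p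
          have hpos : 0 < Nat.card B := Nat.card_pos
          have h3 : Nat.card A ≤ Nat.card B * p := by
            calc Nat.card A = Nat.card A' * p := hcardA
              _ = Nat.card B' * B'.relIndex A' * p := by rw [h2]
              _ ≤ Nat.card B' * p * p := by
                  apply Nat.mul_le_mul_right
                  exact Nat.mul_le_mul_left _ hB'rel
              _ = p * Nat.card B' * p := by rw [mul_comm (Nat.card B') p]
              _ ≤ Nat.card B * p := Nat.mul_le_mul_right _ hBcard
          rw [← h1] at h3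
          exact Nat.le_of_mul_le_mul_left h3 hpos
        refine le_iSup_of_le ⟨B, hBA, hBrel⟩ ?_
        rintro g ⟨⟨hgX, hgb⟩, hgB'⟩
        have hgb : g ∈ Subgroup.centralizer ({b} : Set G) := hgb
        have hgB' : g ∈ Subgroup.centralizer ((B' : Subgroup G) : Set G) := hgB'
        refine ⟨hgX, ?_⟩
        change g ∈ Subgroup.centralizer ((B : Subgroup G) : Set G)
        -- g centralizes B
        have h1 : Subgroup.zpowers b ≤ Subgroup.centralizer ({g} : Set G) := by
          rw [Subgroup.zpowers_le, Subgroup.mem_centralizer_singleton_iff]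
          exact ((Subgroup.mem_centralizer_singleton_iff.mp hgb)).symm
        have h2 : B' ≤ Subgroup.centralizer ({g} : Set G) := by
          intro z hz
          rw [Subgroup.mem_centralizer_singleton_iff]
          exact (Subgroup.mem_centralizer_iff.mp hgB' z hz)
        have h3 : B ≤ Subgroup.centralizer ({g} : Set G) := sup_le h1 h2
        rw [Subgroup.mem_centralizer_iff]
        intro z hz
        exact (Subgroup.mem_centralizer_singleton_iff.mp (h3 hz))
    -- now pick independent x, y
    letI : CommGroup A :=
      { (inferInstance : Group A) with mul_comm := fun a c => mul_comm' a c }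
    have hAncyc : ¬ IsCyclic A := by
      intro hcyc
      obtain ⟨g, hg⟩ := hcyc.exists_generator
      have hcard : Nat.card A = orderOf g := by
        rw [← Nat.card_zpowers]
        have : Subgroup.zpowers g = ⊤ := by
          rw [eq_top_iff]; intro a _; exact hg a
        rw [this, Subgroup.card_top]
      have hgp : g ^ p = 1 := Subtype.ext (by simpa using hAe g g.2)
      have hle : orderOf g ≤ p := Nat.le_of_dvd hp.pos (orderOf_dvd_of_pow_eq_one hgp)
      have hlt : p < p ^ 2 := by
        have := hp.one_lt
        nlinarith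
      omega
    obtain ⟨p', hp', x, y, hxp', hyp', hx1, hyx⟩ := Cfsg.Agent.Lib.Helper12.exists_rank_two hAncyc
    have hx1G : (x : G) ≠ 1 := fun h => hx1 (Subtype.ext h)
    have hxpG : (x : G) ^ p = 1 := hAe x x.2
    have hypG : (y : G) ^ p = 1 := hAe y y.2
    have hne : ∀ i : ℕ, (x : G) ^ i * (y : G) ≠ 1 := by
      intro i h
      apply hyx
      have : y = (x ^ i)⁻¹ := by
        apply Subtype.ext
        simp only [Subgroup.coe_inv, Subgroup.coe_pow]
        exact eq_inv_of_mul_eq_one_right h
      rw [this]
      exact Subgroup.inv_mem _ (Subgroup.pow_mem _ (Subgroup.mem_zpowers x) i)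
    apply Cfsg.Agent.Lib.Helper12.le_gen_of_coprime X hcop (x : G) (y : G) (hAX x.2) (hAX y.2)
      (hcomm x x.2 y y.2) hxpG hypG
    · exact key x x.2 hx1G
    · intro i
      exact key _ (A.mul_mem (A.pow_mem x.2 _) y.2) (hne i.val)

/-- Let A be a noncyclic elementary abelian p-subgroup of a finite group H normalizing a subgroup X of order prime to p. Then X is generated by the subgroups X ∩ C_H(B), B ranging over the subgroups of A of index at most p. -/
theorem result {H : Type*} [Group H] [Finite H] (p : ℕ) [Fact p.Prime] (A X : Subgroup H) (hA : Cfsg.IsElementaryAbelian p A) (hA2 : p ^ 2 ≤ Nat.card ↥A) (hX : ¬ p ∣ Nat.card ↥X) (hAX : A ≤ Subgroup.normalizer (X : Set H)) : X = ⨆ B : {B : Subgroup H // B ≤ A ∧ B.relIndex A ≤ p}, X ⊓ Subgroup.centralizer ((B : Subgroup H) : Set H) := by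
  have hp : p.Prime := Fact.out
  apply le_antisymm
  · exact main p _ A X rfl hA.1 hA.2 hA2
      (by rw [Nat.coprime_comm, Nat.Prime.coprime_iff_not_dvd hp]; exact hX) hAX
  · exact iSup_le (fun B => inf_le_left)

end Cfsg.Agent.S1324
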