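import Mathlib
import Cfsg.Statements.S3981
import Cfsg.Agent.Lib.Helper12.StronglyEmbedded

set_option autoImplicit false
open Cfsg
open Cfsg.Agent.Lib.Helper12

namespace Cfsg.Agent.S3981

variable {G : Type*} [Group G] [Finite G]

/-- Normalizers grow in `p`-groups: a proper subgroup `S` of a finite `p`-group `R` is properly
contained in `R ⊓ N(S)`. -/
theorem ne_inf_normalizer {p : ℕ} [Fact p.Prime] (S R : Subgroup G) (hR : IsPGroup p R)
    (hSR : S ≤ R) (hne : S ≠ R) : S ≠ R ⊓ Subgroup.normalizer (S : Set G) := by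
  haveI hnil : Group.IsNilpotent R := hR.isNilpotent
  have hnc := normalizerCondition_of_isNilpotent (G := R)
  have hlt : S.subgroupOf R < ⊤ := by
    rw [lt_top_iff_ne_top]
    intro h
    apply hne
    apply le_antisymm hSR
    intro r hr
    have : (⟨r, hr⟩ : R) ∈ S.subgroupOf R := by rw [h]; trivial
    exact Subgroup.mem_subgroupOf.mp this
  obtain ⟨r, hrN, hrS⟩ := SetLike.exists_of_lt (hnc _ hlt)
  intro hEq
  apply hrS
  rw [Subgroup.mem_subgroupOf, hEq]
  refine ⟨r.2, ?_⟩
  apply Subgroup.mem_normalizer_fintype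
  intro s hs
  have h1 := (Subgroup.mem_normalizer_iff.mp hrN ⟨s, hSR hs⟩).mp (Subgroup.mem_subgroupOf.mpr hs)
  rw [Subgroup.mem_subgroupOf] at h1
  simpa using h1

/-- Let p be an odd prime, Q a p-subgroup of the finite group G and y an involution normalizing Q. Then Q is maximal among the p-subgroups of G normalized by y if and only if the image of y in N_G(Q) ⧸ Q neither inverts nor centralizes any element of order p there; the latter is phrased inside N_G(Q): for every x in N_G(Q) outside Q with x ^ p ∈ Q, neither y x y⁻¹ x nor y x y⁻¹ x⁻¹ lies in Q. -/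
theorem result {G : Type*} [Group G] [Finite G] (p : ℕ) [Fact p.Prime] (hp2 : p ≠ 2) (Q : Subgroup G) (hQ : IsPGroup p ↥Q) (y : G) (hy : orderOf y = 2) (hyQ : y ∈ Subgroup.normalizer (Q : Set G)) : (∀ R : Subgroup G, IsPGroup p ↥R → Q ≤ R → y ∈ Subgroup.normalizer (R : Set G) → R = Q) ↔ ∀ x : G, x ∈ Subgroup.normalizer (Q : Set G) → x ∉ Q → x ^ p ∈ Q → (y * x * y⁻¹ * x ∉ Q ∧ y * x * y⁻¹ * x⁻¹ ∉ Q) := by
  have hp : p.Prime := Fact.out
  have hy2 : y * y = 1 := by rw [← pow_two, ← hy]; exact pow_orderOf_eq_one y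
  have hyinv : y⁻¹ = y := inv_eq_of_mul_eq_one_left hy2
  have hyQ' : ∀ q ∈ Q, y * q * y⁻¹ ∈ Q := fun q hq => (Subgroup.mem_normalizer_iff.mp hyQ q).mp hq
  constructor
  · intro hmax x hxN hxQ hxp
    -- x is a p-element
    have hzp : IsPGroup p (Subgroup.zpowers x) := by
      obtain ⟨k, hk⟩ := (IsPGroup.iff_orderOf.mp hQ) ⟨x ^ p, hxp⟩
      have h1 : (x ^ p) ^ (p ^ k) = 1 := by
        have := pow_orderOf_eq_one (⟨x ^ p, hxp⟩ : Q)
        rw [hk] at this
        exact congrArg Subtype.val this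
      rw [← pow_mul, ← pow_succ'] at h1
      rintro ⟨z, hz⟩
      obtain ⟨j, rfl⟩ := Subgroup.mem_zpowers_iff.mp hz
      refine ⟨k + 1, Subtype.ext ?_⟩
      simp only [Subgroup.coe_pow, Subgroup.coe_one]
      rw [← zpow_natCast, ← zpow_mul, mul_comm, zpow_mul, zpow_natCast, h1, one_zpow]
    have hRp : IsPGroup p (Q ⊔ Subgroup.zpowers x : Subgroup G) :=
      IsPGroup.to_sup_of_normal_left' hQ hzp (by rwa [Subgroup.zpowers_le])
    -- if y x y⁻¹ ∈ R then y normalizes R
    have key : y * x * y⁻¹ ∈ (Q ⊔ Subgroup.zpowers x : Subgroup G) → False := by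
      intro hmem
      have hyR : y ∈ Subgroup.normalizer ((Q ⊔ Subgroup.zpowers x : Subgroup G) : Set G) := by
        apply Subgroup.mem_normalizer_fintype
        have hle : (Q ⊔ Subgroup.zpowers x : Subgroup G) ≤
            (Q ⊔ Subgroup.zpowers x : Subgroup G).comap (MulAut.conj y).toMonoidHom := by
          apply sup_le
          · intro q hq
            rw [Subgroup.mem_comap]
            exact (le_sup_left : Q ≤ Q ⊔ Subgroup.zpowers x) (by simpa using hyQ' q hq)
          · rw [Subgroup.zpowers_le, Subgroup.mem_comap]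
            simpa using hmem
        intro r hr
        have := hle hr
        rw [Subgroup.mem_comap] at this
        simpa using this
      have := hmax _ hRp le_sup_left hyR
      apply hxQ
      rw [← this]
      exact (le_sup_right : Subgroup.zpowers x ≤ Q ⊔ Subgroup.zpowers x) (Subgroup.mem_zpowers x)
    have hxR : x ∈ (Q ⊔ Subgroup.zpowers x : Subgroup G) :=
      (le_sup_right : Subgroup.zpowers x ≤ Q ⊔ Subgroup.zpowers x) (Subgroup.mem_zpowers x)
    constructor
    · intro h
      apply key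
      have e : y * x * y⁻¹ = (y * x * y⁻¹ * x) * x⁻¹ := by group
      rw [e]
      exact Subgroup.mul_mem _ (le_sup_left (a := Q) h) (Subgroup.inv_mem _ hxR)
    · intro h
      apply key
      have e : y * x * y⁻¹ = (y * x * y⁻¹ * x⁻¹) * x := by group
      rw [e]
      exact Subgroup.mul_mem _ (le_sup_left (a := Q) h) hxR
  · intro hx R hR hQR hyR
    by_contra hne
    have hne' : Q ≠ R := fun h => hne h.symm
    set N : Subgroup G := R ⊓ Subgroup.normalizer (Q : Set G) with hN
    have hQN : Q ≤ N := le_inf hQR Subgroup.le_normalizer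
    have hQNne : Q ≠ N := ne_inf_normalizer Q R hR hQR hne'
    have hNp : IsPGroup p N := hR.to_le inf_le_left
    have hyN : ∀ n ∈ N, y * n * y⁻¹ ∈ N := by
      intro n hn
      refine ⟨(Subgroup.mem_normalizer_iff.mp hyR n).mp hn.1, ?_⟩
      exact Subgroup.mul_mem _ (Subgroup.mul_mem _ hyQ hn.2) (Subgroup.inv_mem _ hyQ)
    haveI hQn : (Q.subgroupOf N).Normal :=
      (Subgroup.normal_subgroupOf_iff_le_normalizer hQN).mpr inf_le_right
    set π := QuotientGroup.mk' (Q.subgroupOf N) with hπ
    have hπ1 : ∀ n : N, π n = 1 ↔ (n : G) ∈ Q := by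
      intro n
      rw [hπ, QuotientGroup.mk'_apply, QuotientGroup.eq_one_iff, Subgroup.mem_subgroupOf]
    have hAp : IsPGroup p (N ⧸ Q.subgroupOf N) := hNp.to_quotient _
    haveI hAnt : Nontrivial (N ⧸ Q.subgroupOf N) := by
      obtain ⟨n, hnN, hnQ⟩ : ∃ n, n ∈ N ∧ n ∉ Q := by
        by_contra hcon
        push Not at hcon
        exact hQNne (le_antisymm hQN hcon)
      refine ⟨⟨π ⟨n, hnN⟩, 1, ?_⟩⟩
      rw [Ne, hπ1]
      exact hnQ
    haveI := hAp.center_nontrivial
    have hcp : IsPGroup p (Subgroup.center (N ⧸ Q.subgroupOf N)) := hAp.to_subgroup _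
    obtain ⟨k, hk0, hk⟩ := hcp.nontrivial_iff_card.mp inferInstance
    have hdvd : p ∣ Nat.card (Subgroup.center (N ⧸ Q.subgroupOf N)) := by
      rw [hk]; exact dvd_pow_self p hk0.ne'
    obtain ⟨c, hc⟩ := exists_prime_orderOf_dvd_card' (G := Subgroup.center (N ⧸ Q.subgroupOf N)) p hdvd
    obtain ⟨z, hz⟩ := QuotientGroup.mk'_surjective (Q.subgroupOf N) (c : N ⧸ Q.subgroupOf N)
    have hzc : ∀ a : N ⧸ Q.subgroupOf N, a * π z = π z * a := by
      intro a
      rw [hπ, hz]
      exact Subgroup.mem_center_iff.mp c.2 a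
    have hzo : orderOf (π z) = p := by rw [hπ, hz, Subgroup.orderOf_coe]; exact hc
    have hz1 : (z : G) ∉ Q := by
      rw [← hπ1]
      intro h
      rw [h, orderOf_one] at hzo
      exact hp.one_lt.ne hzo
    have hzp : (z : G) ^ p ∈ Q := by
      have : π (z ^ p) = 1 := by rw [map_pow, ← hzo, pow_orderOf_eq_one]
      rw [hπ1] at this
      simpa using this
    set z' : N := ⟨y * z * y⁻¹, hyN z z.2⟩ with hz'
    have hz'p : π (z' ^ p) = 1 := by
      rw [hπ1]
      have e : ((z' ^ p : N) : G) = y * (z : G) ^ p * y⁻¹ := by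
        rw [Subgroup.coe_pow, hz']
        simp only
        rw [← MulAut.conj_apply, ← map_pow, MulAut.conj_apply]
      rw [e]
      exact hyQ' _ hzp
    set w : N := z * z' with hw
    have hwp : π (w ^ p) = 1 := by
      rw [hw, map_pow, map_mul]
      have hcomm : Commute (π z) (π z') := (hzc (π z')).symm
      rw [hcomm.mul_pow, ← map_pow π z', hz'p, mul_one, ← hzo, pow_orderOf_eq_one]
    have hzN : (z : G) ∈ Subgroup.normalizer (Q : Set G) := z.2.2
    have hwN : (w : G) ∈ Subgroup.normalizer (Q : Set G) := w.2.2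
    by_cases hwQ : (w : G) ∈ Q
    · -- y inverts z modulo Q
      have h1 := (hx z hzN hz1 hzp).1
      apply h1
      have e : y * (z : G) * y⁻¹ * z = ((z' * z : N) : G) := by
        rw [hz']; rfl
      rw [e, ← hπ1, map_mul, hzc (π z'), ← map_mul, hπ1]
      exact hwQ
    · -- y centralizes w modulo Q
      have hwp' : (w : G) ^ p ∈ Q := by
        have := (hπ1 (w ^ p)).mp hwp
        simpa using this
      have h2 := (hx w hwN hwQ hwp').2
      apply h2
      have e : y * (w : G) * y⁻¹ * (w : G)⁻¹ = ((z' * z * (z * z')⁻¹ : N) : G) := by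
        rw [hw, hz']
        simp only [Subgroup.coe_mul, Subgroup.coe_inv]
        rw [hyinv]
        have e1 : y * ((z : G) * (y * z * y)) * y = (y * z * y) * z * (y * y) := by group
        rw [e1, hy2, mul_one]
      rw [e, ← hπ1, map_mul, map_inv, map_mul, map_mul, hzc (π z'), mul_inv_cancel]

end Cfsg.Agent.S3981
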