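import Mathlib
import Cfsg.Statements.S1282
import Cfsg.Agent.S1324
import Cfsg.Agent.S3981

set_option autoImplicit false
open Cfsg

namespace Cfsg.Agent.S1282

/-- Let A be an elementary abelian p-subgroup of rank at least 3 of the finite group G, q ≠ p a prime, and Q₁, Q₂ q-subgroups normalized by A with D = Q₁ ∩ Q₂ different from both. Then there is a non-identity a ∈ A such that, for i = 1 and i = 2, N_{Q_i}(D) ∩ C_G(a) is not contained in D. -/
theorem result {G : Type*} [Group G] [Finite G] (p : ℕ) [Fact p.Prime] (A : Subgroup G) (hA : Cfsg.IsElementaryAbelian p A) (hA3 : p ^ 3 ≤ Nat.card ↥A) (q : ℕ) [Fact q.Prime] (hqp : q ≠ p) (Q₁ Q₂ : Subgroup G) (h₁ : IsPGroup q ↥Q₁) (h₂ : IsPGroup q ↥Q₂) (hA₁ : A ≤ Subgroup.normalizer (Q₁ : Set G)) (hA₂ : A ≤ Subgroup.normalizer (Q₂ : Set G)) (hD₁ : Q₁ ⊓ Q₂ ≠ Q₁) (hD₂ : Q₁ ⊓ Q₂ ≠ Q₂) : ∃ a ∈ A, a ≠ 1 ∧ ¬ (Subgroup.normalizer ((Q₁ ⊓ Q₂ : Subgroup G) : Set G) ⊓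 Q₁ ⊓ Subgroup.centralizer {a} ≤ Q₁ ⊓ Q₂) ∧ ¬ (Subgroup.normalizer ((Q₁ ⊓ Q₂ : Subgroup G) : Set G) ⊓ Q₂ ⊓ Subgroup.centralizer {a} ≤ Q₁ ⊓ Q₂) := by
  have hp : p.Prime := Fact.out
  have hq : q.Prime := Fact.out
  set D : Subgroup G := Q₁ ⊓ Q₂ with hD
  have hA2 : p ^ 2 ≤ Nat.card A := by
    have : p ^ 2 ≤ p ^ 3 := Nat.pow_le_pow_right hp.pos (by norm_num)
    omega
  have hAD : A ≤ Subgroup.normalizer (D : Set G) := by
    intro a ha
    apply Subgroup.mem_normalizer_fintype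
    rintro d ⟨hd1, hd2⟩
    exact ⟨(Subgroup.mem_normalizer_iff.mp (hA₁ ha) d).mp hd1,
      (Subgroup.mem_normalizer_iff.mp (hA₂ ha) d).mp hd2⟩
  -- generic argument for either Q
  have key : ∀ Q : Subgroup G, IsPGroup q Q → A ≤ Subgroup.normalizer (Q : Set G) → D ≤ Q → D ≠ Q →
      ∃ B : {B : Subgroup G // B ≤ A ∧ B.relIndex A ≤ p},
        ¬ (Subgroup.normalizer (D : Set G) ⊓ Q ⊓ Subgroup.centralizer ((B : Subgroup G) : Set G) ≤ D) := by
    intro Q hQ hAQ hDQ hDne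
    set N : Subgroup G := Subgroup.normalizer (D : Set G) ⊓ Q with hN
    have hAN : A ≤ Subgroup.normalizer (N : Set G) := by
      intro a ha
      apply Subgroup.mem_normalizer_fintype
      rintro n ⟨hn1, hn2⟩
      refine ⟨?_, (Subgroup.mem_normalizer_iff.mp (hAQ ha) n).mp hn2⟩
      exact Subgroup.mul_mem _ (Subgroup.mul_mem _ (hAD ha) hn1) (Subgroup.inv_mem _ (hAD ha))
    have hDN : D ≠ N := by
      have := Cfsg.Agent.S3981.ne_inf_normalizer D Q hQ hDQ hDne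
      rwa [inf_comm] at this
    have hcop : (Nat.card N).Coprime p := by
      obtain ⟨k, hk⟩ := IsPGroup.iff_card.mp (hQ.to_le (inf_le_right : N ≤ Q))
      rw [hk]
      exact Nat.Coprime.pow_left k ((Nat.coprime_primes hq hp).mpr hqp)
    have hgen := Cfsg.Agent.S1324.main p _ A N rfl hA.1 hA.2 hA2 hcop hAN
    by_contra h
    push Not at h
    have hND : N ≤ D := hgen.trans (iSup_le h)
    exact hDN (le_antisymm (le_inf Subgroup.le_normalizer hDQ) hND)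
  obtain ⟨B₁, hB₁⟩ := key Q₁ h₁ hA₁ inf_le_left hD₁
  obtain ⟨B₂, hB₂⟩ := key Q₂ h₂ hA₂ inf_le_right hD₂
  -- the two hyperplanes meet nontrivially
  have hrel : ((B₁ : Subgroup G) ⊓ (B₂ : Subgroup G)).relIndex A ≤ p * p :=
    (Subgroup.relIndex_inf_le).trans (Nat.mul_le_mul B₁.2.2 B₂.2.2)
  have hcard := Cfsg.Agent.S1324.relIndex_mul_card
    ((inf_le_left : (B₁ : Subgroup G) ⊓ (B₂ : Subgroup G) ≤ B₁).trans B₁.2.1)
  have hge : p ≤ Nat.card ((B₁ : Subgroup G) ⊓ (B₂ : Subgroup G) : Subgroup G) := by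
    by_contra hlt
    push Not at hlt
    have h1 : Nat.card A < p * (p * p) := by
      rw [← hcard]
      calc Nat.card ((B₁ : Subgroup G) ⊓ (B₂ : Subgroup G) : Subgroup G) *
            ((B₁ : Subgroup G) ⊓ (B₂ : Subgroup G)).relIndex A
          ≤ Nat.card ((B₁ : Subgroup G) ⊓ (B₂ : Subgroup G) : Subgroup G) * (p * p) :=
            Nat.mul_le_mul_left _ hrel
        _ < p * (p * p) := Nat.mul_lt_mul_of_pos_right hlt (Nat.mul_pos hp.pos hp.pos)
    have h2 : p ^ 3 = p * (p * p) := by ring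
    omega
  have hne : (B₁ : Subgroup G) ⊓ (B₂ : Subgroup G) ≠ ⊥ := by
    intro h
    rw [h, Subgroup.card_bot] at hge
    have := hp.one_lt
    omega
  obtain ⟨⟨a, ha1, ha2⟩, hane⟩ := (Subgroup.ne_bot_iff_exists_ne_one).mp hne
  have ha1' : a ∈ (B₁ : Subgroup G) := ha1
  have ha2' : a ∈ (B₂ : Subgroup G) := ha2
  refine ⟨a, B₁.2.1 ha1', fun h => hane (Subtype.ext h), ?_, ?_⟩
  · intro hle
    apply hB₁
    refine le_trans ?_ hle
    exact inf_le_inf_left _ (Subgroup.centralizer_le (Set.singleton_subset_iff.mpr ha1'))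
  · intro hle
    apply hB₂
    refine le_trans ?_ hle
    exact inf_le_inf_left _ (Subgroup.centralizer_le (Set.singleton_subset_iff.mpr ha2'))

end Cfsg.Agent.S1282
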