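import Mathlib
import Cfsg.Statements.S0093
import Cfsg.Agent.Lib.Helper2.NilpotentBasic
import Cfsg.Agent.Lib.Helper16.Frattini2

set_option autoImplicit false
open Cfsg

namespace Cfsg.Agent.S0093

open scoped commutatorElement

/-- In a finite `p`-group, if `N` and `M` are normal with `N` not contained in `M`, some element of
`N` outside `M` is central of order `p` modulo `M`. -/
theorem exists_central_mod {P : Type*} [Group P] [Finite P] {p : ℕ} [Fact p.Prime]
    (hP : IsPGroup p P) (M N : Subgroup P) [M.Normal] [N.Normal] (hNM : ¬ N ≤ M) :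
    ∃ x ∈ N, x ∉ M ∧ x ^ p ∈ M ∧ ∀ g : P, ⁅x, g⁆ ∈ M := by
  have hPQ : IsPGroup p (P ⧸ M) := hP.to_quotient M
  haveI : Group.IsNilpotent (P ⧸ M) := hPQ.isNilpotent
  haveI hNbar : (N.map (QuotientGroup.mk' M)).Normal :=
    Subgroup.Normal.map inferInstance _ (QuotientGroup.mk'_surjective M)
  have hne : N.map (QuotientGroup.mk' M) ≠ ⊥ := by
    intro h
    apply hNM
    intro x hx
    have : QuotientGroup.mk' M x ∈ N.map (QuotientGroup.mk' M) := Subgroup.mem_map_of_mem _ hx
    rw [h, Subgroup.mem_bot] at this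
    exact (QuotientGroup.eq_one_iff x).mp this
  have hmeet := Cfsg.Agent.Lib.Helper2.normal_inf_center_ne_bot (N.map (QuotientGroup.mk' M)) hne
  obtain ⟨z, hz, hz1⟩ : ∃ z ∈ N.map (QuotientGroup.mk' M) ⊓ Subgroup.center (P ⧸ M), z ≠ 1 := by
    by_contra hcon
    push Not at hcon
    exact hmeet ((Subgroup.eq_bot_iff_forall _).mpr hcon)
  obtain ⟨k, hk⟩ := IsPGroup.iff_orderOf.mp hPQ z
  have hk1 : 1 ≤ k := by
    rcases Nat.eq_zero_or_pos k with h0 | h
    · exfalso
      rw [h0, pow_zero, orderOf_eq_one_iff] at hk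
      exact hz1 hk
    · exact h
  have hp : p.Prime := Fact.out
  have hz'1 : z ^ (p ^ (k - 1)) ≠ 1 := by
    apply pow_ne_one_of_lt_orderOf (pow_ne_zero _ hp.ne_zero)
    rw [hk]
    exact Nat.pow_lt_pow_right hp.one_lt (by omega)
  have hz'p : (z ^ (p ^ (k - 1))) ^ p = 1 := by
    rw [← pow_mul, ← pow_succ, show k - 1 + 1 = k by omega, ← hk, pow_orderOf_eq_one]
  have hz' : z ^ (p ^ (k - 1)) ∈ N.map (QuotientGroup.mk' M) ⊓ Subgroup.center (P ⧸ M) :=
    Subgroup.pow_mem _ hz _
  obtain ⟨⟨x, hxN, hxz⟩, hcen⟩ := Subgroup.mem_inf.mp hz'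
  refine ⟨x, hxN, ?_, ?_, ?_⟩
  · intro hxM
    apply hz'1
    rw [← hxz]
    exact (QuotientGroup.eq_one_iff x).mpr hxM
  · rw [← QuotientGroup.eq_one_iff, QuotientGroup.mk_pow]
    have : (QuotientGroup.mk' M) x = (x : P ⧸ M) := rfl
    rw [← this, hxz]
    exact hz'p
  · intro g
    rw [← QuotientGroup.eq_one_iff]
    have h1 : ((⁅x, g⁆ : P) : P ⧸ M) = ⁅(QuotientGroup.mk' M) x, (QuotientGroup.mk' M) g⁆ :=
      map_commutatorElement (QuotientGroup.mk' M) x g
    rw [h1, hxz, commutatorElement_eq_one_iff_commute]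
    exact (Subgroup.mem_center_iff.mp hcen ((QuotientGroup.mk' M) g)).symm

/-- Every finite p-group has a critical subgroup: a characteristic subgroup H whose Frattini subgroup and whose commutator with the whole group lie in the centre of H, and whose centralizer is contained in H. -/
theorem result {P : Type*} [Group P] [Finite P] {p : ℕ} [Fact p.Prime] (hP : IsPGroup p P) : ∃ H : Subgroup P, H.Characteristic ∧ (frattini H).map H.subtype ≤ Subgroup.centralizer (H : Set P) ∧ ⁅H, (⊤ : Subgroup P)⁆ ≤ H ⊓ Subgroup.centralizer (H : Set P) ∧ Subgroup.centralizer (H : Set P) ≤ H := by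
  classical
  have hp : p.Prime := Fact.out
  -- a maximal characteristic abelian subgroup
  let S : Set (Subgroup P) := {K | K.Characteristic ∧ ∀ x ∈ K, ∀ y ∈ K, x * y = y * x}
  have hSne : S.Nonempty := ⟨⊥, Subgroup.botCharacteristic, by
    intro x hx y hy
    rw [Subgroup.mem_bot] at hx hy
    rw [hx, hy]⟩
  obtain ⟨M, hMmax⟩ := (Set.toFinite S).exists_maximal hSne
  obtain ⟨hMchar, hMab⟩ : M.Characteristic ∧ ∀ x ∈ M, ∀ y ∈ M, x * y = y * x := hMmax.prop
  haveI := hMchar
  have hMcen : M ≤ Subgroup.centralizer (M : Set P) := by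
    intro x hx
    rw [Subgroup.mem_centralizer_iff]
    intro y hy
    exact hMab y hy x hx
  by_cases hcase : Subgroup.centralizer (M : Set P) ≤ M
  · -- `M` itself is critical
    refine ⟨M, hMchar, ?_, ?_, hcase⟩
    · rintro _ ⟨x, _, rfl⟩
      exact hMcen x.2
    · rw [Subgroup.commutator_le]
      intro x hx g _
      have hmem : ⁅x, g⁆ ∈ M := by
        rw [commutatorElement_def]
        have : g * x⁻¹ * g⁻¹ ∈ M := (inferInstance : M.Normal).conj_mem _ (M.inv_mem hx) g
        have h2 := M.mul_mem hx this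
        have e : x * g * x⁻¹ * g⁻¹ = x * (g * x⁻¹ * g⁻¹) := by group
        rw [e]; exact h2
      exact Subgroup.mem_inf.mpr ⟨hmem, hMcen hmem⟩
  · -- the subgroup `C`
    have hMnorm : M.Normal := inferInstance
    have hcommM : ∀ x ∈ M, ∀ g : P, ⁅x, g⁆ ∈ M := by
      intro x hx g
      rw [commutatorElement_def]
      have : g * x⁻¹ * g⁻¹ ∈ M := hMnorm.conj_mem _ (M.inv_mem hx) g
      have h2 := M.mul_mem hx this
      have e : x * g * x⁻¹ * g⁻¹ = x * (g * x⁻¹ * g⁻¹) := by group
      rw [e]; exact h2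
    -- membership predicate
    let C : Subgroup P :=
      { carrier := {x | x ∈ Subgroup.centralizer (M : Set P) ∧ x ^ p ∈ M ∧ ∀ g : P, ⁅x, g⁆ ∈ M}
        one_mem' := by
          refine ⟨Subgroup.one_mem _, ?_, fun g => ?_⟩
          · rw [one_pow]; exact M.one_mem
          · rw [commutatorElement_one_left]; exact M.one_mem
        mul_mem' := by
          rintro x y ⟨hx1, hx2, hx3⟩ ⟨hy1, hy2, hy3⟩
          refine ⟨Subgroup.mul_mem _ hx1 hy1, ?_, fun g => ?_⟩
          · rw [← QuotientGroup.eq_one_iff, QuotientGroup.mk_pow, QuotientGroup.mk_mul]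
            have hcomm : Commute (x : P ⧸ M) (y : P ⧸ M) := by
              rw [← commutatorElement_eq_one_iff_commute]
              have h1 : ((⁅x, y⁆ : P) : P ⧸ M) = ⁅(x : P ⧸ M), (y : P ⧸ M)⁆ :=
                map_commutatorElement (QuotientGroup.mk' M) x y
              rw [← h1, QuotientGroup.eq_one_iff]
              exact hx3 y
            rw [hcomm.mul_pow, ← QuotientGroup.mk_pow, ← QuotientGroup.mk_pow,
              (QuotientGroup.eq_one_iff _).mpr hx2, (QuotientGroup.eq_one_iff _).mpr hy2, one_mul]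
          · have e : ⁅x * y, g⁆ = (x * ⁅y, g⁆ * x⁻¹) * ⁅x, g⁆ := by
              simp only [commutatorElement_def]; group
            rw [e]
            exact M.mul_mem (hMnorm.conj_mem _ (hy3 g) x) (hx3 g)
        inv_mem' := by
          rintro x ⟨hx1, hx2, hx3⟩
          refine ⟨Subgroup.inv_mem _ hx1, ?_, fun g => ?_⟩
          · rw [inv_pow]; exact M.inv_mem hx2
          · have e : ⁅x⁻¹, g⁆ = x⁻¹ * (⁅x, g⁆)⁻¹ * x := by
              simp only [commutatorElement_def]; group
            rw [e]
            have := hMnorm.conj_mem _ (M.inv_mem (hx3 g)) x⁻¹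
            simpa using this }
    have hmemC : ∀ x, x ∈ C ↔
        (x ∈ Subgroup.centralizer (M : Set P) ∧ x ^ p ∈ M ∧ ∀ g : P, ⁅x, g⁆ ∈ M) := fun x => Iff.rfl
    have hMC : M ≤ C := fun x hx =>
      (hmemC x).mpr ⟨hMcen hx, M.pow_mem hx p, hcommM x hx⟩
    have hCchar : C.Characteristic := by
      rw [Subgroup.characteristic_iff_map_le]
      rintro φ _ ⟨x, hx, rfl⟩
      obtain ⟨hx1, hx2, hx3⟩ := (hmemC x).mp hx
      have hMφ : ∀ y, y ∈ M → φ y ∈ M := by
        intro y hy
        have := Subgroup.characteristic_iff_map_le.mp hMchar φ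
        exact this ⟨y, hy, rfl⟩
      have hMφ' : ∀ y, φ y ∈ M → y ∈ M := by
        intro y hy
        have := Subgroup.characteristic_iff_comap_le.mp hMchar φ
        exact this hy
      refine (hmemC _).mpr ⟨?_, ?_, fun g => ?_⟩
      · rw [Subgroup.mem_centralizer_iff]
        intro m hm
        obtain ⟨m', rfl⟩ := φ.surjective m
        have hm' : m' ∈ M := hMφ' m' hm
        have := (Subgroup.mem_centralizer_iff.mp hx1) m' hm'
        show φ m' * φ x = φ x * φ m'
        rw [← map_mul, ← map_mul, this]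
      · show (φ x) ^ p ∈ M
        rw [← map_pow]; exact hMφ _ hx2
      · obtain ⟨g', rfl⟩ := φ.surjective g
        show ⁅φ x, φ g'⁆ ∈ M
        rw [← map_commutatorElement]
        exact hMφ _ (hx3 g')
    haveI := hCchar
    have hCnorm : C.Normal := inferInstance
    -- the centre of `C` is `M`
    have hZC : C ⊓ Subgroup.centralizer (C : Set P) = M := by
      have hle : M ≤ C ⊓ Subgroup.centralizer (C : Set P) := by
        intro x hx
        refine Subgroup.mem_inf.mpr ⟨hMC hx, ?_⟩
        rw [Subgroup.mem_centralizer_iff]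
        intro c hc
        exact ((Subgroup.mem_centralizer_iff.mp ((hmemC c).mp hc).1) x hx).symm
      have hmem : C ⊓ Subgroup.centralizer (C : Set P) ∈ S := by
        refine ⟨inferInstance, ?_⟩
        intro x hx y hy
        exact (Subgroup.mem_centralizer_iff.mp (Subgroup.mem_inf.mp hy).2) x (Subgroup.mem_inf.mp hx).1
      exact le_antisymm (hMmax.le_of_ge hmem hle) hle
    have hCcen : M ≤ Subgroup.centralizer (C : Set P) := by
      rw [← hZC]; exact inf_le_right
    refine ⟨C, hCchar, ?_, ?_, ?_⟩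
    · -- Frattini
      have hfr : frattini C ≤ M.subgroupOf C := by
        apply Cfsg.Agent.Lib.Helper16.frattini_le_of_forall (p := p)
        · intro x y
          rw [Subgroup.mem_subgroupOf]
          have : ((⁅x, y⁆ : C) : P) = ⁅(x : P), (y : P)⁆ := by
            simp [commutatorElement_def]
          rw [this]
          exact ((hmemC x).mp x.2).2.2 y
        · intro x
          rw [Subgroup.mem_subgroupOf]
          have : ((x ^ p : C) : P) = (x : P) ^ p := by simp
          rw [this]
          exact ((hmemC x).mp x.2).2.1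
      rintro _ ⟨x, hx, rfl⟩
      exact hCcen (Subgroup.mem_subgroupOf.mp (hfr hx))
    · rw [Subgroup.commutator_le]
      intro x hx g _
      have hmem : ⁅x, g⁆ ∈ M := ((hmemC x).mp hx).2.2 g
      rw [← hZC] at hmem
      exact hmem
    · -- the centralizer of `C` lies in `C`
      by_contra hQ
      haveI hQchar : (Subgroup.centralizer (C : Set P)).Characteristic := inferInstance
      haveI hQnorm : (Subgroup.centralizer (C : Set P)).Normal := inferInstance
      have hQM : ¬ Subgroup.centralizer (C : Set P) ≤ M := fun h => hQ (h.trans hMC)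
      obtain ⟨x, hxQ, hxM, hxp, hxc⟩ :=
        exists_central_mod hP M (Subgroup.centralizer (C : Set P)) hQM
      have hxH : x ∈ Subgroup.centralizer (M : Set P) :=
        Subgroup.centralizer_le (by exact_mod_cast hMC) hxQ
      have hxC : x ∈ C := (hmemC x).mpr ⟨hxH, hxp, hxc⟩
      apply hxM
      rw [← hZC]
      exact Subgroup.mem_inf.mpr ⟨hxC, hxQ⟩

end Cfsg.Agent.S0093
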