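import Mathlib
import Cfsg.Statements.S0121

set_option autoImplicit false
open Cfsg

namespace Cfsg.Agent.S0121

/-- A p'-automorphism of a p-group acting trivially on a critical subgroup is trivial. -/
theorem result {G : Type*} [Group G] [Finite G] {p : ℕ} [Fact p.Prime] (hG : IsPGroup p G) (H : Subgroup G) (hH : H.Characteristic) (h1 : (frattini H).map H.subtype ≤ Subgroup.centralizer (H : Set G)) (h2 : ⁅H, (⊤ : Subgroup G)⁆ ≤ H ⊓ Subgroup.centralizer (H : Set G)) (h3 : Subgroup.centralizer (H : Set G) ≤ H) (a : MulAut G) (ha : Nat.Coprime (orderOf a) p) (h : ∀ x ∈ H, a x = x) : a = 1 := by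
  have hHn : H.Normal := inferInstance
  ext g
  show a g = g
  -- c = g⁻¹ * a g centralizes H
  have hc : g⁻¹ * a g ∈ Subgroup.centralizer (H : Set G) := by
    rw [Subgroup.mem_centralizer_iff]
    intro x hx
    have hx' : g * x * g⁻¹ ∈ H := hHn.conj_mem x hx g
    have e1 : a (g * x * g⁻¹) = g * x * g⁻¹ := h _ hx'
    rw [map_mul, map_mul, h x hx, map_inv] at e1
    -- a g * x * (a g)⁻¹ = g * x * g⁻¹
    calc x * (g⁻¹ * a g) = g⁻¹ * (g * x * g⁻¹) * a g := by group
      _ = g⁻¹ * (a g * x * (a g)⁻¹) * a g := by rw [e1]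
      _ = g⁻¹ * a g * x := by group
  have hcH : g⁻¹ * a g ∈ H := h3 hc
  have hac : a (g⁻¹ * a g) = g⁻¹ * a g := h _ hcH
  -- a^k g = g * c^k
  have key : ∀ k : ℕ, (a ^ k) g = g * (g⁻¹ * a g) ^ k := by
    obtain ⟨c, hcdef⟩ : ∃ c, c = g⁻¹ * a g := ⟨_, rfl⟩
    have hag : a g = g * c := by rw [hcdef]; group
    rw [← hcdef] at hac ⊢
    intro k
    induction k with
    | zero => simp
    | succ k ih =>
      rw [pow_succ', MulAut.mul_apply, ih, map_mul, map_pow, hac, pow_succ', hag, mul_assoc]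
  have hk := key (orderOf a)
  rw [pow_orderOf_eq_one, MulAut.one_apply] at hk
  have hck : (g⁻¹ * a g) ^ orderOf a = 1 := by
    have := mul_left_cancel (a := g) (b := 1) (c := (g⁻¹ * a g) ^ orderOf a) (by rw [mul_one]; exact hk)
    exact this.symm
  obtain ⟨j, hj⟩ := hG (g⁻¹ * a g)
  have hcop : Nat.Coprime (orderOf a) (p ^ j) := ha.pow_right j
  have h1' : orderOf (g⁻¹ * a g) ∣ orderOf a := orderOf_dvd_of_pow_eq_one hck
  have h2' : orderOf (g⁻¹ * a g) ∣ p ^ j := orderOf_dvd_of_pow_eq_one hj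
  have h3' : orderOf (g⁻¹ * a g) = 1 := Nat.eq_one_of_dvd_coprimes hcop h1' h2'
  have hc1 : g⁻¹ * a g = 1 := orderOf_eq_one_iff.mp h3'
  calc a g = g * (g⁻¹ * a g) := by group
    _ = g := by rw [hc1, mul_one]

end Cfsg.Agent.S0121
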