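import Cfsg.Statements.S2303
import Mathlib
import Cfsg.Agent.Lib.Helper12.GL2

set_option autoImplicit false
open Cfsg

namespace Cfsg.Agent.S2303

open Cfsg.Agent.Lib.Helper12.GL2

variable {F : Type*} [Field F]

local notation "GL2" => Matrix.GeneralLinearGroup (Fin 2)

theorem mem_centralizer_diag (g : GL2 F) (h01 : g 0 1 = 0) (h10 : g 1 0 = 0) (hne : g 0 0 ≠ g 1 1)
    (x : GL2 F) :
    x ∈ Subgroup.centralizer ({g} : Set (GL2 F)) ↔ x 0 1 = 0 ∧ x 1 0 = 0 := by
  rw [Subgroup.mem_centralizer_singleton_iff]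
  constructor
  · intro h
    have e01 := congrArg (fun y : GL2 F => y 0 1) h
    have e10 := congrArg (fun y : GL2 F => y 1 0) h
    simp only [mul_apply', h01, h10] at e01 e10
    have hsub : g 0 0 - g 1 1 ≠ 0 := sub_ne_zero.mpr hne
    constructor
    · have : (g 0 0 - g 1 1) * x 0 1 = 0 := by linear_combination (-1 : F) * e01
      exact (mul_eq_zero.mp this).resolve_left hsub
    · have : (g 0 0 - g 1 1) * x 1 0 = 0 := by linear_combination e10
      exact (mul_eq_zero.mp this).resolve_left hsub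
  · rintro ⟨x01, x10⟩
    apply ext4 <;> simp [mul_apply', h01, h10, x01, x10]
    all_goals ring

theorem diag_ne_zero {x : GL2 F} (x01 : x 0 1 = 0) : x 0 0 ≠ 0 ∧ x 1 1 ≠ 0 := by
  have hd := det_ne_zero x
  rw [det_eq, x01, zero_mul, sub_zero] at hd
  exact ⟨left_ne_zero_of_mul hd, right_ne_zero_of_mul hd⟩

theorem card_centralizer_diag [Fintype F] (g : GL2 F) (h01 : g 0 1 = 0) (h10 : g 1 0 = 0)
    (hne : g 0 0 ≠ g 1 1) :
    Nat.card (Subgroup.centralizer ({g} : Set (GL2 F))) = (Fintype.card F - 1) ^ 2 := by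
  classical
  have hprod : Nat.card (Fˣ × Fˣ) = (Fintype.card F - 1) ^ 2 := by
    rw [Nat.card_prod, Nat.card_units, Nat.card_eq_fintype_card, pow_two]
  rw [← hprod]
  symm
  refine Nat.card_congr (Equiv.ofBijective
    (fun st : Fˣ × Fˣ =>
      (⟨mk st.1 0 0 st.2 (by simp),
        (mem_centralizer_diag g h01 h10 hne _).mpr ⟨rfl, rfl⟩⟩ :
      Subgroup.centralizer ({g} : Set (GL2 F)))) ⟨?_, ?_⟩)
  · rintro ⟨s, t⟩ ⟨s', t'⟩ hab
    have h := congrArg Subtype.val hab
    simp only at h
    have e00 := congrArg (fun y : GL2 F => y 0 0) h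
    have e11 := congrArg (fun y : GL2 F => y 1 1) h
    simp only [mk_00, mk_11] at e00 e11
    rw [Prod.mk.injEq]
    exact ⟨Units.ext e00, Units.ext e11⟩
  · rintro ⟨x, hx⟩
    obtain ⟨x01, x10⟩ := (mem_centralizer_diag g h01 h10 hne x).mp hx
    obtain ⟨n0, n1⟩ := diag_ne_zero x01
    refine ⟨(Units.mk0 _ n0, Units.mk0 _ n1), Subtype.ext ?_⟩
    apply ext4 <;> simp [x01, x10]


theorem mulVec_apply (g : GL2 F) (v : Fin 2 → F) (i : Fin 2) :
    ((g : Matrix (Fin 2) (Fin 2) F).mulVec v) i = g i 0 * v 0 + g i 1 * v 1 := by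
  simp [Matrix.mulVec, dotProduct, Fin.sum_univ_two]

theorem g10_ne_zero (g : GL2 F)
    (hE : ∀ (c : F) (v : Fin 2 → F), v ≠ 0 → (g : Matrix (Fin 2) (Fin 2) F).mulVec v ≠ c • v) :
    g 1 0 ≠ 0 := by
  intro h
  apply hE (g 0 0) ![1, 0] (by simp)
  ext i
  fin_cases i <;> simp [mulVec_apply, h]

theorem det_ne (g : GL2 F)
    (hE : ∀ (c : F) (v : Fin 2 → F), v ≠ 0 → (g : Matrix (Fin 2) (Fin 2) F).mulVec v ≠ c • v)
    (s t : F) (hst : (s, t) ≠ (0 : F × F)) :
    (s + t * g 0 0) * (s + t * g 1 1) - (t * g 0 1) * (t * g 1 0) ≠ 0 := by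
  intro hdet
  have hN : (!![s + t * g 0 0, t * g 0 1; t * g 1 0, s + t * g 1 1] : Matrix (Fin 2) (Fin 2) F).det
      = 0 := by
    rw [Matrix.det_fin_two_of]; exact hdet
  obtain ⟨v, hv, hNv⟩ := Matrix.exists_mulVec_eq_zero_iff.mpr hN
  have h0 := congrFun hNv 0
  have h1 := congrFun hNv 1
  simp [Matrix.mulVec, dotProduct, Fin.sum_univ_two] at h0 h1
  by_cases ht : t = 0
  · subst ht
    have hs : s ≠ 0 := by
      rintro rfl
      exact hst rfl
    simp [hs] at h0 h1
    apply hv
    ext i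
    fin_cases i
    · exact h0
    · exact h1
  · apply hE (-s / t) v hv
    ext i
    fin_cases i
    · simp [mulVec_apply]
      field_simp
      linear_combination h0
    · simp [mulVec_apply]
      field_simp
      linear_combination h1

theorem card_centralizer_noeig [Fintype F] (g : GL2 F)
    (hE : ∀ (c : F) (v : Fin 2 → F), v ≠ 0 → (g : Matrix (Fin 2) (Fin 2) F).mulVec v ≠ c • v) :
    Nat.card (Subgroup.centralizer ({g} : Set (GL2 F))) = Fintype.card F ^ 2 - 1 := by
  classical
  have hc := g10_ne_zero g hE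
  have hprod : Nat.card {st : F × F // st ≠ 0} = Fintype.card F ^ 2 - 1 := by
    rw [Nat.card_eq_fintype_card, Fintype.card_subtype_compl, Fintype.card_subtype_eq,
      Fintype.card_prod, pow_two]
  rw [← hprod]
  symm
  refine Nat.card_congr (Equiv.ofBijective
    (fun st : {st : F × F // st ≠ 0} =>
      (⟨mk (st.1.1 + st.1.2 * g 0 0) (st.1.2 * g 0 1) (st.1.2 * g 1 0) (st.1.1 + st.1.2 * g 1 1)
          (det_ne g hE st.1.1 st.1.2 st.2), by
        rw [Subgroup.mem_centralizer_singleton_iff]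
        apply ext4 <;> simp [mul_apply'] <;> ring⟩ :
      Subgroup.centralizer ({g} : Set (GL2 F)))) ⟨?_, ?_⟩)
  · rintro ⟨⟨s, t⟩, hst⟩ ⟨⟨s', t'⟩, hst'⟩ hab
    have h := congrArg Subtype.val hab
    simp only at h
    have e00 := congrArg (fun y : GL2 F => y 0 0) h
    have e10 := congrArg (fun y : GL2 F => y 1 0) h
    simp only [mk_00, mk_10] at e00 e10
    have ht : t = t' := mul_right_cancel₀ hc e10
    subst ht
    have hs : s = s' := add_right_cancel e00
    subst hs
    rfl
  · rintro ⟨x, hx⟩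
    rw [Subgroup.mem_centralizer_singleton_iff] at hx
    have e00 := congrArg (fun y : GL2 F => y 0 0) hx
    have e10 := congrArg (fun y : GL2 F => y 1 0) hx
    simp only [mul_apply'] at e00 e10
    have hst : (x 0 0 - x 1 0 / g 1 0 * g 0 0, x 1 0 / g 1 0) ≠ (0 : F × F) := by
      intro h
      rw [Prod.mk_eq_zero] at h
      obtain ⟨h1, h2⟩ := h
      have x10 : x 1 0 = 0 := by
        rcases div_eq_zero_iff.mp h2 with h3 | h3
        · exact h3
        · exact absurd h3 hc
      have x00 : x 0 0 = 0 := by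
        rw [x10] at h1
        simpa using h1
      have hd := det_ne_zero x
      rw [det_eq, x00, x10] at hd
      simp at hd
    refine ⟨⟨_, hst⟩, Subtype.ext ?_⟩
    apply ext4
    · simp only [mk_00]
      ring
    · simp only [mk_01]
      field_simp
      linear_combination (-1 : F) * e00
    · simp only [mk_10]
      field_simp
    · simp only [mk_11]
      field_simp
      linear_combination (-1 : F) * e10


/-- Over a finite field with q elements: a diagonal element of GL₂ with two distinct diagonal entries has centralizer of order (q − 1)² (so q(q + 1) conjugates), and an element of GL₂ with no eigenvector in F² has centralizer of order q² − 1 (so q(q − 1) conjugates). -/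
theorem result {F : Type*} [Field F] [Fintype F] (g : Matrix.GeneralLinearGroup (Fin 2) F) :
    ((g : Matrix (Fin 2) (Fin 2) F) 0 1 = 0 → (g : Matrix (Fin 2) (Fin 2) F) 1 0 = 0 → (g : Matrix (Fin 2) (Fin 2) F) 0 0 ≠ (g : Matrix (Fin 2) (Fin 2) F) 1 1 →
      Nat.card (Subgroup.centralizer ({g} : Set (Matrix.GeneralLinearGroup (Fin 2) F))) = (Fintype.card F - 1) ^ 2) ∧
    ((∀ (c : F) (v : Fin 2 → F), v ≠ 0 → (g : Matrix (Fin 2) (Fin 2) F).mulVec v ≠ c • v) →
      Nat.card (Subgroup.centralizer ({g} : Set (Matrix.GeneralLinearGroup (Fin 2) F))) = Fintype.card F ^ 2 - 1) := by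
  exact ⟨fun h01 h10 hne => card_centralizer_diag g h01 h10 hne,
    fun hE => card_centralizer_noeig g hE⟩

end Cfsg.Agent.S2303
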