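import Cfsg.Statements.S4065
import Mathlib
import Cfsg.Agent.Lib.Helper12.C1

set_option autoImplicit false
open Cfsg

namespace Cfsg.Agent.S4065

open Cfsg.Agent.Lib.Helper12.SL2

variable {F : Type*} [Field F]

local notation "SL2" => Matrix.SpecialLinearGroup (Fin 2)
local notation "PSL2" => Matrix.ProjectiveSpecialLinearGroup (Fin 2)

theorem mk_injective (h2 : (2 : F) = 0) :
    Function.Injective (QuotientGroup.mk : SL2 F → PSL2 F) := by
  intro a b hab
  have h := QuotientGroup.eq.mp hab
  have hb : a⁻¹ * b ∈ (⊥ : Subgroup (SL2 F)) :=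
    (Cfsg.Agent.S2475.center_eq_bot_of_char_two h2) ▸ h
  rw [Subgroup.mem_bot] at hb
  calc a = a * (a⁻¹ * b) := by rw [hb, mul_one]
    _ = b := by group

/-- `PSL₂` in characteristic two is a CA-group. -/
theorem commute_of_commute' (h2 : (2 : F) = 0) (g h k : PSL2 F) (hg : g ≠ 1)
    (hh : h * g = g * h) (hk : k * g = g * k) : h * k = k * h := by
  obtain ⟨G, rfl⟩ := QuotientGroup.mk_surjective g
  obtain ⟨H, rfl⟩ := QuotientGroup.mk_surjective h
  obtain ⟨K, rfl⟩ := QuotientGroup.mk_surjective k
  have hinj := mk_injective h2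
  have hG : NonScalar G := by
    rw [nonScalar_iff, Cfsg.Agent.S2475.center_eq_bot_of_char_two h2, Subgroup.mem_bot]
    rintro rfl
    exact hg rfl
  have hH : H * G = G * H := hinj hh
  have hK : K * G = G * K := hinj hk
  have := commute_of_commute G H K hG hH hK
  show (QuotientGroup.mk (H * K) : PSL2 F) = QuotientGroup.mk (K * H)
  rw [this]

theorem main (h2 : (2 : F) = 0) (x : PSL2 F) :
    Cfsg.IsTISubset (Subgroup.centralizer ({x} : Set (PSL2 F)) : Set (PSL2 F)) := by
  intro g hg y hy hgy
  by_contra hy1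
  apply hg
  rw [SetLike.mem_coe, Subgroup.mem_centralizer_singleton_iff] at hy hgy
  by_cases hx : x = 1
  · -- centralizer is everything
    subst hx
    rw [Subgroup.mem_normalizer_iff]
    intro h
    simp [Subgroup.mem_centralizer_singleton_iff]
  have hgy1 : g * y * g⁻¹ ≠ 1 := by
    intro h
    apply hy1
    have : y = g⁻¹ * (g * y * g⁻¹) * g := by group
    rw [this, h]; group
  -- membership in C(x) ⇔ commuting with y ⇔ commuting with g y g⁻¹
  have e1 : ∀ k : PSL2 F, k * x = x * k ↔ k * y = y * k := by
    intro k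
    constructor
    · intro hk
      exact commute_of_commute' h2 x k y hx hk hy
    · intro hk
      exact commute_of_commute' h2 y k x hy1 hk hy.symm
  have e2 : ∀ k : PSL2 F, k * x = x * k ↔ k * (g * y * g⁻¹) = (g * y * g⁻¹) * k := by
    intro k
    constructor
    · intro hk
      exact commute_of_commute' h2 x k _ hx hk hgy
    · intro hk
      exact commute_of_commute' h2 _ k x hgy1 hk hgy.symm
  rw [Subgroup.mem_normalizer_iff]
  intro k
  rw [Subgroup.mem_centralizer_singleton_iff,
    Subgroup.mem_centralizer_singleton_iff, e1 k, e2 (g * k * g⁻¹)]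
  constructor
  · intro hk
    calc g * k * g⁻¹ * (g * y * g⁻¹) = g * (k * y) * g⁻¹ := by group
      _ = g * (y * k) * g⁻¹ := by rw [hk]
      _ = g * y * g⁻¹ * (g * k * g⁻¹) := by group
  · intro hk
    have : g * (k * y) * g⁻¹ = g * (y * k) * g⁻¹ := by
      calc g * (k * y) * g⁻¹ = g * k * g⁻¹ * (g * y * g⁻¹) := by group
        _ = g * y * g⁻¹ * (g * k * g⁻¹) := hk
        _ = g * (y * k) * g⁻¹ := by group
    exact mul_left_cancel (mul_right_cancel this)


/-- Let F be a finite field with 2ⁿ elements, n ≥ 2. In PSL₂(F) the centralizer of every element meets each of its conjugates by elements outside its normalizer trivially. -/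
theorem result (n : ℕ) (hn : 2 ≤ n)
    (x : Matrix.ProjectiveSpecialLinearGroup (Fin 2) (GaloisField 2 n)) :
    Cfsg.IsTISubset (Subgroup.centralizer ({x} : Set (Matrix.ProjectiveSpecialLinearGroup (Fin 2) (GaloisField 2 n))) :
      Set (Matrix.ProjectiveSpecialLinearGroup (Fin 2) (GaloisField 2 n))) := by
  exact main CharTwo.two_eq_zero x

end Cfsg.Agent.S4065
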