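import Cfsg.Statements.S2507
import Mathlib
import Cfsg.Agent.Lib.Helper12.E1
import Cfsg.Agent.S4065

set_option autoImplicit false
open Cfsg

namespace Cfsg.Agent.S2507

open Cfsg.Agent.Lib.Helper12.SL2

variable {F : Type*} [Field F]

local notation "SL2" => Matrix.SpecialLinearGroup (Fin 2)
local notation "M2" => Matrix (Fin 2) (Fin 2)
local notation "PSL2" => Matrix.ProjectiveSpecialLinearGroup (Fin 2)

/-- centralizer of a nontrivial unipotent element in characteristic two -/
theorem card_Tor_up [Fintype F] (h2 : (2 : F) = 0) {b : F} (hb : b ≠ 0) :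
    Nat.card (Tor (up b)) = Fintype.card F := by
  rw [← Nat.card_eq_fintype_card]
  symm
  refine Nat.card_congr (Equiv.ofBijective (fun c : F => (⟨up c, ?_⟩ : Tor (up b))) ⟨?_, ?_⟩)
  · rw [mem_centralizer_up hb]
    simp [up]
  · intro c c' h
    have := congrArg Subtype.val h
    exact up_injective this
  · rintro ⟨x, hx⟩
    rw [mem_centralizer_up hb] at hx
    obtain ⟨h10, h00⟩ := hx
    have hd := det_eq x
    rw [h10, mul_zero, sub_zero, ← h00] at hd
    have h1 : x 0 0 = 1 := by
      have : (x 0 0 - 1) ^ 2 = 0 := by linear_combination hd - x 0 0 * h2 + h2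
      exact sub_eq_zero.mp (pow_eq_zero_iff (two_ne_zero) |>.mp this)
    refine ⟨x 0 1, ?_⟩
    apply Subtype.ext
    apply ext4 <;> simp [up, h1, h10, ← h00]

theorem charP_two (h2 : (2 : F) = 0) : CharP F 2 :=
  CharTwo.of_one_ne_zero_of_two_eq_zero one_ne_zero h2

/-- conjugacy from equal traces in characteristic two -/
theorem isConj_of_tr_eq_char_two [Fintype F] (h2 : (2 : F) = 0) (g h : SL2 F) (hg : NonScalar g)
    (hh : NonScalar h) (htr : tr g = tr h) : IsConj g h := by
  have := charP_two h2
  have h1 := Cfsg.Agent.S2331.isConj_comp_of_not_scalar g hg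
  have h3 := Cfsg.Agent.S2331.isConj_comp_of_not_scalar h hh
  have e : g 0 0 + g 1 1 = h 0 0 + h 1 1 := htr
  rw [e] at h1
  exact h1.trans h3.symm

theorem card_Tor_of_eigen_char_two [Fintype F] (h2 : (2 : F) = 0) (g : SL2 F)
    (v : Fin 2 → F) (hv : v ≠ 0) (c : F) (hcc : c * c ≠ 1) (h : g • v = c • v) :
    Nat.card (Tor g) = Fintype.card F - 1 := by
  have htr := Cfsg.Agent.S2475.trace_of_eigen g v hv c h
  have hc0 : c ≠ 0 := by
    rintro rfl
    simp at htr
  have hτ : tr g = c + c⁻¹ := by
    unfold tr
    field_simp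
    linear_combination (-1 : F) * htr
  have hd : tr g = tr (dg c hc0) := by
    rw [hτ]; simp [tr, dg]
  have hcinv : c ≠ c⁻¹ := by
    intro h'
    apply hcc
    calc c * c = c * c⁻¹ := by rw [← h']
      _ = 1 := mul_inv_cancel₀ hc0
  have hNSd : NonScalar (dg c hc0) := by
    rintro ⟨-, -, h00⟩
    simp [dg] at h00
    exact hcinv h00
  have hNSg : NonScalar g := by
    rintro ⟨h01, h10, h00⟩
    -- scalar with g v = c v gives g00 = c, and det gives c*c = 1
    have hdet := det_eq g
    rw [h01, zero_mul, sub_zero, ← h00] at hdet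
    apply hcc
    have h0 := congrFun h 0
    have h1 := congrFun h 1
    rw [Cfsg.Agent.Lib.Helper12.SL2.smul_apply] at h0 h1
    simp only [Pi.smul_apply, smul_eq_mul, h01, h10, zero_mul, add_zero, zero_add, ← h00] at h0 h1
    have hgc : g 0 0 = c := by
      by_contra hne
      apply hv
      ext i
      fin_cases i
      · have : (g 0 0 - c) * v 0 = 0 := by linear_combination h0
        exact (mul_eq_zero.mp this).resolve_left (sub_ne_zero.mpr hne)
      · have : (g 0 0 - c) * v 1 = 0 := by linear_combination h1
        exact (mul_eq_zero.mp this).resolve_left (sub_ne_zero.mpr hne)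
    rw [← hgc]; exact hdet
  have hconj := isConj_of_tr_eq_char_two h2 g (dg c hc0) hNSg hNSd hd
  obtain ⟨k, hk⟩ := isConj_iff.mp hconj
  have e := TorConjEquiv k g
  rw [hk] at e
  have h01 : (dg c hc0) 0 1 = 0 := by simp [dg]
  have h10 : (dg c hc0) 1 0 = 0 := by simp [dg]
  have h00 : (dg c hc0) 0 0 ^ 2 ≠ 1 := by
    simp only [dg, mk_00]
    rw [pow_two]; exact hcc
  rw [Nat.card_congr e.toEquiv, card_Tor_diag _ h01 h10 h00]

/-- the possible centralizer orders in characteristic two -/
theorem card_Tor_cases [Fintype F] (h2 : (2 : F) = 0) (g : SL2 F) :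
    g = 1 ∨ Nat.card (Tor g) = Fintype.card F ∨ Nat.card (Tor g) = Fintype.card F - 1 ∨
      Nat.card (Tor g) = Fintype.card F + 1 := by
  by_cases hE : ∀ (c : F) (v : Fin 2 → F), v ≠ 0 → (g : M2 F).mulVec v ≠ c • v
  · right; right; right
    exact card_Tor_of_noeig_char_two h2 g hE
  · push Not at hE
    obtain ⟨c, v, hv, hcv⟩ := hE
    have hgv : g • v = c • v := hcv
    by_cases hcc : c * c = 1
    · have hc1 : c = 1 := by
        have : (c - 1) ^ 2 = 0 := by linear_combination hcc - c * h2 + h2
        exact sub_eq_zero.mp (pow_eq_zero_iff (two_ne_zero) |>.mp this)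
      rw [hc1, one_smul] at hgv
      obtain ⟨k, b, hk⟩ := exists_conj_up_of_fix g v hv hgv
      by_cases hb : b = 0
      · left
        rw [hb, up_zero] at hk
        calc g = k * (k⁻¹ * g * k) * k⁻¹ := by group
          _ = 1 := by rw [hk]; group
      · right; left
        have e := TorConjEquiv k⁻¹ g
        rw [inv_inv, hk] at e
        rw [Nat.card_congr e.toEquiv, card_Tor_up h2 hb]
    · right; right; left
      exact card_Tor_of_eigen_char_two h2 g v hv c hcc hgv


theorem sq_sub_one (q : ℕ) (hq : 2 ≤ q) : q ^ 2 - 1 = (q - 1) * (q + 1) := by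
  obtain ⟨n, hn⟩ : ∃ n, q = n + 1 := ⟨q - 1, by omega⟩
  rw [hn]; simp only [Nat.add_sub_cancel]; ring_nf; omega

theorem index_of_card [Fintype F] (g : SL2 F) :
    Nat.card (Tor g) * (Tor g).index = Fintype.card F * (Fintype.card F ^ 2 - 1) := by
  rw [Subgroup.card_mul_index, card_SL2]

theorem index_mem [Fintype F] (h2 : (2 : F) = 0) (g : SL2 F) :
    (Tor g).index ∈ ({1, Fintype.card F * (Fintype.card F - 1), Fintype.card F ^ 2 - 1,
      Fintype.card F * (Fintype.card F + 1)} : Set ℕ) := by
  have hq : 2 ≤ Fintype.card F := Fintype.one_lt_card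
  have hidx := index_of_card g
  have e := sq_sub_one (Fintype.card F) hq
  simp only [Set.mem_insert_iff, Set.mem_singleton_iff]
  rcases card_Tor_cases h2 g with h | h | h | h
  · left
    rw [h, Subgroup.index_eq_one]
    rw [eq_top_iff]
    intro x _
    rw [Subgroup.mem_centralizer_singleton_iff, mul_one, one_mul]
  · right; right; left
    rw [h] at hidx
    exact Nat.eq_of_mul_eq_mul_left (by omega) hidx
  · right; right; right
    rw [h, e] at hidx
    have : (Fintype.card F - 1) * (Tor g).index =
        (Fintype.card F - 1) * (Fintype.card F * (Fintype.card F + 1)) := by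
      rw [hidx]; ring
    exact Nat.eq_of_mul_eq_mul_left (by omega) this
  · right; left
    rw [h, e] at hidx
    have : (Fintype.card F + 1) * (Tor g).index =
        (Fintype.card F + 1) * (Fintype.card F * (Fintype.card F - 1)) := by
      rw [hidx]; ring
    exact Nat.eq_of_mul_eq_mul_left (by omega) this

theorem range_index [Fintype F] (h2 : (2 : F) = 0) (h4 : 4 ≤ Fintype.card F) :
    Set.range (fun g : SL2 F => (Tor g).index) =
      {1, Fintype.card F * (Fintype.card F - 1), Fintype.card F ^ 2 - 1,
        Fintype.card F * (Fintype.card F + 1)} := by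
  have hq : 2 ≤ Fintype.card F := Fintype.one_lt_card
  have e := sq_sub_one (Fintype.card F) hq
  apply Set.eq_of_subset_of_subset
  · rintro _ ⟨g, rfl⟩
    exact index_mem h2 g
  · intro m hm
    simp only [Set.mem_insert_iff, Set.mem_singleton_iff] at hm
    rcases hm with rfl | rfl | rfl | rfl
    · refine ⟨1, ?_⟩
      show (Tor (1 : SL2 F)).index = 1
      rw [Subgroup.index_eq_one, eq_top_iff]
      intro x _
      rw [Subgroup.mem_centralizer_singleton_iff, mul_one, one_mul]
    · -- nonsplit
      obtain ⟨p, hp⟩ := CharP.exists F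
      have : Fact p.Prime := ⟨CharP.char_is_prime F p⟩
      obtain ⟨Y, hY⟩ := Cfsg.Agent.S2475.exists_orderOf_card_add_one (F := F) p
      have hE := noeig_of_orderOf Y hY
      have hc := card_Tor_of_noeig_char_two h2 Y hE
      have hidx := index_of_card Y
      rw [hc, e] at hidx
      refine ⟨Y, ?_⟩
      have : (Fintype.card F + 1) * (Tor Y).index =
          (Fintype.card F + 1) * (Fintype.card F * (Fintype.card F - 1)) := by
        rw [hidx]; ring
      exact Nat.eq_of_mul_eq_mul_left (by omega) this
    · -- unipotent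
      have hc := card_Tor_up h2 (one_ne_zero (α := F))
      have hidx := index_of_card (up (1 : F))
      rw [hc] at hidx
      exact ⟨up 1, Nat.eq_of_mul_eq_mul_left (by omega) hidx⟩
    · -- split
      obtain ⟨c, hc0, hc1⟩ : ∃ c : F, c ≠ 0 ∧ c ≠ 1 := by
        by_contra hcon
        push Not at hcon
        have : Fintype.card F ≤ 2 := by
          classical
          have hsub : (Finset.univ : Finset F) ⊆ {0, 1} := by
            intro x _
            by_cases hx : x = 0
            · simp [hx]
            · simp [hcon x hx]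
          calc Fintype.card F = (Finset.univ : Finset F).card := rfl
            _ ≤ ({0, 1} : Finset F).card := Finset.card_le_card hsub
            _ ≤ 2 := Finset.card_le_two
        omega
      have hcc : c * c ≠ 1 := by
        intro hcc
        apply hc1
        have : (c - 1) ^ 2 = 0 := by linear_combination hcc - c * h2 + h2
        exact sub_eq_zero.mp (pow_eq_zero_iff (two_ne_zero) |>.mp this)
      have h01 : (dg c hc0) 0 1 = 0 := by simp [dg]
      have h10 : (dg c hc0) 1 0 = 0 := by simp [dg]
      have h00 : (dg c hc0) 0 0 ^ 2 ≠ 1 := by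
        simp only [dg, mk_00]
        rw [pow_two]; exact hcc
      have hc := card_Tor_diag _ h01 h10 h00
      have hidx := index_of_card (dg c hc0)
      rw [hc, e] at hidx
      refine ⟨dg c hc0, ?_⟩
      have : (Fintype.card F - 1) * (Tor (dg c hc0)).index =
          (Fintype.card F - 1) * (Fintype.card F * (Fintype.card F + 1)) := by
        rw [hidx]; ring
      exact Nat.eq_of_mul_eq_mul_left (by omega) this

/-- transfer to `PSL₂` -/
noncomputable def slEquiv (h2 : (2 : F) = 0) : SL2 F ≃* PSL2 F :=
  MulEquiv.ofBijective (QuotientGroup.mk' (Subgroup.center (SL2 F)))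
    ⟨Cfsg.Agent.S4065.mk_injective h2, QuotientGroup.mk_surjective⟩

theorem index_centralizer_mk (h2 : (2 : F) = 0) (g : SL2 F) :
    (Subgroup.centralizer ({(QuotientGroup.mk g : PSL2 F)} : Set (PSL2 F))).index =
      (Tor g).index := by
  have hmap : (Tor g).map ((slEquiv h2 : SL2 F ≃* PSL2 F) : SL2 F →* PSL2 F) =
      Subgroup.centralizer ({(QuotientGroup.mk g : PSL2 F)} : Set (PSL2 F)) := by
    ext k
    rw [Subgroup.mem_map, Subgroup.mem_centralizer_singleton_iff]
    constructor
    · rintro ⟨h, hh, rfl⟩
      rw [Subgroup.mem_centralizer_singleton_iff] at hh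
      show (QuotientGroup.mk (h * g) : PSL2 F) = QuotientGroup.mk (g * h)
      rw [hh]
    · intro hk
      obtain ⟨h, rfl⟩ := QuotientGroup.mk_surjective k
      refine ⟨h, ?_, rfl⟩
      rw [Subgroup.mem_centralizer_singleton_iff]
      exact Cfsg.Agent.S4065.mk_injective h2 hk
  rw [← hmap, Subgroup.index_map_equiv]

theorem main [Fintype F] (h2' : 2 ∣ Fintype.card F) (h4 : 4 ≤ Fintype.card F) :
    Set.range (fun g : PSL2 F => (Subgroup.centralizer ({g} : Set (PSL2 F))).index) =
      {1, Fintype.card F * (Fintype.card F - 1), Fintype.card F ^ 2 - 1,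
        Fintype.card F * (Fintype.card F + 1)} := by
  have h2 : (2 : F) = 0 := by
    by_contra h
    have := Cfsg.Agent.S2475.odd_card_of_two_ne_zero h
    rw [← Nat.not_even_iff_odd] at this
    exact this (even_iff_two_dvd.mpr h2')
  rw [← range_index h2 h4]
  ext m
  simp only [Set.mem_range]
  constructor
  · rintro ⟨x, rfl⟩
    obtain ⟨g, rfl⟩ := QuotientGroup.mk_surjective x
    exact ⟨g, (index_centralizer_mk h2 g).symm⟩
  · rintro ⟨g, rfl⟩
    exact ⟨QuotientGroup.mk g, index_centralizer_mk h2 g⟩


/-- Let F be a finite field with q = 2^f ≥ 4 elements. The conjugacy class sizes of PSL(2,F) are exactly 1, q(q − 1), q² − 1 and q(q + 1). -/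
theorem result {F : Type*} [Field F] [Fintype F]
    (h2 : 2 ∣ Fintype.card F) (h4 : 4 ≤ Fintype.card F) :
    Set.range (fun g : (Matrix.ProjectiveSpecialLinearGroup (Fin 2) F) => (Subgroup.centralizer ({g} : Set (Matrix.ProjectiveSpecialLinearGroup (Fin 2) F))).index) =
      {1, Fintype.card F * (Fintype.card F - 1), Fintype.card F ^ 2 - 1, Fintype.card F * (Fintype.card F + 1)} := by
  exact main h2 h4

end Cfsg.Agent.S2507
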