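import Cfsg.Statements.S0803
import Mathlib
import Cfsg.Agent.Lib.Helper12.Quat
import Cfsg.Agent.Lib.Helper12.Recog
import Cfsg.Agent.S2507

set_option autoImplicit false
open Cfsg

namespace Cfsg.Agent.S0803

open Cfsg.Agent.Lib.Helper12.SL2 Cfsg.Agent.Lib.Helper12.Klein Cfsg.Agent.Lib.Helper12.Quat
open Cfsg.Agent.S0807 Cfsg.Agent.Lib.Helper12.Recog

variable {F : Type*} [Field F]

local notation "SL2" => Matrix.SpecialLinearGroup (Fin 2)
local notation "M2" => Matrix (Fin 2) (Fin 2)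
local notation "PSL2" => Matrix.ProjectiveSpecialLinearGroup (Fin 2)

section Conic

variable (h2 : (2 : F) ≠ 0) (α β : F) (h : α ^ 2 + β ^ 2 = -1)

theorem tr_qi_mul_qj : tr ((qi : SL2 F) * qj α β h) = 0 := by
  simp [tr, mul_apply', qi, qj]

include h2 in
/-- involutions of `PSL₂` centralizing the four-group lie in it -/
theorem mem_VV_of_centralizes [Fintype F] (k : PSL2 F) (hk : k * k = 1) (hki : k * ia = ia * k)
    (hkj : k * jb α β h = jb α β h * k) : k ∈ VV α β h := by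
  by_cases hk1 : k = 1
  · rw [hk1]; exact Subgroup.one_mem _
  by_cases hkia : k = ia
  · rw [hkia]; exact ia_mem_VV α β h
  by_cases hkjb : k = jb α β h
  · rw [hkjb]; exact jb_mem_VV α β h
  have hko : orderOf k = 2 := (orderOf_two_iff k).mpr ⟨hk, hk1⟩
  have hΔi := tr_sq_ne_four_of_tr_eq_zero h2 (qi : SL2 F) tr_qi
  have hΔj := tr_sq_ne_four_of_tr_eq_zero h2 (qj α β h) (tr_qj α β h)
  have hP1 : PairPred ((QuotientGroup.mk (qi : SL2 F) : PSL2 F), k) :=
    ⟨(orderOf_mk_eq_two_iff h2 qi).mpr tr_qi, hko, fun e => hkia e.symm, hki.symm⟩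
  have hP2 : PairPred ((QuotientGroup.mk (qj α β h) : PSL2 F), k) :=
    ⟨(orderOf_mk_eq_two_iff h2 _).mpr (tr_qj α β h), hko, fun e => hkjb e.symm, hkj.symm⟩
  rw [pairPred_iff h2 qi tr_qi] at hP1
  rw [pairPred_iff h2 _ (tr_qj α β h)] at hP2
  obtain ⟨⟨y, hyN, hyk⟩, hnT⟩ := hP1
  obtain ⟨⟨y', hyN', hyk'⟩, hnT'⟩ := hP2
  have hyT : y ∉ Tor (qi : SL2 F) := fun hT => hnT ⟨y, hT, hyk⟩
  have hyT' : y' ∉ Tor (qj α β h) := fun hT => hnT' ⟨y', hT, hyk'⟩
  have e1 := conj_eq_inv_of_not_mem h2 qi hΔi y hyN hyT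
  have e2' := conj_eq_inv_of_not_mem h2 _ hΔj y' hyN' hyT'
  -- `y' = y` or `y' = zc * y`
  have e2 : y * qj α β h * y⁻¹ = (qj α β h)⁻¹ := by
    have hyy : (mkH y' : PSL2 F) = mkH y := hyk'.trans hyk.symm
    rcases (mkH_eq_iff h2 _ _).mp hyy with e | e
    · rw [← e]; exact e2'
    · rw [e] at e2'
      rw [← e2']
      have hz : (zc' : SL2 F) * zc' = 1 := Cfsg.Agent.S2471.zc_mul_self
      have hzi : (zc' : SL2 F)⁻¹ = zc' := inv_eq_of_mul_eq_one_left hz
      rw [mul_inv_rev, hzi]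
      calc y * qj α β h * y⁻¹ = zc' * (zc' * (y * qj α β h * y⁻¹)) := by
            rw [← mul_assoc, hz, one_mul]
        _ = zc' * ((y * qj α β h * y⁻¹) * zc') := by
            rw [Cfsg.Agent.S2471.zc_central (y * qj α β h * y⁻¹)]
        _ = zc' * y * qj α β h * (y⁻¹ * zc') := by group
  -- `y` commutes with `qi * qj`
  have hkk : y * (qi * qj α β h) * y⁻¹ = qi * qj α β h := by
    have : y * (qi * qj α β h) * y⁻¹ = (y * qi * y⁻¹) * (y * qj α β h * y⁻¹) := by group
    rw [this, e1, e2, ← mul_inv_rev, qj_mul_qi, mul_inv_rev,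
      inv_eq_zc_mul_of_tr_eq_zero _ (tr_qi_mul_qj α β h)]
    have hz : (zc' : SL2 F) * zc' = 1 := Cfsg.Agent.S2471.zc_mul_self
    have hzi : (zc' : SL2 F)⁻¹ = zc' := inv_eq_of_mul_eq_one_left hz
    rw [hzi, mul_assoc, Cfsg.Agent.S2471.zc_central, ← mul_assoc, hz, one_mul]
  have hcomm : y * (qi * qj α β h) = (qi * qj α β h) * y := by
    calc y * (qi * qj α β h) = (y * (qi * qj α β h) * y⁻¹) * y := by group
      _ = (qi * qj α β h) * y := by rw [hkk]
  have htry : tr y = 0 := tr_eq_zero_of_not_mem h2 qi hΔi y hyN hyT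
  have hΔk := tr_sq_ne_four_of_tr_eq_zero h2 _ (tr_qi_mul_qj α β h)
  have hfin : (mkH y : PSL2 F) = ia * jb α β h := by
    rcases eq_or_eq_inv_of_tr_eq h2 _ y hΔk hcomm (htry.trans (tr_qi_mul_qj α β h).symm) with e | e
    · rw [e, map_mul]
    · rw [e, inv_eq_zc_mul_of_tr_eq_zero _ (tr_qi_mul_qj α β h), map_mul, mkH_zc, one_mul, map_mul]
  rw [← hyk, hfin]
  exact Or.inr (Or.inr (Or.inr rfl))

theorem orderOf_uc : orderOf (uc h2 α β h) = 3 := by
  have : Fact (Nat.Prime 3) := ⟨Nat.prime_three⟩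
  apply orderOf_eq_prime
  · show mkH (qu h2 α β h) ^ 3 = 1
    rw [← map_pow, qu_pow_three, map_one]
  · intro e
    have h1 := uc_conj_ia h2 α β h
    rw [e, one_mul, inv_one, mul_one] at h1
    apply jb_ne_one h2 α β h
    calc jb α β h = (ia : PSL2 F)⁻¹ * (ia * jb α β h) := by group
      _ = 1 := by rw [← h1, inv_mul_cancel]

include h2 in
theorem card_normalizer_VV_eq [Fintype F] (s : F) (hs : 2 * s ^ 2 = 1) :
    Nat.card (Subgroup.normalizer ((VV α β h : Subgroup (PSL2 F)) : Set (PSL2 F))) = 24 := by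
  have h1 := card_normalizer_VV_ge h2 α β h s hs
  have h3 := card_normalizer_VV_le h2 α β h
  have h4 : 4 ∣ Nat.card (Subgroup.normalizer ((VV α β h : Subgroup (PSL2 F)) : Set (PSL2 F))) := by
    rw [← (isKleinFour_VV h2 α β h).card_four]
    exact Subgroup.card_dvd_of_le Subgroup.le_normalizer
  have h5 : 3 ∣ Nat.card (Subgroup.normalizer ((VV α β h : Subgroup (PSL2 F)) : Set (PSL2 F))) := by
    rw [← orderOf_uc h2 α β h]
    exact Subgroup.orderOf_dvd_natCard _ (uc_mem_normalizer h2 α β h)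
  omega

include h2 in
theorem exists_S4 [Fintype F] (s : F) (hs : 2 * s ^ 2 = 1) :
    Nonempty (↥(Subgroup.normalizer ((VV α β h : Subgroup (PSL2 F)) : Set (PSL2 F))) ≃*
      Equiv.Perm (Fin 4)) := by
  set N := Subgroup.normalizer ((VV α β h : Subgroup (PSL2 F)) : Set (PSL2 F)) with hN
  have hcard : Nat.card N = 24 := card_normalizer_VV_eq h2 α β h s hs
  have hVN : VV α β h ≤ N := Subgroup.le_normalizer
  have hVn : ((VV α β h).subgroupOf N).Normal := Subgroup.normal_in_normalizer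
  have hVc : Nat.card ((VV α β h).subgroupOf N) = 4 := by
    rw [Nat.card_congr (Subgroup.subgroupOfEquivOfLe hVN).toEquiv]
    exact (isKleinFour_VV h2 α β h).card_four
  have huN := uc_mem_normalizer h2 α β h
  have huo : orderOf (⟨uc h2 α β h, huN⟩ : N) = 3 := by
    rw [Subgroup.orderOf_mk]
    exact orderOf_uc h2 α β h
  suffices hab : (∀ v ∈ (VV α β h).subgroupOf N, v * (⟨uc h2 α β h, huN⟩ : N) =
      (⟨uc h2 α β h, huN⟩ : N) * v → v = 1) ∧
      (∀ k : N, k * k = 1 → (∀ v ∈ (VV α β h).subgroupOf N, k * v = v * k) →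
        k ∈ (VV α β h).subgroupOf N) by
    obtain ⟨H, hidx, hcore⟩ := exists_index_four_core_bot hcard ((VV α β h).subgroupOf N) hVc
      ⟨uc h2 α β h, huN⟩ huo hab.1 hab.2
    exact nonempty_mulEquiv_perm_four H hidx hcore hcard
  constructor
  · rintro ⟨v, hvN⟩ hv hcomm
    have hv' : v ∈ VV α β h := hv
    have hc : v * uc h2 α β h = uc h2 α β h * v := congrArg Subtype.val hcomm
    have hc' : uc h2 α β h * v * (uc h2 α β h)⁻¹ = v := by rw [← hc]; group
    apply Subtype.ext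
    show v = 1
    rcases (mem_VV α β h v).mp hv' with rfl | rfl | rfl | rfl
    · rfl
    · exfalso
      rw [uc_conj_ia] at hc'
      apply jb_ne_one h2 α β h
      calc jb α β h = (ia : PSL2 F)⁻¹ * (ia * jb α β h) := by group
        _ = 1 := by rw [hc', inv_mul_cancel]
    · exfalso
      rw [uc_conj_jb] at hc'
      exact ia_ne_jb h2 α β h hc'
    · exfalso
      rw [uc_conj_ij] at hc'
      apply ia_ne_one (F := F) h2
      calc (ia : PSL2 F) = (ia * jb α β h) * (jb α β h)⁻¹ := by group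
        _ = 1 := by rw [← hc', mul_inv_cancel]
  · rintro ⟨k, hkN⟩ hkk hkc
    show k ∈ VV α β h
    have hkk' : k * k = 1 := congrArg Subtype.val hkk
    have c1 : k * ia = ia * k := by
      have := hkc ⟨ia, hVN (ia_mem_VV α β h)⟩ (ia_mem_VV α β h)
      exact congrArg Subtype.val this
    have c2 : k * jb α β h = jb α β h * k := by
      have := hkc ⟨jb α β h, hVN (jb_mem_VV α β h)⟩ (jb_mem_VV α β h)
      exact congrArg Subtype.val this
    exact mem_VV_of_centralizes h2 α β h k hkk' c1 c2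

end Conic

theorem orderOf_rot : orderOf (finRotate 4) = 4 := by
  rw [orderOf_eq_iff (by norm_num)]
  refine ⟨by decide, ?_⟩
  intro m hm hpos
  interval_cases m <;> decide

theorem sq_mod_of_cube (q : ℕ) (hq : q % 2 = 1) (h : 16 ∣ q * (q ^ 2 - 1)) : q ^ 2 % 16 = 1 := by
  obtain ⟨c, hc⟩ := h
  have h1 : 1 ≤ q ^ 2 := Nat.one_le_pow _ _ (by omega)
  have e3 : q ^ 3 = 16 * c + q := by
    rw [← hc, Nat.mul_sub, mul_one]
    have : q ≤ q * q ^ 2 := Nat.le_mul_of_pos_right _ (by omega)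
    have e : q * q ^ 2 = q ^ 3 := by ring
    omega
  have h3 : q ^ 3 % 16 = q % 16 := by rw [e3]; omega
  rw [Nat.pow_mod] at h3 ⊢
  have hr : q % 16 < 16 := Nat.mod_lt _ (by norm_num)
  have hr2 : q % 16 % 2 = 1 := by omega
  generalize q % 16 = r at *
  interval_cases r <;> simp_all

theorem forward [Fintype F] (H : Subgroup (PSL2 F)) (e : H ≃* Equiv.Perm (Fin 4)) :
    Fintype.card F ^ 2 % 16 = 1 := by
  have hH : Nat.card H = 24 := by
    rw [Nat.card_congr e.toEquiv, Nat.card_eq_fintype_card, Fintype.card_perm, Fintype.card_fin]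
    rfl
  have hdvd : 24 ∣ Nat.card (PSL2 F) := hH ▸ Subgroup.card_subgroup_dvd_card H
  have hq1 : 1 < Fintype.card F := Fintype.one_lt_card
  have hG : Nat.card (SL2 F) = Fintype.card F * (Fintype.card F ^ 2 - 1) := card_SL2
  by_cases h2 : (2 : F) = 0
  · exfalso
    have hcard : Nat.card (PSL2 F) = Nat.card (SL2 F) :=
      (Nat.card_congr (Cfsg.Agent.S2507.slEquiv h2).toEquiv).symm
    obtain ⟨m, hm⟩ := Cfsg.Agent.S2475.even_card_of_two_eq_zero h2
    by_cases h4 : 4 ≤ Fintype.card F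
    · have : CharP F 2 := Cfsg.Agent.S2507.charP_two h2
      have hr := Cfsg.Agent.S2475.result (F := F) 2 h4
      have hx : orderOf ((e.symm (finRotate 4) : H) : PSL2 F) = 4 := by
        rw [Subgroup.orderOf_coe, MulEquiv.orderOf_eq, orderOf_rot]
      have hmem : 4 ∈ Set.range (orderOf : PSL2 F → ℕ) := ⟨_, hx⟩
      rw [hr] at hmem
      have hg : Nat.gcd 2 (Fintype.card F - 1) = 1 := by
        rw [← Nat.Coprime, Nat.coprime_two_left]
        exact ⟨m - 1, by omega⟩
      rw [Set.mem_ofPred_eq, hg, Nat.div_one, Nat.div_one] at hmem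
      rcases hmem with h | h | h
      · norm_num at h
      · omega
      · omega
    · have hq : Fintype.card F = 2 := by omega
      rw [hcard, hG, hq] at hdvd
      norm_num at hdvd
  · have hodd := Cfsg.Agent.S2475.odd_card_of_two_ne_zero h2
    have h5 := Cfsg.Agent.S0807.card_SL2_eq (F := F) h2
    have h48 : 2 * 24 ∣ Fintype.card F * (Fintype.card F ^ 2 - 1) := by
      rw [← hG, h5]; exact Nat.mul_dvd_mul_left 2 hdvd
    apply sq_mod_of_cube _ (Nat.odd_iff.mp hodd)
    exact Dvd.dvd.trans (by norm_num) h48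


/-- PSL_2(q) has a subgroup isomorphic to S_4 iff q² ≡ 1 (mod 16). -/
theorem result {F : Type*} [Field F] [Fintype F] {q : ℕ} (hF : Fintype.card F = q) : (∃ H : Subgroup (Matrix.ProjectiveSpecialLinearGroup (Fin 2) F), Nonempty (H ≃* Equiv.Perm (Fin 4))) ↔ q ^ 2 % 16 = 1 := by
  subst hF
  constructor
  · rintro ⟨H, ⟨e⟩⟩
    exact forward H e
  · intro hq
    have hq2 : Fintype.card F % 2 = 1 := by
      by_contra hne
      have h0 : Fintype.card F % 2 = 0 := by omega
      obtain ⟨c, hc⟩ := Nat.dvd_of_mod_eq_zero h0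
      have : Fintype.card F ^ 2 = 4 * c ^ 2 := by rw [hc]; ring
      omega
    have hodd : Odd (Fintype.card F) := Nat.odd_iff.mpr hq2
    have h2 := Cfsg.Agent.S2428.two_ne_zero_of_odd hodd
    have h8 : Fintype.card F % 8 = 1 ∨ Fintype.card F % 8 = 7 := by
      have h16 : Fintype.card F ^ 2 % 16 = 1 := hq
      rw [Nat.pow_mod] at h16
      have hr : Fintype.card F % 16 < 16 := Nat.mod_lt _ (by norm_num)
      have e8 : Fintype.card F % 8 = Fintype.card F % 16 % 8 := by omega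
      rw [e8]
      generalize Fintype.card F % 16 = r at *
      interval_cases r <;> simp_all
    obtain ⟨α, β, hαβ⟩ : ∃ α β : F, α ^ 2 + β ^ 2 = -1 := by
      obtain ⟨x, y, h⟩ := exists_sq_add_sq hq2 (1 : F) 1 (-1) one_ne_zero one_ne_zero
      exact ⟨x, y, by simpa using h⟩
    obtain ⟨s, hs⟩ : ∃ s : F, 2 * s ^ 2 = 1 := by
      have : IsSquare (2 : F) := FiniteField.isSquare_two_iff.mpr (by omega)
      obtain ⟨w, hw⟩ := this
      have hw0 : w ≠ 0 := by
        rintro rfl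
        apply h2
        rw [hw, mul_zero]
      refine ⟨w⁻¹, ?_⟩
      rw [hw]
      field_simp
    exact ⟨_, exists_S4 h2 α β hαβ s hs⟩

end Cfsg.Agent.S0803
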