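import Cfsg.Statements.S0802
import Mathlib
import Cfsg.Agent.Lib.Helper12.RecogB
import Cfsg.Agent.S0803

set_option autoImplicit false
open Cfsg

namespace Cfsg.Agent.S0802

open Cfsg.Agent.Lib.Helper12.SL2 Cfsg.Agent.Lib.Helper12.Klein Cfsg.Agent.Lib.Helper12.Quat
open Cfsg.Agent.S0807 Cfsg.Agent.Lib.Helper12.Recog

variable {F : Type*} [Field F]

local notation "SL2" => Matrix.SpecialLinearGroup (Fin 2)
local notation "M2" => Matrix (Fin 2) (Fin 2)
local notation "PSL2" => Matrix.ProjectiveSpecialLinearGroup (Fin 2)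

theorem mkH_injective (h2 : (2 : F) = 0) : Function.Injective (mkH : SL2 F →* PSL2 F) := by
  rw [← MonoidHom.ker_eq_bot_iff, QuotientGroup.ker_mk',
    Cfsg.Agent.S2475.center_eq_bot_of_char_two h2]

/-- odd characteristic: the four-group `⟨i, j⟩` with the element `u` of order three -/
theorem exists_odd [Fintype F] (h2 : (2 : F) ≠ 0) :
    ∃ H : Subgroup (PSL2 F), Nonempty (H ≃* alternatingGroup (Fin 4)) := by
  have hodd := Cfsg.Agent.S2475.odd_card_of_two_ne_zero h2
  have hq2 : Fintype.card F % 2 = 1 := Nat.odd_iff.mp hodd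
  obtain ⟨α, β, h⟩ : ∃ α β : F, α ^ 2 + β ^ 2 = -1 := by
    obtain ⟨x, y, h⟩ := exists_sq_add_sq hq2 (1 : F) 1 (-1) one_ne_zero one_ne_zero
    exact ⟨x, y, by simpa using h⟩
  exact exists_alternating_four (jb α β h) ia (uc h2 α β h) (jb_sq α β h) ia_sq
    (ia_jb_comm α β h).symm (jb_ne_one h2 α β h) (ia_ne_one h2) (ia_ne_jb h2 α β h).symm
    (Cfsg.Agent.S0803.orderOf_uc h2 α β h) (uc_conj_jb h2 α β h)
    (by rw [uc_conj_ia, ia_jb_comm])

/-- characteristic two with a primitive cube root of unity -/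
theorem exists_even [Fintype F] (h2 : (2 : F) = 0) (ω : F) (hω : ω ^ 3 = 1) (hω1 : ω ≠ 1) :
    ∃ H : Subgroup (PSL2 F), Nonempty (H ≃* alternatingGroup (Fin 4)) := by
  apply exists_subgroup_of_injective mkH (mkH_injective h2)
  have hω0 : ω ≠ 0 := by
    rintro rfl
    norm_num at hω
  have hmin : ω ^ 2 + ω + 1 = 0 := by
    have : (ω - 1) * (ω ^ 2 + ω + 1) = 0 := by linear_combination hω
    exact (mul_eq_zero.mp this).resolve_left (sub_ne_zero.mpr hω1)
  have hconj : ∀ b : F, dg ω hω0 * up b * (dg ω hω0)⁻¹ = up (ω ^ 2 * b) := by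
    intro b
    rw [dg_mul_up, mul_inv_cancel_right]
  have hc3 : dg ω hω0 ^ 3 = 1 := by
    have h3 : ω⁻¹ ^ 3 = 1 := by rw [inv_pow, hω, inv_one]
    have : dg ω hω0 ^ 3 = dg ω hω0 * dg ω hω0 * dg ω hω0 := by
      simp only [pow_succ, pow_zero, one_mul]
    rw [this]
    apply ext4 <;> simp [mul_apply', dg]
    · linear_combination hω
    · linear_combination h3
  have hc1 : dg ω hω0 ≠ 1 := by
    intro e
    apply hω1
    have := congrArg (fun g : SL2 F => g 0 0) e
    simpa [dg] using this
  have h3 : Fact (Nat.Prime 3) := ⟨Nat.prime_three⟩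
  apply exists_alternating_four (up 1) (up (ω ^ 2)) (dg ω hω0)
  · rw [← up_add, ← up_zero]; congr 1; linear_combination h2
  · rw [← up_add, ← up_zero]; congr 1; linear_combination ω ^ 2 * h2
  · rw [← up_add, ← up_add, add_comm]
  · exact up_ne_one one_ne_zero
  · exact up_ne_one (pow_ne_zero 2 hω0)
  · intro e
    have e1 := up_injective e
    apply hω1
    have : ω * ω ^ 2 = ω * 1 := by rw [← e1]
    rw [mul_one] at this
    rw [← this]
    linear_combination hω
  · exact orderOf_eq_prime hc3 hc1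
  · rw [hconj, mul_one]
  · rw [hconj, ← up_add]
    congr 1
    linear_combination ω * hω - hmin + ω * h2

/-- characteristic two: an `A₄` forces a primitive cube root of unity -/
theorem exists_root_of_char_two [Fintype F] (h2 : (2 : F) = 0) (x c : SL2 F) (hx : x * x = 1)
    (hx1 : x ≠ 1) (hcomm : x * (c * x * c⁻¹) = (c * x * c⁻¹) * x) (hc3 : c ^ 3 = 1)
    (hc1 : c ≠ 1) : ∃ a : F, a ^ 3 = 1 ∧ a ≠ 1 := by
  have hp2 : Fact (Nat.Prime 2) := ⟨Nat.prime_two⟩
  have hchar : CharP F 2 := Cfsg.Agent.S2507.charP_two h2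
  have hox : orderOf x = 2 := orderOf_eq_prime (by rw [pow_two]; exact hx) hx1
  obtain ⟨k, b, hb, hk⟩ := exists_conj_up_of_orderOf (p := 2) x hox
  set c' := k⁻¹ * c * k with hc'
  set z := c' * up b * c'⁻¹ with hz
  have hzc : z * c' = c' * up b := by rw [hz]; group
  have hzcomm : z * up b = up b * z := by
    have e1 : z = k⁻¹ * (c * x * c⁻¹) * k := by
      rw [hz, ← hk, hc']; group
    rw [e1, ← hk]
    calc k⁻¹ * (c * x * c⁻¹) * k * (k⁻¹ * x * k) = k⁻¹ * ((c * x * c⁻¹) * x) * k := by group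
      _ = k⁻¹ * (x * (c * x * c⁻¹)) * k := by rw [hcomm]
      _ = k⁻¹ * x * k * (k⁻¹ * (c * x * c⁻¹) * k) := by group
  have hzmem : z ∈ Subgroup.centralizer ({up b} : Set (SL2 F)) := by
    rw [Subgroup.mem_centralizer_singleton_iff]; exact hzcomm
  obtain ⟨hz10, hz00⟩ := (mem_centralizer_up hb z).mp hzmem
  have hz11 : z 1 1 = 1 := by
    have hd := det_eq z
    rw [hz10, hz00, mul_zero, sub_zero] at hd
    have : (z 1 1 - 1) ^ 2 = 0 := by linear_combination hd + (1 - z 1 1) * h2
    exact sub_eq_zero.mp (pow_eq_zero_iff (two_ne_zero) |>.mp this)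
  have hr : c' 1 0 = 0 := by
    have := congrArg (fun g : SL2 F => g 1 1) hzc
    simp only [mul_apply', up, mk_01, mk_11, hz10, hz11] at this
    have h0 : c' 1 0 * b = 0 := by linear_combination -this
    exact (mul_eq_zero.mp h0).resolve_right hb
  have hc'3 : c' ^ 3 = 1 := by
    rw [hc']
    have : (k⁻¹ * c * k) ^ 3 = k⁻¹ * c ^ 3 * k := by
      simp only [pow_succ, pow_zero, one_mul]; group
    rw [this, hc3]; group
  refine ⟨c' 0 0, ?_, ?_⟩
  · have : c' ^ 3 = c' * c' * c' := by simp only [pow_succ, pow_zero, one_mul]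
    rw [this] at hc'3
    have := congrArg (fun g : SL2 F => g 0 0) hc'3
    simp only [mul_apply', hr] at this
    simp at this
    linear_combination this
  · intro ha
    apply hc1
    have hd := det_eq c'
    rw [ha, hr, mul_zero, sub_zero, one_mul] at hd
    have hup : c' = up (c' 0 1) := by
      apply ext4 <;> simp [up, ha, hr, hd]
    have hsq : c' * c' = 1 := by
      rw [hup, ← up_add, ← up_zero]; congr 1; linear_combination (c' 0 1) * h2
    have h1 : c' = 1 := by
      have : c' ^ 3 = c' * c' * c' := by simp only [pow_succ, pow_zero, one_mul]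
      rw [this, hsq, one_mul] at hc'3
      exact hc'3
    have : c = k * c' * k⁻¹ := by rw [hc']; group
    rw [this, h1]; group

theorem two_pow_odd (n : ℕ) (hn : Odd n) : 2 ^ n % 3 = 2 := by
  obtain ⟨k, rfl⟩ := hn
  rw [pow_succ, pow_mul, Nat.mul_mod, Nat.pow_mod]
  norm_num

theorem two_pow_even (n : ℕ) (hn : Even n) : 2 ^ n % 3 = 1 := by
  obtain ⟨k, rfl⟩ := hn
  rw [← two_mul, pow_mul, Nat.pow_mod]
  norm_num

/-- a double transposition -/
def a₀ : alternatingGroup (Fin 4) :=
  ⟨Equiv.swap 0 1 * Equiv.swap 2 3, Equiv.Perm.mem_alternatingGroup.mpr (by decide)⟩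

/-- a three-cycle -/
def c₀ : alternatingGroup (Fin 4) :=
  ⟨Equiv.swap 0 1 * Equiv.swap 1 2, Equiv.Perm.mem_alternatingGroup.mpr (by decide)⟩

theorem a₀_sq : a₀ * a₀ = 1 := by decide
theorem a₀_ne : a₀ ≠ 1 := by decide
theorem a₀_comm : a₀ * (c₀ * a₀ * c₀⁻¹) = (c₀ * a₀ * c₀⁻¹) * a₀ := by decide
theorem c₀_cube : c₀ ^ 3 = 1 := by decide
theorem c₀_ne : c₀ ≠ 1 := by decide


/-- PSL_2(p^n) has a subgroup isomorphic to A_4 if and only if it is not the case that p = 2 and n is odd. -/
theorem result {F : Type*} [Field F] [Fintype F] (p n : ℕ) [Fact p.Prime] [CharP F p] (hF : Fintype.card F = p ^ n) : (∃ H : Subgroup (Matrix.ProjectiveSpecialLinearGroup (Fin 2) F), Nonempty (H ≃* alternatingGroup (Fin 4))) ↔ ¬ (p = 2 ∧ Odd n) := by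
  classical
  constructor
  · rintro ⟨H, ⟨e⟩⟩ ⟨hp2, hodd⟩
    have h2 : (2 : F) = 0 := (Cfsg.Agent.S2475.two_eq_zero_iff p).mpr hp2
    let φ : SL2 F ≃* PSL2 F := MulEquiv.ofBijective mkH
      ⟨mkH_injective h2, QuotientGroup.mk'_surjective _⟩
    let g : alternatingGroup (Fin 4) →* SL2 F :=
      φ.symm.toMonoidHom.comp (H.subtype.comp e.symm.toMonoidHom)
    have hg : Function.Injective g := by
      apply Function.Injective.comp φ.symm.injective
      apply Function.Injective.comp (Subgroup.subtype_injective H) e.symm.injective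
    have r1 := a₀_sq
    have r2 := a₀_ne
    have r3 := a₀_comm
    have r4 := c₀_cube
    have r5 := c₀_ne
    obtain ⟨a, ha3, ha1⟩ := exists_root_of_char_two h2 (g a₀) (g c₀)
      (by rw [← map_mul, r1, map_one])
      (fun h => r2 (hg (by rw [h, map_one])))
      (by rw [← map_inv, ← map_mul, ← map_mul, ← map_mul, r3, map_mul])
      (by rw [← map_pow, r4, map_one])
      (fun h => r5 (hg (by rw [h, map_one])))
    have ha0 : a ≠ 0 := by
      rintro rfl
      norm_num at ha3
    have h3 : Fact (Nat.Prime 3) := ⟨Nat.prime_three⟩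
    have ho : orderOf (Units.mk0 a ha0) = 3 := by
      apply orderOf_eq_prime
      · apply Units.ext; simpa using ha3
      · intro h
        apply ha1
        have := congrArg Units.val h
        simpa using this
    have hdvd : 3 ∣ Fintype.card Fˣ := by
      rw [← ho]; exact orderOf_dvd_card
    rw [Fintype.card_units, hF, hp2] at hdvd
    have := two_pow_odd n hodd
    generalize 2 ^ n = m at hdvd this
    omega
  · intro hn
    by_cases hp2 : p = 2
    · have hev : Even n := Nat.not_odd_iff_even.mp (fun h => hn ⟨hp2, h⟩)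
      have h2 : (2 : F) = 0 := (Cfsg.Agent.S2475.two_eq_zero_iff p).mpr hp2
      have h3 : Fact (Nat.Prime 3) := ⟨Nat.prime_three⟩
      have hdvd : 3 ∣ Nat.card Fˣ := by
        rw [Nat.card_eq_fintype_card, Fintype.card_units, hF, hp2]
        have := two_pow_even n hev
        generalize 2 ^ n = m at this ⊢
        omega
      obtain ⟨u, hu⟩ := exists_prime_orderOf_dvd_card' 3 hdvd
      apply exists_even h2 (u : F)
      · have := pow_orderOf_eq_one u
        rw [hu] at this
        have := congrArg Units.val this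
        simpa using this
      · intro h
        have : u = 1 := Units.ext h
        rw [this, orderOf_one] at hu
        norm_num at hu
    · have h2 : (2 : F) ≠ 0 := fun h => hp2 ((Cfsg.Agent.S2475.two_eq_zero_iff p).mp h)
      exact exists_odd h2

end Cfsg.Agent.S0802
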