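import Cfsg.Statements.S5077
import Cfsg.Agent.Lib.Helper29.FusionRS

set_option autoImplicit false
open Cfsg

namespace Cfsg.Agent.S5077

/-- A fusion system over a finite p-group S is saturated if and only if (Sylow axiom) every fully normalized subgroup is fully centralized and fully automized, and (extension axiom) every fully centralized subgroup is receptive. -/
theorem result {Ω : Type*} [Group Ω] {S : Subgroup Ω} [Finite S] (p : ℕ) [Fact p.Prime] (hS : IsPGroup p S) (F : Cfsg.FusionSystem S) : F.IsSaturated p ↔ ((∀ P : Subgroup Ω, F.IsFullyNormalized P → F.IsFullyCentralized P ∧ F.IsFullyAutomized p P) ∧ (∀ P : Subgroup Ω, F.IsFullyCentralized P → F.IsReceptive P)) := by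
  constructor
  · intro hF
    constructor
    · intro P hPfn
      have hPS : P ≤ S := hPfn.1
      obtain ⟨R, hPR, hRfa, hRrec⟩ := hF P hPS
      obtain ⟨θ, hθ, hθN, _, hmap⟩ :=
        Cfsg.Agent.Lib.Helper29.exists_hom_normalizer p hS F R P hRfa hRrec hPR
      have hcardN := hPfn.2 R hPR
      obtain ⟨hsurj, hcardC⟩ := Cfsg.Agent.Lib.Helper29.surj_of_theta F hPS hθ hmap hθN hcardN
      have hRfc : F.IsFullyCentralized R := Cfsg.Agent.S5078.result F R hRrec
      refine ⟨⟨hPS, fun Q' hPQ' => ?_⟩,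
        Cfsg.Agent.Lib.Helper29.fullyAutomized_of_theta F hPS hθ hmap hS hθN hsurj hRfa⟩
      have hRQ' : F.IsConj R Q' :=
        Cfsg.Agent.Lib.Helper29.isConj_trans F (Cfsg.Agent.Lib.Helper29.isConj_symm F hPR) hPQ'
      exact (hRfc.2 Q' hRQ').trans hcardC
    · intro P hPfc
      have hPS : P ≤ S := hPfc.1
      obtain ⟨R, hPR, hRfa, hRrec⟩ := hF P hPS
      obtain ⟨θ, hθ, hθN, _, hmap⟩ :=
        Cfsg.Agent.Lib.Helper29.exists_hom_normalizer p hS F R P hRfa hRrec hPR
      exact Cfsg.Agent.Lib.Helper29.receptive_of_theta F hPS hθ hmap hRrec (hPfc.2 R hPR)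
  · rintro ⟨h1, h2⟩ P hPS
    obtain ⟨Q, hPQ, hQfn⟩ := Cfsg.Agent.Lib.Helper29.exists_fullyNormalized_conj F hPS
    obtain ⟨hQfc, hQfa⟩ := h1 Q hQfn
    exact ⟨Q, hPQ, hQfa, h2 Q hQfc⟩

end Cfsg.Agent.S5077
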