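import Mathlib
import Cfsg.Statements.S1959
import Cfsg.Agent.Lib.Helper1.FamilyFusion

set_option autoImplicit false
open Cfsg

namespace Cfsg.Agent.S1959

open Cfsg.Agent.Lib.Helper1 Cfsg.Agent.Lib.Helper29

/-- Let p be a prime, G a finite group with Sylow p-subgroup S, and 𝓦 a set of conjugacy functors for p on G. Suppose that 𝓦 controls strong fusion in N_G(T) for every nonidentity subgroup T of S for which N_S(T) is a Sylow p-subgroup of N_G(T). Then 𝓦 controls strong fusion in G. (A set of functors controls strong fusion in a subgroup H when, for a Sylow p-subgroup T' of H, every conjugation of a tuple of elements of T' into T' by an element of H is a composite of conjugations inside the normalizers N_H(W(T')), W ∈ 𝓦, all intermediate tuples staying in T'.) -/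
theorem result {G : Type*} [Group G] [Finite G] {p : ℕ} [Fact p.Prime] (S : Sylow p G) (𝓦 : Set (Subgroup G → Subgroup G)) (h𝓦 : ∀ W ∈ 𝓦, Cfsg.IsConjugacyFunctor p W) (hloc : ∀ T : Subgroup G, T ≤ (S : Subgroup G) → T ≠ ⊥ → ¬ p ∣ ((S : Subgroup G) ⊓ Subgroup.normalizer ((T : Subgroup G) : Set G)).relIndex (Subgroup.normalizer ((T : Subgroup G) : Set G)) → Cfsg.FamilyControlsStrongFusionIn p 𝓦 (Subgroup.normalizer ((T : Subgroup G) : Set G))) : Cfsg.FamilyControlsStrongFusionIn p 𝓦 ⊤ := by
  refine ⟨(S : Subgroup G), le_top, S.isPGroup', ?_, ?_⟩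
  · rw [Subgroup.relIndex_top_right]; exact S.not_dvd_index
  intro A h _ hAS hAh
  set T : Subgroup G := Subgroup.closure A with hT
  have hTS : T ≤ (S : Subgroup G) := (Subgroup.closure_le _).mpr hAS
  have hTg : cj h T ≤ (S : Subgroup G) := by
    have e : cj h T = Subgroup.closure (lcs h A) := by
      rw [hT]
      unfold cj lcs
      rw [MonoidHom.map_closure]
      congr 1
    rw [e]
    exact (Subgroup.closure_le _).mpr hAh
  have hch := alperin_goldschmidt_chain S (sylFamily p (S : Subgroup G)) (fun U hU => hU.1)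
    (sylFamily_criterion S) _ T hTS rfl h⁻¹ (by rw [inv_inv]; exact hTg)
  have hSt : ∀ T' ∈ sylFamily p (S : Subgroup G), T' ≠ ⊥ →
      0 ≤ Nat.card (nS (S : Subgroup G) T') →
      ∀ (B : Set G) (x : G), x ∈ Subgroup.normalizer (T' : Set G) →
        B ⊆ (nS (S : Subgroup G) T' : Set G) →
        lcs x B ⊆ (nS (S : Subgroup G) T' : Set G) → Good 𝓦 (S : Subgroup G) B x :=
    fun T' hT' hT'ne _ => family_wp_fusion S h𝓦 hloc _ T' hT' hT'ne rfl
  have hgood := chain_good (𝓦 := 𝓦) (sylFamily p (S : Subgroup G)) (S : Subgroup G) 0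
    (fun U hU => hU.1) hSt _ _ (hch.mono A Subgroup.subset_closure) (Nat.zero_le _) hAS
  rw [inv_inv] at hgood
  obtain ⟨u, hu, hag⟩ := hgood
  obtain ⟨n, c, h0, h2, h3, hlast⟩ := hu.to_fin
  refine ⟨n, c, h0, h2, h3, ?_⟩
  rw [hlast]
  exact hag

end Cfsg.Agent.S1959
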