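import Cfsg.Statements.S3870
import Mathlib

set_option autoImplicit false
open Cfsg

namespace Cfsg.Agent.S3870

variable {G : Type*} [Group G] [Finite G] {p : ℕ} [Fact p.Prime]

omit [Finite G] [Fact p.Prime] in
/-- a Sylow subgroup contained in another Sylow subgroup is equal to it. -/
theorem sylow_eq_of_le {P Q : Sylow p G} (h : (P : Subgroup G) ≤ Q) : P = Q :=
  Sylow.ext (P.is_maximal' Q.isPGroup' h).symm

/-- normalizers grow in a Sylow subgroup. -/
theorem exists_normalizing_not_mem (P : Sylow p G) {R : Subgroup G} (hRP : R ≤ P)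
    (hne : R ≠ (P : Subgroup G)) :
    ∃ y ∈ (P : Subgroup G), y ∉ R ∧ y ∈ Subgroup.normalizer (R : Set G) := by
  have : Group.IsNilpotent (P : Subgroup G) := P.isPGroup'.isNilpotent
  have hlt : R.subgroupOf P < ⊤ := by
    rw [lt_top_iff_ne_top]
    intro h
    rw [Subgroup.subgroupOf_eq_top] at h
    exact hne (le_antisymm hRP h)
  have h2 := Group.normalizerCondition_of_isNilpotent (G := (P : Subgroup G)) _ hlt
  obtain ⟨y, hyN, hyR⟩ := SetLike.exists_of_lt h2
  rw [← Subgroup.subgroupOf_normalizer_eq hRP] at hyN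
  refine ⟨y.1, y.2, ?_, ?_⟩
  · intro h; exact hyR (Subgroup.mem_subgroupOf.2 h)
  · exact Subgroup.mem_subgroupOf.1 hyN

/-- in a `p`-closed subgroup, all `p`-subgroups lie in one Sylow subgroup of the big group. -/
theorem exists_sylow_of_isPClosed (N : Subgroup G) (hN : Cfsg.IsPClosed p ↥N) :
    ∃ T : Sylow p G, ∀ K : Subgroup G, K ≤ N → IsPGroup p K → K ≤ T := by
  obtain ⟨S⟩ : Nonempty (Sylow p N) := inferInstance
  have huniq : Unique (Sylow p N) := Sylow.unique_of_normal S (hN S)
  obtain ⟨T, hT⟩ := (S.isPGroup'.map N.subtype).exists_le_sylow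
  refine ⟨T, fun K hKN hK => ?_⟩
  have hK' : IsPGroup p (K.subgroupOf N) :=
    hK.comap_of_injective _ N.subtype_injective
  obtain ⟨S', hS'⟩ := hK'.exists_le_sylow
  have : S' = S := Subsingleton.elim _ _
  rw [this] at hS'
  intro k hk
  apply hT
  exact ⟨⟨k, hKN hk⟩, hS' (Subgroup.mem_subgroupOf.2 hk), rfl⟩

omit [Finite G] [Fact p.Prime] in
theorem normalizer_ne_top [IsSimpleGroup G] (hnc : ¬ Cfsg.IsPClosed p G) {R : Subgroup G}
    (hR : IsPGroup p R) (hne : R ≠ ⊥) : Subgroup.normalizer (R : Set G) ≠ ⊤ := by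
  intro h
  rw [Subgroup.normalizer_eq_top_iff] at h
  rcases h.eq_bot_or_eq_top with h1 | h1
  · exact hne h1
  · apply hnc
    intro P'
    have : (P' : Subgroup G) = ⊤ := by
      have := P'.is_maximal' hR (by rw [h1]; exact le_top)
      rw [← this, h1]
    rw [this]
    infer_instance

/-- the key: a nontrivial `p`-subgroup lies in a unique Sylow subgroup. -/
theorem unique_sylow [IsSimpleGroup G] (hnc : ¬ Cfsg.IsPClosed p G)
    (hsub : ∀ H : Subgroup G, H ≠ ⊤ → Cfsg.IsPClosed p ↥H) :
    ∀ (n : ℕ) (R : Subgroup G), R ≠ ⊥ → Nat.card G - Nat.card R = n →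
      ∀ P Q : Sylow p G, R ≤ P → R ≤ Q → P = Q := by
  intro n
  induction n using Nat.strong_induction_on with
  | _ n ih =>
    intro R hRne hn P Q hRP hRQ
    by_contra hPQ
    have hRp : IsPGroup p R := P.isPGroup'.to_le hRP
    have hRneP : R ≠ (P : Subgroup G) := by
      intro h
      apply hPQ
      apply sylow_eq_of_le
      rw [← h]; exact hRQ
    have hRneQ : R ≠ (Q : Subgroup G) := by
      intro h
      apply hPQ
      symm
      apply sylow_eq_of_le
      rw [← h]; exact hRP
    obtain ⟨y, hyP, hyR, hyN⟩ := exists_normalizing_not_mem P hRP hRneP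
    obtain ⟨z, hzQ, hzR, hzN⟩ := exists_normalizing_not_mem Q hRQ hRneQ
    have hNtop := normalizer_ne_top hnc hRp hRne
    obtain ⟨T, hT⟩ := exists_sylow_of_isPClosed _ (hsub _ hNtop)
    have hRN : R ≤ Subgroup.normalizer (R : Set G) := Subgroup.le_normalizer
    -- the two bigger subgroups
    have key : ∀ (P' : Sylow p G) (y : G), R ≤ P' → y ∈ (P' : Subgroup G) → y ∉ R →
        y ∈ Subgroup.normalizer (R : Set G) → T = P' := by
      intro P' y hRP' hyP' hyR hyN
      set K := (P' : Subgroup G) ⊓ Subgroup.normalizer (R : Set G) with hK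
      have hRK : R ≤ K := le_inf hRP' hRN
      have hKp : IsPGroup p K := P'.isPGroup'.to_le inf_le_left
      have hlt : R < K := lt_of_le_of_ne hRK (fun h => hyR (h ▸ ⟨hyP', hyN⟩))
      have hcard : Nat.card R < Nat.card K := by
        have hRK' : (R : Set G) ⊂ (K : Set G) := hlt
        exact Set.Finite.card_lt_card (Set.toFinite _) hRK'
      have hKle : Nat.card K ≤ Nat.card G := Subgroup.card_le_card_group K
      have hKne : K ≠ ⊥ := by
        intro h
        rw [h] at hlt
        exact not_lt_bot hlt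
      refine ih (Nat.card G - Nat.card K) (by omega) K hKne rfl T P' (hT K inf_le_right hKp)
        inf_le_left
    have h1 := key P y hRP hyP hyR hyN
    have h2 := key Q z hRQ hzQ hzR hzN
    exact hPQ (h1.symm.trans h2)

/-- Let G be a finite simple group whose Sylow p-subgroups are not normal but such that every proper subgroup of G has a normal Sylow p-subgroup. Then any two distinct Sylow p-subgroups of G intersect trivially, and for every Sylow p-subgroup P the normalizer of every non-identity subgroup of P lies in the normalizer of P. -/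
theorem result {G : Type*} [Group G] [Finite G] [IsSimpleGroup G] {p : ℕ} [Fact p.Prime]
    (hnc : ¬ Cfsg.IsPClosed p G) (hsub : ∀ H : Subgroup G, H ≠ ⊤ → Cfsg.IsPClosed p ↥H) :
    (∀ P Q : Sylow p G, P ≠ Q → (P : Subgroup G) ⊓ (Q : Subgroup G) = ⊥) ∧
      ∀ (P : Sylow p G) (R : Subgroup G), R ≤ P → R ≠ ⊥ →
        Subgroup.normalizer (R : Set G) ≤ Subgroup.normalizer ((P : Subgroup G) : Set G) := by
  have hU := unique_sylow hnc hsub
  refine ⟨?_, ?_⟩
  · intro P Q hPQ
    by_contra hne
    exact hPQ (hU _ _ hne rfl P Q inf_le_left inf_le_right)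
  · intro P R hRP hRne g hg
    refine (Sylow.smul_eq_iff_mem_normalizer (g := g) (P := P)).1 ?_
    refine hU _ R hRne rfl (g • P) P ?_ hRP
    intro r hr
    rw [Sylow.smul_def, Sylow.pointwise_smul_def, Subgroup.mem_pointwise_smul_iff_inv_smul_mem]
    apply hRP
    have hg' : g⁻¹ ∈ Subgroup.normalizer (R : Set G) := Subgroup.inv_mem _ hg
    have := (Subgroup.mem_normalizer_iff.1 hg' r).1 hr
    simpa [MulAut.smul_def] using this

end Cfsg.Agent.S3870
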