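import Cfsg.Statements.S3056
import Cfsg.Agent.S3870
import Mathlib

set_option autoImplicit false
open Cfsg Relation

namespace Cfsg.Agent.S3056

variable {G : Type*} [Group G] {p : ℕ}

/-- two Sylow subgroups share a non-identity element. -/
def Meet (S T : Sylow p G) : Prop := ∃ x : G, x ≠ 1 ∧ x ∈ (S : Subgroup G) ∧ x ∈ (T : Subgroup G)

theorem meet_iff (S T : Sylow p G) : Meet S T ↔ (S : Subgroup G) ⊓ (T : Subgroup G) ≠ ⊥ := by
  rw [Subgroup.ne_bot_iff_exists_ne_one]
  constructor
  · rintro ⟨x, hx1, hxS, hxT⟩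
    exact ⟨⟨x, hxS, hxT⟩, fun h => hx1 (congrArg Subtype.val h)⟩
  · rintro ⟨⟨x, hxS, hxT⟩, hx⟩
    exact ⟨x, fun h => hx (Subtype.ext h), hxS, hxT⟩

theorem meet_symm {S T : Sylow p G} (h : Meet S T) : Meet T S := by
  obtain ⟨x, h1, h2, h3⟩ := h
  exact ⟨x, h1, h3, h2⟩

theorem rtg_symm {α : Type*} {r : α → α → Prop} (hr : ∀ a b, r a b → r b a) {a b : α}
    (h : ReflTransGen r a b) : ReflTransGen r b a := by
  induction h with
  | refl => exact .refl
  | tail _ hbc ih => exact ReflTransGen.head (hr _ _ hbc) ih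

theorem mem_smul_sylow [Fact p.Prime] [Finite G] (g x : G) (T : Sylow p G) :
    x ∈ ((g • T : Sylow p G) : Subgroup G) ↔ g⁻¹ * x * g ∈ (T : Subgroup G) := by
  rw [Sylow.smul_def, Sylow.pointwise_smul_def, Subgroup.mem_pointwise_smul_iff_inv_smul_mem]
  simp [MulAut.smul_def]

theorem meet_smul [Fact p.Prime] [Finite G] (g : G) {S T : Sylow p G} (h : Meet S T) :
    Meet (g • S) (g • T) := by
  obtain ⟨x, h1, h2, h3⟩ := h
  refine ⟨g * x * g⁻¹, ?_, ?_, ?_⟩
  · intro h
    apply h1
    have : x = g⁻¹ * (g * x * g⁻¹) * g := by group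
    rw [this, h]; group
  · rw [mem_smul_sylow]; simpa [mul_assoc] using h2
  · rw [mem_smul_sylow]; simpa [mul_assoc] using h3

theorem conn_smul [Fact p.Prime] [Finite G] (g : G) {S T : Sylow p G}
    (h : ReflTransGen Meet S T) : ReflTransGen Meet (g • S) (g • T) :=
  h.lift (g • ·) (fun _ _ hab => meet_smul g hab)

/-- chain-connectedness gives connectedness. -/
theorem conn_of_chain (h : Cfsg.IsSylowChainConnected p G) (S T : Sylow p G) :
    ReflTransGen Meet S T := by
  obtain ⟨n, c, h0, hl, -, hc⟩ := h S T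
  have key : ∀ i : Fin (n + 1), ReflTransGen Meet (c 0) (c i) := by
    intro i
    induction i using Fin.induction with
    | zero => exact .refl
    | succ i ih => exact ih.tail ((meet_iff _ _).2 (hc i).2)
  rw [← h0, ← hl]
  exact key _

/-- connectedness gives a chain with distinct consecutive members. -/
theorem chain_of_conn {S T : Sylow p G} (h : ReflTransGen Meet S T) :
    ∃ (n : ℕ) (c : Fin (n + 1) → Sylow p G), c 0 = S ∧ c (Fin.last n) = T ∧
      ∀ i : Fin n, c i.castSucc ≠ c i.succ ∧
        (c i.castSucc : Subgroup G) ⊓ (c i.succ : Subgroup G) ≠ ⊥ := by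
  induction h using ReflTransGen.head_induction_on with
  | refl => exact ⟨0, fun _ => T, rfl, rfl, fun i => i.elim0⟩
  | @head S S' hSS' _ ih =>
    obtain ⟨n, c, h0, hl, hc⟩ := ih
    by_cases hne : S = S'
    · subst hne
      exact ⟨n, c, h0, hl, hc⟩
    · refine ⟨n + 1, Fin.cons S c, rfl, ?_, ?_⟩
      · have : Fin.last (n + 1) = (Fin.last n).succ := rfl
        rw [this, Fin.cons_succ, hl]
      · intro i
        refine Fin.cases ?_ (fun j => ?_) i
        · have h1 : (Fin.cons S c : Fin (n + 2) → Sylow p G) (Fin.castSucc 0) = S := rfl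
          have h2 : (Fin.cons S c : Fin (n + 2) → Sylow p G) (Fin.succ 0) = S' := by
            rw [Fin.cons_succ, h0]
          rw [h1, h2]
          exact ⟨hne, (meet_iff _ _).1 hSS'⟩
        · have h1 : (Fin.cons S c : Fin (n + 2) → Sylow p G) (Fin.castSucc j.succ) =
              c j.castSucc := by
            rw [← Fin.succ_castSucc, Fin.cons_succ]
          have h2 : (Fin.cons S c : Fin (n + 2) → Sylow p G) (Fin.succ j.succ) = c j.succ := by
            rw [Fin.cons_succ]
          rw [h1, h2]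
          exact hc j

theorem chainConnected_of_conn (h : ∀ S T : Sylow p G, ReflTransGen Meet S T) :
    Cfsg.IsSylowChainConnected p G := by
  intro S T
  by_cases hST : (S : Subgroup G) ⊓ (T : Subgroup G) = ⊥
  · obtain ⟨n, c, h0, hl, hc⟩ := chain_of_conn (h S T)
    exact ⟨n, c, h0, hl, fun i => by rw [hST]; exact bot_le, hc⟩
  · by_cases hne : S = T
    · subst hne
      exact ⟨0, fun _ => S, rfl, rfl, fun _ => inf_le_left, fun i => i.elim0⟩
    · refine ⟨1, ![S, T], rfl, rfl, ?_, ?_⟩
      · intro i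
        fin_cases i
        · exact inf_le_left
        · exact inf_le_right
      · intro i
        fin_cases i
        exact ⟨hne, hST⟩


theorem prime_dvd_card_of_ne_bot [Finite G] [Fact p.Prime] {R : Subgroup G} (hR : IsPGroup p R)
    (hne : R ≠ ⊥) : p ∣ Nat.card R := by
  obtain ⟨n, hn⟩ := hR.exists_card_eq
  have hn0 : n ≠ 0 := by
    rintro rfl
    rw [pow_zero] at hn
    exact hne (Subgroup.card_eq_one.1 hn)
  rw [hn]; exact dvd_pow_self p hn0

section embedded

variable [Finite G] [Fact p.Prime] (H : Subgroup G)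
  (hemb : ∀ g : G, g ∉ H → ¬ p ∣ Nat.card ↥(H ⊓ H.map (MulAut.conj g).toMonoidHom))
include hemb

theorem normalizer_le_of_embedded {R : Subgroup G} (hRH : R ≤ H) (hR : IsPGroup p R)
    (hne : R ≠ ⊥) : Subgroup.normalizer (R : Set G) ≤ H := by
  intro g hg
  by_contra hgH
  apply hemb g hgH
  have hle : R ≤ H ⊓ H.map (MulAut.conj g).toMonoidHom := by
    intro r hr
    refine ⟨hRH hr, g⁻¹ * r * g, hRH ?_, ?_⟩
    · have := (Subgroup.mem_normalizer_iff.1 (Subgroup.inv_mem _ hg) r).1 hr
      simpa using this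
    · simp [MulAut.conj_apply, mul_assoc]
  exact (prime_dvd_card_of_ne_bot hR hne).trans (Subgroup.card_dvd_of_le hle)

theorem sylow_le_of_embedded (T : Sylow p G) (hT : (T : Subgroup G) ⊓ H ≠ ⊥) :
    (T : Subgroup G) ≤ H := by
  by_contra hle
  have hne : (T : Subgroup G) ⊓ H ≠ (T : Subgroup G) := by
    intro h
    exact hle (h ▸ inf_le_right)
  obtain ⟨y, hyT, hyU, hyN⟩ := Cfsg.Agent.S3870.exists_normalizing_not_mem T inf_le_left hne
  have := normalizer_le_of_embedded H hemb inf_le_right (T.isPGroup'.to_le inf_le_left) hT hyN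
  exact hyU ⟨hyT, this⟩

theorem not_conn_of_embedded (hH : H ≠ ⊤) (hp : p ∣ Nat.card H) :
    ¬ ∀ S T : Sylow p G, ReflTransGen Meet S T := by
  intro hconn
  -- a Sylow subgroup meeting H
  obtain ⟨x, hx⟩ := exists_prime_orderOf_dvd_card' p hp
  have hx1 : (x : G) ≠ 1 := by
    intro h
    have : x = 1 := Subtype.ext h
    rw [this, orderOf_one] at hx
    exact (Fact.out : p.Prime).ne_one hx.symm
  have hxp : IsPGroup p (Subgroup.zpowers (x : G)) := by
    apply IsPGroup.of_card (n := 1)
    rw [Nat.card_zpowers, Subgroup.orderOf_coe, hx, pow_one]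
  obtain ⟨S, hS⟩ := hxp.exists_le_sylow
  have hxS : (x : G) ∈ (S : Subgroup G) := hS (Subgroup.mem_zpowers _)
  have hSH0 : (S : Subgroup G) ⊓ H ≠ ⊥ := by
    intro h
    have : (x : G) ∈ (S : Subgroup G) ⊓ H := ⟨hxS, x.2⟩
    rw [h, Subgroup.mem_bot] at this
    exact hx1 this
  have hSH := sylow_le_of_embedded H hemb S hSH0
  have hall : ∀ T : Sylow p G, (T : Subgroup G) ≤ H := by
    intro T
    have := hconn S T
    induction this with
    | refl => exact hSH
    | @tail T' T _ hTT ih =>
      apply sylow_le_of_embedded H hemb T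
      obtain ⟨z, hz1, hzT', hzT⟩ := hTT
      intro h
      have : z ∈ (T : Subgroup G) ⊓ H := ⟨hzT, ih hzT'⟩
      rw [h, Subgroup.mem_bot] at this
      exact hz1 this
  obtain ⟨g, hg⟩ : ∃ g : G, g ∉ H := by
    by_contra h
    push Not at h
    exact hH (eq_top_iff.2 fun g _ => h g)
  apply hemb g hg
  have hle : ((g • S : Sylow p G) : Subgroup G) ≤ H ⊓ H.map (MulAut.conj g).toMonoidHom := by
    intro z hz
    refine ⟨hall _ hz, g⁻¹ * z * g, hSH ((mem_smul_sylow g z S).1 hz), ?_⟩
    simp [MulAut.conj_apply, mul_assoc]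
  have hne : ((g • S : Sylow p G) : Subgroup G) ≠ ⊥ := by
    intro h
    have : g * (x : G) * g⁻¹ ∈ ((g • S : Sylow p G) : Subgroup G) := by
      rw [mem_smul_sylow]; simpa [mul_assoc] using hxS
    rw [h, Subgroup.mem_bot] at this
    apply hx1
    have h2 : (x : G) = g⁻¹ * (g * (x : G) * g⁻¹) * g := by group
    rw [h2, this]; group
  exact (prime_dvd_card_of_ne_bot (g • S).isPGroup' hne).trans (Subgroup.card_dvd_of_le hle)

end embedded


section component

variable [Finite G] [Fact p.Prime]

/-- the stabilizer of the connected component of `S`. -/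
def compStab (S : Sylow p G) : Subgroup G where
  carrier := {g | ReflTransGen Meet S (g • S)}
  one_mem' := by
    show ReflTransGen Meet S ((1 : G) • S)
    rw [one_smul]
  mul_mem' := by
    intro a b ha hb
    show ReflTransGen Meet S ((a * b) • S)
    rw [mul_smul]
    exact ha.trans (conn_smul a hb)
  inv_mem' := by
    intro a ha
    show ReflTransGen Meet S (a⁻¹ • S)
    have := conn_smul a⁻¹ ha
    rw [inv_smul_smul] at this
    exact rtg_symm (fun _ _ => meet_symm) this

theorem mem_compStab (S : Sylow p G) (g : G) :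
    g ∈ compStab S ↔ ReflTransGen Meet S (g • S) := Iff.rfl

theorem le_compStab (S : Sylow p G) : (S : Subgroup G) ≤ compStab S := by
  intro s hs
  rw [mem_compStab, Sylow.smul_eq_iff_mem_normalizer.2 (Subgroup.le_normalizer hs)]

/-- every `p`-element of `compStab S` lies in a conjugate of `S` by an element of `compStab S`. -/
theorem cover (S : Sylow p G) {z : G} (hz : z ∈ compStab S) (hzp : z ^ p = 1) :
    ∃ h ∈ compStab S, z ∈ ((h • S : Sylow p G) : Subgroup G) := by
  set H := compStab S with hH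
  have hSH : (S : Subgroup G) ≤ H := le_compStab S
  have hzp' : IsPGroup p (Subgroup.zpowers (⟨z, hz⟩ : H)) := by
    rintro ⟨w, hw⟩
    obtain ⟨i, rfl⟩ := Subgroup.mem_zpowers_iff.1 hw
    refine ⟨1, ?_⟩
    apply Subtype.ext
    apply Subtype.ext
    simp only [pow_one, Subgroup.coe_pow, Subgroup.coe_zpow, Subgroup.coe_one]
    rw [← zpow_natCast, ← zpow_mul, mul_comm, zpow_mul, zpow_natCast, hzp, one_zpow]
  obtain ⟨Q, hQ⟩ := hzp'.exists_le_sylow
  obtain ⟨h, hh⟩ := MulAction.exists_smul_eq H (S.subtype hSH) Q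
  rw [Sylow.smul_subtype] at hh
  refine ⟨h, h.2, ?_⟩
  have h1 : (⟨z, hz⟩ : H) ∈ (Q : Subgroup H) := hQ (Subgroup.mem_zpowers _)
  rw [← hh, ← SetLike.mem_coe, Sylow.coe_subtype] at h1
  exact Subgroup.mem_subgroupOf.1 h1

theorem exists_embedded_of_not_conn {S T : Sylow p G} (hST : ¬ ReflTransGen Meet S T) :
    ∃ H : Subgroup G, H ≠ ⊤ ∧ p ∣ Nat.card H ∧
      ∀ g : G, g ∉ H → ¬ p ∣ Nat.card ↥(H ⊓ H.map (MulAut.conj g).toMonoidHom) := by
  refine ⟨compStab S, ?_, ?_, ?_⟩
  · obtain ⟨g, hg⟩ := MulAction.exists_smul_eq G S T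
    intro h
    have : g ∈ compStab S := h ▸ Subgroup.mem_top g
    rw [mem_compStab, hg] at this
    exact hST this
  · have hSne : (S : Subgroup G) ≠ ⊥ := by
      intro hS
      apply hST
      obtain ⟨g, hg⟩ := MulAction.exists_smul_eq G S T
      have : T = S := by
        apply Sylow.ext
        rw [hS, eq_bot_iff]
        intro x hx
        rw [← hg, mem_smul_sylow, hS, Subgroup.mem_bot] at hx
        rw [Subgroup.mem_bot]
        have h2 : x = g * (g⁻¹ * x * g) * g⁻¹ := by group
        rw [h2, hx]; group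
      rw [this]
    exact (prime_dvd_card_of_ne_bot S.isPGroup' hSne).trans
      (Subgroup.card_dvd_of_le (le_compStab S))
  · intro g hg hdvd
    apply hg
    obtain ⟨x, hx⟩ := exists_prime_orderOf_dvd_card' p hdvd
    have hx1 : (x : G) ≠ 1 := by
      intro h
      have : x = 1 := Subtype.ext h
      rw [this, orderOf_one] at hx
      exact (Fact.out : p.Prime).ne_one hx.symm
    have hxp : (x : G) ^ p = 1 := by
      have := pow_orderOf_eq_one x
      rw [hx] at this
      exact congrArg Subtype.val this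
    obtain ⟨hxH, y, hyH, hyx⟩ := x.2
    have hyx' : g * y * g⁻¹ = (x : G) := by simpa [MulAut.conj_apply] using hyx
    have hy : y = g⁻¹ * (x : G) * g := by rw [← hyx']; group
    have hyp : y ^ p = 1 := by
      have hy' : y = g⁻¹ * (x : G) * (g⁻¹)⁻¹ := by rw [hy, inv_inv]
      rw [hy', conj_pow, hxp]; group
    obtain ⟨h₁, hh₁, hxh₁⟩ := cover S hxH hxp
    obtain ⟨h₂, hh₂, hyh₂⟩ := cover S hyH hyp
    have hx2 : (x : G) ∈ (((g * h₂) • S : Sylow p G) : Subgroup G) := by
      rw [mul_smul, mem_smul_sylow, ← hy]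
      exact hyh₂
    have hmeet : Meet (h₁ • S) ((g * h₂) • S) := ⟨x, hx1, hxh₁, hx2⟩
    have h3 : g * h₂ ∈ compStab S := by
      rw [mem_compStab]
      exact ((mem_compStab S h₁).1 hh₁).tail hmeet
    have := (compStab S).mul_mem h3 ((compStab S).inv_mem hh₂)
    simpa using this

end component

/-- Let G be a finite group and p a prime. Join two Sylow p-subgroups when they are distinct and meet nontrivially. This graph on the Sylow p-subgroups is disconnected (the Sylow p-subgroups are not chain-connected through nontrivial intersections) if and only if G has a strongly p-embedded subgroup in the classical sense: a proper subgroup H of order divisible by p such that H ∩ gHg⁻¹ has order prime to p for every g outside H. -/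
theorem result {G : Type*} [Group G] [Finite G]
    (p : ℕ) [Fact p.Prime] :
    ¬ Cfsg.IsSylowChainConnected p G ↔
      ∃ H : Subgroup G, H ≠ ⊤ ∧ p ∣ Nat.card H ∧
        ∀ g : G, g ∉ H → ¬ p ∣ Nat.card ↥(H ⊓ H.map (MulAut.conj g).toMonoidHom) := by
  constructor
  · intro h
    have : ¬ ∀ S T : Sylow p G, ReflTransGen Meet S T := fun hc => h (chainConnected_of_conn hc)
    push Not at this
    obtain ⟨S, T, hST⟩ := this
    exact exists_embedded_of_not_conn hST
  · rintro ⟨H, hH, hp, hemb⟩ hconn
    exact not_conn_of_embedded H hemb hH hp (conn_of_chain hconn)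

end Cfsg.Agent.S3056
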