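import Cfsg.Statements.S3058
import Cfsg.Agent.S3056
import Cfsg.Agent.Lib.Helper12.Generation
import Cfsg.Agent.Lib.Helper5.InvStem

set_option autoImplicit false
open Cfsg
open scoped commutatorElement

namespace Cfsg.Agent.S3058

open Cfsg.Agent.S3056

variable {G : Type*} [Group G] [Finite G] {p : ℕ} [Fact p.Prime]

/-- a Sylow subgroup meets a normal subgroup of order divisible by `p` in an element of order `p`. -/
theorem exists_order_p_in_sylow_inf (S : Sylow p G) (N : Subgroup G) [hNn : N.Normal]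
    (hN : p ∣ Nat.card N) : ∃ x : G, x ∈ (S : Subgroup G) ∧ x ∈ N ∧ orderOf x = p := by
  obtain ⟨x, hx⟩ := exists_prime_orderOf_dvd_card' p hN
  have hxp : IsPGroup p (Subgroup.zpowers (x : G)) := by
    apply IsPGroup.of_card (n := 1)
    rw [Nat.card_zpowers, Subgroup.orderOf_coe, hx, pow_one]
  obtain ⟨T, hT⟩ := hxp.exists_le_sylow
  obtain ⟨g, hg⟩ := MulAction.exists_smul_eq G T S
  refine ⟨g * x * g⁻¹, ?_, hNn.conj_mem x x.2 g, ?_⟩
  · rw [← hg, mem_smul_sylow]
    have := hT (Subgroup.mem_zpowers (x : G))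
    simpa [mul_assoc] using this
  · have := orderOf_injective (MulAut.conj g).toMonoidHom (MulAut.conj g).injective (x : G)
    rw [Subgroup.orderOf_coe, hx] at this
    exact this

theorem exists_sylow_le_of_embedded (H : Subgroup G)
    (hemb : ∀ g : G, g ∉ H → ¬ p ∣ Nat.card ↥(H ⊓ H.map (MulAut.conj g).toMonoidHom))
    (hp : p ∣ Nat.card H) : ∃ S : Sylow p G, (S : Subgroup G) ≤ H := by
  obtain ⟨x, hx⟩ := exists_prime_orderOf_dvd_card' p hp
  have hx1 : (x : G) ≠ 1 := by
    intro h
    have : x = 1 := Subtype.ext h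
    rw [this, orderOf_one] at hx
    exact (Fact.out : p.Prime).ne_one hx.symm
  have hxp : IsPGroup p (Subgroup.zpowers (x : G)) := by
    apply IsPGroup.of_card (n := 1)
    rw [Nat.card_zpowers, Subgroup.orderOf_coe, hx, pow_one]
  obtain ⟨S, hS⟩ := hxp.exists_le_sylow
  have hxS : (x : G) ∈ (S : Subgroup G) := hS (Subgroup.mem_zpowers _)
  refine ⟨S, sylow_le_of_embedded H hemb S ?_⟩
  intro h
  have : (x : G) ∈ (S : Subgroup G) ⊓ H := ⟨hxS, x.2⟩
  rw [h, Subgroup.mem_bot] at this
  exact hx1 this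

/-- Let p be a prime and G a finite group whose Sylow p-subgroups are not chain-connected through nontrivial intersections (so G has a strongly p-embedded subgroup). If N and M are normal subgroups of G whose orders are both divisible by p, then the order of N ∩ M is divisible by p. Consequently, among the normal subgroups of G whose order is divisible by p there is a smallest one (the intersection of all of them). -/
theorem result {G : Type*} [Group G] [Finite G]
    (p : ℕ) [Fact p.Prime] (hG : ¬ Cfsg.IsSylowChainConnected p G)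
    (N M : Subgroup G) [N.Normal] [M.Normal] (hN : p ∣ Nat.card N) (hM : p ∣ Nat.card M) :
    p ∣ Nat.card ↥(N ⊓ M) := by
  have hNn : N.Normal := inferInstance
  have hMn : M.Normal := inferInstance
  have hpp : p.Prime := Fact.out
  obtain ⟨H, hH, hpH, hemb⟩ := (Cfsg.Agent.S3056.result p).1 hG
  by_contra hD
  obtain ⟨S, hSH⟩ := exists_sylow_le_of_embedded H hemb hpH
  obtain ⟨x, hxS, hxN, hxo⟩ := exists_order_p_in_sylow_inf S N hN
  obtain ⟨y, hyS, hyM, hyo⟩ := exists_order_p_in_sylow_inf S M hM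
  have hx1 : x ≠ 1 := by
    rintro rfl
    rw [orderOf_one] at hxo
    exact hpp.ne_one hxo.symm
  have hy1 : y ≠ 1 := by
    rintro rfl
    rw [orderOf_one] at hyo
    exact hpp.ne_one hyo.symm
  have hxp : x ^ p = 1 := by rw [← hxo]; exact pow_orderOf_eq_one x
  have hyp : y ^ p = 1 := by rw [← hyo]; exact pow_orderOf_eq_one y
  -- D ∩ S = 1
  have hDS : ∀ z : G, z ∈ N ⊓ M → z ∈ (S : Subgroup G) → z = 1 := by
    intro z hzD hzS
    obtain ⟨k, hk⟩ := S.isPGroup' ⟨z, hzS⟩
    have hk' : z ^ p ^ k = 1 := by simpa using congrArg Subtype.val hk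
    have h1 : orderOf z ∣ p ^ k := orderOf_dvd_of_pow_eq_one hk'
    have h2 : orderOf z ∣ Nat.card ↥(N ⊓ M) := Subgroup.orderOf_dvd_natCard _ hzD
    have hcop : Nat.Coprime (p ^ k) (Nat.card ↥(N ⊓ M)) :=
      Nat.Coprime.pow_left k ((Nat.Prime.coprime_iff_not_dvd hpp).2 hD)
    exact orderOf_eq_one_iff.1 (Nat.eq_one_of_dvd_coprimes hcop h1 h2)
  have hxy : x * y = y * x := by
    rw [← commutatorElement_eq_one_iff_mul_comm]
    apply hDS
    · rw [commutatorElement_def]
      constructor
      · have h1 : y * x⁻¹ * y⁻¹ ∈ N := hNn.conj_mem _ (N.inv_mem hxN) y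
        have := N.mul_mem hxN h1
        simpa [mul_assoc] using this
      · have h1 : x * y * x⁻¹ ∈ M := hMn.conj_mem _ hyM x
        exact M.mul_mem h1 (M.inv_mem hyM)
    · rw [commutatorElement_def]
      exact Subgroup.mul_mem _ (Subgroup.mul_mem _ (Subgroup.mul_mem _ hxS hyS)
        (Subgroup.inv_mem _ hxS)) (Subgroup.inv_mem _ hyS)
  -- centralizers of nonidentity elements of S lie in H
  have hcent : ∀ e : G, e ∈ (S : Subgroup G) → e ≠ 1 →
      Subgroup.centralizer ({e} : Set G) ≤ H := by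
    intro e heS he1
    have hle : Subgroup.zpowers e ≤ (S : Subgroup G) := (Subgroup.zpowers_le).2 heS
    have h1 := normalizer_le_of_embedded H hemb (hle.trans hSH) (S.isPGroup'.to_le hle)
      (Subgroup.zpowers_ne_bot.2 he1)
    refine le_trans ?_ h1
    intro g hg
    apply Cfsg.Agent.Lib.Helper5.InvData.mem_normalizer_zpowers
    left
    have := Subgroup.mem_centralizer_iff.1 hg e rfl
    rw [← this, mul_inv_cancel_right]
  -- D ≤ H by generation
  have hDn : (N ⊓ M).Normal := inferInstance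
  have hnorm : ∀ g : G, g ∈ Subgroup.normalizer (((N ⊓ M : Subgroup G)) : Set G) := by
    intro g
    rw [Subgroup.normalizer_eq_top]
    trivial
  have hDH : N ⊓ M ≤ H := by
    apply Cfsg.Agent.Lib.Helper12.le_gen_of_coprime (N ⊓ M)
      ((Nat.Prime.coprime_iff_not_dvd hpp).2 hD).symm x y (hnorm x) (hnorm y) hxy hxp hyp H
    · exact inf_le_right.trans (hcent x hxS hx1)
    · intro i
      refine inf_le_right.trans (hcent _ (Subgroup.mul_mem _ (Subgroup.pow_mem _ hxS _) hyS) ?_)
      intro h
      apply hy1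
      have hy' : y = (x ^ i.val)⁻¹ := eq_inv_of_mul_eq_one_right h
      apply hDS y ⟨?_, hyM⟩ hyS
      rw [hy']
      exact N.inv_mem (N.pow_mem hxN _)
  -- M ≤ H
  have hMH : M ≤ H := by
    intro m hm
    by_contra hmH
    apply hemb m hmH
    have hw1 : m * x * m⁻¹ ∈ H := by
      have hc : m * x * m⁻¹ * x⁻¹ ∈ N ⊓ M := by
        constructor
        · exact N.mul_mem (hNn.conj_mem x hxN m) (N.inv_mem hxN)
        · have h1 : x * m⁻¹ * x⁻¹ ∈ M := hMn.conj_mem _ (M.inv_mem hm) x
          have := M.mul_mem hm h1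
          simpa [mul_assoc] using this
      have := H.mul_mem (hDH hc) (hSH hxS)
      simpa using this
    have hw2 : m * x * m⁻¹ ∈ H.map (MulAut.conj m).toMonoidHom :=
      ⟨x, hSH hxS, rfl⟩
    have ho : orderOf (m * x * m⁻¹) = p := by
      have := orderOf_injective (MulAut.conj m).toMonoidHom (MulAut.conj m).injective x
      rw [hxo] at this
      exact this
    have := Subgroup.orderOf_dvd_natCard (H ⊓ H.map (MulAut.conj m).toMonoidHom)
      (show m * x * m⁻¹ ∈ H ⊓ H.map (MulAut.conj m).toMonoidHom from ⟨hw1, hw2⟩)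
    rwa [ho] at this
  -- H = ⊤
  apply hH
  rw [eq_top_iff]
  intro g _
  by_contra hgH
  apply hemb g hgH
  have hle : M ≤ H ⊓ H.map (MulAut.conj g).toMonoidHom := by
    intro m hm
    refine ⟨hMH hm, g⁻¹ * m * g, hMH ?_, ?_⟩
    · have := hMn.conj_mem m hm g⁻¹
      simpa using this
    · simp [MulAut.conj_apply, mul_assoc]
  exact hM.trans (Subgroup.card_dvd_of_le hle)

end Cfsg.Agent.S3058
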