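import Mathlib
import Cfsg.Statements.S3836
import Cfsg.Agent.Lib.Helper16.PCore

set_option autoImplicit false
open Cfsg

namespace Cfsg.Agent.S3836

open Cfsg.Agent.Lib.Helper16 in
/-- Let G be a finite group that is p-stable in the normalizer form: for every p-subgroup Q and every x ∈ N_G(Q) with [Q, x, x] = 1, the image of x in N_G(Q)/C_G(Q) lies in O_p(N_G(Q)/C_G(Q)). Then every subgroup of G is p-stable in the same sense. -/
theorem result {G : Type*} [Group G] [Finite G] {p : ℕ} [Fact p.Prime] (hst : Cfsg.IsNormalizerPStable p G) (H : Subgroup G) : Cfsg.IsNormalizerPStable p ↥H := by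
  intro Q hQ x hx hquad
  set Q' : Subgroup G := Q.map H.subtype with hQ'
  have hQ'p : IsPGroup p Q' := hQ.map H.subtype
  have hnorm : ∀ y : H, y ∈ Subgroup.normalizer (Q : Set H) → (y : G) ∈ Subgroup.normalizer (Q' : Set G) := by
    intro y hy
    have := Subgroup.le_normalizer_map (H := Q) H.subtype ⟨y, hy, rfl⟩
    exact this
  have hquad' : ⁅⁅Q', Subgroup.zpowers (x : G)⁆, Subgroup.zpowers (x : G)⁆ = ⊥ := by
    have h1 : Subgroup.zpowers (x : G) = (Subgroup.zpowers x).map H.subtype := by
      rw [MonoidHom.map_zpowers]; rfl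
    rw [h1, hQ', ← Subgroup.map_commutator, ← Subgroup.map_commutator, hquad, Subgroup.map_bot]
  have key := hst Q' hQ'p (x : G) (hnorm x hx) hquad'
  -- the homomorphism N → N'
  let f : ↥(Subgroup.normalizer (Q : Set H)) →* ↥(Subgroup.normalizer (Q' : Set G)) :=
    { toFun := fun y => ⟨((y : H) : G), hnorm y y.2⟩
      map_one' := rfl
      map_mul' := fun _ _ => rfl }
  let π' := QuotientGroup.mk' ((Subgroup.centralizer (Q' : Set G)).subgroupOf (Subgroup.normalizer (Q' : Set G)))
  let π := QuotientGroup.mk' ((Subgroup.centralizer (Q : Set H)).subgroupOf (Subgroup.normalizer (Q : Set H)))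
  let ψ := π'.comp f
  have hker : ∀ y : ↥(Subgroup.normalizer (Q : Set H)), ψ y = 1 →
      y ∈ (Subgroup.centralizer (Q : Set H)).subgroupOf (Subgroup.normalizer (Q : Set H)) := by
    intro y hy
    have h1 : f y ∈ (Subgroup.centralizer (Q' : Set G)).subgroupOf (Subgroup.normalizer (Q' : Set G)) := by
      have : π' (f y) = 1 := hy
      rwa [QuotientGroup.mk'_apply, QuotientGroup.eq_one_iff] at this
    rw [Subgroup.mem_subgroupOf, Subgroup.mem_centralizer_iff] at h1 ⊢
    intro q hq
    have := h1 (q : G) ⟨q, hq, rfl⟩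
    exact Subtype.ext this
  have hpn : (pCore p (↥(Subgroup.normalizer (Q' : Set G)) ⧸
      (Subgroup.centralizer (Q' : Set G)).subgroupOf (Subgroup.normalizer (Q' : Set G)))).Normal :=
    pCore_normal _ _
  let K := (pCore p (↥(Subgroup.normalizer (Q' : Set G)) ⧸
      (Subgroup.centralizer (Q' : Set G)).subgroupOf (Subgroup.normalizer (Q' : Set G)))).comap ψ
  have hKn : K.Normal := Subgroup.Normal.comap hpn ψ
  have hKπn : (K.map π).Normal := Subgroup.Normal.map hKn π (QuotientGroup.mk'_surjective _)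
  have hKπp : IsPGroup p (K.map π) := by
    rintro ⟨_, k, hk, rfl⟩
    have hp' := pCore_isPGroup p (↥(Subgroup.normalizer (Q' : Set G)) ⧸
      (Subgroup.centralizer (Q' : Set G)).subgroupOf (Subgroup.normalizer (Q' : Set G)))
    obtain ⟨n, hn⟩ := hp' ⟨ψ k, hk⟩
    refine ⟨n, ?_⟩
    apply Subtype.ext
    have h2 : ψ (k ^ p ^ n) = 1 := by
      rw [map_pow]
      exact congrArg Subtype.val hn
    have h3 := hker _ h2
    show (π k) ^ p ^ n = 1
    rw [← map_pow]
    exact (QuotientGroup.eq_one_iff _).2 h3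
  have hle := le_pCore hKπn hKπp
  apply hle
  exact ⟨⟨x, hx⟩, key, rfl⟩

end Cfsg.Agent.S3836
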