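import Mathlib
import Cfsg.Statements.S3772
import Cfsg.Agent.Lib.Helper2.PGroupFrattini
-- import your own Cfsg.Agent.* helpers here

set_option autoImplicit false
open Cfsg

namespace Cfsg.Agent.S3772

open scoped commutatorElement

variable {G : Type*} [Group G]

/-- sign: `1` at the identity, `-1` elsewhere -/
noncomputable def sgn (g : G) : ℤ := by classical exact if g = 1 then 1 else -1

theorem sgn_one : sgn (1 : G) = 1 := by unfold sgn; simp

theorem sgn_of_ne {g : G} (h : g ≠ 1) : sgn g = -1 := by unfold sgn; simp [h]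

theorem sgn_eq_one_iff (g : G) : sgn g = 1 ↔ g = 1 := by
  constructor
  · intro h
    by_contra hne
    rw [sgn_of_ne hne] at h
    omega
  · rintro rfl
    exact sgn_one

theorem sgn_cases (g : G) : sgn g = 1 ∨ sgn g = -1 := by
  by_cases h : g = 1
  · left; rw [h]; exact sgn_one
  · right; exact sgn_of_ne h

theorem sum_char {H : Type*} [Group H] [Fintype H] (χ : H → ℤ)
    (hmul : ∀ a b, χ (a * b) = χ a * χ b) (hval : ∀ a, χ a = 1 ∨ χ a = -1) :
    (∑ h, χ h = Fintype.card H ∧ ∀ a, χ a = 1) ∨ (∑ h, χ h = 0 ∧ ∃ a, χ a = -1) := by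
  by_cases h : ∀ a, χ a = 1
  · left
    refine ⟨?_, h⟩
    simp [h]
  · right
    push Not at h
    obtain ⟨a, ha⟩ := h
    have ha' : χ a = -1 := (hval a).resolve_left ha
    refine ⟨?_, a, ha'⟩
    have h1 : ∑ h, χ h = ∑ h, χ (a * h) := (Equiv.sum_comp (Equiv.mulLeft a) χ).symm
    simp only [hmul, ha'] at h1
    rw [← Finset.mul_sum] at h1
    linarith

/-- The hypotheses on the Frattini subgroup, abstractly. -/
structure Setup (G : Type*) [Group G] where
  Φ : Subgroup G
  z : G
  hz : z ∈ Φ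
  hz1 : z ≠ 1
  hΦ : ∀ a ∈ Φ, a = 1 ∨ a = z
  hcen : ∀ a ∈ Φ, ∀ g : G, g * a = a * g
  hsq : ∀ x : G, x * x ∈ Φ
  hcomm : ∀ x y : G, x * y * x⁻¹ * y⁻¹ ∈ Φ

namespace Setup
variable (D : Setup G)

theorem zz : D.z * D.z = 1 := by
  rcases D.hΦ _ (D.Φ.mul_mem D.hz D.hz) with h | h
  · exact h
  · exfalso
    apply D.hz1
    have := congrArg (fun t => D.z⁻¹ * t) h
    simpa using this

theorem sgn_mul {a b : G} (ha : a ∈ D.Φ) (hb : b ∈ D.Φ) : sgn (a * b) = sgn a * sgn b := by
  rcases D.hΦ a ha with rfl | rfl <;> rcases D.hΦ b hb with rfl | rfl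
  · simp [sgn_one]
  · simp [sgn_one]
  · simp [sgn_one]
  · rw [D.zz, sgn_one, sgn_of_ne D.hz1]; norm_num

theorem key (D : Setup G) (x u : G) :
    sgn (x * x) * sgn ((x⁻¹ * u) * (x⁻¹ * u)) = sgn (x * u * x⁻¹ * u⁻¹) * sgn (u * u) := by
  have h1 : (x⁻¹ * u) * (x⁻¹ * u) = (x⁻¹ * x⁻¹) * (x * u * x⁻¹ * u⁻¹) * (u * u) := by group
  rw [h1, D.sgn_mul (D.Φ.mul_mem (D.hsq _) (D.hcomm _ _)) (D.hsq _),
    D.sgn_mul (D.hsq _) (D.hcomm _ _), ← mul_assoc, ← mul_assoc,
    ← D.sgn_mul (D.hsq _) (D.hsq _)]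
  have h2 : x * x * (x⁻¹ * x⁻¹) = 1 := by group
  rw [h2, sgn_one, one_mul]

theorem comm_mul (D : Setup G) (x x' u : G) :
    sgn ((x * x') * u * (x * x')⁻¹ * u⁻¹) = sgn (x * u * x⁻¹ * u⁻¹) * sgn (x' * u * x'⁻¹ * u⁻¹) := by
  have h1 : (x * x') * u * (x * x')⁻¹ * u⁻¹ =
      x * (x' * u * x'⁻¹ * u⁻¹) * x⁻¹ * (x * u * x⁻¹ * u⁻¹) := by group
  have h2 : x * (x' * u * x'⁻¹ * u⁻¹) = (x' * u * x'⁻¹ * u⁻¹) * x := D.hcen _ (D.hcomm _ _) x
  rw [h1, h2, mul_inv_cancel_right, D.sgn_mul (D.hcomm _ _) (D.hcomm _ _), mul_comm]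

theorem sq_mul_center (D : Setup G) {u v : G} (hu : u ∈ Subgroup.center G) :
    sgn ((u * v) * (u * v)) = sgn (u * u) * sgn (v * v) := by
  have h1 : (u * v) * (u * v) = (u * u) * (v * v) := by
    have := Subgroup.mem_center_iff.mp hu v
    calc (u * v) * (u * v) = u * (v * u) * v := by group
      _ = u * (u * v) * v := by rw [this]
      _ = (u * u) * (v * v) := by group
  rw [h1, D.sgn_mul (D.hsq _) (D.hsq _)]

theorem T_sq [Fintype G] (D : Setup G) [Fintype (Subgroup.center G)] :
    (∑ x : G, sgn (x * x)) ^ 2 =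
      (Fintype.card G : ℤ) * ∑ u : Subgroup.center G, sgn ((u : G) * u) := by
  classical
  have hinner : ∀ u : G, ∑ x : G, sgn (x * u * x⁻¹ * u⁻¹) =
      if u ∈ Subgroup.center G then (Fintype.card G : ℤ) else 0 := by
    intro u
    rcases sum_char (fun x => sgn (x * u * x⁻¹ * u⁻¹)) (fun a b => D.comm_mul a b u)
      (fun a => sgn_cases _) with ⟨h1, h2⟩ | ⟨h1, a, ha⟩
    · have hu : u ∈ Subgroup.center G := by
        rw [Subgroup.mem_center_iff]
        intro g
        have h3 := (sgn_eq_one_iff _).mp (h2 g)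
        have h4 := congrArg (fun t => t * u * g) h3
        simpa [mul_assoc] using h4
      rw [if_pos hu]; exact h1
    · have hu : u ∉ Subgroup.center G := by
        intro hu
        have h3 := Subgroup.mem_center_iff.mp hu a
        have h4 : a * u * a⁻¹ * u⁻¹ = 1 := by rw [h3]; group
        have ha' : sgn (a * u * a⁻¹ * u⁻¹) = -1 := ha
        rw [h4, sgn_one] at ha'
        omega
      rw [if_neg hu]; exact h1
  calc (∑ x : G, sgn (x * x)) ^ 2 = ∑ x : G, ∑ y : G, sgn (x * x) * sgn (y * y) := by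
        rw [sq, Finset.sum_mul_sum]
    _ = ∑ x : G, ∑ u : G, sgn (x * x) * sgn ((x⁻¹ * u) * (x⁻¹ * u)) := by
        apply Finset.sum_congr rfl
        intro x _
        exact (Equiv.sum_comp (Equiv.mulLeft x⁻¹) (fun y => sgn (x * x) * sgn (y * y))).symm
    _ = ∑ x : G, ∑ u : G, sgn (x * u * x⁻¹ * u⁻¹) * sgn (u * u) := by
        simp only [D.key]
    _ = ∑ u : G, ∑ x : G, sgn (x * u * x⁻¹ * u⁻¹) * sgn (u * u) := Finset.sum_comm
    _ = ∑ u : G, (if u ∈ Subgroup.center G then (Fintype.card G : ℤ) else 0) * sgn (u * u) := by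
        apply Finset.sum_congr rfl
        intro u _
        rw [← Finset.sum_mul, hinner]
    _ = ∑ u ∈ Finset.univ.filter (· ∈ Subgroup.center G),
          (Fintype.card G : ℤ) * sgn (u * u) := by
        rw [Finset.sum_filter]
        apply Finset.sum_congr rfl
        intro u _
        split_ifs <;> simp
    _ = (Fintype.card G : ℤ) * ∑ u : Subgroup.center G, sgn ((u : G) * u) := by
        rw [← Finset.mul_sum]
        congr 1
        exact Finset.sum_subtype _ (by simp) _

theorem dichotomy [Fintype G] (D : Setup G) [Fintype (Subgroup.center G)] :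
    (∑ x : G, sgn (x * x)) = 0 ∨
      ((∑ x : G, sgn (x * x)) ^ 2 =
          (Fintype.card G : ℤ) * (Fintype.card (Subgroup.center G) : ℤ) ∧
        ∀ u ∈ Subgroup.center G, u * u = 1) := by
  rcases sum_char (fun u : Subgroup.center G => sgn ((u : G) * u))
      (fun a b => by
        simp only [Subgroup.coe_mul]
        exact D.sq_mul_center a.2)
      (fun a => sgn_cases _) with ⟨h1, h2⟩ | ⟨h1, -⟩
  · right
    refine ⟨by rw [D.T_sq, h1], ?_⟩
    intro u hu
    exact (sgn_eq_one_iff _).mp (h2 ⟨u, hu⟩)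
  · left
    have := D.T_sq
    rw [h1, mul_zero] at this
    exact pow_eq_zero_iff (two_ne_zero) |>.mp this

end Setup

theorem two_pow_cases {T : ℤ} {n : ℕ} (h : T ^ 2 = (2 : ℤ) ^ n) :
    ∃ m : ℕ, 2 * m = n ∧ (T = 2 ^ m ∨ T = -2 ^ m) := by
  have h1 : T.natAbs ^ 2 = 2 ^ n := by
    have := congrArg Int.natAbs h
    rwa [Int.natAbs_pow, Int.natAbs_pow, show Int.natAbs (2 : ℤ) = 2 from rfl] at this
  have h2 : T.natAbs ∣ 2 ^ n := by rw [← h1]; exact dvd_pow_self _ (by norm_num)
  obtain ⟨m, -, hm⟩ := (Nat.dvd_prime_pow Nat.prime_two).mp h2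
  refine ⟨m, ?_, ?_⟩
  · rw [hm, ← pow_mul] at h1
    have := Nat.pow_right_injective (le_refl 2) h1
    omega
  · rcases Int.natAbs_eq T with h3 | h3
    · left; rw [h3, hm]; push_cast; rfl
    · right; rw [h3, hm]; push_cast; rfl

/-- Let G be a finite 2-group whose Frattini subgroup Φ(G) has order 2, with |G : Φ(G)| = 2^d, and let j be the number of elements x of G with x² = 1. Then j = 2^d, or j = 2^d + 2^(d−r) or j = 2^d − 2^(d−r) for some positive integer r with 2r ≤ d. Moreover if d = 2r and j is 2^d + 2^r or 2^d − 2^r, then G is extraspecial. -/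
theorem result {G : Type*} [Group G] [Finite G] (hG : IsPGroup 2 G) (hΦ : Nat.card (frattini G) = 2) (d : ℕ) (hd : (frattini G).index = 2 ^ d) : (Nat.card {x : G // x ^ 2 = 1} = 2 ^ d ∨ ∃ r : ℕ, 1 ≤ r ∧ 2 * r ≤ d ∧ (Nat.card {x : G // x ^ 2 = 1} = 2 ^ d + 2 ^ (d - r) ∨ Nat.card {x : G // x ^ 2 = 1} + 2 ^ (d - r) = 2 ^ d)) ∧ (∀ r : ℕ, d = 2 * r → (Nat.card {x : G // x ^ 2 = 1} = 2 ^ d + 2 ^ r ∨ Nat.card {x : G // x ^ 2 = 1} + 2 ^ r = 2 ^ d) → Cfsg.IsExtraspecial 2 G) := by
  classical
  haveI : Fact (Nat.Prime 2) := ⟨Nat.prime_two⟩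
  haveI : Fintype G := Fintype.ofFinite G
  haveI : Fintype (Subgroup.center G) := Fintype.ofFinite _
  obtain ⟨z', hz'1, hz'u⟩ := (Nat.card_eq_two_iff' (1 : frattini G)).mp hΦ
  have hz1 : (z' : G) ≠ 1 := fun h => hz'1 (Subtype.ext h)
  have hΦ' : ∀ a ∈ frattini G, a = 1 ∨ a = (z' : G) := by
    intro a ha
    by_cases h1 : a = 1
    · left; exact h1
    · right
      have := hz'u ⟨a, ha⟩ (fun h => h1 (congrArg Subtype.val h))
      exact congrArg Subtype.val this
  have hfn : (frattini G).Normal := inferInstance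
  have hcen : ∀ a ∈ frattini G, ∀ g : G, g * a = a * g := by
    intro a ha g
    rcases hΦ' a ha with rfl | rfl
    · simp
    · rcases hΦ' _ (hfn.conj_mem _ z'.2 g) with h | h
      · exfalso
        apply hz1
        have := congrArg (fun t => g⁻¹ * t * g) h
        simpa [mul_assoc] using this
      · have := congrArg (fun t => t * g) h
        simpa [mul_assoc] using this
  have hsq : ∀ x : G, x * x ∈ frattini G := by
    intro x
    have := Cfsg.Agent.Lib.Helper2.pow_mem_frattini_of_isPGroup hG x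
    rwa [pow_two] at this
  have hcomm : ∀ x y : G, x * y * x⁻¹ * y⁻¹ ∈ frattini G := by
    intro x y
    apply Cfsg.Agent.Lib.Helper2.commutator_le_frattini_of_isPGroup hG
    rw [commutator_def, ← commutatorElement_def]
    exact Subgroup.commutator_mem_commutator (Subgroup.mem_top x) (Subgroup.mem_top y)
  let D : Setup G :=
    { Φ := frattini G, z := z', hz := z'.2, hz1 := hz1, hΦ := hΦ', hcen := hcen, hsq := hsq,
      hcomm := hcomm }
  set T : ℤ := ∑ x : G, sgn (x * x) with hT
  set j := Nat.card {x : G // x ^ 2 = 1} with hj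
  have hcardG : Nat.card G = 2 * 2 ^ d := by
    rw [← Subgroup.card_mul_index (frattini G), hΦ, hd]
  have hcardG' : (Fintype.card G : ℤ) = 2 * 2 ^ d := by
    rw [← Nat.card_eq_fintype_card, hcardG]; push_cast; rfl
  -- T = 2j - |G|
  have hTj : T = 2 * (j : ℤ) - 2 * 2 ^ d := by
    have h1 : j = (Finset.univ.filter (fun x : G => x ^ 2 = 1)).card := by
      rw [hj, Nat.card_eq_fintype_card, Fintype.card_subtype]
    have h2 : T = ∑ x : G, (if x ^ 2 = 1 then (1 : ℤ) else -1) := by
      apply Finset.sum_congr rfl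
      intro x _
      rw [← pow_two]
      unfold sgn
      rfl
    have h3 := Finset.card_filter_add_card_filter_not (s := (Finset.univ : Finset G))
      (fun x : G => x ^ 2 = 1)
    rw [h2, Finset.sum_ite, Finset.sum_const, Finset.sum_const, ← h1]
    have h4 : ((Finset.univ.filter (fun x : G => ¬ x ^ 2 = 1)).card : ℤ) =
        2 * 2 ^ d - (j : ℤ) := by
      rw [← h1, Finset.card_univ] at h3
      have : (j : ℤ) + ((Finset.univ.filter (fun x : G => ¬ x ^ 2 = 1)).card : ℤ) =
          (Fintype.card G : ℤ) := by exact_mod_cast h3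
      rw [hcardG'] at this
      linarith
    simp only [nsmul_eq_mul, mul_one, mul_neg]
    rw [h4]
    ring
  have hdich := D.dichotomy
  -- non-abelian
  have hnonab : (∀ u ∈ Subgroup.center G, u * u = 1) → ¬ (∀ a b : G, a * b = b * a) := by
    intro hu hab
    have hle : frattini G ≤ (⊥ : Subgroup G) := by
      apply Cfsg.Agent.Lib.Helper2.frattini_le_of_elementary_quotient (p := 2)
      · rw [commutator_def, Subgroup.commutator_le]
        intro a _ b _
        rw [Subgroup.mem_bot, commutatorElement_def, hab a b]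
        group
      · intro x
        rw [Subgroup.mem_bot, pow_two]
        exact hu x (Subgroup.mem_center_iff.mpr (fun g => hab g x))
    have : frattini G = ⊥ := le_bot_iff.mp hle
    rw [this, Subgroup.card_bot] at hΦ
    omega
  have hΦZ : frattini G ≤ Subgroup.center G := by
    intro a ha
    rw [Subgroup.mem_center_iff]
    exact hcen a ha
  -- order of the centre
  obtain ⟨c, hc⟩ := IsPGroup.iff_card.mp (hG.to_subgroup (Subgroup.center G))
  have hc' : (Fintype.card (Subgroup.center G) : ℤ) = 2 ^ c := by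
    rw [← Nat.card_eq_fintype_card, hc]; push_cast; rfl
  have hc1 : 1 ≤ c := by
    have h1 := Subgroup.card_dvd_of_le hΦZ
    rw [hΦ, hc] at h1
    rcases Nat.eq_zero_or_pos c with rfl | h
    · rw [pow_zero] at h1
      have := Nat.le_of_dvd (by norm_num) h1
      omega
    · exact h
  have hcle : c ≤ d + 1 := by
    have h1 := Subgroup.card_subgroup_dvd_card (Subgroup.center G)
    rw [hc, hcardG, ← pow_succ'] at h1
    exact (Nat.pow_dvd_pow_iff_le_right (by norm_num)).mp h1
  have hcne : (∀ u ∈ Subgroup.center G, u * u = 1) → c ≠ d + 1 := by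
    intro hu hcd
    apply hnonab hu
    have htop : Subgroup.center G = ⊤ := by
      apply Subgroup.eq_top_of_card_eq
      rw [hc, hcd, hcardG, pow_succ']
    intro a b
    have : b ∈ Subgroup.center G := htop ▸ Subgroup.mem_top b
    exact Subgroup.mem_center_iff.mp this a
  constructor
  · rcases hdich with h0 | ⟨hsq2, hu⟩
    · left
      have : T = 0 := h0
      rw [hTj] at this
      have h2 : (j : ℤ) = 2 ^ d := by linarith
      exact_mod_cast h2
    · right
      have hT2 : T ^ 2 = (2 : ℤ) ^ (d + 1 + c) := by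
        rw [hsq2, hcardG', hc']
        ring
      obtain ⟨m, hm, hTm⟩ := two_pow_cases hT2
      have hcd := hcne hu
      have hm1 : 1 ≤ m := by omega
      have hmd : m ≤ d := by omega
      refine ⟨d + 1 - m, by omega, by omega, ?_⟩
      have hdr : d - (d + 1 - m) = m - 1 := by omega
      rw [hdr]
      have hpm : (2 : ℤ) ^ m = 2 * 2 ^ (m - 1) := by
        rw [← pow_succ']
        congr 1
        omega
      rcases hTm with h | h
      · left
        have h2 : (j : ℤ) = 2 ^ d + 2 ^ (m - 1) := by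
          rw [hTj, hpm] at h
          linarith
        exact_mod_cast h2
      · right
        have h2 : (j : ℤ) + 2 ^ (m - 1) = 2 ^ d := by
          rw [hTj, hpm] at h
          linarith
        exact_mod_cast h2
  · intro r hdr hjr
    have hTr : T = 2 * 2 ^ r ∨ T = -(2 * 2 ^ r) := by
      rcases hjr with h | h
      · left
        rw [hTj]
        have : (j : ℤ) = 2 ^ d + 2 ^ r := by exact_mod_cast h
        rw [this]; ring
      · right
        rw [hTj]
        have : (j : ℤ) + 2 ^ r = 2 ^ d := by exact_mod_cast h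
        linarith
    have hTne : T ≠ 0 := by
      have : (0 : ℤ) < 2 * 2 ^ r := by positivity
      rcases hTr with h | h <;> rw [h] <;> linarith
    rcases hdich with h0 | ⟨hsq2, hu⟩
    · exact absurd h0 hTne
    · have hT2 : T ^ 2 = (2 : ℤ) ^ (2 * r + 2) := by
        rcases hTr with h | h <;> rw [h] <;> ring
      rw [hsq2, hcardG', hc', hdr] at hT2
      have h3 : (2 : ℤ) ^ (2 * r + 1 + c) = 2 ^ (2 * r + 2) := by
        rw [← hT2]; ring
      have h4 : 2 * r + 1 + c = 2 * r + 2 :=
        Int.pow_right_injective (by norm_num) h3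
      have hc2 : c = 1 := by omega
      have hcardZ : Nat.card (Subgroup.center G) = 2 := by rw [hc, hc2, pow_one]
      have hΦeq : frattini G = Subgroup.center G :=
        Subgroup.eq_of_le_of_card_ge hΦZ (by rw [hcardZ, hΦ])
      have hcomle : commutator G ≤ frattini G :=
        Cfsg.Agent.Lib.Helper2.commutator_le_frattini_of_isPGroup hG
      have hcomne : commutator G ≠ ⊥ := by
        intro hbot
        apply hnonab hu
        intro a b
        have h5 : ⁅a, b⁆ ∈ commutator G := by
          rw [commutator_def]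
          exact Subgroup.commutator_mem_commutator (Subgroup.mem_top a) (Subgroup.mem_top b)
        rw [hbot, Subgroup.mem_bot, commutatorElement_def] at h5
        have := congrArg (fun t => t * b * a) h5
        simpa [mul_assoc] using this
      have hcomeq : commutator G = frattini G := by
        apply Subgroup.eq_of_le_of_card_ge hcomle
        rw [hΦ]
        have := (Subgroup.one_lt_card_iff_ne_bot (commutator G)).mpr hcomne
        omega
      exact ⟨⟨hG, hΦeq, hcomeq.trans hΦeq⟩, hcardZ⟩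

end Cfsg.Agent.S3772
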