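import Cfsg.Statements.S0799
import Cfsg.Agent.Lib.Helper12.DkH
import Cfsg.Agent.Lib.Helper16.BorelCase
import Cfsg.Agent.Lib.Helper1.DkOrders
import Cfsg.Agent.Lib.Lead.DicksonStd

set_option autoImplicit false
open Cfsg

namespace Cfsg.Agent.S0799

open Cfsg.Agent.Lib.Lead.DicksonSL2 Cfsg.Agent.Lib.Lead.SL2Scalar Cfsg.Agent.Lib.Helper12.DkG
  Cfsg.Agent.Lib.Helper12.DkH Cfsg.Agent.Lib.Helper9.SL2Upper Cfsg.Agent.Lib.Lead.DicksonBase

/-- the conclusion of Dickson's theorem -/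
def DC (F : Type*) [Field F] [Fintype F] (q p : ℕ) [Fact p.Prime]
    (H : Subgroup (Matrix.ProjectiveSpecialLinearGroup (Fin 2) F)) : Prop :=
  (∃ k : ℕ, (k ∣ (q + 1) / Nat.gcd 2 (q - 1) ∨ k ∣ (q - 1) / Nat.gcd 2 (q - 1)) ∧ ((IsCyclic H ∧ Nat.card H = k) ∨ Nonempty (H ≃* DihedralGroup k))) ∨ (∃ (P : Sylow p (Matrix.ProjectiveSpecialLinearGroup (Fin 2) F)) (K : Subgroup (Matrix.ProjectiveSpecialLinearGroup (Fin 2) F)), K ≤ Subgroup.normalizer ((P : Subgroup (Matrix.ProjectiveSpecialLinearGroup (Fin 2) F)) : Set (Matrix.ProjectiveSpecialLinearGroup (Fin 2) F)) ∧ Nonempty (H ≃* K)) ∨ Nonempty (H ≃* alternatingGroup (Fin 4)) ∨ Nonempty (H ≃* Equiv.Perm (Fin 4)) ∨ Nonempty (H ≃* alternatingGroup (Fin 5)) ∨ (∃ (K : Type) (_ : Field K) (_ : Fintype K) (m : ℕ), Fintype.card K ^ m = q ∧ (Nonempty (H ≃* Matrix.ProjectiveSpecialLinearGroup (Fin 2) K) ∨ Nonempty (H ≃* Matrix.ProjGenLinGroup (Fin 2) K)))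

variable {F : Type*} [Field F] [Fintype F]

theorem DC_of_AC {q p : ℕ} [Fact p.Prime]
    {H : Subgroup (Matrix.ProjectiveSpecialLinearGroup (Fin 2) F)} {X : Type*} [Group X]
    (e : X ≃* H) (h : ConclAC q (Nat.gcd 2 (q - 1)) X) : DC F q p H := by
  rcases ConclAC.congr e h with h1 | h1 | h1 | h1
  · exact Or.inl h1
  · exact Or.inr (Or.inr (Or.inl h1))
  · exact Or.inr (Or.inr (Or.inr (Or.inl h1)))
  · exact Or.inr (Or.inr (Or.inr (Or.inr (Or.inl h1))))

theorem card_ZH_of_center_le {H : Subgroup (Matrix.SpecialLinearGroup (Fin 2) F)}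
    (hZ : Subgroup.center (Matrix.SpecialLinearGroup (Fin 2) F) ≤ H) :
    Nat.card (ZH H) = Nat.gcd 2 (Fintype.card F - 1) := by
  rw [← Cfsg.Agent.Lib.Helper1.DkOrders.card_center_gcd]
  apply Nat.card_congr
  refine ⟨fun x => ⟨((x : H) : Matrix.SpecialLinearGroup (Fin 2) F),
      (mem_center_iff' _).mpr x.2⟩,
    fun z => ⟨⟨(z : Matrix.SpecialLinearGroup (Fin 2) F), hZ z.2⟩, (mem_center_iff' _).mp z.2⟩,
    fun x => rfl, fun z => rfl⟩

theorem conjHom_center (M Mi : Matrix (Fin 2) (Fin 2) F) (h1 : M * Mi = 1) (h2 : Mi * M = 1)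
    (z : Matrix.SpecialLinearGroup (Fin 2) F)
    (hz : z ∈ Subgroup.center (Matrix.SpecialLinearGroup (Fin 2) F)) :
    conjHom M Mi h1 h2 z = z := by
  apply Subtype.ext
  rw [conjHom_coe]
  rcases (mem_center_iff' z).mp hz with h | h
  · rw [h, mul_one, h1]
  · rw [h, mul_neg, mul_one, neg_mul, h1]

/-- Dickson's classification of the subgroups of PSL_2(q), q a power of the prime p, d = gcd(2, q − 1): every subgroup H is (a) cyclic or dihedral with k dividing (q+1)/d or (q−1)/d (cyclic of order k, or dihedral of order 2k), (b) isomorphic to a subgroup of the normaliser of a Sylow p-subgroup, (c) isomorphic to A_4, S_4 or A_5, or (d) isomorphic to PSL_2(K) or PGL_2(K) for a finite field K with |K|^m = q. -/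
theorem result {F : Type*} [Field F] [Fintype F] {q : ℕ} (hF : Fintype.card F = q) (p : ℕ) [Fact p.Prime] [CharP F p] (H : Subgroup (Matrix.ProjectiveSpecialLinearGroup (Fin 2) F)) : (∃ k : ℕ, (k ∣ (q + 1) / Nat.gcd 2 (q - 1) ∨ k ∣ (q - 1) / Nat.gcd 2 (q - 1)) ∧ ((IsCyclic H ∧ Nat.card H = k) ∨ Nonempty (H ≃* DihedralGroup k))) ∨ (∃ (P : Sylow p (Matrix.ProjectiveSpecialLinearGroup (Fin 2) F)) (K : Subgroup (Matrix.ProjectiveSpecialLinearGroup (Fin 2) F)), K ≤ Subgroup.normalizer ((P : Subgroup (Matrix.ProjectiveSpecialLinearGroup (Fin 2) F)) : Set (Matrix.ProjectiveSpecialLinearGroup (Fin 2) F)) ∧ Nonempty (H ≃* K)) ∨ Nonempty (H ≃* alternatingGroup (Fin 4)) ∨ Nonempty (H ≃* Equiv.Perm (Fin 4)) ∨ Nonempty (H ≃* alternatingGroup (Fin 5)) ∨ (∃ (K : Type) (_ : Field K) (_ : Fintype K) (m : ℕ), Fintype.card K ^ m = q ∧ (Nonempty (H ≃* Matrix.ProjectiveSpecialLinearGroup (Fin 2) K) ∨ Nonempty (H ≃* Matrix.ProjGenLinGroup (Fin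 2) K))) := by
  classical
  show DC F q p H
  subst hF
  have hπs : Function.Surjective
      (QuotientGroup.mk' (Subgroup.center (Matrix.SpecialLinearGroup (Fin 2) F))) :=
    QuotientGroup.mk'_surjective _
  obtain ⟨Hh, hHh⟩ : ∃ Hh : Subgroup (Matrix.SpecialLinearGroup (Fin 2) F),
      Hh = H.comap (QuotientGroup.mk' (Subgroup.center (Matrix.SpecialLinearGroup (Fin 2) F))) :=
    ⟨_, rfl⟩
  have hmap : Hh.map (QuotientGroup.mk' (Subgroup.center (Matrix.SpecialLinearGroup (Fin 2) F)))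
      = H := by
    rw [hHh]; exact Subgroup.map_comap_eq_self_of_surjective hπs H
  have hZle : Subgroup.center (Matrix.SpecialLinearGroup (Fin 2) F) ≤ Hh := by
    intro z hz
    rw [hHh, Subgroup.mem_comap, QuotientGroup.mk'_apply, (QuotientGroup.eq_one_iff z).mpr hz]
    exact H.one_mem
  have hz := card_ZH_of_center_le hZle
  haveI : Finite (Matrix.SpecialLinearGroup (Fin 2) F) := inferInstance
  by_cases hp : p ∣ Nat.card Hh
  swap
  · have h1 := T1 (H := Hh) p hp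
    rw [hz] at h1
    obtain ⟨e⟩ := quot_equiv Hh
    exact DC_of_AC (e.trans (MulEquiv.subgroupCongr hmap)) h1
  · by_cases hS : 1 < Nat.card (Sylow p Hh)
    · obtain ⟨M, Mi, h1, h2, b, hb, hu, hl⟩ := Cfsg.Agent.Lib.Lead.DicksonStd.exists_std p Hh hS
      obtain ⟨H', hH'⟩ : ∃ H' : Subgroup (Matrix.SpecialLinearGroup (Fin 2) F),
          H' = Hh.comap (conjHom M Mi h1 h2) := ⟨_, rfl⟩
      have hu' : (upper 1 : Matrix.SpecialLinearGroup (Fin 2) F) ∈ H' := by
        rw [hH', Subgroup.mem_comap]; exact hu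
      have hl' : (lower b : Matrix.SpecialLinearGroup (Fin 2) F) ∈ H' := by
        rw [hH', Subgroup.mem_comap]; exact hl
      obtain ⟨e1⟩ := Cfsg.Agent.Lib.Lead.DicksonStd.conj_iso M Mi h1 h2 Hh
      rw [← hH', hmap] at e1
      have hZle' : Subgroup.center (Matrix.SpecialLinearGroup (Fin 2) F) ≤ H' := by
        intro z hz
        rw [hH', Subgroup.mem_comap, conjHom_center M Mi h1 h2 z hz]
        exact hZle hz
      have hz' := card_ZH_of_center_le hZle'
      rcases T2 p hb hu' hl' with h | ⟨K, iK, fK, m, hm, hiso⟩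
      · rw [hz'] at h
        obtain ⟨e⟩ := quot_equiv H'
        exact DC_of_AC (e.trans e1) h
      · refine Or.inr (Or.inr (Or.inr (Or.inr (Or.inr ⟨K, iK, fK, m, hm, ?_⟩))))
        rcases hiso with ⟨⟨f⟩⟩ | ⟨⟨f⟩⟩
        · exact Or.inl ⟨e1.symm.trans f⟩
        · exact Or.inr ⟨e1.symm.trans f⟩
    · have hS1 : Subsingleton (Sylow p Hh) := by
        push Not at hS
        exact (Finite.card_le_one_iff_subsingleton).mp hS
      obtain ⟨v, hv, hfix⟩ := T3 p hp hS1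
      obtain ⟨P, K, hK, hiso⟩ := Cfsg.Agent.Lib.Helper16.BorelCase.borel_case p H v hv
        (fun g hg => hfix g (by rw [hHh, Subgroup.mem_comap]; exact hg))
      exact Or.inr (Or.inl ⟨P, K, hK, hiso⟩)

end Cfsg.Agent.S0799
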