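import Cfsg.Statements.S0494
import Mathlib

set_option autoImplicit false
open Cfsg

namespace Cfsg.Agent.S0494

/-- In a simple group, the action on cosets of a proper subgroup is faithful. -/
theorem toPermHom_injective {G : Type*} [Group G] [IsSimpleGroup G] (H : Subgroup G) (hH : H ≠ ⊤) :
    Function.Injective (MulAction.toPermHom G (G ⧸ H)) := by
  rw [← MonoidHom.ker_eq_bot_iff]
  have hker : (MulAction.toPermHom G (G ⧸ H)).ker = H.normalCore :=
    (Subgroup.normalCore_eq_ker H).symm
  rw [hker]
  have hn : H.normalCore.Normal := inferInstance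
  rcases hn.eq_bot_or_eq_top with h | h
  · exact h
  · exfalso
    apply hH
    rw [eq_top_iff, ← h]
    exact Subgroup.normalCore_le H

/-- In a finite simple group, `|G|` divides `(index H)!` for any proper subgroup. -/
theorem card_dvd_factorial_index {G : Type*} [Group G] [Finite G] [IsSimpleGroup G]
    (H : Subgroup G) (hH : H ≠ ⊤) : Nat.card G ∣ (H.index).factorial := by
  classical
  have hinj := toPermHom_injective H hH
  have h1 := Subgroup.card_dvd_of_injective _ hinj
  have : Fintype (G ⧸ H) := Fintype.ofFinite _
  rw [Nat.card_eq_fintype_card (α := Equiv.Perm (G ⧸ H)), Fintype.card_perm] at h1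
  rw [Subgroup.index, Nat.card_eq_fintype_card (α := G ⧸ H)]
  exact h1

theorem result {G : Type*} [Group G] [Finite G] [IsSimpleGroup G]
    (h : Nat.card G = 60) : Nonempty (G ≃* alternatingGroup (Fin 5)) := by
  classical
  have : Fact (Nat.Prime 2) := ⟨Nat.prime_two⟩
  have hfac : (60 : ℕ).factorization 2 = 2 := by decide +kernel
  obtain ⟨P⟩ : Nonempty (Sylow 2 G) := inferInstance
  have hPcard : Nat.card P = 4 := by
    rw [Sylow.card_eq_multiplicity, h, hfac]; norm_num
  have hPcomm : ∀ a b : (P : Subgroup G), a * b = b * a :=
    (IsPGroup.isMulCommutative_of_card_eq_prime_sq (p := 2)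
      (hPcard.trans (by norm_num))).is_comm.comm
  set N : Subgroup G := Subgroup.normalizer ((P : Subgroup G) : Set G) with hN
  have hPN : (P : Subgroup G) ≤ N := Subgroup.le_normalizer
  have hNidx : N.index ∣ 15 := by
    have h1 : Nat.card (P : Subgroup G) ∣ Nat.card N := Subgroup.card_dvd_of_le hPN
    have h2 : Nat.card N * N.index = 60 := by rw [Subgroup.card_mul_index, h]
    rw [hPcard] at h1
    obtain ⟨c, hc⟩ := h1
    rw [hc] at h2
    exact ⟨c, by linarith⟩
  have hcases : N.index = 1 ∨ N.index = 3 ∨ N.index = 5 ∨ N.index = 15 := by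
    have hle : N.index ≤ 15 := Nat.le_of_dvd (by norm_num) hNidx
    have hpos : 0 < N.index := Nat.pos_of_dvd_of_pos hNidx (by norm_num)
    interval_cases hidx : N.index <;> simp_all
  have hidx5 : N.index = 5 := by
    rcases hcases with h1 | h3 | h5 | h15
    · -- P normal
      exfalso
      have hNtop : N = ⊤ := Subgroup.index_eq_one.mp h1
      have hPn : (P : Subgroup G).Normal := Subgroup.normalizer_eq_top_iff.mp hNtop
      rcases hPn.eq_bot_or_eq_top with hb | ht
      · rw [hb, Subgroup.card_bot] at hPcard
        norm_num at hPcard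
      · rw [ht, Subgroup.card_top, h] at hPcard
        norm_num at hPcard
    · exfalso
      have hne : N ≠ ⊤ := by
        intro ht
        rw [ht, Subgroup.index_top] at h3
        norm_num at h3
      have := card_dvd_factorial_index N hne
      rw [h, h3] at this
      norm_num [Nat.factorial] at this
    · exact h5
    · exfalso
      have hNcard : Nat.card N = 4 := by
        have h2 : Nat.card N * N.index = 60 := by rw [Subgroup.card_mul_index, h]
        rw [h15] at h2
        omega
      have hNP : N = (P : Subgroup G) := by
        symm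
        apply Subgroup.eq_of_le_of_card_ge hPN
        rw [hNcard, hPcard]
      have hP : Subgroup.normalizer ((P : Subgroup G) : Set G) ≤
          Subgroup.centralizer ((P : Subgroup G) : Set G) := by
        intro x hx
        rw [← hN, hNP] at hx
        rw [Subgroup.mem_centralizer_iff]
        intro y hy
        have := hPcomm ⟨y, hy⟩ ⟨x, hx⟩
        exact congrArg Subtype.val this
      have hcompl := MonoidHom.ker_transferSylow_isComplement' P hP
      have hcard := hcompl.card_mul
      rw [hPcard, h] at hcard
      have hK15 : Nat.card (MonoidHom.transferSylow P hP).ker = 15 := by omega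
      have hKn : (MonoidHom.transferSylow P hP).ker.Normal := inferInstance
      rcases hKn.eq_bot_or_eq_top with hb | ht
      · rw [hb, Subgroup.card_bot] at hK15
        norm_num at hK15
      · rw [ht, Subgroup.card_top, h] at hK15
        norm_num at hK15
  -- Now the embedding into Perm (G ⧸ N)
  have hne : N ≠ ⊤ := by
    intro ht
    rw [ht, Subgroup.index_top] at hidx5
    norm_num at hidx5
  have hinj := toPermHom_injective N hne
  have hcard5 : Nat.card (G ⧸ N) = 5 := hidx5
  have : Fintype (G ⧸ N) := Fintype.ofFinite _
  have hcard5' : Fintype.card (G ⧸ N) = Fintype.card (Fin 5) := by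
    rw [← Nat.card_eq_fintype_card, hcard5]; simp
  obtain ⟨e⟩ := Fintype.card_eq.mp hcard5'
  set f : G →* Equiv.Perm (Fin 5) :=
    (e.permCongrHom.toMonoidHom).comp (MulAction.toPermHom G (G ⧸ N)) with hf
  have hfinj : Function.Injective f := by
    rw [hf]
    exact e.permCongrHom.injective.comp hinj
  have hrange_card : Nat.card f.range = 60 := by
    rw [← h]
    exact (Nat.card_congr (MonoidHom.ofInjective hfinj).toEquiv).symm
  have hrange_idx : f.range.index = 2 := by
    have h2 : Nat.card f.range * f.range.index = Nat.card (Equiv.Perm (Fin 5)) :=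
      Subgroup.card_mul_index _
    rw [hrange_card, Nat.card_eq_fintype_card, Fintype.card_perm, Fintype.card_fin] at h2
    norm_num [Nat.factorial] at h2
    omega
  have hrange := Equiv.Perm.eq_alternatingGroup_of_index_eq_two hrange_idx
  exact ⟨(MonoidHom.ofInjective hfinj).trans (MulEquiv.subgroupCongr hrange)⟩

end Cfsg.Agent.S0494
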