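import Cfsg.Statements.S0805
import Mathlib
import Cfsg.Agent.Lib.Helper12.GL2
import Cfsg.Agent.Lib.Helper12.SL2b
import Cfsg.Agent.Lib.Helper12.RecogB
import Cfsg.Agent.S0807
import Cfsg.Agent.S2475
import Cfsg.Agent.Lib.Helper12.Quat

set_option autoImplicit false
open Cfsg

namespace Cfsg.Agent.S0805

open Cfsg.Agent.Lib.Helper12

variable {F K : Type*} [Field F] [Field K]

local notation "SL2" => Matrix.SpecialLinearGroup (Fin 2)
local notation "GL2" => Matrix.GeneralLinearGroup (Fin 2)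
local notation "PSL2" => Matrix.ProjectiveSpecialLinearGroup (Fin 2)
local notation "PGL2" => Matrix.ProjGenLinGroup (Fin 2)

theorem exists_ringHom [Fintype F] [Fintype K] (m : ℕ)
    (hK : Fintype.card K ^ m = Fintype.card F) : Nonempty (K →+* F) := by
  obtain ⟨p, hp⟩ := CharP.exists K
  haveI : Fact p.Prime := ⟨CharP.char_is_prime K p⟩
  letI := ZMod.algebra K p
  have h1 : Fintype.card K = p ^ Module.finrank (ZMod p) K := by
    rw [Module.card_eq_pow_finrank (K := ZMod p) (V := K), ZMod.card]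
  haveI : CharP F p := by
    apply charP_of_card_eq_prime_pow (f := Module.finrank (ZMod p) K * m)
    rw [← hK, h1, pow_mul]
  letI := ZMod.algebra F p
  have h2 : Fintype.card F = p ^ Module.finrank (ZMod p) F := by
    rw [Module.card_eq_pow_finrank (K := ZMod p) (V := F), ZMod.card]
  have h3 : Module.finrank (ZMod p) K * m = Module.finrank (ZMod p) F := by
    apply Nat.pow_right_injective (Fact.out : p.Prime).two_le
    show p ^ _ = p ^ _
    rw [← h2, ← hK, h1, pow_mul]
  obtain ⟨f⟩ := FiniteField.nonempty_algHom_of_finrank_dvd (F := ZMod p) (K := K) (L := F)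
    (Dvd.intro _ h3)
  exact ⟨f.toRingHom⟩


theorem scalar_of_map (ι : K →+* F) (A : Matrix (Fin 2) (Fin 2) K) (c : F)
    (h : A.map ι = Matrix.scalar (Fin 2) c) :
    A = Matrix.scalar (Fin 2) (A 0 0) ∧ ι (A 0 0) = c := by
  have h00 := congrFun (congrFun h 0) 0
  have h01 := congrFun (congrFun h 0) 1
  have h10 := congrFun (congrFun h 1) 0
  have h11 := congrFun (congrFun h 1) 1
  simp at h00 h01 h10 h11
  refine ⟨?_, h00⟩
  ext i j
  fin_cases i <;> fin_cases j
  · simp
  · simpa using h01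
  · simpa using h10
  · simp
    apply ι.injective
    rw [h11, h00]

theorem slmap_apply (ι : K →+* F) (g : SL2 K) (i j : Fin 2) :
    (Matrix.SpecialLinearGroup.map ι g) i j = ι (g i j) := by
  rw [Matrix.SpecialLinearGroup.map_apply_coe]
  rfl

theorem map_mem_center (ι : K →+* F) (g : SL2 K) :
    Matrix.SpecialLinearGroup.map ι g ∈ Subgroup.center (SL2 F) ↔ g ∈ Subgroup.center (SL2 K) := by
  rw [Matrix.SpecialLinearGroup.mem_center_iff, Matrix.SpecialLinearGroup.mem_center_iff]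
  constructor
  · rintro ⟨r, hr, h⟩
    have h' : (g : Matrix (Fin 2) (Fin 2) K).map ι = Matrix.scalar (Fin 2) r := by
      rw [h]; rfl
    obtain ⟨h1, h2⟩ := scalar_of_map ι _ r h'
    refine ⟨g 0 0, ?_, h1.symm⟩
    apply ι.injective
    rw [map_pow, h2, hr, map_one]
  · rintro ⟨r, hr, h⟩
    refine ⟨ι r, by rw [← map_pow, hr, map_one], ?_⟩
    have h00 : g 0 0 = r := by rw [← h]; simp
    have h01 : g 0 1 = 0 := by rw [← h]; simp
    have h10 : g 1 0 = 0 := by rw [← h]; simp
    have h11 : g 1 1 = r := by rw [← h]; simp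
    ext i j
    fin_cases i <;> fin_cases j <;> simp [slmap_apply, h00, h01, h10, h11]

/-- the induced map on `PSL₂` -/
noncomputable def pslMap (ι : K →+* F) : PSL2 K →* PSL2 F :=
  QuotientGroup.map _ _ (Matrix.SpecialLinearGroup.map ι) (by
    intro g hg
    exact (map_mem_center ι g).mpr hg)

theorem pslMap_injective (ι : K →+* F) : Function.Injective (pslMap ι) := by
  rw [injective_iff_map_eq_one]
  intro x hx
  obtain ⟨g, rfl⟩ := QuotientGroup.mk_surjective x
  have : (QuotientGroup.mk (Matrix.SpecialLinearGroup.map ι g) : PSL2 F) = 1 := hx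
  rw [QuotientGroup.eq_one_iff] at this ⊢
  exact (map_mem_center ι g).mp this


section hom

open Cfsg.Agent.Lib.Helper12.SL2 Cfsg.Agent.S0807 Cfsg.Agent.Lib.Helper12.Quat

variable (ι : K →+* F)

theorem ddet_ne (g : GL2 K) : g 0 0 * g 1 1 - g 0 1 * g 1 0 ≠ 0 := by
  rw [← GL2.det_eq]; exact GL2.det_ne_zero g

theorem s_ne_zero (g : GL2 K) (s : F) (hs : s * s = ι (g 0 0 * g 1 1 - g 0 1 * g 1 0)) : s ≠ 0 := by
  rintro rfl
  apply ddet_ne g
  apply ι.injective
  rw [← hs]; simp

/-- lift of `g` with a square root `s` of its determinant -/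
noncomputable def lft (g : GL2 K) (s : F) (hs : s * s = ι (g 0 0 * g 1 1 - g 0 1 * g 1 0)) : SL2 F :=
  SL2.mk (s⁻¹ * ι (g 0 0)) (s⁻¹ * ι (g 0 1)) (s⁻¹ * ι (g 1 0)) (s⁻¹ * ι (g 1 1)) (by
    have hs0 := s_ne_zero ι g s hs
    simp only [map_sub, map_mul] at hs
    field_simp
    linear_combination (-1 : F) * hs)

theorem lft_mul (g h : GL2 K) (s t : F) (hs : s * s = ι (g 0 0 * g 1 1 - g 0 1 * g 1 0))
    (ht : t * t = ι (h 0 0 * h 1 1 - h 0 1 * h 1 0))
    (hst : (s * t) * (s * t) = ι ((g * h) 0 0 * (g * h) 1 1 - (g * h) 0 1 * (g * h) 1 0)) :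
    lft ι g s hs * lft ι h t ht = lft ι (g * h) (s * t) hst := by
  have hs0 := s_ne_zero ι g s hs
  have ht0 := s_ne_zero ι h t ht
  apply SL2.ext4 <;>
  · simp only [SL2.mul_apply', lft, SL2.mk_00, SL2.mk_01, SL2.mk_10, SL2.mk_11, GL2.mul_apply',
      map_add, map_mul]
    field_simp

theorem hst_of (g h : GL2 K) (s t : F) (hs : s * s = ι (g 0 0 * g 1 1 - g 0 1 * g 1 0))
    (ht : t * t = ι (h 0 0 * h 1 1 - h 0 1 * h 1 0)) :
    (s * t) * (s * t) = ι ((g * h) 0 0 * (g * h) 1 1 - (g * h) 0 1 * (g * h) 1 0) := by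
  simp only [GL2.mul_apply']
  have : (s * t) * (s * t) = (s * s) * (t * t) := by ring
  rw [this, hs, ht, ← map_mul]
  congr 1
  ring

theorem mkH_lft_congr (h2 : (2 : F) ≠ 0) (g : GL2 K) (s t : F)
    (hs : s * s = ι (g 0 0 * g 1 1 - g 0 1 * g 1 0))
    (ht : t * t = ι (g 0 0 * g 1 1 - g 0 1 * g 1 0)) :
    (mkH (lft ι g s hs) : PSL2 F) = mkH (lft ι g t ht) := by
  rcases mul_self_eq_mul_self_iff.mp (hs.trans ht.symm) with h | h
  · subst h; rfl
  · rw [mkH_eq_iff h2]
    right
    subst h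
    apply SL2.ext4 <;>
    · simp only [SL2.mul_apply', lft, SL2.mk_00, SL2.mk_01, SL2.mk_10, SL2.mk_11, zc',
        Cfsg.Agent.S2471.zc]
      simp [inv_neg]


variable (hsq : ∀ x : K, IsSquare (ι x)) (h2 : (2 : F) ≠ 0)

/-- chosen square root of the determinant -/
noncomputable def sq (g : GL2 K) : F := Classical.choose (hsq (g 0 0 * g 1 1 - g 0 1 * g 1 0))

theorem sq_spec (g : GL2 K) : sq ι hsq g * sq ι hsq g = ι (g 0 0 * g 1 1 - g 0 1 * g 1 0) :=
  (Classical.choose_spec (hsq (g 0 0 * g 1 1 - g 0 1 * g 1 0))).symm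

include h2 in
theorem fmul (g h : GL2 K) :
    (mkH (lft ι (g * h) (sq ι hsq (g * h)) (sq_spec ι hsq (g * h))) : PSL2 F) =
      mkH (lft ι g (sq ι hsq g) (sq_spec ι hsq g)) * mkH (lft ι h (sq ι hsq h) (sq_spec ι hsq h)) := by
  rw [← map_mul, lft_mul ι g h _ _ _ _ (hst_of ι g h _ _ (sq_spec ι hsq g) (sq_spec ι hsq h))]
  exact mkH_lft_congr ι h2 _ _ _ _ _

/-- the homomorphism `GL₂(K) → PSL₂(F)` -/
noncomputable def fhom : GL2 K →* PSL2 F :=
  MonoidHom.mk' (fun g => mkH (lft ι g (sq ι hsq g) (sq_spec ι hsq g))) (fmul ι hsq h2)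

theorem fhom_apply (g : GL2 K) :
    fhom ι hsq h2 g = mkH (lft ι g (sq ι hsq g) (sq_spec ι hsq g)) := rfl

theorem fhom_eq_one_iff (g : GL2 K) : fhom ι hsq h2 g = 1 ↔ g ∈ Subgroup.center (GL2 K) := by
  rw [fhom_apply, mkH_eq_one_iff h2, Matrix.GeneralLinearGroup.mem_center_iff_val_mem_range_scalar]
  have hs0 := s_ne_zero ι g _ (sq_spec ι hsq g)
  have hspec := sq_spec ι hsq g
  set s := sq ι hsq g with hs
  constructor
  · intro h
    have key : g 0 1 = 0 ∧ g 1 0 = 0 ∧ ι (g 0 0) = ι (g 1 1) := by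
      rcases h with h | h
      · have h00 := congrArg (fun x : SL2 F => x 0 0) h
        have h01 := congrArg (fun x : SL2 F => x 0 1) h
        have h10 := congrArg (fun x : SL2 F => x 1 0) h
        have h11 := congrArg (fun x : SL2 F => x 1 1) h
        simp only [lft, SL2.mk_00, SL2.mk_01, SL2.mk_10, SL2.mk_11] at h00 h01 h10 h11
        simp at h00 h01 h10 h11
        refine ⟨?_, ?_, ?_⟩
        · rcases h01 with h | h
          · exact absurd h hs0
          · exact h
        · rcases h10 with h | h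
          · exact absurd h hs0
          · exact h
        · exact mul_left_cancel₀ (inv_ne_zero hs0) (h00.trans h11.symm)
      · have h00 := congrArg (fun x : SL2 F => x 0 0) h
        have h01 := congrArg (fun x : SL2 F => x 0 1) h
        have h10 := congrArg (fun x : SL2 F => x 1 0) h
        have h11 := congrArg (fun x : SL2 F => x 1 1) h
        simp only [lft, SL2.mk_00, SL2.mk_01, SL2.mk_10, SL2.mk_11, zc',
          Cfsg.Agent.S2471.zc] at h00 h01 h10 h11
        simp at h00 h01 h10 h11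
        refine ⟨?_, ?_, ?_⟩
        · rcases h01 with h | h
          · exact absurd h hs0
          · exact h
        · rcases h10 with h | h
          · exact absurd h hs0
          · exact h
        · exact mul_left_cancel₀ (inv_ne_zero hs0) (h00.trans h11.symm)
    obtain ⟨k1, k2, k3⟩ := key
    refine ⟨g 0 0, ?_⟩
    ext i j
    fin_cases i <;> fin_cases j
    · simp
    · simpa using k1.symm
    · simpa using k2.symm
    · simp
      exact ι.injective k3
  · rintro ⟨a, ha⟩
    have h00 : g 0 0 = a := by rw [← ha]; simp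
    have h01 : g 0 1 = 0 := by rw [← ha]; simp
    have h10 : g 1 0 = 0 := by rw [← ha]; simp
    have h11 : g 1 1 = a := by rw [← ha]; simp
    have hsa : s * s = ι a * ι a := by
      rw [hspec, h00, h01, h10, h11]; simp
    rcases mul_self_eq_mul_self_iff.mp hsa with h | h
    · left
      apply SL2.ext4 <;>
        simp only [lft, SL2.mk_00, SL2.mk_01, SL2.mk_10, SL2.mk_11, h00, h01, h10, h11, ← hs, h] <;>
        simp [← h, hs0]
    · right
      have ha0 : ι a ≠ 0 := by
        intro h0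
        apply hs0
        rw [h, h0, neg_zero]
      apply SL2.ext4 <;>
        simp only [lft, SL2.mk_00, SL2.mk_01, SL2.mk_10, SL2.mk_11, h00, h01, h10, h11, ← hs, h,
          zc', Cfsg.Agent.S2471.zc] <;>
        simp [inv_neg, ha0]

include ι hsq h2 in
theorem exists_PGL2 :
    ∃ H : Subgroup (PSL2 F), Nonempty (H ≃* PGL2 K) := by
  have hf : (fhom ι hsq h2).comp (Matrix.GeneralLinearGroup.scalar (Fin 2)) = 1 := by
    ext u
    rw [MonoidHom.comp_apply, MonoidHom.one_apply, fhom_eq_one_iff,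
      Matrix.GeneralLinearGroup.center_eq_range_scalar]
    exact ⟨u, rfl⟩
  apply Recog.exists_subgroup_of_injective (Matrix.ProjGenLinGroup.lift (fhom ι hsq h2) hf)
  · rw [injective_iff_map_eq_one]
    intro x hx
    induction x using Matrix.ProjGenLinGroup.induction_on with | mk g =>
    rw [Matrix.ProjGenLinGroup.lift_mk, fhom_eq_one_iff] at hx
    rwa [Matrix.ProjGenLinGroup.mk_eq_one]
  · exact ⟨⊤, ⟨Subgroup.topEquiv⟩⟩

end hom


theorem isSquare_of_even [Fintype F] [Fintype K] (ι : K →+* F) (k : ℕ)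
    (hK : Fintype.card K ^ (2 * k) = Fintype.card F) (hodd : Odd (Fintype.card F)) (x : K) :
    IsSquare (ι x) := by
  by_cases hx : x = 0
  · subst hx; rw [map_zero]; exact ⟨0, by simp⟩
  have hF2 : ringChar F ≠ 2 := by
    intro h
    rw [FiniteField.even_card_iff_char_two] at h
    rcases hodd with ⟨j, hj⟩
    omega
  rw [FiniteField.isSquare_iff hF2 (by simpa using hx)]
  have h1 : x ^ (Fintype.card K - 1) = 1 := FiniteField.pow_card_sub_one_eq_one x hx
  set r := Fintype.card K with hr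
  set u := r ^ k with hu
  have hq : Fintype.card F = u * u := by rw [← hK, hu, pow_mul', pow_two]
  have hu1 : r - 1 ∣ u - 1 := by
    have := Nat.sub_dvd_pow_sub_pow r 1 k
    rwa [one_pow] at this
  have huodd : Odd u := by
    rw [hq] at hodd
    exact (Nat.odd_mul.mp hodd).1
  obtain ⟨j, hj⟩ := huodd
  have h3 : Fintype.card F / 2 = (u - 1) * (j + 1) := by
    rw [hq, hj]
    have : (2 * j + 1) * (2 * j + 1) = 2 * ((2 * j + 1 - 1) * (j + 1)) + 1 := by
      rw [Nat.add_sub_cancel]; ring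
    rw [this]
    omega
  obtain ⟨c, hc⟩ := hu1
  rw [h3, hc, ← map_pow, mul_assoc, pow_mul, h1, one_pow, map_one]

theorem card_center_GL2 [Fintype K] :
    Nat.card (Subgroup.center (GL2 K)) = Fintype.card K - 1 := by
  rw [Matrix.GeneralLinearGroup.center_eq_range_scalar]
  have hinj : Function.Injective (Matrix.GeneralLinearGroup.scalar (Fin 2) : Kˣ →* GL2 K) := by
    intro u v h
    have := congrArg (fun g : GL2 K => g 0 0) h
    simp at this
    exact Units.ext this
  rw [Nat.card_congr (MonoidHom.ofInjective hinj).toEquiv.symm, Nat.card_units,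
    Nat.card_eq_fintype_card]

theorem card_PGL2 [Fintype K] : Nat.card (PGL2 K) * (Fintype.card K - 1) =
    (Fintype.card K ^ 2 - 1) * (Fintype.card K ^ 2 - Fintype.card K) := by
  rw [← GL2.card_GL2, ← card_center_GL2]
  exact (Subgroup.card_eq_card_quotient_mul_card_subgroup _).symm

theorem odd_geom (y : ℕ) (hy : Even y) (k : ℕ) :
    ∃ s, Odd s ∧ (y + 1) ^ (2 * k + 1) = y * s + 1 := by
  induction k with
  | zero => exact ⟨1, odd_one, by ring⟩
  | succ k ih =>
    obtain ⟨s, hs, h⟩ := ih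
    refine ⟨(y + 1) ^ 2 * s + y + 2, ?_, ?_⟩
    · have h1 : Odd ((y + 1) ^ 2 * s) := (hy.add_one.pow).mul hs
      have h2 : Even (y + 2) := hy.add (by decide)
      rw [add_assoc]
      exact h1.add_even h2
    · have : (y + 1) ^ (2 * (k + 1) + 1) = (y + 1) ^ 2 * (y + 1) ^ (2 * k + 1) := by ring
      rw [this, h]
      ring


theorem arith (r k N : ℕ) (hr : 2 ≤ r) (hrodd : Odd r)
    (h1 : N * (r - 1) = (r ^ 2 - 1) * (r ^ 2 - r))
    (h2 : 2 * N ∣ r ^ (2 * k + 1) * ((r ^ (2 * k + 1)) ^ 2 - 1)) : False := by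
  have hy : Even (r ^ 2 - 1) := by
    have : Odd (r ^ 2) := hrodd.pow
    obtain ⟨j, hj⟩ := this
    exact ⟨j, by omega⟩
  have hr2 : 1 ≤ r ^ 2 := Nat.one_le_pow _ _ (by omega)
  obtain ⟨s, hs, h⟩ := odd_geom (r ^ 2 - 1) hy k
  rw [Nat.sub_add_cancel hr2] at h
  have hq2 : (r ^ (2 * k + 1)) ^ 2 - 1 = (r ^ 2 - 1) * s := by
    rw [← pow_mul, mul_comm (2 * k + 1) 2, pow_mul, h, Nat.add_sub_cancel]
  rw [hq2] at h2
  have e : r ^ 2 - r = r * (r - 1) := by rw [pow_two, Nat.mul_sub, mul_one]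
  rw [e] at h1
  have hN : N = (r ^ 2 - 1) * r := by
    apply Nat.eq_of_mul_eq_mul_right (show 0 < r - 1 by omega)
    rw [h1]; ring
  rw [hN] at h2
  have h3 : (r ^ 2 - 1) * (2 * r) ∣ (r ^ 2 - 1) * (r ^ (2 * k + 1) * s) := by
    convert h2 using 1 <;> ring
  have hpos : 0 < r ^ 2 - 1 := by
    have : 2 ^ 2 ≤ r ^ 2 := Nat.pow_le_pow_left hr 2
    omega
  have h4 : 2 * r ∣ r ^ (2 * k + 1) * s := Nat.dvd_of_mul_dvd_mul_left hpos h3
  have h5 : 2 ∣ r ^ (2 * k + 1) * s := (Dvd.intro _ rfl).trans h4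
  have h6 : Odd (r ^ (2 * k + 1) * s) := (hrodd.pow).mul hs
  rw [← even_iff_two_dvd] at h5
  exact (Nat.not_even_iff_odd.mpr h6) h5


/-- Subfield subgroups: let F be a finite field of odd order q and K a finite field with |K|^m = q, m ≥ 1. Then PSL_2(F) has a subgroup isomorphic to PSL_2(K), and has a subgroup isomorphic to PGL_2(K) if and only if m is even. -/
theorem result {F K : Type*} [Field F] [Fintype F] [Field K] [Fintype K] {q : ℕ} (hF : Fintype.card F = q) (hodd : Odd q) (m : ℕ) (hm : 1 ≤ m) (hK : Fintype.card K ^ m = q) : (∃ H : Subgroup (Matrix.ProjectiveSpecialLinearGroup (Fin 2) F), Nonempty (H ≃* Matrix.ProjectiveSpecialLinearGroup (Fin 2) K)) ∧ ((∃ H : Subgroup (Matrix.ProjectiveSpecialLinearGroup (Fin 2) F), Nonempty (H ≃* Matrix.ProjGenLinGroup (Fin 2) K)) ↔ Even m) := by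
  subst hF
  obtain ⟨ι⟩ := exists_ringHom (F := F) (K := K) m hK
  have h2 : (2 : F) ≠ 0 := by
    intro h
    exact (Nat.not_even_iff_odd.mpr hodd) (Cfsg.Agent.S2475.even_card_of_two_eq_zero h)
  refine ⟨?_, ?_, ?_⟩
  · exact Recog.exists_subgroup_of_injective (pslMap ι) (pslMap_injective ι)
      ⟨⊤, ⟨Subgroup.topEquiv⟩⟩
  · rintro ⟨H, ⟨e⟩⟩
    by_contra hme
    rw [Nat.not_even_iff_odd] at hme
    obtain ⟨k, rfl⟩ := hme
    have hcH : Nat.card H = Nat.card (Matrix.ProjGenLinGroup (Fin 2) K) := Nat.card_congr e.toEquiv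
    have hdvd : Nat.card H ∣ Nat.card (Matrix.ProjectiveSpecialLinearGroup (Fin 2) F) :=
      Subgroup.card_subgroup_dvd_card H
    have h3 := Cfsg.Agent.S0807.card_SL2_eq (F := F) h2
    rw [SL2.card_SL2] at h3
    have hrodd : Odd (Fintype.card K) := by
      rw [← hK] at hodd
      exact (Nat.odd_pow_iff (by omega)).mp hodd
    apply arith (Fintype.card K) k (Nat.card (Matrix.ProjGenLinGroup (Fin 2) K))
      Fintype.one_lt_card hrodd card_PGL2
    rw [hK, h3, ← hcH]
    exact Nat.mul_dvd_mul_left 2 hdvd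
  · rintro ⟨k, rfl⟩
    have hsq := isSquare_of_even ι k (by rw [← two_mul] at hK; exact hK) hodd
    exact exists_PGL2 ι hsq h2

end Cfsg.Agent.S0805
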