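import Mathlib
import Cfsg.Statements.S5940
import Cfsg.Agent.Lib.Helper16.DkMax2
import Cfsg.Agent.S0802
import Cfsg.Agent.S0803
import Cfsg.Agent.S0804
import Cfsg.Agent.S0799

set_option autoImplicit false
set_option maxHeartbeats 1000000
open Cfsg

namespace Cfsg.Agent.S5940

open Cfsg.Agent.Lib.Helper16.DkMax

local notation "PSL2" => Matrix.ProjectiveSpecialLinearGroup (Fin 2)

theorem not_five_dvd (p : ℕ) (h5 : p % 5 = 2 ∨ p % 5 = 3) : ¬ 5 ∣ p * (p ^ 2 - 1) := by
  intro h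
  have hsq : p ^ 2 % 5 = 4 := by
    rw [Nat.pow_mod]; rcases h5 with h' | h' <;> rw [h']
  rcases (Nat.Prime.dvd_mul Nat.prime_five).mp h with h' | h'
  · omega
  · have hpos : 1 ≤ p ^ 2 := Nat.one_le_pow _ _ (by omega)
    omega

theorem result {F : Type*} [Field F] [Fintype F] (p : ℕ) [Fact p.Prime] (hF : Fintype.card F = p) (h5 : 5 ≤ p) (h8 : p % 8 = 3 ∨ p % 8 = 5) (h10 : p % 10 ≠ 1 ∧ p % 10 ≠ 9) : ∃ H : Subgroup (Matrix.ProjectiveSpecialLinearGroup (Fin 2) F), IsCoatom H ∧ Nonempty (H ≃* alternatingGroup (Fin 4)) := by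
  classical
  have : CharP F p := charP_of_card_eq_prime hF
  have hpp : p.Prime := Fact.out
  have hp2 : p ≠ 2 := by omega
  have hodd : Odd (Fintype.card F) := by rw [hF]; exact hpp.odd_of_ne_two hp2
  obtain ⟨H, ⟨e⟩⟩ := (Cfsg.Agent.S0802.result p 1 (by rw [pow_one]; exact hF)).mpr
    (by rintro ⟨h, -⟩; omega)
  refine ⟨H, ?_, ⟨e⟩⟩
  have hHpair : HasPair H :=
    HasPair.of_injective e.symm.toMonoidHom e.symm.injective hasPair_A4
  have hHcard : Nat.card H = 12 := by rw [Nat.card_congr e.toEquiv, card_A4]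
  have hG := two_mul_card_PSL2 (K := F) hodd
  rw [hF] at hG
  have hGbig : 120 ≤ p * (p ^ 2 - 1) := by
    have : 5 * (5 ^ 2 - 1) ≤ p * (p ^ 2 - 1) :=
      Nat.mul_le_mul h5 (Nat.sub_le_sub_right (Nat.pow_le_pow_left h5 2) 1)
    simpa using this
  refine ⟨?_, fun M hlt => ?_⟩
  · intro h
    have := (Subgroup.card_eq_iff_eq_top H).mpr h
    omega
  · obtain ⟨hcl, hcd⟩ := card_lt_of_lt hlt
    rcases reduce p hp2 H M hlt.le hHpair (Cfsg.Agent.S0799.result hF p M) with
      ⟨⟨e'⟩⟩ | ⟨⟨e'⟩⟩ | ⟨⟨e'⟩⟩ | ⟨K, _, _, m, hKm, hiso⟩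
    · rw [Nat.card_congr e'.toEquiv, card_A4] at hcl; omega
    · exfalso
      have hsq := (Cfsg.Agent.S0803.result hF).mp ⟨M, ⟨e'⟩⟩
      have h16 : p % 16 = 3 ∨ p % 16 = 5 ∨ p % 16 = 11 ∨ p % 16 = 13 := by omega
      rw [Nat.pow_mod] at hsq
      rcases h16 with h | h | h | h <;> rw [h] at hsq <;> exact absurd hsq (by decide)
    · have h5d := (Cfsg.Agent.S0804.result hF).mp ⟨M, ⟨e'⟩⟩
      by_cases hp5 : p = 5
      · have hM : Nat.card M = 60 := by rw [Nat.card_congr e'.toEquiv, card_A5]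
        have hG' : 2 * Nat.card (PSL2 F) = 120 := by rw [hG, hp5]; norm_num
        apply (Subgroup.card_eq_iff_eq_top M).mp
        omega
      · exfalso
        have hoddp : p % 2 = 1 := by
          rcases hpp.eq_two_or_odd with h' | h'
          · omega
          · exact h'
        have hne5 : p % 10 ≠ 5 := by
          intro h'
          apply hp5
          have h5p : 5 ∣ p := by omega
          exact ((Nat.prime_dvd_prime_iff_eq Nat.prime_five hpp).mp h5p).symm
        exact not_five_dvd p (by omega) h5d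
    · have hK : Fintype.card K = Fintype.card F := by
        rw [hF]; exact (hpp.pow_eq_iff.mp hKm).1
      rcases hiso with ⟨⟨e'⟩⟩ | ⟨⟨e'⟩⟩
      · exact eq_top_of_iso_PSL2 hodd hK M e'
      · exact (false_of_iso_PGL2 hodd hK M e').elim

end Cfsg.Agent.S5940
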