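import Cfsg.Statements.S2325
import Mathlib
import Cfsg.Agent.Lib.Helper12.C9
import Cfsg.Agent.S2301
import Cfsg.Agent.S2428

set_option autoImplicit false
open Cfsg

namespace Cfsg.Agent.S2325

open Cfsg.Agent.Lib.Helper12.SL2 Cfsg.Agent.S2331

variable {F : Type*} [Field F]

local notation "SL2" => Matrix.SpecialLinearGroup (Fin 2)
local notation "M2" => Matrix (Fin 2) (Fin 2)

/-- the sign `±1` -/
def sgn : Bool → SL2 F
  | false => 1
  | true => zc'

theorem sgn_central (ε : Bool) (x : SL2 F) : x * sgn ε = sgn ε * x := by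
  cases ε
  · simp [sgn]
  · exact Cfsg.Agent.S2471.zc_central x

theorem sgn_mul_self (ε : Bool) : (sgn ε : SL2 F) * sgn ε = 1 := by
  cases ε
  · simp [sgn]
  · exact Cfsg.Agent.S2471.zc_mul_self

theorem tr_sgn_mul (ε : Bool) (g : SL2 F) : tr (sgn ε * g) = (if ε then -1 else 1) * tr g := by
  cases ε
  · simp [sgn]
  · simp [sgn, tr, mul_apply', Cfsg.Agent.S2471.zc]
    ring

/-- the off-diagonal entries of the unipotent representatives -/
def bval (ν : F) : Option Bool → F
  | none => 0
  | some false => 1
  | some true => ν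

/-- the parametrization of the classes -/
def param (ν : F) : {t : F // t ^ 2 ≠ 4} ⊕ (Bool × Option Bool) → ConjClasses (SL2 F)
  | Sum.inl t => ConjClasses.mk (compS t.1)
  | Sum.inr (ε, o) => ConjClasses.mk (sgn ε * up (bval ν o))

theorem tr_compS (t : F) : tr (compS t : SL2 F) = t := by simp [tr, compS]

theorem tr_up (b : F) : tr (up b : SL2 F) = 2 := by simp [tr, up]; norm_num

theorem tr_eq_of_isConj' {g h : SL2 F} (hc : IsConj g h) : tr g = tr h := tr_eq_of_isConj hc

theorem bval_eq_of_isConj (ν : F) (hν : ¬ IsSquare ν) (o o' : Option Bool)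
    (hc : IsConj (up (bval ν o) : SL2 F) (up (bval ν o'))) : o = o' := by
  have hν0 : ν ≠ 0 := by rintro rfl; exact hν ⟨0, by simp⟩
  have h0 : ∀ o : Option Bool, bval ν o = 0 → o = none := by
    intro o ho
    rcases o with _ | _ | _
    · rfl
    · simp [bval] at ho
    · exact absurd ho hν0
  by_cases hb : bval ν o = 0
  · have := h0 o hb
    subst this
    rw [show bval ν none = 0 from rfl, up_zero, isConj_one_right] at hc
    have hb' : bval ν o' = 0 := by
      by_contra hne
      exact up_ne_one hne hc
    exact (h0 o' hb').symm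
  · by_cases hb' : bval ν o' = 0
    · have := h0 o' hb'
      subst this
      rw [show bval ν none = 0 from rfl, up_zero, isConj_one_left] at hc
      exact absurd hc (up_ne_one hb)
    · rw [Cfsg.Agent.S2301.isConj_up_iff hb hb'] at hc
      rcases o with _ | _ | _
      · exact absurd rfl hb
      · rcases o' with _ | _ | _
        · exact absurd rfl hb'
        · rfl
        · simp only [bval, one_mul] at hc; exact absurd hc hν
      · rcases o' with _ | _ | _
        · exact absurd rfl hb'
        · simp only [bval, mul_one] at hc; exact absurd hc hν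
        · rfl

theorem param_injective (h2 : (2 : F) ≠ 0) (ν : F) (hν : ¬ IsSquare ν) :
    Function.Injective (param ν : _ → ConjClasses (SL2 F)) := by
  have h4 : (4 : F) = 2 * 2 := by norm_num
  have hsq : ∀ (ε : Bool) (b : F), tr (sgn ε * up b : SL2 F) ^ 2 = 4 := by
    intro ε b
    rw [tr_sgn_mul, tr_up]
    cases ε <;> simp <;> ring
  rintro (t | ⟨ε, o⟩) (t' | ⟨ε', o'⟩) h
  · simp only [param, ConjClasses.mk_eq_mk_iff_isConj] at h
    have := tr_eq_of_isConj' h
    rw [tr_compS, tr_compS] at this
    exact congrArg Sum.inl (Subtype.ext this)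
  · exfalso
    simp only [param, ConjClasses.mk_eq_mk_iff_isConj] at h
    have := tr_eq_of_isConj' h
    rw [tr_compS] at this
    apply t.2
    rw [this, hsq]
  · exfalso
    simp only [param, ConjClasses.mk_eq_mk_iff_isConj] at h
    have := tr_eq_of_isConj' h
    rw [tr_compS] at this
    apply t'.2
    rw [← this, hsq]
  · simp only [param, ConjClasses.mk_eq_mk_iff_isConj] at h
    have htr := tr_eq_of_isConj' h
    rw [tr_sgn_mul, tr_sgn_mul, tr_up, tr_up] at htr
    have hε : ε = ε' := by
      cases ε <;> cases ε'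
      · rfl
      · exfalso
        simp at htr
        have : (2 : F) * 2 = 0 := by linear_combination htr
        exact h2 (mul_self_eq_zero.mp this)
      · exfalso
        simp at htr
        have : (2 : F) * 2 = 0 := by linear_combination -htr
        exact h2 (mul_self_eq_zero.mp this)
      · rfl
    subst hε
    obtain ⟨x, hx⟩ := isConj_iff.mp h
    have hx' : x * up (bval ν o) * x⁻¹ = up (bval ν o') := by
      have e : x * (sgn ε * up (bval ν o)) * x⁻¹ = sgn ε * (x * up (bval ν o) * x⁻¹) := by
        rw [← mul_assoc, sgn_central ε x]; group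
      rw [e] at hx
      exact mul_left_cancel hx
    have := bval_eq_of_isConj ν hν o o' (isConj_iff.mpr ⟨x, hx'⟩)
    rw [this]

theorem exists_fix_of_tr_two (g : SL2 F) (htr : tr g = 2) :
    ∃ v : Fin 2 → F, v ≠ 0 ∧ g • v = v := by
  have hd := det_eq g
  have htr' : g 0 0 + g 1 1 = 2 := htr
  have key : ∀ a b : F, g 0 0 * a + g 0 1 * b = a → g 1 0 * a + g 1 1 * b = b →
      g • (![a, b] : Fin 2 → F) = ![a, b] := by
    intro a b h0 h1
    ext i
    rw [Cfsg.Agent.Lib.Helper12.SL2.smul_apply]
    fin_cases i
    · simpa using h0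
    · simpa using h1
  by_cases h01 : g 0 1 = 0
  · by_cases h10 : g 1 0 = 0
    · have h00 : g 0 0 = 1 := by
        have : (g 0 0 - 1) ^ 2 = 0 := by
          rw [h01, zero_mul, sub_zero] at hd
          linear_combination g 0 0 * htr' - hd
        exact sub_eq_zero.mp (pow_eq_zero_iff two_ne_zero |>.mp this)
      refine ⟨![1, 0], ?_, key 1 0 ?_ ?_⟩
      · intro h
        have := congrFun h 0
        simp at this
      · rw [h00]; ring
      · rw [h10]; ring
    · refine ⟨![1 - g 1 1, g 1 0], ?_, key _ _ ?_ ?_⟩
      · intro h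
        have := congrFun h 1
        simp at this
        exact h10 this
      · rw [h01] at hd ⊢
        linear_combination htr' - hd
      · ring
  · refine ⟨![g 0 1, 1 - g 0 0], ?_, key _ _ ?_ ?_⟩
    · intro h
      have := congrFun h 0
      simp at this
      exact h01 this
    · ring
    · linear_combination htr' - hd

theorem param_surjective [Fintype F] (h2 : (2 : F) ≠ 0) (hF : ringChar F ≠ 2) (ν : F)
    (hν : ¬ IsSquare ν) : Function.Surjective (param ν : _ → ConjClasses (SL2 F)) := by
  have hν0 : ν ≠ 0 := by rintro rfl; exact hν ⟨0, by simp⟩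
  intro C
  obtain ⟨g, rfl⟩ := ConjClasses.mk_surjective C
  by_cases hΔ : tr g ^ 2 = 4
  · have h0 : (tr g - 2) * (tr g + 2) = 0 := by linear_combination hΔ
    obtain ⟨ε, hε⟩ : ∃ ε : Bool, tr (sgn ε * g) = 2 := by
      rcases mul_eq_zero.mp h0 with h | h
      · exact ⟨false, by rw [tr_sgn_mul]; simp; linear_combination h⟩
      · exact ⟨true, by rw [tr_sgn_mul]; simp; linear_combination -h⟩
    obtain ⟨v, hv, hfix⟩ := exists_fix_of_tr_two _ hε
    obtain ⟨k, b, hk⟩ := exists_conj_up_of_fix _ v hv hfix
    obtain ⟨o, ho⟩ : ∃ o, IsConj (up b : SL2 F) (up (bval ν o)) := by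
      by_cases hb : b = 0
      · exact ⟨none, by rw [hb]; exact IsConj.refl _⟩
      · by_cases hsq : IsSquare b
        · exact ⟨some false,
            (Cfsg.Agent.S2301.isConj_up_iff hb one_ne_zero).mpr (by rwa [mul_one])⟩
        · exact ⟨some true, (Cfsg.Agent.S2301.isConj_up_iff hb hν0).mpr
            (Cfsg.Agent.S2301.mul_nonsquare hF hsq hν)⟩
    refine ⟨Sum.inr (ε, o), ?_⟩
    simp only [param]
    rw [ConjClasses.mk_eq_mk_iff_isConj]
    have h1 : IsConj (sgn ε * g) (up (bval ν o)) :=
      (isConj_iff.mpr ⟨k⁻¹, by rw [inv_inv]; exact hk⟩).trans ho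
    obtain ⟨x, hx⟩ := isConj_iff.mp h1
    apply IsConj.symm
    rw [isConj_iff]
    refine ⟨x, ?_⟩
    rw [← hx]
    have e : x * (sgn ε * g) * x⁻¹ = sgn ε * (x * g * x⁻¹) := by
      rw [← mul_assoc, sgn_central ε x]; group
    rw [e, ← mul_assoc, sgn_mul_self, one_mul]
  · refine ⟨Sum.inl ⟨tr g, hΔ⟩, ?_⟩
    simp only [param]
    exact (ConjClasses.mk_eq_mk_iff_isConj.mpr (isConj_compS h2 g hΔ)).symm

theorem card_domain [Fintype F] (h2 : (2 : F) ≠ 0) :
    Nat.card ({t : F // t ^ 2 ≠ 4} ⊕ (Bool × Option Bool)) = Fintype.card F + 4 := by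
  classical
  have h22 : (2 : F) ≠ -2 := by
    intro h
    have : (2 : F) * 2 = 0 := by linear_combination h
    exact h2 (mul_self_eq_zero.mp this)
  have hcard2 : Fintype.card {t : F // t ^ 2 = 4} = 2 := by
    rw [Fintype.card_subtype]
    have : (Finset.univ.filter fun t : F => t ^ 2 = 4) = {2, -2} := by
      ext t
      simp only [Finset.mem_filter, Finset.mem_univ, true_and, Finset.mem_insert,
        Finset.mem_singleton]
      constructor
      · intro ht
        have : (t - 2) * (t + 2) = 0 := by linear_combination ht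
        rcases mul_eq_zero.mp this with h | h
        · left; linear_combination h
        · right; linear_combination h
      · rintro (rfl | rfl) <;> norm_num
    rw [this, Finset.card_pair h22]
  have hq : 2 ≤ Fintype.card F := by
    rw [← hcard2]; exact Fintype.card_subtype_le _
  rw [Nat.card_eq_fintype_card, Fintype.card_sum, Fintype.card_subtype_compl, hcard2,
    Fintype.card_prod, Fintype.card_bool, Fintype.card_option, Fintype.card_bool]
  omega


/-- Over a finite field with q elements, q odd, the special linear group SL₂ has exactly q + 4 conjugacy classes. -/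
theorem result {F : Type*} [Field F] [Fintype F] (hodd : Odd (Fintype.card F)) :
    Nat.card (ConjClasses (Matrix.SpecialLinearGroup (Fin 2) F)) = Fintype.card F + 4 := by
  have h2 := Cfsg.Agent.S2428.two_ne_zero_of_odd hodd
  have hF : ringChar F ≠ 2 := by
    intro h
    apply h2
    have := ringChar.spec F 2
    rw [h] at this
    have h3 : ((2 : ℕ) : F) = 0 := this.mpr dvd_rfl
    exact_mod_cast h3
  obtain ⟨ν, hν⟩ := FiniteField.exists_nonsquare hF
  rw [← card_domain h2]
  exact (Nat.card_congr (Equiv.ofBijective _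
    ⟨param_injective h2 ν hν, param_surjective h2 hF ν hν⟩)).symm

end Cfsg.Agent.S2325
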