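import Cfsg.Statements.S2431
import Mathlib
import Cfsg.Agent.Lib.Helper12.SylTwoD
import Cfsg.Agent.Lib.Helper12.SL2b
import Cfsg.Agent.S2428

set_option autoImplicit false
open Cfsg

namespace Cfsg.Agent.S2431

open Cfsg.Agent.Lib.Helper12.SL2 Cfsg.Agent.Lib.Helper12.SylTwo

variable {F : Type*} [Field F]

local notation "SL2" => Matrix.SpecialLinearGroup (Fin 2)
local notation "M2" => Matrix (Fin 2) (Fin 2)

theorem fact_two_of_mod_four (n : ℕ) (hn : n % 4 = 2) : n.factorization 2 = 1 := by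
  obtain ⟨r, hr, hr2⟩ : ∃ r, n = 2 * r ∧ r % 2 = 1 := ⟨n / 2, by omega, by omega⟩
  rw [hr, Nat.factorization_mul two_ne_zero (by omega)]
  simp only [Finsupp.add_apply]
  rw [Nat.Prime.factorization_self Nat.prime_two,
    Nat.factorization_eq_zero_of_not_dvd (by omega : ¬ 2 ∣ r)]

theorem val2_aux (q : ℕ) (hq : q % 2 = 1) (hq1 : 1 < q) :
    (q * (q ^ 2 - 1)).factorization 2 =
      (if q % 4 = 1 then q - 1 else q + 1).factorization 2 + 1 := by
  have e : q ^ 2 - 1 = (q - 1) * (q + 1) := by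
    obtain ⟨m, rfl⟩ : ∃ m, q = m + 2 := ⟨q - 2, by omega⟩
    have : (m + 2) ^ 2 = (m + 1) * (m + 3) + 1 := by ring
    rw [this]; simp
  have h1 : q - 1 ≠ 0 := by omega
  have h2 : q + 1 ≠ 0 := by omega
  rw [e, Nat.factorization_mul (by omega) (mul_ne_zero h1 h2), Nat.factorization_mul h1 h2]
  simp only [Finsupp.add_apply]
  have hq0 : q.factorization 2 = 0 := Nat.factorization_eq_zero_of_not_dvd (by omega)
  split_ifs with h
  · rw [hq0, fact_two_of_mod_four (q + 1) (by omega)]; omega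
  · rw [hq0, fact_two_of_mod_four (q - 1) (by omega)]; omega

theorem card_Tor_qi [Fintype F] (h2 : (2 : F) ≠ 0) (hq : Fintype.card F % 2 = 1) :
    Nat.card (Tor (qi : SL2 F)) =
      if Fintype.card F % 4 = 1 then Fintype.card F - 1 else Fintype.card F + 1 := by
  have hΔ := tr_sq_ne_four_of_tr_eq_zero h2 (qi : SL2 F) tr_qi
  have e : tr (qi : SL2 F) ^ 2 - 4 = -(2 * 2) := by rw [tr_qi]; ring
  split_ifs with h
  · have hs : IsSquare (-1 : F) := FiniteField.isSquare_neg_one_iff.mpr (by omega)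
    obtain ⟨r, hr⟩ := hs
    have hs' : IsSquare (tr (qi : SL2 F) ^ 2 - 4) := by
      rw [e]
      exact ⟨2 * r, by linear_combination (2 * 2) * hr⟩
    exact (card_Tor_of_isSquare h2 qi hΔ hs').1
  · have hns : ¬ IsSquare (-1 : F) := by
      rw [FiniteField.isSquare_neg_one_iff]
      omega
    have hns' : ¬ IsSquare (tr (qi : SL2 F) ^ 2 - 4) := by
      rw [e]
      rintro ⟨r, hr⟩
      apply hns
      refine ⟨r / 2, ?_⟩
      field_simp
      linear_combination hr
    exact (card_Tor_of_not_isSquare h2 qi hns').1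

theorem main [Fintype F] (hodd : Odd (Fintype.card F)) :
    ∃ P : Sylow 2 (SL2 F),
      Subgroup.centralizer ((P : Subgroup (SL2 F)) : Set (SL2 F)) = Subgroup.center (SL2 F) ∧
      ((Fintype.card F % 8 = 1 ∨ Fintype.card F % 8 = 7) →
        Subgroup.normalizer ((P : Subgroup (SL2 F)) : Set (SL2 F)) = (P : Subgroup (SL2 F))) ∧
      ((Fintype.card F % 8 = 3 ∨ Fintype.card F % 8 = 5) →
        Nat.card (Subgroup.normalizer ((P : Subgroup (SL2 F)) : Set (SL2 F))) =
          3 * Nat.card (P : Subgroup (SL2 F))) := by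
  have h2 := Cfsg.Agent.S2428.two_ne_zero_of_odd hodd
  have hq : Fintype.card F % 2 = 1 := Nat.odd_iff.mp hodd
  have hq1 : 1 < Fintype.card F := Fintype.one_lt_card
  obtain ⟨α, β, hαβ⟩ : ∃ α β : F, α ^ 2 + β ^ 2 = -1 := by
    obtain ⟨x, y, h⟩ := exists_sq_add_sq hq (1 : F) 1 (-1) one_ne_zero one_ne_zero
    exact ⟨x, y, by simpa using h⟩
  have htr : tr (qi : SL2 F) = 0 := tr_qi
  have hΔ := tr_sq_ne_four_of_tr_eq_zero h2 (qi : SL2 F) htr
  have hy := qj_mem_NTor h2 α β hαβ
  have hyT := qj_not_mem_Tor h2 α β hαβ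
  have hcardS := card_S0 h2 qi hΔ (qj α β hαβ) hy hyT
  have hcardA := card_A2 (qi : SL2 F) (nonScalar_of_tr qi hΔ)
  have hT := card_Tor_qi h2 hq
  have hval := val2_aux (Fintype.card F) hq hq1
  have hG : Nat.card (SL2 F) = _ := card_SL2
  obtain ⟨n, hn⟩ : ∃ n : ℕ, n = if Fintype.card F % 4 = 1 then Fintype.card F - 1
      else Fintype.card F + 1 := ⟨_, rfl⟩
  rw [← hn] at hT hval
  have hn0 : n ≠ 0 := by rw [hn]; split_ifs <;> omega
  have hSyl : Nat.card (S0 h2 qi hΔ (qj α β hαβ) hy hyT) =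
      2 ^ (Nat.card (SL2 F)).factorization 2 := by
    rw [hcardS, hcardA, hG, hval, hT, pow_succ, mul_comm]
  refine ⟨Sylow.ofCard _ hSyl, ?_, ?_, ?_⟩
  · exact centralizer_S0 h2 qi hΔ _ hy hyT htr
  · intro h8
    apply normalizer_S0_of_large h2 qi hΔ _ hy hyT htr
    rw [hcardA, hT]
    have h8' : 2 ^ 3 ∣ n := by
      have : 8 ∣ n := by rw [hn]; split_ifs <;> omega
      simpa using this
    have h3 : 3 ≤ n.factorization 2 :=
      (Nat.Prime.pow_dvd_iff_le_factorization Nat.prime_two hn0).mp h8'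
    calc 4 < 2 ^ 3 := by norm_num
      _ ≤ 2 ^ n.factorization 2 := Nat.pow_le_pow_right (by norm_num) h3
  · intro h8
    have hsmall : Nat.card (A2 (qi : SL2 F) (nonScalar_of_tr qi hΔ)) = 4 := by
      rw [hcardA, hT]
      have : n.factorization 2 = 2 := by
        apply le_antisymm
        · by_contra hc
          push Not at hc
          have h3 : 2 ^ 3 ∣ n :=
            (Nat.Prime.pow_dvd_iff_le_factorization Nat.prime_two hn0).mpr hc
          have : 8 ∣ n := by simpa using h3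
          rw [hn] at this
          split_ifs at this <;> omega
        · apply (Nat.Prime.pow_dvd_iff_le_factorization Nat.prime_two hn0).mp
          have : 4 ∣ n := by rw [hn]; split_ifs <;> omega
          simpa using this
      rw [this]
      norm_num
    have hux : qu h2 α β hαβ * qi * (qu h2 α β hαβ)⁻¹ = qi * qj α β hαβ := by
      rw [mul_inv_eq_iff_eq_mul]; exact qu_mul_qi h2 α β hαβ
    have huy : qu h2 α β hαβ * qj α β hαβ * (qu h2 α β hαβ)⁻¹ = qi := by
      rw [mul_inv_eq_iff_eq_mul]; exact qu_mul_qj h2 α β hαβ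
    exact card_normalizer_S0_of_small h2 qi hΔ _ hy hyT htr hsmall (qu h2 α β hαβ)
      (qu_pow_three h2 α β hαβ) (qu_ne_one h2 α β hαβ) hux huy


/-- Let F be a finite field with q elements, q odd, and S a Sylow 2-subgroup of SL₂ over F. The centraliser of S is the centre of SL₂ (of order 2); S is its own normaliser when q ≡ ±1 mod 8, and has index 3 in its normaliser when q ≡ ±3 mod 8. -/
theorem result {F : Type*} [Field F] [Fintype F] (hodd : Odd (Fintype.card F)) (S : Sylow 2 (Matrix.SpecialLinearGroup (Fin 2) F)) :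
    Subgroup.centralizer ((S : Subgroup (Matrix.SpecialLinearGroup (Fin 2) F)) : Set (Matrix.SpecialLinearGroup (Fin 2) F)) = Subgroup.center (Matrix.SpecialLinearGroup (Fin 2) F) ∧
    ((Fintype.card F % 8 = 1 ∨ Fintype.card F % 8 = 7) →
      Subgroup.normalizer ((S : Subgroup (Matrix.SpecialLinearGroup (Fin 2) F)) : Set (Matrix.SpecialLinearGroup (Fin 2) F)) = (S : Subgroup (Matrix.SpecialLinearGroup (Fin 2) F))) ∧
    ((Fintype.card F % 8 = 3 ∨ Fintype.card F % 8 = 5) →
      Nat.card (Subgroup.normalizer ((S : Subgroup (Matrix.SpecialLinearGroup (Fin 2) F)) : Set (Matrix.SpecialLinearGroup (Fin 2) F))) = 3 * Nat.card S) := by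
  obtain ⟨P, hC, hN1, hN3⟩ := main hodd
  obtain ⟨g, hg⟩ := exists_conj_sylow P S
  have hcS : Nat.card S = Nat.card (P : Subgroup (SL2 F)) := by
    show Nat.card (S : Subgroup (SL2 F)) = _
    rw [hg, card_map_conj]
  rw [hcS, hg, centralizer_map_conj, normalizer_map_conj, hC]
  refine ⟨?_, ?_, ?_⟩
  · exact Subgroup.characteristic_iff_map_eq.mp inferInstance (MulAut.conj g)
  · intro h8; rw [hN1 h8]
  · intro h8
    rw [card_map_conj, hN3 h8]

end Cfsg.Agent.S2431
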