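import Cfsg.Statements.S0041
import Mathlib
import Cfsg.Agent.S0058
import Cfsg.Agent.Lib.Helper13.FpfNorm

set_option autoImplicit false
open Pointwise
open Cfsg
open scoped IsMulCommutative

namespace Cfsg.Agent.S0041

open Cfsg.Agent.Lib.Helper13
open Cfsg.Agent.S0055 (cj cj_coe cj_mul)

/-- the abelian case, via generation by centralisers -/
theorem abelian_case {G : Type*} [Group G] [Finite G] (A V : Subgroup G) [IsMulCommutative A]
    (hV : V ≠ ⊥) (hAV : A ≤ Subgroup.normalizer (V : Set G))
    (hfpf : ∀ a ∈ A, a ≠ 1 → V ⊓ Subgroup.centralizer {a} = ⊥) : IsCyclic A := by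
  by_contra hnc
  have hcop := fpf_coprime A V hAV hfpf
  have h := Cfsg.Agent.S0058.result A V hnc hAV hcop
  apply hV
  rw [← h, eq_bot_iff]
  refine iSup₂_le (fun a ha => ?_)
  rw [hfpf a ha.1 ha.2]

/-- the `p < q` case -/
theorem pq_case {G : Type*} [Group G] [Finite G] (A V : Subgroup G) [IsMulCommutative V]
    (hV : V ≠ ⊥) (hAV : A ≤ Subgroup.normalizer (V : Set G))
    (hfpf : ∀ a ∈ A, a ≠ 1 → V ⊓ Subgroup.centralizer {a} = ⊥)
    (p q : ℕ) (hp : p.Prime) (hq : q.Prime) (hpq : p < q) (hcard : Nat.card A = p * q) : IsCyclic A := by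
  by_contra hnc
  have hcop := fpf_coprime A V hAV hfpf
  have hqV : ¬ q ∣ Nat.card V := by
    intro h
    have h1 : q ∣ Nat.card A := hcard ▸ dvd_mul_left q p
    have := Nat.eq_one_of_dvd_coprimes hcop h1 h
    exact hq.one_lt.ne' this
  apply hV
  rw [eq_bot_iff]
  intro v hv
  have := fpf_pq_aux (cj A V hAV) (cj_mul A V hAV) (fpf_cj A V hAV hfpf) (cj_one' A V hAV)
    p q hp hq hpq hcard hqV hnc ⟨v, hv⟩
  rw [Subgroup.mem_bot]
  exact congrArg Subtype.val this

end Cfsg.Agent.S0041

namespace Cfsg.Agent.S0041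

/-- A group acting on a nontrivial abelian group so that no nonidentity element has a nonidentity fixed point is cyclic, provided it is abelian or its order is a product of two (possibly equal) primes. -/
theorem result {G : Type*} [Group G] [Finite G] (A V : Subgroup G) [IsMulCommutative V]
    (hV : V ≠ ⊥) (hAV : A ≤ Subgroup.normalizer (V : Set G)) (hfpf : ∀ a ∈ A, a ≠ 1 → V ⊓ Subgroup.centralizer {a} = ⊥)
    (hA : IsMulCommutative A ∨ ∃ p q : ℕ, p.Prime ∧ q.Prime ∧ Nat.card A = p * q) : IsCyclic A := by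
  rcases hA with hA | ⟨p, q, hp, hq, hcard⟩
  · exact abelian_case A V hV hAV hfpf
  · rcases lt_trichotomy p q with h | h | h
    · exact pq_case A V hV hAV hfpf p q hp hq h hcard
    · subst h
      have : Fact p.Prime := ⟨hp⟩
      have hA : IsMulCommutative A := IsPGroup.isMulCommutative_of_card_eq_prime_sq (by rw [hcard, sq])
      exact abelian_case A V hV hAV hfpf
    · exact pq_case A V hV hAV hfpf q p hq hp h (by rw [hcard, mul_comm])

end Cfsg.Agent.S0041
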