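import Cfsg.Statements.S0034
import Mathlib.GroupTheory.GroupAction.Quotient
import Mathlib.Tactic.Group
import Mathlib.Data.Set.Card
-- import your own Cfsg.Agent.* helpers here

set_option autoImplicit false
open Cfsg
open scoped Pointwise

namespace Cfsg.Agent.S0034

theorem mem_conj_smul {G : Type*} [Group G] {g c : G} {H : Subgroup G} :
    c ∈ MulAut.conj g • H ↔ g⁻¹ * c * g ∈ H := by
  rw [Subgroup.mem_pointwise_smul_iff_inv_smul_mem]
  simp only [MulAut.smul_def, MulAut.conj_inv_apply]

/-- Two conjugates of a Frobenius complement sharing a nonidentity element coincide. -/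
theorem conj_unique {G : Type*} [Group G] (H : Subgroup G) (hH : Cfsg.IsFrobeniusComplement H)
    (x g₁ g₂ : G) (hx : x ≠ 1) (h1 : g₁⁻¹ * x * g₁ ∈ H) (h2 : g₂⁻¹ * x * g₂ ∈ H) :
    g₁⁻¹ * g₂ ∈ H := by
  by_contra hg
  have := hH.2.2 (g₁⁻¹ * g₂) hg
  have hmem : g₁⁻¹ * x * g₁ ∈ H ⊓ (MulAut.conj (g₁⁻¹ * g₂) • H) := by
    refine Subgroup.mem_inf.mpr ⟨h1, ?_⟩
    rw [mem_conj_smul]
    have : (g₁⁻¹ * g₂)⁻¹ * (g₁⁻¹ * x * g₁) * (g₁⁻¹ * g₂) = g₂⁻¹ * x * g₂ := by group
    rw [this]; exact h2
  rw [this, Subgroup.mem_bot] at hmem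
  apply hx
  have : x = g₁ * (g₁⁻¹ * x * g₁) * g₁⁻¹ := by group
  rw [this, hmem]; group

theorem not_mem_kernel_iff {G : Type*} [Group G] (H : Subgroup G) (x : G) :
    x ∉ Cfsg.frobeniusKernel H ↔ x ≠ 1 ∧ ∃ g : G, g⁻¹ * x * g ∈ H := by
  unfold Cfsg.frobeniusKernel
  simp only [Set.mem_ofPred_eq, not_or, not_forall, not_not, mem_conj_smul]

/-- The complement of the Frobenius kernel has `index * (card H - 1)` elements. -/
theorem card_compl_kernel {G : Type*} [Group G] [Finite G] (H : Subgroup G)
    (hH : Cfsg.IsFrobeniusComplement H) :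
    Nat.card ↥(Cfsg.frobeniusKernel H)ᶜ = H.index * (Nat.card H - 1) := by
  classical
  have e : ((G ⧸ H) × {y : H // y ≠ 1}) ≃ ↥(Cfsg.frobeniusKernel H)ᶜ := by
    refine Equiv.ofBijective
      (fun qy => ⟨qy.1.out * (qy.2 : H) * qy.1.out⁻¹, ?_⟩) ⟨?_, ?_⟩
    · rw [Set.mem_compl_iff, not_mem_kernel_iff]
      refine ⟨?_, qy.1.out, ?_⟩
      · intro h
        apply qy.2.2
        apply Subtype.ext
        have : ((qy.2 : H) : G) = qy.1.out⁻¹ * (qy.1.out * (qy.2 : H) * qy.1.out⁻¹) * qy.1.out := by group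
        rw [this, h]; simp
      · have : qy.1.out⁻¹ * (qy.1.out * (qy.2 : H) * qy.1.out⁻¹) * qy.1.out = ((qy.2 : H) : G) := by group
        rw [this]; exact (qy.2 : H).2
    · rintro ⟨q, y⟩ ⟨q', y'⟩ h
      have h' : q.out * (y : H) * q.out⁻¹ = q'.out * (y' : H) * q'.out⁻¹ := congrArg Subtype.val h
      have hx1 : q.out * ((y : H) : G) * q.out⁻¹ ≠ 1 := by
        intro h1
        apply y.2
        apply Subtype.ext
        have : ((y : H) : G) = q.out⁻¹ * (q.out * (y : H) * q.out⁻¹) * q.out := by group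
        rw [this, h1]; simp
      have m1 : q.out⁻¹ * (q.out * ((y : H) : G) * q.out⁻¹) * q.out ∈ H := by
        have : q.out⁻¹ * (q.out * ((y : H) : G) * q.out⁻¹) * q.out = ((y : H) : G) := by group
        rw [this]; exact (y : H).2
      have m2 : q'.out⁻¹ * (q.out * ((y : H) : G) * q.out⁻¹) * q'.out ∈ H := by
        rw [h']
        have : q'.out⁻¹ * (q'.out * ((y' : H) : G) * q'.out⁻¹) * q'.out = ((y' : H) : G) := by group
        rw [this]; exact (y' : H).2
      have hq := conj_unique H hH _ q.out q'.out hx1 m1 m2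
      have hqq : q = q' := by
        rw [← QuotientGroup.out_eq' q, ← QuotientGroup.out_eq' q']
        exact QuotientGroup.eq.mpr hq
      subst hqq
      have : ((y : H) : G) = ((y' : H) : G) := by
        have := mul_left_cancel (mul_right_cancel h')
        exact this
      exact Prod.ext rfl (Subtype.ext (Subtype.ext this))
    · rintro ⟨x, hx⟩
      rw [Set.mem_compl_iff, not_mem_kernel_iff] at hx
      obtain ⟨hx1, g, hg⟩ := hx
      -- representative of the coset of g
      set q : G ⧸ H := (g : G ⧸ H) with hq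
      have hout : g⁻¹ * q.out ∈ H := by
        have : ((q.out : G) : G ⧸ H) = (g : G ⧸ H) := QuotientGroup.out_eq' q
        exact QuotientGroup.eq.mp this.symm
      set h₀ : G := g⁻¹ * q.out with hh₀
      have hy : h₀⁻¹ * (g⁻¹ * x * g) * h₀ ∈ H := H.mul_mem (H.mul_mem (H.inv_mem hout) hg) hout
      have hy1 : (⟨h₀⁻¹ * (g⁻¹ * x * g) * h₀, hy⟩ : H) ≠ 1 := by
        intro h
        have h' : h₀⁻¹ * (g⁻¹ * x * g) * h₀ = 1 := congrArg Subtype.val h
        apply hx1
        have : x = g * h₀ * (h₀⁻¹ * (g⁻¹ * x * g) * h₀) * h₀⁻¹ * g⁻¹ := by group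
        rw [this, h']; group
      refine ⟨(q, ⟨⟨_, hy⟩, hy1⟩), ?_⟩
      apply Subtype.ext
      show q.out * (h₀⁻¹ * (g⁻¹ * x * g) * h₀) * q.out⁻¹ = x
      have : q.out = g * h₀ := by rw [hh₀]; group
      rw [this]; group
  rw [← Nat.card_congr e, Nat.card_prod]
  congr 1
  · have : Nat.card {y : H // y ≠ 1} = Nat.card ↥({1}ᶜ : Set H) := rfl
    rw [this, Nat.card_coe_set_eq, Set.ncard_compl ({1} : Set H), Set.ncard_singleton]

/-- For a Frobenius complement H, the set of elements lying in no conjugate of H, together with 1, has exactly as many elements as the index of H. -/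
theorem card_kernel {G : Type*} [Group G] [Finite G] (H : Subgroup G)
    (hH : Cfsg.IsFrobeniusComplement H) :
    Nat.card (Cfsg.frobeniusKernel H) = H.index := by
  have h1 := card_compl_kernel H hH
  have h2 := Set.ncard_add_ncard_compl (Cfsg.frobeniusKernel H)
  rw [← Nat.card_coe_set_eq, ← Nat.card_coe_set_eq, h1, ← H.card_mul_index] at h2
  have hpos : 0 < Nat.card H := Nat.card_pos
  have : H.index * (Nat.card H - 1) + H.index = Nat.card H * H.index := by
    obtain ⟨m, hm⟩ : ∃ m, Nat.card H = m + 1 := ⟨Nat.card H - 1, by omega⟩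
    rw [hm]; simp; ring
  omega

theorem index_mod {G : Type*} [Group G] [Finite G] (H : Subgroup G)
    (hH : Cfsg.IsFrobeniusComplement H) :
    H.index % Nat.card H = 1 % Nat.card H := by
  classical
  have : Fintype G := Fintype.ofFinite G
  have : Fintype H := Fintype.ofFinite H
  have : Fintype (G ⧸ H) := Fintype.ofFinite _
  have : Fintype (MulAction.orbitRel.Quotient H (G ⧸ H)) := Fintype.ofFinite _
  have burnside := MulAction.sum_card_fixedBy_eq_card_orbits_mul_card_group H (G ⧸ H)
  -- fixed points of a nonidentity element: only the trivial coset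
  have hfix : ∀ y : H, y ≠ 1 → Fintype.card (MulAction.fixedBy (G ⧸ H) y) = 1 := by
    intro y hy
    rw [Fintype.card_eq_one_iff]
    refine ⟨⟨((1 : G) : G ⧸ H), ?_⟩, ?_⟩
    · rw [MulAction.mem_fixedBy]
      show ((y : G) • ((1 : G) : G ⧸ H)) = _
      rw [MulAction.Quotient.smul_mk, smul_eq_mul, mul_one]
      exact (QuotientGroup.eq.mpr (by simpa using y.2))
    · rintro ⟨q, hq⟩
      apply Subtype.ext
      induction q using QuotientGroup.induction_on with
      | H g =>
      rw [MulAction.mem_fixedBy] at hq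
      have hq' : (((y : G) * g : G) : G ⧸ H) = (g : G ⧸ H) := hq
      have hmem : ((y : G) * g)⁻¹ * g ∈ H := QuotientGroup.eq.mp hq'
      have hmem' : g⁻¹ * (y : G) * g ∈ H := by
        have : g⁻¹ * (y : G) * g = (((y : G) * g)⁻¹ * g)⁻¹ := by group
        rw [this]; exact H.inv_mem hmem
      have hy1 : (y : G) ≠ 1 := fun h => hy (Subtype.ext h)
      have h1 : (1 : G)⁻¹ * (y : G) * 1 ∈ H := by simpa using y.2
      have := conj_unique H hH (y : G) 1 g hy1 h1 hmem'
      show (g : G ⧸ H) = ((1 : G) : G ⧸ H)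
      exact (QuotientGroup.eq.mpr this).symm
  have hfix1 : Fintype.card (MulAction.fixedBy (G ⧸ H) (1 : H)) = H.index := by
    rw [Subgroup.index, Nat.card_eq_fintype_card]
    apply Fintype.card_congr
    exact
      { toFun := fun x => x.1
        invFun := fun x => ⟨x, by simp [MulAction.mem_fixedBy]⟩
        left_inv := fun x => rfl
        right_inv := fun x => rfl }
  have hsum : (∑ y : H, Fintype.card (MulAction.fixedBy (G ⧸ H) y)) = H.index + (Nat.card H - 1) := by
    rw [← Finset.add_sum_erase Finset.univ _ (Finset.mem_univ (1 : H)), hfix1]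
    congr 1
    rw [Finset.sum_congr rfl (fun y hy => hfix y (Finset.ne_of_mem_erase hy))]
    simp [Nat.card_eq_fintype_card]
  rw [hsum] at burnside
  have hpos : 0 < Nat.card H := Nat.card_pos
  rw [← Nat.card_eq_fintype_card (α := H)] at burnside
  set k := Fintype.card (MulAction.orbitRel.Quotient H (G ⧸ H)) with hk
  have hipos : 0 < H.index := Nat.pos_of_ne_zero (Subgroup.index_ne_zero_of_finite)
  -- index + (h - 1) = k * h
  have hk1 : 1 ≤ k := by
    by_contra hk0
    have : k = 0 := by omega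
    rw [this] at burnside
    omega
  obtain ⟨k', hk'⟩ : ∃ k', k = k' + 1 := ⟨k - 1, by omega⟩
  have : H.index = k' * Nat.card H + 1 := by
    rw [hk'] at burnside
    have : (k' + 1) * Nat.card H = k' * Nat.card H + Nat.card H := by ring
    omega
  rw [this, Nat.mul_add_mod_self_right]

/-- For a Frobenius complement H, the set of elements lying in no conjugate of H, together with 1, has exactly as many elements as the index of H, and that index is congruent to 1 modulo the order of H. -/
theorem result {G : Type*} [Group G] [Finite G] (H : Subgroup G) (hH : Cfsg.IsFrobeniusComplement H) :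
    Nat.card (Cfsg.frobeniusKernel H) = H.index ∧ H.index % Nat.card H = 1 % Nat.card H :=
  ⟨card_kernel H hH, index_mod H hH⟩

end Cfsg.Agent.S0034
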