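import Cfsg.Statements.S0035
import Cfsg.Agent.Lib.Helper26.FrobeniusKernel
import Cfsg.Agent.S0034

set_option autoImplicit false
open Cfsg

namespace Cfsg.Agent.S0035
open Cfsg.Agent.Lib.Helper26
open scoped Pointwise

/-- Frobenius' Theorem: if H is a Frobenius complement in a finite group, the identity together with the elements lying in no conjugate of H form a normal subgroup, which is a complement to H. -/
theorem result {G : Type*} [Group G] [Finite G] (H : Subgroup G) (hH : Cfsg.IsFrobeniusComplement H) :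
    ∃ N : Subgroup G, (N : Set G) = Cfsg.frobeniusKernel H ∧ N.Normal ∧ Subgroup.IsComplement' N H := by
  classical
  have : Fintype G := Fintype.ofFinite G
  have hTI : ∀ g : G, g ∉ H → ∀ t ∈ H, g * t * g⁻¹ ∈ H → t = 1 := by
    intro g hg t ht hgt
    have h1 := hH.2.2 g hg
    have h2 : g * t * g⁻¹ ∈ H ⊓ MulAut.conj g • H := by
      refine Subgroup.mem_inf.2 ⟨hgt, ?_⟩
      rw [Cfsg.Agent.S0034.mem_conj_smul]
      have : g⁻¹ * (g * t * g⁻¹) * g = t := by group
      rw [this]; exact ht
    rw [h1, Subgroup.mem_bot] at h2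
    have : t = g⁻¹ * (g * t * g⁻¹) * g := by group
    rw [this, h2]; group
  obtain ⟨N, hN, hmem⟩ := frobenius_kernel_subgroup H hTI
  have hset : (N : Set G) = Cfsg.frobeniusKernel H := by
    ext x
    rw [SetLike.mem_coe, hmem]
    show (x = 1 ∨ ∀ g : G, g⁻¹ * x * g ∉ H) ↔ (x = 1 ∨ ∀ g : G, x ∉ MulAut.conj g • H)
    simp only [Cfsg.Agent.S0034.mem_conj_smul]
  refine ⟨N, hset, hN, ?_⟩
  apply Subgroup.isComplement'_of_card_mul_and_disjoint
  · have h1 := Cfsg.Agent.S0034.card_kernel H hH
    have h2 : Nat.card N = Nat.card (Cfsg.frobeniusKernel H) := by rw [← hset]; rfl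
    rw [h2, h1, mul_comm]
    exact H.card_mul_index
  · rw [Subgroup.disjoint_def]
    intro x hxN hxH
    rcases (hmem x).1 hxN with h | h
    · exact h
    · exfalso
      exact h 1 (by simpa using hxH)

end Cfsg.Agent.S0035
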