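import Cfsg.Statements.S0040
import Mathlib
import Cfsg.Agent.S0016
import Cfsg.Agent.Lib.Helper13.FpfCyclic

set_option autoImplicit false
open Pointwise
open Cfsg
open scoped IsMulCommutative

namespace Cfsg.Agent.S0040

open Cfsg.Agent.Lib.Helper13

/-- a `p`-group all of whose abelian subgroups are cyclic has at most one subgroup of order `p`. -/
theorem unique_order_p {P : Type*} [Group P] [Finite P] (p : ℕ) [hp : Fact p.Prime] (hP : IsPGroup p P)
    (h : ∀ A : Subgroup P, IsMulCommutative A → IsCyclic A) :
    ∀ X Y : Subgroup P, Nat.card X = p → Nat.card Y = p → X = Y := by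
  intro X Y hX hY
  have hXne : X ≠ ⊥ := by
    intro h
    rw [h, Subgroup.card_bot] at hX
    exact hp.out.one_lt.ne hX
  have : Nontrivial P := by
    obtain ⟨⟨x, hx⟩, hx1⟩ := (Subgroup.ne_bot_iff_exists_ne_one.mp hXne)
    exact ⟨⟨x, 1, fun h => hx1 (Subtype.ext h)⟩⟩
  have hcn := hP.center_nontrivial
  have hpc : p ∣ Nat.card (Subgroup.center P) := by
    rcases (hP.to_subgroup (Subgroup.center P)).card_eq_or_dvd with h1 | h1
    · exfalso
      have := Subgroup.card_eq_one.mp h1
      exact (Subgroup.nontrivial_iff_ne_bot _).mp hcn this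
    · exact h1
  obtain ⟨⟨z, hzc⟩, hz⟩ := exists_prime_orderOf_dvd_card' p hpc
  rw [Subgroup.orderOf_mk] at hz
  have key : ∀ x : P, orderOf x = p → x ∈ Subgroup.zpowers z := by
    intro x hx
    obtain ⟨A, hA⟩ : ∃ A : Subgroup P, A = Subgroup.closure {x, z} := ⟨_, rfl⟩
    have hcomm : ∀ a ∈ ({x, z} : Set P), ∀ b ∈ ({x, z} : Set P), a * b = b * a := by
      intro a ha b hb
      rcases ha with rfl | rfl <;> rcases hb with rfl | rfl
      · rfl
      · exact (Subgroup.mem_center_iff.mp hzc) a
      · exact ((Subgroup.mem_center_iff.mp hzc) b).symm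
      · rfl
    have hAc : IsMulCommutative A := by
      rw [hA]
      exact Subgroup.isMulCommutative_closure hcomm
    have hAcyc : IsCyclic A := h A hAc
    have hxA : x ∈ A := hA ▸ Subgroup.subset_closure (by simp)
    have hzA : z ∈ A := hA ▸ Subgroup.subset_closure (by simp)
    have hker : Nat.card (powMonoidHom p : A →* A).ker = (Nat.card A).gcd p :=
      IsCyclic.card_powMonoidHom_ker A p
    have hzk : Subgroup.zpowers (⟨z, hzA⟩ : A) ≤ (powMonoidHom p : A →* A).ker := by
      rw [Subgroup.zpowers_le, MonoidHom.mem_ker, powMonoidHom_apply]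
      ext
      simp only [Subgroup.coe_pow, Subgroup.coe_one]
      rw [← hz, pow_orderOf_eq_one]
    have heq : Subgroup.zpowers (⟨z, hzA⟩ : A) = (powMonoidHom p : A →* A).ker := by
      apply Subgroup.eq_of_le_of_card_ge hzk
      rw [hker, Nat.card_zpowers, Subgroup.orderOf_mk, hz]
      exact Nat.gcd_le_right _ hp.out.pos
    have hxk : (⟨x, hxA⟩ : A) ∈ (powMonoidHom p : A →* A).ker := by
      rw [MonoidHom.mem_ker, powMonoidHom_apply]
      ext
      simp only [Subgroup.coe_pow, Subgroup.coe_one]
      rw [← hx, pow_orderOf_eq_one]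
    rw [← heq, Subgroup.mem_zpowers_iff] at hxk
    obtain ⟨k, hk⟩ := hxk
    rw [Subgroup.mem_zpowers_iff]
    refine ⟨k, ?_⟩
    have := congrArg Subtype.val hk
    simpa using this
  have main : ∀ X : Subgroup P, Nat.card X = p → X = Subgroup.zpowers z := by
    intro X hX
    have hXne : X ≠ ⊥ := by
      intro h
      rw [h, Subgroup.card_bot] at hX
      exact hp.out.one_lt.ne hX
    obtain ⟨⟨x, hxX⟩, hx1⟩ := (Subgroup.ne_bot_iff_exists_ne_one.mp hXne)
    have hx1' : (x : P) ≠ 1 := fun h => hx1 (Subtype.ext h)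
    have hxo : orderOf (x : P) = p := by
      have h1 : orderOf (x : P) ∣ p := by
        rw [← hX, ← Subgroup.orderOf_mk (x : P) hxX]
        exact orderOf_dvd_natCard _
      rcases (Nat.dvd_prime hp.out).mp h1 with h2 | h2
      · exact absurd (orderOf_eq_one_iff.mp h2) hx1'
      · exact h2
    have h1 : Subgroup.zpowers (x : P) = X := by
      apply Subgroup.eq_of_le_of_card_ge
      · rwa [Subgroup.zpowers_le]
      · rw [Nat.card_zpowers, hxo, hX]
    have h2 : Subgroup.zpowers (x : P) = Subgroup.zpowers z := by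
      apply Subgroup.eq_of_le_of_card_ge
      · rw [Subgroup.zpowers_le]; exact key _ hxo
      · rw [Nat.card_zpowers, Nat.card_zpowers, hxo, hz]
    rw [← h1, h2]
  rw [main X hX, main Y hY]

end Cfsg.Agent.S0040

namespace Cfsg.Agent.S0040

/-- Sylow subgroups of Frobenius complements: if H complements a nontrivial normal subgroup K and every nonidentity element of H has trivial centraliser in K, then each Sylow subgroup of H is cyclic or isomorphic to a generalized quaternion group. -/
theorem result {G : Type*} [Group G] [Finite G] (K H : Subgroup G) [K.Normal]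
    (hc : Subgroup.IsComplement' K H) (hK : K ≠ ⊥) (hfpf : ∀ h ∈ H, h ≠ 1 → K ⊓ Subgroup.centralizer {h} = ⊥)
    (p : ℕ) [Fact p.Prime] (P : Sylow p H) :
    IsCyclic P ∨ ∃ n : ℕ, Nonempty (P ≃* QuaternionGroup (2 ^ n)) := by
  have huniq := unique_order_p (P := ↥(P : Subgroup H)) p P.2 (by
    intro A hA
    obtain ⟨f, hf⟩ : ∃ f : ↥(P : Subgroup H) →* G, f = H.subtype.comp (P : Subgroup H).subtype := ⟨_, rfl⟩
    have hinj : Function.Injective f := by
      rw [hf]
      exact H.subtype_injective.comp (P : Subgroup H).subtype_injective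
    have hle : A.map f ≤ H := by
      rintro _ ⟨a, _, rfl⟩
      rw [hf]
      exact (a : H).2
    have hcyc : IsCyclic (A.map f) := by
      apply Cfsg.Agent.Lib.Helper13.fpf_cyclic (A.map f) K hK
      · rw [Subgroup.normalizer_eq_top]; exact le_top
      · intro a ha ha1
        exact hfpf a (hle ha) ha1
      · left
        infer_instance
    exact isCyclic_of_surjective (A.equivMapOfInjective f hinj).symm
      (A.equivMapOfInjective f hinj).symm.surjective)
  rcases Cfsg.Agent.S0016.result p P.2 huniq with h | ⟨_, h⟩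
  · exact Or.inl h
  · exact Or.inr h

end Cfsg.Agent.S0040
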