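import Cfsg.Statements.S0068
import Mathlib

set_option autoImplicit false
open Cfsg

namespace Cfsg.Agent.S0068

theorem inverts {G : Type*} [Group G] [Finite G] (K H : Subgroup G) [hKn : K.Normal]
    (hfpf : ∀ h ∈ H, h ≠ 1 → K ⊓ Subgroup.centralizer {h} = ⊥)
    (t : G) (htH : t ∈ H) (ht : orderOf t = 2) : ∀ k ∈ K, t * k * t⁻¹ = k⁻¹ := by
  have ht1 : t ≠ 1 := by
    intro h; rw [h, orderOf_one] at ht; omega
  have ht2 : t * t = 1 := by
    have := pow_orderOf_eq_one t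
    rwa [ht, pow_two] at this
  have htinv : t⁻¹ = t := inv_eq_of_mul_eq_one_left ht2
  have hbot := hfpf t htH ht1
  let f : K → K := fun k => ⟨(k : G)⁻¹ * (t * k * t⁻¹),
    K.mul_mem (K.inv_mem k.2) (hKn.conj_mem _ k.2 t)⟩
  have hinj : Function.Injective f := by
    intro a b hab
    have h1 : (a : G)⁻¹ * (t * a * t⁻¹) = (b : G)⁻¹ * (t * b * t⁻¹) := congrArg Subtype.val hab
    have h2 : (b : G) * (a : G)⁻¹ ∈ K ⊓ Subgroup.centralizer {t} := by
      refine Subgroup.mem_inf.mpr ⟨K.mul_mem b.2 (K.inv_mem a.2), ?_⟩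
      rw [Subgroup.mem_centralizer_iff]
      intro x hx
      rw [Set.mem_singleton_iff] at hx
      subst hx
      -- x * (b a⁻¹) = (b a⁻¹) * x
      have h3 : (b : G) * (a : G)⁻¹ * x = x * ((b : G) * (a : G)⁻¹) := by
        have e1 : (b : G) * ((a : G)⁻¹ * (x * a * x⁻¹)) = x * b * x⁻¹ := by
          rw [h1]; group
        calc (b : G) * (a : G)⁻¹ * x = (b : G) * ((a : G)⁻¹ * (x * a * x⁻¹)) * (x * (a : G)⁻¹) := by group
          _ = x * b * x⁻¹ * (x * (a : G)⁻¹) := by rw [e1]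
          _ = x * ((b : G) * (a : G)⁻¹) := by group
      exact h3.symm
    rw [hbot, Subgroup.mem_bot] at h2
    have h4 : (b : G) = a := by
      have := mul_inv_eq_one.mp h2
      exact this
    exact Subtype.ext h4.symm
  have hsurj : Function.Surjective f := Finite.surjective_of_injective hinj
  intro k hk
  obtain ⟨a, ha⟩ := hsurj ⟨k, hk⟩
  have hk' : k = (a : G)⁻¹ * (t * a * t⁻¹) := (congrArg Subtype.val ha).symm
  rw [hk']
  have e : t * ((a : G)⁻¹ * (t * a * t⁻¹)) * t⁻¹ = (t * (a : G)⁻¹ * t⁻¹) * ((t * t) * a * (t * t)⁻¹) := by group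
  rw [e, ht2]
  group

/-- A fixed-point-free complement of even order has a unique involution, which inverts the kernel; the kernel is abelian. -/
theorem result {G : Type*} [Group G] [Finite G] (K H : Subgroup G) [K.Normal]
    (hc : Subgroup.IsComplement' K H) (hK : K ≠ ⊥) (hfpf : ∀ h ∈ H, h ≠ 1 → K ⊓ Subgroup.centralizer {h} = ⊥)
    (heven : 2 ∣ Nat.card H) :
    (∃ s ∈ H, orderOf s = 2 ∧ (∀ t ∈ H, orderOf t = 2 → t = s) ∧ ∀ k ∈ K, s * k * s⁻¹ = k⁻¹) ∧ IsMulCommutative K := by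
  haveI : Fact (Nat.Prime 2) := ⟨Nat.prime_two⟩
  obtain ⟨s', hs'⟩ := exists_prime_orderOf_dvd_card' 2 heven
  have hs : orderOf (s' : G) = 2 := by rw [Subgroup.orderOf_coe]; exact hs'
  have hinv_s := inverts K H hfpf (s' : G) s'.2 hs
  have hs2 : (s' : G) * (s' : G) = 1 := by
    have := pow_orderOf_eq_one (s' : G)
    rwa [hs, pow_two] at this
  refine ⟨⟨(s' : G), s'.2, hs, ?_, hinv_s⟩, ?_⟩
  · intro t htH ht
    have hinv_t := inverts K H hfpf t htH ht
    by_contra hne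
    have hst : (s' : G) * t ≠ 1 := by
      intro h
      apply hne
      have h1 : t = (s' : G)⁻¹ := eq_inv_of_mul_eq_one_right h
      rw [h1]
      exact inv_eq_of_mul_eq_one_left hs2
    have hbot := hfpf _ (H.mul_mem s'.2 htH) hst
    apply hK
    rw [eq_bot_iff, ← hbot]
    intro k hk
    refine Subgroup.mem_inf.mpr ⟨hk, ?_⟩
    rw [Subgroup.mem_centralizer_iff]
    intro x hx
    rw [Set.mem_singleton_iff] at hx
    subst hx
    have h1 : t * k * t⁻¹ = k⁻¹ := hinv_t k hk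
    have h2 : (s' : G) * k⁻¹ * (s' : G)⁻¹ = k := by
      have := hinv_s k⁻¹ (K.inv_mem hk)
      rwa [inv_inv] at this
    have h3 : (s' : G) * t * k * ((s' : G) * t)⁻¹ = k := by
      calc (s' : G) * t * k * ((s' : G) * t)⁻¹ = (s' : G) * (t * k * t⁻¹) * (s' : G)⁻¹ := by group
        _ = k := by rw [h1, h2]
    calc (s' : G) * t * k = (s' : G) * t * k * ((s' : G) * t)⁻¹ * ((s' : G) * t) := by group
      _ = k * ((s' : G) * t) := by rw [h3]
  · refine ⟨⟨fun a b => Subtype.ext ?_⟩⟩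
    show (a : G) * (b : G) = (b : G) * (a : G)
    have h1 := hinv_s _ (K.mul_mem a.2 b.2)
    have h2 := hinv_s _ a.2
    have h3 := hinv_s _ b.2
    have h4 : (s' : G) * ((a : G) * (b : G)) * (s' : G)⁻¹ = ((s' : G) * a * (s' : G)⁻¹) * ((s' : G) * b * (s' : G)⁻¹) := by group
    rw [h4, h2, h3] at h1
    -- a⁻¹ b⁻¹ = (a b)⁻¹ = b⁻¹ a⁻¹
    have h5 : ((a : G)⁻¹ * (b : G)⁻¹)⁻¹ = (((a : G) * (b : G))⁻¹)⁻¹ := congrArg Inv.inv h1
    rw [inv_inv, mul_inv_rev, inv_inv, inv_inv] at h5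
    exact h5.symm

end Cfsg.Agent.S0068
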