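import Cfsg.Statements.S0069
import Mathlib
import Cfsg.Agent.S0040
import Cfsg.Agent.S0068
import Cfsg.Agent.Lib.Helper13.FrobUnique

set_option autoImplicit false
open Pointwise
open Cfsg
open scoped IsMulCommutative commutatorElement

namespace Cfsg.Agent.S0069

open Cfsg.Agent.Lib.Helper13

/-- the odd case: all Sylow subgroups are cyclic. -/
theorem odd_case {G : Type*} [Group G] [Finite G] (K H : Subgroup G) [K.Normal]
    (hc : Subgroup.IsComplement' K H) (hK : K ≠ ⊥) (hH : H ≠ ⊥)
    (hfpf : ∀ h ∈ H, h ≠ 1 → K ⊓ Subgroup.centralizer {h} = ⊥) (hodd : ¬ 2 ∣ Nat.card H) :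
    Subgroup.center H ≠ ⊥ := by
  have hZ : IsZGroup H := ⟨fun p hp P => by
    have : Fact p.Prime := ⟨hp⟩
    rcases Cfsg.Agent.S0040.result K H hc hK hfpf p P with h | ⟨n, ⟨e⟩⟩
    · exact h
    · exfalso
      have h1 : Nat.card P = 4 * 2 ^ n := by
        rw [Nat.card_congr e.toEquiv, Nat.card_eq_fintype_card, QuaternionGroup.card]
      obtain ⟨k, hk⟩ := (IsPGroup.iff_card.mp P.2)
      have h2 : 2 ∣ p ^ k := by rw [← hk, h1]; exact ⟨2 * 2 ^ n, by ring⟩
      have h3 : 2 ∣ p := Nat.Prime.dvd_of_dvd_pow Nat.prime_two h2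
      have h4 : 2 ∣ Nat.card P := by rw [h1]; exact ⟨2 * 2 ^ n, by ring⟩
      exact hodd (h4.trans (Subgroup.card_subgroup_dvd_card _))⟩
  have : Nontrivial H := (Subgroup.nontrivial_iff_ne_bot H).mpr hH
  have hlt := IsZGroup.commutator_lt H
  have hcyc : IsCyclic (commutator H) := IsZGroup.isCyclic_commutator H
  have hcop := IsZGroup.coprime_commutator_index H
  have hidx : (commutator H).index ≠ 1 := fun h => hlt.ne (Subgroup.index_eq_one.mp h)
  obtain ⟨p, hp, hpi⟩ := Nat.exists_prime_and_dvd hidx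
  have : Fact p.Prime := ⟨hp⟩
  have hpH : p ∣ Nat.card H := hpi.trans (Subgroup.index_dvd_card _)
  obtain ⟨b, hb⟩ := exists_prime_orderOf_dvd_card' p hpH
  have hpA : ¬ p ∣ Nat.card (commutator H) := by
    intro h
    exact hp.one_lt.ne' (Nat.eq_one_of_dvd_coprimes hcop h hpi)
  have hb1 : b ≠ 1 := by
    intro h; rw [h, orderOf_one] at hb; exact hp.one_lt.ne hb
  obtain ⟨A', hA'⟩ : ∃ A' : Subgroup G, A' = (commutator H).map H.subtype := ⟨_, rfl⟩
  have hA'H : A' ≤ H := hA' ▸ Subgroup.map_subtype_le _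
  have hA'card : Nat.card A' = Nat.card (commutator H) := by
    rw [hA']; exact Subgroup.card_map_of_injective H.subtype_injective
  have hA'c : IsMulCommutative A' := by rw [hA']; infer_instance
  have hHA' : H ≤ Subgroup.normalizer (A' : Set G) := by
    rw [← Subgroup.normal_subgroupOf_iff_le_normalizer hA'H]
    have e : A'.subgroupOf H = commutator H := by
      rw [hA', ← Subgroup.comap_subtype]
      exact Subgroup.comap_map_eq_self_of_injective H.subtype_injective _
    rw [e]
    infer_instance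
  obtain ⟨X, hX⟩ : ∃ X : Subgroup G, X = Subgroup.zpowers (b : G) := ⟨_, rfl⟩
  have hbX : (b : G) ∈ X := hX ▸ Subgroup.mem_zpowers _
  have hbo : orderOf (b : G) = p := by rw [Subgroup.orderOf_coe, hb]
  have hXH : X ≤ H := by rw [hX, Subgroup.zpowers_le]; exact b.2
  have hXA : X ≤ Subgroup.normalizer (A' : Set G) := hXH.trans hHA'
  have hXcard : Nat.card X = p := by rw [hX, Nat.card_zpowers, hbo]
  have hcopXA : (Nat.card X).Coprime (Nat.card A') := by
    rw [hXcard, hA'card]
    exact (Nat.Prime.coprime_iff_not_dvd hp).mpr hpA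
  obtain ⟨h1, h2⟩ := Cfsg.Agent.S0055.result X A' hXA hcopXA
  have hCX : Subgroup.centralizer {(b : G)} ≤ Subgroup.centralizer (X : Set G) := by
    rw [hX, Subgroup.zpowers_eq_closure, Subgroup.centralizer_closure]
  -- (i) `b` centralizes `A'`
  have hi : A' ≤ Subgroup.centralizer (X : Set G) := by
    by_cases hD : ⁅A', X⁆ = ⊥
    · rw [hD, sup_bot_eq] at h2
      rw [← h2]
      exact inf_le_right
    · exfalso
      have hDA : ⁅A', X⁆ ≤ A' := Cfsg.Agent.S0055.comm_le X A' hXA
      refine no_frobenius_in_complement K H hK (by rw [Subgroup.normalizer_eq_top]; exact le_top)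
        hfpf ⁅A', X⁆ (hDA.trans hA'H) hD (b : G) b.2 p hp hbo
        (le_normalizer_commutator A' X (Subgroup.mem_sup_right hbX)) ?_
      rw [eq_bot_iff, ← h1]
      intro x hx
      obtain ⟨hx1, hx2⟩ := Subgroup.mem_inf.mp hx
      exact Subgroup.mem_inf.mpr ⟨Subgroup.mem_inf.mpr ⟨hDA hx1, hCX hx2⟩, hx1⟩
  have hcomm : ∀ a ∈ commutator H, b * a = a * b := by
    intro a ha
    have haA' : (a : G) ∈ A' := by rw [hA']; exact ⟨a, ha, rfl⟩
    have := (Subgroup.mem_centralizer_iff.mp (hi haA')) (b : G) hbX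
    exact Subtype.ext this
  -- (ii) `b` is central
  intro hbot
  have hbc : b ∈ Subgroup.center H := by
    rw [Subgroup.mem_center_iff]
    intro h
    have ha : ⁅b⁻¹, h⁆ ∈ commutator H := by
      rw [commutator_def]
      exact Subgroup.commutator_mem_commutator (Subgroup.mem_top _) (Subgroup.mem_top _)
    have hba := hcomm _ ha
    have e1 : h * b * h⁻¹ = b * ⁅b⁻¹, h⁆ := by rw [commutatorElement_def]; group
    have e2 : (b * ⁅b⁻¹, h⁆) ^ p = 1 := by
      rw [← e1, conj_pow, ← hb, pow_orderOf_eq_one]; group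
    rw [(show Commute b ⁅b⁻¹, h⁆ from hba).mul_pow, ← hb, pow_orderOf_eq_one, one_mul, hb] at e2
    have e3 : orderOf (⟨⁅b⁻¹, h⁆, ha⟩ : commutator H) ∣ p := by
      apply orderOf_dvd_of_pow_eq_one
      ext
      simpa using congrArg Subtype.val e2
    have e4 : orderOf (⟨⁅b⁻¹, h⁆, ha⟩ : commutator H) ∣ Nat.card (commutator H) := orderOf_dvd_natCard _
    rcases (Nat.dvd_prime hp).mp e3 with e5 | e5
    · rw [orderOf_eq_one_iff] at e5
      have e6 : ⁅b⁻¹, h⁆ = 1 := congrArg Subtype.val e5
      rw [e6, mul_one] at e1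
      calc h * b = h * b * h⁻¹ * h := by group
        _ = b * h := by rw [e1]
    · rw [e5] at e4
      exact absurd e4 hpA
  rw [hbot, Subgroup.mem_bot] at hbc
  exact hb1 hbc

end Cfsg.Agent.S0069

namespace Cfsg.Agent.S0069

/-- A Frobenius complement has nontrivial centre: if H ≠ 1 complements a nontrivial normal subgroup K and every nonidentity element of H has trivial centraliser in K, then the centre of H is nontrivial. -/
theorem result {G : Type*} [Group G] [Finite G] (K H : Subgroup G) [K.Normal]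
    (hc : Subgroup.IsComplement' K H) (hK : K ≠ ⊥) (hH : H ≠ ⊥) (hfpf : ∀ h ∈ H, h ≠ 1 → K ⊓ Subgroup.centralizer {h} = ⊥) :
    Subgroup.center H ≠ ⊥ := by
  by_cases heven : 2 ∣ Nat.card H
  · obtain ⟨⟨s, hsH, hs2, huniq, _⟩, _⟩ := Cfsg.Agent.S0068.result K H hc hK hfpf heven
    intro hbot
    have hsc : (⟨s, hsH⟩ : H) ∈ Subgroup.center H := by
      rw [Subgroup.mem_center_iff]
      intro h
      have h1 : orderOf ((h : G) * s * (h : G)⁻¹) = 2 := by
        have := orderOf_injective (MulAut.conj (h : G)).toMonoidHom (MulAut.conj (h : G)).injective s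
        rw [← hs2, ← this]
        rfl
      have h2 := huniq _ (H.mul_mem (H.mul_mem h.2 hsH) (H.inv_mem h.2)) h1
      apply Subtype.ext
      show (h : G) * s = s * h
      calc (h : G) * s = (h : G) * s * (h : G)⁻¹ * h := by group
        _ = s * h := by rw [h2]
    rw [hbot, Subgroup.mem_bot] at hsc
    have : s = 1 := congrArg Subtype.val hsc
    rw [this, orderOf_one] at hs2
    omega
  · exact odd_case K H hc hK hH hfpf heven

end Cfsg.Agent.S0069
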