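import Cfsg.Statements.S1473
import Mathlib
import Cfsg.Agent.Lib.Helper13.Coprime
import Cfsg.Agent.Lib.Helper13.SZConjA
import Cfsg.Agent.Lib.Helper2.Cores
import Cfsg.Agent.Lib.Helper2.NilpotentBasic
import Cfsg.Agent.Lib.Helper3.PSolvable

set_option autoImplicit false
open Cfsg

namespace Cfsg.Agent.S1473

open scoped commutatorElement Pointwise

universe u

theorem inj_nilpotent {A B : Type*} [Group A] [Group B] (f : A →* B)
    (hf : Function.Injective f) (hB : Group.IsNilpotent B) : Group.IsNilpotent A :=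
  haveI := hB
  Subgroup.isNilpotent_of_ker_le_center f
    (by rw [(MonoidHom.ker_eq_bot_iff f).mpr hf]; exact bot_le)

theorem nilpotent_of_le {G : Type*} [Group G] {K1 K2 : Subgroup G} (h : K1 ≤ K2)
    (h2 : Group.IsNilpotent K2) : Group.IsNilpotent K1 :=
  inj_nilpotent (Subgroup.inclusion h) (Subgroup.inclusion_injective h) h2

theorem cn_of_injective {A B : Type*} [Group A] [Group B] (f : A →* B)
    (hf : Function.Injective f) (hB : IsCNGroup B) : IsCNGroup A := by
  intro a ha
  have hfa : f a ≠ 1 := fun h => ha (hf (by rw [h, map_one]))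
  have hmem : ∀ k : Subgroup.centralizer ({a} : Set A),
      (f.comp (Subgroup.subtype _)) k ∈ Subgroup.centralizer ({f a} : Set B) := by
    intro k
    rw [Subgroup.mem_centralizer_singleton_iff]
    have := Subgroup.mem_centralizer_singleton_iff.mp k.2
    simp only [MonoidHom.coe_comp, Subgroup.coe_subtype, Function.comp_apply]
    rw [← map_mul, ← map_mul, this]
  let φ : Subgroup.centralizer ({a} : Set A) →* Subgroup.centralizer ({f a} : Set B) :=
    MonoidHom.codRestrict (f.comp (Subgroup.subtype _)) _ hmem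
  apply inj_nilpotent φ _ (hB (f a) hfa)
  intro k1 k2 h
  apply Subtype.ext
  apply hf
  exact congrArg Subtype.val h

theorem isPGroup_zpowers {N : Type*} [Group N] {p : ℕ} [Fact p.Prime] (a : N)
    (ha : ∃ k : ℕ, a ^ (p ^ k) = 1) : IsPGroup p (Subgroup.zpowers a) := by
  obtain ⟨k, hk⟩ := ha
  obtain ⟨j, -, hj⟩ := (Nat.dvd_prime_pow Fact.out).mp (orderOf_dvd_of_pow_eq_one hk)
  exact IsPGroup.of_card (n := j) (by rw [Nat.card_zpowers, hj])

theorem commute_of_nilpotent {N : Type*} [Group N] [Finite N] [Group.IsNilpotent N] {p q : ℕ}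
    [Fact p.Prime] [Fact q.Prime] (hpq : p ≠ q) (a b : N) (ha : ∃ k : ℕ, a ^ (p ^ k) = 1)
    (hb : ∃ k : ℕ, b ^ (q ^ k) = 1) : a * b = b * a := by
  have hsyl := ((Group.isNilpotent_of_finite_tfae (G := N)).out 0 3).mp ‹Group.IsNilpotent N›
  obtain ⟨P, hP⟩ := (isPGroup_zpowers a ha).exists_le_sylow
  obtain ⟨Q, hQ⟩ := (isPGroup_zpowers b hb).exists_le_sylow
  haveI hPn : (P : Subgroup N).Normal := hsyl p ‹_› P
  haveI hQn : (Q : Subgroup N).Normal := hsyl q ‹_› Q
  have hdisj : (P : Subgroup N) ⊓ Q = ⊥ := (Subgroup.disjoint_of_coprime_natCard (by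
    rw [P.card_eq_multiplicity, Q.card_eq_multiplicity]
    exact Nat.Coprime.pow _ _ ((Nat.coprime_primes Fact.out Fact.out).mpr hpq))).eq_bot
  have hcomm : ⁅(P : Subgroup N), (Q : Subgroup N)⁆ = ⊥ := by
    rw [eq_bot_iff, ← hdisj]
    exact le_inf (Subgroup.commutator_le_left _ _) (Subgroup.commutator_le_right _ _)
  have := Subgroup.commutator_mem_commutator (hP (Subgroup.mem_zpowers a))
    (hQ (Subgroup.mem_zpowers b))
  rw [hcomm, Subgroup.mem_bot, commutatorElement_eq_one_iff_mul_comm] at this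
  exact this

theorem lemmaX {C : Type u} [Group C] [Finite C] (hCN : IsCNGroup C) {p : ℕ} [Fact p.Prime]
    (H L : Subgroup C) [H.Normal] [hLn : L.Normal] (hHL : H ≤ L) (hL : IsPGroup p L) (hH : H ≠ ⊥)
    (x : C) (hxL : x ∈ L) (hxH : x ∉ H) (hfix : ∀ c : C, c * x * c⁻¹ * x⁻¹ ∈ H) :
    Group.IsNilpotent C := by
  obtain ⟨P⟩ : Nonempty (Sylow p C) := inferInstance
  have hLP : L ≤ P :=
    (Cfsg.Agent.Lib.Helper2.le_pCore hLn hL).trans (Cfsg.Agent.Lib.Helper2.pCore_le_sylow p P)
  have hHP : H ≤ P := hHL.trans hLP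
  obtain ⟨d, hdH, hd1, hdP⟩ : ∃ d ∈ H, d ≠ 1 ∧ ∀ s ∈ (P : Subgroup C), s * d = d * s := by
    haveI : Group.IsNilpotent (P : Subgroup C) := P.isPGroup'.isNilpotent
    have hne : H.subgroupOf (P : Subgroup C) ≠ ⊥ := by
      rw [Ne, Subgroup.subgroupOf_eq_bot, disjoint_iff, inf_eq_left.mpr hHP]
      exact hH
    have h1 := Cfsg.Agent.Lib.Helper2.normal_inf_center_ne_bot
      (H.subgroupOf (P : Subgroup C)) hne
    obtain ⟨⟨z, hz⟩, hz1⟩ := (Subgroup.ne_bot_iff_exists_ne_one).mp h1
    refine ⟨((z : (P : Subgroup C)) : C), Subgroup.mem_subgroupOf.mp hz.1, ?_, ?_⟩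
    · intro h
      apply hz1
      apply Subtype.ext
      apply Subtype.ext
      exact h
    · intro s hs
      have := Subgroup.mem_center_iff.mp hz.2 ⟨s, hs⟩
      exact congrArg Subtype.val this
  have htop : Subgroup.centralizer ({d} : Set C) = ⊤ := by
    apply Subgroup.eq_top_of_le_card
    apply Nat.le_of_dvd Nat.card_pos
    rw [Nat.dvd_iff_prime_pow_dvd_dvd]
    intro q k hq hqk
    haveI : Fact q.Prime := ⟨hq⟩
    by_cases hqp : q = p
    · subst hqp
      refine (P.pow_dvd_card_of_pow_dvd_card hqk).trans (Subgroup.card_dvd_of_le ?_)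
      intro s hs
      rw [Subgroup.mem_centralizer_singleton_iff]
      exact hdP s hs
    · obtain ⟨Q⟩ : Nonempty (Sylow q C) := inferInstance
      refine (Q.pow_dvd_card_of_pow_dvd_card hqk).trans (Subgroup.card_dvd_of_le ?_)
      intro y hy
      rw [Subgroup.mem_centralizer_singleton_iff]
      have hyq : ∃ k : ℕ, y ^ (q ^ k) = 1 := by
        obtain ⟨k, hk⟩ := Q.isPGroup' ⟨y, hy⟩
        exact ⟨k, by simpa only [Subgroup.coe_pow, Subgroup.coe_one] using congrArg Subtype.val hk⟩
      have hdp : ∃ k : ℕ, d ^ (p ^ k) = 1 := by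
        obtain ⟨k, hk⟩ := hL ⟨d, hHL hdH⟩
        exact ⟨k, by simpa only [Subgroup.coe_pow, Subgroup.coe_one] using congrArg Subtype.val hk⟩
      have hcop : (Nat.card (Subgroup.zpowers y)).Coprime (Nat.card L) :=
        IsPGroup.coprime_card_of_ne q p hqp _ _ (isPGroup_zpowers y hyq) hL
      haveI : Group.IsNilpotent L := hL.isNilpotent
      obtain ⟨c, hc, hxc⟩ := Cfsg.Agent.Lib.Helper13.coprime_fixed_point_in_coset
        (Subgroup.zpowers y) L (by rw [Subgroup.normalizer_eq_top L]; exact le_top) hcop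
        (Or.inr inferInstance) H hHL (by rw [Subgroup.normalizer_eq_top H]; exact le_top)
        (by rw [Subgroup.normalizer_eq_top H]; exact le_top) x hxL (fun a _ => hfix a)
      have hcH : c ∉ H := by
        intro h
        apply hxH
        have h2 : x⁻¹ ∈ H := by
          have := H.mul_mem hxc (H.inv_mem h)
          rwa [mul_inv_cancel_right] at this
        simpa using H.inv_mem h2
      have hc1 : c ≠ 1 := fun h => hcH (h ▸ H.one_mem)
      have hcy : y * c = c * y := by
        have := (Subgroup.mem_centralizer_iff.mp hc.2) y (Subgroup.mem_zpowers y)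
        exact this
      have hcd : d * c = c * d := (hdP c (hLP hc.1)).symm
      haveI := hCN c hc1
      have hyN : y ∈ Subgroup.centralizer ({c} : Set C) :=
        Subgroup.mem_centralizer_singleton_iff.mpr hcy
      have hdN : d ∈ Subgroup.centralizer ({c} : Set C) :=
        Subgroup.mem_centralizer_singleton_iff.mpr hcd
      have := commute_of_nilpotent (N := Subgroup.centralizer ({c} : Set C)) hqp
        ⟨y, hyN⟩ ⟨d, hdN⟩
        (by obtain ⟨k, hk⟩ := hyq; exact ⟨k, Subtype.ext (by simpa using hk)⟩)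
        (by obtain ⟨k, hk⟩ := hdp; exact ⟨k, Subtype.ext (by simpa using hk)⟩)
      exact congrArg Subtype.val this
  have h1 := hCN d hd1
  rw [htop] at h1
  exact Group.nilpotent_of_mulEquiv (Subgroup.topEquiv (G := C))

theorem base {G : Type u} [Group G] [Finite G] (hCN : IsCNGroup G) {p : ℕ} [Fact p.Prime]
    (H : Subgroup G) [H.Normal] (hH : IsPGroup p H) : IsCNGroup (G ⧸ H) := by
  by_cases hbot : H = ⊥
  · subst hbot
    exact cn_of_injective (QuotientGroup.quotientBot (G := G)).toMonoidHom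
      (QuotientGroup.quotientBot (G := G)).injective hCN
  intro g hg
  obtain ⟨π, hπ⟩ : ∃ π : G →* G ⧸ H, π = QuotientGroup.mk' H := ⟨_, rfl⟩
  have hπs : Function.Surjective π := hπ ▸ QuotientGroup.mk'_surjective H
  have hker : π.ker = H := hπ ▸ QuotientGroup.ker_mk' H
  have hmemH : ∀ a : G, π a = 1 ↔ a ∈ H := fun a => by
    rw [hπ]; exact QuotientGroup.eq_one_iff a
  -- reduce to prime order
  have ho1 : orderOf g ≠ 1 := by rwa [Ne, orderOf_eq_one_iff]
  have ho0 : orderOf g ≠ 0 := (orderOf_pos g).ne'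
  obtain ⟨r, hr, hrdvd⟩ := Nat.exists_prime_and_dvd ho1
  haveI : Fact r.Prime := ⟨hr⟩
  obtain ⟨xb, hxb⟩ : ∃ xb : G ⧸ H, xb = g ^ (orderOf g / r) := ⟨_, rfl⟩
  have hxbo : orderOf xb = r := by rw [hxb]; exact orderOf_pow_orderOf_div ho0 hrdvd
  have hxb1 : xb ≠ 1 := by
    intro h
    rw [h, orderOf_one] at hxbo
    exact hr.one_lt.ne hxbo
  have hcent : Subgroup.centralizer ({g} : Set (G ⧸ H)) ≤ Subgroup.centralizer {xb} := by
    intro k hk
    rw [Subgroup.mem_centralizer_singleton_iff] at hk ⊢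
    rw [hxb]
    exact (Commute.pow_right (show Commute k g from hk) _).eq
  suffices hsuff : Group.IsNilpotent (Subgroup.centralizer ({xb} : Set (G ⧸ H))) from
    nilpotent_of_le hcent hsuff
  obtain ⟨x0, hx0⟩ := hπs xb
  have hcommH : ∀ g0 : G, π g0 ∈ Subgroup.centralizer ({xb} : Set (G ⧸ H)) →
      ∀ x1 : G, π x1 = xb → g0 * x1 * g0⁻¹ * x1⁻¹ ∈ H := by
    intro g0 hg0 x1 hx1
    rw [Subgroup.mem_centralizer_singleton_iff] at hg0
    rw [← hmemH, map_mul, map_mul, map_mul, map_inv, map_inv, hx1, hg0, mul_inv_cancel_right,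
      mul_inv_cancel]
  by_cases hrp : r = p
  · -- the p-case
    subst hrp
    obtain ⟨C, hC⟩ : ∃ C : Subgroup G, C = (Subgroup.centralizer ({xb} : Set (G ⧸ H))).comap π :=
      ⟨_, rfl⟩
    obtain ⟨L, hLdef⟩ : ∃ L : Subgroup G, L = (Subgroup.zpowers xb).comap π := ⟨_, rfl⟩
    have hzc : Subgroup.zpowers xb ≤ Subgroup.centralizer ({xb} : Set (G ⧸ H)) := by
      rw [Subgroup.zpowers_le, Subgroup.mem_centralizer_singleton_iff]
    have hLC : L ≤ C := by rw [hLdef, hC]; exact Subgroup.comap_mono hzc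
    have hCmem : ∀ c : G, c ∈ C → π c ∈ Subgroup.centralizer ({xb} : Set (G ⧸ H)) := by
      intro c hc
      rw [hC, Subgroup.mem_comap] at hc
      exact hc
    have hHL : H ≤ L := by
      intro h hh
      rw [hLdef, Subgroup.mem_comap, (hmemH h).mpr hh]
      exact Subgroup.one_mem _
    have hzp : IsPGroup r (Subgroup.zpowers xb) :=
      IsPGroup.of_card (n := 1) (by rw [Nat.card_zpowers, hxbo, pow_one])
    have hLp : IsPGroup r L := by
      rw [hLdef]
      exact hzp.comap_of_ker_isPGroup π (hker.symm ▸ hH)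
    have hx0L : x0 ∈ L := by
      rw [hLdef, Subgroup.mem_comap, hx0]; exact Subgroup.mem_zpowers xb
    have hx0H : x0 ∉ H := by
      intro h
      rw [← hmemH, hx0] at h
      exact hxb1 h
    have key : ∀ c ∈ C, ∀ l ∈ L, c * l * c⁻¹ ∈ L := by
      intro c hc l hl
      rw [hLdef, Subgroup.mem_comap] at hl ⊢
      rw [hC, Subgroup.mem_comap] at hc
      have h1 : π c * π l = π l * π c := by
        obtain ⟨j, hj⟩ := Subgroup.mem_zpowers_iff.mp hl
        rw [← hj]
        rw [Subgroup.mem_centralizer_singleton_iff] at hc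
        exact (Commute.zpow_right (show Commute (π c) xb from hc) j).eq
      rw [map_mul, map_mul, map_inv, h1, mul_inv_cancel_right]
      exact hl
    have hCL : C ≤ Subgroup.normalizer (L : Set G) := by
      intro c hc
      rw [Subgroup.mem_normalizer_iff]
      intro l
      constructor
      · exact key c hc l
      · intro h
        have := key c⁻¹ (C.inv_mem hc) _ h
        simpa [mul_assoc] using this
    haveI : (L.subgroupOf C).Normal := (Subgroup.normal_subgroupOf_iff_le_normalizer hLC).mpr hCL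
    have hHC : H ≤ C := hHL.trans hLC
    have hne : H.subgroupOf C ≠ ⊥ := by
      rw [Ne, Subgroup.subgroupOf_eq_bot, disjoint_iff, inf_eq_left.mpr hHC]
      exact hbot
    have hCNC : IsCNGroup C := cn_of_injective C.subtype C.subtype_injective hCN
    have hnilC : Group.IsNilpotent C := by
      apply lemmaX hCNC (H.subgroupOf C) (L.subgroupOf C) (p := r)
        (fun z hz => hHL hz) hLp.comap_subtype hne ⟨x0, hLC hx0L⟩
      · exact Subgroup.mem_subgroupOf.mpr hx0L
      · intro h; exact hx0H (Subgroup.mem_subgroupOf.mp h)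
      · intro c
        rw [Subgroup.mem_subgroupOf]
        exact hcommH c (hCmem c c.2) x0 hx0
    haveI := hnilC
    have h1 : Group.IsNilpotent (C.map π) :=
      Group.nilpotent_of_surjective (π.subgroupMap C) (π.subgroupMap_surjective C)
    rw [hC, Subgroup.map_comap_eq_self_of_surjective hπs] at h1
    exact h1
  · -- the coprime case
    obtain ⟨a, ha⟩ := (IsPGroup.iff_card.mp hH)
    have hcopNr : (Nat.card H).Coprime r := by
      rw [ha]
      exact Nat.Coprime.pow_left _ ((Nat.coprime_primes Fact.out hr).mpr (Ne.symm hrp))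
    obtain ⟨t, -, ht⟩ := Nat.exists_mul_mod_eq_one_of_coprime hcopNr hr.one_lt
    obtain ⟨x, hxdef⟩ : ∃ x : G, x = x0 ^ (Nat.card H * t) := ⟨_, rfl⟩
    have hx0r : x0 ^ r ∈ H := by
      rw [← hmemH, map_pow, hx0, ← hxbo, pow_orderOf_eq_one]
    have hxr : x ^ r = 1 := by
      have h1 : (x0 ^ r) ^ Nat.card H = 1 := by
        have := pow_card_eq_one' (G := H) (x := ⟨x0 ^ r, hx0r⟩)
        simpa only [Subgroup.coe_pow, Subgroup.coe_one] using congrArg Subtype.val this
      rw [hxdef, ← pow_mul, mul_comm (Nat.card H * t) r, ← mul_assoc, pow_mul, pow_mul, h1, one_pow]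
    have hπx : π x = xb := by
      rw [hxdef, map_pow, hx0, ← pow_mod_orderOf, hxbo, ht, pow_one]
    have hx1 : x ≠ 1 := by
      intro h
      rw [h, map_one] at hπx
      exact hxb1 hπx.symm
    have hcardA : Nat.card (Subgroup.zpowers x) ∣ r := by
      rw [Nat.card_zpowers]; exact orderOf_dvd_of_pow_eq_one hxr
    have hcop : (Nat.card H).Coprime (Nat.card (Subgroup.zpowers x)) :=
      Nat.Coprime.coprime_dvd_right hcardA hcopNr
    have hdisj : H ⊓ Subgroup.zpowers x = ⊥ := (Subgroup.disjoint_of_coprime_natCard hcop).eq_bot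
    haveI : Group.IsNilpotent H := hH.isNilpotent
    have hle : Subgroup.centralizer ({xb} : Set (G ⧸ H)) ≤
        (Subgroup.centralizer ({x} : Set G)).map π := by
      intro k hk
      obtain ⟨g0, rfl⟩ := hπs k
      have h1 : g0 * x * g0⁻¹ * x⁻¹ ∈ H := hcommH g0 hk x hπx
      have hk' : π g0⁻¹ ∈ Subgroup.centralizer ({xb} : Set (G ⧸ H)) := by
        rw [map_inv]; exact Subgroup.inv_mem _ hk
      have h2 : g0⁻¹ * x * g0 * x⁻¹ ∈ H := by simpa using hcommH g0⁻¹ hk' x hπx
      have hB : Subgroup.zpowers (g0⁻¹ * x * g0) ≤ H ⊔ Subgroup.zpowers x := by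
        rw [Subgroup.zpowers_le]
        have : g0⁻¹ * x * g0 = (g0⁻¹ * x * g0 * x⁻¹) * x := by group
        rw [this]
        exact Subgroup.mul_mem_sup h2 (Subgroup.mem_zpowers x)
      have hcard : Nat.card (Subgroup.zpowers (g0⁻¹ * x * g0)) = Nat.card (Subgroup.zpowers x) := by
        rw [Nat.card_zpowers, Nat.card_zpowers]
        have : g0⁻¹ * x * g0 = MulAut.conj g0⁻¹ x := by simp [MulAut.conj_apply]
        rw [this, MulEquiv.orderOf_eq]
      obtain ⟨n, hnH, hn⟩ := Cfsg.Agent.Lib.Helper13.rel_sz_conj H (Subgroup.zpowers x)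
        (Subgroup.zpowers (g0⁻¹ * x * g0))
        (by rw [Subgroup.normalizer_eq_top H]; exact le_top) hB hcard hcop (Or.inl inferInstance)
      have hmem : n * x * n⁻¹ ∈ Subgroup.zpowers (g0⁻¹ * x * g0) := by
        have := Subgroup.smul_mem_pointwise_smul x (MulAut.conj n) (Subgroup.zpowers x)
          (Subgroup.mem_zpowers x)
        rw [hn, MulAut.smul_def, MulAut.conj_apply] at this
        exact this
      obtain ⟨j, hj⟩ := Subgroup.mem_zpowers_iff.mp hmem
      have e : (g0⁻¹ * x * g0) ^ j = g0⁻¹ * x ^ j * g0 := by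
        have := conj_zpow (a := g0⁻¹) (b := x) (i := j)
        simpa using this
      have hcx : (g0 * n) * x * (g0 * n)⁻¹ = x ^ j := by
        calc (g0 * n) * x * (g0 * n)⁻¹ = g0 * (n * x * n⁻¹) * g0⁻¹ := by group
          _ = g0 * (g0⁻¹ * x ^ j * g0) * g0⁻¹ := by rw [← hj, e]
          _ = x ^ j := by group
      have hπc : π (g0 * n) = π g0 := by rw [map_mul, (hmemH n).mpr hnH, mul_one]
      have hu1 : (g0 * n) * x * (g0 * n)⁻¹ * x⁻¹ ∈ H :=
        hcommH (g0 * n) (by rw [hπc]; exact hk) x hπx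
      have hu2 : (g0 * n) * x * (g0 * n)⁻¹ * x⁻¹ ∈ Subgroup.zpowers x := by
        rw [hcx]
        exact Subgroup.mul_mem _ (Subgroup.zpow_mem _ (Subgroup.mem_zpowers x) j)
          (Subgroup.inv_mem _ (Subgroup.mem_zpowers x))
      have hu : (g0 * n) * x * (g0 * n)⁻¹ * x⁻¹ = 1 := by
        have : (g0 * n) * x * (g0 * n)⁻¹ * x⁻¹ ∈ H ⊓ Subgroup.zpowers x := ⟨hu1, hu2⟩
        rwa [hdisj, Subgroup.mem_bot] at this
      refine ⟨g0 * n, ?_, hπc⟩
      show g0 * n ∈ Subgroup.centralizer ({x} : Set G)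
      rw [Subgroup.mem_centralizer_singleton_iff]
      rw [mul_inv_eq_one, mul_inv_eq_iff_eq_mul] at hu
      exact hu
    haveI := hCN x hx1
    have h1 : Group.IsNilpotent ((Subgroup.centralizer ({x} : Set G)).map π) :=
      Group.nilpotent_of_surjective (π.subgroupMap _) (π.subgroupMap_surjective _)
    exact nilpotent_of_le hle h1

/-- Elements of order dividing `p` in an abelian subgroup. -/
def omegaSub {G : Type*} [Group G] (H : Subgroup G)
    (hcomm : ∀ a ∈ H, ∀ b ∈ H, a * b = b * a) (p : ℕ) : Subgroup G where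
  carrier := {h | h ∈ H ∧ h ^ p = 1}
  one_mem' := ⟨H.one_mem, one_pow p⟩
  mul_mem' := by
    rintro a b ⟨ha, hap⟩ ⟨hb, hbp⟩
    exact ⟨H.mul_mem ha hb, by
      rw [(show Commute a b from hcomm a ha b hb).mul_pow, hap, hbp, one_mul]⟩
  inv_mem' := by
    rintro a ⟨ha, hap⟩
    exact ⟨H.inv_mem ha, by rw [inv_pow, hap, inv_one]⟩

theorem mem_omegaSub {G : Type*} [Group G] (H : Subgroup G)
    (hcomm : ∀ a ∈ H, ∀ b ∈ H, a * b = b * a) (p : ℕ) (h : G) :
    h ∈ omegaSub H hcomm p ↔ h ∈ H ∧ h ^ p = 1 := Iff.rfl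

theorem general (n : ℕ) : ∀ (G : Type u) [Group G] [Finite G], IsCNGroup G →
    ∀ (H : Subgroup G) [H.Normal], Group.IsSolvable H → Nat.card H = n →
    IsCNGroup (G ⧸ H) := by
  induction n using Nat.strong_induction_on with
  | _ n ih =>
    intro G _ _ hCN H hHn hsolv hcard
    by_cases hbot : H = ⊥
    · haveI : Fact (Nat.Prime 2) := ⟨Nat.prime_two⟩
      exact base hCN (p := 2) H (hbot ▸ IsPGroup.of_bot)
    obtain ⟨A, hAn, hAbot, hAH, hAcn⟩ : ∃ A : Subgroup G, ∃ _ : A.Normal, A ≠ ⊥ ∧ A ≤ H ∧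
        IsCNGroup (G ⧸ A) := by
      by_cases hD : ⁅H, H⁆ = ⊥
      · have hcomm : ∀ a ∈ H, ∀ b ∈ H, a * b = b * a := by
          intro a ha b hb
          have := Subgroup.commutator_mem_commutator ha hb
          rw [hD, Subgroup.mem_bot, commutatorElement_eq_one_iff_mul_comm] at this
          exact this
        have hc1 : Nat.card H ≠ 1 := by
          intro h; exact hbot (Subgroup.card_eq_one.mp h)
        obtain ⟨p, hp, hpdvd⟩ := Nat.exists_prime_and_dvd hc1
        haveI : Fact p.Prime := ⟨hp⟩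
        have hAn : (omegaSub H hcomm p).Normal := by
          constructor
          intro a ha g
          rw [mem_omegaSub] at ha ⊢
          exact ⟨hHn.conj_mem a ha.1 g, by rw [conj_pow, ha.2, mul_one, mul_inv_cancel]⟩
        refine ⟨omegaSub H hcomm p, hAn, ?_, fun a ha => ha.1, ?_⟩
        · obtain ⟨x, hx⟩ := exists_prime_orderOf_dvd_card' (G := H) p hpdvd
          intro h
          have hxm : (x : G) ∈ omegaSub H hcomm p := by
            rw [mem_omegaSub]
            refine ⟨x.2, ?_⟩
            have := pow_orderOf_eq_one x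
            rw [hx] at this
            simpa only [Subgroup.coe_pow, Subgroup.coe_one] using congrArg Subtype.val this
          rw [h, Subgroup.mem_bot] at hxm
          have hx1 : x = 1 := Subtype.ext hxm
          rw [hx1, orderOf_one] at hx
          exact hp.one_lt.ne hx
        · apply base hCN (p := p)
          intro a
          refine ⟨1, Subtype.ext ?_⟩
          rw [pow_one]
          simpa only [Subgroup.coe_pow, Subgroup.coe_one] using a.2.2
      · have hlt : ⁅H, H⁆ < H := Cfsg.Agent.Lib.Helper13.commutator_lt_of_isSolvable hsolv hbot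
        have hAn : (⁅H, H⁆).Normal := inferInstance
        refine ⟨⁅H, H⁆, hAn, hD, hlt.le, ?_⟩
        exact ih _ (hcard ▸ Cfsg.Agent.Lib.Helper13.card_lt_of_lt hlt) G hCN ⁅H, H⁆
          (Cfsg.Agent.Lib.Helper13.isSolvable_of_le hlt.le hsolv) rfl
    have hπs : Function.Surjective (QuotientGroup.mk' A) := QuotientGroup.mk'_surjective A
    haveI : (H.map (QuotientGroup.mk' A)).Normal := hHn.map _ hπs
    have hsolvb : Group.IsSolvable (H.map (QuotientGroup.mk' A)) :=
      haveI := hsolv
      Group.isSolvable_of_surjective ((QuotientGroup.mk' A).subgroupMap_surjective H)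
    have hcardb : Nat.card (H.map (QuotientGroup.mk' A)) < n := by
      have h1 := Cfsg.Agent.Lib.Helper3.card_comap_mk'_eq A (H.map (QuotientGroup.mk' A))
      rw [Subgroup.comap_map_eq_self (by rw [QuotientGroup.ker_mk']; exact hAH), hcard] at h1
      have hA2 : 2 ≤ Nat.card A := by
        have h0 : Nat.card A ≠ 1 := fun h => hAbot (Subgroup.card_eq_one.mp h)
        have := Nat.card_pos (α := A)
        omega
      have hpos : 0 < Nat.card (H.map (QuotientGroup.mk' A)) := Nat.card_pos
      rw [h1]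
      nlinarith
    have h3 := ih _ hcardb (G ⧸ A) hAcn (H.map (QuotientGroup.mk' A)) hsolvb rfl
    let e := QuotientGroup.quotientQuotientEquivQuotient A H hAH
    exact cn_of_injective e.symm.toMonoidHom e.symm.injective h3

/-- Let G be a finite group in which the centralizer of every non-identity element is nilpotent, and H a solvable normal subgroup of G. Then in G/H the centralizer of every non-identity element is nilpotent. -/
theorem result {G : Type*} [Group G] [Finite G] (hCN : Cfsg.IsCNGroup G) (H : Subgroup G) [H.Normal] (hH : Group.IsSolvable H) :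
    Cfsg.IsCNGroup (G ⧸ H) :=
  general _ G hCN H hH rfl

end Cfsg.Agent.S1473
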