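import Cfsg.Statements.S1474
import Mathlib
import Cfsg.Agent.S1473
import Cfsg.Agent.S0069
import Cfsg.Agent.Lib.Helper6.FittingHall

set_option autoImplicit false
open Cfsg

namespace Cfsg.Agent.S1474

open scoped Pointwise
open Cfsg.Agent.S1473 (commute_of_nilpotent nilpotent_of_le isPGroup_zpowers)

universe u

theorem exists_central {G : Type*} [Group G] [Finite G] {q : ℕ} [Fact q.Prime] (Q : Subgroup G)
    (hQ : IsPGroup q Q) (x : G) (hxQ : x ∈ Q) (hx1 : x ≠ 1) :
    ∃ z ∈ Q, z ≠ 1 ∧ ∀ u ∈ Q, u * z = z * u := by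
  haveI : Nontrivial Q := ⟨⟨⟨x, hxQ⟩, 1, fun h' => hx1 (congrArg Subtype.val h')⟩⟩
  haveI := hQ.center_nontrivial
  obtain ⟨c, hc⟩ := exists_ne (1 : Subgroup.center Q)
  refine ⟨((c : Q) : G), (c : Q).2, ?_, ?_⟩
  · intro h
    apply hc
    apply Subtype.ext
    apply Subtype.ext
    exact h
  · intro u hu
    have := Subgroup.mem_center_iff.mp c.2 ⟨u, hu⟩
    exact congrArg Subtype.val this

theorem lemmaD {G : Type u} [Group G] [Finite G] (hCN : IsCNGroup G) (H : Subgroup G)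
    [hHn : H.Normal] (hHnil : Group.IsNilpotent H)
    (hmax : ∀ T : Subgroup G, T.Normal → Group.IsNilpotent T → (Nat.card T).Coprime T.index → T ≤ H)
    {s q : ℕ} [Fact s.Prime] [Fact q.Prime] (hs : ¬ s ∣ Nat.card H) (e h : G)
    (he : orderOf e = s) (hh : orderOf h = q) (hhH : h ∈ H) (hcomm : e * h = h * e) : False := by
  have hsq : s ≠ q := by
    intro heq
    apply hs
    rw [heq, ← hh]
    have := orderOf_dvd_natCard (⟨h, hhH⟩ : H)
    rwa [Subgroup.orderOf_mk] at this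
  have he1 : e ≠ 1 := by
    intro h1
    rw [h1, orderOf_one] at he
    exact (Fact.out : s.Prime).one_lt.ne he
  have hh1 : h ≠ 1 := by
    intro h1
    rw [h1, orderOf_one] at hh
    exact (Fact.out : q.Prime).one_lt.ne hh
  have hes : ∃ k : ℕ, e ^ (s ^ k) = 1 := ⟨1, by rw [pow_one, ← he, pow_orderOf_eq_one]⟩
  have hhq : h ^ q = 1 := by rw [← hh, pow_orderOf_eq_one]
  have hhq' : ∃ k : ℕ, (⟨h, hhH⟩ : H) ^ (q ^ k) = 1 :=
    ⟨1, Subtype.ext (by simpa using hhq)⟩
  obtain ⟨Q', hQ'⟩ := (isPGroup_zpowers (⟨h, hhH⟩ : H) hhq').exists_le_sylow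
  have hsyl := ((Group.isNilpotent_of_finite_tfae (G := H)).out 0 3).mp hHnil
  haveI hQ'n : (Q' : Subgroup H).Normal := hsyl q ‹_› Q'
  haveI : (Q' : Subgroup H).Characteristic := Q'.characteristic_of_normal hQ'n
  obtain ⟨Q, hQdef⟩ : ∃ Q : Subgroup G, Q = (Q' : Subgroup H).map H.subtype := ⟨_, rfl⟩
  haveI hQn : Q.Normal := hQdef ▸ ConjAct.normal_of_characteristic_of_normal
  have hQq : IsPGroup q Q := hQdef ▸ Q'.isPGroup'.map _
  have hhQ : h ∈ Q := by
    rw [hQdef]
    exact ⟨⟨h, hhH⟩, hQ' (Subgroup.mem_zpowers _), rfl⟩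
  have hQel : ∀ u ∈ Q, ∃ k : ℕ, u ^ (q ^ k) = 1 := fun u hu => by
    obtain ⟨k, hk⟩ := hQq ⟨u, hu⟩
    exact ⟨k, by simpa only [Subgroup.coe_pow, Subgroup.coe_one] using congrArg Subtype.val hk⟩
  obtain ⟨z, hzQ, hz1, hzc⟩ := exists_central Q hQq h hhQ hh1
  have key : ∀ w : G, w ≠ 1 → ∀ a b : G, a * w = w * a → b * w = w * b →
      (∃ k : ℕ, a ^ (s ^ k) = 1) → (∃ k : ℕ, b ^ (q ^ k) = 1) → a * b = b * a := by
    intro w hw a b haw hbw ha hb
    haveI := hCN w hw
    have := commute_of_nilpotent (N := Subgroup.centralizer ({w} : Set G)) hsq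
      ⟨a, Subgroup.mem_centralizer_singleton_iff.mpr haw⟩
      ⟨b, Subgroup.mem_centralizer_singleton_iff.mpr hbw⟩
      (by obtain ⟨k, hk⟩ := ha; exact ⟨k, Subtype.ext (by simpa using hk)⟩)
      (by obtain ⟨k, hk⟩ := hb; exact ⟨k, Subtype.ext (by simpa using hk)⟩)
    exact congrArg Subtype.val this
  have hez : e * z = z * e := key h hh1 e z hcomm (hzc h hhQ).symm hes (hQel z hzQ)
  have h4 : ∀ u ∈ Q, e * u = u * e := fun u hu =>
    key z hz1 e u hez (hzc u hu) hes (hQel u hu)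
  obtain ⟨T, hT⟩ := (isPGroup_zpowers e hes).exists_le_sylow
  have heT : e ∈ T := hT (Subgroup.mem_zpowers e)
  have hTel : ∀ y ∈ T, ∃ k : ℕ, y ^ (s ^ k) = 1 := fun y hy => by
    obtain ⟨k, hk⟩ := T.isPGroup' ⟨y, hy⟩
    exact ⟨k, by simpa only [Subgroup.coe_pow, Subgroup.coe_one] using congrArg Subtype.val hk⟩
  obtain ⟨t, htT, ht1, htc⟩ := exists_central (T : Subgroup G) T.isPGroup' e heT he1
  have h6 : ∀ u ∈ Q, t * u = u * t := fun u hu =>
    key e he1 t u (htc e heT).symm (h4 u hu).symm (hTel t htT) (hQel u hu)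
  have h7 : ∀ y ∈ T, ∀ u ∈ Q, y * u = u * y := fun y hy u hu =>
    key t ht1 y u (htc y hy) (h6 u hu).symm (hTel y hy) (hQel u hu)
  -- N = C_G(Q)
  have hTN : (T : Subgroup G) ≤ Subgroup.centralizer (Q : Set G) := by
    intro y hy
    rw [Subgroup.mem_centralizer_iff]
    intro u hu
    exact (h7 y hy u hu).symm
  have hNz : Subgroup.centralizer (Q : Set G) ≤ Subgroup.centralizer ({z} : Set G) :=
    Subgroup.centralizer_le (Set.singleton_subset_iff.mpr hzQ)
  have hNnil : Group.IsNilpotent (Subgroup.centralizer (Q : Set G)) :=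
    nilpotent_of_le hNz (hCN z hz1)
  have hNn : (Subgroup.centralizer (Q : Set G)).Normal := inferInstance
  obtain ⟨R, hR⟩ := (T.isPGroup'.comap_subtype
    (K := Subgroup.centralizer (Q : Set G))).exists_le_sylow
  have hsylN := ((Group.isNilpotent_of_finite_tfae
    (G := Subgroup.centralizer (Q : Set G))).out 0 3).mp hNnil
  haveI hRn : (R : Subgroup (Subgroup.centralizer (Q : Set G))).Normal := hsylN s ‹_› R
  haveI : (R : Subgroup (Subgroup.centralizer (Q : Set G))).Characteristic :=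
    R.characteristic_of_normal hRn
  have hRmn : ((R : Subgroup (Subgroup.centralizer (Q : Set G))).map
      (Subgroup.centralizer (Q : Set G)).subtype).Normal :=
    ConjAct.normal_of_characteristic_of_normal
  have hRmp : IsPGroup s ((R : Subgroup (Subgroup.centralizer (Q : Set G))).map
      (Subgroup.centralizer (Q : Set G)).subtype) := R.isPGroup'.map _
  have hTR : (T : Subgroup G) ≤ (R : Subgroup (Subgroup.centralizer (Q : Set G))).map
      (Subgroup.centralizer (Q : Set G)).subtype := by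
    intro y hy
    exact ⟨⟨y, hTN hy⟩, hR (show (⟨y, hTN hy⟩ : Subgroup.centralizer (Q : Set G)) ∈
      (T : Subgroup G).comap (Subgroup.centralizer (Q : Set G)).subtype from hy), rfl⟩
  have hTeq := T.is_maximal' hRmp hTR
  have hTn : (T : Subgroup G).Normal := hTeq ▸ hRmn
  have hTH : (T : Subgroup G) ≤ H := hmax T hTn T.isPGroup'.isNilpotent T.card_coprime_index
  apply hs
  rw [← he]
  have := orderOf_dvd_natCard (⟨e, hTH heT⟩ : H)
  rwa [Subgroup.orderOf_mk] at this

theorem main' {G : Type u} [Group G] [Finite G] (hCN : Cfsg.IsCNGroup G) (hnn : ¬ Group.IsNilpotent G)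
    (H : Subgroup G) [hHn : H.Normal] (hHbot : H ≠ ⊥)
    (hHnil : Group.IsNilpotent H) (hHall : (Nat.card H).Coprime H.index)
    (hmax : ∀ T : Subgroup G, T.Normal → Group.IsNilpotent T → (Nat.card T).Coprime T.index → T ≤ H) :
    H ≠ ⊤ ∧
      ∃ E : Subgroup G, Subgroup.IsComplement' H E ∧ Cfsg.IsFrobeniusComplement E ∧
        (∀ e ∈ E, e ≠ 1 → H ⊓ Subgroup.centralizer ({e} : Set G) = ⊥) ∧
      Group.IsNilpotent E ∧ Group.IsNilpotent (G ⧸ H) := by
  have hHtop : H ≠ ⊤ := by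
    intro h
    apply hnn
    rw [h] at hHnil
    haveI := hHnil
    exact Group.nilpotent_of_mulEquiv (Subgroup.topEquiv (G := G))
  obtain ⟨E, hE⟩ := Subgroup.exists_right_complement'_of_coprime hHall
  have hcardE : H.index = Nat.card E := hE.symm.index_eq_card
  have hfpf : ∀ e ∈ E, e ≠ 1 → H ⊓ Subgroup.centralizer ({e} : Set G) = ⊥ := by
    intro e heE he1
    rw [eq_bot_iff]
    rintro h ⟨hhH, hhc⟩
    rw [Subgroup.mem_bot]
    by_contra hh1
    have hoe : orderOf e ≠ 1 := by rwa [Ne, orderOf_eq_one_iff]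
    have hoh : orderOf h ≠ 1 := by rwa [Ne, orderOf_eq_one_iff]
    obtain ⟨s, hs, hsd⟩ := Nat.exists_prime_and_dvd hoe
    obtain ⟨q, hq, hqd⟩ := Nat.exists_prime_and_dvd hoh
    haveI : Fact s.Prime := ⟨hs⟩
    haveI : Fact q.Prime := ⟨hq⟩
    have hs' : ¬ s ∣ Nat.card H := by
      intro hdvd
      have h1 : s ∣ Nat.card E := by
        have := orderOf_dvd_natCard (⟨e, heE⟩ : E)
        rw [Subgroup.orderOf_mk] at this
        exact hsd.trans this
      rw [← hcardE] at h1
      exact hs.one_lt.ne' (Nat.eq_one_of_dvd_coprimes hHall hdvd h1)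
    have hc : Commute e h := by
      have := Subgroup.mem_centralizer_singleton_iff.mp hhc
      exact this.symm
    exact lemmaD hCN H hHnil hmax hs' (e ^ (orderOf e / s)) (h ^ (orderOf h / q))
      (orderOf_pow_orderOf_div (orderOf_pos e).ne' hsd)
      (orderOf_pow_orderOf_div (orderOf_pos h).ne' hqd) (H.pow_mem hhH _)
      (hc.pow_pow _ _).eq
  have hdisj : H ⊓ E = ⊥ := hE.disjoint.eq_bot
  have hEbot : E ≠ ⊥ := by
    intro h
    apply hHtop
    have := hE.sup_eq_top
    rwa [h, sup_bot_eq] at this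
  have hEtop : E ≠ ⊤ := by
    intro h
    apply hHbot
    rwa [h, inf_top_eq] at hdisj
  have hdecomp : ∀ g : G, ∃ h ∈ H, ∃ e1 ∈ E, g = h * e1 := by
    intro g
    have hg' : g ∈ ((H ⊔ E : Subgroup G) : Set G) := by rw [hE.sup_eq_top]; trivial
    rw [Subgroup.normal_mul, Set.mem_mul] at hg'
    obtain ⟨h, hhH, e1, he1, rfl⟩ := hg'
    exact ⟨h, hhH, e1, he1, rfl⟩
  have hEnil : Group.IsNilpotent E := by
    have hZ := Cfsg.Agent.S0069.result H E hE hHbot hEbot hfpf
    obtain ⟨⟨z, hz⟩, hz1⟩ := (Subgroup.ne_bot_iff_exists_ne_one).mp hZ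
    have hEle : E ≤ Subgroup.centralizer ({(z : G)} : Set G) := by
      intro y hy
      rw [Subgroup.mem_centralizer_singleton_iff]
      have := Subgroup.mem_center_iff.mp hz ⟨y, hy⟩
      exact congrArg Subtype.val this
    have hzne : (z : G) ≠ 1 := fun h => hz1 (Subtype.ext (Subtype.ext h))
    exact nilpotent_of_le hEle (hCN z hzne)
  haveI := hEnil
  refine ⟨hHtop, E, hE, ⟨hEbot, hEtop, ?_⟩, hfpf, hEnil, ?_⟩
  · intro g hg
    rw [eq_bot_iff]
    rintro x ⟨hxE, hxg⟩
    rw [Subgroup.mem_bot]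
    obtain ⟨h, hhH, e1, he1, rfl⟩ := hdecomp g
    have hxg2 : x ∈ MulAut.conj (h * e1) • E := hxg
    rw [Subgroup.mem_pointwise_smul_iff_inv_smul_mem] at hxg2
    have hxg' : (h * e1)⁻¹ * x * (h * e1) ∈ E := by
      simpa [MulAut.smul_def, mul_assoc] using hxg2
    have hy : h⁻¹ * x * h ∈ E := by
      have := E.mul_mem (E.mul_mem he1 hxg') (E.inv_mem he1)
      convert this using 1
      group
    have h1 : x⁻¹ * h⁻¹ * x * h ∈ H := by
      have := hHn.conj_mem h⁻¹ (H.inv_mem hhH) x⁻¹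
      have h2 := H.mul_mem this hhH
      simpa [mul_assoc] using h2
    have h2 : x⁻¹ * h⁻¹ * x * h ∈ E := by
      have := E.mul_mem (E.inv_mem hxE) hy
      convert this using 1
      group
    have h3 : x⁻¹ * h⁻¹ * x * h = 1 := by
      have : x⁻¹ * h⁻¹ * x * h ∈ H ⊓ E := ⟨h1, h2⟩
      rwa [hdisj, Subgroup.mem_bot] at this
    by_contra hx1
    have h4 : h ∈ H ⊓ Subgroup.centralizer ({x} : Set G) := by
      refine ⟨hhH, Subgroup.mem_centralizer_singleton_iff.mpr ?_⟩
      have : x * h = h * x := by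
        calc x * h = h * x * (x⁻¹ * h⁻¹ * x * h) := by group
          _ = h * x := by rw [h3, mul_one]
      exact this.symm
    rw [hfpf x hxE hx1, Subgroup.mem_bot] at h4
    apply hg
    rw [h4, one_mul]
    exact he1
  · have hsurj : Function.Surjective ((QuotientGroup.mk' H).comp E.subtype) := by
      intro x
      obtain ⟨g, rfl⟩ := QuotientGroup.mk'_surjective H x
      obtain ⟨h, hhH, e1, he1, rfl⟩ := hdecomp g
      refine ⟨⟨e1, he1⟩, ?_⟩
      simp only [MonoidHom.coe_comp, Subgroup.coe_subtype, Function.comp_apply, map_mul]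
      rw [show (QuotientGroup.mk' H) h = 1 from (QuotientGroup.eq_one_iff h).mpr hhH, one_mul]
    exact Group.nilpotent_of_surjective _ hsurj

theorem main {G : Type u} [Group G] [Finite G] (hCN : Cfsg.IsCNGroup G) (hnn : ¬ Group.IsNilpotent G) (p : ℕ) [Fact p.Prime] (P : Sylow p G)
    (hP1 : (P : Subgroup G) ≠ ⊥) (hPn : (P : Subgroup G).Normal) (H : Subgroup G) [hHn : H.Normal]
    (hHnil : Group.IsNilpotent H) (hHall : (Nat.card H).Coprime H.index)
    (hmax : ∀ T : Subgroup G, T.Normal → Group.IsNilpotent T → (Nat.card T).Coprime T.index → T ≤ H) :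
    H ≠ ⊥ ∧ H ≠ ⊤ ∧
      (∃ E : Subgroup G, Subgroup.IsComplement' H E ∧ Cfsg.IsFrobeniusComplement E ∧
        ∀ e ∈ E, e ≠ 1 → H ⊓ Subgroup.centralizer ({e} : Set G) = ⊥) ∧
      Group.IsNilpotent (G ⧸ H) := by
  have hPH : (P : Subgroup G) ≤ H := hmax P hPn P.isPGroup'.isNilpotent P.card_coprime_index
  have hHbot : H ≠ ⊥ := fun h => hP1 (le_bot_iff.mp (h ▸ hPH))
  obtain ⟨h1, E, h2, h3, h4, -, h6⟩ := main' hCN hnn H hHbot hHnil hHall hmax
  exact ⟨hHbot, h1, ⟨E, h2, h3, h4⟩, h6⟩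

/-- Let G be a finite group in which every non-identity element has nilpotent centralizer, not itself nilpotent, and having a nontrivial normal Sylow p-subgroup for some prime p. Let H be the largest normal nilpotent Hall subgroup of G. Then H is a nontrivial proper normal subgroup with a complement E that is a Frobenius complement in G (no non-identity element of E centralizes a non-identity element of H), and G/H is nilpotent. -/
theorem result {G : Type*} [Group G] [Finite G] (hCN : Cfsg.IsCNGroup G) (hnn : ¬ Group.IsNilpotent G) (p : ℕ) [Fact p.Prime] (P : Sylow p G)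
    (hP1 : (P : Subgroup G) ≠ ⊥) (hPn : (P : Subgroup G).Normal) :
    Cfsg.fittingHall G ≠ ⊥ ∧ Cfsg.fittingHall G ≠ ⊤ ∧
      (∃ E : Subgroup G, Subgroup.IsComplement' (Cfsg.fittingHall G) E ∧ Cfsg.IsFrobeniusComplement E ∧
        ∀ e ∈ E, e ≠ 1 → Cfsg.fittingHall G ⊓ Subgroup.centralizer ({e} : Set G) = ⊥) ∧
      Group.IsNilpotent (G ⧸ Cfsg.fittingHall G) := by
  exact main hCN hnn p P hP1 hPn (fittingHall G) Cfsg.Agent.Lib.Helper6.fittingHall_isNilpotent
    Cfsg.Agent.Lib.Helper6.fittingHall_coprime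
    (fun T h1 h2 h3 => Cfsg.Agent.Lib.Helper6.le_fittingHall h1 h2 h3)

end Cfsg.Agent.S1474
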