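import Cfsg.Statements.S1476
import Mathlib
import Cfsg.Agent.S1473
import Cfsg.Agent.S1474
import Cfsg.Agent.S0040
import Cfsg.Agent.S0068
import Cfsg.Agent.S0069
import Cfsg.Agent.S2777
import Cfsg.Agent.Lib.Helper6.FittingHall
import Cfsg.Agent.Lib.Helper20.Bender
import Cfsg.Agent.Lib.Helper13.Coprime
import Cfsg.Agent.Lib.Helper29.SylowSub
import Cfsg.Agent.Lib.Helper3.PSolvable

set_option autoImplicit false
open Cfsg

namespace Cfsg.Agent.S1476

open scoped Pointwise commutatorElement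
open Cfsg.Agent.S1473 (commute_of_nilpotent nilpotent_of_le isPGroup_zpowers inj_nilpotent)

universe u

theorem quaternion_card_even {P : Type*} [Group P] {n : ℕ} (e : P ≃* QuaternionGroup (2 ^ n)) :
    Nat.card P = 4 * 2 ^ n := by
  haveI : NeZero (2 ^ n) := ⟨pow_ne_zero _ two_ne_zero⟩
  rw [Nat.card_congr e.toEquiv, Nat.card_eq_fintype_card, QuaternionGroup.card]

/-- A finite nilpotent group whose Sylow subgroups are cyclic or generalized quaternion is
cyclic or (odd cyclic) × (quaternion). -/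
theorem lemmaNS {E : Type*} [Group E] [Finite E] [hnil : Group.IsNilpotent E]
    (hS : ∀ (p : ℕ) [Fact p.Prime] (P : Sylow p E),
      IsCyclic P ∨ ∃ n : ℕ, Nonempty (P ≃* QuaternionGroup (2 ^ n))) :
    IsCyclic E ∨ ∃ C Q : Subgroup E, C ⊔ Q = ⊤ ∧ (∀ a ∈ C, ∀ b ∈ Q, a * b = b * a) ∧
      IsCyclic C ∧ Odd (Nat.card C) ∧ ∃ n : ℕ, Nonempty (Q ≃* QuaternionGroup (2 ^ n)) := by
  have hsyl := ((Group.isNilpotent_of_finite_tfae (G := E)).out 0 3).mp hnil
  have hodd : ∀ (r : ℕ) [Fact r.Prime], r ≠ 2 → ∀ P : Sylow r E, IsCyclic P := by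
    intro r _ hr2 P
    rcases hS r P with h | ⟨n, ⟨e⟩⟩
    · exact h
    · exfalso
      have hc := quaternion_card_even e
      obtain ⟨k, hk⟩ := IsPGroup.iff_card.mp P.isPGroup'
      have h2 : 2 ∣ r ^ k := by
        rw [← hk, hc]
        exact ⟨2 * 2 ^ n, by ring⟩
      have h3 := Nat.Prime.dvd_of_dvd_pow Nat.prime_two h2
      exact hr2 ((Nat.prime_dvd_prime_iff_eq Nat.prime_two Fact.out).mp h3).symm
  by_cases h2 : ∀ P : Sylow 2 E, IsCyclic P
  · left
    haveI : IsZGroup E := ⟨fun p hp P => by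
      haveI : Fact p.Prime := ⟨hp⟩
      by_cases hp2 : p = 2
      · subst hp2
        exact h2 P
      · exact hodd p hp2 P⟩
    infer_instance
  · right
    push Not at h2
    obtain ⟨P0, hP0⟩ := h2
    haveI : Fact (Nat.Prime 2) := ⟨Nat.prime_two⟩
    obtain ⟨n, hn⟩ : ∃ n : ℕ, Nonempty (P0 ≃* QuaternionGroup (2 ^ n)) := by
      rcases hS 2 P0 with h | h
      · exact absurd h hP0
      · exact h
    have hCn : (pPrimeCore 2 E).Normal := Cfsg.Agent.Lib.Helper2.pPrimeCore_normal 2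
    have hCcop : (Nat.card (pPrimeCore 2 E)).Coprime 2 := Cfsg.Agent.Lib.Helper2.pPrimeCore_coprime 2
    haveI hQn : (P0 : Subgroup E).Normal := hsyl 2 ‹_› P0
    refine ⟨pPrimeCore 2 E, P0, ?_, ?_, ?_, ?_, n, hn⟩
    · apply Subgroup.eq_top_of_le_card
      apply Nat.le_of_dvd Nat.card_pos
      rw [Nat.dvd_iff_prime_pow_dvd_dvd]
      intro q k hq hqk
      haveI : Fact q.Prime := ⟨hq⟩
      by_cases hq2 : q = 2
      · subst hq2
        exact (P0.pow_dvd_card_of_pow_dvd_card hqk).trans (Subgroup.card_dvd_of_le le_sup_right)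
      · obtain ⟨T⟩ : Nonempty (Sylow q E) := inferInstance
        have hTn : (T : Subgroup E).Normal := hsyl q ‹_› T
        have hTc : (Nat.card (T : Subgroup E)).Coprime 2 := by
          rw [T.card_eq_multiplicity]
          exact Nat.Coprime.pow_left _ ((Nat.coprime_primes hq Nat.prime_two).mpr hq2)
        have hle := Cfsg.Agent.Lib.Helper2.le_pPrimeCore hTn hTc
        exact (T.pow_dvd_card_of_pow_dvd_card hqk).trans
          (Subgroup.card_dvd_of_le (hle.trans le_sup_left))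
    · have hdisj : pPrimeCore 2 E ⊓ (P0 : Subgroup E) = ⊥ :=
        (Subgroup.disjoint_of_coprime_natCard (by
          rw [P0.card_eq_multiplicity]
          exact Nat.Coprime.pow_right _ hCcop)).eq_bot
      have hcomm : ⁅pPrimeCore 2 E, (P0 : Subgroup E)⁆ = ⊥ := by
        rw [eq_bot_iff, ← hdisj]
        exact le_inf (Subgroup.commutator_le_left _ _) (Subgroup.commutator_le_right _ _)
      intro a ha b hb
      have := Subgroup.commutator_mem_commutator ha hb
      rw [hcomm, Subgroup.mem_bot, commutatorElement_eq_one_iff_mul_comm] at this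
      exact this
    · haveI : IsZGroup (pPrimeCore 2 E) := ⟨fun r hr R => by
        haveI : Fact r.Prime := ⟨hr⟩
        by_cases hr2 : r = 2
        · subst hr2
          obtain ⟨k, hk⟩ := IsPGroup.iff_card.mp R.isPGroup'
          have hdvd : Nat.card (R : Subgroup (pPrimeCore 2 E)) ∣ Nat.card (pPrimeCore 2 E) :=
            Subgroup.card_subgroup_dvd_card _
          have h1 : Nat.card (R : Subgroup (pPrimeCore 2 E)) = 1 := by
            apply Nat.Coprime.eq_one_of_dvd _ hdvd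
            rw [hk]
            exact Nat.Coprime.pow_left _ hCcop.symm
          haveI : Subsingleton (R : Subgroup (pPrimeCore 2 E)) :=
            (Nat.card_eq_one_iff_unique.mp h1).1
          infer_instance
        · have hRp : IsPGroup r ((R : Subgroup (pPrimeCore 2 E)).map (pPrimeCore 2 E).subtype) :=
            R.isPGroup'.map _
          obtain ⟨T, hT⟩ := hRp.exists_le_sylow
          haveI : IsCyclic T := hodd r hr2 T
          let f : (R : Subgroup (pPrimeCore 2 E)) →* (T : Subgroup E) :=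
            { toFun := fun x => ⟨((x : pPrimeCore 2 E) : E), hT ⟨x.1, x.2, rfl⟩⟩
              map_one' := rfl
              map_mul' := fun _ _ => rfl }
          apply isCyclic_of_injective f
          intro x y hxy
          apply Subtype.ext
          apply Subtype.ext
          exact congrArg (fun z : (T : Subgroup E) => (z : E)) hxy⟩
      infer_instance
    · exact Nat.coprime_two_left.mp hCcop.symm

theorem frobCase {G : Type u} [Group G] [Finite G] (hCN : IsCNGroup G)
    (hnn : ¬ Group.IsNilpotent G) (hH : fittingHall G ≠ ⊥) :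
    ∃ K E : Subgroup G, K.Normal ∧ Subgroup.IsComplement' K E ∧ Cfsg.IsFrobeniusComplement E ∧
        (IsCyclic E ∨ ∃ C Q : Subgroup G, C ⊔ Q = E ∧ (∀ a ∈ C, ∀ b ∈ Q, a * b = b * a) ∧
          IsCyclic C ∧ Odd (Nat.card C) ∧
          ∃ n : ℕ, Nonempty (↥Q ≃* QuaternionGroup (2 ^ n))) := by
  obtain ⟨hHtop, E, hE, hFrob, hfpf, hEnil, -⟩ := Cfsg.Agent.S1474.main' hCN hnn (fittingHall G) hH
    Cfsg.Agent.Lib.Helper6.fittingHall_isNilpotent Cfsg.Agent.Lib.Helper6.fittingHall_coprime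
    (fun T h1 h2 h3 => Cfsg.Agent.Lib.Helper6.le_fittingHall h1 h2 h3)
  refine ⟨fittingHall G, E, inferInstance, hE, hFrob, ?_⟩
  haveI := hEnil
  have hS : ∀ (p : ℕ) [Fact p.Prime] (P : Sylow p E),
      IsCyclic P ∨ ∃ n : ℕ, Nonempty (P ≃* QuaternionGroup (2 ^ n)) :=
    fun p _ P => Cfsg.Agent.S0040.result (fittingHall G) E hE hH hfpf p P
  rcases lemmaNS hS with h | ⟨C, Q, hCQ, hcomm, hCc, hCo, n, ⟨e⟩⟩
  · left; exact h
  · right
    refine ⟨C.map E.subtype, Q.map E.subtype, ?_, ?_, ?_, ?_, n, ⟨?_⟩⟩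
    · rw [← Subgroup.map_sup, hCQ, ← MonoidHom.range_eq_map, Subgroup.range_subtype]
    · rintro _ ⟨a, ha, rfl⟩ _ ⟨b, hb, rfl⟩
      exact congrArg Subtype.val (hcomm a ha b hb)
    · haveI := hCc
      exact isCyclic_of_surjective (E.subtype.subgroupMap C) (E.subtype.subgroupMap_surjective C)
    · rw [Subgroup.card_map_of_injective E.subtype_injective]
      exact hCo
    · exact (Subgroup.equivMapOfInjective Q E.subtype E.subtype_injective).symm.trans e

/-- A Sylow subgroup contained in a normal nilpotent subgroup is normal. -/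
theorem normal_of_le_normal_nilpotent {G : Type*} [Group G] [Finite G] {s : ℕ} [Fact s.Prime]
    (T : Sylow s G) (N : Subgroup G) [hNn : N.Normal] (hNnil : Group.IsNilpotent N)
    (hTN : (T : Subgroup G) ≤ N) : (T : Subgroup G).Normal := by
  obtain ⟨R, hR⟩ := (T.isPGroup'.comap_subtype (K := N)).exists_le_sylow
  have hsylN := ((Group.isNilpotent_of_finite_tfae (G := N)).out 0 3).mp hNnil
  haveI hRn : (R : Subgroup N).Normal := hsylN s ‹_› R
  haveI : (R : Subgroup N).Characteristic := R.characteristic_of_normal hRn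
  have hRmn : ((R : Subgroup N).map N.subtype).Normal := ConjAct.normal_of_characteristic_of_normal
  have hRmp : IsPGroup s ((R : Subgroup N).map N.subtype) := R.isPGroup'.map _
  have hTR : (T : Subgroup G) ≤ (R : Subgroup N).map N.subtype := by
    intro y hy
    exact ⟨⟨y, hTN hy⟩, hR (show (⟨y, hTN hy⟩ : N) ∈ (T : Subgroup G).comap N.subtype from hy), rfl⟩
  have hTeq := T.is_maximal' hRmp hTR
  exact hTeq ▸ hRmn

theorem elt_pow_of_isPGroup {G : Type*} [Group G] {p : ℕ} (Q : Subgroup G) (hQ : IsPGroup p Q)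
    (u : G) (hu : u ∈ Q) : ∃ k : ℕ, u ^ (p ^ k) = 1 := by
  obtain ⟨k, hk⟩ := hQ ⟨u, hu⟩
  exact ⟨k, by simpa only [Subgroup.coe_pow, Subgroup.coe_one] using congrArg Subtype.val hk⟩

/-- In a CN-group, commuting with a common nontrivial element forces a `p`-element and a `q`-element
to commute. -/
theorem cn_key {G : Type*} [Group G] [Finite G] (hCN : IsCNGroup G) {s q : ℕ} [Fact s.Prime]
    [Fact q.Prime] (hsq : s ≠ q) (w : G) (hw : w ≠ 1) (a b : G) (haw : a * w = w * a)
    (hbw : b * w = w * b) (ha : ∃ k : ℕ, a ^ (s ^ k) = 1) (hb : ∃ k : ℕ, b ^ (q ^ k) = 1) :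
    a * b = b * a := by
  haveI := hCN w hw
  have := commute_of_nilpotent (N := Subgroup.centralizer ({w} : Set G)) hsq
    ⟨a, Subgroup.mem_centralizer_singleton_iff.mpr haw⟩
    ⟨b, Subgroup.mem_centralizer_singleton_iff.mpr hbw⟩
    (by obtain ⟨k, hk⟩ := ha; exact ⟨k, Subtype.ext (by simpa using hk)⟩)
    (by obtain ⟨k, hk⟩ := hb; exact ⟨k, Subtype.ext (by simpa using hk)⟩)
  exact congrArg Subtype.val this

/-- Step A: with no normal Sylow subgroups, at most one `O_q(G)` is nontrivial. -/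
theorem stepA {G : Type u} [Group G] [Finite G] (hCN : IsCNGroup G) (hFH : fittingHall G = ⊥)
    {p q : ℕ} [Fact p.Prime] [Fact q.Prime] (hpq : p ≠ q) (hp : pCore p G ≠ ⊥) :
    pCore q G = ⊥ := by
  by_contra hq
  obtain ⟨P⟩ : Nonempty (Sylow p G) := inferInstance
  have hHP : pCore p G ≤ P := Cfsg.Agent.Lib.Helper2.pCore_le_sylow p P
  haveI hHn : (pCore p G).Normal := Cfsg.Agent.Lib.Helper2.pCore_normal p
  haveI hQn : (pCore q G).Normal := Cfsg.Agent.Lib.Helper2.pCore_normal q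
  have hHp : IsPGroup p (pCore p G) := Cfsg.Agent.Lib.Helper2.pCore_isPGroup p
  have hQq : IsPGroup q (pCore q G) := Cfsg.Agent.Lib.Helper2.pCore_isPGroup q
  obtain ⟨z, hzH, hz1, hzP⟩ : ∃ z ∈ pCore p G, z ≠ 1 ∧ ∀ y ∈ (P : Subgroup G), y * z = z * y := by
    haveI : Group.IsNilpotent (P : Subgroup G) := P.isPGroup'.isNilpotent
    have hne : (pCore p G).subgroupOf (P : Subgroup G) ≠ ⊥ := by
      rw [Ne, Subgroup.subgroupOf_eq_bot, disjoint_iff, inf_eq_left.mpr hHP]
      exact hp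
    have h1 := Cfsg.Agent.Lib.Helper2.normal_inf_center_ne_bot
      ((pCore p G).subgroupOf (P : Subgroup G)) hne
    obtain ⟨⟨c, hc⟩, hc1⟩ := (Subgroup.ne_bot_iff_exists_ne_one).mp h1
    refine ⟨((c : (P : Subgroup G)) : G), Subgroup.mem_subgroupOf.mp hc.1, ?_, ?_⟩
    · intro h
      apply hc1
      apply Subtype.ext
      apply Subtype.ext
      exact h
    · intro y hy
      have := Subgroup.mem_center_iff.mp hc.2 ⟨y, hy⟩
      exact congrArg Subtype.val this
  have hdisj : pCore p G ⊓ pCore q G = ⊥ :=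
    (Subgroup.disjoint_of_coprime_natCard
      (IsPGroup.coprime_card_of_ne p q hpq _ _ hHp hQq)).eq_bot
  have hcomm : ∀ h ∈ pCore p G, ∀ u ∈ pCore q G, h * u = u * h := by
    have hc : ⁅pCore p G, pCore q G⁆ = ⊥ := by
      rw [eq_bot_iff, ← hdisj]
      exact le_inf (Subgroup.commutator_le_left _ _) (Subgroup.commutator_le_right _ _)
    intro h hh u hu
    have := Subgroup.commutator_mem_commutator hh hu
    rw [hc, Subgroup.mem_bot, commutatorElement_eq_one_iff_mul_comm] at this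
    exact this
  have hPQ : ∀ y ∈ (P : Subgroup G), ∀ u ∈ pCore q G, y * u = u * y := fun y hy u hu =>
    cn_key hCN hpq z hz1 y u (hzP y hy) (hcomm z hzH u hu).symm
      (elt_pow_of_isPGroup _ P.isPGroup' y hy) (elt_pow_of_isPGroup _ hQq u hu)
  obtain ⟨u0, hu0, hu01⟩ : ∃ u0 ∈ pCore q G, u0 ≠ 1 := by
    by_contra hall
    push Not at hall
    exact hq ((Subgroup.eq_bot_iff_forall _).mpr hall)
  have hPN : (P : Subgroup G) ≤ Subgroup.centralizer (pCore q G : Set G) := by
    intro y hy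
    rw [Subgroup.mem_centralizer_iff]
    intro u hu
    exact (hPQ y hy u hu).symm
  have hNnil : Group.IsNilpotent (Subgroup.centralizer (pCore q G : Set G)) :=
    nilpotent_of_le (Subgroup.centralizer_le (Set.singleton_subset_iff.mpr hu0)) (hCN u0 hu01)
  have hPn := normal_of_le_normal_nilpotent P (Subgroup.centralizer (pCore q G : Set G)) hNnil hPN
  have hPle := Cfsg.Agent.Lib.Helper6.le_fittingHall hPn P.isPGroup'.isNilpotent P.card_coprime_index
  rw [hFH] at hPle
  exact hp (le_bot_iff.mp (hHP.trans hPle))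

/-- Step B: every element of prime order `s ≠ p` acts fixed-point-freely on `H = O_p(G)` when
`C_G(H) ≤ H`. -/
theorem stepB {G : Type u} [Group G] [Finite G] (hCN : IsCNGroup G) {p : ℕ} [Fact p.Prime]
    (H : Subgroup G) (hHp : IsPGroup p H) (hCH : Subgroup.centralizer (H : Set G) ≤ H)
    (s : ℕ) (e w : G) (hs : s.Prime) (hsp : s ≠ p) (he : orderOf e = s) (hw : w ∈ H) (hw1 : w ≠ 1) :
    e * w ≠ w * e := by
  intro hcomm
  haveI : Fact s.Prime := ⟨hs⟩
  obtain ⟨z, hzH, hz1, hzc⟩ := Cfsg.Agent.S1474.exists_central H hHp w hw hw1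
  have hes : ∃ k : ℕ, e ^ (s ^ k) = 1 := ⟨1, by rw [pow_one, ← he, pow_orderOf_eq_one]⟩
  have hez : e * z = z * e :=
    cn_key hCN hsp w hw1 e z hcomm (hzc w hw).symm hes (elt_pow_of_isPGroup _ hHp z hzH)
  have heH : e ∈ Subgroup.centralizer (H : Set G) := by
    rw [Subgroup.mem_centralizer_iff]
    intro u hu
    exact (cn_key hCN hsp z hz1 e u hez (hzc u hu) hes (elt_pow_of_isPGroup _ hHp u hu)).symm
  obtain ⟨k, hk⟩ := elt_pow_of_isPGroup _ hHp e (hCH heH)
  have h1 : s ∣ p ^ k := he ▸ orderOf_dvd_of_pow_eq_one hk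
  have h2 := (Nat.prime_dvd_prime_iff_eq hs Fact.out).mp (hs.dvd_of_dvd_pow h1)
  exact hsp h2

theorem fpf_of_coprime {G : Type u} [Group G] [Finite G] {p : ℕ} [Fact p.Prime] (H : Subgroup G)
    (hB : ∀ (s : ℕ) (e w : G), s.Prime → s ≠ p → orderOf e = s → w ∈ H → w ≠ 1 → e * w ≠ w * e)
    (a : G) (ha1 : a ≠ 1) (hco : (orderOf a).Coprime p) :
    H ⊓ Subgroup.centralizer ({a} : Set G) = ⊥ := by
  rw [eq_bot_iff]
  rintro w ⟨hwH, hwc⟩
  rw [Subgroup.mem_bot]
  by_contra hw1
  have hoa : orderOf a ≠ 1 := by rwa [Ne, orderOf_eq_one_iff]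
  obtain ⟨s, hs, hsd⟩ := Nat.exists_prime_and_dvd hoa
  have hsp : s ≠ p := by
    intro h
    have : p ∣ orderOf a := h ▸ hsd
    exact (Fact.out : p.Prime).one_lt.ne' (Nat.eq_one_of_dvd_coprimes hco this dvd_rfl)
  have hc : Commute a w := by
    have := Subgroup.mem_centralizer_singleton_iff.mp hwc
    exact this.symm
  exact hB s (a ^ (orderOf a / s)) w hs hsp (orderOf_pow_orderOf_div (orderOf_pos a).ne' hsd)
    hwH hw1 (hc.pow_left _).eq

theorem pCore_quotient_eq_bot {G : Type*} [Group G] [Finite G] (p : ℕ) [Fact p.Prime]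
    [hn : (pCore p G).Normal] : pCore p (G ⧸ pCore p G) = ⊥ := by
  haveI hn2 : (pCore p (G ⧸ pCore p G)).Normal := Cfsg.Agent.Lib.Helper2.pCore_normal p
  have hMn : ((pCore p (G ⧸ pCore p G)).comap (QuotientGroup.mk' (pCore p G))).Normal :=
    hn2.comap _
  have hMp : IsPGroup p ((pCore p (G ⧸ pCore p G)).comap (QuotientGroup.mk' (pCore p G))) :=
    (Cfsg.Agent.Lib.Helper2.pCore_isPGroup p).comap_of_ker_isPGroup _
      (by rw [QuotientGroup.ker_mk']; exact Cfsg.Agent.Lib.Helper2.pCore_isPGroup p)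
  have hle := Cfsg.Agent.Lib.Helper2.le_pCore hMn hMp
  rw [eq_bot_iff]
  intro xb hxb
  obtain ⟨x, rfl⟩ := QuotientGroup.mk'_surjective (pCore p G) xb
  rw [Subgroup.mem_bot]
  exact (QuotientGroup.eq_one_iff x).mpr (hle hxb)

theorem lemmaT {G : Type u} [Group G] [Finite G] (hCN : IsCNGroup G) {p : ℕ} [Fact p.Prime]
    (H : Subgroup G) [hHn : H.Normal] (hHp : IsPGroup p H) (hH1 : H ≠ ⊥)
    (hB : ∀ (s : ℕ) (e w : G), s.Prime → s ≠ p → orderOf e = s → w ∈ H → w ≠ 1 → e * w ≠ w * e)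
    (Bb : Subgroup (G ⧸ H)) (hcop : (Nat.card Bb).Coprime p) :
    ∃ A : Subgroup G, H ⊓ A = ⊥ ∧ H ⊔ A = Bb.comap (QuotientGroup.mk' H) ∧
      Nat.card A = Nat.card Bb ∧ A.map (QuotientGroup.mk' H) = Bb ∧ Group.IsNilpotent A ∧
      (Odd (Nat.card A) → IsCyclic A) ∧
      (2 ∣ Nat.card A → ∃ t ∈ A, orderOf t = 2 ∧ ∀ u ∈ A, orderOf u = 2 → u = t) := by
  obtain ⟨X, hXdef⟩ : ∃ X : Subgroup G, X = Bb.comap (QuotientGroup.mk' H) := ⟨_, rfl⟩
  have hXmem : ∀ x : G, x ∈ X ↔ QuotientGroup.mk' H x ∈ Bb := fun x => by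
    rw [hXdef, Subgroup.mem_comap]
  have hπH : ∀ h ∈ H, QuotientGroup.mk' H h = 1 := fun h hh => (QuotientGroup.eq_one_iff h).mpr hh
  have hHX : H ≤ X := fun h hh => by rw [hXmem, hπH h hh]; exact Subgroup.one_mem _
  have hcardX : Nat.card X = Nat.card H * Nat.card Bb := by
    rw [hXdef]; exact Cfsg.Agent.Lib.Helper3.card_comap_mk'_eq H Bb
  rw [← hXdef]
  haveI hK'n : (H.subgroupOf X).Normal := inferInstance
  have hcardK' : Nat.card (H.subgroupOf X) = Nat.card H :=
    Cfsg.Agent.Lib.Helper29.card_subgroupOf_of_le hHX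
  have hindexK' : (H.subgroupOf X).index = Nat.card Bb := by
    have := (H.subgroupOf X).card_mul_index
    rw [hcardK', hcardX] at this
    exact Nat.eq_of_mul_eq_mul_left Nat.card_pos this
  have hHall : (Nat.card (H.subgroupOf X)).Coprime (H.subgroupOf X).index := by
    rw [hcardK', hindexK']
    obtain ⟨a, ha⟩ := IsPGroup.iff_card.mp hHp
    rw [ha]
    exact Nat.Coprime.pow_left _ hcop.symm
  obtain ⟨B', hB'⟩ := Subgroup.exists_right_complement'_of_coprime hHall
  have hcardB' : Nat.card B' = Nat.card Bb := by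
    rw [← hindexK']; exact hB'.symm.index_eq_card.symm
  have hK'1 : H.subgroupOf X ≠ ⊥ := by
    rw [Ne, Subgroup.subgroupOf_eq_bot, disjoint_iff, inf_eq_left.mpr hHX]
    exact hH1
  have hfpf' : ∀ b ∈ B', b ≠ 1 → H.subgroupOf X ⊓ Subgroup.centralizer {b} = ⊥ := by
    intro b hb hb1
    have hbG : (b : G) ≠ 1 := fun h0 => hb1 (Subtype.ext h0)
    have hco : (orderOf (b : G)).Coprime p := by
      rw [Subgroup.orderOf_coe]
      have := orderOf_dvd_natCard (⟨b, hb⟩ : B')
      rw [Subgroup.orderOf_mk, hcardB'] at this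
      exact Nat.Coprime.coprime_dvd_left this hcop
    have h1 := fpf_of_coprime H hB (b : G) hbG hco
    rw [eq_bot_iff]
    rintro w ⟨hwK, hwc⟩
    rw [Subgroup.mem_bot]
    have hwG : (w : G) ∈ H ⊓ Subgroup.centralizer ({(b : G)} : Set G) := by
      refine ⟨Subgroup.mem_subgroupOf.mp hwK, ?_⟩
      show (w : G) ∈ Subgroup.centralizer ({(b : G)} : Set G)
      rw [Subgroup.mem_centralizer_singleton_iff]
      have := Subgroup.mem_centralizer_singleton_iff.mp hwc
      exact congrArg Subtype.val this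
    rw [h1, Subgroup.mem_bot] at hwG
    exact Subtype.ext hwG
  have hnilB' : Group.IsNilpotent B' := by
    by_cases hB'1 : B' = ⊥
    · haveI : Subsingleton B' := by rw [hB'1]; infer_instance
      infer_instance
    · have hZ := Cfsg.Agent.S0069.result (H.subgroupOf X) B' hB' hK'1 hB'1 hfpf'
      obtain ⟨⟨z, hz⟩, hz1⟩ := (Subgroup.ne_bot_iff_exists_ne_one).mp hZ
      have hzG : (((z : B') : X) : G) ≠ 1 := fun h0 => hz1 (Subtype.ext (Subtype.ext (Subtype.ext h0)))
      let ψ : B' →* Subgroup.centralizer ({(((z : B') : X) : G)} : Set G) :=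
        { toFun := fun y => ⟨((y : X) : G), by
            rw [Subgroup.mem_centralizer_singleton_iff]
            have := Subgroup.mem_center_iff.mp hz y
            exact congrArg (fun t : B' => ((t : X) : G)) this⟩
          map_one' := rfl
          map_mul' := fun _ _ => rfl }
      apply inj_nilpotent ψ _ (hCN _ hzG)
      intro y1 y2 h12
      apply Subtype.ext
      apply Subtype.ext
      exact congrArg (fun t : Subgroup.centralizer ({(((z : B') : X) : G)} : Set G) => (t : G)) h12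
  let eA : B' ≃* B'.map X.subtype := Subgroup.equivMapOfInjective B' X.subtype X.subtype_injective
  have hcardA : Nat.card (B'.map X.subtype) = Nat.card Bb := by
    rw [Subgroup.card_map_of_injective X.subtype_injective, hcardB']
  have hAX : B'.map X.subtype ≤ X := Subgroup.map_subtype_le _
  have hc1 : H ⊓ B'.map X.subtype = ⊥ := by
    rw [eq_bot_iff]
    rintro x ⟨hxH, ⟨b, hb, rfl⟩⟩
    rw [Subgroup.mem_bot]
    have : b ∈ H.subgroupOf X ⊓ B' := ⟨Subgroup.mem_subgroupOf.mpr hxH, hb⟩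
    rw [hB'.disjoint.eq_bot, Subgroup.mem_bot] at this
    rw [this]; rfl
  have hc2 : H ⊔ B'.map X.subtype = X := by
    have h1 := congrArg (Subgroup.map X.subtype) hB'.sup_eq_top
    rw [Subgroup.map_sup, Subgroup.map_subgroupOf_eq_of_le hHX, ← MonoidHom.range_eq_map,
      Subgroup.range_subtype] at h1
    exact h1
  refine ⟨B'.map X.subtype, hc1, hc2, hcardA, ?_, ?_, ?_, ?_⟩
  · apply le_antisymm
    · rintro _ ⟨a, ha, rfl⟩
      exact (hXmem a).mp (hAX ha)
    · intro yb hyb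
      obtain ⟨y, rfl⟩ := QuotientGroup.mk'_surjective H yb
      have hy : y ∈ ((H ⊔ B'.map X.subtype : Subgroup G) : Set G) := by
        rw [hc2]; exact (hXmem y).mpr hyb
      rw [Subgroup.normal_mul, Set.mem_mul] at hy
      obtain ⟨h, hh, a, ha, rfl⟩ := hy
      exact ⟨a, ha, by rw [map_mul, hπH h hh, one_mul]⟩
  · haveI := hnilB'
    exact Group.nilpotent_of_mulEquiv eA
  · intro hodd
    haveI := hnilB'
    haveI : IsZGroup B' := ⟨fun r hr P => by
      haveI : Fact r.Prime := ⟨hr⟩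
      rcases Cfsg.Agent.S0040.result (H.subgroupOf X) B' hB' hK'1 hfpf' r P with h | ⟨n, ⟨e⟩⟩
      · exact h
      · exfalso
        have hc := quaternion_card_even e
        have hdvd : Nat.card (P : Subgroup B') ∣ Nat.card B' := Subgroup.card_subgroup_dvd_card _
        rw [hc, hcardB', ← hcardA] at hdvd
        have h2 : 2 ∣ Nat.card (B'.map X.subtype) := (Dvd.intro (2 * 2 ^ n) (by ring)).trans hdvd
        exact (Nat.not_even_iff_odd.mpr hodd) (even_iff_two_dvd.mpr h2)⟩
    haveI : IsCyclic B' := inferInstance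
    exact isCyclic_of_surjective eA eA.surjective
  · intro h2
    have h2' : 2 ∣ Nat.card B' := by rw [hcardB', ← hcardA]; exact h2
    obtain ⟨⟨s, hsB', hs2, huniq, -⟩, -⟩ :=
      Cfsg.Agent.S0068.result (H.subgroupOf X) B' hB' hK'1 hfpf' h2'
    refine ⟨(s : G), ⟨s, hsB', rfl⟩, by rw [Subgroup.orderOf_coe]; exact hs2, ?_⟩
    rintro _ ⟨b, hb, rfl⟩ hu2
    have hb2 : orderOf b = 2 := by
      have : orderOf ((b : X) : G) = 2 := hu2
      rwa [Subgroup.orderOf_coe] at this
    rw [huniq b hb hb2]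
    rfl


theorem lemmaT' {G : Type u} [Group G] [Finite G] (hCN : IsCNGroup G) {p : ℕ} [Fact p.Prime]
    (H : Subgroup G) [hHn : H.Normal] (hHp : IsPGroup p H) (hH1 : H ≠ ⊥)
    (hB : ∀ (s : ℕ) (e w : G), s.Prime → s ≠ p → orderOf e = s → w ∈ H → w ≠ 1 → e * w ≠ w * e)
    (Bb : Subgroup (G ⧸ H)) (hcop : (Nat.card Bb).Coprime p) :
    Group.IsNilpotent Bb ∧ (Odd (Nat.card Bb) → IsCyclic Bb) ∧
      (2 ∣ Nat.card Bb → ∃ t ∈ Bb, orderOf t = 2 ∧ ∀ u ∈ Bb, orderOf u = 2 → u = t) := by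
  obtain ⟨A, -, -, hcard, hmap, hnil, hodd, heven⟩ := lemmaT hCN H hHp hH1 hB Bb hcop
  have hmem : ∀ a ∈ A, QuotientGroup.mk' H a ∈ Bb := fun a ha =>
    hmap ▸ Subgroup.mem_map_of_mem _ ha
  obtain ⟨f, hf⟩ : ∃ f : A →* Bb, ∀ a : A, ((f a : Bb) : G ⧸ H) = QuotientGroup.mk' H a :=
    ⟨((QuotientGroup.mk' H).comp A.subtype).codRestrict Bb (fun a => hmem a a.2), fun a => rfl⟩
  have hfs : Function.Surjective f := by
    rintro ⟨b, hb⟩
    have hb' := hb
    rw [← hmap] at hb'
    obtain ⟨a, ha, rfl⟩ := hb'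
    exact ⟨⟨a, ha⟩, Subtype.ext (hf ⟨a, ha⟩)⟩
  have hfi : Function.Injective f :=
    ((Nat.bijective_iff_surjective_and_card f).mpr ⟨hfs, hcard⟩).1
  have hord : ∀ a : A, orderOf (QuotientGroup.mk' H (a : G)) = orderOf (a : G) := by
    intro a
    rw [← hf a, Subgroup.orderOf_coe, orderOf_injective f hfi a, Subgroup.orderOf_coe]
  haveI := hnil
  refine ⟨Group.nilpotent_of_surjective f hfs, ?_, ?_⟩
  · intro h
    haveI := hodd (hcard ▸ h)
    exact isCyclic_of_surjective f hfs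
  · intro h
    obtain ⟨t, ht, ht2, huniq⟩ := heven (hcard ▸ h)
    refine ⟨QuotientGroup.mk' H t, hmem t ht, ?_, ?_⟩
    · rw [hord ⟨t, ht⟩]; exact ht2
    · intro u hu hu2
      obtain ⟨a, hau⟩ := hfs ⟨u, hu⟩
      have hau' : QuotientGroup.mk' H (a : G) = u := by rw [← hf a, hau]
      have : orderOf (a : G) = 2 := by rw [← hord a, hau', hu2]
      rw [← hau', huniq a a.2 this]

theorem coprime_card_of_pCore_eq_bot {Q : Type*} [Group Q] [Finite Q] (p : ℕ) [Fact p.Prime]
    (hOp : pCore p Q = ⊥) (N : Subgroup Q) [hNn : N.Normal] (hNnil : Group.IsNilpotent N) :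
    (Nat.card N).Coprime p := by
  rw [Nat.coprime_comm, Nat.Prime.coprime_iff_not_dvd Fact.out]
  intro hdvd
  obtain ⟨R⟩ : Nonempty (Sylow p N) := inferInstance
  have hsylN := ((Group.isNilpotent_of_finite_tfae (G := N)).out 0 3).mp hNnil
  haveI hRn : (R : Subgroup N).Normal := hsylN p ‹_› R
  haveI : (R : Subgroup N).Characteristic := R.characteristic_of_normal hRn
  have hRmn : ((R : Subgroup N).map N.subtype).Normal := ConjAct.normal_of_characteristic_of_normal
  have hRmp : IsPGroup p ((R : Subgroup N).map N.subtype) := R.isPGroup'.map _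
  have hle := Cfsg.Agent.Lib.Helper2.le_pCore hRmn hRmp
  rw [hOp, le_bot_iff, Subgroup.map_eq_bot_iff_of_injective _ N.subtype_injective] at hle
  exact R.ne_bot_of_dvd_card hdvd hle

theorem quotStep {Q : Type u} [Group Q] [Finite Q] [Group.IsSolvable Q] (hCN : IsCNGroup Q)
    (p : ℕ) [Fact p.Prime] (hOp : pCore p Q = ⊥) (hnn : ¬ Group.IsNilpotent Q)
    (hT : ∀ Bb : Subgroup Q, (Nat.card Bb).Coprime p → Group.IsNilpotent Bb ∧
      (Odd (Nat.card Bb) → IsCyclic Bb) ∧
      (2 ∣ Nat.card Bb → ∃ t ∈ Bb, orderOf t = 2 ∧ ∀ u ∈ Bb, orderOf u = 2 → u = t)) :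
    ∃ Fb : Subgroup Q, Fb.Normal ∧ Fb ≠ ⊥ ∧ Fb ≠ ⊤ ∧ IsCyclic Fb ∧ Odd (Nat.card Fb) ∧
      (Nat.card Fb).Coprime p ∧ (∃ n : ℕ, Fb.index = p ^ n) ∧
      ∀ x a : Q, a ∈ Fb → a ≠ 1 → x * a = a * x → x ∈ Fb := by
  haveI hFn : (fittingSubgroup Q).Normal := Cfsg.Agent.Lib.Helper2.fittingSubgroup_normal
  have hFnil : Group.IsNilpotent (fittingSubgroup Q) :=
    Cfsg.Agent.Lib.Helper2.fittingSubgroup_isNilpotent
  have hCF : Subgroup.centralizer (fittingSubgroup Q : Set Q) ≤ fittingSubgroup Q :=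
    Cfsg.Agent.Lib.Helper20.subnormal_solvable_le_fitting_of_le_centralizer _
      (Subgroup.Normal.isSubnormal inferInstance) inferInstance le_rfl
  have hQnt : ∃ g : Q, g ≠ 1 := by
    by_contra hcon
    push Not at hcon
    apply hnn
    haveI : Subsingleton Q := ⟨fun a b => (hcon a).trans (hcon b).symm⟩
    infer_instance
  have hF1 : fittingSubgroup Q ≠ ⊥ := by
    intro h
    obtain ⟨g, hg⟩ := hQnt
    have : g ∈ Subgroup.centralizer (fittingSubgroup Q : Set Q) := by
      rw [Subgroup.mem_centralizer_iff]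
      intro u hu
      rw [h] at hu
      rw [Subgroup.mem_bot.mp hu]; simp
    have := hCF this
    rw [h] at this
    exact hg (Subgroup.mem_bot.mp this)
  have hFtop : fittingSubgroup Q ≠ ⊤ := by
    intro h
    apply hnn
    rw [h] at hFnil
    exact Group.nilpotent_of_mulEquiv (Subgroup.topEquiv (G := Q))
  have hcop : (Nat.card (fittingSubgroup Q)).Coprime p :=
    coprime_card_of_pCore_eq_bot p hOp _ hFnil
  obtain ⟨-, hoddc, hevenc⟩ := hT _ hcop
  have hodd : Odd (Nat.card (fittingSubgroup Q)) := by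
    by_contra hne
    rw [Nat.not_odd_iff_even, even_iff_two_dvd] at hne
    obtain ⟨t, ht, ht2, huniq⟩ := hevenc hne
    have ht1 : t ≠ 1 := by
      intro h; rw [h, orderOf_one] at ht2; omega
    apply hnn
    have hcent : Subgroup.centralizer ({t} : Set Q) = ⊤ := by
      rw [eq_top_iff]
      intro g _
      rw [Subgroup.mem_centralizer_singleton_iff]
      have h1 : g * t * g⁻¹ ∈ fittingSubgroup Q := hFn.conj_mem t ht g
      have h2 : orderOf (g * t * g⁻¹) = 2 := by
        rw [← ht2]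
        exact orderOf_injective (MulAut.conj g).toMonoidHom (MulAut.conj g).injective t
      have := huniq _ h1 h2
      calc g * t = g * t * g⁻¹ * g := by group
        _ = t * g := by rw [this]
    have hn := hCN t ht1
    rw [hcent] at hn
    exact Group.nilpotent_of_mulEquiv (Subgroup.topEquiv (G := Q))
  haveI hFc : IsCyclic (fittingSubgroup Q) := hoddc hodd
  -- key7
  have key7 : ∀ x a : Q, a ∈ fittingSubgroup Q → a ≠ 1 → x * a = a * x →
      x ∈ fittingSubgroup Q := by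
    intro x a ha ha1 hxa
    have hoa : orderOf a ≠ 1 := by rwa [Ne, orderOf_eq_one_iff]
    obtain ⟨s, hs, hsd⟩ := Nat.exists_prime_and_dvd hoa
    obtain ⟨a0, ha0def⟩ : ∃ a0 : Q, a0 = a ^ (orderOf a / s) := ⟨_, rfl⟩
    have ha0o : orderOf a0 = s := by
      rw [ha0def]; exact orderOf_pow_orderOf_div (orderOf_pos a).ne' hsd
    have ha0F : a0 ∈ fittingSubgroup Q := ha0def ▸ Subgroup.pow_mem _ ha _
    have ha01 : a0 ≠ 1 := by
      intro h; rw [h, orderOf_one] at ha0o; exact hs.one_lt.ne ha0o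
    have hxa0 : x * a0 = a0 * x := by
      have hc : Commute x a := hxa
      rw [ha0def]; exact (hc.pow_right _).eq
    have hZn : (Subgroup.zpowers a0).Normal := by
      refine ⟨fun z hz g => ?_⟩
      rw [Subgroup.mem_zpowers_iff] at hz
      obtain ⟨k, rfl⟩ := hz
      have h1 : g * a0 * g⁻¹ ∈ fittingSubgroup Q := hFn.conj_mem a0 ha0F g
      have h2 : (⟨g * a0 * g⁻¹, h1⟩ : fittingSubgroup Q) ^ s = 1 := by
        apply Subtype.ext
        simp only [Subgroup.coe_pow, Subgroup.coe_one]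
        rw [conj_pow, ← ha0o, pow_orderOf_eq_one]; group
      have h3 : (⟨a0, ha0F⟩ : fittingSubgroup Q) ^ s = 1 := by
        apply Subtype.ext
        simp only [Subgroup.coe_pow, Subgroup.coe_one]
        rw [← ha0o, pow_orderOf_eq_one]
      have h4 : (⟨a0, ha0F⟩ : fittingSubgroup Q) ≠ 1 := by
        intro h; exact ha01 (congrArg Subtype.val h)
      have h5 := Cfsg.Agent.S2777.uniq_cyclic hs (⟨a0, ha0F⟩ : fittingSubgroup Q)
        ⟨g * a0 * g⁻¹, h1⟩ h3 h2 h4
      rw [Subgroup.mem_zpowers_iff] at h5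
      obtain ⟨j, hj⟩ := h5
      have hj' : a0 ^ j = g * a0 * g⁻¹ := by
        have := congrArg Subtype.val hj
        simpa using this
      rw [Subgroup.mem_zpowers_iff]
      refine ⟨j * k, ?_⟩
      rw [zpow_mul, hj', conj_zpow]
    haveI hCn : (Subgroup.centralizer ((Subgroup.zpowers a0 : Subgroup Q) : Set Q)).Normal :=
      inferInstance
    have hCle : Subgroup.centralizer ((Subgroup.zpowers a0 : Subgroup Q) : Set Q) ≤
        Subgroup.centralizer ({a0} : Set Q) :=
      Subgroup.centralizer_le (by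
        intro y hy
        rw [Set.mem_singleton_iff] at hy
        rw [hy]; exact Subgroup.mem_zpowers a0)
    have hCnil : Group.IsNilpotent
        (Subgroup.centralizer ((Subgroup.zpowers a0 : Subgroup Q) : Set Q)) :=
      nilpotent_of_le hCle (hCN a0 ha01)
    have hCF' := Cfsg.Agent.Lib.Helper2.le_fittingSubgroup hCn hCnil
    apply hCF'
    rw [Subgroup.mem_centralizer_iff]
    intro y hy
    rw [SetLike.mem_coe, Subgroup.mem_zpowers_iff] at hy
    obtain ⟨k, rfl⟩ := hy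
    have hc : Commute x a0 := hxa0
    exact ((hc.zpow_right k).eq).symm
  -- key5
  have key5 : ∀ y : Q, (orderOf y).Coprime p → y ∈ fittingSubgroup Q := by
    intro y hy
    have hdvd := Cfsg.Agent.Lib.Helper2.card_sup_dvd_of_normal (Subgroup.zpowers y)
      (fittingSubgroup Q)
    rw [Nat.card_zpowers] at hdvd
    have hBcop : (Nat.card (Subgroup.zpowers y ⊔ fittingSubgroup Q : Subgroup Q)).Coprime p :=
      Nat.Coprime.coprime_dvd_left hdvd (Nat.Coprime.mul_left hy hcop)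
    obtain ⟨hBnil, -, -⟩ := hT _ hBcop
    haveI := hBnil
    have hFB : fittingSubgroup Q ≤ Subgroup.zpowers y ⊔ fittingSubgroup Q := le_sup_right
    have hne : (fittingSubgroup Q).subgroupOf (Subgroup.zpowers y ⊔ fittingSubgroup Q) ≠ ⊥ := by
      intro h
      rw [Subgroup.subgroupOf_eq_bot, disjoint_iff, inf_eq_left.mpr hFB] at h
      exact hF1 h
    have := Cfsg.Agent.Lib.Helper2.normal_inf_center_ne_bot
      ((fittingSubgroup Q).subgroupOf (Subgroup.zpowers y ⊔ fittingSubgroup Q)) hne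
    obtain ⟨⟨z, hz⟩, hz1⟩ := (Subgroup.ne_bot_iff_exists_ne_one (H := _)).mp this
    have hzF : (z : Q) ∈ fittingSubgroup Q := Subgroup.mem_subgroupOf.mp hz.1
    have hzc : z ∈ Subgroup.center (Subgroup.zpowers y ⊔ fittingSubgroup Q : Subgroup Q) := hz.2
    have hz1' : (z : Q) ≠ 1 := by
      intro h
      apply hz1
      apply Subtype.ext
      apply Subtype.ext
      exact h
    have hyB : y ∈ Subgroup.zpowers y ⊔ fittingSubgroup Q :=
      (le_sup_left : Subgroup.zpowers y ≤ _) (Subgroup.mem_zpowers y)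
    have := Subgroup.mem_center_iff.mp hzc ⟨y, hyB⟩
    have hyz : y * (z : Q) = (z : Q) * y := congrArg Subtype.val this
    exact key7 y z hzF hz1' hyz
  -- index
  have hidx : ∃ n : ℕ, (fittingSubgroup Q).index = p ^ n := by
    refine ⟨_, Nat.eq_prime_pow_of_unique_prime_dvd (Subgroup.index_ne_zero_of_finite) ?_⟩
    intro r hr hrd
    by_contra hrp
    haveI : Fact r.Prime := ⟨hr⟩
    obtain ⟨R⟩ : Nonempty (Sylow r Q) := inferInstance
    have hRF : (R : Subgroup Q) ≤ fittingSubgroup Q := by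
      intro y hy
      apply key5
      obtain ⟨k, hk⟩ := elt_pow_of_isPGroup _ R.isPGroup' y hy
      have h1 : orderOf y ∣ r ^ k := orderOf_dvd_of_pow_eq_one hk
      have h2 : (r ^ k).Coprime p :=
        Nat.Coprime.pow_left _ ((Nat.coprime_primes hr Fact.out).mpr hrp)
      exact Nat.Coprime.coprime_dvd_left h1 h2
    exact R.not_dvd_index (hrd.trans (Subgroup.index_dvd_of_le hRF))
  exact ⟨fittingSubgroup Q, hFn, hF1, hFtop, hFc, hodd, hcop, hidx, key7⟩


theorem threeStepCore {G : Type u} [Group G] [Finite G] [Group.IsSolvable G] (hCN : IsCNGroup G)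
    {p : ℕ} [Fact p.Prime] (H : Subgroup G) [hHn : H.Normal] (hHp : IsPGroup p H) (hH1 : H ≠ ⊥)
    (hB : ∀ (s : ℕ) (e w : G), s.Prime → s ≠ p → orderOf e = s → w ∈ H → w ≠ 1 → e * w ≠ w * e)
    (hOp : pCore p (G ⧸ H) = ⊥) (hnn : ¬ Group.IsNilpotent (G ⧸ H)) :
    ∃ A : Subgroup G, A ≠ ⊥ ∧ IsCyclic A ∧ Odd (Nat.card A) ∧ (Nat.card A).Coprime p ∧
    (H ⊔ A).Normal ∧ H ⊔ A ≠ ⊤ ∧ (∃ n : ℕ, (H ⊔ A).index = p ^ n) ∧
    (∀ a ∈ A, a ≠ 1 → H ⊓ Subgroup.centralizer ({a} : Set G) = ⊥) ∧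
    ∀ x : G, x ∉ H ⊔ A → ∀ a ∈ A, a ≠ 1 → x * a * x⁻¹ * a⁻¹ ∉ H := by
  have hCNq : IsCNGroup (G ⧸ H) := Cfsg.Agent.S1473.base hCN H hHp
  obtain ⟨Fb, hFn, hF1, hFtop, hFc, hFodd, hFcop, ⟨n, hFidx⟩, key7⟩ :=
    quotStep hCNq p hOp hnn (fun Bb hcop => lemmaT' hCN H hHp hH1 hB Bb hcop)
  obtain ⟨A, hHA, hsup, hcard, hmap, hnil, hodd, -⟩ := lemmaT hCN H hHp hH1 hB Fb hFcop
  have hAodd : Odd (Nat.card A) := hcard ▸ hFodd
  have hAcop : (Nat.card A).Coprime p := hcard ▸ hFcop
  refine ⟨A, ?_, hodd hAodd, hAodd, hAcop, ?_, ?_, ⟨n, ?_⟩, ?_, ?_⟩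
  · intro h
    apply hF1
    rw [← hmap, h, Subgroup.map_bot]
  · rw [hsup]; exact hFn.comap _
  · rw [hsup]
    intro h
    apply hFtop
    rw [eq_top_iff]
    intro y _
    obtain ⟨x, rfl⟩ := QuotientGroup.mk'_surjective H y
    have : x ∈ Fb.comap (QuotientGroup.mk' H) := h ▸ Subgroup.mem_top x
    exact this
  · rw [hsup, Subgroup.index_comap_of_surjective _ (QuotientGroup.mk'_surjective H)]
    exact hFidx
  · intro a ha ha1
    apply fpf_of_coprime H hB a ha1
    have h1 : orderOf a ∣ Nat.card A := by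
      have := orderOf_dvd_natCard (⟨a, ha⟩ : A)
      rwa [Subgroup.orderOf_mk] at this
    exact Nat.Coprime.coprime_dvd_left h1 hAcop
  · intro x hx a ha ha1 hmemH
    apply hx
    rw [hsup, Subgroup.mem_comap]
    apply key7 (QuotientGroup.mk' H x) (QuotientGroup.mk' H a)
    · rw [← hmap]; exact Subgroup.mem_map_of_mem _ ha
    · intro h
      have haH : a ∈ H := (QuotientGroup.eq_one_iff a).mp h
      have : a ∈ H ⊓ A := ⟨haH, ha⟩
      rw [hHA] at this
      exact ha1 (Subgroup.mem_bot.mp this)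
    · have h1 : QuotientGroup.mk' H (x * a * x⁻¹ * a⁻¹) = 1 :=
        (QuotientGroup.eq_one_iff _).mpr hmemH
      rw [map_mul, map_mul, map_mul, map_inv, map_inv] at h1
      calc QuotientGroup.mk' H x * QuotientGroup.mk' H a
          = (QuotientGroup.mk' H x * QuotientGroup.mk' H a * (QuotientGroup.mk' H x)⁻¹ *
              (QuotientGroup.mk' H a)⁻¹) * (QuotientGroup.mk' H a * QuotientGroup.mk' H x) := by
            group
        _ = QuotientGroup.mk' H a * QuotientGroup.mk' H x := by rw [h1, one_mul]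

theorem threeStep {G : Type u} [Group G] [Finite G] [Group.IsSolvable G] (hCN : IsCNGroup G)
    (hnn : ¬ Group.IsNilpotent G) (hFH : fittingHall G = ⊥) :
    ∃ p : ℕ, p.Prime ∧ IsThreeStepGroup p G := by
  haveI hFn : (fittingSubgroup G).Normal := Cfsg.Agent.Lib.Helper2.fittingSubgroup_normal
  have hCF : Subgroup.centralizer (fittingSubgroup G : Set G) ≤ fittingSubgroup G :=
    Cfsg.Agent.Lib.Helper20.subnormal_solvable_le_fitting_of_le_centralizer _
      (Subgroup.Normal.isSubnormal inferInstance) inferInstance le_rfl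
  have hQnt : ∃ g : G, g ≠ 1 := by
    by_contra hcon
    push Not at hcon
    apply hnn
    haveI : Subsingleton G := ⟨fun a b => (hcon a).trans (hcon b).symm⟩
    infer_instance
  have hF1 : fittingSubgroup G ≠ ⊥ := by
    intro h
    obtain ⟨g, hg⟩ := hQnt
    have : g ∈ Subgroup.centralizer (fittingSubgroup G : Set G) := by
      rw [Subgroup.mem_centralizer_iff]
      intro u hu
      rw [h] at hu
      rw [Subgroup.mem_bot.mp hu]; simp
    have := hCF this
    rw [h] at this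
    exact hg (Subgroup.mem_bot.mp this)
  have hex : ∃ p : Nat.Primes, pCore (p : ℕ) G ≠ ⊥ := by
    by_contra hcon
    push Not at hcon
    apply hF1
    rw [Cfsg.Agent.Lib.Helper2.fittingSubgroup_eq_iSup_pCore]
    simp [hcon]
  obtain ⟨⟨p, hp⟩, hpc⟩ := hex
  haveI : Fact p.Prime := ⟨hp⟩
  have hpc' : pCore p G ≠ ⊥ := hpc
  have hFeq : fittingSubgroup G = pCore p G := by
    apply le_antisymm
    · rw [Cfsg.Agent.Lib.Helper2.fittingSubgroup_eq_iSup_pCore]
      apply iSup_le
      rintro ⟨q, hq⟩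
      haveI : Fact q.Prime := ⟨hq⟩
      by_cases hpq : p = q
      · subst hpq; exact le_rfl
      · show pCore q G ≤ pCore p G
        rw [stepA hCN hFH hpq hpc']; exact bot_le
    · rw [Cfsg.Agent.Lib.Helper2.fittingSubgroup_eq_iSup_pCore]
      exact le_iSup (fun q : Nat.Primes => pCore (q : ℕ) G) ⟨p, hp⟩
  rw [hFeq] at hCF
  haveI hHn : (pCore p G).Normal := Cfsg.Agent.Lib.Helper2.pCore_normal p
  have hHp : IsPGroup p (pCore p G) := Cfsg.Agent.Lib.Helper2.pCore_isPGroup p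
  have hB : ∀ (s : ℕ) (e w : G), s.Prime → s ≠ p → orderOf e = s → w ∈ pCore p G → w ≠ 1 →
      e * w ≠ w * e :=
    fun s e w hs hsp he hw hw1 => stepB hCN (pCore p G) hHp hCF s e w hs hsp he hw hw1
  have hOp : pCore p (G ⧸ pCore p G) = ⊥ := pCore_quotient_eq_bot p
  have hnnq : ¬ Group.IsNilpotent (G ⧸ pCore p G) := by
    intro hq
    have htopnil : Group.IsNilpotent (⊤ : Subgroup (G ⧸ pCore p G)) :=
      Group.nilpotent_of_mulEquiv (Subgroup.topEquiv (G := G ⧸ pCore p G)).symm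
    have h1 := coprime_card_of_pCore_eq_bot p hOp (⊤ : Subgroup (G ⧸ pCore p G)) htopnil
    rw [Subgroup.card_top, ← Subgroup.index_eq_card] at h1
    obtain ⟨k, hk⟩ := (IsPGroup.iff_card).mp hHp
    have h2 : (Nat.card (pCore p G)).Coprime (pCore p G).index := by
      rw [hk]; exact Nat.Coprime.pow_left _ h1.symm
    have h3 := Cfsg.Agent.Lib.Helper6.le_fittingHall hHn hHp.isNilpotent h2
    rw [hFH, le_bot_iff] at h3
    exact hpc' h3
  obtain ⟨A, hA⟩ := threeStepCore hCN (pCore p G) hHp hpc' hB hOp hnnq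
  exact ⟨p, hp, hpc', A, hA⟩

theorem result {G : Type*} [Group G] [Finite G] [Group.IsSolvable G] (hCN : Cfsg.IsCNGroup G) :
    Group.IsNilpotent G ∨
      (∃ K E : Subgroup G, K.Normal ∧ Subgroup.IsComplement' K E ∧ Cfsg.IsFrobeniusComplement E ∧
        (IsCyclic E ∨ ∃ C Q : Subgroup G, C ⊔ Q = E ∧ (∀ a ∈ C, ∀ b ∈ Q, a * b = b * a) ∧ IsCyclic C ∧ Odd (Nat.card C) ∧
          ∃ n : ℕ, Nonempty (↥Q ≃* QuaternionGroup (2 ^ n)))) ∨
      ∃ p : ℕ, p.Prime ∧ Cfsg.IsThreeStepGroup p G := by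
  by_cases hnn : Group.IsNilpotent G
  · exact Or.inl hnn
  by_cases hFH : fittingHall G = ⊥
  · exact Or.inr (Or.inr (threeStep hCN hnn hFH))
  · exact Or.inr (Or.inl (frobCase hCN hnn hFH))

end Cfsg.Agent.S1476
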