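import Mathlib
import Cfsg.Statements.S1477
import Cfsg.Agent.Lib.Helper2.NilpotentCoprime

set_option autoImplicit false
open Cfsg

namespace Cfsg.Agent.S1477

open Cfsg.Agent.Lib.Helper2

variable {G : Type*} [Group G] [Finite G]

theorem mem_centralizer_singleton {x c : G} :
    c ∈ Subgroup.centralizer ({x} : Set G) ↔ x * c = c * x := by
  rw [Subgroup.mem_centralizer_iff]
  constructor
  · intro h
    exact h x (Set.mem_singleton x)
  · intro h t ht
    rw [Set.mem_singleton_iff] at ht
    rw [ht]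
    exact h

theorem centralizer_eq_of_central (hCN : Cfsg.IsCNGroup G) (H : Subgroup G)
    (hmax : ∀ L : Subgroup G, Group.IsNilpotent L → H ≤ L → L = H)
    (z : G) (hz1 : z ≠ 1) (hzc : ∀ h ∈ H, h * z = z * h) :
    Subgroup.centralizer ({z} : Set G) = H := by
  apply hmax _ (hCN z hz1)
  intro h hh
  rw [mem_centralizer_singleton]
  exact (hzc h hh).symm

theorem exists_central_pelt (H : Subgroup G) (hH : Group.IsNilpotent H) (p : ℕ) (hp : p.Prime)
    (hdvd : p ∣ Nat.card H) :
    ∃ y ∈ H, y ≠ 1 ∧ (∀ h ∈ H, h * y = y * h) ∧ ∃ k, orderOf y ∣ p ^ k := by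
  have hpF : Fact p.Prime := ⟨hp⟩
  have Sp : Sylow p H := Classical.arbitrary _
  have hSpn : (Sp : Subgroup H).Normal := by
    have q := (Group.isNilpotent_of_finite_tfae (G := H)).out 0 3
    rw [q] at hH
    exact hH p hpF Sp
  have hSpne : (Sp : Subgroup H) ≠ ⊥ := by
    intro h
    have h1 := Sp.card_eq_multiplicity
    rw [h, Subgroup.card_bot] at h1
    have hpos := hp.factorization_pos_of_dvd Nat.card_pos.ne' hdvd
    have h2 : 1 < p ^ (Nat.card H).factorization p := Nat.one_lt_pow hpos.ne' hp.one_lt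
    omega
  have hne := normal_inf_center_ne_bot (Sp : Subgroup H) hSpne
  obtain ⟨⟨y, hy⟩, hy1⟩ := (Subgroup.ne_bot_iff_exists_ne_one).mp hne
  obtain ⟨hySp, hyZ⟩ := Subgroup.mem_inf.mp hy
  refine ⟨(y : G), y.2, ?_, ?_, ?_⟩
  · intro h
    apply hy1
    apply Subtype.ext
    apply Subtype.ext
    exact h
  · intro h hh
    have := Subgroup.mem_center_iff.mp hyZ ⟨h, hh⟩
    exact congrArg Subtype.val this
  · obtain ⟨k, hk⟩ := Sp.isPGroup' ⟨y, hySp⟩
    refine ⟨k, orderOf_dvd_of_pow_eq_one ?_⟩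
    have h1 : (y : H) ^ p ^ k = 1 := congrArg Subtype.val hk
    exact congrArg Subtype.val h1

theorem card_eq_prime_pow_of_unique (H : Subgroup G) (p : ℕ)
    (hq : ∀ q : ℕ, q.Prime → q ≠ p → ¬ q ∣ Nat.card H) :
    Nat.card H = p ^ (Nat.card H).primeFactorsList.length := by
  apply Nat.eq_prime_pow_of_unique_prime_dvd Nat.card_pos.ne'
  intro d hd hdH
  by_contra hne
  exact hq d hd hne hdH

theorem part1 (hCN : Cfsg.IsCNGroup G) (H : Subgroup G) (hH : Group.IsNilpotent H)
    (hmax : ∀ L : Subgroup G, Group.IsNilpotent L → H ≤ L → L = H) :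
    (Nat.card H).Coprime H.index := by
  by_contra hnc
  obtain ⟨p, hp, hpH, hpI⟩ := Nat.Prime.not_coprime_iff_dvd.mp hnc
  have hpF : Fact p.Prime := ⟨hp⟩
  by_cases hq : ∃ q : ℕ, q.Prime ∧ q ≠ p ∧ q ∣ Nat.card H
  · obtain ⟨q, hqP, hqp, hqH⟩ := hq
    obtain ⟨y, hyH, hy1, hyc, ky, hyo⟩ := exists_central_pelt H hH p hp hpH
    obtain ⟨w, hwH, hw1, hwc, kw, hwo⟩ := exists_central_pelt H hH q hqP hqH
    have hCy := centralizer_eq_of_central hCN H hmax y hy1 hyc
    have hCw := centralizer_eq_of_central hCN H hmax w hw1 hwc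
    have hyP : IsPGroup p (Subgroup.zpowers y) := by
      apply IsPGroup.of_card_dvd_pow (n := ky)
      rw [Nat.card_zpowers]
      exact hyo
    obtain ⟨S, hS⟩ := hyP.exists_le_sylow
    have hyS : y ∈ (S : Subgroup G) := hS (Subgroup.mem_zpowers y)
    have hSnt : Nontrivial (S : Subgroup G) :=
      ⟨⟨⟨y, hyS⟩, 1, fun h => hy1 (congrArg Subtype.val h)⟩⟩
    have hcnt := S.isPGroup'.center_nontrivial
    obtain ⟨⟨⟨z, hzS⟩, hzc⟩, hz1⟩ := exists_ne (1 : Subgroup.center (S : Subgroup G))
    have hzS' : ∀ s ∈ (S : Subgroup G), s * z = z * s := by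
      intro s hs
      have := Subgroup.mem_center_iff.mp hzc ⟨s, hs⟩
      exact congrArg Subtype.val this
    have hz1' : z ≠ 1 := by
      intro h
      apply hz1
      apply Subtype.ext
      apply Subtype.ext
      exact h
    have hzH : z ∈ H := by
      rw [← hCy, mem_centralizer_singleton]
      exact hzS' y hyS
    have hCz := hCN z hz1'
    have hwCz : w ∈ Subgroup.centralizer ({z} : Set G) := by
      rw [mem_centralizer_singleton]
      exact hwc z hzH
    have hSH : (S : Subgroup G) ≤ H := by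
      intro s hs
      have hsCz : s ∈ Subgroup.centralizer ({z} : Set G) := by
        rw [mem_centralizer_singleton]
        exact (hzS' s hs).symm
      obtain ⟨ks, hks⟩ := S.isPGroup' ⟨s, hs⟩
      have hso : orderOf s ∣ p ^ ks := by
        apply orderOf_dvd_of_pow_eq_one
        exact congrArg Subtype.val hks
      have hcop : (orderOf s).Coprime (orderOf w) :=
        Nat.Coprime.coprime_dvd_left hso (Nat.Coprime.coprime_dvd_right hwo
          (Nat.Coprime.pow _ _ ((Nat.coprime_primes hp hqP).mpr (Ne.symm hqp))))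
      have hsw := commute_of_coprime_orderOf_of_mem _ hCz s w hsCz hwCz hcop
      rw [← hCw, mem_centralizer_singleton]
      exact hsw.symm
    exact S.not_dvd_index (hpI.trans (Subgroup.index_dvd_of_le hSH))
  · push Not at hq
    have hcard := card_eq_prime_pow_of_unique H p (fun q hqP hqp => hq q hqP hqp)
    have hHp : IsPGroup p H := IsPGroup.of_card hcard
    obtain ⟨S, hS⟩ := hHp.exists_le_sylow
    have hSn : Group.IsNilpotent (S : Subgroup G) := S.isPGroup'.isNilpotent
    have hSH := hmax S hSn hS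
    have h1 : ¬ p ∣ H.index := by
      rw [← hSH]
      exact S.not_dvd_index
    exact h1 hpI

theorem centralizer_le_of_not_primePow (hCN : Cfsg.IsCNGroup G) (H : Subgroup G)
    (hH : Group.IsNilpotent H)
    (hmax : ∀ L : Subgroup G, Group.IsNilpotent L → H ≤ L → L = H)
    (hnpp : ¬ IsPrimePow (Nat.card H)) (hne1 : Nat.card H ≠ 1)
    (x : G) (hx : x ∈ H) (hx1 : x ≠ 1) : Subgroup.centralizer ({x} : Set G) ≤ H := by
  obtain ⟨p, hp, hpH⟩ := Nat.exists_prime_and_dvd hne1
  have hq : ∃ q : ℕ, q.Prime ∧ q ≠ p ∧ q ∣ Nat.card H := by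
    by_contra hcon
    push Not at hcon
    apply hnpp
    have hcard := card_eq_prime_pow_of_unique H p (fun q hqP hqp => hcon q hqP hqp)
    rw [isPrimePow_nat_iff]
    refine ⟨p, _, hp, ?_, hcard.symm⟩
    by_contra h0
    have h00 : (Nat.card H).primeFactorsList.length = 0 := by omega
    rw [h00, pow_zero] at hcard
    exact hne1 hcard
  obtain ⟨q, hqP, hqp, hqH⟩ := hq
  obtain ⟨y, hyH, hy1, hyc, ky, hyo⟩ := exists_central_pelt H hH p hp hpH
  obtain ⟨w, hwH, hw1, hwc, kw, hwo⟩ := exists_central_pelt H hH q hqP hqH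
  have hCy := centralizer_eq_of_central hCN H hmax y hy1 hyc
  have hCw := centralizer_eq_of_central hCN H hmax w hw1 hwc
  have hCx := hCN x hx1
  have hyCx : y ∈ Subgroup.centralizer ({x} : Set G) := by
    rw [mem_centralizer_singleton]
    exact hyc x hx
  have hwCx : w ∈ Subgroup.centralizer ({x} : Set G) := by
    rw [mem_centralizer_singleton]
    exact hwc x hx
  intro c hc
  obtain ⟨a, b, haz, hbz, hcab, ⟨ka, hao⟩, hbo⟩ := exists_p_decomp c p hp
  have haC : a ∈ Subgroup.centralizer ({x} : Set G) := (Subgroup.zpowers_le.mpr hc) haz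
  have hbC : b ∈ Subgroup.centralizer ({x} : Set G) := (Subgroup.zpowers_le.mpr hc) hbz
  have haw := commute_of_coprime_orderOf_of_mem _ hCx a w haC hwCx
    (Nat.Coprime.coprime_dvd_left hao (Nat.Coprime.coprime_dvd_right hwo
      (Nat.Coprime.pow _ _ ((Nat.coprime_primes hp hqP).mpr (Ne.symm hqp)))))
  have hby := commute_of_coprime_orderOf_of_mem _ hCx b y hbC hyCx
    (Nat.Coprime.coprime_dvd_right hyo (Nat.Coprime.pow_right _ hbo))
  have haH : a ∈ H := by
    rw [← hCw, mem_centralizer_singleton]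
    exact haw.symm
  have hbH : b ∈ H := by
    rw [← hCy, mem_centralizer_singleton]
    exact hby.symm
  rw [hcab]
  exact H.mul_mem haH hbH

theorem part2 (hCN : Cfsg.IsCNGroup G) (H : Subgroup G) (hH : Group.IsNilpotent H)
    (hmax : ∀ L : Subgroup G, Group.IsNilpotent L → H ≤ L → L = H)
    (hnpp : ¬ IsPrimePow (Nat.card H)) (hne1 : Nat.card H ≠ 1) (g : G)
    (hg : H.map (MulAut.conj g).toMonoidHom ≠ H) :
    H ⊓ H.map (MulAut.conj g).toMonoidHom = ⊥ := by
  rw [eq_bot_iff]
  intro x hx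
  rw [Subgroup.mem_bot]
  by_contra hx1
  obtain ⟨hxH, hxHg⟩ := Subgroup.mem_inf.mp hx
  apply hg
  obtain ⟨p, hp, hpH⟩ := Nat.exists_prime_and_dvd hne1
  obtain ⟨z, hzH, hz1, hzc, -⟩ := exists_central_pelt H hH p hp hpH
  have hz'1 : g * z * g⁻¹ ≠ 1 := by
    intro h
    exact hz1 (conj_eq_one_iff.mp h)
  obtain ⟨x₀, hx₀H, hx₀⟩ := Subgroup.mem_map.mp hxHg
  have hx₀' : g * x₀ * g⁻¹ = x := hx₀
  have hz'x : x * (g * z * g⁻¹) = (g * z * g⁻¹) * x := by
    rw [← hx₀']
    have h1 := hzc x₀ hx₀H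
    calc g * x₀ * g⁻¹ * (g * z * g⁻¹) = g * (x₀ * z) * g⁻¹ := by group
      _ = g * (z * x₀) * g⁻¹ := by rw [h1]
      _ = g * z * g⁻¹ * (g * x₀ * g⁻¹) := by group
  have hCx := centralizer_le_of_not_primePow hCN H hH hmax hnpp hne1 x hxH hx1
  have hz'H : g * z * g⁻¹ ∈ H := hCx (mem_centralizer_singleton.mpr hz'x)
  have hCz' := centralizer_le_of_not_primePow hCN H hH hmax hnpp hne1 _ hz'H hz'1
  have hle : H.map (MulAut.conj g).toMonoidHom ≤ H := by
    intro t ht
    obtain ⟨t₀, ht₀H, ht₀⟩ := Subgroup.mem_map.mp ht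
    have ht₀' : g * t₀ * g⁻¹ = t := ht₀
    apply hCz'
    rw [mem_centralizer_singleton, ← ht₀']
    have h1 := hzc t₀ ht₀H
    calc g * z * g⁻¹ * (g * t₀ * g⁻¹) = g * (z * t₀) * g⁻¹ := by group
      _ = g * (t₀ * z) * g⁻¹ := by rw [h1]
      _ = g * t₀ * g⁻¹ * (g * z * g⁻¹) := by group
  exact Subgroup.eq_of_le_of_card_ge hle
    (le_of_eq (Subgroup.card_map_of_injective (MulAut.conj g).injective).symm)

theorem part3 (hCN : Cfsg.IsCNGroup G) (H : Subgroup G) (hH : Group.IsNilpotent H)
    (hmax : ∀ L : Subgroup G, Group.IsNilpotent L → H ≤ L → L = H)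
    (hTI : ∀ g : G, H.map (MulAut.conj g).toMonoidHom ≠ H →
      H ⊓ H.map (MulAut.conj g).toMonoidHom = ⊥)
    (x : G) (hx : x ∈ H) (hx1 : x ≠ 1) : Subgroup.centralizer ({x} : Set G) ≤ H := by
  have hne1 : Nat.card H ≠ 1 := by
    intro h
    have h2 := Subgroup.card_eq_one.mp h
    rw [h2, Subgroup.mem_bot] at hx
    exact hx1 hx
  by_cases hpp : IsPrimePow (Nat.card H)
  · obtain ⟨p, k, hp, hk, hcard⟩ := (isPrimePow_nat_iff _).mp hpp
    have hpF : Fact p.Prime := ⟨hp⟩
    have hHp : IsPGroup p H := IsPGroup.of_card hcard.symm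
    have hpH : p ∣ Nat.card H := by
      rw [← hcard]
      exact dvd_pow_self p hk.ne'
    have hidx : ¬ p ∣ H.index := by
      have h1 := part1 hCN H hH hmax
      intro hd
      have h2 : p ∣ Nat.gcd (Nat.card H) H.index := Nat.dvd_gcd hpH hd
      rw [h1] at h2
      exact hp.one_lt.ne' (Nat.dvd_one.mp h2)
    obtain ⟨z, hzH, hz1, hzc, kz, hzo⟩ := exists_central_pelt H hH p hp hpH
    have hCz := centralizer_eq_of_central hCN H hmax z hz1 hzc
    have hCx := hCN x hx1
    have hzCx : z ∈ Subgroup.centralizer ({x} : Set G) := by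
      rw [mem_centralizer_singleton]
      exact hzc x hx
    intro c hc
    obtain ⟨a, b, haz, hbz, hcab, ⟨ka, hao⟩, hbo⟩ := exists_p_decomp c p hp
    have haC : a ∈ Subgroup.centralizer ({x} : Set G) := (Subgroup.zpowers_le.mpr hc) haz
    have hbC : b ∈ Subgroup.centralizer ({x} : Set G) := (Subgroup.zpowers_le.mpr hc) hbz
    have hbz' := commute_of_coprime_orderOf_of_mem _ hCx b z hbC hzCx
      (Nat.Coprime.coprime_dvd_right hzo (Nat.Coprime.pow_right _ hbo))
    have hbH : b ∈ H := by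
      rw [← hCz, mem_centralizer_singleton]
      exact hbz'.symm
    have haH : a ∈ H := by
      have hxa : x * a = a * x := mem_centralizer_singleton.mp haC
      have hPa : IsPGroup p (Subgroup.zpowers a) := by
        apply IsPGroup.of_card_dvd_pow (n := ka)
        rw [Nat.card_zpowers]
        exact hao
      have hPx : IsPGroup p (Subgroup.zpowers x) := by
        apply IsPGroup.of_card_dvd_pow (n := k)
        rw [Nat.card_zpowers, hcard]
        have := orderOf_dvd_natCard (⟨x, hx⟩ : H)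
        rwa [Subgroup.orderOf_mk] at this
      have hnorm : Subgroup.zpowers a ≤
          Subgroup.normalizer ((Subgroup.zpowers x : Subgroup G) : Set G) := by
        rw [Subgroup.zpowers_le]
        apply Subgroup.centralizer_le_normalizer
        rw [Subgroup.mem_centralizer_iff]
        intro t ht
        obtain ⟨i, rfl⟩ := Subgroup.mem_zpowers_iff.mp ht
        exact (Commute.zpow_left (show Commute x a from hxa) i).eq
      have hA : IsPGroup p (Subgroup.zpowers a ⊔ Subgroup.zpowers x : Subgroup G) :=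
        hPa.to_sup_of_normal_right' hPx hnorm
      obtain ⟨T, hT⟩ := hA.exists_le_sylow
      obtain ⟨g, hg⟩ := MulAction.exists_smul_eq G (hHp.toSylow hidx) T
      have hTeq : (T : Subgroup G) = H.map (MulAut.conj g).toMonoidHom := by
        rw [← hg, Sylow.coe_subgroup_smul, IsPGroup.toSylow_coe]
        rfl
      have hxT : x ∈ H.map (MulAut.conj g).toMonoidHom := by
        rw [← hTeq]
        exact hT (Subgroup.mem_sup_right (Subgroup.mem_zpowers x))
      have haT : a ∈ H.map (MulAut.conj g).toMonoidHom := by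
        rw [← hTeq]
        exact hT (Subgroup.mem_sup_left (Subgroup.mem_zpowers a))
      have hHg : H.map (MulAut.conj g).toMonoidHom = H := by
        by_contra hne
        have h1 := hTI g hne
        have hxmem : x ∈ H ⊓ H.map (MulAut.conj g).toMonoidHom := ⟨hx, hxT⟩
        rw [h1, Subgroup.mem_bot] at hxmem
        exact hx1 hxmem
      rw [hHg] at haT
      exact haT
    rw [hcab]
    exact H.mul_mem haH hbH
  · exact centralizer_le_of_not_primePow hCN H hH hmax hpp hne1 x hx hx1

/-- Let G be a finite group in which every non-identity element has nilpotent centralizer, and H a nilpotent subgroup not properly contained in any nilpotent subgroup. Then the order of H is coprime to its index; if the order of H is not a prime power then H ∩ gHg⁻¹ = 1 whenever gHg⁻¹ ≠ H; and if H ∩ gHg⁻¹ = 1 whenever gHg⁻¹ ≠ H, then C_G(x) ≤ H for every non-identity x ∈ H. -/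
theorem result {G : Type*} [Group G] [Finite G] (hCN : Cfsg.IsCNGroup G) (H : Subgroup G) (hH : Group.IsNilpotent H)
    (hmax : ∀ L : Subgroup G, Group.IsNilpotent L → H ≤ L → L = H) :
    (Nat.card H).Coprime H.index ∧
      (¬ IsPrimePow (Nat.card H) → Nat.card H ≠ 1 → ∀ g : G, H.map (MulAut.conj g).toMonoidHom ≠ H → H ⊓ H.map (MulAut.conj g).toMonoidHom = ⊥) ∧
      ((∀ g : G, H.map (MulAut.conj g).toMonoidHom ≠ H → H ⊓ H.map (MulAut.conj g).toMonoidHom = ⊥) → ∀ x ∈ H, x ≠ 1 → Subgroup.centralizer ({x} : Set G) ≤ H) := by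
  exact ⟨part1 hCN H hH hmax, fun hnpp hne1 g hg => part2 hCN H hH hmax hnpp hne1 g hg,
    fun hTI x hx hx1 => part3 hCN H hH hmax hTI x hx hx1⟩

end Cfsg.Agent.S1477
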