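import Mathlib
import Cfsg.Statements.S0120
import Cfsg.Agent.Lib.Helper1.OmegaOne

set_option autoImplicit false
open Cfsg

namespace Cfsg.Agent.S0120

open Cfsg.Agent.Lib.Helper1 SemidirectProduct

theorem result {G : Type*} [Group G] [Finite G] {p : ℕ} [Fact p.Prime] (hp : p ≠ 2) (hG : IsPGroup p G) (a : MulAut G) (ha : Nat.Coprime (orderOf a) p) (h : ∀ x : G, x ^ p = 1 → a x = x) : a = 1 := by
  have hfinAut : Finite (MulAut G) :=
    Finite.of_injective (fun f : MulAut G => (f : G → G)) DFunLike.coe_injective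
  set Z : Subgroup (MulAut G) := Subgroup.zpowers a with hZ
  set φ : Z →* MulAut G := Z.subtype with hφ
  have hfinS : Finite (G ⋊[φ] Z) := Finite.of_equiv _ (SemidirectProduct.equivProd (φ := φ)).symm
  set P : Subgroup (G ⋊[φ] Z) := (inl : G →* G ⋊[φ] Z).range with hP
  set A : Subgroup (G ⋊[φ] Z) := (inr : Z →* G ⋊[φ] Z).range with hA
  have hPp : IsPGroup p P := hG.of_equiv (MonoidHom.ofInjective inl_injective)
  have hAcard : Nat.card A = orderOf a := by
    rw [← Nat.card_zpowers a]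
    exact (Nat.card_congr (MonoidHom.ofInjective (inr_injective (φ := φ))).toEquiv).symm
  have hAcop : (Nat.card A).Coprime p := by rw [hAcard]; exact ha
  have hAP : A ≤ Subgroup.normalizer (P : Set (G ⋊[φ] Z)) := by
    have key : ∀ g : Z, ∀ x ∈ P, inr g * x * (inr g)⁻¹ ∈ P := by
      rintro g _ ⟨n, rfl⟩
      refine ⟨φ g n, ?_⟩
      rw [inl_aut, map_inv]
    rintro _ ⟨g, rfl⟩
    rw [Subgroup.mem_normalizer_iff]
    intro x
    constructor
    · exact key g x
    · intro hx
      have := key g⁻¹ _ hx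
      rw [map_inv] at this
      have e : (inr g : G ⋊[φ] Z)⁻¹ * (inr g * x * (inr g)⁻¹) * (inr g)⁻¹⁻¹ = x := by group
      rwa [e] at this
  -- every element of Z fixes the elements of order dividing p
  have hZfix : ∀ g : Z, ∀ n : G, n ^ p = 1 → φ g n = n := by
    intro g n hn
    obtain ⟨k, hk⟩ := Subgroup.mem_zpowers_iff.mp g.2
    have hg : φ g = a ^ k := by rw [hφ]; exact hk.symm
    rw [hg]
    have han : a n = n := h n hn
    have hfixed : n ∈ MulAction.fixedBy G a := han
    have : (a ^ k) • n = n := by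
      have hsub : n ∈ MulAction.fixedBy G (a ^ k) := by
        have := MulAction.fixedBy_subset_fixedBy_zpow G a k
        exact this hfixed
      exact hsub
    exact this
  have hfix : ∀ x ∈ P, x ^ p = 1 → A ≤ Subgroup.centralizer ({x} : Set (G ⋊[φ] Z)) := by
    rintro _ ⟨n, rfl⟩ hxp
    have hn : n ^ p = 1 := by
      apply inl_injective (φ := φ)
      rw [map_pow, map_one]; exact hxp
    rintro _ ⟨g, rfl⟩
    rw [Subgroup.mem_centralizer_iff]
    intro y hy
    rw [Set.mem_singleton_iff] at hy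
    rw [hy]
    have h1 := inl_aut (φ := φ) g n
    rw [hZfix g n hn] at h1
    have h6 : (inl n : G ⋊[φ] Z) * inr g = inr g * inl n * inr g⁻¹ * inr g :=
      congrArg (· * (inr g : G ⋊[φ] Z)) h1
    rw [h6, mul_assoc (inr g * inl n), ← map_mul, inv_mul_cancel, map_one, mul_one]
  have hcent := centralizes_of_centralizes_omega_one p hp A hAcop _ P rfl hPp hAP hfix
  ext n
  rw [MulAut.one_apply]
  have haZ : a ∈ Z := Subgroup.mem_zpowers a
  have h1 : (inr (⟨a, haZ⟩ : Z) : G ⋊[φ] Z) ∈ A := ⟨_, rfl⟩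
  have h2 := hcent h1
  rw [Subgroup.mem_centralizer_iff] at h2
  have h3 := h2 (inl n) ⟨n, rfl⟩
  have h4 := inl_aut (φ := φ) ⟨a, haZ⟩ n
  have h5 : (inl (φ ⟨a, haZ⟩ n) : G ⋊[φ] Z) = inl n := by
    rw [h4, ← h3]; rw [mul_assoc, ← map_mul, mul_inv_cancel, map_one, mul_one]
  exact inl_injective h5

end Cfsg.Agent.S0120
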