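import Mathlib
import Cfsg.Statements.S0522
import Cfsg.Agent.Lib.Helper13.Transitivity
-- import your own Cfsg.Agent.* helpers here

set_option autoImplicit false
open Cfsg

namespace Cfsg.Agent.S0522

open Cfsg.Agent.Lib Cfsg.Agent.Lib.Helper13 Subgroup
open scoped Pointwise

/-- `B = P ∩ C(B)` contains every `p`-element of `C(B)`. -/
theorem full_of_sylow {X : Type*} [Group X] [Finite X] (p : ℕ) [Fact p.Prime] (P : Sylow p X)
    (B : Subgroup X)
    (hBn : ∀ x ∈ (P : Subgroup X), ∀ b ∈ B, x * b * x⁻¹ ∈ B)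
    (hBc : (P : Subgroup X) ⊓ Subgroup.centralizer (B : Set X) = B) :
    ∀ y ∈ centralizer (B : Set X), IsPGroup p (zpowers y) → y ∈ B := by
  intro y hyC hyp
  obtain ⟨C, hCdef⟩ : ∃ C : Subgroup X, C = centralizer (B : Set X) := ⟨_, rfl⟩
  rw [← hCdef] at hyC hBc
  have hPC : (P : Subgroup X) ≤ normalizer (C : Set X) := by
    intro x hx
    have key : ∀ x ∈ (P : Subgroup X), ∀ c ∈ C, x * c * x⁻¹ ∈ C := by
      intro x hx c hc
      rw [hCdef, Subgroup.mem_centralizer_iff]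
      intro b hb
      have h1 : x⁻¹ * b * x ∈ B := by
        have := hBn x⁻¹ (inv_mem hx) b hb
        rwa [inv_inv] at this
      have h2 : (x⁻¹ * b * x) * c = c * (x⁻¹ * b * x) := by
        rw [hCdef] at hc
        exact Subgroup.mem_centralizer_iff.mp hc _ h1
      calc b * (x * c * x⁻¹) = x * ((x⁻¹ * b * x) * c) * x⁻¹ := by group
        _ = x * (c * (x⁻¹ * b * x)) * x⁻¹ := by rw [h2]
        _ = x * c * x⁻¹ * b := by group
    rw [Subgroup.mem_normalizer_iff]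
    intro c
    constructor
    · exact key x hx c
    · intro h
      have := key x⁻¹ (inv_mem hx) _ h
      rw [inv_inv] at this
      have h3 : x⁻¹ * (x * c * x⁻¹) * x = c := by group
      rwa [h3] at this
  obtain ⟨H, hHdef⟩ : ∃ H : Subgroup X, H = C ⊔ (P : Subgroup X) := ⟨_, rfl⟩
  have hPH : (P : Subgroup X) ≤ H := hHdef ▸ le_sup_right
  have hCH : C ≤ H := hHdef ▸ le_sup_left
  have hyH : y ∈ H := hCH hyC
  obtain ⟨S, hS⟩ := (hyp.comap_subtype (H := zpowers y) (K := H)).exists_le_sylow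
  obtain ⟨g, hg⟩ := MulAction.exists_smul_eq H S (P.subtype hPH)
  have h1 : g * ⟨y, hyH⟩ * g⁻¹ ∈ ((g • S : Sylow p H) : Subgroup H) := by
    rw [Sylow.coe_subgroup_smul, mem_cj]
    have h2 : g⁻¹ * (g * ⟨y, hyH⟩ * g⁻¹) * g = ⟨y, hyH⟩ := by group
    rw [h2]
    apply hS
    rw [Subgroup.mem_comap]
    exact Subgroup.mem_zpowers y
  rw [hg, Sylow.coe_subtype, Subgroup.mem_subgroupOf] at h1
  have h1' : (g : X) * y * (g : X)⁻¹ ∈ (P : Subgroup X) := by simpa using h1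
  have hginv : (g : X)⁻¹ ∈ C ⊔ (P : Subgroup X) := by
    rw [← hHdef]; exact H.inv_mem g.2
  obtain ⟨c, hc, u, hu, hcu⟩ := exists_mul_of_mem_sup_of_le_normalizer hPC hginv
  have hg' : (g : X) = u⁻¹ * c⁻¹ := by
    rw [← mul_inv_rev, hcu, inv_inv]
  rw [hg'] at h1'
  have h3 : c⁻¹ * y * c ∈ (P : Subgroup X) := by
    have h4 := (P : Subgroup X).mul_mem ((P : Subgroup X).mul_mem hu h1') (inv_mem hu)
    have h5 : u * (u⁻¹ * c⁻¹ * y * (u⁻¹ * c⁻¹)⁻¹) * u⁻¹ = c⁻¹ * y * c := by group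
    rwa [h5] at h4
  have h6 : c⁻¹ * y * c ∈ C := C.mul_mem (C.mul_mem (C.inv_mem hc) hyC) hc
  have h7 : c⁻¹ * y * c ∈ B := by
    rw [← hBc]; exact ⟨h3, h6⟩
  have h8 : c * (c⁻¹ * y * c) = (c⁻¹ * y * c) * c := by
    rw [hCdef] at hc
    exact (Subgroup.mem_centralizer_iff.mp hc _ h7).symm
  have h9 : y = c⁻¹ * y * c := by
    have h10 : y = c * (c⁻¹ * y * c) * c⁻¹ := by group
    rw [h8, mul_inv_cancel_right] at h10
    exact h10
  rw [h9]; exact h7

theorem main {X : Type*} [Group X] [Finite X] (hX : Odd (Nat.card X)) (p : ℕ)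
    [hp : Fact p.Prime] (hloc : ∀ T : Subgroup X, IsPGroup p T → T ≠ ⊥ →
      Group.IsSolvable (Subgroup.normalizer (T : Set X)))
    (P : Sylow p X) (B : Subgroup X) (hBP : B ≤ (P : Subgroup X))
    (hBn : ∀ x ∈ (P : Subgroup X), ∀ b ∈ B, x * b * x⁻¹ ∈ B) (hBa : IsMulCommutative B)
    (hBc : (P : Subgroup X) ⊓ Subgroup.centralizer (B : Set X) = B)
    (hB3 : ∃ E : Subgroup X, E ≤ B ∧ (∀ e ∈ E, e ^ p = 1) ∧ p ^ 3 ≤ Nat.card E)
    (q : ℕ) [Fact q.Prime] (hqp : q ≠ p) (Q₁ Q₂ : Subgroup X)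
    (h₁ : IsMaxInv B q Q₁) (h₂ : IsMaxInv B q Q₂) :
    ∃ c ∈ Subgroup.centralizer (B : Set X), Q₂ = Q₁.map (MulAut.conj c).toMonoidHom := by
  obtain ⟨E, hEB, hEexp, hE3⟩ := hB3
  have hBp : IsPGroup p B := P.2.to_le hBP
  have hEp : IsPGroup p E := hBp.to_le hEB
  have hp2 : p ≠ 2 := by
    rintro rfl
    obtain ⟨k, hk⟩ := hEp.exists_card_eq
    have h1 : Nat.card E ∣ Nat.card X := Subgroup.card_dvd_of_le le_top |>.trans (by
      rw [Subgroup.card_top])
    have h2 : Odd (Nat.card E) := Odd.of_dvd_nat hX h1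
    rw [hk] at h2 hE3
    have hk3 : 3 ≤ k := by
      by_contra h
      have : k < 3 := by omega
      have := Nat.pow_lt_pow_right (a := 2) (by norm_num) this
      omega
    have : Even (2 ^ k) := by
      refine ⟨2 ^ (k - 1), ?_⟩
      have : k = (k - 1) + 1 := by omega
      conv_lhs => rw [this, pow_succ]
      ring
    exact (Nat.not_even_iff_odd.mpr h2) this
  have hBab : ∀ x ∈ B, ∀ y ∈ B, x * y = y * x := by
    intro x hx y hy
    exact congrArg Subtype.val (hBa.is_comm.comm (⟨x, hx⟩ : B) ⟨y, hy⟩)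
  have hBfull := full_of_sylow p P B hBn hBc
  -- subgroup of order `p³`
  obtain ⟨k, hk⟩ := hEp.exists_card_eq
  have hk3 : 3 ≤ k := by
    by_contra h
    have h1 : k < 3 := by omega
    have := Nat.pow_lt_pow_right hp.out.one_lt h1
    rw [hk] at hE3
    omega
  have hdvd : p ^ 3 ∣ Nat.card E := by
    rw [hk]; exact pow_dvd_pow p hk3
  obtain ⟨K, hK⟩ := Sylow.exists_subgroup_card_pow_prime p hdvd
  obtain ⟨E₀, hE₀def⟩ : ∃ E₀ : Subgroup X, E₀ = K.map E.subtype := ⟨_, rfl⟩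
  have hE₀E : E₀ ≤ E := by rw [hE₀def]; exact Subgroup.map_subtype_le K
  have hE₀card : Nat.card E₀ = p ^ 3 := by
    rw [hE₀def, Subgroup.card_map_of_injective E.subtype_injective, hK]
  obtain ⟨c, hc, hcQ⟩ := transitivity p hp2 hloc B hBp hBab hBfull E₀ (hE₀E.trans hEB)
    (fun x hx => hEexp x (hE₀E hx)) hE₀card q hqp Q₁ Q₂ h₁ h₂
  exact ⟨c, hc, hcQ⟩

end Cfsg.Agent.S0522

namespace Cfsg.Agent.S0522

/-- Transitivity Theorem (odd-order setting). Let X be a finite group of odd order in which the normalizer of every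
nontrivial p-subgroup is solvable, P a Sylow p-subgroup, and B an abelian subgroup of P, normalized by P, with
C_P(B) = B and containing an elementary abelian subgroup of order p^3. Then for every prime q ≠ p, any two q-subgroups
that are maximal among the q-subgroups normalized by B are conjugate by an element of the centralizer of B. -/
theorem result {X : Type*} [Group X] [Finite X] (hX : Odd (Nat.card X)) (p : ℕ)
    [Fact p.Prime] (hloc : ∀ T : Subgroup X, IsPGroup p T → T ≠ ⊥ → Group.IsSolvable (Subgroup.normalizer (T : Set X)))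
    (P : Sylow p X) (B : Subgroup X) (hBP : B ≤ (P : Subgroup X))
    (hBn : ∀ x ∈ (P : Subgroup X), ∀ b ∈ B, x * b * x⁻¹ ∈ B) (hBa : IsMulCommutative B)
    (hBc : (P : Subgroup X) ⊓ Subgroup.centralizer (B : Set X) = B)
    (hB3 : ∃ E : Subgroup X, E ≤ B ∧ (∀ e ∈ E, e ^ p = 1) ∧ p ^ 3 ≤ Nat.card E)
    (q : ℕ) [Fact q.Prime] (hqp : q ≠ p) (Q₁ Q₂ : Subgroup X)
    (h₁ : IsPGroup q Q₁ ∧ B ≤ Subgroup.normalizer (Q₁ : Set X) ∧
      ∀ R : Subgroup X, IsPGroup q R → B ≤ Subgroup.normalizer (R : Set X) → Q₁ ≤ R → R = Q₁)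
    (h₂ : IsPGroup q Q₂ ∧ B ≤ Subgroup.normalizer (Q₂ : Set X) ∧
      ∀ R : Subgroup X, IsPGroup q R → B ≤ Subgroup.normalizer (R : Set X) → Q₂ ≤ R → R = Q₂) :
    ∃ c ∈ Subgroup.centralizer (B : Set X), Q₂ = Q₁.map (MulAut.conj c).toMonoidHom := by
  exact main hX p hloc P B hBP hBn hBa hBc hB3 q hqp Q₁ Q₂ h₁ h₂

end Cfsg.Agent.S0522
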