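import Mathlib
import Cfsg.Statements.S1396
import Cfsg.Agent.Lib.Helper13.TransCrit
import Cfsg.Agent.S0522
-- import your own Cfsg.Agent.* helpers here

set_option autoImplicit false
open Cfsg

namespace Cfsg.Agent.S1396

/-- Let G be a minimal simple group of odd order, p a prime dividing the order of G and A an abelian p-subgroup. Suppose either (1) A consists exactly of the elements x of C_G(A) with x^p = 1, and every proper subgroup of G has p-length at most one, or (2) A is normal and self-centralizing in some Sylow p-subgroup of G and has rank at least 2. Then A satisfies the transitivity hypothesis. -/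
theorem result {G : Type*} [Group G] [Finite G] (hG : Cfsg.IsMinSimpleOddOrder G)
    (p : ℕ) [Fact p.Prime] (hp : p ∣ Nat.card G) (A : Subgroup G) (hAp : IsPGroup p A) (hAc : IsMulCommutative A)
    (h : (∀ x ∈ Subgroup.centralizer (A : Set G), x ^ p = 1 ↔ x ∈ A) ∧ (∀ H : Subgroup G, H ≠ ⊤ → Cfsg.PLengthLE p 1 H) ∨
      ∃ P : Sylow p G, Cfsg.IsSCN (P : Subgroup G) A ∧ ¬ Cfsg.PRankLE p 1 A) :
    Cfsg.TransitivityHypothesis A := by
  rcases h with ⟨h1, h2⟩ | ⟨P, hscn, hrank⟩
  · have hA1 : A ≠ ⊥ := by
      intro hbot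
      obtain ⟨x, hx⟩ := exists_prime_orderOf_dvd_card' (G := G) p hp
      have hxC : x ∈ Subgroup.centralizer (A : Set G) := by
        rw [hbot, Subgroup.mem_centralizer_iff]
        intro y hy
        rw [Subgroup.coe_bot, Set.mem_singleton_iff] at hy
        rw [hy, one_mul, mul_one]
      have hxp : x ^ p = 1 := by rw [← hx]; exact pow_orderOf_eq_one x
      have hxA := (h1 x hxC).mp hxp
      rw [hbot, Subgroup.mem_bot] at hxA
      rw [hxA, orderOf_one] at hx
      exact (Fact.out : p.Prime).one_lt.ne' hx.symm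
    exact Cfsg.Agent.Lib.Helper13.transHyp_of_plength_one hG p A hAp hA1
      (fun y hy hyp => (h1 y hy).mp hyp) h2
  · have hA1 : A ≠ ⊥ := by
      intro hbot
      apply hrank
      intro E _ _
      have hsub : Subsingleton ↥A := by
        rw [hbot]; infer_instance
      have : Nat.card ↥E = 1 := Nat.card_eq_one_iff_unique.mpr ⟨inferInstance, ⟨1⟩⟩
      rw [this]
      exact Nat.one_le_two_pow.trans (Nat.pow_le_pow_left (Fact.out : p.Prime).two_le 1)
    obtain ⟨hAP, hPA, hPC⟩ := hscn
    have hfull := Cfsg.Agent.S0522.full_of_sylow p P A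
      (fun x hx b hb => (Subgroup.mem_normalizer_iff.mp (hPA hx) b).mp hb) hPC
    exact Cfsg.Agent.Lib.Helper13.transHyp_of_full hG p A hAp hA1 hfull

end Cfsg.Agent.S1396
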