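import Cfsg.Statements.S0031
-- import your own Cfsg.Agent.* helpers here

set_option autoImplicit false
open Cfsg
open scoped Pointwise

namespace Cfsg.Agent.S0031

theorem mem_smul_sylow {G : Type*} [Group G] {p : ℕ} {g c : G} {P : Sylow p G} :
    c ∈ g • P ↔ g⁻¹ * c * g ∈ P := by
  have : (↑(g • P) : Subgroup G) = MulAut.conj g • (P : Subgroup G) := Sylow.coe_subgroup_smul
  show c ∈ (↑(g • P) : Subgroup G) ↔ _
  rw [this, Subgroup.mem_pointwise_smul_iff_inv_smul_mem]
  simp only [MulAut.smul_def, MulAut.conj_inv_apply]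
  exact Iff.rfl

/-- A fixed-point-free automorphism of a finite group maps some Sylow p-subgroup to itself. -/
theorem result {G : Type*} [Group G] [Finite G] (φ : G ≃* G)
    (hφ : MonoidHom.FixedPointFree (φ : G →* G)) (p : ℕ) [Fact p.Prime] :
    ∃ P : Sylow p G, (P : Subgroup G).map (φ : G →* G) = P := by
  obtain ⟨P⟩ : Nonempty (Sylow p G) := inferInstance
  -- φ(P) is a Sylow subgroup
  have hmapP : IsPGroup p ((P : Subgroup G).map (φ : G →* G)) := P.2.map _
  obtain ⟨Q, hQ⟩ := hmapP.exists_le_sylow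
  have hcard : Nat.card ((P : Subgroup G).map (φ : G →* G)) = Nat.card (Q : Subgroup G) := by
    rw [Subgroup.card_map_of_injective (by exact φ.injective)]
    exact Nat.card_congr (Sylow.equiv P Q).toEquiv
  have hQeq : (P : Subgroup G).map (φ : G →* G) = Q :=
    Subgroup.eq_of_le_of_card_ge hQ hcard.ge
  obtain ⟨g, hg⟩ := MulAction.exists_smul_eq G P Q
  -- choose y with y / φ y = g⁻¹
  obtain ⟨y, hy⟩ := hφ.commutatorMap_surjective g⁻¹
  have hy' : y * (φ y)⁻¹ = g⁻¹ := by
    have := hy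
    simp only [MonoidHom.commutatorMap_apply, div_eq_mul_inv] at this
    exact this
  -- the Sylow subgroup y⁻¹ • P is φ-invariant
  refine ⟨y⁻¹ • P, ?_⟩
  apply Subgroup.ext
  intro c
  have hQmem : ∀ c, c ∈ Q ↔ g⁻¹ * c * g ∈ P := by
    intro c
    rw [← hg, mem_smul_sylow]
  have hφP : ∀ d, φ d ∈ Q ↔ d ∈ P := by
    intro d
    have : φ d ∈ (P : Subgroup G).map (φ : G →* G) ↔ d ∈ (P : Subgroup G) := by
      constructor
      · rintro ⟨e, he, hed⟩
        have : e = d := φ.injective hed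
        rw [← this]; exact he
      · intro hd
        exact ⟨d, hd, rfl⟩
    rw [hQeq] at this
    exact this
  constructor
  · rintro ⟨d, hd, rfl⟩
    have hd' : y * d * y⁻¹ ∈ P := by
      have := (mem_smul_sylow (g := y⁻¹) (c := d) (P := P)).mp hd
      simpa using this
    -- φ (y d y⁻¹) ∈ Q
    have h1 : φ (y * d * y⁻¹) ∈ Q := (hφP _).mpr hd'
    have h2 := (hQmem _).mp h1
    -- g⁻¹ φ(y) φ(d) φ(y)⁻¹ g = y φ d y⁻¹
    show (φ : G →* G) d ∈ (y⁻¹ • P : Sylow p G)
    rw [mem_smul_sylow, inv_inv]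
    have hg' : g = φ y * y⁻¹ := by
      have : g⁻¹ = y * (φ y)⁻¹ := hy'.symm
      calc g = (g⁻¹)⁻¹ := by simp
        _ = (y * (φ y)⁻¹)⁻¹ := by rw [this]
        _ = φ y * y⁻¹ := by group
    have : g⁻¹ * φ (y * d * y⁻¹) * g = y * φ d * y⁻¹ := by
      rw [map_mul, map_mul, map_inv, hg']
      group
    rw [this] at h2
    exact h2
  · intro hc
    have hc' : y * c * y⁻¹ ∈ P := by
      have := (mem_smul_sylow (g := y⁻¹) (c := c) (P := P)).mp hc
      simpa using this
    -- c = φ d where d = φ⁻¹ c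
    obtain ⟨d, rfl⟩ := φ.surjective c
    refine ⟨d, ?_, rfl⟩
    show d ∈ (y⁻¹ • P : Sylow p G)
    rw [mem_smul_sylow, inv_inv]
    rw [← hφP, hQmem]
    have hg' : g = φ y * y⁻¹ := by
      have : g⁻¹ = y * (φ y)⁻¹ := hy'.symm
      calc g = (g⁻¹)⁻¹ := by simp
        _ = (y * (φ y)⁻¹)⁻¹ := by rw [this]
        _ = φ y * y⁻¹ := by group
    have : g⁻¹ * φ (y * d * y⁻¹) * g = y * φ d * y⁻¹ := by
      rw [map_mul, map_mul, map_inv, hg']
      group
    rw [this]
    exact hc'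

end Cfsg.Agent.S0031
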