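import Cfsg.Statements.S0046
import Mathlib
import Cfsg.Agent.S0034
import Cfsg.Agent.Lib.Helper13.SZConjB

set_option autoImplicit false
open Cfsg

namespace Cfsg.Agent.S0046

open Cfsg.Agent.Lib.Helper13
open scoped Pointwise

universe u

section
variable {G : Type u} [Group G]

/-- Conjugation as an order isomorphism of the subgroup lattice. -/
def cjIso (g : G) : Subgroup G ≃o Subgroup G where
  toFun H := MulAut.conj g • H
  invFun H := MulAut.conj g⁻¹ • H
  left_inv H := by
    show MulAut.conj g⁻¹ • MulAut.conj g • H = H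
    rw [← cj_mul, inv_mul_cancel, cj_one]
  right_inv H := by
    show MulAut.conj g • MulAut.conj g⁻¹ • H = H
    rw [← cj_mul, mul_inv_cancel, cj_one]
  map_rel_iff' := Subgroup.pointwise_smul_le_pointwise_smul_iff

theorem isCoatom_cj {M : Subgroup G} (hM : IsCoatom M) (g : G) : IsCoatom (MulAut.conj g • M) :=
  ((cjIso g).isCoatom_iff M).mpr hM

variable [Finite G]

/-- In a finite group with nilpotent maximal subgroups and no proper nontrivial normal subgroups,
distinct maximal subgroups intersect trivially. -/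
theorem coatoms_inf_eq_bot (h : ∀ M : Subgroup G, IsCoatom M → Group.IsNilpotent M)
    (hsimple : ∀ N : Subgroup G, N.Normal → N = ⊥ ∨ N = ⊤)
    (M₁ M₂ : Subgroup G) (h₁ : IsCoatom M₁) (h₂ : IsCoatom M₂) (hne : M₁ ≠ M₂) : M₁ ⊓ M₂ = ⊥ := by
  by_contra hbot
  -- choose a maximal nontrivial intersection
  obtain ⟨I, ⟨⟨A, B, hA, hB, hAB, rfl⟩, hIne⟩, hImax⟩ :=
    (Set.toFinite {I : Subgroup G | (∃ A B : Subgroup G, IsCoatom A ∧ IsCoatom B ∧ A ≠ B ∧ I = A ⊓ B) ∧
      I ≠ ⊥}).exists_maximal ⟨M₁ ⊓ M₂, ⟨M₁, M₂, h₁, h₂, hne, rfl⟩, hbot⟩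
  -- the normalizer of I is proper
  have hNtop : Subgroup.normalizer ((A ⊓ B : Subgroup G) : Set G) ≠ ⊤ := by
    intro htop
    have hn : (A ⊓ B).Normal := Subgroup.normalizer_eq_top_iff.mp htop
    rcases hsimple _ hn with h0 | h0
    · exact hIne h0
    · exact hA.1 (top_le_iff.mp (h0 ▸ inf_le_left))
  obtain ⟨M, hM, hNM⟩ := (eq_top_or_exists_le_coatom _).resolve_left hNtop
  -- key: a coatom C containing I, C = M
  have key : ∀ C D : Subgroup G, IsCoatom C → IsCoatom D → C ≠ D → A ⊓ B = C ⊓ D → C = M := by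
    intro C D hC hD hCD hI
    by_contra hCM
    have hnil : Group.IsNilpotent C := h C hC
    have hlt : (C ⊓ D).subgroupOf C < ⊤ := by
      rw [lt_top_iff_ne_top, Ne, Subgroup.subgroupOf_eq_top]
      intro hle
      have hCD' : C ≤ D := le_inf_iff.mp hle |>.2
      rcases hC.le_iff.mp hCD' with h0 | h0
      · exact hD.1 h0
      · exact hCD h0.symm
    have hnc := Group.normalizerCondition_of_isNilpotent (G := C) _ hlt
    obtain ⟨x, hxN, hxI⟩ := SetLike.exists_of_lt hnc
    rw [← Subgroup.subgroupOf_normalizer_eq inf_le_left, Subgroup.mem_subgroupOf] at hxN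
    rw [Subgroup.mem_subgroupOf] at hxI
    -- x ∈ C ⊓ M, x ∉ I
    have hxM : (x : G) ∈ M := hNM (hI ▸ hxN)
    have hmem : C ⊓ M ∈ {I : Subgroup G | (∃ A B : Subgroup G, IsCoatom A ∧ IsCoatom B ∧ A ≠ B ∧ I = A ⊓ B) ∧
        I ≠ ⊥} := by
      refine ⟨⟨C, M, hC, hM, hCM, rfl⟩, ?_⟩
      intro h0
      have : (x : G) ∈ C ⊓ M := ⟨x.2, hxM⟩
      rw [h0, Subgroup.mem_bot] at this
      exact hxI (this ▸ Subgroup.one_mem _)
    have hle : A ⊓ B ≤ C ⊓ M := by
      rw [hI]
      refine le_inf inf_le_left ?_
      rw [← hI]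
      exact Subgroup.le_normalizer.trans hNM
    have := hImax hmem hle
    exact hxI (hI ▸ this ⟨x.2, hxM⟩)
  have e1 := key A B hA hB hAB rfl
  have e2 := key B A hB hA hAB.symm (inf_comm A B)
  exact hAB (e1.trans e2.symm)

/-- Under the same hypotheses (and `G` nonabelian), every maximal subgroup is a Frobenius complement. -/
theorem coatom_isFrobeniusComplement (h : ∀ M : Subgroup G, IsCoatom M → Group.IsNilpotent M)
    (hsimple : ∀ N : Subgroup G, N.Normal → N = ⊥ ∨ N = ⊤)
    (hnonab : ¬ ∀ a b : G, a * b = b * a)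
    (M : Subgroup G) (hM : IsCoatom M) : Cfsg.IsFrobeniusComplement M := by
  have hMbot : M ≠ ⊥ := by
    intro h0
    apply hnonab
    -- G is cyclic
    by_cases hg : ∀ g : G, g = 1
    · intro a b; rw [hg a, hg b]
    · obtain ⟨g, hg1⟩ := not_forall.mp hg
      have hz : Subgroup.zpowers g = ⊤ := by
        apply hM.2
        rw [h0, bot_lt_iff_ne_bot]
        intro hb
        exact hg1 (Subgroup.zpowers_eq_bot.mp hb)
      intro a b
      have ha : a ∈ Subgroup.zpowers g := hz ▸ Subgroup.mem_top a
      have hb : b ∈ Subgroup.zpowers g := hz ▸ Subgroup.mem_top b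
      obtain ⟨i, rfl⟩ := Subgroup.mem_zpowers_iff.mp ha
      obtain ⟨j, rfl⟩ := Subgroup.mem_zpowers_iff.mp hb
      exact ((Commute.refl g).zpow_zpow i j).eq
  have hnorm : Subgroup.normalizer (M : Set G) = M := by
    by_contra hne
    have hlt : M < Subgroup.normalizer (M : Set G) :=
      lt_of_le_of_ne Subgroup.le_normalizer (fun h0 => hne h0.symm)
    have htop := hM.2 _ hlt
    have hn : M.Normal := Subgroup.normalizer_eq_top_iff.mp htop
    rcases hsimple M hn with h0 | h0
    · exact hMbot h0
    · exact hM.1 h0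
  refine ⟨hMbot, hM.1, fun g hg => ?_⟩
  apply coatoms_inf_eq_bot h hsimple M _ hM (isCoatom_cj hM g)
  intro h0
  have : g ∈ Subgroup.normalizer (M : Set G) := cj_eq_self_iff_mem_normalizer.mp h0.symm
  rw [hnorm] at this
  exact hg this

/-- The simple nonabelian case is impossible. -/
theorem simple_case_false (h : ∀ M : Subgroup G, IsCoatom M → Group.IsNilpotent M)
    (hsimple : ∀ N : Subgroup G, N.Normal → N = ⊥ ∨ N = ⊤)
    (hnonab : ¬ ∀ a b : G, a * b = b * a) : False := by
  have hnt : Nontrivial G := by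
    by_contra hnt
    rw [not_nontrivial_iff_subsingleton] at hnt
    exact hnonab (fun a b => Subsingleton.elim _ _)
  obtain ⟨M, hM, _⟩ := (eq_top_or_exists_le_coatom (⊥ : Subgroup G)).resolve_left bot_ne_top
  have hMF := coatom_isFrobeniusComplement h hsimple hnonab M hM
  -- a nonidentity element of the Frobenius kernel of M
  have hker := Cfsg.Agent.S0034.card_kernel M hMF
  have hidx : 1 < M.index := by
    have h0 : M.index ≠ 0 := Subgroup.index_ne_zero_of_finite
    have h1 : M.index ≠ 1 := fun h1 => hM.1 (Subgroup.index_eq_one.mp h1)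
    omega
  have hex : ∃ x ∈ Cfsg.frobeniusKernel M, x ≠ 1 := by
    by_contra hcon
    push Not at hcon
    have hsub : Cfsg.frobeniusKernel M ⊆ {1} := fun x hx => hcon x hx
    have := Set.ncard_le_ncard hsub (Set.toFinite _)
    rw [Set.ncard_singleton, ← Nat.card_coe_set_eq, hker] at this
    omega
  obtain ⟨x, hxK, hx1⟩ := hex
  have hxM : ∀ g : G, x ∉ MulAut.conj g • M := by
    rcases hxK with h0 | h0
    · exact absurd h0 hx1
    · exact h0
  -- a maximal subgroup containing x
  have hzne : Subgroup.zpowers x ≠ ⊤ := by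
    intro hz
    apply hnonab
    intro a b
    have ha : a ∈ Subgroup.zpowers x := hz ▸ Subgroup.mem_top a
    have hb : b ∈ Subgroup.zpowers x := hz ▸ Subgroup.mem_top b
    obtain ⟨i, rfl⟩ := Subgroup.mem_zpowers_iff.mp ha
    obtain ⟨j, rfl⟩ := Subgroup.mem_zpowers_iff.mp hb
    exact ((Commute.refl x).zpow_zpow i j).eq
  obtain ⟨M', hM', hxM'⟩ := (eq_top_or_exists_le_coatom _).resolve_left hzne
  have hxM'' : x ∈ M' := hxM' (Subgroup.mem_zpowers x)
  have hM'F := coatom_isFrobeniusComplement h hsimple hnonab M' hM'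
  -- conjugates of M and M' are distinct
  have hdist : ∀ a b : G, MulAut.conj a • M ≠ MulAut.conj b • M' := by
    intro a b hab
    have : MulAut.conj (b⁻¹ * a) • M = M' := by
      rw [cj_mul, hab, ← cj_mul, inv_mul_cancel, cj_one]
    exact hxM (b⁻¹ * a) (this ▸ hxM'')
  -- the complements of the two kernels are disjoint and avoid 1
  have hdisj : Disjoint (Cfsg.frobeniusKernel M)ᶜ (Cfsg.frobeniusKernel M')ᶜ := by
    rw [Set.disjoint_left]
    intro y hy hy'
    obtain ⟨hy1, a, ha⟩ := (Cfsg.Agent.S0034.not_mem_kernel_iff M y).mp hy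
    obtain ⟨_, b, hb⟩ := (Cfsg.Agent.S0034.not_mem_kernel_iff M' y).mp hy'
    have h1 : y ∈ MulAut.conj a • M := mem_cj.mpr ha
    have h2 : y ∈ MulAut.conj b • M' := mem_cj.mpr hb
    have := coatoms_inf_eq_bot h hsimple _ _ (isCoatom_cj hM a) (isCoatom_cj hM' b) (hdist a b)
    have hmem : y ∈ MulAut.conj a • M ⊓ MulAut.conj b • M' := ⟨h1, h2⟩
    rw [this, Subgroup.mem_bot] at hmem
    exact hy1 hmem
  have hsub : (Cfsg.frobeniusKernel M)ᶜ ∪ (Cfsg.frobeniusKernel M')ᶜ ⊆ ({1} : Set G)ᶜ := by
    intro y hy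
    rcases hy with hy | hy
    · intro h1
      exact hy (Or.inl h1)
    · intro h1
      exact hy (Or.inl h1)
  have hcard := Set.ncard_le_ncard hsub (Set.toFinite _)
  rw [Set.ncard_union_eq hdisj (Set.toFinite _) (Set.toFinite _), ← Nat.card_coe_set_eq,
    ← Nat.card_coe_set_eq (s := (Cfsg.frobeniusKernel M')ᶜ),
    Cfsg.Agent.S0034.card_compl_kernel M hMF, Cfsg.Agent.S0034.card_compl_kernel M' hM'F,
    Set.ncard_compl, Set.ncard_singleton] at hcard
  -- arithmetic
  have e1 := Subgroup.card_mul_index M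
  have e2 := Subgroup.card_mul_index M'
  have hm : 2 ≤ Nat.card M := by
    have := M.one_lt_card_iff_ne_bot.mpr hMF.1
    omega
  have hm' : 2 ≤ Nat.card M' := by
    have := M'.one_lt_card_iff_ne_bot.mpr hM'F.1
    omega
  have hG : 0 < Nat.card G := Nat.card_pos
  have hi : 0 < M.index := by omega
  have hi' : 0 < M'.index := Nat.pos_of_ne_zero Subgroup.index_ne_zero_of_finite
  obtain ⟨m, hmeq⟩ : ∃ m, Nat.card M = m + 2 := ⟨Nat.card M - 2, by omega⟩
  obtain ⟨m', hm'eq⟩ : ∃ m', Nat.card M' = m' + 2 := ⟨Nat.card M' - 2, by omega⟩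
  rw [hmeq] at hcard e1
  rw [hm'eq] at hcard e2
  have h3 : M.index * (m + 2 - 1) = M.index * m + M.index := by
    have : m + 2 - 1 = m + 1 := by omega
    rw [this]; ring
  have h4 : M'.index * (m' + 2 - 1) = M'.index * m' + M'.index := by
    have : m' + 2 - 1 = m' + 1 := by omega
    rw [this]; ring
  rw [h3, h4] at hcard
  have hcard' := (Nat.le_sub_one_iff_lt hG).mp hcard
  have e1' : Nat.card G = M.index * m + 2 * M.index := by rw [← e1]; ring
  have e2' : Nat.card G = M'.index * m' + 2 * M'.index := by rw [← e2]; ring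
  have p1 : 0 ≤ M.index * m := Nat.zero_le _
  have p2 : 0 ≤ M'.index * m' := Nat.zero_le _
  linarith

end

theorem schmidt_aux (n : ℕ) : ∀ (G : Type u) [Group G] [Finite G], Nat.card G = n →
    (∀ M : Subgroup G, IsCoatom M → Group.IsNilpotent M) → Group.IsSolvable G := by
  induction n using Nat.strong_induction_on with
  | _ n ih =>
  intro G _ _ hn h
  by_cases hsimple : ∀ N : Subgroup G, N.Normal → N = ⊥ ∨ N = ⊤
  · by_cases hab : ∀ a b : G, a * b = b * a
    · exact Group.isSolvable_of_comm hab
    · exact (simple_case_false h hsimple hab).elim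
  · push Not at hsimple
    obtain ⟨N, hNn, hNbot, hNtop⟩ := hsimple
    obtain ⟨M, hM, hNM⟩ := (eq_top_or_exists_le_coatom N).resolve_left hNtop
    have hMnil := h M hM
    have hMsolv : Group.IsSolvable M := inferInstance
    have hNsolv : Group.IsSolvable N := isSolvable_of_le hNM hMsolv
    have hNcard : 1 < Nat.card N := N.one_lt_card_iff_ne_bot.mpr hNbot
    have hQcard : Nat.card (G ⧸ N) < n := by
      rw [← hn, ← Subgroup.card_mul_index N, ← Subgroup.index_eq_card]
      have : 0 < N.index := Nat.pos_of_ne_zero Subgroup.index_ne_zero_of_finite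
      nlinarith
    have hsurj := QuotientGroup.mk'_surjective N
    have hQ : Group.IsSolvable (G ⧸ N) := ih _ hQcard (G ⧸ N) rfl (by
      intro Mbar hMbar
      have hcoatom : IsCoatom (Mbar.comap (QuotientGroup.mk' N)) := by
        constructor
        · intro htop
          apply hMbar.1
          rw [← Subgroup.map_comap_eq_self_of_surjective hsurj Mbar, htop,
            Subgroup.map_top_of_surjective _ hsurj]
        · intro K hK
          have hNK : N ≤ K := by
            refine le_trans ?_ hK.le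
            intro x hx
            rw [Subgroup.mem_comap, QuotientGroup.mk'_apply, (QuotientGroup.eq_one_iff x).mpr hx]
            exact Subgroup.one_mem _
          have hle : Mbar ≤ K.map (QuotientGroup.mk' N) := by
            rw [← Subgroup.map_comap_eq_self_of_surjective hsurj Mbar]
            exact Subgroup.map_mono hK.le
          have hne : Mbar ≠ K.map (QuotientGroup.mk' N) := by
            intro heq
            have : K ≤ Mbar.comap (QuotientGroup.mk' N) := by
              rw [heq]; exact Subgroup.le_comap_map _ _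
            exact absurd hK (not_lt_of_ge this)
          have htop := hMbar.2 _ (lt_of_le_of_ne hle hne)
          have hker : (QuotientGroup.mk' N).ker ≤ K := by rw [QuotientGroup.ker_mk']; exact hNK
          rw [← Subgroup.comap_map_eq_self hker, htop, Subgroup.comap_top]
      have hnil := h _ hcoatom
      exact Group.nilpotent_of_surjective ((QuotientGroup.mk' N).subgroupComap Mbar)
        (MonoidHom.subgroupComap_surjective_of_surjective _ Mbar hsurj))
    exact Group.isSolvable_of_ker_le_range N.subtype (QuotientGroup.mk' N)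
      (by rw [QuotientGroup.ker_mk', Subgroup.range_subtype])

/-- Schmidt's Theorem on minimal non-nilpotent groups: a finite group in which every maximal subgroup is nilpotent is solvable. -/
theorem result {G : Type*} [Group G] [Finite G]
    (h : ∀ M : Subgroup G, IsCoatom M → Group.IsNilpotent M) : Group.IsSolvable G := by
  exact schmidt_aux _ G rfl h

end Cfsg.Agent.S0046
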