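import Cfsg.Statements.S0536
import Mathlib
import Cfsg.Agent.S0046

set_option autoImplicit false
open Cfsg

namespace Cfsg.Agent.S0536

open Cfsg.Agent.Lib.Helper13
open scoped Pointwise

universe u

section
variable {G : Type u} [Group G] [Finite G]

/-- A normal maximal subgroup has prime index. -/
theorem index_prime_of_normal_coatom (M : Subgroup G) [hMn : M.Normal] (hM : IsCoatom M) :
    M.index.Prime := by
  have h1 : M.index ≠ 1 := fun h => hM.1 (Subgroup.index_eq_one.mp h)
  obtain ⟨p, hp⟩ : ∃ p, p = M.index.minFac := ⟨_, rfl⟩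
  have hpp : p.Prime := hp ▸ Nat.minFac_prime h1
  have hpF : Fact p.Prime := ⟨hpp⟩
  have hdvd : p ∣ Nat.card (G ⧸ M) := by
    rw [← Subgroup.index_eq_card, hp]; exact Nat.minFac_dvd _
  obtain ⟨x, hx⟩ := exists_prime_orderOf_dvd_card' p hdvd
  obtain ⟨K, hK⟩ : ∃ K : Subgroup G, K = (Subgroup.zpowers x).comap (QuotientGroup.mk' M) := ⟨_, rfl⟩
  have hKcard : Nat.card K = Nat.card M * p := by
    rw [hK]
    have := QuotientGroup.card_preimage_mk M ((Subgroup.zpowers x : Subgroup (G ⧸ M)) : Set (G ⧸ M))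
    rw [← hx, ← Nat.card_zpowers]
    exact this
  have hMK : M ≤ K := by
    rw [hK]
    intro y hy
    rw [Subgroup.mem_comap, QuotientGroup.mk'_apply, (QuotientGroup.eq_one_iff y).mpr hy]
    exact Subgroup.one_mem _
  have hne : M ≠ K := by
    intro h
    rw [← h] at hKcard
    have hpos : 0 < Nat.card M := Nat.card_pos
    have := hpp.one_lt
    nlinarith
  have hKtop : K = ⊤ := hM.2 K (lt_of_le_of_ne hMK hne)
  have e := Subgroup.card_mul_index M
  rw [hKtop, Subgroup.card_top] at hKcard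
  rw [hKcard] at e
  have := Nat.eq_of_mul_eq_mul_left Nat.card_pos e
  rw [this]; exact hpp

/-- A normal nilpotent subgroup of prime index `p` yields normal Sylow `r`-subgroups for `r ≠ p`. -/
theorem exists_normal_sylow (M : Subgroup G) [hMn : M.Normal] (hMnil : Group.IsNilpotent M) (p : ℕ)
    (hp : p.Prime) (hidx : M.index = p) (r : ℕ) [hr : Fact r.Prime] (hrp : r ≠ p) :
    ∃ R : Sylow r G, (R : Subgroup G).Normal := by
  obtain ⟨R₀⟩ : Nonempty (Sylow r M) := inferInstance
  have hR₀n : (R₀ : Subgroup M).Normal := inferInstance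
  have hR₀c : (R₀ : Subgroup M).Characteristic := Sylow.characteristic_of_normal R₀ hR₀n
  have hRn : ((R₀ : Subgroup M).map M.subtype).Normal := ConjAct.normal_of_characteristic_of_normal
  have hRp : IsPGroup r ((R₀ : Subgroup M).map M.subtype) := R₀.isPGroup'.map _
  have hRidx : ¬ r ∣ ((R₀ : Subgroup M).map M.subtype).index := by
    rw [Subgroup.index_map_subtype, hidx]
    intro h
    rcases (Nat.Prime.dvd_mul hr.out).mp h with h | h
    · exact R₀.not_dvd_index h
    · exact hrp ((Nat.prime_dvd_prime_iff_eq hr.out hp).mp h)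
  refine ⟨hRp.toSylow hRidx, ?_⟩
  rw [IsPGroup.toSylow_coe]
  exact hRn

omit [Finite G] in
/-- In a nilpotent join of a `p`-subgroup and a normal `q`-subgroup the two commute. -/
theorem le_centralizer_of_nilpotent_sup [Finite G] (p q : ℕ) [Fact p.Prime] [Fact q.Prime] (hpq : p ≠ q)
    (X Q : Subgroup G) (hX : IsPGroup p X) (hQ : IsPGroup q Q) [hQn : Q.Normal]
    (hnil : Group.IsNilpotent ↥(X ⊔ Q)) : X ≤ Subgroup.centralizer (Q : Set G) := by
  have hX' : IsPGroup p (X.subgroupOf (X ⊔ Q)) := hX.comap_subtype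
  have hQ' : IsPGroup q (Q.subgroupOf (X ⊔ Q)) := hQ.comap_subtype
  obtain ⟨PH, hle⟩ := hX'.exists_le_sylow
  have hPHn : (PH : Subgroup ↥(X ⊔ Q)).Normal := inferInstance
  have hQ'n : (Q.subgroupOf (X ⊔ Q)).Normal := inferInstance
  have hdis : Disjoint (PH : Subgroup ↥(X ⊔ Q)) (Q.subgroupOf (X ⊔ Q)) :=
    IsPGroup.disjoint_of_ne p q hpq _ _ PH.isPGroup' hQ'
  have hcomm := Subgroup.commutator_eq_bot_of_disjoint hdis
  rw [Subgroup.commutator_eq_bot_iff_le_centralizer] at hcomm
  intro x hx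
  rw [Subgroup.mem_centralizer_iff]
  intro y hy
  have hx' : (⟨x, Subgroup.mem_sup_left hx⟩ : ↥(X ⊔ Q)) ∈ (PH : Subgroup ↥(X ⊔ Q)) :=
    hle (Subgroup.mem_subgroupOf.mpr hx)
  have hy' : (⟨y, Subgroup.mem_sup_right hy⟩ : ↥(X ⊔ Q)) ∈ Q.subgroupOf (X ⊔ Q) :=
    Subgroup.mem_subgroupOf.mpr hy
  have := Subgroup.mem_centralizer_iff.mp (hcomm hx') _ hy'
  exact congrArg Subtype.val this

end

/-- Structure of minimal non-nilpotent groups: if a finite group is not nilpotent but all its proper subgroups are, then there are distinct primes p and q, a cyclic Sylow p-subgroup P and a normal Sylow q-subgroup Q with G generated by P and Q. -/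
theorem result {G : Type*} [Group G] [Finite G] (hG : Cfsg.IsMinimalNonNilpotent G) : ∃ p q : ℕ, p.Prime ∧ q.Prime ∧ p ≠ q ∧ ∃ (P : Sylow p G) (Q : Sylow q G), IsCyclic P ∧ (Q : Subgroup G).Normal ∧ (P : Subgroup G) ⊔ Q = ⊤ := by
  obtain ⟨hnn, hprop⟩ := hG
  have hsolv : Group.IsSolvable G := Cfsg.Agent.S0046.result (fun M hM => hprop M hM.1)
  have hnt : Nontrivial G := by
    by_contra hnt
    rw [not_nontrivial_iff_subsingleton] at hnt
    exact hnn inferInstance
  have hcomm : commutator G < ⊤ := Group.IsSolvable.commutator_lt_top_of_nontrivial G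
  obtain ⟨M, hM, hcM⟩ := (eq_top_or_exists_le_coatom (commutator G)).resolve_left hcomm.ne
  have hMn : M.Normal := Subgroup.Normal.of_commutator_le G hcM
  obtain ⟨p, hpdef⟩ : ∃ p, p = M.index := ⟨_, rfl⟩
  have hp : p.Prime := hpdef ▸ index_prime_of_normal_coatom M hM
  have hpF : Fact p.Prime := ⟨hp⟩
  have hMnil := hprop M hM.1
  have hRn : ∀ (r : ℕ) [Fact r.Prime], r ≠ p → ∃ R : Sylow r G, (R : Subgroup G).Normal :=
    fun r _ hrp => exists_normal_sylow M hMnil p hp hpdef.symm r hrp
  obtain ⟨P⟩ : Nonempty (Sylow p G) := inferInstance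
  have hPnn : ¬ (P : Subgroup G).Normal := by
    intro hPn
    apply hnn
    refine ((Group.isNilpotent_of_finite_tfae (G := G)).out 0 3 rfl rfl).mpr ?_
    intro r hr S
    by_cases hrp : r = p
    · subst hrp
      have := Sylow.unique_of_normal P hPn
      rw [Subsingleton.elim S P]; exact hPn
    · obtain ⟨R, hR⟩ := hRn r hrp
      have := Sylow.unique_of_normal R hR
      rw [Subsingleton.elim S R]; exact hR
  -- a prime q with P ⊔ Q = ⊤
  have hex : ∃ q : ℕ, q.Prime ∧ q ≠ p ∧ ∃ Q : Sylow q G, (Q : Subgroup G).Normal ∧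
      (P : Subgroup G) ⊔ Q = ⊤ := by
    by_contra hcon
    push Not at hcon
    apply hPnn
    rw [← Subgroup.normalizer_eq_top_iff]
    apply Subgroup.eq_top_of_le_card
    apply Nat.le_of_dvd Nat.card_pos
    rw [Nat.dvd_iff_prime_pow_dvd_dvd]
    intro r k hr hrk
    have hrF : Fact r.Prime := ⟨hr⟩
    by_cases hrp : r = p
    · subst hrp
      exact (P.pow_dvd_card_of_pow_dvd_card hrk).trans
        (Subgroup.card_dvd_of_le Subgroup.le_normalizer)
    · obtain ⟨R, hR⟩ := hRn r hrp
      have hne := hcon r hr hrp R hR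
      have hnil := hprop _ hne
      have h1 := le_centralizer_of_nilpotent_sup p r (fun h => hrp h.symm) (P : Subgroup G)
        (R : Subgroup G) P.isPGroup' R.isPGroup' hnil
      have h2 : (R : Subgroup G) ≤ Subgroup.normalizer ((P : Subgroup G) : Set G) :=
        (Subgroup.le_centralizer_iff.mp h1).trans (Subgroup.centralizer_le_normalizer _)
      exact (R.pow_dvd_card_of_pow_dvd_card hrk).trans (Subgroup.card_dvd_of_le h2)
  obtain ⟨q, hq, hqp, Q, hQn, hPQ⟩ := hex
  have hqF : Fact q.Prime := ⟨hq⟩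
  have hdis : Disjoint (P : Subgroup G) (Q : Subgroup G) :=
    IsPGroup.disjoint_of_ne p q (fun h => hqp h.symm) _ _ P.isPGroup' Q.isPGroup'
  refine ⟨p, q, hp, hq, fun h => hqp h.symm, P, Q, ?_, hQn, hPQ⟩
  by_contra hncyc
  apply hPnn
  -- P centralizes Q
  have hcent : (P : Subgroup G) ≤ Subgroup.centralizer ((Q : Subgroup G) : Set G) := by
    intro x hx
    have hXP : Subgroup.zpowers x ≤ (P : Subgroup G) := (Subgroup.zpowers_le).mpr hx
    have hne : Subgroup.zpowers x ⊔ (Q : Subgroup G) ≠ ⊤ := by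
      intro htop
      apply hncyc
      refine ⟨⟨⟨x, hx⟩, fun y => ?_⟩⟩
      have hy : (y : G) ∈ Subgroup.zpowers x ⊔ (Q : Subgroup G) := by rw [htop]; trivial
      obtain ⟨a, ha, b, hb, hab⟩ := Subgroup.mem_sup_of_normal_right.mp hy
      have hbP : b ∈ (P : Subgroup G) := by
        have : b = a⁻¹ * (y : G) := by rw [← hab]; group
        rw [this]
        exact Subgroup.mul_mem _ (Subgroup.inv_mem _ (hXP ha)) y.2
      have hb1 : b = 1 := by
        have : b ∈ (P : Subgroup G) ⊓ (Q : Subgroup G) := ⟨hbP, hb⟩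
        rw [hdis.eq_bot, Subgroup.mem_bot] at this
        exact this
      rw [hb1, mul_one] at hab
      obtain ⟨k, hk⟩ := Subgroup.mem_zpowers_iff.mp ha
      refine ⟨k, ?_⟩
      apply Subtype.ext
      show ((⟨x, hx⟩ ^ k : (P : Subgroup G)) : G) = y
      rw [Subgroup.coe_zpow]
      exact hk.trans hab
    have hnil := hprop _ hne
    have := le_centralizer_of_nilpotent_sup p q (fun h => hqp h.symm) (Subgroup.zpowers x)
      (Q : Subgroup G) (P.isPGroup'.to_le hXP) Q.isPGroup' hnil
    exact this (Subgroup.mem_zpowers x)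
  rw [← Subgroup.normalizer_eq_top_iff, eq_top_iff, ← hPQ]
  exact sup_le Subgroup.le_normalizer
    ((Subgroup.le_centralizer_iff.mp hcent).trans (Subgroup.centralizer_le_normalizer _))

end Cfsg.Agent.S0536
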