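import Cfsg.Statements.S0577
import Mathlib
import Cfsg.Agent.Lib.Helper13.Coprime
import Cfsg.Agent.Lib.Helper2.PGroupFrattini

set_option autoImplicit false
open Cfsg

namespace Cfsg.Agent.S0577

open scoped commutatorElement

universe u

/-- Lemma NC: a coprime action inside a nilpotent group is trivial. -/
theorem centralizes_of_coprime_nilpotent {G : Type u} [Group G] [Finite G] (R A : Subgroup G)
    (hAR : A ≤ Subgroup.normalizer (R : Set G))
    (hcop : (Nat.card A).Coprime (Nat.card R)) (hsolv : Group.IsSolvable A ∨ Group.IsSolvable R)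
    (hnil : Group.IsNilpotent ↥(R ⊔ A)) : ⁅R, A⁆ = ⊥ := by
  have hstab := Cfsg.Agent.Lib.Helper13.coprime_commutator_stable A R hAR hcop hsolv
  obtain ⟨n, hn⟩ := (Subgroup.isNilpotent_iff_lowerCentralSeries (R ⊔ A)).mp hnil
  have hRle : ⁅R, A⁆ ≤ R := Cfsg.Agent.Lib.Helper13.commutator_le_of_le_normalizer R A hAR
  have key : ∀ k : ℕ, ⁅R, A⁆ ≤ (R ⊔ A).lowerCentralSeries k := by
    intro k
    induction k with
    | zero =>
      rw [Subgroup.lowerCentralSeries_zero]
      exact hRle.trans le_sup_left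
    | succ k ih =>
      rw [Subgroup.lowerCentralSeries_succ, ← hstab]
      exact Subgroup.commutator_mono ih le_sup_right
  rw [eq_bot_iff, ← hn]
  exact key n

/-- a group generated by two commuting nilpotent subgroups is nilpotent -/
theorem nilpotent_of_commuting {G : Type u} [Group G] (Q K : Subgroup G)
    (hQ : Group.IsNilpotent Q) (hK : Group.IsNilpotent K)
    (hcomm : ∀ a ∈ Q, ∀ b ∈ K, a * b = b * a) (hsup : Q ⊔ K = ⊤) : Group.IsNilpotent G := by
  have hc : ∀ (m : Q) (n : K), Commute (Q.subtype m) (K.subtype n) := fun a b => hcomm a a.2 b b.2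
  let f : Q × K →* G := MonoidHom.noncommCoprod Q.subtype K.subtype hc
  have hsurj : Function.Surjective f := by
    rw [← MonoidHom.range_eq_top, eq_top_iff, ← hsup]
    apply sup_le
    · intro a ha
      refine ⟨(⟨a, ha⟩, 1), ?_⟩
      change Q.subtype ⟨a, ha⟩ * K.subtype 1 = a
      simp
    · intro b hb
      refine ⟨(1, ⟨b, hb⟩), ?_⟩
      change Q.subtype 1 * K.subtype ⟨b, hb⟩ = b
      simp
  exact Group.nilpotent_of_surjective f hsurj


/-- Let G be a finite minimal non-nilpotent group and Q a normal Sylow q-subgroup of G, and let D be the commutator subgroup of Q regarded in G (a normal subgroup). Then G modulo D is non-abelian and all its proper subgroups are abelian. -/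
theorem result {G : Type*} [Group G] [Finite G] (hG : Cfsg.IsMinimalNonNilpotent G) (q : ℕ) [Fact q.Prime] (hq : q ∣ Nat.card G) (Q : Sylow q G) (hQ : (Q : Subgroup G).Normal) (D : Subgroup G) [D.Normal] (hD : D = (commutator ↥(Q : Subgroup G)).map (Q : Subgroup G).subtype) : ¬ IsMulCommutative (G ⧸ D) ∧ ∀ K : Subgroup (G ⧸ D), K ≠ ⊤ → IsMulCommutative K := by
  classical
  haveI := hQ
  have hqp : q.Prime := Fact.out
  have hQp : IsPGroup q (Q : Subgroup G) := Q.2
  have hQnil : Group.IsNilpotent (Q : Subgroup G) := hQp.isNilpotent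
  have hQsolv : Group.IsSolvable (Q : Subgroup G) := by
    haveI := hQnil
    infer_instance
  have hQ1 : (Q : Subgroup G) ≠ ⊥ := by
    intro hbot
    have hdiv : q ∣ Nat.card (Q : Subgroup G) := by
      have := Q.card_eq_multiplicity
      rw [this]
      apply dvd_pow_self
      intro h0
      have := (Nat.factorization_eq_zero_iff (Nat.card G) q).mp h0
      rcases this with h | h | h
      · exact h hqp
      · exact h hq
      · exact Nat.card_pos.ne' h
    rw [hbot, Subgroup.card_bot] at hdiv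
    exact hqp.one_lt.ne' (Nat.dvd_one.mp hdiv)
  obtain ⟨K₀, hK₀⟩ := Subgroup.exists_right_complement'_of_coprime (N := (Q : Subgroup G))
    Q.card_coprime_index
  have hsup : (Q : Subgroup G) ⊔ K₀ = ⊤ := hK₀.sup_eq_top
  have hinf : (Q : Subgroup G) ⊓ K₀ = ⊥ := hK₀.disjoint.eq_bot
  have hK₀top : K₀ ≠ ⊤ := by
    intro h
    rw [h, inf_top_eq] at hinf
    exact hQ1 hinf
  have hK₀card : Nat.card K₀ = (Q : Subgroup G).index := (hK₀.symm.index_eq_card).symm
  have hcop : (Nat.card K₀).Coprime (Nat.card (Q : Subgroup G)) := by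
    rw [hK₀card]; exact Q.card_coprime_index.symm
  have hK₀nil : Group.IsNilpotent K₀ := hG.2 K₀ hK₀top
  have hnormQ : ∀ A : Subgroup G, A ≤ Subgroup.normalizer ((Q : Subgroup G) : Set G) := by
    intro A; rw [Subgroup.normalizer_eq_top]; exact le_top
  -- C1
  have hC1 : ∀ A : Subgroup G, A ≤ K₀ → (Q : Subgroup G) ⊔ A ≠ ⊤ →
      ∀ a ∈ (Q : Subgroup G), ∀ b ∈ A, a * b = b * a := by
    intro A hA hne a ha b hb
    have hnil := hG.2 _ hne
    have h1 := centralizes_of_coprime_nilpotent (Q : Subgroup G) A (hnormQ A)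
      (Nat.Coprime.of_dvd_left (Subgroup.card_dvd_of_le hA) hcop) (Or.inr hQsolv) hnil
    rw [Subgroup.commutator_eq_bot_iff_le_centralizer] at h1
    exact (Subgroup.mem_centralizer_iff.mp (h1 ha) b hb).symm
  have hnc : ¬ (∀ a ∈ (Q : Subgroup G), ∀ b ∈ K₀, a * b = b * a) := by
    intro h
    exact hG.1 (nilpotent_of_commuting (Q : Subgroup G) K₀ hQnil hK₀nil h hsup)
  -- K₀ is cyclic
  obtain ⟨c, hcK, hc⟩ : ∃ c ∈ K₀, Subgroup.zpowers c = K₀ := by
    by_contra hcon
    push Not at hcon
    apply hnc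
    intro a ha b hb
    apply hC1 (Subgroup.zpowers b) ((Subgroup.zpowers_le).mpr hb) _ a ha b (Subgroup.mem_zpowers b)
    intro htop
    apply hcon b hb
    apply le_antisymm ((Subgroup.zpowers_le).mpr hb)
    intro k hk
    have hk' : k ∈ (Q : Subgroup G) ⊔ Subgroup.zpowers b := by rw [htop]; trivial
    obtain ⟨u, hu, z, hz, rfl⟩ := Subgroup.mem_sup_of_normal_left.mp hk'
    have hzK : z ∈ K₀ := ((Subgroup.zpowers_le).mpr hb) hz
    have huK : u ∈ K₀ := by
      have : u = (u * z) * z⁻¹ := by group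
      rw [this]
      exact K₀.mul_mem hk (K₀.inv_mem hzK)
    have : u ∈ (Q : Subgroup G) ⊓ K₀ := ⟨hu, huK⟩
    rw [hinf, Subgroup.mem_bot] at this
    rw [this, one_mul]
    exact hz
  have hK₀comm : ∀ a ∈ K₀, ∀ b ∈ K₀, a * b = b * a := by
    intro a ha b hb
    rw [← hc] at ha hb
    obtain ⟨i, rfl⟩ := Subgroup.mem_zpowers_iff.mp ha
    obtain ⟨j, rfl⟩ := Subgroup.mem_zpowers_iff.mp hb
    rw [← zpow_add, ← zpow_add, add_comm]
  -- G/Q is abelian
  have hGQ : ∀ x y : G, ⁅x, y⁆ ∈ (Q : Subgroup G) := by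
    have hrep : ∀ x : G, ∃ k ∈ K₀, QuotientGroup.mk' (Q : Subgroup G) x = QuotientGroup.mk' (Q : Subgroup G) k := by
      intro x
      have hx : x ∈ (Q : Subgroup G) ⊔ K₀ := by rw [hsup]; trivial
      obtain ⟨u, hu, k, hk, rfl⟩ := Subgroup.mem_sup_of_normal_left.mp hx
      refine ⟨k, hk, ?_⟩
      have hu1 : QuotientGroup.mk' (Q : Subgroup G) u = 1 := (QuotientGroup.eq_one_iff u).mpr hu
      rw [map_mul, hu1, one_mul]
    intro x y
    obtain ⟨k, hk, hxk⟩ := hrep x
    obtain ⟨l, hl, hyl⟩ := hrep y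
    have h1 : QuotientGroup.mk' (Q : Subgroup G) ⁅x, y⁆ = 1 := by
      rw [map_commutatorElement, hxk, hyl, ← map_commutatorElement,
        commutatorElement_eq_one_iff_mul_comm.mpr (hK₀comm k hk l hl), map_one]
    exact (QuotientGroup.eq_one_iff _).mp h1
  have hcommD : ∀ r ∈ (Q : Subgroup G), ∀ r' ∈ (Q : Subgroup G), ⁅r, r'⁆ ∈ D := by
    intro r hr r' hr'
    rw [hD]
    refine Subgroup.mem_map.mpr ⟨⁅(⟨r, hr⟩ : (Q : Subgroup G)), ⟨r', hr'⟩⁆, ?_, rfl⟩
    rw [commutator_def]
    exact Subgroup.commutator_mem_commutator (Subgroup.mem_top _) (Subgroup.mem_top _)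
  constructor
  · -- part 1
    intro hab
    apply hnc
    have hallD : ∀ x y : G, ⁅x, y⁆ ∈ D := by
      intro x y
      have h1 : QuotientGroup.mk' D ⁅x, y⁆ = 1 := by
        rw [map_commutatorElement, commutatorElement_eq_one_iff_mul_comm]
        exact mul_comm' _ _
      exact (QuotientGroup.eq_one_iff _).mp h1
    have hDF : D ≤ (frattini (Q : Subgroup G)).map (Q : Subgroup G).subtype := by
      rw [hD]
      exact Subgroup.map_mono (Cfsg.Agent.Lib.Helper2.commutator_le_frattini_of_isPGroup hQp)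
    have hdecomp := Cfsg.Agent.Lib.Helper13.coprime_commutator_sup_centralizer K₀ (Q : Subgroup G)
      (hnormQ K₀) hcop (Or.inr hQsolv)
    have hQK₀D : ⁅(Q : Subgroup G), K₀⁆ ≤ D := by
      rw [Subgroup.commutator_le]
      intro a _ b _
      exact hallD a b
    have hle : (Q : Subgroup G) ≤ (frattini (Q : Subgroup G)).map (Q : Subgroup G).subtype ⊔
        ((Q : Subgroup G) ⊓ Subgroup.centralizer (K₀ : Set G)) := by
      conv_lhs => rw [← hdecomp]
      exact sup_le_sup_right (hQK₀D.trans hDF) _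
    have h1 : ((frattini (Q : Subgroup G)).map (Q : Subgroup G).subtype ⊔
        ((Q : Subgroup G) ⊓ Subgroup.centralizer (K₀ : Set G))).subgroupOf (Q : Subgroup G) = ⊤ :=
      Subgroup.subgroupOf_eq_top.mpr hle
    rw [Subgroup.subgroupOf_sup (Subgroup.map_subtype_le _) inf_le_left] at h1
    have h2 : ((frattini (Q : Subgroup G)).map (Q : Subgroup G).subtype).subgroupOf (Q : Subgroup G)
        = frattini (Q : Subgroup G) :=
      Subgroup.comap_map_eq_self_of_injective (Q : Subgroup G).subtype_injective _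
    rw [h2, sup_comm] at h1
    have h3 := frattini_nongenerating h1
    rw [Subgroup.subgroupOf_eq_top] at h3
    intro a ha b hb
    exact (Subgroup.mem_centralizer_iff.mp (h3 ha).2 b hb).symm
  · -- part 2
    intro Kbar hKbar
    have hsurjD := QuotientGroup.mk'_surjective D
    have hK : Kbar.comap (QuotientGroup.mk' D) ≠ ⊤ := by
      intro h
      apply hKbar
      apply Subgroup.comap_injective hsurjD
      rw [h, Subgroup.comap_top]
    have hKnil : Group.IsNilpotent ↥(Kbar.comap (QuotientGroup.mk' D)) := hG.2 _ hK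
    -- all commutators of elements of K lie in D
    have hkey : ∀ x y : ↥(Kbar.comap (QuotientGroup.mk' D)), ((⁅x, y⁆ : ↥(Kbar.comap (QuotientGroup.mk' D))) : G) ∈ D := by
      obtain ⟨K, hKdef⟩ : ∃ K : Subgroup G, K = Kbar.comap (QuotientGroup.mk' D) := ⟨_, rfl⟩
      rw [← hKdef] at hKnil ⊢
      haveI := hKnil
      have hR'p : IsPGroup q ((Q : Subgroup G).subgroupOf K) := hQp.comap_subtype
      obtain ⟨j, hj⟩ := (IsPGroup.iff_card).mp hR'p
      have hidx : ((Q : Subgroup G).subgroupOf K).index ∣ (Q : Subgroup G).index :=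
        Subgroup.relIndex_dvd_index_of_normal _ _
      have hqidx : (q).Coprime ((Q : Subgroup G).index) :=
        (Nat.Prime.coprime_iff_not_dvd hqp).mpr Q.not_dvd_index
      have hcopK : (Nat.card ((Q : Subgroup G).subgroupOf K)).Coprime
          ((Q : Subgroup G).subgroupOf K).index := by
        rw [hj]
        exact (Nat.Coprime.of_dvd_right hidx hqidx).pow_left j
      obtain ⟨M', hM'⟩ := Subgroup.exists_right_complement'_of_coprime hcopK
      have hsupK : (Q : Subgroup G).subgroupOf K ⊔ M' = ⊤ := hM'.sup_eq_top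
      have hinfK : (Q : Subgroup G).subgroupOf K ⊓ M' = ⊥ := hM'.disjoint.eq_bot
      have hM'card : Nat.card M' = ((Q : Subgroup G).subgroupOf K).index := (hM'.symm.index_eq_card).symm
      have hsolvR' : Group.IsSolvable ((Q : Subgroup G).subgroupOf K) := by
        haveI := hR'p.isNilpotent
        infer_instance
      have hNC := centralizes_of_coprime_nilpotent ((Q : Subgroup G).subgroupOf K) M'
        (by rw [Subgroup.normalizer_eq_top]; exact le_top)
        (by rw [hM'card]; exact hcopK.symm) (Or.inr hsolvR') inferInstance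
      rw [Subgroup.commutator_eq_bot_iff_le_centralizer] at hNC
      have hRM : ∀ r ∈ (Q : Subgroup G).subgroupOf K, ∀ m ∈ M', m * r = r * m := by
        intro r hr m hm
        exact Subgroup.mem_centralizer_iff.mp (hNC hr) m hm
      have hMM : ∀ m ∈ M', ∀ m' ∈ M', m * m' = m' * m := by
        intro m hm m' hm'
        have h1 : ⁅m, m'⁆ ∈ M' := by
          rw [commutatorElement_def]
          exact M'.mul_mem (M'.mul_mem (M'.mul_mem hm hm') (M'.inv_mem hm)) (M'.inv_mem hm')
        have h2 : ⁅m, m'⁆ ∈ (Q : Subgroup G).subgroupOf K := by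
          rw [Subgroup.mem_subgroupOf]
          have := hGQ (m : G) (m' : G)
          simpa [commutatorElement_def] using this
        have h3 : ⁅m, m'⁆ ∈ (Q : Subgroup G).subgroupOf K ⊓ M' := ⟨h2, h1⟩
        rw [hinfK, Subgroup.mem_bot, commutatorElement_eq_one_iff_mul_comm] at h3
        exact h3
      intro x y
      have hx : x ∈ (Q : Subgroup G).subgroupOf K ⊔ M' := by rw [hsupK]; trivial
      have hy : y ∈ (Q : Subgroup G).subgroupOf K ⊔ M' := by rw [hsupK]; trivial
      obtain ⟨r, hr, m, hm, rfl⟩ := Subgroup.mem_sup_of_normal_left.mp hx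
      obtain ⟨r', hr', m', hm', rfl⟩ := Subgroup.mem_sup_of_normal_left.mp hy
      have e1 : (r * m) * (r' * m') = (r * r') * (m * m') := by
        calc (r * m) * (r' * m') = r * (m * r') * m' := by group
          _ = r * (r' * m) * m' := by rw [hRM r' hr' m hm]
          _ = (r * r') * (m * m') := by group
      have e2 : (r' * m') * (r * m) = (r' * r) * (m * m') := by
        calc (r' * m') * (r * m) = r' * (m' * r) * m := by group
          _ = r' * (r * m') * m := by rw [hRM r hr m' hm']
          _ = (r' * r) * (m' * m) := by group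
          _ = (r' * r) * (m * m') := by rw [hMM m' hm' m hm]
      have e3 : ⁅r * m, r' * m'⁆ = ⁅r, r'⁆ := by
        have : ⁅r * m, r' * m'⁆ = ((r * m) * (r' * m')) * ((r' * m') * (r * m))⁻¹ := by
          rw [commutatorElement_def]; group
        rw [this, e1, e2, commutatorElement_def]
        group
      rw [e3]
      have := hcommD (r : G) (Subgroup.mem_subgroupOf.mp hr) (r' : G) (Subgroup.mem_subgroupOf.mp hr')
      simpa [commutatorElement_def] using this
    refine ⟨⟨fun a b => ?_⟩⟩
    obtain ⟨x, hx⟩ := hsurjD a.1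
    obtain ⟨y, hy⟩ := hsurjD b.1
    have hxK : x ∈ Kbar.comap (QuotientGroup.mk' D) := by
      rw [Subgroup.mem_comap, hx]; exact a.2
    have hyK : y ∈ Kbar.comap (QuotientGroup.mk' D) := by
      rw [Subgroup.mem_comap, hy]; exact b.2
    have h1 := hkey ⟨x, hxK⟩ ⟨y, hyK⟩
    have h2 : QuotientGroup.mk' D ⁅x, y⁆ = 1 := by
      apply (QuotientGroup.eq_one_iff _).mpr
      simpa [commutatorElement_def] using h1
    rw [map_commutatorElement, commutatorElement_eq_one_iff_mul_comm, hx, hy] at h2
    exact Subtype.ext h2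

end Cfsg.Agent.S0577
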