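import Cfsg.Statements.S0582
import Mathlib
import Cfsg.Agent.Lib.Helper17.SupersolvableChief

set_option autoImplicit false
open Pointwise
open Cfsg

namespace Cfsg.Agent.S0582

open Cfsg.Agent.Lib.Helper17

universe u

/-- a supersolvable group has a normal subgroup of order the full `p`-part, `p` the largest prime -/
theorem exists_normal_sylow_aux (n : ℕ) : ∀ (G : Type u) [Group G] [Finite G],
    Nat.card G = n → Cfsg.IsSupersolvable G → ∀ p : ℕ, p.Prime →
    (∀ q : ℕ, q.Prime → q ∣ n → q ≤ p) →
    ∃ Q : Subgroup G, Q.Normal ∧ Nat.card Q = p ^ (n.factorization p) := by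
  induction n using Nat.strong_induction_on with
  | _ n ih =>
    intro G _ _ hn hG p hp hmax
    by_cases hpn : p ∣ n
    · obtain ⟨N, hNn, hNc⟩ := exists_normal_card_largest_prime_aux n G hn hG p hp hpn hmax
      have hcard : Nat.card G = Nat.card (G ⧸ N) * p := by
        rw [← hNc]; exact N.card_eq_card_quotient_mul_card_subgroup
      have hpos : 0 < Nat.card (G ⧸ N) := Nat.card_pos
      have hlt : Nat.card (G ⧸ N) < n := by
        rw [← hn, hcard]
        nlinarith [hp.two_le]
      have hQ : Cfsg.IsSupersolvable (G ⧸ N) := isSupersolvable_quotient hG N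
      have hmaxQ : ∀ r : ℕ, r.Prime → r ∣ Nat.card (G ⧸ N) → r ≤ p := by
        intro r hr hrd
        apply hmax r hr
        rw [← hn, hcard]
        exact dvd_mul_of_dvd_left hrd _
      obtain ⟨Q', hQ'n, hQ'c⟩ := ih _ hlt (G ⧸ N) rfl hQ p hp hmaxQ
      refine ⟨Q'.comap (QuotientGroup.mk' N), hQ'n.comap _, ?_⟩
      rw [card_comap_mk', hQ'c, hNc, ← hn, hcard]
      rw [Nat.factorization_mul hpos.ne' hp.ne_zero]
      simp [hp.factorization_self, pow_succ]
    · refine ⟨⊥, inferInstance, ?_⟩
      rw [Nat.factorization_eq_zero_of_not_dvd hpn]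
      simp

theorem exists_normal_sylow {G : Type u} [Group G] [Finite G] (hG : Cfsg.IsSupersolvable G)
    (p : ℕ) (hp : p.Prime) (hmax : ∀ q : ℕ, q.Prime → q ∣ Nat.card G → q ≤ p) :
    ∃ Q : Subgroup G, Q.Normal ∧ Nat.card Q = p ^ ((Nat.card G).factorization p) :=
  exists_normal_sylow_aux (Nat.card G) G rfl hG p hp hmax

/-- conjugacy inside a subgroup gives conjugacy in the group -/
theorem conj_of_subgroupOf {G : Type*} [Group G] (N H K : Subgroup G) (hH : H ≤ N) (hK : K ≤ N)
    (x : N) (h : MulAut.conj x • H.subgroupOf N = K.subgroupOf N) :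
    MulAut.conj (x : G) • H = K := by
  ext g
  rw [Subgroup.mem_pointwise_smul_iff_inv_smul_mem]
  constructor
  · intro hg
    have hgN : g ∈ N := by
      have h1 : (MulAut.conj (x : G))⁻¹ • g ∈ N := hH hg
      have h2 : (MulAut.conj (x : G)) • ((MulAut.conj (x : G))⁻¹ • g) ∈ N := by
        rw [MulAut.smul_def, MulAut.conj_apply]
        exact N.mul_mem (N.mul_mem x.2 h1) (N.inv_mem x.2)
      rwa [smul_inv_smul] at h2
    have h3 : (⟨g, hgN⟩ : N) ∈ MulAut.conj x • H.subgroupOf N := by
      rw [Subgroup.mem_pointwise_smul_iff_inv_smul_mem, Subgroup.mem_subgroupOf]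
      simpa [MulAut.smul_def, MulAut.conj_symm_apply, MulAut.inv_def] using hg
    rw [h, Subgroup.mem_subgroupOf] at h3
    exact h3
  · intro hg
    have hgN : g ∈ N := hK hg
    have h3 : (⟨g, hgN⟩ : N) ∈ K.subgroupOf N := by
      rw [Subgroup.mem_subgroupOf]; exact hg
    rw [← h, Subgroup.mem_pointwise_smul_iff_inv_smul_mem, Subgroup.mem_subgroupOf] at h3
    simpa [MulAut.smul_def, MulAut.conj_symm_apply, MulAut.inv_def] using h3

/-- conjugacy in a quotient by a common normal subgroup gives conjugacy in the group -/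
theorem conj_of_quotient {G : Type*} [Group G] (P H K : Subgroup G) [P.Normal] (hH : P ≤ H)
    (hK : P ≤ K) (x : G)
    (h : MulAut.conj (QuotientGroup.mk' P x) • H.map (QuotientGroup.mk' P) =
      K.map (QuotientGroup.mk' P)) :
    MulAut.conj x • H = K := by
  have key : ∀ g : G, g ∈ K ↔ QuotientGroup.mk' P g ∈ K.map (QuotientGroup.mk' P) := by
    intro g
    constructor
    · intro hg; exact Subgroup.mem_map_of_mem _ hg
    · intro hg
      rw [← Subgroup.mem_comap, Subgroup.comap_map_eq_self] at hg
      · exact hg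
      · rw [QuotientGroup.ker_mk']; exact hK
  have keyH : ∀ g : G, g ∈ H ↔ QuotientGroup.mk' P g ∈ H.map (QuotientGroup.mk' P) := by
    intro g
    constructor
    · intro hg; exact Subgroup.mem_map_of_mem _ hg
    · intro hg
      rw [← Subgroup.mem_comap, Subgroup.comap_map_eq_self] at hg
      · exact hg
      · rw [QuotientGroup.ker_mk']; exact hH
  ext g
  rw [key g, ← h, Subgroup.mem_pointwise_smul_iff_inv_smul_mem,
    Subgroup.mem_pointwise_smul_iff_inv_smul_mem, keyH]
  simp [MulAut.smul_def, MulAut.conj_symm_apply, MulAut.inv_def]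

theorem le_normalizer_of_conj_mem' {G : Type*} [Group G] (S K : Subgroup G)
    (h : ∀ s ∈ S, ∀ k ∈ K, s * k * s⁻¹ ∈ K) : S ≤ Subgroup.normalizer (K : Set G) := by
  intro s hs
  rw [Subgroup.mem_normalizer_iff]
  intro k
  constructor
  · exact h s hs k
  · intro hk
    have := h s⁻¹ (S.inv_mem hs) _ hk
    have e : s⁻¹ * (s * k * s⁻¹) * s⁻¹⁻¹ = k := by group
    rwa [e] at this

/-- a conjugate of `H` normalizes the conjugate of a normal subgroup of `H` -/
theorem le_normalizer_conj {G : Type*} [Group G] (H : Subgroup G) (Q : Subgroup H) [hQ : Q.Normal]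
    (x : G) :
    MulAut.conj x • H ≤
      Subgroup.normalizer ((MulAut.conj x • Q.map H.subtype : Subgroup G) : Set G) := by
  apply le_normalizer_of_conj_mem'
  intro s hs k hk
  rw [Subgroup.mem_pointwise_smul_iff_inv_smul_mem] at hs hk ⊢
  obtain ⟨q, hq, hqk⟩ := hk
  have hconj : (⟨_, hs⟩ : H) * q * (⟨_, hs⟩ : H)⁻¹ ∈ Q := hQ.conj_mem q hq _
  refine ⟨_, hconj, ?_⟩
  simp only [Subgroup.subtype_apply, Subgroup.coe_mul, Subgroup.coe_inv] at hqk ⊢
  rw [hqk]
  simp only [MulAut.smul_def, MulAut.inv_def, MulAut.conj_symm_apply]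
  group

/-- the case of a common normal Sylow subgroup -/
theorem conj_of_common_normal {G : Type u} [Group G] [Finite G]
    (ih : ∀ m < Nat.card G, ∀ (G' : Type u) [Group G'] [Finite G'], Nat.card G' = m →
      ∀ H K : Subgroup G', Cfsg.IsSupersolvable H → Cfsg.IsSupersolvable K →
      Nat.card H = Nat.card K → (Nat.card H).Coprime H.index → ∃ x : G', MulAut.conj x • H = K)
    (P H K : Subgroup G) (hP : P ≠ ⊥) (hPH : P ≤ H) (hPK : P ≤ K)
    (hHN : H ≤ Subgroup.normalizer (P : Set G)) (hKN : K ≤ Subgroup.normalizer (P : Set G))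
    (hH : Cfsg.IsSupersolvable H) (hK : Cfsg.IsSupersolvable K)
    (hcard : Nat.card H = Nat.card K) (hHall : (Nat.card H).Coprime H.index) :
    ∃ x : G, MulAut.conj x • H = K := by
  by_cases hN : Subgroup.normalizer (P : Set G) = ⊤
  · -- P is normal: pass to the quotient
    haveI hPn : P.Normal := Subgroup.normalizer_eq_top_iff.mp hN
    have hcardG : Nat.card G = Nat.card (G ⧸ P) * Nat.card P :=
      P.card_eq_card_quotient_mul_card_subgroup
    have hP1 : 1 < Nat.card P := by
      rcases Nat.lt_or_ge 1 (Nat.card P) with h | h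
      · exact h
      · exfalso
        have hpos : 0 < Nat.card P := Nat.card_pos
        have : Nat.card P = 1 := by omega
        exact hP (Subgroup.card_eq_one.mp this)
    have hlt : Nat.card (G ⧸ P) < Nat.card G := by
      have hpos : 0 < Nat.card (G ⧸ P) := Nat.card_pos
      rw [hcardG]
      nlinarith
    have hcomapH : (H.map (QuotientGroup.mk' P)).comap (QuotientGroup.mk' P) = H := by
      apply Subgroup.comap_map_eq_self
      rw [QuotientGroup.ker_mk']; exact hPH
    have hcomapK : (K.map (QuotientGroup.mk' P)).comap (QuotientGroup.mk' P) = K := by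
      apply Subgroup.comap_map_eq_self
      rw [QuotientGroup.ker_mk']; exact hPK
    have hcH : Nat.card H = Nat.card (H.map (QuotientGroup.mk' P)) * Nat.card P := by
      conv_lhs => rw [← hcomapH]
      exact card_comap_mk' P _
    have hcK : Nat.card K = Nat.card (K.map (QuotientGroup.mk' P)) * Nat.card P := by
      conv_lhs => rw [← hcomapK]
      exact card_comap_mk' P _
    have hcard' : Nat.card (H.map (QuotientGroup.mk' P)) = Nat.card (K.map (QuotientGroup.mk' P)) := by
      have hpos : 0 < Nat.card P := Nat.card_pos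
      apply Nat.eq_of_mul_eq_mul_right hpos
      rw [← hcH, ← hcK, hcard]
    have hidx : (H.map (QuotientGroup.mk' P)).index = H.index := by
      conv_rhs => rw [← hcomapH]
      exact (Subgroup.index_comap_of_surjective _ (QuotientGroup.mk'_surjective P)).symm
    have hHall' : (Nat.card (H.map (QuotientGroup.mk' P))).Coprime
        (H.map (QuotientGroup.mk' P)).index := by
      rw [hidx]
      exact Nat.Coprime.coprime_dvd_left (Dvd.intro _ hcH.symm) hHall
    have hsH : Cfsg.IsSupersolvable (H.map (QuotientGroup.mk' P)) :=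
      isSupersolvable_of_surjective ((QuotientGroup.mk' P).subgroupMap H)
        ((QuotientGroup.mk' P).subgroupMap_surjective H) hH
    have hsK : Cfsg.IsSupersolvable (K.map (QuotientGroup.mk' P)) :=
      isSupersolvable_of_surjective ((QuotientGroup.mk' P).subgroupMap K)
        ((QuotientGroup.mk' P).subgroupMap_surjective K) hK
    obtain ⟨xbar, hx⟩ := ih _ hlt (G ⧸ P) rfl _ _ hsH hsK hcard' hHall'
    obtain ⟨x, rfl⟩ := QuotientGroup.mk'_surjective P xbar
    exact ⟨x, conj_of_quotient P H K hPH hPK x hx⟩
  · -- work inside the normalizer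
    have hlt : Nat.card (Subgroup.normalizer (P : Set G)) < Nat.card G := by
      apply lt_of_le_of_ne (Subgroup.card_le_card_group _)
      intro h
      exact hN (Subgroup.eq_top_of_card_eq _ h)
    have hsH : Cfsg.IsSupersolvable (H.subgroupOf (Subgroup.normalizer (P : Set G))) :=
      isSupersolvable_of_mulEquiv (Subgroup.subgroupOfEquivOfLe hHN).symm hH
    have hsK : Cfsg.IsSupersolvable (K.subgroupOf (Subgroup.normalizer (P : Set G))) :=
      isSupersolvable_of_mulEquiv (Subgroup.subgroupOfEquivOfLe hKN).symm hK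
    have hcH : Nat.card (H.subgroupOf (Subgroup.normalizer (P : Set G))) = Nat.card H :=
      Nat.card_congr (Subgroup.subgroupOfEquivOfLe hHN).toEquiv
    have hcK : Nat.card (K.subgroupOf (Subgroup.normalizer (P : Set G))) = Nat.card K :=
      Nat.card_congr (Subgroup.subgroupOfEquivOfLe hKN).toEquiv
    have hHall' : (Nat.card (H.subgroupOf (Subgroup.normalizer (P : Set G)))).Coprime
        (H.subgroupOf (Subgroup.normalizer (P : Set G))).index := by
      rw [hcH]
      exact Nat.Coprime.coprime_dvd_right (Dvd.intro _ (Subgroup.relIndex_mul_index hHN)) hHall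
    obtain ⟨x, hx⟩ := ih _ hlt (Subgroup.normalizer (P : Set G)) rfl _ _ hsH hsK
      (by rw [hcH, hcK, hcard]) hHall'
    exact ⟨x, conj_of_subgroupOf _ H K hHN hKN x hx⟩

theorem main_aux (n : ℕ) : ∀ (G : Type u) [Group G] [Finite G], Nat.card G = n →
    ∀ H K : Subgroup G, Cfsg.IsSupersolvable H → Cfsg.IsSupersolvable K →
    Nat.card H = Nat.card K → (Nat.card H).Coprime H.index → ∃ x : G, MulAut.conj x • H = K := by
  induction n using Nat.strong_induction_on with
  | _ n ih =>
    intro G _ _ hn H K hH hK hcard hHall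
    by_cases hH1 : Nat.card H = 1
    · refine ⟨1, ?_⟩
      have h1 : H = ⊥ := Subgroup.card_eq_one.mp hH1
      have h2 : K = ⊥ := Subgroup.card_eq_one.mp (hcard ▸ hH1)
      rw [h1, h2]
      simp
    have hmpos : 0 < Nat.card H := Nat.card_pos
    have hne : (Nat.card H).primeFactors.Nonempty :=
      Nat.nonempty_primeFactors.mpr (by omega)
    obtain ⟨p, hpdef⟩ : ∃ p, p = (Nat.card H).primeFactors.max' hne := ⟨_, rfl⟩
    have hpmem : p ∈ (Nat.card H).primeFactors := hpdef ▸ Finset.max'_mem _ _
    have hp : p.Prime := Nat.prime_of_mem_primeFactors hpmem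
    have hpm : p ∣ Nat.card H := Nat.dvd_of_mem_primeFactors hpmem
    have hmax : ∀ q : ℕ, q.Prime → q ∣ Nat.card H → q ≤ p := fun q hq hqm => by
      rw [hpdef]
      exact Finset.le_max' _ _ (Nat.mem_primeFactors.mpr ⟨hq, hqm, hmpos.ne'⟩)
    haveI : Fact p.Prime := ⟨hp⟩
    obtain ⟨QH, hQHn, hQHc⟩ := exists_normal_sylow hH p hp hmax
    obtain ⟨QK, hQKn, hQKc⟩ := exists_normal_sylow hK p hp (by rw [← hcard]; exact hmax)
    have hfac : (Nat.card G).factorization p = (Nat.card H).factorization p := by
      rw [← H.card_mul_index, Nat.factorization_mul hmpos.ne' Subgroup.index_ne_zero_of_finite]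
      have hnd : ¬ p ∣ H.index := fun hd =>
        hp.ne_one (Nat.eq_one_of_dvd_coprimes hHall hpm hd)
      rw [Finsupp.add_apply, Nat.factorization_eq_zero_of_not_dvd hnd, add_zero]
    let PH : Sylow p G := Sylow.ofCard (QH.map H.subtype) (by
      rw [Subgroup.card_subtype, hQHc, hfac])
    let PK : Sylow p G := Sylow.ofCard (QK.map K.subtype) (by
      rw [Subgroup.card_subtype, hQKc, hfac, hcard])
    obtain ⟨x, hx⟩ := MulAction.exists_smul_eq G PH PK
    have hx' : MulAut.conj x • QH.map H.subtype = QK.map K.subtype := by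
      have := congrArg Sylow.toSubgroup hx
      rw [Sylow.coe_subgroup_smul] at this
      exact this
    -- the common Sylow subgroup
    have hPne : QK.map K.subtype ≠ ⊥ := by
      intro h
      have h1 : Nat.card (QK.map K.subtype) = 1 := by rw [h]; simp
      rw [Subgroup.card_subtype, hQKc] at h1
      have h2 : 0 < (Nat.card K).factorization p := by
        rw [← hcard]
        exact hp.factorization_pos_of_dvd hmpos.ne' hpm
      have h3 : 1 < p ^ (Nat.card K).factorization p := Nat.one_lt_pow h2.ne' hp.one_lt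
      omega
    have hPK : QK.map K.subtype ≤ K := Subgroup.map_subtype_le QK
    have hPH : QK.map K.subtype ≤ MulAut.conj x • H := by
      rw [← hx', Subgroup.pointwise_smul_le_pointwise_smul_iff]
      exact Subgroup.map_subtype_le QH
    have hHN : MulAut.conj x • H ≤ Subgroup.normalizer ((QK.map K.subtype : Subgroup G) : Set G) := by
      rw [← hx']
      exact le_normalizer_conj H QH x
    have hKN : K ≤ Subgroup.normalizer ((QK.map K.subtype : Subgroup G) : Set G) := by
      have := le_normalizer_conj K QK 1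
      simpa using this
    have hsH' : Cfsg.IsSupersolvable (MulAut.conj x • H : Subgroup G) :=
      isSupersolvable_of_mulEquiv (Subgroup.equivSMul (MulAut.conj x) H) hH
    have hcH' : Nat.card (MulAut.conj x • H : Subgroup G) = Nat.card H :=
      (Nat.card_congr (Subgroup.equivSMul (MulAut.conj x) H).toEquiv).symm
    have hidx : (MulAut.conj x • H : Subgroup G).index = H.index := by
      have h1 := (MulAut.conj x • H : Subgroup G).card_mul_index
      have h2 := H.card_mul_index
      rw [hcH'] at h1
      exact Nat.eq_of_mul_eq_mul_left hmpos (h1.trans h2.symm)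
    have ih' : ∀ m < Nat.card G, ∀ (G' : Type u) [Group G'] [Finite G'], Nat.card G' = m →
        ∀ H K : Subgroup G', Cfsg.IsSupersolvable H → Cfsg.IsSupersolvable K →
        Nat.card H = Nat.card K → (Nat.card H).Coprime H.index →
        ∃ x : G', MulAut.conj x • H = K := by
      intro m hm
      exact ih m (hn ▸ hm)
    obtain ⟨y, hy⟩ := conj_of_common_normal ih' (QK.map K.subtype) (MulAut.conj x • H) K hPne hPH hPK
      hHN hKN hsH' hK (by rw [hcH', hcard]) (by rw [hcH', hidx]; exact hHall)
    refine ⟨y * x, ?_⟩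
    rw [map_mul, mul_smul, hy]

/-- Let H and K be supersolvable subgroups of a finite group G of the same order, that order being coprime to their index. Then H and K are conjugate in G. -/
theorem result {G : Type*} [Group G] [Finite G] (H K : Subgroup G) (hH : Cfsg.IsSupersolvable H) (hK : Cfsg.IsSupersolvable K) (hcard : Nat.card H = Nat.card K) (hHall : (Nat.card H).Coprime H.index) : ∃ x : G, MulAut.conj x • H = K :=
  main_aux (Nat.card G) G rfl H K hH hK hcard hHall

end Cfsg.Agent.S0582
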