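import Cfsg.Statements.S0581
import Mathlib
import Cfsg.Agent.S0536
import Cfsg.Agent.S0577
import Cfsg.Agent.Lib.Helper17.SylowConj
import Cfsg.Agent.S0582

set_option autoImplicit false
open Pointwise
open Cfsg

namespace Cfsg.Agent.S0581

universe u

/-- decomposition of a group all of whose proper subgroups are nilpotent -/
theorem decomposition {K : Type u} [Group K] [Finite K] [Nontrivial K]
    (hK : ∀ M : Subgroup K, M ≠ ⊤ → Group.IsNilpotent M) :
    ∃ (p : ℕ) (_ : Fact p.Prime) (Q P : Subgroup K), Q.Normal ∧ Q ≠ ⊤ ∧ Q ⊔ P = ⊤ ∧ IsPGroup p P ∧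
      ¬ p ∣ Nat.card Q ∧ p ∣ Nat.card K := by
  by_cases hnil : Group.IsNilpotent K
  · -- nilpotent case
    have h1 : Nat.card K ≠ 1 := by
      intro h
      have := (Nat.card_eq_one_iff_unique.mp h).1
      exact not_subsingleton K this
    obtain ⟨p, hp, hpK⟩ := Nat.exists_prime_and_dvd h1
    haveI : Fact p.Prime := ⟨hp⟩
    obtain ⟨P0⟩ : Nonempty (Sylow p K) := inferInstance
    haveI hPn : (P0 : Subgroup K).Normal := inferInstance
    obtain ⟨R, hR⟩ := Subgroup.exists_right_complement'_of_coprime (N := (P0 : Subgroup K))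
      P0.card_coprime_index
    have hRcard : Nat.card R = (P0 : Subgroup K).index := hR.symm.index_eq_card.symm
    have hcop : (Nat.card R).Coprime (Nat.card (P0 : Subgroup K)) := by
      rw [hRcard]; exact P0.card_coprime_index.symm
    have hcomm : ⁅(P0 : Subgroup K), R⁆ = ⊥ := by
      apply Cfsg.Agent.S0577.centralizes_of_coprime_nilpotent (P0 : Subgroup K) R
      · rw [Subgroup.normalizer_eq_top]; exact le_top
      · exact hcop
      · right
        haveI := P0.isPGroup'.isNilpotent
        infer_instance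
      · infer_instance
    have hsup : (P0 : Subgroup K) ⊔ R = ⊤ := hR.sup_eq_top
    have hRn : R.Normal := by
      rw [← Subgroup.normalizer_eq_top_iff, eq_top_iff, ← hsup]
      apply sup_le
      · rw [Subgroup.commutator_eq_bot_iff_le_centralizer] at hcomm
        exact hcomm.trans (Subgroup.centralizer_le_normalizer _)
      · exact Subgroup.le_normalizer
    have hpR : ¬ p ∣ Nat.card R := by
      rw [hRcard]; exact P0.not_dvd_index
    refine ⟨p, ⟨hp⟩, R, P0, hRn, ?_, ?_, P0.isPGroup', hpR, hpK⟩
    · intro h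
      rw [h] at hpR
      apply hpR
      rw [Subgroup.card_top]
      exact hpK
    · rw [sup_comm]; exact hsup
  · -- minimal non-nilpotent
    have hmin : Cfsg.IsMinimalNonNilpotent K := ⟨hnil, hK⟩
    obtain ⟨p, q, hp, hq, hpq, P0, Q0, -, hQn, hsup⟩ := Cfsg.Agent.S0536.result hmin
    haveI : Fact p.Prime := ⟨hp⟩
    haveI : Fact q.Prime := ⟨hq⟩
    have hQtop : (Q0 : Subgroup K) ≠ ⊤ := by
      intro h
      apply hnil
      have h1 : IsPGroup q K := by
        intro g
        obtain ⟨k, hk⟩ := Q0.isPGroup' ⟨g, h ▸ Subgroup.mem_top g⟩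
        exact ⟨k, by simpa using congrArg Subtype.val hk⟩
      exact h1.isNilpotent
    have hpQ : ¬ p ∣ Nat.card (Q0 : Subgroup K) := by
      obtain ⟨k, hk⟩ := (IsPGroup.iff_card).mp Q0.isPGroup'
      rw [hk]
      intro hd
      have := (Nat.prime_dvd_prime_iff_eq hp hq).mp (hp.dvd_of_dvd_pow hd)
      exact hpq this
    have hpK : p ∣ Nat.card K := by
      by_contra hnd
      have hP1 : Nat.card (P0 : Subgroup K) = 1 := by
        rw [Sylow.card_eq_multiplicity, Nat.factorization_eq_zero_of_not_dvd hnd, pow_zero]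
      have hPbot : (P0 : Subgroup K) = ⊥ := Subgroup.card_eq_one.mp hP1
      rw [hPbot, bot_sup_eq] at hsup
      exact hQtop hsup
    refine ⟨p, ⟨hp⟩, Q0, P0, hQn, hQtop, ?_, P0.isPGroup', hpQ, hpK⟩
    rw [sup_comm]; exact hsup

/-- the key step: a `p`-subgroup normalizing a `p'`-subgroup `Q ≤ H` can be moved into `H` by an
element normalizing `Q` -/
theorem lemmaC {G : Type u} [Group G] [Finite G] (H Q P : Subgroup G) (hH : Group.IsNilpotent H)
    (hHall : (Nat.card H).Coprime H.index) (p : ℕ) [hpf : Fact p.Prime] (hpH : p ∣ Nat.card H)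
    (hQH : Q ≤ H) (hPQ : P ≤ Subgroup.normalizer (Q : Set G)) (hP : IsPGroup p P)
    (hpQ : ¬ p ∣ Nat.card Q) : ∃ y : G, Q ⊔ P ≤ MulAut.conj y • H := by
  have hp : p.Prime := hpf.out
  obtain ⟨S0⟩ : Nonempty (Sylow p H) := inferInstance
  haveI hS0n : (S0 : Subgroup H).Normal := inferInstance
  obtain ⟨S, hS⟩ : ∃ S : Subgroup G, S = (S0 : Subgroup H).map H.subtype := ⟨_, rfl⟩
  have hSH : S ≤ H := hS ▸ Subgroup.map_subtype_le _
  have hSp : IsPGroup p S := hS ▸ S0.isPGroup'.map _
  have hScard : Nat.card S = p ^ (Nat.card H).factorization p := by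
    rw [hS, Subgroup.card_subtype, Sylow.card_eq_multiplicity]
  have hSidx : ¬ p ∣ S.index := by
    have h1 : S.relIndex H * H.index = S.index := Subgroup.relIndex_mul_index hSH
    have h2 : S.relIndex H = (S0 : Subgroup H).index := by
      unfold Subgroup.relIndex
      rw [hS, Subgroup.subgroupOf, Subgroup.comap_map_eq_self_of_injective H.subtype_injective]
    rw [← h1, h2]
    intro hd
    rcases (Nat.Prime.dvd_mul hp).mp hd with h | h
    · exact S0.not_dvd_index h
    · exact hp.ne_one (Nat.eq_one_of_dvd_coprimes hHall hpH h)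
  have hHNS : H ≤ Subgroup.normalizer (S : Set G) := by
    have := Cfsg.Agent.S0582.le_normalizer_conj H (S0 : Subgroup H) 1
    rw [← hS] at this
    simpa using this
  have hcomm : ⁅S, Q⁆ = ⊥ := by
    apply Cfsg.Agent.S0577.centralizes_of_coprime_nilpotent S Q
    · exact hQH.trans hHNS
    · rw [hScard]
      exact Nat.Coprime.pow_right _ ((Nat.Prime.coprime_iff_not_dvd hp).mpr hpQ).symm
    · right
      haveI := hSp.isNilpotent
      infer_instance
    · haveI := hH
      have hle : S ⊔ Q ≤ H := sup_le hSH hQH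
      exact Group.nilpotent_of_mulEquiv (Subgroup.subgroupOfEquivOfLe hle)
  have hSN : S ≤ Subgroup.normalizer (Q : Set G) := by
    rw [Subgroup.commutator_eq_bot_iff_le_centralizer] at hcomm
    exact hcomm.trans (Subgroup.centralizer_le_normalizer _)
  have hidx : ¬ p ∣ S.relIndex (Subgroup.normalizer (Q : Set G)) := by
    intro hd
    apply hSidx
    rw [← Subgroup.relIndex_mul_index hSN]
    exact dvd_mul_of_dvd_left hd _
  obtain ⟨k, hkN, hk⟩ := Cfsg.Agent.Lib.Helper17.exists_conj_le_of_not_dvd_relIndex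
    (Subgroup.normalizer (Q : Set G)) S P hSp hidx hP hPQ
  refine ⟨k⁻¹, ?_⟩
  apply sup_le
  · intro g hg
    rw [Subgroup.mem_pointwise_smul_iff_inv_smul_mem]
    have h1 : k * g * k⁻¹ ∈ Q := ((Subgroup.mem_normalizer_iff).mp hkN g).mp hg
    have h2 : k * g * k⁻¹ ∈ H := hQH h1
    simpa [MulAut.smul_def, MulAut.conj_symm_apply, MulAut.inv_def] using h2
  · intro g hg
    rw [Subgroup.mem_pointwise_smul_iff_inv_smul_mem]
    have h2 : k * g * k⁻¹ ∈ H := hSH (hk g hg)
    simpa [MulAut.smul_def, MulAut.conj_symm_apply, MulAut.inv_def] using h2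

theorem main {G : Type u} [Group G] [Finite G] (H : Subgroup G) (hH : Group.IsNilpotent H)
    (hHall : (Nat.card H).Coprime H.index) (n : ℕ) :
    ∀ K : Subgroup G, Nat.card K = n → (∀ p : ℕ, p.Prime → p ∣ Nat.card K → p ∣ Nat.card H) →
    ∃ x : G, K ≤ MulAut.conj x • H := by
  induction n using Nat.strong_induction_on with
  | _ n ih =>
    intro K hKn hKπ
    by_cases hKbot : K = ⊥
    · exact ⟨1, by rw [hKbot]; exact bot_le⟩
    haveI : Nontrivial K := (Subgroup.nontrivial_iff_ne_bot K).mpr hKbot
    have hconjnil : ∀ x : G, Group.IsNilpotent (MulAut.conj x • H : Subgroup G) := by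
      intro x
      haveI := hH
      exact Group.nilpotent_of_mulEquiv (Subgroup.equivSMul (MulAut.conj x) H)
    have hltcard : ∀ M : Subgroup K, M ≠ ⊤ → Nat.card (M.map K.subtype) < n := by
      intro M hM
      rw [Subgroup.card_subtype, ← hKn]
      exact lt_of_le_of_ne (Subgroup.card_le_card_group M)
        (fun h => hM (Subgroup.eq_top_of_card_eq _ h))
    have hπsub : ∀ M : Subgroup K, ∀ p : ℕ, p.Prime → p ∣ Nat.card (M.map K.subtype) →
        p ∣ Nat.card H := by
      intro M p hp hd
      apply hKπ p hp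
      rw [Subgroup.card_subtype] at hd
      exact hd.trans (Subgroup.card_subgroup_dvd_card M)
    -- proper subgroups are nilpotent
    have hprop : ∀ M : Subgroup K, M ≠ ⊤ → Group.IsNilpotent M := by
      intro M hM
      obtain ⟨x, hx⟩ := ih _ (hltcard M hM) (M.map K.subtype) rfl (hπsub M)
      haveI hH' : Group.IsNilpotent (MulAut.conj x • H : Subgroup G) := hconjnil x
      have e1 : ((M.map K.subtype).subgroupOf (MulAut.conj x • H)) ≃* (M.map K.subtype) :=
        Subgroup.subgroupOfEquivOfLe hx
      have e2 : M ≃* M.map K.subtype :=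
        Subgroup.equivMapOfInjective M K.subtype K.subtype_injective
      haveI : Group.IsNilpotent (M.map K.subtype) := Group.nilpotent_of_mulEquiv e1
      exact Group.nilpotent_of_mulEquiv e2.symm
    obtain ⟨p, hpf, Q0, P0, hQn, hQtop, hsup, hP, hpQ, hpK⟩ := decomposition hprop
    have hp : p.Prime := hpf.out
    obtain ⟨x, hx⟩ := ih _ (hltcard Q0 hQtop) (Q0.map K.subtype) rfl (hπsub Q0)
    have hcH' : Nat.card (MulAut.conj x • H : Subgroup G) = Nat.card H :=
      (Nat.card_congr (Subgroup.equivSMul (MulAut.conj x) H).toEquiv).symm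
    have hmpos : 0 < Nat.card H := Nat.card_pos
    have hidx : (MulAut.conj x • H : Subgroup G).index = H.index := by
      have h1 := (MulAut.conj x • H : Subgroup G).card_mul_index
      have h2 := H.card_mul_index
      rw [hcH'] at h1
      exact Nat.eq_of_mul_eq_mul_left hmpos (h1.trans h2.symm)
    have hKN : K ≤ Subgroup.normalizer ((Q0.map K.subtype : Subgroup G) : Set G) := by
      have := Cfsg.Agent.S0582.le_normalizer_conj K Q0 1
      simpa using this
    have hPK : P0.map K.subtype ≤ K := Subgroup.map_subtype_le _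
    obtain ⟨y, hy⟩ := lemmaC (MulAut.conj x • H) (Q0.map K.subtype) (P0.map K.subtype)
      (hconjnil x) (by rw [hcH', hidx]; exact hHall) p (by rw [hcH']; exact hKπ p hp hpK) hx
      (hPK.trans hKN) (hP.map _) (by rw [Subgroup.card_subtype]; exact hpQ)
    have hKeq : K = Q0.map K.subtype ⊔ P0.map K.subtype := by
      rw [← Subgroup.map_sup, hsup, ← MonoidHom.range_eq_map, Subgroup.range_subtype]
    refine ⟨y * x, ?_⟩
    rw [map_mul, mul_smul]
    rw [hKeq]
    exact hy

/-- Let H be a nilpotent subgroup of a finite group G whose order is coprime to its index, and K a subgroup every prime divisor of whose order divides the order of H. Then K lies in some conjugate of H. -/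
theorem result {G : Type*} [Group G] [Finite G] (H K : Subgroup G) (hH : Group.IsNilpotent H) (hHall : (Nat.card H).Coprime H.index) (hK : ∀ p : ℕ, p.Prime → p ∣ Nat.card K → p ∣ Nat.card H) : ∃ x : G, K ≤ MulAut.conj x • H :=
  main H hH hHall (Nat.card K) K rfl hK

end Cfsg.Agent.S0581
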