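import Cfsg.Statements.S0261
import Cfsg.Agent.S0268
import Cfsg.Agent.Lib.Lead.UniqueSubgroup
import Cfsg.Agent.Lib.Lead.QuatIso

set_option autoImplicit false
set_option linter.style.haveILetI false
open Cfsg

namespace Cfsg.Agent.S0261

open Matrix Subgroup

variable {F : Type*} [Field F]

/-- the matrix `[[0,1],[-1,0]]` -/
def X : Matrix.SpecialLinearGroup (Fin 2) F := ⟨!![0, 1; -1, 0], by simp [Matrix.det_fin_two]⟩

/-- the matrix `[[a,b],[b,-a]]` when `a^2+b^2 = -1` -/
def Y (a b : F) (h : a ^ 2 + b ^ 2 = -1) : Matrix.SpecialLinearGroup (Fin 2) F :=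
  ⟨!![a, b; b, -a], by rw [Matrix.det_fin_two]; simp; linear_combination -h⟩

/-- `-1` in `SL₂` -/
def negOne : Matrix.SpecialLinearGroup (Fin 2) F := ⟨-1, by simp [Matrix.det_fin_two]⟩

theorem X_sq : (X : Matrix.SpecialLinearGroup (Fin 2) F) * X = negOne := by
  apply Subtype.ext
  rw [Matrix.SpecialLinearGroup.coe_mul]
  show (!![0, 1; -1, 0] : Matrix (Fin 2) (Fin 2) F) * !![0, 1; -1, 0] = -1
  ext i j
  fin_cases i <;> fin_cases j <;> simp [Matrix.mul_apply, Fin.sum_univ_two]

theorem Y_sq (a b : F) (h : a ^ 2 + b ^ 2 = -1) : Y a b h * Y a b h = negOne := by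
  apply Subtype.ext
  rw [Matrix.SpecialLinearGroup.coe_mul]
  show (!![a, b; b, -a] : Matrix (Fin 2) (Fin 2) F) * !![a, b; b, -a] = -1
  ext i j
  fin_cases i <;> fin_cases j <;> simp [Matrix.mul_apply, Fin.sum_univ_two]
  · linear_combination h
  · ring
  · ring
  · linear_combination h

theorem Y_X (a b : F) (h : a ^ 2 + b ^ 2 = -1) : Y a b h * X = X⁻¹ * Y a b h := by
  apply Subtype.ext
  rw [Matrix.SpecialLinearGroup.coe_mul, Matrix.SpecialLinearGroup.coe_mul,
    Matrix.SpecialLinearGroup.coe_inv]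
  show (!![a, b; b, -a] : Matrix (Fin 2) (Fin 2) F) * !![0, 1; -1, 0] =
    Matrix.adjugate !![0, 1; -1, 0] * !![a, b; b, -a]
  rw [Matrix.adjugate_fin_two_of]
  ext i j
  fin_cases i <;> fin_cases j <;> simp [Matrix.mul_apply, Fin.sum_univ_two]

theorem negOne_sq : (negOne : Matrix.SpecialLinearGroup (Fin 2) F) * negOne = 1 := by
  apply Subtype.ext
  rw [Matrix.SpecialLinearGroup.coe_mul]
  show (-1 : Matrix (Fin 2) (Fin 2) F) * -1 = 1
  simp

theorem negOne_ne_one (h2 : (2 : F) ≠ 0) : (negOne : Matrix.SpecialLinearGroup (Fin 2) F) ≠ 1 := by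
  intro h
  have := congrArg (fun A : Matrix.SpecialLinearGroup (Fin 2) F => (A : Matrix (Fin 2) (Fin 2) F) 0 0) h
  simp [negOne] at this
  apply h2
  linear_combination -this

theorem XY_ne (a b : F) (h : a ^ 2 + b ^ 2 = -1) (h2 : (2 : F) ≠ 0) :
    X * Y a b h ≠ Y a b h * X := by
  intro hc
  have e := congrArg (fun A : Matrix.SpecialLinearGroup (Fin 2) F => (A : Matrix (Fin 2) (Fin 2) F)) hc
  simp only [Matrix.SpecialLinearGroup.coe_mul] at e
  change (!![0, 1; -1, 0] : Matrix (Fin 2) (Fin 2) F) * !![a, b; b, -a] =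
    !![a, b; b, -a] * !![0, 1; -1, 0] at e
  have e00 := congrFun (congrFun e 0) 0
  have e01 := congrFun (congrFun e 0) 1
  simp [Matrix.mul_apply, Fin.sum_univ_two] at e00 e01
  have hb : b = 0 := by
    have : (2 : F) * b = 0 := by linear_combination e00
    rcases mul_eq_zero.mp this with h' | h'
    · exact absurd h' h2
    · exact h'
  have ha : a = 0 := by
    have : (2 : F) * a = 0 := by linear_combination -e01
    rcases mul_eq_zero.mp this with h' | h'
    · exact absurd h' h2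
    · exact h'
  rw [ha, hb] at h
  norm_num at h

theorem two_ne_zero_of_odd [Fintype F] (hF : Odd (Fintype.card F)) : (2 : F) ≠ 0 := by
  intro h
  have hc : ringChar F = 2 := by
    have : CharP F 2 := CharTwo.of_one_ne_zero_of_two_eq_zero one_ne_zero h
    exact ringChar.eq F 2
  have := FiniteField.even_card_of_char_two hc
  rcases hF with ⟨k, hk⟩
  omega

theorem exists_sq_add_sq [Fintype F] (hF : Odd (Fintype.card F)) : ∃ a b : F, a ^ 2 + b ^ 2 = -1 := by
  classical
  let f : Polynomial F := Polynomial.X ^ 2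
  let g : Polynomial F := Polynomial.X ^ 2 - Polynomial.C (-1)
  obtain ⟨a, b, hab⟩ :=
    @FiniteField.exists_root_sum_quadratic _ _ _ _ f g (Polynomial.degree_X_pow 2)
      (Polynomial.degree_X_pow_sub_C (by decide) _) (Nat.odd_iff.mp hF)
  refine ⟨a, b, ?_⟩
  simp only [f, g, Polynomial.eval_C, Polynomial.eval_X, Polynomial.eval_pow, Polynomial.eval_sub] at hab
  linear_combination hab

/-- a nonabelian 2-subgroup of `SL₂(F)` -/
theorem exists_nonabelian_two_subgroup [Fintype F] (hF : Odd (Fintype.card F)) :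
    ∃ H : Subgroup (Matrix.SpecialLinearGroup (Fin 2) F), IsPGroup 2 H ∧
      ∃ u ∈ H, ∃ v ∈ H, u * v ≠ v * u := by
  have h2 := two_ne_zero_of_odd hF
  obtain ⟨a, b, hab⟩ := exists_sq_add_sq hF
  have hX2 : (X : Matrix.SpecialLinearGroup (Fin 2) F) ^ 2 = negOne := by rw [pow_two, X_sq]
  have hY2 : (Y a b hab) ^ 2 = negOne := by rw [pow_two, Y_sq]
  have ha : orderOf (X : Matrix.SpecialLinearGroup (Fin 2) F) = 2 * 2 := by
    have := orderOf_eq_prime_pow (p := 2) (n := 1) (x := (X : Matrix.SpecialLinearGroup (Fin 2) F))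
      (by rw [pow_one, hX2]; exact negOne_ne_one h2)
      (by rw [show (2 : ℕ) ^ (1 + 1) = 2 * 2 from rfl, pow_mul, hX2, pow_two, negOne_sq])
    rw [this]; norm_num
  have hb2 : (Y a b hab) ^ 2 = (X : Matrix.SpecialLinearGroup (Fin 2) F) ^ 2 := by rw [hX2, hY2]
  have hinv : Y a b hab * X * (Y a b hab)⁻¹ = X⁻¹ := by
    rw [mul_inv_eq_iff_eq_mul]; exact Y_X a b hab
  let φ := Cfsg.Agent.Lib.Lead.QuatIso.quatHom ha hb2 hinv
  refine ⟨φ.range, ?_, X, ⟨QuaternionGroup.a 1, ?_⟩, Y a b hab, ⟨QuaternionGroup.xa 0, ?_⟩,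
    XY_ne a b hab h2⟩
  · have hQ : IsPGroup 2 (QuaternionGroup 2) := by
      apply IsPGroup.of_card (n := 3)
      rw [Nat.card_eq_fintype_card, QuaternionGroup.card]; norm_num
    exact hQ.of_surjective φ.rangeRestrict φ.rangeRestrict_surjective
  · show (X : Matrix.SpecialLinearGroup (Fin 2) F) ^ (((1 : ZMod (2 * 2)).cast : ℤ)) = X
    have : (((1 : ZMod (2 * 2)).cast : ℤ)) = 1 := by decide
    rw [this, zpow_one]
  · show Y a b hab * (X : Matrix.SpecialLinearGroup (Fin 2) F) ^ (((0 : ZMod (2 * 2)).cast : ℤ)) = Y a b hab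
    have : (((0 : ZMod (2 * 2)).cast : ℤ)) = 0 := by decide
    rw [this, zpow_zero, mul_one]

/-- a subgroup of order 2 is generated by an involution -/
theorem exists_of_card_two {G : Type*} [Group G] (H : Subgroup G) (hH : Nat.card H = 2) :
    ∃ g : G, g ≠ 1 ∧ g * g = 1 ∧ H = zpowers g := by
  haveI : Finite H := Nat.finite_of_card_ne_zero (by rw [hH]; norm_num)
  haveI : Fact (Nat.Prime 2) := ⟨Nat.prime_two⟩
  obtain ⟨g, hg⟩ := exists_prime_orderOf_dvd_card' (G := H) 2 (by rw [hH])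
  have hg1 : (g : G) ≠ 1 := by
    intro h
    have : g = 1 := Subtype.ext h
    rw [this, orderOf_one] at hg
    omega
  have hg2 : (g : G) * g = 1 := by
    have := pow_orderOf_eq_one g
    rw [hg, pow_two] at this
    exact congrArg Subtype.val this
  refine ⟨g, hg1, hg2, ?_⟩
  symm
  apply Subgroup.eq_of_le_of_card_ge
  · rw [zpowers_le]; exact g.2
  · rw [hH, Nat.card_zpowers, ← Subgroup.orderOf_coe] at *
    rw [hg]

/-- For q odd, the Sylow 2-subgroups of SL_2(q) are generalised quaternion. -/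
theorem result {F : Type*} [Field F] [Fintype F] (hF : Odd (Fintype.card F)) (P : Sylow 2 (Matrix.SpecialLinearGroup (Fin 2) F)) : ∃ k : ℕ, 1 ≤ k ∧ Nonempty ((P : Subgroup (Matrix.SpecialLinearGroup (Fin 2) F)) ≃* QuaternionGroup (2 ^ k)) := by
  haveI : Fact (Nat.Prime 2) := ⟨Nat.prime_two⟩
  -- P is not commutative
  have hnc : ¬ ∀ u v : (P : Subgroup (Matrix.SpecialLinearGroup (Fin 2) F)), u * v = v * u := by
    intro hc
    obtain ⟨H, hH, u, hu, v, hv, huv⟩ := exists_nonabelian_two_subgroup hF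
    obtain ⟨Q, hQ⟩ := hH.exists_le_sylow
    let e := Sylow.equiv Q P
    apply huv
    have := hc (e ⟨u, hQ hu⟩) (e ⟨v, hQ hv⟩)
    rw [← map_mul, ← map_mul] at this
    exact congrArg Subtype.val (e.injective this)
  -- unique subgroup of order 2
  have huniq : Cfsg.Agent.Lib.Lead.UniqueOrderP.UniqueOrderP 2 (P : Subgroup (Matrix.SpecialLinearGroup (Fin 2) F)) := by
    intro H K hH hK
    obtain ⟨g, hg1, hg2, rfl⟩ := exists_of_card_two H hH
    obtain ⟨k, hk1, hk2, rfl⟩ := exists_of_card_two K hK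
    have e1 := Cfsg.Agent.S0268.result hF (g : Matrix.SpecialLinearGroup (Fin 2) F)
      (fun h => hg1 (Subtype.ext h)) (congrArg Subtype.val hg2)
    have e2 := Cfsg.Agent.S0268.result hF (k : Matrix.SpecialLinearGroup (Fin 2) F)
      (fun h => hk1 (Subtype.ext h)) (congrArg Subtype.val hk2)
    have : g = k := Subtype.ext (Subtype.ext (e1.trans e2.symm))
    rw [this]
  rcases Cfsg.Agent.Lib.Lead.UniqueSubgroup.cyclic_or_quaternion P.2 huniq with hcyc | ⟨-, n, ⟨e⟩⟩
  · exfalso
    apply hnc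
    letI := IsCyclic.commGroup (α := (P : Subgroup (Matrix.SpecialLinearGroup (Fin 2) F)))
    exact fun u v => mul_comm u v
  · refine ⟨n, ?_, ⟨e⟩⟩
    by_contra hn
    have hn0 : n = 0 := by omega
    subst hn0
    apply hnc
    haveI := QuaternionGroup.quaternionGroup_one_isCyclic
    letI := IsCyclic.commGroup (α := QuaternionGroup 1)
    intro u v
    apply e.injective
    rw [map_mul, map_mul]
    exact mul_comm (G := QuaternionGroup 1) _ _

end Cfsg.Agent.S0261
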