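import Cfsg.Statements.S0809
import Mathlib
import Cfsg.Agent.Lib.Helper12.C9
import Cfsg.Agent.S2428

set_option autoImplicit false
open Cfsg

namespace Cfsg.Agent.S0809

open Cfsg.Agent.Lib.Helper12.SL2

variable {F : Type*} [Field F]

local notation "SL2" => Matrix.SpecialLinearGroup (Fin 2)
local notation "M2" => Matrix (Fin 2) (Fin 2)
local notation "PSL2" => Matrix.ProjectiveSpecialLinearGroup (Fin 2)

/-- a subgroup of order four is generated by an element of trace zero -/
theorem exists_gen (h2 : (2 : F) ≠ 0) (A : Subgroup (SL2 F)) (hA : Nat.card A = 4) :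
    ∃ x : SL2 F, tr x = 0 ∧ A = Subgroup.zpowers x := by
  classical
  have hfin : Finite A := Nat.finite_of_card_ne_zero (by rw [hA]; norm_num)
  -- some element has square ≠ 1
  have hex : ∃ a ∈ A, a * a ≠ 1 := by
    by_contra hcon
    push Not at hcon
    have hsub : ∀ a : A, (a : SL2 F) ∈ ({1, zc'} : Finset (SL2 F)) := by
      intro a
      rcases eq_one_or_zc_of_sq h2 (a : SL2 F) (hcon a a.2) with h | h
      · rw [h]; simp
      · rw [h]; simp
    have hle : Nat.card A ≤ 2 := by
      have hinj : Function.Injective (fun a : A => (⟨(a : SL2 F), hsub a⟩ :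
          ({1, zc'} : Finset (SL2 F)))) := by
        intro a b hab
        simp only [Subtype.mk.injEq] at hab
        exact Subtype.ext hab
      have := Nat.card_le_card_of_injective _ hinj
      have hc : Nat.card (({1, zc'} : Finset (SL2 F)) : Type _) =
          ({1, zc'} : Finset (SL2 F)).card := by
        rw [Nat.card_eq_fintype_card, Fintype.card_coe]
      rw [hc] at this
      exact this.trans Finset.card_le_two
    omega
  obtain ⟨a, haA, haa⟩ := hex
  have hord : orderOf a ∣ 4 := by
    have := orderOf_dvd_natCard (⟨a, haA⟩ : A)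
    rwa [Subgroup.orderOf_mk, hA] at this
  have ha4 : a ^ 4 = 1 := orderOf_dvd_iff_pow_eq_one.mp hord
  have hsq : (a * a) * (a * a) = 1 := by
    have : a ^ 4 = (a * a) * (a * a) := by
      rw [show 4 = 2 + 2 from rfl, pow_add, pow_two]
    rw [← this]; exact ha4
  have hzc : a * a = zc' := by
    rcases eq_one_or_zc_of_sq h2 (a * a) hsq with h | h
    · exact absurd h haa
    · exact h
  have ho4 : orderOf a = 4 := by
    have h1 : orderOf a ≠ 1 := by
      intro h
      rw [orderOf_eq_one_iff] at h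
      apply haa; rw [h, mul_one]
    have h2' : orderOf a ≠ 2 := by
      intro h
      apply haa
      have h3 := pow_orderOf_eq_one a
      rw [h, pow_two] at h3
      exact h3
    have hle := Nat.le_of_dvd (by norm_num) hord
    have hpos : 0 < orderOf a := Nat.pos_of_dvd_of_pos hord (by norm_num)
    interval_cases h : orderOf a
    · exact absurd rfl h1
    · exact absurd rfl h2'
    · norm_num at hord
    · rfl
  refine ⟨a, tr_eq_zero_of_sq_eq_zc a hzc, ?_⟩
  symm
  apply Subgroup.eq_of_le_of_card_ge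
  · rw [Subgroup.zpowers_le]; exact haA
  · rw [Nat.card_zpowers, ho4, hA]

theorem main [Fintype F] {q : ℕ} (hF : Fintype.card F = q) (hodd : Odd q)
    (A : Subgroup (SL2 F)) (hA : Nat.card A = 4) :
    (∀ B : Subgroup (SL2 F), Nat.card B = 4 →
      ∃ g : SL2 F, B = A.map (MulAut.conj g).toMonoidHom) ∧
    (q % 4 = 1 → Nat.card ↥(Subgroup.normalizer (A : Set (SL2 F))) = 2 * (q - 1)) ∧
    (q % 4 = 3 → Nat.card ↥(Subgroup.normalizer (A : Set (SL2 F))) = 2 * (q + 1)) ∧
    (∀ x y : PSL2 F, orderOf x = 2 → orderOf y = 2 → IsConj x y) := by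
  subst hF
  have h2 := Cfsg.Agent.S2428.two_ne_zero_of_odd hodd
  obtain ⟨x, hx, rfl⟩ := exists_gen h2 A hA
  have hΔ := tr_sq_ne_four_of_tr_eq_zero h2 x hx
  have hN := normalizer_zpowers_of_tr_eq_zero h2 x hx
  have hcardN := card_normalizer_centralizer h2 x hΔ
  have h4 : (4 : F) = 2 * 2 := by norm_num
  refine ⟨?_, ?_, ?_, ?_⟩
  · intro B hB
    obtain ⟨y, hy, rfl⟩ := exists_gen h2 B hB
    obtain ⟨g, hg⟩ := isConj_iff.mp (isConj_of_tr_eq_zero h2 x y hx hy)
    refine ⟨g, ?_⟩
    rw [MonoidHom.map_zpowers]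
    congr 1
    exact hg.symm
  · intro hq
    have hs : IsSquare (tr x ^ 2 - 4) := by
      have hm1 : IsSquare (-1 : F) := by
        rw [FiniteField.isSquare_neg_one_iff]; omega
      obtain ⟨i, hi⟩ := hm1
      refine ⟨2 * i, ?_⟩
      rw [hx]
      linear_combination 4 * hi
    rw [hN]
    show Nat.card (NTor x) = _
    rw [hcardN, (card_Tor_of_isSquare h2 x hΔ hs).1]
  · intro hq
    have hs : ¬ IsSquare (tr x ^ 2 - 4) := by
      rintro ⟨r, hr⟩
      have hm1 : ¬ IsSquare (-1 : F) := by
        rw [FiniteField.isSquare_neg_one_iff]; omega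
      apply hm1
      refine ⟨r / 2, ?_⟩
      rw [hx] at hr
      field_simp
      linear_combination hr
    rw [hN]
    show Nat.card (NTor x) = _
    rw [hcardN, (card_Tor_of_not_isSquare h2 x hs).1]
  · intro a b ha hb
    have lift : ∀ c : PSL2 F, orderOf c = 2 → ∃ g : SL2 F, tr g = 0 ∧ (QuotientGroup.mk g : PSL2 F) = c := by
      intro c hc
      obtain ⟨g, rfl⟩ := QuotientGroup.mk_surjective c
      refine ⟨g, ?_, rfl⟩
      have h1 : (QuotientGroup.mk g : PSL2 F) ^ 2 = 1 := by
        have h0 := pow_orderOf_eq_one (QuotientGroup.mk g : PSL2 F)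
        rwa [hc] at h0
      have h3 : g ^ 2 ∈ Subgroup.center (SL2 F) := by
        rw [← QuotientGroup.eq_one_iff, QuotientGroup.mk_pow]; exact h1
      rw [pow_two] at h3
      have h5 := Cfsg.Agent.S2475.sq_eq_one_of_mem_center _ h3
      rcases eq_one_or_zc_of_sq h2 _ h5 with h6 | h6
      · exfalso
        -- g * g = 1 so g central so mk g = 1
        have hgc := Cfsg.Agent.S2475.mem_center_of_sq_eq_one h2 g h6
        have : (QuotientGroup.mk g : PSL2 F) = 1 := (QuotientGroup.eq_one_iff g).mpr hgc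
        rw [this, orderOf_one] at hc
        norm_num at hc
      · exact tr_eq_zero_of_sq_eq_zc g h6
    obtain ⟨g, hg, rfl⟩ := lift a ha
    obtain ⟨k, hk, rfl⟩ := lift b hb
    have := isConj_of_tr_eq_zero h2 g k hg hk
    exact (QuotientGroup.mk' (Subgroup.center (SL2 F))).map_isConj this


/-- In SL_2(q), q odd: any two subgroups of order 4 are conjugate, and the normaliser of a subgroup of order 4 has order 2(q − 1) if q ≡ 1 (mod 4) and 2(q + 1) if q ≡ 3 (mod 4); consequently all involutions of PSL_2(q) are conjugate. -/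
theorem result {F : Type*} [Field F] [Fintype F] {q : ℕ} (hF : Fintype.card F = q) (hodd : Odd q) (A : Subgroup (Matrix.SpecialLinearGroup (Fin 2) F)) (hA : Nat.card A = 4) : (∀ B : Subgroup (Matrix.SpecialLinearGroup (Fin 2) F), Nat.card B = 4 → ∃ g : Matrix.SpecialLinearGroup (Fin 2) F, B = A.map (MulAut.conj g).toMonoidHom) ∧ (q % 4 = 1 → Nat.card ↥(Subgroup.normalizer (A : Set (Matrix.SpecialLinearGroup (Fin 2) F))) = 2 * (q - 1)) ∧ (q % 4 = 3 → Nat.card ↥(Subgroup.normalizer (A : Set (Matrix.SpecialLinearGroup (Fin 2) F))) = 2 * (q + 1)) ∧ (∀ x y : Matrix.ProjectiveSpecialLinearGroup (Fin 2) F, orderOf x = 2 → orderOf y = 2 → IsConj x y) := by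
  exact main hF hodd A hA

end Cfsg.Agent.S0809
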