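import Mathlib
import Cfsg.Statements.S0640
import Cfsg.Agent.S0093
import Cfsg.Agent.S0121
import Cfsg.Agent.Lib.Helper14.RankTwoAut

set_option autoImplicit false
open Cfsg

namespace Cfsg.Agent.S0640

open scoped commutatorElement
open Cfsg.Agent.Lib.Helper14

/-- characteristic subgroups are invariant under groups of automorphisms -/
theorem smul_mem_of_characteristic {X : Type*} [Group X] (H : Subgroup X) (hH : H.Characteristic)
    (A : Subgroup (MulAut X)) (a : A) {x : X} (hx : x ∈ H) : a • x ∈ H := by
  have h : a • x ∈ H.comap ((a : MulAut X)⁻¹).toMonoidHom := by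
    rw [Subgroup.mem_comap]
    have : ((a : MulAut X)⁻¹).toMonoidHom (a • x) = x := by
      show ((a : MulAut X)⁻¹) ((a : MulAut X) x) = x
      rw [← MulAut.mul_apply, inv_mul_cancel, MulAut.one_apply]
    rw [this]; exact hx
  rwa [hH.fixed] at h

/-- For odd p, a prime q ≠ p dividing the order of the automorphism group of a p-group of rank at most 2 divides p² - 1 and is less than p. -/
theorem result {R : Type*} [Group R] [Finite R] {p : ℕ} [Fact p.Prime] (hp : p ≠ 2) (hR : IsPGroup p R) (hrk : Cfsg.PRankLE p 2 R) (q : ℕ) (hq : q.Prime) (hqp : q ≠ p) (hdvd : q ∣ Nat.card (MulAut R)) : q ∣ p ^ 2 - 1 ∧ q < p := by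
  classical
  have hpp : p.Prime := Fact.out
  haveI : Fact q.Prime := ⟨hq⟩
  have hmain : q ∣ p ^ 2 - 1 := by
    obtain ⟨α, hα⟩ := exists_prime_orderOf_dvd_card' q hdvd
    obtain ⟨C, hCchar, h1, h2, h3⟩ := Cfsg.Agent.S0093.result hR
    set A : Subgroup (MulAut R) := Subgroup.zpowers α with hAdef
    have hAcard : Nat.card A = q := by rw [hAdef, Nat.card_zpowers, hα]
    have hqpc : q.Coprime p := (Nat.coprime_primes hq hpp).mpr hqp
    have hcop : (Nat.card A).Coprime p := by rw [hAcard]; exact hqpc
    have hCinv : ∀ a : A, ∀ x ∈ C, a • x ∈ C := fun a x hx =>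
      smul_mem_of_characteristic C hCchar A a hx
    letI instC := subAct C hCinv
    have hclC : ∀ a b : C, ⁅a, b⁆ ∈ Subgroup.center C := by
      intro a b
      rw [Subgroup.mem_center_iff]
      intro g
      apply Subtype.ext
      have hmem : ⁅(a : R), (b : R)⁆ ∈ Subgroup.centralizer (C : Set R) :=
        (h2 (Subgroup.commutator_mem_commutator a.2 (Subgroup.mem_top _))).2
      exact Subgroup.mem_centralizer_iff.mp hmem g g.2
    have hpowC : ∀ a : C, a ^ p ∈ Subgroup.center C := by
      intro a
      have hCp : IsPGroup p C := hR.to_subgroup C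
      have hmemΦ : a ^ p ∈ frattini C := pow_mem_frattini_of_isPGroup' hCp a
      have hc : ((a ^ p : C) : R) ∈ Subgroup.centralizer (C : Set R) := h1 ⟨a ^ p, hmemΦ, rfl⟩
      rw [Subgroup.mem_center_iff]
      intro g
      apply Subtype.ext
      exact Subgroup.mem_centralizer_iff.mp hc g g.2
    have hpabC : ∀ x y : C, (x * y) ^ p = x ^ p * y ^ p := mul_pow_prime_of_classTwo hp hclC hpowC
    let E : Subgroup R :=
      { carrier := {x | x ∈ C ∧ x ^ p = 1}
        one_mem' := ⟨C.one_mem, one_pow p⟩
        mul_mem' := by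
          rintro x y ⟨hx, hx1⟩ ⟨hy, hy1⟩
          refine ⟨C.mul_mem hx hy, ?_⟩
          have := congrArg Subtype.val (hpabC ⟨x, hx⟩ ⟨y, hy⟩)
          simp only [Subgroup.coe_pow, Subgroup.coe_mul] at this
          rw [this, hx1, hy1, one_mul]
        inv_mem' := by
          rintro x ⟨hx, hx1⟩
          exact ⟨C.inv_mem hx, by rw [inv_pow, hx1, inv_one]⟩ }
    have hEC : E ≤ C := fun x hx => hx.1
    have hEinv : ∀ a : A, ∀ x ∈ E, a • x ∈ E := by
      rintro a x ⟨hx, hx1⟩
      refine ⟨hCinv a x hx, ?_⟩
      show (a • x) ^ p = 1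
      rw [← smul_pow', hx1, smul_one]
    have hnontriv : ∃ a : A, ∃ x ∈ E, a • x ≠ x := by
      by_contra hall
      push Not at hall
      have hfixC : ∀ (a : A) (x : C), a • x = x :=
        smul_eq_of_fixed_omega hcop (hR.to_subgroup C) hpabC (by
          intro a x hx
          apply Subtype.ext
          rw [subAct_coe]
          apply hall a x.1
          refine ⟨x.2, ?_⟩
          have := congrArg Subtype.val hx
          simpa using this)
      have hα1 : α = 1 := by
        apply Cfsg.Agent.S0121.result hR C hCchar h1 h2 h3 α (by rw [hα]; exact hqpc)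
        intro x hx
        have := hfixC ⟨α, Subgroup.mem_zpowers α⟩ ⟨x, hx⟩
        exact congrArg Subtype.val this
      rw [hα1, orderOf_one] at hα
      exact hq.one_lt.ne hα
    obtain ⟨a, x, hxE, hax⟩ := hnontriv
    letI instE := subAct E hEinv
    set β : MulAut E := MulDistribMulAction.toMulAut A E a with hβ
    have hβ1 : β ≠ 1 := by
      intro h
      apply hax
      have := congrArg (fun γ : MulAut E => γ ⟨x, hxE⟩) h
      exact congrArg Subtype.val this
    have hβq : β ^ q = 1 := by
      rw [hβ, ← map_pow, ← hAcard, pow_card_eq_one', map_one]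
    have hβord : orderOf β = q := orderOf_eq_prime hβq hβ1
    have hEp : IsPGroup p E := hR.to_subgroup E
    have hclE : ∀ u v : E, ⁅u, v⁆ ∈ Subgroup.center E := by
      intro u v
      rw [Subgroup.mem_center_iff]
      intro g
      apply Subtype.ext
      have hmem : ⁅(u : R), (v : R)⁆ ∈ Subgroup.centralizer (C : Set R) :=
        (h2 (Subgroup.commutator_mem_commutator (hEC u.2) (Subgroup.mem_top _))).2
      exact Subgroup.mem_centralizer_iff.mp hmem g (hEC g.2)
    have hrkE : ∀ B : Subgroup E, IsMulCommutative B → Nat.card B ≤ p ^ 2 := by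
      intro B hB
      have hBm : IsMulCommutative (B.map E.subtype) := by
        refine ⟨⟨?_⟩⟩
        rintro ⟨_, ⟨u, hu, rfl⟩⟩ ⟨_, ⟨v, hv, rfl⟩⟩
        apply Subtype.ext
        have := hB.is_comm.comm ⟨u, hu⟩ ⟨v, hv⟩
        have h' := congrArg (fun w : B => ((w : E) : R)) this
        exact h'
      have := hrk (B.map E.subtype) hBm (by
        rintro _ ⟨b, hb, rfl⟩
        exact b.2.2)
      rwa [Subgroup.card_map_of_injective E.subtype_injective] at this
    obtain ⟨r, hr2, hr⟩ := exists_index_frattini_le_two_of_classTwo hEp hclE hrkE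
    exact prime_dvd_sq_sub_one_of_dvd_card_mulAut hEp hr2 hr (Subgroup.zpowers β) hq hqp
      (by rw [Nat.card_zpowers, hβord])
  refine ⟨hmain, ?_⟩
  have h3 : 3 ≤ p := by
    have := hpp.two_le
    omega
  have hfac : p ^ 2 - 1 = (p - 1) * (p + 1) := by
    obtain ⟨k, rfl⟩ : ∃ k, p = k + 1 := ⟨p - 1, by omega⟩
    simp only [Nat.add_sub_cancel]
    ring_nf
    omega
  rw [hfac] at hmain
  rcases (Nat.Prime.dvd_mul hq).mp hmain with h | h
  · have := Nat.le_of_dvd (by omega) h
    omega
  · have hle := Nat.le_of_dvd (by omega) h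
    rcases Nat.lt_or_ge q p with hlt | hge
    · exact hlt
    · exfalso
      have hq1 : q = p + 1 := by omega
      rcases hpp.eq_two_or_odd with h2 | hodd
      · exact hp h2
      · rcases hq.eq_two_or_odd with hq2 | hqodd
        · omega
        · omega

end Cfsg.Agent.S0640
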