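import Cfsg.Statements.S5095
import Cfsg.Agent.Lib.Helper29.FusionCentric

set_option autoImplicit false
open Cfsg

namespace Cfsg.Agent.S5095

/-- In a saturated fusion system over a finite p-group S: if Q ≤ P ≤ S with Q centric, and two maps of the system with source P agree on Q, then they differ by an inner automorphism of P induced by an element of the centre of Q. -/
theorem result {Ω : Type*} [Group Ω] {S : Subgroup Ω} [Finite S] (p : ℕ) [Fact p.Prime] (hS : IsPGroup p S) (F : Cfsg.FusionSystem S) (hF : F.IsSaturated p) (P Q : Subgroup Ω) (hQP : Q ≤ P) (hQ : F.IsCentric Q) (φ φ' : P →* Ω) (hφ : φ ∈ F.Hom P) (hφ' : φ' ∈ F.Hom P) (h : ∀ x : P, (x : Ω) ∈ Q → φ x = φ' x) : ∃ z : P, (z : Ω) ∈ Q ∧ (z : Ω) ∈ Subgroup.centralizer (Q : Set Ω) ∧ ∀ y : P, φ' y = φ (z * y * z⁻¹) := by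
  open Cfsg.Agent.Lib.Helper29 in
  obtain ⟨χ, hχ, hχinv⟩ := F.inv_mem hφ
  have hχP : ∀ y : φ.range, χ y ∈ P := by
    rintro ⟨_, x, rfl⟩
    rw [hχinv x]
    exact x.2
  have hψ := F.comp_mem hχ hφ' hχP
  have hχx : ∀ x : P, χ.codRestrict P hχP ⟨φ x, ⟨x, rfl⟩⟩ = x := fun x => Subtype.ext (hχinv x)
  have hQr : (Q.subgroupOf P).map φ ≤ φ.range := by
    rintro _ ⟨x, _, rfl⟩
    exact ⟨x, rfl⟩
  have hQc : F.IsCentric ((Q.subgroupOf P).map φ) := isCentric_of_isConj F hQ (isConj_map F hQP hφ)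
  have hfix : ∀ y : φ.range, (y : Ω) ∈ (Q.subgroupOf P).map φ →
      (φ'.comp (χ.codRestrict P hχP)) y = y := by
    rintro ⟨_, _⟩ ⟨q, hq, rfl⟩
    show φ' (χ.codRestrict P hχP ⟨φ q, _⟩) = φ q
    rw [hχx q]
    exact (h q hq).symm
  obtain ⟨⟨_, z, rfl⟩, hzQ, hzC, hzy⟩ := hom_eq_conj_of_fix hS F hF _ hQr hQc hψ hfix rfl
  obtain ⟨q, hq, hqz⟩ := hzQ
  have hqz' : q = z := F.injective_of_mem hφ hqz
  subst hqz'
  refine ⟨q, hq, ?_, fun y => ?_⟩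
  · rw [Subgroup.mem_centralizer_iff]
    intro g hg
    rw [Subgroup.mem_centralizer_iff] at hzC
    have h1 := hzC (φ ⟨g, hQP hg⟩) ⟨⟨g, hQP hg⟩, hg, rfl⟩
    have h2 : φ (⟨g, hQP hg⟩ * q) = φ (q * ⟨g, hQP hg⟩) := by
      rw [map_mul, map_mul]
      exact h1
    exact congrArg Subtype.val (F.injective_of_mem hφ h2)
  · have h1 := hzy ⟨φ y, ⟨y, rfl⟩⟩
    have h2 : (φ'.comp (χ.codRestrict P hχP)) ⟨φ y, ⟨y, rfl⟩⟩ = φ' y := by
      show φ' (χ.codRestrict P hχP ⟨φ y, _⟩) = φ' y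
      rw [hχx y]
    rw [h2] at h1
    rw [h1, map_mul, map_mul, map_inv]

end Cfsg.Agent.S5095
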