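import Mathlib
import Cfsg.Statements.S0130
import Cfsg.Agent.Lib.Helper10.PGroupCentral

set_option autoImplicit false
open Cfsg

namespace Cfsg.Agent.S0130

open scoped commutatorElement

/-- If A is maximal among the normal abelian subgroups of exponent dividing p^n of a p-group (p^n ≠ 2), then A contains every element of order dividing p^n in its centralizer. -/
theorem result {G : Type*} [Group G] [Finite G] {p : ℕ} [Fact p.Prime] (hG : IsPGroup p G) (n : ℕ) (hn : p ^ n ≠ 2) (A : Subgroup G) [A.Normal] (hA : IsMulCommutative A) (hAe : ∀ a ∈ A, a ^ p ^ n = 1) (hmax : ∀ B : Subgroup G, B.Normal → IsMulCommutative B → (∀ b ∈ B, b ^ p ^ n = 1) → A ≤ B → B = A) (x : G) (hx : x ∈ Subgroup.centralizer (A : Set G)) (hxn : x ^ p ^ n = 1) : x ∈ A := by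
  classical
  have hp : p.Prime := Fact.out
  haveI : Group.IsNilpotent G := hG.isNilpotent
  have hAn : A.Normal := inferInstance
  by_contra hxA
  have hAcomm : ∀ a ∈ A, ∀ b ∈ A, a * b = b * a := by
    intro a ha b hb
    have := hA.is_comm.comm (⟨a, ha⟩ : A) ⟨b, hb⟩
    exact congrArg Subtype.val this
  -- the centralizer of `A` is normalized by everything
  have hCconj : ∀ (h w : G), w ∈ Subgroup.centralizer (A : Set G) →
      h * w * h⁻¹ ∈ Subgroup.centralizer (A : Set G) := by
    intro h w hw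
    rw [Subgroup.mem_centralizer_iff] at hw ⊢
    intro a ha
    have h1 : h⁻¹ * a * h ∈ A := by
      have := hAn.conj_mem a ha h⁻¹
      simpa using this
    have h2 := hw _ h1
    calc a * (h * w * h⁻¹) = h * ((h⁻¹ * a * h) * w) * h⁻¹ := by group
      _ = h * (w * (h⁻¹ * a * h)) * h⁻¹ := by rw [h2]
      _ = h * w * h⁻¹ * a := by group
  -- the set of candidates
  let X : Set G := {y | y ∈ Subgroup.centralizer (A : Set G) ∧ y ∉ A ∧ y ^ p ^ n = 1 ∧ y ^ p ∈ A}
  have hXne : X.Nonempty := by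
    -- minimal `j` with `x ^ p ^ j ∈ A`
    have hex : ∃ j, x ^ p ^ j ∈ A := ⟨n, by rw [hxn]; exact A.one_mem⟩
    have hmin : ∀ m, m < Nat.find hex → ¬ x ^ p ^ m ∈ A := fun m hm => Nat.find_min hex hm
    have hspec := Nat.find_spec hex
    set j := Nat.find hex with hj
    have hj1 : 1 ≤ j := by
      rcases Nat.eq_zero_or_pos j with h0 | h
      · exfalso
        rw [h0, pow_zero, pow_one] at hspec
        exact hxA hspec
      · exact h
    refine ⟨x ^ p ^ (j - 1), Subgroup.pow_mem _ hx _, hmin (j - 1) (by omega), ?_, ?_⟩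
    · rw [← pow_mul, mul_comm, pow_mul, hxn, one_pow]
    · rw [← pow_mul, ← pow_succ, show j - 1 + 1 = j by omega]
      exact hspec
  -- the centralizer of `y` modulo `A`
  let Z : G → Subgroup G := fun y =>
    { carrier := {g | ⁅y, g⁆ ∈ A}
      one_mem' := by
        show ⁅y, (1 : G)⁆ ∈ A
        rw [commutatorElement_one_right]; exact A.one_mem
      mul_mem' := by
        intro g h hg hh
        show ⁅y, g * h⁆ ∈ A
        have e : ⁅y, g * h⁆ = ⁅y, g⁆ * (g * ⁅y, h⁆ * g⁻¹) := by
          simp only [commutatorElement_def]; group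
        rw [e]
        exact A.mul_mem hg (hAn.conj_mem _ hh g)
      inv_mem' := by
        intro g hg
        show ⁅y, g⁻¹⁆ ∈ A
        have e : ⁅y, g⁻¹⁆ = g⁻¹ * (⁅y, g⁆)⁻¹ * g := by
          simp only [commutatorElement_def]; group
        rw [e]
        have := hAn.conj_mem _ (A.inv_mem hg) g⁻¹
        simpa using this }
  have hmemZ : ∀ y g, g ∈ Z y ↔ ⁅y, g⁆ ∈ A := fun y g => Iff.rfl
  obtain ⟨y, hyX, hymax⟩ := Set.exists_max_image X (fun y => Nat.card (Z y)) (Set.toFinite X) hXne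
  obtain ⟨hyC, hyA, hyq, hyp⟩ := hyX
  have hyCa : ∀ a ∈ A, a * y = y * a := fun a ha => Subgroup.mem_centralizer_iff.mp hyC a ha
  by_cases htop : Z y = ⊤
  · -- then `A ⊔ zpowers y` is a normal abelian subgroup of exponent dividing `p ^ n`
    have hmemK : ∀ k, k ∈ A ⊔ Subgroup.zpowers y ↔ ∃ a ∈ A, ∃ i : ℤ, k = a * y ^ i := by
      intro k
      rw [← SetLike.mem_coe, Subgroup.normal_mul, Set.mem_mul]
      constructor
      · rintro ⟨a, ha, z, hz, rfl⟩
        obtain ⟨i, rfl⟩ := Subgroup.mem_zpowers_iff.mp hz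
        exact ⟨a, ha, i, rfl⟩
      · rintro ⟨a, ha, i, rfl⟩
        exact ⟨a, ha, y ^ i, Subgroup.mem_zpowers_iff.mpr ⟨i, rfl⟩, rfl⟩
    have hyzc : ∀ (a : G), a ∈ A → ∀ i : ℤ, a * y ^ i = y ^ i * a := by
      intro a ha i
      exact ((Commute.zpow_right (hyCa a ha) i)).eq
    have hKcomm : IsMulCommutative (A ⊔ Subgroup.zpowers y : Subgroup G) := by
      refine ⟨⟨fun u v => ?_⟩⟩
      apply Subtype.ext
      obtain ⟨a, ha, i, hu⟩ := (hmemK u.1).mp u.2
      obtain ⟨b, hb, j, hv⟩ := (hmemK v.1).mp v.2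
      show (u : G) * v = v * u
      rw [hu, hv]
      calc a * y ^ i * (b * y ^ j) = a * (y ^ i * b) * y ^ j := by group
        _ = a * (b * y ^ i) * y ^ j := by rw [hyzc b hb i]
        _ = (a * b) * (y ^ i * y ^ j) := by group
        _ = (b * a) * (y ^ j * y ^ i) := by
            rw [hAcomm a ha b hb, ← zpow_add, ← zpow_add, add_comm]
        _ = b * (a * y ^ j) * y ^ i := by group
        _ = b * (y ^ j * a) * y ^ i := by rw [hyzc a ha j]
        _ = b * y ^ j * (a * y ^ i) := by group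
    have hKexp : ∀ k ∈ A ⊔ Subgroup.zpowers y, k ^ p ^ n = 1 := by
      intro k hk
      obtain ⟨a, ha, i, rfl⟩ := (hmemK k).mp hk
      have hc : Commute a (y ^ i) := hyzc a ha i
      rw [hc.mul_pow, hAe a ha, one_mul, ← zpow_natCast, ← zpow_mul, mul_comm, zpow_mul,
        zpow_natCast, hyq, one_zpow]
    have hKn : (A ⊔ Subgroup.zpowers y).Normal := by
      constructor
      intro k hk g
      obtain ⟨a, ha, i, rfl⟩ := (hmemK k).mp hk
      have hg : ⁅y, g⁆ ∈ A := by
        have : g ∈ Z y := by rw [htop]; exact Subgroup.mem_top g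
        exact this
      have hgy : g * y * g⁻¹ ∈ A ⊔ Subgroup.zpowers y := by
        have e : g * y * g⁻¹ = (⁅y, g⁆)⁻¹ * y := by
          simp only [commutatorElement_def]; group
        rw [e]
        exact Subgroup.mul_mem _ (Subgroup.mem_sup_left (A.inv_mem hg))
          (Subgroup.mem_sup_right (Subgroup.mem_zpowers y))
      have e : g * (a * y ^ i) * g⁻¹ = (g * a * g⁻¹) * (g * y * g⁻¹) ^ i := by
        rw [← MulAut.conj_apply, ← MulAut.conj_apply, ← MulAut.conj_apply, map_mul, map_zpow]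
      rw [e]
      exact Subgroup.mul_mem _ (Subgroup.mem_sup_left (hAn.conj_mem a ha g))
        (Subgroup.zpow_mem _ hgy i)
    have := hmax _ hKn hKcomm hKexp le_sup_left
    apply hyA
    rw [← this]
    exact Subgroup.mem_sup_right (Subgroup.mem_zpowers y)
  · -- `Z y` is proper, so it is properly contained in its normalizer
    have hlt : Z y < Subgroup.normalizer (Z y : Set G) :=
      normalizerCondition_of_isNilpotent (Z y) (lt_top_iff_ne_top.mpr htop)
    -- the subgroup `D`
    have hcp : ∀ w w' : G, w ∈ Subgroup.centralizer (A : Set G) →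
        w' ∈ Subgroup.centralizer (A : Set G) → w ^ p ∈ A → ⁅w', w⁆ ∈ A → ⁅w', w⁆ ^ p = 1 := by
      intro w w' hw hw' hwp hc
      have hca : Commute ⁅w', w⁆ w := (Subgroup.mem_centralizer_iff.mp hw _ hc)
      have hcb : Commute ⁅w', w⁆ w' := (Subgroup.mem_centralizer_iff.mp hw' _ hc)
      -- `w' ^ 1 * w ^ p`: use the formula with roles `a = w'`... we use pow_mul_class_two
      have h1 := Cfsg.Agent.Lib.Helper10.pow_mul_class_two (a := w) (b := w') rfl hca hcb 1
      -- swap: `w ^ p` commutes with `w'`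
      have h2 : Commute (w ^ p) w' := (Subgroup.mem_centralizer_iff.mp hw' _ hwp)
      -- use the formula for `b = w`, `a = w'` and `c' = ⁅w, w'⁆`
      have hc' : ⁅w, w'⁆ = (⁅w', w⁆)⁻¹ := (commutatorElement_inv w' w).symm
      have hca' : Commute ⁅w, w'⁆ w' := by rw [hc']; exact hcb.inv_left
      have hcb' : Commute ⁅w, w'⁆ w := by rw [hc']; exact hca.inv_left
      have h3 := Cfsg.Agent.Lib.Helper10.pow_mul_class_two (a := w') (b := w) rfl hca' hcb' p
      rw [h2.eq] at h3
      have h4 : ⁅w, w'⁆ ^ p = 1 := by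
        have := mul_left_cancel (a := w' * w ^ p) (b := 1) (c := ⁅w, w'⁆ ^ p)
          (by rw [mul_one]; exact h3)
        exact this.symm
      rw [hc', inv_pow, inv_eq_one] at h4
      exact h4
    have hdvd : p ∣ (p ^ n).choose 2 := hp.dvd_choose_pow (by norm_num) (Ne.symm hn)
    let D : Subgroup G :=
      { carrier := {w | w ∈ Z y ∧ w ∈ Subgroup.centralizer (A : Set G) ∧ w ^ p ∈ A ∧
          (∀ g ∈ Z y, ⁅w, g⁆ ∈ A) ∧ w ^ p ^ n = 1}
        one_mem' := by
          refine ⟨(Z y).one_mem, Subgroup.one_mem _, ?_, fun g _ => ?_, one_pow _⟩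
          · rw [one_pow]; exact A.one_mem
          · rw [commutatorElement_one_left]; exact A.one_mem
        mul_mem' := by
          rintro w w' ⟨hw1, hw2, hw3, hw4, hw5⟩ ⟨hw'1, hw'2, hw'3, hw'4, hw'5⟩
          have hc : ⁅w', w⁆ ∈ A := hw'4 w hw1
          have hca : Commute ⁅w', w⁆ w := (Subgroup.mem_centralizer_iff.mp hw2 _ hc)
          have hcb : Commute ⁅w', w⁆ w' := (Subgroup.mem_centralizer_iff.mp hw'2 _ hc)
          have hcp' : ⁅w', w⁆ ^ p = 1 := hcp w w' hw2 hw'2 hw3 hc
          refine ⟨(Z y).mul_mem hw1 hw'1, Subgroup.mul_mem _ hw2 hw'2, ?_, fun g hg => ?_, ?_⟩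
          · rw [Cfsg.Agent.Lib.Helper10.mul_pow_class_two rfl hca hcb p]
            exact A.mul_mem (A.mul_mem hw3 hw'3) (A.pow_mem hc _)
          · have e : ⁅w * w', g⁆ = (w * ⁅w', g⁆ * w⁻¹) * ⁅w, g⁆ := by
              simp only [commutatorElement_def]; group
            rw [e]
            exact A.mul_mem (hAn.conj_mem _ (hw'4 g hg) w) (hw4 g hg)
          · rw [Cfsg.Agent.Lib.Helper10.mul_pow_class_two rfl hca hcb (p ^ n), hw5, hw'5, one_mul,
              one_mul]
            obtain ⟨t, ht⟩ := hdvd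
            rw [ht, pow_mul, hcp', one_pow]
        inv_mem' := by
          rintro w ⟨hw1, hw2, hw3, hw4, hw5⟩
          refine ⟨(Z y).inv_mem hw1, Subgroup.inv_mem _ hw2, ?_, fun g hg => ?_, ?_⟩
          · rw [inv_pow]; exact A.inv_mem hw3
          · have e : ⁅w⁻¹, g⁆ = w⁻¹ * (⁅w, g⁆)⁻¹ * w := by
              simp only [commutatorElement_def]; group
            rw [e]
            have := hAn.conj_mem _ (A.inv_mem (hw4 g hg)) w⁻¹
            simpa using this
          · rw [inv_pow, hw5, inv_one] }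
    have hmemD : ∀ w, w ∈ D ↔ (w ∈ Z y ∧ w ∈ Subgroup.centralizer (A : Set G) ∧ w ^ p ∈ A ∧
        (∀ g ∈ Z y, ⁅w, g⁆ ∈ A) ∧ w ^ p ^ n = 1) := fun w => Iff.rfl
    have hyD : y ∈ D := by
      refine (hmemD y).mpr ⟨?_, hyC, hyp, fun g hg => hg, hyq⟩
      rw [hmemZ, commutatorElement_self]
      exact A.one_mem
    -- conjugation by the normalizer of `Z y`
    have hnormZ : ∀ h ∈ Subgroup.normalizer (Z y : Set G), ∀ g, g ∈ Z y → h * g * h⁻¹ ∈ Z y := by
      intro h hh g hg
      exact (Subgroup.mem_normalizer_iff.mp hh g).mp hg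
    have hnormZ' : ∀ h ∈ Subgroup.normalizer (Z y : Set G), ∀ g, g ∈ Z y → h⁻¹ * g * h ∈ Z y := by
      intro h hh g hg
      have := hnormZ h⁻¹ (Subgroup.inv_mem _ hh) g hg
      simpa using this
    have hDnorm : ∀ h ∈ Subgroup.normalizer (Z y : Set G), ∀ w ∈ D, h * w * h⁻¹ ∈ D := by
      intro h hh w hw
      obtain ⟨hw1, hw2, hw3, hw4, hw5⟩ := (hmemD w).mp hw
      refine (hmemD _).mpr ⟨hnormZ h hh w hw1, hCconj h w hw2, ?_, fun g hg => ?_, ?_⟩
      · have e : (h * w * h⁻¹) ^ p = h * w ^ p * h⁻¹ := by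
          rw [← MulAut.conj_apply, ← MulAut.conj_apply, map_pow]
        rw [e]
        exact hAn.conj_mem _ hw3 h
      · have e : ⁅h * w * h⁻¹, g⁆ = h * ⁅w, h⁻¹ * g * h⁆ * h⁻¹ := by
          simp only [commutatorElement_def]; group
        rw [e]
        exact hAn.conj_mem _ (hw4 _ (hnormZ' h hh g hg)) h
      · have e : (h * w * h⁻¹) ^ p ^ n = h * w ^ p ^ n * h⁻¹ := by
          rw [← MulAut.conj_apply, ← MulAut.conj_apply, map_pow]
        rw [e, hw5]; group
    have hAZ : A ≤ Z y := by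
      intro a ha
      rw [hmemZ, commutatorElement_eq_one_iff_commute.mpr (hyCa a ha).symm]
      exact A.one_mem
    obtain ⟨y', hy'D, hy'A, hy'p, hy'c⟩ := Cfsg.Agent.Lib.Helper10.exists_central_mod_rel hG
      (Subgroup.normalizer (Z y : Set G)) A D (fun h _ m hm => hAn.conj_mem m hm h) hDnorm
      (fun w hw => hlt.le ((hmemD w).mp hw).1) (fun hle => hyA (hle hyD))
    obtain ⟨_, hy'2, _, _, hy'5⟩ := (hmemD y').mp hy'D
    have hy'X : y' ∈ X := ⟨hy'2, hy'A, hy'5, hy'p⟩
    have hle : Subgroup.normalizer (Z y : Set G) ≤ Z y' := fun g hg => hy'c g hg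
    have h1 : Nat.card (Z y) < Nat.card (Subgroup.normalizer (Z y : Set G)) := by
      apply Set.ncard_lt_ncard (s := (Z y : Set G)) (t := (Subgroup.normalizer (Z y : Set G) : Set G))
      · exact hlt
    have h2 : Nat.card (Subgroup.normalizer (Z y : Set G)) ≤ Nat.card (Z y') :=
      Subgroup.card_le_of_le hle
    have h3 : Nat.card (Z y') ≤ Nat.card (Z y) := hymax y' hy'X
    omega

end Cfsg.Agent.S0130
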