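import Mathlib
import Cfsg.Statements.S1452
import Cfsg.Agent.S0130
import Cfsg.Agent.Lib.Helper10.PGroupCentral

set_option autoImplicit false
open Cfsg

namespace Cfsg.Agent.S1452

/-- Let p be an odd prime and R a finite p-group containing an elementary abelian subgroup of order p ^ 3. If E is a normal elementary abelian subgroup of R of order p ^ 2, then E ≤ A for some normal subgroup A of R with C_R(A) = A that contains an elementary abelian subgroup of order p ^ 3. -/
theorem result {R : Type*} [Group R] [Finite R] (p : ℕ) [Fact p.Prime] (hp : p ≠ 2) (hR : IsPGroup p R) (hr : ¬ Cfsg.PRankLE p 2 R)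
    (E : Subgroup R) [E.Normal] (hE : Cfsg.IsElementaryAbelian p E) (hE2 : Nat.card E = p ^ 2) :
    ∃ A : Subgroup R, E ≤ A ∧ A.Normal ∧ Subgroup.centralizer (A : Set R) = A ∧ ¬ Cfsg.PRankLE p 2 A := by
  classical
  have hpp : p.Prime := Fact.out
  obtain ⟨hEc, hEe⟩ := hE
  have hEcomm : ∀ a ∈ E, ∀ b ∈ E, a * b = b * a := by
    intro a ha b hb
    have := hEc.is_comm.comm (⟨a, ha⟩ : E) ⟨b, hb⟩
    exact congrArg Subtype.val this
  -- an elementary abelian subgroup of order more than `p ^ 2`
  obtain ⟨F, hFc, hFe, hFcard⟩ : ∃ F : Subgroup R, IsMulCommutative F ∧ (∀ a ∈ F, a ^ p = 1) ∧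
      p ^ 2 < Nat.card F := by
    unfold Cfsg.PRankLE at hr
    push Not at hr
    exact hr
  have hFcomm : ∀ a ∈ F, ∀ b ∈ F, a * b = b * a := by
    intro a ha b hb
    have := hFc.is_comm.comm (⟨a, ha⟩ : F) ⟨b, hb⟩
    exact congrArg Subtype.val this
  -- the centralizer of `E`
  have hEC : E ≤ Subgroup.centralizer (E : Set R) := by
    intro a ha
    rw [Subgroup.mem_centralizer_iff]
    intro b hb
    exact hEcomm b hb a ha
  have hidx := Cfsg.Agent.Lib.Helper10.index_centralizer_le_of_card_le_sq hR E (le_of_eq hE2)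
  have hrel : (Subgroup.centralizer (E : Set R)).relIndex F ≤ p := by
    have h1 : (Subgroup.centralizer (E : Set R)).relIndex F ∣
        (Subgroup.centralizer (E : Set R)).index := Subgroup.relIndex_dvd_index_of_normal _ _
    have h2 : 0 < (Subgroup.centralizer (E : Set R)).index :=
      Nat.pos_of_ne_zero Subgroup.index_ne_zero_of_finite
    exact (Nat.le_of_dvd h2 h1).trans hidx
  have hmul : Nat.card ↥(F ⊓ Subgroup.centralizer (E : Set R)) *
      (Subgroup.centralizer (E : Set R)).relIndex F = Nat.card F := by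
    have h1 := Subgroup.relIndex_mul_relIndex (H := (⊥ : Subgroup R))
      (K := F ⊓ Subgroup.centralizer (E : Set R)) (L := F) bot_le inf_le_left
    rw [Subgroup.relIndex_bot_left, Subgroup.relIndex_bot_left, inf_comm,
      Subgroup.inf_relIndex_right] at h1
    rw [inf_comm]
    exact h1
  -- the elementary abelian subgroup `B₁ = (F ∩ C) E`
  have hB1 : ∃ B₁ : Subgroup R, B₁ ≤ Subgroup.centralizer (E : Set R) ∧ (∀ b ∈ B₁, b ^ p = 1) ∧
      p ^ 2 < Nat.card B₁ := by
    by_cases hFE : F ⊓ Subgroup.centralizer (E : Set R) ≤ E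
    · -- then `F ∩ C = E`, so `F ≤ C`, impossible
      exfalso
      obtain ⟨i, hi⟩ := (hR.to_subgroup (F ⊓ Subgroup.centralizer (E : Set R))).exists_card_eq
      obtain ⟨j, hj⟩ := (hR.to_subgroup F).exists_card_eq
      have hj3 : 3 ≤ j := by
        by_contra hcon
        rw [hj] at hFcard
        have : p ^ j ≤ p ^ 2 := Nat.pow_le_pow_right hpp.pos (by omega)
        omega
      have hi2 : 2 ≤ i := by
        by_contra hcon
        have h1 : p ^ i ≤ p ^ 1 := Nat.pow_le_pow_right hpp.pos (by omega)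
        have h2 : p ^ 3 ≤ p ^ j := Nat.pow_le_pow_right hpp.pos hj3
        rw [hi, hj] at hmul
        have h3 : p ^ i * (Subgroup.centralizer (E : Set R)).relIndex F ≤ p ^ 1 * p :=
          Nat.mul_le_mul h1 hrel
        have h4 : p ^ 1 * p = p ^ 2 := by ring
        have h5 : p ^ 2 < p ^ 3 := Nat.pow_lt_pow_right hpp.one_lt (by omega)
        omega
      have hge : Nat.card E ≤ Nat.card ↥(F ⊓ Subgroup.centralizer (E : Set R)) := by
        rw [hE2, hi]; exact Nat.pow_le_pow_right hpp.pos hi2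
      have heq : F ⊓ Subgroup.centralizer (E : Set R) = E := Subgroup.eq_of_le_of_card_ge hFE hge
      have hEF : E ≤ F := by rw [← heq]; exact inf_le_left
      have hFC : F ≤ Subgroup.centralizer (E : Set R) := by
        intro f hf
        rw [Subgroup.mem_centralizer_iff]
        intro e he
        exact hFcomm e (hEF he) f hf
      have hFE' : F ≤ E := by rw [← heq]; exact le_inf le_rfl hFC
      have := Subgroup.card_le_of_le hFE'
      omega
    · -- `B₁ = E ⊔ zpowers f` with `f ∈ F ∩ C`, `f ∉ E`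
      obtain ⟨f, hf, hfE⟩ := SetLike.not_le_iff_exists.mp hFE
      have hfF := (Subgroup.mem_inf.mp hf).1
      have hfC := (Subgroup.mem_inf.mp hf).2
      refine ⟨E ⊔ Subgroup.zpowers f, sup_le hEC (by rw [Subgroup.zpowers_le]; exact hfC), ?_, ?_⟩
      · intro b hb
        obtain ⟨a, ha, i, rfl⟩ := (Cfsg.Agent.Lib.Helper10.mem_sup_zpowers_iff E f b).mp hb
        have hc : Commute a (f ^ i) :=
          Commute.zpow_right (Subgroup.mem_centralizer_iff.mp hfC a ha) i
        rw [hc.mul_pow, hEe a ha, one_mul, ← zpow_natCast, ← zpow_mul, mul_comm, zpow_mul,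
          zpow_natCast, hFe f hfF, one_zpow]
      · have hlt : E < E ⊔ Subgroup.zpowers f := by
          refine lt_of_le_of_ne le_sup_left (fun h => hfE ?_)
          rw [h]
          exact Subgroup.mem_sup_right (Subgroup.mem_zpowers f)
        have := Set.ncard_lt_ncard (s := (E : Set R))
          (t := ((E ⊔ Subgroup.zpowers f : Subgroup R) : Set R)) hlt
        rw [← hE2]
        exact this
  obtain ⟨B₁, hB1C, hB1e, hB1card⟩ := hB1
  -- a maximal normal elementary abelian subgroup containing `E`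
  let S : Set (Subgroup R) := {A | A.Normal ∧ IsMulCommutative A ∧ (∀ a ∈ A, a ^ p = 1) ∧ E ≤ A}
  have hSne : S.Nonempty := ⟨E, inferInstance, hEc, hEe, le_rfl⟩
  obtain ⟨A₀, hA0max⟩ := (Set.toFinite S).exists_maximal hSne
  obtain ⟨hA0n, hA0c, hA0e, hEA0⟩ :
      A₀.Normal ∧ IsMulCommutative A₀ ∧ (∀ a ∈ A₀, a ^ p = 1) ∧ E ≤ A₀ := hA0max.prop
  haveI := hA0n
  have halp : ∀ e : R, e ∈ Subgroup.centralizer (A₀ : Set R) → e ^ p = 1 → e ∈ A₀ := by
    intro e he hep
    refine Cfsg.Agent.S0130.result hR 1 (by rw [pow_one]; exact hp) A₀ hA0c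
      (fun a ha => by rw [pow_one]; exact hA0e a ha) ?_ e he (by rw [pow_one]; exact hep)
    intro B hBn hBc hBe hAB
    have hBS : B ∈ S := ⟨hBn, hBc, fun b hb => by have := hBe b hb; rwa [pow_one] at this,
      hEA0.trans hAB⟩
    exact le_antisymm (hA0max.le_of_ge hBS hAB) hAB
  have hA0card : p ^ 2 < Nat.card A₀ := by
    by_contra hcon
    push Not at hcon
    have heq : E = A₀ := Subgroup.eq_of_le_of_card_ge hEA0 (by rw [hE2]; exact hcon)
    have hB1A : B₁ ≤ A₀ := by
      intro b hb
      apply halp b _ (hB1e b hb)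
      rw [← heq]
      exact hB1C hb
    have := Subgroup.card_le_of_le hB1A
    omega
  have hA0comm : ∀ a ∈ A₀, ∀ b ∈ A₀, a * b = b * a := by
    intro a ha b hb
    have := hA0c.is_comm.comm (⟨a, ha⟩ : A₀) ⟨b, hb⟩
    exact congrArg Subtype.val this
  obtain ⟨A, hA0A, hAn, hAc, hAcen⟩ :=
    Cfsg.Agent.Lib.Helper10.exists_normal_abelian_self_centralizing hR A₀ hA0comm
  refine ⟨A, hEA0.trans hA0A, hAn, hAcen, ?_⟩
  intro hrank
  have h1 := hrank (A₀.subgroupOf A) ⟨⟨fun u v => by
    apply Subtype.ext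
    apply Subtype.ext
    exact hA0comm u.1.1 (Subgroup.mem_subgroupOf.mp u.2) v.1.1 (Subgroup.mem_subgroupOf.mp v.2)⟩⟩
    (fun a ha => by
      apply Subtype.ext
      have := hA0e a.1 (Subgroup.mem_subgroupOf.mp ha)
      simpa using this)
  have h2 : Nat.card ↥(A₀.subgroupOf A) = Nat.card A₀ :=
    Nat.card_congr (Subgroup.subgroupOfEquivOfLe hA0A).toEquiv
  omega

end Cfsg.Agent.S1452
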