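import Mathlib
import Cfsg.Agent.Lib.Helper13.Uniq91c
import Cfsg.Statements.S1398
-- import your own Cfsg.Agent.* helpers here

set_option autoImplicit false
open Cfsg

namespace Cfsg.Agent.S1398

/-- Let G be a minimal simple group of odd order, M a maximal subgroup, p a prime, and B a noncyclic elementary abelian p-subgroup of M. If C_G(b) ≤ M for every non-identity b ∈ B, or if every subgroup of G of order coprime to p normalized by B is contained in M, then M is the only maximal subgroup of G containing B. -/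
theorem result {G : Type*} [Group G] [Finite G] (hG : Cfsg.IsMinSimpleOddOrder G)
    (M : Subgroup G) (hM : IsCoatom M) (p : ℕ) [Fact p.Prime] (B : Subgroup G) (hBM : B ≤ M)
    (hBe : Cfsg.IsElementaryAbelian p B) (hBnc : ¬ IsCyclic B)
    (h : (∀ b ∈ B, b ≠ 1 → Subgroup.centralizer ({b} : Set G) ≤ M) ∨
      ∀ Y ∈ Cfsg.invSubgroups ⊤ B (Cfsg.primesNotDvd p), Y ≤ M) :
    Cfsg.InUniqueMaximal B := by
  classical
  have hpp : p.Prime := Fact.out
  have hBp : IsPGroup p B := by
    intro b
    refine ⟨1, ?_⟩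
    rw [pow_one]
    apply Subtype.ext
    rw [Subgroup.coe_pow, Subgroup.coe_one]
    exact hBe.2 b b.2
  have hB1 : B ≠ ⊥ := by
    rintro rfl
    exact hBnc inferInstance
  -- `|B| ≥ p²`
  have hBcard : p ^ (1 + 1) ≤ Nat.card B := by
    obtain ⟨k, hk⟩ := IsPGroup.iff_card.mp hBp
    rw [hk]
    apply Nat.pow_le_pow_right hpp.pos
    by_contra hlt
    push Not at hlt
    have hk1 : k = 0 ∨ k = 1 := by omega
    rcases hk1 with h0 | h1
    · rw [h0, pow_zero] at hk
      exact hB1 (Subgroup.card_eq_one.mp hk)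
    · rw [h1, pow_one] at hk
      exact hBnc (isCyclic_of_prime_card hk)
  have hinv : ∀ Y : Subgroup G, (Nat.card Y).Coprime p → B ≤ Subgroup.normalizer (Y : Set G) → Y ≤ M := by
    rcases h with ha | hb
    · intro Y hY hBY
      apply Cfsg.Agent.Lib.Helper20.le_of_forall_inf_centralizer_le 1 Y hY B hBe hBY hBcard M
      intro F hFB hFcard
      have hF1 : F ≠ ⊥ := by
        rintro rfl
        rw [Subgroup.card_bot, pow_one] at hFcard
        exact absurd hFcard (not_le.mpr hpp.one_lt)
      obtain ⟨b, hbF, hb1⟩ := (F.bot_or_exists_ne_one).resolve_left hF1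
      refine le_trans inf_le_right (le_trans ?_ (ha b (hFB hbF) hb1))
      apply Subgroup.centralizer_le
      rintro x hx
      rw [Set.mem_singleton_iff] at hx
      rw [hx]; exact hbF
    · intro Y hY hBY
      apply hb Y
      refine ⟨le_top, ?_, hBY⟩
      intro q hq hqd
      refine ⟨hq, ?_⟩
      intro hqp
      have : q = p := (Nat.prime_dvd_prime_iff_eq hq hpp).mp hqp
      rw [this] at hqd
      exact (Nat.Prime.coprime_iff_not_dvd hpp).mp hY.symm hqd
  have huniq := Cfsg.Agent.Lib.Helper13.Uniq91c.uniq_of_invariant hG M hM p B hBM hBp hB1 hinv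
  exact ⟨M, ⟨hM, hBM⟩, fun H hH => huniq H hH.1 hH.2⟩

end Cfsg.Agent.S1398
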