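import Cfsg.Statements.S0602
-- import your own Cfsg.Agent.* helpers here

set_option autoImplicit false
open Cfsg

namespace Cfsg.Agent.S0602

/-- The Thompson subgroup is characteristic, and nontrivial as soon as p divides the group order. -/
theorem result {G : Type*} [Group G] [Finite G] {p : ℕ} [Fact p.Prime] : (Cfsg.thompsonSubgroup p G).Characteristic ∧ (p ∣ Nat.card G → Cfsg.thompsonSubgroup p G ≠ ⊥) := by
    classical
  have hp : p.Prime := Fact.out
  -- images of elementary abelian subgroups under automorphisms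
  have hmapEA : ∀ (φ : G ≃* G) (A : Subgroup G), Cfsg.IsElementaryAbelian p A →
      Cfsg.IsElementaryAbelian p (A.map φ.toMonoidHom) := by
    intro φ A hA
    haveI : IsMulCommutative A := hA.1
    refine ⟨Subgroup.map_isMulCommutative A φ.toMonoidHom, ?_⟩
    intro a ha
    obtain ⟨b, hb, rfl⟩ := Subgroup.mem_map.mp ha
    rw [← map_pow, hA.2 b hb, map_one]
  have hcard : ∀ (φ : G ≃* G) (A : Subgroup G),
      Nat.card (A.map φ.toMonoidHom) = Nat.card A :=
    fun φ A => Subgroup.card_map_of_injective φ.injective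
  refine ⟨?_, ?_⟩
  · rw [Subgroup.characteristic_iff_map_le]
    intro φ
    rw [Subgroup.map_le_iff_le_comap]
    unfold Cfsg.thompsonSubgroup
    apply sSup_le
    intro A hA
    rw [← Subgroup.map_le_iff_le_comap]
    apply le_sSup
    refine ⟨hmapEA φ A hA.1, ?_⟩
    intro B hB
    rw [hcard]
    exact hA.2 B hB
  · intro hdvd
    obtain ⟨x, hx⟩ := exists_prime_orderOf_dvd_card' (G := G) p hdvd
    have hx1 : x ≠ 1 := by
      intro h
      rw [h, orderOf_one] at hx
      exact hp.ne_one hx.symm
    have hEAx : Cfsg.IsElementaryAbelian p (Subgroup.zpowers x) := by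
      refine ⟨inferInstance, ?_⟩
      intro a ha
      obtain ⟨k, rfl⟩ := Subgroup.mem_zpowers_iff.mp ha
      rw [← zpow_natCast, ← zpow_mul, mul_comm, zpow_mul, zpow_natCast, ← hx, pow_orderOf_eq_one,
        one_zpow]
    -- choose an elementary abelian subgroup of largest order
    haveI : Nonempty {A : Subgroup G // Cfsg.IsElementaryAbelian p A} := ⟨⟨_, hEAx⟩⟩
    obtain ⟨⟨A, hA⟩, hAmax⟩ := Finite.exists_max
      (fun A : {A : Subgroup G // Cfsg.IsElementaryAbelian p A} => Nat.card (A : Subgroup G))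
    have hAM : A ∈ Cfsg.maxElementaryAbelianSubgroups p G :=
      ⟨hA, fun B hB => hAmax ⟨B, hB⟩⟩
    have hAle : A ≤ Cfsg.thompsonSubgroup p G := le_sSup hAM
    intro hbot
    rw [hbot, le_bot_iff] at hAle
    have h1 : Nat.card (Subgroup.zpowers x) ≤ Nat.card A := hAmax ⟨_, hEAx⟩
    rw [Nat.card_zpowers, hx, hAle, Subgroup.card_bot] at h1
    exact absurd h1 (not_le.mpr hp.one_lt)

end Cfsg.Agent.S0602
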