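import Cfsg.Statements.S0606
import Cfsg.Agent.Lib.Helper17.Thompson
open Cfsg.Agent.Lib.Helper17

set_option autoImplicit false
open Cfsg

namespace Cfsg.Agent.S0606

/-- Elementary abelian p-subgroups of maximal order are best offenders on any normal elementary abelian p-subgroup. -/
theorem result {G : Type*} [Group G] [Finite G] {p : ℕ} [Fact p.Prime] (V : Subgroup G) [V.Normal] (hV : Cfsg.IsElementaryAbelian p V) (A : Subgroup G) (hA : A ∈ Cfsg.maxElementaryAbelianSubgroups p G) : Cfsg.IsBestOffenderOn p V A := by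
  refine ⟨?_, ?_, ?_⟩
  · intro B hBA
    have hBEA : Cfsg.IsElementaryAbelian p B := ea_mono hA.1 hBA
    have hCEA : Cfsg.IsElementaryAbelian p (V ⊓ Subgroup.centralizer (B : Set G)) :=
      ea_mono hV inf_le_left
    have hBC : B ≤ Subgroup.centralizer ((V ⊓ Subgroup.centralizer (B : Set G) : Subgroup G) : Set G) :=
      Subgroup.le_centralizer_iff.mp inf_le_right
    have hsup := ea_sup hBEA hCEA hBC
    have h1 := card_mul_card_le_inf_sup B (V ⊓ Subgroup.centralizer (B : Set G))
    have h2 : Nat.card (B ⊔ (V ⊓ Subgroup.centralizer (B : Set G)) : Subgroup G) ≤ Nat.card A :=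
      hA.2 _ hsup
    have h3 : B ⊓ (V ⊓ Subgroup.centralizer (B : Set G)) ≤ V ⊓ Subgroup.centralizer (A : Set G) := by
      rintro g ⟨hgB, hgV, -⟩
      exact ⟨hgV, (ea_iff.mp hA.1).1 (hBA hgB)⟩
    have h4 := Subgroup.card_le_of_le h3
    calc Nat.card B * Nat.card ↥(V ⊓ Subgroup.centralizer (B : Set G))
        ≤ Nat.card (B ⊓ (V ⊓ Subgroup.centralizer (B : Set G)) : Subgroup G) *
          Nat.card (B ⊔ (V ⊓ Subgroup.centralizer (B : Set G)) : Subgroup G) := h1
      _ ≤ Nat.card ↥(V ⊓ Subgroup.centralizer (A : Set G)) * Nat.card A :=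
          Nat.mul_le_mul h4 h2
      _ = Nat.card A * Nat.card ↥(V ⊓ Subgroup.centralizer (A : Set G)) := mul_comm _ _
  · rw [Subgroup.commutator_le]
    intro a ha b hb
    rw [commutatorElement_eq_one_iff_mul_comm.mpr (ea_comm hA.1 ha hb)]
    exact one_mem _
  · intro a ha
    rw [hA.1.2 a ha]
    exact one_mem _

end Cfsg.Agent.S0606
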