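import Cfsg.Statements.S2821
import Cfsg.Agent.Lib.Helper16.LargestPReduced

set_option autoImplicit false
open Cfsg

namespace Cfsg.Agent.S2821

open Cfsg.Agent.Lib.Helper16

/-- `Ω₁(Z(S)) ≤ Y_L` for every Sylow `p`-subgroup `S` of a finite group `L` of characteristic `p`
(all inside the group `L`). -/
theorem omega_center_sylow_le {L : Type*} [Group L] [Finite L] {p : ℕ} [Fact p.Prime]
    (hchar : Subgroup.centralizer (Cfsg.pCore p L : Set L) ≤ Cfsg.pCore p L) (S : Sylow p L)
    (l : L) (hlS : l ∈ (S : Subgroup L)) (hlc : ∀ s ∈ (S : Subgroup L), s * l = l * s)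
    (hlp : l ^ p = 1) : l ∈ Cfsg.largestPReduced p L := by
  set R : Subgroup L := (S : Subgroup L) with hR
  -- X : central elements of order dividing p in R
  let X : Subgroup ↥R :=
    { carrier := {r | r ∈ Subgroup.center ↥R ∧ r ^ p = 1}
      mul_mem' := by
        rintro a b ⟨ha, hap⟩ ⟨hb, hbp⟩
        refine ⟨Subgroup.mul_mem _ ha hb, ?_⟩
        have hc : Commute a b := ((Subgroup.mem_center_iff.mp ha) b).symm
        rw [hc.mul_pow, hap, hbp, one_mul]
      one_mem' := ⟨Subgroup.one_mem _, one_pow p⟩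
      inv_mem' := by
        rintro a ⟨ha, hap⟩
        exact ⟨Subgroup.inv_mem _ ha, by rw [inv_pow, hap, inv_one]⟩ }
  have hXc : X ≤ Subgroup.center ↥R := fun r hr => hr.1
  have hXp : ∀ x ∈ X, x ^ p = 1 := fun r hr => hr.2
  have hX : Cfsg.IsPReducedNormal p X := isPReducedNormal_of_le_center p X hXc hXp
  have hcl := isPReducedNormal_normalClosure hchar S R le_rfl X hX
  have hle := le_largestPReduced hcl
  apply hle
  apply Subgroup.le_normalClosure
  refine ⟨⟨l, hlS⟩, ⟨?_, ?_⟩, rfl⟩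
  · rw [Subgroup.mem_center_iff]
    rintro ⟨s, hs⟩
    apply Subtype.ext
    exact hlc s hs
  · apply Subtype.ext
    simpa using hlp

/-- Let H be a finite group, p a prime, T a Sylow p-subgroup and L a subgroup of characteristic p containing T; let Y_L be the largest p-reduced normal subgroup of L (the join of the normal elementary abelian p-subgroups V of L with O_p(L/C_L(V)) = 1). Then T₀ := C_T(Y_L) is a Sylow p-subgroup of C_H(Y_L); moreover O_p(L) ≤ T₀ ≤ C_L(Y_L) and Ω₁(Z(T)) ≤ Z_L ≤ Y_L ≤ Ω₁(Z(O_p(L))), where Z_L is generated by the Ω₁(Z(S)) over the Sylow p-subgroups S of L. -/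
theorem result {H : Type*} [Group H] [Finite H] {p : ℕ} [Fact p.Prime] (T : Sylow p H) (L : Subgroup H) (hTL : (T : Subgroup H) ≤ L) (hL : Subgroup.centralizer (Cfsg.pCore p ↥L : Set ↥L) ≤ Cfsg.pCore p ↥L) (T₀ : Subgroup H) (hT₀ : T₀ = (T : Subgroup H) ⊓ Subgroup.centralizer (((Cfsg.largestPReducedOf p L) : Subgroup H) : Set H)) : (∃ P : Sylow p ↥(Subgroup.centralizer (((Cfsg.largestPReducedOf p L) : Subgroup H) : Set H)), (P : Subgroup ↥(Subgroup.centralizer (((Cfsg.largestPReducedOf p L) : Subgroup H) : Set H))) = T₀.subgroupOf (Subgroup.centralizer (((Cfsg.largestPReducedOf p L) : Subgroup H) : Set H))) ∧ (Cfsg.pCoreOf p L) ≤ T₀ ∧ T₀ ≤ L ⊓ Subgroup.centralizer (((Cfsg.largestPReducedOf p L) : Subgroup H) : Set H) ∧ (Cfsg.omegaOne p ((T : Subgroup H) ⊓ Subgroup.centralizer (((T : Subgroup H) : Subgroup H) : Set H))) ≤ Cfsg.sylowCenterClosure p L ∧ Cfsg.sylowCenterClosure p L ≤ (Cfsg.largestPReducedOf p L) ∧ (Cfsg.largestPReducedOf p L) ≤ (Cfsg.omegaOne p ((Cfsg.pCoreOf p L)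 ⊓ Subgroup.centralizer (((Cfsg.pCoreOf p L) : Subgroup H) : Set H))) := by
  have hYred : Cfsg.IsPReducedNormal p (Cfsg.largestPReduced p ↥L) :=
    largestPReduced_isPReducedNormal p
  set Y := Cfsg.largestPReduced p ↥L with hY
  have hYL : Cfsg.largestPReducedOf p L = Y.map L.subtype := rfl
  set YL := Cfsg.largestPReducedOf p L with hYLdef
  set C := Subgroup.centralizer (YL : Set H) with hC
  have hLN : L ≤ Subgroup.normalizer (YL : Set H) := by
    rw [hYL]; exact le_normalizer_map_subtype_of_normal L Y hYred.1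
  -- the Sylow subgroup of L given by T
  set T' : Sylow p ↥L := T.subtype hTL with hT'
  have hT'map : (T' : Subgroup ↥L).map L.subtype = (T : Subgroup H) := by
    rw [hT', Sylow.coe_subtype, Subgroup.map_subgroupOf_eq_of_le hTL]
  have hQT : Cfsg.pCoreOf p L ≤ (T : Subgroup H) := by
    unfold Cfsg.pCoreOf
    rw [← hT'map]
    exact Subgroup.map_mono (pCore_le_sylow T')
  have hQC : Cfsg.pCoreOf p L ≤ C := by
    unfold Cfsg.pCoreOf
    rw [hC, hYL]
    exact map_subtype_le_centralizer L _ _ (isPReducedNormal_pCore_le_centralizer hYred)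
  refine ⟨?_, ?_, ?_, ?_, ?_, ?_⟩
  · rw [hT₀]
    exact exists_sylow_inf_of_le_normalizer T (Subgroup.normalizer (YL : Set H)) C
      (hTL.trans hLN) (Subgroup.centralizer_le_normalizer _)
      (normalizer_le_normalizer_centralizer YL)
  · rw [hT₀]
    exact le_inf hQT hQC
  · rw [hT₀]
    exact inf_le_inf_right _ hTL
  · unfold Cfsg.sylowCenterClosure
    have := le_iSup (fun S : Sylow p ↥L => Cfsg.omegaOne p (((S : Subgroup ↥L).map L.subtype) ⊓
      Subgroup.centralizer ((((S : Subgroup ↥L).map L.subtype : Subgroup H)) : Set H))) T'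
    simp only [hT'map] at this
    exact this
  · unfold Cfsg.sylowCenterClosure
    apply iSup_le
    intro S
    unfold Cfsg.omegaOne
    rw [Subgroup.closure_le]
    rintro x ⟨⟨⟨l, hlS, rfl⟩, hxc⟩, hxp⟩
    rw [hYL]
    refine ⟨l, ?_, rfl⟩
    apply omega_center_sylow_le hL S l hlS
    · intro s hs
      have := (Subgroup.mem_centralizer_iff.mp hxc) (s : H) ⟨s, hs, rfl⟩
      apply Subtype.ext
      simpa using this
    · apply Subtype.ext
      simpa using hxp
  · rw [hYL]
    rintro _ ⟨y, hy, rfl⟩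
    unfold Cfsg.omegaOne
    apply Subgroup.subset_closure
    refine ⟨⟨?_, ?_⟩, ?_⟩
    · exact ⟨y, isPReducedNormal_le_pCore hYred hy, rfl⟩
    · have h1 : (Cfsg.pCoreOf p L) ≤ C := hQC
      show L.subtype y ∈ Subgroup.centralizer ((Cfsg.pCoreOf p L : Subgroup H) : Set H)
      rw [Subgroup.mem_centralizer_iff]
      intro q hq
      have := (Subgroup.mem_centralizer_iff.mp (h1 hq)) (y : H) ⟨y, hy, rfl⟩
      exact this.symm
    · have := hYred.2.1.2 y hy
      have h3 := congrArg Subtype.val this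
      simpa using h3

end Cfsg.Agent.S2821
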