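import Cfsg.Statements.S0601
import Cfsg.Agent.S2821
import Cfsg.Agent.Lib.Helper16.WeaklyClosed

set_option autoImplicit false
open Cfsg
open Cfsg.Agent.Lib.Helper16
open scoped commutatorElement Pointwise

namespace Cfsg.Agent.S0601

variable {G : Type*} [Group G]

/-- `Ω₁(Z(S))` for a subgroup `S`. -/
def zOm (p : ℕ) (S : Subgroup G) : Subgroup G :=
  Cfsg.omegaOne p (S ⊓ Subgroup.centralizer (S : Set G))

theorem zOm_le (p : ℕ) (S : Subgroup G) : zOm p S ≤ S ⊓ Subgroup.centralizer (S : Set G) := by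
  unfold zOm Cfsg.omegaOne
  rw [Subgroup.closure_le]
  intro x hx
  exact hx.1

theorem map_zOm_le {p : ℕ} [Fact p.Prime] (S : Sylow p G) (g : G) :
    (zOm p (S : Subgroup G)).map (MulAut.conj g).toMonoidHom ≤
      zOm p ((g • S : Sylow p G) : Subgroup G) := by
  unfold zOm Cfsg.omegaOne
  rw [MonoidHom.map_closure]
  apply Subgroup.closure_mono
  rintro _ ⟨x, ⟨hx1, hx2⟩, rfl⟩
  have hgx : (MulAut.conj g).toMonoidHom x = g * x * g⁻¹ := by simp [MulAut.conj_apply]
  rw [hgx]
  refine ⟨Subgroup.mem_inf.mpr ⟨?_, ?_⟩, ?_⟩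
  · exact Cfsg.Agent.Lib.Helper24.conj_mem_smul_sylow S g x hx1.1
  · rw [Subgroup.mem_centralizer_iff]
    intro y hy
    have hy' : g⁻¹ * y * g ∈ (S : Subgroup G) :=
      (Cfsg.Agent.Lib.Helper24.mem_smul_sylow_iff S g y).mp hy
    have := Subgroup.mem_centralizer_iff.mp hx1.2 _ hy'
    calc y * (g * x * g⁻¹) = g * ((g⁻¹ * y * g) * x) * g⁻¹ := by group
      _ = g * (x * (g⁻¹ * y * g)) * g⁻¹ := by rw [this]
      _ = g * x * g⁻¹ * y := by group
  · rw [conj_pow, hx2]; group

/-- When O_p(G) contains its centralizer, the normal closure of Ω₁(Z(S)) is elementary abelian and G has no nontrivial normal p-subgroup modulo its centralizer. -/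
theorem result {G : Type*} [Group G] [Finite G] {p : ℕ} [Fact p.Prime] (hc : Subgroup.centralizer (Cfsg.pCore p G : Set G) ≤ Cfsg.pCore p G) : (⨆ S : Sylow p G, Cfsg.omegaOne p (((S : Subgroup G)) ⊓ Subgroup.centralizer ((S : Subgroup G) : Set G))).Normal ∧ Cfsg.IsElementaryAbelian p (⨆ S : Sylow p G, Cfsg.omegaOne p (((S : Subgroup G)) ⊓ Subgroup.centralizer ((S : Subgroup G) : Set G))) ∧ ∀ D : Subgroup G, D.Normal → Subgroup.centralizer ((⨆ S : Sylow p G, Cfsg.omegaOne p (((S : Subgroup G)) ⊓ Subgroup.centralizer ((S : Subgroup G) : Set G)) : Subgroup G) : Set G) ≤ D → (∃ k : ℕ, (Subgroup.centralizer ((⨆ S : Sylow p G, Cfsg.omegaOne p (((S : Subgroup G)) ⊓ Subgroup.centralizer ((S : Subgroup G) : Set G)) : Subgroup G) : Set G)).relIndex D = p ^ k) → D = Subgroup.centralizer ((⨆ S : Sylow p G, Cfsg.omegaOne p (((S : Subgroup G)) ⊓ Subgroup.centralizer ((S : Subgroup G) : Set G)) : Subgroup G) : Set G) := by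
  change (⨆ S : Sylow p G, zOm p (S : Subgroup G)).Normal ∧
    Cfsg.IsElementaryAbelian p (⨆ S : Sylow p G, zOm p (S : Subgroup G)) ∧
    ∀ D : Subgroup G, D.Normal →
      Subgroup.centralizer ((⨆ S : Sylow p G, zOm p (S : Subgroup G) : Subgroup G) : Set G) ≤ D →
      (∃ k : ℕ, (Subgroup.centralizer
        ((⨆ S : Sylow p G, zOm p (S : Subgroup G) : Subgroup G) : Set G)).relIndex D = p ^ k) →
      D = Subgroup.centralizer ((⨆ S : Sylow p G, zOm p (S : Subgroup G) : Subgroup G) : Set G)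
  set W : Subgroup G := ⨆ S : Sylow p G, zOm p (S : Subgroup G) with hW
  -- normality
  have hmap : ∀ g : G, W.map (MulAut.conj g).toMonoidHom ≤ W := by
    intro g
    rw [hW, Subgroup.map_iSup]
    apply iSup_le
    intro S
    exact (map_zOm_le S g).trans (le_iSup (fun S : Sylow p G => zOm p (S : Subgroup G)) (g • S))
  have hWn : W.Normal := by
    constructor
    intro w hw g
    exact hmap g (conj_mem_map_conj W g hw)
  -- W ≤ Y
  have hY := largestPReduced_isPReducedNormal (L := G) p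
  have hWY : W ≤ Cfsg.largestPReduced p G := by
    apply iSup_le
    intro S
    unfold zOm Cfsg.omegaOne
    rw [Subgroup.closure_le]
    intro x hx
    exact Cfsg.Agent.S2821.omega_center_sylow_le hc S x hx.1.1
      (fun s hs => Subgroup.mem_centralizer_iff.mp hx.1.2 s hs) hx.2
  obtain ⟨_, hYE, _⟩ := (isPReducedNormal_iff p _).mp hY
  have hWE : Cfsg.IsElementaryAbelian p W := by
    refine ⟨?_, fun a ha => hYE.2 a (hWY ha)⟩
    apply isMulCommutative_of_le_centralizer
    exact hWY.trans ((le_centralizer_of_isMulCommutative hYE.1).trans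
      (Subgroup.centralizer_le hWY))
  refine ⟨hWn, hWE, ?_⟩
  intro D hDn hCD ⟨k, hk⟩
  apply le_antisymm _ hCD
  haveI hCn : (Subgroup.centralizer ((W : Subgroup G) : Set G)).Normal := Subgroup.normal_centralizer
  have hp : ∀ x ∈ D, ∃ j : ℕ, x ^ (p ^ j) ∈ Subgroup.centralizer ((W : Subgroup G) : Set G) := by
    intro x hx
    refine ⟨k, ?_⟩
    haveI : ((Subgroup.centralizer ((W : Subgroup G) : Set G)).subgroupOf D).Normal :=
      hCn.subgroupOf D
    have h1 := Subgroup.pow_index_mem
      ((Subgroup.centralizer ((W : Subgroup G) : Set G)).subgroupOf D) (⟨x, hx⟩ : ↥D)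
    have h2 : ((Subgroup.centralizer ((W : Subgroup G) : Set G)).subgroupOf D).index = p ^ k := hk
    rw [h2, Subgroup.mem_subgroupOf] at h1
    simpa using h1
  intro d hd
  have hdS : ∀ S : Sylow p G, d ∈ Subgroup.centralizer ((zOm p (S : Subgroup G) : Subgroup G) : Set G) := by
    intro S
    obtain ⟨t, ht, c, hcC, rfl⟩ := exists_sylow_mul_of_pgroup_quot S _ D hDn hp d hd
    rw [Subgroup.mem_centralizer_iff]
    intro x hx
    have hx' := zOm_le p _ hx
    have h1 : t * x = x * t := Subgroup.mem_centralizer_iff.mp hx'.2 t ht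
    have hxW : x ∈ W := (le_iSup (fun S : Sylow p G => zOm p (S : Subgroup G)) S) hx
    have h2 : x * c = c * x := Subgroup.mem_centralizer_iff.mp hcC x hxW
    calc x * (t * c) = (x * t) * c := by group
      _ = (t * x) * c := by rw [h1]
      _ = t * (x * c) := by group
      _ = t * (c * x) := by rw [h2]
      _ = t * c * x := by group
  have h3 : Subgroup.zpowers d ≤ Subgroup.centralizer ((W : Subgroup G) : Set G) := by
    rw [Subgroup.le_centralizer_iff]
    apply iSup_le
    intro S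
    rw [Subgroup.le_centralizer_iff]
    exact Subgroup.zpowers_le.mpr (hdS S)
  exact h3 (Subgroup.mem_zpowers d)

end Cfsg.Agent.S0601
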