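import Cfsg.Statements.S0608
import Cfsg.Agent.Lib.Helper17.ThompsonOf
import Cfsg.Agent.Lib.Helper16.SylowNormal
import Cfsg.Agent.S0604
open Cfsg.Agent.Lib.Helper17

set_option autoImplicit false
open Cfsg

namespace Cfsg.Agent.S0608

/-- With trivial p'-core, Thompson factorizability is equivalent to J(G) centralizing the subgroup generated by all Ω₁(Z(S)), S Sylow. -/
theorem result {G : Type*} [Group G] [Finite G] {p : ℕ} [Fact p.Prime] (hO : Cfsg.pPrimeCore p G = ⊥) : Cfsg.IsThompsonFactorizable p G ↔ Cfsg.thompsonSubgroup p G ≤ Subgroup.centralizer ((⨆ S : Sylow p G, Cfsg.omegaOne p (((S : Subgroup G)) ⊓ Subgroup.centralizer ((S : Subgroup G) : Set G)) : Subgroup G) : Set G) := by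
  classical
  constructor
  · -- (⇒)
    intro hTF
    rw [Cfsg.Agent.S0604.result (G := G) (p := p)]
    apply iSup_le
    intro S
    rw [← Subgroup.le_centralizer_iff]
    apply iSup_le
    intro S'
    unfold Cfsg.omegaOne
    rw [Subgroup.closure_le]
    rintro y ⟨hyZ, hyp⟩
    obtain ⟨hyS', hyC'⟩ := Subgroup.mem_inf.mp hyZ
    rw [SetLike.mem_coe, Subgroup.mem_centralizer_iff]
    intro a ha
    obtain ⟨g, hg⟩ := MulAction.exists_smul_eq G S S'
    obtain ⟨x, hx, c, hc, n, hn, hgf⟩ := hTF S g⁻¹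
    rw [hO, Subgroup.mem_bot] at hx
    subst hx
    rw [one_mul] at hgf
    -- y₀ = g⁻¹ y g
    have hy₀S : g⁻¹ * y * g ∈ (S : Subgroup G) := by
      rw [← mem_smul_sylow_iff, hg]; exact hyS'
    have hy₀C : g⁻¹ * y * g ∈ Subgroup.centralizer ((S : Subgroup G) : Set G) := by
      rw [Subgroup.mem_centralizer_iff]
      intro s hs
      have hs' : g * s * g⁻¹ ∈ (S' : Subgroup G) := by
        rw [← hg]; exact conj_mem_smul_sylow g S hs
      have h1 := (Subgroup.mem_centralizer_iff.mp hyC') _ hs'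
      calc s * (g⁻¹ * y * g) = g⁻¹ * ((g * s * g⁻¹) * y) * g := by group
        _ = g⁻¹ * (y * (g * s * g⁻¹)) * g := by rw [h1]
        _ = g⁻¹ * y * g * s := by group
    have hy₀p : (g⁻¹ * y * g) ^ p = 1 := by
      have := conj_pow (a := g⁻¹) (b := y) (i := p)
      rw [inv_inv] at this
      rw [this, hyp, mul_one, inv_mul_cancel]
    have hy₀Z : g⁻¹ * y * g ∈ Cfsg.omegaOne p ((S : Subgroup G) ⊓
        Subgroup.centralizer ((S : Subgroup G) : Set G)) :=
      Subgroup.subset_closure ⟨Subgroup.mem_inf.mpr ⟨hy₀S, hy₀C⟩, hy₀p⟩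
    have hcy : (g⁻¹ * y * g) * c = c * (g⁻¹ * y * g) :=
      (Subgroup.mem_centralizer_iff.mp hc) _ hy₀Z
    -- n y n⁻¹ = y₀
    have hny : n * y * n⁻¹ = g⁻¹ * y * g := by
      have hg' : g = n⁻¹ * c⁻¹ := by
        rw [← inv_inv g, hgf]; group
      have h2 : g⁻¹ * y * g = c * (n * y * n⁻¹) * c⁻¹ := by
        rw [hgf, hg']; group
      have h3 : c⁻¹ * (g⁻¹ * y * g) * c = g⁻¹ * y * g := by
        rw [mul_assoc, hcy, ← mul_assoc, inv_mul_cancel, one_mul]
      rw [← h3]
      conv_lhs => rw [show n * y * n⁻¹ = c⁻¹ * (c * (n * y * n⁻¹) * c⁻¹) * c by group]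
      rw [← h2]
    have hna : n * a * n⁻¹ ∈ (S : Subgroup G) := by
      have := (Subgroup.mem_normalizer_iff.mp hn a).mp ha
      exact thompsonSubgroupOf_le_self (S : Subgroup G) this
    have h4 := (Subgroup.mem_centralizer_iff.mp hy₀C) _ hna
    rw [← hny] at h4
    -- (n a n⁻¹)(n y n⁻¹) = (n y n⁻¹)(n a n⁻¹)
    have h5 : n * (a * y) * n⁻¹ = n * (y * a) * n⁻¹ := by
      calc n * (a * y) * n⁻¹ = (n * a * n⁻¹) * (n * y * n⁻¹) := by group
        _ = (n * y * n⁻¹) * (n * a * n⁻¹) := h4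
        _ = n * (y * a) * n⁻¹ := by group
    exact mul_left_cancel (mul_right_cancel h5)
  · -- (⇐)
    intro hJ S g
    haveI hVn : (⨆ S : Sylow p G, Cfsg.omegaOne p (((S : Subgroup G)) ⊓
        Subgroup.centralizer ((S : Subgroup G) : Set G))).Normal :=
      iSup_omegaOneCenter_normal
    set V : Subgroup G := ⨆ S : Sylow p G, Cfsg.omegaOne p (((S : Subgroup G)) ⊓
        Subgroup.centralizer ((S : Subgroup G) : Set G)) with hV
    set C : Subgroup G := Subgroup.centralizer (V : Set G) with hC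
    haveI hCn : C.Normal := Subgroup.normal_centralizer
    obtain ⟨Q, hQ⟩ := Cfsg.Agent.Lib.Helper16.exists_sylow_subgroupOf_normal S C
    have hfr := Sylow.normalizer_sup_eq_top Q
    rw [hQ, Subgroup.subgroupOf_map_subtype] at hfr
    have hg : g ∈ (↑(C ⊔ Subgroup.normalizer (((S : Subgroup G) ⊓ C : Subgroup G) : Set G)) : Set G) := by
      rw [sup_comm, hfr]; trivial
    rw [Subgroup.normal_mul, Set.mem_mul] at hg
    obtain ⟨c, hc, n, hn, hcn⟩ := hg
    have hJS : Cfsg.thompsonSubgroupOf p (S : Subgroup G) ≤ (S : Subgroup G) ⊓ C := by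
      apply le_inf (thompsonSubgroupOf_le_self _)
      refine le_trans ?_ hJ
      rw [Cfsg.Agent.S0604.result (G := G) (p := p)]
      exact le_iSup (fun S : Sylow p G => Cfsg.thompsonSubgroupOf p (S : Subgroup G)) S
    have hJeq := thompsonSubgroupOf_eq_of_le (p := p) (inf_le_left : (S : Subgroup G) ⊓ C ≤ S) hJS
    refine ⟨1, one_mem _, c, ?_, n, ?_, ?_⟩
    · have : Cfsg.omegaOne p ((S : Subgroup G) ⊓ Subgroup.centralizer ((S : Subgroup G) : Set G)) ≤ V :=
        le_iSup (fun S : Sylow p G => Cfsg.omegaOne p (((S : Subgroup G)) ⊓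
          Subgroup.centralizer ((S : Subgroup G) : Set G))) S
      exact Subgroup.centralizer_le this hc
    · rw [← hJeq]
      exact normalizer_le_normalizer_thompsonSubgroupOf _ hn
    · rw [one_mul, hcn]

end Cfsg.Agent.S0608
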