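import Cfsg.Statements.S0634
import Mathlib
import Cfsg.Agent.Lib.Helper3.PSolvable
-- import your own Cfsg.Agent.* helpers here

set_option autoImplicit false
open Cfsg

namespace Cfsg.Agent.S0634

/-- In a p-soluble group each p-factor of the upper p-series contains its own centralizer in the corresponding quotient. -/
theorem result {G : Type*} [Group G] [Finite G] {p : ℕ} [Fact p.Prime] (hsol : Cfsg.IsPSolvable p G) (k : ℕ) : Subgroup.centralizer ((((Cfsg.upperPSeries p G (2 * k + 2)).1.map (QuotientGroup.mk' (Cfsg.upperPSeries p G (2 * k + 1)).1)) : Subgroup (G ⧸ (Cfsg.upperPSeries p G (2 * k + 1)).1)) : Set (G ⧸ (Cfsg.upperPSeries p G (2 * k + 1)).1)) ≤ (Cfsg.upperPSeries p G (2 * k + 2)).1.map (QuotientGroup.mk' (Cfsg.upperPSeries p G (2 * k + 1)).1) := by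
  have hp : p.Prime := Fact.out
  set V := (Cfsg.upperPSeries p G (2 * k + 1)).1 with hV
  have hVeq := Cfsg.Agent.Lib.Helper3.upperPSeries_odd (G := G) p k
  have hbot : Cfsg.pPrimeCore p (G ⧸ V) = ⊥ :=
    Cfsg.Agent.Lib.Helper3.pPrimeCore_quotient_eq_bot p (Cfsg.upperPSeries p G (2 * k)).1 V hVeq
  have hsolq : Cfsg.IsPSolvable p (G ⧸ V) := Cfsg.Agent.Lib.Helper3.isPSolvable_quotient hp hsol V
  have hHH := Cfsg.Agent.Lib.Helper3.centralizer_pCore_le hsolq hbot
  have hmap : (Cfsg.upperPSeries p G (2 * k + 2)).1.map (QuotientGroup.mk' V) =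
      Cfsg.pCore p (G ⧸ V) := by
    rw [Cfsg.Agent.Lib.Helper3.upperPSeries_even (G := G) p k]
    exact Subgroup.map_comap_eq_self_of_surjective (QuotientGroup.mk'_surjective V) _
  rw [hmap]
  exact hHH

end Cfsg.Agent.S0634
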