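import Cfsg.Statements.S1467

set_option autoImplicit false
open Cfsg

namespace Cfsg.Agent.S1467

variable {G : Type*} [Group G]

theorem puigStep_antitone {X Y : Subgroup G} (h : X ≤ Y) : Cfsg.puigStep Y ≤ Cfsg.puigStep X := by
  unfold Cfsg.puigStep
  apply sSup_le_sSup
  rintro A ⟨hA, hY⟩
  exact ⟨hA, h.trans hY⟩

theorem puigStep_bot : Cfsg.puigStep (⊥ : Subgroup G) = ⊤ := by
  rw [eq_top_iff]
  intro g _
  have : Subgroup.zpowers g ≤ Cfsg.puigStep (⊥ : Subgroup G) := by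
    unfold Cfsg.puigStep
    apply le_sSup
    refine ⟨?_, bot_le⟩
    infer_instance
  exact this (Subgroup.mem_zpowers g)

theorem seq_zero : Cfsg.puigSeq G 0 = ⊥ := by
  unfold Cfsg.puigSeq; rfl

theorem seq_succ (n : ℕ) : Cfsg.puigSeq G (n + 1) = Cfsg.puigStep (Cfsg.puigSeq G n) := by
  conv_lhs => unfold Cfsg.puigSeq

/-- the sequence of even terms -/
def ev (G : Type*) [Group G] (n : ℕ) : Subgroup G := Cfsg.puigSeq G (2 * n)
/-- the sequence of odd terms -/
def od (G : Type*) [Group G] (n : ℕ) : Subgroup G := Cfsg.puigSeq G (2 * n + 1)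

theorem od_eq (n : ℕ) : od G n = Cfsg.puigStep (ev G n) := seq_succ _

theorem ev_succ (n : ℕ) : ev G (n + 1) = Cfsg.puigStep (od G n) := by
  unfold ev od
  have : 2 * (n + 1) = (2 * n + 1) + 1 := by ring
  rw [this, seq_succ]

theorem ev_zero : ev G 0 = ⊥ := by
  unfold ev; rw [Nat.mul_zero]; exact seq_zero

theorem ev_le_succ (n : ℕ) : ev G n ≤ ev G (n + 1) := by
  induction n with
  | zero => rw [ev_zero]; exact bot_le
  | succ n ih =>
    have h1 : od G (n + 1) ≤ od G n := by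
      rw [od_eq, od_eq]; exact puigStep_antitone ih
    rw [ev_succ n, ev_succ (n + 1)]
    exact puigStep_antitone h1

theorem od_succ_le (m : ℕ) : od G (m + 1) ≤ od G m := by
  rw [od_eq, od_eq]; exact puigStep_antitone (ev_le_succ m)

theorem ev_mono : Monotone (ev G) := monotone_nat_of_le_succ ev_le_succ

theorem od_anti : Antitone (od G) := antitone_nat_of_succ_le od_succ_le

theorem ev_le_od_same (k : ℕ) : ev G k ≤ od G k := by
  induction k with
  | zero => rw [ev_zero]; exact bot_le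
  | succ k ih =>
    have h1 : ev G (k + 1) ≤ od G k := by
      rw [ev_succ, od_eq]; exact puigStep_antitone ih
    rw [od_eq (k + 1)]
    conv_lhs => rw [ev_succ]
    exact puigStep_antitone h1

theorem ev_le_od (n m : ℕ) : ev G n ≤ od G m :=
  (ev_mono (le_max_left n m)).trans ((ev_le_od_same _).trans (od_anti (le_max_right n m)))

theorem main [Finite G] :
    ev G 0 = ⊥ ∧ od G 0 = ⊤ ∧
      (∀ n m : ℕ, ev G n ≤ ev G (n + 1) ∧ ev G n ≤ od G m ∧ od G (m + 1) ≤ od G m) ∧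
      (∃ k : ℕ, ∀ n : ℕ, k ≤ n → ev G n = ⨆ n, ev G n ∧ od G n = ⨅ n, od G n) ∧
      (⨆ n, ev G n) ≤ (⨅ n, od G n) ∧
      Cfsg.puigStep (⨆ n, ev G n) = (⨅ n, od G n) ∧ Cfsg.puigStep (⨅ n, od G n) = (⨆ n, ev G n) := by
  obtain ⟨k1, hk1⟩ := WellFoundedGT.monotone_chain_condition
    (⟨ev G, ev_mono⟩ : ℕ →o Subgroup G)
  obtain ⟨k2, hk2⟩ := WellFoundedLT.antitone_chain_condition (od_anti (G := G))
  simp only [OrderHom.coe_mk] at hk1
  have hlow : ∀ n, k1 ≤ n → ev G n = ⨆ n, ev G n := by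
    intro n hn
    apply le_antisymm
    · exact le_iSup (ev G) n
    · apply iSup_le
      intro j
      rcases le_total j n with h | h
      · exact ev_mono h
      · rw [← hk1 n hn, hk1 j (hn.trans h)]
  have hup : ∀ n, k2 ≤ n → od G n = ⨅ n, od G n := by
    intro n hn
    apply le_antisymm
    · apply le_iInf
      intro j
      rcases le_total j n with h | h
      · exact od_anti h
      · have e1 : od G k2 = od G n := hk2 n hn
        have e2 : od G k2 = od G j := hk2 j (hn.trans h)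
        rw [← e1, e2]
    · exact iInf_le (od G) n
  set K := max k1 k2 with hK
  have hK1 : k1 ≤ K := le_max_left _ _
  have hK2 : k2 ≤ K := le_max_right _ _
  refine ⟨ev_zero, ?_, fun n m => ⟨ev_le_succ n, ev_le_od n m, od_succ_le m⟩,
    ⟨K, fun n hn => ⟨hlow n (hK1.trans hn), hup n (hK2.trans hn)⟩⟩, ?_, ?_, ?_⟩
  · rw [od_eq, ev_zero]; exact puigStep_bot
  · rw [← hlow K hK1, ← hup K hK2]
    exact ev_le_od_same K
  · rw [← hlow K hK1, ← hup K hK2, od_eq]
  · rw [← hup K hK2, ← hlow (K + 1) (hK1.trans (Nat.le_succ K)), ev_succ]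

/-- Let G be a finite group with Puig series L_n(G). Then L_0 = 1, L_1 = G; L_{2n} ≤ L_{2n+2} ≤ L_{2m+3} ≤ L_{2m+1} for all n, m; there is k with L_{2n}(G) = L_*(G) and L_{2n+1}(G) = L(G) for all n ≥ k; L_*(G) ≤ L(G); and applying one Puig step to L_*(G) gives L(G) and to L(G) gives L_*(G). -/
theorem result {G : Type*} [Group G] [Finite G] :
    Cfsg.puigSeq G 0 = ⊥ ∧ Cfsg.puigSeq G 1 = ⊤ ∧
      (∀ n m : ℕ, Cfsg.puigSeq G (2 * n) ≤ Cfsg.puigSeq G (2 * n + 2) ∧ Cfsg.puigSeq G (2 * n) ≤ Cfsg.puigSeq G (2 * m + 1) ∧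
        Cfsg.puigSeq G (2 * m + 3) ≤ Cfsg.puigSeq G (2 * m + 1)) ∧
      (∃ k : ℕ, ∀ n : ℕ, k ≤ n → Cfsg.puigSeq G (2 * n) = Cfsg.puigLower G ∧ Cfsg.puigSeq G (2 * n + 1) = Cfsg.puigSubgroup G) ∧
      Cfsg.puigLower G ≤ Cfsg.puigSubgroup G ∧
      Cfsg.puigStep (Cfsg.puigLower G) = Cfsg.puigSubgroup G ∧ Cfsg.puigStep (Cfsg.puigSubgroup G) = Cfsg.puigLower G := by
  obtain ⟨h0, h1, h2, h3, h4, h5, h6⟩ := main (G := G)
  refine ⟨seq_zero, ?_, ?_, ?_, ?_, ?_, ?_⟩
  · rw [show (1 : ℕ) = 2 * 0 + 1 by norm_num]; exact h1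
  · intro n m
    obtain ⟨a, b, c⟩ := h2 n m
    refine ⟨?_, b, ?_⟩
    · have : 2 * n + 2 = 2 * (n + 1) := by ring
      rw [this]; exact a
    · have : 2 * m + 3 = 2 * (m + 1) + 1 := by ring
      rw [this]; exact c
  · exact h3
  · exact h4
  · exact h5
  · exact h6

end Cfsg.Agent.S1467
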