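import Cfsg.Statements.S0649

set_option autoImplicit false
open Cfsg

namespace Cfsg.Agent.S0649

/-- In the Glauberman replacement situation, if B does not normalize A then some element of B normalizes N_S(A) without normalizing A. -/
theorem result {S : Type*} [Group S] [Finite S] {p : ℕ} [Fact p.Prime] (hS : IsPGroup p S) (B : Subgroup S) [B.Normal] (hB2 : p = 2 → IsMulCommutative B) (A : Subgroup S) (hA : IsMulCommutative A) (hBA : ⁅B, B⁆ ≤ A) (hnot : ¬ B ≤ Subgroup.normalizer (A : Set S)) : ∃ b ∈ B, b ∈ Subgroup.normalizer ((Subgroup.normalizer (A : Set S)) : Set S) ∧ b ∉ Subgroup.normalizer (A : Set S) := by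
  generalize hN : Subgroup.normalizer (A : Set S) = N at *
  have hNK : N ≤ N ⊔ B := le_sup_left
  have hBK : B ≤ N ⊔ B := le_sup_right
  haveI : Group.IsNilpotent ↥(N ⊔ B) := (hS.to_subgroup (N ⊔ B)).isNilpotent
  have hnc := Group.normalizerCondition_of_isNilpotent (G := ↥(N ⊔ B))
  have hlt : N.subgroupOf (N ⊔ B) < ⊤ := by
    rw [lt_top_iff_ne_top]
    intro h
    rw [Subgroup.subgroupOf_eq_top] at h
    exact hnot (hBK.trans h)
  obtain ⟨hle, hne⟩ := (hnc _ hlt)
  rw [SetLike.not_le_iff_exists] at hne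
  obtain ⟨⟨x, hxK⟩, hxn, hxN⟩ := hne
  have hx' : x ∈ (↑(N ⊔ B) : Set S) := hxK
  rw [Subgroup.mul_normal] at hx'
  obtain ⟨n, hn, b, hb, rfl⟩ := Set.mem_mul.mp hx'
  have hnb : n * b ∈ Subgroup.normalizer (N : Set S) := by
    rw [Subgroup.mem_normalizer_iff]
    rw [Subgroup.mem_normalizer_iff] at hxn
    intro s
    constructor
    · intro hs
      have := (hxn ⟨s, hNK hs⟩).mp (by simpa [Subgroup.mem_subgroupOf] using hs)
      simpa [Subgroup.mem_subgroupOf] using this
    · intro ht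
      have hsK : s ∈ N ⊔ B := by
        have h1 : (n * b)⁻¹ * ((n * b) * s * (n * b)⁻¹) * (n * b) ∈ N ⊔ B :=
          (N ⊔ B).mul_mem ((N ⊔ B).mul_mem ((N ⊔ B).inv_mem hxK) (hNK ht)) hxK
        simpa [mul_assoc] using h1
      have := (hxn ⟨s, hsK⟩).mpr (by simpa [Subgroup.mem_subgroupOf] using ht)
      simpa [Subgroup.mem_subgroupOf] using this
  refine ⟨b, hb, ?_, ?_⟩
  · have h1 : n⁻¹ * (n * b) ∈ Subgroup.normalizer (N : Set S) :=
      (Subgroup.normalizer (N : Set S)).mul_mem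
        ((Subgroup.normalizer (N : Set S)).inv_mem (Subgroup.le_normalizer hn)) hnb
    simpa using h1
  · intro hbN
    apply hxN
    rw [Subgroup.mem_subgroupOf]
    exact N.mul_mem hn hbN

end Cfsg.Agent.S0649
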