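import Cfsg.Statements.S0648
import Mathlib

set_option autoImplicit false
open Cfsg
open scoped commutatorElement

namespace Cfsg.Agent.S0648

variable {G : Type*} [Group G]

theorem comm_mul_left (g h k : G) : ⁅g * h, k⁆ = g * ⁅h, k⁆ * g⁻¹ * ⁅g, k⁆ := by
  simp only [commutatorElement_def]; group

theorem comm_mul_right (g h k : G) : ⁅g, h * k⁆ = ⁅g, h⁆ * (h * ⁅g, k⁆ * h⁻¹) := by
  simp only [commutatorElement_def]; group

theorem comm_inv_left (g k : G) : ⁅g⁻¹, k⁆ = g⁻¹ * ⁅g, k⁆⁻¹ * g := by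
  simp only [commutatorElement_def]; group

theorem comm_inv_right (g k : G) : ⁅g, k⁻¹⁆ = k⁻¹ * ⁅g, k⁆⁻¹ * k := by
  simp only [commutatorElement_def]; group

/-- Basic consequences of `A ≤ N(B)` and `[[B,B],A] = 1`. -/
theorem facts (A B : Subgroup G) (hAB : A ≤ Subgroup.normalizer (B : Set G))
    (hc : ⁅⁅B, B⁆, A⁆ = ⊥) :
    ⁅B, A⁆ ≤ B ∧ ⁅⁅B, A⁆, ⁅B, B⁆⁆ = ⊥ ∧ ⁅⁅⁅B, A⁆, ⁅B, A⁆⁆, B⁆ = ⊥ := by
  have hD : ⁅B, A⁆ ≤ B := by
    rw [Subgroup.commutator_le]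
    intro g hg a ha
    have hn := hAB ha
    rw [Subgroup.mem_normalizer_iff] at hn
    have : a * g⁻¹ * a⁻¹ ∈ B := (hn g⁻¹).mp (B.inv_mem hg)
    have e : ⁅g, a⁆ = g * (a * g⁻¹ * a⁻¹) := by
      simp only [commutatorElement_def]; group
    rw [e]; exact B.mul_mem hg this
  have h1 : ⁅⁅A, ⁅B, B⁆⁆, B⁆ = ⊥ := by
    rw [Subgroup.commutator_comm A, hc, Subgroup.commutator_bot_left]
  have h2 : ⁅⁅⁅B, B⁆, B⁆, A⁆ = ⊥ := by
    have : ⁅⁅B, B⁆, B⁆ ≤ ⁅B, B⁆ :=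
      Subgroup.commutator_mono (Subgroup.commutator_le_self B) le_rfl
    exact le_bot_iff.mp (hc ▸ Subgroup.commutator_mono this le_rfl)
  have h3 : ⁅⁅B, A⁆, ⁅B, B⁆⁆ = ⊥ := Subgroup.commutator_commutator_eq_bot_of_rotate h1 h2
  refine ⟨hD, h3, ?_⟩
  have h4 : ⁅⁅⁅B, A⁆, B⁆, ⁅B, A⁆⁆ = ⊥ := by
    have : ⁅⁅B, A⁆, B⁆ ≤ ⁅B, B⁆ := Subgroup.commutator_mono hD le_rfl
    rw [Subgroup.commutator_comm] at h3
    exact le_bot_iff.mp (h3 ▸ Subgroup.commutator_mono this le_rfl)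
  have h5 : ⁅⁅B, ⁅B, A⁆⁆, ⁅B, A⁆⁆ = ⊥ := by
    rw [Subgroup.commutator_comm B]; exact h4
  exact Subgroup.commutator_commutator_eq_bot_of_rotate h4 h5


theorem comm_self_mul (g h : G) : ⁅g, g * h⁆ = g * ⁅g, h⁆ * g⁻¹ := by
  simp only [commutatorElement_def]; group

theorem conj_comm (a g h : G) : a * ⁅g, h⁆ * a⁻¹ = ⁅a * g * a⁻¹, a * h * a⁻¹⁆ := by
  simp only [commutatorElement_def]; group

/-- The relation `[x,y][b,u] = 1`. -/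
theorem relR (A B D : Subgroup G) (hD : D ≤ B)
    (hX : ∀ a ∈ A, ∀ k ∈ ⁅B, B⁆, a * k = k * a)
    (hY : ∀ d ∈ D, ∀ k ∈ ⁅B, B⁆, d * k = k * d)
    (hZ : ∀ d₁ ∈ D, ∀ d₂ ∈ D, ∀ g ∈ B, ⁅d₁, d₂⁆ * g = g * ⁅d₁, d₂⁆)
    (b : G) (hb : b ∈ B) (a a' : G) (ha : a ∈ A)
    (x y u : G) (hx : x = b⁻¹ * a * b * a⁻¹) (hy : y = b⁻¹ * a' * b * a'⁻¹)
    (hu : u = a * y * a⁻¹ * y⁻¹)
    (hxD : x ∈ D) (hyD : y ∈ D) (huD : u ∈ D)
    (huA : ∀ e ∈ A, e * u = u * e) : ⁅x, y⁆ * ⁅b, u⁆ = 1 := by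
  have hxB := hD hxD
  have hyB := hD hyD
  have huB := hD huD
  -- conjugation forms
  have conjZ : ∀ d₁ ∈ D, ∀ d₂ ∈ D, ∀ g ∈ B, g * ⁅d₁, d₂⁆ * g⁻¹ = ⁅d₁, d₂⁆ := by
    intro d₁ h₁ d₂ h₂ g hg
    rw [← hZ d₁ h₁ d₂ h₂ g hg]; group
  have conjY : ∀ d ∈ D, ∀ k ∈ ⁅B, B⁆, d * k * d⁻¹ = k := by
    intro d hd k hk
    rw [hY d hd k hk]; group
  have conjX : ∀ e ∈ A, ∀ k ∈ ⁅B, B⁆, e * k * e⁻¹ = k := by
    intro e he k hk
    rw [hX e he k hk]; group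
  have eu : a * u * a⁻¹ = u := by rw [huA a ha]; group
  have eb : a * b * a⁻¹ = b * x := by rw [hx]; group
  have ey : a * y * a⁻¹ = u * y := by rw [hu]; group
  -- [u,x] = 1
  have hux : ⁅u, x⁆ = 1 := by
    have e1 := conj_comm a u b
    rw [eu, eb, conjX a ha _ (Subgroup.commutator_mem_commutator huB hb), comm_mul_right,
      conjZ u huD x hxD b hb] at e1
    exact (left_eq_mul.mp e1)
  have hxu : ⁅x, u⁆ = 1 := by
    rw [← commutatorElement_inv, hux, inv_one]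
  -- main relation
  have e1 := conj_comm a b (b * y)
  have eby : a * (b * y) * a⁻¹ = (b * x) * (u * y) := by
    have : a * (b * y) * a⁻¹ = (a * b * a⁻¹) * (a * y * a⁻¹) := by group
    rw [this, eb, ey]
  have hbyB : b * y ∈ B := B.mul_mem hb hyB
  rw [conjX a ha _ (Subgroup.commutator_mem_commutator hb hbyB), eb, eby, comm_self_mul,
    comm_self_mul] at e1
  -- e1 : b * ⁅b, y⁆ * b⁻¹ = b * x * ⁅b * x, u * y⁆ * (b * x)⁻¹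
  have huyD : u * y ∈ D := D.mul_mem huD hyD
  have hbxB : b * x ∈ B := B.mul_mem hb hxB
  have e2 : ⁅b, y⁆ = x * ⁅b * x, u * y⁆ * x⁻¹ := by
    have : ⁅b, y⁆ = b⁻¹ * (b * ⁅b, y⁆ * b⁻¹) * b := by group
    rw [this, e1]; group
  rw [conjY x hxD _ (Subgroup.commutator_mem_commutator hbxB (hD huyD))] at e2
  rw [comm_mul_left, conjZ x hxD (u * y) huyD b hb, comm_mul_right x u y, hxu, one_mul,
    conjZ x hxD y hyD u huB, comm_mul_right b u y,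
    conjY u huD _ (Subgroup.commutator_mem_commutator hb hyB)] at e2
  -- e2 : ⁅b, y⁆ = ⁅x, y⁆ * (⁅b, u⁆ * ⁅b, y⁆)
  have e3 : ⁅b, y⁆ = (⁅x, y⁆ * ⁅b, u⁆) * ⁅b, y⁆ := by rw [mul_assoc]; exact e2
  exact (right_eq_mul.mp e3)


theorem core (A B D : Subgroup G) (hD : D ≤ B)
    (hX : ∀ a ∈ A, ∀ k ∈ ⁅B, B⁆, a * k = k * a)
    (hY : ∀ d ∈ D, ∀ k ∈ ⁅B, B⁆, d * k = k * d)
    (hZ : ∀ d₁ ∈ D, ∀ d₂ ∈ D, ∀ g ∈ B, ⁅d₁, d₂⁆ * g = g * ⁅d₁, d₂⁆)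
    (b : G) (hb : b ∈ B) (a a' : G) (ha : a ∈ A) (ha' : a' ∈ A) (hcomm : a * a' = a' * a)
    (x y u v : G) (hx : x = b⁻¹ * a * b * a⁻¹) (hy : y = b⁻¹ * a' * b * a'⁻¹)
    (hu : u = a * y * a⁻¹ * y⁻¹) (hv : v = a' * x * a'⁻¹ * x⁻¹)
    (hxD : x ∈ D) (hyD : y ∈ D) (huD : u ∈ D) (hvD : v ∈ D)
    (huA : ∀ e ∈ A, e * u = u * e) (hvA : ∀ e ∈ A, e * v = v * e) :
    ⁅x, y⁆ ^ 2 = 1 := by
  have r1 := relR A B D hD hX hY hZ b hb a a' ha x y u hx hy hu hxD hyD huD huA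
  have r2 := relR A B D hD hX hY hZ b hb a' a ha' y x v hy hx hv hyD hxD hvD hvA
  have conjZ : ∀ d₁ ∈ D, ∀ d₂ ∈ D, ∀ g ∈ B, g * ⁅d₁, d₂⁆ * g⁻¹ = ⁅d₁, d₂⁆ := by
    intro d₁ h₁ d₂ h₂ g hg
    rw [← hZ d₁ h₁ d₂ h₂ g hg]; group
  -- (*) x u y = y v x
  have star : x * u * y = y * v * x := by
    have e1 : x * u * y = b⁻¹ * (a * a') * b * (a * a')⁻¹ := by
      rw [hu, hx, hy]; group
    have e2 : y * v * x = b⁻¹ * (a' * a) * b * (a' * a)⁻¹ := by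
      rw [hv, hx, hy]; group
    rw [e1, e2, hcomm]
  -- u = v * z with z central in B
  have hvi : v⁻¹ ∈ D := D.inv_mem hvD
  have hxi : x⁻¹ ∈ D := D.inv_mem hxD
  have huz : u = v * (⁅v⁻¹ * x⁻¹, y⁆ * (y * ⁅v⁻¹, x⁻¹⁆ * y⁻¹)) := by
    have e1 : u = x⁻¹ * (x * u * y) * y⁻¹ := by group
    rw [e1, star]
    simp only [commutatorElement_def]; group
  have hbu : ⁅b, u⁆ = ⁅b, v⁆ := by
    rw [huz, conjZ _ hvi _ hxi y (hD hyD), comm_mul_right b v, comm_mul_right b]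
    have c1 : ⁅b, ⁅v⁻¹ * x⁻¹, y⁆⁆ = 1 := by
      rw [commutatorElement_eq_one_iff_mul_comm]
      exact (hZ _ (D.mul_mem hvi hxi) _ hyD b hb).symm
    have c2 : ⁅b, ⁅v⁻¹, x⁻¹⁆⁆ = 1 := by
      rw [commutatorElement_eq_one_iff_mul_comm]
      exact (hZ _ hvi _ hxi b hb).symm
    rw [c1, c2]; group
  rw [hbu] at r1
  -- ⁅x,y⁆ = ⁅b,v⁆⁻¹ = ⁅y,x⁆
  have e1 : ⁅x, y⁆ = ⁅y, x⁆ := by
    have h1 : ⁅x, y⁆ = ⁅b, v⁆⁻¹ := eq_inv_of_mul_eq_one_left r1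
    have h2 : ⁅y, x⁆ = ⁅b, v⁆⁻¹ := eq_inv_of_mul_eq_one_left r2
    rw [h1, h2]
  have e2 : ⁅y, x⁆ = ⁅x, y⁆⁻¹ := (commutatorElement_inv x y).symm
  rw [pow_two]
  nth_rewrite 2 [e1]
  rw [e2, mul_inv_cancel]


theorem result {G : Type*} [Group G] [Finite G] (A B : Subgroup G) (hAB : A ≤ Subgroup.normalizer (B : Set G)) (hc : ⁅⁅B, B⁆, A⁆ = ⊥) : ⁅⁅B, A⁆, ⁅B, A⁆⁆ ≤ B ⊓ Subgroup.centralizer (B : Set G) ∧ (IsMulCommutative A → ∀ b ∈ B, ⁅⁅(Subgroup.closure {g : G | ∃ a ∈ A, g = b⁻¹ * a * b * a⁻¹}), A⁆, A⁆ = ⊥ → ∀ w ∈ ⁅(Subgroup.closure {g : G | ∃ a ∈ A, g = b⁻¹ * a * b * a⁻¹}), (Subgroup.closure {g : G | ∃ a ∈ A, g = b⁻¹ * a * b * a⁻¹})⁆, w ^ 2 = 1) := by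
  obtain ⟨hD, hDB', hDDB⟩ := facts A B hAB hc
  have hDDleB : ⁅⁅B, A⁆, ⁅B, A⁆⁆ ≤ B :=
    (Subgroup.commutator_mono hD hD).trans (Subgroup.commutator_le_self B)
  have hDDcent : ⁅⁅B, A⁆, ⁅B, A⁆⁆ ≤ Subgroup.centralizer (B : Set G) :=
    Subgroup.commutator_eq_bot_iff_le_centralizer.mp hDDB
  refine ⟨le_inf hDDleB hDDcent, ?_⟩
  intro hAcomm b hb hquad w hw
  set D : Subgroup G := ⁅B, A⁆ with hDdef
  set gen : Set G := {g : G | ∃ a ∈ A, g = b⁻¹ * a * b * a⁻¹} with hgen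
  set C : Subgroup G := Subgroup.closure gen with hCdef
  have hX : ∀ a ∈ A, ∀ k ∈ ⁅B, B⁆, a * k = k * a := by
    intro a ha k hk
    have := Subgroup.commutator_eq_bot_iff_le_centralizer.mp hc hk
    rw [Subgroup.mem_centralizer_iff] at this
    exact this a ha
  have hY : ∀ d ∈ D, ∀ k ∈ ⁅B, B⁆, d * k = k * d := by
    intro d hd k hk
    have := Subgroup.commutator_eq_bot_iff_le_centralizer.mp hDB' hd
    rw [Subgroup.mem_centralizer_iff] at this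
    exact (this k hk).symm
  have hZ' : ∀ w ∈ ⁅D, D⁆, ∀ g ∈ B, w * g = g * w := by
    intro w hw g hg
    have := hDDcent hw
    rw [Subgroup.mem_centralizer_iff] at this
    exact (this g hg).symm
  have hZ : ∀ d₁ ∈ D, ∀ d₂ ∈ D, ∀ g ∈ B, ⁅d₁, d₂⁆ * g = g * ⁅d₁, d₂⁆ := by
    intro d₁ h₁ d₂ h₂ g hg
    exact hZ' _ (Subgroup.commutator_mem_commutator h₁ h₂) g hg
  have hgenD : ∀ g ∈ gen, g ∈ D := by
    rintro g ⟨a, ha, rfl⟩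
    have : b⁻¹ * a * b * a⁻¹ = ⁅b⁻¹, a⁆ := by
      simp only [commutatorElement_def]; group
    rw [this]
    exact Subgroup.commutator_mem_commutator (B.inv_mem hb) ha
  have hCD : C ≤ D := (Subgroup.closure_le D).mpr hgenD
  have hCAD : ⁅C, A⁆ ≤ D := Subgroup.commutator_mono (hCD.trans hD) le_rfl
  have hQ : ∀ w ∈ ⁅C, A⁆, ∀ e ∈ A, e * w = w * e := by
    intro w hw e he
    have := Subgroup.commutator_eq_bot_iff_le_centralizer.mp hquad hw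
    rw [Subgroup.mem_centralizer_iff] at this
    exact this e he
  -- the subgroup of elements of ⁅D,D⁆ of order ≤ 2
  let T : Subgroup G :=
    { carrier := {w | w ∈ ⁅D, D⁆ ∧ w ^ 2 = 1}
      one_mem' := ⟨one_mem _, one_pow 2⟩
      mul_mem' := by
        rintro w₁ w₂ ⟨h1, h1'⟩ ⟨h2, h2'⟩
        refine ⟨mul_mem h1 h2, ?_⟩
        have hcm : Commute w₁ w₂ := hZ' w₁ h1 w₂ (hDDleB h2)
        rw [hcm.mul_pow, h1', h2', one_mul]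
      inv_mem' := by
        rintro w ⟨h1, h1'⟩
        exact ⟨inv_mem h1, by rw [inv_pow, h1', inv_one]⟩ }
  have hTmem : ∀ w, w ∈ T ↔ (w ∈ ⁅D, D⁆ ∧ w ^ 2 = 1) := fun w => Iff.rfl
  have hTconj : ∀ w ∈ T, ∀ g ∈ B, g * w * g⁻¹ = w := by
    intro w hw g hg
    rw [← hZ' w ((hTmem w).mp hw).1 g hg]; group
  have hCB : ∀ c ∈ C, c ∈ B := fun c hc => hD (hCD hc)
  have key : ∀ x ∈ C, ∀ y ∈ C, ⁅x, y⁆ ∈ T := by
    intro x hx y hy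
    induction hx, hy using Subgroup.closure_induction₂ with
    | mem x y hx hy =>
      obtain ⟨a, ha, hxa⟩ := hx
      obtain ⟨a', ha', hya⟩ := hy
      have hxC : x ∈ C := Subgroup.subset_closure ⟨a, ha, hxa⟩
      have hyC : y ∈ C := Subgroup.subset_closure ⟨a', ha', hya⟩
      have huC : a * y * a⁻¹ * y⁻¹ ∈ ⁅C, A⁆ := by
        rw [Subgroup.commutator_comm]
        exact Subgroup.commutator_mem_commutator ha hyC
      have hvC : a' * x * a'⁻¹ * x⁻¹ ∈ ⁅C, A⁆ := by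
        rw [Subgroup.commutator_comm]
        exact Subgroup.commutator_mem_commutator ha' hxC
      refine ⟨Subgroup.commutator_mem_commutator (hCD hxC) (hCD hyC), ?_⟩
      exact core A B D hD hX hY hZ b hb a a' ha ha' (setLike_mul_comm ha ha') x y
        (a * y * a⁻¹ * y⁻¹) (a' * x * a'⁻¹ * x⁻¹) hxa hya rfl rfl (hCD hxC) (hCD hyC)
        (hCAD huC) (hCAD hvC) (hQ _ huC) (hQ _ hvC)
    | one_left x hx => rw [commutatorElement_one_left]; exact T.one_mem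
    | one_right x hx => rw [commutatorElement_one_right]; exact T.one_mem
    | mul_left x y z hx hy hz h1 h2 =>
      rw [comm_mul_left, hTconj _ h2 x (hCB x hx)]
      exact T.mul_mem h2 h1
    | mul_right y z x hy hz hx h1 h2 =>
      rw [comm_mul_right, hTconj _ h2 y (hCB y hy)]
      exact T.mul_mem h1 h2
    | inv_left x y hx hy h =>
      rw [comm_inv_left]
      have := hTconj _ (T.inv_mem h) x⁻¹ (B.inv_mem (hCB x hx))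
      rw [inv_inv] at this
      rw [this]; exact T.inv_mem h
    | inv_right x y hx hy h =>
      rw [comm_inv_right]
      have := hTconj _ (T.inv_mem h) y⁻¹ (B.inv_mem (hCB y hy))
      rw [inv_inv] at this
      rw [this]; exact T.inv_mem h
  have hle : ⁅C, C⁆ ≤ T := Subgroup.commutator_le.mpr key
  exact ((hTmem w).mp (hle hw)).2

end Cfsg.Agent.S0648
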