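import Cfsg.Statements.S0650
import Mathlib
import Cfsg.Agent.S0648
import Cfsg.Agent.Lib.Helper15.ProdFormula

set_option autoImplicit false
open Cfsg
open scoped commutatorElement Pointwise

namespace Cfsg.Agent.S0650

open Cfsg.Agent.S0648 Cfsg.Agent.Lib.Helper15

variable {S : Type*} [Group S]

theorem conj_eq_comm_mul (g w : S) : g * w * g⁻¹ = ⁅g, w⁆ * w := by
  simp [commutatorElement_def]

/-- Two abelian subgroups normalizing each other: their join has class at most two. -/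
theorem two_abelian (A A₁ : Subgroup S)
    (hA : ∀ a ∈ A, ∀ a' ∈ A, a * a' = a' * a) (hA₁ : ∀ a ∈ A₁, ∀ a' ∈ A₁, a * a' = a' * a)
    (h1 : ∀ a₁ ∈ A₁, ∀ a ∈ A, a₁ * a * a₁⁻¹ ∈ A)
    (h2 : ∀ a ∈ A, ∀ a₁ ∈ A₁, a * a₁ * a⁻¹ ∈ A₁) :
    (∀ z ∈ A ⊓ A₁, ∀ h ∈ A ⊔ A₁, h * z = z * h) ∧ ⁅A ⊔ A₁, A ⊔ A₁⁆ ≤ A ⊓ A₁ := by
  have ha : ∀ z ∈ A ⊓ A₁, ∀ h ∈ A ⊔ A₁, h * z = z * h := by
    intro z hz
    have hle : A ⊔ A₁ ≤ Subgroup.centralizer ({z} : Set S) := by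
      apply sup_le
      · intro a ha
        rw [Subgroup.mem_centralizer_iff]
        rintro _ rfl
        exact hA _ hz.1 a ha
      · intro a ha
        rw [Subgroup.mem_centralizer_iff]
        rintro _ rfl
        exact hA₁ _ hz.2 a ha
    intro h hh
    have := hle hh
    rw [Subgroup.mem_centralizer_iff] at this
    exact (this z rfl).symm
  refine ⟨ha, ?_⟩
  have hconj : ∀ w ∈ A ⊓ A₁, ∀ g ∈ A ⊔ A₁, g * w * g⁻¹ = w := by
    intro w hw g hg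
    rw [ha w hw g hg]; group
  rw [Subgroup.commutator_le]
  intro g₁ hg₁ g₂ hg₂
  have hH := Subgroup.sup_eq_closure A A₁
  rw [hH] at hg₁ hg₂
  induction hg₁, hg₂ using Subgroup.closure_induction₂ with
  | mem x y hx hy =>
    rcases hx with hx | hx <;> rcases hy with hy | hy
    · have : ⁅x, y⁆ = 1 := by
        rw [commutatorElement_eq_one_iff_mul_comm]; exact hA x hx y hy
      rw [this]; exact Subgroup.one_mem _
    · refine ⟨?_, ?_⟩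
      · have e : ⁅x, y⁆ = x * (y * x⁻¹ * y⁻¹) := by
          simp only [commutatorElement_def]; group
        rw [e]; exact A.mul_mem hx (h1 y hy _ (A.inv_mem hx))
      · have e : ⁅x, y⁆ = (x * y * x⁻¹) * y⁻¹ := by
          simp only [commutatorElement_def]
        rw [e]; exact A₁.mul_mem (h2 x hx y hy) (A₁.inv_mem hy)
    · refine ⟨?_, ?_⟩
      · have e : ⁅x, y⁆ = (x * y * x⁻¹) * y⁻¹ := by
          simp only [commutatorElement_def]
        rw [e]; exact A.mul_mem (h1 x hx y hy) (A.inv_mem hy)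
      · have e : ⁅x, y⁆ = x * (y * x⁻¹ * y⁻¹) := by
          simp only [commutatorElement_def]; group
        rw [e]; exact A₁.mul_mem hx (h2 y hy _ (A₁.inv_mem hx))
    · have : ⁅x, y⁆ = 1 := by
        rw [commutatorElement_eq_one_iff_mul_comm]; exact hA₁ x hx y hy
      rw [this]; exact Subgroup.one_mem _
  | one_left x hx => rw [commutatorElement_one_left]; exact Subgroup.one_mem _
  | one_right x hx => rw [commutatorElement_one_right]; exact Subgroup.one_mem _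
  | mul_left x y z hx hy hz h1' h2' =>
    rw [← hH] at hx
    rw [comm_mul_left, hconj _ h2' x hx]
    exact Subgroup.mul_mem _ h2' h1'
  | mul_right y z x hy hz hx h1' h2' =>
    rw [← hH] at hy
    rw [comm_mul_right, hconj _ h2' y hy]
    exact Subgroup.mul_mem _ h1' h2'
  | inv_left x y hx hy h =>
    rw [← hH] at hx
    rw [comm_inv_left]
    have := hconj _ (Subgroup.inv_mem _ h) x⁻¹ (Subgroup.inv_mem _ hx)
    rw [inv_inv] at this
    rw [this]; exact Subgroup.inv_mem _ h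
  | inv_right x y hx hy h =>
    rw [← hH] at hy
    rw [comm_inv_right]
    have := hconj _ (Subgroup.inv_mem _ h) y⁻¹ (Subgroup.inv_mem _ hy)
    rw [inv_inv] at this
    rw [this]; exact Subgroup.inv_mem _ h

/-- If `⁅H,H⁆ ≤ K ≤ H` then `H` normalizes `K`. -/
theorem le_normalizer_of_commutator_le (H K : Subgroup S) (hKH : K ≤ H) (hc : ⁅H, H⁆ ≤ K) :
    H ≤ Subgroup.normalizer (K : Set S) := by
  intro h hh
  rw [Subgroup.mem_normalizer_iff]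
  intro y
  constructor
  · intro hy
    rw [conj_eq_comm_mul]
    exact K.mul_mem (hc (Subgroup.commutator_mem_commutator hh (hKH hy))) hy
  · intro hy
    have e : y = ⁅h⁻¹, h * y * h⁻¹⁆ * (h * y * h⁻¹) := by
      simp only [commutatorElement_def]; group
    rw [e]
    exact K.mul_mem (hc (Subgroup.commutator_mem_commutator (H.inv_mem hh) (hKH hy))) hy

/-- In a finite group, an element conjugating `H` into itself normalizes `H`. -/
theorem mem_normalizer_of_conj_mem [Finite S] (H : Subgroup S) (g : S)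
    (h : ∀ y ∈ H, g * y * g⁻¹ ∈ H) : g ∈ Subgroup.normalizer (H : Set S) := by
  have hpow : ∀ k : ℕ, ∀ y ∈ H, g ^ k * y * (g ^ k)⁻¹ ∈ H := by
    intro k
    induction k with
    | zero => intro y hy; simpa using hy
    | succ k ih =>
      intro y hy
      have e : g ^ (k + 1) * y * (g ^ (k + 1))⁻¹ = g * (g ^ k * y * (g ^ k)⁻¹) * g⁻¹ := by
        rw [pow_succ']; group
      rw [e]; exact h _ (ih y hy)
  have hinv : ∀ y ∈ H, g⁻¹ * y * g ∈ H := by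
    intro y hy
    have hpos : 0 < orderOf g := orderOf_pos g
    have e : g⁻¹ = g ^ (orderOf g - 1) := by
      rw [eq_comm, ← mul_eq_one_iff_eq_inv, ← pow_succ, Nat.sub_add_cancel hpos,
        pow_orderOf_eq_one]
    have := hpow (orderOf g - 1) y hy
    rw [← e, inv_inv] at this
    exact this
  rw [Subgroup.mem_normalizer_iff]
  intro y
  constructor
  · exact h y
  · intro hy
    have := hinv _ hy
    have e : g⁻¹ * (g * y * g⁻¹) * g = y := by group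
    rw [e] at this; exact this


/-- The class two power formula. -/
theorem mul_pow_class_two (g h : S) (hg : ⁅h, g⁆ * g = g * ⁅h, g⁆) (hh : ⁅h, g⁆ * h = h * ⁅h, g⁆)
    (n : ℕ) : (g * h) ^ n = g ^ n * h ^ n * ⁅h, g⁆ ^ (n * (n - 1) / 2) := by
  have hhg : h * g = g * h * ⁅h, g⁆ := by
    calc h * g = ⁅h, g⁆ * g * h := by simp [commutatorElement_def]
      _ = g * ⁅h, g⁆ * h := by rw [hg]
      _ = g * (⁅h, g⁆ * h) := mul_assoc _ _ _
      _ = g * (h * ⁅h, g⁆) := by rw [hh]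
      _ = g * h * ⁅h, g⁆ := (mul_assoc _ _ _).symm
  generalize ⁅h, g⁆ = c at *
  have hcg : Commute c g := hg
  have hch : Commute c h := hh
  have hpow : ∀ k : ℕ, h ^ k * g = g * h ^ k * c ^ k := by
    intro k
    induction k with
    | zero => simp
    | succ k ih =>
      calc h ^ (k + 1) * g = h * (h ^ k * g) := by rw [pow_succ']; group
        _ = h * (g * h ^ k * c ^ k) := by rw [ih]
        _ = (h * g) * h ^ k * c ^ k := by group
        _ = (g * h * c) * h ^ k * c ^ k := by rw [hhg]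
        _ = g * h * (c * h ^ k) * c ^ k := by group
        _ = g * h * (h ^ k * c) * c ^ k := by rw [(hch.pow_right k).eq]
        _ = g * h ^ (k + 1) * c ^ (k + 1) := by rw [pow_succ' h, pow_succ' c]; group
  induction n with
  | zero => simp
  | succ n ih =>
    rw [Nat.triangle_succ]
    generalize n * (n - 1) / 2 = T at *
    have hcT : Commute (c ^ T) g := hcg.pow_left _
    have hcT' : Commute (c ^ T) h := hch.pow_left _
    have hcn' : Commute (c ^ n) h := hch.pow_left n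
    calc (g * h) ^ (n + 1) = (g * h) ^ n * (g * h) := pow_succ _ _
      _ = g ^ n * h ^ n * c ^ T * (g * h) := by rw [ih]
      _ = g ^ n * h ^ n * (c ^ T * g) * h := by group
      _ = g ^ n * h ^ n * (g * c ^ T) * h := by rw [hcT.eq]
      _ = g ^ n * (h ^ n * g) * (c ^ T * h) := by group
      _ = g ^ n * (g * h ^ n * c ^ n) * (h * c ^ T) := by rw [hpow n, hcT'.eq]
      _ = g ^ n * g * h ^ n * (c ^ n * h) * c ^ T := by group
      _ = g ^ n * g * h ^ n * (h * c ^ n) * c ^ T := by rw [hcn'.eq]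
      _ = (g ^ n * g) * (h ^ n * h) * (c ^ n * c ^ T) := by group
      _ = g ^ (n + 1) * h ^ (n + 1) * c ^ (T + n) := by
          rw [← pow_succ, ← pow_succ, ← pow_add, Nat.add_comm n T]


theorem mem_omegaOne_abelian (p : ℕ) (X : Subgroup S)
    (hX : ∀ a ∈ X, ∀ b ∈ X, a * b = b * a) (w : S) :
    w ∈ Cfsg.omegaOne p X ↔ w ∈ X ∧ w ^ p = 1 := by
  constructor
  · intro hw
    unfold Cfsg.omegaOne at hw
    induction hw using Subgroup.closure_induction with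
    | mem y hy => exact hy
    | one => exact ⟨X.one_mem, one_pow p⟩
    | mul y z _ _ hy hz =>
      refine ⟨X.mul_mem hy.1 hz.1, ?_⟩
      have hc : Commute y z := hX y hy.1 z hz.1
      rw [hc.mul_pow, hy.2, hz.2, one_mul]
    | inv y _ hy => exact ⟨X.inv_mem hy.1, by rw [inv_pow, hy.2, inv_one]⟩
  · intro hw
    exact Subgroup.subset_closure hw

theorem eq_one_of_sq_eq_one {p : ℕ} [Fact p.Prime] (hS : IsPGroup p S) (hp2 : p ≠ 2) (w : S)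
    (hw : w ^ 2 = 1) : w = 1 := by
  obtain ⟨k, hk⟩ := hS w
  have h1 : orderOf w ∣ 2 := orderOf_dvd_of_pow_eq_one hw
  have h2 : orderOf w ∣ p ^ k := orderOf_dvd_of_pow_eq_one hk
  have hcop : Nat.Coprime 2 (p ^ k) := by
    apply Nat.Coprime.pow_right
    rw [Nat.coprime_primes Nat.prime_two (Fact.out : p.Prime)]
    exact fun h => hp2 h.symm
  have := Nat.eq_one_of_dvd_coprimes hcop h1 h2
  exact orderOf_eq_one_iff.mp this

set_option maxHeartbeats 1600000 in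
theorem main [Finite S] {p : ℕ} [Fact p.Prime] (hS : IsPGroup p S) (B : Subgroup S)
    [hBn : B.Normal] (hB2 : p = 2 → IsMulCommutative B) (A : Subgroup S)
    (hAc : IsMulCommutative A) (hBA : ⁅B, B⁆ ≤ A)
    (hnot : ¬ B ≤ Subgroup.normalizer (A : Set S))
    (x : S) (hxB : x ∈ B)
    (hxNN : x ∈ Subgroup.normalizer ((Subgroup.normalizer (A : Set S)) : Set S))
    (hxA : x ∉ Subgroup.normalizer (A : Set S))
    (Astar : Subgroup S)
    (hAstar : Astar = (A ⊓ A.map (MulAut.conj x).toMonoidHom) ⊔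
      Subgroup.closure {g : S | ∃ a ∈ A, g = a * x * a⁻¹ * x⁻¹}) :
    Nat.card Astar = Nat.card A ∧ IsMulCommutative Astar ∧ ⁅B, B⁆ ≤ Astar ∧
      A ⊓ B < Astar ⊓ B ∧ Astar ⊓ B < B ∧ A ≤ Subgroup.normalizer (Astar : Set S) ∧
      Astar ≤ Subgroup.normalizer (A : Set S) ∧ x ∈ Subgroup.normalizer (Astar : Set S) ∧
      Subgroup.normalizer (A : Set S) < Subgroup.normalizer (Astar : Set S) ∧
      (p ≠ 2 → Monoid.exponent Astar ∣ Monoid.exponent A) ∧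
      Astar ≤ A ⊔ A.map (MulAut.conj x).toMonoidHom ∧
      (p ≠ 2 → Nat.card (Cfsg.omegaOne p A) ≤ Nat.card (Cfsg.omegaOne p Astar)) := by
  set A₁ : Subgroup S := A.map (MulAut.conj x).toMonoidHom with hA₁def
  have memA₁ : ∀ y, y ∈ A₁ ↔ ∃ a ∈ A, x * a * x⁻¹ = y := by
    intro y
    rw [hA₁def, Subgroup.mem_map]
    simp [MulAut.conj_apply]
  set gen : Set S := {g : S | ∃ a ∈ A, g = a * x * a⁻¹ * x⁻¹} with hgen
  set E : Subgroup S := Subgroup.closure gen with hEdef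
  set Z₀ : Subgroup S := A ⊓ A₁ with hZ₀def
  have hA : ∀ a ∈ A, ∀ a' ∈ A, a * a' = a' * a := fun a ha a' ha' => setLike_mul_comm ha ha'
  have hAN : A ≤ Subgroup.normalizer (A : Set S) := Subgroup.le_normalizer
  have hxi : x⁻¹ ∈ Subgroup.normalizer ((Subgroup.normalizer (A : Set S)) : Set S) :=
    inv_mem hxNN
  have F1 : ∀ g ∈ Subgroup.normalizer (A : Set S), x * g * x⁻¹ ∈ Subgroup.normalizer (A : Set S) :=
    fun g hg => ((Subgroup.mem_normalizer_iff.mp hxNN) g).mp hg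
  have F1' : ∀ g ∈ Subgroup.normalizer (A : Set S),
      x⁻¹ * g * x ∈ Subgroup.normalizer (A : Set S) := by
    intro g hg
    have := ((Subgroup.mem_normalizer_iff.mp hxi) g).mp hg
    simpa using this
  have h1 : ∀ a₁ ∈ A₁, ∀ a ∈ A, a₁ * a * a₁⁻¹ ∈ A := by
    intro a₁ ha₁ a ha
    obtain ⟨a', ha', rfl⟩ := (memA₁ _).mp ha₁
    have := F1 a' (hAN ha')
    exact ((Subgroup.mem_normalizer_iff.mp this) a).mp ha
  have h2 : ∀ a ∈ A, ∀ a₁ ∈ A₁, a * a₁ * a⁻¹ ∈ A₁ := by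
    intro a ha a₁ ha₁
    obtain ⟨a', ha', rfl⟩ := (memA₁ _).mp ha₁
    have hn := F1' a (hAN ha)
    have := ((Subgroup.mem_normalizer_iff.mp hn) a').mp ha'
    rw [memA₁]
    refine ⟨_, this, ?_⟩
    group
  have hA₁ : ∀ a ∈ A₁, ∀ a' ∈ A₁, a * a' = a' * a := by
    intro a₁ h a₁' h'
    obtain ⟨a, ha, rfl⟩ := (memA₁ _).mp h
    obtain ⟨a', ha', rfl⟩ := (memA₁ _).mp h'
    have := hA a ha a' ha'
    calc x * a * x⁻¹ * (x * a' * x⁻¹) = x * (a * a') * x⁻¹ := by group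
      _ = x * (a' * a) * x⁻¹ := by rw [this]
      _ = x * a' * x⁻¹ * (x * a * x⁻¹) := by group
  obtain ⟨hZc, hHH⟩ := two_abelian A A₁ hA hA₁ h1 h2
  set H : Subgroup S := A ⊔ A₁ with hHdef
  have hAH : A ≤ H := le_sup_left
  have hA₁H : A₁ ≤ H := le_sup_right
  have hZ₀A : Z₀ ≤ A := inf_le_left
  have hZ₀A₁ : Z₀ ≤ A₁ := inf_le_right
  have hZ₀H : Z₀ ≤ H := hZ₀A.trans hAH
  have hconjA₁ : ∀ a ∈ A, x * a * x⁻¹ ∈ A₁ := fun a ha => (memA₁ _).mpr ⟨a, ha, rfl⟩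
  -- generators
  have heB : ∀ a ∈ A, a * x * a⁻¹ * x⁻¹ ∈ B := fun a ha =>
    B.mul_mem (hBn.conj_mem x hxB a) (B.inv_mem hxB)
  have heH : ∀ a ∈ A, a * x * a⁻¹ * x⁻¹ ∈ H := by
    intro a ha
    have e : a * x * a⁻¹ * x⁻¹ = a * (x * a⁻¹ * x⁻¹) := by group
    rw [e]
    exact H.mul_mem (hAH ha) (hA₁H (hconjA₁ _ (A.inv_mem ha)))
  have heE : ∀ a ∈ A, a * x * a⁻¹ * x⁻¹ ∈ E := fun a ha =>
    Subgroup.subset_closure ⟨a, ha, rfl⟩
  have hEB : E ≤ B := (Subgroup.closure_le B).mpr (by rintro _ ⟨a, ha, rfl⟩; exact heB a ha)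
  have hEH : E ≤ H := (Subgroup.closure_le H).mpr (by rintro _ ⟨a, ha, rfl⟩; exact heH a ha)
  have hZ₀star : Z₀ ≤ Astar := by rw [hAstar]; exact le_sup_left
  have hEstar : E ≤ Astar := by rw [hAstar]; exact le_sup_right
  have hstarH : Astar ≤ H := by rw [hAstar]; exact sup_le hZ₀H hEH
  -- the normal form of elements of Astar
  have hW : ∀ w ∈ Astar, ∃ a ∈ A, ∃ z ∈ Z₀, w = a * x * a⁻¹ * x⁻¹ * z := by
    let W : Subgroup S :=
      { carrier := {w | ∃ a ∈ A, ∃ z ∈ Z₀, w = a * x * a⁻¹ * x⁻¹ * z}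
        one_mem' := ⟨1, A.one_mem, 1, Z₀.one_mem, by simp⟩
        mul_mem' := by
          rintro _ _ ⟨a, ha, z, hz, rfl⟩ ⟨a', ha', z', hz', rfl⟩
          have hcZ : ⁅a', a * x * a⁻¹ * x⁻¹⁆ ∈ Z₀ :=
            hHH (Subgroup.commutator_mem_commutator (hAH ha') (heH a ha))
          refine ⟨a' * a, A.mul_mem ha' ha, ⁅a', a * x * a⁻¹ * x⁻¹⁆⁻¹ * z * z',
            Z₀.mul_mem (Z₀.mul_mem (Z₀.inv_mem hcZ) hz) hz', ?_⟩
          have key : a' * a * x * (a' * a)⁻¹ * x⁻¹ =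
              ⁅a', a * x * a⁻¹ * x⁻¹⁆ * (a * x * a⁻¹ * x⁻¹) * (a' * x * a'⁻¹ * x⁻¹) := by
            simp only [commutatorElement_def]; group
          have hee : a * x * a⁻¹ * x⁻¹ * (a' * x * a'⁻¹ * x⁻¹) ∈ H :=
            H.mul_mem (heH a ha) (heH a' ha')
          calc a * x * a⁻¹ * x⁻¹ * z * (a' * x * a'⁻¹ * x⁻¹ * z')
              = a * x * a⁻¹ * x⁻¹ * (z * (a' * x * a'⁻¹ * x⁻¹)) * z' := by group
            _ = a * x * a⁻¹ * x⁻¹ * ((a' * x * a'⁻¹ * x⁻¹) * z) * z' := by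
                rw [hZc z hz _ (heH a' ha')]
            _ = (a * x * a⁻¹ * x⁻¹ * (a' * x * a'⁻¹ * x⁻¹)) * z * z' := by group
            _ = (⁅a', a * x * a⁻¹ * x⁻¹⁆ * (a * x * a⁻¹ * x⁻¹ * (a' * x * a'⁻¹ * x⁻¹)) *
                  ⁅a', a * x * a⁻¹ * x⁻¹⁆⁻¹) * z * z' := by
                rw [← hZc _ hcZ _ hee]; group
            _ = a' * a * x * (a' * a)⁻¹ * x⁻¹ * (⁅a', a * x * a⁻¹ * x⁻¹⁆⁻¹ * z * z') := by
                rw [key]; group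
        inv_mem' := by
          rintro _ ⟨a, ha, z, hz, rfl⟩
          have hcZ : ⁅a⁻¹, (a * x * a⁻¹ * x⁻¹)⁻¹⁆ ∈ Z₀ :=
            hHH (Subgroup.commutator_mem_commutator (hAH (A.inv_mem ha))
              (H.inv_mem (heH a ha)))
          refine ⟨a⁻¹, A.inv_mem ha, ⁅a⁻¹, (a * x * a⁻¹ * x⁻¹)⁻¹⁆⁻¹ * z⁻¹,
            Z₀.mul_mem (Z₀.inv_mem hcZ) (Z₀.inv_mem hz), ?_⟩
          have key : (a * x * a⁻¹ * x⁻¹)⁻¹ =
              ⁅a⁻¹, (a * x * a⁻¹ * x⁻¹)⁻¹⁆⁻¹ * (a⁻¹ * x * a⁻¹⁻¹ * x⁻¹) := by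
            simp only [commutatorElement_def]; group
          calc (a * x * a⁻¹ * x⁻¹ * z)⁻¹ = z⁻¹ * (a * x * a⁻¹ * x⁻¹)⁻¹ := mul_inv_rev _ _
            _ = (a * x * a⁻¹ * x⁻¹)⁻¹ * z⁻¹ :=
                (hZc z⁻¹ (Z₀.inv_mem hz) _ (H.inv_mem (heH a ha))).symm
            _ = ⁅a⁻¹, (a * x * a⁻¹ * x⁻¹)⁻¹⁆⁻¹ * (a⁻¹ * x * a⁻¹⁻¹ * x⁻¹) * z⁻¹ := by
                rw [← key]
            _ = (a⁻¹ * x * a⁻¹⁻¹ * x⁻¹) * ⁅a⁻¹, (a * x * a⁻¹ * x⁻¹)⁻¹⁆⁻¹ * z⁻¹ := by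
                rw [hZc _ (Z₀.inv_mem hcZ) _ (heH a⁻¹ (A.inv_mem ha))]
            _ = a⁻¹ * x * a⁻¹⁻¹ * x⁻¹ * (⁅a⁻¹, (a * x * a⁻¹ * x⁻¹)⁻¹⁆⁻¹ * z⁻¹) := by group }
    have hle : Astar ≤ W := by
      rw [hAstar]
      apply sup_le
      · intro z hz
        exact ⟨1, A.one_mem, z, hz, by simp⟩
      · rw [Subgroup.closure_le]
        rintro _ ⟨a, ha, rfl⟩
        exact ⟨a, ha, 1, Z₀.one_mem, by simp⟩
    intro w hw
    exact hle hw
  -- x normalizes Z₀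
  have hB'n : (⁅B, B⁆ : Subgroup S).Normal := Subgroup.commutator_normal B B
  have F3 : ∀ z ∈ Z₀, x * z * x⁻¹ ∈ Z₀ := by
    intro z hz
    refine Subgroup.mem_inf.mpr ⟨?_, hconjA₁ z hz.1⟩
    obtain ⟨a, ha, hza⟩ := (memA₁ z).mp hz.2
    have hd : a * z⁻¹ = a * x * a⁻¹ * x⁻¹ := by rw [← hza]; group
    have hdA : a * z⁻¹ ∈ A := A.mul_mem ha (A.inv_mem hz.1)
    have hdB : a * z⁻¹ ∈ B := by rw [hd]; exact heB a ha
    have hxd : x * (a * z⁻¹) * x⁻¹ ∈ A := by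
      rw [conj_eq_comm_mul]
      exact A.mul_mem (hBA (Subgroup.commutator_mem_commutator hxB hdB)) hdA
    have e : x * z * x⁻¹ = (z⁻¹ * (x * (a * z⁻¹) * x⁻¹))⁻¹ := by
      have : x * (a * z⁻¹) * x⁻¹ = (x * a * x⁻¹) * (x * z⁻¹ * x⁻¹) := by group
      rw [this, hza]; group
    rw [e]
    exact A.inv_mem (A.mul_mem (A.inv_mem hz.1) hxd)
  -- B' ≤ Z₀
  have hB'Z : ⁅B, B⁆ ≤ Z₀ := by
    intro k hk
    refine Subgroup.mem_inf.mpr ⟨hBA hk, (memA₁ _).mpr ⟨x⁻¹ * k * x, ?_, by group⟩⟩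
    have := hB'n.conj_mem k hk x⁻¹
    rw [inv_inv] at this
    exact hBA this
  -- A ∩ B ≤ Z₀
  have hABZ : A ⊓ B ≤ Z₀ := by
    intro d hd
    refine Subgroup.mem_inf.mpr ⟨hd.1, (memA₁ _).mpr ⟨x⁻¹ * d * x, ?_, by group⟩⟩
    have e : x⁻¹ * d * x = ⁅x⁻¹, d⁆ * d := by
      simp only [commutatorElement_def]; group
    rw [e]
    exact A.mul_mem (hBA (Subgroup.commutator_mem_commutator (B.inv_mem hxB) hd.2)) hd.1
  -- H ≤ N(A)
  have hHN : H ≤ Subgroup.normalizer (A : Set S) := by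
    apply sup_le hAN
    intro a₁ ha₁
    obtain ⟨a, ha, rfl⟩ := (memA₁ _).mp ha₁
    exact F1 a (hAN ha)
  have C7 : Astar ≤ Subgroup.normalizer (A : Set S) := hstarH.trans hHN
  have hHNstar : H ≤ Subgroup.normalizer (Astar : Set S) :=
    le_normalizer_of_commutator_le H Astar hstarH (hHH.trans hZ₀star)
  have C6 : A ≤ Subgroup.normalizer (Astar : Set S) := hAH.trans hHNstar
  have C3 : ⁅B, B⁆ ≤ Astar := hB'Z.trans hZ₀star
  have C8 : x ∈ Subgroup.normalizer (Astar : Set S) := by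
    apply mem_normalizer_of_conj_mem
    intro w hw
    obtain ⟨a, ha, z, hz, rfl⟩ := hW w hw
    have e : x * (a * x * a⁻¹ * x⁻¹ * z) * x⁻¹ =
        (x * (a * x * a⁻¹ * x⁻¹) * x⁻¹) * (x * z * x⁻¹) := by group
    rw [e, conj_eq_comm_mul x (a * x * a⁻¹ * x⁻¹)]
    refine Astar.mul_mem (Astar.mul_mem ?_ (hEstar (heE a ha))) (hZ₀star (F3 z hz))
    exact C3 (Subgroup.commutator_mem_commutator hxB (heB a ha))
  -- cardinality
  have C1 : Nat.card Astar = Nat.card A := by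
    have hβ : Astar ⊓ A₁ = Z₀ := by
      apply le_antisymm
      · intro w hw
        obtain ⟨a, ha, z, hz, rfl⟩ := hW w hw.1
        have he₁ : a * x * a⁻¹ * x⁻¹ ∈ A₁ := by
          have e : a * x * a⁻¹ * x⁻¹ = (a * x * a⁻¹ * x⁻¹ * z) * z⁻¹ := by group
          rw [e]; exact A₁.mul_mem hw.2 (A₁.inv_mem (hZ₀A₁ hz))
        have haA₁ : a ∈ A₁ := by
          have e : a = (a * x * a⁻¹ * x⁻¹) * (x * a * x⁻¹) := by group
          rw [e]; exact A₁.mul_mem he₁ (hconjA₁ a ha)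
        have haZ : a ∈ Z₀ := Subgroup.mem_inf.mpr ⟨ha, haA₁⟩
        have he : a * x * a⁻¹ * x⁻¹ ∈ Z₀ := by
          have e : a * x * a⁻¹ * x⁻¹ = a * (x * a⁻¹ * x⁻¹) := by group
          rw [e]; exact Z₀.mul_mem haZ (F3 _ (Z₀.inv_mem haZ))
        exact Z₀.mul_mem he hz
      · exact le_inf hZ₀star hZ₀A₁
    have hα : (Astar : Set S) * (A₁ : Set S) = (A : Set S) * (A₁ : Set S) := by
      ext g
      constructor
      · rintro ⟨w, hw, a₁, ha₁, rfl⟩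
        obtain ⟨a, ha, z, hz, rfl⟩ := hW w hw
        refine ⟨a, ha, (x * a⁻¹ * x⁻¹) * z * a₁, ?_, by group⟩
        exact A₁.mul_mem (A₁.mul_mem (hconjA₁ _ (A.inv_mem ha)) (hZ₀A₁ hz)) ha₁
      · rintro ⟨a, ha, a₁, ha₁, rfl⟩
        refine ⟨a * x * a⁻¹ * x⁻¹, hEstar (heE a ha), (x * a * x⁻¹) * a₁, ?_, by group⟩
        exact A₁.mul_mem (hconjA₁ a ha) ha₁
    have f1 := card_mul_set_mul_card_inf Astar A₁
    have f2 := card_mul_set_mul_card_inf A A₁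
    rw [hα, hβ] at f1
    have hpos : 0 < Nat.card A₁ := Nat.card_pos
    exact Nat.eq_of_mul_eq_mul_right hpos (f1.symm.trans f2)
  have C4 : A ⊓ B < Astar ⊓ B := by
    rw [lt_iff_le_not_ge]
    refine ⟨le_inf ((hABZ.trans hZ₀star)) inf_le_right, ?_⟩
    intro hle
    apply hxA
    apply mem_normalizer_of_conj_mem
    intro y hy
    have hyi : y⁻¹ ∈ A := A.inv_mem hy
    have he : y⁻¹ * x * y⁻¹⁻¹ * x⁻¹ ∈ A :=
      (hle (Subgroup.mem_inf.mpr ⟨hEstar (heE _ hyi), heB _ hyi⟩)).1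
    have e : x * y * x⁻¹ = y * (y⁻¹ * x * y⁻¹⁻¹ * x⁻¹) := by group
    rw [e]; exact A.mul_mem hy he
  have C5 : Astar ⊓ B < B := by
    rw [lt_iff_le_not_ge]
    refine ⟨inf_le_right, ?_⟩
    intro hle
    exact hnot ((hle.trans inf_le_left).trans C7)
  have C9 : Subgroup.normalizer (A : Set S) < Subgroup.normalizer (Astar : Set S) := by
    rw [lt_iff_le_not_ge]
    refine ⟨?_, fun hle => hxA (hle C8)⟩
    intro g hg
    have hgi : g⁻¹ ∈ Subgroup.normalizer (A : Set S) := inv_mem hg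
    have hgA : ∀ a ∈ A, g * a * g⁻¹ ∈ A := fun a ha =>
      ((Subgroup.mem_normalizer_iff.mp hg) a).mp ha
    -- y = [g, x]
    have hyB : g * x * g⁻¹ * x⁻¹ ∈ B := B.mul_mem (hBn.conj_mem x hxB g) (B.inv_mem hxB)
    have hyN : g * x * g⁻¹ * x⁻¹ ∈ Subgroup.normalizer (A : Set S) := by
      have e : g * x * g⁻¹ * x⁻¹ = g * (x * g⁻¹ * x⁻¹) := by group
      rw [e]; exact mul_mem hg (F1 _ hgi)
    set y := g * x * g⁻¹ * x⁻¹ with hy
    have hyA : ∀ a ∈ A, y * a * y⁻¹ ∈ A := fun a ha =>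
      ((Subgroup.mem_normalizer_iff.mp hyN) a).mp ha
    have hyiA : ∀ a ∈ A, y⁻¹ * a * y ∈ A := by
      intro a ha
      have := ((Subgroup.mem_normalizer_iff.mp (inv_mem hyN)) a).mp ha
      simpa using this
    have hcommAB : ∀ a ∈ A, ⁅y, a⁆ ∈ A ⊓ B := by
      intro a ha
      refine Subgroup.mem_inf.mpr ⟨?_, ?_⟩
      · have e : ⁅y, a⁆ = (y * a * y⁻¹) * a⁻¹ := by simp only [commutatorElement_def]
        rw [e]; exact A.mul_mem (hyA a ha) (A.inv_mem ha)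
      · have e : ⁅y, a⁆ = y * (a * y⁻¹ * a⁻¹) := by
          simp only [commutatorElement_def]; group
        rw [e]; exact B.mul_mem hyB (hBn.conj_mem _ (B.inv_mem hyB) a)
    apply mem_normalizer_of_conj_mem
    intro w hw
    obtain ⟨a, ha, z, hz, rfl⟩ := hW w hw
    have e : g * (a * x * a⁻¹ * x⁻¹ * z) * g⁻¹ =
        (g * (a * x * a⁻¹ * x⁻¹) * g⁻¹) * (g * z * g⁻¹) := by group
    rw [e]
    apply Astar.mul_mem
    · have ha' : g * a * g⁻¹ ∈ A := hgA a ha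
      have e1 : g * (a * x * a⁻¹ * x⁻¹) * g⁻¹ = ⁅g * a * g⁻¹, y * x⁆ := by
        rw [hy]; simp only [commutatorElement_def]; group
      rw [e1]
      generalize g * a * g⁻¹ = a' at ha'
      rw [comm_mul_right, conj_eq_comm_mul y]
      refine Astar.mul_mem ?_ (Astar.mul_mem ?_ ?_)
      · have : ⁅a', y⁆ = (⁅y, a'⁆)⁻¹ := (commutatorElement_inv _ _).symm
        rw [this]
        exact Astar.inv_mem (hZ₀star (hABZ (hcommAB _ ha')))
      · have e2 : ⁅a', x⁆ = a' * x * a'⁻¹ * x⁻¹ := by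
          simp only [commutatorElement_def]
        rw [e2]
        exact C3 (Subgroup.commutator_mem_commutator hyB (heB _ ha'))
      · have e2 : ⁅a', x⁆ = a' * x * a'⁻¹ * x⁻¹ := by
          simp only [commutatorElement_def]
        rw [e2]
        exact hEstar (heE _ ha')
    · obtain ⟨a₀, ha₀, hza₀⟩ := (memA₁ z).mp hz.2
      have ha₀' : g * a₀ * g⁻¹ ∈ A := hgA a₀ ha₀
      have hgz : g * z * g⁻¹ ∈ A := hgA z hz.1
      have e1 : g * z * g⁻¹ = y * (x * (g * a₀ * g⁻¹) * x⁻¹) * y⁻¹ := by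
        rw [hy, ← hza₀]; group
      have hz'A : x * (g * a₀ * g⁻¹) * x⁻¹ ∈ A := by
        have e2 : x * (g * a₀ * g⁻¹) * x⁻¹ = y⁻¹ * (g * z * g⁻¹) * y := by
          rw [e1]; group
        rw [e2]; exact hyiA _ hgz
      have hz'Z : x * (g * a₀ * g⁻¹) * x⁻¹ ∈ Z₀ :=
        Subgroup.mem_inf.mpr ⟨hz'A, hconjA₁ _ ha₀'⟩
      rw [e1, conj_eq_comm_mul]
      exact hZ₀star (Z₀.mul_mem (hABZ (hcommAB _ hz'A)) hz'Z)
  -- generators commute
  have hE : ∀ a ∈ A, ∀ a' ∈ A, (a * x * a⁻¹ * x⁻¹) * (a' * x * a'⁻¹ * x⁻¹) =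
      (a' * x * a'⁻¹ * x⁻¹) * (a * x * a⁻¹ * x⁻¹) := by
    intro a ha a' ha'
    by_cases hp2 : p = 2
    · haveI := hB2 hp2
      exact setLike_mul_comm (heB a ha) (heB a' ha')
    · have hABn : A ≤ Subgroup.normalizer (B : Set S) := Subgroup.le_normalizer_of_normal
      have hc : ⁅⁅B, B⁆, A⁆ = ⊥ := by
        rw [Subgroup.commutator_eq_bot_iff_le_centralizer]
        intro k hk
        rw [Subgroup.mem_centralizer_iff]
        intro a ha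
        exact hA a ha k (hBA hk)
      obtain ⟨hD, hDB', hDDB⟩ := Cfsg.Agent.S0648.facts A B hABn hc
      have hDDcent := Subgroup.commutator_eq_bot_iff_le_centralizer.mp hDDB
      have hX : ∀ a ∈ A, ∀ k ∈ ⁅B, B⁆, a * k = k * a := fun a ha k hk => hA a ha k (hBA hk)
      have hY : ∀ d ∈ ⁅B, A⁆, ∀ k ∈ ⁅B, B⁆, d * k = k * d := by
        intro d hd k hk
        have := Subgroup.commutator_eq_bot_iff_le_centralizer.mp hDB' hd
        rw [Subgroup.mem_centralizer_iff] at this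
        exact (this k hk).symm
      have hZ : ∀ d₁ ∈ ⁅B, A⁆, ∀ d₂ ∈ ⁅B, A⁆, ∀ g ∈ B, ⁅d₁, d₂⁆ * g = g * ⁅d₁, d₂⁆ := by
        intro d₁ h₁ d₂ h₂ g hg
        have := hDDcent (Subgroup.commutator_mem_commutator h₁ h₂)
        rw [Subgroup.mem_centralizer_iff] at this
        exact (this g hg).symm
      have hxiB : x⁻¹ ∈ B := B.inv_mem hxB
      have hfD : ∀ a ∈ A, x⁻¹⁻¹ * a * x⁻¹ * a⁻¹ ∈ ⁅B, A⁆ := by
        intro a ha
        have : x⁻¹⁻¹ * a * x⁻¹ * a⁻¹ = ⁅x⁻¹⁻¹, a⁆ := by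
          simp only [commutatorElement_def]; group
        rw [this]
        exact Subgroup.commutator_mem_commutator (B.inv_mem hxiB) ha
      have hfe : ∀ a : S, x⁻¹⁻¹ * a * x⁻¹ * a⁻¹ = (a * x * a⁻¹ * x⁻¹)⁻¹ := by
        intro a; group
      have hfH : ∀ a ∈ A, x⁻¹⁻¹ * a * x⁻¹ * a⁻¹ ∈ H := by
        intro a ha; rw [hfe]; exact H.inv_mem (heH a ha)
      have hfB : ∀ a ∈ A, x⁻¹⁻¹ * a * x⁻¹ * a⁻¹ ∈ B := by
        intro a ha; rw [hfe]; exact B.inv_mem (heB a ha)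
      have huZ : ∀ a ∈ A, ∀ a' ∈ A,
          a * (x⁻¹⁻¹ * a' * x⁻¹ * a'⁻¹) * a⁻¹ * (x⁻¹⁻¹ * a' * x⁻¹ * a'⁻¹)⁻¹ ∈ Z₀ := by
        intro a ha a' ha'
        have := hHH (Subgroup.commutator_mem_commutator (hAH ha) (hfH a' ha'))
        rw [commutatorElement_def] at this
        exact this
      have huD : ∀ a ∈ A, ∀ a' ∈ A,
          a * (x⁻¹⁻¹ * a' * x⁻¹ * a'⁻¹) * a⁻¹ * (x⁻¹⁻¹ * a' * x⁻¹ * a'⁻¹)⁻¹ ∈ ⁅B, A⁆ := by
        intro a ha a' ha'
        have : ⁅a, x⁻¹⁻¹ * a' * x⁻¹ * a'⁻¹⁆ ∈ ⁅A, B⁆ :=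
          Subgroup.commutator_mem_commutator ha (hfB a' ha')
        rw [commutatorElement_def, Subgroup.commutator_comm] at this
        exact this
      have huA : ∀ a ∈ A, ∀ a' ∈ A, ∀ e ∈ A,
          e * (a * (x⁻¹⁻¹ * a' * x⁻¹ * a'⁻¹) * a⁻¹ * (x⁻¹⁻¹ * a' * x⁻¹ * a'⁻¹)⁻¹) =
          (a * (x⁻¹⁻¹ * a' * x⁻¹ * a'⁻¹) * a⁻¹ * (x⁻¹⁻¹ * a' * x⁻¹ * a'⁻¹)⁻¹) * e :=
        fun a ha a' ha' e he => hA e he _ (hZ₀A (huZ a ha a' ha'))
      have hsq := Cfsg.Agent.S0648.core A B ⁅B, A⁆ hD hX hY hZ x⁻¹ hxiB a a' ha ha'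
        (hA a ha a' ha') (x⁻¹⁻¹ * a * x⁻¹ * a⁻¹) (x⁻¹⁻¹ * a' * x⁻¹ * a'⁻¹)
        (a * (x⁻¹⁻¹ * a' * x⁻¹ * a'⁻¹) * a⁻¹ * (x⁻¹⁻¹ * a' * x⁻¹ * a'⁻¹)⁻¹)
        (a' * (x⁻¹⁻¹ * a * x⁻¹ * a⁻¹) * a'⁻¹ * (x⁻¹⁻¹ * a * x⁻¹ * a⁻¹)⁻¹)
        rfl rfl rfl rfl (hfD a ha) (hfD a' ha') (huD a ha a' ha') (huD a' ha' a ha)
        (huA a ha a' ha') (huA a' ha' a ha)
      have h1 := eq_one_of_sq_eq_one hS hp2 _ hsq
      rw [commutatorElement_eq_one_iff_mul_comm, hfe, hfe] at h1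
      have h2 := congrArg (fun t => t⁻¹) h1
      simp only [mul_inv_rev, inv_inv] at h2
      exact h2.symm
  have C2 : IsMulCommutative Astar := by
    rw [isMulCommutative_iff_of_setLike]
    intro w hw w' hw'
    obtain ⟨a, ha, z, hz, rfl⟩ := hW w hw
    obtain ⟨a', ha', z', hz', rfl⟩ := hW w' hw'
    have c1 : Commute (a * x * a⁻¹ * x⁻¹) (a' * x * a'⁻¹ * x⁻¹) := hE a ha a' ha'
    have c2 : Commute (a * x * a⁻¹ * x⁻¹) z' := hZc z' hz' _ (heH a ha)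
    have c3 : Commute z (a' * x * a'⁻¹ * x⁻¹) := (hZc z hz _ (heH a' ha')).symm
    have c4 : Commute z z' := hA z (hZ₀A hz) z' (hZ₀A hz')
    exact ((c1.mul_right c2).mul_left (c3.mul_right c4)).eq
  have C10 : p ≠ 2 → Monoid.exponent Astar ∣ Monoid.exponent A := by
    intro hp2
    set n := Monoid.exponent A with hn
    have hAn : ∀ a ∈ A, a ^ n = 1 := by
      intro a ha
      have h := Monoid.pow_exponent_eq_one (⟨a, ha⟩ : A)
      have h' := congrArg Subtype.val h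
      simpa using h'
    have hodd : Odd n := by
      have h1 : n ∣ Nat.card A := Group.exponent_dvd_nat_card
      obtain ⟨k, hk⟩ := IsPGroup.iff_card.mp (hS.to_subgroup A)
      rw [hk] at h1
      obtain ⟨j, -, hj⟩ := (Nat.dvd_prime_pow Fact.out).mp h1
      rw [hj]
      exact Odd.pow ((Fact.out : p.Prime).odd_of_ne_two hp2)
    obtain ⟨m, hm⟩ := hodd
    have hT : n * (n - 1) / 2 = n * m := by
      rw [hm]
      have e1 : 2 * m + 1 - 1 = 2 * m := by omega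
      rw [e1, show (2 * m + 1) * (2 * m) = ((2 * m + 1) * m) * 2 by ring]
      exact Nat.mul_div_cancel _ (by norm_num)
    apply Monoid.exponent_dvd_of_forall_pow_eq_one
    rintro ⟨w, hw⟩
    apply Subtype.ext
    rw [Subgroup.coe_pow]
    show w ^ n = 1
    obtain ⟨a, ha, z, hz, rfl⟩ := hW w hw
    have hzc : Commute (a * x * a⁻¹ * x⁻¹) z := hZc z hz _ (heH a ha)
    rw [hzc.mul_pow, hAn z (hZ₀A hz), mul_one]
    have e : a * x * a⁻¹ * x⁻¹ = a * (x * a⁻¹ * x⁻¹) := by group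
    rw [e]
    have ha₁ : x * a⁻¹ * x⁻¹ ∈ A₁ := hconjA₁ _ (A.inv_mem ha)
    have hcZ : ⁅x * a⁻¹ * x⁻¹, a⁆ ∈ Z₀ :=
      hHH (Subgroup.commutator_mem_commutator (hA₁H ha₁) (hAH ha))
    have hg : ⁅x * a⁻¹ * x⁻¹, a⁆ * a = a * ⁅x * a⁻¹ * x⁻¹, a⁆ :=
      (hZc _ hcZ a (hAH ha)).symm
    have hh : ⁅x * a⁻¹ * x⁻¹, a⁆ * (x * a⁻¹ * x⁻¹) = (x * a⁻¹ * x⁻¹) * ⁅x * a⁻¹ * x⁻¹, a⁆ :=
      (hZc _ hcZ _ (hA₁H ha₁)).symm
    rw [mul_pow_class_two a (x * a⁻¹ * x⁻¹) hg hh n, hAn a ha, conj_pow,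
      hAn _ (A.inv_mem ha), hT, pow_mul, hAn _ (hZ₀A hcZ)]
    simp
  have C12 : p ≠ 2 → Nat.card (Cfsg.omegaOne p A) ≤ Nat.card (Cfsg.omegaOne p Astar) := by
    intro hp2
    have hstarc : ∀ a ∈ Astar, ∀ b ∈ Astar, a * b = b * a := fun a ha b hb => by
      haveI := C2; exact setLike_mul_comm ha hb
    have mA := mem_omegaOne_abelian p A hA
    have mA₁ := mem_omegaOne_abelian p A₁ hA₁
    have mS := mem_omegaOne_abelian p Astar hstarc
    obtain ⟨m, hm⟩ := ((Fact.out : p.Prime).odd_of_ne_two hp2)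
    have hT : p * (p - 1) / 2 = p * m := by
      have e0 : p * (p - 1) = (p * m) * 2 := by
        have e1 : p - 1 = 2 * m := by omega
        rw [e1]; ring
      rw [e0]
      exact Nat.mul_div_cancel _ (by norm_num)
    have hsub : ((Cfsg.omegaOne p A : Subgroup S) : Set S) * (Cfsg.omegaOne p A₁ : Set S) ⊆
        (Cfsg.omegaOne p Astar : Set S) * (Cfsg.omegaOne p A₁ : Set S) := by
      rintro _ ⟨a, ha, a₁, ha₁, rfl⟩
      obtain ⟨haA, hap⟩ := (mA a).mp ha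
      obtain ⟨ha₁A, ha₁p⟩ := (mA₁ a₁).mp ha₁
      refine ⟨a * x * a⁻¹ * x⁻¹, (mS _).mpr ⟨hEstar (heE a haA), ?_⟩, (x * a * x⁻¹) * a₁,
        (mA₁ _).mpr ⟨A₁.mul_mem (hconjA₁ a haA) ha₁A, ?_⟩, by group⟩
      · have e : a * x * a⁻¹ * x⁻¹ = a * (x * a⁻¹ * x⁻¹) := by group
        rw [e]
        have ha₁' : x * a⁻¹ * x⁻¹ ∈ A₁ := hconjA₁ _ (A.inv_mem haA)
        have hcZ : ⁅x * a⁻¹ * x⁻¹, a⁆ ∈ Z₀ :=
          hHH (Subgroup.commutator_mem_commutator (hA₁H ha₁') (hAH haA))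
        have hg : ⁅x * a⁻¹ * x⁻¹, a⁆ * a = a * ⁅x * a⁻¹ * x⁻¹, a⁆ :=
          (hZc _ hcZ a (hAH haA)).symm
        have hh : ⁅x * a⁻¹ * x⁻¹, a⁆ * (x * a⁻¹ * x⁻¹) =
            (x * a⁻¹ * x⁻¹) * ⁅x * a⁻¹ * x⁻¹, a⁆ := (hZc _ hcZ _ (hA₁H ha₁')).symm
        have hcp : ⁅x * a⁻¹ * x⁻¹, a⁆ ^ p = 1 := by
          have e2 : ⁅x * a⁻¹ * x⁻¹, a⁆ =
              ((x * a⁻¹ * x⁻¹) * a * (x * a⁻¹ * x⁻¹)⁻¹) * a⁻¹ := by
            simp only [commutatorElement_def]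
          have hmem : (x * a⁻¹ * x⁻¹) * a * (x * a⁻¹ * x⁻¹)⁻¹ ∈ A := h1 _ ha₁' a haA
          have hc : Commute ((x * a⁻¹ * x⁻¹) * a * (x * a⁻¹ * x⁻¹)⁻¹) a⁻¹ :=
            hA _ hmem _ (A.inv_mem haA)
          rw [e2, hc.mul_pow, conj_pow, hap, inv_pow, hap]
          simp
        rw [mul_pow_class_two a (x * a⁻¹ * x⁻¹) hg hh p, hap, conj_pow, inv_pow, hap, hT,
          pow_mul, hcp]
        simp
      · have hc : Commute (x * a * x⁻¹) a₁ := hA₁ _ (hconjA₁ a haA) _ ha₁A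
        rw [hc.mul_pow, conj_pow, hap, ha₁p]
        simp
    have hinf : Cfsg.omegaOne p A ⊓ Cfsg.omegaOne p A₁ ≤
        Cfsg.omegaOne p Astar ⊓ Cfsg.omegaOne p A₁ := by
      intro w hw
      obtain ⟨hwA, hwp⟩ := (mA w).mp hw.1
      have hwA₁ := ((mA₁ w).mp hw.2).1
      exact Subgroup.mem_inf.mpr
        ⟨(mS w).mpr ⟨hZ₀star (Subgroup.mem_inf.mpr ⟨hwA, hwA₁⟩), hwp⟩, hw.2⟩
    have f1 := card_mul_set_mul_card_inf (Cfsg.omegaOne p Astar) (Cfsg.omegaOne p A₁)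
    have f2 := card_mul_set_mul_card_inf (Cfsg.omegaOne p A) (Cfsg.omegaOne p A₁)
    have g1 : Nat.card ↥((Cfsg.omegaOne p A : Set S) * (Cfsg.omegaOne p A₁ : Set S)) ≤
        Nat.card ↥((Cfsg.omegaOne p Astar : Set S) * (Cfsg.omegaOne p A₁ : Set S)) :=
      Nat.card_mono (Set.toFinite _) hsub
    have g2 : Nat.card ↥(Cfsg.omegaOne p A ⊓ Cfsg.omegaOne p A₁) ≤
        Nat.card ↥(Cfsg.omegaOne p Astar ⊓ Cfsg.omegaOne p A₁) := Subgroup.card_le_of_le hinf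
    have hpos : 0 < Nat.card (Cfsg.omegaOne p A₁) := Nat.card_pos
    have hfin : Nat.card (Cfsg.omegaOne p A) * Nat.card (Cfsg.omegaOne p A₁) ≤
        Nat.card (Cfsg.omegaOne p Astar) * Nat.card (Cfsg.omegaOne p A₁) := by
      rw [← f1, ← f2]; exact Nat.mul_le_mul g1 g2
    exact Nat.le_of_mul_le_mul_right hfin hpos
  exact ⟨C1, C2, C3, C4, C5, C6, C7, C8, C9, C10, hstarH, C12⟩

theorem result {S : Type*} [Group S] [Finite S] {p : ℕ} [Fact p.Prime] (hS : IsPGroup p S) (B : Subgroup S) [B.Normal] (hB2 : p = 2 → IsMulCommutative B) (A : Subgroup S) (hA : IsMulCommutative A) (hBA : ⁅B, B⁆ ≤ A) (hnot : ¬ B ≤ Subgroup.normalizer (A : Set S)) (b : S) (hb : b ∈ B) (hbN : b ∈ Subgroup.normalizer ((Subgroup.normalizer (A : Set S)) : Set S)) (hbA : b ∉ Subgroup.normalizer (A : Set S)) : Nat.card ↥((A ⊓ A.map (MulAut.conj (b⁻¹)).toMonoidHom) ⊔ Subgroup.closure {g : S | ∃ a ∈ A, g =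 a * b⁻¹ * a⁻¹ * b}) = Nat.card A ∧ IsMulCommutative ↥((A ⊓ A.map (MulAut.conj (b⁻¹)).toMonoidHom) ⊔ Subgroup.closure {g : S | ∃ a ∈ A, g = a * b⁻¹ * a⁻¹ * b}) ∧ ⁅B, B⁆ ≤ ((A ⊓ A.map (MulAut.conj (b⁻¹)).toMonoidHom) ⊔ Subgroup.closure {g : S | ∃ a ∈ A, g = a * b⁻¹ * a⁻¹ * b}) ∧ A ⊓ B < ((A ⊓ A.map (MulAut.conj (b⁻¹)).toMonoidHom) ⊔ Subgroup.closure {g : S | ∃ a ∈ A, g = a * b⁻¹ * a⁻¹ * b}) ⊓ B ∧ ((A ⊓ A.map (MulAut.conj (b⁻¹)).toMonoidHom) ⊔ Subgroup.closure {g : S | ∃ a ∈ A, g = a * b⁻¹ * a⁻¹ * b}) ⊓ B < B ∧ A ≤ Subgroup.normalizer (((A ⊓ A.map (MulAut.conj (b⁻¹)).toMonoidHom) ⊔ Subgroup.closure {g : S | ∃ a ∈ A, g = a * b⁻¹ * a⁻¹ * b} : Subgroup S) : Set S) ∧ ((A ⊓ A.map (MulAut.conj (b⁻¹)).toMonoidHom) ⊔ Subgroup.closure {g : S | ∃ a ∈ A, g = a * b⁻¹ * a⁻¹ * b}) ≤ Subgroup.normalizer (A : Set S) ∧ b ∈ Subgroup.normalizer (((A ⊓ A.map (MulAut.conj (b⁻¹)).toMonoidHom) ⊔ Subgroup.closure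 {g : S | ∃ a ∈ A, g = a * b⁻¹ * a⁻¹ * b} : Subgroup S) : Set S) ∧ Subgroup.normalizer (A : Set S) < Subgroup.normalizer (((A ⊓ A.map (MulAut.conj (b⁻¹)).toMonoidHom) ⊔ Subgroup.closure {g : S | ∃ a ∈ A, g = a * b⁻¹ * a⁻¹ * b} : Subgroup S) : Set S) ∧ (p ≠ 2 → Monoid.exponent ↥((A ⊓ A.map (MulAut.conj (b⁻¹)).toMonoidHom) ⊔ Subgroup.closure {g : S | ∃ a ∈ A, g = a * b⁻¹ * a⁻¹ * b}) ∣ Monoid.exponent A) := by
  have hxB : b⁻¹ ∈ B := B.inv_mem hb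
  have hxNN : b⁻¹ ∈ Subgroup.normalizer ((Subgroup.normalizer (A : Set S)) : Set S) :=
    inv_mem hbN
  have hxA : b⁻¹ ∉ Subgroup.normalizer (A : Set S) := fun h => hbA (by simpa using inv_mem h)
  have key := main hS B hB2 A hA hBA hnot b⁻¹ hxB hxNN hxA
    ((A ⊓ A.map (MulAut.conj (b⁻¹)).toMonoidHom) ⊔
      Subgroup.closure {g : S | ∃ a ∈ A, g = a * b⁻¹ * a⁻¹ * b}) (by rw [inv_inv])
  obtain ⟨C1, C2, C3, C4, C5, C6, C7, C8, C9, C10, -, -⟩ := key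
  refine ⟨C1, C2, C3, C4, C5, C6, C7, ?_, C9, C10⟩
  have := inv_mem C8
  simpa using this

end Cfsg.Agent.S0650
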