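import Cfsg.Statements.S0071
import Cfsg.Agent.Lib.Helper11.FrobeniusLocal
import Cfsg.Agent.S0086
import Mathlib

set_option autoImplicit false
open Cfsg

namespace Cfsg.Agent.S0071

open Subgroup Cfsg.Agent.Lib.Helper11

/-- The Frobenius normal p-complement Theorem states that a Sylow p-subgroup has a normal complement exactly when, for each of its subgroups Q, every element of the normalizer of Q of order prime to p centralizes Q. -/
theorem result {G : Type*} [Group G] [Finite G] {p : ℕ} [Fact p.Prime] (P : Sylow p G) : (∃ N : Subgroup G, N.Normal ∧ N.IsComplement' (P : Subgroup G)) ↔ ∀ Q : Subgroup G, Q ≤ (P : Subgroup G) → ∀ g ∈ Subgroup.normalizer (Q : Set G), Nat.Coprime (orderOf g) p → g ∈ Subgroup.centralizer (Q : Set G) := by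
  constructor
  · rintro ⟨N, hNn, hN⟩ Q hQP g hg hgo
    have hgN : g ∈ N := (Cfsg.Agent.S0086.result P N hN g).mpr hgo
    rw [mem_centralizer_iff]
    intro q hq
    have h1 : g * q * g⁻¹ * q⁻¹ ∈ (P : Subgroup G) :=
      hQP (Q.mul_mem ((mem_normalizer_iff.mp hg q).mp hq) (Q.inv_mem hq))
    have h2 : g * q * g⁻¹ * q⁻¹ ∈ N := by
      have h3 : q * g⁻¹ * q⁻¹ ∈ N := hNn.conj_mem _ (N.inv_mem hgN) q
      have : g * q * g⁻¹ * q⁻¹ = g * (q * g⁻¹ * q⁻¹) := by group
      rw [this]; exact N.mul_mem hgN h3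
    have h4 : g * q * g⁻¹ * q⁻¹ ∈ N ⊓ (P : Subgroup G) := ⟨h2, h1⟩
    rw [hN.disjoint.eq_bot, mem_bot] at h4
    have : g * q = (g * q * g⁻¹ * q⁻¹) * (q * g) := by group
    rw [this, h4, one_mul]
  · intro h
    exact exists_normal_complement_of_local (localPNilpotent_of_sylow P h) P

end Cfsg.Agent.S0071
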