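import Cfsg.Statements.S0655
import Cfsg.Agent.Lib.Helper17.Thompson
open Cfsg.Agent.Lib.Helper17

set_option autoImplicit false
open Cfsg

namespace Cfsg.Agent.S0655

/-- In a p-group the intersection of all elementary abelian subgroups of largest order is the subgroup generated by the elements of order dividing p in the centre (equivalently the centralizer) of the elementary-version Thompson subgroup. -/
theorem result {S : Type*} [Group S] [Finite S] {p : ℕ} [Fact p.Prime] (hS : IsPGroup p S) : sInf (Cfsg.maxElementaryAbelianSubgroups p S) = Cfsg.omegaCenterThompson p S ∧ Cfsg.omegaCenterThompson p S = Cfsg.omegaOne p (Subgroup.centralizer (Cfsg.thompsonSubgroup p S : Set S)) := by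
  classical
  have hM : ∀ A ∈ Cfsg.maxElementaryAbelianSubgroups p S, A ≤ Cfsg.thompsonSubgroup p S :=
    fun A hA => le_thompsonSubgroup hA
  -- (a) Ω₁(C(J)) ≤ sInf M
  have ha : Cfsg.omegaOne p (Subgroup.centralizer (Cfsg.thompsonSubgroup p S : Set S)) ≤
      sInf (Cfsg.maxElementaryAbelianSubgroups p S) := by
    unfold Cfsg.omegaOne
    rw [Subgroup.closure_le]
    rintro x ⟨hxC, hxp⟩
    rw [SetLike.mem_coe, Subgroup.mem_sInf]
    intro A hA
    have hxA : Subgroup.zpowers x ≤ Subgroup.centralizer (A : Set S) := by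
      rw [Subgroup.zpowers_le]
      exact Subgroup.centralizer_le (hM A hA) hxC
    have hea : Cfsg.IsElementaryAbelian p (Subgroup.zpowers x ⊔ A) :=
      ea_sup (ea_zpowers hxp) hA.1 hxA
    have hcard := hA.2 _ hea
    have hle : A ≤ Subgroup.zpowers x ⊔ A := le_sup_right
    have heq : A = Subgroup.zpowers x ⊔ A :=
      Subgroup.eq_of_le_of_card_ge hle hcard
    rw [heq]
    exact le_sup_left (a := Subgroup.zpowers x) (Subgroup.mem_zpowers x)
  -- (b) sInf M ≤ Ω₁(Z(J))
  have hb : sInf (Cfsg.maxElementaryAbelianSubgroups p S) ≤ Cfsg.omegaCenterThompson p S := by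
    intro x hx
    rw [Subgroup.mem_sInf] at hx
    obtain ⟨A₀, hA₀⟩ := exists_mem_maxEA (G := S) p
    unfold Cfsg.omegaCenterThompson Cfsg.omegaOne
    apply Subgroup.subset_closure
    refine ⟨⟨hM A₀ hA₀ (hx A₀ hA₀), ?_⟩, hA₀.1.2 x (hx A₀ hA₀)⟩
    have : Cfsg.thompsonSubgroup p S ≤ Subgroup.centralizer (Subgroup.zpowers x : Set S) := by
      apply thompsonSubgroup_le
      intro A hA
      rw [Subgroup.le_centralizer_iff, Subgroup.zpowers_le]
      exact (ea_iff.mp hA.1).1 (hx A hA)
    rw [Subgroup.le_centralizer_iff, Subgroup.zpowers_le] at this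
    exact this
  -- (c) Ω₁(Z(J)) ≤ Ω₁(C(J))
  have hc : Cfsg.omegaCenterThompson p S ≤
      Cfsg.omegaOne p (Subgroup.centralizer (Cfsg.thompsonSubgroup p S : Set S)) := by
    unfold Cfsg.omegaCenterThompson Cfsg.omegaOne
    apply Subgroup.closure_mono
    rintro x ⟨hx, hxp⟩
    exact ⟨hx.2, hxp⟩
  exact ⟨le_antisymm hb (hc.trans ha), le_antisymm hc (ha.trans hb)⟩

end Cfsg.Agent.S0655
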