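import Cfsg.Statements.S0622
import Cfsg.Agent.Lib.Helper17.StableClosure
import Cfsg.Agent.S0655
open Cfsg.Agent.Lib.Helper17

set_option autoImplicit false
universe u
open Cfsg

namespace Cfsg.Agent.S0622

/-- Basic properties of the stable normal closure W(S) of Ω₁(Z(S)) in a finite p-group: characteristic, squeezed between Ω₁(Z(S)) and Ω₁(Z(J(S))), nontrivial for S ≠ 1, and transported by group isomorphisms. -/
theorem result {S : Type u} [Group S] [Finite S] {p : ℕ} [Fact p.Prime] (hS : IsPGroup p S) : (Cfsg.stableNormalClosure p S).Characteristic ∧ Cfsg.omegaOne p (Subgroup.center S) ≤ Cfsg.stableNormalClosure p S ∧ Cfsg.stableNormalClosure p S ≤ Cfsg.omegaCenterThompson p S ∧ (Nontrivial S → Cfsg.stableNormalClosure p S ≠ ⊥) ∧ ∀ (S' : Type u) [Group S'] (η : S ≃* S'), (Cfsg.stableNormalClosure p S).map η.toMonoidHom = Cfsg.stableNormalClosure p S' := by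
  classical
  have hp : p.Prime := Fact.out
  -- transport inequality along isomorphisms
  have htrans : ∀ (T T' : Type u) [Group T] [Group T'] (η : T ≃* T'),
      (Cfsg.stableNormalClosure p T).map η.toMonoidHom ≤ Cfsg.stableNormalClosure p T' := by
    intro T T' _ _ η
    unfold Cfsg.stableNormalClosure
    apply le_sInf
    intro W' hW'
    rw [Subgroup.map_le_iff_le_comap]
    apply sInf_le
    refine ⟨?_, ?_⟩
    · rw [← Subgroup.map_le_iff_le_comap, omegaOne_center_map_equiv η]
      exact hW'.1
    · intro K _ τ hτ
      have h1 := hW'.2 K (τ.comp η.symm.toMonoidHom) (isStableEmbedding_comp_equiv τ η.symm hτ)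
      have h2 : (W'.comap η.toMonoidHom).map τ = W'.map (τ.comp η.symm.toMonoidHom) := by
        rw [← Subgroup.map_map, Subgroup.map_equiv_eq_comap_symm' η.symm W']
        rfl
      rw [h2]
      exact h1
  have hiso : ∀ (S' : Type u) [Group S'] (η : S ≃* S'),
      (Cfsg.stableNormalClosure p S).map η.toMonoidHom = Cfsg.stableNormalClosure p S' := by
    intro S' _ η
    apply le_antisymm (htrans S S' η)
    rw [← map_symm_map_equiv η (Cfsg.stableNormalClosure p S')]
    exact Subgroup.map_mono (htrans S' S η.symm)
  refine ⟨?_, ?_, ?_, ?_, hiso⟩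
  · rw [Subgroup.characteristic_iff_map_eq]
    intro φ
    exact hiso S φ
  · unfold Cfsg.stableNormalClosure
    apply le_sInf
    intro W hW
    exact hW.1
  · unfold Cfsg.stableNormalClosure
    apply sInf_le
    refine ⟨?_, ?_⟩
    · rw [(Cfsg.Agent.S0655.result hS).2]
      unfold Cfsg.omegaOne
      apply Subgroup.closure_mono
      rintro x ⟨hx, hxp⟩
      exact ⟨Subgroup.center_le_centralizer _ hx, hxp⟩
    · intro K _ τ hτ
      obtain ⟨hinj, _, _, _, hJn, _⟩ := hτ
      have hinj' : ∀ x ∈ Cfsg.thompsonSubgroup p S, τ x = 1 → x = 1 := by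
        intro x _ hx
        exact hinj (by rw [map_one]; exact hx)
      have h1 : (Cfsg.omegaCenterThompson p S).map τ =
          omegaOneCenter p ((Cfsg.thompsonSubgroup p S).map τ) := by
        rw [omegaCenterThompson_eq]
        exact (omegaOneCenter_map_of_injOn τ hinj').symm
      rw [h1]
      set U : Subgroup K := (Cfsg.thompsonSubgroup p S).map τ with hU
      constructor
      intro x hx g
      have hUg : U.map (MulAut.conj g).toMonoidHom = U := by
        apply Subgroup.mem_normalizer_iff_map_conj_eq.mp
        rw [Subgroup.normalizer_eq_top]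
        trivial
      have hinjg : ∀ y ∈ U, (MulAut.conj g).toMonoidHom y = 1 → y = 1 := by
        intro y _ hy
        exact (MulAut.conj g).injective (by rw [map_one]; exact hy)
      have h2 := omegaOneCenter_map_of_injOn (p := p) (MulAut.conj g).toMonoidHom hinjg
      rw [hUg] at h2
      rw [h2]
      exact Subgroup.mem_map.mpr ⟨x, hx, rfl⟩
  · intro hnt hbot
    haveI := hnt
    haveI hcnt : Nontrivial (Subgroup.center S) := hS.center_nontrivial
    have hcp : IsPGroup p (Subgroup.center S) := hS.to_subgroup _
    obtain ⟨n, hn⟩ := IsPGroup.iff_card.mp hcp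
    have hn0 : n ≠ 0 := by
      rintro rfl
      rw [pow_zero] at hn
      have := (Nat.card_eq_one_iff_unique.mp hn).1
      exact not_subsingleton (Subgroup.center S) this
    have hdvd : p ∣ Nat.card (Subgroup.center S) := by
      rw [hn]; exact dvd_pow_self p hn0
    obtain ⟨⟨z, hz⟩, hzo⟩ := exists_prime_orderOf_dvd_card' p hdvd
    have hzo' : orderOf z = p := by
      rw [← hzo]; exact (Subgroup.orderOf_mk z hz).symm
    have hzmem : z ∈ Cfsg.omegaOne p (Subgroup.center S) := by
      apply Subgroup.subset_closure
      refine ⟨hz, ?_⟩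
      rw [← hzo']; exact pow_orderOf_eq_one z
    have hzW : z ∈ Cfsg.stableNormalClosure p S := by
      have : Cfsg.omegaOne p (Subgroup.center S) ≤ Cfsg.stableNormalClosure p S := by
        unfold Cfsg.stableNormalClosure
        apply le_sInf
        intro W hW
        exact hW.1
      exact this hzmem
    rw [hbot, Subgroup.mem_bot] at hzW
    rw [hzW, orderOf_one] at hzo'
    exact hp.one_lt.ne hzo'

end Cfsg.Agent.S0622
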