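import Cfsg.Statements.S0808
import Mathlib
import Cfsg.Agent.Lib.Helper12.Quat
import Cfsg.Agent.S2431

set_option autoImplicit false
open Cfsg

namespace Cfsg.Agent.S0808

open Cfsg.Agent.Lib.Helper12.SL2 Cfsg.Agent.Lib.Helper12.Klein Cfsg.Agent.Lib.Helper12.ConjOrbit
open Cfsg.Agent.Lib.Helper12.Quat Cfsg.Agent.S0807

variable {F : Type*} [Field F]

local notation "SL2" => Matrix.SpecialLinearGroup (Fin 2)
local notation "M2" => Matrix (Fin 2) (Fin 2)
local notation "PSL2" => Matrix.ProjectiveSpecialLinearGroup (Fin 2)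

theorem isKleinFour_map_conj {G : Type*} [Group G] (V : Subgroup G) (hV : IsKleinFour V) (g : G) :
    IsKleinFour (V.map (MulAut.conj g).toMonoidHom) := by
  have e : V ≃* V.map (MulAut.conj g).toMonoidHom :=
    V.equivMapOfInjective _ (MulAut.conj g).injective
  exact ⟨by rw [← Nat.card_congr e.toEquiv]; exact hV.card_four,
    by rw [← Monoid.exponent_eq_of_mulEquiv e]; exact hV.exponent_two⟩

theorem map_conj_map_conj {G : Type*} [Group G] (V : Subgroup G) (g k : G) :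
    (V.map (MulAut.conj g).toMonoidHom).map (MulAut.conj k).toMonoidHom =
      V.map (MulAut.conj (k * g)).toMonoidHom := by
  rw [Subgroup.map_map]
  congr 1
  ext x
  simp [mul_assoc]

theorem map_conj_one {G : Type*} [Group G] (V : Subgroup G) :
    V.map (MulAut.conj (1 : G)).toMonoidHom = V := by
  ext x
  simp

/-- two distinct nontrivial elements of a four-group -/
theorem exists_pair {G : Type*} [Group G] (W : Subgroup G) (hW : IsKleinFour W) :
    ∃ a b : G, a ∈ W ∧ b ∈ W ∧ a ≠ 1 ∧ b ≠ 1 ∧ a ≠ b := by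
  classical
  have hc : (W : Set G).ncard = 4 := by
    rw [← Nat.card_coe_set_eq]; exact hW.card_four
  have hfin : (W : Set G).Finite := Set.finite_of_ncard_ne_zero (by rw [hc]; norm_num)
  obtain ⟨a, haW, ha⟩ : ∃ a, a ∈ (W : Set G) ∧ a ∉ ({1} : Set G) := by
    apply Set.exists_mem_notMem_of_ncard_lt_ncard _ (Set.finite_singleton _)
    rw [Set.ncard_singleton, hc]; norm_num
  obtain ⟨b, hbW, hb⟩ : ∃ b, b ∈ (W : Set G) ∧ b ∉ ({1, a} : Set G) := by
    apply Set.exists_mem_notMem_of_ncard_lt_ncard _ (Set.toFinite _)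
    have := Set.ncard_insert_le (1 : G) ({a} : Set G)
    rw [Set.ncard_singleton] at this
    rw [hc]; omega
  simp only [Set.mem_insert_iff, Set.mem_singleton_iff, not_or] at ha hb
  exact ⟨a, b, haW, hbW, ha, hb.1, fun e => hb.2 e.symm⟩

theorem exists_conj_VV [Fintype F] (h2 : (2 : F) ≠ 0) (W : Subgroup (PSL2 F))
    (hW : IsKleinFour W) :
    ∃ (α β : F) (h : α ^ 2 + β ^ 2 = -1) (g : PSL2 F),
      W = (VV α β h).map (MulAut.conj g).toMonoidHom := by
  obtain ⟨a, b, haW, hbW, ha1, hb1, hab⟩ := exists_pair W hW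
  have hsq : ∀ x ∈ W, x * x = 1 := fun x hx =>
    congrArg Subtype.val (IsKleinFour.mul_self (⟨x, hx⟩ : W))
  have hcomm : a * b = b * a := by
    have h1 := hsq (a * b) (W.mul_mem haW hbW)
    have h2' := hsq a haW
    have h3 := hsq b hbW
    calc a * b = a * (a * b * (a * b)) * b := by rw [h1, mul_one]
      _ = (a * a) * b * a * (b * b) := by group
      _ = b * a := by rw [h2', h3, one_mul, mul_one]
  obtain ⟨x, rfl⟩ := QuotientGroup.mk_surjective a
  have hx : tr x = 0 :=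
    (orderOf_mk_eq_two_iff h2 x).mp ((orderOf_two_iff _).mpr ⟨hsq _ haW, ha1⟩)
  obtain ⟨c, hc⟩ := isConj_iff.mp (isConj_of_tr_eq_zero h2 x qi hx tr_qi)
  -- conjugate by `c`
  set c' : PSL2 F := mkH c with hc'
  have hia : c' * (QuotientGroup.mk x : PSL2 F) * c'⁻¹ = ia := by
    show mkH c * mkH x * (mkH c)⁻¹ = mkH (qi : SL2 F)
    rw [← map_inv, ← map_mul, ← map_mul, hc]
  set b' : PSL2 F := c' * b * c'⁻¹ with hb'
  have hb'1 : b' ≠ 1 := by
    intro e
    apply hb1
    have : b = c'⁻¹ * b' * c' := by rw [hb']; group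
    rw [this, e]; group
  have hb'sq : b' * b' = 1 := by
    have : b' * b' = c' * (b * b) * c'⁻¹ := by rw [hb']; group
    rw [this, hsq b hbW]; group
  have hne : (ia : PSL2 F) ≠ b' := by
    intro e
    apply hab
    have h1 : (QuotientGroup.mk x : PSL2 F) = c'⁻¹ * ia * c' := by rw [← hia]; group
    have h3 : b = c'⁻¹ * b' * c' := by rw [hb']; group
    rw [h1, h3, e]
  have hcomm' : (ia : PSL2 F) * b' = b' * ia := by
    rw [← hia, hb']
    calc c' * (QuotientGroup.mk x : PSL2 F) * c'⁻¹ * (c' * b * c'⁻¹)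
        = c' * ((QuotientGroup.mk x : PSL2 F) * b) * c'⁻¹ := by group
      _ = c' * (b * (QuotientGroup.mk x : PSL2 F)) * c'⁻¹ := by rw [hcomm]
      _ = c' * b * c'⁻¹ * (c' * (QuotientGroup.mk x : PSL2 F) * c'⁻¹) := by group
  have hPP : PairPred ((QuotientGroup.mk (qi : SL2 F) : PSL2 F), b') :=
    ⟨(orderOf_mk_eq_two_iff h2 qi).mpr tr_qi, (orderOf_two_iff _).mpr ⟨hb'sq, hb'1⟩, hne, hcomm'⟩
  rw [pairPred_iff h2 qi tr_qi] at hPP
  obtain ⟨⟨y, hyN, hyb⟩, hnT⟩ := hPP
  have hyT : y ∉ Tor (qi : SL2 F) := fun hT => hnT ⟨y, hT, hyb⟩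
  have hΔ := tr_sq_ne_four_of_tr_eq_zero h2 (qi : SL2 F) tr_qi
  have hinv := conj_eq_inv_of_not_mem h2 qi hΔ y hyN hyT
  rw [mul_inv_eq_iff_eq_mul, qi_inv] at hinv
  -- entries of `y`
  have e00 := congrArg (fun m : SL2 F => m 0 0) hinv
  have e01 := congrArg (fun m : SL2 F => m 0 1) hinv
  simp only [mul_apply', qi, mk_00, mk_01, mk_10, mk_11, Cfsg.Agent.S2471.zc] at e00 e01
  have hd := det_eq y
  have h10 : y 1 0 = y 0 1 := by linear_combination e00
  have h11 : y 1 1 = -y 0 0 := by linear_combination e01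
  have hαβ : y 0 0 ^ 2 + y 0 1 ^ 2 = -1 := by
    rw [h10, h11] at hd
    linear_combination -hd
  have hy : y = qj (y 0 0) (y 0 1) hαβ := by
    apply ext4 <;> simp [qj, h10, h11]
  refine ⟨y 0 0, y 0 1, hαβ, c'⁻¹, ?_⟩
  -- `W.map (conj c') = VV`
  have hVW : VV (y 0 0) (y 0 1) hαβ ≤ W.map (MulAut.conj c').toMonoidHom := by
    have hjb : jb (y 0 0) (y 0 1) hαβ = b' := by
      show mkH (qj (y 0 0) (y 0 1) hαβ) = b'
      rw [← hy]; exact hyb
    intro v hv
    have m1 : (ia : PSL2 F) ∈ W.map (MulAut.conj c').toMonoidHom :=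
      Subgroup.mem_map.mpr ⟨_, haW, hia⟩
    have m2 : b' ∈ W.map (MulAut.conj c').toMonoidHom :=
      Subgroup.mem_map.mpr ⟨_, hbW, rfl⟩
    rcases (mem_VV _ _ _ v).mp hv with rfl | rfl | rfl | rfl
    · exact Subgroup.one_mem _
    · exact m1
    · rw [hjb]; exact m2
    · rw [hjb]; exact Subgroup.mul_mem _ m1 m2
  have heq : VV (y 0 0) (y 0 1) hαβ = W.map (MulAut.conj c').toMonoidHom := by
    apply Subgroup.eq_of_le_of_card_ge hVW
    rw [Cfsg.Agent.Lib.Helper12.SylTwo.card_map_conj, hW.card_four,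
      (isKleinFour_VV h2 _ _ hαβ).card_four]
  rw [heq, map_conj_map_conj, inv_mul_cancel, map_conj_one]

/-! ### counting conjugates -/

section Count

variable {G : Type*} [Group G] [Finite G]

omit [Finite G] in
theorem conjugates_subset (K : Set (Subgroup G)) (hK : ∀ V ∈ K, ∀ g : G,
    V.map (MulAut.conj g).toMonoidHom ∈ K) (V : Subgroup G) (hV : V ∈ K) : conjugates V ⊆ K := by
  rintro W ⟨g, rfl⟩
  exact hK V hV g

theorem one_class (K : Set (Subgroup G)) (hKfin : K.Finite) (c : ℕ) (hc : c * K.ncard = Nat.card G)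
    (V : Subgroup G) (hsub : conjugates V ⊆ K)
    (hn : Nat.card (Subgroup.normalizer (V : Set G)) ≤ c) : conjugates V = K := by
  apply Set.eq_of_subset_of_ncard_le hsub _ hKfin
  have h1 := card_conjugates_mul V
  have hpos : 0 < Nat.card (Subgroup.normalizer (V : Set G)) := Nat.card_pos
  rw [← hc] at h1
  by_contra hlt
  push Not at hlt
  have : (conjugates V).ncard * Nat.card (Subgroup.normalizer (V : Set G)) <
      K.ncard * Nat.card (Subgroup.normalizer (V : Set G)) := Nat.mul_lt_mul_of_pos_right hlt hpos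
  have h3 : K.ncard * Nat.card (Subgroup.normalizer (V : Set G)) ≤ K.ncard * c :=
    Nat.mul_le_mul_left _ hn
  rw [h1] at this
  nlinarith

theorem exists_second (K : Set (Subgroup G)) (c : ℕ)
    (hc : c * K.ncard = Nat.card G) (V : Subgroup G)
    (hn : c < Nat.card (Subgroup.normalizer (V : Set G))) :
    ∃ V₂ ∈ K, V₂ ∉ conjugates V := by
  have h1 := card_conjugates_mul V
  rw [← hc] at h1
  have hGpos : 0 < Nat.card G := Nat.card_pos
  have hkpos : 0 < K.ncard := by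
    rcases Nat.eq_zero_or_pos K.ncard with h0 | h0
    · rw [h0, mul_zero] at hc; omega
    · exact h0
  have hfin : (conjugates V).Finite := Set.toFinite _
  apply Set.exists_mem_notMem_of_ncard_lt_ncard _ hfin
  by_contra hge
  push Not at hge
  have : K.ncard * c < (conjugates V).ncard * Nat.card (Subgroup.normalizer (V : Set G)) := by
    calc K.ncard * c < K.ncard * Nat.card (Subgroup.normalizer (V : Set G)) :=
          Nat.mul_lt_mul_of_pos_left hn hkpos
      _ ≤ (conjugates V).ncard * Nat.card (Subgroup.normalizer (V : Set G)) :=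
          Nat.mul_le_mul_right _ hge
  rw [h1] at this
  nlinarith

theorem two_classes (K : Set (Subgroup G)) (hKfin : K.Finite) (c : ℕ) (hcpos : 0 < c)
    (hc : c * K.ncard = Nat.card G)
    (V₁ V₂ : Subgroup G) (hsub₁ : conjugates V₁ ⊆ K) (hsub₂ : conjugates V₂ ⊆ K)
    (hn₁ : Nat.card (Subgroup.normalizer (V₁ : Set G)) ≤ 2 * c)
    (hn₂ : Nat.card (Subgroup.normalizer (V₂ : Set G)) ≤ 2 * c)
    (hne : V₂ ∉ conjugates V₁) : conjugates V₁ ∪ conjugates V₂ = K := by
  apply Set.eq_of_subset_of_ncard_le (Set.union_subset hsub₁ hsub₂) _ hKfin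
  have hdisj : Disjoint (conjugates V₁) (conjugates V₂) := by
    rw [Set.disjoint_left]
    rintro W ⟨g₁, rfl⟩ ⟨g₂, hg₂⟩
    apply hne
    refine ⟨g₂⁻¹ * g₁, ?_⟩
    rw [← map_conj_map_conj, hg₂, map_conj_map_conj, inv_mul_cancel, map_conj_one]
  rw [Set.ncard_union_eq hdisj (Set.toFinite _) (Set.toFinite _)]
  have h1 := card_conjugates_mul V₁
  have h3 := card_conjugates_mul V₂
  rw [← hc] at h1 h3
  have e1 : K.ncard ≤ 2 * (conjugates V₁).ncard := by
    have : c * K.ncard ≤ (conjugates V₁).ncard * (2 * c) := by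
      rw [← h1]; exact Nat.mul_le_mul_left _ hn₁
    by_contra hlt
    push Not at hlt
    nlinarith
  have e2 : K.ncard ≤ 2 * (conjugates V₂).ncard := by
    have : c * K.ncard ≤ (conjugates V₂).ncard * (2 * c) := by
      rw [← h3]; exact Nat.mul_le_mul_left _ hn₂
    by_contra hlt
    push Not at hlt
    nlinarith
  omega

end Count

/-- the set of four-groups -/
def KF (G : Type*) [Group G] : Set (Subgroup G) := {V | IsKleinFour V}

theorem KF_conj {G : Type*} [Group G] (V : Subgroup G) (hV : V ∈ KF G) (g : G) :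
    V.map (MulAut.conj g).toMonoidHom ∈ KF G := isKleinFour_map_conj V hV g

theorem card_KF [Fintype F] (hodd : Odd (Fintype.card F)) :
    12 * (KF (PSL2 F)).ncard = Nat.card (PSL2 F) := by
  have := Cfsg.Agent.S0807.main (F := F) rfl hodd
  rw [← this, ← Nat.card_coe_set_eq]
  rfl

theorem main1 [Fintype F] (hodd : Odd (Fintype.card F))
    (h8 : Fintype.card F % 8 = 3 ∨ Fintype.card F % 8 = 5)
    (V W : Subgroup (PSL2 F)) (hV : IsKleinFour V) (hW : IsKleinFour W) :
    ∃ g : PSL2 F, W = V.map (MulAut.conj g).toMonoidHom := by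
  have h2 := Cfsg.Agent.S2428.two_ne_zero_of_odd hodd
  have hq : Fintype.card F % 2 = 1 := Nat.odd_iff.mp hodd
  obtain ⟨α, β, hαβ⟩ : ∃ α β : F, α ^ 2 + β ^ 2 = -1 := by
    obtain ⟨x, y, h⟩ := exists_sq_add_sq hq (1 : F) 1 (-1) one_ne_zero one_ne_zero
    exact ⟨x, y, by simpa using h⟩
  have hT := Cfsg.Agent.S2431.card_Tor_qi h2 hq
  have hq1 : 1 < Fintype.card F := Fintype.one_lt_card
  have hn8 : ¬ 8 ∣ Nat.card (Tor (qi : SL2 F)) := by
    rw [hT]; split_ifs <;> omega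
  have hKfin : (KF (PSL2 F)).Finite := Set.toFinite _
  have hone := one_class (KF (PSL2 F)) hKfin 12 (card_KF hodd) (VV α β hαβ)
    (conjugates_subset _ KF_conj _ (isKleinFour_VV h2 α β hαβ))
    (card_normalizer_VV_le' h2 α β hαβ hn8)
  have hV' : V ∈ conjugates (VV α β hαβ) := by rw [hone]; exact hV
  have hW' : W ∈ conjugates (VV α β hαβ) := by rw [hone]; exact hW
  obtain ⟨g₁, rfl⟩ := hV'
  obtain ⟨g₂, rfl⟩ := hW'
  refine ⟨g₂ * g₁⁻¹, ?_⟩
  rw [map_conj_map_conj, inv_mul_cancel_right]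

theorem main2 [Fintype F] (hodd : Odd (Fintype.card F))
    (h8 : Fintype.card F % 8 = 1 ∨ Fintype.card F % 8 = 7) :
    ∃ V₁ V₂ : Subgroup (PSL2 F), IsKleinFour V₁ ∧ IsKleinFour V₂ ∧
      (¬ ∃ g : PSL2 F, V₂ = V₁.map (MulAut.conj g).toMonoidHom) ∧
      ∀ W : Subgroup (PSL2 F), IsKleinFour W →
        (∃ g : PSL2 F, W = V₁.map (MulAut.conj g).toMonoidHom) ∨
        (∃ g : PSL2 F, W = V₂.map (MulAut.conj g).toMonoidHom) := by
  have h2 := Cfsg.Agent.S2428.two_ne_zero_of_odd hodd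
  have hq : Fintype.card F % 2 = 1 := Nat.odd_iff.mp hodd
  obtain ⟨α, β, hαβ⟩ : ∃ α β : F, α ^ 2 + β ^ 2 = -1 := by
    obtain ⟨x, y, h⟩ := exists_sq_add_sq hq (1 : F) 1 (-1) one_ne_zero one_ne_zero
    exact ⟨x, y, by simpa using h⟩
  obtain ⟨s, hs⟩ : ∃ s : F, 2 * s ^ 2 = 1 := by
    have : IsSquare (2 : F) := FiniteField.isSquare_two_iff.mpr (by omega)
    obtain ⟨w, hw⟩ := this
    have hw0 : w ≠ 0 := by
      rintro rfl
      apply h2
      rw [hw, mul_zero]
    refine ⟨w⁻¹, ?_⟩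
    rw [hw]
    field_simp
  have hKfin : (KF (PSL2 F)).Finite := Set.toFinite _
  have hV₁ := isKleinFour_VV h2 α β hαβ
  obtain ⟨V₂, hV₂K, hV₂⟩ := exists_second (KF (PSL2 F)) 12 (card_KF hodd) (VV α β hαβ)
    (by have := card_normalizer_VV_ge h2 α β hαβ s hs; omega)
  obtain ⟨α', β', hαβ', g, rfl⟩ := exists_conj_VV h2 V₂ hV₂K
  have hV₂' := isKleinFour_VV h2 α' β' hαβ'
  have hne : VV α' β' hαβ' ∉ conjugates (VV α β hαβ) := by
    rintro ⟨k, hk⟩
    apply hV₂
    refine ⟨g * k, ?_⟩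
    rw [hk, map_conj_map_conj]
  have htwo := two_classes (KF (PSL2 F)) hKfin 12 (by norm_num) (card_KF hodd)
    (VV α β hαβ) (VV α' β' hαβ')
    (conjugates_subset _ KF_conj _ hV₁) (conjugates_subset _ KF_conj _ hV₂')
    (card_normalizer_VV_le h2 α β hαβ) (card_normalizer_VV_le h2 α' β' hαβ') hne
  refine ⟨VV α β hαβ, VV α' β' hαβ', hV₁, hV₂', hne, ?_⟩
  intro W hW
  have : W ∈ conjugates (VV α β hαβ) ∪ conjugates (VV α' β' hαβ') := by rw [htwo]; exact hW
  exact this


/-- Conjugacy classes of four-groups in PSL_2(q), q odd: if q ≡ 3 or 5 (mod 8) all Klein four-subgroups are conjugate; if q ≡ 1 or 7 (mod 8) there are two Klein four-subgroups which are not conjugate, and every Klein four-subgroup is conjugate to one of them. -/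
theorem result {F : Type*} [Field F] [Fintype F] {q : ℕ} (hF : Fintype.card F = q) (hodd : Odd q) : ((q % 8 = 3 ∨ q % 8 = 5) → ∀ V W : Subgroup (Matrix.ProjectiveSpecialLinearGroup (Fin 2) F), IsKleinFour V → IsKleinFour W → ∃ g : Matrix.ProjectiveSpecialLinearGroup (Fin 2) F, W = V.map (MulAut.conj g).toMonoidHom) ∧ ((q % 8 = 1 ∨ q % 8 = 7) → ∃ V₁ V₂ : Subgroup (Matrix.ProjectiveSpecialLinearGroup (Fin 2) F), IsKleinFour V₁ ∧ IsKleinFour V₂ ∧ (¬ ∃ g : Matrix.ProjectiveSpecialLinearGroup (Fin 2) F, V₂ = V₁.map (MulAut.conj g).toMonoidHom) ∧ ∀ W : Subgroup (Matrix.ProjectiveSpecialLinearGroup (Fin 2) F), IsKleinFour W → (∃ g : Matrix.ProjectiveSpecialLinearGroup (Fin 2) F, W = V₁.map (MulAut.conj g).toMonoidHom) ∨ (∃ g : Matrix.ProjectiveSpecialLinearGroup (Fin 2) F, W = V₂.map (MulAut.conj g).toMonoidHom)) := by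
  subst hF
  exact ⟨fun h8 V W hV hW => main1 hodd h8 V W hV hW, fun h8 => main2 hodd h8⟩

end Cfsg.Agent.S0808
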