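import Cfsg.Statements.S0075
import Mathlib

set_option autoImplicit false
open Cfsg
open scoped commutatorElement

namespace Cfsg.Agent.S0075

variable {G : Type*} [Group G]

theorem mem_res_of_coprime (p : ℕ) {g : G} (h : Nat.Coprime (orderOf g) p) :
    g ∈ Cfsg.pResidual p G := Subgroup.subset_closure h

instance res_normal (p : ℕ) : (Cfsg.pResidual p G).Normal := by
  constructor
  intro n hn x
  unfold Cfsg.pResidual at hn
  induction hn using Subgroup.closure_induction with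
  | mem g hg =>
    apply mem_res_of_coprime
    have : orderOf (x * g * x⁻¹) = orderOf g := by
      have := (MulAut.conj x).orderOf_eq g
      rwa [MulAut.conj_apply] at this
    rw [this]; exact hg
  | one => simp
  | mul a b _ _ ha hb =>
    have : x * (a * b) * x⁻¹ = (x * a * x⁻¹) * (x * b * x⁻¹) := by group
    rw [this]; exact Subgroup.mul_mem _ ha hb
  | inv a _ ha =>
    have : x * a⁻¹ * x⁻¹ = (x * a * x⁻¹)⁻¹ := by group
    rw [this]; exact Subgroup.inv_mem _ ha

theorem exists_pow_mem_res [Finite G] (p : ℕ) [Fact p.Prime] (g : G) :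
    ∃ k : ℕ, g ^ (p ^ k) ∈ Cfsg.pResidual p G := by
  obtain ⟨k, m, hm, hkm⟩ := Nat.exists_eq_pow_mul_and_not_dvd (orderOf_pos g).ne' p
    (Fact.out : p.Prime).ne_one
  refine ⟨k, ?_⟩
  apply mem_res_of_coprime p
  have hxord : orderOf (g ^ (p ^ k)) = m := by
    rw [orderOf_pow' g (pow_ne_zero k (Fact.out : p.Prime).ne_zero), hkm,
      Nat.gcd_eq_right (Dvd.intro _ rfl)]
    exact Nat.mul_div_cancel_left m (pow_pos (Fact.out : p.Prime).pos k)
  rw [hxord]
  exact ((Nat.Prime.coprime_iff_not_dvd (Fact.out : p.Prime)).mpr hm).symm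

theorem quot_isPGroup [Finite G] (p : ℕ) [Fact p.Prime] :
    IsPGroup p (G ⧸ Cfsg.pResidual p G) := by
  intro q
  obtain ⟨g, rfl⟩ := QuotientGroup.mk_surjective q
  obtain ⟨k, hk⟩ := exists_pow_mem_res p g
  refine ⟨k, ?_⟩
  rw [← QuotientGroup.mk_pow]
  exact (QuotientGroup.eq_one_iff _).mpr hk

theorem res_sup_sylow [Finite G] (p : ℕ) [Fact p.Prime] (T : Sylow p G) :
    Cfsg.pResidual p G ⊔ (T : Subgroup G) = ⊤ := by
  have hp : p.Prime := Fact.out
  obtain ⟨n, hn⟩ := (IsPGroup.iff_card.mp (quot_isPGroup (G := G) p))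
  have hidx : (Cfsg.pResidual p G).index = p ^ n := by
    rw [Subgroup.index_eq_card]; exact hn
  have h1 : (Cfsg.pResidual p G ⊔ (T : Subgroup G)).index ∣ p ^ n := by
    rw [← hidx]; exact Subgroup.index_dvd_of_le le_sup_left
  have h2 : (Cfsg.pResidual p G ⊔ (T : Subgroup G)).index ∣ (T : Subgroup G).index :=
    Subgroup.index_dvd_of_le le_sup_right
  obtain ⟨j, -, hj⟩ := (Nat.dvd_prime_pow hp).mp h1
  rcases Nat.eq_zero_or_pos j with h0 | hpos
  · rw [h0, pow_zero] at hj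
    exact Subgroup.index_eq_one.mp hj
  · exfalso
    apply T.not_dvd_index
    refine dvd_trans ?_ h2
    rw [hj]
    exact dvd_pow_self p hpos.ne'

theorem commutator_le_res [Finite G] (p : ℕ) [Fact p.Prime] (T : Sylow p G)
    (hT : IsMulCommutative T) : commutator G ≤ Cfsg.pResidual p G := by
  rw [commutator_def, Subgroup.commutator_le]
  intro g₁ _ g₂ _
  have hg₁ : g₁ ∈ Cfsg.pResidual p G ⊔ (T : Subgroup G) := by rw [res_sup_sylow]; trivial
  have hg₂ : g₂ ∈ Cfsg.pResidual p G ⊔ (T : Subgroup G) := by rw [res_sup_sylow]; trivial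
  rw [Subgroup.mem_sup_of_normal_left] at hg₁ hg₂
  obtain ⟨r₁, hr₁, t₁, ht₁, rfl⟩ := hg₁
  obtain ⟨r₂, hr₂, t₂, ht₂, rfl⟩ := hg₂
  have hc : t₁ * t₂ = t₂ * t₁ := by
    have := hT.is_comm.comm (⟨t₁, ht₁⟩ : T) ⟨t₂, ht₂⟩
    exact congrArg Subtype.val this
  have hone : ⁅t₁, t₂⁆ = 1 := commutatorElement_eq_one_iff_mul_comm.mpr hc
  have key : (QuotientGroup.mk' (Cfsg.pResidual p G)) ⁅r₁ * t₁, r₂ * t₂⁆ = 1 := by
    have e1 : QuotientGroup.mk' (Cfsg.pResidual p G) r₁ = 1 := (QuotientGroup.eq_one_iff r₁).mpr hr₁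
    have e2 : QuotientGroup.mk' (Cfsg.pResidual p G) r₂ = 1 := (QuotientGroup.eq_one_iff r₂).mpr hr₂
    rw [map_commutatorElement, map_mul, map_mul, e1, e2, one_mul, one_mul,
      ← map_commutatorElement, hone, map_one]
  exact (QuotientGroup.eq_one_iff _).mp key

theorem sylow_inf_res_le_commutator [Finite G] (p : ℕ) [Fact p.Prime] (T : Sylow p G) :
    (T : Subgroup G) ⊓ Cfsg.pResidual p G ≤ commutator G := by
  have hp : p.Prime := Fact.out
  set m := ordCompl[p] (Nat.card G) with hm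
  have hcard : Nat.card G ≠ 0 := Nat.card_pos.ne'
  have hcop : Nat.Coprime p m := Nat.coprime_ordCompl hp hcard
  have hmul : ordProj[p] (Nat.card G) * m = Nat.card G := Nat.ordProj_mul_ordCompl_eq_self _ _
  let φ : G →* Abelianization G := Abelianization.of
  let B : Subgroup (Abelianization G) := (powMonoidHom m : Abelianization G →* Abelianization G).ker
  have hRB : Cfsg.pResidual p G ≤ B.comap φ := by
    unfold Cfsg.pResidual
    rw [Subgroup.closure_le]
    intro g hg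
    have hg' : Nat.Coprime (orderOf g) p := hg
    show φ g ∈ B
    rw [MonoidHom.mem_ker, powMonoidHom_apply, ← map_pow]
    have hdvd : orderOf g ∣ m := by
      have h1 : orderOf g ∣ ordProj[p] (Nat.card G) * m := by
        rw [hmul]; exact orderOf_dvd_natCard g
      exact (Nat.Coprime.pow_right _ hg').dvd_of_dvd_mul_left h1
    rw [orderOf_dvd_iff_pow_eq_one.mp hdvd, map_one]
  intro x hx
  obtain ⟨hxT, hxR⟩ := hx
  have h1 : (φ x) ^ m = 1 := by
    have := hRB hxR
    exact this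
  obtain ⟨j, hj⟩ := (IsPGroup.iff_orderOf.mp T.2) ⟨x, hxT⟩
  have h2 : (φ x) ^ (p ^ j) = 1 := by
    rw [← map_pow]
    have : x ^ (p ^ j) = 1 := by
      have h3 := pow_orderOf_eq_one (⟨x, hxT⟩ : T)
      rw [hj] at h3
      exact congrArg Subtype.val h3
    rw [this, map_one]
  have h3 : orderOf (φ x) ∣ Nat.gcd (p ^ j) m :=
    Nat.dvd_gcd (orderOf_dvd_of_pow_eq_one h2) (orderOf_dvd_of_pow_eq_one h1)
  rw [Nat.Coprime.gcd_eq_one (Nat.Coprime.pow_left _ hcop), Nat.dvd_one, orderOf_eq_one_iff] at h3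
  have : x ∈ φ.ker := h3
  rwa [Abelianization.ker_of] at this

/-- For an abelian Sylow subgroup, the focal subgroup is contained in `⁅T, N(T)⁆`. -/
theorem focal_le [Finite G] {p : ℕ} [Fact p.Prime] (P : Sylow p G)
    (hP : IsMulCommutative P) :
    (P : Subgroup G).focalSubgroup ≤ ⁅(P : Subgroup G), Subgroup.normalizer (P : Set G)⁆ := by
  rw [Subgroup.focalSubgroup_def, Subgroup.closure_le]
  rintro g ⟨hgP, x, hxP, u, rfl⟩
  have hy : u⁻¹⁻¹ * x⁻¹ * u⁻¹ ∈ (P : Subgroup G) := by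
    have h1 : u⁻¹⁻¹ * x⁻¹ * u⁻¹ = x⁻¹ * ⁅x, u⁆ := by
      rw [commutatorElement_def]; group
    rw [h1]
    exact (P : Subgroup G).mul_mem ((P : Subgroup G).inv_mem hxP) hgP
  obtain ⟨n, hn, hne⟩ := P.conj_eq_normalizer_conj_of_mem x⁻¹ u⁻¹ ((P : Subgroup G).inv_mem hxP) hy
  have h2 : ⁅x, u⁆ = ⁅x, n⁻¹⁆ := by
    rw [commutatorElement_def, commutatorElement_def]
    have e1 : x * u * x⁻¹ * u⁻¹ = x * (u⁻¹⁻¹ * x⁻¹ * u⁻¹) := by group
    have e2 : x * n⁻¹ * x⁻¹ * n⁻¹⁻¹ = x * (n⁻¹ * x⁻¹ * n) := by group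
    rw [e1, e2, hne]
  rw [SetLike.mem_coe, h2]
  exact Subgroup.commutator_mem_commutator hxP
    ((Subgroup.normalizer (P : Set G)).inv_mem hn)

theorem result {G : Type*} [Group G] [Finite G] {p : ℕ} [Fact p.Prime] (T : Sylow p G) (hT : IsMulCommutative T) : (T : Subgroup G) ⊓ Cfsg.pResidual p G = ⁅(T : Subgroup G), Subgroup.normalizer (T : Set G)⁆ := by
  apply le_antisymm
  · intro x hx
    have h1 : x ∈ commutator G ⊓ (T : Subgroup G) :=
      ⟨sylow_inf_res_le_commutator p T hx, hx.1⟩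
    rw [Subgroup.commutator_inf_eq_focalSubgroup] at h1
    exact focal_le T hT h1
  · apply le_inf
    · rw [Subgroup.commutator_le]
      intro t ht n hn
      rw [commutatorElement_def]
      have h1 : n * t⁻¹ * n⁻¹ ∈ (T : Subgroup G) :=
        (Subgroup.mem_normalizer_iff.mp hn t⁻¹).mp ((T : Subgroup G).inv_mem ht)
      have : t * n * t⁻¹ * n⁻¹ = t * (n * t⁻¹ * n⁻¹) := by group
      rw [this]
      exact (T : Subgroup G).mul_mem ht h1
    · refine le_trans ?_ (commutator_le_res p T hT)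
      rw [commutator_def]
      exact Subgroup.commutator_mono le_top le_top

end Cfsg.Agent.S0075
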