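import Cfsg.Statements.S2840
import Cfsg.Agent.Lib.Helper16.WeaklyClosed
import Cfsg.Agent.Lib.Helper16.Residual

set_option autoImplicit false
open Cfsg
open Cfsg.Agent.Lib.Helper16
open scoped commutatorElement Pointwise

namespace Cfsg.Agent.S2840

variable {H : Type*} [Group H]

/-- the join of the `K`-conjugates of `Q` -/
def conjJoin (Q K : Subgroup H) : Subgroup H :=
  ⨆ k : ↥K, Q.map (MulAut.conj (k : H)).toMonoidHom

theorem conj_le_of_mem (Q K : Subgroup H) (hQK : Q ≤ K) {k : H} (hk : k ∈ K) :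
    Q.map (MulAut.conj k).toMonoidHom ≤ K := by
  intro x hx
  rw [mem_map_conj_iff] at hx
  have := K.mul_mem (K.mul_mem hk (hQK hx)) (K.inv_mem hk)
  have e : k * (k⁻¹ * x * k) * k⁻¹ = x := by group
  rwa [e] at this

theorem conjJoin_le (Q K : Subgroup H) (hQK : Q ≤ K) : conjJoin Q K ≤ K :=
  iSup_le (fun k => conj_le_of_mem Q K hQK k.2)

theorem le_conjJoin (Q K : Subgroup H) : Q ≤ conjJoin Q K := by
  have := le_iSup (fun k : ↥K => Q.map (MulAut.conj (k : H)).toMonoidHom) (1 : ↥K)
  simp only [OneMemClass.coe_one] at this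
  rw [map_conj_one] at this
  exact this

theorem conjJoin_map_le (Q K : Subgroup H) {k : H} (hk : k ∈ K) :
    (conjJoin Q K).map (MulAut.conj k).toMonoidHom ≤ conjJoin Q K := by
  unfold conjJoin
  rw [Subgroup.map_iSup]
  apply iSup_le
  intro k'
  rw [map_conj_map_conj]
  exact le_iSup (fun k : ↥K => Q.map (MulAut.conj (k : H)).toMonoidHom) (⟨k * k', K.mul_mem hk k'.2⟩ : ↥K)

theorem le_normalizer_conjJoin (Q K : Subgroup H) :
    K ≤ Subgroup.normalizer ((conjJoin Q K : Subgroup H) : Set H) := by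
  intro k hk
  apply mem_normalizer_of_conj_mem
  · intro x hx
    exact conjJoin_map_le Q K hk (conj_mem_map_conj _ k hx)
  · intro x hx
    have := conjJoin_map_le Q K (K.inv_mem hk) (conj_mem_map_conj _ k⁻¹ hx)
    simpa using this

theorem conj_le_of_isSubnormal [Finite H] {p : ℕ} [Fact p.Prime] (Q : Subgroup H)
    (hwc : Cfsg.IsWeaklyClosedSubgroup p Q) (K : Subgroup H) (B' : Subgroup ↥K)
    (hB' : B'.IsSubnormal) :
    Q ≤ B'.map K.subtype → ∀ k ∈ K, Q.map (MulAut.conj k).toMonoidHom ≤ B'.map K.subtype := by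
  induction hB' with
  | top =>
    intro hQ k hk
    have : (⊤ : Subgroup ↥K).map K.subtype = K := by
      rw [← MonoidHom.range_eq_map, Subgroup.range_subtype]
    rw [this] at hQ ⊢
    exact conj_le_of_mem Q K hQ hk
  | step B' B₁' hle hsub hN ih =>
    intro hQ k hk
    have hQ1 : Q ≤ B₁'.map K.subtype := hQ.trans (Subgroup.map_mono hle)
    have h1 := ih hQ1 k hk
    obtain ⟨b, hb, hbeq⟩ := weaklyClosed_conj_in hwc (B₁'.map K.subtype) hQ1 k h1
    rw [hbeq]
    obtain ⟨b', hb', rfl⟩ := hb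
    intro x hx
    rw [mem_map_conj_iff] at hx
    obtain ⟨y, hy, hyeq⟩ := hQ hx
    have hc := hN.conj_mem ⟨y, hle hy⟩ (by rw [Subgroup.mem_subgroupOf]; exact hy) ⟨b', hb'⟩
    rw [Subgroup.mem_subgroupOf] at hc
    refine ⟨_, hc, ?_⟩
    simp only [Subgroup.coe_mul, Subgroup.coe_inv, Subgroup.subtype_apply] at hyeq ⊢
    rw [hyeq]; group

/-- Let Q be a nontrivial p-subgroup of the finite group H that is a weakly closed subgroup and K a subgroup containing Q; let K° be the weak closure of Q in K (generated by the H-conjugates of Q inside K). Then K° is generated by the K-conjugates of Q, and K° is the subnormal closure of Q in K. -/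
theorem result {H : Type*} [Group H] [Finite H] {p : ℕ} [Fact p.Prime] (Q : Subgroup H) (hQp : IsPGroup p ↥Q) (hQ1 : Q ≠ ⊥) (hwc : Cfsg.IsWeaklyClosedSubgroup p Q) (K : Subgroup H) (hQK : Q ≤ K) (Kc : Subgroup H) (hKc : Kc = Cfsg.weakClosure Q K) : Kc = ⨆ k : ↥K, ((Q : Subgroup H).map (MulAut.conj ((k : H) : H)).toMonoidHom) ∧ Kc = (Cfsg.subnormalClosure (Q.subgroupOf K)).map K.subtype := by
  have h1 : Kc = conjJoin Q K := by
    rw [hKc]
    unfold Cfsg.weakClosure conjJoin
    apply le_antisymm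
    · apply iSup_le
      rintro ⟨g, hg⟩
      obtain ⟨k, hk, hkeq⟩ := weaklyClosed_conj_in hwc K hQK g hg
      simp only
      rw [hkeq]
      exact le_iSup (fun k : ↥K => Q.map (MulAut.conj (k : H)).toMonoidHom) (⟨k, hk⟩ : ↥K)
    · apply iSup_le
      intro k
      exact le_iSup (fun g : {g : H // Q.map (MulAut.conj g).toMonoidHom ≤ K} =>
        Q.map (MulAut.conj (g : H)).toMonoidHom) ⟨(k : H), conj_le_of_mem Q K hQK k.2⟩
  refine ⟨h1, ?_⟩
  rw [h1]
  have hCK := conjJoin_le Q K hQK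
  have hnorm : ((conjJoin Q K).subgroupOf K).Normal :=
    (Subgroup.normal_subgroupOf_iff_le_normalizer hCK).mpr (le_normalizer_conjJoin Q K)
  have heq : Cfsg.subnormalClosure (Q.subgroupOf K) = (conjJoin Q K).subgroupOf K := by
    unfold Cfsg.subnormalClosure
    apply le_antisymm
    · apply sInf_le
      refine ⟨?_, hnorm.isSubnormal⟩
      intro x hx
      rw [Subgroup.mem_subgroupOf] at hx ⊢
      exact le_conjJoin Q K hx
    · apply le_sInf
      rintro B' ⟨hQB, hBsub⟩
      have hQ : Q ≤ B'.map K.subtype := by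
        intro q hq
        exact ⟨⟨q, hQK hq⟩, hQB (by rw [Subgroup.mem_subgroupOf]; exact hq), rfl⟩
      have h2 := conj_le_of_isSubnormal Q hwc K B' hBsub hQ
      have h3 : conjJoin Q K ≤ B'.map K.subtype := iSup_le (fun k => h2 k k.2)
      intro x hx
      rw [Subgroup.mem_subgroupOf] at hx
      obtain ⟨y, hy, hyeq⟩ := h3 hx
      have : y = x := Subtype.ext hyeq
      rw [← this]; exact hy
  rw [heq, Subgroup.map_subgroupOf_eq_of_le hCK]

end Cfsg.Agent.S2840
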