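import Cfsg.Statements.S2822
import Cfsg.Agent.Lib.Helper16.PReducedAmbient
import Cfsg.Agent.Lib.Helper16.Residual

set_option autoImplicit false
open Cfsg
open scoped Pointwise

namespace Cfsg.Agent.S2822

open Cfsg.Agent.Lib.Helper16

/-- If `Y` is a `p`-reduced normal subgroup of `M` (viewed in `H`), `Y ≤ L` and
`L ⊔ C_H(Y) = M ⊔ C_H(Y)`, then `Y` is a `p`-reduced normal subgroup of `L`. -/
theorem isPReducedNormal_transfer {H : Type*} [Group H] {p : ℕ} (L M Y : Subgroup H)
    (hYM : Y ≤ M) (hYL : Y ≤ L) (hY : Cfsg.IsPReducedNormal p (Y.subgroupOf M))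
    (hfac : L ⊔ Subgroup.centralizer (Y : Set H) = M ⊔ Subgroup.centralizer (Y : Set H)) :
    Cfsg.IsPReducedNormal p (Y.subgroupOf L) := by
  obtain ⟨hMn, hE, hN⟩ := (isPReducedNormal_subgroupOf_iff p M Y hYM).mp hY
  set C := Subgroup.centralizer (Y : Set H) with hC
  have hCn : C ≤ Subgroup.normalizer (Y : Set H) := Subgroup.centralizer_le_normalizer _
  have hNC : Subgroup.normalizer (Y : Set H) ≤ Subgroup.normalizer (C : Set H) :=
    normalizer_le_normalizer_centralizer Y
  have hLn : L ≤ Subgroup.normalizer (Y : Set H) := by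
    have : L ≤ M ⊔ C := hfac ▸ le_sup_left
    exact this.trans (sup_le hMn hCn)
  rw [isPReducedNormal_subgroupOf_iff p L Y hYL]
  refine ⟨hLn, hE, ?_⟩
  intro N hNL hLN hCN hp
  -- L ⊔ C normalizes N ⊔ C
  have hLC : L ⊔ C ≤ Subgroup.normalizer ((N ⊔ C : Subgroup H) : Set H) := by
    apply sup_le
    · intro l hl
      have h1 : l ∈ Subgroup.normalizer (N : Set H) := hLN hl
      have h2 : l ∈ Subgroup.normalizer (C : Set H) := hNC (hLn hl)
      have key : ∀ l ∈ Subgroup.normalizer (N : Set H) ⊓ Subgroup.normalizer (C : Set H),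
          ∀ g ∈ N ⊔ C, l * g * l⁻¹ ∈ N ⊔ C := by
        intro l hl g hg
        have hmap : (N ⊔ C).map (MulAut.conj l).toMonoidHom ≤ N ⊔ C := by
          rw [Subgroup.map_sup]
          apply sup_le
          · rintro _ ⟨n, hn, rfl⟩
            exact le_sup_left (a := N) ((Subgroup.mem_normalizer_iff.mp hl.1 n).mp hn)
          · rintro _ ⟨c, hc, rfl⟩
            exact le_sup_right (a := N) ((Subgroup.mem_normalizer_iff.mp hl.2 c).mp hc)
        apply hmap
        exact ⟨g, hg, by simp [MulAut.conj_apply]⟩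
      apply mem_normalizer_of_conj_mem
      · exact key l ⟨h1, h2⟩
      · intro g hg
        have := key l⁻¹ (Subgroup.inv_mem _ ⟨h1, h2⟩) g hg
        simpa using this
    · exact le_sup_right.trans Subgroup.le_normalizer
  have hMnorm : M ≤ Subgroup.normalizer ((N ⊔ C : Subgroup H) : Set H) := by
    have : M ≤ L ⊔ C := hfac.symm ▸ le_sup_left
    exact this.trans hLC
  -- N₂ = (N ⊔ C) ⊓ M
  have hN₂ : (N ⊔ C) ⊓ M ≤ C := by
    apply hN ((N ⊔ C) ⊓ M) inf_le_right
    · intro m hm
      have h1 := hMnorm hm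
      apply mem_normalizer_of_conj_mem
      · intro g hg
        exact ⟨(Subgroup.mem_normalizer_iff.mp h1 g).mp hg.1, M.mul_mem (M.mul_mem hm hg.2) (M.inv_mem hm)⟩
      · intro g hg
        refine ⟨?_, M.mul_mem (M.mul_mem (M.inv_mem hm) hg.2) hm⟩
        have := (Subgroup.mem_normalizer_iff.mp (Subgroup.inv_mem _ h1) g).mp hg.1
        simpa using this
    · intro x hx
      exact ⟨le_sup_right (a := N) hx.2, hx.1⟩
    · intro x hx
      have hx1 : x ∈ N ⊔ C := hx.1
      have hNnC : N ≤ Subgroup.normalizer (C : Set H) := hNL.trans (hLn.trans hNC)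
      have hset := Subgroup.coe_mul_of_left_le_normalizer_right N C hNnC
      have hx2 : x ∈ ((N ⊔ C : Subgroup H) : Set H) := hx1
      rw [hset] at hx2
      obtain ⟨n, hn, c, hc, rfl⟩ := hx2
      obtain ⟨k, hk⟩ := hp n hn
      refine ⟨k, ?_⟩
      obtain ⟨c', hc', h⟩ := exists_mul_pow_eq C n c (hNnC hn) hc (p ^ k)
      rw [h]
      exact C.mul_mem hk hc'
  intro n hn
  have hnMC : n ∈ M ⊔ C := by
    have : L ≤ M ⊔ C := hfac ▸ le_sup_left
    exact this (hNL hn)
  have hMnC : M ≤ Subgroup.normalizer (C : Set H) := hMn.trans hNC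
  have hset := Subgroup.coe_mul_of_left_le_normalizer_right M C hMnC
  have hn2 : n ∈ ((M ⊔ C : Subgroup H) : Set H) := hnMC
  rw [hset] at hn2
  obtain ⟨m, hm, c, hc, hmc⟩ := hn2
  have hmC : m ∈ C := by
    apply hN₂
    refine ⟨?_, hm⟩
    have : m = n * c⁻¹ := by
      have : m * c = n := hmc
      rw [← this]; group
    rw [this]
    exact Subgroup.mul_mem _ (le_sup_left (a := N) hn) (le_sup_right (a := N) (C.inv_mem hc))
  have : m * c = n := hmc
  rw [← this]
  exact C.mul_mem hmC hc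

/-- Let H be a finite group, p a prime, T a Sylow p-subgroup, and L, M subgroups of characteristic p containing T, with largest p-reduced normal subgroups Y_L, Y_M. If L·C_H(Y_M) = M·C_H(Y_M), then Y_M ≤ Y_L. -/
theorem result {H : Type*} [Group H] [Finite H] {p : ℕ} [Fact p.Prime] (T : Sylow p H) (L M : Subgroup H) (hTL : (T : Subgroup H) ≤ L) (hTM : (T : Subgroup H) ≤ M) (hL : Subgroup.centralizer (Cfsg.pCore p ↥L : Set ↥L) ≤ Cfsg.pCore p ↥L) (hM : Subgroup.centralizer (Cfsg.pCore p ↥M : Set ↥M) ≤ Cfsg.pCore p ↥M) : L ⊔ Subgroup.centralizer (((Cfsg.largestPReducedOf p M) : Subgroup H) : Set H) = M ⊔ Subgroup.centralizer (((Cfsg.largestPReducedOf p M) : Subgroup H) : Set H) → (Cfsg.largestPReducedOf p M) ≤ (Cfsg.largestPReducedOf p L) := by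
  intro hfac
  have hYred : Cfsg.IsPReducedNormal p (Cfsg.largestPReduced p ↥M) :=
    largestPReduced_isPReducedNormal p
  set Y := Cfsg.largestPReduced p ↥M with hY
  have hYMdef : Cfsg.largestPReducedOf p M = Y.map M.subtype := rfl
  set YM := Cfsg.largestPReducedOf p M with hYM
  have hYMM : YM ≤ M := by rw [hYMdef]; exact Subgroup.map_subtype_le Y
  have hYsub : YM.subgroupOf M = Y := by
    rw [hYMdef]
    exact Subgroup.comap_map_eq_self_of_injective Subtype.coe_injective Y
  -- YM ≤ T ≤ L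
  set T' : Sylow p ↥M := T.subtype hTM with hT'
  have hT'map : (T' : Subgroup ↥M).map M.subtype = (T : Subgroup H) := by
    rw [hT', Sylow.coe_subtype, Subgroup.map_subgroupOf_eq_of_le hTM]
  have hYT : YM ≤ (T : Subgroup H) := by
    rw [hYMdef, ← hT'map]
    exact Subgroup.map_mono ((isPReducedNormal_le_pCore hYred).trans (pCore_le_sylow T'))
  have hYL : YM ≤ L := hYT.trans hTL
  have hred : Cfsg.IsPReducedNormal p (YM.subgroupOf L) :=
    isPReducedNormal_transfer L M YM hYMM hYL (hYsub ▸ hYred) hfac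
  have hle := le_largestPReduced hred
  have := Subgroup.map_mono (f := L.subtype) hle
  rwa [Subgroup.map_subgroupOf_eq_of_le hYL] at this

end Cfsg.Agent.S2822
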