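import Cfsg.Statements.S2824
import Cfsg.Agent.Lib.Helper16.LargestOf
import Cfsg.Agent.S2822

set_option autoImplicit false
open Cfsg
open scoped Pointwise

namespace Cfsg.Agent.S2824

open Cfsg.Agent.Lib.Helper16

/-- Frattini argument in ambient form: if `T` is a Sylow `p`-subgroup of `H` contained in `M`
and `M` normalizes `C`, then `M ≤ N_M(T ∩ C) C`. -/
theorem frattini_ambient {H : Type*} [Group H] [Finite H] {p : ℕ} [Fact p.Prime] (T : Sylow p H)
    (M C : Subgroup H) (hTM : (T : Subgroup H) ≤ M)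
    (hMC : M ≤ Subgroup.normalizer (C : Set H)) :
    M ≤ (M ⊓ Subgroup.normalizer ((((T : Subgroup H) ⊓ C : Subgroup H)) : Set H)) ⊔ C := by
  set T₀ := (T : Subgroup H) ⊓ C with hT₀
  have hT₀M : T₀ ≤ M := inf_le_left.trans hTM
  -- K' = C ∩ M as a normal subgroup of M
  have hKn : (C.subgroupOf M).Normal := by
    refine ⟨fun c hc m => ?_⟩
    have := (Subgroup.mem_normalizer_iff.mp (hMC m.2) (c : H)).mp hc
    simpa [Subgroup.mem_subgroupOf] using this
  obtain ⟨Q, hQ⟩ := exists_sylow_subgroupOf_normal (T.subtype hTM) (C.subgroupOf M)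
  have hfr := Sylow.normalizer_sup_eq_top Q
  have hmap : (Q : Subgroup ↥(C.subgroupOf M)).map (C.subgroupOf M).subtype = T₀.subgroupOf M := by
    rw [hQ, Subgroup.subgroupOf_map_subtype, Sylow.coe_subtype, hT₀]
    rfl
  rw [hmap] at hfr
  intro m hm
  have hmtop : (⟨m, hm⟩ : ↥M) ∈ Subgroup.normalizer ((T₀.subgroupOf M : Subgroup ↥M) : Set ↥M) ⊔
      C.subgroupOf M := by rw [hfr]; exact Subgroup.mem_top _
  rw [Subgroup.mem_sup_of_normal_right] at hmtop
  obtain ⟨a, ha, c, hc, hac⟩ := hmtop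
  have hm' : m = (a : H) * (c : H) := by
    have := congrArg Subtype.val hac
    simpa using this.symm
  rw [hm']
  refine Subgroup.mul_mem _ (le_sup_left (b := C) ⟨a.2, ?_⟩) (le_sup_right (a := M ⊓ _) hc)
  -- a normalizes T₀ in H
  have key : ∀ a : ↥M, a ∈ Subgroup.normalizer ((T₀.subgroupOf M : Subgroup ↥M) : Set ↥M) →
      ∀ g ∈ T₀, (a : H) * g * (a : H)⁻¹ ∈ T₀ := by
    intro a ha g hg
    have := (Subgroup.mem_normalizer_iff.mp ha ⟨g, hT₀M hg⟩).mp hg
    simpa [Subgroup.mem_subgroupOf] using this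
  apply mem_normalizer_of_conj_mem
  · exact key a ha
  · intro g hg
    have := key a⁻¹ (Subgroup.inv_mem _ ha) g hg
    simpa using this

/-- Let H be a finite group, p a prime, T a Sylow p-subgroup, L and M subgroups of characteristic p containing T, Y_L the largest p-reduced normal subgroup of L and T₀ = C_T(Y_L). If M·C_H(Y_L) = L·C_H(Y_L), then L* := N_M(T₀) has Y_{L*} = Y_L and L·C_H(Y_L) = L*·C_H(Y_L). -/
theorem result {H : Type*} [Group H] [Finite H] {p : ℕ} [Fact p.Prime] (T : Sylow p H) (L M : Subgroup H) (hTL : (T : Subgroup H) ≤ L) (hTM : (T : Subgroup H) ≤ M) (hL : Subgroup.centralizer (Cfsg.pCore p ↥L : Set ↥L) ≤ Cfsg.pCore p ↥L) (hM : Subgroup.centralizer (Cfsg.pCore p ↥M : Set ↥M) ≤ Cfsg.pCore p ↥M) (T₀ : Subgroup H) (hT₀ : T₀ = (T : Subgroup H) ⊓ Subgroup.centralizer (((Cfsg.largestPReducedOf p L) : Subgroup H) : Set H)) (hfac : M ⊔ Subgroup.centralizer (((Cfsg.largestPReducedOf p L) : Subgroup H) : Set H) = L ⊔ Subgroup.centralizer (((Cfsg.largestPReducedOf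 p L) : Subgroup H) : Set H)) (Ls : Subgroup H) (hLs : Ls = M ⊓ Subgroup.normalizer ((T₀ : Subgroup H) : Set H)) : (Cfsg.largestPReducedOf p Ls) = (Cfsg.largestPReducedOf p L) ∧ L ⊔ Subgroup.centralizer (((Cfsg.largestPReducedOf p L) : Subgroup H) : Set H) = Ls ⊔ Subgroup.centralizer (((Cfsg.largestPReducedOf p L) : Subgroup H) : Set H) := by
  set YL := Cfsg.largestPReducedOf p L with hYL
  set C := Subgroup.centralizer (YL : Set H) with hC
  have hLN : L ≤ Subgroup.normalizer (YL : Set H) := le_normalizer_largestPReducedOf p L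
  have hNC : Subgroup.normalizer (YL : Set H) ≤ Subgroup.normalizer (C : Set H) :=
    normalizer_le_normalizer_centralizer YL
  have hCN : C ≤ Subgroup.normalizer (YL : Set H) := Subgroup.centralizer_le_normalizer _
  have hMN : M ≤ Subgroup.normalizer (YL : Set H) := by
    have : M ≤ L ⊔ C := hfac ▸ le_sup_left
    exact this.trans (sup_le hLN hCN)
  -- (2)
  have hMLs : M ≤ Ls ⊔ C := by
    have := frattini_ambient T M C hTM (hMN.trans hNC)
    rw [← hT₀, ← hLs] at this
    exact this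
  have hLsM : Ls ≤ M := by rw [hLs]; exact inf_le_left
  have h2 : L ⊔ C = Ls ⊔ C := by
    rw [← hfac]
    apply le_antisymm
    · exact sup_le hMLs le_sup_right
    · exact sup_le (hLsM.trans le_sup_left) le_sup_right
  refine ⟨?_, h2⟩
  -- T ≤ Ls
  have hTT₀ : (T : Subgroup H) ≤ Subgroup.normalizer (T₀ : Set H) := by
    have hTC : (T : Subgroup H) ≤ Subgroup.normalizer (C : Set H) := hTL.trans (hLN.trans hNC)
    have key : ∀ t ∈ (T : Subgroup H), ∀ g ∈ T₀, t * g * t⁻¹ ∈ T₀ := by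
      intro t ht g hg
      rw [hT₀] at hg ⊢
      exact ⟨Subgroup.mul_mem _ (Subgroup.mul_mem _ ht hg.1) (Subgroup.inv_mem _ ht),
        (Subgroup.mem_normalizer_iff.mp (hTC ht) g).mp hg.2⟩
    intro t ht
    apply mem_normalizer_of_conj_mem
    · exact key t ht
    · intro g hg
      have := key t⁻¹ (Subgroup.inv_mem _ ht) g hg
      simpa using this
  have hTLs : (T : Subgroup H) ≤ Ls := by rw [hLs]; exact le_inf hTM hTT₀
  have hYLT : YL ≤ (T : Subgroup H) := largestPReducedOf_le_sylow T L hTL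
  have hYLE := largestPReducedOf_isElementaryAbelian p L
  have hYLC : YL ≤ C := le_centralizer_of_isMulCommutative hYLE.1
  have hYLT₀ : YL ≤ T₀ := by rw [hT₀]; exact le_inf hYLT hYLC
  apply le_antisymm
  · -- Y_Ls ≤ Y_L = Ω₁Z(T₀)
    have hW := largestPReducedOf_eq_omegaCenterSub T L hTL hL
    rw [← hYL, ← hC, ← hT₀] at hW
    set Z := Cfsg.largestPReducedOf p Ls with hZ
    have hT₀p : IsPGroup p T₀ := by rw [hT₀]; exact T.2.to_le inf_le_left
    have hT₀Ls : T₀ ≤ Ls := by rw [hT₀]; exact inf_le_left.trans hTLs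
    have hLsT₀ : Ls ≤ Subgroup.normalizer (T₀ : Set H) := by rw [hLs]; exact inf_le_right
    have hT₀O : T₀ ≤ opDown p Ls := le_opDown p hT₀Ls hLsT₀ hT₀p
    have hOZ := opDown_le_centralizer_largestPReducedOf p Ls
    have hZT : Z ≤ (T : Subgroup H) := largestPReducedOf_le_sylow T Ls hTLs
    have hZE := largestPReducedOf_isElementaryAbelian p Ls
    intro z hz
    rw [hW]
    have hzc : z ∈ Subgroup.centralizer (T₀ : Set H) := by
      rw [Subgroup.mem_centralizer_iff]
      intro t ht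
      exact ((Subgroup.mem_centralizer_iff.mp (hOZ (hT₀O ht))) z hz).symm
    refine ⟨?_, hzc, hZE.2 z hz⟩
    rw [hT₀]
    refine ⟨hZT hz, ?_⟩
    show z ∈ Subgroup.centralizer (YL : Set H)
    rw [Subgroup.mem_centralizer_iff]
    intro y hy
    exact (Subgroup.mem_centralizer_iff.mp hzc) y (hYLT₀ hy)
  · -- Y_L ≤ Y_Ls
    have hYLLs : YL ≤ Ls := hYLT.trans hTLs
    apply le_largestPReducedOf p Ls YL hYLLs
    exact Cfsg.Agent.S2822.isPReducedNormal_transfer Ls L YL (largestPReducedOf_le p L) hYLLs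
      (largestPReducedOf_isPReducedNormal p L) h2.symm

end Cfsg.Agent.S2824
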