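import Cfsg.Statements.S0681
import Mathlib

set_option autoImplicit false
open Cfsg

namespace Cfsg.Agent.S0681

variable {F : Type*} [Cfsg.NearField F]

theorem nf_zero_mul (a : F) : (0 : F) * a = 0 := by
  have h := NearField.right_distrib (0 : F) 0 a
  rw [add_zero] at h
  have : (0 : F) * a + 0 = 0 * a + 0 * a := by rw [add_zero]; exact h
  exact (add_left_cancel this).symm

theorem nf_neg_mul (x a : F) : (-x) * a = -(x * a) := by
  have h := NearField.right_distrib (-x) x a
  rw [neg_add_cancel, nf_zero_mul] at h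
  exact eq_neg_of_add_eq_zero_left h.symm

theorem nf_add_mul (x y a : F) : (x + y) * a = x * a + y * a := NearField.right_distrib x y a

theorem nf_sub_mul (x y a : F) : (x - y) * a = x * a - y * a := by
  rw [sub_eq_add_neg, nf_add_mul, nf_neg_mul, ← sub_eq_add_neg]

/-- the affine permutation `x ↦ x * a + b` with inverse `a'` of `a` -/
def aff (a a' b : F) (h1 : a * a' = 1) (h2 : a' * a = 1) : Equiv.Perm F where
  toFun x := x * a + b
  invFun y := (y - b) * a'
  left_inv x := by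
    show (x * a + b - b) * a' = x
    rw [add_sub_cancel_right, mul_assoc, h1, mul_one]
  right_inv y := by
    show (y - b) * a' * a + b = y
    rw [mul_assoc, h2, mul_one, sub_add_cancel]

theorem aff_apply (a a' b : F) (h1 : a * a' = 1) (h2 : a' * a = 1) (x : F) :
    aff a a' b h1 h2 x = x * a + b := rfl

theorem ne_zero_of_mul_eq_one {a a' : F} (h1 : a * a' = 1) : a ≠ 0 := by
  intro h
  rw [h, nf_zero_mul] at h1
  exact NearField.zero_ne_one h1

/-- The subgroup of affine maps. -/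
def affSubgroup (F : Type*) [Cfsg.NearField F] : Subgroup (Equiv.Perm F) where
  carrier := {σ | ∃ a b : F, a ≠ 0 ∧ ∀ x : F, σ x = x * a + b}
  one_mem' := ⟨1, 0, fun h => NearField.zero_ne_one h.symm, fun x => by simp⟩
  mul_mem' := by
    rintro σ τ ⟨a, b, ha, hσ⟩ ⟨c, d, hc, hτ⟩
    obtain ⟨a', ha1, ha2⟩ := NearField.exists_inv a ha
    obtain ⟨c', hc1, hc2⟩ := NearField.exists_inv c hc
    refine ⟨c * a, d * a + b, ?_, fun x => ?_⟩
    · apply ne_zero_of_mul_eq_one (a' := a' * c')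
      rw [mul_assoc, ← mul_assoc a, ha1, one_mul, hc1]
    · rw [Equiv.Perm.coe_mul, Function.comp_apply, hτ, hσ, nf_add_mul, mul_assoc, add_assoc]
  inv_mem' := by
    rintro σ ⟨a, b, ha, hσ⟩
    obtain ⟨a', ha1, ha2⟩ := NearField.exists_inv a ha
    refine ⟨a', (-b) * a', ne_zero_of_mul_eq_one ha2, fun y => ?_⟩
    apply σ.injective
    rw [Equiv.Perm.inv_def, Equiv.apply_symm_apply, hσ, nf_add_mul, mul_assoc, ha2, mul_one, mul_assoc, ha2, mul_one,
      add_assoc, neg_add_cancel, add_zero]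

theorem mem_affSubgroup (σ : Equiv.Perm F) :
    σ ∈ affSubgroup F ↔ ∃ a b : F, a ≠ 0 ∧ ∀ x : F, σ x = x * a + b := Iff.rfl

/-- The affine maps `x ↦ x * a + b`, `a ≠ 0`, of a near-field form a sharply doubly transitive permutation group. -/
theorem result {F : Type*} [Cfsg.NearField F] : ∃ H : Subgroup (Equiv.Perm F), (∀ σ : Equiv.Perm F, σ ∈ H ↔ ∃ a b : F, a ≠ 0 ∧ ∀ x : F, σ x = x * a + b) ∧ MulAction.IsMultiplyPretransitive H F 2 ∧ ∀ x : Fin 2 ↪ F, MulAction.stabilizer H x = ⊥ := by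
  refine ⟨affSubgroup F, mem_affSubgroup, ?_, ?_⟩
  · rw [MulAction.is_two_pretransitive_iff]
    intro x₁ x₂ y₁ y₂ hx hy
    have hx' : x₁ - x₂ ≠ 0 := sub_ne_zero.mpr hx
    have hy' : y₁ - y₂ ≠ 0 := sub_ne_zero.mpr hy
    obtain ⟨u, hu1, hu2⟩ := NearField.exists_inv _ hx'
    obtain ⟨v, hv1, hv2⟩ := NearField.exists_inv _ hy'
    -- a = u * (y₁ - y₂), inverse a' = v * (x₁ - x₂)
    have h1 : (u * (y₁ - y₂)) * (v * (x₁ - x₂)) = 1 := by
      rw [mul_assoc, ← mul_assoc (y₁ - y₂), hv1, one_mul, hu2]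
    have h2 : (v * (x₁ - x₂)) * (u * (y₁ - y₂)) = 1 := by
      rw [mul_assoc, ← mul_assoc (x₁ - x₂), hu1, one_mul, hv2]
    set a := u * (y₁ - y₂) with ha
    set b := -(x₁ * a) + y₁ with hb
    have hmem : aff a _ b h1 h2 ∈ affSubgroup F :=
      ⟨a, b, ne_zero_of_mul_eq_one h1, fun x => rfl⟩
    refine ⟨⟨aff a _ b h1 h2, hmem⟩, ?_, ?_⟩
    · show aff a _ b h1 h2 x₁ = y₁
      rw [aff_apply, hb, ← add_assoc, add_neg_cancel, zero_add]
    · show aff a _ b h1 h2 x₂ = y₂
      have key : (x₁ - x₂) * a = y₁ - y₂ := by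
        rw [ha, ← mul_assoc, hu1, one_mul]
      rw [aff_apply, hb, ← add_assoc]
      have : x₂ * a + -(x₁ * a) = -(y₁ - y₂) := by
        rw [← key, nf_sub_mul, neg_sub, sub_eq_add_neg]
      rw [this, neg_sub, sub_add_cancel]
  · intro x
    rw [eq_bot_iff]
    rintro ⟨σ, a, b, ha, hσ⟩ hmem
    rw [Subgroup.mem_bot]
    apply Subtype.ext
    rw [MulAction.mem_stabilizer_iff] at hmem
    have h0 : σ (x 0) = x 0 := by
      have := congrArg (fun e : Fin 2 ↪ F => e 0) hmem
      exact this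
    have h1 : σ (x 1) = x 1 := by
      have := congrArg (fun e : Fin 2 ↪ F => e 1) hmem
      exact this
    rw [hσ] at h0 h1
    have hne : x 0 - x 1 ≠ 0 := by
      rw [sub_ne_zero]
      intro h
      have := x.injective h
      exact absurd this (by decide)
    obtain ⟨u, hu1, hu2⟩ := NearField.exists_inv _ hne
    have key : (x 0 - x 1) * a = x 0 - x 1 := by
      rw [nf_sub_mul]
      have e0 : x 0 * a = x 0 - b := eq_sub_of_add_eq h0
      have e1 : x 1 * a = x 1 - b := eq_sub_of_add_eq h1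
      rw [e0, e1, sub_sub_sub_cancel_right]
    have ha1 : a = 1 := by
      have h3 : u * ((x 0 - x 1) * a) = u * (x 0 - x 1) := by rw [key]
      rwa [← mul_assoc, hu2, one_mul] at h3
    have hb0 : b = 0 := by
      rw [ha1, mul_one] at h0
      exact add_left_cancel (h0.trans (add_zero _).symm)
    ext y
    show σ y = y
    rw [hσ, ha1, hb0, mul_one, add_zero]

end Cfsg.Agent.S0681
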