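import Cfsg.Statements.S0682
import Cfsg.Agent.S0681
import Mathlib

set_option autoImplicit false
open Cfsg
open Cfsg.Agent.S0681

namespace Cfsg.Agent.S0682

variable {F : Type*} [Cfsg.NearField F]

/-- right multiplication as an additive hom -/
def rmul (a : F) : F →+ F where
  toFun x := x * a
  map_zero' := nf_zero_mul a
  map_add' x y := nf_add_mul x y a

theorem rmul_injective {a a' : F} (h1 : a * a' = 1) : Function.Injective (rmul a) := by
  intro x y hxy
  have : x * a = y * a := hxy
  have h2 := congrArg (fun t => t * a') this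
  simp only [mul_assoc, h1, mul_one] at h2
  exact h2

/-- A finite near-field has prime-power order; its additive group is commutative of prime exponent. -/
theorem result {F : Type*} [Cfsg.NearField F] [Finite F] : ∃ p j : ℕ, p.Prime ∧ 1 ≤ j ∧ Nat.card F = p ^ j ∧ (∀ x y : F, x + y = y + x) ∧ ∀ x : F, p • x = 0 := by
  classical
  have h01 : (1 : F) ≠ 0 := fun h => NearField.zero_ne_one h.symm
  -- all nonzero elements have the same additive order
  have hord : ∀ a : F, a ≠ 0 → addOrderOf a = addOrderOf (1 : F) := by
    intro a ha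
    obtain ⟨a', ha1, ha2⟩ := NearField.exists_inv a ha
    have := addOrderOf_injective (rmul a) (rmul_injective ha1) (1 : F)
    have h1 : rmul a (1 : F) = a := one_mul a
    rw [h1] at this
    exact this
  set m := addOrderOf (1 : F) with hm
  have hmpos : 0 < m := addOrderOf_pos (1 : F)
  have hm1 : m ≠ 1 := by
    intro h
    exact h01 (AddMonoid.addOrderOf_eq_one_iff.mp h)
  obtain ⟨p, hp, hpm⟩ := Nat.exists_prime_and_dvd hm1
  -- m = p
  have hmp : m = p := by
    obtain ⟨k, hk⟩ := hpm
    have hkpos : 0 < k := by
      rcases Nat.eq_zero_or_pos k with h | h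
      · rw [h, mul_zero] at hk; omega
      · exact h
    by_cases hy : k • (1 : F) = 0
    · have : m ∣ k := addOrderOf_dvd_of_nsmul_eq_zero hy
      have hle := Nat.le_of_dvd hkpos this
      have : p * k ≤ k := hk ▸ hle
      have h2 := hp.two_le
      nlinarith
    · have h1 : addOrderOf (k • (1 : F)) = m := hord _ hy
      have h2 : p • (k • (1 : F)) = 0 := by
        rw [← mul_nsmul', ← hk]  
        exact addOrderOf_nsmul_eq_zero (1 : F)
      have h3 : m ∣ p := h1 ▸ addOrderOf_dvd_of_nsmul_eq_zero h2
      rcases (Nat.dvd_prime hp).mp h3 with h | h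
      · exact absurd h hm1
      · exact h
  have hexp : ∀ x : F, p • x = 0 := by
    intro x
    by_cases hx : x = 0
    · rw [hx, nsmul_zero]
    · have := hord x hx
      rw [← hmp, ← this]
      exact addOrderOf_nsmul_eq_zero x
  haveI := Fact.mk hp
  -- p-group
  have hpg : IsPGroup p (Multiplicative F) := by
    intro g
    refine ⟨1, ?_⟩
    rw [pow_one]
    exact hexp (Multiplicative.toAdd g)
  obtain ⟨j, hj⟩ := (IsPGroup.iff_card).mp hpg
  have hcard : Nat.card F = p ^ j := by
    rw [← hj]; rfl
  have hj1 : 1 ≤ j := by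
    rcases Nat.eq_zero_or_pos j with h | h
    · exfalso
      rw [h, pow_zero] at hcard
      have := (Nat.card_eq_one_iff_unique.mp hcard).1
      exact h01 (Subsingleton.elim _ _)
    · exact h
  -- commutativity
  have hcomm : ∀ x y : F, x + y = y + x := by
    haveI : Nontrivial (Multiplicative F) := ⟨⟨Multiplicative.ofAdd (1 : F), Multiplicative.ofAdd (0 : F), fun h => h01 (Multiplicative.ofAdd.injective h)⟩⟩
    have hcn : Nontrivial (Subgroup.center (Multiplicative F)) := hpg.center_nontrivial
    obtain ⟨z, hz⟩ := exists_ne (1 : Subgroup.center (Multiplicative F))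
    set z₀ : F := Multiplicative.toAdd (z : Multiplicative F) with hz₀
    have hz0 : z₀ ≠ 0 := by
      intro h
      apply hz
      apply Subtype.ext
      exact Multiplicative.toAdd.injective h
    have hzc : ∀ y : F, y + z₀ = z₀ + y := by
      intro y
      have := (Subgroup.mem_center_iff.mp z.2) (Multiplicative.ofAdd y)
      exact congrArg Multiplicative.toAdd this
    obtain ⟨z', hz1, hz2⟩ := NearField.exists_inv z₀ hz0
    intro y w
    by_cases hw : w = 0
    · rw [hw, add_zero, zero_add]
    obtain ⟨w', hw1, hw2⟩ := NearField.exists_inv w hw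
    -- a = z' * w, a' = w' * z₀
    have ha1 : (z' * w) * (w' * z₀) = 1 := by
      rw [mul_assoc, ← mul_assoc w, hw1, one_mul, hz2]
    have hza : z₀ * (z' * w) = w := by rw [← mul_assoc, hz1, one_mul]
    have hy : (y * (w' * z₀)) * (z' * w) = y := by
      rw [mul_assoc, mul_assoc w', ← mul_assoc z₀, hz1, one_mul, hw2, mul_one]
    have := congrArg (fun t => t * (z' * w)) (hzc (y * (w' * z₀)))
    simp only [nf_add_mul, hy, hza] at this
    exact this
  exact ⟨p, j, hp, hj1, hcard, hcomm, hexp⟩

end Cfsg.Agent.S0682
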