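import Cfsg.Statements.S0339
import Mathlib
import Cfsg.Agent.S0035

set_option autoImplicit false
open Cfsg

namespace Cfsg.Agent.S0339

open scoped Pointwise

/-- Frobenius' theorem for a transitive action in which only the identity fixes two points -/
theorem frobenius_action {X Δ : Type*} [Group X] [Finite X] [MulAction X Δ] [Finite Δ]
    [MulAction.IsPretransitive X Δ]
    (h2 : ∀ x : X, ∀ b c : Δ, b ≠ c → x • b = b → x • c = c → x = 1)
    (b : Δ) (hb : MulAction.stabilizer X b ≠ ⊥) (hΔ : ∃ c : Δ, c ≠ b) :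
    ∃ K : Subgroup X, K.Normal ∧ (∀ x : X, x ∈ K ↔ (x = 1 ∨ ∀ c : Δ, x • c ≠ c)) ∧
      ∀ c d : Δ, ∃ k ∈ K, k • c = d := by
  have hconj : ∀ (g x : X), x ∈ MulAut.conj g • MulAction.stabilizer X b ↔ x • (g • b) = g • b := by
    intro g x
    rw [Subgroup.mem_pointwise_smul_iff_inv_smul_mem, MulAction.mem_stabilizer_iff]
    simp only [MulAut.smul_def, MulAut.inv_def, MulAut.conj_symm_apply]
    rw [mul_smul, mul_smul, inv_smul_eq_iff]
  have hFC : Cfsg.IsFrobeniusComplement (MulAction.stabilizer X b) := by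
    refine ⟨hb, ?_, ?_⟩
    · intro htop
      obtain ⟨c, hc⟩ := hΔ
      obtain ⟨x, hx⟩ := MulAction.exists_smul_eq X b c
      have : x ∈ MulAction.stabilizer X b := htop ▸ Subgroup.mem_top x
      rw [MulAction.mem_stabilizer_iff] at this
      exact hc (hx.symm.trans this)
    · intro g hg
      rw [eq_bot_iff]
      intro y hy
      obtain ⟨hy1, hy2⟩ := Subgroup.mem_inf.mp hy
      rw [hconj] at hy2
      rw [MulAction.mem_stabilizer_iff] at hy1 hg
      rw [Subgroup.mem_bot]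
      exact h2 y b (g • b) (fun h => hg h.symm) hy1 hy2
  obtain ⟨K, hKset, hKn, hKc⟩ := Cfsg.Agent.S0035.result (MulAction.stabilizer X b) hFC
  have hmem : ∀ x : X, x ∈ K ↔ (x = 1 ∨ ∀ c : Δ, x • c ≠ c) := by
    intro x
    rw [← SetLike.mem_coe, hKset]
    change (x = 1 ∨ ∀ g : X, x ∉ MulAut.conj g • MulAction.stabilizer X b) ↔ _
    constructor
    · rintro (h | h)
      · exact Or.inl h
      · right
        intro c hc
        obtain ⟨g, hg⟩ := MulAction.exists_smul_eq X b c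
        apply h g
        rw [hconj, hg]
        exact hc
    · rintro (h | h)
      · exact Or.inl h
      · right
        intro g hg
        rw [hconj] at hg
        exact h _ hg
  refine ⟨K, hKn, hmem, ?_⟩
  have hcard : Nat.card K = Nat.card Δ := by
    rw [← hKc.index_eq_card, MulAction.index_stabilizer_of_transitive]
  have hinj : Function.Injective (fun k : K => (k : X) • b) := by
    intro k k' hkk
    have h1 : ((k' : X)⁻¹ * (k : X)) • b = b := by
      rw [mul_smul]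
      exact inv_smul_eq_iff.mpr hkk
    have h2' : (k' : X)⁻¹ * (k : X) ∈ K := K.mul_mem (K.inv_mem k'.2) k.2
    rcases (hmem _).mp h2' with h | h
    · apply Subtype.ext
      calc (k : X) = (k' : X) * ((k' : X)⁻¹ * (k : X)) := by group
        _ = k' := by rw [h, mul_one]
    · exact absurd h1 (h b)
  have hbij := hinj.bijective_of_nat_card_le (le_of_eq hcard.symm)
  intro c d
  obtain ⟨kc, hkc⟩ := hbij.2 c
  obtain ⟨kd, hkd⟩ := hbij.2 d
  refine ⟨kd * kc⁻¹, K.mul_mem kd.2 (K.inv_mem kc.2), ?_⟩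
  rw [mul_smul, ← hkc]
  change (kd : X) • (kc : X)⁻¹ • (kc : X) • b = d
  rw [inv_smul_smul]
  exact hkd

/-- a normal subgroup containing a non-identity element with a fixed point contains the kernel -/
theorem kernel_le_normal {X Δ : Type*} [Group X] [Finite X] [MulAction X Δ]
    (h2 : ∀ x : X, ∀ b c : Δ, b ≠ c → x • b = b → x • c = c → x = 1)
    (K : Subgroup X) [hKn : K.Normal] (hK : ∀ x ∈ K, x ≠ 1 → ∀ c : Δ, x • c ≠ c)
    (M : Subgroup X) [hMn : M.Normal] (x : X) (hxM : x ∈ M) (hx1 : x ≠ 1) (b : Δ)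
    (hxb : x • b = b) : K ≤ M := by
  let φ : K → K := fun k => ⟨x⁻¹ * (k : X)⁻¹ * x * (k : X), by
    have h1 : x⁻¹ * (k : X)⁻¹ * x⁻¹⁻¹ ∈ K := hKn.conj_mem _ (K.inv_mem k.2) _
    rw [inv_inv] at h1
    exact K.mul_mem h1 k.2⟩
  have hinj : Function.Injective φ := by
    intro k k' hkk
    have h0 : x⁻¹ * (k : X)⁻¹ * x * (k : X) = x⁻¹ * (k' : X)⁻¹ * x * (k' : X) :=
      congrArg Subtype.val hkk
    by_contra hne
    have hu : (k : X) * (k' : X)⁻¹ ∈ K := K.mul_mem k.2 (K.inv_mem k'.2)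
    have hu1 : (k : X) * (k' : X)⁻¹ ≠ 1 := by
      intro h
      apply hne
      apply Subtype.ext
      exact mul_inv_eq_one.mp h
    have hx' : x = ((k : X) * (k' : X)⁻¹) * x * ((k : X) * (k' : X)⁻¹)⁻¹ := by
      have h3 : (k : X)⁻¹ * x * (k : X) = (k' : X)⁻¹ * x * (k' : X) := by
        have := congrArg (fun t => x * t) h0
        simpa [mul_assoc] using this
      calc x = (k : X) * ((k : X)⁻¹ * x * (k : X)) * (k : X)⁻¹ := by group
        _ = (k : X) * ((k' : X)⁻¹ * x * (k' : X)) * (k : X)⁻¹ := by rw [h3]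
        _ = _ := by group
    have hfix : x • (((k : X) * (k' : X)⁻¹) • b) = ((k : X) * (k' : X)⁻¹) • b := by
      conv_lhs => rw [hx']
      rw [mul_smul, mul_smul, inv_smul_smul, hxb]
    have hne' : ((k : X) * (k' : X)⁻¹) • b ≠ b := hK _ hu hu1 b
    exact hx1 (h2 x b _ hne'.symm hxb hfix)
  have hsurj : Function.Surjective φ := Finite.injective_iff_surjective.mp hinj
  intro k hk
  obtain ⟨k', hk'⟩ := hsurj ⟨k, hk⟩
  have h0 : x⁻¹ * (k' : X)⁻¹ * x * (k' : X) = k := congrArg Subtype.val hk'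
  rw [← h0]
  have h1 : (k' : X)⁻¹ * x * (k' : X)⁻¹⁻¹ ∈ M := hMn.conj_mem _ hxM _
  rw [inv_inv] at h1
  have h2' : x⁻¹ * ((k' : X)⁻¹ * x * (k' : X)) ∈ M := M.mul_mem (M.inv_mem hxM) h1
  have e : x⁻¹ * (k' : X)⁻¹ * x * (k' : X) = x⁻¹ * ((k' : X)⁻¹ * x * (k' : X)) := by group
  rw [e]
  exact h2'

/-- uniqueness of regular subgroups normalized by a group `N` whose point stabilizers are
transitive on the remaining points -/
theorem regular_le {G Ω : Type*} [Group G] [MulAction G Ω] [FaithfulSMul G Ω]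
    (N A B : Subgroup G) [Finite A]
    (hN : ∀ a b c : Ω, b ≠ a → c ≠ a → ∃ n ∈ N, n • a = a ∧ n • b = c)
    (hAN : A ≤ N) (hBN : B ≤ N)
    (hAn : ∀ n ∈ N, ∀ x ∈ A, n * x * n⁻¹ ∈ A) (hBn : ∀ n ∈ N, ∀ x ∈ B, n * x * n⁻¹ ∈ B)
    (hAt : ∀ c d : Ω, ∃ x ∈ A, x • c = d) (hAs : ∀ x ∈ A, ∀ c : Ω, x • c = c → x = 1)
    (hBs : ∀ x ∈ B, ∀ c : Ω, x • c = c → x = 1) (a : Ω) :
    B ≤ A := by
  classical
  -- conjugacy of non-identity elements of A under N
  have hconj : ∀ m ∈ A, ∀ m' ∈ A, m ≠ 1 → m' ≠ 1 → ∃ h ∈ N, h * m * h⁻¹ = m' := by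
    intro m hm m' hm' hm1 hm'1
    have h1 : m • a ≠ a := fun h => hm1 (hAs m hm a h)
    have h2 : m' • a ≠ a := fun h => hm'1 (hAs m' hm' a h)
    obtain ⟨h, hhN, hha, hh⟩ := hN a (m • a) (m' • a) h1 h2
    refine ⟨h, hhN, ?_⟩
    have h3 : h * m * h⁻¹ ∈ A := hAn h hhN m hm
    have h4 : (m'⁻¹ * (h * m * h⁻¹)) • a = a := by
      have hinv : h⁻¹ • a = a := inv_smul_eq_iff.mpr hha.symm
      rw [mul_smul, mul_smul, mul_smul, hinv, hh]
      exact inv_smul_smul m' a
    have h5 := hAs _ (A.mul_mem (A.inv_mem hm') h3) a h4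
    calc h * m * h⁻¹ = m' * (m'⁻¹ * (h * m * h⁻¹)) := by group
      _ = m' := by rw [h5, mul_one]
  -- A is abelian
  have hAab : ∀ m ∈ A, ∀ m' ∈ A, m * m' = m' * m := by
    by_cases hAtriv : ∀ m ∈ A, m = 1
    · intro m hm m' hm'
      rw [hAtriv m hm, hAtriv m' hm']
    push Not at hAtriv
    obtain ⟨m₀, hm₀, hm₀1⟩ := hAtriv
    haveI : Nontrivial A := ⟨⟨⟨m₀, hm₀⟩, 1, fun h => hm₀1 (congrArg Subtype.val h)⟩⟩
    have hcard1 : Nat.card A ≠ 1 := by
      intro h
      have := (Nat.card_eq_one_iff_unique.mp h).1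
      exact not_subsingleton A this
    obtain ⟨p, hp, hpA⟩ := Nat.exists_prime_and_dvd hcard1
    haveI : Fact p.Prime := ⟨hp⟩
    obtain ⟨z, hz⟩ := exists_prime_orderOf_dvd_card' p hpA
    have hz1 : (z : G) ≠ 1 := by
      intro h
      have : z = 1 := Subtype.ext h
      rw [this, orderOf_one] at hz
      exact hp.ne_one hz.symm
    have hzord : orderOf (z : G) = p := by rw [Subgroup.orderOf_coe]; exact hz
    have hpow : ∀ m ∈ A, m ^ p = 1 := by
      intro m hm
      by_cases hm1 : m = 1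
      · rw [hm1, one_pow]
      · obtain ⟨h, -, hh⟩ := hconj (z : G) z.2 m hm hz1 hm1
        have : orderOf m = p := by
          rw [← hh, ← MulAut.conj_apply, MulEquiv.orderOf_eq, hzord]
        rw [← this]
        exact pow_orderOf_eq_one m
    have hpg : IsPGroup p A := by
      intro m
      refine ⟨1, ?_⟩
      apply Subtype.ext
      rw [pow_one]
      simpa using hpow m m.2
    haveI := hpg.center_nontrivial
    obtain ⟨c, hc⟩ := exists_ne (1 : Subgroup.center A)
    have hc1 : ((c : A) : G) ≠ 1 := by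
      intro h
      apply hc
      apply Subtype.ext
      apply Subtype.ext
      exact h
    have hccomm : ∀ m ∈ A, ((c : A) : G) * m = m * ((c : A) : G) := by
      intro m hm
      have := (Subgroup.mem_center_iff.mp c.2) ⟨m, hm⟩
      have h2 := congrArg Subtype.val this
      simpa using h2.symm
    intro m hm m' hm'
    by_cases hm1 : m = 1
    · rw [hm1, one_mul, mul_one]
    obtain ⟨h, hhN, hh⟩ := hconj ((c : A) : G) (c : A).2 m hm hc1 hm1
    have h3 : h⁻¹ * m' * h⁻¹⁻¹ ∈ A := hAn h⁻¹ (N.inv_mem hhN) m' hm'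
    have h4 := hccomm _ h3
    rw [← hh]
    calc h * ((c : A) : G) * h⁻¹ * m' = h * (((c : A) : G) * (h⁻¹ * m' * h⁻¹⁻¹)) * h⁻¹ := by group
      _ = h * ((h⁻¹ * m' * h⁻¹⁻¹) * ((c : A) : G)) * h⁻¹ := by rw [h4]
      _ = m' * (h * ((c : A) : G) * h⁻¹) := by group
  -- main
  have hBA_of_centralizes : (∀ x ∈ A, ∀ y ∈ B, x * y = y * x) → B ≤ A := by
    intro hcent b hb
    obtain ⟨x, hx, hxa⟩ := hAt a (b • a)
    have hfix : ∀ ω : Ω, (x⁻¹ * b) • ω = ω := by
      intro ω
      obtain ⟨x', hx', hx'a⟩ := hAt a ω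
      have e : (x⁻¹ * b) * x' = x' * (x⁻¹ * b) := by
        have h1 := hcent x' hx' b hb
        have h2 := hAab x' hx' x⁻¹ (A.inv_mem hx)
        calc x⁻¹ * b * x' = x⁻¹ * (b * x') := by group
          _ = x⁻¹ * (x' * b) := by rw [h1]
          _ = (x⁻¹ * x') * b := by group
          _ = (x' * x⁻¹) * b := by rw [h2]
          _ = x' * (x⁻¹ * b) := by group
      rw [← hx'a, ← mul_smul, e, mul_smul]
      congr 1
      rw [mul_smul, ← hxa]
      exact inv_smul_smul x a
    have h1 : x⁻¹ * b = 1 := by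
      apply FaithfulSMul.eq_of_smul_eq_smul (α := Ω)
      intro ω
      rw [hfix ω, one_smul]
    have : b = x := by
      calc b = x * (x⁻¹ * b) := by group
        _ = x := by rw [h1, mul_one]
    rw [this]
    exact hx
  by_cases hint : ∃ m ∈ A, m ∈ B ∧ m ≠ 1
  · obtain ⟨m, hmA, hmB, hm1⟩ := hint
    have hAB : A ≤ B := by
      intro m' hm'
      by_cases hm'1 : m' = 1
      · rw [hm'1]; exact B.one_mem
      obtain ⟨h, hhN, hh⟩ := hconj m hmA m' hm' hm1 hm'1
      rw [← hh]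
      exact hBn h hhN m hmB
    intro b hb
    obtain ⟨x, hx, hxa⟩ := hAt a (b • a)
    have h1 : (x⁻¹ * b) • a = a := by
      rw [mul_smul, ← hxa]
      exact inv_smul_smul x a
    have h2 := hBs _ (B.mul_mem (B.inv_mem (hAB hx)) hb) a h1
    have : b = x := by
      calc b = x * (x⁻¹ * b) := by group
        _ = x := by rw [h2, mul_one]
    rw [this]
    exact hx
  · push Not at hint
    apply hBA_of_centralizes
    intro x hx y hy
    have h1 : x * y * x⁻¹ * y⁻¹ ∈ A := by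
      have := hAn y (hBN hy) x⁻¹ (A.inv_mem hx)
      have e : x * y * x⁻¹ * y⁻¹ = x * (y * x⁻¹ * y⁻¹) := by group
      rw [e]
      exact A.mul_mem hx this
    have h2 : x * y * x⁻¹ * y⁻¹ ∈ B := by
      have := hBn x (hAN hx) y hy
      exact B.mul_mem this (B.inv_mem hy)
    have h3 : x * y * x⁻¹ * y⁻¹ = 1 := by
      exact hint _ h1 h2
    calc x * y = (x * y * x⁻¹ * y⁻¹) * (y * x) := by group
      _ = y * x := by rw [h3, one_mul]

/-- basic consequences of the Zassenhaus axioms -/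
theorem basics {G Ω : Type*} [Group G] [MulAction G Ω] [Finite Ω]
    (hZ : Cfsg.IsZassenhausGroup G Ω) :
    Finite G ∧
    (∀ {a b c d : Ω}, a ≠ b → c ≠ d → ∃ g : G, g • a = c ∧ g • b = d) ∧
    (∀ a b : Ω, a ≠ b → ∃ g : G, g ≠ 1 ∧ g • a = a ∧ g • b = b) ∧
    (∀ a b : Ω, a ≠ b → ∃ c : Ω, c ≠ a ∧ c ≠ b) ∧
    (∃ a b : Ω, a ≠ b) := by
  obtain ⟨hfaith, h2, h3, hfix, hnoreg⟩ := hZ
  have hfin : Finite G := Finite.of_injective _ (MulAction.toPerm_injective (α := G) (β := Ω))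
  have h2t : ∀ {a b c d : Ω}, a ≠ b → c ≠ d → ∃ g : G, g • a = c ∧ g • b = d :=
    (MulAction.is_two_pretransitive_iff (G := G) (α := Ω)).mp h2
  obtain ⟨g₀, hg₀1, a₀, b₀, hab₀, hga, hgb⟩ := hfix
  have hc₀ : ∃ c₀ : Ω, g₀ • c₀ ≠ c₀ := by
    by_contra h
    push Not at h
    apply hg₀1
    apply FaithfulSMul.eq_of_smul_eq_smul (α := Ω)
    intro ω
    rw [h ω, one_smul]
  obtain ⟨c₀, hc₀⟩ := hc₀
  have hca : c₀ ≠ a₀ := fun h => hc₀ (h ▸ hga)
  have hcb : c₀ ≠ b₀ := fun h => hc₀ (h ▸ hgb)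
  refine ⟨hfin, h2t, ?_, ?_, ⟨a₀, b₀, hab₀⟩⟩
  · intro a b hab
    obtain ⟨h, hha, hhb⟩ := h2t hab₀ hab
    refine ⟨h * g₀ * h⁻¹, ?_, ?_, ?_⟩
    · intro he
      apply hg₀1
      calc g₀ = h⁻¹ * (h * g₀ * h⁻¹) * h := by group
        _ = 1 := by rw [he]; group
    · rw [mul_smul, mul_smul, ← hha, inv_smul_smul, hga]
    · rw [mul_smul, mul_smul, ← hhb, inv_smul_smul, hgb]
  · intro a b hab
    obtain ⟨h, hha, hhb⟩ := h2t hab₀ hab
    refine ⟨h • c₀, ?_, ?_⟩
    · rw [← hha]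
      exact fun he => hca (MulAction.injective h he)
    · rw [← hhb]
      exact fun he => hcb (MulAction.injective h he)

/-- the key fact: point stabilizers of a non-trivial normal subgroup are transitive on the
remaining points -/
theorem key {G Ω : Type*} [Group G] [MulAction G Ω] [Finite Ω]
    (hZ : Cfsg.IsZassenhausGroup G Ω) (N : Subgroup G) [hNn : N.Normal] (hN : N ≠ ⊥) :
    (∀ c d : Ω, ∃ n ∈ N, n • c = d) ∧
    (∀ a b c : Ω, b ≠ a → c ≠ a → ∃ n ∈ N, n • a = a ∧ n • b = c) ∧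
    (∃ n ∈ N, n ≠ 1 ∧ ∃ a b : Ω, a ≠ b ∧ n • a = a ∧ n • b = b) := by
  classical
  obtain ⟨hfin, h2t, hF3, hthird, ⟨a₀, b₀, hab₀⟩⟩ := basics hZ
  obtain ⟨hfaith, h2, h3, hfix, hnoreg⟩ := hZ
  -- N is transitive
  have hNtrans : ∀ c d : Ω, ∃ n ∈ N, n • c = d := by
    intro c d
    by_cases hcd : c = d
    · exact ⟨1, N.one_mem, by rw [one_smul, hcd]⟩
    rcases N.bot_or_exists_ne_one with h | ⟨n₀, hn₀, hn₀1⟩
    · exact absurd h hN
    have he : ∃ e : Ω, n₀ • e ≠ e := by
      by_contra h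
      push Not at h
      apply hn₀1
      apply FaithfulSMul.eq_of_smul_eq_smul (α := Ω)
      intro ω
      rw [h ω, one_smul]
    obtain ⟨e, he⟩ := he
    obtain ⟨g, hge, hgne⟩ := h2t (Ne.symm he) hcd
    refine ⟨g * n₀ * g⁻¹, hNn.conj_mem n₀ hn₀ g, ?_⟩
    rw [mul_smul, mul_smul, ← hge, inv_smul_smul, hgne]
  haveI hNpre : MulAction.IsPretransitive N Ω := ⟨fun c d => by
    obtain ⟨n, hn, hnc⟩ := hNtrans c d
    exact ⟨⟨n, hn⟩, hnc⟩⟩
  -- N has non-trivial point stabilizers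
  have hF4 : ∀ a : Ω, ∃ n ∈ N, n ≠ 1 ∧ n • a = a := by
    obtain ⟨a₁, ha₁⟩ := hnoreg N hNn hNpre
    rcases (MulAction.stabilizer N a₁).bot_or_exists_ne_one with h | ⟨n₁, hn₁, hn₁1⟩
    · exact absurd h ha₁
    intro a
    obtain ⟨m, hm, hma⟩ := hNtrans a₁ a
    refine ⟨m * n₁ * m⁻¹, hNn.conj_mem _ n₁.2 m, ?_, ?_⟩
    · intro he
      apply hn₁1
      apply Subtype.ext
      calc (n₁ : G) = m⁻¹ * (m * n₁ * m⁻¹) * m := by group
        _ = 1 := by rw [he]; group
    · rw [MulAction.mem_stabilizer_iff] at hn₁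
      have hn₁' : (n₁ : G) • a₁ = a₁ := hn₁
      rw [mul_smul, mul_smul, ← hma, inv_smul_smul, hn₁']
  -- the analysis at a point
  have hpoint : ∀ a : Ω, (∀ b c : Ω, b ≠ a → c ≠ a → ∃ n ∈ N, n • a = a ∧ n • b = c) ∧
      (∃ n ∈ N, n ≠ 1 ∧ ∃ b : Ω, a ≠ b ∧ n • a = a ∧ n • b = b) := by
    intro a
    obtain ⟨b', hb'⟩ : ∃ b' : Ω, b' ≠ a := by
      by_cases h : a₀ = a
      · exact ⟨b₀, fun hb => hab₀ (h.trans hb.symm)⟩
      · exact ⟨a₀, h⟩
    obtain ⟨c', hc'a, hc'b⟩ := hthird a b' (Ne.symm hb')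
    haveI : MulAction.IsPretransitive (MulAction.stabilizer G a) (SubMulAction.ofStabilizer G a) :=
      ⟨fun b c => by
        obtain ⟨g, hga, hgb⟩ := h2t (Ne.symm ((show (b : Ω) ≠ a from b.2)))
          (Ne.symm ((show (c : Ω) ≠ a from c.2)))
        refine ⟨⟨g, hga⟩, ?_⟩
        apply Subtype.ext
        exact hgb⟩
    have h2X : ∀ x : MulAction.stabilizer G a, ∀ b c : SubMulAction.ofStabilizer G a, b ≠ c →
        x • b = b → x • c = c → x = 1 := by
      intro x b c hbc hxb hxc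
      apply Subtype.ext
      have hxb' : (x : G) • (b : Ω) = b := congrArg Subtype.val hxb
      have hxc' : (x : G) • (c : Ω) = c := congrArg Subtype.val hxc
      exact h3 x a b c (Ne.symm ((show (b : Ω) ≠ a from b.2)))
        (fun h => hbc (Subtype.ext h)) (Ne.symm ((show (c : Ω) ≠ a from c.2)))
        x.2 hxb' hxc'
    obtain ⟨g₁, hg₁1, hg₁a, hg₁b⟩ := hF3 a b' (Ne.symm hb')
    have hstab : MulAction.stabilizer (MulAction.stabilizer G a)
        (⟨b', (SubMulAction.mem_ofStabilizer_iff G a).mpr hb'⟩ : SubMulAction.ofStabilizer G a) ≠ ⊥ := by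
      intro h
      have hmem : (⟨g₁, hg₁a⟩ : MulAction.stabilizer G a) ∈ MulAction.stabilizer (MulAction.stabilizer G a)
          (⟨b', (SubMulAction.mem_ofStabilizer_iff G a).mpr hb'⟩ : SubMulAction.ofStabilizer G a) := by
        rw [MulAction.mem_stabilizer_iff]
        apply Subtype.ext
        exact hg₁b
      rw [h, Subgroup.mem_bot] at hmem
      exact hg₁1 (congrArg Subtype.val hmem)
    obtain ⟨K, hKn, hKmem, hKtrans⟩ := frobenius_action h2X
      (⟨b', (SubMulAction.mem_ofStabilizer_iff G a).mpr hb'⟩ : SubMulAction.ofStabilizer G a) hstab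
      ⟨⟨c', (SubMulAction.mem_ofStabilizer_iff G a).mpr hc'a⟩, fun h => hc'b (congrArg Subtype.val h)⟩
    have hKfpf : ∀ x ∈ K, x ≠ 1 → ∀ c : SubMulAction.ofStabilizer G a, x • c ≠ c := by
      intro x hx hx1
      rcases (hKmem x).mp hx with h | h
      · exact absurd h hx1
      · exact h
    haveI hMn : (N.subgroupOf (MulAction.stabilizer G a)).Normal := hNn.subgroupOf _
    by_cases hcase : ∃ x ∈ N.subgroupOf (MulAction.stabilizer G a), x ≠ 1 ∧
        ∃ b : SubMulAction.ofStabilizer G a, x • b = b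
    · obtain ⟨x, hxM, hx1, b, hxb⟩ := hcase
      have hKM : K ≤ N.subgroupOf (MulAction.stabilizer G a) :=
        kernel_le_normal h2X K hKfpf _ x hxM hx1 b hxb
      refine ⟨?_, ?_⟩
      · intro b₁ c₁ hb₁ hc₁
        obtain ⟨k, hkK, hk⟩ := hKtrans ⟨b₁, (SubMulAction.mem_ofStabilizer_iff G a).mpr hb₁⟩
          ⟨c₁, (SubMulAction.mem_ofStabilizer_iff G a).mpr hc₁⟩
        refine ⟨(k : G), Subgroup.mem_subgroupOf.mp (hKM hkK), k.2, ?_⟩
        exact congrArg Subtype.val hk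
      · refine ⟨(x : G), Subgroup.mem_subgroupOf.mp hxM, fun h => hx1 (Subtype.ext h), (b : Ω),
          Ne.symm ((show (b : Ω) ≠ a from b.2)), x.2, congrArg Subtype.val hxb⟩
    · exfalso
      push Not at hcase
      have hB' : ∀ n ∈ N, n ≠ 1 → n • a = a → ∀ b : Ω, b ≠ a → n • b ≠ b := by
        intro n hn hn1 hna b hb hnb
        exact hcase ⟨n, hna⟩ (Subgroup.mem_subgroupOf.mpr hn) (fun h => hn1 (congrArg Subtype.val h))
          ⟨b, (SubMulAction.mem_ofStabilizer_iff G a).mpr hb⟩ (Subtype.ext hnb)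
      have h2N : ∀ n : N, ∀ b c : Ω, b ≠ c → n • b = b → n • c = c → n = 1 := by
        intro n b c hbc hnb hnc
        obtain ⟨m, hm, hmb⟩ := hNtrans b a
        by_contra hn1
        have hn' : m * (n : G) * m⁻¹ ∈ N := hNn.conj_mem _ n.2 m
        have hn'1 : m * (n : G) * m⁻¹ ≠ 1 := by
          intro he
          apply hn1
          apply Subtype.ext
          calc (n : G) = m⁻¹ * (m * n * m⁻¹) * m := by group
            _ = 1 := by rw [he]; group
        have hnb' : (n : G) • b = b := hnb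
        have hnc' : (n : G) • c = c := hnc
        have hn'a : (m * (n : G) * m⁻¹) • a = a := by
          rw [mul_smul, mul_smul, ← hmb, inv_smul_smul, hnb']
        have hmc : m • c ≠ a := by
          rw [← hmb]
          exact fun he => hbc (MulAction.injective m he).symm
        apply hB' _ hn' hn'1 hn'a (m • c) hmc
        rw [mul_smul, mul_smul, inv_smul_smul, hnc']
      obtain ⟨n₁, hn₁, hn₁1, hn₁a⟩ := hF4 a
      have hstabN : MulAction.stabilizer N a ≠ ⊥ := by
        intro h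
        have hmem : (⟨n₁, hn₁⟩ : N) ∈ MulAction.stabilizer N a := by
          rw [MulAction.mem_stabilizer_iff]
          exact hn₁a
        rw [h, Subgroup.mem_bot] at hmem
        exact hn₁1 (congrArg Subtype.val hmem)
      haveI : Finite N := inferInstance
      obtain ⟨KN, hKNn, hKNmem, hKNtrans⟩ := frobenius_action h2N a hstabN ⟨b', hb'⟩
      -- the image of KN in G is a regular normal subgroup
      have hRmem : ∀ r : G, r ∈ KN.map N.subtype ↔ r ∈ N ∧ (r = 1 ∨ ∀ c : Ω, r • c ≠ c) := by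
        intro r
        constructor
        · rintro ⟨k, hk, rfl⟩
          refine ⟨k.2, ?_⟩
          rcases (hKNmem k).mp hk with h | h
          · left; rw [h]; rfl
          · right; exact h
        · rintro ⟨hrN, hr⟩
          refine ⟨⟨r, hrN⟩, ?_, rfl⟩
          rw [SetLike.mem_coe, hKNmem]
          rcases hr with h | h
          · left; exact Subtype.ext h
          · right; exact h
      have hRn : (KN.map N.subtype).Normal := by
        refine ⟨fun r hr g => ?_⟩
        rw [hRmem] at hr ⊢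
        obtain ⟨hrN, hr⟩ := hr
        refine ⟨hNn.conj_mem r hrN g, ?_⟩
        rcases hr with h | h
        · left; rw [h]; group
        · right
          intro c hc
          apply h (g⁻¹ • c)
          rw [mul_smul, mul_smul] at hc
          exact smul_eq_iff_eq_inv_smul g |>.mp hc
      haveI hRpre : MulAction.IsPretransitive (KN.map N.subtype : Subgroup G) Ω := ⟨fun c d => by
        obtain ⟨k, hk, hkc⟩ := hKNtrans c d
        exact ⟨⟨(k : G), Subgroup.mem_map_of_mem _ hk⟩, hkc⟩⟩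
      obtain ⟨a₂, ha₂⟩ := hnoreg _ hRn hRpre
      apply ha₂
      rw [eq_bot_iff]
      intro r hr
      rw [MulAction.mem_stabilizer_iff] at hr
      rw [Subgroup.mem_bot]
      have hr' : (r : G) • a₂ = a₂ := hr
      rcases ((hRmem r).mp r.2).2 with h | h
      · exact Subtype.ext h
      · exact absurd hr' (h a₂)
  refine ⟨hNtrans, fun a b c hb hc => (hpoint a).1 b c hb hc, ?_⟩
  obtain ⟨n, hn, hn1, b, hab, hna, hnb⟩ := (hpoint a₀).2
  exact ⟨n, hn, hn1, a₀, b, hab, hna, hnb⟩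

/-- A non-trivial normal subgroup of a Zassenhaus group is itself a Zassenhaus group on the same set. -/
theorem result {G Ω : Type*} [Group G] [MulAction G Ω] [Finite Ω]
    (hZ : Cfsg.IsZassenhausGroup G Ω) (N : Subgroup G) [N.Normal] (hN : N ≠ ⊥) :
    Cfsg.IsZassenhausGroup N Ω := by
  classical
  obtain ⟨hNtrans, hNpt, n₀, hn₀, hn₀1, a₁, b₁, hab₁, hn₀a, hn₀b⟩ := key hZ N hN
  obtain ⟨hfin, h2t, hF3, hthird, ⟨a₀, b₀, hab₀⟩⟩ := basics hZ
  obtain ⟨hfaith, h2, h3, hfix, hnoreg⟩ := hZ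
  refine ⟨?_, ?_, ?_, ?_, ?_⟩
  · exact ⟨fun {n n'} h => Subtype.ext (FaithfulSMul.eq_of_smul_eq_smul (α := Ω) h)⟩
  · rw [MulAction.is_two_pretransitive_iff]
    intro a b c d hab hcd
    obtain ⟨n1, hn1, hn1a⟩ := hNtrans a c
    have hne : n1 • b ≠ c := by
      rw [← hn1a]
      exact fun h => hab (MulAction.injective n1 h).symm
    obtain ⟨n2, hn2, hn2c, hn2b⟩ := hNpt c (n1 • b) d hne (Ne.symm hcd)
    refine ⟨⟨n2 * n1, N.mul_mem hn2 hn1⟩, ?_, ?_⟩
    · change (n2 * n1) • a = c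
      rw [mul_smul, hn1a, hn2c]
    · change (n2 * n1) • b = d
      rw [mul_smul, hn2b]
  · intro g a b c hab hbc hac ha hb hc
    exact Subtype.ext (h3 g a b c hab hbc hac ha hb hc)
  · exact ⟨⟨n₀, hn₀⟩, fun h => hn₀1 (congrArg Subtype.val h), a₁, b₁, hab₁, hn₀a, hn₀b⟩
  · intro M hMn hMpre
    by_contra hreg
    push Not at hreg
    have hAN : M.map N.subtype ≤ N := Subgroup.map_subtype_le M
    have hAn : ∀ n ∈ N, ∀ x ∈ M.map N.subtype, n * x * n⁻¹ ∈ M.map N.subtype := by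
      rintro n hn x ⟨m, hm, rfl⟩
      exact ⟨⟨n, hn⟩ * m * ⟨n, hn⟩⁻¹, hMn.conj_mem m hm _, rfl⟩
    have hAt : ∀ c d : Ω, ∃ x ∈ M.map N.subtype, x • c = d := by
      intro c d
      obtain ⟨m, hm⟩ := MulAction.exists_smul_eq M c d
      exact ⟨((m : N) : G), Subgroup.mem_map_of_mem _ m.2, hm⟩
    have hAs : ∀ x ∈ M.map N.subtype, ∀ c : Ω, x • c = c → x = 1 := by
      rintro x ⟨m, hm, rfl⟩ c hc
      have hmem : (⟨m, hm⟩ : M) ∈ MulAction.stabilizer M c := by
        rw [MulAction.mem_stabilizer_iff]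
        exact hc
      rw [hreg c, Subgroup.mem_bot] at hmem
      have : m = 1 := congrArg Subtype.val hmem
      rw [this]
      rfl
    haveI := hfaith
    have hAnormal : (M.map N.subtype).Normal := by
      refine ⟨fun x hx g => ?_⟩
      have hle : (M.map N.subtype).map (MulAut.conj g).toMonoidHom ≤ M.map N.subtype := by
        apply regular_le N (M.map N.subtype) ((M.map N.subtype).map (MulAut.conj g).toMonoidHom)
          hNpt hAN ?_ hAn ?_ hAt hAs ?_ a₀
        · rintro y ⟨x, hx, rfl⟩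
          exact ‹N.Normal›.conj_mem x (hAN hx) g
        · rintro n hn y ⟨x, hx, rfl⟩
          refine ⟨(g⁻¹ * n * g) * x * (g⁻¹ * n * g)⁻¹, ?_, ?_⟩
          · apply hAn _ _ x hx
            have := ‹N.Normal›.conj_mem n hn g⁻¹
            simpa [mul_assoc] using this
          · simp only [MulEquiv.coe_toMonoidHom, MulAut.conj_apply]
            group
        · rintro y ⟨x, hx, rfl⟩ c hc
          simp only [MulEquiv.coe_toMonoidHom, MulAut.conj_apply] at hc ⊢
          have h1 : x • (g⁻¹ • c) = g⁻¹ • c := by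
            rw [mul_smul, mul_smul] at hc
            exact smul_eq_iff_eq_inv_smul g |>.mp hc
          rw [hAs x hx _ h1]
          group
      apply hle
      exact ⟨x, hx, rfl⟩
    haveI hApre : MulAction.IsPretransitive (M.map N.subtype : Subgroup G) Ω := ⟨fun c d => by
      obtain ⟨x, hx, hxc⟩ := hAt c d
      exact ⟨⟨x, hx⟩, hxc⟩⟩
    obtain ⟨a₂, ha₂⟩ := hnoreg _ hAnormal hApre
    apply ha₂
    rw [eq_bot_iff]
    intro r hr
    rw [MulAction.mem_stabilizer_iff] at hr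
    rw [Subgroup.mem_bot]
    exact Subtype.ext (hAs r r.2 a₂ hr)

end Cfsg.Agent.S0339
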