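import Mathlib
import Cfsg.Statements.S0739
import Cfsg.Agent.S0339
import Cfsg.Agent.Lib.Helper16.ZassOdd

set_option autoImplicit false
set_option maxHeartbeats 1000000
open Cfsg

namespace Cfsg.Agent.S0739

/-- In a finite Zassenhaus group whose two-point stabiliser `H = G_{a,b}` has odd order `d`, and which has no normal `q`-complement for any prime `q ∣ d`, `H` is cyclic, `C_G(H) = H`, and every element swapping `a` and `b` inverts each element of `H`. -/
theorem result {G Ω : Type*} [Group G] [Finite G] [MulAction G Ω] [Fintype Ω] (hZ : Cfsg.IsZassenhausGroup G Ω) {a b : Ω} (hab : a ≠ b) (hodd : Odd (Nat.card ↥(MulAction.stabilizer G a ⊓ MulAction.stabilizer G b))) (hnil : ∀ q : ℕ, q.Prime → q ∣ Nat.card ↥(MulAction.stabilizer G a ⊓ MulAction.stabilizer G b) → ¬ ∃ N : Subgroup G, N.Normal ∧ N.index = q ^ (Nat.card G).factorization q) : IsCyclic ↥(MulAction.stabilizer G a ⊓ MulAction.stabilizer G b) ∧ Subgroup.centralizer ((MulAction.stabilizer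 G a ⊓ MulAction.stabilizer G b : Subgroup G) : Set G) = MulAction.stabilizer G a ⊓ MulAction.stabilizer G b ∧ ∀ s : G, s • a = b → s • b = a → ∀ h ∈ MulAction.stabilizer G a ⊓ MulAction.stabilizer G b, s * h * s⁻¹ = h⁻¹ := by
  classical
  have hZ' := hZ
  obtain ⟨hfaith, h2, h3, hfix, hnoreg⟩ := hZ
  obtain ⟨-, h2t, hF3', hthird, -⟩ := Cfsg.Agent.S0339.basics hZ'
  have hba : b ≠ a := hab.symm
  -- the action of the point stabiliser on the remaining points
  have hΔne : ∀ x : SubMulAction.ofStabilizer G a, (x : Ω) ≠ a :=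
    fun x => (SubMulAction.mem_ofStabilizer_iff G a).mp x.2
  haveI hpre : MulAction.IsPretransitive (MulAction.stabilizer G a)
      (SubMulAction.ofStabilizer G a) := by
    refine ⟨fun x y => ?_⟩
    obtain ⟨g, hga, hgx⟩ := h2t (a := a) (b := (x : Ω)) (c := a) (d := (y : Ω))
      (hΔne x).symm (hΔne y).symm
    exact ⟨⟨g, MulAction.mem_stabilizer_iff.mpr hga⟩, Subtype.ext hgx⟩
  have hX2 : ∀ x : MulAction.stabilizer G a, ∀ y z : SubMulAction.ofStabilizer G a, y ≠ z →
      x • y = y → x • z = z → x = 1 := by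
    intro x y z hyz hy hz
    have hy' : (x : G) • (y : Ω) = y := congrArg Subtype.val hy
    have hz' : (x : G) • (z : Ω) = z := congrArg Subtype.val hz
    apply Subtype.ext
    exact h3 x a y z (hΔne y).symm (fun h => hyz (Subtype.ext h)) (hΔne z).symm
      (MulAction.mem_stabilizer_iff.mp x.2) hy' hz'
  obtain ⟨g₀, hg₀1, hg₀a, hg₀b⟩ := hF3' a b hab
  obtain ⟨c₀, hc₀a, hc₀b⟩ := hthird a b hab
  obtain ⟨b₀, hb₀⟩ : ∃ b₀ : SubMulAction.ofStabilizer G a, (b₀ : Ω) = b :=
    ⟨⟨b, (SubMulAction.mem_ofStabilizer_iff G a).mpr hba⟩, rfl⟩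
  have hstab : MulAction.stabilizer (MulAction.stabilizer G a) b₀ ≠ ⊥ := by
    intro hbot
    have hmem : (⟨g₀, MulAction.mem_stabilizer_iff.mpr hg₀a⟩ : MulAction.stabilizer G a) ∈
        MulAction.stabilizer (MulAction.stabilizer G a) b₀ := by
      rw [MulAction.mem_stabilizer_iff]
      apply Subtype.ext
      show g₀ • (b₀ : Ω) = b₀
      rw [hb₀]
      exact hg₀b
    rw [hbot, Subgroup.mem_bot] at hmem
    exact hg₀1 (congrArg Subtype.val hmem)
  have hΔex : ∃ c : SubMulAction.ofStabilizer G a, c ≠ b₀ :=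
    ⟨⟨c₀, (SubMulAction.mem_ofStabilizer_iff G a).mpr hc₀a⟩,
      fun h => hc₀b ((congrArg Subtype.val h).trans hb₀)⟩
  obtain ⟨Kf, hKn, hKmem, hKtr⟩ :=
    Cfsg.Agent.S0339.frobenius_action (X := MulAction.stabilizer G a)
      (Δ := SubMulAction.ofStabilizer G a) hX2 b₀ hstab hΔex
  -- the Frobenius kernel as a subgroup of `G`
  obtain ⟨F, hFdef⟩ : ∃ F : Subgroup G, F = Kf.map (MulAction.stabilizer G a).subtype := ⟨_, rfl⟩
  have hFmem : ∀ u : G, u ∈ F ↔ ∃ k ∈ Kf, (k : G) = u := by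
    intro u
    rw [hFdef, Subgroup.mem_map]
    rfl
  have hFle : F ≤ MulAction.stabilizer G a := by
    rw [hFdef]
    exact Subgroup.map_subtype_le Kf
  have hFa : ∀ u ∈ F, u • a = a := fun u hu => MulAction.mem_stabilizer_iff.mp (hFle hu)
  have hFn : (F.subgroupOf (MulAction.stabilizer G a)).Normal := by
    have h1 : F.subgroupOf (MulAction.stabilizer G a) = Kf := by
      rw [hFdef]
      exact Subgroup.comap_map_eq_self_of_injective (Subgroup.subtype_injective _) Kf
    rw [h1]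
    exact hKn
  have hFfree : ∀ u ∈ F, ∀ y : Ω, y ≠ a → u • y = y → u = 1 := by
    intro u hu y hya huy
    obtain ⟨k, hk, hku⟩ := (hFmem u).mp hu
    rcases (hKmem k).mp hk with h | h
    · rw [← hku, h]
      rfl
    · exfalso
      refine h ⟨y, (SubMulAction.mem_ofStabilizer_iff G a).mpr hya⟩ (Subtype.ext ?_)
      show (k : G) • y = y
      rw [hku]
      exact huy
  have hFtr : ∀ y z : Ω, y ≠ a → z ≠ a → ∃ u ∈ F, u • y = z := by
    intro y z hya hza
    obtain ⟨k, hk, hkyz⟩ := hKtr ⟨y, (SubMulAction.mem_ofStabilizer_iff G a).mpr hya⟩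
      ⟨z, (SubMulAction.mem_ofStabilizer_iff G a).mpr hza⟩
    exact ⟨k, (hFmem _).mpr ⟨k, hk, rfl⟩, congrArg Subtype.val hkyz⟩
  have hFuniq : ∀ u ∈ F, ∀ u' ∈ F, ∀ y : Ω, y ≠ a → u • y = u' • y → u = u' := by
    intro u hu u' hu' y hya h
    have h1 : (u'⁻¹ * u) • y = y := by rw [mul_smul, h, inv_smul_smul]
    have h2 := hFfree _ (F.mul_mem (F.inv_mem hu') hu) y hya h1
    exact (inv_mul_eq_one.mp h2).symm
  have hreg : ∀ y z : Ω, y ≠ a → z ≠ a → ∃! u : F, (u : G) • y = z := by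
    intro y z hya hza
    obtain ⟨u, hu, huy⟩ := hFtr y z hya hza
    refine ⟨⟨u, hu⟩, huy, ?_⟩
    intro u' hu'
    apply Subtype.ext
    exact hFuniq u'.1 u'.2 u hu y hya (hu'.trans huy.symm)
  have hFconj : ∀ g : G, g • a = a → ∀ u ∈ F, g * u * g⁻¹ ∈ F := by
    intro g hg u hu
    obtain ⟨k, hk, hku⟩ := (hFmem u).mp hu
    refine (hFmem _).mpr ⟨⟨g, MulAction.mem_stabilizer_iff.mpr hg⟩ * k *
      ⟨g, MulAction.mem_stabilizer_iff.mpr hg⟩⁻¹, hKn.conj_mem k hk _, ?_⟩
    rw [← hku]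
    rfl
  have hHmem : ∀ g : G, g ∈ MulAction.stabilizer G a ⊓ MulAction.stabilizer G b ↔
      g • a = a ∧ g • b = b := by
    intro g
    rw [Subgroup.mem_inf, MulAction.mem_stabilizer_iff, MulAction.mem_stabilizer_iff]
  have h3' : ∀ g ∈ MulAction.stabilizer G a ⊓ MulAction.stabilizer G b, ∀ c : Ω,
      c ≠ a → c ≠ b → g • c = c → g = 1 := by
    intro g hg c hca hcb hgc
    obtain ⟨hga, hgb⟩ := (hHmem g).mp hg
    exact h3 g a b c hab hcb.symm hca.symm hga hgb hgc
  have hH1 : MulAction.stabilizer G a ⊓ MulAction.stabilizer G b ≠ ⊥ := by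
    intro hbot
    have hmem : g₀ ∈ MulAction.stabilizer G a ⊓ MulAction.stabilizer G b :=
      (hHmem g₀).mpr ⟨hg₀a, hg₀b⟩
    rw [hbot, Subgroup.mem_bot] at hmem
    exact hg₀1 hmem
  have hF1 : F ≠ ⊥ := by
    obtain ⟨u, hu, hub⟩ := hFtr b c₀ hba hc₀a
    intro hbot
    rw [hbot, Subgroup.mem_bot] at hu
    rw [hu, one_smul] at hub
    exact hc₀b hub.symm
  have hHF : MulAction.stabilizer G a ⊓ MulAction.stabilizer G b ≤
      Subgroup.normalizer (F : Set G) := by
    intro h hh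
    have hha : h • a = a := ((hHmem h).mp hh).1
    have hia : h⁻¹ • a = a := by
      rw [inv_smul_eq_iff, hha]
    rw [Subgroup.mem_normalizer_iff]
    intro u
    constructor
    · intro hu
      exact hFconj h hha u hu
    · intro hu
      have h1 := hFconj h⁻¹ hia _ hu
      have e : h⁻¹ * (h * u * h⁻¹) * h⁻¹⁻¹ = u := by group
      rwa [e] at h1
  have hfpf : ∀ h ∈ MulAction.stabilizer G a ⊓ MulAction.stabilizer G b, h ≠ 1 →
      F ⊓ Subgroup.centralizer {h} = ⊥ := by
    intro h hh hh1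
    obtain ⟨hha, hhb⟩ := (hHmem h).mp hh
    rw [eq_bot_iff]
    intro u hu
    rw [Subgroup.mem_bot]
    obtain ⟨huF, huC⟩ := Subgroup.mem_inf.mp hu
    by_contra hu1
    have hcomm : h * u = u * h := Subgroup.mem_centralizer_iff.mp huC h (Set.mem_singleton h)
    have hc1 : u • b ≠ b := fun e => hu1 (hFfree u huF b hba e)
    have hc2 : u • b ≠ a := by
      intro e
      have e2 : u • b = u • a := by rw [e, hFa u huF]
      exact hba (MulAction.injective u e2)
    have hfixc : h • (u • b) = u • b := by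
      rw [← mul_smul, hcomm, mul_smul, hhb]
    exact hh1 (h3' h hh (u • b) hc2 hc1 hfixc)
  exact Cfsg.Agent.Lib.Helper16.ZassOdd.main hab
    (MulAction.stabilizer G a ⊓ MulAction.stabilizer G b) hHmem h3' hH1 hodd F hF1 hHF hfpf hnil

end Cfsg.Agent.S0739
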