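import Cfsg.Statements.S0740
import Mathlib
import Cfsg.Agent.S0339

set_option autoImplicit false
open Cfsg

namespace Cfsg.Agent.S0740

open MulAction

lemma ncard_fixed_le_two {G Ω : Type*} [Group G] [MulAction G Ω] [Finite Ω]
    (hF3 : ∀ g : G, ∀ a b c : Ω, a ≠ b → b ≠ c → a ≠ c → g • a = a → g • b = b → g • c = c → g = 1)
    (s : G) (hs : s ≠ 1) : (fixedBy Ω s).ncard ≤ 2 := by
  by_contra hcon
  push_neg at hcon
  rw [Set.two_lt_ncard_iff] at hcon
  obtain ⟨x, y, z, hx, hy, hz, hxy, hxz, hyz⟩ := hcon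
  exact hs (hF3 s x y z hxy hyz hxz hx hy hz)

lemma ncard_fixed_modEq {G Ω : Type*} [Group G] [MulAction G Ω] [Fintype Ω]
    (s : G) (hs : s ^ 2 = 1) : (fixedBy Ω s).ncard ≡ Fintype.card Ω [MOD 2] := by
  classical
  haveI : Fact (Nat.Prime 2) := ⟨Nat.prime_two⟩
  have h : (toPerm s : Equiv.Perm Ω) ^ 2 ^ 1 = 1 := by
    rw [pow_one]
    have e : (toPerm s : Equiv.Perm Ω) = MulAction.toPermHom G Ω s := rfl
    rw [e, ← map_pow, hs, map_one]
  have := Equiv.Perm.card_compl_support_modEq (p := 2) (n := 1) h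
  convert this using 2
  rw [Set.ncard_eq_toFinset_card']
  congr 1
  ext x
  simp [Equiv.Perm.mem_support, MulAction.mem_fixedBy]


/-- In a finite Zassenhaus group any two points `a ≠ b` are swapped by an involution; every such involution has exactly one fixed point when the degree is odd and 0 or 2 fixed points when the degree is even; and if the two-point stabiliser has even order, some such involution has exactly 2 fixed points. -/
theorem result {G Ω : Type*} [Group G] [Finite G] [MulAction G Ω] [Fintype Ω] (hZ : Cfsg.IsZassenhausGroup G Ω) {a b : Ω} (hab : a ≠ b) : (∃ s : G, orderOf s = 2 ∧ s • a = b ∧ s • b = a) ∧ (∀ s : G, orderOf s = 2 → s • a = b → s • b = a → (Odd (Fintype.card Ω) → Nat.card (MulAction.fixedBy Ω s) = 1) ∧ (Even (Fintype.card Ω) → Nat.card (MulAction.fixedBy Ω s) = 0 ∨ Nat.card (MulAction.fixedBy Ω s) = 2)) ∧ (Even (Fintype.card Ω) → Even (Nat.card ↥(MulAction.stabilizer G a ⊓ MulAction.stabilizer G b)) → ∃ s : G, orderOf s = 2 ∧ s • a =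 b ∧ s • b = a ∧ Nat.card (MulAction.fixedBy Ω s) = 2) := by
  obtain ⟨hfin, h2t, hF3', hthird, -⟩ := Cfsg.Agent.S0339.basics hZ
  obtain ⟨hfaith, h2, hF3, hfix, hnoreg⟩ := hZ
  haveI := hfaith
  haveI : Fact (Nat.Prime 2) := ⟨Nat.prime_two⟩
  -- conjugation of an involution moving c to d
  have hconj : ∀ t : G, orderOf t = 2 → ∀ c : Ω, t • c ≠ c →
      ∃ s : G, orderOf s = 2 ∧ s • a = b ∧ s • b = a ∧ ∃ g₁ : G, s = g₁ * t * g₁⁻¹ := by
    intro t ht c hc
    have ht2 : t ^ 2 = 1 := by rw [← ht]; exact pow_orderOf_eq_one t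
    have htd : t • (t • c) = c := by rw [← mul_smul, ← sq, ht2, one_smul]
    obtain ⟨g₁, hg1, hg2⟩ := h2t (Ne.symm hc) hab
    have hg1' : g₁⁻¹ • a = c := by rw [inv_smul_eq_iff, hg1]
    have hg2' : g₁⁻¹ • b = t • c := by rw [inv_smul_eq_iff, hg2]
    refine ⟨g₁ * t * g₁⁻¹, ?_, ?_, ?_, g₁, rfl⟩
    · apply orderOf_eq_prime
      · rw [conj_pow, ht2, mul_one, mul_inv_cancel]
      · intro h
        have : t = 1 := by
          calc t = g₁⁻¹ * (g₁ * t * g₁⁻¹) * g₁ := by group
            _ = 1 := by rw [h]; group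
        rw [this, orderOf_one] at ht
        omega
    · rw [mul_smul, mul_smul, hg1', hg2]
    · rw [mul_smul, mul_smul, hg2', htd, hg1]
  have hmoved : ∀ t : G, t ≠ 1 → ∃ c : Ω, t • c ≠ c := by
    intro t ht
    by_contra hcon
    push_neg at hcon
    exact ht (FaithfulSMul.eq_of_smul_eq_smul (α := Ω) (fun c => by rw [hcon c, one_smul]))
  have hcardfix : ∀ s : G, Nat.card (fixedBy Ω s) = (fixedBy Ω s).ncard := fun s => rfl
  refine ⟨?_, ?_, ?_⟩
  · obtain ⟨g, hga, hgb⟩ := h2t hab (Ne.symm hab)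
    have hpow : ∀ k : ℕ, (g ^ (2 * k)) • a = a ∧ (g ^ (2 * k + 1)) • a = b := by
      intro k
      induction k with
      | zero => simp [hga]
      | succ k ih =>
        have e1 : g ^ (2 * (k + 1)) = g * g ^ (2 * k + 1) := by rw [← pow_succ']; rfl
        have h1 : (g ^ (2 * (k + 1))) • a = a := by rw [e1, mul_smul, ih.2, hgb]
        refine ⟨h1, ?_⟩
        have e2 : g ^ (2 * (k + 1) + 1) = g * g ^ (2 * (k + 1)) := by rw [← pow_succ']
        rw [e2, mul_smul, h1, hga]
    have heven : 2 ∣ orderOf g := by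
      by_contra hodd
      have : Odd (orderOf g) := Nat.odd_iff.2 (by omega)
      obtain ⟨k, hk⟩ := this
      have := (hpow k).2
      rw [← hk, pow_orderOf_eq_one, one_smul] at this
      exact hab this
    have h2G : 2 ∣ Nat.card G := heven.trans (orderOf_dvd_natCard g)
    obtain ⟨t, ht⟩ := exists_prime_orderOf_dvd_card' (G := G) 2 h2G
    have ht1 : t ≠ 1 := by
      intro h
      rw [h, orderOf_one] at ht
      omega
    obtain ⟨c, hc⟩ := hmoved t ht1
    obtain ⟨s, hs, hsa, hsb, -⟩ := hconj t ht c hc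
    exact ⟨s, hs, hsa, hsb⟩
  · intro s hs hsa hsb
    have hs2 : s ^ 2 = 1 := by rw [← hs]; exact pow_orderOf_eq_one s
    have hs1 : s ≠ 1 := by
      intro h
      rw [h, orderOf_one] at hs
      omega
    have hle := ncard_fixed_le_two hF3 s hs1
    have hmod := ncard_fixed_modEq (Ω := Ω) s hs2
    rw [hcardfix]
    constructor
    · intro hodd
      have : Fintype.card Ω % 2 = 1 := Nat.odd_iff.1 hodd
      unfold Nat.ModEq at hmod
      omega
    · intro hev
      have : Fintype.card Ω % 2 = 0 := Nat.even_iff.1 hev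
      unfold Nat.ModEq at hmod
      omega
  · intro _ hev
    obtain ⟨t, ht⟩ := exists_prime_orderOf_dvd_card'
      (G := ↥(stabilizer G a ⊓ stabilizer G b)) 2 hev.two_dvd
    have htG : orderOf (t : G) = 2 := by rw [Subgroup.orderOf_coe, ht]
    have ht1 : (t : G) ≠ 1 := by
      intro h
      rw [h, orderOf_one] at htG
      omega
    have hta : (t : G) • a = a := (Subgroup.mem_inf.1 t.2).1
    have htb : (t : G) • b = b := (Subgroup.mem_inf.1 t.2).2
    obtain ⟨c, hca, hcb⟩ := hthird a b hab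
    have htc : (t : G) • c ≠ c := by
      intro h
      exact ht1 (hF3 _ a b c hab (Ne.symm hcb) (Ne.symm hca) hta htb h)
    obtain ⟨s, hs, hsa, hsb, g₁, hsg⟩ := hconj _ htG c htc
    refine ⟨s, hs, hsa, hsb, ?_⟩
    have hs1 : s ≠ 1 := by
      intro h
      rw [h, orderOf_one] at hs
      omega
    have hle := ncard_fixed_le_two hF3 s hs1
    rw [hcardfix]
    apply le_antisymm hle
    have h1 : g₁ • a ∈ fixedBy Ω s := by
      rw [mem_fixedBy, hsg, mul_smul, mul_smul, inv_smul_smul, hta]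
    have h2' : g₁ • b ∈ fixedBy Ω s := by
      rw [mem_fixedBy, hsg, mul_smul, mul_smul, inv_smul_smul, htb]
    have hne : g₁ • a ≠ g₁ • b := fun h => hab (MulAction.injective g₁ h)
    have : 1 < (fixedBy Ω s).ncard := (Set.one_lt_ncard_iff).2 ⟨_, _, h1, h2', hne⟩
    omega

end Cfsg.Agent.S0740
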