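import Mathlib
import Cfsg.Statements.S0744

set_option autoImplicit false
open Cfsg

namespace Cfsg.Agent.S0744

/-- Lemma D: if all stabilizers of points of an invariant finite set `O` have order `m`, then
`|K|` divides `|O| * m`. -/
theorem card_dvd_ncard_mul {K : Type*} [Group K] [Finite K] {α : Type*} [MulAction K α] [Finite α]
    (O : Set α) (hO : ∀ g : K, ∀ y ∈ O, g • y ∈ O) (m : ℕ)
    (hm : ∀ y ∈ O, Nat.card (MulAction.stabilizer K y) = m) :
    Nat.card K ∣ O.ncard * m := by
  classical
  let S : SubMulAction K α := ⟨O, fun g y hy => hO g y hy⟩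
  have e1 : Nat.card ↥S = O.ncard := Nat.card_coe_set_eq O
  -- decompose `S` into orbits
  have e2 : Nat.card ↥S = Nat.card (Σ ω : MulAction.orbitRel.Quotient K ↥S, MulAction.orbit K ω.out) :=
    Nat.card_congr (MulAction.selfEquivSigmaOrbits K ↥S)
  have : Fintype (MulAction.orbitRel.Quotient K ↥S) := Fintype.ofFinite _
  rw [Nat.card_sigma] at e2
  have e3 : ∀ ω : MulAction.orbitRel.Quotient K ↥S,
      Nat.card (MulAction.orbit K ω.out) * m = Nat.card K := by
    intro ω
    have h1 := Subgroup.card_mul_index (MulAction.stabilizer K ω.out)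
    have h2 : Nat.card (MulAction.stabilizer K ω.out) = m := by
      rw [SubMulAction.stabilizer_of_subMul]
      exact hm _ ω.out.2
    rw [MulAction.index_stabilizer, h2] at h1
    rw [Nat.card_coe_set_eq, mul_comm]
    exact h1
  rw [← e1, e2, Finset.sum_mul, Finset.sum_congr rfl (fun ω _ => e3 ω), Finset.sum_const]
  exact Dvd.intro_left _ (by rw [smul_eq_mul])


/-- stabilizers inside a point stabilizer -/
theorem card_stabilizer_stabilizer {H : Type*} [Group H] {α : Type*} [MulAction H α] (b y : α) :
    Nat.card (MulAction.stabilizer (MulAction.stabilizer H b) y) =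
      Nat.card ↥(MulAction.stabilizer H b ⊓ MulAction.stabilizer H y) := by
  have : (MulAction.stabilizer (MulAction.stabilizer H b) y).map (MulAction.stabilizer H b).subtype
      = MulAction.stabilizer H b ⊓ MulAction.stabilizer H y := by
    ext g
    constructor
    · rintro ⟨k, hk, rfl⟩
      exact ⟨k.2, hk⟩
    · rintro ⟨h1, h2⟩
      exact ⟨⟨g, h1⟩, h2, rfl⟩
  rw [← this, Subgroup.card_map_of_injective (Subgroup.subtype_injective _)]

/-- Lemma J1: equal point-stabilizer orders `l` and equal two-point-stabilizer orders `m ≠ l` on an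
invariant set force transitivity on that set. -/
theorem trans_of_stabilizer_cards {H : Type*} [Group H] [Finite H] {α : Type*} [MulAction H α]
    [Finite α] (Y : Set α) (hY : ∀ g : H, ∀ y ∈ Y, g • y ∈ Y) (l m : ℕ) (hlm : l ≠ m)
    (hl : ∀ a ∈ Y, Nat.card (MulAction.stabilizer H a) = l)
    (hm : ∀ a ∈ Y, ∀ b ∈ Y, a ≠ b →
      Nat.card ↥(MulAction.stabilizer H a ⊓ MulAction.stabilizer H b) = m)
    (b c : α) (hb : b ∈ Y) (hc : c ∈ Y) : c ∈ MulAction.orbit H b := by
  classical
  by_contra hcb
  have hbc : b ≠ c := fun e => hcb (e ▸ MulAction.mem_orbit_self b)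
  have hborb : b ∉ MulAction.orbit H c := fun h => hcb (by
    rw [MulAction.orbit_eq_iff.mpr h]; exact MulAction.mem_orbit_self c)
  -- orbit sizes
  have hlpos : 0 < l := by
    rw [← hl b hb]; exact Nat.card_pos
  have hob := Subgroup.card_mul_index (MulAction.stabilizer H b)
  have hoc := Subgroup.card_mul_index (MulAction.stabilizer H c)
  rw [MulAction.index_stabilizer, hl b hb] at hob
  rw [MulAction.index_stabilizer, hl c hc] at hoc
  have ht : (MulAction.orbit H c).ncard = (MulAction.orbit H b).ncard :=
    Nat.eq_of_mul_eq_mul_left hlpos (hoc.trans hob.symm)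
  -- the two invariant sets
  have hKcard : Nat.card (MulAction.stabilizer H b) = l := hl b hb
  have hstab : ∀ y ∈ Y, y ≠ b → Nat.card (MulAction.stabilizer (MulAction.stabilizer H b) y) = m := by
    intro y hy hyb
    rw [card_stabilizer_stabilizer]
    exact hm b hb y hy (Ne.symm hyb)
  have h1 := card_dvd_ncard_mul (K := MulAction.stabilizer H b) (MulAction.orbit H c)
    (fun g y hy => by
      show (g : H) • y ∈ MulAction.orbit H c
      exact MulAction.mem_orbit_of_mem_orbit (g : H) hy) m
    (fun y hy => by
      apply hstab y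
      · obtain ⟨g, rfl⟩ := hy
        exact hY g c hc
      · intro e; exact hborb (e ▸ hy))
  have h2 := card_dvd_ncard_mul (K := MulAction.stabilizer H b) (MulAction.orbit H b \ {b})
    (fun g y hy => by
      refine ⟨MulAction.mem_orbit_of_mem_orbit (g : H) hy.1, ?_⟩
      intro e
      rw [Set.mem_singleton_iff] at e
      apply hy.2
      rw [Set.mem_singleton_iff]
      have hg : (g : H) • b = b := g.2
      have : (g : H) • y = (g : H) • b := by rw [hg]; exact e
      exact smul_left_cancel _ this) m
    (fun y hy => by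
      apply hstab y
      · obtain ⟨g, rfl⟩ := hy.1
        exact hY g b hb
      · intro e; exact hy.2 (by rw [Set.mem_singleton_iff]; exact e))
  rw [hKcard] at h1 h2
  rw [Set.ncard_sdiff_singleton_of_mem (MulAction.mem_orbit_self b), ← ht] at h2
  have htpos : 0 < (MulAction.orbit H c).ncard := by
    rw [Set.ncard_pos (Set.toFinite _)]
    exact ⟨c, MulAction.mem_orbit_self c⟩
  have h3 : l ∣ m := by
    have e : (MulAction.orbit H c).ncard * m =
        ((MulAction.orbit H c).ncard - 1) * m + m := by
      obtain ⟨t, ht'⟩ : ∃ t, (MulAction.orbit H c).ncard = t + 1 := ⟨_, (Nat.succ_pred_eq_of_pos htpos).symm⟩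
      rw [ht']; simp [Nat.succ_mul]
    rw [e] at h1
    exact (Nat.dvd_add_right h2).mp h1
  have h4 : m ∣ l := by
    rw [← hm b hb c hc hbc, ← hl b hb]
    exact Subgroup.card_dvd_of_le inf_le_left
  exact hlm (Nat.dvd_antisymm h3 h4)


/-- Lemma T: if pointwise stabilizers of small sets are transitive on the complement, the group is
multiply transitive. -/
theorem multTrans_of_fixing {α : Type*} [DecidableEq α] [Fintype α] (G : Subgroup (Equiv.Perm α)) (j : ℕ)
    (H : ∀ w : Finset α, w.card < j → ∀ b c, b ∉ w → c ∉ w →
      ∃ g ∈ G, (∀ a ∈ w, g a = a) ∧ g b = c) :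
    MulAction.IsMultiplyPretransitive G α j := by
  have key : ∀ i, i ≤ j → ∀ x y : Fin i → α, Function.Injective x → Function.Injective y →
      ∃ g ∈ G, ∀ r, g (x r) = y r := by
    intro i
    induction i with
    | zero => intro _ x y _ _; exact ⟨1, G.one_mem, fun r => r.elim0⟩
    | succ i ih =>
      intro hi x y hx hy
      obtain ⟨g₁, hg₁, hg₁xy⟩ := ih (by omega) (fun r => x r.succ) (fun r => y r.succ)
        (fun a b hab => Fin.succ_injective _ (hx hab)) (fun a b hab => Fin.succ_injective _ (hy hab))
      set w : Finset α := Finset.univ.image (fun r : Fin i => y r.succ) with hw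
      have hwcard : w.card < j := by
        have : w.card ≤ i := by
          calc w.card ≤ (Finset.univ : Finset (Fin i)).card := Finset.card_image_le
            _ = i := by simp
        omega
      have hb : g₁ (x 0) ∉ w := by
        intro hmem
        rw [hw, Finset.mem_image] at hmem
        obtain ⟨r, -, hr⟩ := hmem
        rw [← hg₁xy r] at hr
        have := hx (g₁.injective hr)
        exact Fin.succ_ne_zero r this
      have hc : y 0 ∉ w := by
        intro hmem
        rw [hw, Finset.mem_image] at hmem
        obtain ⟨r, -, hr⟩ := hmem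
        exact Fin.succ_ne_zero r (hy hr)
      obtain ⟨h, hh, hhw, hhb⟩ := H w hwcard _ _ hb hc
      refine ⟨h * g₁, G.mul_mem hh hg₁, ?_⟩
      intro r
      refine Fin.cases ?_ (fun s => ?_) r
      · simpa using hhb
      · rw [Equiv.Perm.mul_apply, hg₁xy s]
        exact hhw _ (Finset.mem_image.mpr ⟨s, Finset.mem_univ _, rfl⟩)
  refine ⟨fun x y => ?_⟩
  obtain ⟨g, hg, hgxy⟩ := key j le_rfl x y x.injective y.injective
  refine ⟨⟨g, hg⟩, ?_⟩
  ext r
  exact hgxy r


/-- Claim C': for a `(k-2)`-set `u`, the pointwise stabilizer of `u` is transitive off `u`. -/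
theorem fixing_trans {α : Type*} [Fintype α] [DecidableEq α] (G : Subgroup (Equiv.Perm α)) {k : ℕ}
    (hk : 1 < k) (l m : ℕ) (hl : 1 < l)
    (hkm1 : ∀ s : Finset α, s.card = k - 1 → Nat.card (fixingSubgroup G (s : Set α)) = l)
    (hkm : ∀ s : Finset α, s.card = k → Nat.card (fixingSubgroup G (s : Set α)) = m)
    (u : Finset α) (hu : u.card = k - 2) (b c : α) (hb : b ∉ u) (hc : c ∉ u) :
    ∃ g ∈ G, (∀ a ∈ u, g a = a) ∧ g b = c := by
  classical
  set H : Subgroup ↥G := fixingSubgroup G (u : Set α) with hH
  -- invariance of the complement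
  have hfixu : ∀ g : H, ∀ a ∈ u, (g : ↥G) • a = a := by
    intro g a ha
    exact (mem_fixingSubgroup_iff _).mp g.2 a (by simpa using ha)
  have hY : ∀ g : H, ∀ y ∈ ((u : Set α)ᶜ), g • y ∈ ((u : Set α)ᶜ) := by
    intro g y hy hmem
    apply hy
    have h1 := hfixu g _ (by simpa using hmem)
    have h2 : (g : ↥G) • ((g : ↥G) • y) = (g : ↥G) • y := h1
    have h3 := smul_left_cancel _ h2
    show y ∈ (u : Set α)
    rw [← h3]; exact hmem
  -- stabilizers
  have hstab1 : ∀ a : α, (MulAction.stabilizer H a).map H.subtype =
      fixingSubgroup G ((insert a u : Finset α) : Set α) := by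
    intro a
    ext g
    rw [mem_fixingSubgroup_iff]
    constructor
    · rintro ⟨h, hh, rfl⟩ y hy
      simp only [Finset.coe_insert, Set.mem_insert_iff, Finset.mem_coe] at hy
      rcases hy with rfl | hy
      · exact hh
      · exact hfixu h y hy
    · intro hg
      have hgH : g ∈ H := by
        rw [hH, mem_fixingSubgroup_iff]
        intro y hy
        exact hg y (by simp only [Finset.coe_insert, Set.mem_insert_iff]; exact Or.inr hy)
      exact ⟨⟨g, hgH⟩, hg a (by simp), rfl⟩
  have hstab2 : ∀ a b' : α, (MulAction.stabilizer H a ⊓ MulAction.stabilizer H b').map H.subtype =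
      fixingSubgroup G ((insert a (insert b' u) : Finset α) : Set α) := by
    intro a b'
    ext g
    rw [mem_fixingSubgroup_iff]
    constructor
    · rintro ⟨h, ⟨hh1, hh2⟩, rfl⟩ y hy
      simp only [Finset.coe_insert, Set.mem_insert_iff, Finset.mem_coe] at hy
      rcases hy with rfl | rfl | hy
      · exact hh1
      · exact hh2
      · exact hfixu h y hy
    · intro hg
      have hgH : g ∈ H := by
        rw [hH, mem_fixingSubgroup_iff]
        intro y hy
        exact hg y (by
          simp only [Finset.coe_insert, Set.mem_insert_iff]; exact Or.inr (Or.inr hy))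
      exact ⟨⟨g, hgH⟩, ⟨hg a (by simp), hg b' (by simp)⟩, rfl⟩
  have hcard1 : ∀ a ∈ ((u : Set α)ᶜ), Nat.card (MulAction.stabilizer H a) = l := by
    intro a ha
    rw [← Subgroup.card_map_of_injective (Subgroup.subtype_injective H), hstab1]
    apply hkm1
    rw [Finset.card_insert_of_notMem (by simpa using ha), hu]
    omega
  have hcard2 : ∀ a ∈ ((u : Set α)ᶜ), ∀ b' ∈ ((u : Set α)ᶜ), a ≠ b' →
      Nat.card ↥(MulAction.stabilizer H a ⊓ MulAction.stabilizer H b') = m := by
    intro a ha b' hb' hab'
    rw [← Subgroup.card_map_of_injective (Subgroup.subtype_injective H), hstab2]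
    apply hkm
    rw [Finset.card_insert_of_notMem, Finset.card_insert_of_notMem (by simpa using hb'), hu]
    · omega
    · simp only [Finset.mem_insert, not_or]
      exact ⟨hab', by simpa using ha⟩
  -- `l ≠ m`
  have hlm : l ≠ m := by
    intro hlm
    have hF1 : fixingSubgroup G ((insert b u : Finset α) : Set α) = ⊥ := by
      rw [eq_bot_iff]
      intro g hg
      rw [Subgroup.mem_bot]
      apply Subtype.ext
      ext e
      show (g : Equiv.Perm α) e = e
      by_cases he : e ∈ insert b u
      · exact (mem_fixingSubgroup_iff _).mp hg e (by simpa using he)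
      · have hle : fixingSubgroup G ((insert e (insert b u) : Finset α) : Set α) ≤
            fixingSubgroup G ((insert b u : Finset α) : Set α) := by
          apply fixingSubgroup_antitone
          intro y hy
          simp only [Finset.coe_insert, Set.mem_insert_iff] at hy ⊢
          exact Or.inr hy
        have hc1 : Nat.card (fixingSubgroup G ((insert b u : Finset α) : Set α)) = l := by
          apply hkm1
          rw [Finset.card_insert_of_notMem hb, hu]; omega
        have hc2 : Nat.card (fixingSubgroup G ((insert e (insert b u) : Finset α) : Set α)) = m := by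
          apply hkm
          rw [Finset.card_insert_of_notMem he, Finset.card_insert_of_notMem hb, hu]; omega
        have heq := Subgroup.eq_of_le_of_card_ge hle (by rw [hc1, hc2, hlm])
        rw [← heq] at hg
        exact (mem_fixingSubgroup_iff _).mp hg e (by simp)
    have hc1 : Nat.card (fixingSubgroup G ((insert b u : Finset α) : Set α)) = l := by
      apply hkm1
      rw [Finset.card_insert_of_notMem hb, hu]; omega
    rw [hF1, Subgroup.card_bot] at hc1
    omega
  have := trans_of_stabilizer_cards (H := H) ((u : Set α)ᶜ) hY l m hlm hcard1 hcard2 b c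
    (by simpa using hb) (by simpa using hc)
  obtain ⟨h, hh⟩ := this
  refine ⟨((h : ↥G) : Equiv.Perm α), (h : ↥G).2, fun a ha => hfixu h a ha, hh⟩

/-- If for some `k > 1` the pointwise stabilisers of all `(k-1)`-subsets have the same order `> 1` and those of all `k`-subsets have the same order, then the group is `(k-1)`-transitive. -/
theorem result {α : Type*} [Fintype α] [DecidableEq α] (G : Subgroup (Equiv.Perm α)) {k : ℕ} (hk : 1 < k) (hkn : k ≤ Fintype.card α) (l m : ℕ) (hl : 1 < l) (hkm1 : ∀ s : Finset α, s.card = k - 1 → Nat.card (fixingSubgroup G (s : Set α)) = l) (hkm : ∀ s : Finset α, s.card = k → Nat.card (fixingSubgroup G (s : Set α)) = m) : MulAction.IsMultiplyPretransitive G α (k - 1) := by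
  classical
  apply multTrans_of_fixing G (k - 1)
  intro w hw b c hb hc
  by_cases hbc : b = c
  · subst hbc
    exact ⟨1, G.one_mem, fun a _ => rfl, rfl⟩
  -- extend `w` to a `(k-2)`-set avoiding `b, c`
  have hcard : (Finset.univ \ {b, c} : Finset α).card = Fintype.card α - 2 := by
    rw [Finset.card_sdiff_of_subset (Finset.subset_univ _), Finset.card_univ, Finset.card_pair hbc]
  obtain ⟨u, hwu, hu, hucard⟩ := Finset.exists_subsuperset_card_eq (s := w)
    (t := Finset.univ \ {b, c}) (n := k - 2)
    (by
      intro y hy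
      simp only [Finset.mem_sdiff, Finset.mem_univ, Finset.mem_insert, Finset.mem_singleton,
        true_and, not_or]
      exact ⟨fun e => hb (e ▸ hy), fun e => hc (e ▸ hy)⟩)
    (by omega) (by rw [hcard]; omega)
  have hbu : b ∉ u := fun h => by
    have := hu h
    simp at this
  have hcu : c ∉ u := fun h => by
    have := hu h
    simp at this
  obtain ⟨g, hg, hgu, hgb⟩ := fixing_trans G hk l m hl hkm1 hkm u hucard b c hbu hcu
  exact ⟨g, hg, fun a ha => hgu a (hwu ha), hgb⟩

end Cfsg.Agent.S0744
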