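import Cfsg.Statements.S0242
import Mathlib

set_option autoImplicit false
open Cfsg

namespace Cfsg.Agent.S0242

open Matrix

/-- a diagonal matrix with prescribed determinant -/
noncomputable def diagUnit {F : Type*} [Field F] {n : ℕ} (i₀ : Fin n) (u : Fˣ) : GL (Fin n) F :=
  Matrix.GeneralLinearGroup.mkOfDetNeZero
    (Matrix.diagonal (fun k => if k = i₀ then (u : F) else 1)) (by
      rw [Matrix.det_diagonal, Finset.prod_ite_eq' Finset.univ i₀ (fun _ => (u : F))]
      simp)

theorem det_diagUnit {F : Type*} [Field F] {n : ℕ} (i₀ : Fin n) (u : Fˣ) :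
    Matrix.GeneralLinearGroup.det (diagUnit i₀ u) = u := by
  apply Units.ext
  show Matrix.det (Matrix.diagonal (fun k => if k = i₀ then (u : F) else 1)) = u
  rw [Matrix.det_diagonal, Finset.prod_ite_eq' Finset.univ i₀ (fun _ => (u : F))]
  simp

theorem card_GL_eq {F : Type*} [Field F] [Fintype F] (n : ℕ) (hn : 1 ≤ n) :
    Nat.card (GL (Fin n) F) = Nat.card (Matrix.SpecialLinearGroup (Fin n) F) * (Fintype.card F - 1) := by
  classical
  have hsurj : Function.Surjective (Matrix.GeneralLinearGroup.det : GL (Fin n) F →* Fˣ) :=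
    fun u => ⟨diagUnit ⟨0, hn⟩ u, det_diagUnit _ u⟩
  have h1 := Subgroup.card_eq_card_quotient_mul_card_subgroup
    (Matrix.GeneralLinearGroup.det : GL (Fin n) F →* Fˣ).ker
  have h2 : Nat.card (GL (Fin n) F ⧸ (Matrix.GeneralLinearGroup.det : GL (Fin n) F →* Fˣ).ker) =
      Nat.card Fˣ :=
    Nat.card_congr (QuotientGroup.quotientKerEquivOfSurjective _ hsurj).toEquiv
  have h3 : Nat.card ((Matrix.GeneralLinearGroup.det : GL (Fin n) F →* Fˣ).ker) =
      Nat.card (Matrix.SpecialLinearGroup (Fin n) F) := by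
    rw [Nat.card_congr (Equiv.ofInjective _ (Matrix.SpecialLinearGroup.toGL_injective (n := Fin n) (R := F)))]
    apply Nat.card_congr
    apply Equiv.setCongr
    rw [Matrix.SpecialLinearGroup.range_toGL]
    ext x
    simp [MonoidHom.mem_ker]
  have h4 : Nat.card Fˣ = Fintype.card F - 1 := by
    rw [Nat.card_eq_fintype_card, Fintype.card_units]
  rw [h1, h2, h3, h4, mul_comm]

/-- Order of the special linear group: (q - 1) |SL_n(q)| = prod_{i<n} (q^n - q^i) = |GL_n(q)|, for n at least 1. -/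
theorem result {F : Type*} [Field F] [Fintype F] {q : ℕ} (hF : Fintype.card F = q) (n : ℕ) (hn : 1 ≤ n) : (q - 1) * Nat.card (Matrix.SpecialLinearGroup (Fin n) F) = ∏ i : Fin n, (q ^ n - q ^ (i : ℕ)) := by
  subst hF
  rw [← Matrix.card_GL_field, card_GL_eq n hn, mul_comm]

end Cfsg.Agent.S0242
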