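import Cfsg.Statements.S0243
import Cfsg.Agent.S0242
import Mathlib

set_option autoImplicit false
open Cfsg

namespace Cfsg.Agent.S0243

open Matrix

theorem card_center_SL {F : Type*} [Field F] [Fintype F] (n : ℕ) (hn : 1 ≤ n) :
    Nat.card (Subgroup.center (Matrix.SpecialLinearGroup (Fin n) F)) = Nat.gcd n (Fintype.card F - 1) := by
  classical
  have hmax : max (Fintype.card (Fin n)) 1 = n := by
    rw [Fintype.card_fin]; exact max_eq_left hn
  rw [Nat.card_congr (Matrix.SpecialLinearGroup.center_equiv_rootsOfUnity (n := Fin n) (R := F)).toEquiv,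
    hmax]
  have h1 : (rootsOfUnity n F : Subgroup Fˣ) = (powMonoidHom n : Fˣ →* Fˣ).ker := by
    ext x
    simp [MonoidHom.mem_ker]
  rw [h1, IsCyclic.card_powMonoidHom_ker, Nat.card_eq_fintype_card, Fintype.card_units, Nat.gcd_comm]

/-- Order of PSL_n(q): gcd(n, q-1) (q-1) |PSL_n(q)| = prod_{i<n} (q^n - q^i). -/
theorem result {F : Type*} [Field F] [Fintype F] {q : ℕ} (hF : Fintype.card F = q) (n : ℕ) (hn : 2 ≤ n) : Nat.gcd n (q - 1) * ((q - 1) * Nat.card (Matrix.ProjectiveSpecialLinearGroup (Fin n) F)) = ∏ i : Fin n, (q ^ n - q ^ (i : ℕ)) := by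
  have hn1 : 1 ≤ n := by omega
  rw [← Cfsg.Agent.S0242.result hF n hn1]
  have h1 := Subgroup.card_eq_card_quotient_mul_card_subgroup
    (Subgroup.center (Matrix.SpecialLinearGroup (Fin n) F))
  have h2 := card_center_SL (F := F) n hn1
  rw [hF] at h2
  rw [h1, h2]
  show _ = (q - 1) * (Nat.card (Matrix.ProjectiveSpecialLinearGroup (Fin n) F) * _)
  ring

end Cfsg.Agent.S0243
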