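import Cfsg.Statements.S2758
import Cfsg.Agent.Lib.Helper17.DihedralInvolved2
open Cfsg.Agent.Lib.Helper17

set_option autoImplicit false
open Cfsg

namespace Cfsg.Agent.S2758

/-- For an odd prime p and a finite group G the following are equivalent: the dihedral group of order 2p is involved in G; some element of 2-power order normalizes but does not centralize some p-subgroup of G; some element of 2-power order inverts some nonidentity element of p-power order. -/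
theorem result {G : Type*} [Group G] [Finite G] {p : ℕ} [Fact p.Prime] (hp : p ≠ 2) : (Cfsg.Involves (DihedralGroup p) G ↔ ∃ (x : G) (P : Subgroup G), (∃ k : ℕ, orderOf x = 2 ^ k) ∧ IsPGroup p ↥P ∧ x ∈ Subgroup.normalizer (P : Set G) ∧ x ∉ Subgroup.centralizer (P : Set G)) ∧ (Cfsg.Involves (DihedralGroup p) G ↔ ∃ x y : G, (∃ k : ℕ, orderOf x = 2 ^ k) ∧ (∃ k : ℕ, orderOf y = p ^ k) ∧ y ≠ 1 ∧ x * y * x⁻¹ = y⁻¹) := by
  have hAB : Cfsg.Involves (DihedralGroup p) G → ∃ (x : G) (P : Subgroup G), (∃ k : ℕ, orderOf x = 2 ^ k) ∧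
      IsPGroup p ↥P ∧ x ∈ Subgroup.normalizer (P : Set G) ∧ x ∉ Subgroup.centralizer (P : Set G) := by
    rintro ⟨K, R, hn, ⟨e⟩⟩
    haveI := hn
    have hsurj : Function.Surjective (e.toMonoidHom.comp (QuotientGroup.mk' (R.subgroupOf K))) := by
      intro d
      obtain ⟨q, hq⟩ := e.surjective d
      obtain ⟨k, hk⟩ := QuotientGroup.mk'_surjective (R.subgroupOf K) q
      refine ⟨k, ?_⟩
      show e (QuotientGroup.mk' (R.subgroupOf K) k) = d
      rw [hk, hq]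
    obtain ⟨x, P, ⟨k, hk⟩, hP, hxN, hxC⟩ := dihedral_quotient_noncentralizing hp _ hsurj
    refine ⟨(x : G), P.map K.subtype, ⟨k, ?_⟩, hP.map _, ?_, ?_⟩
    · rw [Subgroup.orderOf_coe]; exact hk
    · exact Subgroup.le_normalizer_map K.subtype ⟨x, hxN, rfl⟩
    · intro hc
      apply hxC
      rw [Subgroup.mem_centralizer_iff] at hc ⊢
      intro h hh
      have := hc (h : G) ⟨h, hh, rfl⟩
      exact Subtype.ext (by simpa using this)
  have hBC : (∃ (x : G) (P : Subgroup G), (∃ k : ℕ, orderOf x = 2 ^ k) ∧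
      IsPGroup p ↥P ∧ x ∈ Subgroup.normalizer (P : Set G) ∧ x ∉ Subgroup.centralizer (P : Set G)) →
      ∃ x y : G, (∃ k : ℕ, orderOf x = 2 ^ k) ∧ (∃ k : ℕ, orderOf y = p ^ k) ∧ y ≠ 1 ∧ x * y * x⁻¹ = y⁻¹ := by
    rintro ⟨x, P, hx, hP, hxN, hxC⟩
    exact inverted_of_noncentralizing x P hx hP hxN hxC
  have hCA : (∃ x y : G, (∃ k : ℕ, orderOf x = 2 ^ k) ∧ (∃ k : ℕ, orderOf y = p ^ k) ∧ y ≠ 1 ∧
      x * y * x⁻¹ = y⁻¹) → Cfsg.Involves (DihedralGroup p) G := by
    rintro ⟨x, y, hx, hy, hy1, hinv⟩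
    exact involves_dihedral_of_inverted hp x y hx hy hy1 hinv
  exact ⟨⟨hAB, fun h => hCA (hBC h)⟩, ⟨fun h => hBC (hAB h), hCA⟩⟩

end Cfsg.Agent.S2758
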