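import Cfsg.Statements.S0209
import Cfsg.Agent.Lib.Helper24.Dih

set_option autoImplicit false
open Cfsg

namespace Cfsg.Agent.S0209

/-- If x, y are involutions whose product has even order n, the element (xy)^(n/2) is an involution that commutes with x and with y. -/
theorem result {G : Type*} [Group G] [Finite G] (x y : G) (hx : orderOf x = 2) (hy : orderOf y = 2) (heven : Even (orderOf (x * y))) : orderOf ((x * y) ^ (orderOf (x * y) / 2)) = 2 ∧ Commute ((x * y) ^ (orderOf (x * y) / 2)) x ∧ Commute ((x * y) ^ (orderOf (x * y) / 2)) y := by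
  have hx2 := Lib.Helper24.sq_one_of_orderOf_two hx
  have hy2 := Lib.Helper24.sq_one_of_orderOf_two hy
  obtain ⟨m, hm⟩ := heven
  have hpos : 0 < orderOf (x * y) := orderOf_pos (x * y)
  have hm0 : m ≠ 0 := by omega
  have hdiv : orderOf (x * y) / 2 = m := by omega
  rw [hdiv]
  have hzz : (x * y) ^ m * (x * y) ^ m = 1 := by
    rw [← pow_add, ← hm, pow_orderOf_eq_one]
  have hzinv : ((x * y) ^ m)⁻¹ = (x * y) ^ m := inv_eq_of_mul_eq_one_left hzz
  have hcx : Commute ((x * y) ^ m) x := by
    have h := Lib.Helper24.zpow_mul_left_swap hx2 hy2 (m : ℤ)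
    rw [zpow_neg, zpow_natCast, hzinv] at h
    exact h
  refine ⟨?_, hcx, ?_⟩
  · rw [orderOf_pow_of_dvd hm0 ⟨2, by omega⟩]
    rw [hm]
    have : (m + m) / m = 2 := by
      rw [← two_mul, Nat.mul_div_cancel _ (Nat.pos_of_ne_zero hm0)]
    exact this
  · have hcu : Commute ((x * y) ^ m) (x * y) := (Commute.refl _).pow_left m
    have hy' : x⁻¹ * (x * y) = y := by simp
    have := (hcx.inv_right).mul_right hcu
    rw [hy'] at this
    exact this

end Cfsg.Agent.S0209
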