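import Cfsg.Statements.S3276
import Cfsg.Agent.Lib.Helper17.CommutingInvolutions
open Cfsg.Agent.Lib.Helper17

set_option autoImplicit false
open Cfsg

namespace Cfsg.Agent.S3276

/-- Let x and y be commuting, non-conjugate involutions of a finite group G, and suppose that for every involution u commuting with x, each conjugate of y that commutes with u also commutes with y. Then the normal closure of y is a proper, normal, elementary abelian 2-subgroup of G; and if y is the only involution of that normal closure commuting with x, it has order at most 4. -/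
theorem result {G : Type*} [Group G] [Finite G] (x y : G) (hx : orderOf x = 2) (hy : orderOf y = 2)
    (hxy : Commute x y) (hnc : ¬ IsConj x y)
    (hstar : ∀ u : G, orderOf u = 2 → Commute u x → ∀ g : G, Commute (g * y * g⁻¹) u → Commute (g * y * g⁻¹) y) :
    Subgroup.normalClosure ({y} : Set G) ≠ ⊤ ∧ Cfsg.IsElementaryAbelian 2 (Subgroup.normalClosure ({y} : Set G)) ∧
      ((∀ u ∈ Subgroup.normalClosure ({y} : Set G), orderOf u = 2 → Commute u x → u = y) →
        Nat.card ↥(Subgroup.normalClosure ({y} : Set G)) ≤ 4) := by
  have hx2 : x * x = 1 := by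
    have := pow_orderOf_eq_one x
    rwa [hx, pow_two] at this
  have hy2 : y ^ 2 = 1 := by
    have := pow_orderOf_eq_one y
    rwa [hy] at this
  -- every conjugate of y commutes with y
  have hc : ∀ g : G, Commute (g * y * g⁻¹) y := by
    intro g
    have hy' : orderOf (g * y * g⁻¹) = 2 := by rw [Cfsg.Agent.Lib.Helper24.orderOf_conj', hy]
    have hnc' : ¬ IsConj x (g * y * g⁻¹) := by
      rw [Cfsg.Agent.Lib.Helper24.isConj_conj_iff]; exact hnc
    have heven := Cfsg.Agent.Lib.Helper24.even_orderOf_mul_of_not_isConj hx hy' hnc'
    obtain ⟨hu, hux, huy⟩ := Cfsg.Agent.S0209.result x (g * y * g⁻¹) hx hy' heven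
    exact hstar _ hu hux g huy.symm
  have hea := normalClosure_ea_of_conj_commute hy2 hc
  have hyY : y ∈ Subgroup.normalClosure ({y} : Set G) :=
    Subgroup.subset_normalClosure (Set.mem_singleton y)
  refine ⟨?_, hea, ?_⟩
  · intro htop
    -- G is abelian
    have hcomm : ∀ a b : G, a * b = b * a := by
      intro a b
      have ha : a ∈ Subgroup.normalClosure ({y} : Set G) := htop ▸ Subgroup.mem_top a
      have hb : b ∈ Subgroup.normalClosure ({y} : Set G) := htop ▸ Subgroup.mem_top b
      exact ea_comm hea ha hb
    have hle : Subgroup.normalClosure ({y} : Set G) ≤ Subgroup.zpowers y := by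
      haveI : (Subgroup.zpowers y).Normal := by
        refine ⟨fun n hn g => ?_⟩
        have : g * n * g⁻¹ = n := by rw [hcomm g n, mul_assoc, mul_inv_cancel, mul_one]
        rw [this]; exact hn
      apply Subgroup.normalClosure_le_normal
      rw [Set.singleton_subset_iff]
      exact Subgroup.mem_zpowers y
    have hxz : x ∈ Subgroup.zpowers y := hle (htop ▸ Subgroup.mem_top x)
    obtain ⟨k, hk⟩ := Subgroup.mem_zpowers_iff.1 hxz
    rcases Int.even_or_odd k with ⟨m, hm⟩ | ⟨m, hm⟩
    · have hx1 : x = 1 := by
        rw [← hk, hm, ← two_mul, zpow_mul, zpow_ofNat, hy2, one_zpow]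
      rw [hx1, orderOf_one] at hx
      omega
    · have hxy' : x = y := by
        rw [← hk, hm, zpow_add, zpow_mul, zpow_ofNat, hy2, one_zpow, one_mul, zpow_one]
      exact hnc (hxy' ▸ IsConj.refl x)
  · intro honly
    haveI : (Subgroup.normalClosure ({y} : Set G)).Normal := Subgroup.normalClosure_normal
    have h1 := card_le_sq_card_centralizer_of_involution hea hx2
    have h2 : Nat.card ((Subgroup.centralizer ({x} : Set G)).subgroupOf
        (Subgroup.normalClosure ({y} : Set G))) ≤ 2 := by
      apply card_le_two_of_forall_eq
      have hval : ∀ v : ((Subgroup.centralizer ({x} : Set G)).subgroupOf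
          (Subgroup.normalClosure ({y} : Set G))), v ≠ 1 → ((v : Subgroup.normalClosure ({y} : Set G)) : G) = y := by
        intro v hv
        have hvY : ((v : Subgroup.normalClosure ({y} : Set G)) : G) ∈ Subgroup.normalClosure ({y} : Set G) := v.1.2
        have hvx : ((v : Subgroup.normalClosure ({y} : Set G)) : G) ∈ Subgroup.centralizer ({x} : Set G) :=
          Subgroup.mem_subgroupOf.1 v.2
        have hv1 : ((v : Subgroup.normalClosure ({y} : Set G)) : G) ≠ 1 := by
          intro h
          apply hv
          apply Subtype.ext
          apply Subtype.ext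
          exact h
        have hvsq : ((v : Subgroup.normalClosure ({y} : Set G)) : G) ^ 2 = 1 := hea.2 _ hvY
        have hvo : orderOf ((v : Subgroup.normalClosure ({y} : Set G)) : G) = 2 :=
          orderOf_eq_prime hvsq hv1
        apply honly _ hvY hvo
        rw [Subgroup.mem_centralizer_iff] at hvx
        exact (hvx x (Set.mem_singleton x)).symm
      intro v w hv hw
      apply Subtype.ext
      apply Subtype.ext
      rw [hval v hv, hval w hw]
    calc Nat.card ↥(Subgroup.normalClosure ({y} : Set G))
        ≤ Nat.card ((Subgroup.centralizer ({x} : Set G)).subgroupOf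
          (Subgroup.normalClosure ({y} : Set G))) ^ 2 := h1
      _ ≤ 2 ^ 2 := Nat.pow_le_pow_left h2 2
      _ = 4 := by norm_num

end Cfsg.Agent.S3276
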