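import Mathlib
import Cfsg.Statements.S0428
import Cfsg.Agent.Lib.Helper18.S22Counts2

set_option autoImplicit false
open Cfsg

namespace Cfsg.Agent.S0428

open Cfsg.Agent.Lib.Helper21 Cfsg.Agent.Lib.Helper18.S22

theorem ncard_inter_none_of_mem {γ : Type*} {S : Set (Option γ)} (h : none ∈ S) :
    (S ∩ {none}).ncard = 1 := by
  have : S ∩ {none} = {none} := by
    ext v
    simp only [Set.mem_inter_iff, Set.mem_singleton_iff, and_iff_right_iff_imp]
    rintro rfl; exact h
  rw [this, Set.ncard_singleton]

theorem ncard_inter_none_of_not_mem {γ : Type*} {S : Set (Option γ)} (h : none ∉ S) :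
    (S ∩ {none}).ncard = 0 := by
  have : S ∩ {none} = ∅ := by
    ext v
    simp only [Set.mem_inter_iff, Set.mem_singleton_iff, Set.mem_empty_iff_false, iff_false,
      not_and]
    rintro hv rfl; exact h hv
  rw [this, Set.ncard_empty]

theorem ncard_option_sum {α β : Type*} [Finite α] [Finite β] (S : Set (Option (α ⊕ β))) :
    S.ncard = (S ∩ {none}).ncard + {a : α | some (Sum.inl a) ∈ S}.ncard
      + {b : β | some (Sum.inr b) ∈ S}.ncard := by
  classical
  have hS : S = (S ∩ {none}) ∪ ((fun a => some (Sum.inl a)) '' {a : α | some (Sum.inl a) ∈ S})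
      ∪ ((fun b => some (Sum.inr b)) '' {b : β | some (Sum.inr b) ∈ S}) := by
    ext v
    rcases v with _ | a | b <;> simp
  have hinjl : Function.Injective (fun a : α => (some (Sum.inl a) : Option (α ⊕ β))) :=
    fun a a' h => by simpa using h
  have hinjr : Function.Injective (fun b : β => (some (Sum.inr b) : Option (α ⊕ β))) :=
    fun a a' h => by simpa using h
  conv_lhs => rw [hS]
  rw [Set.ncard_union_eq, Set.ncard_union_eq, Set.ncard_image_of_injective _ hinjl,
    Set.ncard_image_of_injective _ hinjr]
  · rw [Set.disjoint_left]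
    rintro v ⟨_, hv⟩ ⟨a, _, rfl⟩
    simp at hv
  · rw [Set.disjoint_left]
    rintro v hv ⟨b, _, rfl⟩
    rcases hv with ⟨_, hv⟩ | ⟨a, _, hv⟩
    · simp at hv
    · simp at hv

/-- ncard of a set of blocks (in the subtype) via the finset of blocks -/
theorem ncard_subtype {α : Type*} [Fintype α] [DecidableEq α] {B : Set (Finset α)}
    (P : Finset α → Prop) [DecidablePred P] :
    {d : B | P (d : Finset α)}.ncard = ((blocksFinset B).filter P).card := by
  rw [← ncard_blocks_filter B P]
  rw [← Set.ncard_image_of_injective _ Subtype.val_injective]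
  congr 1
  ext d
  simp only [Set.mem_image, Set.mem_ofPred_eq, Subtype.exists, exists_and_right, exists_eq_right]
  constructor
  · rintro ⟨h, hp⟩; exact ⟨h, hp⟩
  · rintro ⟨h, hp⟩; exact ⟨h, hp⟩

section adj
variable {α : Type*} {B : Set (Finset α)}

theorem adj_none_none : ¬ (pointBlockGraph B).Adj none none := by
  simp [pointBlockGraph, SimpleGraph.fromRel_adj]

theorem adj_none_inl (a : α) : (pointBlockGraph B).Adj none (some (Sum.inl a)) := by
  simp [pointBlockGraph, SimpleGraph.fromRel_adj, pointBlockRel]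

theorem adj_none_inr (b : B) : ¬ (pointBlockGraph B).Adj none (some (Sum.inr b)) := by
  simp [pointBlockGraph, SimpleGraph.fromRel_adj, pointBlockRel]

theorem adj_inl_none (a : α) : (pointBlockGraph B).Adj (some (Sum.inl a)) none := by
  simp [pointBlockGraph, SimpleGraph.fromRel_adj, pointBlockRel]

theorem adj_inl_inl (a a' : α) :
    ¬ (pointBlockGraph B).Adj (some (Sum.inl a)) (some (Sum.inl a')) := by
  simp [pointBlockGraph, SimpleGraph.fromRel_adj, pointBlockRel]

theorem adj_inl_inr (a : α) (b : B) :
    (pointBlockGraph B).Adj (some (Sum.inl a)) (some (Sum.inr b)) ↔ a ∈ (b : Finset α) := by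
  simp [pointBlockGraph, SimpleGraph.fromRel_adj, pointBlockRel]

theorem adj_inr_none (b : B) : ¬ (pointBlockGraph B).Adj (some (Sum.inr b)) none := by
  simp [pointBlockGraph, SimpleGraph.fromRel_adj, pointBlockRel]

theorem adj_inr_inl (a : α) (b : B) :
    (pointBlockGraph B).Adj (some (Sum.inr b)) (some (Sum.inl a)) ↔ a ∈ (b : Finset α) := by
  simp [pointBlockGraph, SimpleGraph.fromRel_adj, pointBlockRel]

theorem adj_inr_inr [Fintype α] [DecidableEq α] (hB : IsSteinerSystem 3 6 B) (b c : B) :
    (pointBlockGraph B).Adj (some (Sum.inr b)) (some (Sum.inr c))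
      ↔ Disjoint (b : Finset α) (c : Finset α) := by
  rw [pointBlockGraph, SimpleGraph.fromRel_adj]
  simp only [pointBlockRel]
  constructor
  · rintro ⟨_, h | h⟩
    · exact h
    · exact h.symm
  · intro h
    refine ⟨?_, Or.inl h⟩
    intro heq
    have : b = c := by simpa using heq
    subst this
    exact not_disjoint_self hB b.2 h

end adj

section main
variable {α : Type*} [Fintype α] [DecidableEq α] {B : Set (Finset α)}

theorem deg_none (hα : Fintype.card α = 22) :
    ((pointBlockGraph B).neighborSet none).ncard = 22 := by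
  rw [ncard_option_sum, ncard_inter_none_of_not_mem (by simp [adj_none_none])]
  have h1 : {a : α | some (Sum.inl a) ∈ (pointBlockGraph B).neighborSet none} = Set.univ := by
    ext a; simp [adj_none_inl]
  have h2 : {b : B | some (Sum.inr b) ∈ (pointBlockGraph B).neighborSet none} = ∅ := by
    ext b; simp [adj_none_inr]
  rw [h1, h2, Set.ncard_univ, Set.ncard_empty, Nat.card_eq_fintype_card, hα]

theorem deg_inl (hα : Fintype.card α = 22) (hB : IsSteinerSystem 3 6 B) (a : α) :
    ((pointBlockGraph B).neighborSet (some (Sum.inl a))).ncard = 22 := by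
  rw [ncard_option_sum, ncard_inter_none_of_mem (by simp [adj_inl_none])]
  have h1 : {a' : α | some (Sum.inl a') ∈ (pointBlockGraph B).neighborSet (some (Sum.inl a))}
      = ∅ := by
    ext a'; simp [adj_inl_inl]
  have h2 : {b : B | some (Sum.inr b) ∈ (pointBlockGraph B).neighborSet (some (Sum.inl a))}
      = {b : B | a ∈ (b : Finset α)} := by
    ext b; simp [adj_inl_inr]
  rw [h1, h2, Set.ncard_empty, ncard_subtype (fun d => a ∈ d), through_point hα hB a]

theorem deg_inr (hα : Fintype.card α = 22) (hB : IsSteinerSystem 3 6 B) (b : B) :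
    ((pointBlockGraph B).neighborSet (some (Sum.inr b))).ncard = 22 := by
  rw [ncard_option_sum, ncard_inter_none_of_not_mem (by simp [adj_inr_none])]
  have h1 : {a : α | some (Sum.inl a) ∈ (pointBlockGraph B).neighborSet (some (Sum.inr b))}
      = ((b : Finset α) : Set α) := by
    ext a; simp [adj_inr_inl]
  have h2 : {c : B | some (Sum.inr c) ∈ (pointBlockGraph B).neighborSet (some (Sum.inr b))}
      = {c : B | Disjoint (b : Finset α) (c : Finset α)} := by
    ext c; simp [adj_inr_inr hB]
  rw [h1, h2, Set.ncard_coe_finset, hB.1 b b.2, ncard_subtype (fun d => Disjoint (b : Finset α) d),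
    disjoint_count hα hB b.2]

theorem cn_none_inl (a : α) :
    ((pointBlockGraph B).commonNeighbors none (some (Sum.inl a))).ncard = 0 := by
  rw [ncard_option_sum, ncard_inter_none_of_not_mem
    (by simp [SimpleGraph.mem_commonNeighbors, adj_none_none])]
  have h1 : {a' : α | some (Sum.inl a') ∈
      (pointBlockGraph B).commonNeighbors none (some (Sum.inl a))} = ∅ := by
    ext a'; simp [SimpleGraph.mem_commonNeighbors, adj_inl_inl]
  have h2 : {b : B | some (Sum.inr b) ∈
      (pointBlockGraph B).commonNeighbors none (some (Sum.inl a))} = ∅ := by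
    ext b; simp [SimpleGraph.mem_commonNeighbors, adj_none_inr]
  rw [h1, h2, Set.ncard_empty, Set.ncard_empty]

theorem cn_none_inr (hB : IsSteinerSystem 3 6 B) (b : B) :
    ((pointBlockGraph B).commonNeighbors none (some (Sum.inr b))).ncard = 6 := by
  rw [ncard_option_sum, ncard_inter_none_of_not_mem
    (by simp [SimpleGraph.mem_commonNeighbors, adj_none_none])]
  have h1 : {a : α | some (Sum.inl a) ∈
      (pointBlockGraph B).commonNeighbors none (some (Sum.inr b))}
      = ((b : Finset α) : Set α) := by
    ext a; simp [SimpleGraph.mem_commonNeighbors, adj_none_inl, adj_inr_inl]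
  have h2 : {c : B | some (Sum.inr c) ∈
      (pointBlockGraph B).commonNeighbors none (some (Sum.inr b))} = ∅ := by
    ext c; simp [SimpleGraph.mem_commonNeighbors, adj_none_inr]
  rw [h1, h2, Set.ncard_empty, Set.ncard_coe_finset, hB.1 b b.2]

theorem cn_inl_inl (hα : Fintype.card α = 22) (hB : IsSteinerSystem 3 6 B) {a a' : α}
    (haa : a ≠ a') :
    ((pointBlockGraph B).commonNeighbors (some (Sum.inl a)) (some (Sum.inl a'))).ncard = 6 := by
  rw [ncard_option_sum, ncard_inter_none_of_mem
    (by simp [SimpleGraph.mem_commonNeighbors, adj_inl_none])]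
  have h1 : {a'' : α | some (Sum.inl a'') ∈
      (pointBlockGraph B).commonNeighbors (some (Sum.inl a)) (some (Sum.inl a'))} = ∅ := by
    ext a''; simp [SimpleGraph.mem_commonNeighbors, adj_inl_inl]
  have h2 : {b : B | some (Sum.inr b) ∈
      (pointBlockGraph B).commonNeighbors (some (Sum.inl a)) (some (Sum.inl a'))}
      = {b : B | a ∈ (b : Finset α) ∧ a' ∈ (b : Finset α)} := by
    ext b; simp [SimpleGraph.mem_commonNeighbors, adj_inl_inr]
  rw [h1, h2, Set.ncard_empty, ncard_subtype (fun d => a ∈ d ∧ a' ∈ d), through_two hα hB haa]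

theorem cn_inl_inr_mem (a : α) (b : B) (hab : a ∈ (b : Finset α)) :
    ((pointBlockGraph B).commonNeighbors (some (Sum.inl a)) (some (Sum.inr b))).ncard = 0 := by
  rw [ncard_option_sum, ncard_inter_none_of_not_mem
    (by simp [SimpleGraph.mem_commonNeighbors, adj_inr_none])]
  have h1 : {a' : α | some (Sum.inl a') ∈
      (pointBlockGraph B).commonNeighbors (some (Sum.inl a)) (some (Sum.inr b))} = ∅ := by
    ext a'; simp [SimpleGraph.mem_commonNeighbors, adj_inl_inl]
  have h2 : {c : B | some (Sum.inr c) ∈
      (pointBlockGraph B).commonNeighbors (some (Sum.inl a)) (some (Sum.inr b))} = ∅ := by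
    ext c
    simp only [SimpleGraph.mem_commonNeighbors, adj_inl_inr, Set.mem_ofPred_eq,
      Set.mem_empty_iff_false, iff_false, not_and]
    intro hac hadj
    rw [pointBlockGraph, SimpleGraph.fromRel_adj] at hadj
    simp only [pointBlockRel] at hadj
    rcases hadj.2 with h | h
    · exact (Finset.disjoint_left.1 h) hab hac
    · exact (Finset.disjoint_left.1 h) hac hab
  rw [h1, h2, Set.ncard_empty, Set.ncard_empty]

theorem cn_inl_inr_not_mem (hα : Fintype.card α = 22) (hB : IsSteinerSystem 3 6 B) (a : α)
    (b : B) (hab : a ∉ (b : Finset α)) :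
    ((pointBlockGraph B).commonNeighbors (some (Sum.inl a)) (some (Sum.inr b))).ncard = 6 := by
  rw [ncard_option_sum, ncard_inter_none_of_not_mem
    (by simp [SimpleGraph.mem_commonNeighbors, adj_inr_none])]
  have h1 : {a' : α | some (Sum.inl a') ∈
      (pointBlockGraph B).commonNeighbors (some (Sum.inl a)) (some (Sum.inr b))} = ∅ := by
    ext a'; simp [SimpleGraph.mem_commonNeighbors, adj_inl_inl]
  have h2 : {c : B | some (Sum.inr c) ∈
      (pointBlockGraph B).commonNeighbors (some (Sum.inl a)) (some (Sum.inr b))}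
      = {c : B | a ∈ (c : Finset α) ∧ Disjoint (b : Finset α) (c : Finset α)} := by
    ext c; simp [SimpleGraph.mem_commonNeighbors, adj_inl_inr, adj_inr_inr hB]
  rw [h1, h2, Set.ncard_empty, ncard_subtype (fun d => a ∈ d ∧ Disjoint (b : Finset α) d),
    through_point_disjoint hα hB b.2 hab]

theorem cn_inr_inr_disj (hα : Fintype.card α = 22) (hB : IsSteinerSystem 3 6 B) (b c : B)
    (hbc : Disjoint (b : Finset α) (c : Finset α)) :
    ((pointBlockGraph B).commonNeighbors (some (Sum.inr b)) (some (Sum.inr c))).ncard = 0 := by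
  rw [ncard_option_sum, ncard_inter_none_of_not_mem
    (by simp [SimpleGraph.mem_commonNeighbors, adj_inr_none])]
  have h1 : {a : α | some (Sum.inl a) ∈
      (pointBlockGraph B).commonNeighbors (some (Sum.inr b)) (some (Sum.inr c))} = ∅ := by
    ext a
    simp only [SimpleGraph.mem_commonNeighbors, adj_inr_inl, Set.mem_ofPred_eq,
      Set.mem_empty_iff_false, iff_false, not_and]
    intro h1 h2
    exact (Finset.disjoint_left.1 hbc) h1 h2
  have h2 : {d : B | some (Sum.inr d) ∈
      (pointBlockGraph B).commonNeighbors (some (Sum.inr b)) (some (Sum.inr c))} = ∅ := by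
    ext d
    simp only [SimpleGraph.mem_commonNeighbors, adj_inr_inr hB, Set.mem_ofPred_eq,
      Set.mem_empty_iff_false, iff_false, not_and]
    intro h1 h2
    exact no_three_disjoint hα hB b.2 c.2 d.2 hbc h1 h2
  rw [h1, h2, Set.ncard_empty, Set.ncard_empty]

theorem cn_inr_inr_ndisj (hα : Fintype.card α = 22) (hB : IsSteinerSystem 3 6 B) (b c : B)
    (hne : b ≠ c) (hbc : ¬ Disjoint (b : Finset α) (c : Finset α)) :
    ((pointBlockGraph B).commonNeighbors (some (Sum.inr b)) (some (Sum.inr c))).ncard = 6 := by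
  have hne' : (b : Finset α) ≠ c := fun h => hne (Subtype.ext h)
  have h22 : ((b : Finset α) ∩ c).card = 2 := by
    rcases inter_zero_or_two hα hB b.2 c.2 hne' with h | h
    · exfalso
      apply hbc
      rw [Finset.disjoint_iff_inter_eq_empty, ← Finset.card_eq_zero]
      exact h
    · exact h
  rw [ncard_option_sum, ncard_inter_none_of_not_mem
    (by simp [SimpleGraph.mem_commonNeighbors, adj_inr_none])]
  have h1 : {a : α | some (Sum.inl a) ∈
      (pointBlockGraph B).commonNeighbors (some (Sum.inr b)) (some (Sum.inr c))}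
      = (((b : Finset α) ∩ c : Finset α) : Set α) := by
    ext a
    simp [SimpleGraph.mem_commonNeighbors, adj_inr_inl]
  have h2 : {d : B | some (Sum.inr d) ∈
      (pointBlockGraph B).commonNeighbors (some (Sum.inr b)) (some (Sum.inr c))}
      = {d : B | Disjoint (b : Finset α) (d : Finset α) ∧ Disjoint (c : Finset α) (d : Finset α)} := by
    ext d
    simp [SimpleGraph.mem_commonNeighbors, adj_inr_inr hB]
  rw [h1, h2, Set.ncard_coe_finset, h22,
    ncard_subtype (fun d => Disjoint (b : Finset α) d ∧ Disjoint (c : Finset α) d),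
    common_disjoint_count hα hB b.2 c.2 h22]

theorem cn_all (hα : Fintype.card α = 22) (hB : IsSteinerSystem 3 6 B)
    (v w : Option (α ⊕ B)) (hvw : v ≠ w) :
    ((pointBlockGraph B).Adj v w → ((pointBlockGraph B).commonNeighbors v w).ncard = 0) ∧
    (¬ (pointBlockGraph B).Adj v w → ((pointBlockGraph B).commonNeighbors v w).ncard = 6) := by
  rcases v with _ | a | b <;> rcases w with _ | a' | c
  · exact absurd rfl hvw
  · exact ⟨fun _ => cn_none_inl a', fun h => absurd (adj_none_inl a') h⟩
  · exact ⟨fun h => absurd h (adj_none_inr c), fun _ => cn_none_inr hB c⟩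
  · rw [SimpleGraph.commonNeighbors_symm]
    exact ⟨fun _ => cn_none_inl a, fun h => absurd (adj_inl_none a) h⟩
  · have haa : a ≠ a' := fun h => hvw (by rw [h])
    exact ⟨fun h => absurd h (adj_inl_inl a a'), fun _ => cn_inl_inl hα hB haa⟩
  · rw [adj_inl_inr]
    exact ⟨fun h => cn_inl_inr_mem a c h, fun h => cn_inl_inr_not_mem hα hB a c h⟩
  · rw [SimpleGraph.commonNeighbors_symm]
    exact ⟨fun h => absurd h (adj_inr_none b), fun _ => cn_none_inr hB b⟩
  · rw [SimpleGraph.commonNeighbors_symm, adj_inr_inl]
    exact ⟨fun h => cn_inl_inr_mem a' b h, fun h => cn_inl_inr_not_mem hα hB a' b h⟩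
  · have hbc : b ≠ c := fun h => hvw (by rw [h])
    rw [adj_inr_inr hB]
    exact ⟨fun h => cn_inr_inr_disj hα hB b c h, fun h => cn_inr_inr_ndisj hα hB b c hbc h⟩

end main

/-- The point-block graph of an S(3, 6, 22) is strongly regular with parameters (100, 22, 0, 6). -/
theorem result {α : Type*} [Fintype α] (hα : Fintype.card α = 22) {B : Set (Finset α)} (hB : Cfsg.IsSteinerSystem 3 6 B) [Fintype B] [DecidableRel (Cfsg.pointBlockGraph B).Adj] : (Cfsg.pointBlockGraph B).IsSRGWith 100 22 0 6 := by
  classical
  refine ⟨?_, ?_, ?_, ?_⟩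
  · have hBc : Fintype.card B = 77 := by
      rw [Fintype.card_eq_nat_card, Nat.card_coe_set_eq, ncard_blocks, card_blocks hα hB]
    rw [Fintype.card_option, Fintype.card_sum, hα, hBc]
  · intro v
    rw [← SimpleGraph.card_neighborSet_eq_degree, Fintype.card_eq_nat_card,
      Nat.card_coe_set_eq]
    rcases v with _ | a | b
    · exact deg_none hα
    · exact deg_inl hα hB a
    · exact deg_inr hα hB b
  · intro v w hadj
    rw [Fintype.card_eq_nat_card, Nat.card_coe_set_eq]
    exact (cn_all hα hB v w hadj.ne).1 hadj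
  · intro v w hne hnadj
    rw [Fintype.card_eq_nat_card, Nat.card_coe_set_eq]
    exact (cn_all hα hB v w hne).2 hnadj

end Cfsg.Agent.S0428
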