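import Cfsg.Statements.S0378
import Cfsg.Agent.Lib.Helper21.GolayTrans5

set_option autoImplicit false
open Cfsg

namespace Cfsg.Agent.S0378

/-- A two-point stabiliser in the group of the length-24 code has order 443520 = 2^7·3^2·5·7·11. -/
theorem result (p q : Cfsg.GolayPt) (hpq : p ≠ q) : Nat.card ↥(MulAction.stabilizer Cfsg.M24 p ⊓ MulAction.stabilizer Cfsg.M24 q) = 443520 := by
  have hfix : MulAction.stabilizer Cfsg.M24 p ⊓ MulAction.stabilizer Cfsg.M24 q
      = fixingSubgroup Cfsg.M24 ({p, q} : Set Cfsg.GolayPt) := by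
    ext g
    rw [Subgroup.mem_inf, MulAction.mem_stabilizer_iff, MulAction.mem_stabilizer_iff,
      mem_fixingSubgroup_iff]
    constructor
    · rintro ⟨h1, h2⟩ y hy
      rcases hy with rfl | rfl
      · exact h1
      · exact h2
    · intro h
      exact ⟨h p (by simp), h q (by simp)⟩
  rw [hfix]
  have hn : ({p, q} : Set Cfsg.GolayPt).ncard = 2 := Set.ncard_pair hpq
  have h2 : Nat.card Cfsg.GolayPt = 24 := by
    rw [Nat.card_eq_fintype_card]; rfl
  have hidx := MulAction.IsMultiplyPretransitive.index_of_fixingSubgroup_eq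
    (G := Cfsg.M24) ({p, q} : Set Cfsg.GolayPt)
    (by rw [hn]; exact Cfsg.Agent.Lib.Helper21.M24_pretransitive_of_le (by norm_num))
  rw [hn, h2] at hidx
  have h1 := Subgroup.card_mul_index (fixingSubgroup Cfsg.M24 ({p, q} : Set Cfsg.GolayPt))
  rw [hidx, Cfsg.Agent.Lib.Helper21.card_M24] at h1
  have h3 : Nat.choose 24 2 * Nat.factorial 2 = 552 := by decide
  rw [h3] at h1
  omega

end Cfsg.Agent.S0378
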