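import Cfsg.Statements.S0379
import Cfsg.Agent.Lib.Helper9.M22Simple
import Cfsg.Agent.S0378

set_option autoImplicit false
open Cfsg

namespace Cfsg.Agent.S0379

/-- A two-point stabiliser in the group of the length-24 code is simple. -/
theorem result (p q : Cfsg.GolayPt) (hpq : p ≠ q) : IsSimpleGroup ↥(MulAction.stabilizer Cfsg.M24 p ⊓ MulAction.stabilizer Cfsg.M24 q) := by
  classical
  set K := MulAction.stabilizer Cfsg.M24 p ⊓ MulAction.stabilizer Cfsg.M24 q with hK
  set H : Subgroup (Equiv.Perm Cfsg.GolayPt) := K.map Cfsg.M24.subtype with hHdef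
  let e : K ≃* H := K.equivMapOfInjective Cfsg.M24.subtype Cfsg.M24.subtype_injective
  have hH : ∀ g : Equiv.Perm Cfsg.GolayPt, g ∈ H ↔ g ∈ Cfsg.M24 ∧ g p = p ∧ g q = q := by
    intro g
    constructor
    · rintro ⟨k, hk, rfl⟩
      exact ⟨k.2, MulAction.mem_stabilizer_iff.1 hk.1, MulAction.mem_stabilizer_iff.1 hk.2⟩
    · rintro ⟨hg, hgp, hgq⟩
      exact ⟨⟨g, hg⟩, ⟨MulAction.mem_stabilizer_iff.2 hgp, MulAction.mem_stabilizer_iff.2 hgq⟩, rfl⟩
  have hcardK : Nat.card K = 443520 := Cfsg.Agent.S0378.result p q hpq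
  have hcardH : Nat.card H = 443520 := by
    rw [← Nat.card_congr e.toEquiv, hcardK]
  have : IsSimpleGroup H := Cfsg.Agent.Lib.Helper9.M22Simple.simple_M22 H p q hpq hH hcardH
  exact e.isSimpleGroup

end Cfsg.Agent.S0379
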