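import Mathlib
import Cfsg.Statements.S0673

set_option autoImplicit false
set_option linter.style.haveILetI false
set_option linter.unusedSectionVars false
open Cfsg

namespace Cfsg.Agent.S0673

open Polynomial

variable {K : Type*} [Field K]

/-- The backward difference operator `P(X - 1) - P(X)`. -/
noncomputable def Dl (P : K[X]) : K[X] := taylor (-1) P - P

theorem Dl_add (P Q : K[X]) : Dl (P + Q) = Dl P + Dl Q := by
  unfold Dl; rw [map_add]; ring

theorem Dl_smul (c : K) (P : K[X]) : Dl (c • P) = c • Dl P := by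
  unfold Dl; rw [map_smul, smul_sub]

theorem Dl_coeff_top (P : K[X]) (n : ℕ) (hn : P.natDegree ≤ n) : (Dl P).coeff n = 0 := by
  unfold Dl
  rw [coeff_sub, taylor_coeff]
  have h1 : (hasseDeriv n P).natDegree ≤ 0 := by
    have := natDegree_hasseDeriv_le P n
    omega
  rw [eq_C_of_natDegree_le_zero h1, eval_C, hasseDeriv_coeff]
  simp

theorem Dl_natDegree_le (P : K[X]) : (Dl P).natDegree ≤ P.natDegree - 1 := by
  rw [natDegree_le_iff_coeff_eq_zero]
  intro n hn
  apply Dl_coeff_top
  omega

theorem Dl_coeff_pred (P : K[X]) (k : ℕ) (hk : P.natDegree = k + 1) :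
    (Dl P).coeff k = -((k + 1 : ℕ) : K) * P.coeff (k + 1) := by
  unfold Dl
  rw [coeff_sub, taylor_coeff]
  have h1 : (hasseDeriv k P).natDegree < 2 := by
    have := natDegree_hasseDeriv_le P k
    omega
  rw [eval_eq_sum_range' h1, Finset.sum_range_succ, Finset.sum_range_one, hasseDeriv_coeff,
    hasseDeriv_coeff]
  simp only [zero_add, Nat.choose_self, Nat.cast_one, one_mul, pow_zero, mul_one, pow_one]
  rw [add_comm 1 k, Nat.choose_succ_self_right]
  ring

section CharP

variable {p : ℕ} [hp : Fact p.Prime] [CharP K p]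

theorem Dl_natDegree_eq (P : K[X]) (k : ℕ) (hk : P.natDegree = k + 1) (hkp : k + 1 < p) :
    (Dl P).natDegree = k := by
  apply le_antisymm
  · have := Dl_natDegree_le P; omega
  · apply le_natDegree_of_ne_zero
    rw [Dl_coeff_pred P k hk]
    have h1 : ((k + 1 : ℕ) : K) ≠ 0 := by
      intro h
      rw [CharP.cast_eq_zero_iff K p] at h
      exact absurd (Nat.le_of_dvd (by omega) h) (by omega)
    have h2 : P.coeff (k + 1) ≠ 0 := by
      rw [← hk]
      apply leadingCoeff_ne_zero.mpr
      intro h
      rw [h] at hk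
      simp at hk
    exact mul_ne_zero (neg_ne_zero.mpr h1) h2

theorem degreeLT_le_of_mem (U : Submodule K K[X]) (hU : U ≤ degreeLT K p)
    (hD : ∀ P ∈ U, Dl P ∈ U) :
    ∀ (k : ℕ) (P : K[X]), P ∈ U → P ≠ 0 → P.natDegree = k → degreeLT K (k + 1) ≤ U := by
  intro k
  induction k with
  | zero =>
    intro P hP hP0 hk Q hQ
    rw [mem_degreeLT] at hQ
    have hQ0 : Q.natDegree ≤ 0 := by
      by_cases h : Q = 0
      · rw [h]; simp
      · have := (natDegree_lt_iff_degree_lt h).mpr hQ
        omega
    rw [eq_C_of_natDegree_le_zero hQ0]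
    rw [eq_C_of_natDegree_le_zero hk.le] at hP hP0
    have ha : P.coeff 0 ≠ 0 := fun h => hP0 (by rw [h, C_0])
    have : C (Q.coeff 0) = (Q.coeff 0 / P.coeff 0) • C (P.coeff 0) := by
      rw [smul_C, smul_eq_mul, div_mul_cancel₀ _ ha]
    rw [this]
    exact U.smul_mem _ hP
  | succ k ih =>
    intro P hP hP0 hk Q hQ
    have hPp : P.degree < p := mem_degreeLT.mp (hU hP)
    have hkp : k + 1 < p := by
      have := (natDegree_lt_iff_degree_lt hP0).mpr hPp
      omega
    have hDl := Dl_natDegree_eq P k hk hkp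
    have hDl0 : Dl P ≠ 0 := by
      intro h
      have h1 := Dl_coeff_pred P k hk
      rw [h, coeff_zero] at h1
      have h2 : ((k + 1 : ℕ) : K) ≠ 0 := by
        intro h
        rw [CharP.cast_eq_zero_iff K p] at h
        exact absurd (Nat.le_of_dvd (by omega) h) (by omega)
      have h3 : P.coeff (k + 1) ≠ 0 := by
        rw [← hk]
        exact leadingCoeff_ne_zero.mpr hP0
      exact (mul_ne_zero (neg_ne_zero.mpr h2) h3) h1.symm
    have hlow := ih (Dl P) (hD P hP) hDl0 hDl
    have ha : P.coeff (k + 1) ≠ 0 := by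
      rw [← hk]
      exact leadingCoeff_ne_zero.mpr hP0
    set c := Q.coeff (k + 1) / P.coeff (k + 1) with hc
    have hR : Q - c • P ∈ degreeLT K (k + 1) := by
      rw [mem_degreeLT, degree_lt_iff_coeff_zero]
      intro m hm
      rw [coeff_sub, coeff_smul, smul_eq_mul]
      rcases Nat.eq_or_lt_of_le hm with h | h
      · rw [← h, hc, div_mul_cancel₀ _ ha, sub_self]
      · have h1 : Q.coeff m = 0 := by
          rw [mem_degreeLT, degree_lt_iff_coeff_zero] at hQ
          exact hQ m (by omega)
        have h2 : P.coeff m = 0 := coeff_eq_zero_of_natDegree_lt (by omega)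
        rw [h1, h2, mul_zero, sub_zero]
    have : Q = (Q - c • P) + c • P := by ring
    rw [this]
    exact U.add_mem (hlow hR) (U.smul_mem _ hP)

theorem core (U : Submodule K K[X]) (hU : U ≤ degreeLT K p) (hD : ∀ P ∈ U, Dl P ∈ U) :
    ∃ r : ℕ, r ≤ p ∧ U = degreeLT K r := by
  classical
  have hex : ∃ r : ℕ, U ≤ degreeLT K r := ⟨p, hU⟩
  set r := Nat.find hex with hr
  have hr1 : U ≤ degreeLT K r := Nat.find_spec hex
  have hrp : r ≤ p := Nat.find_min' hex hU
  refine ⟨r, hrp, ?_⟩
  rcases Nat.eq_zero_or_pos r with h0 | hpos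
  · rw [h0] at hr1 ⊢
    apply le_antisymm hr1
    intro Q hQ
    rw [mem_degreeLT] at hQ
    have : Q = 0 := by
      by_contra h
      have := (natDegree_lt_iff_degree_lt h).mpr hQ
      omega
    rw [this]; exact zero_mem _
  · obtain ⟨r', hr'⟩ : ∃ r', r = r' + 1 := ⟨r - 1, by omega⟩
    have hnot : ¬ U ≤ degreeLT K r' := Nat.find_min hex (by omega)
    rw [SetLike.not_le_iff_exists] at hnot
    obtain ⟨P, hPU, hPn⟩ := hnot
    have hP0 : P ≠ 0 := by
      intro h
      rw [h] at hPn
      exact hPn (zero_mem _)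
    have hdeg1 : P.natDegree < r := by
      have := mem_degreeLT.mp (hr1 hPU)
      exact (natDegree_lt_iff_degree_lt hP0).mpr this
    have hdeg2 : r' ≤ P.natDegree := by
      by_contra h
      push Not at h
      apply hPn
      rw [mem_degreeLT]
      exact (natDegree_lt_iff_degree_lt hP0).mp h
    have hk : P.natDegree = r' := by omega
    apply le_antisymm hr1
    rw [hr']
    exact degreeLT_le_of_mem U hU hD r' P hPU hP0 hk

/-- Evaluation of polynomials at the images of `ZMod p` in `K`. -/
noncomputable def ev (p : ℕ) (K : Type*) [Field K] : K[X] →ₗ[K] (ZMod p → K) where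
  toFun P := fun j => P.eval (ZMod.cast j : K)
  map_add' P Q := by ext j; simp
  map_smul' c P := by ext j; simp

omit hp in
theorem ev_apply (P : K[X]) (j : ZMod p) : ev p K P j = P.eval (ZMod.cast j : K) := rfl

theorem cast_injOn : Set.InjOn (fun j : ZMod p => (ZMod.cast j : K))
    ((Finset.univ : Finset (ZMod p)) : Set (ZMod p)) := by
  intro a _ b _ hab
  have := ZMod.castHom_injective (n := p) K
  apply this
  simpa using hab

theorem ev_injective (P Q : K[X]) (hP : P.degree < p) (hQ : Q.degree < p)
    (h : ev p K P = ev p K Q) : P = Q := by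
  have hc : (Finset.univ : Finset (ZMod p)).card = p := by
    rw [Finset.card_univ, ZMod.card]
  apply Polynomial.eq_of_degrees_lt_of_eval_index_eq (Finset.univ : Finset (ZMod p))
    (v := fun j : ZMod p => (ZMod.cast j : K)) cast_injOn
  · rw [hc]; exact hP
  · rw [hc]; exact hQ
  · intro i _
    exact congrFun h i

theorem ev_surjective (f : ZMod p → K) : ∃ P : K[X], P.degree < p ∧ ev p K P = f := by
  have hc : (Finset.univ : Finset (ZMod p)).card = p := by
    rw [Finset.card_univ, ZMod.card]
  refine ⟨Lagrange.interpolate Finset.univ (fun j : ZMod p => (ZMod.cast j : K)) f, ?_, ?_⟩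
  · have := Lagrange.degree_interpolate_lt (r := f) (cast_injOn (K := K) (p := p))
    rwa [hc] at this
  · ext j
    rw [ev_apply]
    exact Lagrange.eval_interpolate_at_node (r := f) (cast_injOn (K := K) (p := p))
      (Finset.mem_univ j)

theorem ev_taylor (P : K[X]) (j : ZMod p) :
    ev p K (taylor (-1) P) j = ev p K P (j - 1) := by
  rw [ev_apply, ev_apply, taylor_eval, ZMod.cast_sub' , ZMod.cast_one', sub_eq_add_neg]

end CharP

/-- In characteristic `p`, the translation-invariant subspaces of the space of functions on `ZMod p` are exactly the spaces of polynomial functions of degree less than `r`, one for each `r ≤ p`, of dimension `r`. -/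
theorem result {p : ℕ} [Fact p.Prime] {K : Type*} [Field K] [CharP K p] (W : Submodule K (ZMod p → K)) (hW : ∀ f ∈ W, (fun j => f (j - 1)) ∈ W) : ∃ r : ℕ, r ≤ p ∧ Module.finrank K W = r ∧ ∀ f : ZMod p → K, f ∈ W ↔ ∃ P : Polynomial K, P.degree < r ∧ ∀ j : ZMod p, f j = P.eval (ZMod.cast j : K) := by
  classical
  set U : Submodule K K[X] := (W.comap (ev p K)) ⊓ degreeLT K p with hUdef
  have hU : U ≤ degreeLT K p := inf_le_right
  have hD : ∀ P ∈ U, Dl P ∈ U := by
    intro P hP
    obtain ⟨hP1, hP2⟩ := Submodule.mem_inf.mp hP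
    have hT : taylor (-1) P ∈ U := by
      rw [Submodule.mem_inf]
      constructor
      · rw [Submodule.mem_comap]
        have := hW _ (Submodule.mem_comap.mp hP1)
        convert this using 1
        ext j
        exact ev_taylor P j
      · rw [mem_degreeLT, degree_taylor]
        exact mem_degreeLT.mp hP2
    exact U.sub_mem hT hP
  obtain ⟨r, hrp, hUr⟩ := core U hU hD
  have hiff : ∀ f : ZMod p → K, f ∈ W ↔ ∃ P : Polynomial K, P.degree < r ∧
      ∀ j : ZMod p, f j = P.eval (ZMod.cast j : K) := by
    intro f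
    constructor
    · intro hf
      obtain ⟨P, hP, hPf⟩ := ev_surjective (p := p) f
      have hPU : P ∈ U := by
        rw [Submodule.mem_inf]
        exact ⟨by rw [Submodule.mem_comap, hPf]; exact hf, mem_degreeLT.mpr hP⟩
      rw [hUr, mem_degreeLT] at hPU
      exact ⟨P, hPU, fun j => (congrFun hPf j).symm⟩
    · rintro ⟨P, hP, hPf⟩
      have hPU : P ∈ U := by rw [hUr, mem_degreeLT]; exact hP
      have := (Submodule.mem_inf.mp hPU).1
      rw [Submodule.mem_comap] at this
      convert this using 1
      ext j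
      exact hPf j
  refine ⟨r, hrp, ?_, hiff⟩
  -- the dimension
  let φ : degreeLT K r →ₗ[K] (ZMod p → K) := (ev p K).comp (degreeLT K r).subtype
  have hφinj : Function.Injective φ := by
    intro P Q hPQ
    apply Subtype.ext
    have h1 : (P : K[X]).degree < p :=
      lt_of_lt_of_le (mem_degreeLT.mp P.2) (by exact_mod_cast hrp)
    have h2 : (Q : K[X]).degree < p :=
      lt_of_lt_of_le (mem_degreeLT.mp Q.2) (by exact_mod_cast hrp)
    exact ev_injective _ _ h1 h2 hPQ
  have hrange : LinearMap.range φ = W := by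
    ext f
    rw [hiff f, LinearMap.mem_range]
    constructor
    · rintro ⟨P, rfl⟩
      exact ⟨P.1, mem_degreeLT.mp P.2, fun j => rfl⟩
    · rintro ⟨P, hP, hPf⟩
      refine ⟨⟨P, mem_degreeLT.mpr hP⟩, ?_⟩
      ext j
      exact (hPf j).symm
  rw [← hrange, LinearMap.finrank_range_of_inj hφinj,
    LinearEquiv.finrank_eq (degreeLTEquiv K r), Module.finrank_fin_fun]

end Cfsg.Agent.S0673
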