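import Mathlib
import Cfsg.Statements.S0670

set_option autoImplicit false
set_option linter.style.haveILetI false
set_option linter.unusedSectionVars false
open Cfsg

namespace Cfsg.Agent.S0670

open MulAction

/-- A Sylow `p`-subgroup of a group acting transitively on `p ^ f` points is transitive. -/
theorem sylow_transitive {G : Type*} [Group G] [Finite G] {p f : ℕ} [hp : Fact p.Prime]
    {Ω : Type*} [Fintype Ω] [MulAction G Ω] [MulAction.IsPretransitive G Ω]
    (hcard : Fintype.card Ω = p ^ f) (P : Sylow p G) (x y : Ω) :
    ∃ g : G, g ∈ (P : Subgroup G) ∧ g • x = y := by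
  classical
  -- the order of G
  have hG : Nat.card G = p ^ f * Nat.card (stabilizer G x) := by
    rw [← Subgroup.index_mul_card (stabilizer G x), MulAction.index_stabilizer,
      MulAction.orbit_eq_univ, Set.ncard_univ, Nat.card_eq_fintype_card, hcard]
  have hPc : Nat.card (P : Subgroup G) = p ^ (Nat.card G).factorization p :=
    P.card_eq_multiplicity
  -- the stabilizer in P
  set St : Subgroup (P : Subgroup G) := stabilizer (P : Subgroup G) x with hSt
  have hStp : IsPGroup p St := P.isPGroup'.to_subgroup St
  obtain ⟨b, hb⟩ := hStp.exists_card_eq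
  have hle : St.map (P : Subgroup G).subtype ≤ stabilizer G x := by
    rintro _ ⟨g, hg, rfl⟩
    exact hg
  have hdvd : p ^ b ∣ Nat.card (stabilizer G x) := by
    rw [← hb, ← Subgroup.card_map_of_injective (Subgroup.subtype_injective _)]
    exact Subgroup.card_dvd_of_le hle
  have hfb : f + b ≤ (Nat.card G).factorization p := by
    rw [← hp.out.pow_dvd_iff_le_factorization Nat.card_pos.ne']
    rw [hG, pow_add]
    exact Nat.mul_dvd_mul_left _ hdvd
  -- the orbit of P
  have horb : (orbit (P : Subgroup G) x).ncard * p ^ b = p ^ (Nat.card G).factorization p := by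
    rw [← MulAction.index_stabilizer, ← hb, Subgroup.index_mul_card, hPc]
  have horb2 : p ^ f ≤ (orbit (P : Subgroup G) x).ncard := by
    have hpos : 0 < p ^ b := pow_pos hp.out.pos b
    have : p ^ f * p ^ b ≤ (orbit (P : Subgroup G) x).ncard * p ^ b := by
      rw [horb, ← pow_add]
      exact Nat.pow_le_pow_right hp.out.pos hfb
    exact Nat.le_of_mul_le_mul_right this hpos
  have huniv : orbit (P : Subgroup G) x = Set.univ := by
    apply Set.eq_univ_of_forall
    by_contra hne
    push Not at hne
    obtain ⟨z, hz⟩ := hne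
    have hlt : (orbit (P : Subgroup G) x).ncard < (Set.univ : Set Ω).ncard := by
      apply Set.ncard_lt_ncard _ (Set.toFinite _)
      exact ⟨Set.subset_univ _, fun h => hz (h (Set.mem_univ z))⟩
    rw [Set.ncard_univ, Nat.card_eq_fintype_card, hcard] at hlt
    omega
  have : y ∈ orbit (P : Subgroup G) x := by rw [huniv]; exact Set.mem_univ y
  obtain ⟨g, hg⟩ := this
  exact ⟨g.1, g.2, hg⟩

/-- In characteristic `p`, the permutation module of a transitive action of degree `p ^ f` has the line of constant functions as its only irreducible submodule: every non-zero subrepresentation contains it. -/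
theorem result {G : Type*} [Group G] [Finite G] {K : Type*} [Field K] {p f : ℕ} [Fact p.Prime] [CharP K p] {Ω : Type*} [Fintype Ω] [MulAction G Ω] [MulAction.IsPretransitive G Ω] (hf : 1 ≤ f) (hcard : Fintype.card Ω = p ^ f) (W : Subrepresentation (Cfsg.permRep K G Ω)) (hW : W.toSubmodule ≠ ⊥) : (Cfsg.permConstants K G Ω).toSubmodule ≤ W.toSubmodule := by
  classical
  have hpP : p.Prime := Fact.out
  obtain ⟨P⟩ : Nonempty (Sylow p G) := inferInstance
  obtain ⟨w, hwW, hw0⟩ := (Submodule.ne_bot_iff _).mp hW
  letI : Algebra (ZMod p) K := ZMod.algebra K p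
  let ρ : Representation K G (Ω → K) := Cfsg.permRep K G Ω
  have hsmul : ∀ (c : ZMod p) (m : Ω → K), c • m = (algebraMap (ZMod p) K c) • m := by
    intro c m
    ext x
    simp [Algebra.smul_def]
  let S : Set (Ω → K) := Set.range (fun g : (P : Subgroup G) => ρ (g : G) w)
  let M : Submodule (ZMod p) (Ω → K) := Submodule.span (ZMod p) S
  have hMW : ∀ m ∈ M, m ∈ W.toSubmodule := by
    intro m hm
    induction hm using Submodule.span_induction with
    | mem x hx =>
      obtain ⟨g, rfl⟩ := hx
      exact W.apply_mem_toSubmodule _ hwW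
    | zero => exact zero_mem _
    | add x y _ _ hx hy => exact add_mem hx hy
    | smul c x _ hx =>
      rw [hsmul]
      exact W.toSubmodule.smul_mem _ hx
  haveI hMfin : Finite M := by
    haveI : Module.Finite (ZMod p) M := Module.Finite.span_of_finite _ (Set.finite_range _)
    exact Module.finite_of_finite (ZMod p)
  have hinv : ∀ (g : (P : Subgroup G)) (m : Ω → K), m ∈ M → ρ (g : G) m ∈ M := by
    intro g m hm
    induction hm using Submodule.span_induction with
    | mem x hx =>
      obtain ⟨h, rfl⟩ := hx
      apply Submodule.subset_span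
      refine ⟨g * h, ?_⟩
      simp only [Subgroup.coe_mul, map_mul, Module.End.mul_apply]
    | zero => rw [map_zero]; exact zero_mem _
    | add x y _ _ hx hy => rw [map_add]; exact add_mem hx hy
    | smul c x _ hx =>
      rw [hsmul, map_smul, ← hsmul]
      exact M.smul_mem _ hx
  letI : MulAction (P : Subgroup G) M :=
    { smul := fun g m => ⟨ρ (g : G) m.1, hinv g m.1 m.2⟩
      one_smul := fun m => by
        apply Subtype.ext
        show ρ ((1 : (P : Subgroup G)) : G) m.1 = m.1
        simp
      mul_smul := fun g h m => by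
        apply Subtype.ext
        show ρ ((g * h : (P : Subgroup G)) : G) m.1 = ρ (g : G) (ρ (h : G) m.1)
        simp only [Subgroup.coe_mul, map_mul, Module.End.mul_apply] }
  have hwM : w ∈ M := by
    apply Submodule.subset_span
    refine ⟨1, ?_⟩
    simp
  have hdvd : p ∣ Nat.card M := by
    haveI : Module.Finite (ZMod p) M := Module.Finite.span_of_finite _ (Set.finite_range _)
    rw [Module.natCard_eq_pow_finrank (K := ZMod p) (V := M), Nat.card_zmod]
    apply dvd_pow_self
    intro h0
    have := (Module.finrank_eq_zero_iff_of_free (R := ZMod p) (M := M)).mp h0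
    have h1 : (⟨w, hwM⟩ : M) = 0 := Subsingleton.elim _ _
    exact hw0 (congrArg Subtype.val h1)
  have hzero : (0 : M) ∈ MulAction.fixedPoints (P : Subgroup G) M := by
    intro g
    apply Subtype.ext
    show ρ (g : G) (0 : Ω → K) = 0
    rw [map_zero]
  obtain ⟨m, hm, hm0⟩ :=
    P.isPGroup'.exists_fixed_point_of_prime_dvd_card_of_fixed_point M hdvd hzero
  -- m is a nonzero constant function in W
  have hmW := hMW m.1 m.2
  have hfix : ∀ g : G, g ∈ (P : Subgroup G) → ∀ x : Ω, m.1 (g⁻¹ • x) = m.1 x := by
    intro g hg x
    have := hm ⟨g, hg⟩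
    have h2 := congrArg Subtype.val this
    exact congrFun h2 x
  have hconst : ∀ x y : Ω, m.1 x = m.1 y := by
    intro x y
    obtain ⟨g, hg, hgx⟩ := sylow_transitive hcard P y x
    have := hfix g hg x
    rw [← hgx, inv_smul_smul] at this
    rw [← hgx]
    exact this.symm
  have hne : ∃ x : Ω, m.1 x ≠ 0 := by
    by_contra hall
    push Not at hall
    apply hm0
    apply Subtype.ext
    show (0 : Ω → K) = m.1
    ext x
    exact (hall x).symm
  obtain ⟨x₀, hx₀⟩ := hne
  show Submodule.span K {fun _ => (1 : K)} ≤ W.toSubmodule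
  rw [Submodule.span_le, Set.singleton_subset_iff]
  have : (fun _ : Ω => (1 : K)) = (m.1 x₀)⁻¹ • m.1 := by
    ext y
    simp only [Pi.smul_apply, smul_eq_mul]
    rw [hconst y x₀, inv_mul_cancel₀ hx₀]
  rw [this]
  exact W.toSubmodule.smul_mem _ hmW

end Cfsg.Agent.S0670
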