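import Mathlib
import Cfsg.Statements.S0671
import Cfsg.Agent.S0670

set_option autoImplicit false
set_option linter.style.haveILetI false
set_option linter.unusedSectionVars false
open Cfsg

namespace Cfsg.Agent.S0671

open MulAction Classical

section
variable (G : Type*) [Group G] {K : Type*} [Field K] {Ω : Type*} [Fintype Ω] [MulAction G Ω]

/-- The orbital of the pair `(a, b)`. -/
def Orb (a b x y : Ω) : Prop := ∃ g : G, g • a = x ∧ g • b = y

theorem Orb_smul (a b x y : Ω) (g : G) : Orb G a b (g • x) (g • y) ↔ Orb G a b x y := by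
  constructor
  · rintro ⟨h, h1, h2⟩
    refine ⟨g⁻¹ * h, ?_, ?_⟩
    · rw [mul_smul, h1, inv_smul_smul]
    · rw [mul_smul, h2, inv_smul_smul]
  · rintro ⟨h, h1, h2⟩
    refine ⟨g * h, ?_, ?_⟩
    · rw [mul_smul, h1]
    · rw [mul_smul, h2]

/-- The adjacency operator of the orbital, minus `c` times the identity. -/
noncomputable def adj (a b : Ω) (c : K) : (Ω → K) →ₗ[K] (Ω → K) where
  toFun f x := (∑ y, if Orb G a b x y then f y else 0) - c * f x
  map_add' f₁ f₂ := by
    ext x
    simp only [Pi.add_apply]
    rw [show (∑ y, if Orb G a b x y then f₁ y + f₂ y else 0) =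
      (∑ y, if Orb G a b x y then f₁ y else 0) + ∑ y, if Orb G a b x y then f₂ y else 0 by
        rw [← Finset.sum_add_distrib]
        apply Finset.sum_congr rfl
        intro y _
        split_ifs <;> simp]
    ring
  map_smul' r f := by
    ext x
    simp only [Pi.smul_apply, smul_eq_mul, RingHom.id_apply]
    rw [show (∑ y, if Orb G a b x y then r * f y else 0) =
      r * ∑ y, if Orb G a b x y then f y else 0 by
        rw [Finset.mul_sum]
        apply Finset.sum_congr rfl
        intro y _
        split_ifs <;> simp]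
    ring

theorem adj_apply (a b : Ω) (c : K) (f : Ω → K) (x : Ω) :
    adj G a b c f x = (∑ y, if Orb G a b x y then f y else 0) - c * f x := rfl

theorem adj_equivariant (a b : Ω) (c : K) (g : G) (f : Ω → K) :
    adj G a b c (Cfsg.permRep K G Ω g f) = Cfsg.permRep K G Ω g (adj G a b c f) := by
  ext x
  show (∑ y, if Orb G a b x y then f (g⁻¹ • y) else 0) - c * f (g⁻¹ • x) =
    (∑ y, if Orb G a b (g⁻¹ • x) y then f y else 0) - c * f (g⁻¹ • x)
  congr 1
  refine Fintype.sum_equiv (MulAction.toPerm g⁻¹) _ _ (fun y => ?_)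
  have : Orb G a b (g⁻¹ • x) (g⁻¹ • y) ↔ Orb G a b x y := Orb_smul G a b x y g⁻¹
  simp only [MulAction.toPerm_apply]
  by_cases h : Orb G a b x y
  · rw [if_pos h, if_pos (this.mpr h)]
  · rw [if_neg h, if_neg (fun h' => h (this.mp h'))]

/-- The valency of the orbital. -/
noncomputable def val (K : Type*) [Field K] (a b x : Ω) : K :=
  ∑ y, if Orb G a b x y then (1 : K) else 0

theorem val_smul (a b x : Ω) (g : G) : val G K a b (g • x) = val G K a b x := by
  unfold val
  symm
  refine Fintype.sum_equiv (MulAction.toPerm g) _ _ (fun y => ?_)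
  have : Orb G a b (g • x) (g • y) ↔ Orb G a b x y := Orb_smul G a b x y g
  simp only [MulAction.toPerm_apply]
  by_cases h : Orb G a b x y
  · rw [if_pos h, if_pos (this.mpr h)]
  · rw [if_neg h, if_neg (fun h' => h (this.mp h'))]

theorem val_const [MulAction.IsPretransitive G Ω] (a b x : Ω) : val G K a b x = val G K a b a := by
  obtain ⟨g, rfl⟩ := MulAction.exists_smul_eq G a x
  exact val_smul G a b a g

theorem adj_one [MulAction.IsPretransitive G Ω] (a b : Ω) :
    adj G a b (val G K a b a) (fun _ => (1 : K)) = 0 := by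
  ext x
  rw [adj_apply]
  simp only [mul_one, Pi.zero_apply]
  rw [sub_eq_zero]
  exact val_const G a b x

end

/-- If the heart of the permutation module in characteristic `p` of a transitive action of degree `p ^ f` has no trivial composition factor, the action is doubly transitive. The hypothesis is phrased without composition series: no invariant subspaces `W < W'` between the constants and the sum-zero functions with trivial action on the quotient. -/
theorem result {G : Type*} [Group G] [Finite G] {K : Type*} [Field K] {p f : ℕ} [Fact p.Prime] [CharP K p] {Ω : Type*} [Fintype Ω] [MulAction G Ω] [MulAction.IsPretransitive G Ω] (hf : 1 ≤ f) (hcard : Fintype.card Ω = p ^ f) (h : ∀ W W' : Subrepresentation (Cfsg.permRep K G Ω), (Cfsg.permConstants K G Ω).toSubmodule ≤ W.toSubmodule → W.toSubmodule < W'.toSubmodule → W'.toSubmodule ≤ (Cfsg.permSumZero K G Ω).toSubmodule → ∃ g : G, ∃ v ∈ W'.toSubmodule, Cfsg.permRep K G Ω g v - v ∉ W.toSubmodule) : MulAction.IsMultiplyPretransitive G Ω 2 := by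
  classical
  rw [MulAction.is_two_pretransitive_iff]
  intro a b c d hab hcd
  by_contra hno
  -- the orbital of (a, b) does not contain (c, d)
  have hcdO : ¬ Orb G a b c d := hno
  obtain ⟨g₀, hg₀⟩ := MulAction.exists_smul_eq G c a
  set b' : Ω := g₀ • d with hb'
  have hab' : a ≠ b' := by
    rw [hb', ← hg₀]
    exact fun h' => hcd (smul_left_cancel g₀ h')
  have hab'O : ¬ Orb G a b a b' := by
    have hiff : Orb G a b (g₀ • c) (g₀ • d) ↔ Orb G a b c d := Orb_smul G a b c d g₀
    rw [hg₀] at hiff
    exact fun h' => hcdO (hiff.mp h')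
  have habO : Orb G a b a b := ⟨1, one_smul _ _, one_smul _ _⟩
  set ψ : (Ω → K) →ₗ[K] (Ω → K) := adj G a b (val G K a b a) with hψ
  have hψeq : ∀ (g : G) (v : Ω → K), ψ (Cfsg.permRep K G Ω g v) = Cfsg.permRep K G Ω g (ψ v) :=
    fun g v => adj_equivariant G a b _ g v
  have hψ1 : ψ (fun _ => (1 : K)) = 0 := adj_one G a b
  -- constants are fixed by the action
  have hconstfix : ∀ (g : G) (v : Ω → K), v ∈ (Cfsg.permConstants K G Ω).toSubmodule →
      Cfsg.permRep K G Ω g v = v := by
    intro g v hv
    have hv' : v ∈ Submodule.span K {fun _ : Ω => (1 : K)} := hv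
    rw [Submodule.mem_span_singleton] at hv'
    obtain ⟨r, rfl⟩ := hv'
    ext x
    rfl
  -- the all-ones function has sum zero
  have hone_sz : (fun _ : Ω => (1 : K)) ∈ (Cfsg.permSumZero K G Ω).toSubmodule := by
    show (∑ _x : Ω, (1 : K)) = 0
    rw [Finset.sum_const, Finset.card_univ, hcard, nsmul_eq_mul, mul_one, Nat.cast_pow,
      CharP.cast_eq_zero K p, zero_pow (by omega)]
  have hconst_sz : (Cfsg.permConstants K G Ω).toSubmodule ≤ (Cfsg.permSumZero K G Ω).toSubmodule := by
    show Submodule.span K {fun _ : Ω => (1 : K)} ≤ _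
    rw [Submodule.span_le, Set.singleton_subset_iff]
    exact hone_sz
  -- the three subrepresentations
  let W : Subrepresentation (Cfsg.permRep K G Ω) :=
    { toSubmodule := LinearMap.ker ψ ⊓ (Cfsg.permSumZero K G Ω).toSubmodule
      apply_mem_toSubmodule := by
        intro g v hv
        have hv' := Submodule.mem_inf.mp hv
        refine Submodule.mem_inf.mpr
          ⟨?_, (Cfsg.permSumZero K G Ω).apply_mem_toSubmodule g hv'.2⟩
        rw [LinearMap.mem_ker, hψeq, LinearMap.mem_ker.mp hv'.1, map_zero] }
  let W' : Subrepresentation (Cfsg.permRep K G Ω) :=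
    { toSubmodule := (Cfsg.permConstants K G Ω).toSubmodule.comap ψ ⊓
        (Cfsg.permSumZero K G Ω).toSubmodule
      apply_mem_toSubmodule := by
        intro g v hv
        have hv' := Submodule.mem_inf.mp hv
        refine Submodule.mem_inf.mpr
          ⟨?_, (Cfsg.permSumZero K G Ω).apply_mem_toSubmodule g hv'.2⟩
        rw [Submodule.mem_comap, hψeq]
        exact (Cfsg.permConstants K G Ω).apply_mem_toSubmodule g (Submodule.mem_comap.mp hv'.1) }
  let U : Subrepresentation (Cfsg.permRep K G Ω) :=
    { toSubmodule := (Cfsg.permSumZero K G Ω).toSubmodule.map ψ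
      apply_mem_toSubmodule := by
        rintro g _ ⟨v, hv, rfl⟩
        refine ⟨Cfsg.permRep K G Ω g v, (Cfsg.permSumZero K G Ω).apply_mem_toSubmodule g hv, ?_⟩
        exact hψeq g v }
  -- U is non-zero
  have hU : U.toSubmodule ≠ ⊥ := by
    intro hbot
    set v : Ω → K := fun x => (if x = b then 1 else 0) - (if x = b' then 1 else 0) with hv
    have hvsz : v ∈ (Cfsg.permSumZero K G Ω).toSubmodule := by
      show (∑ x, v x) = 0
      simp [hv, Finset.sum_sub_distrib]
    have hψv : ψ v ∈ U.toSubmodule := ⟨v, hvsz, rfl⟩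
    rw [hbot, Submodule.mem_bot] at hψv
    have h1 := congrFun hψv a
    rw [hψ, adj_apply] at h1
    have hva : v a = 0 := by
      simp [hv, hab, hab']
    have hsum : (∑ y, if Orb G a b a y then v y else 0) = 1 := by
      have : ∀ y, (if Orb G a b a y then v y else 0) = if y = b then (1 : K) else 0 := by
        intro y
        by_cases hyb : y = b
        · subst hyb
          rw [if_pos habO, if_pos rfl]
          have : y ≠ b' := fun h' => hab'O (h' ▸ habO)
          simp [hv, this]
        · rw [if_neg hyb]
          by_cases hyb' : y = b'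
          · subst hyb'
            rw [if_neg hab'O]
          · simp [hv, hyb, hyb']
      simp [this]
    rw [hsum, hva, mul_zero, sub_zero] at h1
    exact one_ne_zero h1
  have hcU := Cfsg.Agent.S0670.result hf hcard U hU
  have honeU : (fun _ : Ω => (1 : K)) ∈ U.toSubmodule :=
    hcU (Submodule.subset_span (Set.mem_singleton _))
  obtain ⟨v, hvsz, hv1⟩ := honeU
  have hWW' : W.toSubmodule < W'.toSubmodule := by
    refine lt_of_le_of_ne ?_ ?_
    · intro u hu
      have hu' := Submodule.mem_inf.mp hu
      refine Submodule.mem_inf.mpr ⟨?_, hu'.2⟩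
      rw [Submodule.mem_comap, LinearMap.mem_ker.mp hu'.1]
      exact zero_mem _
    · intro heq
      have hvW' : v ∈ W'.toSubmodule := by
        refine Submodule.mem_inf.mpr ⟨?_, hvsz⟩
        rw [Submodule.mem_comap, hv1]
        exact Submodule.subset_span (Set.mem_singleton _)
      rw [← heq] at hvW'
      have h0 := LinearMap.mem_ker.mp (Submodule.mem_inf.mp hvW').1
      rw [hv1] at h0
      have := congrFun h0 a
      exact one_ne_zero this
  have hcW : (Cfsg.permConstants K G Ω).toSubmodule ≤ W.toSubmodule := by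
    show Submodule.span K {fun _ : Ω => (1 : K)} ≤ _
    rw [Submodule.span_le, Set.singleton_subset_iff]
    exact Submodule.mem_inf.mpr ⟨LinearMap.mem_ker.mpr hψ1, hone_sz⟩
  obtain ⟨g, u, huW', hnot⟩ := h W W' hcW hWW' inf_le_right
  apply hnot
  have hu' := Submodule.mem_inf.mp huW'
  refine Submodule.mem_inf.mpr
    ⟨?_, sub_mem ((Cfsg.permSumZero K G Ω).apply_mem_toSubmodule g hu'.2) hu'.2⟩
  rw [LinearMap.mem_ker, map_sub, hψeq, hconstfix g _ (Submodule.mem_comap.mp hu'.1), sub_self]

end Cfsg.Agent.S0671
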