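import Cfsg.Statements.S0110
import Cfsg.Agent.Lib.Helper17.ClassTwoP
open Cfsg.Agent.Lib.Helper17
open scoped commutatorElement

set_option autoImplicit false
open Cfsg

namespace Cfsg.Agent.S0110

/-- In a p-group G, an extraspecial subgroup E with [G, E] ≤ Z(E) satisfies G = E C_G(E). -/
theorem result {G : Type*} [Group G] [Finite G] {p : ℕ} [Fact p.Prime] (hG : IsPGroup p G) (E : Subgroup G) (hE : Cfsg.IsExtraspecial p E) (h : ⁅(⊤ : Subgroup G), E⁆ ≤ E ⊓ Subgroup.centralizer (E : Set G)) : E ⊔ Subgroup.centralizer (E : Set G) = ⊤ := by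
  classical
  obtain ⟨⟨hP, hfr, hco⟩, hZ⟩ := hE
  have hcommE : ∀ a b : E, ⁅a, b⁆ ∈ Subgroup.center E := by
    intro a b
    rw [← hco, commutator_def]
    exact Subgroup.commutator_mem_commutator (Subgroup.mem_top a) (Subgroup.mem_top b)
  rw [eq_top_iff]
  intro g _
  have hlam_mem : ∀ e : E, ⁅g, (e : G)⁆ ∈ E ⊓ Subgroup.centralizer (E : Set G) :=
    fun e => h (Subgroup.commutator_mem_commutator (Subgroup.mem_top g) e.2)
  have hcen : ∀ e : E, (⟨⁅g, (e : G)⁆, (hlam_mem e).1⟩ : E) ∈ Subgroup.center E := by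
    intro e
    rw [Subgroup.mem_center_iff]
    intro a
    apply Subtype.ext
    show (a : G) * ⁅g, (e : G)⁆ = ⁅g, (e : G)⁆ * a
    exact Subgroup.mem_centralizer_iff.mp (hlam_mem e).2 a a.2
  let lam : E →* Subgroup.center E :=
    { toFun := fun e => ⟨⟨⁅g, (e : G)⁆, (hlam_mem e).1⟩, hcen e⟩
      map_one' := by
        apply Subtype.ext
        apply Subtype.ext
        show ⁅g, ((1 : E) : G)⁆ = 1
        rw [Subgroup.coe_one, commutatorElement_one_right]
      map_mul' := by
        intro a b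
        apply Subtype.ext
        apply Subtype.ext
        show ⁅g, ((a * b : E) : G)⁆ = ⁅g, (a : G)⁆ * ⁅g, (b : G)⁆
        rw [Subgroup.coe_mul]
        have hc : (a : G) * ⁅g, (b : G)⁆ = ⁅g, (b : G)⁆ * a :=
          Subgroup.mem_centralizer_iff.mp (hlam_mem b).2 a a.2
        have e1 : ⁅g, (a : G) * b⁆ = ⁅g, (a : G)⁆ * ((a : G) * ⁅g, (b : G)⁆ * (a : G)⁻¹) := by
          simp only [commutatorElement_def]
          group
        rw [e1, hc, mul_inv_cancel_right] }
  have hlamZ : ∀ z ∈ Subgroup.center E, lam z = 1 := by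
    intro z hz
    have h1 : commutator E ≤ lam.ker := by
      rw [commutator_eq_closure, Subgroup.closure_le]
      rintro x ⟨a, b, rfl⟩
      rw [SetLike.mem_coe, MonoidHom.mem_ker, map_commutatorElement,
        commutatorElement_eq_one_iff_mul_comm]
      apply Subtype.ext
      exact Subgroup.mem_center_iff.mp (lam b).2 (lam a)
    rw [hco] at h1
    exact MonoidHom.mem_ker.mp (h1 hz)
  haveI : Fintype E := Fintype.ofFinite E
  obtain ⟨u, hu⟩ := exists_commutator_eq_of_hom hZ hcommE lam hlamZ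
  have hu' : ∀ e : E, ⁅g, (e : G)⁆ = ⁅(u : G), (e : G)⁆ := by
    intro e
    have := congrArg Subtype.val (hu e)
    exact this
  have hdec : g = (u : G) * ((u : G)⁻¹ * g) := by group
  rw [hdec]
  apply Subgroup.mul_mem_sup u.2
  rw [Subgroup.mem_centralizer_iff]
  intro e he
  have h1 := hu' ⟨e, he⟩
  simp only [commutatorElement_def] at h1
  have h2 : g * e * g⁻¹ = (u : G) * e * (u : G)⁻¹ := by
    calc g * e * g⁻¹ = (g * e * g⁻¹ * e⁻¹) * e := by group
      _ = ((u : G) * e * (u : G)⁻¹ * e⁻¹) * e := by rw [h1]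
      _ = (u : G) * e * (u : G)⁻¹ := by group
  calc e * ((u : G)⁻¹ * g) = (u : G)⁻¹ * ((u : G) * e * (u : G)⁻¹) * g := by group
    _ = (u : G)⁻¹ * (g * e * g⁻¹) * g := by rw [h2]
    _ = (u : G)⁻¹ * g * e := by group

end Cfsg.Agent.S0110
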