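import Cfsg.Statements.S0384
import Cfsg.Agent.Lib.Helper21.GolayM12Gen

set_option autoImplicit false
open scoped Pointwise
open Cfsg

namespace Cfsg.Agent.S0384

/-- A dodecad stabiliser is sharply 5-transitive on the dodecad. -/
theorem result (d : Finset Cfsg.GolayPt) (hd : d ∈ Cfsg.dodecads) (x y : Fin 5 ↪ Cfsg.GolayPt) (hx : ∀ i, x i ∈ d) (hy : ∀ i, y i ∈ d) : ∃! g : MulAction.stabilizer Cfsg.M24 d, ∀ i, ((g : Cfsg.M24) : Equiv.Perm Cfsg.GolayPt) (x i) = y i := by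
  obtain ⟨g, hg, hgd, hgx⟩ := Cfsg.Agent.Lib.Helper21.dodecad_stab_trans le_rfl d hd x y hx hy
  refine ⟨⟨⟨g, hg⟩, hgd⟩, hgx, ?_⟩
  intro g' hg'
  have h1 : (((g' : Cfsg.M24) : Equiv.Perm Cfsg.GolayPt))⁻¹ * g = 1 := by
    apply Cfsg.Agent.Lib.Helper21.dodecad_stab_unique d hd x hx
    · exact Cfsg.M24.mul_mem (Cfsg.M24.inv_mem (g' : Cfsg.M24).2) hg
    · rw [mul_smul, hgd, inv_smul_eq_iff]
      exact g'.2.symm
    · intro i
      rw [Equiv.Perm.mul_apply, hgx i, ← hg' i]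
      exact Cfsg.Agent.Lib.Helper21.perm_inv_apply _ _
  apply Subtype.ext
  apply Subtype.ext
  show ((g' : Cfsg.M24) : Equiv.Perm Cfsg.GolayPt) = g
  exact (inv_mul_eq_one.1 h1)

end Cfsg.Agent.S0384
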