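import Cfsg.Statements.S0385
import Cfsg.Agent.Lib.Helper21.GolayDodecads

set_option autoImplicit false
open Cfsg

namespace Cfsg.Agent.S0385

/-- The 6-point intersections of octads with a fixed dodecad form a Steiner system S(5, 6, 12) on the dodecad. -/
theorem result (d : Finset Cfsg.GolayPt) (hd : d ∈ Cfsg.dodecads) : Cfsg.IsSteinerSystem 5 6 {h : Finset {p : Cfsg.GolayPt // p ∈ d} | ∃ o ∈ Cfsg.octads, (o ∩ d).card = 6 ∧ h = Finset.subtype (fun p => p ∈ d) o} := by
  classical
  constructor
  · rintro h ⟨o, ho, ho6, rfl⟩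
    rw [Finset.card_subtype]
    have : o.filter (fun p => p ∈ d) = o ∩ d := by
      ext x; simp [Finset.mem_inter]
    rw [this, ho6]
  · intro s hs
    -- the five points, as a subset of the 24 points
    set S : Finset Cfsg.GolayPt := s.map (Function.Embedding.subtype _) with hS
    have hScard : S.card = 5 := by rw [hS, Finset.card_map, hs]
    have hSd : S ⊆ d := by
      intro x hx
      rw [hS, Finset.mem_map] at hx
      obtain ⟨y, _, rfl⟩ := hx
      exact y.2
    obtain ⟨o, ⟨hoB, hSo⟩, huniq⟩ := Cfsg.Agent.Lib.Helper21.octads_steiner.2 S hScard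
    have ho6 : (o ∩ d).card = 6 := by
      have hge : 5 ≤ (d ∩ o).card := by
        rw [← hScard]
        exact Finset.card_le_card (Finset.subset_inter hSd hSo)
      rw [Finset.inter_comm]
      rcases Cfsg.Agent.Lib.Helper21.octad_inter_dodecad hoB hd with h | h | h <;> omega
    have hsub : ∀ c : Finset Cfsg.GolayPt, (s ⊆ Finset.subtype (fun p => p ∈ d) c) ↔ S ⊆ c := by
      intro c
      constructor
      · intro h x hx
        rw [hS, Finset.mem_map] at hx
        obtain ⟨y, hy, rfl⟩ := hx
        have := h hy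
        rw [Finset.mem_subtype] at this
        exact this
      · intro h y hy
        rw [Finset.mem_subtype]
        exact h (Finset.mem_map_of_mem _ hy)
    refine ⟨Finset.subtype (fun p => p ∈ d) o, ⟨⟨o, hoB, ho6, rfl⟩, (hsub o).2 hSo⟩, ?_⟩
    rintro h' ⟨⟨o', ho'B, _, rfl⟩, hso'⟩
    rw [huniq o' ⟨ho'B, (hsub o').1 hso'⟩]

end Cfsg.Agent.S0385
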