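import Mathlib
import Cfsg.Statements.S0418
import Cfsg.Agent.Lib.Helper18.PrimeDegree4

set_option autoImplicit false
set_option linter.style.haveILetI false
set_option maxHeartbeats 400000
open Cfsg

namespace Cfsg.Agent.S0418

open MulAction Cfsg.Agent.Lib.Helper18.PrimeDegree

theorem prime_eleven : Fact (Nat.Prime 11) := ⟨by norm_num⟩

/-- The order of a sharply `n`-transitive group. -/
theorem card_of_sharp {α : Type*} [Fintype α] [DecidableEq α] (G : Subgroup (Equiv.Perm α))
    (n : ℕ) (hn : n ≤ Fintype.card α) (h : IsMultiplyPretransitive G α n)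
    (hsharp : ∀ x : Fin n ↪ α, MulAction.stabilizer G x = ⊥) :
    Nat.card G = (Fintype.card α).descFactorial n := by
  have h' : IsPretransitive G (Fin n ↪ α) := h
  haveI : Nonempty (Fin n ↪ α) := by
    apply Function.Embedding.nonempty_of_card_le
    rw [Fintype.card_fin]; exact hn
  obtain ⟨x₀⟩ := ‹Nonempty (Fin n ↪ α)›
  letI inst : MulAction G (Fin n ↪ α) := Function.Embedding.instMulAction
  have h1 : @orbit G (Fin n ↪ α) inst.toSMul x₀ = Set.univ := by
    ext y
    simp only [Set.mem_univ, iff_true]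
    obtain ⟨g, hg⟩ := h'.exists_smul_eq x₀ y
    exact ⟨g, hg⟩
  have h2 := Subgroup.index_mul_card (@stabilizer G (Fin n ↪ α) _ inst x₀)
  rw [MulAction.index_stabilizer, h1, Set.ncard_univ, Nat.card_eq_fintype_card,
    Fintype.card_embedding_eq, Fintype.card_fin] at h2
  have h3 : @stabilizer G (Fin n ↪ α) _ inst x₀ = ⊥ := hsharp x₀
  rw [h3, Subgroup.card_bot, mul_one] at h2
  exact h2.symm

theorem arith_k (k n : ℕ) (hk : k ∣ 10) (hn : n % 11 = 1) (h : 7920 = 11 * k * n) : k = 5 := by
  obtain ⟨c, hc⟩ := hk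
  have hk10 : k ≤ 10 := Nat.le_of_dvd (by norm_num) ⟨c, hc⟩
  have hk0 : 0 < k := by
    rcases Nat.eq_zero_or_pos k with h0 | h0
    · rw [h0] at hc; omega
    · exact h0
  interval_cases k <;> omega

theorem arith_k' (k n : ℕ) (hk : k ∣ 10) (hn : n % 11 = 1) (h : 1584 = 11 * k * n) : k = 1 := by
  obtain ⟨c, hc⟩ := hk
  have hk10 : k ≤ 10 := Nat.le_of_dvd (by norm_num) ⟨c, hc⟩
  have hk0 : 0 < k := by
    rcases Nat.eq_zero_or_pos k with h0 | h0
    · rw [h0] at hc; omega
    · exact h0
  interval_cases k <;> omega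

/-- A transitive group of degree 11 and order 7920 is simple. -/
theorem simple_of_card {α : Type*} [Fintype α] [DecidableEq α] (hα : Fintype.card α = 11)
    (G : Subgroup (Equiv.Perm α)) [MulAction.IsPretransitive G α]
    (hcard : Nat.card G = 7920) : IsSimpleGroup G := by
  classical
  haveI := prime_eleven
  haveI : Nontrivial G := by
    rw [← Finite.one_lt_card_iff_nontrivial, hcard]; norm_num
  refine ⟨fun N hN => ?_⟩
  by_contra hcon
  push_neg at hcon
  obtain ⟨hbot, htop⟩ := hcon
  haveI := hN
  obtain ⟨Q, hQ⟩ := index_dvd_relIndex_of_normal_ne_bot hα G N hbot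
  obtain ⟨k, hk, hNQ⟩ := card_normalizer hα G Q
  obtain ⟨n, hn, hGn⟩ := card_eq_normalizer_mul G Q
  have hQcard := sylow_card hα G Q
  have hk5 : k = 5 := by
    apply arith_k k n hk hn
    rw [← hcard, hGn, hNQ]
  have hrel : (Q : Subgroup G).relIndex (Subgroup.normalizer ((Q : Subgroup G) : Set G)) = 5 := by
    have h1 := Subgroup.relIndex_mul_relIndex ⊥ (Q : Subgroup G)
      (Subgroup.normalizer ((Q : Subgroup G) : Set G)) bot_le Subgroup.le_normalizer
    rw [Subgroup.relIndex_bot_left, Subgroup.relIndex_bot_left, hQcard, hNQ, hk5] at h1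
    omega
  rw [hrel] at hQ
  have hidx5 : N.index = 5 := by
    rcases (Nat.dvd_prime (by norm_num : Nat.Prime 5)).mp hQ with h | h
    · exact absurd (Subgroup.index_eq_one.mp h) htop
    · exact h
  have hNcard : Nat.card N = 1584 := by
    have := Subgroup.index_mul_card N
    rw [hidx5, hcard] at this
    omega
  set N' : Subgroup (Equiv.Perm α) := N.map G.subtype with hN'
  have hN'card : Nat.card N' = 1584 := by
    rw [hN', Subgroup.card_map_of_injective G.subtype_injective, hNcard]
  haveI : IsPretransitive N' α := isPretransitive_map_of_normal_ne_bot hα G N hbot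
  let Q' : Sylow 11 N' := default
  obtain ⟨k', hk', hNQ'⟩ := card_normalizer hα N' Q'
  obtain ⟨n', hn', hGn'⟩ := card_eq_normalizer_mul N' Q'
  have hk1 : k' = 1 := by
    apply arith_k' k' n' hk' hn'
    rw [← hN'card, hGn', hNQ']
  rw [hk1, mul_one] at hNQ'
  have := card_eq_prime_of_card_normalizer hα N' Q' hNQ'
  rw [hN'card] at this
  omega

/-- A sharply 4-transitive group of degree 11 is simple of order 7920. -/
theorem result {α : Type*} [Fintype α] [DecidableEq α] (hα : Fintype.card α = 11) (G : Subgroup (Equiv.Perm α)) [MulAction.IsMultiplyPretransitive G α 4] (hsharp : ∀ x : Fin 4 ↪ α, MulAction.stabilizer G x = ⊥) : Cfsg.IsM11 G := by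
  classical
  have h4 : IsMultiplyPretransitive G α 4 := inferInstance
  have hcard : Nat.card G = 7920 := by
    rw [card_of_sharp G 4 (by rw [hα]; norm_num) h4 hsharp, hα]
    decide
  haveI : IsPretransitive G α := by
    rw [← is_one_pretransitive_iff]
    exact isMultiplyPretransitive_of_le (n := 4) (by norm_num)
      (by rw [Nat.card_eq_fintype_card, hα]; norm_num)
  exact ⟨simple_of_card hα G hcard, hcard⟩

end Cfsg.Agent.S0418
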