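import Mathlib
import Cfsg.Statements.S0419
import Cfsg.Agent.S0418

set_option autoImplicit false
set_option linter.style.haveILetI false
set_option maxHeartbeats 400000
open Cfsg

namespace Cfsg.Agent.S0419

open MulAction

/-- A 2-transitive group of degree 12 and order 95040 is simple. -/
theorem simple_of_card {α : Type*} [Fintype α] [DecidableEq α] (hα : Fintype.card α = 12)
    (G : Subgroup (Equiv.Perm α)) (h2 : IsMultiplyPretransitive G α 2)
    (hcard : Nat.card G = 95040) : IsSimpleGroup G := by
  classical
  have h2' := h2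
  rw [is_two_pretransitive_iff] at h2'
  haveI : IsPreprimitive G α := isPreprimitive_of_is_two_pretransitive h2
  haveI : IsPretransitive G α := isPretransitive_of_is_two_pretransitive
  haveI : Nontrivial G := by
    rw [← Finite.one_lt_card_iff_nontrivial, hcard]; norm_num
  haveI : Nonempty α := Fintype.card_pos_iff.mp (by rw [hα]; norm_num)
  obtain ⟨a⟩ := ‹Nonempty α›
  -- the point stabilizer
  set H : Subgroup G := stabilizer G a with hH
  have hHcard : Nat.card H = 7920 := by
    have h := Subgroup.index_mul_card H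
    rw [hH, MulAction.index_stabilizer, MulAction.orbit_eq_univ, Set.ncard_univ,
      Nat.card_eq_fintype_card, hα, hcard] at h
    rw [hH]; omega
  -- its action on the remaining 11 points
  let α' := ↥(SubMulAction.ofStabilizer G a)
  haveI : Fintype α' := Fintype.ofFinite α'
  have hα' : Fintype.card α' = 11 := by
    rw [← Nat.card_eq_fintype_card, SubMulAction.nat_card_ofStabilizer_eq,
      Nat.card_eq_fintype_card, hα]
  let φ : H →* Equiv.Perm α' := MulAction.toPermHom H α'
  have hφ : ∀ (h : H) (x : α'), ((φ h) x : α) = ((h : G) : Equiv.Perm α) (x : α) := by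
    intro h x; rfl
  have hinj : Function.Injective φ := by
    rw [injective_iff_map_eq_one]
    intro h hh
    apply Subtype.ext
    apply Subtype.ext
    ext x
    by_cases hx : x = a
    · rw [hx]
      have : (h : G) • a = a := h.2
      exact this
    · have h1 := hφ h ⟨x, (SubMulAction.mem_ofStabilizer_iff G a).2 hx⟩
      rw [hh] at h1
      exact h1.symm
  set H' : Subgroup (Equiv.Perm α') := φ.range with hH'
  have hH'card : Nat.card H' = 7920 := by
    rw [← hHcard]
    exact (Nat.card_congr (MonoidHom.ofInjective hinj).toEquiv).symm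
  haveI : IsPretransitive H' α' := by
    constructor
    intro x y
    have hx : (x : α) ≠ a := (SubMulAction.mem_ofStabilizer_iff G a).1 x.2
    have hy : (y : α) ≠ a := (SubMulAction.mem_ofStabilizer_iff G a).1 y.2
    obtain ⟨g, hga, hgx⟩ := h2' (Ne.symm hx) (Ne.symm hy)
    refine ⟨⟨φ ⟨g, hga⟩, ⟨⟨g, hga⟩, rfl⟩⟩, ?_⟩
    apply Subtype.ext
    exact hgx
  haveI hsimp : IsSimpleGroup H' := Cfsg.Agent.S0418.simple_of_card hα' H' hH'card
  refine ⟨fun N hN => ?_⟩
  by_contra hcon
  push_neg at hcon
  obtain ⟨hbot, htop⟩ := hcon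
  haveI := hN
  have hfix : fixedPoints N α ≠ Set.univ := by
    intro hfix
    apply hbot
    rw [Subgroup.eq_bot_iff_forall]
    intro g hg
    apply Subtype.ext
    ext x
    have hx : x ∈ fixedPoints N α := by rw [hfix]; trivial
    exact hx ⟨g, hg⟩
  haveI : IsPretransitive N α := IsQuasiPreprimitive.isPretransitive_of_normal hfix
  -- the intersection of N with the point stabilizer
  set K : Subgroup H := N.subgroupOf H with hK
  haveI : K.Normal := Subgroup.Normal.subgroupOf hN H
  set K' : Subgroup H' := K.map φ.rangeRestrict with hK'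
  haveI : K'.Normal := Subgroup.Normal.map inferInstance _ φ.rangeRestrict_surjective
  have hrinj : Function.Injective φ.rangeRestrict := by
    intro x y hxy
    apply hinj
    have := congrArg Subtype.val hxy
    simpa using this
  rcases hsimp.eq_bot_or_eq_top_of_normal K' inferInstance with hKb | hKt
  · -- N is regular
    have hKbot : K = ⊥ := by
      rw [Subgroup.eq_bot_iff_forall]
      intro x hx
      apply hrinj
      have : φ.rangeRestrict x ∈ K' := Subgroup.mem_map_of_mem _ hx
      rw [hKb, Subgroup.mem_bot] at this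
      rw [this, map_one]
    have hreg : ∀ n : G, n ∈ N → n • a = a → n = 1 := by
      intro n hn hna
      have h1 : (⟨n, hna⟩ : H) ∈ K := by
        rw [hK, Subgroup.mem_subgroupOf]; exact hn
      rw [hKbot, Subgroup.mem_bot] at h1
      exact congrArg Subtype.val h1
    have hNcard : Nat.card N = 12 := by
      have h := Subgroup.index_mul_card (stabilizer N a)
      rw [MulAction.index_stabilizer, MulAction.orbit_eq_univ, Set.ncard_univ,
        Nat.card_eq_fintype_card, hα] at h
      have hst : stabilizer N a = ⊥ := by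
        rw [Subgroup.eq_bot_iff_forall]
        intro n hn
        apply Subtype.ext
        exact hreg n n.2 hn
      rw [hst, Subgroup.card_bot, mul_one] at h
      exact h.symm
    haveI : Fact (Nat.Prime 2) := ⟨Nat.prime_two⟩
    haveI : Fact (Nat.Prime 3) := ⟨Nat.prime_three⟩
    obtain ⟨n₂, hn₂⟩ := exists_prime_orderOf_dvd_card' (G := N) 2 (by rw [hNcard]; norm_num)
    obtain ⟨n₃, hn₃⟩ := exists_prime_orderOf_dvd_card' (G := N) 3 (by rw [hNcard]; norm_num)
    have hne : ∀ n : N, n ≠ 1 → (n : G) • a ≠ a := by
      intro n hn hna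
      apply hn
      apply Subtype.ext
      exact hreg n n.2 hna
    have hn₂1 : n₂ ≠ 1 := by
      intro h; rw [h, orderOf_one] at hn₂; omega
    have hn₃1 : n₃ ≠ 1 := by
      intro h; rw [h, orderOf_one] at hn₃; omega
    obtain ⟨h, hha, hhx⟩ := h2' (Ne.symm (hne n₂ hn₂1)) (Ne.symm (hne n₃ hn₃1))
    have hm : h * n₂ * h⁻¹ ∈ N := hN.conj_mem _ n₂.2 h
    have hma : (h * n₂ * h⁻¹) • a = (n₃ : G) • a := by
      rw [mul_smul, mul_smul]
      have : h⁻¹ • a = a := by rw [inv_smul_eq_iff, hha]
      rw [this, hhx]
    have heq : (n₃ : G)⁻¹ * (h * n₂ * h⁻¹) = 1 := by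
      apply hreg _ (N.mul_mem (N.inv_mem n₃.2) hm)
      rw [mul_smul, hma, inv_smul_smul]
    have heq' : h * n₂ * h⁻¹ = (n₃ : G) := by
      rw [inv_mul_eq_one] at heq; exact heq.symm
    have ho : orderOf ((n₃ : G)) = orderOf ((n₂ : G)) := by
      have hsc : SemiconjBy h (n₂ : G) (n₃ : G) := by
        rw [SemiconjBy, ← heq']; group
      exact (SemiconjBy.orderOf_eq h hsc).symm
    rw [Subgroup.orderOf_coe, Subgroup.orderOf_coe, hn₂, hn₃] at ho
    omega
  · -- N contains the point stabilizer, hence is everything
    apply htop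
    have hHN : H ≤ N := by
      intro x hx
      have h1 : φ.rangeRestrict ⟨x, hx⟩ ∈ K' := by rw [hKt]; trivial
      obtain ⟨y, hy, hyx⟩ := Subgroup.mem_map.1 h1
      have := hrinj hyx
      rw [this, hK, Subgroup.mem_subgroupOf] at hy
      exact hy
    rw [eq_top_iff]
    intro g _
    obtain ⟨n, hn⟩ := exists_smul_eq N a (g • a)
    have h1 : (n : G)⁻¹ * g ∈ H := by
      rw [hH, mem_stabilizer_iff, mul_smul, inv_smul_eq_iff]
      exact hn.symm
    have h2 : g = (n : G) * ((n : G)⁻¹ * g) := by group
    rw [h2]
    exact N.mul_mem n.2 (hHN h1)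

/-- A sharply 5-transitive group of degree 12 is simple of order 95040. -/
theorem result {α : Type*} [Fintype α] [DecidableEq α] (hα : Fintype.card α = 12) (G : Subgroup (Equiv.Perm α)) [MulAction.IsMultiplyPretransitive G α 5] (hsharp : ∀ x : Fin 5 ↪ α, MulAction.stabilizer G x = ⊥) : Cfsg.IsM12 G := by
  classical
  have h5 : IsMultiplyPretransitive G α 5 := inferInstance
  have hcard : Nat.card G = 95040 := by
    rw [Cfsg.Agent.S0418.card_of_sharp G 5 (by rw [hα]; norm_num) h5 hsharp, hα]
    decide
  have h2 : IsMultiplyPretransitive G α 2 :=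
    isMultiplyPretransitive_of_le (n := 5) (by norm_num)
      (by rw [Nat.card_eq_fintype_card, hα]; norm_num)
  exact ⟨simple_of_card hα G h2 hcard, hcard⟩

end Cfsg.Agent.S0419
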