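import Cfsg.Statements.S1592
import Cfsg.Agent.Lib.Helper28.TernaryGolay

set_option autoImplicit false
open Cfsg

namespace Cfsg.Agent.S1592

open Cfsg.Agent.Lib.Helper28.TGolay

theorem mem_supp {x : ArrayPt → ZMod 3} {p : ArrayPt} : p ∈ ternarySupport x ↔ x p ≠ 0 := by
  simp [ternarySupport]

theorem supp_neg (x : ArrayPt → ZMod 3) : ternarySupport (-x) = ternarySupport x := by
  ext p; simp [mem_supp]

/-- a word vanishing on three points of a seven-point set containing its support is light. -/
theorem supp_small (y : ArrayPt → ZMod 3) (U A : Finset ArrayPt) (hA : A ⊆ U) (hU : U.card ≤ 7)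
    (hA3 : 3 ≤ A.card) (h1 : ∀ p, y p ≠ 0 → p ∈ U) (h2 : ∀ p ∈ A, y p = 0) :
    (ternarySupport y).card < 6 := by
  have hsub : ternarySupport y ⊆ U \ A := by
    intro p hp
    rw [mem_supp] at hp
    rw [Finset.mem_sdiff]
    exact ⟨h1 p hp, fun hpA => hp (h2 p hpA)⟩
  have := Finset.card_le_card hsub
  rw [Finset.card_sdiff_of_subset hA] at this
  omega

theorem zmod3_cases : ∀ a b : ZMod 3, a ≠ 0 → b ≠ 0 → a ≠ b → a + b = 0 := by decide

/-- two hexad words sharing five support points are equal up to sign. -/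
theorem uniq {x1 x2 : ArrayPt → ZMod 3} (h1 : x1 ∈ ternaryGolayCode) (h2 : x2 ∈ ternaryGolayCode)
    (hw1 : (ternarySupport x1).card = 6) (hw2 : (ternarySupport x2).card = 6)
    (s : Finset ArrayPt) (hs : s.card = 5) (hs1 : s ⊆ ternarySupport x1)
    (hs2 : s ⊆ ternarySupport x2) : x2 = x1 ∨ x2 = -x1 := by
  classical
  obtain ⟨U, hUdef⟩ : ∃ U, U = ternarySupport x1 ∪ ternarySupport x2 := ⟨_, rfl⟩
  have hU : U.card ≤ 7 := by
    have h := Finset.card_union_add_card_inter (ternarySupport x1) (ternarySupport x2)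
    have h5 : 5 ≤ (ternarySupport x1 ∩ ternarySupport x2).card := by
      rw [← hs]
      exact Finset.card_le_card (Finset.subset_inter hs1 hs2)
    rw [hUdef]
    omega
  have hsU : s ⊆ U := by rw [hUdef]; exact hs1.trans Finset.subset_union_left
  have hsplit := Finset.card_filter_add_card_filter_not (s := s) (fun p => x1 p = x2 p)
  obtain ⟨A, hAdef⟩ : ∃ A, A = s.filter (fun p => x1 p = x2 p) := ⟨_, rfl⟩
  obtain ⟨A', hA'def⟩ : ∃ A', A' = s.filter (fun p => ¬ x1 p = x2 p) := ⟨_, rfl⟩
  rw [← hAdef, ← hA'def, hs] at hsplit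
  by_cases hA3 : 3 ≤ A.card
  · left
    have hy : x1 - x2 ∈ ternaryGolayCode := Submodule.sub_mem _ h1 h2
    have hsm := supp_small (x1 - x2) U A (by rw [hAdef]; exact (Finset.filter_subset _ _).trans hsU)
      hU hA3 (by
      intro p hp
      rw [hUdef, Finset.mem_union, mem_supp, mem_supp]
      by_contra hcon
      rw [not_or, not_not, not_not] at hcon
      apply hp
      simp [hcon.1, hcon.2]) (by
      intro p hp
      rw [hAdef, Finset.mem_filter] at hp
      simp [hp.2])
    have := eq_zero_of_weight_lt hy hsm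
    exact (sub_eq_zero.mp this).symm
  · right
    have hA'3 : 3 ≤ A'.card := by omega
    have hy : x1 + x2 ∈ ternaryGolayCode := Submodule.add_mem _ h1 h2
    have hsm := supp_small (x1 + x2) U A' (by rw [hA'def]; exact (Finset.filter_subset _ _).trans hsU)
      hU hA'3 (by
      intro p hp
      rw [hUdef, Finset.mem_union, mem_supp, mem_supp]
      by_contra hcon
      rw [not_or, not_not, not_not] at hcon
      apply hp
      simp [hcon.1, hcon.2]) (by
      intro p hp
      rw [hA'def, Finset.mem_filter] at hp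
      have hp1 := mem_supp.mp (hs1 hp.1)
      have hp2 := mem_supp.mp (hs2 hp.1)
      exact zmod3_cases _ _ hp1 hp2 hp.2)
    have := eq_zero_of_weight_lt hy hsm
    exact (eq_neg_of_add_eq_zero_right this)

/-- coefficient vectors of the weight six words -/
def W6 : Finset (Fin 6 → ZMod 3) :=
  Finset.univ.filter (fun c : Fin 6 → ZMod 3 => (ternarySupport (enc c)).card = 6)

/-- the hexads -/
def hexads : Finset (Finset ArrayPt) := W6.image (fun c => ternarySupport (enc c))

theorem mem_W6 {c : Fin 6 → ZMod 3} : c ∈ W6 ↔ (ternarySupport (enc c)).card = 6 := by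
  simp [W6]

theorem card_W6 : W6.card = 264 := count6

theorem mem_hexads {b : Finset ArrayPt} :
    b ∈ hexads ↔ ∃ x ∈ ternaryGolayCode, ternarySupport x = b ∧ b.card = 6 := by
  unfold hexads
  rw [Finset.mem_image]
  constructor
  · rintro ⟨c, hc, rfl⟩
    exact ⟨enc c, enc_mem c, rfl, mem_W6.mp hc⟩
  · rintro ⟨x, hx, rfl, h6⟩
    refine ⟨info x, ?_, by rw [← eq_enc_info hx]⟩
    rw [mem_W6, ← eq_enc_info hx]; exact h6

theorem card_of_mem_hexads {b : Finset ArrayPt} (hb : b ∈ hexads) : b.card = 6 := by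
  obtain ⟨x, _, _, h⟩ := mem_hexads.mp hb
  exact h

/-- two hexads sharing five points coincide -/
theorem hexads_uniq {b1 b2 : Finset ArrayPt} (h1 : b1 ∈ hexads) (h2 : b2 ∈ hexads)
    (s : Finset ArrayPt) (hs : s.card = 5) (hs1 : s ⊆ b1) (hs2 : s ⊆ b2) : b1 = b2 := by
  obtain ⟨x1, hx1, rfl, hw1⟩ := mem_hexads.mp h1
  obtain ⟨x2, hx2, rfl, hw2⟩ := mem_hexads.mp h2
  rcases uniq hx1 hx2 hw1 hw2 s hs hs1 hs2 with h | h
  · rw [h]
  · rw [h, supp_neg]

theorem fiber_card {b : Finset ArrayPt} (hb : b ∈ hexads) :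
    (W6.filter (fun c => ternarySupport (enc c) = b)).card = 2 := by
  classical
  unfold hexads at hb
  rw [Finset.mem_image] at hb
  obtain ⟨c0, hc0, rfl⟩ := hb
  have hw0 := mem_W6.mp hc0
  have hne : c0 ≠ -c0 := by
    intro h
    have h1 : enc c0 = -enc c0 := by rw [← enc_neg, ← h]
    have h2 : enc c0 = 0 := by
      funext p
      have := congrFun h1 p
      simp only [Pi.neg_apply, Pi.zero_apply] at this ⊢
      revert this
      generalize enc c0 p = a
      revert a
      decide
    rw [h2] at hw0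
    simp [ternarySupport] at hw0
  have : W6.filter (fun c => ternarySupport (enc c) = ternarySupport (enc c0)) = {c0, -c0} := by
    ext c
    simp only [Finset.mem_filter, Finset.mem_insert, Finset.mem_singleton]
    constructor
    · rintro ⟨hc, hsupp⟩
      have hw := mem_W6.mp hc
      obtain ⟨s, hs, hscard⟩ := Finset.exists_subset_card_eq (s := ternarySupport (enc c0))
        (n := 5) (by omega)
      rcases uniq (enc_mem c0) (enc_mem c) hw0 hw s hscard hs (by rw [hsupp]; exact hs) with h | h
      · left; exact enc_injective h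
      · right; rw [← enc_neg] at h; exact enc_injective h
    · rintro (rfl | rfl)
      · exact ⟨hc0, rfl⟩
      · refine ⟨?_, by rw [enc_neg, supp_neg]⟩
        rw [mem_W6, enc_neg, supp_neg]; exact hw0
  rw [this, Finset.card_pair hne]

theorem card_hexads : hexads.card = 132 := by
  classical
  have h := Finset.card_eq_sum_card_image (fun c => ternarySupport (enc c)) W6
  rw [card_W6] at h
  have h2 : ∑ b ∈ W6.image (fun c => ternarySupport (enc c)),
      (W6.filter (fun c => ternarySupport (enc c) = b)).card = ∑ _b ∈ hexads, 2 := by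
    apply Finset.sum_congr rfl
    intro b hb
    exact fiber_card hb
  rw [h2, Finset.sum_const, smul_eq_mul] at h
  omega

theorem exists_unique_hexad (s : Finset ArrayPt) (hs : s.card = 5) :
    (hexads.filter (fun b => s ⊆ b)).card = 1 := by
  classical
  set S5 := (Finset.univ : Finset ArrayPt).powersetCard 5 with hS5
  have hS5card : S5.card = 792 := by
    rw [hS5, Finset.card_powersetCard, Finset.card_univ]
    have h12 : Fintype.card ArrayPt = 12 := by
      rw [Fintype.card_prod, Fintype.card_fin, ZMod.card]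
    rw [h12]
    norm_num [Nat.choose]
  have hle : ∀ t ∈ S5, (hexads.filter (fun b => t ⊆ b)).card ≤ 1 := by
    intro t ht
    rw [hS5, Finset.mem_powersetCard] at ht
    rw [Finset.card_le_one]
    intro b1 hb1 b2 hb2
    rw [Finset.mem_filter] at hb1 hb2
    exact hexads_uniq hb1.1 hb2.1 t ht.2 hb1.2 hb2.2
  have hsum : ∑ t ∈ S5, (hexads.filter (fun b => t ⊆ b)).card = ∑ _t ∈ S5, 1 := by
    have := Finset.sum_card_bipartiteAbove_eq_sum_card_bipartiteBelow (s := S5) (t := hexads)
      (fun t b => t ⊆ b)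
    unfold Finset.bipartiteAbove Finset.bipartiteBelow at this
    rw [this]
    have h2 : ∀ b ∈ hexads, (S5.filter (fun t => t ⊆ b)).card = 6 := by
      intro b hb
      have : S5.filter (fun t => t ⊆ b) = b.powersetCard 5 := by
        ext t
        rw [Finset.mem_filter, hS5, Finset.mem_powersetCard, Finset.mem_powersetCard]
        exact ⟨fun h => ⟨h.2, h.1.2⟩, fun h => ⟨⟨Finset.subset_univ _, h.2⟩, h.1⟩⟩
      rw [this, Finset.card_powersetCard, card_of_mem_hexads hb]
      norm_num [Nat.choose]
    rw [Finset.sum_congr rfl h2, Finset.sum_const, Finset.sum_const, card_hexads, hS5card]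
    rfl
  have hall := (Finset.sum_eq_sum_iff_of_le hle).mp hsum
  exact hall s (by rw [hS5, Finset.mem_powersetCard]; exact ⟨Finset.subset_univ _, hs⟩)

/-- The supports of the weight-6 words of the length-12 ternary code form a Steiner system S(5, 6, 12) with 132 blocks. -/
theorem result : Cfsg.IsSteinerSystem 5 6 {h : Finset Cfsg.ArrayPt | ∃ x ∈ Cfsg.ternaryGolayCode, Cfsg.ternarySupport x = h ∧ h.card = 6} ∧ {h : Finset Cfsg.ArrayPt | ∃ x ∈ Cfsg.ternaryGolayCode, Cfsg.ternarySupport x = h ∧ h.card = 6}.ncard = 132 := by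
  classical
  have hB : {h : Finset Cfsg.ArrayPt | ∃ x ∈ Cfsg.ternaryGolayCode, Cfsg.ternarySupport x = h ∧ h.card = 6} = (hexads : Set (Finset ArrayPt)) := by
    ext b
    rw [Finset.mem_coe, mem_hexads]; rfl
  rw [hB]
  refine ⟨⟨fun b hb => card_of_mem_hexads hb, fun s hs => ?_⟩, ?_⟩
  · have h1 := exists_unique_hexad s hs
    rw [Finset.card_eq_one] at h1
    obtain ⟨b, hb⟩ := h1
    have hbm : b ∈ hexads.filter (fun b => s ⊆ b) := by rw [hb]; exact Finset.mem_singleton_self b
    rw [Finset.mem_filter] at hbm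
    refine ⟨b, ⟨hbm.1, hbm.2⟩, ?_⟩
    rintro b' ⟨hb'1, hb'2⟩
    have : b' ∈ hexads.filter (fun b => s ⊆ b) := by
      rw [Finset.mem_filter]; exact ⟨hb'1, hb'2⟩
    rw [hb] at this
    exact Finset.mem_singleton.mp this
  · rw [Set.ncard_coe_finset, card_hexads]

end Cfsg.Agent.S1592
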