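import Cfsg.Statements.S1593
import Cfsg.Agent.Lib.Helper28.TernaryGolay

set_option autoImplicit false
open Cfsg

namespace Cfsg.Agent.S1593

open Cfsg.Agent.Lib.Helper28.TGolay

set_option maxRecDepth 100000 in
theorem gen_link : ∀ j : Fin 6, ∃ p, gen j p ≠ 0 ∧ gen 0 p ≠ 0 := by decide +kernel

set_option maxRecDepth 100000 in
theorem gen_cover : ∀ p : ArrayPt, ∃ j : Fin 6, gen j p ≠ 0 := by decide +kernel

theorem units_cases : ∀ u : (ZMod 3)ˣ, u = 1 ∨ u = -1 := by decide

/-- The only sign changes preserving the length-12 ternary code are the identity and negation of all coordinates. -/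
theorem result (c : Cfsg.ArrayPt → (ZMod 3)ˣ) (h : (∀ x ∈ Cfsg.ternaryGolayCode, Cfsg.monomialMap 1 c x ∈ Cfsg.ternaryGolayCode)) : (∀ p, c p = 1) ∨ (∀ p, c p = -1) := by
  have key : ∀ (j : Fin 6) (p : ArrayPt), gen j p ≠ 0 → c p = c (infoPt j) := by
    intro j p hp
    have hy := h (gen j) (gen_mem j)
    have h2 := eq_enc_info hy
    have h3 : info (Cfsg.monomialMap 1 c (gen j)) = fun k => if j = k then (c (infoPt j) : ZMod 3) else 0 := by
      funext k
      simp only [info, Cfsg.monomialMap, Equiv.Perm.one_symm, Equiv.Perm.coe_one, id_eq, gen_infoPt]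
      split_ifs with hjk
      · rw [hjk, mul_one]
      · rw [mul_zero]
    rw [h3] at h2
    have h4 := congrFun h2 p
    simp only [Cfsg.monomialMap, Equiv.Perm.one_symm, Equiv.Perm.coe_one, id_eq, enc, ite_mul,
      zero_mul, Finset.sum_ite_eq, Finset.mem_univ, if_true] at h4
    have h5 : ((c p : (ZMod 3)ˣ) : ZMod 3) = (c (infoPt j) : ZMod 3) := mul_right_cancel₀ hp h4
    exact Units.ext h5
  have hall : ∀ j : Fin 6, c (infoPt j) = c (infoPt 0) := by
    intro j
    obtain ⟨p, hp1, hp2⟩ := gen_link j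
    rw [← key j p hp1, key 0 p hp2]
  have hconst : ∀ p, c p = c (infoPt 0) := by
    intro p
    obtain ⟨j, hj⟩ := gen_cover p
    rw [key j p hj, hall j]
  rcases units_cases (c (infoPt 0)) with hu | hu
  · left; intro p; rw [hconst p, hu]
  · right; intro p; rw [hconst p, hu]

end Cfsg.Agent.S1593
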