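import Cfsg.Statements.S0377
import Cfsg.Agent.Lib.Helper9.RestrictSimple
import Cfsg.Agent.Lib.Helper21.GolayTrans5
import Cfsg.Agent.S0376

set_option autoImplicit false
open Cfsg

namespace Cfsg.Agent.S0377

/-- A point stabiliser in the group of the length-24 code is simple. -/
theorem result (p : Cfsg.GolayPt) : IsSimpleGroup (MulAction.stabilizer Cfsg.M24 p) := by
  classical
  have : Fact (Nat.Prime 23) := ⟨by norm_num⟩
  set K := MulAction.stabilizer Cfsg.M24 p with hK
  set H : Subgroup (Equiv.Perm Cfsg.GolayPt) := K.map Cfsg.M24.subtype with hHdef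
  let e : K ≃* H := K.equivMapOfInjective Cfsg.M24.subtype Cfsg.M24.subtype_injective
  have hH : ∀ g : Equiv.Perm Cfsg.GolayPt, g ∈ H ↔ g ∈ Cfsg.M24 ∧ g p = p := by
    intro g
    constructor
    · rintro ⟨k, hk, rfl⟩
      exact ⟨k.2, MulAction.mem_stabilizer_iff.1 hk⟩
    · rintro ⟨hg, hgp⟩
      exact ⟨⟨g, hg⟩, MulAction.mem_stabilizer_iff.2 hgp, rfl⟩
  have hcardK : Nat.card K = 10200960 := Cfsg.Agent.S0376.result p
  have hcardH : Nat.card H = 23 * 443520 := by
    rw [← Nat.card_congr e.toEquiv, hcardK]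
  have hEcard : (Finset.univ.erase p : Finset Cfsg.GolayPt).card = 23 := by
    rw [Finset.card_erase_of_mem (Finset.mem_univ p), Finset.card_univ]
    rfl
  have : IsSimpleGroup H := by
    apply Cfsg.Agent.Lib.Helper9.RestrictSimple.simple_of_restrict (p := 23) H
      (Finset.univ.erase p) hEcard ?_ ?_ ?_ 11 443520 (by norm_num) hcardH ?_ (by norm_num)
    · -- invariance
      intro g hg
      obtain ⟨-, hgp⟩ := (hH g).1 hg
      ext x
      rw [Finset.mem_smul_finset]
      constructor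
      · rintro ⟨y, hy, rfl⟩
        rw [Finset.mem_erase] at hy ⊢
        refine ⟨fun h => hy.1 ?_, Finset.mem_univ _⟩
        apply g.injective
        rw [hgp]
        exact h
      · intro hx
        rw [Finset.mem_erase] at hx
        refine ⟨g⁻¹ x, ?_, Cfsg.Agent.Lib.Helper21.perm_apply_inv g x⟩
        rw [Finset.mem_erase]
        refine ⟨fun h => hx.1 ?_, Finset.mem_univ _⟩
        rw [← Cfsg.Agent.Lib.Helper21.perm_apply_inv g x, h, hgp]
    · -- faithful
      intro g hg hfix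
      obtain ⟨-, hgp⟩ := (hH g).1 hg
      apply Equiv.ext
      intro x
      by_cases hx : x = p
      · rw [hx, hgp]; rfl
      · exact hfix x (Finset.mem_erase.2 ⟨hx, Finset.mem_univ _⟩)
    · -- transitive
      intro x hx y hy
      rw [Finset.mem_erase] at hx hy
      have hemb : ∀ a : Cfsg.GolayPt, a ≠ p → ∃ g ∈ Cfsg.M24,
          g (Cfsg.Agent.Lib.Helper21.ptN 0) = p ∧ g (Cfsg.Agent.Lib.Helper21.ptN 1) = a := by
        intro a ha
        obtain ⟨g, hg, h⟩ := Cfsg.Agent.Lib.Helper21.exists_map_embedding (n := 2) (by norm_num)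
          ⟨![p, a], by
            intro i j hij
            fin_cases i <;> fin_cases j <;> simp_all [eq_comm]⟩
        exact ⟨g, hg, h 0, h 1⟩
      obtain ⟨g₁, hg₁, h₁p, h₁x⟩ := hemb x hx.1
      obtain ⟨g₂, hg₂, h₂p, h₂y⟩ := hemb y hy.1
      refine ⟨g₂ * g₁⁻¹, (hH _).2 ⟨Cfsg.M24.mul_mem hg₂ (Cfsg.M24.inv_mem hg₁), ?_⟩, ?_⟩
      · have h1 : g₁⁻¹ p = Cfsg.Agent.Lib.Helper21.ptN 0 := by
          rw [← h₁p, Cfsg.Agent.Lib.Helper21.perm_inv_apply]
        rw [Equiv.Perm.mul_apply, h1, h₂p]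
      · have h1 : g₁⁻¹ x = Cfsg.Agent.Lib.Helper21.ptN 1 := by
          rw [← h₁x, Cfsg.Agent.Lib.Helper21.perm_inv_apply]
        rw [Equiv.Perm.mul_apply, h1, h₂y]
    · -- arithmetic
      intro k hk1 _ hk3
      have hk22 : k ∣ 22 := hk1
      have hle : k ≤ 22 := Nat.le_of_dvd (by norm_num) hk22
      interval_cases k <;> simp_all <;> omega
  exact e.isSimpleGroup

end Cfsg.Agent.S0377
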