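import Cfsg.Statements.S0263
import Mathlib

set_option autoImplicit false
open Cfsg

namespace Cfsg.Agent.S0263

/-- A Sylow p-subgroup of GL_n(q), p the characteristic, has order q^(n(n-1)/2). -/
theorem result {F : Type*} [Field F] [Fintype F] {q : ℕ} (hF : Fintype.card F = q) (p : ℕ) [Fact p.Prime] [CharP F p] (n : ℕ) (P : Sylow p (Matrix.GeneralLinearGroup (Fin n) F)) : Nat.card P = q ^ (n * (n - 1) / 2) := by
  classical
  have hp : p.Prime := Fact.out
  obtain ⟨k, hpk, hqk⟩ := FiniteField.card F p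
  rw [hF] at hqk
  have hk : (k : ℕ) ≠ 0 := k.ne_zero
  have hq1 : 1 < q := by
    rw [hqk]; exact Nat.one_lt_pow hk hp.one_lt
  have hqpos : 0 < q := by omega
  rw [Sylow.card_eq_multiplicity, Matrix.card_GL_field, hF]
  -- each factor
  have hfac : ∀ i : Fin n, (q ^ n - q ^ (i : ℕ)).factorization p = (k : ℕ) * (i : ℕ) := by
    intro i
    have hi : (i : ℕ) < n := i.2
    have h1 : q ^ n - q ^ (i : ℕ) = q ^ (i : ℕ) * (q ^ (n - i) - 1) := by
      rw [Nat.mul_sub, mul_one, ← pow_add]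
      congr 2
      omega
    have h2 : 1 < q ^ (n - (i : ℕ)) := Nat.one_lt_pow (by omega) hq1
    have h3 : q ^ (n - (i : ℕ)) - 1 ≠ 0 := by omega
    have h4 : ¬ p ∣ q ^ (n - (i : ℕ)) - 1 := by
      intro hdvd
      have h5 : p ∣ q ^ (n - (i : ℕ)) := by
        rw [hqk, ← pow_mul]
        exact dvd_pow_self p (Nat.mul_ne_zero hk (by omega))
      have h6 : p ∣ q ^ (n - (i : ℕ)) - (q ^ (n - (i : ℕ)) - 1) := Nat.dvd_sub h5 hdvd
      have h7 : q ^ (n - (i : ℕ)) - (q ^ (n - (i : ℕ)) - 1) = 1 := by omega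
      rw [h7] at h6
      exact hp.one_lt.ne' (Nat.dvd_one.1 h6)
    rw [h1, Nat.factorization_mul (pow_ne_zero _ hqpos.ne') h3, Finsupp.add_apply,
      Nat.factorization_eq_zero_of_not_dvd h4, add_zero, hqk, ← pow_mul,
      Nat.factorization_pow, Finsupp.smul_apply, hp.factorization_self, smul_eq_mul, mul_one]
  have hne : ∀ i ∈ (Finset.univ : Finset (Fin n)), q ^ n - q ^ (i : ℕ) ≠ 0 := by
    intro i _
    have hi : (i : ℕ) < n := i.2
    have : q ^ (i : ℕ) < q ^ n := Nat.pow_lt_pow_right hq1 hi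
    omega
  rw [Nat.factorization_prod hne, Finsupp.finset_sum_apply]
  simp only [hfac]
  rw [← Finset.mul_sum, Fin.sum_univ_eq_sum_range (fun i => i) n, Finset.sum_range_id,
    pow_mul, ← hqk]

end Cfsg.Agent.S0263
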