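import Cfsg.Statements.S2701
import Mathlib
import Cfsg.Agent.Lib.Helper19.PSLGraph
import Cfsg.Agent.Lib.Helper19.PSLGraph2
import Cfsg.Agent.Lib.Helper19.PSLGraph4
import Cfsg.Agent.Lib.Helper19.PSLGraph5
import Cfsg.Agent.Lib.Helper19.PSLGraph6
import Cfsg.Agent.Lib.Helper19.PSLGraph7
import Cfsg.Agent.Lib.Helper19.PSLGraph8
import Cfsg.Agent.Lib.Helper19.PSLGraph9
import Cfsg.Agent.Lib.Helper19.PSLGraph10
import Cfsg.Agent.Lib.Helper27.SympTransv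
import Cfsg.Agent.Lib.Helper27.SympRankOne

set_option autoImplicit false
open Cfsg

namespace Cfsg.Agent.S2701

open Cfsg.Agent.Lib.Helper19.PSLGraph Matrix
open Cfsg.Agent.Lib.Helper27.SympTransv
open scoped MatrixGroups

section rep

variable {F : Type*} [Field F] {m : ℕ}

/-- The centre of the transvection. -/
def e3 (i₀ : Fin m) : Fin m ⊕ Fin m → F := Pi.single (Sum.inl i₀) 1

/-- The diagonal vector. -/
def d3 (i₀ : Fin m) : Fin (2 * m) → F := Pi.single (eJ m (Sum.inr i₀)) 1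

/-- The non-alternating representative. -/
def A3mat (i₀ : Fin m) : Matrix (Fin (2 * m)) (Fin (2 * m)) F :=
  AJmat m F + Matrix.vecMulVec (d3 i₀) (d3 i₀)

lemma e3_ne (i₀ : Fin m) : (e3 i₀ : Fin m ⊕ Fin m → F) ≠ 0 := by
  intro h
  have := congrFun h (Sum.inl i₀)
  simp [e3] at this

lemma BA_add_vecMulVec {n : ℕ} (A : Matrix (Fin n) (Fin n) F) (d u v : Fin n → F) :
    BA (A + Matrix.vecMulVec d d) u v = BA A u v + (d ⬝ᵥ u) * (d ⬝ᵥ v) := by
  unfold BA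
  rw [Matrix.add_mulVec, dotProduct_add, Matrix.vecMulVec_mulVec,
    op_smul_eq_smul, dotProduct_smul, smul_eq_mul, dotProduct_comm u d]
  ring

lemma BA_A3 (i₀ : Fin m) (u v : Fin (2 * m) → F) :
    BA (A3mat i₀) u v = CC3 (e3 i₀) (EJ m F u) (EJ m F v) := by
  unfold A3mat CC3
  rw [BA_add_vecMulVec, symp_EJ]
  unfold d3 e3
  rw [single_one_dotProduct, single_one_dotProduct, sf_single_inl, sf_single_inl, EJ_apply, EJ_apply]
  rfl

lemma neg_mat_eq (h2 : (2 : F) = 0) {ι : Type*} (M : Matrix ι ι F) : -M = M := by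
  ext i j
  exact neg_eq_self2' h2 (M i j)
where neg_eq_self2' (h2 : (2 : F) = 0) (a : F) : -a = a := by linear_combination (-a) * h2

lemma A3_symm (h2 : (2 : F) = 0) (i₀ : Fin m) : (A3mat i₀ : Matrix _ _ F)ᵀ = A3mat i₀ := by
  unfold A3mat
  rw [Matrix.transpose_add, AJmat_transpose, Matrix.transpose_vecMulVec, neg_mat_eq h2]

lemma A3_isUnit (i₀ : Fin m) : IsUnit (A3mat i₀ : Matrix (Fin (2 * m)) (Fin (2 * m)) F) := by
  classical
  rw [← Matrix.mulVec_injective_iff_isUnit]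
  have : Function.Injective (Matrix.mulVecLin (A3mat i₀ : Matrix (Fin (2 * m)) (Fin (2 * m)) F)) := by
    rw [injective_iff_map_eq_zero]
    intro x hx
    rw [Matrix.mulVecLin_apply] at hx
    have h1 : EJ m F x = 0 := by
      apply CC3_nondeg (e3 i₀)
      intro w
      obtain ⟨u, rfl⟩ := (EJ m F).surjective w
      rw [← BA_A3]
      unfold BA
      rw [hx, dotProduct_zero]
    exact (EJ m F).map_eq_zero_iff.1 h1
  exact this

end rep

theorem result {F : Type*} [Field F] [Fintype F] [CharP F 2] {n m : ℕ} (hm : 2 ≤ m) (hnm : n = 2 * m) :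
    ∃ (γ₁ γ₃ : MulAut (Matrix.ProjectiveSpecialLinearGroup (Fin n) F)) (t : ↥(Matrix.symplecticGroup (Fin m) F)), Cfsg.IsTransvection (t : Matrix (Fin m ⊕ Fin m) (Fin m ⊕ Fin m) F) ∧ Cfsg.IsGraphAutClassPSL γ₁ ∧ orderOf γ₁ = 2 ∧ Cfsg.IsGraphAutClassPSL γ₃ ∧ orderOf γ₃ = 2 ∧ ¬ Cfsg.IsConjUnder (Cfsg.inndiagPSL n F) γ₁ γ₃ ∧ (∀ γ : MulAut (Matrix.ProjectiveSpecialLinearGroup (Fin n) F), Cfsg.IsGraphAutClassPSL γ → orderOf γ = 2 → Cfsg.IsConjUnder (Cfsg.inndiagPSL n F) γ₁ γ ∨ Cfsg.IsConjUnder (Cfsg.inndiagPSL n F) γ₃ γ) ∧ Nonempty (↥(Cfsg.inndiagPSL n F ⊓ Subgroup.centralizer {γ₁}) ≃* ↥(Matrix.symplecticGroup (Fin m) F)) ∧ Nonempty (↥(Cfsg.inndiagPSL n F ⊓ Subgroup.centralizer {γ₃}) ≃* ↥(Subgroup.centralizer ({t} : Set ↥(Matrix.symplecticGroup (Fin m) F)))) := by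
  classical
  subst hnm
  have h2 : (2 : F) = 0 := CharTwo.two_eq_zero
  have hn : 3 ≤ 2 * m := by omega
  let i₀ : Fin m := ⟨0, by omega⟩
  have he : (e3 i₀ : Fin m ⊕ Fin m → F) ≠ 0 := e3_ne i₀
  let A3 : GL (Fin (2 * m)) F := (A3_isUnit (F := F) i₀).unit
  have hA3 : A3.1 = A3mat i₀ := IsUnit.unit_spec _
  have hA1symm : (AJ m F).1ᵀ = (AJ m F).1 := by
    rw [AJ_coe, AJmat_transpose, neg_mat_eq h2]
  have hA3symm : A3.1ᵀ = A3.1 := by
    rw [hA3]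
    exact A3_symm h2 i₀
  have hBA1 : ∀ u v, Cfsg.sympForm m F (EJ m F u) (EJ m F v) = BA (AJ m F).1 u v := by
    intro u v
    rw [AJ_coe]
    exact symp_EJ m u v
  have hBA3 : ∀ u v, CC3 (e3 i₀) (EJ m F u) (EJ m F v) = BA A3.1 u v := by
    intro u v
    rw [hA3, BA_A3]
  -- conjugacy from a linear equivalence
  have hconj : ∀ (A A' : GL (Fin (2 * m)) F)
      (E E' : (Fin (2 * m) → F) ≃ₗ[F] (Fin m ⊕ Fin m → F))
      (f : (Fin m ⊕ Fin m → F) → (Fin m ⊕ Fin m → F) → F),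
      (∀ u v, f (E u) (E v) = BA A.1 u v) → (∀ u v, f (E' u) (E' v) = BA A'.1 u v) →
      Cfsg.IsConjUnder (Cfsg.inndiagPSL (2 * m) F) (gam A) (gam A') := by
    intro A A' E E' f hE hE'
    rw [Cfsg.Agent.Lib.Helper19.PSLGraph.isConj_iff]
    refine ⟨glOfEquiv (E'.trans E.symm), 1, ?_⟩
    rw [Units.val_one, one_smul]
    apply sub_eq_zero.1
    apply eq_zero_of_bil_zero
    intro u v
    rw [Matrix.sub_mulVec, dotProduct_sub, ← dot_mulVec_mulVec, glOfEquiv_mulVec, glOfEquiv_mulVec]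
    have h1 := hE ((E'.trans E.symm) u) ((E'.trans E.symm) v)
    rw [LinearEquiv.trans_apply, LinearEquiv.trans_apply, LinearEquiv.apply_symm_apply,
      LinearEquiv.apply_symm_apply, hE'] at h1
    unfold BA at h1
    rw [LinearEquiv.trans_apply, LinearEquiv.trans_apply, ← h1, sub_self]
  refine ⟨gam (AJ m F), gam A3, Cfsg.Agent.Lib.Helper27.SympTransv.tv (e3 i₀) 1, ?_, ?_, ?_, ?_, ?_, ?_, ?_, ?_, ?_⟩
  · refine ⟨rank_tv_sub_one (e3 i₀) he 1 one_ne_zero, ?_⟩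
    rw [tv_coe_sub_one, Matrix.vecMulVec_mul_vecMulVec]
    have : (Matrix.J (Fin m) F *ᵥ (e3 i₀ : Fin m ⊕ Fin m → F)) ⬝ᵥ ((1 : F) • e3 i₀) = 0 := by
      rw [one_smul, dotProduct_comm, ← sf_def, sf_self]
    rw [this, zero_smul]
    ext i j
    simp [Matrix.vecMulVec_apply]
  · exact (isGraphAut_iff hn _).2 ⟨_, rfl⟩
  · exact orderOf_gam hn _ 1 (by rw [one_smul]; exact hA1symm) one_ne_zero
  · exact (isGraphAut_iff hn _).2 ⟨_, rfl⟩
  · exact orderOf_gam hn _ 1 (by rw [one_smul]; exact hA3symm) one_ne_zero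
  · rw [Cfsg.Agent.Lib.Helper19.PSLGraph.isConj_iff]
    rintro ⟨g, c, hgc⟩
    have h1 : BA (g.1ᵀ * (AJ m F).1 * g.1) (d3 i₀) (d3 i₀) = BA ((c : F) • A3.1) (d3 i₀) (d3 i₀) :=
      congrArg (fun M => BA M (d3 i₀) (d3 i₀)) hgc
    have h3 : BA (g.1ᵀ * (AJ m F).1 * g.1) (d3 i₀) (d3 i₀) = 0 := by
      unfold BA
      rw [← dot_mulVec_mulVec]
      have := hBA1 (g.1 *ᵥ d3 i₀) (g.1 *ᵥ d3 i₀)
      unfold BA at this
      rw [← this, sf_self]
    have h4 : BA ((c : F) • A3.1) (d3 i₀) (d3 i₀) = c := by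
      have h5 : BA A3.1 (d3 i₀) (d3 i₀) = 1 := by
        rw [← hBA3]
        unfold CC3
        rw [sf_self, zero_add]
        unfold e3
        rw [sf_single_inl, EJ_apply]
        unfold d3
        simp
      unfold BA at h5 ⊢
      rw [Matrix.smul_mulVec, dotProduct_smul, h5, smul_eq_mul, mul_one]
    rw [h3, h4] at h1
    exact c.ne_zero h1.symm
  · intro γ hγ hγ2
    obtain ⟨A, rfl⟩ := (isGraphAut_iff hn γ).1 hγ
    have hA : A.1ᵀ = A.1 := by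
      obtain ⟨c, hc, hAc⟩ := transpose_of_order_two A hγ2
      have : c = 1 := sq_inj2 h2 (by rw [hc, one_mul])
      rw [hAc, this, one_smul]
    obtain ⟨hf1, hf2⟩ := normal_form_char2_even h2 m A hA
    by_cases halt : ∀ x, BA A.1 x x = 0
    · left
      obtain ⟨E, hE⟩ := hf1 halt
      exact hconj (AJ m F) A (EJ m F) E (Cfsg.sympForm m F) hBA1 hE
    · right
      obtain ⟨E, hE⟩ := hf2 halt (e3 i₀) he
      exact hconj A3 A (EJ m F) E (CC3 (e3 i₀)) hBA3 hE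
  · obtain ⟨e1⟩ := centralizer_bil (AJ m F)
    obtain ⟨e2⟩ := sim_congr (EJ m F) (BA (AJ m F).1) (Cfsg.sympForm m F) hBA1
    obtain ⟨e3'⟩ := projQuot_sim_char2 h2 (Cfsg.sympForm m F) sf_smul_smul
      (Pi.single (Sum.inr i₀) 1) (e3 i₀) (by
        unfold e3
        rw [sf_single_inl]
        simp)
    exact ⟨e1.trans (e2.trans (e3'.symm.trans sympEquiv2))⟩
  · obtain ⟨e1⟩ := centralizer_bil A3
    obtain ⟨e2⟩ := sim_congr (EJ m F) (BA A3.1) (CC3 (e3 i₀)) hBA3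
    obtain ⟨e3'⟩ := projQuot_sim_char2 h2 (CC3 (e3 i₀)) (CC3_smul_smul (e3 i₀))
      (Pi.single (Sum.inr i₀) 1) (Pi.single (Sum.inr i₀) 1) (by
        unfold CC3 e3
        rw [sf_self, sf_single_inl]
        simp)
    exact ⟨e1.trans (e2.trans (e3'.symm.trans (stabEquiv2 h2 (e3 i₀) he)))⟩

end Cfsg.Agent.S2701
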