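import Cfsg.Statements.S5631
import Mathlib
import Cfsg.Agent.Lib.Helper27.GLStab

set_option autoImplicit false
open Cfsg

namespace Cfsg.Agent.S5631

open Matrix Cfsg.Agent.S0772 Cfsg.Agent.Lib.Helper27.GLStab

variable {F : Type*} [Field F] {n : ℕ}

theorem transvection_eq_Tm (i j : Fin n) (c : F) :
    Matrix.transvection i j c = Tm (Pi.single i 1) (c • Pi.single j 1) := by
  rw [Matrix.transvection]
  unfold Tm
  congr 1
  ext r s
  rw [Matrix.vecMulVec_apply, Matrix.single_apply, Pi.single_apply, Pi.smul_apply,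
    Pi.single_apply]
  by_cases hr : r = i
  · by_cases hs : s = j
    · rw [if_pos hr, if_pos hs, if_pos ⟨hr.symm, hs.symm⟩]
      simp
    · rw [if_neg hs, if_neg]
      · simp
      · rintro ⟨-, h'⟩
        exact hs h'.symm
  · rw [if_neg hr, if_neg]
    · simp
    · rintro ⟨h', -⟩
      exact hr h'.symm

/-- A subgroup containing all generalised transvections of determinant one contains `SL_n`. -/
theorem mem_of_A_all (hn : 2 ≤ n) (M : Subgroup (GL (Fin n) F)) (hA : ∀ a, A M a)
    (g : GL (Fin n) F) (hg : (g : Matrix (Fin n) (Fin n) F).det = 1) : g ∈ M := by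
  haveI : Nontrivial (Fin n) := Fin.nontrivial_iff_two_le.mpr hn
  have hmul : ∀ X Y : Matrix.SpecialLinearGroup (Fin n) F, InK M X.1 → InK M Y.1 →
      InK M (X * Y).1 := by
    intro X Y hX hY y hy
    have : y = Matrix.SpecialLinearGroup.toGL X * Matrix.SpecialLinearGroup.toGL Y := by
      apply Units.ext
      rw [hy]
      rfl
    rw [this]
    exact M.mul_mem (hX _ rfl) (hY _ rfl)
  have htr : ∀ (i j : Fin n) (hij : i ≠ j) (a : F),
      InK M (Matrix.SpecialLinearGroup.transvection hij a).1 := by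
    intro i j hij a
    rw [Matrix.SpecialLinearGroup.transvection_coe]
    have := transvection_eq_Tm i j a
    rw [Matrix.transvection] at this
    rw [this]
    apply hA
    rw [smul_dotProduct, single_one_dotProduct, Pi.single_apply, if_neg hij.symm, smul_zero]
  have key : InK M (⟨(g : Matrix (Fin n) (Fin n) F), hg⟩ : Matrix.SpecialLinearGroup (Fin n) F).1 := by
    apply Matrix.SpecialLinearGroup.diagonal_transvection_induction'
      (fun s : Matrix.SpecialLinearGroup (Fin n) F => InK M s.1)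
    · intro i j hij c hc
      rw [Cfsg.Agent.Lib.Helper28.diag2n_decompose hij c hc]
      exact hmul _ _ (hmul _ _ (hmul _ _ (hmul _ _ (hmul _ _ (htr _ _ _ _) (htr _ _ _ _))
        (htr _ _ _ _)) (htr _ _ _ _)) (htr _ _ _ _)) (htr _ _ _ _)
    · exact htr
    · exact hmul
  exact key g rfl

theorem core (hn : 2 ≤ n) (W : Submodule F (Fin n → F)) (hW0 : W ≠ ⊥) (hW1 : W ≠ ⊤) :
    Cfsg.Geo.IsMaximalIn (Cfsg.Geo.specialLinear (Fin n) F)
      (Cfsg.Geo.subspaceStabilizer W ⊓ Cfsg.Geo.specialLinear (Fin n) F) := by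
  obtain ⟨w, hw, hw0⟩ := Submodule.exists_mem_ne_zero_of_ne_bot hW0
  obtain ⟨v, hv⟩ : ∃ v, v ∉ W := by
    by_contra h
    apply hW1
    rw [eq_top_iff]
    intro v _
    by_contra hv
    exact h ⟨v, hv⟩
  refine ⟨lt_of_le_of_ne inf_le_right ?_, ?_⟩
  · intro heq
    have hwv : w ∉ Submodule.span F {v} := by
      intro hmem
      obtain ⟨c, hc⟩ := Submodule.mem_span_singleton.mp hmem
      apply hv
      have hc0 : c ≠ 0 := by
        rintro rfl
        rw [zero_smul] at hc
        exact hw0 hc.symm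
      have : v = c⁻¹ • w := by
        rw [← hc, smul_smul, inv_mul_cancel₀ hc0, one_smul]
      rw [this]
      exact W.smul_mem _ hw
    obtain ⟨φ, hφv, hφw⟩ := exists_functional (Submodule.span F {v}) w hwv
    have hφv' : φ ⬝ᵥ v = 0 := hφv v (Submodule.mem_span_singleton_self v)
    have hd : 1 + φ ⬝ᵥ v ≠ 0 := by rw [hφv', add_zero]; exact one_ne_zero
    have hmem : TmGL v φ hd ∈ Cfsg.Geo.specialLinear (Fin n) F := by
      rw [mem_specialLinear_iff, det_TmGL, hφv', add_zero]
    rw [← heq] at hmem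
    have h1 := stab_maps hmem.1 hw
    rw [TmGL_mulVec] at h1
    have h2 : (φ ⬝ᵥ w) • v ∈ W := by
      have := W.sub_mem h1 hw
      rwa [add_sub_cancel_left] at this
    apply hv
    have := W.smul_mem (φ ⬝ᵥ w)⁻¹ h2
    rwa [smul_smul, inv_mul_cancel₀ hφw, one_smul] at this
  · intro M hM1 hM2
    by_cases hM : M ≤ Cfsg.Geo.subspaceStabilizer W ⊓ Cfsg.Geo.specialLinear (Fin n) F
    · left
      exact le_antisymm hM hM1
    right
    obtain ⟨h, hhM, hhP⟩ := SetLike.not_le_iff_exists.mp hM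
    have hhS : h ∉ Cfsg.Geo.subspaceStabilizer W := fun hS => hhP ⟨hS, hM2 hhM⟩
    have hex : ∃ w₀ ∈ W, (h : Matrix (Fin n) (Fin n) F) *ᵥ w₀ ∉ W := by
      by_contra hcon
      apply hhS
      apply mem_stab_of_maps
      intro v hv
      by_contra hv'
      exact hcon ⟨v, hv, hv'⟩
    obtain ⟨w₀, hw₀, hu₀⟩ := hex
    have hAW : ∀ a ∈ W, A M a := by
      intro a ha φ hφ g hg
      apply hM1
      have hd : 1 + φ ⬝ᵥ a ≠ 0 := by rw [hφ, add_zero]; exact one_ne_zero
      have hgT : g = TmGL a φ hd := by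
        apply Units.ext
        rw [hg]
        rfl
      refine ⟨?_, ?_⟩
      · rw [hgT]
        exact TmGL_mem_stab_of_mem W a φ hd ha
      · change g ∈ Cfsg.Geo.specialLinear (Fin n) F
        rw [mem_specialLinear_iff, hg, det_Tm, hφ, add_zero]
    have hAu₀ := A_smul M h hhM w₀ (hAW w₀ hw₀)
    have hAall : ∀ a, A M a := by
      intro a
      by_cases ha : a ∈ W
      · exact hAW a ha
      obtain ⟨p, hp, hpa⟩ := trans_outside W hW0 _ a hu₀ ha
      rw [← hpa]
      exact A_smul M p (hM1 hp) _ hAu₀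
    apply le_antisymm hM2
    intro g hg
    exact mem_of_A_all hn M hAall g ((mem_specialLinear_iff g).mp hg)

theorem result {F : Type*} [Field F] [Fintype F] (n : ℕ) (hn : 13 ≤ n) (W : Submodule F (Fin n → F)) (hW0 : W ≠ ⊥) (hW1 : W ≠ ⊤) : Cfsg.Geo.IsMaximalIn (Cfsg.Geo.specialLinear (Fin n) F) (Cfsg.Geo.subspaceStabilizer W ⊓ Cfsg.Geo.specialLinear (Fin n) F) :=
  core (by omega) W hW0 hW1

end Cfsg.Agent.S5631
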