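import Cfsg.Statements.S5642
import Mathlib
import Cfsg.Agent.S5631

set_option autoImplicit false
open Cfsg

namespace Cfsg.Agent.S5642

open Matrix Cfsg.Geo Cfsg.Agent.S0772 Cfsg.Agent.Lib.Helper27.GLStab

variable {F : Type*} [Field F] {n : ℕ} {f : (Fin n → F) → (Fin n → F) → F}

/-! ### Consequences of bilinearity -/

theorem f_zero_left (hf : IsBilinearForm f) (v : Fin n → F) : f 0 v = 0 := by
  have := hf.smul_left 0 0 v
  rwa [zero_smul, zero_mul] at this

theorem f_zero_right (hf : IsBilinearForm f) (v : Fin n → F) : f v 0 = 0 := by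
  have := hf.smul_right 0 v 0
  rwa [zero_smul, zero_mul] at this

theorem f_neg_left (hf : IsBilinearForm f) (u v : Fin n → F) : f (-u) v = - f u v := by
  have := hf.smul_left (-1) u v
  rwa [neg_one_smul, neg_one_mul] at this

theorem f_neg_right (hf : IsBilinearForm f) (u v : Fin n → F) : f u (-v) = - f u v := by
  have := hf.smul_right (-1) u v
  rwa [neg_one_smul, neg_one_mul] at this

theorem f_sub_left (hf : IsBilinearForm f) (u u' v : Fin n → F) :
    f (u - u') v = f u v - f u' v := by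
  rw [sub_eq_add_neg, hf.add_left, f_neg_left hf, sub_eq_add_neg]

theorem f_sub_right (hf : IsBilinearForm f) (u v v' : Fin n → F) :
    f u (v - v') = f u v - f u v' := by
  rw [sub_eq_add_neg, hf.add_right, f_neg_right hf, sub_eq_add_neg]

/-- The vector representing the functional `f(·, a)`. -/
def fvec (f : (Fin n → F) → (Fin n → F) → F) (a : Fin n → F) : Fin n → F :=
  fun i => f (Pi.single i 1) a

theorem fvec_dot (hf : IsBilinearForm f) (a x : Fin n → F) : fvec f a ⬝ᵥ x = f x a := by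
  let L : (Fin n → F) →ₗ[F] F :=
    { toFun := fun x => f x a
      map_add' := fun x y => hf.add_left x y a
      map_smul' := fun c x => hf.smul_left c x a }
  have h := LinearMap.pi_apply_eq_sum_univ L x
  change f x a = _ at h
  rw [h, dotProduct]
  apply Finset.sum_congr rfl
  intro i _
  rw [smul_eq_mul, mul_comm]
  congr 1
  change f (Pi.single i 1) a = f _ a
  congr 1
  funext j
  rw [Pi.single_apply]
  by_cases hij : i = j
  · rw [if_pos hij, if_pos hij.symm]
  · rw [if_neg hij, if_neg (Ne.symm hij)]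

theorem vec_ext {u v : Fin n → F} (h : ∀ x, u ⬝ᵥ x = v ⬝ᵥ x) : u = v := by
  funext i
  have := h (Pi.single i 1)
  rwa [dotProduct_single_one, dotProduct_single_one] at this

theorem fvec_add (hf : IsBilinearForm f) (a a' : Fin n → F) :
    fvec f (a + a') = fvec f a + fvec f a' := by
  funext i
  exact hf.add_right _ a a'

theorem fvec_smul (hf : IsBilinearForm f) (c : F) (a : Fin n → F) :
    fvec f (c • a) = c • fvec f a := by
  funext i
  exact hf.smul_right c _ a

/-- Every functional is represented by a vector. -/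
theorem exists_rep (hf : IsSymplecticForm f) (ψ : Fin n → F) : ∃ x, fvec f x = ψ := by
  let Φ : (Fin n → F) →ₗ[F] (Fin n → F) :=
    { toFun := fvec f
      map_add' := fvec_add hf.bilinear
      map_smul' := fun c a => fvec_smul hf.bilinear c a }
  have hinj : Function.Injective Φ := by
    rw [← LinearMap.ker_eq_bot, LinearMap.ker_eq_bot']
    intro a ha
    by_contra hne
    obtain ⟨⟨x, hx⟩, -⟩ := hf.nondegenerate a hne
    apply hx
    rw [← fvec_dot hf.bilinear]
    change fvec f a = 0 at ha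
    rw [ha, zero_dotProduct]
  exact LinearMap.injective_iff_surjective.mp hinj ψ

/-- If `f(x, a) = 0` for all `x` then `a = 0`. -/
theorem eq_zero_of_forall (hf : IsSymplecticForm f) (a : Fin n → F) (h : ∀ x, f x a = 0) :
    a = 0 := by
  by_contra hne
  obtain ⟨⟨x, hx⟩, -⟩ := hf.nondegenerate a hne
  exact hx (h x)

/-! ### Symplectic transvections -/

theorem tau_dot (hf : IsSymplecticForm f) (a : Fin n → F) (c : F) :
    (c • fvec f a) ⬝ᵥ a = 0 := by
  rw [smul_dotProduct, fvec_dot hf.bilinear, hf.alternating, smul_zero]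

theorem tau_ne (hf : IsSymplecticForm f) (a : Fin n → F) (c : F) :
    1 + (c • fvec f a) ⬝ᵥ a ≠ 0 := by
  rw [tau_dot hf, add_zero]
  exact one_ne_zero

/-- The symplectic transvection `x ↦ x + c f(x, a) a`. -/
noncomputable def tau (hf : IsSymplecticForm f) (a : Fin n → F) (c : F) : GL (Fin n) F :=
  TmGL a (c • fvec f a) (tau_ne hf a c)

theorem tau_mulVec (hf : IsSymplecticForm f) (a : Fin n → F) (c : F) (x : Fin n → F) :
    (tau hf a c : Matrix (Fin n) (Fin n) F) *ᵥ x = x + (c * f x a) • a := by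
  unfold tau
  rw [TmGL_mulVec, smul_dotProduct, fvec_dot hf.bilinear, smul_eq_mul]

theorem tau_iso (hf : IsSymplecticForm f) (a : Fin n → F) (c : F) (x y : Fin n → F) :
    f ((tau hf a c : Matrix (Fin n) (Fin n) F) *ᵥ x)
      ((tau hf a c : Matrix (Fin n) (Fin n) F) *ᵥ y) = f x y := by
  rw [tau_mulVec, tau_mulVec, hf.bilinear.add_left, hf.bilinear.add_right, hf.bilinear.add_right,
    hf.bilinear.smul_left, hf.bilinear.smul_left, hf.bilinear.smul_right,
    hf.bilinear.smul_right, hf.alternating, hf.skew a y]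
  ring

theorem tau_mem (hf : IsSymplecticForm f) (a : Fin n → F) (c : F) :
    tau hf a c ∈ similarityGroup f ⊓ specialLinear (Fin n) F := by
  constructor
  · exact ⟨1, fun u v => by rw [tau_iso hf, Units.val_one, one_mul]⟩
  · change tau hf a c ∈ specialLinear (Fin n) F
    rw [mem_specialLinear_iff]
    unfold tau
    rw [det_TmGL, tau_dot hf, add_zero]

/-- If `u` is not a multiple of `b`, some vector of `b^⊥` pairs non-trivially with `u`. -/
theorem exists_pair (hf : IsSymplecticForm f) (b u : Fin n → F) (hu : ∀ l : F, u ≠ l • b) :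
    ∃ z, f b z = 0 ∧ f u z ≠ 0 := by
  by_contra hcon
  have hall : ∀ z, f b z = 0 → f u z = 0 := by
    intro z hz
    by_contra h
    exact hcon ⟨z, hz, h⟩
  by_cases hb : b = 0
  · apply hu 0
    rw [zero_smul]
    by_contra hne
    obtain ⟨-, ⟨x, hx⟩⟩ := hf.nondegenerate u hne
    apply hx
    apply hall
    rw [hb, f_zero_left hf.bilinear]
  · obtain ⟨-, ⟨w, hw⟩⟩ := hf.nondegenerate b hb
    set w' := (f b w)⁻¹ • w with hw'
    have hbw' : f b w' = 1 := by
      rw [hw', hf.bilinear.smul_right, inv_mul_cancel₀ hw]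
    apply hu (f u w')
    have h0 : u - f u w' • b = 0 := by
      by_contra hne
      obtain ⟨-, ⟨y, hy⟩⟩ := hf.nondegenerate _ hne
      apply hy
      have hz : f b (y - f b y • w') = 0 := by
        rw [f_sub_right hf.bilinear, hf.bilinear.smul_right, hbw', mul_one, sub_self]
      have h1 := hall _ hz
      rw [f_sub_right hf.bilinear, hf.bilinear.smul_right, sub_eq_zero] at h1
      rw [f_sub_left hf.bilinear, hf.bilinear.smul_left, h1]
      ring
    exact sub_eq_zero.mp h0

/-- The predicate of being an isometry in `S` fixing `b`. -/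
def Good (f : (Fin n → F) → (Fin n → F) → F) (b : Fin n → F) (g : GL (Fin n) F) : Prop :=
  g ∈ similarityGroup f ⊓ specialLinear (Fin n) F ∧
    (∀ x y, f ((g : Matrix (Fin n) (Fin n) F) *ᵥ x) ((g : Matrix (Fin n) (Fin n) F) *ᵥ y) = f x y) ∧
    (g : Matrix (Fin n) (Fin n) F) *ᵥ b = b

theorem Good.mul {b : Fin n → F} {g h : GL (Fin n) F} (hg : Good f b g) (hh : Good f b h) :
    Good f b (g * h) := by
  refine ⟨mul_mem hg.1 hh.1, ?_, ?_⟩
  · intro x y
    rw [Units.val_mul, ← Matrix.mulVec_mulVec, ← Matrix.mulVec_mulVec, hg.2.1, hh.2.1]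
  · rw [Units.val_mul, ← Matrix.mulVec_mulVec, hh.2.2, hg.2.2]

theorem move_of_ne (hf : IsSymplecticForm f) (b u u' : Fin n → F) (hu : f b u = 0)
    (hu' : f b u' = 0) (h : f u u' ≠ 0) :
    ∃ g : GL (Fin n) F, Good f b g ∧ (g : Matrix (Fin n) (Fin n) F) *ᵥ u = u' := by
  refine ⟨tau hf (u' - u) (f u u')⁻¹, ⟨tau_mem hf _ _, tau_iso hf _ _, ?_⟩, ?_⟩
  · rw [tau_mulVec, f_sub_right hf.bilinear, hu, hu', sub_self, mul_zero, zero_smul, add_zero]
  · rw [tau_mulVec, f_sub_right hf.bilinear, hf.alternating, sub_zero, inv_mul_cancel₀ h, one_smul]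
    abel

theorem trans_perp (hf : IsSymplecticForm f) (b u u' : Fin n → F) (hu : f b u = 0)
    (hu' : f b u' = 0) (hnu : ∀ l : F, u ≠ l • b) (hnu' : ∀ l : F, u' ≠ l • b) :
    ∃ g : GL (Fin n) F, Good f b g ∧ (g : Matrix (Fin n) (Fin n) F) *ᵥ u = u' := by
  by_cases h : f u u' ≠ 0
  · exact move_of_ne hf b u u' hu hu' h
  · rw [not_not] at h
    obtain ⟨z₁, hz₁b, hz₁⟩ := exists_pair hf b u hnu
    obtain ⟨z₂, hz₂b, hz₂⟩ := exists_pair hf b u' hnu'
    have hz : ∃ z, f b z = 0 ∧ f u z ≠ 0 ∧ f z u' ≠ 0 := by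
      by_cases h1 : f u' z₁ ≠ 0
      · refine ⟨z₁, hz₁b, hz₁, ?_⟩
        rw [hf.skew]
        exact neg_ne_zero.mpr h1
      · by_cases h2 : f u z₂ ≠ 0
        · refine ⟨z₂, hz₂b, h2, ?_⟩
          rw [hf.skew]
          exact neg_ne_zero.mpr hz₂
        · rw [not_not] at h1 h2
          refine ⟨z₁ + z₂, ?_, ?_, ?_⟩
          · rw [hf.bilinear.add_right, hz₁b, hz₂b, add_zero]
          · rw [hf.bilinear.add_right, h2, add_zero]
            exact hz₁
          · rw [hf.skew, hf.bilinear.add_right, h1, zero_add]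
            exact neg_ne_zero.mpr hz₂
    obtain ⟨z, hzb, hz1, hz2⟩ := hz
    obtain ⟨g₁, hg₁, hg₁u⟩ := move_of_ne hf b u z hu hzb hz1
    obtain ⟨g₂, hg₂, hg₂z⟩ := move_of_ne hf b z u' hzb hu' hz2
    refine ⟨g₂ * g₁, hg₂.mul hg₁, ?_⟩
    rw [Units.val_mul, ← Matrix.mulVec_mulVec, hg₁u, hg₂z]

/-! ### Conjugation and products of transvections -/

theorem conj_rep (hf : IsSymplecticForm f) (g : GL (Fin n) F)
    (hg : ∀ x y, f ((g : Matrix (Fin n) (Fin n) F) *ᵥ x)
      ((g : Matrix (Fin n) (Fin n) F) *ᵥ y) = f x y) (x : Fin n → F) :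
    (fvec f x) ᵥ* ((g⁻¹ : GL (Fin n) F) : Matrix (Fin n) (Fin n) F) =
      fvec f ((g : Matrix (Fin n) (Fin n) F) *ᵥ x) := by
  apply vec_ext
  intro y
  rw [← Matrix.dotProduct_mulVec, fvec_dot hf.bilinear, fvec_dot hf.bilinear, ← hg,
    mulVec_inv_mulVec]

theorem Tm_mul_Tm (a ψ ψ' : Fin n → F) (h : ψ ⬝ᵥ a = 0) :
    Tm a ψ * Tm a ψ' = Tm a (ψ + ψ') := by
  rw [Matrix.ext_iff_mulVec]
  intro x
  rw [← Matrix.mulVec_mulVec, Tm_mulVec, Tm_mulVec, Tm_mulVec, dotProduct_add, dotProduct_smul,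
    h, smul_zero, add_zero, add_dotProduct, add_smul]
  abel

theorem InK_mul (M : Subgroup (GL (Fin n) F)) (N N' : Matrix (Fin n) (Fin n) F)
    (hN : N.det ≠ 0) (hN' : N'.det ≠ 0) (h : InK M N) (h' : InK M N') : InK M (N * N') := by
  intro y hy
  have : y = Matrix.GeneralLinearGroup.mkOfDetNeZero N hN *
      Matrix.GeneralLinearGroup.mkOfDetNeZero N' hN' := by
    apply Units.ext
    rw [hy]
    rfl
  rw [this]
  exact M.mul_mem (h _ rfl) (h' _ rfl)

/-- All transvections with centre `b` and axis `x^⊥` lie in `M`. -/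
def R (f : (Fin n → F) → (Fin n → F) → F) (M : Subgroup (GL (Fin n) F)) (b x : Fin n → F) : Prop :=
  ∀ c : F, InK M (Tm b (c • fvec f x))

theorem R_add (hf : IsSymplecticForm f) (M : Subgroup (GL (Fin n) F)) (b x x' : Fin n → F)
    (hx : f b x = 0) (hx' : f b x' = 0) (h : R f M b x) (h' : R f M b x') :
    R f M b (x + x') := by
  intro c
  have e1 : (c • fvec f x) ⬝ᵥ b = 0 := by
    rw [smul_dotProduct, fvec_dot hf.bilinear, hx, smul_zero]
  have e2 : (c • fvec f x') ⬝ᵥ b = 0 := by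
    rw [smul_dotProduct, fvec_dot hf.bilinear, hx', smul_zero]
  rw [fvec_add hf.bilinear, smul_add, ← Tm_mul_Tm _ _ _ e1]
  apply InK_mul M _ _ _ _ (h c) (h' c)
  · rw [det_Tm, e1, add_zero]; exact one_ne_zero
  · rw [det_Tm, e2, add_zero]; exact one_ne_zero

theorem R_smul (hf : IsSymplecticForm f) (M : Subgroup (GL (Fin n) F)) (b x : Fin n → F) (l : F)
    (h : R f M b x) : R f M b (l • x) := by
  intro c
  rw [fvec_smul hf.bilinear, smul_smul]
  exact h (c * l)

theorem R_good (hf : IsSymplecticForm f) (M : Subgroup (GL (Fin n) F)) (b x : Fin n → F)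
    (g : GL (Fin n) F) (hgM : g ∈ M) (hg : Good f b g) (h : R f M b x) :
    R f M b ((g : Matrix (Fin n) (Fin n) F) *ᵥ x) := by
  intro c
  have h1 := InK_conj M g hgM _ (h c)
  rw [conj_Tm, hg.2.2, Matrix.smul_vecMul, conj_rep hf g hg.2.1] at h1
  exact h1

theorem R_self (hf : IsSymplecticForm f) (M : Subgroup (GL (Fin n) F))
    (hM : similarityGroup f ⊓ specialLinear (Fin n) F ≤ M) (a : Fin n → F) : R f M a a := by
  intro c g hg
  apply hM
  have : g = tau hf a c := by
    apply Units.ext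
    rw [hg]
    rfl
  rw [this]
  exact tau_mem hf a c

theorem exists_ne_zero_vec (hn : 1 ≤ n) : ∃ v : Fin n → F, v ≠ 0 := by
  refine ⟨Pi.single ⟨0, by omega⟩ 1, ?_⟩
  intro h
  have := congrFun h ⟨0, by omega⟩
  rw [Pi.single_eq_same, Pi.zero_apply] at this
  exact one_ne_zero this

/-- The key step: an overgroup of the similarity group containing a non-similarity contains all
transvections. -/
theorem key (hn : 1 ≤ n) (hf : IsSymplecticForm f) (M : Subgroup (GL (Fin n) F))
    (hM1 : similarityGroup f ⊓ specialLinear (Fin n) F ≤ M) (h : GL (Fin n) F) (hhM : h ∈ M)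
    (hhS : h ∉ similarityGroup f) : ∀ a, A M a := by
  -- the representation map as a linear equivalence
  let Φlin : (Fin n → F) →ₗ[F] (Fin n → F) :=
    { toFun := fvec f
      map_add' := fvec_add hf.bilinear
      map_smul' := fun c a => fvec_smul hf.bilinear c a }
  have hinj : Function.Injective Φlin := by
    rw [← LinearMap.ker_eq_bot, LinearMap.ker_eq_bot']
    intro a ha
    apply eq_zero_of_forall hf
    intro x
    rw [← fvec_dot hf.bilinear]
    change fvec f a = 0 at ha
    rw [ha, zero_dotProduct]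
  let Φ : (Fin n → F) ≃ₗ[F] (Fin n → F) :=
    LinearEquiv.ofBijective Φlin ⟨hinj, LinearMap.injective_iff_surjective.mp hinj⟩
  have hΦ : ∀ a, Φ a = fvec f a := fun a => rfl
  set hi : Matrix (Fin n) (Fin n) F := ((h⁻¹ : GL (Fin n) F) : Matrix (Fin n) (Fin n) F) with hhi
  let X : (Fin n → F) →ₗ[F] (Fin n → F) :=
    Φ.symm.toLinearMap ∘ₗ Matrix.vecMulLinear hi ∘ₗ Φ.toLinearMap ∘ₗ Matrix.toLin' hi
  have hX : ∀ b, fvec f (X b) = (fvec f (hi *ᵥ b)) ᵥ* hi := by
    intro b
    rw [← hΦ (X b)]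
    simp only [X, LinearMap.comp_apply, LinearEquiv.coe_coe, LinearEquiv.apply_symm_apply,
      Matrix.vecMulLinear_apply, Matrix.toLin'_apply]
    rfl
  have hXf : ∀ y b, f y (X b) = f (hi *ᵥ y) (hi *ᵥ b) := by
    intro y b
    rw [← fvec_dot hf.bilinear (X b) y, hX, ← Matrix.dotProduct_mulVec, fvec_dot hf.bilinear]
  have hexb : ∃ b₀, LinearIndependent F ![b₀, X b₀] := by
    by_contra hno
    have hall : ∀ v, ¬ LinearIndependent F ![v, X v] := fun v hv => hno ⟨v, hv⟩
    obtain ⟨c, hc⟩ := LinearMap.exists_eq_smul_id_of_forall_notLinearIndependent hall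
    have hXc : ∀ b, X b = c • b := fun b => by rw [hc]; rfl
    have hc0 : c ≠ 0 := by
      rintro rfl
      obtain ⟨v, hv⟩ := exists_ne_zero_vec (F := F) hn
      obtain ⟨⟨x, hx⟩, -⟩ := hf.nondegenerate v hv
      apply hx
      have := hXf ((h : Matrix (Fin n) (Fin n) F) *ᵥ x) ((h : Matrix (Fin n) (Fin n) F) *ᵥ v)
      rw [hXc, zero_smul, f_zero_right hf.bilinear, hhi, inv_mulVec_mulVec,
        inv_mulVec_mulVec] at this
      exact this.symm
    apply hhS
    have hmem : h⁻¹ ∈ similarityGroup f := by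
      refine ⟨Units.mk0 c hc0, fun u v => ?_⟩
      rw [← hhi, ← hXf, hXc, hf.bilinear.smul_right]
      rfl
    have := inv_mem hmem
    rwa [inv_inv] at this
  obtain ⟨b₀, hli⟩ := hexb
  rw [LinearIndependent.pair_iff] at hli
  have hb₀ : b₀ ≠ 0 := by
    rintro rfl
    have := (hli 1 0 (by rw [smul_zero, zero_smul, add_zero])).1
    exact one_ne_zero this
  set x₀ := X b₀ with hx₀
  have hx₀m : ∀ l : F, x₀ ≠ l • b₀ := by
    intro l hl
    have := (hli (-l) 1 (by rw [hl, one_smul, neg_smul, neg_add_cancel])).2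
    exact one_ne_zero this
  have hx₀p : f b₀ x₀ = 0 := by rw [hx₀, hXf, hf.alternating]
  have hRx₀ : R f M b₀ x₀ := by
    intro c
    have h1 := InK_conj M h hhM _ (R_self hf M hM1 (hi *ᵥ b₀) c)
    rw [conj_Tm, ← hhi, hhi, mulVec_inv_mulVec, ← hhi, Matrix.smul_vecMul, ← hX] at h1
    exact h1
  have hAb₀ : A M b₀ := by
    intro ψ hψ
    obtain ⟨x, hx⟩ := exists_rep hf ψ
    have hbx : f b₀ x = 0 := by
      rw [← fvec_dot hf.bilinear, hx]
      exact hψ
    have hR : R f M b₀ x := by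
      by_cases hmul : ∃ l : F, x = l • b₀
      · obtain ⟨l, rfl⟩ := hmul
        exact R_smul hf M b₀ b₀ l (R_self hf M hM1 b₀)
      · obtain ⟨g, hg, hgx⟩ := trans_perp hf b₀ x₀ x hx₀p hbx hx₀m (fun l hl => hmul ⟨l, hl⟩)
        rw [← hgx]
        exact R_good hf M b₀ x₀ g (hM1 hg.1) hg hRx₀
    have := hR 1
    rw [one_smul, hx] at this
    exact this
  intro a
  by_cases ha : a = 0
  · subst ha
    intro ψ _ g hg
    have : g = 1 := by
      apply Units.ext
      rw [hg, Units.val_one, Matrix.ext_iff_mulVec]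
      intro x
      rw [Tm_mulVec, smul_zero, add_zero, Matrix.one_mulVec]
    rw [this]
    exact one_mem M
  · obtain ⟨g, hg, hga⟩ := trans_perp hf 0 b₀ a (f_zero_left hf.bilinear _)
      (f_zero_left hf.bilinear _) (fun l hl => hb₀ (by rw [hl, smul_zero]))
      (fun l hl => ha (by rw [hl, smul_zero]))
    rw [← hga]
    exact A_smul M g (hM1 hg.1) b₀ hAb₀

/-- A vector of `a^⊥` which is not a multiple of `a`. -/
theorem exists_perp_not_mul (hn : 3 ≤ n) (hf : IsSymplecticForm f) :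
    ∃ a x₁ : Fin n → F, a ≠ 0 ∧ f a x₁ = 0 ∧ ∀ l : F, x₁ ≠ l • a := by
  set i₀ : Fin n := ⟨0, by omega⟩ with hi₀
  set i₁ : Fin n := ⟨1, by omega⟩ with hi₁
  set i₂ : Fin n := ⟨2, by omega⟩ with hi₂
  have h01 : i₁ ≠ i₀ := by
    intro h; have := congrArg Fin.val h; simp [hi₀, hi₁] at this
  have h02 : i₂ ≠ i₀ := by
    intro h; have := congrArg Fin.val h; simp [hi₀, hi₂] at this
  have h12 : i₂ ≠ i₁ := by
    intro h; have := congrArg Fin.val h; simp [hi₁, hi₂] at this
  set a : Fin n → F := Pi.single i₀ 1 with ha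
  set e₁ : Fin n → F := Pi.single i₁ 1 with he₁
  set e₂ : Fin n → F := Pi.single i₂ 1 with he₂
  have ha0 : a ≠ 0 := by
    intro h
    have := congrFun h i₀
    rw [ha, Pi.single_eq_same, Pi.zero_apply] at this
    exact one_ne_zero this
  by_cases h1 : f a e₁ = 0
  · refine ⟨a, e₁, ha0, h1, ?_⟩
    intro l hl
    have := congrFun hl i₁
    rw [he₁, Pi.single_eq_same, Pi.smul_apply, ha, Pi.single_eq_of_ne h01, smul_zero] at this
    exact one_ne_zero this
  · refine ⟨a, f a e₂ • e₁ - f a e₁ • e₂, ha0, ?_, ?_⟩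
    · rw [f_sub_right hf.bilinear, hf.bilinear.smul_right, hf.bilinear.smul_right]
      ring
    · intro l hl
      have := congrFun hl i₂
      rw [Pi.sub_apply, Pi.smul_apply, Pi.smul_apply, Pi.smul_apply, he₁, he₂, ha,
        Pi.single_eq_of_ne h12, Pi.single_eq_same, Pi.single_eq_of_ne h02, smul_zero, smul_zero,
        zero_sub, smul_eq_mul, mul_one, neg_eq_zero] at this
      exact h1 this

theorem exists_non_similarity (hn : 3 ≤ n) (hf : IsSymplecticForm f) :
    ∃ g : GL (Fin n) F, g ∈ specialLinear (Fin n) F ∧ g ∉ similarityGroup f := by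
  obtain ⟨a, x₁, ha0, hax, hx₁m⟩ := exists_perp_not_mul (F := F) hn hf
  have hdot : fvec f x₁ ⬝ᵥ a = 0 := by rw [fvec_dot hf.bilinear, hax]
  have hd : 1 + fvec f x₁ ⬝ᵥ a ≠ 0 := by rw [hdot, add_zero]; exact one_ne_zero
  refine ⟨TmGL a (fvec f x₁) hd, ?_, ?_⟩
  · rw [mem_specialLinear_iff, det_TmGL, hdot, add_zero]
  · rintro ⟨c, hc⟩
    have hT : ∀ u, (TmGL a (fvec f x₁) hd : Matrix (Fin n) (Fin n) F) *ᵥ u = u + f u x₁ • a := by
      intro u
      rw [TmGL_mulVec, fvec_dot hf.bilinear]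
    have hx₁0 : x₁ ≠ 0 := by
      intro h
      exact hx₁m 0 (by rw [h, zero_smul])
    obtain ⟨-, ⟨v, hv⟩⟩ := hf.nondegenerate a ha0
    have hc1 : (c : F) = 1 := by
      have := hc a v
      rw [hT, hT, hax, zero_smul, add_zero, hf.bilinear.add_right, hf.bilinear.smul_right,
        hf.alternating, mul_zero, add_zero] at this
      have h2 : (1 : F) * f a v = (c : F) * f a v := by rw [one_mul]; exact this
      exact (mul_right_cancel₀ hv h2).symm
    obtain ⟨⟨v₀, hv₀⟩, -⟩ := hf.nondegenerate x₁ hx₁0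
    have hrel : ∀ u, f u (f v₀ x₁ • a - f v₀ a • x₁) = 0 := by
      intro u
      have := hc u v₀
      rw [hT, hT, hc1, one_mul, hf.bilinear.add_left, hf.bilinear.add_right,
        hf.bilinear.add_right, hf.bilinear.smul_left, hf.bilinear.smul_left,
        hf.bilinear.smul_right, hf.bilinear.smul_right, hf.alternating] at this
      rw [f_sub_right hf.bilinear, hf.bilinear.smul_right, hf.bilinear.smul_right, hf.skew v₀ a]
      linear_combination this
    have heq := eq_zero_of_forall hf _ hrel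
    rw [sub_eq_zero] at heq
    by_cases hva : f v₀ a = 0
    · rw [hva, zero_smul] at heq
      rcases smul_eq_zero.mp heq with h3 | h3
      · exact hv₀ h3
      · exact ha0 h3
    · apply hx₁m ((f v₀ a)⁻¹ * f v₀ x₁)
      rw [← smul_smul, heq, smul_smul, inv_mul_cancel₀ hva, one_smul]

theorem result {F : Type*} [Field F] [Fintype F] (n : ℕ) (hn : 13 ≤ n) (f : (Fin n → F) → (Fin n → F) → F) (hf : Cfsg.Geo.IsSymplecticForm f) : Cfsg.Geo.IsMaximalIn (Cfsg.Geo.specialLinear (Fin n) F) (Cfsg.Geo.similarityGroup f ⊓ Cfsg.Geo.specialLinear (Fin n) F) := by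
  refine ⟨lt_of_le_of_ne inf_le_right ?_, ?_⟩
  · intro heq
    obtain ⟨g, hg1, hg2⟩ := exists_non_similarity (F := F) (by omega) hf
    rw [← heq] at hg1
    exact hg2 hg1.1
  · intro M hM1 hM2
    by_cases hM : M ≤ similarityGroup f ⊓ specialLinear (Fin n) F
    · left
      exact le_antisymm hM hM1
    right
    obtain ⟨h, hhM, hhP⟩ := SetLike.not_le_iff_exists.mp hM
    have hhS : h ∉ similarityGroup f := fun hS => hhP ⟨hS, hM2 hhM⟩
    have hA := key (by omega) hf M hM1 h hhM hhS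
    apply le_antisymm hM2
    intro g hg
    exact Cfsg.Agent.S5631.mem_of_A_all (by omega) M hA g ((mem_specialLinear_iff g).mp hg)

end Cfsg.Agent.S5642
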