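import Cfsg.Statements.S2364
import Mathlib
import Cfsg.Agent.S0242

set_option autoImplicit false
open Cfsg

namespace Cfsg.Agent.S2364

section LemmaX

variable {F : Type*} [Field F] [Finite F] {V : Type*} [AddCommGroup V] [Module F V] [Finite V]

lemma card_modEq_fixed (r : ℕ) [Fact r.Prime] (B : Module.End F V) (hB : B ^ r = 1)
    (W : Submodule F V) (hW : ∀ w ∈ W, B w ∈ W) :
    Nat.card W ≡ Nat.card ↥(W ⊓ LinearMap.ker (B - 1)) [MOD r] := by
  classical
  haveI : Fintype W := Fintype.ofFinite W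
  let f : Function.End W := fun w => ⟨B w.1, hW w.1 w.2⟩
  have hpow : ∀ (j : ℕ) (w : W), ((f ^ j) w).1 = (B ^ j) w.1 := by
    intro j
    induction j with
    | zero => intro w; rw [pow_zero, pow_zero]; rfl
    | succ j ih =>
      intro w
      rw [pow_succ, pow_succ]
      show ((f ^ j) (f w)).1 = (B ^ j) (B w.1)
      rw [ih]
  have hf : f ^ r ^ 1 = 1 := by
    rw [pow_one]
    funext w
    apply Subtype.ext
    rw [hpow, hB]
    rfl
  have h1 := Equiv.Perm.card_fixedPoints_modEq (p := r) (n := 1) hf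
  have hfix : ∀ x : W, f x = x ↔ x.1 ∈ LinearMap.ker (B - 1) := by
    intro x
    rw [LinearMap.mem_ker, LinearMap.sub_apply, Module.End.one_apply, sub_eq_zero]
    constructor
    · intro h
      exact congrArg Subtype.val h
    · intro h
      exact Subtype.ext h
  have e : {x : W // f x = x} ≃ ↥(W ⊓ LinearMap.ker (B - 1)) :=
    { toFun := fun x => ⟨x.1.1, Submodule.mem_inf.2 ⟨x.1.2, (hfix x.1).1 x.2⟩⟩
      invFun := fun u => ⟨⟨u.1, (Submodule.mem_inf.1 u.2).1⟩,
        (hfix ⟨u.1, (Submodule.mem_inf.1 u.2).1⟩).2 (Submodule.mem_inf.1 u.2).2⟩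
      left_inv := fun x => rfl
      right_inv := fun u => rfl }
  have h1' : Fintype.card W ≡ Nat.card {x : W // f x = x} [MOD r] := by
    rw [Nat.card_eq_fintype_card]
    convert h1
    exact Iff.rfl
  rw [Nat.card_eq_fintype_card, ← Nat.card_congr e]
  exact h1'

lemma one_add_pow_of_sq_zero (E : Module.End F V) (hE : E * E = 0) (j : ℕ) :
    (1 + E) ^ j = 1 + j • E := by
  induction j with
  | zero => simp
  | succ j ih =>
    rw [pow_succ, ih, add_mul, mul_add, mul_add, one_mul, mul_one, one_mul, smul_mul_assoc, hE,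
      smul_zero, add_zero, succ_nsmul]
    abel

lemma arith {q r n : ℕ} (hr : r.Prime) (hrq : ¬ r ∣ q)
    (hstar : ∀ j, 1 ≤ j → j + 2 ≤ n → ¬ r ∣ q ^ j - 1) {k c : ℕ} (hck : c ≤ k)
    (h : q ^ k ≡ q ^ c [MOD r]) : k = c ∨ n ≤ k - c + 1 := by
  by_cases hkc : k = c
  · exact Or.inl hkc
  right
  have hlt : c < k := lt_of_le_of_ne hck (Ne.symm hkc)
  have hq1 : 1 ≤ q := by
    rcases Nat.eq_zero_or_pos q with h0 | h0
    · exfalso; apply hrq; rw [h0]; exact dvd_zero _
    · exact h0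
  have hle : q ^ c ≤ q ^ k := Nat.pow_le_pow_right hq1 hck
  have hd : r ∣ q ^ k - q ^ c := (Nat.modEq_iff_dvd' hle).1 h.symm
  have hfac : q ^ k - q ^ c = q ^ c * (q ^ (k - c) - 1) := by
    rw [Nat.mul_sub, mul_one, ← pow_add]
    congr 2
    omega
  rw [hfac] at hd
  have hd2 : r ∣ q ^ (k - c) - 1 := by
    rcases hr.dvd_mul.1 hd with h1 | h1
    · exact absurd (hr.dvd_of_dvd_pow h1) hrq
    · exact h1
  by_contra hcon
  push Not at hcon
  exact hstar (k - c) (by omega) (by omega) hd2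

lemma lemmaX (q : ℕ) (hq : Nat.card F = q) (r : ℕ) [Fact r.Prime] (hrq : ¬ r ∣ q) (n : ℕ)
    (hn : Module.finrank F V = n) (hn3 : 3 ≤ n)
    (hstar : ∀ j, 1 ≤ j → j + 2 ≤ n → ¬ r ∣ q ^ j - 1)
    (N B : Module.End F V) (hNB : N * B = B * N) (hN0 : N ≠ 0) (hNnil : ∃ e, N ^ e = 0)
    (hBr : B ^ r = 1) (hrF : (r : F) ≠ 0) : B = 1 := by
  classical
  have hr : r.Prime := Fact.out
  haveI : Module.Finite F V := Module.Finite.of_finite
  set W₁ := LinearMap.ker N with hW₁
  set W₂ := LinearMap.range N with hW₂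
  set K := LinearMap.ker (B - 1) with hK
  have hsum : Module.finrank F W₂ + Module.finrank F W₁ = n := by
    rw [← hn]
    exact LinearMap.finrank_range_add_finrank_ker N
  have hBW₁ : ∀ w ∈ W₁, B w ∈ W₁ := by
    intro w hw
    rw [hW₁, LinearMap.mem_ker] at hw ⊢
    have : N (B w) = B (N w) := by
      have := congrArg (fun T : Module.End F V => T w) hNB
      simpa using this
    rw [this, hw, map_zero]
  have hBW₂ : ∀ w ∈ W₂, B w ∈ W₂ := by
    rintro w ⟨v, rfl⟩
    refine ⟨B v, ?_⟩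
    have := congrArg (fun T : Module.End F V => T v) hNB
    simpa using this
  -- a nonzero vector in W₁ ⊓ W₂
  obtain ⟨w, hw1, hw2, hw0⟩ : ∃ w, w ∈ W₁ ∧ w ∈ W₂ ∧ w ≠ 0 := by
    have hex : ∃ e, N ^ e = 0 := hNnil
    set e := Nat.find hex with he
    have hNe : N ^ e = 0 := Nat.find_spec hex
    have he0 : e ≠ 0 := by
      intro h0
      rw [h0, pow_zero] at hNe
      apply hN0
      rw [← mul_one N, hNe, mul_zero]
    have he1 : e ≠ 1 := by
      intro h1
      rw [h1, pow_one] at hNe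
      exact hN0 hNe
    have hmin : N ^ (e - 1) ≠ 0 := Nat.find_min hex (by omega)
    obtain ⟨v, hv⟩ : ∃ v, (N ^ (e - 1)) v ≠ 0 := by
      by_contra hcon
      push Not at hcon
      exact hmin (LinearMap.ext hcon)
    refine ⟨(N ^ (e - 1)) v, ?_, ?_, hv⟩
    · rw [hW₁, LinearMap.mem_ker, ← Module.End.mul_apply, ← pow_succ']
      have : e - 1 + 1 = e := by omega
      rw [this, hNe]
      rfl
    · refine ⟨(N ^ (e - 2)) v, ?_⟩
      rw [← Module.End.mul_apply, ← pow_succ']
      have : e - 2 + 1 = e - 1 := by omega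
      rw [this]
  have hk1 : 1 ≤ Module.finrank F W₁ := by
    rw [Nat.one_le_iff_ne_zero, ← Nat.pos_iff_ne_zero, Module.finrank_pos_iff_exists_ne_zero]
    exact ⟨⟨w, hw1⟩, fun h => hw0 (congrArg Subtype.val h)⟩
  have hk2 : 1 ≤ Module.finrank F W₂ := by
    rw [Nat.one_le_iff_ne_zero, ← Nat.pos_iff_ne_zero, Module.finrank_pos_iff_exists_ne_zero]
    exact ⟨⟨w, hw2⟩, fun h => hw0 (congrArg Subtype.val h)⟩
  have hc1 : Module.finrank F ↥(W₁ ⊓ K) ≤ Module.finrank F W₁ := Submodule.finrank_mono inf_le_left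
  have hc2 : Module.finrank F ↥(W₂ ⊓ K) ≤ Module.finrank F W₂ := Submodule.finrank_mono inf_le_left
  have hcard : ∀ U : Submodule F V, Nat.card U = q ^ Module.finrank F U := by
    intro U
    rw [Module.natCard_eq_pow_finrank (K := F), hq]
  have hA1 := arith hr hrq hstar hc1 (by
    have := card_modEq_fixed r B hBr W₁ hBW₁
    rwa [hcard, hcard] at this)
  have hA2 := arith hr hrq hstar hc2 (by
    have := card_modEq_fixed r B hBr W₂ hBW₂
    rwa [hcard, hcard] at this)
  have hU1 : Module.finrank F W₁ = Module.finrank F ↥(W₁ ⊓ K) → W₁ ≤ K := by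
    intro h
    have := Submodule.eq_of_le_of_finrank_eq (inf_le_left : W₁ ⊓ K ≤ W₁) h.symm
    rw [← this]
    exact inf_le_right
  have hU2 : Module.finrank F W₂ = Module.finrank F ↥(W₂ ⊓ K) → W₂ ≤ K := by
    intro h
    have := Submodule.eq_of_le_of_finrank_eq (inf_le_left : W₂ ⊓ K ≤ W₂) h.symm
    rw [← this]
    exact inf_le_right
  have hbot : ∀ U : Submodule F V, Module.finrank F U = 0 → w ∈ U → False := by
    intro U hU hwU
    have : U = ⊥ := Submodule.finrank_eq_zero.1 hU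
    rw [this, Submodule.mem_bot] at hwU
    exact hw0 hwU
  rcases hA1 with h1 | h1
  · rcases hA2 with h2 | h2
    · -- main case
      have hW1K := hU1 h1
      have hW2K := hU2 h2
      set E := B - 1 with hE
      have hEE : E * E = 0 := by
        apply LinearMap.ext
        intro v
        rw [Module.End.mul_apply, LinearMap.zero_apply]
        have hEv : E v ∈ W₁ := by
          rw [hW₁, LinearMap.mem_ker]
          have h3 : N (E v) = E (N v) := by
            have : N * E = E * N := by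
              rw [hE, mul_sub, sub_mul, hNB, mul_one, one_mul]
            have := congrArg (fun T : Module.End F V => T v) this
            simpa using this
          rw [h3]
          have : N v ∈ K := hW2K ⟨v, rfl⟩
          rwa [hK, LinearMap.mem_ker] at this
        have := hW1K hEv
        rwa [hK, LinearMap.mem_ker] at this
      have hB1 : B = 1 + E := by rw [hE]; abel
      have hpow := one_add_pow_of_sq_zero E hEE r
      rw [← hB1, hBr] at hpow
      have hrE : r • E = 0 := by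
        have := hpow
        rw [left_eq_add] at this
        exact this
      have hE0 : E = 0 := by
        rw [← Nat.cast_smul_eq_nsmul F] at hrE
        rcases smul_eq_zero.1 hrE with h | h
        · exact absurd h hrF
        · exact h
      rw [hB1, hE0, add_zero]
    · exfalso
      -- k₂ = n-1, c₂ = 0, k₁ = 1
      have hc20 : Module.finrank F ↥(W₂ ⊓ K) = 0 := by omega
      have hW1K := hU1 h1
      exact hbot _ hc20 ⟨hw2, hW1K hw1⟩
  · exfalso
    have hc10 : Module.finrank F ↥(W₁ ⊓ K) = 0 := by omega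
    rcases hA2 with h2 | h2
    · have hW2K := hU2 h2
      exact hbot _ hc10 ⟨hw1, hW2K hw2⟩
    · omega

end LemmaX


section PartI

variable {F : Type*} [Field F] [Fintype F]

lemma star_of_not_dvd (q : ℕ) (hq : Fintype.card F = q) (n : ℕ) (hn : 4 ≤ n) (r : ℕ)
    (hr : r.Prime)
    (hnd : ¬ r ∣ Nat.card (Matrix.SpecialLinearGroup (Fin (n - 2)) F)) :
    ¬ r ∣ q ∧ ∀ j, 1 ≤ j → j + 2 ≤ n → ¬ r ∣ q ^ j - 1 := by
  obtain ⟨m', hm'⟩ : ∃ m', n - 2 = m' + 1 := ⟨n - 3, by omega⟩
  have hm1 : 1 ≤ m' := by omega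
  have hq2 : 2 ≤ q := by
    rw [← hq]
    exact Fintype.one_lt_card
  have h0 := Cfsg.Agent.S0242.result hq (n - 2) (by omega)
  rw [hm'] at h0 hnd
  rw [Fin.prod_univ_castSucc] at h0
  simp only [Fin.val_castSucc, Fin.val_last] at h0
  have hlast : q ^ (m' + 1) - q ^ m' = q ^ m' * (q - 1) := by
    rw [Nat.mul_sub, mul_one, pow_succ]
  rw [hlast] at h0
  have hcard : Nat.card (Matrix.SpecialLinearGroup (Fin (m' + 1)) F) =
      (∏ i : Fin m', (q ^ (m' + 1) - q ^ (i : ℕ))) * q ^ m' := by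
    have hpos : 0 < q - 1 := by omega
    apply Nat.eq_of_mul_eq_mul_left hpos
    rw [h0]
    ring
  have hi : ¬ r ∣ q := by
    intro h
    apply hnd
    rw [hcard]
    apply Dvd.dvd.mul_left
    exact dvd_pow h (by omega)
  have hii : ∀ j, 2 ≤ j → j + 2 ≤ n → ¬ r ∣ q ^ j - 1 := by
    intro j hj2 hjn h
    apply hnd
    rw [hcard]
    apply Dvd.dvd.mul_right
    have hlt : m' + 1 - j < m' := by omega
    have hmem : (⟨m' + 1 - j, hlt⟩ : Fin m') ∈ Finset.univ := Finset.mem_univ _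
    refine dvd_trans ?_ (Finset.dvd_prod_of_mem _ hmem)
    have : q ^ (m' + 1) - q ^ (m' + 1 - j) = q ^ (m' + 1 - j) * (q ^ j - 1) := by
      rw [Nat.mul_sub, mul_one, ← pow_add]
      congr 2
      omega
    show r ∣ q ^ (m' + 1) - q ^ (m' + 1 - j)
    rw [this]
    exact Dvd.dvd.mul_left h _
  refine ⟨hi, ?_⟩
  intro j hj1 hjn
  rcases Nat.lt_or_ge j 2 with hlt | hge
  · have hj : j = 1 := by omega
    subst hj
    intro h
    apply hii 2 (le_refl _) (by omega)
    have : q ^ 2 - 1 = (q ^ 1 - 1) * (q + 1) := by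
      have h1 : 1 ≤ q := by omega
      zify [h1, Nat.one_le_pow 2 q (by omega)]
      simp only [pow_one]
      push_cast [h1]
      ring
    rw [this]
    exact Dvd.dvd.mul_right h _
  · exact hii j hge hjn

end PartI

section PartII

variable {F : Type*} [Field F] [Fintype F] {n : ℕ}

lemma center_iff (X : Matrix.SpecialLinearGroup (Fin n) F) :
    X ∈ Subgroup.center (Matrix.SpecialLinearGroup (Fin n) F) ↔
      ∃ c : F, (X : Matrix (Fin n) (Fin n) F) = c • 1 := by
  rw [Matrix.SpecialLinearGroup.mem_center_iff]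
  constructor
  · rintro ⟨c, -, hc⟩
    refine ⟨c, ?_⟩
    rw [← hc, Matrix.scalar_apply, Matrix.smul_one_eq_diagonal]
  · rintro ⟨c, hc⟩
    refine ⟨c, ?_, ?_⟩
    · have := X.2
      rw [hc, Matrix.det_smul, Matrix.det_one, mul_one] at this
      exact this
    · rw [hc, Matrix.scalar_apply, Matrix.smul_one_eq_diagonal]

lemma matrix_core (p : ℕ) [Fact p.Prime] [CharP F p] (hn : 4 ≤ n) (q : ℕ)
    (hq : Fintype.card F = q) (r : ℕ) [Fact r.Prime] (hrq : ¬ r ∣ q)
    (hstar : ∀ j, 1 ≤ j → j + 2 ≤ n → ¬ r ∣ q ^ j - 1)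
    (Am Bm : Matrix (Fin n) (Fin n) F) (lam nu zeta : F) (hlam : lam ≠ 0) (hnu : nu ≠ 0)
    (hA : Am ^ p = lam • 1) (hAns : ∀ c : F, Am ≠ c • 1)
    (hB : Bm ^ r = nu • 1) (hB0 : Bm ≠ 0)
    (hcomm : Am * Bm = zeta • (Bm * Am)) : ∃ c : F, Bm = c • 1 := by
  classical
  have hp : p.Prime := Fact.out
  have hr : r.Prime := Fact.out
  haveI : NeZero n := ⟨by omega⟩
  -- p-th root of lam
  obtain ⟨mu, hmu⟩ : ∃ mu : F, mu ^ p = lam := by
    have hinj : Function.Injective (frobenius F p) := frobenius_inj F p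
    have hsurj := Finite.surjective_of_injective hinj
    obtain ⟨mu, hmu⟩ := hsurj lam
    exact ⟨mu, hmu⟩
  have hmu0 : mu ≠ 0 := by
    rintro rfl
    rw [zero_pow hp.ne_zero] at hmu
    exact hlam hmu.symm
  set A' : Matrix (Fin n) (Fin n) F := mu⁻¹ • Am with hA'
  have hA'p : A' ^ p = 1 := by
    rw [hA', smul_pow, hA, smul_smul, inv_pow, hmu, inv_mul_cancel₀ hlam, one_smul]
  have hcomm' : A' * Bm = zeta • (Bm * A') := by
    rw [hA', smul_mul_assoc, hcomm, mul_smul_comm, smul_comm]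
  have hpowcomm : ∀ j : ℕ, A' ^ j * Bm = zeta ^ j • (Bm * A' ^ j) := by
    intro j
    induction j with
    | zero => simp
    | succ j ih =>
      rw [pow_succ', mul_assoc, ih, mul_smul_comm, ← mul_assoc, hcomm', smul_mul_assoc, smul_smul,
        mul_assoc, ← pow_succ', ← pow_succ]
  have hzeta : zeta = 1 := by
    have h1 := hpowcomm p
    rw [hA'p, one_mul, mul_one] at h1
    have h2 : (1 - zeta ^ p) • Bm = 0 := by
      rw [sub_smul, one_smul, ← h1, sub_self]
    rcases smul_eq_zero.1 h2 with h3 | h3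
    · have h4 : zeta ^ p = 1 ^ p := by
        rw [one_pow]
        exact (sub_eq_zero.1 h3).symm
      exact frobenius_inj F p h4
    · exact absurd h3 hB0
  rw [hzeta, one_smul] at hcomm'
  -- r-th root of nu⁻¹
  have hcop : (Nat.card Fˣ).Coprime r := by
    rw [Nat.card_eq_fintype_card, Fintype.card_units, hq]
    apply Nat.Coprime.symm
    rw [Nat.Prime.coprime_iff_not_dvd hr]
    have := hstar 1 (le_refl _) (by omega)
    rwa [pow_one] at this
  obtain ⟨nu', hnu'⟩ : ∃ nu' : F, nu' ^ r = nu⁻¹ ∧ nu' ≠ 0 := by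
    let u : Fˣ := Units.mk0 nu⁻¹ (inv_ne_zero hnu)
    obtain ⟨w, hw⟩ := (powCoprime hcop).surjective u
    refine ⟨(w : F), ?_, w.ne_zero⟩
    have : (w ^ r : Fˣ) = u := hw
    have := congrArg (fun x : Fˣ => (x : F)) this
    simpa [u] using this
  obtain ⟨hnu'r, hnu'0⟩ := hnu'
  set B₁ : Matrix (Fin n) (Fin n) F := nu' • Bm with hB₁
  have hB₁r : B₁ ^ r = 1 := by
    rw [hB₁, smul_pow, hB, smul_smul, hnu'r, inv_mul_cancel₀ hnu, one_smul]
  set N : Matrix (Fin n) (Fin n) F := A' - 1 with hN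
  have hN0 : N ≠ 0 := by
    intro h
    have h1 : A' = 1 := sub_eq_zero.1 h
    apply hAns mu
    have : Am = mu • A' := by
      rw [hA', smul_smul, mul_inv_cancel₀ hmu0, one_smul]
    rw [this, h1]
  have hNp : N ^ p = 0 := by
    rw [hN, sub_pow_char_of_commute p (Commute.one_right A'), hA'p, one_pow, sub_self]
  have hNB : N * B₁ = B₁ * N := by
    have hc1 : Commute A' Bm := hcomm'
    exact ((hc1.sub_left (Commute.one_left _)).smul_right nu').eq
  -- transfer to linear maps
  let φ : Matrix (Fin n) (Fin n) F ≃ₐ[F] Module.End F (Fin n → F) := Matrix.toLinAlgEquiv'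
  have hrF : (r : F) ≠ 0 := by
    intro h
    rw [CharP.cast_eq_zero_iff F p r] at h
    have hpr : p = r := (Nat.prime_dvd_prime_iff_eq hp hr).1 h
    apply hrq
    rw [← hpr, ← hq]
    obtain ⟨k, -, hk⟩ := FiniteField.card F p
    rw [hk]
    exact dvd_pow_self p k.ne_zero
  have hX := lemmaX (F := F) (V := Fin n → F) q (by rw [Nat.card_eq_fintype_card, hq]) r hrq n
    (by simp) (by omega) hstar (φ N) (φ B₁)
    (by rw [← map_mul, ← map_mul, hNB]) (by
      intro h
      apply hN0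
      exact φ.injective (by rw [h, map_zero]))
    ⟨p, by rw [← map_pow, hNp, map_zero]⟩ (by rw [← map_pow, hB₁r, map_one]) hrF
  have hB₁1 : B₁ = 1 := φ.injective (by rw [hX, map_one])
  refine ⟨nu'⁻¹, ?_⟩
  have : Bm = nu'⁻¹ • B₁ := by
    rw [hB₁, smul_smul, inv_mul_cancel₀ hnu'0, one_smul]
  rw [this, hB₁1]

end PartII

/-- Let F be a finite field of characteristic p, n ≥ 4, and let a, b be commuting elements of PSL(n, F) with a of order p. Then every prime divisor of the order of b divides the order of SL(n − 2, F). -/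
theorem result {F : Type*} [Field F] [Fintype F] (p : ℕ) [Fact p.Prime] [CharP F p] (n : ℕ) (hn : 4 ≤ n)
    (a b : Matrix.ProjectiveSpecialLinearGroup (Fin n) F) (ha : orderOf a = p) (hab : Commute a b) :
    (orderOf b).primeFactors ⊆ (Nat.card (Matrix.SpecialLinearGroup (Fin (n - 2)) F)).primeFactors := by
  classical
  have hp : p.Prime := Fact.out
  haveI : Nonempty (Fin n) := ⟨⟨0, by omega⟩⟩
  intro r hr
  rw [Nat.mem_primeFactors] at hr ⊢
  obtain ⟨hrp, hrd, hb0⟩ := hr
  refine ⟨hrp, ?_, Nat.card_pos.ne'⟩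
  by_contra hnd
  haveI : Fact r.Prime := ⟨hrp⟩
  obtain ⟨hrq, hstar⟩ := star_of_not_dvd (F := F) (Fintype.card F) rfl n hn r hrp hnd
  -- element of order r
  set b' := b ^ (orderOf b / r) with hb'
  have hb'ord : orderOf b' = r := orderOf_pow_orderOf_div hb0 hrd
  have hab' : Commute a b' := hab.pow_right _
  obtain ⟨A₀, hA₀⟩ := QuotientGroup.mk_surjective a
  obtain ⟨B₀, hB₀⟩ := QuotientGroup.mk_surjective b'
  -- A₀^p central
  have hAp : A₀ ^ p ∈ Subgroup.center (Matrix.SpecialLinearGroup (Fin n) F) := by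
    rw [← QuotientGroup.eq_one_iff, QuotientGroup.mk_pow, hA₀, ← ha]
    exact pow_orderOf_eq_one a
  have hBr : B₀ ^ r ∈ Subgroup.center (Matrix.SpecialLinearGroup (Fin n) F) := by
    rw [← QuotientGroup.eq_one_iff, QuotientGroup.mk_pow, hB₀, ← hb'ord]
    exact pow_orderOf_eq_one b'
  have hAnc : A₀ ∉ Subgroup.center (Matrix.SpecialLinearGroup (Fin n) F) := by
    intro h
    rw [← QuotientGroup.eq_one_iff, hA₀] at h
    rw [h, orderOf_one] at ha
    exact hp.one_lt.ne ha
  have hBnc : B₀ ∉ Subgroup.center (Matrix.SpecialLinearGroup (Fin n) F) := by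
    intro h
    rw [← QuotientGroup.eq_one_iff, hB₀] at h
    rw [h, orderOf_one] at hb'ord
    exact hrp.one_lt.ne hb'ord
  have hcomm : (B₀ * A₀)⁻¹ * (A₀ * B₀) ∈
      Subgroup.center (Matrix.SpecialLinearGroup (Fin n) F) := by
    rw [← QuotientGroup.eq, QuotientGroup.mk_mul, QuotientGroup.mk_mul, hA₀, hB₀]
    exact hab'.eq.symm
  obtain ⟨lam, hlam⟩ := (center_iff _).1 hAp
  obtain ⟨nu, hnu⟩ := (center_iff _).1 hBr
  obtain ⟨zeta, hzeta⟩ := (center_iff _).1 hcomm
  have hne : ∀ (X : Matrix.SpecialLinearGroup (Fin n) F) (c : F),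
      (X : Matrix (Fin n) (Fin n) F) = c • 1 → c ≠ 0 := by
    rintro X c hX rfl
    have := X.2
    rw [hX, zero_smul, Matrix.det_zero] at this
    exact zero_ne_one this
  have hzeta' : (A₀ : Matrix (Fin n) (Fin n) F) * (B₀ : Matrix (Fin n) (Fin n) F) =
      zeta • ((B₀ : Matrix (Fin n) (Fin n) F) * (A₀ : Matrix (Fin n) (Fin n) F)) := by
    have h1 : A₀ * B₀ = (B₀ * A₀) * ((B₀ * A₀)⁻¹ * (A₀ * B₀)) := by group
    have h2 := congrArg (fun X : Matrix.SpecialLinearGroup (Fin n) F =>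
      (X : Matrix (Fin n) (Fin n) F)) h1
    simp only [Matrix.SpecialLinearGroup.coe_mul] at h2
    rw [h2]
    have h3 : ((B₀ * A₀)⁻¹ * (A₀ * B₀) : Matrix.SpecialLinearGroup (Fin n) F).1 = zeta • 1 :=
      hzeta
    simp only [Matrix.SpecialLinearGroup.coe_mul] at h3
    rw [h3, mul_smul_comm, mul_one]
  obtain ⟨c, hc⟩ := matrix_core (F := F) p hn (Fintype.card F) rfl r hrq hstar
    (A₀ : Matrix (Fin n) (Fin n) F) (B₀ : Matrix (Fin n) (Fin n) F) lam nu zeta
    (hne _ _ hlam) (hne _ _ hnu)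
    (by rw [← Matrix.SpecialLinearGroup.coe_pow]; exact hlam)
    (fun c hc => hAnc ((center_iff _).2 ⟨c, hc⟩))
    (by rw [← Matrix.SpecialLinearGroup.coe_pow]; exact hnu)
    (by
      intro h0
      have := B₀.2
      rw [h0, Matrix.det_zero] at this
      exact zero_ne_one this)
    hzeta'
  exact hBnc ((center_iff _).2 ⟨c, hc⟩)

end Cfsg.Agent.S2364
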