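import Cfsg.Statements.S2368
import Mathlib

set_option autoImplicit false
open Cfsg

namespace Cfsg.Agent.S2368

open Polynomial

section

variable {F : Type*} [Field F] {m : ℕ}

/-- A nilpotent `m × m` matrix over a field has zero `m`-th power. -/
lemma pow_card_eq_zero_of_isNilpotent (N : Matrix (Fin m) (Fin m) F) (hN : IsNilpotent N) :
    N ^ m = 0 := by
  have h1 := Matrix.isNilpotent_charpoly_sub_pow_of_isNilpotent hN
  have h2 : N.charpoly = X ^ m := by
    have := sub_eq_zero.1 h1.eq_zero
    rwa [Fintype.card_fin] at this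
  have h3 := Matrix.aeval_self_charpoly N
  rw [h2, map_pow, aeval_X] at h3
  exact h3

/-- The nilpotent Jordan block. -/
def N₀ (F : Type*) [Field F] (m : ℕ) : Matrix (Fin m) (Fin m) F :=
  Matrix.of fun i j => if (i : ℕ) = j + 1 then 1 else 0

lemma N₀_pow (k : ℕ) :
    (N₀ F m) ^ k = Matrix.of fun (i j : Fin m) => if (i : ℕ) = (j : ℕ) + k then (1 : F) else 0 := by
  induction k with
  | zero =>
    ext i j
    simp [Matrix.one_apply, Fin.ext_iff]
  | succ k ih =>
    rw [pow_succ', ih]
    ext i j
    rw [Matrix.mul_apply]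
    simp only [N₀, Matrix.of_apply]
    by_cases h : (i : ℕ) = j + (k + 1)
    · rw [if_pos h]
      have hlt : (j : ℕ) + k < m := by have := i.2; omega
      rw [Finset.sum_eq_single (⟨j + k, hlt⟩ : Fin m)]
      · simp [h]
        omega
      · intro l _ hl
        have : (l : ℕ) ≠ j + k := fun h' => hl (Fin.ext h')
        rw [if_neg this, mul_zero]
      · intro h'
        exact absurd (Finset.mem_univ _) h'
    · rw [if_neg h]
      apply Finset.sum_eq_zero
      intro l _
      by_cases hl : (l : ℕ) = j + k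
      · have : ¬ (i : ℕ) = l + 1 := by omega
        rw [if_neg this, zero_mul]
      · rw [if_neg hl, mul_zero]

lemma N₀_pow_eq_zero {k : ℕ} (hk : m ≤ k) : (N₀ F m) ^ k = 0 := by
  rw [N₀_pow]
  ext i j
  have : ¬ (i : ℕ) = j + k := by have := i.2; omega
  simp [this]

lemma N₀_pow_ne_zero {k : ℕ} (hk : k < m) : (N₀ F m) ^ k ≠ 0 := by
  rw [N₀_pow]
  intro h
  have := congrFun (congrFun h ⟨k, hk⟩) ⟨0, by omega⟩
  simp at this

end

/-- Let F be a finite field of characteristic p and m ≥ 1. Every element of GL(m, F) of p-power order has order less than p·m, and GL(m, F) has an element of p-power order at least m; so the largest order of a p-element of GL(m, F) is the least power of p that is at least m. -/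
theorem result {F : Type*} [Field F] [Fintype F] (p : ℕ) [Fact p.Prime] [CharP F p] (m : ℕ) (hm : 1 ≤ m) :
    (∀ g : Matrix.GeneralLinearGroup (Fin m) F, (∃ j : ℕ, orderOf g = p ^ j) → orderOf g < p * m) ∧
      ∃ g : Matrix.GeneralLinearGroup (Fin m) F, (∃ j : ℕ, orderOf g = p ^ j) ∧ m ≤ orderOf g := by
  classical
  have hp : p.Prime := Fact.out
  haveI : Nonempty (Fin m) := ⟨⟨0, by omega⟩⟩
  constructor
  · rintro g ⟨j, hj⟩
    set G : Matrix (Fin m) (Fin m) F := (g : Matrix (Fin m) (Fin m) F) with hG
    have hGp : G ^ p ^ j = 1 := by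
      rw [hG, ← Units.val_pow_eq_pow_val, ← hj, pow_orderOf_eq_one, Units.val_one]
    have hNp : (G - 1) ^ p ^ j = 0 := by
      rw [sub_pow_char_pow_of_commute p j (Commute.one_right G), hGp, one_pow, sub_self]
    have hNm : (G - 1) ^ m = 0 := pow_card_eq_zero_of_isNilpotent _ ⟨_, hNp⟩
    rcases Nat.eq_zero_or_pos j with hj0 | hj0
    · rw [hj, hj0, pow_zero]
      have := hp.two_le
      nlinarith
    · have hlt : p ^ (j - 1) < m := by
        by_contra hcon
        push Not at hcon
        have h1 : (G - 1) ^ p ^ (j - 1) = 0 := pow_eq_zero_of_le hcon hNm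
        rw [sub_pow_char_pow_of_commute p (j - 1) (Commute.one_right G), one_pow,
          sub_eq_zero] at h1
        have h2 : g ^ p ^ (j - 1) = 1 := by
          apply Units.ext
          rw [Units.val_pow_eq_pow_val, Units.val_one]
          exact h1
        have h3 := orderOf_dvd_of_pow_eq_one h2
        rw [hj] at h3
        have h4 := Nat.le_of_dvd (pow_pos hp.pos _) h3
        have h5 : p ^ (j - 1) < p ^ j := Nat.pow_lt_pow_right hp.one_lt (by omega)
        omega
      rw [hj]
      have : p ^ j = p * p ^ (j - 1) := by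
        rw [← pow_succ']
        congr 1
        omega
      rw [this]
      exact Nat.mul_lt_mul_of_pos_left hlt hp.pos
  · set g₀ : Matrix (Fin m) (Fin m) F := 1 + N₀ F m with hg₀
    have hmlt : m < p ^ m := Nat.lt_pow_self hp.one_lt
    have hpow : ∀ k : ℕ, g₀ ^ p ^ k = 1 + (N₀ F m) ^ p ^ k := by
      intro k
      rw [hg₀, add_pow_char_pow_of_commute p k (Commute.one_left _), one_pow]
    have hg₀p : g₀ ^ p ^ m = 1 := by
      rw [hpow, N₀_pow_eq_zero hmlt.le, add_zero]
    have hpos : 0 < p ^ m := pow_pos hp.pos _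
    let u : Matrix.GeneralLinearGroup (Fin m) F :=
      ⟨g₀, g₀ ^ (p ^ m - 1), by
        rw [← pow_succ']
        have : p ^ m - 1 + 1 = p ^ m := by omega
        rw [this, hg₀p], by
        rw [← pow_succ]
        have : p ^ m - 1 + 1 = p ^ m := by omega
        rw [this, hg₀p]⟩
    have hu : u ^ p ^ m = 1 := by
      apply Units.ext
      rw [Units.val_pow_eq_pow_val, Units.val_one]
      exact hg₀p
    obtain ⟨j, -, hj⟩ := (Nat.dvd_prime_pow hp).1 (orderOf_dvd_of_pow_eq_one hu)
    refine ⟨u, ⟨j, hj⟩, ?_⟩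
    by_contra hcon
    push Not at hcon
    rw [hj] at hcon
    have h1 : u ^ p ^ j = 1 := by
      rw [← hj]
      exact pow_orderOf_eq_one u
    have h2 : g₀ ^ p ^ j = 1 := by
      have := congrArg (fun x : Matrix.GeneralLinearGroup (Fin m) F =>
        (x : Matrix (Fin m) (Fin m) F)) h1
      simpa [Units.val_pow_eq_pow_val] using this
    rw [hpow, add_eq_left] at h2
    exact N₀_pow_ne_zero hcon h2

end Cfsg.Agent.S2368
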