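import Cfsg.Statements.S0283
import Mathlib
import Cfsg.Agent.Lib.Helper27.UIwasawa
import Cfsg.Agent.S0780

set_option autoImplicit false
open Cfsg

namespace Cfsg.Agent.S0283

open Cfsg.Agent.Lib.Helper27.Unitary Cfsg.Agent.S0780 Matrix

/-- Simplicity modulo the centre transfers along an isomorphism. -/
theorem simple_mod_center_of_equiv {G H : Type*} [Group G] [Group H] (e : H ≃* G)
    (h : IsSimpleGroup (G ⧸ Subgroup.center G)) : IsSimpleGroup (H ⧸ Subgroup.center H) := by
  have hmap : (Subgroup.center H).map (e : H →* G) = Subgroup.center G := by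
    ext x
    rw [Subgroup.mem_map, Subgroup.mem_center_iff]
    constructor
    · rintro ⟨z, hz, rfl⟩ g
      rw [Subgroup.mem_center_iff] at hz
      obtain ⟨k, rfl⟩ := e.surjective g
      change e k * e z = e z * e k
      rw [← map_mul, ← map_mul, hz k]
    · intro hx
      refine ⟨e.symm x, ?_, e.apply_symm_apply x⟩
      rw [Subgroup.mem_center_iff]
      intro k
      apply e.injective
      rw [map_mul, map_mul, e.apply_symm_apply]
      exact hx (e k)
  have e' : H ⧸ Subgroup.center H ≃* G ⧸ Subgroup.center G :=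
    QuotientGroup.congr (Subgroup.center H) (Subgroup.center G) e hmap
  exact e'.isSimpleGroup_congr.mpr h

variable {F : Type*} [Field F] [Fintype F] {q n : ℕ}

/-- `SU_n` is isomorphic to its image in `GL_n`. -/
noncomputable def suEquiv (n : ℕ) (F : Type*) [Field F] [Fintype F] (q : ℕ) :
    ↥(Cfsg.SU n F q) ≃* ↥(Gs n F q) :=
  MulEquiv.ofBijective ((phi n F q).codRestrict (Gs n F q) phi_mem) (by
    constructor
    · intro A B h
      apply phi_injective
      exact congrArg Subtype.val h
    · intro g
      obtain ⟨A, hA⟩ := exists_lift g.2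
      exact ⟨A, Subtype.ext hA⟩)

/-- PSU_n(q) is simple for n at least 3 and (n, q) other than (3, 2). -/
theorem result {F : Type*} [Field F] [Fintype F] {q : ℕ} (hF : Fintype.card F = q ^ 2) (n : ℕ) (hn : 3 ≤ n) (h : ¬ (n = 3 ∧ q = 2)) : IsSimpleGroup (Cfsg.PSU n F q) := by
  exact simple_mod_center_of_equiv (suEquiv n F q) (simple_Gs hF hn h)

end Cfsg.Agent.S0283
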