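import Cfsg.Statements.S2365
import Mathlib
import Cfsg.Agent.Lib.Helper19.UnitaryEig6
import Cfsg.Agent.Lib.Helper27.UOrder2
import Cfsg.Agent.Lib.Helper27.UCenter2
import Cfsg.Agent.S0283

set_option autoImplicit false
open Cfsg

namespace Cfsg.Agent.S2365

open Cfsg.Agent.Lib.Helper27.Unitary Cfsg.Agent.Lib.Helper19.UnitaryEig Cfsg.Agent.S0783 Matrix

section Aux

variable {F : Type*} [Field F] [Fintype F] {q n : ℕ}

/-- The matrix of an element of `SU_n`. -/
def mat (X : ↥(Cfsg.SU n F q)) : Matrix (Fin n) (Fin n) F :=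
  ((X : Matrix.SpecialLinearGroup (Fin n) F) : Matrix (Fin n) (Fin n) F)

lemma mat_mul (X Y : ↥(Cfsg.SU n F q)) : mat (X * Y) = mat X * mat Y := by
  unfold mat
  rw [Subgroup.coe_mul, Matrix.SpecialLinearGroup.coe_mul]

lemma mat_pow (X : ↥(Cfsg.SU n F q)) (i : ℕ) : mat (X ^ i) = mat X ^ i := by
  unfold mat
  rw [Subgroup.coe_pow, Matrix.SpecialLinearGroup.coe_pow]

lemma mat_det (X : ↥(Cfsg.SU n F q)) : (mat X).det = 1 :=
  (X : Matrix.SpecialLinearGroup (Fin n) F).2

lemma center_scalar (hF : Fintype.card F = q ^ 2) (hn : 2 ≤ n) (Z : ↥(Cfsg.SU n F q))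
    (hZ : Z ∈ Subgroup.center ↥(Cfsg.SU n F q)) : ∃ c : F, mat Z = c • 1 := by
  set e := Cfsg.Agent.S0283.suEquiv n F q with he
  have hz' : e Z ∈ Subgroup.center ↥(Gs n F q) := by
    rw [Subgroup.mem_center_iff] at hZ ⊢
    intro g
    obtain ⟨k, rfl⟩ := e.surjective g
    rw [← map_mul, ← map_mul, hZ k]
  obtain ⟨μ, hμ⟩ := (scalZ_bijective hF hn).2 ⟨e Z, hz'⟩
  refine ⟨((μ.1 : Fˣ) : F), ?_⟩
  have h1 := scalZ_coe μ
  rw [hμ] at h1
  have h2 := congrArg (fun g : Matrix.GeneralLinearGroup (Fin n) F =>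
    (g : Matrix (Fin n) (Fin n) F)) h1
  have h3 : ((scal n (μ.1 : Fˣ) : Matrix.GeneralLinearGroup (Fin n) F) :
      Matrix (Fin n) (Fin n) F) = ((μ.1 : Fˣ) : F) • 1 := by
    unfold scal
    rw [Matrix.GeneralLinearGroup.mkOfDetNeZero]
    rfl
  rw [← h3]
  exact h2

lemma center_of_scalar (Z : ↥(Cfsg.SU n F q)) (c : F) (hc : mat Z = c • 1) :
    Z ∈ Subgroup.center ↥(Cfsg.SU n F q) := by
  rw [Subgroup.mem_center_iff]
  intro g
  apply Subtype.ext
  apply Subtype.ext
  show mat (g * Z) = mat (Z * g)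
  rw [mat_mul, mat_mul, hc, Matrix.mul_smul, Matrix.smul_mul, mul_one, one_mul]

lemma unitary_matrix (p k : ℕ) [Fact p.Prime] [CharP F p] (hk : p ^ k ≠ 0)
    (X : ↥(Cfsg.SU n F (p ^ k))) : IsU (iterateFrobenius F p k) (mat X) := by
  classical
  unfold IsU
  ext i j
  have h := X.2 (Pi.single i 1) (Pi.single j 1)
  have h' : hermForm n F (p ^ k) (mat X *ᵥ Pi.single i 1) (mat X *ᵥ Pi.single j 1) =
      hermForm n F (p ^ k) (Pi.single i 1) (Pi.single j 1) := h
  unfold hermForm at h'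
  rw [Matrix.mul_apply]
  have hL : ∀ l, (mat X)ᵀ i l * ((mat X).map (iterateFrobenius F p k)) l j =
      (mat X *ᵥ Pi.single i 1) l * (mat X *ᵥ Pi.single j 1) l ^ (p ^ k) := by
    intro l
    rw [Matrix.transpose_apply, Matrix.map_apply, iterateFrobenius_def]
    simp
  rw [Finset.sum_congr rfl (fun l _ => hL l), h']
  rw [Finset.sum_eq_single i]
  · by_cases hij : i = j
    · subst hij
      simp
    · have hp0 : p ≠ 0 := (Fact.out : p.Prime).ne_zero
      simp [hij, hp0]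
  · intro l _ hl
    simp [Pi.single_apply, hl]
  · intro h
    exact absurd (Finset.mem_univ i) h

lemma star_of_not_dvd_U (hF : Fintype.card F = q ^ 2) (m : ℕ) (hm : 4 ≤ m) (r : ℕ)
    (hr : r.Prime) (hnd : ¬ r ∣ Nat.card ↥(Cfsg.SU (m - 2) F q)) :
    ¬ r ∣ q ∧ ∀ s, 1 ≤ s → s + 2 ≤ m → ¬ r ∣ (if Even s then q ^ s - 1 else q ^ s + 1) := by
  obtain ⟨n', hn'⟩ : ∃ n', m - 2 = n' + 1 := ⟨m - 3, by omega⟩
  have hn1 : 1 ≤ n' := by omega
  rw [hn'] at hnd
  have h1 := card_SU_mul (F := F) (q := q) (n := n' + 1) hF (by omega)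
  have h2 := card_GU (F := F) (q := q) hF (n' + 1)
  rw [Finset.prod_range_succ'] at h2
  have ht0 : (if Even 0 then q ^ (0 + 1) + 1 else q ^ (0 + 1) - 1) = q + 1 := by
    rw [if_pos (by decide : Even 0), zero_add, pow_one]
  rw [ht0] at h2
  have hcard : Nat.card ↥(Cfsg.SU (n' + 1) F q) = q ^ ((n' + 1) * (n' + 1 - 1) / 2) *
      ∏ i ∈ Finset.range n', (if Even (i + 1) then q ^ (i + 1 + 1) + 1 else q ^ (i + 1 + 1) - 1) := by
    have hpos : 0 < q + 1 := by omega
    apply Nat.eq_of_mul_eq_mul_left hpos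
    rw [h1, h2]
    ring
  have he1 : 1 ≤ (n' + 1) * (n' + 1 - 1) / 2 := by
    rw [Nat.add_sub_cancel, Nat.le_div_iff_mul_le (by norm_num)]
    nlinarith
  have hi : ¬ r ∣ q := by
    intro h
    apply hnd
    rw [hcard]
    apply Dvd.dvd.mul_right
    exact dvd_pow h (by omega)
  have hii : ∀ s, 2 ≤ s → s + 2 ≤ m → ¬ r ∣ (if Even s then q ^ s - 1 else q ^ s + 1) := by
    intro s hs2 hsm h
    apply hnd
    rw [hcard]
    apply Dvd.dvd.mul_left
    obtain ⟨s', rfl⟩ : ∃ s', s = s' + 1 + 1 := ⟨s - 2, by omega⟩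
    have hmem : s' ∈ Finset.range n' := by
      rw [Finset.mem_range]
      omega
    refine dvd_trans ?_ (Finset.dvd_prod_of_mem _ hmem)
    by_cases hev : Even (s' + 1)
    · have hodd : ¬ Even (s' + 1 + 1) := by
        rw [Nat.even_add_one]
        exact not_not.2 hev
      rw [if_neg hodd] at h
      rw [if_pos hev]
      exact h
    · have hev' : Even (s' + 1 + 1) := by
        rw [Nat.even_add_one]
        exact hev
      rw [if_pos hev'] at h
      rw [if_neg hev]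
      exact h
  refine ⟨hi, ?_⟩
  intro s hs1 hsm
  rcases Nat.lt_or_ge s 2 with hlt | hge
  · have hs : s = 1 := by omega
    subst hs
    intro h
    rw [if_neg (by decide : ¬ Even 1), pow_one] at h
    apply hii 2 (le_refl _) (by omega)
    rw [if_pos (by decide : Even 2)]
    have hq1 : 1 ≤ q := by
      rcases Nat.eq_zero_or_pos q with h0 | h0
      · rw [h0] at hF
        have : 0 < Fintype.card F := Fintype.card_pos
        omega
      · exact h0
    have : q ^ 2 - 1 = (q + 1) * (q - 1) := by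
      zify [hq1, Nat.one_le_pow 2 q hq1]
      ring
    rw [this]
    exact Dvd.dvd.mul_right h _
  · exact hii s hge hsm

end Aux

/-- Let q be a power of the prime p, F the field with q² elements, m ≥ 4, and let a, b be commuting elements of PSU(m, q) with a of order p. Then every prime divisor of the order of b divides the order of SU(m − 2, q). -/
theorem result {F : Type*} [Field F] [Fintype F] (p : ℕ) [Fact p.Prime] [CharP F p] (m q : ℕ) (hm : 4 ≤ m) (hF : Fintype.card F = q ^ 2)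
    (a b : Cfsg.PSU m F q) (ha : orderOf a = p) (hab : Commute a b) :
    (orderOf b).primeFactors ⊆ (Nat.card ↥(Cfsg.SU (m - 2) F q)).primeFactors := by
  classical
  have hp : p.Prime := Fact.out
  haveI : Nonempty (Fin m) := ⟨⟨0, by omega⟩⟩
  intro r hr
  rw [Nat.mem_primeFactors] at hr ⊢
  obtain ⟨hrp, hrd, hb0⟩ := hr
  refine ⟨hrp, ?_, Nat.card_pos.ne'⟩
  by_contra hnd
  haveI : Fact r.Prime := ⟨hrp⟩
  obtain ⟨hrq, hstar⟩ := star_of_not_dvd_U (F := F) hF m hm r hrp hnd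
  -- q is a power of p
  obtain ⟨k, hk⟩ : ∃ k, q = p ^ k := by
    obtain ⟨e, -, he⟩ := FiniteField.card F p
    have hdvd : q ∣ p ^ (e : ℕ) := by
      rw [← he, hF]
      exact dvd_pow_self q (by norm_num)
    obtain ⟨k, -, hk⟩ := (Nat.dvd_prime_pow hp).1 hdvd
    exact ⟨k, hk⟩
  subst hk
  have hq0 : p ^ k ≠ 0 := pow_ne_zero _ hp.ne_zero
  have hrp' : r ≠ p := by
    intro h
    apply hrq
    rw [h]
    apply dvd_pow_self
    rintro rfl
    rw [pow_zero, one_pow] at hF
    have := Fintype.one_lt_card (α := F)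
    omega
  -- element of order r
  set b' := b ^ (orderOf b / r) with hb'
  have hb'ord : orderOf b' = r := orderOf_pow_orderOf_div hb0 hrd
  have hab' : Commute a b' := hab.pow_right _
  obtain ⟨A₀, hA₀⟩ := QuotientGroup.mk_surjective a
  obtain ⟨B₀, hB₀⟩ := QuotientGroup.mk_surjective b'
  have hAp : A₀ ^ p ∈ Subgroup.center ↥(Cfsg.SU m F (p ^ k)) := by
    rw [← QuotientGroup.eq_one_iff, QuotientGroup.mk_pow, hA₀]
    have h := pow_orderOf_eq_one a
    rw [ha] at h
    exact h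
  have hBr : B₀ ^ r ∈ Subgroup.center ↥(Cfsg.SU m F (p ^ k)) := by
    rw [← QuotientGroup.eq_one_iff, QuotientGroup.mk_pow, hB₀]
    have h := pow_orderOf_eq_one b'
    rw [hb'ord] at h
    exact h
  have hAnc : A₀ ∉ Subgroup.center ↥(Cfsg.SU m F (p ^ k)) := by
    intro h
    rw [← QuotientGroup.eq_one_iff, hA₀] at h
    rw [h, orderOf_one] at ha
    exact hp.one_lt.ne ha
  have hBnc : B₀ ∉ Subgroup.center ↥(Cfsg.SU m F (p ^ k)) := by
    intro h
    rw [← QuotientGroup.eq_one_iff, hB₀] at h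
    rw [h, orderOf_one] at hb'ord
    exact hrp.one_lt.ne hb'ord
  have hcomm : (B₀ * A₀)⁻¹ * (A₀ * B₀) ∈ Subgroup.center ↥(Cfsg.SU m F (p ^ k)) := by
    rw [← QuotientGroup.eq, QuotientGroup.mk_mul, QuotientGroup.mk_mul, hA₀, hB₀]
    exact hab'.eq.symm
  obtain ⟨lam, hlam⟩ := center_scalar hF (by omega) _ hAp
  obtain ⟨nu, hnu⟩ := center_scalar hF (by omega) _ hBr
  obtain ⟨zeta, hzeta⟩ := center_scalar hF (by omega) _ hcomm
  have hne : ∀ (X : ↥(Cfsg.SU m F (p ^ k))) (c : F), mat X = c • 1 → c ≠ 0 := by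
    rintro X c hX rfl
    have := mat_det X
    rw [hX, zero_smul, Matrix.det_zero] at this
    exact zero_ne_one this
  have hzeta' : mat A₀ * mat B₀ = zeta • (mat B₀ * mat A₀) := by
    have h1 : A₀ * B₀ = (B₀ * A₀) * ((B₀ * A₀)⁻¹ * (A₀ * B₀)) := by group
    have h2 := congrArg mat h1
    rw [mat_mul, mat_mul (B₀ * A₀), hzeta, mat_mul, Matrix.mul_smul, mul_one] at h2
    exact h2
  obtain ⟨c, hc⟩ := matrix_core_U (F := F) p k hm hF r hrp' hstar (mat A₀) (mat B₀) lam nu zeta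
    (hne _ _ hlam) (hne _ _ hnu)
    (by rw [← mat_pow]; exact hlam)
    (fun c hc => hAnc (center_of_scalar _ c hc))
    (by rw [← mat_pow]; exact hnu)
    (by
      intro h0
      have := mat_det B₀
      rw [h0, Matrix.det_zero] at this
      exact zero_ne_one this)
    hzeta'
    (unitary_matrix p k hq0 B₀)
  exact hBnc (center_of_scalar _ c hc)

end Cfsg.Agent.S2365
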