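import Cfsg.Statements.S0246
import Mathlib

set_option autoImplicit false
open Cfsg

namespace Cfsg.Agent.S0246

open Matrix

section General

variable {l : Type*} [DecidableEq l] [Fintype l] {R : Type*} [CommRing R]

theorem U_mem (S : Matrix l l R) (hS : Sᵀ = S) :
    fromBlocks 1 S 0 1 ∈ symplecticGroup l R := by
  rw [SymplecticGroup.fromBlocks_mem_iff]
  simp [hS]

theorem L_mem (S : Matrix l l R) (hS : Sᵀ = S) :
    fromBlocks 1 0 S 1 ∈ symplecticGroup l R := by
  rw [SymplecticGroup.fromBlocks_mem_iff]
  simp [hS]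

/-- a matrix commuting with all symmetric matrices is scalar -/
theorem scalar_of_commute_symm [Nonempty l] (A : Matrix l l R)
    (h : ∀ S : Matrix l l R, Sᵀ = S → A * S = S * A) : ∃ a : R, A = a • 1 := by
  have hdiag : ∀ x i : l, x ≠ i → A x i = 0 := by
    intro x i hxi
    have h1 := h (diagonal (Pi.single i 1)) (diagonal_transpose _)
    have h2 := congrFun (congrFun h1 x) i
    rw [mul_diagonal, diagonal_mul, Pi.single_eq_same, Pi.single_eq_of_ne hxi] at h2
    simpa using h2
  have hones : ∀ i j : l, A i i = A j j := by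
    intro i j
    have h1 := h (Matrix.of fun _ _ => (1 : R)) (by ext; rfl)
    have h2 := congrFun (congrFun h1 i) j
    rw [mul_apply, mul_apply] at h2
    simp only [of_apply, mul_one, one_mul] at h2
    rw [Finset.sum_eq_single i (fun k _ hk => hdiag i k (Ne.symm hk))
      (fun h => absurd (Finset.mem_univ _) h),
      Finset.sum_eq_single j (fun k _ hk => hdiag k j hk)
      (fun h => absurd (Finset.mem_univ _) h)] at h2
    exact h2
  obtain ⟨i₀⟩ := (inferInstance : Nonempty l)
  refine ⟨A i₀ i₀, ?_⟩
  ext x y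
  rw [Matrix.smul_apply, smul_eq_mul]
  by_cases hxy : x = y
  · subst hxy
    rw [one_apply_eq, mul_one]
    exact hones x i₀
  · rw [one_apply_ne hxy, mul_zero]
    exact hdiag x y hxy

/-- a matrix commuting with the symplectic "unipotent" block matrices is scalar -/
theorem scalar_of_commute [Nonempty l] (M : Matrix (l ⊕ l) (l ⊕ l) R)
    (hU : ∀ S : Matrix l l R, Sᵀ = S → M * fromBlocks 1 S 0 1 = fromBlocks 1 S 0 1 * M)
    (hL : ∀ S : Matrix l l R, Sᵀ = S → M * fromBlocks 1 0 S 1 = fromBlocks 1 0 S 1 * M) :
    ∃ a : R, M = a • 1 := by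
  obtain ⟨A, B, C, D, rfl⟩ : ∃ A B C D, M = fromBlocks A B C D :=
    ⟨_, _, _, _, (fromBlocks_toBlocks M).symm⟩
  have hU' : ∀ S : Matrix l l R, Sᵀ = S → S * C = 0 ∧ A * S = S * D := by
    intro S hS
    have h1 := hU S hS
    rw [fromBlocks_multiply, fromBlocks_multiply, fromBlocks_inj] at h1
    obtain ⟨e1, e2, _, _⟩ := h1
    simp only [mul_one, mul_zero, add_zero, one_mul] at e1 e2
    constructor
    · have : A + S * C = A + 0 := by rw [← e1, add_zero]
      exact add_left_cancel this
    · have : A * S + B = S * D + B := by rw [e2, add_comm]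
      exact add_right_cancel this
  have hL' : ∀ S : Matrix l l R, Sᵀ = S → S * B = 0 := by
    intro S hS
    have h1 := hL S hS
    rw [fromBlocks_multiply, fromBlocks_multiply, fromBlocks_inj] at h1
    obtain ⟨_, _, _, e4⟩ := h1
    simp only [mul_one, mul_zero, zero_add, one_mul] at e4
    have : S * B + D = 0 + D := by rw [← e4, zero_add]
    exact add_right_cancel this
  have hC : C = 0 := by
    have := (hU' 1 transpose_one).1
    rwa [one_mul] at this
  have hB : B = 0 := by
    have := hL' 1 transpose_one
    rwa [one_mul] at this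
  have hAD : A = D := by
    have := (hU' 1 transpose_one).2
    rwa [one_mul, mul_one] at this
  subst hAD
  obtain ⟨a, ha⟩ := scalar_of_commute_symm A (fun S hS => (hU' S hS).2)
  refine ⟨a, ?_⟩
  rw [hB, hC, ha, ← fromBlocks_one, fromBlocks_smul, smul_zero]

end General

section Field

variable {F : Type*} [Field F] {m : ℕ}

/-- the element `-1` of the symplectic group -/
def negOne (F : Type*) [Field F] (m : ℕ) : symplecticGroup (Fin m) F :=
  ⟨-1, SymplecticGroup.neg_mem (one_mem _)⟩

theorem mem_center_iff (hm : 1 ≤ m) (z : symplecticGroup (Fin m) F) :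
    z ∈ Subgroup.center (symplecticGroup (Fin m) F) ↔ z = 1 ∨ z = negOne F m := by
  have hne : Nonempty (Fin m) := ⟨⟨0, hm⟩⟩
  rw [Subgroup.mem_center_iff]
  constructor
  · intro hz
    obtain ⟨a, ha⟩ := scalar_of_commute (z : Matrix (Fin m ⊕ Fin m) (Fin m ⊕ Fin m) F)
      (fun S hS => by
        have := hz ⟨_, U_mem S hS⟩
        exact (congrArg Subtype.val this).symm)
      (fun S hS => by
        have := hz ⟨_, L_mem S hS⟩
        exact (congrArg Subtype.val this).symm)
    have hsymp := SymplecticGroup.mem_iff.mp z.2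
    rw [ha] at hsymp
    have h1 := congrFun (congrFun hsymp (Sum.inl ⟨0, hm⟩)) (Sum.inr ⟨0, hm⟩)
    rw [transpose_smul, transpose_one, Matrix.mul_smul, Matrix.smul_mul, Matrix.smul_mul,
      Matrix.mul_one, Matrix.one_mul, smul_smul] at h1
    simp only [J, Matrix.smul_apply, fromBlocks_apply₁₂, Matrix.neg_apply, one_apply_eq, smul_eq_mul] at h1
    have h2 : a * a = 1 := by linear_combination -h1
    have h3 : (a - 1) * (a + 1) = 0 := by linear_combination h2
    rcases mul_eq_zero.mp h3 with h4 | h4
    · left
      apply Subtype.ext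
      rw [ha, sub_eq_zero.mp h4, one_smul]
      rfl
    · right
      apply Subtype.ext
      rw [ha, eq_neg_of_add_eq_zero_left h4]
      simp [negOne]
  · rintro (rfl | rfl)
    · intro g; simp
    · intro g
      apply Subtype.ext
      simp [negOne]

end Field

/-- The centre of Sp_{2m}(q), m at least 1, is {1, -1}: it has order gcd(2, q-1). -/
theorem result {F : Type*} [Field F] [Fintype F] {q : ℕ} (hF : Fintype.card F = q) (m : ℕ) (hm : 1 ≤ m) : Nat.card (Subgroup.center (Matrix.symplecticGroup (Fin m) F)) = Nat.gcd 2 (q - 1) := by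
  classical
  have hset : ((Subgroup.center (symplecticGroup (Fin m) F) : Subgroup _) : Set _) =
      {1, negOne F m} := by
    ext z
    rw [SetLike.mem_coe, mem_center_iff hm, Set.mem_insert_iff, Set.mem_singleton_iff]
  have hcard : Nat.card (Subgroup.center (symplecticGroup (Fin m) F)) =
      ({1, negOne F m} : Set (symplecticGroup (Fin m) F)).ncard := by
    rw [← hset]
    exact Nat.card_coe_set_eq _
  rw [hcard]
  have hq2 : 2 ≤ q := by rw [← hF]; exact Fintype.one_lt_card
  by_cases hchar : ringChar F = 2
  · have h1 : (-1 : F) = 1 := neg_one_eq_one_iff.mpr hchar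
    have h2 : negOne F m = 1 := by
      apply Subtype.ext
      simp only [negOne, Submonoid.coe_one]
      ext i j
      rw [Matrix.neg_apply]
      by_cases hij : i = j
      · subst hij; rw [one_apply_eq, h1]
      · rw [one_apply_ne hij, neg_zero]
    rw [h2, Set.pair_eq_singleton, Set.ncard_singleton]
    have h3 := FiniteField.even_card_iff_char_two.mp hchar
    rw [hF] at h3
    have h4 : Odd (q - 1) := by
      rw [Nat.odd_iff]; omega
    exact (Nat.Coprime.gcd_eq_one ((Nat.coprime_two_left).mpr h4)).symm
  · have h1 : (-1 : F) ≠ 1 := fun h => hchar (neg_one_eq_one_iff.mp h)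
    have h2 : (1 : symplecticGroup (Fin m) F) ≠ negOne F m := by
      intro h
      have h3 := congrArg Subtype.val h
      have h4 := congrFun (congrFun h3 (Sum.inl ⟨0, hm⟩)) (Sum.inl ⟨0, hm⟩)
      simp only [negOne, Submonoid.coe_one, Matrix.neg_apply, one_apply_eq] at h4
      exact h1 h4.symm
    rw [Set.ncard_pair h2]
    have h3 : ¬ (q % 2 = 0) := by
      rw [← hF]
      exact fun h => hchar (FiniteField.even_card_iff_char_two.mpr h)
    have h4 : (q - 1) % 2 = 0 := by omega
    have h5 : 2 ∣ q - 1 := Nat.dvd_of_mod_eq_zero h4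
    exact (Nat.gcd_eq_left h5).symm

end Cfsg.Agent.S0246
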