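import Cfsg.Statements.S3517
import Mathlib

set_option autoImplicit false
open Cfsg

namespace Cfsg.Agent.S3517

open Module

theorem sumExtend_inl {K V ι : Type*} [Field K] [AddCommGroup V] [Module K V] (v : ι → V)
    (hv : LinearIndependent K v) (i : ι) : Basis.sumExtend hv (Sum.inl i) = v i := by
  unfold Basis.sumExtend
  simp only [Basis.reindex_apply, Basis.extend_apply_self]
  rfl

/-- Two linearly independent families with the same index type in a finite-dimensional space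
are related by a linear automorphism. -/
theorem exists_linearEquiv_of_linearIndependent {K V ι : Type*} [Field K] [AddCommGroup V]
    [Module K V] [FiniteDimensional K V] (v v' : ι → V) (hv : LinearIndependent K v)
    (hv' : LinearIndependent K v') : ∃ A : V ≃ₗ[K] V, ∀ i, A (v i) = v' i := by
  have h1 : Finite (ι ⊕ Basis.sumExtendIndex hv) := Module.Finite.finite_basis (Basis.sumExtend hv)
  have h2 : Finite (ι ⊕ Basis.sumExtendIndex hv') :=
    Module.Finite.finite_basis (Basis.sumExtend hv')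
  have hι : Finite ι := Finite.of_injective (Sum.inl : ι → ι ⊕ Basis.sumExtendIndex hv)
    Sum.inl_injective
  have hX : Finite (Basis.sumExtendIndex hv) :=
    Finite.of_injective (Sum.inr : _ → ι ⊕ Basis.sumExtendIndex hv) Sum.inr_injective
  have hX' : Finite (Basis.sumExtendIndex hv') :=
    Finite.of_injective (Sum.inr : _ → ι ⊕ Basis.sumExtendIndex hv') Sum.inr_injective
  have hcard : Nat.card (ι ⊕ Basis.sumExtendIndex hv) = Nat.card (ι ⊕ Basis.sumExtendIndex hv') := by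
    rw [← Module.finrank_eq_nat_card_basis (Basis.sumExtend hv),
      ← Module.finrank_eq_nat_card_basis (Basis.sumExtend hv')]
  rw [Nat.card_sum, Nat.card_sum] at hcard
  have hc : Nat.card (Basis.sumExtendIndex hv) = Nat.card (Basis.sumExtendIndex hv') := by omega
  obtain ⟨e⟩ := Finite.card_eq.mp hc
  refine ⟨(Basis.sumExtend hv).equiv (Basis.sumExtend hv') (Equiv.sumCongr (Equiv.refl ι) e), ?_⟩
  intro i
  rw [← sumExtend_inl v hv i, Basis.equiv_apply]
  simp [sumExtend_inl]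

theorem single {V : Type*} [AddCommGroup V] [Module (ZMod 2) V] [FiniteDimensional (ZMod 2) V]
    (u v : V) (hu : u ≠ 0) (hv : v ≠ 0) : ∃ A : V ≃ₗ[ZMod 2] V, A u = v := by
  obtain ⟨A, hA⟩ := exists_linearEquiv_of_linearIndependent (K := ZMod 2) (fun _ : Unit => u)
    (fun _ : Unit => v) (linearIndependent_unique_iff.mpr hu) (linearIndependent_unique_iff.mpr hv)
  exact ⟨A, hA ()⟩

theorem indep_pair {V : Type*} [AddCommGroup V] [Module (ZMod 2) V] (u₁ u₂ : V) (h1 : u₁ ≠ 0)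
    (h2 : u₂ ≠ 0) (h12 : u₁ ≠ u₂) : LinearIndependent (ZMod 2) ![u₁, u₂] := by
  rw [LinearIndependent.pair_iff]
  intro s t hst
  have h01 : ∀ a : ZMod 2, a = 0 ∨ a = 1 := by decide
  rcases h01 s with rfl | rfl <;> rcases h01 t with rfl | rfl
  · exact ⟨rfl, rfl⟩
  · exfalso; apply h2; simpa using hst
  · exfalso; apply h1; simpa using hst
  · exfalso; apply h12
    have h : u₁ + u₂ = 0 := by simpa using hst
    have h3 : u₂ + u₂ = 0 := by
      rw [← two_smul (ZMod 2) u₂]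
      have : (2 : ZMod 2) = 0 := by decide
      rw [this, zero_smul]
    have : u₁ = u₁ + (u₂ + u₂) := by rw [h3, add_zero]
    rw [this, ← add_assoc, h, zero_add]

theorem pair {V : Type*} [AddCommGroup V] [Module (ZMod 2) V] [FiniteDimensional (ZMod 2) V]
    (u₁ u₂ v₁ v₂ : V) (h1 : u₁ = 0 ↔ v₁ = 0) (h2 : u₂ = 0 ↔ v₂ = 0) (h12 : u₁ = u₂ ↔ v₁ = v₂) :
    ∃ A : V ≃ₗ[ZMod 2] V, A u₁ = v₁ ∧ A u₂ = v₂ := by
  by_cases hu1 : u₁ = 0
  · have hv1 := h1.mp hu1
    by_cases hu2 : u₂ = 0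
    · have hv2 := h2.mp hu2
      exact ⟨LinearEquiv.refl _ _, by simp [hu1, hv1], by simp [hu2, hv2]⟩
    · have hv2 : v₂ ≠ 0 := fun h => hu2 (h2.mpr h)
      obtain ⟨A, hA⟩ := single u₂ v₂ hu2 hv2
      exact ⟨A, by simp [hu1, hv1], hA⟩
  · have hv1 : v₁ ≠ 0 := fun h => hu1 (h1.mpr h)
    by_cases hu2 : u₂ = 0
    · have hv2 := h2.mp hu2
      obtain ⟨A, hA⟩ := single u₁ v₁ hu1 hv1
      exact ⟨A, hA, by simp [hu2, hv2]⟩
    · have hv2 : v₂ ≠ 0 := fun h => hu2 (h2.mpr h)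
      by_cases hu12 : u₁ = u₂
      · have hv12 := h12.mp hu12
        obtain ⟨A, hA⟩ := single u₁ v₁ hu1 hv1
        exact ⟨A, hA, by rw [← hu12, ← hv12]; exact hA⟩
      · have hv12 : v₁ ≠ v₂ := fun h => hu12 (h12.mpr h)
        obtain ⟨A, hA⟩ := exists_linearEquiv_of_linearIndependent (K := ZMod 2) ![u₁, u₂] ![v₁, v₂]
          (indep_pair u₁ u₂ hu1 hu2 hu12) (indep_pair v₁ v₂ hv1 hv2 hv12)
        exact ⟨A, by simpa using hA 0, by simpa using hA 1⟩

theorem result (d : ℕ) (hd : 3 ≤ d) (σ : Equiv.Perm (Fin d → ZMod 2)) (t : Fin 3 → (Fin d → ZMod 2)) :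
    ∃ (A : (Fin d → ZMod 2) ≃ₗ[ZMod 2] (Fin d → ZMod 2)) (b : Fin d → ZMod 2), ∀ i, σ (t i) = A (t i) + b := by
  obtain ⟨A, hA1, hA2⟩ := pair (t 1 - t 0) (t 2 - t 0) (σ (t 1) - σ (t 0)) (σ (t 2) - σ (t 0))
    (by rw [sub_eq_zero, sub_eq_zero, σ.injective.eq_iff])
    (by rw [sub_eq_zero, sub_eq_zero, σ.injective.eq_iff])
    (by rw [sub_left_inj, sub_left_inj, σ.injective.eq_iff])
  refine ⟨A, σ (t 0) - A (t 0), ?_⟩
  intro i
  fin_cases i
  · simp
  · change σ (t 1) = A (t 1) + (σ (t 0) - A (t 0))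
    rw [map_sub] at hA1
    rw [← sub_eq_zero]
    have : σ (t 1) - (A (t 1) + (σ (t 0) - A (t 0))) = (σ (t 1) - σ (t 0)) - (A (t 1) - A (t 0)) := by
      abel
    rw [this, hA1, sub_self]
  · change σ (t 2) = A (t 2) + (σ (t 0) - A (t 0))
    rw [map_sub] at hA2
    rw [← sub_eq_zero]
    have : σ (t 2) - (A (t 2) + (σ (t 0) - A (t 0))) = (σ (t 2) - σ (t 0)) - (A (t 2) - A (t 0)) := by
      abel
    rw [this, hA2, sub_self]

end Cfsg.Agent.S3517
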