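import Cfsg.Statements.S2470
import Mathlib
import Cfsg.Agent.S2364
import Cfsg.Agent.Lib.Helper19.PrimeGraphPSL4
import Cfsg.Agent.Lib.Helper19.PrimeGraphPSL5

set_option autoImplicit false
open Cfsg

namespace Cfsg.Agent.S2470

open Cfsg.Agent.Lib.Helper19.PrimeGraphPSL Matrix

section Arith

lemma k_facts (r q : ℕ) [Fact r.Prime] (hrq : ¬ r ∣ q) (hq1 : 1 ≤ q) :
    1 ≤ orderOf ((q : ℕ) : ZMod r) ∧
      ∀ j, (r ∣ q ^ j - 1 ↔ orderOf ((q : ℕ) : ZMod r) ∣ j) := by
  have hr : r.Prime := Fact.out
  have hq0 : ((q : ℕ) : ZMod r) ≠ 0 := by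
    intro h
    rw [ZMod.natCast_eq_zero_iff] at h
    exact hrq h
  constructor
  · rw [Nat.one_le_iff_ne_zero, ← Nat.pos_iff_ne_zero, orderOf_pos_iff, isOfFinOrder_iff_pow_eq_one]
    refine ⟨r - 1, ?_, ZMod.pow_card_sub_one_eq_one hq0⟩
    have := hr.two_le
    omega
  · intro j
    rw [← ZMod.natCast_eq_zero_iff, Nat.cast_sub (Nat.one_le_pow _ _ hq1), Nat.cast_pow,
      Nat.cast_one, sub_eq_zero, orderOf_dvd_iff_pow_eq_one]

end Arith

section Order

variable {F : Type*} [Field F] [Fintype F] {n : ℕ}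

lemma orderOf_mk_eq (X : Matrix.SpecialLinearGroup (Fin n) F) (N : ℕ)
    (h : ∀ j, X ^ j ∈ Subgroup.center (Matrix.SpecialLinearGroup (Fin n) F) ↔ N ∣ j) :
    orderOf (QuotientGroup.mk X : Matrix.ProjectiveSpecialLinearGroup (Fin n) F) = N := by
  apply Nat.dvd_antisymm
  · apply orderOf_dvd_of_pow_eq_one
    rw [← QuotientGroup.mk_pow, QuotientGroup.eq_one_iff]
    exact (h N).2 dvd_rfl
  · apply (h _).1
    rw [← QuotientGroup.eq_one_iff, QuotientGroup.mk_pow]
    exact pow_orderOf_eq_one _

/-- Construction of an element of order `r p` from a block matrix. -/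
lemma exists_of_blk {m : ℕ} (r p : ℕ) (α : F) (hα : α ≠ 0) (C : Matrix (Fin m) (Fin m) F)
    (hdet : (α • Jm F).det * C.det = 1)
    (hchar : ∀ j : ℕ, ((j : F) = 0 ∧ C ^ j = α ^ j • 1) ↔ (r * p) ∣ j) :
    ∃ x : Matrix.ProjectiveSpecialLinearGroup (Fin (2 + m)) F, orderOf x = r * p := by
  let X : Matrix.SpecialLinearGroup (Fin (2 + m)) F :=
    ⟨blk (α • Jm F) C, by rw [det_blk]; exact hdet⟩
  refine ⟨QuotientGroup.mk X, ?_⟩
  apply orderOf_mk_eq
  intro j
  rw [Cfsg.Agent.S2364.center_iff, Matrix.SpecialLinearGroup.coe_pow]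
  constructor
  · rintro ⟨c, hc⟩
    exact (hchar j).1 (blk_pow_scalar α hα C j c hc)
  · intro hj
    obtain ⟨h1, h2⟩ := (hchar j).2 hj
    exact ⟨α ^ j, blk_pow_of α C j h1 h2⟩

end Order

/-- Adjacency of an odd prime and the characteristic in the prime graph of PSL(n,q): let F be a finite field of characteristic p with q elements, n ≥ 2 with PSL(n,F) simple, and let r ≠ p be an odd prime dividing the order of PSL(n,F), with k the multiplicative order of q modulo r. Then PSL(n,F) has NO element of order r·p if and only if either k > n − 2, or n = 3, r = 3 and 3 divides q − 1 exactly once. -/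
theorem result {F : Type*} [Field F] [Fintype F] (p : ℕ) [Fact p.Prime] [CharP F p] (n : ℕ) (hn : 2 ≤ n) (hsmall : n = 2 → 4 ≤ Fintype.card F)
    (r : ℕ) (hr : r.Prime) (hr2 : r ≠ 2) (hrp : r ≠ p) (hrG : r ∣ Nat.card (Matrix.ProjectiveSpecialLinearGroup (Fin n) F))
    (k : ℕ) (hk : k = orderOf ((Fintype.card F : ℕ) : ZMod r)) :
    (r * p ∉ Set.range (orderOf : Matrix.ProjectiveSpecialLinearGroup (Fin n) F → ℕ)) ↔
      (n - 2 < k ∨ (n = 3 ∧ r = 3 ∧ 3 ∣ Fintype.card F - 1 ∧ ¬ 9 ∣ Fintype.card F - 1)) := by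
  classical
  have hp : p.Prime := Fact.out
  haveI : Fact r.Prime := ⟨hr⟩
  set q := Fintype.card F with hq
  have hq2 : 2 ≤ q := Fintype.one_lt_card
  have hrq : ¬ r ∣ q := by
    intro h
    obtain ⟨e, -, he⟩ := FiniteField.card F p
    rw [hq, he] at h
    exact hrp ((Nat.prime_dvd_prime_iff_eq hr hp).1 (hr.dvd_of_dvd_pow h))
  obtain ⟨hk1, hkdvd⟩ := k_facts r q hrq (by omega)
  rw [← hk] at hk1 hkdvd
  have hcop : Nat.Coprime r p := (Nat.coprime_primes hr hp).2 hrp
  constructor
  · -- existence when the right side fails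
    intro hno
    by_contra hR
    push Not at hR
    obtain ⟨hkn, hexc⟩ := hR
    apply hno
    have hn3 : 3 ≤ n := by omega
    obtain ⟨m, rfl⟩ : ∃ m, n = 2 + m := ⟨n - 2, by omega⟩
    have hkm : k ≤ m := by omega
    have hrk : r ∣ q ^ k - 1 := (hkdvd k).2 dvd_rfl
    have hpj : ∀ j : ℕ, ((j : F) = 0 ↔ p ∣ j) := fun j => CharP.cast_eq_zero_iff F p j
    by_cases hm1 : m = 1
    · subst hm1
      have hk1' : k = 1 := by omega
      rw [hk1', pow_one] at hrk
      -- the order of the scalar
      obtain ⟨r', hr'dvd, hr'char⟩ : ∃ r' : ℕ, r' ∣ q - 1 ∧ ∀ j : ℕ, (r' ∣ 3 * j ↔ r ∣ j) := by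
        by_cases hr3 : r = 3
        · refine ⟨9, ?_, ?_⟩
          · exact hexc rfl hr3 (hr3 ▸ hrk)
          · intro j
            rw [hr3]
            omega
        · refine ⟨r, hrk, ?_⟩
          intro j
          have hc3 : Nat.Coprime r 3 := (Nat.coprime_primes hr Nat.prime_three).2 hr3
          exact ⟨fun h => hc3.dvd_of_dvd_mul_left h, fun h => Dvd.dvd.mul_left h 3⟩
      obtain ⟨g, hg⟩ := IsCyclic.exists_ofOrder_eq_natCard (α := Fˣ)
      rw [Nat.card_eq_fintype_card, Fintype.card_units] at hg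
      have hg0 : orderOf g ≠ 0 := by
        rw [hg]
        omega
      set αu : Fˣ := g ^ (orderOf g / r') with hαu
      have hαord : orderOf αu = r' := orderOf_pow_orderOf_div hg0 (by rw [hg]; exact hr'dvd)
      have hαord' : orderOf (αu : F) = r' := by rw [orderOf_units, hαord]
      set α : F := (αu : F) with hα
      have hα0 : α ≠ 0 := αu.ne_zero
      obtain ⟨x, hx⟩ := (exists_of_blk (m := 1) r p α hα0 ((α ^ 2)⁻¹ • (1 : Matrix (Fin 1) (Fin 1) F))
        (by
          rw [Matrix.det_smul, Matrix.det_smul, Matrix.det_one, Jm, Matrix.det_fin_two_of]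
          simp only [Fintype.card_fin, pow_one, mul_one, mul_zero, sub_zero]
          exact mul_inv_cancel₀ (pow_ne_zero _ hα0))
        (by
          intro j
          rw [hpj, smul_pow, one_pow]
          have h1 : ((α ^ 2)⁻¹ ^ j • (1 : Matrix (Fin 1) (Fin 1) F) = α ^ j • 1) ↔
              α ^ (3 * j) = 1 := by
            constructor
            · intro h
              have h2 := congrArg (fun X : Matrix (Fin 1) (Fin 1) F => X 0 0) h
              simp only [Matrix.smul_apply, Matrix.one_apply_eq, smul_eq_mul, mul_one] at h2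
              have h3 : (α ^ 2) ^ j * (α ^ 2)⁻¹ ^ j = 1 := by
                rw [← mul_pow, mul_inv_cancel₀ (pow_ne_zero _ hα0), one_pow]
              rw [h2] at h3
              rw [← h3]
              ring
            · intro h
              have h3 : (α ^ 2)⁻¹ ^ j = α ^ j := by
                have h4 : (α ^ 2) ^ j ≠ 0 := pow_ne_zero _ (pow_ne_zero _ hα0)
                apply mul_left_cancel₀ h4
                rw [← mul_pow, mul_inv_cancel₀ (pow_ne_zero _ hα0), one_pow, ← h]
                ring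
              rw [h3]
          rw [h1, ← orderOf_dvd_iff_pow_eq_one, hαord', hr'char]
          constructor
          · rintro ⟨h2, h3⟩
            exact hcop.mul_dvd_of_dvd_of_dvd h3 h2
          · intro h
            exact ⟨dvd_trans (dvd_mul_left p r) h, dvd_trans (dvd_mul_right r p) h⟩))
      exact ⟨x, hx⟩
    · have hm2 : 2 ≤ m := by omega
      have hdvd : r ∣ Nat.card (Matrix.SpecialLinearGroup (Fin m) F) := by
        by_contra hnd
        have hnd' : ¬ r ∣ Nat.card (Matrix.SpecialLinearGroup (Fin (2 + m - 2)) F) := by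
          rwa [Nat.add_sub_cancel_left]
        obtain ⟨-, hstar⟩ := Cfsg.Agent.S2364.star_of_not_dvd (F := F) q rfl (2 + m)
          (by omega) r hr hnd'
        exact hstar k hk1 (by omega) hrk
      obtain ⟨C, hC⟩ := exists_prime_orderOf_dvd_card' r hdvd
      obtain ⟨x, hx⟩ := (exists_of_blk (m := m) r p (1 : F) one_ne_zero
        (C : Matrix (Fin m) (Fin m) F)
        (by
          rw [one_smul, Jm, Matrix.det_fin_two_of, C.2]
          ring)
        (by
          intro j
          rw [hpj, one_pow, one_smul]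
          have h1 : ((C : Matrix (Fin m) (Fin m) F) ^ j = 1) ↔ r ∣ j := by
            rw [← hC, orderOf_dvd_iff_pow_eq_one]
            constructor
            · intro h
              apply Subtype.ext
              rw [Matrix.SpecialLinearGroup.coe_pow]
              exact h
            · intro h
              rw [← Matrix.SpecialLinearGroup.coe_pow, h]
              rfl
          rw [h1]
          constructor
          · rintro ⟨h2, h3⟩
            exact hcop.mul_dvd_of_dvd_of_dvd h3 h2
          · intro h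
            exact ⟨dvd_trans (dvd_mul_left p r) h, dvd_trans (dvd_mul_right r p) h⟩))
      exact ⟨x, hx⟩
  · -- nonexistence
    rintro hR ⟨x, hx⟩
    haveI : Nonempty (Fin n) := ⟨⟨0, by omega⟩⟩
    have hx' : orderOf x = r * p := hx
    set a := x ^ r with ha'
    set b := x ^ p with hb'
    have ha : orderOf a = p := by
      rw [ha', orderOf_pow_of_dvd hr.ne_zero (by rw [hx']; exact dvd_mul_right r p), hx',
        Nat.mul_div_cancel_left _ hr.pos]
    have hbord : orderOf b = r := by
      rw [hb', orderOf_pow_of_dvd hp.ne_zero (by rw [hx']; exact dvd_mul_left p r), hx',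
        Nat.mul_div_cancel _ hp.pos]
    have hab : Commute a b := (Commute.refl x).pow_pow r p
    obtain ⟨A₀, hA₀⟩ := QuotientGroup.mk_surjective a
    obtain ⟨B₀, hB₀⟩ := QuotientGroup.mk_surjective b
    have hAp : A₀ ^ p ∈ Subgroup.center (Matrix.SpecialLinearGroup (Fin n) F) := by
      rw [← QuotientGroup.eq_one_iff, QuotientGroup.mk_pow, hA₀]
      have h := pow_orderOf_eq_one a
      rw [ha] at h
      exact h
    have hBr : B₀ ^ r ∈ Subgroup.center (Matrix.SpecialLinearGroup (Fin n) F) := by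
      rw [← QuotientGroup.eq_one_iff, QuotientGroup.mk_pow, hB₀]
      have h := pow_orderOf_eq_one b
      rw [hbord] at h
      exact h
    have hAnc : A₀ ∉ Subgroup.center (Matrix.SpecialLinearGroup (Fin n) F) := by
      intro h
      rw [← QuotientGroup.eq_one_iff, hA₀] at h
      rw [h, orderOf_one] at ha
      exact hp.one_lt.ne ha
    have hBnc : B₀ ∉ Subgroup.center (Matrix.SpecialLinearGroup (Fin n) F) := by
      intro h
      rw [← QuotientGroup.eq_one_iff, hB₀] at h
      rw [h, orderOf_one] at hbord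
      exact hr.one_lt.ne hbord
    have hcomm : (B₀ * A₀)⁻¹ * (A₀ * B₀) ∈
        Subgroup.center (Matrix.SpecialLinearGroup (Fin n) F) := by
      rw [← QuotientGroup.eq, QuotientGroup.mk_mul, QuotientGroup.mk_mul, hA₀, hB₀]
      exact hab.eq.symm
    obtain ⟨lam, hlam⟩ := (Cfsg.Agent.S2364.center_iff _).1 hAp
    obtain ⟨nu, hnu⟩ := (Cfsg.Agent.S2364.center_iff _).1 hBr
    obtain ⟨zeta, hzeta⟩ := (Cfsg.Agent.S2364.center_iff _).1 hcomm
    have hne : ∀ (X : Matrix.SpecialLinearGroup (Fin n) F) (c : F),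
        (X : Matrix (Fin n) (Fin n) F) = c • 1 → c ≠ 0 := by
      rintro X c hX rfl
      have := X.2
      rw [hX, zero_smul, Matrix.det_zero] at this
      exact zero_ne_one this
    have hzeta' : (A₀ : Matrix (Fin n) (Fin n) F) * (B₀ : Matrix (Fin n) (Fin n) F) =
        zeta • ((B₀ : Matrix (Fin n) (Fin n) F) * (A₀ : Matrix (Fin n) (Fin n) F)) := by
      have h1 : A₀ * B₀ = (B₀ * A₀) * ((B₀ * A₀)⁻¹ * (A₀ * B₀)) := by group
      have h2 := congrArg (fun X : Matrix.SpecialLinearGroup (Fin n) F =>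
        (X : Matrix (Fin n) (Fin n) F)) h1
      simp only [Matrix.SpecialLinearGroup.coe_mul] at h2
      rw [h2]
      have h3 : ((B₀ * A₀)⁻¹ * (A₀ * B₀) : Matrix.SpecialLinearGroup (Fin n) F).1 = zeta • 1 :=
        hzeta
      simp only [Matrix.SpecialLinearGroup.coe_mul] at h3
      rw [h3, mul_smul_comm, mul_one]
    have hB0 : (B₀ : Matrix (Fin n) (Fin n) F) ≠ 0 := by
      intro h0
      have := B₀.2
      rw [h0, Matrix.det_zero] at this
      exact zero_ne_one this
    obtain ⟨N, hN0, hNp, hNB⟩ := reduce_N (F := F) p (by omega)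
      (A₀ : Matrix (Fin n) (Fin n) F) (B₀ : Matrix (Fin n) (Fin n) F) lam zeta
      (hne _ _ hlam)
      (by rw [← Matrix.SpecialLinearGroup.coe_pow]; exact hlam)
      (fun c hc => hAnc ((Cfsg.Agent.S2364.center_iff _).2 ⟨c, hc⟩)) hB0 hzeta'
    have hBpow : (B₀ : Matrix (Fin n) (Fin n) F) ^ r = nu • 1 := by
      rw [← Matrix.SpecialLinearGroup.coe_pow]; exact hnu
    have hnu0 : nu ≠ 0 := hne _ _ hnu
    suffices hsc : ∃ c : F, (B₀ : Matrix (Fin n) (Fin n) F) = c • 1 from
      hBnc ((Cfsg.Agent.S2364.center_iff _).2 hsc)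
    rcases hR with hR | ⟨hn3, hr3, h3, h9⟩
    · by_cases hn2 : n = 2
      · subst hn2
        exact core_two p r hrp _ N nu hnu0 hBpow hN0 hNp hNB
      · have hn3 : 3 ≤ n := by omega
        refine core_ge_three p hn3 q rfl r hrq ?_ _ N nu hnu0 hBpow hN0 hNp hNB
        intro j hj1 hjn hdj
        have := Nat.le_of_dvd (by omega) ((hkdvd j).1 hdj)
        omega
    · subst hn3
      subst hr3
      exact core_three_exc p (fun h => hrp h.symm) h9 _ N nu hnu0 hBpow B₀.2 hN0 hNp hNB

end Cfsg.Agent.S2470
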