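import Cfsg.Statements.S2476
import Mathlib
import Cfsg.Agent.S2364
import Cfsg.Agent.S2470
import Cfsg.Agent.Lib.Helper19.SpecThree4
import Cfsg.Agent.Lib.Helper19.PrimeGraphPSL6

set_option autoImplicit false
open Cfsg

namespace Cfsg.Agent.S2476

open Cfsg.Agent.Lib.Helper19.PrimeGraphPSL Cfsg.Agent.Lib.Helper19.SpecThree
  Cfsg.Agent.Lib.Helper19.UnitaryEig Matrix Module

section Arith

lemma gcd_T (s : ℕ) : Nat.gcd ((s + 1) ^ 2 + (s + 1) + 1) s = Nat.gcd 3 s := by
  have h : (s + 1) ^ 2 + (s + 1) + 1 = 3 + s * (s + 3) := by ring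
  rw [h, Nat.gcd_add_mul_left_left]

lemma dvd_helper (T s d j : ℕ) (hd : 0 < d) (hdT : d ∣ T) (hds : d ∣ s)
    (hcop : Nat.Coprime (T / d) (s / d)) : T ∣ j * s ↔ T / d ∣ j := by
  obtain ⟨t, rfl⟩ := hdT
  obtain ⟨s', rfl⟩ := hds
  rw [Nat.mul_div_cancel_left _ hd] at hcop ⊢
  rw [Nat.mul_div_cancel_left _ hd] at hcop
  constructor
  · intro h
    have h2 : d * t ∣ d * (j * s') := by
      rw [← mul_assoc, mul_comm d j, mul_assoc]
      exact h
    have h3 := Nat.dvd_of_mul_dvd_mul_left hd h2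
    exact hcop.dvd_of_dvd_mul_right h3
  · intro h
    obtain ⟨e, rfl⟩ := h
    exact ⟨e * s', by ring⟩

lemma arithA (q : ℕ) (hq : 2 ≤ q) (j : ℕ) :
    (q ^ 3 - 1) ∣ (q - 1) * j * (q - 1) ↔ (q ^ 2 + q + 1) / Nat.gcd 3 (q - 1) ∣ j := by
  obtain ⟨s, rfl⟩ : ∃ s, q = s + 1 := ⟨q - 1, by omega⟩
  have hs : 0 < s := by omega
  simp only [Nat.add_sub_cancel]
  have h1 : (s + 1) ^ 3 - 1 = s * ((s + 1) ^ 2 + (s + 1) + 1) := by
    have : (s + 1) ^ 3 = s * ((s + 1) ^ 2 + (s + 1) + 1) + 1 := by ring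
    omega
  have hg := gcd_T s
  have hdpos : 0 < Nat.gcd 3 s := Nat.gcd_pos_of_pos_left _ (by norm_num)
  have hdT : Nat.gcd 3 s ∣ (s + 1) ^ 2 + (s + 1) + 1 := by
    rw [← hg]
    exact Nat.gcd_dvd_left _ _
  have hds : Nat.gcd 3 s ∣ s := Nat.gcd_dvd_right _ _
  have hcop : Nat.Coprime (((s + 1) ^ 2 + (s + 1) + 1) / Nat.gcd 3 s) (s / Nat.gcd 3 s) := by
    have := Nat.coprime_div_gcd_div_gcd (m := (s + 1) ^ 2 + (s + 1) + 1) (n := s)
      (by rw [hg]; exact hdpos)
    rwa [hg] at this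
  rw [h1, mul_assoc, Nat.mul_dvd_mul_iff_left hs]
  exact dvd_helper _ s _ j hdpos hdT hds hcop

lemma arithB (q : ℕ) (hq : 2 ≤ q) (j : ℕ) :
    ((q ^ 2 - 1) ∣ j * (q - 1) ∧ (q ^ 2 - 1) ∣ 3 * j) ↔
      (q ^ 2 - 1) / Nat.gcd 3 (q - 1) ∣ j := by
  obtain ⟨s, rfl⟩ : ∃ s, q = s + 1 := ⟨q - 1, by omega⟩
  simp only [Nat.add_sub_cancel]
  have h1 : (s + 1) ^ 2 - 1 = s * (s + 2) := by
    have : (s + 1) ^ 2 = s * (s + 2) + 1 := by ring
    omega
  have hdpos : 0 < Nat.gcd 3 s := Nat.gcd_pos_of_pos_left _ (by norm_num)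
  have hd : Nat.gcd 3 s ∣ (s + 1) ^ 2 - 1 := by
    rw [h1]
    exact (Nat.gcd_dvd_right _ _).trans (Dvd.intro _ rfl)
  rw [← Nat.dvd_gcd_iff, mul_comm 3 j, Nat.gcd_mul_left, Nat.gcd_comm s 3]
  obtain ⟨m, hm⟩ := hd
  rw [hm, Nat.mul_div_cancel_left _ hdpos, mul_comm j, Nat.mul_dvd_mul_iff_left hdpos]

lemma arithD (q : ℕ) (j : ℕ) :
    (q - 1) ∣ 3 * j ↔ (q - 1) / Nat.gcd 3 (q - 1) ∣ j := by
  have hdpos : 0 < Nat.gcd 3 (q - 1) := Nat.gcd_pos_of_pos_left _ (by norm_num)
  have hcop : Nat.Coprime ((q - 1) / Nat.gcd 3 (q - 1)) (3 / Nat.gcd 3 (q - 1)) := by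
    have := Nat.coprime_div_gcd_div_gcd (m := q - 1) (n := 3)
      (by rw [Nat.gcd_comm]; exact hdpos)
    rwa [Nat.gcd_comm (q - 1) 3] at this
  rw [mul_comm 3 j]
  exact dvd_helper _ 3 _ j hdpos (Nat.gcd_dvd_right _ _) (Nat.gcd_dvd_left _ _) hcop

lemma tau3 {E : Type*} [Field E] (q d s' M₃ : ℕ) (hq : q = d * s' + 1)
    (hM : M₃ * d = q ^ 2 + q + 1) (z : E) (h : z * z ^ q * (z ^ q) ^ q = 1) :
    (z ^ q) ^ M₃ = z ^ M₃ ∧ ((z ^ q) ^ q) ^ M₃ = z ^ M₃ := by
  have hT : z ^ (q ^ 2 + q + 1) = 1 := by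
    rw [← h]
    ring
  have hzd : z ^ (M₃ * d) = 1 := by rw [hM]; exact hT
  subst hq
  constructor
  · have h1 : (d * s' + 1) * M₃ = M₃ + (M₃ * d) * s' := by ring
    rw [← pow_mul, h1, pow_add, pow_mul, hzd, one_pow, mul_one]
  · have h1 : (d * s' + 1) * ((d * s' + 1) * M₃) = M₃ + (M₃ * d) * (s' * (d * s' + 2)) := by ring
    rw [← pow_mul, ← pow_mul, h1, pow_add, pow_mul, hzd, one_pow, mul_one]

lemma taud {E : Type*} [Field E] (q d s' : ℕ) (hq : q = d * s' + 1) (w : E) (h : w ^ d = 1) :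
    w ^ q = w := by
  rw [hq, pow_succ, pow_mul, h, one_pow, one_mul]

end Arith

section Constructions

variable {F : Type*} [Field F] [Fintype F]

lemma exists_orderOf (X : Matrix (Fin 3) (Fin 3) F) (hdet : X.det = 1) (t : ℕ)
    (h : ∀ j : ℕ, (∃ c : F, X ^ j = c • 1) ↔ t ∣ j) :
    ∃ g : Matrix.ProjectiveSpecialLinearGroup (Fin 3) F, orderOf g = t := by
  let X' : Matrix.SpecialLinearGroup (Fin 3) F := ⟨X, hdet⟩
  refine ⟨QuotientGroup.mk X', ?_⟩
  apply Cfsg.Agent.S2470.orderOf_mk_eq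
  intro j
  rw [Cfsg.Agent.S2364.center_iff, Matrix.SpecialLinearGroup.coe_pow]
  exact h j

lemma exists_a (p : ℕ) [Fact p.Prime] [CharP F p] :
    ∃ g : Matrix.ProjectiveSpecialLinearGroup (Fin 3) F,
      orderOf g = (Fintype.card F ^ 2 + Fintype.card F + 1) / Nat.gcd 3 (Fintype.card F - 1) := by
  have hq2 : 2 ≤ Fintype.card F := Fintype.one_lt_card
  obtain ⟨C, hC0, hC1, hC2⟩ := singer_data (F := F) p 3 (by norm_num)
  apply exists_orderOf (C ^ (Fintype.card F - 1))
    (by rw [Matrix.det_pow, FiniteField.pow_card_sub_one_eq_one _ hC0])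
  intro j
  rw [← pow_mul, hC2, arithA _ hq2 j]

lemma exists_b (p : ℕ) [Fact p.Prime] [CharP F p] :
    ∃ g : Matrix.ProjectiveSpecialLinearGroup (Fin 3) F,
      orderOf g = (Fintype.card F ^ 2 - 1) / Nat.gcd 3 (Fintype.card F - 1) := by
  have hq2 : 2 ≤ Fintype.card F := Fintype.one_lt_card
  obtain ⟨C, hC0, hC1, hC2⟩ := singer_data (F := F) p 2 (by norm_num)
  set δ := C.det with hδ
  have hdet : (blkG C (δ⁻¹ • (1 : Matrix (Fin 1) (Fin 1) F))).det = 1 := by
    rw [det_blkG, Matrix.det_smul, Matrix.det_one, Fintype.card_fin, pow_one, mul_one,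
      mul_inv_cancel₀ hC0]
  apply exists_orderOf (blkG C (δ⁻¹ • (1 : Matrix (Fin 1) (Fin 1) F))) hdet
  intro j
  rw [← arithB _ hq2 j, ← hC2 j, ← hC1 (3 * j)]
  have hdetpow : ∀ c : F, C ^ j = c • 1 → δ ^ j = c ^ 2 := by
    intro c hc
    have := congrArg Matrix.det hc
    rw [Matrix.det_pow, Matrix.det_smul, Matrix.det_one, Fintype.card_fin, mul_one] at this
    exact this
  constructor
  · rintro ⟨c, hc⟩
    rw [blkG_pow, ← blkG_smul_one (a := 2) (b := 1)] at hc
    obtain ⟨e1, e2⟩ := blkG_inj hc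
    have e3 : (δ⁻¹) ^ j = c := by
      have := congrArg (fun X : Matrix (Fin 1) (Fin 1) F => X 0 0) e2
      simpa [smul_pow] using this
    have e4 := hdetpow c e1
    have hc3 : c ^ 3 = 1 := by
      have : (δ⁻¹) ^ j * δ ^ j = 1 := by
        rw [← mul_pow, inv_mul_cancel₀ hC0, one_pow]
      rw [e3, e4] at this
      rw [← this]
      ring
    refine ⟨⟨c, e1⟩, ?_⟩
    rw [pow_mul', e1, smul_pow, one_pow, hc3, one_smul]
  · rintro ⟨⟨c, hc⟩, h3⟩
    have hc3 : c ^ 3 = 1 := by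
      rw [pow_mul', hc, smul_pow, one_pow] at h3
      have := congrArg (fun X : Matrix (Fin 2) (Fin 2) F => X 0 0) h3
      simpa using this
    have e4 := hdetpow c hc
    have hc0 : c ≠ 0 := by
      rintro rfl
      rw [zero_pow three_ne_zero] at hc3
      exact zero_ne_one hc3
    have e3 : (δ⁻¹) ^ j = c := by
      rw [inv_pow, e4]
      apply mul_left_cancel₀ (pow_ne_zero 2 hc0)
      rw [mul_inv_cancel₀ (pow_ne_zero 2 hc0), ← hc3]
      ring
    refine ⟨c, ?_⟩
    rw [blkG_pow, hc, smul_pow, one_pow, e3, blkG_smul_one]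

lemma exists_c :
    ∃ g : Matrix.ProjectiveSpecialLinearGroup (Fin 3) F, orderOf g = Fintype.card F - 1 := by
  classical
  obtain ⟨g, hg⟩ := IsCyclic.exists_ofOrder_eq_natCard (α := Fˣ)
  rw [Nat.card_eq_fintype_card, Fintype.card_units] at hg
  have hαord : orderOf (g : F) = Fintype.card F - 1 := by rw [orderOf_units, hg]
  have hα0 : (g : F) ≠ 0 := g.ne_zero
  set α : F := (g : F) with hα
  have hdet : (blkG (Matrix.diagonal ![α, α⁻¹]) (1 : Matrix (Fin 1) (Fin 1) F)).det = 1 := by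
    rw [det_blkG, Matrix.det_diagonal, Fin.prod_univ_two, Matrix.det_one, mul_one]
    simp [mul_inv_cancel₀ hα0]
  apply exists_orderOf _ hdet
  intro j
  rw [← hαord, orderOf_dvd_iff_pow_eq_one]
  constructor
  · rintro ⟨c, hc⟩
    rw [blkG_pow, ← blkG_smul_one (a := 2) (b := 1)] at hc
    obtain ⟨e1, e2⟩ := blkG_inj hc
    have hc1 : c = 1 := by
      have := congrArg (fun X : Matrix (Fin 1) (Fin 1) F => X 0 0) e2
      simpa using this.symm
    have := congrArg (fun X : Matrix (Fin 2) (Fin 2) F => X 0 0) e1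
    rw [hc1] at this
    simpa [Matrix.diagonal_pow] using this
  · intro h
    refine ⟨1, ?_⟩
    rw [blkG_pow, one_pow, one_smul]
    have h1 : (Matrix.diagonal ![α, α⁻¹]) ^ j = 1 := by
      rw [Matrix.diagonal_pow]
      ext a b
      fin_cases a <;> fin_cases b <;> simp [h, Matrix.one_apply]
    rw [h1, blkG_one]

lemma exists_d (p : ℕ) [Fact p.Prime] [CharP F p] :
    ∃ g : Matrix.ProjectiveSpecialLinearGroup (Fin 3) F,
      orderOf g = p * (Fintype.card F - 1) / Nat.gcd 3 (Fintype.card F - 1) := by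
  classical
  have hp : p.Prime := Fact.out
  have hq2 : 2 ≤ Fintype.card F := Fintype.one_lt_card
  obtain ⟨g, hg⟩ := IsCyclic.exists_ofOrder_eq_natCard (α := Fˣ)
  rw [Nat.card_eq_fintype_card, Fintype.card_units] at hg
  have hαord : orderOf (g : F) = Fintype.card F - 1 := by rw [orderOf_units, hg]
  have hα0 : (g : F) ≠ 0 := g.ne_zero
  set α : F := (g : F) with hα
  have hdq : Nat.gcd 3 (Fintype.card F - 1) ∣ Fintype.card F - 1 := Nat.gcd_dvd_right _ _
  have hpj : ∀ j : ℕ, ((j : F) = 0 ↔ p ∣ j) := fun j => CharP.cast_eq_zero_iff F p j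
  have hcop : Nat.Coprime ((Fintype.card F - 1) / Nat.gcd 3 (Fintype.card F - 1)) p := by
    apply Nat.Coprime.coprime_dvd_left (Nat.div_dvd_of_dvd hdq)
    apply Nat.Coprime.symm
    rw [Nat.Prime.coprime_iff_not_dvd hp]
    intro h
    obtain ⟨e, -, he⟩ := FiniteField.card F p
    have h2 : p ∣ Fintype.card F := by
      rw [he]
      exact dvd_pow_self p e.ne_zero
    have h3 : p ∣ 1 := by
      have := Nat.dvd_sub h2 h
      rwa [Nat.sub_sub_self (by omega)] at this
    exact hp.one_lt.ne' (Nat.dvd_one.1 h3)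
  obtain ⟨x, hx⟩ := Cfsg.Agent.S2470.exists_of_blk (m := 1)
    ((Fintype.card F - 1) / Nat.gcd 3 (Fintype.card F - 1)) p α hα0
    ((α ^ 2)⁻¹ • (1 : Matrix (Fin 1) (Fin 1) F))
    (by
      rw [Matrix.det_smul, Matrix.det_smul, Matrix.det_one, Jm, Matrix.det_fin_two_of]
      simp only [Fintype.card_fin, pow_one, mul_one, mul_zero, sub_zero]
      exact mul_inv_cancel₀ (pow_ne_zero _ hα0))
    (by
      intro j
      rw [hpj, smul_pow, one_pow]
      have h1 : ((α ^ 2)⁻¹ ^ j • (1 : Matrix (Fin 1) (Fin 1) F) = α ^ j • 1) ↔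
          α ^ (3 * j) = 1 := by
        constructor
        · intro h
          have h2 := congrArg (fun X : Matrix (Fin 1) (Fin 1) F => X 0 0) h
          simp only [Matrix.smul_apply, Matrix.one_apply_eq, smul_eq_mul, mul_one] at h2
          have h3 : (α ^ 2) ^ j * (α ^ 2)⁻¹ ^ j = 1 := by
            rw [← mul_pow, mul_inv_cancel₀ (pow_ne_zero _ hα0), one_pow]
          rw [h2] at h3
          rw [← h3]
          ring
        · intro h
          have h3 : (α ^ 2)⁻¹ ^ j = α ^ j := by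
            have h4 : (α ^ 2) ^ j ≠ 0 := pow_ne_zero _ (pow_ne_zero _ hα0)
            apply mul_left_cancel₀ h4
            rw [← mul_pow, mul_inv_cancel₀ (pow_ne_zero _ hα0), one_pow, ← h]
            ring
          rw [h3]
      rw [h1, ← orderOf_dvd_iff_pow_eq_one, hαord, arithD]
      constructor
      · rintro ⟨h2, h3⟩
        exact hcop.mul_dvd_of_dvd_of_dvd h3 h2
      · intro h
        exact ⟨dvd_trans (dvd_mul_left p _) h, dvd_trans (dvd_mul_right _ p) h⟩)
  refine ⟨x, ?_⟩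
  rw [hx, mul_comm, Nat.mul_div_assoc _ hdq]

lemma exists_e [CharP F 2] :
    ∃ g : Matrix.ProjectiveSpecialLinearGroup (Fin 3) F, orderOf g = 4 := by
  have h2 : (2 : F) = 0 := CharTwo.two_eq_zero
  have h11 : (1 : F) + 1 = 0 := by rw [one_add_one_eq_two, h2]
  set J : Matrix (Fin 3) (Fin 3) F := !![1, 1, 0; 0, 1, 1; 0, 0, 1] with hJ
  have hJ2 : J ^ 2 = !![1, 0, 1; 0, 1, 0; 0, 0, 1] := by
    rw [pow_two, hJ, Matrix.mul_fin_three]
    simp [h11]
  have hJ4 : J ^ 4 = 1 := by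
    have : J ^ 4 = J ^ 2 * J ^ 2 := by rw [← pow_add]
    rw [this, hJ2, Matrix.mul_fin_three, Matrix.one_fin_three]
    simp [h11]
  have hdet : J.det = 1 := by
    rw [hJ, Matrix.det_fin_three]
    simp
  let J' : Matrix.SpecialLinearGroup (Fin 3) F := ⟨J, hdet⟩
  refine ⟨QuotientGroup.mk J', ?_⟩
  haveI : Fact (Nat.Prime 2) := ⟨Nat.prime_two⟩
  have := orderOf_eq_prime_pow (p := 2) (n := 1)
    (x := (QuotientGroup.mk J' : Matrix.ProjectiveSpecialLinearGroup (Fin 3) F)) ?_ ?_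
  · simpa using this
  · rw [pow_one, ← QuotientGroup.mk_pow, QuotientGroup.eq_one_iff, Cfsg.Agent.S2364.center_iff,
      Matrix.SpecialLinearGroup.coe_pow]
    rintro ⟨c, hc⟩
    have hc' : J ^ 2 = c • 1 := hc
    rw [hJ2] at hc'
    have := congrArg (fun X : Matrix (Fin 3) (Fin 3) F => X 0 2) hc'
    simp at this
  · rw [← QuotientGroup.mk_pow, QuotientGroup.eq_one_iff]
    have : J' ^ 2 ^ (1 + 1) = 1 := by
      apply Subtype.ext
      rw [Matrix.SpecialLinearGroup.coe_pow]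
      exact hJ4
    rw [this]
    exact Subgroup.one_mem _

end Constructions

/-- The set of element orders of PSL(3,q): let F be a finite field of characteristic p with q elements and d = gcd(3, q − 1). The orders of elements of PSL(3,F) are exactly the divisors of (q² + q + 1)/d, of (q² − 1)/d, of q − 1, of p(q − 1)/d, and, when p = 2, of 4. -/
theorem result {F : Type*} [Field F] [Fintype F] (p : ℕ) [Fact p.Prime] [CharP F p] :
    Set.range (orderOf : Matrix.ProjectiveSpecialLinearGroup (Fin 3) F → ℕ) =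
      {m : ℕ | m ∣ (Fintype.card F ^ 2 + Fintype.card F + 1) / Nat.gcd 3 (Fintype.card F - 1) ∨
        m ∣ (Fintype.card F ^ 2 - 1) / Nat.gcd 3 (Fintype.card F - 1) ∨ m ∣ Fintype.card F - 1 ∨
        m ∣ p * (Fintype.card F - 1) / Nat.gcd 3 (Fintype.card F - 1) ∨ (p = 2 ∧ m ∣ 4)} := by
  classical
  have hp : p.Prime := Fact.out
  have hq2 : 2 ≤ Fintype.card F := Fintype.one_lt_card
  have hdpos : 0 < Nat.gcd 3 (Fintype.card F - 1) := Nat.gcd_pos_of_pos_left _ (by norm_num)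
  have hd3 : Nat.gcd 3 (Fintype.card F - 1) ∣ 3 := Nat.gcd_dvd_left _ _
  have hdq : Nat.gcd 3 (Fintype.card F - 1) ∣ Fintype.card F - 1 := Nat.gcd_dvd_right _ _
  ext m
  simp only [Set.mem_range, Set.mem_setOf_eq]
  constructor
  · rintro ⟨g, rfl⟩
    obtain ⟨X', rfl⟩ := QuotientGroup.mk_surjective g
    set o := orderOf (QuotientGroup.mk X' : Matrix.ProjectiveSpecialLinearGroup (Fin 3) F) with ho
    have hopos : 0 < o := orderOf_pos _
    have hord : ∀ j, (∃ c : F, (X' : Matrix (Fin 3) (Fin 3) F) ^ j = c • 1) ↔ o ∣ j := by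
      intro j
      rw [← Matrix.SpecialLinearGroup.coe_pow, ← Cfsg.Agent.S2364.center_iff,
        ← QuotientGroup.eq_one_iff, QuotientGroup.mk_pow, ho, orderOf_dvd_iff_pow_eq_one]
    let E := AlgebraicClosure F
    let ι : F →+* E := algebraMap F E
    haveI : CharP E p := charP_of_injective_algebraMap ι.injective p
    obtain ⟨e, -, he⟩ := FiniteField.card F p
    set σ : E →+* E := iterateFrobenius E p (e : ℕ) with hσ
    have hσq : ∀ z, σ z = z ^ Fintype.card F := by
      intro z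
      rw [hσ, iterateFrobenius_def, he]
    have hqpos : 0 < Fintype.card F := Fintype.card_pos
    have hσsurj : Function.Surjective σ := by
      intro z
      obtain ⟨t, ht⟩ := IsAlgClosed.exists_pow_nat_eq z hqpos
      exact ⟨t, by rw [hσq, ht]⟩
    obtain ⟨s', hs'⟩ := hdq
    have hqs : Fintype.card F = Nat.gcd 3 (Fintype.card F - 1) * s' + 1 := by omega
    have hdT : Nat.gcd 3 (Fintype.card F - 1) ∣ Fintype.card F ^ 2 + Fintype.card F + 1 := by
      obtain ⟨s, hs⟩ : ∃ s, Fintype.card F = s + 1 := ⟨Fintype.card F - 1, by omega⟩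
      rw [hs, Nat.add_sub_cancel, ← gcd_T s]
      exact Nat.gcd_dvd_left _ _
    have hdq2 : Nat.gcd 3 (Fintype.card F - 1) ∣ Fintype.card F ^ 2 - 1 := by
      have h1 : Fintype.card F ^ 2 - 1 = (Fintype.card F - 1) * (Fintype.card F + 1) := by
        obtain ⟨s, hs⟩ : ∃ s, Fintype.card F = s + 1 := ⟨Fintype.card F - 1, by omega⟩
        rw [hs, Nat.add_sub_cancel]
        have : (s + 1) ^ 2 = s * (s + 1 + 1) + 1 := by ring
        omega
      rw [h1]
      exact (Nat.gcd_dvd_right _ _).trans (Dvd.intro _ rfl)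
    have hmono : ∀ (j : ℕ) (x : E), x ≠ 0 →
        finrank E ((toEnd ((ι.mapMatrix (X' : Matrix (Fin 3) (Fin 3) F)) ^ j)).eigenspace x) ≤
          finrank E ((toEnd ((ι.mapMatrix (X' : Matrix (Fin 3) (Fin 3) F)) ^ j)).eigenspace
            ((fun z : E => z ^ Fintype.card F) x)) := by
      intro j x _
      have h4 := nul_frob σ hσsurj ((ι.mapMatrix (X' : Matrix (Fin 3) (Fin 3) F)) ^ j) (by
        rw [← map_pow]
        ext a b
        show σ (ι (((X' : Matrix (Fin 3) (Fin 3) F) ^ j) a b)) =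
          ι (((X' : Matrix (Fin 3) (Fin 3) F) ^ j) a b)
        rw [hσq, ← map_pow, FiniteField.pow_card]) x
      rw [hσq] at h4
      exact h4
    have hcore := spectrum_core p ι (fun z : E => z ^ Fintype.card F)
      (by
        intro a b h
        apply σ.injective
        rw [hσq, hσq]
        exact h)
      (Fintype.card F - 1) ((Fintype.card F ^ 2 - 1) / Nat.gcd 3 (Fintype.card F - 1))
      ((Fintype.card F ^ 2 + Fintype.card F + 1) / Nat.gcd 3 (Fintype.card F - 1))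
      (Nat.gcd 3 (Fintype.card F - 1))
      (by
        intro z j
        show (z ^ j) ^ Fintype.card F = (z ^ Fintype.card F) ^ j
        rw [← pow_mul, ← pow_mul, mul_comm])
      (by
        intro z hz (h : z ^ Fintype.card F = z)
        have h5 : z ^ (Fintype.card F - 1) * z = 1 * z := by
          rw [← pow_succ, Nat.sub_add_cancel hqpos, one_mul, h]
        exact mul_right_cancel₀ hz h5)
      (by
        intro z hz (h : (z ^ Fintype.card F) ^ Fintype.card F = z)
        rw [Nat.div_mul_cancel hdq2]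
        have h5 : z ^ (Fintype.card F ^ 2 - 1) * z = 1 * z := by
          rw [← pow_succ, Nat.sub_add_cancel (Nat.one_le_pow _ _ hqpos), one_mul, pow_two,
            pow_mul, h]
        exact mul_right_cancel₀ hz h5)
      (by
        intro z hz (h : z * z ^ Fintype.card F * (z ^ Fintype.card F) ^ Fintype.card F = 1)
        exact tau3 _ _ s' _ hqs (Nat.div_mul_cancel hdT) z h)
      (by
        intro w hw
        exact taud _ _ s' hqs w hw)
      hd3 (Nat.gcd_dvd_right _ _) (X' : Matrix (Fin 3) (Fin 3) F) X'.2 hmono o hopos hord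
    rcases hcore with h | h | h | h | h
    · right; right; left; exact h
    · right; left; exact h
    · left; exact h
    · right; right; right; left
      rw [Nat.mul_div_assoc _ (Nat.gcd_dvd_right _ _)]
      exact h
    · right; right; right; right; exact h
  · intro hm
    have key : ∀ M : ℕ,
        (∃ g : Matrix.ProjectiveSpecialLinearGroup (Fin 3) F, orderOf g = M) → m ∣ M →
          ∃ g : Matrix.ProjectiveSpecialLinearGroup (Fin 3) F, orderOf g = m := by
      rintro M ⟨g, hg⟩ hmM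
      refine ⟨g ^ (M / m), ?_⟩
      have hM0 : orderOf g ≠ 0 := (orderOf_pos g).ne'
      rw [← hg] at hmM ⊢
      exact orderOf_pow_orderOf_div hM0 hmM
    rcases hm with h | h | h | h | ⟨h2, h⟩
    · exact key _ (exists_a p) h
    · exact key _ (exists_b p) h
    · exact key _ exists_c h
    · exact key _ (exists_d p) h
    · subst h2
      exact key _ exists_e h

end Cfsg.Agent.S2476
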