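import Cfsg.Statements.S0950
import Cfsg.Agent.Lib.Helper11.FrobeniusLocal

set_option autoImplicit false
open Cfsg

namespace Cfsg.Agent.S0950

open Subgroup QuaternionGroup Cfsg.Agent.Lib.Helper11

theorem q8_sq (x : QuaternionGroup 2) (h1 : x ≠ 1) (h2 : x ≠ a 2) : x ^ 2 = a 2 := by
  revert x; decide

theorem q8_cases (x : QuaternionGroup 2) (h1 : x ≠ 1) (h2 : x ≠ a 2) :
    x = a 1 ∨ x = (a 1)⁻¹ ∨ x = xa 0 ∨ x = (xa 0)⁻¹ ∨ x = xa 1 ∨ x = (xa 1)⁻¹ := by
  revert x; decide

theorem q8_a2 : (a 2 : QuaternionGroup 2) ≠ 1 ∧ (a 2 : QuaternionGroup 2) ^ 2 = 1 := by decide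

/-- Abstract data of a quaternion group of order 8 inside `G`. -/
structure QData {G : Type*} [Group G] (S : Subgroup G) (z : G) : Prop where
  hz : z ∈ S
  hz1 : z ≠ 1
  hz2 : z ^ 2 = 1
  hsq : ∀ x ∈ S, x ≠ 1 → x ≠ z → x ^ 2 = z
  hcard : Nat.card S = 8

section
variable {G : Type*} [Group G] {S : Subgroup G} {z : G}

theorem QData.unique_inv (h : QData S z) {y : G} (hy : y ∈ S) (hy1 : y ≠ 1) (hy2 : y ^ 2 = 1) :
    y = z := by
  by_contra hne
  have := h.hsq y hy hy1 hne
  rw [hy2] at this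
  exact h.hz1 this.symm

theorem QData.orderOf_eq_four (h : QData S z) {x : G} (hx : x ∈ S) (hx1 : x ≠ 1) (hxz : x ≠ z) :
    orderOf x = 4 := by
  have h2 : x ^ 2 = z := h.hsq x hx hx1 hxz
  haveI : Fact (Nat.Prime 2) := ⟨Nat.prime_two⟩
  have := orderOf_eq_prime_pow (x := x) (p := 2) (n := 1) (by rw [pow_one, h2]; exact h.hz1)
    (by
      have : x ^ 2 ^ (1 + 1) = (x ^ 2) ^ 2 := by rw [← pow_mul]; norm_num
      rw [this, h2, h.hz2])
  simpa using this

theorem QData.eq_zpowers (h : QData S z) {H : Subgroup G} (hH4 : Nat.card H = 4)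
    {x : G} (hxH : x ∈ H) (hx : x ∈ S) (hx1 : x ≠ 1) (hxz : x ≠ z) : H = zpowers x := by
  symm
  haveI : Finite H := Nat.finite_of_card_ne_zero (by rw [hH4]; norm_num)
  apply Subgroup.eq_of_le_of_card_ge ((zpowers_le).2 hxH)
  rw [Nat.card_zpowers, h.orderOf_eq_four hx hx1 hxz, hH4]

theorem QData.exists_gen (h : QData S z) {H : Subgroup G} (hH4 : Nat.card H = 4) :
    ∃ x ∈ H, x ≠ 1 ∧ x ≠ z := by
  by_contra hcon
  push_neg at hcon
  have hsub : (H : Set G) ⊆ {1, z} := by
    intro x hx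
    by_cases hx1 : x = 1
    · simp [hx1]
    · simp [hcon x hx hx1]
  have h1 := Set.ncard_le_ncard hsub (Set.toFinite _)
  have h2 : ({1, z} : Set G).ncard ≤ 2 := by
    have := Set.ncard_insert_le 1 ({z} : Set G)
    rw [Set.ncard_singleton] at this
    exact this
  have h3 : (H : Set G).ncard = Nat.card H := (Nat.card_coe_set_eq _).symm
  rw [h3, hH4] at h1
  omega

/-- Conjugation fixes the unique involution. -/
theorem QData.conj_z (h : QData S z) {Q : Subgroup G} (hQ : Q ≤ S) (hzQ : z ∈ Q) {g : G}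
    (hg : g ∈ normalizer (Q : Set G)) : g * z * g⁻¹ = z := by
  have h1 : g * z * g⁻¹ ∈ Q := (mem_normalizer_iff.1 hg z).1 hzQ
  apply h.unique_inv (hQ h1)
  · intro h0
    apply h.hz1
    have : z = g⁻¹ * (g * z * g⁻¹) * g := by group
    rw [this, h0]; group
  · have : (g * z * g⁻¹) ^ 2 = g * z ^ 2 * g⁻¹ := by
      rw [pow_two, pow_two]; group
    rw [this, h.hz2]; group

theorem mem_zpowers_of_odd {g : G} [Finite G] (hodd : Nat.Coprime (orderOf g) 2) :
    g ∈ zpowers (g ^ 2) := by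
  have h1 : orderOf g % 2 = 1 := by
    rcases Nat.mod_two_eq_zero_or_one (orderOf g) with h | h
    · exfalso
      have : 2 ∣ orderOf g := Nat.dvd_of_mod_eq_zero h
      have := Nat.Coprime.eq_one_of_dvd hodd.symm this
      omega
    · exact h
  refine ⟨((orderOf g + 1) / 2 : ℕ), ?_⟩
  show (g ^ 2) ^ (((orderOf g + 1) / 2 : ℕ) : ℤ) = g
  rw [zpow_natCast, ← pow_mul]
  have : 2 * ((orderOf g + 1) / 2) = orderOf g + 1 := by omega
  rw [this, pow_succ, pow_orderOf_eq_one, one_mul]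

/-- An element of odd order normalizing a cyclic subgroup of order 4 centralizes its generator. -/
theorem QData.conj_gen (h : QData S z) [Finite G] {x : G} (hx : x ∈ S) (hx1 : x ≠ 1) (hxz : x ≠ z)
    {g : G} (hg : g ∈ normalizer ((zpowers x : Subgroup G) : Set G))
    (hodd : Nat.Coprime (orderOf g) 2) : g * x * g⁻¹ = x := by
  have ho : orderOf x = 4 := h.orderOf_eq_four hx hx1 hxz
  have hx2 : x ^ 2 = z := h.hsq x hx hx1 hxz
  have hx4 : x ^ 4 = 1 := by rw [← ho]; exact pow_orderOf_eq_one x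
  have hzx : z ∈ zpowers x := by rw [← hx2]; exact pow_mem (mem_zpowers x) 2
  have hle : zpowers x ≤ S := (zpowers_le).2 hx
  have hgz : g * z * g⁻¹ = z := h.conj_z hle hzx hg
  have h1 : g * x * g⁻¹ ∈ zpowers x := (mem_normalizer_iff.1 hg x).1 (mem_zpowers x)
  obtain ⟨k, hk⟩ := h1
  have hk' : x ^ (k % 4) = g * x * g⁻¹ := by
    have := zpow_mod_orderOf x k
    rw [ho] at this
    have h4 : ((4 : ℕ) : ℤ) = 4 := by norm_num
    rw [h4] at this
    rw [this]; exact hk
  have hk0 : 0 ≤ k % 4 := Int.emod_nonneg _ (by norm_num)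
  have hk4 : k % 4 < 4 := Int.emod_lt_of_pos _ (by norm_num)
  obtain ⟨j, hj⟩ := Int.eq_ofNat_of_zero_le hk0
  rw [hj, zpow_natCast] at hk'
  have hj4 : j < 4 := by omega
  interval_cases j
  · exfalso
    apply hx1
    have : x = g⁻¹ * (g * x * g⁻¹) * g := by group
    rw [this, ← hk']; group
  · rw [← hk', pow_one]
  · exfalso
    apply hxz
    have : x = g⁻¹ * (g * x * g⁻¹) * g := by group
    rw [this, ← hk', hx2]
    have : z = g⁻¹ * (g * z * g⁻¹) * g := by group
    rw [hgz] at this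
    exact this.symm
  · -- `g x g⁻¹ = x⁻¹`
    have hinv : g * x * g⁻¹ = x⁻¹ := by
      rw [← hk']
      have : x ^ 3 * x = 1 := by rw [← pow_succ]; exact hx4
      exact eq_inv_of_mul_eq_one_left this
    have h2 : (g ^ 2) * x * (g ^ 2)⁻¹ = x := by
      have : (g ^ 2) * x * (g ^ 2)⁻¹ = g * (g * x * g⁻¹) * g⁻¹ := by rw [pow_two]; group
      rw [this, hinv]
      have : g * x⁻¹ * g⁻¹ = (g * x * g⁻¹)⁻¹ := by group
      rw [this, hinv, inv_inv]
    have h3 : g ^ 2 ∈ centralizer ({x} : Set G) := by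
      rw [mem_centralizer_iff]
      intro y hy
      rw [Set.mem_singleton_iff] at hy
      subst hy
      calc y * g ^ 2 = (g ^ 2 * y * (g ^ 2)⁻¹)⁻¹⁻¹ * g ^ 2 := by rw [h2, inv_inv]
        _ = g ^ 2 * y := by group
    have h4 : g ∈ centralizer ({x} : Set G) :=
      (zpowers_le.2 h3) (mem_zpowers_of_odd hodd)
    rw [mem_centralizer_iff] at h4
    have := h4 x rfl
    rw [← this]; group

/-- An odd-order element normalizing `S` and a subgroup `H ≤ S` of order 4 centralizes `S`. -/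
theorem QData.centralizes (h : QData S z) [Finite G] {H : Subgroup G} (hH : H ≤ S)
    (hH4 : Nat.card H = 4) {g : G} (hgS : g ∈ normalizer (S : Set G))
    (hgH : H.map (MulAut.conj g).toMonoidHom = H) (hodd : Nat.Coprime (orderOf g) 2) :
    ∀ x ∈ S, g * x * g⁻¹ = x := by
  obtain ⟨a, haH, ha1, haz⟩ := h.exists_gen hH4
  have hHz : H = zpowers a := h.eq_zpowers hH4 haH (hH haH) ha1 haz
  have hgN : g ∈ normalizer (H : Set G) := mem_normalizer_iff_map_conj_eq.2 hgH
  have hga : g * a * g⁻¹ = a := h.conj_gen (hH haH) ha1 haz (hHz ▸ hgN) hodd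
  have hgH' : ∀ y ∈ H, g * y * g⁻¹ = y := by
    intro y hy
    rw [hHz] at hy
    obtain ⟨k, rfl⟩ := hy
    have : g * a ^ k * g⁻¹ = (g * a * g⁻¹) ^ k := by
      have := map_zpow (MulAut.conj g) a k
      simpa [MulAut.conj_apply] using this
    rw [this, hga]
  -- index two
  have hidx : (H.subgroupOf S).index = 2 := by
    have h1 := Subgroup.relIndex_mul_relIndex ⊥ H S bot_le hH
    rw [Subgroup.relIndex_bot_left, Subgroup.relIndex_bot_left, hH4, h.hcard] at h1
    show H.relIndex S = 2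
    omega
  intro x hx
  by_cases hxH : x ∈ H
  · exact hgH' x hxH
  have hgx : g * x * g⁻¹ ∈ S := (mem_normalizer_iff.1 hgS x).1 hx
  have hgxH : g * x * g⁻¹ ∉ H := fun hc => hxH ((mem_normalizer_iff.1 hgN x).2 hc)
  have hb : x⁻¹ * (g * x * g⁻¹) ∈ H := by
    have := Subgroup.mul_mem_iff_of_index_two hidx (a := (⟨x⁻¹, inv_mem hx⟩ : S))
      (b := ⟨g * x * g⁻¹, hgx⟩)
    simp only [mem_subgroupOf, Subgroup.coe_mul, inv_mem_iff] at this
    exact this.2 ⟨fun hc => absurd hc hxH, fun hc => absurd hc hgxH⟩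
  set b := x⁻¹ * (g * x * g⁻¹) with hbdef
  have hgb : g * b * g⁻¹ = b := hgH' b hb
  have hpow : ∀ k : ℕ, g ^ k * x * (g ^ k)⁻¹ = x * b ^ k := by
    intro k
    induction k with
    | zero => simp
    | succ k ih =>
      have e1 : g ^ (k + 1) * x * (g ^ (k + 1))⁻¹ = g * (g ^ k * x * (g ^ k)⁻¹) * g⁻¹ := by
        rw [pow_succ']; group
      rw [e1, ih]
      have e2 : g * (x * b ^ k) * g⁻¹ = (g * x * g⁻¹) * (g * b * g⁻¹) ^ k := by
        have : g * b ^ k * g⁻¹ = (g * b * g⁻¹) ^ k := by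
          have := map_pow (MulAut.conj g) b k
          simpa [MulAut.conj_apply] using this
        rw [← this]; group
      rw [e2, hgb]
      have e3 : g * x * g⁻¹ = x * b := by rw [hbdef]; group
      rw [e3, pow_succ']; group
  have h1 := hpow (orderOf g)
  rw [pow_orderOf_eq_one, one_mul, inv_one, mul_one] at h1
  have hbm : b ^ orderOf g = 1 := by
    have : x * b ^ orderOf g = x * 1 := by rw [mul_one]; exact h1.symm
    exact mul_left_cancel this
  have hb4 : b ^ 4 = 1 := by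
    have := pow_card_eq_one' (G := H) (x := ⟨b, hb⟩)
    rw [hH4] at this
    have h2 := congrArg (Subtype.val) this
    simpa using h2
  have hb1 : b = 1 := by
    have h2 := (pow_gcd_eq_one (a := b)).2 ⟨hbm, hb4⟩
    have h3 : Nat.gcd (orderOf g) 4 = 1 := by
      have : Nat.Coprime (orderOf g) (2 ^ 2) := Nat.Coprime.pow_right 2 hodd
      exact this
    rw [h3, pow_one] at h2
    exact h2
  have : g * x * g⁻¹ = x * b := by rw [hbdef]; group
  rw [this, hb1, mul_one]

/-- An odd-order element normalizing a proper subgroup of `S` centralizes it. -/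
theorem QData.centralizes_proper (h : QData S z) [Finite G] {Q : Subgroup G} (hQ : Q ≤ S)
    (hne : Q ≠ S) {g : G} (hg : g ∈ normalizer (Q : Set G))
    (hodd : Nat.Coprime (orderOf g) 2) : g ∈ centralizer (Q : Set G) := by
  rw [mem_centralizer_iff]
  intro y hy
  have hyQ : y ∈ Q := hy
  suffices hs : g * y * g⁻¹ = y by
    calc y * g = (g * y * g⁻¹)⁻¹⁻¹ * g := by rw [hs, inv_inv]
      _ = g * y := by group
  by_cases hy1 : y = 1
  · subst hy1; group
  by_cases hyz : y = z
  · subst hyz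
    exact h.conj_z hQ hyQ hg
  -- `y` has order 4, so `Q = ⟨y⟩`
  have ho : orderOf y = 4 := h.orderOf_eq_four (hQ hyQ) hy1 hyz
  have h4 : 4 ∣ Nat.card Q := by
    rw [← ho]
    have := orderOf_dvd_natCard (G := Q) ⟨y, hyQ⟩
    rwa [Subgroup.orderOf_mk] at this
  have h8 : Nat.card Q ∣ 8 := by
    rw [← h.hcard]
    exact Subgroup.card_dvd_of_le hQ
  have hcard : Nat.card Q = 4 := by
    have h8' : Nat.card Q ∣ 2 ^ 3 := by simpa using h8
    obtain ⟨j, hj, hjc⟩ := (Nat.dvd_prime_pow Nat.prime_two).1 h8'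
    interval_cases j
    · rw [hjc] at h4; omega
    · rw [hjc] at h4; omega
    · simpa using hjc
    · exfalso
      apply hne
      haveI : Finite S := Nat.finite_of_card_ne_zero (by rw [h.hcard]; norm_num)
      apply Subgroup.eq_of_le_of_card_ge hQ
      rw [h.hcard, hjc]; norm_num
  have hQz : Q = zpowers y := h.eq_zpowers hcard hyQ (hQ hyQ) hy1 hyz
  exact h.conj_gen (hQ hyQ) hy1 hyz (hQz ▸ hg) hodd

end

theorem pigeon {α : Type*} (H1 H2 H3 A0 A1 A2 B : α)
    (h0 : A0 = H1 ∨ A0 = H2 ∨ A0 = H3) (h1 : A1 = H1 ∨ A1 = H2 ∨ A1 = H3)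
    (h2 : A2 = H1 ∨ A2 = H2 ∨ A2 = H3) (hb : B = H1 ∨ B = H2 ∨ B = H3)
    (d01 : A0 ≠ A1) (d12 : A1 ≠ A2) (d02 : A0 ≠ A2) : B = A0 ∨ B = A1 ∨ B = A2 := by
  rcases h0 with h0 | h0 | h0 <;> rcases h1 with h1 | h1 | h1 <;> rcases h2 with h2 | h2 | h2 <;>
    rcases hb with hb | hb | hb <;> subst_vars <;> simp_all

section
variable {G : Type*} [Group G] {S : Subgroup G} (e : S ≃* QuaternionGroup 2)

theorem qdata_of_equiv : QData S ((e.symm (a 2) : S) : G) := by
  refine ⟨(e.symm (a 2)).2, ?_, ?_, ?_, ?_⟩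
  · intro h0
    have : e.symm (a 2) = 1 := Subtype.ext h0
    rw [MulEquiv.map_eq_one_iff] at this
    exact q8_a2.1 this
  · have : (e.symm (a 2)) ^ 2 = 1 := by rw [← map_pow, q8_a2.2, map_one]
    have h2 := congrArg Subtype.val this
    simpa using h2
  · intro x hx hx1 hxz
    have h1 : e ⟨x, hx⟩ ≠ 1 := by
      intro h0
      rw [MulEquiv.map_eq_one_iff] at h0
      exact hx1 (congrArg Subtype.val h0)
    have h2 : e ⟨x, hx⟩ ≠ a 2 := by
      intro h0
      apply hxz
      have : (⟨x, hx⟩ : S) = e.symm (a 2) := by rw [← h0, MulEquiv.symm_apply_apply]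
      exact congrArg Subtype.val this
    have h3 := q8_sq _ h1 h2
    rw [← map_pow] at h3
    have : (⟨x, hx⟩ : S) ^ 2 = e.symm (a 2) := by rw [← h3, MulEquiv.symm_apply_apply]
    have h4 := congrArg Subtype.val this
    simpa using h4
  · rw [Nat.card_congr e.toEquiv, Nat.card_eq_fintype_card, QuaternionGroup.card]

theorem three_subgroups (H : Subgroup G) (hH : H ≤ S) (hH4 : Nat.card H = 4) :
    H = zpowers ((e.symm (a 1) : S) : G) ∨ H = zpowers ((e.symm (xa 0) : S) : G) ∨
      H = zpowers ((e.symm (xa 1) : S) : G) := by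
  have h := qdata_of_equiv e
  obtain ⟨x, hxH, hx1, hxz⟩ := h.exists_gen hH4
  have hHz : H = zpowers x := h.eq_zpowers hH4 hxH (hH hxH) hx1 hxz
  have h1 : e ⟨x, hH hxH⟩ ≠ 1 := by
    intro h0
    rw [MulEquiv.map_eq_one_iff] at h0
    exact hx1 (congrArg Subtype.val h0)
  have h2 : e ⟨x, hH hxH⟩ ≠ a 2 := by
    intro h0
    apply hxz
    have : (⟨x, hH hxH⟩ : S) = e.symm (a 2) := by rw [← h0, MulEquiv.symm_apply_apply]
    exact congrArg Subtype.val this
  have key : ∀ q : QuaternionGroup 2, e ⟨x, hH hxH⟩ = q → x = ((e.symm q : S) : G) := by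
    intro q hq
    have : (⟨x, hH hxH⟩ : S) = e.symm q := by rw [← hq, MulEquiv.symm_apply_apply]
    exact congrArg Subtype.val this
  have key' : ∀ q : QuaternionGroup 2, e ⟨x, hH hxH⟩ = q⁻¹ →
      zpowers x = zpowers ((e.symm q : S) : G) := by
    intro q hq
    have := key _ hq
    rw [this, map_inv, Subgroup.coe_inv, zpowers_inv]
  rcases q8_cases _ h1 h2 with hc | hc | hc | hc | hc | hc
  · left; rw [hHz, key _ hc]
  · left; rw [hHz, key' _ hc]
  · right; left; rw [hHz, key _ hc]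
  · right; left; rw [hHz, key' _ hc]
  · right; right; rw [hHz, key _ hc]
  · right; right; rw [hHz, key' _ hc]

end

theorem card_map_conj {G : Type*} [Group G] (A : Subgroup G) (g : G) :
    Nat.card (A.map (MulAut.conj g).toMonoidHom) = Nat.card A :=
  Subgroup.card_map_of_injective (MulAut.conj g).injective

theorem map_conj_le {G : Type*} [Group G] {A S : Subgroup G} (hA : A ≤ S) {g : G}
    (hg : g ∈ normalizer (S : Set G)) : A.map (MulAut.conj g).toMonoidHom ≤ S := by
  rintro _ ⟨y, hy, rfl⟩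
  exact (mem_normalizer_iff.1 hg y).1 (hA hy)

theorem map_conj_mul {G : Type*} [Group G] (A : Subgroup G) (g k : G) :
    (A.map (MulAut.conj k).toMonoidHom).map (MulAut.conj g).toMonoidHom =
      A.map (MulAut.conj (g * k)).toMonoidHom := by
  rw [Subgroup.map_map]
  congr 1
  ext y
  simp [MulAut.conj_apply, mul_assoc]

theorem result {G : Type*} [Group G] [Finite G] (S : Sylow 2 G) (e : (S : Subgroup G) ≃* QuaternionGroup 2) (hnc : ∀ N : Subgroup G, N.Normal → ¬ Subgroup.IsComplement' N (S : Subgroup G)) (A B : Subgroup G) (hA : A ≤ S) (hB : B ≤ S) (hA4 : Nat.card A = 4) (hB4 : Nat.card B = 4) : ∃ n ∈ Subgroup.normalizer ((S : Subgroup G) : Set G), B = A.map (MulAut.conj n).toMonoidHom := by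
  haveI : Fact (Nat.Prime 2) := ⟨Nat.prime_two⟩
  have h := qdata_of_equiv e
  -- Frobenius: some odd-order element normalizes but does not centralize a subgroup of `S`
  have hloc : ¬ LocalPNilpotent 2 G := by
    intro hc
    obtain ⟨K, hKn, hK⟩ := exists_normal_complement_of_local hc S
    exact hnc K hKn hK
  have hex : ∃ Q : Subgroup G, Q ≤ (S : Subgroup G) ∧ ∃ g ∈ normalizer (Q : Set G),
      Nat.Coprime (orderOf g) 2 ∧ g ∉ centralizer (Q : Set G) := by
    by_contra hcon
    apply hloc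
    apply localPNilpotent_of_sylow S
    intro Q hQ g hg hodd
    by_contra hgc
    exact hcon ⟨Q, hQ, g, hg, hodd, hgc⟩
  obtain ⟨Q, hQ, g, hgN, hodd, hgC⟩ := hex
  have hQS : Q = (S : Subgroup G) := by
    by_contra hne
    exact hgC (h.centralizes_proper hQ hne hgN hodd)
  subst hQS
  -- `g` normalizes no subgroup of order 4
  have hno : ∀ k : G, k ∈ normalizer ((S : Subgroup G) : Set G) → Nat.Coprime (orderOf k) 2 →
      k ∉ centralizer ((S : Subgroup G) : Set G) → ∀ H : Subgroup G, H ≤ (S : Subgroup G) →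
      Nat.card H = 4 → H.map (MulAut.conj k).toMonoidHom ≠ H := by
    intro k hkN hkodd hkC H hH hH4 hfix
    apply hkC
    rw [mem_centralizer_iff]
    intro y hy
    have := h.centralizes hH hH4 hkN hfix hkodd y hy
    calc y * k = (k * y * k⁻¹)⁻¹⁻¹ * k := by rw [this, inv_inv]
      _ = k * y := by group
  have hg2N : g * g ∈ normalizer ((S : Subgroup G) : Set G) := mul_mem hgN hgN
  have hg2odd : Nat.Coprime (orderOf (g * g)) 2 := by
    have : orderOf (g ^ 2) ∣ orderOf g := orderOf_pow_dvd 2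
    rw [pow_two] at this
    exact Nat.Coprime.coprime_dvd_left this hodd
  have hg2C : g * g ∉ centralizer ((S : Subgroup G) : Set G) := by
    intro hc
    apply hgC
    have : g ∈ zpowers (g ^ 2) := mem_zpowers_of_odd hodd
    rw [pow_two] at this
    exact (zpowers_le.2 hc) this
  set A1 := A.map (MulAut.conj g).toMonoidHom with hA1
  set A2 := A.map (MulAut.conj (g * g)).toMonoidHom with hA2
  have hA1S : A1 ≤ (S : Subgroup G) := map_conj_le hA hgN
  have hA2S : A2 ≤ (S : Subgroup G) := map_conj_le hA hg2N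
  have hA14 : Nat.card A1 = 4 := by rw [hA1, card_map_conj, hA4]
  have hA24 : Nat.card A2 = 4 := by rw [hA2, card_map_conj, hA4]
  have d01 : A ≠ A1 := fun hc => hno g hgN hodd hgC A hA hA4 hc.symm
  have d02 : A ≠ A2 := fun hc => hno (g * g) hg2N hg2odd hg2C A hA hA4 hc.symm
  have d12 : A1 ≠ A2 := by
    intro hc
    apply hno g hgN hodd hgC A1 hA1S hA14
    rw [hA1, map_conj_mul, ← hA2, ← hc]
  rcases pigeon _ _ _ A A1 A2 B (three_subgroups e A hA hA4) (three_subgroups e A1 hA1S hA14)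
    (three_subgroups e A2 hA2S hA24) (three_subgroups e B hB hB4) d01 d12 d02 with hb | hb | hb
  · refine ⟨1, one_mem _, ?_⟩
    rw [hb]
    ext y
    simp
  · exact ⟨g, hgN, hb⟩
  · exact ⟨g * g, hg2N, hb⟩

end Cfsg.Agent.S0950
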