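import Cfsg.Statements.S0900
import Cfsg.Agent.Lib.Helper4.CharOrtho
import Cfsg.Agent.Lib.Helper26.CharBasic
import Cfsg.Agent.Lib.Helper26.CharInt
import Cfsg.Agent.Lib.Helper26.TIInd
import Cfsg.Agent.Lib.Helper2.CharConj

set_option autoImplicit false
open Cfsg
open scoped ComplexConjugate

namespace Cfsg.Agent.S0900

open Cfsg.Agent.Lib.Helper26 Cfsg.Agent.Lib.Helper2

section
variable {G : Type*} [Group G] [Fintype G] (N : Subgroup G) [hN : N.Normal] [Fintype N]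

/-- Coefficients of the induced function on irreducibles (Frobenius reciprocity). -/
theorem ind_coeff (ϑ : N → ℂ) (hϑc : IsCharacter N ϑ) (μ : G → ℂ) (hμc : IsCharacter G μ) :
    ∃ m : ℕ, classInner (indFun N ϑ) μ = m ∧ classInner (fun n : N => μ n) ϑ = m := by
  obtain ⟨m, hm⟩ := classInner_isCharacter_nat (isCharacter_comp_hom hμc N.subtype) hϑc
  refine ⟨m, ?_, hm⟩
  rw [← classInner_conj_symm, classInner_indFun_right N _ (isClassFunction_of_isCharacter hμc)]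
  have : classInner (μ ∘ N.subtype) ϑ =
      (Nat.card N : ℂ)⁻¹ * ∑ h : N, μ h * conj (ϑ h) := rfl
  rw [← this, hm]; simp

theorem card_ratio : (Nat.card N : ℂ)⁻¹ * (Fintype.card G : ℂ) = (N.index : ℂ) := by
  have h1 : (N.index : ℂ) * (Nat.card N : ℂ) = (Fintype.card G : ℂ) := by
    rw [← Nat.card_eq_fintype_card, ← N.index_mul_card]; push_cast; rfl
  have h2 : (Nat.card N : ℂ) ≠ 0 := Nat.cast_ne_zero.mpr Nat.card_pos.ne'
  rw [← h1]; field_simp

/-- The induced function of an invariant function restricts to `index • ϑ`. -/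
theorem ind_restrict (ϑ : N → ℂ)
    (hinv : ∀ (g : G) (n : N), ϑ ⟨g * n * g⁻¹, hN.conj_mem (n : G) n.2 g⟩ = ϑ n) (n : N) :
    indFun N ϑ n = (N.index : ℂ) * ϑ n := by
  rw [indFun_coe_of_normal]
  simp only [hinv]
  rw [Finset.sum_const, Finset.card_univ, nsmul_eq_mul, ← mul_assoc, card_ratio]

/-- Clifford's theorem for an invariant constituent. -/
theorem clifford_inv (χ : G → ℂ) (hχ : IsIrrCharacter G χ) (ϑ : N → ℂ) (hϑ : IsIrrCharacter N ϑ)
    (hcon : classInner (fun n : N => χ n) ϑ ≠ 0)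
    (hinv : ∀ (g : G) (n : N), ϑ ⟨g * n * g⁻¹, hN.conj_mem (n : G) n.2 g⟩ = ϑ n) :
    ∃ e : ℕ, e ≠ 0 ∧ (fun n : N => χ n) = (e : ℂ) • ϑ := by
  classical
  have : Fintype (IrrCharacter G) := Fintype.ofFinite _
  have : Fintype (IrrCharacter N) := Fintype.ofFinite _
  have hχc := isCharacter_of_isIrrCharacter hχ
  have hϑc := isCharacter_of_isIrrCharacter hϑ
  have hr : IsCharacter N (fun n : N => χ n) := isCharacter_comp_hom hχc N.subtype
  obtain ⟨e, he⟩ := classInner_isCharacter_nat hr hϑc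
  have he0 : e ≠ 0 := by
    rintro rfl
    exact hcon (by simpa using he)
  refine ⟨e, he0, ?_⟩
  set F := indFun N ϑ with hF
  have hFc : IsClassFunction G F := isClassFunction_indFun N ϑ
  have hm : ∀ μ : IrrCharacter G, ∃ m : ℕ, classInner F (μ : G → ℂ) = m ∧
      classInner (fun n : N => (μ : G → ℂ) n) ϑ = m := fun μ =>
    ind_coeff N ϑ hϑc μ (isCharacter_of_isIrrCharacter μ.2)
  choose m hm1 hm2 using hm
  have hFN : ∀ n : N, F n = (N.index : ℂ) * ϑ n := ind_restrict N ϑ hinv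
  have hFexp := Cfsg.Agent.Lib.Helper4.classFunction_expansion F hFc
  simp_rw [hm1] at hFexp
  have hzero : ∀ ψ : IrrCharacter N, (ψ : N → ℂ) ≠ ϑ →
      classInner (fun n : N => χ n) (ψ : N → ℂ) = 0 := by
    intro ψ hψ
    have hψc := isCharacter_of_isIrrCharacter ψ.2
    have hk : ∀ μ : IrrCharacter G, ∃ k : ℕ,
        classInner (fun n : N => (μ : G → ℂ) n) (ψ : N → ℂ) = k := fun μ =>
      classInner_isCharacter_nat
        (isCharacter_comp_hom (isCharacter_of_isIrrCharacter μ.2) N.subtype) hψc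
    choose k hk using hk
    have h1 : classInner (fun n : N => F n) (ψ : N → ℂ) = 0 := by
      have : (fun n : N => F n) = (N.index : ℂ) • ϑ := by
        funext n; rw [hFN]; rfl
      rw [this, classInner_smul_left, classInner_irr hϑ ψ.2, if_neg (Ne.symm hψ), mul_zero]
    have h2 : classInner (fun n : N => F n) (ψ : N → ℂ) =
        ∑ μ : IrrCharacter G, (m μ : ℂ) * (k μ : ℂ) := by
      have : (fun n : N => F n) =
          ∑ μ : IrrCharacter G, (m μ : ℂ) • (fun n : N => (μ : G → ℂ) n) := by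
        funext n
        conv_lhs => rw [hFexp]
        simp [Finset.sum_apply]
      rw [this, classInner_sum_left]
      refine Finset.sum_congr rfl fun μ _ => ?_
      rw [classInner_smul_left, hk]
    rw [h1] at h2
    have h3 : ∑ μ : IrrCharacter G, m μ * k μ = 0 := by exact_mod_cast h2.symm
    have h4 := (Finset.sum_eq_zero_iff.mp h3) ⟨χ, hχ⟩ (Finset.mem_univ _)
    have hmχ : m ⟨χ, hχ⟩ = e := by
      have := hm2 ⟨χ, hχ⟩
      simp only at this
      rw [he] at this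
      exact_mod_cast this.symm
    rw [hmχ] at h4
    have hk0 : k ⟨χ, hχ⟩ = 0 := by
      rcases Nat.mul_eq_zero.mp h4 with h | h
      · exact absurd h he0
      · exact h
    have := hk ⟨χ, hχ⟩
    simp only at this
    rw [this, hk0]; simp
  have hrexp := Cfsg.Agent.Lib.Helper4.classFunction_expansion (fun n : N => χ n)
    (isClassFunction_of_isCharacter hr)
  calc (fun n : N => χ n)
      = ∑ ψ : IrrCharacter N, classInner (fun n : N => χ n) (ψ : N → ℂ) • (ψ : N → ℂ) := hrexp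
    _ = (e : ℂ) • ϑ := by
      rw [Finset.sum_eq_single (⟨ϑ, hϑ⟩ : IrrCharacter N)]
      · simp only; rw [he]
      · intro ψ _ hψ
        rw [hzero ψ (fun h => hψ (Subtype.ext h)), zero_smul]
      · intro h; exact absurd (Finset.mem_univ _) h

theorem sum_norm_irr {H : Type*} [Group H] [Fintype H] (χ : H → ℂ) (hχ : IsIrrCharacter H χ) :
    ∑ g : H, χ g * conj (χ g) = (Nat.card H : ℂ) := by
  have h := classInner_irr hχ hχ
  rw [if_pos rfl] at h
  unfold classInner at h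
  have h0 : (Nat.card H : ℂ) ≠ 0 := Nat.cast_ne_zero.mpr Nat.card_pos.ne'
  have := congrArg (fun t => (Nat.card H : ℂ) * t) h
  simp only [mul_one] at this
  rw [← this, ← mul_assoc, mul_inv_cancel₀ h0, one_mul]

theorem norm_split (χ : G → ℂ) (hχ : IsIrrCharacter G χ) (ϑ : N → ℂ) (hϑ : IsIrrCharacter N ϑ)
    (e : ℕ) (hr : (fun n : N => χ n) = (e : ℂ) • ϑ) :
    (e ^ 2 = N.index ↔ ∀ g : G, g ∉ N → χ g = 0) := by
  classical
  have h1 := sum_norm_irr χ hχ
  have h2 := sum_norm_irr ϑ hϑ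
  have h3 : ∑ g : G, χ g * conj (χ g) = ∑ n : N, χ n * conj (χ n) +
      ∑ g ∈ Finset.univ.filter (fun g : G => g ∉ N), χ g * conj (χ g) := by
    rw [← Finset.sum_filter_add_sum_filter_not Finset.univ (fun g : G => g ∈ N)]
    congr 1
    exact Finset.sum_subtype (Finset.univ.filter (fun g : G => g ∈ N)) (by simp)
      (fun g => χ g * conj (χ g))
  have h4 : ∑ n : N, χ n * conj (χ n) = (e:ℂ)^2 * (Nat.card N : ℂ) := by
    have hn : ∀ n : N, χ n = (e:ℂ) * ϑ n := fun n => congrFun hr n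
    simp only [hn, map_mul, Complex.conj_natCast]
    rw [← h2, Finset.mul_sum]
    refine Finset.sum_congr rfl fun n _ => by ring
  set T : ℝ := ∑ g ∈ Finset.univ.filter (fun g : G => g ∉ N), Complex.normSq (χ g) with hT
  have hTc : ∑ g ∈ Finset.univ.filter (fun g : G => g ∉ N), χ g * conj (χ g) = (T : ℂ) := by
    rw [hT]; push_cast
    refine Finset.sum_congr rfl fun g _ => Complex.mul_conj _
  have h5 : (Nat.card G : ℂ) = (e:ℂ)^2 * (Nat.card N : ℂ) + (T : ℂ) := by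
    rw [← h1, h3, h4, hTc]
  have h5r : (Nat.card G : ℝ) = (e:ℝ)^2 * (Nat.card N : ℝ) + T := by exact_mod_cast h5
  have hidx : (Nat.card G : ℝ) = (N.index : ℝ) * (Nat.card N : ℝ) := by
    rw [← N.index_mul_card]; push_cast; rfl
  have hNpos : (0:ℝ) < (Nat.card N : ℝ) := Nat.cast_pos.mpr Nat.card_pos
  have hT0 : T = 0 ↔ ∀ g : G, g ∉ N → χ g = 0 := by
    rw [hT, Finset.sum_eq_zero_iff_of_nonneg (fun g _ => Complex.normSq_nonneg _)]
    constructor
    · intro h g hg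
      exact Complex.normSq_eq_zero.mp (h g (by simp [hg]))
    · intro h g hg
      rw [Finset.mem_filter] at hg
      rw [h g hg.2]; simp
  rw [← hT0]
  constructor
  · intro he
    have h6 : (e:ℝ)^2 = (N.index : ℝ) := by exact_mod_cast he
    rw [hidx, h6] at h5r
    linarith
  · intro hT0'
    rw [hidx, hT0', add_zero] at h5r
    have h6 := mul_right_cancel₀ hNpos.ne' h5r
    exact_mod_cast h6.symm

theorem inv_of_restrict (χ : G → ℂ) (hχ : IsIrrCharacter G χ) (ϑ : N → ℂ) (e : ℕ) (he0 : e ≠ 0)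
    (hr : (fun n : N => χ n) = (e : ℂ) • ϑ) :
    ∀ (g : G) (n : N), ϑ ⟨g * n * g⁻¹, hN.conj_mem (n : G) n.2 g⟩ = ϑ n := by
  intro g n
  have hc := isClassFunction_of_isIrrCharacter hχ
  have h1 := congrFun hr ⟨g * n * g⁻¹, hN.conj_mem (n : G) n.2 g⟩
  have h2 := congrFun hr n
  simp only [Pi.smul_apply, smul_eq_mul] at h1 h2
  rw [hc (n:G) g, h2] at h1
  exact (mul_left_cancel₀ (Nat.cast_ne_zero.mpr he0) h1).symm

theorem unique_const (χ : G → ℂ) (hχ : IsIrrCharacter G χ) (ϑ : N → ℂ) (hϑ : IsIrrCharacter N ϑ)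
    (e : ℕ) (hr : (fun n : N => χ n) = (e : ℂ) • ϑ)
    (hinv : ∀ (g : G) (n : N), ϑ ⟨g * n * g⁻¹, hN.conj_mem (n : G) n.2 g⟩ = ϑ n) :
    (e ^ 2 = N.index ↔
      ∀ ψ : G → ℂ, IsIrrCharacter G ψ → classInner (indFun N ϑ) ψ ≠ 0 → ψ = χ) := by
  classical
  have : Fintype (IrrCharacter G) := Fintype.ofFinite _
  have hϑc := isCharacter_of_isIrrCharacter hϑ
  set F := indFun N ϑ with hF
  have hFc : IsClassFunction G F := isClassFunction_indFun N ϑ
  have hm : ∀ μ : IrrCharacter G, ∃ m : ℕ, classInner F (μ : G → ℂ) = m ∧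
      classInner (fun n : N => (μ : G → ℂ) n) ϑ = m := fun μ =>
    ind_coeff N ϑ hϑc μ (isCharacter_of_isIrrCharacter μ.2)
  choose m hm1 hm2 using hm
  have hFexp := Cfsg.Agent.Lib.Helper4.classFunction_expansion F hFc
  simp_rw [hm1] at hFexp
  have hd : ∀ μ : IrrCharacter G, ∃ d : ℕ, 0 < d ∧ (μ : G → ℂ) 1 = d := fun μ => irr_degree μ.2
  choose d hdpos hd using hd
  obtain ⟨dϑ, hdϑpos, hdϑ⟩ := irr_degree hϑ
  have hF1 : F 1 = (N.index : ℂ) * dϑ := by
    have h := ind_restrict N ϑ hinv 1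
    rw [Subgroup.coe_one, hdϑ] at h
    exact h
  have hF1' : F 1 = ∑ μ : IrrCharacter G, (m μ : ℂ) * (d μ : ℂ) := by
    conv_lhs => rw [hFexp]
    simp [Finset.sum_apply, hd]
  have hsumN : N.index * dϑ = ∑ μ : IrrCharacter G, m μ * d μ := by
    have h := hF1.symm.trans hF1'
    exact_mod_cast h
  have hmχ : m ⟨χ, hχ⟩ = e := by
    have h := hm2 ⟨χ, hχ⟩
    simp only at h
    rw [hr, classInner_smul_left, classInner_irr hϑ hϑ, if_pos rfl, mul_one] at h
    exact_mod_cast h.symm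
  have hdχ : d ⟨χ, hχ⟩ = e * dϑ := by
    have h1 := hd ⟨χ, hχ⟩
    simp only at h1
    have h2 := congrFun hr 1
    simp only [Pi.smul_apply, smul_eq_mul, hdϑ] at h2
    rw [Subgroup.coe_one, h1] at h2
    exact_mod_cast h2
  have hsplit := Finset.add_sum_erase Finset.univ (fun μ => m μ * d μ)
    (Finset.mem_univ (⟨χ, hχ⟩ : IrrCharacter G))
  rw [← hsplit] at hsumN
  simp only [hmχ, hdχ] at hsumN
  set R := ∑ μ ∈ Finset.univ.erase (⟨χ, hχ⟩ : IrrCharacter G), m μ * d μ with hR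
  have hR0 : R = 0 ↔ ∀ μ : IrrCharacter G, μ ≠ ⟨χ, hχ⟩ → m μ = 0 := by
    rw [hR, Finset.sum_eq_zero_iff]
    constructor
    · intro h μ hμ
      have h1 := h μ (Finset.mem_erase.mpr ⟨hμ, Finset.mem_univ _⟩)
      rcases Nat.mul_eq_zero.mp h1 with h | h
      · exact h
      · exact absurd h (hdpos μ).ne'
    · intro h μ hμ
      rw [h μ (Finset.mem_erase.mp hμ).1, zero_mul]
  have hkey : e ^ 2 = N.index ↔ R = 0 := by
    constructor
    · intro h
      rw [← h] at hsumN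
      have : e ^ 2 * dϑ = e * (e * dϑ) := by ring
      omega
    · intro h
      rw [h, add_zero] at hsumN
      have h1 : N.index * dϑ = e ^ 2 * dϑ := by rw [hsumN]; ring
      exact (Nat.eq_of_mul_eq_mul_right hdϑpos h1).symm
  rw [hkey, hR0]
  constructor
  · intro h ψ hψ hne
    by_contra hψχ
    apply hne
    have h0 := h ⟨ψ, hψ⟩ (fun h' => hψχ (congrArg Subtype.val h'))
    have h1 := hm1 ⟨ψ, hψ⟩
    simp only at h1
    rw [h1, h0]; simp
  · intro h μ hμ
    by_contra hm0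
    apply hμ
    apply Subtype.ext
    apply h μ μ.2
    rw [hm1 μ]
    exact_mod_cast hm0

end

theorem result {G : Type*} [Group G] [Fintype G] (N : Subgroup G) [hN : N.Normal] [Fintype N] (χ : G → ℂ) (hχ : Cfsg.IsIrrCharacter G χ) (ϑ : N → ℂ) (hϑ : Cfsg.IsIrrCharacter N ϑ) (hcon : Cfsg.classInner (fun n : N => χ n) ϑ ≠ 0) : ((∃ e : ℕ, (fun n : N => χ n) = (e : ℂ) • ϑ ∧ e ^ 2 = N.index) ↔ ((∀ g : G, g ∉ N → χ g = 0) ∧ ∀ (g : G) (n : N), ϑ ⟨g * n * g⁻¹, hN.conj_mem (n : G) n.2 g⟩ = ϑ n)) ∧ ((∃ e : ℕ, (fun n : N => χ n) = (e : ℂ) • ϑ ∧ e ^ 2 = N.index) ↔ (∀ (g : G) (n : N), ϑ ⟨g * n * g⁻¹, hN.conj_mem (n : G) n.2 g⟩ = ϑ n ∧ ∀ ψ : G → ℂ, Cfsg.IsIrrCharacter G ψ → Cfsg.classInner (Cfsg.indFun N ϑ) ψ ≠ 0 → ψ = χ)) := by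
  have hidx : N.index ≠ 0 := Subgroup.index_ne_zero_of_finite
  have he0 : ∀ e : ℕ, e ^ 2 = N.index → e ≠ 0 := by
    rintro e he rfl
    exact hidx (by rw [← he]; norm_num)
  constructor
  · constructor
    · rintro ⟨e, hr, he⟩
      exact ⟨(norm_split N χ hχ ϑ hϑ e hr).mp he, inv_of_restrict N χ hχ ϑ e (he0 e he) hr⟩
    · rintro ⟨hvan, hinv⟩
      obtain ⟨e, _, hr⟩ := clifford_inv N χ hχ ϑ hϑ hcon hinv
      exact ⟨e, hr, (norm_split N χ hχ ϑ hϑ e hr).mpr hvan⟩
  · constructor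
    · rintro ⟨e, hr, he⟩
      have hinv := inv_of_restrict N χ hχ ϑ e (he0 e he) hr
      intro g n
      exact ⟨hinv g n, (unique_const N χ hχ ϑ hϑ e hr hinv).mp he⟩
    · intro h
      have hinv : ∀ (g : G) (n : N), ϑ ⟨g * n * g⁻¹, hN.conj_mem (n : G) n.2 g⟩ = ϑ n :=
        fun g n => (h g n).1
      have huniq := (h 1 1).2
      obtain ⟨e, _, hr⟩ := clifford_inv N χ hχ ϑ hϑ hcon hinv
      exact ⟨e, hr, (unique_const N χ hχ ϑ hϑ e hr hinv).mpr huniq⟩

end Cfsg.Agent.S0900
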