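import Cfsg.Statements.S0893
import Cfsg.Agent.Lib.Helper4.CharOrtho
import Cfsg.Agent.Lib.Helper26.CharBasic
import Cfsg.Agent.Lib.Helper26.CharInt
import Cfsg.Agent.Lib.Helper26.TIInd
import Cfsg.Agent.Lib.Helper2.CharConj

set_option autoImplicit false
open Cfsg
open scoped ComplexConjugate

namespace Cfsg.Agent.S0893

open Cfsg.Agent.Lib.Helper26 Cfsg.Agent.Lib.Helper2

/-- A degree one character is multiplicative. -/
theorem lin_mul {A : Type*} [Group A] (lam : A → ℂ) (h : IsCharacter A lam) (h1 : lam 1 = 1)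
    (a b : A) : lam (a * b) = lam a * lam b := by
  obtain ⟨n, ρ, rfl⟩ := h
  have hn : n = 1 := by
    have := Representation.char_one ρ
    rw [h1] at this
    simp at this
    exact_mod_cast this.symm
  subst hn
  simp only [Representation.character]
  rw [trace_eq_trace_toMatrix', trace_eq_trace_toMatrix', trace_eq_trace_toMatrix', map_mul]
  rw [Module.End.mul_eq_comp, LinearMap.toMatrix'_comp]
  simp [Matrix.trace, Matrix.mul_apply]

/-- A class function of norm one with integral coefficients and positive degree is an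
irreducible character. -/
theorem isIrr_of_norm_one {G : Type*} [Group G] [Fintype G] (f : G → ℂ)
    (hf : IsClassFunction G f)
    (hint : ∀ χ : IrrCharacter G, ∃ k : ℤ, classInner f (χ : G → ℂ) = k)
    (hnorm : classInner f f = 1) (d : ℕ) (hd : 0 < d) (hf1 : f 1 = d) : IsIrrCharacter G f := by
  classical
  have : Fintype (IrrCharacter G) := Fintype.ofFinite _
  choose c hc using hint
  have hexp : f = ∑ μ : IrrCharacter G, (c μ : ℂ) • (μ : G → ℂ) := by
    have h := Cfsg.Agent.Lib.Helper4.classFunction_expansion f hf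
    simp_rw [hc] at h
    exact h
  have hP : classInner f f = ((∑ μ : IrrCharacter G, (c μ) ^ 2 : ℤ) : ℂ) := by
    have h2 : classInner f f = classInner (∑ μ : IrrCharacter G, (c μ : ℂ) • (μ : G → ℂ)) f := by
      rw [← hexp]
    rw [h2, classInner_sum_left]
    push_cast
    apply Finset.sum_congr rfl
    intro μ _
    rw [classInner_smul_left, ← classInner_conj_symm, hc μ, map_intCast]
    ring
  rw [hnorm] at hP
  have hP' : ∑ μ : IrrCharacter G, (c μ) ^ 2 = 1 := by exact_mod_cast hP.symm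
  have hex1 : ∃ μ₁, c μ₁ ≠ 0 := by
    by_contra hcon
    push Not at hcon
    have : ∑ μ : IrrCharacter G, (c μ) ^ 2 = 0 := by
      apply Finset.sum_eq_zero
      intro μ _
      rw [hcon μ]; rfl
    omega
  obtain ⟨μ₁, hμ₁⟩ := hex1
  have hsplit1 := Finset.add_sum_erase Finset.univ (fun μ => (c μ) ^ 2) (Finset.mem_univ μ₁)
  rw [hP'] at hsplit1
  have hrest_nonneg : 0 ≤ ∑ μ ∈ Finset.univ.erase μ₁, (c μ) ^ 2 :=
    Finset.sum_nonneg (fun μ _ => sq_nonneg (c μ))
  have hc1sq : (c μ₁) ^ 2 = 1 := by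
    have hpos : 1 ≤ (c μ₁) ^ 2 := by
      have : 0 < (c μ₁) ^ 2 := by positivity
      omega
    linarith
  have hrest : ∑ μ ∈ Finset.univ.erase μ₁, (c μ) ^ 2 = 0 := by linarith
  have hzero : ∀ μ ∈ Finset.univ.erase μ₁, c μ = 0 := by
    intro μ hμ
    have := (Finset.sum_eq_zero_iff_of_nonneg (fun μ _ => sq_nonneg (c μ))).1 hrest μ hμ
    exact pow_eq_zero_iff (by norm_num) |>.1 this
  have hX2 : f = (c μ₁ : ℂ) • (μ₁ : G → ℂ) := by
    conv_lhs => rw [hexp]
    rw [← Finset.add_sum_erase Finset.univ _ (Finset.mem_univ μ₁)]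
    have : ∑ μ ∈ Finset.univ.erase μ₁, (c μ : ℂ) • (μ : G → ℂ) = 0 := by
      apply Finset.sum_eq_zero
      intro μ hμ
      rw [hzero μ hμ]; simp
    rw [this, add_zero]
  obtain ⟨d₁, hd₁pos, hd₁⟩ := irr_degree μ₁.2
  have hval : (c μ₁ : ℂ) * d₁ = d := by
    have := congrFun hX2 1
    rw [hf1] at this
    simp only [Pi.smul_apply, smul_eq_mul, hd₁] at this
    exact this.symm
  have hvalZ : c μ₁ * d₁ = d := by exact_mod_cast hval
  have hc1 : c μ₁ = 1 ∨ c μ₁ = -1 := by
    have hz' : (c μ₁ - 1) * (c μ₁ + 1) = 0 := by ring_nf; linarith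
    rcases mul_eq_zero.1 hz' with h | h
    · left; omega
    · right; omega
  rcases hc1 with h | h
  · rw [hX2, h]; simpa using μ₁.2
  · exfalso
    rw [h] at hvalZ
    have : (0:ℤ) < d₁ := by exact_mod_cast hd₁pos
    have : (0:ℤ) < d := by exact_mod_cast hd
    linarith

theorem result {P : Type*} [Group P] [Fintype P] (p n : ℕ) [Fact p.Prime] (hP : Cfsg.IsExtraspecial p P) (hcard : Nat.card P = p ^ (2 * n + 1)) (A : Subgroup P) (hab : ∀ a ∈ A, ∀ b ∈ A, a * b = b * a) (hA : Nat.card A = p ^ (n + 1)) (lam : A → ℂ) (hlam : Cfsg.IsCharacter A lam ∧ lam 1 = 1) (hZ : ∃ a : A, (a : P) ∈ Subgroup.center P ∧ lam a ≠ 1) : Cfsg.IsIrrCharacter P (Cfsg.indFun A lam) ∧ ∀ x : P, x ∉ Subgroup.center P → Cfsg.indFun A lam x = 0 := by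
  classical
  obtain ⟨⟨hpg, hfr, hcomm⟩, hZcard⟩ := hP
  obtain ⟨hlamc, hlam1⟩ := hlam
  obtain ⟨a, haZ, hla⟩ := hZ
  have hpp : p.Prime := Fact.out
  have hp0 : (p : ℂ) ≠ 0 := Nat.cast_ne_zero.mpr hpp.ne_zero
  have hmul := lin_mul lam hlamc hlam1
  -- a ≠ 1
  have ha1 : (⟨a, haZ⟩ : Subgroup.center P) ≠ 1 := by
    intro h
    apply hla
    have h' : (a : P) = 1 := congrArg Subtype.val h
    have : a = 1 := Subtype.ext h'
    rw [this, hlam1]
  -- Z ≤ A
  have hZA : Subgroup.center P ≤ A := by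
    intro z hz
    have htop := zpowers_eq_top_of_prime_card hZcard ha1
    have hmem : (⟨z, hz⟩ : Subgroup.center P) ∈ Subgroup.zpowers (⟨a, haZ⟩ : Subgroup.center P) := by
      rw [htop]; exact Subgroup.mem_top _
    obtain ⟨k, hk⟩ := Subgroup.mem_zpowers_iff.mp hmem
    have hk' : ((a : P)) ^ k = z := by
      have := congrArg Subtype.val hk
      simpa using this
    rw [← hk']
    exact A.zpow_mem a.2 k
  -- commutators central
  have hcz : ∀ g x : P, g * x * g⁻¹ * x⁻¹ ∈ Subgroup.center P := by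
    intro g x
    rw [← hcomm, commutator_def]
    exact Subgroup.commutator_mem_commutator (Subgroup.mem_top g) (Subgroup.mem_top x)
  -- A normal
  have hAn : A.Normal := by
    constructor
    intro x hx g
    have : g * x * g⁻¹ = (g * x * g⁻¹ * x⁻¹) * x := by group
    rw [this]
    exact A.mul_mem (hZA (hcz g x)) hx
  haveI := hAn
  -- commutator sum
  have hsum : ∀ x : P, x ∉ Subgroup.center P →
      ∑ g : P, lam ⟨g * x * g⁻¹ * x⁻¹, hZA (hcz g x)⟩ = 0 := by
    intro x hx
    -- the hom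
    let φ : P →* Subgroup.center P :=
      { toFun := fun g => ⟨g * x * g⁻¹ * x⁻¹, hcz g x⟩
        map_one' := by ext; simp
        map_mul' := by
          intro g h
          ext
          simp only [Subgroup.coe_mul]
          have hc := Subgroup.mem_center_iff.mp (hcz h x)
          calc g * h * x * (g * h)⁻¹ * x⁻¹
              = g * ((h * x * h⁻¹ * x⁻¹) * x) * g⁻¹ * x⁻¹ := by group
            _ = g * (h * x * h⁻¹ * x⁻¹) * x * g⁻¹ * x⁻¹ := by group
            _ = (h * x * h⁻¹ * x⁻¹) * g * x * g⁻¹ * x⁻¹ := by rw [hc g]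
            _ = (h * x * h⁻¹ * x⁻¹) * (g * x * g⁻¹ * x⁻¹) := by group
            _ = (g * x * g⁻¹ * x⁻¹) * (h * x * h⁻¹ * x⁻¹) := by rw [hc (g * x * g⁻¹ * x⁻¹)] }
    have hφ : ∀ g, φ g = ⟨g * x * g⁻¹ * x⁻¹, hcz g x⟩ := fun g => rfl
    -- φ is onto
    have hne : φ.range ≠ ⊥ := by
      intro hbot
      apply hx
      rw [Subgroup.mem_center_iff]
      intro g
      have hg : φ g ∈ φ.range := ⟨g, rfl⟩
      rw [hbot, Subgroup.mem_bot] at hg
      have hg' : g * x * g⁻¹ * x⁻¹ = 1 := congrArg Subtype.val hg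
      have : g * x = x * g := by
        have h2 : g * x * g⁻¹ * x⁻¹ * (x * g) = x * g := by rw [hg', one_mul]
        rw [← h2]; group
      exact this
    haveI : Fact (Nat.card (Subgroup.center P)).Prime := ⟨hZcard ▸ hpp⟩
    have htop : φ.range = ⊤ := (Subgroup.eq_bot_or_eq_top_of_prime_card φ.range).resolve_left hne
    obtain ⟨g₀, hg₀⟩ : ∃ g₀, φ g₀ = ⟨a, haZ⟩ := by
      have : (⟨a, haZ⟩ : Subgroup.center P) ∈ φ.range := by rw [htop]; exact Subgroup.mem_top _
      exact this
    set S := ∑ g : P, lam ⟨g * x * g⁻¹ * x⁻¹, hZA (hcz g x)⟩ with hS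
    have hS' : S = ∑ g : P, lam (Subgroup.inclusion hZA (φ g)) := by
      rw [hS]; rfl
    have hshift : S = lam a * S := by
      conv_lhs => rw [hS', ← Equiv.sum_comp (Equiv.mulLeft g₀)]
      rw [hS', Finset.mul_sum]
      refine Finset.sum_congr rfl fun g _ => ?_
      rw [Equiv.coe_mulLeft, map_mul, map_mul, hmul, hg₀]
      rfl
    have : (1 - lam a) * S = 0 := by rw [sub_mul, one_mul, ← hshift, sub_self]
    rcases mul_eq_zero.mp this with h | h
    · exact absurd (sub_eq_zero.mp h).symm hla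
    · exact h
  -- values on A
  have hval : ∀ x : A, indFun A lam x =
      (Nat.card A : ℂ)⁻¹ * ((∑ g : P, lam ⟨g * x * g⁻¹ * (x:P)⁻¹, hZA (hcz g x)⟩) * lam x) := by
    intro x
    rw [indFun_coe_of_normal, Finset.sum_mul]
    congr 1
    refine Finset.sum_congr rfl fun g _ => ?_
    rw [← hmul]
    congr 1
    ext
    simp
  -- second claim
  have hvanish : ∀ x : P, x ∉ Subgroup.center P → indFun A lam x = 0 := by
    intro x hx
    by_cases hxA : x ∈ A
    · have := hval ⟨x, hxA⟩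
      simp only at this
      rw [this, hsum x hx, zero_mul, mul_zero]
    · exact indFun_of_not_mem_of_normal A lam x hxA
  -- values on Z
  have hcardA : (Nat.card A : ℂ) = (p : ℂ) ^ (n + 1) := by rw [hA]; push_cast; rfl
  have hcardP : (Fintype.card P : ℂ) = (p : ℂ) ^ (2 * n + 1) := by
    rw [← Nat.card_eq_fintype_card, hcard]; push_cast; rfl
  have hvalZ : ∀ (x : P) (hx : x ∈ Subgroup.center P),
      indFun A lam x = (p : ℂ) ^ n * lam ⟨x, hZA hx⟩ := by
    intro x hx
    have := hval ⟨x, hZA hx⟩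
    simp only at this
    rw [this]
    have h1 : ∀ g : P, lam ⟨g * x * g⁻¹ * x⁻¹, hZA (hcz g x)⟩ = 1 := by
      intro g
      have : (⟨g * x * g⁻¹ * x⁻¹, hZA (hcz g x)⟩ : A) = 1 := by
        ext
        simp only [Subgroup.coe_one]
        rw [Subgroup.mem_center_iff.mp hx g]
        group
      rw [this, hlam1]
    simp only [h1, Finset.sum_const, Finset.card_univ, nsmul_eq_mul, mul_one]
    rw [hcardA, hcardP]
    have : (2 * n + 1) = (n + 1) + n := by ring
    rw [this, pow_add]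
    field_simp
    ring
  refine ⟨?_, hvanish⟩
  -- irreducibility
  have hf1 : indFun A lam 1 = ((p ^ n : ℕ) : ℂ) := by
    rw [hvalZ 1 (Subgroup.one_mem _)]
    have : (⟨1, hZA (Subgroup.one_mem _)⟩ : A) = 1 := rfl
    rw [this, hlam1]; push_cast; ring
  apply isIrr_of_norm_one _ (isClassFunction_indFun A lam) _ _ (p ^ n) (pow_pos hpp.pos n) hf1
  · -- integrality
    intro χ
    have hχc : IsCharacter P (χ : P → ℂ) := isCharacter_of_isIrrCharacter χ.2
    have hres : IsCharacter A ((χ : P → ℂ) ∘ A.subtype) := isCharacter_comp_hom hχc A.subtype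
    obtain ⟨m, hm⟩ := classInner_isCharacter_nat hres hlamc
    refine ⟨m, ?_⟩
    rw [← classInner_conj_symm, classInner_indFun_right A _ (isClassFunction_of_isCharacter hχc)]
    have : classInner ((χ : P → ℂ) ∘ A.subtype) lam =
        (Nat.card A : ℂ)⁻¹ * ∑ h : A, (χ : P → ℂ) h * conj (lam h) := rfl
    rw [← this, hm]
    simp
  · -- norm
    unfold classInner
    have hterm : ∀ g : P, indFun A lam g * conj (indFun A lam g) =
        if g ∈ Subgroup.center P then ((p : ℂ) ^ n) ^ 2 else 0 := by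
      intro g
      by_cases hg : g ∈ Subgroup.center P
      · rw [if_pos hg, hvalZ g hg]
        have hcj : conj (lam ⟨g, hZA hg⟩) = lam (⟨g, hZA hg⟩ : A)⁻¹ :=
          isCharacter_conj_eq_inv hlamc _
        rw [map_mul, map_pow, Complex.conj_natCast, hcj]
        have : lam ⟨g, hZA hg⟩ * lam (⟨g, hZA hg⟩ : A)⁻¹ = 1 := by
          rw [← hmul, mul_inv_cancel, hlam1]
        calc (p : ℂ) ^ n * lam ⟨g, hZA hg⟩ * ((p : ℂ) ^ n * lam (⟨g, hZA hg⟩ : A)⁻¹)
            = ((p : ℂ) ^ n) ^ 2 * (lam ⟨g, hZA hg⟩ * lam (⟨g, hZA hg⟩ : A)⁻¹) := by ring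
          _ = ((p : ℂ) ^ n) ^ 2 := by rw [this, mul_one]
      · rw [if_neg hg, hvanish g hg, zero_mul]
    simp only [hterm]
    rw [Finset.sum_ite, Finset.sum_const_zero, add_zero, Finset.sum_const, nsmul_eq_mul]
    have hcnt : (Finset.univ.filter (fun g : P => g ∈ Subgroup.center P)).card = p := by
      rw [← hZcard, Nat.card_eq_fintype_card, Fintype.card_subtype]
    rw [hcnt, hcard]
    push_cast
    have : (2 * n + 1) = 1 + n + n := by ring
    rw [this, pow_add, pow_add, pow_one]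
    field_simp

end Cfsg.Agent.S0893
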