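import Cfsg.Statements.S0873
import Cfsg.Agent.S0893
import Cfsg.Agent.Lib.Helper2.CoprimeAction

set_option autoImplicit false
open Cfsg

namespace Cfsg.Agent.S0873

/-- Let C be a normal subgroup of the finite group G of order prime to p and P a p-subgroup with C ⊔ P = G. Let λ be a character of C of degree 1 invariant under conjugation by G and equal to 1 at every element of C centralized by P. Then λ is identically 1. -/
theorem result {G : Type*} [Group G] [Finite G] (p : ℕ) [Fact p.Prime] (C P : Subgroup G) [hC : C.Normal] (hP : IsPGroup p P) (hcop : Nat.Coprime (Nat.card C) p) (hCP : C ⊔ P = ⊤) (lam : C → ℂ) (hlam : Cfsg.IsCharacter C lam ∧ lam 1 = 1) (hinv : ∀ (g : G) (c : C), lam ⟨g * c * g⁻¹, hC.conj_mem (c : G) c.2 g⟩ = lam c) (hker : ∀ c : C, (c : G) ∈ Subgroup.centralizer (P : Set G) → lam c = 1) : lam = fun _ => 1 := by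
  classical
  obtain ⟨hlamc, hlam1⟩ := hlam
  have hmul := Cfsg.Agent.S0893.lin_mul lam hlamc hlam1
  have hlinv : ∀ x : C, lam x⁻¹ * lam x = 1 := by
    intro x
    rw [← hmul, inv_mul_cancel, hlam1]
  -- kernel as a subgroup of G
  let M : Subgroup G :=
    { carrier := {g | ∃ h : g ∈ C, lam ⟨g, h⟩ = 1}
      mul_mem' := by
        rintro x y ⟨hx, hx1⟩ ⟨hy, hy1⟩
        refine ⟨C.mul_mem hx hy, ?_⟩
        have : (⟨x * y, C.mul_mem hx hy⟩ : C) = ⟨x, hx⟩ * ⟨y, hy⟩ := rfl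
        rw [this, hmul, hx1, hy1, one_mul]
      one_mem' := ⟨C.one_mem, hlam1⟩
      inv_mem' := by
        rintro x ⟨hx, hx1⟩
        refine ⟨C.inv_mem hx, ?_⟩
        have h1 := hlinv ⟨x, hx⟩
        rw [hx1, mul_one] at h1
        exact h1 }
  have hMmem : ∀ g : G, g ∈ M ↔ ∃ h : g ∈ C, lam ⟨g, h⟩ = 1 := fun g => Iff.rfl
  have hMC : M ≤ C := fun g hg => hg.1
  have hPM : P ≤ Subgroup.normalizer (M : Set G) := by
    intro a _
    rw [Subgroup.mem_normalizer_iff]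
    intro m
    constructor
    · rintro ⟨hm, hm1⟩
      refine ⟨hC.conj_mem m hm a, ?_⟩
      rw [hinv a ⟨m, hm⟩]; exact hm1
    · rintro ⟨hm, hm1⟩
      have hmC : m ∈ C := by
        have := hC.conj_mem _ hm a⁻¹
        have e : a⁻¹ * (a * m * a⁻¹) * a⁻¹⁻¹ = m := by group
        rwa [e] at this
      refine ⟨hmC, ?_⟩
      rw [← hinv a ⟨m, hmC⟩]; exact hm1
  have hPC : P ≤ Subgroup.normalizer (C : Set G) := by
    rw [Subgroup.normalizer_eq_top]; exact le_top
  have hcop' : (Nat.card P).Coprime (Nat.card C) := by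
    obtain ⟨k, hk⟩ := hP.exists_card_eq
    rw [hk]
    exact (Nat.Coprime.pow_right k hcop).symm
  have hsolv : Group.IsSolvable P ∨ Group.IsSolvable C := by
    left
    haveI := hP.isNilpotent
    infer_instance
  funext c
  have hfix : ∀ a ∈ P, (c : G)⁻¹ * a * c * a⁻¹ ∈ M := by
    intro a _
    have hmem : a * c * a⁻¹ ∈ C := hC.conj_mem c c.2 a
    have e : (c : G)⁻¹ * a * c * a⁻¹ = (c : G)⁻¹ * (a * c * a⁻¹) := by group
    rw [e]
    refine ⟨C.mul_mem (C.inv_mem c.2) hmem, ?_⟩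
    have : (⟨(c : G)⁻¹ * (a * c * a⁻¹), C.mul_mem (C.inv_mem c.2) hmem⟩ : C) =
        c⁻¹ * ⟨a * c * a⁻¹, hmem⟩ := rfl
    rw [this, hmul, hinv a c, hlinv]
  obtain ⟨m, ⟨hmC, hm1⟩, hcent⟩ :=
    Cfsg.Agent.Lib.Helper2.coprime_fix P C M hPC hcop' hsolv hMC hPM (c : G) c.2 hfix
  have h1 := hker (c * (⟨m, hmC⟩ : C)⁻¹) (by simpa using hcent)
  rw [hmul] at h1
  have h2 := hlinv ⟨m, hmC⟩
  rw [hm1, mul_one] at h2
  rw [h2, mul_one] at h1
  exact h1

end Cfsg.Agent.S0873
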