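import Cfsg.Statements.S0870
import Cfsg.Agent.Lib.Helper28.PermInd

set_option autoImplicit false
open Cfsg

namespace Cfsg.Agent.S0870

open Cfsg.Agent.Lib.Helper28

variable {G : Type*} [Group G] [Fintype G]

theorem indFun_one_congr {U V : Subgroup G} (h : U = V) :
    indFun U (fun _ => (1 : ℂ)) = indFun V (fun _ => (1 : ℂ)) := by
  subst h; rfl

/-- `(1_H)^G (g)` is the number of fixed points of `g` on `G ⧸ H`. -/
theorem indFun_one_eq_card_fixed (H : Subgroup G) (g : G) :
    indFun H (fun _ => (1 : ℂ)) g = (Nat.card {z : G ⧸ H // g • z = z} : ℂ) := by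
  have h1 := indFun_one_stabilizer (X := G ⧸ H) ((1 : G) : G ⧸ H) g
  rw [indFun_one_congr (MulAction.stabilizer_quotient H)] at h1
  rw [h1]
  congr 1
  apply Nat.card_congr
  refine Equiv.subtypeEquivRight fun z => ?_
  constructor
  · intro h; exact h.1
  · intro h
    refine ⟨h, ?_⟩
    rw [MulAction.orbit_eq_univ]; trivial

/-- For subgroups H and K of a finite group G, the pointwise product of the functions induced from the constant function 1 on H and on K is a sum, over subgroups U of H with natural-number coefficients, of the functions induced from the constant function 1 on U. -/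
theorem result {G : Type*} [Group G] [Fintype G] (H K : Subgroup G) : ∃ a : Subgroup G → ℕ, (∀ U, a U ≠ 0 → U ≤ H) ∧ Cfsg.indFun H (fun _ => 1) * Cfsg.indFun K (fun _ => 1) = ∑ U : Subgroup G, (a U : ℂ) • Cfsg.indFun U (fun _ => 1) := by
  classical
  let X := (G ⧸ H) × (G ⧸ K)
  have : Fintype (MulAction.orbitRel.Quotient G X) := Fintype.ofFinite _
  -- orbit representatives with first coordinate the trivial coset
  let s : MulAction.orbitRel.Quotient G X → X := fun ω =>
    ((Quotient.out ω).1.out)⁻¹ • (Quotient.out ω)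
  have hs : ∀ ω, (Quotient.mk'' (s ω) : MulAction.orbitRel.Quotient G X) = ω := by
    intro ω
    have h1 : (Quotient.mk'' (Quotient.out ω) : MulAction.orbitRel.Quotient G X) = ω :=
      Quotient.out_eq' ω
    have h2 : (Quotient.mk'' (s ω) : MulAction.orbitRel.Quotient G X)
        = Quotient.mk'' (Quotient.out ω) :=
      Quotient.sound' (MulAction.orbitRel_apply.mpr (MulAction.mem_orbit _ _))
    rw [h2, h1]
  have hs1 : ∀ ω, (s ω).1 = ((1 : G) : G ⧸ H) := by
    intro ω
    show ((Quotient.out ω).1.out)⁻¹ • (Quotient.out ω).1 = _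
    conv_lhs => rw [← QuotientGroup.out_eq' (Quotient.out ω).1]
    rw [MulAction.Quotient.smul_coe, smul_eq_mul, QuotientGroup.out_eq', inv_mul_cancel]
  refine ⟨fun U => ∑ ω : MulAction.orbitRel.Quotient G X,
    if MulAction.stabilizer G (s ω) = U then 1 else 0, ?_, ?_⟩
  · intro U hU
    obtain ⟨ω, _, hω⟩ := Finset.exists_ne_zero_of_sum_ne_zero hU
    have hstab : MulAction.stabilizer G (s ω) = U := by
      by_contra hne
      rw [if_neg hne] at hω
      exact hω rfl
    rw [← hstab]
    intro u hu
    rw [MulAction.mem_stabilizer_iff] at hu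
    have h1 : u • (s ω).1 = (s ω).1 := congrArg Prod.fst hu
    rw [hs1 ω] at h1
    have h2 : u ∈ MulAction.stabilizer G (((1 : G) : G ⧸ H)) := h1
    rwa [MulAction.stabilizer_quotient] at h2
  · funext g
    simp only [Pi.mul_apply, Finset.sum_apply, Pi.smul_apply, smul_eq_mul]
    rw [indFun_one_eq_card_fixed, indFun_one_eq_card_fixed, ← Nat.cast_mul, ← Nat.card_prod]
    have h1 : Nat.card ({z : G ⧸ H // g • z = z} × {z : G ⧸ K // g • z = z})
        = Nat.card {z : X // g • z = z} := by
      apply Nat.card_congr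
      exact
        { toFun := fun p => ⟨(p.1.1, p.2.1), Prod.ext p.1.2 p.2.2⟩
          invFun := fun z => (⟨z.1.1, congrArg Prod.fst z.2⟩, ⟨z.1.2, congrArg Prod.snd z.2⟩)
          left_inv := fun p => rfl
          right_inv := fun z => rfl }
    rw [h1, card_fixedBy_eq_sum_indFun s hs g]
    simp only [Nat.cast_sum, Finset.sum_mul]
    rw [Finset.sum_comm]
    refine Finset.sum_congr rfl fun ω _ => ?_
    rw [Finset.sum_eq_single (MulAction.stabilizer G (s ω))]
    · rw [if_pos rfl, Nat.cast_one, one_mul]
    · intro U _ hU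
      rw [if_neg (Ne.symm hU), Nat.cast_zero, zero_mul]
    · intro h; exact absurd (Finset.mem_univ _) h

end Cfsg.Agent.S0870
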