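import Cfsg.Statements.S0854
import Cfsg.Agent.Lib.Helper7.CliffordCorr

set_option autoImplicit false
open Cfsg
open scoped ComplexConjugate

namespace Cfsg.Agent.S0854

open Cfsg.Agent.Lib.Helper26 Cfsg.Agent.Lib.Helper2 Cfsg.Agent.Lib.Helper7

/-- Let H be a normal subgroup of the finite group G, ϑ an irreducible character of H, and T the inertia group of ϑ (the elements g with ϑ(g n g⁻¹) = ϑ(n) for all n in H). If χ is an irreducible character of G whose restriction to H has nonzero inner product with ϑ, then χ is induced from some irreducible character ψ of T, and the restrictions of ψ and of χ to H have the same inner product with ϑ. -/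
theorem result {G : Type*} [Group G] [Fintype G] (H : Subgroup G) [hN : H.Normal] [Fintype H] (ϑ : H → ℂ) (hϑ : Cfsg.IsIrrCharacter H ϑ) (T : Subgroup G) [Fintype T] (hT : ∀ g : G, g ∈ T ↔ ∀ n : H, ϑ ⟨g * n * g⁻¹, hN.conj_mem (n : G) n.2 g⟩ = ϑ n) (hHT : H ≤ T) (χ : G → ℂ) (hχ : Cfsg.IsIrrCharacter G χ) (hcon : Cfsg.classInner (fun n : H => χ n) ϑ ≠ 0) : ∃ ψ : T → ℂ, Cfsg.IsIrrCharacter T ψ ∧ Cfsg.indFun T ψ = χ ∧ Cfsg.classInner (fun n : H => ψ ⟨(n : G), hHT n.2⟩) ϑ = Cfsg.classInner (fun n : H => χ n) ϑ := by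
  classical
  have : Fintype (IrrCharacter T) := Fintype.ofFinite _
  have hχc := isCharacter_of_isIrrCharacter hχ
  have hχcl := isClassFunction_of_isCharacter hχc
  rw [classInner_restrict_trans H T hHT ϑ χ hχc] at hcon
  obtain ⟨ν, -, hν⟩ := Finset.exists_ne_zero_of_sum_ne_zero hcon
  have hν1 : classInner (fun t : T => χ t) (ν : T → ℂ) ≠ 0 := left_ne_zero_of_mul hν
  have hν2 : classInner (fun n : H => (ν : T → ℂ) ⟨(n : G), hHT n.2⟩) ϑ ≠ 0 :=
    right_ne_zero_of_mul hν
  have hχψ : classInner (indFun T (ν : T → ℂ)) χ ≠ 0 := by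
    rw [classInner_indFun_left' T _ χ hχcl, ← classInner_conj_symm]
    intro h
    apply hν1
    have h3 := congrArg (starRingEnd ℂ) h
    rw [Complex.conj_conj, map_zero] at h3
    exact h3
  obtain ⟨h1, h2, -⟩ := corr_main H T hHT ϑ hϑ hT (ν : T → ℂ) ν.2 hν2 χ hχ hχψ
  exact ⟨ν, ν.2, h1.symm, h2.symm⟩

end Cfsg.Agent.S0854
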