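import Cfsg.Statements.S0169
import Cfsg.Agent.Lib.Helper28.ItoCore
import Cfsg.Agent.S0854

set_option autoImplicit false
open Cfsg

namespace Cfsg.Agent.S0169

open Cfsg.Agent.Lib.Helper4 Cfsg.Agent.Lib.Helper26 Cfsg.Agent.Lib.Helper28

/-- the restriction of an irreducible character to a subgroup has an irreducible constituent -/
theorem exists_constituent {G : Type*} [Group G] [Fintype G] (H : Subgroup G) [Fintype H]
    (χ : G → ℂ) (hχ : IsIrrCharacter G χ) :
    ∃ ϑ : H → ℂ, IsIrrCharacter H ϑ ∧ classInner (fun n : H => χ n) ϑ ≠ 0 := by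
  by_contra hcon
  push_neg at hcon
  have hres : IsCharacter H (fun n : H => χ n) :=
    isCharacter_restrict H (isCharacter_of_isIrrCharacter hχ)
  have h0 : (fun n : H => χ n) = 0 :=
    eq_zero_of_classInner_irr_eq_zero _
      (Cfsg.Agent.Lib.Helper26.isClassFunction_of_isCharacter hres) (fun ψ => hcon ψ.1 ψ.2)
  obtain ⟨n, hn, hn1⟩ := irr_degree hχ
  have h1 := congrFun h0 1
  simp only [Pi.zero_apply] at h1
  have h2 : χ ((1 : H) : G) = χ 1 := rfl
  rw [h2, hn1] at h1
  have : n = 0 := by exact_mod_cast h1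
  omega

/-- the inertia group of a class function on a normal subgroup -/
def inertia {G : Type*} [Group G] (H : Subgroup G) [hN : H.Normal] (ϑ : H → ℂ) : Subgroup G where
  carrier := {g | ∀ n : H, ϑ ⟨g * n * g⁻¹, hN.conj_mem (n : G) n.2 g⟩ = ϑ n}
  one_mem' := by
    intro n
    congr 1
    apply Subtype.ext
    simp
  mul_mem' := by
    intro g h hg hh n
    have h1 := hg ⟨h * n * h⁻¹, hN.conj_mem (n : G) n.2 h⟩
    have h2 := hh n
    rw [← h2, ← h1]
    congr 1
    apply Subtype.ext
    simp only [mul_inv_rev]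
    group
  inv_mem' := by
    intro g hg n
    have h1 := hg ⟨g⁻¹ * n * g⁻¹⁻¹, hN.conj_mem (n : G) n.2 g⁻¹⟩
    rw [← h1]
    congr 1
    apply Subtype.ext
    simp only [inv_inv]
    group

theorem mem_inertia {G : Type*} [Group G] (H : Subgroup G) [hN : H.Normal] (ϑ : H → ℂ) (g : G) :
    g ∈ inertia H ϑ ↔ ∀ n : H, ϑ ⟨g * n * g⁻¹, hN.conj_mem (n : G) n.2 g⟩ = ϑ n := Iff.rfl

theorem le_inertia {G : Type*} [Group G] (H : Subgroup G) [hN : H.Normal] (ϑ : H → ℂ)
    (hϑ : IsClassFunction H ϑ) : H ≤ inertia H ϑ := by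
  intro h hh n
  have := hϑ n ⟨h, hh⟩
  rw [← this]
  congr 1

/-- Itô's Theorem on character degrees: the degree of an irreducible complex representation of a finite group divides the index of any abelian normal subgroup. -/
theorem result {G : Type*} [Group G] [Finite G] {V : Type*} [AddCommGroup V] [Module ℂ V] [FiniteDimensional ℂ V] (ρ : Representation ℂ G V) [ρ.IsIrreducible] (H : Subgroup G) [H.Normal] (hH : ∀ a ∈ H, ∀ b ∈ H, a * b = b * a) : Module.finrank ℂ V ∣ H.index := by
  classical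
  have : Fintype G := Fintype.ofFinite G
  have : Fintype H := Fintype.ofFinite H
  have hχ : IsIrrCharacter G ρ.character := isIrrCharacter_of_irreducible ρ inferInstance
  obtain ⟨ϑ, hϑ, hcon⟩ := exists_constituent H ρ.character hχ
  have hϑcf : IsClassFunction H ϑ := Cfsg.Agent.Lib.Helper26.isClassFunction_of_isIrrCharacter hϑ
  set T := inertia H ϑ with hTdef
  have : Fintype T := Fintype.ofFinite T
  have hHT : H ≤ T := le_inertia H ϑ hϑcf
  obtain ⟨ψ, hψ, hind, he⟩ := Cfsg.Agent.S0854.result H ϑ hϑ T (mem_inertia H ϑ) hHT ρ.character hχ hcon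
  exact ito_core H hH ϑ hϑ T (mem_inertia H ϑ) hHT ρ.character hχ hcon ψ hψ hind he
    (Module.finrank ℂ V) (Representation.char_one ρ)

end Cfsg.Agent.S0169
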