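import Cfsg.Statements.S0872
import Cfsg.Agent.Lib.Helper28.QuasiElem

set_option autoImplicit false
open Cfsg

namespace Cfsg.Agent.S0872

open Cfsg.Agent.Lib.Helper28

/-- a constant function `m`, `p ∤ m`, lies in the ring of `p`-quasi-elementary permutation characters. -/
theorem const_mem_permRing {G : Type*} [Group G] [Fintype G] (p : ℕ) (hp : p.Prime) :
    ∃ m : ℤ, ¬ (p : ℤ) ∣ m ∧ (fun _ : G => (m : ℂ)) ∈ permRing (G := G) p := by
  apply local_const_mem (permRing (G := G) p) (fun f hf g hg => permRing_mul_mem hp hf hg) p hp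
  intro x
  obtain ⟨H, hH, n, hn, hpn⟩ := Cfsg.Agent.S0871.result x p hp
  refine ⟨_, indFun_one_mem_permRing (p := p) hH, (n : ℤ), ?_, ?_⟩
  · rw [hn]; simp
  · intro h
    exact hpn (Int.natCast_dvd_natCast.mp h)

/-- For a finite group G and a prime p there are an integer m not divisible by p and a ℤ-linear combination of functions induced from the constant function 1 on subgroups H, each having a cyclic normal subgroup of order prime to p and p-power index in H, that equals the constant function m. -/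
theorem result {G : Type*} [Group G] [Fintype G] (p : ℕ) (hp : p.Prime) : ∃ (m : ℤ) (a : Subgroup G → ℤ), ¬ (p : ℤ) ∣ m ∧ (∀ H, a H ≠ 0 → (∃ C : Subgroup G, C ≤ H ∧ H ≤ Subgroup.normalizer (C : Set G) ∧ IsCyclic C ∧ Nat.Coprime (Nat.card C) p ∧ ∃ k : ℕ, C.relIndex H = p ^ k)) ∧ (fun _ : G => (m : ℂ)) = ∑ H : Subgroup G, (a H : ℂ) • Cfsg.indFun H (fun _ => 1) := by
  obtain ⟨m, hm, hmem⟩ := const_mem_permRing (G := G) p hp
  obtain ⟨a, ha, hsum⟩ := exists_coeff_of_mem_permRing hmem
  exact ⟨m, a, hm, ha, hsum⟩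

end Cfsg.Agent.S0872
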