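import Cfsg.Statements.S0905
import Mathlib
import Cfsg.Agent.Lib.Helper15.ModularPGroup
import Cfsg.Agent.Lib.Helper16.PCore

set_option autoImplicit false
open Cfsg

namespace Cfsg.Agent.S0905

variable {G : Type*} [Group G] {F : Type*} [Field F]

/-- The "socle filtration" of the regular module with respect to the subgroup `Q`. -/
noncomputable def W (Q : Subgroup G) : ℕ → Submodule F (MonoidAlgebra F G)
  | 0 => ⊥
  | (i + 1) =>
    { carrier := {w | ∀ y ∈ Q, (MonoidAlgebra.of F G y - 1) * w ∈ W Q i}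
      add_mem' := by
        intro a b ha hb y hy
        rw [mul_add]
        exact Submodule.add_mem _ (ha y hy) (hb y hy)
      zero_mem' := by
        intro y _
        rw [mul_zero]
        exact Submodule.zero_mem _
      smul_mem' := by
        intro c a ha y hy
        rw [mul_smul_comm]
        exact Submodule.smul_mem _ c (ha y hy) }

theorem mem_W_succ (Q : Subgroup G) (i : ℕ) (w : MonoidAlgebra F G) :
    w ∈ W (F := F) Q (i + 1) ↔ ∀ y ∈ Q, (MonoidAlgebra.of F G y - 1) * w ∈ W Q i := Iff.rfl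

theorem W_zero (Q : Subgroup G) : W (F := F) Q 0 = ⊥ := rfl

/-- `W i` is a left ideal. -/
theorem of_mul_mem_W (Q : Subgroup G) [hQn : Q.Normal] (i : ℕ) :
    ∀ (h : G) (w : MonoidAlgebra F G), w ∈ W Q i → MonoidAlgebra.of F G h * w ∈ W Q i := by
  induction i with
  | zero =>
    intro h w hw
    rw [W_zero, Submodule.mem_bot] at hw ⊢
    rw [hw, mul_zero]
  | succ i ih =>
    intro h w hw
    rw [mem_W_succ] at hw ⊢
    intro y hy
    have hconj : h⁻¹ * y * h ∈ Q := by
      have := hQn.conj_mem y hy h⁻¹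
      rwa [inv_inv] at this
    have key : (MonoidAlgebra.of F G y - 1) * (MonoidAlgebra.of F G h * w)
        = MonoidAlgebra.of F G h * ((MonoidAlgebra.of F G (h⁻¹ * y * h) - 1) * w) := by
      have h1 : MonoidAlgebra.of F G y * MonoidAlgebra.of F G h
          = MonoidAlgebra.of F G h * MonoidAlgebra.of F G (h⁻¹ * y * h) := by
        rw [← map_mul, ← map_mul]
        congr 1
        group
      calc (MonoidAlgebra.of F G y - 1) * (MonoidAlgebra.of F G h * w)
          = (MonoidAlgebra.of F G y * MonoidAlgebra.of F G h) * w - MonoidAlgebra.of F G h * w := by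
            noncomm_ring
        _ = (MonoidAlgebra.of F G h * MonoidAlgebra.of F G (h⁻¹ * y * h)) * w
              - MonoidAlgebra.of F G h * w := by rw [h1]
        _ = MonoidAlgebra.of F G h * ((MonoidAlgebra.of F G (h⁻¹ * y * h) - 1) * w) := by
            noncomm_ring
    rw [key]
    exact ih h _ (hw _ hconj)

theorem W_mono (Q : Subgroup G) (i : ℕ) : W (F := F) Q i ≤ W Q (i + 1) := by
  induction i with
  | zero => rw [W_zero]; exact bot_le
  | succ i ih =>
    intro w hw
    rw [mem_W_succ] at hw ⊢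
    intro y hy
    exact ih (hw y hy)

theorem nsmul_eq_zero_of_charP (p : ℕ) [CharP F p] (v : MonoidAlgebra F G) : p • v = 0 := by
  rw [← Nat.cast_smul_eq_nsmul F p v, CharP.cast_eq_zero, zero_smul]

/-- (P3): the class sum lowers the filtration. -/
theorem classSum_mul_mem (p : ℕ) [hp : Fact p.Prime] [CharP F p] [Finite G] (Q : Subgroup G)
    [hQn : Q.Normal] (hQ : IsPGroup p Q) (K : Finset G)
    (hK : ∀ x ∈ K, ∀ y ∈ Q, y * x * y⁻¹ ∈ K)
    (hfix : ∀ x ∈ K, ∃ y ∈ Q, y * x * y⁻¹ ≠ x) (i : ℕ) (w : MonoidAlgebra F G)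
    (hw : w ∈ W Q (i + 1)) :
    (∑ x ∈ K, MonoidAlgebra.of F G x) * w ∈ W Q i := by
  classical
  letI : MulAction Q K :=
    { smul := fun y x => ⟨y.1 * x.1 * y.1⁻¹, hK x.1 x.2 y.1 y.2⟩
      one_smul := fun x => Subtype.ext (by show (1 : G) * x.1 * (1 : G)⁻¹ = x.1; group)
      mul_smul := fun y z x => Subtype.ext (by
        show (y.1 * z.1) * x.1 * (y.1 * z.1)⁻¹ = y.1 * (z.1 * x.1 * z.1⁻¹) * y.1⁻¹
        group) }
  have hsm : ∀ (y : Q) (x : K), ((y • x : K) : G) = y.1 * x.1 * y.1⁻¹ := fun _ _ => rfl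
  have key := Cfsg.Agent.Lib.Helper15.sum_mem_of_pgroup_action (p := p)
    (V := MonoidAlgebra F G) (nsmul_eq_zero_of_charP p) (W Q i).toAddSubgroup hQ (X := K)
    (by
      intro x
      obtain ⟨y, hy, hne⟩ := hfix x.1 x.2
      refine ⟨⟨y, hy⟩, ?_⟩
      intro h
      apply hne
      have := congrArg Subtype.val h
      rwa [hsm] at this)
    (fun x => MonoidAlgebra.of F G x.1 * w)
    (by
      intro y x
      show MonoidAlgebra.of F G ((y • x : K) : G) * w - MonoidAlgebra.of F G x.1 * w ∈ W Q i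
      rw [hsm]
      have hc : x.1⁻¹ * y.1 * x.1 * y.1⁻¹ ∈ Q := by
        have h1 : x.1⁻¹ * y.1 * x.1 ∈ Q := by
          have := hQn.conj_mem y.1 y.2 x.1⁻¹
          rwa [inv_inv] at this
        exact Q.mul_mem h1 (Q.inv_mem y.2)
      have h2 : MonoidAlgebra.of F G (y.1 * x.1 * y.1⁻¹) * w - MonoidAlgebra.of F G x.1 * w
          = MonoidAlgebra.of F G x.1 *
            ((MonoidAlgebra.of F G (x.1⁻¹ * y.1 * x.1 * y.1⁻¹) - 1) * w) := by
        have h3 : MonoidAlgebra.of F G (y.1 * x.1 * y.1⁻¹)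
            = MonoidAlgebra.of F G x.1 * MonoidAlgebra.of F G (x.1⁻¹ * y.1 * x.1 * y.1⁻¹) := by
          rw [← map_mul]
          congr 1
          group
        rw [h3]
        noncomm_ring
      rw [h2]
      exact of_mul_mem_W Q i _ _ (hw _ hc))
  have h4 : ∑ x : K, MonoidAlgebra.of F G x.1 * w = (∑ x ∈ K, MonoidAlgebra.of F G x) * w := by
    rw [Finset.sum_mul]
    exact Finset.sum_coe_sort K (fun x => MonoidAlgebra.of F G x * w)
  rw [← h4]
  exact key

/-- (P4): the filtration grows strictly until it reaches the top. -/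
theorem W_lt (p : ℕ) [hp : Fact p.Prime] [CharP F p] [Finite G] (Q : Subgroup G)
    [hQn : Q.Normal] (hQ : IsPGroup p Q) (i : ℕ) (hi : W (F := F) Q i ≠ ⊤) :
    ∃ w, w ∈ W (F := F) Q (i + 1) ∧ w ∉ W Q i := by
  classical
  obtain ⟨w₀, hw₀⟩ : ∃ w₀ : MonoidAlgebra F G, w₀ ∉ W Q i := by
    by_contra hcon
    push_neg at hcon
    exact hi (eq_top_iff.mpr (fun w _ => hcon w))
  -- the action on the quotient
  have hle : ∀ y : G, W (F := F) Q i ≤ (W Q i).comap (LinearMap.mulLeft F (MonoidAlgebra.of F G y)) :=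
    fun y w hw => of_mul_mem_W Q i y w hw
  let ρ : Q →* AddMonoid.End (MonoidAlgebra F G ⧸ W (F := F) Q i) :=
    { toFun := fun y => ((W Q i).mapQ (W Q i) (LinearMap.mulLeft F (MonoidAlgebra.of F G y.1))
        (hle y.1)).toAddMonoidHom
      map_one' := by
        apply AddMonoidHom.ext
        intro v
        obtain ⟨w, rfl⟩ := Submodule.Quotient.mk_surjective _ v
        show (Submodule.Quotient.mk (MonoidAlgebra.of F G (1 : G) * w) :
          MonoidAlgebra F G ⧸ W (F := F) Q i) = Submodule.Quotient.mk w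
        rw [map_one, one_mul]
      map_mul' := by
        intro y z
        apply AddMonoidHom.ext
        intro v
        obtain ⟨w, rfl⟩ := Submodule.Quotient.mk_surjective _ v
        show (Submodule.Quotient.mk (MonoidAlgebra.of F G (y.1 * z.1) * w) :
          MonoidAlgebra F G ⧸ W (F := F) Q i)
            = Submodule.Quotient.mk (MonoidAlgebra.of F G y.1 * (MonoidAlgebra.of F G z.1 * w))
        rw [map_mul, mul_assoc] }
  have hρ : ∀ (y : Q) (w : MonoidAlgebra F G),
      ρ y (Submodule.Quotient.mk w) = Submodule.Quotient.mk (MonoidAlgebra.of F G y.1 * w) := by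
    intro y w
    rfl
  have hpV : ∀ v : MonoidAlgebra F G ⧸ W (F := F) Q i, p • v = 0 := by
    intro v
    obtain ⟨w, rfl⟩ := Submodule.Quotient.mk_surjective _ v
    rw [← Submodule.Quotient.mk_smul, nsmul_eq_zero_of_charP, Submodule.Quotient.mk_zero]
  obtain ⟨v, hv0, hvfix⟩ := Cfsg.Agent.Lib.Helper15.exists_fixed_ne_zero (p := p) hpV hQ ρ
    (Submodule.Quotient.mk w₀) (by
      intro h
      exact hw₀ ((Submodule.Quotient.mk_eq_zero _).mp h))
  obtain ⟨w, rfl⟩ := Submodule.Quotient.mk_surjective _ v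
  refine ⟨w, ?_, ?_⟩
  · rw [mem_W_succ]
    intro y hy
    have h1 := hvfix ⟨y, hy⟩
    rw [hρ] at h1
    have h2 := (Submodule.Quotient.eq _).mp h1
    have h3 : (MonoidAlgebra.of F G y - 1) * w = MonoidAlgebra.of F G y * w - w := by
      noncomm_ring
    rw [h3]; exact h2
  · intro h
    exact hv0 ((Submodule.Quotient.mk_eq_zero _).mpr h)

/-- (P5) -/
theorem exists_W_eq_top (p : ℕ) [hp : Fact p.Prime] [CharP F p] [Finite G] (Q : Subgroup G)
    [hQn : Q.Normal] (hQ : IsPGroup p Q) : ∃ n, W (F := F) Q n = ⊤ := by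
  haveI : Fintype G := Fintype.ofFinite G
  let f : ℕ →o Submodule F (MonoidAlgebra F G) :=
    ⟨W Q, monotone_nat_of_le_succ (W_mono Q)⟩
  obtain ⟨n, hn⟩ := monotone_stabilizes_iff_noetherian.mpr
    (inferInstance : IsNoetherian F (MonoidAlgebra F G)) f
  refine ⟨n, ?_⟩
  by_contra hne
  obtain ⟨w, hw1, hw2⟩ := W_lt p Q hQ n hne
  apply hw2
  have := hn (n + 1) (Nat.le_succ n)
  have h2 : W (F := F) Q n = W Q (n + 1) := this
  rw [h2]; exact hw1

/-- (P6) -/
theorem classSum_pow_mul_mem (p : ℕ) [hp : Fact p.Prime] [CharP F p] [Finite G] (Q : Subgroup G)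
    [hQn : Q.Normal] (hQ : IsPGroup p Q) (K : Finset G)
    (hK : ∀ x ∈ K, ∀ y ∈ Q, y * x * y⁻¹ ∈ K)
    (hfix : ∀ x ∈ K, ∃ y ∈ Q, y * x * y⁻¹ ≠ x) (n : ℕ) :
    ∀ (m : ℕ) (w : MonoidAlgebra F G), w ∈ W Q (m + n) →
      (∑ x ∈ K, MonoidAlgebra.of F G x) ^ n * w ∈ W Q m := by
  induction n with
  | zero =>
    intro m w hw
    simpa using hw
  | succ n ih =>
    intro m w hw
    rw [pow_succ, mul_assoc]
    apply ih
    have : m + (n + 1) = (m + n) + 1 := by ring
    rw [this] at hw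
    exact classSum_mul_mem p Q hQ K hK hfix (m + n) w hw

theorem classSum_nilpotent (p : ℕ) [hp : Fact p.Prime] [CharP F p] [Finite G] (Q : Subgroup G)
    [hQn : Q.Normal] (hQ : IsPGroup p Q) (K : Finset G)
    (hK : ∀ x ∈ K, ∀ y ∈ Q, y * x * y⁻¹ ∈ K)
    (hfix : ∀ x ∈ K, ∃ y ∈ Q, y * x * y⁻¹ ≠ x) :
    IsNilpotent (∑ x ∈ K, MonoidAlgebra.of F G x) := by
  obtain ⟨n, hn⟩ := exists_W_eq_top (F := F) p Q hQ
  refine ⟨n, ?_⟩
  have h1 := classSum_pow_mul_mem p Q hQ K hK hfix n 0 1 (by rw [zero_add, hn]; trivial)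
  rw [W_zero, Submodule.mem_bot, mul_one] at h1
  exact h1

theorem result {G : Type*} [Group G] [Finite G] (p : ℕ) [Fact p.Prime] (F : Type*) [Field F] [CharP F p] (g : G) (hg : ∀ x : G, IsConj g x → x ∉ Subgroup.centralizer (Cfsg.pCore p G : Set G)) : IsNilpotent (∑ᶠ x ∈ ConjClasses.carrier (ConjClasses.mk g), MonoidAlgebra.single x (1 : F) : MonoidAlgebra F G) := by
  classical
  haveI : (Cfsg.pCore p G).Normal := Cfsg.Agent.Lib.Helper16.pCore_normal p G
  have hQ : IsPGroup p (Cfsg.pCore p G) := Cfsg.Agent.Lib.Helper16.pCore_isPGroup p G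
  have hfin : (ConjClasses.carrier (ConjClasses.mk g)).Finite := Set.toFinite _
  have hmem : ∀ x, x ∈ hfin.toFinset ↔ IsConj g x := by
    intro x
    rw [Set.Finite.mem_toFinset, ConjClasses.mem_carrier_iff_mk_eq, ConjClasses.mk_eq_mk_iff_isConj]
    exact ⟨fun h => h.symm, fun h => h.symm⟩
  rw [finsum_mem_eq_finite_toFinset_sum _ hfin]
  have := classSum_nilpotent (F := F) p (Cfsg.pCore p G) hQ hfin.toFinset
    (by
      intro x hx y _
      rw [hmem] at hx ⊢
      exact hx.trans (isConj_iff.mpr ⟨y, rfl⟩))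
    (by
      intro x hx
      rw [hmem] at hx
      have h1 := hg x hx
      rw [Subgroup.mem_centralizer_iff] at h1
      push_neg at h1
      obtain ⟨y, hy, hne⟩ := h1
      refine ⟨y, hy, ?_⟩
      intro h
      apply hne
      calc y * x = (y * x * y⁻¹) * y := by group
        _ = x * y := by rw [h])
  exact this

end Cfsg.Agent.S0905
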