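import Cfsg.Statements.S0912
import Cfsg.Agent.Lib.Helper28.BlockOsima
import Cfsg.Agent.Lib.Helper4.BlockNilp

set_option autoImplicit false
open Cfsg

namespace Cfsg.Agent.S0912

open Cfsg.Agent.Lib.Helper28 in
theorem result {G : Type*} [Group G] [Finite G] (p : ℕ) [Fact p.Prime] (M : Ideal Cfsg.AlgInt) (hM : Cfsg.IsPModular p M) (B : Set (Cfsg.IrrCharacter G)) (hB : Cfsg.IsPBlock M B) (D : Subgroup G) (hD : Cfsg.IsDefectGroup p M B D) : Cfsg.pCore p G ≤ D := by
  classical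
  have : Fintype G := Fintype.ofFinite G
  have hprime : M.IsPrime := hM.2.1.isPrime
  obtain ⟨g, ⟨hg1, hg2, hg3⟩, P, rfl⟩ := hD
  obtain ⟨χ0, hχ0⟩ := block_nonempty hB
  apply sSup_le
  rintro N ⟨hNn, hNp⟩
  have hgN : g ∈ Subgroup.centralizer (N : Set G) := by
    by_contra hgN
    exact hg3 χ0 hχ0
      (Cfsg.Agent.Lib.Helper4.centralChar_memLocalIdeal_of_not_centralizer hM N hNp χ0.2 g hgN)
  have hNC : N ≤ Subgroup.centralizer ({g} : Set G) := by
    intro n hn
    rw [Subgroup.mem_centralizer_iff]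
    intro h hh
    rw [Set.mem_singleton_iff] at hh
    rw [hh]
    exact ((Subgroup.mem_centralizer_iff.mp hgN) n hn).symm
  have hN'p : IsPGroup p (N.subgroupOf (Subgroup.centralizer ({g} : Set G))) :=
    hNp.comap_subtype
  have hle := hN'p.le_sylow_of_normal P
  intro n hn
  exact Subgroup.mem_map.mpr ⟨⟨n, hNC hn⟩, hle (Subgroup.mem_subgroupOf.mpr hn), rfl⟩

end Cfsg.Agent.S0912
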