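import Cfsg.Statements.S0868
import Cfsg.Agent.Lib.Helper7.Gallagher
import Cfsg.Agent.Lib.Helper4.BurnsideClass
import Cfsg.Agent.Lib.Helper4.RepEigen

set_option autoImplicit false
open Cfsg
open scoped ComplexConjugate

namespace Cfsg.Agent.S0868

open Cfsg.Agent.Lib.Helper26 Cfsg.Agent.Lib.Helper2 Cfsg.Agent.Lib.Helper7

section
variable {G : Type*} [Group G] [Fintype G] (N : Subgroup G) [hN : N.Normal] [Fintype N]

/-- sums over the subgroup versus indicator sums -/
theorem sum_subtype_eq_sum_ite {M : Type*} [AddCommMonoid M] (F : G → M) [DecidablePred (· ∈ N)] :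
    ∑ n : N, F n = ∑ g : G, if g ∈ N then F g else 0 := by
  rw [← Finset.sum_filter]
  exact (Finset.sum_subtype (Finset.univ.filter (fun g : G => g ∈ N)) (by simp) F).symm

/-- If the trivial character of `N` is not a constituent of `μ_N`, the coset sums of `μ` vanish. -/
theorem coset_sum_eq_zero (μ : G → ℂ) (hμ : IsIrrCharacter G μ)
    (h0 : classInner (fun n : N => μ n) (fun _ => 1) = 0) (g : G) :
    ∑ n : N, μ ((n : G) * g) = 0 := by
  classical
  obtain ⟨d, ρ, hirr, rfl⟩ := hμ
  let f : G → ℂ := fun g => if g ∈ N then 1 else 0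
  have hf : IsClassFunction G f := by
    intro x k
    show (if k * x * k⁻¹ ∈ N then (1:ℂ) else 0) = if x ∈ N then 1 else 0
    have : k * x * k⁻¹ ∈ N ↔ x ∈ N := by
      constructor
      · intro h
        have := hN.conj_mem _ h k⁻¹
        have e : k⁻¹ * (k * x * k⁻¹) * k⁻¹⁻¹ = x := by group
        rwa [e] at this
      · intro h; exact hN.conj_mem _ h k
    simp only [this]
  obtain ⟨c, hc1, hc2⟩ := Cfsg.Agent.Lib.Helper4.opSum_eq_smul_of_irreducible ρ hirr f hf
  have hsum : ∑ x : G, f x * ρ.character x = 0 := by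
    unfold classInner at h0
    have hN0 : (Nat.card N : ℂ) ≠ 0 := Nat.cast_ne_zero.mpr Nat.card_pos.ne'
    have h1 : ∑ n : N, ρ.character n = 0 := by
      rcases mul_eq_zero.mp h0 with h | h
      · exact absurd h (inv_ne_zero hN0)
      · simpa using h
    rw [sum_subtype_eq_sum_ite N (fun x => ρ.character x)] at h1
    rw [← h1]
    refine Finset.sum_congr rfl fun x _ => ?_
    by_cases hx : x ∈ N <;> simp [f, hx]
  have hd := Cfsg.Agent.Lib.Helper4.finrank_ne_zero_of_irreducible ρ hirr
  have hc0 : c = 0 := by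
    rw [hsum] at hc2
    rcases mul_eq_zero.mp hc2 with h | h
    · exact h
    · exact absurd h hd
  have hop : Cfsg.Agent.Lib.Helper4.opSum ρ f = 0 := by rw [hc1, hc0, zero_smul]
  have hop' : ∑ n : N, ρ n = 0 := by
    calc ∑ n : N, ρ n = ∑ x : G, if x ∈ N then ρ x else 0 :=
          sum_subtype_eq_sum_ite N (fun x => ρ x)
      _ = Cfsg.Agent.Lib.Helper4.opSum ρ f := by
          unfold Cfsg.Agent.Lib.Helper4.opSum
          refine Finset.sum_congr rfl fun x _ => ?_
          by_cases hx : x ∈ N <;> simp [f, hx]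
      _ = 0 := hop
  have : ∑ n : N, ρ.character ((n : G) * g) = LinearMap.trace ℂ _ ((∑ n : N, ρ n) * ρ g) := by
    rw [Finset.sum_mul, map_sum]
    refine Finset.sum_congr rfl fun n _ => ?_
    unfold Representation.character
    rw [map_mul]
  rw [this, hop', zero_mul, map_zero]

/-- If the trivial character of `N` is a constituent of `μ_N`, then `μ` is constant on cosets. -/
theorem coset_const (μ : G → ℂ) (hμ : IsIrrCharacter G μ)
    (h0 : classInner (fun n : N => μ n) (fun _ => 1) ≠ 0) (n : N) (g : G) :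
    μ ((n : G) * g) = μ g := by
  classical
  have hinv : ∀ (g : G) (n : N), (fun _ : N => (1:ℂ)) ⟨g * n * g⁻¹, hN.conj_mem (n : G) n.2 g⟩ =
      (fun _ : N => (1:ℂ)) n := fun _ _ => rfl
  obtain ⟨e, he0, he⟩ := Cfsg.Agent.S0900.clifford_inv N μ hμ (fun _ => 1)
    Cfsg.Agent.Lib.Helper4.isIrrCharacter_one h0 hinv
  obtain ⟨d, ρ, hirr, rfl⟩ := hμ
  have h1 : ρ.character n = ρ.character 1 := by
    have h2 := congrFun he n
    have h3 := congrFun he 1
    simp only [Pi.smul_apply, smul_eq_mul, mul_one, Subgroup.coe_one] at h2 h3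
    rw [h2, h3]
  rw [Representation.char_one] at h1
  have h2 := (Cfsg.Agent.Lib.Helper4.character_eq_finrank_iff ρ (n : G)).mp h1
  unfold Representation.character
  rw [map_mul, h2]
  rfl

/-- The coset average of a class function is a class function. -/
theorem eta_classFunction (F : G → ℂ) (hF : IsClassFunction G F) :
    IsClassFunction G (fun g => (Nat.card N : ℂ)⁻¹ * ∑ n : N, F ((n : G) * g)) := by
  intro g h
  show (Nat.card N : ℂ)⁻¹ * ∑ n : N, F ((n : G) * (h * g * h⁻¹)) =
    (Nat.card N : ℂ)⁻¹ * ∑ n : N, F ((n : G) * g)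
  congr 1
  refine Fintype.sum_equiv (MulAut.conjNormal h⁻¹ : N ≃* N).toEquiv _ _ (fun n => ?_)
  have h1 : ((MulAut.conjNormal h⁻¹ : N ≃* N) n : G) = h⁻¹ * n * h := by
    rw [MulAut.conjNormal_apply]; simp
  show F ((n : G) * (h * g * h⁻¹)) = F (((MulAut.conjNormal h⁻¹ : N ≃* N) n : G) * g)
  rw [h1]
  have h2 := hF (h⁻¹ * n * h * g) h
  rw [← h2]
  congr 1
  group

theorem eta_inner (F μ : G → ℂ) :
    classInner (fun g => (Nat.card N : ℂ)⁻¹ * ∑ n : N, F ((n : G) * g)) μ =
      (Nat.card G : ℂ)⁻¹ * ∑ g : G, F g *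
        ((Nat.card N : ℂ)⁻¹ * conj (∑ n : N, μ ((n : G) * g))) := by
  unfold classInner
  congr 1
  have h1 : ∀ g : G, ((Nat.card N : ℂ)⁻¹ * ∑ n : N, F ((n : G) * g)) * conj (μ g) =
      (Nat.card N : ℂ)⁻¹ * ∑ n : N, F ((n : G) * g) * conj (μ g) := by
    intro g
    rw [mul_assoc, Finset.sum_mul]
  simp only [h1]
  rw [← Finset.mul_sum, Finset.sum_comm]
  have h2 : ∀ n : N, ∑ g : G, F ((n : G) * g) * conj (μ g) =
      ∑ g : G, F g * conj (μ ((n : G)⁻¹ * g)) := by
    intro n
    refine Fintype.sum_equiv (Equiv.mulLeft (n : G)) _ _ (fun g => ?_)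
    simp
  simp only [h2]
  rw [Finset.sum_comm, Finset.mul_sum]
  refine Finset.sum_congr rfl fun g _ => ?_
  rw [← Finset.mul_sum, map_sum]
  have h3 : ∑ n : N, conj (μ ((n : G)⁻¹ * g)) = ∑ n : N, conj (μ ((n : G) * g)) := by
    refine Fintype.sum_equiv (Equiv.inv N) _ _ (fun n => ?_)
    simp
  rw [h3]
  ring

end

/-- Let N be a normal subgroup of the finite group G, χ an irreducible character of G whose restriction ϑ to N is irreducible, and ψ an irreducible character of G. Define η on G by η g = (1 / order of N) * Σ over n in N of ψ (n * g) * conj (χ (n * g)). Then: if the restriction of ψ to N has nonzero inner product with ϑ, η is an irreducible character of G; if that inner product is zero, η vanishes identically; and if ψ = χ then η is identically 1. -/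
theorem result {G : Type*} [Group G] [Fintype G] (N : Subgroup G) [N.Normal] [Fintype N] (χ : G → ℂ) (hχ : Cfsg.IsIrrCharacter G χ) (hχN : Cfsg.IsIrrCharacter N (fun n : N => χ n)) (ψ : G → ℂ) (hψ : Cfsg.IsIrrCharacter G ψ) (η : G → ℂ) (hη : η = fun g => (Nat.card N : ℂ)⁻¹ * ∑ n : N, ψ ((n : G) * g) * conj (χ ((n : G) * g))) : (Cfsg.classInner (fun n : N => ψ n) (fun n : N => χ n) ≠ 0 → Cfsg.IsIrrCharacter G η) ∧ (Cfsg.classInner (fun n : N => ψ n) (fun n : N => χ n) = 0 → η = 0) ∧ (ψ = χ → η = fun _ => 1) := by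
  classical
  have hN : N.Normal := inferInstance
  have : Fintype (IrrCharacter G) := Fintype.ofFinite _
  set ϑ : N → ℂ := fun n : N => χ n with hϑdef
  let one : N → ℂ := fun _ => 1
  have hone : IsIrrCharacter N one := Cfsg.Agent.Lib.Helper4.isIrrCharacter_one
  have hone_mul : one * ϑ = ϑ := by
    funext n; simp [one]
  have hχcl := isClassFunction_of_isIrrCharacter hχ
  have hψcl := isClassFunction_of_isIrrCharacter hψ
  have hϑinv : ∀ (g : G) (n : N), ϑ ⟨g * n * g⁻¹, hN.conj_mem (n : G) n.2 g⟩ = ϑ n :=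
    fun g n => hχcl n g
  have hN0 : (Nat.card N : ℂ) ≠ 0 := Nat.cast_ne_zero.mpr Nat.card_pos.ne'
  obtain ⟨g1, g2, g3⟩ := gallagher_gen N one ϑ hone (fun _ _ => rfl) hϑinv
    (by rw [hone_mul]; exact hχN) χ hχ (fun n => rfl)
  let F : G → ℂ := fun g => ψ g * conj (χ g)
  have hF : IsClassFunction G F := fun g h => by
    simp only [F]; rw [hψcl g h, hχcl g h]
  have hηF : η = fun g => (Nat.card N : ℂ)⁻¹ * ∑ n : N, F ((n : G) * g) := hη
  have hηcl : IsClassFunction G η := by
    rw [hηF]; exact eta_classFunction N F hF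
  have hA : ∀ μ : G → ℂ, IsIrrCharacter G μ →
      (classInner (indFun N one) μ ≠ 0 ↔ classInner (fun n : N => μ n) one ≠ 0) := by
    intro μ hμ
    rw [classInner_indFun_left' N one μ (isClassFunction_of_isIrrCharacter hμ),
      ← classInner_conj_symm]
    have : classInner (μ ∘ N.subtype) one = classInner (fun n : N => μ n) one := rfl
    rw [this]
    constructor
    · intro h h0; apply h; rw [h0, map_zero]
    · intro h h0
      apply h
      have h3 := congrArg (starRingEnd ℂ) h0
      rw [Complex.conj_conj, map_zero] at h3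
      exact h3
  have hcoef : ∀ μ : IrrCharacter G, classInner η (μ : G → ℂ) =
      if classInner (fun n : N => (μ : G → ℂ) n) one ≠ 0 then
        classInner ψ ((μ : G → ℂ) * χ) else 0 := by
    intro μ
    rw [hηF, eta_inner N F μ]
    by_cases h : classInner (fun n : N => (μ : G → ℂ) n) one ≠ 0
    · rw [if_pos h]
      unfold classInner
      congr 1
      refine Finset.sum_congr rfl fun g _ => ?_
      have h1 : ∑ n : N, (μ : G → ℂ) ((n : G) * g) = (Nat.card N : ℂ) * (μ : G → ℂ) g := by
        simp only [coset_const N μ μ.2 h]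
        rw [Finset.sum_const, Finset.card_univ, nsmul_eq_mul, Nat.card_eq_fintype_card]
      rw [h1, map_mul, Complex.conj_natCast]
      have h2 : F g * ((Nat.card N : ℂ)⁻¹ * ((Nat.card N : ℂ) * conj ((μ : G → ℂ) g))) =
          F g * conj ((μ : G → ℂ) g) := by
        rw [← mul_assoc (Nat.card N : ℂ)⁻¹, inv_mul_cancel₀ hN0, one_mul]
      rw [h2]
      simp only [F, Pi.mul_apply, map_mul]
      ring
    · rw [if_neg h]
      push Not at h
      simp only [coset_sum_eq_zero N μ μ.2 h, map_zero, mul_zero, Finset.sum_const_zero]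
  have hexp := Cfsg.Agent.Lib.Helper4.classFunction_expansion η hηcl
  simp_rw [hcoef] at hexp
  have key : ∀ β₀ : G → ℂ, IsIrrCharacter G β₀ → classInner (indFun N one) β₀ ≠ 0 →
      β₀ * χ = ψ → η = β₀ := by
    intro β₀ hβ₀ hβ₀A hβ₀ψ
    rw [hexp, Finset.sum_eq_single (⟨β₀, hβ₀⟩ : IrrCharacter G)]
    · simp only
      rw [if_pos ((hA β₀ hβ₀).mp hβ₀A), hβ₀ψ, classInner_irr hψ hψ, if_pos rfl, one_smul]
    · intro μ _ hμ
      by_cases h : classInner (fun n : N => (μ : G → ℂ) n) one ≠ 0
      · rw [if_pos h]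
        have hμA := (hA μ μ.2).mpr h
        have hirr := (g1 μ μ.2 hμA).1
        rw [classInner_irr hψ hirr, if_neg, zero_smul]
        intro heq
        apply hμ
        apply Subtype.ext
        exact g2 μ β₀ μ.2 hβ₀ hμA hβ₀A (by rw [hβ₀ψ, ← heq])
      · rw [if_neg h, zero_smul]
    · intro h; exact absurd (Finset.mem_univ _) h
  have hIndψ : classInner (indFun N ϑ) ψ ≠ 0 ↔ classInner (fun n : N => ψ n) ϑ ≠ 0 := by
    rw [classInner_indFun_left' N ϑ ψ hψcl, ← classInner_conj_symm]
    have : classInner (ψ ∘ N.subtype) ϑ = classInner (fun n : N => ψ n) ϑ := rfl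
    rw [this]
    constructor
    · intro h h0; apply h; rw [h0, map_zero]
    · intro h h0
      apply h
      have h3 := congrArg (starRingEnd ℂ) h0
      rw [Complex.conj_conj, map_zero] at h3
      exact h3
  refine ⟨?_, ?_, ?_⟩
  · intro hne
    have h1 : classInner (indFun N (one * ϑ)) ψ ≠ 0 := by
      rw [hone_mul]; exact hIndψ.mpr hne
    obtain ⟨β, hβ, hβA, hβψ⟩ := g3 ψ hψ h1
    rw [key β hβ hβA hβψ]; exact hβ
  · intro h0
    rw [hexp]
    apply Finset.sum_eq_zero
    intro μ _
    by_cases h : classInner (fun n : N => (μ : G → ℂ) n) one ≠ 0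
    · rw [if_pos h]
      have hμA := (hA μ μ.2).mpr h
      obtain ⟨hirr, hcoefμ⟩ := g1 μ μ.2 hμA
      rw [classInner_irr hψ hirr, if_neg, zero_smul]
      intro heq
      rw [hone_mul, ← heq] at hcoefμ
      apply hμA
      rw [← hcoefμ]
      by_contra hne
      exact (hIndψ.mp hne) h0
    · rw [if_neg h, zero_smul]
  · intro hψχ
    have h1G : IsIrrCharacter G (fun _ => (1:ℂ)) := Cfsg.Agent.Lib.Helper4.isIrrCharacter_one
    have h1A : classInner (indFun N one) (fun _ => (1:ℂ)) ≠ 0 := by
      rw [hA _ h1G]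
      show classInner one one ≠ 0
      rw [classInner_irr hone hone, if_pos rfl]; exact one_ne_zero
    exact key _ h1G h1A (by rw [hψχ]; funext g; simp)

end Cfsg.Agent.S0868
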