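import Cfsg.Statements.S0857
import Cfsg.Agent.S0169
import Cfsg.Agent.S0900
import Cfsg.Agent.S0868
import Cfsg.Agent.Lib.Helper7.CliffordCorr
import Cfsg.Agent.Lib.Helper7.Gallagher
import Cfsg.Agent.Lib.Helper4.Artin
import Cfsg.Agent.Lib.Helper24.LinBridge
import Cfsg.Agent.Lib.Helper26.Fourier

set_option autoImplicit false
open Cfsg

namespace Cfsg.Agent.S0857

open Cfsg.Agent.Lib.Helper26 Cfsg.Agent.Lib.Helper2 Cfsg.Agent.Lib.Helper7
open scoped ComplexConjugate

section Twist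
variable {K : Type*} [Group K] [Fintype K]

/-- a linear character times an irreducible character is irreducible -/
theorem isIrr_twist (mu : K →* ℂˣ) (ϑ : K → ℂ) (hϑ : IsIrrCharacter K ϑ) :
    IsIrrCharacter K (fun k => ((mu k : ℂˣ) : ℂ) * ϑ k) := by
  have hϑc := isCharacter_of_isIrrCharacter hϑ
  have hX : IsCharacter K (fun k => ((mu k : ℂˣ) : ℂ) * ϑ k) :=
    isCharacter_mul (Cfsg.Agent.Lib.Helper24.isCharacter_of_hom mu) hϑc
  apply isIrrCharacter_of_norm_one (isGeneralizedCharacter_of_isCharacter hX)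
  · have h1 := classInner_irr hϑ hϑ
    rw [if_pos rfl] at h1
    rw [← h1]
    unfold classInner
    congr 1
    refine Finset.sum_congr rfl fun k _ => ?_
    have h2 : ((mu k : ℂˣ) : ℂ) * conj ((mu k : ℂˣ) : ℂ) = 1 := by
      rw [conj_linChar, ← Units.val_mul, ← map_mul, mul_inv_cancel, map_one, Units.val_one]
    rw [map_mul]
    calc ((mu k : ℂˣ) : ℂ) * ϑ k * (conj ((mu k : ℂˣ) : ℂ) * conj (ϑ k))
        = (((mu k : ℂˣ) : ℂ) * conj ((mu k : ℂˣ) : ℂ)) * (ϑ k * conj (ϑ k)) := by ring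
      _ = ϑ k * conj (ϑ k) := by rw [h2, one_mul]
  · obtain ⟨d, hd, hd1⟩ := irr_degree hϑ
    simp only [map_one, Units.val_one, one_mul, hd1]
    simpa using hd

theorem norm_sum_distinct (F : Finset (K → ℂ)) (hF : ∀ ψ ∈ F, IsIrrCharacter K ψ) :
    classInner (∑ ψ ∈ F, ψ) (∑ ψ ∈ F, ψ) = (F.card : ℂ) := by
  classical
  rw [classInner_sum_left]
  have : ∀ ψ ∈ F, classInner ψ (∑ ψ' ∈ F, ψ') = 1 := by
    intro ψ hψ
    rw [classInner_sum_right]
    rw [Finset.sum_eq_single ψ]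
    · rw [classInner_irr (hF ψ hψ) (hF ψ hψ), if_pos rfl]
    · intro ψ' hψ' hne
      rw [classInner_irr (hF ψ hψ) (hF ψ' hψ'), if_neg (Ne.symm hne)]
    · intro h; exact absurd hψ h
  rw [Finset.sum_congr rfl this]
  simp

end Twist

section Dual
variable {K : Type*} [Group K] [Fintype K] (N : Subgroup K) [hN : N.Normal]

theorem sum_monoidHom_apply' {A : Type*} [Group A] [Finite A] (hcomm : ∀ a b : A, a * b = b * a)
    [Fintype (A →* ℂˣ)] [DecidableEq A] (x : A) :
    ∑ lam : A →* ℂˣ, ((lam x : ℂˣ) : ℂ) = if x = 1 then (Nat.card A : ℂ) else 0 := by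
  let _ : CommGroup A := { (inferInstance : Group A) with mul_comm := hcomm }
  exact Cfsg.Agent.Lib.Helper4.sum_monoidHom_apply x

theorem sum_hom_quot_mem (hcomm : ∀ a b : K ⧸ N, a * b = b * a) [Fintype ((K ⧸ N) →* ℂˣ)]
    {k : K} (hk : k ∈ N) :
    ∑ lam : (K ⧸ N) →* ℂˣ, ((lam (QuotientGroup.mk k) : ℂˣ) : ℂ) = (N.index : ℂ) := by
  classical
  rw [sum_monoidHom_apply' hcomm]
  have : ((QuotientGroup.mk k : K ⧸ N) = 1) := (QuotientGroup.eq_one_iff k).mpr hk
  rw [if_pos this]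
  rfl

theorem sum_hom_quot_not_mem (hcomm : ∀ a b : K ⧸ N, a * b = b * a) [Fintype ((K ⧸ N) →* ℂˣ)]
    {k : K} (hk : k ∉ N) :
    ∑ lam : (K ⧸ N) →* ℂˣ, ((lam (QuotientGroup.mk k) : ℂˣ) : ℂ) = 0 := by
  classical
  rw [sum_monoidHom_apply' hcomm]
  have : ¬ ((QuotientGroup.mk k : K ⧸ N) = 1) := fun h => hk ((QuotientGroup.eq_one_iff k).mp h)
  rw [if_neg this]

variable [Fintype N]

theorem sum_twist_inner (hcomm : ∀ a b : K ⧸ N, a * b = b * a) [Fintype ((K ⧸ N) →* ℂˣ)]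
    (ϑ : K → ℂ) :
    ∑ lam : (K ⧸ N) →* ℂˣ,
        classInner (fun k => ((lam (QuotientGroup.mk k) : ℂˣ) : ℂ) * ϑ k) ϑ =
      classInner (fun n : N => ϑ n) (fun n : N => ϑ n) := by
  classical
  unfold classInner
  rw [← Finset.mul_sum, Finset.sum_comm]
  have h1 : ∀ k : K, ∑ lam : (K ⧸ N) →* ℂˣ,
      ((lam (QuotientGroup.mk k) : ℂˣ) : ℂ) * ϑ k * conj (ϑ k) =
      if k ∈ N then (N.index : ℂ) * (ϑ k * conj (ϑ k)) else 0 := by
    intro k
    have : ∑ lam : (K ⧸ N) →* ℂˣ, ((lam (QuotientGroup.mk k) : ℂˣ) : ℂ) * ϑ k * conj (ϑ k) =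
        (∑ lam : (K ⧸ N) →* ℂˣ, ((lam (QuotientGroup.mk k) : ℂˣ) : ℂ)) * (ϑ k * conj (ϑ k)) := by
      rw [Finset.sum_mul]
      refine Finset.sum_congr rfl fun lam _ => by ring
    rw [this]
    split_ifs with hk
    · rw [sum_hom_quot_mem N hcomm hk]
    · rw [sum_hom_quot_not_mem N hcomm hk, zero_mul]
  simp only [h1]
  rw [← Cfsg.Agent.S0868.sum_subtype_eq_sum_ite N (fun k => (N.index : ℂ) * (ϑ k * conj (ϑ k)))]
  rw [← Finset.mul_sum, ← mul_assoc]
  congr 1
  have hN0 : (Nat.card N : ℂ) ≠ 0 := Nat.cast_ne_zero.mpr Nat.card_pos.ne'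
  have hi0 : (N.index : ℂ) ≠ 0 := Nat.cast_ne_zero.mpr N.index_ne_zero_of_finite
  have hK : (Nat.card K : ℂ) = (N.index : ℂ) * (Nat.card N : ℂ) := by
    rw [← N.index_mul_card]; push_cast; ring
  rw [hK]; field_simp

theorem exists_twist_fix (hcomm : ∀ a b : K ⧸ N, a * b = b * a)
    (ϑ : K → ℂ) (hϑ : IsIrrCharacter K ϑ) (φ : N → ℂ) (hφ : IsIrrCharacter N φ) (e : ℕ)
    (hres : (fun n : N => ϑ n) = (e : ℂ) • φ) (he : e ≠ 1) :
    ∃ lam : (K ⧸ N) →* ℂˣ, lam ≠ 1 ∧
      ∀ k : K, ((lam (QuotientGroup.mk k) : ℂˣ) : ℂ) * ϑ k = ϑ k := by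
  classical
  have : Finite ((K ⧸ N) →* ℂˣ) := Cfsg.Agent.Lib.Helper4.finite_monoidHom_units' hcomm
  have : Fintype ((K ⧸ N) →* ℂˣ) := Fintype.ofFinite _
  by_contra hcon
  push Not at hcon
  have hsum := sum_twist_inner N hcomm ϑ
  have h1 : ∀ lam : (K ⧸ N) →* ℂˣ, lam ≠ 1 →
      classInner (fun k => ((lam (QuotientGroup.mk k) : ℂˣ) : ℂ) * ϑ k) ϑ = 0 := by
    intro lam hl
    have hirr : IsIrrCharacter K (fun k => ((lam (QuotientGroup.mk k) : ℂˣ) : ℂ) * ϑ k) :=
      isIrr_twist (lam.comp (QuotientGroup.mk' N)) ϑ hϑ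
    have := classInner_irr hirr hϑ
    rw [if_neg] at this
    · exact this
    · intro heq
      obtain ⟨k, hk⟩ := hcon lam hl
      exact hk (congrFun heq k)
  rw [Finset.sum_eq_single (1 : (K ⧸ N) →* ℂˣ) (fun lam _ hl => h1 lam hl)
    (fun h => absurd (Finset.mem_univ _) h)] at hsum
  have h2 : classInner
      (fun k => (((1 : (K ⧸ N) →* ℂˣ) (QuotientGroup.mk k) : ℂˣ) : ℂ) * ϑ k) ϑ = 1 := by
    have : (fun k => (((1 : (K ⧸ N) →* ℂˣ) (QuotientGroup.mk k) : ℂˣ) : ℂ) * ϑ k) = ϑ := by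
      funext k; simp
    rw [this, classInner_irr hϑ hϑ, if_pos rfl]
  rw [h2, hres, classInner_smul_left, classInner_smul_right, classInner_irr hφ hφ, if_pos rfl]
    at hsum
  have h3 : (e : ℂ) * e = 1 := by
    rw [hsum]; simp
  have h4 : e * e = 1 := by exact_mod_cast h3
  exact he (Nat.eq_one_of_mul_eq_one_left h4)

theorem norm_restrict_le (ϑ : K → ℂ) (hϑ : IsIrrCharacter K ϑ) (m : ℕ)
    (hm : classInner (fun n : N => ϑ n) (fun n : N => ϑ n) = m) : m ≤ N.index := by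
  classical
  have h1 := Cfsg.Agent.S0900.sum_norm_irr ϑ hϑ
  have hre : ∀ z : ℂ, z * conj z = ((Complex.normSq z : ℝ) : ℂ) := fun z => Complex.mul_conj z
  have h2 : ∑ n : N, Complex.normSq (ϑ n) ≤ ∑ g : K, Complex.normSq (ϑ g) := by
    rw [Cfsg.Agent.S0868.sum_subtype_eq_sum_ite N (fun g => Complex.normSq (ϑ g))]
    refine Finset.sum_le_sum fun g _ => ?_
    split_ifs
    · exact le_refl _
    · exact Complex.normSq_nonneg _
  have h3 : (∑ g : K, Complex.normSq (ϑ g) : ℝ) = Nat.card K := by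
    have : ((∑ g : K, Complex.normSq (ϑ g) : ℝ) : ℂ) = (Nat.card K : ℂ) := by
      rw [← h1]; push_cast; refine Finset.sum_congr rfl fun g _ => (hre _).symm
    exact_mod_cast this
  have hN0 : (Nat.card N : ℂ) ≠ 0 := Nat.cast_ne_zero.mpr Nat.card_pos.ne'
  have h4 : (∑ n : N, Complex.normSq (ϑ n) : ℝ) = m * Nat.card N := by
    unfold classInner at hm
    have : ((∑ n : N, Complex.normSq (ϑ n) : ℝ) : ℂ) = (m : ℂ) * (Nat.card N : ℂ) := by
      rw [← hm]; push_cast; simp only [← hre]; field_simp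
    exact_mod_cast this
  rw [h3, h4] at h2
  have h5 : m * Nat.card N ≤ Nat.card K := by exact_mod_cast h2
  rw [← N.index_mul_card] at h5
  exact Nat.le_of_mul_le_mul_right h5 Nat.card_pos

end Dual

section Main
variable {G : Type*} [Group G] [Fintype G] (K L : Subgroup G) [hK : K.Normal] [hL : L.Normal]

/-- if a nontrivial linear character of `K/L` fixes the invariant `ϑ`, then `ϑ` vanishes off `L` -/
theorem vanish_of_twist_fix (hLK : L ≤ K)
    (hchief : ∀ M : Subgroup G, M.Normal → L ≤ M → M ≤ K → M = L ∨ M = K)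
    (ϑ : K → ℂ)
    (hinv : ∀ (g : G) (n : K), ϑ ⟨g * n * g⁻¹, hK.conj_mem (n : G) n.2 g⟩ = ϑ n)
    (mu : K →* ℂˣ) (hmuL : ∀ x : K, (x : G) ∈ L → mu x = 1) (hmu1 : mu ≠ 1)
    (hfix : ∀ k : K, ((mu k : ℂˣ) : ℂ) * ϑ k = ϑ k) :
    ∀ k : K, (k : G) ∉ L → ϑ k = 0 := by
  classical
  let U : Subgroup G :=
    { carrier := {x | ∃ hx : x ∈ K, ∀ g : G, mu ⟨g * x * g⁻¹, hK.conj_mem x hx g⟩ = 1}
      one_mem' := ⟨K.one_mem, fun g => by
        have : (⟨g * 1 * g⁻¹, hK.conj_mem 1 K.one_mem g⟩ : K) = 1 := Subtype.ext (by simp)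
        rw [this, map_one]⟩
      mul_mem' := by
        rintro x y ⟨hx, hx'⟩ ⟨hy, hy'⟩
        refine ⟨K.mul_mem hx hy, fun g => ?_⟩
        have : (⟨g * (x * y) * g⁻¹, hK.conj_mem _ (K.mul_mem hx hy) g⟩ : K) =
            ⟨g * x * g⁻¹, hK.conj_mem x hx g⟩ * ⟨g * y * g⁻¹, hK.conj_mem y hy g⟩ :=
          Subtype.ext (by simp only [Subgroup.coe_mul]; group)
        rw [this, map_mul, hx' g, hy' g, one_mul]
      inv_mem' := by
        rintro x ⟨hx, hx'⟩
        refine ⟨K.inv_mem hx, fun g => ?_⟩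
        have : (⟨g * x⁻¹ * g⁻¹, hK.conj_mem _ (K.inv_mem hx) g⟩ : K) =
            (⟨g * x * g⁻¹, hK.conj_mem x hx g⟩ : K)⁻¹ :=
          Subtype.ext (by simp only [Subgroup.coe_inv]; group)
        rw [this, map_inv, hx' g, inv_one] }
  have hUmem : ∀ x : G, x ∈ U ↔
      ∃ hx : x ∈ K, ∀ g : G, mu ⟨g * x * g⁻¹, hK.conj_mem x hx g⟩ = 1 := fun x => Iff.rfl
  have hUn : U.Normal := by
    constructor
    intro x hx h
    obtain ⟨hxK, hx'⟩ := (hUmem x).mp hx
    refine (hUmem _).mpr ⟨hK.conj_mem x hxK h, fun g => ?_⟩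
    have : (⟨g * (h * x * h⁻¹) * g⁻¹, hK.conj_mem _ (hK.conj_mem x hxK h) g⟩ : K) =
        ⟨(g * h) * x * (g * h)⁻¹, hK.conj_mem x hxK (g * h)⟩ := Subtype.ext (by group)
    rw [this]
    exact hx' (g * h)
  have hLU : L ≤ U := by
    intro x hx
    refine (hUmem x).mpr ⟨hLK hx, fun g => ?_⟩
    exact hmuL _ (hL.conj_mem x hx g)
  have hUK : U ≤ K := fun x hx => ((hUmem x).mp hx).1
  have hUne : U ≠ K := by
    intro hUK'
    apply hmu1
    ext k
    have hk : (k : G) ∈ U := by rw [hUK']; exact k.2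
    obtain ⟨hkK, hk'⟩ := (hUmem _).mp hk
    have h1 := hk' 1
    have : (⟨1 * (k : G) * 1⁻¹, hK.conj_mem (k : G) hkK 1⟩ : K) = k := Subtype.ext (by simp)
    rw [this] at h1
    rw [h1]; simp
  have hUL : U = L := by
    rcases hchief U hUn hLU hUK with h | h
    · exact h
    · exact absurd h hUne
  intro k hk
  rw [← hUL] at hk
  have hk2 : ¬ ∀ g : G, mu ⟨g * (k : G) * g⁻¹, hK.conj_mem (k : G) k.2 g⟩ = 1 := by
    intro h
    exact hk ((hUmem _).mpr ⟨k.2, h⟩)
  push Not at hk2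
  obtain ⟨g, hg⟩ := hk2
  have h1 := hfix ⟨g * (k : G) * g⁻¹, hK.conj_mem (k : G) k.2 g⟩
  rw [hinv g k] at h1
  have h2 : (((mu ⟨g * (k : G) * g⁻¹, hK.conj_mem (k : G) k.2 g⟩ : ℂˣ) : ℂ) - 1) * ϑ k = 0 := by
    rw [sub_mul, one_mul, h1, sub_self]
  rcases mul_eq_zero.mp h2 with h3 | h3
  · exfalso
    apply hg
    apply Units.ext
    rw [sub_eq_zero] at h3
    simpa using h3
  · exact h3

theorem core (hLK : L ≤ K)
    (hchief : ∀ M : Subgroup G, M.Normal → L ≤ M → M ≤ K → M = L ∨ M = K)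
    (hab : ⁅K, K⁆ ≤ L) (ϑ : K → ℂ) (hϑ : IsIrrCharacter K ϑ)
    (hinv : ∀ (g : G) (n : K), ϑ ⟨g * n * g⁻¹, hK.conj_mem (n : G) n.2 g⟩ = ϑ n) :
    IsIrrCharacter (L.subgroupOf K) (fun x : L.subgroupOf K => ϑ x) ∨
    (∃ (φ : L.subgroupOf K → ℂ) (e : ℕ), IsIrrCharacter (L.subgroupOf K) φ ∧
      (fun x : L.subgroupOf K => ϑ x) = (e : ℂ) • φ ∧ e ^ 2 = (L.subgroupOf K).index) ∨
    (∃ F : Finset (L.subgroupOf K → ℂ), (∀ φ ∈ F, IsIrrCharacter (L.subgroupOf K) φ) ∧
      F.card = (L.subgroupOf K).index ∧ (fun x : L.subgroupOf K => ϑ x) = ∑ φ ∈ F, φ) := by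
  classical
  haveI hN'n : (L.subgroupOf K).Normal := Subgroup.normal_subgroupOf
  haveI : Fintype (L.subgroupOf K) := Fintype.ofFinite _
  have hϑc := isCharacter_of_isIrrCharacter hϑ
  have hresc : IsCharacter (L.subgroupOf K) (fun x : L.subgroupOf K => ϑ x) :=
    isCharacter_comp_hom hϑc (L.subgroupOf K).subtype
  obtain ⟨d, hd, hd1⟩ := irr_degree hϑ
  have hres1 : (fun x : L.subgroupOf K => ϑ x) 1 ≠ 0 := by
    show ϑ ((1 : L.subgroupOf K) : K) ≠ 0
    rw [Subgroup.coe_one, hd1]; exact_mod_cast hd.ne'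
  obtain ⟨μ, hμ⟩ := exists_constituent hresc hres1
  obtain ⟨φ, hφ⟩ := μ
  simp only at hμ
  have hφc := isCharacter_of_isIrrCharacter hφ
  have hφcf := isClassFunction_of_isCharacter hφc
  have hcl := clifford_restrict (L.subgroupOf K) hϑ hφ hμ
  obtain ⟨e, he⟩ := classInner_isCharacter_nat hresc hφc
  have he0 : e ≠ 0 := by
    rintro rfl
    exact hμ (by simpa using he)
  -- inertia group
  have hmemT : ∀ k : K, k ∈ Cfsg.Agent.S0169.inertia (L.subgroupOf K) φ ↔
      ∀ n : L.subgroupOf K, φ ⟨k * n * k⁻¹, hN'n.conj_mem (n : K) n.2 k⟩ = φ n :=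
    Cfsg.Agent.S0169.mem_inertia (L.subgroupOf K) φ
  have hN'T : L.subgroupOf K ≤ Cfsg.Agent.S0169.inertia (L.subgroupOf K) φ :=
    Cfsg.Agent.S0169.le_inertia (L.subgroupOf K) φ hφcf
  have hcommK : ∀ a b : K, a * b * a⁻¹ * b⁻¹ ∈ L.subgroupOf K := by
    intro a b
    show ((a * b * a⁻¹ * b⁻¹ : K) : G) ∈ L
    apply hab
    have h := Subgroup.commutator_mem_commutator a.2 b.2
    rw [commutatorElement_def] at h
    simpa using h
  have hT'n : ∀ (k : K) (t : K), t ∈ Cfsg.Agent.S0169.inertia (L.subgroupOf K) φ →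
      k * t * k⁻¹ ∈ Cfsg.Agent.S0169.inertia (L.subgroupOf K) φ := by
    intro k t ht
    have : k * t * k⁻¹ = (k * t * k⁻¹ * t⁻¹) * t := by group
    rw [this]
    exact Subgroup.mul_mem _ (hN'T (hcommK k t)) ht
  -- conjugation by G on the subgroup
  let eL : L.subgroupOf K ≃* L := Subgroup.subgroupOfEquivOfLe hLK
  let β : G → (L.subgroupOf K ≃* L.subgroupOf K) :=
    fun g => eL.trans ((MulAut.conjNormal g : L ≃* L).trans eL.symm)
  have hβ : ∀ (g : G) (n : L.subgroupOf K),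
      (((β g n : L.subgroupOf K) : K) : G) = g * ((n : K) : G) * g⁻¹ := by
    intro g n
    simp [β, eL, MulAut.conjNormal_apply]
  have hconjG : ∀ g : G, ∃ k : K, (φ ∘ β g) = conjFunN (L.subgroupOf K) φ k := by
    intro g
    by_contra hcon
    push Not at hcon
    have hirr : IsIrrCharacter (L.subgroupOf K) (φ ∘ β g) := isIrrCharacter_comp_mulEquiv hφ (β g)
    have h0 := classInner_restrict_eq_zero (L.subgroupOf K) hϑ hφ hirr hμ hcon
    have hkey : classInner (ϑ ∘ (L.subgroupOf K).subtype) (φ ∘ β g) =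
        classInner (ϑ ∘ (L.subgroupOf K).subtype) φ := by
      unfold classInner
      congr 1
      refine Fintype.sum_equiv (β g).toEquiv _ _ (fun n => ?_)
      have h1 : ϑ ((β g n : L.subgroupOf K) : K) = ϑ (n : K) := by
        rw [← hinv g (n : K)]
        congr 1
      show ϑ (n : K) * conj (φ (β g n)) = ϑ ((β g n : L.subgroupOf K) : K) * conj (φ (β g n))
      rw [h1]
    rw [hkey] at h0
    exact hμ h0
  have hTG : ∀ (g : G) (t : K), t ∈ Cfsg.Agent.S0169.inertia (L.subgroupOf K) φ →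
      (⟨g * t * g⁻¹, hK.conj_mem (t : G) t.2 g⟩ : K) ∈
        Cfsg.Agent.S0169.inertia (L.subgroupOf K) φ := by
    intro g t ht
    rw [hmemT]
    intro n
    obtain ⟨k, hk⟩ := hconjG g
    obtain ⟨m, rfl⟩ := (β g).surjective n
    have h1 : (⟨(⟨g * t * g⁻¹, hK.conj_mem (t : G) t.2 g⟩ : K) * ((β g m : L.subgroupOf K) : K) *
          (⟨g * t * g⁻¹, hK.conj_mem (t : G) t.2 g⟩ : K)⁻¹,
          hN'n.conj_mem _ (β g m).2 _⟩ : L.subgroupOf K) =
        β g ⟨t * m * t⁻¹, hN'n.conj_mem (m : K) m.2 t⟩ := by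
      apply Subtype.ext; apply Subtype.ext
      rw [hβ]
      simp only [Subgroup.coe_mul, Subgroup.coe_inv]
      rw [hβ]
      group
    rw [h1]
    have h2 : ∀ x : L.subgroupOf K,
        φ (β g x) = φ ⟨k * x * k⁻¹, hN'n.conj_mem (x : K) x.2 k⟩ := fun x => congrFun hk x
    rw [h2, h2]
    have ht1 := hT'n k t ht
    have h3 := (hmemT _).mp ht1 ⟨k * m * k⁻¹, hN'n.conj_mem (m : K) m.2 k⟩
    rw [← h3]
    congr 1
    apply Subtype.ext
    simp only [Subgroup.coe_mul, Subgroup.coe_inv]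
    group
  -- the image of the inertia group in `G`
  have hMn : ((Cfsg.Agent.S0169.inertia (L.subgroupOf K) φ).map K.subtype).Normal := by
    constructor
    intro x hx g
    obtain ⟨t, ht, rfl⟩ := Subgroup.mem_map.mp hx
    exact Subgroup.mem_map.mpr ⟨⟨g * t * g⁻¹, hK.conj_mem (t : G) t.2 g⟩, hTG g t ht, rfl⟩
  have hLM : L ≤ (Cfsg.Agent.S0169.inertia (L.subgroupOf K) φ).map K.subtype := by
    intro x hx
    refine Subgroup.mem_map.mpr ⟨⟨x, hLK hx⟩, hN'T ?_, rfl⟩
    exact hx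
  have hMK : (Cfsg.Agent.S0169.inertia (L.subgroupOf K) φ).map K.subtype ≤ K :=
    Subgroup.map_subtype_le _
  have hres : (fun x : L.subgroupOf K => ϑ x) =
      (e : ℂ) • ∑ ψ ∈ Finset.univ.image (conjFunN (L.subgroupOf K) φ), ψ := by
    rw [← he]; exact hcl
  rcases hchief _ hMn hLM hMK with hM | hM
  · -- inertia group is `L`: the conjugates are all distinct
    right; right
    have hTN : ∀ t : K, t ∈ Cfsg.Agent.S0169.inertia (L.subgroupOf K) φ →
        t ∈ L.subgroupOf K := by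
      intro t ht
      have : (t : G) ∈ (Cfsg.Agent.S0169.inertia (L.subgroupOf K) φ).map K.subtype :=
        Subgroup.mem_map.mpr ⟨t, ht, rfl⟩
      rw [hM] at this
      exact this
    have hTeq : Cfsg.Agent.S0169.inertia (L.subgroupOf K) φ = L.subgroupOf K :=
      le_antisymm hTN hN'T
    have hFirr : ∀ ψ ∈ Finset.univ.image (conjFunN (L.subgroupOf K) φ),
        IsIrrCharacter (L.subgroupOf K) ψ := by
      intro ψ hψ
      obtain ⟨k, -, rfl⟩ := Finset.mem_image.mp hψ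
      exact isIrrCharacter_conjFunN (L.subgroupOf K) hφ k
    have hFcard : (Finset.univ.image (conjFunN (L.subgroupOf K) φ)).card =
        (L.subgroupOf K).index := by
      rw [card_conj_image (L.subgroupOf K) φ _ hmemT, hTeq]
    have hnorm : classInner (fun x : L.subgroupOf K => ϑ x) (fun x : L.subgroupOf K => ϑ x) =
        ((e * e * (Finset.univ.image (conjFunN (L.subgroupOf K) φ)).card : ℕ) : ℂ) := by
      rw [hres, classInner_smul_left, classInner_smul_right, norm_sum_distinct _ hFirr]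
      push_cast
      simp only [Complex.conj_natCast]
      ring
    have hle := norm_restrict_le (L.subgroupOf K) ϑ hϑ _ hnorm
    rw [hFcard] at hle
    have hidx : 0 < (L.subgroupOf K).index :=
      Nat.pos_of_ne_zero (L.subgroupOf K).index_ne_zero_of_finite
    have he1 : e = 1 := by
      have h1 : e * e ≤ 1 := by
        by_contra h
        push Not at h
        have : 2 * (L.subgroupOf K).index ≤ e * e * (L.subgroupOf K).index :=
          Nat.mul_le_mul_right _ h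
        omega
      have h2 : 0 < e := Nat.pos_of_ne_zero he0
      nlinarith
    refine ⟨_, hFirr, hFcard, ?_⟩
    rw [hres, he1]
    simp
  · -- `φ` is invariant in `K`
    have hTtop : ∀ k : K, k ∈ Cfsg.Agent.S0169.inertia (L.subgroupOf K) φ := by
      intro k
      have : (k : G) ∈ (Cfsg.Agent.S0169.inertia (L.subgroupOf K) φ).map K.subtype := by
        rw [hM]; exact k.2
      obtain ⟨t, ht, htk⟩ := Subgroup.mem_map.mp this
      have : t = k := Subtype.ext htk
      rwa [← this]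
    have hFone : Finset.univ.image (conjFunN (L.subgroupOf K) φ) = {φ} := by
      ext ψ
      simp only [Finset.mem_image, Finset.mem_univ, true_and, Finset.mem_singleton]
      constructor
      · rintro ⟨k, rfl⟩
        funext n
        exact (hmemT k).mp (hTtop k) n
      · rintro rfl
        exact ⟨1, by funext n; exact (hmemT 1).mp (hTtop 1) n⟩
    rw [hFone, Finset.sum_singleton] at hres
    by_cases he1 : e = 1
    · left
      rw [hres, he1]
      simpa using hφ
    · right; left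
      refine ⟨φ, e, hφ, hres, ?_⟩
      have hcommQ : ∀ a b : K ⧸ L.subgroupOf K, a * b = b * a := by
        intro a b
        induction a using QuotientGroup.induction_on with
        | H a =>
          induction b using QuotientGroup.induction_on with
          | H b =>
            rw [← QuotientGroup.mk_mul, ← QuotientGroup.mk_mul, QuotientGroup.eq]
            have := hcommK b⁻¹ a⁻¹
            convert this using 1
            group
      obtain ⟨lam, hlam1, hlam⟩ :=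
        exists_twist_fix (L.subgroupOf K) hcommQ ϑ hϑ φ hφ e hres he1
      have hvan : ∀ k : K, k ∉ L.subgroupOf K → ϑ k = 0 := by
        intro k hk
        refine vanish_of_twist_fix K L hLK hchief ϑ hinv
          (lam.comp (QuotientGroup.mk' (L.subgroupOf K))) ?_ ?_ hlam k hk
        · intro x hx
          have : x ∈ L.subgroupOf K := hx
          rw [MonoidHom.comp_apply, QuotientGroup.mk'_apply,
            (QuotientGroup.eq_one_iff x).mpr this, map_one]
        · intro h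
          apply hlam1
          ext a
          have := congrArg (fun f : K →* ℂˣ => ((f a : ℂˣ) : ℂ)) h
          simpa using this
      exact (Cfsg.Agent.S0900.norm_split (L.subgroupOf K) ϑ hϑ φ hφ e hres).mpr hvan

end Main

/-- Let L < K be normal subgroups of the finite group G with no normal subgroup of G strictly between them and with K / L abelian (the commutator subgroup of K lies in L). Let ϑ be an irreducible character of K invariant under conjugation by G. Then the restriction of ϑ to L is irreducible; or it equals e times an irreducible character of L with e ^ 2 equal to the index of L in K; or it is the sum of a family of pairwise distinct irreducible characters of L indexed by a set whose size is the index of L in K. -/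
theorem result {G : Type*} [Group G] [Fintype G] (K L : Subgroup G) [hK : K.Normal] [L.Normal] (hLK : L < K) (hchief : ∀ M : Subgroup G, M.Normal → L ≤ M → M ≤ K → M = L ∨ M = K) (hab : ⁅K, K⁆ ≤ L) (ϑ : K → ℂ) (hϑ : Cfsg.IsIrrCharacter K ϑ) (hinv : ∀ (g : G) (n : K), ϑ ⟨g * n * g⁻¹, hK.conj_mem (n : G) n.2 g⟩ = ϑ n) : Cfsg.IsIrrCharacter L (fun x : L => ϑ ⟨(x : G), hLK.le x.2⟩) ∨ (∃ (φ : L → ℂ) (e : ℕ), Cfsg.IsIrrCharacter L φ ∧ (fun x : L => ϑ ⟨(x : G), hLK.le x.2⟩) = (e : ℂ) • φ ∧ e ^ 2 = L.relIndex K) ∨ (∃ F : Finset (L → ℂ), (∀ φ ∈ F, Cfsg.IsIrrCharacter L φ) ∧ F.card = L.relIndex K ∧ (fun x : L => ϑ ⟨(x : G), hLK.le x.2⟩) = ∑ φ ∈ F, φ) := by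
  classical
  have hLKle : L ≤ K := hLK.le
  let eL : L.subgroupOf K ≃* L := Subgroup.subgroupOfEquivOfLe hLKle
  have htgt : (fun x : L => ϑ ⟨(x : G), hLK.le x.2⟩) =
      (fun x : L.subgroupOf K => ϑ x) ∘ eL.symm := by
    funext x
    show ϑ ⟨(x : G), hLK.le x.2⟩ = ϑ ((eL.symm x : L.subgroupOf K) : K)
    congr 1
  rcases core K L hLKle hchief hab ϑ hϑ hinv with h | ⟨φ, e, hφ, hres, he⟩ | ⟨F, hF, hcard, hres⟩
  · left
    rw [htgt]
    exact isIrrCharacter_comp_mulEquiv h eL.symm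
  · right; left
    refine ⟨φ ∘ eL.symm, e, isIrrCharacter_comp_mulEquiv hφ eL.symm, ?_, he⟩
    rw [htgt, hres]
    rfl
  · right; right
    have hinj : Function.Injective (fun ψ : L.subgroupOf K → ℂ => ψ ∘ eL.symm) := by
      intro ψ ψ' h
      funext x
      have := congrFun h (eL x)
      simpa using this
    refine ⟨F.image (fun ψ : L.subgroupOf K → ℂ => ψ ∘ eL.symm), ?_, ?_, ?_⟩
    · intro ψ hψ
      obtain ⟨ψ', hψ', rfl⟩ := Finset.mem_image.mp hψ
      exact isIrrCharacter_comp_mulEquiv (hF ψ' hψ') eL.symm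
    · rw [Finset.card_image_of_injective _ hinj, hcard]
      rfl
    · rw [htgt, hres, Finset.sum_image (fun a _ b _ h => hinj h)]
      funext x
      simp only [Function.comp_apply, Finset.sum_apply]

end Cfsg.Agent.S0857
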