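import Cfsg.Statements.S1490
import Cfsg.Agent.S0857
import Cfsg.Agent.S0854

set_option autoImplicit false
open Cfsg

namespace Cfsg.Agent.S1490

open Cfsg.Agent.Lib.Helper26 Cfsg.Agent.Lib.Helper2 Cfsg.Agent.Lib.Helper7
open scoped ComplexConjugate

section TLevel
variable {K : Type*} [Group K] [Fintype K] (N : Subgroup K) [hN : N.Normal] [Fintype N]

theorem sum_twist_inner2 (hcomm : ∀ a b : K ⧸ N, a * b = b * a) [Fintype ((K ⧸ N) →* ℂˣ)]
    (ϑ ϑ' : K → ℂ) :
    ∑ lam : (K ⧸ N) →* ℂˣ,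
        classInner (fun k => ((lam (QuotientGroup.mk k) : ℂˣ) : ℂ) * ϑ k) ϑ' =
      classInner (fun n : N => ϑ n) (fun n : N => ϑ' n) := by
  classical
  unfold classInner
  rw [← Finset.mul_sum, Finset.sum_comm]
  have h1 : ∀ k : K, ∑ lam : (K ⧸ N) →* ℂˣ,
      ((lam (QuotientGroup.mk k) : ℂˣ) : ℂ) * ϑ k * conj (ϑ' k) =
      if k ∈ N then (N.index : ℂ) * (ϑ k * conj (ϑ' k)) else 0 := by
    intro k
    have : ∑ lam : (K ⧸ N) →* ℂˣ, ((lam (QuotientGroup.mk k) : ℂˣ) : ℂ) * ϑ k * conj (ϑ' k) =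
        (∑ lam : (K ⧸ N) →* ℂˣ, ((lam (QuotientGroup.mk k) : ℂˣ) : ℂ)) * (ϑ k * conj (ϑ' k)) := by
      rw [Finset.sum_mul]
      refine Finset.sum_congr rfl fun lam _ => by ring
    rw [this]
    split_ifs with hk
    · rw [Cfsg.Agent.S0857.sum_hom_quot_mem N hcomm hk]
    · rw [Cfsg.Agent.S0857.sum_hom_quot_not_mem N hcomm hk, zero_mul]
  simp only [h1]
  rw [← Cfsg.Agent.S0868.sum_subtype_eq_sum_ite N (fun k => (N.index : ℂ) * (ϑ k * conj (ϑ' k)))]
  rw [← Finset.mul_sum, ← mul_assoc]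
  congr 1
  have hN0 : (Nat.card N : ℂ) ≠ 0 := Nat.cast_ne_zero.mpr Nat.card_pos.ne'
  have hi0 : (N.index : ℂ) ≠ 0 := Nat.cast_ne_zero.mpr N.index_ne_zero_of_finite
  have hK : (Nat.card K : ℂ) = (N.index : ℂ) * (Nat.card N : ℂ) := by
    rw [← N.index_mul_card]; push_cast; ring
  rw [hK]; field_simp

/-- over an invariant character with abelian quotient, all ramification indices agree -/
theorem same_ram (hcomm : ∀ a b : K ⧸ N, a * b = b * a) (θ : N → ℂ) (hθ : IsIrrCharacter N θ)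
    (ψ ψ' : K → ℂ) (hψ : IsIrrCharacter K ψ) (hψ' : IsIrrCharacter K ψ') (f f' : ℕ)
    (hf : f ≠ 0) (hf' : f' ≠ 0)
    (hr : (fun n : N => ψ n) = (f : ℂ) • θ) (hr' : (fun n : N => ψ' n) = (f' : ℂ) • θ) :
    f = f' := by
  classical
  have : Finite ((K ⧸ N) →* ℂˣ) := Cfsg.Agent.Lib.Helper4.finite_monoidHom_units' hcomm
  have : Fintype ((K ⧸ N) →* ℂˣ) := Fintype.ofFinite _
  have hsum := sum_twist_inner2 N hcomm ψ ψ'
  rw [hr, hr', classInner_smul_left, classInner_smul_right, classInner_irr hθ hθ, if_pos rfl]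
    at hsum
  have hne : ∑ lam : (K ⧸ N) →* ℂˣ,
      classInner (fun k => ((lam (QuotientGroup.mk k) : ℂˣ) : ℂ) * ψ k) ψ' ≠ 0 := by
    rw [hsum]
    simp only [Complex.conj_natCast, mul_one]
    exact mul_ne_zero (Nat.cast_ne_zero.mpr hf) (Nat.cast_ne_zero.mpr hf')
  obtain ⟨lam, -, hlam⟩ := Finset.exists_ne_zero_of_sum_ne_zero hne
  have hirr : IsIrrCharacter K (fun k => ((lam (QuotientGroup.mk k) : ℂˣ) : ℂ) * ψ k) :=
    Cfsg.Agent.S0857.isIrr_twist (lam.comp (QuotientGroup.mk' N)) ψ hψ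
  have heq : (fun k => ((lam (QuotientGroup.mk k) : ℂˣ) : ℂ) * ψ k) = ψ' := by
    by_contra hne'
    rw [classInner_irr hirr hψ', if_neg hne'] at hlam
    exact hlam rfl
  obtain ⟨d, hd, hd1⟩ := irr_degree hθ
  have h1 := congrFun hr 1
  have h2 := congrFun hr' 1
  have h3 := congrFun heq 1
  simp only [Pi.smul_apply, smul_eq_mul, hd1] at h1 h2
  simp only [QuotientGroup.mk_one, map_one, Units.val_one, one_mul] at h3
  have h4 : ψ ((1 : N) : K) = ψ 1 := rfl
  have h5 : ψ' ((1 : N) : K) = ψ' 1 := rfl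
  rw [h4] at h1
  rw [h5] at h2
  rw [h3, h2] at h1
  have hd0 : (d : ℂ) ≠ 0 := Nat.cast_ne_zero.mpr hd.ne'
  have := mul_right_cancel₀ hd0 h1
  exact_mod_cast this.symm

end TLevel

section GLevel
variable {G : Type*} [Group G] [Fintype G] (H T : Subgroup G) [hN : H.Normal] [Fintype H]
  [Fintype T]

theorem ram_const (hHT : H ≤ T) (θ : H → ℂ) (hθ : IsIrrCharacter H θ)
    (hT : ∀ g : G, g ∈ T ↔ ∀ h : H, θ ⟨g * h * g⁻¹, hN.conj_mem h h.2 g⟩ = θ h)
    (hab : ∀ x ∈ T, ∀ y ∈ T, x * y * x⁻¹ * y⁻¹ ∈ H)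
    (ψ ψ' : T → ℂ) (hψ : IsIrrCharacter T ψ) (hψ' : IsIrrCharacter T ψ')
    (hcon : classInner (fun n : H => ψ ⟨(n : G), hHT n.2⟩) θ ≠ 0)
    (hcon' : classInner (fun n : H => ψ' ⟨(n : G), hHT n.2⟩) θ ≠ 0) :
    ∃ f : ℕ, f ≠ 0 ∧ (fun n : H => ψ ⟨(n : G), hHT n.2⟩) = (f : ℂ) • θ ∧
      (fun n : H => ψ' ⟨(n : G), hHT n.2⟩) = (f : ℂ) • θ := by
  classical
  have hinvT : ∀ t ∈ T, ∀ n : H, θ ⟨t * n * t⁻¹, hN.conj_mem (n : G) n.2 t⟩ = θ n :=
    fun t ht => (hT t).mp ht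
  obtain ⟨f, hf0, hf⟩ := restrict_inertia H T hHT θ hθ hinvT ψ hψ hcon
  obtain ⟨f', hf0', hf'⟩ := restrict_inertia H T hHT θ hθ hinvT ψ' hψ' hcon'
  haveI hH'n : (H.subgroupOf T).Normal := Subgroup.normal_subgroupOf
  haveI : Fintype (H.subgroupOf T) := Fintype.ofFinite _
  let eH : H.subgroupOf T ≃* H := Subgroup.subgroupOfEquivOfLe hHT
  have hθ' : IsIrrCharacter (H.subgroupOf T) (θ ∘ eH) := isIrrCharacter_comp_mulEquiv hθ eH
  have hcommQ : ∀ a b : T ⧸ H.subgroupOf T, a * b = b * a := by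
    intro a b
    induction a using QuotientGroup.induction_on with
    | H a =>
      induction b using QuotientGroup.induction_on with
      | H b =>
        rw [← QuotientGroup.mk_mul, ← QuotientGroup.mk_mul, QuotientGroup.eq]
        have h1 := hab _ (T.inv_mem b.2) _ (T.inv_mem a.2)
        show (((a * b)⁻¹ * (b * a) : T) : G) ∈ H
        have h2 : (((a * b)⁻¹ * (b * a) : T) : G) = (b : G)⁻¹ * (a : G)⁻¹ * (b : G)⁻¹⁻¹ * (a : G)⁻¹⁻¹ := by
          simp only [Subgroup.coe_mul, Subgroup.coe_inv]; group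
        rw [h2]; exact h1
  have hr : (fun n : H.subgroupOf T => ψ n) = (f : ℂ) • (θ ∘ eH) := by
    funext x
    have := congrFun hf (eH x)
    simp only [Pi.smul_apply, smul_eq_mul, Function.comp_apply] at this ⊢
    rw [← this]
    exact congrArg ψ (Subtype.ext rfl)
  have hr' : (fun n : H.subgroupOf T => ψ' n) = (f' : ℂ) • (θ ∘ eH) := by
    funext x
    have := congrFun hf' (eH x)
    simp only [Pi.smul_apply, smul_eq_mul, Function.comp_apply] at this ⊢
    rw [← this]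
    exact congrArg ψ' (Subtype.ext rfl)
  have := same_ram (H.subgroupOf T) hcommQ (θ ∘ eH) hθ' ψ ψ' hψ hψ' f f' hf0 hf0' hr hr'
  subst this
  exact ⟨f, hf0, hf, hf'⟩

end GLevel

/-- Let H be a normal subgroup of the finite group G, θ an irreducible character of H with inertia group T, and suppose the commutator of any two elements of T lies in H (T/H abelian). Then there are a positive integer e and a finite set C of irreducible characters of G with e ^ 2 * |C| * |H| = |T|, such that the function induced from θ is e times the sum of the members of C and every member of C has degree [G:T] * e * θ(1). -/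
theorem result {G : Type*} [Group G] [Fintype G] (H T : Subgroup G) [hN : H.Normal] (θ : H → ℂ) (hθ : Cfsg.IsIrrCharacter H θ) (hT : ∀ g : G, g ∈ T ↔ ∀ h : H, θ ⟨g * h * g⁻¹, hN.conj_mem h h.2 g⟩ = θ h) (hab : ∀ x ∈ T, ∀ y ∈ T, x * y * x⁻¹ * y⁻¹ ∈ H) : ∃ (e : ℕ) (C : Finset (G → ℂ)), 0 < e ∧ (∀ χ ∈ C, Cfsg.IsIrrCharacter G χ) ∧ e ^ 2 * C.card * Nat.card H = Nat.card T ∧ Cfsg.indFun H θ = (e : ℂ) • ∑ χ ∈ C, χ ∧ ∀ χ ∈ C, χ 1 = (T.index : ℂ) * e * θ 1 := by
  classical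
  haveI : Fintype H := Fintype.ofFinite _
  haveI : Fintype T := Fintype.ofFinite _
  have : Fintype (IrrCharacter G) := Fintype.ofFinite _
  have hθc := isCharacter_of_isIrrCharacter hθ
  have hθcf := isClassFunction_of_isCharacter hθc
  have hHT : H ≤ T := by
    intro h hh
    exact (hT h).mpr ((Cfsg.Agent.S0169.mem_inertia H θ h).mp
      (Cfsg.Agent.S0169.le_inertia H θ hθcf hh))
  obtain ⟨d, hd, hd1⟩ := irr_degree hθ
  have hd0 : (d : ℂ) ≠ 0 := Nat.cast_ne_zero.mpr hd.ne'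
  have hIc : IsCharacter G (indFun H θ) := isCharacter_indFun H hθc
  have hIcf := isClassFunction_of_isCharacter hIc
  have hH0 : (Nat.card H : ℂ) ≠ 0 := Nat.cast_ne_zero.mpr Nat.card_pos.ne'
  have hT0 : (Nat.card T : ℂ) ≠ 0 := Nat.cast_ne_zero.mpr Nat.card_pos.ne'
  have hG0 : (Fintype.card G : ℂ) ≠ 0 := Nat.cast_ne_zero.mpr Fintype.card_pos.ne'
  have hI1 : indFun H θ 1 ≠ 0 := by
    rw [indFun_one, hd1]
    exact mul_ne_zero (inv_ne_zero hH0) (mul_ne_zero hG0 hd0)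
  -- coefficients
  have hm : ∀ μ : IrrCharacter G, ∃ m : ℕ, classInner (indFun H θ) (μ : G → ℂ) = m ∧
      classInner (fun n : H => (μ : G → ℂ) n) θ = m := fun μ =>
    Cfsg.Agent.S0900.ind_coeff H θ hθc μ (isCharacter_of_isIrrCharacter μ.2)
  choose m hm1 hm2 using hm
  obtain ⟨χ₀, hχ₀⟩ := exists_constituent hIc hI1
  have hm0 : m χ₀ ≠ 0 := by
    intro h0
    apply hχ₀
    rw [hm1, h0]; simp
  -- every constituent comes from T with the same ramification
  have hkey : ∀ μ : IrrCharacter G, m μ ≠ 0 →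
      m μ = m χ₀ ∧ (μ : G → ℂ) 1 = (T.index : ℂ) * (m χ₀ : ℂ) * θ 1 := by
    intro μ hμ0
    have hcon : classInner (fun n : H => (μ : G → ℂ) n) θ ≠ 0 := by
      rw [hm2]; exact Nat.cast_ne_zero.mpr hμ0
    have hcon₀ : classInner (fun n : H => (χ₀ : G → ℂ) n) θ ≠ 0 := by
      rw [hm2]; exact Nat.cast_ne_zero.mpr hm0
    obtain ⟨ψ, hψ, hψind, hψe⟩ := Cfsg.Agent.S0854.result H θ hθ T hT hHT μ μ.2 hcon
    obtain ⟨ψ₀, hψ₀, hψ₀ind, hψ₀e⟩ := Cfsg.Agent.S0854.result H θ hθ T hT hHT χ₀ χ₀.2 hcon₀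
    obtain ⟨f, hf0, hf, hf'⟩ := ram_const H T hHT θ hθ hT hab ψ ψ₀ hψ hψ₀
      (by rw [hψe]; exact hcon) (by rw [hψ₀e]; exact hcon₀)
    have h1 : (m μ : ℂ) = f := by
      rw [← hm2, ← hψe, hf, classInner_smul_left, classInner_irr hθ hθ, if_pos rfl, mul_one]
    have h2 : (m χ₀ : ℂ) = f := by
      rw [← hm2, ← hψ₀e, hf', classInner_smul_left, classInner_irr hθ hθ, if_pos rfl, mul_one]
    have h3 : m μ = f := by exact_mod_cast h1
    have h4 : m χ₀ = f := by exact_mod_cast h2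
    refine ⟨by rw [h3, h4], ?_⟩
    rw [← hψind, indFun_one]
    have h5 : ψ 1 = (f : ℂ) * θ 1 := by
      have := congrFun hf 1
      simp only [Pi.smul_apply, smul_eq_mul] at this
      rw [← this]
      rfl
    rw [h5, h4]
    have h6 : (Fintype.card G : ℂ) = (T.index : ℂ) * (Nat.card T : ℂ) := by
      rw [← Nat.card_eq_fintype_card, ← T.index_mul_card]; push_cast; ring
    rw [h6]
    field_simp
  set e := m χ₀ with hedef
  set S : Finset (IrrCharacter G) := Finset.univ.filter (fun μ => m μ ≠ 0) with hSdef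
  have hinjv : Function.Injective (fun μ : IrrCharacter G => (μ : G → ℂ)) := Subtype.val_injective
  have hexp := Cfsg.Agent.Lib.Helper4.classFunction_expansion (indFun H θ) hIcf
  have hind : indFun H θ = (e : ℂ) • ∑ χ ∈ S.image (fun μ : IrrCharacter G => (μ : G → ℂ)), χ := by
    rw [Finset.sum_image (fun a _ b _ h => hinjv h), Finset.smul_sum]
    conv_lhs => rw [hexp]
    rw [hSdef, Finset.sum_filter]
    refine Finset.sum_congr rfl fun μ _ => ?_
    by_cases hμ : m μ = 0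
    · rw [if_neg (by simpa using hμ), hm1, hμ]; simp
    · rw [if_pos hμ, hm1, (hkey μ hμ).1]
  refine ⟨e, S.image (fun μ : IrrCharacter G => (μ : G → ℂ)), Nat.pos_of_ne_zero hm0, ?_, ?_,
    hind, ?_⟩
  · intro χ hχ
    obtain ⟨μ, -, rfl⟩ := Finset.mem_image.mp hχ
    exact μ.2
  · -- counting degrees
    rw [Finset.card_image_of_injective _ hinjv]
    have h1 := congrFun hind 1
    rw [indFun_one, hd1] at h1
    simp only [Pi.smul_apply, Finset.sum_apply, smul_eq_mul] at h1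
    rw [Finset.sum_image (fun a _ b _ h => hinjv h)] at h1
    have h2 : ∑ μ ∈ S, (μ : G → ℂ) 1 = (S.card : ℂ) * ((T.index : ℂ) * (e : ℂ) * (d : ℂ)) := by
      rw [Finset.sum_congr rfl (fun μ hμ => (hkey μ (Finset.mem_filter.mp hμ).2).2), hd1,
        Finset.sum_const, nsmul_eq_mul]
    have h6 : (Fintype.card G : ℂ) = (T.index : ℂ) * (Nat.card T : ℂ) := by
      rw [← Nat.card_eq_fintype_card, ← T.index_mul_card]; push_cast; ring
    have hTi : (T.index : ℂ) ≠ 0 := Nat.cast_ne_zero.mpr T.index_ne_zero_of_finite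
    rw [h2, h6] at h1
    have h7 : ((e ^ 2 * S.card * Nat.card H : ℕ) : ℂ) = (Nat.card T : ℂ) := by
      push_cast
      have h8 : (T.index : ℂ) * (d : ℂ) * (Nat.card T : ℂ) =
          (T.index : ℂ) * (d : ℂ) * ((e : ℂ) ^ 2 * (S.card : ℂ) * (Nat.card H : ℂ)) := by
        have h9 := congrArg (fun z => (Nat.card H : ℂ) * z) h1
        rw [← mul_assoc, mul_inv_cancel₀ hH0, one_mul] at h9
        linear_combination h9
      exact (mul_left_cancel₀ (mul_ne_zero hTi hd0) h8).symm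
    exact_mod_cast h7
  · intro χ hχ
    obtain ⟨μ, hμ, rfl⟩ := Finset.mem_image.mp hχ
    exact (hkey μ (Finset.mem_filter.mp hμ).2).2

end Cfsg.Agent.S1490
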