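import Cfsg.Statements.S0154
import Mathlib

set_option autoImplicit false
open Cfsg

namespace Cfsg.Agent.S0154

theorem irreducible_of_finrank_one {G : Type*} [Group G] {V : Type*} [AddCommGroup V] [Module ℂ V]
    (ρ : Representation ℂ G V) (h : Module.finrank ℂ V = 1) : ρ.IsIrreducible := by
  have hs : IsSimpleOrder (Submodule ℂ V) := is_simple_module_of_finrank_eq_one (K := ℂ) (A := ℂ) h
  refine { exists_pair_ne := ⟨⊥, ⊤, ?_⟩, eq_bot_or_eq_top := ?_ }
  · intro h'
    have := congrArg Subrepresentation.toSubmodule h'
    exact bot_ne_top this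
  · intro a
    rcases eq_bot_or_eq_top a.toSubmodule with h' | h'
    · left; exact Subrepresentation.toSubmodule_injective h'
    · right; exact Subrepresentation.toSubmodule_injective h'

/-- the one-dimensional representation attached to a linear character -/
noncomputable def linRep {G : Type*} [Group G] (φ : G →* ℂˣ) : Representation ℂ G (Fin 1 → ℂ) where
  toFun g := ((φ g : ℂ)) • LinearMap.id
  map_one' := by simp; rfl
  map_mul' x y := by
    ext v i
    simp only [map_mul, Units.val_mul, LinearMap.coe_comp, LinearMap.coe_single, Function.comp_apply,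
      LinearMap.smul_apply, LinearMap.id_coe, id_eq, Pi.smul_apply, smul_eq_mul, Module.End.mul_apply]
    ring

theorem linRep_character {G : Type*} [Group G] (φ : G →* ℂˣ) (g : G) :
    (linRep φ).character g = (φ g : ℂ) := by
  unfold Representation.character linRep
  simp

theorem linRep_isIrr {G : Type*} [Group G] (φ : G →* ℂˣ) :
    IsIrrCharacter G (fun g => (φ g : ℂ)) := by
  refine ⟨1, linRep φ, irreducible_of_finrank_one _ (by simp), ?_⟩
  funext g
  exact linRep_character φ g

/-- the (0,0) entry of a one by one representation as a monoid hom -/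
noncomputable def entryHom {G : Type*} [Group G] (ρ : Representation ℂ G (Fin 1 → ℂ)) : G →* ℂ where
  toFun g := LinearMap.toMatrix' (ρ g) 0 0
  map_one' := by simp
  map_mul' x y := by
    rw [map_mul, Module.End.mul_eq_comp, LinearMap.toMatrix'_comp, Matrix.mul_apply]
    simp

theorem entryHom_eq_character {G : Type*} [Group G] (ρ : Representation ℂ G (Fin 1 → ℂ)) (g : G) :
    entryHom ρ g = ρ.character g := by
  unfold Representation.character entryHom
  rw [LinearMap.trace_eq_matrix_trace ℂ (Pi.basisFun ℂ (Fin 1))]
  simp [Matrix.trace, LinearMap.toMatrix_eq_toMatrix']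

noncomputable def toLin {G : Type*} [Group G] (φ : G →* ℂˣ) :
    {χ : Cfsg.IrrCharacter G // (χ : G → ℂ) 1 = 1} :=
  ⟨⟨fun g => (φ g : ℂ), linRep_isIrr φ⟩, by simp⟩

theorem toLin_bijective {G : Type*} [Group G] : Function.Bijective (toLin (G := G)) := by
  constructor
  · intro φ ψ h
    ext g
    have := congrArg (fun χ : {χ : Cfsg.IrrCharacter G // (χ : G → ℂ) 1 = 1} => (χ.1 : G → ℂ) g) h
    exact this
  · rintro ⟨⟨χ, n, ρ, hirr, rfl⟩, h1⟩
    have hn : n = 1 := by
      have := Representation.char_one ρ
      simp only at h1
      rw [this] at h1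
      simpa using h1
    subst hn
    refine ⟨(entryHom ρ).toHomUnits, ?_⟩
    apply Subtype.ext
    apply Subtype.ext
    funext g
    show ((entryHom ρ).toHomUnits g : ℂ) = ρ.character g
    rw [MonoidHom.coe_toHomUnits, entryHom_eq_character]

/-- A finite group has exactly as many irreducible complex characters of degree 1 as the index of its commutator subgroup. -/
theorem result {G : Type*} [Group G] [Finite G] : Nat.card {χ : Cfsg.IrrCharacter G // (χ : G → ℂ) 1 = 1} = (commutator G).index := by
  rw [← Nat.card_congr (Equiv.ofBijective _ (toLin_bijective (G := G)))]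
  rw [Nat.card_congr (Abelianization.lift (G := G) (A := ℂˣ))]
  have hexp : Monoid.exponent (Abelianization G) ≠ 0 := Monoid.exponent_ne_zero_of_finite
  have : NeZero ((Monoid.exponent (Abelianization G) : ℕ) : ℂ) := ⟨by exact_mod_cast hexp⟩
  rw [CommGroup.card_monoidHom_of_hasEnoughRootsOfUnity (Abelianization G) ℂ]
  rw [Subgroup.index_eq_card]
  rfl

end Cfsg.Agent.S0154
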