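import Cfsg.Statements.S4757
import Cfsg.Agent.Lib.Helper4.TwoClasses
import Cfsg.Agent.Lib.Helper20.Cores
import Cfsg.Agent.S0154
import Cfsg.Agent.Lib.Helper4.LinConst

set_option autoImplicit false
open Cfsg

namespace Cfsg.Agent.S4757

open Cfsg.Agent.Lib.Helper4 Cfsg.Agent.Lib.Helper26
open scoped ComplexConjugate

section gen

/-- sums of nonnegative reals -/
theorem sum_nonneg_real {ι : Type*} (s : Finset ι) (f : ι → ℂ)
    (hf : ∀ i ∈ s, ∃ r : ℝ, 0 ≤ r ∧ f i = r) : ∃ R : ℝ, 0 ≤ R ∧ ∑ i ∈ s, f i = R := by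
  classical
  induction s using Finset.induction_on with
  | empty => exact ⟨0, le_rfl, by simp⟩
  | insert a s ha ih =>
    obtain ⟨R, hR, hs⟩ := ih (fun i hi => hf i (Finset.mem_insert_of_mem hi))
    obtain ⟨r, hr, hfa⟩ := hf a (Finset.mem_insert_self a s)
    refine ⟨r + R, add_nonneg hr hR, ?_⟩
    rw [Finset.sum_insert ha, hs, hfa]
    push_cast
    rfl

theorem sum_eq_zero_real {ι : Type*} (s : Finset ι) (f : ι → ℂ)
    (hf : ∀ i ∈ s, ∃ r : ℝ, 0 ≤ r ∧ f i = r) (h : ∑ i ∈ s, f i = 0) : ∀ i ∈ s, f i = 0 := by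
  classical
  intro i hi
  obtain ⟨r, hr, hfi⟩ := hf i hi
  obtain ⟨R, hR, hs⟩ := sum_nonneg_real (s.erase i) f
    (fun j hj => hf j (Finset.mem_of_mem_erase hj))
  rw [← Finset.add_sum_erase s f hi, hs, hfi] at h
  have h1 : r + R = 0 := by exact_mod_cast h
  have h2 : r = 0 := by linarith
  rw [hfi, h2]
  simp

end gen

section chars

variable {G : Type*} [Group G] [Fintype G]

theorem ortho_u (u : G) (hu : u ≠ 1) [Fintype (Cfsg.IrrCharacter G)] :
    ∑ χ : Cfsg.IrrCharacter G, (χ : G → ℂ) u * (χ : G → ℂ) 1 = 0 := by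
  classical
  have h := column_orthogonality u (1 : G)
  rw [if_neg (fun h => hu (isConj_one_left.mp h))] at h
  rw [← h]
  refine Finset.sum_congr rfl fun χ _ => ?_
  rw [char_one_conj]

/-- the trivial character -/
noncomputable def triv (G : Type*) [Group G] : Cfsg.IrrCharacter G :=
  ⟨fun _ => 1, isIrrCharacter_one⟩

/-- the linear character of a hom -/
noncomputable def lin (μ : G →* ℂˣ) : Cfsg.IrrCharacter G :=
  ⟨fun g => ((μ g : ℂˣ) : ℂ), Cfsg.Agent.S0154.linRep_isIrr μ⟩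

theorem lin_ne_triv (μ : G →* ℂˣ) (g₀ : G) (hg₀ : μ g₀ ≠ 1) : lin μ ≠ triv G := by
  intro h
  apply hg₀
  have := congrArg (fun χ : Cfsg.IrrCharacter G => (χ : G → ℂ) g₀) h
  apply Units.ext
  exact this

theorem term_nonneg (u : G) (c : ℂ) (χ : Cfsg.IrrCharacter G)
    (hyp : (χ : G → ℂ) 1 - (χ : G → ℂ) u = c ∨ (χ : G → ℂ) u = 0)
    (hc : c = 0 ∨ (c = 2 ∧ (χ : G → ℂ) 1 ≠ 1)) :
    ∃ r : ℝ, 0 ≤ r ∧ (χ : G → ℂ) u * (χ : G → ℂ) 1 = r := by
  obtain ⟨d, hd, hχ1⟩ := irr_degree χ.2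
  rcases hyp with h | h
  · have hu : (χ : G → ℂ) u = (d : ℂ) - c := by rw [← hχ1]; linear_combination -h
    rcases hc with hc | ⟨hc, hne⟩
    · refine ⟨(d : ℝ) * d, by positivity, ?_⟩
      rw [hu, hχ1, hc]
      push_cast
      ring
    · have hd2 : 2 ≤ d := by
        rcases Nat.lt_or_ge d 2 with hlt | hge
        · exfalso
          apply hne
          have : d = 1 := by omega
          rw [hχ1, this, Nat.cast_one]
        · exact hge
      have hd2' : (2 : ℝ) ≤ d := by exact_mod_cast hd2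
      refine ⟨((d : ℝ) - 2) * d, mul_nonneg (by linarith) (by positivity), ?_⟩
      rw [hu, hχ1, hc]
      push_cast
      ring
  · exact ⟨0, le_rfl, by rw [h, zero_mul]; simp⟩

/-- `c ≠ 0` -/
theorem c_ne_zero (u : G) (hu : u ≠ 1) (c : ℂ)
    (hyp : ∀ χ : Cfsg.IrrCharacter G, (χ : G → ℂ) ≠ (fun _ => (1 : ℂ)) →
      ((χ : G → ℂ) 1 - (χ : G → ℂ) u = c ∨ (χ : G → ℂ) u = 0)) : c ≠ 0 := by
  classical
  have : Fintype (Cfsg.IrrCharacter G) := Fintype.ofFinite _
  intro hc
  have h0 := ortho_u u hu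
  rw [← Finset.add_sum_erase Finset.univ _ (Finset.mem_univ (triv G))] at h0
  obtain ⟨R, hR, hs⟩ := sum_nonneg_real (Finset.univ.erase (triv G))
    (fun χ : Cfsg.IrrCharacter G => (χ : G → ℂ) u * (χ : G → ℂ) 1) (by
      intro χ hχ
      have hne : (χ : G → ℂ) ≠ (fun _ => (1 : ℂ)) := by
        intro h
        exact Finset.ne_of_mem_erase hχ (Subtype.ext h)
      exact term_nonneg u c χ (hyp χ hne) (Or.inl hc))
  rw [hs] at h0
  have h1 : ((triv G : Cfsg.IrrCharacter G) : G → ℂ) u * ((triv G : Cfsg.IrrCharacter G) : G → ℂ) 1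
      = 1 := by
    show (1 : ℂ) * 1 = 1
    rw [one_mul]
  rw [h1] at h0
  have h2 : (1 : ℝ) + R = 0 := by exact_mod_cast h0
  linarith

/-- value of a nontrivial linear character at `u` -/
theorem lin_value (u : G) (c : ℂ)
    (hyp : ∀ χ : Cfsg.IrrCharacter G, (χ : G → ℂ) ≠ (fun _ => (1 : ℂ)) →
      ((χ : G → ℂ) 1 - (χ : G → ℂ) u = c ∨ (χ : G → ℂ) u = 0))
    (μ : G →* ℂˣ) (g₀ : G) (hg₀ : μ g₀ ≠ 1) : ((μ u : ℂˣ) : ℂ) = 1 - c := by
  have hne : ((lin μ : Cfsg.IrrCharacter G) : G → ℂ) ≠ (fun _ => (1 : ℂ)) := by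
    intro h
    exact lin_ne_triv μ g₀ hg₀ (Subtype.ext h)
  rcases hyp (lin μ) hne with h | h
  · have h1 : ((μ 1 : ℂˣ) : ℂ) - ((μ u : ℂˣ) : ℂ) = c := h
    rw [map_one, Units.val_one] at h1
    linear_combination -h1
  · exact absurd h (Units.ne_zero _)

/-- consequences of the existence of a nontrivial linear character -/
theorem lin_facts (u : G) (hu : u ≠ 1) (c : ℂ)
    (hyp : ∀ χ : Cfsg.IrrCharacter G, (χ : G → ℂ) ≠ (fun _ => (1 : ℂ)) →
      ((χ : G → ℂ) 1 - (χ : G → ℂ) u = c ∨ (χ : G → ℂ) u = 0))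
    (lam : G →* ℂˣ) (g₀ : G) (hg₀ : lam g₀ ≠ 1) :
    c = 2 ∧ ((lam u : ℂˣ) : ℂ) = -1 ∧ (∀ g : G, lam g * lam g = 1) ∧
      ∀ (μ : G →* ℂˣ) (g₁ : G), μ g₁ ≠ 1 → μ = lam := by
  have hc0 := c_ne_zero u hu c hyp
  have hlu := lin_value u c hyp lam g₀ hg₀
  have hunit : (1 : ℂ) - c ≠ 0 := by
    rw [← hlu]
    exact Units.ne_zero _
  have hsq : ∀ g : G, lam g * lam g = 1 := by
    by_contra hcon
    push Not at hcon
    obtain ⟨g₁, hg₁⟩ := hcon
    have h2 := lin_value u c hyp (lam * lam) g₁ (by rwa [MonoidHom.mul_apply])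
    rw [MonoidHom.mul_apply, Units.val_mul, hlu] at h2
    have h3 : (1 - c) * c = 0 := by linear_combination -h2
    rcases mul_eq_zero.mp h3 with h4 | h4
    · exact hunit h4
    · exact hc0 h4
  have hc2 : c = 2 := by
    have h2 : ((lam u : ℂˣ) : ℂ) * ((lam u : ℂˣ) : ℂ) = 1 := by
      rw [← Units.val_mul, hsq u, Units.val_one]
    rw [hlu] at h2
    have h3 : c * (c - 2) = 0 := by linear_combination h2
    rcases mul_eq_zero.mp h3 with h4 | h4
    · exact absurd h4 hc0
    · linear_combination h4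
  have hlu' : ((lam u : ℂˣ) : ℂ) = -1 := by rw [hlu, hc2]; norm_num
  refine ⟨hc2, hlu', hsq, ?_⟩
  intro μ g₁ hg₁
  have hμu : ((μ u : ℂˣ) : ℂ) = -1 := by
    rw [lin_value u c hyp μ g₁ hg₁, hc2]; norm_num
  have hprod : ∀ g : G, lam g * μ g = 1 := by
    by_contra hcon
    push Not at hcon
    obtain ⟨g₂, hg₂⟩ := hcon
    have h2 := lin_value u c hyp (lam * μ) g₂ (by rwa [MonoidHom.mul_apply])
    rw [MonoidHom.mul_apply, Units.val_mul, hlu', hμu, hc2] at h2
    norm_num at h2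
  ext g
  have h1 := hprod g
  have h2 := hsq g
  have h3 : μ g = lam g := by
    calc μ g = (lam g)⁻¹ * (lam g * μ g) := by group
      _ = (lam g)⁻¹ * (lam g * lam g) := by rw [h1, h2]
      _ = lam g := by group
  rw [h3]

/-- a character of degree one is given by a hom -/
theorem exists_hom_of_linear (χ : Cfsg.IrrCharacter G) (h : (χ : G → ℂ) 1 = 1) :
    ∃ μ : G →* ℂˣ, ∀ g : G, (χ : G → ℂ) g = ((μ g : ℂˣ) : ℂ) := by
  obtain ⟨μ, hμ⟩ := Cfsg.Agent.S0154.toLin_bijective.2 ⟨χ, h⟩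
  refine ⟨μ, fun g => ?_⟩
  have := congrArg
    (fun χ : {χ : Cfsg.IrrCharacter G // (χ : G → ℂ) 1 = 1} => (χ.1 : G → ℂ) g) hμ
  exact this.symm

/-- a nontrivial linear character exists when `G` is not perfect -/
theorem exists_nontrivial_hom (hne : commutator G ≠ ⊤) : ∃ (lam : G →* ℂˣ) (g₀ : G), lam g₀ ≠ 1 := by
  have hx : ∃ x : G, x ∉ commutator G := by
    by_contra hcon
    push Not at hcon
    exact hne ((Subgroup.eq_top_iff' _).mpr hcon)
  obtain ⟨x, hx⟩ := hx
  have hx1 : Abelianization.of x ≠ 1 := by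
    intro h
    apply hx
    exact (QuotientGroup.eq_one_iff x).mp h
  obtain ⟨φ, hφ⟩ := CommGroup.exists_apply_ne_one_of_hasEnoughRootsOfUnity (Abelianization G) ℂ hx1
  exact ⟨φ.comp Abelianization.of, x, hφ⟩

/-- linear characters of a perfect group are trivial -/
theorem linear_of_perfect (hperf : commutator G = ⊤) (χ : Cfsg.IrrCharacter G)
    (h : (χ : G → ℂ) 1 = 1) : (χ : G → ℂ) = fun _ => (1 : ℂ) := by
  have hle : commutator G ≤ charKer χ := by
    rw [commutator_eq_closure, Subgroup.closure_le]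
    rintro g ⟨a, b, rfl⟩
    show (χ : G → ℂ) (a * b * a⁻¹ * b⁻¹) = (χ : G → ℂ) 1
    rw [irrChar_commutator_of_degree_one χ.2 h a b, h]
  funext g
  have : g ∈ charKer χ := hle (hperf ▸ Subgroup.mem_top g)
  rw [mem_charKer] at this
  rw [this, h]

end chars

section claims

open scoped commutatorElement

variable {G : Type*} [Group G] [Fintype G]

theorem claimB (u : G) (hu : u ≠ 1) (c : ℂ)
    (hyp : ∀ χ : Cfsg.IrrCharacter G, (χ : G → ℂ) ≠ (fun _ => (1 : ℂ)) →
      ((χ : G → ℂ) 1 - (χ : G → ℂ) u = c ∨ (χ : G → ℂ) u = 0)) (hc : c = 2) :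
    commutator G ≠ ⊤ := by
  classical
  have : Fintype (Cfsg.IrrCharacter G) := Fintype.ofFinite _
  intro hperf
  have h0 := ortho_u u hu
  rw [← Finset.add_sum_erase Finset.univ _ (Finset.mem_univ (triv G))] at h0
  obtain ⟨R, hR, hs⟩ := sum_nonneg_real (Finset.univ.erase (triv G))
    (fun χ : Cfsg.IrrCharacter G => (χ : G → ℂ) u * (χ : G → ℂ) 1) (by
      intro χ hχ
      have hne : (χ : G → ℂ) ≠ (fun _ => (1 : ℂ)) := by
        intro h
        exact Finset.ne_of_mem_erase hχ (Subtype.ext h)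
      refine term_nonneg u c χ (hyp χ hne) (Or.inr ⟨hc, ?_⟩)
      intro h1
      exact hne (linear_of_perfect hperf χ h1))
  rw [hs] at h0
  have h1 : ((triv G : Cfsg.IrrCharacter G) : G → ℂ) u * ((triv G : Cfsg.IrrCharacter G) : G → ℂ) 1
      = 1 := by
    show (1 : ℂ) * 1 = 1
    rw [one_mul]
  rw [h1] at h0
  have h2 : (1 : ℝ) + R = 0 := by exact_mod_cast h0
  linarith

theorem claimC (u : G) (hu : u ≠ 1) (c : ℂ)
    (hyp : ∀ χ : Cfsg.IrrCharacter G, (χ : G → ℂ) ≠ (fun _ => (1 : ℂ)) →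
      ((χ : G → ℂ) 1 - (χ : G → ℂ) u = c ∨ (χ : G → ℂ) u = 0))
    (hne : commutator G ≠ ⊤) :
    orderOf u = 2 ∧ Subgroup.zpowers u ⊔ Cfsg.oddCore G = ⊤ ∧
      Subgroup.centralizer ({u} : Set G) = Subgroup.zpowers u := by
  classical
  have : Fintype (Cfsg.IrrCharacter G) := Fintype.ofFinite _
  obtain ⟨lam, g₀, hg₀⟩ := exists_nontrivial_hom hne
  obtain ⟨hc2, hlu, hsq, huniq⟩ := lin_facts u hu c hyp lam g₀ hg₀
  have hLt : lin lam ≠ triv G := lin_ne_triv lam g₀ hg₀
  have hother : ∀ χ : Cfsg.IrrCharacter G, χ ≠ triv G → χ ≠ lin lam → (χ : G → ℂ) 1 ≠ 1 := by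
    intro χ h1 h2 h
    obtain ⟨μ, hμ⟩ := exists_hom_of_linear χ h
    by_cases hμ1 : ∀ g, μ g = 1
    · apply h1
      apply Subtype.ext
      funext g
      rw [hμ g, hμ1 g]
      rfl
    · push Not at hμ1
      obtain ⟨g₁, hg₁⟩ := hμ1
      have h3 := huniq μ g₁ hg₁
      apply h2
      apply Subtype.ext
      funext g
      rw [hμ g, h3]
      rfl
  have hmem2 : lin lam ∈ Finset.univ.erase (triv G) :=
    Finset.mem_erase.mpr ⟨hLt, Finset.mem_univ _⟩
  have hvanish : ∀ χ : Cfsg.IrrCharacter G, χ ≠ triv G → χ ≠ lin lam → (χ : G → ℂ) u = 0 := by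
    have h0 := ortho_u u hu
    rw [← Finset.add_sum_erase Finset.univ _ (Finset.mem_univ (triv G)),
      ← Finset.add_sum_erase (Finset.univ.erase (triv G)) _ hmem2] at h0
    have ht : ((triv G : Cfsg.IrrCharacter G) : G → ℂ) u *
        ((triv G : Cfsg.IrrCharacter G) : G → ℂ) 1 = 1 := by
      show (1 : ℂ) * 1 = 1
      rw [one_mul]
    have hl : ((lin lam : Cfsg.IrrCharacter G) : G → ℂ) u *
        ((lin lam : Cfsg.IrrCharacter G) : G → ℂ) 1 = -1 := by
      show ((lam u : ℂˣ) : ℂ) * ((lam 1 : ℂˣ) : ℂ) = -1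
      rw [hlu, map_one, Units.val_one, mul_one]
    rw [ht, hl] at h0
    have h1 : ∑ χ ∈ (Finset.univ.erase (triv G)).erase (lin lam),
        (χ : G → ℂ) u * (χ : G → ℂ) 1 = 0 := by linear_combination h0
    have h2 := sum_eq_zero_real _ _ (by
      intro χ hχ
      have hχ2 := Finset.ne_of_mem_erase hχ
      have hχ1 := Finset.ne_of_mem_erase (Finset.mem_of_mem_erase hχ)
      have hne' : (χ : G → ℂ) ≠ (fun _ => (1 : ℂ)) := fun h => hχ1 (Subtype.ext h)
      exact term_nonneg u c χ (hyp χ hne') (Or.inr ⟨hc2, hother χ hχ1 hχ2⟩)) h1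
    intro χ hχ1 hχ2
    have h3 := h2 χ (Finset.mem_erase.mpr ⟨hχ2, Finset.mem_erase.mpr ⟨hχ1, Finset.mem_univ _⟩⟩)
    rcases mul_eq_zero.mp h3 with h | h
    · exact h
    · exact absurd h (char_one_ne_zero' χ)
  have hcard : Nat.card (Subgroup.centralizer ({u} : Set G)) = 2 := by
    have h0 := column_orthogonality u u
    rw [if_pos (IsConj.refl u)] at h0
    rw [← Finset.add_sum_erase Finset.univ _ (Finset.mem_univ (triv G)),
      ← Finset.add_sum_erase (Finset.univ.erase (triv G)) _ hmem2] at h0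
    have hrest : ∑ χ ∈ (Finset.univ.erase (triv G)).erase (lin lam),
        (χ : G → ℂ) u * conj ((χ : G → ℂ) u) = 0 := by
      apply Finset.sum_eq_zero
      intro χ hχ
      have hχ2 := Finset.ne_of_mem_erase hχ
      have hχ1 := Finset.ne_of_mem_erase (Finset.mem_of_mem_erase hχ)
      rw [hvanish χ hχ1 hχ2, zero_mul]
    rw [hrest, add_zero] at h0
    have ht : ((triv G : Cfsg.IrrCharacter G) : G → ℂ) u *
        conj (((triv G : Cfsg.IrrCharacter G) : G → ℂ) u) = 1 := by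
      show (1 : ℂ) * conj 1 = 1
      simp
    have hl : ((lin lam : Cfsg.IrrCharacter G) : G → ℂ) u *
        conj (((lin lam : Cfsg.IrrCharacter G) : G → ℂ) u) = 1 := by
      show ((lam u : ℂˣ) : ℂ) * conj ((lam u : ℂˣ) : ℂ) = 1
      rw [hlu]
      simp
    rw [ht, hl] at h0
    have h5 : ((Nat.card (Subgroup.centralizer ({u} : Set G)) : ℕ) : ℂ) = ((2 : ℕ) : ℂ) := by
      rw [← h0]
      norm_num
    exact_mod_cast h5
  have hle : Subgroup.zpowers u ≤ Subgroup.centralizer ({u} : Set G) := by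
    rw [Subgroup.zpowers_le]
    exact Subgroup.mem_centralizer_singleton_iff.mpr rfl
  have hord : orderOf u = 2 := by
    have h1 : orderOf u ≤ 2 := by
      rw [← Nat.card_zpowers, ← hcard]
      exact Subgroup.card_le_of_le hle
    have h2 : orderOf u ≠ 1 := by rwa [Ne, orderOf_eq_one_iff]
    have h3 := orderOf_pos u
    omega
  have hcent : Subgroup.centralizer ({u} : Set G) = Subgroup.zpowers u := by
    symm
    apply Subgroup.eq_of_le_of_card_ge hle
    rw [hcard, Nat.card_zpowers, hord]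
  refine ⟨hord, ?_, hcent⟩
  set K := lam.ker with hK
  have hKn : K.Normal := MonoidHom.normal_ker lam
  have huK : u ∉ K := by
    intro h
    rw [MonoidHom.mem_ker] at h
    rw [h, Units.val_one] at hlu
    norm_num at hlu
  have huu : u * u = 1 := by
    have h1 := pow_orderOf_eq_one u
    rwa [hord, pow_two] at h1
  have huinv : u⁻¹ = u := inv_eq_of_mul_eq_one_left huu
  have hKodd : (Nat.card K).Coprime 2 := by
    let f : Function.End K := fun k => ⟨u * (k : G) * u⁻¹, hKn.conj_mem k k.2 u⟩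
    have hf : f ^ 2 ^ 1 = 1 := by
      rw [pow_one, pow_two]
      funext k
      apply Subtype.ext
      show u * (u * (k : G) * u⁻¹) * u⁻¹ = (k : G)
      rw [huinv]
      calc u * (u * (k : G) * u) * u = (u * u) * (k : G) * (u * u) := by group
        _ = (k : G) := by rw [huu, one_mul, mul_one]
    have : Fact (Nat.Prime 2) := ⟨Nat.prime_two⟩
    have hmod := Equiv.Perm.card_fixedPoints_modEq (p := 2) (n := 1) hf
    have hfix : Nat.card (Function.fixedPoints f) = 1 := by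
      rw [Nat.card_eq_one_iff_unique]
      refine ⟨⟨?_⟩, ⟨⟨1, ?_⟩⟩⟩
      · rintro ⟨k, hk⟩ ⟨k', hk'⟩
        have key : ∀ k : K, f k = k → k = 1 := by
          intro k hk
          have hk2 : u * (k : G) * u⁻¹ = (k : G) := congrArg Subtype.val hk
          have hkc : (k : G) ∈ Subgroup.centralizer ({u} : Set G) := by
            rw [Subgroup.mem_centralizer_singleton_iff]
            calc (k : G) * u = (u * (k : G) * u⁻¹) * u := by rw [hk2]
              _ = u * (k : G) := by group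
          rw [hcent, Subgroup.mem_zpowers_iff] at hkc
          obtain ⟨i, hi⟩ := hkc
          rw [← zpow_mod_orderOf, hord] at hi
          push_cast at hi
          rcases Int.emod_two_eq_zero_or_one i with h | h
          · rw [h] at hi
            apply Subtype.ext
            rw [← hi]
            simp
          · exfalso
            rw [h] at hi
            apply huK
            have : u = (k : G) := by rw [← hi]; simp
            rw [this]
            exact k.2
        apply Subtype.ext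
        show k = k'
        exact (key k hk).trans (key k' hk').symm
      · show f 1 = 1
        apply Subtype.ext
        show u * ((1 : K) : G) * u⁻¹ = ((1 : K) : G)
        rw [Subgroup.coe_one, mul_one, mul_inv_cancel]
    rw [← Nat.card_eq_fintype_card, ← Nat.card_eq_fintype_card, hfix] at hmod
    rw [Nat.coprime_two_right, Nat.odd_iff]
    exact hmod
  have hKO : K ≤ Cfsg.oddCore G := Cfsg.Agent.Lib.Helper20.le_pPrimeCore' hKn hKodd
  rw [eq_top_iff]
  intro g _
  have h1 : ((lam g : ℂˣ) : ℂ) * ((lam g : ℂˣ) : ℂ) = 1 := by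
    rw [← Units.val_mul, hsq g, Units.val_one]
  rcases mul_self_eq_one_iff.mp h1 with h | h
  · have hg : g ∈ K := by
      rw [hK, MonoidHom.mem_ker]
      exact Units.ext h
    exact (le_sup_right : Cfsg.oddCore G ≤ _) (hKO hg)
  · have hk : u⁻¹ * g ∈ K := by
      rw [hK, MonoidHom.mem_ker]
      apply Units.ext
      rw [map_mul, map_inv, Units.val_mul, Units.val_inv_eq_inv_val, hlu, h, Units.val_one]
      norm_num
    have hg : g = u * (u⁻¹ * g) := by group
    rw [hg]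
    exact Subgroup.mul_mem_sup (Subgroup.mem_zpowers u) (hKO hk)

omit [Fintype G] in
theorem claimD [Finite G] (u : G) (ho : orderOf u = 2)
    (hsup : Subgroup.zpowers u ⊔ Cfsg.oddCore G = ⊤) : commutator G ≠ ⊤ := by
  have hmem := Cfsg.Agent.Lib.Helper20.pPrimeCore_mem' (G := G) 2
  have hOn : (Cfsg.oddCore G).Normal := hmem.1
  have hOc : (Nat.card (Cfsg.oddCore G)).Coprime 2 := hmem.2
  have huO : u ∉ Cfsg.oddCore G := by
    intro h
    have h1 := Subgroup.orderOf_dvd_natCard (Cfsg.oddCore G) h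
    rw [ho] at h1
    have h2 : Nat.gcd (Nat.card (Cfsg.oddCore G)) 2 = 2 := Nat.gcd_eq_right h1
    rw [Nat.Coprime] at hOc
    omega
  have hle : commutator G ≤ Cfsg.oddCore G := by
    rw [commutator_def, Subgroup.commutator_le]
    intro a _ b _
    have ha : a ∈ Subgroup.zpowers u ⊔ Cfsg.oddCore G := hsup ▸ Subgroup.mem_top a
    have hb : b ∈ Subgroup.zpowers u ⊔ Cfsg.oddCore G := hsup ▸ Subgroup.mem_top b
    obtain ⟨h₁, hh₁, n₁, hn₁, rfl⟩ := Subgroup.mem_sup_of_normal_right.mp ha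
    obtain ⟨h₂, hh₂, n₂, hn₂, rfl⟩ := Subgroup.mem_sup_of_normal_right.mp hb
    obtain ⟨i, rfl⟩ := Subgroup.mem_zpowers_iff.mp hh₁
    obtain ⟨j, rfl⟩ := Subgroup.mem_zpowers_iff.mp hh₂
    have hπ : ∀ n ∈ Cfsg.oddCore G, (QuotientGroup.mk' (Cfsg.oddCore G)) n = 1 :=
      fun n hn => (QuotientGroup.eq_one_iff n).mpr hn
    have key : (QuotientGroup.mk' (Cfsg.oddCore G)) ⁅u ^ i * n₁, u ^ j * n₂⁆ = 1 := by
      rw [map_commutatorElement, commutatorElement_eq_one_iff_commute, map_mul, map_mul,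
        hπ n₁ hn₁, hπ n₂ hn₂, mul_one, mul_one, map_zpow, map_zpow]
      exact (Commute.refl _).zpow_zpow i j
    exact (QuotientGroup.eq_one_iff _).mp key
  intro htop
  rw [htop] at hle
  exact huO (hle (Subgroup.mem_top u))

end claims

/-- Let u ≠ 1 be an element of the finite group G and c a complex number such that every non-principal irreducible character χ satisfies χ(1) − χ(u) = c or χ(u) = 0. Then the following are equivalent: (a) u has order 2, G is generated by u together with O(G), the largest normal subgroup of G of odd order, and the centralizer of u is {1, u}; (b) G is not perfect; (c) c = 2. -/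
theorem result {G : Type*} [Group G] [Finite G] (u : G) (hu : u ≠ 1) (c : ℂ) (hyp : ∀ χ : Cfsg.IrrCharacter G, (χ : G → ℂ) ≠ (fun _ => (1 : ℂ)) → ((χ : G → ℂ) 1 - (χ : G → ℂ) u = c ∨ (χ : G → ℂ) u = 0)) : ((orderOf u = 2 ∧ Subgroup.zpowers u ⊔ Cfsg.oddCore G = ⊤ ∧ Subgroup.centralizer ({u} : Set G) = Subgroup.zpowers u) ↔ commutator G ≠ ⊤) ∧ (commutator G ≠ ⊤ ↔ c = 2) := by
  classical
  have : Fintype G := Fintype.ofFinite G
  refine ⟨⟨?_, ?_⟩, ⟨?_, ?_⟩⟩
  · rintro ⟨ho, hsup, _⟩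
    exact claimD u ho hsup
  · intro hne
    exact claimC u hu c hyp hne
  · intro hne
    obtain ⟨lam, g₀, hg₀⟩ := exists_nontrivial_hom hne
    exact (lin_facts u hu c hyp lam g₀ hg₀).1
  · intro hc
    exact claimB u hu c hyp hc

end Cfsg.Agent.S4757
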