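import Cfsg.Statements.S4798
import Cfsg.Agent.Lib.Helper4.Deflate
import Cfsg.Agent.Lib.Helper4.CharOrtho
import Cfsg.Agent.Lib.Helper26.IndChar
import Cfsg.Agent.Lib.Helper26.TIInd
import Cfsg.Agent.Lib.Helper26.CharBasic
import Cfsg.Agent.Lib.Helper26.CharInt

set_option autoImplicit false
open Cfsg

namespace Cfsg.Agent.S4798

open Cfsg.Agent.Lib.Helper4 Cfsg.Agent.Lib.Helper26
open scoped ComplexConjugate

section dec

variable {H : Type*} [Group H] [Fintype H]

/-- decomposition of a character with natural coefficients -/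
theorem char_decomp (X : H → ℂ) (hX : IsCharacter H X) [Fintype (Cfsg.IrrCharacter H)] :
    ∃ c : Cfsg.IrrCharacter H → ℕ, (∀ μ : Cfsg.IrrCharacter H, classInner X (μ : H → ℂ) = c μ) ∧
      ∀ h : H, X h = ∑ μ : Cfsg.IrrCharacter H, (c μ : ℂ) * (μ : H → ℂ) h := by
  choose c hc using fun μ : Cfsg.IrrCharacter H =>
    classInner_isCharacter_nat hX (isCharacter_of_isIrrCharacter μ.2)
  refine ⟨c, hc, fun h => ?_⟩
  have hexp := classFunction_expansion X (Cfsg.Agent.Lib.Helper26.isClassFunction_of_isCharacter hX)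
  have := congrFun hexp h
  simp only [Finset.sum_apply, Pi.smul_apply, smul_eq_mul, hc] at this
  exact this

/-- a constituent has smaller degree, with equality only if the character is irreducible -/
theorem constituent_degree_le (X : H → ℂ) (hX : IsCharacter H X) (χ : Cfsg.IrrCharacter H)
    (hne : classInner X (χ : H → ℂ) ≠ 0) :
    ∃ n e : ℕ, X 1 = n ∧ (χ : H → ℂ) 1 = e ∧ e ≤ n ∧ (e = n → X = (χ : H → ℂ)) := by
  classical
  have : Fintype (Cfsg.IrrCharacter H) := Fintype.ofFinite _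
  obtain ⟨c, hc, hexp⟩ := char_decomp X hX
  choose deg hdeg0 hdeg using fun μ : Cfsg.IrrCharacter H => irr_degree μ.2
  have hcχ : c χ ≠ 0 := by
    intro h
    apply hne
    rw [hc χ, h, Nat.cast_zero]
  have hX1 : X 1 = ((∑ μ : Cfsg.IrrCharacter H, c μ * deg μ : ℕ) : ℂ) := by
    rw [hexp 1]
    push_cast
    refine Finset.sum_congr rfl fun μ _ => ?_
    rw [hdeg μ]
  have hsplit : ∑ μ : Cfsg.IrrCharacter H, c μ * deg μ =
      c χ * deg χ + ∑ μ ∈ Finset.univ.erase χ, c μ * deg μ :=
    (Finset.add_sum_erase Finset.univ _ (Finset.mem_univ χ)).symm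
  refine ⟨∑ μ : Cfsg.IrrCharacter H, c μ * deg μ, deg χ, hX1, hdeg χ, ?_, ?_⟩
  · rw [hsplit]
    have : deg χ ≤ c χ * deg χ := Nat.le_mul_of_pos_left _ (Nat.pos_of_ne_zero hcχ)
    omega
  · intro heq
    rw [hsplit] at heq
    have h1 : deg χ ≤ c χ * deg χ := Nat.le_mul_of_pos_left _ (Nat.pos_of_ne_zero hcχ)
    have hrest : ∑ μ ∈ Finset.univ.erase χ, c μ * deg μ = 0 := by omega
    have hcχ1 : c χ * deg χ = deg χ := by omega
    have hc1 : c χ = 1 := by
      have h2 := hdeg0 χ
      exact Nat.eq_of_mul_eq_mul_right h2 (by rw [hcχ1, one_mul])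
    have hzero : ∀ μ ∈ Finset.univ.erase χ, c μ = 0 := by
      intro μ hμ
      have h2 := (Finset.sum_eq_zero_iff.mp hrest) μ hμ
      rcases Nat.mul_eq_zero.mp h2 with h3 | h3
      · exact h3
      · exact absurd h3 (hdeg0 μ).ne'
    funext h
    rw [hexp h, ← Finset.add_sum_erase Finset.univ _ (Finset.mem_univ χ), hc1, Nat.cast_one,
      one_mul]
    rw [Finset.sum_eq_zero, add_zero]
    intro μ hμ
    rw [hzero μ hμ, Nat.cast_zero, zero_mul]

theorem charDegree_irr (χ : Cfsg.IrrCharacter H) :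
    ((χ : H → ℂ) 1 = (Cfsg.charDegree (χ : H → ℂ) : ℂ)) ∧
      Cfsg.charDegree (χ : H → ℂ) ∣ Nat.card H ∧ 0 < Cfsg.charDegree (χ : H → ℂ) := by
  obtain ⟨n, ρ, hρ, hχ⟩ := χ.2
  have h1 : Cfsg.charDegree (χ : H → ℂ) = n := by
    rw [← hχ, charDegree_character]
    simp
  have h2 : (χ : H → ℂ) 1 = n := by
    rw [← hχ, Representation.char_one]
    simp
  have h3 := degree_dvd_card ρ hρ
  have h4 := finrank_ne_zero_of_irreducible ρ hρ
  have h5 : Module.finrank ℂ (Fin n → ℂ) = n := by simp
  rw [h5] at h3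
  refine ⟨by rw [h2, h1], by rw [h1]; exact h3, ?_⟩
  rw [h1]
  rcases Nat.eq_zero_or_pos n with h0 | h0
  · exfalso
    apply h4
    rw [h5, h0, Nat.cast_zero]
  · exact h0

end dec

/-- Let p be a prime and χ a faithful irreducible complex character of the finite group G (χ(g) = χ(1) only for g = 1), so that its codegree is #G / χ(1). Then #G / χ(1) is a power of p if and only if χ is induced from a character of a Sylow p-subgroup of G. -/
theorem result {G : Type*} [Group G] [Fintype G] (p : ℕ) [Fact p.Prime] (χ : Cfsg.IrrCharacter G) (hfaith : ∀ g : G, (χ : G → ℂ) g = (χ : G → ℂ) 1 → g = 1) : (∃ k : ℕ, Nat.card G = p ^ k * Cfsg.charDegree (χ : G → ℂ)) ↔ ∃ (P : Sylow p G) (θ : ↥(P : Subgroup G) → ℂ), Cfsg.IsCharacter ↥(P : Subgroup G) θ ∧ (χ : G → ℂ) = Cfsg.indFun (P : Subgroup G) θ := by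
  classical
  have hp : p.Prime := Fact.out
  obtain ⟨hχ1, hddvd, hd0⟩ := charDegree_irr χ
  set d := Cfsg.charDegree (χ : G → ℂ) with hd
  constructor
  · rintro ⟨k, hk⟩
    let P : Sylow p G := default
    have : Fintype (P : Subgroup G) := Fintype.ofFinite _
    have : Fintype (Cfsg.IrrCharacter (P : Subgroup G)) := Fintype.ofFinite _
    set a := (Nat.card G).factorization p with ha
    have hPcard : Nat.card (P : Subgroup G) = p ^ a := Sylow.card_eq_multiplicity P
    set m := (P : Subgroup G).index with hm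
    have hmp : ¬ p ∣ m := Sylow.not_dvd_index P
    have hGm : Nat.card G = p ^ a * m := by
      rw [← hPcard]
      exact (Subgroup.card_mul_index _).symm
    have hcop : Nat.Coprime (p ^ k) m := Nat.Coprime.pow_left _ ((Nat.Prime.coprime_iff_not_dvd hp).mpr hmp)
    have hka : k ≤ a := by
      have h1 : p ^ k ∣ p ^ a * m := by rw [← hGm, hk]; exact Dvd.intro _ rfl
      have h2 : p ^ k ∣ p ^ a := hcop.dvd_of_dvd_mul_right h1
      exact (Nat.pow_dvd_pow_iff_le_right hp.one_lt).mp h2
    have hdm : d = p ^ (a - k) * m := by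
      have h1 : p ^ k * d = p ^ k * (p ^ (a - k) * m) := by
        rw [← hk, hGm, ← mul_assoc, ← pow_add]
        congr 2
        omega
      exact Nat.eq_of_mul_eq_mul_left (pow_pos hp.pos k) h1
    have hres : IsCharacter (P : Subgroup G) ((χ : G → ℂ) ∘ (P : Subgroup G).subtype) :=
      isCharacter_restrict _ (isCharacter_of_isIrrCharacter χ.2)
    obtain ⟨c, hc, hexp⟩ := char_decomp _ hres
    have hsum : d = ∑ μ : Cfsg.IrrCharacter (P : Subgroup G), c μ * Cfsg.charDegree (μ : ↥(P : Subgroup G) → ℂ) := by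
      have h1 := hexp 1
      have h2 : ((χ : G → ℂ) ∘ (P : Subgroup G).subtype) 1 = (d : ℂ) := by
        show (χ : G → ℂ) ((1 : (P : Subgroup G)) : G) = d
        rw [Subgroup.coe_one, hχ1]
      rw [h2] at h1
      have h3 : ∑ μ : Cfsg.IrrCharacter (P : Subgroup G), (c μ : ℂ) * (μ : ↥(P : Subgroup G) → ℂ) 1 =
          ((∑ μ : Cfsg.IrrCharacter (P : Subgroup G),
            c μ * Cfsg.charDegree (μ : ↥(P : Subgroup G) → ℂ) : ℕ) : ℂ) := by
        push_cast
        refine Finset.sum_congr rfl fun μ _ => ?_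
        rw [(charDegree_irr μ).1]
      rw [h3] at h1
      exact_mod_cast h1
    -- the induced characters
    have hind : ∀ μ : Cfsg.IrrCharacter (P : Subgroup G), c μ ≠ 0 →
        d ≤ m * Cfsg.charDegree (μ : ↥(P : Subgroup G) → ℂ) ∧
        (d = m * Cfsg.charDegree (μ : ↥(P : Subgroup G) → ℂ) →
          Cfsg.indFun (P : Subgroup G) (μ : ↥(P : Subgroup G) → ℂ) = (χ : G → ℂ)) := by
      intro μ hμ
      have hX := isCharacter_indFun (P : Subgroup G) (isCharacter_of_isIrrCharacter μ.2)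
      have hne : classInner (Cfsg.indFun (P : Subgroup G) (μ : ↥(P : Subgroup G) → ℂ))
          (χ : G → ℂ) ≠ 0 := by
        rw [classInner_indFun_left' _ _ _ (Cfsg.Agent.Lib.Helper26.isClassFunction_of_isIrrCharacter χ.2),
          ← classInner_conj_symm, hc μ]
        simpa using hμ
      obtain ⟨n, e, hn, he, hle, heq⟩ := constituent_degree_le _ hX χ hne
      have he' : e = d := by
        have : (e : ℂ) = (d : ℂ) := by rw [← he, hχ1]
        exact_mod_cast this
      have hn' : n = m * Cfsg.charDegree (μ : ↥(P : Subgroup G) → ℂ) := by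
        have h1 := indFun_one (P : Subgroup G) (μ : ↥(P : Subgroup G) → ℂ)
        rw [hn, (charDegree_irr μ).1, ← Nat.card_eq_fintype_card,
          ← Subgroup.card_mul_index (P : Subgroup G)] at h1
        have hP0 : (Nat.card (P : Subgroup G) : ℂ) ≠ 0 := Nat.cast_ne_zero.mpr Nat.card_pos.ne'
        have h2 : (n : ℂ) = ((m * Cfsg.charDegree (μ : ↥(P : Subgroup G) → ℂ) : ℕ) : ℂ) := by
          rw [h1]
          push_cast
          field_simp
          rw [hm]
          ring
        exact_mod_cast h2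
      subst he'
      subst hn'
      exact ⟨hle, heq⟩
    -- powers of p
    have hpow : ∀ μ : Cfsg.IrrCharacter (P : Subgroup G),
        ∃ j : ℕ, Cfsg.charDegree (μ : ↥(P : Subgroup G) → ℂ) = p ^ j := by
      intro μ
      have h1 := (charDegree_irr μ).2.1
      rw [hPcard] at h1
      obtain ⟨j, _, hj⟩ := (Nat.dvd_prime_pow hp).mp h1
      exact ⟨j, hj⟩
    have hex : ∃ μ : Cfsg.IrrCharacter (P : Subgroup G), c μ ≠ 0 ∧
        Cfsg.charDegree (μ : ↥(P : Subgroup G) → ℂ) = p ^ (a - k) := by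
      by_contra hcon
      push Not at hcon
      have hdvd : p ^ (a - k + 1) ∣ d := by
        rw [hsum]
        apply Finset.dvd_sum
        intro μ _
        by_cases hμ : c μ = 0
        · rw [hμ, zero_mul]
          exact dvd_zero _
        · obtain ⟨j, hj⟩ := hpow μ
          have h1 := (hind μ hμ).1
          rw [hj, hdm, mul_comm m] at h1
          have hm0 : 0 < m := Nat.pos_of_ne_zero (fun h => hmp (h ▸ dvd_zero p))
          have h2 : p ^ (a - k) ≤ p ^ j := Nat.le_of_mul_le_mul_right h1 hm0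
          have h3 : a - k ≤ j := (Nat.pow_le_pow_iff_right hp.one_lt).mp h2
          have h4 : j ≠ a - k := by
            intro h
            exact hcon μ hμ (by rw [hj, h])
          have h5 : a - k + 1 ≤ j := by omega
          rw [hj]
          exact Dvd.dvd.mul_left (pow_dvd_pow p h5) _
      rw [hdm, pow_succ] at hdvd
      have h6 : p ∣ m := by
        have := Nat.dvd_of_mul_dvd_mul_left (pow_pos hp.pos (a - k)) hdvd
        exact this
      exact hmp h6
    obtain ⟨μ, hμ, hμd⟩ := hex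
    refine ⟨P, (μ : ↥(P : Subgroup G) → ℂ), isCharacter_of_isIrrCharacter μ.2, ?_⟩
    refine ((hind μ hμ).2 ?_).symm
    rw [hμd, hdm, mul_comm]
  · rintro ⟨P, θ, hθ, hχθ⟩
    have : Fintype (P : Subgroup G) := Fintype.ofFinite _
    set a := (Nat.card G).factorization p with ha
    have hPcard : Nat.card (P : Subgroup G) = p ^ a := Sylow.card_eq_multiplicity P
    obtain ⟨n, ρ, hρ⟩ := hθ
    have hθ1 : θ 1 = n := by
      rw [← hρ, Representation.char_one]
      simp
    have h1 := indFun_one (P : Subgroup G) θ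
    rw [← hχθ, hχ1, hθ1, ← Nat.card_eq_fintype_card, hPcard] at h1
    have hP0 : ((p ^ a : ℕ) : ℂ) ≠ 0 := Nat.cast_ne_zero.mpr (pow_pos hp.pos a).ne'
    have h2 : ((d * p ^ a : ℕ) : ℂ) = ((Nat.card G * n : ℕ) : ℂ) := by
      push_cast at h1 hP0 ⊢
      rw [h1]
      field_simp
    have h3 : d * p ^ a = Nat.card G * n := by exact_mod_cast h2
    obtain ⟨e, he⟩ := hddvd
    rw [he, mul_assoc] at h3
    have h4 : p ^ a = e * n := Nat.eq_of_mul_eq_mul_left hd0 h3
    have h5 : e ∣ p ^ a := Dvd.intro _ h4.symm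
    obtain ⟨k, _, hk⟩ := (Nat.dvd_prime_pow hp).mp h5
    exact ⟨k, by rw [he, hk, mul_comm]⟩

end Cfsg.Agent.S4798
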