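import Cfsg.Statements.S4870
import Cfsg.Agent.Lib.Helper4.TwistCount
import Cfsg.Agent.Lib.Helper7.CliffordCorr
import Cfsg.Agent.Lib.Helper7.PResChar
import Cfsg.Agent.Lib.Helper26.TIInd
import Cfsg.Agent.S4757
import Cfsg.Agent.S4798
import Cfsg.Agent.S0857

set_option autoImplicit false
open Cfsg

namespace Cfsg.Agent.S4870

open Cfsg.Agent.Lib.Helper26 Cfsg.Agent.Lib.Helper4 Cfsg.Agent.Lib.Helper7
open scoped ComplexConjugate

section

variable {G : Type*} [Group G]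

/-- a non-abelian minimal normal subgroup lies in the commutator subgroup -/
theorem le_commutator_of_minimal (N : Subgroup G) [hN : N.Normal]
    (hmin : ∀ M : Subgroup G, M.Normal → M ≤ N → M = ⊥ ∨ M = N) (hna : ¬ IsMulCommutative ↥N) :
    N ≤ commutator G := by
  have hM : (⁅N, N⁆ : Subgroup G).Normal := Subgroup.commutator_normal N N
  have hle : ⁅N, N⁆ ≤ N := Subgroup.commutator_le_right N N
  rcases hmin _ hM hle with h | h
  · exfalso
    apply hna
    rw [Subgroup.commutator_eq_bot_iff_le_centralizer] at h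
    refine ⟨⟨fun a b => ?_⟩⟩
    apply Subtype.ext
    have := h a.2 b b.2
    rw [Subgroup.coe_mul, Subgroup.coe_mul]
    exact this.symm
  · rw [commutator_def]
    calc N = ⁅N, N⁆ := h.symm
      _ ≤ ⁅(⊤ : Subgroup G), ⊤⁆ := Subgroup.commutator_mono le_top le_top

variable [Fintype G]

/-- the norm of a sum of distinct irreducible characters -/
theorem classInner_sum_irr {H : Type*} [Group H] [Fintype H] (T : Finset (H → ℂ))
    (hT : ∀ a ∈ T, Cfsg.IsIrrCharacter H a) :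
    Cfsg.classInner (∑ a ∈ T, a) (∑ b ∈ T, b) = (T.card : ℂ) := by
  classical
  rw [classInner_sum_left]
  have h1 : ∀ a ∈ T, Cfsg.classInner a (∑ b ∈ T, b) = 1 := by
    intro a ha
    rw [classInner_sum_right]
    have h2 : ∀ b ∈ T, Cfsg.classInner a b = if a = b then 1 else 0 := fun b hb =>
      Cfsg.Agent.Lib.Helper26.classInner_irr (hT a ha) (hT b hb)
    rw [Finset.sum_congr rfl h2, Finset.sum_ite_eq T a, if_pos ha]
  rw [Finset.sum_congr rfl h1]
  simp

end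


/-- Let G be a finite group with a non-abelian minimal normal subgroup N, and let φ be an irreducible complex character of N with stabilizer I in G (the elements g with φ(g n g⁻¹) = φ(n) for all n ∈ N) such that φ extends to an irreducible character of I. Put d = φ(1)·[G : I]. Then the number of linear characters of G is at most [G : I] times the number of irreducible characters of G of degree d. -/
theorem result {G : Type*} [Group G] [Finite G] (N : Subgroup G) (hN : N.Normal) (hN1 : N ≠ ⊥) (hmin : ∀ M : Subgroup G, M.Normal → M ≤ N → M = ⊥ ∨ M = N) (hna : ¬ IsMulCommutative ↥N) (φ : Cfsg.IrrCharacter ↥N) (I : Subgroup G) (hI : ∀ g : G, g ∈ I ↔ ∀ n n' : ↥N, (n' : G) = g * (n : G) * g⁻¹ → (φ : ↥N → ℂ) n' = (φ : ↥N → ℂ) n) (hNI : N ≤ I) (hext : ∃ ψ : Cfsg.IrrCharacter ↥I, ∀ n : ↥N, (ψ : ↥I → ℂ) (Subgroup.inclusion hNI n) = (φ : ↥N → ℂ) n) : Nat.card {χ : Cfsg.IrrCharacter G // Cfsg.charDegree (χ : G → ℂ) = 1} ≤ I.index * Nat.card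 {χ : Cfsg.IrrCharacter G // Cfsg.charDegree (χ : G → ℂ) = Cfsg.charDegree (φ : ↥N → ℂ) * I.index} := by
  classical
  have : Fintype G := Fintype.ofFinite G
  haveI := hN
  have : Fintype ↥N := Fintype.ofFinite _
  have : Fintype ↥I := Fintype.ofFinite _
  have : Fintype (Cfsg.IrrCharacter G) := Fintype.ofFinite _
  obtain ⟨ψ, hψ⟩ := hext
  have hNcomm := le_commutator_of_minimal N hmin hna
  -- the inertia condition in the form of the Clifford library
  have hT : ∀ g : G, g ∈ I ↔ ∀ n : ↥N,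
      (φ : ↥N → ℂ) ⟨g * n * g⁻¹, hN.conj_mem (n : G) n.2 g⟩ = (φ : ↥N → ℂ) n := by
    intro g
    rw [hI g]
    constructor
    · intro h n
      exact h n _ rfl
    · intro h n n' hn'
      have : n' = ⟨g * n * g⁻¹, hN.conj_mem (n : G) n.2 g⟩ := Subtype.ext hn'
      rw [this]
      exact h n
  have hψN : (fun n : ↥N => (ψ : ↥I → ℂ) ⟨(n : G), hNI n.2⟩) = (φ : ↥N → ℂ) := by
    funext n
    exact hψ n
  have hφφ : Cfsg.classInner (φ : ↥N → ℂ) (φ : ↥N → ℂ) = 1 := by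
    have := Cfsg.Agent.Lib.Helper26.classInner_irr φ.2 φ.2
    rwa [if_pos rfl] at this
  have hcon : Cfsg.classInner (fun n : ↥N => (ψ : ↥I → ℂ) ⟨(n : G), hNI n.2⟩) (φ : ↥N → ℂ) ≠ 0 := by
    rw [hψN, hφφ]
    exact one_ne_zero
  obtain ⟨hφ1, -, hφpos⟩ := Cfsg.Agent.S4798.charDegree_irr φ
  have hψ1 : (ψ : ↥I → ℂ) 1 = (Cfsg.charDegree (φ : ↥N → ℂ) : ℂ) := by
    rw [← hφ1]
    have := hψ 1
    rw [← this]
    congr 1
  have hIcard : (Nat.card ↥I : ℂ) ≠ 0 := by
    have : Nat.card ↥I ≠ 0 := Nat.card_pos.ne'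
    exact_mod_cast this
  -- the induced character and its degree
  have hχ₀1 : Cfsg.indFun I (ψ : ↥I → ℂ) 1 =
      ((Cfsg.charDegree (φ : ↥N → ℂ) * I.index : ℕ) : ℂ) := by
    rw [indFun_one, hψ1, ← Nat.card_eq_fintype_card, ← Subgroup.card_mul_index I]
    push_cast
    field_simp
  have hχ₀c : Cfsg.IsCharacter G (Cfsg.indFun I (ψ : ↥I → ℂ)) :=
    isCharacter_indFun I (isCharacter_of_isIrrCharacter ψ.2)
  have hdpos : Cfsg.charDegree (φ : ↥N → ℂ) * I.index ≠ 0 :=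
    Nat.mul_ne_zero hφpos.ne' (Subgroup.index_ne_zero_of_finite)
  have hχ₀ne : Cfsg.indFun I (ψ : ↥I → ℂ) 1 ≠ 0 := by
    rw [hχ₀1]
    exact_mod_cast hdpos
  obtain ⟨μ, hμ⟩ := exists_constituent hχ₀c hχ₀ne
  obtain ⟨hμeq, hμN, -⟩ := corr_main N I hNI (φ : ↥N → ℂ) φ.2 hT (ψ : ↥I → ℂ) ψ.2 hcon
    (μ : G → ℂ) μ.2 hμ
  have hχ₀irr : Cfsg.IsIrrCharacter G (Cfsg.indFun I (ψ : ↥I → ℂ)) := hμeq ▸ μ.2
  have hconst : Cfsg.classInner ((Cfsg.indFun I (ψ : ↥I → ℂ)) ∘ N.subtype) (φ : ↥N → ℂ) = 1 := by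
    rw [← hμeq]
    show Cfsg.classInner (fun n : ↥N => (μ : G → ℂ) n) (φ : ↥N → ℂ) = 1
    rw [hμN, hψN, hφφ]
  -- the norm of the restriction to N
  have hnorm : Cfsg.classInner ((Cfsg.indFun I (ψ : ↥I → ℂ)) ∘ N.subtype)
      ((Cfsg.indFun I (ψ : ↥I → ℂ)) ∘ N.subtype) = (I.index : ℂ) := by
    have hcl := clifford_restrict N hχ₀irr φ.2 (by rw [hconst]; exact one_ne_zero)
    rw [hconst, one_smul] at hcl
    rw [hcl, classInner_sum_irr, card_conj_image N (φ : ↥N → ℂ) I hT]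
    intro a ha
    obtain ⟨g, -, rfl⟩ := Finset.mem_image.mp ha
    exact isIrrCharacter_conjFunN N φ.2 g
  -- linear characters
  have hlin : ∀ lam : Cfsg.IrrCharacter G, Cfsg.charDegree (lam : G → ℂ) = 1 →
      ∃ m : G →* ℂˣ, ∀ g : G, (lam : G → ℂ) g = ((m g : ℂˣ) : ℂ) := by
    intro lam h
    apply Cfsg.Agent.S4757.exists_hom_of_linear lam
    rw [(Cfsg.Agent.S4798.charDegree_irr lam).1, h, Nat.cast_one]
  have hlinN : ∀ lam : Cfsg.IrrCharacter G, Cfsg.charDegree (lam : G → ℂ) = 1 →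
      ∀ n : ↥N, (lam : G → ℂ) n = 1 := by
    intro lam h n
    obtain ⟨m, hm⟩ := hlin lam h
    rw [hm]
    have h1 : (n : G) ∈ m.ker := Abelianization.commutator_subset_ker m (hNcomm n.2)
    rw [MonoidHom.mem_ker] at h1
    rw [h1]
    rfl
  have htw : ∀ lam : Cfsg.IrrCharacter G, Cfsg.charDegree (lam : G → ℂ) = 1 →
      Cfsg.IsIrrCharacter G (fun g => (lam : G → ℂ) g * Cfsg.indFun I (ψ : ↥I → ℂ) g) := by
    intro lam h
    obtain ⟨m, hm⟩ := hlin lam h
    have := Cfsg.Agent.S0857.isIrr_twist m _ hχ₀irr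
    have h2 : (fun g => (lam : G → ℂ) g * Cfsg.indFun I (ψ : ↥I → ℂ) g) =
        fun k => ((m k : ℂˣ) : ℂ) * Cfsg.indFun I (ψ : ↥I → ℂ) k := by
      funext g
      rw [hm]
    rw [h2]
    exact this
  have htwdeg : ∀ lam : Cfsg.IrrCharacter G, Cfsg.charDegree (lam : G → ℂ) = 1 →
      Cfsg.charDegree (fun g => (lam : G → ℂ) g * Cfsg.indFun I (ψ : ↥I → ℂ) g) =
        Cfsg.charDegree (φ : ↥N → ℂ) * I.index := by
    intro lam h
    apply charDegree_eq_of
    show (lam : G → ℂ) 1 * Cfsg.indFun I (ψ : ↥I → ℂ) 1 = _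
    rw [(Cfsg.Agent.S4798.charDegree_irr lam).1, h, Nat.cast_one, one_mul, hχ₀1]
  -- the map
  let f : {χ : Cfsg.IrrCharacter G // Cfsg.charDegree (χ : G → ℂ) = 1} →
      {χ : Cfsg.IrrCharacter G // Cfsg.charDegree (χ : G → ℂ) =
        Cfsg.charDegree (φ : ↥N → ℂ) * I.index} := fun lam =>
    ⟨⟨fun g => (lam.1 : G → ℂ) g * Cfsg.indFun I (ψ : ↥I → ℂ) g, htw lam.1 lam.2⟩,
      htwdeg lam.1 lam.2⟩
  have : Fintype {χ : Cfsg.IrrCharacter G // Cfsg.charDegree (χ : G → ℂ) = 1} :=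
    Fintype.ofFinite _
  have : Fintype {χ : Cfsg.IrrCharacter G // Cfsg.charDegree (χ : G → ℂ) =
        Cfsg.charDegree (φ : ↥N → ℂ) * I.index} := Fintype.ofFinite _
  rw [Nat.card_eq_fintype_card, Nat.card_eq_fintype_card]
  have hmain := Finset.card_le_mul_card_image (f := f) Finset.univ I.index (by
    intro y _
    -- the fibre over y
    have hinj : ((Finset.univ.filter fun x => f x = y).image Subtype.val).card =
        (Finset.univ.filter fun x => f x = y).card :=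
      Finset.card_image_of_injective _ Subtype.val_injective
    rw [← hinj]
    apply card_twist_le N (Cfsg.indFun I (ψ : ↥I → ℂ)) hχ₀c (y.1 : G → ℂ) y.1.2 _ _ I.index hnorm
    intro lam hlam
    obtain ⟨lam', hlam', rfl⟩ := Finset.mem_image.mp hlam
    rw [Finset.mem_filter] at hlam'
    refine ⟨hlinN lam'.1 lam'.2, ?_⟩
    have := congrArg (fun z => (z.1 : G → ℂ)) hlam'.2
    exact this)
  calc Fintype.card {χ : Cfsg.IrrCharacter G // Cfsg.charDegree (χ : G → ℂ) = 1}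
      = (Finset.univ : Finset {χ : Cfsg.IrrCharacter G //
          Cfsg.charDegree (χ : G → ℂ) = 1}).card := rfl
    _ ≤ I.index * (Finset.univ.image f).card := hmain
    _ ≤ I.index * Fintype.card {χ : Cfsg.IrrCharacter G // Cfsg.charDegree (χ : G → ℂ) =
        Cfsg.charDegree (φ : ↥N → ℂ) * I.index} :=
      Nat.mul_le_mul_left _ (Finset.card_le_univ _)

end Cfsg.Agent.S4870
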