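import Cfsg.Statements.S0932
import Cfsg.Agent.Lib.Helper26.TIInd

set_option autoImplicit false
open Cfsg

namespace Cfsg.Agent.S0932

/-- Let H be a subgroup of the finite group G and ξ a character of H. For every g ∈ G, the sum of ξ h / ξ 1 over the elements h ∈ H that are conjugate in G to g equals the central character at g of the character of G induced from ξ (class size times value divided by degree). -/
theorem result {G : Type*} [Group G] [Fintype G] (H : Subgroup G) (ξ : H → ℂ) (hξ : Cfsg.IsCharacter H ξ) (g : G) : Cfsg.inducedCentralChar H ξ g = Cfsg.centralChar (Cfsg.indFun H ξ) g := by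
  classical
  have : Fintype H := Fintype.ofFinite H
  unfold Cfsg.inducedCentralChar Cfsg.centralChar
  -- count the x with x⁻¹ g x = y
  have hcount : ∀ y : G, ((Finset.univ.filter (fun x : G => x⁻¹ * g * x = y)).card : ℂ) =
      if IsConj g y then (Nat.card (Subgroup.centralizer ({g} : Set G)) : ℂ) else 0 := by
    intro y
    by_cases hy : IsConj g y
    · rw [if_pos hy]
      obtain ⟨c, hc⟩ := isConj_iff.mp hy
      congr 1
      rw [← Nat.card_eq_finsetCard]
      refine Nat.card_congr ⟨fun x => ⟨x.1 * c, ?_⟩, fun z => ⟨z.1 * c⁻¹, ?_⟩, ?_, ?_⟩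
      · rw [Subgroup.mem_centralizer_iff]
        intro k hk
        rw [Set.mem_singleton_iff] at hk
        subst hk
        have hx0 := (Finset.mem_filter.mp x.2).2
        have hx : x.1⁻¹ * k * x.1 = c * k * c⁻¹ := hx0.trans hc.symm
        -- x⁻¹ k x = c k c⁻¹  ⟹  k (x c) = (x c) k
        have : k = x.1 * (c * k * c⁻¹) * x.1⁻¹ := by rw [← hx]; group
        calc k * (x.1 * c) = (x.1 * (c * k * c⁻¹) * x.1⁻¹) * (x.1 * c) := by rw [← this]
          _ = x.1 * c * k := by group
      · rw [Finset.mem_filter]
        refine ⟨Finset.mem_univ _, ?_⟩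
        have hz := Subgroup.mem_centralizer_iff.mp z.2 g (Set.mem_singleton g)
        rw [← hc]
        calc (z.1 * c⁻¹)⁻¹ * g * (z.1 * c⁻¹) = c * (z.1⁻¹ * (g * z.1)) * c⁻¹ := by group
          _ = c * (z.1⁻¹ * (z.1 * g)) * c⁻¹ := by rw [hz]
          _ = c * g * c⁻¹ := by group
      · intro x; apply Subtype.ext; simp
      · intro z; apply Subtype.ext; simp
    · rw [if_neg hy]
      have : Finset.univ.filter (fun x : G => x⁻¹ * g * x = y) = ∅ := by
        rw [Finset.filter_eq_empty_iff]
        intro x _ hx
        apply hy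
        rw [isConj_iff]
        exact ⟨x⁻¹, by rw [inv_inv]; exact hx⟩
      rw [this]; simp
  -- the key sum
  have hext : ∀ y : G, Cfsg.extendByZero H ξ y = ∑ h : H, if (h : G) = y then ξ h else 0 := by
    intro y
    by_cases hy : y ∈ H
    · rw [Cfsg.Agent.Lib.Helper26.extendByZero_apply_mem H ξ y hy]
      rw [Finset.sum_eq_single ⟨y, hy⟩]
      · simp
      · intro b _ hb
        rw [if_neg]
        intro h; apply hb; exact Subtype.ext h
      · intro h; exact absurd (Finset.mem_univ _) h
    · rw [Cfsg.Agent.Lib.Helper26.extendByZero_apply_not_mem H ξ y hy]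
      symm
      apply Finset.sum_eq_zero
      intro h _
      rw [if_neg]
      intro hh; apply hy; rw [← hh]; exact h.2
  have key : ∑ x : G, Cfsg.extendByZero H ξ (x⁻¹ * g * x) =
      (Nat.card (Subgroup.centralizer ({g} : Set G)) : ℂ) *
        ∑ h : H, if IsConj g (h : G) then ξ h else 0 := by
    simp_rw [hext]
    rw [Finset.sum_comm, Finset.mul_sum]
    refine Finset.sum_congr rfl fun h _ => ?_
    have : ∀ x : G, (if (h : G) = x⁻¹ * g * x then ξ h else 0) =
        (if x⁻¹ * g * x = (h : G) then 1 else 0) * ξ h := by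
      intro x
      by_cases hx : x⁻¹ * g * x = (h : G)
      · rw [if_pos hx, if_pos hx.symm, one_mul]
      · rw [if_neg hx, if_neg (fun h' => hx h'.symm), zero_mul]
    simp_rw [this]
    rw [← Finset.sum_mul, Finset.sum_boole, hcount]
    by_cases hh : IsConj g (h : G)
    · rw [if_pos hh, if_pos hh]
    · rw [if_neg hh, if_neg hh, zero_mul, mul_zero]
  -- the left side as a finite sum
  have hlhs : ∑ᶠ h ∈ {h : H | IsConj g (h : G)}, ξ h / ξ 1 =
      (∑ h : H, if IsConj g (h : G) then ξ h else 0) / ξ 1 := by
    rw [finsum_mem_eq_finite_toFinset_sum _ (Set.toFinite _), Finset.sum_div]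
    have hS : (Set.toFinite {h : H | IsConj g (h : G)}).toFinset =
        Finset.univ.filter (fun h : H => IsConj g (h : G)) := by
      ext h; simp
    rw [hS, Finset.sum_filter]
    refine Finset.sum_congr rfl fun h _ => ?_
    by_cases hh : IsConj g (h : G)
    · rw [if_pos hh, if_pos hh]
    · rw [if_neg hh, if_neg hh, zero_div]
  rw [hlhs, Cfsg.Agent.Lib.Helper26.indFun_one]
  unfold Cfsg.indFun
  rw [key]
  have hH : (Nat.card H : ℂ) ≠ 0 := by
    have : 0 < Nat.card H := Nat.card_pos
    exact_mod_cast this.ne'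
  have hG : (Fintype.card G : ℂ) ≠ 0 := by
    have : 0 < Fintype.card G := Fintype.card_pos
    exact_mod_cast this.ne'
  have hidx : ((Subgroup.centralizer ({g} : Set G)).index : ℂ) *
      (Nat.card (Subgroup.centralizer ({g} : Set G)) : ℂ) = (Fintype.card G : ℂ) := by
    rw [← Nat.cast_mul, mul_comm, Subgroup.card_mul_index, Nat.card_eq_fintype_card]
  by_cases hξ1 : ξ 1 = 0
  · rw [hξ1]; simp
  · rw [← hidx]
    have hC : (Nat.card (Subgroup.centralizer ({g} : Set G)) : ℂ) ≠ 0 := by
      have : 0 < Nat.card (Subgroup.centralizer ({g} : Set G)) := Nat.card_pos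
      exact_mod_cast this.ne'
    have hI : ((Subgroup.centralizer ({g} : Set G)).index : ℂ) ≠ 0 := by
      have : (Subgroup.centralizer ({g} : Set G)).index ≠ 0 := Subgroup.index_ne_zero_of_finite
      exact_mod_cast this
    field_simp

end Cfsg.Agent.S0932
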