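import Cfsg.Statements.S0933
import Cfsg.Agent.Lib.Helper4.BlockIdem
import Cfsg.Agent.S0932

set_option autoImplicit false
open Cfsg

namespace Cfsg.Agent.S0933

open Cfsg.Agent.Lib.Helper26 Cfsg.Agent.Lib.Helper4 Cfsg.Agent.Lib.Helper28
open scoped ComplexConjugate

/-- the induced central character as a weighted sum over the subgroup -/
theorem inducedCentralChar_eq_sum {G : Type*} [Group G] (H : Subgroup G) [Fintype H]
    (ξ : H → ℂ) (g : G) [DecidablePred fun h : H => IsConj g (h : G)] :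
    Cfsg.inducedCentralChar H ξ g =
      ∑ h : H, (if IsConj g (h : G) then (1 : ℂ) else 0) * (ξ h / ξ 1) := by
  unfold Cfsg.inducedCentralChar
  rw [finsum_mem_eq_finite_toFinset_sum _ (Set.toFinite _)]
  rw [← Finset.sum_filter_add_sum_filter_not Finset.univ (fun h : H => IsConj g (h : G))
    (fun h => (if IsConj g (h : G) then (1 : ℂ) else 0) * (ξ h / ξ 1))]
  have h2 : ∑ h ∈ Finset.univ.filter (fun h : H => ¬ IsConj g (h : G)),
      (if IsConj g (h : G) then (1 : ℂ) else 0) * (ξ h / ξ 1) = 0 := by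
    apply Finset.sum_eq_zero
    intro h hh
    rw [Finset.mem_filter] at hh
    rw [if_neg hh.2, zero_mul]
  rw [h2, add_zero]
  have h3 : (Set.toFinite {h : H | IsConj g (h : G)}).toFinset =
      Finset.univ.filter (fun h : H => IsConj g (h : G)) := by
    ext h
    simp
  rw [h3]
  refine Finset.sum_congr rfl fun h hh => ?_
  rw [Finset.mem_filter] at hh
  rw [if_pos hh.2, one_mul]

/-- Let H be a subgroup of the finite group G and ξ an irreducible character of H such that the induced function ξ^G is an irreducible character of G. Then, relative to any maximal ideal M of the algebraic integers containing the prime p, the block of ξ induces the block of ξ^G. -/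
theorem result {G : Type*} [Group G] [Fintype G] (p : ℕ) [Fact p.Prime] (M : Ideal Cfsg.AlgInt) (hM : Cfsg.IsPModular p M) (H : Subgroup G) (ξ : Cfsg.IrrCharacter H) (hind : Cfsg.IsIrrCharacter G (Cfsg.indFun H (ξ : H → ℂ))) : Cfsg.IsInducedBlock M H (Cfsg.blockOf M (ξ : H → ℂ)) (Cfsg.blockOf M (Cfsg.indFun H (ξ : H → ℂ))) := by
  classical
  have : Fintype H := Fintype.ofFinite _
  have hprime : M.IsPrime := hM.2.1.isPrime
  refine ⟨⟨ξ, rfl⟩, ⟨⟨Cfsg.indFun H (ξ : H → ℂ), hind⟩, rfl⟩, ?_⟩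
  intro ξ' hξ' χ hχ g
  have hsb1 : SameBlock M (ξ : H → ℂ) (ξ' : H → ℂ) := hξ'
  have hsb2 : SameBlock M (Cfsg.indFun H (ξ : H → ℂ)) (χ : G → ℂ) := hχ
  have hcf : IsClassFunction H (fun h : H => if IsConj g (h : G) then (1 : ℂ) else 0) := by
    intro h k
    have h1 : IsConj ((h : G)) ((k * h * k⁻¹ : H) : G) := isConj_iff.mpr ⟨(k : G), rfl⟩
    have hiff : IsConj g ((k * h * k⁻¹ : H) : G) ↔ IsConj g (h : G) :=
      ⟨fun h2 => h2.trans h1.symm, fun h2 => h2.trans h1⟩
    show (if IsConj g ((k * h * k⁻¹ : H) : G) then (1 : ℂ) else 0) = _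
    simp only [hiff]
  have h1 := sameBlock_weighted p M hM (ξ' : H → ℂ) (ξ : H → ℂ)
    (Cfsg.Agent.Lib.Helper26.isClassFunction_of_isIrrCharacter ξ'.2)
    (Cfsg.Agent.Lib.Helper26.isClassFunction_of_isIrrCharacter ξ.2) (sameBlock_symm hsb1)
    (fun h : H => if IsConj g (h : G) then (1 : ℂ) else 0) hcf 1 (Nat.coprime_one_left p) (by
      intro h
      split_ifs
      · simp only [Nat.cast_one, mul_one]
        exact isIntegral_one
      · simp only [mul_zero]
        exact isIntegral_zero)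
  rw [← inducedCentralChar_eq_sum H (ξ' : H → ℂ) g, ← inducedCentralChar_eq_sum H (ξ : H → ℂ) g] at h1
  have h2 := Cfsg.Agent.S0932.result H (ξ : H → ℂ) (isCharacter_of_isIrrCharacter ξ.2) g
  have h3 := hsb2 g
  have h4 : Cfsg.inducedCentralChar H (ξ' : H → ℂ) g - Cfsg.centralChar (χ : G → ℂ) g =
      (Cfsg.inducedCentralChar H (ξ' : H → ℂ) g - Cfsg.inducedCentralChar H (ξ : H → ℂ) g) +
      (Cfsg.centralChar (Cfsg.indFun H (ξ : H → ℂ)) g - Cfsg.centralChar (χ : G → ℂ) g) := by
    rw [h2]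
    ring
  rw [h4]
  exact memLocalIdeal_add h1 h3

end Cfsg.Agent.S0933
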