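import Cfsg.Statements.S4493
import Cfsg.Agent.S0169
import Cfsg.Agent.S0854
import Cfsg.Agent.S0900
import Cfsg.Agent.Lib.Helper7.CliffordCorr
import Cfsg.Agent.Lib.Helper4.CharIntegral
import Cfsg.Agent.Lib.Helper4.CharOrtho
import Cfsg.Agent.Lib.Helper24.LinBridge
import Cfsg.Agent.Lib.Helper26.Fourier

set_option autoImplicit false
open Cfsg

namespace Cfsg.Agent.S4493

open Cfsg.Agent.Lib.Helper26 Cfsg.Agent.Lib.Helper2 Cfsg.Agent.Lib.Helper7 Cfsg.Agent.Lib.Helper4
open scoped ComplexConjugate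

universe u

section Lemmas
variable {G : Type*} [Group G] [Fintype G]

/-- the degree of a constituent of the restriction to a normal subgroup divides the degree -/
theorem degree_dvd_of_constituent (N : Subgroup G) [hN : N.Normal] [Fintype N]
    (χ : G → ℂ) (hχ : IsIrrCharacter G χ) (θ : N → ℂ) (hθ : IsIrrCharacter N θ)
    (hcon : classInner (fun n : N => χ n) θ ≠ 0) : ∃ m : ℕ, χ 1 = (m : ℂ) * θ 1 := by
  classical
  have hcl := clifford_restrict N hχ hθ hcon
  obtain ⟨e, he⟩ := classInner_isCharacter_nat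
    (isCharacter_comp_hom (isCharacter_of_isIrrCharacter hχ) N.subtype)
    (isCharacter_of_isIrrCharacter hθ)
  have h1 := congrFun hcl 1
  rw [he] at h1
  simp only [Function.comp_apply, Pi.smul_apply, Finset.sum_apply, smul_eq_mul] at h1
  have h2 : ∀ ψ ∈ Finset.univ.image (conjFunN N θ), ψ 1 = θ 1 := by
    intro ψ hψ
    obtain ⟨g, -, rfl⟩ := Finset.mem_image.mp hψ
    unfold conjFunN
    congr 1
    apply Subtype.ext; simp
  rw [Finset.sum_congr rfl h2, Finset.sum_const, nsmul_eq_mul] at h1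
  refine ⟨e * (Finset.univ.image (conjFunN N θ)).card, ?_⟩
  have h3 : χ 1 = χ (N.subtype 1) := by simp
  rw [h3, h1]
  push_cast
  ring

/-- every irreducible character of a normal subgroup lies under an irreducible character -/
theorem exists_over (N : Subgroup G) [hN : N.Normal] [Fintype N] (θ : N → ℂ)
    (hθ : IsIrrCharacter N θ) :
    ∃ χ : IrrCharacter G, classInner (fun n : N => (χ : G → ℂ) n) θ ≠ 0 := by
  classical
  have hθc := isCharacter_of_isIrrCharacter hθ
  have hIc : IsCharacter G (indFun N θ) := isCharacter_indFun N hθc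
  obtain ⟨d, hd, hd1⟩ := irr_degree hθ
  have hI1 : indFun N θ 1 ≠ 0 := by
    rw [indFun_one, hd1]
    have hH0 : (Nat.card N : ℂ) ≠ 0 := Nat.cast_ne_zero.mpr Nat.card_pos.ne'
    have hG0 : (Fintype.card G : ℂ) ≠ 0 := Nat.cast_ne_zero.mpr Fintype.card_pos.ne'
    have hd0 : (d : ℂ) ≠ 0 := Nat.cast_ne_zero.mpr hd.ne'
    exact mul_ne_zero (inv_ne_zero hH0) (mul_ne_zero hG0 hd0)
  obtain ⟨χ, hχ⟩ := exists_constituent hIc hI1
  refine ⟨χ, ?_⟩
  obtain ⟨m, hm1, hm2⟩ := Cfsg.Agent.S0900.ind_coeff N θ hθc χ (isCharacter_of_isIrrCharacter χ.2)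
  rw [hm2]
  rw [hm1] at hχ
  exact hχ

/-- a group all of whose irreducible characters are linear is abelian -/
theorem comm_of_all_linear (h : ∀ θ : IrrCharacter G, (θ : G → ℂ) 1 = 1) :
    ∀ a b : G, a * b = b * a := by
  classical
  have : Fintype (IrrCharacter G) := Fintype.ofFinite _
  have hsum := sum_sq_degree (G := G)
  simp only [h, one_pow, Finset.sum_const, Finset.card_univ, nsmul_eq_mul, mul_one] at hsum
  have h1 : Fintype.card (IrrCharacter G) = Nat.card G := by exact_mod_cast hsum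
  have h2 : Nat.card (ConjClasses G) = Nat.card G := by
    rw [← card_irr_eq_card_conjClasses, Nat.card_eq_fintype_card, h1]
  have h3 : commProb G = 1 := by
    rw [commProb_def', h2]
    have : (Nat.card G : ℚ) ≠ 0 := Nat.cast_ne_zero.mpr Nat.card_pos.ne'
    field_simp
  have h4 := (commProb_eq_one_iff (M := G)).mp h3
  intro a b
  exact h4.is_comm.comm a b

/-- a constituent over a non-invariant character of a normal subgroup of `p`-power index has
degree divisible by `p` -/
theorem p_dvd_of_not_invariant (M : Subgroup G) [hM : M.Normal] [Fintype M] (p : ℕ)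
    (hp : p.Prime) (n : ℕ) (hidx : M.index = p ^ n) (lam : M → ℂ) (hlam : IsIrrCharacter M lam)
    (hx : ¬ ∀ (x : G) (m : M), lam ⟨x * m * x⁻¹, hM.conj_mem (m : G) m.2 x⟩ = lam m)
    (ψ : G → ℂ) (hψ : IsIrrCharacter G ψ)
    (hcon : classInner (fun m : M => ψ m) lam ≠ 0) : ∃ d : ℕ, ψ 1 = ((p * d : ℕ) : ℂ) := by
  classical
  have hlamcf := Cfsg.Agent.Lib.Helper26.isClassFunction_of_isCharacter (isCharacter_of_isIrrCharacter hlam)
  have hT := Cfsg.Agent.S0169.mem_inertia M lam
  have hMT : M ≤ Cfsg.Agent.S0169.inertia M lam := Cfsg.Agent.S0169.le_inertia M lam hlamcf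
  haveI : Fintype (Cfsg.Agent.S0169.inertia M lam) := Fintype.ofFinite _
  obtain ⟨ξ, hξ, hξind, -⟩ :=
    Cfsg.Agent.S0854.result M lam hlam (Cfsg.Agent.S0169.inertia M lam) hT hMT ψ hψ hcon
  obtain ⟨d', hd', hd1'⟩ := irr_degree hξ
  have hTne : Cfsg.Agent.S0169.inertia M lam ≠ ⊤ := by
    intro htop
    apply hx
    intro x
    exact (hT x).mp (by rw [htop]; exact Subgroup.mem_top x)
  have hdvd : (Cfsg.Agent.S0169.inertia M lam).index ∣ p ^ n := by
    rw [← hidx]; exact Subgroup.index_dvd_of_le hMT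
  obtain ⟨j, -, hj⟩ := (Nat.dvd_prime_pow hp).mp hdvd
  have hj0 : j ≠ 0 := by
    rintro rfl
    rw [pow_zero, Subgroup.index_eq_one] at hj
    exact hTne hj
  obtain ⟨j', rfl⟩ := Nat.exists_eq_succ_of_ne_zero hj0
  refine ⟨p ^ j' * d', ?_⟩
  rw [← hξind, indFun_one, hd1']
  have h6 : (Fintype.card G : ℂ) = ((Cfsg.Agent.S0169.inertia M lam).index : ℂ) *
      (Nat.card (Cfsg.Agent.S0169.inertia M lam) : ℂ) := by
    rw [← Nat.card_eq_fintype_card, ← (Cfsg.Agent.S0169.inertia M lam).index_mul_card]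
    push_cast; ring
  have hT0 : (Nat.card (Cfsg.Agent.S0169.inertia M lam) : ℂ) ≠ 0 :=
    Nat.cast_ne_zero.mpr Nat.card_pos.ne'
  rw [h6, hj]
  push_cast
  field_simp
  rw [pow_succ]
  ring

end Lemmas

theorem isIrr_of_hom {W : Type*} [Group W] (φ : W →* ℂˣ) :
    IsIrrCharacter W (fun w => ((φ w : ℂˣ) : ℂ)) :=
  ⟨1, Cfsg.Agent.Lib.Helper24.linRepH φ, isIrreducible_of_finrank_eq_one _ (by simp),
    funext (Cfsg.Agent.Lib.Helper24.linRepH_character φ)⟩

theorem main (p : ℕ) (hp : p.Prime) : ∀ (n : ℕ) (G : Type u) [Group G] [Finite G],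
    Nat.card G = n → Group.IsSolvable G →
    (∀ χ : IrrCharacter G, ¬ p ∣ charDegree (χ : G → ℂ)) →
    ∃ P : Subgroup G, P.Normal ∧ (∀ x ∈ P, ∀ y ∈ P, x * y = y * x) ∧ IsPGroup p P ∧
      ¬ p ∣ P.index := by
  intro n
  induction n using Nat.strong_induction_on with
  | _ n ih =>
  intro G _ _ hcard hsolv hdeg
  classical
  haveI : Fact p.Prime := ⟨hp⟩
  haveI : Fintype G := Fintype.ofFinite G
  by_cases htriv : (⊤ : Subgroup G) = ⊥
  · refine ⟨⊥, inferInstance, ?_, IsPGroup.of_bot, ?_⟩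
    · intro x hx y hy
      rw [Subgroup.mem_bot] at hx hy
      rw [hx, hy]
    · rw [← htriv, Subgroup.index_top]
      exact fun h => hp.one_lt.ne' (Nat.dvd_one.mp h)
  -- a minimal normal subgroup
  have hne : ({M : Subgroup G | M.Normal ∧ M ≠ ⊥}).Nonempty := ⟨⊤, inferInstance, htriv⟩
  obtain ⟨M, ⟨hMn, hMbot⟩, hMmin⟩ := (wellFounded_lt (α := Subgroup G)).has_min _ hne
  haveI := hMn
  haveI := hsolv
  have hMab : ⁅M, M⁆ = ⊥ := by
    by_contra h
    have hlt := Group.IsSolvable.commutator_lt_of_ne_bot hMbot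
    exact hMmin ⁅M, M⁆ ⟨inferInstance, h⟩ hlt
  have hMcomm : ∀ a ∈ M, ∀ b ∈ M, a * b = b * a := by
    intro a ha b hb
    have := Subgroup.commutator_mem_commutator ha hb
    rw [hMab, Subgroup.mem_bot, commutatorElement_eq_one_iff_mul_comm] at this
    exact this
  have hMcard : 1 < Nat.card M := (Subgroup.one_lt_card_iff_ne_bot M).mpr hMbot
  obtain ⟨q, hq, hqdvd⟩ := Nat.exists_prime_and_dvd (Nat.ne_of_gt hMcard)
  haveI : Fact q.Prime := ⟨hq⟩
  obtain ⟨m₀, hm₀⟩ := exists_prime_orderOf_dvd_card' (G := M) q hqdvd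
  let Ω : Subgroup G :=
    { carrier := {x | x ∈ M ∧ x ^ q = 1}
      one_mem' := ⟨M.one_mem, one_pow q⟩
      mul_mem' := by
        rintro a b ⟨ha, ha'⟩ ⟨hb, hb'⟩
        refine ⟨M.mul_mem ha hb, ?_⟩
        have hc : Commute a b := hMcomm a ha b hb
        rw [hc.mul_pow, ha', hb', one_mul]
      inv_mem' := by
        rintro a ⟨ha, ha'⟩
        exact ⟨M.inv_mem ha, by rw [inv_pow, ha', inv_one]⟩ }
  have hΩmem : ∀ x : G, x ∈ Ω ↔ x ∈ M ∧ x ^ q = 1 := fun x => Iff.rfl
  have hΩn : Ω.Normal := by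
    constructor
    intro x hx g
    obtain ⟨hxM, hxq⟩ := (hΩmem x).mp hx
    exact (hΩmem _).mpr ⟨hMn.conj_mem x hxM g, by rw [conj_pow, hxq, mul_one, mul_inv_cancel]⟩
  have hΩbot : Ω ≠ ⊥ := by
    intro h
    have h1 : (m₀ : G) ∈ Ω := by
      refine (hΩmem _).mpr ⟨m₀.2, ?_⟩
      have : m₀ ^ q = 1 := by rw [← hm₀]; exact pow_orderOf_eq_one m₀
      have h2 := congrArg (fun z : M => (z : G)) this
      simpa using h2
    rw [h, Subgroup.mem_bot] at h1
    have h3 : m₀ = 1 := Subtype.ext h1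
    rw [h3, orderOf_one] at hm₀
    exact hq.one_lt.ne' hm₀.symm
  have hΩM : Ω ≤ M := fun x hx => ((hΩmem x).mp hx).1
  have hΩeq : Ω = M := by
    by_contra hne'
    exact hMmin Ω ⟨hΩn, hΩbot⟩ (lt_of_le_of_ne hΩM hne')
  have hMq : ∀ x ∈ M, x ^ q = 1 := by
    intro x hx
    rw [← hΩeq] at hx
    exact ((hΩmem x).mp hx).2
  -- the quotient
  have hcardQ : Nat.card (G ⧸ M) < n := by
    rw [← hcard, ← M.index_mul_card]
    show M.index < M.index * Nat.card M
    have : 0 < M.index := Nat.pos_of_ne_zero M.index_ne_zero_of_finite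
    nlinarith
  have hdegQ : ∀ χ : IrrCharacter (G ⧸ M), ¬ p ∣ charDegree (χ : G ⧸ M → ℂ) := by
    intro χ
    have hirr := Cfsg.Agent.Lib.Helper2.isIrrCharacter_comp_of_surjective χ.2 (QuotientGroup.mk' M)
      (QuotientGroup.mk'_surjective M)
    have h1 := hdeg ⟨_, hirr⟩
    have h2 : charDegree ((χ : G ⧸ M → ℂ) ∘ (QuotientGroup.mk' M)) =
        charDegree (χ : G ⧸ M → ℂ) := by
      unfold charDegree
      simp
    rw [← h2]
    exact h1
  obtain ⟨Pbar, hPn, hPab, hPp, hPidx⟩ := ih _ hcardQ (G ⧸ M) rfl inferInstance hdegQ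
  set Q : Subgroup G := Pbar.comap (QuotientGroup.mk' M) with hQdef
  haveI hQn : Q.Normal := hPn.comap _
  have hQmem : ∀ x : G, x ∈ Q ↔ (QuotientGroup.mk x : G ⧸ M) ∈ Pbar := fun x => Iff.rfl
  have hMQ : M ≤ Q := by
    intro x hx
    rw [hQmem, (QuotientGroup.eq_one_iff x).mpr hx]
    exact Pbar.one_mem
  have hQidx : Q.index = Pbar.index :=
    Subgroup.index_comap_of_surjective _ (QuotientGroup.mk'_surjective M)
  have hQcomm : ∀ x ∈ Q, ∀ y ∈ Q, x * y * x⁻¹ * y⁻¹ ∈ M := by
    intro x hx y hy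
    rw [← QuotientGroup.eq_one_iff]
    have h1 := hPab _ ((hQmem x).mp hx) _ ((hQmem y).mp hy)
    simp only [QuotientGroup.mk_mul, QuotientGroup.mk_inv]
    rw [h1]
    group
  have hQp : ∀ x ∈ Q, ∃ k : ℕ, x ^ (p ^ k) ∈ M := by
    intro x hx
    obtain ⟨k, hk⟩ := hPp ⟨_, (hQmem x).mp hx⟩
    refine ⟨k, ?_⟩
    rw [← QuotientGroup.eq_one_iff]
    have := congrArg (fun z : Pbar => (z : G ⧸ M)) hk
    simpa using this
  haveI : Fintype Q := Fintype.ofFinite _
  by_cases hqp : q = p
  · subst hqp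
    have hQpg : IsPGroup q Q := by
      intro x
      obtain ⟨k, hk⟩ := hQp x x.2
      refine ⟨k + 1, ?_⟩
      apply Subtype.ext
      have := hMq _ hk
      rw [Subgroup.coe_pow, Subgroup.coe_one, pow_succ, pow_mul]
      exact this
    obtain ⟨nq, hnq⟩ := (IsPGroup.iff_card).mp hQpg
    have hlin : ∀ θ : IrrCharacter Q, (θ : Q → ℂ) 1 = 1 := by
      intro θ
      obtain ⟨χ, hχ⟩ := exists_over Q θ θ.2
      obtain ⟨m, hm⟩ := degree_dvd_of_constituent Q χ χ.2 θ θ.2 hχ
      obtain ⟨D, hD, hD1⟩ := irr_degree χ.2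
      obtain ⟨dθ, ρ, hirr, hρ⟩ := θ.2
      have hdvd := degree_dvd_card ρ hirr
      have hfin : Module.finrank ℂ (Fin dθ → ℂ) = dθ := by simp
      rw [hfin, hnq] at hdvd
      have hθ1 : (θ : Q → ℂ) 1 = dθ := by rw [← hρ]; simp
      obtain ⟨j, -, hj⟩ := (Nat.dvd_prime_pow hq).mp hdvd
      have hDeq : D = m * dθ := by
        have : (D : ℂ) = ((m * dθ : ℕ) : ℂ) := by rw [← hD1, hm, hθ1]; push_cast; ring
        exact_mod_cast this
      have hnd : ¬ q ∣ D := by
        have := hdeg χ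
        have h4 : charDegree (χ : G → ℂ) = D := by unfold charDegree; rw [hD1]; simp
        rwa [h4] at this
      have hj0 : j = 0 := by
        by_contra hj0
        apply hnd
        rw [hDeq, hj]
        exact Dvd.dvd.mul_left (dvd_pow_self q hj0) m
      rw [hθ1, hj, hj0, pow_zero]; simp
    have hQab := comm_of_all_linear hlin
    refine ⟨Q, hQn, ?_, hQpg, by rw [hQidx]; exact hPidx⟩
    intro x hx y hy
    have := hQab ⟨x, hx⟩ ⟨y, hy⟩
    exact congrArg Subtype.val this
  · haveI hM'n : (M.subgroupOf Q).Normal := Subgroup.normal_subgroupOf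
    haveI : Fintype (M.subgroupOf Q) := Fintype.ofFinite _
    have hQM : IsPGroup p (Q ⧸ M.subgroupOf Q) := by
      intro x
      induction x using QuotientGroup.induction_on with
      | H x =>
        obtain ⟨k, hk⟩ := hQp x x.2
        refine ⟨k, ?_⟩
        rw [← QuotientGroup.mk_pow, QuotientGroup.eq_one_iff]
        exact hk
    obtain ⟨nidx, hnidx⟩ := (IsPGroup.iff_card).mp hQM
    have hidx : (M.subgroupOf Q).index = p ^ nidx := hnidx
    have hM'comm : ∀ a b : M.subgroupOf Q, a * b = b * a := by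
      intro a b
      apply Subtype.ext; apply Subtype.ext
      exact hMcomm _ a.2 _ b.2
    have hcentral : ∀ x ∈ Q, ∀ m ∈ M, x * m = m * x := by
      intro x hx m hm
      by_contra hne
      set x' : Q := ⟨x, hx⟩ with hx'
      set m' : M.subgroupOf Q := ⟨⟨m, hMQ hm⟩, hm⟩ with hm'
      set c' : M.subgroupOf Q :=
        ⟨x' * m' * x'⁻¹, hM'n.conj_mem (m' : Q) m'.2 x'⟩ * m'⁻¹ with hc'
      have hc1 : c' ≠ 1 := by
        intro h
        apply hne
        have h1 := congrArg (fun z : M.subgroupOf Q => ((z : Q) : G)) h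
        simp only [hc', hx', hm', Subgroup.coe_mul, Subgroup.coe_inv, Subgroup.coe_one] at h1
        calc x * m = (x * m * x⁻¹ * m⁻¹) * (m * x) := by group
          _ = m * x := by rw [h1, one_mul]
      obtain ⟨φ, -, hφ⟩ := exists_char_trivial_on_ne_one hM'comm ⊥ (x := c')
        (by rwa [Subgroup.mem_bot])
      have hlam : IsIrrCharacter (M.subgroupOf Q) (fun w => ((φ w : ℂˣ) : ℂ)) := isIrr_of_hom φ
      have hninv : ¬ ∀ (y : Q) (w : M.subgroupOf Q),
          (fun w => ((φ w : ℂˣ) : ℂ)) ⟨y * w * y⁻¹, hM'n.conj_mem (w : Q) w.2 y⟩ =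
          (fun w => ((φ w : ℂˣ) : ℂ)) w := by
        intro hall
        have h1 := hall x' m'
        have h2 : (⟨x' * m' * x'⁻¹, hM'n.conj_mem (m' : Q) m'.2 x'⟩ : M.subgroupOf Q) =
            c' * m' := by
          rw [hc']; group
        rw [h2] at h1
        simp only [map_mul, Units.val_mul] at h1
        have h3 : ((φ m' : ℂˣ) : ℂ) ≠ 0 := Units.ne_zero _
        have h4 : ((φ c' : ℂˣ) : ℂ) = 1 :=
          mul_right_cancel₀ h3 (h1.trans (one_mul _).symm)
        exact hφ (Units.ext h4)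
      obtain ⟨ψ, hψ⟩ := exists_over (M.subgroupOf Q) _ hlam
      obtain ⟨d, hd⟩ := p_dvd_of_not_invariant (M.subgroupOf Q) p hp nidx hidx _ hlam hninv
        ψ ψ.2 hψ
      obtain ⟨χ, hχ⟩ := exists_over Q ψ ψ.2
      obtain ⟨mm, hmm⟩ := degree_dvd_of_constituent Q χ χ.2 ψ ψ.2 hχ
      apply hdeg χ
      have h4 : charDegree (χ : G → ℂ) = mm * (p * d) := by
        have h5 : ((mm : ℂ) * ((p * d : ℕ) : ℂ)) = ((mm * (p * d) : ℕ) : ℂ) := by push_cast; ring
        have h6 : ((χ : G → ℂ) 1).re = ((mm * (p * d) : ℕ) : ℝ) := by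
          rw [hmm, hd, h5]; exact Complex.natCast_re _
        unfold charDegree
        rw [h6]
        exact Nat.floor_natCast _
      rw [h4]
      exact ⟨mm * d, by ring⟩
    have hcenter : M.subgroupOf Q ≤ Subgroup.center Q := by
      intro w hw
      rw [Subgroup.mem_center_iff]
      intro y
      apply Subtype.ext
      have := hcentral y y.2 w hw
      simpa using this
    haveI : Group.IsNilpotent (Q ⧸ M.subgroupOf Q) := by
      let _ : CommGroup (Q ⧸ M.subgroupOf Q) :=
        { (inferInstance : Group (Q ⧸ M.subgroupOf Q)) with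
          mul_comm := by
            intro a b
            induction a using QuotientGroup.induction_on with
            | H a =>
              induction b using QuotientGroup.induction_on with
              | H b =>
                rw [← QuotientGroup.mk_mul, ← QuotientGroup.mk_mul, QuotientGroup.eq]
                have h1 := hQcomm _ (Q.inv_mem b.2) _ (Q.inv_mem a.2)
                show (((a * b)⁻¹ * (b * a) : Q) : G) ∈ M
                have h2 : (((a * b)⁻¹ * (b * a) : Q) : G) =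
                    (b : G)⁻¹ * (a : G)⁻¹ * (b : G)⁻¹⁻¹ * (a : G)⁻¹⁻¹ := by
                  simp only [Subgroup.coe_mul, Subgroup.coe_inv]; group
                rw [h2]; exact h1 }
      infer_instance
    have hQnil : Group.IsNilpotent Q :=
      Subgroup.isNilpotent_of_ker_le_center (QuotientGroup.mk' (M.subgroupOf Q))
        (by rw [QuotientGroup.ker_mk']; exact hcenter)
    obtain ⟨S⟩ : Nonempty (Sylow p Q) := inferInstance
    haveI hSn : (S : Subgroup Q).Normal := inferInstance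
    haveI hSc : (S : Subgroup Q).Characteristic := Sylow.characteristic_of_normal S hSn
    refine ⟨(S : Subgroup Q).map Q.subtype, ConjAct.normal_of_characteristic_of_normal,
      ?_, ?_, ?_⟩
    · rintro a ha b hb
      obtain ⟨a', ha', rfl⟩ := Subgroup.mem_map.mp ha
      obtain ⟨b', hb', rfl⟩ := Subgroup.mem_map.mp hb
      have hc : a' * b' * a'⁻¹ * b'⁻¹ ∈ (S : Subgroup Q) :=
        (S : Subgroup Q).mul_mem ((S : Subgroup Q).mul_mem ((S : Subgroup Q).mul_mem ha' hb')
          ((S : Subgroup Q).inv_mem ha')) ((S : Subgroup Q).inv_mem hb')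
      obtain ⟨k, hk⟩ := S.isPGroup' ⟨_, hc⟩
      have hk' : (a' * b' * a'⁻¹ * b'⁻¹ : Q) ^ (p ^ k) = 1 := by
        have := congrArg (fun z : (S : Subgroup Q) => (z : Q)) hk
        simpa using this
      have hcM : ((a' * b' * a'⁻¹ * b'⁻¹ : Q) : G) ∈ M := by
        have := hQcomm _ a'.2 _ b'.2
        simpa using this
      have hq' : (a' * b' * a'⁻¹ * b'⁻¹ : Q) ^ q = 1 := by
        apply Subtype.ext
        have := hMq _ hcM
        simpa using this
      have h1 : orderOf (a' * b' * a'⁻¹ * b'⁻¹ : Q) ∣ p ^ k := orderOf_dvd_of_pow_eq_one hk'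
      have h2 : orderOf (a' * b' * a'⁻¹ * b'⁻¹ : Q) ∣ q := orderOf_dvd_of_pow_eq_one hq'
      have hcop : Nat.Coprime (p ^ k) q :=
        Nat.Coprime.pow_left k ((Nat.coprime_primes hp hq).mpr (Ne.symm hqp))
      have h3 : orderOf (a' * b' * a'⁻¹ * b'⁻¹ : Q) = 1 :=
        Nat.Coprime.eq_one_of_dvd (Nat.Coprime.coprime_dvd_left h1 hcop) h2
      rw [orderOf_eq_one_iff] at h3
      have h4 : a' * b' = b' * a' := by
        calc a' * b' = (a' * b' * a'⁻¹ * b'⁻¹) * (b' * a') := by group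
          _ = b' * a' := by rw [h3, one_mul]
      have := congrArg (fun z : Q => (z : G)) h4
      simpa using this
    · exact S.isPGroup'.map Q.subtype
    · rw [Subgroup.index_map_subtype]
      intro hdvd
      rcases (Nat.Prime.dvd_mul hp).mp hdvd with h | h
      · exact S.not_dvd_index h
      · rw [hQidx] at h; exact hPidx h

/-- Let G be a finite solvable group and p a prime. Then G has a normal abelian Sylow p-subgroup if and only if no irreducible character degree of G is divisible by p. -/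
theorem result {G : Type*} [Group G] [Finite G] (hsolv : Group.IsSolvable G) (p : ℕ) (hp : p.Prime) : (∃ P : Subgroup G, P.Normal ∧ (∀ x ∈ P, ∀ y ∈ P, x * y = y * x) ∧ IsPGroup p P ∧ ¬ p ∣ P.index) ↔ ∀ χ : Cfsg.IrrCharacter G, ¬ p ∣ Cfsg.charDegree (χ : G → ℂ) := by
  constructor
  · rintro ⟨P, hPn, hPab, -, hPidx⟩ χ hdvd
    apply hPidx
    obtain ⟨n, ρ, hirr, hρ⟩ := χ.2
    haveI := hirr
    haveI := hPn
    have h1 := Cfsg.Agent.S0169.result ρ P hPab
    have hfin : Module.finrank ℂ (Fin n → ℂ) = n := by simp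
    rw [hfin] at h1
    have h2 : charDegree (χ : G → ℂ) = n := by
      have h3 : ((χ : G → ℂ) 1).re = (n : ℝ) := by
        rw [← hρ]; simp
      unfold charDegree
      rw [h3]
      exact Nat.floor_natCast _
    rw [h2] at hdvd
    exact hdvd.trans h1
  · intro h
    exact main p hp _ G rfl hsolv h

end Cfsg.Agent.S4493
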