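import Cfsg.Statements.S0966
import Cfsg.Agent.Lib.Helper4.BlockPassman
import Cfsg.Agent.Lib.Helper28.BlockWeakOrth
import Cfsg.Agent.S4493

set_option autoImplicit false
open Cfsg

namespace Cfsg.Agent.S0966

open Cfsg.Agent.Lib.Helper4 Cfsg.Agent.Lib.Helper28 Cfsg.Agent.Lib.Helper26
open scoped ComplexConjugate

/-- a `p`-regular element lies in every normal subgroup of `p`-power index -/
theorem mem_of_pRegular {G : Type*} [Group G] (p : ℕ) (hp : p.Prime) (N : Subgroup G) [N.Normal]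
    (hidx : ∃ k : ℕ, N.index = p ^ k) (g : G) (hg : ¬ p ∣ orderOf g) : g ∈ N := by
  obtain ⟨k, hk⟩ := hidx
  have h1 : g ^ (p ^ k) ∈ N := by
    rw [← hk]
    exact N.pow_index_mem g
  have hcop : (p ^ k).Coprime (orderOf g) :=
    Nat.Coprime.pow_left k ((Nat.Prime.coprime_iff_not_dvd hp).mpr hg)
  obtain ⟨m, hm⟩ := exists_pow_eq_self_of_coprime hcop
  rw [← hm]
  exact N.pow_mem h1 m

/-- two blocks covering the same block of a normal subgroup of `p`-power index coincide -/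
theorem unique_cover {G : Type*} [Group G] [Fintype G] (p : ℕ) (M : Ideal Cfsg.AlgInt)
    (hM : Cfsg.IsPModular p M) (N : Subgroup G) [hN : N.Normal] [Fintype N]
    (hidx : ∃ k : ℕ, N.index = p ^ k) (b : Set (Cfsg.IrrCharacter N)) (hb : Cfsg.IsPBlock M b)
    (B B' : Set (Cfsg.IrrCharacter G)) (hB : Cfsg.IsPBlock M B) (hB' : Cfsg.IsPBlock M B')
    (χ : Cfsg.IrrCharacter G) (hχ : χ ∈ B) (θ : Cfsg.IrrCharacter N) (hθ : θ ∈ b)
    (hcon : Cfsg.classInner ((χ : G → ℂ) ∘ N.subtype) (θ : N → ℂ) ≠ 0)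
    (χ' : Cfsg.IrrCharacter G) (hχ' : χ' ∈ B') (θ' : Cfsg.IrrCharacter N) (hθ' : θ' ∈ b)
    (hcon' : Cfsg.classInner ((χ' : G → ℂ) ∘ N.subtype) (θ' : N → ℂ) ≠ 0) : B' = B := by
  classical
  have hMprime : M.IsPrime := hM.2.1.isPrime
  have hMtop : M ≠ ⊤ := Ideal.IsPrime.ne_top hMprime
  have : Fintype (ConjClasses G) := Fintype.ofFinite _
  have : Fintype (IrrCharacter G) := Fintype.ofFinite _
  have hFcf : IsClassFunction G (blockCoeff B) := isClassFunction_blockCoeff B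
  have hFloc : ∀ g, MemLocalRing M (blockCoeff B g) := fun g => osima hB g
  have hF0 : ∀ g : G, p ∣ orderOf g → blockCoeff B g = 0 := by
    intro g hg
    have h1 := weak_orthogonality_of_memLocalRing hM B hFloc 1 g
      (by rw [orderOf_one]; exact hM.1.not_dvd_one) hg
    rw [blockCoeff_eq_sum, h1, mul_zero]
  have hχcf := Cfsg.Agent.Lib.Helper26.isClassFunction_of_isIrrCharacter χ.2
  have hχ'cf := Cfsg.Agent.Lib.Helper26.isClassFunction_of_isIrrCharacter χ'.2
  have hdiff : MemLocalIdeal M (omegaF (χ' : G → ℂ) (blockCoeff B) -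
      omegaF (χ : G → ℂ) (blockCoeff B)) := by
    rw [omegaF_eq_sum_classes hχ'cf _ hFcf, omegaF_eq_sum_classes hχcf _ hFcf,
      ← Finset.sum_sub_distrib]
    apply memLocalIdeal_sum
    intro C _
    rw [← mul_sub]
    by_cases hC : p ∣ orderOf (Quotient.out C)
    · rw [hF0 _ hC, zero_mul]
      exact memLocalIdeal_zero hMtop
    · have hCN : Quotient.out C ∈ N := mem_of_pRegular p hM.1 N hidx _ hC
      have h1 := passman_forward N hM hB' hb χ' hχ' θ' hθ' hcon' χ' hχ' θ hθ ⟨Quotient.out C, hCN⟩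
      have h2 := passman_forward N hM hB hb χ hχ θ hθ hcon χ hχ θ hθ ⟨Quotient.out C, hCN⟩
      have h3 := memLocalIdeal_sub h1 h2
      rw [sub_sub_sub_cancel_right] at h3
      exact memLocalIdeal_mul_left (hFloc _) h3
  rw [omegaF_blockCoeff, omegaF_blockCoeff, if_pos hχ] at hdiff
  have hχ'B : χ' ∈ B := by
    by_contra hnot
    rw [if_neg hnot, zero_sub] at hdiff
    have := memLocalIdeal_neg hdiff
    rw [neg_neg] at this
    exact not_memLocalIdeal_one hMtop this
  ext ψ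
  rw [mem_block_iff hB' hχ' ψ, mem_block_iff hB hχ'B ψ]

/-- Let N be a normal subgroup of p-power index in the finite group G and b a block of N relative to a maximal ideal M of the algebraic integers containing p. Then there is exactly one block B of G containing a character whose restriction to N has a constituent in b. -/
theorem result {G : Type*} [Group G] [Fintype G] (p : ℕ) [Fact p.Prime] (M : Ideal Cfsg.AlgInt) (hM : Cfsg.IsPModular p M) (N : Subgroup G) [N.Normal] [Fintype N] (hidx : ∃ k : ℕ, N.index = p ^ k) (b : Set (Cfsg.IrrCharacter N)) (hb : Cfsg.IsPBlock M b) : ∃! B : Set (Cfsg.IrrCharacter G), Cfsg.IsPBlock M B ∧ ∃ χ ∈ B, ∃ θ ∈ b, Cfsg.classInner (fun n : N => (χ : G → ℂ) n) (θ : N → ℂ) ≠ 0 := by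
  classical
  have hMprime : M.IsPrime := hM.2.1.isPrime
  have hMtop : M ≠ ⊤ := Ideal.IsPrime.ne_top hMprime
  obtain ⟨θ, hθ⟩ := block_nonempty hb
  obtain ⟨χ, hχ⟩ := Cfsg.Agent.S4493.exists_over N (θ : N → ℂ) θ.2
  have hB : IsPBlock M (blockOf M (χ : G → ℂ)) := ⟨χ, rfl⟩
  have hχB : χ ∈ blockOf M (χ : G → ℂ) := sameBlock_refl hMtop _
  refine ⟨blockOf M (χ : G → ℂ), ⟨hB, χ, hχB, θ, hθ, hχ⟩, ?_⟩
  rintro B' ⟨hB', χ', hχ', θ', hθ', hcon'⟩
  exact unique_cover p M hM N hidx b hb _ B' hB hB' χ hχB θ hθ hχ χ' hχ' θ' hθ' hcon'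

end Cfsg.Agent.S0966
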