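import Cfsg.Statements.S0954
import Cfsg.Agent.S0966
import Cfsg.Agent.Lib.Helper4.BlockIdem

set_option autoImplicit false
open Cfsg

namespace Cfsg.Agent.S0954

/-- Let N be a normal subgroup of the finite group G of order prime to p and of p-power index (a normal p-complement), and fix a maximal ideal M of the algebraic integers containing p. Then two irreducible characters χ, ψ of G lie in the same block if and only if some irreducible character of N has nonzero inner product with both the restriction of χ and the restriction of ψ. -/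
theorem result {G : Type*} [Group G] [Fintype G] (p : ℕ) [Fact p.Prime] (M : Ideal Cfsg.AlgInt) (hM : Cfsg.IsPModular p M) (N : Subgroup G) [N.Normal] [Fintype N] (hN : ¬ p ∣ Nat.card N) (hidx : ∃ k : ℕ, N.index = p ^ k) (χ ψ : Cfsg.IrrCharacter G) : Cfsg.SameBlock M (χ : G → ℂ) (ψ : G → ℂ) ↔ ∃ θ : Cfsg.IrrCharacter N, Cfsg.classInner (fun n : N => (χ : G → ℂ) n) (θ : N → ℂ) ≠ 0 ∧ Cfsg.classInner (fun n : N => (ψ : G → ℂ) n) (θ : N → ℂ) ≠ 0 := by
  classical
  open Cfsg.Agent.Lib.Helper4 Cfsg.Agent.Lib.Helper28 Cfsg.Agent.Lib.Helper26 in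
  have hMprime : M.IsPrime := hM.2.1.isPrime
  have hMtop : M ≠ ⊤ := Ideal.IsPrime.ne_top hMprime
  have hp : p.Prime := hM.1
  constructor
  · intro h
    obtain ⟨θ, hθ⟩ := exists_constituent_restrict N χ.2
    refine ⟨θ, hθ, ?_⟩
    have hcop : (Nat.card N).Coprime p :=
      Nat.Coprime.symm ((Nat.Prime.coprime_iff_not_dvd hp).mpr hN)
    exact constituent_of_sameBlock p M hM N hcop (χ : G → ℂ) (ψ : G → ℂ) χ.2 ψ.2 h
      (θ : N → ℂ) θ.2 hθ
  · rintro ⟨θ, h1, h2⟩
    have hu := Cfsg.Agent.S0966.unique_cover p M hM N hidx (blockOf M (θ : N → ℂ)) ⟨θ, rfl⟩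
      (blockOf M (χ : G → ℂ)) (blockOf M (ψ : G → ℂ)) ⟨χ, rfl⟩ ⟨ψ, rfl⟩
      χ (Cfsg.Agent.Lib.Helper28.sameBlock_refl hMtop _) θ
      (Cfsg.Agent.Lib.Helper28.sameBlock_refl hMtop _) h1
      ψ (Cfsg.Agent.Lib.Helper28.sameBlock_refl hMtop _) θ
      (Cfsg.Agent.Lib.Helper28.sameBlock_refl hMtop _) h2
    have h3 : ψ ∈ blockOf M (ψ : G → ℂ) := Cfsg.Agent.Lib.Helper28.sameBlock_refl hMtop _
    rw [hu] at h3
    exact h3

end Cfsg.Agent.S0954
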