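import Cfsg.Statements.S0939
import Cfsg.Agent.S0954
import Cfsg.Agent.Lib.Helper20.Cores
import Cfsg.Agent.Lib.Helper9.Fitting
import Cfsg.Agent.Lib.Helper4.BurnsideClass

set_option autoImplicit false
open Cfsg

namespace Cfsg.Agent.S0939

open Cfsg.Agent.Lib.Helper4 Cfsg.Agent.Lib.Helper28 Cfsg.Agent.Lib.Helper26
open scoped ComplexConjugate

/-- the trivial character is a constituent of `χ_N` iff `N` lies in the kernel of `χ` -/
theorem triv_constituent_iff {G : Type*} [Group G] [Fintype G] (N : Subgroup G) [hN : N.Normal]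
    [Fintype N] (χ : Cfsg.IrrCharacter G) :
    Cfsg.classInner ((χ : G → ℂ) ∘ N.subtype) (fun _ : N => (1 : ℂ)) ≠ 0 ↔
      ∀ n ∈ N, (χ : G → ℂ) n = (χ : G → ℂ) 1 := by
  classical
  have hN0 : (Nat.card N : ℂ) ≠ 0 := Nat.cast_ne_zero.mpr Nat.card_pos.ne'
  constructor
  · intro h
    have hcl := clifford_restrict N χ.2 (isIrrCharacter_one (G := N)) h
    have himg : Finset.univ.image (conjFunN N (fun _ : N => (1 : ℂ))) = {fun _ : N => (1 : ℂ)} := by
      ext f
      simp only [Finset.mem_image, Finset.mem_univ, true_and, Finset.mem_singleton]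
      constructor
      · rintro ⟨g, rfl⟩
        rfl
      · rintro rfl
        exact ⟨1, rfl⟩
    rw [himg, Finset.sum_singleton] at hcl
    intro n hn
    have h1 := congrFun hcl ⟨n, hn⟩
    have h2 := congrFun hcl 1
    simp only [Function.comp_apply, Pi.smul_apply, smul_eq_mul, mul_one] at h1 h2
    have h3 : (χ : G → ℂ) ((N.subtype 1 : G)) = (χ : G → ℂ) 1 := by simp
    rw [h3] at h2
    rw [h2]
    exact h1
  · intro h
    unfold classInner
    have : ∑ n : N, ((χ : G → ℂ) ∘ N.subtype) n * conj ((fun _ : N => (1 : ℂ)) n) =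
        (Nat.card N : ℂ) * (χ : G → ℂ) 1 := by
      have : ∀ n : N, ((χ : G → ℂ) ∘ N.subtype) n * conj ((fun _ : N => (1 : ℂ)) n) =
          (χ : G → ℂ) 1 := by
        intro n
        simp only [Function.comp_apply, map_one, mul_one]
        exact h n n.2
      simp only [this, Finset.sum_const, Finset.card_univ, nsmul_eq_mul,
        Nat.card_eq_fintype_card]
    rw [this, ← mul_assoc, inv_mul_cancel₀ hN0, one_mul]
    exact irr_one_ne_zero χ.2

/-- Let G be a finite group with a normal p-complement (the largest normal subgroup O_p'(G) of order prime to p has p-power index). Then, relative to any maximal ideal M of the algebraic integers containing p, the principal block of G is the set of irreducible characters χ with χ n = χ 1 for every n ∈ O_p'(G). -/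
theorem result {G : Type*} [Group G] [Finite G] (p : ℕ) [Fact p.Prime] (M : Ideal Cfsg.AlgInt) (hM : Cfsg.IsPModular p M) (hnc : ∃ k : ℕ, (Cfsg.pPrimeCore p G).index = p ^ k) : Cfsg.principalBlock M G = {χ : Cfsg.IrrCharacter G | ∀ n ∈ Cfsg.pPrimeCore p G, (χ : G → ℂ) n = (χ : G → ℂ) 1} := by
  classical
  have : Fintype G := Fintype.ofFinite G
  have hNn : (pPrimeCore p G).Normal := Cfsg.Agent.Lib.Helper9.pPrimeCore_normal p G
  have : Fintype (pPrimeCore p G) := Fintype.ofFinite _
  have hMprime : M.IsPrime := hM.2.1.isPrime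
  have hMtop : M ≠ ⊤ := Ideal.IsPrime.ne_top hMprime
  have hp : p.Prime := hM.1
  have hcop := Cfsg.Agent.Lib.Helper20.pPrimeCore_coprime' (G := G) p
  have hndvd : ¬ p ∣ Nat.card (pPrimeCore p G) :=
    (Nat.Prime.coprime_iff_not_dvd hp).mp hcop.symm
  let triv : IrrCharacter G := ⟨fun _ => (1 : ℂ), isIrrCharacter_one⟩
  let trivN : IrrCharacter (pPrimeCore p G) := ⟨fun _ => (1 : ℂ), isIrrCharacter_one⟩
  ext χ
  have h1 := Cfsg.Agent.S0954.result p M hM (pPrimeCore p G) hndvd hnc triv χ
  have h2 := triv_constituent_iff (pPrimeCore p G) χ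
  show SameBlock M (fun _ : G => (1 : ℂ)) (χ : G → ℂ) ↔ _
  rw [Set.mem_ofPred_eq, ← h2]
  constructor
  · intro h
    obtain ⟨θ, hθ1, hθ2⟩ := h1.mp h
    have hθ : θ = trivN := by
      by_contra hne
      apply hθ1
      have := Cfsg.Agent.Lib.Helper4.classInner_irr trivN θ
      rw [if_neg (fun h => hne h.symm)] at this
      exact this
    rw [hθ] at hθ2
    exact hθ2
  · intro h
    apply h1.mpr
    refine ⟨trivN, ?_, h⟩
    have := Cfsg.Agent.Lib.Helper4.classInner_irr trivN trivN
    rw [if_pos rfl] at this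
    show classInner (fun _ : (pPrimeCore p G) => (1 : ℂ)) (fun _ => (1 : ℂ)) ≠ 0
    rw [show classInner (fun _ : (pPrimeCore p G) => (1 : ℂ)) (fun _ => (1 : ℂ)) = 1 from this]
    exact one_ne_zero

end Cfsg.Agent.S0939
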