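import Cfsg.Statements.S0927
import Cfsg.Agent.Lib.Helper28.BrauerD

set_option autoImplicit false
open Cfsg

namespace Cfsg.Agent.S0927

/-- Let B be a block of the finite group G relative to a maximal ideal M of the algebraic integers containing p, let y represent a defect class of B and let P be a Sylow p-subgroup of the centralizer of y. (a) If x ∈ P and χ ∈ B has height zero, then χ (x * y) is not in the local ideal at M. (b) If x lies in the centre of P, then for every χ ∈ B the central character of χ at x * y is not in the local ideal at M. -/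
theorem result {G : Type*} [Group G] [Finite G] (p : ℕ) [Fact p.Prime] (M : Ideal Cfsg.AlgInt) (hM : Cfsg.IsPModular p M) (B : Set (Cfsg.IrrCharacter G)) (hB : Cfsg.IsPBlock M B) (y : G) (hy : Cfsg.IsDefectClass M B y) (P : Sylow p (Subgroup.centralizer ({y} : Set G))) (x : Subgroup.centralizer ({y} : Set G)) (hx : x ∈ (P : Subgroup (Subgroup.centralizer ({y} : Set G)))) : (∀ χ ∈ B, Cfsg.blockHeight p B (χ : G → ℂ) = 0 → ¬ Cfsg.MemLocalIdeal M ((χ : G → ℂ) ((x : G) * y))) ∧ ((∀ w ∈ (P : Subgroup (Subgroup.centralizer ({y} : Set G))), x * w = w * x) → ∀ χ ∈ B, ¬ Cfsg.MemLocalIdeal M (Cfsg.centralChar (χ : G → ℂ) ((x : G) * y))) := by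
  classical
  have : Fintype G := Fintype.ofFinite G
  have hprime : M.IsPrime := hM.2.1.isPrime
  have hp : p.Prime := hM.1
  have hyreg := Cfsg.Agent.Lib.Helper28.defectClass_pRegular hM hB hy
  have hidx := Cfsg.Agent.Lib.Helper28.defectClass_index_factorization hM hB hy
  -- `x` is a `p`-element commuting with `y`
  obtain ⟨k, hk⟩ := P.2 ⟨x, hx⟩
  have hxk : (x : G) ^ p ^ k = 1 := by
    have h1 : x ^ p ^ k = 1 := by
      have := congrArg Subtype.val hk
      simpa using this
    have := congrArg Subtype.val h1
    simpa using this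
  have hcomm : Commute (x : G) y := by
    have := x.2
    rw [Subgroup.mem_centralizer_iff] at this
    exact (this y rfl).symm
  have partA : ∀ χ ∈ B, Cfsg.blockHeight p B (χ : G → ℂ) = 0 →
      ¬ Cfsg.MemLocalIdeal M ((χ : G → ℂ) ((x : G) * y)) := by
    intro χ hχ h0 hmem
    have hdeg := Cfsg.Agent.Lib.Helper28.factorization_eq_sInf_of_height_zero hχ h0
    have h1 := Cfsg.Agent.Lib.Helper28.irr_value_not_memLocalIdeal hM χ y (hy.2.2 χ hχ)
      (by rw [hdeg, hidx])
    apply h1
    have h2 := Cfsg.Agent.Lib.Helper28.irr_value_sub_memLocalIdeal hM χ (x : G) y hcomm k hxk hyreg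
    have := Cfsg.Agent.Lib.Helper28.memLocalIdeal_add h2 hmem
    rwa [sub_add_cancel] at this
  refine ⟨partA, ?_⟩
  intro hcent χ hχ hmem
  obtain ⟨χ0, hχ0, hdeg0⟩ := Cfsg.Agent.Lib.Helper28.exists_height_zero (p := p)
    (Cfsg.Agent.Lib.Helper28.block_nonempty hB)
  have hht : Cfsg.blockHeight p B (χ0 : G → ℂ) = 0 := by
    unfold Cfsg.blockHeight
    rw [hdeg0, Nat.sub_self]
  have hval := partA χ0 hχ0 hht
  -- `P ≤ C_G(x y)`
  have hle : (P : Subgroup (Subgroup.centralizer ({y} : Set G))).map
      (Subgroup.centralizer ({y} : Set G)).subtype ≤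
      Subgroup.centralizer ({(x : G) * y} : Set G) := by
    rintro _ ⟨w, hw, rfl⟩
    rw [Subgroup.mem_centralizer_iff]
    intro z hz
    rw [Set.mem_singleton_iff] at hz
    subst hz
    have hwy : (w : G) * y = y * (w : G) := by
      have := w.2
      rw [Subgroup.mem_centralizer_iff] at this
      exact (this y rfl).symm
    have hwx : (x : G) * (w : G) = (w : G) * (x : G) := by
      have := congrArg Subtype.val (hcent w hw)
      simpa using this
    show (x : G) * y * (w : G) = (w : G) * ((x : G) * y)
    calc (x : G) * y * (w : G) = (x : G) * ((w : G) * y) := by rw [hwy, mul_assoc]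
      _ = (w : G) * ((x : G) * y) := by rw [← mul_assoc, hwx, mul_assoc]
  have hcardP : Nat.card ((P : Subgroup (Subgroup.centralizer ({y} : Set G))).map
      (Subgroup.centralizer ({y} : Set G)).subtype) =
      p ^ (Nat.card (Subgroup.centralizer ({y} : Set G))).factorization p := by
    rw [Subgroup.card_map_of_injective (Subgroup.subtype_injective _)]
    exact P.card_eq_multiplicity
  have hdvd : p ^ (Nat.card (Subgroup.centralizer ({y} : Set G))).factorization p ∣
      Nat.card (Subgroup.centralizer ({(x : G) * y} : Set G)) := by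
    rw [← hcardP]
    exact Subgroup.card_dvd_of_le hle
  have hfac : (Nat.card (Subgroup.centralizer ({y} : Set G))).factorization p ≤
      (Nat.card (Subgroup.centralizer ({(x : G) * y} : Set G))).factorization p :=
    (hp.pow_dvd_iff_le_factorization Nat.card_pos.ne').mp hdvd
  have h1 := Cfsg.Agent.Lib.Helper28.factorization_card_eq (p := p) y
  have h2 := Cfsg.Agent.Lib.Helper28.factorization_card_eq (p := p) ((x : G) * y)
  have hcc := Cfsg.Agent.Lib.Helper28.centralChar_not_memLocalIdeal_of_value hM χ0
    ((x : G) * y) hval (by rw [hdeg0, hidx]; omega)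
  apply hcc
  have hsb := (Cfsg.Agent.Lib.Helper28.mem_block_iff hB hχ0 χ).mp hχ ((x : G) * y)
  have := Cfsg.Agent.Lib.Helper28.memLocalIdeal_add hsb hmem
  rwa [sub_add_cancel] at this

end Cfsg.Agent.S0927
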