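import Cfsg.Statements.S0909
import Cfsg.Agent.Lib.Helper28.BlockOsima

set_option autoImplicit false
open Cfsg

namespace Cfsg.Agent.S0909

open Cfsg.Agent.Lib.Helper28 in
/-- Let A be a set of irreducible characters of the finite group G. If for every g the coefficient of g in the sum of the central idempotents of the members of A is a quotient of algebraic integers with denominator outside the modular maximal ideal M, then A is a union of blocks relative to M: the block of each member of A is contained in A. -/
theorem result {G : Type*} [Group G] [Finite G] (p : ℕ) [Fact p.Prime] (M : Ideal Cfsg.AlgInt) (hM : Cfsg.IsPModular p M) (A : Set (Cfsg.IrrCharacter G)) (hA : ∀ g : G, Cfsg.MemLocalRing M (Cfsg.blockCoeff A g)) (χ : Cfsg.IrrCharacter G) (hχ : χ ∈ A) : Cfsg.blockOf M (χ : G → ℂ) ⊆ A := by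
  have : Fintype G := Fintype.ofFinite G
  have : M.IsPrime := hM.2.1.isPrime
  intro ψ hψ
  by_contra hψA
  have h1 := omegaF_sub_memLocalIdeal
    (Cfsg.Agent.Lib.Helper4.isClassFunction_of_isIrrCharacter χ.2)
    (Cfsg.Agent.Lib.Helper4.isClassFunction_of_isIrrCharacter ψ.2) hψ
    (blockCoeff A) (isClassFunction_blockCoeff A) hA
  rw [omegaF_blockCoeff, omegaF_blockCoeff, if_pos hχ, if_neg hψA, sub_zero] at h1
  exact not_memLocalIdeal_one hM.2.1.ne_top h1

end Cfsg.Agent.S0909
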