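import Cfsg.Statements.S0914
import Cfsg.Agent.S0909
import Cfsg.Agent.Lib.Helper28.BlockWeakOrth
import Cfsg.Agent.Lib.Helper28.DefectGen
import Cfsg.Agent.Lib.Helper4.RepEigen

set_option autoImplicit false
open Cfsg

namespace Cfsg.Agent.S0914

open scoped ComplexConjugate

open Cfsg.Agent.Lib.Helper28 in
theorem result {G : Type*} [Group G] [Finite G] (p : ℕ) [Fact p.Prime] (M : Ideal Cfsg.AlgInt) (hM : Cfsg.IsPModular p M) (χ : Cfsg.IrrCharacter G) : ¬ p ∣ Nat.card G / Cfsg.charDegree (χ : G → ℂ) ↔ Cfsg.blockOf M (χ : G → ℂ) = {χ} := by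
  classical
  have : Fintype G := Fintype.ofFinite G
  have : Fintype (IrrCharacter G) := Fintype.ofFinite _
  have hp : p.Prime := hM.1
  have hprime : M.IsPrime := hM.2.1.isPrime
  have hMtop : M ≠ ⊤ := hM.2.1.ne_top
  obtain ⟨n, ρ, hirr, hρχ⟩ := χ.2
  have hn : n ≠ 0 := by
    have := Cfsg.Agent.Lib.Helper4.finrank_ne_zero_of_irreducible ρ hirr
    rw [Module.finrank_fin_fun] at this
    exact_mod_cast this
  obtain ⟨b0, hb0⟩ := Cfsg.Agent.Lib.Helper4.degree_dvd_card ρ hirr
  rw [Module.finrank_fin_fun] at hb0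
  have hdeg : charDegree (χ : G → ℂ) = n := by rw [← hρχ]; exact charDegree_character ρ
  have hχ1 : (χ : G → ℂ) 1 = (n : ℂ) := by
    rw [← hρχ, Representation.char_one, Module.finrank_fin_fun]
  have hdiv : Nat.card G / charDegree (χ : G → ℂ) = b0 := by
    rw [hdeg, hb0, Nat.mul_div_cancel_left _ (Nat.pos_of_ne_zero hn)]
  rw [hdiv]
  have hG0 : Nat.card G ≠ 0 := Nat.card_pos.ne'
  have hb0ne : b0 ≠ 0 := by
    rintro rfl
    rw [mul_zero] at hb0
    exact hG0 hb0
  have hself : χ ∈ blockOf M (χ : G → ℂ) := sameBlock_refl hMtop _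
  constructor
  · intro hpb
    have hcop : b0.Coprime p := ((Nat.Prime.coprime_iff_not_dvd hp).mpr hpb).symm
    have hA : ∀ g : G, MemLocalRing M (blockCoeff ({χ} : Set (IrrCharacter G)) g) := by
      intro g
      unfold blockCoeff
      rw [finsum_mem_singleton, hχ1, hb0]
      have h1 : ((n * b0 : ℕ) : ℂ)⁻¹ * ((n : ℂ) * conj ((χ : G → ℂ) g)) =
          conj ((χ : G → ℂ) g) * (b0 : ℂ)⁻¹ := by
        have hnc : (n : ℂ) ≠ 0 := Nat.cast_ne_zero.mpr hn
        have hbc : (b0 : ℂ) ≠ 0 := Nat.cast_ne_zero.mpr hb0ne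
        push_cast
        field_simp
      rw [h1]
      apply memLocalRing_mul _ (memLocalRing_inv_natCast hM hcop)
      apply memLocalRing_of_isIntegral hMtop
      rw [Cfsg.Agent.Lib.Helper26.isCharacter_conj_eq_inv
        (Cfsg.Agent.Lib.Helper26.isCharacter_of_isIrrCharacter χ.2), ← hρχ]
      exact Cfsg.Agent.Lib.Helper4.character_isIntegral ρ g⁻¹
    have hsub := Cfsg.Agent.S0909.result p M hM {χ} hA χ rfl
    apply Set.Subset.antisymm hsub
    intro ψ hψ
    rw [Set.mem_singleton_iff] at hψ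
    rw [hψ]
    exact hself
  · intro hblock hpb
    have hB : IsPBlock M ({χ} : Set (IrrCharacter G)) := ⟨χ, hblock.symm⟩
    have hvan : ∀ y : G, p ∣ orderOf y → (χ : G → ℂ) y = 0 := by
      intro y hy
      have h1 := weak_orthogonality_of_memLocalRing hM ({χ} : Set (IrrCharacter G))
        (fun g => osima hB g) 1 y (by simp [hp.ne_one]) hy
      rw [Finset.sum_eq_single χ] at h1
      · rw [if_pos (Set.mem_singleton χ), hχ1] at h1
        have hnc : (n : ℂ) ≠ 0 := Nat.cast_ne_zero.mpr hn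
        have h3 := (mul_eq_zero.mp h1).resolve_left hnc
        simpa using h3
      · intro φ _ hφ
        exact if_neg (fun hmem => hφ (Set.mem_singleton_iff.mp hmem))
      · intro h
        exact absurd (Finset.mem_univ _) h
    have hgen : IsGeneralizedCharacter G (χ : G → ℂ) :=
      Cfsg.Agent.Lib.Helper26.isGeneralizedCharacter_of_isCharacter
        (Cfsg.Agent.Lib.Helper26.isCharacter_of_isIrrCharacter χ.2)
    obtain ⟨k, hk⟩ := degree_of_vanish_pSingular hgen hvan
    rw [hχ1] at hk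
    have hk' : (n : ℤ) = ((p ^ (Nat.card G).factorization p : ℕ) : ℤ) * k := by
      exact_mod_cast hk
    have hdvd : p ^ (Nat.card G).factorization p ∣ n := by
      apply Int.natCast_dvd_natCast.mp
      exact ⟨k, hk'⟩
    have : p ^ ((Nat.card G).factorization p + 1) ∣ Nat.card G := by
      rw [pow_succ]
      have h5 := Nat.mul_dvd_mul hdvd hpb
      rwa [← hb0] at h5
    exact Nat.pow_succ_factorization_not_dvd hG0 hp this

end Cfsg.Agent.S0914
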