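import Cfsg.Statements.S0908
import Cfsg.Agent.Lib.Helper28.BlockDefectC

set_option autoImplicit false
open Cfsg

namespace Cfsg.Agent.S0908

open Cfsg.Agent.Lib.Helper28 in
theorem result {G : Type*} [Group G] [Finite G] (p : ℕ) [Fact p.Prime] (M : Ideal Cfsg.AlgInt) (hM : Cfsg.IsPModular p M) (B : Set (Cfsg.IrrCharacter G)) (hB : Cfsg.IsPBlock M B) (D : Subgroup G) (hD : Cfsg.IsDefectGroup p M B D) : Nat.card D = p ^ Cfsg.blockDefect p B := by
  classical
  have : Fintype G := Fintype.ofFinite G
  have hp : p.Prime := hM.1
  obtain ⟨g, hg, P, rfl⟩ := hD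
  have h1 := defectClass_index_factorization hM hB hg
  unfold blockDefect
  rw [h1]
  have hcard : Nat.card ((P : Subgroup (Subgroup.centralizer ({g} : Set G))).map
      (Subgroup.centralizer ({g} : Set G)).subtype) =
      Nat.card (P : Subgroup (Subgroup.centralizer ({g} : Set G))) :=
    Nat.card_congr ((P : Subgroup (Subgroup.centralizer ({g} : Set G))).equivMapOfInjective
      (Subgroup.centralizer ({g} : Set G)).subtype
      (Subgroup.subtype_injective _)).toEquiv.symm
  rw [hcard, P.card_eq_multiplicity]
  congr 1
  have hC0 : Nat.card (Subgroup.centralizer ({g} : Set G)) ≠ 0 := Nat.card_pos.ne'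
  have hidx0 : (Subgroup.centralizer ({g} : Set G)).index ≠ 0 := Subgroup.index_ne_zero_of_finite
  have h2 : (Nat.card G).factorization p =
      (Subgroup.centralizer ({g} : Set G)).index.factorization p +
        (Nat.card (Subgroup.centralizer ({g} : Set G))).factorization p := by
    rw [← (Subgroup.centralizer ({g} : Set G)).index_mul_card,
      Nat.factorization_mul hidx0 hC0, Finsupp.add_apply]
  omega

end Cfsg.Agent.S0908
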