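import Cfsg.Statements.S0911
import Cfsg.Agent.Lib.Helper28.BrauerB

set_option autoImplicit false
open Cfsg

namespace Cfsg.Agent.S0911

/-- The min–max Theorem for defect classes. Let B be a block of the finite group G relative to a maximal ideal M of the algebraic integers containing the prime p, let g represent a defect class of B and let D be a Sylow p-subgroup of the centralizer of g (viewed in G). For any h: (a) if the idempotent coefficient of B at h is a local integer outside the local ideal, then some conjugate of D contains a Sylow p-subgroup of the centralizer of h; (b) if the central character of some member of B at h is outside the local ideal, then some conjugate of D is contained in a Sylow p-subgroup of the centralizer of h. -/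
theorem result {G : Type*} [Group G] [Finite G] (p : ℕ) [Fact p.Prime] (M : Ideal Cfsg.AlgInt) (hM : Cfsg.IsPModular p M) (B : Set (Cfsg.IrrCharacter G)) (hB : Cfsg.IsPBlock M B) (g : G) (hg : Cfsg.IsDefectClass M B g) (D : Sylow p (Subgroup.centralizer ({g} : Set G))) (h : G) : (Cfsg.MemLocalRing M (Cfsg.blockCoeff B h) → ¬ Cfsg.MemLocalIdeal M (Cfsg.blockCoeff B h) → ∃ (x : G) (Q : Sylow p (Subgroup.centralizer ({h} : Set G))), (Q : Subgroup (Subgroup.centralizer ({h} : Set G))).map (Subgroup.centralizer ({h} : Set G)).subtype ≤ ((D : Subgroup (Subgroup.centralizer ({g} : Set G))).map (Subgroup.centralizer ({g} : Set G)).subtype).map (MulAut.conj x).toMonoidHom) ∧ ((∃ χ ∈ B, ¬ Cfsg.MemLocalIdeal M (Cfsg.centralChar (χ : G → ℂ) h)) → ∃ (x : G) (Q : Sylow p (Subgroup.centralizer ({h} : Set G))), ((D : Subgroup (Subgroup.centralizer ({g} : Set G))).map (Subgroup.centralizer ({g} : Set G)).subtype).map (MulAut.conj x).toMonoidHom ≤ (Q : Subgroup (Subgroup.centralizer ({h} : Set G))).map (Subgroup.centralizer ({h} : Set G)).subtype)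 := by
  classical
  have : Fintype G := Fintype.ofFinite G
  have hprime : M.IsPrime := hM.2.1.isPrime
  obtain ⟨hg1, hg2, hg3⟩ := hg
  constructor
  · intro _ hh
    obtain ⟨Q0⟩ : Nonempty (Sylow p (Subgroup.centralizer ({h} : Set G))) := inferInstance
    have hQ' : IsPGroup p ((Q0 : Subgroup (Subgroup.centralizer ({h} : Set G))).map
        (Subgroup.centralizer ({h} : Set G)).subtype) := Q0.2.map _
    have hcent : ∀ t ∈ (Q0 : Subgroup (Subgroup.centralizer ({h} : Set G))).map
        (Subgroup.centralizer ({h} : Set G)).subtype, t * h = h * t := by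
      rintro t ⟨t', _, rfl⟩
      have := t'.2
      rw [Subgroup.mem_centralizer_iff] at this
      exact (this h rfl).symm
    obtain ⟨x, hx, hxc⟩ := Cfsg.Agent.Lib.Helper28.exists_conj_centralized hM hB g h hg3 hh
      _ hQ' hcent
    obtain ⟨c, hc⟩ := isConj_iff.mp hx
    subst hc
    obtain ⟨y, hy⟩ := Cfsg.Agent.Lib.Helper28.le_conj_sylow_of_centralizes g D _ hQ' c hxc
    exact ⟨y, Q0, hy⟩
  · rintro ⟨χ, hχ, hχh⟩
    have hall : ∀ χ' ∈ B, ¬ Cfsg.MemLocalIdeal M (Cfsg.centralChar (χ' : G → ℂ) h) := by
      intro χ' hχ' hmem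
      apply hχh
      have hsb := (Cfsg.Agent.Lib.Helper28.mem_block_iff hB hχ χ').mp hχ' h
      have := Cfsg.Agent.Lib.Helper28.memLocalIdeal_add hsb hmem
      rwa [sub_add_cancel] at this
    have hD' : IsPGroup p ((D : Subgroup (Subgroup.centralizer ({g} : Set G))).map
        (Subgroup.centralizer ({g} : Set G)).subtype) := D.2.map _
    have hcent : ∀ t ∈ (D : Subgroup (Subgroup.centralizer ({g} : Set G))).map
        (Subgroup.centralizer ({g} : Set G)).subtype, t * g = g * t := by
      rintro t ⟨t', _, rfl⟩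
      have := t'.2
      rw [Subgroup.mem_centralizer_iff] at this
      exact (this g rfl).symm
    obtain ⟨x, hx, hxc⟩ := Cfsg.Agent.Lib.Helper28.exists_conj_centralized hM hB h g hall hg2
      _ hD' hcent
    obtain ⟨c, hc⟩ := isConj_iff.mp hx
    subst hc
    have hP2 : IsPGroup p (((D : Subgroup (Subgroup.centralizer ({g} : Set G))).map
        (Subgroup.centralizer ({g} : Set G)).subtype).map (MulAut.conj c⁻¹).toMonoidHom) :=
      hD'.map _
    have hcent2 : ∀ t ∈ ((D : Subgroup (Subgroup.centralizer ({g} : Set G))).map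
        (Subgroup.centralizer ({g} : Set G)).subtype).map (MulAut.conj c⁻¹).toMonoidHom,
        t * h = h * t := by
      rintro t ⟨t', ht', rfl⟩
      have h1 := hxc t' ht'
      show c⁻¹ * t' * c⁻¹⁻¹ * h = h * (c⁻¹ * t' * c⁻¹⁻¹)
      rw [inv_inv]
      calc c⁻¹ * t' * c * h = c⁻¹ * (t' * (c * h * c⁻¹)) * c := by group
        _ = c⁻¹ * ((c * h * c⁻¹) * t') * c := by rw [h1]
        _ = h * (c⁻¹ * t' * c) := by group
    obtain ⟨S, hS⟩ := Cfsg.Agent.Lib.Helper28.exists_sylow_centralizer_ge h _ hP2 hcent2
    exact ⟨c⁻¹, S, hS⟩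

end Cfsg.Agent.S0911
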