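import Cfsg.Statements.S0944
import Cfsg.Agent.Lib.Helper4.RepEigen

set_option autoImplicit false
open Cfsg

namespace Cfsg.Agent.S0944

/-- Let χ be an irreducible character of the finite group G and u an involution. Then χ u is a rational integer n with n ≡ χ 1 (mod 2). -/
theorem result {G : Type*} [Group G] [Finite G] (χ : Cfsg.IrrCharacter G) (u : G) (hu : orderOf u = 2) : ∃ n : ℤ, (χ : G → ℂ) u = (n : ℂ) ∧ (2 : ℤ) ∣ (Cfsg.charDegree (χ : G → ℂ) : ℤ) - n := by
  classical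
  obtain ⟨χf, n, ρ, hirr, hρ⟩ := χ
  subst hρ
  simp only
  have hdeg : ρ.character 1 = (n : ℂ) := by
    rw [Representation.char_one]; simp
  have hcd : Cfsg.charDegree ρ.character = n := by
    unfold Cfsg.charDegree
    rw [hdeg]; simp
  have hev : ∀ μ ∈ Cfsg.Agent.Lib.Helper4.eigvals ρ u, μ = 1 ∨ μ = -1 := by
    intro μ hμ
    have := Cfsg.Agent.Lib.Helper4.eigenvalue_pow_orderOf ρ u μ
      ((Cfsg.Agent.Lib.Helper4.mem_eigvals ρ u).mp hμ)
    rw [hu] at this
    exact sq_eq_one_iff.mp this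
  have hchar := Cfsg.Agent.Lib.Helper4.character_eq_sum ρ u
  have hfin := Cfsg.Agent.Lib.Helper4.finrank_eq_sum_nat ρ u
  rw [Module.finrank_fin_fun] at hfin
  refine ⟨∑ μ ∈ Cfsg.Agent.Lib.Helper4.eigvals ρ u,
      (if μ = 1 then (Cfsg.Agent.Lib.Helper4.eigmult ρ u μ : ℤ)
        else -(Cfsg.Agent.Lib.Helper4.eigmult ρ u μ : ℤ)), ?_, ?_⟩
  · rw [hchar]
    push_cast
    refine Finset.sum_congr rfl fun μ hμ => ?_
    rcases hev μ hμ with h | h
    · simp [h]
    · have hne : ¬ ((-1 : ℂ) = 1) := by norm_num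
      simp [h, hne]
  · have hn : ((n : ℕ) : ℤ) = ∑ μ ∈ Cfsg.Agent.Lib.Helper4.eigvals ρ u,
        (Cfsg.Agent.Lib.Helper4.eigmult ρ u μ : ℤ) := by
      exact_mod_cast hfin
    rw [hcd, hn]
    rw [← Finset.sum_sub_distrib]
    apply Finset.dvd_sum
    intro μ hμ
    by_cases h : μ = 1
    · simp [h]
    · simp only [h, if_false, sub_neg_eq_add]
      exact ⟨_, (two_mul _).symm⟩

end Cfsg.Agent.S0944
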