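import Cfsg.Statements.S4722
import Cfsg.Agent.Lib.Helper28.SectionH

set_option autoImplicit false
open Cfsg

namespace Cfsg.Agent.S4722

/-- Let M be a maximal ideal of the algebraic integers containing 2, P a 2-subgroup of the finite group G, U a subset of P, and t an involution of G such that no element of U is inverted by any conjugate of t. Let θ be a generalized character of P vanishing outside U, and for χ in the principal 2-block B₀ put a_χ = #P⁻¹ Σ_{y ∈ P} χ(y) θ(y⁻¹). Then Σ_{χ ∈ B₀} a_χ χ(t)^2/χ(1) = 0, Σ_{χ ∈ B₀} a_χ χ(1) = 0 and Σ_{χ ∈ B₀} a_χ χ(t) = 0. If moreover #P⁻¹ Σ_{y ∈ P} θ(y) ≠ 0, then either at least two of the a_χ have positive real part and at least two have negative real part, or G has a proper normal subgroup containing O_2'(G) and t. -/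
theorem result {G : Type*} [Group G] [Finite G] (M : Ideal Cfsg.AlgInt) (hM : Cfsg.IsPModular 2 M) (P : Subgroup G) (hP : IsPGroup 2 P) (U : Set G) (hUP : U ⊆ (P : Set G)) (t : G) (ht : orderOf t = 2) (hinv : ∀ u ∈ U, ∀ g : G, (g * t * g⁻¹) * u * (g * t * g⁻¹)⁻¹ ≠ u⁻¹) (θ : ↥P → ℂ) (hθ : Cfsg.IsGeneralizedCharacter ↥P θ) (hθU : ∀ y : ↥P, (y : G) ∉ U → θ y = 0) : (∑ᶠ χ ∈ Cfsg.principalBlock M G, ((Nat.card ↥P : ℂ)⁻¹ * ∑ᶠ y : ↥P, (χ : G → ℂ) (y : G) * θ y⁻¹) * (χ : G → ℂ) t ^ 2 / (χ : G → ℂ) 1 = 0) ∧ (∑ᶠ χ ∈ Cfsg.principalBlock M G, ((Nat.card ↥P : ℂ)⁻¹ * ∑ᶠ y : ↥P, (χ : G → ℂ) (y : G) * θ y⁻¹) * (χ : G → ℂ) 1 = 0) ∧ (∑ᶠ χ ∈ Cfsg.principalBlock M G, ((Nat.card ↥P : ℂ)⁻¹ * ∑ᶠ y : ↥P, (χ : G → ℂ) (y : G) * θ y⁻¹) * (χ : G → ℂ) t = 0) ∧ ((Nat.card ↥P : ℂ)⁻¹ * ∑ᶠ y : ↥P, θ y ≠ 0 → (2 ≤ Nat.card {χ : Cfsg.IrrCharacter G // χ ∈ Cfsg.principalBlock M G ∧ 0 < (((Nat.card ↥P : ℂ)⁻¹ * ∑ᶠ y : ↥P,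 (χ : G → ℂ) (y : G) * θ y⁻¹)).re} ∧ 2 ≤ Nat.card {χ : Cfsg.IrrCharacter G // χ ∈ Cfsg.principalBlock M G ∧ (((Nat.card ↥P : ℂ)⁻¹ * ∑ᶠ y : ↥P, (χ : G → ℂ) (y : G) * θ y⁻¹)).re < 0}) ∨ ∃ K : Subgroup G, K.Normal ∧ K ≠ ⊤ ∧ Cfsg.pPrimeCore 2 G ≤ K ∧ t ∈ K) := by
  classical
  haveI : Fact (Nat.Prime 2) := ⟨Nat.prime_two⟩
  have hp : Nat.Prime 2 := Nat.prime_two
  have hMtop : M ≠ ⊤ := hM.2.1.ne_top
  have : Fintype G := Fintype.ofFinite G
  have : Fintype P := Fintype.ofFinite _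
  have : Fintype (IrrCharacter G) := Fintype.ofFinite _
  have hGne : (Nat.card G : ℂ) ≠ 0 := by exact_mod_cast Nat.card_pos.ne'
  have hpel : ∀ v : P, ∃ k : ℕ, orderOf (v : G) = 2 ^ k := by
    intro v
    obtain ⟨k, hk⟩ := IsPGroup.iff_orderOf.mp hP v
    exact ⟨k, by rw [Subgroup.orderOf_coe]; exact hk⟩
  have htpel : ∃ k : ℕ, orderOf t = 2 ^ k := ⟨1, by rw [ht, pow_one]⟩
  have ht2 : t * t = 1 := by
    have := pow_orderOf_eq_one t
    rwa [ht, sq] at this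
  have htinv : t⁻¹ = t := inv_eq_of_mul_eq_one_left ht2
  have hB0 : IsPBlock M (principalBlock M G) := Cfsg.Agent.Lib.Helper28.isPBlock_principalBlock
  obtain ⟨c, hc⟩ : ∃ c : ℂ, c = (Nat.card P : ℂ) := ⟨_, rfl⟩
  rw [← hc]
  -- the coefficients `a_χ`
  have ha : ∀ (χ : IrrCharacter G), ∑ᶠ y : P, (χ : G → ℂ) (y : G) * θ y⁻¹ =
      ∑ v : P, θ v * (starRingEnd ℂ) ((χ : G → ℂ) (v : G)) := by
    intro χ
    rw [finsum_eq_sum_of_fintype, ← Equiv.sum_comp (Equiv.inv P)]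
    refine Finset.sum_congr rfl fun v _ => ?_
    show (χ : G → ℂ) ((v⁻¹ : P) : G) * θ (v⁻¹)⁻¹ = _
    rw [inv_inv, Subgroup.coe_inv, ← Cfsg.Agent.Lib.Helper26.isCharacter_conj_eq_inv
      (Cfsg.Agent.Lib.Helper26.isCharacter_of_isIrrCharacter χ.2), mul_comm]
  -- the general vanishing lemma
  have hL : ∀ f : IrrCharacter G → ℂ,
      (∀ v : P, (v : G) ∈ U → ∑ χ : IrrCharacter G, (if χ ∈ principalBlock M G then
        (starRingEnd ℂ) ((χ : G → ℂ) (v : G)) * f χ else 0) = 0) →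
      ∑ᶠ χ ∈ principalBlock M G, (c⁻¹ * ∑ᶠ y : P, (χ : G → ℂ) (y : G) * θ y⁻¹) * f χ = 0 := by
    intro f hf
    rw [Cfsg.Agent.Lib.Helper28.finsum_mem_eq_sum_ite]
    have h1 : ∀ χ : IrrCharacter G, (if χ ∈ principalBlock M G then
        (c⁻¹ * ∑ᶠ y : P, (χ : G → ℂ) (y : G) * θ y⁻¹) * f χ else 0) =
        c⁻¹ * ∑ v : P, θ v * (if χ ∈ principalBlock M G then
          (starRingEnd ℂ) ((χ : G → ℂ) (v : G)) * f χ else 0) := by
      intro χ
      by_cases hχ : χ ∈ principalBlock M G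
      · simp only [if_pos hχ]
        rw [ha χ, mul_assoc, Finset.sum_mul]
        congr 1
        refine Finset.sum_congr rfl fun v _ => ?_
        ring
      · simp only [if_neg hχ, mul_zero, Finset.sum_const_zero]
    rw [Finset.sum_congr rfl fun χ _ => h1 χ, ← Finset.mul_sum, Finset.sum_comm]
    have h2 : ∀ v : P, ∑ χ : IrrCharacter G, θ v * (if χ ∈ principalBlock M G then
          (starRingEnd ℂ) ((χ : G → ℂ) (v : G)) * f χ else 0) = 0 := by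
      intro v
      rw [← Finset.mul_sum]
      by_cases hv : (v : G) ∈ U
      · rw [hf v hv, mul_zero]
      · rw [hθU v hv, zero_mul]
    rw [Finset.sum_congr rfl fun v _ => h2 v, Finset.sum_const_zero, mul_zero]
  -- block orthogonality in the form needed
  have horth : ∀ (z : G) (v : P), (∀ x : G, IsPPart 2 z x → ¬ IsConj x (v : G)) →
      ∑ χ : IrrCharacter G, (if χ ∈ principalBlock M G then
        (starRingEnd ℂ) ((χ : G → ℂ) (v : G)) * (χ : G → ℂ) z else 0) = 0 := by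
    intro z v hz
    have hx := Cfsg.Agent.Lib.Helper28.isPPart_pPartOf hp z
    have h1 := Cfsg.Agent.Lib.Helper28.block_orthogonality hM z (v : G) _ (v : G) hx
      (Cfsg.Agent.Lib.Helper28.isPPart_self_of_pElement hp (v : G) (hpel v)) (hz _ hx) hB0
    rw [Cfsg.Agent.Lib.Helper28.finsum_mem_eq_sum_ite] at h1
    refine Eq.trans ?_ h1
    refine Finset.sum_congr rfl fun χ _ => ?_
    by_cases hχ : χ ∈ principalBlock M G
    · rw [if_pos hχ, if_pos hχ, Cfsg.Agent.Lib.Helper26.isCharacter_conj_eq_inv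
        (Cfsg.Agent.Lib.Helper26.isCharacter_of_isIrrCharacter χ.2), mul_comm]
    · rw [if_neg hχ, if_neg hχ]
  have h1U : (1 : G) ∉ U := by
    intro h1
    have := hinv 1 h1 1
    simp at this
  -- elements of `U` are not conjugate to the `2`-part of an element inverted by `t`
  have hnotconj : ∀ (z : G), t * z * t⁻¹ = z⁻¹ → ∀ v : P, (v : G) ∈ U →
      ∀ x : G, IsPPart 2 z x → ¬ IsConj x (v : G) := by
    intro z hz v hv x hx hcj
    obtain ⟨n, hn⟩ := Cfsg.Agent.Lib.Helper28.isPPart_eq_pow hp hx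
    obtain ⟨g, hg⟩ := isConj_iff.mp hcj
    have hx2 : t * x * t⁻¹ = x⁻¹ := by
      rw [hn, ← Cfsg.Agent.Lib.Helper28.conj_mul_pow', hz, inv_pow]
    apply hinv (v : G) hv g
    rw [← hg]
    calc g * t * g⁻¹ * (g * x * g⁻¹) * (g * t * g⁻¹)⁻¹ = g * (t * x * t⁻¹) * g⁻¹ := by group
      _ = g * x⁻¹ * g⁻¹ := by rw [hx2]
      _ = (g * x * g⁻¹)⁻¹ := by group
  have hpart2 : ∑ᶠ χ ∈ principalBlock M G,
      (c⁻¹ * ∑ᶠ y : P, (χ : G → ℂ) (y : G) * θ y⁻¹) * (χ : G → ℂ) 1 = 0 := by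
    apply hL (fun χ => (χ : G → ℂ) 1)
    intro v hv
    apply horth 1 v
    apply hnotconj 1 (by group) v hv
  have hpart3 : ∑ᶠ χ ∈ principalBlock M G,
      (c⁻¹ * ∑ᶠ y : P, (χ : G → ℂ) (y : G) * θ y⁻¹) * (χ : G → ℂ) t = 0 := by
    apply hL (fun χ => (χ : G → ℂ) t)
    intro v hv
    apply horth t v
    apply hnotconj t (by rw [htinv, ht2, one_mul]) v hv
  have hpart1 : ∑ᶠ χ ∈ principalBlock M G,
      (c⁻¹ * ∑ᶠ y : P, (χ : G → ℂ) (y : G) * θ y⁻¹) * (χ : G → ℂ) t ^ 2 / (χ : G → ℂ) 1 = 0 := by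
    have h0 : ∀ χ : IrrCharacter G,
        (c⁻¹ * ∑ᶠ y : P, (χ : G → ℂ) (y : G) * θ y⁻¹) * (χ : G → ℂ) t ^ 2 / (χ : G → ℂ) 1 =
        (c⁻¹ * ∑ᶠ y : P, (χ : G → ℂ) (y : G) * θ y⁻¹) *
          ((χ : G → ℂ) t ^ 2 / (χ : G → ℂ) 1) := fun χ => mul_div_assoc _ _ _
    simp only [h0]
    apply hL (fun χ => (χ : G → ℂ) t ^ 2 / (χ : G → ℂ) 1)
    intro v hv
    have h1 : ∀ χ : IrrCharacter G, (if χ ∈ principalBlock M G then
        (starRingEnd ℂ) ((χ : G → ℂ) (v : G)) * ((χ : G → ℂ) t ^ 2 / (χ : G → ℂ) 1) else 0) =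
        (Nat.card G : ℂ)⁻¹ * ∑ k : G, (if χ ∈ principalBlock M G then
          (starRingEnd ℂ) ((χ : G → ℂ) (v : G)) * (χ : G → ℂ) (t * (k * t * k⁻¹)) else 0) := by
      intro χ
      by_cases hχ : χ ∈ principalBlock M G
      · simp only [if_pos hχ]
        rw [Cfsg.Agent.Lib.Helper28.char_sq_div_degree, ← Finset.mul_sum]
        ring
      · simp only [if_neg hχ, Finset.sum_const_zero, mul_zero]
    rw [Finset.sum_congr rfl fun χ _ => h1 χ, ← Finset.mul_sum, Finset.sum_comm]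
    have h2 : ∀ k : G, ∑ χ : IrrCharacter G, (if χ ∈ principalBlock M G then
          (starRingEnd ℂ) ((χ : G → ℂ) (v : G)) * (χ : G → ℂ) (t * (k * t * k⁻¹)) else 0) = 0 := by
      intro k
      apply horth _ v
      apply hnotconj _ _ v hv
      have hk2 : (k * t * k⁻¹) * (k * t * k⁻¹) = 1 := by
        calc (k * t * k⁻¹) * (k * t * k⁻¹) = k * (t * t) * k⁻¹ := by group
          _ = 1 := by rw [ht2]; group
      have hkinv : (k * t * k⁻¹)⁻¹ = k * t * k⁻¹ := inv_eq_of_mul_eq_one_left hk2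
      rw [mul_inv_rev, hkinv, htinv, ← mul_assoc, ← mul_assoc, ht2, one_mul]
    rw [Finset.sum_congr rfl fun k _ => h2 k, Finset.sum_const_zero, mul_zero]
  refine ⟨hpart1, hpart2, hpart3, ?_⟩
  intro hS
  by_cases hK : ∃ K : Subgroup G, K.Normal ∧ K ≠ ⊤ ∧ Cfsg.pPrimeCore 2 G ≤ K ∧ t ∈ K
  · exact Or.inr hK
  left
  -- real data
  obtain ⟨a, hadef⟩ : ∃ a : IrrCharacter G → ℂ, a = fun χ : IrrCharacter G =>
      c⁻¹ * ∑ᶠ y : P, (χ : G → ℂ) (y : G) * θ y⁻¹ := ⟨_, rfl⟩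
  have hdeg : ∀ χ : IrrCharacter G, (χ : G → ℂ) 1 = (((χ : G → ℂ) 1).re : ℂ) ∧
      0 < ((χ : G → ℂ) 1).re := by
    intro χ
    obtain ⟨hd0, hd, -⟩ := Cfsg.Agent.Lib.Helper28.irr_degree_nat χ.2
    rw [hd]
    refine ⟨by simp, ?_⟩
    simp only [Complex.natCast_re]
    exact_mod_cast Nat.pos_of_ne_zero hd0
  have htreal : ∀ χ : IrrCharacter G, (χ : G → ℂ) t = (((χ : G → ℂ) t).re : ℂ) := by
    intro χ
    have h1 := Cfsg.Agent.Lib.Helper26.isCharacter_conj_eq_inv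
      (Cfsg.Agent.Lib.Helper26.isCharacter_of_isIrrCharacter χ.2) t
    rw [htinv] at h1
    exact (Complex.conj_eq_iff_re.mp h1).symm
  obtain ⟨s, hs⟩ : ∃ s : Finset (IrrCharacter G),
      s = Finset.univ.filter (fun χ => χ ∈ principalBlock M G) := ⟨_, rfl⟩
  have hsum_conv : ∀ f : IrrCharacter G → ℂ, ∑ᶠ χ ∈ principalBlock M G, f χ = ∑ χ ∈ s, f χ := by
    intro f
    rw [Cfsg.Agent.Lib.Helper28.finsum_mem_eq_sum_ite, hs, Finset.sum_filter]
  have hx : ∀ χ ∈ s, 0 < ((χ : G → ℂ) 1).re := fun χ _ => (hdeg χ).2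
  have h1 : ∑ χ ∈ s, (a χ).re * ((χ : G → ℂ) 1).re = 0 := by
    have := congrArg Complex.re hpart2
    rw [hsum_conv, Complex.re_sum, Complex.zero_re] at this
    refine Eq.trans ?_ this
    refine Finset.sum_congr rfl fun χ _ => ?_
    rw [hadef]
    conv_rhs => rw [(hdeg χ).1, Complex.re_mul_ofReal]
  have h2 : ∑ χ ∈ s, (a χ).re * ((χ : G → ℂ) t).re = 0 := by
    have := congrArg Complex.re hpart3
    rw [hsum_conv, Complex.re_sum, Complex.zero_re] at this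
    refine Eq.trans ?_ this
    refine Finset.sum_congr rfl fun χ _ => ?_
    rw [hadef]
    conv_rhs => rw [htreal χ, Complex.re_mul_ofReal]
  have h3 : ∑ χ ∈ s, (a χ).re * ((χ : G → ℂ) t).re ^ 2 / ((χ : G → ℂ) 1).re = 0 := by
    have := congrArg Complex.re hpart1
    rw [hsum_conv, Complex.re_sum, Complex.zero_re] at this
    refine Eq.trans ?_ this
    refine Finset.sum_congr rfl fun χ _ => ?_
    rw [hadef]
    have h4 : (c⁻¹ * ∑ᶠ y : P, (χ : G → ℂ) (y : G) * θ y⁻¹) * (χ : G → ℂ) t ^ 2 /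
        (χ : G → ℂ) 1 = (c⁻¹ * ∑ᶠ y : P, (χ : G → ℂ) (y : G) * θ y⁻¹) *
        ((((χ : G → ℂ) t).re ^ 2 / ((χ : G → ℂ) 1).re : ℝ) : ℂ) := by
      conv_lhs => rw [htreal χ, (hdeg χ).1]
      push_cast
      ring
    rw [h4, Complex.re_mul_ofReal]
    ring
  have htriv_mem : Cfsg.Agent.Lib.Helper28.trivIrr G ∈ s := by
    rw [hs, Finset.mem_filter]
    exact ⟨Finset.mem_univ _, Cfsg.Agent.Lib.Helper28.trivIrr_mem_principalBlock hMtop⟩
  -- the coefficient of the trivial character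
  have hatriv : a (Cfsg.Agent.Lib.Helper28.trivIrr G) = c⁻¹ * ∑ᶠ y : P, θ y := by
    rw [hadef]
    show c⁻¹ * ∑ᶠ y : P, (1 : ℂ) * θ y⁻¹ = _
    congr 1
    rw [finsum_eq_sum_of_fintype, finsum_eq_sum_of_fintype, ← Equiv.sum_comp (Equiv.inv P)]
    refine Finset.sum_congr rfl fun v _ => ?_
    show (1 : ℂ) * θ (v⁻¹)⁻¹ = θ v
    rw [inv_inv, one_mul]
  have hSreal : ∃ r : ℝ, c⁻¹ * ∑ᶠ y : P, θ y = (r : ℂ) := by
    obtain ⟨χ1, χ2, hχ1, hχ2, hθeq⟩ := hθ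
    have h1' := Cfsg.Agent.Lib.Helper26.classInner_isCharacter_nat hχ1
      (Cfsg.Agent.Lib.Helper28.isCharacter_one' (G := P))
    have h2' := Cfsg.Agent.Lib.Helper26.classInner_isCharacter_nat hχ2
      (Cfsg.Agent.Lib.Helper28.isCharacter_one' (G := P))
    obtain ⟨n1, hn1⟩ := h1'
    obtain ⟨n2, hn2⟩ := h2'
    refine ⟨(n1 : ℝ) - (n2 : ℝ), ?_⟩
    push_cast
    rw [← hn1, ← hn2, hc, finsum_eq_sum_of_fintype, hθeq]
    unfold classInner
    rw [← mul_sub, ← Finset.sum_sub_distrib]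
    congr 1
    refine Finset.sum_congr rfl fun v _ => ?_
    simp
  have hr1 : (a (Cfsg.Agent.Lib.Helper28.trivIrr G)).re ≠ 0 := by
    rw [hatriv]
    obtain ⟨r, hr⟩ := hSreal
    rw [hr] at hS ⊢
    rw [Complex.ofReal_re]
    intro h0
    apply hS
    rw [h0]
    simp
  have hne : ∀ χ ∈ s, χ ≠ Cfsg.Agent.Lib.Helper28.trivIrr G →
      ((χ : G → ℂ) t).re ≠ ((χ : G → ℂ) 1).re := by
    intro χ hχs hχne heq
    apply hK
    rw [hs, Finset.mem_filter] at hχs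
    obtain ⟨K, hKn, hKmem⟩ := Cfsg.Agent.Lib.Helper28.exists_kernel_subgroup χ
    refine ⟨K, hKn, ?_, ?_, ?_⟩
    · intro htop
      apply hχne
      apply Subtype.ext
      apply Cfsg.Agent.Lib.Helper28.irr_eq_one_of_const χ
      intro g
      rw [← hKmem, htop]
      exact Subgroup.mem_top g
    · intro n hn
      rw [hKmem]
      exact Cfsg.Agent.Lib.Helper28.principalBlock_trivial_on_pPrimeCore hM χ hχs.2 n hn
    · rw [hKmem, htreal χ, (hdeg χ).1, heq]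
  have hpos := Cfsg.Agent.Lib.Helper28.two_le_card_pos s (fun χ => (a χ).re)
    (fun χ => ((χ : G → ℂ) 1).re) (fun χ => ((χ : G → ℂ) t).re) hx h1 h2 h3
    (Cfsg.Agent.Lib.Helper28.trivIrr G) htriv_mem hr1 rfl hne
  have hneg := Cfsg.Agent.Lib.Helper28.two_le_card_neg s (fun χ => (a χ).re)
    (fun χ => ((χ : G → ℂ) 1).re) (fun χ => ((χ : G → ℂ) t).re) hx h1 h2 h3
    (Cfsg.Agent.Lib.Helper28.trivIrr G) htriv_mem hr1 rfl hne
  have hcardconv : ∀ Q : IrrCharacter G → Prop,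
      Nat.card {χ : IrrCharacter G // χ ∈ principalBlock M G ∧ Q χ} =
        (s.filter (fun χ => Q χ)).card := by
    intro Q
    rw [Nat.card_eq_fintype_card, Fintype.card_subtype, hs, Finset.filter_filter]
  refine ⟨?_, ?_⟩
  · have := hcardconv (fun χ => 0 < (a χ).re)
    rw [hadef] at this hpos
    rw [this]
    exact hpos
  · have := hcardconv (fun χ => (a χ).re < 0)
    rw [hadef] at this hneg
    rw [this]
    exact hneg

end Cfsg.Agent.S4722
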