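import Cfsg.Statements.S0547
import Mathlib.Tactic.Group
import Mathlib.GroupTheory.Perm.Cycle.Type
import Mathlib.GroupTheory.PGroup
import Mathlib.GroupTheory.Sylow

set_option autoImplicit false
open Cfsg
open scoped commutatorElement

namespace Cfsg.Agent.S0547

/-- A minimal normal subgroup of a finite solvable group is abelian. -/
theorem minNormal_comm {G : Type*} [Group G] [Finite G] [Group.IsSolvable G]
    (M : Subgroup G) [M.Normal] (hM : M ≠ ⊥)
    (hmin : ∀ K : Subgroup G, K.Normal → K ≤ M → K = ⊥ ∨ K = M) :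
    ∀ a ∈ M, ∀ b ∈ M, a * b = b * a := by
  have hlt : ⁅M, M⁆ < M := Group.IsSolvable.commutator_lt_of_ne_bot hM
  have hn : (⁅M, M⁆ : Subgroup G).Normal := Subgroup.commutator_normal M M
  rcases hmin ⁅M, M⁆ hn hlt.le with h | h
  · intro a ha b hb
    have : ⁅a, b⁆ ∈ (⁅M, M⁆ : Subgroup G) := Subgroup.commutator_mem_commutator ha hb
    rw [h, Subgroup.mem_bot] at this
    rw [commutatorElement_eq_one_iff_mul_comm] at this
    exact this
  · exact absurd h hlt.ne

/-- A minimal normal subgroup of a finite solvable group has prime exponent and prime-power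
order. -/
theorem minNormal_elemAb {G : Type*} [Group G] [Finite G] [Group.IsSolvable G]
    (M : Subgroup G) [M.Normal] (hM : M ≠ ⊥)
    (hmin : ∀ K : Subgroup G, K.Normal → K ≤ M → K = ⊥ ∨ K = M) :
    ∃ p d : ℕ, p.Prime ∧ 0 < d ∧ (∀ m ∈ M, m ^ p = 1) ∧ Nat.card M = p ^ d := by
  classical
  have hcomm := minNormal_comm M hM hmin
  have hnt : Nontrivial M := (Subgroup.nontrivial_iff_ne_bot M).mpr hM
  have hcard : 1 < Nat.card M := Finite.one_lt_card
  obtain ⟨p, hp, hpdvd⟩ := Nat.exists_prime_and_dvd (Nat.ne_of_gt hcard)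
  haveI : Fact p.Prime := ⟨hp⟩
  -- the subgroup of elements of M of order dividing p
  let Ω : Subgroup G :=
    { carrier := {m | m ∈ M ∧ m ^ p = 1}
      one_mem' := ⟨M.one_mem, one_pow p⟩
      mul_mem' := by
        rintro a b ⟨ha, ha'⟩ ⟨hb, hb'⟩
        refine ⟨M.mul_mem ha hb, ?_⟩
        have : Commute a b := hcomm a ha b hb
        rw [this.mul_pow, ha', hb', one_mul]
      inv_mem' := by
        rintro a ⟨ha, ha'⟩
        exact ⟨M.inv_mem ha, by rw [inv_pow, ha', inv_one]⟩ }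
  have hΩn : Ω.Normal := by
    constructor
    rintro m ⟨hm, hm'⟩ g
    refine ⟨‹M.Normal›.conj_mem m hm g, ?_⟩
    rw [conj_pow, hm', mul_one, mul_inv_cancel]
  have hΩM : Ω ≤ M := fun m hm => hm.1
  have hΩne : Ω ≠ ⊥ := by
    obtain ⟨x, hx⟩ := exists_prime_orderOf_dvd_card' (G := M) p hpdvd
    intro h
    have hxΩ : (x : G) ∈ Ω := by
      refine ⟨x.2, ?_⟩
      have : x ^ p = 1 := by rw [← hx]; exact pow_orderOf_eq_one x
      have := congrArg Subtype.val this
      simpa using this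
    rw [h, Subgroup.mem_bot] at hxΩ
    have hx1 : x = 1 := Subtype.ext hxΩ
    rw [hx1, orderOf_one] at hx
    exact hp.one_lt.ne hx
  have hΩ : Ω = M := (hmin Ω hΩn hΩM).resolve_left hΩne
  have hexp : ∀ m ∈ M, m ^ p = 1 := by
    intro m hm
    have : m ∈ Ω := by rw [hΩ]; exact hm
    exact this.2
  have hpg : IsPGroup p M := by
    intro m
    refine ⟨1, ?_⟩
    rw [pow_one]
    apply Subtype.ext
    simpa using hexp m m.2
  obtain ⟨d, hd⟩ := IsPGroup.iff_card.mp hpg
  refine ⟨p, d, hp, ?_, hexp, hd⟩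
  rcases Nat.eq_zero_or_pos d with h0 | h0
  · rw [h0, pow_zero] at hd
    omega
  · exact h0

/-- A nontrivial normal subgroup of a group acting faithfully and primitively is transitive. -/
theorem normal_pretransitive {G : Type*} [Group G] {Ω : Type*} [MulAction G Ω] [FaithfulSMul G Ω]
    (hprim : MulAction.IsPreprimitive G Ω) (M : Subgroup G) [M.Normal] (hM : M ≠ ⊥) :
    MulAction.IsPretransitive M Ω := by
  apply MulAction.IsQuasiPreprimitive.isPretransitive_of_normal (G := G)
  intro h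
  apply hM
  rw [Subgroup.eq_bot_iff_forall]
  intro m hm
  apply FaithfulSMul.eq_of_smul_eq_smul (α := Ω)
  intro x
  rw [one_smul]
  have hx : x ∈ MulAction.fixedPoints M Ω := by rw [h]; exact Set.mem_univ x
  exact hx ⟨m, hm⟩

/-- An element of `G` commuting with a transitive subgroup `M` and fixing a point is trivial. -/
theorem eq_one_of_commute_of_fix {G : Type*} [Group G] {Ω : Type*} [MulAction G Ω]
    [FaithfulSMul G Ω] (M : Subgroup G) (hMt : MulAction.IsPretransitive M Ω) (ω : Ω) (c : G)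
    (hc : ∀ m ∈ M, c * m = m * c) (hcω : c • ω = ω) : c = 1 := by
  apply FaithfulSMul.eq_of_smul_eq_smul (α := Ω)
  intro x
  obtain ⟨m, hm⟩ := MulAction.exists_smul_eq M ω x
  rw [one_smul, ← hm]
  show c • ((m : G) • ω) = (m : G) • ω
  rw [← mul_smul, hc m m.2, mul_smul, hcω]

theorem result {G : Type*} [Group G] [Finite G] [Group.IsSolvable G] {Ω : Type*} [Nonempty Ω] [MulAction G Ω] [FaithfulSMul G Ω] (hprim : MulAction.IsPreprimitive G Ω) (M : Subgroup G) [M.Normal] (hM : M ≠ ⊥) (hmin : ∀ K : Subgroup G, K.Normal → K ≤ M → K = ⊥ ∨ K = M) : MulAction.IsPretransitive M Ω ∧ (∀ ω : Ω, MulAction.stabilizer M ω = ⊥) ∧ ∃ p d : ℕ, p.Prime ∧ 0 < d ∧ Nat.card Ω = p ^ d ∧ Nat.card M = p ^ d := by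
  have hMt := normal_pretransitive hprim M hM
  have hcomm := minNormal_comm M hM hmin
  have hstab : ∀ ω : Ω, MulAction.stabilizer M ω = ⊥ := by
    intro ω
    rw [Subgroup.eq_bot_iff_forall]
    intro m hm
    rw [MulAction.mem_stabilizer_iff] at hm
    apply Subtype.ext
    exact eq_one_of_commute_of_fix M hMt ω (m : G) (fun n hn => hcomm m m.2 n hn) hm
  refine ⟨hMt, hstab, ?_⟩
  obtain ⟨p, d, hp, hd, _, hcard⟩ := minNormal_elemAb M hM hmin
  refine ⟨p, d, hp, hd, ?_, hcard⟩
  obtain ⟨ω⟩ := ‹Nonempty Ω›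
  have h1 : (MulAction.stabilizer M ω).index = Nat.card Ω :=
    MulAction.index_stabilizer_of_transitive M ω
  rw [hstab ω, Subgroup.index_bot] at h1
  rw [← h1, hcard]

end Cfsg.Agent.S0547
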