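import Cfsg.Statements.S0553
import Mathlib
import Cfsg.Agent.S0547

set_option autoImplicit false
open Cfsg
open scoped Pointwise

namespace Cfsg.Agent.S0553

universe u

theorem exists_minimal_normal (G : Type*) [Group G] [Finite G] [Nontrivial G] :
    ∃ N : Subgroup G, N.Normal ∧ N ≠ ⊥ ∧
      ∀ K : Subgroup G, K.Normal → K ≤ N → K = ⊥ ∨ K = N := by
  obtain ⟨N, hN⟩ := exists_minimal_of_wellFoundedLT
    (fun N : Subgroup G => N.Normal ∧ N ≠ ⊥) ⟨⊤, inferInstance, top_ne_bot⟩
  refine ⟨N, hN.prop.1, hN.prop.2, fun K hK hKN => ?_⟩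
  by_cases hb : K = ⊥
  · exact Or.inl hb
  · exact Or.inr (le_antisymm hKN (hN.le_of_le ⟨hK, hb⟩ hKN))

theorem all_sylow_normal {G : Type*} [Group G] [Finite G] (p : ℕ) [Fact p.Prime]
    (Q : Subgroup G) [Q.Normal]
    (hQ : Nat.card Q = p ^ (Nat.card G).factorization p) :
    ∀ P : Sylow p G, (P : Subgroup G).Normal := by
  intro P
  obtain ⟨g, hg⟩ := MulAction.exists_smul_eq G (Sylow.ofCard Q hQ) P
  have : (P : Subgroup G) = Q := by
    rw [← hg, Sylow.coe_subgroup_smul]
    simp [Sylow.coe_ofCard, Subgroup.Normal.conj_smul_eq_self]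
  rw [this]; infer_instance

theorem card_comap_mk' {G : Type*} [Group G] [Finite G] (N : Subgroup G) [N.Normal]
    (K : Subgroup (G ⧸ N)) :
    Nat.card (K.comap (QuotientGroup.mk' N)) = Nat.card K * Nat.card N := by
  have h1 := Subgroup.card_mul_index (K.comap (QuotientGroup.mk' N))
  have h2 := Subgroup.card_mul_index K
  have h3 := Subgroup.card_eq_card_quotient_mul_card_subgroup N
  have h4 : (K.comap (QuotientGroup.mk' N)).index = K.index :=
    Subgroup.index_comap_of_surjective K (QuotientGroup.mk'_surjective N)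
  have hpos : 0 < K.index := Nat.pos_of_ne_zero Subgroup.index_ne_zero_of_finite
  rw [h4] at h1
  apply Nat.eq_of_mul_eq_mul_right hpos
  rw [h1, h3, ← h2]; ring

theorem isCoatom_comap_mk' {G : Type*} [Group G] (N : Subgroup G) [N.Normal]
    (K : Subgroup (G ⧸ N)) (hK : IsCoatom K) : IsCoatom (K.comap (QuotientGroup.mk' N)) := by
  have hsurj := QuotientGroup.mk'_surjective N
  refine ⟨?_, ?_⟩
  · intro h
    apply hK.1
    rw [← Subgroup.map_comap_eq_self_of_surjective hsurj K, h, ← MonoidHom.range_eq_map,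
      MonoidHom.range_eq_top.mpr hsurj]
  · intro L hL
    have hNL : N ≤ L := by
      refine le_trans ?_ hL.le
      intro x hx
      rw [Subgroup.mem_comap]
      have : (QuotientGroup.mk' N) x = 1 := (QuotientGroup.eq_one_iff x).mpr hx
      rw [this]; exact K.one_mem
    have hLc : (L.map (QuotientGroup.mk' N)).comap (QuotientGroup.mk' N) = L := by
      rw [Subgroup.comap_map_eq_self]
      rw [QuotientGroup.ker_mk']; exact hNL
    have h1 : K ≤ L.map (QuotientGroup.mk' N) := by
      rw [← Subgroup.map_comap_eq_self_of_surjective hsurj K]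
      exact Subgroup.map_mono hL.le
    have h2 : K ≠ L.map (QuotientGroup.mk' N) := by
      intro h
      rw [h, hLc] at hL
      exact lt_irrefl _ hL
    have h3 := hK.2 _ (lt_of_le_of_ne h1 h2)
    rw [← hLc, h3, Subgroup.comap_top]

theorem main (n : ℕ) : ∀ (G : Type u) [Group G] [Finite G] [Group.IsSolvable G] [Nontrivial G],
    Nat.card G = n →
    (∀ M : Subgroup G, IsCoatom M → (Nat.card M).Coprime M.index) →
    ∃ p : ℕ, p.Prime ∧ p ∣ Nat.card G ∧ ∃ Q : Subgroup G, Q.Normal ∧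
      Nat.card Q = p ^ (Nat.card G).factorization p := by
  induction n using Nat.strong_induction_on with
  | _ n ih =>
  intro G _ _ _ _ hn h
  obtain ⟨N, hNn, hNb, hNmin⟩ := exists_minimal_normal G
  haveI := hNn
  obtain ⟨p, d, hp, hd, -, hNcard⟩ := Cfsg.Agent.S0547.minNormal_elemAb N hNb hNmin
  have hNcomm := Cfsg.Agent.S0547.minNormal_comm N hNb hNmin
  haveI : Fact p.Prime := ⟨hp⟩
  have hpG : p ∣ Nat.card G :=
    (hNcard ▸ dvd_pow_self p hd.ne').trans (Subgroup.card_subgroup_dvd_card N)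
  have hGpos : Nat.card G ≠ 0 := Nat.card_pos.ne'
  by_cases hNtop : N = ⊤
  · refine ⟨p, hp, hpG, ⊤, inferInstance, ?_⟩
    have hG : Nat.card G = p ^ d := by rw [← hNcard, hNtop, Subgroup.card_top]
    rw [Subgroup.card_top, hG, hp.factorization_pow]
    simp
  -- the quotient
  have hquot := Subgroup.card_eq_card_quotient_mul_card_subgroup N
  have hq1 : Nat.card (G ⧸ N) ≠ 1 := by
    rw [← Subgroup.index_eq_card]
    intro h1
    exact hNtop (Subgroup.index_eq_one.mp h1)
  haveI : Nontrivial (G ⧸ N) := by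
    rw [← Finite.one_lt_card_iff_nontrivial]
    have : 0 < Nat.card (G ⧸ N) := Nat.card_pos
    omega
  have hlt : Nat.card (G ⧸ N) < n := by
    rw [← hn, hquot, hNcard]
    have : 2 ≤ p ^ d := by
      calc 2 ≤ p := hp.two_le
        _ = p ^ 1 := (pow_one p).symm
        _ ≤ p ^ d := Nat.pow_le_pow_right hp.pos hd
    have hpos : 0 < Nat.card (G ⧸ N) := Nat.card_pos
    nlinarith
  have hquotH : ∀ M : Subgroup (G ⧸ N), IsCoatom M → (Nat.card M).Coprime M.index := by
    intro M hM
    have hc := h _ (isCoatom_comap_mk' N M hM)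
    rw [Subgroup.index_comap_of_surjective M (QuotientGroup.mk'_surjective N),
      card_comap_mk'] at hc
    exact Nat.Coprime.coprime_dvd_left (Dvd.intro _ rfl) hc
  obtain ⟨q, hq, hqdvd, Qb, hQbn, hQbcard⟩ := ih _ hlt (G ⧸ N) rfl hquotH
  haveI : Fact q.Prime := ⟨hq⟩
  haveI := hQbn
  have hqG : q ∣ Nat.card G := hqdvd.trans (hquot ▸ Dvd.intro _ rfl)
  have hQcard := card_comap_mk' N Qb
  have hquotpos : Nat.card (G ⧸ N) ≠ 0 := Nat.card_pos.ne'
  have hNpos : Nat.card N ≠ 0 := Nat.card_pos.ne'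
  by_cases hqp : q = p
  · subst hqp
    refine ⟨q, hq, hqG, Qb.comap (QuotientGroup.mk' N), inferInstance, ?_⟩
    rw [hQcard, hQbcard, hquot, Nat.factorization_mul hquotpos hNpos, hNcard,
      hq.factorization_pow]
    simp [pow_add]
  -- q ≠ p
  set Q : Subgroup G := Qb.comap (QuotientGroup.mk' N) with hQdef
  haveI hQn : Q.Normal := by rw [hQdef]; infer_instance
  set a := (Nat.card (G ⧸ N)).factorization q with ha
  have hNQ : N ≤ Q := by
    intro x hx
    rw [hQdef, Subgroup.mem_comap]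
    have : (QuotientGroup.mk' N) x = 1 := (QuotientGroup.eq_one_iff x).mpr hx
    rw [this]; exact Qb.one_mem
  have hfq : (Nat.card G).factorization q = a := by
    rw [hquot, Nat.factorization_mul hquotpos hNpos, hNcard, hp.factorization_pow]
    simp [Finsupp.single_apply, Ne.symm hqp, ha]
  have hQc : Nat.card Q = q ^ a * p ^ d := by rw [hQcard, hQbcard, hNcard]
  obtain S : Sylow q Q := default
  set Q₀ : Subgroup G := (S : Subgroup Q).map Q.subtype with hQ₀def
  have hQ₀Q : Q₀ ≤ Q := Subgroup.map_subtype_le _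
  have hcopqp : (q ^ a).Coprime (p ^ d) :=
    Nat.Coprime.pow _ _ ((Nat.coprime_primes hq hp).mpr hqp)
  have hQ₀card : Nat.card Q₀ = q ^ a := by
    rw [hQ₀def, Subgroup.card_map_of_injective Q.subtype_injective, S.card_eq_multiplicity, hQc,
      Nat.factorization_mul (pow_pos hq.pos a).ne' (pow_pos hp.pos d).ne',
      hq.factorization_pow, hp.factorization_pow]
    simp [Finsupp.single_apply, Ne.symm hqp]
  have hFr : Subgroup.normalizer (Q₀ : Set G) ⊔ Q = ⊤ := Sylow.normalizer_sup_eq_top S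
  have hQeq : N ⊔ Q₀ = Q := by
    apply Subgroup.eq_of_le_of_card_ge (sup_le hNQ hQ₀Q)
    have h1 : Nat.card N ∣ Nat.card ↥(N ⊔ Q₀) := Subgroup.card_dvd_of_le le_sup_left
    have h2 : Nat.card Q₀ ∣ Nat.card ↥(N ⊔ Q₀) := Subgroup.card_dvd_of_le le_sup_right
    rw [hNcard] at h1
    rw [hQ₀card] at h2
    have h3 : q ^ a * p ^ d ∣ Nat.card ↥(N ⊔ Q₀) := hcopqp.mul_dvd_of_dvd_of_dvd h2 h1
    rw [hQc]
    exact Nat.le_of_dvd Nat.card_pos h3
  have hFr2 : Subgroup.normalizer (Q₀ : Set G) ⊔ N = ⊤ := by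
    rw [← hQeq, sup_comm N Q₀, ← sup_assoc, sup_eq_left.mpr Subgroup.le_normalizer] at hFr
    exact hFr
  by_cases hnorm : Subgroup.normalizer (Q₀ : Set G) = ⊤
  · refine ⟨q, hq, hqG, Q₀, Subgroup.normalizer_eq_top_iff.mp hnorm, ?_⟩
    rw [hQ₀card, hfq]
  -- a maximal subgroup containing the normalizer
  obtain ⟨M, hM, hle⟩ := (eq_top_or_exists_le_coatom _).resolve_left hnorm
  have hMN : M ⊔ N = ⊤ := by
    apply top_le_iff.mp
    rw [← hFr2]
    exact sup_le_sup_right hle N
  have hMNn : (M ⊓ N).Normal := by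
    rw [← Subgroup.normalizer_eq_top_iff]
    apply top_le_iff.mp
    rw [← hMN]
    apply sup_le
    · intro m hm
      rw [Subgroup.mem_normalizer_iff]
      intro x
      constructor
      · rintro ⟨hx1, hx2⟩
        exact ⟨M.mul_mem (M.mul_mem hm hx1) (M.inv_mem hm), hNn.conj_mem x hx2 m⟩
      · rintro ⟨hx1, hx2⟩
        have e : x = m⁻¹ * (m * x * m⁻¹) * m⁻¹⁻¹ := by group
        rw [e]
        exact ⟨M.mul_mem (M.mul_mem (M.inv_mem hm) hx1) (M.inv_mem (M.inv_mem hm)),
          hNn.conj_mem _ hx2 m⁻¹⟩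
    · intro m hm
      rw [Subgroup.mem_normalizer_iff]
      intro x
      constructor
      · rintro ⟨hx1, hx2⟩
        have e : m * x * m⁻¹ = x := by
          rw [hNcomm m hm x hx2]; group
        rw [e]; exact ⟨hx1, hx2⟩
      · rintro ⟨hx1, hx2⟩
        have hxN : x ∈ N := by
          have e : x = m⁻¹ * (m * x * m⁻¹) * m⁻¹⁻¹ := by group
          rw [e]; exact hNn.conj_mem _ hx2 m⁻¹
        have e : m * x * m⁻¹ = x := by
          rw [hNcomm m hm x hxN]; group
        rw [e] at hx1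
        exact ⟨hx1, hxN⟩
  rcases hNmin (M ⊓ N) hMNn inf_le_right with hbot | hN
  swap
  · exfalso
    have : N ≤ M := by rw [← hN]; exact inf_le_left
    rw [sup_eq_left.mpr this] at hMN
    exact hM.1 hMN
  have hcompl : Subgroup.IsComplement' M N := by
    apply Subgroup.isComplement'_of_disjoint_and_mul_eq_univ (disjoint_iff.mpr hbot)
    rw [← Subgroup.mul_normal, hMN, Subgroup.coe_top]
  have hidx : M.index = Nat.card N := hcompl.symm.index_eq_card
  have hcop := h M hM
  rw [hidx, hNcard] at hcop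
  have hcop' : (Nat.card M).Coprime p :=
    Nat.Coprime.coprime_dvd_right (dvd_pow_self p hd.ne') hcop
  refine ⟨p, hp, hpG, N, hNn, ?_⟩
  have hGM : Nat.card G = Nat.card M * p ^ d := by
    rw [← Subgroup.card_mul_index M, hidx, hNcard]
  have hMpos : Nat.card M ≠ 0 := Nat.card_pos.ne'
  rw [hNcard, hGM, Nat.factorization_mul hMpos (pow_pos hp.pos d).ne', hp.factorization_pow]
  have : (Nat.card M).factorization p = 0 :=
    Nat.factorization_eq_zero_of_not_dvd (fun hdvd => by
      have := Nat.Coprime.eq_one_of_dvd hcop'.symm hdvd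
      exact hp.one_lt.ne' this)
  simp [this]

theorem result {G : Type*} [Group G] [Finite G] [Group.IsSolvable G] [Nontrivial G] (h : ∀ M : Subgroup G, IsCoatom M → (Nat.card M).Coprime M.index) : ∃ p : ℕ, p.Prime ∧ p ∣ Nat.card G ∧ ∀ P : Sylow p G, (P : Subgroup G).Normal := by
  obtain ⟨p, hp, hpG, Q, hQn, hQ⟩ := main (Nat.card G) G rfl h
  haveI : Fact p.Prime := ⟨hp⟩
  haveI := hQn
  exact ⟨p, hp, hpG, all_sylow_normal p Q hQ⟩

end Cfsg.Agent.S0553
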