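-- Statement S0045: Carter subgroups exist and are conjugate in finite solvable groups.
import Cfsg.Statements.S0045
import Mathlib

set_option autoImplicit false
open Pointwise
open Cfsg

namespace Cfsg.Agent.S0045

universe u

section basics

variable {G : Type*} [Group G]

/-- `C` is a Carter subgroup of `H` (everything inside the ambient group `G`), in the one-sided
form, which is enough for finite groups. -/
def CarterIn (H C : Subgroup G) : Prop :=
  C ≤ H ∧ Group.IsNilpotent C ∧ ∀ g ∈ H, (∀ x ∈ C, g * x * g⁻¹ ∈ C) → g ∈ C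

theorem CarterIn.mono {K H C : Subgroup G} (hC : CarterIn K C) (hCH : C ≤ H) (hHK : H ≤ K) :
    CarterIn H C :=
  ⟨hCH, hC.2.1, fun g hg hgn => hC.2.2 g (hHK hg) hgn⟩

theorem mem_cj {g x : G} {H : Subgroup G} : x ∈ MulAut.conj g • H ↔ g⁻¹ * x * g ∈ H := by
  rw [Subgroup.mem_pointwise_smul_iff_inv_smul_mem]
  simp only [MulAut.smul_def, MulAut.conj_inv_apply]

theorem conj_mem_iff [Finite G] {C : Subgroup G} {g : G} (h : ∀ x ∈ C, g * x * g⁻¹ ∈ C) (x : G) :
    x ∈ C ↔ g * x * g⁻¹ ∈ C := by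
  refine ⟨h x, fun hx => ?_⟩
  let φ : C → C := fun c => ⟨g * c * g⁻¹, h c c.2⟩
  have hinj : Function.Injective φ := by
    intro a b hab
    have h1 : g * (a : G) * g⁻¹ = g * (b : G) * g⁻¹ := congrArg Subtype.val hab
    exact Subtype.ext (mul_left_cancel (mul_right_cancel h1))
  obtain ⟨y, hy⟩ := (Finite.injective_iff_surjective.mp hinj) ⟨g * x * g⁻¹, hx⟩
  have h1 : g * (y : G) * g⁻¹ = g * x * g⁻¹ := congrArg Subtype.val hy
  have h2 : (y : G) = x := mul_left_cancel (mul_right_cancel h1)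
  rw [← h2]; exact y.2

theorem carter_iff [Finite G] (C : Subgroup G) :
    (Group.IsNilpotent C ∧ Subgroup.normalizer (C : Set G) = C) ↔ CarterIn ⊤ C := by
  constructor
  · rintro ⟨hn, hnorm⟩
    refine ⟨le_top, hn, fun g _ hg => ?_⟩
    have h1 : g ∈ Subgroup.normalizer (C : Set G) :=
      Subgroup.mem_normalizer_iff.mpr (conj_mem_iff hg)
    rwa [hnorm] at h1
  · rintro ⟨-, hn, h⟩
    refine ⟨hn, le_antisymm (fun g hg => ?_) Subgroup.le_normalizer⟩
    exact h g (Subgroup.mem_top g) (fun x hx => (Subgroup.mem_normalizer_iff.mp hg x).mp hx)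

theorem carterIn_cj {H C : Subgroup G} (hC : CarterIn H C) {g : G} (hg : g ∈ H) :
    CarterIn H (MulAut.conj g • C) := by
  refine ⟨fun x hx => ?_, ?_, fun k hk hkn => ?_⟩
  · rw [mem_cj] at hx
    have h1 : g * (g⁻¹ * x * g) * g⁻¹ ∈ H :=
      H.mul_mem (H.mul_mem hg (hC.1 hx)) (H.inv_mem hg)
    have e : g * (g⁻¹ * x * g) * g⁻¹ = x := by group
    rwa [e] at h1
  · haveI := hC.2.1
    exact (Group.isNilpotent_congr (Subgroup.equivSMul (MulAut.conj g) C)).mp hC.2.1
  · rw [mem_cj]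
    apply hC.2.2 (g⁻¹ * k * g) (H.mul_mem (H.mul_mem (H.inv_mem hg) hk) hg)
    intro c hc
    have h1 : g * c * g⁻¹ ∈ MulAut.conj g • C := by
      rw [mem_cj]
      have e : g⁻¹ * (g * c * g⁻¹) * g = c := by group
      rwa [e]
    have h2 := hkn _ h1
    rw [mem_cj] at h2
    have e : g⁻¹ * (k * (g * c * g⁻¹) * k⁻¹) * g = g⁻¹ * k * g * c * (g⁻¹ * k * g)⁻¹ := by group
    rwa [e] at h2

theorem card_lt_of_lt [Finite G] {M N : Subgroup G} (h : M < N) :
    Nat.card M < Nat.card N :=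
  Set.ncard_lt_ncard (s := (M : Set G)) (t := (N : Set G)) (by exact_mod_cast h) (Set.toFinite _)

theorem card_lt_of_ne_top [Finite G] {K : Subgroup G} (h : K ≠ ⊤) : Nat.card K < Nat.card G := by
  have := card_lt_of_lt (lt_top_iff_ne_top.mpr h)
  rwa [Subgroup.card_top] at this

/-- Carter data for a group. -/
def PC (G : Type*) [Group G] : Prop :=
  (∃ C : Subgroup G, CarterIn ⊤ C) ∧
  ∀ C D : Subgroup G, CarterIn ⊤ C → CarterIn ⊤ D → ∃ g : G, MulAut.conj g • C = D

/-- Carter data for a subgroup, stated inside the ambient group. -/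
def PCrel (H : Subgroup G) : Prop :=
  (∃ C : Subgroup G, CarterIn H C) ∧
  ∀ C D : Subgroup G, CarterIn H C → CarterIn H D → ∃ g ∈ H, MulAut.conj g • C = D

theorem carterIn_subgroupOf {H C : Subgroup G} (hC : CarterIn H C) :
    CarterIn ⊤ (C.subgroupOf H) := by
  refine ⟨le_top, ?_, fun x _ hx => ?_⟩
  · exact (Group.isNilpotent_congr (Subgroup.subgroupOfEquivOfLe hC.1)).mpr hC.2.1
  · rw [Subgroup.mem_subgroupOf]
    apply hC.2.2 (x : G) x.2
    intro c hc
    have h1 := hx ⟨c, hC.1 hc⟩ (Subgroup.mem_subgroupOf.mpr hc)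
    rw [Subgroup.mem_subgroupOf] at h1
    exact h1

theorem pcrel_of_pc (H : Subgroup G) (h : PC H) : PCrel H := by
  obtain ⟨⟨C', hC'⟩, hconj⟩ := h
  refine ⟨⟨C'.map H.subtype, Subgroup.map_subtype_le C', ?_, fun g hg hgn => ?_⟩, ?_⟩
  · exact (Group.isNilpotent_congr
      (Subgroup.equivMapOfInjective C' H.subtype H.subtype_injective)).mp hC'.2.1
  · have h1 : (⟨g, hg⟩ : H) ∈ C' := by
      apply hC'.2.2 ⟨g, hg⟩ (Subgroup.mem_top _)
      intro x hx
      obtain ⟨y, hy, hyx⟩ := hgn (x : G) ⟨x, hx, rfl⟩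
      have e : y = ⟨g, hg⟩ * x * (⟨g, hg⟩ : H)⁻¹ := Subtype.ext hyx
      rw [← e]; exact hy
    exact ⟨⟨g, hg⟩, h1, rfl⟩
  · intro C D hC hD
    obtain ⟨h, hh⟩ := hconj _ _ (carterIn_subgroupOf hC) (carterIn_subgroupOf hD)
    rw [Subgroup.conj_smul_subgroupOf hC.1, Subgroup.subgroupOf_inj] at hh
    have hl1 : MulAut.conj (h : G) • C ≤ H := Subgroup.conj_smul_le_of_le hC.1 h
    rw [inf_eq_left.mpr hl1, inf_eq_left.mpr hD.1] at hh
    exact ⟨h, h.2, hh⟩

/-- Lemma A (internal form): `C N` is self-normalizing in `K` when `C` is a Carter subgroup of `K`. -/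
theorem sup_selfNormalizing [Finite G] {n : ℕ}
    (IH : ∀ H : Subgroup G, Nat.card H < n → PCrel H)
    {K C N : Subgroup G} (hK : Nat.card K ≤ n) (hC : CarterIn K C) [N.Normal] (hNK : N ≤ K)
    {g : G} (hg : g ∈ K) (hgn : ∀ x ∈ C ⊔ N, g * x * g⁻¹ ∈ C ⊔ N) : g ∈ C ⊔ N := by
  have hHK : C ⊔ N ≤ K := sup_le hC.1 hNK
  by_cases hH : C ⊔ N = K
  · rw [hH]; exact hg
  have hlt : C ⊔ N < K := lt_of_le_of_ne hHK hH
  have hcard : Nat.card ↥(C ⊔ N) < n := lt_of_lt_of_le (card_lt_of_lt hlt) hK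
  have hC1 : CarterIn (C ⊔ N) C := hC.mono le_sup_left hHK
  have hC2 : CarterIn (C ⊔ N) (MulAut.conj g • C) := by
    refine (carterIn_cj hC hg).mono (fun x hx => ?_) hHK
    rw [mem_cj] at hx
    have h1 := hgn _ (le_sup_left (a := C) (b := N) hx)
    have e : g * (g⁻¹ * x * g) * g⁻¹ = x := by group
    rwa [e] at h1
  obtain ⟨h, hh, e⟩ := (IH _ hcard).2 C _ hC1 hC2
  have h3 : h⁻¹ * g ∈ C := by
    apply hC.2.2 (h⁻¹ * g) (K.mul_mem (K.inv_mem (hHK hh)) hg)
    intro c hc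
    have h1 : g * c * g⁻¹ ∈ MulAut.conj g • C := by
      rw [mem_cj]
      have e : g⁻¹ * (g * c * g⁻¹) * g = c := by group
      rwa [e]
    rw [← e, mem_cj] at h1
    have e2 : h⁻¹ * (g * c * g⁻¹) * h = h⁻¹ * g * c * (h⁻¹ * g)⁻¹ := by group
    rwa [e2] at h1
  have h4 : h * (h⁻¹ * g) ∈ C ⊔ N :=
    (C ⊔ N).mul_mem hh (le_sup_left (a := C) (b := N) h3)
  rwa [mul_inv_cancel_left] at h4

/-- A self-normalizing subgroup of a nilpotent subgroup is the whole subgroup. -/
theorem eq_of_selfNormalizing_of_nilpotent {K H : Subgroup G} (hK : Group.IsNilpotent K)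
    (hHK : H ≤ K) (h : ∀ k ∈ K, (∀ x ∈ H, k * x * k⁻¹ ∈ H) → k ∈ H) : H = K := by
  by_contra hne
  have h1 : H.subgroupOf K ≠ ⊤ := by
    rw [Ne, Subgroup.subgroupOf_eq_top]
    exact fun hKH => hne (le_antisymm hHK hKH)
  have h2 := Group.normalizerCondition_of_isNilpotent (G := K) (H.subgroupOf K) (lt_top_iff_ne_top.mpr h1)
  obtain ⟨k, hk1, hk2⟩ := SetLike.exists_of_lt h2
  apply hk2
  rw [Subgroup.mem_subgroupOf]
  apply h (k : G) k.2
  intro x hx
  have h3 := (Subgroup.mem_normalizer_iff.mp hk1 ⟨x, hHK hx⟩).mp (Subgroup.mem_subgroupOf.mpr hx)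
  rw [Subgroup.mem_subgroupOf] at h3
  exact h3

theorem normal_of_sup_eq_top {A B X : Subgroup G} (h : A ⊔ B = ⊤)
    (hA : ∀ a ∈ A, ∀ x ∈ X, a * x * a⁻¹ ∈ X) (hB : ∀ b ∈ B, ∀ x ∈ X, b * x * b⁻¹ ∈ X) :
    X.Normal := by
  have h1 : A ⊔ B ≤ Subgroup.normalizer (X : Set G) :=
    sup_le (Subgroup.le_normalizer_iff.mpr hA) (Subgroup.le_normalizer_iff.mpr hB)
  rw [h, top_le_iff] at h1
  exact Subgroup.normalizer_eq_top_iff.mp h1

end basics

section quotient

variable {G : Type*} [Group G] {N : Subgroup G} [N.Normal]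

theorem mem_of_map_mem {H : Subgroup G} (hNH : N ≤ H) {a : G}
    (h : QuotientGroup.mk' N a ∈ H.map (QuotientGroup.mk' N)) : a ∈ H := by
  obtain ⟨y, hy, hya⟩ := h
  obtain ⟨z, hz, hzy⟩ := (QuotientGroup.mk'_eq_mk' N).mp hya
  rw [← hzy]
  exact H.mul_mem hy (hNH hz)

theorem map_selfNormalizing {H : Subgroup G} (hNH : N ≤ H)
    (h : ∀ g, (∀ x ∈ H, g * x * g⁻¹ ∈ H) → g ∈ H) :
    ∀ g' : G ⧸ N, (∀ x' ∈ H.map (QuotientGroup.mk' N),
      g' * x' * g'⁻¹ ∈ H.map (QuotientGroup.mk' N)) → g' ∈ H.map (QuotientGroup.mk' N) := by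
  intro g' hg'
  obtain ⟨g, rfl⟩ := QuotientGroup.mk'_surjective N g'
  refine ⟨g, h g (fun x hx => ?_), rfl⟩
  have h1 := hg' (QuotientGroup.mk' N x) ⟨x, hx, rfl⟩
  rw [← map_inv, ← map_mul, ← map_mul] at h1
  exact mem_of_map_mem hNH h1

theorem comap_selfNormalizing {K' : Subgroup (G ⧸ N)}
    (h : ∀ g', (∀ x' ∈ K', g' * x' * g'⁻¹ ∈ K') → g' ∈ K') :
    ∀ g, (∀ x ∈ K'.comap (QuotientGroup.mk' N), g * x * g⁻¹ ∈ K'.comap (QuotientGroup.mk' N)) →
      g ∈ K'.comap (QuotientGroup.mk' N) := by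
  intro g hg
  rw [Subgroup.mem_comap]
  apply h
  intro x' hx'
  obtain ⟨x, rfl⟩ := QuotientGroup.mk'_surjective N x'
  have h1 := hg x (Subgroup.mem_comap.mpr hx')
  rw [Subgroup.mem_comap, map_mul, map_mul, map_inv] at h1
  exact h1

theorem map_sup_ker (C : Subgroup G) :
    (C ⊔ N).map (QuotientGroup.mk' N) = C.map (QuotientGroup.mk' N) := by
  rw [Subgroup.map_sup, (Subgroup.map_eq_bot_iff N).mpr (by rw [QuotientGroup.ker_mk']), sup_bot_eq]

end quotient

section minimal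

variable {G : Type*} [Group G]

theorem commutator_lt_of_isSolvable {N : Subgroup G} (hs : Group.IsSolvable N)
    (hN : N ≠ ⊥) : ⁅N, N⁆ < N := by
  have : Nontrivial N := (Subgroup.nontrivial_iff_ne_bot N).mpr hN
  have h := Group.IsSolvable.commutator_lt_top_of_nontrivial (G := N)
  have e : ⁅N, N⁆ = (commutator N).map N.subtype := (Subgroup.map_subtype_commutator N).symm
  rw [e]
  calc (commutator N).map N.subtype < (⊤ : Subgroup N).map N.subtype :=
        (Subgroup.map_lt_map_iff_of_injective N.subtype_injective).mpr h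
    _ = N := by rw [← MonoidHom.range_eq_map, Subgroup.range_subtype]

theorem exists_minimal_normal [Finite G] [Group.IsSolvable G] [Nontrivial G] :
    ∃ N : Subgroup G, N.Normal ∧ N ≠ ⊥ ∧ (∀ a ∈ N, ∀ b ∈ N, a * b = b * a) ∧
      ∀ M : Subgroup G, M.Normal → M ≤ N → M = ⊥ ∨ M = N := by
  classical
  have hS : ∃ k, ∃ M : Subgroup G, M.Normal ∧ M ≠ ⊥ ∧ Nat.card M = k :=
    ⟨_, ⊤, inferInstance, top_ne_bot, rfl⟩
  obtain ⟨N, hNn, hNb, hNc⟩ := Nat.find_spec hS
  have hmin : ∀ M : Subgroup G, M.Normal → M ≤ N → M = ⊥ ∨ M = N := by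
    intro M hMn hMN
    by_cases hM : M = ⊥
    · exact Or.inl hM
    · right
      apply Subgroup.eq_of_le_of_card_ge hMN
      rw [hNc]
      exact Nat.find_min' hS ⟨M, hMn, hM, rfl⟩
  refine ⟨N, hNn, hNb, ?_, hmin⟩
  haveI := hNn
  have hlt : ⁅N, N⁆ < N := commutator_lt_of_isSolvable inferInstance hNb
  have hbot : ⁅N, N⁆ = ⊥ := by
    rcases hmin ⁅N, N⁆ inferInstance hlt.le with h | h
    · exact h
    · exact absurd h hlt.ne
  rw [Subgroup.commutator_eq_bot_iff_le_centralizer] at hbot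
  intro a ha b hb
  exact (Subgroup.mem_centralizer_iff.mp (hbot hb) a ha)

end minimal


section steps

variable {G : Type u} [Group G] [Finite G] [Group.IsSolvable G]

theorem sup_conj_le {C N : Subgroup G} [N.Normal] {g : G} (hg : ∀ x ∈ C, g * x * g⁻¹ ∈ C) :
    ∀ x ∈ C ⊔ N, g * x * g⁻¹ ∈ C ⊔ N := by
  intro x hx
  obtain ⟨c, hc, a, ha, rfl⟩ := Subgroup.mem_sup_of_normal_right.mp hx
  have e : g * (c * a) * g⁻¹ = (g * c * g⁻¹) * (g * a * g⁻¹) := by group
  rw [e]
  exact (C ⊔ N).mul_mem (le_sup_left (a := C) (b := N) (hg c hc))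
    (le_sup_right (a := C) (b := N) (‹N.Normal›.conj_mem a ha g))

theorem existence_step {n : ℕ} (hn : Nat.card G = n)
    (IHsub : ∀ H : Subgroup G, Nat.card H < n → PCrel H)
    (IHquot : ∀ (N : Subgroup G) [N.Normal], N ≠ ⊥ → PC (G ⧸ N)) :
    ∃ C : Subgroup G, CarterIn ⊤ C := by
  by_cases hnil : Group.IsNilpotent G
  · exact ⟨⊤, le_rfl, Group.isNilpotent_top.mpr hnil, fun g _ _ => Subgroup.mem_top g⟩
  have hnt : Nontrivial G := by
    by_contra h
    rw [not_nontrivial_iff_subsingleton] at h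
    exact hnil inferInstance
  obtain ⟨N, hNn, hNb, hNab, hNmin⟩ := exists_minimal_normal (G := G)
  haveI := hNn
  obtain ⟨⟨K', hK'⟩, -⟩ := IHquot N hNb
  have hsurj := QuotientGroup.mk'_surjective N
  have hNK : N ≤ K'.comap (QuotientGroup.mk' N) := by
    intro x hx
    rw [Subgroup.mem_comap, QuotientGroup.mk'_apply, (QuotientGroup.eq_one_iff x).mpr hx]
    exact K'.one_mem
  have hKsn := comap_selfNormalizing (N := N) (K' := K')
    (fun g' hg' => hK'.2.2 g' (Subgroup.mem_top _) hg')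
  have hmapK : (K'.comap (QuotientGroup.mk' N)).map (QuotientGroup.mk' N) = K' :=
    Subgroup.map_comap_eq_self_of_surjective hsurj K'
  by_cases hKtop : K'.comap (QuotientGroup.mk' N) = ⊤
  · -- `G ⧸ N` is nilpotent
    have hK'top : K' = ⊤ := by
      rw [← hmapK, hKtop, Subgroup.map_top_of_surjective _ hsurj]
    have hQnil : Group.IsNilpotent (G ⧸ N) := Group.isNilpotent_top.mp (hK'top ▸ hK'.2.1)
    have h3 : ¬ ∀ H : Subgroup G, IsCoatom H → H.Normal := fun h =>
      hnil ((Group.isNilpotent_of_finite_tfae (G := G)).out 0 2 |>.mpr h)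
    push_neg at h3
    obtain ⟨M, hMco, hMnn⟩ := h3
    have hMsn : ∀ g, (∀ x ∈ M, g * x * g⁻¹ ∈ M) → g ∈ M := by
      intro g hg
      by_contra hgM
      apply hMnn
      have h1 : g ∈ Subgroup.normalizer (M : Set G) :=
        Subgroup.mem_normalizer_iff.mpr (conj_mem_iff hg)
      have h2 : M < Subgroup.normalizer (M : Set G) :=
        lt_of_le_of_ne Subgroup.le_normalizer (fun e => hgM (e ▸ h1))
      exact Subgroup.normalizer_eq_top_iff.mp (hMco.2 _ h2)
    have hNM : ¬ N ≤ M := by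
      intro hNM
      have hne : M.map (QuotientGroup.mk' N) ≠ ⊤ := by
        intro e
        apply hMco.1
        rw [Subgroup.eq_top_iff']
        intro x
        apply mem_of_map_mem hNM
        rw [e]; exact Subgroup.mem_top _
      have h2 := Group.normalizerCondition_of_isNilpotent (G := G ⧸ N) _ (lt_top_iff_ne_top.mpr hne)
      obtain ⟨k', hk1, hk2⟩ := SetLike.exists_of_lt h2
      apply hk2
      exact map_selfNormalizing hNM hMsn k'
        (fun x' hx' => (Subgroup.mem_normalizer_iff.mp hk1 x').mp hx')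
    have hMN : M ⊔ N = ⊤ :=
      hMco.2 _ (lt_of_le_of_ne le_sup_left (fun e => hNM (e ▸ le_sup_right)))
    have hinfn : (M ⊓ N).Normal := by
      apply normal_of_sup_eq_top hMN
      · intro a ha x hx
        exact ⟨M.mul_mem (M.mul_mem ha hx.1) (M.inv_mem ha), hNn.conj_mem x hx.2 a⟩
      · intro b hb x hx
        have e : b * x * b⁻¹ = x := by rw [hNab b hb x hx.2, mul_inv_cancel_right]
        rw [e]; exact hx
    have hinf : M ⊓ N = ⊥ := by
      rcases hNmin _ hinfn inf_le_right with h | h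
      · exact h
      · exact absurd (h ▸ inf_le_left) hNM
    refine ⟨M, le_top, ?_, fun g _ hg => hMsn g hg⟩
    apply isNilpotent_of_ker_le_center ((QuotientGroup.mk' N).comp M.subtype)
    intro x hx
    rw [MonoidHom.mem_ker, MonoidHom.comp_apply, QuotientGroup.mk'_apply,
      QuotientGroup.eq_one_iff] at hx
    have h1 : (x : G) ∈ M ⊓ N := ⟨x.2, hx⟩
    rw [hinf, Subgroup.mem_bot] at h1
    have h2 : x = 1 := Subtype.ext h1
    rw [h2]; exact Subgroup.one_mem _
  · -- `K < G`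
    have hKlt : Nat.card ↥(K'.comap (QuotientGroup.mk' N)) < n := hn ▸ card_lt_of_ne_top hKtop
    obtain ⟨⟨C, hC⟩, -⟩ := IHsub _ hKlt
    have hle : C ⊔ N ≤ K'.comap (QuotientGroup.mk' N) := sup_le hC.1 hNK
    have hCN : C ⊔ N = K'.comap (QuotientGroup.mk' N) := by
      have h1 : (C ⊔ N).map (QuotientGroup.mk' N) = K' := by
        apply eq_of_selfNormalizing_of_nilpotent hK'.2.1
        · rw [← hmapK]; exact Subgroup.map_mono hle
        · intro k' hk' hk'n
          obtain ⟨k, rfl⟩ := hsurj k'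
          refine ⟨k, ?_, rfl⟩
          apply sup_selfNormalizing IHsub (le_of_lt hKlt) hC hNK (Subgroup.mem_comap.mpr hk')
          intro x hx
          have h1 := hk'n (QuotientGroup.mk' N x) ⟨x, hx, rfl⟩
          rw [← map_inv, ← map_mul, ← map_mul] at h1
          exact mem_of_map_mem le_sup_right h1
      have h2 := congrArg (Subgroup.comap (QuotientGroup.mk' N)) h1
      rwa [Subgroup.comap_map_eq, QuotientGroup.ker_mk', sup_assoc, sup_idem] at h2
    refine ⟨C, le_top, hC.2.1, fun g _ hg => ?_⟩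
    have hgK : g ∈ K'.comap (QuotientGroup.mk' N) := by
      apply hKsn g
      rw [← hCN]
      exact sup_conj_le hg
    exact hC.2.2 g hgK hg

theorem conj_case1 {n : ℕ} (hn : Nat.card G = n)
    (IHsub : ∀ H : Subgroup G, Nat.card H < n → PCrel H)
    (IHquot : ∀ (N : Subgroup G) [N.Normal], N ≠ ⊥ → PC (G ⧸ N))
    {C D : Subgroup G} (hC : CarterIn ⊤ C) (hD : CarterIn ⊤ D)
    (M : Subgroup G) [M.Normal] (hM : M ≠ ⊥) (hCM : C ⊔ M ≠ ⊤) :
    ∃ g : G, MulAut.conj g • C = D := by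
  have hcard : Nat.card (⊤ : Subgroup G) ≤ n := by rw [Subgroup.card_top, hn]
  have key : ∀ {E : Subgroup G}, CarterIn ⊤ E → CarterIn ⊤ (E.map (QuotientGroup.mk' M)) := by
    intro E hE
    refine ⟨le_top, ?_, fun g' _ hg' => ?_⟩
    · haveI := hE.2.1
      exact nilpotent_of_surjective ((QuotientGroup.mk' M).subgroupMap E)
        ((QuotientGroup.mk' M).subgroupMap_surjective E)
    · rw [← map_sup_ker] at hg' ⊢
      exact map_selfNormalizing le_sup_right
        (fun g hg => sup_selfNormalizing IHsub hcard hE le_top (Subgroup.mem_top g) hg) g' hg'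
  obtain ⟨g', hg'⟩ := (IHquot M hM).2 _ _ (key hC) (key hD)
  obtain ⟨g, rfl⟩ := QuotientGroup.mk'_surjective M g'
  -- the subgroup `H = (C M)^g`
  have hDH : D ≤ MulAut.conj g • (C ⊔ M) := by
    intro d hd
    rw [mem_cj]
    apply mem_of_map_mem (N := M) le_sup_right
    rw [map_sup_ker]
    have h1 : QuotientGroup.mk' M d ∈ MulAut.conj (QuotientGroup.mk' M g) • C.map (QuotientGroup.mk' M) := by
      rw [hg']; exact ⟨d, hd, rfl⟩
    rw [mem_cj] at h1
    rw [map_mul, map_mul, map_inv]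
    exact h1
  have hCH : MulAut.conj g • C ≤ MulAut.conj g • (C ⊔ M) := by
    intro x hx
    rw [mem_cj] at hx ⊢
    exact le_sup_left (a := C) (b := M) hx
  have hHtop : MulAut.conj g • (C ⊔ M) ≠ ⊤ := by
    intro e
    apply hCM
    rw [Subgroup.eq_top_iff']
    intro y
    have h1 : g * y * g⁻¹ ∈ MulAut.conj g • (C ⊔ M) := by rw [e]; exact Subgroup.mem_top _
    rw [mem_cj] at h1
    have e2 : g⁻¹ * (g * y * g⁻¹) * g = y := by group
    rwa [e2] at h1
  have hHcard : Nat.card ↥(MulAut.conj g • (C ⊔ M)) < n := hn ▸ card_lt_of_ne_top hHtop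
  obtain ⟨h, -, hh⟩ := (IHsub _ hHcard).2 _ _
    ((carterIn_cj hC (Subgroup.mem_top g)).mono hCH le_top) (hD.mono hDH le_top)
  exact ⟨h * g, by rw [map_mul, mul_smul, hh]⟩

theorem inf_eq_bot_of {C N : Subgroup G} [hNn : N.Normal] (hab : ∀ a ∈ N, ∀ b ∈ N, a * b = b * a)
    (hmin : ∀ M : Subgroup G, M.Normal → M ≤ N → M = ⊥ ∨ M = N)
    (hCN : C ⊔ N = ⊤) (hCt : C ≠ ⊤) : C ⊓ N = ⊥ := by
  have hinfn : (C ⊓ N).Normal := by
    apply normal_of_sup_eq_top hCN
    · intro a ha x hx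
      exact ⟨C.mul_mem (C.mul_mem ha hx.1) (C.inv_mem ha), hNn.conj_mem x hx.2 a⟩
    · intro b hb x hx
      have e : b * x * b⁻¹ = x := by rw [hab b hb x hx.2, mul_inv_cancel_right]
      rw [e]; exact hx
  rcases hmin _ hinfn inf_le_right with h | h
  · exact h
  · exfalso
    apply hCt
    have h1 : N ≤ C := h ▸ inf_le_left
    rw [← hCN, sup_eq_left.mpr h1]

theorem cent_le {C N : Subgroup G} [N.Normal] (hCN : C ⊔ N = ⊤) {z : G}
    (hz : ∀ c ∈ C, c * z = z * c) (hF : ∀ y ∈ N, y * z = z * y → y = 1) {x : G}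
    (hx : x * z = z * x) : x ∈ C := by
  have h1 : x ∈ C ⊔ N := by rw [hCN]; exact Subgroup.mem_top x
  obtain ⟨c, hc, m, hm, rfl⟩ := Subgroup.mem_sup_of_normal_right.mp h1
  have h2 : m * z = z * m := by
    have h3 := hz c hc
    have h4 : c * (m * z) = c * (z * m) := by
      rw [← mul_assoc, hx, ← mul_assoc, ← h3, mul_assoc]
    exact mul_left_cancel h4
  rw [hF m hm h2, mul_one]
  exact hc

theorem conj_step {n : ℕ} (hn : Nat.card G = n)
    (IHsub : ∀ H : Subgroup G, Nat.card H < n → PCrel H)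
    (IHquot : ∀ (N : Subgroup G) [N.Normal], N ≠ ⊥ → PC (G ⧸ N))
    {C D : Subgroup G} (hC : CarterIn ⊤ C) (hD : CarterIn ⊤ D) :
    ∃ g : G, MulAut.conj g • C = D := by
  by_cases h1 : ∃ M : Subgroup G, M.Normal ∧ M ≠ ⊥ ∧ C ⊔ M ≠ ⊤
  · obtain ⟨M, hMn, hM, hCM⟩ := h1
    haveI := hMn
    exact conj_case1 hn IHsub IHquot hC hD M hM hCM
  by_cases h2 : ∃ M : Subgroup G, M.Normal ∧ M ≠ ⊥ ∧ D ⊔ M ≠ ⊤
  · obtain ⟨M, hMn, hM, hDM⟩ := h2
    haveI := hMn
    obtain ⟨g, hg⟩ := conj_case1 hn IHsub IHquot hD hC M hM hDM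
    exact ⟨g⁻¹, by rw [← hg, ← mul_smul, ← map_mul, inv_mul_cancel, map_one, one_smul]⟩
  push_neg at h1 h2
  by_cases hCt : C = ⊤
  · have hDt : D = ⊤ :=
      eq_of_selfNormalizing_of_nilpotent (K := ⊤) (H := D) (hCt ▸ hC.2.1) le_top hD.2.2
    exact ⟨1, by rw [map_one, one_smul, hCt, hDt]⟩
  by_cases hDt : D = ⊤
  · have hCt' : C = ⊤ :=
      eq_of_selfNormalizing_of_nilpotent (K := ⊤) (H := C) (hDt ▸ hD.2.1) le_top hC.2.2
    exact absurd hCt' hCt
  have hnt : Nontrivial G := by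
    by_contra h
    rw [not_nontrivial_iff_subsingleton] at h
    exact hCt (Subsingleton.elim _ _)
  obtain ⟨N, hNn, hNb, hNab, hNmin⟩ := exists_minimal_normal (G := G)
  haveI := hNn
  have hCN : C ⊔ N = ⊤ := h1 N hNn hNb
  have hDN : D ⊔ N = ⊤ := h2 N hNn hNb
  have hCi : C ⊓ N = ⊥ := inf_eq_bot_of hNab hNmin hCN hCt
  have hDi : D ⊓ N = ⊥ := inf_eq_bot_of hNab hNmin hDN hDt
  -- `C₀ = C_C(N)` is trivial
  have hC0 : ∀ c ∈ C, (∀ a ∈ N, a * c = c * a) → c = 1 := by
    intro c hc hcN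
    let C0 : Subgroup G := C ⊓ Subgroup.centralizer (N : Set G)
    have hC0n : C0.Normal := by
      apply normal_of_sup_eq_top hCN
      · intro a ha x hx
        refine ⟨C.mul_mem (C.mul_mem ha hx.1) (C.inv_mem ha), ?_⟩
        show a * x * a⁻¹ ∈ Subgroup.centralizer (N : Set G)
        rw [Subgroup.mem_centralizer_iff]
        intro b hb
        have h3 := Subgroup.mem_centralizer_iff.mp hx.2 (a⁻¹ * b * a) (by
          have := hNn.conj_mem b hb a⁻¹
          rwa [inv_inv] at this)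
        have e1 : b * (a * x * a⁻¹) = a * ((a⁻¹ * b * a) * x) * a⁻¹ := by group
        have e2 : a * x * a⁻¹ * b = a * (x * (a⁻¹ * b * a)) * a⁻¹ := by group
        rw [e1, e2, h3]
      · intro b hb x hx
        have h3 := Subgroup.mem_centralizer_iff.mp hx.2 b hb
        have e : b * x * b⁻¹ = x := by rw [h3, mul_inv_cancel_right]
        rw [e]; exact hx
    have hC0b : C0 = ⊥ := by
      by_contra hne
      have h3 := h1 C0 hC0n hne
      rw [sup_eq_left.mpr (inf_le_left : C0 ≤ C)] at h3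
      exact hCt h3
    have h4 : c ∈ C0 := ⟨hc, Subgroup.mem_centralizer_iff.mpr hcN⟩
    rw [hC0b, Subgroup.mem_bot] at h4
    exact h4
  -- a nontrivial central element of `C`
  have hCb : C ≠ ⊥ := by
    intro hb
    apply hCt
    rw [Subgroup.eq_top_iff']
    intro g
    apply hC.2.2 g (Subgroup.mem_top g)
    intro x hx
    rw [hb, Subgroup.mem_bot] at hx
    rw [hx, mul_one, mul_inv_cancel]
    exact Subgroup.one_mem _
  haveI : Nontrivial C := (Subgroup.nontrivial_iff_ne_bot C).mpr hCb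
  haveI : Group.IsNilpotent C := hC.2.1
  have hcen := Group.IsNilpotent.center_ne_bot (G := C)
  obtain ⟨z', hz'c, hz'1⟩ := (Subgroup.center C).bot_or_exists_ne_one.resolve_left hcen
  have hzC : (z' : G) ∈ C := z'.2
  have hz1 : (z' : G) ≠ 1 := fun h => hz'1 (Subtype.ext h)
  have hzc : ∀ c ∈ C, c * (z' : G) = z' * c := by
    intro c hc
    have := Subgroup.mem_center_iff.mp hz'c ⟨c, hc⟩
    exact congrArg Subtype.val this
  generalize (z' : G) = z at hzC hz1 hzc
  -- `C_N(z) = 1`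
  have hF : ∀ y ∈ N, y * z = z * y → y = 1 := by
    let F : Subgroup G := N ⊓ Subgroup.centralizer ({z} : Set G)
    have hFn : F.Normal := by
      apply normal_of_sup_eq_top hCN
      · intro a ha x hx
        refine ⟨hNn.conj_mem x hx.1 a, ?_⟩
        show a * x * a⁻¹ ∈ Subgroup.centralizer ({z} : Set G)
        rw [Subgroup.mem_centralizer_iff]
        intro h hh
        rw [Set.mem_singleton_iff] at hh
        subst hh
        have hxz : h * x = x * h := Subgroup.mem_centralizer_iff.mp hx.2 h rfl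
        have h5 : a⁻¹ * h = h * a⁻¹ := hzc a⁻¹ (C.inv_mem ha)
        calc h * (a * x * a⁻¹) = (h * a) * x * a⁻¹ := by group
          _ = (a * h) * x * a⁻¹ := by rw [hzc a ha]
          _ = a * (h * x) * a⁻¹ := by group
          _ = a * (x * h) * a⁻¹ := by rw [hxz]
          _ = a * x * (h * a⁻¹) := by group
          _ = a * x * (a⁻¹ * h) := by rw [h5]
          _ = a * x * a⁻¹ * h := by group
      · intro b hb x hx
        have e : b * x * b⁻¹ = x := by rw [hNab b hb x hx.1, mul_inv_cancel_right]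
        rw [e]; exact hx
    have hFb : F = ⊥ := by
      rcases hNmin F hFn inf_le_left with h | h
      · exact h
      · exfalso
        apply hz1
        apply hC0 z hzC
        intro a ha
        have h6 : a ∈ F := h ▸ ha
        exact (Subgroup.mem_centralizer_iff.mp h6.2 z rfl).symm
    intro y hy hyz
    have h7 : y ∈ F := ⟨hy, Subgroup.mem_centralizer_iff.mpr (fun h hh => by
      rw [Set.mem_singleton_iff] at hh; rw [hh]; exact hyz.symm)⟩
    rw [hFb, Subgroup.mem_bot] at h7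
    exact h7
  -- the map `a ↦ z⁻¹ a z a⁻¹` on `N` is a bijection
  have hmemψ : ∀ a ∈ N, z⁻¹ * a * z * a⁻¹ ∈ N := by
    intro a ha
    have h8 := hNn.conj_mem a ha z⁻¹
    rw [inv_inv] at h8
    exact N.mul_mem h8 (N.inv_mem ha)
  let ψ : N → N := fun a => ⟨z⁻¹ * a * z * a⁻¹, hmemψ a a.2⟩
  have hψinj : Function.Injective ψ := by
    intro a b hab
    have heq : z⁻¹ * (a : G) * z * (a : G)⁻¹ = z⁻¹ * (b : G) * z * (b : G)⁻¹ :=
      congrArg Subtype.val hab
    have h9 : ((b : G)⁻¹ * a) * z = z * ((b : G)⁻¹ * a) := by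
      calc ((b : G)⁻¹ * a) * z = (b : G)⁻¹ * z * (z⁻¹ * (a : G) * z * (a : G)⁻¹) * a := by group
        _ = (b : G)⁻¹ * z * (z⁻¹ * (b : G) * z * (b : G)⁻¹) * a := by rw [heq]
        _ = z * ((b : G)⁻¹ * a) := by group
    have h10 := hF _ (N.mul_mem (N.inv_mem b.2) a.2) h9
    exact Subtype.ext (inv_mul_eq_one.mp h10).symm
  have hψsurj := Finite.injective_iff_surjective.mp hψinj
  -- write `z = d m`
  have hzDN : z ∈ D ⊔ N := by rw [hDN]; exact Subgroup.mem_top z
  obtain ⟨d, hd, m, hm, hdm⟩ := Subgroup.mem_sup_of_normal_right.mp hzDN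
  obtain ⟨a, ha⟩ := hψsurj ⟨m⁻¹, N.inv_mem hm⟩
  have ha' : z⁻¹ * (a : G) * z * (a : G)⁻¹ = m⁻¹ := congrArg Subtype.val ha
  have haN : (a : G) ∈ N := a.2
  generalize (a : G) = a at ha' haN
  have had : a * z * a⁻¹ = d := by
    have e1 : a * z * a⁻¹ = z * (z⁻¹ * a * z * a⁻¹) := by group
    rw [e1, ha', ← hdm]
    group
  -- `d` is central in `D`
  have hfN : ∀ y ∈ N, QuotientGroup.mk' N y = 1 := fun y hy => by
    rw [QuotientGroup.mk'_apply]; exact (QuotientGroup.eq_one_iff y).mpr hy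
  have hdc : ∀ d' ∈ D, d' * d = d * d' := by
    intro d' hd'
    have hd'CN : d' ∈ C ⊔ N := by rw [hCN]; exact Subgroup.mem_top d'
    obtain ⟨c', hc', m', hm', hcm⟩ := Subgroup.mem_sup_of_normal_right.mp hd'CN
    have hfw : QuotientGroup.mk' N (d * d' * d⁻¹ * d'⁻¹) = 1 := by
      rw [← had, ← hcm]
      simp only [map_mul, map_inv, hfN a haN, hfN m' hm', one_mul, mul_one, inv_one]
      have e : QuotientGroup.mk' N z * QuotientGroup.mk' N c' =
          QuotientGroup.mk' N c' * QuotientGroup.mk' N z := by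
        rw [← map_mul, ← map_mul, hzc c' hc']
      rw [e]
      group
    rw [QuotientGroup.mk'_apply, QuotientGroup.eq_one_iff] at hfw
    have hw : d * d' * d⁻¹ * d'⁻¹ ∈ D ⊓ N :=
      ⟨D.mul_mem (D.mul_mem (D.mul_mem hd hd') (D.inv_mem hd)) (D.inv_mem hd'), hfw⟩
    rw [hDi, Subgroup.mem_bot] at hw
    have h11 := mul_inv_eq_one.mp hw
    exact (mul_inv_eq_iff_eq_mul.mp h11).symm
  have hF' : ∀ y ∈ N, y * d = d * y → y = 1 := by
    intro y hy hyd
    have h12 : (a⁻¹ * y * a) * z = z * (a⁻¹ * y * a) := by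
      calc (a⁻¹ * y * a) * z = a⁻¹ * (y * (a * z * a⁻¹)) * a := by group
        _ = a⁻¹ * ((a * z * a⁻¹) * y) * a := by rw [had, hyd]
        _ = z * (a⁻¹ * y * a) := by group
    have h13 : a⁻¹ * y * a ∈ N := by
      have := hNn.conj_mem y hy a⁻¹
      rwa [inv_inv] at this
    have h14 := hF _ h13 h12
    have e : y = a * (a⁻¹ * y * a) * a⁻¹ := by group
    rw [e, h14]
    group
  refine ⟨a, ?_⟩
  ext x
  rw [mem_cj]
  constructor
  · intro hx
    have h15 := hzc _ hx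
    apply cent_le hDN hdc hF'
    rw [← had]
    calc x * (a * z * a⁻¹) = a * ((a⁻¹ * x * a) * z) * a⁻¹ := by group
      _ = a * (z * (a⁻¹ * x * a)) * a⁻¹ := by rw [h15]
      _ = a * z * a⁻¹ * x := by group
  · intro hx
    have h15 := hdc x hx
    apply cent_le hCN hzc hF
    calc (a⁻¹ * x * a) * z = a⁻¹ * (x * (a * z * a⁻¹)) * a := by group
      _ = a⁻¹ * ((a * z * a⁻¹) * x) * a := by rw [had, h15]
      _ = z * (a⁻¹ * x * a) := by group

end steps

theorem main (n : ℕ) : ∀ (G : Type u) [Group G] [Finite G] [Group.IsSolvable G],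
    Nat.card G = n → PC G := by
  induction n using Nat.strong_induction_on with
  | _ n ih =>
  intro G _ _ _ hn
  have IHsub : ∀ H : Subgroup G, Nat.card H < n → PCrel H := fun H hH =>
    pcrel_of_pc H (ih _ hH H rfl)
  have IHquot : ∀ (N : Subgroup G) [N.Normal], N ≠ ⊥ → PC (G ⧸ N) := by
    intro N _ hN
    refine ih _ ?_ (G ⧸ N) rfl
    have h1 := Subgroup.card_eq_card_quotient_mul_card_subgroup N
    have h2 : 1 < Nat.card N := N.one_lt_card_iff_ne_bot.mpr hN
    have h3 : 0 < Nat.card (G ⧸ N) := Nat.card_pos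
    rw [← hn, h1]
    nlinarith
  exact ⟨existence_step hn IHsub IHquot, fun C D hC hD => conj_step hn IHsub IHquot hC hD⟩

/-- Carter subgroups: a finite solvable group contains a nilpotent subgroup equal to its own normaliser, and all such subgroups are conjugate. -/
theorem result {G : Type*} [Group G] [Finite G] [Group.IsSolvable G] :
    (∃ C : Subgroup G, Group.IsNilpotent C ∧ Subgroup.normalizer (C : Set G) = C) ∧
    ∀ C D : Subgroup G, Group.IsNilpotent C → Subgroup.normalizer (C : Set G) = C →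
      Group.IsNilpotent D → Subgroup.normalizer (D : Set G) = D → ∃ g : G, MulAut.conj g • C = D := by
  obtain ⟨⟨C, hC⟩, hconj⟩ := main _ G rfl
  refine ⟨⟨C, (carter_iff C).mpr hC⟩, fun C D hC1 hC2 hD1 hD2 => ?_⟩
  exact hconj C D ((carter_iff C).mp ⟨hC1, hC2⟩) ((carter_iff D).mp ⟨hD1, hD2⟩)

end Cfsg.Agent.S0045
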