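import Cfsg.Statements.S0020
import Mathlib
import Cfsg.Agent.S0007
import Cfsg.Agent.Lib.Helper13.Hall2

set_option autoImplicit false
open Pointwise
open Cfsg

namespace Cfsg.Agent.S0020

open Cfsg.Agent.Lib.Helper13
open scoped Pointwise

universe u

theorem exists_p_complement (G : Type u) [Group G] [Finite G] [Group.IsSolvable G] (p : ℕ) :
    ∃ H : Subgroup G, PiNum {p}ᶜ (Nat.card H) ∧ PiNum {p} H.index := by
  obtain ⟨H, h1, h2⟩ := hall_exists {p}ᶜ G
  exact ⟨H, h1, by rwa [compl_compl] at h2⟩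

theorem PiNum.mono {π π' : Set ℕ} {a : ℕ} (h : PiNum π a) (hsub : π ⊆ π') : PiNum π' a :=
  fun p hp hpa => hsub (h p hp hpa)

section
variable {G : Type u} [Group G] [Finite G] (Hc : ℕ → Subgroup G)
  (hHc1 : ∀ p, PiNum {p}ᶜ (Nat.card (Hc p))) (hHc2 : ∀ p, PiNum {p} (Hc p).index)

include hHc2 in
theorem index_inf_piNum (T : Finset ℕ) : PiNum (↑T : Set ℕ) (T.inf Hc).index := by
  induction T using Finset.induction_on with
  | empty =>
    rw [Finset.inf_empty, Subgroup.index_top]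
    exact piNum_one _
  | insert a T ha ih =>
    rw [Finset.inf_insert]
    have hcop : (Hc a).index.Coprime (T.inf Hc).index := by
      refine coprime_of_piNum (hHc2 a) (PiNum.mono ih ?_)
      intro x hx hxa
      rw [Set.mem_singleton_iff] at hxa
      rw [hxa] at hx
      exact ha (Finset.mem_coe.mp hx)
    rw [(Cfsg.Agent.S0007.result _ _ hcop).1]
    refine PiNum.mul (PiNum.mono (hHc2 a) ?_) (PiNum.mono ih ?_)
    · intro x hx
      rw [Set.mem_singleton_iff] at hx
      rw [hx]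
      exact Finset.mem_coe.mpr (Finset.mem_insert_self a T)
    · intro x hx
      exact Finset.mem_coe.mpr (Finset.mem_insert_of_mem (Finset.mem_coe.mp hx))

include hHc2 in
theorem index_inf_insert (T : Finset ℕ) (a : ℕ) (ha : a ∉ T) :
    (Hc a ⊓ T.inf Hc).index = (Hc a).index * (T.inf Hc).index := by
  have hcop : (Hc a).index.Coprime (T.inf Hc).index := by
    refine coprime_of_piNum (hHc2 a) (PiNum.mono (index_inf_piNum Hc hHc2 T) ?_)
    intro x hx hxa
    rw [Set.mem_singleton_iff] at hxa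
    rw [hxa] at hx
    exact ha (Finset.mem_coe.mp hx)
  exact (Cfsg.Agent.S0007.result _ _ hcop).1

/-- The candidate Sylow `q`-subgroup. -/
noncomputable def Sq (q : ℕ) : Subgroup G := ((Nat.card G).primeFactors.erase q).inf Hc

include hHc1 in
theorem card_Sq_piNum (q : ℕ) : PiNum {q} (Nat.card (Sq Hc q)) := by
  intro r hr hrd
  by_contra hne
  have hne' : r ≠ q := hne
  have hrG : r ∣ Nat.card G := hrd.trans (Subgroup.card_subgroup_dvd_card _)
  have hrF : r ∈ (Nat.card G).primeFactors.erase q :=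
    Finset.mem_erase.mpr ⟨hne', Nat.mem_primeFactors.mpr ⟨hr, hrG, Nat.card_pos.ne'⟩⟩
  have hle : Sq Hc q ≤ Hc r := Finset.inf_le hrF
  have h1 : r ∣ Nat.card (Hc r) := hrd.trans (Subgroup.card_dvd_of_le hle)
  exact hHc1 r r hr h1 rfl

include hHc2 in
theorem not_dvd_index_Sq (q : ℕ) (hq : q.Prime) : ¬ q ∣ (Sq Hc q).index := by
  intro h
  have := index_inf_piNum Hc hHc2 ((Nat.card G).primeFactors.erase q) q hq h
  exact (Finset.notMem_erase q _) (Finset.mem_coe.mp this)

include hHc1 in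
theorem isPGroup_Sq (q : ℕ) [Fact q.Prime] : IsPGroup q (Sq Hc q) := by
  have h := card_Sq_piNum Hc hHc1 q
  have hpos : Nat.card (Sq Hc q) ≠ 0 := Nat.card_pos.ne'
  have := Nat.eq_prime_pow_of_unique_prime_dvd hpos (p := q) (fun {d} hd hdd => h d hd hdd)
  exact IsPGroup.of_card this

include hHc1 in
theorem Sq_eq_bot (q : ℕ) (hq : ¬ q ∣ Nat.card G) : Sq Hc q = ⊥ := by
  rw [← Subgroup.card_eq_one, Nat.eq_one_iff_not_exists_prime_dvd]
  intro r hr hrd
  have h := card_Sq_piNum Hc hHc1 q r hr hrd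
  rw [Set.mem_singleton_iff] at h
  rw [h] at hrd
  exact hq (hrd.trans (Subgroup.card_subgroup_dvd_card _))

/-- If `A, B ≤ D` have coprime relative indices in `D` then `A * B = D` as sets. -/
theorem mul_eq_of_coprime_relIndex (A B D : Subgroup G) (hA : A ≤ D) (hB : B ≤ D)
    (hcop : (A.relIndex D).Coprime (B.relIndex D)) : (A : Set G) * (B : Set G) = D := by
  ext d
  constructor
  · rintro ⟨a, ha, b, hb, rfl⟩
    exact D.mul_mem (hA ha) (hB hb)
  · intro hd
    obtain ⟨x, hx, y, hy, hxy⟩ :=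
      (Cfsg.Agent.S0007.result (A.subgroupOf D) (B.subgroupOf D) hcop).2 ⟨d, hd⟩
    refine ⟨x, Subgroup.mem_subgroupOf.mp hx, y, Subgroup.mem_subgroupOf.mp hy, ?_⟩
    exact (congrArg Subtype.val hxy).symm

include hHc1 hHc2 in
theorem Sq_mul_comm (p q : ℕ) (hp : p.Prime) (hq : q.Prime) :
    (Sq Hc p : Set G) * (Sq Hc q : Set G) = (Sq Hc q : Set G) * (Sq Hc p : Set G) := by
  by_cases hpq : p = q
  · rw [hpq]
  by_cases hpG : p ∣ Nat.card G
  swap
  · rw [Sq_eq_bot Hc hHc1 p hpG, Subgroup.coe_bot, Set.singleton_one, one_mul, mul_one]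
  by_cases hqG : q ∣ Nat.card G
  swap
  · rw [Sq_eq_bot Hc hHc1 q hqG, Subgroup.coe_bot, Set.singleton_one, one_mul, mul_one]
  have hGpos : Nat.card G ≠ 0 := Nat.card_pos.ne'
  have hpF : p ∈ (Nat.card G).primeFactors := Nat.mem_primeFactors.mpr ⟨hp, hpG, hGpos⟩
  have hqF : q ∈ (Nat.card G).primeFactors := Nat.mem_primeFactors.mpr ⟨hq, hqG, hGpos⟩
  obtain ⟨T, hT⟩ : ∃ T : Finset ℕ, T = ((Nat.card G).primeFactors.erase p).erase q := ⟨_, rfl⟩
  have hT' : T = ((Nat.card G).primeFactors.erase q).erase p := by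
    rw [hT, Finset.erase_right_comm]
  have hqT : q ∉ T := hT ▸ Finset.notMem_erase q _
  have hpT : p ∉ T := hT' ▸ Finset.notMem_erase p _
  have e1 : (Nat.card G).primeFactors.erase p = insert q T := by
    rw [hT, Finset.insert_erase (Finset.mem_erase.mpr ⟨fun h => hpq h.symm, hqF⟩)]
  have e2 : (Nat.card G).primeFactors.erase q = insert p T := by
    rw [hT', Finset.insert_erase (Finset.mem_erase.mpr ⟨hpq, hpF⟩)]
  have hSp : Sq Hc p = Hc q ⊓ T.inf Hc := by rw [Sq, e1, Finset.inf_insert]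
  have hSq : Sq Hc q = Hc p ⊓ T.inf Hc := by rw [Sq, e2, Finset.inf_insert]
  have hDpos : 0 < (T.inf Hc).index := Nat.pos_of_ne_zero Subgroup.index_ne_zero_of_finite
  have r1 : (Sq Hc p).relIndex (T.inf Hc) = (Hc q).index := by
    have h1 := Subgroup.relIndex_mul_index (hSp ▸ inf_le_right : Sq Hc p ≤ T.inf Hc)
    rw [hSp, index_inf_insert Hc hHc2 T q hqT] at h1
    rw [hSp]
    exact Nat.eq_of_mul_eq_mul_right hDpos h1
  have r2 : (Sq Hc q).relIndex (T.inf Hc) = (Hc p).index := by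
    have h1 := Subgroup.relIndex_mul_index (hSq ▸ inf_le_right : Sq Hc q ≤ T.inf Hc)
    rw [hSq, index_inf_insert Hc hHc2 T p hpT] at h1
    rw [hSq]
    exact Nat.eq_of_mul_eq_mul_right hDpos h1
  have hcop : ((Sq Hc p).relIndex (T.inf Hc)).Coprime ((Sq Hc q).relIndex (T.inf Hc)) := by
    rw [r1, r2]
    refine coprime_of_piNum (hHc2 q) (PiNum.mono (hHc2 p) ?_)
    intro x hx hxq
    rw [Set.mem_singleton_iff] at hx hxq
    exact hpq (hx.symm.trans hxq)
  rw [mul_eq_of_coprime_relIndex _ _ (T.inf Hc) (hSp ▸ inf_le_right) (hSq ▸ inf_le_right) hcop,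
    mul_eq_of_coprime_relIndex _ _ (T.inf Hc) (hSq ▸ inf_le_right) (hSp ▸ inf_le_right) hcop.symm]

end

/-- A finite solvable group admits a Sylow system: Sylow subgroups, one for each prime, that pairwise permute as sets. -/
theorem result {G : Type*} [Group G] [Finite G] [Group.IsSolvable G] :
    ∃ S : (p : Nat.Primes) → Sylow (p : ℕ) G,
      ∀ p q : Nat.Primes, (S p : Set G) * (S q : Set G) = (S q : Set G) * (S p : Set G) := by
  choose Hc hHc1 hHc2 using exists_p_complement G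
  refine ⟨fun p => haveI : Fact (p : ℕ).Prime := ⟨p.2⟩
    (isPGroup_Sq Hc hHc1 (p : ℕ)).toSylow (not_dvd_index_Sq Hc hHc2 (p : ℕ) p.2), ?_⟩
  intro p q
  exact Sq_mul_comm Hc hHc1 hHc2 (p : ℕ) (q : ℕ) p.2 q.2

end Cfsg.Agent.S0020
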