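import Cfsg.Statements.S0543
import Mathlib
import Cfsg.Agent.S0020

set_option autoImplicit false
open Pointwise
open Cfsg

namespace Cfsg.Agent.S0543

open Cfsg.Agent.Lib.Helper13
open scoped Pointwise

universe u

theorem piNum_prime_pow (n k : ℕ) (hn : n.Prime) : PiNum {n} (n ^ k) := by
  intro r hr h
  exact (Nat.prime_dvd_prime_iff_eq hr hn).mp (hr.dvd_of_dvd_pow h)

section
variable {G : Type u} [Group G] [Finite G]

theorem isComplementSystem_cj (K : Nat.Primes → Subgroup G) (hK : Cfsg.IsComplementSystem K) (g : G) :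
    Cfsg.IsComplementSystem (fun p => MulAut.conj g • K p) := by
  intro p
  show (MulAut.conj g • K p).index = _
  rw [index_cj]
  exact hK p

theorem card_of_isComplementSystem (K : Nat.Primes → Subgroup G) (hK : Cfsg.IsComplementSystem K)
    (p : Nat.Primes) : Nat.card (K p) = ordCompl[(p : ℕ)] (Nat.card G) := by
  have e := Subgroup.card_mul_index (K p)
  rw [hK p] at e
  have e2 := Nat.ordProj_mul_ordCompl_eq_self (Nat.card G) p
  have e3 : (p : ℕ) ^ (Nat.card G).factorization p * Nat.card (K p) =
      (p : ℕ) ^ (Nat.card G).factorization p * ordCompl[(p : ℕ)] (Nat.card G) := by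
    rw [mul_comm, e, e2]
  exact Nat.eq_of_mul_eq_mul_left (Nat.pos_of_ne_zero (pow_ne_zero _ p.2.ne_zero)) e3

theorem coprime_of_isComplementSystem (K : Nat.Primes → Subgroup G) (hK : Cfsg.IsComplementSystem K)
    (p : Nat.Primes) : (Nat.card (K p)).Coprime (K p).index := by
  rw [card_of_isComplementSystem K hK p, hK p]
  exact (Nat.Coprime.pow_left _ (Nat.coprime_ordCompl p.2 Nat.card_pos.ne')).symm

/-- normalizers of a complement system, indexed by all naturals -/
noncomputable def Nc (L : Nat.Primes → Subgroup G) (n : ℕ) : Subgroup G := by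
  classical
  exact if h : n.Prime then Subgroup.normalizer (L ⟨n, h⟩ : Set G) else ⊤

theorem Nc_piNum (L : Nat.Primes → Subgroup G) (hL : Cfsg.IsComplementSystem L) (n : ℕ) :
    PiNum {n} (Nc L n).index := by
  unfold Nc
  by_cases h : n.Prime
  · simp only [dif_pos h]
    have h1 : (Subgroup.normalizer (L ⟨n, h⟩ : Set G)).index ∣ (L ⟨n, h⟩).index :=
      Subgroup.index_dvd_of_le Subgroup.le_normalizer
    rw [hL ⟨n, h⟩] at h1
    exact (piNum_prime_pow n _ h).of_dvd h1
  · simp only [dif_neg h]
    rw [Subgroup.index_top]; exact piNum_one _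

theorem Nc_prime (L : Nat.Primes → Subgroup G) (p : Nat.Primes) :
    Nc L (p : ℕ) = Subgroup.normalizer (L p : Set G) := by
  unfold Nc
  simp only [dif_pos p.2]
  rfl

variable [Group.IsSolvable G]

theorem simul_conj (L : Nat.Primes → Subgroup G) (hL : Cfsg.IsComplementSystem L) (T : Finset ℕ) :
    ∀ (K : Nat.Primes → Subgroup G), Cfsg.IsComplementSystem K →
      ∃ g : G, ∀ p : Nat.Primes, (p : ℕ) ∈ T → MulAut.conj g • K p = L p := by
  induction T using Finset.induction_on with
  | empty =>
    intro K _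
    exact ⟨1, fun p hp => absurd hp (Finset.notMem_empty _)⟩
  | insert q T hqT ih =>
    intro K hK
    obtain ⟨g₀, hg₀⟩ := ih K hK
    by_cases hq : q.Prime
    swap
    · refine ⟨g₀, fun p hp => ?_⟩
      rcases Finset.mem_insert.mp hp with h | h
      · exact absurd (h ▸ p.2) hq
      · exact hg₀ p h
    have hK' := isComplementSystem_cj K hK g₀
    obtain ⟨qq, hqq⟩ : ∃ qq : Nat.Primes, (qq : ℕ) = q := ⟨⟨q, hq⟩, rfl⟩
    obtain ⟨g₁, hg₁⟩ := hall_conj (MulAut.conj g₀ • K qq) (L qq)
      (coprime_of_isComplementSystem _ hK' qq)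
      (by rw [card_of_isComplementSystem L hL, card_of_isComplementSystem _ hK' qq])
    have hD : PiNum (↑T : Set ℕ) (T.inf (Nc L)).index :=
      Cfsg.Agent.S0020.index_inf_piNum (Nc L) (Nc_piNum L hL) T
    have hNq : PiNum {q} (Subgroup.normalizer ((MulAut.conj g₀ • K qq : Subgroup G) : Set G)).index := by
      have h1 : (Subgroup.normalizer ((MulAut.conj g₀ • K qq : Subgroup G) : Set G)).index ∣
          (MulAut.conj g₀ • K qq).index := Subgroup.index_dvd_of_le Subgroup.le_normalizer
      rw [hK' qq, hqq] at h1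
      exact (piNum_prime_pow q _ hq).of_dvd h1
    have hcop : (T.inf (Nc L)).index.Coprime
        (Subgroup.normalizer ((MulAut.conj g₀ • K qq : Subgroup G) : Set G)).index := by
      refine (coprime_of_piNum hNq (Cfsg.Agent.S0020.PiNum.mono hD ?_)).symm
      intro x hx hxq
      rw [Set.mem_singleton_iff] at hxq
      rw [hxq] at hx
      exact hqT (Finset.mem_coe.mp hx)
    obtain ⟨x, hx, y, hy, hxy⟩ := (Cfsg.Agent.S0007.result _ _ hcop).2 g₁
    refine ⟨x * g₀, fun p hp => ?_⟩
    rw [cj_mul]
    rcases Finset.mem_insert.mp hp with h | h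
    · have hpq : p = qq := Subtype.ext (h.trans hqq.symm)
      rw [hpq, ← hg₁, hxy, cj_mul, cj_eq_self_iff_mem_normalizer.mpr hy]
    · rw [hg₀ p h]
      have hx' : x ∈ Nc L (p : ℕ) := (Finset.inf_le h : T.inf (Nc L) ≤ Nc L (p : ℕ)) hx
      rw [Nc_prime] at hx'
      exact cj_eq_self_iff_mem_normalizer.mpr hx'

end

/-- In a finite solvable group any two Hall complement systems are simultaneously conjugate: one element conjugates every member of the first system to the corresponding member of the second. -/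
theorem result {G : Type*} [Group G] [Finite G] [Group.IsSolvable G] (K L : Nat.Primes → Subgroup G) (hK : Cfsg.IsComplementSystem K) (hL : Cfsg.IsComplementSystem L) : ∃ g : G, ∀ p : Nat.Primes, MulAut.conj g • K p = L p := by
  obtain ⟨g, hg⟩ := simul_conj L hL (Nat.card G).primeFactors K hK
  refine ⟨g, fun p => ?_⟩
  by_cases hp : (p : ℕ) ∈ (Nat.card G).primeFactors
  · exact hg p hp
  · have hpG : ¬ (p : ℕ) ∣ Nat.card G := fun h =>
      hp (Nat.mem_primeFactors.mpr ⟨p.2, h, Nat.card_pos.ne'⟩)
    have h0 : (Nat.card G).factorization p = 0 := Nat.factorization_eq_zero_of_not_dvd hpG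
    have hKp : K p = ⊤ := by
      rw [← Subgroup.index_eq_one, hK p, h0, pow_zero]
    have hLp : L p = ⊤ := by
      rw [← Subgroup.index_eq_one, hL p, h0, pow_zero]
    rw [hKp, hLp]
    exact cj_normal g ⊤

end Cfsg.Agent.S0543
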