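import Cfsg.Statements.S0544
import Mathlib
import Cfsg.Agent.S0020

set_option autoImplicit false
open Cfsg

namespace Cfsg.Agent.S0544

open Cfsg.Agent.Lib.Helper13
open scoped Pointwise

universe u

section
variable {G : Type u} [Group G]

/-- a complement system, indexed by all naturals -/
noncomputable def Hn (K : Nat.Primes → Subgroup G) (n : ℕ) : Subgroup G := by
  classical
  exact if h : n.Prime then K ⟨n, h⟩ else ⊤

theorem Hn_prime (K : Nat.Primes → Subgroup G) (p : Nat.Primes) : Hn K (p : ℕ) = K p := by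
  unfold Hn
  simp only [dif_pos p.2]
  rfl

theorem Hn_not_prime (K : Nat.Primes → Subgroup G) (n : ℕ) (h : ¬ n.Prime) : Hn K n = ⊤ := by
  unfold Hn
  simp only [dif_neg h]

theorem le_normalizer_Hn (K : Nat.Primes → Subgroup G) (n : ℕ) :
    Cfsg.systemNormalizer K ≤ Subgroup.normalizer (Hn K n : Set G) := by
  by_cases h : n.Prime
  · have := Hn_prime K ⟨n, h⟩
    simp only at this
    rw [this]
    exact iInf_le (fun p : Nat.Primes => Subgroup.normalizer (K p : Set G)) ⟨n, h⟩
  · rw [Hn_not_prime K n h, Subgroup.normalizer_eq_top]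
    exact le_top

theorem le_normalizer_finset_inf (A : Subgroup G) (f : ℕ → Subgroup G) (T : Finset ℕ)
    (h : ∀ n, A ≤ Subgroup.normalizer (f n : Set G)) :
    A ≤ Subgroup.normalizer ((T.inf f : Subgroup G) : Set G) := by
  induction T using Finset.induction_on with
  | empty =>
    rw [Finset.inf_empty, Subgroup.normalizer_eq_top]
    exact le_top
  | insert a T _ ih =>
    rw [Finset.inf_insert]
    exact (le_inf (h a) ih).trans Subgroup.inf_normalizer_le_normalizer_inf

variable [Finite G]

theorem Hn_piNum_card (K : Nat.Primes → Subgroup G) (hK : Cfsg.IsComplementSystem K) (n : ℕ) :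
    PiNum {n}ᶜ (Nat.card (Hn K n)) := by
  by_cases h : n.Prime
  · have e := Hn_prime K ⟨n, h⟩
    simp only at e
    rw [e]
    intro r hr hrd hrn
    rw [Set.mem_singleton_iff] at hrn
    -- card (K p) is coprime to p
    have e1 := Subgroup.card_mul_index (K ⟨n, h⟩)
    rw [hK ⟨n, h⟩] at e1
    have e2 := Nat.ordProj_mul_ordCompl_eq_self (Nat.card G) n
    have e3 : n ^ (Nat.card G).factorization n * Nat.card (K ⟨n, h⟩) =
        n ^ (Nat.card G).factorization n * ordCompl[n] (Nat.card G) := by
      rw [mul_comm, e2]; exact e1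
    have e4 := Nat.eq_of_mul_eq_mul_left (Nat.pos_of_ne_zero (pow_ne_zero _ h.ne_zero)) e3
    rw [e4, hrn] at hrd
    exact (Nat.not_dvd_ordCompl h Nat.card_pos.ne') hrd
  · intro r hr _ hrn
    rw [Set.mem_singleton_iff] at hrn
    exact h (hrn ▸ hr)

theorem Hn_piNum_index (K : Nat.Primes → Subgroup G) (hK : Cfsg.IsComplementSystem K) (n : ℕ) :
    PiNum {n} (Hn K n).index := by
  by_cases h : n.Prime
  · have e := Hn_prime K ⟨n, h⟩
    simp only at e
    rw [e, hK ⟨n, h⟩]
    intro r hr hrd
    exact (Nat.prime_dvd_prime_iff_eq hr h).mp (hr.dvd_of_dvd_pow hrd)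
  · rw [Hn_not_prime K n h, Subgroup.index_top]
    exact piNum_one _

end

/-- In a finite solvable group the intersection of the normalizers of the members of a Hall complement system is a nilpotent subgroup. -/
theorem result {G : Type*} [Group G] [Finite G] [Group.IsSolvable G] (K : Nat.Primes → Subgroup G) (hK : Cfsg.IsComplementSystem K) : Group.IsNilpotent (Cfsg.systemNormalizer K) := by
  have hfin : Finite (Cfsg.systemNormalizer K) := inferInstance
  refine ((Group.isNilpotent_of_finite_tfae (G := Cfsg.systemNormalizer K)).out 0 3 rfl rfl).mpr ?_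
  intro r hr P
  obtain ⟨D, hD⟩ : ∃ D : Subgroup G, D = Cfsg.systemNormalizer K := ⟨_, rfl⟩
  -- the Sylow r-subgroup of G from the Sylow system
  have h1 := Hn_piNum_card K hK
  have h2 := Hn_piNum_index K hK
  obtain ⟨S, hS⟩ : ∃ S : Subgroup G, S = Cfsg.Agent.S0020.Sq (Hn K) r := ⟨_, rfl⟩
  have hSp : IsPGroup r S := hS ▸ Cfsg.Agent.S0020.isPGroup_Sq (Hn K) h1 r
  have hSidx : ¬ r ∣ S.index := hS ▸ Cfsg.Agent.S0020.not_dvd_index_Sq (Hn K) h2 r hr.out
  have hnorm : Cfsg.systemNormalizer K ≤ Subgroup.normalizer (S : Set G) := by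
    rw [hS]
    exact le_normalizer_finset_inf _ _ _ (le_normalizer_Hn K)
  have hSn : (S.subgroupOf (Cfsg.systemNormalizer K)).Normal :=
    Subgroup.normal_subgroupOf_of_le_normalizer hnorm
  have hSsub : IsPGroup r (S.subgroupOf (Cfsg.systemNormalizer K)) := hSp.comap_subtype
  -- P ≤ S.subgroupOf D
  have hZ : IsPGroup r ((P : Subgroup (Cfsg.systemNormalizer K)).map (Cfsg.systemNormalizer K).subtype) :=
    P.isPGroup'.map _
  have hZD : (P : Subgroup (Cfsg.systemNormalizer K)).map (Cfsg.systemNormalizer K).subtype ≤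
      Cfsg.systemNormalizer K := Subgroup.map_subtype_le _
  have hsup : IsPGroup r
      ((P : Subgroup (Cfsg.systemNormalizer K)).map (Cfsg.systemNormalizer K).subtype ⊔ S : Subgroup G) :=
    IsPGroup.to_sup_of_normal_right' hZ hSp (hZD.trans hnorm)
  have hmax := (hSp.toSylow hSidx).is_maximal' hsup (by
    rw [IsPGroup.toSylow_coe]; exact le_sup_right)
  rw [IsPGroup.toSylow_coe] at hmax
  have hZS : (P : Subgroup (Cfsg.systemNormalizer K)).map (Cfsg.systemNormalizer K).subtype ≤ S := by
    rw [← hmax]; exact le_sup_left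
  have hPle : (P : Subgroup (Cfsg.systemNormalizer K)) ≤ S.subgroupOf (Cfsg.systemNormalizer K) := by
    intro x hx
    rw [Subgroup.mem_subgroupOf]
    exact hZS ⟨x, hx, rfl⟩
  have := P.is_maximal' hSsub hPle
  rw [← this]
  exact hSn

end Cfsg.Agent.S0544
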