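import Mathlib
import Cfsg.Statements.S0545
import Cfsg.Agent.S0543

set_option autoImplicit false
open Pointwise
open Cfsg

namespace Cfsg.Agent.S0545

open Cfsg.Agent.Lib.Helper13
open Cfsg.Agent.S0543
open scoped Pointwise

universe u

section
variable {G : Type u} [Group G] [Finite G]

/-- For `N` normal, `[N : N ∩ D]` divides `[G : D]`. -/
theorem relIndex_dvd_index_of_normal_right (D N : Subgroup G) [N.Normal] :
    D.relIndex N ∣ D.index := by
  have h1 : N.relIndex (D ⊔ N) = N.relIndex D := Subgroup.relIndex_sup_right D N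
  have cN : Nat.card (D ⊓ N : Subgroup G) * D.relIndex N = Nat.card N := by
    have := Subgroup.relIndex_mul_relIndex ⊥ (D ⊓ N) N bot_le inf_le_right
    rwa [Subgroup.relIndex_bot_left, Subgroup.relIndex_bot_left, Subgroup.inf_relIndex_right] at this
  have cD : Nat.card (D ⊓ N : Subgroup G) * N.relIndex D = Nat.card D := by
    have := Subgroup.relIndex_mul_relIndex ⊥ (D ⊓ N) D bot_le inf_le_left
    rwa [Subgroup.relIndex_bot_left, Subgroup.relIndex_bot_left, Subgroup.inf_relIndex_left] at this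
  have c1 : Nat.card N * N.relIndex (D ⊔ N) = Nat.card (D ⊔ N : Subgroup G) := by
    have := Subgroup.relIndex_mul_relIndex ⊥ N (D ⊔ N) bot_le le_sup_right
    rwa [Subgroup.relIndex_bot_left, Subgroup.relIndex_bot_left] at this
  have c2 : Nat.card D * D.relIndex (D ⊔ N) = Nat.card (D ⊔ N : Subgroup G) := by
    have := Subgroup.relIndex_mul_relIndex ⊥ D (D ⊔ N) bot_le le_sup_left
    rwa [Subgroup.relIndex_bot_left, Subgroup.relIndex_bot_left] at this
  have e : D.relIndex N = D.relIndex (D ⊔ N) := by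
    have hpos : 0 < Nat.card (D ⊓ N : Subgroup G) * N.relIndex D := by
      rw [cD]; exact Nat.card_pos
    apply Nat.eq_of_mul_eq_mul_left hpos
    calc Nat.card (D ⊓ N : Subgroup G) * N.relIndex D * D.relIndex N
        = (Nat.card (D ⊓ N : Subgroup G) * D.relIndex N) * N.relIndex D := by ring
      _ = Nat.card N * N.relIndex (D ⊔ N) := by rw [cN, h1]
      _ = Nat.card D * D.relIndex (D ⊔ N) := by rw [c1, c2]
      _ = Nat.card (D ⊓ N : Subgroup G) * N.relIndex D * D.relIndex (D ⊔ N) := by rw [cD]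
  rw [e]
  exact Dvd.intro _ (Subgroup.relIndex_mul_index (le_sup_left : D ≤ D ⊔ N))

variable [Group.IsSolvable G]

/-- Hall subgroups with the same join with a normal subgroup `N` are conjugate under `N`. -/
theorem conj_in_normal (N : Subgroup G) [N.Normal] (A B : Subgroup G)
    (hA : (Nat.card A).Coprime A.index) (hcard : Nat.card B = Nat.card A)
    (hAB : B ⊔ N = A ⊔ N) : ∃ n ∈ N, MulAut.conj n • A = B := by
  have hAM : A ≤ A ⊔ N := le_sup_left
  have hBM : B ≤ A ⊔ N := hAB ▸ le_sup_left
  have hcA : Nat.card (A.subgroupOf (A ⊔ N)) = Nat.card A :=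
    Nat.card_congr (Subgroup.subgroupOfEquivOfLe hAM).toEquiv
  have hcB : Nat.card (B.subgroupOf (A ⊔ N)) = Nat.card B :=
    Nat.card_congr (Subgroup.subgroupOfEquivOfLe hBM).toEquiv
  have hcop : (Nat.card (A.subgroupOf (A ⊔ N))).Coprime (A.subgroupOf (A ⊔ N)).index := by
    rw [hcA]
    exact Nat.Coprime.coprime_dvd_right (Subgroup.relIndex_dvd_index_of_le hAM) hA
  obtain ⟨m, hm⟩ := hall_conj (A.subgroupOf (A ⊔ N)) (B.subgroupOf (A ⊔ N)) hcop
    (by rw [hcA, hcB, hcard])
  have hm' := congrArg (Subgroup.map (A ⊔ N).subtype) hm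
  rw [map_cj, Subgroup.map_subgroupOf_eq_of_le hAM, Subgroup.map_subgroupOf_eq_of_le hBM] at hm'
  have hmem : ((A ⊔ N).subtype m) ∈ ((N ⊔ A : Subgroup G) : Set G) := by
    rw [sup_comm]; exact m.2
  rw [Subgroup.normal_mul] at hmem
  obtain ⟨n, hn, a, ha, hna⟩ := hmem
  refine ⟨n, hn, ?_⟩
  have hna' : n * a = (A ⊔ N).subtype m := hna
  rw [← hm', ← hna', cj_mul, cj_eq_self_iff_mem_normalizer.mpr (Subgroup.le_normalizer ha)]

omit [Group.IsSolvable G] in
theorem simul_conj_in (N : Subgroup G) [N.Normal] (L : Nat.Primes → Subgroup G)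
    (hL : Cfsg.IsComplementSystem L) (T : Finset ℕ) :
    ∀ (K : Nat.Primes → Subgroup G), Cfsg.IsComplementSystem K →
      (∀ p : Nat.Primes, ∃ n ∈ N, MulAut.conj n • K p = L p) →
      ∃ n ∈ N, ∀ p : Nat.Primes, (p : ℕ) ∈ T → MulAut.conj n • K p = L p := by
  induction T using Finset.induction_on with
  | empty =>
    intro K _ _
    exact ⟨1, N.one_mem, fun p hp => absurd hp (Finset.notMem_empty _)⟩
  | insert q T hqT ih =>
    intro K hK hKL
    obtain ⟨n₀, hn₀N, hn₀⟩ := ih K hK hKL
    by_cases hq : q.Prime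
    swap
    · refine ⟨n₀, hn₀N, fun p hp => ?_⟩
      rcases Finset.mem_insert.mp hp with h | h
      · exact absurd (h ▸ p.2) hq
      · exact hn₀ p h
    have hK' := isComplementSystem_cj K hK n₀
    obtain ⟨qq, hqq⟩ : ∃ qq : Nat.Primes, (qq : ℕ) = q := ⟨⟨q, hq⟩, rfl⟩
    obtain ⟨m, hmN, hm⟩ := hKL qq
    have hn₁N : m * n₀⁻¹ ∈ N := N.mul_mem hmN (N.inv_mem hn₀N)
    have hn₁ : MulAut.conj (m * n₀⁻¹) • (MulAut.conj n₀ • K qq) = L qq := by
      rw [← cj_mul, inv_mul_cancel_right, hm]
    have hD : PiNum (↑T : Set ℕ) (T.inf (Nc L)).index :=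
      Cfsg.Agent.S0020.index_inf_piNum (Nc L) (Nc_piNum L hL) T
    have hNq : PiNum {q}
        (Subgroup.normalizer ((MulAut.conj n₀ • K qq : Subgroup G) : Set G)).index := by
      have h1 : (Subgroup.normalizer ((MulAut.conj n₀ • K qq : Subgroup G) : Set G)).index ∣
          (MulAut.conj n₀ • K qq).index := Subgroup.index_dvd_of_le Subgroup.le_normalizer
      rw [hK' qq, hqq] at h1
      exact (piNum_prime_pow q _ hq).of_dvd h1
    have hcop : (T.inf (Nc L)).index.Coprime
        (Subgroup.normalizer ((MulAut.conj n₀ • K qq : Subgroup G) : Set G)).index := by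
      refine (coprime_of_piNum hNq (Cfsg.Agent.S0020.PiNum.mono hD ?_)).symm
      intro x hx hxq
      rw [Set.mem_singleton_iff] at hxq
      rw [hxq] at hx
      exact hqT (Finset.mem_coe.mp hx)
    have hcop' : ((T.inf (Nc L)).subgroupOf N).index.Coprime
        ((Subgroup.normalizer ((MulAut.conj n₀ • K qq : Subgroup G) : Set G)).subgroupOf N).index :=
      Nat.Coprime.coprime_dvd_left (relIndex_dvd_index_of_normal_right _ N)
        (Nat.Coprime.coprime_dvd_right (relIndex_dvd_index_of_normal_right _ N) hcop)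
    obtain ⟨x, hx, y, hy, hxy⟩ := (Cfsg.Agent.S0007.result _ _ hcop').2 ⟨m * n₀⁻¹, hn₁N⟩
    have hxy' : m * n₀⁻¹ = (x : G) * (y : G) := by
      have := congrArg Subtype.val hxy
      simpa using this
    refine ⟨(x : G) * n₀, N.mul_mem x.2 hn₀N, fun p hp => ?_⟩
    rw [cj_mul]
    rcases Finset.mem_insert.mp hp with h | h
    · have hpq : p = qq := Subtype.ext (h.trans hqq.symm)
      rw [hpq, ← hn₁, hxy', cj_mul,
        cj_eq_self_iff_mem_normalizer.mpr (Subgroup.mem_subgroupOf.mp hy)]
    · rw [hn₀ p h]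
      have hx' : (x : G) ∈ Nc L (p : ℕ) :=
        (Finset.inf_le h : T.inf (Nc L) ≤ Nc L (p : ℕ)) (Subgroup.mem_subgroupOf.mp hx)
      rw [Nc_prime] at hx'
      exact cj_eq_self_iff_mem_normalizer.mpr hx'

omit [Group.IsSolvable G] in
theorem eq_top_of_not_dvd (K : Nat.Primes → Subgroup G) (hK : Cfsg.IsComplementSystem K)
    (p : Nat.Primes) (hp : (p : ℕ) ∉ (Nat.card G).primeFactors) : K p = ⊤ := by
  have hpG : ¬ (p : ℕ) ∣ Nat.card G := fun h =>
    hp (Nat.mem_primeFactors.mpr ⟨p.2, h, Nat.card_pos.ne'⟩)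
  have h0 : (Nat.card G).factorization p = 0 := Nat.factorization_eq_zero_of_not_dvd hpG
  rw [← Subgroup.index_eq_one, hK p, h0, pow_zero]

/-- Complement systems that agree modulo a normal subgroup `N` are conjugate under `N`. -/
theorem conj_of_sup_eq (N : Subgroup G) [N.Normal] (K L : Nat.Primes → Subgroup G)
    (hK : Cfsg.IsComplementSystem K) (hL : Cfsg.IsComplementSystem L)
    (h : ∀ p, L p ⊔ N = K p ⊔ N) : ∃ n ∈ N, ∀ p : Nat.Primes, MulAut.conj n • K p = L p := by
  have h1 : ∀ p : Nat.Primes, ∃ n ∈ N, MulAut.conj n • K p = L p := by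
    intro p
    apply conj_in_normal N (K p) (L p) (coprime_of_isComplementSystem K hK p) _ (h p)
    rw [card_of_isComplementSystem L hL, card_of_isComplementSystem K hK]
  obtain ⟨n, hnN, hn⟩ := simul_conj_in N L hL (Nat.card G).primeFactors K hK h1
  refine ⟨n, hnN, fun p => ?_⟩
  by_cases hp : (p : ℕ) ∈ (Nat.card G).primeFactors
  · exact hn p hp
  · rw [eq_top_of_not_dvd K hK p hp, eq_top_of_not_dvd L hL p hp]
    exact cj_normal n ⊤

end

/-- Let K be a Hall complement system of a finite solvable group G and N a normal subgroup. Then the images of the K p in G modulo N form a Hall complement system of the quotient, and its system normalizer is the image of the system normalizer of K. -/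
theorem result {G : Type*} [Group G] [Finite G] [Group.IsSolvable G] (K : Nat.Primes → Subgroup G) (hK : Cfsg.IsComplementSystem K) (N : Subgroup G) [N.Normal] : Cfsg.IsComplementSystem (fun p => (K p).map (QuotientGroup.mk' N)) ∧ Cfsg.systemNormalizer (fun p => (K p).map (QuotientGroup.mk' N)) = (Cfsg.systemNormalizer K).map (QuotientGroup.mk' N) := by
  have hsurj : Function.Surjective (QuotientGroup.mk' N) := QuotientGroup.mk'_surjective N
  constructor
  · intro p
    show ((K p).map (QuotientGroup.mk' N)).index = (p : ℕ) ^ (Nat.card (G ⧸ N)).factorization p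
    rw [Subgroup.index_map, (QuotientGroup.mk' N).range_eq_top_of_surjective hsurj,
      Subgroup.index_top, mul_one, QuotientGroup.ker_mk']
    have hdvd : (K p ⊔ N).index ∣ (p : ℕ) ^ (Nat.card G).factorization p := by
      rw [← hK p]; exact Subgroup.index_dvd_of_le le_sup_left
    obtain ⟨b, _, hb⟩ := (Nat.dvd_prime_pow p.2).mp hdvd
    have hN : N.relIndex (K p ⊔ N) * (K p ⊔ N).index = N.index :=
      Subgroup.relIndex_mul_index le_sup_right
    have hrel : N.relIndex (K p ⊔ N) = N.relIndex (K p) := Subgroup.relIndex_sup_right (K p) N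
    have hcop : ¬ (p : ℕ) ∣ N.relIndex (K p) := by
      intro hdiv
      have h1 : (p : ℕ) ∣ Nat.card (K p) := hdiv.trans (Subgroup.relIndex_dvd_card N (K p))
      rw [card_of_isComplementSystem K hK p] at h1
      exact (Nat.not_dvd_ordCompl p.2 Nat.card_pos.ne') h1
    rw [← Subgroup.index_eq_card, ← hN, hrel, hb]
    have hne : N.relIndex (K p) ≠ 0 := fun h0 => hcop (h0 ▸ dvd_zero _)
    rw [Nat.factorization_mul hne (pow_ne_zero _ p.2.ne_zero), Finsupp.add_apply,
      Nat.factorization_eq_zero_of_not_dvd hcop, zero_add, Nat.Prime.factorization_pow p.2,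
      Finsupp.single_eq_same]
  · apply le_antisymm
    · intro x hx
      obtain ⟨g, rfl⟩ := hsurj x
      have hx' : ∀ p : Nat.Primes,
          (MulAut.conj g • K p) ⊔ N = K p ⊔ N := by
        intro p
        have h1 : QuotientGroup.mk' N g ∈
            Subgroup.normalizer (((K p).map (QuotientGroup.mk' N) : Subgroup (G ⧸ N)) : Set (G ⧸ N)) :=
          (Subgroup.mem_iInf.mp hx p)
        have h2 := cj_eq_self_iff_mem_normalizer.mpr h1
        rw [← map_cj] at h2
        have h3 := congrArg (Subgroup.comap (QuotientGroup.mk' N)) h2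
        rwa [Subgroup.comap_map_eq, Subgroup.comap_map_eq, QuotientGroup.ker_mk'] at h3
      obtain ⟨n, hnN, hn⟩ := conj_of_sup_eq N K (fun p => MulAut.conj g • K p) hK
        (isComplementSystem_cj K hK g) hx'
      refine ⟨n⁻¹ * g, ?_, ?_⟩
      · show n⁻¹ * g ∈ Cfsg.systemNormalizer K
        unfold Cfsg.systemNormalizer
        rw [Subgroup.mem_iInf]
        intro p
        rw [← cj_eq_self_iff_mem_normalizer, cj_mul, ← hn p, ← cj_mul, inv_mul_cancel, cj_one]
      · have h1 : QuotientGroup.mk' N n = 1 := (QuotientGroup.eq_one_iff n).mpr hnN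
        rw [map_mul, map_inv, h1, inv_one, one_mul]
    · rintro _ ⟨d, hd, rfl⟩
      have hd' : d ∈ Cfsg.systemNormalizer K := hd
      unfold Cfsg.systemNormalizer at hd' ⊢
      rw [Subgroup.mem_iInf] at hd' ⊢
      intro p
      rw [← cj_eq_self_iff_mem_normalizer, ← map_cj,
        cj_eq_self_iff_mem_normalizer.mpr (hd' p)]

end Cfsg.Agent.S0545
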