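import Mathlib
import Cfsg.Statements.S0568
import Cfsg.Agent.S0545
import Cfsg.Agent.S0553
import Cfsg.Agent.Lib.Helper2.NilpotentBasic
import Cfsg.Agent.Lib.Helper13.Coprime

set_option autoImplicit false
open Pointwise
open Cfsg

namespace Cfsg.Agent.S0568

open Cfsg.Agent.Lib.Helper13
open Cfsg.Agent.S0543
open scoped Pointwise
open scoped commutatorElement

universe u

section
variable {G : Type u} [Group G] [Finite G]

/-- If `R` is normal, `C = C_G(H) ≤ R` and `[R : C]` is coprime to `[G : Y]`, then elements of `H`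
centralizing `Y` centralize `R`. -/
theorem lemmaF (H R Y : Subgroup G) [R.Normal]
    (hCR : Subgroup.centralizer (H : Set G) ≤ R)
    (hcop : ((Subgroup.centralizer (H : Set G)).relIndex R).Coprime Y.index)
    (x : G) (hxH : x ∈ H) (hxY : x ∈ Subgroup.centralizer (Y : Set G)) :
    x ∈ Subgroup.centralizer (R : Set G) := by
  have h1 : (Subgroup.centralizer (H : Set G) ⊔ (R ⊓ Y)).relIndex R = 1 := by
    have d1 : (Subgroup.centralizer (H : Set G) ⊔ (R ⊓ Y)).relIndex R ∣
        (Subgroup.centralizer (H : Set G)).relIndex R :=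
      Subgroup.relIndex_dvd_of_le_left R le_sup_left
    have d2 : (Subgroup.centralizer (H : Set G) ⊔ (R ⊓ Y)).relIndex R ∣ Y.index := by
      have d3 : (Subgroup.centralizer (H : Set G) ⊔ (R ⊓ Y)).relIndex R ∣ (R ⊓ Y).relIndex R :=
        Subgroup.relIndex_dvd_of_le_left R le_sup_right
      rw [Subgroup.inf_relIndex_left] at d3
      exact d3.trans (Cfsg.Agent.S0545.relIndex_dvd_index_of_normal_right Y R)
    exact Nat.eq_one_of_dvd_coprimes hcop d1 d2
  have hR : R ≤ Subgroup.centralizer (H : Set G) ⊔ (R ⊓ Y) := Subgroup.relIndex_eq_one.mp h1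
  -- x commutes with everything in C and in R ⊓ Y
  have hle : Subgroup.centralizer (H : Set G) ⊔ (R ⊓ Y) ≤ Subgroup.centralizer ({x} : Set G) := by
    apply sup_le
    · intro c hc
      rw [Subgroup.mem_centralizer_iff] at hc ⊢
      intro y hy
      rw [Set.mem_singleton_iff] at hy
      subst hy
      exact hc y hxH
    · intro y hy
      rw [Subgroup.mem_centralizer_iff] at hxY ⊢
      intro z hz
      rw [Set.mem_singleton_iff] at hz
      subst hz
      exact (hxY y hy.2).symm
  rw [Subgroup.mem_centralizer_iff]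
  intro y hy
  have := hle (hR hy)
  rw [Subgroup.mem_centralizer_iff] at this
  exact (this x (Set.mem_singleton x)).symm

variable [Group.IsSolvable G]

/-- A non-central minimal normal subgroup meets every system normalizer trivially. -/
theorem lemmaE (K : Nat.Primes → Subgroup G) (hK : Cfsg.IsComplementSystem K)
    (H : Subgroup G) [hHn : H.Normal] (hH : H ≠ ⊥)
    (hmin : ∀ N : Subgroup G, N.Normal → N ≤ H → N = ⊥ ∨ N = H)
    (hnc : ¬ H ≤ Subgroup.center G) : H ⊓ Cfsg.systemNormalizer K = ⊥ := by
  obtain ⟨p, d, hp, hd, hexp, hcard⟩ := Cfsg.Agent.S0547.minNormal_elemAb H hH hmin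
  have hcomm := Cfsg.Agent.S0547.minNormal_comm H hH hmin
  have : Fact p.Prime := ⟨hp⟩
  -- the centralizer C of H
  have hCn : (Subgroup.centralizer (H : Set G)).Normal := inferInstance
  have hHC : H ≤ Subgroup.centralizer (H : Set G) := by
    intro a ha
    rw [Subgroup.mem_centralizer_iff]
    intro b hb
    exact hcomm b hb a ha
  have hCtop : Subgroup.centralizer (H : Set G) ≠ ⊤ := by
    intro htop
    apply hnc
    intro a ha
    rw [Subgroup.mem_center_iff]
    intro g
    have hg : g ∈ Subgroup.centralizer (H : Set G) := htop ▸ Subgroup.mem_top g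
    rw [Subgroup.mem_centralizer_iff] at hg
    exact (hg a ha).symm
  -- the quotient Q = G / C
  have hnt : Nontrivial (G ⧸ Subgroup.centralizer (H : Set G)) := by
    by_contra hnn
    rw [not_nontrivial_iff_subsingleton] at hnn
    apply hCtop
    rw [eq_top_iff]; intro g _
    have : (QuotientGroup.mk' (Subgroup.centralizer (H : Set G)) g) = 1 := Subsingleton.elim _ _
    exact (QuotientGroup.eq_one_iff g).mp this
  obtain ⟨Rbar, hRn, hRne, hRmin⟩ :=
    Cfsg.Agent.S0553.exists_minimal_normal (G ⧸ Subgroup.centralizer (H : Set G))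
  obtain ⟨r, e, hr, he, -, hRcard⟩ := Cfsg.Agent.S0547.minNormal_elemAb Rbar hRne hRmin
  have hsurj : Function.Surjective (QuotientGroup.mk' (Subgroup.centralizer (H : Set G))) :=
    QuotientGroup.mk'_surjective _
  -- R, the preimage of Rbar
  obtain ⟨R, hRdef⟩ : ∃ R : Subgroup G,
      R = Rbar.comap (QuotientGroup.mk' (Subgroup.centralizer (H : Set G))) := ⟨_, rfl⟩
  have hRnormal : R.Normal := by rw [hRdef]; exact hRn.comap _
  have hCR : Subgroup.centralizer (H : Set G) ≤ R := by
    rw [hRdef]
    intro c hc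
    rw [Subgroup.mem_comap]
    have : QuotientGroup.mk' (Subgroup.centralizer (H : Set G)) c = 1 :=
      (QuotientGroup.eq_one_iff c).mpr hc
    rw [this]; exact Rbar.one_mem
  have hmapR : R.map (QuotientGroup.mk' (Subgroup.centralizer (H : Set G))) = Rbar := by
    rw [hRdef]; exact Subgroup.map_comap_eq_self_of_surjective hsurj Rbar
  have hrel : (Subgroup.centralizer (H : Set G)).relIndex R = r ^ e := by
    have h1 := Subgroup.relIndex_comap (⊥ : Subgroup (G ⧸ Subgroup.centralizer (H : Set G)))
      (QuotientGroup.mk' (Subgroup.centralizer (H : Set G))) R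
    rw [MonoidHom.comap_bot, QuotientGroup.ker_mk', hmapR, Subgroup.relIndex_bot_left, hRcard] at h1
    exact h1
  have hRC : ¬ R ≤ Subgroup.centralizer (H : Set G) := by
    intro hle
    apply hRne
    rw [← hmapR, Subgroup.map_eq_bot_iff, QuotientGroup.ker_mk']
    exact hle
  -- W = H ⊓ C_G(R) is trivial
  have hW : H ⊓ Subgroup.centralizer (R : Set G) = ⊥ := by
    have hWn : (H ⊓ Subgroup.centralizer (R : Set G)).Normal := inferInstance
    rcases hmin _ hWn inf_le_left with h | h
    · exact h
    · exfalso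
      apply hRC
      intro y hy
      rw [Subgroup.mem_centralizer_iff]
      intro a ha
      have ha' : a ∈ H ⊓ Subgroup.centralizer (R : Set G) := by rw [h]; exact ha
      have : a ∈ Subgroup.centralizer (R : Set G) := ha'.2
      rw [Subgroup.mem_centralizer_iff] at this
      exact (this y hy).symm
  -- r ≠ p
  have hrp : r ≠ p := by
    intro hrp
    subst hrp
    obtain ⟨P⟩ : Nonempty (Sylow r G) := inferInstance
    have hPidx : ¬ r ∣ (P : Subgroup G).index := P.not_dvd_index
    have hHP : H ≤ (P : Subgroup G) :=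
      normal_pgroup_le_of_not_dvd_index H (P : Subgroup G) (IsPGroup.of_card hcard) hPidx
    have hcop : ((Subgroup.centralizer (H : Set G)).relIndex R).Coprime (P : Subgroup G).index := by
      rw [hrel]
      exact Nat.Coprime.pow_left _ ((Nat.Prime.coprime_iff_not_dvd hr).mpr hPidx)
    -- a nontrivial element of H ∩ Z(P)
    have hnil : Group.IsNilpotent (P : Subgroup G) := P.isPGroup'.isNilpotent
    have hne : H.subgroupOf (P : Subgroup G) ≠ ⊥ := by
      intro h0
      rw [Subgroup.subgroupOf_eq_bot, disjoint_iff, inf_eq_left.mpr hHP] at h0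
      exact hH h0
    have hz := Cfsg.Agent.Lib.Helper2.normal_inf_center_ne_bot (H.subgroupOf (P : Subgroup G)) hne
    obtain ⟨⟨⟨z, hzP⟩, ⟨hzH, hzc⟩⟩, hz1⟩ := (Subgroup.ne_bot_iff_exists_ne_one).mp hz
    have hzH' : z ∈ H := Subgroup.mem_subgroupOf.mp hzH
    have hzcent : z ∈ Subgroup.centralizer ((P : Subgroup G) : Set G) := by
      rw [Subgroup.mem_centralizer_iff]
      intro y hy
      have hzc' : (⟨z, hzP⟩ : (P : Subgroup G)) ∈ Subgroup.center (P : Subgroup G) := hzc
      rw [Subgroup.mem_center_iff] at hzc'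
      have := hzc' ⟨y, hy⟩
      exact congrArg Subtype.val this
    have hzR := lemmaF H R (P : Subgroup G) hCR hcop z hzH' hzcent
    have : z ∈ H ⊓ Subgroup.centralizer (R : Set G) := ⟨hzH', hzR⟩
    rw [hW, Subgroup.mem_bot] at this
    apply hz1
    exact Subtype.ext (Subtype.ext this)
  -- the Hall p'-subgroup S
  have hS := hK ⟨p, hp⟩
  have hcopS : ((Subgroup.centralizer (H : Set G)).relIndex R).Coprime (K ⟨p, hp⟩).index := by
    rw [hrel, hS]
    exact Nat.Coprime.pow _ _ ((Nat.coprime_primes hr hp).mpr hrp)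
  have hHS : H ⊓ K ⟨p, hp⟩ = ⊥ := by
    have h1 : (Nat.card H).Coprime (Nat.card (K ⟨p, hp⟩)) := by
      rw [hcard, card_of_isComplementSystem K hK ⟨p, hp⟩]
      exact Nat.Coprime.pow_left _ (Nat.coprime_ordCompl hp Nat.card_pos.ne')
    exact Subgroup.inf_eq_bot_of_coprime h1
  rw [eq_bot_iff]
  intro x hx
  have hxH : x ∈ H := hx.1
  have hxD : x ∈ Cfsg.systemNormalizer K := hx.2
  unfold Cfsg.systemNormalizer at hxD
  rw [Subgroup.mem_iInf] at hxD
  have hxN := hxD ⟨p, hp⟩
  have hxC : x ∈ Subgroup.centralizer ((K ⟨p, hp⟩ : Subgroup G) : Set G) :=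
    mem_centralizer_of_mem_normalizer (K ⟨p, hp⟩) H
      (fun s _ => (Subgroup.normalizer_eq_top_iff.mpr hHn) ▸ Subgroup.mem_top s) hHS x hxH hxN
  have hxR := lemmaF H R (K ⟨p, hp⟩) hCR hcopS x hxH hxC
  have : x ∈ H ⊓ Subgroup.centralizer (R : Set G) := ⟨hxH, hxR⟩
  rw [hW] at this
  exact this

end

/-- Let D be the system normalizer of a Hall complement system of a finite solvable group G, and let A < B be normal subgroups with no normal subgroup of G strictly between them (a chief factor). If G centralizes B modulo A then B ≤ A ⊔ D (D covers the factor); otherwise B ∩ D ≤ A (D avoids it). -/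
theorem result {G : Type*} [Group G] [Finite G] [Group.IsSolvable G] (K : Nat.Primes → Subgroup G) (hK : Cfsg.IsComplementSystem K) (A B : Subgroup G) [A.Normal] [B.Normal] (hAB : A < B) (hchief : ∀ N : Subgroup G, N.Normal → A ≤ N → N ≤ B → N = A ∨ N = B) : (⁅B, (⊤ : Subgroup G)⁆ ≤ A → B ≤ A ⊔ Cfsg.systemNormalizer K) ∧ (¬ ⁅B, (⊤ : Subgroup G)⁆ ≤ A → B ⊓ Cfsg.systemNormalizer K ≤ A) := by
  obtain ⟨hsys, hnorm⟩ := Cfsg.Agent.S0545.result K hK A
  have hsurj : Function.Surjective (QuotientGroup.mk' A) := QuotientGroup.mk'_surjective A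
  constructor
  · intro hcent b hb
    -- the image of b is central
    have hbc : ∀ x : G ⧸ A, QuotientGroup.mk' A b * x = x * QuotientGroup.mk' A b := by
      intro x
      obtain ⟨g, rfl⟩ := hsurj x
      rw [← map_mul, ← map_mul]
      show ((b * g : G) : G ⧸ A) = ((g * b : G) : G ⧸ A)
      rw [QuotientGroup.eq]
      have h1 : (b * g)⁻¹ * (g * b) = ⁅g⁻¹, b⁻¹⁆ := by
        rw [commutatorElement_def]; group
      have h2 : ⁅b⁻¹, g⁻¹⁆ ∈ ⁅B, (⊤ : Subgroup G)⁆ :=
        Subgroup.commutator_mem_commutator (B.inv_mem hb) (Subgroup.mem_top _)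
      have h3 : ⁅g⁻¹, b⁻¹⁆ = (⁅b⁻¹, g⁻¹⁆)⁻¹ := (commutatorElement_inv _ _).symm
      rw [h1, h3]
      exact A.inv_mem (hcent h2)
    have hmem : QuotientGroup.mk' A b ∈
        Cfsg.systemNormalizer (fun p => (K p).map (QuotientGroup.mk' A)) := by
      unfold Cfsg.systemNormalizer
      rw [Subgroup.mem_iInf]
      intro p
      rw [Subgroup.mem_normalizer_iff]
      intro h
      have : QuotientGroup.mk' A b * h * (QuotientGroup.mk' A b)⁻¹ = h := by
        rw [hbc h, mul_inv_cancel_right]
      rw [this]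
    rw [hnorm] at hmem
    obtain ⟨d, hd, hdb⟩ := hmem
    have hdb' : ((d : G) : G ⧸ A) = ((b : G) : G ⧸ A) := hdb
    rw [QuotientGroup.eq] at hdb'
    have : b = d * (d⁻¹ * b) := by group
    rw [this]
    exact Subgroup.mul_mem _ (Subgroup.mem_sup_right hd) (Subgroup.mem_sup_left hdb')
  · intro hecc
    -- apply lemmaE in the quotient
    have hHn : (B.map (QuotientGroup.mk' A)).Normal :=
      Subgroup.Normal.map inferInstance _ hsurj
    have hHne : B.map (QuotientGroup.mk' A) ≠ ⊥ := by
      intro h0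
      rw [Subgroup.map_eq_bot_iff, QuotientGroup.ker_mk'] at h0
      exact (not_le_of_gt hAB) h0
    have hcm : (B.map (QuotientGroup.mk' A)).comap (QuotientGroup.mk' A) = B := by
      rw [Subgroup.comap_map_eq, QuotientGroup.ker_mk']
      exact sup_eq_left.mpr hAB.le
    have hmin : ∀ N : Subgroup (G ⧸ A), N.Normal → N ≤ B.map (QuotientGroup.mk' A) →
        N = ⊥ ∨ N = B.map (QuotientGroup.mk' A) := by
      intro N hN hNB
      have h1 : (N.comap (QuotientGroup.mk' A)).Normal := hN.comap _
      have h2 : A ≤ N.comap (QuotientGroup.mk' A) := by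
        intro a ha
        rw [Subgroup.mem_comap]
        have : QuotientGroup.mk' A a = 1 := (QuotientGroup.eq_one_iff a).mpr ha
        rw [this]; exact N.one_mem
      have h3 : N.comap (QuotientGroup.mk' A) ≤ B := by
        rw [← hcm]; exact Subgroup.comap_mono hNB
      have h4 : (N.comap (QuotientGroup.mk' A)).map (QuotientGroup.mk' A) = N :=
        Subgroup.map_comap_eq_self_of_surjective hsurj N
      rcases hchief _ h1 h2 h3 with h | h
      · left
        rw [← h4, h, QuotientGroup.map_mk'_self]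
      · right
        rw [← h4, h]
    have hnc : ¬ B.map (QuotientGroup.mk' A) ≤ Subgroup.center (G ⧸ A) := by
      intro hle
      apply hecc
      rw [Subgroup.commutator_le]
      intro b hb g _
      have hbc : QuotientGroup.mk' A b ∈ Subgroup.center (G ⧸ A) :=
        hle (Subgroup.mem_map_of_mem _ hb)
      rw [Subgroup.mem_center_iff] at hbc
      have h1 := hbc (QuotientGroup.mk' A g)
      rw [← (QuotientGroup.eq_one_iff _), commutatorElement_def]
      show QuotientGroup.mk' A (b * g * b⁻¹ * g⁻¹) = 1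
      rw [map_mul, map_mul, map_mul, map_inv, map_inv, ← h1]
      group
    have hE := lemmaE (fun p => (K p).map (QuotientGroup.mk' A)) hsys
      (B.map (QuotientGroup.mk' A)) hHne hmin hnc
    rw [hnorm] at hE
    intro x hx
    have hx' : QuotientGroup.mk' A x ∈ B.map (QuotientGroup.mk' A) ⊓
        (Cfsg.systemNormalizer K).map (QuotientGroup.mk' A) :=
      ⟨Subgroup.mem_map_of_mem _ hx.1, Subgroup.mem_map_of_mem _ hx.2⟩
    rw [hE, Subgroup.mem_bot] at hx'
    exact (QuotientGroup.eq_one_iff x).mp hx'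

end Cfsg.Agent.S0568
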