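import Cfsg.Statements.S0566
import Mathlib
import Cfsg.Agent.Lib.Helper2.PermutingFamily

set_option autoImplicit false

namespace Cfsg.Agent.S0566

open Pointwise

variable {G : Type*} [Group G]

theorem mem_conj_smul (x k : G) (B : Subgroup G) :
    k ∈ (MulAut.conj x • B : Subgroup G) ↔ x⁻¹ * k * x ∈ B := by
  rw [Subgroup.mem_pointwise_smul_iff_inv_smul_mem]
  simp [MulAut.smul_def]

/-- elementwise permutability `X K ⊆ K X` -/
def Perm (X K : Subgroup G) : Prop :=
  ∀ x ∈ X, ∀ k ∈ K, ∃ k' ∈ K, ∃ x' ∈ X, x * k = k' * x'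

theorem perm_of_set (X K : Subgroup G)
    (h : ∃ S : Subgroup G, (S : Set G) = (X : Set G) * (K : Set G)) : Perm X K := by
  obtain ⟨S, hS⟩ := h
  intro x hx k hk
  have h1 : x ∈ S := by
    have : x ∈ (S : Set G) := by rw [hS]; exact ⟨x, hx, 1, K.one_mem, mul_one x⟩
    exact this
  have h2 : k ∈ S := by
    have : k ∈ (S : Set G) := by rw [hS]; exact ⟨1, X.one_mem, k, hk, one_mul k⟩
    exact this
  have h3 : k⁻¹ * x⁻¹ ∈ (S : Set G) := S.mul_mem (S.inv_mem h2) (S.inv_mem h1)
  rw [hS] at h3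
  obtain ⟨x', hx', k', hk', e⟩ := h3
  refine ⟨k'⁻¹, K.inv_mem hk', x'⁻¹, X.inv_mem hx', ?_⟩
  have e' : x' * k' = k⁻¹ * x⁻¹ := e
  calc x * k = (k⁻¹ * x⁻¹)⁻¹ := by group
    _ = (x' * k')⁻¹ := by rw [e']
    _ = k'⁻¹ * x'⁻¹ := by group

theorem Perm.reverse {X K : Subgroup G} (h : Perm X K) :
    ∀ k ∈ K, ∀ x ∈ X, ∃ x' ∈ X, ∃ k' ∈ K, k * x = x' * k' := by
  intro k hk x hx
  obtain ⟨k', hk', x', hx', e⟩ := h x⁻¹ (X.inv_mem hx) k⁻¹ (K.inv_mem hk)
  refine ⟨x'⁻¹, X.inv_mem hx', k'⁻¹, K.inv_mem hk', ?_⟩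
  calc k * x = (x⁻¹ * k⁻¹)⁻¹ := by group
    _ = (k' * x')⁻¹ := by rw [e]
    _ = x'⁻¹ * k'⁻¹ := by group

theorem sup_mem_of_perm {X K : Subgroup G} (h : Perm X K) :
    ∀ g ∈ X ⊔ K, ∃ a ∈ X, ∃ k ∈ K, g = a * k := by
  have hset : (X : Set G) * (K : Set G) = (K : Set G) * (X : Set G) := by
    ext g
    constructor
    · rintro ⟨x, hx, k, hk, rfl⟩
      obtain ⟨k', hk', x', hx', e⟩ := h x hx k hk
      exact ⟨k', hk', x', hx', e.symm⟩
    · rintro ⟨k, hk, x, hx, rfl⟩
      obtain ⟨x', hx', k', hk', e⟩ := h.reverse k hk x hx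
      exact ⟨x', hx', k', hk', e.symm⟩
  intro g hg
  have h1 := Cfsg.Agent.Lib.Helper2.coe_sup_of_mul_comm X K hset
  have h2 : g ∈ ((X ⊔ K : Subgroup G) : Set G) := hg
  rw [h1] at h2
  obtain ⟨a, ha, k, hk, e⟩ := h2
  exact ⟨a, ha, k, hk, e.symm⟩

theorem perm_iSup {ι : Sort*} (X : ι → Subgroup G) (K : Subgroup G) (h : ∀ i, Perm (X i) K) :
    Perm (⨆ i, X i) K := by
  intro x hx
  refine Subgroup.iSup_induction X
    (C := fun x => ∀ k ∈ K, ∃ k' ∈ K, ∃ x' ∈ (⨆ i, X i), x * k = k' * x') hx ?_ ?_ ?_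
  · intro i x hx k hk
    obtain ⟨k', hk', x', hx', e⟩ := h i x hx k hk
    exact ⟨k', hk', x', Subgroup.mem_iSup_of_mem i hx', e⟩
  · intro k hk
    exact ⟨k, hk, 1, Subgroup.one_mem _, by group⟩
  · intro x y hx hy k hk
    obtain ⟨k', hk', y', hy', e⟩ := hy k hk
    obtain ⟨k'', hk'', x', hx', e'⟩ := hx k' hk'
    refine ⟨k'', hk'', x' * y', Subgroup.mul_mem _ hx' hy', ?_⟩
    calc x * y * k = x * (y * k) := by group
      _ = x * (k' * y') := by rw [e]
      _ = (x * k') * y' := by group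
      _ = (k'' * x') * y' := by rw [e']
      _ = k'' * (x' * y') := by group

theorem perm_conj (A B : Subgroup G) (h : ∀ z : G, Perm A (MulAut.conj z • B)) (b y : G) :
    Perm (MulAut.conj b • A) (MulAut.conj y • B) := by
  intro x hx k hk
  rw [mem_conj_smul] at hx hk
  have hk2 : b⁻¹ * k * b ∈ (MulAut.conj (b⁻¹ * y) • B : Subgroup G) := by
    rw [mem_conj_smul]
    have : (b⁻¹ * y)⁻¹ * (b⁻¹ * k * b) * (b⁻¹ * y) = y⁻¹ * k * y := by group
    rw [this]; exact hk
  obtain ⟨k', hk', x', hx', e⟩ := h (b⁻¹ * y) (b⁻¹ * x * b) hx (b⁻¹ * k * b) hk2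
  rw [mem_conj_smul] at hk'
  refine ⟨b * k' * b⁻¹, ?_, b * x' * b⁻¹, ?_, ?_⟩
  · rw [mem_conj_smul]
    have : y⁻¹ * (b * k' * b⁻¹) * y = (b⁻¹ * y)⁻¹ * k' * (b⁻¹ * y) := by group
    rw [this]; exact hk'
  · rw [mem_conj_smul]
    have : b⁻¹ * (b * x' * b⁻¹) * b = x' := by group
    rw [this]; exact hx'
  · calc x * k = b * ((b⁻¹ * x * b) * (b⁻¹ * k * b)) * b⁻¹ := by group
      _ = b * (k' * x') * b⁻¹ := by rw [e]
      _ = b * k' * b⁻¹ * (b * x' * b⁻¹) := by group

theorem key [Finite G] (B : Subgroup G) (hB : Subgroup.normalClosure (B : Set G) = ⊤) :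
    ∀ A : Subgroup G, Subgroup.normalClosure (A : Set G) = ⊤ →
      (∀ z : G, Perm A (MulAut.conj z • B)) →
      ∃ x : G, ∀ g : G, ∃ a ∈ A, ∃ k ∈ (MulAut.conj x • B : Subgroup G), g = a * k := by
  intro A
  induction A using WellFoundedGT.induction with
  | _ A ih =>
    intro hA hperm
    by_cases hAn : A.Normal
    · have hAt : A = ⊤ := by
        rw [← hA]; exact (Subgroup.normalClosure_eq_self A).symm
      refine ⟨1, fun g => ⟨g, by rw [hAt]; trivial, 1, Subgroup.one_mem _, by group⟩⟩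
    · have h1 : ∃ x : G,
          ¬ (MulAut.conj x • B : Subgroup G) ≤ Subgroup.normalizer (A : Set G) := by
        by_contra hcon
        push_neg at hcon
        apply hAn
        have h2 : Subgroup.normalClosure (B : Set G) ≤ Subgroup.normalizer (A : Set G) := by
          unfold Subgroup.normalClosure
          rw [Subgroup.closure_le]
          intro g hg
          rw [Group.mem_conjugatesOfSet_iff] at hg
          obtain ⟨b, hb, hbg⟩ := hg
          rw [isConj_iff] at hbg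
          obtain ⟨c, hc⟩ := hbg
          apply hcon c
          rw [mem_conj_smul, ← hc]
          have : c⁻¹ * (c * b * c⁻¹) * c = b := by group
          rw [this]; exact hb
        rw [hB, top_le_iff] at h2
        exact Subgroup.normalizer_eq_top_iff.mp h2
      obtain ⟨x, hx⟩ := h1
      have hH : ∀ g ∈ A ⊔ (MulAut.conj x • B : Subgroup G),
          ∃ a ∈ A, ∃ k ∈ (MulAut.conj x • B : Subgroup G), g = a * k :=
        sup_mem_of_perm (hperm x)
      obtain ⟨Astar, hAstar⟩ : ∃ Astar : Subgroup G,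
          Astar = ⨆ b : (MulAut.conj x • B : Subgroup G), (MulAut.conj (b : G) • A : Subgroup G) :=
        ⟨_, rfl⟩
      have hle_star : ∀ b ∈ (MulAut.conj x • B : Subgroup G),
          (MulAut.conj b • A : Subgroup G) ≤ Astar := by
        intro b hb
        rw [hAstar]
        exact le_iSup (fun b : (MulAut.conj x • B : Subgroup G) =>
          (MulAut.conj (b : G) • A : Subgroup G)) ⟨b, hb⟩
      have hA_le : A ≤ Astar := by
        have := hle_star 1 (Subgroup.one_mem _)
        simpa using this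
      have hAstar_le : Astar ≤ A ⊔ (MulAut.conj x • B : Subgroup G) := by
        rw [hAstar]
        apply iSup_le
        intro b g hg
        rw [mem_conj_smul] at hg
        have hb : (b : G) ∈ A ⊔ (MulAut.conj x • B : Subgroup G) := Subgroup.mem_sup_right b.2
        have : g = (b : G) * ((b : G)⁻¹ * g * b) * (b : G)⁻¹ := by group
        rw [this]
        exact mul_mem (mul_mem hb (Subgroup.mem_sup_left hg)) (inv_mem hb)
      have hne : A ≠ Astar := by
        intro heq
        apply hx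
        intro b hb
        have h3 : (MulAut.conj b • A : Subgroup G) ≤ A := (hle_star b hb).trans heq.ge
        apply Subgroup.mem_normalizer_fintype
        intro n hn
        apply h3
        rw [mem_conj_smul]
        have : b⁻¹ * (b * n * b⁻¹) * b = n := by group
        rw [this]; exact hn
      have hlt : A < Astar := lt_of_le_of_ne hA_le hne
      have hAstar_nc : Subgroup.normalClosure (Astar : Set G) = ⊤ := by
        rw [eq_top_iff, ← hA]
        exact Subgroup.normalClosure_mono hA_le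
      have hAstar_perm : ∀ z : G, Perm Astar (MulAut.conj z • B) := by
        intro z
        rw [hAstar]
        exact perm_iSup _ _ (fun b => perm_conj A B hperm b z)
      obtain ⟨y, hy⟩ := ih Astar hlt hAstar_nc hAstar_perm
      refine ⟨x, ?_⟩
      have hB''_le : (MulAut.conj y • B : Subgroup G) ≤ A ⊔ (MulAut.conj x • B : Subgroup G) := by
        obtain ⟨h, hh, c, hc, e⟩ := hy (x * y⁻¹)
        have hhH : h ∈ A ⊔ (MulAut.conj x • B : Subgroup G) := hAstar_le hh
        have hy_eq : y = c⁻¹ * h⁻¹ * x := by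
          have h7 : y⁻¹ = x⁻¹ * (h * c) := by rw [← e]; group
          calc y = (y⁻¹)⁻¹ := by group
            _ = (x⁻¹ * (h * c))⁻¹ := by rw [h7]
            _ = c⁻¹ * h⁻¹ * x := by group
        have key : ∀ k ∈ (MulAut.conj y • B : Subgroup G),
            c * k * c⁻¹ ∈ A ⊔ (MulAut.conj x • B : Subgroup G) := by
          intro k hk
          rw [mem_conj_smul] at hk
          have h5 : h * (c * k * c⁻¹) * h⁻¹ ∈ (MulAut.conj x • B : Subgroup G) := by
            rw [mem_conj_smul]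
            have h8 : x⁻¹ * (h * (c * k * c⁻¹) * h⁻¹) * x
                = (c⁻¹ * h⁻¹ * x)⁻¹ * k * (c⁻¹ * h⁻¹ * x) := by group
            rw [h8, ← hy_eq]; exact hk
          have h6 : h * (c * k * c⁻¹) * h⁻¹ ∈ A ⊔ (MulAut.conj x • B : Subgroup G) :=
            Subgroup.mem_sup_right h5
          have h9 : c * k * c⁻¹ = h⁻¹ * (h * (c * k * c⁻¹) * h⁻¹) * h := by group
          rw [h9]
          exact mul_mem (mul_mem (inv_mem hhH) h6) hhH
        intro k hk
        have hk1 : c⁻¹ * k * c ∈ (MulAut.conj y • B : Subgroup G) :=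
          Subgroup.mul_mem _ (Subgroup.mul_mem _ (Subgroup.inv_mem _ hc) hk) hc
        have h10 := key _ hk1
        have e2 : c * (c⁻¹ * k * c) * c⁻¹ = k := by group
        rwa [e2] at h10
      intro g
      obtain ⟨h, hh, c, hc, e⟩ := hy g
      have hg : g ∈ A ⊔ (MulAut.conj x • B : Subgroup G) := by
        rw [e]; exact mul_mem (hAstar_le hh) (hB''_le hc)
      exact hH g hg

theorem result {G : Type*} [Group G] [Finite G] (A B : Subgroup G) (hA : A ≠ ⊥) (hB : B ≠ ⊥) (h : ∀ x : G, ∃ S : Subgroup G, S ≠ ⊤ ∧ (S : Set G) = (A : Set G) * ((MulAut.conj x • B : Subgroup G) : Set G)) : ∃ N : Subgroup G, N.Normal ∧ N ≠ ⊤ ∧ (A ≤ N ∨ B ≤ N) := by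
  by_contra hcon
  have hA' : Subgroup.normalClosure (A : Set G) = ⊤ := by
    by_contra hne
    exact hcon ⟨_, Subgroup.normalClosure_normal, hne, Or.inl Subgroup.le_normalClosure⟩
  have hB' : Subgroup.normalClosure (B : Set G) = ⊤ := by
    by_contra hne
    exact hcon ⟨_, Subgroup.normalClosure_normal, hne, Or.inr Subgroup.le_normalClosure⟩
  have hperm : ∀ z : G, Perm A (MulAut.conj z • B) := fun z => by
    obtain ⟨S, _, hS⟩ := h z
    exact perm_of_set _ _ ⟨S, hS⟩
  obtain ⟨x, hx⟩ := key B hB' A hA' hperm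
  obtain ⟨S, hS1, hS2⟩ := h x
  apply hS1
  rw [eq_top_iff]
  intro g _
  obtain ⟨a, ha, k, hk, e⟩ := hx g
  have : g ∈ (S : Set G) := by rw [hS2, e]; exact ⟨a, ha, k, hk, rfl⟩
  exact this

end Cfsg.Agent.S0566
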