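import Cfsg.Statements.S0029
import Mathlib.GroupTheory.Sylow
import Mathlib.Tactic.Group
-- import your own Cfsg.Agent.* helpers here

set_option autoImplicit false
open Cfsg

namespace Cfsg.Agent.S0029

/-- A `q`-subgroup `S` acting trivially on `K/Φ(K)`, with `q ∤ |Φ(K)|`, centralizes `K`. -/
theorem step {G : Type*} [Group G] [Finite G] (K S : Subgroup G) (q : ℕ) [Fact q.Prime]
    (hS : IsPGroup q S) (hq : ¬ q ∣ Nat.card (frattini K))
    (htriv : ∀ a ∈ S, ∀ k ∈ K, a * k * a⁻¹ * k⁻¹ ∈ (frattini K).map K.subtype) :
    S ≤ Subgroup.centralizer (K : Set G) := by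
  set Φ : Subgroup G := (frattini K).map K.subtype with hΦ
  have hΦK : Φ ≤ K := Subgroup.map_subtype_le _
  have hΦcard : Nat.card Φ = Nat.card (frattini K) :=
    Subgroup.card_map_of_injective (Subgroup.subtype_injective _)
  set D : Subgroup K := (Subgroup.centralizer (S : Set G)).subgroupOf K with hD
  have hsup : D ⊔ frattini K = ⊤ := by
    rw [eq_top_iff]
    rintro ⟨k, hk⟩ _
    -- the S-set Φk
    let Ω := {x : G // x * k⁻¹ ∈ Φ}
    have hΩK : ∀ x : Ω, (x : G) ∈ K := by
      intro x
      have : (x : G) = ((x : G) * k⁻¹) * k := by group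
      rw [this]
      exact K.mul_mem (hΦK x.2) hk
    let act : MulAction S Ω :=
      { smul := fun s x => ⟨(s : G) * x * (s : G)⁻¹, by
          have h1 := htriv s s.2 x (hΩK x)
          have : (s : G) * x * (s : G)⁻¹ * k⁻¹ = ((s : G) * x * (s : G)⁻¹ * (x : G)⁻¹) * ((x : G) * k⁻¹) := by
            group
          rw [this]
          exact Φ.mul_mem h1 x.2⟩
        one_smul := fun x => Subtype.ext (by
          show ((1 : S) : G) * x * ((1 : S) : G)⁻¹ = x
          simp)
        mul_smul := fun s t x => Subtype.ext (by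
          show ((s * t : S) : G) * x * ((s * t : S) : G)⁻¹ = s * (t * x * (t : G)⁻¹) * (s : G)⁻¹
          simp [mul_assoc]) }
    have hsmul : ∀ (s : S) (x : Ω), ((s • x : Ω) : G) = (s : G) * x * (s : G)⁻¹ := fun _ _ => rfl
    have hcardΩ : Nat.card Ω = Nat.card Φ := by
      apply Nat.card_congr
      exact
        { toFun := fun x => ⟨(x : G) * k⁻¹, x.2⟩
          invFun := fun f => ⟨(f : G) * k, by simpa using f.2⟩
          left_inv := fun x => Subtype.ext (by simp)
          right_inv := fun f => Subtype.ext (by simp) }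
    have hnd : ¬ q ∣ Nat.card Ω := by rw [hcardΩ, hΦcard]; exact hq
    obtain ⟨x, hx⟩ := hS.nonempty_fixed_point_of_prime_not_dvd_card Ω hnd
    -- x is centralized by S
    have hxc : (x : G) ∈ Subgroup.centralizer (S : Set G) := by
      rw [Subgroup.mem_centralizer_iff]
      intro s hs
      have := congrArg (fun y : Ω => (y : G)) (hx ⟨s, hs⟩)
      simp only [hsmul] at this
      calc s * (x : G) = (s * (x : G) * s⁻¹) * s := by group
        _ = (x : G) * s := by rw [this]
    -- decompose k
    have hxK : (x : G) ∈ K := hΩK x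
    obtain ⟨f, hf, hfx⟩ := x.2
    have hxD : (⟨x, hxK⟩ : K) ∈ D := by
      rw [hD, Subgroup.mem_subgroupOf]; exact hxc
    have hk_eq : (⟨k, hk⟩ : K) = f⁻¹ * ⟨x, hxK⟩ := by
      apply Subtype.ext
      have : (f : G) = (x : G) * k⁻¹ := hfx
      show k = ((f : G))⁻¹ * (x : G)
      rw [this]; group
    rw [hk_eq]
    exact Subgroup.mul_mem _ (Subgroup.mem_sup_right ((frattini K).inv_mem hf)) (Subgroup.mem_sup_left hxD)
  have hDtop : D = ⊤ := frattini_nongenerating hsup
  rw [hD, Subgroup.subgroupOf_eq_top] at hDtop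
  exact Subgroup.le_centralizer_iff.mpr hDtop

/-- An action that is trivial on the Frattini quotient and coprime on the Frattini subgroup is trivial: if A normalises K, the orders of A and of the Frattini subgroup of K are coprime, and every commutator of an element of A with an element of K lies in the Frattini subgroup of K, then A centralises K. -/
theorem result {G : Type*} [Group G] [Finite G] (A K : Subgroup G)
    (hAK : A ≤ Subgroup.normalizer (K : Set G))
    (hcop : (Nat.card A).Coprime (Nat.card (frattini K)))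
    (htriv : ∀ a ∈ A, ∀ k ∈ K, a * k * a⁻¹ * k⁻¹ ∈ (frattini K).map K.subtype) :
    A ≤ Subgroup.centralizer (K : Set G) := by
  set B : Subgroup A := (Subgroup.centralizer (K : Set G)).subgroupOf A with hB
  have hidx : B.index = 1 := by
    rw [Nat.eq_one_iff_not_exists_prime_dvd]
    intro q hq hqB
    have : Fact q.Prime := ⟨hq⟩
    by_cases hqΦ : q ∣ Nat.card (frattini K)
    · have hqA : q ∣ Nat.card A := hqB.trans (Subgroup.index_dvd_card B)
      have := Nat.eq_one_of_dvd_coprimes hcop hqA hqΦ
      exact hq.one_lt.ne' this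
    · obtain ⟨S⟩ : Nonempty (Sylow q A) := inferInstance
      have hS' : IsPGroup q ((S : Subgroup A).map A.subtype) := S.2.map _
      have hle := step K ((S : Subgroup A).map A.subtype) q hS' hqΦ (by
        intro a ha k hk
        exact htriv a (Subgroup.map_subtype_le _ ha) k hk)
      have hSB : (S : Subgroup A) ≤ B := by
        intro s hs
        rw [hB, Subgroup.mem_subgroupOf]
        exact hle ⟨s, hs, rfl⟩
      exact S.not_dvd_index (hqB.trans (Subgroup.index_dvd_of_le hSB))
  rw [Subgroup.index_eq_one, hB, Subgroup.subgroupOf_eq_top] at hidx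
  exact hidx

end Cfsg.Agent.S0029
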