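import Cfsg.Statements.S0044
import Cfsg.Agent.Lib.Helper2.Cores
-- import your own Cfsg.Agent.* helpers here

set_option autoImplicit false
open Cfsg
open scoped commutatorElement

namespace Cfsg.Agent.S0044

open Cfsg.Agent.Lib.Helper2

/-- the derived series of a subgroup, computed in the ambient group -/
def dser {G : Type*} [Group G] (C : Subgroup G) : ℕ → Subgroup G
  | 0 => C
  | n + 1 => ⁅dser C n, dser C n⁆

theorem dser_le_derivedSeries {G : Type*} [Group G] (C : Subgroup G) (n : ℕ) :
    dser C n ≤ derivedSeries G n := by
  induction n with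
  | zero => exact le_top
  | succ n ih => exact Subgroup.commutator_mono ih ih

theorem dser_normal {G : Type*} [Group G] (C : Subgroup G) [hC : C.Normal] (n : ℕ) :
    (dser C n).Normal := by
  induction n with
  | zero => exact hC
  | succ n ih =>
    have := ih
    exact Subgroup.commutator_normal (dser C n) (dser C n)

theorem dser_le {G : Type*} [Group G] (C : Subgroup G) (n : ℕ) : dser C n ≤ C := by
  induction n with
  | zero => exact le_rfl
  | succ n ih => exact (Subgroup.commutator_mono ih ih).trans (Subgroup.commutator_le_self C)

/-- In a finite solvable group, the centraliser of the Fitting subgroup is contained in the Fitting subgroup. -/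
theorem result {G : Type*} [Group G] [Finite G] [Group.IsSolvable G] :
    Subgroup.centralizer (Cfsg.fittingSubgroup G : Set G) ≤ Cfsg.fittingSubgroup G := by
  set F := Cfsg.fittingSubgroup G with hF
  have hFn : F.Normal := fittingSubgroup_normal
  set C := Subgroup.centralizer (F : Set G) with hC
  have hCn : C.Normal := Subgroup.normal_centralizer
  -- some term of the series is inside F
  obtain ⟨n, hn⟩ := (Group.isSolvable_def G).mp inferInstance
  have hex : ∃ n, dser C n ≤ F := ⟨n, (dser_le_derivedSeries C n).trans (hn ▸ bot_le)⟩
  -- minimal such n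
  classical
  let m := Nat.find hex
  have hm : dser C m ≤ F := Nat.find_spec hex
  rcases Nat.eq_zero_or_pos m with h0 | hpos
  · have : dser C 0 ≤ F := h0 ▸ hm
    exact this
  · exfalso
    obtain ⟨k, hk⟩ : ∃ k, m = k + 1 := ⟨m - 1, by omega⟩
    have hkF : ¬ dser C k ≤ F := Nat.find_min hex (by omega)
    apply hkF
    set M := dser C k with hM
    have hMn : M.Normal := dser_normal C k
    have hMC : M ≤ C := dser_le C k
    have hMM : ⁅M, M⁆ ≤ F := by
      have : dser C (k + 1) ≤ F := hk ▸ hm
      exact this
    -- M is nilpotent of class ≤ 2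
    have hnil : Group.IsNilpotent M := by
      rw [Subgroup.isNilpotent_iff_lowerCentralSeries]
      refine ⟨2, ?_⟩
      show ⁅⁅M, M⁆, M⁆ = ⊥
      rw [Subgroup.commutator_eq_bot_iff_le_centralizer]
      intro x hx
      rw [Subgroup.mem_centralizer_iff]
      intro y hy
      have hyC : y ∈ C := hMC hy
      rw [hC, Subgroup.mem_centralizer_iff] at hyC
      exact (hyC x (hMM hx)).symm
    exact le_fittingSubgroup hMn hnil

end Cfsg.Agent.S0044
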