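import Cfsg.Statements.S0894
import Cfsg.Agent.S0893
import Cfsg.Agent.Lib.Helper4.CharOrtho
import Cfsg.Agent.Lib.Helper4.RepEigen
import Cfsg.Agent.Lib.Helper4.CharIntegral
import Cfsg.Agent.Lib.Helper26.CharBasic

set_option autoImplicit false
open Cfsg
open scoped ComplexConjugate

namespace Cfsg.Agent.S0894

open Cfsg.Agent.Lib.Helper26

/-- Schur's lemma: an endomorphism commuting with an irreducible complex representation is a
scalar. -/
theorem schur_scalar {G V : Type*} [Group G] [AddCommGroup V] [Module ℂ V]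
    [FiniteDimensional ℂ V] (ρ : Representation ℂ G V) (hirr : ρ.IsIrreducible) (T : V →ₗ[ℂ] V)
    (hT : ∀ g v, T (ρ g v) = ρ g (T v)) : ∃ c : ℂ, T = c • LinearMap.id := by
  have := hirr
  let T' : Representation.IntertwiningMap ρ ρ := T.intertwiningMap_of_isIntertwiningMap ρ ρ hT
  obtain ⟨c, hc⟩ :=
    (Representation.IsIrreducible.algebraMap_intertwiningMap_bijective_of_isAlgClosed (ρ := ρ)).2 T'
  refine ⟨c, ?_⟩
  have := congrArg Representation.IntertwiningMap.toLinearMap hc
  ext v
  have h2 := LinearMap.congr_fun this v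
  simp only [Representation.IntertwiningMap.algebraMap_apply] at h2
  exact h2.symm

/-- An irreducible complex representation with commuting image is one-dimensional. -/
theorem finrank_eq_one_of_comm {G V : Type*} [Group G] [AddCommGroup V] [Module ℂ V]
    [FiniteDimensional ℂ V] (ρ : Representation ℂ G V) (hirr : ρ.IsIrreducible)
    (hc : ∀ g h : G, ρ g * ρ h = ρ h * ρ g) : Module.finrank ℂ V = 1 := by
  have hs : ∀ g, ∃ c : ℂ, ρ g = c • LinearMap.id := fun g =>
    schur_scalar ρ hirr (ρ g) (fun h v => by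
      have := LinearMap.congr_fun (hc g h) v
      simpa using this)
  have := hirr
  obtain ⟨v, hv⟩ : ∃ v : V, v ≠ 0 := by
    by_contra hcon
    push Not at hcon
    have hbt : (⊥ : Subrepresentation ρ) = ⊤ := by
      apply Subrepresentation.toSubmodule_injective
      ext w
      have h1 : w ∈ (⊥ : Subrepresentation ρ).toSubmodule ↔ w = 0 := Submodule.mem_bot ℂ
      have h2 : w ∈ (⊤ : Subrepresentation ρ).toSubmodule ↔ True := by
        constructor
        · intro _; trivial
        · intro _; exact Submodule.mem_top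
      rw [h1, h2]
      simp [hcon w]
    exact bot_ne_top hbt
  let W : Subrepresentation ρ := ⟨Submodule.span ℂ {v}, fun g w hw => by
    obtain ⟨c, hc⟩ := hs g
    rw [hc]
    simpa using Submodule.smul_mem _ c hw⟩
  have hW : W = ⊥ ∨ W = ⊤ := hirr.eq_bot_or_eq_top W
  rcases hW with h | h
  · exfalso
    have hv' : v ∈ W.toSubmodule := Submodule.mem_span_singleton_self v
    rw [h] at hv'
    exact hv ((Submodule.mem_bot ℂ).mp hv')
  · have : Submodule.span ℂ {v} = ⊤ := congrArg Subrepresentation.toSubmodule h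
    rw [← finrank_top ℂ V, ← this]
    exact finrank_span_singleton hv

/-- The commutator homomorphism `g ↦ [g, x]` into the centre, when all commutators are central. -/
def commHom {P : Type*} [Group P] (hcz : ∀ g x : P, g * x * g⁻¹ * x⁻¹ ∈ Subgroup.center P)
    (x : P) : P →* Subgroup.center P :=
  { toFun := fun g => ⟨g * x * g⁻¹ * x⁻¹, hcz g x⟩
    map_one' := by ext; simp
    map_mul' := by
      intro g h
      ext
      simp only [Subgroup.coe_mul]
      have hc := Subgroup.mem_center_iff.mp (hcz h x)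
      calc g * h * x * (g * h)⁻¹ * x⁻¹
          = g * ((h * x * h⁻¹ * x⁻¹) * x) * g⁻¹ * x⁻¹ := by group
        _ = g * (h * x * h⁻¹ * x⁻¹) * x * g⁻¹ * x⁻¹ := by group
        _ = (h * x * h⁻¹ * x⁻¹) * g * x * g⁻¹ * x⁻¹ := by rw [hc g]
        _ = (h * x * h⁻¹ * x⁻¹) * (g * x * g⁻¹ * x⁻¹) := by group
        _ = (g * x * g⁻¹ * x⁻¹) * (h * x * h⁻¹ * x⁻¹) := by rw [hc (g * x * g⁻¹ * x⁻¹)] }

theorem card_centralizer_of_not_mem_center {P : Type*} [Group P] [Finite P] (p : ℕ) [Fact p.Prime]
    (hZcard : Nat.card (Subgroup.center P) = p)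
    (hcz : ∀ g x : P, g * x * g⁻¹ * x⁻¹ ∈ Subgroup.center P) (x : P)
    (hx : x ∉ Subgroup.center P) :
    Nat.card (Subgroup.centralizer ({x} : Set P)) * p = Nat.card P := by
  have hpp : p.Prime := Fact.out
  let φ := commHom hcz x
  have hφ : ∀ g, ((φ g : Subgroup.center P) : P) = g * x * g⁻¹ * x⁻¹ := fun g => rfl
  have hker : φ.ker = Subgroup.centralizer ({x} : Set P) := by
    ext g
    rw [MonoidHom.mem_ker, Subgroup.mem_centralizer_iff]
    constructor
    · intro h k hk
      rw [Set.mem_singleton_iff] at hk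
      subst hk
      have h1 : g * k * g⁻¹ * k⁻¹ = 1 := by rw [← hφ g, h]; rfl
      have h2 : g * k * g⁻¹ * k⁻¹ * (k * g) = k * g := by rw [h1, one_mul]
      rw [← h2]; group
    · intro h
      have h1 := h x (Set.mem_singleton x)
      apply Subtype.ext
      rw [hφ g]
      show g * x * g⁻¹ * x⁻¹ = 1
      rw [← h1]; group
  have hne : φ.range ≠ ⊥ := by
    intro hbot
    apply hx
    rw [Subgroup.mem_center_iff]
    intro g
    have hg : φ g ∈ φ.range := ⟨g, rfl⟩
    rw [hbot, Subgroup.mem_bot] at hg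
    have hg' : g * x * g⁻¹ * x⁻¹ = 1 := by rw [← hφ g, hg]; rfl
    have h2 : g * x * g⁻¹ * x⁻¹ * (x * g) = x * g := by rw [hg', one_mul]
    rw [← h2]; group
  haveI : Fact (Nat.card (Subgroup.center P)).Prime := ⟨hZcard ▸ hpp⟩
  have htop : φ.range = ⊤ := (Subgroup.eq_bot_or_eq_top_of_prime_card φ.range).resolve_left hne
  have h1 := Subgroup.card_mul_index φ.ker
  rw [Subgroup.index_ker, htop, Subgroup.card_top, hZcard, hker] at h1
  exact h1

theorem dichotomy {P : Type*} [Group P] [Fintype P] (p n : ℕ) [Fact p.Prime]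
    (hZcard : Nat.card (Subgroup.center P) = p) (hcomm : commutator P = Subgroup.center P)
    (hcard : Nat.card P = p ^ (2 * n + 1))
    {d : ℕ} (ρ : Representation ℂ P (Fin d → ℂ)) (hirr : ρ.IsIrreducible) :
    d = 1 ∨ (d = p ^ n ∧ ∀ x : P, x ∉ Subgroup.center P → ρ.character x = 0) := by
  classical
  have hpp : p.Prime := Fact.out
  have hfr : Module.finrank ℂ (Fin d → ℂ) = d := by simp
  have hcz : ∀ g x : P, g * x * g⁻¹ * x⁻¹ ∈ Subgroup.center P := by
    intro g x
    rw [← hcomm, commutator_def]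
    exact Subgroup.commutator_mem_commutator (Subgroup.mem_top g) (Subgroup.mem_top x)
  -- central elements act by scalars
  have hsc : ∀ z ∈ Subgroup.center P, ∃ ω : ℂ, ρ z = ω • LinearMap.id := by
    intro z hz
    apply schur_scalar ρ hirr
    intro g v
    rw [← Module.End.mul_apply, ← Module.End.mul_apply, ← map_mul, ← map_mul,
      Subgroup.mem_center_iff.mp hz g]
  by_cases h : ∀ z ∈ Subgroup.center P, ρ z = 1
  · left
    rw [← hfr]
    apply finrank_eq_one_of_comm ρ hirr
    intro g k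
    rw [← map_mul, ← map_mul]
    have h1 := h _ (hcz g k)
    have : g * k = (g * k * g⁻¹ * k⁻¹) * (k * g) := by group
    rw [this, map_mul, h1, one_mul]
  · right
    push Not at h
    obtain ⟨z₀, hz₀, hρz₀⟩ := h
    have hne : ∀ c ∈ Subgroup.center P, c ≠ 1 → ρ c ≠ 1 := by
      intro c hc hc1 hρc
      apply hρz₀
      have hc1' : (⟨c, hc⟩ : Subgroup.center P) ≠ 1 := by
        intro h; exact hc1 (congrArg Subtype.val h)
      have htop := zpowers_eq_top_of_prime_card hZcard hc1'
      have hmem : (⟨z₀, hz₀⟩ : Subgroup.center P) ∈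
          Subgroup.zpowers (⟨c, hc⟩ : Subgroup.center P) := by
        rw [htop]; exact Subgroup.mem_top _
      rw [← mem_powers_iff_mem_zpowers] at hmem
      obtain ⟨k, hk⟩ := (Submonoid.mem_powers_iff _ _).mp hmem
      have hk' : c ^ k = z₀ := by
        have := congrArg Subtype.val hk
        simpa using this
      rw [← hk', map_pow, hρc, one_pow]
    have hvan : ∀ x : P, x ∉ Subgroup.center P → ρ.character x = 0 := by
      intro x hx
      rw [Subgroup.mem_center_iff] at hx
      push Not at hx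
      obtain ⟨g, hg⟩ := hx
      have hcZ := hcz g x
      have hc1 : g * x * g⁻¹ * x⁻¹ ≠ 1 := by
        intro h1
        apply hg
        have h2 : g * x * g⁻¹ * x⁻¹ * (x * g) = x * g := by rw [h1, one_mul]
        rw [← h2]; group
      obtain ⟨ω, hω⟩ := hsc _ hcZ
      have hω1 : ω ≠ 1 := by
        intro h1
        apply hne _ hcZ hc1
        rw [hω, h1, one_smul]; rfl
      have e1 : ρ.character (g * x * g⁻¹) = ρ.character x := Representation.char_conj ρ x g
      have e2 : ρ.character (g * x * g⁻¹) = ω * ρ.character x := by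
        have : g * x * g⁻¹ = (g * x * g⁻¹ * x⁻¹) * x := by group
        rw [this]
        unfold Representation.character
        rw [map_mul, hω, smul_mul_assoc, map_smul, smul_eq_mul]
        rfl
      have : (1 - ω) * ρ.character x = 0 := by rw [sub_mul, one_mul, ← e2, e1, sub_self]
      rcases mul_eq_zero.mp this with h | h
      · exact absurd (sub_eq_zero.mp h).symm hω1
      · exact h
    refine ⟨?_, hvan⟩
    -- degree
    haveI := hirr
    have hnorm := classInner_irr_rep ρ ρ
    rw [if_pos rfl] at hnorm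
    unfold classInner at hnorm
    have hterm : ∀ g : P, ρ.character g * conj (ρ.character g) =
        if g ∈ Subgroup.center P then ((d : ℂ)) ^ 2 else 0 := by
      intro g
      by_cases hg : g ∈ Subgroup.center P
      · rw [if_pos hg]
        have hn : ‖ρ.character g‖ = (d : ℝ) := by
          have := (Cfsg.Agent.Lib.Helper4.norm_character_eq_finrank_iff ρ g).mpr (hsc g hg)
          rw [hfr] at this
          exact this
        rw [Complex.mul_conj, Complex.normSq_eq_norm_sq, hn]
        push_cast; rfl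
      · rw [if_neg hg, hvan g hg, zero_mul]
    simp only [hterm] at hnorm
    rw [Finset.sum_ite, Finset.sum_const_zero, add_zero, Finset.sum_const, nsmul_eq_mul] at hnorm
    have hcnt : (Finset.univ.filter (fun g : P => g ∈ Subgroup.center P)).card = p := by
      rw [← hZcard, Nat.card_eq_fintype_card, Fintype.card_subtype]
    rw [hcnt, hcard] at hnorm
    have hP0 : ((p ^ (2 * n + 1) : ℕ) : ℂ) ≠ 0 := by
      exact_mod_cast (pow_pos hpp.pos _).ne'
    have h3 : (p : ℂ) * (d : ℂ) ^ 2 = ((p ^ (2 * n + 1) : ℕ) : ℂ) := by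
      have := congrArg (fun t => ((p ^ (2 * n + 1) : ℕ) : ℂ) * t) hnorm
      simp only [mul_one] at this
      rw [← this, ← mul_assoc, mul_inv_cancel₀ hP0, one_mul]
    have h4 : p * d ^ 2 = p ^ (2 * n + 1) := by exact_mod_cast h3
    have h5 : d ^ 2 = (p ^ n) ^ 2 := by
      have : p * d ^ 2 = p * (p ^ n) ^ 2 := by rw [h4]; ring
      exact Nat.eq_of_mul_eq_mul_left hpp.pos this
    exact Nat.pow_left_injective (by norm_num : (2:ℕ) ≠ 0) h5

theorem result {P : Type*} [Group P] [Finite P] (p n : ℕ) [Fact p.Prime] (hP : Cfsg.IsExtraspecial p P) (hcard : Nat.card P = p ^ (2 * n + 1)) : (∀ χ : Cfsg.IrrCharacter P, (χ : P → ℂ) 1 = 1 ∨ (χ : P → ℂ) 1 = (p : ℂ) ^ n) ∧ Nat.card {χ : Cfsg.IrrCharacter P // (χ : P → ℂ) 1 = (p : ℂ) ^ n} = p - 1 := by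
  classical
  have : Fintype P := Fintype.ofFinite P
  have : Fintype (IrrCharacter P) := Fintype.ofFinite _
  obtain ⟨⟨hpg, hfr, hcomm⟩, hZcard⟩ := hP
  have hpp : p.Prime := Fact.out
  have hcz : ∀ g x : P, g * x * g⁻¹ * x⁻¹ ∈ Subgroup.center P := by
    intro g x
    rw [← hcomm, commutator_def]
    exact Subgroup.commutator_mem_commutator (Subgroup.mem_top g) (Subgroup.mem_top x)
  -- key per-character facts
  have key : ∀ χ : IrrCharacter P,
      ((χ : P → ℂ) 1 = 1 ∧ ∀ x, (χ : P → ℂ) x * conj ((χ : P → ℂ) x) = 1) ∨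
      ((χ : P → ℂ) 1 = (p : ℂ) ^ n ∧
        ∀ x : P, x ∉ Subgroup.center P → (χ : P → ℂ) x = 0) := by
    intro χ
    obtain ⟨d, ρ, hirr, hχ⟩ := χ.2
    have h1 : (χ : P → ℂ) 1 = d := by rw [← hχ, Representation.char_one]; simp
    rcases dichotomy p n hZcard hcomm hcard ρ hirr with hd | ⟨hd, hv⟩
    · left
      have h11 : (χ : P → ℂ) 1 = 1 := by rw [h1, hd]; simp
      refine ⟨h11, fun x => ?_⟩
      have hc := isCharacter_of_isIrrCharacter χ.2
      rw [isCharacter_conj_eq_inv hc, ← Cfsg.Agent.S0893.lin_mul _ hc h11, mul_inv_cancel, h11]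
    · right
      refine ⟨by rw [h1, hd]; push_cast; rfl, fun x hx => ?_⟩
      rw [← hχ]; exact hv x hx
  refine ⟨fun χ => (key χ).imp (fun h => h.1) (fun h => h.1), ?_⟩
  -- Z ≠ ⊤, pick x₀
  have hZtop : Subgroup.center P ≠ ⊤ := by
    intro h
    have h1 : commutator P = ⊥ := (commutator_eq_bot_iff_center_eq_top P).mpr h
    rw [hcomm] at h1
    have h2 : Nat.card (Subgroup.center P) = 1 := by rw [h1]; exact Subgroup.card_bot
    rw [hZcard] at h2
    exact hpp.one_lt.ne' h2
  obtain ⟨x₀, hx₀⟩ : ∃ x₀ : P, x₀ ∉ Subgroup.center P := by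
    by_contra hcon
    push Not at hcon
    exact hZtop (eq_top_iff.mpr fun x _ => hcon x)
  -- n ≥ 1
  have hn : 1 ≤ n := by
    by_contra h0
    have hn0 : n = 0 := by omega
    subst hn0
    have hcard' : Nat.card P = p := by rw [hcard]; simp
    apply hZtop
    apply Subgroup.eq_top_of_card_eq
    rw [hZcard, hcard']
  have hpn : (p:ℂ) ^ n ≠ 1 := by
    have h1 : p ^ n ≠ 1 := by
      have := Nat.one_lt_pow (by omega : n ≠ 0) hpp.one_lt
      omega
    exact_mod_cast h1
  have hcent : Nat.card (Subgroup.centralizer ({x₀} : Set P)) = p ^ (2 * n) := by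
    have h1 := card_centralizer_of_not_mem_center p hZcard hcz x₀ hx₀
    rw [hcard] at h1
    have h2 : p ^ (2 * n + 1) = p ^ (2 * n) * p := by ring
    rw [h2] at h1
    exact Nat.eq_of_mul_eq_mul_right hpp.pos h1
  -- column orthogonality at x₀
  have hcol := Cfsg.Agent.Lib.Helper4.column_orthogonality (G := P) x₀ x₀
  rw [if_pos (IsConj.refl x₀), hcent] at hcol
  have hterm : ∀ χ : IrrCharacter P, (χ : P → ℂ) x₀ * conj ((χ : P → ℂ) x₀) =
      if (χ : P → ℂ) 1 = (p:ℂ)^n then 0 else 1 := by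
    intro χ
    rcases key χ with ⟨h1, h2⟩ | ⟨h1, h2⟩
    · rw [if_neg (by rw [h1]; exact fun h => hpn h.symm), h2]
    · rw [if_pos h1, h2 x₀ hx₀, zero_mul]
  simp only [hterm] at hcol
  rw [Finset.sum_ite, Finset.sum_const_zero, zero_add, Finset.sum_const, nsmul_eq_mul, mul_one]
    at hcol
  have hsq := Cfsg.Agent.Lib.Helper4.sum_sq_degree (G := P)
  have hterm2 : ∀ χ : IrrCharacter P, (χ : P → ℂ) 1 ^ 2 =
      if (χ : P → ℂ) 1 = (p:ℂ)^n then ((p:ℂ)^n)^2 else 1 := by
    intro χ
    by_cases h : (χ : P → ℂ) 1 = (p:ℂ)^n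
    · rw [if_pos h, h]
    · rw [if_neg h]
      rcases key χ with ⟨h1, _⟩ | ⟨h1, _⟩
      · rw [h1]; ring
      · exact absurd h1 h
  simp only [hterm2] at hsq
  rw [Finset.sum_ite, Finset.sum_const, Finset.sum_const, nsmul_eq_mul, nsmul_eq_mul, mul_one,
    hcard] at hsq
  set M := (Finset.univ.filter (fun χ : IrrCharacter P => (χ : P → ℂ) 1 = (p:ℂ)^n)).card with hM
  set L := (Finset.univ.filter (fun χ : IrrCharacter P => ¬ (χ : P → ℂ) 1 = (p:ℂ)^n)).card
    with hL
  have hLn : L = p ^ (2 * n) := by exact_mod_cast hcol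
  have hMn : M * (p ^ n) ^ 2 + L = p ^ (2 * n + 1) := by exact_mod_cast hsq
  have hfin : M = p - 1 := by
    rw [hLn] at hMn
    have h1 : (p ^ n) ^ 2 = p ^ (2 * n) := by ring
    rw [h1] at hMn
    have h2 : p ^ (2 * n + 1) = p * p ^ (2 * n) := by ring
    rw [h2] at hMn
    have h3 : (M + 1) * p ^ (2 * n) = p * p ^ (2 * n) := by rw [add_mul, one_mul]; exact hMn
    have := Nat.eq_of_mul_eq_mul_right (pow_pos hpp.pos _) h3
    omega
  rw [Nat.card_eq_fintype_card, Fintype.card_subtype, ← hM, hfin]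

end Cfsg.Agent.S0894
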