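import Cfsg.Statements.S0886
import Cfsg.Agent.S0894
import Cfsg.Agent.Lib.Helper4.CharOrtho
import Cfsg.Agent.Lib.Helper26.CharBasic
import Cfsg.Agent.Lib.Helper2.CharConj

set_option autoImplicit false
open Cfsg
open scoped ComplexConjugate

namespace Cfsg.Agent.S0886

open Cfsg.Agent.Lib.Helper26 Cfsg.Agent.Lib.Helper2

/-- Extending a homomorphism from a normal subgroup with cyclic quotient, given a compatible image
for the generator. -/
theorem exists_extension {G U : Type*} [Group G] [Group U] (N : Subgroup G) [hN : N.Normal]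
    (R : N →* U) (M : U) (g₀ : G)
    (hgen : ∀ g : G, ∃ k : ℤ, g * g₀ ^ (-k) ∈ N)
    (hconj : ∀ (k : ℤ) (n : N), M ^ k * R n * M ^ (-k) =
      R ⟨g₀ ^ k * n * (g₀ ^ k)⁻¹, hN.conj_mem (n : G) n.2 (g₀ ^ k)⟩)
    (hper : ∀ (k : ℤ) (hk : g₀ ^ k ∈ N), M ^ k = R ⟨g₀ ^ k, hk⟩) :
    ∃ X : G →* U, ∀ n : N, X n = R n := by
  choose k hk using hgen
  let Xf : G → U := fun g => R ⟨g * g₀ ^ (-k g), hk g⟩ * M ^ (k g)
  have WD : ∀ (n : N) (i : ℤ), Xf ((n : G) * g₀ ^ i) = R n * M ^ i := by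
    intro n i
    set g := (n : G) * g₀ ^ i with hg
    have hmem : g₀ ^ (i - k g) ∈ N := by
      have : g₀ ^ (i - k g) = (n : G)⁻¹ * (g * g₀ ^ (-k g)) := by
        rw [hg, zpow_sub, zpow_neg]; group
      rw [this]
      exact N.mul_mem (N.inv_mem n.2) (hk g)
    have h1 := hper (i - k g) hmem
    have h2 : (⟨g₀ ^ (i - k g), hmem⟩ : N) = n⁻¹ * ⟨g * g₀ ^ (-k g), hk g⟩ := by
      apply Subtype.ext
      simp only [Subgroup.coe_mul, Subgroup.coe_inv]
      rw [hg, zpow_sub, zpow_neg]; group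
    rw [h2, map_mul, map_inv] at h1
    show R ⟨g * g₀ ^ (-k g), hk g⟩ * M ^ (k g) = R n * M ^ i
    have h3 : R ⟨g * g₀ ^ (-k g), hk g⟩ = R n * M ^ (i - k g) := by
      rw [h1]; group
    rw [h3, mul_assoc, ← zpow_add]
    congr 2
    ring
  have hX1 : ∀ n : N, Xf n = R n := by
    intro n
    have := WD n 0
    simpa using this
  have hdecomp : ∀ g : G, g = ((⟨g * g₀ ^ (-k g), hk g⟩ : N) : G) * g₀ ^ (k g) := by
    intro g
    simp only [zpow_neg]
    group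
  refine ⟨MonoidHom.mk' Xf ?_, hX1⟩
  intro a b
  set na : N := ⟨a * g₀ ^ (-k a), hk a⟩ with hna
  set nb : N := ⟨b * g₀ ^ (-k b), hk b⟩ with hnb
  have ha : a = (na : G) * g₀ ^ (k a) := hdecomp a
  have hb : b = (nb : G) * g₀ ^ (k b) := hdecomp b
  set nb' : N := ⟨g₀ ^ (k a) * nb * (g₀ ^ (k a))⁻¹, hN.conj_mem (nb : G) nb.2 (g₀ ^ (k a))⟩
    with hnb'
  have hab : a * b = ((na * nb' : N) : G) * g₀ ^ (k a + k b) := by
    conv_lhs => rw [ha, hb]
    simp only [Subgroup.coe_mul, hnb', zpow_add]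
    group
  have e1 : Xf (a * b) = R (na * nb') * M ^ (k a + k b) := by
    rw [hab]; exact WD _ _
  have e2 : Xf a = R na * M ^ (k a) := rfl
  have e3 : Xf b = R nb * M ^ (k b) := rfl
  rw [e1, e2, e3, map_mul, hnb', ← hconj (k a) nb, zpow_add]
  group

theorem conj_zpow {G U : Type*} [Group G] [Group U] (N : Subgroup G) [hN : N.Normal]
    (R : N →* U) (M : U) (g₀ : G)
    (h1 : ∀ n : N, M * R n * M⁻¹ = R ⟨g₀ * n * g₀⁻¹, hN.conj_mem (n : G) n.2 g₀⟩) :
    ∀ (k : ℤ) (n : N), M ^ k * R n * M ^ (-k) =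
      R ⟨g₀ ^ k * n * (g₀ ^ k)⁻¹, hN.conj_mem (n : G) n.2 (g₀ ^ k)⟩ := by
  let S : Subgroup (G × U) :=
    { carrier := {x | ∀ n : N, x.2 * R n * x.2⁻¹ =
        R ⟨x.1 * n * x.1⁻¹, hN.conj_mem (n : G) n.2 x.1⟩}
      mul_mem' := by
        intro x y hx hy n
        have h3 := hy n
        have h2 := hx ⟨y.1 * n * y.1⁻¹, hN.conj_mem (n : G) n.2 y.1⟩
        show (x * y).2 * R n * (x * y).2⁻¹ = _
        calc (x * y).2 * R n * (x * y).2⁻¹
            = x.2 * (y.2 * R n * y.2⁻¹) * x.2⁻¹ := by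
              simp only [Prod.snd_mul, mul_inv_rev]; group
          _ = x.2 * R ⟨y.1 * n * y.1⁻¹, hN.conj_mem (n : G) n.2 y.1⟩ * x.2⁻¹ := by rw [h3]
          _ = R ⟨x.1 * (y.1 * n * y.1⁻¹) * x.1⁻¹, _⟩ := h2
          _ = _ := by
              congr 1
              apply Subtype.ext
              simp only [Prod.fst_mul, mul_inv_rev]
              group
      one_mem' := by
        intro n
        simp
      inv_mem' := by
        intro x hx n
        have h2 := hx ⟨x.1⁻¹ * n * x.1, by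
          have := hN.conj_mem (n : G) n.2 x.1⁻¹
          simpa using this⟩
        have h3 : (⟨x.1 * ((⟨x.1⁻¹ * n * x.1, by
          have := hN.conj_mem (n : G) n.2 x.1⁻¹
          simpa using this⟩ : N) : G) * x.1⁻¹, hN.conj_mem _ (by
          have := hN.conj_mem (n : G) n.2 x.1⁻¹
          simpa using this) x.1⟩ : N) = n := by
          apply Subtype.ext
          simp only
          group
        rw [h3] at h2
        show x⁻¹.2 * R n * x⁻¹.2⁻¹ = R ⟨x⁻¹.1 * n * x⁻¹.1⁻¹, _⟩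
        have h4 : R ⟨x⁻¹.1 * n * x⁻¹.1⁻¹, hN.conj_mem (n : G) n.2 x⁻¹.1⟩ =
            R ⟨x.1⁻¹ * n * x.1, by
              have := hN.conj_mem (n : G) n.2 x.1⁻¹
              simpa using this⟩ := by
          congr 1
          apply Subtype.ext
          simp
        rw [h4, ← h2]
        simp only [Prod.snd_inv, inv_inv]
        group }
  intro k n
  have hmem : ((g₀, M) : G × U) ∈ S := h1
  have h2 := S.zpow_mem hmem k n
  have h3 : (((g₀, M) : G × U) ^ k) = (g₀ ^ k, M ^ k) := by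
    ext <;> simp
  rw [zpow_neg]
  simp only [h3] at h2
  exact h2

theorem irreducible_of_restrict {G : Type*} [Group G] (N : Subgroup G) {V : Type*}
    [AddCommGroup V] [Module ℂ V] (X : Representation ℂ G V) (ρ : Representation ℂ N V)
    (hX : ∀ n : N, X n = ρ n) (hirr : ρ.IsIrreducible) : X.IsIrreducible := by
  have := hirr
  refine { exists_pair_ne := ?_, eq_bot_or_eq_top := ?_ }
  · refine ⟨⊥, ⊤, fun h => ?_⟩
    have h' : (⊥ : Subrepresentation ρ) = ⊤ := by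
      apply Subrepresentation.toSubmodule_injective
      have h2 := congrArg Subrepresentation.toSubmodule h
      exact h2
    exact bot_ne_top h'
  · intro W
    let W' : Subrepresentation ρ := ⟨W.toSubmodule, fun n v hv => by
      rw [← hX]; exact W.apply_mem_toSubmodule n hv⟩
    rcases eq_bot_or_eq_top W' with h | h
    · left
      apply Subrepresentation.toSubmodule_injective
      have h2 := congrArg Subrepresentation.toSubmodule h
      exact h2
    · right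
      apply Subrepresentation.toSubmodule_injective
      have h2 := congrArg Subrepresentation.toSubmodule h
      exact h2

theorem exists_rep_extension {G : Type*} [Group G] [Fintype G] (N : Subgroup G) [hN : N.Normal]
    [Fintype N]
    {V : Type*} [AddCommGroup V] [Module ℂ V] [FiniteDimensional ℂ V]
    (ρ : Representation ℂ N V) (hirr : ρ.IsIrreducible)
    (g₀ : G) (hgen : ∀ g : G, ∃ k : ℤ, g * g₀ ^ (-k) ∈ N)
    (hinv : ∀ n : N, ρ.character ⟨g₀ * n * g₀⁻¹, hN.conj_mem (n : G) n.2 g₀⟩ = ρ.character n) :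
    ∃ X : Representation ℂ G V, ∀ n : N, X n = ρ n := by
  classical
  have := hirr
  let c₀ : N ≃* N := MulAut.conjNormal g₀
  have hc₀ : ∀ n : N, c₀ n = ⟨g₀ * n * g₀⁻¹, hN.conj_mem (n : G) n.2 g₀⟩ := fun n =>
    Subtype.ext (MulAut.conjNormal_apply g₀ n)
  let σ : Representation ℂ N V := MonoidHom.comp ρ c₀.toMonoidHom
  have hσirr : σ.IsIrreducible :=
    isIrreducible_comp_of_surjective ρ c₀.toMonoidHom c₀.surjective hirr
  have hchar : σ.character = ρ.character := by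
    funext n
    show LinearMap.trace ℂ V (ρ (c₀ n)) = _
    rw [hc₀ n]; exact hinv n
  obtain ⟨φ⟩ := Cfsg.Agent.Lib.Helper4.equiv_of_character_eq σ ρ hσirr hirr hchar
  let e : V ≃ₗ[ℂ] V := φ.toLinearEquiv
  have he : ∀ (n : N) (v : V), e (ρ n v) = ρ (c₀ n) (e v) := by
    intro n v
    have := LinearMap.congr_fun (φ.isIntertwining' n) v
    exact this
  let R : N →* (Module.End ℂ V)ˣ := MonoidHom.toHomUnits ρ
  have hR : ∀ n, ((R n : (Module.End ℂ V)ˣ) : Module.End ℂ V) = ρ n := fun n => rfl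
  let M₀ : (Module.End ℂ V)ˣ :=
    ⟨e.toLinearMap, e.symm.toLinearMap, by ext v; simp, by ext v; simp⟩
  have hM₀ : ∀ v, (M₀ : Module.End ℂ V) v = e v := fun v => rfl
  have hconj0 : ∀ n : N, M₀ * R n * M₀⁻¹ =
      R ⟨g₀ * n * g₀⁻¹, hN.conj_mem (n : G) n.2 g₀⟩ := by
    intro n
    rw [mul_inv_eq_iff_eq_mul]
    apply Units.ext
    ext v
    simp only [Units.val_mul, Module.End.mul_apply, hR, hM₀]
    rw [he, hc₀]
  obtain ⟨m, hmpos, hm⟩ : ∃ m : ℕ, 0 < m ∧ ∀ k : ℤ, g₀ ^ k ∈ N ↔ (m : ℤ) ∣ k := by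
    refine ⟨orderOf (g₀ : G ⧸ N), orderOf_pos _, fun k => ?_⟩
    rw [orderOf_dvd_iff_zpow_eq_one, ← QuotientGroup.mk_zpow, QuotientGroup.eq_one_iff]
  have hmN : g₀ ^ (m : ℤ) ∈ N := (hm m).mpr dvd_rfl
  let h : N := ⟨g₀ ^ (m : ℤ), hmN⟩
  let T : (Module.End ℂ V)ˣ := (R h)⁻¹ * M₀ ^ (m : ℤ)
  have hconjm := conj_zpow N R M₀ g₀ hconj0 (m : ℤ)
  have hTcomm : ∀ n : N, T * R n = R n * T := by
    intro n
    have h1 := hconjm n
    have h2 : (⟨g₀ ^ (m : ℤ) * n * (g₀ ^ (m : ℤ))⁻¹,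
        hN.conj_mem (n : G) n.2 (g₀ ^ (m : ℤ))⟩ : N) = h * n * h⁻¹ := by
      apply Subtype.ext; simp [h]
    rw [h2, map_mul, map_mul, map_inv] at h1
    show (R h)⁻¹ * M₀ ^ (m : ℤ) * R n = R n * ((R h)⁻¹ * M₀ ^ (m : ℤ))
    have h3 : M₀ ^ (m : ℤ) * R n = R h * R n * (R h)⁻¹ * M₀ ^ (m : ℤ) := by
      rw [← h1, zpow_neg]; group
    rw [mul_assoc, h3]; group
  obtain ⟨c, hc⟩ := Cfsg.Agent.S0894.schur_scalar ρ hirr (T : Module.End ℂ V) (by
    intro n v
    have := congrArg (fun u : (Module.End ℂ V)ˣ => (u : Module.End ℂ V) v) (hTcomm n)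
    simpa [Units.val_mul, hR] using this)
  have hc0 : c ≠ 0 := by
    rintro rfl
    have hd := Cfsg.Agent.Lib.Helper4.finrank_ne_zero_of_irreducible ρ hirr
    have hpos : 0 < Module.finrank ℂ V := Nat.pos_of_ne_zero (by exact_mod_cast hd)
    have : Nontrivial V := Module.finrank_pos_iff.mp hpos
    obtain ⟨v, hv⟩ := exists_ne (0 : V)
    have h1 : ((T⁻¹ * T : (Module.End ℂ V)ˣ) : Module.End ℂ V) v = v := by simp
    rw [Units.val_mul, Module.End.mul_apply, hc] at h1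
    simp at h1
    exact hv h1.symm
  obtain ⟨a, ha⟩ := IsAlgClosed.exists_pow_nat_eq c hmpos
  have ha0 : a ≠ 0 := by
    rintro rfl
    rw [zero_pow hmpos.ne'] at ha
    exact hc0 ha.symm
  let sc : ℂˣ →* (Module.End ℂ V)ˣ :=
    Units.map (algebraMap ℂ (Module.End ℂ V) : ℂ →* Module.End ℂ V)
  have hsc_comm : ∀ (t : ℂˣ) (u : (Module.End ℂ V)ˣ), sc t * u = u * sc t := by
    intro t u
    apply Units.ext
    simp only [Units.val_mul]
    exact Algebra.commutes (t : ℂ) (u : Module.End ℂ V)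
  have hTsc : T = sc (Units.mk0 c hc0) := by
    apply Units.ext
    rw [hc]
    ext v
    simp [sc, Module.algebraMap_end_apply]
  let t : ℂˣ := (Units.mk0 a ha0)⁻¹
  let M : (Module.End ℂ V)ˣ := sc t * M₀
  have hconj1 : ∀ n : N, M * R n * M⁻¹ =
      R ⟨g₀ * n * g₀⁻¹, hN.conj_mem (n : G) n.2 g₀⟩ := by
    intro n
    rw [← hconj0 n]
    calc sc t * M₀ * R n * (sc t * M₀)⁻¹
        = sc t * (M₀ * R n * M₀⁻¹) * (sc t)⁻¹ := by group
      _ = (M₀ * R n * M₀⁻¹) * sc t * (sc t)⁻¹ := by rw [hsc_comm t]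
      _ = M₀ * R n * M₀⁻¹ := by group
  have hMm : M ^ (m : ℤ) = R h := by
    have h1 : M ^ (m : ℤ) = (sc t) ^ (m : ℤ) * M₀ ^ (m : ℤ) :=
      Commute.mul_zpow (hsc_comm t M₀) (m : ℤ)
    have h2 : M₀ ^ (m : ℤ) = R h * T := by
      show M₀ ^ (m : ℤ) = R h * ((R h)⁻¹ * M₀ ^ (m : ℤ))
      group
    have h3 : t ^ (m : ℤ) * Units.mk0 c hc0 = 1 := by
      apply Units.ext
      simp only [Units.val_mul, Units.val_one, t, zpow_natCast, inv_pow, Units.val_inv_eq_inv_val,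
        Units.val_pow_eq_pow_val, Units.val_mk0]
      rw [ha]
      exact inv_mul_cancel₀ hc0
    rw [h1, h2, hTsc, ← map_zpow, hsc_comm, mul_assoc, ← map_mul, mul_comm, h3, map_one, mul_one]
  have hper : ∀ (k : ℤ) (hk : g₀ ^ k ∈ N), M ^ k = R ⟨g₀ ^ k, hk⟩ := by
    intro k hk
    obtain ⟨j, rfl⟩ := (hm k).mp hk
    rw [zpow_mul, hMm, ← map_zpow]
    congr 1
    apply Subtype.ext
    simp [h, zpow_mul]
  obtain ⟨X, hX⟩ := exists_extension N R M g₀ hgen (conj_zpow N R M g₀ hconj1) hper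
  refine ⟨(Units.coeHom (Module.End ℂ V)).comp X, fun n => ?_⟩
  show ((X n : (Module.End ℂ V)ˣ) : Module.End ℂ V) = ρ n
  rw [hX n]
  exact hR n

theorem result {G : Type*} [Group G] [Finite G] (N : Subgroup G) [hN : N.Normal] (hcyc : IsCyclic (G ⧸ N)) (ϑ : N → ℂ) (hϑ : Cfsg.IsIrrCharacter N ϑ) (hinv : ∀ (g : G) (n : N), ϑ ⟨g * n * g⁻¹, hN.conj_mem (n : G) n.2 g⟩ = ϑ n) : ∃ χ : G → ℂ, Cfsg.IsIrrCharacter G χ ∧ ∀ n : N, χ n = ϑ n := by
  classical
  have : Fintype G := Fintype.ofFinite G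
  obtain ⟨d, ρ, hirr, hρ⟩ := hϑ
  obtain ⟨q, hq⟩ := hcyc.exists_generator
  obtain ⟨g₀, rfl⟩ := QuotientGroup.mk_surjective q
  have hgen : ∀ g : G, ∃ k : ℤ, g * g₀ ^ (-k) ∈ N := by
    intro g
    obtain ⟨k, hk⟩ := Subgroup.mem_zpowers_iff.mp (hq (g : G ⧸ N))
    refine ⟨k, ?_⟩
    have h1 : ((g₀ ^ k : G) : G ⧸ N) = (g : G ⧸ N) := by
      rw [QuotientGroup.mk_zpow]; exact hk
    have h2 : (g₀ ^ k)⁻¹ * g ∈ N := QuotientGroup.eq.mp h1
    have h3 : g * g₀ ^ (-k) = g * ((g₀ ^ k)⁻¹ * g) * g⁻¹ := by rw [zpow_neg]; group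
    rw [h3]; exact hN.conj_mem _ h2 g
  obtain ⟨X, hX⟩ := exists_rep_extension N ρ hirr g₀ hgen (by
    intro n
    rw [hρ]; exact hinv g₀ n)
  refine ⟨X.character, ⟨d, X, irreducible_of_restrict N X ρ hX hirr, rfl⟩, fun n => ?_⟩
  rw [← hρ]
  show LinearMap.trace ℂ _ (X n) = LinearMap.trace ℂ _ (ρ n)
  rw [hX n]

end Cfsg.Agent.S0886
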