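import Cfsg.Statements.S0887
import Cfsg.Agent.Lib.Helper7.ProjDecomp
import Cfsg.Agent.Lib.Helper7.CliffordCorr
import Cfsg.Agent.Lib.Helper26.TIInd
import Cfsg.Agent.S0169
import Cfsg.Agent.S0854

set_option autoImplicit false
open Cfsg

namespace Cfsg.Agent.S0887

open Cfsg.Agent.Lib.Helper7 Cfsg.Agent.Lib.Helper26 Cfsg.Agent.Lib.Helper2

/-- relative version of `ram_dvd_index` -/
theorem ram_dvd_relIndex {G : Type*} [Group G] [Fintype G] (H : Subgroup G) [hN : H.Normal]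
    (T : Subgroup G) (hHT : H ≤ T) (ϑ : H → ℂ) (hϑ : IsIrrCharacter H ϑ)
    (hinvT : ∀ t ∈ T, ∀ n : H, ϑ ⟨t * n * t⁻¹, hN.conj_mem (n : G) n.2 t⟩ = ϑ n)
    (ψ : T → ℂ) (hψ : IsIrrCharacter T ψ) (f : ℕ) (hf0 : f ≠ 0)
    (hf : ∀ n : H, ψ ⟨(n : G), hHT n.2⟩ = (f : ℂ) * ϑ n) : f ∣ H.relIndex T := by
  classical
  have : Fintype T := Fintype.ofFinite _
  let H' : Subgroup T := H.subgroupOf T
  haveI hH'n : H'.Normal := Subgroup.normal_subgroupOf
  let e : H' ≃* H := Subgroup.subgroupOfEquivOfLe hHT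
  have he : ∀ x : H', ((e x : H) : G) = ((x : T) : G) := fun x => rfl
  let ϑ' : H' → ℂ := ϑ ∘ e
  have hϑ' : IsIrrCharacter H' ϑ' := isIrrCharacter_comp_mulEquiv hϑ e
  have hinv' : ∀ (t : T) (x : H'),
      ϑ' ⟨t * x * t⁻¹, hH'n.conj_mem (x : T) x.2 t⟩ = ϑ' x := by
    intro t x
    have h1 := hinvT (t : G) t.2 (e x)
    show ϑ (e ⟨t * x * t⁻¹, hH'n.conj_mem (x : T) x.2 t⟩) = ϑ (e x)
    rw [← h1]
    congr 1
  have hres : ∀ x : H', ψ x = (f : ℂ) * ϑ' x := by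
    intro x
    have h1 := hf (e x)
    show ψ x = (f : ℂ) * ϑ (e x)
    rw [← h1]
    congr 1
  exact ram_dvd_index H' ψ hψ ϑ' hϑ' hinv' f hf0 hres

/-- Let N be a normal subgroup of the finite group G, χ an irreducible character of G and ϑ an irreducible character of N having nonzero inner product with the restriction of χ. If χ 1 = c and ϑ 1 = d as natural numbers, then d divides c and c / d divides the index of N. -/
theorem result {G : Type*} [Group G] [Fintype G] (N : Subgroup G) [N.Normal] [Fintype N] (χ : G → ℂ) (hχ : Cfsg.IsIrrCharacter G χ) (ϑ : N → ℂ) (hϑ : Cfsg.IsIrrCharacter N ϑ) (hcon : Cfsg.classInner (fun n : N => χ n) ϑ ≠ 0) (c d : ℕ) (hc : χ 1 = c) (hd : ϑ 1 = d) : d ∣ c ∧ c / d ∣ N.index := by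
  classical
  have hN : N.Normal := inferInstance
  have hϑcf : IsClassFunction N ϑ := isClassFunction_of_isIrrCharacter hϑ
  set T := Cfsg.Agent.S0169.inertia N ϑ with hTdef
  have : Fintype T := Fintype.ofFinite T
  have hNT : N ≤ T := Cfsg.Agent.S0169.le_inertia N ϑ hϑcf
  obtain ⟨ψ, hψ, hind, he⟩ := Cfsg.Agent.S0854.result N ϑ hϑ T (Cfsg.Agent.S0169.mem_inertia N ϑ)
    hNT χ hχ hcon
  have hinvT : ∀ t ∈ T, ∀ n : N, ϑ ⟨t * n * t⁻¹, hN.conj_mem (n : G) n.2 t⟩ = ϑ n :=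
    fun t ht => (Cfsg.Agent.S0169.mem_inertia N ϑ t).mp ht
  obtain ⟨f, hf0, hf⟩ := restrict_inertia N T hNT ϑ hϑ hinvT ψ hψ (by rw [he]; exact hcon)
  have hfn : ∀ n : N, ψ ⟨(n : G), hNT n.2⟩ = (f : ℂ) * ϑ n := by
    intro n
    have := congrFun hf n
    simpa using this
  have hdvd : f ∣ N.relIndex T := ram_dvd_relIndex N T hNT ϑ hϑ hinvT ψ hψ f hf0 hfn
  have hψ1 : ψ 1 = (f : ℂ) * d := by
    have := hfn 1
    rw [hd] at this
    rw [← this]
    congr 1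
  have hχ1 : χ 1 = (T.index : ℂ) * ((f : ℂ) * d) := by
    rw [← hind, indFun_one, hψ1, ← mul_assoc]
    congr 1
    have h1 : Nat.card T * T.index = Nat.card G := Subgroup.card_mul_index T
    have h2 : (Nat.card T : ℂ) ≠ 0 := Nat.cast_ne_zero.mpr Nat.card_pos.ne'
    rw [← Nat.card_eq_fintype_card, ← h1]
    push_cast
    field_simp
  have hcn : c = T.index * (f * d) := by
    have : (c : ℂ) = ((T.index * (f * d) : ℕ) : ℂ) := by
      rw [← hc, hχ1]; push_cast; ring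
    exact_mod_cast this
  obtain ⟨d', hd'pos, hd'⟩ := irr_degree hϑ
  have hdd : d = d' := by
    have : (d : ℂ) = (d' : ℂ) := by rw [← hd, hd']
    exact_mod_cast this
  have hdpos : 0 < d := hdd ▸ hd'pos
  refine ⟨⟨T.index * f, by rw [hcn]; ring⟩, ?_⟩
  have h3 : c / d = T.index * f := by
    rw [hcn, ← mul_assoc]
    exact Nat.mul_div_cancel _ hdpos
  rw [h3, ← Subgroup.relIndex_mul_index hNT, mul_comm]
  exact mul_dvd_mul hdvd dvd_rfl

end Cfsg.Agent.S0887
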