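import Cfsg.Statements.S0161
import Cfsg.Agent.Lib.Helper4.CharOrtho
import Cfsg.Agent.Lib.Helper4.CharIntegral
import Cfsg.Agent.Lib.Helper4.RepEigen
import Cfsg.Agent.Lib.Helper4.BurnsideClass

set_option autoImplicit false
open Cfsg

namespace Cfsg.Agent.S0161

open Cfsg.Agent.Lib.Helper4
open scoped ComplexConjugate

/-- In a group of odd order, a function invariant under inversion sums over the
non-identity elements to twice a sum over a half-system. -/
theorem sum_eq_two_mul_half {G : Type*} [Group G] [Fintype G] (hodd : Odd (Nat.card G))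
    (f : G → ℂ) (hf : ∀ g, f g⁻¹ = f g) :
    ∃ S : Finset G, ∑ g : G, f g = f 1 + 2 * ∑ g ∈ S, f g := by
  classical
  let e : G ≃ Fin (Fintype.card G) := Fintype.equivFin G
  have hne : ∀ g : G, g ≠ 1 → g⁻¹ ≠ g := by
    intro g hg h
    have h2 : g ^ 2 = 1 := by
      rw [pow_two]
      calc g * g = g⁻¹ * g := by rw [h]
        _ = 1 := inv_mul_cancel g
    have hdvd : orderOf g ∣ 2 := orderOf_dvd_of_pow_eq_one h2
    have hdvd' : orderOf g ∣ Nat.card G := orderOf_dvd_natCard g
    have hcop : Nat.Coprime 2 (Nat.card G) := (Nat.coprime_two_left).mpr hodd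
    have h1 : orderOf g ∣ 1 := by
      have := Nat.dvd_gcd hdvd hdvd'
      rwa [hcop] at this
    apply hg
    exact orderOf_eq_one_iff.mp (Nat.dvd_one.mp h1)
  let S : Finset G := Finset.univ.filter (fun g => e g < e g⁻¹)
  let T : Finset G := Finset.univ.filter (fun g => e g⁻¹ < e g)
  refine ⟨S, ?_⟩
  have hST : Disjoint S T := by
    rw [Finset.disjoint_left]
    intro g hgS hgT
    simp only [S, T, Finset.mem_filter, Finset.mem_univ, true_and] at hgS hgT
    exact lt_asymm hgS hgT
  have h1S : (1 : G) ∉ S ∪ T := by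
    simp [S, T]
  have huniv : (Finset.univ : Finset G) = insert 1 (S ∪ T) := by
    ext g
    simp only [Finset.mem_univ, Finset.mem_insert, Finset.mem_union, true_iff, S, T,
      Finset.mem_filter, true_and]
    by_cases hg : g = 1
    · left; exact hg
    · right
      have : e g ≠ e g⁻¹ := fun h => hne g hg (e.injective h).symm
      exact lt_or_gt_of_ne this
  have hT : ∑ g ∈ T, f g = ∑ g ∈ S, f g := by
    apply Finset.sum_bij (fun g _ => g⁻¹)
    · intro g hg
      simp only [S, T, Finset.mem_filter, Finset.mem_univ, true_and, inv_inv] at hg ⊢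
      exact hg
    · intro a _ b _ h
      exact inv_injective h
    · intro b hb
      refine ⟨b⁻¹, ?_, inv_inv b⟩
      simp only [S, T, Finset.mem_filter, Finset.mem_univ, true_and, inv_inv] at hb ⊢
      exact hb
    · intro g _
      exact (hf g).symm
  rw [huniv, Finset.sum_insert h1S, Finset.sum_union hST, hT]
  ring

/-- In a finite group of odd order, a real-valued irreducible complex character is the trivial character. -/
theorem result {G : Type*} [Group G] [Finite G] (hodd : Odd (Nat.card G)) (χ : Cfsg.IrrCharacter G) (hreal : ∀ g : G, ((χ : G → ℂ) g).im = 0) : (χ : G → ℂ) = fun _ => 1 := by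
  classical
  have : Fintype G := Fintype.ofFinite G
  by_contra hne
  let one : Cfsg.IrrCharacter G := ⟨fun _ => 1, isIrrCharacter_one⟩
  have hne' : χ ≠ one := fun h => hne (congrArg Subtype.val h)
  have horth := classInner_irr χ one
  rw [if_neg hne'] at horth
  obtain ⟨n, ρ, hρ, hρχ⟩ := χ.2
  have hsum : ∑ g : G, (χ : G → ℂ) g = 0 := by
    unfold Cfsg.classInner at horth
    have h1 : ∑ g : G, (χ : G → ℂ) g * conj ((one : G → ℂ) g) = 0 := by
      rcases mul_eq_zero.mp horth with h | h
      · exact absurd (inv_eq_zero.mp h) card_ne_zero_complex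
      · exact h
    simpa [one] using h1
  have hinv : ∀ g : G, (χ : G → ℂ) g⁻¹ = (χ : G → ℂ) g := by
    intro g
    rw [← hρχ, character_inv ρ g]
    apply Complex.conj_eq_iff_im.mpr
    rw [hρχ]; exact hreal g
  obtain ⟨S, hS⟩ := sum_eq_two_mul_half hodd (χ : G → ℂ) hinv
  rw [hsum] at hS
  -- degree
  have hdeg : (χ : G → ℂ) 1 = (Module.finrank ℂ (Fin n → ℂ) : ℂ) := by
    rw [← hρχ]; exact Representation.char_one ρ
  have hdvd := degree_dvd_card ρ hρ
  set d := Module.finrank ℂ (Fin n → ℂ) with hd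
  -- α := Σ_S χ is an algebraic integer with d = -2α
  have hα : IsIntegral ℤ (∑ g ∈ S, (χ : G → ℂ) g) := by
    refine IsIntegral.sum _ fun g _ => ?_
    rw [← hρχ]; exact character_isIntegral ρ g
  have hα2 : (∑ g ∈ S, (χ : G → ℂ) g) = algebraMap ℚ ℂ (-(d : ℚ) / 2) := by
    have : (d : ℂ) + 2 * ∑ g ∈ S, (χ : G → ℂ) g = 0 := by rw [← hdeg]; exact hS.symm
    have h2 : (∑ g ∈ S, (χ : G → ℂ) g) = -(d : ℂ) / 2 := by
      field_simp
      linear_combination this
    rw [h2]; simp
  rw [hα2, isIntegral_algebraMap_iff (algebraMap ℚ ℂ).injective] at hα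
  obtain ⟨z, hz⟩ := IsIntegrallyClosed.isIntegral_iff.mp hα
  have hz' : (z : ℚ) = -(d : ℚ) / 2 := hz
  have h3 : (d : ℤ) = -2 * z := by
    have : (d : ℚ) = -2 * (z : ℚ) := by rw [hz']; ring
    exact_mod_cast this
  have heven : 2 ∣ d := by
    have : (2 : ℤ) ∣ (d : ℤ) := ⟨-z, by rw [h3]; ring⟩
    exact_mod_cast this
  have h2card : 2 ∣ Nat.card G := heven.trans hdvd
  exact (Nat.not_even_iff_odd.mpr hodd) (even_iff_two_dvd.mpr h2card)

end Cfsg.Agent.S0161
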