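import Cfsg.Statements.S0162
import Cfsg.Agent.S0161
import Cfsg.Agent.Lib.Helper28.DualRep
import Cfsg.Agent.Lib.Helper4.CharOrtho
import Cfsg.Agent.Lib.Helper4.CharIntegral

set_option autoImplicit false
open Cfsg

namespace Cfsg.Agent.S0162

open Cfsg.Agent.Lib.Helper4 Cfsg.Agent.Lib.Helper28
open scoped ComplexConjugate

theorem zmod16_aux : ∀ x : ZMod 16, x * 8 = 8 → (x ^ 2 - 1) + (x ^ 2 - 1) = 0 := by decide

/-- the degree of an irreducible character, as a natural number -/
theorem exists_degree {G : Type*} [Group G] [Fintype G] (χ : Cfsg.IrrCharacter G) :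
    ∃ d : ℕ, (χ : G → ℂ) 1 = d ∧ d ∣ Nat.card G := by
  obtain ⟨n, ρ, hρ, hρχ⟩ := χ.2
  refine ⟨Module.finrank ℂ (Fin n → ℂ), ?_, degree_dvd_card ρ hρ⟩
  rw [← hρχ]; exact Representation.char_one ρ

/-- In a finite group of odd order, the order of the group and the number of its conjugacy classes are congruent modulo 16. -/
theorem result {G : Type*} [Group G] [Finite G] (hodd : Odd (Nat.card G)) : Nat.card G ≡ Nat.card (ConjClasses G) [MOD 16] := by
  classical
  have : Fintype G := Fintype.ofFinite G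
  have : Fintype (Cfsg.IrrCharacter G) := Fintype.ofFinite _
  choose deg hdeg hdvd using (exists_degree (G := G))
  have hdegodd : ∀ χ, Odd (deg χ) := fun χ => Odd.of_dvd_nat hodd (hdvd χ)
  have hsum : ∑ χ : Cfsg.IrrCharacter G, (deg χ) ^ 2 = Nat.card G := by
    have h := sum_sq_degree (G := G)
    simp only [hdeg] at h
    exact_mod_cast h
  have hk : ∑ _χ : Cfsg.IrrCharacter G, 1 = Nat.card (ConjClasses G) := by
    rw [← card_irr_eq_card_conjClasses, Nat.card_eq_fintype_card]
    simp
  have hdegconj : ∀ χ, deg (irrConj χ) = deg χ := by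
    intro χ
    have h1 : ((deg (irrConj χ) : ℕ) : ℂ) = (deg χ : ℂ) := by
      rw [← hdeg, irrConj_apply, hdeg, Complex.conj_natCast]
    exact_mod_cast h1
  have hfix : ∀ χ : Cfsg.IrrCharacter G, irrConj χ = χ → deg χ = 1 := by
    intro χ h
    have hreal : ∀ g : G, ((χ : G → ℂ) g).im = 0 := by
      intro g
      have h1 : conj ((χ : G → ℂ) g) = (χ : G → ℂ) g := by
        conv_rhs => rw [← h]
        rfl
      exact Complex.conj_eq_iff_im.mp h1
    have h1 := Cfsg.Agent.S0161.result hodd χ hreal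
    have h2 : ((deg χ : ℕ) : ℂ) = 1 := by rw [← hdeg, h1]
    exact_mod_cast h2
  -- the key vanishing sum in ZMod 16
  have hz : ∑ χ : Cfsg.IrrCharacter G, (((deg χ : ℕ) : ZMod 16) ^ 2 - 1) = 0 := by
    refine Finset.sum_involution (fun χ _ => irrConj χ) ?_ ?_ (fun χ _ => Finset.mem_univ _)
      (fun χ _ => irrConj_irrConj χ)
    · intro χ _
      rw [hdegconj]
      apply zmod16_aux
      obtain ⟨m, hm⟩ := hdegodd χ
      rw [hm]
      push_cast
      have : (2 * (m : ZMod 16) + 1) * 8 = 16 * m + 8 := by ring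
      rw [this]
      have h16 : (16 : ZMod 16) = 0 := by decide
      rw [h16, zero_mul, zero_add]
    · intro χ _ hne h
      apply hne
      rw [hfix χ h]
      simp
  rw [← ZMod.natCast_eq_natCast_iff, ← hsum, ← hk]
  push_cast
  rw [← sub_eq_zero, ← Finset.sum_sub_distrib]
  exact hz

end Cfsg.Agent.S0162
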