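import Cfsg.Statements.S0493
import Mathlib
import Cfsg.Agent.Lib.Helper9.SimpleTools
import Cfsg.Agent.Lib.Helper24.IndexTwo
import Cfsg.Agent.Lib.Helper4.BurnsidePQ
-- import your own Cfsg.Agent.* helpers here

set_option autoImplicit false
open Cfsg

namespace Cfsg.Agent.S0493

theorem pq_form : ∀ n : ℕ, 1 ≤ n → n ≤ 100 → n ≠ 30 → n ≠ 42 → n ≠ 60 → n ≠ 66 → n ≠ 70 → n ≠ 78 → n ≠ 84 → n ≠ 90 →
    ∃ p q a b : ℕ, p.Prime ∧ q.Prime ∧ n = p ^ a * q ^ b := by
  intro n h1 h2 e30 e42 e60 e66 e70 e78 e84 e90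
  interval_cases n
  · exact ⟨2, 3, 0, 0, by norm_num, by norm_num, by norm_num⟩
  · exact ⟨2, 3, 1, 0, by norm_num, by norm_num, by norm_num⟩
  · exact ⟨3, 2, 1, 0, by norm_num, by norm_num, by norm_num⟩
  · exact ⟨2, 3, 2, 0, by norm_num, by norm_num, by norm_num⟩
  · exact ⟨5, 3, 1, 0, by norm_num, by norm_num, by norm_num⟩
  · exact ⟨2, 3, 1, 1, by norm_num, by norm_num, by norm_num⟩
  · exact ⟨7, 3, 1, 0, by norm_num, by norm_num, by norm_num⟩
  · exact ⟨2, 3, 3, 0, by norm_num, by norm_num, by norm_num⟩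
  · exact ⟨3, 2, 2, 0, by norm_num, by norm_num, by norm_num⟩
  · exact ⟨2, 5, 1, 1, by norm_num, by norm_num, by norm_num⟩
  · exact ⟨11, 3, 1, 0, by norm_num, by norm_num, by norm_num⟩
  · exact ⟨2, 3, 2, 1, by norm_num, by norm_num, by norm_num⟩
  · exact ⟨13, 3, 1, 0, by norm_num, by norm_num, by norm_num⟩
  · exact ⟨2, 7, 1, 1, by norm_num, by norm_num, by norm_num⟩
  · exact ⟨3, 5, 1, 1, by norm_num, by norm_num, by norm_num⟩
  · exact ⟨2, 3, 4, 0, by norm_num, by norm_num, by norm_num⟩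
  · exact ⟨17, 3, 1, 0, by norm_num, by norm_num, by norm_num⟩
  · exact ⟨2, 3, 1, 2, by norm_num, by norm_num, by norm_num⟩
  · exact ⟨19, 3, 1, 0, by norm_num, by norm_num, by norm_num⟩
  · exact ⟨2, 5, 2, 1, by norm_num, by norm_num, by norm_num⟩
  · exact ⟨3, 7, 1, 1, by norm_num, by norm_num, by norm_num⟩
  · exact ⟨2, 11, 1, 1, by norm_num, by norm_num, by norm_num⟩
  · exact ⟨23, 3, 1, 0, by norm_num, by norm_num, by norm_num⟩
  · exact ⟨2, 3, 3, 1, by norm_num, by norm_num, by norm_num⟩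
  · exact ⟨5, 3, 2, 0, by norm_num, by norm_num, by norm_num⟩
  · exact ⟨2, 13, 1, 1, by norm_num, by norm_num, by norm_num⟩
  · exact ⟨3, 2, 3, 0, by norm_num, by norm_num, by norm_num⟩
  · exact ⟨2, 7, 2, 1, by norm_num, by norm_num, by norm_num⟩
  · exact ⟨29, 3, 1, 0, by norm_num, by norm_num, by norm_num⟩
  · exact absurd rfl e30
  · exact ⟨31, 3, 1, 0, by norm_num, by norm_num, by norm_num⟩
  · exact ⟨2, 3, 5, 0, by norm_num, by norm_num, by norm_num⟩
  · exact ⟨3, 11, 1, 1, by norm_num, by norm_num, by norm_num⟩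
  · exact ⟨2, 17, 1, 1, by norm_num, by norm_num, by norm_num⟩
  · exact ⟨5, 7, 1, 1, by norm_num, by norm_num, by norm_num⟩
  · exact ⟨2, 3, 2, 2, by norm_num, by norm_num, by norm_num⟩
  · exact ⟨37, 3, 1, 0, by norm_num, by norm_num, by norm_num⟩
  · exact ⟨2, 19, 1, 1, by norm_num, by norm_num, by norm_num⟩
  · exact ⟨3, 13, 1, 1, by norm_num, by norm_num, by norm_num⟩
  · exact ⟨2, 5, 3, 1, by norm_num, by norm_num, by norm_num⟩
  · exact ⟨41, 3, 1, 0, by norm_num, by norm_num, by norm_num⟩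
  · exact absurd rfl e42
  · exact ⟨43, 3, 1, 0, by norm_num, by norm_num, by norm_num⟩
  · exact ⟨2, 11, 2, 1, by norm_num, by norm_num, by norm_num⟩
  · exact ⟨3, 5, 2, 1, by norm_num, by norm_num, by norm_num⟩
  · exact ⟨2, 23, 1, 1, by norm_num, by norm_num, by norm_num⟩
  · exact ⟨47, 3, 1, 0, by norm_num, by norm_num, by norm_num⟩
  · exact ⟨2, 3, 4, 1, by norm_num, by norm_num, by norm_num⟩
  · exact ⟨7, 3, 2, 0, by norm_num, by norm_num, by norm_num⟩
  · exact ⟨2, 5, 1, 2, by norm_num, by norm_num, by norm_num⟩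
  · exact ⟨3, 17, 1, 1, by norm_num, by norm_num, by norm_num⟩
  · exact ⟨2, 13, 2, 1, by norm_num, by norm_num, by norm_num⟩
  · exact ⟨53, 3, 1, 0, by norm_num, by norm_num, by norm_num⟩
  · exact ⟨2, 3, 1, 3, by norm_num, by norm_num, by norm_num⟩
  · exact ⟨5, 11, 1, 1, by norm_num, by norm_num, by norm_num⟩
  · exact ⟨2, 7, 3, 1, by norm_num, by norm_num, by norm_num⟩
  · exact ⟨3, 19, 1, 1, by norm_num, by norm_num, by norm_num⟩
  · exact ⟨2, 29, 1, 1, by norm_num, by norm_num, by norm_num⟩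
  · exact ⟨59, 3, 1, 0, by norm_num, by norm_num, by norm_num⟩
  · exact absurd rfl e60
  · exact ⟨61, 3, 1, 0, by norm_num, by norm_num, by norm_num⟩
  · exact ⟨2, 31, 1, 1, by norm_num, by norm_num, by norm_num⟩
  · exact ⟨3, 7, 2, 1, by norm_num, by norm_num, by norm_num⟩
  · exact ⟨2, 3, 6, 0, by norm_num, by norm_num, by norm_num⟩
  · exact ⟨5, 13, 1, 1, by norm_num, by norm_num, by norm_num⟩
  · exact absurd rfl e66
  · exact ⟨67, 3, 1, 0, by norm_num, by norm_num, by norm_num⟩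
  · exact ⟨2, 17, 2, 1, by norm_num, by norm_num, by norm_num⟩
  · exact ⟨3, 23, 1, 1, by norm_num, by norm_num, by norm_num⟩
  · exact absurd rfl e70
  · exact ⟨71, 3, 1, 0, by norm_num, by norm_num, by norm_num⟩
  · exact ⟨2, 3, 3, 2, by norm_num, by norm_num, by norm_num⟩
  · exact ⟨73, 3, 1, 0, by norm_num, by norm_num, by norm_num⟩
  · exact ⟨2, 37, 1, 1, by norm_num, by norm_num, by norm_num⟩
  · exact ⟨3, 5, 1, 2, by norm_num, by norm_num, by norm_num⟩
  · exact ⟨2, 19, 2, 1, by norm_num, by norm_num, by norm_num⟩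
  · exact ⟨7, 11, 1, 1, by norm_num, by norm_num, by norm_num⟩
  · exact absurd rfl e78
  · exact ⟨79, 3, 1, 0, by norm_num, by norm_num, by norm_num⟩
  · exact ⟨2, 5, 4, 1, by norm_num, by norm_num, by norm_num⟩
  · exact ⟨3, 2, 4, 0, by norm_num, by norm_num, by norm_num⟩
  · exact ⟨2, 41, 1, 1, by norm_num, by norm_num, by norm_num⟩
  · exact ⟨83, 3, 1, 0, by norm_num, by norm_num, by norm_num⟩
  · exact absurd rfl e84
  · exact ⟨5, 17, 1, 1, by norm_num, by norm_num, by norm_num⟩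
  · exact ⟨2, 43, 1, 1, by norm_num, by norm_num, by norm_num⟩
  · exact ⟨3, 29, 1, 1, by norm_num, by norm_num, by norm_num⟩
  · exact ⟨2, 11, 3, 1, by norm_num, by norm_num, by norm_num⟩
  · exact ⟨89, 3, 1, 0, by norm_num, by norm_num, by norm_num⟩
  · exact absurd rfl e90
  · exact ⟨7, 13, 1, 1, by norm_num, by norm_num, by norm_num⟩
  · exact ⟨2, 23, 2, 1, by norm_num, by norm_num, by norm_num⟩
  · exact ⟨3, 31, 1, 1, by norm_num, by norm_num, by norm_num⟩
  · exact ⟨2, 47, 1, 1, by norm_num, by norm_num, by norm_num⟩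
  · exact ⟨5, 19, 1, 1, by norm_num, by norm_num, by norm_num⟩
  · exact ⟨2, 3, 5, 1, by norm_num, by norm_num, by norm_num⟩
  · exact ⟨97, 3, 1, 0, by norm_num, by norm_num, by norm_num⟩
  · exact ⟨2, 7, 1, 2, by norm_num, by norm_num, by norm_num⟩
  · exact ⟨3, 11, 2, 1, by norm_num, by norm_num, by norm_num⟩
  · exact ⟨2, 5, 2, 2, by norm_num, by norm_num, by norm_num⟩

/-- a group of order `2 * odd` (larger than 2) is not simple -/
theorem false_of_two_mul_odd {G : Type*} [Group G] [Finite G] [IsSimpleGroup G] {m : ℕ}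
    (hcard : Nat.card G = m * 2 ^ 1) (hm : ¬ 2 ∣ m) (hm1 : 1 < m) : False := by
  haveI : Fact (Nat.Prime 2) := ⟨Nat.prime_two⟩
  obtain T : Sylow 2 G := default
  have hT : Nat.card (T : Subgroup G) = 2 ^ 1 :=
    Cfsg.Agent.Lib.Helper9.card_sylow_subgroup_of_card_eq hcard hm T
  rw [pow_one] at hT
  have hcyc : IsCyclic (T : Subgroup G) := isCyclic_of_prime_card hT
  have heven : Even (Nat.card G) := by rw [hcard]; exact ⟨m, by ring⟩
  obtain ⟨H, hH⟩ := Cfsg.Agent.Lib.Helper24.exists_index_two_of_cyclic_sylow heven T hcyc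
  have hn : H.Normal := Subgroup.normal_of_index_eq_two hH
  rcases hn.eq_bot_or_eq_top with h | h
  · rw [h, Subgroup.index_bot, hcard] at hH
    omega
  · rw [h, Subgroup.index_top] at hH
    omega

/-- A finite simple group of order at most 100 that is not cyclic has order 60. -/
theorem result {G : Type*} [Group G] [Finite G] [IsSimpleGroup G]
    (hG : ¬ IsCyclic G) (h : Nat.card G ≤ 100) : Nat.card G = 60 := by
  classical
  have hpos : 1 ≤ Nat.card G := Nat.card_pos
  by_contra h60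
  by_cases h84 : Nat.card G = 84
  · -- Sylow 7 is normal
    haveI : Fact (Nat.Prime 7) := ⟨by norm_num⟩
    have hcard : Nat.card G = 12 * 7 ^ 1 := by rw [h84]; norm_num
    have hm : ¬ 7 ∣ 12 := by norm_num
    have hdvd : Nat.card (Sylow 7 G) ∣ 12 := Cfsg.Agent.Lib.Helper9.card_sylow_dvd_of_card_eq hcard hm
    have hmod : Nat.card (Sylow 7 G) ≡ 1 [MOD 7] := card_sylow_modEq_one 7 G
    have hne1 : Nat.card (Sylow 7 G) ≠ 1 := by
      apply Cfsg.Agent.Lib.Helper9.card_sylow_ne_one_of_simple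
      · rw [h84]; norm_num
      · exact Cfsg.Agent.Lib.Helper9.ne_pow_of_prime_dvd (by norm_num) Nat.prime_two (by norm_num)
          (by rw [h84]; norm_num)
    have hle : Nat.card (Sylow 7 G) ≤ 12 := Nat.le_of_dvd (by norm_num) hdvd
    unfold Nat.ModEq at hmod
    interval_cases hc : Nat.card (Sylow 7 G) <;> omega
  by_cases h2odd : Nat.card G = 30 ∨ Nat.card G = 42 ∨ Nat.card G = 66 ∨ Nat.card G = 70 ∨
      Nat.card G = 78 ∨ Nat.card G = 90
  · rcases h2odd with h' | h' | h' | h' | h' | h'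
    · exact false_of_two_mul_odd (m := 15) (by rw [h']; norm_num) (by norm_num) (by norm_num)
    · exact false_of_two_mul_odd (m := 21) (by rw [h']; norm_num) (by norm_num) (by norm_num)
    · exact false_of_two_mul_odd (m := 33) (by rw [h']; norm_num) (by norm_num) (by norm_num)
    · exact false_of_two_mul_odd (m := 35) (by rw [h']; norm_num) (by norm_num) (by norm_num)
    · exact false_of_two_mul_odd (m := 39) (by rw [h']; norm_num) (by norm_num) (by norm_num)
    · exact false_of_two_mul_odd (m := 45) (by rw [h']; norm_num) (by norm_num) (by norm_num)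
  · push Not at h2odd
    obtain ⟨p, q, a, b, hp, hq, hpq⟩ := pq_form (Nat.card G) hpos h h2odd.1 h2odd.2.1 h60
      h2odd.2.2.1 h2odd.2.2.2.1 h2odd.2.2.2.2.1 h84 h2odd.2.2.2.2.2
    have hsol : Group.IsSolvable G := Cfsg.Agent.Lib.Helper4.isSolvable_of_card_pq p q a b hp hq hpq
    have hcomm : ∀ a b : G, a * b = b * a := IsSimpleGroup.comm_iff_isSolvable.mpr hsol
    apply hG
    letI : CommGroup G := { (inferInstance : Group G) with mul_comm := hcomm }
    exact IsSimpleGroup.isCyclic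

end Cfsg.Agent.S0493
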