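import Cfsg.Statements.S3669
-- import your own Cfsg.Agent.* helpers here
import Mathlib
import Cfsg.Agent.S0133
import Cfsg.Agent.S0162
import Cfsg.Agent.S0169
import Cfsg.Agent.S0493
import Cfsg.Agent.S0494
import Cfsg.Agent.Lib.Helper4.CharOrtho
import Cfsg.Agent.Lib.Helper4.BurnsideClass
import Cfsg.Agent.Lib.Helper13.BenderA
import Cfsg.Agent.Lib.Helper20.Fitting

set_option autoImplicit false
open Cfsg

namespace Cfsg.Agent.S3669

universe u

def r1 : alternatingGroup (Fin 5) :=
  ⟨Equiv.swap 0 1 * Equiv.swap 2 3, Equiv.Perm.mem_alternatingGroup.2 (by decide)⟩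
def r2 : alternatingGroup (Fin 5) :=
  ⟨Equiv.swap 0 1 * Equiv.swap 1 2, Equiv.Perm.mem_alternatingGroup.2 (by decide)⟩
def r3 : alternatingGroup (Fin 5) :=
  ⟨Equiv.swap 0 1 * Equiv.swap 1 2 * Equiv.swap 2 3 * Equiv.swap 3 4,
    Equiv.Perm.mem_alternatingGroup.2 (by decide)⟩

theorem conj_reps : ∀ g : alternatingGroup (Fin 5), ∃ c : alternatingGroup (Fin 5),
    c * g * c⁻¹ = 1 ∨ c * g * c⁻¹ = r1 ∨ c * g * c⁻¹ = r2 ∨ c * g * c⁻¹ = r3 ∨
      c * g * c⁻¹ = r3 ^ 2 := by
  decide +kernel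

theorem card_conjClasses_le : Nat.card (ConjClasses (alternatingGroup (Fin 5))) ≤ 5 := by
  classical
  haveI : Fintype (ConjClasses (alternatingGroup (Fin 5))) := Fintype.ofFinite _
  rw [Nat.card_eq_fintype_card, ← Finset.card_univ]
  calc (Finset.univ : Finset (ConjClasses (alternatingGroup (Fin 5)))).card
      ≤ (({1, r1, r2, r3, r3 ^ 2} : Finset (alternatingGroup (Fin 5))).image
          ConjClasses.mk).card := by
        apply Finset.card_le_card
        intro C _
        obtain ⟨g, rfl⟩ := ConjClasses.exists_rep C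
        obtain ⟨c, hc⟩ := conj_reps g
        rw [Finset.mem_image]
        rcases hc with h | h | h | h | h
        · exact ⟨1, by simp, (ConjClasses.mk_eq_mk_iff_isConj.2 (isConj_iff.2 ⟨c, h⟩)).symm⟩
        · exact ⟨r1, by simp, (ConjClasses.mk_eq_mk_iff_isConj.2 (isConj_iff.2 ⟨c, h⟩)).symm⟩
        · exact ⟨r2, by simp, (ConjClasses.mk_eq_mk_iff_isConj.2 (isConj_iff.2 ⟨c, h⟩)).symm⟩
        · exact ⟨r3, by simp, (ConjClasses.mk_eq_mk_iff_isConj.2 (isConj_iff.2 ⟨c, h⟩)).symm⟩
        · exact ⟨r3 ^ 2, by simp,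
            (ConjClasses.mk_eq_mk_iff_isConj.2 (isConj_iff.2 ⟨c, h⟩)).symm⟩
    _ ≤ ({1, r1, r2, r3, r3 ^ 2} : Finset (alternatingGroup (Fin 5))).card :=
        Finset.card_image_le
    _ ≤ 5 := Finset.card_le_five

theorem charDegree_eq {G : Type*} [Group G] (χ : G → ℂ) (d : ℕ) (h : χ 1 = d) :
    Cfsg.charDegree χ = d := by
  unfold Cfsg.charDegree
  rw [h]
  simp

theorem card_A5 : Nat.card (alternatingGroup (Fin 5)) = 60 := by
  rw [Nat.card_eq_fintype_card]
  have h := two_mul_card_alternatingGroup (α := Fin 5)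
  rw [Fintype.card_perm, Fintype.card_fin] at h
  have h2 : (5 : ℕ).factorial = 120 := by decide
  omega

theorem arith_aux (c0 c1 c2 c3 c4 c5 c6 : ℕ) (hA : c0 + c1 + c2 + c3 + c4 + c5 + c6 ≤ 5)
    (hB : c1 + 4 * c2 + 9 * c3 + 16 * c4 + 25 * c5 + 36 * c6 = 60) (h1 : 1 ≤ c1) :
    1 ≤ c5 ∧ 1 ≤ c3 + c6 := by
  have h6 : c6 ≤ 1 := by omega
  have h5 : c5 ≤ 2 := by omega
  have h4 : c4 ≤ 3 := by omega
  have h3 : c3 ≤ 5 := by omega
  interval_cases c6 <;> interval_cases c5 <;> interval_cases c4 <;> interval_cases c3 <;> omega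

theorem mem_degreePrimes_A5 : 3 ∈ Cfsg.degreePrimes (alternatingGroup (Fin 5)) ∧
    5 ∈ Cfsg.degreePrimes (alternatingGroup (Fin 5)) := by
  classical
  haveI : Fintype (IrrCharacter (alternatingGroup (Fin 5))) := Fintype.ofFinite _
  have hk : Fintype.card (IrrCharacter (alternatingGroup (Fin 5))) ≤ 5 := by
    rw [← Nat.card_eq_fintype_card, Cfsg.Agent.S0133.result]
    exact card_conjClasses_le
  choose deg hdeg hdvd using
    (Cfsg.Agent.S0162.exists_degree (G := alternatingGroup (Fin 5)))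
  have hsum : ∑ χ : IrrCharacter (alternatingGroup (Fin 5)), (deg χ) ^ 2 = 60 := by
    have h := Cfsg.Agent.Lib.Helper4.sum_sq_degree (G := alternatingGroup (Fin 5))
    rw [card_A5] at h
    have h2 : ((∑ χ : IrrCharacter (alternatingGroup (Fin 5)), (deg χ) ^ 2 : ℕ) : ℂ) =
        ((60 : ℕ) : ℂ) := by
      push_cast
      push_cast at h
      rw [← h]
      refine Finset.sum_congr rfl fun χ _ => ?_
      rw [hdeg χ]
    exact_mod_cast h2
  have hrange : ∀ χ ∈ (Finset.univ : Finset (IrrCharacter (alternatingGroup (Fin 5)))),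
      deg χ ∈ Finset.range 7 := by
    intro χ _
    have h1 : (deg χ) ^ 2 ≤ 60 := by
      rw [← hsum]
      exact Finset.single_le_sum (f := fun χ => (deg χ) ^ 2) (fun _ _ => Nat.zero_le _)
        (Finset.mem_univ χ)
    have h2 : deg χ ∣ 60 := card_A5 ▸ hdvd χ
    rw [Finset.mem_range]
    by_contra h7
    push Not at h7
    rcases Nat.eq_or_lt_of_le h7 with h | h
    · rw [← h] at h2
      norm_num at h2
    · have h64 : 8 ^ 2 ≤ (deg χ) ^ 2 := Nat.pow_le_pow_left h 2
      omega
  have hA := Finset.card_eq_sum_card_fiberwise (f := deg) (s := Finset.univ)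
    (t := Finset.range 7) (fun χ hχ => hrange χ hχ)
  have hB := Finset.sum_fiberwise_of_maps_to' (s := Finset.univ) (t := Finset.range 7)
    (g := deg) hrange (fun j => j ^ 2)
  rw [hsum] at hB
  simp only [Finset.sum_const, smul_eq_mul] at hB
  simp only [Finset.sum_range_succ, Finset.sum_range_zero] at hA hB
  rw [Finset.card_univ] at hA
  -- the trivial character
  have h1pos : 1 ≤ (Finset.univ.filter
      (fun χ : IrrCharacter (alternatingGroup (Fin 5)) => deg χ = 1)).card := by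
    apply Finset.card_pos.2
    refine ⟨⟨fun _ => 1, Cfsg.Agent.Lib.Helper4.isIrrCharacter_one⟩, ?_⟩
    rw [Finset.mem_filter]
    refine ⟨Finset.mem_univ _, ?_⟩
    have h := hdeg ⟨fun _ => 1, Cfsg.Agent.Lib.Helper4.isIrrCharacter_one⟩
    have h' : ((1 : ℕ) : ℂ) = (deg ⟨fun _ => 1, Cfsg.Agent.Lib.Helper4.isIrrCharacter_one⟩ : ℂ) := by
      rw [← h]; simp
    exact_mod_cast h'.symm
  obtain ⟨cnt, hcnt⟩ : ∃ cnt : ℕ → ℕ, ∀ d, cnt d = (Finset.univ.filter
      (fun χ : IrrCharacter (alternatingGroup (Fin 5)) => deg χ = d)).card :=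
    ⟨_, fun _ => rfl⟩
  simp only [← hcnt] at hA hB h1pos
  obtain ⟨h5, h36⟩ := arith_aux (cnt 0) (cnt 1) (cnt 2) (cnt 3) (cnt 4) (cnt 5) (cnt 6)
    (by omega) (by omega) h1pos
  constructor
  · have h : ∃ χ : IrrCharacter (alternatingGroup (Fin 5)), 3 ∣ deg χ := by
      rcases Nat.eq_zero_or_pos (cnt 3) with h0 | h0
      · have h6 : 0 < cnt 6 := by omega
        rw [hcnt] at h6
        obtain ⟨χ, hχ⟩ := Finset.card_pos.1 h6
        have hχ' := (Finset.mem_filter.1 hχ).2
        exact ⟨χ, by rw [hχ']; norm_num⟩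
      · rw [hcnt] at h0
        obtain ⟨χ, hχ⟩ := Finset.card_pos.1 h0
        have hχ' := (Finset.mem_filter.1 hχ).2
        exact ⟨χ, by rw [hχ']⟩
    obtain ⟨χ, hχ⟩ := h
    exact ⟨Nat.prime_three, _, ⟨χ, rfl⟩, by rw [charDegree_eq _ _ (hdeg χ)]; exact hχ⟩
  · rw [hcnt] at h5
    obtain ⟨χ, hχ⟩ := Finset.card_pos.1 h5
    have hχ' := (Finset.mem_filter.1 hχ).2
    exact ⟨Nat.prime_five, _, ⟨χ, rfl⟩, by rw [charDegree_eq _ _ (hdeg χ), hχ']⟩

theorem dvd_index_of_mem_degreePrimes {G : Type*} [Group G] [Finite G] {p : ℕ}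
    (hp : p ∈ Cfsg.degreePrimes G) (H : Subgroup G) [H.Normal]
    (hH : ∀ a ∈ H, ∀ b ∈ H, a * b = b * a) : p ∣ H.index := by
  obtain ⟨_, d, ⟨χ, rfl⟩, hpd⟩ := hp
  obtain ⟨n, ρ, hρ, hρχ⟩ := χ.2
  haveI := hρ
  have h1 := Cfsg.Agent.S0169.result ρ H hH
  have h2 : Cfsg.charDegree (χ : G → ℂ) = Module.finrank ℂ (Fin n → ℂ) := by
    apply charDegree_eq
    rw [← hρχ]
    exact Representation.char_one ρ
  rw [h2] at hpd
  exact hpd.trans h1

theorem exists_normal_of_not_simple {G : Type*} [Group G] [Nontrivial G]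
    (h : ¬ IsSimpleGroup G) : ∃ N : Subgroup G, N.Normal ∧ N ≠ ⊥ ∧ N ≠ ⊤ := by
  by_contra hcon
  push Not at hcon
  exact h { toNontrivial := inferInstance
            eq_bot_or_eq_top_of_normal := fun N hN => by
              by_cases h1 : N = ⊥
              · exact Or.inl h1
              · exact Or.inr (hcon N hN h1) }

theorem solvable_of_normal {G : Type*} [Group G] (N : Subgroup G) [N.Normal]
    (h1 : Group.IsSolvable N) (h2 : Group.IsSolvable (G ⧸ N)) : Group.IsSolvable G :=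
  Group.isSolvable_of_ker_le_range N.subtype (QuotientGroup.mk' N)
    (by rw [QuotientGroup.ker_mk', Subgroup.range_subtype])

theorem card_lt_of_normal {G : Type*} [Group G] [Finite G] (N : Subgroup G) (hN1 : N ≠ ⊥)
    (hN2 : N ≠ ⊤) : Nat.card N < Nat.card G ∧ Nat.card (G ⧸ N) < Nat.card G := by
  have h1 := Subgroup.card_mul_index N
  have h2 : N.index ≠ 1 := fun h => hN2 (Subgroup.index_eq_one.1 h)
  have h3 : N.index ≠ 0 := Subgroup.index_ne_zero_of_finite
  have h4 : 1 < Nat.card N := (Subgroup.one_lt_card_iff_ne_bot N).2 hN1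
  rw [← Subgroup.index_eq_card]
  have h5 : 2 ≤ N.index := by omega
  constructor <;> nlinarith

theorem solvable_of_card_lt : ∀ (n : ℕ), n < 60 → ∀ (G : Type u) [Group G] [Finite G],
    Nat.card G = n → Group.IsSolvable G := by
  intro n
  induction n using Nat.strong_induction_on with
  | _ n ih =>
    intro hn G _ _ hG
    by_cases hnt : Nontrivial G
    swap
    · rw [not_nontrivial_iff_subsingleton] at hnt
      infer_instance
    by_cases hs : IsSimpleGroup G
    · by_cases hc : IsCyclic G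
      · have hcm : IsMulCommutative G := IsCyclic.isMulCommutative
        exact Group.isSolvable_of_comm (fun a b => hcm.is_comm.comm a b)
      · exfalso
        have h60 := Cfsg.Agent.S0493.result hc (by omega : Nat.card G ≤ 100)
        omega
    · obtain ⟨N, hN, hN1, hN2⟩ := exists_normal_of_not_simple hs
      haveI := hN
      obtain ⟨hcN, hcQ⟩ := card_lt_of_normal N hN1 hN2
      exact solvable_of_normal N (ih _ (hG ▸ hcN) (by omega) N rfl)
        (ih _ (hG ▸ hcQ) (by omega) (G ⧸ N) rfl)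

theorem sq_not_dvd_sixty {p : ℕ} (hp : p.Prime) (hp2 : p ≠ 2) : ¬ p ^ 2 ∣ 60 := by
  intro h
  have hple : p ≤ 7 := by
    have := Nat.le_of_dvd (by norm_num) h
    nlinarith
  interval_cases p <;> revert hp hp2 h <;> decide

theorem centralizes_of_pow_five {G : Type*} [Group G] [Finite G] (F : Subgroup G) [F.Normal]
    (hF : Nat.card F ≤ 4) (x : G) (hx : x ^ 5 = 1) :
    x ∈ Subgroup.centralizer (F : Set G) := by
  classical
  haveI : Fintype F := Fintype.ofFinite F
  have ha5 : (MulAut.conjNormal x : MulAut F) ^ 5 = 1 := by rw [← map_pow, hx, map_one]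
  have hb5 : (MulAut.toPerm F (MulAut.conjNormal x : MulAut F)) ^ 5 = 1 := by
    rw [← map_pow, ha5, map_one]
  have h1 : orderOf (MulAut.toPerm F (MulAut.conjNormal x : MulAut F)) ∣ 5 :=
    orderOf_dvd_of_pow_eq_one hb5
  have h2 : orderOf (MulAut.toPerm F (MulAut.conjNormal x : MulAut F)) ∣ 24 := by
    have h3 := orderOf_dvd_card (x := MulAut.toPerm F (MulAut.conjNormal x : MulAut F))
    rw [Fintype.card_perm] at h3
    have h4 : (Fintype.card F).factorial ∣ (4 : ℕ).factorial := by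
      apply Nat.factorial_dvd_factorial
      rwa [← Nat.card_eq_fintype_card]
    exact h3.trans (h4.trans (by decide))
  have h3 : orderOf (MulAut.toPerm F (MulAut.conjNormal x : MulAut F)) = 1 := by
    have := Nat.dvd_gcd h1 h2
    simpa using this
  rw [orderOf_eq_one_iff] at h3
  rw [Subgroup.mem_centralizer_iff]
  intro f hf
  have h4 := congrArg (fun σ : Equiv.Perm F => ((σ ⟨f, hf⟩ : F) : G)) h3
  simp only [MulAut.toPerm, Equiv.Perm.coe_one, id_eq] at h4
  have h5 : x * f * x⁻¹ = f := by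
    have h6 : (((MulAut.conjNormal x : MulAut F) ⟨f, hf⟩ : F) : G) = x * f * x⁻¹ :=
      MulAut.conjNormal_apply x ⟨f, hf⟩
    rw [← h6]
    exact h4
  calc f * x = (x * f * x⁻¹) * x := by rw [h5]
    _ = x * f := by group


/-- The character degree graph of a finite group has as vertices the primes dividing some irreducible complex character degree, two distinct primes being joined when their product divides some irreducible character degree; two groups have the same character degree graph when they have the same vertices and the same joined pairs. A finite group of order 60 with the same character degree graph as the alternating group A₅ (whose character degrees are 1, 3, 4, 5, so the graph has vertices 2, 3, 5 and no edges) is isomorphic to A₅. -/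
theorem result {G : Type*} [Group G] [Finite G] (hcard : Nat.card G = 60)
    (hΓ : Cfsg.degreePrimes G = Cfsg.degreePrimes (alternatingGroup (Fin 5)) ∧ Cfsg.degreeGraph G = Cfsg.degreeGraph (alternatingGroup (Fin 5))) : Nonempty (G ≃* alternatingGroup (Fin 5)) := by
  classical
  obtain ⟨h3A, h5A⟩ := mem_degreePrimes_A5
  have h3 : 3 ∈ Cfsg.degreePrimes G := by rw [hΓ.1]; exact h3A
  have h5 : 5 ∈ Cfsg.degreePrimes G := by rw [hΓ.1]; exact h5A
  by_cases hs : IsSimpleGroup G
  · haveI := hs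
    exact Cfsg.Agent.S0494.result hcard
  exfalso
  haveI : Nontrivial G := by
    rw [← Finite.one_lt_card_iff_nontrivial, hcard]; norm_num
  haveI hsolv : Group.IsSolvable G := by
    obtain ⟨N, hN, hN1, hN2⟩ := exists_normal_of_not_simple hs
    haveI := hN
    obtain ⟨hcN, hcQ⟩ := card_lt_of_normal N hN1 hN2
    rw [hcard] at hcN hcQ
    exact solvable_of_normal N (solvable_of_card_lt _ hcN N rfl)
      (solvable_of_card_lt _ hcQ (G ⧸ N) rfl)
  -- Ito
  have hIto : ∀ (H : Subgroup G) [H.Normal], (∀ a ∈ H, ∀ b ∈ H, a * b = b * a) →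
      Nat.card H ∣ 4 := by
    intro H _ hH
    have h3' := dvd_index_of_mem_degreePrimes h3 H hH
    have h5' := dvd_index_of_mem_degreePrimes h5 H hH
    have h15 : 3 * 5 ∣ H.index :=
      Nat.Coprime.mul_dvd_of_dvd_of_dvd (by norm_num : Nat.Coprime 3 5) h3' h5'
    obtain ⟨c, hc⟩ := h15
    have h1 := Subgroup.card_mul_index H
    rw [hcard, hc] at h1
    exact ⟨c, by nlinarith⟩
  -- the p-cores for odd p are trivial
  have hcore : ∀ p : ℕ, p.Prime → p ≠ 2 → Cfsg.pCore p G = ⊥ := by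
    intro p hp hp2
    haveI : Fact p.Prime := ⟨hp⟩
    have hQ : IsPGroup p (Cfsg.pCore p G) := Cfsg.Agent.Lib.Helper20.pCore_isPGroup' p
    obtain ⟨k, hk⟩ := (IsPGroup.iff_card).1 hQ
    have hdvd : Nat.card (Cfsg.pCore p G) ∣ 60 := hcard ▸ Subgroup.card_subgroup_dvd_card _
    have hk1 : k ≤ 1 := by
      by_contra hk2
      push Not at hk2
      have h1 : p ^ 2 ∣ 60 := (pow_dvd_pow p hk2).trans (hk ▸ hdvd)
      exact sq_not_dvd_sixty hp hp2 h1
    interval_cases k
    · rw [pow_zero] at hk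
      exact (Subgroup.card_eq_one).1 hk
    · exfalso
      rw [pow_one] at hk
      haveI : IsCyclic (Cfsg.pCore p G) := isCyclic_of_prime_card hk
      have hcm : IsMulCommutative (Cfsg.pCore p G) := IsCyclic.isMulCommutative
      have h4 := hIto (Cfsg.pCore p G) (fun a ha b hb =>
        congrArg Subtype.val (hcm.is_comm.comm ⟨a, ha⟩ ⟨b, hb⟩))
      rw [hk] at h4
      have h2 : p ∣ 2 := hp.dvd_of_dvd_pow (n := 2) (by norm_num; exact h4)
      exact hp2 ((Nat.prime_dvd_prime_iff_eq hp Nat.prime_two).1 h2)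
  -- the Fitting subgroup has order at most 4
  have hFle : Cfsg.fittingSubgroup G ≤ Cfsg.pCore 2 G := by
    rw [Cfsg.Agent.Lib.Helper20.fittingSubgroup_eq_iSup_pCore']
    apply iSup_le
    intro p
    by_cases hp2 : (p : ℕ) = 2
    · rw [hp2]
    · rw [hcore p p.2 hp2]; exact bot_le
  have hF4 : Nat.card (Cfsg.fittingSubgroup G) ≤ 4 := by
    haveI : Fact (Nat.Prime 2) := ⟨Nat.prime_two⟩
    have hQ : IsPGroup 2 (Cfsg.pCore 2 G) := Cfsg.Agent.Lib.Helper20.pCore_isPGroup' 2
    obtain ⟨k, hk⟩ := (IsPGroup.iff_card).1 hQ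
    have hdvd : Nat.card (Cfsg.pCore 2 G) ∣ 60 := hcard ▸ Subgroup.card_subgroup_dvd_card _
    have hk2 : k ≤ 2 := by
      by_contra hk3
      push Not at hk3
      have h1 : 2 ^ 3 ∣ 60 := (pow_dvd_pow 2 hk3).trans (hk ▸ hdvd)
      norm_num at h1
    have h1 : Nat.card (Cfsg.fittingSubgroup G) ≤ Nat.card (Cfsg.pCore 2 G) :=
      Nat.le_of_dvd Nat.card_pos (Subgroup.card_dvd_of_le hFle)
    have h2 : (2 : ℕ) ^ k ≤ 2 ^ 2 := Nat.pow_le_pow_right (by norm_num) hk2
    rw [hk] at h1
    omega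
  -- an element of order 5
  haveI : Fact (Nat.Prime 5) := ⟨Nat.prime_five⟩
  obtain ⟨x, hx⟩ := exists_prime_orderOf_dvd_card' (G := G) 5 (by rw [hcard]; norm_num)
  haveI hFn : (Cfsg.fittingSubgroup G).Normal := Cfsg.Agent.Lib.Helper20.fittingSubgroup_normal'
  have hxC := centralizes_of_pow_five (Cfsg.fittingSubgroup G) hF4 x
    (by rw [← hx]; exact pow_orderOf_eq_one x)
  have hxF : x ∈ Cfsg.fittingSubgroup G :=
    Cfsg.Agent.Lib.Helper13.BenderA.centralizer_fitting_le hxC
  have h5F : 5 ∣ Nat.card (Cfsg.fittingSubgroup G) := by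
    rw [← hx]
    have h1 : orderOf (⟨x, hxF⟩ : Cfsg.fittingSubgroup G) = orderOf x :=
      Subgroup.orderOf_mk x hxF
    rw [← h1]
    exact orderOf_dvd_natCard _
  have := Nat.le_of_dvd Nat.card_pos h5F
  omega

end Cfsg.Agent.S3669
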