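import Mathlib
import Cfsg.Statements.S0033
import Cfsg.Agent.Lib.Helper13.FpfThompson

set_option autoImplicit false
open Cfsg

namespace Cfsg.Agent.S0033

theorem coe_pow_eq_iterate {G : Type*} [Group G] (φ : G ≃* G) (k : ℕ) :
    ⇑(φ ^ k) = (⇑φ)^[k] := by
  induction k with
  | zero => rfl
  | succ k ih =>
    funext x
    rw [pow_succ', Function.iterate_succ_apply', ← ih]
    rfl

end Cfsg.Agent.S0033

namespace Cfsg.Agent.S0033

/-- Thompson's Theorem on fixed-point-free automorphisms: a finite group with an automorphism of prime order fixing only the identity is nilpotent. -/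
theorem result {G : Type*} [Group G] [Finite G] (φ : G ≃* G)
    (hφ : MonoidHom.FixedPointFree (φ : G →* G)) (p : ℕ) (hp : p.Prime) (hord : orderOf φ = p) :
    Group.IsNilpotent G := by
  have hper : (⇑φ)^[p] = id := by
    have h1 : φ ^ p = 1 := by rw [← hord]; exact pow_orderOf_eq_one φ
    rw [← coe_pow_eq_iterate, h1]
    rfl
  exact Cfsg.Agent.Lib.Helper13.fpf_nilpotent_aux p hp _ G rfl φ hφ hper

end Cfsg.Agent.S0033
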