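import Cfsg.Statements.S0078
import Cfsg.Agent.Lib.Helper24.HyperfocalGroup
import Cfsg.Agent.Lib.Helper24.WeaklyClosedFusion
import Cfsg.Agent.Lib.Helper29.FusionHyp2

set_option autoImplicit false
open Cfsg

namespace Cfsg.Agent.S0078

/-- In a p-normal group, a Sylow p-subgroup P meets O^p(G) exactly where it meets O^p(V), for any subgroup V containing the normalizer of the centre of P. -/
theorem result {G : Type*} [Group G] [Finite G] {p : ℕ} [Fact p.Prime] (P : Sylow p G) (hn : ∀ Q : Sylow p G, (P : Subgroup G) ⊓ Subgroup.centralizer (P : Set G) ≤ (Q : Subgroup G) → (Q : Subgroup G) ⊓ Subgroup.centralizer (Q : Set G) = (P : Subgroup G) ⊓ Subgroup.centralizer (P : Set G)) (V : Subgroup G) (hV : Subgroup.normalizer (((P : Subgroup G) ⊓ Subgroup.centralizer (P : Set G) : Subgroup G) : Set G) ≤ V) : (P : Subgroup G) ⊓ Cfsg.pResidual p G = (P : Subgroup G) ⊓ (Cfsg.pResidual p V).map V.subtype := by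
  have hp : p.Prime := Fact.out
  obtain ⟨Z, hZdef⟩ : ∃ Z : Subgroup G, Z = (P : Subgroup G) ⊓ Subgroup.centralizer (P : Set G) :=
    ⟨_, rfl⟩
  rw [← hZdef] at hV
  have hW : Cfsg.IsWeaklyClosed Z P := by
    rw [hZdef]; exact Cfsg.Agent.Lib.Helper24.isWeaklyClosed_center_of_pNormal P hn
  have hZc : Z ≤ Subgroup.centralizer (P : Set G) := hZdef ▸ inf_le_right
  have hPV : (P : Subgroup G) ≤ V := by
    refine le_trans ?_ hV
    intro s hs
    rw [Subgroup.mem_normalizer_iff]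
    intro z
    rw [hZdef]
    constructor
    · intro hz
      obtain ⟨hz1, hz2⟩ := Subgroup.mem_inf.mp hz
      refine Subgroup.mem_inf.mpr ⟨mul_mem (mul_mem hs hz1) (inv_mem hs), ?_⟩
      rw [Subgroup.mem_centralizer_iff]
      intro t ht
      have h3 := (Subgroup.mem_centralizer_iff.mp hz2) (s⁻¹ * t * s)
        (mul_mem (mul_mem (inv_mem hs) ht) hs)
      calc t * (s * z * s⁻¹) = s * ((s⁻¹ * t * s) * z) * s⁻¹ := by group
        _ = s * (z * (s⁻¹ * t * s)) * s⁻¹ := by rw [h3]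
        _ = (s * z * s⁻¹) * t := by group
    · intro hz
      obtain ⟨hz1, hz2⟩ := Subgroup.mem_inf.mp hz
      have e : z = s⁻¹ * (s * z * s⁻¹) * s := by group
      refine Subgroup.mem_inf.mpr ⟨?_, ?_⟩
      · rw [e]; exact mul_mem (mul_mem (inv_mem hs) hz1) hs
      · rw [Subgroup.mem_centralizer_iff]
        intro t ht
        have h3 := (Subgroup.mem_centralizer_iff.mp hz2) (s * t * s⁻¹)
          (mul_mem (mul_mem hs ht) (inv_mem hs))
        calc t * z = s⁻¹ * ((s * t * s⁻¹) * (s * z * s⁻¹)) * s := by group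
          _ = s⁻¹ * ((s * z * s⁻¹) * (s * t * s⁻¹)) * s := by rw [h3]
          _ = z * t := by group
  have hNV : (Cfsg.pResidual p V).Normal := Cfsg.Agent.Lib.Helper29.pResidual_normal' p
  apply le_antisymm
  · refine le_inf inf_le_left ?_
    refine le_trans (Cfsg.Agent.Lib.Helper24.inf_pResidual_le_hypG P) ?_
    unfold Cfsg.Agent.Lib.Helper24.hypG
    rw [Subgroup.closure_le]
    rintro _ ⟨Q, h, x, hQP, hh, hc, hx, rfl⟩
    -- fusion control
    obtain ⟨n, hnN, hnc⟩ := Cfsg.Agent.Lib.Helper24.exists_normalizer_conj_set_of_weaklyClosed P Z hZc hW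
      (Q : Set G) (fun a ha => hQP ha) h
      (fun a ha => hQP ((Subgroup.mem_normalizer_iff.mp hh a).mp ha))
    have hnV : n ∈ V := hV hnN
    -- powers
    have hpow : ∀ i : ℕ, ∀ a ∈ Q, n ^ i * a * (n ^ i)⁻¹ = h ^ i * a * (h ^ i)⁻¹ := by
      intro i
      induction i with
      | zero => intro a _; simp
      | succ i ih =>
        intro a ha
        have hmem : h ^ i * a * (h ^ i)⁻¹ ∈ Q :=
          (Subgroup.mem_normalizer_iff.mp (pow_mem hh i) a).mp ha
        have e1 : n ^ (i + 1) * a * (n ^ (i + 1))⁻¹ = n * (n ^ i * a * (n ^ i)⁻¹) * n⁻¹ := by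
          rw [pow_succ']; group
        have e2 : h ^ (i + 1) * a * (h ^ (i + 1))⁻¹ = h * (h ^ i * a * (h ^ i)⁻¹) * h⁻¹ := by
          rw [pow_succ']; group
        rw [e1, e2, ih a ha, hnc _ hmem]
    obtain ⟨k, hk⟩ := Cfsg.Agent.Lib.Helper29.exists_pow_mem_pResidual p (⟨n, hnV⟩ : V)
    have hco : Nat.Coprime (p ^ k) (orderOf h) := (Nat.Coprime.pow_right k hc).symm
    obtain ⟨j, hj⟩ := exists_pow_eq_self_of_coprime hco
    have hn' : ((⟨n, hnV⟩ : V) ^ p ^ k) ^ j ∈ Cfsg.pResidual p V := pow_mem hk j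
    have hx' : (⟨x, hPV (hQP hx)⟩ : V)⁻¹ * ((⟨n, hnV⟩ : V) ^ p ^ k) ^ j *
        (⟨x, hPV (hQP hx)⟩ : V)⁻¹⁻¹ ∈ Cfsg.pResidual p V := hNV.conj_mem _ hn' _
    have hfin := mul_mem hx' (inv_mem hn')
    refine ⟨_, hfin, ?_⟩
    have e3 := hpow (p ^ k * j) x hx
    rw [pow_mul, pow_mul, hj] at e3
    rw [← e3]
    simp only [Subgroup.coe_subtype, Subgroup.coe_mul, Subgroup.coe_inv, Subgroup.coe_pow,
      inv_inv]
    group
  · refine le_inf inf_le_left (le_trans inf_le_right ?_)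
    rintro _ ⟨v, hv, rfl⟩
    exact Cfsg.Agent.Lib.Helper29.pResidual_map_of_injective p V.subtype V.subtype_injective hv

end Cfsg.Agent.S0078
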