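import Cfsg.Statements.S0584
import Mathlib

set_option autoImplicit false
open Cfsg
open scoped Pointwise

namespace Cfsg.Agent.S0584

/-- Let B ≤ A be normal subgroups of a finite group G with B contained in the Frattini subgroup of G. If A modulo B is nilpotent then A is nilpotent. -/
theorem result {G : Type*} [Group G] [Finite G] (A B : Subgroup G) [A.Normal] [B.Normal] (hBA : B ≤ A) (hB : B ≤ frattini G) (h : Group.IsNilpotent (↥A ⧸ B.subgroupOf A)) : Group.IsNilpotent A := by
  classical
  have q := (Group.isNilpotent_of_finite_tfae (G := A)).out 0 3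
  rw [q]; clear q
  intro p hp P
  set Q : Subgroup G := (P : Subgroup A).map A.subtype with hQ
  have hQA : Q ≤ A := Subgroup.map_subtype_le _
  have q' := (Group.isNilpotent_of_finite_tfae (G := ↥A ⧸ B.subgroupOf A)).out 0 3
  have hnorm := q'.mp h
  have hπ : Function.Surjective (QuotientGroup.mk' (B.subgroupOf A)) :=
    QuotientGroup.mk'_surjective _
  haveI : Subsingleton (Sylow p (↥A ⧸ B.subgroupOf A)) := by
    have := Sylow.unique_of_normal (P.mapSurjective hπ) (hnorm p hp _)
    exact this.instSubsingleton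
  -- key claim
  have key : ∀ g : G, ∀ x ∈ Q, g * x * g⁻¹ ∈ Q ⊔ B := by
    intro g x hx
    obtain ⟨x', hx', rfl⟩ := hx
    let Pg : Sylow p A := (MulAut.conjNormal g : MulAut A) • P
    have hmem : (MulAut.conjNormal g : MulAut A) x' ∈ Pg := by
      show (MulAut.conjNormal g : MulAut A) x' ∈ ((MulAut.conjNormal g : MulAut A) • (P : Subgroup A))
      exact Subgroup.smul_mem_pointwise_smul x' _ _ hx'
    have heq : Pg.mapSurjective hπ = P.mapSurjective hπ := Subsingleton.elim _ _
    have h1 : (QuotientGroup.mk' (B.subgroupOf A)) ((MulAut.conjNormal g : MulAut A) x') ∈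
        (Pg.mapSurjective hπ : Sylow p (↥A ⧸ B.subgroupOf A)) :=
      Subgroup.mem_map_of_mem _ hmem
    rw [heq] at h1
    obtain ⟨y, hy, hyx⟩ := h1
    have h2 : y⁻¹ * (MulAut.conjNormal g : MulAut A) x' ∈ B.subgroupOf A := QuotientGroup.eq.mp hyx
    rw [Subgroup.mem_subgroupOf] at h2
    have h3 : ((y⁻¹ * (MulAut.conjNormal g : MulAut A) x' : A) : G) = (y : G)⁻¹ * (g * x' * g⁻¹) := by
      simp [MulAut.conjNormal_apply]
    rw [h3] at h2
    have e : g * (A.subtype x') * g⁻¹ = (y : G) * ((y : G)⁻¹ * (g * x' * g⁻¹)) := by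
      simp
    rw [e]
    exact Subgroup.mul_mem_sup (Subgroup.mem_map_of_mem A.subtype hy) h2
  have hN : (Q ⊔ B).Normal := by
    constructor
    intro n hn g
    rw [Subgroup.mem_sup_of_normal_right] at hn
    obtain ⟨q, hq, b, hb, rfl⟩ := hn
    have : g * (q * b) * g⁻¹ = (g * q * g⁻¹) * (g * b * g⁻¹) := by group
    rw [this]
    exact (Q ⊔ B).mul_mem (key g q hq) (Subgroup.mem_sup_right (‹B.Normal›.conj_mem b hb g))
  set N := Q ⊔ B with hNdef
  have hQN : Q ≤ N := le_sup_left
  have hNA : N ≤ A := sup_le hQA hBA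
  have hpQ : IsPGroup p (Q.subgroupOf N) := (P.2.map A.subtype).comap_subtype
  have hidx : ¬ p ∣ (Q.subgroupOf N).index := by
    intro hdvd
    have h1 : Q.relIndex N ∣ Q.relIndex A :=
      Dvd.intro _ (Subgroup.relIndex_mul_relIndex Q N A hQN hNA)
    have h2 : Q.subgroupOf A = P := by
      ext z
      simp [Q, Subgroup.mem_subgroupOf]
    have h3 : Q.relIndex A = (P : Subgroup A).index := by rw [Subgroup.relIndex, h2]
    exact P.not_dvd_index (h3 ▸ (hdvd.trans h1))
  let PN : Sylow p N := hpQ.toSylow hidx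
  have hfr := Sylow.normalizer_sup_eq_top PN
  have hPNQ : (PN : Subgroup N).map N.subtype = Q := by
    show (Q.subgroupOf N).map N.subtype = Q
    rw [Subgroup.subgroupOf_map_subtype, inf_of_le_left hQN]
  rw [hPNQ] at hfr
  have h4 : Subgroup.normalizer (Q : Set G) ⊔ frattini G = ⊤ := by
    rw [eq_top_iff, ← hfr]
    apply sup_le le_sup_left
    exact sup_le (le_sup_of_le_left Subgroup.le_normalizer) (le_sup_of_le_right hB)
  have h5 := frattini_nongenerating h4
  have hQnormal : Q.Normal := Subgroup.normalizer_eq_top_iff.mp h5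
  exact hQnormal.of_map_subtype

end Cfsg.Agent.S0584
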