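import Cfsg.Statements.S1018
import Cfsg.Agent.Lib.Helper24.SylowPrime

set_option autoImplicit false
open Cfsg

namespace Cfsg.Agent.S1018

/-- Let P be a Sylow p-subgroup of order p of a finite group G, and consider the action of G on the left cosets of the normalizer N of P. Then every element of order p fixes exactly one coset, and an element of N that does not centralize P fixes at most as many cosets as there are orbits of P. -/
theorem result {G : Type*} [Group G] [Finite G] (p : ℕ) [Fact p.Prime] (P : Sylow p G) (hP : Nat.card ↥(P : Subgroup G) = p) : (∀ y : G, orderOf y = p → Nat.card (MulAction.fixedBy (G ⧸ Subgroup.normalizer ((P : Subgroup G) : Set G)) y) = 1) ∧ ∀ x : G, x ∈ Subgroup.normalizer ((P : Subgroup G) : Set G) → x ∉ Subgroup.centralizer ((P : Subgroup G) : Set G) → Nat.card (MulAction.fixedBy (G ⧸ Subgroup.normalizer ((P : Subgroup G) : Set G)) x) ≤ Nat.card (MulAction.orbitRel.Quotient ↥(P : Subgroup G) (G ⧸ Subgroup.normalizer ((P : Subgroup G) : Set G))) := by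
  refine ⟨fun y hy => Lib.Helper24.card_fixedBy_normalizer_eq_one P hP y hy, ?_⟩
  intro x hxN hxC
  obtain ⟨N, hN⟩ : ∃ N : Subgroup G, N = Subgroup.normalizer ((P : Subgroup G) : Set G) :=
    ⟨_, rfl⟩
  rw [← hN]
  have hPN : (P : Subgroup G) ≤ N := hN ▸ Subgroup.le_normalizer
  let φ : MulAction.fixedBy (G ⧸ N) x → MulAction.orbitRel.Quotient ↥(P : Subgroup G) (G ⧸ N) :=
    fun q => Quotient.mk'' q.1
  apply Nat.card_le_card_of_injective φ
  intro q q' hqq'
  have hrel : MulAction.orbitRel ↥(P : Subgroup G) (G ⧸ N) q.1 q'.1 := Quotient.exact hqq'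
  obtain ⟨u, hu⟩ := hrel
  apply Subtype.ext
  have ha : x • q'.1 = q'.1 := q'.2
  have hq : x • q.1 = q.1 := q.2
  have hu' : (u : G) • q'.1 = q.1 := hu
  rw [← hu'] at hq ⊢
  -- w = u⁻¹ x u x⁻¹ fixes a := q'.1
  have hxinv : x⁻¹ • q'.1 = q'.1 := by
    conv_lhs => rw [← ha]
    rw [inv_smul_smul]
  have hw_fix : ((u : G)⁻¹ * x * (u : G) * x⁻¹) • q'.1 = q'.1 := by
    rw [mul_smul, hxinv, mul_smul, mul_smul, hq, inv_smul_smul]
  have hconjP : x * (u : G) * x⁻¹ ∈ (P : Subgroup G) := by
    exact (Subgroup.mem_normalizer_iff.mp hxN (u : G)).mp u.2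
  have hwP : (u : G)⁻¹ * x * (u : G) * x⁻¹ ∈ (P : Subgroup G) := by
    have e : (u : G)⁻¹ * x * (u : G) * x⁻¹ = (u : G)⁻¹ * (x * (u : G) * x⁻¹) := by group
    rw [e]
    exact (P : Subgroup G).mul_mem ((P : Subgroup G).inv_mem u.2) hconjP
  by_cases hw1 : (u : G)⁻¹ * x * (u : G) * x⁻¹ = 1
  · -- x commutes with u
    have hcomm : x * (u : G) = (u : G) * x := by
      have h1 : (u : G) * ((u : G)⁻¹ * x * (u : G) * x⁻¹) * x = (u : G) * 1 * x := by rw [hw1]
      have e : (u : G) * ((u : G)⁻¹ * x * (u : G) * x⁻¹) * x = x * (u : G) := by group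
      rw [e, mul_one] at h1
      exact h1
    by_cases hu1 : u = 1
    · rw [hu1]; simp
    · exfalso
      apply hxC
      rw [Subgroup.mem_centralizer_iff]
      intro v hv
      have htop := zpowers_eq_top_of_prime_card (G := (P : Subgroup G)) hP hu1
      have hvmem : (⟨v, hv⟩ : (P : Subgroup G)) ∈ Subgroup.zpowers u := by rw [htop]; trivial
      obtain ⟨k, hk⟩ := Subgroup.mem_zpowers_iff.mp hvmem
      have hv' : v = (u : G) ^ k := by
        have := congrArg Subtype.val hk
        simpa using this.symm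
      rw [hv']
      have hc : Commute x (u : G) := hcomm
      exact (hc.zpow_right k).eq.symm
  · -- w has order p, so fixes exactly one coset
    have hword : orderOf ((u : G)⁻¹ * x * (u : G) * x⁻¹) = p := by
      have h1 : orderOf (⟨_, hwP⟩ : (P : Subgroup G)) ∣ p := by
        have := orderOf_dvd_natCard (⟨_, hwP⟩ : (P : Subgroup G))
        rwa [hP] at this
      rw [Subgroup.orderOf_mk] at h1
      rcases (Nat.dvd_prime (Fact.out : p.Prime)).mp h1 with h | h
      · exact absurd (orderOf_eq_one_iff.mp h) hw1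
      · exact h
    have hone := Lib.Helper24.card_fixedBy_normalizer_eq_one P hP _ hword
    rw [← hN, Nat.card_eq_one_iff_unique] at hone
    obtain ⟨hsub, _⟩ := hone
    have hbase : ((u : G)⁻¹ * x * (u : G) * x⁻¹) • ((1 : G) : G ⧸ N) = ((1 : G) : G ⧸ N) := by
      rw [Lib.Helper24.smul_coset_eq_iff]
      simpa using hPN hwP
    have heq := congrArg Subtype.val (hsub.elim ⟨q'.1, hw_fix⟩ ⟨_, hbase⟩)
    simp only at heq
    rw [heq, MulAction.Quotient.smul_mk, QuotientGroup.eq, smul_eq_mul]
    simpa using hPN u.2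

end Cfsg.Agent.S1018
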