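import Cfsg.Statements.S1019
import Mathlib

set_option autoImplicit false
open Cfsg

namespace Cfsg.Agent.S1019

/-- Let H be a subgroup of a finite group G and x an element of H. In the action of G on the left cosets of H, the number of cosets fixed by x, multiplied by the size of the conjugacy class of x, equals the index of H multiplied by the number of conjugates of x that lie in H. -/
theorem result {G : Type*} [Group G] [Finite G] (H : Subgroup G) (x : G) (hx : x ∈ H) : Nat.card (MulAction.fixedBy (G ⧸ H) x) * Nat.card {g : G // IsConj x g} = H.index * Nat.card {g : G // IsConj x g ∧ g ∈ H} := by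
  classical
  -- fixed points of conjugates
  have hfix : ∀ y : G, IsConj x y →
      Nat.card (MulAction.fixedBy (G ⧸ H) y) = Nat.card (MulAction.fixedBy (G ⧸ H) x) := by
    intro y hy
    obtain ⟨c, hc⟩ := isConj_iff.mp hy
    refine (Nat.card_congr ?_).symm
    refine
      { toFun := fun q => ⟨c • q.1, ?_⟩
        invFun := fun q => ⟨c⁻¹ • q.1, ?_⟩
        left_inv := fun q => by simp
        right_inv := fun q => by simp }
    · have hq := q.2
      rw [MulAction.mem_fixedBy] at hq ⊢
      rw [← hc, ← mul_smul]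
      have : c * x * c⁻¹ * c = c * x := by group
      rw [this, mul_smul, hq]
    · have hq := q.2
      rw [MulAction.mem_fixedBy] at hq ⊢
      have hx' : x = c⁻¹ * y * c := by rw [← hc]; group
      rw [hx', ← mul_smul]
      have : c⁻¹ * y * c * c⁻¹ = c⁻¹ * y := by group
      rw [this, mul_smul, hq]
  -- fibre over a coset
  have hcoset : ∀ q : G ⧸ H, Nat.card {y : G // IsConj x y ∧ y • q = q}
      = Nat.card {g : G // IsConj x g ∧ g ∈ H} := by
    intro q
    induction q using QuotientGroup.induction_on with
    | H g =>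
      have key : ∀ y : G, y • (g : G ⧸ H) = (g : G ⧸ H) ↔ g⁻¹ * y * g ∈ H := by
        intro y
        rw [MulAction.Quotient.smul_mk, QuotientGroup.eq, smul_eq_mul, mul_inv_rev]
        rw [← H.inv_mem_iff]
        have : (g⁻¹ * y⁻¹ * g)⁻¹ = g⁻¹ * y * g := by group
        rw [this]
      refine Nat.card_congr ?_
      refine
        { toFun := fun y => ⟨g⁻¹ * y.1 * g, ?_, ?_⟩
          invFun := fun z => ⟨g * z.1 * g⁻¹, ?_, ?_⟩
          left_inv := fun y => by apply Subtype.ext; simp [mul_assoc]
          right_inv := fun z => by apply Subtype.ext; simp [mul_assoc] }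
      · have := y.2.1
        refine this.trans ?_
        rw [isConj_iff]
        exact ⟨g⁻¹, by simp⟩
      · exact (key y.1).mp y.2.2
      · have := z.2.1
        refine this.trans ?_
        rw [isConj_iff]
        exact ⟨g, rfl⟩
      · rw [key]
        have : g⁻¹ * (g * z.1 * g⁻¹) * g = z.1 := by group
        rw [this]; exact z.2.2
  have := Fintype.ofFinite G
  have := Fintype.ofFinite (G ⧸ H)
  have := Fintype.ofFinite {g : G // IsConj x g}
  -- first count
  have h1 : Nat.card {p : (G ⧸ H) × G // IsConj x p.2 ∧ p.2 • p.1 = p.1}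
      = Nat.card {g : G // IsConj x g} * Nat.card (MulAction.fixedBy (G ⧸ H) x) := by
    have e : {p : (G ⧸ H) × G // IsConj x p.2 ∧ p.2 • p.1 = p.1} ≃
        Σ y : {g : G // IsConj x g}, MulAction.fixedBy (G ⧸ H) y.1 :=
      { toFun := fun p => ⟨⟨p.1.2, p.2.1⟩, ⟨p.1.1, p.2.2⟩⟩
        invFun := fun s => ⟨(s.2.1, s.1.1), s.1.2, s.2.2⟩
        left_inv := fun p => rfl
        right_inv := fun s => rfl }
    rw [Nat.card_congr e, Nat.card_sigma]
    rw [Finset.sum_congr rfl (fun y _ => hfix y.1 y.2), Finset.sum_const, Finset.card_univ,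
      smul_eq_mul, ← Nat.card_eq_fintype_card]
  have h2 : Nat.card {p : (G ⧸ H) × G // IsConj x p.2 ∧ p.2 • p.1 = p.1}
      = H.index * Nat.card {g : G // IsConj x g ∧ g ∈ H} := by
    have e : {p : (G ⧸ H) × G // IsConj x p.2 ∧ p.2 • p.1 = p.1} ≃
        Σ q : G ⧸ H, {y : G // IsConj x y ∧ y • q = q} :=
      { toFun := fun p => ⟨p.1.1, ⟨p.1.2, p.2⟩⟩
        invFun := fun s => ⟨(s.1, s.2.1), s.2.2⟩
        left_inv := fun p => rfl
        right_inv := fun s => rfl }
    rw [Nat.card_congr e, Nat.card_sigma]
    rw [Finset.sum_congr rfl (fun q _ => hcoset q), Finset.sum_const, Finset.card_univ,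
      smul_eq_mul, ← Nat.card_eq_fintype_card, Subgroup.index]
  rw [mul_comm, ← h1, h2]

end Cfsg.Agent.S1019
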