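import Mathlib
import Cfsg.Statements.S0698
import Cfsg.Agent.Lib.Helper10.JordanNormal

set_option autoImplicit false
open Cfsg

namespace Cfsg.Agent.S0698

/-- Jordan's Theorem on normal subgroups of multiply transitive groups: if `G` is `k`-transitive (`k > 1`) of degree greater than `k`, a non-trivial normal subgroup is `(k-1)`-transitive, except possibly for `k = 3` when it may be an elementary abelian 2-group. -/
theorem result {α : Type*} [Fintype α] [DecidableEq α] (G : Subgroup (Equiv.Perm α)) {k : ℕ} (hk : 1 < k) (hdeg : k < Fintype.card α) (hG : MulAction.IsMultiplyPretransitive G α k) (N : Subgroup G) [N.Normal] (hN : N ≠ ⊥) : MulAction.IsMultiplyPretransitive N α (k - 1) ∨ (k = 3 ∧ IsMulCommutative N ∧ ∀ n ∈ N, n ^ 2 = 1) := by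
  classical
  open Cfsg.Agent.Lib.Helper10 in
  have hFT : FT G ∅ k := by
    intro x y hx hy _ _
    obtain ⟨g, hg⟩ := MulAction.exists_smul_eq G (⟨x, hx⟩ : Fin k ↪ α) ⟨y, hy⟩
    refine ⟨g.1, g.2, fun r => ?_⟩
    have := DFunLike.congr_fun hg r
    exact this
  open Cfsg.Agent.Lib.Helper10 in
  have hfix : Fixes G ∅ := fun g _ f hf => absurd hf (Finset.notMem_empty f)
  have hle : N.map G.subtype ≤ G := by
    rintro _ ⟨n, _, rfl⟩
    exact n.2
  have hnorm : ∀ g ∈ G, ∀ n ∈ N.map G.subtype, g * n * g⁻¹ ∈ N.map G.subtype := by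
    rintro g hg _ ⟨n, hn, rfl⟩
    refine ⟨⟨g, hg⟩ * n * ⟨g, hg⟩⁻¹, ‹N.Normal›.conj_mem n hn ⟨g, hg⟩, ?_⟩
    simp
  have hNne : N.map G.subtype ≠ ⊥ := by
    intro h
    apply hN
    rw [Subgroup.eq_bot_iff_forall]
    intro n hn
    have : G.subtype n ∈ N.map G.subtype := ⟨n, hn, rfl⟩
    rw [h, Subgroup.mem_bot] at this
    exact Subtype.ext this
  rcases Cfsg.Agent.Lib.Helper10.jordan_aux k hk G (N.map G.subtype) ∅ hfix (by simpa using hdeg)
    hFT hle hnorm hNne with h | ⟨hk3, hexp⟩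
  · left
    refine ⟨fun x y => ?_⟩
    obtain ⟨g, ⟨n, hn, rfl⟩, hg⟩ := h x y x.injective y.injective
      (fun r => Finset.notMem_empty _) (fun r => Finset.notMem_empty _)
    refine ⟨⟨n, hn⟩, ?_⟩
    ext r
    exact hg r
  · right
    have hexpN : ∀ n ∈ N, n ^ 2 = 1 := by
      intro n hn
      have := hexp (G.subtype n) ⟨n, hn, rfl⟩
      apply Subtype.ext
      simpa using this
    refine ⟨hk3, ⟨⟨fun x y => ?_⟩⟩, hexpN⟩
    have h1 := hexpN x.1 x.2
    have h2 := hexpN y.1 y.2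
    have h3 := hexpN (x.1 * y.1) (N.mul_mem x.2 y.2)
    rw [pow_two] at h1 h2 h3
    have e1 : (x.1 * y.1)⁻¹ = x.1 * y.1 := inv_eq_of_mul_eq_one_right h3
    have e2 : x.1⁻¹ = x.1 := inv_eq_of_mul_eq_one_right h1
    have e3 : y.1⁻¹ = y.1 := inv_eq_of_mul_eq_one_right h2
    apply Subtype.ext
    show x.1 * y.1 = y.1 * x.1
    rw [← e1, mul_inv_rev, e2, e3]

end Cfsg.Agent.S0698
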