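import Mathlib
import Cfsg.Statements.S0042
import Cfsg.Agent.S0033
import Cfsg.Agent.Lib.Helper13.FrobStruct

set_option autoImplicit false
open Cfsg

namespace Cfsg.Agent.S0042

open Cfsg.Agent.Lib.Helper13

theorem main {G : Type*} [Group G] [Finite G] (H : Subgroup G)
    (hH : Cfsg.IsFrobeniusComplement H) :
    ∃ N : Subgroup G, (N : Set G) = Cfsg.frobeniusKernel H ∧ N.Normal ∧ Group.IsNilpotent N := by
  obtain ⟨N, hF⟩ := exists_frobData H hH
  have hNn := hF.normal
  refine ⟨N, ?_, hNn, ?_⟩
  · ext x
    rw [SetLike.mem_coe, hF.mem]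
    rfl
  · -- an element of prime order in `H`
    have hHne : H ≠ ⊥ := hH.1
    have hcard : Nat.card H ≠ 1 := fun h => hHne (Subgroup.card_eq_one.mp h)
    obtain ⟨q, hq, hqd⟩ := Nat.exists_prime_and_dvd hcard
    have hqf : Fact q.Prime := ⟨hq⟩
    obtain ⟨h, hh⟩ := exists_prime_orderOf_dvd_card' q hqd
    have hh1 : (h : G) ≠ 1 := by
      intro h1
      have : h = 1 := Subtype.ext h1
      rw [this, orderOf_one] at hh
      exact hq.one_lt.ne hh
    have hhq : (h : G) ^ q = 1 := by
      have : h ^ q = 1 := by rw [← hh]; exact pow_orderOf_eq_one h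
      have := congrArg Subtype.val this
      simpa using this
    have hfpf : MonoidHom.FixedPointFree
        ((MulAut.conjNormal (h : G) : N ≃* N) : N →* N) := by
      intro n hn
      have h1 : (h : G) * (n : G) * (h : G)⁻¹ = n := by
        have h0 : (MulAut.conjNormal (h : G) : N ≃* N) n = n := hn
        have := congrArg Subtype.val h0
        rwa [MulAut.conjNormal_apply] at this
      have h2 : (n : G) ∈ N ⊓ Subgroup.centralizer {(h : G)} := by
        refine Subgroup.mem_inf.mpr ⟨n.2, ?_⟩
        rw [Subgroup.mem_centralizer_iff]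
        intro y hy
        rw [Set.mem_singleton_iff] at hy
        rw [hy]
        have : (h : G) * (n : G) * (h : G)⁻¹ * (h : G) = (n : G) * (h : G) := by rw [h1]
        rw [← this]; group
      rw [hF.fpf (h : G) h.2 hh1, Subgroup.mem_bot] at h2
      exact Subtype.ext h2
    have hper : (⇑(MulAut.conjNormal (h : G) : N ≃* N))^[q] = id := by
      rw [← Cfsg.Agent.S0033.coe_pow_eq_iterate, ← map_pow, hhq, map_one]
      rfl
    exact fpf_nilpotent_aux q hq _ N rfl (MulAut.conjNormal (h : G)) hfpf hper

end Cfsg.Agent.S0042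

namespace Cfsg.Agent.S0042

/-- In a finite Frobenius group, the Frobenius kernel is (the carrier of) a normal subgroup which is nilpotent. -/
theorem result {G : Type*} [Group G] [Finite G] (H : Subgroup G) (hH : Cfsg.IsFrobeniusComplement H) :
    ∃ N : Subgroup G, (N : Set G) = Cfsg.frobeniusKernel H ∧ N.Normal ∧ Group.IsNilpotent N := by
  exact main H hH

end Cfsg.Agent.S0042
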