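import Cfsg.Statements.S4209
import Mathlib
import Cfsg.Agent.Lib.Helper22.HallPetrescu

set_option autoImplicit false
open Cfsg

namespace Cfsg.Agent.S4209

open Cfsg.Agent.Lib.Helper22

/-- class `< p` gives the regularity identity for all `n` (any group, not nec. finite) -/
theorem regular_of_class_lt {G : Type*} [Group G] {p : ℕ} (hp : p.Prime)
    (hcl : (⊤ : Subgroup G).lowerCentralSeries (p - 1) = ⊥) (a b : G) (n : ℕ) :
    ∃ c ∈ powerClosure p n ⁅Subgroup.closure ({a, b} : Set G), Subgroup.closure ({a, b} : Set G)⁆,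
      (a * b) ^ (p ^ n) = a ^ (p ^ n) * b ^ (p ^ n) * c := by
  set H := Subgroup.closure ({a, b} : Set G) with hH
  have haH : a ∈ H := Subgroup.subset_closure (by simp)
  have hbH : b ∈ H := Subgroup.subset_closure (by simp)
  have hcK : (⊤ : Subgroup ↥H).lowerCentralSeries (p - 1) = ⊥ := by
    have h1 := Subgroup.top_subtype_lowerCentralSeries H (p - 1)
    have h2 : H.lowerCentralSeries (p - 1) ≤ (⊤ : Subgroup G).lowerCentralSeries (p - 1) :=
      Subgroup.lowerCentralSeries_mono (p - 1) le_top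
    rw [hcl, le_bot_iff] at h2
    rw [h2] at h1
    exact (Subgroup.map_eq_bot_iff_of_injective _ H.subtype_injective).mp h1
  have hHP := hall_petrescu ↥H (p - 1) hcK ⟨a, haH⟩ ⟨b, hbH⟩ (p ^ n)
  refine ⟨(b ^ (p ^ n))⁻¹ * (a ^ (p ^ n))⁻¹ * (a * b) ^ (p ^ n), ?_, by group⟩
  have hle : Subgroup.closure
      {z : ↥H | ∃ j t, 2 ≤ j ∧ j ≤ p - 1 ∧ t ∈ (⊤ : Subgroup ↥H).lowerCentralSeries (j - 1) ∧
        z = t ^ ((p ^ n).choose j)} ≤ (powerClosure p n ⁅H, H⁆).comap H.subtype := by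
    rw [Subgroup.closure_le]
    rintro z ⟨j, t, hj2, hjp, ht, rfl⟩
    obtain ⟨m, hm⟩ := prime_pow_dvd_choose hp n j (by omega) (by have := hp.two_le; omega)
    have ht1 : t ∈ (⊤ : Subgroup ↥H).lowerCentralSeries 1 :=
      Subgroup.lowerCentralSeries_antitone _ (by omega : 1 ≤ j - 1) ht
    have ht2 : (t : G) ∈ ⁅H, H⁆ := by
      have h1 := Subgroup.top_subtype_lowerCentralSeries H 1
      have : (t : G) ∈ ((⊤ : Subgroup ↥H).lowerCentralSeries 1).map H.subtype :=
        ⟨t, ht1, rfl⟩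
      rw [h1] at this
      exact this
    show ((t ^ ((p ^ n).choose j) : ↥H) : G) ∈ powerClosure p n ⁅H, H⁆
    rw [hm, mul_comm, pow_mul]
    apply Subgroup.subset_closure
    exact ⟨(t : G) ^ m, pow_mem ht2 m, by simp⟩
  have h3 := hle hHP
  rw [Subgroup.mem_comap] at h3
  exact h3

theorem result {G : Type*} [Group G] [Finite G] {p : ℕ} [Fact p.Prime] (hG : IsPGroup p G) (hcl : (⊤ : Subgroup G).lowerCentralSeries (p - 1) = ⊥) : Cfsg.IsRegularPGroup p G :=
  ⟨hG, fun a b n => regular_of_class_lt (Fact.out) hcl a b n⟩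

end Cfsg.Agent.S4209
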