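import Cfsg.Statements.S0124
import Mathlib
import Cfsg.Agent.S4209
import Cfsg.Agent.Lib.Helper14.RegularP

set_option autoImplicit false
open Cfsg

namespace Cfsg.Agent.S0124

/-- in a regular `p`-group the elements with `x ^ p = 1` are closed under products, hence
the subgroup they generate has exponent dividing `p` -/
theorem omega_exp_of_regular {R : Type*} [Group R] [Finite R] {p : ℕ} [Fact p.Prime]
    (hreg : Cfsg.IsRegularPGroup p R) (g : R) (hg : g ∈ Subgroup.closure {x : R | x ^ p = 1}) :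
    g ^ p = 1 := by
  have key : ∀ x y : R, x ^ p = 1 → y ^ p = 1 → (x * y) ^ p = 1 := by
    intro x y hx hy
    have h := Cfsg.Agent.Lib.Helper14.regular_pow_eq_iff p 1 (Nat.card R) R rfl hreg x y⁻¹
    rw [inv_inv, pow_one] at h
    exact h.mp (by rw [hx, inv_pow, hy, inv_one])
  induction hg using Subgroup.closure_induction with
  | mem x hx => exact hx
  | one => exact one_pow _
  | mul x y _ _ hx hy => exact key x y hx hy
  | inv x _ hx => rw [inv_pow, hx, inv_one]

theorem lcs_three_eq {R : Type*} [Group R] :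
    (⊤ : Subgroup R).lowerCentralSeries 3 = ⁅⁅commutator R, (⊤ : Subgroup R)⁆, (⊤ : Subgroup R)⁆ := rfl

theorem result {R : Type*} [Group R] [Finite R] {p : ℕ} [Fact p.Prime] (hp : 3 < p) (hR : IsPGroup p R) (hcl : ⁅⁅commutator R, (⊤ : Subgroup R)⁆, (⊤ : Subgroup R)⁆ = ⊥) (g : R) (hg : g ∈ Subgroup.closure {x : R | x ^ p = 1}) : g ^ p = 1 := by
  have h3 : (⊤ : Subgroup R).lowerCentralSeries (p - 1) = ⊥ := by
    have h1 : (⊤ : Subgroup R).lowerCentralSeries (p - 1) ≤ (⊤ : Subgroup R).lowerCentralSeries 3 :=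
      Subgroup.lowerCentralSeries_antitone _ (by omega)
    rw [lcs_three_eq, hcl] at h1
    exact le_bot_iff.mp h1
  exact omega_exp_of_regular (Cfsg.Agent.S4209.result hR h3) g hg

end Cfsg.Agent.S0124
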