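import Cfsg.Statements.S3872
import Mathlib
import Cfsg.Agent.S0124
import Cfsg.Agent.Lib.Helper17.LowerCentral
import Cfsg.Agent.Lib.Lead.UniqueOrderP

set_option autoImplicit false
open Cfsg

namespace Cfsg.Agent.S3872

/-- in a `p`-group a strict inclusion of subgroups costs a factor `p` -/
theorem card_mul_le_of_lt {G : Type*} [Group G] [Finite G] {p : ℕ} (hp : p.Prime)
    (hG : IsPGroup p G) (A B : Subgroup G) (hAB : A < B) : p * Nat.card A ≤ Nat.card B := by
  haveI : Fact p.Prime := ⟨hp⟩
  obtain ⟨m, hm⟩ := Subgroup.card_dvd_of_le hAB.le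
  have hlt : Nat.card A < Nat.card B := by
    apply lt_of_le_of_ne (Subgroup.card_le_of_le hAB.le)
    intro h
    have := Subgroup.eq_of_le_of_card_ge hAB.le (le_of_eq h.symm)
    exact absurd this hAB.ne
  have hApos : 0 < Nat.card A := Nat.card_pos
  have hm1 : m ≠ 1 := by
    intro h; rw [h, mul_one] at hm; omega
  obtain ⟨k, hk⟩ := (hG.to_subgroup B).exists_card_eq
  have hmdvd : m ∣ p ^ k := by rw [← hk, hm]; exact dvd_mul_left m _
  obtain ⟨i, -, hi⟩ := (Nat.dvd_prime_pow hp).mp hmdvd
  have hi0 : i ≠ 0 := by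
    intro h; rw [h, pow_zero] at hi; exact hm1 hi
  have hpm : p ≤ m := by
    rw [hi]
    calc p = p ^ 1 := (pow_one p).symm
      _ ≤ p ^ i := Nat.pow_le_pow_right hp.pos (by omega)
  rw [hm, mul_comm]
  exact Nat.mul_le_mul_left _ hpm

theorem result {G : Type*} [Group G] [Finite G] {p : ℕ} [Fact p.Prime] (hG : IsPGroup p G)
    (hnc : ¬ (∃ H : Subgroup G, (H : Set G) = {g : G | g ^ p = 1})) (hsub : ∀ K : Subgroup G, K ≠ ⊤ → (∃ H : Subgroup ↥K, (H : Set ↥K) = {g : ↥K | g ^ p = 1}))
    (hquo : ∀ (N : Subgroup G) [N.Normal], N ≠ ⊥ → (∃ H : Subgroup (G ⧸ N), (H : Set (G ⧸ N)) = {g : (G ⧸ N) | g ^ p = 1})) :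
    (∃ x y : G, Subgroup.closure ({x, y} : Set G) = ⊤) ∧ (⊤ : Subgroup G).lowerCentralSeries (p - 1) ≠ ⊥ ∧
      Monoid.exponent G = p ^ 2 ∧ IsCyclic ↥(Subgroup.center G) ∧ p ^ (p + 1) ≤ Nat.card G := by
  have hp : p.Prime := Fact.out
  have hxy : ∃ x y : G, x ^ p = 1 ∧ y ^ p = 1 ∧ (x * y) ^ p ≠ 1 := by
    by_contra hcon
    push Not at hcon
    apply hnc
    exact ⟨{ carrier := {g | g ^ p = 1}
             mul_mem' := fun {a b} ha hb => hcon a b ha hb
             one_mem' := one_pow p
             inv_mem' := fun {a} ha => by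
               show (a⁻¹) ^ p = 1
               rw [inv_pow, show a ^ p = 1 from ha, inv_one] }, rfl⟩
  obtain ⟨x, y, hx, hy, hxy⟩ := hxy
  -- (1) generation
  have hgen : Subgroup.closure ({x, y} : Set G) = ⊤ := by
    by_contra hne
    obtain ⟨H, hH⟩ := hsub _ hne
    have hxK : x ∈ Subgroup.closure ({x, y} : Set G) := Subgroup.subset_closure (by simp)
    have hyK : y ∈ Subgroup.closure ({x, y} : Set G) := Subgroup.subset_closure (by simp)
    have h1 : (⟨x, hxK⟩ : ↥(Subgroup.closure ({x, y} : Set G))) ∈ H := by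
      rw [← SetLike.mem_coe, hH]
      exact Subtype.ext (by simpa using hx)
    have h2 : (⟨y, hyK⟩ : ↥(Subgroup.closure ({x, y} : Set G))) ∈ H := by
      rw [← SetLike.mem_coe, hH]
      exact Subtype.ext (by simpa using hy)
    have h3 := H.mul_mem h1 h2
    rw [← SetLike.mem_coe, hH] at h3
    apply hxy
    have h4 := congrArg (fun z : ↥(Subgroup.closure ({x, y} : Set G)) => (z : G)) h3
    simpa using h4
  -- (2) class
  have hclass : (⊤ : Subgroup G).lowerCentralSeries (p - 1) ≠ ⊥ := by
    intro hcl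
    have hreg := Cfsg.Agent.S4209.result hG hcl
    apply hxy
    apply Cfsg.Agent.S0124.omega_exp_of_regular hreg
    exact mul_mem (Subgroup.subset_closure hx) (Subgroup.subset_closure hy)
  -- central subgroups of order p
  have hcentral : ∀ N : Subgroup G, N ≤ Subgroup.center G → Nat.card N = p →
      (∀ g : G, g ^ p ∈ N) := by
    intro N hNZ hNp g
    haveI : N.Normal := ⟨fun n hn k => by
      have := (Subgroup.mem_center_iff.mp (hNZ hn)) k
      rw [this, mul_inv_cancel_right]; exact hn⟩
    have hNne : N ≠ ⊥ := by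
      intro h
      rw [h, Subgroup.card_bot] at hNp
      exact hp.one_lt.ne hNp
    obtain ⟨Ω, hΩ⟩ := hquo N hNne
    have hxΩ : (QuotientGroup.mk x : G ⧸ N) ∈ Ω := by
      rw [← SetLike.mem_coe, hΩ]
      show (QuotientGroup.mk x : G ⧸ N) ^ p = 1
      rw [← QuotientGroup.mk_pow, hx]; rfl
    have hyΩ : (QuotientGroup.mk y : G ⧸ N) ∈ Ω := by
      rw [← SetLike.mem_coe, hΩ]
      show (QuotientGroup.mk y : G ⧸ N) ^ p = 1
      rw [← QuotientGroup.mk_pow, hy]; rfl
    have htop : Ω = ⊤ := by
      rw [eq_top_iff]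
      have h1 : (Subgroup.closure ({x, y} : Set G)).map (QuotientGroup.mk' N) ≤ Ω := by
        rw [MonoidHom.map_closure, Subgroup.closure_le]
        rintro _ ⟨z, hz, rfl⟩
        rcases hz with rfl | rfl
        · exact hxΩ
        · exact hyΩ
      rw [hgen, ← MonoidHom.range_eq_map,
        MonoidHom.range_eq_top.mpr (QuotientGroup.mk'_surjective N)] at h1
      exact h1
    have hg : (QuotientGroup.mk g : G ⧸ N) ∈ Ω := by rw [htop]; exact Subgroup.mem_top _
    rw [← SetLike.mem_coe, hΩ] at hg
    have hg' : (QuotientGroup.mk g : G ⧸ N) ^ p = 1 := hg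
    rw [← QuotientGroup.mk_pow, QuotientGroup.eq_one_iff] at hg'
    exact hg'
  -- existence of a central subgroup of order p
  haveI : Nontrivial G := by
    refine ⟨⟨x * y, 1, ?_⟩⟩
    intro h
    apply hxy
    rw [h, one_pow]
  have hZnt : Nontrivial ↥(Subgroup.center G) := hG.center_nontrivial
  have hpZ : p ∣ Nat.card ↥(Subgroup.center G) := by
    rcases (hG.to_subgroup (Subgroup.center G)).card_eq_or_dvd with h | h
    · exact absurd ((Nat.card_eq_one_iff_unique.mp h).1) (not_subsingleton _)
    · exact h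
  obtain ⟨z, hz⟩ := exists_prime_orderOf_dvd_card' p hpZ
  have hzord : orderOf (z : G) = p := by rw [Subgroup.orderOf_coe]; exact hz
  have hN0 : Subgroup.zpowers (z : G) ≤ Subgroup.center G := by
    rw [Subgroup.zpowers_le]; exact z.2
  have hN0card : Nat.card (Subgroup.zpowers (z : G)) = p := by rw [Nat.card_zpowers, hzord]
  -- (3) exponent
  have hexp2 : ∀ g : G, g ^ (p ^ 2) = 1 := by
    intro g
    have h1 := hcentral _ hN0 hN0card g
    rw [pow_two, pow_mul]
    have h2 : (⟨g ^ p, h1⟩ : Subgroup.zpowers (z : G)) ^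
        (Nat.card (Subgroup.zpowers (z : G))) = 1 := pow_card_eq_one'
    rw [hN0card] at h2
    exact congrArg (fun w : Subgroup.zpowers (z : G) => (w : G)) h2
  have hexp : Monoid.exponent G = p ^ 2 := by
    have hdvd : Monoid.exponent G ∣ p ^ 2 := Monoid.exponent_dvd_of_forall_pow_eq_one hexp2
    obtain ⟨i, hi, hiexp⟩ := (Nat.dvd_prime_pow hp).mp hdvd
    rcases Nat.lt_or_ge i 2 with hlt | hge
    · exfalso
      apply hxy
      have h1 : Monoid.exponent G ∣ p := by
        rw [hiexp]
        calc p ^ i ∣ p ^ 1 := pow_dvd_pow p (by omega)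
          _ = p := pow_one p
      obtain ⟨m, hm⟩ := h1
      rw [hm, pow_mul, Monoid.pow_exponent_eq_one, one_pow]
    · have : i = 2 := by omega
      rw [hiexp, this]
  -- (4) centre cyclic
  have hw : ∀ N : Subgroup G, N ≤ Subgroup.center G → Nat.card N = p →
      N = Subgroup.zpowers ((x * y) ^ p) := by
    intro N hNZ hNp
    have h1 := hcentral N hNZ hNp (x * y)
    symm
    apply Subgroup.eq_of_le_of_card_ge
    · rw [Subgroup.zpowers_le]; exact h1
    · rw [hNp, Nat.card_zpowers]
      have h2 : ((x * y) ^ p) ^ p = 1 := by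
        rw [← pow_mul, ← pow_two]; exact hexp2 _
      rw [orderOf_eq_prime h2 hxy]
  have hcyc : IsCyclic ↥(Subgroup.center G) := by
    apply Cfsg.Agent.Lib.Lead.UniqueOrderP.abelian_cyclic (hG.to_subgroup _)
    · intro a b
      exact Subtype.ext (Subgroup.mem_center_iff.mp b.2 a)
    · intro H K hH hK
      have h1 : Nat.card (H.map (Subgroup.center G).subtype) = p := by
        rw [Subgroup.card_map_of_injective (Subgroup.subtype_injective _)]; exact hH
      have h2 : Nat.card (K.map (Subgroup.center G).subtype) = p := by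
        rw [Subgroup.card_map_of_injective (Subgroup.subtype_injective _)]; exact hK
      have h3 := hw _ (Subgroup.map_subtype_le H) h1
      have h4 := hw _ (Subgroup.map_subtype_le K) h2
      exact Subgroup.map_injective (Subgroup.subtype_injective _) (h3.trans h4.symm)
  -- (5) order
  haveI : Group.IsNilpotent G := hG.isNilpotent
  have hLne : ∀ k ≤ p - 1, (⊤ : Subgroup G).lowerCentralSeries k ≠ ⊥ := by
    intro k hk h
    apply hclass
    have := Subgroup.lowerCentralSeries_antitone (⊤ : Subgroup G) hk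
    rw [h] at this
    exact le_bot_iff.mp this
  have hchain : ∀ j ≤ p - 1, p ^ (j + 1) ≤
      Nat.card ((⊤ : Subgroup G).lowerCentralSeries (p - 1 - j)) := by
    intro j
    induction j with
    | zero =>
      intro _
      rw [Nat.sub_zero, zero_add, pow_one]
      have h1 := card_mul_le_of_lt hp hG ⊥ _ (bot_lt_iff_ne_bot.mpr hclass)
      rwa [Subgroup.card_bot, mul_one] at h1
    | succ j ih =>
      intro hj
      have h1 := ih (by omega)
      have hlt := Cfsg.Agent.Lib.Helper17.lowerCentralSeries_succ_lt (G := G) (p - 1 - (j + 1))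
        (hLne _ (by omega))
      have e : p - 1 - (j + 1) + 1 = p - 1 - j := by omega
      rw [e] at hlt
      have h2 := card_mul_le_of_lt hp hG _ _ hlt
      calc p ^ (j + 1 + 1) = p * p ^ (j + 1) := by ring
        _ ≤ p * Nat.card ((⊤ : Subgroup G).lowerCentralSeries (p - 1 - j)) :=
          Nat.mul_le_mul_left _ h1
        _ ≤ _ := h2
  have hp2 : 2 ≤ p := hp.two_le
  have hL1 : p ^ (p - 1) ≤ Nat.card (commutator G) := by
    have := hchain (p - 2) (by omega)
    have e1 : p - 1 - (p - 2) = 1 := by omega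
    have e2 : p - 2 + 1 = p - 1 := by omega
    rw [e1, e2, Subgroup.top_lowerCentralSeries_one] at this
    exact this
  have hab : p ^ 2 ≤ Nat.card (G ⧸ commutator G) := by
    have hQ : IsPGroup p (G ⧸ commutator G) := hG.to_quotient _
    obtain ⟨m, hm⟩ := hQ.exists_card_eq
    have hncyc : ¬ IsCyclic (G ⧸ commutator G) := by
      intro hc
      have h1 := Cfsg.Agent.Lib.Helper17.commutator_eq_bot_of_isCyclic_quotient (G := G)
      have h2 := hLne 1 (by omega)
      rw [Subgroup.top_lowerCentralSeries_one] at h2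
      exact h2 h1
    rw [hm]
    apply Nat.pow_le_pow_right hp.pos
    by_contra hlt
    have hm' : m = 0 ∨ m = 1 := by omega
    rcases hm' with h | h
    · rw [h, pow_zero] at hm
      haveI : Subsingleton (G ⧸ commutator G) := (Nat.card_eq_one_iff_unique.mp hm).1
      exact hncyc isCyclic_of_subsingleton
    · rw [h, pow_one] at hm
      exact hncyc (isCyclic_of_prime_card hm)
  have hcardG : Nat.card G = Nat.card (G ⧸ commutator G) * Nat.card (commutator G) :=
    Subgroup.card_eq_card_quotient_mul_card_subgroup _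
  refine ⟨⟨x, y, hgen⟩, hclass, hexp, hcyc, ?_⟩
  rw [hcardG]
  calc p ^ (p + 1) = p ^ 2 * p ^ (p - 1) := by
        rw [← pow_add]; congr 1; omega
    _ ≤ _ := Nat.mul_le_mul hab hL1

end Cfsg.Agent.S3872
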