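import Cfsg.Statements.S0128
import Mathlib
import Cfsg.Agent.S3872
import Cfsg.Agent.S0124
import Cfsg.Agent.Lib.Lead.UniqueOrderP

set_option autoImplicit false
open Cfsg
open scoped commutatorElement

namespace Cfsg.Agent.S0128

universe u

theorem normal_of_le_center' {G : Type*} [Group G] (N : Subgroup G) (h : N ≤ Subgroup.center G) :
    N.Normal :=
  ⟨fun n hn k => by
    have := (Subgroup.mem_center_iff.mp (h hn)) k
    rw [this, mul_inv_cancel_right]; exact hn⟩

/-- a normal subgroup of order at most `p ^ k` of a `p`-group lies in the `k`-th centre -/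
theorem normal_le_upperCentralSeries {p : ℕ} [hp : Fact p.Prime] :
    ∀ (k : ℕ) (R : Type u) [Group R] [Finite R], IsPGroup p R → ∀ (N : Subgroup R) [N.Normal],
      Nat.card N ≤ p ^ k → N ≤ Subgroup.upperCentralSeries R k := by
  intro k
  induction k with
  | zero =>
    intro R _ _ hR N _ hN
    rw [pow_zero] at hN
    rw [(Subgroup.card_le_one_iff_eq_bot N).mp hN]
    exact bot_le
  | succ k ih =>
    intro R _ _ hR N _ hN
    by_cases hbot : N = ⊥
    · rw [hbot]; exact bot_le
    obtain ⟨z, hzN, hz1, hzZ⟩ :=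
      Cfsg.Agent.Lib.Lead.UniqueOrderP.exists_central_of_normal hR N hbot
    have hNbar : (N.map (QuotientGroup.mk' (Subgroup.center R))).Normal :=
      Subgroup.Normal.map inferInstance _ (QuotientGroup.mk'_surjective _)
    have hcard : Nat.card (N.map (QuotientGroup.mk' (Subgroup.center R))) ≤ p ^ k := by
      let f : ↥N →* R ⧸ Subgroup.center R := (QuotientGroup.mk' (Subgroup.center R)).comp N.subtype
      have hrange : f.range = N.map (QuotientGroup.mk' (Subgroup.center R)) := by
        rw [MonoidHom.range_comp, Subgroup.range_subtype]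
      have h1 := Subgroup.card_eq_card_quotient_mul_card_subgroup f.ker
      have h2 : Nat.card (↥N ⧸ f.ker) = Nat.card f.range :=
        Nat.card_congr (QuotientGroup.quotientKerEquivRange f).toEquiv
      have hkne : f.ker ≠ ⊥ := by
        intro h
        have hz : (⟨z, hzN⟩ : ↥N) ∈ f.ker := by
          rw [MonoidHom.mem_ker]
          show (QuotientGroup.mk z : R ⧸ Subgroup.center R) = 1
          exact (QuotientGroup.eq_one_iff z).mpr hzZ
        rw [h, Subgroup.mem_bot] at hz
        exact hz1 (congrArg (fun w : ↥N => (w : R)) hz)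
      have h3 := Cfsg.Agent.S3872.card_mul_le_of_lt hp.out (hR.to_subgroup N) ⊥ f.ker
        (bot_lt_iff_ne_bot.mpr hkne)
      rw [Subgroup.card_bot, mul_one] at h3
      rw [← hrange]
      have h4 : Nat.card f.range * p ≤ p ^ k * p := by
        calc Nat.card f.range * p ≤ Nat.card f.range * Nat.card f.ker := Nat.mul_le_mul_left _ h3
          _ = Nat.card ↥N := by rw [h1, h2]
          _ ≤ p ^ (k + 1) := hN
          _ = p ^ k * p := pow_succ p k
      exact Nat.le_of_mul_le_mul_right h4 hp.out.pos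
    have h1 := ih (R ⧸ Subgroup.center R) (hR.to_quotient _)
      (N.map (QuotientGroup.mk' (Subgroup.center R))) hcard
    have hcm := Subgroup.comap_upperCentralSeries_quotient_center (G := R) k
    rw [Nat.succ_eq_add_one] at hcm
    rw [← hcm]
    intro x hx
    exact h1 ⟨x, hx, rfl⟩

/-- a group of exponent `p` and `p`-rank at most two has order at most `p ^ 3` -/
theorem card_le_of_exp {p : ℕ} [hp : Fact p.Prime] (P : Type u) [Group P] [Finite P]
    (hexp : ∀ g : P, g ^ p = 1)
    (hrk : ∀ E : Subgroup P, IsElementaryAbelian p E → Nat.card E ≤ p ^ 2) :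
    Nat.card P ≤ p ^ 3 := by
  by_contra hlt
  push Not at hlt
  have hP : IsPGroup p P := fun g => ⟨1, by rw [pow_one]; exact hexp g⟩
  have hp1 : 1 < p := hp.out.one_lt
  haveI : Nontrivial P := by
    apply Finite.one_lt_card_iff_nontrivial.mp
    have : 1 ≤ p ^ 3 := Nat.one_le_pow _ _ hp.out.pos
    omega
  haveI := hP.center_nontrivial
  obtain ⟨z, hz⟩ := exists_ne (1 : ↥(Subgroup.center P))
  have hz1 : (z : P) ≠ 1 := fun h => hz (Subtype.ext h)
  have hNZ : Subgroup.zpowers (z : P) ≤ Subgroup.center P := by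
    rw [Subgroup.zpowers_le]; exact z.2
  haveI hNn : (Subgroup.zpowers (z : P)).Normal := normal_of_le_center' _ hNZ
  have hNcard : Nat.card (Subgroup.zpowers (z : P)) = p := by
    rw [Nat.card_zpowers, orderOf_eq_prime (hexp _) hz1]
  have hQcard : Nat.card (P ⧸ Subgroup.zpowers (z : P)) * p = Nat.card P := by
    rw [← hNcard]; exact (Subgroup.card_eq_card_quotient_mul_card_subgroup _).symm
  haveI : Nontrivial (P ⧸ Subgroup.zpowers (z : P)) := by
    apply Finite.one_lt_card_iff_nontrivial.mp
    by_contra h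
    have h1 : Nat.card (P ⧸ Subgroup.zpowers (z : P)) ≤ 1 := by omega
    have h2 : Nat.card P ≤ p := by
      rw [← hQcard]
      calc Nat.card (P ⧸ Subgroup.zpowers (z : P)) * p ≤ 1 * p := Nat.mul_le_mul_right _ h1
        _ = p := one_mul p
    have h3 : p ≤ p ^ 3 := by
      calc p = p ^ 1 := (pow_one p).symm
        _ ≤ p ^ 3 := Nat.pow_le_pow_right hp.out.pos (by omega)
    omega
  haveI := (hP.to_quotient (Subgroup.zpowers (z : P))).center_nontrivial
  obtain ⟨ebar, hebar⟩ := exists_ne (1 : ↥(Subgroup.center (P ⧸ Subgroup.zpowers (z : P))))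
  obtain ⟨e, he⟩ := QuotientGroup.mk_surjective (ebar : P ⧸ Subgroup.zpowers (z : P))
  have heN : e ∉ Subgroup.zpowers (z : P) := by
    intro h
    apply hebar
    apply Subtype.ext
    rw [← he]
    exact (QuotientGroup.eq_one_iff e).mpr h
  have hcomm : ∀ g : P, ⁅g, e⁆ ∈ Subgroup.zpowers (z : P) := by
    intro g
    rw [← QuotientGroup.eq_one_iff, commutatorElement_def]
    have h1 := Subgroup.mem_center_iff.mp ebar.2 (QuotientGroup.mk g)
    simp only [QuotientGroup.mk_mul, QuotientGroup.mk_inv, he]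
    rw [h1, mul_inv_cancel_right, mul_inv_cancel]
  let φ : P →* ↥(Subgroup.zpowers (z : P)) := MonoidHom.mk' (fun g => ⟨⁅g, e⁆, hcomm g⟩) (by
    intro g h
    apply Subtype.ext
    show ⁅g * h, e⁆ = ⁅g, e⁆ * ⁅h, e⁆
    have hc := Subgroup.mem_center_iff.mp (hNZ (hcomm h))
    have e1 : ⁅g * h, e⁆ = g * ⁅h, e⁆ * g⁻¹ * ⁅g, e⁆ := by
      simp only [commutatorElement_def]; group
    rw [e1, hc g, mul_inv_cancel_right]
    exact (hc ⁅g, e⁆).symm)
  have hφ : ∀ g, g ∈ φ.ker ↔ g * e = e * g := by
    intro g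
    rw [MonoidHom.mem_ker]
    show (⟨⁅g, e⁆, hcomm g⟩ : ↥(Subgroup.zpowers (z : P))) = 1 ↔ _
    rw [Subtype.ext_iff]
    show ⁅g, e⁆ = 1 ↔ _
    exact commutatorElement_eq_one_iff_mul_comm
  have hker : p ^ 2 < Nat.card φ.ker := by
    have h1 := Subgroup.card_eq_card_quotient_mul_card_subgroup φ.ker
    have h2 : Nat.card (P ⧸ φ.ker) = Nat.card φ.range :=
      Nat.card_congr (QuotientGroup.quotientKerEquivRange φ).toEquiv
    have h3 : Nat.card φ.range ≤ p := by
      rw [← hNcard]; exact Subgroup.card_le_card_group _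
    have h4 : Nat.card P ≤ p * Nat.card φ.ker := by
      rw [h1, h2]; exact Nat.mul_le_mul_right _ h3
    by_contra hle
    have h5 : Nat.card φ.ker ≤ p ^ 2 := by omega
    have h6 : Nat.card P ≤ p ^ 3 := by
      calc Nat.card P ≤ p * Nat.card φ.ker := h4
        _ ≤ p * p ^ 2 := Nat.mul_le_mul_left _ h5
        _ = p ^ 3 := by ring
    omega
  have hzc : ∀ w : P, (z : P) * w = w * z := fun w => (Subgroup.mem_center_iff.mp z.2 w).symm
  -- E = ⟨z, e⟩
  have hEel : IsElementaryAbelian p (Subgroup.closure ({(z : P), e} : Set P)) := by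
    refine ⟨Subgroup.isMulCommutative_closure ?_, fun a _ => hexp a⟩
    rintro a (rfl | rfl) b (rfl | rfl)
    · rfl
    · exact hzc _
    · exact (hzc _).symm
    · rfl
  have hEcard := hrk _ hEel
  have hEker : Subgroup.closure ({(z : P), e} : Set P) ≤ φ.ker := by
    rw [Subgroup.closure_le]
    rintro a (rfl | rfl)
    · exact (hφ _).mpr (hzc e)
    · exact (hφ _).mpr rfl
  obtain ⟨g, hgker, hgE⟩ : ∃ g ∈ φ.ker, g ∉ Subgroup.closure ({(z : P), e} : Set P) := by
    by_contra hcon
    push Not at hcon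
    have : Nat.card φ.ker ≤ Nat.card (Subgroup.closure ({(z : P), e} : Set P)) :=
      Subgroup.card_le_of_le hcon
    omega
  have hge : g * e = e * g := (hφ g).mp hgker
  have hFel : IsElementaryAbelian p (Subgroup.closure ({(z : P), e, g} : Set P)) := by
    refine ⟨Subgroup.isMulCommutative_closure ?_, fun a _ => hexp a⟩
    rintro a (rfl | rfl | rfl) b (rfl | rfl | rfl)
    · rfl
    · exact hzc _
    · exact hzc _
    · exact (hzc _).symm
    · rfl
    · exact hge.symm
    · exact (hzc _).symm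
    · exact hge
    · rfl
  have hFcard := hrk _ hFel
  have hNE : Subgroup.zpowers (z : P) < Subgroup.closure ({(z : P), e} : Set P) := by
    apply lt_of_le_of_ne
    · rw [Subgroup.zpowers_le]; exact Subgroup.subset_closure (by simp)
    · intro h
      apply heN
      rw [h]
      exact Subgroup.subset_closure (by simp)
  have hEF : Subgroup.closure ({(z : P), e} : Set P) <
      Subgroup.closure ({(z : P), e, g} : Set P) := by
    apply lt_of_le_of_ne
    · apply Subgroup.closure_mono
      intro a ha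
      rcases ha with rfl | rfl
      · simp
      · simp
    · intro h
      apply hgE
      rw [h]
      exact Subgroup.subset_closure (by simp)
  have h1 := Cfsg.Agent.S3872.card_mul_le_of_lt hp.out hP _ _ hNE
  have h2 := Cfsg.Agent.S3872.card_mul_le_of_lt hp.out hP _ _ hEF
  rw [hNcard] at h1
  have h3 : p ^ 3 ≤ Nat.card (Subgroup.closure ({(z : P), e, g} : Set P)) := by
    calc p ^ 3 = p * (p * p) := by ring
      _ ≤ p * Nat.card (Subgroup.closure ({(z : P), e} : Set P)) := Nat.mul_le_mul_left _ h1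
      _ ≤ _ := h2
  have h4 : p ^ 2 < p ^ 3 := Nat.pow_lt_pow_right hp1 (by omega)
  omega

theorem elemAb_map {R : Type*} [Group R] {p : ℕ} (M : Subgroup R) (E : Subgroup ↥M)
    (hE : IsElementaryAbelian p E) : IsElementaryAbelian p (E.map M.subtype) := by
  obtain ⟨hc, he⟩ := hE
  refine ⟨?_, ?_⟩
  · refine IsMulCommutative.of_setLike_mul_comm ?_
    rintro _ ⟨a, ha, rfl⟩ _ ⟨b, hb, rfl⟩
    have h1 : a * b = b * a := Subgroup.mul_comm_of_mem_isMulCommutative (H := E) ha hb
    have h2 := congrArg (fun w : ↥M => (w : R)) h1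
    exact h2
  · rintro _ ⟨a, ha, rfl⟩
    have := he a ha
    rw [← map_pow, this, map_one]

theorem main {p : ℕ} [hp : Fact p.Prime] (hp3 : 3 < p) :
    ∀ n : ℕ, ∀ (R : Type u) [Group R] [Finite R], Nat.card R = n → IsPGroup p R →
      (∀ E : Subgroup R, IsElementaryAbelian p E → Nat.card E ≤ p ^ 2) →
      ∀ x y : R, x ^ p = 1 → y ^ p = 1 → (x * y) ^ p = 1 := by
  intro n
  induction n using Nat.strong_induction_on with
  | _ n ih =>
  intro R _ _ hcard hR hrk x y hx hy
  have IH : ∀ M : Subgroup R, M ≠ ⊤ → ∀ u ∈ M, ∀ v ∈ M, u ^ p = 1 → v ^ p = 1 →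
      (u * v) ^ p = 1 := by
    intro M hM u hu v hv hu1 hv1
    have hlt : Nat.card M < n := by
      rw [← hcard]
      have hle : Nat.card M ≤ Nat.card R := Subgroup.card_le_card_group M
      rcases Nat.lt_or_ge (Nat.card M) (Nat.card R) with h | h
      · exact h
      · exact absurd (Subgroup.eq_top_of_card_eq M (le_antisymm hle h)) hM
    have hrkM : ∀ E : Subgroup ↥M, IsElementaryAbelian p E → Nat.card E ≤ p ^ 2 := by
      intro E hE
      have := hrk _ (elemAb_map M E hE)
      rwa [Subgroup.card_map_of_injective M.subtype_injective] at this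
    have h := ih (Nat.card M) hlt ↥M rfl (hR.to_subgroup M) hrkM ⟨u, hu⟩ ⟨v, hv⟩
      (Subtype.ext (by simpa using hu1)) (Subtype.ext (by simpa using hv1))
    have h2 := congrArg (fun w : ↥M => (w : R)) h
    simpa using h2
  by_cases hcomm : x * y = y * x
  · rw [(show Commute x y from hcomm).mul_pow, hx, hy, mul_one]
  by_cases hgen : Subgroup.closure ({x, y} : Set R) = ⊤
  swap
  · exact IH _ hgen x (Subgroup.subset_closure (by simp)) y (Subgroup.subset_closure (by simp))
      hx hy
  haveI : Group.IsNilpotent R := hR.isNilpotent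
  have hZ3 : ∀ u : R, u ^ p = 1 → u ∈ Subgroup.upperCentralSeries R 3 := by
    intro u hu
    have hne : Subgroup.zpowers u ≠ ⊤ := by
      intro h
      apply hcomm
      have hxu : x ∈ Subgroup.zpowers u := h ▸ Subgroup.mem_top x
      have hyu : y ∈ Subgroup.zpowers u := h ▸ Subgroup.mem_top y
      obtain ⟨i, rfl⟩ := Subgroup.mem_zpowers_iff.mp hxu
      obtain ⟨j, rfl⟩ := Subgroup.mem_zpowers_iff.mp hyu
      rw [← zpow_add, ← zpow_add, add_comm]
    obtain ⟨M, hMco, hle⟩ := (eq_top_or_exists_le_coatom (Subgroup.zpowers u)).resolve_left hne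
    have hMn : M.Normal := Subgroup.NormalizerCondition.normal_of_coatom M Group.normalizerCondition_of_isNilpotent hMco
    have hMne : M ≠ ⊤ := hMco.1
    let A : Subgroup R :=
      { carrier := {g | g ∈ M ∧ g ^ p = 1}
        mul_mem' := fun {a b} ha hb =>
          ⟨M.mul_mem ha.1 hb.1, IH M hMne a ha.1 b hb.1 ha.2 hb.2⟩
        one_mem' := ⟨M.one_mem, one_pow _⟩
        inv_mem' := fun {a} ha => ⟨M.inv_mem ha.1, by
          show (a⁻¹) ^ p = 1
          rw [inv_pow, ha.2, inv_one]⟩ }
    have hAmem : ∀ g, g ∈ A ↔ g ∈ M ∧ g ^ p = 1 := fun g => Iff.rfl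
    haveI hAn : A.Normal := by
      refine ⟨fun g hg r => ?_⟩
      rw [hAmem] at hg ⊢
      refine ⟨hMn.conj_mem g hg.1 r, ?_⟩
      rw [conj_pow, hg.2, mul_one, mul_inv_cancel]
    have hAcard : Nat.card A ≤ p ^ 3 := by
      apply card_le_of_exp ↥A
      · intro g
        exact Subtype.ext (by simpa using ((hAmem _).mp g.2).2)
      · intro E hE
        have := hrk _ (elemAb_map A E hE)
        rwa [Subgroup.card_map_of_injective A.subtype_injective] at this
    have hAle := normal_le_upperCentralSeries 3 R hR A hAcard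
    apply hAle
    rw [hAmem]
    exact ⟨hle (Subgroup.mem_zpowers u), hu⟩
  have htop : Subgroup.upperCentralSeries R 3 = ⊤ := by
    rw [eq_top_iff, ← hgen, Subgroup.closure_le]
    rintro w (rfl | rfl)
    · exact hZ3 _ hx
    · exact hZ3 _ hy
  have hl3 : (⊤ : Subgroup R).lowerCentralSeries 3 = ⊥ :=
    Subgroup.lowerCentralSeries_eq_bot_iff_upperCentralSeries_eq_top.mpr htop
  have hlp : (⊤ : Subgroup R).lowerCentralSeries (p - 1) = ⊥ := by
    have h1 : (⊤ : Subgroup R).lowerCentralSeries (p - 1) ≤ (⊤ : Subgroup R).lowerCentralSeries 3 :=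
      Subgroup.lowerCentralSeries_antitone _ (by omega)
    rw [hl3] at h1
    exact le_bot_iff.mp h1
  have hreg := Cfsg.Agent.S4209.result hR hlp
  apply Cfsg.Agent.S0124.omega_exp_of_regular hreg
  exact mul_mem (Subgroup.subset_closure hx) (Subgroup.subset_closure hy)

theorem result {R : Type*} [Group R] [Finite R] {p : ℕ} [Fact p.Prime] (hp : 3 < p) (hR : IsPGroup p R) (hrk : ∀ E : Subgroup R, Cfsg.IsElementaryAbelian p E → Nat.card E ≤ p ^ 2) (g : R) (hg : g ∈ Subgroup.closure {x : R | x ^ p = 1}) : g ^ p = 1 := by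
  induction hg using Subgroup.closure_induction with
  | mem x hx => exact hx
  | one => exact one_pow _
  | mul x y _ _ hx hy => exact main hp (Nat.card R) R rfl hR hrk x y hx hy
  | inv x _ hx => rw [inv_pow, hx, inv_one]

end Cfsg.Agent.S0128
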