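import Cfsg.Statements.S5345
import Mathlib

set_option autoImplicit false
open Cfsg

namespace Cfsg.Agent.S5345

/-- two members of `D` with product of 2-power order commute -/
theorem commute_of_two_group {G : Type*} [Group G] {D : Set G}
    (hD : Cfsg.IsThreeTranspositionSet D) {d e : G} (hd : d ∈ D) (he : e ∈ D)
    (h2 : ∃ k : ℕ, (d * e) ^ 2 ^ k = 1) : d * e = e * d := by
  obtain ⟨hord, h23⟩ := hD
  have hd2 : d * d = 1 := by
    have := hord d hd
    rw [← pow_two, ← this, pow_orderOf_eq_one]
  have he2 : e * e = 1 := by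
    have := hord e he
    rw [← pow_two, ← this, pow_orderOf_eq_one]
  have hde2 : (d * e) ^ 2 = 1 := by
    rcases h23 d hd e he with h | h
    · exact h
    · obtain ⟨k, hk⟩ := h2
      have h1 : orderOf (d * e) ∣ 2 ^ k := orderOf_dvd_of_pow_eq_one hk
      have h3 : orderOf (d * e) ∣ 3 := orderOf_dvd_of_pow_eq_one h
      have hcop : Nat.Coprime (2 ^ k) 3 := Nat.Coprime.pow_left k (by norm_num)
      have : orderOf (d * e) ∣ Nat.gcd (2 ^ k) 3 := Nat.dvd_gcd h1 h3
      rw [hcop] at this
      have h1' : d * e = 1 := orderOf_eq_one_iff.mp (Nat.dvd_one.mp this)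
      rw [h1', one_pow]
  have : d * e * (d * e) = 1 := by rw [← pow_two]; exact hde2
  calc d * e = d * e * (d * e) * (e * d) := by
        have : d * e * (e * d) = 1 := by
          calc d * e * (e * d) = d * (e * e) * d := by group
            _ = 1 := by rw [he2, mul_one, hd2]
        calc d * e = d * e * 1 := (mul_one _).symm
          _ = d * e * (d * e * (e * d)) := by rw [this]
          _ = d * e * (d * e) * (e * d) := by group
    _ = e * d := by rw [this, one_mul]

/-- Let D be a conjugation-invariant generating set of 3-transpositions of a finite group G and T a Sylow 2-subgroup of G. Then the members of D lying in T generate an abelian subgroup, and their number is the width of D (the largest number of pairwise commuting members of D). -/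
theorem result {G : Type*} [Group G] [Finite G] {D : Set G} (hD : Cfsg.IsThreeTranspositionGroup D) (T : Sylow 2 G) : IsMulCommutative (Subgroup.closure {d : G | d ∈ D ∧ d ∈ T}) ∧ {d : G | d ∈ D ∧ d ∈ T}.ncard = Cfsg.commutingWidth D := by
  obtain ⟨hD3, hconj, -⟩ := hD
  have hcommA : ∀ x ∈ {d : G | d ∈ D ∧ d ∈ T}, ∀ y ∈ {d : G | d ∈ D ∧ d ∈ T}, x * y = y * x := by
    rintro x ⟨hxD, hxT⟩ y ⟨hyD, hyT⟩
    apply commute_of_two_group hD3 hxD hyD
    obtain ⟨k, hk⟩ := T.isPGroup' ⟨x * y, (T : Subgroup G).mul_mem hxT hyT⟩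
    refine ⟨k, ?_⟩
    have := congrArg Subtype.val hk
    simpa using this
  refine ⟨Subgroup.isMulCommutative_closure hcommA, ?_⟩
  unfold Cfsg.commutingWidth
  set A : Set G := {d : G | d ∈ D ∧ d ∈ T} with hA
  have hAfin : A.Finite := Set.toFinite A
  -- bound
  have hbound : ∀ n ∈ {n : ℕ | ∃ E : Set G, E ⊆ D ∧ E.Finite ∧ (∀ a ∈ E, ∀ b ∈ E, Commute a b) ∧ E.ncard = n},
      n ≤ A.ncard := by
    rintro n ⟨E, hED, hEfin, hEc, rfl⟩
    -- closure E is a 2-group
    have hcommE : ∀ x ∈ E, ∀ y ∈ E, x * y = y * x := fun x hx y hy => hEc x hx y hy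
    haveI : IsMulCommutative (Subgroup.closure E) := Subgroup.isMulCommutative_closure hcommE
    have hsq : ∀ x ∈ Subgroup.closure E, x * x = 1 := by
      intro x hx
      induction hx using Subgroup.closure_induction with
      | mem x hx =>
        have := hD3.1 x (hED hx)
        rw [← pow_two, ← this, pow_orderOf_eq_one]
      | one => simp
      | mul x y hx hy ihx ihy =>
        have hc : x * y = y * x := by
          have := mul_comm' (⟨x, hx⟩ : Subgroup.closure E) ⟨y, hy⟩
          have h2 := congrArg Subtype.val this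
          simpa using h2
        calc x * y * (x * y) = x * (y * x) * y := by group
          _ = x * (x * y) * y := by rw [hc]
          _ = (x * x) * (y * y) := by group
          _ = 1 := by rw [ihx, ihy, one_mul]
      | inv x hx ih =>
        calc x⁻¹ * x⁻¹ = (x * x)⁻¹ := by group
          _ = 1 := by rw [ih, inv_one]
    have hP : IsPGroup 2 (Subgroup.closure E) := by
      intro g
      refine ⟨1, ?_⟩
      apply Subtype.ext
      have := hsq g.1 g.2
      simp only [pow_one, pow_two, Subgroup.coe_mul, Subgroup.coe_one]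
      exact this
    obtain ⟨Q, hQ⟩ := hP.exists_le_sylow
    obtain ⟨g, hg⟩ := MulAction.exists_smul_eq G Q T
    -- conjugation by g maps E into A
    have hmap : ∀ e ∈ E, g * e * g⁻¹ ∈ A := by
      intro e he
      refine ⟨hconj g e (hED he), ?_⟩
      have heQ : e ∈ (Q : Subgroup G) := hQ (Subgroup.subset_closure he)
      have : g * e * g⁻¹ ∈ ((g • Q : Sylow 2 G) : Subgroup G) := by
        rw [Sylow.coe_subgroup_smul]
        exact Subgroup.smul_mem_pointwise_smul e (MulAut.conj g) (Q : Subgroup G) heQ
      rw [hg] at this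
      exact this
    apply Set.ncard_le_ncard_of_injOn (fun e => g * e * g⁻¹) hmap _ hAfin
    intro x _ y _ hxy
    simpa using hxy
  have hmem : A.ncard ∈ {n : ℕ | ∃ E : Set G, E ⊆ D ∧ E.Finite ∧ (∀ a ∈ E, ∀ b ∈ E, Commute a b) ∧ E.ncard = n} :=
    ⟨A, fun x hx => hx.1, hAfin, fun a ha b hb => hcommA a ha b hb, rfl⟩
  apply le_antisymm
  · exact le_csSup ⟨A.ncard, hbound⟩ hmem
  · exact csSup_le ⟨A.ncard, hmem⟩ hbound

end Cfsg.Agent.S5345
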