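import Cfsg.Statements.S1122
import Mathlib
import Cfsg.Agent.Lib.Helper27.RankOneInv

set_option autoImplicit false
open Cfsg
open Cfsg.Agent.Lib.Helper28 Cfsg.Agent.Lib.Helper27.RankOne

namespace Cfsg.Agent.S1122

variable {G Ω : Type*} [Group G] [MulAction G Ω] {a : Ω} {t : G} {Q : Subgroup G}

/-- The involution predicate. -/
def IsInv (u : G) : Prop := u ≠ 1 ∧ u * u = 1

theorem isInv_conj {u : G} (g : G) : IsInv (g * u * g⁻¹) ↔ IsInv u := by
  constructor
  · rintro ⟨h1, h2⟩
    refine ⟨?_, ?_⟩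
    · rintro rfl; apply h1; group
    · have : u * u = g⁻¹ * ((g * u * g⁻¹) * (g * u * g⁻¹)) * g := by group
      rw [this, h2]; group
  · rintro ⟨h1, h2⟩
    refine ⟨?_, ?_⟩
    · intro h; apply h1
      have : u = g⁻¹ * (g * u * g⁻¹) * g := by group
      rw [this, h]; group
    · calc g * u * g⁻¹ * (g * u * g⁻¹) = g * (u * u) * g⁻¹ := by group
        _ = 1 := by rw [h2]; group

/-- Conjugation gives equal cardinalities. -/
theorem card_conj (g : G) (P P' : G → Prop) (h : ∀ u, P u ↔ P' (g * u * g⁻¹)) :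
    Nat.card {u // P u} = Nat.card {u // P' u} :=
  Nat.card_congr (Equiv.subtypeEquiv (MulAut.conj g).toEquiv (by
    intro u
    simpa using h u))

/-- Second part: `K`-conjugates. -/
theorem part2 [Finite G] (hS : Cfsg.IsRankOneSetup G Ω a t Q) {s s' : G}
    (hs : s ∈ Cfsg.involutionsIn (MulAction.stabilizer G a : Set G))
    (hs' : s' ∈ Cfsg.involutionsIn (MulAction.stabilizer G a : Set G)) :
    ∃ k ∈ Cfsg.invertedBy (MulAction.stabilizer G a ⊓ MulAction.stabilizer G (t • a)) t,
      k⁻¹ * s * k = s' := by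
  obtain ⟨hsa, hs1, hs2⟩ := hs
  obtain ⟨hs'a, hs'1, hs'2⟩ := hs'
  have ht2 := hS.mul_self
  have htinv : t⁻¹ = t := rk1_t_inv hS
  have hsa' : s • a = a := MulAction.mem_stabilizer_iff.mp hsa
  have hσ1 : t * s * t ≠ 1 := by
    intro h
    apply hs1
    have : s = t * (t * s * t) * t := by
      calc s = (t * t) * s * (t * t) := by rw [ht2, one_mul, mul_one]
        _ = t * (t * s * t) * t := by group
    rw [this, h, mul_one, ht2]
  have hσ2 : (t * s * t) * (t * s * t) = 1 := by
    calc t * s * t * (t * s * t) = t * s * (t * t) * s * t := by group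
      _ = t * (s * s) * t := by rw [ht2, mul_one]; group
      _ = 1 := by rw [hs2, mul_one, ht2]
  have hσfix : (t * s * t) • (t • a) = t • a := by
    simp only [mul_smul]; rw [rk1_tta hS, hsa']
  have hσnot : t * s * t ∉ MulAction.stabilizer G a := by
    intro h
    obtain ⟨e, -, heu⟩ := involution_fix_unique hS hσ1 hσ2
    have := heu _ (MulAction.mem_stabilizer_iff.mp h)
    rw [← heu _ hσfix] at this
    exact rk1_ta_ne hS this.symm
  have hodd := odd_orderOf_mul hS hs'a hs'1 hs'2 hσnot hσ2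
  obtain ⟨w, hw2, hw⟩ := exists_conj_of_odd hs'2 hσ2 hodd
  have hwinv : w⁻¹ = w := inv_eq_of_mul_eq_one_left hw2
  -- w • (t • a) = a
  have hwta : w • (t • a) = a := by
    apply involution_stab_fix_only hS hs'a hs'1 hs'2
    rw [← hw]
    simp only [mul_smul]
    rw [← mul_smul w w, hw2, one_smul]
    have := hσfix
    simp only [mul_smul] at this
    rw [this]
  have hwa : w • a = t • a := by
    calc w • a = w • (w • (t • a)) := by rw [hwta]
      _ = t • a := by rw [← mul_smul, hw2, one_smul]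
  refine ⟨t * w, ⟨?_, ?_⟩, ?_⟩
  · refine Subgroup.mem_inf.mpr ⟨?_, ?_⟩
    · rw [MulAction.mem_stabilizer_iff, mul_smul, hwa, rk1_tta hS]
    · rw [MulAction.mem_stabilizer_iff, mul_smul, hwta]
  · rw [mul_inv_rev, hwinv, htinv]
    calc t * (t * w) * t = (t * t) * w * t := by group
      _ = w * t := by rw [ht2, one_mul]
  · rw [mul_inv_rev, hwinv, htinv, ← hw]
    group

/-- Fibres by fixed point. -/
abbrev F1 (G : Type*) [Group G] {Ω : Type*} [MulAction G Ω] (b : Ω) : Type _ :=
  {u : G // IsInv u ∧ u • b = b}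

/-- Fibres by image of `a`. -/
abbrev F2 (G : Type*) [Group G] {Ω : Type*} [MulAction G Ω] (a b : Ω) : Type _ :=
  {u : G // IsInv u ∧ u • a = b}

noncomputable def E1 [Finite G] (hS : Cfsg.IsRankOneSetup G Ω a t Q) :
    (Σ b : Ω, F1 G b) ≃ {u : G // IsInv u} where
  toFun p := ⟨p.2.1, p.2.2.1⟩
  invFun u := ⟨Classical.choose (involution_fix_unique hS u.2.1 u.2.2).exists,
    ⟨u.1, u.2, Classical.choose_spec (involution_fix_unique hS u.2.1 u.2.2).exists⟩⟩
  left_inv := by
    rintro ⟨b, ⟨u, hu, hb⟩⟩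
    apply Sigma.subtype_ext
    · obtain ⟨e, -, he⟩ := involution_fix_unique hS hu.1 hu.2
      simp only
      rw [he _ (Classical.choose_spec (involution_fix_unique hS hu.1 hu.2).exists), he _ hb]
    · rfl
  right_inv := by
    rintro ⟨u, hu⟩
    rfl

def E2 (G : Type*) [Group G] {Ω : Type*} [MulAction G Ω] (a : Ω) :
    (Σ b : Ω, F2 G a b) ≃ {u : G // IsInv u} where
  toFun p := ⟨p.2.1, p.2.2.1⟩
  invFun u := ⟨u.1 • a, ⟨u.1, u.2, rfl⟩⟩
  left_inv := by
    rintro ⟨b, ⟨u, hu, hb⟩⟩
    apply Sigma.subtype_ext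
    · exact hb
    · rfl
  right_inv := by
    rintro ⟨u, hu⟩
    rfl

theorem card_F1 [Finite G] (hS : Cfsg.IsRankOneSetup G Ω a t Q) (b : Ω) :
    Nat.card (F1 G b) = Nat.card (F1 G a) := by
  have := pretransitive hS
  obtain ⟨g, hg⟩ := MulAction.exists_smul_eq G a b
  symm
  apply card_conj g
  intro u
  rw [isInv_conj]
  apply and_congr_right
  intro _
  rw [← hg]
  simp only [← mul_smul]
  rw [show g * u * g⁻¹ * g = g * u by group, mul_smul]
  exact ⟨fun h => by rw [h], fun h => MulAction.injective g h⟩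

theorem card_F2 (hS : Cfsg.IsRankOneSetup G Ω a t Q) (b : Ω) (hb : b ≠ a) :
    Nat.card (F2 G a b) = Nat.card (F2 G a (t • a)) := by
  obtain ⟨q, hq, hqb⟩ := rk1_exists_Q_smul hS hb
  have hqa : q⁻¹ • a = a := by
    have := MulAction.mem_stabilizer_iff.mp (hS.le hq)
    conv_lhs => rw [← this]
    rw [inv_smul_smul]
  symm
  apply card_conj q
  intro u
  rw [isInv_conj]
  apply and_congr_right
  intro _
  rw [← hqb]
  simp only [mul_smul]
  rw [hqa]
  exact ⟨fun h => by rw [h], fun h => MulAction.injective q h⟩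

theorem card_F2_ta (hS : Cfsg.IsRankOneSetup G Ω a t Q) :
    Nat.card (F2 G a (t • a)) =
      Nat.card (Cfsg.invertedBy (MulAction.stabilizer G a ⊓ MulAction.stabilizer G (t • a)) t) := by
  have ht2 := hS.mul_self
  have htinv : t⁻¹ = t := rk1_t_inv hS
  apply Nat.card_congr
  refine Equiv.subtypeEquiv (Equiv.mulLeft t) ?_
  intro u
  simp only [Equiv.coe_mulLeft]
  constructor
  · rintro ⟨⟨hu1, hu2⟩, hua⟩
    have huinv : u⁻¹ = u := inv_eq_of_mul_eq_one_left hu2
    refine ⟨Subgroup.mem_inf.mpr ⟨?_, ?_⟩, ?_⟩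
    · rw [MulAction.mem_stabilizer_iff, mul_smul, hua, rk1_tta hS]
    · rw [MulAction.mem_stabilizer_iff, mul_smul]
      have : u • (t • a) = a := by
        calc u • (t • a) = u • (u • a) := by rw [hua]
          _ = a := by rw [← mul_smul, hu2, one_smul]
      rw [this]
    · rw [mul_inv_rev, huinv, htinv]
      calc t * (t * u) * t = (t * t) * u * t := by group
        _ = u * t := by rw [ht2, one_mul]
  · rintro ⟨hD, hinv⟩
    have hD1 := MulAction.mem_stabilizer_iff.mp (Subgroup.mem_inf.mp hD).1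
    rw [mul_inv_rev, htinv] at hinv
    have h1 : u * t = u⁻¹ * t := by
      rw [← hinv]
      calc u * t = (t * t) * u * t := by rw [ht2, one_mul]
        _ = t * (t * u) * t := by group
    have h2 : u = u⁻¹ := mul_right_cancel h1
    have hu2 : u * u = 1 := by
      nth_rewrite 1 [h2]
      exact inv_mul_cancel u
    refine ⟨⟨?_, hu2⟩, ?_⟩
    · rintro rfl
      apply hS.not_mem
      rw [mul_one] at hD
      exact (Subgroup.mem_inf.mp hD).1
    · calc u • a = (t * t) • u • a := by rw [ht2, one_smul]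
        _ = t • (t * u) • a := by simp only [mul_smul]
        _ = t • a := by rw [hD1]

theorem card_F1_a :
    Nat.card (F1 G a) = Nat.card (Cfsg.involutionsIn (MulAction.stabilizer G a : Set G)) := by
  apply Nat.card_congr
  refine Equiv.subtypeEquivRight ?_
  intro u
  show (IsInv u ∧ u • a = a) ↔ (u ∈ (MulAction.stabilizer G a : Set G) ∧ u ≠ 1 ∧ u * u = 1)
  constructor
  · rintro ⟨⟨h1, h2⟩, h3⟩
    exact ⟨MulAction.mem_stabilizer_iff.mpr h3, h1, h2⟩
  · rintro ⟨h3, h1, h2⟩
    exact ⟨⟨h1, h2⟩, MulAction.mem_stabilizer_iff.mp h3⟩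

theorem part1 [Finite G] (hS : Cfsg.IsRankOneSetup G Ω a t Q) :
    Nat.card (Cfsg.invertedBy (MulAction.stabilizer G a ⊓ MulAction.stabilizer G (t • a)) t) =
      Nat.card (Cfsg.involutionsIn (MulAction.stabilizer G a : Set G)) := by
  classical
  have hfin := finite_Omega hS
  have := Fintype.ofFinite Ω
  rw [← card_F1_a, ← card_F2_ta hS]
  have hΩ : Fintype.card Ω = Nat.card Q + 1 := by
    rw [← Nat.card_eq_fintype_card]; exact card_Omega hS
  have c1 : Nat.card {u : G // IsInv u} = (Nat.card Q + 1) * Nat.card (F1 G a) := by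
    rw [← Nat.card_congr (E1 hS), Nat.card_sigma]
    rw [Finset.sum_congr rfl (fun b _ => card_F1 hS b), Finset.sum_const, Finset.card_univ, hΩ,
      smul_eq_mul]
  have c2 : Nat.card {u : G // IsInv u} =
      Nat.card (F1 G a) + Nat.card Q * Nat.card (F2 G a (t • a)) := by
    rw [← Nat.card_congr (E2 G a), Nat.card_sigma,
      ← Finset.add_sum_erase Finset.univ _ (Finset.mem_univ a)]
    rw [Finset.sum_congr rfl (fun b hb => card_F2 hS b (Finset.ne_of_mem_erase hb)),
      Finset.sum_const, Finset.card_erase_of_mem (Finset.mem_univ a), Finset.card_univ, hΩ,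
      smul_eq_mul, Nat.add_sub_cancel]
  have hQpos : 0 < Nat.card Q := Nat.card_pos
  have h3 : Nat.card Q * Nat.card (F2 G a (t • a)) = Nat.card Q * Nat.card (F1 G a) := by
    have := c1.symm.trans c2
    rw [add_mul, one_mul] at this
    omega
  exact Nat.eq_of_mul_eq_mul_left hQpos h3

theorem result {G Ω : Type*} [Group G] [Finite G] [MulAction G Ω] {a : Ω} {t : G} {Q : Subgroup G}
    (hS : Cfsg.IsRankOneSetup G Ω a t Q) :
    Nat.card (Cfsg.invertedBy (MulAction.stabilizer G a ⊓ MulAction.stabilizer G (t • a)) t) = Nat.card (Cfsg.involutionsIn (MulAction.stabilizer G a : Set G)) ∧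
      ∀ s ∈ Cfsg.involutionsIn (MulAction.stabilizer G a : Set G), ∀ s' ∈ Cfsg.involutionsIn (MulAction.stabilizer G a : Set G),
        ∃ k ∈ Cfsg.invertedBy (MulAction.stabilizer G a ⊓ MulAction.stabilizer G (t • a)) t, k⁻¹ * s * k = s' :=
  ⟨part1 hS, fun _ hs _ hs' => part2 hS hs hs'⟩

end Cfsg.Agent.S1122
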