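import Cfsg.Statements.S1126
import Cfsg.Agent.Lib.Helper28.RankOne

set_option autoImplicit false
open Cfsg
open Cfsg.Agent.Lib.Helper28

namespace Cfsg.Agent.S1126

variable {G Ω : Type*} [Group G] [MulAction G Ω] {a : Ω} {t : G} {Q : Subgroup G}

theorem lemA (hS : Cfsg.IsRankOneSetup G Ω a t Q) (X : Set G)
    (hX : X ⊆ ((MulAction.stabilizer G a ⊓ MulAction.stabilizer G (t • a)) : Set G))
    {e₁ e₂ : Ω} (h1 : e₁ ≠ a) (h2 : e₂ ≠ a) (hf1 : ∀ x ∈ X, x • e₁ = e₁) (hf2 : ∀ x ∈ X, x • e₂ = e₂) :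
    ∃ q ∈ Q, q • e₁ = e₂ ∧ ∀ x ∈ X, x * q = q * x := by
  obtain ⟨q₁, hq₁, hq₁e⟩ := rk1_exists_Q_smul hS h1
  obtain ⟨q₂, hq₂, hq₂e⟩ := rk1_exists_Q_smul hS h2
  have hqe : (q₂ * q₁⁻¹) • e₁ = e₂ := by
    rw [mul_smul, ← hq₁e, inv_smul_smul, hq₂e]
  have hqQ : q₂ * q₁⁻¹ ∈ Q := mul_mem hq₂ (inv_mem hq₁)
  refine ⟨q₂ * q₁⁻¹, hqQ, hqe, ?_⟩
  intro x hx
  have hxa : x ∈ MulAction.stabilizer G a := (hX hx).1
  have hc : x * (q₂ * q₁⁻¹) * x⁻¹ ∈ Q := hS.conj_mem x hxa _ hqQ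
  have hx1 : x⁻¹ • e₁ = e₁ := by
    conv_lhs => rw [← hf1 x hx]
    rw [inv_smul_smul]
  have : x * (q₂ * q₁⁻¹) * x⁻¹ = q₂ * q₁⁻¹ := by
    apply rk1_Q_unique hS h1 hc hqQ
    rw [mul_smul, mul_smul, hx1, hqe, hf2 x hx]
  calc x * (q₂ * q₁⁻¹) = x * (q₂ * q₁⁻¹) * x⁻¹ * x := by group
    _ = q₂ * q₁⁻¹ * x := by rw [this]

theorem lemB (hS : Cfsg.IsRankOneSetup G Ω a t Q) (X : Set G)
    (hX : X ⊆ ((MulAction.stabilizer G a ⊓ MulAction.stabilizer G (t • a)) : Set G))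
    {e₁ e₂ : Ω} (h1 : e₁ ≠ t • a) (h2 : e₂ ≠ t • a) (hf1 : ∀ x ∈ X, x • e₁ = e₁)
    (hf2 : ∀ x ∈ X, x • e₂ = e₂) :
    ∃ r : G, r • (t • a) = t • a ∧ r • e₁ = e₂ ∧ ∀ x ∈ X, x * r = r * x := by
  have htt : ∀ w : Ω, t • t • w = w := fun w => by rw [smul_smul, hS.mul_self, one_smul]
  have hne : ∀ e : Ω, e ≠ t • a → t • e ≠ a := by
    intro e he h
    apply he
    rw [← h, htt]
  have hX' : (fun x => t * x * t) '' X ⊆
      ((MulAction.stabilizer G a ⊓ MulAction.stabilizer G (t • a)) : Set G) := by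
    rintro _ ⟨x, hx, rfl⟩
    exact rk1_t_conj_mem hS (hX hx)
  have hf1' : ∀ y ∈ (fun x => t * x * t) '' X, y • (t • e₁) = t • e₁ := by
    rintro _ ⟨x, hx, rfl⟩
    rw [mul_smul, mul_smul, htt, hf1 x hx]
  have hf2' : ∀ y ∈ (fun x => t * x * t) '' X, y • (t • e₂) = t • e₂ := by
    rintro _ ⟨x, hx, rfl⟩
    rw [mul_smul, mul_smul, htt, hf2 x hx]
  obtain ⟨q, hq, hqe, hqc⟩ := lemA hS _ hX' (hne _ h1) (hne _ h2) hf1' hf2'
  have hqa : q • a = a := MulAction.mem_stabilizer_iff.mp (hS.le hq)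
  refine ⟨t * q * t, ?_, ?_, ?_⟩
  · rw [mul_smul, mul_smul, htt, hqa]
  · rw [mul_smul, mul_smul, hqe, htt]
  · intro x hx
    have h := hqc (t * x * t) ⟨x, hx, rfl⟩
    have ht2 := hS.mul_self
    calc x * (t * q * t) = (t * t) * x * (t * q * t) := by rw [ht2, one_mul]
      _ = t * ((t * x * t) * q) * t := by group
      _ = t * (q * (t * x * t)) * t := by rw [h]
      _ = t * q * t * x * (t * t) := by group
      _ = t * q * t * x := by rw [ht2, mul_one]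

/-- An element centralizing `X` and swapping `a` and `t • a`. -/
theorem exists_swap (hS : Cfsg.IsRankOneSetup G Ω a t Q) (X : Set G)
    (hX : X ⊆ ((MulAction.stabilizer G a ⊓ MulAction.stabilizer G (t • a)) : Set G))
    {b : Ω} (hba : b ≠ a) (hbt : b ≠ t • a) (hfb : ∀ x ∈ X, x • b = b) :
    ∃ g : G, g • a = t • a ∧ g • (t • a) = a ∧ ∀ x ∈ X, x * g = g * x := by
  have hta := rk1_ta_ne hS
  have hfa : ∀ x ∈ X, x • a = a := fun x hx => MulAction.mem_stabilizer_iff.mp (hX hx).1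
  have hft : ∀ x ∈ X, x • (t • a) = t • a := fun x hx => MulAction.mem_stabilizer_iff.mp (hX hx).2
  obtain ⟨q₁, hq₁, hq₁e, hq₁c⟩ := lemA hS X hX hta hba hft hfb
  obtain ⟨r₁, hr₁t, hr₁e, hr₁c⟩ := lemB hS X hX (Ne.symm hta) hbt hfa hfb
  have hq₁c' : ∀ x ∈ X, x * q₁⁻¹ = q₁⁻¹ * x := by
    intro x hx
    have := hq₁c x hx
    calc x * q₁⁻¹ = q₁⁻¹ * (q₁ * x) * q₁⁻¹ := by group
      _ = q₁⁻¹ * (x * q₁) * q₁⁻¹ := by rw [this]
      _ = q₁⁻¹ * x := by group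
  -- e = q₁⁻¹ • (t • a)
  have he_ne : q₁⁻¹ • (t • a) ≠ t • a := by
    intro h
    apply hbt
    rw [← hq₁e]
    conv_lhs => rw [← h]
    rw [smul_inv_smul]
  have hfe : ∀ x ∈ X, x • (q₁⁻¹ • (t • a)) = q₁⁻¹ • (t • a) := by
    intro x hx
    rw [← mul_smul, hq₁c' x hx, mul_smul, hft x hx]
  obtain ⟨r₂, hr₂t, hr₂e, hr₂c⟩ := lemB hS X hX he_ne (Ne.symm hta) hfe hfa
  refine ⟨r₂ * (q₁⁻¹ * r₁), ?_, ?_, ?_⟩
  · rw [mul_smul, mul_smul, hr₁e, ← hq₁e, inv_smul_smul, hr₂t]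
  · rw [mul_smul, mul_smul, hr₁t, hr₂e]
  · intro x hx
    calc x * (r₂ * (q₁⁻¹ * r₁)) = (x * r₂) * q₁⁻¹ * r₁ := by group
      _ = r₂ * (x * q₁⁻¹) * r₁ := by rw [hr₂c x hx]; group
      _ = r₂ * q₁⁻¹ * (x * r₁) := by rw [hq₁c' x hx]; group
      _ = r₂ * (q₁⁻¹ * r₁) * x := by rw [hr₁c x hx]; group

theorem result {G Ω : Type*} [Group G] [Finite G] [MulAction G Ω] {a : Ω} {t : G} {Q : Subgroup G}
    (hS : Cfsg.IsRankOneSetup G Ω a t Q)
    (X : Set G) (hX : X ⊆ ((MulAction.stabilizer G a ⊓ MulAction.stabilizer G (t • a)) : Set G))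
    (h3 : ∃ b c d : Ω, b ≠ c ∧ b ≠ d ∧ c ≠ d ∧ ∀ x ∈ X, x • b = b ∧ x • c = c ∧ x • d = d) :
    ∃ k ∈ (MulAction.stabilizer G a ⊓ MulAction.stabilizer G (t • a)), ∀ x ∈ X, (k * x * k⁻¹) * t = t * (k * x * k⁻¹) := by
  classical
  have hta := rk1_ta_ne hS
  have htinv := rk1_t_inv hS
  have ht2 := hS.mul_self
  -- a third fixed point
  obtain ⟨b, hba, hbt, hfb⟩ : ∃ b : Ω, b ≠ a ∧ b ≠ t • a ∧ ∀ x ∈ X, x • b = b := by
    obtain ⟨b, c, d, hbc, hbd, hcd, hf⟩ := h3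
    by_cases h1 : b ≠ a ∧ b ≠ t • a
    · exact ⟨b, h1.1, h1.2, fun x hx => (hf x hx).1⟩
    by_cases h2 : c ≠ a ∧ c ≠ t • a
    · exact ⟨c, h2.1, h2.2, fun x hx => (hf x hx).2.1⟩
    refine ⟨d, ?_, ?_, fun x hx => (hf x hx).2.2⟩
    · rintro rfl
      have hb : b = t • d := by
        by_contra hb
        exact h1 ⟨hbd, hb⟩
      have hc : c = t • d := by
        by_contra hc
        exact h2 ⟨hcd, hc⟩
      exact hbc (hb.trans hc.symm)
    · rintro rfl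
      have hb : b = a := by
        by_contra hb
        exact h1 ⟨hb, hbd⟩
      have hc : c = a := by
        by_contra hc
        exact h2 ⟨hc, hcd⟩
      exact hbc (hb.trans hc.symm)
  obtain ⟨g, hga, hgt, hgc⟩ := exists_swap hS X hX hba hbt hfb
  set D := MulAction.stabilizer G a ⊓ MulAction.stabilizer G (t • a) with hD
  have hodd := hS.odd_card
  obtain ⟨m, hm⟩ := hodd
  -- g^2 ∈ D
  have hg2 : g * g ∈ D := by
    refine Subgroup.mem_inf.mpr ⟨?_, ?_⟩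
    · rw [MulAction.mem_stabilizer_iff, mul_smul, hga, hgt]
    · rw [MulAction.mem_stabilizer_iff, mul_smul, hgt, hga]
  have hpowD : ∀ d ∈ D, d ^ (2 * m + 1) = 1 := by
    intro d hd
    have : (⟨d, hd⟩ : D) ^ Nat.card D = 1 := pow_card_eq_one'
    rw [hm] at this
    exact congrArg Subtype.val this
  -- (g*g)^k fixes a and ta
  have hgk : ∀ k : ℕ, (g * g) ^ k ∈ D := fun k => pow_mem hg2 k
  -- s = g ^ (2m+1)
  have hs_eq : g ^ (2 * m + 1) = g * (g * g) ^ m := by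
    rw [pow_succ', pow_mul, pow_two]
  have hs2 : g ^ (2 * m + 1) * g ^ (2 * m + 1) = 1 := by
    rw [← pow_add, ← two_mul, pow_mul, pow_two]
    exact hpowD _ hg2
  have hsa : g ^ (2 * m + 1) • a = t • a := by
    rw [hs_eq, mul_smul, MulAction.mem_stabilizer_iff.mp (hgk m).1, hga]
  have hst : g ^ (2 * m + 1) • (t • a) = a := by
    rw [hs_eq, mul_smul, MulAction.mem_stabilizer_iff.mp (hgk m).2, hgt]
  have hsc : ∀ x ∈ X, x * g ^ (2 * m + 1) = g ^ (2 * m + 1) * x := by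
    intro x hx
    exact ((Commute.pow_right (hgc x hx) _ : Commute x (g ^ (2 * m + 1)))).eq
  generalize g ^ (2 * m + 1) = s at hs2 hsa hst hsc
  -- d = s * t ∈ D
  have hdD : s * t ∈ D := by
    refine Subgroup.mem_inf.mpr ⟨?_, ?_⟩
    · rw [MulAction.mem_stabilizer_iff, mul_smul, hst]
    · rw [MulAction.mem_stabilizer_iff, mul_smul, rk1_tta hS, hsa]
  -- t * (s*t) * t = (s*t)⁻¹
  have hinv : t * (s * t) * t⁻¹ = (s * t)⁻¹ := by
    rw [htinv]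
    symm
    apply inv_eq_of_mul_eq_one_right
    calc s * t * (t * (s * t) * t) = s * (t * t) * s * (t * t) := by group
      _ = 1 := by rw [ht2, mul_one, mul_one, hs2]
  set d := s * t with hd
  -- e = d^(m+1)
  have he2 : d ^ (m + 1) * d ^ (m + 1) = d := by
    rw [← pow_add]
    have : m + 1 + (m + 1) = (2 * m + 1) + 1 := by ring
    rw [this, pow_succ, hpowD d hdD, one_mul]
  have heinv : t * d ^ (m + 1) * t⁻¹ = (d ^ (m + 1))⁻¹ := by
    rw [← conj_pow, hinv, inv_pow]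
  have heD : d ^ (m + 1) ∈ D := pow_mem hdD _
  generalize d ^ (m + 1) = e at he2 heinv heD
  have hs_e : s = e * t * e⁻¹ := by
    have h1 : s = d * t := by
      rw [hd, mul_assoc, ht2, mul_one]
    have h2 : e * t = t * e⁻¹ := by
      rw [← heinv, htinv]
      calc e * t = (t * t) * e * t := by rw [ht2, one_mul]
        _ = t * (t * e * t) := by group
    calc s = d * t := h1
      _ = e * (e * t) := by rw [← he2, mul_assoc]
      _ = e * (t * e⁻¹) := by rw [h2]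
      _ = e * t * e⁻¹ := by rw [mul_assoc]
  refine ⟨e⁻¹, inv_mem heD, ?_⟩
  intro x hx
  have h := hsc x hx
  rw [hs_e] at h
  rw [inv_inv]
  calc e⁻¹ * x * e * t = e⁻¹ * (x * (e * t * e⁻¹)) * e := by group
    _ = e⁻¹ * (e * t * e⁻¹ * x) * e := by rw [h]
    _ = t * (e⁻¹ * x * e) := by group

end Cfsg.Agent.S1126
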