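import Cfsg.Statements.S1125
import Mathlib
import Cfsg.Agent.Lib.Helper27.RankOneInv
import Cfsg.Agent.S1126

set_option autoImplicit false
open Cfsg
open Cfsg.Agent.Lib.Helper28 Cfsg.Agent.Lib.Helper27.RankOne

namespace Cfsg.Agent.S1125

variable {G Ω : Type*} [Group G] [MulAction G Ω] {a : Ω} {t : G} {Q : Subgroup G}

/-- A third fixed point, different from `a` and `t • a`. -/
theorem third_point (X : Set G)
    (h3 : ∃ b c d : Ω, b ≠ c ∧ b ≠ d ∧ c ≠ d ∧ ∀ x ∈ X, x • b = b ∧ x • c = c ∧ x • d = d) :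
    ∃ b : Ω, b ≠ a ∧ b ≠ t • a ∧ ∀ x ∈ X, x • b = b := by
  obtain ⟨b, c, d, hbc, hbd, hcd, hf⟩ := h3
  by_cases h1 : b ≠ a ∧ b ≠ t • a
  · exact ⟨b, h1.1, h1.2, fun x hx => (hf x hx).1⟩
  by_cases h2 : c ≠ a ∧ c ≠ t • a
  · exact ⟨c, h2.1, h2.2, fun x hx => (hf x hx).2.1⟩
  refine ⟨d, ?_, ?_, fun x hx => (hf x hx).2.2⟩
  · rintro rfl
    have hb : b = t • d := by
      by_contra hb
      exact h1 ⟨hbd, hb⟩
    have hc : c = t • d := by
      by_contra hc
      exact h2 ⟨hcd, hc⟩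
    exact hbc (hb.trans hc.symm)
  · rintro rfl
    have hb : b = a := by
      by_contra hb
      exact h1 ⟨hb, hbd⟩
    have hc : c = a := by
      by_contra hc
      exact h2 ⟨hc, hcd⟩
    exact hbc (hb.trans hc.symm)

theorem fix_smul {X : Set G} {g : G} (hg : g ∈ Subgroup.centralizer X) {e : Ω}
    (he : ∀ x ∈ X, x • e = e) : ∀ x ∈ X, x • (g • e) = g • e := by
  intro x hx
  have := Subgroup.mem_centralizer_iff.mp hg x hx
  rw [← mul_smul, this, mul_smul, he x hx]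

section
variable (hS : Cfsg.IsRankOneSetup G Ω a t Q) (X : Set G)
  (hX : X ⊆ ((MulAction.stabilizer G a ⊓ MulAction.stabilizer G (t • a)) : Set G))
  (h3 : ∃ b c d : Ω, b ≠ c ∧ b ≠ d ∧ c ≠ d ∧ ∀ x ∈ X, x • b = b ∧ x • c = c ∧ x • d = d)
include hS hX h3

/-- The centraliser of `X` is transitive on the fixed points of `X`. -/
theorem trans_fix {e : Ω} (he : ∀ x ∈ X, x • e = e) :
    ∃ g ∈ Subgroup.centralizer X, g • a = e := by
  have hta := rk1_ta_ne hS
  have hfa : ∀ x ∈ X, x • a = a := fun x hx => MulAction.mem_stabilizer_iff.mp (hX hx).1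
  by_cases hea : e = a
  · exact ⟨1, one_mem _, by rw [one_smul, hea]⟩
  by_cases het : e = t • a
  · obtain ⟨b, hba, hbt, hfb⟩ := third_point (a := a) (t := t) X h3
    obtain ⟨g, hga, -, hgc⟩ := Cfsg.Agent.S1126.exists_swap hS X hX hba hbt hfb
    refine ⟨g, ?_, by rw [hga, het]⟩
    rw [Subgroup.mem_centralizer_iff]
    intro x hx
    exact hgc x hx
  · obtain ⟨r, -, hre, hrc⟩ := Cfsg.Agent.S1126.lemB hS X hX (Ne.symm hta) het hfa he
    refine ⟨r, ?_, hre⟩
    rw [Subgroup.mem_centralizer_iff]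
    intro x hx
    exact hrc x hx

end

theorem result {G Ω : Type*} [Group G] [Finite G] [MulAction G Ω] {a : Ω} {t : G} {Q : Subgroup G}
    (hS : Cfsg.IsRankOneSetup G Ω a t Q)
    (X : Set G) (hX : X ⊆ ((MulAction.stabilizer G a ⊓ MulAction.stabilizer G (t • a)) : Set G))
    (h3 : ∃ b c d : Ω, b ≠ c ∧ b ≠ d ∧ c ≠ d ∧ ∀ x ∈ X, x • b = b ∧ x • c = c ∧ x • d = d) :
    (∀ b₁ b₂ c₁ c₂ : Ω, (∀ x ∈ X, x • b₁ = b₁ ∧ x • b₂ = b₂ ∧ x • c₁ = c₁ ∧ x • c₂ = c₂) →
        b₁ ≠ b₂ → c₁ ≠ c₂ → ∃ g ∈ Subgroup.centralizer X, g • b₁ = c₁ ∧ g • b₂ = c₂) ∧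
      Even (Nat.card ↥(Subgroup.centralizer X ⊓ Q)) ∧
      (Subgroup.centralizer X ⊓ Q) ⊔ (Subgroup.centralizer X ⊓ (MulAction.stabilizer G a ⊓ MulAction.stabilizer G (t • a))) = Subgroup.centralizer X ⊓ MulAction.stabilizer G a := by
  have hta := rk1_ta_ne hS
  have hfa : ∀ x ∈ X, x • a = a := fun x hx => MulAction.mem_stabilizer_iff.mp (hX hx).1
  have hft : ∀ x ∈ X, x • (t • a) = t • a := fun x hx => MulAction.mem_stabilizer_iff.mp (hX hx).2
  -- lemA in centraliser form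
  have lemA' : ∀ e₁ e₂ : Ω, e₁ ≠ a → e₂ ≠ a → (∀ x ∈ X, x • e₁ = e₁) → (∀ x ∈ X, x • e₂ = e₂) →
      ∃ q ∈ Subgroup.centralizer X ⊓ Q, q • e₁ = e₂ := by
    intro e₁ e₂ h1 h2 hf1 hf2
    obtain ⟨q, hq, hqe, hqc⟩ := Cfsg.Agent.S1126.lemA hS X hX h1 h2 hf1 hf2
    refine ⟨q, Subgroup.mem_inf.mpr ⟨?_, hq⟩, hqe⟩
    rw [Subgroup.mem_centralizer_iff]
    intro x hx
    exact hqc x hx
  refine ⟨?_, ?_, ?_⟩
  · intro b₁ b₂ c₁ c₂ hf hb hc
    obtain ⟨g₁, hg₁c, hg₁⟩ := trans_fix hS X hX h3 (fun x hx => (hf x hx).1)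
    obtain ⟨h₁, hh₁c, hh₁⟩ := trans_fix hS X hX h3 (fun x hx => (hf x hx).2.2.1)
    have hfb₂ : ∀ x ∈ X, x • (g₁⁻¹ • b₂) = g₁⁻¹ • b₂ :=
      fix_smul (inv_mem hg₁c) (fun x hx => (hf x hx).2.1)
    have hfc₂ : ∀ x ∈ X, x • (h₁⁻¹ • c₂) = h₁⁻¹ • c₂ :=
      fix_smul (inv_mem hh₁c) (fun x hx => (hf x hx).2.2.2)
    have hne1 : g₁⁻¹ • b₂ ≠ a := by
      intro h
      apply hb
      rw [← hg₁, ← h, smul_inv_smul]
    have hne2 : h₁⁻¹ • c₂ ≠ a := by
      intro h
      apply hc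
      rw [← hh₁, ← h, smul_inv_smul]
    obtain ⟨q, hq, hqe⟩ := lemA' _ _ hne1 hne2 hfb₂ hfc₂
    have hqa : q • a = a := MulAction.mem_stabilizer_iff.mp (hS.le (Subgroup.mem_inf.mp hq).2)
    refine ⟨h₁ * q * g₁⁻¹, mul_mem (mul_mem hh₁c (Subgroup.mem_inf.mp hq).1) (inv_mem hg₁c),
      ?_, ?_⟩
    · rw [mul_smul, mul_smul, ← hg₁, inv_smul_smul, hqa, hh₁]
    · rw [mul_smul, mul_smul, hqe, smul_inv_smul]
  · -- an involution in C ∩ Q
    obtain ⟨b, hba, hbt, hfb⟩ := third_point (a := a) (t := t) X h3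
    obtain ⟨g, hga, hgt, hgc⟩ := Cfsg.Agent.S1126.exists_swap hS X hX hba hbt hfb
    have hgC : g ∈ Subgroup.centralizer X := by
      rw [Subgroup.mem_centralizer_iff]
      intro x hx
      exact hgc x hx
    obtain ⟨m, hm⟩ := hS.odd_card
    have hg2 : g * g ∈ MulAction.stabilizer G a ⊓ MulAction.stabilizer G (t • a) := by
      refine Subgroup.mem_inf.mpr ⟨?_, ?_⟩
      · rw [MulAction.mem_stabilizer_iff, mul_smul, hga, hgt]
      · rw [MulAction.mem_stabilizer_iff, mul_smul, hgt, hga]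
    have hpowD : ∀ d ∈ MulAction.stabilizer G a ⊓ MulAction.stabilizer G (t • a),
        d ^ (2 * m + 1) = 1 := by
      intro d hd
      have : (⟨d, hd⟩ : ↥(MulAction.stabilizer G a ⊓ MulAction.stabilizer G (t • a))) ^
          Nat.card ↥(MulAction.stabilizer G a ⊓ MulAction.stabilizer G (t • a)) = 1 :=
        pow_card_eq_one'
      rw [hm] at this
      exact congrArg Subtype.val this
    set u := g ^ (2 * m + 1) with hu
    have hu2 : u * u = 1 := by
      rw [hu, ← pow_add, ← two_mul, pow_mul, pow_two]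
      exact hpowD _ hg2
    have hu_eq : u = g * (g * g) ^ m := by
      rw [hu, pow_succ', pow_mul, pow_two]
    have hua : u • a = t • a := by
      rw [hu_eq, mul_smul, MulAction.mem_stabilizer_iff.mp (pow_mem hg2 m).1, hga]
    have hu1 : u ≠ 1 := by
      intro h
      rw [h, one_smul] at hua
      exact hta hua.symm
    have huC : u ∈ Subgroup.centralizer X := pow_mem hgC _
    obtain ⟨c, hc, hcu⟩ := involution_fix_unique hS hu1 hu2
    have hfc : ∀ x ∈ X, x • c = c := by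
      intro x hx
      apply hcu
      have := Subgroup.mem_centralizer_iff.mp huC x hx
      rw [← mul_smul, ← this, mul_smul, hc]
    obtain ⟨h, hhC, hh⟩ := trans_fix hS X hX h3 hfc
    -- u' = h⁻¹ u h
    have hu'C : h⁻¹ * u * h ∈ Subgroup.centralizer X :=
      mul_mem (mul_mem (inv_mem hhC) huC) hhC
    have hu'a : (h⁻¹ * u * h) • a = a := by
      rw [mul_smul, mul_smul, hh, hc, ← hh, inv_smul_smul]
    have hu'2 : (h⁻¹ * u * h) * (h⁻¹ * u * h) = 1 := by
      calc h⁻¹ * u * h * (h⁻¹ * u * h) = h⁻¹ * (u * u) * h := by group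
        _ = 1 := by rw [hu2]; group
    have hu'1 : h⁻¹ * u * h ≠ 1 := by
      intro hcon
      apply hu1
      have : u = h * (h⁻¹ * u * h) * h⁻¹ := by group
      rw [this, hcon]; group
    -- u' ∈ Q
    obtain ⟨q, hq, d, hd, hqd⟩ := rk1_stab_eq_mul hS (MulAction.mem_stabilizer_iff.mpr hu'a)
    have hdq : d * q * d⁻¹ ∈ Q := hS.conj_mem d (Subgroup.mem_inf.mp hd).1 q hq
    have hd2 : d * d ∈ Q ⊓ MulAction.stabilizer G (t • a) := by
      refine Subgroup.mem_inf.mpr ⟨?_, (mul_mem hd hd).2⟩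
      have h1 : q * d * (q * d) = 1 := by rw [hqd]; exact hu'2
      have h2 : d * d = (d * q * d⁻¹)⁻¹ * q⁻¹ := by
        have : q * (d * q * d⁻¹) * (d * d) = 1 := by
          calc q * (d * q * d⁻¹) * (d * d) = q * d * (q * d) := by group
            _ = 1 := h1
        calc d * d = (q * (d * q * d⁻¹))⁻¹ * (q * (d * q * d⁻¹) * (d * d)) := by group
          _ = (d * q * d⁻¹)⁻¹ * q⁻¹ := by rw [this, mul_one, mul_inv_rev]
      rw [h2]
      exact mul_mem (inv_mem hdq) (inv_mem hq)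
    rw [hS.inf_eq_bot, Subgroup.mem_bot] at hd2
    have hd1 : d = 1 := by
      have h1 := hpowD d hd
      rw [pow_succ, pow_mul, pow_two, hd2, one_pow, one_mul] at h1
      exact h1
    have hu'Q : h⁻¹ * u * h ∈ Q := by
      rw [← hqd, hd1, mul_one]; exact hq
    -- so 2 divides the order
    have hmem : h⁻¹ * u * h ∈ Subgroup.centralizer X ⊓ Q := Subgroup.mem_inf.mpr ⟨hu'C, hu'Q⟩
    have hord : orderOf (⟨h⁻¹ * u * h, hmem⟩ : ↥(Subgroup.centralizer X ⊓ Q)) = 2 := by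
      apply orderOf_eq_prime
      · apply Subtype.ext
        rw [pow_two]
        exact hu'2
      · intro hcon
        exact hu'1 (congrArg Subtype.val hcon)
    rw [even_iff_two_dvd, ← hord]
    exact orderOf_dvd_natCard _
  · apply le_antisymm
    · apply sup_le
      · exact inf_le_inf_left _ hS.le
      · exact inf_le_inf_left _ inf_le_left
    · intro g hg
      obtain ⟨hgC, hga⟩ := Subgroup.mem_inf.mp hg
      have hga' : g • a = a := MulAction.mem_stabilizer_iff.mp hga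
      have hfe : ∀ x ∈ X, x • (g • (t • a)) = g • (t • a) := fix_smul hgC hft
      have hne : g • (t • a) ≠ a := by
        intro h
        apply hta
        apply MulAction.injective g
        show g • (t • a) = g • a
        rw [h, hga']
      obtain ⟨q, hq, hqe⟩ := lemA' _ _ hta hne hft hfe
      have hqa : q • a = a := MulAction.mem_stabilizer_iff.mp (hS.le (Subgroup.mem_inf.mp hq).2)
      have hqa' : q⁻¹ • a = a := by
        conv_lhs => rw [← hqa]
        rw [inv_smul_smul]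
      have hd : q⁻¹ * g ∈ Subgroup.centralizer X ⊓
          (MulAction.stabilizer G a ⊓ MulAction.stabilizer G (t • a)) := by
        refine Subgroup.mem_inf.mpr ⟨mul_mem (inv_mem (Subgroup.mem_inf.mp hq).1) hgC,
          Subgroup.mem_inf.mpr ⟨?_, ?_⟩⟩
        · rw [MulAction.mem_stabilizer_iff, mul_smul, hga', hqa']
        · rw [MulAction.mem_stabilizer_iff, mul_smul, ← hqe, inv_smul_smul]
      have : g = q * (q⁻¹ * g) := by group
      rw [this]
      exact Subgroup.mul_mem_sup hq hd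

end Cfsg.Agent.S1125
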