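import Cfsg.Statements.S1127
import Mathlib
import Cfsg.Agent.Lib.Helper28.RankOne
import Cfsg.Agent.Lib.Helper28.Invol
import Cfsg.Agent.Lib.Helper28.Invol2

set_option autoImplicit false
open Cfsg

namespace Cfsg.Agent.S1127

open Cfsg.Agent.Lib.Helper28 MulAction

variable {G Ω : Type*} [Group G] [MulAction G Ω] {a : Ω} {t : G} {Q : Subgroup G}

/-- a nontrivial involution fixes at most one point -/
theorem invol_fix_unique [Finite G] (hS : IsRankOneSetup G Ω a t Q) {x : G} (hx : x * x = 1)
    (hx1 : x ≠ 1) {c c' : Ω} (hc : x • c = c) (hc' : x • c' = c') : c = c' := by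
  by_contra hne
  obtain ⟨g, hga, hgb⟩ :=
    (is_two_pretransitive_iff.mp hS.two_transitive) (Ne.symm (rk1_ta_ne hS)) hne
  have hy : g⁻¹ * x * g ∈ stabilizer G a ⊓ stabilizer G (t • a) := by
    refine Subgroup.mem_inf.mpr ⟨?_, ?_⟩
    · rw [mem_stabilizer_iff, mul_smul, mul_smul, hga, hc, ← hga, inv_smul_smul]
    · rw [mem_stabilizer_iff, mul_smul, mul_smul, hgb, hc', ← hgb, inv_smul_smul]
  have hy2 : (g⁻¹ * x * g) * (g⁻¹ * x * g) = 1 := by
    have : (g⁻¹ * x * g) * (g⁻¹ * x * g) = g⁻¹ * (x * x) * g := by group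
    rw [this, hx]; group
  have hy1 : g⁻¹ * x * g ≠ 1 := by
    intro h
    apply hx1
    have : x = g * (g⁻¹ * x * g) * g⁻¹ := by group
    rw [this, h]; group
  have hord : orderOf (g⁻¹ * x * g) = 2 := orderOf_two_iff'.mpr ⟨hy1, hy2⟩
  have hdvd := Subgroup.orderOf_dvd_natCard _ hy
  rw [hord] at hdvd
  exact (Nat.not_even_iff_odd.mpr hS.odd_card) (even_iff_two_dvd.mpr hdvd)

/-- the involution `t` has a fixed point -/
theorem exists_fixed [Finite G] (hS : IsRankOneSetup G Ω a t Q) : ∃ c : Ω, t • c = c := by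
  have : Fact (Nat.Prime 2) := ⟨Nat.prime_two⟩
  obtain ⟨s₀, hs₀⟩ := exists_prime_orderOf_dvd_card' 2 (even_iff_two_dvd.mp hS.even_card)
  have hs₀' : orderOf (s₀ : G) = 2 := by rw [Subgroup.orderOf_coe]; exact hs₀
  obtain ⟨hs1, hs2⟩ := orderOf_two_iff'.mp hs₀'
  have hsa : (s₀ : G) • a = a := mem_stabilizer_iff.mp (hS.le s₀.2)
  rcases Nat.even_or_odd (orderOf ((s₀ : G) * t)) with heven | hodd
  · exfalso
    obtain ⟨z, hz, _, hsz, htz⟩ :=
      exists_central_invol_of_even_orderOf_mul hs2 hS.mul_self (orderOf_pos _) heven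
    obtain ⟨hz1, hz2⟩ := orderOf_two_iff'.mp hz
    have h1 : (s₀ : G) • (z • a) = z • a := by
      rw [smul_smul, hsz, mul_smul, hsa]
    have h2 : z • a = a := (invol_fix_unique hS hs2 hs1 h1 hsa)
    have h3 : z • (t • a) = t • a := by
      rw [smul_smul, ← htz, mul_smul, h2]
    exact rk1_ta_ne hS (invol_fix_unique hS hz2 hz1 h3 h2)
  · obtain ⟨g, hg⟩ := conj_of_odd_orderOf_mul hs2 hS.mul_self hodd
    refine ⟨g • a, ?_⟩
    rw [← hg, mul_smul, mul_smul, inv_smul_smul, hsa]

/-- existence of the pair `(s, r)` attached to `t` -/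
theorem exists_s_r [Finite G] (hS : IsRankOneSetup G Ω a t Q) :
    ∃ s r : G, s ∈ involutionsIn (stabilizer G a : Set G) ∧ r ∈ Q ∧ t * s * t = r⁻¹ * t * r := by
  obtain ⟨c, hc⟩ := exists_fixed hS
  have hca : c ≠ a := by
    rintro rfl
    exact rk1_ta_ne hS hc
  obtain ⟨r, hr, hrc⟩ := rk1_exists_Q_smul hS hca
  have htt := hS.mul_self
  refine ⟨t * r⁻¹ * t * r * t, r, ⟨?_, ?_, ?_⟩, hr, ?_⟩
  · show t * r⁻¹ * t * r * t ∈ stabilizer G a
    rw [mem_stabilizer_iff, mul_smul, mul_smul, mul_smul, mul_smul, hrc, hc, ← hrc, inv_smul_smul,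
      rk1_tta hS]
  · intro h
    apply hS.ne_one
    have h1 : r⁻¹ * t * r = t⁻¹ * (t * r⁻¹ * t * r * t) * t⁻¹ := by group
    rw [h, rk1_t_inv hS, mul_one, htt] at h1
    have h2 : t = r * (r⁻¹ * t * r) * r⁻¹ := by group
    rw [h2, h1]; group
  · have : t * r⁻¹ * t * r * t * (t * r⁻¹ * t * r * t) =
        t * r⁻¹ * t * r * (t * t) * r⁻¹ * t * r * t := by group
    rw [this, htt]
    have : t * r⁻¹ * t * r * 1 * r⁻¹ * t * r * t = t * r⁻¹ * (t * t) * r * t := by group
    rw [this, htt]
    have : t * r⁻¹ * 1 * r * t = t * t := by group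
    rw [this, htt]
  · have : t * (t * r⁻¹ * t * r * t) * t = (t * t) * r⁻¹ * t * r * (t * t) := by group
    rw [this, htt]; group

/-- first part: `C_D(t) = C_D(s)` -/
theorem part1 [Finite G] (hS : IsRankOneSetup G Ω a t Q) {s r : G}
    (hs : s ∈ involutionsIn (stabilizer G a : Set G)) (hr : r ∈ Q)
    (h : t * s * t = r⁻¹ * t * r) :
    (stabilizer G a ⊓ stabilizer G (t • a)) ⊓ Subgroup.centralizer {t} =
      (stabilizer G a ⊓ stabilizer G (t • a)) ⊓ Subgroup.centralizer {s} := by
  obtain ⟨hsa, hs1, hs2⟩ := hs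
  have hsa' : s • a = a := mem_stabilizer_iff.mp hsa
  have htt := hS.mul_self
  have hta := rk1_ta_ne hS
  -- s in terms of t and r
  have hs_eq : s = t * r⁻¹ * t * r * t := by
    have : s = (t * t) * s * (t * t) := by rw [htt]; group
    rw [this]
    have : t * t * s * (t * t) = t * (t * s * t) * t := by group
    rw [this, h]; group
  -- c := r • (t • a) is fixed by t
  have hc : t • (r • (t • a)) = r • (t • a) := by
    have h1 : (r⁻¹ * t * r) • (t • a) = t • a := by
      rw [← h, mul_smul, mul_smul, rk1_tta hS, hsa']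
    rw [mul_smul, mul_smul] at h1
    calc t • (r • (t • a)) = r • (r⁻¹ • (t • (r • (t • a)))) := by rw [smul_inv_smul]
      _ = r • (t • a) := by rw [h1]
  ext d
  simp only [Subgroup.mem_inf, Subgroup.mem_centralizer_iff, Set.mem_singleton_iff, forall_eq]
  constructor
  · rintro ⟨hd, hdt⟩
    refine ⟨hd, ?_⟩
    have hda : d • a = a := mem_stabilizer_iff.mp hd.1
    have hdb : d • (t • a) = t • a := mem_stabilizer_iff.mp hd.2
    -- d fixes c
    have hdc : d • (r • (t • a)) = r • (t • a) := by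
      apply invol_fix_unique hS htt hS.ne_one _ hc
      rw [smul_smul, hdt, mul_smul, hc]
    -- d r d⁻¹ = r
    have hrr : d * r * d⁻¹ = r := by
      apply rk1_Q_unique hS hta (hS.conj_mem d hd.1 r hr) hr
      rw [mul_smul, mul_smul]
      have : d⁻¹ • (t • a) = t • a := by
        rw [inv_smul_eq_iff, hdb]
      rw [this, hdc]
    have hdr : r * d = d * r := by
      calc r * d = (d * r * d⁻¹) * d := by rw [hrr]
        _ = d * r := by group
    have hdr' : r⁻¹ * d = d * r⁻¹ := by
      calc r⁻¹ * d = r⁻¹ * (d * r) * r⁻¹ := by group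
        _ = r⁻¹ * (r * d) * r⁻¹ := by rw [hdr]
        _ = d * r⁻¹ := by group
    rw [hs_eq]
    calc t * r⁻¹ * t * r * t * d = t * r⁻¹ * t * r * (t * d) := by group
      _ = t * r⁻¹ * t * r * (d * t) := by rw [hdt]
      _ = t * r⁻¹ * t * (r * d) * t := by group
      _ = t * r⁻¹ * t * (d * r) * t := by rw [hdr]
      _ = t * r⁻¹ * (t * d) * r * t := by group
      _ = t * r⁻¹ * (d * t) * r * t := by rw [hdt]
      _ = t * (r⁻¹ * d) * t * r * t := by group
      _ = t * (d * r⁻¹) * t * r * t := by rw [hdr']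
      _ = (t * d) * r⁻¹ * t * r * t := by group
      _ = (d * t) * r⁻¹ * t * r * t := by rw [hdt]
      _ = d * (t * r⁻¹ * t * r * t) := by group
  · rintro ⟨hd, hds⟩
    refine ⟨hd, ?_⟩
    have hda : d • a = a := mem_stabilizer_iff.mp hd.1
    have hdb : d • (t • a) = t • a := mem_stabilizer_iff.mp hd.2
    have hdinv : d⁻¹ ∈ stabilizer G a ⊓ stabilizer G (t • a) := inv_mem hd
    -- e := t * (d t d⁻¹)
    set e := t * d * t * d⁻¹ with he
    have heD : e ∈ stabilizer G a ⊓ stabilizer G (t • a) := by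
      have := mul_mem (rk1_t_conj_mem hS hd) hdinv
      exact this
    have hea : e • a = a := mem_stabilizer_iff.mp heD.1
    have heb : e • (t • a) = t • a := mem_stabilizer_iff.mp heD.2
    -- t' = d t d⁻¹ = t e = e⁻¹ t
    have ht'1 : d * t * d⁻¹ = t * e := by
      rw [he]
      have : t * (t * d * t * d⁻¹) = (t * t) * d * t * d⁻¹ := by group
      rw [this, htt]; group
    have ht'2 : d * t * d⁻¹ = e⁻¹ * t := by
      rw [he]
      have : (t * d * t * d⁻¹)⁻¹ * t = d * t⁻¹ * d⁻¹ := by group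
      rw [this, rk1_t_inv hS]
    -- the relation for t'
    have hrel : (d * r * d⁻¹)⁻¹ * (d * t * d⁻¹) * (d * r * d⁻¹) = e⁻¹ * (r⁻¹ * t * r) * e := by
      have h1 : (d * r * d⁻¹)⁻¹ * (d * t * d⁻¹) * (d * r * d⁻¹) = d * (r⁻¹ * t * r) * d⁻¹ := by
        group
      rw [h1, ← h]
      have h2 : d * (t * s * t) * d⁻¹ = (d * t * d⁻¹) * (d * s * d⁻¹) * (d * t * d⁻¹) := by group
      have h3 : d * s * d⁻¹ = s := by
        calc d * s * d⁻¹ = (s * d) * d⁻¹ := by rw [hds]
          _ = s := by group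
      rw [h2, h3]
      have h4 : (e⁻¹ * t) * s * (t * e) = e⁻¹ * (t * s * t) * e := by group
      rw [← h4, ← ht'2, ← ht'1]
    -- x := r e (d r d⁻¹)⁻¹ conjugates t to t'
    set x := r * e * (d * r * d⁻¹)⁻¹ with hx
    have hxt : d * t * d⁻¹ = x⁻¹ * t * x := by
      have h1 : x⁻¹ * t * x = (d * r * d⁻¹) * (e⁻¹ * (r⁻¹ * t * r) * e) * (d * r * d⁻¹)⁻¹ := by
        rw [hx]; group
      rw [h1, ← hrel]; group
    have hr'Q : d * r * d⁻¹ ∈ Q := hS.conj_mem d hd.1 r hr
    have hxa : x ∈ stabilizer G a :=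
      mul_mem (mul_mem (hS.le hr) heD.1) (inv_mem (hS.le hr'Q))
    have hxa' : x • a = a := mem_stabilizer_iff.mp hxa
    have hxb : x • (t • a) = t • a := by
      have h1 : (d * t * d⁻¹) • a = t • a := by
        rw [mul_smul, mul_smul, inv_smul_eq_iff.mpr hda.symm, hdb]
      rw [hxt, mul_smul, mul_smul, hxa'] at h1
      rw [inv_smul_eq_iff] at h1
      exact h1.symm
    -- x e⁻¹ ∈ Q ⊓ G_b
    have hxe : x * e⁻¹ ∈ Q ⊓ stabilizer G (t • a) := by
      refine Subgroup.mem_inf.mpr ⟨?_, ?_⟩
      · have : x * e⁻¹ = r * (e * (d * r * d⁻¹)⁻¹ * e⁻¹) := by rw [hx]; group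
        rw [this]
        exact mul_mem hr (hS.conj_mem e heD.1 _ (inv_mem hr'Q))
      · rw [mem_stabilizer_iff, mul_smul, inv_smul_eq_iff.mpr heb.symm, hxb]
    rw [hS.inf_eq_bot, Subgroup.mem_bot] at hxe
    have hxe' : x = e := by
      calc x = (x * e⁻¹) * e := by group
        _ = e := by rw [hxe, one_mul]
    -- e = 1
    have he1 : e = 1 := by
      have h1 : e⁻¹ * t = e⁻¹ * t * e := by
        calc e⁻¹ * t = d * t * d⁻¹ := ht'2.symm
          _ = x⁻¹ * t * x := hxt
          _ = e⁻¹ * t * e := by rw [hxe']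
      have h2 : e⁻¹ * t * e = (e⁻¹ * t) * e := rfl
      have h3 : (e⁻¹ * t) * 1 = (e⁻¹ * t) * e := by rw [mul_one]; exact h1
      exact (mul_left_cancel h3).symm
    have h4 : d * t * d⁻¹ = t := by rw [ht'1, he1, mul_one]
    calc t * d = (d * t * d⁻¹) * d := by rw [h4]
      _ = d * t := by group

/-- the set-up is preserved under replacing `t` by `t * e` for `e` inverted by `t` -/
theorem setup_mul (hS : IsRankOneSetup G Ω a t Q) {e : G}
    (he : e ∈ invertedBy (stabilizer G a ⊓ stabilizer G (t • a)) t) :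
    IsRankOneSetup G Ω a (t * e) Q := by
  obtain ⟨heD, hinv⟩ := he
  have hea : e • a = a := mem_stabilizer_iff.mp heD.1
  have hsm : (t * e) • a = t • a := by rw [mul_smul, hea]
  have hinv' : t * e * t = e⁻¹ := by rw [← hinv, rk1_t_inv hS]
  refine
    { two_transitive := hS.two_transitive
      mul_self := ?_
      ne_one := ?_
      not_mem := ?_
      le := hS.le
      conj_mem := hS.conj_mem
      inf_eq_bot := by rw [hsm]; exact hS.inf_eq_bot
      sup_eq := by rw [hsm]; exact hS.sup_eq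
      even_card := hS.even_card
      odd_card := by rw [hsm]; exact hS.odd_card }
  · calc t * e * (t * e) = (t * e * t) * e := by group
      _ = 1 := by rw [hinv']; group
  · intro h
    apply hS.not_mem
    have : t = (t * e) * e⁻¹ := by group
    rw [this, h, one_mul]
    exact inv_mem heD.1
  · intro h
    apply hS.not_mem
    have : t = (t * e) * e⁻¹ := by group
    rw [this]
    exact mul_mem h (inv_mem heD.1)

/-- every involution of `G_a` is the `s` of some `t * e` -/
theorem exists_t_of_s [Finite G] (hS : IsRankOneSetup G Ω a t Q) {s : G}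
    (hs : s ∈ involutionsIn (stabilizer G a : Set G)) :
    ∃ e r : G, e ∈ invertedBy (stabilizer G a ⊓ stabilizer G (t • a)) t ∧ r ∈ Q ∧
      (t * e) * s * (t * e) = r⁻¹ * (t * e) * r := by
  obtain ⟨hsa, hs1, hs2⟩ := hs
  have hsa' : s • a = a := mem_stabilizer_iff.mp hsa
  have htt := hS.mul_self
  have hta := rk1_ta_ne hS
  have htinv := rk1_t_inv hS
  -- s moves b
  have hsb : s • (t • a) ≠ t • a := by
    intro h
    exact hta (invol_fix_unique hS hs2 hs1 h hsa')
  -- t • (s • b) ≠ a
  have h1 : t • (s • (t • a)) ≠ a := by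
    intro h
    apply hsb
    have h0 : t • (t • (s • (t • a))) = s • (t • a) := by rw [← mul_smul, htt, one_smul]
    rw [← h0, h]
  -- q ∈ Q with q • b = t • s • b; then u = t q⁻¹ t maps s • b to a
  obtain ⟨q, hq, hqb⟩ := rk1_exists_Q_smul hS h1
  -- u := t * q⁻¹ * t, u • (s • b) = a, u • b = b
  set u := t * q⁻¹ * t with hu
  have hus : u • (s • (t • a)) = a := by
    rw [hu, mul_smul, mul_smul, ← hqb, inv_smul_smul, rk1_tta hS]
  have hqa : q • a = a := mem_stabilizer_iff.mp (hS.le hq)
  have hub : u • (t • a) = t • a := by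
    rw [hu, mul_smul, mul_smul, rk1_tta hS, inv_smul_eq_iff.mpr hqa.symm]
  have hub' : u⁻¹ • (t • a) = t • a := inv_smul_eq_iff.mpr hub.symm
  -- t' := u s u⁻¹
  set t' := u * s * u⁻¹ with ht'
  have ht'b : t' • (t • a) = a := by
    rw [ht', mul_smul, mul_smul, hub', hus]
  have ht'2 : t' * t' = 1 := by
    have : t' * t' = u * (s * s) * u⁻¹ := by rw [ht']; group
    rw [this, hs2]; group
  have ht'a : t' • a = t • a := by
    calc t' • a = t' • (t' • (t • a)) := by rw [ht'b]
      _ = t • a := by rw [smul_smul, ht'2, one_smul]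
  have ht'inv : t'⁻¹ = t' := inv_eq_of_mul_eq_one_left ht'2
  -- e := t * t'
  refine ⟨t * t', t' * u * t', ⟨?_, ?_⟩, ?_, ?_⟩
  · refine Subgroup.mem_inf.mpr ⟨?_, ?_⟩
    · rw [mem_stabilizer_iff, mul_smul, ht'a, rk1_tta hS]
    · rw [mem_stabilizer_iff, mul_smul, ht'b]
  · rw [mul_inv_rev, ht'inv, htinv]
    have : t * (t * t') * t = (t * t) * t' * t := by group
    rw [this, htt, one_mul]
  · -- t' u t' ∈ Q
    have hte : t' = t * (t * t') := by
      have : t * (t * t') = (t * t) * t' := by group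
      rw [this, htt, one_mul]
    have heD : t * t' ∈ stabilizer G a := by
      rw [mem_stabilizer_iff, mul_smul, ht'a, rk1_tta hS]
    have heinv : (t * t')⁻¹ = t' * t := by rw [mul_inv_rev, ht'inv, htinv]
    have h2 : t' * u * t' = (t * t')⁻¹ * q⁻¹ * ((t * t')⁻¹)⁻¹ := by
      rw [heinv, hu]
      have : t' * t * q⁻¹ * (t' * t)⁻¹ = t' * t * q⁻¹ * (t⁻¹ * t'⁻¹) := by group
      rw [this, htinv, ht'inv]
      have h3 : t' * (t * q⁻¹ * t) * t' = t' * t * q⁻¹ * (t * t') := by group
      exact h3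
    rw [h2]
    exact hS.conj_mem _ (inv_mem heD) _ (inv_mem hq)
  · have hte : t * (t * t') = t' := by
      have : t * (t * t') = (t * t) * t' := by group
      rw [this, htt, one_mul]
    rw [hte]
    have hs_eq : s = u⁻¹ * t' * u := by rw [ht']; group
    rw [hs_eq]
    have : (t' * u * t')⁻¹ * t' * (t' * u * t') = t'⁻¹ * u⁻¹ * (t'⁻¹ * t') * t' * u * t' := by
      group
    rw [this, ht'inv, ht'2]
    group

/-- In the rank-one set-up ... -/
theorem result {G Ω : Type*} [Group G] [Finite G] [MulAction G Ω] {a : Ω} {t : G} {Q : Subgroup G}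
    (hS : Cfsg.IsRankOneSetup G Ω a t Q) :
    (∀ s r : G, s ∈ Cfsg.involutionsIn (MulAction.stabilizer G a : Set G) → r ∈ Q → t * s * t = r⁻¹ * t * r →
        (MulAction.stabilizer G a ⊓ MulAction.stabilizer G (t • a)) ⊓ Subgroup.centralizer {t} = (MulAction.stabilizer G a ⊓ MulAction.stabilizer G (t • a)) ⊓ Subgroup.centralizer {s}) ∧
      (MulAction.stabilizer G a ⊓ MulAction.stabilizer G (t • a)) ⊓ Subgroup.centralizer {t} ⊓ Subgroup.centralizer (Cfsg.invertedBy (MulAction.stabilizer G a ⊓ MulAction.stabilizer G (t • a)) t) =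
        (MulAction.stabilizer G a ⊓ MulAction.stabilizer G (t • a)) ⊓ Subgroup.centralizer (Cfsg.involutionsIn (MulAction.stabilizer G a : Set G)) := by
  refine ⟨fun s r hs hr h => part1 hS hs hr h, ?_⟩
  -- centralizing `t * e` given the set-up for `t * e`
  have key : ∀ e : G, e ∈ invertedBy (stabilizer G a ⊓ stabilizer G (t • a)) t →
      ∀ s r : G, s ∈ involutionsIn (stabilizer G a : Set G) → r ∈ Q →
        (t * e) * s * (t * e) = r⁻¹ * (t * e) * r →
      (stabilizer G a ⊓ stabilizer G (t • a)) ⊓ Subgroup.centralizer {t * e} =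
        (stabilizer G a ⊓ stabilizer G (t • a)) ⊓ Subgroup.centralizer {s} := by
    intro e he s r hs hr h
    have hS' := setup_mul hS he
    have hea : e • a = a := mem_stabilizer_iff.mp he.1.1
    have hsm : (t * e) • a = t • a := by rw [mul_smul, hea]
    have := part1 hS' hs hr h
    rw [hsm] at this
    exact this
  ext d
  simp only [Subgroup.mem_inf]
  constructor
  · rintro ⟨⟨hd, hdt⟩, hdK⟩
    refine ⟨hd, ?_⟩
    rw [Subgroup.mem_centralizer_iff]
    intro s hs
    obtain ⟨e, r, he, hr, h⟩ := exists_t_of_s hS hs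
    have h1 := key e he s r hs hr h
    have hdte : d ∈ (stabilizer G a ⊓ stabilizer G (t • a)) ⊓ Subgroup.centralizer {t * e} := by
      refine Subgroup.mem_inf.mpr ⟨hd, ?_⟩
      rw [Subgroup.mem_centralizer_iff]
      intro y hy
      rw [Set.mem_singleton_iff] at hy
      subst hy
      have h2 : t * d = d * t := by
        rw [Subgroup.mem_centralizer_iff] at hdt
        exact hdt t rfl
      have h3 : e * d = d * e := by
        rw [Subgroup.mem_centralizer_iff] at hdK
        exact hdK e he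
      calc t * e * d = t * (e * d) := by group
        _ = t * (d * e) := by rw [h3]
        _ = (t * d) * e := by group
        _ = (d * t) * e := by rw [h2]
        _ = d * (t * e) := by group
    rw [h1] at hdte
    have := (Subgroup.mem_inf.mp hdte).2
    rw [Subgroup.mem_centralizer_iff] at this
    exact this s rfl
  · rintro ⟨hd, hdI⟩
    rw [Subgroup.mem_centralizer_iff] at hdI
    -- d commutes with t * e for every e ∈ K (including e = 1)
    have hall : ∀ e : G, e ∈ invertedBy (stabilizer G a ⊓ stabilizer G (t • a)) t →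
        (t * e) * d = d * (t * e) := by
      intro e he
      have hS' := setup_mul hS he
      obtain ⟨s, r, hs, hr, h⟩ := exists_s_r hS'
      have h1 := key e he s r hs hr h
      have hds : d ∈ (stabilizer G a ⊓ stabilizer G (t • a)) ⊓ Subgroup.centralizer {s} := by
        refine Subgroup.mem_inf.mpr ⟨hd, ?_⟩
        rw [Subgroup.mem_centralizer_iff]
        intro y hy
        rw [Set.mem_singleton_iff] at hy
        subst hy
        exact hdI y hs
      rw [← h1] at hds
      have := (Subgroup.mem_inf.mp hds).2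
      rw [Subgroup.mem_centralizer_iff] at this
      exact this (t * e) rfl
    have h1K : (1 : G) ∈ invertedBy (stabilizer G a ⊓ stabilizer G (t • a)) t := by
      refine ⟨one_mem _, ?_⟩
      group
    have hdt : t * d = d * t := by
      have := hall 1 h1K
      rwa [mul_one] at this
    refine ⟨⟨hd, ?_⟩, ?_⟩
    · rw [Subgroup.mem_centralizer_iff]
      intro y hy
      rw [Set.mem_singleton_iff] at hy
      subst hy
      exact hdt
    · rw [Subgroup.mem_centralizer_iff]
      intro e he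
      have h2 := hall e he
      have htinv := rk1_t_inv hS
      calc e * d = t * ((t * e) * d) := by
            have : t * ((t * e) * d) = (t * t) * e * d := by group
            rw [this, hS.mul_self, one_mul]
        _ = t * (d * (t * e)) := by rw [h2]
        _ = (t * d) * t * e := by group
        _ = (d * t) * t * e := by rw [hdt]
        _ = d * (t * t) * e := by group
        _ = d * e := by rw [hS.mul_self, mul_one]

end Cfsg.Agent.S1127
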