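import Cfsg.Statements.S1128
import Mathlib
import Cfsg.Agent.S1122
import Cfsg.Agent.S1125

set_option autoImplicit false
open Cfsg

namespace Cfsg.Agent.S1128



/-- No nonidentity element of `K` (elements of `D` inverted by `t`) commutes with an involution of
`G_a`: from the count of S1122. -/
theorem inverted_comm_invol_eq_one {G Ω : Type*} [Group G] [Finite G] [MulAction G Ω] {a : Ω}
    {t : G} {Q : Subgroup G} (hS : Cfsg.IsRankOneSetup G Ω a t Q)
    (x : G) (hx : x ∈ Cfsg.invertedBy
      (MulAction.stabilizer G a ⊓ MulAction.stabilizer G (t • a)) t)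
    (s : G) (hs : s ∈ Cfsg.involutionsIn (MulAction.stabilizer G a : Set G))
    (hcomm : x * s = s * x) : x = 1 := by
  obtain ⟨hcard, hconj⟩ := Cfsg.Agent.S1122.result hS
  have h1K : (1 : G) ∈ Cfsg.invertedBy
      (MulAction.stabilizer G a ⊓ MulAction.stabilizer G (t • a)) t := by
    refine ⟨Subgroup.one_mem _, ?_⟩
    simp
  -- the map k ↦ k⁻¹ s k from K to the involutions of G_a
  have hmaps : ∀ k : Cfsg.invertedBy
      (MulAction.stabilizer G a ⊓ MulAction.stabilizer G (t • a)) t,
      (k : G)⁻¹ * s * (k : G) ∈ Cfsg.involutionsIn (MulAction.stabilizer G a : Set G) := by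
    intro k
    obtain ⟨hsS, hs1, hss⟩ := hs
    have hkS : (k : G) ∈ MulAction.stabilizer G a := k.2.1.1
    refine ⟨?_, ?_, ?_⟩
    · exact Subgroup.mul_mem _ (Subgroup.mul_mem _ (Subgroup.inv_mem _ hkS) hsS) hkS
    · intro h
      apply hs1
      have : s = (k : G) * ((k : G)⁻¹ * s * (k : G)) * (k : G)⁻¹ := by group
      rw [this, h]
      group
    · have : (k : G)⁻¹ * s * (k : G) * ((k : G)⁻¹ * s * (k : G)) = (k : G)⁻¹ * (s * s) * (k : G) := by
        group
      rw [this, hss]
      group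
  let φ : Cfsg.invertedBy (MulAction.stabilizer G a ⊓ MulAction.stabilizer G (t • a)) t →
      Cfsg.involutionsIn (MulAction.stabilizer G a : Set G) :=
    fun k => ⟨(k : G)⁻¹ * s * (k : G), hmaps k⟩
  have hsurj : Function.Surjective φ := by
    intro s'
    obtain ⟨k, hk, hks⟩ := hconj s hs s'.1 s'.2
    exact ⟨⟨k, hk⟩, Subtype.ext hks⟩
  have hfin : Finite (Cfsg.invertedBy
      (MulAction.stabilizer G a ⊓ MulAction.stabilizer G (t • a)) t) :=
    Finite.of_injective (fun k => (k : G)) Subtype.val_injective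
  have hinj : Function.Injective φ := by
    rw [Function.Injective.eq_1]
    exact ((Nat.bijective_iff_surjective_and_card φ).2 ⟨hsurj, hcard⟩).1
  have heq : φ ⟨x, hx⟩ = φ ⟨1, h1K⟩ := by
    apply Subtype.ext
    show x⁻¹ * s * x = (1 : G)⁻¹ * s * 1
    rw [mul_assoc, ← hcomm]
    group
  have := hinj heq
  exact congrArg Subtype.val this


/-- In the rank-one set-up (`G` finite and doubly transitive on `Ω`, `t` an involution moving `a`, `Q` normal in `G_a` with `G_a = Q D`, `Q ⊓ D = 1` for the two-point stabiliser `D = G_a ⊓ G_{t • a}`, `|Q|` even, `|D|` odd), with the action faithful and `G` containing two distinct commuting involutions: every non-identity element of `D` inverted by `t` acts fixed-point-freely on `Q`. -/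
theorem result {G Ω : Type*} [Group G] [Finite G] [MulAction G Ω] [FaithfulSMul G Ω] {a : Ω} {t : G} {Q : Subgroup G}
    (hS : Cfsg.IsRankOneSetup G Ω a t Q)
    (h2 : ∃ x y : G, x ≠ 1 ∧ y ≠ 1 ∧ x ≠ y ∧ x * x = 1 ∧ y * y = 1 ∧ x * y = y * x)
    (x : G) (hx : x ∈ Cfsg.invertedBy (MulAction.stabilizer G a ⊓ MulAction.stabilizer G (t • a)) t) (hx1 : x ≠ 1) :
    Q ⊓ Subgroup.centralizer {x} = ⊥ := by
  by_contra hne
  obtain ⟨⟨q, hq⟩, hq1'⟩ := (Subgroup.ne_bot_iff_exists_ne_one).1 hne
  have hq1 : q ≠ 1 := fun h => hq1' (Subtype.ext h)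
  have hqQ : q ∈ Q := hq.1
  have hqc : q ∈ Subgroup.centralizer {x} := hq.2
  have hqx : x * q = q * x := by
    rw [Subgroup.mem_centralizer_iff] at hqc
    exact hqc x rfl
  have hxD := hx.1
  have hxa : x • a = a := hxD.1
  have hxb : x • (t • a) = t • a := hxD.2
  have hqa : q • a = a := hS.le hqQ
  have hta : t • a ≠ a := hS.not_mem
  have hqb : q • (t • a) ≠ t • a := by
    intro h
    have : q ∈ Q ⊓ MulAction.stabilizer G (t • a) := ⟨hqQ, h⟩
    rw [hS.inf_eq_bot, Subgroup.mem_bot] at this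
    exact hq1 this
  have hqb' : q • (t • a) ≠ a := by
    intro h
    apply hta
    have : q⁻¹ • (q • (t • a)) = q⁻¹ • a := by rw [h]
    rw [inv_smul_smul] at this
    rw [this, inv_smul_eq_iff, hqa]
  have hxc : x • (q • (t • a)) = q • (t • a) := by
    rw [← mul_smul, hqx, mul_smul, hxb]
  have key := Cfsg.Agent.S1125.result hS ({x} : Set G)
    (by intro y hy; rw [Set.mem_singleton_iff] at hy; rw [hy]; exact hxD)
    ⟨a, t • a, q • (t • a), hta.symm, hqb'.symm, hqb.symm, by
      intro y hy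
      rw [Set.mem_singleton_iff] at hy
      rw [hy]
      exact ⟨hxa, hxb, hxc⟩⟩
  obtain ⟨-, heven, -⟩ := key
  have h2dvd : 2 ∣ Nat.card ↥(Subgroup.centralizer ({x} : Set G) ⊓ Q) := heven.two_dvd
  obtain ⟨s, hs⟩ := exists_prime_orderOf_dvd_card' (hp := Fact.mk Nat.prime_two) 2 h2dvd
  have hs' : orderOf (s : G) = 2 := by rw [Subgroup.orderOf_coe]; exact hs
  have hsI : (s : G) ∈ Cfsg.involutionsIn (MulAction.stabilizer G a : Set G) := by
    refine ⟨hS.le s.2.2, ?_, ?_⟩
    · intro h
      rw [h, orderOf_one] at hs'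
      omega
    · rw [← pow_two, ← hs', pow_orderOf_eq_one]
  have hsc : (s : G) ∈ Subgroup.centralizer ({x} : Set G) := s.2.1
  have hcomm : x * (s : G) = (s : G) * x := by
    rw [Subgroup.mem_centralizer_iff] at hsc
    exact hsc x rfl
  exact hx1 (inverted_comm_invol_eq_one hS x hx (s : G) hsI hcomm)

end Cfsg.Agent.S1128
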