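import Cfsg.Statements.S5357
import Mathlib
import Cfsg.Agent.Lib.Helper19.OrthRefl

set_option autoImplicit false
open scoped MatrixGroups
open Cfsg

namespace Cfsg.Agent.S5357


open Matrix QuadraticMap Cfsg.Agent.Lib.Helper19.OrthRefl

variable {ι : Type} [Fintype ι] [DecidableEq ι] {F : Type*} [Field F]

/-- Lemma X: an anisotropic vector orthogonal to a small orthogonal anisotropic family. -/
lemma exists_orth_ns (h2 : (2 : F) ≠ 0) (Q : QuadraticForm F (ι → F))
    (hQ : (QuadraticMap.polarBilin Q).Nondegenerate) (k : ℕ) (s : Fin k → (ι → F))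
    (hso : ∀ i j, i ≠ j → polar (⇑Q) (s i) (s j) = 0) (hsn : ∀ i, Q (s i) ≠ 0)
    (hk : k < Fintype.card ι) :
    ∃ b : ι → F, (∀ i, polar (⇑Q) (s i) b = 0) ∧ Q b ≠ 0 := by
  -- the linear map x ↦ (polar (s i) x)_i
  let φ : (ι → F) →ₗ[F] (Fin k → F) := LinearMap.pi (fun i => QuadraticMap.polarBilin Q (s i))
  have hφ : ∀ x i, φ x i = polar (⇑Q) (s i) x := fun x i => rfl
  have hker : LinearMap.ker φ ≠ ⊥ := by
    apply LinearMap.ker_ne_bot_of_finrank_lt
    rw [Module.finrank_fin_fun, Module.finrank_fintype_fun_eq_card]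
    exact hk
  obtain ⟨x, hxker, hx0⟩ := (Submodule.ne_bot_iff _).mp hker
  have hxs : ∀ i, polar (⇑Q) (s i) x = 0 := by
    intro i
    have : φ x = 0 := hxker
    rw [← hφ, this]; rfl
  -- y with polar x y ≠ 0
  obtain ⟨y, hy⟩ : ∃ y, polar (⇑Q) x y ≠ 0 := by
    by_contra hcon
    push Not at hcon
    apply hx0
    apply hQ.1 x
    intro y
    rw [QuadraticMap.polarBilin_apply_apply]
    exact hcon y
  -- project y
  let coef : Fin k → F := fun i => polar (⇑Q) (s i) y / polar (⇑Q) (s i) (s i)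
  let y' : ι → F := y - ∑ i, coef i • s i
  have hss : ∀ i, polar (⇑Q) (s i) (s i) ≠ 0 := by
    intro i
    rw [polar_self']
    exact mul_ne_zero h2 (hsn i)
  have hy's : ∀ j, polar (⇑Q) (s j) y' = 0 := by
    intro j
    have h1 : polar (⇑Q) (s j) y' = QuadraticMap.polarBilin Q (s j) y' := rfl
    rw [h1]
    simp only [y', map_sub, map_sum, map_smul]
    rw [Finset.sum_eq_single j]
    · rw [QuadraticMap.polarBilin_apply_apply, QuadraticMap.polarBilin_apply_apply, smul_eq_mul]
      simp only [coef]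
      rw [div_mul_cancel₀ _ (hss j), sub_self]
    · intro i _ hij
      rw [QuadraticMap.polarBilin_apply_apply, hso j i (Ne.symm hij), smul_zero]
    · intro h; exact absurd (Finset.mem_univ j) h
  have hxy' : polar (⇑Q) x y' = polar (⇑Q) x y := by
    have h1 : polar (⇑Q) x y' = QuadraticMap.polarBilin Q x y' := rfl
    rw [h1]
    simp only [y', map_sub, map_sum, map_smul]
    rw [Finset.sum_eq_zero, sub_zero, QuadraticMap.polarBilin_apply_apply]
    intro i _
    rw [QuadraticMap.polarBilin_apply_apply, QuadraticMap.polar_comm, hxs i, smul_zero]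
  by_cases hQx : Q x = 0
  · by_cases hQy : Q y' = 0
    · refine ⟨x + y', fun i => ?_, ?_⟩
      · rw [QuadraticMap.polar_add_right, hxs i, hy's i, add_zero]
      · intro h
        apply hy
        rw [← hxy']
        unfold QuadraticMap.polar
        rw [h, hQx, hQy]; ring
    · exact ⟨y', hy's, hQy⟩
  · exact ⟨x, hxs, hQx⟩



open Matrix QuadraticMap Cfsg.Agent.Lib.Helper19.OrthRefl

variable {ι : Type} [Fintype ι] [DecidableEq ι]

lemma z3_pm (t a : ZMod 3) (ht : t ≠ 0) (ha : a ≠ 0) : a = t ∨ a = -t := by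
  revert t a; decide

lemma z3_two : (2 : ZMod 3) ≠ 0 := by decide

/-- Lemma Y: a vector of prescribed nonzero norm orthogonal to a small family. -/
lemma exists_orth_norm (Q : QuadraticForm (ZMod 3) (ι → ZMod 3))
    (hQ : (QuadraticMap.polarBilin Q).Nondegenerate) (k : ℕ) (s : Fin k → (ι → ZMod 3))
    (hso : ∀ i j, i ≠ j → polar (⇑Q) (s i) (s j) = 0) (hsn : ∀ i, Q (s i) ≠ 0)
    (hk : k + 2 ≤ Fintype.card ι) (t : ZMod 3) (ht : t ≠ 0) :
    ∃ u : ι → ZMod 3, (∀ i, polar (⇑Q) (s i) u = 0) ∧ Q u = t := by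
  obtain ⟨a, hao, han⟩ := exists_orth_ns z3_two Q hQ k s hso hsn (by omega)
  rcases z3_pm t (Q a) ht han with hat | hat
  · exact ⟨a, hao, hat⟩
  · let s' : Fin (k + 1) → (ι → ZMod 3) := Fin.cons a s
    have hs'o : ∀ i j, i ≠ j → polar (⇑Q) (s' i) (s' j) = 0 := by
      intro i j
      refine Fin.cases ?_ (fun i' => ?_) i <;> refine Fin.cases ?_ (fun j' => ?_) j
      · intro h; exact absurd rfl h
      · intro _
        simp only [s', Fin.cons_zero, Fin.cons_succ]
        rw [QuadraticMap.polar_comm]; exact hao j'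
      · intro _
        simp only [s', Fin.cons_zero, Fin.cons_succ]
        exact hao i'
      · intro h
        simp only [s', Fin.cons_succ]
        apply hso
        intro h'; apply h; rw [h']
    have hs'n : ∀ i, Q (s' i) ≠ 0 := by
      intro i
      refine Fin.cases ?_ (fun i' => ?_) i
      · simp only [s', Fin.cons_zero]; exact han
      · simp only [s', Fin.cons_succ]; exact hsn i'
    obtain ⟨b, hbo, hbn⟩ := exists_orth_ns z3_two Q hQ (k + 1) s' hs'o hs'n (by omega)
    have hbs : ∀ i, polar (⇑Q) (s i) b = 0 := by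
      intro i
      have := hbo i.succ
      simpa only [s', Fin.cons_succ] using this
    have hab : polar (⇑Q) a b = 0 := by
      have := hbo 0
      simpa only [s', Fin.cons_zero] using this
    rcases z3_pm t (Q b) ht hbn with hbt | hbt
    · exact ⟨b, hbs, hbt⟩
    · refine ⟨a + b, fun i => ?_, ?_⟩
      · rw [QuadraticMap.polar_add_right, hao i, hbs i, add_zero]
      · have h1 : Q (a + b) = Q a + Q b + polar (⇑Q) a b := by
          unfold QuadraticMap.polar; ring
        rw [h1, hat, hbt, hab]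
        have : ∀ t : ZMod 3, -t + -t + 0 = t := by decide
        exact this t



open Matrix QuadraticMap Cfsg.Agent.Lib.Helper19.OrthRefl

lemma sq_of_comm {G : Type*} [Group G] (a b : G) (ha : a * a = 1) (hb : b * b = 1)
    (h : a * b = b * a) : (a * b) ^ 2 = 1 := by
  rw [pow_two]
  calc a * b * (a * b) = a * (b * a) * b := by simp only [mul_assoc]
    _ = a * (a * b) * b := by rw [h]
    _ = (a * a) * (b * b) := by simp only [mul_assoc]
    _ = 1 := by rw [ha, hb, one_mul]

lemma cube_of_braid {G : Type*} [Group G] (a b : G) (ha : a * a = 1) (hb : b * b = 1)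
    (h : b * a * b = a * b * a) : (a * b) ^ 3 = 1 := by
  rw [pow_succ, pow_two]
  calc a * b * (a * b) * (a * b) = (a * b * a) * (b * a * b) := by simp only [mul_assoc]
    _ = (a * b * a) * (a * b * a) := by rw [h]
    _ = a * b * (a * a) * b * a := by simp only [mul_assoc]
    _ = a * (b * b) * a := by rw [ha, mul_one]; simp only [mul_assoc]
    _ = 1 := by rw [hb, mul_one, ha]

lemma conj_of_braid {G : Type*} [Group G] (a b : G) (ha : a * a = 1) (hb : b * b = 1)
    (h : b * a * b = a * b * a) : (a * b) * a * (a * b)⁻¹ = b := by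
  have hai : a⁻¹ = a := inv_eq_of_mul_eq_one_left ha
  have hbi : b⁻¹ = b := inv_eq_of_mul_eq_one_left hb
  rw [_root_.mul_inv_rev, hai, hbi]
  calc a * b * a * (b * a) = (a * b * a) * b * a := by simp only [mul_assoc]
    _ = (b * a * b) * b * a := by rw [h]
    _ = b * a * (b * b) * a := by simp only [mul_assoc]
    _ = b * (a * a) := by rw [hb, mul_one]; simp only [mul_assoc]
    _ = b := by rw [ha, mul_one]

variable {ι : Type} [Fintype ι] [DecidableEq ι]

lemma refl_eq_of_eq (Q : QuadraticForm (ZMod 3) (ι → ZMod 3)) {x y : ι → ZMod 3} (h : x = y)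
    (hx : Q x ≠ 0) (hy : Q y ≠ 0) : refl Q x hx = refl Q y hy := by
  subst h; rfl

lemma refl_ne_one (Q : QuadraticForm (ZMod 3) (ι → ZMod 3)) (v : ι → ZMod 3) (hv : Q v ≠ 0) :
    refl Q v hv ≠ 1 := by
  intro h
  have h1 := act_refl_self Q v hv
  rw [h, act_one] at h1
  apply hv
  have hv0 : v = 0 := by
    ext i
    have := congrFun h1 i
    simp only [Pi.neg_apply, Pi.zero_apply] at this ⊢
    generalize v i = a at this
    revert a; decide
  rw [hv0, QuadraticMap.map_zero]

lemma refl_comm (Q : QuadraticForm (ZMod 3) (ι → ZMod 3)) (v w : ι → ZMod 3) (hv : Q v ≠ 0)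
    (hw : Q w ≠ 0) (h : polar (⇑Q) v w = 0) :
    refl Q v hv * refl Q w hw = refl Q w hw * refl Q v hv := by
  have hfix : act (refl Q v hv) w = w := act_refl_of_polar_eq_zero Q v hv w h
  have hgw : Q (act (refl Q v hv) w) ≠ 0 := by rw [Q_act (Q := ⇑Q)]; exact hw
  have h1 := conj_refl Q w hw (refl Q v hv) hgw
  rw [refl_eq_of_eq Q hfix hgw hw] at h1
  calc refl Q v hv * refl Q w hw
      = (refl Q v hv * refl Q w hw * (refl Q v hv)⁻¹) * refl Q v hv := by group
    _ = refl Q w hw * refl Q v hv := by rw [h1]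

lemma refl_braid (Q : QuadraticForm (ZMod 3) (ι → ZMod 3)) (v w : ι → ZMod 3) (c : ZMod 3)
    (hc : c ≠ 0) (hv : Q v = c) (hw : Q w = c) (h : polar (⇑Q) v w ≠ 0)
    (hv' : Q v ≠ 0) (hw' : Q w ≠ 0) :
    refl Q w hw' * refl Q v hv' * refl Q w hw' = refl Q v hv' * refl Q w hw' * refl Q v hv' := by
  have hgw : Q (act (refl Q v hv') w) ≠ 0 := by rw [Q_act (Q := ⇑Q)]; exact hw'
  have hgv : Q (act (refl Q w hw') v) ≠ 0 := by rw [Q_act (Q := ⇑Q)]; exact hv'
  have h1 := conj_refl Q w hw' (refl Q v hv') hgw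
  have h2 := conj_refl Q v hv' (refl Q w hw') hgv
  rw [refl_inv] at h1 h2
  rw [h1, h2]
  set β : ZMod 3 := c⁻¹ * polar (⇑Q) v w with hβ
  have hβ0 : β ≠ 0 := mul_ne_zero (inv_ne_zero hc) h
  have hββ : β * β = 1 := by
    revert hβ0; generalize β = b; revert b; decide
  have e1 : act (refl Q v hv') w = w - β • v := by rw [act_refl, hv]
  have e2 : act (refl Q w hw') v = v - β • w := by
    rw [act_refl, hw, QuadraticMap.polar_comm]
  have e3 : act (refl Q w hw') v = (-β) • act (refl Q v hv') w := by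
    rw [e1, e2, smul_sub, smul_smul, neg_mul, hββ]
    simp only [neg_smul, one_smul]
    abel
  have hne : Q ((-β) • act (refl Q v hv') w) ≠ 0 := by rw [← e3]; exact hgv
  rw [refl_eq_of_eq Q e3 hgv hne]
  exact refl_smul Q _ hgw (-β) (neg_ne_zero.mpr hβ0) hne



open Matrix QuadraticMap Cfsg.Agent.Lib.Helper19.OrthRefl

section main

variable (n : ℕ) (Q : QuadraticForm (ZMod 3) (Fin n → ZMod 3)) (c : ZMod 3) (hc : c ≠ 0)

include hc in
lemma ne0 {v : Fin n → ZMod 3} (hv : Q v = c) : Q v ≠ 0 := by rw [hv]; exact hc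

lemma mem_Rn_iff (g : ↥(Cfsg.isometryGroup (ZMod 3) (⇑Q))) :
    g ∈ Cfsg.reflectionsOfNorm (⇑Q) c ↔
      ∃ (v : Fin n → ZMod 3) (hv : Q v = c), g = refl Q v (ne0 n Q c hc hv) := by
  constructor
  · rintro ⟨v, hv, h⟩
    exact ⟨v, hv, eq_refl_of_coe Q v (ne0 n Q c hc hv) g h⟩
  · rintro ⟨v, hv, rfl⟩
    exact ⟨v, hv, refl_coe Q v _⟩

lemma refl_mem_R {v : Fin n → ZMod 3} (hv : Q v = c) :
    refl Q v (ne0 n Q c hc hv) ∈ Cfsg.reflectionSubgroup (⇑Q) c := by
  apply Subgroup.subset_closure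
  exact (mem_Rn_iff n Q c hc _).mpr ⟨v, hv, rfl⟩

/-- the reflection as an element of the reflection subgroup -/
noncomputable def rR {v : Fin n → ZMod 3} (hv : Q v = c) :
    ↥(Cfsg.reflectionSubgroup (⇑Q) c) := ⟨refl Q v (ne0 n Q c hc hv), refl_mem_R n Q c hc hv⟩

lemma rR_mul_self {v : Fin n → ZMod 3} (hv : Q v = c) :
    rR n Q c hc hv * rR n Q c hc hv = 1 := by
  apply Subtype.ext
  exact refl_mul_self Q v (ne0 n Q c hc hv)

lemma rR_ne_one {v : Fin n → ZMod 3} (hv : Q v = c) : rR n Q c hc hv ≠ 1 := by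
  intro h
  have := congrArg Subtype.val h
  exact refl_ne_one Q v (ne0 n Q c hc hv) this

lemma rR_comm {v w : Fin n → ZMod 3} (hv : Q v = c) (hw : Q w = c)
    (h : polar (⇑Q) v w = 0) :
    rR n Q c hc hv * rR n Q c hc hw = rR n Q c hc hw * rR n Q c hc hv := by
  apply Subtype.ext
  exact refl_comm Q v w (ne0 n Q c hc hv) (ne0 n Q c hc hw) h

lemma rR_braid {v w : Fin n → ZMod 3} (hv : Q v = c) (hw : Q w = c)
    (h : polar (⇑Q) v w ≠ 0) :
    rR n Q c hc hw * rR n Q c hc hv * rR n Q c hc hw =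
      rR n Q c hc hv * rR n Q c hc hw * rR n Q c hc hv := by
  apply Subtype.ext
  exact refl_braid Q v w c hc hv hw h (ne0 n Q c hc hv) (ne0 n Q c hc hw)

lemma rR_conj_of_ne {v w : Fin n → ZMod 3} (hv : Q v = c) (hw : Q w = c)
    (h : polar (⇑Q) v w ≠ 0) : IsConj (rR n Q c hc hv) (rR n Q c hc hw) := by
  rw [isConj_iff]
  exact ⟨rR n Q c hc hv * rR n Q c hc hw,
    conj_of_braid _ _ (rR_mul_self n Q c hc hv) (rR_mul_self n Q c hc hw)
      (rR_braid n Q c hc hv hw h)⟩

include hc in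
lemma polar_self_ne {v : Fin n → ZMod 3} (hv : Q v = c) : polar (⇑Q) v v ≠ 0 := by
  rw [polar_self', hv]
  exact mul_ne_zero z3_two hc

lemma rR_conj (hn : 4 ≤ n) (hQ : (QuadraticMap.polarBilin Q).Nondegenerate)
    {v w : Fin n → ZMod 3} (hv : Q v = c) (hw : Q w = c) :
    IsConj (rR n Q c hc hv) (rR n Q c hc hw) := by
  by_cases h : polar (⇑Q) v w = 0
  · -- find u ⊥ v, w with Q u = -c
    let s : Fin 2 → (Fin n → ZMod 3) := ![v, w]
    have hso : ∀ i j, i ≠ j → polar (⇑Q) (s i) (s j) = 0 := by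
      intro i j hij
      fin_cases i <;> fin_cases j
      · exact absurd rfl hij
      · exact h
      · show polar (⇑Q) w v = 0
        rw [QuadraticMap.polar_comm]; exact h
      · exact absurd rfl hij
    have hsn : ∀ i, Q (s i) ≠ 0 := by
      intro i
      fin_cases i
      · exact ne0 n Q c hc hv
      · exact ne0 n Q c hc hw
    obtain ⟨u, huo, hun⟩ := exists_orth_norm Q hQ 2 s hso hsn
      (by rw [Fintype.card_fin]; omega) (-c) (neg_ne_zero.mpr hc)
    have hvu : polar (⇑Q) v u = 0 := huo 0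
    have hwu : polar (⇑Q) w u = 0 := huo 1
    have hz : Q (v + w + u) = c := by
      have h1 : Q (v + w + u) = Q (v + w) + Q u + polar (⇑Q) (v + w) u := by
        unfold QuadraticMap.polar; ring
      have h2 : Q (v + w) = Q v + Q w + polar (⇑Q) v w := by
        unfold QuadraticMap.polar; ring
      rw [h1, h2, QuadraticMap.polar_add_left, hvu, hwu, h, hv, hw, hun]
      ring
    have hvz : polar (⇑Q) v (v + w + u) ≠ 0 := by
      rw [QuadraticMap.polar_add_right, QuadraticMap.polar_add_right, h, hvu, add_zero, add_zero]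
      exact polar_self_ne n Q c hc hv
    have hzw : polar (⇑Q) (v + w + u) w ≠ 0 := by
      rw [QuadraticMap.polar_comm, QuadraticMap.polar_add_right, QuadraticMap.polar_add_right,
        QuadraticMap.polar_comm (⇑Q) w v, h, hwu, add_zero, zero_add]
      exact polar_self_ne n Q c hc hw
    exact (rR_conj_of_ne n Q c hc hv hz hvz).trans (rR_conj_of_ne n Q c hc hz hw hzw)
  · exact rR_conj_of_ne n Q c hc hv hw h

end main



open Matrix QuadraticMap Cfsg.Agent.Lib.Helper19.OrthRefl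


/-- Let Q be a non-degenerate quadratic form on the n-dimensional coordinate space over the field with three elements, n ≥ 5, and c a non-zero scalar. In the subgroup of the isometry group of Q generated by the reflections in vectors v with Q(v) = c, these reflections form a single conjugacy class of 3-transpositions generating that subgroup. -/
theorem result (n : ℕ) (hn : 5 ≤ n) (Q : QuadraticForm (ZMod 3) (Fin n → ZMod 3)) (hQ : (QuadraticMap.polarBilin Q).Nondegenerate) (c : ZMod 3) (hc : c ≠ 0) : Cfsg.IsThreeTranspositionClass {g : ↥(Cfsg.reflectionSubgroup (⇑Q) c) | (g : ↥(Cfsg.isometryGroup (ZMod 3) (⇑Q))) ∈ Cfsg.reflectionsOfNorm (⇑Q) c} := by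
  -- description of members of D
  have hD : ∀ g : ↥(Cfsg.reflectionSubgroup (⇑Q) c),
      (g : ↥(Cfsg.isometryGroup (ZMod 3) (⇑Q))) ∈ Cfsg.reflectionsOfNorm (⇑Q) c ↔
        ∃ (v : Fin n → ZMod 3) (hv : Q v = c), g = rR n Q c hc hv := by
    intro g
    rw [mem_Rn_iff n Q c hc]
    constructor
    · rintro ⟨v, hv, h⟩
      exact ⟨v, hv, Subtype.ext h⟩
    · rintro ⟨v, hv, rfl⟩
      exact ⟨v, hv, rfl⟩
  refine ⟨⟨?_, ?_⟩, ?_, ?_⟩
  · -- order 2
    intro d hd
    obtain ⟨v, hv, rfl⟩ := (hD d).mp hd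
    apply orderOf_eq_prime
    · rw [pow_two]; exact rR_mul_self n Q c hc hv
    · exact rR_ne_one n Q c hc hv
  · -- products
    intro d hd e he
    obtain ⟨v, hv, rfl⟩ := (hD d).mp hd
    obtain ⟨w, hw, rfl⟩ := (hD e).mp he
    by_cases h : polar (⇑Q) v w = 0
    · left
      exact sq_of_comm _ _ (rR_mul_self n Q c hc hv) (rR_mul_self n Q c hc hw)
        (rR_comm n Q c hc hv hw h)
    · right
      exact cube_of_braid _ _ (rR_mul_self n Q c hc hv) (rR_mul_self n Q c hc hw)
        (rR_braid n Q c hc hv hw h)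
  · -- single class
    obtain ⟨v0, -, hv0⟩ := exists_orth_norm Q hQ 0 (fun i => Fin.elim0 i)
      (fun i => Fin.elim0 i) (fun i => Fin.elim0 i) (by rw [Fintype.card_fin]; omega) c hc
    refine ⟨rR n Q c hc hv0, (hD _).mpr ⟨v0, hv0, rfl⟩, ?_⟩
    ext g
    show (g : ↥(Cfsg.isometryGroup (ZMod 3) (⇑Q))) ∈ Cfsg.reflectionsOfNorm (⇑Q) c ↔ IsConj (rR n Q c hc hv0) g
    constructor
    · intro hg
      obtain ⟨w, hw, rfl⟩ := (hD g).mp hg
      exact rR_conj n Q c hc (by omega) hQ hv0 hw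
    · intro hg
      rw [isConj_iff] at hg
      obtain ⟨k, hk⟩ := hg
      show (g : ↥(Cfsg.isometryGroup (ZMod 3) (⇑Q))) ∈ Cfsg.reflectionsOfNorm (⇑Q) c
      rw [mem_Rn_iff n Q c hc]
      have hkv : Q (act (k : ↥(Cfsg.isometryGroup (ZMod 3) (⇑Q))) v0) = c := by
        rw [Q_act (Q := ⇑Q)]; exact hv0
      refine ⟨act (k : ↥(Cfsg.isometryGroup (ZMod 3) (⇑Q))) v0, hkv, ?_⟩
      rw [← hk]
      have := conj_refl Q v0 (ne0 n Q c hc hv0) (k : ↥(Cfsg.isometryGroup (ZMod 3) (⇑Q)))
        (ne0 n Q c hc hkv)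
      rw [← this]
      rfl
  · -- generation
    exact Subgroup.closure_closure_coe_preimage

end Cfsg.Agent.S5357
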