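import Cfsg.Statements.S1160
import Mathlib
import Cfsg.Agent.Lib.Lead.NormalRankTwo
import Cfsg.Agent.Lib.Helper2.NilpotentBasic

set_option autoImplicit false
open Cfsg

namespace Cfsg.Agent.S1160

section Norm

variable {P E : Type*} [Group P] [AddCommGroup E] [DistribMulAction P E]

/-- the norm map `e ↦ ∑_{k<n} y^k • e`. -/
def nrm (n : ℕ) (y : P) : E →+ E := ∑ k ∈ Finset.range n, DistribSMul.toAddMonoidHom E (y ^ k)

theorem nrm_apply (n : ℕ) (y : P) (e : E) : nrm n y e = ∑ k ∈ Finset.range n, y ^ k • e := by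
  simp [nrm]

theorem smul_nrm (n : ℕ) (y : P) (hy : y ^ n = 1) (e : E) : y • nrm n y e = nrm n y e := by
  rw [nrm_apply, Finset.smul_sum]
  simp only [← mul_smul, ← pow_succ']
  cases n with
  | zero => simp
  | succ n => rw [Finset.sum_range_succ, Finset.sum_range_succ', hy, pow_zero, add_comm]

theorem pow_smul_of_fixed (y : P) (e : E) (he : y • e = e) (k : ℕ) : y ^ k • e = e := by
  induction k with
  | zero => simp
  | succ k ih => rw [pow_succ, mul_smul, he, ih]

theorem nrm_of_fixed (n : ℕ) (y : P) (e : E) (he : y • e = e) : nrm n y e = n • e := by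
  rw [nrm_apply]
  simp only [pow_smul_of_fixed y e he]
  simp

theorem nrm_smul (n : ℕ) (y : P) (hy : y ^ n = 1) (e : E) : nrm n y (y • e) = nrm n y e := by
  rw [nrm_apply, nrm_apply]
  simp only [← mul_smul, ← pow_succ]
  cases n with
  | zero => simp
  | succ n => rw [Finset.sum_range_succ, Finset.sum_range_succ', hy, pow_zero, add_comm]

theorem nrm_mul_of_fixed (n : ℕ) (w c : P) (hwc : Commute w c) (e : E) (he : w • e = e) :
    nrm n (w * c) e = nrm n c e := by
  rw [nrm_apply, nrm_apply]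
  apply Finset.sum_congr rfl
  intro k _
  rw [hwc.mul_pow, (hwc.pow_pow k k).eq, mul_smul, pow_smul_of_fixed w e he]

theorem sum_nrm_comm (n : ℕ) (x t : P) (hxt : Commute x t) (e : E) :
    ∑ m ∈ Finset.range n, nrm n (x * t ^ m) e = ∑ k ∈ Finset.range n, x ^ k • nrm n (t ^ k) e := by
  simp only [nrm_apply, Finset.smul_sum]
  rw [Finset.sum_comm]
  apply Finset.sum_congr rfl
  intro k _
  apply Finset.sum_congr rfl
  intro m _
  rw [(hxt.pow_right m).mul_pow, pow_right_comm, mul_smul]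

end Norm

section Main

variable {P E : Type*} [Group P] [Finite P] [AddCommGroup E] [Finite E] [DistribMulAction P E]
  [FaithfulSMul P E]

omit [Finite E] [FaithfulSMul P E] in
theorem stab_eq_of_le
    (hconst : ∀ a b : E, a ≠ 0 → b ≠ 0 →
      Nat.card (MulAction.stabilizer P a) = Nat.card (MulAction.stabilizer P b))
    {a b : E} (ha : a ≠ 0) (hb : b ≠ 0)
    (h : MulAction.stabilizer P a ≤ MulAction.stabilizer P b) :
    MulAction.stabilizer P a = MulAction.stabilizer P b :=
  Subgroup.eq_of_le_of_card_ge h (hconst a b ha hb).ge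

omit [Finite P] [Finite E] [FaithfulSMul P E] in
theorem torsion {p q : ℕ} (hpq : Nat.Coprime p q) (hE : ∀ e : E, q • e = 0) (d : E)
    (hd : p • d = 0) : d = 0 := by
  have h1 := addOrderOf_dvd_of_nsmul_eq_zero hd
  have h2 := addOrderOf_dvd_of_nsmul_eq_zero (hE d)
  have h3 := Nat.dvd_gcd h1 h2
  rw [hpq] at h3
  exact AddMonoid.addOrderOf_eq_one_iff.mp (Nat.dvd_one.mp h3)

/-- A central element of order `p` fixes only `0`. -/
theorem central_fpf {p q : ℕ} (hpq : Nat.Coprime p q) (hE : ∀ e : E, q • e = 0)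
    (hconst : ∀ a b : E, a ≠ 0 → b ≠ 0 →
      Nat.card (MulAction.stabilizer P a) = Nat.card (MulAction.stabilizer P b))
    (y : P) (hyc : ∀ g : P, g * y = y * g) (hy1 : y ≠ 1) (hyp : y ^ p = 1) (a : E)
    (ha : y • a = a) : a = 0 := by
  by_contra ha0
  obtain ⟨e, he⟩ : ∃ e : E, y • e ≠ e := by
    by_contra h
    push Not at h
    exact hy1 (FaithfulSMul.eq_of_smul_eq_smul (α := E) (by intro e; rw [h e, one_smul]))
  have hdisj : ∀ w : E, y • (y • w - w) = y • w - w → y • w - w = 0 := by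
    intro w hw
    apply torsion hpq hE
    rw [← nrm_of_fixed p y _ hw, map_sub, nrm_smul p y hyp, sub_self]
  have hb0 : y • e - e ≠ 0 := sub_ne_zero.mpr he
  have hv0 : a + (y • e - e) ≠ 0 := by
    intro h
    have h1 : y • e - e = -a := (neg_eq_of_add_eq_zero_right h).symm
    apply hb0
    apply hdisj
    rw [h1, smul_neg, ha]
  have hkey : ∀ g ∈ MulAction.stabilizer P (a + (y • e - e)), g • a = a ∧ g • (y • e - e) = y • e - e := by
    intro g hg
    rw [MulAction.mem_stabilizer_iff, smul_add] at hg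
    have h1 : g • a - a = y • (e - g • e) - (e - g • e) := by
      have h2 : g • (y • e - e) = y • (g • e) - g • e := by
        rw [smul_sub, ← mul_smul, hyc g, mul_smul]
      rw [h2] at hg
      rw [smul_sub]
      have h3 : g • a - a = (y • e - e) - (y • g • e - g • e) := by
        rw [sub_eq_sub_iff_add_eq_add, hg]; abel
      rw [h3]; abel
    have h2 : y • (y • (e - g • e) - (e - g • e)) = y • (e - g • e) - (e - g • e) := by
      rw [← h1, smul_sub, ← mul_smul, ← hyc g, mul_smul, ha]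
    have h3 := hdisj _ h2
    rw [← h1, sub_eq_zero] at h3
    refine ⟨h3, ?_⟩
    rw [h3] at hg
    exact add_left_cancel hg
  have h1 : MulAction.stabilizer P (a + (y • e - e)) = MulAction.stabilizer P a :=
    stab_eq_of_le hconst hv0 ha0 (fun g hg => (hkey g hg).1)
  have h2 : MulAction.stabilizer P (a + (y • e - e)) = MulAction.stabilizer P (y • e - e) :=
    stab_eq_of_le hconst hv0 hb0 (fun g hg => (hkey g hg).2)
  have h3 : y ∈ MulAction.stabilizer P (y • e - e) := by
    rw [← h2, h1]; exact ha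
  exact hb0 (hdisj e h3)

/-- if `w` fixes `e` and `c` is a nontrivial central element of order `p`, the norm of `w * c`
kills `e`. -/
theorem nrm_kill {p q : ℕ} (hpq : Nat.Coprime p q) (hE : ∀ e : E, q • e = 0)
    (hconst : ∀ a b : E, a ≠ 0 → b ≠ 0 →
      Nat.card (MulAction.stabilizer P a) = Nat.card (MulAction.stabilizer P b))
    (w c y : P) (hcc : ∀ g : P, g * c = c * g) (hc1 : c ≠ 1) (hcp : c ^ p = 1) (hy : y = w * c)
    (e : E) (he : w • e = e) : nrm p y e = 0 := by
  rw [hy, nrm_mul_of_fixed p w c (hcc w) e he]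
  exact central_fpf hpq hE hconst c hcc hc1 hcp _ (smul_nrm p c hcp e)

/-- Step (γ). -/
theorem fixed_eq_zero {p q : ℕ} (hp : p.Prime) (hp2 : p ≠ 2) (hpq : Nat.Coprime p q)
    (hE : ∀ e : E, q • e = 0)
    (hconst : ∀ a b : E, a ≠ 0 → b ≠ 0 →
      Nat.card (MulAction.stabilizer P a) = Nat.card (MulAction.stabilizer P b))
    (Z : Subgroup P) (hZc : ∀ t ∈ Z, ∀ g : P, g * t = t * g) (hZp : ∀ t ∈ Z, t ^ p = 1)
    (x : P) (hxZ : x ∉ Z) (hxp : x ^ p = 1) (hcomm : ∀ h : P, x⁻¹ * (h * x * h⁻¹) ∈ Z)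
    (a : E) (ha : x • a = a) : a = 0 := by
  by_contra ha0
  have hx1 : x ≠ 1 := fun h => hxZ (h ▸ Z.one_mem)
  -- `x` is not central
  obtain ⟨g, hg⟩ : ∃ g : P, g * x ≠ x * g := by
    by_contra h
    push Not at h
    exact ha0 (central_fpf hpq hE hconst x h hx1 hxp a ha)
  obtain ⟨t, ht⟩ : ∃ t : P, t = x⁻¹ * (g * x * g⁻¹) := ⟨_, rfl⟩
  have htZ : t ∈ Z := ht ▸ hcomm g
  have htc := hZc t htZ
  have htp := hZp t htZ
  have ht1 : t ≠ 1 := by
    intro h
    apply hg
    rw [h] at ht
    have : g * x * g⁻¹ = x := by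
      have := congrArg (fun u => x * u) ht
      simpa using this.symm
    calc g * x = (g * x * g⁻¹) * g := by group
      _ = x * g := by rw [this]
  have hgx : g * x * g⁻¹ = x * t := by rw [ht]; group
  -- fixed points of central elements of `Z`
  have hZfpf : ∀ c ∈ Z, c ≠ 1 → ∀ e : E, c • e = e → e = 0 := fun c hc hc1 e he =>
    central_fpf hpq hE hconst c (hZc c hc) hc1 (hZp c hc) e he
  have hkill : ∀ (w c y : P), c ∈ Z → c ≠ 1 → y = w * c → ∀ e : E, w • e = e → nrm p y e = 0 :=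
    fun w c y hc hc1 hy e he => nrm_kill hpq hE hconst w c y (hZc c hc) hc1 (hZp c hc) hy e he
  have hb : (x * t) • (g • a) = g • a := by
    rw [← hgx, ← mul_smul, inv_mul_cancel_right, mul_smul, ha]
  have hb0 : g • a ≠ 0 := by rwa [Ne, smul_eq_zero_iff_eq]
  have hmeet : ∀ e : E, x • e = e → (x * t) • e = e → e = 0 := by
    intro e h1 h2
    apply hZfpf t htZ ht1
    rw [mul_smul] at h2
    have := congrArg (fun u => x⁻¹ • u) h2
    simp only [inv_smul_smul] at this
    rw [this, inv_smul_eq_iff, h1]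
  have hv0 : a + g • a ≠ 0 := by
    intro h
    have h1 : g • a = -a := (neg_eq_of_add_eq_zero_right h).symm
    apply hb0
    apply hmeet _ _ hb
    rw [h1, smul_neg, ha]
  have htsq : t * t ≠ 1 := by
    intro h
    apply ht1
    have h2 : t ^ 2 = 1 := by rw [pow_two]; exact h
    have h3 : t ^ Nat.gcd 2 p = 1 := pow_gcd_eq_one.mpr ⟨h2, htp⟩
    have h4 : Nat.gcd 2 p = 1 := by
      rw [Nat.coprime_primes Nat.prime_two hp |>.mpr (Ne.symm hp2)]
    rwa [h4, pow_one] at h3
  have hkey : ∀ h ∈ MulAction.stabilizer P (a + g • a), h • a = a ∧ h • (g • a) = g • a := by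
    intro h hh
    rw [MulAction.mem_stabilizer_iff, smul_add] at hh
    obtain ⟨t', ht'⟩ : ∃ t' : P, t' = x⁻¹ * (h * x * h⁻¹) := ⟨_, rfl⟩
    have ht'Z : t' ∈ Z := ht' ▸ hcomm h
    have hhx : h * x * h⁻¹ = x * t' := by rw [ht']; group
    have hha : (x * t') • (h • a) = h • a := by
      rw [← hhx, ← mul_smul, inv_mul_cancel_right, mul_smul, ha]
    have hhb : (x * t' * t) • (h • (g • a)) = h • (g • a) := by
      have : x * t' * t = h * (x * t) * h⁻¹ := by
        rw [← hhx]
        have := htc h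
        calc h * x * h⁻¹ * t = h * x * (h⁻¹ * t) := by group
          _ = h * x * (t * h⁻¹) := by
              congr 1
              have := htc h⁻¹
              exact this
          _ = h * (x * t) * h⁻¹ := by group
      rw [this, ← mul_smul, inv_mul_cancel_right, mul_smul, hb]
    by_cases ht'1 : t' = 1
    · rw [ht'1, mul_one] at hha hhb
      have h1 : h • a - a = g • a - h • (g • a) := by
        rw [sub_eq_sub_iff_add_eq_add, hh]; abel
      have h2 : h • a - a = 0 := by
        apply hmeet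
        · rw [smul_sub, hha, ha]
        · rw [h1, smul_sub, hb, hhb]
      rw [sub_eq_zero] at h2
      refine ⟨h2, ?_⟩
      rw [h2] at hh
      exact add_left_cancel hh
    · exfalso
      by_cases htt : t' * t = 1
      · -- apply the norm of `x * t`
        have e1 : nrm p (x * t) a = 0 := hkill x t _ htZ ht1 rfl a ha
        have e2 : nrm p (x * t) (g • a) = p • (g • a) := nrm_of_fixed p _ _ hb
        have e3 : nrm p (x * t) (h • a) = 0 := by
          apply hkill (x * t') (t * t) _ (Z.mul_mem htZ htZ) htsq _ _ hha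
          have : t' = t⁻¹ := eq_inv_of_mul_eq_one_left htt
          rw [this]; group
        have e4 : nrm p (x * t) (h • (g • a)) = 0 := by
          apply hkill x t _ htZ ht1 rfl
          rw [mul_assoc, htt, mul_one] at hhb
          exact hhb
        have := congrArg (nrm p (x * t)) hh
        simp only [map_add, e1, e2, e3, e4, add_zero, zero_add] at this
        exact hb0 (torsion hpq hE _ this.symm)
      · -- apply the norm of `x`
        have e1 : nrm p x a = p • a := nrm_of_fixed p _ _ ha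
        have e2 : nrm p x (g • a) = 0 := by
          apply hkill (x * t) t⁻¹ _ (Z.inv_mem htZ) (inv_ne_one.mpr ht1) _ _ hb
          group
        have e3 : nrm p x (h • a) = 0 := by
          apply hkill (x * t') t'⁻¹ _ (Z.inv_mem ht'Z) (inv_ne_one.mpr ht'1) _ _ hha
          group
        have e4 : nrm p x (h • (g • a)) = 0 := by
          apply hkill (x * t' * t) (t' * t)⁻¹ _ (Z.inv_mem (Z.mul_mem ht'Z htZ)) (inv_ne_one.mpr htt) _ _ hhb
          group
        have := congrArg (nrm p x) hh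
        simp only [map_add, e1, e2, e3, e4, add_zero, zero_add] at this
        exact ha0 (torsion hpq hE _ this.symm)
  have h1 : MulAction.stabilizer P (a + g • a) = MulAction.stabilizer P a :=
    stab_eq_of_le hconst hv0 ha0 (fun h hh => (hkey h hh).1)
  have h2 : MulAction.stabilizer P (a + g • a) = MulAction.stabilizer P (g • a) :=
    stab_eq_of_le hconst hv0 hb0 (fun h hh => (hkey h hh).2)
  have h3 : x ∈ MulAction.stabilizer P (g • a) := by
    rw [← h2, h1]; exact ha
  exact hb0 (hmeet _ h3 hb)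

/-- Step (ε): under the hypotheses of `fixed_eq_zero`, `E` is trivial. -/
theorem module_trivial {p q : ℕ} (hp : p.Prime) (hp2 : p ≠ 2) (hpq : Nat.Coprime p q)
    (hE : ∀ e : E, q • e = 0)
    (hconst : ∀ a b : E, a ≠ 0 → b ≠ 0 →
      Nat.card (MulAction.stabilizer P a) = Nat.card (MulAction.stabilizer P b))
    (Z : Subgroup P) (hZc : ∀ t ∈ Z, ∀ g : P, g * t = t * g) (hZp : ∀ t ∈ Z, t ^ p = 1)
    (z : P) (hzZ : z ∈ Z) (hz1 : z ≠ 1)
    (x : P) (hxZ : x ∉ Z) (hxp : x ^ p = 1) (hcomm : ∀ h : P, x⁻¹ * (h * x * h⁻¹) ∈ Z)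
    (e : E) : e = 0 := by
  apply torsion hpq hE
  have hxz : Commute x z := (hZc z hzZ x)
  have h1 := sum_nrm_comm p x z hxz e
  have hL : ∑ m ∈ Finset.range p, nrm p (x * z ^ m) e = 0 := by
    apply Finset.sum_eq_zero
    intro m _
    have hzm : z ^ m ∈ Z := Z.pow_mem hzZ m
    have hzmc := hZc _ hzm
    apply fixed_eq_zero hp hp2 hpq hE hconst Z hZc hZp (x * z ^ m)
    · intro h
      apply hxZ
      have := Z.mul_mem h (Z.inv_mem hzm)
      rwa [mul_inv_cancel_right] at this
    · rw [(hxz.pow_right m).mul_pow, hxp, one_mul, hZp _ hzm]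
    · intro h
      have h2 : (x * z ^ m)⁻¹ * (h * (x * z ^ m) * h⁻¹) = (z ^ m)⁻¹ * (x⁻¹ * (h * x * h⁻¹)) * z ^ m := by
        have h3 : h * (x * z ^ m) * h⁻¹ = h * x * h⁻¹ * z ^ m := by
          calc h * (x * z ^ m) * h⁻¹ = h * x * (z ^ m * h⁻¹) := by group
            _ = h * x * (h⁻¹ * z ^ m) := by rw [hzmc h⁻¹]
            _ = h * x * h⁻¹ * z ^ m := by group
        rw [h3]; group
      rw [h2]
      exact Z.mul_mem (Z.mul_mem (Z.inv_mem hzm) (hcomm h)) hzm
    · apply smul_nrm
      rw [(hxz.pow_right m).mul_pow, hxp, one_mul, hZp _ hzm]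
  have hR : ∑ k ∈ Finset.range p, x ^ k • nrm p (z ^ k) e = p • e := by
    rw [Finset.sum_eq_single_of_mem 0 (Finset.mem_range.mpr hp.pos)]
    · rw [pow_zero, pow_zero, one_smul, nrm_of_fixed p 1 e (one_smul _ _)]
    · intro k hk hk0
      have hzk : z ^ k ∈ Z := Z.pow_mem hzZ k
      have hzk1 : z ^ k ≠ 1 := by
        intro h
        apply hz1
        have h3 : z ^ Nat.gcd k p = 1 := pow_gcd_eq_one.mpr ⟨h, hZp z hzZ⟩
        have h4 : Nat.gcd k p = 1 := by
          rw [Nat.gcd_comm]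
          exact (Nat.Prime.coprime_iff_not_dvd hp).mpr
            (fun hd => absurd (Nat.le_of_dvd (Nat.pos_of_ne_zero hk0) hd)
              (not_le.mpr (Finset.mem_range.mp hk)))
        rwa [h4, pow_one] at h3
      rw [central_fpf hpq hE hconst (z ^ k) (hZc _ hzk) hzk1 (hZp _ hzk) _
        (smul_nrm p (z ^ k) (hZp _ hzk) e), smul_zero]
  rw [← hR, ← h1, hL]

end Main

/-- Step (β): in a noncyclic `p`-group (`p` odd) there are a central subgroup `Z` of exponent `p`
and an element `x ∉ Z` of order `p` with `[x, P] ⊆ Z`. -/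
theorem exists_data {P : Type*} [Group P] [Finite P] {p : ℕ} [hpF : Fact p.Prime] (hp2 : p ≠ 2)
    (hP : IsPGroup p P) (hnc : ¬ IsCyclic P) :
    ∃ (Z : Subgroup P) (z x : P), (∀ t ∈ Z, ∀ g : P, g * t = t * g) ∧ (∀ t ∈ Z, t ^ p = 1) ∧
      z ∈ Z ∧ z ≠ 1 ∧ x ∉ Z ∧ x ^ p = 1 ∧ ∀ h : P, x⁻¹ * (h * x * h⁻¹) ∈ Z := by
  have hnc' : ¬ IsCyclic (⊤ : Subgroup P) := fun h =>
    hnc (isCyclic_of_surjective Subgroup.topEquiv Subgroup.topEquiv.surjective)
  obtain ⟨A, -, hAn, ⟨hAc, hAexp⟩, hAcard⟩ :=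
    Cfsg.Agent.Lib.Lead.NormalRankTwo.exists_normal_elementaryAbelian_sq hp2 hP ⊤ hnc'
  have hnil : Group.IsNilpotent P := hP.isNilpotent
  have hp1 : 1 < p := hpF.out.one_lt
  have hA1 : A ≠ ⊥ := by
    intro h
    rw [h, Subgroup.card_bot] at hAcard
    have : 1 < p ^ 2 := Nat.one_lt_pow (by norm_num) hp1
    omega
  have hmeet := Cfsg.Agent.Lib.Helper2.normal_inf_center_ne_bot A hA1
  obtain ⟨⟨z, hz⟩, hz1⟩ := Subgroup.ne_bot_iff_exists_ne_one.mp hmeet
  have hz1' : z ≠ 1 := fun h => hz1 (Subtype.ext h)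
  have hzA : z ∈ A := hz.1
  have hzc : z ∈ Subgroup.center P := hz.2
  obtain ⟨Z, hZdef⟩ : ∃ Z : Subgroup P, Z = Subgroup.zpowers z := ⟨_, rfl⟩
  have hzZ : z ∈ Z := hZdef ▸ Subgroup.mem_zpowers z
  have hZcen : Z ≤ Subgroup.center P := by rw [hZdef, Subgroup.zpowers_le]; exact hzc
  have hZA : Z ≤ A := by rw [hZdef, Subgroup.zpowers_le]; exact hzA
  have hZc : ∀ t ∈ Z, ∀ g : P, g * t = t * g := fun t ht g => Subgroup.mem_center_iff.mp (hZcen ht) g
  have hZp : ∀ t ∈ Z, t ^ p = 1 := fun t ht => hAexp t (hZA ht)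
  have hZn : Z.Normal := ⟨fun n hn g => by
    have : g * n * g⁻¹ = n := by rw [hZc n hn g, mul_inv_cancel_right]
    rw [this]; exact hn⟩
  have hZcard : Nat.card Z = p := by
    rw [hZdef, Nat.card_zpowers]
    exact orderOf_eq_prime (hAexp z hzA) hz1'
  -- the quotient
  have hAmap : (A.map (QuotientGroup.mk' Z)).Normal :=
    hAn.map _ (QuotientGroup.mk'_surjective Z)
  have hAmap1 : A.map (QuotientGroup.mk' Z) ≠ ⊥ := by
    intro h
    have h1 : A ≤ Z := by
      have := (Subgroup.map_eq_bot_iff A).mp h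
      rwa [QuotientGroup.ker_mk'] at this
    have h2 := Subgroup.card_le_of_le h1
    rw [hAcard, hZcard] at h2
    have : p < p ^ 2 := by nlinarith
    omega
  have hmeet2 := Cfsg.Agent.Lib.Helper2.normal_inf_center_ne_bot (A.map (QuotientGroup.mk' Z)) hAmap1
  obtain ⟨⟨y, hy⟩, hy1⟩ := Subgroup.ne_bot_iff_exists_ne_one.mp hmeet2
  have hy1' : y ≠ 1 := fun h => hy1 (Subtype.ext h)
  obtain ⟨x, hxA, hxy⟩ := hy.1
  have hyc : y ∈ Subgroup.center (P ⧸ Z) := hy.2
  refine ⟨Z, z, x, hZc, hZp, hzZ, hz1', ?_, hAexp x hxA, ?_⟩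
  · intro hxZ
    apply hy1'
    rw [← hxy]
    exact (QuotientGroup.eq_one_iff x).mpr hxZ
  · intro h
    rw [← QuotientGroup.eq_one_iff]
    have h1 := Subgroup.mem_center_iff.mp hyc (QuotientGroup.mk' Z h)
    rw [← hxy] at h1
    have h2 : ((x⁻¹ * (h * x * h⁻¹) : P) : P ⧸ Z) =
        (QuotientGroup.mk' Z x)⁻¹ * (QuotientGroup.mk' Z h * QuotientGroup.mk' Z x * (QuotientGroup.mk' Z h)⁻¹) := by
      simp
    rw [h2, h1, mul_inv_cancel_right, inv_mul_cancel]

theorem main {P E : Type*} [Group P] [Finite P]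
    [AddCommGroup E] [Finite E] [DistribMulAction P E] [FaithfulSMul P E]
    {p q : ℕ} [hpF : Fact p.Prime] (hp2 : p ≠ 2) (hP : IsPGroup p P) (hq : q.Prime) (hE : ∀ e : E, q • e = 0)
    (hconst : ∀ a b : E, a ≠ 0 → b ≠ 0 →
      Nat.card (MulAction.stabilizer P a) = Nat.card (MulAction.stabilizer P b)) :
    IsCyclic P ∧ ∀ g : P, g ≠ 1 → ∀ a : E, g • a = a → a = 0 := by
  have htriv : (∀ g : P, ∀ e : E, g • e = e) →
      IsCyclic P ∧ ∀ g : P, g ≠ 1 → ∀ a : E, g • a = a → a = 0 := by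
    intro h
    have h1 : ∀ g : P, g = 1 := fun g =>
      FaithfulSMul.eq_of_smul_eq_smul (α := E) (by intro e; rw [h g e, one_smul])
    have : Subsingleton P := ⟨fun a b => by rw [h1 a, h1 b]⟩
    exact ⟨inferInstance, fun g hg => absurd (h1 g) hg⟩
  by_cases hqp : q = p
  · subst hqp
    apply htriv
    by_cases hE0 : ∀ e : E, e = 0
    · intro g e; rw [hE0 e, smul_zero]
    push Not at hE0
    obtain ⟨e₀, he₀⟩ := hE0
    have hdvd : q ∣ Nat.card E := by
      have h1 := addOrderOf_dvd_of_nsmul_eq_zero (hE e₀)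
      have h2 : addOrderOf e₀ = q := by
        rcases (Nat.dvd_prime hq).mp h1 with h | h
        · exact absurd (AddMonoid.addOrderOf_eq_one_iff.mp h) he₀
        · exact h
      rw [← h2]; exact addOrderOf_dvd_natCard e₀
    obtain ⟨b, hbfix, hb0⟩ := hP.exists_fixed_point_of_prime_dvd_card_of_fixed_point E hdvd
      (a := 0) (by intro g; exact smul_zero g)
    have hbtop : MulAction.stabilizer P b = ⊤ := by
      rw [eq_top_iff]
      intro g _
      exact hbfix g
    intro g e
    by_cases he : e = 0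
    · rw [he, smul_zero]
    have h1 := hconst e b he (Ne.symm hb0)
    rw [hbtop, Subgroup.card_top] at h1
    have h2 := (Subgroup.card_eq_iff_eq_top _).mp h1
    have : g ∈ MulAction.stabilizer P e := h2 ▸ Subgroup.mem_top g
    exact this
  · have hpq : Nat.Coprime p q := (Nat.coprime_primes hpF.out hq).mpr (Ne.symm hqp)
    have hcyc : IsCyclic P := by
      by_contra hnc
      obtain ⟨Z, z, x, hZc, hZp, hzZ, hz1, hxZ, hxp, hcomm⟩ := exists_data hp2 hP hnc
      have h0 : ∀ e : E, e = 0 :=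
        module_trivial hpF.out hp2 hpq hE hconst Z hZc hZp z hzZ hz1 x hxZ hxp hcomm
      apply hnc
      exact (htriv (by intro g e; rw [h0 e, smul_zero])).1
    refine ⟨hcyc, ?_⟩
    intro g hg a ha
    obtain ⟨k, hk⟩ := (IsPGroup.iff_orderOf.mp hP) g
    have hk0 : k ≠ 0 := by
      rintro rfl
      rw [pow_zero, orderOf_eq_one_iff] at hk
      exact hg hk
    obtain ⟨k', rfl⟩ := Nat.exists_eq_succ_of_ne_zero hk0
    apply central_fpf hpq hE hconst (g ^ (p ^ k')) (fun h => mul_comm' _ _) _ _ a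
      (pow_smul_of_fixed g a ha _)
    · intro h
      have h1 := orderOf_dvd_of_pow_eq_one h
      rw [hk] at h1
      have h2 := Nat.le_of_dvd (by have := hpF.out.pos; positivity) h1
      have h3 : p ^ k' < p ^ (k' + 1) := Nat.pow_lt_pow_right hpF.out.one_lt (by omega)
      rw [Nat.succ_eq_add_one] at h2
      omega
    · rw [← pow_mul, ← pow_succ, ← hk, pow_orderOf_eq_one]

end Cfsg.Agent.S1160

namespace Cfsg.Agent.S1160

/-- Let `p ≠ 2` be prime and `P` a finite `p`-group acting faithfully by additive automorphisms on a finite elementary abelian `q`-group `E` (`q` prime), such that `|P_a|` is the same for all `a ≠ 0`. Then `P` is cyclic and every non-identity element of `P` fixes only `0`. -/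
theorem result {P E : Type*} [Group P] [Finite P]
    [AddCommGroup E] [Finite E] [DistribMulAction P E] [FaithfulSMul P E]
    {p q : ℕ} [Fact p.Prime] (hp2 : p ≠ 2) (hP : IsPGroup p P) (hq : q.Prime) (hE : ∀ e : E, q • e = 0)
    (hconst : ∀ a b : E, a ≠ 0 → b ≠ 0 →
      Nat.card (MulAction.stabilizer P a) = Nat.card (MulAction.stabilizer P b)) :
    IsCyclic P ∧ ∀ g : P, g ≠ 1 → ∀ a : E, g • a = a → a = 0 := by
  exact main hp2 hP hq hE hconst

end Cfsg.Agent.S1160
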