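import Cfsg.Statements.S0738
import Mathlib
import Cfsg.Agent.S0339

set_option autoImplicit false
open Cfsg

namespace Cfsg.Agent.S0738

/-- the centralizer bound: in a Frobenius-like situation with a large complement, the index of the
centralizer of a non-identity element of the kernel is at most two, and if it is two then all
non-identity elements of the kernel are conjugate -/
theorem centralizer_bound {X : Type*} [Group X] [Finite X] (F H : Subgroup X) [hFn : F.Normal]
    (hHF : H ⊓ F = ⊥)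
    (hcent : ∀ g : X, g ∉ F → ∀ u ∈ F, u ≠ 1 → g * u * g⁻¹ ≠ u)
    (hd : Nat.card F - 1 ≤ 2 * Nat.card H) (u : X) (huF : u ∈ F) (hu1 : u ≠ 1) :
    (∀ v ∈ F, v * u = u * v) ∨ (∀ v ∈ F, v ≠ 1 → ∃ g : X, g * u * g⁻¹ = v) := by
  classical
  letI : MulAction X F := MulAction.compHom F (MulAut.conjNormal (H := F))
  have hsmul : ∀ (g : X) (v : F), ((g • v : F) : X) = g * v * g⁻¹ := fun g v =>
    MulAut.conjNormal_apply g v
  -- |X| ≥ |F| |H|
  have hXcard : Nat.card F * Nat.card H ≤ Nat.card X := by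
    rw [← Nat.card_prod]
    apply Nat.card_le_card_of_injective (fun q : F × H => (q.1 : X) * (q.2 : X))
    rintro ⟨u1, h1⟩ ⟨u2, h2⟩ he
    simp only at he
    have h3 : (u2 : X)⁻¹ * (u1 : X) = (h2 : X) * (h1 : X)⁻¹ := by
      have : (u1 : X) = (u2 : X) * (h2 : X) * (h1 : X)⁻¹ := by rw [← he]; group
      rw [this]; group
    have h4 : (h2 : X) * (h1 : X)⁻¹ ∈ H ⊓ F := by
      refine Subgroup.mem_inf.mpr ⟨H.mul_mem h2.2 (H.inv_mem h1.2), ?_⟩
      rw [← h3]
      exact F.mul_mem (F.inv_mem u2.2) u1.2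
    rw [hHF, Subgroup.mem_bot] at h4
    have h5 : (h2 : X) = h1 := mul_inv_eq_one.mp h4
    have h6 : (u1 : X) = u2 := by
      rw [h4] at h3
      have := inv_mul_eq_one.mp h3
      exact this.symm
    exact Prod.ext (Subtype.ext h6) (Subtype.ext h5.symm)
  -- orbit–stabilizer for the conjugation action
  have hstabF : MulAction.stabilizer X (⟨u, huF⟩ : F) ≤ F := by
    intro g hg
    rw [MulAction.mem_stabilizer_iff] at hg
    by_contra hgF
    apply hcent g hgF u huF hu1
    have := congrArg Subtype.val hg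
    rw [hsmul] at this
    exact this
  have hos : Nat.card (MulAction.stabilizer X (⟨u, huF⟩ : F)) *
      (MulAction.orbit X (⟨u, huF⟩ : F)).ncard = Nat.card X := by
    rw [← MulAction.index_stabilizer]
    exact Subgroup.card_mul_index _
  have horb : (MulAction.orbit X (⟨u, huF⟩ : F)).ncard ≤ Nat.card F - 1 := by
    have hsub : MulAction.orbit X (⟨u, huF⟩ : F) ⊆ (Set.univ : Set F) \ {1} := by
      rintro v ⟨g, rfl⟩
      refine ⟨Set.mem_univ _, ?_⟩
      intro h1
      rw [Set.mem_singleton_iff] at h1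
      have h2 := congrArg Subtype.val h1
      simp only at h2
      rw [hsmul] at h2
      apply hu1
      have h3 : u = g⁻¹ * (g * u * g⁻¹) * g := by group
      rw [h3, h2]
      simp
    calc (MulAction.orbit X (⟨u, huF⟩ : F)).ncard ≤ ((Set.univ : Set F) \ {1}).ncard :=
          Set.ncard_le_ncard hsub (Set.toFinite _)
      _ = Nat.card F - 1 := by
          rw [Set.ncard_sdiff_singleton_of_mem (Set.mem_univ _), Set.ncard_univ]
  -- the stabilizer has index at most 2 in F
  obtain ⟨k, hk⟩ : Nat.card (MulAction.stabilizer X (⟨u, huF⟩ : F)) ∣ Nat.card F :=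
    Subgroup.card_dvd_of_le hstabF
  have hspos : 0 < Nat.card (MulAction.stabilizer X (⟨u, huF⟩ : F)) := Nat.card_pos
  have hHpos : 0 < Nat.card H := Nat.card_pos
  have hFpos : 0 < Nat.card F := Nat.card_pos
  have hkpos : 0 < k := by
    rcases Nat.eq_zero_or_pos k with h | h
    · rw [h, mul_zero] at hk; omega
    · exact h
  -- k * |H| ≤ |orbit|
  have hk2 : k * Nat.card H ≤ (MulAction.orbit X (⟨u, huF⟩ : F)).ncard := by
    have h1 : Nat.card (MulAction.stabilizer X (⟨u, huF⟩ : F)) * (k * Nat.card H) ≤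
        Nat.card (MulAction.stabilizer X (⟨u, huF⟩ : F)) *
          (MulAction.orbit X (⟨u, huF⟩ : F)).ncard := by
      rw [hos, ← mul_assoc, ← hk]
      exact hXcard
    exact Nat.le_of_mul_le_mul_left h1 hspos
  have hk_le : k ≤ 2 := by
    have h1 : k * Nat.card H ≤ 2 * Nat.card H := hk2.trans (horb.trans hd)
    exact Nat.le_of_mul_le_mul_right h1 hHpos
  rcases Nat.lt_or_ge k 2 with hlt | hge
  · -- k = 1 : u is central in F
    left
    have hk1 : k = 1 := by omega
    rw [hk1, mul_one] at hk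
    have heq : MulAction.stabilizer X (⟨u, huF⟩ : F) = F :=
      Subgroup.eq_of_le_of_card_ge hstabF (le_of_eq hk)
    intro v hv
    have hv' : v ∈ MulAction.stabilizer X (⟨u, huF⟩ : F) := by rw [heq]; exact hv
    rw [MulAction.mem_stabilizer_iff] at hv'
    have := congrArg Subtype.val hv'
    rw [hsmul] at this
    simp only at this
    calc v * u = (v * u * v⁻¹) * v := by group
      _ = u * v := by rw [this]
  · -- k = 2 : the orbit is everything
    right
    have hk2' : k = 2 := by omega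
    have horbeq : MulAction.orbit X (⟨u, huF⟩ : F) = (Set.univ : Set F) \ {1} := by
      apply Set.eq_of_subset_of_ncard_le
      · rintro v ⟨g, rfl⟩
        refine ⟨Set.mem_univ _, ?_⟩
        intro h1
        rw [Set.mem_singleton_iff] at h1
        have h2 := congrArg Subtype.val h1
        simp only at h2
        rw [hsmul] at h2
        apply hu1
        have h3 : u = g⁻¹ * (g * u * g⁻¹) * g := by group
        rw [h3, h2]
        simp
      · rw [Set.ncard_sdiff_singleton_of_mem (Set.mem_univ _), Set.ncard_univ]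
        rw [hk2'] at hk2
        exact hd.trans hk2
      · exact Set.toFinite _
    intro v hv hv1
    have hmem : (⟨v, hv⟩ : F) ∈ MulAction.orbit X (⟨u, huF⟩ : F) := by
      rw [horbeq]
      exact ⟨Set.mem_univ _, fun h => hv1 (congrArg Subtype.val h)⟩
    obtain ⟨g, hg⟩ := hmem
    refine ⟨g, ?_⟩
    have := congrArg Subtype.val hg
    simp only at this
    rw [hsmul] at this
    exact this

/-- a finite normal subgroup all of whose non-identity elements are conjugate to a fixed one is
abelian -/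
theorem abelian_of_conj {X : Type*} [Group X] (A : Subgroup X) [Finite A] [hAn : A.Normal] (u : X)
    (hu : u ∈ A) (hconj : ∀ v ∈ A, v ≠ 1 → ∃ g : X, g * u * g⁻¹ = v) :
    ∀ m ∈ A, ∀ m' ∈ A, m * m' = m' * m := by
  classical
  by_cases hAtriv : ∀ m ∈ A, m = 1
  · intro m hm m' hm'
    rw [hAtriv m hm, hAtriv m' hm']
  push Not at hAtriv
  obtain ⟨m₀, hm₀, hm₀1⟩ := hAtriv
  haveI : Nontrivial A := ⟨⟨⟨m₀, hm₀⟩, 1, fun h => hm₀1 (congrArg Subtype.val h)⟩⟩
  have hcard1 : Nat.card A ≠ 1 := by
    intro h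
    have := (Nat.card_eq_one_iff_unique.mp h).1
    exact not_subsingleton A this
  obtain ⟨p, hp, hpA⟩ := Nat.exists_prime_and_dvd hcard1
  haveI : Fact p.Prime := ⟨hp⟩
  obtain ⟨z, hz⟩ := exists_prime_orderOf_dvd_card' p hpA
  have hz1 : (z : X) ≠ 1 := by
    intro h
    have : z = 1 := Subtype.ext h
    rw [this, orderOf_one] at hz
    exact hp.ne_one hz.symm
  have hzord : orderOf (z : X) = p := by rw [Subgroup.orderOf_coe]; exact hz
  have huord : orderOf u = p := by
    obtain ⟨g, hg⟩ := hconj (z : X) z.2 hz1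
    rw [← hzord, ← hg, ← MulAut.conj_apply, MulEquiv.orderOf_eq]
  have hpow : ∀ m ∈ A, m ^ p = 1 := by
    intro m hm
    by_cases hm1 : m = 1
    · rw [hm1, one_pow]
    · obtain ⟨g, hg⟩ := hconj m hm hm1
      have : orderOf m = p := by
        rw [← hg, ← MulAut.conj_apply, MulEquiv.orderOf_eq, huord]
      rw [← this]
      exact pow_orderOf_eq_one m
  have hpg : IsPGroup p A := by
    intro m
    refine ⟨1, ?_⟩
    apply Subtype.ext
    rw [pow_one]
    simpa using hpow m m.2
  haveI := hpg.center_nontrivial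
  obtain ⟨c, hc⟩ := exists_ne (1 : Subgroup.center A)
  have hc1 : ((c : A) : X) ≠ 1 := by
    intro h
    apply hc
    apply Subtype.ext
    apply Subtype.ext
    exact h
  have hccomm : ∀ m ∈ A, ((c : A) : X) * m = m * ((c : A) : X) := by
    intro m hm
    have := (Subgroup.mem_center_iff.mp c.2) ⟨m, hm⟩
    have h2 := congrArg Subtype.val this
    simpa using h2.symm
  -- every element conjugate to c is central
  have hcentral : ∀ (g : X) (m' : X), m' ∈ A →
      (g * ((c : A) : X) * g⁻¹) * m' = m' * (g * ((c : A) : X) * g⁻¹) := by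
    intro g m' hm'
    have h3 : g⁻¹ * m' * g⁻¹⁻¹ ∈ A := hAn.conj_mem m' hm' g⁻¹
    have h4 := hccomm _ h3
    calc g * ((c : A) : X) * g⁻¹ * m' = g * (((c : A) : X) * (g⁻¹ * m' * g⁻¹⁻¹)) * g⁻¹ := by group
      _ = g * ((g⁻¹ * m' * g⁻¹⁻¹) * ((c : A) : X)) * g⁻¹ := by rw [h4]
      _ = m' * (g * ((c : A) : X) * g⁻¹) := by group
  -- u is conjugate to c
  obtain ⟨g₀, hg₀⟩ := hconj ((c : A) : X) (c : A).2 hc1
  have hu_eq : u = g₀⁻¹ * ((c : A) : X) * g₀⁻¹⁻¹ := by rw [← hg₀]; group
  intro m hm m' hm'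
  by_cases hm1 : m = 1
  · rw [hm1, one_mul, mul_one]
  obtain ⟨g, hg⟩ := hconj m hm hm1
  have hm_eq : m = (g * g₀⁻¹) * ((c : A) : X) * (g * g₀⁻¹)⁻¹ := by
    rw [← hg, hu_eq]; group
  rw [hm_eq]
  exact hcentral _ m' hm'

/-- the structure of the kernel when the complement is large -/
theorem elementary_abelian {X : Type*} [Group X] [Finite X] (F H : Subgroup X) [hFn : F.Normal]
    (hHF : H ⊓ F = ⊥)
    (hcent : ∀ g : X, g ∉ F → ∀ u ∈ F, u ≠ 1 → g * u * g⁻¹ ≠ u)
    (hd : Nat.card F - 1 ≤ 2 * Nat.card H) :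
    (∀ u ∈ F, ∀ v ∈ F, u * v = v * u) ∧
      ∃ p f : ℕ, p.Prime ∧ (∀ u ∈ F, u ^ p = 1) ∧ Nat.card F = p ^ f := by
  classical
  have hab : ∀ u ∈ F, ∀ v ∈ F, u * v = v * u := by
    by_cases hall : ∀ u ∈ F, u ≠ 1 → ∀ v ∈ F, v * u = u * v
    · intro u hu v hv
      by_cases hu1 : u = 1
      · rw [hu1, one_mul, mul_one]
      · exact (hall u hu hu1 v hv).symm
    · push Not at hall
      obtain ⟨u, hu, hu1, v, hv, hne⟩ := hall
      rcases centralizer_bound F H hHF hcent hd u hu hu1 with h | h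
      · exact absurd (h v hv) hne
      · exact abelian_of_conj F u hu h
  refine ⟨hab, ?_⟩
  by_cases hF1 : Nat.card F = 1
  · refine ⟨2, 0, Nat.prime_two, ?_, by rw [hF1, pow_zero]⟩
    intro u hu
    have : F = ⊥ := Subgroup.card_eq_one.mp hF1
    rw [this, Subgroup.mem_bot] at hu
    rw [hu, one_pow]
  obtain ⟨p, hp, hpF⟩ := Nat.exists_prime_and_dvd hF1
  haveI : Fact p.Prime := ⟨hp⟩
  obtain ⟨z, hz⟩ := exists_prime_orderOf_dvd_card' p hpF
  have hz1 : (z : X) ≠ 1 := by
    intro h
    have : z = 1 := Subtype.ext h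
    rw [this, orderOf_one] at hz
    exact hp.ne_one hz.symm
  have hzp : (z : X) ^ p = 1 := by
    have := pow_orderOf_eq_one z
    rw [hz] at this
    have h2 := congrArg Subtype.val this
    simpa using h2
  -- the subgroup of elements of order dividing p
  let A : Subgroup X :=
    { carrier := {v | v ∈ F ∧ v ^ p = 1}
      one_mem' := ⟨F.one_mem, one_pow p⟩
      mul_mem' := by
        rintro v w ⟨hv, hvp⟩ ⟨hw, hwp⟩
        refine ⟨F.mul_mem hv hw, ?_⟩
        have hc : Commute v w := hab v hv w hw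
        rw [hc.mul_pow, hvp, hwp, one_mul]
      inv_mem' := by
        rintro v ⟨hv, hvp⟩
        exact ⟨F.inv_mem hv, by rw [inv_pow, hvp, inv_one]⟩ }
  have hAF : A ≤ F := fun v hv => hv.1
  have hzA : (z : X) ∈ A := ⟨z.2, hzp⟩
  -- H embeds into A \ {1}
  have hHlt : Nat.card H < Nat.card A := by
    haveI : Fintype H := Fintype.ofFinite H
    haveI : Fintype A := Fintype.ofFinite A
    rw [Nat.card_eq_fintype_card, Nat.card_eq_fintype_card]
    apply Fintype.card_lt_of_injective_of_notMem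
      (fun h : H => (⟨(h : X) * z * (h : X)⁻¹, by
        refine ⟨hFn.conj_mem _ z.2 _, ?_⟩
        rw [conj_pow, hzp]
        group⟩ : A)) ?_ (b := 1) ?_
    · intro h h' he
      have he' : (h : X) * z * (h : X)⁻¹ = (h' : X) * z * (h' : X)⁻¹ := congrArg Subtype.val he
      have h1 : ((h' : X)⁻¹ * (h : X)) * z * ((h' : X)⁻¹ * (h : X))⁻¹ = z := by
        calc ((h' : X)⁻¹ * (h : X)) * z * ((h' : X)⁻¹ * (h : X))⁻¹
            = (h' : X)⁻¹ * ((h : X) * z * (h : X)⁻¹) * (h' : X) := by group
          _ = (h' : X)⁻¹ * ((h' : X) * z * (h' : X)⁻¹) * (h' : X) := by rw [he']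
          _ = z := by group
      have h2 : (h' : X)⁻¹ * (h : X) ∈ F := by
        by_contra hn
        exact hcent _ hn z z.2 hz1 h1
      have h3 : (h' : X)⁻¹ * (h : X) ∈ H ⊓ F :=
        Subgroup.mem_inf.mpr ⟨H.mul_mem (H.inv_mem h'.2) h.2, h2⟩
      rw [hHF, Subgroup.mem_bot] at h3
      apply Subtype.ext
      exact (inv_mul_eq_one.mp h3).symm
    · rintro ⟨h, he⟩
      have he' : (h : X) * z * (h : X)⁻¹ = 1 := congrArg Subtype.val he
      apply hz1
      calc (z : X) = (h : X)⁻¹ * ((h : X) * z * (h : X)⁻¹) * (h : X) := by group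
        _ = 1 := by rw [he']; group
  have hAeq : A = F := by
    by_contra hne
    obtain ⟨k, hk⟩ : Nat.card A ∣ Nat.card F := Subgroup.card_dvd_of_le hAF
    have hApos : 0 < Nat.card A := Nat.card_pos
    have hk2 : 2 ≤ k := by
      rcases Nat.lt_or_ge k 2 with hlt | hge
      · exfalso
        have hk01 : k = 0 ∨ k = 1 := by omega
        rcases hk01 with h | h
        · rw [h, mul_zero] at hk
          have : 0 < Nat.card F := Nat.card_pos
          omega
        · rw [h, mul_one] at hk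
          exact hne (Subgroup.eq_of_le_of_card_ge hAF (le_of_eq hk))
      · exact hge
    have : 2 * Nat.card A ≤ Nat.card F := by
      rw [hk, mul_comm]
      exact Nat.mul_le_mul_left _ hk2
    omega
  have hexp : ∀ u ∈ F, u ^ p = 1 := by
    intro u hu
    have : u ∈ A := hAeq ▸ hu
    exact this.2
  have hpg : IsPGroup p F := by
    intro m
    refine ⟨1, ?_⟩
    apply Subtype.ext
    rw [pow_one]
    simpa using hexp m m.2
  obtain ⟨f, hf⟩ := (IsPGroup.iff_card).mp hpg
  exact ⟨p, f, hp, hexp, hf⟩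

/-- Let a finite Zassenhaus group of degree `n + 1` have two-point stabilisers of order `d` with `2d ≥ n - 1`. Then a normal subgroup of a point stabiliser acting regularly on the remaining points is elementary abelian, and the degree is a prime power plus one. -/
theorem result {G Ω : Type*} [Group G] [Finite G] [MulAction G Ω] [Fintype Ω] (hZ : Cfsg.IsZassenhausGroup G Ω) {a b : Ω} (hab : a ≠ b) (hd : Fintype.card Ω - 2 ≤ 2 * Nat.card ↥(MulAction.stabilizer G a ⊓ MulAction.stabilizer G b)) (F : Subgroup G) (hFle : F ≤ MulAction.stabilizer G a) (hFn : (F.subgroupOf (MulAction.stabilizer G a)).Normal) (hreg : ∀ y z : Ω, y ≠ a → z ≠ a → ∃! u : F, (u : G) • y = z) : IsMulCommutative F ∧ ∃ p f : ℕ, p.Prime ∧ (∀ u ∈ F, u ^ p = 1) ∧ Fintype.card Ω = p ^ f + 1 := by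
  classical
  obtain ⟨hfaith, h2, h3, hfix, hnoreg⟩ := hZ
  have hba : b ≠ a := Ne.symm hab
  have hFa : ∀ u ∈ F, u • a = a := fun u hu => hFle hu
  have hFs : ∀ u ∈ F, ∀ y : Ω, y ≠ a → u • y = y → u = 1 := by
    intro u hu y hy huy
    obtain ⟨w, -, hw⟩ := hreg y y hy hy
    have h1 := hw ⟨u, hu⟩ huy
    have h2' := hw 1 (by simp)
    have := h1.trans h2'.symm
    exact congrArg Subtype.val this
  have hFt : ∀ y z : Ω, y ≠ a → z ≠ a → ∃ u ∈ F, u • y = z := by
    intro y z hy hz
    obtain ⟨w, hw, -⟩ := hreg y z hy hz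
    exact ⟨w, w.2, hw⟩
  have hFnorm : ∀ g : G, g • a = a → ∀ u ∈ F, g * u * g⁻¹ ∈ F := by
    intro g hg u hu
    have := hFn.conj_mem ⟨u, hFle hu⟩ (Subgroup.mem_subgroupOf.mpr hu) ⟨g, hg⟩
    exact Subgroup.mem_subgroupOf.mp this
  -- A1
  have hA1 : ∀ g : G, g • a = a → g ≠ 1 → ∀ y : Ω, y ≠ a → g • y = y → ∀ u ∈ F, u ≠ 1 →
      g * u * g⁻¹ ≠ u := by
    intro g hga hg1 y hya hgy u hu hu1 he
    have hgu : g * u = u * g := by
      calc g * u = (g * u * g⁻¹) * g := by group
        _ = u * g := by rw [he]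
    have huy : u • y ≠ y := fun h => hu1 (hFs u hu y hya h)
    have huya : u • y ≠ a := by
      intro h
      have h1 : u • y = u • a := by rw [h, hFa u hu]
      exact hya (MulAction.injective u h1)
    have hfix2 : g • (u • y) = u • y := by
      rw [← mul_smul, hgu, mul_smul, hgy]
    exact hg1 (h3 g a y (u • y) (Ne.symm hya) (Ne.symm huy) (Ne.symm huya) hga hgy hfix2)
  -- A2
  have hA2 : ∀ g : G, g • a = a → g ∉ F → ∃ y : Ω, y ≠ a ∧ g • y = y := by
    intro g hga hgF
    have hgb : g • b ≠ a := by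
      intro h
      have h1 : g • b = g • a := by rw [h, hga]
      exact hba (MulAction.injective g h1)
    obtain ⟨u, hu, hub⟩ := hFt b (g • b) hba hgb
    -- h := u⁻¹ g fixes a and b
    obtain ⟨h, hh⟩ : ∃ h : G, h = u⁻¹ * g := ⟨_, rfl⟩
    have hgu : g = u * h := by rw [hh]; group
    have hha : h • a = a := by
      rw [hh, mul_smul, hga]
      exact inv_smul_eq_iff.mpr (hFa u hu).symm
    have hhb : h • b = b := by
      rw [hh, mul_smul, ← hub, inv_smul_smul]
    have hh1 : h ≠ 1 := by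
      intro h1
      apply hgF
      rw [hgu, h1, mul_one]
      exact hu
    haveI : Finite F := inferInstance
    let ψ : F → F := fun v => ⟨(v : G) * (h * (v : G) * h⁻¹)⁻¹,
      F.mul_mem v.2 (F.inv_mem (hFnorm _ hha v v.2))⟩
    have hψinj : Function.Injective ψ := by
      intro v w he
      have he' : (v : G) * (h * (v : G) * h⁻¹)⁻¹ = (w : G) * (h * (w : G) * h⁻¹)⁻¹ :=
        congrArg Subtype.val he
      have e0 : (h * (w : G) * h⁻¹)⁻¹ = (w : G)⁻¹ * ((v : G) * (h * (v : G) * h⁻¹)⁻¹) := by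
        rw [he']; group
      have h1 : h * ((w : G)⁻¹ * (v : G)) * h⁻¹ = (w : G)⁻¹ * (v : G) := by
        calc h * ((w : G)⁻¹ * (v : G)) * h⁻¹ = (h * (w : G) * h⁻¹)⁻¹ * (h * (v : G) * h⁻¹) := by
              group
          _ = (w : G)⁻¹ * ((v : G) * (h * (v : G) * h⁻¹)⁻¹) * (h * (v : G) * h⁻¹) := by rw [e0]
          _ = (w : G)⁻¹ * (v : G) := by group
      by_contra hne
      have hwv1 : (w : G)⁻¹ * (v : G) ≠ 1 := by
        intro h2'
        apply hne
        apply Subtype.ext
        exact (inv_mul_eq_one.mp h2').symm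
      exact hA1 h hha hh1 b hba hhb _ (F.mul_mem (F.inv_mem w.2) v.2) hwv1 h1
    have hψsurj : Function.Surjective ψ := Finite.injective_iff_surjective.mp hψinj
    obtain ⟨v, hv⟩ := hψsurj ⟨u, hu⟩
    have hv' : (v : G) * (h * (v : G) * h⁻¹)⁻¹ = u := congrArg Subtype.val hv
    refine ⟨(v : G) • b, ?_, ?_⟩
    · intro h1
      have h2' : (v : G) • b = (v : G) • a := by rw [h1, hFa v v.2]
      exact hba (MulAction.injective (v : G) h2')
    · have e : g * (v : G) = (v : G) * h := by
        rw [hgu, ← hv']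
        group
      rw [← mul_smul, e, mul_smul, hhb]
  -- cardinalities
  have hFcard : Nat.card F = Fintype.card Ω - 1 := by
    have hbij : Function.Bijective (fun u : F => (⟨(u : G) • b, by
        intro h
        have h1 : (u : G) • b = (u : G) • a := by rw [h, hFa u u.2]
        exact hba (MulAction.injective (u : G) h1)⟩ : {z : Ω // z ≠ a})) := by
      constructor
      · intro u w he
        have he' : (u : G) • b = (w : G) • b := congrArg Subtype.val he
        obtain ⟨x, -, hx⟩ := hreg b ((w : G) • b) hba (by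
          intro h
          have h1 : (w : G) • b = (w : G) • a := by rw [h, hFa w w.2]
          exact hba (MulAction.injective (w : G) h1))
        exact (hx u he').trans (hx w rfl).symm
      · rintro ⟨z, hz⟩
        obtain ⟨x, hx, -⟩ := hreg b z hba hz
        exact ⟨x, Subtype.ext hx⟩
    rw [Nat.card_congr (Equiv.ofBijective _ hbij), Nat.card_eq_fintype_card,
      Fintype.card_subtype_compl]
    simp
  -- apply the abstract result inside the point stabilizer
  haveI := hFn
  have hHF : ((MulAction.stabilizer G a ⊓ MulAction.stabilizer G b).subgroupOf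
      (MulAction.stabilizer G a)) ⊓ F.subgroupOf (MulAction.stabilizer G a) = ⊥ := by
    rw [eq_bot_iff]
    intro g hg
    obtain ⟨hg1, hg2⟩ := Subgroup.mem_inf.mp hg
    rw [Subgroup.mem_subgroupOf] at hg1 hg2
    rw [Subgroup.mem_bot]
    apply Subtype.ext
    have hgb : (g : G) • b = b := (Subgroup.mem_inf.mp hg1).2
    exact hFs _ hg2 b hba hgb
  have hcent : ∀ g : MulAction.stabilizer G a, g ∉ F.subgroupOf (MulAction.stabilizer G a) →
      ∀ u ∈ F.subgroupOf (MulAction.stabilizer G a), u ≠ 1 → g * u * g⁻¹ ≠ u := by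
    intro g hg u hu hu1 he
    rw [Subgroup.mem_subgroupOf] at hg hu
    obtain ⟨y, hya, hgy⟩ := hA2 (g : G) g.2 hg
    have hg1 : (g : G) ≠ 1 := by
      intro h
      apply hg
      rw [h]; exact F.one_mem
    apply hA1 (g : G) g.2 hg1 y hya hgy (u : G) hu (fun h => hu1 (Subtype.ext h))
    exact congrArg Subtype.val he
  have hcF : Nat.card (F.subgroupOf (MulAction.stabilizer G a)) = Nat.card F :=
    Nat.card_congr (Subgroup.subgroupOfEquivOfLe hFle).toEquiv
  have hcH : Nat.card ((MulAction.stabilizer G a ⊓ MulAction.stabilizer G b).subgroupOf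
      (MulAction.stabilizer G a)) = Nat.card ↥(MulAction.stabilizer G a ⊓ MulAction.stabilizer G b) :=
    Nat.card_congr (Subgroup.subgroupOfEquivOfLe inf_le_left).toEquiv
  have hd' : Nat.card (F.subgroupOf (MulAction.stabilizer G a)) - 1 ≤
      2 * Nat.card ((MulAction.stabilizer G a ⊓ MulAction.stabilizer G b).subgroupOf
      (MulAction.stabilizer G a)) := by
    rw [hcF, hcH, hFcard]
    omega
  obtain ⟨hcomm, p, f, hp, hexp, hcard⟩ := elementary_abelian
    (F.subgroupOf (MulAction.stabilizer G a))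
    ((MulAction.stabilizer G a ⊓ MulAction.stabilizer G b).subgroupOf (MulAction.stabilizer G a))
    hHF hcent hd'
  refine ⟨⟨⟨fun u v => ?_⟩⟩, p, f, hp, ?_, ?_⟩
  · apply Subtype.ext
    have := hcomm ⟨u, hFle u.2⟩ (Subgroup.mem_subgroupOf.mpr u.2) ⟨v, hFle v.2⟩
      (Subgroup.mem_subgroupOf.mpr v.2)
    have h2' := congrArg Subtype.val this
    exact h2'
  · intro u hu
    have := hexp ⟨u, hFle hu⟩ (Subgroup.mem_subgroupOf.mpr hu)
    have h2' := congrArg Subtype.val this
    exact h2'
  · rw [hcF, hFcard] at hcard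
    have hpos : 0 < Fintype.card Ω := Fintype.card_pos_iff.mpr ⟨a⟩
    omega

end Cfsg.Agent.S0738
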