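import Mathlib
import Cfsg.Prelude.Def_LieExceptional

set_option autoImplicit false
open Cfsg

namespace Cfsg.Agent.S0741

open MulAction in
/-- If the two-point stabilisers of a finite Zassenhaus group of degree `n + 1` have even order `d`, then `2d ≥ n - 1`. -/
theorem result {G Ω : Type*} [Group G] [Finite G] [MulAction G Ω] [Fintype Ω] (hZ : Cfsg.IsZassenhausGroup G Ω) {a b : Ω} (hab : a ≠ b) (heven : Even (Nat.card ↥(MulAction.stabilizer G a ⊓ MulAction.stabilizer G b))) : Fintype.card Ω - 2 ≤ 2 * Nat.card ↥(MulAction.stabilizer G a ⊓ MulAction.stabilizer G b) := by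
  classical
  obtain ⟨-, h2t, h3, -, -⟩ := hZ
  haveI : Fintype G := Fintype.ofFinite G
  rw [is_two_pretransitive_iff] at h2t
  -- an involution in H
  obtain ⟨t, ht⟩ := exists_prime_orderOf_dvd_card' (G := ↥(stabilizer G a ⊓ stabilizer G b)) 2
    heven.two_dvd
  have ht1 : (t : G) ≠ 1 := by
    intro h
    have : t = 1 := Subtype.ext h
    rw [this, orderOf_one] at ht
    omega
  have ht2 : (t : G) * t = 1 := by
    have : t ^ 2 = 1 := by rw [← ht]; exact pow_orderOf_eq_one t
    have h2 : ((t ^ 2 : ↥(stabilizer G a ⊓ stabilizer G b)) : G) = 1 := by rw [this]; rfl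
    simpa [pow_two] using h2
  have hta : (t : G) • a = a := (Subgroup.mem_inf.1 t.2).1
  have htb : (t : G) • b = b := (Subgroup.mem_inf.1 t.2).2
  -- choice of involutions fixing two given points
  have hex : ∀ p : Ω × Ω, ∃ s : G, p.1 ≠ p.2 →
      (s * s = 1 ∧ s ≠ 1 ∧ s • p.1 = p.1 ∧ s • p.2 = p.2) := by
    intro p
    by_cases hp : p.1 = p.2
    · exact ⟨1, fun h => absurd hp h⟩
    · obtain ⟨g, hga, hgb⟩ := h2t hab hp
      refine ⟨g * t * g⁻¹, fun _ => ⟨?_, ?_, ?_, ?_⟩⟩
      · calc g * t * g⁻¹ * (g * t * g⁻¹) = g * ((t : G) * t) * g⁻¹ := by group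
          _ = 1 := by rw [ht2]; group
      · intro h
        apply ht1
        calc (t : G) = g⁻¹ * (g * t * g⁻¹) * g := by group
          _ = 1 := by rw [h]; group
      · rw [← hga, mul_smul, mul_smul, inv_smul_smul, hta]
      · rw [← hgb, mul_smul, mul_smul, inv_smul_smul, htb]
  choose f hf using hex
  set d := Nat.card ↥(stabilizer G a ⊓ stabilizer G b) with hd
  set N := Fintype.card Ω with hN
  -- the sets
  set S : Finset (Ω × Ω) := (Finset.univ.erase a).offDiag with hS
  set J : Finset G := Finset.univ.filter (fun s : G => s * s = 1 ∧ s • a ≠ a) with hJ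
  set T : Finset (G × Ω) := (J ×ˢ Finset.univ).filter (fun q => q.1 • q.2 = q.2) with hT
  have hScard : S.card = (N - 1) * (N - 1) - (N - 1) := by
    rw [hS, Finset.offDiag_card, Finset.card_erase_of_mem (Finset.mem_univ a), Finset.card_univ]
  -- S injects into T
  have hST : S.card ≤ T.card := by
    apply Finset.card_le_card_of_injOn (fun p => (f p, p.1))
    · intro p hp
      rw [Finset.mem_coe, hS, Finset.mem_offDiag] at hp
      obtain ⟨hp1, hp2, hp3⟩ := hp
      obtain ⟨h1, h2, h3', h4⟩ := hf p hp3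
      rw [Finset.mem_coe, hT]
      refine Finset.mem_filter.2 ⟨Finset.mem_product.2 ⟨?_, Finset.mem_univ _⟩, h3'⟩
      rw [hJ]
      refine Finset.mem_filter.2 ⟨Finset.mem_univ _, h1, ?_⟩
      intro ha
      exact h2 (h3 (f p) p.1 p.2 a hp3 (Finset.ne_of_mem_erase hp2)
        (Finset.ne_of_mem_erase hp1) h3' h4 ha)
    · intro p hp q hq hpq
      rw [Finset.mem_coe, hS, Finset.mem_offDiag] at hp hq
      obtain ⟨hp1, hp2, hp3⟩ := hp
      obtain ⟨hq1, hq2, hq3⟩ := hq
      obtain ⟨h1, h2, h3', h4⟩ := hf p hp3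
      obtain ⟨k1, k2, k3', k4⟩ := hf q hq3
      simp only [Prod.mk.injEq] at hpq
      obtain ⟨e1, e2⟩ := hpq
      have : p.2 = q.2 := by
        by_contra hne
        rw [← e1] at k3' k4
        rw [← e2] at k3'
        exact h2 (h3 (f p) p.1 p.2 q.2 hp3 hne (by rw [e2]; exact hq3) h3' h4 k4)
      exact Prod.ext e2 this
  -- T maps to J with fibres of size ≤ 2
  have hTJ : T.card ≤ 2 * J.card := by
    apply Finset.card_le_mul_card_image_of_maps_to (f := Prod.fst)
    · intro q hq
      rw [hT, Finset.mem_filter, Finset.mem_product] at hq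
      exact hq.1.1
    · intro s hs
      by_contra hlt
      push_neg at hlt
      rw [Finset.two_lt_card_iff] at hlt
      obtain ⟨x, y, z, hx, hy, hz, hxy, hxz, hyz⟩ := hlt
      rw [Finset.mem_filter, hT, Finset.mem_filter] at hx hy hz
      obtain ⟨⟨-, hx1⟩, hx2⟩ := hx
      obtain ⟨⟨-, hy1⟩, hy2⟩ := hy
      obtain ⟨⟨-, hz1⟩, hz2⟩ := hz
      rw [hJ, Finset.mem_filter] at hs
      have h1 : x.2 ≠ y.2 := fun h => hxy (Prod.ext (hx2.trans hy2.symm) h)
      have h2 : x.2 ≠ z.2 := fun h => hxz (Prod.ext (hx2.trans hz2.symm) h)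
      have h3' : y.2 ≠ z.2 := fun h => hyz (Prod.ext (hy2.trans hz2.symm) h)
      rw [hx2] at hx1; rw [hy2] at hy1; rw [hz2] at hz1
      have : s = 1 := h3 s x.2 y.2 z.2 h1 h3' h2 hx1 hy1 hz1
      apply hs.2.2
      rw [this, one_smul]
  -- J maps to Ω ∖ {a} with fibres of size ≤ d
  have hJd : J.card ≤ d * (N - 1) := by
    have := Finset.card_le_mul_card_image_of_maps_to (f := fun s : G => s • a) (s := J)
      (t := Finset.univ.erase a) ?_ d ?_
    · rwa [Finset.card_erase_of_mem (Finset.mem_univ a), Finset.card_univ] at this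
    · intro s hs
      rw [hJ, Finset.mem_filter] at hs
      exact Finset.mem_erase.2 ⟨hs.2.2, Finset.mem_univ _⟩
    · intro y hy
      have hya : y ≠ a := Finset.ne_of_mem_erase hy
      by_cases hne : (J.filter (fun s => s • a = y)).Nonempty
      · obtain ⟨s₀, hs₀⟩ := hne
        rw [Finset.mem_filter, hJ, Finset.mem_filter] at hs₀
        obtain ⟨⟨-, hs₀2, -⟩, hs₀y⟩ := hs₀
        obtain ⟨h, hha, hhb⟩ := h2t hab hya.symm
        have hs₀inv : s₀⁻¹ = s₀ := by
          rw [inv_eq_iff_mul_eq_one]; exact hs₀2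
        have key : ∀ s : G, s * s = 1 → s • a = y → s • y = a := by
          intro s hs2 hsa
          rw [← hsa, ← mul_smul, hs2, one_smul]
        rw [← Fintype.card_coe, ← Nat.card_eq_fintype_card, hd]
        refine Nat.card_le_card_of_injective
          (fun s => ⟨h⁻¹ * s₀⁻¹ * s.1 * h, ?_⟩) ?_
        · have hs := Finset.mem_filter.1 s.2
          obtain ⟨hsJ, hsy⟩ := hs
          obtain ⟨-, hs2, -⟩ := Finset.mem_filter.1 hsJ
          rw [Subgroup.mem_inf, mem_stabilizer_iff, mem_stabilizer_iff]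
          constructor
          · rw [mul_smul, mul_smul, mul_smul, hha, hsy, hs₀inv, key s₀ hs₀2 hs₀y, inv_smul_eq_iff,
              hha]
          · rw [mul_smul, mul_smul, mul_smul, hhb, key s.1 hs2 hsy, hs₀inv, hs₀y, inv_smul_eq_iff,
              hhb]
        · intro s s' hss
          simp only [Subtype.mk.injEq] at hss
          apply Subtype.ext
          simpa using hss
      · rw [Finset.not_nonempty_iff_eq_empty] at hne
        rw [hne]
        simp
  -- arithmetic
  have hN2 : 2 ≤ N := by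
    rw [hN]
    calc 2 = ({a, b} : Finset Ω).card := (Finset.card_pair hab).symm
      _ ≤ Fintype.card Ω := Finset.card_le_univ _
  have hfin : (N - 1) * (N - 1) - (N - 1) ≤ 2 * (d * (N - 1)) := by
    rw [← hScard]
    exact hST.trans (hTJ.trans (Nat.mul_le_mul_left 2 hJd))
  obtain ⟨m, hm⟩ : ∃ m, N = m + 2 := ⟨N - 2, by omega⟩
  rw [hm] at hfin ⊢
  have h1 : (m + 2 - 1) * (m + 2 - 1) - (m + 2 - 1) = (m + 1) * m := by
    have : m + 2 - 1 = m + 1 := by omega
    rw [this]
    have : (m + 1) * (m + 1) = (m + 1) * m + (m + 1) := by ring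
    rw [this, Nat.add_sub_cancel]
  rw [h1] at hfin
  have h2 : m + 2 - 1 = m + 1 := by omega
  rw [h2] at hfin
  have h3 : (m + 1) * m ≤ (m + 1) * (2 * d) := by
    calc (m + 1) * m ≤ 2 * (d * (m + 1)) := hfin
      _ = (m + 1) * (2 * d) := by ring
  have := Nat.le_of_mul_le_mul_left h3 (Nat.succ_pos m)
  simpa using this

end Cfsg.Agent.S0741
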