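import Mathlib
import Cfsg.Statements.S1189
import Cfsg.Agent.Lib.Helper12.QD
-- import your own Cfsg.Agent.* helpers here

set_option autoImplicit false
open Cfsg

namespace Cfsg.Agent.S1189

open Cfsg.Agent.Lib.Helper12.QD

variable {S : Type*} [Group S]

theorem involution_cases (D : Data S) (t : S) (ht : orderOf t = 2) :
    t = D.z ∨ IsConj t D.y := by
  have ht2 : t * t = 1 := by
    have := pow_orderOf_eq_one t
    rwa [ht, pow_two] at this
  have ht1 : t ≠ 1 := by
    rintro rfl
    rw [orderOf_one] at ht
    omega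
  obtain ⟨i, rfl | rfl⟩ := D.normal_form t
  · left
    rw [D.px_sq, D.px_eq_one_iff, D.two_mul_eq_zero_iff] at ht2
    rcases ht2 with rfl | rfl
    · exact absurd D.px_zero ht1
    · rfl
  · right
    rw [D.pxy_sq, D.px_eq_one_iff] at ht2
    have hpar : D.par i = 0 := by
      rcases Data.zmod2_cases (D.par i) with h | h
      · exact h
      · rw [D.h_mul_odd h] at ht2
        exact absurd ht2 D.h_ne_zero
    have := D.isConj_pxy (i := i) (j := 0) (by rw [hpar, map_zero])
    rwa [D.px_zero, one_mul] at this

theorem orderOf_px_q (D : Data S) : orderOf (D.px D.q) = 4 := by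
  have h1 : ¬ (D.px D.q) ^ 2 ^ 1 = 1 := by
    rw [pow_one, pow_two, D.px_sq, D.px_eq_one_iff, D.two_q]
    exact D.h_ne_zero
  have h2 : (D.px D.q) ^ 2 ^ (1 + 1) = 1 := by
    rw [← D.px_nsmul, D.px_eq_one_iff]
    push_cast
    have e1 := D.two_q
    have e2 := D.two_h
    linear_combination 2 * e1 + e2
  have := orderOf_eq_prime_pow h1 h2
  simpa using this

theorem orderOf_px_one_y (D : Data S) : orderOf (D.px 1 * D.y) = 4 := by
  have h1 : ¬ (D.px 1 * D.y) ^ 2 ^ 1 = 1 := by
    rw [pow_one, pow_two, D.pxy_sq, D.px_eq_one_iff, mul_one]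
    exact D.h_ne_zero
  have h2 : (D.px 1 * D.y) ^ 2 ^ (1 + 1) = 1 := by
    have e : (D.px 1 * D.y) ^ 2 = D.px D.h := by rw [pow_two, D.pxy_sq, mul_one]
    have : (2 : ℕ) ^ (1 + 1) = 2 * 2 := by norm_num
    rw [this, pow_mul, e, pow_two, D.px_sq, D.px_eq_one_iff]
    exact D.two_h
  have := orderOf_eq_prime_pow h1 h2
  simpa using this

theorem order_four_cases (D : Data S) (t : S) (ht : orderOf t = 4) :
    IsConj t (D.px D.q) ∨ IsConj t (D.px 1 * D.y) := by
  have ht4 : (t * t) * (t * t) = 1 := by
    have := pow_orderOf_eq_one t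
    rw [ht] at this
    rw [← this, show (4 : ℕ) = 2 * 2 from rfl, pow_mul, pow_two, pow_two]
  have ht2 : t * t ≠ 1 := by
    intro h
    have : orderOf t ∣ 2 := orderOf_dvd_of_pow_eq_one (by rw [pow_two]; exact h)
    rw [ht] at this
    omega
  obtain ⟨i, rfl | rfl⟩ := D.normal_form t
  · left
    rw [D.px_sq, D.px_sq, D.px_eq_one_iff, D.two_mul_eq_zero_iff] at ht4
    rw [D.px_sq, Ne, D.px_eq_one_iff] at ht2
    rcases ht4 with h | h
    · exact absurd h ht2
    · have h3 : 2 * (i - D.q) = 0 := by
        have := D.two_q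
        linear_combination h - this
      rw [D.two_mul_eq_zero_iff] at h3
      rcases h3 with h3 | h3
      · have : i = D.q := by linear_combination h3
        rw [this]
      · have hi : i = D.q + D.h := by linear_combination h3
        rw [isConj_comm, isConj_iff]
        refine ⟨D.y, ?_⟩
        rw [D.conj_px, hi]
        congr 1
        unfold Data.r
        have h4 := D.h_q
        have h5 := D.two_q
        have h6 := D.two_h
        linear_combination h4 - h5 - h6
  · right
    rw [D.pxy_sq, Ne, D.px_eq_one_iff] at ht2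
    have hpar : D.par i = 1 := by
      rcases Data.zmod2_cases (D.par i) with h | h
      · exact absurd (D.h_mul_even h) ht2
      · exact h
    exact D.isConj_pxy (by rw [hpar, map_one])

/-- A quasi-dihedral 2-group has exactly two conjugacy classes of elements of order 2 and exactly two conjugacy classes of elements of order 4. -/
theorem result {S : Type*} [Group S] [Finite S] (hS : Cfsg.IsQuasiDihedral S) : Nat.card {C : ConjClasses S // ∃ t : S, orderOf t = 2 ∧ ConjClasses.mk t = C} = 2 ∧ Nat.card {C : ConjClasses S // ∃ t : S, orderOf t = 4 ∧ ConjClasses.mk t = C} = 2 := by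
  obtain ⟨D⟩ := exists_data hS
  constructor
  · rw [Nat.card_eq_two_iff]
    refine ⟨⟨ConjClasses.mk D.z, D.z, D.orderOf_z, rfl⟩, ⟨ConjClasses.mk D.y, D.y, D.hy, rfl⟩, ?_, ?_⟩
    · intro h
      have h1 := congrArg Subtype.val h
      simp only at h1
      rw [ConjClasses.mk_eq_mk_iff_isConj, isConj_iff] at h1
      obtain ⟨c, hc⟩ := h1
      rw [D.z_comm c, mul_assoc, mul_inv_cancel, mul_one] at hc
      have : D.px D.h = D.px 0 * D.y := by rw [D.px_zero, one_mul]; exact hc
      exact D.px_ne_px_mul_y _ _ this
    · apply Set.eq_univ_of_forall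
      rintro ⟨C, t, ht, rfl⟩
      rcases involution_cases D t ht with h | h
      · left
        apply Subtype.ext
        simp only
        rw [h]
      · right
        apply Subtype.ext
        simp only
        exact ConjClasses.mk_eq_mk_iff_isConj.mpr h
  · rw [Nat.card_eq_two_iff]
    refine ⟨⟨ConjClasses.mk (D.px D.q), D.px D.q, orderOf_px_q D, rfl⟩,
      ⟨ConjClasses.mk (D.px 1 * D.y), D.px 1 * D.y, orderOf_px_one_y D, rfl⟩, ?_, ?_⟩
    · intro h
      have h1 := congrArg Subtype.val h
      simp only at h1
      rw [ConjClasses.mk_eq_mk_iff_isConj] at h1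
      exact D.not_isConj_px_pxy _ _ h1
    · apply Set.eq_univ_of_forall
      rintro ⟨C, t, ht, rfl⟩
      rcases order_four_cases D t ht with h | h
      · left
        apply Subtype.ext
        simp only
        exact ConjClasses.mk_eq_mk_iff_isConj.mpr h
      · right
        apply Subtype.ext
        simp only
        exact ConjClasses.mk_eq_mk_iff_isConj.mpr h

end Cfsg.Agent.S1189
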