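import Mathlib
import Cfsg.Statements.S1190
import Cfsg.Agent.Lib.Helper18.QuasiDihedral

set_option autoImplicit false
open Cfsg

namespace Cfsg.Agent.S1190

open Cfsg.Agent.Lib.Helper18

variable {S : Type*} [Group S] {n : ℕ} {x y : S}

/-- an element commuting with `a = x^(2k) y` is one of `1, z, a, z a`. -/
theorem comm_a (h : QD S n x y) (k : ℤ) (g : S)
    (hg : g * (x ^ (2 * k) * y) = (x ^ (2 * k) * y) * g) :
    g = 1 ∨ g = QD.z n x ∨ g = x ^ (2 * k) * y ∨ g = QD.z n x * (x ^ (2 * k) * y) := by
  have key : ∀ j : ℤ, x ^ j * (x ^ (2 * k) * y) = (x ^ (2 * k) * y) * x ^ j →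
      x ^ j = 1 ∨ x ^ j = QD.z n x := by
    intro j hj
    apply h.zpow_of_dvd
    apply h.zpow_comm_y
    have e1 : x ^ j * (x ^ (2 * k) * y) = x ^ (2 * k) * (x ^ j * y) := by
      rw [← mul_assoc, ← mul_assoc, ← zpow_add, ← zpow_add, add_comm]
    have e2 : (x ^ (2 * k) * y) * x ^ j = x ^ (2 * k) * (y * x ^ j) := by rw [mul_assoc]
    rw [e1, e2] at hj
    exact mul_left_cancel hj
  rcases h.cases g with ⟨j, rfl⟩ | ⟨j, rfl⟩
  · rcases key j hg with h1 | h1
    · left; exact h1
    · right; left; exact h1
  · -- c = g * a lies in ⟨x⟩ and commutes with a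
    have ha2 : (x ^ (2 * k) * y) * (x ^ (2 * k) * y) = 1 := by
      rw [h.xy_sq, h.zpow_eq_one_iff, h.two_pow_pred]
      exact ⟨k, by ring⟩
    set a := x ^ (2 * k) * y with ha
    have hc : (x ^ j * y) * a = x ^ (j + QD.u n * (2 * k)) := h.xy_mul_xy j (2 * k)
    have hcomm : x ^ (j + QD.u n * (2 * k)) * a = a * x ^ (j + QD.u n * (2 * k)) := by
      rw [← hc, mul_assoc, ha2, mul_one, ← mul_assoc, ← hg, mul_assoc, ha2, mul_one]
    have hga : x ^ j * y = x ^ (j + QD.u n * (2 * k)) * a := by
      rw [← hc, mul_assoc, ha2, mul_one]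
    rcases key _ hcomm with h1 | h1
    · right; right; left
      rw [hga, h1, one_mul]
    · right; right; right
      rw [hga, h1]

theorem klein_structure [Finite S] (h : QD S n x y) (T : Subgroup S) (hT : IsKleinFour T) :
    ∃ k : ℤ, QD.z n x ∈ T ∧ x ^ (2 * k) * y ∈ T ∧
      ∀ g ∈ T, g = 1 ∨ g = QD.z n x ∨ g = x ^ (2 * k) * y ∨ g = QD.z n x * (x ^ (2 * k) * y) := by
  have hsq : ∀ g ∈ T, g * g = 1 := by
    intro g hg
    have := IsKleinFour.mul_self (⟨g, hg⟩ : T)
    exact congrArg Subtype.val this
  have hord : ∀ g ∈ T, g ≠ 1 → orderOf g = 2 := by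
    intro g hg hg1
    exact orderOf_eq_prime (by rw [pow_two]; exact hsq g hg) hg1
  -- some element outside ⟨x⟩
  have hex : ∃ a ∈ T, a ∉ Subgroup.zpowers x := by
    by_contra hcon
    push Not at hcon
    have hle : T ≤ Subgroup.zpowers x := hcon
    have : IsCyclic (T.subgroupOf (Subgroup.zpowers x)) := inferInstance
    have hcyc : IsCyclic T := (Subgroup.subgroupOfEquivOfLe hle).isCyclic.mp this
    exact IsKleinFour.not_isCyclic hcyc
  obtain ⟨a, haT, hax⟩ := hex
  rcases h.cases a with ⟨i, rfl⟩ | ⟨i, rfl⟩
  · exact absurd (Subgroup.zpow_mem_zpowers x i) hax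
  have hi : Even i := by
    rcases Int.even_or_odd i with hi | hi
    · exact hi
    · exfalso
      have h1 := hord _ haT (h.xy_ne_one i)
      rw [h.orderOf_xy_of_odd i hi] at h1
      omega
  obtain ⟨k, hk⟩ := hi
  have hk' : i = 2 * k := by rw [hk]; ring
  subst hk'
  set a := x ^ (2 * k) * y with ha
  -- elements of T other than 1, a
  have hother : ∀ g ∈ T, g ≠ 1 → g ≠ a → g = QD.z n x ∨ g = QD.z n x * a := by
    intro g hg hg1 hga
    rcases h.cases g with ⟨j, rfl⟩ | ⟨j, rfl⟩
    · left
      exact h.zpow_involution j (hord _ hg hg1)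
    · right
      have hag : a * (x ^ j * y) ∈ T := T.mul_mem haT hg
      have hag' : a * (x ^ j * y) = x ^ (2 * k + QD.u n * j) := h.xy_mul_xy _ _
      have hne : a * (x ^ j * y) ≠ 1 := by
        intro h1
        apply hga
        have h2 : a * (x ^ j * y) = a * a := by rw [h1, hsq a haT]
        exact (mul_left_cancel h2)
      have hz : a * (x ^ j * y) = QD.z n x := by
        rw [hag']
        apply h.zpow_involution
        rw [← hag']
        exact hord _ hag hne
      have : x ^ j * y = a * QD.z n x := by
        rw [← hz, ← mul_assoc, hsq a haT, one_mul]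
      rw [this]
      exact (Subgroup.mem_center_iff.mp h.z_mem_center a)
  -- z ∈ T
  have hzT : QD.z n x ∈ T := by
    -- T has an element other than 1 and a
    have hex2 : ∃ g ∈ T, g ≠ 1 ∧ g ≠ a := by
      by_contra hcon
      push Not at hcon
      have hcard := hT.card_four
      have hle : Nat.card T ≤ 2 := by
        classical
        have hinj : Function.Injective (fun t : T => (if (t : S) = 1 then (0 : Fin 2) else 1)) := by
          intro s t hst
          simp only at hst
          apply Subtype.ext
          by_cases hs : (s : S) = 1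
          · by_cases ht : (t : S) = 1
            · rw [hs, ht]
            · simp [hs, ht] at hst
          · by_cases ht : (t : S) = 1
            · simp [hs, ht] at hst
            · rw [hcon _ s.2 hs, hcon _ t.2 ht]
        have := Nat.card_le_card_of_injective _ hinj
        simpa using this
      omega
    obtain ⟨g, hg, hg1, hga⟩ := hex2
    rcases hother g hg hg1 hga with h1 | h1
    · rw [← h1]; exact hg
    · have : QD.z n x = g * a := by
        rw [h1, mul_assoc, hsq a haT, mul_one]
      rw [this]
      exact T.mul_mem hg haT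
  refine ⟨k, hzT, haT, ?_⟩
  intro g hg
  by_cases hg1 : g = 1
  · left; exact hg1
  by_cases hga : g = a
  · right; right; left; exact hga
  rcases hother g hg hg1 hga with h1 | h1
  · right; left; exact h1
  · right; right; right; exact h1

theorem conj_a_by_w (h : QD S n x y) (k : ℤ) :
    QD.w n x * (x ^ (2 * k) * y) * (QD.w n x)⁻¹ = QD.z n x * (x ^ (2 * k) * y) := by
  rw [QD.w, h.conj_xy_by_x, QD.z, QD.x_mul_xy]
  congr 1
  rw [h.zpow_eq_iff]
  have e1 := h.two_pow_pred
  have e2 := h.two_pow_pred2
  have e3 := h.two_pow_pred3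
  refine ⟨-(2 ^ (n - 3)), ?_⟩
  rw [QD.u, e1, e2, e3]
  ring

theorem za_ne_a (h : QD S n x y) (a : S) : QD.z n x * a ≠ a := by
  intro h1
  apply h.z_ne_one
  have : QD.z n x * a = 1 * a := by rw [h1, one_mul]
  exact mul_right_cancel this

/-- In a quasi-dihedral 2-group S, any two Klein four-subgroups are conjugate, and every Klein four-subgroup T satisfies C_S(T) = T and |N_S(T) : T| = 2. -/
theorem result {S : Type*} [Group S] [Finite S] (hS : Cfsg.IsQuasiDihedral S) : (∀ T₁ T₂ : Subgroup S, IsKleinFour T₁ → IsKleinFour T₂ → ∃ s : S, T₁.map (MulAut.conj s).toMonoidHom = T₂) ∧ (∀ T : Subgroup S, IsKleinFour T → Subgroup.centralizer (T : Set S) = T ∧ T.relIndex (Subgroup.normalizer (T : Set S)) = 2) := by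
  obtain ⟨n, x, y, h⟩ := isQuasiDihedral_iff.mp hS
  have hzc : ∀ g : S, g * QD.z n x = QD.z n x * g :=
    fun g => Subgroup.mem_center_iff.mp h.z_mem_center g
  constructor
  · intro T₁ T₂ hT₁ hT₂
    obtain ⟨k₁, hz₁, ha₁, hall₁⟩ := klein_structure h T₁ hT₁
    obtain ⟨k₂, hz₂, ha₂, hall₂⟩ := klein_structure h T₂ hT₂
    have hconj := h.isConj_xy (2 * k₁) (k₂ - k₁)
    have e : 2 * k₁ + 2 * (k₂ - k₁) = 2 * k₂ := by ring
    rw [e, isConj_iff] at hconj
    obtain ⟨s, hs⟩ := hconj
    refine ⟨s, ?_⟩
    symm
    apply Subgroup.eq_of_le_of_card_ge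
    · intro g hg
      rw [Subgroup.mem_map]
      rcases hall₂ g hg with rfl | rfl | rfl | rfl
      · exact ⟨1, T₁.one_mem, by simp⟩
      · refine ⟨QD.z n x, hz₁, ?_⟩
        simp only [MulEquiv.coe_toMonoidHom, MulAut.conj_apply]
        rw [hzc s, mul_inv_cancel_right]
      · exact ⟨_, ha₁, by simpa [MulAut.conj_apply] using hs⟩
      · refine ⟨QD.z n x * (x ^ (2 * k₁) * y), T₁.mul_mem hz₁ ha₁, ?_⟩
        simp only [MulEquiv.coe_toMonoidHom, MulAut.conj_apply]
        rw [← hs]
        have : s * (QD.z n x * (x ^ (2 * k₁) * y)) * s⁻¹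
            = (s * QD.z n x) * (x ^ (2 * k₁) * y) * s⁻¹ := by group
        rw [this, hzc s]
        group
    · have h1 : Nat.card (T₁.map (MulAut.conj s).toMonoidHom) = Nat.card T₁ :=
        Nat.card_congr (Subgroup.equivMapOfInjective T₁ _ (MulAut.conj s).injective).symm.toEquiv
      rw [h1, hT₁.card_four, hT₂.card_four]
  · intro T hT
    obtain ⟨k, hz, ha, hall⟩ := klein_structure h T hT
    set a := x ^ (2 * k) * y with hadef
    have hsq : ∀ g ∈ T, g * g = 1 := by
      intro g hg
      have := IsKleinFour.mul_self (⟨g, hg⟩ : T)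
      exact congrArg Subtype.val this
    have hTcomm : ∀ g ∈ T, ∀ t ∈ T, g * t = t * g := by
      intro g hg t ht
      have h1 := hsq (g * t) (T.mul_mem hg ht)
      have h2 := hsq g hg
      have h3 := hsq t ht
      calc g * t = g * t * (t * g * (g * t)) := by
            have : t * g * (g * t) = 1 := by
              rw [mul_assoc, ← mul_assoc g, h2, one_mul, h3]
            rw [this, mul_one]
        _ = (g * t * (g * t)) * (t * g) := by
            have hh : t * g * (g * t) = 1 := by
              rw [mul_assoc, ← mul_assoc g, h2, one_mul, h3]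
            rw [hh, mul_one, h1, one_mul]
            -- g * t = t * g : from (g t)(g t) = 1
            have : g * t = (g * t)⁻¹ := (inv_eq_of_mul_eq_one_right h1).symm
            rw [this, mul_inv_rev, inv_eq_of_mul_eq_one_right h3, inv_eq_of_mul_eq_one_right h2]
        _ = t * g := by rw [h1, one_mul]
    have hcentral : ∀ g : S, g * a = a * g → g ∈ T := by
      intro g hg
      rcases comm_a h k g hg with rfl | rfl | rfl | rfl
      · exact T.one_mem
      · exact hz
      · exact ha
      · exact T.mul_mem hz ha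
    have hcent : Subgroup.centralizer (T : Set S) = T := by
      ext g
      rw [Subgroup.mem_centralizer_iff]
      constructor
      · intro hg
        exact hcentral g (hg a ha).symm
      · intro hg t ht
        exact hTcomm t ht g hg
    refine ⟨hcent, ?_⟩
    rw [Subgroup.relIndex_eq_two_iff]
    have hwa := conj_a_by_w h k
    have hwN : QD.w n x ∈ Subgroup.normalizer (T : Set S) := by
      apply Subgroup.mem_normalizer_fintype
      intro g hg
      rcases hall g hg with rfl | rfl | rfl | rfl
      · simp [T.one_mem]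
      · rw [hzc, mul_inv_cancel_right]; exact hz
      · rw [hwa]; exact T.mul_mem hz ha
      · have : QD.w n x * (QD.z n x * a) * (QD.w n x)⁻¹
            = (QD.w n x * QD.z n x) * a * (QD.w n x)⁻¹ := by group
        rw [this, hzc]
        have : QD.z n x * QD.w n x * a * (QD.w n x)⁻¹
            = QD.z n x * (QD.w n x * a * (QD.w n x)⁻¹) := by group
        rw [this, hwa, ← mul_assoc, h.z_sq, one_mul]
        exact ha
    have hwT : QD.w n x ∉ T := by
      intro hw
      have h1 := hTcomm _ hw a ha
      have h2 : QD.w n x * a * (QD.w n x)⁻¹ = a := by rw [h1, mul_inv_cancel_right]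
      rw [hwa] at h2
      exact za_ne_a h a h2
    refine ⟨QD.w n x, hwN, ?_⟩
    intro b hb
    have hbn : b * a * b⁻¹ ∈ T := (Subgroup.mem_normalizer_iff.mp hb a).mp ha
    have hcases : b * a * b⁻¹ = a ∨ b * a * b⁻¹ = QD.z n x * a := by
      rcases hall _ hbn with h1 | h1 | h1 | h1
      · exfalso
        have : a = 1 := by
          have h2 : b * a * b⁻¹ = b * 1 * b⁻¹ := by rw [h1]; group
          exact mul_left_cancel (mul_right_cancel h2)
        exact h.xy_ne_one _ this
      · exfalso
        have : a = QD.z n x := by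
          have h2 : b * a * b⁻¹ = b * QD.z n x * b⁻¹ := by
            rw [h1, hzc b, mul_inv_cancel_right]
          exact mul_left_cancel (mul_right_cancel h2)
        exact h.z_ne_xy _ this.symm
      · left; exact h1
      · right; exact h1
    rcases hcases with h1 | h1
    · -- b centralizes a
      have hbT : b ∈ T := by
        apply hcentral
        have : b * a = b * a * b⁻¹ * b := by group
        rw [this, h1]
      right
      refine ⟨hbT, ?_⟩
      intro hbw
      apply hwT
      have : QD.w n x = b⁻¹ * (b * QD.w n x) := by group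
      rw [this]
      exact T.mul_mem (T.inv_mem hbT) hbw
    · left
      constructor
      · apply hcentral
        have e1 : b * QD.w n x * a = b * (QD.w n x * a * (QD.w n x)⁻¹) * QD.w n x := by group
        rw [e1, hwa]
        have e2 : b * (QD.z n x * a) * QD.w n x
            = QD.z n x * (b * a * b⁻¹) * (b * QD.w n x) := by
          have e2' : b * (QD.z n x * a) = (b * QD.z n x) * a := by group
          rw [e2', hzc b]; group
        rw [e2, h1]
        have e3 : QD.z n x * (QD.z n x * a) * (b * QD.w n x)
            = (QD.z n x * QD.z n x) * (a * (b * QD.w n x)) := by group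
        rw [e3, h.z_sq, one_mul]
      · intro hbT
        have h2 := hTcomm _ hbT a ha
        have h3 : b * a * b⁻¹ = a := by rw [h2, mul_inv_cancel_right]
        rw [h1] at h3
        exact za_ne_a h a h3

end Cfsg.Agent.S1190
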