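import Cfsg.Statements.S1191
import Cfsg.Agent.Lib.Helper18.QuasiDihedral

set_option autoImplicit false
set_option linter.style.haveILetI false
open Cfsg
open Cfsg.Agent.Lib.Helper18

namespace Cfsg.Agent.S1191

variable {S : Type*} [Group S] {n : ℕ} {x y : S}

theorem exists_gens' (h : QD S n x y) (Q : Subgroup S) (p q : S) (hp : p ∈ Q) (hq : q ∈ Q)
    (op : orderOf p = 4) (oq : orderOf q = 4) (opq : orderOf (p * q) = 4) (hne : p * q ≠ q * p) :
    QD.w n x ∈ Q ∧ ∃ i : ℤ, Odd i ∧ x ^ i * y ∈ Q := by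
  have hw : ∀ k : ℤ, x ^ k ∈ Q → orderOf (x ^ k) = 4 → QD.w n x ∈ Q := by
    intro k hk ho
    rcases h.zpow_order_four k ho with h1 | h1
    · rwa [← h1]
    · have := Q.inv_mem hk; rwa [h1, inv_inv] at this
  have hodd : ∀ k : ℤ, orderOf (x ^ k * y) = 4 → Odd k := by
    intro k ho
    by_contra hk
    rw [Int.not_odd_iff_even] at hk
    have := h.orderOf_xy_of_even k hk
    omega
  rcases h.cases p with ⟨a, rfl⟩ | ⟨a, rfl⟩ <;> rcases h.cases q with ⟨b, rfl⟩ | ⟨b, rfl⟩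
  · exact absurd (by rw [← zpow_add, ← zpow_add, add_comm]) hne
  · exact ⟨hw a hp op, b, hodd b oq, hq⟩
  · exact ⟨hw b hq oq, a, hodd a op, hp⟩
  · rw [h.xy_mul_xy] at opq
    exact ⟨hw _ (by rw [← h.xy_mul_xy]; exact Q.mul_mem hp hq) opq, a, hodd a op, hp⟩

theorem card_of_equiv (Q : Subgroup S) (e : Q ≃* QuaternionGroup 2) : Nat.card Q = 8 := by
  rw [Nat.card_congr e.toEquiv, Nat.card_eq_fintype_card, QuaternionGroup.card]

theorem exists_gens (h : QD S n x y) (Q : Subgroup S) (e : Q ≃* QuaternionGroup 2) :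
    QD.w n x ∈ Q ∧ ∃ i : ℤ, Odd i ∧ x ^ i * y ∈ Q := by
  have ho : ∀ g : QuaternionGroup 2, orderOf ((e.symm g : Q) : S) = orderOf g := by
    intro g
    rw [Subgroup.orderOf_coe, MulEquiv.orderOf_eq]
  refine exists_gens' h Q (e.symm (QuaternionGroup.a 1)) (e.symm (QuaternionGroup.xa 0))
    (e.symm _).2 (e.symm _).2 ?_ ?_ ?_ ?_
  · rw [ho, QuaternionGroup.orderOf_a_one]
  · rw [ho, QuaternionGroup.orderOf_xa]
  · rw [← Subgroup.coe_mul, ← map_mul, ho, QuaternionGroup.a_mul_xa, QuaternionGroup.orderOf_xa]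
  · rw [← Subgroup.coe_mul, ← map_mul, ← Subgroup.coe_mul, ← map_mul]
    intro hc
    have := e.symm.injective (Subtype.coe_injective hc)
    revert this
    decide

/-- The explicit subgroup `⟨w, x^i y⟩`. -/
def Qi (h : QD S n x y) (i : ℤ) : Subgroup S where
  carrier := {g | (∃ k : ℤ, g = x ^ (2 ^ (n - 2) * k)) ∨
    (∃ k : ℤ, g = x ^ (i + 2 ^ (n - 2) * k) * y)}
  one_mem' := Or.inl ⟨0, by simp⟩
  mul_mem' := by
    have e1 := QD.one_add_u n
    have e2 := h.two_pow_pred2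
    rintro a b (⟨k, rfl⟩ | ⟨k, rfl⟩) (⟨l, rfl⟩ | ⟨l, rfl⟩)
    · exact Or.inl ⟨k + l, by rw [← zpow_add]; congr 1; ring⟩
    · right; refine ⟨k + l, ?_⟩; rw [QD.x_mul_xy]; congr 2; ring
    · right; rw [h.xy_mul_x]
      exact ⟨k + QD.u n * l, by congr 2; ring⟩
    · left; rw [h.xy_mul_xy]
      refine ⟨k + QD.u n * l + 2 * i, ?_⟩
      congr 1
      linear_combination i * e1 + i * e2
  inv_mem' := by
    have e1 := QD.one_add_u n
    have e2 := h.two_pow_pred2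
    rintro a (⟨k, rfl⟩ | ⟨k, rfl⟩)
    · exact Or.inl ⟨-k, by rw [← zpow_neg]; congr 1; ring⟩
    · right; rw [h.xy_inv]
      refine ⟨-2 * i - QD.u n * k, ?_⟩
      congr 2
      linear_combination (-i) * e1 + (-i) * e2

theorem mem_Qi (h : QD S n x y) (i : ℤ) (g : S) : g ∈ Qi h i ↔
    (∃ k : ℤ, g = x ^ (2 ^ (n - 2) * k)) ∨ (∃ k : ℤ, g = x ^ (i + 2 ^ (n - 2) * k) * y) :=
  Iff.rfl

theorem eq_Qi (h : QD S n x y) (Q : Subgroup S) (hQ : Nat.card Q = 8) (hw : QD.w n x ∈ Q)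
    (i : ℤ) (ht : x ^ i * y ∈ Q) : Q = Qi h i := by
  haveI := h.finite
  have hle : Qi h i ≤ Q := by
    rintro g (⟨k, rfl⟩ | ⟨k, rfl⟩)
    · rw [zpow_mul]; exact Q.zpow_mem hw k
    · have : x ^ (i + 2 ^ (n - 2) * k) * y = (QD.w n x) ^ k * (x ^ i * y) := by
        rw [QD.w, ← zpow_mul, QD.x_mul_xy, add_comm]
      rw [this]
      exact Q.mul_mem (Q.zpow_mem hw k) ht
  have hwle : Subgroup.zpowers (QD.w n x) ≤ Qi h i := by
    rw [Subgroup.zpowers_le]
    exact Or.inl ⟨1, by rw [QD.w, mul_one]⟩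
  have hcw : Nat.card (Subgroup.zpowers (QD.w n x)) = 4 := by
    rw [Nat.card_zpowers, h.orderOf_w]
  have hd1 : 4 ∣ Nat.card (Qi h i) := hcw ▸ Subgroup.card_dvd_of_le hwle
  have hd2 : Nat.card (Qi h i) ∣ 8 := hQ ▸ Subgroup.card_dvd_of_le hle
  have hne : Nat.card (Qi h i) ≠ 4 := by
    intro h4
    have heq : Subgroup.zpowers (QD.w n x) = Qi h i :=
      Subgroup.eq_of_le_of_card_ge hwle (by rw [hcw, h4])
    have hmem : x ^ i * y ∈ Qi h i := Or.inr ⟨0, by simp⟩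
    rw [← heq, QD.w, Subgroup.mem_zpowers_iff] at hmem
    obtain ⟨k, hk⟩ := hmem
    rw [← zpow_mul] at hk
    exact h.zpow_mul_y_ne _ _ hk.symm
  have h8 : Nat.card (Qi h i) = 8 := by
    have hle8 := Nat.le_of_dvd (by norm_num) hd2
    obtain ⟨c, hc⟩ := hd1
    have : c = 2 := by
      have : c ≤ 2 := by omega
      interval_cases c
      · rw [hc] at hd2; norm_num at hd2
      · omega
      · rfl
    omega
  exact (Subgroup.eq_of_le_of_card_ge hle (by rw [hQ, h8])).symm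

theorem part1 (h : QD S n x y) (Q₁ Q₂ : Subgroup S) (e₁ : Q₁ ≃* QuaternionGroup 2)
    (e₂ : Q₂ ≃* QuaternionGroup 2) :
    ∃ s : S, Q₁.map (MulAut.conj s).toMonoidHom = Q₂ := by
  obtain ⟨hw1, i₁, ho1, ht1⟩ := exists_gens h Q₁ e₁
  obtain ⟨hw2, i₂, ho2, ht2⟩ := exists_gens h Q₂ e₂
  have hc : IsConj (x ^ i₁ * y) (x ^ i₂ * y) :=
    (h.isConj_xy_of_odd i₁ ho1).symm.trans (h.isConj_xy_of_odd i₂ ho2)
  rw [isConj_iff] at hc
  obtain ⟨s, hs⟩ := hc
  refine ⟨s, ?_⟩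
  have e' : (Q₁.map (MulAut.conj s).toMonoidHom) ≃* QuaternionGroup 2 :=
    (Q₁.equivMapOfInjective _ (MulAut.conj s).injective).symm.trans e₁
  obtain ⟨hw', -⟩ := exists_gens h _ e'
  have ht' : x ^ i₂ * y ∈ Q₁.map (MulAut.conj s).toMonoidHom :=
    ⟨x ^ i₁ * y, ht1, by simpa using hs⟩
  rw [eq_Qi h _ (card_of_equiv _ e') hw' i₂ ht', eq_Qi h Q₂ (card_of_equiv Q₂ e₂) hw2 i₂ ht2]

theorem part2a (h : QD S n x y) (Q : Subgroup S) (e : Q ≃* QuaternionGroup 2) :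
    Subgroup.centralizer (Q : Set S) = (Subgroup.center Q).map Q.subtype := by
  obtain ⟨hw, i, ho, ht⟩ := exists_gens h Q e
  ext g
  constructor
  · intro hg
    rw [Subgroup.mem_centralizer_iff] at hg
    have h1 := hg _ hw
    have h2 := hg _ ht
    have hg' : g = 1 ∨ g = QD.z n x := by
      rcases h.cases g with ⟨k, rfl⟩ | ⟨k, rfl⟩
      · apply h.zpow_of_dvd
        apply h.zpow_comm_y
        have : x ^ i * (y * x ^ k) = x ^ i * (x ^ k * y) := by
          rw [← mul_assoc, h2, ← mul_assoc, ← mul_assoc, ← zpow_add, ← zpow_add, add_comm]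
        exact (mul_left_cancel this).symm
      · exfalso
        have hyw : y * QD.w n x = (QD.w n x)⁻¹ * y := by
          have := h.conj_w
          rw [mul_inv_eq_iff_eq_mul] at this
          exact this
        have hwx : Commute (QD.w n x) (x ^ k) := by
          unfold QD.w
          exact (Commute.refl x).zpow_zpow _ _
        have h3 : x ^ k * (QD.w n x * y) = x ^ k * ((QD.w n x)⁻¹ * y) := by
          calc x ^ k * (QD.w n x * y) = QD.w n x * (x ^ k * y) := by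
                rw [← mul_assoc, ← hwx.eq, mul_assoc]
            _ = x ^ k * y * QD.w n x := h1
            _ = x ^ k * ((QD.w n x)⁻¹ * y) := by rw [mul_assoc, hyw]
        have h4 : QD.w n x = (QD.w n x)⁻¹ := mul_right_cancel (mul_left_cancel h3)
        have h5 : QD.w n x * QD.w n x = 1 := mul_eq_one_iff_eq_inv.mpr h4
        rw [h.w_sq] at h5
        exact h.z_ne_one h5
    have hgQ : g ∈ Q := by
      rcases hg' with rfl | rfl
      · exact Q.one_mem
      · rw [← h.w_sq]; exact Q.mul_mem hw hw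
    refine ⟨⟨g, hgQ⟩, ?_, rfl⟩
    rw [SetLike.mem_coe, Subgroup.mem_center_iff]
    intro r
    exact Subtype.ext (hg r r.2)
  · rintro ⟨q, hq, rfl⟩
    rw [Subgroup.mem_centralizer_iff]
    intro r hr
    have := Subgroup.mem_center_iff.mp hq ⟨r, hr⟩
    exact congrArg Subtype.val this

theorem part2b (h : QD S n x y) (Q : Subgroup S) (e : Q ≃* QuaternionGroup 2) :
    Q.relIndex (Subgroup.normalizer (Q : Set S)) = 2 := by
  haveI := h.finite
  obtain ⟨hw, i, ho, ht⟩ := exists_gens h Q e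
  have hQ := eq_Qi h Q (card_of_equiv Q e) hw i ht
  have e1 := h.two_pow_pred
  have e2 := h.two_pow_pred2
  have e3 := h.two_pow_pred3
  obtain ⟨t, ht3⟩ : ∃ t : ℤ, t = 2 ^ (n - 3) := ⟨_, rfl⟩
  have ht0 : t ≠ 0 := by rw [ht3]; positivity
  rw [← ht3] at e3
  rw [e3] at e2
  rw [e2] at e1
  have hu : QD.u n = 4 * t - 1 := by rw [QD.u, e2]; ring
  -- membership criteria
  have zmem : ∀ m : ℤ, x ^ (t * m) ∈ Q ↔ 2 ∣ m := by
    intro m
    rw [hQ, mem_Qi]
    constructor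
    · rintro (⟨k, hk⟩ | ⟨k, hk⟩)
      · rw [h.zpow_eq_iff, e1, e3] at hk
        obtain ⟨c, hc⟩ := hk
        have : t * m = t * (2 * (k + 4 * c)) := by linear_combination hc
        exact ⟨_, mul_left_cancel₀ ht0 this⟩
      · exact absurd hk.symm (h.zpow_mul_y_ne _ _)
    · rintro ⟨c, rfl⟩
      exact Or.inl ⟨c, by rw [e3]; congr 1; ring⟩
  have ymem : ∀ m : ℤ, x ^ (i + t * m) * y ∈ Q ↔ 2 ∣ m := by
    intro m
    rw [hQ, mem_Qi]
    constructor
    · rintro (⟨k, hk⟩ | ⟨k, hk⟩)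
      · exact absurd hk (h.zpow_mul_y_ne _ _)
      · have hk' := mul_right_cancel hk
        rw [h.zpow_eq_iff, e1, e3] at hk'
        obtain ⟨c, hc⟩ := hk'
        have : t * m = t * (2 * (k + 4 * c)) := by linear_combination hc
        exact ⟨_, mul_left_cancel₀ ht0 this⟩
    · rintro ⟨c, rfl⟩
      exact Or.inr ⟨c, by rw [e3]; congr 2; ring⟩
  have key : ∀ k : ℤ, x ^ k ∈ Subgroup.normalizer (Q : Set S) → ∃ m, k = t * m := by
    intro k hk
    have h1 := (Subgroup.mem_normalizer_iff.mp hk _).mp ht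
    rw [h.conj_xy_by_x, hQ, mem_Qi] at h1
    rcases h1 with ⟨c, hc⟩ | ⟨c, hc⟩
    · exact absurd hc (h.zpow_mul_y_ne _ _)
    · have hc' := mul_right_cancel hc
      rw [h.zpow_eq_iff, e1, e3, hu] at hc'
      obtain ⟨d, hd⟩ := hc'
      -- i + k (2 - 4t) - i - 2 t c = 8 t d
      refine ⟨c + 4 * d + 2 * k, ?_⟩
      have : 2 * k = 2 * (t * (c + 4 * d + 2 * k)) := by linear_combination hd
      exact mul_left_cancel₀ (by norm_num) this
  rw [Subgroup.relIndex_eq_two_iff]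
  have hvN : x ^ t ∈ Subgroup.normalizer (Q : Set S) := by
    apply Subgroup.mem_normalizer_fintype
    intro g hg
    rw [SetLike.mem_coe, hQ, mem_Qi] at hg
    rw [SetLike.mem_coe]
    rcases hg with ⟨k, rfl⟩ | ⟨k, rfl⟩
    · have : x ^ t * x ^ (2 ^ (n - 2) * k) * (x ^ t)⁻¹ = x ^ (t * (2 * k)) := by
        rw [← zpow_neg, ← zpow_add, ← zpow_add, e3]; congr 1; ring
      rw [this, zmem]; exact ⟨k, rfl⟩
    · rw [h.conj_xy_by_x, hu, e3]
      have : i + 2 * t * k + t * (1 - (4 * t - 1)) = i + t * (2 * (k + 1 - 2 * t)) := by ring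
      rw [this, ymem]; exact ⟨_, rfl⟩
  refine ⟨x ^ t, hvN, ?_⟩
  intro b hb
  rcases h.cases b with ⟨k, rfl⟩ | ⟨k, rfl⟩
  · obtain ⟨m, rfl⟩ := key k hb
    have : x ^ (t * m) * x ^ t = x ^ (t * (m + 1)) := by rw [← zpow_add]; congr 1; ring
    rw [this, zmem, zmem]
    unfold Xor
    omega
  · have h1 : x ^ (k - i) ∈ Subgroup.normalizer (Q : Set S) := by
      have := (Subgroup.normalizer (Q : Set S)).mul_mem hb
        ((Subgroup.normalizer (Q : Set S)).inv_mem (Subgroup.le_normalizer ht))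
      convert this using 1
      rw [mul_inv_rev, zpow_sub]; group
    obtain ⟨m, hm⟩ := key _ h1
    have hk : k = i + t * m := by linarith
    subst hk
    rw [h.xy_mul_x, hu]
    have : i + t * m + (4 * t - 1) * t = i + t * (m + 4 * t - 1) := by ring
    rw [this, ymem, ymem]
    unfold Xor
    omega

theorem result {S : Type*} [Group S] [Finite S] (hS : Cfsg.IsQuasiDihedral S) : (∀ Q₁ Q₂ : Subgroup S, Nonempty (Q₁ ≃* QuaternionGroup 2) → Nonempty (Q₂ ≃* QuaternionGroup 2) → ∃ s : S, Q₁.map (MulAut.conj s).toMonoidHom = Q₂) ∧ (∀ Q : Subgroup S, Nonempty (Q ≃* QuaternionGroup 2) → Subgroup.centralizer (Q : Set S) = (Subgroup.center Q).map Q.subtype ∧ Q.relIndex (Subgroup.normalizer (Q : Set S)) = 2) := by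
  obtain ⟨n, x, y, h⟩ := isQuasiDihedral_iff.mp hS
  refine ⟨fun Q₁ Q₂ ⟨e₁⟩ ⟨e₂⟩ => part1 h Q₁ Q₂ e₁ e₂, fun Q ⟨e⟩ => ⟨part2a h Q e, part2b h Q e⟩⟩

end Cfsg.Agent.S1191
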