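import Mathlib
import Cfsg.Statements.S1196
import Cfsg.Agent.Lib.Helper12.Wreathed
-- import your own Cfsg.Agent.* helpers here

set_option autoImplicit false
open Cfsg

namespace Cfsg.Agent.S1196

open Cfsg.Agent.Lib.Helper12.Wr

variable {S : Type*} [Group S]

/-- `pa` as a monoid hom. -/
def paHom (D : Data S) : Multiplicative D.E →* S where
  toFun u := D.pa (Multiplicative.toAdd u)
  map_one' := D.pa_zero
  map_mul' u v := D.pa_add _ _

theorem paHom_injective (D : Data S) : Function.Injective (paHom D) := by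
  intro u v h
  exact Multiplicative.toAdd.injective (D.pa_injective h)

theorem paHom_range (D : Data S) : (paHom D).range = D.A := by
  ext s
  constructor
  · rintro ⟨u, rfl⟩
    exact ⟨_, rfl⟩
  · rintro ⟨u, rfl⟩
    exact ⟨Multiplicative.ofAdd u, rfl⟩

theorem A_iso (D : Data S) : Nonempty (D.A ≃* Multiplicative (ZMod (2 ^ D.n) × ZMod (2 ^ D.n))) :=
  ⟨((MonoidHom.ofInjective (paHom_injective D)).trans
    (MulEquiv.subgroupCongr (paHom_range D))).symm⟩

theorem A_comm (D : Data S) : IsMulCommutative D.A := by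
  refine ⟨⟨fun a b => ?_⟩⟩
  obtain ⟨u, hu⟩ := a.2
  obtain ⟨v, hv⟩ := b.2
  apply Subtype.ext
  rw [Subgroup.coe_mul, Subgroup.coe_mul, ← hu, ← hv]
  exact D.pa_comm u v

theorem eq_A_of_comm [Finite S] (D : Data S) (U : Subgroup S) (hU : IsMulCommutative U)
    (hcard : Nat.card U = 2 ^ (2 * D.n)) : U = D.A := by
  by_contra hne
  have hn := D.hn
  have hnot : ¬ U ≤ D.A := by
    intro hle
    apply hne
    apply Subgroup.eq_of_le_of_card_ge hle
    rw [hcard, D.card_A]
  obtain ⟨t, htU, htA⟩ := SetLike.not_le_iff_exists.mp hnot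
  obtain ⟨v, hv | hv⟩ := D.normal_form t
  · exact htA ⟨v, hv.symm⟩
  · have hB : D.A ⊓ U ≤ Subgroup.center S := by
      rintro b ⟨⟨u, rfl⟩, hbU⟩
      have hcomm : D.pa u * t = t * D.pa u := by
        have := hU.is_comm.comm ⟨D.pa u, hbU⟩ ⟨t, htU⟩
        exact congrArg Subtype.val this
      rw [hv, D.mul_rule1, D.mul_rule2] at hcomm
      have h1 := D.pa_mul_z_inj hcomm
      rw [D.mem_center_iff]
      refine ⟨u.1, ?_⟩
      congr 1
      have h2 : u = u.swap := by
        rw [add_comm u v] at h1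
        exact add_left_cancel h1
      have h3 := congrArg Prod.snd h2
      simp only [Prod.snd_swap] at h3
      exact Prod.ext rfl h3
    have hcardB : Nat.card (D.A ⊓ U : Subgroup S) ≤ 2 ^ D.n := by
      rw [← D.card_center]
      exact Subgroup.card_le_of_le hB
    haveI := D.A_normal
    have hrel : D.A.relIndex U ∣ 2 := by
      have := Subgroup.relIndex_dvd_index_of_normal D.A U
      rwa [D.index_A] at this
    have hrel2 : D.A.relIndex U ≤ 2 := Nat.le_of_dvd (by norm_num) hrel
    have hmul : D.A.relIndex U * Nat.card (D.A ⊓ U : Subgroup S) = Nat.card U := by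
      rw [← Subgroup.inf_relIndex_right, Subgroup.relIndex]
      have e := Subgroup.subgroupOfEquivOfLe (inf_le_right : D.A ⊓ U ≤ U)
      rw [← Nat.card_congr e.toEquiv]
      exact Subgroup.index_mul_card _
    rw [hcard] at hmul
    have h4 : 2 ^ (2 * D.n) ≤ 2 * 2 ^ D.n := by
      rw [← hmul]
      exact Nat.mul_le_mul hrel2 hcardB
    have h5 : 2 ^ (2 * D.n) = 2 ^ D.n * 2 ^ D.n := by rw [← pow_add]; congr 1; omega
    have h6 : 2 ^ 2 ≤ 2 ^ D.n := Nat.pow_le_pow_right (by norm_num) hn
    nlinarith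

/-- A wreathed 2-group S of order 2^(2n+1) has a unique commutative subgroup of order 2^(2n), and this subgroup is isomorphic to the direct product of two cyclic groups of order 2^n. -/
theorem result {S : Type*} [Group S] [Finite S] (hS : Cfsg.IsWreathed S) (n : ℕ) (hn : Nat.card S = 2 ^ (2 * n + 1)) : (∃! U : Subgroup S, IsMulCommutative U ∧ Nat.card U = 2 ^ (2 * n)) ∧ ∀ U : Subgroup S, IsMulCommutative U → Nat.card U = 2 ^ (2 * n) → Nonempty (U ≃* Multiplicative (ZMod (2 ^ n) × ZMod (2 ^ n))) := by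
  obtain ⟨D⟩ := exists_data hS
  have hnD : n = D.n := by
    have := D.card
    rw [hn] at this
    have := Nat.pow_right_injective (le_refl 2) this
    omega
  subst hnD
  refine ⟨⟨D.A, ⟨A_comm D, D.card_A⟩, ?_⟩, ?_⟩
  · rintro U ⟨hU, hc⟩
    exact eq_A_of_comm D U hU hc
  · intro U hU hc
    rw [eq_A_of_comm D U hU hc]
    exact A_iso D

end Cfsg.Agent.S1196
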