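import Mathlib
import Cfsg.Statements.S1195
import Cfsg.Agent.Lib.Helper12.Wreathed
-- import your own Cfsg.Agent.* helpers here

set_option autoImplicit false
open Cfsg

namespace Cfsg.Agent.S1195

open Cfsg.Agent.Lib.Helper12.Wr

variable {S : Type*} [Group S]

theorem orderOf_two_of {t : S} (h1 : t * t = 1) (h2 : t ≠ 1) : orderOf t = 2 := by
  apply orderOf_eq_prime
  · rw [pow_two]; exact h1
  · exact h2

theorem involution_cases (D : Data S) (t : S) (ht : orderOf t = 2) :
    t = D.pa (D.h, D.h) ∨ IsConj t (D.pa (D.h, 0)) ∨ IsConj t D.z := by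
  have ht2 : t * t = 1 := by
    have := pow_orderOf_eq_one t
    rwa [ht, pow_two] at this
  have ht1 : t ≠ 1 := by
    rintro rfl
    rw [orderOf_one] at ht
    omega
  obtain ⟨u, rfl | rfl⟩ := D.normal_form t
  · rw [D.pa_sq, D.pa_eq_one_iff] at ht2
    have e1 : 2 * u.1 = 0 := by
      have := congrArg Prod.fst ht2
      simp only [Prod.fst_add, Prod.fst_zero] at this
      linear_combination this
    have e2 : 2 * u.2 = 0 := by
      have := congrArg Prod.snd ht2
      simp only [Prod.snd_add, Prod.snd_zero] at this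
      linear_combination this
    rw [D.two_mul_eq_zero_iff] at e1 e2
    obtain ⟨a, b⟩ := u
    simp only at e1 e2
    rcases e1 with rfl | rfl <;> rcases e2 with rfl | rfl
    · exact absurd D.pa_zero ht1
    · right; left
      rw [isConj_iff]
      refine ⟨D.z, ?_⟩
      rw [D.conj_pa]
      rfl
    · right; left
      exact IsConj.refl _
    · left; rfl
  · right; right
    rw [D.paz_sq, D.pa_eq_one_iff] at ht2
    have e1 : u.1 + u.2 = 0 := by
      have := congrArg Prod.fst ht2
      simpa using this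
    rw [isConj_iff]
    refine ⟨D.pa (-u.1, 0), ?_⟩
    rw [D.conj_pa_paz]
    have : ((-u.1, (0 : ZMod (2 ^ D.n))) + u - Prod.swap (-u.1, (0 : ZMod (2 ^ D.n))) : D.E) = 0 := by
      apply Prod.ext
      · simp
      · simp only [Prod.snd_sub, Prod.snd_add, Prod.snd_swap, Prod.snd_zero]
        linear_combination e1
    rw [this, D.pa_zero, one_mul]

/-- A wreathed 2-group has exactly three conjugacy classes of elements of order 2. -/
theorem result {S : Type*} [Group S] [Finite S] (hS : Cfsg.IsWreathed S) : Nat.card {C : ConjClasses S // ∃ t : S, orderOf t = 2 ∧ ConjClasses.mk t = C} = 3 := by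
  obtain ⟨D⟩ := exists_data hS
  have hw1 : D.pa (D.h, D.h) ≠ 1 := by
    rw [Ne, D.pa_eq_one_iff]
    intro h
    exact D.h_ne_zero (congrArg Prod.fst h)
  have hw2 : D.pa (D.h, D.h) * D.pa (D.h, D.h) = 1 := by
    rw [D.pa_sq, D.pa_eq_one_iff]
    apply Prod.ext
    · simp only [Prod.fst_add, Prod.fst_zero]
      have := D.two_h
      linear_combination this
    · simp only [Prod.snd_add, Prod.snd_zero]
      have := D.two_h
      linear_combination this
  have hv1 : D.pa (D.h, 0) ≠ 1 := by
    rw [Ne, D.pa_eq_one_iff]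
    intro h
    exact D.h_ne_zero (congrArg Prod.fst h)
  have hv2 : D.pa (D.h, 0) * D.pa (D.h, 0) = 1 := by
    rw [D.pa_sq, D.pa_eq_one_iff]
    apply Prod.ext
    · simp only [Prod.fst_add, Prod.fst_zero]
      have := D.two_h
      linear_combination this
    · simp
  have hwc : D.pa (D.h, D.h) ∈ Subgroup.center S := (D.mem_center_iff _).mpr ⟨D.h, rfl⟩
  have hset : Nat.card {C : ConjClasses S // ∃ t : S, orderOf t = 2 ∧ ConjClasses.mk t = C} =
      ({C : ConjClasses S | ∃ t : S, orderOf t = 2 ∧ ConjClasses.mk t = C}).ncard :=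
    Nat.card_coe_set_eq _
  rw [hset, Set.ncard_eq_three]
  refine ⟨ConjClasses.mk (D.pa (D.h, D.h)), ConjClasses.mk (D.pa (D.h, 0)), ConjClasses.mk D.z,
    ?_, ?_, ?_, ?_⟩
  · rw [Ne, ConjClasses.mk_eq_mk_iff_isConj, isConj_iff]
    rintro ⟨c, hc⟩
    rw [(Subgroup.mem_center_iff.mp hwc c), mul_inv_cancel_right] at hc
    have := D.pa_injective hc
    exact D.h_ne_zero (congrArg Prod.snd this)
  · rw [Ne, ConjClasses.mk_eq_mk_iff_isConj]
    have := D.not_isConj_pa_paz (D.h, D.h) 0
    rwa [D.pa_zero, one_mul] at this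
  · rw [Ne, ConjClasses.mk_eq_mk_iff_isConj]
    have := D.not_isConj_pa_paz (D.h, 0) 0
    rwa [D.pa_zero, one_mul] at this
  · ext C
    simp only [Set.mem_setOf_eq, Set.mem_insert_iff, Set.mem_singleton_iff]
    constructor
    · rintro ⟨t, ht, rfl⟩
      rcases involution_cases D t ht with h | h | h
      · left; rw [h]
      · right; left; exact ConjClasses.mk_eq_mk_iff_isConj.mpr h
      · right; right; exact ConjClasses.mk_eq_mk_iff_isConj.mpr h
    · rintro (rfl | rfl | rfl)
      · exact ⟨_, orderOf_two_of hw2 hw1, rfl⟩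
      · exact ⟨_, orderOf_two_of hv2 hv1, rfl⟩
      · exact ⟨_, D.hz, rfl⟩

end Cfsg.Agent.S1195
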