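import Mathlib
import Cfsg.Statements.S1201
import Cfsg.Agent.Lib.Helper12.Wreathed
-- import your own Cfsg.Agent.* helpers here

set_option autoImplicit false
open Cfsg

namespace Cfsg.Agent.S1201

open Cfsg.Agent.Lib.Helper12.Wr

variable {S : Type*} [Group S]

/-- An element of `A` commuting with some element outside `A` is central. -/
theorem pa_central_of_comm (D : Data S) (u v : D.E)
    (h : D.pa u * (D.pa v * D.z) = (D.pa v * D.z) * D.pa u) : D.pa u ∈ Subgroup.center S := by
  rw [D.mul_rule1, D.mul_rule2] at h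
  have h1 := D.pa_mul_z_inj h
  rw [add_comm u v] at h1
  have h2 : u = u.swap := add_left_cancel h1
  rw [D.mem_center_iff]
  refine ⟨u.1, ?_⟩
  congr 1
  have h3 := congrArg Prod.snd h2
  simp only [Prod.snd_swap] at h3
  exact Prod.ext rfl h3

/-- The centralizer of an element outside `A` is `Z(S) ∪ Z(S) c`. -/
theorem centralizer_paz (D : Data S) (u : D.E) (g : S)
    (hg : g * (D.pa u * D.z) = (D.pa u * D.z) * g) :
    g ∈ Subgroup.center S ∨ ∃ ζ ∈ Subgroup.center S, g = ζ * (D.pa u * D.z) := by
  obtain ⟨w, rfl | rfl⟩ := D.normal_form g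
  · left
    exact pa_central_of_comm D w u hg
  · right
    rw [D.mul_rule3, D.mul_rule3] at hg
    have h1 := D.pa_injective hg
    refine ⟨D.pa (w - u), ?_, ?_⟩
    · rw [D.mem_center_iff]
      refine ⟨w.1 - u.1, ?_⟩
      congr 1
      apply Prod.ext
      · simp
      · have e1 := congrArg Prod.fst h1
        simp only [Prod.fst_add, Prod.fst_swap, Prod.snd_sub] at e1 ⊢
        linear_combination -e1
    · rw [D.mul_rule1, sub_add_cancel]

/-- If X is a non-commutative subgroup of a wreathed 2-group S, then Z(X) ≤ Z(S). -/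
theorem result {S : Type*} [Group S] [Finite S] (hS : Cfsg.IsWreathed S) (X : Subgroup S) (hX : ¬ IsMulCommutative X) : (Subgroup.center X).map X.subtype ≤ Subgroup.center S := by
  obtain ⟨D⟩ := exists_data hS
  rintro _ ⟨⟨c, hcX⟩, hc, rfl⟩
  have hcomm : ∀ g ∈ X, g * c = c * g := by
    intro g hg
    have := Subgroup.mem_center_iff.mp hc ⟨g, hg⟩
    exact congrArg Subtype.val this
  show c ∈ Subgroup.center S
  obtain ⟨u, rfl | rfl⟩ := D.normal_form c
  · -- c in A: X is not inside A
    by_cases hXA : X ≤ D.A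
    · exfalso
      apply hX
      refine ⟨⟨fun a b => ?_⟩⟩
      obtain ⟨v, hv⟩ := hXA a.2
      obtain ⟨w, hw⟩ := hXA b.2
      apply Subtype.ext
      rw [Subgroup.coe_mul, Subgroup.coe_mul, ← hv, ← hw]
      exact D.pa_comm v w
    · obtain ⟨t, htX, htA⟩ := SetLike.not_le_iff_exists.mp hXA
      obtain ⟨v, hv | hv⟩ := D.normal_form t
      · exact absurd ⟨v, hv.symm⟩ htA
      · have := hcomm t htX
        rw [hv] at this
        exact pa_central_of_comm D u v this.symm
  · -- c outside A: X would be commutative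
    exfalso
    apply hX
    refine ⟨⟨fun a b => ?_⟩⟩
    apply Subtype.ext
    rw [Subgroup.coe_mul, Subgroup.coe_mul]
    have ha := centralizer_paz D u a.1 (hcomm a.1 a.2)
    have hb := centralizer_paz D u b.1 (hcomm b.1 b.2)
    rcases ha with ha | ⟨ζ, hζ, ha⟩
    · exact (Subgroup.mem_center_iff.mp ha b.1).symm
    · rcases hb with hb | ⟨ξ, hξ, hb⟩
      · exact Subgroup.mem_center_iff.mp hb a.1
      · rw [ha, hb]
        have c1 := Subgroup.mem_center_iff.mp hζ
        have c2 := Subgroup.mem_center_iff.mp hξ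
        calc ζ * (D.pa u * D.z) * (ξ * (D.pa u * D.z))
            = ζ * ((D.pa u * D.z) * ξ) * (D.pa u * D.z) := by group
          _ = ζ * (ξ * (D.pa u * D.z)) * (D.pa u * D.z) := by rw [c2]
          _ = (ζ * ξ) * (D.pa u * D.z) * (D.pa u * D.z) := by group
          _ = (ξ * ζ) * (D.pa u * D.z) * (D.pa u * D.z) := by rw [c2 ζ]
          _ = ξ * (ζ * (D.pa u * D.z)) * (D.pa u * D.z) := by group
          _ = ξ * ((D.pa u * D.z) * ζ) * (D.pa u * D.z) := by rw [c1]
          _ = ξ * (D.pa u * D.z) * (ζ * (D.pa u * D.z)) := by group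

end Cfsg.Agent.S1201
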