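import Mathlib
import Cfsg.Statements.S1198
import Cfsg.Agent.Lib.Helper12.Wreathed
import Cfsg.Agent.S1195
import Cfsg.Agent.S1201
-- import your own Cfsg.Agent.* helpers here

set_option autoImplicit false
open Cfsg

namespace Cfsg.Agent.S1198

open Cfsg.Agent.Lib.Helper12.Wr

variable {S : Type*} [Group S]

theorem klein_of (K : Subgroup S) (hc : Nat.card K = 4) (h2 : ∀ g ∈ K, g * g = 1) :
    IsKleinFour K := by
  refine ⟨hc, ?_⟩
  have h1 : Monoid.exponent K ∣ 2 := by
    apply Monoid.exponent_dvd_of_forall_pow_eq_one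
    intro g
    apply Subtype.ext
    rw [Subgroup.coe_pow, pow_two, Subgroup.coe_one]
    exact h2 g.1 g.2
  rcases (Nat.dvd_prime Nat.prime_two).mp h1 with h | h
  · exfalso
    rw [Monoid.exp_eq_one_iff] at h
    have := Nat.card_of_subsingleton (1 : K)
    omega
  · exact h

theorem sq_of_klein (K : Subgroup S) (hK : IsKleinFour K) (g : S) (hg : g ∈ K) : g * g = 1 := by
  have := Monoid.pow_exponent_eq_one (⟨g, hg⟩ : K)
  rw [hK.exponent_two] at this
  have := congrArg Subtype.val this
  simpa [pow_two] using this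

/-- The normal four-group `Ω₁(A)`. -/
def T (D : Data S) : Subgroup S :=
  D.mkSub {u | 2 * u.1 = 0 ∧ 2 * u.2 = 0} ∅
    (by simp)
    (fun u v hu hv => by
      simp only [Set.mem_setOf_eq, Prod.fst_add, Prod.snd_add] at *
      exact ⟨by linear_combination hu.1 + hv.1, by linear_combination hu.2 + hv.2⟩)
    (fun u hu => by
      simp only [Set.mem_setOf_eq, Prod.fst_neg, Prod.snd_neg] at *
      exact ⟨by linear_combination -hu.1, by linear_combination -hu.2⟩)
    (fun u v _ hv => absurd hv (Set.notMem_empty _))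
    (fun u v hu _ => absurd hu (Set.notMem_empty _))
    (fun u v hu _ => absurd hu (Set.notMem_empty _))
    (fun u hu => absurd hu (Set.notMem_empty _))

theorem pa_mem_T (D : Data S) (u : D.E) : D.pa u ∈ T D ↔ 2 * u.1 = 0 ∧ 2 * u.2 = 0 :=
  D.pa_mem_mkSub ..

theorem paz_not_mem_T (D : Data S) (u : D.E) : D.pa u * D.z ∉ T D := by
  intro h
  have := (D.paz_mem_mkSub _ _ _ _ _ _ _ _ _ u).mp h
  exact Set.notMem_empty _ this

theorem card_T (D : Data S) : Nat.card (T D) = 4 := by
  unfold T
  rw [D.card_mkSub]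
  have e : {u : D.E // 2 * u.1 = 0 ∧ 2 * u.2 = 0} ≃
      {s : ZMod (2 ^ D.n) // 2 * s = 0} × {s : ZMod (2 ^ D.n) // 2 * s = 0} :=
    { toFun := fun u => (⟨u.1.1, u.2.1⟩, ⟨u.1.2, u.2.2⟩)
      invFun := fun q => ⟨(q.1.1, q.2.1), q.1.2, q.2.2⟩
      left_inv := fun _ => rfl
      right_inv := fun _ => rfl }
  have h1 : Nat.card {u : D.E // 2 * u.1 = 0 ∧ 2 * u.2 = 0} = 4 := by
    rw [Nat.card_congr e, Nat.card_prod, D.card_two_torsion]
  simp only [Set.coe_setOf] at *
  rw [h1]
  simp

theorem conj_paz_pa (D : Data S) (v u : D.E) :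
    (D.pa v * D.z) * D.pa u * (D.pa v * D.z)⁻¹ = D.pa u.swap := by
  rw [D.inv_rule, D.mul_rule2, D.mul_rule3]
  congr 1
  rw [Prod.swap_neg, Prod.swap_swap]
  abel

theorem T_normal (D : Data S) : (T D).Normal := by
  refine ⟨fun t ht g => ?_⟩
  obtain ⟨u, (⟨hu, rfl⟩ | ⟨hu, rfl⟩)⟩ := ht
  · obtain ⟨v, rfl | rfl⟩ := D.normal_form g
    · rw [D.pa_comm v u, mul_inv_cancel_right]
      exact (pa_mem_T D u).mpr hu
    · rw [conj_paz_pa, pa_mem_T]
      simp only [Prod.fst_swap, Prod.snd_swap]
      exact ⟨hu.2, hu.1⟩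
  · exact absurd hu (Set.notMem_empty _)

/-- the central involution -/
def w (D : Data S) : S := D.pa (D.h, D.h)

theorem w_central (D : Data S) : w D ∈ Subgroup.center S := (D.mem_center_iff _).mpr ⟨D.h, rfl⟩

theorem w_sq (D : Data S) : w D * w D = 1 := by
  unfold w
  rw [D.pa_sq, D.pa_eq_one_iff]
  have := D.two_h
  apply Prod.ext
  · simp only [Prod.fst_add, Prod.fst_zero]; linear_combination this
  · simp only [Prod.snd_add, Prod.snd_zero]; linear_combination this

/-- A four-group containing an involution `t` outside `A` is `{1, w, t, wt}`. -/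
theorem klein_subset (D : Data S) (K : Subgroup S) (hK : IsKleinFour K) (u : D.E)
    (ht : D.pa u * D.z ∈ K) :
    (K : Set S) ⊆ {1, w D, D.pa u * D.z, w D * (D.pa u * D.z)} := by
  intro g hg
  have hgK : g ∈ K := hg
  have hcomm : g * (D.pa u * D.z) = (D.pa u * D.z) * g := by
    have := mul_comm_of_exponent_two hK.exponent_two (⟨g, hgK⟩ : K) ⟨_, ht⟩
    exact congrArg Subtype.val this
  have hg2 := sq_of_klein K hK g hgK
  have ht2 := sq_of_klein K hK _ ht
  have key : ∀ ζ ∈ Subgroup.center S, ζ * ζ = 1 → ζ = 1 ∨ ζ = w D := by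
    intro ζ hζ hζ2
    obtain ⟨i, rfl⟩ := (D.mem_center_iff ζ).mp hζ
    rw [D.pa_sq, D.pa_eq_one_iff] at hζ2
    have e1 := congrArg Prod.fst hζ2
    simp only [Prod.fst_add, Prod.fst_zero] at e1
    have e2 : 2 * i = 0 := by linear_combination e1
    rcases (D.two_mul_eq_zero_iff i).mp e2 with rfl | rfl
    · left; exact D.pa_zero
    · right; rfl
  rcases Cfsg.Agent.S1201.centralizer_paz D u g hcomm with hc | ⟨ζ, hζ, rfl⟩
  · rcases key g hc hg2 with h | h
    · left; exact h
    · right; left; exact h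
  · have hζ2 : ζ * ζ = 1 := by
      have c1 := Subgroup.mem_center_iff.mp hζ
      have : ζ * (D.pa u * D.z) * (ζ * (D.pa u * D.z)) = (ζ * ζ) * ((D.pa u * D.z) * (D.pa u * D.z)) := by
        calc ζ * (D.pa u * D.z) * (ζ * (D.pa u * D.z))
            = ζ * ((D.pa u * D.z) * ζ) * (D.pa u * D.z) := by group
          _ = ζ * (ζ * (D.pa u * D.z)) * (D.pa u * D.z) := by rw [c1]
          _ = (ζ * ζ) * ((D.pa u * D.z) * (D.pa u * D.z)) := by group
      rw [this, ht2, mul_one] at hg2
      exact hg2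
    rcases key ζ hζ hζ2 with h | h
    · right; right; left; rw [h, one_mul]
    · right; right; right; rw [h]; rfl

theorem klein_eq (D : Data S) [Finite S] (K : Subgroup S) (hK : IsKleinFour K) (u : D.E)
    (ht : D.pa u * D.z ∈ K) :
    (K : Set S) = {1, w D, D.pa u * D.z, w D * (D.pa u * D.z)} := by
  apply Set.eq_of_subset_of_ncard_le (klein_subset D K hK u ht)
  have h1 : (K : Set S).ncard = 4 := by
    rw [← Nat.card_coe_set_eq]
    exact hK.card_four
  rw [h1]
  calc ({1, w D, D.pa u * D.z, w D * (D.pa u * D.z)} : Set S).ncard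
      ≤ ({w D, D.pa u * D.z, w D * (D.pa u * D.z)} : Set S).ncard + 1 := Set.ncard_insert_le _ _
    _ ≤ (({D.pa u * D.z, w D * (D.pa u * D.z)} : Set S).ncard + 1) + 1 :=
        Nat.add_le_add_right (Set.ncard_insert_le _ _) 1
    _ ≤ (2 + 1) + 1 := by
        have := Set.ncard_insert_le (D.pa u * D.z) ({w D * (D.pa u * D.z)} : Set S)
        rw [Set.ncard_singleton] at this
        omega

/-- A four-group other than `T` contains an involution outside `A`. -/
theorem exists_outside (D : Data S) [Finite S] (K : Subgroup S) (hK : IsKleinFour K)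
    (hne : K ≠ T D) : ∃ u, D.pa u * D.z ∈ K := by
  by_contra hcon
  push Not at hcon
  apply hne
  apply Subgroup.eq_of_le_of_card_ge
  · intro g hg
    obtain ⟨u, rfl | rfl⟩ := D.normal_form g
    · have h2 := sq_of_klein K hK _ hg
      rw [D.pa_sq, D.pa_eq_one_iff] at h2
      rw [pa_mem_T]
      have e1 := congrArg Prod.fst h2
      have e2 := congrArg Prod.snd h2
      simp only [Prod.fst_add, Prod.fst_zero, Prod.snd_add, Prod.snd_zero] at e1 e2
      exact ⟨by linear_combination e1, by linear_combination e2⟩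
    · exact absurd hg (hcon u)
  · rw [card_T, hK.card_four]

/-- A wreathed 2-group S has a normal Klein four-subgroup T such that every Klein four-subgroup of S other than T is conjugate in S to any other such subgroup; in particular S has exactly two conjugacy classes of Klein four-subgroups. -/
theorem result {S : Type*} [Group S] [Finite S] (hS : Cfsg.IsWreathed S) : ∃ T : Subgroup S, IsKleinFour T ∧ T.Normal ∧ (∃ T₀ : Subgroup S, IsKleinFour T₀ ∧ T₀ ≠ T) ∧ ∀ T₁ T₂ : Subgroup S, IsKleinFour T₁ → IsKleinFour T₂ → T₁ ≠ T → T₂ ≠ T → ∃ s : S, T₁.map (MulAut.conj s).toMonoidHom = T₂ := by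
  obtain ⟨D⟩ := exists_data hS
  have hT : IsKleinFour (T D) := by
    apply klein_of _ (card_T D)
    rintro g ⟨u, (⟨hu, rfl⟩ | ⟨hu, rfl⟩)⟩
    · rw [D.pa_sq, D.pa_eq_one_iff]
      apply Prod.ext
      · simp only [Prod.fst_add, Prod.fst_zero]; linear_combination hu.1
      · simp only [Prod.snd_add, Prod.snd_zero]; linear_combination hu.2
    · exact absurd hu (Set.notMem_empty _)
  refine ⟨T D, hT, T_normal D, ?_, ?_⟩
  · -- another four-group: {1, w, z, wz}
    let T₀ : Subgroup S :=
      D.mkSub {u | u.1 = u.2 ∧ 2 * u.1 = 0} {u | u.1 = u.2 ∧ 2 * u.1 = 0}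
        (by simp)
        (fun u v hu hv => by
          simp only [Set.mem_setOf_eq, Prod.fst_add, Prod.snd_add] at *
          exact ⟨by rw [hu.1, hv.1], by linear_combination hu.2 + hv.2⟩)
        (fun u hu => by
          simp only [Set.mem_setOf_eq, Prod.fst_neg, Prod.snd_neg] at *
          exact ⟨by rw [hu.1], by linear_combination -hu.2⟩)
        (fun u v hu hv => by
          simp only [Set.mem_setOf_eq, Prod.fst_add, Prod.snd_add] at *
          exact ⟨by rw [hu.1, hv.1], by linear_combination hu.2 + hv.2⟩)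
        (fun u v hu hv => by
          simp only [Set.mem_setOf_eq, Prod.fst_add, Prod.snd_add, Prod.fst_swap, Prod.snd_swap] at *
          exact ⟨by rw [hu.1, hv.1], by rw [← hv.1]; linear_combination hu.2 + hv.2⟩)
        (fun u v hu hv => by
          simp only [Set.mem_setOf_eq, Prod.fst_add, Prod.snd_add, Prod.fst_swap, Prod.snd_swap] at *
          exact ⟨by rw [hu.1, hv.1], by rw [← hv.1]; linear_combination hu.2 + hv.2⟩)
        (fun u hu => by
          simp only [Set.mem_setOf_eq, Prod.fst_neg, Prod.snd_neg, Prod.fst_swap, Prod.snd_swap] at *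
          exact ⟨by rw [hu.1], by rw [← hu.1]; linear_combination -hu.2⟩)
    have hcardP : Nat.card {u : D.E // u.1 = u.2 ∧ 2 * u.1 = 0} = 2 := by
      have e : {u : D.E // u.1 = u.2 ∧ 2 * u.1 = 0} ≃ {s : ZMod (2 ^ D.n) // 2 * s = 0} :=
        { toFun := fun u => ⟨u.1.1, u.2.2⟩
          invFun := fun s => ⟨(s.1, s.1), rfl, s.2⟩
          left_inv := by
            rintro ⟨⟨a, b⟩, h1, h2⟩
            simp only at h1
            subst h1
            rfl
          right_inv := fun _ => rfl }
      rw [Nat.card_congr e, D.card_two_torsion]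
    have hcard0 : Nat.card T₀ = 4 := by
      show Nat.card (D.mkSub _ _ _ _ _ _ _ _ _) = 4
      rw [D.card_mkSub]
      simp only [Set.coe_setOf] at *
      rw [hcardP]
    have hz0 : D.z ∈ T₀ := by
      have : D.pa 0 * D.z ∈ T₀ := (D.paz_mem_mkSub _ _ _ _ _ _ _ _ _ 0).mpr (by simp)
      rwa [D.pa_zero, one_mul] at this
    refine ⟨T₀, ?_, ?_⟩
    · apply klein_of _ hcard0
      rintro g ⟨u, (⟨hu, rfl⟩ | ⟨hu, rfl⟩)⟩
      · simp only [Set.mem_setOf_eq] at hu
        rw [D.pa_sq, D.pa_eq_one_iff]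
        apply Prod.ext
        · simp only [Prod.fst_add, Prod.fst_zero]; linear_combination hu.2
        · simp only [Prod.snd_add, Prod.snd_zero]; rw [← hu.1]; linear_combination hu.2
      · simp only [Set.mem_setOf_eq] at hu
        rw [D.paz_sq, D.pa_eq_one_iff]
        apply Prod.ext
        · simp only [Prod.fst_add, Prod.fst_swap, Prod.fst_zero]; rw [← hu.1]; linear_combination hu.2
        · simp only [Prod.snd_add, Prod.snd_swap, Prod.snd_zero]; rw [← hu.1]; linear_combination hu.2
    · intro h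
      have : D.pa 0 * D.z ∈ T D := by rw [D.pa_zero, one_mul, ← h]; exact hz0
      exact paz_not_mem_T D 0 this
  · intro T₁ T₂ h1 h2 hne1 hne2
    obtain ⟨u₁, hu₁⟩ := exists_outside D T₁ h1 hne1
    obtain ⟨u₂, hu₂⟩ := exists_outside D T₂ h2 hne2
    have e1 := klein_eq D T₁ h1 u₁ hu₁
    have e2 := klein_eq D T₂ h2 u₂ hu₂
    -- the involutions are conjugate
    have o1 : orderOf (D.pa u₁ * D.z) = 2 := by
      apply orderOf_eq_prime
      · rw [pow_two]; exact sq_of_klein T₁ h1 _ hu₁
      · intro h; exact D.pa_ne_pa_mul_z 0 u₁ (by rw [D.pa_zero, h])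
    have o2 : orderOf (D.pa u₂ * D.z) = 2 := by
      apply orderOf_eq_prime
      · rw [pow_two]; exact sq_of_klein T₂ h2 _ hu₂
      · intro h; exact D.pa_ne_pa_mul_z 0 u₂ (by rw [D.pa_zero, h])
    have c1 : IsConj (D.pa u₁ * D.z) D.z := by
      rcases Cfsg.Agent.S1195.involution_cases D _ o1 with h | h | h
      · exact absurd h.symm (D.pa_ne_pa_mul_z _ _)
      · exact absurd h.symm (D.not_isConj_pa_paz _ _)
      · exact h
    have c2 : IsConj (D.pa u₂ * D.z) D.z := by
      rcases Cfsg.Agent.S1195.involution_cases D _ o2 with h | h | h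
      · exact absurd h.symm (D.pa_ne_pa_mul_z _ _)
      · exact absurd h.symm (D.not_isConj_pa_paz _ _)
      · exact h
    obtain ⟨s, hs⟩ := isConj_iff.mp (c1.trans c2.symm)
    refine ⟨s, ?_⟩
    have hw2 : w D ∈ T₂ := by
      have : w D ∈ (T₂ : Set S) := by rw [e2]; simp
      exact this
    apply Subgroup.eq_of_le_of_card_ge
    · rintro _ ⟨g, hg, rfl⟩
      have hg' : g ∈ (T₁ : Set S) := hg
      rw [e1] at hg'
      simp only [MulEquiv.coe_toMonoidHom, MulAut.conj_apply]
      have hwc := Subgroup.mem_center_iff.mp (w_central D)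
      rcases hg' with rfl | rfl | rfl | rfl
      · rw [mul_one, mul_inv_cancel]; exact T₂.one_mem
      · rw [hwc s, mul_inv_cancel_right]; exact hw2
      · rw [hs]; exact hu₂
      · have : s * (w D * (D.pa u₁ * D.z)) * s⁻¹ = w D * (s * (D.pa u₁ * D.z) * s⁻¹) := by
          rw [← mul_assoc, hwc s]; group
        rw [this, hs]
        exact T₂.mul_mem hw2 hu₂
    · rw [Subgroup.card_map_of_injective (MulAut.conj s).injective, h1.card_four, h2.card_four]

end Cfsg.Agent.S1198
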