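import Mathlib
import Cfsg.Statements.S1199
import Cfsg.Agent.Lib.Helper12.Wreathed
import Cfsg.Agent.Lib.Lead.QuatIso
import Cfsg.Agent.S1198
import Cfsg.Agent.S1201
-- import your own Cfsg.Agent.* helpers here

set_option autoImplicit false
open Cfsg

namespace Cfsg.Agent.S1199

open Cfsg.Agent.Lib.Helper12.Wr

section QFacts
open QuaternionGroup

theorem two_ne_zero' (N : ℕ) (hN : 2 ≤ N) : (2 : ZMod (2 * N)) ≠ 0 := by
  have : (2 : ZMod (2 * N)) = ((2 : ℕ) : ZMod (2 * N)) := by norm_num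
  rw [this, Ne, ZMod.natCast_eq_zero_iff]
  intro h
  have := Nat.le_of_dvd (by norm_num) h
  omega

theorem Q1 (N : ℕ) (hN : 2 ≤ N) : ¬ ∀ a b : QuaternionGroup N, a * b = b * a := by
  intro h
  have h1 := h (a 1) (xa 0)
  rw [a_mul_xa, xa_mul_a] at h1
  have h2 := xa.inj h1
  apply two_ne_zero' N hN
  linear_combination -h2

theorem Q2 (N : ℕ) (hN : 2 ≤ N) (g : QuaternionGroup N) (hg : ∀ x, x * g = g * x) : g * g = 1 := by
  cases g with
  | a i =>
    have h1 := hg (xa 0)
    rw [a_mul_xa, xa_mul_a] at h1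
    have h2 := xa.inj h1
    rw [a_mul_a, one_def]
    congr 1
    linear_combination h2
  | xa i =>
    exfalso
    have h1 := hg (a 1)
    rw [a_mul_xa, xa_mul_a] at h1
    have h2 := xa.inj h1
    apply two_ne_zero' N hN
    linear_combination -h2

theorem Q3 (N : ℕ) (hN : 2 ≤ N) (g : QuaternionGroup N) (hg : g * g = 1) : ∀ x, x * g = g * x := by
  cases g with
  | a i =>
    rw [a_mul_a, one_def] at hg
    have h2 := a.inj hg
    intro x
    cases x with
    | a j => rw [a_mul_a, a_mul_a, add_comm]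
    | xa j =>
      rw [a_mul_xa, xa_mul_a]
      congr 1
      linear_combination h2
  | xa i =>
    exfalso
    rw [xa_mul_xa, one_def] at hg
    have h2 := a.inj hg
    have h3 : ((N : ℕ) : ZMod (2 * N)) = 0 := by linear_combination h2
    rw [ZMod.natCast_eq_zero_iff] at h3
    have := Nat.le_of_dvd (by omega) h3
    omega

end QFacts

variable {S : Type*} [Group S]

/-- The quaternion subgroup. -/
def Y0 (D : Data S) : Subgroup S :=
  D.mkSub {u | D.sig u = 0} {u | D.sig u = D.h}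
    (by simp only [Set.mem_setOf_eq, D.sig_zero])
    (fun u v hu hv => by
      simp only [Set.mem_setOf_eq] at *
      rw [D.sig_add, hu, hv, add_zero])
    (fun u hu => by
      simp only [Set.mem_setOf_eq] at *
      rw [D.sig_neg, hu, neg_zero])
    (fun u v hu hv => by
      simp only [Set.mem_setOf_eq] at *
      rw [D.sig_add, hu, hv, zero_add])
    (fun u v hu hv => by
      simp only [Set.mem_setOf_eq] at *
      rw [D.sig_add, D.sig_swap, hu, hv, add_zero])
    (fun u v hu hv => by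
      simp only [Set.mem_setOf_eq] at *
      rw [D.sig_add, D.sig_swap, hu, hv]
      have := D.two_h
      linear_combination this)
    (fun u hu => by
      simp only [Set.mem_setOf_eq] at *
      rw [D.sig_neg, D.sig_swap, hu, D.neg_h])

theorem pa_mem_Y0 (D : Data S) (u : D.E) : D.pa u ∈ Y0 D ↔ D.sig u = 0 := D.pa_mem_mkSub ..
theorem paz_mem_Y0 (D : Data S) (u : D.E) : D.pa u * D.z ∈ Y0 D ↔ D.sig u = D.h :=
  D.paz_mem_mkSub ..

theorem card_sig_eq (D : Data S) (c : ZMod (2 ^ D.n)) :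
    Nat.card {u : D.E // D.sig u = c} = 2 ^ D.n := by
  have e : {u : D.E // D.sig u = c} ≃ ZMod (2 ^ D.n) :=
    { toFun := fun u => u.1.1
      invFun := fun i => ⟨(i, c - i), by unfold Data.sig; simp⟩
      left_inv := by
        rintro ⟨⟨a, b⟩, hu⟩
        apply Subtype.ext
        unfold Data.sig at hu
        simp only at hu
        simp only [Prod.mk.injEq, true_and]
        rw [← hu]; ring
      right_inv := fun i => rfl }
  rw [Nat.card_congr e, Nat.card_zmod]

theorem card_Y0 (D : Data S) : Nat.card (Y0 D) = 2 ^ (D.n + 1) := by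
  unfold Y0
  rw [D.card_mkSub]
  have h1 := card_sig_eq D 0
  have h2 := card_sig_eq D D.h
  simp only [Set.coe_setOf] at *
  rw [h1, h2]
  ring

theorem pow_half (D : Data S) : 2 ^ D.n = 2 * 2 ^ (D.n - 1) := by
  have := D.hn
  rw [← pow_succ']
  congr 1
  omega

theorem Y0_iso (D : Data S) [Finite S] : Nonempty (Y0 D ≃* QuaternionGroup (2 ^ (D.n - 1))) := by
  have hma : D.pa (1, -1) ∈ Y0 D := by
    rw [pa_mem_Y0]; unfold Data.sig; simp
  have hmb : D.pa (D.h, 0) * D.z ∈ Y0 D := by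
    rw [paz_mem_Y0]; unfold Data.sig; simp
  haveI : NeZero (2 ^ (D.n - 1)) := ⟨by positivity⟩
  have hNh : ((2 ^ (D.n - 1) : ℕ) : ZMod (2 ^ D.n)) = D.h := rfl
  apply Cfsg.Agent.Lib.Lead.QuatIso.nonempty_mulEquiv_quaternionGroup
    (a := (⟨D.pa (1, -1), hma⟩ : Y0 D)) (b := (⟨D.pa (D.h, 0) * D.z, hmb⟩ : Y0 D))
  · rw [Subgroup.orderOf_mk, D.orderOf_pa_of_fst_one _ rfl]
    exact pow_half D
  · apply Subtype.ext
    rw [Subgroup.coe_pow, Subgroup.coe_pow]
    simp only
    rw [pow_two, D.paz_sq, ← D.pa_nsmul]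
    congr 1
    apply Prod.ext
    · rw [Prod.fst_add, Prod.fst_swap, Prod.smul_fst, nsmul_eq_mul, mul_one, hNh, add_zero]
    · rw [Prod.snd_add, Prod.snd_swap, Prod.smul_snd, nsmul_eq_mul, hNh, mul_neg, mul_one,
        D.neg_h, zero_add]
  · apply Subtype.ext
    simp only [Subgroup.coe_mul, Subgroup.coe_inv]
    rw [Cfsg.Agent.S1198.conj_paz_pa, ← D.pa_neg]
    congr 1
    apply Prod.ext
    · simp
    · simp
  · intro hb
    obtain ⟨k, hk⟩ := Subgroup.mem_zpowers_iff.mp hb
    have h1 := congrArg Subtype.val hk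
    rw [Subgroup.coe_zpow] at h1
    simp only at h1
    have h2 : D.pa (1, -1) ^ k ∈ D.A := D.A.zpow_mem ((D.mem_A _).mpr ⟨_, rfl⟩) k
    rw [h1] at h2
    obtain ⟨w, hw⟩ := h2
    exact D.pa_ne_pa_mul_z _ _ hw
  · rw [card_Y0, pow_succ, pow_half D]
    ring

theorem Y0_normal (D : Data S) : (Y0 D).Normal := by
  apply Subgroup.commutator_top_left_le_iff.mp
  have h1 : ⁅(⊤ : Subgroup S), Y0 D⁆ ≤ commutator S := by
    rw [commutator_def]
    exact Subgroup.commutator_mono le_rfl le_top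
  refine h1.trans ?_
  rw [D.commutator_eq, Subgroup.zpowers_le, pa_mem_Y0]
  unfold Data.sig
  simp

theorem eq_Y0 [Finite S] (hS : Cfsg.IsWreathed S) (D : Data S) (Y : Subgroup S)
    (hc : Nat.card Y = 2 ^ (D.n + 1)) (φ : Y ≃* QuaternionGroup (2 ^ (D.n - 1))) :
    Y = Y0 D := by
  have hN : 2 ≤ 2 ^ (D.n - 1) := by
    have := D.hn
    calc 2 = 2 ^ 1 := by norm_num
      _ ≤ 2 ^ (D.n - 1) := Nat.pow_le_pow_right (by norm_num) (by omega)
  -- transported facts
  have Y1 : ¬ ∀ a b : Y, a * b = b * a := by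
    intro h
    apply Q1 _ hN
    intro p q
    have := congrArg φ (h (φ.symm p) (φ.symm q))
    simpa using this
  have Y2 : ∀ g : Y, (∀ x : Y, x * g = g * x) → g * g = 1 := by
    intro g hg
    have := Q2 _ hN (φ g) (fun x => by
      have := congrArg φ (hg (φ.symm x))
      simpa using this)
    rw [← map_mul] at this
    exact (map_eq_one_iff φ φ.injective).mp this
  have Y3 : ∀ g : Y, g * g = 1 → ∀ x : Y, x * g = g * x := by
    intro g hg x
    have := Q3 _ hN (φ g) (by rw [← map_mul, hg, map_one]) (φ x)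
    apply φ.injective
    rw [map_mul, map_mul]
    exact this
  have hnc : ¬ IsMulCommutative Y := by
    intro h
    exact Y1 (fun a b => h.is_comm.comm a b)
  -- Step A
  have hA : ∃ v, D.pa v * D.z ∈ Y := by
    by_contra hne
    push Not at hne
    apply Y1
    intro a b
    apply Subtype.ext
    rw [Subgroup.coe_mul, Subgroup.coe_mul]
    obtain ⟨u, hu | hu⟩ := D.normal_form a.1
    · obtain ⟨v, hv | hv⟩ := D.normal_form b.1
      · rw [hu, hv]; exact D.pa_comm u v
      · exact absurd (hv ▸ b.2) (hne v)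
    · exact absurd (hu ▸ a.2) (hne u)
  -- Step B
  have hB : ∀ v, D.pa v * D.z ∈ Y → D.sig v = D.h := by
    intro v hv
    have hbb : D.pa v * D.z * (D.pa v * D.z) = D.pa (D.sig v, D.sig v) := by
      rw [D.paz_sq]
      congr 1
      unfold Data.sig
      apply Prod.ext
      · simp
      · simp only [Prod.snd_add, Prod.snd_swap]; ring
    have hcen : D.pa (D.sig v, D.sig v) ∈ Subgroup.center S := (D.mem_center_iff _).mpr ⟨_, rfl⟩
    have hmem : D.pa (D.sig v, D.sig v) ∈ Y := hbb ▸ Y.mul_mem hv hv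
    have h4 := Y2 ⟨_, hmem⟩ (fun x => by
      apply Subtype.ext
      rw [Subgroup.coe_mul, Subgroup.coe_mul]
      exact (Subgroup.mem_center_iff.mp hcen x.1))
    have h5 := congrArg Subtype.val h4
    rw [Subgroup.coe_mul, Subgroup.coe_one] at h5
    simp only at h5
    rw [D.pa_sq, D.pa_eq_one_iff] at h5
    have h6 := congrArg Prod.fst h5
    simp only [Prod.fst_add, Prod.fst_zero] at h6
    have h7 : 2 * D.sig v = 0 := by linear_combination h6
    rcases (D.two_mul_eq_zero_iff _).mp h7 with h0 | h1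
    · exfalso
      have hb1 : (⟨_, hv⟩ : Y) * ⟨_, hv⟩ = 1 := by
        apply Subtype.ext
        rw [Subgroup.coe_mul, Subgroup.coe_one]
        simp only
        rw [hbb, h0]
        exact D.pa_zero
      have hb2 := Y3 _ hb1
      have hb3 : (⟨_, hv⟩ : Y) ∈ Subgroup.center Y := by
        rw [Subgroup.mem_center_iff]
        exact hb2
      have hb4 := Cfsg.Agent.S1201.result hS Y hnc ⟨_, hb3, rfl⟩
      exact D.paz_notMem_center v hb4
    · exact h1
  -- Step C
  obtain ⟨v0, hv0⟩ := hA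
  have hC : ∀ u, D.pa u ∈ Y → D.sig u = 0 := by
    intro u hu
    have h1 : D.pa (u + v0) * D.z ∈ Y := by
      rw [← D.mul_rule1]
      exact Y.mul_mem hu hv0
    have h2 := hB _ h1
    rw [D.sig_add, hB v0 hv0] at h2
    exact add_eq_right.mp h2
  -- Step D
  have hle : Y ≤ Y0 D := by
    intro s hs
    obtain ⟨u, rfl | rfl⟩ := D.normal_form s
    · exact (pa_mem_Y0 D u).mpr (hC u hs)
    · exact (paz_mem_Y0 D u).mpr (hB u hs)
  exact Subgroup.eq_of_le_of_card_ge hle (by rw [hc, card_Y0])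

/-- A wreathed 2-group S of order 2^(2n+1) has exactly one subgroup of order 2^(n+1) isomorphic to a generalized quaternion group, and that subgroup is normal in S. -/
theorem result {S : Type*} [Group S] [Finite S] (hS : Cfsg.IsWreathed S) (n : ℕ) (hn : Nat.card S = 2 ^ (2 * n + 1)) : (∃! Y : Subgroup S, Nat.card Y = 2 ^ (n + 1) ∧ Nonempty (Y ≃* QuaternionGroup (2 ^ (n - 1)))) ∧ ∀ Y : Subgroup S, Nat.card Y = 2 ^ (n + 1) → Nonempty (Y ≃* QuaternionGroup (2 ^ (n - 1))) → Y.Normal := by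
  obtain ⟨D⟩ := exists_data hS
  have hnD : n = D.n := by
    have := D.card
    rw [hn] at this
    have := Nat.pow_right_injective (le_refl 2) this
    omega
  subst hnD
  refine ⟨⟨Y0 D, ⟨card_Y0 D, Y0_iso D⟩, ?_⟩, ?_⟩
  · rintro Y ⟨hc, ⟨φ⟩⟩
    exact eq_Y0 hS D Y hc φ
  · rintro Y hc ⟨φ⟩
    rw [eq_Y0 hS D Y hc φ]
    exact Y0_normal D

end Cfsg.Agent.S1199
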