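import Cfsg.Statements.S1946
import Cfsg.Agent.Lib.Helper24.SmallFusion
import Cfsg.Agent.Lib.Helper11.FrobeniusLocal

set_option autoImplicit false
open Cfsg

namespace Cfsg.Agent.S1946

/-- Let P be a Sylow p-subgroup of the finite group G. Then G has a normal p-complement if and only if P controls the fusion of its elements of order dividing p (dividing 4 when p = 2): whenever such an element a of P has a G-conjugate g a g⁻¹ in P, that conjugate is already x a x⁻¹ for some x in P. -/
theorem result {G : Type*} [Group G] [Finite G] {p : ℕ} [Fact p.Prime] (P : Sylow p G) :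
    Cfsg.HasNormalPComplement p G ↔
      ∀ a ∈ (P : Subgroup G), (a ^ p = 1 ∨ (p = 2 ∧ a ^ 4 = 1)) → ∀ g : G, g * a * g⁻¹ ∈ (P : Subgroup G) →
        ∃ x ∈ (P : Subgroup G), g * a * g⁻¹ = x * a * x⁻¹ := by
  classical
  have hp : p.Prime := Fact.out
  constructor
  · rintro ⟨P₀, K, hKn, hK⟩
    -- `K` is also a complement of `P`
    have hcard : Nat.card K * Nat.card (P : Subgroup G) = Nat.card G := by
      rw [P.card_eq_multiplicity, ← P₀.card_eq_multiplicity]
      exact hK.card_mul_card
    have hcop : Nat.Coprime (Nat.card K) (Nat.card (P : Subgroup G)) := by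
      have h1 : Nat.card K = (P₀ : Subgroup G).index := by
        have h2 := hK.card_mul_card
        have h3 := (P₀ : Subgroup G).card_mul_index
        rw [mul_comm] at h2
        exact Nat.eq_of_mul_eq_mul_left Nat.card_pos (h2.trans h3.symm)
      rw [h1, P.card_eq_multiplicity]
      apply Nat.Coprime.pow_right
      rw [Nat.coprime_comm, Nat.Prime.coprime_iff_not_dvd hp]
      exact P₀.not_dvd_index
    have hK' : K.IsComplement' (P : Subgroup G) := Subgroup.isComplement'_of_coprime hcard hcop
    haveI := hKn
    have := Cfsg.Agent.Lib.Helper11.controlsOwnFusion_of_normal_complement (P : Subgroup G) K hK'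
    intro a ha _ g hg
    exact this a ha g hg
  · intro hC
    have hloc : Cfsg.Agent.Lib.Helper11.LocalPNilpotent p G := by
      apply Cfsg.Agent.Lib.Helper11.localPNilpotent_of_sylow P
      intro Q hQP g hg hcop
      have hnorm : ∀ x ∈ Q, g * x * g⁻¹ ∈ Q := fun x hx => (Subgroup.mem_normalizer_iff.1 hg x).1 hx
      have key := Cfsg.Agent.Lib.Helper24.fusion_small_local P hC hcop _ Q rfl hQP hnorm
      rw [Subgroup.mem_centralizer_iff]
      intro x hx
      have := key x hx
      calc x * g = (g * x * g⁻¹) * g := by rw [this]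
        _ = g * x := by group
    obtain ⟨K, hKn, hK⟩ := Cfsg.Agent.Lib.Helper11.exists_normal_complement_of_local hloc P
    exact ⟨P, K, hKn, hK⟩

end Cfsg.Agent.S1946
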