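import Cfsg.Statements.S0039
-- import your own Cfsg.Agent.* helpers here

set_option autoImplicit false
open Cfsg
open scoped Pointwise

namespace Cfsg.Agent.S0039

theorem mem_conj_smul {G : Type*} [Group G] {g c : G} {H : Subgroup G} :
    c ∈ MulAut.conj g • H ↔ g⁻¹ * c * g ∈ H := by
  rw [Subgroup.mem_pointwise_smul_iff_inv_smul_mem]
  simp only [MulAut.smul_def, MulAut.conj_inv_apply]

/-- In a finite group that is a semidirect product of a normal subgroup K by a nontrivial subgroup H, H is a Frobenius complement exactly when each nonidentity element of H acts without nonidentity fixed points on K by conjugation. -/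
theorem result {G : Type*} [Group G] [Finite G] (K H : Subgroup G) [K.Normal]
    (hc : Subgroup.IsComplement' K H) (hK : K ≠ ⊥) (hH : H ≠ ⊥) :
    Cfsg.IsFrobeniusComplement H ↔ ∀ h ∈ H, h ≠ 1 → K ⊓ Subgroup.centralizer {h} = ⊥ := by
  have hdisj : ∀ x, x ∈ K → x ∈ H → x = 1 := by
    intro x hxK hxH
    have := hc.disjoint
    rw [Subgroup.disjoint_def] at this
    exact this hxK hxH
  constructor
  · rintro ⟨_, _, hF⟩ h hh hh1
    rw [eq_bot_iff]
    intro k hk
    rw [Subgroup.mem_bot]
    obtain ⟨hkK, hkC⟩ := Subgroup.mem_inf.mp hk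
    by_contra hk1
    have hkH : k ∉ H := fun hkH => hk1 (hdisj k hkK hkH)
    have hcomm : h * k = k * h := Subgroup.mem_centralizer_iff.mp hkC h rfl
    have : h ∈ H ⊓ (MulAut.conj k • H) := by
      refine Subgroup.mem_inf.mpr ⟨hh, ?_⟩
      rw [mem_conj_smul]
      have : k⁻¹ * h * k = h := by
        rw [mul_assoc, hcomm]; group
      rw [this]; exact hh
    rw [hF k hkH, Subgroup.mem_bot] at this
    exact hh1 this
  · intro hfpf
    refine ⟨hH, ?_, ?_⟩
    · intro htop
      apply hK
      rw [eq_bot_iff]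
      intro x hx
      rw [Subgroup.mem_bot]
      exact hdisj x hx (by rw [htop]; trivial)
    · intro g hg
      rw [eq_bot_iff]
      intro x hx
      rw [Subgroup.mem_bot]
      obtain ⟨hxH, hxg⟩ := Subgroup.mem_inf.mp hx
      rw [mem_conj_smul] at hxg
      -- write g = k * h'
      obtain ⟨⟨⟨k, hk⟩, ⟨h', hh'⟩⟩, hkh, _⟩ := (Subgroup.isComplement'_def.mp hc).existsUnique g
      simp only at hkh
      have hk1 : k ≠ 1 := by
        rintro rfl
        apply hg
        rw [← hkh]; simpa using hh'
      -- y = k⁻¹ x k ∈ H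
      have hy : k⁻¹ * x * k ∈ H := by
        have h1 : h' * (g⁻¹ * x * g) * h'⁻¹ ∈ H := H.mul_mem (H.mul_mem hh' hxg) (H.inv_mem hh')
        have : h' * (g⁻¹ * x * g) * h'⁻¹ = k⁻¹ * x * k := by
          rw [← hkh]; group
        rwa [this] at h1
      -- x * y⁻¹ ∈ K ⊓ H
      have hxyK : x * (k⁻¹ * x * k)⁻¹ ∈ K := by
        have h1 : x * k⁻¹ * x⁻¹ ∈ K := by
          have := (inferInstance : K.Normal).conj_mem k⁻¹ (K.inv_mem hk) x
          exact this
        have : x * (k⁻¹ * x * k)⁻¹ = (x * k⁻¹ * x⁻¹) * k := by group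
        rw [this]
        exact K.mul_mem h1 hk
      have hxyH : x * (k⁻¹ * x * k)⁻¹ ∈ H := H.mul_mem hxH (H.inv_mem hy)
      have hxy := hdisj _ hxyK hxyH
      have hxeq : x = k⁻¹ * x * k := mul_inv_eq_one.mp hxy
      by_contra hx1
      have hkC : k ∈ K ⊓ Subgroup.centralizer {x} := by
        refine Subgroup.mem_inf.mpr ⟨hk, ?_⟩
        rw [Subgroup.mem_centralizer_iff]
        intro z hz
        rw [Set.mem_singleton_iff] at hz
        rw [hz]
        calc x * k = (k⁻¹ * x * k) * k := by rw [← hxeq]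
          _ = k⁻¹ * x * k * k := rfl
          _ = k * x := by
            have : k⁻¹ * x * k = x := hxeq.symm
            calc k⁻¹ * x * k * k = (k⁻¹ * x * k) * k := rfl
              _ = x * k := by rw [this]
              _ = k * (k⁻¹ * x * k) := by group
              _ = k * x := by rw [this]
      rw [hfpf x hxH hx1, Subgroup.mem_bot] at hkC
      exact hk1 hkC

end Cfsg.Agent.S0039
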