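import Cfsg.Statements.S0022
import Cfsg.Agent.Lib.Helper2.CoprimeSylow

set_option autoImplicit false
open Cfsg

namespace Cfsg.Agent.S0022

/-- Under coprime action fixed points pass to quotients: with A normalising K, coprime orders, A or K solvable, and N an A-invariant normal subgroup of K, every coset of N in K fixed by conjugation by A contains an element centralised by A. -/
theorem result {G : Type*} [Group G] [Finite G] (A K : Subgroup G) (hAK : A ≤ Subgroup.normalizer (K : Set G))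
    (hcop : (Nat.card A).Coprime (Nat.card K)) (hsolv : Group.IsSolvable A ∨ Group.IsSolvable K)
    (N : Subgroup G) (hNK : N ≤ K) (hNnormal : K ≤ Subgroup.normalizer (N : Set G)) (hNA : A ≤ Subgroup.normalizer (N : Set G))
    (k : G) (hk : k ∈ K) (hfix : ∀ a ∈ A, a * k * a⁻¹ * k⁻¹ ∈ N) :
    ∃ c ∈ K ⊓ Subgroup.centralizer (A : Set G), k⁻¹ * c ∈ N := by
  obtain ⟨m, hm, hc⟩ := Cfsg.Agent.Lib.Helper2.coprime_fix A K N hAK hcop hsolv hNK hNA k hk (by
    intro a ha
    have h1 := hfix a ha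
    have hkinv : k⁻¹ ∈ Subgroup.normalizer (N : Set G) := hNnormal (K.inv_mem hk)
    have h2 := (Subgroup.mem_normalizer_iff.mp hkinv _).mp h1
    have h3 : k⁻¹ * a * k * a⁻¹ = k⁻¹ * (a * k * a⁻¹ * k⁻¹) * k⁻¹⁻¹ := by group
    rw [h3]
    exact h2)
  refine ⟨k * m⁻¹, Subgroup.mem_inf.mpr ⟨K.mul_mem hk (K.inv_mem (hNK hm)), hc⟩, ?_⟩
  have h4 : k⁻¹ * (k * m⁻¹) = m⁻¹ := by group
  rw [h4]
  exact N.inv_mem hm

end Cfsg.Agent.S0022
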