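import Cfsg.Statements.S3975
import Cfsg.Agent.Lib.Helper9.OrbitCount
import Mathlib

set_option autoImplicit false
open Cfsg

namespace Cfsg.Agent.S3975

open scoped Pointwise
open MulAction
open Classical

/-- Arithmetic: `C(p^b m - 1, p^b - 1) ≡ 1 mod p`. -/
theorem choose_pred_modEq_one (p : ℕ) [Fact p.Prime] (b m : ℕ) (hm : 0 < m) :
    Nat.choose (p ^ b * m - 1) (p ^ b - 1) ≡ 1 [MOD p] := by
  have hp : p.Prime := Fact.out
  induction b with
  | zero => simp [Nat.ModEq]
  | succ b ih =>
    have h1 := Choose.choose_modEq_choose_mod_mul_choose_div_nat (n := p ^ (b+1) * m - 1)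
      (k := p ^ (b+1) - 1) (p := p)
    have hposA : 0 < p ^ b * m := Nat.mul_pos (pow_pos hp.pos b) hm
    have hposB : 0 < p ^ b := pow_pos hp.pos b
    have hppos := hp.pos
    have e1 : p ^ (b+1) * m - 1 = p * (p ^ b * m - 1) + (p - 1) := by
      have h2 : p ^ (b+1) * m = p * (p ^ b * m) := by ring
      rw [h2]
      obtain ⟨A, hA⟩ : ∃ A, p ^ b * m = A + 1 := ⟨p^b*m - 1, by omega⟩
      rw [hA, Nat.add_sub_cancel, mul_add, mul_one]
      omega
    have e2 : p ^ (b+1) - 1 = p * (p ^ b - 1) + (p - 1) := by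
      have h2 : p ^ (b+1) = p * (p ^ b) := by ring
      rw [h2]
      obtain ⟨A, hA⟩ : ∃ A, p ^ b = A + 1 := ⟨p^b - 1, by omega⟩
      rw [hA, Nat.add_sub_cancel, mul_add, mul_one]
      omega
    have hlt : p - 1 < p := by omega
    rw [e1, e2, Nat.mul_add_mod, Nat.mul_add_mod, Nat.mod_eq_of_lt hlt,
      Nat.mul_add_div hppos, Nat.mul_add_div hppos, Nat.div_eq_of_lt hlt, add_zero, add_zero,
      Nat.choose_self, one_mul] at h1
    rw [e1, e2]
    exact h1.trans ih

theorem choose_modEq (p : ℕ) [Fact p.Prime] (b m : ℕ) (hm : 0 < m) :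
    Nat.choose (p ^ b * m) (p ^ b) ≡ m [MOD m * p] := by
  have hp : p.Prime := Fact.out
  have hposA : 0 < p ^ b * m := Nat.mul_pos (pow_pos hp.pos b) hm
  have hposB : 0 < p ^ b := pow_pos hp.pos b
  have h1 := Nat.add_one_mul_choose_eq (p ^ b * m - 1) (p ^ b - 1)
  have e1 : p ^ b * m - 1 + 1 = p ^ b * m := by omega
  have e2 : p ^ b - 1 + 1 = p ^ b := by omega
  rw [e1, e2] at h1
  have h2 : Nat.choose (p ^ b * m) (p ^ b) = m * Nat.choose (p ^ b * m - 1) (p ^ b - 1) := by
    apply Nat.eq_of_mul_eq_mul_right hposB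
    rw [← h1]; ring
  rw [h2]
  have h3 := (choose_pred_modEq_one p b m hm).mul_left' m
  rwa [mul_one] at h3

variable {G : Type*} [Group G] [Fintype G]

/-- a subgroup as a finset -/
noncomputable def HF (H : Subgroup G) : Finset G := Finset.univ.filter (fun x => x ∈ H)

theorem mem_HF (H : Subgroup G) (x : G) : x ∈ HF H ↔ x ∈ H := by
  simp [HF]

theorem card_HF (H : Subgroup G) : (HF H).card = Nat.card H := by
  have h1 : ((HF H : Finset G) : Set G) = (H : Set G) := by
    ext x; simp [mem_HF]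
  rw [← Set.ncard_coe_finset, h1]
  exact (Nat.card_coe_set_eq (H : Set G)).symm

theorem mem_smul_HF (H : Subgroup G) (x y : G) : y ∈ x • HF H ↔ x⁻¹ * y ∈ H := by
  rw [← Finset.inv_smul_mem_iff, mem_HF, smul_eq_mul]

theorem card_smul_HF (H : Subgroup G) (x : G) : (x • HF H).card = Nat.card H := by
  rw [Finset.card_smul_finset, card_HF]

theorem card_stabilizer_dvd (S : Finset G) : Nat.card (stabilizer G S) ∣ S.card := by
  letI : MulAction (stabilizer G S) {x // x ∈ S} :=
    { smul := fun t x => ⟨(t : G) * x.1, by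
        have h := t.2
        rw [mem_stabilizer_iff] at h
        have h2 : (t : G) • x.1 ∈ (t : G) • S := Finset.smul_mem_smul_finset x.2
        rw [h] at h2; exact h2⟩
      one_smul := fun x => Subtype.ext (one_mul _)
      mul_smul := fun a b x => Subtype.ext (mul_assoc _ _ _) }
  have hfree : ∀ x : {x // x ∈ S}, stabilizer (stabilizer G S) x = ⊥ := by
    intro x
    rw [Subgroup.eq_bot_iff_forall]
    intro t ht
    have h1 : (t : G) * x.1 = x.1 := congrArg Subtype.val (mem_stabilizer_iff.mp ht)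
    exact Subtype.ext (mul_eq_right.mp h1)
  have e := selfEquivOrbitsQuotientProd hfree
  have h2 : Nat.card {x // x ∈ S} =
      Nat.card (Quotient (orbitRel (stabilizer G S) {x // x ∈ S})) * Nat.card (stabilizer G S) := by
    rw [Nat.card_congr e, Nat.card_prod]
  have h3 : Nat.card {x // x ∈ S} = S.card := by simp
  rw [← h3, h2]; exact dvd_mul_left _ _

theorem exists_coset_of_card_stabilizer (S : Finset G) (hne : S.Nonempty)
    (h : Nat.card (stabilizer G S) = S.card) :
    ∃ (H : Subgroup G) (x : G), Nat.card H = S.card ∧ S = x • HF H := by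
  obtain ⟨s, hs⟩ := hne
  have hsub : (HF (stabilizer G S)).image (fun t => t * s) ⊆ S := by
    intro y hy
    rw [Finset.mem_image] at hy
    obtain ⟨t, ht, rfl⟩ := hy
    rw [mem_HF, mem_stabilizer_iff] at ht
    have h2 : t • s ∈ t • S := Finset.smul_mem_smul_finset hs
    rw [ht] at h2; exact h2
  have hcard : ((HF (stabilizer G S)).image (fun t => t * s)).card = S.card := by
    rw [Finset.card_image_of_injective _ (mul_left_injective s), card_HF, h]
  have heq : (HF (stabilizer G S)).image (fun t => t * s) = S :=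
    Finset.eq_of_subset_of_card_le hsub (le_of_eq hcard.symm)
  refine ⟨(stabilizer G S).map (MulAut.conj s⁻¹).toMonoidHom, s, ?_, ?_⟩
  · rw [Subgroup.card_map_of_injective (MulAut.conj s⁻¹).injective, h]
  · ext y
    rw [mem_smul_HF, Subgroup.mem_map]
    constructor
    · intro hy
      rw [← heq, Finset.mem_image] at hy
      obtain ⟨t, ht, rfl⟩ := hy
      rw [mem_HF] at ht
      refine ⟨t, ht, ?_⟩
      show s⁻¹ * t * s⁻¹⁻¹ = s⁻¹ * (t * s)
      group
    · rintro ⟨t, ht, hts⟩
      have h1 : s⁻¹ * t * s⁻¹⁻¹ = s⁻¹ * y := hts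
      have h2 : y = t * s := by
        have : s⁻¹ * y = s⁻¹ * (t * s) := by rw [← h1]; group
        exact mul_left_cancel this
      rw [h2, ← heq, Finset.mem_image]
      exact ⟨t, (mem_HF _ _).mpr ht, rfl⟩

theorem smul_HF_eq {H K : Subgroup G} {x y : G} (hcard : Nat.card H = Nat.card K)
    (h : x • HF H = y • HF K) : H = K ∧ x⁻¹ * y ∈ H := by
  have hmem : ∀ z, x⁻¹ * z ∈ H ↔ y⁻¹ * z ∈ K := by
    intro z; rw [← mem_smul_HF, ← mem_smul_HF, h]
  have h1 : y⁻¹ * x ∈ K := (hmem x).mp (by rw [inv_mul_cancel]; exact H.one_mem)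
  have hle : H ≤ K := by
    intro a ha
    have h3 : y⁻¹ * (x * a) ∈ K := (hmem (x * a)).mp (by rw [inv_mul_cancel_left]; exact ha)
    have h2 : a = (y⁻¹ * x)⁻¹ * (y⁻¹ * (x * a)) := by group
    rw [h2]; exact K.mul_mem (K.inv_mem h1) h3
  have hHK : H = K := Subgroup.eq_of_le_of_card_ge hle (le_of_eq hcard.symm)
  refine ⟨hHK, ?_⟩
  rw [hHK]
  have h4 : x⁻¹ * y = (y⁻¹ * x)⁻¹ := by group
  rw [h4]; exact K.inv_mem h1

theorem smul_HF_out (H : Subgroup G) (x : G) :
    ((x : G ⧸ H)).out • HF H = x • HF H := by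
  obtain ⟨h, hh⟩ := QuotientGroup.mk_out_eq_mul H x
  ext y
  rw [mem_smul_HF, mem_smul_HF, hh]
  have h1 : (x * (h : G))⁻¹ * y = (h : G)⁻¹ * (x⁻¹ * y) := by group
  rw [h1]
  exact H.mul_mem_cancel_left (H.inv_mem h.2)

/-- the coset map -/
noncomputable def Phi (k : ℕ) : (Σ H : {H : Subgroup G // Nat.card H = k}, G ⧸ H.1) → Finset G :=
  fun a => a.2.out • HF a.1.1

theorem Phi_injective (k : ℕ) : Function.Injective (Phi (G := G) k) := by
  rintro ⟨H, q⟩ ⟨K, r⟩ h
  obtain ⟨hHK, hmem⟩ := smul_HF_eq (H.2.trans K.2.symm) h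
  have hHK' : H = K := Subtype.ext hHK
  subst hHK'
  congr 1
  rw [← QuotientGroup.out_eq' q, ← QuotientGroup.out_eq' r]
  exact QuotientGroup.eq.mpr hmem

theorem smul_mem_range_Phi (k : ℕ) (H : Subgroup G) (hH : Nat.card H = k) (x : G) :
    x • HF H ∈ Set.range (Phi (G := G) k) :=
  ⟨⟨⟨H, hH⟩, (x : G ⧸ H)⟩, smul_HF_out H x⟩

theorem card_Phi (k : ℕ) (a : Σ H : {H : Subgroup G // Nat.card H = k}, G ⧸ H.1) :
    (Phi k a).card = k := by
  rw [Phi, card_smul_HF]; exact a.1.2

/-- the bad part as a sub-action -/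
noncomputable def Bad (k : ℕ) : SubMulAction G (Finset G) where
  carrier := {S | S.card = k ∧ S ∉ Set.range (Phi (G := G) k)}
  smul_mem' := by
    rintro g S ⟨h1, h2⟩
    refine ⟨by rw [Finset.card_smul_finset]; exact h1, ?_⟩
    rintro ⟨a, ha⟩
    apply h2
    have h3 : S = g⁻¹ • Phi k a := by rw [ha, inv_smul_smul]
    rw [h3, Phi, smul_smul]
    exact smul_mem_range_Phi k _ a.1.2 _

theorem main (p : ℕ) [Fact p.Prime] (b m : ℕ) (hm : 0 < m) (hcard : Nat.card G = p ^ b * m) :
    Nat.card {H : Subgroup G // Nat.card H = p ^ b} ≡ 1 [MOD p] := by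
  have hp : p.Prime := Fact.out
  set k := p ^ b with hk
  have hkpos : 0 < k := pow_pos hp.pos b
  -- the bad part has card divisible by m * p
  have horb : ∀ ω : Bad (G := G) k, m * p ∣ Nat.card (orbit G ω) := by
    intro ω
    have h1 : Nat.card (orbit G ω) * Nat.card (stabilizer G ω) = Nat.card G := by
      rw [← Nat.card_prod]
      exact Nat.card_congr (orbitProdStabilizerEquivGroup G ω)
    rw [SubMulAction.stabilizer_of_subMul] at h1
    have h2 := card_stabilizer_dvd (ω : Finset G)
    have hω := ω.2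
    have hωcard : (ω : Finset G).card = k := hω.1
    rw [hωcard] at h2
    obtain ⟨c, hcb, hc⟩ := (Nat.dvd_prime_pow hp).mp h2
    have hcne : c ≠ b := by
      rintro rfl
      apply hω.2
      have hne : (ω : Finset G).Nonempty := by
        rw [← Finset.card_pos, hωcard]; exact hkpos
      obtain ⟨H, x, hH, hS⟩ := exists_coset_of_card_stabilizer (ω : Finset G) hne
        (by rw [hc, hωcard])
      rw [hS]
      exact smul_mem_range_Phi k H (by rw [hH, hωcard]) x
    have hclt : c < b := lt_of_le_of_ne hcb hcne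
    rw [hc, hcard] at h1
    have h3 : Nat.card (orbit G ω) = p ^ (b - c) * m := by
      have h4 : p ^ b * m = (p ^ (b - c) * m) * p ^ c := by
        have : p ^ b = p ^ (b - c) * p ^ c := by rw [← pow_add]; congr 1; omega
        rw [this]; ring
      rw [h4] at h1
      exact Nat.eq_of_mul_eq_mul_right (pow_pos hp.pos c) h1
    rw [h3]
    have h5 : p ^ (b - c) = p * p ^ (b - c - 1) := by
      rw [← pow_succ']; congr 1; omega
    rw [h5]
    exact ⟨p ^ (b - c - 1), by ring⟩
  have hBad : m * p ∣ Nat.card (Bad (G := G) k) := by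
    have hmod := Cfsg.Agent.Lib.Helper9.card_modEq_card_fixedPoints_of_dvd (H := G)
      (α := Bad (G := G) k) (m * p) (fun a _ => horb a)
    have hempty : IsEmpty (fixedPoints G (Bad (G := G) k)) := by
      constructor
      rintro ⟨a, ha⟩
      have h1 := horb a
      have h2 : Nat.card (orbit G a) = 1 := by
        rw [Nat.card_eq_one_iff_unique]
        refine ⟨⟨?_⟩, ⟨⟨a, mem_orbit_self a⟩⟩⟩
        rintro ⟨x, u, rfl⟩ ⟨y, v, rfl⟩
        apply Subtype.ext
        show u • a = v • a
        rw [ha u, ha v]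
      rw [h2] at h1
      have h3 := Nat.dvd_one.mp h1
      have h4 : 2 ≤ p := hp.two_le
      nlinarith
    have h0 : Nat.card (fixedPoints G (Bad (G := G) k)) = 0 :=
      Nat.card_eq_zero.mpr (Or.inl hempty)
    rw [h0] at hmod
    exact (Nat.modEq_zero_iff_dvd).mp hmod
  -- counting
  have hU : ({S : Finset G | S.card = k} : Set (Finset G)).ncard = (p ^ b * m).choose k := by
    have h1 : ({S : Finset G | S.card = k} : Set (Finset G)) =
        ((Finset.powersetCard k (Finset.univ : Finset G) : Finset (Finset G)) : Set (Finset G)) := by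
      ext S
      simp [Finset.mem_powersetCard]
    rw [h1, Set.ncard_coe_finset, Finset.card_powersetCard, Finset.card_univ,
      ← Nat.card_eq_fintype_card, hcard]
  have hsplit : ({S : Finset G | S.card = k} : Set (Finset G)) =
      Set.range (Phi (G := G) k) ∪ (Bad (G := G) k).carrier := by
    ext S
    constructor
    · intro hS
      by_cases h : S ∈ Set.range (Phi (G := G) k)
      · exact Or.inl h
      · exact Or.inr ⟨hS, h⟩
    · rintro (⟨a, rfl⟩ | h)
      · exact card_Phi k a
      · exact h.1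
  have hdisj : Disjoint (Set.range (Phi (G := G) k)) (Bad (G := G) k).carrier := by
    rw [Set.disjoint_left]
    intro S h1 h2
    exact h2.2 h1
  have hA : (Set.range (Phi (G := G) k)).ncard =
      Nat.card {H : Subgroup G // Nat.card H = k} * m := by
    rw [← Set.image_univ, Set.ncard_image_of_injective _ (Phi_injective k), Set.ncard_univ,
      Nat.card_sigma]
    have h1 : ∀ H : {H : Subgroup G // Nat.card H = k}, Nat.card (G ⧸ H.1) = m := by
      intro H
      have h2 := H.1.index_mul_card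
      rw [H.2, hcard, mul_comm] at h2
      exact Nat.eq_of_mul_eq_mul_left hkpos h2
    simp only [h1, Finset.sum_const, Finset.card_univ, smul_eq_mul, Nat.card_eq_fintype_card]
  have hB : (Bad (G := G) k).carrier.ncard = Nat.card (Bad (G := G) k) :=
    (Nat.card_coe_set_eq (Bad (G := G) k).carrier).symm
  have htotal : (p ^ b * m).choose k =
      Nat.card {H : Subgroup G // Nat.card H = k} * m + Nat.card (Bad (G := G) k) := by
    rw [← hU, hsplit, Set.ncard_union_eq hdisj, hA, hB]
  have hchoose := choose_modEq p b m hm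
  rw [htotal] at hchoose
  obtain ⟨t, ht⟩ := hBad
  have h6 : m * Nat.card {H : Subgroup G // Nat.card H = k} ≡ m * 1 [MOD m * p] := by
    rw [mul_one]
    have h7 : Nat.card {H : Subgroup G // Nat.card H = k} * m + Nat.card (Bad (G := G) k) ≡
        m * Nat.card {H : Subgroup G // Nat.card H = k} [MOD m * p] := by
      rw [ht, mul_comm (Nat.card _) m]
      have : m * p * t ≡ 0 [MOD m * p] := (Nat.modEq_zero_iff_dvd).mpr ⟨t, rfl⟩
      simpa using Nat.ModEq.add_left (m * Nat.card {H : Subgroup G // Nat.card H = k}) this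
    exact h7.symm.trans hchoose
  exact Nat.ModEq.mul_left_cancel' hm.ne' h6

theorem result {G : Type*} [Group G] [Finite G] (p β : ℕ) (hp : p.Prime) (hdiv : p ^ β ∣ Nat.card G) : Nat.card {H : Subgroup G // Nat.card H = p ^ β} ≡ 1 [MOD p] := by
  haveI : Fact p.Prime := ⟨hp⟩
  haveI : Fintype G := Fintype.ofFinite G
  obtain ⟨m, hm⟩ := hdiv
  have hmpos : 0 < m := by
    rcases Nat.eq_zero_or_pos m with h | h
    · rw [h, mul_zero] at hm
      exact absurd hm Nat.card_pos.ne'
    · exact h
  exact main p β m hmpos hm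

end Cfsg.Agent.S3975
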