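import Cfsg.Statements.S0895
import Cfsg.Agent.Lib.Helper4.CharOrtho
import Mathlib

set_option autoImplicit false
open Cfsg
open scoped ComplexConjugate

namespace Cfsg.Agent.S0895

variable {G : Type*} [Group G] {n : ℕ}

/-- matrix of `ρ g` -/
noncomputable def mat (ρ : Representation ℂ G (Fin n → ℂ)) (g : G) : Matrix (Fin n) (Fin n) ℂ :=
  LinearMap.toMatrix' (ρ g)

theorem mat_mul (ρ : Representation ℂ G (Fin n → ℂ)) (g h : G) :
    mat ρ (g * h) = mat ρ g * mat ρ h := by
  unfold mat
  rw [map_mul, Module.End.mul_eq_comp, LinearMap.toMatrix'_comp]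

theorem mat_one (ρ : Representation ℂ G (Fin n → ℂ)) : mat ρ 1 = 1 := by
  unfold mat
  rw [map_one, Module.End.one_eq_id, LinearMap.toMatrix'_id]

theorem trace_mat (ρ : Representation ℂ G (Fin n → ℂ)) (g : G) :
    (mat ρ g).trace = ρ.character g := by
  unfold mat Representation.character
  rw [LinearMap.trace_eq_matrix_trace ℂ (Pi.basisFun ℂ (Fin n)), LinearMap.toMatrix_eq_toMatrix']

theorem mat_mulVec (ρ : Representation ℂ G (Fin n → ℂ)) (g : G) (v : Fin n → ℂ) :
    (mat ρ g).mulVec v = ρ g v := by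
  unfold mat
  rw [LinearMap.toMatrix'_mulVec]

/-- `X` is an invariant bilinear form (in matrix form) -/
def IsInv (ρ : Representation ℂ G (Fin n → ℂ)) (X : Matrix (Fin n) (Fin n) ℂ) : Prop :=
  ∀ g : G, mat ρ g * X * (mat ρ g).transpose = X

theorem IsInv.mul_eq {ρ : Representation ℂ G (Fin n → ℂ)} {K : Matrix (Fin n) (Fin n) ℂ}
    (hK : IsInv ρ K) (g : G) : mat ρ g * K = K * (mat ρ g⁻¹).transpose := by
  have h1 : (mat ρ g).transpose * (mat ρ g⁻¹).transpose = 1 := by
    rw [← Matrix.transpose_mul, ← mat_mul, inv_mul_cancel, mat_one, Matrix.transpose_one]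
  calc mat ρ g * K = mat ρ g * K * ((mat ρ g).transpose * (mat ρ g⁻¹).transpose) := by
        rw [h1, Matrix.mul_one]
    _ = (mat ρ g * K * (mat ρ g).transpose) * (mat ρ g⁻¹).transpose := by
        simp only [Matrix.mul_assoc]
    _ = K * (mat ρ g⁻¹).transpose := by rw [hK g]

/-- an invariant form of an irreducible representation is zero or invertible -/
theorem IsInv.eq_zero_or_isUnit {ρ : Representation ℂ G (Fin n → ℂ)} (hρ : ρ.IsIrreducible)
    {K : Matrix (Fin n) (Fin n) ℂ} (hK : IsInv ρ K) : K = 0 ∨ IsUnit K := by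
  let σ : Subrepresentation ρ :=
    { toSubmodule := LinearMap.range K.mulVecLin
      apply_mem_toSubmodule := by
        rintro g _ ⟨v, rfl⟩
        refine ⟨(mat ρ g⁻¹).transpose.mulVec v, ?_⟩
        rw [Matrix.mulVecLin_apply, Matrix.mulVecLin_apply, ← mat_mulVec, Matrix.mulVec_mulVec,
          Matrix.mulVec_mulVec, hK.mul_eq g] }
  rcases eq_bot_or_eq_top σ with h | h
  · left
    have h1 : LinearMap.range K.mulVecLin = ⊥ := congrArg Subrepresentation.toSubmodule h
    rw [LinearMap.range_eq_bot] at h1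
    ext i j
    have h2 := congrFun (congrArg (fun f => f (Pi.single j 1)) h1) i
    simpa [Matrix.mulVecLin_apply, Matrix.mulVec_single_one] using h2
  · right
    have h1 : LinearMap.range K.mulVecLin = ⊤ := congrArg Subrepresentation.toSubmodule h
    rw [LinearMap.range_eq_top] at h1
    exact Matrix.mulVec_surjective_iff_isUnit.mp h1

theorem det_eq_zero_of_antisymm {K : Matrix (Fin n) (Fin n) ℂ} (hK : K.transpose = -K)
    (hn : Odd n) : K.det = 0 := by
  have h1 : K.det = (-K).det := by rw [← hK, Matrix.det_transpose]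
  rw [Matrix.det_neg, Fintype.card_fin, hn.neg_one_pow] at h1
  have h2 : 2 * K.det = 0 := by linear_combination h1
  rcases mul_eq_zero.mp h2 with h | h
  · norm_num at h
  · exact h

/-- an invariant form of an odd-dimensional irreducible representation is symmetric -/
theorem IsInv.symm {ρ : Representation ℂ G (Fin n → ℂ)} (hρ : ρ.IsIrreducible) (hn : Odd n)
    {Y : Matrix (Fin n) (Fin n) ℂ} (hY : IsInv ρ Y) : Y.transpose = Y := by
  have hK : IsInv ρ (Y - Y.transpose) := by
    intro g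
    have h1 := hY g
    have h2 := congrArg Matrix.transpose h1
    rw [Matrix.transpose_mul, Matrix.transpose_mul, Matrix.transpose_transpose,
      ← Matrix.mul_assoc] at h2
    rw [Matrix.mul_sub, Matrix.sub_mul, h1, h2]
  have hanti : (Y - Y.transpose).transpose = -(Y - Y.transpose) := by
    rw [Matrix.transpose_sub, Matrix.transpose_transpose, neg_sub]
  rcases hK.eq_zero_or_isUnit hρ with h | h
  · exact (sub_eq_zero.mp h).symm
  · exfalso
    rw [Matrix.isUnit_iff_isUnit_det, det_eq_zero_of_antisymm hanti hn] at h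
    exact not_isUnit_zero h

variable [Fintype G]

/-- the averaged rank-one form -/
noncomputable def avgForm (ρ : Representation ℂ G (Fin n → ℂ)) (a b : Fin n → ℂ) :
    Matrix (Fin n) (Fin n) ℂ :=
  ∑ s : G, Matrix.vecMulVec ((mat ρ s).mulVec a) ((mat ρ s).mulVec b)

theorem avgForm_isInv (ρ : Representation ℂ G (Fin n → ℂ)) (a b : Fin n → ℂ) :
    IsInv ρ (avgForm ρ a b) := by
  intro g
  unfold avgForm
  rw [Finset.mul_sum, Finset.sum_mul]
  rw [← Fintype.sum_equiv (Equiv.mulLeft g) (fun s => mat ρ g * Matrix.vecMulVec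
      ((mat ρ s).mulVec a) ((mat ρ s).mulVec b) * (mat ρ g).transpose)
      (fun s => Matrix.vecMulVec ((mat ρ s).mulVec a) ((mat ρ s).mulVec b))]
  intro s
  rw [Matrix.mul_vecMulVec, Matrix.vecMulVec_mul, Matrix.vecMul_transpose, Matrix.mulVec_mulVec,
    Matrix.mulVec_mulVec, Equiv.coe_mulLeft, mat_mul]

theorem avgForm_transpose (ρ : Representation ℂ G (Fin n → ℂ)) (a b : Fin n → ℂ) :
    (avgForm ρ a b).transpose = avgForm ρ b a := by
  unfold avgForm
  rw [Matrix.transpose_sum]
  refine Finset.sum_congr rfl fun s _ => ?_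
  rw [Matrix.transpose_vecMulVec]

theorem avgForm_apply (ρ : Representation ℂ G (Fin n → ℂ)) (i j k l : Fin n) :
    avgForm ρ (Pi.single j 1) (Pi.single i 1) k l = ∑ s : G, mat ρ s k j * mat ρ s l i := by
  unfold avgForm
  rw [Matrix.sum_apply]
  refine Finset.sum_congr rfl fun s _ => ?_
  rw [Matrix.vecMulVec_apply, Matrix.mulVec_single_one, Matrix.mulVec_single_one]
  rfl

theorem key_sum (ρ : Representation ℂ G (Fin n → ℂ)) (hρ : ρ.IsIrreducible) (hn : Odd n)
    (i j : Fin n) :
    ∑ s : G, mat ρ s i j * mat ρ s j i = ∑ s : G, mat ρ s i i * mat ρ s j j := by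
  have h1 := (avgForm_isInv ρ (Pi.single j 1) (Pi.single i 1)).symm hρ hn
  rw [avgForm_transpose] at h1
  have h2 := congrFun (congrFun h1 i) j
  rw [avgForm_apply, avgForm_apply] at h2
  rw [← h2]

theorem result {G : Type*} [Group G] [Fintype G] (χ : G → ℂ) (hχ : Cfsg.IsIrrCharacter G χ) (hreal : ∀ g : G, (χ g).im = 0) (d : ℕ) (hd : χ 1 = d) (hodd : Odd d) : (Nat.card G : ℂ)⁻¹ * ∑ s : G, χ (s * s) = 1 := by
  obtain ⟨n, ρ, hρ, hρχ⟩ := hχ
  have hnd : n = d := by
    have h1 : ρ.character 1 = (n : ℂ) := by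
      rw [Representation.char_one, Module.finrank_fin_fun]
    rw [hρχ, hd] at h1
    exact (Nat.cast_injective h1).symm
  have hn : Odd n := hnd ▸ hodd
  have hsq : ∀ s : G, χ (s * s) = ∑ i, ∑ j, mat ρ s i j * mat ρ s j i := by
    intro s
    rw [← hρχ, ← trace_mat, mat_mul, Matrix.trace]
    refine Finset.sum_congr rfl fun i _ => ?_
    rw [Matrix.diag_apply, Matrix.mul_apply]
  have hprod : ∀ s : G, χ s * χ s = ∑ i, ∑ j, mat ρ s i i * mat ρ s j j := by
    intro s
    rw [← hρχ, ← trace_mat, Matrix.trace, Finset.sum_mul_sum]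
    rfl
  have hsum : ∑ s : G, χ (s * s) = ∑ s : G, χ s * χ s := by
    simp_rw [hsq, hprod]
    rw [Finset.sum_comm]
    rw [Finset.sum_comm (f := fun s i => ∑ j, mat ρ s i i * mat ρ s j j)]
    refine Finset.sum_congr rfl fun i _ => ?_
    rw [Finset.sum_comm]
    rw [Finset.sum_comm (f := fun s j => mat ρ s i i * mat ρ s j j)]
    refine Finset.sum_congr rfl fun j _ => ?_
    exact key_sum ρ hρ hn i j
  have hconj : ∀ s : G, conj (χ s) = χ s := fun s =>
    Complex.conj_eq_iff_im.mpr (hreal s)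
  have hinner : Cfsg.classInner χ χ = 1 := by
    have := Cfsg.Agent.Lib.Helper4.classInner_irr (G := G) ⟨χ, ⟨n, ρ, hρ, hρχ⟩⟩ ⟨χ, ⟨n, ρ, hρ, hρχ⟩⟩
    simpa using this
  rw [hsum]
  unfold Cfsg.classInner at hinner
  simp_rw [hconj] at hinner
  exact hinner

end Cfsg.Agent.S0895
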