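import Cfsg.Statements.S0158
import Cfsg.Agent.S0895
import Cfsg.Agent.Lib.Helper28.DualRep
import Cfsg.Agent.Lib.Helper4.CharOrtho

set_option autoImplicit false
open Cfsg

namespace Cfsg.Agent.S0158

open Cfsg.Agent.Lib.Helper4 Cfsg.Agent.Lib.Helper28 Cfsg.Agent.S0895
open scoped ComplexConjugate

variable {G : Type*} [Group G] {n : ℕ}

theorem IsInv_transpose {ρ : Representation ℂ G (Fin n → ℂ)} {Y : Matrix (Fin n) (Fin n) ℂ}
    (hY : IsInv ρ Y) : IsInv ρ Y.transpose := by
  intro g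
  have h2 := congrArg Matrix.transpose (hY g)
  rw [Matrix.transpose_mul, Matrix.transpose_mul, Matrix.transpose_transpose,
    ← Matrix.mul_assoc] at h2
  exact h2

theorem IsInv_sub_smul {ρ : Representation ℂ G (Fin n → ℂ)} {Y K : Matrix (Fin n) (Fin n) ℂ}
    (hY : IsInv ρ Y) (hK : IsInv ρ K) (c : ℂ) : IsInv ρ (Y - c • K) := by
  intro g
  rw [Matrix.mul_sub, Matrix.sub_mul, Matrix.mul_smul, Matrix.smul_mul, hY g, hK g]

/-- every invariant form of an irreducible representation is a multiple of a fixed nonzero one -/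
theorem exists_smul_eq {ρ : Representation ℂ G (Fin n → ℂ)} (hρ : ρ.IsIrreducible)
    {K : Matrix (Fin n) (Fin n) ℂ} (hK : IsInv ρ K) (hK0 : K ≠ 0)
    {Y : Matrix (Fin n) (Fin n) ℂ} (hY : IsInv ρ Y) : ∃ c : ℂ, Y = c • K := by
  have hKu : IsUnit K := (hK.eq_zero_or_isUnit hρ).resolve_left hK0
  have hKdet : IsUnit K.det := (Matrix.isUnit_iff_isUnit_det K).mp hKu
  have hnt : Nontrivial (Fin n → ℂ) := by
    have := hρ
    by_contra hnt
    rw [not_nontrivial_iff_subsingleton] at hnt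
    obtain ⟨a, b, hab⟩ := (inferInstance : Nontrivial (Subrepresentation ρ))
    apply hab
    ext x
    have : x = 0 := Subsingleton.elim _ _
    subst this
    simp only [Submodule.zero_mem]
  obtain ⟨c, hc⟩ := Module.End.exists_eigenvalue (Matrix.mulVecLin (Y * K⁻¹))
  obtain ⟨v, hv⟩ := hc.exists_hasEigenvector
  have hv1 : (Y * K⁻¹).mulVec v = c • v := by
    have := hv.apply_eq_smul
    rwa [Matrix.mulVecLin_apply] at this
  rcases (IsInv_sub_smul hY hK c).eq_zero_or_isUnit hρ with h0 | hu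
  · exact ⟨c, sub_eq_zero.mp h0⟩
  · exfalso
    have hinj := Matrix.mulVec_injective_iff_isUnit.mpr hu
    have hKK : K * K⁻¹ = 1 := Matrix.mul_nonsing_inv K hKdet
    have h1 : (Y - c • K).mulVec (K⁻¹.mulVec v) = 0 := by
      rw [Matrix.sub_mulVec, Matrix.smul_mulVec, Matrix.mulVec_mulVec, Matrix.mulVec_mulVec,
        hKK, Matrix.one_mulVec, hv1, sub_self]
    have h2 : K⁻¹.mulVec v = 0 := by
      apply hinj
      rw [h1, Matrix.mulVec_zero]
    have h3 : v = 0 := by
      have : v = (K * K⁻¹).mulVec v := by rw [hKK, Matrix.one_mulVec]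
      rw [this, ← Matrix.mulVec_mulVec, h2, Matrix.mulVec_zero]
    exact hv.2 h3

/-- the sign of an irreducible representation: every invariant bilinear form is `ε`-symmetric -/
theorem exists_sign {ρ : Representation ℂ G (Fin n → ℂ)} (hρ : ρ.IsIrreducible) :
    ∃ ε : ℂ, (ε = 1 ∨ ε = -1) ∧
      ∀ Y : Matrix (Fin n) (Fin n) ℂ, IsInv ρ Y → Y.transpose = ε • Y := by
  by_cases h : ∀ Y : Matrix (Fin n) (Fin n) ℂ, IsInv ρ Y → Y = 0
  · refine ⟨1, Or.inl rfl, fun Y hY => ?_⟩
    rw [h Y hY]; simp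
  · push_neg at h
    obtain ⟨K, hK, hK0⟩ := h
    obtain ⟨ε, hε⟩ := exists_smul_eq hρ hK hK0 (IsInv_transpose hK)
    have hε2 : ε * ε = 1 := by
      have h1 : K = (ε * ε) • K := by
        conv_lhs => rw [← Matrix.transpose_transpose K, hε, Matrix.transpose_smul, hε, smul_smul]
      have h2 : (ε * ε - 1) • K = 0 := by
        rw [sub_smul, one_smul, ← h1, sub_self]
      rcases smul_eq_zero.mp h2 with h3 | h3
      · exact sub_eq_zero.mp h3
      · exact absurd h3 hK0
    refine ⟨ε, ?_, fun Y hY => ?_⟩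
    · have : (ε - 1) * (ε + 1) = 0 := by ring_nf; rw [sq, hε2]; ring
      rcases mul_eq_zero.mp this with h3 | h3
      · left; exact sub_eq_zero.mp h3
      · right; exact eq_neg_of_add_eq_zero_left h3
    · obtain ⟨c, rfl⟩ := exists_smul_eq hρ hK hK0 hY
      rw [Matrix.transpose_smul, hε, smul_comm]

variable [Fintype G]

/-- `Σ χ(s²) = ε Σ χ(s)²` for the sign `ε` of `ρ` -/
theorem sum_sq_eq {ρ : Representation ℂ G (Fin n → ℂ)} (hρ : ρ.IsIrreducible) :
    ∃ ε : ℂ, (ε = 1 ∨ ε = -1) ∧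
      ∑ s : G, ρ.character (s * s) = ε * ∑ s : G, ρ.character s * ρ.character s := by
  obtain ⟨ε, hε, hsign⟩ := exists_sign hρ
  have hεε : ε * ε = 1 := by rcases hε with rfl | rfl <;> norm_num
  refine ⟨ε, hε, ?_⟩
  have hsq : ∀ s : G, ρ.character (s * s) = ∑ i, ∑ j, mat ρ s i j * mat ρ s j i := by
    intro s
    rw [← trace_mat, mat_mul, Matrix.trace]
    refine Finset.sum_congr rfl fun i _ => ?_
    rw [Matrix.diag_apply, Matrix.mul_apply]
  have hprod : ∀ s : G, ρ.character s * ρ.character s = ∑ i, ∑ j, mat ρ s i i * mat ρ s j j := by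
    intro s
    rw [← trace_mat, Matrix.trace, Finset.sum_mul_sum]
    rfl
  have key : ∀ i j : Fin n, ∑ s : G, mat ρ s i i * mat ρ s j j =
      ε * ∑ s : G, mat ρ s i j * mat ρ s j i := by
    intro i j
    have h1 := hsign _ (avgForm_isInv ρ (Pi.single j 1) (Pi.single i 1))
    rw [avgForm_transpose] at h1
    have h2 := congrFun (congrFun h1 i) j
    rw [Matrix.smul_apply, avgForm_apply, avgForm_apply, smul_eq_mul] at h2
    exact h2
  simp_rw [hsq, hprod]
  rw [Finset.sum_comm, Finset.sum_comm (f := fun s i => ∑ j, mat ρ s i i * mat ρ s j j)]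
  simp_rw [Finset.sum_comm (s := (Finset.univ : Finset G))]
  simp_rw [key, ← Finset.mul_sum]
  rw [← mul_assoc, hεε, one_mul]

/-- the Frobenius–Schur indicator of an irreducible character -/
theorem indicator_eq (χ : Cfsg.IrrCharacter G) :
    ∃ ε : ℂ, (ε = 1 ∨ ε = -1) ∧
      (Nat.card G : ℂ)⁻¹ * ∑ s : G, (χ : G → ℂ) (s * s) =
        ε * (if χ = irrConj χ then 1 else 0) := by
  classical
  obtain ⟨n, ρ, hρ, hρχ⟩ := χ.2
  obtain ⟨ε, hε, h⟩ := sum_sq_eq hρ
  refine ⟨ε, hε, ?_⟩
  have h1 := classInner_irr χ (irrConj χ)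
  unfold Cfsg.classInner at h1
  simp only [irrConj_apply, Complex.conj_conj] at h1
  rw [← h1, ← hρχ, h]
  ring

/-- The Frobenius–Schur indicator of an irreducible complex representation of a finite group — the average over s of the character at s * s — is 0, 1 or −1, and it vanishes exactly when some character value is not real. -/
theorem result {G : Type*} [Group G] [Fintype G] {V : Type*} [AddCommGroup V] [Module ℂ V] [FiniteDimensional ℂ V] (ρ : Representation ℂ G V) [ρ.IsIrreducible] : ((Nat.card G : ℂ)⁻¹ * ∑ s : G, ρ.character (s * s) = 0 ∨ (Nat.card G : ℂ)⁻¹ * ∑ s : G, ρ.character (s * s) = 1 ∨ (Nat.card G : ℂ)⁻¹ * ∑ s : G, ρ.character (s * s) = -1) ∧ ((Nat.card G : ℂ)⁻¹ * ∑ s : G, ρ.character (s * s) = 0 ↔ ∃ s : G, (ρ.character s).im ≠ 0) := by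
  classical
  let χ : Cfsg.IrrCharacter G := ⟨ρ.character, isIrrCharacter_of_irreducible ρ inferInstance⟩
  obtain ⟨ε, hε, h⟩ := indicator_eq χ
  have hχ : ∀ g, (χ : G → ℂ) g = ρ.character g := fun _ => rfl
  simp only [hχ] at h
  have hreal : χ = irrConj χ ↔ ∀ s : G, (ρ.character s).im = 0 := by
    constructor
    · intro h0 g
      have h1 : conj ((χ : G → ℂ) g) = (χ : G → ℂ) g := by
        conv_rhs => rw [h0]
        rfl
      exact Complex.conj_eq_iff_im.mp h1
    · intro h0
      apply Subtype.ext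
      funext g
      rw [irrConj_apply]
      exact (Complex.conj_eq_iff_im.mpr (h0 g)).symm
  rw [h]
  by_cases hc : χ = irrConj χ
  · rw [if_pos hc, mul_one]
    have hne : ε ≠ 0 := by rcases hε with rfl | rfl <;> norm_num
    refine ⟨Or.inr hε, ?_⟩
    constructor
    · intro h0; exact absurd h0 hne
    · rintro ⟨s, hs⟩
      exact absurd (hreal.mp hc s) hs
  · rw [if_neg hc, mul_zero]
    refine ⟨Or.inl rfl, ?_⟩
    constructor
    · intro _
      by_contra hno
      push_neg at hno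
      exact hc (hreal.mpr hno)
    · intro _; rfl

end Cfsg.Agent.S0158
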