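import Cfsg.Statements.S0159
import Cfsg.Agent.Lib.Helper4.CharOrtho
import Cfsg.Agent.Lib.Helper4.RepEigen

set_option autoImplicit false
open Cfsg

namespace Cfsg.Agent.S0159

open Cfsg.Agent.Lib.Helper4
open scoped ComplexConjugate

/-- the square-root counting function -/
noncomputable def sqrtCount {G : Type*} [Group G] [Fintype G] [DecidableEq G] (g : G) : ℂ :=
  ∑ s : G, if s * s = g then 1 else 0

theorem isClassFunction_sqrtCount {G : Type*} [Group G] [Fintype G] [DecidableEq G] :
    Cfsg.IsClassFunction G (sqrtCount (G := G)) := by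
  intro g k
  unfold sqrtCount
  apply Finset.sum_equiv (MulAut.conj k⁻¹).toEquiv
  · intro s; simp
  · intro s _
    have : (MulAut.conj k⁻¹).toEquiv s * (MulAut.conj k⁻¹).toEquiv s = g ↔ s * s = k * g * k⁻¹ := by
      simp only [MulEquiv.toEquiv_eq_coe, EquivLike.coe_coe, MulAut.conj_apply, inv_inv]
      constructor
      · intro h
        have : s * s = k * (k⁻¹ * s * k * (k⁻¹ * s * k)) * k⁻¹ := by group
        rw [this, h]
      · intro h
        have : k⁻¹ * s * k * (k⁻¹ * s * k) = k⁻¹ * (s * s) * k := by group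
        rw [this, h]; group
    simp only [this]

theorem classInner_sqrtCount {G : Type*} [Group G] [Fintype G] [DecidableEq G]
    (χ : Cfsg.IrrCharacter G) :
    Cfsg.classInner (sqrtCount (G := G)) (χ : G → ℂ) =
      (Nat.card G : ℂ)⁻¹ * ∑ s : G, (χ : G → ℂ) (s * s) := by
  unfold Cfsg.classInner sqrtCount
  congr 1
  simp only [Finset.sum_mul]
  rw [Finset.sum_comm]
  simp only [ite_mul, one_mul, zero_mul, Finset.sum_ite_eq, Finset.mem_univ, if_true]
  obtain ⟨n, ρ, _, hρ⟩ := χ.2
  rw [← hρ]
  simp only [← character_inv]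
  apply Finset.sum_equiv (Equiv.inv G)
  · intro s; simp
  · intro s _
    simp

/-- The number of solutions of s * s = 1 in a finite group equals the sum, over the irreducible characters χ, of (the average over s of χ (s * s)) times χ 1. -/
theorem result {G : Type*} [Group G] [Fintype G] : (Nat.card {s : G // s * s = 1} : ℂ) = ∑ᶠ χ : Cfsg.IrrCharacter G, ((Nat.card G : ℂ)⁻¹ * ∑ s : G, (χ : G → ℂ) (s * s)) * (χ : G → ℂ) 1 := by
  classical
  have : Fintype (Cfsg.IrrCharacter G) := Fintype.ofFinite _
  rw [finsum_eq_sum_of_fintype]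
  have h := congrFun (classFunction_expansion (sqrtCount (G := G)) isClassFunction_sqrtCount) 1
  simp only [Finset.sum_apply, Pi.smul_apply, smul_eq_mul, classInner_sqrtCount] at h
  rw [← h]
  unfold sqrtCount
  rw [Finset.sum_boole, Nat.card_eq_fintype_card, Fintype.card_subtype]

end Cfsg.Agent.S0159
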