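import Cfsg.Statements.S4058
import Mathlib
import Cfsg.Agent.S0857
import Cfsg.Agent.S0158
import Cfsg.Agent.S0159
import Cfsg.Agent.S0162
import Cfsg.Agent.Lib.Helper14.FrattiniQuot

set_option autoImplicit false
open Cfsg

namespace Cfsg.Agent.S4058

open scoped ComplexConjugate
open Cfsg.Agent.Lib.Helper26 Cfsg.Agent.Lib.Helper4

/-- orbit-sum divisibility -/
lemma dvd_sum_of_orbit {Λ X : Type*} [Group Λ] [MulAction Λ X] [Fintype X] (f : X → ℤ)
    (hf : ∀ (l : Λ) (x : X), f (l • x) = f x) (m : ℤ)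
    (h : ∀ x : X, m ∣ (Nat.card (MulAction.orbit Λ x) : ℤ) * f x) : m ∣ ∑ x, f x := by
  classical
  haveI : Fintype (Quotient (MulAction.orbitRel Λ X)) := Fintype.ofFinite _
  rw [← Finset.sum_fiberwise (s := Finset.univ)
    (g := fun x => (Quotient.mk (MulAction.orbitRel Λ X) x)) (f := f)]
  apply Finset.dvd_sum
  intro ω _
  have hfib : ∀ x, Quotient.mk (MulAction.orbitRel Λ X) x = ω ↔
      x ∈ MulAction.orbit Λ ω.out := by
    intro x
    constructor
    · intro hx
      have h1 : Quotient.mk (MulAction.orbitRel Λ X) x =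
          Quotient.mk (MulAction.orbitRel Λ X) ω.out := hx.trans (Quotient.out_eq ω).symm
      exact (MulAction.orbitRel_apply).1 (Quotient.exact h1)
    · intro hx
      have h1 : Quotient.mk (MulAction.orbitRel Λ X) x =
          Quotient.mk (MulAction.orbitRel Λ X) ω.out :=
        Quotient.sound ((MulAction.orbitRel_apply).2 hx)
      exact h1.trans (Quotient.out_eq ω)
  have hconst : ∀ x ∈ Finset.univ.filter
      (fun x => Quotient.mk (MulAction.orbitRel Λ X) x = ω), f x = f ω.out := by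
    intro x hx
    rw [Finset.mem_filter] at hx
    obtain ⟨l, hl⟩ := (hfib x).1 hx.2
    rw [← hl]
    exact hf l _
  rw [Finset.sum_congr rfl hconst, Finset.sum_const, nsmul_eq_mul]
  have hcard : (Finset.univ.filter
      (fun x => Quotient.mk (MulAction.orbitRel Λ X) x = ω)).card =
      Nat.card (MulAction.orbit Λ ω.out) := by
    rw [Nat.card_eq_fintype_card, ← Fintype.card_subtype]
    exact Fintype.card_congr (Equiv.subtypeEquivRight hfib)
  rw [hcard]
  exact h ω.out

section Twist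
variable {K : Type*} [Group K] [Fintype K] {Q : Type*} [Group Q]

/-- the dual group of a quotient acts on the irreducible characters by multiplication -/
@[reducible] noncomputable def twistAct (π : K →* Q) :
    MulAction (Q →* ℂˣ) (IrrCharacter K) where
  smul lam χ := ⟨fun g => ((lam (π g) : ℂˣ) : ℂ) * (χ : K → ℂ) g,
    Cfsg.Agent.S0857.isIrr_twist (lam.comp π) _ χ.2⟩
  one_smul χ := by
    apply Subtype.ext
    funext g
    show (((1 : Q →* ℂˣ) (π g) : ℂˣ) : ℂ) * (χ : K → ℂ) g = (χ : K → ℂ) g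
    simp
  mul_smul a b χ := by
    apply Subtype.ext
    funext g
    show (((a * b) (π g) : ℂˣ) : ℂ) * (χ : K → ℂ) g =
      ((a (π g) : ℂˣ) : ℂ) * (((b (π g) : ℂˣ) : ℂ) * (χ : K → ℂ) g)
    rw [MonoidHom.mul_apply, Units.val_mul, mul_assoc]

end Twist


/-- Let G be a finite 2-group with #(G/Φ(G)) ≥ 2^(2k+1). Then the number of elements x of G with x² = 1 is divisible by 2^(k+1). -/
theorem result {G : Type*} [Group G] [Finite G] (hG : IsPGroup 2 G) (k : ℕ)
    (hgen : 2 ^ (2 * k + 1) ≤ Nat.card (G ⧸ frattini G)) :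
    2 ^ (k + 1) ∣ Nat.card {x : G // x ^ 2 = 1} := by
  classical
  haveI : Fintype G := Fintype.ofFinite G
  haveI : Fact (Nat.Prime 2) := ⟨Nat.prime_two⟩
  haveI : Fintype (IrrCharacter G) := Fintype.ofFinite _
  have hcommI : IsMulCommutative (G ⧸ frattini G) :=
    (Subgroup.Normal.quotient_commutative_iff_commutator_le).2
      (Cfsg.Agent.Lib.Helper14.commutator_le_frattini_of_isPGroup' hG)
  have hcomm : ∀ a b : G ⧸ frattini G, a * b = b * a := fun a b => hcommI.is_comm.comm a b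
  have hexp : ∀ g : G, (QuotientGroup.mk (g * g) : G ⧸ frattini G) = 1 := by
    intro g
    rw [QuotientGroup.eq_one_iff, ← sq]
    exact Cfsg.Agent.Lib.Helper14.pow_mem_frattini_of_isPGroup' hG g
  haveI : Finite ((G ⧸ frattini G) →* ℂˣ) := finite_monoidHom_units' hcomm
  haveI : Fintype ((G ⧸ frattini G) →* ℂˣ) := Fintype.ofFinite _
  letI act := twistAct (QuotientGroup.mk' (frattini G))
  have hact : ∀ (lam : (G ⧸ frattini G) →* ℂˣ) (χ : IrrCharacter G) (g : G),
      ((lam • χ : IrrCharacter G) : G → ℂ) g =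
        ((lam (QuotientGroup.mk g) : ℂˣ) : ℂ) * (χ : G → ℂ) g := fun _ _ _ => rfl
  -- card of the dual
  have hcardΛ : Nat.card ((G ⧸ frattini G) →* ℂˣ) = Nat.card (G ⧸ frattini G) := by
    have h := Cfsg.Agent.S0857.sum_monoidHom_apply' hcomm (1 : G ⧸ frattini G)
    rw [if_pos rfl] at h
    simp only [map_one, Units.val_one, Finset.sum_const, Finset.card_univ, nsmul_eq_mul,
      mul_one] at h
    rw [Nat.card_eq_fintype_card]
    exact_mod_cast h
  -- degrees and indicators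
  choose deg hdeg hdvd using (Cfsg.Agent.S0162.exists_degree (G := G))
  have hν : ∀ χ : IrrCharacter G, ∃ e : ℤ,
      (Nat.card G : ℂ)⁻¹ * ∑ s : G, (χ : G → ℂ) (s * s) = (e : ℂ) ∧
        (e = 0 ∨ e = 1 ∨ e = -1) := by
    intro χ
    obtain ⟨ε, hε, h⟩ := Cfsg.Agent.S0158.indicator_eq χ
    rw [h]
    split_ifs
    · rcases hε with rfl | rfl
      · exact ⟨1, by simp, Or.inr (Or.inl rfl)⟩
      · exact ⟨-1, by simp, Or.inr (Or.inr rfl)⟩
    · exact ⟨0, by simp, Or.inl rfl⟩
  choose e he he' using hν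
  have hsum : (Nat.card {s : G // s * s = 1} : ℤ) =
      ∑ χ : IrrCharacter G, e χ * (deg χ : ℤ) := by
    have h := Cfsg.Agent.S0159.result (G := G)
    rw [finsum_eq_sum_of_fintype] at h
    have h2 : (∑ χ : IrrCharacter G,
        ((Nat.card G : ℂ)⁻¹ * ∑ s : G, (χ : G → ℂ) (s * s)) * (χ : G → ℂ) 1) =
        ((∑ χ : IrrCharacter G, e χ * (deg χ : ℤ) : ℤ) : ℂ) := by
      push_cast
      refine Finset.sum_congr rfl fun χ _ => ?_
      rw [he χ, hdeg χ]
    rw [h2] at h
    exact_mod_cast h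
  have hinv : ∀ (lam : (G ⧸ frattini G) →* ℂˣ) (χ : IrrCharacter G),
      e (lam • χ) * (deg (lam • χ) : ℤ) = e χ * (deg χ : ℤ) := by
    intro lam χ
    have h1 : (e (lam • χ) : ℂ) = e χ := by
      rw [← he, ← he]
      congr 1
      refine Finset.sum_congr rfl fun s _ => ?_
      rw [hact, hexp s, map_one, Units.val_one, one_mul]
    have h2 : ((deg (lam • χ) : ℕ) : ℂ) = deg χ := by
      rw [← hdeg, ← hdeg, hact, QuotientGroup.mk_one, map_one, Units.val_one, one_mul]
    have h1' : e (lam • χ) = e χ := by exact_mod_cast h1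
    have h2' : deg (lam • χ) = deg χ := by exact_mod_cast h2
    rw [h1', h2']
  -- character values are bounded by the degree
  have hnorm : ∀ (χ : IrrCharacter G) (g : G), ‖(χ : G → ℂ) g‖ ≤ (deg χ : ℝ) := by
    intro χ g
    obtain ⟨n, ρ, hρ, hρχ⟩ := χ.2
    have h1 := norm_character_le ρ g
    have h2 : ((deg χ : ℕ) : ℂ) = (Module.finrank ℂ (Fin n → ℂ) : ℂ) := by
      rw [← hdeg, ← hρχ]; exact Representation.char_one ρ
    have h3 : deg χ = Module.finrank ℂ (Fin n → ℂ) := by exact_mod_cast h2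
    rw [← hρχ, h3]
    exact h1
  -- stabilizer bound
  have hstab : ∀ χ : IrrCharacter G,
      Nat.card (MulAction.stabilizer ((G ⧸ frattini G) →* ℂˣ) χ) ≤ (deg χ) ^ 2 := by
    intro χ
    haveI : Fintype (frattini G) := Fintype.ofFinite _
    have h := Cfsg.Agent.S0857.sum_twist_inner (frattini G) hcomm (χ : G → ℂ)
    have hL : ∀ lam : (G ⧸ frattini G) →* ℂˣ,
        classInner (fun k => ((lam (QuotientGroup.mk k) : ℂˣ) : ℂ) * (χ : G → ℂ) k)
          (χ : G → ℂ) =
        if lam ∈ MulAction.stabilizer ((G ⧸ frattini G) →* ℂˣ) χ then 1 else 0 := by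
      intro lam
      have h1 := classInner_irr (lam • χ).2 χ.2
      have h2 : (fun k => ((lam (QuotientGroup.mk k) : ℂˣ) : ℂ) * (χ : G → ℂ) k) =
          ((lam • χ : IrrCharacter G) : G → ℂ) := rfl
      rw [h2, h1]
      simp only [MulAction.mem_stabilizer_iff, Subtype.ext_iff]
    rw [Finset.sum_congr rfl (fun lam _ => hL lam), Finset.sum_boole] at h
    have hcard : (Finset.univ.filter (fun lam =>
        lam ∈ MulAction.stabilizer ((G ⧸ frattini G) →* ℂˣ) χ)).card =
        Nat.card (MulAction.stabilizer ((G ⧸ frattini G) →* ℂˣ) χ) := by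
      rw [Nat.card_eq_fintype_card, Fintype.card_subtype]
    rw [hcard] at h
    have hR : ‖classInner (fun n : frattini G => (χ : G → ℂ) n)
        (fun n : frattini G => (χ : G → ℂ) n)‖ ≤ ((deg χ : ℝ)) ^ 2 := by
      unfold classInner
      rw [norm_mul, norm_inv, Complex.norm_natCast]
      have hb : ∀ n : frattini G,
          ‖(χ : G → ℂ) n * conj ((χ : G → ℂ) n)‖ ≤ (deg χ : ℝ) ^ 2 := by
        intro n
        rw [norm_mul, RCLike.norm_conj, ← sq]
        exact pow_le_pow_left₀ (norm_nonneg _) (hnorm χ n) 2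
      have hpos : (0 : ℝ) < (Nat.card (frattini G) : ℝ) := by exact_mod_cast Nat.card_pos
      have h3 : ‖∑ n : frattini G, (χ : G → ℂ) n * conj ((χ : G → ℂ) n)‖ ≤
          (Nat.card (frattini G) : ℝ) * (deg χ : ℝ) ^ 2 := by
        calc ‖∑ n : frattini G, (χ : G → ℂ) n * conj ((χ : G → ℂ) n)‖
            ≤ ∑ n : frattini G, ‖(χ : G → ℂ) n * conj ((χ : G → ℂ) n)‖ := norm_sum_le _ _
          _ ≤ ∑ _n : frattini G, (deg χ : ℝ) ^ 2 := Finset.sum_le_sum (fun n _ => hb n)
          _ = (Nat.card (frattini G) : ℝ) * (deg χ : ℝ) ^ 2 := by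
              rw [Finset.sum_const, Finset.card_univ, nsmul_eq_mul, Nat.card_eq_fintype_card]
      calc (Nat.card (frattini G) : ℝ)⁻¹ *
            ‖∑ n : frattini G, (χ : G → ℂ) n * conj ((χ : G → ℂ) n)‖
          ≤ (Nat.card (frattini G) : ℝ)⁻¹ * ((Nat.card (frattini G) : ℝ) * (deg χ : ℝ) ^ 2) :=
            mul_le_mul_of_nonneg_left h3 (inv_nonneg.2 hpos.le)
        _ = (deg χ : ℝ) ^ 2 := by field_simp
    rw [← h, Complex.norm_natCast] at hR
    exact_mod_cast hR
  -- divisibility for each orbit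
  obtain ⟨d, hd⟩ := (IsPGroup.iff_card).1 (hG.to_quotient (frattini G))
  obtain ⟨m, hm⟩ := (IsPGroup.iff_card).1 hG
  have hd2k : 2 * k + 1 ≤ d := by
    rw [hd] at hgen
    exact (Nat.pow_le_pow_iff_right (by norm_num)).1 hgen
  have hdiv : ∀ χ : IrrCharacter G, ((2 ^ (k + 1) : ℕ) : ℤ) ∣
      (Nat.card (MulAction.orbit ((G ⧸ frattini G) →* ℂˣ) χ) : ℤ) *
        (e χ * (deg χ : ℤ)) := by
    intro χ
    obtain ⟨a, ha, hdega⟩ := (Nat.dvd_prime_pow Nat.prime_two).1 (hm ▸ hdvd χ)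
    have hos : Nat.card (MulAction.stabilizer ((G ⧸ frattini G) →* ℂˣ) χ) *
        Nat.card (MulAction.orbit ((G ⧸ frattini G) →* ℂˣ) χ) = 2 ^ d := by
      rw [← hd, ← hcardΛ, Nat.card_coe_set_eq, ← MulAction.index_stabilizer]
      exact Subgroup.card_mul_index _
    obtain ⟨s, hs, hstabs⟩ := (Nat.dvd_prime_pow Nat.prime_two).1 (Dvd.intro _ hos)
    have horb : Nat.card (MulAction.orbit ((G ⧸ frattini G) →* ℂˣ) χ) = 2 ^ (d - s) := by
      rw [hstabs] at hos
      have h1 : (2 : ℕ) ^ d = 2 ^ s * 2 ^ (d - s) := by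
        rw [← pow_add]; congr 1; omega
      rw [h1] at hos
      exact Nat.eq_of_mul_eq_mul_left (pow_pos (by norm_num) s) hos
    have hs2a : s ≤ 2 * a := by
      have h1 := hstab χ
      rw [hstabs, hdega, ← pow_mul] at h1
      have h2 := (Nat.pow_le_pow_iff_right (by norm_num : 1 < 2)).1 h1
      omega
    have key : 2 ^ (k + 1) ∣
        Nat.card (MulAction.orbit ((G ⧸ frattini G) →* ℂˣ) χ) * deg χ := by
      rw [horb, hdega, ← pow_add]
      exact pow_dvd_pow 2 (by omega)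
    obtain ⟨c, hc⟩ := key
    refine ⟨(c : ℤ) * e χ, ?_⟩
    have h1 : ((Nat.card (MulAction.orbit ((G ⧸ frattini G) →* ℂˣ) χ) * deg χ : ℕ) : ℤ) =
        ((2 ^ (k + 1) * c : ℕ) : ℤ) := by rw [hc]
    push_cast at h1 ⊢
    linear_combination (e χ) * h1
  have hfinal := dvd_sum_of_orbit (Λ := (G ⧸ frattini G) →* ℂˣ)
    (fun χ => e χ * (deg χ : ℤ)) hinv _ hdiv
  rw [← hsum] at hfinal
  have h3 : 2 ^ (k + 1) ∣ Nat.card {s : G // s * s = 1} := by exact_mod_cast hfinal
  rwa [Nat.card_congr (Equiv.subtypeEquivRight (fun x : G => by rw [sq]))]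

end Cfsg.Agent.S4058
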