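import Cfsg.Statements.S4477
-- import your own Cfsg.Agent.* helpers here
import Mathlib
import Cfsg.Agent.S4058

set_option autoImplicit false
open Cfsg

namespace Cfsg.Agent.S4477

open scoped ComplexConjugate
open Cfsg.Agent.Lib.Helper26 Cfsg.Agent.Lib.Helper4 Cfsg.Agent.Lib.Helper28
open Cfsg.Agent.S4058 (dvd_sum_of_orbit twistAct)

lemma isCyclic_of_card_quot_frattini_le_two {G : Type*} [Group G] [Finite G]
    (h : Nat.card (G ⧸ frattini G) ≤ 2) : IsCyclic G := by
  have hidx : (frattini G).index ≤ 2 := by rwa [Subgroup.index_eq_card]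
  by_cases htop : frattini G = ⊤
  · have h1 : (⊥ : Subgroup G) = ⊤ :=
      frattini_nongenerating (by rw [bot_sup_eq]; exact htop)
    haveI : Subsingleton G := by
      refine ⟨fun a b => ?_⟩
      have ha : a ∈ (⊥ : Subgroup G) := by rw [h1]; trivial
      have hb : b ∈ (⊥ : Subgroup G) := by rw [h1]; trivial
      rw [Subgroup.mem_bot] at ha hb
      rw [ha, hb]
    exact isCyclic_of_subsingleton
  · obtain ⟨g, hg⟩ : ∃ g : G, g ∉ frattini G := by
      by_contra hcon
      push Not at hcon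
      exact htop (eq_top_iff.2 fun x _ => hcon x)
    have hK : Subgroup.zpowers g ⊔ frattini G = ⊤ := by
      have hle : frattini G ≤ Subgroup.zpowers g ⊔ frattini G := le_sup_right
      have hdvd := Subgroup.index_dvd_of_le hle
      have hne1 : (frattini G).index ≠ 1 := fun h1 => htop (Subgroup.index_eq_one.1 h1)
      have hne0 : (frattini G).index ≠ 0 := Subgroup.index_ne_zero_of_finite
      have h2 : (frattini G).index = 2 := by omega
      rw [h2] at hdvd
      rcases (Nat.dvd_prime Nat.prime_two).1 hdvd with h1 | h1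
      · exact Subgroup.index_eq_one.1 h1
      · exfalso
        have h3 := Subgroup.relIndex_mul_index hle
        rw [h1, h2] at h3
        have h4 : (frattini G).relIndex (Subgroup.zpowers g ⊔ frattini G) = 1 := by omega
        rw [Subgroup.relIndex_eq_one] at h4
        exact hg (h4 ((le_sup_left : Subgroup.zpowers g ≤ _) (Subgroup.mem_zpowers g)))
    have hz : Subgroup.zpowers g = ⊤ := frattini_nongenerating hK
    exact isCyclic_iff_exists_zpowers_eq_top.2 ⟨g, hz⟩

lemma exists_hom_ne_one {G : Type*} [Group G] [Finite G] (N : Subgroup G) [N.Normal]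
    (hcomm : ∀ a b : G ⧸ N, a * b = b * a) {g : G} (hg : g ∉ N) :
    ∃ lam : (G ⧸ N) →* ℂˣ, lam (QuotientGroup.mk g) ≠ 1 := by
  classical
  haveI : Finite ((G ⧸ N) →* ℂˣ) := finite_monoidHom_units' hcomm
  haveI : Fintype ((G ⧸ N) →* ℂˣ) := Fintype.ofFinite _
  by_contra hcon
  push Not at hcon
  have h := Cfsg.Agent.S0857.sum_monoidHom_apply' hcomm (QuotientGroup.mk g : G ⧸ N)
  rw [if_neg (by rw [QuotientGroup.eq_one_iff]; exact hg)] at h
  simp only [hcon, Units.val_one, Finset.sum_const, Finset.card_univ, nsmul_eq_mul,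
    mul_one] at h
  have h0 : (Fintype.card ((G ⧸ N) →* ℂˣ) : ℂ) ≠ 0 := by
    exact_mod_cast Fintype.card_ne_zero
  exact h0 h

lemma zmod2_aux (a b : ℤ) (ha : a = 0 ∨ a = 1 ∨ a = -1) (hb : b = 0 ∨ b = 1 ∨ b = -1)
    (hab : b ≠ 0 ↔ a ≠ 0) : ((a : ZMod 2)) + ((b : ZMod 2)) = 0 := by
  have h2 : ((2 : ℕ) : ℤ) ∣ a + b := by
    push_cast
    omega
  rw [← Int.cast_add]
  exact (ZMod.intCast_zmod_eq_zero_iff_dvd _ 2).2 h2


/-- Let G be a finite 2-group whose number of involutions is congruent to 1 modulo 4. Then G is cyclic or its commutator subgroup has index 4. -/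
theorem result {G : Type*} [Group G] [Finite G] (hG : IsPGroup 2 G) (ht : Nat.card {x : G // orderOf x = 2} % 4 = 1) : IsCyclic G ∨ (commutator G).index = 4 := by
  classical
  haveI : Fintype G := Fintype.ofFinite G
  haveI : Fact (Nat.Prime 2) := ⟨Nat.prime_two⟩
  haveI : Fintype (IrrCharacter G) := Fintype.ofFinite _
  obtain ⟨d, hd⟩ := (IsPGroup.iff_card).1 (hG.to_quotient (frattini G))
  obtain ⟨m, hm⟩ := (IsPGroup.iff_card).1 hG
  by_cases hd1 : d ≤ 1
  · left
    apply isCyclic_of_card_quot_frattini_le_two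
    rw [hd]
    calc 2 ^ d ≤ 2 ^ 1 := Nat.pow_le_pow_right (by norm_num) hd1
      _ = 2 := by norm_num
  right
  have hd2 : 2 ≤ d := by omega
  have hN : Nat.card {s : G // s * s = 1} = Nat.card {x : G // orderOf x = 2} + 1 := by
    rw [Nat.card_eq_fintype_card, Nat.card_eq_fintype_card, Fintype.card_subtype,
      Fintype.card_subtype]
    have h1 : Finset.univ.filter (fun s : G => s * s = 1) =
        insert 1 (Finset.univ.filter (fun x : G => orderOf x = 2)) := by
      ext s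
      simp only [Finset.mem_filter, Finset.mem_univ, true_and, Finset.mem_insert]
      constructor
      · intro h
        by_cases hs : s = 1
        · exact Or.inl hs
        · right
          exact orderOf_eq_prime (by rw [sq]; exact h) hs
      · rintro (rfl | h)
        · simp
        · rw [← sq, ← h]; exact pow_orderOf_eq_one s
    rw [h1, Finset.card_insert_of_notMem]
    simp
  have hcommI : IsMulCommutative (G ⧸ frattini G) :=
    (Subgroup.Normal.quotient_commutative_iff_commutator_le).2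
      (Cfsg.Agent.Lib.Helper14.commutator_le_frattini_of_isPGroup' hG)
  have hcomm : ∀ a b : G ⧸ frattini G, a * b = b * a := fun a b => hcommI.is_comm.comm a b
  have hexp : ∀ g : G, (QuotientGroup.mk (g * g) : G ⧸ frattini G) = 1 := by
    intro g
    rw [QuotientGroup.eq_one_iff, ← sq]
    exact Cfsg.Agent.Lib.Helper14.pow_mem_frattini_of_isPGroup' hG g
  haveI : Finite ((G ⧸ frattini G) →* ℂˣ) := finite_monoidHom_units' hcomm
  haveI : Fintype ((G ⧸ frattini G) →* ℂˣ) := Fintype.ofFinite _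
  letI act := twistAct (QuotientGroup.mk' (frattini G))
  have hact : ∀ (lam : (G ⧸ frattini G) →* ℂˣ) (χ : IrrCharacter G) (g : G),
      ((lam • χ : IrrCharacter G) : G → ℂ) g =
        ((lam (QuotientGroup.mk g) : ℂˣ) : ℂ) * (χ : G → ℂ) g := fun _ _ _ => rfl
  -- card of the dual
  have hcardΛ : Nat.card ((G ⧸ frattini G) →* ℂˣ) = Nat.card (G ⧸ frattini G) := by
    have h := Cfsg.Agent.S0857.sum_monoidHom_apply' hcomm (1 : G ⧸ frattini G)
    rw [if_pos rfl] at h
    simp only [map_one, Units.val_one, Finset.sum_const, Finset.card_univ, nsmul_eq_mul,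
      mul_one] at h
    rw [Nat.card_eq_fintype_card]
    exact_mod_cast h
  -- degrees and indicators
  choose deg hdeg hdvd using (Cfsg.Agent.S0162.exists_degree (G := G))
  have hν : ∀ χ : IrrCharacter G, ∃ e : ℤ,
      (Nat.card G : ℂ)⁻¹ * ∑ s : G, (χ : G → ℂ) (s * s) = (e : ℂ) ∧
        (e = 0 ∨ e = 1 ∨ e = -1) ∧ (e ≠ 0 ↔ χ = irrConj χ) := by
    intro χ
    obtain ⟨ε, hε, h⟩ := Cfsg.Agent.S0158.indicator_eq χ
    rw [h]
    by_cases hr : χ = irrConj χ
    · rw [if_pos hr]
      rcases hε with rfl | rfl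
      · exact ⟨1, by simp, Or.inr (Or.inl rfl), iff_of_true one_ne_zero hr⟩
      · exact ⟨-1, by simp, Or.inr (Or.inr rfl), iff_of_true (by norm_num) hr⟩
    · rw [if_neg hr]
      exact ⟨0, by simp, Or.inl rfl, iff_of_false (by simp) hr⟩
  choose e he he' hereal using hν
  have hsum : (Nat.card {s : G // s * s = 1} : ℤ) =
      ∑ χ : IrrCharacter G, e χ * (deg χ : ℤ) := by
    have h := Cfsg.Agent.S0159.result (G := G)
    rw [finsum_eq_sum_of_fintype] at h
    have h2 : (∑ χ : IrrCharacter G,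
        ((Nat.card G : ℂ)⁻¹ * ∑ s : G, (χ : G → ℂ) (s * s)) * (χ : G → ℂ) 1) =
        ((∑ χ : IrrCharacter G, e χ * (deg χ : ℤ) : ℤ) : ℂ) := by
      push_cast
      refine Finset.sum_congr rfl fun χ _ => ?_
      rw [he χ, hdeg χ]
    rw [h2] at h
    exact_mod_cast h
  have heinv : ∀ (lam : (G ⧸ frattini G) →* ℂˣ) (χ : IrrCharacter G),
      e (lam • χ) = e χ := by
    intro lam χ
    have h1 : (e (lam • χ) : ℂ) = e χ := by
      rw [← he, ← he]
      congr 1
      refine Finset.sum_congr rfl fun s _ => ?_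
      rw [hact, hexp s, map_one, Units.val_one, one_mul]
    exact_mod_cast h1
  have hdeginv : ∀ (lam : (G ⧸ frattini G) →* ℂˣ) (χ : IrrCharacter G),
      deg (lam • χ) = deg χ := by
    intro lam χ
    have h2 : ((deg (lam • χ) : ℕ) : ℂ) = deg χ := by
      rw [← hdeg, ← hdeg, hact, QuotientGroup.mk_one, map_one, Units.val_one, one_mul]
    exact_mod_cast h2
  -- character values are bounded by the degree
  have hnorm : ∀ (χ : IrrCharacter G) (g : G), ‖(χ : G → ℂ) g‖ ≤ (deg χ : ℝ) := by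
    intro χ g
    obtain ⟨n, ρ, hρ, hρχ⟩ := χ.2
    have h1 := norm_character_le ρ g
    have h2 : ((deg χ : ℕ) : ℂ) = (Module.finrank ℂ (Fin n → ℂ) : ℂ) := by
      rw [← hdeg, ← hρχ]; exact Representation.char_one ρ
    have h3 : deg χ = Module.finrank ℂ (Fin n → ℂ) := by exact_mod_cast h2
    rw [← hρχ, h3]
    exact h1
  -- stabilizer bound
  have hstab : ∀ χ : IrrCharacter G,
      Nat.card (MulAction.stabilizer ((G ⧸ frattini G) →* ℂˣ) χ) ≤ (deg χ) ^ 2 := by
    intro χ
    haveI : Fintype (frattini G) := Fintype.ofFinite _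
    have h := Cfsg.Agent.S0857.sum_twist_inner (frattini G) hcomm (χ : G → ℂ)
    have hL : ∀ lam : (G ⧸ frattini G) →* ℂˣ,
        classInner (fun k => ((lam (QuotientGroup.mk k) : ℂˣ) : ℂ) * (χ : G → ℂ) k)
          (χ : G → ℂ) =
        if lam ∈ MulAction.stabilizer ((G ⧸ frattini G) →* ℂˣ) χ then 1 else 0 := by
      intro lam
      have h1 := classInner_irr (lam • χ).2 χ.2
      have h2 : (fun k => ((lam (QuotientGroup.mk k) : ℂˣ) : ℂ) * (χ : G → ℂ) k) =
          ((lam • χ : IrrCharacter G) : G → ℂ) := rfl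
      rw [h2, h1]
      simp only [MulAction.mem_stabilizer_iff, Subtype.ext_iff]
    rw [Finset.sum_congr rfl (fun lam _ => hL lam), Finset.sum_boole] at h
    have hcard : (Finset.univ.filter (fun lam =>
        lam ∈ MulAction.stabilizer ((G ⧸ frattini G) →* ℂˣ) χ)).card =
        Nat.card (MulAction.stabilizer ((G ⧸ frattini G) →* ℂˣ) χ) := by
      rw [Nat.card_eq_fintype_card, Fintype.card_subtype]
    rw [hcard] at h
    have hR : ‖classInner (fun n : frattini G => (χ : G → ℂ) n)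
        (fun n : frattini G => (χ : G → ℂ) n)‖ ≤ ((deg χ : ℝ)) ^ 2 := by
      unfold classInner
      rw [norm_mul, norm_inv, Complex.norm_natCast]
      have hb : ∀ n : frattini G,
          ‖(χ : G → ℂ) n * conj ((χ : G → ℂ) n)‖ ≤ (deg χ : ℝ) ^ 2 := by
        intro n
        rw [norm_mul, RCLike.norm_conj, ← sq]
        exact pow_le_pow_left₀ (norm_nonneg _) (hnorm χ n) 2
      have hpos : (0 : ℝ) < (Nat.card (frattini G) : ℝ) := by exact_mod_cast Nat.card_pos
      have h3 : ‖∑ n : frattini G, (χ : G → ℂ) n * conj ((χ : G → ℂ) n)‖ ≤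
          (Nat.card (frattini G) : ℝ) * (deg χ : ℝ) ^ 2 := by
        calc ‖∑ n : frattini G, (χ : G → ℂ) n * conj ((χ : G → ℂ) n)‖
            ≤ ∑ n : frattini G, ‖(χ : G → ℂ) n * conj ((χ : G → ℂ) n)‖ := norm_sum_le _ _
          _ ≤ ∑ _n : frattini G, (deg χ : ℝ) ^ 2 := Finset.sum_le_sum (fun n _ => hb n)
          _ = (Nat.card (frattini G) : ℝ) * (deg χ : ℝ) ^ 2 := by
              rw [Finset.sum_const, Finset.card_univ, nsmul_eq_mul, Nat.card_eq_fintype_card]
      calc (Nat.card (frattini G) : ℝ)⁻¹ *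
            ‖∑ n : frattini G, (χ : G → ℂ) n * conj ((χ : G → ℂ) n)‖
          ≤ (Nat.card (frattini G) : ℝ)⁻¹ * ((Nat.card (frattini G) : ℝ) * (deg χ : ℝ) ^ 2) :=
            mul_le_mul_of_nonneg_left h3 (inv_nonneg.2 hpos.le)
        _ = (deg χ : ℝ) ^ 2 := by field_simp
    rw [← h, Complex.norm_natCast] at hR
    exact_mod_cast hR
  -- the exceptional set X₀
  obtain ⟨X₀, hX₀⟩ : ∃ X₀ : IrrCharacter G → Prop, ∀ χ, X₀ χ ↔
      ((∀ lam : (G ⧸ frattini G) →* ℂˣ, lam • χ = χ) ∧ deg χ = 2) :=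
    ⟨_, fun _ => Iff.rfl⟩
  have hsmulcomm : ∀ (a b : (G ⧸ frattini G) →* ℂˣ) (χ : IrrCharacter G),
      a • b • χ = b • a • χ := by
    intro a b χ
    apply Subtype.ext
    funext g
    rw [hact, hact, hact, hact]
    ring
  have hX₀inv : ∀ (lam : (G ⧸ frattini G) →* ℂˣ) (χ : IrrCharacter G),
      X₀ (lam • χ) ↔ X₀ χ := by
    intro lam χ
    rw [hX₀, hX₀, hdeginv lam χ]
    constructor
    · rintro ⟨h1, h2⟩
      refine ⟨fun lam' => ?_, h2⟩
      have h3 := h1 lam'
      rw [hsmulcomm] at h3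
      exact MulAction.injective lam h3
    · rintro ⟨h1, h2⟩
      refine ⟨fun lam' => ?_, h2⟩
      rw [hsmulcomm, h1 lam']
  have hinv' : ∀ (lam : (G ⧸ frattini G) →* ℂˣ) (χ : IrrCharacter G),
      (if X₀ (lam • χ) then (0 : ℤ) else e (lam • χ) * (deg (lam • χ) : ℤ)) =
      (if X₀ χ then (0 : ℤ) else e χ * (deg χ : ℤ)) := by
    intro lam χ
    have h := hX₀inv lam χ
    by_cases hχ : X₀ χ
    · rw [if_pos hχ, if_pos (h.2 hχ)]
    · rw [if_neg hχ, if_neg (fun h' => hχ (h.1 h')), heinv lam χ, hdeginv lam χ]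
  have hdiv : ∀ χ : IrrCharacter G, (4 : ℤ) ∣
      (Nat.card (MulAction.orbit ((G ⧸ frattini G) →* ℂˣ) χ) : ℤ) *
        (if X₀ χ then (0 : ℤ) else e χ * (deg χ : ℤ)) := by
    intro χ
    by_cases hχ : X₀ χ
    · rw [if_pos hχ, mul_zero]; exact dvd_zero _
    rw [if_neg hχ]
    obtain ⟨a, ha, hdega⟩ := (Nat.dvd_prime_pow Nat.prime_two).1 (hm ▸ hdvd χ)
    have hos : Nat.card (MulAction.stabilizer ((G ⧸ frattini G) →* ℂˣ) χ) *
        Nat.card (MulAction.orbit ((G ⧸ frattini G) →* ℂˣ) χ) = 2 ^ d := by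
      rw [← hd, ← hcardΛ, Nat.card_coe_set_eq, ← MulAction.index_stabilizer]
      exact Subgroup.card_mul_index _
    obtain ⟨s, hs, hstabs⟩ := (Nat.dvd_prime_pow Nat.prime_two).1 (Dvd.intro _ hos)
    have horb : Nat.card (MulAction.orbit ((G ⧸ frattini G) →* ℂˣ) χ) = 2 ^ (d - s) := by
      rw [hstabs] at hos
      have h1 : (2 : ℕ) ^ d = 2 ^ s * 2 ^ (d - s) := by
        rw [← pow_add]; congr 1; omega
      rw [h1] at hos
      exact Nat.eq_of_mul_eq_mul_left (pow_pos (by norm_num) s) hos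
    have hs2a : s ≤ 2 * a := by
      have h1 := hstab χ
      rw [hstabs, hdega, ← pow_mul] at h1
      have h2 := (Nat.pow_le_pow_iff_right (by norm_num : 1 < 2)).1 h1
      omega
    have hsd : a = 1 → s < d := by
      intro ha1
      rcases Nat.lt_or_ge s d with h | h
      · exact h
      exfalso
      have hsd : s = d := le_antisymm hs h
      apply hχ
      rw [hX₀]
      refine ⟨fun lam => ?_, by rw [hdega, ha1, pow_one]⟩
      have htop : MulAction.stabilizer ((G ⧸ frattini G) →* ℂˣ) χ = ⊤ := by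
        apply (Subgroup.card_eq_iff_eq_top _).1
        rw [hstabs, hsd, hcardΛ, hd]
      have hmem : lam ∈ MulAction.stabilizer ((G ⧸ frattini G) →* ℂˣ) χ := by
        rw [htop]; trivial
      exact hmem
    have key : 4 ∣ Nat.card (MulAction.orbit ((G ⧸ frattini G) →* ℂˣ) χ) * deg χ := by
      rw [horb, hdega, ← pow_add]
      have h2 : 2 ≤ d - s + a := by
        rcases Nat.lt_or_ge a 2 with h | h
        · interval_cases a
          · omega
          · have := hsd rfl; omega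
        · omega
      calc (4 : ℕ) = 2 ^ 2 := by norm_num
        _ ∣ 2 ^ (d - s + a) := pow_dvd_pow 2 h2
    obtain ⟨c, hc⟩ := key
    refine ⟨(c : ℤ) * e χ, ?_⟩
    have h1 : ((Nat.card (MulAction.orbit ((G ⧸ frattini G) →* ℂˣ) χ) * deg χ : ℕ) : ℤ) =
        ((4 * c : ℕ) : ℤ) := by rw [hc]
    push_cast at h1 ⊢
    linear_combination (e χ) * h1
  have hfinal := dvd_sum_of_orbit (Λ := (G ⧸ frattini G) →* ℂˣ)
    (fun χ => if X₀ χ then (0 : ℤ) else e χ * (deg χ : ℤ)) hinv' 4 hdiv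
  have hsplit : ∑ χ : IrrCharacter G, e χ * (deg χ : ℤ) =
      ∑ χ : IrrCharacter G, (if X₀ χ then (0 : ℤ) else e χ * (deg χ : ℤ)) +
        2 * ∑ χ ∈ Finset.univ.filter X₀, e χ := by
    rw [Finset.mul_sum, Finset.sum_filter, ← Finset.sum_add_distrib]
    refine Finset.sum_congr rfl fun χ _ => ?_
    by_cases hχ : X₀ χ
    · rw [if_pos hχ, if_pos hχ, zero_add, ((hX₀ χ).1 hχ).2]; push_cast; ring
    · rw [if_neg hχ, if_neg hχ, add_zero]
  have hTodd : ¬ (2 : ℤ) ∣ ∑ χ ∈ Finset.univ.filter X₀, e χ := by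
    rintro ⟨k, hk⟩
    obtain ⟨c, hc⟩ := hfinal
    have h1 : (Nat.card {s : G // s * s = 1} : ℤ) = 4 * c + 2 * (2 * k) := by
      rw [hsum, hsplit, hc, hk]
    rw [hN] at h1
    push_cast at h1
    omega
  obtain ⟨χ₀, hχ₀⟩ : ∃ χ, X₀ χ := by
    by_contra hcon
    push Not at hcon
    apply hTodd
    rw [Finset.sum_eq_zero]
    · exact dvd_zero _
    · intro χ hχ
      exact absurd (Finset.mem_filter.1 hχ).2 (hcon χ)
  have hd_eq : d = 2 := by
    have h1 := hstab χ₀
    have htop : MulAction.stabilizer ((G ⧸ frattini G) →* ℂˣ) χ₀ = ⊤ := by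
      rw [eq_top_iff]; intro lam _; exact ((hX₀ χ₀).1 hχ₀).1 lam
    rw [htop, Subgroup.card_top, hcardΛ, hd, ((hX₀ χ₀).1 hχ₀).2] at h1
    have h2 := (Nat.pow_le_pow_iff_right (by norm_num : 1 < 2)).1 h1
    omega
  -- second part
  have hle : commutator G ≤ frattini G :=
    Cfsg.Agent.Lib.Helper14.commutator_le_frattini_of_isPGroup' hG
  by_cases heq : commutator G = frattini G
  · rw [heq, Subgroup.index_eq_card, hd, hd_eq]; norm_num
  exfalso
  obtain ⟨g₀, hg₀Φ, hg₀⟩ : ∃ g₀ ∈ frattini G, g₀ ∉ commutator G := by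
    by_contra hcon
    push Not at hcon
    exact heq (le_antisymm hle (fun x hx => hcon x hx))
  have hcommI' : IsMulCommutative (G ⧸ commutator G) :=
    (Subgroup.Normal.quotient_commutative_iff_commutator_le).2 le_rfl
  have hcomm' : ∀ a b : G ⧸ commutator G, a * b = b * a :=
    fun a b => hcommI'.is_comm.comm a b
  obtain ⟨lam₀, hlam₀⟩ := exists_hom_ne_one (commutator G) hcomm' hg₀
  obtain ⟨μ, hμ1, h₁, hh₁Φ, hμ2⟩ : ∃ μ : G →* ℂˣ, (∀ h ∈ frattini G, (μ h) ^ 2 = 1) ∧
      ∃ h₁ ∈ frattini G, μ h₁ ≠ 1 := by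
    let μ₀ : G →* ℂˣ := lam₀.comp (QuotientGroup.mk' (commutator G))
    have hμ₀ : μ₀ g₀ ≠ 1 := hlam₀
    have hP : ∃ j : ℕ, ∀ h ∈ frattini G, (μ₀ h) ^ (2 ^ j) = 1 := by
      refine ⟨m, fun h _ => ?_⟩
      rw [← map_pow, ← hm, pow_card_eq_one', map_one]
    have hj0 : Nat.find hP ≠ 0 := by
      intro h0
      have h1 := Nat.find_spec hP
      rw [h0] at h1
      exact hμ₀ (by simpa using h1 g₀ hg₀Φ)
    obtain ⟨j', hj'⟩ := Nat.exists_eq_succ_of_ne_zero hj0
    have hmin : ¬ ∀ h ∈ frattini G, (μ₀ h) ^ (2 ^ j') = 1 := Nat.find_min hP (by omega)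
    push Not at hmin
    obtain ⟨h₁, hh₁Φ, hh₁⟩ := hmin
    refine ⟨μ₀ ^ (2 ^ j'), fun h hh => ?_, h₁, hh₁Φ, ?_⟩
    · rw [MonoidHom.pow_apply, ← pow_mul, ← pow_succ, ← Nat.succ_eq_add_one, ← hj']
      exact Nat.find_spec hP h hh
    · rw [MonoidHom.pow_apply]; exact hh₁
  let τ : IrrCharacter G → IrrCharacter G := fun χ =>
    ⟨fun g => ((μ g : ℂˣ) : ℂ) * (χ : G → ℂ) g, Cfsg.Agent.S0857.isIrr_twist μ _ χ.2⟩
  have hτ : ∀ (χ : IrrCharacter G) (g : G),
      ((τ χ : IrrCharacter G) : G → ℂ) g = ((μ g : ℂˣ) : ℂ) * (χ : G → ℂ) g :=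
    fun _ _ => rfl
  have hvan : ∀ χ, X₀ χ ↔
      ((∀ g, g ∉ frattini G → (χ : G → ℂ) g = 0) ∧ deg χ = 2) := by
    intro χ
    rw [hX₀]
    constructor
    · rintro ⟨h1, h2⟩
      refine ⟨fun g hg => ?_, h2⟩
      obtain ⟨lam, hlam⟩ := exists_hom_ne_one (frattini G) hcomm hg
      have h3 := congrArg (fun ψ : IrrCharacter G => (ψ : G → ℂ) g) (h1 lam)
      simp only [hact] at h3
      have h4 : (((lam (QuotientGroup.mk g) : ℂˣ) : ℂ) - 1) * (χ : G → ℂ) g = 0 := by
        rw [sub_mul, one_mul, h3, sub_self]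
      rcases mul_eq_zero.1 h4 with h5 | h5
      · exfalso; apply hlam
        apply Units.ext
        rw [Units.val_one]
        exact sub_eq_zero.1 h5
      · exact h5
    · rintro ⟨h1, h2⟩
      refine ⟨fun lam => ?_, h2⟩
      apply Subtype.ext
      funext g
      rw [hact]
      by_cases hg : g ∈ frattini G
      · rw [(QuotientGroup.eq_one_iff g).2 hg, map_one, Units.val_one, one_mul]
      · rw [h1 g hg, mul_zero]
  have hdegτ : ∀ χ, deg (τ χ) = deg χ := by
    intro χ
    have h2 : ((deg (τ χ) : ℕ) : ℂ) = deg χ := by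
      rw [← hdeg, ← hdeg, hτ, map_one, Units.val_one, one_mul]
    exact_mod_cast h2
  have hτX : ∀ χ, X₀ χ → X₀ (τ χ) := by
    intro χ hχ
    rw [hvan] at hχ ⊢
    refine ⟨fun g hg => ?_, by rw [hdegτ]; exact hχ.2⟩
    rw [hτ, hχ.1 g hg, mul_zero]
  have hμsq : ∀ g ∈ frattini G, ((μ g : ℂˣ) : ℂ) * ((μ g : ℂˣ) : ℂ) = 1 := by
    intro g hg
    have h1 := hμ1 g hg
    rw [sq] at h1
    rw [← Units.val_mul, h1, Units.val_one]
  have hττ : ∀ χ, X₀ χ → τ (τ χ) = χ := by
    intro χ hχ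
    rw [hvan] at hχ
    apply Subtype.ext
    funext g
    rw [hτ, hτ]
    by_cases hg : g ∈ frattini G
    · rw [← mul_assoc, hμsq g hg, one_mul]
    · rw [hχ.1 g hg, mul_zero, mul_zero]
  have hτne : ∀ χ, X₀ χ → τ χ ≠ χ := by
    intro χ hχ hfix
    rw [hvan] at hχ
    obtain ⟨hχ0, hχ2⟩ := hχ
    have hKvan : ∀ g, g ∉ (frattini G ⊓ μ.ker : Subgroup G) → (χ : G → ℂ) g = 0 := by
      intro g hg
      by_cases hgΦ : g ∈ frattini G
      · have hgk : g ∉ μ.ker := fun h => hg ⟨hgΦ, h⟩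
        have h3 := congrArg (fun ψ : IrrCharacter G => (ψ : G → ℂ) g) hfix
        simp only [hτ] at h3
        have h4 : (((μ g : ℂˣ) : ℂ) - 1) * (χ : G → ℂ) g = 0 := by
          rw [sub_mul, one_mul, h3, sub_self]
        rcases mul_eq_zero.1 h4 with h5 | h5
        · exfalso; apply hgk
          rw [MonoidHom.mem_ker]
          apply Units.ext
          rw [Units.val_one]
          exact sub_eq_zero.1 h5
        · exact h5
      · exact hχ0 g hgΦ
    have hKlt : Nat.card (frattini G ⊓ μ.ker : Subgroup G) * 2 ≤ Nat.card (frattini G) := by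
      have hKle : (frattini G ⊓ μ.ker : Subgroup G) ≤ frattini G := inf_le_left
      obtain ⟨c, hc⟩ := Subgroup.card_dvd_of_le hKle
      have hc0 : c ≠ 0 := by
        rintro rfl
        rw [mul_zero] at hc
        exact Nat.card_pos.ne' hc
      have hc1 : c ≠ 1 := by
        rintro rfl
        rw [mul_one] at hc
        have h2 : (frattini G ⊓ μ.ker : Subgroup G) = frattini G :=
          Subgroup.eq_of_le_of_card_ge hKle hc.le
        have h1 : h₁ ∈ (frattini G ⊓ μ.ker : Subgroup G) := by rw [h2]; exact hh₁Φ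
        exact hμ2 (MonoidHom.mem_ker.1 h1.2)
      rw [hc]
      have h2 : 2 ≤ c := by omega
      exact Nat.mul_le_mul_left _ h2
    have hΦ : Nat.card (frattini G) * 4 = Nat.card G := by
      have h1 := Subgroup.card_mul_index (frattini G)
      rw [Subgroup.index_eq_card, hd, hd_eq] at h1
      rw [← h1]; norm_num
    have h1 := classInner_irr χ.2 χ.2
    rw [if_pos rfl] at h1
    unfold classInner at h1
    have hG0 : (Nat.card G : ℂ) ≠ 0 := by exact_mod_cast Nat.card_pos.ne'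
    have h2 : ∑ g : G, (χ : G → ℂ) g * conj ((χ : G → ℂ) g) = (Nat.card G : ℂ) := by
      rw [inv_mul_eq_iff_eq_mul₀ hG0] at h1
      rw [h1, mul_one]
    have hcard : (Finset.univ.filter (fun g : G =>
        g ∈ (frattini G ⊓ μ.ker : Subgroup G))).card =
        Nat.card (frattini G ⊓ μ.ker : Subgroup G) := by
      rw [Nat.card_eq_fintype_card, Fintype.card_subtype]
    have hsum_le : ‖∑ g : G, (χ : G → ℂ) g * conj ((χ : G → ℂ) g)‖ ≤
        (Nat.card (frattini G ⊓ μ.ker : Subgroup G) : ℝ) * 4 := by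
      calc ‖∑ g : G, (χ : G → ℂ) g * conj ((χ : G → ℂ) g)‖
          ≤ ∑ g : G, ‖(χ : G → ℂ) g * conj ((χ : G → ℂ) g)‖ := norm_sum_le _ _
        _ ≤ ∑ g : G, (if g ∈ (frattini G ⊓ μ.ker : Subgroup G) then (1 : ℝ) else 0) * 4 := by
            apply Finset.sum_le_sum
            intro g _
            by_cases hg : g ∈ (frattini G ⊓ μ.ker : Subgroup G)
            · rw [if_pos hg, norm_mul, RCLike.norm_conj]
              have h3 := hnorm χ g
              rw [hχ2] at h3
              have h0 := norm_nonneg ((χ : G → ℂ) g)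
              push_cast at h3
              nlinarith
            · rw [if_neg hg, hKvan g hg, zero_mul, norm_zero, zero_mul]
        _ = (Nat.card (frattini G ⊓ μ.ker : Subgroup G) : ℝ) * 4 := by
            rw [← Finset.sum_mul, Finset.sum_boole, hcard]
    rw [h2, Complex.norm_natCast] at hsum_le
    have h3 : Nat.card G ≤ Nat.card (frattini G ⊓ μ.ker : Subgroup G) * 4 := by
      exact_mod_cast hsum_le
    have h4 : 0 < Nat.card G := Nat.card_pos
    omega
  have hreal : ∀ χ, X₀ χ → (e (τ χ) ≠ 0 ↔ e χ ≠ 0) := by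
    intro χ hχ
    rw [hereal, hereal]
    rw [hvan] at hχ
    have hpt : ∀ g, (((τ χ : IrrCharacter G) : G → ℂ) g =
        conj (((τ χ : IrrCharacter G) : G → ℂ) g)) ↔
        ((χ : G → ℂ) g = conj ((χ : G → ℂ) g)) := by
      intro g
      rw [hτ]
      by_cases hg : g ∈ frattini G
      · have hc : conj ((μ g : ℂˣ) : ℂ) = ((μ g : ℂˣ) : ℂ) := by
          rcases mul_self_eq_one_iff.1 (hμsq g hg) with h | h
          · rw [h, map_one]
          · rw [h, map_neg, map_one]
        rw [map_mul, hc]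
        have hne : ((μ g : ℂˣ) : ℂ) ≠ 0 := Units.ne_zero _
        constructor
        · intro h; exact mul_left_cancel₀ hne h
        · intro h; rw [← h]
      · rw [hχ.1 g hg, mul_zero, map_zero]
    constructor
    · intro h
      apply Subtype.ext; funext g
      have h1 := congrArg (fun ψ : IrrCharacter G => (ψ : G → ℂ) g) h
      exact (hpt g).1 h1
    · intro h
      apply Subtype.ext; funext g
      have h1 := congrArg (fun ψ : IrrCharacter G => (ψ : G → ℂ) g) h
      exact (hpt g).2 h1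
  have hinvol : ∑ χ ∈ Finset.univ.filter X₀, ((e χ : ℤ) : ZMod 2) = 0 := by
    refine Finset.sum_involution (fun χ _ => τ χ) ?_ ?_ ?_ ?_
    · intro χ hχ
      have hχ' := (Finset.mem_filter.1 hχ).2
      exact zmod2_aux _ _ (he' χ) (he' (τ χ)) (hreal χ hχ')
    · intro χ hχ _
      exact hτne χ (Finset.mem_filter.1 hχ).2
    · intro χ hχ
      exact Finset.mem_filter.2 ⟨Finset.mem_univ _, hτX χ (Finset.mem_filter.1 hχ).2⟩
    · intro χ hχ
      exact hττ χ (Finset.mem_filter.1 hχ).2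
  apply hTodd
  rw [← Int.cast_sum] at hinvol
  exact_mod_cast (ZMod.intCast_zmod_eq_zero_iff_dvd _ 2).1 hinvol

end Cfsg.Agent.S4477
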