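import Mathlib
import Cfsg.Statements.S5029
import Cfsg.Agent.Lib.Helper23.RootComm

set_option autoImplicit false

namespace Cfsg.Agent.S5029

open Cfsg Cfsg.Agent.Lib.Helper5 Cfsg.Agent.Lib.Helper23
open scoped commutatorElement

/-- Let S be a set of abstract root subgroups of G, A ∈ S having a rank one partner in S, and B ∈ S with C = ⁅A, B⁆ ∈ S. Then the members of S contained in AC are the conjugates of A by elements of B together with C, they partition AC, the members of S inside AC partition AC so that A is a line partner of C, and for every non-identity a ∈ A the map b ↦ a⁻¹ b⁻¹ a b is an isomorphism from B onto C. -/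
theorem result {G : Type*} [Group G] {S : Set (Subgroup G)} (hS : Cfsg.IsRootSubgroupSet S)
    {A B : Subgroup G} (hA : ¬ Cfsg.IsIsolatedIn (Cfsg.FAdj S) S A) (hAS : A ∈ S) (hB : B ∈ S) (hC : ⁅A, B⁆ ∈ S) :
    Cfsg.membersIn S (A ⊔ ⁅A, B⁆) = (fun b : G => Cfsg.conjBy A b) '' (B : Set G) ∪ {⁅A, B⁆} ∧
    Cfsg.IsSubgroupPartition (A ⊔ ⁅A, B⁆) (Cfsg.membersIn S (A ⊔ ⁅A, B⁆)) ∧
    A ∈ Cfsg.linePartners S ⁅A, B⁆ ∧
    ∀ a ∈ A, a ≠ 1 → ∃ φ : ↥B ≃* ↥⁅A, B⁆, ∀ b : ↥B, (φ b : G) = a⁻¹ * (b : G)⁻¹ * a * b := by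
  obtain ⟨D, hD, hAD⟩ := exists_rankOnePartner hA hAS
  have h := commutatorCase_of_mem hS hAS hB hC
  have hACcomm : ∀ a₁ ∈ A, ∀ c₁ ∈ ⁅A, B⁆, a₁ * c₁ = c₁ * a₁ := fun a₁ ha₁ c₁ hc₁ =>
    (h.2.1 c₁ hc₁ a₁ (Subgroup.mem_sup_left ha₁)).symm
  -- every element outside C lies in a conjugate
  have hcover : ∀ x ∈ A ⊔ ⁅A, B⁆, x ∉ ⁅A, B⁆ → ∃ b ∈ B, x ∈ Cfsg.conjBy A b := by
    intro x hx hxC
    obtain ⟨a, ha, c, hc, rfl⟩ := mem_sup_of_commute hACcomm hx
    have ha1 : a ≠ 1 := by
      rintro rfl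
      apply hxC
      simpa using hc
    exact exists_mem_conjBy_of_commCase h ha ha1 hc
  have hconjS : ∀ b : G, Cfsg.conjBy A b ∈ S := fun b => hS.conj_mem A hAS b
  have hdisj : ∀ b : G, ∀ E ∈ S, Cfsg.conjBy A b ⊓ E = ⊥ ∨ Cfsg.conjBy A b = E := fun b E hE =>
    inf_eq_bot_or_eq_of_rankOne hS (hS.conj_mem D hD b) (isRankOnePair_conjBy hAD b) E hE
  have hmem : Cfsg.membersIn S (A ⊔ ⁅A, B⁆) =
      (fun b : G => Cfsg.conjBy A b) '' (B : Set G) ∪ {⁅A, B⁆} := by
    ext E
    constructor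
    · rintro ⟨hE, hEle⟩
      by_cases hx : ∃ x ∈ E, x ∉ ⁅A, B⁆
      · obtain ⟨x, hxE, hxC⟩ := hx
        obtain ⟨b, hb, hxb⟩ := hcover x (hEle hxE) hxC
        left
        refine ⟨b, hb, ?_⟩
        rcases hdisj b E hE with k | k
        · exfalso
          have : x ∈ Cfsg.conjBy A b ⊓ E := ⟨hxb, hxE⟩
          rw [k, Subgroup.mem_bot] at this
          apply hxC
          rw [this]
          exact Subgroup.one_mem _
        · exact k
      · push Not at hx
        right
        rw [Set.mem_singleton_iff]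
        exact eq_of_le_commutator hS hAS hB hD hAD h hE hx
    · rintro (⟨b, hb, rfl⟩ | hE)
      · exact ⟨hconjS b, conjBy_le_sup_commutator hb⟩
      · rw [Set.mem_singleton_iff] at hE
        rw [hE]
        exact ⟨hC, le_sup_right⟩
  have hpart : Cfsg.IsSubgroupPartition (A ⊔ ⁅A, B⁆) (Cfsg.membersIn S (A ⊔ ⁅A, B⁆)) := by
    refine ⟨fun E hE => hE.2, ?_, ?_⟩
    · intro x hx _
      by_cases hxC : x ∈ ⁅A, B⁆
      · exact ⟨_, ⟨hC, le_sup_right⟩, hxC⟩
      · obtain ⟨b, hb, hxb⟩ := hcover x hx hxC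
        exact ⟨_, ⟨hconjS b, conjBy_le_sup_commutator hb⟩, hxb⟩
    · intro E hE E' hE' hne
      have hES := hE.1
      have hE'S := hE'.1
      rw [hmem] at hE hE'
      rcases hE with ⟨b, _, rfl⟩ | hE
      · rcases hdisj b E' hE'S with k | k
        · exact k
        · exact absurd k hne
      · rcases hE' with ⟨b, _, rfl⟩ | hE'
        · rcases hdisj b E hES with k | k
          · rw [inf_comm]; exact k
          · exact absurd k.symm hne
        · rw [Set.mem_singleton_iff] at hE hE'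
          exact absurd (hE.trans hE'.symm) hne
  refine ⟨hmem, hpart, ?_, ?_⟩
  · refine ⟨⟨hAS, ?_, ?_⟩, ?_⟩
    · intro hAC
      have := inf_commutator_eq_bot hS hD hAD h
      rw [← hAC, inf_idem] at this
      exact hS.ne_bot A hAS this
    · rw [eq_bot_iff, Subgroup.commutator_le]
      intro c hc a ha
      rw [Subgroup.mem_bot, commutatorElement_eq_one_iff_mul_comm]
      exact (hACcomm a ha c hc).symm
    · rw [sup_comm]
      exact hpart
  · intro a ha ha1
    let f : ↥B →* ↥⁅A, B⁆ :=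
      { toFun := fun b => ⟨a⁻¹ * (b : G)⁻¹ * a * b, by
          have := Subgroup.commutator_mem_commutator (A.inv_mem ha) (B.inv_mem b.2)
          simpa [commutatorElement_def] using this⟩
        map_one' := by
          apply Subtype.ext
          simp
        map_mul' := by
          intro b b'
          apply Subtype.ext
          simp only [Subgroup.coe_mul]
          exact commMap_mul h ha b.2 b'.2 }
    have hinj : Function.Injective f := by
      rw [injective_iff_map_eq_one]
      intro b hb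
      have hb' : a⁻¹ * (b : G)⁻¹ * a * b = 1 := congrArg Subtype.val hb
      have hcomm : a * (b : G) = b * a := by
        have := congrArg (fun t => (b : G) * a * t) hb'
        simpa [mul_assoc] using this
      have := eq_one_of_commute_commCase hS hAS hD hAD h ha ha1 b.2 hcomm
      exact Subtype.ext this
    have hsurj : Function.Surjective f := by
      rintro ⟨c, hc⟩
      obtain ⟨b, hb, e⟩ := commMap_surj h ha ha1 hc
      exact ⟨⟨b, hb⟩, Subtype.ext e⟩
    refine ⟨MulEquiv.ofBijective f ⟨hinj, hsurj⟩, ?_⟩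
    intro b
    rfl

end Cfsg.Agent.S5029
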