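import Mathlib
import Cfsg.Statements.S5030
import Cfsg.Agent.Lib.Helper23.RootDiag

set_option autoImplicit false
set_option linter.unusedSectionVars false
set_option linter.unusedVariables false
open Cfsg Cfsg.Agent.Lib.Helper5 Cfsg.Agent.Lib.Helper23 Cfsg.Agent.Lib.Helper23.RootDiag
open Cfsg.Agent.Lib.Helper23.UcsGens
open scoped commutatorElement

namespace Cfsg.Agent.S5030

variable {G : Type*} [Group G]

theorem comm_of_mem_sup {H K : Subgroup G} {x : G} (hH : ∀ y ∈ H, x * y = y * x)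
    (hK : ∀ y ∈ K, x * y = y * x) : ∀ y ∈ H ⊔ K, x * y = y * x := by
  have h1 : H ⊔ K ≤ Subgroup.centralizer ({x} : Set G) := by
    apply sup_le
    · intro y hy
      rw [Subgroup.mem_centralizer_iff]
      intro m hm
      rw [Set.mem_singleton_iff.mp hm]; exact hH y hy
    · intro y hy
      rw [Subgroup.mem_centralizer_iff]
      intro m hm
      rw [Set.mem_singleton_iff.mp hm]; exact hK y hy
  intro y hy
  exact (Subgroup.mem_centralizer_iff.mp (h1 hy)) x rfl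

theorem comm_one {x y : G} (h : x * y = y * x) : x * y * x⁻¹ * y⁻¹ = 1 := by
  rw [h]; group

theorem comm_of_comm_one {x y : G} (h : x * y * x⁻¹ * y⁻¹ = 1) : x * y = y * x := by
  calc x * y = (x * y * x⁻¹ * y⁻¹) * y * x := by group
    _ = y * x := by rw [h, one_mul]

theorem mem_conjBy_inv (A : Subgroup G) (g : G) {a : G} (ha : a ∈ A) :
    g⁻¹ * a * g ∈ Cfsg.conjBy A g⁻¹ := by
  rw [mem_conjBy_iff]
  have : g⁻¹⁻¹ * (g⁻¹ * a * g) * g⁻¹ = a := by group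
  rw [this]; exact ha

theorem isMulCommutative_of_comm {H : Subgroup G} (h : ∀ x ∈ H, ∀ y ∈ H, x * y = y * x) :
    IsMulCommutative ↥H := ⟨⟨fun x y => Subtype.ext (h x.1 x.2 y.1 y.2)⟩⟩

theorem comm_of_isMulCommutative {H : Subgroup G} (h : IsMulCommutative ↥H) :
    ∀ x ∈ H, ∀ y ∈ H, x * y = y * x := by
  intro x hx y hy
  exact congrArg Subtype.val (h.is_comm.comm ⟨x, hx⟩ ⟨y, hy⟩)

theorem commutator_eq_bot_of_comm {H K : Subgroup G} (h : ∀ x ∈ H, ∀ y ∈ K, x * y = y * x) :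
    ⁅H, K⁆ = ⊥ := by
  rw [eq_bot_iff, Subgroup.commutator_le]
  intro x hx y hy
  rw [Subgroup.mem_bot, commutatorElement_def]
  exact comm_one (h x hx y hy)


theorem sup_comm_of {H K : Subgroup G} (hH : ∀ x ∈ H, ∀ y ∈ H, x * y = y * x)
    (hK : ∀ x ∈ K, ∀ y ∈ K, x * y = y * x) (hHK : ∀ x ∈ H, ∀ y ∈ K, x * y = y * x) :
    ∀ x ∈ H ⊔ K, ∀ y ∈ H ⊔ K, x * y = y * x := by
  have h1 : ∀ x ∈ H, ∀ y ∈ H ⊔ K, x * y = y * x := fun x hx =>
    comm_of_mem_sup (hH x hx) (hHK x hx)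
  have h2 : ∀ x ∈ K, ∀ y ∈ H ⊔ K, x * y = y * x := fun x hx =>
    comm_of_mem_sup (fun y hy => (hHK y hy x hx).symm) (hK x hx)
  intro x hx y hy
  exact (comm_of_mem_sup (fun h hh => (h1 h hh y hy).symm) (fun k hk => (h2 k hk y hy).symm)
    x hx).symm

/-- an element commuting with all commutators of generators commutes with the commutator subgroup -/
theorem comm_commutator_of_gens {H K : Subgroup G} {x : G}
    (h : ∀ p ∈ H, ∀ q ∈ K, x * (p * q * p⁻¹ * q⁻¹) = (p * q * p⁻¹ * q⁻¹) * x) :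
    ∀ y ∈ ⁅H, K⁆, x * y = y * x := by
  have h1 : ⁅H, K⁆ ≤ Subgroup.centralizer ({x} : Set G) := by
    rw [Subgroup.commutator_le]
    intro p hp q hq
    rw [Subgroup.mem_centralizer_iff]
    intro m hm
    rw [Set.mem_singleton_iff.mp hm, commutatorElement_def]
    exact h p hp q hq
  intro y hy
  exact (Subgroup.mem_centralizer_iff.mp (h1 hy)) x rfl

theorem conj_eq_of_comm {x y : G} (h : x * y = y * x) : x * y * x⁻¹ = y := by
  rw [h]; group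

theorem mem_normalizer_of_conjBy_le {N : Subgroup G} {B : Subgroup G}
    (h : ∀ b ∈ B, Cfsg.conjBy N b ≤ N) : B ≤ Subgroup.normalizer (N : Set G) := by
  intro b hb
  rw [Subgroup.mem_normalizer_iff]
  intro x
  constructor
  · intro hx
    apply h b hb
    rw [mem_conjBy_iff]
    have : b⁻¹ * (b * x * b⁻¹) * b = x := by group
    rw [this]; exact hx
  · intro hx
    have := h b⁻¹ (B.inv_mem hb)
    have h2 : x ∈ Cfsg.conjBy N b⁻¹ := by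
      rw [mem_conjBy_iff]
      have : b⁻¹⁻¹ * x * b⁻¹ = b * x * b⁻¹ := by group
      rw [this]; exact hx
    exact this h2


theorem commutator_le_of_le {H K L : Subgroup G} (hH : H ≤ L) (hK : K ≤ L) : ⁅H, K⁆ ≤ L := by
  rw [Subgroup.commutator_le]
  intro h hh k hk
  rw [commutatorElement_def]
  exact L.mul_mem (L.mul_mem (L.mul_mem (hH hh) (hK hk)) (L.inv_mem (hH hh))) (L.inv_mem (hK hk))

theorem conj_comm_identity {y p k τ κ : G} (hτdef : τ = p * k * p⁻¹ * k⁻¹)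
    (hκdef : κ = y * p * y⁻¹ * p⁻¹) (hyk : y * k = k * y) (hτκ : τ * κ = κ * τ) :
    y * τ * y⁻¹ = τ * (κ * k * κ⁻¹ * k⁻¹) := by
  have e1 : y * τ * y⁻¹ = (y * p * y⁻¹) * (y * k * y⁻¹) * (y * p * y⁻¹)⁻¹ * (y * k * y⁻¹)⁻¹ := by
    rw [hτdef]; group
  rw [e1, conj_eq_of_comm hyk]
  have e2 : y * p * y⁻¹ = κ * p := by rw [hκdef]; group
  rw [e2]
  calc κ * p * k * (κ * p)⁻¹ * k⁻¹ = κ * (p * k * p⁻¹ * k⁻¹) * k * κ⁻¹ * k⁻¹ := by group
    _ = (κ * τ) * k * κ⁻¹ * k⁻¹ := by rw [← hτdef]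
    _ = (τ * κ) * k * κ⁻¹ * k⁻¹ := by rw [hτκ]
    _ = τ * (κ * k * κ⁻¹ * k⁻¹) := by group

theorem comm_mul_central {p q τ : G} (hp : τ * p = p * τ) (hq : τ * q = q * τ) :
    p * (τ * q) * p⁻¹ * (τ * q)⁻¹ = p * q * p⁻¹ * q⁻¹ := by
  have c1 : Commute τ p := hp
  have c2 : Commute τ q := hq
  have c3 : Commute τ (p * q * p⁻¹ * q⁻¹) :=
    ((c1.mul_right c2).mul_right c1.inv_right).mul_right c2.inv_right
  calc p * (τ * q) * p⁻¹ * (τ * q)⁻¹ = (p * τ) * q * p⁻¹ * q⁻¹ * τ⁻¹ := by group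
    _ = (τ * p) * q * p⁻¹ * q⁻¹ * τ⁻¹ := by rw [hp]
    _ = τ * (p * q * p⁻¹ * q⁻¹) * τ⁻¹ := by group
    _ = p * q * p⁻¹ * q⁻¹ := conj_eq_of_comm c3.eq

theorem comm_mul_central' {p q τ : G} (hp : τ * p = p * τ) (hq : τ * q = q * τ) :
    (τ * p) * q * (τ * p)⁻¹ * q⁻¹ = p * q * p⁻¹ * q⁻¹ := by
  have c1 : Commute τ p := hp
  have c2 : Commute τ q := hq
  have c3 : Commute τ (p * q * p⁻¹ * q⁻¹) :=
    ((c1.mul_right c2).mul_right c1.inv_right).mul_right c2.inv_right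
  calc (τ * p) * q * (τ * p)⁻¹ * q⁻¹ = τ * (p * q * p⁻¹) * (τ⁻¹ * q⁻¹) := by group
    _ = τ * (p * q * p⁻¹) * (q⁻¹ * τ⁻¹) := by rw [c2.inv_inv.eq]
    _ = τ * (p * q * p⁻¹ * q⁻¹) * τ⁻¹ := by group
    _ = p * q * p⁻¹ * q⁻¹ := conj_eq_of_comm c3.eq

section main

variable {S : Set (Subgroup G)} (hS : Cfsg.IsRootSubgroupSet S)
  {A B C : Subgroup G} (hA : A ∈ S) (hB : B ∈ S) (hC : C ∈ S) (hAB : ⁅A, B⁆ ∈ S) (hBC : ⁅B, C⁆ ∈ S)
  (hAC : C ∈ Cfsg.commutingPartners S A)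

include hS hA hB hC hAB hBC hAC

theorem hK1 : Cfsg.RootCommutatorCase S A B := commutatorCase_of_mem hS hA hB hAB
theorem hK2 : Cfsg.RootCommutatorCase S B C := commutatorCase_of_mem hS hB hC hBC

theorem cAC : ∀ a ∈ A, ∀ c ∈ C, a * c = c * a := fun a ha c hc =>
  comm_of_commutator_eq_bot hAC.2.2 ha hc

theorem cK1A : ∀ k ∈ ⁅A, B⁆, ∀ a ∈ A, k * a = a * k := fun k hk a ha =>
  (hK1 hS hA hB hC hAB hBC hAC).2.1 k hk a (Subgroup.mem_sup_left ha)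
theorem cK1B : ∀ k ∈ ⁅A, B⁆, ∀ b ∈ B, k * b = b * k := fun k hk b hb =>
  (hK1 hS hA hB hC hAB hBC hAC).2.1 k hk b (Subgroup.mem_sup_right hb)
theorem cK2B : ∀ k ∈ ⁅B, C⁆, ∀ b ∈ B, k * b = b * k := fun k hk b hb =>
  (hK2 hS hA hB hC hAB hBC hAC).2.1 k hk b (Subgroup.mem_sup_left hb)
theorem cK2C : ∀ k ∈ ⁅B, C⁆, ∀ c ∈ C, k * c = c * k := fun k hk c hc =>
  (hK2 hS hA hB hC hAB hBC hAC).2.1 k hk c (Subgroup.mem_sup_right hc)

theorem Ab_le {b : G} (hb : b ∈ B) : Cfsg.conjBy A b ≤ A ⊔ ⁅A, B⁆ := conjBy_le_sup_commutator hb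

theorem Cb_le {b : G} (hb : b ∈ B) : Cfsg.conjBy C b ≤ C ⊔ ⁅B, C⁆ := by
  have := conjBy_le_sup_commutator (A := C) (B := B) hb
  rwa [Subgroup.commutator_comm C B] at this

/-- `A` commutes with `A^b`. -/
theorem cA_Ab {b : G} (hb : b ∈ B) : ∀ a ∈ A, ∀ y ∈ Cfsg.conjBy A b, a * y = y * a := by
  intro a ha y hy
  apply comm_of_mem_sup _ _ y (Ab_le hS hA hB hC hAB hBC hAC hb hy)
  · exact fun y hy => comm_of_mem hS hA a ha y hy
  · exact fun y hy => (cK1A hS hA hB hC hAB hBC hAC y hy a ha).symm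

theorem cC_Cb {b : G} (hb : b ∈ B) : ∀ c ∈ C, ∀ y ∈ Cfsg.conjBy C b, c * y = y * c := by
  intro c hc y hy
  apply comm_of_mem_sup _ _ y (Cb_le hS hA hB hC hAB hBC hAC hb hy)
  · exact fun y hy => comm_of_mem hS hC c hc y hy
  · exact fun y hy => (cK2C hS hA hB hC hAB hBC hAC y hy c hc).symm

theorem cAb_Cb (g : G) : ∀ x ∈ Cfsg.conjBy A g, ∀ y ∈ Cfsg.conjBy C g, x * y = y * x := by
  intro x hx y hy
  rw [mem_conjBy_iff] at hx hy
  have := cAC hS hA hB hC hAB hBC hAC _ hx _ hy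
  calc x * y = g * ((g⁻¹ * x * g) * (g⁻¹ * y * g)) * g⁻¹ := by group
    _ = g * ((g⁻¹ * y * g) * (g⁻¹ * x * g)) * g⁻¹ := by rw [this]
    _ = y * x := by group

/-- `X = A ⊔ C^b` and `Y = A^b ⊔ C` commute elementwise. -/
theorem cXY {b : G} (hb : b ∈ B) : ∀ x ∈ A ⊔ Cfsg.conjBy C b, ∀ y ∈ Cfsg.conjBy A b ⊔ C,
    x * y = y * x := by
  have hA' : ∀ a ∈ A, ∀ y ∈ Cfsg.conjBy A b ⊔ C, a * y = y * a := fun a ha =>
    comm_of_mem_sup (cA_Ab hS hA hB hC hAB hBC hAC hb a ha) (cAC hS hA hB hC hAB hBC hAC a ha)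
  have hCb' : ∀ x ∈ Cfsg.conjBy C b, ∀ y ∈ Cfsg.conjBy A b ⊔ C, x * y = y * x := fun x hx =>
    comm_of_mem_sup (fun y hy => (cAb_Cb hS hA hB hC hAB hBC hAC b y hy x hx).symm)
      (fun c hc => (cC_Cb hS hA hB hC hAB hBC hAC hb c hc x hx).symm)
  intro x hx y hy
  exact (comm_of_mem_sup (fun a ha => (hA' a ha y hy).symm) (fun x hx => (hCb' x hx y hy).symm)
    x hx).symm

theorem K1_ne_A : ⁅A, B⁆ ≠ A := by
  intro h
  apply hS.ne_bot _ hAB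
  apply commutator_eq_bot_of_comm
  intro a ha b hb
  have ha' : a ∈ ⁅A, B⁆ := by rw [h]; exact ha
  exact cK1B hS hA hB hC hAB hBC hAC a ha' b hb

theorem K2_ne_C : ⁅B, C⁆ ≠ C := by
  intro h
  apply hS.ne_bot _ hBC
  apply commutator_eq_bot_of_comm
  intro b hb c hc
  have hc' : c ∈ ⁅B, C⁆ := by rw [h]; exact hc
  exact (cK2B hS hA hB hC hAB hBC hAC c hc' b hb).symm

theorem not_rankOne_A_Cb {b : G} (hb : b ∈ B) : ¬ Cfsg.IsRankOnePair A (Cfsg.conjBy C b) := by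
  intro h
  obtain ⟨a', ha', ha'1⟩ := exists_ne_one_of_ne_bot (hS.ne_bot A hA)
  have hu : b * a'⁻¹ * b⁻¹ ∈ Cfsg.conjBy A b := by
    rw [mem_conjBy_iff]
    have : b⁻¹ * (b * a'⁻¹ * b⁻¹) * b = a'⁻¹ := by group
    rw [this]; exact A.inv_mem ha'
  apply no_diag hS hA (hS.conj_mem C hC b) hAB h (K1_ne_A hS hA hB hC hAB hBC hAC)
    (cK1A hS hA hB hC hAB hBC hAC) ha' ha'1 (u := b * a'⁻¹ * b⁻¹)
  · intro y hy
    exact (cA_Ab hS hA hB hC hAB hBC hAC hb y hy _ hu).symm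
  · intro y hy
    exact cAb_Cb hS hA hB hC hAB hBC hAC b _ hu y hy
  · have := Subgroup.commutator_mem_commutator ha' hb
    rw [commutatorElement_def] at this
    have e : a' * (b * a'⁻¹ * b⁻¹) = a' * b * a'⁻¹ * b⁻¹ := by group
    rw [e]; exact this

theorem not_rankOne_Ab_C {b : G} (hb : b ∈ B) : ¬ Cfsg.IsRankOnePair (Cfsg.conjBy A b) C := by
  intro h
  obtain ⟨c', hc', hc'1⟩ := exists_ne_one_of_ne_bot (hS.ne_bot C hC)
  have hu : b * c'⁻¹ * b⁻¹ ∈ Cfsg.conjBy C b := by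
    rw [mem_conjBy_iff]
    have : b⁻¹ * (b * c'⁻¹ * b⁻¹) * b = c'⁻¹ := by group
    rw [this]; exact C.inv_mem hc'
  apply no_diag hS hC (hS.conj_mem A hA b) hBC (Cfsg.RankOnePair_symm h)
    (K2_ne_C hS hA hB hC hAB hBC hAC) (cK2C hS hA hB hC hAB hBC hAC) hc' hc'1
    (u := b * c'⁻¹ * b⁻¹)
  · intro y hy
    exact (cC_Cb hS hA hB hC hAB hBC hAC hb y hy _ hu).symm
  · intro y hy
    exact (cAb_Cb hS hA hB hC hAB hBC hAC b y hy _ hu).symm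
  · have := Subgroup.commutator_mem_commutator hc' hb
    rw [commutatorElement_def, Subgroup.commutator_comm C B] at this
    have e : c' * (b * c'⁻¹ * b⁻¹) = c' * b * c'⁻¹ * b⁻¹ := by group
    rw [e]; exact this

theorem central_TX {b : G} (hb : b ∈ B) : ∀ t ∈ ⁅A, Cfsg.conjBy C b⁆,
    ∀ x ∈ A ⊔ Cfsg.conjBy C b, t * x = x * t := by
  rcases hS.pair A hA _ (hS.conj_mem C hC b) with h | h | h
  · intro t ht x _
    rw [h, Subgroup.mem_bot] at ht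
    rw [ht, one_mul, mul_one]
  · exact absurd h (not_rankOne_A_Cb hS hA hB hC hAB hBC hAC hb)
  · exact h.2.1

theorem central_TY {b : G} (hb : b ∈ B) : ∀ t ∈ ⁅Cfsg.conjBy A b, C⁆,
    ∀ x ∈ Cfsg.conjBy A b ⊔ C, t * x = x * t := by
  rcases hS.pair _ (hS.conj_mem A hA b) C hC with h | h | h
  · intro t ht x _
    rw [h, Subgroup.mem_bot] at ht
    rw [ht, one_mul, mul_one]
  · exact absurd h (not_rankOne_Ab_C hS hA hB hC hAB hBC hAC hb)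
  · exact h.2.1

theorem K1_le {b : G} (hb : b ∈ B) (hb1 : b ≠ 1) : ⁅A, B⁆ ≤ A ⊔ Cfsg.conjBy A b := by
  rw [← (hK1 hS hA hB hC hAB hBC hAC).2.2.2 b hb hb1, Subgroup.closure_le]
  rintro _ ⟨a, ha, rfl⟩
  show a * b * a⁻¹ * b⁻¹ ∈ A ⊔ Cfsg.conjBy A b
  have e : a * b * a⁻¹ * b⁻¹ = a * (b * a⁻¹ * b⁻¹) := by group
  rw [e]
  apply Subgroup.mul_mem _ (Subgroup.mem_sup_left ha)
  apply Subgroup.mem_sup_right
  rw [mem_conjBy_iff]
  have : b⁻¹ * (b * a⁻¹ * b⁻¹) * b = a⁻¹ := by group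
  rw [this]; exact A.inv_mem ha

theorem K2_le {b : G} (hb : b ∈ B) (hb1 : b ≠ 1) : ⁅B, C⁆ ≤ C ⊔ Cfsg.conjBy C b := by
  rw [← (hK2 hS hA hB hC hAB hBC hAC).2.2.1 b hb hb1, Subgroup.closure_le]
  rintro _ ⟨c, hc, rfl⟩
  show b * c * b⁻¹ * c⁻¹ ∈ C ⊔ Cfsg.conjBy C b
  apply Subgroup.mul_mem _ _ (Subgroup.mem_sup_left (C.inv_mem hc))
  apply Subgroup.mem_sup_right
  rw [mem_conjBy_iff]
  have : b⁻¹ * (b * c * b⁻¹) * b = c := by group
  rw [this]; exact hc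

theorem bot_imp {b : G} (hb : b ∈ B) (hb1 : b ≠ 1) (h : ⁅A, Cfsg.conjBy C b⁆ = ⊥) :
    ⁅Cfsg.conjBy A b, C⁆ = ⊥ := by
  have h1 : ∀ a ∈ A, ∀ k ∈ ⁅B, C⁆, a * k = k * a := by
    intro a ha k hk
    exact comm_of_mem_sup (cAC hS hA hB hC hAB hBC hAC a ha)
      (fun y hy => comm_of_commutator_eq_bot h ha hy) k (K2_le hS hA hB hC hAB hBC hAC hb hb1 hk)
  have e1 : ⁅⁅B, C⁆, A⁆ = ⊥ := commutator_eq_bot_of_comm (fun k hk a ha => (h1 a ha k hk).symm)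
  have e2 : ⁅⁅C, A⁆, B⁆ = ⊥ := by
    rw [Subgroup.commutator_comm C A, hAC.2.2]
    exact Subgroup.commutator_bot_left B
  have e3 := Subgroup.commutator_commutator_eq_bot_of_rotate e1 e2
  apply commutator_eq_bot_of_comm
  intro x hx c hc
  have h2 : ∀ y ∈ A ⊔ ⁅A, B⁆, c * y = y * c := by
    apply comm_of_mem_sup
    · intro a ha; exact (cAC hS hA hB hC hAB hBC hAC a ha c hc).symm
    · intro k hk; exact (comm_of_commutator_eq_bot e3 hk hc).symm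
  exact (h2 x (Ab_le hS hA hB hC hAB hBC hAC hb hx)).symm

theorem bot_imp' {b : G} (hb : b ∈ B) (hb1 : b ≠ 1) (h : ⁅Cfsg.conjBy A b, C⁆ = ⊥) :
    ⁅A, Cfsg.conjBy C b⁆ = ⊥ := by
  have h1 : ∀ c ∈ C, ∀ k ∈ ⁅A, B⁆, c * k = k * c := by
    intro c hc k hk
    exact comm_of_mem_sup (fun a ha => (cAC hS hA hB hC hAB hBC hAC a ha c hc).symm)
      (fun y hy => (comm_of_commutator_eq_bot h hy hc).symm) k
      (K1_le hS hA hB hC hAB hBC hAC hb hb1 hk)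
  have e1 : ⁅⁅A, B⁆, C⁆ = ⊥ := commutator_eq_bot_of_comm (fun k hk c hc => (h1 c hc k hk).symm)
  have e2 : ⁅⁅C, A⁆, B⁆ = ⊥ := by
    rw [Subgroup.commutator_comm C A, hAC.2.2]
    exact Subgroup.commutator_bot_left B
  have e3 : ⁅⁅B, C⁆, A⁆ = ⊥ := Subgroup.commutator_commutator_eq_bot_of_rotate e2 e1
  apply commutator_eq_bot_of_comm
  intro a ha x hx
  have h2 : ∀ y ∈ C ⊔ ⁅B, C⁆, a * y = y * a := by
    apply comm_of_mem_sup
    · intro c hc; exact cAC hS hA hB hC hAB hBC hAC a ha c hc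
    · intro k hk; exact (comm_of_commutator_eq_bot e3 hk ha).symm
  exact h2 x (Cb_le hS hA hB hC hAB hBC hAC hb hx)


theorem part1 {b : G} (hb : b ∈ B) (hb1 : b ≠ 1) :
    ((IsMulCommutative ↥(A ⊔ Cfsg.conjBy C b) ∧ IsMulCommutative ↥(Cfsg.conjBy A b ⊔ C)) ∨
      ((¬ IsMulCommutative ↥(A ⊔ Cfsg.conjBy C b) ∧
          ⁅⁅A ⊔ Cfsg.conjBy C b, A ⊔ Cfsg.conjBy C b⁆, A ⊔ Cfsg.conjBy C b⁆ = ⊥) ∧
        (¬ IsMulCommutative ↥(Cfsg.conjBy A b ⊔ C) ∧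
          ⁅⁅Cfsg.conjBy A b ⊔ C, Cfsg.conjBy A b ⊔ C⁆, Cfsg.conjBy A b ⊔ C⁆ = ⊥))) := by
  have hAc := comm_of_mem hS hA
  have hCc := comm_of_mem hS hC
  have hAbc := comm_of_mem hS (hS.conj_mem A hA b)
  have hCbc := comm_of_mem hS (hS.conj_mem C hC b)
  by_cases h : ⁅A, Cfsg.conjBy C b⁆ = ⊥
  · left
    have h' := bot_imp hS hA hB hC hAB hBC hAC hb hb1 h
    exact ⟨isMulCommutative_of_comm (sup_comm_of hAc hCbc
        (fun x hx y hy => comm_of_commutator_eq_bot h hx hy)),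
      isMulCommutative_of_comm (sup_comm_of hAbc hCc
        (fun x hx y hy => comm_of_commutator_eq_bot h' hx hy))⟩
  · right
    have h' : ⁅Cfsg.conjBy A b, C⁆ ≠ ⊥ := fun h' =>
      h (bot_imp' hS hA hB hC hAB hBC hAC hb hb1 h')
    refine ⟨⟨?_, ?_⟩, ⟨?_, ?_⟩⟩
    · intro hc
      apply h
      apply commutator_eq_bot_of_comm
      intro x hx y hy
      exact comm_of_isMulCommutative hc x (Subgroup.mem_sup_left hx) y (Subgroup.mem_sup_right hy)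
    · apply commutator_eq_bot_of_comm
      intro t ht x hx
      have hle : ⁅A ⊔ Cfsg.conjBy C b, A ⊔ Cfsg.conjBy C b⁆ ≤ ⁅A, Cfsg.conjBy C b⁆ := by
        rw [Subgroup.commutator_le]
        intro p hp q hq
        rw [commutatorElement_def]
        exact comm_mem_of_central hAc hCbc le_rfl (central_TX hS hA hB hC hAB hBC hAC hb) p hp q hq
      exact central_TX hS hA hB hC hAB hBC hAC hb t (hle ht) x hx
    · intro hc
      apply h'
      apply commutator_eq_bot_of_comm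
      intro x hx y hy
      exact comm_of_isMulCommutative hc x (Subgroup.mem_sup_left hx) y (Subgroup.mem_sup_right hy)
    · apply commutator_eq_bot_of_comm
      intro t ht x hx
      have hle : ⁅Cfsg.conjBy A b ⊔ C, Cfsg.conjBy A b ⊔ C⁆ ≤ ⁅Cfsg.conjBy A b, C⁆ := by
        rw [Subgroup.commutator_le]
        intro p hp q hq
        rw [commutatorElement_def]
        exact comm_mem_of_central hAbc hCc le_rfl (central_TY hS hA hB hC hAB hBC hAC hb) p hp q hq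
      exact central_TY hS hA hB hC hAB hBC hAC hb t (hle ht) x hx

theorem part2 {b : G} (hb : b ∈ B) :
    ⁅A ⊔ Cfsg.conjBy C b, Cfsg.conjBy A b ⊔ C⁆ = ⊥ :=
  commutator_eq_bot_of_comm (cXY hS hA hB hC hAB hBC hAC hb)

/-- `N = X ⊔ Y` equals `A ⊔ C ⊔ K₁ ⊔ K₂`. -/
theorem N_eq {b : G} (hb : b ∈ B) (hb1 : b ≠ 1) :
    (A ⊔ Cfsg.conjBy C b) ⊔ (Cfsg.conjBy A b ⊔ C) = A ⊔ C ⊔ ⁅A, B⁆ ⊔ ⁅B, C⁆ := by
  apply le_antisymm
  · refine sup_le (sup_le ?_ ?_) (sup_le ?_ ?_)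
    · exact le_sup_of_le_left (le_sup_of_le_left le_sup_left)
    · refine le_trans (Cb_le hS hA hB hC hAB hBC hAC hb) (sup_le ?_ ?_)
      · exact le_sup_of_le_left (le_sup_of_le_left le_sup_right)
      · exact le_sup_right
    · refine le_trans (Ab_le hS hA hB hC hAB hBC hAC hb) (sup_le ?_ ?_)
      · exact le_sup_of_le_left (le_sup_of_le_left le_sup_left)
      · exact le_sup_of_le_left le_sup_right
    · exact le_sup_of_le_left (le_sup_of_le_left le_sup_right)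
  · refine sup_le (sup_le (sup_le ?_ ?_) ?_) ?_
    · exact le_sup_of_le_left le_sup_left
    · exact le_sup_of_le_right le_sup_right
    · refine le_trans (K1_le hS hA hB hC hAB hBC hAC hb hb1) (sup_le ?_ ?_)
      · exact le_sup_of_le_left le_sup_left
      · exact le_sup_of_le_right le_sup_left
    · refine le_trans (K2_le hS hA hB hC hAB hBC hAC hb hb1) (sup_le ?_ ?_)
      · exact le_sup_of_le_right le_sup_right
      · exact le_sup_of_le_left le_sup_right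

theorem B_le_normalizer :
    B ≤ Subgroup.normalizer ((A ⊔ C ⊔ ⁅A, B⁆ ⊔ ⁅B, C⁆ : Subgroup G) : Set G) := by
  apply mem_normalizer_of_conjBy_le
  intro b' hb'
  show Subgroup.map _ _ ≤ _
  rw [Subgroup.map_sup, Subgroup.map_sup, Subgroup.map_sup]
  refine sup_le (sup_le (sup_le ?_ ?_) ?_) ?_
  · refine le_trans (Ab_le hS hA hB hC hAB hBC hAC hb') (sup_le ?_ ?_)
    · exact le_sup_of_le_left (le_sup_of_le_left le_sup_left)
    · exact le_sup_of_le_left le_sup_right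
  · refine le_trans (Cb_le hS hA hB hC hAB hBC hAC hb') (sup_le ?_ ?_)
    · exact le_sup_of_le_left (le_sup_of_le_left le_sup_right)
    · exact le_sup_right
  · have := conjBy_commutator_of_mem_right (H := A) (K := B) hb'
    show Cfsg.conjBy ⁅A, B⁆ b' ≤ _
    rw [this]
    exact le_sup_of_le_left le_sup_right
  · have := conjBy_commutator_of_mem_left (H := B) (K := C) hb'
    show Cfsg.conjBy ⁅B, C⁆ b' ≤ _
    rw [this]
    exact le_sup_right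

theorem part3 {b : G} (hb : b ∈ B) (hb1 : b ≠ 1) :
    ∀ r ∈ A ⊔ B ⊔ C, Cfsg.conjBy ((A ⊔ Cfsg.conjBy C b) ⊔ (Cfsg.conjBy A b ⊔ C)) r =
      (A ⊔ Cfsg.conjBy C b) ⊔ (Cfsg.conjBy A b ⊔ C) := by
  intro r hr
  rw [N_eq hS hA hB hC hAB hBC hAC hb hb1, conjBy_eq_self_iff]
  have hle : A ⊔ B ⊔ C ≤ Subgroup.normalizer ((A ⊔ C ⊔ ⁅A, B⁆ ⊔ ⁅B, C⁆ : Subgroup G) : Set G) := by
    refine sup_le (sup_le ?_ ?_) ?_
    · exact le_trans (le_sup_of_le_left (le_sup_of_le_left le_sup_left)) Subgroup.le_normalizer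
    · exact B_le_normalizer hS hA hB hC hAB hBC hAC
    · exact le_trans (le_sup_of_le_left (le_sup_of_le_left le_sup_right)) Subgroup.le_normalizer
  exact hle hr

theorem K1_le_R : ⁅A, B⁆ ≤ A ⊔ B ⊔ C := by
  refine le_trans ?_ (le_sup_left)
  rw [Subgroup.commutator_le]
  intro a ha b hb
  rw [commutatorElement_def]
  have ha' : a ∈ A ⊔ B := Subgroup.mem_sup_left ha
  have hb' : b ∈ A ⊔ B := Subgroup.mem_sup_right hb
  exact Subgroup.mul_mem _ (Subgroup.mul_mem _ (Subgroup.mul_mem _ ha' hb') (Subgroup.inv_mem _ ha'))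
    (Subgroup.inv_mem _ hb')

theorem K2_le_R : ⁅B, C⁆ ≤ A ⊔ B ⊔ C := by
  rw [Subgroup.commutator_le]
  intro b hb c hc
  rw [commutatorElement_def]
  have hb' : b ∈ A ⊔ B ⊔ C := Subgroup.mem_sup_left (Subgroup.mem_sup_right hb)
  have hc' : c ∈ A ⊔ B ⊔ C := Subgroup.mem_sup_right hc
  exact Subgroup.mul_mem _ (Subgroup.mul_mem _ (Subgroup.mul_mem _ hb' hc') (Subgroup.inv_mem _ hb'))
    (Subgroup.inv_mem _ hc')

theorem part4 {b : G} (hb : b ∈ B) (hb1 : b ≠ 1) :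
    ((A ⊔ Cfsg.conjBy C b) ⊔ (Cfsg.conjBy A b ⊔ C)) ⊔ B = A ⊔ B ⊔ C := by
  rw [N_eq hS hA hB hC hAB hBC hAC hb hb1]
  apply le_antisymm
  · refine sup_le (sup_le (sup_le (sup_le ?_ ?_) ?_) ?_) ?_
    · exact le_sup_of_le_left le_sup_left
    · exact le_sup_right
    · exact K1_le_R hS hA hB hC hAB hBC hAC
    · exact K2_le_R hS hA hB hC hAB hBC hAC
    · exact le_sup_of_le_left le_sup_right
  · refine sup_le (sup_le ?_ ?_) ?_
    · exact le_sup_of_le_left (le_sup_of_le_left (le_sup_of_le_left le_sup_left))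
    · exact le_sup_right
    · exact le_sup_of_le_left (le_sup_of_le_left (le_sup_of_le_left le_sup_right))


theorem part5 {b : G} (hb : b ∈ B) (hb1 : b ≠ 1) : Group.IsNilpotent ↥(A ⊔ B ⊔ C) := by
  have hAc := comm_of_mem hS hA
  have hBc := comm_of_mem hS hB
  have hCc := comm_of_mem hS hC
  have cAC := cAC hS hA hB hC hAB hBC hAC
  have cK1A := cK1A hS hA hB hC hAB hBC hAC
  have cK1B := cK1B hS hA hB hC hAB hBC hAC
  have cK2B := cK2B hS hA hB hC hAB hBC hAC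
  have cK2C := cK2C hS hA hB hC hAB hBC hAC
  have K1R := K1_le_R hS hA hB hC hAB hBC hAC
  have K2R := K2_le_R hS hA hB hC hAB hBC hAC
  have hNeq := N_eq hS hA hB hC hAB hBC hAC hb hb1
  obtain ⟨N, hNdef⟩ : ∃ N, N = A ⊔ C ⊔ ⁅A, B⁆ ⊔ ⁅B, C⁆ := ⟨_, rfl⟩
  have hAN : A ≤ N := by rw [hNdef]; exact le_sup_of_le_left (le_sup_of_le_left le_sup_left)
  have hCN : C ≤ N := by rw [hNdef]; exact le_sup_of_le_left (le_sup_of_le_left le_sup_right)
  have hK1N : ⁅A, B⁆ ≤ N := by rw [hNdef]; exact le_sup_of_le_left le_sup_right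
  have hK2N : ⁅B, C⁆ ≤ N := by rw [hNdef]; exact le_sup_right
  have hXN : A ⊔ Cfsg.conjBy C b ≤ N := by rw [hNdef, ← hNeq]; exact le_sup_left
  have hYN : Cfsg.conjBy A b ⊔ C ≤ N := by rw [hNdef, ← hNeq]; exact le_sup_right
  have hTXX : ⁅A, Cfsg.conjBy C b⁆ ≤ A ⊔ Cfsg.conjBy C b :=
    commutator_le_of_le le_sup_left le_sup_right
  have hTYY : ⁅Cfsg.conjBy A b, C⁆ ≤ Cfsg.conjBy A b ⊔ C :=
    commutator_le_of_le le_sup_left le_sup_right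
  have cTXN : ∀ t ∈ ⁅A, Cfsg.conjBy C b⁆, ∀ x ∈ N, t * x = x * t := by
    intro t ht x hx
    rw [hNdef, ← hNeq] at hx
    exact comm_of_mem_sup (central_TX hS hA hB hC hAB hBC hAC hb t ht)
      (cXY hS hA hB hC hAB hBC hAC hb t (hTXX ht)) x hx
  have cTYN : ∀ t ∈ ⁅Cfsg.conjBy A b, C⁆, ∀ x ∈ N, t * x = x * t := by
    intro t ht x hx
    rw [hNdef, ← hNeq] at hx
    exact comm_of_mem_sup (fun y hy => (cXY hS hA hB hC hAB hBC hAC hb y hy t (hTYY ht)).symm)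
      (central_TY hS hA hB hC hAB hBC hAC hb t ht) x hx
  have hT : ∀ a ∈ A, ∀ k ∈ ⁅B, C⁆, a * k * a⁻¹ * k⁻¹ ∈ ⁅A, Cfsg.conjBy C b⁆ := by
    intro a ha k hk
    have hk' := K2_le hS hA hB hC hAB hBC hAC hb hb1 hk
    rw [Subgroup.sup_eq_closure] at hk'
    apply comm_mem_closure _ _ k hk'
    · rintro y (hy | hy)
      · rw [comm_one (cAC a ha y hy)]; exact Subgroup.one_mem _
      · have := Subgroup.commutator_mem_commutator ha hy
        rwa [commutatorElement_def] at this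
    · intro y hy l hl
      rw [← Subgroup.sup_eq_closure] at hy
      have hyN : y ∈ N := (sup_le hCN (le_trans le_sup_right hXN)) hy
      rw [conj_eq_of_comm (cTXN l hl y hyN).symm]; exact hl
  have hT' : ∀ c ∈ C, ∀ k ∈ ⁅A, B⁆, c * k * c⁻¹ * k⁻¹ ∈ ⁅Cfsg.conjBy A b, C⁆ := by
    intro c hc k hk
    have hk' := K1_le hS hA hB hC hAB hBC hAC hb hb1 hk
    rw [Subgroup.sup_eq_closure] at hk'
    apply comm_mem_closure _ _ k hk'
    · rintro y (hy | hy)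
      · rw [comm_one (cAC y hy c hc).symm]; exact Subgroup.one_mem _
      · have := Subgroup.commutator_mem_commutator hy hc
        rw [commutatorElement_def] at this
        have e : c * y * c⁻¹ * y⁻¹ = (y * c * y⁻¹ * c⁻¹)⁻¹ := by group
        rw [e]; exact Subgroup.inv_mem _ this
    · intro y hy l hl
      rw [← Subgroup.sup_eq_closure] at hy
      have hyN : y ∈ N := (sup_le hAN (le_trans le_sup_left hYN)) hy
      rw [conj_eq_of_comm (cTYN l hl y hyN).symm]; exact hl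
  -- `W = ⁅K₁, K₂⁆` is central
  have cWA : ∀ w ∈ ⁅⁅A, B⁆, ⁅B, C⁆⁆, ∀ a ∈ A, a * w = w * a := by
    intro w hw a ha
    apply comm_commutator_of_gens _ w hw
    intro p hp q hq
    have hτ := hT a ha q hq
    have hτp := cTXN _ hτ p (hK1N hp)
    have hτq := cTXN _ hτ q (hK2N hq)
    have hap : a * p = p * a := (cK1A p hp a ha).symm
    have e1 : a * (p * q * p⁻¹ * q⁻¹) * a⁻¹ =
        (a * p * a⁻¹) * (a * q * a⁻¹) * (a * p * a⁻¹)⁻¹ * (a * q * a⁻¹)⁻¹ := by group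
    have e2 : a * q * a⁻¹ = (a * q * a⁻¹ * q⁻¹) * q := by group
    have e3 : a * (p * q * p⁻¹ * q⁻¹) * a⁻¹ = p * q * p⁻¹ * q⁻¹ := by
      rw [e1, conj_eq_of_comm hap, e2]; exact comm_mul_central hτp hτq
    exact mul_inv_eq_iff_eq_mul.mp e3
  have cWC : ∀ w ∈ ⁅⁅A, B⁆, ⁅B, C⁆⁆, ∀ c ∈ C, c * w = w * c := by
    intro w hw c hc
    apply comm_commutator_of_gens _ w hw
    intro p hp q hq
    have hτ := hT' c hc p hp
    have hτp := cTYN _ hτ p (hK1N hp)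
    have hτq := cTYN _ hτ q (hK2N hq)
    have hcq : c * q = q * c := (cK2C q hq c hc).symm
    have e1 : c * (p * q * p⁻¹ * q⁻¹) * c⁻¹ =
        (c * p * c⁻¹) * (c * q * c⁻¹) * (c * p * c⁻¹)⁻¹ * (c * q * c⁻¹)⁻¹ := by group
    have e2 : c * p * c⁻¹ = (c * p * c⁻¹ * p⁻¹) * p := by group
    have e3 : c * (p * q * p⁻¹ * q⁻¹) * c⁻¹ = p * q * p⁻¹ * q⁻¹ := by
      rw [e1, conj_eq_of_comm hcq, e2]; exact comm_mul_central' hτp hτq
    exact mul_inv_eq_iff_eq_mul.mp e3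
  have cWB : ∀ w ∈ ⁅⁅A, B⁆, ⁅B, C⁆⁆, ∀ b' ∈ B, b' * w = w * b' := by
    intro w hw b' hb'
    apply comm_commutator_of_gens _ w hw
    intro p hp q hq
    have c1 : Commute b' p := (cK1B p hp b' hb').symm
    have c2 : Commute b' q := (cK2B q hq b' hb').symm
    exact (((c1.mul_right c2).mul_right c1.inv_right).mul_right c2.inv_right).eq
  have hR : A ⊔ B ⊔ C = Subgroup.closure ((A : Set G) ∪ B ∪ C) := by
    rw [Subgroup.closure_union, Subgroup.closure_union, Subgroup.closure_eq, Subgroup.closure_eq,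
      Subgroup.closure_eq]
  have hAR : A ≤ A ⊔ B ⊔ C := le_sup_of_le_left le_sup_left
  have hBR : B ≤ A ⊔ B ⊔ C := le_sup_of_le_left le_sup_right
  have hCR : C ≤ A ⊔ B ⊔ C := le_sup_right
  have hcommR : ∀ {x y : G}, x ∈ A ⊔ B ⊔ C → y ∈ A ⊔ B ⊔ C → x * y * x⁻¹ * y⁻¹ ∈ A ⊔ B ⊔ C := by
    intro x y hx hy
    exact Subgroup.mul_mem _ (Subgroup.mul_mem _ (Subgroup.mul_mem _ hx hy) (Subgroup.inv_mem _ hx))
      (Subgroup.inv_mem _ hy)
  have hW1 : ∀ w ∈ ⁅⁅A, B⁆, ⁅B, C⁆⁆, w ∈ Zg (A ⊔ B ⊔ C) 1 := by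
    intro w hw
    have hwR : w ∈ A ⊔ B ⊔ C := (commutator_le_of_le K1R K2R) hw
    apply mem_Zg_succ_of_gens hR 0 hwR
    rintro y ((hy | hy) | hy)
    · rw [comm_one (cWA w hw y hy).symm]; exact one_mem_Zg _ _
    · rw [comm_one (cWB w hw y hy).symm]; exact one_mem_Zg _ _
    · rw [comm_one (cWC w hw y hy).symm]; exact one_mem_Zg _ _
  have hτ2 : ∀ a ∈ A, ∀ k ∈ ⁅B, C⁆, a * k * a⁻¹ * k⁻¹ ∈ Zg (A ⊔ B ⊔ C) 2 := by
    intro a ha k hk
    have hτ := hT a ha k hk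
    have hτR : a * k * a⁻¹ * k⁻¹ ∈ A ⊔ B ⊔ C := hcommR (hAR ha) (K2R hk)
    apply mem_Zg_succ_of_gens hR 1 hτR
    rintro y ((hy | hy) | hy)
    · rw [comm_one (cTXN _ hτ y (hAN hy))]; exact one_mem_Zg _ _
    · obtain ⟨τ, hτdef⟩ : ∃ τ, τ = a * k * a⁻¹ * k⁻¹ := ⟨_, rfl⟩
      obtain ⟨κ, hκdef⟩ : ∃ κ, κ = y * a * y⁻¹ * a⁻¹ := ⟨_, rfl⟩
      rw [← hτdef] at hτ hτR ⊢
      have hκK : κ ∈ ⁅A, B⁆ := by
        rw [hκdef, Subgroup.commutator_comm A B]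
        have := Subgroup.commutator_mem_commutator hy ha
        rwa [commutatorElement_def] at this
      have hyk : y * k = k * y := (cK2B k hk y hy).symm
      have hτκ : τ * κ = κ * τ := cTXN τ hτ κ (hK1N hκK)
      have key := conj_comm_identity hτdef hκdef hyk hτκ
      have hw : κ * k * κ⁻¹ * k⁻¹ ∈ ⁅⁅A, B⁆, ⁅B, C⁆⁆ := by
        have := Subgroup.commutator_mem_commutator hκK hk
        rwa [commutatorElement_def] at this
      have e : τ * y * τ⁻¹ * y⁻¹ = τ * (κ * k * κ⁻¹ * k⁻¹)⁻¹ * τ⁻¹ := by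
        have : τ * y * τ⁻¹ * y⁻¹ = τ * (y * τ * y⁻¹)⁻¹ := by group
        rw [this, key]; group
      rw [e]
      exact Zg_conj _ 1 (Subgroup.inv_mem _ (hW1 _ hw)) hτR
    · rw [comm_one (cTXN _ hτ y (hCN hy))]; exact one_mem_Zg _ _
  have hτ2' : ∀ c ∈ C, ∀ k ∈ ⁅A, B⁆, c * k * c⁻¹ * k⁻¹ ∈ Zg (A ⊔ B ⊔ C) 2 := by
    intro c hc k hk
    have hτ := hT' c hc k hk
    have hτR : c * k * c⁻¹ * k⁻¹ ∈ A ⊔ B ⊔ C := hcommR (hCR hc) (K1R hk)
    apply mem_Zg_succ_of_gens hR 1 hτR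
    rintro y ((hy | hy) | hy)
    · rw [comm_one (cTYN _ hτ y (hAN hy))]; exact one_mem_Zg _ _
    · obtain ⟨τ, hτdef⟩ : ∃ τ, τ = c * k * c⁻¹ * k⁻¹ := ⟨_, rfl⟩
      obtain ⟨κ, hκdef⟩ : ∃ κ, κ = y * c * y⁻¹ * c⁻¹ := ⟨_, rfl⟩
      rw [← hτdef] at hτ hτR ⊢
      have hκK : κ ∈ ⁅B, C⁆ := by
        rw [hκdef]
        have := Subgroup.commutator_mem_commutator hy hc
        rwa [commutatorElement_def] at this
      have hyk : y * k = k * y := (cK1B k hk y hy).symm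
      have hτκ : τ * κ = κ * τ := cTYN τ hτ κ (hK2N hκK)
      have key := conj_comm_identity hτdef hκdef hyk hτκ
      have hw : κ * k * κ⁻¹ * k⁻¹ ∈ ⁅⁅A, B⁆, ⁅B, C⁆⁆ := by
        rw [Subgroup.commutator_comm ⁅A, B⁆ ⁅B, C⁆]
        have := Subgroup.commutator_mem_commutator hκK hk
        rwa [commutatorElement_def] at this
      have e : τ * y * τ⁻¹ * y⁻¹ = τ * (κ * k * κ⁻¹ * k⁻¹)⁻¹ * τ⁻¹ := by
        have : τ * y * τ⁻¹ * y⁻¹ = τ * (y * τ * y⁻¹)⁻¹ := by group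
        rw [this, key]; group
      rw [e]
      exact Zg_conj _ 1 (Subgroup.inv_mem _ (hW1 _ hw)) hτR
    · rw [comm_one (cTYN _ hτ y (hCN hy))]; exact one_mem_Zg _ _
  have hK1_3 : ∀ k ∈ ⁅A, B⁆, k ∈ Zg (A ⊔ B ⊔ C) 3 := by
    intro k hk
    apply mem_Zg_succ_of_gens hR 2 (K1R hk)
    rintro y ((hy | hy) | hy)
    · rw [comm_one (cK1A k hk y hy)]; exact one_mem_Zg _ _
    · rw [comm_one (cK1B k hk y hy)]; exact one_mem_Zg _ _
    · have e : k * y * k⁻¹ * y⁻¹ = (y * k * y⁻¹ * k⁻¹)⁻¹ := by group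
      rw [e]; exact Subgroup.inv_mem _ (hτ2' y hy k hk)
  have hK2_3 : ∀ k ∈ ⁅B, C⁆, k ∈ Zg (A ⊔ B ⊔ C) 3 := by
    intro k hk
    apply mem_Zg_succ_of_gens hR 2 (K2R hk)
    rintro y ((hy | hy) | hy)
    · have e : k * y * k⁻¹ * y⁻¹ = (y * k * y⁻¹ * k⁻¹)⁻¹ := by group
      rw [e]; exact Subgroup.inv_mem _ (hτ2 y hy k hk)
    · rw [comm_one (cK2B k hk y hy)]; exact one_mem_Zg _ _
    · rw [comm_one (cK2C k hk y hy)]; exact one_mem_Zg _ _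
  have hA4 : A ≤ Zg (A ⊔ B ⊔ C) 4 := by
    intro a ha
    apply mem_Zg_succ_of_gens hR 3 (hAR ha)
    rintro y ((hy | hy) | hy)
    · rw [comm_one (hAc a ha y hy)]; exact one_mem_Zg _ _
    · apply hK1_3
      have := Subgroup.commutator_mem_commutator ha hy
      rwa [commutatorElement_def] at this
    · rw [comm_one (cAC a ha y hy)]; exact one_mem_Zg _ _
  have hB4 : B ≤ Zg (A ⊔ B ⊔ C) 4 := by
    intro b' hb'
    apply mem_Zg_succ_of_gens hR 3 (hBR hb')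
    rintro y ((hy | hy) | hy)
    · have e : b' * y * b'⁻¹ * y⁻¹ = (y * b' * y⁻¹ * b'⁻¹)⁻¹ := by group
      rw [e]
      apply Subgroup.inv_mem
      apply hK1_3
      have := Subgroup.commutator_mem_commutator hy hb'
      rwa [commutatorElement_def] at this
    · rw [comm_one (hBc b' hb' y hy)]; exact one_mem_Zg _ _
    · apply hK2_3
      have := Subgroup.commutator_mem_commutator hb' hy
      rwa [commutatorElement_def] at this
  have hC4 : C ≤ Zg (A ⊔ B ⊔ C) 4 := by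
    intro c hc
    apply mem_Zg_succ_of_gens hR 3 (hCR hc)
    rintro y ((hy | hy) | hy)
    · rw [comm_one (cAC y hy c hc).symm]; exact one_mem_Zg _ _
    · have e : c * y * c⁻¹ * y⁻¹ = (y * c * y⁻¹ * c⁻¹)⁻¹ := by group
      rw [e]
      apply Subgroup.inv_mem
      apply hK2_3
      have := Subgroup.commutator_mem_commutator hy hc
      rwa [commutatorElement_def] at this
    · rw [comm_one (hCc c hc y hy)]; exact one_mem_Zg _ _
  exact isNilpotent_of_le_Zg (n := 4) (sup_le (sup_le hA4 hB4) hC4)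

end main


theorem result {G : Type*} [Group G] {S : Set (Subgroup G)} (hS : Cfsg.IsRootSubgroupSet S)
    {A B C : Subgroup G} (hA : A ∈ S) (hB : B ∈ S) (hC : C ∈ S) (hAB : ⁅A, B⁆ ∈ S) (hBC : ⁅B, C⁆ ∈ S)
    (hAC : C ∈ Cfsg.commutingPartners S A)
    {b : G} (hb : b ∈ B) (hb1 : b ≠ 1) :
    ((IsMulCommutative ↥(A ⊔ Cfsg.conjBy C b⁻¹) ∧ IsMulCommutative ↥(Cfsg.conjBy A b⁻¹ ⊔ C)) ∨
      ((¬ IsMulCommutative ↥(A ⊔ Cfsg.conjBy C b⁻¹) ∧
          ⁅⁅A ⊔ Cfsg.conjBy C b⁻¹, A ⊔ Cfsg.conjBy C b⁻¹⁆, A ⊔ Cfsg.conjBy C b⁻¹⁆ = ⊥) ∧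
        (¬ IsMulCommutative ↥(Cfsg.conjBy A b⁻¹ ⊔ C) ∧
          ⁅⁅Cfsg.conjBy A b⁻¹ ⊔ C, Cfsg.conjBy A b⁻¹ ⊔ C⁆, Cfsg.conjBy A b⁻¹ ⊔ C⁆ = ⊥))) ∧
    ⁅A ⊔ Cfsg.conjBy C b⁻¹, Cfsg.conjBy A b⁻¹ ⊔ C⁆ = ⊥ ∧
    (∀ r ∈ A ⊔ B ⊔ C, Cfsg.conjBy ((A ⊔ Cfsg.conjBy C b⁻¹) ⊔ (Cfsg.conjBy A b⁻¹ ⊔ C)) r =
      (A ⊔ Cfsg.conjBy C b⁻¹) ⊔ (Cfsg.conjBy A b⁻¹ ⊔ C)) ∧
    ((A ⊔ Cfsg.conjBy C b⁻¹) ⊔ (Cfsg.conjBy A b⁻¹ ⊔ C)) ⊔ B = A ⊔ B ⊔ C ∧
    Group.IsNilpotent ↥(A ⊔ B ⊔ C) := by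
  have hb' : b⁻¹ ∈ B := B.inv_mem hb
  have hb1' : b⁻¹ ≠ 1 := fun h => hb1 (inv_eq_one.mp h)
  exact ⟨part1 hS hA hB hC hAB hBC hAC hb' hb1', part2 hS hA hB hC hAB hBC hAC hb',
    part3 hS hA hB hC hAB hBC hAC hb' hb1', part4 hS hA hB hC hAB hBC hAC hb' hb1',
    part5 hS hA hB hC hAB hBC hAC hb' hb1'⟩

end Cfsg.Agent.S5030
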