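import Cfsg.Statements.S0207
import Cfsg.Agent.Lib.Helper24.Dih

set_option autoImplicit false
open Cfsg

namespace Cfsg.Agent.S0207

/-- If x, y are distinct involutions, every element of the subgroup they generate that lies outside the cyclic subgroup generated by xy is an involution. -/
theorem result {G : Type*} [Group G] [Finite G] (x y : G) (hx : orderOf x = 2) (hy : orderOf y = 2) (hxy : x ≠ y) (d : G) (hd : d ∈ Subgroup.closure ({x, y} : Set G)) (hd' : d ∉ Subgroup.zpowers (x * y)) : orderOf d = 2 := by
  have hx2 := Lib.Helper24.sq_one_of_orderOf_two hx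
  have hy2 := Lib.Helper24.sq_one_of_orderOf_two hy
  obtain ⟨i, hi | hi⟩ := Lib.Helper24.closure_pair_forms hx2 hy2 d hd
  · exact absurd (hi ▸ Subgroup.zpow_mem_zpowers _ i) hd'
  · have hd2 : d ^ 2 = 1 := by
      rw [hi, pow_two]
      calc x * (x * y) ^ i * (x * (x * y) ^ i) = (x * (x * y) ^ i * x) * (x * y) ^ i := by
            simp only [mul_assoc]
        _ = 1 := by rw [Lib.Helper24.conj_zpow_inv hx2 hy2, ← zpow_add]; simp
    have hd1 : d ≠ 1 := by
      intro h
      exact hd' (h ▸ Subgroup.one_mem _)
    exact orderOf_eq_prime hd2 hd1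

end Cfsg.Agent.S0207
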