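import Cfsg.Statements.S1225
import Cfsg.Agent.Lib.Helper24.StrEmb2

set_option autoImplicit false
open Cfsg

namespace Cfsg.Agent.S1225

/-- Let H be a strongly embedded subgroup of the finite group G, u an involution outside H and D = H ∩ uHu⁻¹. Then any two involutions of H are conjugate by an element of D, and any two involutions of G are conjugate in G. -/
theorem result {G : Type*} [Group G] [Finite G] (H : Subgroup G) (hH : Cfsg.IsStronglyEmbedded H) (u : G) (hu : orderOf u = 2) (huH : u ∉ H) (s t : G) (hs : orderOf s = 2) (hsH : s ∈ H) (ht : orderOf t = 2) (htH : t ∈ H) : (∃ d ∈ (H ⊓ H.map (MulAut.conj u).toMonoidHom), d * s * d⁻¹ = t) ∧ ∀ a b : G, orderOf a = 2 → orderOf b = 2 → IsConj a b := by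
  have hab : ((1 : G) : G ⧸ H) ≠ ((u : G) : G ⧸ H) := by
    intro h
    rw [QuotientGroup.eq] at h
    apply huH
    simpa using h
  have fixH : ∀ r : G, r ∈ H → r • ((1 : G) : G ⧸ H) = ((1 : G) : G ⧸ H) := by
    intro r hr
    rw [Lib.Helper24.smul_coset_eq_iff]
    simpa using hr
  have hs' : orderOf (u * s * u⁻¹) = 2 := by rw [Lib.Helper24.orderOf_conj']; exact hs
  have hs'b : (u * s * u⁻¹) • ((u : G) : G ⧸ H) = ((u : G) : G ⧸ H) := by
    rw [Lib.Helper24.smul_coset_eq_iff]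
    have : u⁻¹ * (u * s * u⁻¹) * u = s := by group
    rw [this]; exact hsH
  constructor
  · obtain ⟨w₁, hw₁o, hw₁c, hw₁m⟩ :=
      Lib.Helper24.se_exists_swap hH hs hs' (fixH s hsH) hs'b hab
    obtain ⟨w₂, hw₂o, hw₂c, hw₂m⟩ :=
      Lib.Helper24.se_exists_swap hH ht hs' (fixH t htH) hs'b hab
    have hw₁2 : w₁ * w₁ = 1 := Lib.Helper24.sq_one_of_orderOf_two hw₁o
    have hw₂i : w₂⁻¹ = w₂ := Lib.Helper24.inv_eq_self_of_orderOf_two hw₂o
    have hda : (w₂⁻¹ * w₁) • ((1 : G) : G ⧸ H) = ((1 : G) : G ⧸ H) := by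
      rw [mul_smul, hw₁m, inv_smul_eq_iff, hw₂m]
    have hdb : (w₂⁻¹ * w₁) • ((u : G) : G ⧸ H) = ((u : G) : G ⧸ H) := by
      have h1 : w₁ • ((u : G) : G ⧸ H) = ((1 : G) : G ⧸ H) := by
        rw [← hw₁m, ← mul_smul, hw₁2, one_smul]
      rw [mul_smul, h1, hw₂i, hw₂m]
    refine ⟨w₂⁻¹ * w₁, ⟨?_, ?_⟩, ?_⟩
    · have := (Lib.Helper24.smul_coset_eq_iff H (w₂⁻¹ * w₁) 1).mp hda
      simpa using this
    · exact (Lib.Helper24.mem_conj_map_iff H u _).mpr
        ⟨u⁻¹ * (w₂⁻¹ * w₁) * u, (Lib.Helper24.smul_coset_eq_iff H (w₂⁻¹ * w₁) u).mp hdb, by group⟩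
    · calc w₂⁻¹ * w₁ * s * (w₂⁻¹ * w₁)⁻¹ = w₂⁻¹ * (w₁ * s * w₁⁻¹) * w₂ := by group
        _ = w₂⁻¹ * (w₂ * t * w₂⁻¹) * w₂ := by rw [hw₁c, hw₂c]
        _ = t := by group
  · have hconj_u : ∀ c : G, orderOf c = 2 → IsConj c u := by
      intro c hc
      by_cases hcH : c ∈ H
      · rcases Lib.Helper24.se_mem_or_conj hH hu hcH hc with h | ⟨g, hg⟩
        · exact absurd h huH
        · exact isConj_iff.mpr ⟨g, hg⟩
      · rcases Lib.Helper24.se_mem_or_conj hH hc hsH hs with h | ⟨g, hg⟩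
        · exact absurd h hcH
        · have h1 : IsConj s c := isConj_iff.mpr ⟨g, hg⟩
          rcases Lib.Helper24.se_mem_or_conj hH hu hsH hs with h | ⟨g', hg'⟩
          · exact absurd h huH
          · exact h1.symm.trans (isConj_iff.mpr ⟨g', hg'⟩)
    intro a b ha hb
    exact (hconj_u a ha).trans (hconj_u b hb).symm

end Cfsg.Agent.S1225
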