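import Cfsg.Statements.S1226
import Mathlib
-- import your own Cfsg.Agent.* helpers here

set_option autoImplicit false
open Cfsg

namespace Cfsg.Agent.S1226

/-- Under the hypotheses, `T` is the centralizer of each of its involutions, and involutions of
`N_G(T)` lie in `T`. -/
theorem key {G : Type*} [Group G] [Finite G] (T : Sylow 2 G) (hnc : ¬ IsCyclic (T : Subgroup G))
    (hC : ∀ t : G, orderOf t = 2 → IsMulCommutative (Subgroup.centralizer ({t} : Set G)) ∧ ∀ c ∈ Subgroup.centralizer ({t} : Set G), c ^ 2 = 1) :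
    (∀ s ∈ (T : Subgroup G), orderOf s = 2 → Subgroup.centralizer ({s} : Set G) = (T : Subgroup G)) ∧
    (∀ s ∈ Subgroup.normalizer ((T : Subgroup G) : Set G), orderOf s = 2 → s ∈ (T : Subgroup G)) ∧
    (∃ s ∈ (T : Subgroup G), orderOf s = 2) := by
  classical
  -- centralizers of involutions are 2-groups
  have hC2 : ∀ t : G, orderOf t = 2 → IsPGroup 2 (Subgroup.centralizer ({t} : Set G)) := by
    intro t ht c
    refine ⟨1, ?_⟩
    rw [pow_one]
    apply Subtype.ext
    simp only [Subgroup.coe_pow, Subgroup.coe_one]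
    exact (hC t ht).2 c c.2
  -- T is nontrivial
  haveI hTnt : Nontrivial ↥(T : Subgroup G) := by
    by_contra h
    rw [not_nontrivial_iff_subsingleton] at h
    exact hnc (isCyclic_of_subsingleton)
  -- an involution in the centre of T
  have hcen := T.isPGroup'.center_nontrivial
  have hcenp : IsPGroup 2 (Subgroup.center ↥(T : Subgroup G)) := T.isPGroup'.to_subgroup _
  obtain ⟨k, hk0, hk⟩ := hcenp.nontrivial_iff_card.1 hcen
  have h2dvd : 2 ∣ Nat.card (Subgroup.center ↥(T : Subgroup G)) := by
    rw [hk]; exact dvd_pow_self 2 hk0.ne'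
  obtain ⟨x, hx⟩ := exists_prime_orderOf_dvd_card' 2 h2dvd
  set t : G := ((x : ↥(T : Subgroup G)) : G) with ht
  have htT : t ∈ (T : Subgroup G) := (x : ↥(T : Subgroup G)).2
  have hto : orderOf t = 2 := by
    rw [ht, Subgroup.orderOf_coe, Subgroup.orderOf_coe]; exact hx
  have hTle : (T : Subgroup G) ≤ Subgroup.centralizer ({t} : Set G) := by
    intro y hy
    rw [Subgroup.mem_centralizer_iff]
    intro z hz
    rw [Set.mem_singleton_iff] at hz
    rw [hz]
    have h1 := Subgroup.mem_center_iff.1 x.2 ⟨y, hy⟩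
    have h2 := congrArg Subtype.val h1
    simp only [Subgroup.coe_mul] at h2
    exact h2.symm
  have hTeq : Subgroup.centralizer ({t} : Set G) = (T : Subgroup G) :=
    T.is_maximal' (hC2 t hto) hTle
  -- T is commutative
  have hTcomm : ∀ a ∈ (T : Subgroup G), ∀ b ∈ (T : Subgroup G), a * b = b * a := by
    intro a ha b hb
    have hc := (hC t hto).1
    have ha' : a ∈ Subgroup.centralizer ({t} : Set G) := by rw [hTeq]; exact ha
    have hb' : b ∈ Subgroup.centralizer ({t} : Set G) := by rw [hTeq]; exact hb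
    have := hc.is_comm.comm (⟨a, ha'⟩ : Subgroup.centralizer ({t} : Set G)) ⟨b, hb'⟩
    exact congrArg Subtype.val this
  refine ⟨?_, ?_, ⟨t, htT, hto⟩⟩
  · intro s hs hso
    apply T.is_maximal' (hC2 s hso)
    intro y hy
    rw [Subgroup.mem_centralizer_iff]
    intro z hz
    rw [Set.mem_singleton_iff] at hz
    rw [hz]
    exact hTcomm s hs y hy
  · intro s hsN hso
    have hzp : IsPGroup 2 (Subgroup.zpowers s) := by
      apply IsPGroup.of_card (n := 1)
      rw [Nat.card_zpowers, hso, pow_one]
    have hle : Subgroup.zpowers s ≤ Subgroup.normalizer ((T : Subgroup G) : Set G) :=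
      Subgroup.zpowers_le.2 hsN
    have hsup : IsPGroup 2 (Subgroup.zpowers s ⊔ (T : Subgroup G) : Subgroup G) :=
      hzp.to_sup_of_normal_right' T.isPGroup' hle
    have := T.is_maximal' hsup le_sup_right
    rw [← this]
    exact (le_sup_left : Subgroup.zpowers s ≤ _) (Subgroup.mem_zpowers s)

/-- Let G be a finite group with a Sylow 2-subgroup T that is neither cyclic nor normal, such that the centralizer of every involution is an elementary abelian 2-group. Then N_G(T) is a strongly embedded subgroup of G. -/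
theorem result {G : Type*} [Group G] [Finite G] (T : Sylow 2 G) (hnc : ¬ IsCyclic (T : Subgroup G)) (hnn : ¬ (T : Subgroup G).Normal) (hC : ∀ t : G, orderOf t = 2 → IsMulCommutative (Subgroup.centralizer ({t} : Set G)) ∧ ∀ c ∈ Subgroup.centralizer ({t} : Set G), c ^ 2 = 1) : Cfsg.IsStronglyEmbedded (Subgroup.normalizer ((T : Subgroup G) : Set G)) := by
  classical
  obtain ⟨hcent, hinv, ⟨t, htT, hto⟩⟩ := key T hnc hC
  set H : Subgroup G := Subgroup.normalizer ((T : Subgroup G) : Set G) with hH
  refine ⟨?_, ?_, ?_⟩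
  · intro htop
    exact hnn (Subgroup.normalizer_eq_top_iff.1 htop)
  · have h1 : orderOf t ∣ Nat.card H := Subgroup.orderOf_dvd_natCard H (Subgroup.le_normalizer htT)
    rw [hto] at h1
    exact even_iff_two_dvd.2 h1
  · intro g hg
    rw [← Nat.not_even_iff_odd]
    intro heven
    have h2 : 2 ∣ Nat.card ↥(H ⊓ H.map (MulAut.conj g).toMonoidHom) := even_iff_two_dvd.1 heven
    obtain ⟨y, hy⟩ := exists_prime_orderOf_dvd_card' 2 h2
    set s : G := (y : G) with hs
    have hso : orderOf s = 2 := by rw [hs, Subgroup.orderOf_coe]; exact hy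
    have hsH : s ∈ H := y.2.1
    have hsHg : s ∈ H.map (MulAut.conj g).toMonoidHom := y.2.2
    obtain ⟨s', hs'H, hs'e⟩ := Subgroup.mem_map.1 hsHg
    simp only [MulEquiv.coe_toMonoidHom, MulAut.conj_apply] at hs'e
    have hs'o : orderOf s' = 2 := by
      have hsc : SemiconjBy g s' s := by
        unfold SemiconjBy; rw [← hs'e]; group
      rw [hsc.orderOf_eq]; exact hso
    have hsT : s ∈ (T : Subgroup G) := hinv s hsH hso
    have hs'T : s' ∈ (T : Subgroup G) := hinv s' hs'H hs'o
    have hcs := hcent s hsT hso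
    have hcs' := hcent s' hs'T hs'o
    apply hg
    rw [hH, Subgroup.mem_normalizer_iff]
    intro h
    constructor
    · intro hh
      rw [← hcs, Subgroup.mem_centralizer_iff]
      intro z hz
      rw [Set.mem_singleton_iff] at hz
      rw [hz, ← hs'e]
      have h1 : h ∈ Subgroup.centralizer ({s'} : Set G) := by rw [hcs']; exact hh
      rw [Subgroup.mem_centralizer_iff] at h1
      have h2 : s' * h = h * s' := h1 s' (Set.mem_singleton s')
      calc g * s' * g⁻¹ * (g * h * g⁻¹) = g * (s' * h) * g⁻¹ := by group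
        _ = g * (h * s') * g⁻¹ := by rw [h2]
        _ = g * h * g⁻¹ * (g * s' * g⁻¹) := by group
    · intro hh
      rw [← hcs', Subgroup.mem_centralizer_iff]
      intro z hz
      rw [Set.mem_singleton_iff] at hz
      rw [hz]
      have h1 : g * h * g⁻¹ ∈ Subgroup.centralizer ({s} : Set G) := by rw [hcs]; exact hh
      rw [Subgroup.mem_centralizer_iff] at h1
      have h2 : s * (g * h * g⁻¹) = g * h * g⁻¹ * s := h1 s (Set.mem_singleton s)
      rw [← hs'e] at h2
      have h3 := congrArg (fun z => g⁻¹ * z * g) h2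
      calc s' * h = g⁻¹ * (g * s' * g⁻¹ * (g * h * g⁻¹)) * g := by group
        _ = g⁻¹ * (g * h * g⁻¹ * (g * s' * g⁻¹)) * g := h3
        _ = h * s' := by group

end Cfsg.Agent.S1226
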