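import Cfsg.Statements.S5646
import Mathlib
import Cfsg.Agent.Lib.Helper27.SympStab

set_option autoImplicit false
open Cfsg

namespace Cfsg.Agent.S5646

open Matrix Cfsg.Agent.Lib.Helper27.SympTransv

variable {F : Type*} [Field F] {m : ℕ}

theorem restrict_nondeg (W : Submodule F (Fin m ⊕ Fin m → F)) (hW : NondegOn W) :
    ((sympB m F).restrict W).Nondegenerate := by
  constructor
  · intro x hx
    by_contra hne
    obtain ⟨a, haW, ha⟩ := hW x.1 x.2 (fun h => hne (Subtype.ext h))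
    apply ha
    have := hx ⟨a, haW⟩
    rw [← sympB_apply]
    exact this
  · intro x hx
    by_contra hne
    obtain ⟨a, haW, ha⟩ := hW x.1 x.2 (fun h => hne (Subtype.ext h))
    apply ha
    have := hx ⟨a, haW⟩
    rw [sf_swap, ← sympB_apply]
    exact neg_eq_zero.mpr this

theorem exists_decomp (W : Submodule F (Fin m ⊕ Fin m → F)) (hW : NondegOn W)
    (x : Fin m ⊕ Fin m → F) : ∃ x₁ ∈ W, ∃ x₂ ∈ perp W, x₁ + x₂ = x := by
  have hc : IsCompl W (perp W) :=
    LinearMap.BilinForm.isCompl_orthogonal_of_restrict_nondegenerate sympB_isAlt.isRefl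
      (restrict_nondeg W hW)
  have hx : x ∈ W ⊔ perp W := by rw [hc.sup_eq_top]; trivial
  exact Submodule.mem_sup.mp hx

theorem disj (W : Submodule F (Fin m ⊕ Fin m → F)) (hW : NondegOn W)
    (x : Fin m ⊕ Fin m → F) (hx : x ∈ W) (hx' : x ∈ perp W) : x = 0 := by
  by_contra hne
  obtain ⟨a, haW, ha⟩ := hW x hx hne
  exact ha (mem_perp'.mp hx' a haW)

theorem nondegOn_perp (W : Submodule F (Fin m ⊕ Fin m → F)) (hW : NondegOn W) :
    NondegOn (perp W) := by
  intro u hu hu0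
  obtain ⟨a, -, ha⟩ := nondegOn_top u Submodule.mem_top hu0
  obtain ⟨a₁, ha₁, a₂, ha₂, rfl⟩ := exists_decomp W hW a
  refine ⟨a₂, ha₂, ?_⟩
  rw [sf_add_right, mem_perp'.mp hu a₁ ha₁, zero_add] at ha
  exact ha

theorem TW_le (W : Submodule F (Fin m ⊕ Fin m → F))
    (H : Subgroup (Matrix.symplecticGroup (Fin m) F))
    (h : ∀ w ∈ W, ∀ c : F, tv w c ∈ H) : TW W ≤ H := by
  unfold TW
  rw [Subgroup.closure_le]
  rintro A ⟨w, hw, c, hA⟩
  have : A = tv w c := Subtype.ext hA
  rw [this]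
  exact h w hw c

theorem core (W : Submodule F (Fin m ⊕ Fin m → F)) (hW : NondegOn W) (hW0 : W ≠ ⊥)
    (hdim : Module.finrank F W < m) :
    PW W ≠ ⊤ ∧ ∀ H : Subgroup (Matrix.symplecticGroup (Fin m) F), PW W ≤ H →
      H = PW W ∨ H = ⊤ := by
  have hW' := nondegOn_perp W hW
  have hfr := finrank_perp W
  have hW'0 : perp W ≠ ⊥ := by
    intro h
    rw [h, finrank_bot] at hfr
    omega
  obtain ⟨a₁, ha₁, ha₁0⟩ := Submodule.exists_mem_ne_zero_of_ne_bot hW0
  obtain ⟨a₂, ha₂, ha₂0⟩ := Submodule.exists_mem_ne_zero_of_ne_bot hW'0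
  constructor
  · intro htop
    obtain ⟨b, hb, hab⟩ := hW a₁ ha₁ ha₁0
    have hmem : tv (a₁ + a₂) 1 ∈ PW W := by rw [htop]; trivial
    have h1 := PW_maps hmem hb
    rw [act_tv, sf_add_right, mem_perp.mp ha₂ b hb, add_zero, one_mul, smul_add, ← add_assoc] at h1
    have hb' : sympForm m F b a₁ ≠ 0 := by
      rw [sf_swap]; exact neg_ne_zero.mpr hab
    have h2 : sympForm m F b a₁ • a₂ ∈ W := by
      have := W.sub_mem h1 (W.add_mem hb (W.smul_mem (sympForm m F b a₁) ha₁))
      rwa [add_sub_cancel_left] at this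
    have h3 : a₂ ∈ W := by
      have := W.smul_mem (sympForm m F b a₁)⁻¹ h2
      rwa [smul_smul, inv_mul_cancel₀ hb', one_smul] at this
    exact ha₂0 (disj W hW a₂ h3 ha₂)
  · intro H hle
    by_cases hH : H ≤ PW W
    · left
      exact le_antisymm hH hle
    right
    obtain ⟨h, hhH, hhP⟩ := SetLike.not_le_iff_exists.mp hH
    have hA_W : ∀ x ∈ W, ∀ c : F, tv x c ∈ H := fun x hx c => hle (tv_mem_PW_of_mem hx c)
    have hA_W' : ∀ x ∈ perp W, ∀ c : F, tv x c ∈ H := fun x hx c => hle (tv_mem_PW_of_perp hx c)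
    have hA_inv : ∀ g ∈ H, ∀ x, (∀ c : F, tv x c ∈ H) → ∀ c : F, tv (act g x) c ∈ H := by
      intro g hg x hx c
      rw [← conj_tv]
      exact mul_mem (mul_mem hg (hx c)) (inv_mem hg)
    have key : ∃ b₁ ∈ W, b₁ ≠ 0 ∧ ∃ b₂ ∈ perp W, b₂ ≠ 0 ∧ ∀ c : F, tv (b₁ + b₂) c ∈ H := by
      by_contra hno
      have hAuni : ∀ x, (∀ c : F, tv x c ∈ H) → x ∈ W ∨ x ∈ perp W := by
        intro x hx
        obtain ⟨x₁, hx₁, x₂, hx₂, rfl⟩ := exists_decomp W hW x
        by_cases h1 : x₁ = 0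
        · right
          rw [h1, zero_add]; exact hx₂
        by_cases h2 : x₂ = 0
        · left
          rw [h2, add_zero]; exact hx₁
        exact absurd ⟨x₁, hx₁, h1, x₂, hx₂, h2, hx⟩ hno
      have huni : ∀ (S : Submodule F (Fin m ⊕ Fin m → F)), (∀ x ∈ S, ∀ c : F, tv x c ∈ H) →
          ∀ g ∈ H, (∀ x ∈ S, act g x ∈ W) ∨ (∀ x ∈ S, act g x ∈ perp W) := by
        intro S hS g hg
        by_contra hcon
        rw [not_or] at hcon
        obtain ⟨hc1, hc2⟩ := hcon
        rw [not_forall] at hc1 hc2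
        obtain ⟨x, hx⟩ := hc1
        obtain ⟨y, hy⟩ := hc2
        rw [Classical.not_imp] at hx hy
        obtain ⟨hxS, hxW⟩ := hx
        obtain ⟨hyS, hyW⟩ := hy
        have hgx : act g x ∈ perp W := by
          rcases hAuni _ (hA_inv g hg x (hS x hxS)) with h | h
          · exact absurd h hxW
          · exact h
        have hgy : act g y ∈ W := by
          rcases hAuni _ (hA_inv g hg y (hS y hyS)) with h | h
          · exact h
          · exact absurd h hyW
        rcases hAuni _ (hA_inv g hg (x + y) (hS _ (S.add_mem hxS hyS))) with h | h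
        · rw [act_add] at h
          apply hxW
          have := W.sub_mem h hgy
          rwa [add_sub_cancel_right] at this
        · rw [act_add] at h
          apply hyW
          have := (perp W).sub_mem h hgx
          rwa [add_sub_cancel_left] at this
      have hg : ∃ g ∈ H, ¬ ∀ x ∈ W, act g x ∈ W := by
        by_contra hcon
        apply hhP
        apply mem_PW_of_maps
        · by_contra h1
          exact hcon ⟨h, hhH, h1⟩
        · by_contra h1
          exact hcon ⟨h⁻¹, inv_mem hhH, h1⟩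
      obtain ⟨g, hgH, hgW⟩ := hg
      have h1 : ∀ x ∈ W, act g x ∈ perp W := by
        rcases huni W hA_W g hgH with h | h
        · exact absurd h hgW
        · exact h
      rcases huni (perp W) hA_W' g hgH with h2 | h2
      · -- dimension count
        have hle' : (perp W).map (actL g).toLinearMap ≤ W := by
          rintro _ ⟨x, hx, rfl⟩
          exact h2 x hx
        have := Submodule.finrank_mono hle'
        rw [LinearEquiv.finrank_map_eq] at this
        omega
      · apply ha₁0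
        apply disj W hW a₁ ha₁
        obtain ⟨x₁, hx₁, x₂, hx₂, hx⟩ := exists_decomp W hW (act g⁻¹ a₁)
        have : a₁ = act g x₁ + act g x₂ := by
          rw [← act_add, hx, act_act_inv]
        rw [this]
        exact (perp W).add_mem (h1 x₁ hx₁) (h2 x₂ hx₂)
    obtain ⟨b₁, hb₁, hb₁0, b₂, hb₂, hb₂0, hb⟩ := key
    have hTW : TW W ≤ H := TW_le W H hA_W
    have hTW' : TW (perp W) ≤ H := TW_le (perp W) H hA_W'
    apply eq_top_of_tv_mem
    intro w
    obtain ⟨x₁, hx₁, x₂, hx₂, rfl⟩ := exists_decomp W hW w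
    by_cases h1 : x₁ = 0
    · rw [h1, zero_add]
      exact hA_W' x₂ hx₂
    by_cases h2 : x₂ = 0
    · rw [h2, add_zero]
      exact hA_W x₁ hx₁
    obtain ⟨g₁, hg₁, hg₁b⟩ := trans1 W hW b₁ x₁ hb₁ hx₁ hb₁0 h1
    obtain ⟨g₂, hg₂, hg₂b⟩ := trans1 (perp W) hW' b₂ x₂ hb₂ hx₂ hb₂0 h2
    have e1 : act g₁ b₂ = b₂ := TW_fix W g₁ hg₁ b₂ (mem_perp'.mp hb₂)
    have e2 : act g₂ x₁ = x₁ := TW_fix (perp W) g₂ hg₂ x₁ (fun w hw => mem_perp.mp hw x₁ hx₁)
    have := hA_inv (g₂ * g₁) (mul_mem (hTW' hg₂) (hTW hg₁)) _ hb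
    rw [act_mul, act_add, hg₁b, e1, act_add, e2, hg₂b] at this
    exact this

theorem result {F : Type*} [Field F] [Fintype F] (m : ℕ) (hm : 7 ≤ m) (W : Submodule F (Fin m ⊕ Fin m → F)) (hW0 : W ≠ ⊥) (hW : Cfsg.Geo.IsNondegenerateOn (Cfsg.sympForm m F) W) (hdim : Module.finrank F W < m) : Cfsg.Geo.IsMaximalIn (Cfsg.spGL m F) (Cfsg.Geo.subspaceStabilizer W ⊓ Cfsg.spGL m F) := by
  have hW' : NondegOn W := fun u hu hu0 => (hW u hu hu0).2
  obtain ⟨h1, h2⟩ := core W hW' hW0 hdim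
  apply isMaximalIn_of_comap
  · rw [comap_subspaceStabilizer]; exact h1
  · rw [comap_subspaceStabilizer]; exact h2

end Cfsg.Agent.S5646
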