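import Cfsg.Statements.S2389
import Cfsg.Agent.Lib.Helper24.SpConjH

set_option autoImplicit false
open Cfsg
open Cfsg.Agent.Lib.Helper24.SpConj

namespace Cfsg.Agent.S2389

/-- In the symplectic group `Sp_{2n}(q)`, `q` a power of the prime `p`, two elements of order prime to `p` with the same characteristic polynomial are conjugate in `Sp_{2n}(q)`. -/
theorem result {F : Type*} [Field F] [Fintype F] (p : ℕ) [Fact p.Prime] [CharP F p] (n : ℕ)
    (g h : ↥(Matrix.symplecticGroup (Fin n) F)) (hg : (orderOf g).Coprime p) (hh : (orderOf h).Coprime p)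
    (hc : (g : Matrix (Fin n ⊕ Fin n) (Fin n ⊕ Fin n) F).charpoly = (h : Matrix (Fin n ⊕ Fin n) (Fin n ⊕ Fin n) F).charpoly) :
    IsConj g h := by
  have hnd : ∀ {k : ℕ}, k.Coprime p → ¬ p ∣ k := by
    intro k hk hdvd
    have h1 := Nat.Coprime.eq_one_of_dvd hk.symm hdvd
    exact (Fact.out : p.Prime).one_lt.ne' h1
  have hgN : (g : Matrix (Fin n ⊕ Fin n) (Fin n ⊕ Fin n) F) ^ orderOf g = 1 :=
    congrArg Subtype.val (pow_orderOf_eq_one g)
  have hhN : (h : Matrix (Fin n ⊕ Fin n) (Fin n ⊕ Fin n) F) ^ orderOf h = 1 :=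
    congrArg Subtype.val (pow_orderOf_eq_one h)
  obtain ⟨c, hcu, hcAB⟩ := exists_unit_conj (p := p) _ _ hgN (hnd hg) hhN (hnd hh) hc
  have hN : ((orderOf g : ℕ) : F) ≠ 0 := by
    rw [Ne, CharP.cast_eq_zero_iff F p]
    exact hnd hg
  obtain ⟨u, hu1, hu2⟩ := main ((mem_sp_iff _).mp g.2) ((mem_sp_iff _).mp h.2) hcu hcAB hgN hN
  have huSp : u ∈ Matrix.symplecticGroup (Fin n) F := (mem_sp_iff' u).mpr hu1
  rw [isConj_iff]
  refine ⟨⟨u, huSp⟩, ?_⟩
  rw [mul_inv_eq_iff_eq_mul]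
  exact Subtype.ext hu2

end Cfsg.Agent.S2389
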