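import Cfsg.Statements.S2166
import Mathlib
import Cfsg.Agent.Lib.Helper27.SpInvol

set_option autoImplicit false
open Cfsg

namespace Cfsg.Agent.S2166

open Matrix Cfsg.Agent.Lib.Helper27.SympTransv Cfsg.Agent.Lib.Helper27.SpInvol

variable {F : Type*} [Field F] {m : ℕ}

/-- Conjugate symplectic matrices: intertwining relation on matrices. -/
theorem conj_data (a b : ↥(Matrix.symplecticGroup (Fin m) F)) (h : IsConj a b) :
    ∃ c : ↥(Matrix.symplecticGroup (Fin m) F), c * a = b * c := by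
  rw [isConj_iff] at h
  obtain ⟨c, hc⟩ := h
  exact ⟨c, by rw [← hc]; group⟩

theorem rank_of_isConj (a b : ↥(Matrix.symplecticGroup (Fin m) F)) (h : IsConj a b) :
    ((a : Matrix (Fin m ⊕ Fin m) (Fin m ⊕ Fin m) F) - 1).rank =
      ((b : Matrix (Fin m ⊕ Fin m) (Fin m ⊕ Fin m) F) - 1).rank := by
  obtain ⟨c, h1⟩ := conj_data a b h
  have h2 : (c : Matrix (Fin m ⊕ Fin m) (Fin m ⊕ Fin m) F) *
      (a : Matrix (Fin m ⊕ Fin m) (Fin m ⊕ Fin m) F) =
      (b : Matrix (Fin m ⊕ Fin m) (Fin m ⊕ Fin m) F) *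
        (c : Matrix (Fin m ⊕ Fin m) (Fin m ⊕ Fin m) F) := by
    have := congrArg (fun x : ↥(Matrix.symplecticGroup (Fin m) F) =>
      (x : Matrix (Fin m ⊕ Fin m) (Fin m ⊕ Fin m) F)) h1
    exact this
  have h3 : (c : Matrix (Fin m ⊕ Fin m) (Fin m ⊕ Fin m) F) *
      ((a : Matrix (Fin m ⊕ Fin m) (Fin m ⊕ Fin m) F) - 1) =
      ((b : Matrix (Fin m ⊕ Fin m) (Fin m ⊕ Fin m) F) - 1) *
        (c : Matrix (Fin m ⊕ Fin m) (Fin m ⊕ Fin m) F) := by
    rw [mul_sub, sub_mul, h2, mul_one, one_mul]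
  have hdet : IsUnit (c : Matrix (Fin m ⊕ Fin m) (Fin m ⊕ Fin m) F).det :=
    SymplecticGroup.symplectic_det c.2
  rw [← Matrix.rank_mul_eq_right_of_isUnit_det (c : Matrix (Fin m ⊕ Fin m) (Fin m ⊕ Fin m) F)
    ((a : Matrix (Fin m ⊕ Fin m) (Fin m ⊕ Fin m) F) - 1) hdet, h3,
    Matrix.rank_mul_eq_left_of_isUnit_det (c : Matrix (Fin m ⊕ Fin m) (Fin m ⊕ Fin m) F)
    ((b : Matrix (Fin m ⊕ Fin m) (Fin m ⊕ Fin m) F) - 1) hdet]

theorem card_of_isConj (a b : ↥(Matrix.symplecticGroup (Fin m) F)) (h : IsConj a b) :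
    Nat.card {v : Fin m ⊕ Fin m → F // Cfsg.sympForm m F v (Matrix.mulVec
      (a : Matrix (Fin m ⊕ Fin m) (Fin m ⊕ Fin m) F) v) = 0} =
    Nat.card {v : Fin m ⊕ Fin m → F // Cfsg.sympForm m F v (Matrix.mulVec
      (b : Matrix (Fin m ⊕ Fin m) (Fin m ⊕ Fin m) F) v) = 0} := by
  obtain ⟨c, h1⟩ := conj_data a b h
  apply Nat.card_congr
  refine (actL c).toEquiv.subtypeEquiv ?_
  intro v
  show sympForm m F v (act a v) = 0 ↔ sympForm m F (act c v) (act b (act c v)) = 0
  rw [← act_mul, ← h1, act_mul, act_preserves]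

/-- If all vectors satisfy the condition for `a` and the two sets have the same size, then all
vectors satisfy the condition for `b`. -/
theorem all_of_card [Fintype F] (P Q : (Fin m ⊕ Fin m → F) → Prop) (hP : ∀ v, P v)
    (hcard : Nat.card {v // P v} = Nat.card {v // Q v}) : ∀ v, Q v := by
  classical
  by_contra hne
  push Not at hne
  obtain ⟨v, hv⟩ := hne
  have h1 : Fintype.card {v // Q v} < Fintype.card (Fin m ⊕ Fin m → F) :=
    Fintype.card_subtype_lt hv
  have h2 : Fintype.card {v // P v} = Fintype.card (Fin m ⊕ Fin m → F) :=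
    Fintype.card_of_subtype Finset.univ (fun v => ⟨fun _ => hP v, fun _ => Finset.mem_univ v⟩)
  rw [Nat.card_eq_fintype_card, Nat.card_eq_fintype_card] at hcard
  omega

/-- Conjugacy of involutions in the symplectic group Sp_{2m}(F), F a finite field of characteristic two, m ≥ 2 (Sp taken as the matrices A with A J Aᵀ = J, acting on column vectors, with the alternating form f(u, v) = u ⬝ (J v)). For an involution t write V(t) for the set of vectors v with f(v, t v) = 0 (a subspace). Two involutions a, b are conjugate in Sp_{2m}(F) exactly when a − 1 and b − 1 have the same rank and, in case that rank is even, V(a) and V(b) have the same number of elements. -/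
theorem result {F : Type*} [Field F] [Fintype F] [CharP F 2] {m : ℕ} (hm : 2 ≤ m) (a b : ↥(Matrix.symplecticGroup (Fin m) F)) (ha : orderOf a = 2) (hb : orderOf b = 2) :
    IsConj a b ↔ ((((a : ↥(Matrix.symplecticGroup (Fin m) F)) : Matrix (Fin m ⊕ Fin m) (Fin m ⊕ Fin m) F) - 1).rank = (((b : ↥(Matrix.symplecticGroup (Fin m) F)) : Matrix (Fin m ⊕ Fin m) (Fin m ⊕ Fin m) F) - 1).rank ∧
      (Even (((a : ↥(Matrix.symplecticGroup (Fin m) F)) : Matrix (Fin m ⊕ Fin m) (Fin m ⊕ Fin m) F) - 1).rank → Nat.card {v : Fin m ⊕ Fin m → F // Cfsg.sympForm m F v (Matrix.mulVec ((a : ↥(Matrix.symplecticGroup (Fin m) F)) : Matrix (Fin m ⊕ Fin m) (Fin m ⊕ Fin m) F) v) = 0} = Nat.card {v : Fin m ⊕ Fin m → F // Cfsg.sympForm m F v (Matrix.mulVec ((b : ↥(Matrix.symplecticGroup (Fin m) F)) : Matrix (Fin m ⊕ Fin m) (Fin m ⊕ Fin m) F) v) = 0})) := by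
  have haa : a * a = 1 := by
    have := pow_orderOf_eq_one a
    rwa [ha, pow_two] at this
  have hbb : b * b = 1 := by
    have := pow_orderOf_eq_one b
    rwa [hb, pow_two] at this
  constructor
  · intro h
    exact ⟨rank_of_isConj a b h, fun _ => card_of_isConj a b h⟩
  · rintro ⟨hrank, hcard⟩
    apply invol_conj a b haa hbb hrank
    constructor
    · intro halt
      have heven := even_rank_of_alt haa halt
      rw [Nof_alt_iff]
      exact all_of_card _ _ ((Nof_alt_iff a).mp halt) (hcard heven)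
    · intro halt
      have heven := even_rank_of_alt hbb halt
      rw [← hrank] at heven
      rw [Nof_alt_iff]
      exact all_of_card _ _ ((Nof_alt_iff b).mp halt) (hcard heven).symm

end Cfsg.Agent.S2166
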