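import Cfsg.Statements.S2593
import Mathlib
import Cfsg.Agent.Lib.Helper27.SpInvol2
import Cfsg.Agent.S2166

set_option autoImplicit false
open Cfsg

namespace Cfsg.Agent.S2593

open Matrix Cfsg.Agent.Lib.Helper27.SympTransv Cfsg.Agent.Lib.Helper27.SpInvol

variable {F : Type*} [Field F] {m : ℕ}

/-- The type of an involution: whether `f(v, t v)` vanishes identically. -/
def IsAlt (a : ↥(Matrix.symplecticGroup (Fin m) F)) : Prop :=
  ∀ v, sympForm m F (Nof a v) v = 0

/-- The rank of `a - 1`. -/
noncomputable def rk (a : ↥(Matrix.symplecticGroup (Fin m) F)) : ℕ :=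
  ((a : Matrix (Fin m ⊕ Fin m) (Fin m ⊕ Fin m) F) - 1).rank

theorem alt_of_isConj (a b : ↥(Matrix.symplecticGroup (Fin m) F)) (h : IsConj a b)
    (ha : IsAlt a) : IsAlt b := by
  obtain ⟨c, h1⟩ := Cfsg.Agent.S2166.conj_data a b h
  unfold IsAlt at ha ⊢
  rw [Nof_alt_iff] at ha ⊢
  intro w
  have hw : w = act c (act c⁻¹ w) := (act_act_inv c w).symm
  have h2 : sympForm m F (act c (act c⁻¹ w)) (act b (act c (act c⁻¹ w))) = 0 := by
    rw [← act_mul b c, ← h1, act_mul, act_preserves]
    exact ha _
  rw [← hw] at h2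
  exact h2

theorem alt_iff_of_isConj (a b : ↥(Matrix.symplecticGroup (Fin m) F)) (h : IsConj a b) :
    IsAlt a ↔ IsAlt b :=
  ⟨alt_of_isConj a b h, alt_of_isConj b a h.symm⟩

section

variable [Fintype F] [CharP F 2]

theorem sq_of_order {a : ↥(Matrix.symplecticGroup (Fin m) F)} (ha : orderOf a = 2) :
    a * a = 1 := by
  have := pow_orderOf_eq_one a
  rwa [ha, pow_two] at this

theorem rk_pos {a : ↥(Matrix.symplecticGroup (Fin m) F)} (ha : orderOf a = 2) : 1 ≤ rk a := by
  by_contra h
  have h0 : Module.finrank F (LinearMap.range (Nof a)) = 0 := by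
    rw [Nof_rank]
    unfold rk at h
    omega
  have hbot : LinearMap.range (Nof a) = ⊥ := Submodule.finrank_eq_zero.mp h0
  have h1 : a = 1 := by
    apply act_ext
    intro v
    have : Nof a v ∈ LinearMap.range (Nof a) := LinearMap.mem_range_self _ v
    rw [hbot, Submodule.mem_bot, Nof_apply, sub_eq_zero] at this
    rw [this, act_one]
  rw [h1, orderOf_one] at ha
  omega

theorem rk_le {a : ↥(Matrix.symplecticGroup (Fin m) F)} (ha : orderOf a = 2) : rk a ≤ m := by
  have haa := sq_of_order ha
  have := rank_le_of_sq_zero (Nof_sadj haa) (Nof_sq haa)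
  rw [Nof_rank] at this
  exact this

/-- Standard involution of non-alternating type. -/
noncomputable def gO (s : ℕ) (hs : s ≤ m) : ↥(Matrix.symplecticGroup (Fin m) F) :=
  stdG (ι := Fin s) id (fun _ => rfl) (Fin.castLE hs)

/-- The index map for the alternating type. -/
def jA (k : ℕ) (hk : 2 * k ≤ m) : Fin k ⊕ Fin k → Fin m :=
  Sum.elim (fun i => ⟨i, by have := i.2; omega⟩) (fun i => ⟨k + i, by have := i.2; omega⟩)

theorem jA_injective (k : ℕ) (hk : 2 * k ≤ m) : Function.Injective (jA k hk) := by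
  rintro (i | i) (i' | i') h
  · have := congrArg Fin.val h
    simp only [jA, Sum.elim_inl] at this
    rw [Fin.ext this]
  · have := congrArg Fin.val h
    simp only [jA, Sum.elim_inl, Sum.elim_inr] at this
    have := i.2
    omega
  · have := congrArg Fin.val h
    simp only [jA, Sum.elim_inl, Sum.elim_inr] at this
    have := i'.2
    omega
  · have := congrArg Fin.val h
    simp only [jA, Sum.elim_inr] at this
    have : (i : ℕ) = i' := by omega
    rw [Fin.ext this]

/-- Standard involution of alternating type. -/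
noncomputable def gA (k : ℕ) (hk : 2 * k ≤ m) : ↥(Matrix.symplecticGroup (Fin m) F) :=
  stdG (ι := Fin k ⊕ Fin k) Sum.swap (fun s => Sum.swap_swap s) (jA k hk)

theorem rk_gO (s : ℕ) (hs : s ≤ m) : rk (gO (F := F) s hs) = s := by
  unfold rk gO
  rw [← Nof_rank, Nof_stdG, stdN_rank _ (fun _ => rfl) _ (Fin.castLE_injective hs),
    Fintype.card_fin]

theorem rk_gA (k : ℕ) (hk : 2 * k ≤ m) : rk (gA (F := F) k hk) = 2 * k := by
  unfold rk gA
  rw [← Nof_rank, Nof_stdG, stdN_rank _ (fun s => Sum.swap_swap s) _ (jA_injective k hk),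
    Fintype.card_sum, Fintype.card_fin]
  ring

theorem gO_sq (s : ℕ) (hs : s ≤ m) : gO (F := F) s hs * gO s hs = 1 := stdG_sq _ _ _

theorem gA_sq (k : ℕ) (hk : 2 * k ≤ m) : gA (F := F) k hk * gA k hk = 1 := stdG_sq _ _ _

theorem order_of_sq {a : ↥(Matrix.symplecticGroup (Fin m) F)} (haa : a * a = 1)
    (hr : 1 ≤ rk a) : orderOf a = 2 := by
  apply orderOf_eq_prime
  · rw [pow_two, haa]
  · rintro rfl
    unfold rk at hr
    rw [OneMemClass.coe_one, sub_self, Matrix.rank_zero] at hr
    omega

theorem not_alt_gO (s : ℕ) (hs : s ≤ m) (hs1 : 1 ≤ s) : ¬ IsAlt (gO (F := F) s hs) := by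
  intro h
  have h1 := h (stdF (Fin.castLE hs) (⟨0, hs1⟩ : Fin s))
  unfold gO at h1
  rw [Nof_stdG] at h1
  have h2 := stdN_gsys (F := F) (id : Fin s → Fin s) (Fin.castLE hs) (Fin.castLE_injective hs)
    ⟨0, hs1⟩ ⟨0, hs1⟩
  rw [h1, id, if_pos rfl] at h2
  exact zero_ne_one h2

theorem alt_gA (k : ℕ) (hk : 2 * k ≤ m) : IsAlt (gA (F := F) k hk) := by
  intro v
  unfold gA
  rw [Nof_stdG, stdN_apply, sf_sum_left, Fintype.sum_sum_type]
  simp only [Sum.swap_inl, Sum.swap_inr, sf_smul_left]
  rw [← Finset.sum_add_distrib]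
  apply Finset.sum_eq_zero
  intro i _
  rw [sf_swap v (stdE (jA k hk) (Sum.inr i)), sf_swap v (stdE (jA k hk) (Sum.inl i))]
  have : ∀ x y : F, x * -y + y * -x = -((2 : F) * (x * y)) := by intro x y; ring
  have h2 : (2 : F) = 0 := CharP.cast_eq_zero F 2
  rw [this, h2, zero_mul, neg_zero]


theorem rk_of_isConj (a b : ↥(Matrix.symplecticGroup (Fin m) F)) (h : IsConj a b) :
    rk a = rk b := Cfsg.Agent.S2166.rank_of_isConj a b h

/-- The class of the standard non-alternating involution of rank `i + 1`. -/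
noncomputable def ΦO (i : Fin m) : {C : ConjClasses ↥(Matrix.symplecticGroup (Fin m) F) //
    ∃ g : Matrix.symplecticGroup (Fin m) F, ConjClasses.mk g = C ∧ orderOf g = 2} :=
  ⟨ConjClasses.mk (gO (i + 1) (by have := i.2; omega)),
    gO (i + 1) (by have := i.2; omega), rfl,
    order_of_sq (gO_sq _ _) (by rw [rk_gO]; omega)⟩

/-- The class of the standard alternating involution of rank `2 (k + 1)`. -/
noncomputable def ΦA (k : Fin (m / 2)) : {C : ConjClasses ↥(Matrix.symplecticGroup (Fin m) F) //
    ∃ g : Matrix.symplecticGroup (Fin m) F, ConjClasses.mk g = C ∧ orderOf g = 2} :=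
  ⟨ConjClasses.mk (gA (k + 1) (by have := k.2; omega)),
    gA (k + 1) (by have := k.2; omega), rfl,
    order_of_sq (gA_sq _ _) (by rw [rk_gA]; omega)⟩

theorem ΦO_conj {i i' : Fin m} (h : ΦO (F := F) i = ΦO i') :
    IsConj (gO (F := F) (m := m) (i + 1) (by have := i.2; omega))
      (gO (F := F) (m := m) (i' + 1) (by have := i'.2; omega)) :=
  ConjClasses.mk_eq_mk_iff_isConj.mp (congrArg Subtype.val h)

theorem ΦOA_conj {i : Fin m} {k : Fin (m / 2)} (h : ΦO (F := F) i = ΦA k) :
    IsConj (gO (F := F) (m := m) (i + 1) (by have := i.2; omega))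
      (gA (F := F) (m := m) (k + 1) (by have := k.2; omega)) :=
  ConjClasses.mk_eq_mk_iff_isConj.mp (congrArg Subtype.val h)

theorem ΦA_conj {k k' : Fin (m / 2)} (h : ΦA (F := F) k = ΦA k') :
    IsConj (gA (F := F) (m := m) (k + 1) (by have := k.2; omega))
      (gA (F := F) (m := m) (k' + 1) (by have := k'.2; omega)) :=
  ConjClasses.mk_eq_mk_iff_isConj.mp (congrArg Subtype.val h)

theorem Φ_bijective : Function.Bijective
    (Sum.elim (ΦO (F := F) (m := m)) (ΦA (F := F) (m := m))) := by
  constructor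
  · rintro (i | k) (i' | k') h
    · simp only [Sum.elim_inl] at h
      have h1 := rk_of_isConj _ _ (ΦO_conj h)
      rw [rk_gO, rk_gO] at h1
      have : (i : ℕ) = i' := by omega
      rw [Fin.ext this]
    · exfalso
      simp only [Sum.elim_inl, Sum.elim_inr] at h
      have h1 := ΦOA_conj h
      exact not_alt_gO _ _ (by omega) ((alt_iff_of_isConj _ _ h1).mpr (alt_gA _ _))
    · exfalso
      simp only [Sum.elim_inl, Sum.elim_inr] at h
      have h1 := ΦOA_conj h.symm
      exact not_alt_gO _ _ (by omega) ((alt_iff_of_isConj _ _ h1).mpr (alt_gA _ _))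
    · simp only [Sum.elim_inr] at h
      have h1 := rk_of_isConj _ _ (ΦA_conj h)
      rw [rk_gA, rk_gA] at h1
      have : (k : ℕ) = k' := by omega
      rw [Fin.ext this]
  · rintro ⟨C, g, rfl, hg⟩
    have hgg := sq_of_order hg
    have h1 := rk_pos hg
    have h2 := rk_le hg
    by_cases halt : IsAlt g
    · have heven := even_rank_of_alt hgg halt
      obtain ⟨k, hk⟩ := heven
      have hk' : rk g = k + k := hk
      refine ⟨Sum.inr ⟨k - 1, by omega⟩, ?_⟩
      apply Subtype.ext
      simp only [Sum.elim_inr]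
      show ConjClasses.mk (gA (k - 1 + 1) _) = ConjClasses.mk g
      rw [ConjClasses.mk_eq_mk_iff_isConj]
      apply IsConj.symm
      apply invol_conj g _ hgg (gA_sq _ _)
      · show rk g = rk _
        rw [rk_gA, hk']
        omega
      · exact ⟨fun _ => alt_gA _ _, fun _ => halt⟩
    · refine ⟨Sum.inl ⟨rk g - 1, by omega⟩, ?_⟩
      apply Subtype.ext
      simp only [Sum.elim_inl]
      show ConjClasses.mk (gO (rk g - 1 + 1) _) = ConjClasses.mk g
      rw [ConjClasses.mk_eq_mk_iff_isConj]
      apply IsConj.symm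
      apply invol_conj g _ hgg (gO_sq _ _)
      · show rk g = rk _
        rw [rk_gO]
        omega
      · exact ⟨fun h => absurd h halt, fun h => absurd h (not_alt_gO _ _ (by omega))⟩

end

/-- Number of conjugacy classes of involutions in the symplectic group Sp_2m(F) over a finite field of characteristic two (m ≥ 1): for each s with 1 ≤ s ≤ m there is one class with rank(t − 1) = s if s is odd and two if s is even (according as v ↦ f(v, tv), f the symplectic form, vanishes identically or not), so m + ⌊m/2⌋ classes in all. -/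
theorem result {F : Type*} [Field F] [Fintype F] [CharP F 2] {m : ℕ} (hm : 1 ≤ m) : Nat.card {C : ConjClasses ↥(Matrix.symplecticGroup (Fin m) F) // ∃ g : Matrix.symplecticGroup (Fin m) F, ConjClasses.mk g = C ∧ orderOf g = 2} = m + m / 2 := by
  rw [← Nat.card_congr (Equiv.ofBijective _ (Φ_bijective (F := F) (m := m))),
    Nat.card_eq_fintype_card, Fintype.card_sum, Fintype.card_fin, Fintype.card_fin]

end Cfsg.Agent.S2593
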