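import Cfsg.Statements.S0287
import Mathlib
import Cfsg.Agent.Lib.Helper19.QuadStd

set_option autoImplicit false
open Cfsg

namespace Cfsg.Agent.S0287

open QuadraticMap Cfsg.Agent.Lib.Helper19.QuadWitt Cfsg.Agent.Lib.Helper19.QuadStd

section num

/-- The number of singular vectors in the complement of a `k`-frame. -/
def zeta (q m k : ℕ) : ℕ := (q ^ (m - k) - 1) * (q ^ (m - k - 1) + 1) + 1

lemma zeta_self (q m : ℕ) : zeta q m m = 1 := by
  unfold zeta
  simp

lemma zeta_rec (q m k : ℕ) (hq : 1 ≤ q) (hk : k < m) :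
    zeta q m k = q * zeta q m (k + 1) + (q - 1) * q ^ (2 * m - (k + 1 + (k + 1))) := by
  unfold zeta
  obtain ⟨t, ht⟩ : ∃ t, m - k = t + 1 := ⟨m - k - 1, by omega⟩
  have h1 : m - k - 1 = t := by omega
  have h2 : m - (k + 1) = t := by omega
  have h3 : 2 * m - (k + 1 + (k + 1)) = 2 * t := by omega
  rw [h1, h2, h3, ht]
  rcases t with _ | s
  · simp
    have : q = (q - 1) + 1 := by omega
    generalize q - 1 = r at this
    subst this
    ring
  · have e1 : s + 1 - 1 = s := by omega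
    rw [e1]
    have hA : 1 ≤ q ^ s := Nat.one_le_pow _ _ hq
    have hB : 1 ≤ q ^ (s + 1) := Nat.one_le_pow _ _ hq
    have hC : 1 ≤ q ^ (s + 1 + 1) := Nat.one_le_pow _ _ hq
    zify [hA, hB, hC, hq]
    ring

/-- The reflected factor. -/
def gfac (q j : ℕ) : ℕ := ((q ^ (j + 1) - 1) * (q ^ j + 1)) * q ^ (2 * j)

lemma prod_reflect (q m : ℕ) :
    ∏ i ∈ Finset.range m, ((zeta q m i - 1) * q ^ (2 * m - (i + 1 + (i + 1)))) =
      ∏ j ∈ Finset.range m, gfac q j := by
  rw [← Finset.prod_range_reflect]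
  apply Finset.prod_congr rfl
  intro i hi
  rw [Finset.mem_range] at hi
  unfold zeta gfac
  have h1 : m - (m - 1 - i) = i + 1 := by omega
  have h2 : m - (m - 1 - i) - 1 = i := by omega
  have h3 : 2 * m - (m - 1 - i + 1 + (m - 1 - i + 1)) = 2 * i := by omega
  rw [h3, h2, h1, Nat.add_sub_cancel]

lemma prod_gfac (q : ℕ) (hq : 1 ≤ q) (n : ℕ) :
    ∏ j ∈ Finset.range (n + 1), gfac q j =
      2 * q ^ ((n + 1) * n) * (q ^ (n + 1) - 1) *
        ∏ i ∈ Finset.range n, (q ^ (2 * (i + 1)) - 1) := by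
  induction n with
  | zero =>
    simp [gfac]
    ring
  | succ n ih =>
    rw [Finset.prod_range_succ, ih, Finset.prod_range_succ (fun i => q ^ (2 * (i + 1)) - 1)]
    unfold gfac
    have hsq : (q ^ (n + 1) - 1) * (q ^ (n + 1) + 1) = q ^ (2 * (n + 1)) - 1 := by
      have hA : 1 ≤ q ^ (n + 1) := Nat.one_le_pow _ _ hq
      have hB : 1 ≤ q ^ (2 * (n + 1)) := Nat.one_le_pow _ _ hq
      zify [hA, hB]
      ring
    rw [← hsq]
    have hexp : q ^ ((n + 1 + 1) * (n + 1)) = q ^ ((n + 1) * n) * q ^ (2 * (n + 1)) := by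
      rw [← pow_add]
      congr 1
      ring
    rw [hexp]
    ring

end num

section main

variable {F : Type*} [Field F] [Fintype F]

lemma Zp_full (m : ℕ) {e f : Fin m → (Fin m ⊕ Fin m → F)} (h : IsHyp (stdPlus m F) e f) :
    Zp (stdPlus m F) e f = 1 := by
  have hdim := finrank_perp_eq h
  rw [Module.finrank_fintype_fun_eq_card, Fintype.card_sum, Fintype.card_fin] at hdim
  have h0 : Module.finrank F ↥(perp (stdPlus m F) e f) = 0 := by omega
  have hbot : perp (stdPlus m F) e f = ⊥ := Submodule.finrank_eq_zero.1 h0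
  unfold Zp
  rw [Nat.card_eq_one_iff_unique]
  refine ⟨⟨?_⟩, ⟨⟨0, Submodule.zero_mem _, QuadraticMap.map_zero _⟩⟩⟩
  rintro ⟨a, ha, -⟩ ⟨b, hb, -⟩
  apply Subtype.ext
  have ha' := ha
  have hb' := hb
  rw [hbot, Submodule.mem_bot] at ha' hb'
  show a = b
  rw [ha', hb']

end main

/-- |GO^+_{2m}(q)| = 2 q^(m(m-1)) (q^m - 1) prod_{i=1}^{m-1} (q^(2i) - 1), m at least 1, all q. -/
theorem result {F : Type*} [Field F] [Fintype F] {q : ℕ} (hF : Fintype.card F = q) (m : ℕ) (hm : 1 ≤ m) : Nat.card (Cfsg.isometryGroup F (Cfsg.quadFormPlus m F)) = 2 * q ^ (m * (m - 1)) * (q ^ m - 1) * ∏ i ∈ Finset.range (m - 1), (q ^ (2 * (i + 1)) - 1) := by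
  classical
  have hq : 1 ≤ q := by
    rw [← hF]
    exact Fintype.card_pos
  rw [← coe_stdPlus, card_isometryGroup_eq _ (stdPlus_nondeg m), Nat.card_congr (plusFamEquiv m)]
  have hE := (stdFamId (stdPlus m F)).plus_isHyp
  have hdim : Module.finrank F (Fin m ⊕ Fin m → F) = 2 * m := by
    rw [Module.finrank_fintype_fun_eq_card, Fintype.card_sum, Fintype.card_fin]
    ring
  have key := card_frames (stdPlus_nondeg m) hE (zeta q m)
    (by rw [zeta_self, Zp_full m hE])
    (by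
      intro k hk
      rw [hF, hdim]
      exact zeta_rec q m k hq hk) m le_rfl
  rw [key, hF, hdim, prod_reflect]
  obtain ⟨n, rfl⟩ : ∃ n, m = n + 1 := ⟨m - 1, by omega⟩
  rw [prod_gfac q hq n, Nat.add_sub_cancel]

end Cfsg.Agent.S0287
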