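import Cfsg.Statements.S0288
import Mathlib
import Cfsg.Agent.Lib.Helper19.QuadMinus

set_option autoImplicit false
open Cfsg

namespace Cfsg.Agent.S0288

open Cfsg.Agent.Lib.Helper19.QuadMinus

section num

/-- The number of singular vectors in the complement of a `k`-frame. -/
def zeta (q n k : ℕ) : ℕ := (q ^ (n - k + 1) + 1) * (q ^ (n - k) - 1) + 1

lemma zeta_self (q n : ℕ) : zeta q n n = 1 := by
  unfold zeta
  simp

lemma zeta_rec (q n k : ℕ) (hq : 1 ≤ q) (hk : k < n) :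
    zeta q n k = q * zeta q n (k + 1) + (q - 1) * q ^ (n + n + 2 - (k + 1 + (k + 1))) := by
  unfold zeta
  obtain ⟨t, ht⟩ : ∃ t, n - (k + 1) = t := ⟨_, rfl⟩
  have h1 : n - k = t + 1 := by omega
  have h3 : n + n + 2 - (k + 1 + (k + 1)) = 2 * t + 2 := by omega
  rw [h1, ht, h3]
  have hA : 1 ≤ q ^ t := Nat.one_le_pow _ _ hq
  have hB : 1 ≤ q ^ (t + 1) := Nat.one_le_pow _ _ hq
  zify [hA, hB, hq]
  ring

lemma prod_reflect (q n : ℕ) :
    ∏ i ∈ Finset.range n, ((zeta q n i - 1) * q ^ (n + n + 2 - (i + 1 + (i + 1)))) =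
      ∏ j ∈ Finset.range n, (((q ^ (j + 2) + 1) * (q ^ (j + 1) - 1)) * q ^ (2 * (j + 1))) := by
  rw [← Finset.prod_range_reflect]
  apply Finset.prod_congr rfl
  intro i hi
  rw [Finset.mem_range] at hi
  unfold zeta
  have h1 : n - (n - 1 - i) = i + 1 := by omega
  have h3 : n + n + 2 - (n - 1 - i + 1 + (n - 1 - i + 1)) = 2 * (i + 1) := by omega
  rw [h3, h1, Nat.add_sub_cancel]

lemma prod_fac (q : ℕ) (hq : 1 ≤ q) (n : ℕ) :
    (∏ j ∈ Finset.range n, (((q ^ (j + 2) + 1) * (q ^ (j + 1) - 1)) * q ^ (2 * (j + 1)))) *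
        (2 * (q + 1)) =
      2 * q ^ ((n + 1) * n) * (q ^ (n + 1) + 1) *
        ∏ i ∈ Finset.range n, (q ^ (2 * (i + 1)) - 1) := by
  induction n with
  | zero => simp
  | succ n ih =>
    rw [Finset.prod_range_succ, Finset.prod_range_succ (fun i => q ^ (2 * (i + 1)) - 1)]
    have hsq : (q ^ (n + 1) + 1) * (q ^ (n + 1) - 1) = q ^ (2 * (n + 1)) - 1 := by
      have hA : 1 ≤ q ^ (n + 1) := Nat.one_le_pow _ _ hq
      have hB : 1 ≤ q ^ (2 * (n + 1)) := Nat.one_le_pow _ _ hq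
      zify [hA, hB]
      ring
    rw [← hsq]
    have hexp : q ^ ((n + 1 + 1) * (n + 1)) = q ^ ((n + 1) * n) * q ^ (2 * (n + 1)) := by
      rw [← pow_add]
      congr 1
      ring
    rw [hexp]
    calc (∏ j ∈ Finset.range n, (((q ^ (j + 2) + 1) * (q ^ (j + 1) - 1)) * q ^ (2 * (j + 1)))) *
          ((q ^ (n + 2) + 1) * (q ^ (n + 1) - 1) * q ^ (2 * (n + 1))) * (2 * (q + 1))
        = ((∏ j ∈ Finset.range n, (((q ^ (j + 2) + 1) * (q ^ (j + 1) - 1)) * q ^ (2 * (j + 1)))) *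
          (2 * (q + 1))) * ((q ^ (n + 2) + 1) * (q ^ (n + 1) - 1) * q ^ (2 * (n + 1))) := by ring
      _ = _ := by
        rw [ih]
        ring

end num

/-- |GO^-_{2m}(q)| = 2 q^(m(m-1)) (q^m + 1) prod_{i=1}^{m-1} (q^(2i) - 1), m at least 1, all q; the form is quadFormMinus (m-1) with an anisotropic binary part. -/
theorem result {F : Type*} [Field F] [Fintype F] {q : ℕ} (hF : Fintype.card F = q) (m : ℕ) (hm : 1 ≤ m) (a b : F) (hab : ∀ z₁ z₂ : F, z₁ ^ 2 + a * z₁ * z₂ + b * z₂ ^ 2 = 0 → z₁ = 0 ∧ z₂ = 0) : Nat.card (Cfsg.isometryGroup F (Cfsg.quadFormMinus (m - 1) F a b)) = 2 * q ^ (m * (m - 1)) * (q ^ m + 1) * ∏ i ∈ Finset.range (m - 1), (q ^ (2 * (i + 1)) - 1) := by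
  have hq : 1 ≤ q := by
    rw [← hF]
    exact Fintype.card_pos
  obtain ⟨n, rfl⟩ : ∃ n, m = n + 1 := ⟨m - 1, by omega⟩
  rw [Nat.add_sub_cancel]
  rw [card_isometryGroup_minus hF n a b hab (zeta q n) (zeta_self q n)
    (fun k hk => zeta_rec q n k hq hk), prod_reflect, prod_fac q hq n]

end Cfsg.Agent.S0288
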