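import Cfsg.Statements.S2678
import Mathlib

set_option autoImplicit false
open Cfsg


namespace Cfsg.Agent.S2678

open Matrix Kronecker

section general

variable {F K : Type*} [Field F] [Field K] [Algebra F K] {d : Type*} [Fintype d] [DecidableEq d]
  (b : Module.Basis d F K) {n : Type*} [Fintype n] [DecidableEq n]

/-- Restriction of scalars on matrices. -/
noncomputable def R₁ : Matrix n n K →+* Matrix (n × d) (n × d) F :=
  (Matrix.compRingEquiv n d F).toRingHom.comp (Algebra.leftMulMatrix b).toRingHom.mapMatrix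

lemma R₁_apply (A : Matrix n n K) (i j : n) (s t : d) :
    R₁ b A (i, s) (j, t) = Algebra.leftMulMatrix b (A i j) s t := rfl

lemma R₁_injective : Function.Injective (R₁ (n := n) b) := by
  intro A B h
  ext i j
  apply Algebra.leftMulMatrix_injective b
  ext s t
  have := congrFun (congrFun h (i, s)) (j, t)
  simpa [R₁_apply] using this

/-- The trace-form Gram matrix. -/
noncomputable def SS : Matrix d d F := Matrix.of fun s t => Algebra.trace F K (b s * b t)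

lemma SS_symm : (SS b)ᵀ = SS b := by
  ext s t
  simp [SS, mul_comm]

lemma SS_mul_leftMul (x : K) (s t : d) :
    (SS b * Algebra.leftMulMatrix b x) s t = Algebra.trace F K (b s * (x * b t)) := by
  rw [Matrix.mul_apply]
  have hx : x * b t = ∑ u, (Algebra.leftMulMatrix b x u t) • b u := by
    conv_lhs => rw [← b.sum_repr (x * b t)]
    apply Finset.sum_congr rfl
    intro u _
    rw [Algebra.leftMulMatrix_eq_repr_mul]
  rw [hx, Finset.mul_sum, map_sum]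
  apply Finset.sum_congr rfl
  intro u _
  rw [mul_smul_comm, map_smul, smul_eq_mul, mul_comm]
  rfl

lemma SS_comm (x : K) :
    (Algebra.leftMulMatrix b x)ᵀ * SS b = SS b * Algebra.leftMulMatrix b x := by
  have h : (SS b * Algebra.leftMulMatrix b x)ᵀ = SS b * Algebra.leftMulMatrix b x := by
    ext s t
    rw [Matrix.transpose_apply, SS_mul_leftMul, SS_mul_leftMul]
    congr 1
    ring
  rw [← h, Matrix.transpose_mul, SS_symm]

lemma K1 (A : Matrix n n K) :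
    (R₁ b A)ᵀ * ((1 : Matrix n n F) ⊗ₖ SS b) = ((1 : Matrix n n F) ⊗ₖ SS b) * R₁ b Aᵀ := by
  ext ⟨i, s⟩ ⟨j, t⟩
  rw [Matrix.mul_apply, Matrix.mul_apply, Fintype.sum_prod_type, Fintype.sum_prod_type]
  simp only [Matrix.transpose_apply, R₁_apply, kronecker_apply, Matrix.one_apply]
  have h1 : ∀ k : n, ∑ u, Algebra.leftMulMatrix b (A k i) u s * ((if k = j then 1 else 0) * SS b u t)
      = if k = j then ∑ u, Algebra.leftMulMatrix b (A k i) u s * SS b u t else 0 := by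
    intro k
    split_ifs with h
    · simp
    · simp
  have h2 : ∀ k : n, ∑ u, (if i = k then 1 else 0) * SS b s u * Algebra.leftMulMatrix b (A j k) u t
      = if i = k then ∑ u, SS b s u * Algebra.leftMulMatrix b (A j k) u t else 0 := by
    intro k
    split_ifs with h
    · simp
    · simp
  simp only [h1, h2, Finset.sum_ite_eq, Finset.sum_ite_eq', Finset.mem_univ, if_true]
  have := congrFun (congrFun (SS_comm b (A j i)) s) t
  rw [Matrix.mul_apply, Matrix.mul_apply] at this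
  simpa [Matrix.transpose_apply] using this

lemma K2 (C : Matrix n n F) :
    R₁ b (C.map (algebraMap F K)) = C ⊗ₖ (1 : Matrix d d F) := by
  ext ⟨i, s⟩ ⟨j, t⟩
  rw [R₁_apply, kronecker_apply, Matrix.map_apply, AlgHom.commutes, Matrix.algebraMap_matrix_apply]
  simp [Matrix.one_apply]

end general


section symp

variable {F : Type*} [Field F] {d : Type*} [Fintype d] [DecidableEq d]
  {l : Type*} [Fintype l] [DecidableEq l]

/-- Diagonal idempotents. -/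
def E₁ (F : Type*) [Field F] (l : Type*) [DecidableEq l] : Matrix (l ⊕ l) (l ⊕ l) F :=
  fromBlocks 1 0 0 0
def E₂ (F : Type*) [Field F] (l : Type*) [DecidableEq l] : Matrix (l ⊕ l) (l ⊕ l) F :=
  fromBlocks 0 0 0 1

lemma E₁_mul_E₁ : E₁ F l * E₁ F l = E₁ F l := by simp [E₁, fromBlocks_multiply]
lemma E₂_mul_E₂ : E₂ F l * E₂ F l = E₂ F l := by simp [E₂, fromBlocks_multiply]
lemma E₁_mul_E₂ : E₁ F l * E₂ F l = 0 := by simp [E₁, E₂, fromBlocks_multiply]
lemma E₂_mul_E₁ : E₂ F l * E₁ F l = 0 := by simp [E₁, E₂, fromBlocks_multiply]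
lemma E₁_add_E₂ : E₁ F l + E₂ F l = 1 := by
  simp [E₁, E₂, fromBlocks_add, fromBlocks_one]
lemma E₁_transpose : (E₁ F l)ᵀ = E₁ F l := by simp [E₁, fromBlocks_transpose]
lemma E₂_transpose : (E₂ F l)ᵀ = E₂ F l := by simp [E₂, fromBlocks_transpose]

lemma E_J_E : E₁ F l * J l F * E₂ F l + E₂ F l * J l F * E₁ F l = J l F := by
  simp [E₁, E₂, J, fromBlocks_multiply, fromBlocks_add]
lemma E₁_J_E₁ : E₁ F l * J l F * E₁ F l = 0 := by
  simp [E₁, J, fromBlocks_multiply]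
lemma E₂_J_E₂ : E₂ F l * J l F * E₂ F l = 0 := by
  simp [E₂, J, fromBlocks_multiply]

variable (S Si : Matrix d d F) (hS1 : S * Si = 1) (hS2 : Si * S = 1) (hSt : Sᵀ = S)

/-- The change of basis. -/
def P₁ (l : Type*) [DecidableEq l] (S : Matrix d d F) :
    Matrix ((l ⊕ l) × d) ((l ⊕ l) × d) F :=
  E₁ F l ⊗ₖ (1 : Matrix d d F) + E₂ F l ⊗ₖ S

include hS1 in
lemma P₁_mul_Q₁ : P₁ l S * P₁ l Si = 1 := by
  unfold P₁
  rw [add_mul, mul_add, mul_add, ← mul_kronecker_mul, ← mul_kronecker_mul, ← mul_kronecker_mul,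
    ← mul_kronecker_mul, E₁_mul_E₁, E₁_mul_E₂, E₂_mul_E₁, E₂_mul_E₂, hS1, one_mul]
  simp only [zero_kronecker, add_zero, zero_add]
  rw [← add_kronecker, E₁_add_E₂, one_kronecker_one]

include hSt in
lemma P₁_transpose : (P₁ l S)ᵀ = P₁ l S := by
  unfold P₁
  rw [transpose_add, ← kroneckerMap_transpose, ← kroneckerMap_transpose, E₁_transpose,
    E₂_transpose, transpose_one, hSt]

include hS1 hS2 hSt in
lemma P₁_J : P₁ l S * (J l F ⊗ₖ Si) * (P₁ l S)ᵀ = J l F ⊗ₖ (1 : Matrix d d F) := by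
  rw [P₁_transpose S hSt]
  unfold P₁
  have e : ∀ (A B C : Matrix (l ⊕ l) (l ⊕ l) F) (X Y Z : Matrix d d F),
      (A ⊗ₖ X) * (B ⊗ₖ Y) * (C ⊗ₖ Z) = (A * B * C) ⊗ₖ (X * Y * Z) := by
    intros
    rw [← mul_kronecker_mul, ← mul_kronecker_mul]
  simp only [add_mul, mul_add, e, E₁_J_E₁, E₂_J_E₂, zero_kronecker, add_zero, zero_add, one_mul,
    mul_one, hS1, hS2]
  rw [← add_kronecker, add_comm, E_J_E]

end symp


section embed

variable {F K : Type*} [Field F] [Field K] [Algebra F K] {d : Type*} [Fintype d] [DecidableEq d]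
  (b : Module.Basis d F K) {l : Type*} [Fintype l] [DecidableEq l]
  (Si : Matrix d d F) (hS1 : SS b * Si = 1) (hS2 : Si * SS b = 1)

include hS1 hS2 in
lemma invariance (A : Matrix (l ⊕ l) (l ⊕ l) K) (hA : A * J l K * Aᵀ = J l K) :
    R₁ b A * (J l F ⊗ₖ Si) * (R₁ b A)ᵀ = J l F ⊗ₖ Si := by
  have hJ : R₁ b (J l K) = J l F ⊗ₖ (1 : Matrix d d F) := by
    rw [← K2 b (J l F), map_J]
  have h11 : ((1 : Matrix (l ⊕ l) (l ⊕ l) F) ⊗ₖ SS b) * ((1 : Matrix (l ⊕ l) (l ⊕ l) F) ⊗ₖ Si)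
      = 1 := by
    rw [← mul_kronecker_mul, one_mul, hS1, one_kronecker_one]
  have h12 : ((1 : Matrix (l ⊕ l) (l ⊕ l) F) ⊗ₖ Si) * ((1 : Matrix (l ⊕ l) (l ⊕ l) F) ⊗ₖ SS b)
      = 1 := by
    rw [← mul_kronecker_mul, one_mul, hS2, one_kronecker_one]
  have hsplit : J l F ⊗ₖ Si = (J l F ⊗ₖ (1 : Matrix d d F)) *
      ((1 : Matrix (l ⊕ l) (l ⊕ l) F) ⊗ₖ Si) := by
    rw [← mul_kronecker_mul, mul_one, one_mul]
  have hk : ((1 : Matrix (l ⊕ l) (l ⊕ l) F) ⊗ₖ Si) * (R₁ b A)ᵀ =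
      R₁ b Aᵀ * ((1 : Matrix (l ⊕ l) (l ⊕ l) F) ⊗ₖ Si) := by
    have h := K1 b A
    calc ((1 : Matrix (l ⊕ l) (l ⊕ l) F) ⊗ₖ Si) * (R₁ b A)ᵀ
        = ((1 : Matrix (l ⊕ l) (l ⊕ l) F) ⊗ₖ Si) * ((R₁ b A)ᵀ *
            ((1 : Matrix (l ⊕ l) (l ⊕ l) F) ⊗ₖ SS b)) *
            ((1 : Matrix (l ⊕ l) (l ⊕ l) F) ⊗ₖ Si) := by
          rw [mul_assoc, mul_assoc, h11, mul_one]
      _ = R₁ b Aᵀ * ((1 : Matrix (l ⊕ l) (l ⊕ l) F) ⊗ₖ Si) := by
          rw [h, ← mul_assoc, h12, one_mul]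
  rw [hsplit, mul_assoc, mul_assoc, hk, ← mul_assoc, ← mul_assoc, ← hJ, ← map_mul, ← map_mul, hA]

/-- The embedding before reindexing. -/
noncomputable def ψ₁ (A : Matrix (l ⊕ l) (l ⊕ l) K) : Matrix ((l ⊕ l) × d) ((l ⊕ l) × d) F :=
  P₁ l (SS b) * R₁ b A * P₁ l Si

include hS1 hS2 in
lemma ψ₁_symp (A : Matrix (l ⊕ l) (l ⊕ l) K) (hA : A * J l K * Aᵀ = J l K) :
    ψ₁ b Si A * (J l F ⊗ₖ (1 : Matrix d d F)) * (ψ₁ b Si A)ᵀ = J l F ⊗ₖ (1 : Matrix d d F) := by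
  have hPQ : P₁ l (SS b) * P₁ l Si = 1 := P₁_mul_Q₁ (SS b) Si hS1
  have hQP : P₁ l Si * P₁ l (SS b) = 1 := P₁_mul_Q₁ Si (SS b) hS2
  have hPJ := P₁_J (l := l) (SS b) Si hS1 hS2 (SS_symm b)
  have hQJ : P₁ l Si * (J l F ⊗ₖ (1 : Matrix d d F)) * (P₁ l Si)ᵀ = J l F ⊗ₖ Si := by
    rw [← hPJ]
    have hQPt : (P₁ l (SS b))ᵀ * (P₁ l Si)ᵀ = 1 := by
      rw [← transpose_mul, hQP, transpose_one]
    calc P₁ l Si * (P₁ l (SS b) * (J l F ⊗ₖ Si) * (P₁ l (SS b))ᵀ) * (P₁ l Si)ᵀ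
        = (P₁ l Si * P₁ l (SS b)) * (J l F ⊗ₖ Si) * ((P₁ l (SS b))ᵀ * (P₁ l Si)ᵀ) := by
          simp only [mul_assoc]
      _ = J l F ⊗ₖ Si := by rw [hQP, hQPt, one_mul, mul_one]
  unfold ψ₁
  rw [transpose_mul, transpose_mul]
  calc P₁ l (SS b) * R₁ b A * P₁ l Si * (J l F ⊗ₖ (1 : Matrix d d F)) *
        ((P₁ l Si)ᵀ * ((R₁ b A)ᵀ * (P₁ l (SS b))ᵀ))
      = P₁ l (SS b) * (R₁ b A * (P₁ l Si * (J l F ⊗ₖ (1 : Matrix d d F)) * (P₁ l Si)ᵀ) *
          (R₁ b A)ᵀ) * (P₁ l (SS b))ᵀ := by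
        simp only [mul_assoc]
    _ = J l F ⊗ₖ (1 : Matrix d d F) := by
        rw [hQJ, invariance b Si hS1 hS2 A hA, hPJ]

include hS1 hS2 in
lemma ψ₁_mul (A B : Matrix (l ⊕ l) (l ⊕ l) K) : ψ₁ b Si (A * B) = ψ₁ b Si A * ψ₁ b Si B := by
  have hQP : P₁ l Si * P₁ l (SS b) = 1 := P₁_mul_Q₁ Si (SS b) hS2
  unfold ψ₁
  rw [map_mul]
  calc P₁ l (SS b) * (R₁ b A * R₁ b B) * P₁ l Si
      = P₁ l (SS b) * R₁ b A * (1 : Matrix _ _ F) * (R₁ b B * P₁ l Si) := by
        simp only [mul_assoc, one_mul]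
    _ = P₁ l (SS b) * R₁ b A * P₁ l Si * (P₁ l (SS b) * R₁ b B * P₁ l Si) := by
        rw [← hQP]
        simp only [mul_assoc]

include hS1 hS2 in
lemma ψ₁_injective : Function.Injective (ψ₁ (l := l) b Si) := by
  intro A B h
  have hPQ : P₁ l (SS b) * P₁ l Si = 1 := P₁_mul_Q₁ (SS b) Si hS1
  have hQP : P₁ l Si * P₁ l (SS b) = 1 := P₁_mul_Q₁ Si (SS b) hS2
  apply R₁_injective b
  unfold ψ₁ at h
  have h2 : P₁ l Si * (P₁ l (SS b) * R₁ b A * P₁ l Si) * P₁ l (SS b) =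
      P₁ l Si * (P₁ l (SS b) * R₁ b B * P₁ l Si) * P₁ l (SS b) := by rw [h]
  have e : ∀ M : Matrix ((l ⊕ l) × d) ((l ⊕ l) × d) F,
      P₁ l Si * (P₁ l (SS b) * M * P₁ l Si) * P₁ l (SS b) = M := by
    intro M
    calc P₁ l Si * (P₁ l (SS b) * M * P₁ l Si) * P₁ l (SS b)
        = (P₁ l Si * P₁ l (SS b)) * M * (P₁ l Si * P₁ l (SS b)) := by simp only [mul_assoc]
      _ = M := by rw [hQP, one_mul, mul_one]
  rw [e, e] at h2
  exact h2

end embed

section reindex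

variable {F : Type*} [Field F] {d : Type*} [Fintype d] [DecidableEq d]
  {l : Type*} [Fintype l] [DecidableEq l] {m : Type*} [Fintype m] [DecidableEq m]
  (e₀ : l × d ≃ m)

/-- The index equivalence. -/
def EE : (l ⊕ l) × d ≃ m ⊕ m := (Equiv.sumProdDistrib l l d).trans (Equiv.sumCongr e₀ e₀)

lemma reindex_J : Matrix.reindex (EE e₀) (EE e₀) (J l F ⊗ₖ (1 : Matrix d d F)) = J m F := by
  ext x y
  rw [Matrix.reindex_apply, Matrix.submatrix_apply]
  rcases x with u | u <;> rcases y with v | v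
  · simp [EE, J, Matrix.one_apply]
  · obtain ⟨⟨i, s⟩, rfl⟩ := e₀.surjective u
    obtain ⟨⟨j, t⟩, rfl⟩ := e₀.surjective v
    simp [EE, J, Matrix.one_apply, Matrix.neg_apply]
    by_cases hij : i = j <;> by_cases hst : s = t <;> simp [hij, hst]
  · obtain ⟨⟨i, s⟩, rfl⟩ := e₀.surjective u
    obtain ⟨⟨j, t⟩, rfl⟩ := e₀.surjective v
    simp [EE, J, Matrix.one_apply]
    by_cases hij : i = j <;> by_cases hst : s = t <;> simp [hij, hst]
  · simp [EE, J, Matrix.one_apply]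

end reindex

/-- Field-extension embedding of symplectic groups: for a field K with q² elements and a field F with q elements there is an injective homomorphism Sp_2a(K) → Sp_4a(F). -/
theorem result {K F : Type*} [Field K] [Fintype K] [Field F] [Fintype F] {q : ℕ} (hK : Fintype.card K = q ^ 2) (hF : Fintype.card F = q) (a : ℕ) : ∃ φ : ↥(Matrix.symplecticGroup (Fin a) K) →* ↥(Matrix.symplecticGroup (Fin (2 * a)) F), Function.Injective φ := by
  classical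
  obtain ⟨p, hp⟩ := CharP.exists F
  haveI := hp
  haveI : Fact p.Prime := ⟨CharP.char_is_prime F p⟩
  let E := FiniteField.Extension F p 2
  haveI : Finite E := Module.finite_of_finite F
  haveI : Fintype E := Fintype.ofFinite E
  have hEcard : Fintype.card E = q ^ 2 := by
    rw [← Nat.card_eq_fintype_card, FiniteField.natCard_extension, Nat.card_eq_fintype_card, hF]
  let e : K ≃+* E := FiniteField.ringEquivOfCardEq (by rw [hK, hEcard])
  letI : Algebra F K := (e.symm.toRingHom.comp (algebraMap F E)).toAlgebra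
  have hq2 : 2 ≤ q := by
    rw [← hF]
    exact Fintype.one_lt_card
  have hfr : Module.finrank F K = 2 := by
    have h1 := Module.card_eq_pow_finrank (K := F) (V := K)
    rw [hK, hF] at h1
    exact (Nat.pow_right_injective hq2 h1).symm
  let b : Module.Basis (Fin 2) F K := Module.finBasisOfFinrankEq F K hfr
  have hdet : (SS b).det ≠ 0 := by
    have h := det_traceForm_ne_zero b
    have hE : SS b = (Algebra.traceForm F K).toMatrix b := by
      ext s t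
      simp [SS, LinearMap.BilinForm.toMatrix_apply, Algebra.traceForm_apply]
    rw [hE]
    exact h
  have hunit : IsUnit (SS b).det := isUnit_iff_ne_zero.2 hdet
  have hS1 : SS b * (SS b)⁻¹ = 1 := Matrix.mul_nonsing_inv _ hunit
  have hS2 : (SS b)⁻¹ * SS b = 1 := Matrix.nonsing_inv_mul _ hunit
  let e₀ : Fin a × Fin 2 ≃ Fin (2 * a) := finProdFinEquiv.trans (finCongr (mul_comm a 2))
  have hmem : ∀ A : ↥(Matrix.symplecticGroup (Fin a) K),
      Matrix.reindex (EE e₀) (EE e₀) (ψ₁ b (SS b)⁻¹ A.1) ∈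
        Matrix.symplecticGroup (Fin (2 * a)) F := by
    intro A
    rw [SymplecticGroup.mem_iff, ← reindex_J (F := F) e₀]
    have hA : A.1 * J (Fin a) K * A.1ᵀ = J (Fin a) K := SymplecticGroup.mem_iff.1 A.2
    have h := ψ₁_symp b (SS b)⁻¹ hS1 hS2 A.1 hA
    simp only [Matrix.reindex_apply, Matrix.transpose_submatrix, Matrix.submatrix_mul_equiv]
    rw [h]
  refine ⟨MonoidHom.mk' (fun A => ⟨_, hmem A⟩) ?_, ?_⟩
  · intro A B
    apply Subtype.ext
    show Matrix.reindex (EE e₀) (EE e₀) (ψ₁ b (SS b)⁻¹ (A.1 * B.1)) =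
      Matrix.reindex (EE e₀) (EE e₀) (ψ₁ b (SS b)⁻¹ A.1) *
        Matrix.reindex (EE e₀) (EE e₀) (ψ₁ b (SS b)⁻¹ B.1)
    rw [ψ₁_mul b (SS b)⁻¹ hS1 hS2]
    simp only [Matrix.reindex_apply, Matrix.submatrix_mul_equiv]
  · intro A B h
    apply Subtype.ext
    have h1 : Matrix.reindex (EE e₀) (EE e₀) (ψ₁ b (SS b)⁻¹ A.1) =
        Matrix.reindex (EE e₀) (EE e₀) (ψ₁ b (SS b)⁻¹ B.1) := congrArg Subtype.val h
    exact ψ₁_injective b (SS b)⁻¹ hS1 hS2 ((Matrix.reindex (EE e₀) (EE e₀)).injective h1)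

end Cfsg.Agent.S2678
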