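import Cfsg.Statements.S2639
import Mathlib
import Cfsg.Agent.S2678

set_option autoImplicit false
open Cfsg

namespace Cfsg.Agent.S2639

open Matrix Kronecker
open Cfsg.Agent.S2678 (R₁ R₁_apply R₁_injective)

section herm

variable {F K : Type*} [Field F] [Field K] [Algebra F K] {d : Type*} [Fintype d] [DecidableEq d]
  (b : Module.Basis d F K) {n : Type*} [Fintype n] [DecidableEq n]
  (σ : K →+* K) (hσ : ∀ c : F, σ (algebraMap F K c) = algebraMap F K c) (ε : K)

/-- The twisted trace Gram matrix. -/
noncomputable def Mε : Matrix d d F :=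
  Matrix.of fun s t => Algebra.trace F K (ε * (b s * σ (b t)))

lemma mul_basis (x : K) (t : d) :
    x * b t = ∑ u, (Algebra.leftMulMatrix b x u t) • b u := by
  conv_lhs => rw [← b.sum_repr (x * b t)]
  apply Finset.sum_congr rfl
  intro u _
  rw [Algebra.leftMulMatrix_eq_repr_mul]

include hσ in
lemma σ_smul (c : F) (z : K) : σ (c • z) = c • σ z := by
  rw [Algebra.smul_def, map_mul, hσ, ← Algebra.smul_def]

include hσ in
lemma key (x y : K) (s t : d) :
    ∑ v, (∑ u, Algebra.leftMulMatrix b x u s * Mε b σ ε u v) * Algebra.leftMulMatrix b y v t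
      = Algebra.trace F K (ε * ((x * b s) * σ (y * b t))) := by
  have hx := mul_basis b x s
  have hy : σ (y * b t) = ∑ v, (Algebra.leftMulMatrix b y v t) • σ (b v) := by
    rw [mul_basis b y t, map_sum]
    exact Finset.sum_congr rfl (fun v _ => σ_smul σ hσ _ _)
  rw [hx, hy, Finset.sum_mul_sum, Finset.mul_sum, map_sum]
  simp only [Finset.sum_mul]
  rw [Finset.sum_comm]
  apply Finset.sum_congr rfl
  intro u _
  rw [Finset.mul_sum, map_sum]
  apply Finset.sum_congr rfl
  intro v _
  rw [smul_mul_smul_comm, mul_smul_comm, map_smul, smul_eq_mul]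
  simp only [Mε, Matrix.of_apply]
  ring

include hσ in
lemma inv_herm (g : Matrix n n K) (hg : gᵀ * g.map σ = 1) :
    (R₁ b g)ᵀ * ((1 : Matrix n n F) ⊗ₖ Mε b σ ε) * R₁ b g = (1 : Matrix n n F) ⊗ₖ Mε b σ ε := by
  ext ⟨i, s⟩ ⟨j, t⟩
  rw [Matrix.mul_apply, Fintype.sum_prod_type]
  have h1 : ∀ (k' : n) (v : d), ((R₁ b g)ᵀ * ((1 : Matrix n n F) ⊗ₖ Mε b σ ε)) (i, s) (k', v)
      = ∑ u, Algebra.leftMulMatrix b (g k' i) u s * Mε b σ ε u v := by
    intro k' v
    rw [Matrix.mul_apply, Fintype.sum_prod_type]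
    simp only [Matrix.transpose_apply, R₁_apply, kronecker_apply, Matrix.one_apply]
    rw [Finset.sum_eq_single k']
    · simp
    · intro k _ hk
      simp [hk]
    · simp
  simp only [h1, R₁_apply]
  simp only [key b σ hσ ε]
  rw [← map_sum]
  have h2 : ∑ k, ε * (g k i * b s * σ (g k j * b t)) =
      ε * ((∑ k, g k i * σ (g k j)) * (b s * σ (b t))) := by
    rw [Finset.sum_mul, Finset.mul_sum]
    apply Finset.sum_congr rfl
    intro k _
    rw [map_mul]
    ring
  have h3 : ∑ k, g k i * σ (g k j) = (1 : Matrix n n K) i j := by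
    rw [← hg, Matrix.mul_apply]
    rfl
  rw [h2, h3, kronecker_apply, Matrix.one_apply, Matrix.one_apply]
  by_cases hij : i = j
  · simp [hij, Mε]
  · simp [hij]

end herm

section two

variable {F : Type*} [Field F] {n : Type*} [Fintype n] [DecidableEq n]

/-- The index equivalence. -/
def e2 (n : Type*) : n × Fin 2 ≃ n ⊕ n where
  toFun x := if x.2 = 0 then Sum.inl x.1 else Sum.inr x.1
  invFun := Sum.elim (fun i => (i, 0)) (fun i => (i, 1))
  left_inv := by
    rintro ⟨i, s⟩
    fin_cases s <;> simp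
  right_inv := by
    rintro (i | i) <;> simp

/-- The standard alternating 2×2 matrix. -/
def J₂ (F : Type*) [Field F] : Matrix (Fin 2) (Fin 2) F := !![0, 1; -1, 0]

lemma reindex_J₂ :
    Matrix.reindex (e2 n) (e2 n) ((1 : Matrix n n F) ⊗ₖ J₂ F) = - J n F := by
  ext x y
  rw [Matrix.reindex_apply, Matrix.submatrix_apply]
  rcases x with i | i <;> rcases y with j | j <;>
    simp [e2, J, J₂, Matrix.one_apply, kronecker_apply] <;>
    by_cases hij : i = j <;> simp [hij]

end two

/-- The unitary group embeds in the symplectic group of twice the dimension over the subfield: for a field K with q² elements and a field F with q elements (isomorphic to the subfield of K of order q), there is an injective homomorphism GU_m(q) → Sp_2m(F). -/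
theorem result {K F : Type*} [Field K] [Fintype K] [Field F] [Fintype F] {q : ℕ} (hK : Fintype.card K = q ^ 2) (hF : Fintype.card F = q) (m : ℕ) : ∃ φ : ↥(Cfsg.GU m K q) →* ↥(Matrix.symplecticGroup (Fin m) F), Function.Injective φ := by
  classical
  obtain ⟨p, hp⟩ := CharP.exists F
  haveI := hp
  haveI : Fact p.Prime := ⟨CharP.char_is_prime F p⟩
  let E := FiniteField.Extension F p 2
  haveI : Finite E := Module.finite_of_finite F
  haveI : Fintype E := Fintype.ofFinite E
  have hEcard : Fintype.card E = q ^ 2 := by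
    rw [← Nat.card_eq_fintype_card, FiniteField.natCard_extension, Nat.card_eq_fintype_card, hF]
  let e : K ≃+* E := FiniteField.ringEquivOfCardEq (by rw [hK, hEcard])
  letI : Algebra F K := (e.symm.toRingHom.comp (algebraMap F E)).toAlgebra
  have hq2 : 2 ≤ q := by
    rw [← hF]
    exact Fintype.one_lt_card
  have hfr : Module.finrank F K = 2 := by
    have h1 := Module.card_eq_pow_finrank (K := F) (V := K)
    rw [hK, hF] at h1
    exact (Nat.pow_right_injective hq2 h1).symm
  let b : Module.Basis (Fin 2) F K := Module.finBasisOfFinrankEq F K hfr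
  -- the Frobenius
  haveI : CharP K p := charP_of_injective_algebraMap (algebraMap F K).injective p
  obtain ⟨k, -, hk⟩ := FiniteField.card F p
  rw [hF] at hk
  let σ : K →+* K := iterateFrobenius K p k
  have hσq : ∀ x : K, σ x = x ^ q := by
    intro x
    rw [hk]
    exact iterateFrobenius_def p k x
  have hσF : ∀ c : F, σ (algebraMap F K c) = algebraMap F K c := by
    intro c
    rw [hσq, ← map_pow, ← hF, FiniteField.pow_card]
  have hσσ : ∀ x : K, σ (σ x) = x := by
    intro x
    rw [hσq, hσq, ← pow_mul, ← pow_two, ← hK, FiniteField.pow_card]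
  have htr : ∀ z : K, algebraMap F K (Algebra.trace F K z) = z + σ z := by
    intro z
    rw [FiniteField.algebraMap_trace_eq_sum_pow, hfr, Finset.sum_range_succ, Finset.sum_range_one,
      pow_zero, pow_one, pow_one, Nat.card_eq_fintype_card, hF, hσq]
  -- ε
  obtain ⟨ε, hε0, hε⟩ : ∃ ε : K, ε ≠ 0 ∧ σ ε = -ε := by
    have hlt : Module.finrank F F < Module.finrank F K := by
      rw [hfr, Module.finrank_self]
      norm_num
    have hker := LinearMap.ker_ne_bot_of_finrank_lt (f := Algebra.trace F K) hlt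
    obtain ⟨ε, hεm, hε0⟩ := Submodule.exists_mem_ne_zero_of_ne_bot hker
    refine ⟨ε, hε0, ?_⟩
    have h := htr ε
    rw [LinearMap.mem_ker.1 hεm, map_zero] at h
    exact (neg_eq_of_add_eq_zero_right h.symm).symm ▸ rfl
  have hanti : ∀ x y : K,
      Algebra.trace F K (ε * (x * σ y)) = - Algebra.trace F K (ε * (y * σ x)) := by
    intro x y
    apply (algebraMap F K).injective
    rw [map_neg, htr, htr]
    simp only [map_mul, hσσ, hε]
    ring
  have halt : ∀ x : K, Algebra.trace F K (ε * (x * σ x)) = 0 := by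
    intro x
    apply (algebraMap F K).injective
    rw [map_zero, htr]
    simp only [map_mul, hσσ, hε]
    ring
  set μ := Mε b σ ε 0 1 with hμ
  have hM : Mε b σ ε = μ • J₂ F := by
    ext s t
    fin_cases s <;> fin_cases t
    · simp [Mε, J₂, halt]
    · simp [J₂, hμ]
    · simp only [J₂, hμ, Mε]
      simpa using hanti _ _
    · simp [Mε, J₂, halt]
  have hμ0 : μ ≠ 0 := by
    intro h0
    have hM0 : Mε b σ ε = 0 := by rw [hM, h0, zero_smul]
    have hb0 : b 0 ≠ 0 := b.ne_zero 0
    have hz : ∀ z : K, Algebra.trace F K z = 0 := by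
      intro z
      have h := key b σ hσF ε (z / ε / b 0) (1 / b 0) 0 0
      rw [hM0] at h
      simp only [Matrix.zero_apply, mul_zero, Finset.sum_const_zero, zero_mul] at h
      rw [div_mul_cancel₀ _ hb0, div_mul_cancel₀ _ hb0, map_one, mul_one,
        mul_div_cancel₀ _ hε0] at h
      exact h.symm
    obtain ⟨z, hz1⟩ := Algebra.trace_surjective F K (1 : F)
    rw [hz z] at hz1
    exact zero_ne_one hz1
  have hinv : ∀ g : Matrix (Fin m) (Fin m) K, gᵀ * g.map σ = 1 →
      (R₁ b g)ᵀ * ((1 : Matrix (Fin m) (Fin m) F) ⊗ₖ J₂ F) * R₁ b g =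
        (1 : Matrix (Fin m) (Fin m) F) ⊗ₖ J₂ F := by
    intro g hg
    have h := inv_herm b σ hσF ε g hg
    rw [hM, kronecker_smul, Matrix.mul_smul, Matrix.smul_mul] at h
    exact smul_right_injective _ hμ0 h
  have hGU : ∀ g : ↥(Cfsg.GU m K q), (g.1.1)ᵀ * (g.1.1).map σ = 1 := by
    intro g
    ext i j
    have h := g.2 (Pi.single i 1) (Pi.single j 1)
    simp only [Units.coeHom_apply, hermForm, Matrix.mulVec_single_one] at h
    rw [Matrix.mul_apply]
    simp only [Matrix.transpose_apply, Matrix.map_apply, hσq]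
    have hq0 : q ≠ 0 := by omega
    simp only [Matrix.col_apply] at h
    rw [h, Matrix.one_apply]
    by_cases hij : i = j
    · subst hij
      rw [Finset.sum_eq_single i]
      · simp
      · intro k _ hk
        simp [hk]
      · simp
    · rw [if_neg hij]
      apply Finset.sum_eq_zero
      intro k _
      by_cases hki : k = i
      · subst hki
        simp [Pi.single_eq_of_ne hij, hq0]
      · simp [Pi.single_eq_of_ne hki]
  have hmem : ∀ g : ↥(Cfsg.GU m K q),
      Matrix.reindex (e2 (Fin m)) (e2 (Fin m)) (R₁ b g.1.1) ∈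
        Matrix.symplecticGroup (Fin m) F := by
    intro g
    rw [SymplecticGroup.mem_iff']
    have hJ : J (Fin m) F = - Matrix.reindex (e2 (Fin m)) (e2 (Fin m))
        ((1 : Matrix (Fin m) (Fin m) F) ⊗ₖ J₂ F) := by
      rw [reindex_J₂, neg_neg]
    rw [hJ, Matrix.mul_neg, Matrix.neg_mul]
    congr 1
    have h := hinv g.1.1 (hGU g)
    simp only [Matrix.reindex_apply, Matrix.transpose_submatrix, Matrix.submatrix_mul_equiv]
    rw [h]
  refine ⟨MonoidHom.mk' (fun g => ⟨_, hmem g⟩) ?_, ?_⟩
  · intro A B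
    apply Subtype.ext
    show Matrix.reindex (e2 (Fin m)) (e2 (Fin m)) (R₁ b (A.1.1 * B.1.1)) =
      Matrix.reindex (e2 (Fin m)) (e2 (Fin m)) (R₁ b A.1.1) *
        Matrix.reindex (e2 (Fin m)) (e2 (Fin m)) (R₁ b B.1.1)
    rw [map_mul]
    simp only [Matrix.reindex_apply, Matrix.submatrix_mul_equiv]
  · intro A B h
    apply Subtype.ext
    apply Units.ext
    have h1 : Matrix.reindex (e2 (Fin m)) (e2 (Fin m)) (R₁ b A.1.1) =
        Matrix.reindex (e2 (Fin m)) (e2 (Fin m)) (R₁ b B.1.1) := congrArg Subtype.val h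
    exact R₁_injective b ((Matrix.reindex (e2 (Fin m)) (e2 (Fin m))).injective h1)

end Cfsg.Agent.S2639
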