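import Cfsg.Statements.S2390
import Cfsg.Agent.Lib.Helper24.UDetF

set_option autoImplicit false
open Cfsg
open Cfsg.Agent.Lib.Helper24.UDet
open Cfsg.Agent.Lib.Helper24.GUConj

namespace Cfsg.Agent.S2390

/-- In the special unitary group `SU_n(q)` (inside `SL_n` over the field with `q²` elements), `q` a power of the prime `p`, two elements of order prime to `p` with the same characteristic polynomial are conjugate in `SU_n(q)`. -/
theorem result {F : Type*} [Field F] [Fintype F] {q : ℕ} (hF : Fintype.card F = q ^ 2) (p : ℕ) [Fact p.Prime] [CharP F p] (n : ℕ)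
    (g h : ↥(Cfsg.SU n F q)) (hg : (orderOf g).Coprime p) (hh : (orderOf h).Coprime p)
    (hc : ((g : Matrix.SpecialLinearGroup (Fin n) F) : Matrix (Fin n) (Fin n) F).charpoly =
      ((h : Matrix.SpecialLinearGroup (Fin n) F) : Matrix (Fin n) (Fin n) F).charpoly) : IsConj g h := by
  have hnd : ∀ {k : ℕ}, k.Coprime p → ¬ p ∣ k := by
    intro k hk hdvd
    have h1 := Nat.Coprime.eq_one_of_dvd hk.symm hdvd
    exact (Fact.out : p.Prime).one_lt.ne' h1
  rcases Nat.eq_zero_or_pos n with hn0 | hn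
  · subst hn0
    have : g = h := by
      apply Subtype.ext
      apply Subtype.ext
      ext i
      exact i.elim0
    rw [this]
  obtain ⟨a, ha⟩ : ∃ a : Matrix (Fin n) (Fin n) F,
      a = ((g : Matrix.SpecialLinearGroup (Fin n) F) : Matrix (Fin n) (Fin n) F) := ⟨_, rfl⟩
  obtain ⟨b, hb⟩ : ∃ b : Matrix (Fin n) (Fin n) F,
      b = ((h : Matrix.SpecialLinearGroup (Fin n) F) : Matrix (Fin n) (Fin n) F) := ⟨_, rfl⟩
  have hgN : a ^ orderOf g = 1 := by
    have := congrArg (fun x : ↥(Cfsg.SU n F q) =>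
      ((x : Matrix.SpecialLinearGroup (Fin n) F) : Matrix (Fin n) (Fin n) F))
      (pow_orderOf_eq_one g)
    simp only [Subgroup.coe_pow, Matrix.SpecialLinearGroup.coe_pow, Subgroup.coe_one,
      Matrix.SpecialLinearGroup.coe_one] at this
    rw [ha]
    exact this
  have hhN : b ^ orderOf h = 1 := by
    have := congrArg (fun x : ↥(Cfsg.SU n F q) =>
      ((x : Matrix.SpecialLinearGroup (Fin n) F) : Matrix (Fin n) (Fin n) F))
      (pow_orderOf_eq_one h)
    simp only [Subgroup.coe_pow, Matrix.SpecialLinearGroup.coe_pow, Subgroup.coe_one,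
      Matrix.SpecialLinearGroup.coe_one] at this
    rw [hb]
    exact this
  have hau : st q a * a = 1 := by
    have h1 : Matrix.SpecialLinearGroup.toGL (g : Matrix.SpecialLinearGroup (Fin n) F) ∈
        Cfsg.GU n F q := (Cfsg.Agent.Lib.Helper19.PSUGraph.mem_SU_iff_toGL _).mp g.2
    have h2 := (mem_GU_iff_st hF _).mp h1
    rw [ha]
    exact h2
  have hbu : st q b * b = 1 := by
    have h1 : Matrix.SpecialLinearGroup.toGL (h : Matrix.SpecialLinearGroup (Fin n) F) ∈
        Cfsg.GU n F q := (Cfsg.Agent.Lib.Helper19.PSUGraph.mem_SU_iff_toGL _).mp h.2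
    have h2 := (mem_GU_iff_st hF _).mp h1
    rw [hb]
    exact h2
  rw [← ha, ← hb] at hc
  obtain ⟨u, hu1, hu2, hu3⟩ := su_conj_mat hF p hn hau hbu hgN (hnd hg) hhN (hnd hh) hc
  obtain ⟨U, hU⟩ : ∃ U : Matrix.SpecialLinearGroup (Fin n) F, U.1 = u := ⟨⟨u, hu1⟩, rfl⟩
  have hUS : U ∈ Cfsg.SU n F q := by
    rw [Cfsg.Agent.Lib.Helper19.PSUGraph.mem_SU_iff_toGL, mem_GU_iff_st hF]
    show st q U.1 * U.1 = 1
    rw [hU]
    exact hu2
  rw [isConj_iff]
  refine ⟨⟨U, hUS⟩, ?_⟩
  rw [mul_inv_eq_iff_eq_mul]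
  apply Subtype.ext
  apply Subtype.ext
  show U.1 * ((g : Matrix.SpecialLinearGroup (Fin n) F) : Matrix (Fin n) (Fin n) F) =
    ((h : Matrix.SpecialLinearGroup (Fin n) F) : Matrix (Fin n) (Fin n) F) * U.1
  rw [hU, ← ha, ← hb]
  exact hu3

end Cfsg.Agent.S2390
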