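import Cfsg.Statements.S0663
import Mathlib

set_option autoImplicit false
open Cfsg
open scoped commutatorElement

namespace Cfsg.Agent.S0663

variable {L : Type*} [Group L]

theorem card_mul_relIndex' {A B : Subgroup L} (h : A ≤ B) :
    Nat.card A * A.relIndex B = Nat.card B := by
  have := Subgroup.relIndex_mul_relIndex (⊥ : Subgroup L) A B bot_le h
  rwa [Subgroup.relIndex_bot_left, Subgroup.relIndex_bot_left] at this

theorem card_lt_of_lt [Finite L] {A B : Subgroup L} (h : A < B) : Nat.card A < Nat.card B :=
  lt_of_le_of_ne (Subgroup.card_le_of_le h.le)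
    (fun he => h.ne (Subgroup.eq_of_le_of_card_ge h.le he.ge))

theorem ne_bot_of_card {p : ℕ} [Fact p.Prime] {A : Subgroup L} {k : ℕ} (hk : 0 < k)
    (h : Nat.card A = p ^ k) : A ≠ ⊥ := by
  rintro rfl
  rw [Subgroup.card_bot] at h
  have := Nat.one_lt_pow hk.ne' (Fact.out : p.Prime).one_lt
  omega

theorem comm_lt [Finite L] {p : ℕ} [Fact p.Prime] {K M : Subgroup L} (hK : IsPGroup p K)
    (hMK : M ≤ K) (hn : K ≤ Subgroup.normalizer (M : Set L)) (hne : M ≠ ⊥) : ⁅M, K⁆ < M := by
  have hle : ⁅M, K⁆ ≤ M := Subgroup.le_normalizer_iff_commutator_le_left.mp hn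
  refine lt_of_le_of_ne hle ?_
  intro heq
  haveI : Group.IsNilpotent K := hK.isNilpotent
  obtain ⟨n, hn'⟩ := (Subgroup.isNilpotent_iff_lowerCentralSeries (S := K)).mp inferInstance
  have hind : ∀ i, M ≤ K.lowerCentralSeries i := by
    intro i
    induction i with
    | zero => exact hMK
    | succ i ih =>
      rw [Subgroup.lowerCentralSeries_succ]
      exact heq.symm.le.trans (Subgroup.commutator_mono ih le_rfl)
  have := hind n
  rw [hn', le_bot_iff] at this
  exact hne this

theorem iter_succ (N G : Subgroup L) (i : ℕ) :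
    iterCommutator N G (i + 1) = ⁅iterCommutator N G i, G⁆ := rfl

theorem iter_adm {N G : Subgroup L} (hGN : G ≤ Subgroup.normalizer (N : Set L)) :
    ∀ i, iterCommutator N G i ≤ N ∧ G ≤ Subgroup.normalizer (iterCommutator N G i : Set L)
  | 0 => ⟨le_rfl, hGN⟩
  | i + 1 => by
    obtain ⟨h1, h2⟩ := iter_adm hGN i
    refine ⟨?_, ?_⟩
    · rw [iter_succ]
      exact (Subgroup.le_normalizer_iff_commutator_le_left.mp h2).trans h1
    · rw [iter_succ]
      exact Subgroup.normalizer_commutator_ge_right _ _

theorem iter_succ_le {N G : Subgroup L} (hGN : G ≤ Subgroup.normalizer (N : Set L)) (i : ℕ) :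
    iterCommutator N G (i + 1) ≤ iterCommutator N G i := by
  rw [iter_succ]
  exact Subgroup.le_normalizer_iff_commutator_le_left.mp (iter_adm hGN i).2

theorem iter_antitone {N G : Subgroup L} (hGN : G ≤ Subgroup.normalizer (N : Set L)) :
    Antitone (iterCommutator N G) := antitone_nat_of_succ_le (iter_succ_le hGN)

theorem adm_comm_lt [Finite L] {p : ℕ} [Fact p.Prime] {N G : Subgroup L} (hN : IsPGroup p N)
    (hG : IsPGroup p G) {H : Subgroup L} (hHN : H ≤ N)
    (hGH : G ≤ Subgroup.normalizer (H : Set L)) (hne : H ≠ ⊥) : ⁅H, G⁆ < H := by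
  have hHp : IsPGroup p H := hN.to_le hHN
  have hK : IsPGroup p (H ⊔ G : Subgroup L) := hHp.to_sup_of_normal_left' hG hGH
  have h1 := comm_lt hK le_sup_left (sup_le Subgroup.le_normalizer hGH) hne
  exact lt_of_le_of_lt (Subgroup.commutator_mono le_rfl le_sup_right) h1

theorem cards_of_unis [Finite L] {p : ℕ} [Fact p.Prime] {N G : Subgroup L}
    (hGN : G ≤ Subgroup.normalizer (N : Set L)) (n : ℕ) (hn : Nat.card N = p ^ n)
    (hU : ∀ H : Subgroup L, H ≤ N → G ≤ Subgroup.normalizer (H : Set L) → H ≠ ⊥ →
      (⁅H, G⁆).relIndex H = p) :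
    ∀ i, i ≤ n → Nat.card (iterCommutator N G i) = p ^ (n - i) := by
  intro i
  induction i with
  | zero =>
    intro _
    rw [Nat.sub_zero]
    exact hn
  | succ i ih =>
    intro hi
    have hci := ih (by omega)
    obtain ⟨hiN, hiG⟩ := iter_adm hGN i
    have hne : iterCommutator N G i ≠ ⊥ := ne_bot_of_card (by omega : 0 < n - i) hci
    have hrel := hU _ hiN hiG hne
    have hmul := card_mul_relIndex' (Subgroup.le_normalizer_iff_commutator_le_left.mp hiG)
    rw [hrel, hci] at hmul
    have : p ^ (n - i) = p ^ (n - (i + 1)) * p := by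
      rw [← pow_succ]
      congr 1
      omega
    rw [this] at hmul
    exact Nat.eq_of_mul_eq_mul_right (Fact.out : p.Prime).pos hmul

theorem cards_of_chain [Finite L] {p : ℕ} [Fact p.Prime] {N G : Subgroup L} (hN : IsPGroup p N)
    (hG : IsPGroup p G) (hGN : G ≤ Subgroup.normalizer (N : Set L)) (n : ℕ)
    (hn : Nat.card N = p ^ n) (h : iterCommutator N G (n - 1) ≠ ⊥ ∨ n = 0) :
    ∀ i, i ≤ n → Nat.card (iterCommutator N G i) = p ^ (n - i) := by
  have hp : p.Prime := Fact.out
  rcases Nat.eq_zero_or_pos n with hn0 | hnpos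
  · subst hn0
    intro i hi
    have : i = 0 := by omega
    subst this
    exact hn
  have hlast : iterCommutator N G (n - 1) ≠ ⊥ := by
    rcases h with h | h
    · exact h
    · omega
  have hex : ∀ i, ∃ e, Nat.card (iterCommutator N G i) = p ^ e :=
    fun i => (IsPGroup.iff_card).mp (hN.to_le (iter_adm hGN i).1)
  choose e he using hex
  have he0 : e 0 = n := by
    have := he 0
    rw [show iterCommutator N G 0 = N from rfl, hn] at this
    exact (Nat.pow_right_injective hp.two_le this).symm
  have hstrict : ∀ i, i ≤ n - 1 → e (i + 1) < e i := by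
    intro i hi
    obtain ⟨hiN, hiG⟩ := iter_adm hGN i
    have hne : iterCommutator N G i ≠ ⊥ := by
      intro hb
      apply hlast
      have := iter_antitone hGN hi
      rw [hb] at this
      exact le_bot_iff.mp this
    have hlt := card_lt_of_lt (adm_comm_lt hN hG hiN hiG hne)
    have h1 : Nat.card (iterCommutator N G (i + 1)) < Nat.card (iterCommutator N G i) := hlt
    rw [he, he] at h1
    exact (Nat.pow_lt_pow_iff_right hp.one_lt).mp h1
  have hupper : ∀ i, i ≤ n → e i + i ≤ n := by
    intro i
    induction i with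
    | zero =>
      intro _
      omega
    | succ i ih =>
      intro hi
      have h1 := ih (by omega)
      have h2 := hstrict i (by omega)
      omega
  have hlow0 : 1 ≤ e (n - 1) := by
    by_contra hcon
    have h0 : e (n - 1) = 0 := by omega
    have := he (n - 1)
    rw [h0, pow_zero] at this
    exact hlast (Subgroup.card_eq_one.mp this)
  have hlower : ∀ j, j ≤ n - 1 → 1 + j ≤ e (n - 1 - j) := by
    intro j
    induction j with
    | zero =>
      intro _
      simpa using hlow0
    | succ j ih =>
      intro hj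
      have h1 := ih (by omega)
      have h2 := hstrict (n - 1 - (j + 1)) (by omega)
      have h3 : n - 1 - (j + 1) + 1 = n - 1 - j := by omega
      rw [h3] at h2
      omega
  intro i hi
  rw [he]
  congr 1
  rcases Nat.eq_or_lt_of_le hi with h | h
  · have := hupper i hi
    omega
  · have h1 := hlower (n - 1 - i) (by omega)
    have h3 : n - 1 - (n - 1 - i) = i := by omega
    rw [h3] at h1
    have h2 := hupper i hi
    omega

theorem iter_normal [Finite L] {p : ℕ} [Fact p.Prime] {N G : Subgroup L} (hN : IsPGroup p N)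
    (hG : IsPGroup p G) (hGN : G ≤ Subgroup.normalizer (N : Set L)) (n : ℕ)
    (hcards : ∀ i, i ≤ n → Nat.card (iterCommutator N G i) = p ^ (n - i)) :
    ∀ i, i ≤ n → N ⊔ G ≤ Subgroup.normalizer (iterCommutator N G i : Set L) := by
  have hp : p.Prime := Fact.out
  have hKp : IsPGroup p (N ⊔ G : Subgroup L) := hN.to_sup_of_normal_left' hG hGN
  intro i
  induction i with
  | zero =>
    intro _
    exact sup_le Subgroup.le_normalizer hGN
  | succ i ih =>
    intro hi
    have hK := ih (by omega)
    obtain ⟨hiN, hiG⟩ := iter_adm hGN i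
    have hci := hcards i (by omega)
    have hci1 := hcards (i + 1) hi
    have hne : iterCommutator N G i ≠ ⊥ := ne_bot_of_card (by omega : 0 < n - i) hci
    have hlt := comm_lt hKp (hiN.trans le_sup_left) hK hne
    have hle : iterCommutator N G (i + 1) ≤ ⁅iterCommutator N G i, N ⊔ G⁆ :=
      Subgroup.commutator_mono le_rfl le_sup_right
    have hXcard : Nat.card (⁅iterCommutator N G i, N ⊔ G⁆ : Subgroup L) ≤ p ^ (n - (i + 1)) := by
      have hdvd := Subgroup.card_dvd_of_le hlt.le
      rw [hci] at hdvd
      obtain ⟨m, hm, hmeq⟩ := (Nat.dvd_prime_pow hp).mp hdvd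
      have hlt' := card_lt_of_lt hlt
      rw [hmeq, hci] at hlt'
      have : m < n - i := (Nat.pow_lt_pow_iff_right hp.one_lt).mp hlt'
      rw [hmeq]
      exact Nat.pow_le_pow_right hp.pos (by omega)
    have heq : iterCommutator N G (i + 1) = ⁅iterCommutator N G i, N ⊔ G⁆ :=
      Subgroup.eq_of_le_of_card_ge hle (by rw [hci1]; exact hXcard)
    rw [heq]
    exact Subgroup.normalizer_commutator_ge_right _ _

theorem adm_eq_iter [Finite L] {p : ℕ} [Fact p.Prime] {N G : Subgroup L} (hN : IsPGroup p N)
    (hG : IsPGroup p G) (hGN : G ≤ Subgroup.normalizer (N : Set L)) (n : ℕ)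
    (hcards : ∀ i, i ≤ n → Nat.card (iterCommutator N G i) = p ^ (n - i))
    {H : Subgroup L} (hHN : H ≤ N) (hGH : G ≤ Subgroup.normalizer (H : Set L)) :
    ∃ i, i ≤ n ∧ H = iterCommutator N G i := by
  classical
  have hp : p.Prime := Fact.out
  have hnorm := iter_normal hN hG hGN n hcards
  set i := Nat.findGreatest (fun i => H ≤ iterCommutator N G i) n with hi
  have hin : i ≤ n := Nat.findGreatest_le n
  have hHi : H ≤ iterCommutator N G i :=
    Nat.findGreatest_spec (P := fun i => H ≤ iterCommutator N G i) (Nat.zero_le n) hHN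
  refine ⟨i, hin, ?_⟩
  rcases Nat.eq_or_lt_of_le hin with hieq | hilt
  · have hc : Nat.card (iterCommutator N G i) = 1 := by
      rw [hcards i hin]
      have : n - i = 0 := by omega
      rw [this, pow_zero]
    have hbot := Subgroup.card_eq_one.mp hc
    apply le_antisymm hHi
    rw [hbot]
    exact bot_le
  · have hnot : ¬ H ≤ iterCommutator N G (i + 1) :=
      Nat.findGreatest_is_greatest (P := fun i => H ≤ iterCommutator N G i)
        (Nat.lt_succ_self i) hilt
    have hsup1 : iterCommutator N G i ≤ H ⊔ iterCommutator N G (i + 1) := by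
      have hle : H ⊔ iterCommutator N G (i + 1) ≤ iterCommutator N G i :=
        sup_le hHi (iter_succ_le hGN i)
      have hlt : iterCommutator N G (i + 1) < H ⊔ iterCommutator N G (i + 1) := by
        refine lt_of_le_of_ne le_sup_right ?_
        intro heq
        apply hnot
        rw [heq]
        exact le_sup_left
      have hdvd := Subgroup.card_dvd_of_le hle
      rw [hcards i hin] at hdvd
      obtain ⟨m, hm, hmeq⟩ := (Nat.dvd_prime_pow hp).mp hdvd
      have hlt' := card_lt_of_lt hlt
      rw [hmeq, hcards (i + 1) (by omega)] at hlt'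
      have h1 : n - (i + 1) < m := (Nat.pow_lt_pow_iff_right hp.one_lt).mp hlt'
      have hm' : m = n - i := by omega
      have := Subgroup.eq_of_le_of_card_ge hle (by rw [hcards i hin, hmeq, hm'])
      exact this.ge
    have hind : ∀ j, i + 1 ≤ j → j ≤ n →
        iterCommutator N G i ≤ H ⊔ iterCommutator N G j := by
      intro j hj
      induction j, hj using Nat.le_induction with
      | base =>
        intro _
        exact hsup1
      | succ j hj ih =>
        intro hjn
        have ihj := ih (by omega)
        have hHnj : H ≤ Subgroup.normalizer (iterCommutator N G j : Set L) :=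
          (hHN.trans le_sup_left).trans (hnorm j (by omega))
        have hHnj1 : H ≤ Subgroup.normalizer (iterCommutator N G (j + 1) : Set L) :=
          (hHN.trans le_sup_left).trans (hnorm (j + 1) hjn)
        have hstep : iterCommutator N G (i + 1) ≤ H ⊔ iterCommutator N G (j + 1) := by
          rw [iter_succ N G i]
          refine (Subgroup.commutator_mono ihj le_rfl).trans ?_
          rw [Subgroup.commutator_le]
          intro x hx g hg
          have hx' : x ∈ ((H ⊔ iterCommutator N G j : Subgroup L) : Set L) := hx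
          rw [Subgroup.coe_mul_of_left_le_normalizer_right H _ hHnj] at hx'
          obtain ⟨h, hh, m, hm, rfl⟩ := hx'
          have e : ⁅h * m, g⁆ = h * ⁅m, g⁆ * h⁻¹ * ⁅h, g⁆ := by
            simp only [commutatorElement_def]
            group
          rw [e]
          refine Subgroup.mul_mem _ ?_ ?_
          · apply Subgroup.mem_sup_right
            have hmg : ⁅m, g⁆ ∈ iterCommutator N G (j + 1) :=
              Subgroup.commutator_mem_commutator hm hg
            exact (Subgroup.mem_normalizer_iff.mp (hHnj1 hh) _).mp hmg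
          · apply Subgroup.mem_sup_left
            exact (Subgroup.le_normalizer_iff_commutator_le_left.mp hGH)
              (Subgroup.commutator_mem_commutator hh hg)
        exact hsup1.trans (sup_le le_sup_left hstep)
    have hfin := hind n (by omega) le_rfl
    have hbot : iterCommutator N G n = ⊥ :=
      Subgroup.card_eq_one.mp (by rw [hcards n le_rfl, Nat.sub_self, pow_zero])
    rw [hbot, sup_bot_eq] at hfin
    exact le_antisymm hHi hfin

/-- A p-group acts uniserially on a p-group N of order p^n exactly when the iterated commutator chain from N has length n; in that case the chain terms are all the invariant subgroups of N and they are normal in N. -/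
theorem result {L : Type*} [Group L] [Finite L] {p : ℕ} [Fact p.Prime] (N G : Subgroup L) (hN : IsPGroup p N) (hG : IsPGroup p G) (hGN : G ≤ Subgroup.normalizer (N : Set L)) (n : ℕ) (hn : Nat.card N = p ^ n) : ((∀ H : Subgroup L, H ≤ N → G ≤ Subgroup.normalizer (H : Set L) → H ≠ ⊥ → (⁅H, G⁆).relIndex H = p) ↔ Cfsg.iterCommutator N G (n - 1) ≠ ⊥ ∨ n = 0) ∧ ((∀ H : Subgroup L, H ≤ N → G ≤ Subgroup.normalizer (H : Set L) → H ≠ ⊥ → (⁅H, G⁆).relIndex H = p) → ∀ H : Subgroup L, H ≤ N → G ≤ Subgroup.normalizer (H : Set L) → (∃ i ≤ n, H = Cfsg.iterCommutator N G i) ∧ N ≤ Subgroup.normalizer (H : Set L)) := by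
  have hp : p.Prime := Fact.out
  have hrel : (∀ i, i ≤ n → Nat.card (iterCommutator N G i) = p ^ (n - i)) →
      ∀ H : Subgroup L, H ≤ N → G ≤ Subgroup.normalizer (H : Set L) → H ≠ ⊥ →
        (⁅H, G⁆).relIndex H = p := by
    intro hcards H hHN hGH hne
    obtain ⟨i, hin, rfl⟩ := adm_eq_iter hN hG hGN n hcards hHN hGH
    have hilt : i < n := by
      by_contra hcon
      apply hne
      apply Subgroup.card_eq_one.mp
      rw [hcards i hin]
      have : n - i = 0 := by omega
      rw [this, pow_zero]
    have hmul := card_mul_relIndex' (Subgroup.le_normalizer_iff_commutator_le_left.mp hGH)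
    have h1 : Nat.card (⁅iterCommutator N G i, G⁆ : Subgroup L) = p ^ (n - (i + 1)) := hcards (i + 1) (by omega)
    rw [h1, hcards i hin] at hmul
    have : p ^ (n - i) = p ^ (n - (i + 1)) * p := by
      rw [← pow_succ]
      congr 1
      omega
    rw [this] at hmul
    exact Nat.eq_of_mul_eq_mul_left (pow_pos hp.pos _) hmul
  refine ⟨⟨?_, ?_⟩, ?_⟩
  · intro hU
    have hcards := cards_of_unis hGN n hn hU
    rcases Nat.eq_zero_or_pos n with h0 | hpos
    · right
      exact h0
    · left
      exact ne_bot_of_card (by omega : 0 < n - (n - 1)) (hcards (n - 1) (by omega))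
  · intro h
    exact hrel (cards_of_chain hN hG hGN n hn h)
  · intro hU H hHN hGH
    have hcards := cards_of_unis hGN n hn hU
    obtain ⟨i, hin, hi⟩ := adm_eq_iter hN hG hGN n hcards hHN hGH
    refine ⟨⟨i, hin, hi⟩, ?_⟩
    rw [hi]
    exact le_sup_left.trans (iter_normal hN hG hGN n hcards i hin)

end Cfsg.Agent.S0663
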