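-- Statement S0842: generalized quaternion Sylow 2-subgroup, centralizer/normalizer of its derived subgroup.
import Cfsg.Statements.S0842
import Mathlib
import Cfsg.Agent.Lib.Helper3.QuatSylow

set_option autoImplicit false
open Cfsg

namespace Cfsg.Agent.S0842

open Cfsg.Agent.Lib.Helper3
open scoped commutatorElement

section quat

variable (k : ℕ)

theorem quatSign_a (i : ZMod (2 * k)) : quatSign k (QuaternionGroup.a i) = 1 := rfl

theorem quatSign_xa (i : ZMod (2 * k)) : quatSign k (QuaternionGroup.xa i) = -1 := rfl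

theorem q_inv_a (i : ZMod (2 * k)) :
    (QuaternionGroup.a i : QuaternionGroup k)⁻¹ = QuaternionGroup.a (-i) := rfl

theorem q_inv_xa (i : ZMod (2 * k)) :
    (QuaternionGroup.xa i : QuaternionGroup k)⁻¹ = QuaternionGroup.xa ((k : ZMod (2 * k)) + i) := rfl

theorem comm_xa_a :
    ⁅(QuaternionGroup.xa 0 : QuaternionGroup k), (QuaternionGroup.a 1 : QuaternionGroup k)⁆ =
      QuaternionGroup.a (-2) := by
  rw [commutatorElement_def]
  rw [q_inv_a, q_inv_xa, QuaternionGroup.xa_mul_a, QuaternionGroup.xa_mul_xa,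
    QuaternionGroup.a_mul_a]
  congr 1
  have : (2 * k : ZMod (2 * k)) = 0 := by norm_cast; simp
  linear_combination this

theorem not_comm_xa (hk : (4 : ZMod (2 * k)) ≠ 0) (i : ZMod (2 * k)) :
    (QuaternionGroup.a (-2) : QuaternionGroup k) * QuaternionGroup.xa i ≠
      QuaternionGroup.xa i * QuaternionGroup.a (-2) := by
  simp only [QuaternionGroup.a_mul_xa, QuaternionGroup.xa_mul_a, ne_eq, QuaternionGroup.xa.injEq]
  intro h
  apply hk
  linear_combination h

end quat


theorem four_ne_zero (n : ℕ) : (4 : ZMod (2 * 2 ^ (n + 2))) ≠ 0 := by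
  intro h
  have h1 : ((4 : ℕ) : ZMod (2 * 2 ^ (n + 2))) = 0 := by exact_mod_cast h
  rw [ZMod.natCast_eq_zero_iff] at h1
  have h2 := Nat.le_of_dvd (by norm_num) h1
  have h3 : 2 ^ 2 ≤ 2 ^ (n + 2) := Nat.pow_le_pow_right (by norm_num) (by omega)
  omega

section main

variable {G : Type*} [Group G] [Finite G]

/-- Step in `↥N`: the index computations. -/
theorem index_step {H : Type*} [Group H] [Finite H] (S₁ C₁ : Subgroup H) [C₁.Normal]
    (hodd : ¬ 2 ∣ S₁.index) (hrel : C₁.relIndex S₁ = 2) (i : ℕ) (hpow : C₁.index ∣ 2 ^ i) :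
    C₁.index = 2 ∧ S₁ ⊔ C₁ = ⊤ ∧ S₁.relIndex C₁ = S₁.index := by
  have h1 : C₁.relIndex (S₁ ⊔ C₁) = 2 := by rw [Subgroup.relIndex_sup_right, hrel]
  have h2 : C₁.relIndex (S₁ ⊔ C₁) * (S₁ ⊔ C₁).index = C₁.index :=
    Subgroup.relIndex_mul_index le_sup_right
  rw [h1] at h2
  have h3 : (S₁ ⊔ C₁).index ∣ S₁.index := Subgroup.index_dvd_of_le le_sup_left
  have h4 : (S₁ ⊔ C₁).index ∣ 2 ^ i := (Dvd.intro_left _ h2).trans hpow
  obtain ⟨l, -, hl⟩ := (Nat.dvd_prime_pow Nat.prime_two).mp h4
  have hl0 : l = 0 := by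
    by_contra hne
    apply hodd
    refine dvd_trans ?_ h3
    rw [hl]
    exact dvd_pow_self 2 hne
  rw [hl0, pow_zero] at hl
  have hidx : C₁.index = 2 := by omega
  refine ⟨hidx, Subgroup.index_eq_one.mp hl, ?_⟩
  have e1 : (S₁ ⊓ C₁).relIndex C₁ * C₁.relIndex ⊤ = (S₁ ⊓ C₁).relIndex ⊤ :=
    Subgroup.relIndex_mul_relIndex _ _ _ inf_le_right le_top
  have e2 : (S₁ ⊓ C₁).relIndex S₁ * S₁.relIndex ⊤ = (S₁ ⊓ C₁).relIndex ⊤ :=
    Subgroup.relIndex_mul_relIndex _ _ _ inf_le_left le_top
  rw [Subgroup.inf_relIndex_right, Subgroup.relIndex_top_right, hidx] at e1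
  rw [Subgroup.inf_relIndex_left, Subgroup.relIndex_top_right, hrel] at e2
  have e3 : S₁.relIndex C₁ * 2 = 2 * S₁.index := e1.trans e2.symm
  omega

/-- Suppose a Sylow 2-subgroup S of the finite group G is generalized quaternion of order at least 16, and let D be the commutator subgroup of S, C its centralizer and N its normalizer in G. Then there is a subgroup K of odd order, contained in C and normalized by N, with K ⊔ S = N and K ⊔ (S ⊓ C) = C, and C has index 2 in N. -/
theorem result {G : Type*} [Group G] [Finite G] (S : Sylow 2 G) (n : ℕ) (e : (S : Subgroup G) ≃* QuaternionGroup (2 ^ (n + 2))) (D : Subgroup G) (hD : D = ⁅(S : Subgroup G), (S : Subgroup G)⁆) : ∃ K : Subgroup G, Odd (Nat.card K) ∧ K ≤ Subgroup.centralizer (D : Set G) ∧ Subgroup.normalizer (D : Set G) ≤ Subgroup.normalizer (K : Set G) ∧ K ⊔ (S : Subgroup G) = Subgroup.normalizer (D : Set G) ∧ K ⊔ ((S : Subgroup G) ⊓ Subgroup.centralizer (D : Set G)) = Subgroup.centralizer (D : Set G) ∧ ((Subgroup.centralizer (D : Set G)).subgroupOf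 (Subgroup.normalizer (D : Set G))).index = 2 := by
  classical
  haveI : Fact (Nat.Prime 2) := ⟨Nat.prime_two⟩
  -- the sign homomorphism on `S`
  let ψ : (S : Subgroup G) →* ℤˣ := (quatSign (2 ^ (n + 2))).comp e.toMonoidHom
  have hψ : ∀ s : (S : Subgroup G), ψ s = quatSign (2 ^ (n + 2)) (e s) := fun s => rfl
  -- (f1) D ≤ S
  have hDS : D ≤ (S : Subgroup G) := by
    rw [hD, Subgroup.commutator_le]
    intro g₁ h1 g₂ h2
    rw [commutatorElement_def]
    exact Subgroup.mul_mem _ (Subgroup.mul_mem _ (Subgroup.mul_mem _ h1 h2)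
      (Subgroup.inv_mem _ h1)) (Subgroup.inv_mem _ h2)
  -- (f2) ψ is trivial on D
  have hψD : ∀ d (hd : d ∈ D), ψ ⟨d, hDS hd⟩ = 1 := by
    intro d hd
    have hker : commutator (S : Subgroup G) ≤ ψ.ker := Abelianization.commutator_subset_ker ψ
    have hd' : d ∈ (commutator (S : Subgroup G)).map (S : Subgroup G).subtype := by
      rw [Subgroup.map_subtype_commutator, ← hD]; exact hd
    obtain ⟨u, hu, hud⟩ := hd'
    have : u = ⟨d, hDS hd⟩ := Subtype.ext hud
    rw [← this]
    exact hker hu
  -- commuting from signs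
  have hcomm : ∀ u v : (S : Subgroup G), ψ u = 1 → ψ v = 1 → (u : G) * v = v * u := by
    intro u v hu hv
    have h1 : u * v = v * u := by
      apply e.injective
      rw [map_mul, map_mul]
      exact quat_comm_of_sign _ _ _ hu hv
    exact congrArg Subtype.val h1
  -- (f3) membership of `S` in the centralizer
  have hSC : ∀ s (hs : s ∈ (S : Subgroup G)),
      s ∈ Subgroup.centralizer (D : Set G) ↔ ψ ⟨s, hs⟩ = 1 := by
    intro s hs
    constructor
    · intro hsC
      by_contra hne
      rw [hψ] at hne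
      rcases hes : e ⟨s, hs⟩ with i | i
      · rw [hes, quatSign_a] at hne; exact hne rfl
      · -- the element `d₀ = e⁻¹(a(-2))` of `D`
        have hd₀ : ((e.symm (QuaternionGroup.a (-2)) : (S : Subgroup G)) : G) ∈ D := by
          rw [← comm_xa_a, map_commutatorElement, hD]
          have := Subgroup.commutator_mem_commutator (H₁ := (S : Subgroup G))
            (H₂ := (S : Subgroup G)) (e.symm (QuaternionGroup.xa 0)).2
            (e.symm (QuaternionGroup.a 1)).2
          exact this
        have h1 := Subgroup.mem_centralizer_iff.mp hsC _ hd₀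
        have h2 : e.symm (QuaternionGroup.a (-2)) * ⟨s, hs⟩ = ⟨s, hs⟩ * e.symm (QuaternionGroup.a (-2)) :=
          Subtype.ext h1
        have h3 := congrArg e h2
        rw [map_mul, map_mul, e.apply_symm_apply, hes] at h3
        exact not_comm_xa _ (four_ne_zero n) i h3
    · intro hs1
      rw [Subgroup.mem_centralizer_iff]
      intro d hd
      exact hcomm ⟨d, hDS hd⟩ ⟨s, hs⟩ (hψD d hd) hs1
  -- (f4) index 2
  have hrelS : (Subgroup.centralizer (D : Set G)).relIndex (S : Subgroup G) = 2 := by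
    have hker : (Subgroup.centralizer (D : Set G)).subgroupOf (S : Subgroup G) = ψ.ker := by
      ext s
      rw [Subgroup.mem_subgroupOf, MonoidHom.mem_ker]
      exact hSC s s.2
    rw [Subgroup.relIndex, hker, Subgroup.index_ker]
    have hsurj : ψ.range = ⊤ := by
      rw [Subgroup.eq_top_iff']
      intro u
      rcases Int.units_eq_one_or u with h | h
      · rw [h]; exact Subgroup.one_mem _
      · refine ⟨e.symm (QuaternionGroup.xa 0), ?_⟩
        rw [hψ, e.apply_symm_apply, quatSign_xa, h]
    rw [hsurj, Subgroup.card_top, Nat.card_eq_fintype_card, Fintype.card_units_int]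
  -- unique involution machinery
  have hinv : ∀ (K : Subgroup G), IsPGroup 2 K → ∀ x y, x ∈ K → y ∈ K →
      orderOf x = 2 → orderOf y = 2 → x = y :=
    fun K hK x y hx hy hox hoy =>
      unique_inv_of_isPGroup S (unique_inv_sylow S n e) K hK x y hx hy hox hoy
  -- (f5) T = S ⊓ C is cyclic
  have hT2 : IsPGroup 2 ((S : Subgroup G) ⊓ Subgroup.centralizer (D : Set G) : Subgroup G) :=
    S.2.to_le inf_le_left
  have hTcyc : IsCyclic ((S : Subgroup G) ⊓ Subgroup.centralizer (D : Set G) : Subgroup G) := by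
    apply isCyclic_of_abelian_two_subgroup hinv _ hT2
    intro x hx y hy
    exact hcomm ⟨x, hx.1⟩ ⟨y, hy.1⟩ ((hSC x hx.1).mp hx.2) ((hSC y hy.1).mp hy.2)
  -- (f6) D is cyclic
  have hD2 : IsPGroup 2 D := S.2.to_le hDS
  have hDcyc : IsCyclic D := by
    apply isCyclic_of_abelian_two_subgroup hinv _ hD2
    rw [hD]
    exact comm_of_mem_commutator_quaternion _ _ e
  -- (f7) S ≤ N
  have hSN : (S : Subgroup G) ≤ Subgroup.normalizer (D : Set G) := by
    rw [Subgroup.le_normalizer_iff]
    intro s hs d hd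
    have h1 : ⁅s, d⁆ ∈ D := by
      rw [hD]
      exact Subgroup.commutator_mem_commutator hs (hDS hd)
    have h2 : s * d * s⁻¹ = ⁅s, d⁆ * d := by rw [commutatorElement_def]; group
    rw [h2]
    exact D.mul_mem h1 hd
  -- (f8) C ≤ N
  have hCN : Subgroup.centralizer (D : Set G) ≤ Subgroup.normalizer (D : Set G) :=
    Subgroup.centralizer_le_normalizer _
  -- (f9) [N : C] is a power of 2
  have hkerN := Subgroup.normalizerMonoidHom_ker (H := D)
  haveI hC₁n : ((Subgroup.centralizer (D : Set G)).subgroupOf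
      (Subgroup.normalizer (D : Set G))).Normal := by
    rw [← hkerN]; infer_instance
  obtain ⟨i, hpow⟩ : ∃ i, ((Subgroup.centralizer (D : Set G)).subgroupOf
      (Subgroup.normalizer (D : Set G))).index ∣ 2 ^ i := by
    have key := Subgroup.card_dvd_of_injective _
      (QuotientGroup.kerLift_injective D.normalizerMonoidHom)
    rw [hkerN, ← Subgroup.index] at key
    obtain ⟨j, hj⟩ := hD2.exists_card_eq
    haveI := hDcyc
    rw [IsCyclic.card_mulAut, hj] at key
    rcases Nat.eq_zero_or_pos j with h0 | h0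
    · rw [h0, pow_zero, Nat.totient_one] at key
      exact ⟨0, by rw [pow_zero]; exact key⟩
    · rw [Nat.totient_prime_pow Nat.prime_two h0] at key
      exact ⟨j - 1, by simpa using key⟩
  -- (f10) index step in `↥N`
  have hoddN : ¬ 2 ∣ ((S : Subgroup G).subgroupOf (Subgroup.normalizer (D : Set G))).index := by
    intro h
    exact S.not_dvd_index (h.trans (Subgroup.relIndex_dvd_index_of_le hSN))
  have hrelN : ((Subgroup.centralizer (D : Set G)).subgroupOf
      (Subgroup.normalizer (D : Set G))).relIndex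
      ((S : Subgroup G).subgroupOf (Subgroup.normalizer (D : Set G))) = 2 := by
    rw [Subgroup.relIndex_subgroupOf hSN, hrelS]
  obtain ⟨hidx, hsup, hrelSC⟩ := index_step _ _ hoddN hrelN i hpow
  have hSCN : (S : Subgroup G) ⊔ Subgroup.centralizer (D : Set G) =
      Subgroup.normalizer (D : Set G) := by
    have h1 := congrArg (Subgroup.map (Subgroup.normalizer (D : Set G)).subtype) hsup
    rw [Subgroup.map_sup, Subgroup.subgroupOf_map_subtype, Subgroup.subgroupOf_map_subtype,
      inf_eq_left.mpr hSN, inf_eq_left.mpr hCN, ← MonoidHom.range_eq_map,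
      Subgroup.range_subtype] at h1
    exact h1
  -- (f11) T is a Sylow 2-subgroup of C
  have hT₀2 : IsPGroup 2 (((S : Subgroup G) ⊓ Subgroup.centralizer (D : Set G)).subgroupOf
      (Subgroup.centralizer (D : Set G))) := hT2.comap_subtype
  have hT₀idx : ¬ 2 ∣ (((S : Subgroup G) ⊓ Subgroup.centralizer (D : Set G)).subgroupOf
      (Subgroup.centralizer (D : Set G))).index := by
    rw [← Subgroup.relIndex, Subgroup.inf_relIndex_right,
      ← Subgroup.relIndex_subgroupOf hCN, hrelSC]
    exact hoddN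
  let P : Sylow 2 (Subgroup.centralizer (D : Set G)) := hT₀2.toSylow hT₀idx
  have hPcoe : (P : Subgroup (Subgroup.centralizer (D : Set G))) =
      ((S : Subgroup G) ⊓ Subgroup.centralizer (D : Set G)).subgroupOf
        (Subgroup.centralizer (D : Set G)) := rfl
  have hPcyc : IsCyclic (P : Subgroup (Subgroup.centralizer (D : Set G))) :=
    (Subgroup.subgroupOfEquivOfLe (inf_le_right :
      (S : Subgroup G) ⊓ Subgroup.centralizer (D : Set G) ≤ _)).isCyclic.mpr hTcyc
  -- (f13) the order of `C` is even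
  have hcardT : Nat.card ((S : Subgroup G) ⊓ Subgroup.centralizer (D : Set G) : Subgroup G) * 2 =
      Nat.card (S : Subgroup G) := by
    have h := Subgroup.card_mul_index
      (((S : Subgroup G) ⊓ Subgroup.centralizer (D : Set G)).subgroupOf (S : Subgroup G))
    rw [← Subgroup.relIndex, Subgroup.inf_relIndex_left, hrelS] at h
    rwa [Nat.card_congr (Subgroup.subgroupOfEquivOfLe (inf_le_left :
      (S : Subgroup G) ⊓ Subgroup.centralizer (D : Set G) ≤ _)).toEquiv] at h
  have hcardS : Nat.card (S : Subgroup G) = 4 * 2 ^ (n + 2) := by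
    rw [Nat.card_congr e.toEquiv, Nat.card_eq_fintype_card, QuaternionGroup.card]
  have h2C : 2 ∣ Nat.card (Subgroup.centralizer (D : Set G)) := by
    have h1 : Nat.card (P : Subgroup (Subgroup.centralizer (D : Set G))) ∣
        Nat.card (Subgroup.centralizer (D : Set G)) := Subgroup.card_subgroup_dvd_card _
    refine dvd_trans ?_ h1
    rw [hPcoe, Nat.card_congr (Subgroup.subgroupOfEquivOfLe (inf_le_right :
      (S : Subgroup G) ⊓ Subgroup.centralizer (D : Set G) ≤ _)).toEquiv]
    exact ⟨2 ^ (n + 2), by omega⟩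
  have hp : (Nat.card (Subgroup.centralizer (D : Set G))).minFac = 2 :=
    (Nat.minFac_eq_two_iff _).mpr h2C
  have hcompl := IsCyclic.isComplement' hp hPcyc
  have hle := hPcyc.normalizer_le_centralizer hp
  have hcardK : Nat.card (MonoidHom.transferSylow P hle).ker *
      Nat.card (P : Subgroup (Subgroup.centralizer (D : Set G))) =
      Nat.card (Subgroup.centralizer (D : Set G)) := hcompl.card_mul_card
  have hcardP : Nat.card (P : Subgroup (Subgroup.centralizer (D : Set G))) *
      (P : Subgroup (Subgroup.centralizer (D : Set G))).index =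
      Nat.card (Subgroup.centralizer (D : Set G)) := Subgroup.card_mul_index _
  have hK₀idx : Nat.card (MonoidHom.transferSylow P hle).ker =
      (P : Subgroup (Subgroup.centralizer (D : Set G))).index := by
    have hpos : 0 < Nat.card (P : Subgroup (Subgroup.centralizer (D : Set G))) := Nat.card_pos
    apply Nat.eq_of_mul_eq_mul_left hpos
    rw [hcardP, mul_comm, hcardK]
  have hK₀odd : ¬ 2 ∣ Nat.card (MonoidHom.transferSylow P hle).ker := by
    rw [hK₀idx]; exact hT₀idx
  obtain ⟨j, hj⟩ := P.2.exists_card_eq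
  have hcop : Nat.Coprime (Nat.card (MonoidHom.transferSylow P hle).ker)
      (Nat.card (P : Subgroup (Subgroup.centralizer (D : Set G)))) := by
    rw [hj]
    apply Nat.Coprime.pow_right
    rw [Nat.coprime_comm]
    exact (Nat.Prime.coprime_iff_not_dvd Nat.prime_two).mpr hK₀odd
  have hPmap : (P : Subgroup (Subgroup.centralizer (D : Set G))).map
      (Subgroup.centralizer (D : Set G)).subtype =
      (S : Subgroup G) ⊓ Subgroup.centralizer (D : Set G) := by
    rw [hPcoe, Subgroup.subgroupOf_map_subtype, inf_eq_left.mpr inf_le_right]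
  refine ⟨(MonoidHom.transferSylow P hle).ker.map (Subgroup.centralizer (D : Set G)).subtype,
    ?_, Subgroup.map_subtype_le _, ?_, ?_, ?_, hidx⟩
  · -- odd order
    rw [Subgroup.card_map_of_injective (Subgroup.subtype_injective _)]
    rcases Nat.even_or_odd (Nat.card (MonoidHom.transferSylow P hle).ker) with h | h
    · exact absurd (even_iff_two_dvd.mp h) hK₀odd
    · exact h
  · -- normalized by N
    rw [Subgroup.le_normalizer_iff]
    intro g hg k hk
    obtain ⟨k₀, hk₀, rfl⟩ := hk
    have hyC : g * (k₀ : G) * g⁻¹ ∈ Subgroup.centralizer (D : Set G) := by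
      have := hC₁n.conj_mem ⟨(k₀ : G), hCN k₀.2⟩ (Subgroup.mem_subgroupOf.mpr k₀.2) ⟨g, hg⟩
      rw [Subgroup.mem_subgroupOf] at this
      exact this
    refine ⟨⟨g * (k₀ : G) * g⁻¹, hyC⟩, ?_, rfl⟩
    rw [SetLike.mem_coe, MonoidHom.mem_ker]
    have ho1 := orderOf_map_dvd (MonoidHom.transferSylow P hle)
      (⟨g * (k₀ : G) * g⁻¹, hyC⟩ : Subgroup.centralizer (D : Set G))
    have ho2 : orderOf (⟨g * (k₀ : G) * g⁻¹, hyC⟩ : Subgroup.centralizer (D : Set G)) =
        orderOf k₀ := by
      rw [Subgroup.orderOf_mk, ← MulAut.conj_apply, MulEquiv.orderOf_eq, Subgroup.orderOf_coe]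
    have ho3 : orderOf k₀ ∣ Nat.card (MonoidHom.transferSylow P hle).ker := by
      have := orderOf_dvd_natCard (⟨k₀, hk₀⟩ : (MonoidHom.transferSylow P hle).ker)
      rwa [Subgroup.orderOf_mk] at this
    have ho4 : orderOf ((MonoidHom.transferSylow P hle) ⟨g * (k₀ : G) * g⁻¹, hyC⟩) ∣
        Nat.card (P : Subgroup (Subgroup.centralizer (D : Set G))) := orderOf_dvd_natCard _
    have ho5 := Nat.eq_one_of_dvd_coprimes hcop ((ho1.trans (ho2 ▸ dvd_rfl)).trans ho3) ho4
    exact orderOf_eq_one_iff.mp ho5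
  · -- K ⊔ S = N
    have h1 := congrArg (Subgroup.map (Subgroup.centralizer (D : Set G)).subtype) hcompl.sup_eq_top
    rw [Subgroup.map_sup, hPmap, ← MonoidHom.range_eq_map, Subgroup.range_subtype] at h1
    calc (MonoidHom.transferSylow P hle).ker.map (Subgroup.centralizer (D : Set G)).subtype ⊔
          (S : Subgroup G)
        = (MonoidHom.transferSylow P hle).ker.map (Subgroup.centralizer (D : Set G)).subtype ⊔
          (((S : Subgroup G) ⊓ Subgroup.centralizer (D : Set G)) ⊔ (S : Subgroup G)) := by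
          rw [sup_eq_right.mpr (inf_le_left :
            (S : Subgroup G) ⊓ Subgroup.centralizer (D : Set G) ≤ (S : Subgroup G))]
      _ = Subgroup.centralizer (D : Set G) ⊔ (S : Subgroup G) := by rw [← sup_assoc, h1]
      _ = Subgroup.normalizer (D : Set G) := by rw [sup_comm, hSCN]
  · -- K ⊔ T = C
    have h1 := congrArg (Subgroup.map (Subgroup.centralizer (D : Set G)).subtype) hcompl.sup_eq_top
    rw [Subgroup.map_sup, hPmap, ← MonoidHom.range_eq_map, Subgroup.range_subtype] at h1
    exact h1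

end main

end Cfsg.Agent.S0842
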