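import Cfsg.Statements.S0843
import Mathlib
import Cfsg.Agent.Lib.Helper3.QuatSylow
import Cfsg.Agent.Lib.Helper2.NilpotentCoprime
-- import your own Cfsg.Agent.* helpers here

set_option autoImplicit false
open Cfsg

namespace Cfsg.Agent.S0843

open Cfsg.Agent.Lib.Helper3 in
theorem part_one {G : Type*} [Group G] [Finite G] (S : Sylow 2 G) (n : ℕ)
    (e : (S : Subgroup G) ≃* QuaternionGroup (2 ^ (n + 2))) (D : Subgroup G)
    (hD : D = ⁅(S : Subgroup G), (S : Subgroup G)⁆) (y : G)
    (hy : y ∈ Subgroup.centralizer (D : Set G)) (hdvd : Nat.card D ∣ orderOf y) :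
    D ≤ Subgroup.zpowers y := by
  classical
  have : Fact (Nat.Prime 2) := ⟨Nat.prime_two⟩
  have hDS : D ≤ S := by rw [hD]; exact Subgroup.commutator_le_self _
  have hDp : IsPGroup 2 D := S.isPGroup'.to_le hDS
  have hDcomm : ∀ x ∈ D, ∀ y ∈ D, x * y = y * x := by
    rw [hD]; exact comm_of_mem_commutator_quaternion _ _ e
  have hSinv := unique_inv_sylow S n e
  have hinv := fun K hK => unique_inv_of_isPGroup S hSinv K hK
  obtain ⟨a, b, ha, hb, hyab, ⟨k, hak⟩, hbcop⟩ :=
    Cfsg.Agent.Lib.Helper2.exists_p_decomp y 2 Nat.prime_two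
  have hab : Commute a b := by
    obtain ⟨i, rfl⟩ := Subgroup.mem_zpowers_iff.mp ha
    obtain ⟨j, rfl⟩ := Subgroup.mem_zpowers_iff.mp hb
    exact (Commute.refl y).zpow_zpow i j
  obtain ⟨m, hmk, hm⟩ := (Nat.dvd_prime_pow Nat.prime_two).mp hak
  have hcop : (orderOf a).Coprime (orderOf b) := by
    rw [hm]; exact (Nat.Coprime.pow_left m hbcop.symm)
  have hord : orderOf y = orderOf a * orderOf b := by
    conv_lhs => rw [hyab]
    exact hab.orderOf_mul_eq_mul_orderOf_of_coprime hcop
  obtain ⟨j, hj⟩ := IsPGroup.iff_card.mp hDp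
  have hda : Nat.card D ∣ orderOf a := by
    rw [hord] at hdvd
    apply Nat.Coprime.dvd_of_dvd_mul_right _ hdvd
    rw [hj]; exact (Nat.Coprime.pow_left j hbcop.symm)
  have haC : a ∈ Subgroup.centralizer (D : Set G) := (Subgroup.zpowers_le.mpr hy) ha
  have hap : IsPGroup 2 (Subgroup.zpowers a) := by
    apply IsPGroup.of_card (n := m)
    rw [Nat.card_zpowers, hm]
  have haN : Subgroup.zpowers a ≤ Subgroup.normalizer (D : Set G) := by
    rw [Subgroup.zpowers_le]
    exact Subgroup.centralizer_le_normalizer _ haC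
  have hKp : IsPGroup 2 (Subgroup.zpowers a ⊔ D : Subgroup G) :=
    IsPGroup.to_sup_of_normal_right' hap hDp haN
  have hKcomm : ∀ x ∈ (Subgroup.zpowers a ⊔ D : Subgroup G),
      ∀ y ∈ (Subgroup.zpowers a ⊔ D : Subgroup G), x * y = y * x := by
    have h1 : (Subgroup.zpowers a ⊔ D : Subgroup G) = Subgroup.closure ({a} ∪ (D : Set G)) := by
      rw [Subgroup.closure_union, Subgroup.closure_eq, Subgroup.zpowers_eq_closure]
    rw [h1]
    apply Cfsg.Agent.Lib.Lead.UniqueOrderP.closure_comm_of_comm
    intro x hx z hz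
    rcases hx with hx | hx
    · rw [Set.mem_singleton_iff] at hx; subst hx
      rcases hz with hz | hz
      · rw [Set.mem_singleton_iff] at hz; subst hz; rfl
      · exact (Subgroup.mem_centralizer_iff.mp haC z hz).symm
    · rcases hz with hz | hz
      · rw [Set.mem_singleton_iff] at hz; subst hz
        exact (Subgroup.mem_centralizer_iff.mp haC x hx)
      · exact hDcomm x hx z hz
  have hKc : IsCyclic (Subgroup.zpowers a ⊔ D : Subgroup G) :=
    isCyclic_of_abelian_two_subgroup hinv _ hKp hKcomm
  have := le_of_card_dvd_of_le_isCyclic (Subgroup.zpowers a ⊔ D) D (Subgroup.zpowers a) hKc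
    le_sup_right le_sup_left (by rw [Nat.card_zpowers]; exact hda)
  exact this.trans (Subgroup.zpowers_le.mpr ha)

/-- Suppose a Sylow 2-subgroup S of the finite group G is generalized quaternion of order at least 16; let D be the commutator subgroup of S and X the set of elements of the centralizer of D whose order is divisible by the order of D. Then D is contained in the cyclic subgroup generated by any element of X; an element of G conjugating some element of X into the centralizer of D normalizes D; and the normalizer of D maps X to itself under conjugation. -/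
theorem result {G : Type*} [Group G] [Finite G] (S : Sylow 2 G) (n : ℕ) (e : (S : Subgroup G) ≃* QuaternionGroup (2 ^ (n + 2))) (D : Subgroup G) (hD : D = ⁅(S : Subgroup G), (S : Subgroup G)⁆) : (∀ y : G, y ∈ Subgroup.centralizer (D : Set G) → Nat.card D ∣ orderOf y → D ≤ Subgroup.zpowers y) ∧ (∀ g y : G, y ∈ Subgroup.centralizer (D : Set G) → Nat.card D ∣ orderOf y → g * y * g⁻¹ ∈ Subgroup.centralizer (D : Set G) → g ∈ Subgroup.normalizer (D : Set G)) ∧ (∀ g y : G, g ∈ Subgroup.normalizer (D : Set G) → y ∈ Subgroup.centralizer (D : Set G) → Nat.card D ∣ orderOf y → g * y * g⁻¹ ∈ Subgroup.centralizer (D : Set G) ∧ Nat.card D ∣ orderOf (g * y * g⁻¹)) := by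
  classical
  have h1 := fun y hy hdvd => part_one S n e D hD y hy hdvd
  refine ⟨h1, ?_, ?_⟩
  · intro g y hy hdvd hgy
    have hD1 : D ≤ Subgroup.zpowers y := h1 y hy hdvd
    have hord : orderOf (g * y * g⁻¹) = orderOf y := by
      have := (MulAut.conj g).orderOf_eq y
      rwa [MulAut.conj_apply] at this
    have hD2 : D ≤ Subgroup.zpowers (g * y * g⁻¹) := h1 _ hgy (by rw [hord]; exact hdvd)
    -- the conjugate of D
    have hmap : D.map (MulAut.conj g).toMonoidHom ≤ Subgroup.zpowers (g * y * g⁻¹) := by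
      rintro _ ⟨d, hd, rfl⟩
      obtain ⟨i, hi⟩ := Subgroup.mem_zpowers_iff.mp (hD1 hd)
      rw [Subgroup.mem_zpowers_iff]
      refine ⟨i, ?_⟩
      rw [← hi]
      simp [MulAut.conj_apply, conj_zpow]
    have hcardmap : Nat.card (D.map (MulAut.conj g).toMonoidHom) = Nat.card D :=
      Subgroup.card_map_of_injective (MulAut.conj g).injective
    have hcyc : IsCyclic (Subgroup.zpowers (g * y * g⁻¹)) := inferInstance
    have hle := Cfsg.Agent.Lib.Helper3.le_of_card_dvd_of_le_isCyclic
      (Subgroup.zpowers (g * y * g⁻¹)) (D.map (MulAut.conj g).toMonoidHom) D hcyc hmap hD2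
      (by rw [hcardmap])
    apply Subgroup.mem_normalizer_fintype
    intro d hd
    apply hle
    exact ⟨d, hd, by simp [MulAut.conj_apply]⟩
  · intro g y hg hy hdvd
    constructor
    · rw [Subgroup.mem_centralizer_iff]
      intro d hd
      have hg' : g⁻¹ * d * g ∈ (D : Set G) := (Subgroup.mem_set_normalizer_iff''.mp hg d).mp hd
      have := Subgroup.mem_centralizer_iff.mp hy _ hg'
      calc d * (g * y * g⁻¹) = g * ((g⁻¹ * d * g) * y) * g⁻¹ := by group
        _ = g * (y * (g⁻¹ * d * g)) * g⁻¹ := by rw [this]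
        _ = g * y * g⁻¹ * d := by group
    · have := (MulAut.conj g).orderOf_eq y
      rw [MulAut.conj_apply] at this
      rw [this]; exact hdvd

end Cfsg.Agent.S0843
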