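import Mathlib
import Cfsg.Prelude
import Cfsg.Statements.S0847
import Cfsg.Agent.Lib.Helper7.BSF
import Cfsg.Agent.Lib.Helper2.NilpotentCoprime

set_option autoImplicit false
open Cfsg

namespace Cfsg.Agent.S0847

/-- The Brauer–Suzuki Theorem in the case of order at least 16: if a Sylow 2-subgroup S of the finite group G is generalized quaternion of order at least 16 and G has no nontrivial normal subgroup of odd order, then the centre of G has order 2. -/
theorem result {G : Type*} [Group G] [Finite G] (S : Sylow 2 G) (n : ℕ) (e : (S : Subgroup G) ≃* QuaternionGroup (2 ^ (n + 2))) (hO : ∀ N : Subgroup G, N.Normal → Odd (Nat.card N) → N = ⊥) : Nat.card (Subgroup.center G) = 2 := by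
  classical
  haveI : Fact (Nat.Prime 2) := ⟨Nat.prime_two⟩
  haveI hk0 : NeZero (2 ^ (n + 2)) := ⟨by positivity⟩
  obtain ⟨M, hMn, hinvol, hab⟩ := Cfsg.Agent.Lib.Helper7.BS.bs_normal S n e
  have hSinv := Cfsg.Agent.Lib.Helper3.unique_inv_sylow S n e
  have hinv := fun K hK => Cfsg.Agent.Lib.Helper3.unique_inv_of_isPGroup S hSinv K hK
  -- the Sylow 2-subgroup of M is cyclic
  obtain ⟨P⟩ : Nonempty (Sylow 2 ↥M) := inferInstance
  have hR : IsPGroup 2 ((P : Subgroup ↥M).map M.subtype) := P.isPGroup'.map _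
  have hRM : (P : Subgroup ↥M).map M.subtype ≤ M := by
    rintro _ ⟨x, -, rfl⟩; exact x.2
  have hcycR : IsCyclic ((P : Subgroup ↥M).map M.subtype) :=
    Cfsg.Agent.Lib.Helper3.isCyclic_of_abelian_two_subgroup hinv _ hR (hab _ hRM hR)
  have hcycP : IsCyclic (P : Subgroup ↥M) :=
    ((Subgroup.equivMapOfInjective (P : Subgroup ↥M) M.subtype
      (Subgroup.subtype_injective _)).isCyclic).mpr hcycR
  obtain ⟨K, hKn, hKc, hKodd⟩ :=
    Cfsg.Agent.Lib.Helper3.exists_normal_two_complement_of_isCyclic P hcycP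
  have hKodd' : Odd (Nat.card K) := Nat.odd_iff.mpr (by omega)
  -- K.map M.subtype is normal of odd order
  have hK₀n : (K.map M.subtype).Normal := by
    constructor
    rintro _ ⟨k, hk, rfl⟩ g
    have hmem : g * (k : G) * g⁻¹ ∈ M := hMn.conj_mem _ k.2 g
    refine ⟨⟨_, hmem⟩, ?_, rfl⟩
    haveI := hKn
    apply Cfsg.Agent.Lib.Helper3.mem_of_odd_orderOf_of_isComplement' P K hKc
    have ho : orderOf (⟨g * (k : G) * g⁻¹, hmem⟩ : ↥M) = orderOf k := by
      rw [Subgroup.orderOf_mk, ← MulAut.conj_apply, MulEquiv.orderOf_eq, Subgroup.orderOf_coe]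
    rw [ho]
    have hdvd : orderOf k ∣ Nat.card K := by
      have := orderOf_dvd_natCard (⟨k, hk⟩ : K)
      rwa [Subgroup.orderOf_mk] at this
    exact Odd.of_dvd_nat hKodd' hdvd
  have hK₀odd : Odd (Nat.card (K.map M.subtype)) := by
    rw [Subgroup.card_map_of_injective (Subgroup.subtype_injective _)]
    exact hKodd'
  have hK₀ := hO _ hK₀n hK₀odd
  have hKbot : K = ⊥ :=
    (Subgroup.map_eq_bot_iff_of_injective _ (Subgroup.subtype_injective _)).mp hK₀
  rw [hKbot] at hKc
  have hPtop : (P : Subgroup ↥M) = ⊤ := Subgroup.isComplement'_bot_left.mp hKc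
  have hM2 : IsPGroup 2 M := by
    intro x
    have hx : x ∈ (P : Subgroup ↥M) := by rw [hPtop]; exact Subgroup.mem_top x
    obtain ⟨k, hk⟩ := P.isPGroup' ⟨x, hx⟩
    refine ⟨k, ?_⟩
    have := congrArg Subtype.val hk
    simpa using this
  -- an involution
  have h2G : 2 ∣ Nat.card G := by
    have h1 : Nat.card (S : Subgroup G) = 4 * 2 ^ (n + 2) := by
      rw [Nat.card_congr e.toEquiv, Nat.card_eq_fintype_card, QuaternionGroup.card]
    have h2 : Nat.card (S : Subgroup G) ∣ Nat.card G := Subgroup.card_subgroup_dvd_card _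
    exact dvd_trans ⟨2 * 2 ^ (n + 2), by rw [h1]; ring⟩ h2
  obtain ⟨z, hz⟩ := exists_prime_orderOf_dvd_card' (G := G) 2 h2G
  have hzM : z ∈ M := hinvol z hz
  have hzc : z ∈ Subgroup.center G := by
    rw [Subgroup.mem_center_iff]
    intro g
    have h1 : orderOf (g * z * g⁻¹) = 2 := by
      have := (MulAut.conj g).orderOf_eq z
      rw [MulAut.conj_apply] at this
      rw [this, hz]
    have h2 := hinv M hM2 (g * z * g⁻¹) z (hMn.conj_mem z hzM g) hzM h1 hz
    calc g * z = (g * z * g⁻¹) * g := by group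
      _ = z * g := by rw [h2]
  -- central 2-elements lie in S
  have hcS : ∀ x ∈ Subgroup.center G, (∃ k, orderOf x = 2 ^ k) → x ∈ (S : Subgroup G) := by
    rintro x hx ⟨k, hk⟩
    have hp : IsPGroup 2 (Subgroup.zpowers x) := by
      apply IsPGroup.of_card (n := k); rw [Nat.card_zpowers, hk]
    obtain ⟨P', hP'⟩ := hp.exists_le_sylow
    obtain ⟨g, hg⟩ := MulAction.exists_smul_eq G S P'
    have hx' : x ∈ ((g • S : Sylow 2 G) : Subgroup G) := by
      rw [hg]; exact hP' (Subgroup.mem_zpowers x)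
    rw [Sylow.coe_subgroup_smul, Subgroup.mem_pointwise_smul_iff_inv_smul_mem] at hx'
    have h1 : (MulAut.conj g)⁻¹ • x = x := by
      rw [MulAut.smul_def, ← map_inv, MulAut.conj_apply, inv_inv]
      have := Subgroup.mem_center_iff.mp hx g
      rw [mul_assoc, ← this, ← mul_assoc, inv_mul_cancel, one_mul]
    rwa [h1] at hx'
  -- central elements are 2-elements
  have hc2 : ∀ x ∈ Subgroup.center G, ∃ k, orderOf x = 2 ^ k := by
    intro x hx
    obtain ⟨a, b, ha, hb, hxab, ⟨k, hak⟩, hbcop⟩ :=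
      Cfsg.Agent.Lib.Helper2.exists_p_decomp x 2 Nat.prime_two
    have hbc : b ∈ Subgroup.center G := (Subgroup.zpowers_le.mpr hx) hb
    have hbn : (Subgroup.zpowers b).Normal := by
      constructor
      intro y hy g
      obtain ⟨i, rfl⟩ := Subgroup.mem_zpowers_iff.mp hy
      have : g * b ^ i * g⁻¹ = b ^ i := by
        have hc : b ^ i ∈ Subgroup.center G := Subgroup.zpow_mem _ hbc i
        have := Subgroup.mem_center_iff.mp hc g
        rw [this, mul_assoc, mul_inv_cancel, mul_one]
      rw [this]; exact hy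
    have hbodd : Odd (Nat.card (Subgroup.zpowers b)) := by
      rw [Nat.card_zpowers]; exact Nat.coprime_two_right.mp hbcop
    have hb1 := hO _ hbn hbodd
    have hb1' : b = 1 := by
      have := Subgroup.mem_zpowers b
      rw [hb1, Subgroup.mem_bot] at this; exact this
    rw [hb1', mul_one] at hxab
    rw [hxab]
    obtain ⟨m, -, hm⟩ := (Nat.dvd_prime_pow Nat.prime_two).mp hak
    exact ⟨m, hm⟩
  have hzS : z ∈ (S : Subgroup G) := hcS z hzc ⟨1, by rw [hz, pow_one]⟩
  have h2ne : (2 : ZMod (2 * 2 ^ (n + 2))) ≠ 0 := by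
    intro h
    apply Cfsg.Agent.S0842.four_ne_zero n
    have : (4 : ZMod (2 * 2 ^ (n + 2))) = 2 * 2 := by norm_num
    rw [this, h, mul_zero]
  have hall : ∀ x ∈ Subgroup.center G, x = 1 ∨ x = z := by
    intro x hx
    have hxS := hcS x hx (hc2 x hx)
    have hq : ∀ p : QuaternionGroup (2 ^ (n + 2)), p * e ⟨x, hxS⟩ = e ⟨x, hxS⟩ * p := by
      intro p
      have h1 : e.symm p * ⟨x, hxS⟩ = ⟨x, hxS⟩ * e.symm p := by
        apply Subtype.ext
        rw [Subgroup.coe_mul, Subgroup.coe_mul]
        exact Subgroup.mem_center_iff.mp hx _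
      have h2 := congrArg e h1
      rwa [map_mul, map_mul, e.apply_symm_apply] at h2
    have hsq := Cfsg.Agent.Lib.Helper7.BS.central_sq _ (e ⟨x, hxS⟩) h2ne hq
    have hxx : x * x = 1 := by
      have h1 : (⟨x, hxS⟩ : (S : Subgroup G)) * ⟨x, hxS⟩ = 1 := by
        apply e.injective; rw [map_mul, map_one]; exact hsq
      exact congrArg Subtype.val h1
    by_cases hx1 : x = 1
    · left; exact hx1
    · right
      have hox : orderOf x = 2 := orderOf_eq_prime (by rw [pow_two]; exact hxx) hx1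
      exact hSinv x z hxS hzS hox hz
  rw [Nat.card_eq_two_iff' (1 : Subgroup.center G)]
  refine ⟨⟨z, hzc⟩, ?_, ?_⟩
  · intro h
    have h1 : z = 1 := congrArg Subtype.val h
    rw [h1, orderOf_one] at hz
    omega
  · intro y hy
    rcases hall y y.2 with h | h
    · exact absurd (Subtype.ext h) hy
    · exact Subtype.ext h


end Cfsg.Agent.S0847
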