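import Cfsg.Statements.S5349
import Mathlib
import Cfsg.Agent.Lib.Helper2.Cores
import Cfsg.Agent.Lib.Helper24.Dih
import Cfsg.Agent.Lib.Lead.BaerSuzuki
-- import your own Cfsg.Agent.* helpers here

set_option autoImplicit false
open Cfsg

namespace Cfsg.Agent.S5349

open Cfsg.Agent.Lib.Helper2 Cfsg.Agent.Lib.Helper24 Cfsg.Agent.Lib.Lead

section
variable {G : Type*} [Group G]

theorem isPGroup_two_closure_pair {x y : G} (hx : x * x = 1) (hy : y * y = 1)
    (h4 : (x * y) ^ 4 = 1) : IsPGroup 2 (Subgroup.closure ({x, y} : Set G)) := by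
  rintro ⟨g, hg⟩
  refine ⟨2, ?_⟩
  apply Subtype.ext
  show g ^ (2 ^ 2) = 1
  have e4 : (2 : ℕ) ^ 2 = 4 := by norm_num
  rw [e4]
  obtain ⟨i, h | h⟩ := closure_pair_forms hx hy g hg
  · rw [h]
    have : ((x * y) ^ i) ^ (4 : ℕ) = ((x * y) ^ (4 : ℕ)) ^ i := by
      rw [← zpow_natCast, ← zpow_mul, mul_comm, zpow_mul, zpow_natCast]
    rw [this, h4, one_zpow]
  · have h2 : g * g = 1 := by
      rw [h]
      calc x * (x * y) ^ i * (x * (x * y) ^ i) = (x * (x * y) ^ i * x) * (x * y) ^ i := by
            simp only [mul_assoc]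
        _ = 1 := by rw [conj_zpow_inv hx hy, ← zpow_add]; simp
    have h2' : g ^ 2 = 1 := by rw [pow_two]; exact h2
    rw [show (4 : ℕ) = 2 * 2 from rfl, pow_mul, h2', one_pow]

theorem commute_iff_sq {d e : G} (hd : d * d = 1) (he : e * e = 1) :
    Commute d e ↔ (d * e) ^ 2 = 1 := by
  constructor
  · intro h
    rw [h.mul_pow, pow_two, pow_two, hd, he, one_mul]
  · intro h
    rw [pow_two] at h
    have h1 : d * e = (d * e)⁻¹ := eq_inv_of_mul_eq_one_left h
    have hdi : d⁻¹ = d := inv_eq_of_mul_eq_one_left hd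
    have hei : e⁻¹ = e := inv_eq_of_mul_eq_one_left he
    rw [mul_inv_rev, hdi, hei] at h1
    exact h1

theorem braid {a d : G} (ha : a * a = 1) (hd : d * d = 1) (h3 : (a * d) ^ 3 = 1) :
    a * d * a = d * a * d := by
  have hai : a⁻¹ = a := inv_eq_of_mul_eq_one_left ha
  have hdi : d⁻¹ = d := inv_eq_of_mul_eq_one_left hd
  have h : a * d * a * (d * a * d) = 1 := by
    rw [pow_succ, pow_two] at h3
    simp only [mul_assoc] at h3 ⊢
    exact h3
  have h1 : a * d * a = (d * a * d)⁻¹ := eq_inv_of_mul_eq_one_left h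
  rw [h1, mul_inv_rev, mul_inv_rev, hai, hdi, mul_assoc]

theorem pgroup_cube_eq_one {T : Subgroup G} (hT : IsPGroup 2 T) {x : G} (hx : x ∈ T)
    (h3 : x ^ 3 = 1) : x = 1 := by
  obtain ⟨k, hk⟩ := hT ⟨x, hx⟩
  have hk' : x ^ (2 ^ k) = 1 := by
    have := congrArg Subtype.val hk
    simpa using this
  have d1 : orderOf x ∣ 2 ^ k := orderOf_dvd_of_pow_eq_one hk'
  have d2 : orderOf x ∣ 3 := orderOf_dvd_of_pow_eq_one h3
  have hc : Nat.Coprime (2 ^ k) 3 := Nat.Coprime.pow_left k (by norm_num)
  have : orderOf x = 1 := Nat.eq_one_of_dvd_coprimes hc d1 d2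
  exact orderOf_eq_one_iff.mp this

/-- same commuting set -/
def SameC (D : Set G) (u u' : G) : Prop := ∀ e ∈ D, Commute u' e ↔ Commute u e

theorem sameC_conj {D : Set G} (hconj : ∀ g : G, ∀ d ∈ D, g * d * g⁻¹ ∈ D) {u u' : G}
    (h : SameC D u u') (g : G) : SameC D (g * u * g⁻¹) (g * u' * g⁻¹) := by
  intro e he
  have he' : g⁻¹ * e * g ∈ D := by
    have := hconj g⁻¹ e he
    simpa using this
  have e1 : e = g * (g⁻¹ * e * g) * g⁻¹ := by group
  rw [e1, Commute.conj_iff, Commute.conj_iff]
  exact h _ he'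

variable {D : Set G} (hord : ∀ d ∈ D, orderOf d = 2)
  (h23 : ∀ d ∈ D, ∀ e ∈ D, (d * e) ^ 2 = 1 ∨ (d * e) ^ 3 = 1)
  (hconj : ∀ g : G, ∀ d ∈ D, g * d * g⁻¹ ∈ D)

include hord h23 in
theorem cube_of_not_commute {d e : G} (hd : d ∈ D) (he : e ∈ D) (h : ¬ Commute d e) :
    (d * e) ^ 3 = 1 := by
  rcases h23 d hd e he with h2 | h3
  · exact absurd ((commute_iff_sq (sq_one_of_orderOf_two (hord d hd))
      (sq_one_of_orderOf_two (hord e he))).mpr h2) h
  · exact h3

include hord h23 in
theorem modT (T : Subgroup G) [T.Normal] (hT : IsPGroup 2 T) {d e v : G} (hd : d ∈ D)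
    (he : e ∈ D) (hv : v ∈ D) (ht : d⁻¹ * v ∈ T) (hde : Commute d e) : Commute v e := by
  have hd2 := sq_one_of_orderOf_two (hord d hd)
  have he2 := sq_one_of_orderOf_two (hord e he)
  have hv2 := sq_one_of_orderOf_two (hord v hv)
  have hdi : d⁻¹ = d := inv_eq_of_mul_eq_one_left hd2
  have hei : e⁻¹ = e := inv_eq_of_mul_eq_one_left he2
  rcases h23 v hv e he with h2 | h3
  · exact (commute_iff_sq hv2 he2).mpr h2
  · set t := d⁻¹ * v with htdef
    have hv' : v = d * t := by rw [htdef]; group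
    have hsq : (v * e) ^ 2 = (d * t * d⁻¹) * (e * t * e⁻¹) := by
      rw [hdi, hei, hv', pow_two]
      simp only [mul_assoc]
      rw [← mul_assoc e d, ← hde.eq, mul_assoc d e]
    have hsqT : (v * e) ^ 2 ∈ T := by
      rw [hsq]
      exact T.mul_mem (Subgroup.Normal.conj_mem inferInstance t ht d)
        (Subgroup.Normal.conj_mem inferInstance t ht e)
    have hx : v * e = ((v * e) ^ 2)⁻¹ := by
      apply eq_inv_of_mul_eq_one_left
      rw [← pow_succ']
      exact h3
    have hxT : v * e ∈ T := by rw [hx]; exact T.inv_mem hsqT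
    have h1 := pgroup_cube_eq_one hT hxT h3
    have : v = e := by
      have := eq_inv_of_mul_eq_one_left h1
      rw [hei] at this
      exact this
    rw [this]

include hord h23 hconj in
theorem F1 {u u' w : G} (hu : u ∈ D) (hu' : u' ∈ D) (hw : w ∈ D) (hs : SameC D u u')
    (hn : ¬ Commute u w) : SameC D w ((u * u') * w * (u * u')⁻¹) := by
  have hu2 := sq_one_of_orderOf_two (hord u hu)
  have hu'2 := sq_one_of_orderOf_two (hord u' hu')
  have hw2 := sq_one_of_orderOf_two (hord w hw)
  have hui : u⁻¹ = u := inv_eq_of_mul_eq_one_left hu2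
  have hu'i : u'⁻¹ = u' := inv_eq_of_mul_eq_one_left hu'2
  have hwi : w⁻¹ = w := inv_eq_of_mul_eq_one_left hw2
  have hn' : ¬ Commute u' w := fun h => hn ((hs w hw).mp h)
  have b1 : u * w * u = w * u * w := braid hu2 hw2 (cube_of_not_commute hord h23 hu hw hn)
  have b2 : u' * w * u' = w * u' * w := braid hu'2 hw2 (cube_of_not_commute hord h23 hu' hw hn')
  have c1 : (u * w) * u * (u * w)⁻¹ = w := by
    rw [mul_inv_rev, hui, hwi]
    calc u * w * u * (w * u) = u * (w * u * w) * u := by simp only [mul_assoc]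
      _ = u * (u * w * u) * u := by rw [b1]
      _ = (u * u) * w * (u * u) := by simp only [mul_assoc]
      _ = w := by rw [hu2, one_mul, mul_one]
  have c2 : (u * w) * u' * (u * w)⁻¹ = (u * u') * w * (u * u')⁻¹ := by
    rw [mul_inv_rev, mul_inv_rev, hui, hwi, hu'i]
    calc u * w * u' * (w * u) = u * (w * u' * w) * u := by simp only [mul_assoc]
      _ = u * (u' * w * u') * u := by rw [b2]
      _ = u * u' * w * (u' * u) := by simp only [mul_assoc]
  have := sameC_conj hconj hs (u * w)
  rw [c1, c2] at this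
  exact this

include hord in
theorem exists_not_commute (hgen : Subgroup.closure D = ⊤) (hclass : ∃ d0 ∈ D, D = conjugatesOf d0)
    (hD2 : ∃ a ∈ D, ∃ b ∈ D, a ≠ b) {d : G} (hd : d ∈ D) : ∃ a ∈ D, ¬ Commute a d := by
  by_contra hcon
  push Not at hcon
  have hcent : ∀ g : G, Commute g d := by
    intro g
    have hg : g ∈ Subgroup.closure D := by rw [hgen]; trivial
    induction hg using Subgroup.closure_induction with
    | mem a ha => exact hcon a ha
    | one => exact Commute.one_left d
    | mul a b _ _ iha ihb => exact iha.mul_left ihb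
    | inv a _ iha => exact iha.inv_left
  obtain ⟨d0, hd0, hDeq⟩ := hclass
  have hall : ∀ x ∈ D, x = d := by
    intro x hx
    rw [hDeq] at hx hd
    have hx' : IsConj d0 x := hx
    have hd' : IsConj d0 d := hd
    have hc : IsConj d x := hd'.symm.trans hx'
    obtain ⟨c, hc⟩ := isConj_iff.mp hc
    rw [← hc, (hcent c).eq, mul_inv_cancel_right]
  obtain ⟨a, ha, b, hb, hab⟩ := hD2
  exact hab ((hall a ha).trans (hall b hb).symm)

end

/-- Let D be a conjugacy class of 3-transpositions generating the finite group G, with at least two members, and d a member of D. Then the set of members of D commuting with exactly the same members of D as d coincides with the set of members of D lying in the coset of d modulo the largest normal 2-subgroup of G, and also with the orbit of d under conjugation by that normal 2-subgroup. -/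
theorem result {G : Type*} [Group G] [Finite G] {D : Set G} (hD : Cfsg.IsThreeTranspositionClass D) (hD2 : ∃ a ∈ D, ∃ b ∈ D, a ≠ b) {d : G} (hd : d ∈ D) : {v : G | v ∈ D ∧ ∀ e ∈ D, Commute v e ↔ Commute d e} = {v : G | v ∈ D ∧ d⁻¹ * v ∈ Cfsg.pCore 2 G} ∧ {v : G | v ∈ D ∧ ∀ e ∈ D, Commute v e ↔ Commute d e} = {v : G | ∃ g ∈ Cfsg.pCore 2 G, v = g * d * g⁻¹} := by
  obtain ⟨⟨hord, h23⟩, hclass, hgen⟩ := hD
  have hconj : ∀ g : G, ∀ x ∈ D, g * x * g⁻¹ ∈ D := by
    obtain ⟨d0, hd0, hDeq⟩ := hclass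
    intro g x hx
    rw [hDeq] at hx ⊢
    have hx' : IsConj d0 x := hx
    show IsConj d0 (g * x * g⁻¹)
    exact hx'.trans (isConj_iff.mpr ⟨g, rfl⟩)
  have : Fact (Nat.Prime 2) := ⟨Nat.prime_two⟩
  set T := Cfsg.pCore 2 G with hTdef
  have hTn : T.Normal := pCore_normal 2
  have hT : IsPGroup 2 T := pCore_isPGroup 2
  have hd2 := sq_one_of_orderOf_two (hord d hd)
  have hdi : d⁻¹ = d := inv_eq_of_mul_eq_one_left hd2
  -- Claim 1
  have claim1 : ∀ v ∈ D, SameC D d v → d⁻¹ * v ∈ T := by
    intro v hv hs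
    let K : Set G := {x | ∃ u ∈ D, ∃ u' ∈ D, SameC D u u' ∧ x = u * u'}
    have hK : ∀ g x, x ∈ K → g * x * g⁻¹ ∈ K := by
      rintro g x ⟨u, hu, u', hu', hs', rfl⟩
      refine ⟨g * u * g⁻¹, hconj g u hu, g * u' * g⁻¹, hconj g u' hu', sameC_conj hconj hs' g, ?_⟩
      group
    have hpair : ∀ x ∈ K, ∀ y ∈ K, IsPGroup 2 (Subgroup.closure ({x, y} : Set G)) := by
      rintro x ⟨u, hu, u', hu', hsu, rfl⟩ y ⟨w, hw, w', hw', hsw, rfl⟩
      have hu2 := sq_one_of_orderOf_two (hord u hu)
      have hu'2 := sq_one_of_orderOf_two (hord u' hu')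
      have hw2 := sq_one_of_orderOf_two (hord w hw)
      have hw'2 := sq_one_of_orderOf_two (hord w' hw')
      have cuu' : Commute u u' := ((hsu u hu).mpr (Commute.refl u)).symm
      have cww' : Commute w w' := ((hsw w hw).mpr (Commute.refl w)).symm
      have hx2 : (u * u') * (u * u') = 1 := by
        have := cuu'.mul_pow 2
        rw [pow_two, pow_two, pow_two, hu2, hu'2, one_mul] at this
        exact this
      have hy2 : (w * w') * (w * w') = 1 := by
        have := cww'.mul_pow 2
        rw [pow_two, pow_two, pow_two, hw2, hw'2, one_mul] at this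
        exact this
      apply isPGroup_two_closure_pair hx2 hy2
      by_cases hc : Commute u w
      · have c1 : Commute u' w := (hsu w hw).mpr hc
        have c2 : Commute u w' := ((hsw u hu).mpr hc.symm).symm
        have c3 : Commute u' w' := (hsu w' hw').mpr c2
        have cxy : Commute (u * u') (w * w') := (hc.mul_right c2).mul_left (c1.mul_right c3)
        have h2 : ((u * u') * (w * w')) ^ 2 = 1 := by
          rw [cxy.mul_pow, pow_two, pow_two, hx2, hy2, one_mul]
        rw [show (4 : ℕ) = 2 * 2 from rfl, pow_mul, h2, one_pow]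
      · have hnw' : ¬ Commute u w' := fun h => hc ((hsw u hu).mp h.symm).symm
        set x := u * u' with hxdef
        have hxi : x⁻¹ = x := inv_eq_of_mul_eq_one_left hx2
        have s1 : SameC D w (x * w * x⁻¹) := F1 hord h23 hconj hu hu' hw hsu hc
        have s2' : SameC D w' (x * w' * x⁻¹) := F1 hord h23 hconj hu hu' hw' hsu hnw'
        have s2 : SameC D w (x * w' * x⁻¹) := fun e he => (s2' e he).trans (hsw e he)
        have m1 : x * w * x⁻¹ ∈ D := hconj x w hw
        have m2 : x * w' * x⁻¹ ∈ D := hconj x w' hw'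
        have s0 : SameC D w w := fun e _ => Iff.rfl
        -- pairwise commuting in V_w
        have pc : ∀ p ∈ D, ∀ q ∈ D, SameC D w p → SameC D w q → Commute p q := by
          intro p hp q hq sp sq
          exact (sp q hq).mpr ((sq w hw).mpr (Commute.refl w)).symm
        set w1 := x * w * x⁻¹ with hw1
        set w2 := x * w' * x⁻¹ with hw2def
        have e1 : (x * (w * w')) ^ 2 = (w1 * w2) * (w * w') := by
          rw [pow_two, hw1, hw2def]
          nth_rewrite 2 [← hxi]
          group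
        have hw1sq : w1 * w1 = 1 := sq_one_of_orderOf_two (hord w1 m1)
        have hw2sq : w2 * w2 = 1 := sq_one_of_orderOf_two (hord w2 m2)
        have c12 : Commute w1 w2 := pc w1 m1 w2 m2 s1 s2
        have c1w : Commute w1 w := pc w1 m1 w hw s1 s0
        have c1w' : Commute w1 w' := pc w1 m1 w' hw' s1 hsw
        have c2w : Commute w2 w := pc w2 m2 w hw s2 s0
        have c2w' : Commute w2 w' := pc w2 m2 w' hw' s2 hsw
        have cc : Commute (w1 * w2) (w * w') := (c1w.mul_right c1w').mul_left (c2w.mul_right c2w')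
        have h12 : (w1 * w2) ^ 2 = 1 := by
          rw [c12.mul_pow, pow_two, pow_two, hw1sq, hw2sq, one_mul]
        have hz : ((w1 * w2) * (w * w')) ^ 2 = 1 := by
          rw [cc.mul_pow, h12, pow_two, hy2, one_mul]
        rw [show (4 : ℕ) = 2 * 2 from rfl, pow_mul, e1, hz]
    obtain ⟨hKn, hKp⟩ := baer_suzuki_closure K hK hpair
    have hle : Subgroup.closure K ≤ T := le_pCore hKn hKp
    apply hle
    apply Subgroup.subset_closure
    exact ⟨d, hd, v, hv, hs, by rw [hdi]⟩
  -- B ⊆ A
  have claimBA : ∀ v ∈ D, d⁻¹ * v ∈ T → SameC D d v := by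
    intro v hv ht e he
    constructor
    · intro h
      have ht' : v⁻¹ * d ∈ T := by
        have := T.inv_mem ht
        rwa [mul_inv_rev, inv_inv] at this
      exact modT hord h23 T hT hv he hd ht' h
    · intro h
      exact modT hord h23 T hT hd he hv ht h
  -- C ⊆ B
  have claimCB : ∀ g ∈ T, g * d * g⁻¹ ∈ D ∧ d⁻¹ * (g * d * g⁻¹) ∈ T := by
    intro g hg
    refine ⟨hconj g d hd, ?_⟩
    have h1 : d⁻¹ * g * d⁻¹⁻¹ ∈ T := Subgroup.Normal.conj_mem inferInstance g hg d⁻¹
    have h2 : d⁻¹ * (g * d * g⁻¹) = (d⁻¹ * g * d⁻¹⁻¹) * g⁻¹ := by group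
    rw [h2]
    exact T.mul_mem h1 (T.inv_mem hg)
  -- B ⊆ C
  have claimBC : ∀ v ∈ D, d⁻¹ * v ∈ T → ∃ g ∈ T, v = g * d * g⁻¹ := by
    intro v hv ht
    by_cases hvd : v = d
    · exact ⟨1, T.one_mem, by rw [hvd]; group⟩
    have hv2 := sq_one_of_orderOf_two (hord v hv)
    have hvi : v⁻¹ = v := inv_eq_of_mul_eq_one_left hv2
    have hcomm : Commute d v := by
      by_contra hnc
      have h3 := cube_of_not_commute hord h23 hd hv hnc
      have hdv : d * v ∈ T := by rwa [hdi] at ht
      have h1 := pgroup_cube_eq_one hT hdv h3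
      have := eq_inv_of_mul_eq_one_right h1
      rw [hdi] at this
      exact hvd this
    obtain ⟨a, ha, hna⟩ := exists_not_commute hord hgen hclass hD2 hd
    have ha2 := sq_one_of_orderOf_two (hord a ha)
    have hai : a⁻¹ = a := inv_eq_of_mul_eq_one_left ha2
    have hnav : ¬ Commute a v := by
      intro h
      apply hna
      have ht' : v⁻¹ * d ∈ T := by
        have := T.inv_mem ht
        rwa [mul_inv_rev, inv_inv] at this
      exact (modT hord h23 T hT hv ha hd ht' h.symm).symm
    have b1 : a * d * a = d * a * d := braid ha2 hd2 (cube_of_not_commute hord h23 ha hd hna)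
    have b2 : a * v * a = v * a * v := braid ha2 hv2 (cube_of_not_commute hord h23 ha hv hnav)
    have hdvT : d * v ∈ T := by rwa [hdi] at ht
    refine ⟨a * (d * v) * a⁻¹, Subgroup.Normal.conj_mem inferInstance _ hdvT a, ?_⟩
    have e1 : d * v * d = v := by
      rw [hcomm.eq, mul_assoc, hd2, mul_one]
    symm
    rw [hai, mul_inv_rev, mul_inv_rev, mul_inv_rev, hai, hvi, hdi]
    calc a * (d * v) * a * d * (a * (v * d * a))
        = a * (d * v) * (a * d * a) * (v * d) * a := by simp only [mul_assoc]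
      _ = a * (d * v) * (d * a * d) * (v * d) * a := by rw [b1]
      _ = a * (d * v * d) * a * (d * v * d) * a := by simp only [mul_assoc]
      _ = a * v * a * v * a := by rw [e1]
      _ = (v * a * v) * v * a := by rw [b2]
      _ = v * a * (v * v) * a := by simp only [mul_assoc]
      _ = v := by rw [hv2, mul_one, mul_assoc, ha2, mul_one]
  refine ⟨?_, ?_⟩
  · ext v
    simp only [Set.mem_ofPred_eq]
    constructor
    · rintro ⟨hv, hs⟩
      exact ⟨hv, claim1 v hv hs⟩
    · rintro ⟨hv, ht⟩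
      exact ⟨hv, claimBA v hv ht⟩
  · ext v
    simp only [Set.mem_ofPred_eq]
    constructor
    · rintro ⟨hv, hs⟩
      exact claimBC v hv (claim1 v hv hs)
    · rintro ⟨g, hg, rfl⟩
      obtain ⟨h1, h2⟩ := claimCB g hg
      exact ⟨h1, claimBA _ h1 h2⟩

end Cfsg.Agent.S5349
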