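import Cfsg.Statements.S5350
-- import your own Cfsg.Agent.* helpers here
import Cfsg.Agent.Lib.Helper25.ThreeTrW

set_option autoImplicit false
open Cfsg

namespace Cfsg.Agent.S5350

/-- Let D be a conjugacy class of 3-transpositions generating the finite group G, with at least two members, and d a member of D. Then the set of members w of D whose commuting partners in D (other than w) are exactly those of d (other than d) coincides with the set of members of D lying in the coset of d modulo the largest normal 3-subgroup of G, and also with the orbit of d under conjugation by that normal 3-subgroup. -/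
theorem result {G : Type*} [Group G] [Finite G] {D : Set G} (hD : Cfsg.IsThreeTranspositionClass D) (hD2 : ∃ a ∈ D, ∃ b ∈ D, a ≠ b) {d : G} (hd : d ∈ D) : {w : G | w ∈ D ∧ {y : G | y ∈ D ∧ y ≠ d ∧ Commute d y} = {y : G | y ∈ D ∧ y ≠ w ∧ Commute w y}} = {w : G | w ∈ D ∧ d⁻¹ * w ∈ Cfsg.pCore 3 G} ∧ {w : G | w ∈ D ∧ {y : G | y ∈ D ∧ y ≠ d ∧ Commute d y} = {y : G | y ∈ D ∧ y ≠ w ∧ Commute w y}} = {w : G | ∃ g ∈ Cfsg.pCore 3 G, w = g * d * g⁻¹} := by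
  obtain ⟨⟨hord, h23⟩, hclass, hgen⟩ := hD
  have hconj : ∀ g : G, ∀ x ∈ D, g * x * g⁻¹ ∈ D := by
    obtain ⟨d0, hd0, hDeq⟩ := hclass
    intro g x hx
    rw [hDeq] at hx ⊢
    have hx' : IsConj d0 x := hx
    show IsConj d0 (g * x * g⁻¹)
    exact hx'.trans (isConj_iff.mpr ⟨g, rfl⟩)
  have hTn : (Cfsg.pCore 3 G).Normal := inferInstance
  have hT : IsPGroup 3 (Cfsg.pCore 3 G) := Cfsg.Agent.Lib.Helper20.pCore_isPGroup' 3
  have hd2 := Cfsg.Agent.Lib.Helper25.ThreeTrW.sq_of_ord (hord d hd)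
  have hdi : d⁻¹ = d := Cfsg.Agent.Lib.Helper25.ThreeTrW.inv_of_sq hd2
  -- A ⊆ B
  have claim1 : ∀ v ∈ D, Cfsg.Agent.Lib.Helper25.ThreeTrW.SameW D d v → d⁻¹ * v ∈ Cfsg.pCore 3 G := by
    intro v hv hs
    rw [hdi]
    exact Cfsg.Agent.Lib.Helper25.ThreeTrW.mul_mem_pCore hord h23 hconj hd hv hs
  -- B ⊆ A
  have claimBA : ∀ v ∈ D, d⁻¹ * v ∈ Cfsg.pCore 3 G → Cfsg.Agent.Lib.Helper25.ThreeTrW.SameW D d v := by
    intro v hv ht
    exact Cfsg.Agent.Lib.Helper25.ThreeTrW.sameW_of_mem hord h23 (Cfsg.pCore 3 G) hT hd hv ht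
  -- C ⊆ B
  have claimCB : ∀ g ∈ Cfsg.pCore 3 G, g * d * g⁻¹ ∈ D ∧ d⁻¹ * (g * d * g⁻¹) ∈ Cfsg.pCore 3 G := by
    intro g hg
    refine ⟨hconj g d hd, ?_⟩
    have h1 : d⁻¹ * g * d⁻¹⁻¹ ∈ Cfsg.pCore 3 G := hTn.conj_mem g hg d⁻¹
    have h2 : d⁻¹ * (g * d * g⁻¹) = (d⁻¹ * g * d⁻¹⁻¹) * g⁻¹ := by group
    rw [h2]
    exact (Cfsg.pCore 3 G).mul_mem h1 ((Cfsg.pCore 3 G).inv_mem hg)
  -- B ⊆ C
  have claimBC : ∀ v ∈ D, d⁻¹ * v ∈ Cfsg.pCore 3 G → ∃ g ∈ Cfsg.pCore 3 G, v = g * d * g⁻¹ := by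
    intro v hv ht
    have hv2 := Cfsg.Agent.Lib.Helper25.ThreeTrW.sq_of_ord (hord v hv)
    have hs := claimBA v hv ht
    have h3 := Cfsg.Agent.Lib.Helper25.ThreeTrW.cube_pair hord h23 hd hv hs
    refine ⟨d * v, by rw [← hdi]; exact ht, ?_⟩
    exact (Cfsg.Agent.Lib.Helper25.ThreeTrW.conj_eq' hd2 hv2 h3).symm
  refine ⟨?_, ?_⟩
  · ext v
    simp only [Set.mem_ofPred_eq]
    constructor
    · rintro ⟨hv, hs⟩
      exact ⟨hv, claim1 v hv hs⟩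
    · rintro ⟨hv, ht⟩
      exact ⟨hv, claimBA v hv ht⟩
  · ext v
    simp only [Set.mem_ofPred_eq]
    constructor
    · rintro ⟨hv, hs⟩
      exact claimBC v hv (claim1 v hv hs)
    · rintro ⟨g, hg, rfl⟩
      obtain ⟨h1, h2⟩ := claimCB g hg
      exact ⟨h1, claimBA _ h1 h2⟩

end Cfsg.Agent.S5350
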