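import Cfsg.Statements.S5560
import Mathlib
import Cfsg.Agent.S0215
import Cfsg.Agent.Lib.Helper15.ZpOddE

set_option autoImplicit false
open Cfsg

namespace Cfsg.Agent.S5560

/-- A Z*-type result for an odd prime p. Let G be a finite group and d an involution of G such that the product of any two conjugates of d has order a power of p. Then the product of any two conjugates of d lies in the largest normal p-subgroup O_p(G); in other words the conjugacy class of d lies in the coset O_p(G)d, and d is central modulo O_p(G). -/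
theorem result {G : Type*} [Group G] [Finite G] {p : ℕ} (hp : p.Prime) (hp2 : p ≠ 2)
    (d : G) (hd : orderOf d = 2)
    (hprod : ∀ a ∈ conjugatesOf d, ∀ b ∈ conjugatesOf d, ∃ k : ℕ, orderOf (a * b) = p ^ k) :
    ∀ a ∈ conjugatesOf d, ∀ b ∈ conjugatesOf d, a * b ∈ Cfsg.pCore p G := by
  have hd2 : d * d = 1 := Cfsg.Agent.Lib.Helper15.ZpOdd.sq_eq_one_of_orderOf_two hd
  have hdinv : d⁻¹ = d := inv_eq_of_mul_eq_one_left hd2
  have hz : IsPGroup 2 (Subgroup.zpowers d) := by
    apply IsPGroup.of_card (n := 1)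
    rw [Nat.card_zpowers, hd, pow_one]
  have : Fact (Nat.Prime 2) := ⟨Nat.prime_two⟩
  obtain ⟨P, hP⟩ := hz.exists_le_sylow
  have hdP : d ∈ P := hP (Subgroup.mem_zpowers d)
  have hiso : ∀ g : G, g * d * g⁻¹ ∈ P → g * d * g⁻¹ = d := by
    intro g hg
    have hb : g * d * g⁻¹ ∈ conjugatesOf d :=
      Cfsg.Agent.Lib.Helper15.ZpOdd.mem_conj_iff.mpr ⟨g, rfl⟩
    have h1 := hprod _ hb d mem_conjugatesOf_self
    have h2 : ∃ j : ℕ, (g * d * g⁻¹ * d) ^ (2 ^ j) = 1 := by
      obtain ⟨j, hj⟩ := P.2 ⟨g * d * g⁻¹ * d, (P : Subgroup G).mul_mem hg hdP⟩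
      refine ⟨j, ?_⟩
      have := congrArg Subtype.val hj
      simpa using this
    have h3 : g * d * g⁻¹ * d = 1 :=
      Cfsg.Agent.Lib.Helper15.ZpOdd.eq_one_of_two_primes hp Nat.prime_two hp2 h1 h2
    have h4 : g * d * g⁻¹ = d⁻¹ := eq_inv_of_mul_eq_one_left h3
    rw [h4, hdinv]
  obtain ⟨N, hN, hodd, hcomm⟩ := Cfsg.Agent.S0215.result P d hd hdP hiso
  exact Cfsg.Agent.Lib.Helper15.ZpOdd.main hp d hd hprod N hN hodd hcomm

end Cfsg.Agent.S5560
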