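import Cfsg.Statements.S0943
import Cfsg.Agent.Lib.Helper4.CharOrtho

set_option autoImplicit false
open Cfsg

namespace Cfsg.Agent.S0943

/-- Let χ be an irreducible character of the finite group G and u, v ∈ G. If χ (x * y) = χ (u * v) whenever x is conjugate to u and y is conjugate to v, then χ u * χ v = χ 1 * χ (u * v). (Multiply the class sums of u and v and apply the central character of χ.) -/
theorem result {G : Type*} [Group G] [Finite G] (χ : Cfsg.IrrCharacter G) (u v : G) (hc : ∀ x y : G, IsConj u x → IsConj v y → (χ : G → ℂ) (x * y) = (χ : G → ℂ) (u * v)) : (χ : G → ℂ) u * (χ : G → ℂ) v = (χ : G → ℂ) 1 * (χ : G → ℂ) (u * v) := by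
  classical
  have : Fintype G := Fintype.ofFinite G
  obtain ⟨χf, n, ρ, hirr, hρ⟩ := χ
  subst hρ
  simp only at hc ⊢
  have hcf : Cfsg.IsClassFunction G ρ.character :=
    Cfsg.Agent.Lib.Helper4.isClassFunction_of_isIrrCharacter ⟨n, ρ, hirr, rfl⟩
  have hdeg : ρ.character 1 = (n : ℂ) := by
    rw [Representation.char_one]; simp
  -- class indicator functions
  have hind : ∀ w : G, Cfsg.IsClassFunction G (fun x => if IsConj w x then (1 : ℂ) else 0) := by
    intro w g h
    have : IsConj w (h * g * h⁻¹) ↔ IsConj w g := by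
      constructor
      · intro h1
        exact h1.trans (isConj_iff.mpr ⟨h⁻¹, by group⟩)
      · intro h1
        exact h1.trans (isConj_iff.mpr ⟨h, rfl⟩)
    simp only [this]
  obtain ⟨cu, hcu1, hcu2⟩ := Cfsg.Agent.Lib.Helper4.opSum_eq_smul_of_irreducible ρ hirr _ (hind u)
  obtain ⟨cv, hcv1, hcv2⟩ := Cfsg.Agent.Lib.Helper4.opSum_eq_smul_of_irreducible ρ hirr _ (hind v)
  rw [Module.finrank_fin_fun] at hcu2 hcv2
  -- class sizes
  set ku : ℂ := ∑ g : G, (if IsConj u g then (1 : ℂ) else 0) with hku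
  set kv : ℂ := ∑ g : G, (if IsConj v g then (1 : ℂ) else 0) with hkv
  have hsum : ∀ w : G, ∑ g : G, (if IsConj w g then (1 : ℂ) else 0) * ρ.character g =
      (∑ g : G, (if IsConj w g then (1 : ℂ) else 0)) * ρ.character w := by
    intro w
    rw [Finset.sum_mul]
    refine Finset.sum_congr rfl fun g _ => ?_
    by_cases h : IsConj w g
    · rw [if_pos h, Cfsg.Agent.Lib.Helper4.char_eq_of_isConj hcf h]
    · rw [if_neg h, zero_mul, zero_mul]
  rw [hsum u] at hcu2
  rw [hsum v] at hcv2
  have hkpos : ∀ w : G, (∑ g : G, (if IsConj w g then (1 : ℂ) else 0)) ≠ 0 := by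
    intro w
    rw [Finset.sum_boole]
    have : 0 < (Finset.univ.filter (fun g => IsConj w g)).card :=
      Finset.card_pos.mpr ⟨w, Finset.mem_filter.mpr ⟨Finset.mem_univ _, IsConj.refl w⟩⟩
    exact_mod_cast this.ne'
  -- the product of the two class sums
  have hprod : LinearMap.trace ℂ (Fin n → ℂ)
      (Cfsg.Agent.Lib.Helper4.opSum ρ (fun x => if IsConj u x then (1 : ℂ) else 0) *
        Cfsg.Agent.Lib.Helper4.opSum ρ (fun x => if IsConj v x then (1 : ℂ) else 0)) =
      ku * kv * ρ.character (u * v) := by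
    unfold Cfsg.Agent.Lib.Helper4.opSum
    rw [Finset.sum_mul_sum, map_sum]
    simp_rw [map_sum, smul_mul_smul_comm, ← map_mul, map_smul, smul_eq_mul]
    have : ∀ x y : G, (if IsConj u x then (1 : ℂ) else 0) * (if IsConj v y then (1 : ℂ) else 0) *
        LinearMap.trace ℂ (Fin n → ℂ) (ρ (x * y)) =
        (if IsConj u x then (1 : ℂ) else 0) * (if IsConj v y then (1 : ℂ) else 0) *
          ρ.character (u * v) := by
      intro x y
      by_cases hx : IsConj u x
      · by_cases hy : IsConj v y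
        · have := hc x y hx hy
          unfold Representation.character at this ⊢
          rw [this]
        · rw [if_neg hy, mul_zero, zero_mul, zero_mul]
      · rw [if_neg hx, zero_mul, zero_mul, zero_mul]
    simp_rw [this, ← Finset.sum_mul, ← Finset.mul_sum]
    rw [← Finset.sum_mul]
  rw [hcu1, hcv1] at hprod
  have hid : (LinearMap.id : (Fin n → ℂ) →ₗ[ℂ] (Fin n → ℂ)) * LinearMap.id = LinearMap.id := by
    ext x; rfl
  have htr : LinearMap.trace ℂ (Fin n → ℂ) (cu • LinearMap.id * cv • LinearMap.id) = cu * cv * n := by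
    rw [smul_mul_smul_comm, hid, map_smul, LinearMap.trace_id, Module.finrank_fin_fun, smul_eq_mul]
  rw [htr] at hprod
  rw [hdeg]
  -- (ku χu)(kv χv) = (cu n)(cv n) = (cu cv n) n = ku kv χ(uv) n
  have h1 : (ku * ρ.character u) * (kv * ρ.character v) = ku * kv * ((n : ℂ) * ρ.character (u * v)) := by
    rw [← hcu2, ← hcv2]
    calc cu * ↑n * (cv * ↑n) = (cu * cv * ↑n) * ↑n := by ring
      _ = ku * kv * ρ.character (u * v) * ↑n := by rw [hprod]
      _ = ku * kv * ((n : ℂ) * ρ.character (u * v)) := by ring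
  have h2 : ku * kv ≠ 0 := mul_ne_zero (hkpos u) (hkpos v)
  apply mul_left_cancel₀ h2
  rw [← h1]; ring

end Cfsg.Agent.S0943
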