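import Cfsg.Statements.S1182
import Cfsg.Agent.Lib.Helper18.IsolatedInvolution

set_option autoImplicit false
open Cfsg

namespace Cfsg.Agent.S1182

open Cfsg.Agent.Lib.Helper18 in
/-- Let z be an isolated involution of the finite group G and H a subgroup normalized by z. If x, y ∈ H both commute with z and y = h x h⁻¹ for some h ∈ H, then y = c x c⁻¹ for some c ∈ H commuting with z. -/
theorem result {G : Type*} [Group G] [Finite G] (z : G) (hz : Cfsg.IsIsolatedInvolution z) (H : Subgroup G) (hzH : z ∈ Subgroup.normalizer (H : Set G)) (x y : G) (hx : x ∈ H) (hy : y ∈ H) (hxz : Commute x z) (hyz : Commute y z) (h : G) (hh : h ∈ H) (hconj : h * x * h⁻¹ = y) : ∃ c ∈ H, Commute c z ∧ c * x * c⁻¹ = y := by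
  have hzz := isolated_mul_self hz
  have hzinv : z⁻¹ = z := inv_eq_self_of_mul_self hzz
  obtain ⟨k, _, hk⟩ := isolated_conj_pow hz h⁻¹
  set t := z * (h⁻¹ * z * h⁻¹⁻¹) with ht
  -- t ∈ H
  have htH : t ∈ H := by
    have h1 : z * h⁻¹ * z⁻¹ ∈ H := (Subgroup.mem_normalizer_iff.mp hzH h⁻¹).mp (H.inv_mem hh)
    have h2 : t = (z * h⁻¹ * z⁻¹) * h := by
      rw [ht, hzinv]; group
    rw [h2]; exact H.mul_mem h1 hh
  -- t commutes with x
  have hz'x : Commute (h⁻¹ * z * h⁻¹⁻¹) x := by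
    have h1 : Commute (h * x * h⁻¹) z := by rw [hconj]; exact hyz
    have h2 := h1.eq
    show h⁻¹ * z * h⁻¹⁻¹ * x = x * (h⁻¹ * z * h⁻¹⁻¹)
    calc h⁻¹ * z * h⁻¹⁻¹ * x = h⁻¹ * (z * (h * x * h⁻¹)) * h := by group
      _ = h⁻¹ * ((h * x * h⁻¹) * z) * h := by rw [h2]
      _ = x * (h⁻¹ * z * h⁻¹⁻¹) := by group
  have htx : Commute t x := hxz.symm.mul_left hz'x
  have hmx : Commute (t ^ k) x := htx.pow_left k
  refine ⟨h * t ^ k, H.mul_mem hh (H.pow_mem htH k), ?_, ?_⟩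
  · -- (h m) z (h m)⁻¹ = z
    have h1 : (h * t ^ k) * z * (h * t ^ k)⁻¹ = z := by
      calc (h * t ^ k) * z * (h * t ^ k)⁻¹ = h * (t ^ k * z * (t ^ k)⁻¹) * h⁻¹ := by group
        _ = h * (h⁻¹ * z * h⁻¹⁻¹) * h⁻¹ := by rw [hk]
        _ = z := by group
    show (h * t ^ k) * z = z * (h * t ^ k)
    calc (h * t ^ k) * z = ((h * t ^ k) * z * (h * t ^ k)⁻¹) * (h * t ^ k) := by group
      _ = z * (h * t ^ k) := by rw [h1]
  · calc (h * t ^ k) * x * (h * t ^ k)⁻¹ = h * (t ^ k * x) * (t ^ k)⁻¹ * h⁻¹ := by group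
      _ = h * (x * t ^ k) * (t ^ k)⁻¹ * h⁻¹ := by rw [hmx.eq]
      _ = h * x * h⁻¹ := by group
      _ = y := hconj

end Cfsg.Agent.S1182
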