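import Mathlib
import Cfsg.Statements.S1992
import Cfsg.Agent.S1991
import Cfsg.Agent.S0144
import Cfsg.Agent.Lib.Helper29.GroupFusion
import Cfsg.Agent.Lib.Helper1.AlperinGoldschmidt

set_option autoImplicit false
open Cfsg

namespace Cfsg.Agent.S1992

open Cfsg.Agent.Lib.Helper29 Cfsg.Agent.Lib.Helper1

universe u

/-- the self-normalizing hypothesis -/
def SN (G : Type u) [Group G] : Prop :=
  ∀ q : ℕ, q.Prime → q ∣ Nat.card G → ∀ Q : Sylow q G,
    Subgroup.normalizer ((Q : Subgroup G) : Set G) = Q

theorem not_dvd_relIndex_sylow' {G : Type u} [Group G] [Finite G] {q : ℕ} [Fact q.Prime]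
    (Q : Sylow q G) {H : Subgroup G} (hQH : (Q : Subgroup G) ≤ H) :
    ¬ q ∣ (Q : Subgroup G).relIndex H := by
  intro hd
  apply Q.not_dvd_index
  rw [← Subgroup.relIndex_mul_index hQH]
  exact Dvd.dvd.mul_right hd _

/-- the hypothesis passes to quotients -/
theorem SN.quotient {G : Type u} [Group G] [Finite G] (h : SN G) (M : Subgroup G) [M.Normal] :
    SN (G ⧸ M) := by
  intro q hq hdvd Qb
  haveI : Fact q.Prime := ⟨hq⟩
  have hdvdG : q ∣ Nat.card G := hdvd.trans (Subgroup.card_quotient_dvd_card M)
  have hsurj : Function.Surjective (QuotientGroup.mk' M) := QuotientGroup.mk'_surjective M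
  obtain ⟨Q, rfl⟩ := Sylow.mapSurjective_surjective hsurj q Qb
  have hQn := h q hq hdvdG Q
  apply le_antisymm _ Subgroup.le_normalizer
  rw [Sylow.coe_mapSurjective]
  intro xb hxb
  obtain ⟨x, rfl⟩ := hsurj xb
  -- x normalizes Q ⊔ M
  have hx : x ∈ Subgroup.normalizer (((Q : Subgroup G) ⊔ M : Subgroup G) : Set G) := by
    have h1 : x ∈ (Subgroup.normalizer (((Q : Subgroup G).map (QuotientGroup.mk' M) :
        Subgroup (G ⧸ M)) : Set (G ⧸ M))).comap (QuotientGroup.mk' M) := hxb
    rw [Subgroup.comap_normalizer_eq_of_surjective _ hsurj, Subgroup.comap_map_eq,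
      QuotientGroup.ker_mk'] at h1
    exact h1
  have hQle : (Q : Subgroup G) ≤ (Q : Subgroup G) ⊔ M := le_sup_left
  have hsyl : IsSylowSub q (Q : Subgroup G) ((Q : Subgroup G) ⊔ M) :=
    isSylowSub_of_not_dvd_relIndex hQle Q.isPGroup' (not_dvd_relIndex_sylow' Q hQle)
  have hcjle : cj x (Q : Subgroup G) ≤ (Q : Subgroup G) ⊔ M := by
    have h2 := cj_mono (g := x) hQle
    rwa [cj_eq_of_mem_normalizer hx] at h2
  obtain ⟨m, hm, hmle⟩ := exists_cj_le_of_isSylowSub hsyl hcjle (isPGroup_cj Q.isPGroup')
  rw [cj_cj] at hmle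
  have hmx : m * x ∈ Subgroup.normalizer ((Q : Subgroup G) : Set G) := by
    apply mem_normalizer_of_cj_eq
    exact Subgroup.eq_of_le_of_card_ge hmle (by rw [card_cj])
  rw [hQn] at hmx
  have hxsup : x ∈ (Q : Subgroup G) ⊔ M := by
    have : x = m⁻¹ * (m * x) := by group
    rw [this]
    exact Subgroup.mul_mem _ (Subgroup.inv_mem _ hm) (hQle hmx)
  rw [Subgroup.mem_sup_of_normal_right] at hxsup
  obtain ⟨a, ha, b, hb, rfl⟩ := hxsup
  refine ⟨a, ha, ?_⟩
  have hb1 : (QuotientGroup.mk' M) b = 1 := by
    rw [← MonoidHom.mem_ker, QuotientGroup.ker_mk']; exact hb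
  rw [map_mul, hb1, mul_one]

theorem card_eq_two_pow_mul_three_pow (n : ℕ) (hn : 0 < n)
    (h : ∀ p : ℕ, p.Prime → p ∣ n → p = 2 ∨ p = 3) : ∃ a b : ℕ, n = 2 ^ a * 3 ^ b := by
  obtain ⟨a, m, hm, hnm⟩ := Nat.exists_eq_pow_mul_and_not_dvd hn.ne' 2 (by norm_num)
  have hm0 : m ≠ 0 := by
    rintro rfl
    simp at hnm
    omega
  obtain ⟨b, m', hm', hmm'⟩ := Nat.exists_eq_pow_mul_and_not_dvd hm0 3 (by norm_num)
  have hm'1 : m' = 1 := by
    rw [Nat.eq_one_iff_not_exists_prime_dvd]
    intro p hp hpd
    have hpm : p ∣ m := by rw [hmm']; exact Dvd.dvd.mul_left hpd _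
    have hpn : p ∣ n := by rw [hnm]; exact Dvd.dvd.mul_left hpm _
    rcases h p hp hpn with rfl | rfl
    · exact hm hpm
    · exact hm' hpd
  refine ⟨a, b, ?_⟩
  rw [hnm, hmm', hm'1, mul_one]

theorem main : ∀ (n : ℕ) (G : Type u) [Group G] [Finite G], Nat.card G ≤ n → SN G →
    ∃ q : ℕ, q.Prime ∧ IsPGroup q G := by
  intro n
  induction n with
  | zero =>
    intro G _ _ hcard
    have : 0 < Nat.card G := Nat.card_pos
    omega
  | succ n ih =>
    intro G _ _ hcard h
    classical
    by_cases htriv : Nat.card G = 1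
    · refine ⟨2, Nat.prime_two, IsPGroup.of_card (n := 0) ?_⟩
      rw [htriv]; rfl
    by_cases hsimple : ∀ M : Subgroup G, M.Normal → M = ⊥ ∨ M = ⊤
    · -- simple case
      haveI hnt : Nontrivial G := by
        rw [← Finite.one_lt_card_iff_nontrivial]
        have : 0 < Nat.card G := Nat.card_pos
        omega
      haveI hsg : IsSimpleGroup G := ⟨fun M hM => hsimple M hM⟩
      by_cases hbig : ∃ p : ℕ, p.Prime ∧ p ∣ Nat.card G ∧ 5 ≤ p
      · obtain ⟨p, hp, hpd, hp5⟩ := hbig
        haveI : Fact p.Prime := ⟨hp⟩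
        obtain ⟨S⟩ : Nonempty (Sylow p G) := inferInstance
        have hSne : (S : Subgroup G) ≠ ⊥ := S.ne_bot_of_dvd_card hpd
        have hSn := h p hp hpd S
        have hN : ∀ g ∈ Subgroup.normalizer (((S : Subgroup G) : Subgroup G) : Set G),
            (orderOf g).Coprime p →
            g ∈ Subgroup.centralizer (((S : Subgroup G) : Subgroup G) : Set G) := by
          intro g hg hgo
          rw [hSn] at hg
          obtain ⟨k, hk⟩ := S.isPGroup' ⟨g, hg⟩
          have hk' : g ^ p ^ k = 1 := by
            have := congrArg Subtype.val hk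
            simpa using this
          have hdvd : orderOf g ∣ p ^ k := orderOf_dvd_of_pow_eq_one hk'
          have hcop : (orderOf g).Coprime (p ^ k) := Nat.Coprime.pow_right k hgo
          have h1 : orderOf g = 1 := Nat.Coprime.eq_one_of_dvd hcop hdvd
          have hg1 : g = 1 := orderOf_eq_one_iff.mp h1
          rw [hg1]
          exact Subgroup.one_mem _
        obtain ⟨N, hNn, hNidx⟩ := Cfsg.Agent.S1991.result hp5 S hSne hN
        rcases hNn.eq_bot_or_eq_top with hNb | hNt
        · refine ⟨p, hp, IsPGroup.of_card (n := 1) ?_⟩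
          rw [hNb, Subgroup.index_bot] at hNidx
          rw [hNidx, pow_one]
        · rw [hNt, Subgroup.index_top] at hNidx
          exact absurd hNidx.symm hp.one_lt.ne'
      · have hsmall : ∀ p : ℕ, p.Prime → p ∣ Nat.card G → p = 2 ∨ p = 3 := by
          intro p hp hpd
          by_contra hne
          push_neg at hne
          apply hbig
          refine ⟨p, hp, hpd, ?_⟩
          have h2 := hp.two_le
          by_contra hlt
          have hp4 : p = 4 := by omega
          rw [hp4] at hp
          exact absurd hp (by decide)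
        obtain ⟨a, b, hab⟩ := card_eq_two_pow_mul_three_pow (Nat.card G) Nat.card_pos hsmall
        haveI hsol : IsSolvable G :=
          Cfsg.Agent.S0144.result 2 3 a b Nat.prime_two Nat.prime_three hab
        have hcomm : ∀ a b : G, a * b = b * a := IsSimpleGroup.comm_iff_isSolvable.mpr hsol
        letI : CommGroup G := { (inferInstance : Group G) with mul_comm := hcomm }
        have hprime : (Nat.card G).Prime := IsSimpleGroup.prime_card
        refine ⟨Nat.card G, hprime, IsPGroup.of_card (n := 1) ?_⟩
        rw [pow_one]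
    · -- a proper nontrivial normal subgroup
      push_neg at hsimple
      obtain ⟨M, hMn, hMb, hMt⟩ := hsimple
      haveI := hMn
      have hcardq : Nat.card (G ⧸ M) < Nat.card G := by
        have h1 : Nat.card (G ⧸ M) = M.index := rfl
        have h2 := Subgroup.card_mul_index M
        have h3 : 1 < Nat.card M := M.one_lt_card_iff_ne_bot.mpr hMb
        have h4 : 0 < M.index := Nat.pos_of_ne_zero Subgroup.index_ne_zero_of_finite
        rw [h1]
        nlinarith
      obtain ⟨r, hr, hrG⟩ := ih (G ⧸ M) (by omega) (h.quotient M)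
      by_cases hGr : IsPGroup r G
      · exact ⟨r, hr, hGr⟩
      · exfalso
        -- a prime q ≠ r dividing |G|
        have hex : ∃ q : ℕ, q.Prime ∧ q ∣ Nat.card G ∧ q ≠ r := by
          by_contra hno
          push_neg at hno
          apply hGr
          haveI : Fact r.Prime := ⟨hr⟩
          have hc0 : Nat.card G ≠ 0 := Nat.card_pos.ne'
          have := (Nat.eq_prime_pow_of_unique_prime_dvd hc0 (fun {d} hd hdd => hno d hd hdd))
          exact IsPGroup.of_card this
        obtain ⟨q, hq, hqd, hqr⟩ := hex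
        haveI : Fact q.Prime := ⟨hq⟩
        obtain ⟨Q⟩ : Nonempty (Sylow q G) := inferInstance
        have hQn := h q hq hqd Q
        -- Q ≤ M
        have hQM : (Q : Subgroup G) ≤ M := by
          intro x hx
          obtain ⟨k, hk⟩ := Q.isPGroup' ⟨x, hx⟩
          have hk' : x ^ q ^ k = 1 := by
            have := congrArg Subtype.val hk
            simpa using this
          obtain ⟨l, hl⟩ := hrG (QuotientGroup.mk x)
          have h1 : orderOf (QuotientGroup.mk x : G ⧸ M) ∣ q ^ k := by
            apply orderOf_dvd_of_pow_eq_one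
            rw [← QuotientGroup.mk_pow, hk']
            rfl
          have h2 : orderOf (QuotientGroup.mk x : G ⧸ M) ∣ r ^ l := orderOf_dvd_of_pow_eq_one hl
          have hcop : (q ^ k).Coprime (r ^ l) :=
            Nat.Coprime.pow k l ((Nat.coprime_primes hq hr).mpr hqr)
          have h3 : orderOf (QuotientGroup.mk x : G ⧸ M) = 1 :=
            Nat.eq_one_of_dvd_coprimes hcop h1 h2
          have h4 : (QuotientGroup.mk x : G ⧸ M) = 1 := orderOf_eq_one_iff.mp h3
          exact (QuotientGroup.eq_one_iff x).mp h4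
        -- Frattini
        have hidx : ¬ q ∣ ((Q : Subgroup G).subgroupOf M).index := by
          have := not_dvd_relIndex_sylow' Q hQM
          exact this
        let Q' : Sylow q ↥M := (Q.isPGroup'.comap_subtype).toSylow hidx
        have hfr := Sylow.normalizer_sup_eq_top Q'
        have hmapQ : ((Q' : Subgroup ↥M).map M.subtype) = (Q : Subgroup G) := by
          show ((Q : Subgroup G).subgroupOf M).map M.subtype = _
          rw [Subgroup.subgroupOf_map_subtype, inf_eq_left.mpr hQM]
        rw [hmapQ, hQn] at hfr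
        have : M = ⊤ := by
          rw [← hfr]
          exact (sup_eq_right.mpr hQM).symm
        exact hMt this

/-- Let G be a finite group in which, for every prime q dividing the order of G, every Sylow q-subgroup is its own normalizer. Then the order of G is a power of a single prime (G is a q-group for some prime q; for G trivial any prime works). -/
theorem result {G : Type*} [Group G] [Finite G] (h : ∀ q : ℕ, q.Prime → q ∣ Nat.card G → ∀ Q : Sylow q G, Subgroup.normalizer ((Q : Subgroup G) : Set G) = Q) : ∃ q : ℕ, q.Prime ∧ IsPGroup q G := by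
  exact main _ G le_rfl h

end Cfsg.Agent.S1992
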