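import Cfsg.Statements.S5422
import Mathlib
import Cfsg.Agent.Lib.Helper5.ESK
import Cfsg.Agent.Lib.Helper5.ESD
import Cfsg.Agent.Lib.Helper5.FourS3
import Cfsg.Agent.Lib.Helper5.FourSup
import Cfsg.Agent.Lib.Helper5.KleinFpf

set_option autoImplicit false
open Cfsg

namespace Cfsg.Agent.S5422

/-- Let Q be an extraspecial 2-subgroup of the finite group G whose centralizer in G is its centre Z and which is normal in the centralizer of Z; suppose Q has width at least 2 (order 2^(2w+1) with w ≥ 2) and g is an element of G not normalizing Z with g Z g⁻¹ inside Q. Then Z lies inside g Q g⁻¹; writing V for the subgroup generated by Z and g Z g⁻¹ (a four-group), the normalizer of V induces on V its full automorphism group, that is, the centralizer of V has index 6 in the normalizer of V; and Q is a large extraspecial 2-subgroup of G. -/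
theorem result {G : Type*} [Group G] [Finite G] (Q : Subgroup G) (hL1 : Cfsg.IsExtraspecial 2 ↥Q) (hL2 : Subgroup.centralizer (Q : Set G) = ((Subgroup.center ↥Q).map Q.subtype)) (hL3 : Subgroup.centralizer (((Subgroup.center ↥Q).map Q.subtype) : Set G) ≤ Subgroup.normalizer (Q : Set G)) (w : ℕ) (hw : 2 ≤ w) (hcard : Nat.card ↥Q = 2 ^ (2 * w + 1)) (g : G) (hg : g ∉ Subgroup.normalizer (((Subgroup.center ↥Q).map Q.subtype) : Set G)) (hZg : (((Subgroup.center ↥Q).map Q.subtype)).map (MulAut.conj g).toMonoidHom ≤ Q) : ((Subgroup.center ↥Q).map Q.subtype) ≤ (Q).map (MulAut.conj g).toMonoidHom ∧ (Subgroup.centralizer ((((Subgroup.center ↥Q).map Q.subtype) ⊔ (((Subgroup.center ↥Q).map Q.subtype)).map (MulAut.conj g).toMonoidHom : Subgroup G) : Set G)).relIndex (Subgroup.normalizer ((((Subgroup.center ↥Q).map Q.subtype) ⊔ (((Subgroup.center ↥Q).map Q.subtype)).map (MulAut.conj g).toMonoidHom : Subgroup G) : Set G)) = 6 ∧ Cfsg.IsLargeExtraspecial Q := by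
  classical
  -- the central involution
  obtain ⟨z0, hz0, _⟩ := (Nat.card_eq_two_iff' (1 : Subgroup.center ↥Q)).mp hL1.2
  have hz0' : (z0 : ↥Q) ≠ 1 := fun hh => hz0 (Subtype.ext hh)
  have hES0 := Cfsg.Agent.Lib.Helper5.ES.ESData.ofExtraspecial hL1 (z0 : ↥Q) z0.2 hz0'
  have hES1 := hES0.map Q.subtype (Subgroup.subtype_injective _)
  have htop : (⊤ : Subgroup ↥Q).map Q.subtype = Q := by
    rw [← MonoidHom.range_eq_map, Subgroup.range_subtype]
  rw [htop] at hES1
  obtain ⟨z, hzdef⟩ : ∃ z : G, z = ((z0 : ↥Q) : G) := ⟨_, rfl⟩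
  have hESQ : Cfsg.Agent.Lib.Helper5.ES.ESData Q z := by rw [hzdef]; exact hES1
  have hzz : z * z = 1 := hESQ.zz
  have hz1 : z ≠ 1 := hESQ.z1
  have hzQ : z ∈ Q := hESQ.zQ
  have hZmem : ∀ v, v ∈ (Subgroup.center ↥Q).map Q.subtype ↔ v = 1 ∨ v = z := by
    intro v
    constructor
    · rintro ⟨c, hc, rfl⟩
      apply hESQ.cen _ c.2
      intro y hy
      have := (Subgroup.mem_center_iff.mp hc) ⟨y, hy⟩
      exact (congrArg Subtype.val this).symm
    · rintro (rfl | rfl)
      · exact Subgroup.one_mem _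
      · exact ⟨(z0 : ↥Q), z0.2, hzdef.symm⟩
  have hzZ : z ∈ (Subgroup.center ↥Q).map Q.subtype := (hZmem z).mpr (Or.inr rfl)
  obtain ⟨x, hxdef⟩ : ∃ x : G, x = g * z * g⁻¹ := ⟨_, rfl⟩
  have hZgmem : ∀ v, v ∈ ((Subgroup.center ↥Q).map Q.subtype).map (MulAut.conj g).toMonoidHom
      ↔ v = 1 ∨ v = x := by
    intro v
    constructor
    · rintro ⟨u, hu, rfl⟩
      rcases (hZmem u).mp hu with rfl | rfl
      · left; simp
      · right; rw [hxdef]; rfl
    · rintro (rfl | rfl)
      · exact Subgroup.one_mem _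
      · exact ⟨z, hzZ, hxdef.symm⟩
  have hxQ : x ∈ Q := hZg ((hZgmem x).mpr (Or.inr rfl))
  have cinj : ∀ n u v : G, n * u * n⁻¹ = n * v * n⁻¹ → u = v := by
    intro n u v h; simpa using h
  have hxz_ne : x ≠ z := by
    intro hxz
    apply hg
    rw [Subgroup.mem_normalizer_iff]
    intro h
    rw [hZmem, hZmem]
    constructor
    · rintro (rfl | rfl)
      · left; group
      · right; rw [← hxdef, hxz]
    · rintro (h1 | h1)
      · left
        apply cinj g
        rw [h1]; group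
      · right
        apply cinj g
        rw [h1, ← hxdef, hxz]
  have hx1 : x ≠ 1 := by
    intro h
    apply hz1
    apply cinj g
    rw [← hxdef, h]; group
  have hxx : x * x = 1 := by
    rw [hxdef]
    calc g * z * g⁻¹ * (g * z * g⁻¹) = g * (z * z) * g⁻¹ := by group
      _ = 1 := by rw [hzz]; group
  have hzx : z * x = x * z := hESQ.zc x hxQ
  -- R and its data
  obtain ⟨R, hRdef⟩ : ∃ R : Subgroup G, R = Q.map (MulAut.conj g).toMonoidHom := ⟨_, rfl⟩
  have hRmem : ∀ r, r ∈ R ↔ ∃ q ∈ Q, g * q * g⁻¹ = r := by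
    intro r; rw [hRdef]; exact Iff.rfl
  have hESR : Cfsg.Agent.Lib.Helper5.ES.ESData R x := by
    rw [hRdef, hxdef]
    exact hESQ.map (MulAut.conj g).toMonoidHom (MulAut.conj g).injective
  have hcentZ : ∀ c, c * z = z * c →
      c ∈ Subgroup.centralizer (((Subgroup.center ↥Q).map Q.subtype : Subgroup G) : Set G) := by
    intro c hc
    rw [Subgroup.mem_centralizer_iff]
    intro h hh
    rcases (hZmem h).mp hh with rfl | rfl
    · simp
    · exact hc.symm
  have hnormz : ∀ c, c * z = z * c → ∀ q, q ∈ Q ↔ c * q * c⁻¹ ∈ Q := fun c hc =>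
    Subgroup.mem_normalizer_iff.mp (hL3 (hcentZ c hc))
  have hnormx : ∀ c, c * x = x * c → ∀ r ∈ R, c * r * c⁻¹ ∈ R := by
    intro c hc r hr
    obtain ⟨q, hq, rfl⟩ := (hRmem r).mp hr
    have hc' : (g⁻¹ * c * g) * z = z * (g⁻¹ * c * g) := by
      calc (g⁻¹ * c * g) * z = g⁻¹ * (c * (g * z * g⁻¹)) * g := by group
        _ = g⁻¹ * ((g * z * g⁻¹) * c) * g := by rw [← hxdef, hc]
        _ = z * (g⁻¹ * c * g) := by group
    have := (hnormz _ hc' q).mp hq
    rw [hRmem]
    refine ⟨_, this, ?_⟩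
    group
  have hS : Cfsg.Agent.Lib.Helper5.ES.SymHyp Q R z x := by
    refine ⟨hESQ, hESR, hxQ, ?_, ?_, ?_, ?_, ?_, ?_⟩
    · exact hnormx z hzx
    · intro a _ hax
      exact hnormx a hax
    · intro b _ hbz q hq
      exact (hnormz b hbz q).mp hq
    · intro hcen
      rw [hRmem]
      refine ⟨g⁻¹ * z * g, ?_, by group⟩
      have hmem : g⁻¹ * z * g ∈ Subgroup.centralizer (Q : Set G) := by
        rw [Subgroup.mem_centralizer_iff]
        intro q hq
        have hgq : g * q * g⁻¹ ∈ R := (hRmem _).mpr ⟨q, hq, rfl⟩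
        have := hcen _ hgq
        calc q * (g⁻¹ * z * g) = g⁻¹ * ((g * q * g⁻¹) * z) * g := by group
          _ = g⁻¹ * (z * (g * q * g⁻¹)) * g := by rw [this]
          _ = g⁻¹ * z * g * q := by group
      rw [hL2] at hmem
      rcases (hZmem _).mp hmem with h1 | h1
      · rw [h1]; exact Q.one_mem
      · rw [h1]; exact hzQ
    · intro h hh q hq
      have hc' : (g⁻¹ * h) * z = z * (g⁻¹ * h) := by
        calc (g⁻¹ * h) * z = g⁻¹ * (h * z * h⁻¹) * h := by group
          _ = g⁻¹ * (g * z * g⁻¹) * h := by rw [hh, hxdef]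
          _ = z * (g⁻¹ * h) := by group
      have := (hnormz _ hc' q).mp hq
      rw [hRmem]
      refine ⟨_, this, ?_⟩
      group
    · rw [hRdef]
      exact (Nat.card_congr (Q.equivMapOfInjective _ (MulAut.conj g).injective).toEquiv)
  have hzR : z ∈ R := hS.main
  -- q and r
  have hq : ∃ q ∈ Q, q * z * q⁻¹ = z ∧ q * x * q⁻¹ = z * x := by
    by_contra hcon
    push Not at hcon
    have hcen : ∀ y ∈ Q, x * y = y * x := by
      intro y hy
      have hyz : y * z * y⁻¹ = z := by
        rw [← hESQ.zc y hy]; group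
      have hne := hcon y hy hyz
      rcases hESQ.comm y hy x hxQ with h1 | h1
      · exact (Cfsg.Agent.Lib.Helper5.ES.comm_eq_one_iff.mp h1).symm
      · exfalso; apply hne
        calc y * x * y⁻¹ = (y * x * y⁻¹ * x⁻¹) * x := by group
          _ = z * x := by rw [h1]
    rcases hESQ.cen x hxQ hcen with h1 | h1
    · exact hx1 h1
    · exact hxz_ne h1
  have hr : ∃ r ∈ R, r * x * r⁻¹ = x ∧ r * z * r⁻¹ = z * x := by
    by_contra hcon
    push Not at hcon
    have hcen : ∀ y ∈ R, z * y = y * z := by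
      intro y hy
      have hyx : y * x * y⁻¹ = x := by
        rw [← hESR.zc y hy]; group
      have hne := hcon y hy hyx
      rcases hESR.comm y hy z hzR with h1 | h1
      · exact (Cfsg.Agent.Lib.Helper5.ES.comm_eq_one_iff.mp h1).symm
      · exfalso; apply hne
        calc y * z * y⁻¹ = (y * z * y⁻¹ * z⁻¹) * z := by group
          _ = z * x := by rw [h1, hzx]
    rcases hESR.cen z hzR hcen with h1 | h1
    · exact hz1 h1
    · exact hxz_ne h1.symm
  obtain ⟨q, hqQ, hqz, hqx⟩ := hq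
  obtain ⟨r, hrR, hrx, hrz⟩ := hr
  refine ⟨?_, ?_, hL1, hL2, hL3, ?_⟩
  · intro v hv
    rw [← hRdef]
    rcases (hZmem v).mp hv with rfl | rfl
    · exact R.one_mem
    · exact hzR
  · exact Cfsg.Agent.Lib.Helper5.FourS3.relIndex_eq_six _ z x hzz hxx hzx hz1 hx1
      (fun h => hxz_ne h.symm)
      (Cfsg.Agent.Lib.Helper5.FourSup.mem_sup_four _ _ z x hzz hxx hzx hZmem hZgmem)
      q r hqz hqx hrx hrz
  · intro K hKodd hQK
    have hcop : ∀ (P : Subgroup G), Nat.card ↥P = 2 ^ (2 * w + 1) → ∀ k ∈ K, k ∈ P → k = 1 := by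
      intro P hP k hkK hkP
      have d1 : orderOf k ∣ Nat.card ↥K := Subgroup.orderOf_dvd_natCard K hkK
      have d2 : orderOf k ∣ 2 ^ (2 * w + 1) := hP ▸ Subgroup.orderOf_dvd_natCard P hkP
      have hc : Nat.Coprime (Nat.card ↥K) (2 ^ (2 * w + 1)) :=
        Nat.Coprime.pow_right _ (Nat.coprime_two_right.mpr hKodd)
      have : orderOf k ∣ 1 := by
        have := Nat.dvd_gcd d1 d2
        rwa [hc] at this
      exact orderOf_eq_one_iff.mp (Nat.dvd_one.mp this)
    have hKQ := hcop Q hcard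
    have hKR := hcop R (by rw [← hcard]; exact (hS.card).symm)
    have hQnK : ∀ u ∈ Q, ∀ k, k ∈ K ↔ u * k * u⁻¹ ∈ K := fun u hu =>
      Subgroup.mem_normalizer_iff.mp (hQK hu)
    have hfz : ∀ k ∈ K, k * z = z * k → k = 1 := by
      intro k hk hkz
      have hkQ : k ∈ Subgroup.centralizer (Q : Set G) := by
        rw [Subgroup.mem_centralizer_iff]
        intro u hu
        have h1 : k * u * k⁻¹ * u⁻¹ ∈ Q := Q.mul_mem ((hnormz k hkz u).mp hu) (Q.inv_mem hu)
        have h2 : k * u * k⁻¹ * u⁻¹ ∈ K := by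
          have := (hQnK u hu k⁻¹).mp (K.inv_mem hk)
          have h3 := K.mul_mem hk this
          have e : k * (u * k⁻¹ * u⁻¹) = k * u * k⁻¹ * u⁻¹ := by group
          rwa [e] at h3
        have := hKQ _ h2 h1
        exact (Cfsg.Agent.Lib.Helper5.ES.comm_eq_one_iff.mp this).symm
      rw [hL2] at hkQ
      rcases (hZmem k).mp hkQ with h1 | h1
      · exact h1
      · exfalso
        apply hz1
        exact hKQ z (h1 ▸ hk) hzQ
    have hfx : ∀ k ∈ K, k * x = x * k → k = 1 := by
      intro k hk hkx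
      apply hfz k hk
      have h1 : k * z * k⁻¹ * z⁻¹ ∈ R := R.mul_mem (hnormx k hkx z hzR) (R.inv_mem hzR)
      have h2 : k * z * k⁻¹ * z⁻¹ ∈ K := by
        have := (hQnK z hzQ k⁻¹).mp (K.inv_mem hk)
        have h3 := K.mul_mem hk this
        have e : k * (z * k⁻¹ * z⁻¹) = k * z * k⁻¹ * z⁻¹ := by group
        rwa [e] at h3
      have := hKR _ h2 h1
      exact Cfsg.Agent.Lib.Helper5.ES.comm_eq_one_iff.mp this
    have hfzx : ∀ k ∈ K, k * (z * x) = (z * x) * k → k = 1 := by
      intro k hk hkzx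
      have hk' : q⁻¹ * k * q ∈ K := by
        have := (hQnK q⁻¹ (Q.inv_mem hqQ) k).mp hk
        rwa [inv_inv] at this
      have hc : (q⁻¹ * k * q) * x = x * (q⁻¹ * k * q) := by
        calc (q⁻¹ * k * q) * x = q⁻¹ * (k * (q * x * q⁻¹)) * q := by group
          _ = q⁻¹ * ((q * x * q⁻¹) * k) * q := by rw [hqx, hkzx]
          _ = x * (q⁻¹ * k * q) := by group
      have := hfx _ hk' hc
      calc k = q * (q⁻¹ * k * q) * q⁻¹ := by group
        _ = 1 := by rw [this]; group
    have hKfin : Finite ↥K := inferInstance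
    exact Cfsg.Agent.Lib.Helper5.KleinFpf.eq_bot_of_klein_fpf K z x hzz hxx
      (fun k hk => (hQnK z hzQ k).mp hk) (fun k hk => (hQnK x hxQ k).mp hk) hfz hfx hfzx

end Cfsg.Agent.S5422
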