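import Cfsg.Statements.S5423
import Mathlib
import Cfsg.Agent.Lib.Helper27.TvCentK

set_option autoImplicit false
open Cfsg

namespace Cfsg.Agent.S5423

/-- Let G be a finite group that is the split extension of an elementary abelian normal subgroup U of order 2^(n+1), n ≥ 1, by its full automorphism group: U has a complement M in G whose conjugation action on U is faithful and realizes every automorphism of U. Let Z be a subgroup of U of order 2 and Q the largest normal 2-subgroup of the centralizer C of Z. Then Q is extraspecial of order 2^(2n+1) with an elementary abelian subgroup of order 2^(n+1) (plus type), Q is a large extraspecial 2-subgroup of G, and C is the split extension of Q by the general linear group of degree n over the field with two elements. -/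
theorem result {G : Type*} [Group G] [Finite G] (n : ℕ) (hn : 1 ≤ n) (U M : Subgroup G) [U.Normal] (hU : Cfsg.IsElementaryAbelian 2 U) (hUcard : Nat.card ↥U = 2 ^ (n + 1)) (hUM : U ⊓ M = ⊥) (hUM' : U ⊔ M = ⊤) (hfaith : ∀ m ∈ M, (∀ u ∈ U, m * u * m⁻¹ = u) → m = 1) (hfull : ∀ φ : ↥U ≃* ↥U, ∃ m ∈ M, ∀ u : ↥U, ((φ u : ↥U) : G) = m * u * m⁻¹) (Z : Subgroup G) (hZU : Z ≤ U) (hZ : Nat.card ↥Z = 2) (Q : Subgroup G) (hQ : Q = (Cfsg.pCore 2 ↥(Subgroup.centralizer (Z : Set G))).map (Subgroup.centralizer (Z : Set G)).subtype) : Cfsg.IsExtraspecial 2 ↥Q ∧ Nat.card ↥Q = 2 ^ (2 * n + 1) ∧ (∃ E : Subgroup G, E ≤ Q ∧ Cfsg.IsElementaryAbelian 2 E ∧ Nat.card ↥E = 2 ^ (n + 1)) ∧ Cfsg.IsLargeExtraspecial Q ∧ ∃ K : Subgroup G, K ≤ Subgroup.centralizer (Z : Set G) ∧ Q ⊓ K = ⊥ ∧ Q ⊔ K = Subgroup.centralizer (Z : Set G) ∧ Nonempty (↥K ≃* Matrix.GeneralLinearGroup (Fin n) (ZMod 2)) := by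
  classical
  -- the generator of Z
  obtain ⟨z, hz1, hzuniq⟩ := (Nat.card_eq_two_iff' (1 : ↥Z)).1 hZ
  have hZmem : ∀ x, x ∈ Z ↔ x = 1 ∨ x = (z : G) := by
    intro x
    constructor
    · intro hx
      by_cases h1 : x = 1
      · exact Or.inl h1
      · right
        have : (⟨x, hx⟩ : ↥Z) = z := hzuniq ⟨x, hx⟩ (fun h => h1 (congrArg Subtype.val h))
        exact congrArg Subtype.val this
    · rintro (rfl | rfl)
      · exact Z.one_mem
      · exact z.2
  have hzU : (z : G) ∈ U := hZU z.2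
  have hzne : (⟨(z : G), hzU⟩ : ↥U) ≠ 1 := by
    intro h
    apply hz1
    apply Subtype.ext
    have h' : ((⟨(z : G), hzU⟩ : ↥U) : G) = ((1 : ↥U) : G) := congrArg Subtype.val h
    exact h'
  obtain ⟨b, hbij, hadd, hbz⟩ :=
    Cfsg.Agent.Lib.Helper27.TvCent.exists_coords U n hU hUcard ⟨(z : G), hzU⟩ hzne
  have hcompl : U.IsComplement' M := by
    apply Subgroup.isComplement'_of_disjoint_and_mul_eq_univ (disjoint_iff.2 hUM)
    rw [← Subgroup.normal_mul, hUM']
    rfl
  exact Cfsg.Agent.Lib.Helper27.TvCent.transfer_main hn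
    (Cfsg.Agent.Lib.Helper27.TvCent.PhiHom U b hbij hadd M hcompl)
    (Cfsg.Agent.Lib.Helper27.TvCent.PhiHom_injective U b hbij hadd M hcompl hfaith)
    Z (z : G) hZmem
    (Cfsg.Agent.Lib.Helper27.TvCent.PhiHom_z U b hbij hadd M hcompl ⟨(z : G), hzU⟩ hbz)
    (Cfsg.Agent.Lib.Helper27.TvCent.CC_le_range U b hbij hadd M hcompl hfull)
    U hU hUcard
    (Cfsg.Agent.Lib.Helper27.TvCent.PhiHom_map_le U b hbij hadd M hcompl)
    Q hQ

end Cfsg.Agent.S5423
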