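import Cfsg.Statements.S0249
import Cfsg.Agent.Lib.Helper28.SLn

set_option autoImplicit false
open Cfsg

namespace Cfsg.Agent.S0249

open Matrix Matrix.SpecialLinearGroup
open scoped LinearAlgebra.Projectivization MatrixGroups
open MulAction

variable {F : Type*} [Field F]

/-- SL is generated by the unipotent radicals of lines. -/
theorem iSup_lineStab_eq_top (n : ℕ) (hn : 2 ≤ n) :
    (⨆ p : ℙ F (Fin n → F), lineStab p.submodule) = (⊤ : Subgroup (Matrix.SpecialLinearGroup (Fin n) F)) := by
  have : Nontrivial (Fin n) := Fin.nontrivial_iff_two_le.mpr hn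
  have htr : ∀ (i j : Fin n) (hij : i ≠ j) (a : F),
      SpecialLinearGroup.transvection hij a ∈ (⨆ p : ℙ F (Fin n → F), lineStab p.submodule) := by
    intro i j hij a
    have h1 := SL2Gen.transvection_mem_lineStab (F := F) hij a
    rw [← Projectivization.submodule_mk (K := F) _ (Pi.single_ne_zero_iff.2 one_ne_zero)] at h1
    exact Subgroup.mem_iSup_of_mem _ h1
  refine le_antisymm le_top (fun A _ => ?_)
  refine diagonal_transvection_induction'
    (fun A => A ∈ (⨆ p : ℙ F (Fin n → F), lineStab p.submodule)) A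
    (fun i j hij c hc => ?_) htr (fun _ _ => mul_mem)
  rw [Cfsg.Agent.Lib.Helper28.diag2n_decompose hij c hc]
  exact mul_mem (mul_mem (mul_mem (mul_mem (mul_mem (htr _ _ _ _) (htr _ _ _ _)) (htr _ _ _ _))
    (htr _ _ _ _)) (htr _ _ _ _)) (htr _ _ _ _)

theorem iSup_iwasawaT_eq_top (n : ℕ) (hn : 2 ≤ n) :
    iSup (PSL.iwasawaT (F := F) (ι := Fin n)) = ⊤ := by
  have step1 : iSup (PSL.iwasawaT (F := F) (ι := Fin n)) =
      Subgroup.map (QuotientGroup.mk' (Subgroup.center (Matrix.SpecialLinearGroup (Fin n) F)))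
        (⨆ p : ℙ F (Fin n → F),
          Matrix.SpecialLinearGroup.lineStab (F := F) (ι := Fin n) p.submodule) := by
    rw [Subgroup.map_iSup]
  rw [step1, iSup_lineStab_eq_top n hn]
  exact Subgroup.map_top_of_surjective _ (QuotientGroup.mk'_surjective _)

/-- The Iwasawa structure on PSL(n, F). -/
noncomputable def iwasawaPSL (n : ℕ) (hn : 2 ≤ n) :
    IwasawaStructure (Matrix.ProjectiveSpecialLinearGroup (Fin n) F) (ℙ F (Fin n → F)) where
  T := PSL.iwasawaT
  is_comm p := by
    have hSL : IsMulCommutative (lineStab (F := F) (ι := Fin n) p.submodule) := by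
      rw [← Projectivization.mk_rep p, Projectivization.submodule_mk]
      exact lineStab_isMulCommutative_of_span p.rep p.rep_nonzero
    exact Subgroup.map_isMulCommutative _ _
  is_conj g p := by
    obtain ⟨g_SL, rfl⟩ := QuotientGroup.mk_surjective g
    rw [Matrix.ProjectiveSpecialLinearGroup.smul_proj_mk]
    change Subgroup.map _ _ = _
    rw [PSL.smul_submodule, Matrix.SpecialLinearGroup.lineStab_smul,
      PSL.iwasawaT_map_conj]
  is_generator := iSup_iwasawaT_eq_top n hn

/-- PSL_n(F) is simple for n at least 3, over any field F. -/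
theorem result {F : Type*} [Field F] (n : ℕ) (hn : 3 ≤ n) : IsSimpleGroup (Matrix.ProjectiveSpecialLinearGroup (Fin n) F) := by
  have : Nontrivial (Fin n) := Fin.nontrivial_iff_two_le.mpr (by omega)
  have hperf : commutator (Matrix.ProjectiveSpecialLinearGroup (Fin n) F) = ⊤ := by
    have : Group.IsPerfect (Matrix.SpecialLinearGroup (Fin n) F) :=
      ⟨Cfsg.Agent.Lib.Helper28.SL_commutator_eq_top n hn⟩
    have : Group.IsPerfect (Matrix.ProjectiveSpecialLinearGroup (Fin n) F) := inferInstance
    exact this.commutator_eq_top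
  exact MulAction.IwasawaStructure.isSimpleGroup hperf (iwasawaPSL n (by omega)) inferInstance

end Cfsg.Agent.S0249
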