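import Cfsg.Statements.S0256
import Cfsg.Agent.Lib.Helper24.Klein
import Cfsg.Agent.S0825
import Cfsg.Agent.S0249
import Cfsg.Agent.S0243

set_option autoImplicit false
open Cfsg
open Cfsg.Agent.Lib.Helper24

namespace Cfsg.Agent.S0256

/-- PSL_4(2) is isomorphic to A_8. -/
theorem result {F : Type*} [Field F] [Fintype F] (hF : Fintype.card F = 2) : Nonempty (Matrix.ProjectiveSpecialLinearGroup (Fin 4) F ≃* alternatingGroup (Fin 8)) := by
  classical
  obtain ⟨e⟩ := Cfsg.Agent.S0825.result hF
  -- the hom SL → Perm (Fin 8)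
  let Ψ₀ : Matrix.SpecialLinearGroup (Fin 4) F →* Equiv.Perm (Fin 8) :=
    e.toMonoidHom.comp Klein.kleinHom
  have hcenter : Subgroup.center (Matrix.SpecialLinearGroup (Fin 4) F) = ⊥ := by
    have h := Cfsg.Agent.S0243.card_center_SL (F := F) 4 (by norm_num)
    rw [hF] at h
    simp at h
    rw [← Nat.card_eq_fintype_card] at h
    exact Subgroup.card_eq_one.mp h
  let Ψ : Matrix.ProjectiveSpecialLinearGroup (Fin 4) F →* Equiv.Perm (Fin 8) :=
    QuotientGroup.lift (Subgroup.center (Matrix.SpecialLinearGroup (Fin 4) F)) Ψ₀ (by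
      intro x hx
      rw [hcenter, Subgroup.mem_bot] at hx
      rw [hx]; exact one_mem _)
  haveI := Cfsg.Agent.S0249.result (F := F) 4 (by norm_num)
  have hker : Ψ.ker = ⊥ := by
    rcases Ψ.normal_ker.eq_bot_or_eq_top with h | h
    · exact h
    · exfalso
      have h1 : (QuotientGroup.mk (Klein.tv : Matrix.SpecialLinearGroup (Fin 4) F) :
          Matrix.ProjectiveSpecialLinearGroup (Fin 4) F) ∈ Ψ.ker := by rw [h]; trivial
      rw [MonoidHom.mem_ker] at h1
      have h2 : Ψ₀ (Klein.tv : Matrix.SpecialLinearGroup (Fin 4) F) = 1 := h1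
      have h3 : e (Klein.kleinHom (Klein.tv : Matrix.SpecialLinearGroup (Fin 4) F)) = 1 := h2
      have h4 := e.injective (h3.trans (map_one e).symm)
      exact Klein.kleinHom_ne_one h4
  have hinj : Function.Injective Ψ := (MonoidHom.ker_eq_bot_iff Ψ).mp hker
  have hcard : Nat.card (Matrix.ProjectiveSpecialLinearGroup (Fin 4) F) = 20160 := by
    have h := Cfsg.Agent.S0243.result hF 4 (by norm_num)
    simp [Fin.prod_univ_four] at h
    rw [Nat.card_eq_fintype_card]
    convert h
  have hrange : Nat.card Ψ.range = 20160 := by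
    rw [← hcard]
    exact (Nat.card_congr (MonoidHom.ofInjective hinj).toEquiv).symm
  have hperm : Nat.card (Equiv.Perm (Fin 8)) = 40320 := by
    rw [Nat.card_eq_fintype_card, Fintype.card_perm, Fintype.card_fin]
    rfl
  have hidx : Ψ.range.index = 2 := by
    have h := Subgroup.card_mul_index Ψ.range
    rw [hrange, hperm] at h
    omega
  haveI : Ψ.range.Normal := Subgroup.normal_of_index_eq_two hidx
  have hnt : Nontrivial Ψ.range := by
    rw [← Finite.one_lt_card_iff_nontrivial, hrange]
    norm_num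
  have hA := Equiv.Perm.alternatingGroup_le_of_normal (α := Fin 8) (by simp) hnt
  have hAcard : Nat.card (alternatingGroup (Fin 8)) = 20160 := by
    have h := Subgroup.card_mul_index (alternatingGroup (Fin 8))
    rw [alternatingGroup.index_eq_two, hperm] at h
    omega
  have heq : alternatingGroup (Fin 8) = Ψ.range :=
    Subgroup.eq_of_le_of_card_ge hA (by rw [hrange, hAcard])
  exact ⟨(MonoidHom.ofInjective hinj).trans (MulEquiv.subgroupCongr heq.symm)⟩

end Cfsg.Agent.S0256
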