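import Cfsg.Statements.S5653
import Mathlib
import Cfsg.Agent.Lib.Helper27.UMax

set_option autoImplicit false
open Cfsg

namespace Cfsg.Agent.S5653

open Cfsg.Agent.Lib.Helper27.Unitary Cfsg.Agent.Lib.Helper27.GLStab Matrix

variable {F : Type*} [Field F] [Fintype F] {q n : ℕ}

/-- The map `x ↦ x + κ h(x, v) u` as an element of `GL_n`. -/
noncomputable def rk (q : ℕ) (u v : Fin n → F) (κ : F) (h : 1 + κ * hermForm n F q u v ≠ 0) :
    GL (Fin n) F :=
  TmGL (κ • u) (fun j => v j ^ q) (by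
    rw [hf_dot, hf_smul_left]
    exact h)

theorem rk_gact (u v : Fin n → F) (κ : F) (h : 1 + κ * hermForm n F q u v ≠ 0) (x : Fin n → F) :
    gact (rk q u v κ h) x = x + (κ * hermForm n F q x v) • u := by
  unfold rk gact
  rw [TmGL_mulVec, hf_dot, smul_smul, mul_comm]

theorem det_rk (u v : Fin n → F) (κ : F) (h : 1 + κ * hermForm n F q u v ≠ 0) :
    (rk q u v κ h : Matrix (Fin n) (Fin n) F).det = 1 + κ * hermForm n F q u v := by
  unfold rk
  rw [det_TmGL, hf_dot, hf_smul_left]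

/-- Hilbert 90 for the norm-one group. -/
theorem hilbert90 (hF : Fintype.card F = q ^ 2) (δ : F) (hδ : δ * δ ^ q = 1) :
    ∃ β : F, β ≠ 0 ∧ β ^ q = δ * β := by
  have hδ0 : δ ≠ 0 := by
    rintro rfl
    rw [zero_mul] at hδ
    exact zero_ne_one hδ
  have hform : ∀ c : F, (c + δ⁻¹ * c ^ q) ^ q = δ * (c + δ⁻¹ * c ^ q) := by
    intro c
    have h1 : (δ⁻¹) ^ q = δ := by
      rw [cj_inv, eq_inv_of_mul_eq_one_right hδ, inv_inv]
    rw [cj_add hF, mul_pow, cj_cj hF, h1]
    field_simp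
    ring
  by_cases h1 : (1 : F) + δ⁻¹ * (1 : F) ^ q = 0
  · obtain ⟨c, hc⟩ := exists_not_fixed hF
    refine ⟨c + δ⁻¹ * c ^ q, ?_, hform c⟩
    rw [one_pow, mul_one] at h1
    have h2 : δ⁻¹ = -1 := by linear_combination h1
    rw [h2]
    intro h
    apply hc
    linear_combination -h
  · exact ⟨_, h1, hform 1⟩

/-- A torus element on a hyperbolic pair `(e, f)`: `e ↦ α e`, `f ↦ β f`, identity on the
orthogonal complement, of prescribed determinant of norm one. -/
theorem exists_torus (hF : Fintype.card F = q ^ 2) {e f : Fin n → F} (hp : HypPair q e f)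
    (δ : F) (hδ : δ * δ ^ q = 1) :
    ∃ (d : GL (Fin n) F) (α β : F), β ≠ 0 ∧ d ∈ GU n F q ∧
      (d : Matrix (Fin n) (Fin n) F).det = δ⁻¹ ∧
      ∀ v, gact d v = v + ((α - 1) * hermForm n F q v f) • e +
        ((β - 1) * hermForm n F q v e) • f := by
  have hδ0 : δ ≠ 0 := by
    rintro rfl
    rw [zero_mul] at hδ
    exact zero_ne_one hδ
  obtain ⟨β, hβ0, hβ⟩ := hilbert90 hF δ hδ
  have hβq0 : β ^ q ≠ 0 := pow_ne_zero _ hβ0
  obtain ⟨α, hα⟩ : ∃ α : F, α = (β ^ q)⁻¹ := ⟨_, rfl⟩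
  have hα0 : α ≠ 0 := by rw [hα]; exact inv_ne_zero hβq0
  have hαβ : α * β ^ q = 1 := by rw [hα, inv_mul_cancel₀ hβq0]
  have hβα : β * α ^ q = 1 := by
    have := congrArg (fun x => x ^ q) hαβ
    simp only [mul_pow, cj_cj hF, one_pow] at this
    rw [mul_comm]
    exact this
  have h1 : 1 + (α - 1) * hermForm n F q e f ≠ 0 := by
    rw [hp.ef, mul_one, add_sub_cancel]
    exact hα0
  have h2 : 1 + (β - 1) * hermForm n F q f e ≠ 0 := by
    rw [hp.fe hF, mul_one, add_sub_cancel]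
    exact hβ0
  have hact : ∀ v, gact (rk q e f (α - 1) h1 * rk q f e (β - 1) h2) v =
      v + ((α - 1) * hermForm n F q v f) • e + ((β - 1) * hermForm n F q v e) • f := by
    intro v
    rw [gact_mul, rk_gact, rk_gact, hf_add_left, hf_smul_left, hp.ff, mul_zero, add_zero]
    abel
  refine ⟨rk q e f (α - 1) h1 * rk q f e (β - 1) h2, α, β, hβ0, ?_, ?_, hact⟩
  · rw [mem_GU_iff]
    intro u v
    change hermForm n F q (gact _ u) (gact _ v) = _
    rw [hact u, hact v]
    have e1 : hermForm n F q e v = (hermForm n F q v e) ^ q := hf_swap hF v e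
    have e2 : hermForm n F q f v = (hermForm n F q v f) ^ q := hf_swap hF v f
    simp only [hf_add_left, hf_add_right hF, hf_smul_left, hf_smul_right, hp.ee, hp.ff, hp.ef,
      hp.fe hF, e1, e2, mul_pow, cj_sub hF, one_pow]
    linear_combination (hermForm n F q u f * (hermForm n F q v e) ^ q) * hαβ +
      (hermForm n F q u e * (hermForm n F q v f) ^ q) * hβα
  · rw [Units.val_mul, Matrix.det_mul, det_rk, det_rk, hp.ef, hp.fe hF, mul_one, mul_one,
      add_sub_cancel, add_sub_cancel, hα, hβ]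
    field_simp

theorem hf_comb (hF : Fintype.card F = q ^ 2) (P P' x y : Fin n → F) (α α' : F) :
    hermForm n F q (P + α • x) (P' + α' • y) =
      hermForm n F q P P' + α' ^ q * hermForm n F q P y + α * hermForm n F q x P' +
        α * α' ^ q * hermForm n F q x y := by
  rw [hf_add_left, hf_add_right hF, hf_add_right hF, hf_smul_left, hf_smul_left, hf_smul_right,
    hf_smul_right]
  ring

theorem mem_stabW_of_maps (W : Submodule F (Fin n → F)) (g : GL (Fin n) F)
    (h : ∀ v ∈ W, gact g v ∈ W) : g ∈ Cfsg.Geo.subspaceStabilizer W :=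
  mem_stab_of_maps W g h

theorem stabW_maps {W : Submodule F (Fin n → F)} {g : GL (Fin n) F}
    (hg : g ∈ Cfsg.Geo.subspaceStabilizer W) {v : Fin n → F} (hv : v ∈ W) : gact g v ∈ W :=
  stab_maps hg hv

theorem not_mem_uperp {W : Submodule F (Fin n → F)} {x : Fin n → F} (hx : x ∉ uperp q W) :
    ∃ w ∈ W, hermForm n F q x w ≠ 0 := by
  by_contra hne
  apply hx
  intro w hw
  by_contra h
  exact hne ⟨w, hw, h⟩

/-- The stabiliser of a totally isotropic `W` in `SU_n` is transitive, up to scalars, on the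
isotropic vectors outside `W^⊥`. -/
theorem trans_outside (hF : Fintype.card F = q ^ 2) {W : Submodule F (Fin n → F)}
    (hW : ∀ u ∈ W, ∀ v ∈ W, hermForm n F q u v = 0) {b x : Fin n → F}
    (hbb : hermForm n F q b b = 0) (hxx : hermForm n F q x x = 0) (hb : b ∉ uperp q W)
    (hx : x ∉ uperp q W) :
    ∃ g : GL (Fin n) F, g ∈ Cfsg.Geo.subspaceStabilizer W ⊓
        (GU n F q ⊓ Cfsg.Geo.specialLinear (Fin n) F) ∧ ∃ β : F, β ≠ 0 ∧ gact g b = β • x := by
  have hWU : W ≤ uperp q W := fun u hu w hw => hW u hu w hw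
  obtain ⟨wx, hwx, hxwx⟩ := not_mem_uperp hx
  obtain ⟨wb, hwb, hbwb⟩ := not_mem_uperp hb
  have hxwx' : hermForm n F q wx x ≠ 0 := fun h => hxwx (hf_eq_zero_swap hF h)
  have hbwb' : hermForm n F q wb b ≠ 0 := fun h => hbwb (hf_eq_zero_swap hF h)
  -- a common vector
  have hcommon : ∃ w₀ ∈ W, hermForm n F q w₀ x ≠ 0 ∧ hermForm n F q w₀ b ≠ 0 := by
    by_cases h1 : hermForm n F q wx b ≠ 0
    · exact ⟨wx, hwx, hxwx', h1⟩
    by_cases h2 : hermForm n F q wb x ≠ 0
    · exact ⟨wb, hwb, h2, hbwb'⟩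
    rw [not_not] at h1 h2
    refine ⟨wx + wb, W.add_mem hwx hwb, ?_, ?_⟩
    · rw [hf_add_left, h2, add_zero]; exact hxwx'
    · rw [hf_add_left, h1, zero_add]; exact hbwb'
  obtain ⟨w₀, hw₀, hw₀x, hw₀b⟩ := hcommon
  obtain ⟨w₁, hw₁def⟩ : ∃ w₁ : Fin n → F, w₁ = (hermForm n F q w₀ x)⁻¹ • w₀ := ⟨_, rfl⟩
  have hw₁ : w₁ ∈ W := by rw [hw₁def]; exact W.smul_mem _ hw₀
  have hw₁x : hermForm n F q w₁ x = 1 := by
    rw [hw₁def, hf_smul_left, inv_mul_cancel₀ hw₀x]
  have hw₁b : hermForm n F q w₁ b ≠ 0 := by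
    rw [hw₁def, hf_smul_left]
    exact mul_ne_zero (inv_ne_zero hw₀x) hw₀b
  obtain ⟨w₂, hw₂def⟩ : ∃ w₂ : Fin n → F, w₂ = ((hermForm n F q b wb) ^ q)⁻¹ • wb := ⟨_, rfl⟩
  have hw₂ : w₂ ∈ W := by rw [hw₂def]; exact W.smul_mem _ hwb
  have hbw₂ : hermForm n F q b w₂ = 1 := by
    rw [hw₂def, hf_smul_right, inv_pow, cj_cj hF, inv_mul_cancel₀ hbwb]
  have hp : HypPair q w₁ x := ⟨hW w₁ hw₁ w₁ hw₁, hxx, hw₁x⟩
  have hw₁0 : w₁ ≠ 0 := hp.ne_zero_left
  -- the map on `W`
  have hψW : ∀ w ∈ W, w + (hermForm n F q w b - hermForm n F q w x) • w₁ ∈ W :=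
    fun w hw => W.add_mem hw (W.smul_mem _ hw₁)
  have hψx : ∀ w : Fin n → F,
      hermForm n F q (w + (hermForm n F q w b - hermForm n F q w x) • w₁) x =
        hermForm n F q w b := by
    intro w
    rw [hf_add_left, hf_smul_left, hw₁x]
    ring
  have hf1 : ∀ w ∈ W, ∀ α : F,
      ((LinearMap.id : (Fin n → F) →ₗ[F] (Fin n → F)) +
        (hermB hF n b - hermB hF n x).smulRight w₁ +
        (hermB hF n w₂).smulRight (x - b + hermForm n F q b x • w₁)) (w + α • b) =
      (w + (hermForm n F q w b - hermForm n F q w x) • w₁) + α • x := by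
    intro w hw α
    simp only [LinearMap.add_apply, LinearMap.id_apply, LinearMap.smulRight_apply,
      LinearMap.sub_apply, hermB_apply]
    rw [hf_add_left, hf_add_left, hf_add_left, hf_smul_left, hf_smul_left, hf_smul_left, hbb,
      hbw₂, hW w hw w₂ hw₂]
    module
  have hmem : ∀ v ∈ W ⊔ Submodule.span F {b}, ∃ w ∈ W, ∃ α : F, v = w + α • b := by
    intro v hv
    obtain ⟨w, hw, y, hy, rfl⟩ := Submodule.mem_sup.mp hv
    obtain ⟨α, rfl⟩ := Submodule.mem_span_singleton.mp hy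
    exact ⟨w, hw, α, rfl⟩
  obtain ⟨g₀, hg₀, hg₀X⟩ := witt_gu_submodule hF (W ⊔ Submodule.span F {b})
    ((LinearMap.id : (Fin n → F) →ₗ[F] (Fin n → F)) +
        (hermB hF n b - hermB hF n x).smulRight w₁ +
        (hermB hF n w₂).smulRight (x - b + hermForm n F q b x • w₁))
    (by
      intro v hv v' hv'
      obtain ⟨w, hw, α, rfl⟩ := hmem v hv
      obtain ⟨w', hw', α', rfl⟩ := hmem v' hv'
      rw [hf1 w hw, hf1 w' hw']
      have e1 := hψx w
      have e2 : hermForm n F q x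
          (w' + (hermForm n F q w' b - hermForm n F q w' x) • w₁) = hermForm n F q b w' := by
        rw [hf_swap hF _ x, hψx w', ← hf_swap hF]
      have e3 := hW _ (hψW w hw) _ (hψW w' hw')
      obtain ⟨P, hP⟩ : ∃ P : Fin n → F,
        P = w + (hermForm n F q w b - hermForm n F q w x) • w₁ := ⟨_, rfl⟩
      obtain ⟨P', hP'⟩ : ∃ P' : Fin n → F,
        P' = w' + (hermForm n F q w' b - hermForm n F q w' x) • w₁ := ⟨_, rfl⟩
      rw [← hP] at e1 e3 ⊢
      rw [← hP'] at e2 e3 ⊢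
      rw [hf_comb hF P P' x x, hf_comb hF w w' b b, e1, e2, e3, hxx, hW w hw w' hw', hbb])
    (by
      intro v hv hv0
      obtain ⟨w, hw, α, rfl⟩ := hmem v hv
      rw [hf1 w hw] at hv0
      have hα : α = 0 := by
        by_contra hα
        apply hx
        have h1 : α • x = -(w + (hermForm n F q w b - hermForm n F q w x) • w₁) :=
          eq_neg_of_add_eq_zero_right hv0
        have h2 : α • x ∈ uperp q W := by
          rw [h1]
          exact (uperp q W).neg_mem (hWU (hψW w hw))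
        have := (uperp q W).smul_mem α⁻¹ h2
        rwa [smul_smul, inv_mul_cancel₀ hα, one_smul] at this
      rw [hα, zero_smul, add_zero] at hv0
      have h3 : hermForm n F q w b = 0 := by
        rw [← hψx w, hv0, hf_zero_left]
      rw [h3, zero_sub] at hv0
      have h4 : hermForm n F q (w + -hermForm n F q w x • w₁) b = 0 := by
        rw [hv0, hf_zero_left]
      rw [hf_add_left, hf_smul_left, h3, zero_add] at h4
      have h5 : hermForm n F q w x = 0 := by
        rcases mul_eq_zero.mp h4 with h | h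
        · exact neg_eq_zero.mp h
        · exact absurd h hw₁b
      rw [h5, neg_zero, zero_smul, add_zero] at hv0
      rw [hv0, hα, zero_smul, add_zero])
  have hg₀W : ∀ w ∈ W, gact g₀ w ∈ W := by
    intro w hw
    rw [hg₀X w (Submodule.mem_sup_left hw)]
    have := hf1 w hw 0
    rw [zero_smul, zero_smul, add_zero, add_zero] at this
    rw [this]
    exact hψW w hw
  have hg₀b : gact g₀ b = x := by
    rw [hg₀X b (Submodule.mem_sup_right (Submodule.mem_span_singleton_self b))]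
    have := hf1 0 W.zero_mem 1
    simpa [hf_zero_left] using this
  obtain ⟨δ, hδ⟩ : ∃ δ : F, δ = (g₀ : Matrix (Fin n) (Fin n) F).det := ⟨_, rfl⟩
  have hδN : δ * δ ^ q = 1 := by rw [hδ]; exact GU_det hF hg₀
  have hδ0 : δ ≠ 0 := by
    rintro rfl
    rw [zero_mul] at hδN
    exact zero_ne_one hδN
  obtain ⟨d, α, β, hβ0, hd, hddet, hdact⟩ := exists_torus hF hp δ hδN
  refine ⟨d * g₀, ⟨?_, ?_⟩, β, hβ0, ?_⟩
  · apply mem_stabW_of_maps
    intro w hw
    rw [gact_mul, hdact, hW _ (hg₀W w hw) w₁ hw₁, mul_zero, zero_smul, add_zero]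
    exact W.add_mem (hg₀W w hw) (W.smul_mem _ hw₁)
  · change d * g₀ ∈ GU n F q ⊓ Cfsg.Geo.specialLinear (Fin n) F
    rw [mem_SUg_iff]
    refine ⟨mul_mem hd hg₀, ?_⟩
    rw [Units.val_mul, Matrix.det_mul, hddet, ← hδ, inv_mul_cancel₀ hδ0]
  · rw [gact_mul, hg₀b, hdact, hxx, mul_zero, zero_smul, add_zero, hp.fe hF, mul_one]
    module

theorem core (hF : Fintype.card F = q ^ 2) (hn : 13 ≤ n) {W : Submodule F (Fin n → F)}
    (hW0 : W ≠ ⊥) (hW : ∀ u ∈ W, ∀ v ∈ W, hermForm n F q u v = 0) :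
    Cfsg.Geo.IsMaximalIn (GU n F q ⊓ Cfsg.Geo.specialLinear (Fin n) F)
      (Cfsg.Geo.subspaceStabilizer W ⊓ (GU n F q ⊓ Cfsg.Geo.specialLinear (Fin n) F)) := by
  have hWU : W ≤ uperp q W := fun u hu w hw => hW u hu w hw
  have hex : ¬ (n = 3 ∧ q = 2) := by omega
  constructor
  · rw [SetLike.lt_iff_le_and_exists]
    refine ⟨inf_le_right, ?_⟩
    obtain ⟨w, hw, hw0⟩ := Submodule.exists_mem_ne_zero_of_ne_bot hW0
    obtain ⟨x, hp⟩ := exists_hyp hF w hw0 (hW w hw w hw)
    obtain ⟨θ, hθ0, hθ⟩ := exists_theta hF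
    refine ⟨tv q x θ, tv_mem_SUg hF _ hθ, ?_⟩
    intro hmem
    have h1 := stabW_maps hmem.1 hw
    rw [tv_gact hp.ff, hp.ef, mul_one] at h1
    have h2 : θ • x ∈ W := by
      have := W.sub_mem h1 hw
      rwa [add_sub_cancel_left] at this
    have h3 : x ∈ W := by
      have := W.smul_mem θ⁻¹ h2
      rwa [smul_smul, inv_mul_cancel₀ hθ0, one_smul] at this
    have := hW w hw x h3
    rw [hp.ef] at this
    exact one_ne_zero this
  · intro M hPM hMG
    by_cases hM : M ≤ Cfsg.Geo.subspaceStabilizer W ⊓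
        (GU n F q ⊓ Cfsg.Geo.specialLinear (Fin n) F)
    · left
      exact le_antisymm hM hPM
    right
    have hMU : M ≤ GU n F q := fun x hx => (hMG hx).1
    have hA_U : ∀ x ∈ uperp q W, hermForm n F q x x = 0 → x ∈ ASet q M := by
      intro x hx hxx
      refine ⟨hxx, fun c hc => hPM ⟨?_, tv_mem_SUg hF x hc⟩⟩
      apply mem_stabW_of_maps
      intro y hy
      rw [tv_gact hxx, (mem_uperp' hF).mp hx y hy, mul_zero, zero_smul, add_zero]
      exact hy
    have key : ∃ b ∈ ASet q M, b ∉ uperp q W := by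
      by_contra hno
      have hAU : ∀ b ∈ ASet q M, b ∈ uperp q W := by
        intro b hb
        by_contra h
        exact hno ⟨b, hb, h⟩
      apply hM
      intro g hg
      refine ⟨?_, hMG hg⟩
      apply mem_stabW_of_maps
      intro w hw
      have hwA : w ∈ ASet q M := hA_U w (hWU hw) (hW w hw w hw)
      have hgwA := ASet_gact hF hMU hg hwA
      rw [← uperp_uperp hF W, mem_uperp]
      intro u hu
      by_contra hne
      obtain ⟨α, β, hyy, hgy⟩ := exists_partner hF (gact g w) u hgwA.1 hne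
      have hyU : α • gact g w + β • u ∈ uperp q W :=
        (uperp q W).add_mem ((uperp q W).smul_mem _ (hAU _ hgwA)) ((uperp q W).smul_mem _ hu)
      have hyA := hA_U _ hyU hyy
      have h1 := hAU _ (ASet_gact hF hMU (inv_mem hg) hyA)
      rw [GU_adjoint (hMU hg), (mem_uperp' hF).mp h1 w hw] at hgy
      exact zero_ne_one hgy
    obtain ⟨b, hbA, hbU⟩ := key
    apply ASet_top hF hex hMG
    intro x hxx
    by_cases hxU : x ∈ uperp q W
    · exact hA_U x hxU hxx
    obtain ⟨g, hg, β, hβ0, hgb⟩ := trans_outside hF hW hbA.1 hxx hbU hxU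
    have h1 := ASet_smul hF (ASet_gact hF hMU (hPM hg) hbA) β⁻¹
    rwa [hgb, smul_smul, inv_mul_cancel₀ hβ0, one_smul] at h1

/-- Let F be the field with q² elements and n ≥ 13, and let SU_n(q) be the group of matrices of determinant one preserving the standard unitary form Σ u_i v_i^q on F^n (the intersection of the unitary group GU_n with the kernel of the determinant). The elements of SU_n(q) stabilising a non-zero subspace on which the form vanishes identically form a maximal subgroup of SU_n(q). -/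
theorem result {F : Type*} [Field F] [Fintype F] (n q : ℕ) (hF : Fintype.card F = q ^ 2) (hn : 13 ≤ n) (W : Submodule F (Fin n → F)) (hW0 : W ≠ ⊥) (hW : Cfsg.Geo.IsTotallySingularFor (Cfsg.hermForm n F q) W) : Cfsg.Geo.IsMaximalIn (Cfsg.GU n F q ⊓ Cfsg.Geo.specialLinear (Fin n) F) (Cfsg.Geo.subspaceStabilizer W ⊓ (Cfsg.GU n F q ⊓ Cfsg.Geo.specialLinear (Fin n) F)) := by
  exact core hF hn hW0 hW

end Cfsg.Agent.S5653
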