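import Cfsg.Statements.S4996
import Cfsg.Agent.Lib.Helper4.CosetVanish
import Cfsg.Agent.Lib.Helper4.Monomial
import Cfsg.Agent.Lib.Helper26.IndChar
import Cfsg.Agent.Lib.Helper26.CharInt

set_option autoImplicit false
open Cfsg

namespace Cfsg.Agent.S4996

/-- Let N be a normal subgroup of the finite group G and χ an irreducible complex character of G. Then the restriction of χ to N is not irreducible if and only if χ vanishes on some whole coset Nx of N in G. -/
theorem result {G : Type*} [Group G] [Finite G] (N : Subgroup G) [N.Normal] (χ : Cfsg.IrrCharacter G) : ¬ Cfsg.IsIrrCharacter ↥N (fun n : ↥N => (χ : G → ℂ) n) ↔ ∃ x : G, ∀ n : ↥N, (χ : G → ℂ) ((n : G) * x) = 0 := by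
  classical
  have : Fintype G := Fintype.ofFinite G
  have : Fintype N := Fintype.ofFinite N
  obtain ⟨d, ρ, hρ, hχ⟩ := χ.2
  rw [← hχ]
  have hNne : (Nat.card N : ℝ) ≠ 0 := Nat.cast_ne_zero.mpr Nat.card_pos.ne'
  let ψ := Cfsg.Agent.Lib.Helper4.commRep ρ N
  let r : G → ℝ := fun g => (Nat.card N : ℝ)⁻¹ * ∑ n : N, Complex.normSq (ρ.character ((n : G) * g))
  have hr0 : ∀ g, 0 ≤ r g := by
    intro g
    apply mul_nonneg (inv_nonneg.mpr (Nat.cast_nonneg _))
    exact Finset.sum_nonneg fun n _ => Complex.normSq_nonneg _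
  have hr : ∀ g, ψ.character g = (r g : ℂ) := by
    intro g
    rw [Cfsg.Agent.Lib.Helper4.commRep_character]
    simp only [r]
    push_cast
    congr 1
    refine Finset.sum_congr rfl fun n _ => ?_
    rw [Cfsg.Agent.Lib.Helper4.character_inv, mul_comm, Complex.mul_conj]
  have hnormsum : ∑ g : G, Complex.normSq (ρ.character g) = (Nat.card G : ℝ) := by
    have h1 := Cfsg.Agent.Lib.Helper4.sum_char_mul_char_inv ρ hρ
    have h2 : ∑ g : G, ρ.character g * ρ.character g⁻¹ =
        ((∑ g : G, Complex.normSq (ρ.character g) : ℝ) : ℂ) := by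
      rw [Complex.ofReal_sum]
      refine Finset.sum_congr rfl fun g _ => ?_
      rw [Cfsg.Agent.Lib.Helper4.character_inv, Complex.mul_conj]
    rw [h2] at h1
    exact_mod_cast h1
  have hsum : ∑ g, r g = (Nat.card G : ℝ) := by
    simp only [r]
    rw [← Finset.mul_sum, Finset.sum_comm]
    have h1 : ∀ n : N, ∑ g : G, Complex.normSq (ρ.character ((n : G) * g)) = (Nat.card G : ℝ) := by
      intro n
      have := Equiv.sum_comp (Equiv.mulLeft (n : G)) (fun g => Complex.normSq (ρ.character g))
      simp only [Equiv.coe_mulLeft] at this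
      rw [this, hnormsum]
    simp only [h1]
    rw [Finset.sum_const, Finset.card_univ, nsmul_eq_mul, ← Nat.card_eq_fintype_card]
    field_simp
  have hr1 : ((r 1 : ℝ) : ℂ) = Cfsg.classInner (fun n : N => ρ.character n)
      (fun n : N => ρ.character n) := by
    simp only [r, Cfsg.classInner]
    push_cast
    congr 1
    refine Finset.sum_congr rfl fun n _ => ?_
    rw [mul_one, Complex.mul_conj]
  have hzero : ∀ x, r x = 0 ↔ ∀ n : N, ρ.character ((n : G) * x) = 0 := by
    intro x
    simp only [r]
    constructor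
    · intro h
      have h1 : ∑ n : N, Complex.normSq (ρ.character ((n : G) * x)) = 0 :=
        (mul_eq_zero.mp h).resolve_left (inv_ne_zero hNne)
      have h2 := (Finset.sum_eq_zero_iff_of_nonneg (s := Finset.univ)
        (f := fun n : N => Complex.normSq (ρ.character ((n : G) * x)))
        (fun n _ => Complex.normSq_nonneg (ρ.character ((n : G) * x)))).mp h1
      intro n
      exact Complex.normSq_eq_zero.mp (h2 n (Finset.mem_univ n))
    · intro h
      simp [h]
  constructor
  · intro hnot
    by_contra hcon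
    push Not at hcon
    have hnz : ∀ g, r g ≠ 0 := by
      intro g h
      obtain ⟨n, hn⟩ := hcon g
      exact hn ((hzero g).mp h n)
    have h1 := Cfsg.Agent.Lib.Helper4.finrank_eq_one_of_nonneg_nonvanishing
      (W := Cfsg.Agent.Lib.Helper4.commutantN ρ N) ψ r hr0 hr hsum hnz
    apply hnot
    have hres : Cfsg.IsCharacter N (ρ.character ∘ N.subtype) :=
      Cfsg.Agent.Lib.Helper26.isCharacter_restrict N ⟨d, ρ, rfl⟩
    have hgen := Cfsg.Agent.Lib.Helper26.isGeneralizedCharacter_of_isCharacter hres
    apply Cfsg.Agent.Lib.Helper26.isIrrCharacter_of_norm_one hgen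
    · show Cfsg.classInner (fun n : N => ρ.character n) (fun n : N => ρ.character n) = 1
      rw [← hr1, ← hr 1, Representation.char_one, h1]
      simp
    · show 0 < (ρ.character ((1 : N) : G)).re
      rw [Subgroup.coe_one, Representation.char_one]
      have := Cfsg.Agent.Lib.Helper4.nontrivial_of_irreducible ρ hρ
      have h2 : 0 < Module.finrank ℂ (Fin d → ℂ) := Module.finrank_pos
      simp only [Complex.natCast_re]
      exact_mod_cast h2
  · rintro ⟨x, hx⟩ hirr
    have hnorm : Cfsg.classInner (fun n : N => ρ.character n) (fun n : N => ρ.character n) = 1 := by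
      rw [Cfsg.Agent.Lib.Helper26.classInner_irr hirr hirr, if_pos rfl]
    have hd1 : Module.finrank ℂ (Cfsg.Agent.Lib.Helper4.commutantN ρ N) = 1 := by
      have h1 := hr 1
      rw [Representation.char_one, hr1, hnorm] at h1
      exact_mod_cast h1
    have hx0 : r x = 0 := (hzero x).mpr hx
    have h0 : Representation.character (V := Cfsg.Agent.Lib.Helper4.commutantN ρ N) ψ x = (0 : ℂ) := by
      rw [hr, hx0]
      simp
    have h2 := (Cfsg.Agent.Lib.Helper4.norm_character_eq_finrank_iff
      (V := Cfsg.Agent.Lib.Helper4.commutantN ρ N) ψ x).mpr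
      ⟨_, Cfsg.Agent.Lib.Helper4.end_eq_trace_smul_of_finrank_eq_one
        (V := Cfsg.Agent.Lib.Helper4.commutantN ρ N) hd1 (ψ x)⟩
    rw [h0, hd1] at h2
    simp at h2

end Cfsg.Agent.S4996
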