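import Cfsg.Statements.S0235
import Cfsg.Agent.Lib.Helper28.Invol

set_option autoImplicit false
open Cfsg
open Cfsg.Agent.Lib.Helper28

namespace Cfsg.Agent.S0235

/-- for any pair of involutions `(u, v)`, `u` inverts `u * v`. -/
theorem inverts_of_pair {G : Type*} [Group G] {u v : G} (hu : orderOf u = 2) (hv : orderOf v = 2) :
    u * (u * v) * u⁻¹ = (u * v)⁻¹ := by
  have hu2 := (orderOf_two_iff'.mp hu).2
  have hv2 := (orderOf_two_iff'.mp hv).2
  have hui := inv_eq_self_of_mul_self hu2
  have hvi := inv_eq_self_of_mul_self hv2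
  rw [mul_inv_rev, hui, hvi, ← mul_assoc u u v, hu2, one_mul]

/-- If x² ≠ 1, the ordered pairs (u, v) of involutions with uv = x correspond bijectively to the involutions t with t x t⁻¹ = x⁻¹ (via (u, v) ↦ u), so the two counts agree. -/
theorem result {G : Type*} [Group G] [Finite G] (x : G) (hx : x ^ 2 ≠ 1) : Nat.card {p : G × G // orderOf p.1 = 2 ∧ orderOf p.2 = 2 ∧ p.1 * p.2 = x} = Nat.card {t : G // orderOf t = 2 ∧ t * x * t⁻¹ = x⁻¹} := by
  apply Nat.card_congr
  refine
    { toFun := fun p => ⟨p.1.1, p.2.1, ?_⟩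
      invFun := fun t => ⟨(t.1, t.1 * x), t.2.1, ?_, ?_⟩
      left_inv := ?_
      right_inv := ?_ }
  · obtain ⟨⟨u, v⟩, hu, hv, rfl⟩ := p
    exact inverts_of_pair hu hv
  · obtain ⟨t, ht, htx⟩ := t
    have ht2 := (orderOf_two_iff'.mp ht).2
    have hti := inv_eq_self_of_mul_self ht2
    rw [hti] at htx
    show orderOf (t * x) = 2
    rw [orderOf_two_iff']
    constructor
    · intro h1
      apply hx
      have : x = t := by
        calc x = (t * t) * x := by rw [ht2, one_mul]
          _ = t * (t * x) := by group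
          _ = t := by rw [h1, mul_one]
      rw [this, pow_two, ht2]
    · calc t * x * (t * x) = (t * x * t) * x := by group
        _ = 1 := by rw [htx]; simp
  · obtain ⟨t, ht, htx⟩ := t
    have ht2 := (orderOf_two_iff'.mp ht).2
    show t * (t * x) = x
    rw [← mul_assoc, ht2, one_mul]
  · rintro ⟨⟨u, v⟩, hu, hv, rfl⟩
    have hu2 := (orderOf_two_iff'.mp hu).2
    apply Subtype.ext
    show (u, u * (u * v)) = (u, v)
    rw [← mul_assoc, hu2, one_mul]
  · rintro ⟨t, ht, htx⟩
    rfl

end Cfsg.Agent.S0235
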