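import Cfsg.Statements.S0236
import Cfsg.Agent.Lib.Helper28.Invol

set_option autoImplicit false
open Cfsg
open Cfsg.Agent.Lib.Helper28

namespace Cfsg.Agent.S0236

/-- If x is an involution, the number of ordered pairs (u, v) of involutions with uv = x, plus one, equals the number of involutions in the centralizer of x. -/
theorem result {G : Type*} [Group G] [Finite G] (x : G) (hx : orderOf x = 2) : Nat.card {p : G × G // orderOf p.1 = 2 ∧ orderOf p.2 = 2 ∧ p.1 * p.2 = x} + 1 = Nat.card {t : G // orderOf t = 2 ∧ Commute t x} := by
  classical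
  have hx2 := (orderOf_two_iff'.mp hx).2
  have hx1 := (orderOf_two_iff'.mp hx).1
  rw [← Finite.card_option]
  apply Nat.card_congr
  refine
    { toFun := fun o => match o with
        | none => ⟨x, hx, Commute.refl x⟩
        | some p => ⟨p.1.1, p.2.1, ?_⟩
      invFun := fun t => if h : t.1 = x then none else some ⟨(t.1, t.1 * x), t.2.1, ?_, ?_⟩
      left_inv := ?_
      right_inv := ?_ }
  · obtain ⟨⟨u, v⟩, hu, hv, rfl⟩ := p
    have hu2 := (orderOf_two_iff'.mp hu).2
    have hv2 := (orderOf_two_iff'.mp hv).2
    -- u v u v = 1 so u v = v u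
    have hvu : v * u = u * v := by
      calc v * u = (u * u) * (v * u) * (v * v) := by rw [hu2, hv2]; group
        _ = u * ((u * v) * (u * v)) * v := by group
        _ = u * v := by rw [hx2]; group
    show u * (u * v) = (u * v) * u
    rw [mul_assoc u v u, hvu]
  · obtain ⟨t, ht, htx⟩ := t
    have ht2 := (orderOf_two_iff'.mp ht).2
    show orderOf (t * x) = 2
    rw [orderOf_two_iff']
    constructor
    · intro h1
      apply h
      show t = x
      calc t = t * (x * x) := by rw [hx2, mul_one]
        _ = (t * x) * x := by group
        _ = x := by rw [h1, one_mul]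
    · have hc : x * t = t * x := htx.eq.symm
      calc t * x * (t * x) = t * (x * t) * x := by group
        _ = t * (t * x) * x := by rw [hc]
        _ = (t * t) * (x * x) := by group
        _ = 1 := by rw [ht2, hx2, one_mul]
  · obtain ⟨t, ht, htx⟩ := t
    have ht2 := (orderOf_two_iff'.mp ht).2
    show t * (t * x) = x
    rw [← mul_assoc, ht2, one_mul]
  · rintro (_ | ⟨⟨u, v⟩, hu, hv, rfl⟩)
    · simp
    · have hu2 := (orderOf_two_iff'.mp hu).2
      have hv1 := (orderOf_two_iff'.mp hv).1
      have hne : u ≠ u * v := by
        intro h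
        apply hv1
        calc v = (u * u) * v := by rw [hu2, one_mul]
          _ = u * (u * v) := by group
          _ = u * u := by rw [← h]
          _ = 1 := hu2
      simp only [hne, dite_false, Option.some.injEq]
      apply Subtype.ext
      show (u, u * (u * v)) = (u, v)
      rw [← mul_assoc, hu2, one_mul]
  · rintro ⟨t, ht, htx⟩
    by_cases h : t = x
    · subst h
      simp
    · simp [h]

end Cfsg.Agent.S0236
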