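import Cfsg.Statements.S0238
import Cfsg.Agent.Lib.Helper28.Invol
import Cfsg.Agent.S0235
import Cfsg.Agent.S0236

set_option autoImplicit false
open Cfsg
open Cfsg.Agent.Lib.Helper28

namespace Cfsg.Agent.S0238

/-- For every x in a finite group G, the number c of ordered pairs (u, v) of involutions with uv = x is at most |C_G(x)|; c = 0 when x is not conjugate to x⁻¹; and c + 2 ≤ |C_G(x)| when x is an involution. -/
theorem result {G : Type*} [Group G] [Finite G] (x : G) : Nat.card {p : G × G // orderOf p.1 = 2 ∧ orderOf p.2 = 2 ∧ p.1 * p.2 = x} ≤ Nat.card (Subgroup.centralizer ({x} : Set G)) ∧ (¬ IsConj x x⁻¹ → Nat.card {p : G × G // orderOf p.1 = 2 ∧ orderOf p.2 = 2 ∧ p.1 * p.2 = x} = 0) ∧ (orderOf x = 2 → Nat.card {p : G × G // orderOf p.1 = 2 ∧ orderOf p.2 = 2 ∧ p.1 * p.2 = x} + 2 ≤ Nat.card (Subgroup.centralizer ({x} : Set G))) := by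
  classical
  have hinv : ∀ p : {p : G × G // orderOf p.1 = 2 ∧ orderOf p.2 = 2 ∧ p.1 * p.2 = x},
      p.1.1 * x * p.1.1⁻¹ = x⁻¹ := by
    rintro ⟨⟨u, v⟩, hu, hv, rfl⟩
    exact Cfsg.Agent.S0235.inverts_of_pair hu hv
  refine ⟨?_, ?_, ?_⟩
  · by_cases hne : Nonempty {p : G × G // orderOf p.1 = 2 ∧ orderOf p.2 = 2 ∧ p.1 * p.2 = x}
    · obtain ⟨p₀⟩ := hne
      have h0 := hinv p₀
      apply Nat.card_le_card_of_injective
        (fun p : {p : G × G // orderOf p.1 = 2 ∧ orderOf p.2 = 2 ∧ p.1 * p.2 = x} =>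
          (⟨p₀.1.1⁻¹ * p.1.1, by
            rw [Subgroup.mem_centralizer_singleton_iff]
            have h1 := hinv p
            have h2 : p.1.1 * x * p.1.1⁻¹ = p₀.1.1 * x * p₀.1.1⁻¹ := h1.trans h0.symm
            calc p₀.1.1⁻¹ * p.1.1 * x = p₀.1.1⁻¹ * (p.1.1 * x * p.1.1⁻¹) * p.1.1 := by group
              _ = p₀.1.1⁻¹ * (p₀.1.1 * x * p₀.1.1⁻¹) * p.1.1 := by rw [h2]
              _ = x * (p₀.1.1⁻¹ * p.1.1) := by group⟩ :
            Subgroup.centralizer ({x} : Set G)))
      rintro ⟨⟨u, v⟩, hu, hv, huv⟩ ⟨⟨u', v'⟩, hu', hv', huv'⟩ h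
      have h1 : p₀.1.1⁻¹ * u = p₀.1.1⁻¹ * u' := congrArg Subtype.val h
      have hu_eq : u = u' := mul_left_cancel h1
      subst hu_eq
      have hv_eq : v = v' := by
        apply mul_left_cancel (a := u)
        rw [huv, huv']
      subst hv_eq
      rfl
    · rw [not_nonempty_iff] at hne
      rw [Nat.card_of_isEmpty]
      exact Nat.zero_le _
  · intro hnr
    have : IsEmpty {p : G × G // orderOf p.1 = 2 ∧ orderOf p.2 = 2 ∧ p.1 * p.2 = x} := by
      constructor
      intro p
      exact hnr (isConj_iff.mpr ⟨p.1.1, hinv p⟩)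
    exact Nat.card_of_isEmpty
  · intro hx
    have h := Cfsg.Agent.S0236.result x hx
    have : Nat.card {t : G // orderOf t = 2 ∧ Commute t x} + 1 ≤
        Nat.card (Subgroup.centralizer ({x} : Set G)) := by
      rw [← Finite.card_option]
      apply Nat.card_le_card_of_injective
        (fun o : Option {t : G // orderOf t = 2 ∧ Commute t x} =>
          match o with
          | none => (1 : Subgroup.centralizer ({x} : Set G))
          | some t => ⟨t.1, by
              rw [Subgroup.mem_centralizer_singleton_iff]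
              exact t.2.2.eq⟩)
      rintro (_ | ⟨t, ht, htx⟩) (_ | ⟨t', ht', htx'⟩) h
      · rfl
      · exfalso
        have h1 : (1 : G) = t' := congrArg Subtype.val h
        exact (orderOf_two_iff'.mp ht').1 h1.symm
      · exfalso
        have h1 : t = (1 : G) := congrArg Subtype.val h
        exact (orderOf_two_iff'.mp ht).1 h1
      · have h1 : t = t' := congrArg Subtype.val h
        subst h1
        rfl
    omega

end Cfsg.Agent.S0238
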