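import Cfsg.Statements.S4718
import Cfsg.Agent.S4494
import Cfsg.Agent.Lib.Helper28.LandauB
import Cfsg.Agent.Lib.Helper28.BlockDefectE
import Cfsg.Agent.Lib.Helper4.CharOrtho

set_option autoImplicit false
universe u
open Cfsg

namespace Cfsg.Agent.S4718

/-- Let p be a prime and a a natural number. There is a bound N such that every finite group whose Sylow p-subgroups have order p^a and whose only p-block (relative to a maximal ideal of the algebraic integers containing p) is the principal block has order at most N. -/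
theorem result (p : ℕ) [Fact p.Prime] (a : ℕ) : ∃ N : ℕ, ∀ (G : Type u) [Group G] [Finite G] (M : Ideal Cfsg.AlgInt), Cfsg.IsPModular p M → (Nat.card G).factorization p = a → (∀ B : Set (Cfsg.IrrCharacter G), Cfsg.IsPBlock M B → B = Cfsg.principalBlock M G) → Nat.card G ≤ N := by
  obtain ⟨N, hN⟩ := Cfsg.Agent.Lib.Helper28.landau_bound.{u} (p ^ (2 * a) + 4)
  refine ⟨N, ?_⟩
  intro G _ _ M hM ha hall
  apply hN G
  classical
  have : Fintype G := Fintype.ofFinite G
  have hMtop : M ≠ ⊤ := hM.2.1.ne_top
  have hprinc : Cfsg.principalBlock M G = Set.univ := by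
    apply Set.eq_univ_of_forall
    intro χ
    have h1 : Cfsg.blockOf M (χ : G → ℂ) = Cfsg.principalBlock M G := hall _ ⟨χ, rfl⟩
    rw [← h1]
    exact Cfsg.Agent.Lib.Helper28.sameBlock_refl hMtop _
  have hBF := Cfsg.Agent.S4494.result p M hM (Cfsg.principalBlock M G)
    Cfsg.Agent.Lib.Helper28.isPBlock_principalBlock
  rw [Cfsg.Agent.Lib.Helper28.blockDefect_principalBlock hM, ha] at hBF
  have hcard : Nat.card (Cfsg.principalBlock M G) = Nat.card (ConjClasses G) := by
    rw [hprinc, ← Cfsg.Agent.Lib.Helper4.card_irr_eq_card_conjClasses]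
    exact Nat.card_congr (Equiv.Set.univ _)
  rw [hcard] at hBF
  omega

end Cfsg.Agent.S4718
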