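import Cfsg.Statements.S4511
import Cfsg.Agent.Lib.Helper28.SectionF

set_option autoImplicit false
open Cfsg

namespace Cfsg.Agent.S4511

open scoped Classical in
theorem finsum_mem_subtype_conv {α : Type*} (P : α → Prop) [Fintype {a // P a}] (I : Set α)
    (hI : ∀ a ∈ I, P a) (l : α → ℕ) :
    ∑ᶠ a ∈ I, l a = ∑ b : {a // P a}, if b.1 ∈ I then l b.1 else 0 := by
  have h1 : I = Subtype.val '' {b : {a // P a} | b.1 ∈ I} := by
    ext a
    constructor
    · intro ha
      exact ⟨⟨a, hI a ha⟩, ha, rfl⟩
    · rintro ⟨b, hb, rfl⟩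
      exact hb
  conv_lhs => rw [h1]
  rw [finsum_mem_image (fun a _ b _ h => Subtype.ext h), finsum_mem_def,
    finsum_eq_sum_of_fintype]
  refine Finset.sum_congr rfl fun b _ => ?_
  rw [Set.indicator_apply]
  rfl

/-- Brauer's count of the irreducible characters in a block by subsections. Let M be a maximal ideal of the algebraic integers containing the prime p, B a p-block of the finite group G, and X a set of representatives of the conjugacy classes of p-elements of G (elements of p-power order, the identity included: every p-element is conjugate to exactly one member of X). Then the number of irreducible characters in B is the sum, over x ∈ X and over the blocks b of C_G(x) that induce B, of the p-regular rank of b (the number of irreducible Brauer characters of b, here the dimension of the span of the restrictions of the members of b to the p-regular elements of C_G(x)). -/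
theorem result {G : Type*} [Group G] [Finite G] (p : ℕ) (M : Ideal Cfsg.AlgInt) (hM : Cfsg.IsPModular p M)
    (B : Set (Cfsg.IrrCharacter G)) (hB : Cfsg.IsPBlock M B) (X : Finset G)
    (hX : ∀ x ∈ X, ∃ k : ℕ, orderOf x = p ^ k)
    (hXrep : ∀ g : G, (∃ k : ℕ, orderOf g = p ^ k) → ∃! x, x ∈ X ∧ IsConj g x) :
    Nat.card B = ∑ x ∈ X, ∑ᶠ b ∈ {b : Set (Cfsg.IrrCharacter ↥(Subgroup.centralizer ({x} : Set G))) | Cfsg.IsInducedBlock M (Subgroup.centralizer ({x} : Set G)) b B},
      Cfsg.blockRank p b := by
  classical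
  have hp : p.Prime := hM.1
  haveI : Fact p.Prime := ⟨hp⟩
  have hprime : M.IsPrime := hM.2.1.isPrime
  have : Fintype G := Fintype.ofFinite G
  have : Fintype (IrrCharacter G) := Fintype.ofFinite _
  haveI hFC : ∀ x : G, Fintype (Subgroup.centralizer ({x} : Set G)) := fun x => Fintype.ofFinite _
  haveI hFB : ∀ x : G, Fintype {b : Set (IrrCharacter (Subgroup.centralizer ({x} : Set G))) //
      IsPBlock M b} := fun x => Fintype.ofFinite _
  have hGne : (Nat.card G : ℂ) ≠ 0 := by exact_mod_cast Nat.card_pos.ne'
  apply Nat.cast_injective (R := ℂ)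
  obtain ⟨T, hTdef⟩ : ∃ T : G → ℂ, T = fun g => ∑ χ : IrrCharacter G,
      if χ ∈ B then (χ : G → ℂ) g * (starRingEnd ℂ) ((χ : G → ℂ) g) else 0 := ⟨_, rfl⟩
  have hT : IsClassFunction G T := by
    intro g k
    rw [hTdef]
    refine Finset.sum_congr rfl fun χ _ => ?_
    rw [Cfsg.Agent.Lib.Helper4.isClassFunction_of_isIrrCharacter χ.2 g k]
  -- the number of characters as an average
  have hcardB : (Nat.card B : ℂ) = (Nat.card G : ℂ)⁻¹ * ∑ g, T g := by
    have h1 : (Nat.card B : ℂ) = ∑ χ : IrrCharacter G, if χ ∈ B then (1 : ℂ) else 0 := by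
      rw [Nat.card_eq_fintype_card, Fintype.card_subtype, Finset.sum_boole]
    rw [h1, hTdef, Finset.sum_comm, Finset.mul_sum]
    refine Finset.sum_congr rfl fun χ _ => ?_
    by_cases hχ : χ ∈ B
    · simp only [if_pos hχ]
      have := Cfsg.Agent.Lib.Helper4.classInner_irr χ χ
      rw [if_pos rfl] at this
      rw [← this]
      rfl
    · simp only [if_neg hχ, Finset.sum_const_zero, mul_zero]
  -- splitting over the sections
  have hsplit : ∀ g : G, T g = ∑ x ∈ X,
      if IsConj (Cfsg.Agent.Lib.Helper28.pPartOf hp g) x then T g else 0 := by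
    intro g
    obtain ⟨x0, ⟨hx0X, hx0c⟩, huniq⟩ := hXrep (Cfsg.Agent.Lib.Helper28.pPartOf hp g)
      (Cfsg.Agent.Lib.Helper28.pPartOf_isPElement hp g)
    rw [Finset.sum_eq_single x0]
    · rw [if_pos hx0c]
    · intro x hxX hne
      rw [if_neg]
      intro hc
      exact hne (huniq x ⟨hxX, hc⟩)
    · intro h
      exact absurd hx0X h
  have hsec : ∀ x ∈ X, ∑ g : G,
      (if IsConj (Cfsg.Agent.Lib.Helper28.pPartOf hp g) x then T g else 0) =
      (Nat.card G : ℂ) * ∑ b : {b : Set (IrrCharacter (Subgroup.centralizer ({x} : Set G))) //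
        IsPBlock M b}, if IsInducedBlock M (Subgroup.centralizer ({x} : Set G)) b.1 B then
          (blockRank p b.1 : ℂ) else 0 := by
    intro x hxX
    have hCne : (Nat.card (Subgroup.centralizer ({x} : Set G)) : ℂ) ≠ 0 := by
      exact_mod_cast Nat.card_pos.ne'
    have h1 := Cfsg.Agent.Lib.Helper28.sum_section hp T hT x (hX x hxX)
    have h2 := Cfsg.Agent.Lib.Helper28.section_count hM x (hX x hxX) hB
    have h3 : ∑ s : Subgroup.centralizer ({x} : Set G),
        (if ¬ p ∣ orderOf s then T (x * (s : G)) else 0) =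
        (Nat.card (Subgroup.centralizer ({x} : Set G)) : ℂ) *
        ∑ b : {b : Set (IrrCharacter (Subgroup.centralizer ({x} : Set G))) // IsPBlock M b},
          if IsInducedBlock M (Subgroup.centralizer ({x} : Set G)) b.1 B then
            (blockRank p b.1 : ℂ) else 0 := by
      rw [← h2, hTdef]
    rw [h3] at h1
    apply mul_left_cancel₀ hCne
    rw [h1]
    ring
  rw [hcardB, Finset.sum_congr rfl fun g _ => hsplit g, Finset.sum_comm,
    Finset.sum_congr rfl hsec, ← Finset.mul_sum, ← mul_assoc, inv_mul_cancel₀ hGne, one_mul]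
  rw [Nat.cast_sum]
  refine Finset.sum_congr rfl fun x _ => ?_
  rw [finsum_mem_subtype_conv (fun b : Set (IrrCharacter (Subgroup.centralizer ({x} : Set G))) =>
    IsPBlock M b) _ (fun b hb => hb.1)]
  push_cast
  refine Finset.sum_congr rfl fun b _ => ?_
  rfl

end Cfsg.Agent.S4511
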