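import Mathlib
import Cfsg.Prelude
import Cfsg.Statements.S0948
import Cfsg.Agent.Lib.Helper7.KFB
import Cfsg.Agent.Lib.Helper7.KFC
import Cfsg.Agent.Lib.Helper28.BlockRankB
import Cfsg.Agent.Lib.Helper28.BlockDefectE
import Cfsg.Agent.Lib.Helper28.GreenVanD

set_option autoImplicit false
open Cfsg

namespace Cfsg.Agent.S0948

/-- Let the finite group G have a Sylow 2-subgroup P that is a Klein four-group, suppose all involutions of G are conjugate, and fix a maximal ideal M of the algebraic integers containing 2. Then the principal block consists of exactly four irreducible characters, the principal character and ζ₂, ζ₃, ζ₄, and there is a sign ε such that for every involution z: ζ₂ z = 1, ζ₃ z = ε, ζ₄ z = -1; moreover ζ₂ 1 ≡ 1, ζ₃ 1 ≡ ε, ζ₄ 1 ≡ -1 (mod 4), and 1 + ζ₂ y + ε ζ₃ y - ζ₄ y = 0 for every y of odd order. -/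
theorem result {G : Type*} [Group G] [Finite G] (M : Ideal Cfsg.AlgInt) (hM : Cfsg.IsPModular 2 M) (P : Sylow 2 G) (hP : IsKleinFour (P : Subgroup G)) (hone : ∀ s t : G, orderOf s = 2 → orderOf t = 2 → IsConj s t) : ∃ ζ₂ ζ₃ ζ₄ : Cfsg.IrrCharacter G, ∃ ε : ℤ, (ε = 1 ∨ ε = -1) ∧ (ζ₂ : G → ℂ) ≠ (fun _ => 1) ∧ (ζ₃ : G → ℂ) ≠ (fun _ => 1) ∧ ζ₂ ≠ ζ₃ ∧ ζ₂ ≠ ζ₄ ∧ ζ₃ ≠ ζ₄ ∧ Cfsg.principalBlock M G = {χ : Cfsg.IrrCharacter G | (χ : G → ℂ) = (fun _ => 1) ∨ χ = ζ₂ ∨ χ = ζ₃ ∨ χ = ζ₄} ∧ (∀ z : G, orderOf z = 2 → (ζ₂ : G → ℂ) z = 1 ∧ (ζ₃ : G → ℂ) z = (ε : ℂ) ∧ (ζ₄ : G → ℂ) z = -1) ∧ (4 : ℤ) ∣ (Cfsg.charDegree (ζ₂ : G → ℂ) : ℤ) - 1 ∧ (4 : ℤ) ∣ (Cfsg.charDegree (ζ₃ : G → ℂ) : ℤ) - ε ∧ (4 : ℤ) ∣ (Cfsg.charDegree (ζ₄ : G → ℂ) : ℤ) + 1 ∧ ∀ y : G, Odd (orderOf y) → 1 + (ζ₂ : G → ℂ) y + (ε : ℂ) * (ζ₃ : G → ℂ) y - (ζ₄ : G → ℂ) y = 0 := by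
  classical
  haveI : Fact (Nat.Prime 2) := ⟨Nat.prime_two⟩
  haveI : Fintype G := Fintype.ofFinite G
  haveI : Fintype (IrrCharacter G) := Fintype.ofFinite _
  haveI : IsKleinFour (P : Subgroup G) := hP
  -- an involution in P
  obtain ⟨z, hzP, hz⟩ : ∃ z : G, z ∈ (P : Subgroup G) ∧ orderOf z = 2 := by
    have hnt : Nontrivial (P : Subgroup G) := by
      rw [← Finite.one_lt_card_iff_nontrivial, IsKleinFour.card_four]; norm_num
    obtain ⟨x, hx⟩ := exists_ne (1 : (P : Subgroup G))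
    refine ⟨x, x.2, ?_⟩
    apply orderOf_eq_prime
    · rw [pow_two]; exact congrArg Subtype.val (IsKleinFour.mul_self x)
    · intro h; exact hx (Subtype.ext h)
  have hz1 : z ≠ 1 := by
    intro h; rw [h, orderOf_one] at hz; omega
  -- values at involutions
  have hcls : ∀ χ : IrrCharacter G, ∀ s : G, orderOf s = 2 →
      (χ : G → ℂ) s = (χ : G → ℂ) z := by
    intro χ s hs
    obtain ⟨g, hg⟩ := isConj_iff.mp (hone z s hz hs)
    rw [← hg]
    exact Cfsg.Agent.Lib.Helper4.isClassFunction_of_isIrrCharacter χ.2 z g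
  have hcls' : ∀ χ : IrrCharacter G, ∀ y : G, y ≠ 1 → y * y = 1 →
      (χ : G → ℂ) y = (χ : G → ℂ) z := by
    intro χ y hy1 hy2
    apply hcls
    exact orderOf_eq_prime (by rw [pow_two]; exact hy2) hy1
  -- integrality and congruences
  have hint : ∀ χ : IrrCharacter G, ∃ c k : ℤ, (χ : G → ℂ) z = c ∧
      ((charDegree (χ : G → ℂ) : ℤ) : ℂ) - c = 4 * k := by
    intro χ
    obtain ⟨-, hd, -⟩ := Cfsg.Agent.Lib.Helper28.irr_degree_nat χ.2
    have hχc := Cfsg.Agent.Lib.Helper26.isCharacter_of_isIrrCharacter χ.2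
    obtain ⟨n₁, hn₁⟩ := Cfsg.Agent.Lib.Helper7.KF.avg_nat (Subgroup.zpowers z) _ hχc
      ((χ : G → ℂ) z) (fun y hy hy1 => by
        apply hcls χ
        have h1 : orderOf y ∣ 2 := hz ▸ orderOf_dvd_of_mem_zpowers hy
        rcases (Nat.dvd_prime Nat.prime_two).mp h1 with h | h
        · exact absurd (orderOf_eq_one_iff.mp h) hy1
        · exact h)
    obtain ⟨n₂, hn₂⟩ := Cfsg.Agent.Lib.Helper7.KF.avg_nat (P : Subgroup G) _ hχc
      ((χ : G → ℂ) z) (fun y hy hy1 => by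
        apply hcls' χ y hy1
        exact congrArg Subtype.val (IsKleinFour.mul_self (⟨y, hy⟩ : (P : Subgroup G))))
    rw [Nat.card_zpowers, hz, hd] at hn₁
    rw [IsKleinFour.card_four, hd] at hn₂
    refine ⟨2 * n₁ - charDegree (χ : G → ℂ), n₂ - (2 * n₁ - charDegree (χ : G → ℂ)), ?_, ?_⟩
    · push_cast at hn₁ ⊢
      linear_combination hn₁
    · push_cast at hn₁ hn₂ ⊢
      linear_combination hn₂ - 3 * hn₁
  choose c k hc hk using hint
  obtain ⟨d, hd⟩ : ∃ d : IrrCharacter G → ℤ, ∀ χ, d χ = (charDegree (χ : G → ℂ) : ℤ) :=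
    ⟨_, fun _ => rfl⟩
  have hd1 : ∀ χ : IrrCharacter G, (χ : G → ℂ) 1 = ((d χ : ℤ) : ℂ) := by
    intro χ
    rw [hd, (Cfsg.Agent.Lib.Helper28.irr_degree_nat χ.2).2.1]
    push_cast; rfl
  have hdpos : ∀ χ : IrrCharacter G, 0 < d χ := by
    intro χ
    rw [hd]
    have := (Cfsg.Agent.Lib.Helper28.irr_degree_nat χ.2).1
    omega
  have hmod : ∀ χ : IrrCharacter G, (4 : ℤ) ∣ d χ - c χ := by
    intro χ
    refine ⟨k χ, ?_⟩
    have h1 : (((d χ - c χ : ℤ)) : ℂ) = ((4 * k χ : ℤ) : ℂ) := by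
      rw [hd]; push_cast; exact hk χ
    exact_mod_cast h1
  -- the block as a finset
  obtain ⟨T, hT⟩ : ∃ T : Finset (IrrCharacter G), T =
      Finset.univ.filter (fun χ => χ ∈ principalBlock M G) := ⟨_, rfl⟩
  have hmemT : ∀ χ, χ ∈ T ↔ χ ∈ principalBlock M G := by
    intro χ; rw [hT]; simp
  obtain ⟨t₀, ht₀⟩ : ∃ t₀ : IrrCharacter G, t₀ = Cfsg.Agent.Lib.Helper28.trivIrr G := ⟨_, rfl⟩
  have ht₀T : t₀ ∈ T := by
    rw [hmemT]
    exact ht₀ ▸ Cfsg.Agent.Lib.Helper28.trivIrr_mem_principalBlock hM.2.1.ne_top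
  have ht₀v : ∀ g : G, (t₀ : G → ℂ) g = 1 := fun g => by rw [ht₀]; rfl
  have hc₀ : c t₀ = 1 := by
    have h1 : ((c t₀ : ℤ) : ℂ) = ((1 : ℤ) : ℂ) := by rw [← hc, ht₀v]; push_cast; rfl
    exact_mod_cast h1
  have hd₀ : d t₀ = 1 := by
    have h1 : ((d t₀ : ℤ) : ℂ) = ((1 : ℤ) : ℂ) := by rw [← hd1, ht₀v]; push_cast; rfl
    exact_mod_cast h1
  -- nonvanishing
  have hindex : ((Subgroup.centralizer ({z} : Set G)).index).Coprime 2 := by
    have hle : (P : Subgroup G) ≤ Subgroup.centralizer ({z} : Set G) := by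
      intro x hx
      rw [Subgroup.mem_centralizer_iff]
      intro h hh
      rw [Set.mem_singleton_iff.mp hh]
      exact Cfsg.Agent.Lib.Helper7.KF.klein_comm (P : Subgroup G) z x hzP hx
    have h1 : (Subgroup.centralizer ({z} : Set G)).index ∣ (P : Subgroup G).index :=
      Subgroup.index_dvd_of_le hle
    have h2 : ¬ 2 ∣ (P : Subgroup G).index := P.not_dvd_index
    exact Nat.Coprime.symm ((Nat.Prime.coprime_iff_not_dvd Nat.prime_two).mpr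
      (fun h => h2 (h.trans h1)))
  have hne : ∀ χ ∈ T, c χ ≠ 0 := by
    intro χ hχ h0
    apply Cfsg.Agent.Lib.Helper7.KF.value_ne_zero hM χ ((hmemT χ).mp hχ) z hindex
    rw [hc, h0]; push_cast; rfl
  -- the column bound
  obtain ⟨m, hm4, hm⟩ := Cfsg.Agent.Lib.Helper7.KF.column_bound hM P z hzP hz
  have hcol : ∑ χ ∈ T, c χ ^ 2 ≤ 4 := by
    have h1 : ((∑ χ ∈ T, c χ ^ 2 : ℤ) : ℂ) = (m : ℂ) := by
      rw [← hm, hT, Finset.sum_filter]; push_cast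
      refine Finset.sum_congr rfl fun χ _ => ?_
      split_ifs
      · rw [hc χ, map_intCast]; ring
      · rfl
    have h2 : (∑ χ ∈ T, c χ ^ 2 : ℤ) = (m : ℤ) := by exact_mod_cast h1
    omega
  -- orthogonality
  have hPz : IsPPart 2 z z :=
    Cfsg.Agent.Lib.Helper28.isPPart_self_of_pElement Nat.prime_two z ⟨1, by rw [hz, pow_one]⟩
  have hnc : ¬ IsConj z 1 := by
    rw [isConj_one_left]; exact hz1
  have horthy : ∀ y : G, Odd (orderOf y) → ∑ χ ∈ T, (c χ : ℂ) * (χ : G → ℂ) y = 0 := by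
    intro y hy
    have hPy : IsPPart 2 y⁻¹ 1 := ⟨y⁻¹, one_mul _, Commute.one_left _,
      ⟨0, by rw [orderOf_one, pow_zero]⟩, by
        rw [orderOf_inv]; exact fun h => (Nat.not_even_iff_odd.mpr hy) (even_iff_two_dvd.mpr h)⟩
    have h1 := Cfsg.Agent.Lib.Helper28.block_orthogonality hM z y⁻¹ z 1 hPz hPy hnc
      (Cfsg.Agent.Lib.Helper28.isPBlock_principalBlock (M := M) (G := G))
    rw [Cfsg.Agent.Lib.Helper28.finsum_mem_eq_sum_ite, inv_inv] at h1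
    rw [hT, Finset.sum_filter]
    refine Eq.trans ?_ h1
    refine Finset.sum_congr rfl fun χ _ => ?_
    split_ifs
    · rw [hc χ]
    · rfl
  have horth : ∑ χ ∈ T, c χ * d χ = 0 := by
    have h1 := horthy 1 (by rw [orderOf_one]; exact odd_one)
    have h2 : ((∑ χ ∈ T, c χ * d χ : ℤ) : ℂ) = ((0 : ℤ) : ℂ) := by
      push_cast
      rw [← h1]
      refine Finset.sum_congr rfl fun χ _ => ?_
      rw [hd1]
    exact_mod_cast h2
  obtain ⟨ζ₂, ζ₃, ζ₄, ε, hε, h2t, h3t, h4t, h23, h24, h34, hTeq, hc2, hc3, hc4⟩ :=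
    Cfsg.Agent.Lib.Helper7.KF.klein_pattern T c d t₀ ht₀T hc₀ hd₀ hne hcol
      (fun χ _ => hdpos χ) (fun χ _ => hmod χ) horth
  have htriv : ∀ χ : IrrCharacter G, (χ : G → ℂ) = (fun _ => 1) ↔ χ = t₀ := by
    intro χ
    constructor
    · intro h; apply Subtype.ext; rw [h, ht₀]; rfl
    · intro h; rw [h, ht₀]; rfl
  refine ⟨ζ₂, ζ₃, ζ₄, ε, hε, fun h => h2t ((htriv ζ₂).mp h), fun h => h3t ((htriv ζ₃).mp h),
    h23, h24, h34, ?_, ?_, ?_, ?_, ?_, ?_⟩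
  · ext χ
    rw [← hmemT, hTeq, Set.mem_setOf_eq, htriv]
    simp only [Finset.mem_insert, Finset.mem_singleton]
  · intro s hs
    rw [hcls ζ₂ s hs, hcls ζ₃ s hs, hcls ζ₄ s hs, hc, hc, hc, hc2, hc3, hc4]
    push_cast
    exact ⟨rfl, rfl, rfl⟩
  · have := hmod ζ₂
    rwa [hc2, hd] at this
  · have := hmod ζ₃
    rwa [hc3, hd] at this
  · have := hmod ζ₄
    rwa [hc4, hd, sub_neg_eq_add] at this
  · intro y hy
    have h1 := horthy y hy
    have n1 : t₀ ∉ ({ζ₂, ζ₃, ζ₄} : Finset (IrrCharacter G)) := by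
      simp only [Finset.mem_insert, Finset.mem_singleton, not_or]
      exact ⟨h2t.symm, h3t.symm, h4t.symm⟩
    have n2 : ζ₂ ∉ ({ζ₃, ζ₄} : Finset (IrrCharacter G)) := by
      simp only [Finset.mem_insert, Finset.mem_singleton, not_or]
      exact ⟨h23, h24⟩
    rw [hTeq, Finset.sum_insert n1, Finset.sum_insert n2, Finset.sum_pair h34, hc₀, hc2, hc3, hc4,
      ht₀v] at h1
    push_cast at h1
    linear_combination h1


end Cfsg.Agent.S0948
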