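import Mathlib
import Cfsg.Prelude
import Cfsg.Statements.S4512
import Cfsg.Agent.S0948
import Cfsg.Agent.Lib.Helper7.KFD
import Cfsg.Agent.Lib.Helper28.BlockRankC
import Cfsg.Agent.Lib.Helper28.SectionD
import Cfsg.Agent.Lib.Helper4.CharOrtho

set_option autoImplicit false
open Cfsg

namespace Cfsg.Agent.S4512

/-- If G is a finite group with a Sylow 2-subgroup that is a Klein four-group and a single conjugacy class of involutions, then its principal 2-block (relative to a maximal ideal M of the algebraic integers containing 2) has 2-regular rank 3: the restrictions of its irreducible characters to the elements of odd order span a space of dimension 3 (it has three irreducible Brauer characters). -/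
theorem result {G : Type*} [Group G] [Finite G] (M : Ideal Cfsg.AlgInt) (hM : Cfsg.IsPModular 2 M) (P : Sylow 2 G)
    (hP : Nat.card P = 4) (hexp : ∀ x : P, x * x = 1)
    (hone : ∀ s t : G, orderOf s = 2 → orderOf t = 2 → IsConj s t) :
    Cfsg.blockRank 2 (Cfsg.principalBlock M G) = 3 := by
  classical
  haveI : Fact (Nat.Prime 2) := ⟨Nat.prime_two⟩
  haveI : Fintype G := Fintype.ofFinite G
  haveI : Fintype (IrrCharacter G) := Fintype.ofFinite _
  have hsqP : ∀ x ∈ (P : Subgroup G), x * x = 1 := fun x hx =>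
    congrArg Subtype.val (hexp ⟨x, hx⟩)
  haveI hK : IsKleinFour (P : Subgroup G) :=
    Cfsg.Agent.Lib.Helper7.KF.isKleinFour_of (P : Subgroup G) hP hsqP
  obtain ⟨ζ₂, ζ₃, ζ₄, ε, hε, h2, h3, h23, h24, h34, hB, hval, -, -, -, -⟩ :=
    Cfsg.Agent.S0948.result M hM P hK hone
  -- an involution in P
  obtain ⟨z, hzP, hz⟩ : ∃ z : G, z ∈ (P : Subgroup G) ∧ orderOf z = 2 := by
    have hnt : Nontrivial (P : Subgroup G) := by
      rw [← Finite.one_lt_card_iff_nontrivial, IsKleinFour.card_four]; norm_num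
    obtain ⟨x, hx⟩ := exists_ne (1 : (P : Subgroup G))
    refine ⟨x, x.2, ?_⟩
    apply orderOf_eq_prime
    · rw [pow_two]; exact hsqP x x.2
    · intro h; exact hx (Subtype.ext h)
  have hz1 : z ≠ 1 := by
    intro h; rw [h, orderOf_one] at hz; omega
  obtain ⟨hv2, hv3, hv4⟩ := hval z hz
  obtain ⟨t₀, ht₀⟩ : ∃ t₀ : IrrCharacter G, t₀ = Cfsg.Agent.Lib.Helper28.trivIrr G := ⟨_, rfl⟩
  have ht₀v : ∀ g : G, (t₀ : G → ℂ) g = 1 := fun g => by rw [ht₀]; rfl
  have htriv : ∀ χ : IrrCharacter G, (χ : G → ℂ) = (fun _ => 1) ↔ χ = t₀ := by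
    intro χ
    constructor
    · intro h; apply Subtype.ext; rw [h, ht₀]; rfl
    · intro h; rw [h, ht₀]; rfl
  have h2t : ζ₂ ≠ t₀ := fun h => h2 ((htriv ζ₂).mpr h)
  have h3t : ζ₃ ≠ t₀ := fun h => h3 ((htriv ζ₃).mpr h)
  have h4t : ζ₄ ≠ t₀ := by
    intro h
    rw [h, ht₀v] at hv4
    norm_num at hv4
  have hsumB : ∀ f : IrrCharacter G → ℂ,
      ∑ χ, (if χ ∈ principalBlock M G then f χ else 0) = f t₀ + f ζ₂ + f ζ₃ + f ζ₄ := by
    intro f
    rw [← Finset.sum_filter]
    have hfil : Finset.univ.filter (fun χ => χ ∈ principalBlock M G) = {t₀, ζ₂, ζ₃, ζ₄} := by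
      ext χ
      rw [hB]
      simp only [Finset.mem_filter, Finset.mem_univ, true_and, Set.mem_setOf_eq,
        Finset.mem_insert, Finset.mem_singleton, htriv]
    have n1 : t₀ ∉ ({ζ₂, ζ₃, ζ₄} : Finset (IrrCharacter G)) := by
      simp only [Finset.mem_insert, Finset.mem_singleton, not_or]
      exact ⟨h2t.symm, h3t.symm, h4t.symm⟩
    have n2 : ζ₂ ∉ ({ζ₃, ζ₄} : Finset (IrrCharacter G)) := by
      simp only [Finset.mem_insert, Finset.mem_singleton, not_or]
      exact ⟨h23, h24⟩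
    rw [hfil, Finset.sum_insert n1, Finset.sum_insert n2, Finset.sum_pair h34]; ring
  have hmemB : ∀ χ : IrrCharacter G, χ = t₀ ∨ χ = ζ₂ ∨ χ = ζ₃ ∨ χ = ζ₄ →
      χ ∈ principalBlock M G := by
    intro χ h
    rw [hB, Set.mem_setOf_eq, htriv]; exact h
  -- the class function T
  obtain ⟨T, hTdef⟩ : ∃ T : G → ℂ, T = fun g => ∑ χ : IrrCharacter G,
      if χ ∈ principalBlock M G then (χ : G → ℂ) g * (starRingEnd ℂ) ((χ : G → ℂ) g) else 0 :=
    ⟨_, rfl⟩
  have hT : IsClassFunction G T := by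
    intro g k
    rw [hTdef]
    refine Finset.sum_congr rfl fun χ _ => ?_
    rw [Cfsg.Agent.Lib.Helper4.isClassFunction_of_isIrrCharacter χ.2 g k]
  have hGne : (Nat.card G : ℂ) ≠ 0 := by exact_mod_cast Nat.card_pos.ne'
  have hnorm : ∀ χ : IrrCharacter G,
      ∑ g : G, (χ : G → ℂ) g * (starRingEnd ℂ) ((χ : G → ℂ) g) = (Nat.card G : ℂ) := by
    intro χ
    have := Cfsg.Agent.Lib.Helper4.classInner_irr χ χ
    rw [if_pos rfl] at this
    unfold classInner at this
    field_simp at this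
    exact this
  have htotal : ∑ g : G, T g = 4 * (Nat.card G : ℂ) := by
    rw [hTdef]
    simp only [hsumB]
    rw [Finset.sum_add_distrib, Finset.sum_add_distrib, Finset.sum_add_distrib, hnorm, hnorm,
      hnorm, hnorm]
    ring
  -- the section of z
  haveI : Fintype (Subgroup.centralizer ({z} : Set G)) := Fintype.ofFinite _
  obtain ⟨K, hKn, hKi, hKc⟩ := Cfsg.Agent.Lib.Helper7.KF.centralizer_complement P z hzP hz1
  have hregK : ∀ s : Subgroup.centralizer ({z} : Set G), ¬ 2 ∣ orderOf s ↔ s ∈ K := by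
    intro s
    constructor
    · intro hs
      haveI := hKn
      exact Cfsg.Agent.Lib.Helper28.mem_of_pRegular_of_index_pow Nat.prime_two K
        ⟨2, by rw [hKi]; norm_num⟩ s hs
    · intro hs hd
      have h1 : orderOf s ∣ Nat.card K := Subgroup.orderOf_dvd_natCard _ hs
      exact (Nat.Prime.coprime_iff_not_dvd Nat.prime_two).mp hKc.symm (hd.trans h1)
  have hTz : ∀ s : Subgroup.centralizer ({z} : Set G), s ∈ K → T (z * (s : G)) = 4 := by
    intro s hs
    have hcore : (s : G) ∈ centralizerPPrimeCore 2 z :=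
      ⟨s, Cfsg.Agent.Lib.Helper20.le_pPrimeCore' hKn hKc hs, rfl⟩
    have hconst : ∀ χ : IrrCharacter G, χ ∈ principalBlock M G →
        (χ : G → ℂ) (z * (s : G)) = (χ : G → ℂ) z := fun χ hχ =>
      Cfsg.Agent.Lib.Helper28.principalBlock_const_on_core hM z ⟨1, by rw [hz, pow_one]⟩
        (s : G) hcore χ hχ
    rw [hTdef]
    beta_reduce
    rw [hsumB, hconst t₀ (hmemB _ (Or.inl rfl)), hconst ζ₂ (hmemB _ (Or.inr (Or.inl rfl))),
      hconst ζ₃ (hmemB _ (Or.inr (Or.inr (Or.inl rfl)))),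
      hconst ζ₄ (hmemB _ (Or.inr (Or.inr (Or.inr rfl)))), ht₀v, hv2, hv3, hv4]
    rcases hε with h | h <;> rw [h] <;> simp <;> norm_num
  have hsec := Cfsg.Agent.Lib.Helper28.sum_section Nat.prime_two T hT z ⟨1, by rw [hz, pow_one]⟩
  have hsumK : ∑ s : Subgroup.centralizer ({z} : Set G),
      (if ¬ 2 ∣ orderOf s then T (z * (s : G)) else 0) = 4 * (Nat.card K : ℂ) := by
    have h1 : ∀ s : Subgroup.centralizer ({z} : Set G),
        (if ¬ 2 ∣ orderOf s then T (z * (s : G)) else 0) = if s ∈ K then (4 : ℂ) else 0 := by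
      intro s
      by_cases hs : s ∈ K
      · rw [if_pos ((hregK s).mpr hs), if_pos hs, hTz s hs]
      · rw [if_neg (fun h => hs ((hregK s).mp h)), if_neg hs]
    rw [Finset.sum_congr rfl fun s _ => h1 s, ← Finset.sum_filter, Finset.sum_const,
      nsmul_eq_mul, mul_comm]
    congr 2
    rw [Nat.card_eq_fintype_card, Fintype.card_subtype]
  have hcardC : (Nat.card (Subgroup.centralizer ({z} : Set G)) : ℂ) = 4 * (Nat.card K : ℂ) := by
    have := K.index_mul_card
    rw [hKi] at this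
    rw [← this]; push_cast; ring
  have hsing : ∑ g : G, (if IsConj (Cfsg.Agent.Lib.Helper28.pPartOf Nat.prime_two g) z
      then T g else 0) = (Nat.card G : ℂ) := by
    rw [hsumK, hcardC] at hsec
    have hKne : (4 * (Nat.card K : ℂ)) ≠ 0 := by
      have : Nat.card K ≠ 0 := Nat.card_pos.ne'
      have h4 : (4 : ℂ) ≠ 0 := by norm_num
      exact mul_ne_zero h4 (by exact_mod_cast this)
    apply mul_left_cancel₀ hKne
    rw [hsec]; ring
  -- the rank
  have hrank := Cfsg.Agent.Lib.Helper28.card_mul_blockRank (p := 2) hM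
    (Cfsg.Agent.Lib.Helper28.isPBlock_principalBlock (M := M) (G := G))
  have hreg : ∑ x : G, ∑ χ : IrrCharacter G,
      (if χ ∈ principalBlock M G then pRegularPart 2 (χ : G → ℂ) x *
        (starRingEnd ℂ) ((χ : G → ℂ) x) else 0) =
      ∑ x : G, (if IsConj (Cfsg.Agent.Lib.Helper28.pPartOf Nat.prime_two x) z then 0 else T x) := by
    refine Finset.sum_congr rfl fun x _ => ?_
    by_cases hx : 2 ∣ orderOf x
    · rw [if_pos ((Cfsg.Agent.Lib.Helper7.KF.singular_iff P hsqP z hz hone x).mp hx)]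
      apply Finset.sum_eq_zero
      intro χ _
      rw [Cfsg.Agent.Lib.Helper28.pRegularPart_of_dvd _ hx, zero_mul, ite_self]
    · rw [if_neg (fun h => hx ((Cfsg.Agent.Lib.Helper7.KF.singular_iff P hsqP z hz hone x).mpr h)),
        hTdef]
      refine Finset.sum_congr rfl fun χ _ => ?_
      rw [Cfsg.Agent.Lib.Helper28.pRegularPart_of_not_dvd _ hx]
  have hsplit : ∑ x : G, T x = ∑ x : G,
      (if IsConj (Cfsg.Agent.Lib.Helper28.pPartOf Nat.prime_two x) z then T x else 0) +
      ∑ x : G, (if IsConj (Cfsg.Agent.Lib.Helper28.pPartOf Nat.prime_two x) z then 0 else T x) := by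
    rw [← Finset.sum_add_distrib]
    refine Finset.sum_congr rfl fun x _ => ?_
    split_ifs <;> simp
  rw [hreg] at hrank
  rw [htotal, hsing] at hsplit
  have h3 : (Nat.card G : ℂ) * (blockRank 2 (principalBlock M G) : ℂ) = (Nat.card G : ℂ) * 3 := by
    rw [hrank]
    linear_combination (-1 : ℂ) * hsplit
  have h4 : (blockRank 2 (principalBlock M G) : ℂ) = ((3 : ℕ) : ℂ) := by
    have := mul_left_cancel₀ hGne h3
    rw [this]; norm_num
  exact_mod_cast h4


end Cfsg.Agent.S4512
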