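import Cfsg.Statements.S0308
-- import your own Cfsg.Agent.* helpers here

set_option autoImplicit false
open Cfsg

namespace Cfsg.Agent.S0308

/-- the union of the double cosets `B n B`, `n ∈ N` -/
def bnb {G : Type*} [Group G] (P : Cfsg.BNPair G) : Set G :=
  {g | ∃ n ∈ P.N, g ∈ DoubleCoset.doubleCoset n (P.B : Set G) P.B}

theorem mem_bnb {G : Type*} [Group G] (P : Cfsg.BNPair G) {g : G} :
    g ∈ bnb P ↔ ∃ n ∈ P.N, ∃ b ∈ P.B, ∃ b' ∈ P.B, g = b * n * b' := by
  unfold bnb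
  simp only [Set.mem_ofPred_eq, DoubleCoset.mem_doubleCoset, SetLike.mem_coe]

theorem closure_eq_top {G : Type*} [Group G] (P : Cfsg.BNPair G) :
    Subgroup.closure ((P.B : Set G) ∪ P.S) = ⊤ := by
  rw [Subgroup.closure_union, Subgroup.closure_eq, ← P.sup_eq_top]
  apply le_antisymm
  · apply sup_le le_sup_left
    rw [Subgroup.closure_le]
    exact fun s hs => Subgroup.mem_sup_right (P.subset hs)
  · apply sup_le le_sup_left
    rw [← P.closure_sup]
    apply sup_le le_sup_right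
    exact inf_le_left.trans le_sup_left

theorem B_mul {G : Type*} [Group G] (P : Cfsg.BNPair G) {b t : G} (hb : b ∈ P.B) (ht : t ∈ bnb P) :
    b * t ∈ bnb P := by
  rw [mem_bnb] at ht ⊢
  obtain ⟨n, hn, b₁, hb₁, b₂, hb₂, rfl⟩ := ht
  exact ⟨n, hn, b * b₁, P.B.mul_mem hb hb₁, b₂, hb₂, by group⟩

theorem mul_B {G : Type*} [Group G] (P : Cfsg.BNPair G) {b t : G} (hb : b ∈ P.B) (ht : t ∈ bnb P) :
    t * b ∈ bnb P := by
  rw [mem_bnb] at ht ⊢
  obtain ⟨n, hn, b₁, hb₁, b₂, hb₂, rfl⟩ := ht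
  exact ⟨n, hn, b₁, hb₁, b₂ * b, P.B.mul_mem hb₂ hb, by group⟩

theorem S_mul {G : Type*} [Group G] (P : Cfsg.BNPair G) {s t : G} (hs : s ∈ P.S) (ht : t ∈ bnb P) :
    s * t ∈ bnb P := by
  rw [mem_bnb] at ht
  obtain ⟨n, hn, b₁, hb₁, b₂, hb₂, rfl⟩ := ht
  have h := P.mul_mem_union s hs n hn b₁ hb₁
  have h2 : s * (b₁ * n * b₂) = (s * b₁ * n) * b₂ := by group
  rw [h2]
  apply mul_B P hb₂
  rcases h with h | h
  · exact ⟨s * n, P.N.mul_mem (P.subset hs) hn, h⟩
  · exact ⟨n, hn, h⟩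

/-- Induction principle: a set containing `1` and stable under left multiplication by `B` and by the
distinguished representatives is everything. -/
theorem mem_of_closed {G : Type*} [Group G] (P : Cfsg.BNPair G) (T : Set G) (h1 : (1 : G) ∈ T)
    (hB : ∀ b ∈ P.B, ∀ t ∈ T, b * t ∈ T) (hS : ∀ s ∈ P.S, ∀ t ∈ T, s * t ∈ T) (g : G) : g ∈ T := by
  have key : ∀ x ∈ Subgroup.closure ((P.B : Set G) ∪ P.S),
      (∀ t ∈ T, x * t ∈ T) ∧ (∀ t ∈ T, x⁻¹ * t ∈ T) := by
    intro x hx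
    induction hx using Subgroup.closure_induction with
    | mem x hx =>
      rcases hx with hx | hx
      · exact ⟨fun t ht => hB x hx t ht, fun t ht => hB _ (P.B.inv_mem hx) t ht⟩
      · refine ⟨fun t ht => hS x hx t ht, fun t ht => ?_⟩
        have h1 : x⁻¹ * t = x * ((x * x)⁻¹ * t) := by group
        rw [h1]
        exact hS x hx _ (hB _ (P.B.inv_mem (P.sq_mem x hx)) t ht)
    | one => simp
    | mul x y _ _ hx hy =>
      refine ⟨fun t ht => ?_, fun t ht => ?_⟩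
      · rw [mul_assoc]; exact hx.1 _ (hy.1 _ ht)
      · rw [mul_inv_rev, mul_assoc]; exact hy.2 _ (hx.2 _ ht)
    | inv x _ hx =>
      exact ⟨hx.2, by simpa using hx.1⟩
  have hg : g ∈ Subgroup.closure ((P.B : Set G) ∪ P.S) := by rw [closure_eq_top]; trivial
  have := (key g hg).1 1 h1
  rw [mul_one] at this
  exact this

/-- Bruhat decomposition, existence part: every element of a group with a (B,N)-pair lies in some double
coset `B n B` with `n ∈ N`. -/
theorem result {G : Type*} [Group G] (P : Cfsg.BNPair G) (g : G) :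
    ∃ n ∈ P.N, g ∈ DoubleCoset.doubleCoset n (P.B : Set G) P.B := by
  have h1 : (1 : G) ∈ bnb P := (mem_bnb P).2 ⟨1, P.N.one_mem, 1, P.B.one_mem, 1, P.B.one_mem, by simp⟩
  exact mem_of_closed P (bnb P) h1 (fun b hb t ht => B_mul P hb ht) (fun s hs t ht => S_mul P hs ht) g

end Cfsg.Agent.S0308
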