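import Cfsg.Statements.S0310
import Cfsg.Agent.S0308

set_option autoImplicit false
open Cfsg

namespace Cfsg.Agent.S0310

/-- Variant of the induction principle of `S0308` for the parabolic subgroup `⟨B, J⟩`. -/
theorem mem_of_closed_parabolic {G : Type*} [Group G] (P : Cfsg.BNPair G) {J : Set G} (hJ : J ⊆ P.S)
    (T : Set G) (h1 : (1 : G) ∈ T)
    (hB : ∀ b ∈ P.B, ∀ t ∈ T, b * t ∈ T) (hS : ∀ s ∈ J, ∀ t ∈ T, s * t ∈ T) (g : G)
    (hg : g ∈ P.parabolic J) : g ∈ T := by
  have key : ∀ x ∈ Subgroup.closure ((P.B : Set G) ∪ J),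
      (∀ t ∈ T, x * t ∈ T) ∧ (∀ t ∈ T, x⁻¹ * t ∈ T) := by
    intro x hx
    induction hx using Subgroup.closure_induction with
    | mem x hx =>
      rcases hx with hx | hx
      · exact ⟨fun t ht => hB x hx t ht, fun t ht => hB _ (P.B.inv_mem hx) t ht⟩
      · refine ⟨fun t ht => hS x hx t ht, fun t ht => ?_⟩
        have h1 : x⁻¹ * t = x * ((x * x)⁻¹ * t) := by group
        rw [h1]
        exact hS x hx _ (hB _ (P.B.inv_mem (P.sq_mem x (hJ hx))) t ht)
    | one => simp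
    | mul x y _ _ hx hy =>
      refine ⟨fun t ht => ?_, fun t ht => ?_⟩
      · rw [mul_assoc]; exact hx.1 _ (hy.1 _ ht)
      · rw [mul_inv_rev, mul_assoc]; exact hy.2 _ (hx.2 _ ht)
    | inv x _ hx =>
      exact ⟨hx.2, by simpa using hx.1⟩
  have hg' : g ∈ Subgroup.closure ((P.B : Set G) ∪ J) := by
    rw [Subgroup.closure_union, Subgroup.closure_eq]; exact hg
  have := (key g hg').1 1 h1
  rw [mul_one] at this
  exact this

/-- For a set `J` of distinguished generators, the subgroup generated by `B` and `J` is exactly the union of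
the double cosets `B n B` with `n` in the subgroup generated by `J` (so `B W_J B` is a subgroup). -/
theorem result {G : Type*} [Group G] (P : Cfsg.BNPair G) {J : Set G}
    (hJ : J ⊆ P.S) (g : G) :
    g ∈ P.parabolic J ↔ ∃ n ∈ Subgroup.closure J, g ∈ DoubleCoset.doubleCoset n (P.B : Set G) P.B := by
  have hJN : Subgroup.closure J ≤ P.N := by
    rw [Subgroup.closure_le]
    exact fun s hs => P.subset (hJ hs)
  constructor
  · intro hg
    let T : Set G := {g | ∃ n ∈ Subgroup.closure J, ∃ b ∈ P.B, ∃ b' ∈ P.B, g = b * n * b'}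
    have h1 : (1 : G) ∈ T := ⟨1, Subgroup.one_mem _, 1, P.B.one_mem, 1, P.B.one_mem, by simp⟩
    have hB : ∀ b ∈ P.B, ∀ t ∈ T, b * t ∈ T := by
      rintro b hb _ ⟨n, hn, b₁, hb₁, b₂, hb₂, rfl⟩
      exact ⟨n, hn, b * b₁, P.B.mul_mem hb hb₁, b₂, hb₂, by group⟩
    have hS : ∀ s ∈ J, ∀ t ∈ T, s * t ∈ T := by
      rintro s hs _ ⟨n, hn, b₁, hb₁, b₂, hb₂, rfl⟩
      have h := P.mul_mem_union s (hJ hs) n (hJN hn) b₁ hb₁
      have h2 : s * (b₁ * n * b₂) = (s * b₁ * n) * b₂ := by group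
      rw [h2]
      rcases h with h | h
      · rw [DoubleCoset.mem_doubleCoset] at h
        obtain ⟨x, hx, y, hy, hxy⟩ := h
        exact ⟨s * n, Subgroup.mul_mem _ (Subgroup.subset_closure hs) hn, x, hx, y * b₂,
          P.B.mul_mem hy hb₂, by rw [hxy]; group⟩
      · rw [DoubleCoset.mem_doubleCoset] at h
        obtain ⟨x, hx, y, hy, hxy⟩ := h
        exact ⟨n, hn, x, hx, y * b₂, P.B.mul_mem hy hb₂, by rw [hxy]; group⟩
    obtain ⟨n, hn, b, hb, b', hb', rfl⟩ := mem_of_closed_parabolic P hJ T h1 hB hS g hg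
    exact ⟨n, hn, DoubleCoset.mem_doubleCoset.2 ⟨b, hb, b', hb', rfl⟩⟩
  · rintro ⟨n, hn, hg⟩
    rw [DoubleCoset.mem_doubleCoset] at hg
    obtain ⟨b, hb, b', hb', rfl⟩ := hg
    have hBle : P.B ≤ P.parabolic J := le_sup_left
    have hJle : Subgroup.closure J ≤ P.parabolic J := le_sup_right
    exact Subgroup.mul_mem _ (Subgroup.mul_mem _ (hBle hb) (hJle hn)) (hBle hb')

end Cfsg.Agent.S0310
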