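import Cfsg.Statements.S5122
import Cfsg.Agent.Lib.Helper29.AutInduced

set_option autoImplicit false
open Cfsg
open Cfsg.Agent.Lib.Helper29

namespace Cfsg.Agent.S5122

theorem part1 {G : Type*} [Group G] [Finite G] (p : ℕ) [Fact p.Prime] (S : Sylow p G)
    (P : Subgroup G) (hP : P ≤ S) : ∃ g : G, cj g P ≤ S ∧
      IsSylowSub p (FusionSystem.normalizerIn (S : Subgroup G) (cj g P))
        (Subgroup.normalizer ((cj g P : Subgroup G) : Set G)) := by
  have hPp : IsPGroup p P := S.isPGroup'.to_le hP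
  have hPN : P ≤ Subgroup.normalizer (P : Set G) := Subgroup.le_normalizer
  obtain ⟨R, hR⟩ := ((isPGroup_subgroupOf_iff_of_le hPN).2 hPp).exists_le_sylow
  set R' : Subgroup G := (R : Subgroup (Subgroup.normalizer (P : Set G))).map (Subgroup.subtype _) with hR'
  have hR'N : R' ≤ Subgroup.normalizer (P : Set G) := by
    rintro _ ⟨x, -, rfl⟩
    exact x.2
  have hPR' : P ≤ R' := by
    intro x hx
    exact ⟨⟨x, hPN hx⟩, hR (show (⟨x, hPN hx⟩ : Subgroup.normalizer (P : Set G)) ∈ P.subgroupOf _ from hx), rfl⟩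
  have hR'card : Nat.card R' = p ^ (Nat.card (Subgroup.normalizer (P : Set G))).factorization p := by
    rw [hR', Subgroup.card_map_of_injective (Subgroup.subtype_injective _)]
    exact R.card_eq_multiplicity
  have hR'p : IsPGroup p R' := R.isPGroup'.map _
  obtain ⟨g, hg⟩ := exists_cj_le_sylow S hR'p
  refine ⟨g, (cj_mono hPR').trans hg, ?_⟩
  have hle : FusionSystem.normalizerIn (S : Subgroup G) (cj g P) ≤
      Subgroup.normalizer ((cj g P : Subgroup G) : Set G) := normalizerIn_le_right _ _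
  have hpN : IsPGroup p (FusionSystem.normalizerIn (S : Subgroup G) (cj g P)) :=
    S.isPGroup'.to_le (normalizerIn_le_left _ _)
  rw [isSylowSub_iff hle]
  refine ⟨hpN, le_antisymm (IsPGroup_card_le hle hpN) ?_⟩
  have h1 : cj g R' ≤ FusionSystem.normalizerIn (S : Subgroup G) (cj g P) := by
    refine le_inf hg ?_
    rw [← cj_normalizer]
    exact cj_mono hR'N
  rw [← cj_normalizer, card_cj, ← hR'card, ← card_cj g R']
  exact Subgroup.card_le_of_le h1

/-- A Sylow subgroup of `K` meets a subgroup `C ≤ K` normalized by `K` in a Sylow subgroup of `C`. -/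
theorem inf_sylow_of_normal {G : Type*} [Group G] [Finite G] (p : ℕ) [Fact p.Prime] {T K C : Subgroup G}
    (hTK : T ≤ K) (hCK : C ≤ K) (hnorm : K ≤ Subgroup.normalizer (C : Set G))
    (h : IsSylowSub p T K) : IsSylowSub p (T ⊓ C) C := by
  have hTp : IsPGroup p T := h.isPGroup hTK
  have hp : IsPGroup p (T ⊓ C : Subgroup G) := hTp.to_le inf_le_left
  rw [isSylowSub_iff inf_le_right]
  refine ⟨hp, le_antisymm (IsPGroup_card_le inf_le_right hp) ?_⟩
  obtain ⟨R⟩ : Nonempty (Sylow p C) := inferInstance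
  set R' : Subgroup G := (R : Subgroup C).map (Subgroup.subtype _) with hR'
  have hR'C : R' ≤ C := by
    rintro _ ⟨x, -, rfl⟩
    exact x.2
  have hR'card : Nat.card R' = p ^ (Nat.card C).factorization p := by
    rw [hR', Subgroup.card_map_of_injective (Subgroup.subtype_injective _)]
    exact R.card_eq_multiplicity
  have hR'p : IsPGroup p R' := R.isPGroup'.map _
  obtain ⟨k, hk, hkR⟩ := exists_cj_le_of_isSylowSub h (hR'C.trans hCK) hR'p
  have h2 : cj k R' ≤ C := by
    intro x hx
    rw [mem_cj] at hx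
    have h3 := hR'C hx
    have hk' := hnorm hk
    rw [Subgroup.mem_normalizer_iff] at hk'
    have h4 := (hk' _).1 h3
    have : k * (k⁻¹ * x * k) * k⁻¹ = x := by group
    rwa [this] at h4
  rw [← hR'card, ← card_cj k R']
  exact Subgroup.card_le_of_le (le_inf hkR h2)

/-- Let G be a finite group with Sylow p-subgroup S. Every subgroup P of S has a G-conjugate Q ≤ S such that N_S(Q) is a Sylow p-subgroup of N_G(Q); and for any Q ≤ S with that property, C_S(Q) is a Sylow p-subgroup of C_G(Q) and the automorphisms of Q induced by N_S(Q) form a Sylow p-subgroup of those induced by N_G(Q). -/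
theorem result {G : Type*} [Group G] [Finite G] (p : ℕ) [Fact p.Prime] (S : Sylow p G) : (∀ P : Subgroup G, P ≤ S → ∃ g : G, P.map (MulAut.conj g).toMonoidHom ≤ S ∧ (∃ R : Sylow p ↥(Subgroup.normalizer ((P.map (MulAut.conj g).toMonoidHom : Subgroup G) : Set G)), (R : Subgroup ↥(Subgroup.normalizer ((P.map (MulAut.conj g).toMonoidHom : Subgroup G) : Set G))) = (Cfsg.FusionSystem.normalizerIn (S : Subgroup G) (P.map (MulAut.conj g).toMonoidHom)).subgroupOf (Subgroup.normalizer ((P.map (MulAut.conj g).toMonoidHom : Subgroup G) : Set G)))) ∧ ∀ Q : Subgroup G, Q ≤ S → (∃ R : Sylow p ↥(Subgroup.normalizer (Q : Set G)), (R : Subgroup ↥(Subgroup.normalizer (Q : Set G))) = (Cfsg.FusionSystem.normalizerIn (S : Subgroup G) Q).subgroupOf (Subgroup.normalizer (Q : Set G))) → (∃ R : Sylow p ↥(Subgroup.centralizer (Q : Set G)), (R : Subgroup ↥(Subgroup.centralizer (Q : Set G))) = (Cfsg.FusionSystem.centralizerIn (S : Subgroup G) Q).subgroupOf (Subgroup.centralizer (Q : Set G))) ∧ (∃ R : Sylow p ↥(Cfsg.autInducedBy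 ⊤ Q), (R : Subgroup ↥(Cfsg.autInducedBy ⊤ Q)) = (Cfsg.autInducedBy (S : Subgroup G) Q).subgroupOf (Cfsg.autInducedBy ⊤ Q)) := by
  refine ⟨fun P hP => part1 p S P hP, ?_⟩
  intro Q hQ hN
  change IsSylowSub p (FusionSystem.normalizerIn (S : Subgroup G) Q) (Subgroup.normalizer (Q : Set G)) at hN
  refine ⟨?_, autInducedBy_sylow (S : Subgroup G) Q hN⟩
  change IsSylowSub p (FusionSystem.centralizerIn (S : Subgroup G) Q) (Subgroup.centralizer (Q : Set G))
  have h1 := inf_sylow_of_normal p (C := Subgroup.centralizer (Q : Set G)) (normalizerIn_le_right _ _)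
    (Subgroup.centralizer_le_normalizer _) ?_ hN
  · have e : FusionSystem.normalizerIn (S : Subgroup G) Q ⊓ Subgroup.centralizer (Q : Set G) =
        FusionSystem.centralizerIn (S : Subgroup G) Q := by
      unfold FusionSystem.normalizerIn FusionSystem.centralizerIn
      rw [inf_assoc, inf_eq_right.2 (Subgroup.centralizer_le_normalizer _)]
    rwa [e] at h1
  · intro s hs
    rw [Subgroup.mem_normalizer_iff] at hs
    have hsQ : cj s Q = Q := by
      ext y
      rw [mem_cj, hs (s⁻¹ * y * s)]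
      have : s * (s⁻¹ * y * s) * s⁻¹ = y := by group
      rw [this]
    have := cj_centralizer s Q
    rw [hsQ] at this
    rw [Subgroup.mem_normalizer_iff]
    intro y
    have h5 : s * y * s⁻¹ ∈ Subgroup.centralizer (Q : Set G) ↔ s * y * s⁻¹ ∈ cj s (Subgroup.centralizer (Q : Set G)) := by rw [this]
    rw [h5, mem_cj]
    have : s⁻¹ * (s * y * s⁻¹) * s = y := by group
    rw [this]

end Cfsg.Agent.S5122
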