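import Cfsg.Statements.S5123
import Cfsg.Agent.Lib.Helper29.GroupFusion

set_option autoImplicit false
open Cfsg
open Cfsg.Agent.Lib.Helper29

namespace Cfsg.Agent.S5123

/-- Let G be a finite group with Sylow p-subgroup S, P, Q ≤ S and g ∈ G with gPg⁻¹ = Q, and suppose N_S(Q) is a Sylow p-subgroup of N_G(Q). Let N be the set of x ∈ N_S(P) with gxg⁻¹ ∈ N_S(Q)C_G(Q). Then some h ∈ C_G(Q) satisfies (hg)N(hg)⁻¹ ≤ S. -/
theorem result {G : Type*} [Group G] [Finite G] (p : ℕ) [Fact p.Prime] (S : Sylow p G) (P Q : Subgroup G) (hP : P ≤ S) (hQ : Q ≤ S) (g : G) (hg : P.map (MulAut.conj g).toMonoidHom = Q) (hN : (∃ R : Sylow p ↥(Subgroup.normalizer (Q : Set G)), (R : Subgroup ↥(Subgroup.normalizer (Q : Set G))) = (Cfsg.FusionSystem.normalizerIn (S : Subgroup G) Q).subgroupOf (Subgroup.normalizer (Q : Set G)))) : ∃ h ∈ Subgroup.centralizer (Q : Set G), ((Cfsg.FusionSystem.normalizerIn (S : Subgroup G) P) ⊓ (Cfsg.FusionSystem.normalizerIn (S : Subgroup G) Q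 ⊔ Subgroup.centralizer (Q : Set G)).comap (MulAut.conj g).toMonoidHom).map (MulAut.conj (h * g)).toMonoidHom ≤ S := by
  change IsSylowSub p (FusionSystem.normalizerIn (S : Subgroup G) Q) (Subgroup.normalizer (Q : Set G)) at hN
  set NS := FusionSystem.normalizerIn (S : Subgroup G) Q with hNS
  set C := Subgroup.centralizer (Q : Set G) with hC
  set N := (FusionSystem.normalizerIn (S : Subgroup G) P) ⊓ (NS ⊔ C).comap (MulAut.conj g).toMonoidHom with hNdef
  have hCN : C ≤ Subgroup.normalizer (Q : Set G) := Subgroup.centralizer_le_normalizer _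
  have hM : NS ⊔ C ≤ Subgroup.normalizer (Q : Set G) := sup_le (normalizerIn_le_right _ _) hCN
  have hsyl : IsSylowSub p NS (NS ⊔ C) := hN.of_le le_sup_left hM
  have hNp : IsPGroup p N := S.isPGroup'.to_le (inf_le_left.trans (normalizerIn_le_left _ _))
  have hgN : cj g N ≤ NS ⊔ C := by
    rintro _ ⟨x, hx, rfl⟩
    exact hx.2
  obtain ⟨m, hm, hmN⟩ := exists_cj_le_of_isSylowSub hsyl hgN (isPGroup_cj hNp)
  -- decompose m = s * c
  have hnorm : NS ≤ Subgroup.normalizer (C : Set G) := by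
    intro s hs
    have hs' : s ∈ Subgroup.normalizer (Q : Set G) := hs.2
    have := cj_centralizer s Q
    have hsQ : cj s Q = Q := by
      ext y
      rw [mem_cj]
      rw [Subgroup.mem_normalizer_iff] at hs'
      rw [hs' (s⁻¹ * y * s)]
      have : s * (s⁻¹ * y * s) * s⁻¹ = y := by group
      rw [this]
    rw [hsQ] at this
    rw [Subgroup.mem_normalizer_iff]
    intro y
    have h5 : s * y * s⁻¹ ∈ C ↔ s * y * s⁻¹ ∈ cj s (Subgroup.centralizer (Q : Set G)) := by rw [this]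
    rw [h5, mem_cj]
    have : s⁻¹ * (s * y * s⁻¹) * s = y := by group
    rw [this]
  have hset := Subgroup.coe_mul_of_left_le_normalizer_right NS C hnorm
  have hm' : m ∈ ((NS ⊔ C : Subgroup G) : Set G) := hm
  rw [hset] at hm'
  obtain ⟨s, hs, c, hc, rfl⟩ := hm'
  refine ⟨c, hc, ?_⟩
  have h1 : cj (c * g) N = cj s⁻¹ (cj (s * c) (cj g N)) := by
    rw [cj_cj, cj_cj]
    congr 1
    group
  show cj (c * g) N ≤ S
  rw [h1]
  refine le_trans (cj_mono hmN) ?_
  intro x hx
  rw [mem_cj, inv_inv] at hx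
  have h2 := NS.mul_mem (NS.mul_mem (NS.inv_mem hs) hx) hs
  have h3 : s⁻¹ * (s * x * s⁻¹) * s = x := by group
  rw [h3] at h2
  exact h2.1

end Cfsg.Agent.S5123
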