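import Cfsg.Statements.S5076
import Cfsg.Agent.S5122
import Cfsg.Agent.S5123

set_option autoImplicit false
open Cfsg
open Cfsg.Agent.Lib.Helper29

namespace Cfsg.Agent.S5076

/-- `Aut_F(Q) = Aut_G(Q)` in the fusion system of a group. -/
theorem groupFusionSystem_autGroup {G : Type*} [Group G] {S Q : Subgroup G} (hQ : Q ≤ S) :
    (groupFusionSystem S).autGroup Q = autInducedBy ⊤ Q := by
  unfold FusionSystem.autGroup autInducedBy
  congr 1
  ext α
  constructor
  · rintro ⟨-, -, g, hg⟩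
    exact ⟨g, Subgroup.mem_top g, fun x => hg x⟩
  · rintro ⟨g, -, hg⟩
    exact ⟨hQ, fun x => hQ (α x).2, g, fun x => hg x⟩

/-- A subgroup `Q ≤ S` with `N_S(Q)` Sylow in `N_G(Q)` is fully automized. -/
theorem fullyAutomized_of_sylow {G : Type*} [Group G] [Finite G] (p : ℕ) [Fact p.Prime] (S : Sylow p G)
    (Q : Subgroup G) (hQ : Q ≤ S)
    (hN : IsSylowSub p (FusionSystem.normalizerIn (S : Subgroup G) Q) (Subgroup.normalizer (Q : Set G))) :
    (groupFusionSystem (S : Subgroup G)).IsFullyAutomized p Q := by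
  refine ⟨hQ, ?_⟩
  rw [groupFusionSystem_autGroup hQ]
  exact autInducedBy_sylow (S : Subgroup G) Q hN

/-- A subgroup `Q ≤ S` with `N_S(Q)` Sylow in `N_G(Q)` is receptive. -/
theorem receptive_of_sylow {G : Type*} [Group G] [Finite G] (p : ℕ) [Fact p.Prime] (S : Sylow p G)
    (Q : Subgroup G) (hQ : Q ≤ S)
    (hN : IsSylowSub p (FusionSystem.normalizerIn (S : Subgroup G) Q) (Subgroup.normalizer (Q : Set G))) :
    (groupFusionSystem (S : Subgroup G)).IsReceptive Q := by
  refine ⟨hQ, ?_⟩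
  rintro P φ ⟨hP, hφS, g, hg⟩ hrange
  have hgPQ : cj g P = Q := by
    rw [← hrange]
    ext y
    constructor
    · rintro ⟨x, hx, rfl⟩
      exact ⟨⟨x, hx⟩, hg _⟩
    · rintro ⟨x, rfl⟩
      exact ⟨x.1, x.2, (hg x).symm⟩
  obtain ⟨c, hc, hcN⟩ := Cfsg.Agent.S5123.result p S P Q hP hQ g hgPQ hN
  set N := (FusionSystem.normalizerIn (S : Subgroup G) P) ⊓
    (FusionSystem.normalizerIn (S : Subgroup G) Q ⊔ Subgroup.centralizer (Q : Set G)).comap
      (MulAut.conj g).toMonoidHom with hNdef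
  have hext : FusionSystem.extender (S : Subgroup G) P φ ≤ N := by
    unfold FusionSystem.extender
    rw [Subgroup.closure_le]
    rintro x ⟨hxS, hxN, h, hhS, hh⟩
    refine ⟨⟨hxS, hxN⟩, ?_⟩
    show g * x * g⁻¹ ∈ FusionSystem.normalizerIn (S : Subgroup G) Q ⊔ Subgroup.centralizer (Q : Set G)
    rw [Subgroup.mem_normalizer_iff] at hxN
    -- the key relation
    have key : ∀ y : G, y ∈ P → g * (x * y * x⁻¹) * g⁻¹ = h * (g * y * g⁻¹) * h⁻¹ := by
      intro y hy
      have h1 := hh ⟨y, hy⟩ ((hxN y).1 hy)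
      rw [hg, hg] at h1
      exact h1
    have hhN : h ∈ FusionSystem.normalizerIn (S : Subgroup G) Q := by
      refine ⟨hhS, ?_⟩
      show h ∈ Subgroup.normalizer (Q : Set G)
      rw [Subgroup.mem_normalizer_iff]
      intro z
      rw [← hgPQ]
      constructor
      · rintro ⟨y, hy, rfl⟩
        show h * (g * y * g⁻¹) * h⁻¹ ∈ cj g P
        rw [← key y hy]
        exact conj_mem_cj ((hxN y).1 hy)
      · rintro ⟨y', hy', hz⟩
        have hz' : g * y' * g⁻¹ = h * z * h⁻¹ := hz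
        have hy : x⁻¹ * y' * x ∈ P := by
          rw [hxN]
          have : x * (x⁻¹ * y' * x) * x⁻¹ = y' := by group
          rw [this]; exact hy'
        have h2 := key _ hy
        have : x * (x⁻¹ * y' * x) * x⁻¹ = y' := by group
        rw [this, hz'] at h2
        have h3 : z = g * (x⁻¹ * y' * x) * g⁻¹ := mul_left_cancel (mul_right_cancel h2)
        rw [h3]
        exact conj_mem_cj hy
    have hcent : h⁻¹ * (g * x * g⁻¹) ∈ Subgroup.centralizer (Q : Set G) := by
      rw [Subgroup.mem_centralizer_iff]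
      intro z hz
      rw [← hgPQ] at hz
      obtain ⟨y, hy, rfl⟩ := hz
      show g * y * g⁻¹ * (h⁻¹ * (g * x * g⁻¹)) = h⁻¹ * (g * x * g⁻¹) * (g * y * g⁻¹)
      have h2 := key y hy
      have h3 : h⁻¹ * (g * x * g⁻¹) * (g * y * g⁻¹) = h⁻¹ * (g * (x * y * x⁻¹) * g⁻¹) * (g * x * g⁻¹) := by
        group
      rw [h3, h2]
      group
    have : g * x * g⁻¹ = h * (h⁻¹ * (g * x * g⁻¹)) := by group
    rw [this]
    exact Subgroup.mul_mem _ (Subgroup.mem_sup_left hhN) (Subgroup.mem_sup_right hcent)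
  have hextS : FusionSystem.extender (S : Subgroup G) P φ ≤ S :=
    hext.trans (inf_le_left.trans (normalizerIn_le_left _ _))
  refine ⟨conjHom _ (c * g), ⟨hextS, fun x => ?_, c * g, fun x => rfl⟩, ?_⟩
  · apply hcN
    exact ⟨x.1, hext x.2, rfl⟩
  · intro x hxP hxN
    rw [hg]
    show c * g * x * (c * g)⁻¹ = g * x * g⁻¹
    have hz : g * x * g⁻¹ ∈ Q := by
      rw [← hgPQ]; exact conj_mem_cj hxP
    rw [Subgroup.mem_centralizer_iff] at hc
    have h1 := hc _ hz
    calc c * g * x * (c * g)⁻¹ = c * (g * x * g⁻¹) * c⁻¹ := by group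
      _ = ((g * x * g⁻¹) * c) * c⁻¹ := by rw [h1, mul_assoc c]
      _ = g * x * g⁻¹ := by group

/-- The fusion system of a finite group on a Sylow p-subgroup is saturated: every subgroup of the Sylow subgroup is conjugate in the system to one that is fully automized and receptive. -/
theorem result {G : Type*} [Group G] [Finite G] (p : ℕ) [Fact p.Prime] (S : Sylow p G) : (Cfsg.groupFusionSystem (S : Subgroup G)).IsSaturated p := by
  intro P hP
  obtain ⟨g, hgS, hg⟩ := Cfsg.Agent.S5122.part1 p S P hP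
  exact ⟨cj g P, groupFusionSystem_isConj_iff.2 ⟨hP, hgS, g, rfl⟩,
    fullyAutomized_of_sylow p S _ hgS hg, receptive_of_sylow p S _ hgS hg⟩

end Cfsg.Agent.S5076
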