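import Cfsg.Statements.S3031
import Cfsg.Agent.Lib.Helper29.HSubgroup

set_option autoImplicit false
open Cfsg

namespace Cfsg.Agent.S3031

/-- Let G be a finite group, p the smallest prime dividing |G| and P a Sylow p-subgroup. Suppose that P is cyclic, or that P has a subgroup D with 1 < |D| < |P| such that every subgroup E of P of order |D|, and also every subgroup E of P of order 4 when |D| = 2, satisfies g E g⁻¹ ∩ N_G(E) ≤ E for all g ∈ G (E is strongly closed in its normalizer with respect to G). Then G has a normal p-complement. -/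
theorem result {G : Type*} [Group G] [Finite G] {p : ℕ} [Fact p.Prime] (hdiv : p ∣ Nat.card G)
    (hmin : ∀ q : ℕ, q.Prime → q ∣ Nat.card G → p ≤ q) (P : Sylow p G)
    (h : IsCyclic ↥(P : Subgroup G) ∨ ∃ D : Subgroup G, D ≤ (P : Subgroup G) ∧ 1 < Nat.card D ∧ Nat.card D < Nat.card (P : Subgroup G) ∧
      ∀ E : Subgroup G, E ≤ (P : Subgroup G) → (Nat.card E = Nat.card D ∨ (Nat.card D = 2 ∧ Nat.card E = 4)) →
        ∀ g : G, E.map (MulAut.conj g).toMonoidHom ⊓ Subgroup.normalizer (E : Set G) ≤ E) :
    Cfsg.HasNormalPComplement p G := by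
  have hp : p.Prime := Fact.out
  have hcopall : ∀ g : G, (orderOf g).Coprime (p - 1) := by
    intro g
    apply Nat.coprime_of_dvd
    intro r hr hr1 hr2
    have h1 : p ≤ r := hmin r hr (dvd_trans hr1 (orderOf_dvd_natCard g))
    have h2 : r ≤ p - 1 := Nat.le_of_dvd (by have := hp.two_le; omega) hr2
    have := hp.two_le
    omega
  apply Cfsg.Agent.Lib.Helper29.hasNormalPComplement_of_comm_mem_coatom P
  intro Q hQP g hg hcop x hx K hK
  rcases h with hcyc | ⟨D, hDP, hD1, hDlt, hgood⟩
  · have hQcyc : IsCyclic Q := by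
      haveI := hcyc
      exact isCyclic_of_injective (Subgroup.inclusion hQP) (Subgroup.inclusion_injective hQP)
    have h1 := Cfsg.Agent.Lib.Helper29.centralizes_cyclic_pgroup Q (P.2.to_le hQP) hQcyc g hg hcop
      (hcopall g) x hx
    rw [h1, inv_mul_cancel]
    exact Subgroup.one_mem _
  · obtain ⟨d, hd⟩ := IsPGroup.iff_card.mp (P.2.to_le hDP)
    obtain ⟨n, hn⟩ := IsPGroup.iff_card.mp P.2
    have hd1 : 1 ≤ d := by
      rcases Nat.eq_zero_or_pos d with h0 | h0
      · rw [h0, pow_zero] at hd; omega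
      · exact h0
    have hdn : d < n := by
      apply (Nat.pow_lt_pow_iff_right hp.one_lt).mp
      rw [← hd, ← hn]; exact hDlt
    have hData : Cfsg.Agent.Lib.Helper29.HSData p (P : Subgroup G) d :=
      { hd := hd1
        sc := by
          intro E hEP hE g' y hy hgy
          have hgoodE := hgood E hEP (by rw [hd]; exact hE)
          have hN := Cfsg.Agent.Lib.Helper29.le_normalizer_of_hsub (P : Subgroup G) E P.2 hEP hgoodE
          exact hgoodE g' (Subgroup.mem_inf.mpr ⟨⟨y, hy, rfl⟩, hN hgy⟩)
        cop := hcopall }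
    obtain ⟨a, ha⟩ := IsPGroup.iff_card.mp (P.2.to_le hQP)
    by_cases had : a ≤ d + 1
    · exact Cfsg.Agent.Lib.Helper29.comm_mem_coatom_of_card_le P.2 hData hn hdn Q hQP
        (by rw [ha]; exact pow_dvd_pow p had) g hg K hK x hx
    · push_neg at had
      have h1 := Cfsg.Agent.Lib.Helper29.centralizes_of_card_gt P.2 hData Q hQP
        (by rw [ha]; exact pow_dvd_pow p (by omega)) g hg hcop x hx
      rw [h1, inv_mul_cancel]
      exact Subgroup.one_mem _

end Cfsg.Agent.S3031
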