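import Cfsg.Statements.S5226
import Cfsg.Agent.Lib.Helper29.FusionChain5

set_option autoImplicit false
open Cfsg

namespace Cfsg.Agent.S5226

/-- Let F be a saturated fusion system over a finite p-group S and Q a subgroup of S. Then Q is normal in F (F equals the normalizer system of Q) if and only if Q is strongly closed in F and admits a central series 1 = Q₀ ≤ Q₁ ≤ ⋯ ≤ Qₙ = Q ([Qᵢ₊₁, Q] ≤ Qᵢ) all of whose proper terms are weakly closed in F. -/
theorem result {Ω : Type*} [Group Ω] {S : Subgroup Ω} [Finite S] (p : ℕ) [Fact p.Prime] (hS : IsPGroup p S) (F : Cfsg.FusionSystem S) (hF : F.IsSaturated p) (Q : Subgroup Ω) : F.IsNormal Q ↔ F.StronglyClosed Q ∧ ∃ (n : ℕ) (C : Fin (n + 1) → Subgroup Ω), C 0 = ⊥ ∧ C (Fin.last n) = Q ∧ Monotone C ∧ (∀ i : Fin n, ⁅C i.succ, Q⁆ ≤ C i.castSucc) ∧ ∀ i : Fin n, F.WeaklyClosed (C i.castSucc) := by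
  open Cfsg.Agent.Lib.Helper29 in
  constructor
  · intro hQ
    refine ⟨stronglyClosed_of_isNormal F hQ, ?_⟩
    obtain ⟨n, Qs, h0, hn, hmono, h⟩ := exists_chain_of_ext hS F hQ.1 (exists_aut_of_isNormal F hQ)
    refine ⟨n, Qs, h0, hn, hmono, fun i => ?_, fun i => ?_⟩
    · rw [Subgroup.commutator_comm]
      exact (h i).2
    · rcases Nat.eq_zero_or_pos i.1 with hi | hi
      · have e : Fin.castSucc i = 0 := Fin.ext hi
        rw [e, h0]
        exact weaklyClosed_bot F
      · have e : Fin.castSucc i = Fin.succ (⟨i.1 - 1, by have := i.2; omega⟩ : Fin n) := by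
          apply Fin.ext
          simp only [Fin.val_castSucc, Fin.val_succ]
          omega
        rw [e]
        exact weaklyClosed_of_stronglyClosed F (h _).1
  · rintro ⟨hQ, n, C, h0, hn, hmono, hcomm, hwc⟩
    exact isNormal_of_weaklyClosed_chain p hS F hF Q hQ n C h0 hn hmono hcomm hwc

end Cfsg.Agent.S5226
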