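import Cfsg.Statements.S0080
import Mathlib

set_option autoImplicit false
open Cfsg
open scoped IsMulCommutative

namespace Cfsg.Agent.S0080

/-- When the index of H is prime to the order of H/H', the focal subgroup of H is G' ∩ H, and H/(G' ∩ H) has a normal complement. -/
theorem result {G : Type*} [Group G] [Finite G] (H : Subgroup G) (h : Nat.Coprime H.index (⁅H, H⁆.relIndex H)) : Subgroup.focalSubgroup H = commutator G ⊓ H ∧ ∃ N : Subgroup G, N.Normal ∧ N ⊓ H = commutator G ⊓ H ∧ N ⊔ H = ⊤ := by
  -- the quotient H / H* has order coprime to the index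
  have hcomm : ⁅H, H⁆.subgroupOf H = commutator H := by
    rw [← Subgroup.map_subtype_commutator]
    exact Subgroup.comap_map_eq_self_of_injective H.subtype_injective _
  have hdvd : Nat.card (H ⧸ H.focalSubgroupOf) ∣ ⁅H, H⁆.relIndex H := by
    have h1 : Nat.card (H ⧸ H.focalSubgroupOf) = H.focalSubgroupOf.index := rfl
    rw [h1, Subgroup.relIndex, hcomm]
    exact Subgroup.index_dvd_of_le H.commutator_le_focalSubgroupOf
  have hcop : (Nat.card (H ⧸ H.focalSubgroupOf)).Coprime H.index :=
    (Nat.Coprime.coprime_dvd_right hdvd h).symm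
  -- the power map is bijective
  have hsurj_pow : Function.Surjective fun y : H ⧸ H.focalSubgroupOf ↦ y ^ H.index :=
    (powCoprime hcop).surjective
  have hinj_pow : Function.Injective fun y : H ⧸ H.focalSubgroupOf ↦ y ^ H.index :=
    (powCoprime hcop).injective
  have hker_restrict : (H.transferFocal.domRestrict H).ker = H.focalSubgroupOf := by
    ext g
    rw [MonoidHom.mem_ker, MonoidHom.domRestrict_apply, Subgroup.transferFocal_eq_pow]
    constructor
    · intro hg
      have : (fun y : H ⧸ H.focalSubgroupOf ↦ y ^ H.index) (g : H ⧸ H.focalSubgroupOf) =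
          (fun y : H ⧸ H.focalSubgroupOf ↦ y ^ H.index) 1 := by
        simp only [one_pow]; exact hg
      have := hinj_pow this
      exact (QuotientGroup.eq_one_iff g).1 this
    · intro hg
      have : (g : H ⧸ H.focalSubgroupOf) = 1 := (QuotientGroup.eq_one_iff g).2 hg
      rw [this, one_pow]
  have hker_inf : H.transferFocal.ker ⊓ H = H.focalSubgroup := by
    rw [← Subgroup.subgroupOf_map_subtype, ← MonoidHom.ker_domRestrict, ← Subgroup.map_focalSubgroupOf]
    exact congr_arg _ hker_restrict
  have hfocal : Subgroup.focalSubgroup H = commutator G ⊓ H := by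
    apply le_antisymm
    · exact le_inf H.focalSubgroup_le_commutator H.focalSubgroup_le
    · apply le_trans ?_ hker_inf.le
      exact inf_le_inf_right _ (Abelianization.commutator_subset_ker H.transferFocal)
  refine ⟨hfocal, H.transferFocal.ker, inferInstance, ?_, ?_⟩
  · rw [hker_inf, hfocal]
  · rw [eq_top_iff]
    intro g _
    -- find x ∈ H with V x = V g
    obtain ⟨y, hy⟩ := hsurj_pow (H.transferFocal g)
    obtain ⟨x, rfl⟩ := QuotientGroup.mk'_surjective _ y
    have hx : H.transferFocal (x : G) = H.transferFocal g := by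
      rw [Subgroup.transferFocal_eq_pow]; exact hy
    have hgx : g * (x : G)⁻¹ ∈ H.transferFocal.ker := by
      rw [MonoidHom.mem_ker, map_mul, map_inv, hx, mul_inv_cancel]
    have : g = (g * (x : G)⁻¹) * x := by group
    rw [this]
    exact Subgroup.mul_mem _ (Subgroup.mem_sup_left hgx) (Subgroup.mem_sup_right x.2)

end Cfsg.Agent.S0080
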