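import Cfsg.Statements.S0390

set_option autoImplicit false
open Cfsg

namespace Cfsg.Agent.S0390

theorem univ_mem : (Finset.univ : Finset GolayPt) ∈ supports (golayCode : Set (GolayPt → ZMod 2)) := by
  refine ⟨1, ?_, ?_⟩
  · exact Submodule.subset_span (Set.mem_union_right _ rfl)
  · ext p
    simp [support₂]

theorem empty_mem : (∅ : Finset GolayPt) ∈ supports (golayCode : Set (GolayPt → ZMod 2)) := by
  refine ⟨0, ?_, ?_⟩
  · exact Submodule.zero_mem _
  · ext p
    simp [support₂]

theorem zmod2_cases (a : ZMod 2) : a = 0 ∨ a = 1 := by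
  revert a; decide

/-- complement of symmetric difference of two supports is a support -/
theorem compl_symmDiff_mem {A B : Finset GolayPt}
    (hA : A ∈ supports (golayCode : Set (GolayPt → ZMod 2)))
    (hB : B ∈ supports (golayCode : Set (GolayPt → ZMod 2))) (S : Finset GolayPt)
    (hS : ∀ i, i ∈ S ↔ (i ∈ A ↔ i ∈ B)) :
    S ∈ supports (golayCode : Set (GolayPt → ZMod 2)) := by
  obtain ⟨a, ha, rfl⟩ := hA
  obtain ⟨b, hb, rfl⟩ := hB
  refine ⟨a + b + 1, ?_, ?_⟩
  · exact Submodule.add_mem _ (Submodule.add_mem _ ha hb)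
      (Submodule.subset_span (Set.mem_union_right _ rfl))
  · ext i
    rw [hS i]
    simp only [support₂, Finset.mem_filter, Finset.mem_univ, true_and, Pi.add_apply, Pi.one_apply]
    rcases zmod2_cases (a i) with h1 | h1 <;> rcases zmod2_cases (b i) with h2 | h2 <;>
      simp [h1, h2] <;> decide

theorem add_mem' {x y : GolayPt → ℤ} (hx : x ∈ leechSet) (hy : y ∈ leechSet) : x + y ∈ leechSet := by
  obtain ⟨m, hm2, hms, hmk⟩ := hx
  obtain ⟨n, hn2, hns, hnk⟩ := hy
  refine ⟨m + n, fun i => ?_, ?_, fun k => ?_⟩
  · have h1 := hm2 i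
    have h2 := hn2 i
    simp only [Pi.add_apply]
    exact Int.ModEq.add h1 h2
  · simp only [Pi.add_apply, Finset.sum_add_distrib]
    have := Int.ModEq.add hms hns
    rw [mul_add]
    exact this
  · by_cases hk : k ≡ m + n [ZMOD 2]
    · refine compl_symmDiff_mem (hmk m) (hnk (k - m)) _ (fun i => ?_)
      simp only [Finset.mem_filter, Finset.mem_univ, true_and, Pi.add_apply]
      have h1 := hm2 i
      have h2 := hn2 i
      unfold Int.ModEq at *
      omega
    · have : (Finset.univ.filter fun i => (x + y) i ≡ k [ZMOD 4]) = ∅ := by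
        apply Finset.filter_false_of_mem
        intro i _ hik
        apply hk
        have h1 := hm2 i
        have h2 := hn2 i
        simp only [Pi.add_apply] at hik
        unfold Int.ModEq at *
        omega
      rw [this]
      exact empty_mem

theorem neg_mem' {x : GolayPt → ℤ} (hx : x ∈ leechSet) : -x ∈ leechSet := by
  obtain ⟨m, hm2, hms, hmk⟩ := hx
  refine ⟨-m, fun i => ?_, ?_, fun k => ?_⟩
  · have h1 := hm2 i
    simp only [Pi.neg_apply]
    exact Int.ModEq.neg h1
  · simp only [Pi.neg_apply, Finset.sum_neg_distrib]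
    have := Int.ModEq.neg hms
    rw [mul_neg]
    exact this
  · have : (Finset.univ.filter fun i => (-x) i ≡ k [ZMOD 4]) =
        (Finset.univ.filter fun i => x i ≡ -k [ZMOD 4]) := by
      apply Finset.filter_congr
      intro i _
      simp only [Pi.neg_apply]
      unfold Int.ModEq
      omega
    rw [this]
    exact hmk (-k)

theorem zero_mem' : (0 : GolayPt → ℤ) ∈ leechSet := by
  refine ⟨0, fun i => by simp, by simp, fun k => ?_⟩
  by_cases hk : (0:ℤ) ≡ k [ZMOD 4]
  · have : (Finset.univ.filter fun i : GolayPt => (0 : GolayPt → ℤ) i ≡ k [ZMOD 4]) = Finset.univ := by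
      apply Finset.filter_true_of_mem
      intro i _
      exact hk
    rw [this]
    exact univ_mem
  · have : (Finset.univ.filter fun i : GolayPt => (0 : GolayPt → ℤ) i ≡ k [ZMOD 4]) = ∅ := by
      apply Finset.filter_false_of_mem
      intro i _ hik
      exact hk hik
    rw [this]
    exact empty_mem

/-- The set leechSet is the carrier of an additive subgroup (hence equals leechLattice). -/
theorem result : ∃ L : AddSubgroup (Cfsg.GolayPt → ℤ), (L : Set (Cfsg.GolayPt → ℤ)) = Cfsg.leechSet := by
  refine ⟨{ carrier := leechSet, zero_mem' := zero_mem', add_mem' := add_mem', neg_mem' := neg_mem' }, rfl⟩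

end Cfsg.Agent.S0390
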