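import Cfsg.Statements.S0432
import Mathlib
import Cfsg.Agent.Lib.Helper3.Leech
-- import your own Cfsg.Agent.* helpers here

set_option autoImplicit false
open Cfsg

namespace Cfsg.Agent.S0432

/-- Coordinate permutations from the code's group preserve the lattice. -/
theorem result (σ : Equiv.Perm Cfsg.GolayPt) (hσ : σ ∈ Cfsg.M24) (x : Cfsg.GolayPt → ℤ) (hx : x ∈ Cfsg.leechLattice) : (fun i => x (σ i)) ∈ Cfsg.leechLattice := by
  rw [Cfsg.Agent.Lib.Helper3.mem_leechLattice_iff] at hx ⊢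
  obtain ⟨m, hm2, hms, hmk⟩ := hx
  refine ⟨m, fun i => hm2 (σ i), ?_, fun k => ?_⟩
  · rw [Equiv.sum_comp σ (fun i => x i)]
    exact hms
  · have hinv : σ⁻¹ ∈ Cfsg.M24 := inv_mem hσ
    have := Cfsg.Agent.Lib.Helper3.M24_smul_mem hinv (hmk k)
    convert this using 1
    ext i
    rw [Finset.mem_inv_smul_finset_iff]
    simp only [Finset.mem_filter, Finset.mem_univ, true_and, Equiv.Perm.smul_def]

end Cfsg.Agent.S0432
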