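import Cfsg.Statements.S0392
import Mathlib
import Cfsg.Agent.Lib.Helper3.Leech
import Cfsg.Agent.Lib.Helper3.Golay
-- import your own Cfsg.Agent.* helpers here

set_option autoImplicit false
open Cfsg

namespace Cfsg.Agent.S0392

/-- Sum of squares of every lattice vector is divisible by 16 (even lattice at scale 1/8). -/
theorem result (x : Cfsg.GolayPt → ℤ) (hx : x ∈ Cfsg.leechLattice) : (16 : ℤ) ∣ Cfsg.sqNorm x := by
  classical
  rw [Cfsg.Agent.Lib.Helper3.mem_leechLattice_iff] at hx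
  obtain ⟨m, hm2, hms, hmk⟩ := hx
  unfold Cfsg.sqNorm
  set ε : ℤ := m % 2 with hε
  set k₀ : ℤ := 2 + ε with hk₀
  have hε01 : ε = 0 ∨ ε = 1 := by omega
  let b : Cfsg.GolayPt → ℤ := fun i => if x i ≡ k₀ [ZMOD 4] then 1 else 0
  have hterm : ∀ i, (16 : ℤ) ∣ x i ^ 2 - (ε * (2 * x i - 1) + 4 * b i) := by
    intro i
    have h1 := hm2 i
    obtain ⟨t, r, hr, hxi⟩ : ∃ t r : ℤ, (r = 0 ∨ r = 1 ∨ r = 2 ∨ r = 3) ∧ x i = 4 * t + r :=
      ⟨x i / 4, x i % 4, by omega, by omega⟩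
    simp only [b]
    rcases hr with rfl | rfl | rfl | rfl
    · have hε0 : ε = 0 := by unfold Int.ModEq at h1; omega
      have hb : ¬ (x i ≡ k₀ [ZMOD 4]) := by unfold Int.ModEq; omega
      rw [if_neg hb, hε0, hxi]; exact ⟨t ^ 2, by ring⟩
    · have hε1 : ε = 1 := by unfold Int.ModEq at h1; omega
      have hb : ¬ (x i ≡ k₀ [ZMOD 4]) := by unfold Int.ModEq; omega
      rw [if_neg hb, hε1, hxi]; exact ⟨t ^ 2, by ring⟩
    · have hε0 : ε = 0 := by unfold Int.ModEq at h1; omega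
      have hb : (x i ≡ k₀ [ZMOD 4]) := by unfold Int.ModEq; omega
      rw [if_pos hb, hε0, hxi]; exact ⟨t ^ 2 + t, by ring⟩
    · have hε1 : ε = 1 := by unfold Int.ModEq at h1; omega
      have hb : (x i ≡ k₀ [ZMOD 4]) := by unfold Int.ModEq; omega
      rw [if_pos hb, hε1, hxi]; exact ⟨t ^ 2 + t, by ring⟩
  have hsum1 : (16 : ℤ) ∣ ∑ i, (x i ^ 2 - (ε * (2 * x i - 1) + 4 * b i)) :=
    Finset.dvd_sum (fun i _ => hterm i)
  have hcard : (Finset.univ : Finset Cfsg.GolayPt).card = 24 := by decide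
  have hsum2 : ∑ i, (ε * (2 * x i - 1) + 4 * b i) =
      ε * (2 * ∑ i, x i - 24) +
        4 * (((Finset.univ.filter fun i => x i ≡ k₀ [ZMOD 4])).card : ℤ) := by
    rw [Finset.sum_add_distrib, ← Finset.mul_sum, ← Finset.mul_sum, Finset.sum_sub_distrib,
      ← Finset.mul_sum, Finset.sum_const, hcard]
    simp only [b]
    rw [Finset.sum_boole]
    simp
  have h4 : (4 : ℤ) ∣ (((Finset.univ.filter fun i => x i ≡ k₀ [ZMOD 4])).card : ℤ) := by
    have := Cfsg.Agent.Lib.Helper3.supports_card_dvd (hmk k₀)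
    exact_mod_cast this
  have : ∑ i, x i ^ 2 = ∑ i, (x i ^ 2 - (ε * (2 * x i - 1) + 4 * b i)) +
      ∑ i, (ε * (2 * x i - 1) + 4 * b i) := by
    rw [← Finset.sum_add_distrib]
    apply Finset.sum_congr rfl
    intro i _
    ring
  rw [this, hsum2]
  apply dvd_add hsum1
  obtain ⟨w, hw⟩ := h4
  rw [hw]
  rcases hε01 with h0 | h1
  · rw [h0]; exact ⟨w, by ring⟩
  · rw [h1]
    have hm1 : m % 2 = 1 := by omega
    unfold Int.ModEq at hms
    have : ∃ u, ∑ i, x i = 8 * u + 4 := by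
      refine ⟨(∑ i, x i) / 8, ?_⟩
      omega
    obtain ⟨u, hu⟩ := this
    rw [hu]
    exact ⟨u - 1 + w, by ring⟩

end Cfsg.Agent.S0392
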