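import Cfsg.Statements.S0391
import Mathlib
import Cfsg.Agent.Lib.Helper3.Leech
import Cfsg.Agent.Lib.Helper3.GolayMin
import Cfsg.Agent.S0392
-- import your own Cfsg.Agent.* helpers here

set_option autoImplicit false
open Cfsg

namespace Cfsg.Agent.S0391

/-- Nonzero lattice vectors have sum of squares ≥ 32 (no vectors of customary norm 2). -/
theorem result (x : Cfsg.GolayPt → ℤ) (hx : x ∈ Cfsg.leechLattice) (h0 : x ≠ 0) : 32 ≤ Cfsg.sqNorm x := by
  classical
  have h16 := Cfsg.Agent.S0392.result x hx
  rw [Cfsg.Agent.Lib.Helper3.mem_leechLattice_iff] at hx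
  obtain ⟨m, hm2, hms, hmk⟩ := hx
  unfold Cfsg.sqNorm at h16 ⊢
  have hnn : ∀ i ∈ (Finset.univ : Finset Cfsg.GolayPt), 0 ≤ x i ^ 2 := fun i _ => sq_nonneg _
  have hsq : ∀ i, x i ^ 2 ≤ ∑ j, x j ^ 2 := fun i =>
    Finset.single_le_sum hnn (Finset.mem_univ i)
  have hcard : (Finset.univ : Finset Cfsg.GolayPt).card = 24 := by decide
  by_contra hlt
  rw [not_le] at hlt
  have hS0 : 0 ≤ ∑ j, x j ^ 2 := Finset.sum_nonneg hnn
  have hS : ∑ j, x j ^ 2 = 0 ∨ ∑ j, x j ^ 2 = 16 := by
    obtain ⟨u, hu⟩ := h16
    omega
  rcases hS with hS | hS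
  · apply h0
    funext i
    have := (Finset.sum_eq_zero_iff_of_nonneg hnn).mp hS i (Finset.mem_univ i)
    exact pow_eq_zero_iff (two_ne_zero) |>.mp this
  · by_cases hm : m % 2 = 1
    · -- odd case
      have hge : ∀ i ∈ (Finset.univ : Finset Cfsg.GolayPt), (1 : ℤ) ≤ x i ^ 2 := by
        intro i _
        have h1 := hm2 i
        have hne : x i ≠ 0 := by
          intro h; rw [h] at h1; unfold Int.ModEq at h1; omega
        have : 0 < x i ^ 2 := by positivity
        omega
      have := Finset.sum_le_sum hge
      rw [Finset.sum_const, hcard] at this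
      simp only [nsmul_eq_mul, Nat.cast_ofNat, mul_one] at this
      linarith
    · by_cases h2 : ∃ i, x i ≡ 2 [ZMOD 4]
      · obtain ⟨i0, hi0⟩ := h2
        set F := Finset.univ.filter fun i => x i ≡ 2 [ZMOD 4] with hF
        have hFne : F.Nonempty := ⟨i0, by simp [hF, hi0]⟩
        have hF8 := Cfsg.Agent.Lib.Helper3.supports_min_weight (hmk 2) hFne
        have hge : ∀ i ∈ F, (4 : ℤ) ≤ x i ^ 2 := by
          intro i hi
          simp only [hF, Finset.mem_filter, Finset.mem_univ, true_and] at hi
          have : x i ≤ -2 ∨ 2 ≤ x i := by unfold Int.ModEq at hi; omega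
          rcases this with h | h <;> nlinarith
        have h1 := Finset.sum_le_sum hge
        rw [Finset.sum_const] at h1
        have h2 : ∑ i ∈ F, x i ^ 2 ≤ ∑ i, x i ^ 2 :=
          Finset.sum_le_sum_of_subset_of_nonneg (Finset.subset_univ F) (fun i _ _ => sq_nonneg _)
        have h3 : (8 : ℤ) ≤ F.card := by exact_mod_cast hF8
        simp only [nsmul_eq_mul] at h1
        linarith
      · push Not at h2
        have h4 : ∀ i, x i % 4 = 0 := by
          intro i
          have h1 := hm2 i
          have h3 := h2 i
          unfold Int.ModEq at *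
          omega
        have hval : ∀ i, x i = 0 ∨ x i = 4 ∨ x i = -4 := by
          intro i
          have h1 := hsq i
          rw [hS] at h1
          have h5 := h4 i
          have hb : -5 < x i ∧ x i < 5 := by
            constructor <;> nlinarith
          omega
        obtain ⟨j, hj⟩ : ∃ j, x j ≠ 0 := by
          by_contra hall
          push Not at hall
          exact h0 (funext hall)
        have hj16 : x j ^ 2 = 16 := by
          rcases hval j with h | h | h
          · exact absurd h hj
          · rw [h]; norm_num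
          · rw [h]; norm_num
        have hsplit := Finset.add_sum_erase Finset.univ (fun i => x i ^ 2) (Finset.mem_univ j)
        have hrest : ∑ i ∈ Finset.univ.erase j, x i ^ 2 = 0 := by linarith
        have hzero : ∀ i, i ≠ j → x i = 0 := by
          intro i hij
          have := (Finset.sum_eq_zero_iff_of_nonneg (fun i _ => sq_nonneg (x i))).mp hrest i
            (Finset.mem_erase.mpr ⟨hij, Finset.mem_univ i⟩)
          exact pow_eq_zero_iff (two_ne_zero) |>.mp this
        have hsum : ∑ i, x i = x j :=
          Finset.sum_eq_single j (fun i _ hij => hzero i hij) (fun h => absurd (Finset.mem_univ j) h)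
        rw [hsum] at hms
        rcases hval j with h | h | h
        · exact hj h
        · rw [h] at hms; unfold Int.ModEq at hms; omega
        · rw [h] at hms; unfold Int.ModEq at hms; omega

end Cfsg.Agent.S0391
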