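import Cfsg.Statements.S1567
import Mathlib
import Cfsg.Agent.Lib.Helper3.Co0Xi
import Cfsg.Agent.Lib.Helper3.LeechGen
import Cfsg.Agent.Lib.Helper3.LeechMin
import Cfsg.Agent.Lib.Helper21.GolayAutOctads
-- import your own Cfsg.Agent.* helpers here

set_option autoImplicit false
open Cfsg

namespace Cfsg.Agent.S1567

open Cfsg Cfsg.Agent.Lib.Helper3 Cfsg.Agent.Lib.Helper21

theorem twoC_mem_of_gens (H : AddSubgroup (GolayPt → ℤ)) {p q : GolayPt} (hpq : q ≠ p)
    (hd : ∀ i, i ≠ p → d4 i p ∈ H) (hs : s4 p q ∈ H)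
    (hO : ∀ O ∈ octads, twoC O ∈ H) :
    ∀ C ∈ supports (golayCode : Set (GolayPt → ZMod 2)), twoC C ∈ H := by
  classical
  let S : Submodule (ZMod 2) (GolayPt → ZMod 2) :=
    { carrier := {w | w ∈ golayCode ∧ twoC (support₂ w) ∈ H}
      zero_mem' := by
        refine ⟨zero_mem _, ?_⟩
        have : twoC (support₂ (0 : GolayPt → ZMod 2)) = 0 := by
          funext k; unfold twoC support₂; simp
        rw [this]; exact H.zero_mem
      add_mem' := by
        rintro a b ⟨ha, ha'⟩ ⟨hb, hb'⟩
        refine ⟨add_mem ha hb, ?_⟩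
        rw [Cfsg.Agent.Lib.Helper3.support₂_add]
        have hev : (∑ k, (if k ∈ support₂ a ∩ support₂ b then (1:ℤ) else 0)) % 2 = 0 := by
          rw [Finset.sum_boole]
          have h1 : (Finset.univ.filter fun k => k ∈ support₂ a ∩ support₂ b) =
              support₂ a ∩ support₂ b := by
            ext k; simp
          rw [h1]
          have h2 := supports_inter_even (A := support₂ a) (B := support₂ b) ⟨a, ha, rfl⟩ ⟨b, hb, rfl⟩
          omega
        have h4 := four_mul_mem_of_gens H hpq hd hs _ hev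
        have := H.sub_mem (H.add_mem ha' hb') h4
        convert this using 1
        funext k
        simp only [twoC, Pi.sub_apply, Pi.add_apply, Finset.mem_union, Finset.mem_sdiff,
          Finset.mem_inter]
        by_cases h1 : k ∈ support₂ a <;> by_cases h2 : k ∈ support₂ b <;> simp [h1, h2]
      smul_mem' := by
        rintro c w ⟨hw, hw'⟩
        rcases zmod2_cases c with rfl | rfl
        · refine ⟨by simp, ?_⟩
          have : twoC (support₂ ((0 : ZMod 2) • w)) = 0 := by
            funext k; unfold twoC support₂; simp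
          rw [this]; exact H.zero_mem
        · simp only [one_smul]
          exact ⟨hw, hw'⟩ }
  have hle : golayCode ≤ S := by
    apply golayCode_le_of_basis
    intro b hb
    have h1 := basis_octad b hb
    refine ⟨?_, hO _ h1⟩
    obtain ⟨w, hw, hwe⟩ := h1.1
    have := support₂_injective hwe
    rw [← this]; exact hw
  rintro C ⟨w, hw, rfl⟩
  exact (hle hw).2

/-- The rank-24 lattice is the additive subgroup generated by its 196560 minimal vectors. -/
theorem result : AddSubgroup.closure {x : Cfsg.GolayPt → ℤ | x ∈ Cfsg.leechLattice ∧ Cfsg.sqNorm x = 32} = Cfsg.leechLattice := by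
  classical
  apply le_antisymm
  · rw [AddSubgroup.closure_le]
    intro x hx
    exact hx.1
  · have hpq : (some 0 : GolayPt) ≠ none := by decide
    have hmin : ∀ x : GolayPt → ℤ, x ∈ leechLattice → sqNorm x = 32 →
        x ∈ AddSubgroup.closure {x : Cfsg.GolayPt → ℤ | x ∈ Cfsg.leechLattice ∧ Cfsg.sqNorm x = 32} :=
      fun x h1 h2 => AddSubgroup.subset_closure ⟨h1, h2⟩
    have hd : ∀ i, i ≠ (none : GolayPt) → d4 i none ∈
        AddSubgroup.closure {x : Cfsg.GolayPt → ℤ | x ∈ Cfsg.leechLattice ∧ Cfsg.sqNorm x = 32} := by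
      intro i hi
      apply hmin _ (d4_mem hi)
      rw [d4_eq_sv hi, sqNorm_sv 4 (by simp), Finset.card_pair hi]; norm_num
    have hs : s4 (none : GolayPt) (some 0) ∈
        AddSubgroup.closure {x : Cfsg.GolayPt → ℤ | x ∈ Cfsg.leechLattice ∧ Cfsg.sqNorm x = 32} := by
      rw [s4_eq_sv hpq.symm]
      apply hmin _ (sv4_mem (Finset.card_pair hpq.symm) (Finset.empty_subset _))
      rw [sqNorm_sv 4 (Finset.empty_subset _), Finset.card_pair hpq.symm]; norm_num
    have hO : ∀ O ∈ octads, twoC O ∈
        AddSubgroup.closure {x : Cfsg.GolayPt → ℤ | x ∈ Cfsg.leechLattice ∧ Cfsg.sqNorm x = 32} := by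
      intro O hO
      have h1 : twoC O = sv 2 O ∅ := by
        funext k; unfold twoC sv; simp
      rw [h1]
      apply hmin _ (sv2_mem hO (Finset.empty_subset _) (by simp))
      rw [sqNorm_sv 2 (Finset.empty_subset _), hO.2]; norm_num
    have ho : ov ∅ (none : GolayPt) ∈
        AddSubgroup.closure {x : Cfsg.GolayPt → ℤ | x ∈ Cfsg.leechLattice ∧ Cfsg.sqNorm x = 32} :=
      hmin _ (ov_mem empty_mem_supports _) (sqNorm_ov _ _)
    exact leech_le_of_gens _ hpq hd hs (twoC_mem_of_gens _ hpq hd hs hO) ho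

end Cfsg.Agent.S1567
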