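import Cfsg.Statements.S1569
import Mathlib
import Cfsg.Agent.Lib.Helper3.Co0Trans64
-- import your own Cfsg.Agent.* helpers here

set_option autoImplicit false
open scoped Pointwise
open Cfsg

namespace Cfsg.Agent.S1569

open Cfsg Cfsg.Agent.Lib.Helper3 Cfsg.Agent.Lib.Helper21

/-- elements of `Co0` map crosses to crosses -/
theorem cross_map {g : Equiv.Perm leechLattice} (hg : g ∈ Co0) (u : leechLattice)
    {y : GolayPt → ℤ} (hy : y ∈ cross u.1) :
    ∃ hyL : y ∈ leechLattice, (g ⟨y, hyL⟩).1 ∈ cross (g u).1 := by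
  obtain ⟨hyL, hyn, z, hz, hzu⟩ := hy
  refine ⟨hyL, (g _).2, ?_, (g ⟨z, hz⟩).1, (g ⟨z, hz⟩).2, ?_⟩
  · rw [hg.2, hg.2]; exact hyn
  · have h1 : u - ⟨y, hyL⟩ = (2 : ℕ) • (⟨z, hz⟩ : leechLattice) := by
      apply Subtype.ext
      exact hzu
    have h2 := congrArg (co0Hom g hg) h1
    rw [map_sub, map_nsmul] at h2
    simp only [co0Hom_apply] at h2
    have h3 := congrArg Subtype.val h2
    exact h3

theorem famV8_iff (x : GolayPt → ℤ) : x ∈ famV 8 1 ↔
    ∃ (j : GolayPt) (c : ℤ), (c = 8 ∨ c = -8) ∧ x = fun i => if i = j then c else 0 := by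
  constructor
  · rintro ⟨s, T, hs, hT, rfl⟩
    obtain ⟨j, rfl⟩ := Finset.card_eq_one.1 hs
    by_cases hj : j ∈ T
    · refine ⟨j, -8, Or.inr rfl, ?_⟩
      funext i
      unfold sv
      by_cases hi : i = j
      · subst hi; simp [hj]
      · have : i ∉ T := fun h => hi (Finset.mem_singleton.1 (hT h))
        simp [hi, this]
    · refine ⟨j, 8, Or.inl rfl, ?_⟩
      funext i
      unfold sv
      by_cases hi : i = j
      · subst hi; simp [hj]
      · have : i ∉ T := fun h => hi (Finset.mem_singleton.1 (hT h))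
        simp [hi, this]
  · rintro ⟨j, c, hc, rfl⟩
    rcases hc with rfl | rfl
    · refine ⟨{j}, ∅, Finset.card_singleton j, Finset.empty_subset _, ?_⟩
      funext i
      unfold sv
      by_cases hi : i = j <;> simp [hi]
    · refine ⟨{j}, {j}, Finset.card_singleton j, Finset.Subset.refl _, ?_⟩
      funext i
      unfold sv
      by_cases hi : i = j <;> simp [hi]

theorem sqNorm_E0 : sqNorm E0 = 64 := by
  have h : E0 ∈ famV 8 1 := (famV8_iff E0).2 ⟨none, 8, Or.inl rfl, rfl⟩
  exact (famV8_mem h).2

theorem E0_mem : E0 ∈ leechLattice := by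
  have h : E0 ∈ famV 8 1 := (famV8_iff E0).2 ⟨none, 8, Or.inl rfl, rfl⟩
  exact (famV8_mem h).1

/-- an `ev2` vector with nonempty proper `s` is not constant modulo 4 -/
theorem ev2_not_const {s T U W : Finset GolayPt} (hT : T ⊆ s) (hpos : 0 < s.card)
    (hlt : s.card < 24)
    (h : (∀ i, ev2 s T U W i % 4 = 2) ∨ (∀ i, ev2 s T U W i % 4 = 0)) : False := by
  rcases h with h | h
  · obtain ⟨b, hb⟩ := exists_notMem_of_card_lt hlt
    exact hb ((ev2_mod4 hT U W b).2 (h b))
  · obtain ⟨a, ha⟩ := Finset.card_pos.1 hpos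
    have := (ev2_mod4 hT U W a).1 ha
    rw [h a] at this
    norm_num at this

theorem cross_E0 : cross E0 = famV 8 1 := by
  classical
  ext y
  constructor
  · rintro ⟨hyL, hyn, z, hz, hzy⟩
    rw [sqNorm_E0] at hyn
    have hcoord : ∀ i, y i = E0 i - 2 * z i := by
      intro i
      have := congrFun hzy i
      simp only [Pi.sub_apply, Pi.smul_apply, nsmul_eq_mul, Nat.cast_ofNat] at this
      linarith
    have hE4 : ∀ i, E0 i % 4 = 0 := by
      intro i; unfold E0; split_ifs <;> norm_num
    have hconst : (∀ i, y i % 4 = 2) ∨ (∀ i, y i % 4 = 0) := by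
      rcases parity_cases hz with hp | hp
      · right; intro i
        have h1 := hp i; have h2 := hE4 i; have h3 := hcoord i
        omega
      · left; intro i
        have h1 := hp i; have h2 := hE4 i; have h3 := hcoord i
        omega
    have hyeven : ∀ i, y i % 2 = 0 := by
      intro i
      have h2 := hE4 i; have h3 := hcoord i
      omega
    rcases norm64_cases hyL hyn with h | h | h | h | h | h | h | h
    · exact h
    · exfalso
      obtain ⟨s, T, U, W, hs, hT, -, hU, hk, hW, rfl⟩ := h
      have hs' : s = ∅ := hs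
      subst hs'
      have hT' : T = ∅ := Finset.subset_empty.1 hT
      subst hT'
      have h1 : ev2 ∅ ∅ U W = sv 4 U W := by
        funext i
        unfold ev2 sv
        simp
      rw [h1] at hcoord hconst
      -- `z` is even
      have hzeven : ∀ i, z i % 2 = 0 := by
        rcases parity_cases hz with hp | hp
        · exact hp
        · exfalso
          have h2 := sv4_mod4 U W none
          have h3 := hcoord none
          have h4 := hp none
          have h5 := hE4 none
          omega
      have hUdef : ∀ i, i ∈ U ↔ z i % 4 = 2 := by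
        intro i
        have h3 := hcoord i
        have h5 : E0 i = 8 ∨ E0 i = 0 := by unfold E0; split_ifs <;> simp
        have h6 := hzeven i
        constructor
        · intro hi
          have h4 : sv 4 U W i = 4 ∨ sv 4 U W i = -4 := by
            unfold sv
            by_cases h : i ∈ W
            · right; rw [if_pos h]
            · left; rw [if_neg h, if_pos hi]
          rcases h4 with h4 | h4 <;> rcases h5 with h5 | h5 <;> omega
        · intro hi
          by_contra hiU
          have h4 : sv 4 U W i = 0 := sv_notMem hW hiU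
          rcases h5 with h5 | h5 <;> omega
      have hUs := ((even_mem_iff hzeven hUdef).1 hz).1
      have := supports_min_weight hUs (by rw [← Finset.card_pos, hk]; norm_num)
      omega
    · exfalso
      obtain ⟨s, T, U, W, hs, hT, -, hU, hk, hW, rfl⟩ := h
      exact ev2_not_const hT (by rw [hs.2]; norm_num) (by rw [hs.2]; norm_num) hconst
    · exfalso
      obtain ⟨s, T, j, hs, hT, -, hj, rfl⟩ := h
      exact ev2_not_const hT (by rw [hs.2]; norm_num) (by rw [hs.2]; norm_num) hconst
    · exfalso
      obtain ⟨s, T, U, W, hs, hT, -, hU, hk, hW, rfl⟩ := h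
      exact ev2_not_const hT (by rw [hs.2]; norm_num) (by rw [hs.2]; norm_num) hconst
    · exfalso
      obtain ⟨s, T, U, W, hs, hT, -, hU, hk, hW, rfl⟩ := h
      exact ev2_not_const hT (by rw [hs.2]; norm_num) (by rw [hs.2]; norm_num) hconst
    · exfalso
      have := famO_odd h none
      have := hyeven none
      omega
    · exfalso
      have := famO_odd h none
      have := hyeven none
      omega
  · intro h
    obtain ⟨hyL, hyn⟩ := famV8_mem h
    refine ⟨hyL, by rw [hyn, sqNorm_E0], ?_⟩
    obtain ⟨j, c, hc, rfl⟩ := (famV8_iff y).1 h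
    obtain ⟨c', hc'⟩ : ∃ c' : ℤ, c = 2 * c' ∧ (c' = 4 ∨ c' = -4) := by
      rcases hc with rfl | rfl
      · exact ⟨4, by norm_num, Or.inl rfl⟩
      · exact ⟨-4, by norm_num, Or.inr rfl⟩
    refine ⟨fun i => (if i = none then 4 else 0) - (if i = j then c' else 0), ?_, ?_⟩
    · have h4 : ∀ i, ((if i = none then (4 : ℤ) else 0) - (if i = j then c' else 0)) % 4 = 0 := by
        intro i
        rcases hc'.2 with rfl | rfl <;> split_ifs <;> norm_num
      rw [even_mem_iff (C := ∅) (fun i => by have := h4 i; omega)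
        (fun i => by have := h4 i; simp only [Finset.notMem_empty, false_iff]; omega)]
      refine ⟨empty_mem_supports, ?_⟩
      rw [Finset.sum_sub_distrib]
      simp only [Finset.sum_ite_eq', Finset.mem_univ, if_true]
      rcases hc'.2 with rfl | rfl <;> norm_num
    · funext i
      simp only [Pi.sub_apply, Pi.smul_apply, nsmul_eq_mul, Nat.cast_ofNat, E0]
      rw [hc'.1]
      split_ifs <;> ring

/-- The cross through a lattice vector of customary norm 8 has exactly 48 members. -/
theorem result (x : Cfsg.GolayPt → ℤ) (hx : x ∈ Cfsg.leechLattice) (hxn : Cfsg.sqNorm x = 64) : (Cfsg.cross x).ncard = 48 := by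
  classical
  have hconn := (connF_norm64 hx hxn).symm
  obtain ⟨hE, g, hg, hgx⟩ := hconn
  have hgx' : g ⟨E0, hE⟩ = ⟨x, hx⟩ := Subtype.ext hgx
  rw [← ncard_H1, ← cross_E0]
  symm
  refine Set.ncard_congr (fun y hy => (g ⟨y, hy.1⟩).1) ?_ ?_ ?_
  · intro y hy
    obtain ⟨hyL, h⟩ := cross_map hg ⟨E0, hE⟩ hy
    rw [hgx'] at h
    exact h
  · intro a b ha hb hab
    have := g.injective (Subtype.ext hab)
    exact congrArg Subtype.val this
  · intro b hb
    have hb' : b ∈ cross (⟨x, hx⟩ : leechLattice).1 := hb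
    obtain ⟨hbL, h⟩ := cross_map (inv_mem hg) ⟨x, hx⟩ hb'
    have h1 : g⁻¹ ⟨x, hx⟩ = ⟨E0, hE⟩ := by
      rw [← hgx']; simp
    rw [h1] at h
    refine ⟨(g⁻¹ ⟨b, hbL⟩).1, h, ?_⟩
    simp

end Cfsg.Agent.S1569
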