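import Cfsg.Statements.S5553
import Mathlib
import Cfsg.Agent.Lib.Helper3.Leech
import Cfsg.Agent.Lib.Helper3.Golay
import Cfsg.Agent.Lib.Helper21.GolayFacts
import Cfsg.Agent.Lib.Helper21.GolaySteiner
-- import your own Cfsg.Agent.* helpers here

set_option autoImplicit false
open Cfsg

namespace Cfsg.Agent.S5553

open Cfsg.Agent.Lib.Helper3 Cfsg.Agent.Lib.Helper21

/-- even vectors of the lattice -/
def evenLeech : AddSubgroup (GolayPt → ℤ) where
  carrier := {x | x ∈ leechLattice ∧ ∀ i, (2 : ℤ) ∣ x i}
  zero_mem' := ⟨leechLattice.zero_mem, fun i => by simp⟩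
  add_mem' := fun {a b} ha hb =>
    ⟨leechLattice.add_mem ha.1 hb.1, fun i => by simpa using dvd_add (ha.2 i) (hb.2 i)⟩
  neg_mem' := fun {a} ha =>
    ⟨leechLattice.neg_mem ha.1, fun i => by simpa using (dvd_neg.mpr (ha.2 i))⟩

/-- the isotropic sublattice -/
def isoA : AddSubgroup (GolayPt → ℤ) where
  carrier := {x | x ∈ leechLattice ∧ ((∀ i, (4 : ℤ) ∣ x i) ∨ (∀ i, (4 : ℤ) ∣ x i - 2))}
  zero_mem' := ⟨leechLattice.zero_mem, Or.inl fun i => by simp⟩
  add_mem' := by
    rintro a b ⟨ha, ha'⟩ ⟨hb, hb'⟩
    refine ⟨leechLattice.add_mem ha hb, ?_⟩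
    rcases ha' with ha' | ha' <;> rcases hb' with hb' | hb'
    · left; intro i; have := ha' i; have := hb' i; simp only [Pi.add_apply]; omega
    · right; intro i; have := ha' i; have := hb' i; simp only [Pi.add_apply]; omega
    · right; intro i; have := ha' i; have := hb' i; simp only [Pi.add_apply]; omega
    · left; intro i; have := ha' i; have := hb' i; simp only [Pi.add_apply]; omega
  neg_mem' := by
    rintro a ⟨ha, ha'⟩
    refine ⟨leechLattice.neg_mem ha, ?_⟩
    rcases ha' with ha' | ha'
    · left; intro i; have := ha' i; simp only [Pi.neg_apply]; omega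
    · right; intro i; have := ha' i; simp only [Pi.neg_apply]; omega

theorem isoA_le_even : isoA ≤ evenLeech := by
  rintro x ⟨hx, h | h⟩
  · exact ⟨hx, fun i => by have := h i; omega⟩
  · exact ⟨hx, fun i => by have := h i; omega⟩

theorem even_le : evenLeech ≤ leechLattice := fun x hx => hx.1

theorem zmod2_fun_ext {w w' : GolayPt → ZMod 2} (h : support₂ w = support₂ w') : w = w' := by
  funext i
  have hi : i ∈ support₂ w ↔ i ∈ support₂ w' := by rw [h]
  simp only [support₂, Finset.mem_filter, Finset.mem_univ, true_and] at hi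
  by_cases h0 : w i = 0
  · have : w' i = 0 := by
      by_contra h1
      exact (hi.mpr h1) h0
    rw [h0, this]
  · have h1 : w' i ≠ 0 := hi.mp h0
    rw [zmod2_eq_one_of_ne_zero h0, zmod2_eq_one_of_ne_zero h1]

/-- halving map on even vectors, as a word -/
def halfWord (x : GolayPt → ℤ) : GolayPt → ZMod 2 := fun i => ((x i / 2 : ℤ) : ZMod 2)

theorem halfWord_ne_zero_iff {x : GolayPt → ℤ} (hx : ∀ i, (2 : ℤ) ∣ x i) (i : GolayPt) :
    halfWord x i ≠ 0 ↔ x i ≡ 2 [ZMOD 4] := by
  unfold halfWord
  rw [Ne, ZMod.intCast_zmod_eq_zero_iff_dvd]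
  have := hx i
  unfold Int.ModEq
  constructor
  · intro h; omega
  · intro h; omega

theorem halfWord_mem {x : GolayPt → ℤ} (hx : x ∈ evenLeech) : halfWord x ∈ golayCode := by
  obtain ⟨hxL, hx2⟩ := hx
  rw [mem_leechLattice_iff] at hxL
  obtain ⟨m, -, -, hk⟩ := hxL
  obtain ⟨w, hw, hws⟩ := hk 2
  have : halfWord x = w := by
    apply zmod2_fun_ext
    rw [hws]
    ext i
    simp only [support₂, Finset.mem_filter, Finset.mem_univ, true_and]
    exact halfWord_ne_zero_iff hx2 i
  rw [this]; exact hw

theorem halfWord_add {x y : GolayPt → ℤ} (hx : ∀ i, (2 : ℤ) ∣ x i) :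
    halfWord (x + y) = halfWord x + halfWord y := by
  funext i
  unfold halfWord
  simp only [Pi.add_apply]
  rw [Int.add_ediv_of_dvd_left (hx i)]
  push_cast
  rfl

/-- the halving homomorphism -/
def halfHom : evenLeech →+ golayCode where
  toFun x := ⟨halfWord x.1, halfWord_mem x.2⟩
  map_zero' := by
    apply Subtype.ext
    funext i
    simp [halfWord]
  map_add' x y := by
    apply Subtype.ext
    exact halfWord_add x.2.2

/-- twice the indicator of a code word lies in the lattice -/
theorem twice_mem {w : GolayPt → ZMod 2} (hw : w ∈ golayCode) :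
    (fun i => if w i = 0 then (0 : ℤ) else 2) ∈ evenLeech := by
  classical
  set x : GolayPt → ℤ := fun i => if w i = 0 then (0 : ℤ) else 2 with hxdef
  have hx : ∀ i, (w i = 0 ∧ x i = 0) ∨ (w i ≠ 0 ∧ x i = 2) := by
    intro i
    by_cases h0 : w i = 0
    · exact Or.inl ⟨h0, if_pos h0⟩
    · exact Or.inr ⟨h0, if_neg h0⟩
  refine ⟨?_, fun i => ?_⟩
  swap
  · rcases hx i with ⟨-, h⟩ | ⟨-, h⟩ <;> rw [h] <;> norm_num
  rw [mem_leechLattice_iff]
  refine ⟨0, fun i => ?_, ?_, fun k => ?_⟩
  · unfold Int.ModEq
    rcases hx i with ⟨-, h⟩ | ⟨-, h⟩ <;> rw [h] <;> norm_num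
  · have h4 := golay_card_dvd hw
    have hsum : ∑ i, x i = 2 * ((support₂ w).card : ℤ) := by
      have : ∀ i, x i = 2 * (if w i ≠ 0 then 1 else 0) := by
        intro i
        rcases hx i with ⟨h0, h⟩ | ⟨h0, h⟩
        · rw [h, if_neg (not_not.mpr h0)]; norm_num
        · rw [h, if_pos h0]; norm_num
      simp_rw [this]
      rw [← Finset.mul_sum, Finset.sum_boole]
      rfl
    rw [hsum]
    obtain ⟨t, ht⟩ := h4
    rw [ht]
    unfold Int.ModEq
    push_cast
    omega
  · obtain ⟨r, hr, hkr⟩ : ∃ r : ℤ, (r = 0 ∨ r = 1 ∨ r = 2 ∨ r = 3) ∧ k % 4 = r :=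
      ⟨k % 4, by omega, rfl⟩
    rcases hr with rfl | rfl | rfl | rfl
    · refine ⟨1 + w, golayCode.add_mem one_mem_golay hw, ?_⟩
      rw [support₂_one_add]
      ext i
      simp only [Finset.mem_compl, support₂, Finset.mem_filter, Finset.mem_univ, true_and,
        not_not]
      unfold Int.ModEq
      rcases hx i with ⟨h0, h⟩ | ⟨h0, h⟩
      · rw [h]; exact ⟨fun _ => by omega, fun _ => h0⟩
      · rw [h]; exact ⟨fun h1 => absurd h1 h0, fun h1 => by exfalso; omega⟩
    · refine ⟨0, golayCode.zero_mem, ?_⟩
      ext i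
      simp only [support₂, Finset.mem_filter, Finset.mem_univ, true_and, Pi.zero_apply, ne_eq,
        not_true_eq_false, false_iff]
      unfold Int.ModEq
      rcases hx i with ⟨h0, h⟩ | ⟨h0, h⟩ <;> rw [h] <;> omega
    · refine ⟨w, hw, ?_⟩
      ext i
      simp only [support₂, Finset.mem_filter, Finset.mem_univ, true_and]
      unfold Int.ModEq
      rcases hx i with ⟨h0, h⟩ | ⟨h0, h⟩
      · rw [h]; exact ⟨fun h1 => absurd h0 h1, fun h1 => by exfalso; omega⟩
      · rw [h]; exact ⟨fun _ => by omega, fun _ => h0⟩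
    · refine ⟨0, golayCode.zero_mem, ?_⟩
      ext i
      simp only [support₂, Finset.mem_filter, Finset.mem_univ, true_and, Pi.zero_apply, ne_eq,
        not_true_eq_false, false_iff]
      unfold Int.ModEq
      rcases hx i with ⟨h0, h⟩ | ⟨h0, h⟩ <;> rw [h] <;> omega

theorem halfHom_surjective : Function.Surjective halfHom := by
  rintro ⟨w, hw⟩
  refine ⟨⟨_, twice_mem hw⟩, ?_⟩
  apply Subtype.ext
  funext i
  show halfWord (fun i => if w i = 0 then (0 : ℤ) else 2) i = w i
  unfold halfWord
  dsimp only
  by_cases h0 : w i = 0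
  · rw [if_pos h0, h0]; norm_num
  · rw [if_neg h0, zmod2_eq_one_of_ne_zero h0]; norm_num

/-- the element `1` of the code -/
def oneC : golayCode := ⟨1, one_mem_golay⟩

/-- the subgroup `{0, 1}` of the code -/
def subS : AddSubgroup golayCode where
  carrier := {y | y = 0 ∨ y = oneC}
  zero_mem' := Or.inl rfl
  add_mem' := by
    have h11 : oneC + oneC = 0 := by
      apply Subtype.ext
      funext i
      show (1 : ZMod 2) + 1 = 0
      decide
    rintro a b (rfl | rfl) (rfl | rfl)
    · left; simp
    · right; simp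
    · right; simp
    · left; exact h11
  neg_mem' := by
    have h1 : -oneC = oneC := by
      apply Subtype.ext
      funext i
      show -(1 : ZMod 2) = 1
      decide
    rintro a (rfl | rfl)
    · left; simp
    · right; exact h1

theorem oneC_ne_zero : oneC ≠ 0 := by
  intro h
  have := congrArg (fun y : golayCode => (y : GolayPt → ZMod 2) none) h
  simp [oneC] at this

theorem card_subS : Nat.card subS = 2 := by
  have : (subS : Set golayCode) = {0, oneC} := by
    ext y
    simp [subS]
  rw [← SetLike.coe_sort_coe, Nat.card_coe_set_eq, this, Set.ncard_pair oneC_ne_zero.symm]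

theorem index_subS : subS.index = 2 ^ 11 := by
  have h1 := subS.card_mul_index
  have h2 : Nat.card golayCode = 4096 := by
    rw [← ncard_golayCode]
    rfl
  rw [card_subS, h2] at h1
  omega

theorem mem_isoA_iff (x : GolayPt → ℤ) (hx : x ∈ evenLeech) :
    x ∈ isoA ↔ halfHom ⟨x, hx⟩ ∈ subS := by
  have hxL := hx.1
  have hx2 := hx.2
  constructor
  · rintro ⟨-, h | h⟩
    · left
      apply Subtype.ext
      funext i
      show halfWord x i = 0
      unfold halfWord
      rw [ZMod.intCast_zmod_eq_zero_iff_dvd]
      have := h i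
      push_cast
      omega
    · right
      apply Subtype.ext
      funext i
      show halfWord x i = 1
      apply zmod2_eq_one_of_ne_zero
      rw [halfWord_ne_zero_iff hx2]
      have := h i
      unfold Int.ModEq
      omega
  · rintro (h | h)
    · refine ⟨hxL, Or.inl fun i => ?_⟩
      have h1 := congrArg (fun y : golayCode => (y : GolayPt → ZMod 2) i) h
      have h2 : halfWord x i = 0 := h1
      have h3 : ¬ (x i ≡ 2 [ZMOD 4]) := by
        rw [← halfWord_ne_zero_iff hx2]
        exact fun hne => hne h2
      have := hx2 i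
      unfold Int.ModEq at h3
      omega
    · refine ⟨hxL, Or.inr fun i => ?_⟩
      have h1 := congrArg (fun y : golayCode => (y : GolayPt → ZMod 2) i) h
      have h2 : halfWord x i = 1 := h1
      have h3 : x i ≡ 2 [ZMOD 4] := by
        rw [← halfWord_ne_zero_iff hx2, h2]
        decide
      unfold Int.ModEq at h3
      omega

theorem relIndex_isoA_even : isoA.relIndex evenLeech = 2 ^ 11 := by
  have h : isoA.addSubgroupOf evenLeech = subS.comap halfHom := by
    ext x
    rw [AddSubgroup.mem_addSubgroupOf, AddSubgroup.mem_comap]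
    exact mem_isoA_iff x.1 x.2
  rw [AddSubgroup.relIndex, h, AddSubgroup.index_comap_of_surjective _ halfHom_surjective,
    index_subS]

/-- the parity homomorphism on the lattice -/
def parHom : leechLattice →+ ZMod 2 where
  toFun x := ((x.1 none : ℤ) : ZMod 2)
  map_zero' := by simp
  map_add' x y := by simp

/-- an odd vector of the lattice -/
def oddVec : GolayPt → ℤ := fun i => if i = none then -3 else 1

theorem oddVec_mem : oddVec ∈ leechLattice := by
  classical
  rw [mem_leechLattice_iff]
  refine ⟨1, fun i => ?_, ?_, fun k => ?_⟩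
  · unfold oddVec Int.ModEq; split_ifs <;> decide
  · have : ∑ i, oddVec i = 20 := by decide
    rw [this]; decide
  · obtain ⟨r, hr, hkr⟩ : ∃ r : ℤ, (r = 0 ∨ r = 1 ∨ r = 2 ∨ r = 3) ∧ k % 4 = r :=
      ⟨k % 4, by omega, rfl⟩
    rcases hr with rfl | rfl | rfl | rfl
    · refine ⟨0, golayCode.zero_mem, ?_⟩
      ext i
      simp only [support₂, Finset.mem_filter, Finset.mem_univ, true_and, Pi.zero_apply]
      unfold Int.ModEq oddVec
      constructor
      · intro h; exact absurd rfl h
      · intro h; split_ifs at h <;> omega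
    · refine ⟨1, one_mem_golay, ?_⟩
      ext i
      simp only [support₂, Finset.mem_filter, Finset.mem_univ, true_and, Pi.one_apply]
      unfold Int.ModEq oddVec
      constructor
      · intro _; split_ifs <;> omega
      · intro _; decide
    · refine ⟨0, golayCode.zero_mem, ?_⟩
      ext i
      simp only [support₂, Finset.mem_filter, Finset.mem_univ, true_and, Pi.zero_apply]
      unfold Int.ModEq oddVec
      constructor
      · intro h; exact absurd rfl h
      · intro h; split_ifs at h <;> omega
    · refine ⟨0, golayCode.zero_mem, ?_⟩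
      ext i
      simp only [support₂, Finset.mem_filter, Finset.mem_univ, true_and, Pi.zero_apply]
      unfold Int.ModEq oddVec
      constructor
      · intro h; exact absurd rfl h
      · intro h; split_ifs at h <;> omega

theorem relIndex_even : evenLeech.relIndex leechLattice = 2 := by
  have h : evenLeech.addSubgroupOf leechLattice = parHom.ker := by
    ext x
    rw [AddSubgroup.mem_addSubgroupOf, AddMonoidHom.mem_ker]
    show (x : GolayPt → ℤ) ∈ evenLeech ↔ ((x.1 none : ℤ) : ZMod 2) = 0
    rw [ZMod.intCast_zmod_eq_zero_iff_dvd]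
    constructor
    · intro hx; exact_mod_cast hx.2 none
    · intro hx
      refine ⟨x.2, fun i => ?_⟩
      have hxL := x.2
      rw [mem_leechLattice_iff] at hxL
      obtain ⟨m, hm, -, -⟩ := hxL
      have h1 := hm i
      have h2 := hm none
      unfold Int.ModEq at h1 h2
      push_cast at hx
      omega
  have hsurj : Function.Surjective parHom := by
    intro z
    rcases (show z = 0 ∨ z = 1 by revert z; decide) with rfl | rfl
    · exact ⟨0, by simp⟩
    · refine ⟨⟨oddVec, oddVec_mem⟩, ?_⟩
      show ((oddVec none : ℤ) : ZMod 2) = 1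
      unfold oddVec
      simp
      decide
  rw [AddSubgroup.relIndex, h, AddSubgroup.index_ker, AddMonoidHom.range_eq_top.mpr hsurj]
  simp

/-- The Leech lattice of the definitions has an additive subgroup A containing twice the lattice, of index 2^12 in the lattice, all of whose vectors have squared length divisible by 32: the invariant quadratic form 'squared length over 16 modulo 2' on the lattice modulo twice the lattice (a 24-dimensional space over the field with two elements) vanishes on a 12-dimensional subspace, so it is of plus type. -/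
theorem result : ∃ A : AddSubgroup (Cfsg.GolayPt → ℤ), A ≤ Cfsg.leechLattice ∧ (∀ v ∈ Cfsg.leechLattice, (2 : ℤ) • v ∈ A) ∧ (A.addSubgroupOf Cfsg.leechLattice).index = 2 ^ 12 ∧ ∀ v ∈ A, (32 : ℤ) ∣ Cfsg.sqNorm v := by
  refine ⟨isoA, fun x hx => hx.1, ?_, ?_, ?_⟩
  · intro v hv
    refine ⟨leechLattice.zsmul_mem hv 2, ?_⟩
    rw [mem_leechLattice_iff] at hv
    obtain ⟨m, hm, -, -⟩ := hv
    rcases Int.emod_two_eq_zero_or_one m with h | h
    · left
      intro i
      have := hm i
      unfold Int.ModEq at this
      simp only [Pi.smul_apply, smul_eq_mul]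
      omega
    · right
      intro i
      have := hm i
      unfold Int.ModEq at this
      simp only [Pi.smul_apply, smul_eq_mul]
      omega
  · have h := AddSubgroup.relIndex_mul_relIndex isoA evenLeech leechLattice isoA_le_even even_le
    rw [relIndex_isoA_even, relIndex_even] at h
    rw [← AddSubgroup.relIndex, ← h]
    norm_num
  · rintro v ⟨hvL, h | h⟩
    · unfold Cfsg.sqNorm
      rw [mem_leechLattice_iff] at hvL
      obtain ⟨m, hm, hs, -⟩ := hvL
      have hterm : ∀ i, (32 : ℤ) ∣ v i ^ 2 - 4 * v i := by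
        intro i
        obtain ⟨t, ht⟩ := h i
        rw [ht]
        have e : (4 * t) ^ 2 - 4 * (4 * t) = 16 * (t * (t - 1)) := by ring
        rw [e]
        have h2 : (2 : ℤ) ∣ t * (t - 1) := by
          rcases Int.emod_two_eq_zero_or_one t with h | h
          · exact Dvd.dvd.mul_right (Int.dvd_of_emod_eq_zero h) _
          · exact Dvd.dvd.mul_left (by omega) _
        obtain ⟨s, hs⟩ := h2
        exact ⟨s, by rw [hs]; ring⟩
      have hsum := Finset.dvd_sum (s := Finset.univ) (fun i _ => hterm i)
      rw [Finset.sum_sub_distrib, ← Finset.mul_sum] at hsum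
      have hm2 : (2 : ℤ) ∣ m := by
        have h1 := hm none
        have h2 := h none
        unfold Int.ModEq at h1
        omega
      have h8 : (8 : ℤ) ∣ ∑ i, v i := by
        unfold Int.ModEq at hs
        omega
      obtain ⟨a, ha⟩ := h8
      obtain ⟨b, hb⟩ := hsum
      exact ⟨b + a, by rw [ha] at hb; linarith⟩
    · unfold Cfsg.sqNorm
      have hterm : ∀ i, (32 : ℤ) ∣ v i ^ 2 - 4 := by
        intro i
        obtain ⟨t, ht⟩ := h i
        have hv : v i = 4 * t + 2 := by linarith
        rw [hv]
        have e : (4 * t + 2) ^ 2 - 4 = 16 * (t * (t + 1)) := by ring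
        rw [e]
        have h2 : (2 : ℤ) ∣ t * (t + 1) := by
          rcases Int.emod_two_eq_zero_or_one t with h | h
          · exact Dvd.dvd.mul_right (Int.dvd_of_emod_eq_zero h) _
          · exact Dvd.dvd.mul_left (by omega) _
        obtain ⟨s, hs⟩ := h2
        exact ⟨s, by rw [hs]; ring⟩
      have hsum := Finset.dvd_sum (s := Finset.univ) (fun i _ => hterm i)
      rw [Finset.sum_sub_distrib, Finset.sum_const] at hsum
      have hcard : (Finset.univ : Finset Cfsg.GolayPt).card = 24 := by decide
      rw [hcard] at hsum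
      have e : (24 : ℕ) • (4 : ℤ) = 96 := by norm_num
      rw [e] at hsum
      obtain ⟨b, hb⟩ := hsum
      exact ⟨b + 3, by linarith⟩

end Cfsg.Agent.S5553
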