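import Cfsg.Statements.S1571
import Mathlib
import Cfsg.Agent.Lib.Helper3.Co0Perm
import Cfsg.Agent.Lib.Helper3.Co0Sign
import Cfsg.Agent.S5553
import Cfsg.Agent.Lib.Helper21.GolayChain
import Cfsg.Agent.Lib.Helper21.GolayCount
-- import your own Cfsg.Agent.* helpers here

set_option autoImplicit false
open scoped Pointwise
open Cfsg

namespace Cfsg.Agent.S1571

open Cfsg.Agent.Lib.Helper3

theorem e8_val (j : GolayPt) : (e8 j).1 = Pi.single j (8 : ℤ) := by
  funext i
  rw [e8_apply, Pi.single_apply]

theorem e8_cross (j : GolayPt) : (e8 j).1 ∈ stdCross := ⟨j, 8, Or.inl rfl, e8_val j⟩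

theorem smul_eq (g : ↥Co0) (v : ↥leechLattice) : g • v = g.1 v := rfl

theorem single_inj {i i' : GolayPt} {s s' : ℤ} (hs : s ≠ 0)
    (h : (Pi.single i s : GolayPt → ℤ) = Pi.single i' s') :
    i = i' ∧ s = s' := by
  have h1 := congrFun h i
  rw [Pi.single_eq_same, Pi.single_apply] at h1
  by_cases hi : i = i'
  · rw [if_pos hi] at h1; exact ⟨hi, h1⟩
  · rw [if_neg hi] at h1; exact absurd h1 hs

/-- structure of a cross-stabilising element -/
theorem structure_of_stab (g : Equiv.Perm leechLattice) (hg : g ∈ Co0)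
    (hstab : ∀ v : ↥leechLattice, (v : GolayPt → ℤ) ∈ stdCross → ((g v : ↥leechLattice) : GolayPt → ℤ) ∈ stdCross) :
    ∃ σ ∈ M24, ∃ c ∈ supports (golayCode : Set (GolayPt → ZMod 2)),
      ∀ v : ↥leechLattice, ((g v : ↥leechLattice) : GolayPt → ℤ) = signedPerm σ c (v : GolayPt → ℤ) := by
  classical
  choose τ s hs hτ using fun j => hstab (e8 j) (e8_cross j)
  -- injectivity of τ
  have hneg : ∀ v : leechLattice, g (-v) = -(g v) := fun v => map_neg (co0Hom g hg) v
  have hinj : Function.Injective τ := by
    intro j j' hjj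
    by_contra hne
    have h1 := hτ j
    have h2 := hτ j'
    rw [← hjj] at h2
    rcases hs j with e1 | e1 <;> rcases hs j' with e2 | e2
    · have : g (e8 j) = g (e8 j') := by apply Subtype.ext; rw [h1, h2, e1, e2]
      have := g.injective this
      have := congrArg (fun v : leechLattice => v.1 j) this
      simp only [e8_apply, if_true, if_neg hne] at this
      norm_num at this
    · have : g (e8 j) = g (-(e8 j')) := by
        rw [hneg]; apply Subtype.ext
        show (g (e8 j)).1 = -(g (e8 j')).1
        rw [h1, h2, e1, e2]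
        funext k; simp only [Pi.single_apply, Pi.neg_apply]; split_ifs <;> norm_num
      have := g.injective this
      have := congrArg (fun v : leechLattice => v.1 j) this
      have e : (-(e8 j')).1 j = -((e8 j').1 j) := rfl
      simp only [e, e8_apply, if_true, if_neg hne] at this
      norm_num at this
    · have : g (e8 j) = g (-(e8 j')) := by
        rw [hneg]; apply Subtype.ext
        show (g (e8 j)).1 = -(g (e8 j')).1
        rw [h1, h2, e1, e2]
        funext k; simp only [Pi.single_apply, Pi.neg_apply]; split_ifs <;> norm_num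
      have := g.injective this
      have := congrArg (fun v : leechLattice => v.1 j) this
      have e : (-(e8 j')).1 j = -((e8 j').1 j) := rfl
      simp only [e, e8_apply, if_true, if_neg hne] at this
      norm_num at this
    · have : g (e8 j) = g (e8 j') := by apply Subtype.ext; rw [h1, h2, e1, e2]
      have := g.injective this
      have := congrArg (fun v : leechLattice => v.1 j) this
      simp only [e8_apply, if_true, if_neg hne] at this
      norm_num at this
  have hbij : Function.Bijective τ := Finite.injective_iff_bijective.mp hinj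
  set σ : Equiv.Perm GolayPt := Equiv.ofBijective τ hbij with hσ
  have hσapp : ∀ j, σ j = τ j := fun j => rfl
  have hσsymm : ∀ i, τ (σ.symm i) = i := fun i => σ.apply_symm_apply i
  -- coordinates
  have hcoord : ∀ (v : leechLattice) (i : GolayPt),
      8 * (g v).1 i = v.1 (σ.symm i) * s (σ.symm i) := by
    intro v i
    rw [eight_mul_coord g hg v i, Finset.sum_eq_single (σ.symm i)]
    · rw [hτ, hσsymm, Pi.single_eq_same]
    · intro j _ hj
      rw [hτ, Pi.single_apply, if_neg, mul_zero]
      intro h
      apply hj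
      rw [← hσapp] at h
      rw [h, Equiv.symm_apply_apply]
    · intro h; exact absurd (Finset.mem_univ _) h
  set c : Finset GolayPt := Finset.univ.filter (fun i => s (σ.symm i) = -8) with hc
  have hform : ∀ v : leechLattice, (g v).1 = signedPerm σ c v.1 := by
    intro v
    funext i
    have := hcoord v i
    unfold signedPerm
    by_cases hi : i ∈ c
    · rw [if_pos hi]
      rw [hc, Finset.mem_filter] at hi
      rw [hi.2] at this
      linarith
    · rw [if_neg hi]
      rw [hc, Finset.mem_filter] at hi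
      have h8 : s (σ.symm i) = 8 := by
        rcases hs (σ.symm i) with h | h
        · exact h
        · exact absurd ⟨Finset.mem_univ _, h⟩ hi
      rw [h8] at this
      linarith
  -- σ maps supports into supports
  have hmaps : ∀ C ∈ supports (golayCode : Set (GolayPt → ZMod 2)),
      σ • C ∈ supports (golayCode : Set (GolayPt → ZMod 2)) := by
    intro C hC
    have hv : (g ⟨twoC C, twoC_mem hC⟩).1 ∈ leechLattice := (g ⟨twoC C, twoC_mem hC⟩).2
    rw [hform, mem_leechLattice_iff] at hv
    obtain ⟨m, hm2, hms, hmk⟩ := hv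
    convert hmk 2 using 1
    ext i
    rw [← Finset.inv_smul_mem_iff]
    simp only [Finset.mem_filter, Finset.mem_univ, true_and, Equiv.Perm.smul_def]
    have e : σ⁻¹ i = σ.symm i := rfl
    rw [e]
    unfold signedPerm twoC Int.ModEq
    constructor
    · intro h; rw [if_pos h]; split_ifs <;> omega
    · intro h; by_contra hn; rw [if_neg hn] at h; split_ifs at h <;> omega
  have hσM : σ ∈ M24 := by
    show σ • supports (golayCode : Set (GolayPt → ZMod 2)) = supports (golayCode : Set (GolayPt → ZMod 2))
    apply Set.eq_of_subset_of_ncard_le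
    · rintro _ ⟨b, hb, rfl⟩
      exact hmaps b hb
    · rw [← Set.image_smul, Set.ncard_image_of_injective _ (MulAction.injective σ)]
    · exact Set.toFinite _
  refine ⟨σ, hσM, c, ?_, hform⟩
  -- c is a codeword
  have hv : (g ⟨Cfsg.Agent.S5553.oddVec, Cfsg.Agent.S5553.oddVec_mem⟩).1 ∈ leechLattice :=
    (g ⟨Cfsg.Agent.S5553.oddVec, Cfsg.Agent.S5553.oddVec_mem⟩).2
  rw [hform, mem_leechLattice_iff] at hv
  obtain ⟨m, hm2, hms, hmk⟩ := hv
  convert hmk 3 using 1
  ext i
  simp only [Finset.mem_filter, Finset.mem_univ, true_and]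
  unfold signedPerm Cfsg.Agent.S5553.oddVec Int.ModEq
  constructor
  · intro h; rw [if_pos h]; split_ifs <;> omega
  · intro h; by_contra hn; rw [if_neg hn] at h; split_ifs at h <;> omega

/-- the monomial element of Co0 -/
def mono (σ : Equiv.Perm GolayPt) (hσ : σ ∈ M24) (C : Finset GolayPt)
    (hC : C ∈ supports (golayCode : Set (GolayPt → ZMod 2))) : Equiv.Perm leechLattice :=
  sgnL C hC * permL σ⁻¹ (inv_mem hσ)

theorem mono_mem (σ : Equiv.Perm GolayPt) (hσ : σ ∈ M24) (C : Finset GolayPt)
    (hC : C ∈ supports (golayCode : Set (GolayPt → ZMod 2))) : mono σ hσ C hC ∈ Co0 :=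
  Co0.mul_mem (sgnL_mem C hC) (permL_mem _ _)

theorem mono_apply (σ : Equiv.Perm GolayPt) (hσ : σ ∈ M24) (C : Finset GolayPt)
    (hC : C ∈ supports (golayCode : Set (GolayPt → ZMod 2))) (v : leechLattice) :
    (mono σ hσ C hC v).1 = signedPerm σ C v.1 := rfl

theorem signedPerm_single (σ : Equiv.Perm GolayPt) (C : Finset GolayPt) (j : GolayPt) (t : ℤ) :
    signedPerm σ C (Pi.single j t) = Pi.single (σ j) (if σ j ∈ C then -t else t) := by
  funext i
  unfold signedPerm
  by_cases hi : i = σ j
  · subst hi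
    simp
  · have : σ.symm i ≠ j := by
      intro h; apply hi; rw [← h]; simp
    simp [Pi.single_apply, hi, this]

/-- The stabiliser of the standard cross in the automorphism group of the lattice is the monomial group of the code: each of its elements acts as a signed permutation with permutation part in the code's group and sign set a codeword, and it has order 4096 · 244823040. -/
theorem result : (∀ g : ↥Cfsg.Co0, (∀ v : ↥Cfsg.leechLattice, (v : Cfsg.GolayPt → ℤ) ∈ Cfsg.stdCross → ((g • v : ↥Cfsg.leechLattice) : Cfsg.GolayPt → ℤ) ∈ Cfsg.stdCross) → ∃ f ∈ Cfsg.golayMonomialMaps, ∀ v : ↥Cfsg.leechLattice, ((g • v : ↥Cfsg.leechLattice) : Cfsg.GolayPt → ℤ) = f (v : Cfsg.GolayPt → ℤ)) ∧ Nat.card {g : ↥Cfsg.Co0 // (∀ v : ↥Cfsg.leechLattice, (v : Cfsg.GolayPt → ℤ) ∈ Cfsg.stdCross → ((g • v : ↥Cfsg.leechLattice) : Cfsg.GolayPt → ℤ) ∈ Cfsg.stdCross)} = 4096 * 244823040 := by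
  classical
  have part1 : ∀ g : ↥Cfsg.Co0, (∀ v : ↥Cfsg.leechLattice, (v : Cfsg.GolayPt → ℤ) ∈ Cfsg.stdCross → ((g • v : ↥Cfsg.leechLattice) : Cfsg.GolayPt → ℤ) ∈ Cfsg.stdCross) → ∃ σ ∈ M24, ∃ c ∈ supports (golayCode : Set (GolayPt → ZMod 2)), ∀ v : ↥Cfsg.leechLattice, ((g • v : ↥Cfsg.leechLattice) : Cfsg.GolayPt → ℤ) = signedPerm σ c (v : Cfsg.GolayPt → ℤ) := by
    intro g hstab
    exact structure_of_stab g.1 g.2 hstab
  refine ⟨?_, ?_⟩
  · intro g hstab
    obtain ⟨σ, hσ, c, hc, h⟩ := part1 g hstab
    exact ⟨signedPerm σ c, ⟨σ, hσ, c, hc, rfl⟩, h⟩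
  · -- cardinality
    let S := supports (golayCode : Set (GolayPt → ZMod 2))
    let T := {g : ↥Cfsg.Co0 // (∀ v : ↥Cfsg.leechLattice, (v : Cfsg.GolayPt → ℤ) ∈ Cfsg.stdCross → ((g • v : ↥Cfsg.leechLattice) : Cfsg.GolayPt → ℤ) ∈ Cfsg.stdCross)}
    let Φ : ↥M24 × ↥S → T := fun p =>
      ⟨⟨mono p.1.1 p.1.2 p.2.1 p.2.2, mono_mem _ _ _ _⟩, by
        intro v hv
        obtain ⟨i, t, ht, hvi⟩ := hv
        show (mono p.1.1 p.1.2 p.2.1 p.2.2 v).1 ∈ stdCross
        rw [mono_apply, hvi, signedPerm_single]
        refine ⟨p.1.1 i, _, ?_, rfl⟩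
        split_ifs <;> rcases ht with h | h <;> rw [h] <;> simp⟩
    have hΦ : Function.Bijective Φ := by
      constructor
      · rintro ⟨⟨σ, hσ⟩, ⟨C, hC⟩⟩ ⟨⟨σ', hσ'⟩, ⟨C', hC'⟩⟩ h
        have h1 : ∀ v : leechLattice, (mono σ hσ C hC v).1 = (mono σ' hσ' C' hC' v).1 := by
          intro v
          have := congrArg (fun z : T => (z.1.1 v).1) h
          exact this
        have h2 : ∀ j, σ j = σ' j ∧ ((if σ j ∈ C then (-8 : ℤ) else 8) = if σ' j ∈ C' then (-8 : ℤ) else 8) := by
          intro j
          have := h1 (e8 j)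
          rw [mono_apply, mono_apply, e8_val, signedPerm_single, signedPerm_single] at this
          refine single_inj ?_ this
          split_ifs <;> norm_num
        have hσσ : σ = σ' := Equiv.ext fun j => (h2 j).1
        subst hσσ
        have hCC : C = C' := by
          ext i
          have := (h2 (σ.symm i)).2
          rw [Equiv.apply_symm_apply] at this
          by_cases h1 : i ∈ C <;> by_cases h2 : i ∈ C'
          · exact ⟨fun _ => h2, fun _ => h1⟩
          · rw [if_pos h1, if_neg h2] at this; norm_num at this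
          · rw [if_neg h1, if_pos h2] at this; norm_num at this
          · exact ⟨fun h => absurd h h1, fun h => absurd h h2⟩
        subst hCC
        rfl
      · rintro ⟨g, hstab⟩
        obtain ⟨σ, hσ, c, hc, h⟩ := part1 g hstab
        refine ⟨⟨⟨σ, hσ⟩, ⟨c, hc⟩⟩, ?_⟩
        apply Subtype.ext
        apply Subtype.ext
        apply Equiv.ext
        intro v
        apply Subtype.ext
        show (mono σ hσ c hc v).1 = (g • v : leechLattice).1
        rw [mono_apply, h]
    have hcard := Nat.card_congr (Equiv.ofBijective Φ hΦ)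
    show Nat.card T = 4096 * 244823040
    rw [← hcard, Nat.card_prod, Cfsg.Agent.Lib.Helper21.card_M24]
    have hS : Nat.card ↥S = 4096 := by
      rw [Nat.card_coe_set_eq]
      show (support₂ '' (golayCode : Set (GolayPt → ZMod 2))).ncard = 4096
      rw [Set.ncard_image_of_injective _ Cfsg.Agent.Lib.Helper21.support₂_injective]
      exact Cfsg.Agent.Lib.Helper21.ncard_golayCode
    rw [hS]

end Cfsg.Agent.S1571
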