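import Cfsg.Statements.S0397
import Mathlib
import Cfsg.Agent.S1571
import Cfsg.Agent.S1569
import Cfsg.Agent.S0396
import Cfsg.Agent.Lib.Helper3.Co0Trans64
-- import your own Cfsg.Agent.* helpers here

set_option autoImplicit false
open Cfsg

namespace Cfsg.Agent.S0397

open Cfsg Cfsg.Agent.Lib.Helper3 Cfsg.Agent.Lib.Helper21

/-- the property of stabilising the standard cross -/
def StabP (g : ↥Co0) : Prop :=
  ∀ v : ↥leechLattice, (v : GolayPt → ℤ) ∈ stdCross → ((g • v : ↥leechLattice) : GolayPt → ℤ) ∈ stdCross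

/-- the standard cross as a set of lattice vectors -/
def crossX : Set ↥leechLattice := {v | v.1 ∈ stdCross}

theorem stdCross_eq : stdCross = famV 8 1 := by
  ext y
  rw [Cfsg.Agent.S1569.famV8_iff]
  constructor
  · rintro ⟨i, s, hs, rfl⟩
    refine ⟨i, s, hs, ?_⟩
    funext k
    rw [Pi.single_apply]
  · rintro ⟨i, s, hs, rfl⟩
    refine ⟨i, s, hs, ?_⟩
    funext k
    rw [Pi.single_apply]

theorem stdCross_sub : ∀ y ∈ stdCross, y ∈ leechLattice := by
  intro y hy
  rw [stdCross_eq] at hy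
  exact (famV8_mem hy).1

theorem crossX_ncard : crossX.ncard = 48 := by
  have h1 : Subtype.val '' crossX = stdCross := by
    ext y
    constructor
    · rintro ⟨v, hv, rfl⟩; exact hv
    · intro hy
      exact ⟨⟨y, stdCross_sub y hy⟩, hy, rfl⟩
  rw [← Set.ncard_image_of_injective crossX Subtype.val_injective, h1, stdCross_eq, ncard_H1]

theorem crossX_finite : crossX.Finite :=
  Set.finite_of_ncard_ne_zero (by rw [crossX_ncard]; norm_num)

/-- the stabiliser of the standard cross, as a subgroup -/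
def stabH : Subgroup ↥Co0 where
  carrier := {g | StabP g}
  one_mem' := by
    intro v hv
    simpa using hv
  mul_mem' := by
    intro a b ha hb v hv
    rw [mul_smul]
    exact ha _ (hb v hv)
  inv_mem' := by
    intro a ha v hv
    -- `a` permutes the finite set `crossX`
    have hfin : Finite ↥crossX := crossX_finite
    let f : ↥crossX → ↥crossX := fun w => ⟨a • w.1, ha w.1 w.2⟩
    have hinj : Function.Injective f := by
      intro w w' h
      have h1 : a • w.1 = a • w'.1 := congrArg Subtype.val h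
      exact Subtype.ext (MulAction.injective a h1)
    obtain ⟨w, hw⟩ := (Finite.injective_iff_surjective.1 hinj) ⟨v, hv⟩
    have h1 : a • w.1 = v := congrArg Subtype.val hw
    have h2 : a⁻¹ • v = w.1 := by rw [← h1, inv_smul_smul]
    rw [h2]
    exact w.2

theorem card_stabH : Nat.card ↥stabH = 4096 * 244823040 :=
  Cfsg.Agent.S1571.result.2

/-- the base vector `8 e_∞` -/
noncomputable def ee : ↥leechLattice := e8 none

theorem ee_val : ee.1 = E0 := rfl

theorem ee_norm : sqNorm ee.1 = 64 := Cfsg.Agent.S1569.sqNorm_E0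

theorem orbit_ee : MulAction.orbit ↥Co0 ee = {v : ↥leechLattice | sqNorm v.1 = 64} := by
  ext v
  constructor
  · rintro ⟨g, rfl⟩
    show sqNorm ((g.1 ee : ↥leechLattice) : GolayPt → ℤ) = 64
    rw [g.2.2, ee_norm]
  · intro hv
    obtain ⟨g, hg, h⟩ := co0_trans_norm64 ee v ee_norm hv
    exact ⟨⟨g, hg⟩, h⟩

theorem orbit_ee_ncard : (MulAction.orbit ↥Co0 ee).ncard = 398034000 := by
  rw [orbit_ee, ← Cfsg.Agent.S0396.result]
  have h1 : {x : GolayPt → ℤ | x ∈ leechLattice ∧ sqNorm x = 64} =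
      Subtype.val '' {v : ↥leechLattice | sqNorm v.1 = 64} := by
    ext y
    constructor
    · rintro ⟨h1, h2⟩
      exact ⟨⟨y, h1⟩, h2, rfl⟩
    · rintro ⟨v, hv, rfl⟩
      exact ⟨v.2, hv⟩
  rw [h1, Set.ncard_image_of_injective _ Subtype.val_injective]

theorem stab_le : MulAction.stabilizer ↥Co0 ee ≤ stabH := by
  intro g hg v hv
  have hg' : g.1 ee = ee := hg
  have hv' : v.1 ∈ cross ee.1 := by
    rw [ee_val, Cfsg.Agent.S1569.cross_E0, ← stdCross_eq]
    exact hv
  obtain ⟨hvL, h⟩ := Cfsg.Agent.S1569.cross_map g.2 ee hv'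
  rw [hg', ee_val, Cfsg.Agent.S1569.cross_E0, ← stdCross_eq] at h
  exact h

theorem orbitH_ee : MulAction.orbit ↥stabH ee = crossX := by
  ext v
  constructor
  · rintro ⟨h, rfl⟩
    have := h.2 ee (Cfsg.Agent.S1571.e8_cross none)
    exact this
  · rintro ⟨j, s, hs, hv⟩
    obtain ⟨σ, hσ, hσj⟩ := M24_trans none j
    rcases hs with rfl | rfl
    · -- `8 e_j`
      have hP : StabP ⟨Cfsg.Agent.S1571.mono σ hσ ∅ empty_mem_supports,
          Cfsg.Agent.S1571.mono_mem _ _ _ _⟩ := by
        intro w hw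
        obtain ⟨i, t, ht, hwi⟩ := hw
        show (Cfsg.Agent.S1571.mono σ hσ ∅ empty_mem_supports w).1 ∈ stdCross
        rw [Cfsg.Agent.S1571.mono_apply, hwi, Cfsg.Agent.S1571.signedPerm_single]
        refine ⟨σ i, _, ?_, rfl⟩
        simpa using ht
      refine ⟨⟨_, hP⟩, ?_⟩
      apply Subtype.ext
      show (Cfsg.Agent.S1571.mono σ hσ ∅ empty_mem_supports ee).1 = v.1
      rw [Cfsg.Agent.S1571.mono_apply, hv]
      have : ee.1 = Pi.single none (8 : ℤ) := Cfsg.Agent.S1571.e8_val none
      rw [this, Cfsg.Agent.S1571.signedPerm_single, hσj]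
      simp
    · -- `-8 e_j`
      have hP : StabP ⟨Cfsg.Agent.S1571.mono σ hσ Finset.univ univ_mem_supports,
          Cfsg.Agent.S1571.mono_mem _ _ _ _⟩ := by
        intro w hw
        obtain ⟨i, t, ht, hwi⟩ := hw
        show (Cfsg.Agent.S1571.mono σ hσ Finset.univ univ_mem_supports w).1 ∈ stdCross
        rw [Cfsg.Agent.S1571.mono_apply, hwi, Cfsg.Agent.S1571.signedPerm_single]
        refine ⟨σ i, _, ?_, rfl⟩
        rcases ht with h | h <;> rw [h] <;> simp
      refine ⟨⟨_, hP⟩, ?_⟩
      apply Subtype.ext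
      show (Cfsg.Agent.S1571.mono σ hσ Finset.univ univ_mem_supports ee).1 = v.1
      rw [Cfsg.Agent.S1571.mono_apply, hv]
      have : ee.1 = Pi.single none (8 : ℤ) := Cfsg.Agent.S1571.e8_val none
      rw [this, Cfsg.Agent.S1571.signedPerm_single, hσj]
      simp

theorem stabH_stab_card :
    Nat.card ↥(MulAction.stabilizer ↥stabH ee) = Nat.card ↥(MulAction.stabilizer ↥Co0 ee) := by
  have h1 : MulAction.stabilizer ↥stabH ee = (MulAction.stabilizer ↥Co0 ee).subgroupOf stabH := by
    ext h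
    rw [Subgroup.mem_subgroupOf, MulAction.mem_stabilizer_iff, MulAction.mem_stabilizer_iff]
    rfl
  rw [h1]
  exact Nat.card_congr (Subgroup.subgroupOfEquivOfLe stab_le).toEquiv

/-- The automorphism group of the lattice has order 8315553613086720000 = 2^22·3^9·5^4·7^2·11·13·23. -/
theorem result : Nat.card Cfsg.Co0 = 8315553613086720000 := by
  have h1 := Subgroup.card_mul_index (MulAction.stabilizer ↥Cfsg.Co0 ee)
  rw [MulAction.index_stabilizer, orbit_ee_ncard] at h1
  have h2 := Subgroup.card_mul_index (MulAction.stabilizer ↥stabH ee)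
  rw [MulAction.index_stabilizer, orbitH_ee, crossX_ncard, card_stabH, stabH_stab_card] at h2
  rw [← h1]
  have h3 : Nat.card ↥(MulAction.stabilizer ↥Cfsg.Co0 ee) = 20891566080 := by
    apply Nat.eq_of_mul_eq_mul_right (by norm_num : 0 < 48)
    rw [h2]
  rw [h3]

end Cfsg.Agent.S0397
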