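import Cfsg.Statements.S0393
import Mathlib
import Cfsg.Agent.S5553
-- import your own Cfsg.Agent.* helpers here

set_option autoImplicit false
open Cfsg

namespace Cfsg.Agent.S0393

open Cfsg.Agent.Lib.Helper3 Cfsg.Agent.Lib.Helper21 Cfsg.Agent.S5553

/-- all-even integer vectors -/
def twoZ : AddSubgroup (GolayPt → ℤ) where
  carrier := {x | ∀ i, (2 : ℤ) ∣ x i}
  zero_mem' := fun i => by simp
  add_mem' := fun {a b} ha hb i => by simpa using dvd_add (ha i) (hb i)
  neg_mem' := fun {a} ha i => by simpa using (dvd_neg.mpr (ha i))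

/-- even vectors whose half is a code word mod 2 -/
def midM : AddSubgroup (GolayPt → ℤ) where
  carrier := {x | (∀ i, (2 : ℤ) ∣ x i) ∧ halfWord x ∈ golayCode}
  zero_mem' := ⟨fun i => by simp, by
    have : halfWord 0 = 0 := by funext i; simp [halfWord]
    rw [this]; exact golayCode.zero_mem⟩
  add_mem' := fun {a b} ha hb =>
    ⟨fun i => by simpa using dvd_add (ha.1 i) (hb.1 i), by
      rw [halfWord_add ha.1]; exact golayCode.add_mem ha.2 hb.2⟩
  neg_mem' := fun {a} ha =>
    ⟨fun i => by simpa using (dvd_neg.mpr (ha.1 i)), by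
      have : halfWord (-a) = halfWord a := by
        funext i
        unfold halfWord
        have h2 := ha.1 i
        simp only [Pi.neg_apply]
        have e : (-a i) / 2 = -(a i / 2) := by omega
        rw [e]
        push_cast
        generalize ((a i / 2 : ℤ) : ZMod 2) = z
        revert z; decide
      rw [this]; exact ha.2⟩

theorem even_le_mid : evenLeech ≤ midM := fun x hx => ⟨hx.2, halfWord_mem hx⟩
theorem mid_le_two : midM ≤ twoZ := fun x hx => hx.1

/-- reduction mod 2 -/
def redHom : (GolayPt → ℤ) →+ (GolayPt → ZMod 2) where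
  toFun x := fun i => ((x i : ℤ) : ZMod 2)
  map_zero' := by funext i; simp
  map_add' x y := by funext i; simp

theorem redHom_surjective : Function.Surjective redHom := by
  intro w
  refine ⟨fun i => ((w i).val : ℤ), ?_⟩
  funext i
  show (((w i).val : ℤ) : ZMod 2) = w i
  simp

theorem card_words : Nat.card (GolayPt → ZMod 2) = 2 ^ 24 := by
  rw [Nat.card_eq_fintype_card, Fintype.card_fun, ZMod.card]
  rfl

theorem index_twoZ : twoZ.index = 2 ^ 24 := by
  have h : twoZ = redHom.ker := by
    ext x
    rw [AddMonoidHom.mem_ker]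
    constructor
    · intro hx
      funext i
      show ((x i : ℤ) : ZMod 2) = 0
      rw [ZMod.intCast_zmod_eq_zero_iff_dvd]
      exact_mod_cast hx i
    · intro hx i
      have h1 := congrFun hx i
      have h2 : ((x i : ℤ) : ZMod 2) = 0 := h1
      rw [ZMod.intCast_zmod_eq_zero_iff_dvd] at h2
      exact_mod_cast h2
  rw [h, AddSubgroup.index_ker, AddMonoidHom.range_eq_top.mpr redHom_surjective]
  rw [← card_words]
  exact Nat.card_congr (Equiv.Set.univ _)

/-- halving on all even vectors -/
def halfHomZ : twoZ →+ (GolayPt → ZMod 2) where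
  toFun x := halfWord x.1
  map_zero' := by funext i; simp [halfWord]
  map_add' x y := halfWord_add x.2

theorem halfHomZ_surjective : Function.Surjective halfHomZ := by
  intro w
  refine ⟨⟨fun i => 2 * ((w i).val : ℤ), fun i => Dvd.intro _ rfl⟩, ?_⟩
  funext i
  show halfWord (fun i => 2 * ((w i).val : ℤ)) i = w i
  unfold halfWord
  dsimp only
  rw [Int.mul_ediv_cancel_left _ (by norm_num : (2 : ℤ) ≠ 0)]
  simp

theorem index_golay : golayCode.toAddSubgroup.index = 2 ^ 12 := by
  have h1 := golayCode.toAddSubgroup.card_mul_index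
  have h2 : Nat.card golayCode.toAddSubgroup = 4096 := by
    rw [← ncard_golayCode]
    rfl
  rw [h2, card_words] at h1
  omega

theorem relIndex_mid : midM.relIndex twoZ = 2 ^ 12 := by
  have h : midM.addSubgroupOf twoZ = golayCode.toAddSubgroup.comap halfHomZ := by
    ext x
    rw [AddSubgroup.mem_addSubgroupOf, AddSubgroup.mem_comap]
    constructor
    · intro hx; exact hx.2
    · intro hx; exact ⟨x.2, hx⟩
  rw [AddSubgroup.relIndex, h, AddSubgroup.index_comap_of_surjective _ halfHomZ_surjective,
    index_golay]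

/-- coordinate sum of a vector of `midM` is divisible by 4 -/
theorem four_dvd_sum {x : GolayPt → ℤ} (hx : x ∈ midM) : (4 : ℤ) ∣ ∑ i, x i := by
  classical
  obtain ⟨hx2, hxC⟩ := hx
  have h4 := golay_card_dvd hxC
  have hterm : ∀ i, (4 : ℤ) ∣ x i - 2 * (if halfWord x i ≠ 0 then 1 else 0) := by
    intro i
    have h2 := hx2 i
    by_cases h0 : halfWord x i ≠ 0
    · rw [if_pos h0]
      have := (halfWord_ne_zero_iff hx2 i).mp h0
      unfold Int.ModEq at this
      omega
    · rw [if_neg h0]
      have : ¬ (x i ≡ 2 [ZMOD 4]) := fun h => h0 ((halfWord_ne_zero_iff hx2 i).mpr h)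
      unfold Int.ModEq at this
      omega
  have hsum := Finset.dvd_sum (s := Finset.univ) (fun i _ => hterm i)
  rw [Finset.sum_sub_distrib, ← Finset.mul_sum, Finset.sum_boole] at hsum
  have hc : ((Finset.univ.filter fun i => halfWord x i ≠ 0).card : ℤ) = ((support₂ (halfWord x)).card : ℤ) := rfl
  rw [hc] at hsum
  obtain ⟨t, ht⟩ := h4
  rw [ht] at hsum
  push_cast at hsum
  obtain ⟨b, hb⟩ := hsum
  exact ⟨b + 2 * t, by linarith⟩

/-- the sum/4 mod 2 homomorphism on `midM` -/
def sumHom : midM →+ ZMod 2 where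
  toFun x := (((∑ i, x.1 i) / 4 : ℤ) : ZMod 2)
  map_zero' := by simp
  map_add' x y := by
    have hx := four_dvd_sum x.2
    show ((((∑ i, (x.1 + y.1) i) / 4 : ℤ)) : ZMod 2) = _
    simp only [Pi.add_apply]
    rw [Finset.sum_add_distrib, Int.add_ediv_of_dvd_left hx]
    push_cast
    rfl

/-- a vector of `midM` with coordinate sum divisible by 8 is in the lattice -/
theorem mem_even_of_mid {x : GolayPt → ℤ} (hx : x ∈ midM) (h8 : (8 : ℤ) ∣ ∑ i, x i) :
    x ∈ evenLeech := by
  classical
  obtain ⟨hx2, hxC⟩ := hx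
  refine ⟨?_, hx2⟩
  rw [mem_leechLattice_iff]
  have hcase : ∀ i, (halfWord x i = 0 ∧ x i % 4 = 0) ∨ (halfWord x i ≠ 0 ∧ x i % 4 = 2) := by
    intro i
    have h2 := hx2 i
    by_cases h0 : halfWord x i ≠ 0
    · right
      have := (halfWord_ne_zero_iff hx2 i).mp h0
      unfold Int.ModEq at this
      exact ⟨h0, by omega⟩
    · left
      have : ¬ (x i ≡ 2 [ZMOD 4]) := fun h => h0 ((halfWord_ne_zero_iff hx2 i).mpr h)
      unfold Int.ModEq at this
      exact ⟨not_not.mp h0, by omega⟩
  refine ⟨0, fun i => ?_, ?_, fun k => ?_⟩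
  · unfold Int.ModEq
    have := hx2 i
    omega
  · unfold Int.ModEq
    omega
  · obtain ⟨r, hr, hkr⟩ : ∃ r : ℤ, (r = 0 ∨ r = 1 ∨ r = 2 ∨ r = 3) ∧ k % 4 = r :=
      ⟨k % 4, by omega, rfl⟩
    rcases hr with rfl | rfl | rfl | rfl
    · refine ⟨1 + halfWord x, golayCode.add_mem one_mem_golay hxC, ?_⟩
      rw [support₂_one_add]
      ext i
      simp only [Finset.mem_compl, support₂, Finset.mem_filter, Finset.mem_univ, true_and,
        not_not]
      unfold Int.ModEq
      rcases hcase i with ⟨h0, h⟩ | ⟨h0, h⟩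
      · exact ⟨fun _ => by omega, fun _ => h0⟩
      · exact ⟨fun h1 => absurd h1 h0, fun h1 => by exfalso; omega⟩
    · refine ⟨0, golayCode.zero_mem, ?_⟩
      ext i
      simp only [support₂, Finset.mem_filter, Finset.mem_univ, true_and, Pi.zero_apply, ne_eq,
        not_true_eq_false, false_iff]
      unfold Int.ModEq
      rcases hcase i with ⟨h0, h⟩ | ⟨h0, h⟩ <;> omega
    · refine ⟨halfWord x, hxC, ?_⟩
      ext i
      simp only [support₂, Finset.mem_filter, Finset.mem_univ, true_and]
      unfold Int.ModEq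
      rcases hcase i with ⟨h0, h⟩ | ⟨h0, h⟩
      · exact ⟨fun h1 => absurd h0 h1, fun h1 => by exfalso; omega⟩
      · exact ⟨fun _ => by omega, fun _ => h0⟩
    · refine ⟨0, golayCode.zero_mem, ?_⟩
      ext i
      simp only [support₂, Finset.mem_filter, Finset.mem_univ, true_and, Pi.zero_apply, ne_eq,
        not_true_eq_false, false_iff]
      unfold Int.ModEq
      rcases hcase i with ⟨h0, h⟩ | ⟨h0, h⟩ <;> omega

theorem relIndex_even_mid : evenLeech.relIndex midM = 2 := by
  have h : evenLeech.addSubgroupOf midM = sumHom.ker := by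
    ext x
    rw [AddSubgroup.mem_addSubgroupOf, AddMonoidHom.mem_ker]
    show (x : GolayPt → ℤ) ∈ evenLeech ↔ ((((∑ i, x.1 i) / 4 : ℤ)) : ZMod 2) = 0
    rw [ZMod.intCast_zmod_eq_zero_iff_dvd]
    have h4 := four_dvd_sum x.2
    constructor
    · intro hx
      have hxL := hx.1
      rw [mem_leechLattice_iff] at hxL
      obtain ⟨m, hm, hs, -⟩ := hxL
      have h1 := hm none
      have h2 := hx.2 none
      unfold Int.ModEq at h1 hs
      push_cast
      omega
    · intro hx
      apply mem_even_of_mid x.2
      push_cast at hx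
      omega
  have hsurj : Function.Surjective sumHom := by
    intro z
    rcases (show z = 0 ∨ z = 1 by revert z; decide) with rfl | rfl
    · exact ⟨0, by simp⟩
    · have hmem : (fun i : GolayPt => if i = none then (4 : ℤ) else 0) ∈ midM := by
        refine ⟨fun i => by dsimp only; split_ifs <;> norm_num, ?_⟩
        have : halfWord (fun i : GolayPt => if i = none then (4 : ℤ) else 0) = 0 := by
          funext i
          unfold halfWord
          dsimp only
          split_ifs <;> simp
          decide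
        rw [this]; exact golayCode.zero_mem
      refine ⟨⟨_, hmem⟩, ?_⟩
      show ((((∑ i, (fun i : GolayPt => if i = none then (4 : ℤ) else 0) i) / 4 : ℤ)) : ZMod 2) = 1
      have : ∑ i, (fun i : GolayPt => if i = none then (4 : ℤ) else 0) i = 4 := by
        simp
      rw [this]
      norm_num
  rw [AddSubgroup.relIndex, h, AddSubgroup.index_ker, AddMonoidHom.range_eq_top.mpr hsurj]
  simp

/-- The lattice has index 2^36 in ℤ^24 (unimodular at scale 1/8). -/
theorem result : Cfsg.leechLattice.index = 2 ^ 36 := by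
  have h1 := AddSubgroup.relIndex_mul_relIndex evenLeech leechLattice ⊤ even_le le_top
  have h2 := AddSubgroup.relIndex_mul_relIndex evenLeech midM ⊤ even_le_mid le_top
  have h3 := AddSubgroup.relIndex_mul_relIndex midM twoZ ⊤ mid_le_two le_top
  rw [AddSubgroup.relIndex_top_right, AddSubgroup.relIndex_top_right] at h1 h2 h3
  rw [relIndex_even] at h1
  rw [relIndex_even_mid] at h2
  rw [relIndex_mid, index_twoZ] at h3
  rw [← h3] at h2
  rw [← h2] at h1
  omega

end Cfsg.Agent.S0393
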