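import Cfsg.Statements.S0394
import Mathlib
import Cfsg.Agent.Lib.Helper3.LeechMin
import Cfsg.Agent.Lib.Helper21.GolayCount
-- import your own Cfsg.Agent.* helpers here

set_option autoImplicit false
open Cfsg

namespace Cfsg.Agent.S0394

open Cfsg.Agent.Lib.Helper3 Cfsg.Agent.Lib.Helper21

theorem even_subsets_card (s : Finset GolayPt) (hs : s.card = 8) :
    (s.powerset.filter (fun T => Even T.card)).card = 128 := by
  classical
  have hne : s ≠ ∅ := by rintro rfl; simp at hs
  have h1 := Finset.sum_powerset_neg_one_pow_card (x := s)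
  rw [if_neg hne] at h1
  have h2 : ∑ T ∈ s.powerset, (-1 : ℤ) ^ T.card =
      ((s.powerset.filter (fun T => Even T.card)).card : ℤ) -
        ((s.powerset.filter (fun T => ¬ Even T.card)).card : ℤ) := by
    rw [← Finset.sum_filter_add_sum_filter_not s.powerset (fun T => Even T.card)]
    have ha : ∑ T ∈ s.powerset.filter (fun T => Even T.card), (-1 : ℤ) ^ T.card =
        ((s.powerset.filter (fun T => Even T.card)).card : ℤ) := by
      rw [Finset.sum_congr rfl (g := fun _ => (1 : ℤ))]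
      · simp
      · intro T hT
        exact Even.neg_one_pow (Finset.mem_filter.1 hT).2
    have hb : ∑ T ∈ s.powerset.filter (fun T => ¬ Even T.card), (-1 : ℤ) ^ T.card =
        -((s.powerset.filter (fun T => ¬ Even T.card)).card : ℤ) := by
      rw [Finset.sum_congr rfl (g := fun _ => (-1 : ℤ))]
      · simp
      · intro T hT
        exact Odd.neg_one_pow (Nat.not_even_iff_odd.1 (Finset.mem_filter.1 hT).2)
    rw [ha, hb]; ring
  have h3 := Finset.card_filter_add_card_filter_not (s := s.powerset) (fun T => Even T.card)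
  rw [Finset.card_powerset, hs] at h3
  rw [h2] at h1
  have h4 : (2 : ℕ) ^ 8 = 256 := by norm_num
  rw [h4] at h3
  omega

def fB (p : Σ _ : Finset GolayPt, Finset GolayPt) : GolayPt → ℤ := sv 4 p.1 p.2
def fA (p : Σ _ : Finset GolayPt, Finset GolayPt) : GolayPt → ℤ := sv 2 p.1 p.2
def fC (p : Finset GolayPt × GolayPt) : GolayPt → ℤ := ov p.1 p.2

/-- Exactly 196560 lattice vectors have sum of squares 32. -/
theorem result : {x : Cfsg.GolayPt → ℤ | x ∈ Cfsg.leechLattice ∧ Cfsg.sqNorm x = 32}.ncard = 196560 := by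
  classical
  obtain ⟨octF, hoctF⟩ : ∃ F : Finset (Finset GolayPt), ∀ s, s ∈ F ↔ s ∈ octads :=
    ⟨Finset.univ.filter (· ∈ octads), fun s => by simp⟩
  obtain ⟨codeF, hcodeF⟩ : ∃ F : Finset (Finset GolayPt),
      ∀ s, s ∈ F ↔ s ∈ supports (golayCode : Set (GolayPt → ZMod 2)) :=
    ⟨Finset.univ.filter (· ∈ supports (golayCode : Set (GolayPt → ZMod 2))), fun s => by simp⟩
  have hoct : octF.card = 759 := by
    rw [← ncard_octads, ← Set.ncard_coe_finset]
    congr 1
    ext s
    simp [hoctF]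
  have hcode : codeF.card = 4096 := by
    rw [← ncard_golayCode, ← Set.ncard_image_of_injective _ support₂_injective,
      ← Set.ncard_coe_finset]
    congr 1
    ext s
    simp only [Finset.mem_coe, hcodeF]
    rfl
  -- the three families
  obtain ⟨P2, hP2⟩ : ∃ F : Finset (Finset GolayPt), F.card = 276 ∧ ∀ s, s ∈ F ↔ s.card = 2 := by
    refine ⟨Finset.powersetCard 2 (Finset.univ : Finset GolayPt), ?_, fun s => ?_⟩
    · rw [Finset.card_powersetCard, Finset.card_univ, card_golayPt]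
      norm_num [Nat.choose]
    · rw [Finset.mem_powersetCard]
      simp
  obtain ⟨SB, hSB⟩ : ∃ SB : Finset (Σ _ : Finset GolayPt, Finset GolayPt),
      SB = P2.sigma (fun s => s.powerset) := ⟨_, rfl⟩
  obtain ⟨SA, hSA⟩ : ∃ SA : Finset (Σ _ : Finset GolayPt, Finset GolayPt),
      SA = octF.sigma (fun s => s.powerset.filter (fun T => Even T.card)) := ⟨_, rfl⟩
  obtain ⟨SC, hSC⟩ : ∃ SC : Finset (Finset GolayPt × GolayPt),
      SC = codeF ×ˢ (Finset.univ : Finset GolayPt) := ⟨_, rfl⟩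
  have hmemB : ∀ s T, (⟨s, T⟩ : Σ _ : Finset GolayPt, Finset GolayPt) ∈ SB ↔ s.card = 2 ∧ T ⊆ s := by
    intro s T
    rw [hSB, Finset.mem_sigma, hP2.2, Finset.mem_powerset]
  have hmemA : ∀ s T, (⟨s, T⟩ : Σ _ : Finset GolayPt, Finset GolayPt) ∈ SA ↔
      s ∈ octads ∧ T ⊆ s ∧ Even T.card := by
    intro s T
    rw [hSA, Finset.mem_sigma, hoctF, Finset.mem_filter, Finset.mem_powerset]
  have hmemC : ∀ C j, ((C, j) : Finset GolayPt × GolayPt) ∈ SC ↔
      C ∈ supports (golayCode : Set (GolayPt → ZMod 2)) := by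
    intro C j
    rw [hSC, Finset.mem_product, hcodeF]
    simp
  have hSBc : SB.card = 1104 := by
    rw [hSB, Finset.card_sigma]
    rw [Finset.sum_congr rfl (g := fun _ => 4)]
    · rw [Finset.sum_const, hP2.1]
      rfl
    · intro s hs
      rw [Finset.card_powerset, (hP2.2 s).1 hs]
      rfl
  have hSAc : SA.card = 97152 := by
    rw [hSA, Finset.card_sigma]
    rw [Finset.sum_congr rfl (g := fun _ => 128)]
    · rw [Finset.sum_const, hoct]
      rfl
    · intro s hs
      exact even_subsets_card s ((hoctF s).1 hs).2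
  have hSCc : SC.card = 98304 := by
    rw [hSC, Finset.card_product, hcode, Finset.card_univ, card_golayPt]
  have hBinj : Set.InjOn fB SB := by
    rintro ⟨s, T⟩ hp ⟨s', T'⟩ hp' h
    have hp1 : T ⊆ s := ((hmemB s T).1 hp).2
    have hp2 : T' ⊆ s' := ((hmemB s' T').1 hp').2
    obtain ⟨h1, h2⟩ := sv_inj (by norm_num : (0 : ℤ) < 4) hp1 hp2 h
    subst h1; subst h2; rfl
  have hAinj : Set.InjOn fA SA := by
    rintro ⟨s, T⟩ hp ⟨s', T'⟩ hp' h
    have hp1 : T ⊆ s := ((hmemA s T).1 hp).2.1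
    have hp2 : T' ⊆ s' := ((hmemA s' T').1 hp').2.1
    obtain ⟨h1, h2⟩ := sv_inj (by norm_num : (0 : ℤ) < 2) hp1 hp2 h
    subst h1; subst h2; rfl
  have hCinj : Set.InjOn fC SC := by
    rintro ⟨C, j⟩ _ ⟨C', j'⟩ _ h
    obtain ⟨h1, h2⟩ := ov_inj h
    subst h1; subst h2; rfl
  have hS : {x : GolayPt → ℤ | x ∈ leechLattice ∧ sqNorm x = 32} =
      ↑(SB.image fB ∪ SA.image fA ∪ SC.image fC) := by
    ext x
    rw [Set.mem_ofPred_eq, leech_minimal_iff]
    simp only [Finset.coe_union, Set.mem_union, Finset.mem_coe, Finset.mem_image]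
    constructor
    · rintro (⟨s, T, hs, hT, rfl⟩ | ⟨s, T, hs, hT, hev, rfl⟩ | ⟨C, j, hC, rfl⟩)
      · left; left
        exact ⟨⟨s, T⟩, (hmemB s T).2 ⟨hs, hT⟩, rfl⟩
      · left; right
        exact ⟨⟨s, T⟩, (hmemA s T).2 ⟨hs, hT, hev⟩, rfl⟩
      · right
        exact ⟨⟨C, j⟩, (hmemC C j).2 hC, rfl⟩
    · rintro ((⟨⟨s, T⟩, hp, rfl⟩ | ⟨⟨s, T⟩, hp, rfl⟩) | ⟨⟨C, j⟩, hp, rfl⟩)
      · left
        exact ⟨s, T, ((hmemB s T).1 hp).1, ((hmemB s T).1 hp).2, rfl⟩
      · right; left
        exact ⟨s, T, ((hmemA s T).1 hp).1, ((hmemA s T).1 hp).2.1, ((hmemA s T).1 hp).2.2, rfl⟩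
      · right; right
        exact ⟨C, j, (hmemC C j).1 hp, rfl⟩
  -- disjointness
  have hdBA : Disjoint (SB.image fB) (SA.image fA) := by
    rw [Finset.disjoint_left]
    rintro x hxB hxA
    obtain ⟨⟨s, T⟩, hp, rfl⟩ := Finset.mem_image.1 hxB
    obtain ⟨⟨s', T'⟩, hp', h⟩ := Finset.mem_image.1 hxA
    have hs2 : s.card = 2 := ((hmemB s T).1 hp).1
    have hsne : s.Nonempty := by
      rw [← Finset.card_pos, hs2]; norm_num
    obtain ⟨i, hi⟩ := hsne
    have h' := congrFun h i
    simp only [fA, fB, sv] at h'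
    by_cases h1 : i ∈ T <;> by_cases h2 : i ∈ T' <;> by_cases h3 : i ∈ s' <;>
      simp [h1, h2, h3, hi] at h'
  have hdC : Disjoint (SB.image fB ∪ SA.image fA) (SC.image fC) := by
    rw [Finset.disjoint_left]
    rintro x hxBA hxC
    obtain ⟨⟨C, j⟩, _, rfl⟩ := Finset.mem_image.1 hxC
    have hodd := ov_odd C j none
    rcases Finset.mem_union.1 hxBA with hx | hx
    · obtain ⟨⟨s, T⟩, _, h⟩ := Finset.mem_image.1 hx
      have := sv_even 4 (by norm_num) s T none
      have h' := congrFun h none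
      simp only [fB, fC] at h'
      omega
    · obtain ⟨⟨s, T⟩, _, h⟩ := Finset.mem_image.1 hx
      have := sv_even 2 (by norm_num) s T none
      have h' := congrFun h none
      simp only [fA, fC] at h'
      omega
  rw [hS, Set.ncard_coe_finset, Finset.card_union_of_disjoint hdC,
    Finset.card_union_of_disjoint hdBA, Finset.card_image_of_injOn hBinj,
    Finset.card_image_of_injOn hAinj, Finset.card_image_of_injOn hCinj, hSBc, hSAc, hSCc]

end Cfsg.Agent.S0394
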