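import Cfsg.Statements.S1570
import Mathlib
import Cfsg.Agent.S0391
import Cfsg.Agent.S0392
import Cfsg.Agent.S0393
import Cfsg.Agent.S0394
import Cfsg.Agent.S0395
import Cfsg.Agent.S0396
import Cfsg.Agent.S1569
-- import your own Cfsg.Agent.* helpers here

set_option autoImplicit false
open Cfsg

namespace Cfsg.Agent.S1570

theorem sqNorm_parallelogram (x y : GolayPt → ℤ) :
    sqNorm (x + y) + sqNorm (x - y) = 2 * sqNorm x + 2 * sqNorm y := by
  unfold sqNorm
  rw [← Finset.sum_add_distrib, Finset.mul_sum, Finset.mul_sum, ← Finset.sum_add_distrib]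
  apply Finset.sum_congr rfl
  intro i _
  simp only [Pi.add_apply, Pi.sub_apply]
  ring

theorem sqNorm_two_smul (z : GolayPt → ℤ) : sqNorm ((2 : ℕ) • z) = 4 * sqNorm z := by
  unfold sqNorm
  rw [Finset.mul_sum]
  apply Finset.sum_congr rfl
  intro i _
  simp only [Pi.smul_apply, nsmul_eq_mul]
  push_cast
  ring

theorem key {x y z : GolayPt → ℤ} (hy : y ∈ leechLattice)
    (hz : z ∈ leechLattice)
    (hxn : sqNorm x ≤ 64) (hyn : sqNorm y ≤ 64) (h : x - y = (2 : ℕ) • z) :
    x = y ∨ x = -y ∨ (sqNorm x = 64 ∧ sqNorm y = 64) := by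
  by_cases h1 : z = 0
  · left
    rw [h1, smul_zero] at h
    exact sub_eq_zero.mp h
  by_cases h2 : z + y = 0
  · right; left
    have hzy : z = -y := eq_neg_of_add_eq_zero_left h2
    rw [hzy] at h
    have hx' : x = y + (2 : ℕ) • (-y) := by rw [← h]; abel
    rw [hx', two_nsmul]; abel
  right; right
  have e1 := Cfsg.Agent.S0391.result z hz h1
  have e2 := Cfsg.Agent.S0391.result (z + y) (add_mem hz hy) h2
  have e3 : x + y = (2 : ℕ) • (z + y) := by
    have hx' : x = y + (2 : ℕ) • z := by rw [← h]; abel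
    rw [hx', smul_add, two_nsmul, two_nsmul]; abel
  have e4 := sqNorm_parallelogram x y
  rw [h, e3, sqNorm_two_smul, sqNorm_two_smul] at e4
  constructor <;> omega

theorem ncard_image_mul {α β : Type*} (f : α → β) (S : Set α) (hS : S.Finite) (k : ℕ)
    (hk : ∀ y ∈ S, {y' | y' ∈ S ∧ f y' = f y}.ncard = k) :
    (f '' S).ncard * k = S.ncard := by
  classical
  obtain ⟨s, rfl⟩ := hS.exists_finset_coe
  rw [← Finset.coe_image, Set.ncard_coe_finset, Set.ncard_coe_finset]
  rw [Finset.card_eq_sum_card_fiberwise (f := f) (t := s.image f)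
    (fun x hx => Finset.mem_image_of_mem f hx)]
  rw [Finset.sum_const_nat (m := k)]
  intro b hb
  obtain ⟨y, hy, rfl⟩ := Finset.mem_image.mp hb
  have := hk y (by simpa using hy)
  rw [← this, ← Set.ncard_coe_finset]
  congr 1
  ext y'
  simp

/-- the doubling homomorphism -/
def dbl : (GolayPt → ℤ) →+ (GolayPt → ℤ) := nsmulAddMonoidHom 2

theorem dbl_apply (x : GolayPt → ℤ) : dbl x = (2 : ℕ) • x := rfl

/-- twice the lattice -/
def twoL : AddSubgroup (GolayPt → ℤ) := leechLattice.map dbl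

theorem mem_twoL {w : GolayPt → ℤ} : w ∈ twoL ↔ ∃ z ∈ leechLattice, w = (2 : ℕ) • z := by
  unfold twoL
  rw [AddSubgroup.mem_map]
  constructor
  · rintro ⟨z, hz, rfl⟩; exact ⟨z, hz, rfl⟩
  · rintro ⟨z, hz, rfl⟩; exact ⟨z, hz, rfl⟩

theorem dbl_ker : dbl.ker = ⊥ := by
  rw [eq_bot_iff]
  intro x hx
  rw [AddMonoidHom.mem_ker, dbl_apply] at hx
  rw [AddSubgroup.mem_bot]
  funext i
  have := congrFun hx i
  simp only [Pi.smul_apply, nsmul_eq_mul, Pi.zero_apply] at this
  simpa using this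

theorem dbl_range : dbl.range = Cfsg.Agent.S0393.twoZ := by
  ext x
  rw [AddMonoidHom.mem_range]
  constructor
  · rintro ⟨y, rfl⟩ i
    rw [dbl_apply]
    simp only [Pi.smul_apply, nsmul_eq_mul]
    exact ⟨y i, by push_cast; ring⟩
  · intro hx
    refine ⟨fun i => x i / 2, ?_⟩
    funext i
    rw [dbl_apply]
    simp only [Pi.smul_apply, nsmul_eq_mul]
    have := hx i
    push_cast
    omega

theorem twoL_index : twoL.index = 2 ^ 36 * 2 ^ 24 := by
  unfold twoL
  rw [AddSubgroup.index_map, dbl_ker, sup_bot_eq, dbl_range, Cfsg.Agent.S0393.result,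
    Cfsg.Agent.S0393.index_twoZ]

theorem twoL_le : twoL ≤ leechLattice := by
  intro w hw
  obtain ⟨z, hz, rfl⟩ := mem_twoL.mp hw
  exact nsmul_mem hz 2

/-- quotient map -/
def qm : (GolayPt → ℤ) →+ (GolayPt → ℤ) ⧸ twoL := QuotientAddGroup.mk' twoL

theorem qm_eq_iff {a b : GolayPt → ℤ} : qm a = qm b ↔ ∃ z ∈ leechLattice, b - a = (2 : ℕ) • z := by
  unfold qm
  rw [QuotientAddGroup.mk'_apply, QuotientAddGroup.mk'_apply, QuotientAddGroup.eq, mem_twoL]
  have : -a + b = b - a := by abel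
  rw [this]

theorem card_image_lattice : ((qm '' (leechLattice : Set (GolayPt → ℤ)))).ncard = 2 ^ 24 := by
  have h1 : (qm '' (leechLattice : Set (GolayPt → ℤ))) = ((leechLattice.map qm : AddSubgroup _) : Set _) := by
    rw [AddSubgroup.coe_map]
  rw [h1]
  have h2 : (leechLattice.map qm).index = 2 ^ 36 := by
    have hs : Function.Surjective qm := QuotientAddGroup.mk'_surjective twoL
    have hk : qm.ker ≤ leechLattice := by
      unfold qm
      rw [QuotientAddGroup.ker_mk']
      exact twoL_le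
    rw [AddSubgroup.index_map_eq _ hs hk, Cfsg.Agent.S0393.result]
  have h3 := AddSubgroup.card_mul_index (leechLattice.map qm)
  have h4 : Nat.card ((GolayPt → ℤ) ⧸ twoL) = 2 ^ 36 * 2 ^ 24 := twoL_index
  rw [h2, h4] at h3
  have h5 : Nat.card (leechLattice.map qm) = 2 ^ 24 := by
    have : Nat.card (leechLattice.map qm) * 2 ^ 36 = 2 ^ 24 * 2 ^ 36 := by rw [h3]; ring
    exact Nat.eq_of_mul_eq_mul_right (by positivity) this
  rw [← h5]
  rfl

/-- lattice vectors of a given norm -/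
def Sn (n : ℤ) : Set (GolayPt → ℤ) := {x | x ∈ leechLattice ∧ sqNorm x = n}

theorem sqNorm_zero' : sqNorm (0 : GolayPt → ℤ) = 0 := by
  unfold sqNorm
  simp

theorem sqNorm_neg' (x : GolayPt → ℤ) : sqNorm (-x) = sqNorm x := by
  unfold sqNorm
  apply Finset.sum_congr rfl
  intro i _
  simp

theorem sqNorm_eq_zero' {x : GolayPt → ℤ} (h : sqNorm x = 0) : x = 0 := by
  unfold sqNorm at h
  funext i
  have := (Finset.sum_eq_zero_iff_of_nonneg (fun i _ => sq_nonneg (x i))).mp h i (Finset.mem_univ i)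
  simpa using this

theorem Sn_zero : Sn 0 = {0} := by
  ext x
  simp only [Sn, Set.mem_setOf_eq, Set.mem_singleton_iff]
  constructor
  · rintro ⟨_, h⟩; exact sqNorm_eq_zero' h
  · rintro rfl; exact ⟨zero_mem _, sqNorm_zero'⟩

theorem Sn_finite (n : ℤ) (k : ℕ) (hk : k ≠ 0) (h : (Sn n).ncard = k) : (Sn n).Finite := by
  by_contra hinf
  rw [Set.not_finite] at hinf
  rw [hinf.ncard] at h
  exact hk h.symm

theorem qm_ne_of_norm_ne {a b : ℤ} (ha : a ≤ 64) (hb : b ≤ 64) (hab : a ≠ b)
    {x y : GolayPt → ℤ} (hx : x ∈ Sn a) (hy : y ∈ Sn b) : qm x ≠ qm y := by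
  intro h
  obtain ⟨z, hz, hz'⟩ := qm_eq_iff.mp h
  have hxn : sqNorm x ≤ 64 := by rw [hx.2]; exact ha
  have hyn : sqNorm y ≤ 64 := by rw [hy.2]; exact hb
  rcases key hx.1 hz hyn hxn hz' with h1 | h1 | h1
  · apply hab; rw [← hx.2, ← hy.2, h1]
  · apply hab; rw [← hx.2, ← hy.2, h1, sqNorm_neg']
  · apply hab; rw [← hx.2, ← hy.2, h1.1, h1.2]

theorem fiber_small {n : ℤ} (hn : n ≤ 64) (hn64 : n ≠ 64) (hn0 : n ≠ 0) {y : GolayPt → ℤ}
    (hy : y ∈ Sn n) : {y' | y' ∈ Sn n ∧ qm y' = qm y}.ncard = 2 := by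
  have hy0 : y ≠ 0 := by
    rintro rfl
    apply hn0
    rw [← hy.2, sqNorm_zero']
  have hne : y ≠ -y := by
    intro h
    apply hy0
    funext i
    have := congrFun h i
    simp only [Pi.neg_apply] at this
    simp only [Pi.zero_apply]
    omega
  have : {y' | y' ∈ Sn n ∧ qm y' = qm y} = {y, -y} := by
    ext y'
    simp only [Set.mem_setOf_eq, Set.mem_insert_iff, Set.mem_singleton_iff]
    constructor
    · rintro ⟨hy', h⟩
      obtain ⟨z, hz, hz'⟩ := qm_eq_iff.mp h
      have hxn : sqNorm y' ≤ 64 := by rw [hy'.2]; exact hn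
      have hyn : sqNorm y ≤ 64 := by rw [hy.2]; exact hn
      rcases key hy'.1 hz hyn hxn hz' with h1 | h1 | h1
      · left; exact h1.symm
      · right; rw [h1, neg_neg]
      · exfalso; apply hn64; rw [← hy.2, h1.1]
    · rintro (rfl | rfl)
      · exact ⟨hy, rfl⟩
      · refine ⟨⟨neg_mem hy.1, by rw [sqNorm_neg']; exact hy.2⟩, ?_⟩
        rw [qm_eq_iff]
        exact ⟨y, hy.1, by rw [two_nsmul]; abel⟩
  rw [this, Set.ncard_pair hne]

theorem fiber_64 {y : GolayPt → ℤ}
    (hy : y ∈ Sn 64) : {y' | y' ∈ Sn 64 ∧ qm y' = qm y}.ncard = 48 := by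
  have : {y' | y' ∈ Sn 64 ∧ qm y' = qm y} = cross y := by
    ext y'
    simp only [Set.mem_setOf_eq, cross, Sn]
    constructor
    · rintro ⟨⟨h1, h2⟩, h⟩
      obtain ⟨z, hz, hz'⟩ := qm_eq_iff.mp h
      exact ⟨h1, by rw [h2, hy.2], z, hz, hz'⟩
    · rintro ⟨h1, h2, z, hz, hz'⟩
      refine ⟨⟨h1, by rw [h2, hy.2]⟩, ?_⟩
      rw [qm_eq_iff]
      exact ⟨z, hz, hz'⟩
  rw [this]
  exact Cfsg.Agent.S1569.result y hy.1 hy.2

theorem images_disjoint {a b : ℤ} (ha : a ≤ 64) (hb : b ≤ 64) (hab : a ≠ b) :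
    Disjoint (qm '' Sn a) (qm '' Sn b) := by
  rw [Set.disjoint_left]
  rintro _ ⟨x, hx, rfl⟩ ⟨y, hy, h⟩
  exact qm_ne_of_norm_ne ha hb hab hx hy h.symm

theorem card32 : (Sn 32).ncard = 196560 := Cfsg.Agent.S0394.result
theorem card48 : (Sn 48).ncard = 16773120 := Cfsg.Agent.S0395.result
theorem card64 : (Sn 64).ncard = 398034000 := Cfsg.Agent.S0396.result

theorem fin32 : (Sn 32).Finite := Sn_finite 32 _ (by norm_num) card32
theorem fin48 : (Sn 48).Finite := Sn_finite 48 _ (by norm_num) card48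
theorem fin64 : (Sn 64).Finite := Sn_finite 64 _ (by norm_num) card64

theorem img0 : (qm '' Sn 0).ncard = 1 := by
  rw [Sn_zero, Set.image_singleton, Set.ncard_singleton]

theorem img32 : (qm '' Sn 32).ncard = 98280 := by
  have h := ncard_image_mul qm (Sn 32) fin32 2
    (fun y hy => fiber_small (by norm_num) (by norm_num) (by norm_num) hy)
  rw [card32] at h
  omega

theorem img48 : (qm '' Sn 48).ncard = 8386560 := by
  have h := ncard_image_mul qm (Sn 48) fin48 2
    (fun y hy => fiber_small (by norm_num) (by norm_num) (by norm_num) hy)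
  rw [card48] at h
  omega

theorem img64 : (qm '' Sn 64).ncard = 8292375 := by
  have h := ncard_image_mul qm (Sn 64) fin64 48 (fun y hy => fiber_64 hy)
  rw [card64] at h
  omega

/-- the short vectors -/
def short : Set (GolayPt → ℤ) := Sn 0 ∪ Sn 32 ∪ Sn 48 ∪ Sn 64

theorem short_sub : short ⊆ (leechLattice : Set (GolayPt → ℤ)) := by
  intro x hx
  simp only [short, Set.mem_union] at hx
  rcases hx with ((hx | hx) | hx) | hx <;> exact hx.1

theorem short_norm {x : GolayPt → ℤ} (hx : x ∈ short) : sqNorm x ≤ 64 := by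
  simp only [short, Set.mem_union] at hx
  rcases hx with ((hx | hx) | hx) | hx <;> rw [hx.2] <;> norm_num

theorem img_short : (qm '' short).ncard = 2 ^ 24 := by
  have f0 : (qm '' Sn 0).Finite := by rw [Sn_zero]; exact (Set.finite_singleton _).image _
  have f32 := fin32.image qm
  have f48 := fin48.image qm
  have f64 := fin64.image qm
  unfold short
  rw [Set.image_union, Set.image_union, Set.image_union]
  rw [Set.ncard_union_eq ?_ ((f0.union f32).union f48) f64,
    Set.ncard_union_eq ?_ (f0.union f32) f48, Set.ncard_union_eq ?_ f0 f32,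
    img0, img32, img48, img64]
  · norm_num
  · exact images_disjoint (by norm_num) (by norm_num) (by norm_num)
  · rw [Set.disjoint_union_left]
    exact ⟨images_disjoint (by norm_num) (by norm_num) (by norm_num),
      images_disjoint (by norm_num) (by norm_num) (by norm_num)⟩
  · rw [Set.disjoint_union_left, Set.disjoint_union_left]
    exact ⟨⟨images_disjoint (by norm_num) (by norm_num) (by norm_num),
      images_disjoint (by norm_num) (by norm_num) (by norm_num)⟩,
      images_disjoint (by norm_num) (by norm_num) (by norm_num)⟩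

theorem img_eq : qm '' short = qm '' (leechLattice : Set (GolayPt → ℤ)) := by
  have hfin : (qm '' (leechLattice : Set (GolayPt → ℤ))).Finite := by
    apply Set.finite_of_ncard_ne_zero
    rw [card_image_lattice]
    positivity
  apply Set.eq_of_subset_of_ncard_le (Set.image_mono short_sub) _ hfin
  rw [img_short, card_image_lattice]

/-- Every congruence class of the lattice modulo twice the lattice contains a vector of customary norm at most 8. -/
theorem result (x : Cfsg.GolayPt → ℤ) (hx : x ∈ Cfsg.leechLattice) : ∃ y ∈ Cfsg.leechLattice, Cfsg.sqNorm y ≤ 64 ∧ ∃ z ∈ Cfsg.leechLattice, x - y = 2 • z := by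
  have h1 : qm x ∈ qm '' (leechLattice : Set (GolayPt → ℤ)) := ⟨x, hx, rfl⟩
  rw [← img_eq] at h1
  obtain ⟨y, hy, hyx⟩ := h1
  obtain ⟨z, hz, hz'⟩ := qm_eq_iff.mp hyx
  exact ⟨y, short_sub hy, short_norm hy, z, hz, hz'⟩

end Cfsg.Agent.S1570
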