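import Cfsg.Statements.S5392
import Mathlib
import Cfsg.Agent.Lib.Helper3.Co0Triple
import Cfsg.Agent.S1570
-- import your own Cfsg.Agent.* helpers here

set_option autoImplicit false
open Cfsg

namespace Cfsg.Agent.S5392

open Cfsg.Agent.Lib.Helper3

theorem hpq : (none : GolayPt) ≠ some 0 := by decide

theorem P44_apply' (a b i : GolayPt) : P44 a b i = if i = a ∨ i = b then 4 else 0 := rfl

theorem D44_apply (a b i : GolayPt) :
    D44 a b i = if i = a then 4 else if i = b then -4 else 0 := rfl

theorem D44_eq_sv {a b : GolayPt} (hab : a ≠ b) : D44 a b = sv 4 {a, b} {b} := by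
  funext i
  unfold D44 sv
  by_cases h1 : i = a
  · subst h1
    simp [hab]
  · by_cases h2 : i = b
    · subst h2; simp [h1]
    · simp [h1, h2]

theorem D44_mem {a b : GolayPt} (hab : a ≠ b) : D44 a b ∈ leechLattice := by
  rw [D44_eq_sv hab]
  exact sv4_mem (Finset.card_pair hab) (by simp)

theorem sqNorm_D44 {a b : GolayPt} (hab : a ≠ b) : sqNorm (D44 a b) = 32 := by
  rw [D44_eq_sv hab, sqNorm_sv 4 (by simp), Finset.card_pair hab]; norm_num

/-- the standard minimal vector -/
def x0 : ↥leechLattice := ⟨P44 none (some 0), P44_mem hpq⟩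

theorem min_ne_neg {v : ↥leechLattice} (hv : sqNorm v.1 = 32) : v ≠ -v := by
  intro h
  have h1 : v.1 = -v.1 := congrArg Subtype.val h
  have h2 : v.1 = 0 := by
    funext i
    have := congrFun h1 i
    simp only [Pi.neg_apply] at this
    simp only [Pi.zero_apply]
    omega
  rw [h2, sqNorm_zero] at hv
  norm_num at hv

theorem same_sign (g : ↥Co0)
    (H : ∀ v : ↥leechLattice, sqNorm v.1 = 32 → g • v = v ∨ g • v = -v)
    {v v' : ↥leechLattice} (hv : sqNorm v.1 = 32) (hv' : sqNorm v'.1 = 32)
    (hd : dotInt v.1 v'.1 ≠ 0) (h : g • v = v) : g • v' = v' := by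
  rcases H v' hv' with h' | h'
  · exact h'
  · exfalso
    have h1 := co0_dot g.2 v v'
    have e1 : ((g : Equiv.Perm ↥leechLattice) v) = v := h
    have e2 : ((g : Equiv.Perm ↥leechLattice) v') = -v' := h'
    rw [e1, e2] at h1
    have e3 : ((-v' : ↥leechLattice) : GolayPt → ℤ) = -(v'.1) := rfl
    rw [e3, dotInt_neg_right] at h1
    apply hd
    omega

theorem lemmaX (g : ↥Co0)
    (H : ∀ v : ↥leechLattice, sqNorm v.1 = 32 → g • v = v ∨ g • v = -v)
    (h0 : g • x0 = x0) : ∀ v : ↥leechLattice, g • v = v := by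
  have hx0n : sqNorm x0.1 = 32 := sqNorm_P44 hpq
  have hzP : ∀ (j : GolayPt) (hj : j ≠ none), j ≠ some 0 →
      g • (⟨P44 none j, P44_mem (Ne.symm hj)⟩ : ↥leechLattice) =
        ⟨P44 none j, P44_mem (Ne.symm hj)⟩ := by
    intro j hj hj0
    apply same_sign g H hx0n (sqNorm_P44 (Ne.symm hj)) _ h0
    show dotInt (P44 none (some 0)) (P44 none j) ≠ 0
    rw [dot_P44 hpq, P44_apply', P44_apply']
    simp [hj0.symm]
  have hzD : ∀ (j : GolayPt) (hj : j ≠ none), j ≠ some 0 →
      g • (⟨D44 none j, D44_mem (Ne.symm hj)⟩ : ↥leechLattice) =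
        ⟨D44 none j, D44_mem (Ne.symm hj)⟩ := by
    intro j hj hj0
    apply same_sign g H hx0n (sqNorm_D44 (Ne.symm hj)) _ h0
    show dotInt (P44 none (some 0)) (D44 none j) ≠ 0
    rw [dot_P44 hpq, D44_apply, D44_apply]
    simp [hj0.symm, hpq.symm]
  have hmin : ∀ y : ↥leechLattice, sqNorm y.1 = 32 → g • y = y := by
    intro y hy
    by_cases hy0 : y.1 none = 0
    · -- some other coordinate is nonzero
      have hex : ∃ k, y.1 k ≠ 0 := by
        by_contra hcon
        push Not at hcon
        have : y.1 = 0 := funext hcon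
        rw [this, sqNorm_zero] at hy
        norm_num at hy
      obtain ⟨k, hk⟩ := hex
      have hkn : k ≠ none := fun h => hk (h ▸ hy0)
      by_cases hk0 : k = some 0
      · apply same_sign g H hx0n hy _ h0
        show dotInt (P44 none (some 0)) y.1 ≠ 0
        rw [dot_P44 hpq, hy0]
        rw [hk0] at hk
        intro h; apply hk; omega
      · apply same_sign g H (sqNorm_P44 (Ne.symm hkn)) hy _ (hzP k hkn hk0)
        show dotInt (P44 none k) y.1 ≠ 0
        rw [dot_P44 (Ne.symm hkn), hy0]
        intro h; apply hk; omega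
    · have hj : (some 1 : GolayPt) ≠ none := by decide
      have hj0 : (some 1 : GolayPt) ≠ some 0 := by decide
      by_cases hd : dotInt (P44 none (some 1)) y.1 = 0
      · apply same_sign g H (sqNorm_D44 (Ne.symm hj)) hy _ (hzD _ hj hj0)
        show dotInt (D44 none (some 1)) y.1 ≠ 0
        rw [dot_P44 (Ne.symm hj)] at hd
        rw [dot_D44 (Ne.symm hj)]
        intro h; apply hy0; omega
      · exact same_sign g H (sqNorm_P44 (Ne.symm hj)) hy hd (hzP _ hj hj0)
  apply leech_induction (fun v => g • v = v) hmin (co0_zero g)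
  · intro a b ha hb
    show g • (a + b) = a + b
    rw [co0_add, ha, hb]
  · intro a ha
    show g • (-a) = -a
    rw [co0_neg, ha]

/-- negation as an element of `Co0` -/
def negC : ↥Co0 := ⟨Equiv.neg ↥leechLattice, neg_mem_Co0⟩

theorem negC_smul (v : ↥leechLattice) : negC • v = -v := rfl

theorem part1 (g : ↥Co0) (hg : ∀ v : ↥leechLattice, ∃ w : ↥leechLattice,
    ((g • v : ↥leechLattice) : GolayPt → ℤ) - (v : GolayPt → ℤ) = (2 : ℕ) • (w : GolayPt → ℤ)) :
    g ∈ Subgroup.center ↥Co0 := by
  have H : ∀ v : ↥leechLattice, sqNorm v.1 = 32 → g • v = v ∨ g • v = -v := by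
    intro v hv
    obtain ⟨w, hw⟩ := hg v
    have hgn : sqNorm ((g • v : ↥leechLattice) : GolayPt → ℤ) = 32 := (g.2.2 v).trans hv
    rcases Cfsg.Agent.S1570.key v.2 w.2 (by rw [hgn]; norm_num) (by rw [hv]; norm_num) hw with
      h | h | h
    · left; exact Subtype.ext h
    · right; exact Subtype.ext h
    · exfalso; rw [hgn] at h; norm_num at h
  have hx0n : sqNorm x0.1 = 32 := sqNorm_P44 hpq
  rw [Subgroup.mem_center_iff]
  rcases H x0 hx0n with h0 | h0
  · have hall := lemmaX g H h0
    have hg1 : g = 1 := by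
      apply Subtype.ext
      apply Equiv.ext
      intro v
      exact hall v
    intro h
    rw [hg1, mul_one, one_mul]
  · have H' : ∀ v : ↥leechLattice, sqNorm v.1 = 32 →
        (negC * g) • v = v ∨ (negC * g) • v = -v := by
      intro v hv
      rw [mul_smul, negC_smul]
      rcases H v hv with h | h
      · right; rw [h]
      · left; rw [h, neg_neg]
    have h0' : (negC * g) • x0 = x0 := by
      rw [mul_smul, negC_smul, h0, neg_neg]
    have hall := lemmaX (negC * g) H' h0'
    have hgv : ∀ v : ↥leechLattice, g • v = -v := by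
      intro v
      have := hall v
      rw [mul_smul, negC_smul] at this
      exact neg_eq_iff_eq_neg.1 this
    intro h
    apply Subtype.ext
    apply Equiv.ext
    intro v
    show h • (g • v) = g • (h • v)
    rw [hgv, hgv, co0_neg]

theorem P44_sub {r s t : GolayPt} (hrs : r ≠ s) (hrt : r ≠ t) (hst : s ≠ t) :
    P44 r s - P44 r t = D44 s t := by
  funext i
  simp only [Pi.sub_apply]
  unfold P44 D44
  by_cases h1 : i = r
  · subst h1; simp [hrs, hrt]
  · by_cases h2 : i = s
    · subst h2; simp [hst, h1]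
    · by_cases h3 : i = t
      · subst h3; simp [h1, h2]
      · simp [h1, h2, h3]

theorem two_smul_eq (z : GolayPt → ℤ) : (2 : ℤ) • z = (2 : ℕ) • z := by
  rw [two_zsmul, two_nsmul]

theorem p5_mem (j : GolayPt) : p5 j ∈ leechLattice := by
  have h : oddv Finset.univ (p5 j) = p5 j := by
    funext i
    unfold oddv
    have : p5 j i % 4 = 1 := by unfold p5; split_ifs <;> norm_num
    simp [this]
  rw [← h]
  exact oddv_mem univ_mem_supports (p5_odd j) (by rw [sqNorm_p5]; norm_num)

theorem part2 (M : AddSubgroup (GolayPt → ℤ)) (h2 : ∀ v ∈ leechLattice, (2 : ℤ) • v ∈ M)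
    (hle : M ≤ leechLattice)
    (hinv : ∀ g : ↥Co0, ∀ v : ↥leechLattice, (v : GolayPt → ℤ) ∈ M →
      ((g • v : ↥leechLattice) : GolayPt → ℤ) ∈ M) :
    (∀ x ∈ M, ∃ w ∈ leechLattice, x = (2 : ℤ) • w) ∨ M = leechLattice := by
  by_cases hall : ∀ x ∈ M, ∃ w ∈ leechLattice, x = (2 : ℤ) • w
  · exact Or.inl hall
  right
  push Not at hall
  obtain ⟨x, hxM, hx⟩ := hall
  obtain ⟨y, hy, hyn, z, hz, hxy⟩ := Cfsg.Agent.S1570.result x (hle hxM)
  have hyM : y ∈ M := by
    have : y = x - (2 : ℤ) • z := by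
      rw [two_smul_eq, ← hxy]; abel
    rw [this]
    exact M.sub_mem hxM (h2 z hz)
  have hy0 : y ≠ 0 := by
    intro h
    rw [h, sub_zero] at hxy
    exact hx z hz (by rw [two_smul_eq]; exact hxy)
  have hn32 := Cfsg.Agent.S0391.result y hy hy0
  have hdvd := Cfsg.Agent.S0392.result y hy
  -- all minimal vectors lie in `M`
  have hminM : ∀ m : ↥leechLattice, sqNorm m.1 = 32 → m.1 ∈ M := by
    have hfrom : ∀ m0 : ↥leechLattice, sqNorm m0.1 = 32 → m0.1 ∈ M →
        ∀ m : ↥leechLattice, sqNorm m.1 = 32 → m.1 ∈ M := by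
      intro m0 hm0 hm0M m hm
      obtain ⟨g, hg, hgm⟩ := co0_trans_minimal m0 m hm0 hm
      have := hinv ⟨g, hg⟩ m0 hm0M
      have e : (⟨g, hg⟩ : ↥Co0) • m0 = m := hgm
      rw [e] at this
      exact this
    have hcases : sqNorm y = 32 ∨ sqNorm y = 48 ∨ sqNorm y = 64 := by
      obtain ⟨k, hk⟩ := hdvd
      omega
    rcases hcases with hc | hc | hc
    · exact hfrom ⟨y, hy⟩ hc hyM
    · -- all vectors of norm 48 are in `M`
      have h48 : ∀ u : ↥leechLattice, sqNorm u.1 = 48 → u.1 ∈ M := by
        intro u hu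
        obtain ⟨g, hg, hgm⟩ := co0_trans_norm48 ⟨y, hy⟩ u hc hu
        have := hinv ⟨g, hg⟩ ⟨y, hy⟩ hyM
        have e : (⟨g, hg⟩ : ↥Co0) • (⟨y, hy⟩ : ↥leechLattice) = u := hgm
        rw [e] at this
        exact this
      have e : D44 none (some 0) = p5 none - p5 (some 0) := by
        funext i
        simp only [Pi.sub_apply]
        unfold D44 p5
        by_cases h1 : i = none
        · subst h1; simp
        · by_cases h2 : i = some 0
          · subst h2; simp
          · simp [h1, h2]
      have hD : D44 none (some 0) ∈ M := by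
        rw [e]
        exact M.sub_mem (h48 ⟨p5 none, p5_mem none⟩ (sqNorm_p5 none))
          (h48 ⟨p5 (some 0), p5_mem (some 0)⟩ (sqNorm_p5 (some 0)))
      exact hfrom ⟨D44 none (some 0), D44_mem hpq⟩ (sqNorm_D44 hpq) hD
    · have h64 : ∀ u : ↥leechLattice, sqNorm u.1 = 64 → u.1 ∈ M := by
        intro u hu
        obtain ⟨g, hg, hgm⟩ := co0_trans_norm64 ⟨y, hy⟩ u hc hu
        have := hinv ⟨g, hg⟩ ⟨y, hy⟩ hyM
        have e : (⟨g, hg⟩ : ↥Co0) • (⟨y, hy⟩ : ↥leechLattice) = u := hgm
        rw [e] at this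
        exact this
      have h12 : (some 1 : GolayPt) ≠ some 2 := by decide
      have h13 : (some 1 : GolayPt) ≠ some 3 := by decide
      have h23 : (some 2 : GolayPt) ≠ some 3 := by decide
      have ha : P44 none (some 0) + P44 (some 1) (some 2) ∈ leechLattice :=
        leechLattice.add_mem (P44_mem hpq) (P44_mem h12)
      have hb : P44 none (some 0) + P44 (some 1) (some 3) ∈ leechLattice :=
        leechLattice.add_mem (P44_mem hpq) (P44_mem h13)
      have q1 : P44 (some 1) (some 2) none = 0 := by decide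
      have q2 : P44 (some 1) (some 2) (some 0) = 0 := by decide
      have q3 : P44 (some 1) (some 3) none = 0 := by decide
      have q4 : P44 (some 1) (some 3) (some 0) = 0 := by decide
      have han : sqNorm (P44 none (some 0) + P44 (some 1) (some 2)) = 64 := by
        rw [sqNorm_add, sqNorm_P44 hpq, sqNorm_P44 h12, dot_P44 hpq, q1, q2]
        norm_num
      have hbn : sqNorm (P44 none (some 0) + P44 (some 1) (some 3)) = 64 := by
        rw [sqNorm_add, sqNorm_P44 hpq, sqNorm_P44 h13, dot_P44 hpq, q3, q4]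
        norm_num
      have e : D44 (some 2) (some 3) = (P44 none (some 0) + P44 (some 1) (some 2)) -
          (P44 none (some 0) + P44 (some 1) (some 3)) := by
        rw [add_sub_add_left_eq_sub, P44_sub h12 h13 h23]
      have hD : D44 (some 2) (some 3) ∈ M := by
        rw [e]
        exact M.sub_mem (h64 ⟨_, ha⟩ han) (h64 ⟨_, hb⟩ hbn)
      exact hfrom ⟨D44 (some 2) (some 3), D44_mem h23⟩ (sqNorm_D44 h23) hD
  apply le_antisymm hle
  intro v hv
  have := leech_induction (fun v => v.1 ∈ M) hminM M.zero_mem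
    (fun a b ha hb => M.add_mem ha hb) (fun a ha => M.neg_mem ha) ⟨v, hv⟩
  exact this

/-- The Leech lattice modulo twice itself is a faithful irreducible module for the first Conway group: an automorphism of the rank-24 lattice built from the length-24 code that moves every lattice vector only by twice a lattice vector lies in the centre of the automorphism group (the centre consists of ±1, which act trivially there, so the kernel is exactly the centre), and an additive subgroup lying between twice the lattice and the lattice that is invariant under all lattice automorphisms is one of the two. -/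
theorem result : (∀ g : ↥Cfsg.Co0, (∀ v : ↥Cfsg.leechLattice, ∃ w : ↥Cfsg.leechLattice, ((g • v : ↥Cfsg.leechLattice) : Cfsg.GolayPt → ℤ) - (v : Cfsg.GolayPt → ℤ) = 2 • (w : Cfsg.GolayPt → ℤ)) → g ∈ Subgroup.center ↥Cfsg.Co0) ∧ ∀ M : AddSubgroup (Cfsg.GolayPt → ℤ), (∀ v ∈ Cfsg.leechLattice, (2 : ℤ) • v ∈ M) → M ≤ Cfsg.leechLattice → (∀ g : ↥Cfsg.Co0, ∀ v : ↥Cfsg.leechLattice, (v : Cfsg.GolayPt → ℤ) ∈ M → ((g • v : ↥Cfsg.leechLattice) : Cfsg.GolayPt → ℤ) ∈ M) → (∀ x ∈ M, ∃ w ∈ Cfsg.leechLattice, x = (2 : ℤ) • w) ∨ M = Cfsg.leechLattice := by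
  exact ⟨fun g hg => part1 g hg, fun M h2 hle hinv => part2 M h2 hle hinv⟩

end Cfsg.Agent.S5392
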