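import Cfsg.Statements.S0365
import Cfsg.Agent.Lib.Helper9.PointStabSimple
import Cfsg.Agent.Lib.Helper9.PairEmb
import Cfsg.Agent.Lib.Helper21.GolayTrans5
import Cfsg.Agent.Lib.Helper21.GolayChain
import Cfsg.Agent.S0376
import Cfsg.Agent.S0377

set_option autoImplicit false
open Cfsg

namespace Cfsg.Agent.S0365

/-- The permutation group preserving the length-24 code is simple. -/
theorem result : IsSimpleGroup Cfsg.M24 := by
  classical
  have : Fact (Nat.Prime 23) := ⟨by norm_num⟩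
  let p : Cfsg.GolayPt := none
  set H : Subgroup Cfsg.M24 := MulAction.stabilizer Cfsg.M24 p with hH
  have hsimple : IsSimpleGroup H := Cfsg.Agent.S0377.result p
  have hcardH : Nat.card H = 10200960 := Cfsg.Agent.S0376.result p
  have hcardG : Nat.card Cfsg.M24 = 244823040 := Cfsg.Agent.Lib.Helper21.card_M24
  have hmemH : ∀ x : Cfsg.M24, x ∈ H ↔ (x : Equiv.Perm Cfsg.GolayPt) p = p := by
    intro x
    rw [hH, MulAction.mem_stabilizer_iff]
    rfl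
  have htrans2 : ∀ a b : Cfsg.GolayPt, a ≠ p → b ≠ p → ∃ h ∈ Cfsg.M24, h p = p ∧ h a = b := by
    intro a b ha hb
    obtain ⟨g₁, hg₁, h₁⟩ := Cfsg.Agent.Lib.Helper21.exists_map_embedding (n := 2) (by norm_num)
      (Cfsg.Agent.Lib.Helper9.PairEmb.pairEmb p a (Ne.symm ha))
    obtain ⟨g₂, hg₂, h₂⟩ := Cfsg.Agent.Lib.Helper21.exists_map_embedding (n := 2) (by norm_num)
      (Cfsg.Agent.Lib.Helper9.PairEmb.pairEmb p b (Ne.symm hb))
    have e10 : g₁ (Cfsg.Agent.Lib.Helper21.ptN 0) = p := h₁ 0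
    have e11 : g₁ (Cfsg.Agent.Lib.Helper21.ptN 1) = a := h₁ 1
    have e20 : g₂ (Cfsg.Agent.Lib.Helper21.ptN 0) = p := h₂ 0
    have e21 : g₂ (Cfsg.Agent.Lib.Helper21.ptN 1) = b := h₂ 1
    refine ⟨g₂ * g₁⁻¹, Cfsg.M24.mul_mem hg₂ (Cfsg.M24.inv_mem hg₁), ?_, ?_⟩
    · have h1 : g₁⁻¹ p = Cfsg.Agent.Lib.Helper21.ptN 0 := by
        conv_lhs => rw [← e10]
        exact Cfsg.Agent.Lib.Helper21.perm_inv_apply _ _
      rw [Equiv.Perm.mul_apply, h1, e20]
    · have h1 : g₁⁻¹ a = Cfsg.Agent.Lib.Helper21.ptN 1 := by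
        conv_lhs => rw [← e11]
        exact Cfsg.Agent.Lib.Helper21.perm_inv_apply _ _
      rw [Equiv.Perm.mul_apply, h1, e21]
  apply Cfsg.Agent.Lib.Helper9.PointStabSimple.simple_of_point_stabilizer H hsimple 23
  · have h1 := Subgroup.card_mul_index H
    rw [hcardH, hcardG] at h1
    omega
  · rw [hcardH]; norm_num
  · norm_num
  · norm_num
  · -- double cosets
    intro k g hk hg
    rw [hmemH] at hk hg
    obtain ⟨h₁, h₁M, h₁p, h₁k⟩ := htrans2 _ _ hk hg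
    let h₁' : Cfsg.M24 := ⟨h₁, h₁M⟩
    refine ⟨h₁', (hmemH _).2 h₁p, (h₁' * k)⁻¹ * g, ?_, by group⟩
    rw [hmemH]
    show (h₁ * (k : Equiv.Perm Cfsg.GolayPt))⁻¹ ((g : Equiv.Perm Cfsg.GolayPt) p) = p
    rw [← h₁k, ← Equiv.Perm.mul_apply h₁, Cfsg.Agent.Lib.Helper21.perm_inv_apply]
  · -- core-free
    intro N hNn hNH
    rw [eq_bot_iff]
    intro n hn
    rw [Subgroup.mem_bot]
    apply Subtype.ext
    apply Equiv.ext
    intro y
    show (n : Equiv.Perm Cfsg.GolayPt) y = y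
    by_cases hy : y = p
    · rw [hy]; exact (hmemH n).1 (hNH hn)
    · -- move `p` to `y`
      obtain ⟨g, hgM, hgp⟩ : ∃ g ∈ Cfsg.M24, g p = y := by
        obtain ⟨g₁, hg₁, h₁⟩ := Cfsg.Agent.Lib.Helper21.exists_map_embedding (n := 2) (by norm_num)
          (Cfsg.Agent.Lib.Helper9.PairEmb.pairEmb p y (Ne.symm hy))
        obtain ⟨g₂, hg₂, h₂⟩ := Cfsg.Agent.Lib.Helper21.exists_map_embedding (n := 2) (by norm_num)
          (Cfsg.Agent.Lib.Helper9.PairEmb.pairEmb y p hy)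
        have e10 : g₁ (Cfsg.Agent.Lib.Helper21.ptN 0) = p := h₁ 0
        have e20 : g₂ (Cfsg.Agent.Lib.Helper21.ptN 0) = y := h₂ 0
        refine ⟨g₂ * g₁⁻¹, Cfsg.M24.mul_mem hg₂ (Cfsg.M24.inv_mem hg₁), ?_⟩
        have h1 : g₁⁻¹ p = Cfsg.Agent.Lib.Helper21.ptN 0 := by
          conv_lhs => rw [← e10]
          exact Cfsg.Agent.Lib.Helper21.perm_inv_apply _ _
        rw [Equiv.Perm.mul_apply, h1, e20]
      let g' : Cfsg.M24 := ⟨g, hgM⟩
      have h1 : g'⁻¹ * n * g'⁻¹⁻¹ ∈ N := hNn.conj_mem n hn g'⁻¹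
      have h2 := (hmemH _).1 (hNH h1)
      have h3 : (g⁻¹ * (n : Equiv.Perm Cfsg.GolayPt) * g⁻¹⁻¹) p = p := h2
      rw [inv_inv, Equiv.Perm.mul_apply, Equiv.Perm.mul_apply, hgp] at h3
      have h4 := congrArg g h3
      rwa [Cfsg.Agent.Lib.Helper21.perm_apply_inv, hgp] at h4

end Cfsg.Agent.S0365
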