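import Cfsg.Statements.S1573
import Mathlib
import Cfsg.Agent.Lib.Helper3.Co0Triple
import Cfsg.Agent.Lib.Helper3.LeechNorm64
import Cfsg.Agent.S0394
-- import your own Cfsg.Agent.* helpers here

set_option autoImplicit false
open Cfsg

namespace Cfsg.Agent.S1573

open Cfsg.Agent.Lib.Helper3

theorem sv_apply (c : ℤ) (s T : Finset GolayPt) (i : GolayPt) :
    sv c s T i = if i ∈ T then -c else if i ∈ s then c else 0 := rfl

theorem ov_apply (C : Finset GolayPt) (j i : GolayPt) :
    ov C j i = if i = j then (if j ∈ C then -3 else 3) else if i ∈ C then 1 else -1 := rfl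

theorem hpq : (none : GolayPt) ≠ some 0 := by decide

/-! ### the minimal vectors as a finset -/

theorem L2_fin : {x : GolayPt → ℤ | x ∈ leechLattice ∧ sqNorm x = 32}.Finite :=
  Set.finite_of_ncard_ne_zero (by rw [Cfsg.Agent.S0394.result]; norm_num)

noncomputable def L2 : Finset (GolayPt → ℤ) := L2_fin.toFinset

theorem mem_L2 {w : GolayPt → ℤ} : w ∈ L2 ↔ w ∈ leechLattice ∧ sqNorm w = 32 := by
  unfold L2
  rw [Set.Finite.mem_toFinset]
  rfl

theorem card_L2 : L2.card = 196560 := by
  rw [← Cfsg.Agent.S0394.result, Set.ncard_eq_toFinset_card _ L2_fin]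
  rfl

theorem sum_sgn {C : Finset GolayPt} (hC : C ∈ supports (golayCode : Set (GolayPt → ZMod 2)))
    (F : (GolayPt → ℤ) → ℤ) : ∑ w ∈ L2, F (sgnVec C w) = ∑ w ∈ L2, F w := by
  apply Finset.sum_nbij' (fun w => sgnVec C w) (fun w => sgnVec C w)
  · intro w hw
    rw [mem_L2] at hw ⊢
    exact ⟨sgnVec_mem hC hw.1, by rw [sqNorm_sgnVec]; exact hw.2⟩
  · intro w hw
    rw [mem_L2] at hw ⊢
    exact ⟨sgnVec_mem hC hw.1, by rw [sqNorm_sgnVec]; exact hw.2⟩
  · intro w _; exact sgnVec_sgnVec C w
  · intro w _; exact sgnVec_sgnVec C w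
  · intro w _; rfl

theorem perm_mem_L2 {σ : Equiv.Perm GolayPt} (hσ : σ ∈ M24) {w : GolayPt → ℤ} (hw : w ∈ L2) :
    (fun k => w (σ k)) ∈ L2 := by
  rw [mem_L2] at hw ⊢
  refine ⟨(permL σ hσ ⟨w, hw.1⟩).2, ?_⟩
  have := (permL_mem σ hσ).2 ⟨w, hw.1⟩
  exact this.trans hw.2

theorem sum_perm {σ : Equiv.Perm GolayPt} (hσ : σ ∈ M24)
    (F : (GolayPt → ℤ) → ℤ) : ∑ w ∈ L2, F (fun k => w (σ k)) = ∑ w ∈ L2, F w := by
  have hσ' : σ⁻¹ ∈ M24 := M24.inv_mem hσ
  apply Finset.sum_nbij' (fun w => fun k => w (σ k)) (fun w => fun k => w (σ⁻¹ k))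
  · intro w hw; exact perm_mem_L2 hσ hw
  · intro w hw; exact perm_mem_L2 hσ' hw
  · intro w _; funext k; simp
  · intro w _; funext k; simp
  · intro w _; rfl

theorem neg_mem_L2 {w : GolayPt → ℤ} (hw : w ∈ L2) : -w ∈ L2 := by
  rw [mem_L2] at hw ⊢
  exact ⟨leechLattice.neg_mem hw.1, by rw [sqNorm_neg]; exact hw.2⟩

/-! ### second moment -/

theorem cross_zero : ∑ w ∈ L2, w none * w (some 0) = 0 := by
  obtain ⟨O, hO, h1, h2⟩ := exists_octad_sep hpq
  have h := sum_sgn hO.1 (fun w => w none * w (some 0))
  have e : ∀ w : GolayPt → ℤ, sgnVec O w none * sgnVec O w (some 0) = -(w none * w (some 0)) := by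
    intro w
    unfold sgnVec
    rw [if_pos h1, if_neg h2]; ring
  simp only [e] at h
  rw [Finset.sum_neg_distrib] at h
  linarith

theorem K_eq (i : GolayPt) : ∑ w ∈ L2, (w i) ^ 2 = ∑ w ∈ L2, (w none) ^ 2 := by
  obtain ⟨σ, hσ, hs⟩ := M24_trans none i
  have h := sum_perm hσ (fun w => (w none) ^ 2)
  simp only [hs] at h
  exact h

theorem K_val : ∑ w ∈ L2, (w none) ^ 2 = 262080 := by
  have h1 : ∑ i : GolayPt, ∑ w ∈ L2, (w i) ^ 2 = 24 * ∑ w ∈ L2, (w none) ^ 2 := by
    rw [Finset.sum_congr rfl (fun i _ => K_eq i), Finset.sum_const, Finset.card_univ,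
      card_golayPt]
    simp
  have h2 : ∑ i : GolayPt, ∑ w ∈ L2, (w i) ^ 2 = 32 * 196560 := by
    rw [Finset.sum_comm]
    have : ∀ w ∈ L2, ∑ i : GolayPt, (w i) ^ 2 = 32 := by
      intro w hw
      exact (mem_L2.1 hw).2
    rw [Finset.sum_congr rfl this, Finset.sum_const, card_L2]
    simp
  omega

theorem moment2 : ∑ w ∈ L2, (dotInt (P44 none (some 0)) w) ^ 2 = 8386560 := by
  have e : ∀ w : GolayPt → ℤ, (dotInt (P44 none (some 0)) w) ^ 2 =
      16 * (w none) ^ 2 + 16 * (w (some 0)) ^ 2 + 32 * (w none * w (some 0)) := by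
    intro w
    rw [dot_P44 hpq]; ring
  simp only [e]
  rw [Finset.sum_add_distrib, Finset.sum_add_distrib, ← Finset.mul_sum, ← Finset.mul_sum,
    ← Finset.mul_sum, cross_zero, K_eq (some 0), K_val]
  norm_num

/-! ### the possible inner products -/

theorem sqNorm_eq_zero {x : GolayPt → ℤ} (h : sqNorm x = 0) : x = 0 := by
  funext i
  unfold sqNorm at h
  have := (Finset.sum_eq_zero_iff_of_nonneg (fun i _ => sq_nonneg (x i))).1 h i (Finset.mem_univ _)
  exact pow_eq_zero_iff (by norm_num) |>.1 this

theorem dot_vals {w : GolayPt → ℤ} (hw : w ∈ L2) :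
    dotInt (P44 none (some 0)) w ∈ ({-32, -16, -8, 0, 8, 16, 32} : Finset ℤ) := by
  rw [dot_P44 hpq]
  rw [mem_L2] at hw
  simp only [Finset.mem_insert, Finset.mem_singleton]
  rcases (leech_minimal_iff w).1 hw with ⟨s, T, hs, hT, rfl⟩ | ⟨s, T, hs, hT, hev, rfl⟩ |
    ⟨C, j, hC, rfl⟩
  · rw [sv_apply, sv_apply]
    split_ifs <;> norm_num
  · rw [sv_apply, sv_apply]
    split_ifs <;> norm_num
  · rw [ov_apply, ov_apply]
    by_cases h1 : (none : GolayPt) = j
    · have h2 : ¬ ((some 0 : GolayPt) = j) := fun h => hpq (h1.trans h.symm)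
      rw [if_pos h1, if_neg h2]
      split_ifs <;> norm_num
    · rw [if_neg h1]
      split_ifs <;> norm_num

theorem v0_mem_L2 : P44 none (some 0) ∈ L2 := mem_L2.2 ⟨P44_mem hpq, sqNorm_P44 hpq⟩

theorem dot_eq_32 {w : GolayPt → ℤ} (hw : w ∈ L2) :
    dotInt (P44 none (some 0)) w = 32 ↔ w = P44 none (some 0) := by
  constructor
  · intro h
    have h1 : sqNorm (w - P44 none (some 0)) = 0 := by
      rw [sqNorm_sub, (mem_L2.1 hw).2, sqNorm_P44 hpq, dotInt_comm, h]; norm_num
    have := sqNorm_eq_zero h1
    exact sub_eq_zero.1 this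
  · intro h
    rw [h, dotInt_self, sqNorm_P44 hpq]

theorem dot_eq_m32 {w : GolayPt → ℤ} (hw : w ∈ L2) :
    dotInt (P44 none (some 0)) w = -32 ↔ w = -P44 none (some 0) := by
  constructor
  · intro h
    have h1 : sqNorm (w + P44 none (some 0)) = 0 := by
      rw [sqNorm_add, (mem_L2.1 hw).2, sqNorm_P44 hpq, dotInt_comm, h]; norm_num
    have := sqNorm_eq_zero h1
    exact eq_neg_of_add_eq_zero_left this
  · intro h
    rw [h, dotInt_neg_right, dotInt_self, sqNorm_P44 hpq]

/-- the census numbers -/
noncomputable def nn (c : ℤ) : ℕ := (L2.filter (fun w => dotInt (P44 none (some 0)) w = c)).card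

theorem nn_32 : nn 32 = 1 := by
  unfold nn
  rw [Finset.card_eq_one]
  refine ⟨P44 none (some 0), ?_⟩
  ext w
  rw [Finset.mem_filter, Finset.mem_singleton]
  constructor
  · rintro ⟨h1, h2⟩
    exact (dot_eq_32 h1).1 h2
  · intro h
    rw [h]
    exact ⟨v0_mem_L2, (dot_eq_32 v0_mem_L2).2 rfl⟩

theorem nn_m32 : nn (-32) = 1 := by
  unfold nn
  rw [Finset.card_eq_one]
  refine ⟨-P44 none (some 0), ?_⟩
  ext w
  rw [Finset.mem_filter, Finset.mem_singleton]
  constructor
  · rintro ⟨h1, h2⟩
    exact (dot_eq_m32 h1).1 h2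
  · intro h
    rw [h]
    exact ⟨neg_mem_L2 v0_mem_L2, (dot_eq_m32 (neg_mem_L2 v0_mem_L2)).2 rfl⟩

theorem nn_neg (c : ℤ) : nn (-c) = nn c := by
  unfold nn
  apply Finset.card_bij (fun w _ => -w)
  · intro w hw
    rw [Finset.mem_filter] at hw ⊢
    refine ⟨neg_mem_L2 hw.1, ?_⟩
    rw [dotInt_neg_right, hw.2, neg_neg]
  · intro w _ w' _ h
    exact neg_injective h
  · intro w hw
    rw [Finset.mem_filter] at hw
    refine ⟨-w, ?_, neg_neg w⟩
    rw [Finset.mem_filter]
    refine ⟨neg_mem_L2 hw.1, ?_⟩
    rw [dotInt_neg_right, hw.2]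

theorem fiber_sum (f : ℤ → ℤ) : ∑ w ∈ L2, f (dotInt (P44 none (some 0)) w) =
    ∑ c ∈ ({-32, -16, -8, 0, 8, 16, 32} : Finset ℤ), (nn c : ℤ) * f c := by
  rw [← Finset.sum_fiberwise_of_maps_to (g := fun w => dotInt (P44 none (some 0)) w)
    (fun w hw => dot_vals hw)]
  apply Finset.sum_congr rfl
  intro c _
  have : ∀ w ∈ L2.filter (fun w => dotInt (P44 none (some 0)) w = c),
      f (dotInt (P44 none (some 0)) w) = f c := by
    intro w hw
    rw [(Finset.mem_filter.1 hw).2]
  rw [Finset.sum_congr rfl this, Finset.sum_const]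
  unfold nn
  simp

/-! ### the count `4600` -/

open Classical in
noncomputable def codeFin : Finset (Finset GolayPt) :=
  Finset.univ.filter (· ∈ supports (golayCode : Set (GolayPt → ZMod 2)))

theorem mem_codeFin {C : Finset GolayPt} :
    C ∈ codeFin ↔ C ∈ supports (golayCode : Set (GolayPt → ZMod 2)) := by
  unfold codeFin; simp

theorem card_codeFin : codeFin.card = 4096 := by
  rw [← Cfsg.Agent.Lib.Helper21.ncard_golayCode,
    ← Set.ncard_image_of_injective _ Cfsg.Agent.Lib.Helper21.support₂_injective,
    ← Set.ncard_coe_finset]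
  congr 1
  ext s
  simp only [Finset.mem_coe, mem_codeFin]
  rfl

theorem translate_card {O : Finset GolayPt}
    (hO : O ∈ supports (golayCode : Set (GolayPt → ZMod 2)))
    (P Q : Finset GolayPt → Prop) [DecidablePred P] [DecidablePred Q]
    (h : ∀ C, P C ↔ Q ((C \ O) ∪ (O \ C))) :
    (codeFin.filter P).card = (codeFin.filter Q).card := by
  have hinv : ∀ C : Finset GolayPt, (((C \ O) ∪ (O \ C)) \ O) ∪ (O \ ((C \ O) ∪ (O \ C))) = C := by
    intro C
    ext i
    simp only [Finset.mem_union, Finset.mem_sdiff]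
    tauto
  apply Finset.card_bij (fun C _ => (C \ O) ∪ (O \ C))
  · intro C hC
    rw [Finset.mem_filter] at hC ⊢
    exact ⟨mem_codeFin.2 (supports_symmDiff (mem_codeFin.1 hC.1) hO), (h C).1 hC.2⟩
  · intro C _ C' _ hh
    rw [← hinv C, ← hinv C', hh]
  · intro C hC
    rw [Finset.mem_filter] at hC
    refine ⟨(C \ O) ∪ (O \ C), ?_, hinv C⟩
    rw [Finset.mem_filter]
    refine ⟨mem_codeFin.2 (supports_symmDiff (mem_codeFin.1 hC.1) hO), ?_⟩
    rw [h, hinv]
    exact hC.2

theorem code_classes :
    (codeFin.filter (fun C => (none : GolayPt) ∈ C ∧ (some 0 : GolayPt) ∉ C)).card = 1024 ∧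
    (codeFin.filter (fun C => (none : GolayPt) ∉ C ∧ (some 0 : GolayPt) ∈ C)).card = 1024 := by
  obtain ⟨O1, hO1, a1, a2⟩ := exists_octad_sep hpq
  obtain ⟨O2, hO2, b1, b2⟩ := exists_octad_sep hpq.symm
  have e1 : (codeFin.filter (fun C => (none : GolayPt) ∉ C ∧ (some 0 : GolayPt) ∉ C)).card =
      (codeFin.filter (fun C => (none : GolayPt) ∈ C ∧ (some 0 : GolayPt) ∉ C)).card := by
    apply translate_card hO1.1
    intro C
    simp only [Finset.mem_union, Finset.mem_sdiff]
    tauto
  have e2 : (codeFin.filter (fun C => (none : GolayPt) ∉ C ∧ (some 0 : GolayPt) ∈ C)).card =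
      (codeFin.filter (fun C => (none : GolayPt) ∈ C ∧ (some 0 : GolayPt) ∈ C)).card := by
    apply translate_card hO1.1
    intro C
    simp only [Finset.mem_union, Finset.mem_sdiff]
    tauto
  have e3 : (codeFin.filter (fun C => (none : GolayPt) ∉ C ∧ (some 0 : GolayPt) ∉ C)).card =
      (codeFin.filter (fun C => (none : GolayPt) ∉ C ∧ (some 0 : GolayPt) ∈ C)).card := by
    apply translate_card hO2.1
    intro C
    simp only [Finset.mem_union, Finset.mem_sdiff]
    tauto
  have s1 := Finset.card_filter_add_card_filter_not (s := codeFin)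
    (fun C => (none : GolayPt) ∈ C)
  have s2 := Finset.card_filter_add_card_filter_not
    (s := codeFin.filter (fun C => (none : GolayPt) ∈ C)) (fun C => (some 0 : GolayPt) ∈ C)
  have s3 := Finset.card_filter_add_card_filter_not
    (s := codeFin.filter (fun C => ¬ (none : GolayPt) ∈ C)) (fun C => (some 0 : GolayPt) ∈ C)
  rw [Finset.filter_filter, Finset.filter_filter] at s2 s3
  rw [card_codeFin] at s1
  constructor <;> omega

def A1a : Set (GolayPt → ℤ) :=
  {x | ∃ p ∈ ((Finset.univ.erase (none : GolayPt)).erase (some 0)) ×ˢ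
      (Finset.univ : Finset Bool),
    x = (fun p : GolayPt × Bool => sv 4 {none, p.1} (if p.2 then {none, p.1} else {none})) p}
def A1b : Set (GolayPt → ℤ) :=
  {x | ∃ p ∈ ((Finset.univ.erase (none : GolayPt)).erase (some 0)) ×ˢ
      (Finset.univ : Finset Bool),
    x = (fun p : GolayPt × Bool => sv 4 {some 0, p.1} (if p.2 then {some 0, p.1} else {some 0})) p}
def A2 : Set (GolayPt → ℤ) :=
  {x | ∃ p ∈ (octFin.filter (fun O => (none : GolayPt) ∈ O ∧ (some 0 : GolayPt) ∈ O)).sigma
      (fun O => ((O.erase none).erase (some 0)).powerset.filter (fun T => Even T.card)),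
    x = (fun p : (Σ _ : Finset GolayPt, Finset GolayPt) =>
      sv 2 p.1 (insert none (insert (some 0) p.2))) p}
def A3a : Set (GolayPt → ℤ) :=
  {x | ∃ C ∈ codeFin.filter (fun C => (none : GolayPt) ∈ C ∧ (some 0 : GolayPt) ∉ C),
    x = ov C none}
def A3b : Set (GolayPt → ℤ) :=
  {x | ∃ C ∈ codeFin.filter (fun C => (none : GolayPt) ∉ C ∧ (some 0 : GolayPt) ∈ C),
    x = ov C (some 0)}

theorem A1a_none {x : GolayPt → ℤ} (h : x ∈ A1a) : x none = -4 ∧ x (some 0) = 0 := by
  obtain ⟨⟨j, b⟩, hp, rfl⟩ := h
  obtain ⟨h1, -⟩ := Finset.mem_product.1 hp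
  have hj0 : j ≠ some 0 := (Finset.mem_erase.1 h1).1
  have hjn : j ≠ none := (Finset.mem_erase.1 (Finset.mem_erase.1 h1).2).1
  beta_reduce
  rw [sv_apply, sv_apply]
  have q1 : (some 0 : GolayPt) ∉ ({none, j} : Finset GolayPt) := by
    simp [hj0.symm]
  cases b
  · simp [hj0.symm]
  · simp [hj0.symm]

theorem A1b_none {x : GolayPt → ℤ} (h : x ∈ A1b) : x none = 0 ∧ x (some 0) = -4 := by
  obtain ⟨⟨j, b⟩, hp, rfl⟩ := h
  obtain ⟨h1, -⟩ := Finset.mem_product.1 hp
  have hj0 : j ≠ some 0 := (Finset.mem_erase.1 h1).1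
  have hjn : j ≠ none := (Finset.mem_erase.1 (Finset.mem_erase.1 h1).2).1
  beta_reduce
  rw [sv_apply, sv_apply]
  cases b
  · simp [hjn.symm]
  · simp [hjn.symm]

theorem A2_none {x : GolayPt → ℤ} (h : x ∈ A2) : x none = -2 ∧ x (some 0) = -2 := by
  obtain ⟨⟨O, T⟩, hp, rfl⟩ := h
  beta_reduce
  rw [sv_apply, sv_apply]
  simp

theorem A3a_none {x : GolayPt → ℤ} (h : x ∈ A3a) : x none = -3 ∧ x (some 0) = -1 := by
  obtain ⟨C, hC, rfl⟩ := h
  obtain ⟨h1, h2, h3⟩ := Finset.mem_filter.1 hC
  rw [ov_apply, ov_apply]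
  simp [h2, h3]

theorem A3b_none {x : GolayPt → ℤ} (h : x ∈ A3b) : x none = -1 ∧ x (some 0) = -3 := by
  obtain ⟨C, hC, rfl⟩ := h
  obtain ⟨h1, h2, h3⟩ := Finset.mem_filter.1 hC
  rw [ov_apply, ov_apply]
  simp [h2, h3]

theorem card_22 : ((Finset.univ.erase (none : GolayPt)).erase (some 0)).card = 22 := by
  rw [Finset.card_erase_of_mem, Finset.card_erase_of_mem (Finset.mem_univ _), Finset.card_univ,
    card_golayPt]
  exact Finset.mem_erase.2 ⟨by decide, Finset.mem_univ _⟩

theorem ncard_A1a : A1a.ncard = 44 := by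
  unfold A1a
  rw [ncard_family]
  · rw [Finset.card_product, card_22]; simp
  · rintro ⟨j, b⟩ hp ⟨j', b'⟩ hp' h
    obtain ⟨h1, -⟩ := Finset.mem_product.1 (Finset.mem_coe.1 hp)
    obtain ⟨h1', -⟩ := Finset.mem_product.1 (Finset.mem_coe.1 hp')
    have hjn : j ≠ none := (Finset.mem_erase.1 (Finset.mem_erase.1 h1).2).1
    have hjn' : j' ≠ none := (Finset.mem_erase.1 (Finset.mem_erase.1 h1').2).1
    beta_reduce at h
    have hsub : ∀ (k : GolayPt) (c : Bool), (if c then ({none, k} : Finset GolayPt) else {none}) ⊆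
        {none, k} := by
      intro k c; cases c <;> simp
    obtain ⟨e1, e2⟩ := sv_inj (by norm_num) (hsub j b) (hsub j' b') h
    have hj : j = j' := by
      have : j ∈ ({none, j'} : Finset GolayPt) := by rw [← e1]; simp
      rw [Finset.mem_insert, Finset.mem_singleton] at this
      rcases this with h2 | h2
      · exact absurd h2 hjn
      · exact h2
    subst hj
    have hb : b = b' := by
      cases b <;> cases b'
      · rfl
      · exfalso
        simp only [Bool.false_eq_true, if_false, if_true] at e2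
        have : j ∈ ({none} : Finset GolayPt) := by rw [e2]; simp
        exact hjn (Finset.mem_singleton.1 this)
      · exfalso
        simp only [Bool.false_eq_true, if_false, if_true] at e2
        have : j ∈ ({none} : Finset GolayPt) := by rw [← e2]; simp
        exact hjn (Finset.mem_singleton.1 this)
      · rfl
    rw [hb]

theorem ncard_A1b : A1b.ncard = 44 := by
  unfold A1b
  rw [ncard_family]
  · rw [Finset.card_product, card_22]; simp
  · rintro ⟨j, b⟩ hp ⟨j', b'⟩ hp' h
    obtain ⟨h1, -⟩ := Finset.mem_product.1 (Finset.mem_coe.1 hp)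
    obtain ⟨h1', -⟩ := Finset.mem_product.1 (Finset.mem_coe.1 hp')
    have hjn : j ≠ some 0 := (Finset.mem_erase.1 h1).1
    have hjn' : j' ≠ some 0 := (Finset.mem_erase.1 h1').1
    beta_reduce at h
    have hsub : ∀ (k : GolayPt) (c : Bool),
        (if c then ({some 0, k} : Finset GolayPt) else {some 0}) ⊆ {some 0, k} := by
      intro k c; cases c <;> simp
    obtain ⟨e1, e2⟩ := sv_inj (by norm_num) (hsub j b) (hsub j' b') h
    have hj : j = j' := by
      have : j ∈ ({some 0, j'} : Finset GolayPt) := by rw [← e1]; simp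
      rw [Finset.mem_insert, Finset.mem_singleton] at this
      rcases this with h2 | h2
      · exact absurd h2 hjn
      · exact h2
    subst hj
    have hb : b = b' := by
      cases b <;> cases b'
      · rfl
      · exfalso
        simp only [Bool.false_eq_true, if_false, if_true] at e2
        have : j ∈ ({some 0} : Finset GolayPt) := by rw [e2]; simp
        exact hjn (Finset.mem_singleton.1 this)
      · exfalso
        simp only [Bool.false_eq_true, if_false, if_true] at e2
        have : j ∈ ({some 0} : Finset GolayPt) := by rw [← e2]; simp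
        exact hjn (Finset.mem_singleton.1 this)
      · rfl
    rw [hb]

theorem ncard_A2 : A2.ncard = 2464 := by
  unfold A2
  rw [ncard_family]
  · rw [Finset.card_sigma, Finset.sum_congr rfl (g := fun _ => 32)]
    · rw [Finset.sum_const, smul_eq_mul, card_octFin_mem2 hpq]
    · intro O hO
      obtain ⟨h1, h2, h3⟩ := Finset.mem_filter.1 hO
      have hc : ((O.erase none).erase (some 0)).card = 6 := by
        rw [Finset.card_erase_of_mem (Finset.mem_erase.2 ⟨hpq.symm, h3⟩),
          Finset.card_erase_of_mem h2, (mem_octFin.1 h1).2]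
      rw [evens_card hc (by norm_num)]
      norm_num
  · rintro ⟨O, T⟩ hp ⟨O', T'⟩ hp' h
    obtain ⟨h1, h2⟩ := Finset.mem_sigma.1 (Finset.mem_coe.1 hp)
    obtain ⟨h1', h2'⟩ := Finset.mem_sigma.1 (Finset.mem_coe.1 hp')
    obtain ⟨a1, a2, a3⟩ := Finset.mem_filter.1 h1
    obtain ⟨a1', a2', a3'⟩ := Finset.mem_filter.1 h1'
    have hT := Finset.mem_powerset.1 (Finset.mem_filter.1 h2).1
    have hT' := Finset.mem_powerset.1 (Finset.mem_filter.1 h2').1
    beta_reduce at h
    have hsub : insert none (insert (some 0) T) ⊆ O := by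
      intro i hi
      rw [Finset.mem_insert, Finset.mem_insert] at hi
      rcases hi with hi | hi | hi
      · rw [hi]; exact a2
      · rw [hi]; exact a3
      · exact Finset.mem_of_mem_erase (Finset.mem_of_mem_erase (hT hi))
    have hsub' : insert none (insert (some 0) T') ⊆ O' := by
      intro i hi
      rw [Finset.mem_insert, Finset.mem_insert] at hi
      rcases hi with hi | hi | hi
      · rw [hi]; exact a2'
      · rw [hi]; exact a3'
      · exact Finset.mem_of_mem_erase (Finset.mem_of_mem_erase (hT' hi))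
    obtain ⟨e1, e2⟩ := sv_inj (by norm_num) hsub hsub' h
    subst e1
    have hTT : T = T' := by
      ext i
      have hi := Finset.ext_iff.1 e2 i
      rw [Finset.mem_insert, Finset.mem_insert, Finset.mem_insert, Finset.mem_insert] at hi
      constructor
      · intro hiT
        have q := hT hiT
        have q1 : i ≠ some 0 := (Finset.mem_erase.1 q).1
        have q2 : i ≠ none := (Finset.mem_erase.1 (Finset.mem_erase.1 q).2).1
        rcases hi.1 (Or.inr (Or.inr hiT)) with h | h | h
        · exact absurd h q2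
        · exact absurd h q1
        · exact h
      · intro hiT
        have q := hT' hiT
        have q1 : i ≠ some 0 := (Finset.mem_erase.1 q).1
        have q2 : i ≠ none := (Finset.mem_erase.1 (Finset.mem_erase.1 q).2).1
        rcases hi.2 (Or.inr (Or.inr hiT)) with h | h | h
        · exact absurd h q2
        · exact absurd h q1
        · exact h
    subst hTT
    rfl

theorem ncard_A3a : A3a.ncard = 1024 := by
  unfold A3a
  rw [ncard_family, code_classes.1]
  intro C _ C' _ h
  exact (ov_inj h).1

theorem ncard_A3b : A3b.ncard = 1024 := by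
  unfold A3b
  rw [ncard_family, code_classes.2]
  intro C _ C' _ h
  exact (ov_inj h).1

theorem setA_eq : {x : GolayPt → ℤ | x ∈ leechLattice ∧ (sqNorm x = 32 ∧
    dotInt (P44 none (some 0)) x = -16)} = A1a ∪ A1b ∪ A2 ∪ A3a ∪ A3b := by
  classical
  ext x
  constructor
  · rintro ⟨hx, hn, hd⟩
    rw [dot_P44 hpq] at hd
    rcases (leech_minimal_iff x).1 ⟨hx, hn⟩ with ⟨s, T, hs, hT, rfl⟩ | ⟨s, T, hs, hT, hev, rfl⟩ |
      ⟨C, j, hC, rfl⟩
    · -- type I
      rw [sv_apply, sv_apply] at hd
      obtain ⟨a, b, hab, rfl⟩ := Finset.card_eq_two.1 hs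
      by_cases h1 : none ∈ T
      · rw [if_pos h1] at hd
        have h2 : (some 0 : GolayPt) ∉ ({a, b} : Finset GolayPt) := by
          intro h2
          by_cases h3 : (some 0 : GolayPt) ∈ T
          · rw [if_pos h3] at hd; omega
          · rw [if_neg h3, if_pos h2] at hd; omega
        have h1s := hT h1
        -- `{a, b} = {none, j}`
        have hex : ∃ j, j ≠ none ∧ j ≠ some 0 ∧ ({a, b} : Finset GolayPt) = {none, j} := by
          rw [Finset.mem_insert, Finset.mem_singleton] at h1s
          rcases h1s with h | h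
          · refine ⟨b, fun hb => hab (by rw [← h, hb]), ?_, by rw [h]⟩
            intro hb; apply h2; rw [hb]; simp
          · refine ⟨a, fun ha => hab (by rw [ha, h]), ?_, by rw [h, Finset.pair_comm]⟩
            intro ha; apply h2; rw [ha]; simp
        obtain ⟨j, hjn, hj0, hsj⟩ := hex
        rw [hsj] at hT ⊢
        left; left; left; left
        by_cases hjT : j ∈ T
        · refine ⟨⟨j, true⟩, Finset.mem_product.2 ⟨Finset.mem_erase.2 ⟨hj0,
            Finset.mem_erase.2 ⟨hjn, Finset.mem_univ _⟩⟩, Finset.mem_univ _⟩, ?_⟩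
          beta_reduce
          rw [if_pos rfl]
          congr 1
          apply Finset.Subset.antisymm hT
          intro i hi
          rw [Finset.mem_insert, Finset.mem_singleton] at hi
          rcases hi with hi | hi
          · rw [hi]; exact h1
          · rw [hi]; exact hjT
        · refine ⟨⟨j, false⟩, Finset.mem_product.2 ⟨Finset.mem_erase.2 ⟨hj0,
            Finset.mem_erase.2 ⟨hjn, Finset.mem_univ _⟩⟩, Finset.mem_univ _⟩, ?_⟩
          beta_reduce
          rw [if_neg (by simp)]
          congr 1
          ext i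
          rw [Finset.mem_singleton]
          constructor
          · intro hi
            have := hT hi
            rw [Finset.mem_insert, Finset.mem_singleton] at this
            rcases this with h | h
            · exact h
            · exact absurd (h ▸ hi) hjT
          · intro hi; rw [hi]; exact h1
      · rw [if_neg h1] at hd
        by_cases h3 : (some 0 : GolayPt) ∈ T
        · rw [if_pos h3] at hd
          have h2 : (none : GolayPt) ∉ ({a, b} : Finset GolayPt) := by
            intro h2
            rw [if_pos h2] at hd; omega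
          have h3s := hT h3
          have hex : ∃ j, j ≠ none ∧ j ≠ some 0 ∧ ({a, b} : Finset GolayPt) = {some 0, j} := by
            rw [Finset.mem_insert, Finset.mem_singleton] at h3s
            rcases h3s with h | h
            · refine ⟨b, ?_, fun hb => hab (by rw [← h, hb]), by rw [h]⟩
              intro hb; apply h2; rw [hb]; simp
            · refine ⟨a, ?_, fun ha => hab (by rw [ha, h]), by rw [h, Finset.pair_comm]⟩
              intro ha; apply h2; rw [ha]; simp
          obtain ⟨j, hjn, hj0, hsj⟩ := hex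
          rw [hsj] at hT ⊢
          left; left; left; right
          by_cases hjT : j ∈ T
          · refine ⟨⟨j, true⟩, Finset.mem_product.2 ⟨Finset.mem_erase.2 ⟨hj0,
              Finset.mem_erase.2 ⟨hjn, Finset.mem_univ _⟩⟩, Finset.mem_univ _⟩, ?_⟩
            beta_reduce
            rw [if_pos rfl]
            congr 1
            apply Finset.Subset.antisymm hT
            intro i hi
            rw [Finset.mem_insert, Finset.mem_singleton] at hi
            rcases hi with hi | hi
            · rw [hi]; exact h3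
            · rw [hi]; exact hjT
          · refine ⟨⟨j, false⟩, Finset.mem_product.2 ⟨Finset.mem_erase.2 ⟨hj0,
              Finset.mem_erase.2 ⟨hjn, Finset.mem_univ _⟩⟩, Finset.mem_univ _⟩, ?_⟩
            beta_reduce
            rw [if_neg (by simp)]
            congr 1
            ext i
            rw [Finset.mem_singleton]
            constructor
            · intro hi
              have := hT hi
              rw [Finset.mem_insert, Finset.mem_singleton] at this
              rcases this with h | h
              · exact h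
              · exact absurd (h ▸ hi) hjT
            · intro hi; rw [hi]; exact h3
        · exfalso
          rw [if_neg h3] at hd
          split_ifs at hd <;> omega
    · -- type II
      rw [sv_apply, sv_apply] at hd
      by_cases h1 : none ∈ T
      · rw [if_pos h1] at hd
        by_cases h3 : (some 0 : GolayPt) ∈ T
        · left; left; right
          refine ⟨⟨s, (T.erase none).erase (some 0)⟩, Finset.mem_sigma.2
            ⟨Finset.mem_filter.2 ⟨mem_octFin.2 hs, hT h1, hT h3⟩, Finset.mem_filter.2
              ⟨Finset.mem_powerset.2 ?_, ?_⟩⟩, ?_⟩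
          · intro i hi
            obtain ⟨q1, q2⟩ := Finset.mem_erase.1 hi
            obtain ⟨q3, q4⟩ := Finset.mem_erase.1 q2
            exact Finset.mem_erase.2 ⟨q1, Finset.mem_erase.2 ⟨q3, hT q4⟩⟩
          · rw [Finset.card_erase_of_mem (Finset.mem_erase.2 ⟨hpq.symm, h3⟩),
              Finset.card_erase_of_mem h1]
            obtain ⟨k, hk⟩ := hev
            have : 2 ≤ T.card := by
              have := Finset.card_le_card (show ({none, some 0} : Finset GolayPt) ⊆ T by
                intro i hi
                rw [Finset.mem_insert, Finset.mem_singleton] at hi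
                rcases hi with hi | hi <;> rw [hi] <;> assumption)
              rw [Finset.card_pair hpq] at this
              exact this
            exact ⟨k - 1, by omega⟩
          · beta_reduce
            congr 1
            ext i
            simp only [Finset.mem_insert, Finset.mem_erase]
            constructor
            · intro hi
              by_cases q1 : i = none
              · exact Or.inl q1
              · by_cases q2 : i = some 0
                · exact Or.inr (Or.inl q2)
                · exact Or.inr (Or.inr ⟨q2, q1, hi⟩)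
            · rintro (hi | hi | hi)
              · rw [hi]; exact h1
              · rw [hi]; exact h3
              · exact hi.2.2
        · exfalso
          rw [if_neg h3] at hd
          split_ifs at hd <;> omega
      · exfalso
        rw [if_neg h1] at hd
        split_ifs at hd <;> omega
    · -- type III
      rw [ov_apply, ov_apply] at hd
      by_cases h1 : (none : GolayPt) = j
      · have h2 : ¬ ((some 0 : GolayPt) = j) := fun h => hpq (h1.trans h.symm)
        rw [if_pos h1, if_neg h2] at hd
        subst h1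
        left; right
        by_cases h3 : (none : GolayPt) ∈ C
        · rw [if_pos h3] at hd
          by_cases h4 : (some 0 : GolayPt) ∈ C
          · rw [if_pos h4] at hd; omega
          · exact ⟨C, Finset.mem_filter.2 ⟨mem_codeFin.2 hC, h3, h4⟩, rfl⟩
        · exfalso
          rw [if_neg h3] at hd
          split_ifs at hd <;> omega
      · rw [if_neg h1] at hd
        by_cases h2 : (some 0 : GolayPt) = j
        · rw [if_pos h2] at hd
          subst h2
          right
          by_cases h3 : (some 0 : GolayPt) ∈ C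
          · rw [if_pos h3] at hd
            by_cases h4 : (none : GolayPt) ∈ C
            · rw [if_pos h4] at hd; omega
            · exact ⟨C, Finset.mem_filter.2 ⟨mem_codeFin.2 hC, h4, h3⟩, rfl⟩
          · exfalso
            rw [if_neg h3] at hd
            split_ifs at hd <;> omega
        · exfalso
          rw [if_neg h2] at hd
          split_ifs at hd <;> omega
  · intro h
    have hvals : x none + x (some 0) = -4 := by
      rcases h with (((h | h) | h) | h) | h
      · have := A1a_none h; omega
      · have := A1b_none h; omega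
      · have := A2_none h; omega
      · have := A3a_none h; omega
      · have := A3b_none h; omega
    have hmin : x ∈ leechLattice ∧ sqNorm x = 32 := by
      rw [leech_minimal_iff]
      rcases h with (((h | h) | h) | h) | h
      · obtain ⟨⟨j, b⟩, hp, rfl⟩ := h
        obtain ⟨h1, -⟩ := Finset.mem_product.1 hp
        have hjn : j ≠ none := (Finset.mem_erase.1 (Finset.mem_erase.1 h1).2).1
        left
        refine ⟨_, _, Finset.card_pair (fun h => hjn h.symm), ?_, rfl⟩
        cases b <;> simp
      · obtain ⟨⟨j, b⟩, hp, rfl⟩ := h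
        obtain ⟨h1, -⟩ := Finset.mem_product.1 hp
        have hjn : j ≠ some 0 := (Finset.mem_erase.1 h1).1
        left
        refine ⟨_, _, Finset.card_pair (fun h => hjn h.symm), ?_, rfl⟩
        cases b <;> simp
      · obtain ⟨⟨O, T⟩, hp, rfl⟩ := h
        obtain ⟨h1, h2⟩ := Finset.mem_sigma.1 hp
        obtain ⟨a1, a2, a3⟩ := Finset.mem_filter.1 h1
        obtain ⟨b1, b2⟩ := Finset.mem_filter.1 h2
        have hT := Finset.mem_powerset.1 b1
        right; left
        refine ⟨O, _, mem_octFin.1 a1, ?_, ?_, rfl⟩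
        · intro i hi
          rw [Finset.mem_insert, Finset.mem_insert] at hi
          rcases hi with hi | hi | hi
          · rw [hi]; exact a2
          · rw [hi]; exact a3
          · exact Finset.mem_of_mem_erase (Finset.mem_of_mem_erase (hT hi))
        · have q0 : (some 0 : GolayPt) ∉ T := fun h => (Finset.mem_erase.1 (hT h)).1 rfl
          have qn : (none : GolayPt) ∉ insert (some 0) T := by
            rw [Finset.mem_insert]
            rintro (h | h)
            · exact hpq h
            · exact (Finset.mem_erase.1 (Finset.mem_erase.1 (hT h)).2).1 rfl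
          rw [Finset.card_insert_of_notMem qn, Finset.card_insert_of_notMem q0]
          obtain ⟨k, hk⟩ := b2
          have hk' : T.card = k + k := hk
          exact ⟨k + 1, by omega⟩
      · obtain ⟨C, hC, rfl⟩ := h
        right; right
        exact ⟨C, _, mem_codeFin.1 (Finset.mem_filter.1 hC).1, rfl⟩
      · obtain ⟨C, hC, rfl⟩ := h
        right; right
        exact ⟨C, _, mem_codeFin.1 (Finset.mem_filter.1 hC).1, rfl⟩
    refine ⟨hmin.1, hmin.2, ?_⟩
    rw [dot_P44 hpq, hvals]; norm_num

theorem nn_m16 : nn (-16) = 4600 := by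
  have h1 : ((L2.filter (fun w => dotInt (P44 none (some 0)) w = -16) : Finset (GolayPt → ℤ)) :
      Set (GolayPt → ℤ)) = {x : GolayPt → ℤ | x ∈ leechLattice ∧ (sqNorm x = 32 ∧
      dotInt (P44 none (some 0)) x = -16)} := by
    ext w
    simp only [Finset.coe_filter, Set.mem_ofPred_eq, mem_L2]
    tauto
  unfold nn
  rw [← Set.ncard_coe_finset, h1, setA_eq]
  have f1 : A1a.Finite := Set.finite_of_ncard_ne_zero (by rw [ncard_A1a]; norm_num)
  have f2 : A1b.Finite := Set.finite_of_ncard_ne_zero (by rw [ncard_A1b]; norm_num)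
  have f3 : A2.Finite := Set.finite_of_ncard_ne_zero (by rw [ncard_A2]; norm_num)
  have f4 : A3a.Finite := Set.finite_of_ncard_ne_zero (by rw [ncard_A3a]; norm_num)
  have f5 : A3b.Finite := Set.finite_of_ncard_ne_zero (by rw [ncard_A3b]; norm_num)
  have d12 : Disjoint A1a A1b := by
    rw [Set.disjoint_left]
    intro x h1 h2
    have := A1a_none h1
    have := A1b_none h2
    omega
  have d3 : Disjoint (A1a ∪ A1b) A2 := by
    rw [Set.disjoint_left]
    rintro x (h1 | h1) h2
    · have := A1a_none h1
      have := A2_none h2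
      omega
    · have := A1b_none h1
      have := A2_none h2
      omega
  have d4 : Disjoint (A1a ∪ A1b ∪ A2) A3a := by
    rw [Set.disjoint_left]
    rintro x ((h1 | h1) | h1) h2
    · have := A1a_none h1
      have := A3a_none h2
      omega
    · have := A1b_none h1
      have := A3a_none h2
      omega
    · have := A2_none h1
      have := A3a_none h2
      omega
  have d5 : Disjoint (A1a ∪ A1b ∪ A2 ∪ A3a) A3b := by
    rw [Set.disjoint_left]
    rintro x (((h1 | h1) | h1) | h1) h2
    · have := A1a_none h1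
      have := A3b_none h2
      omega
    · have := A1b_none h1
      have := A3b_none h2
      omega
    · have := A2_none h1
      have := A3b_none h2
      omega
    · have := A3a_none h1
      have := A3b_none h2
      omega
  rw [Set.ncard_union_eq d5 (((f1.union f2).union f3).union f4) f5,
    Set.ncard_union_eq d4 ((f1.union f2).union f3) f4, Set.ncard_union_eq d3 (f1.union f2) f3,
    Set.ncard_union_eq d12 f1 f2, ncard_A1a, ncard_A1b, ncard_A2, ncard_A3a, ncard_A3b]

theorem census : nn (-16) = 4600 ∧ nn (-8) = 47104 ∧ nn 0 = 93150 := by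
  have h1 := fiber_sum (fun _ => 1)
  have h2 := fiber_sum (fun c => c ^ 2)
  rw [moment2] at h2
  simp only [Finset.sum_const, card_L2, nsmul_eq_mul, mul_one, Nat.cast_ofNat] at h1
  have n1 := nn_32
  have n2 := nn_m32
  have n3 := nn_m16
  have n4 := nn_neg 16
  have n5 := nn_neg 8
  rw [Finset.sum_insert (by decide), Finset.sum_insert (by decide), Finset.sum_insert (by decide),
    Finset.sum_insert (by decide), Finset.sum_insert (by decide), Finset.sum_insert (by decide),
    Finset.sum_singleton] at h1 h2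
  rw [n1, n2, n3, ← n4, n3] at h1 h2
  push_cast at h1 h2
  refine ⟨n3, ?_, ?_⟩ <;> omega

theorem census_transport (v : GolayPt → ℤ) (hv : v ∈ leechLattice) (hvn : sqNorm v = 32) (c : ℤ) :
    {w : GolayPt → ℤ | w ∈ leechLattice ∧ sqNorm w = 32 ∧ dotInt v w = c}.ncard = nn c := by
  obtain ⟨hx, g, hg, h3⟩ := connF_minimal hv hvn
  rw [minB0_eq] at h3
  have e1 := ncard_subtype (fun w => sqNorm w = 32 ∧ dotInt v w = c)
  have e2 := ncard_co0 hg ⟨v, hv⟩ 32 c
  have e3 := ncard_subtype (fun w => sqNorm w = 32 ∧ dotInt (P44 none (some 0)) w = c)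
  have h3' : (g ⟨v, hv⟩).1 = P44 none (some 0) := h3
  rw [h3'] at e2
  rw [← e1, e2, e3]
  unfold nn
  rw [← Set.ncard_coe_finset]
  congr 1
  ext w
  simp only [Finset.coe_filter, Set.mem_ofPred_eq, mem_L2]
  tauto

/-- Census of minimal vectors by inner product with a fixed minimal vector: 4600 have customary inner product −2, 47104 have −1, and 93150 are orthogonal. -/
theorem result (v : Cfsg.GolayPt → ℤ) (hv : v ∈ Cfsg.leechLattice) (hvn : Cfsg.sqNorm v = 32) : {w : Cfsg.GolayPt → ℤ | w ∈ Cfsg.leechLattice ∧ Cfsg.sqNorm w = 32 ∧ Cfsg.dotInt v w = -16}.ncard = 4600 ∧ {w : Cfsg.GolayPt → ℤ | w ∈ Cfsg.leechLattice ∧ Cfsg.sqNorm w = 32 ∧ Cfsg.dotInt v w = -8}.ncard = 47104 ∧ {w : Cfsg.GolayPt → ℤ | w ∈ Cfsg.leechLattice ∧ Cfsg.sqNorm w = 32 ∧ Cfsg.dotInt v w = 0}.ncard = 93150 := by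
  obtain ⟨h1, h2, h3⟩ := census
  exact ⟨by rw [census_transport v hv hvn, h1], by rw [census_transport v hv hvn, h2],
    by rw [census_transport v hv hvn, h3]⟩

end Cfsg.Agent.S1573
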