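import Cfsg.Statements.S1583
import Mathlib
import Cfsg.Agent.Lib.Helper3.Co0Triple
-- import your own Cfsg.Agent.* helpers here

set_option autoImplicit false
open Cfsg

namespace Cfsg.Agent.S1583

open Cfsg.Agent.Lib.Helper3

theorem sv_apply (c : ℤ) (s T : Finset GolayPt) (i : GolayPt) :
    sv c s T i = if i ∈ T then -c else if i ∈ s then c else 0 := rfl

theorem ov_apply (C : Finset GolayPt) (j i : GolayPt) :
    ov C j i = if i = j then (if j ∈ C then -3 else 3) else if i ∈ C then 1 else -1 := rfl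

def K1 : Set (GolayPt → ℤ) := {P44 none (some 0)}
def K2 : Set (GolayPt → ℤ) :=
  {x | ∃ O ∈ octFin.filter (fun O => (none : GolayPt) ∈ O ∧ (some 0 : GolayPt) ∈ O), x = sv 2 O ∅}
def K3 : Set (GolayPt → ℤ) :=
  {x | ∃ j ∈ ((Finset.univ.erase (none : GolayPt)).erase (some 0)), x = ov Finset.univ j}

theorem K1_none {x : GolayPt → ℤ} (h : x ∈ K1) : x none = 4 := by
  rw [Set.mem_singleton_iff.1 h]
  unfold P44; simp

theorem K2_none {x : GolayPt → ℤ} (h : x ∈ K2) : x none = 2 := by
  obtain ⟨O, hO, rfl⟩ := h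
  obtain ⟨h1, h2, h3⟩ := Finset.mem_filter.1 hO
  simp [sv_apply, h2]

theorem K2_zero {x : GolayPt → ℤ} (h : x ∈ K2) : x (some 0) = 2 := by
  obtain ⟨O, hO, rfl⟩ := h
  obtain ⟨h1, h2, h3⟩ := Finset.mem_filter.1 hO
  simp [sv_apply, h3]

theorem K3_none {x : GolayPt → ℤ} (h : x ∈ K3) : x none = 1 := by
  obtain ⟨j, hj, rfl⟩ := h
  have h1 := (Finset.mem_erase.1 (Finset.mem_erase.1 hj).2).1
  have : ¬ (none = j) := fun h => h1 h.symm
  simp [ov_apply, this]

theorem K3_zero {x : GolayPt → ℤ} (h : x ∈ K3) : x (some 0) = 1 := by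
  obtain ⟨j, hj, rfl⟩ := h
  have h1 := (Finset.mem_erase.1 hj).1
  have : ¬ (some 0 = j) := fun h => h1 h.symm
  simp [ov_apply, this]

theorem ncard_K2 : K2.ncard = 77 := by
  unfold K2
  rw [ncard_family, card_octFin_mem2 (by decide)]
  intro O hO O' hO' h
  exact (sv_inj (by norm_num) (Finset.empty_subset _) (Finset.empty_subset _) h).1

theorem ncard_K3 : K3.ncard = 22 := by
  unfold K3
  rw [ncard_family]
  · rw [Finset.card_erase_of_mem, Finset.card_erase_of_mem (Finset.mem_univ _), Finset.card_univ,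
      card_golayPt]
    exact Finset.mem_erase.2 ⟨by decide, Finset.mem_univ _⟩
  · intro j hj j' hj' h
    exact (ov_inj h).2

theorem set_eq : {x : GolayPt → ℤ | x ∈ leechLattice ∧ (sqNorm x = 32 ∧ dotInt (p5 none) x = 24 ∧
    dotInt (D44 none (some 0) - p5 none) x = -24)} = K1 ∪ K2 ∪ K3 := by
  have hpq : (none : GolayPt) ≠ some 0 := by decide
  ext x
  constructor
  · rintro ⟨hx, hn, hd, he⟩
    rw [dotInt_sub_left, hd, dot_D44 hpq] at he
    have he' : x none = x (some 0) := by omega
    rw [dot_p5] at hd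
    rcases (leech_minimal_iff x).1 ⟨hx, hn⟩ with ⟨s, T, hs, hT, rfl⟩ | ⟨s, T, hs, hT, hev, rfl⟩ |
      ⟨C, j, hC, rfl⟩
    · rw [sum_sv 4 hT, hs] at hd
      rw [sv_apply] at hd
      rw [sv_apply, sv_apply] at he'
      by_cases h1 : none ∈ T
      · rw [if_pos h1] at hd; omega
      · rw [if_neg h1] at hd he'
        by_cases h2 : none ∈ s
        · rw [if_pos h2] at hd he'
          have h0 : T = ∅ := Finset.card_eq_zero.1 (by omega)
          subst h0
          rw [if_neg (Finset.notMem_empty _)] at he'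
          have h3 : (some 0 : GolayPt) ∈ s := by
            by_contra h3
            rw [if_neg h3] at he'
            norm_num at he'
          have hs' : s = {none, some 0} := by
            symm
            apply Finset.eq_of_subset_of_card_le
            · intro i hi
              rw [Finset.mem_insert, Finset.mem_singleton] at hi
              rcases hi with hi | hi
              · rw [hi]; exact h2
              · rw [hi]; exact h3
            · rw [hs, Finset.card_pair hpq]
          left; left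
          rw [hs', ← P44_eq_sv]
          rfl
        · rw [if_neg h2] at hd; omega
    · rw [sum_sv 2 hT, hs.2] at hd
      rw [sv_apply] at hd
      rw [sv_apply, sv_apply] at he'
      by_cases h1 : none ∈ T
      · rw [if_pos h1] at hd; omega
      · rw [if_neg h1] at hd he'
        by_cases h2 : none ∈ s
        · rw [if_pos h2] at hd he'
          have h0 : T = ∅ := Finset.card_eq_zero.1 (by omega)
          subst h0
          rw [if_neg (Finset.notMem_empty _)] at he'
          have h3 : (some 0 : GolayPt) ∈ s := by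
            by_contra h3
            rw [if_neg h3] at he'
            norm_num at he'
          left; right
          exact ⟨s, Finset.mem_filter.2 ⟨mem_octFin.2 hs, h2, h3⟩, rfl⟩
        · rw [if_neg h2] at hd; omega
    · rw [sum_ov] at hd
      rw [ov_apply] at hd
      rw [ov_apply, ov_apply] at he'
      have hcases := supports_card_cases hC
      by_cases hj : none = j
      · exfalso
        have hj0 : ¬ ((some 0 : GolayPt) = j) := fun h => hpq (hj.trans h.symm)
        rw [if_pos hj, if_neg hj0] at he'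
        split_ifs at he' <;> omega
      · rw [if_neg hj] at hd he'
        by_cases hj0 : (some 0 : GolayPt) = j
        · exfalso
          rw [if_pos hj0] at he'
          split_ifs at he' <;> omega
        · rw [if_neg hj0] at he'
          by_cases h2 : none ∈ C
          · rw [if_pos h2] at hd
            by_cases h3 : j ∈ C
            · rw [if_pos h3] at hd
              have hu : C = Finset.univ := by
                rw [← Finset.card_eq_iff_eq_univ, card_golayPt]; omega
              subst hu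
              right
              exact ⟨j, Finset.mem_erase.2 ⟨fun h => hj0 h.symm,
                Finset.mem_erase.2 ⟨fun h => hj h.symm, Finset.mem_univ _⟩⟩, rfl⟩
            · rw [if_neg h3] at hd; omega
          · rw [if_neg h2] at hd
            have := card_le_23 h2
            split_ifs at hd <;> omega
  · rintro ((h | h) | h)
    · rw [Set.mem_singleton_iff.1 h]
      refine ⟨P44_mem hpq, sqNorm_P44 hpq, ?_, ?_⟩
      · rw [dotInt_comm, dot_P44 hpq]
        unfold p5; simp
      · rw [dotInt_sub_left, dot_D44 hpq, dotInt_comm (p5 none), dot_P44 hpq]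
        unfold p5 P44; simp
    · have hnone := K2_none h
      have hzero := K2_zero h
      obtain ⟨O, hO', rfl⟩ := h
      obtain ⟨h5, h6, h7⟩ := Finset.mem_filter.1 hO'
      have hO := mem_octFin.1 h5
      have := (leech_minimal_iff (sv 2 O ∅)).2
        (Or.inr (Or.inl ⟨_, _, hO, Finset.empty_subset _, by simp, rfl⟩))
      refine ⟨this.1, this.2, ?_, ?_⟩
      · rw [dot_p5, hnone, sum_sv 2 (Finset.empty_subset _), hO.2, Finset.card_empty]
        norm_num
      · rw [dotInt_sub_left, dot_D44 hpq, dot_p5, hnone, hzero,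
          sum_sv 2 (Finset.empty_subset _), hO.2, Finset.card_empty]
        norm_num
    · have hnone := K3_none h
      have hzero := K3_zero h
      obtain ⟨j, hj, rfl⟩ := h
      have := (leech_minimal_iff (ov Finset.univ j)).2
        (Or.inr (Or.inr ⟨_, _, univ_mem_supports, rfl⟩))
      refine ⟨this.1, this.2, ?_, ?_⟩
      · rw [dot_p5, hnone, sum_ov, if_pos (Finset.mem_univ _), Finset.card_univ, card_golayPt]
        norm_num
      · rw [dotInt_sub_left, dot_D44 hpq, dot_p5, hnone, hzero, sum_ov,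
          if_pos (Finset.mem_univ _), Finset.card_univ, card_golayPt]
        norm_num

theorem count_std : {x : GolayPt → ℤ | x ∈ leechLattice ∧ (sqNorm x = 32 ∧
    dotInt (p5 none) x = 24 ∧ dotInt (D44 none (some 0) - p5 none) x = -24)}.ncard = 100 := by
  rw [set_eq]
  have f1 : K1.Finite := Set.finite_singleton _
  have f2 : K2.Finite := Set.finite_of_ncard_ne_zero (by rw [ncard_K2]; norm_num)
  have f3 : K3.Finite := Set.finite_of_ncard_ne_zero (by rw [ncard_K3]; norm_num)
  have d12 : Disjoint K1 K2 := by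
    rw [Set.disjoint_left]
    intro x h1 h2
    have := K1_none h1
    have := K2_none h2
    omega
  have d3 : Disjoint (K1 ∪ K2) K3 := by
    rw [Set.disjoint_left]
    rintro x (h1 | h1) h2
    · have := K1_none h1
      have := K3_none h2
      omega
    · have := K2_none h1
      have := K3_none h2
      omega
  rw [Set.ncard_union_eq d3 (f1.union f2) f3, Set.ncard_union_eq d12 f1 f2, ncard_K2, ncard_K3]
  unfold K1
  rw [Set.ncard_singleton]

/-- The Higman–Sims configuration: for two vectors of customary norm 6 with inner product −4, exactly 100 minimal vectors have customary inner products 3 and −3 with them, and the joint stabiliser permutes these transitively. -/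
theorem result (v w : ↥Cfsg.leechLattice) (hv : Cfsg.sqNorm (v : Cfsg.GolayPt → ℤ) = 48) (hw : Cfsg.sqNorm (w : Cfsg.GolayPt → ℤ) = 48) (hvw : Cfsg.dotInt (v : Cfsg.GolayPt → ℤ) (w : Cfsg.GolayPt → ℤ) = -32) : {x : ↥Cfsg.leechLattice | Cfsg.sqNorm (x : Cfsg.GolayPt → ℤ) = 32 ∧ Cfsg.dotInt (v : Cfsg.GolayPt → ℤ) (x : Cfsg.GolayPt → ℤ) = 24 ∧ Cfsg.dotInt (w : Cfsg.GolayPt → ℤ) (x : Cfsg.GolayPt → ℤ) = -24}.ncard = 100 ∧ ∀ x ∈ {x : ↥Cfsg.leechLattice | Cfsg.sqNorm (x : Cfsg.GolayPt → ℤ) = 32 ∧ Cfsg.dotInt (v : Cfsg.GolayPt → ℤ) (x : Cfsg.GolayPt → ℤ) = 24 ∧ Cfsg.dotInt (w : Cfsg.GolayPt → ℤ) (x : Cfsg.GolayPt → ℤ) = -24}, ∀ x' ∈ {x : ↥Cfsg.leechLattice | Cfsg.sqNorm (x : Cfsg.GolayPt → ℤ) = 32 ∧ Cfsg.dotInt (v : Cfsg.GolayPt → ℤ) (x : Cfsg.GolayPt → ℤ) = 24 ∧ Cfsg.dotInt (w : Cfsg.GolayPt → ℤ) (x : Cfsg.GolayPt → ℤ) = -24}, ∃ g : ↥Cfsg.Co0, g • v = v ∧ g • w = w ∧ g • x = x' := by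
  have hm : ((v + w : ↥leechLattice) : GolayPt → ℤ) = (v : GolayPt → ℤ) + (w : GolayPt → ℤ) := rfl
  have hmn : sqNorm ((v + w : ↥leechLattice) : GolayPt → ℤ) = 32 := by
    rw [hm, sqNorm_add, hv, hw, hvw]; norm_num
  have hmv : dotInt ((v + w : ↥leechLattice) : GolayPt → ℤ) (v : GolayPt → ℤ) = 16 := by
    rw [hm, dotInt_add_left, dotInt_self, hv, dotInt_comm, hvw]; norm_num
  constructor
  · obtain ⟨h1, h2, g, hg, e1, e2⟩ := connP_k2 (v + w).2 hmn v.2 hv hmv
    have e3 : (g w).1 = D44 none (some 0) - p5 none := by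
      have := hg.1 v w
      have h3 : (g (v + w)).1 = (g v).1 + (g w).1 := by rw [this]; rfl
      have e1' : (g (v + w)).1 = D44 none (some 0) := e1
      have e2' : (g v).1 = p5 none := e2
      rw [e1', e2'] at h3
      rw [h3]; abel
    have e2' : (g v).1 = p5 none := e2
    rw [ncard_co0_2 hg v w 32 24 (-24), e2', e3]
    rw [ncard_subtype (fun x => sqNorm x = 32 ∧ dotInt (p5 none) x = 24 ∧
      dotInt (D44 none (some 0) - p5 none) x = -24)]
    exact count_std
  · rintro x ⟨hx1, hx2, hx3⟩ x' ⟨hx1', hx2', hx3'⟩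
    have hmx : dotInt ((v + w : ↥leechLattice) : GolayPt → ℤ) (x : GolayPt → ℤ) = 0 := by
      rw [hm, dotInt_add_left, hx2, hx3]; norm_num
    have hmx' : dotInt ((v + w : ↥leechLattice) : GolayPt → ℤ) (x' : GolayPt → ℤ) = 0 := by
      rw [hm, dotInt_add_left, hx2', hx3']; norm_num
    have h1 := connT_hs (v + w).2 hmn x.2 hx1 v.2 hv hmx hmv (by rw [dotInt_comm]; exact hx2)
    have h2 := connT_hs (v + w).2 hmn x'.2 hx1' v.2 hv hmx' hmv (by rw [dotInt_comm]; exact hx2')
    obtain ⟨g, hg1, hg2, hg3⟩ := (h1.trans h2.symm).exists_co0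
    refine ⟨g, hg3, ?_, hg2⟩
    have hw' : w = (v + w) - v := by abel
    rw [hw', co0_sub, hg1, hg3]

end Cfsg.Agent.S1583
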