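import Cfsg.Statements.S1584
import Mathlib
import Cfsg.Agent.Lib.Helper3.M24Trans5
import Cfsg.Agent.S1583
-- import your own Cfsg.Agent.* helpers here

set_option autoImplicit false
open Cfsg

namespace Cfsg.Agent.S1584

open Cfsg.Agent.Lib.Helper3 Cfsg.Agent.S1583

theorem ncard_pred {g : Equiv.Perm ↥leechLattice} (P Q : ↥leechLattice → Prop)
    (h : ∀ y, P y ↔ Q (g y)) : {y | P y}.ncard = {y | Q y}.ncard := by
  rw [← Set.ncard_image_of_injective _ g.injective]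
  congr 1
  ext w
  constructor
  · rintro ⟨y, hy, rfl⟩
    exact (h y).1 hy
  · intro hw
    refine ⟨g.symm w, (h _).2 ?_, by simp⟩
    rw [Equiv.apply_symm_apply]; exact hw

theorem hpq : (none : GolayPt) ≠ some 0 := by decide

/-- normalisation to the standard frame -/
theorem frameA (v w x : ↥leechLattice) (hv : sqNorm (v : GolayPt → ℤ) = 48)
    (hw : sqNorm (w : GolayPt → ℤ) = 48) (hvw : dotInt (v : GolayPt → ℤ) (w : GolayPt → ℤ) = -32)
    (hx : sqNorm (x : GolayPt → ℤ) = 32 ∧ dotInt (v : GolayPt → ℤ) (x : GolayPt → ℤ) = 24 ∧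
      dotInt (w : GolayPt → ℤ) (x : GolayPt → ℤ) = -24) :
    ∃ G : ↥Co0, ((G • v : ↥leechLattice) : GolayPt → ℤ) = p5 none ∧
      ((G • w : ↥leechLattice) : GolayPt → ℤ) = D44 none (some 0) - p5 none ∧
      ((G • x : ↥leechLattice) : GolayPt → ℤ) = P44 none (some 0) := by
  have hm : ((v + w : ↥leechLattice) : GolayPt → ℤ) = (v : GolayPt → ℤ) + (w : GolayPt → ℤ) := rfl
  have hmn : sqNorm ((v + w : ↥leechLattice) : GolayPt → ℤ) = 32 := by
    rw [hm, sqNorm_add, hv, hw, hvw]; norm_num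
  have hmv : dotInt ((v + w : ↥leechLattice) : GolayPt → ℤ) (v : GolayPt → ℤ) = 16 := by
    rw [hm, dotInt_add_left, dotInt_self, hv, dotInt_comm, hvw]; norm_num
  obtain ⟨h1, h2, g, hg, e1, e2⟩ := connP_k2 (v + w).2 hmn v.2 hv hmv
  have e2' : (g v).1 = p5 none := e2
  have e3 : (g w).1 = D44 none (some 0) - p5 none := by
    have := hg.1 v w
    have h3 : (g (v + w)).1 = (g v).1 + (g w).1 := by rw [this]; rfl
    have e1' : (g (v + w)).1 = D44 none (some 0) := e1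
    rw [e1', e2'] at h3
    rw [h3]; abel
  have hx1 : g x ∈ {x : ↥leechLattice | sqNorm (x : GolayPt → ℤ) = 32 ∧
      dotInt ((g v : ↥leechLattice) : GolayPt → ℤ) (x : GolayPt → ℤ) = 24 ∧
      dotInt ((g w : ↥leechLattice) : GolayPt → ℤ) (x : GolayPt → ℤ) = -24} := by
    refine ⟨by rw [hg.2]; exact hx.1, by rw [co0_dot hg]; exact hx.2.1,
      by rw [co0_dot hg]; exact hx.2.2⟩
  have hP : (⟨P44 none (some 0), P44_mem hpq⟩ : ↥leechLattice) ∈ {x : ↥leechLattice |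
      sqNorm (x : GolayPt → ℤ) = 32 ∧
      dotInt ((g v : ↥leechLattice) : GolayPt → ℤ) (x : GolayPt → ℤ) = 24 ∧
      dotInt ((g w : ↥leechLattice) : GolayPt → ℤ) (x : GolayPt → ℤ) = -24} := by
    have : P44 none (some 0) ∈ {x : GolayPt → ℤ | x ∈ leechLattice ∧ (sqNorm x = 32 ∧
        dotInt (p5 none) x = 24 ∧ dotInt (D44 none (some 0) - p5 none) x = -24)} := by
      rw [set_eq]; left; left; rfl
    obtain ⟨-, q1, q2, q3⟩ := this
    refine ⟨q1, ?_, ?_⟩
    · show dotInt (g v).1 (P44 none (some 0)) = 24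
      rw [e2']; exact q2
    · show dotInt (g w).1 (P44 none (some 0)) = -24
      rw [e3]; exact q3
  obtain ⟨g2, k1, k2, k3⟩ := (Cfsg.Agent.S1583.result (g v) (g w) (by rw [hg.2]; exact hv)
    (by rw [hg.2]; exact hw) (by rw [co0_dot hg]; exact hvw)).2 (g x) hx1 _ hP
  refine ⟨g2 * ⟨g, hg⟩, ?_, ?_, ?_⟩
  · rw [mul_smul]
    show ((g2 • (g v) : ↥leechLattice) : GolayPt → ℤ) = p5 none
    rw [k1]; exact e2'
  · rw [mul_smul]
    show ((g2 • (g w) : ↥leechLattice) : GolayPt → ℤ) = D44 none (some 0) - p5 none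
    rw [k2]; exact e3
  · rw [mul_smul]
    show ((g2 • (g x) : ↥leechLattice) : GolayPt → ℤ) = P44 none (some 0)
    rw [k3]

theorem std_mem {y : GolayPt → ℤ} (hy : y ∈ leechLattice) (h : sqNorm y = 32 ∧
    dotInt (p5 none) y = 24 ∧ dotInt (D44 none (some 0) - p5 none) y = -24) :
    y ∈ K1 ∪ K2 ∪ K3 := by
  rw [← set_eq]
  exact ⟨hy, h⟩

theorem dot_K2 {y : GolayPt → ℤ} (h : y ∈ K2) : dotInt (P44 none (some 0)) y = 16 := by
  rw [dot_P44 hpq, K2_none h, K2_zero h]; norm_num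

theorem dot_K3 {y : GolayPt → ℤ} (h : y ∈ K3) : dotInt (P44 none (some 0)) y = 8 := by
  rw [dot_P44 hpq, K3_none h, K3_zero h]; norm_num

theorem setA_eq : {y : GolayPt → ℤ | y ∈ leechLattice ∧ ((sqNorm y = 32 ∧
    dotInt (p5 none) y = 24 ∧ dotInt (D44 none (some 0) - p5 none) y = -24) ∧
    dotInt (P44 none (some 0)) y = 8)} = K3 := by
  ext y
  constructor
  · rintro ⟨hy, h1, h2⟩
    rcases std_mem hy h1 with (h | h) | h
    · exfalso
      rw [Set.mem_singleton_iff.1 h, dotInt_self, sqNorm_P44 hpq] at h2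
      norm_num at h2
    · exfalso
      rw [dot_K2 h] at h2
      norm_num at h2
    · exact h
  · intro h
    have : y ∈ K1 ∪ K2 ∪ K3 := Or.inr h
    rw [← set_eq] at this
    exact ⟨this.1, this.2, dot_K3 h⟩

theorem setB_eq : {y : GolayPt → ℤ | y ∈ leechLattice ∧ ((sqNorm y = 32 ∧
    dotInt (p5 none) y = 24 ∧ dotInt (D44 none (some 0) - p5 none) y = -24) ∧
    y ≠ P44 none (some 0) ∧ dotInt (P44 none (some 0)) y ≠ 8)} = K2 := by
  ext y
  constructor
  · rintro ⟨hy, h1, h2, h3⟩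
    rcases std_mem hy h1 with (h | h) | h
    · exact absurd (Set.mem_singleton_iff.1 h) h2
    · exact h
    · exact absurd (dot_K3 h) h3
  · intro h
    have : y ∈ K1 ∪ K2 ∪ K3 := Or.inl (Or.inr h)
    rw [← set_eq] at this
    refine ⟨this.1, this.2, ?_, ?_⟩
    · intro he
      have h1 := K2_none h
      rw [he] at h1
      unfold P44 at h1
      simp at h1
    · rw [dot_K2 h]; norm_num

theorem perm_fix_p5 {σ : Equiv.Perm GolayPt} (h : σ none = none) (i : GolayPt) :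
    p5 none (σ i) = p5 none i := by
  unfold p5
  have q1 : σ i = none ↔ i = none := by
    constructor
    · intro hh; exact σ.injective (hh.trans h.symm)
    · intro hh; rw [hh, h]
  simp only [q1]

theorem perm_fix_D44 {σ : Equiv.Perm GolayPt} (h : σ none = none) (h0 : σ (some 0) = some 0)
    (i : GolayPt) : D44 none (some 0) (σ i) = D44 none (some 0) i := by
  unfold D44
  have q1 : σ i = none ↔ i = none := by
    constructor
    · intro hh; exact σ.injective (hh.trans h.symm)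
    · intro hh; rw [hh, h]
  have q2 : σ i = some 0 ↔ i = some 0 := by
    constructor
    · intro hh; exact σ.injective (hh.trans h0.symm)
    · intro hh; rw [hh, h0]
  simp only [q1, q2]

theorem perm_fix_P44 {σ : Equiv.Perm GolayPt} (h : σ none = none) (h0 : σ (some 0) = some 0)
    (i : GolayPt) : P44 none (some 0) (σ i) = P44 none (some 0) i := by
  unfold P44
  have q1 : σ i = none ↔ i = none := by
    constructor
    · intro hh; exact σ.injective (hh.trans h.symm)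
    · intro hh; rw [hh, h]
  have q2 : σ i = some 0 ↔ i = some 0 := by
    constructor
    · intro hh; exact σ.injective (hh.trans h0.symm)
    · intro hh; rw [hh, h0]
  simp only [q1, q2]

/-- the monomial elements used to fuse within `K2` and `K3` -/
theorem std_trans {y y' : GolayPt → ℤ} (h : (y ∈ K2 ∧ y' ∈ K2) ∨ (y ∈ K3 ∧ y' ∈ K3)) :
    ∃ σ ∈ M24, σ none = none ∧ σ (some 0) = some 0 ∧ ∀ i, y (σ i) = y' i := by
  rcases h with ⟨h1, h2⟩ | ⟨h1, h2⟩
  · obtain ⟨O, hO, rfl⟩ := h1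
    obtain ⟨O', hO', rfl⟩ := h2
    obtain ⟨a1, a2, a3⟩ := Finset.mem_filter.1 hO
    obtain ⟨b1, b2, b3⟩ := Finset.mem_filter.1 hO'
    obtain ⟨σ, hσ, s1, s2, s3⟩ := M24_octad_trans2 hpq (mem_octFin.1 b1) (mem_octFin.1 a1)
      b2 b3 a2 a3
    refine ⟨σ, hσ, s1, s2, ?_⟩
    intro i
    rw [sv_apply, sv_apply]
    simp only [Finset.notMem_empty, if_false, ← s3 i]
  · obtain ⟨j, hj, rfl⟩ := h1
    obtain ⟨j', hj', rfl⟩ := h2
    have a1 := (Finset.mem_erase.1 hj).1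
    have a2 := (Finset.mem_erase.1 (Finset.mem_erase.1 hj).2).1
    have b1 := (Finset.mem_erase.1 hj').1
    have b2 := (Finset.mem_erase.1 (Finset.mem_erase.1 hj').2).1
    obtain ⟨σ, hσ, s1, s2, s3⟩ := M24_three_trans (a := none) (b := some 0) (c := j')
      (a' := none) (b' := some 0) (c' := j) hpq (fun h => b2 h.symm) (fun h => b1 h.symm)
      hpq (fun h => a2 h.symm) (fun h => a1 h.symm)
    refine ⟨σ, hσ, s1, s2, ?_⟩
    intro i
    rw [ov_apply, ov_apply]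
    have q1 : σ i = j ↔ i = j' := by
      constructor
      · intro hh; exact σ.injective (hh.trans s3.symm)
      · intro hh; rw [hh, s3]
    simp only [q1, Finset.mem_univ, if_true]

/-- The Higman–Sims group acts with rank 3 and subdegrees 1, 22, 77 on its 100 points, the orbits of a point stabiliser being distinguished by customary inner product 1 with the fixed point. -/
theorem result (v w x : ↥Cfsg.leechLattice) (hv : Cfsg.sqNorm (v : Cfsg.GolayPt → ℤ) = 48) (hw : Cfsg.sqNorm (w : Cfsg.GolayPt → ℤ) = 48) (hvw : Cfsg.dotInt (v : Cfsg.GolayPt → ℤ) (w : Cfsg.GolayPt → ℤ) = -32) (hx : x ∈ {x : ↥Cfsg.leechLattice | Cfsg.sqNorm (x : Cfsg.GolayPt → ℤ) = 32 ∧ Cfsg.dotInt (v : Cfsg.GolayPt → ℤ) (x : Cfsg.GolayPt → ℤ) = 24 ∧ Cfsg.dotInt (w : Cfsg.GolayPt → ℤ) (x : Cfsg.GolayPt → ℤ) = -24}) : {y : ↥Cfsg.leechLattice | y ∈ {x : ↥Cfsg.leechLattice | Cfsg.sqNorm (x : Cfsg.GolayPt → ℤ) = 32 ∧ Cfsg.dotInt (v : Cfsg.GolayPt → ℤ)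 (x : Cfsg.GolayPt → ℤ) = 24 ∧ Cfsg.dotInt (w : Cfsg.GolayPt → ℤ) (x : Cfsg.GolayPt → ℤ) = -24} ∧ Cfsg.dotInt (x : Cfsg.GolayPt → ℤ) (y : Cfsg.GolayPt → ℤ) = 8}.ncard = 22 ∧ {y : ↥Cfsg.leechLattice | y ∈ {x : ↥Cfsg.leechLattice | Cfsg.sqNorm (x : Cfsg.GolayPt → ℤ) = 32 ∧ Cfsg.dotInt (v : Cfsg.GolayPt → ℤ) (x : Cfsg.GolayPt → ℤ) = 24 ∧ Cfsg.dotInt (w : Cfsg.GolayPt → ℤ) (x : Cfsg.GolayPt → ℤ) = -24} ∧ y ≠ x ∧ Cfsg.dotInt (x : Cfsg.GolayPt → ℤ) (y : Cfsg.GolayPt → ℤ) ≠ 8}.ncard = 77 ∧ ∀ y ∈ {x : ↥Cfsg.leechLattice | Cfsg.sqNorm (x : Cfsg.GolayPt → ℤ) = 32 ∧ Cfsg.dotInt (v : Cfsg.GolayPt → ℤ) (x : Cfsg.GolayPt → ℤ) = 24 ∧ Cfsg.dotInt (w : Cfsg.GolayPt → ℤ) (x : Cfsg.GolayPt → ℤ) = -24}, ∀ y' ∈ {x : ↥Cfsg.leechLattice | Cfsg.sqNorm (x : Cfsg.GolayPt → ℤ) = 32 ∧ Cfsg.dotInt (v : Cfsg.GolayPt → ℤ) (x : Cfsg.GolayPt → ℤ) = 24 ∧ Cfsg.dotInt (w : Cfsg.GolayPt → ℤ) (x : Cfsg.GolayPt → ℤ) = -24}, y ≠ x → y' ≠ x → (Cfsg.dotInt (x :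 Cfsg.GolayPt → ℤ) (y : Cfsg.GolayPt → ℤ) = 8 ↔ Cfsg.dotInt (x : Cfsg.GolayPt → ℤ) (y' : Cfsg.GolayPt → ℤ) = 8) → ∃ g : ↥Cfsg.Co0, g • v = v ∧ g • w = w ∧ g • x = x ∧ g • y = y' := by
  obtain ⟨G, hGv, hGw, hGx⟩ := frameA v w x hv hw hvw hx
  have hGmem : (G : Equiv.Perm ↥leechLattice) ∈ Co0 := G.2
  have hdotG : ∀ a b : ↥leechLattice, dotInt ((G • a : ↥leechLattice) : GolayPt → ℤ)
      ((G • b : ↥leechLattice) : GolayPt → ℤ) = dotInt (a : GolayPt → ℤ) (b : GolayPt → ℤ) :=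
    fun a b => co0_dot hGmem a b
  have hnG : ∀ a : ↥leechLattice, sqNorm ((G • a : ↥leechLattice) : GolayPt → ℤ) =
      sqNorm (a : GolayPt → ℤ) := fun a => hGmem.2 a
  have hstd : ∀ y : ↥leechLattice, (sqNorm (y : GolayPt → ℤ) = 32 ∧
      dotInt (v : GolayPt → ℤ) (y : GolayPt → ℤ) = 24 ∧
      dotInt (w : GolayPt → ℤ) (y : GolayPt → ℤ) = -24) ↔
      (sqNorm ((G • y : ↥leechLattice) : GolayPt → ℤ) = 32 ∧
      dotInt (p5 none) ((G • y : ↥leechLattice) : GolayPt → ℤ) = 24 ∧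
      dotInt (D44 none (some 0) - p5 none) ((G • y : ↥leechLattice) : GolayPt → ℤ) = -24) := by
    intro y
    rw [← hGw, ← hGv, hdotG, hdotG, hnG]
  have hdx : ∀ y : ↥leechLattice, dotInt (x : GolayPt → ℤ) (y : GolayPt → ℤ) =
      dotInt (P44 none (some 0)) ((G • y : ↥leechLattice) : GolayPt → ℤ) := by
    intro y
    rw [← hGx, hdotG]
  have hne : ∀ y : ↥leechLattice, y ≠ x ↔
      ((G • y : ↥leechLattice) : GolayPt → ℤ) ≠ P44 none (some 0) := by
    intro y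
    rw [← hGx]
    constructor
    · intro h1 h2
      exact h1 (MulAction.injective G (Subtype.ext h2))
    · intro h1 h2
      exact h1 (by rw [h2])
  refine ⟨?_, ?_, ?_⟩
  · rw [ncard_pred (g := (G : Equiv.Perm ↥leechLattice)) _
      (fun y : ↥leechLattice => (sqNorm (y : GolayPt → ℤ) = 32 ∧
        dotInt (p5 none) (y : GolayPt → ℤ) = 24 ∧
        dotInt (D44 none (some 0) - p5 none) (y : GolayPt → ℤ) = -24) ∧
        dotInt (P44 none (some 0)) (y : GolayPt → ℤ) = 8)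
      (fun y => by
        show (_ ∧ _) ↔ _
        rw [hdx y]
        exact and_congr (hstd y) Iff.rfl)]
    rw [ncard_subtype (fun y => (sqNorm y = 32 ∧ dotInt (p5 none) y = 24 ∧
      dotInt (D44 none (some 0) - p5 none) y = -24) ∧ dotInt (P44 none (some 0)) y = 8), setA_eq]
    exact ncard_K3
  · rw [ncard_pred (g := (G : Equiv.Perm ↥leechLattice)) _
      (fun y : ↥leechLattice => (sqNorm (y : GolayPt → ℤ) = 32 ∧
        dotInt (p5 none) (y : GolayPt → ℤ) = 24 ∧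
        dotInt (D44 none (some 0) - p5 none) (y : GolayPt → ℤ) = -24) ∧
        (y : GolayPt → ℤ) ≠ P44 none (some 0) ∧
        dotInt (P44 none (some 0)) (y : GolayPt → ℤ) ≠ 8)
      (fun y => by
        show (_ ∧ _ ∧ _) ↔ _
        rw [hdx y]
        exact and_congr (hstd y) (and_congr (hne y) Iff.rfl))]
    rw [ncard_subtype (fun y => (sqNorm y = 32 ∧ dotInt (p5 none) y = 24 ∧
      dotInt (D44 none (some 0) - p5 none) y = -24) ∧ y ≠ P44 none (some 0) ∧
      dotInt (P44 none (some 0)) y ≠ 8), setB_eq]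
    exact ncard_K2
  · intro y hy y' hy' hyx hyx' hiff
    have m1 := std_mem (G • y).2 ((hstd y).1 hy)
    have m2 := std_mem (G • y').2 ((hstd y').1 hy')
    have n1 := (hne y).1 hyx
    have n2 := (hne y').1 hyx'
    rw [hdx y, hdx y'] at hiff
    have hcase : (((G • y : ↥leechLattice) : GolayPt → ℤ) ∈ K2 ∧
        ((G • y' : ↥leechLattice) : GolayPt → ℤ) ∈ K2) ∨
        (((G • y : ↥leechLattice) : GolayPt → ℤ) ∈ K3 ∧
        ((G • y' : ↥leechLattice) : GolayPt → ℤ) ∈ K3) := by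
      rcases m1 with (h1 | h1) | h1
      · exact absurd (Set.mem_singleton_iff.1 h1) n1
      · rcases m2 with (h2 | h2) | h2
        · exact absurd (Set.mem_singleton_iff.1 h2) n2
        · exact Or.inl ⟨h1, h2⟩
        · exfalso
          have := hiff.2 (dot_K3 h2)
          rw [dot_K2 h1] at this
          norm_num at this
      · rcases m2 with (h2 | h2) | h2
        · exact absurd (Set.mem_singleton_iff.1 h2) n2
        · exfalso
          have := hiff.1 (dot_K3 h1)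
          rw [dot_K2 h2] at this
          norm_num at this
        · exact Or.inr ⟨h1, h2⟩
    obtain ⟨σ, hσ, s1, s2, s3⟩ := std_trans hcase
    let h : ↥Co0 := ⟨permL σ hσ, permL_mem σ hσ⟩
    have hact : ∀ z : ↥leechLattice, ∀ i, ((h • z : ↥leechLattice) : GolayPt → ℤ) i =
        (z : GolayPt → ℤ) (σ i) := fun z i => rfl
    have f1 : h • (G • v) = G • v := by
      apply Subtype.ext; funext i
      rw [hact, hGv]; exact perm_fix_p5 s1 i
    have f2 : h • (G • w) = G • w := by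
      apply Subtype.ext; funext i
      rw [hact, hGw]
      simp only [Pi.sub_apply]
      rw [perm_fix_p5 s1 i, perm_fix_D44 s1 s2 i]
    have f3 : h • (G • x) = G • x := by
      apply Subtype.ext; funext i
      rw [hact, hGx]; exact perm_fix_P44 s1 s2 i
    have f4 : h • (G • y) = G • y' := by
      apply Subtype.ext; funext i
      rw [hact]; exact s3 i
    refine ⟨G⁻¹ * h * G, ?_, ?_, ?_, ?_⟩
    · rw [mul_smul, mul_smul, f1, inv_smul_smul]
    · rw [mul_smul, mul_smul, f2, inv_smul_smul]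
    · rw [mul_smul, mul_smul, f3, inv_smul_smul]
    · rw [mul_smul, mul_smul, f4, inv_smul_smul]

end Cfsg.Agent.S1584
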