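import Cfsg.Statements.S0405
import Mathlib
import Cfsg.Agent.Lib.Helper3.StdStab
import Cfsg.Agent.Lib.Helper3.Rank3Simple
import Cfsg.Agent.S1584
import Cfsg.Agent.S0379
import Cfsg.Agent.S0378
-- import your own Cfsg.Agent.* helpers here

set_option autoImplicit false
open Cfsg

namespace Cfsg.Agent.S0405

open Cfsg.Agent.Lib.Helper3 Cfsg.Agent.Lib.Helper21 MulAction

theorem finite_co0 : Finite ↥Co0 :=
  Nat.finite_of_card_ne_zero (by rw [Cfsg.Agent.S0397.result]; norm_num)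

theorem O0c_supp : O0ᶜ ∈ supports (golayCode : Set (GolayPt → ZMod 2)) :=
  compl_mem_supports O0_spec.1.1

theorem sgn_P44 : sgnVec O0ᶜ (P44 none (some 0)) = D44 none (some 0) := by
  obtain ⟨_, h2, h3⟩ := O0_spec
  funext i
  unfold sgnVec P44 D44
  by_cases h1 : i = none
  · subst h1; simp [h2]
  · by_cases h0 : i = some 0
    · subst h0; simp [h3]
    · simp [h1, h0]

theorem sgn_D44 : sgnVec O0ᶜ (D44 none (some 0)) = P44 none (some 0) := by
  obtain ⟨_, h2, h3⟩ := O0_spec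
  funext i
  unfold sgnVec P44 D44
  by_cases h1 : i = none
  · subst h1; simp [h2]
  · by_cases h0 : i = some 0
    · subst h0; simp [h3]
    · simp [h1, h0]

theorem sgn_oddv : sgnVec O0ᶜ (oddv O0 (p5 none)) = p5 none := by
  funext i
  unfold sgnVec oddv
  have : p5 none i % 4 = 1 := by unfold p5; split_ifs <;> norm_num
  by_cases h1 : i ∈ O0 <;> simp [h1, this]

/-- every Higman–Sims triple is conjugate to the standard one -/
theorem to_std (v w x : ↥leechLattice) (hv : sqNorm v.1 = 48) (hw : sqNorm w.1 = 48)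
    (hvw : dotInt v.1 w.1 = -32) (hx : sqNorm x.1 = 32) (hvx : dotInt v.1 x.1 = 24)
    (hwx : dotInt w.1 x.1 = -24) :
    ∃ g : ↥Co0, g • v = vS ∧ g • (v + w) = mS ∧ g • x = xS := by
  have hm : (v + w).1 ∈ leechLattice := (v + w).2
  have e : (v + w).1 = v.1 + w.1 := rfl
  have hmn : sqNorm (v + w).1 = 32 := by rw [e, sqNorm_add, hv, hw, hvw]; norm_num
  have hmx : dotInt (v + w).1 x.1 = 0 := by rw [e, dotInt_add_left, hvx, hwx]; norm_num
  have hmv : dotInt (v + w).1 v.1 = 16 := by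
    rw [e, dotInt_add_left, dotInt_self, hv, dotInt_comm, hvw]; norm_num
  have hxv : dotInt x.1 v.1 = 24 := by rw [dotInt_comm, hvx]
  have h1 := connT_hs hm hmn x.2 hx v.2 hv hmx hmv hxv
  have h2 := h1.trans (connT_sgn h1.mem_right1 h1.mem_right2 h1.mem_right3 O0c_supp)
  rw [sgn_P44, sgn_D44, sgn_oddv] at h2
  obtain ⟨g, g1, g2, g3⟩ := ConnT.exists_co0 (v := v + w) (w := x) (u := v) (v' := mS) (w' := xS)
    (u' := vS) h2
  exact ⟨g, g3, g1, g2⟩


/-- the 100 points -/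
def Xset (v w : ↥leechLattice) : Set ↥leechLattice :=
  {x : ↥Cfsg.leechLattice | Cfsg.sqNorm (x : Cfsg.GolayPt → ℤ) = 32 ∧ Cfsg.dotInt (v : Cfsg.GolayPt → ℤ) (x : Cfsg.GolayPt → ℤ) = 24 ∧ Cfsg.dotInt (w : Cfsg.GolayPt → ℤ) (x : Cfsg.GolayPt → ℤ) = -24}

def Dset (v w x : ↥leechLattice) : Set ↥leechLattice :=
  {y | y ∈ Xset v w ∧ dotInt x.1 y.1 = 8}

def Gset (v w x : ↥leechLattice) : Set ↥leechLattice :=
  {y | y ∈ Xset v w ∧ y ≠ x ∧ dotInt x.1 y.1 ≠ 8}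

/-- Joint stabiliser of two vectors of sum of squares 48 with coordinate dot product −32 is simple of order 44352000. -/
theorem result (v w : Cfsg.leechLattice) (hv : Cfsg.sqNorm (v : Cfsg.GolayPt → ℤ) = 48) (hw : Cfsg.sqNorm (w : Cfsg.GolayPt → ℤ) = 48) (hvw : Cfsg.dotInt (v : Cfsg.GolayPt → ℤ) (w : Cfsg.GolayPt → ℤ) = -32) : Cfsg.IsHS ↥(MulAction.stabilizer Cfsg.Co0 v ⊓ MulAction.stabilizer Cfsg.Co0 w) := by
  classical
  have : Finite ↥Co0 := finite_co0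
  have hX100 : (Xset v w).ncard = 100 := (Cfsg.Agent.S1583.result v w hv hw hvw).1
  have hXtrans : ∀ x ∈ Xset v w, ∀ x' ∈ Xset v w, ∃ g : ↥Co0, g • v = v ∧ g • w = w ∧ g • x = x' :=
    (Cfsg.Agent.S1583.result v w hv hw hvw).2
  obtain ⟨x, hx⟩ : ∃ x : ↥leechLattice, x ∈ Xset v w :=
    Set.nonempty_of_ncard_ne_zero (by rw [hX100]; norm_num)
  have h22 : (Dset v w x).ncard = 22 := (Cfsg.Agent.S1584.result v w x hv hw hvw hx).1
  have h77 : (Gset v w x).ncard = 77 := (Cfsg.Agent.S1584.result v w x hv hw hvw hx).2.1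
  have hrank : ∀ y ∈ Xset v w, ∀ y' ∈ Xset v w, y ≠ x → y' ≠ x →
      (dotInt x.1 y.1 = 8 ↔ dotInt x.1 y'.1 = 8) →
      ∃ g : ↥Co0, g • v = v ∧ g • w = w ∧ g • x = x ∧ g • y = y' :=
    (Cfsg.Agent.S1584.result v w x hv hw hvw hx).2.2
  obtain ⟨hxn, hvx, hwx⟩ := hx
  -- the orbit
  have horb : orbit ↥(stabilizer Co0 v ⊓ stabilizer Co0 w) x = Xset v w := by
    ext y
    constructor
    · rintro ⟨g, rfl⟩
      have gv : g.1 • v = v := mem_stabilizer_iff.1 g.2.1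
      have gw : g.1 • w = w := mem_stabilizer_iff.1 g.2.2
      refine ⟨?_, ?_, ?_⟩
      · show sqNorm (g.1.1 x).1 = 32
        rw [g.1.2.2, hxn]
      · have := co0_dot g.1.2 v x
        show dotInt v.1 (g.1.1 x).1 = 24
        have gv' : g.1.1 v = v := gv
        rw [gv'] at this
        rw [this, hvx]
      · have := co0_dot g.1.2 w x
        show dotInt w.1 (g.1.1 x).1 = -24
        have gw' : g.1.1 w = w := gw
        rw [gw'] at this
        rw [this, hwx]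
    · intro hy
      obtain ⟨g, gv, gw, gx⟩ := hXtrans x ⟨hxn, hvx, hwx⟩ y hy
      exact ⟨⟨g, Subgroup.mem_inf.2 ⟨mem_stabilizer_iff.2 gv, mem_stabilizer_iff.2 gw⟩⟩, gx⟩
  have hins : orbit ↥(stabilizer Co0 v ⊓ stabilizer Co0 w) x =
      insert x (Dset v w x ∪ Gset v w x) := by
    rw [horb]; ext y; constructor
    · intro hy
      by_cases h1 : y = x
      · exact Or.inl h1
      · by_cases h2 : dotInt x.1 y.1 = 8
        · exact Or.inr (Or.inl ⟨hy, h2⟩)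
        · exact Or.inr (Or.inr ⟨hy, h1, h2⟩)
    · rintro (rfl | ⟨h, _⟩ | ⟨h, _⟩)
      · exact ⟨hxn, hvx, hwx⟩
      · exact h
      · exact h
  have hxΔ : x ∉ Dset v w x := by
    intro h
    have := h.2
    rw [dotInt_self, hxn] at this
    norm_num at this
  have hxΓ : x ∉ Gset v w x := fun h => h.2.1 rfl
  have hΔΓ : Disjoint (Dset v w x) (Gset v w x) :=
    Set.disjoint_left.2 fun y h1 h2 => h2.2.2 h1.2
  have tΔ : ∀ y ∈ Dset v w x, ∀ y' ∈ Dset v w x,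
      ∃ h : ↥(stabilizer Co0 v ⊓ stabilizer Co0 w), h • x = x ∧ h • y = y' := by
    intro y hy y' hy'
    have hyx : y ≠ x := fun e => hxΔ (e ▸ hy)
    have hyx' : y' ≠ x := fun e => hxΔ (e ▸ hy')
    obtain ⟨g, gv, gw, gx, gy⟩ := hrank y hy.1 y' hy'.1 hyx hyx' (by simp [hy.2, hy'.2])
    exact ⟨⟨g, Subgroup.mem_inf.2 ⟨mem_stabilizer_iff.2 gv, mem_stabilizer_iff.2 gw⟩⟩, gx, gy⟩
  have tΓ : ∀ y ∈ Gset v w x, ∀ y' ∈ Gset v w x,
      ∃ h : ↥(stabilizer Co0 v ⊓ stabilizer Co0 w), h • x = x ∧ h • y = y' := by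
    intro y hy y' hy'
    obtain ⟨g, gv, gw, gx, gy⟩ := hrank y hy.1 y' hy'.1 hy.2.1 hy'.2.1
      (by simp [hy.2.2, hy'.2.2])
    exact ⟨⟨g, Subgroup.mem_inf.2 ⟨mem_stabilizer_iff.2 gv, mem_stabilizer_iff.2 gw⟩⟩, gx, gy⟩
  -- the point stabiliser
  obtain ⟨g0, g0v, g0m, g0x⟩ := to_std v w x hv hw hvw hxn hvx hwx
  let F1 : ↥(stabilizer ↥M24 (none : GolayPt) ⊓ stabilizer ↥M24 (some 0 : GolayPt)) →* ↥Co0 :=
    (MulAut.conj g0⁻¹).toMonoidHom.comp (permHom.comp (Subgroup.subtype _))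
  have F1_apply : ∀ σ, F1 σ = g0⁻¹ * permHom σ.1 * g0 := by
    intro σ
    show g0⁻¹ * permHom σ.1 * g0⁻¹⁻¹ = _
    rw [inv_inv]
  have hfix : ∀ σ, F1 σ • v = v ∧ F1 σ • w = w ∧ F1 σ • x = x := by
    intro σ
    have hn : σ.1.1 none = none := mem_stabilizer_iff.1 σ.2.1
    have h0 : σ.1.1 (some 0) = some 0 := mem_stabilizer_iff.1 σ.2.2
    obtain ⟨e1, e2, e3⟩ := permHom_fix σ.1 hn h0
    have a1 : F1 σ • v = v := by
      rw [F1_apply, mul_smul, mul_smul, g0v, e1, inv_smul_eq_iff, g0v]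
    have a2 : F1 σ • (v + w) = v + w := by
      rw [F1_apply, mul_smul, mul_smul, g0m, e2, inv_smul_eq_iff, g0m]
    have a3 : F1 σ • x = x := by
      rw [F1_apply, mul_smul, mul_smul, g0x, e3, inv_smul_eq_iff, g0x]
    refine ⟨a1, ?_, a3⟩
    have := co0_add (F1 σ) v w
    rw [a2, a1] at this
    exact (add_left_cancel this).symm
  let F2 : ↥(stabilizer ↥M24 (none : GolayPt) ⊓ stabilizer ↥M24 (some 0 : GolayPt)) →*
      ↥(stabilizer Co0 v ⊓ stabilizer Co0 w) :=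
    F1.codRestrict _ (fun σ => Subgroup.mem_inf.2
      ⟨mem_stabilizer_iff.2 (hfix σ).1, mem_stabilizer_iff.2 (hfix σ).2.1⟩)
  let F3 : ↥(stabilizer ↥M24 (none : GolayPt) ⊓ stabilizer ↥M24 (some 0 : GolayPt)) →*
      ↥(stabilizer ↥(stabilizer Co0 v ⊓ stabilizer Co0 w) x) :=
    F2.codRestrict _ (fun σ => mem_stabilizer_iff.2 (hfix σ).2.2)
  have hinj : Function.Injective F3 := by
    intro a b hab
    have h1 : F1 a = F1 b := congrArg (fun z => z.1.1) hab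
    rw [F1_apply, F1_apply] at h1
    have h2 : permHom a.1 = permHom b.1 := mul_left_cancel (mul_right_cancel h1)
    exact Subtype.ext (permHom_injective h2)
  have hsurj : Function.Surjective F3 := by
    intro h
    have kv : h.1.1 • v = v := mem_stabilizer_iff.1 h.1.2.1
    have kw : h.1.1 • w = w := mem_stabilizer_iff.1 h.1.2.2
    have kx : h.1.1 • x = x := mem_stabilizer_iff.1 h.2
    have km : h.1.1 • (v + w) = v + w := by rw [co0_add, kv, kw]
    obtain ⟨σ, hn, h0, hσ⟩ := stab_std (g0 * h.1.1 * g0⁻¹)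
      (by rw [← g0v, mul_smul, mul_smul, inv_smul_smul, kv])
      (by rw [← g0m, mul_smul, mul_smul, inv_smul_smul, km])
      (by rw [← g0x, mul_smul, mul_smul, inv_smul_smul, kx])
    refine ⟨⟨σ, Subgroup.mem_inf.2 ⟨mem_stabilizer_iff.2 hn, mem_stabilizer_iff.2 h0⟩⟩, ?_⟩
    apply Subtype.ext
    apply Subtype.ext
    show F1 _ = h.1.1
    rw [F1_apply]
    show g0⁻¹ * permHom σ * g0 = h.1.1
    rw [hσ]
    group
  let e := MulEquiv.ofBijective F3 ⟨hinj, hsurj⟩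
  have : IsSimpleGroup ↥(stabilizer ↥M24 (none : GolayPt) ⊓ stabilizer ↥M24 (some 0 : GolayPt)) :=
    Cfsg.Agent.S0379.result none (some 0) hpq0
  have hH : IsSimpleGroup ↥(stabilizer ↥(stabilizer Co0 v ⊓ stabilizer Co0 w) x) :=
    e.symm.isSimpleGroup
  have hcardH : Nat.card ↥(stabilizer ↥(stabilizer Co0 v ⊓ stabilizer Co0 w) x) = 443520 := by
    rw [← Nat.card_congr e.toEquiv]
    exact Cfsg.Agent.S0378.result none (some 0) hpq0
  refine ⟨simple_of_rank3_100 x _ _ hins hxΔ hxΓ hΔΓ h22 h77 tΔ tΓ hH, ?_⟩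
  have h1 := Subgroup.card_mul_index (stabilizer ↥(stabilizer Co0 v ⊓ stabilizer Co0 w) x)
  rw [MulAction.index_stabilizer, hcardH, horb, hX100] at h1
  rw [← h1]

end Cfsg.Agent.S0405
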