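import Cfsg.Statements.S0404
import Mathlib
import Cfsg.Agent.Lib.Helper3.McLOrbit
import Cfsg.Agent.Lib.Helper3.Rank4Simple
-- import your own Cfsg.Agent.* helpers here

set_option autoImplicit false
open Cfsg

namespace Cfsg.Agent.S0404

open Cfsg.Agent.Lib.Helper3 Cfsg.Agent.Lib.Helper21 MulAction

theorem disjoint_of_trans_ncard {G Y : Type*} [Group G] [MulAction G Y] {x : Y} {D D' : Set Y}
    (tD : ∀ y ∈ D, ∀ y' ∈ D, ∃ h : G, h • x = x ∧ h • y = y')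
    (tD' : ∀ y ∈ D', ∀ y' ∈ D', ∃ h : G, h • x = x ∧ h • y = y')
    (iD : ∀ h : G, h • x = x → ∀ y ∈ D, h • y ∈ D)
    (iD' : ∀ h : G, h • x = x → ∀ y ∈ D', h • y ∈ D')
    (hne : D.ncard ≠ D'.ncard) : Disjoint D D' := by
  rw [Set.disjoint_left]
  intro z hz hz'
  apply hne
  have : D = D' := by
    apply Set.Subset.antisymm
    · intro y hy
      obtain ⟨h, hh, rfl⟩ := tD z hz y hy
      exact iD' h hh z hz'
    · intro y hy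
      obtain ⟨h, hh, rfl⟩ := tD' z hz' y hy
      exact iD h hh z hz
  rw [this]

/-- Joint stabiliser of two minimal vectors with coordinate dot product −8 is simple of order 898128000. -/
theorem result (v w : Cfsg.leechLattice) (hv : Cfsg.sqNorm (v : Cfsg.GolayPt → ℤ) = 32) (hw : Cfsg.sqNorm (w : Cfsg.GolayPt → ℤ) = 32) (hvw : Cfsg.dotInt (v : Cfsg.GolayPt → ℤ) (w : Cfsg.GolayPt → ℤ) = -8) : Cfsg.IsMcL ↥(MulAction.stabilizer Cfsg.Co0 v ⊓ MulAction.stabilizer Cfsg.Co0 w) := by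
  classical
  have : Finite ↥Co0 := finite_Co0'
  obtain ⟨x, hx⟩ := Om_nonempty v w hv hw hvw
  obtain ⟨g0, g0v, g0w, g0x⟩ := to_std_mcl v w x hv hw hvw hx
  obtain ⟨hH, hcardH⟩ := pointStab v w x g0 g0v g0w g0x
  have hcardG := card_G v w hv hw hvw
  have horb := Om_orbit v w hv hw hvw x hx
  have hOm := Om_ncard v w hv hw hvw
  have finOm : (Om v w).Finite := Set.finite_of_ncard_ne_zero (by rw [hOm]; norm_num)
  have n1 : (Dl g0 Y1).ncard = 330 := by rw [Dl_ncard, Y1_ncard]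
  have n2 : (Dl g0 Y2).ncard = 462 := by rw [Dl_ncard, Y2_ncard]
  have n3 : (Dl g0 Y3).ncard = 1232 := by rw [Dl_ncard, Y3_ncard]
  have s1 : Dl g0 Y1 ⊆ Om v w := Dl_sub v w g0 g0v g0w Y1_sub
  have s2 : Dl g0 Y2 ⊆ Om v w := Dl_sub v w g0 g0v g0w Y2_sub
  have s3 : Dl g0 Y3 ⊆ Om v w := Dl_sub v w g0 g0v g0w Y3_sub
  have x1 : x ∉ Dl g0 Y1 := notMem_Dl x g0 g0x mS_notMem_Y1
  have x2 : x ∉ Dl g0 Y2 := notMem_Dl x g0 g0x mS_notMem_Y2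
  have x3 : x ∉ Dl g0 Y3 := notMem_Dl x g0 g0x mS_notMem_Y3
  have t1 : ∀ y ∈ Dl g0 Y1, ∀ y' ∈ Dl g0 Y1,
      ∃ h : ↥(stabilizer Co0 v ⊓ stabilizer Co0 w), h • x = x ∧ h • y = y' := by
    intro y hy y' hy'
    obtain ⟨t, tv, tw, tx, e⟩ := Dl_trans v w x g0 g0v g0w g0x Y1_trans y hy y' hy'
    exact ⟨⟨t, Subgroup.mem_inf.2 ⟨mem_stabilizer_iff.2 tv, mem_stabilizer_iff.2 tw⟩⟩, tx, e⟩
  have t2 : ∀ y ∈ Dl g0 Y2, ∀ y' ∈ Dl g0 Y2,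
      ∃ h : ↥(stabilizer Co0 v ⊓ stabilizer Co0 w), h • x = x ∧ h • y = y' := by
    intro y hy y' hy'
    obtain ⟨t, tv, tw, tx, e⟩ := Dl_trans v w x g0 g0v g0w g0x Y2_trans y hy y' hy'
    exact ⟨⟨t, Subgroup.mem_inf.2 ⟨mem_stabilizer_iff.2 tv, mem_stabilizer_iff.2 tw⟩⟩, tx, e⟩
  have t3 : ∀ y ∈ Dl g0 Y3, ∀ y' ∈ Dl g0 Y3,
      ∃ h : ↥(stabilizer Co0 v ⊓ stabilizer Co0 w), h • x = x ∧ h • y = y' := by
    intro y hy y' hy'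
    obtain ⟨t, tv, tw, tx, e⟩ := Dl_trans v w x g0 g0v g0w g0x Y3_trans y hy y' hy'
    exact ⟨⟨t, Subgroup.mem_inf.2 ⟨mem_stabilizer_iff.2 tv, mem_stabilizer_iff.2 tw⟩⟩, tx, e⟩
  have i1 : ∀ h : ↥(stabilizer Co0 v ⊓ stabilizer Co0 w), h • x = x →
      ∀ y ∈ Dl g0 Y1, h • y ∈ Dl g0 Y1 := fun h hh y hy =>
    Dl_inv v w x g0 g0v g0w g0x Y1_inv h.1 (mem_stabilizer_iff.1 h.2.1)
      (mem_stabilizer_iff.1 h.2.2) hh y hy
  have i2 : ∀ h : ↥(stabilizer Co0 v ⊓ stabilizer Co0 w), h • x = x →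
      ∀ y ∈ Dl g0 Y2, h • y ∈ Dl g0 Y2 := fun h hh y hy =>
    Dl_inv v w x g0 g0v g0w g0x Y2_inv h.1 (mem_stabilizer_iff.1 h.2.1)
      (mem_stabilizer_iff.1 h.2.2) hh y hy
  have i3 : ∀ h : ↥(stabilizer Co0 v ⊓ stabilizer Co0 w), h • x = x →
      ∀ y ∈ Dl g0 Y3, h • y ∈ Dl g0 Y3 := fun h hh y hy =>
    Dl_inv v w x g0 g0v g0w g0x Y3_inv h.1 (mem_stabilizer_iff.1 h.2.1)
      (mem_stabilizer_iff.1 h.2.2) hh y hy
  have d12 : Disjoint (Dl g0 Y1) (Dl g0 Y2) :=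
    disjoint_of_trans_ncard t1 t2 i1 i2 (by rw [n1, n2]; norm_num)
  have d13 : Disjoint (Dl g0 Y1) (Dl g0 Y3) :=
    disjoint_of_trans_ncard t1 t3 i1 i3 (by rw [n1, n3]; norm_num)
  have d23 : Disjoint (Dl g0 Y2) (Dl g0 Y3) :=
    disjoint_of_trans_ncard t2 t3 i2 i3 (by rw [n2, n3]; norm_num)
  have f1 : (Dl g0 Y1).Finite := finOm.subset s1
  have f2 : (Dl g0 Y2).Finite := finOm.subset s2
  have f3 : (Dl g0 Y3).Finite := finOm.subset s3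
  have hsub : insert x (Dl g0 Y1 ∪ Dl g0 Y2 ∪ Dl g0 Y3) ⊆ Om v w := by
    rintro y (rfl | (h | h) | h)
    · exact hx
    · exact s1 h
    · exact s2 h
    · exact s3 h
  have hcard : (insert x (Dl g0 Y1 ∪ Dl g0 Y2 ∪ Dl g0 Y3)).ncard = 2025 := by
    rw [Set.ncard_insert_of_notMem (by simp [x1, x2, x3]) ((f1.union f2).union f3),
      Set.ncard_union_eq (Set.disjoint_union_left.2 ⟨d13, d23⟩) (f1.union f2) f3,
      Set.ncard_union_eq d12 f1 f2, n1, n2, n3]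
  have hX : orbit ↥(stabilizer Co0 v ⊓ stabilizer Co0 w) x =
      insert x (Dl g0 Y1 ∪ Dl g0 Y2 ∪ Dl g0 Y3) := by
    rw [horb]
    exact (Set.eq_of_subset_of_ncard_le hsub (by rw [hcard, hOm]) finOm).symm
  exact ⟨simple_of_rank4_2025 x _ _ _ hX x1 x2 x3 d12 d13 d23 n1 n2 n3 t1 t2 t3 hH
    (by rw [hcardG]; norm_num), hcardG⟩

end Cfsg.Agent.S0404
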