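import Cfsg.Statements.S1578
import Mathlib
import Cfsg.Agent.Lib.Helper3.Co0Count
-- import your own Cfsg.Agent.* helpers here

set_option autoImplicit false
open Cfsg

namespace Cfsg.Agent.S1578

open Cfsg.Agent.Lib.Helper3

def G1 : Set (GolayPt → ℤ) := (fun j => sv 4 {none, j} {none, j}) '' {j | j ≠ none}
def G2 : Set (GolayPt → ℤ) := (fun O => sv 2 O O) '' {O | O ∈ octads ∧ none ∈ O}
def G3 : Set (GolayPt → ℤ) := (fun O => ov O none) '' {O | O ∈ octads ∧ none ∈ O}
def G4 : Set (GolayPt → ℤ) := (fun j => ov ∅ j) '' {j | j ≠ none}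

theorem sv_none (c : ℤ) (s T : Finset GolayPt) :
    sv c s T none = if none ∈ T then -c else if none ∈ s then c else 0 := rfl

theorem ov_none (C : Finset GolayPt) (j : GolayPt) :
    ov C j none = if none = j then (if j ∈ C then -3 else 3) else if none ∈ C then 1 else -1 := rfl

theorem G1_none {x : GolayPt → ℤ} (h : x ∈ G1) : x none = -4 := by
  obtain ⟨j, hj, rfl⟩ := h
  simp [sv_none]

theorem G2_none {x : GolayPt → ℤ} (h : x ∈ G2) : x none = -2 := by
  obtain ⟨O, ⟨hO, hn⟩, rfl⟩ := h
  simp [sv_none, hn]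

theorem G3_none {x : GolayPt → ℤ} (h : x ∈ G3) : x none = -3 := by
  obtain ⟨O, ⟨hO, hn⟩, rfl⟩ := h
  simp [ov_none, hn]

theorem G4_none {x : GolayPt → ℤ} (h : x ∈ G4) : x none = -1 := by
  obtain ⟨j, hj, rfl⟩ := h
  have : ¬ (none = j) := fun h => hj h.symm
  simp [ov_none, this]

theorem ncard_G1 : G1.ncard = 23 := by
  unfold G1
  rw [Set.ncard_image_of_injOn, ncard_ne_pt]
  intro j hj j' hj' h
  have h1 := (sv_inj (by norm_num) (Finset.Subset.refl _) (Finset.Subset.refl _) h).1
  have : j ∈ ({none, j'} : Finset GolayPt) := by rw [← h1]; simp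
  rw [Finset.mem_insert, Finset.mem_singleton] at this
  rcases this with h2 | h2
  · exact absurd h2 hj
  · exact h2

theorem ncard_G2 : G2.ncard = 253 := by
  unfold G2
  rw [Set.ncard_image_of_injOn, ncard_octads_through]
  intro O hO O' hO' h
  exact (sv_inj (by norm_num) (Finset.Subset.refl _) (Finset.Subset.refl _) h).1

theorem ncard_G3 : G3.ncard = 253 := by
  unfold G3
  rw [Set.ncard_image_of_injOn, ncard_octads_through]
  intro O hO O' hO' h
  exact (ov_inj h).1

theorem ncard_G4 : G4.ncard = 23 := by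
  unfold G4
  rw [Set.ncard_image_of_injOn, ncard_ne_pt]
  intro j hj j' hj' h
  exact (ov_inj h).2

theorem set_eq : {x : GolayPt → ℤ | x ∈ leechLattice ∧ (sqNorm x = 32 ∧ dotInt V0 x = 24)} =
    G1 ∪ G2 ∪ G3 ∪ G4 := by
  ext x
  constructor
  · rintro ⟨hx, hn, hd⟩
    rw [dot_V0] at hd
    rcases (leech_minimal_iff x).1 ⟨hx, hn⟩ with ⟨s, T, hs, hT, rfl⟩ | ⟨s, T, hs, hT, hev, rfl⟩ |
      ⟨C, j, hC, rfl⟩
    · rw [sum_sv 4 hT, sv_none, hs] at hd
      have hle := Finset.card_le_card hT
      rw [hs] at hle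
      by_cases h1 : none ∈ T
      · rw [if_pos h1] at hd
        have hTs : T = s := Finset.eq_of_subset_of_card_le hT (by rw [hs]; omega)
        subst hTs
        obtain ⟨a, b, hab, rfl⟩ := Finset.card_eq_two.1 hs
        rw [Finset.mem_insert, Finset.mem_singleton] at h1
        left; left; left
        rcases h1 with h1 | h1
        · refine ⟨b, ?_, by rw [h1]⟩
          intro hb
          exact hab (by rw [← h1, hb])
        · refine ⟨a, ?_, by rw [h1, Finset.pair_comm]⟩
          intro ha
          exact hab (by rw [ha, h1])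
      · rw [if_neg h1] at hd
        by_cases h2 : none ∈ s
        · rw [if_pos h2] at hd; omega
        · rw [if_neg h2] at hd; omega
    · rw [sum_sv 2 hT, sv_none, hs.2] at hd
      have hle := Finset.card_le_card hT
      rw [hs.2] at hle
      by_cases h1 : none ∈ T
      · rw [if_pos h1] at hd
        have hTs : T = s := Finset.eq_of_subset_of_card_le hT (by rw [hs.2]; omega)
        subst hTs
        left; left; right
        exact ⟨T, ⟨hs, h1⟩, rfl⟩
      · rw [if_neg h1] at hd
        by_cases h2 : none ∈ s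
        · rw [if_pos h2] at hd; omega
        · rw [if_neg h2] at hd; omega
    · rw [sum_ov, ov_none] at hd
      have hcases := supports_card_cases hC
      by_cases hj : none = j
      · subst hj
        rw [if_pos rfl] at hd
        by_cases h2 : none ∈ C
        · rw [if_pos h2, if_pos h2] at hd
          left; right
          exact ⟨C, ⟨⟨hC, by omega⟩, h2⟩, rfl⟩
        · rw [if_neg h2, if_neg h2] at hd; omega
      · rw [if_neg hj] at hd
        by_cases h2 : none ∈ C
        · rw [if_pos h2] at hd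
          have : 0 < C.card := Finset.card_pos.2 ⟨_, h2⟩
          by_cases h3 : j ∈ C
          · rw [if_pos h3] at hd; omega
          · rw [if_neg h3] at hd; omega
        · rw [if_neg h2] at hd
          by_cases h3 : j ∈ C
          · rw [if_pos h3] at hd; omega
          · rw [if_neg h3] at hd
            have h0 : C = ∅ := Finset.card_eq_zero.1 (by omega)
            subst h0
            right
            exact ⟨j, fun h => hj h.symm, rfl⟩
  · rintro (((h | h) | h) | h)
    · have hnone := G1_none h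
      obtain ⟨j, hj, rfl⟩ := h
      have hcard : ({none, j} : Finset GolayPt).card = 2 := Finset.card_pair (fun h => hj h.symm)
      have := (leech_minimal_iff (sv 4 {none, j} {none, j})).2
        (Or.inl ⟨_, _, hcard, Finset.Subset.refl _, rfl⟩)
      refine ⟨this.1, this.2, ?_⟩
      rw [dot_V0, hnone, sum_sv 4 (Finset.Subset.refl _), hcard]
      norm_num
    · have hnone := G2_none h
      obtain ⟨O, ⟨hO, hn⟩, rfl⟩ := h
      have := (leech_minimal_iff (sv 2 O O)).2
        (Or.inr (Or.inl ⟨_, _, hO, Finset.Subset.refl _, by rw [hO.2]; decide, rfl⟩))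
      refine ⟨this.1, this.2, ?_⟩
      rw [dot_V0, hnone, sum_sv 2 (Finset.Subset.refl _), hO.2]
      norm_num
    · have hnone := G3_none h
      obtain ⟨O, ⟨hO, hn⟩, rfl⟩ := h
      have := (leech_minimal_iff (ov O none)).2
        (Or.inr (Or.inr ⟨_, _, hO.1, rfl⟩))
      refine ⟨this.1, this.2, ?_⟩
      rw [dot_V0, hnone, sum_ov, hO.2, if_pos hn]
      norm_num
    · have hnone := G4_none h
      obtain ⟨j, hj, rfl⟩ := h
      have := (leech_minimal_iff (ov ∅ j)).2
        (Or.inr (Or.inr ⟨_, _, empty_mem_supports, rfl⟩))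
      refine ⟨this.1, this.2, ?_⟩
      rw [dot_V0, hnone, sum_ov, if_neg (Finset.notMem_empty _)]
      norm_num

theorem count_V0 : {x : GolayPt → ℤ | x ∈ leechLattice ∧ (sqNorm x = 32 ∧ dotInt V0 x = 24)}.ncard
    = 552 := by
  rw [set_eq]
  have f1 : G1.Finite := Set.finite_of_ncard_ne_zero (by rw [ncard_G1]; norm_num)
  have f2 : G2.Finite := Set.finite_of_ncard_ne_zero (by rw [ncard_G2]; norm_num)
  have f3 : G3.Finite := Set.finite_of_ncard_ne_zero (by rw [ncard_G3]; norm_num)
  have f4 : G4.Finite := Set.finite_of_ncard_ne_zero (by rw [ncard_G4]; norm_num)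
  have d12 : Disjoint G1 G2 := by
    rw [Set.disjoint_left]
    intro x h1 h2
    have := G1_none h1
    have := G2_none h2
    omega
  have d3 : Disjoint (G1 ∪ G2) G3 := by
    rw [Set.disjoint_left]
    rintro x (h1 | h1) h2
    · have := G1_none h1
      have := G3_none h2
      omega
    · have := G2_none h1
      have := G3_none h2
      omega
  have d4 : Disjoint (G1 ∪ G2 ∪ G3) G4 := by
    rw [Set.disjoint_left]
    rintro x ((h1 | h1) | h1) h2
    · have := G1_none h1
      have := G4_none h2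
      omega
    · have := G2_none h1
      have := G4_none h2
      omega
    · have := G3_none h1
      have := G4_none h2
      omega
  rw [Set.ncard_union_eq d4 ((f1.union f2).union f3) f4, Set.ncard_union_eq d3 (f1.union f2) f3,
    Set.ncard_union_eq d12 f1 f2, ncard_G1, ncard_G2, ncard_G3, ncard_G4]

/-- A lattice vector of customary norm 6 is the sum of an unordered pair of minimal vectors in exactly 276 ways (552 ordered summands). -/
theorem result (u : ↥Cfsg.leechLattice) (hu : Cfsg.sqNorm (u : Cfsg.GolayPt → ℤ) = 48) : {v : ↥Cfsg.leechLattice | Cfsg.sqNorm (v : Cfsg.GolayPt → ℤ) = 32 ∧ Cfsg.sqNorm ((u - v) : Cfsg.GolayPt → ℤ) = 32}.ncard = 552 := by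
  obtain ⟨hx, g, hg, h3⟩ := connF_norm48 u.2 hu
  have hV0m : V0 ∈ leechLattice := by rw [← h3]; exact (g ⟨u.1, hx⟩).2
  have hgu : g u = ⟨V0, hV0m⟩ := Subtype.ext h3
  have hV0 : sqNorm V0 = 48 := by
    have := hg.2 u
    rw [hgu] at this
    rw [← hu, ← this]
  have key : ∀ (w : ↥leechLattice) (v : ↥leechLattice), sqNorm w.1 = 48 →
      ((sqNorm (v : GolayPt → ℤ) = 32 ∧ sqNorm ((w : GolayPt → ℤ) - (v : GolayPt → ℤ)) = 32) ↔
      (sqNorm v.1 = 32 ∧ dotInt w.1 v.1 = 24)) := by
    intro w v hw
    rw [sqNorm_sub, hw]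
    constructor
    · rintro ⟨h1, h2⟩
      exact ⟨h1, by rw [h1] at h2; linarith⟩
    · rintro ⟨h1, h2⟩
      exact ⟨h1, by rw [h1, h2]; norm_num⟩
  have e1 : {v : ↥Cfsg.leechLattice | Cfsg.sqNorm (v : Cfsg.GolayPt → ℤ) = 32 ∧
      Cfsg.sqNorm ((u : GolayPt → ℤ) - (v : Cfsg.GolayPt → ℤ)) = 32} =
      {v : ↥leechLattice | sqNorm v.1 = 32 ∧ dotInt u.1 v.1 = 24} := by
    ext v
    exact key u v hu
  rw [e1, ncard_co0 hg u 32 24, hgu]
  rw [ncard_subtype (fun x => sqNorm x = 32 ∧ dotInt V0 x = 24)]
  exact count_V0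

end Cfsg.Agent.S1578
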