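import Cfsg.Statements.S1579
import Mathlib
import Cfsg.Agent.Lib.Helper3.Co0PairNeg
-- import your own Cfsg.Agent.* helpers here

set_option autoImplicit false
open Cfsg

namespace Cfsg.Agent.S1579

/-- The stabiliser of a vector of customary norm 6 is transitive on the 552 minimal vectors that complete it to a sum of two minimal vectors. -/
theorem result (u v v' : ↥Cfsg.leechLattice) (hu : Cfsg.sqNorm (u : Cfsg.GolayPt → ℤ) = 48) (hv : Cfsg.sqNorm (v : Cfsg.GolayPt → ℤ) = 32 ∧ Cfsg.sqNorm ((u - v) : Cfsg.GolayPt → ℤ) = 32) (hv' : Cfsg.sqNorm (v' : Cfsg.GolayPt → ℤ) = 32 ∧ Cfsg.sqNorm ((u - v') : Cfsg.GolayPt → ℤ) = 32) : ∃ g : ↥Cfsg.Co0, g • u = u ∧ g • v = v' := by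
  have hdot : ∀ x : ↥Cfsg.leechLattice, Cfsg.sqNorm (x : Cfsg.GolayPt → ℤ) = 32 →
      Cfsg.sqNorm ((u - x : ↥Cfsg.leechLattice) : Cfsg.GolayPt → ℤ) = 32 →
      Cfsg.dotInt (x : Cfsg.GolayPt → ℤ) ((u - x : ↥Cfsg.leechLattice) : Cfsg.GolayPt → ℤ) = -8 := by
    intro x h1 h2
    have h3 := Cfsg.Agent.Lib.Helper3.sqNorm_add (x : Cfsg.GolayPt → ℤ)
      ((u - x : ↥Cfsg.leechLattice) : Cfsg.GolayPt → ℤ)
    have h4 : (x : Cfsg.GolayPt → ℤ) + ((u - x : ↥Cfsg.leechLattice) : Cfsg.GolayPt → ℤ) =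
        (u : Cfsg.GolayPt → ℤ) := by
      simp
    rw [h4, hu, h1, h2] at h3
    omega
  have h1 := Cfsg.Agent.Lib.Helper3.connP_m1 v.2 hv.1 (u - v).2 hv.2 (hdot v hv.1 hv.2)
  have h2 := Cfsg.Agent.Lib.Helper3.connP_m1 v'.2 hv'.1 (u - v').2 hv'.2 (hdot v' hv'.1 hv'.2)
  obtain ⟨g, hg1, hg2⟩ := (h1.trans h2.symm).exists_co0
  refine ⟨g, ?_, hg1⟩
  have h3 : u = v + (u - v) := by abel
  have h4 : g • (v + (u - v)) = g • v + g • (u - v) := g.2.1 v (u - v)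
  rw [h3, h4, hg1, hg2]
  abel

end Cfsg.Agent.S1579
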