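import Cfsg.Statements.S1580
import Mathlib
import Cfsg.Agent.Lib.Helper3.Co0McL
import Cfsg.Agent.S1578
-- import your own Cfsg.Agent.* helpers here

set_option autoImplicit false
open Cfsg

namespace Cfsg.Agent.S1580

open Cfsg.Agent.Lib.Helper3 Cfsg.Agent.S1578

theorem sv_apply (c : ℤ) (s T : Finset GolayPt) (i : GolayPt) :
    sv c s T i = if i ∈ T then -c else if i ∈ s then c else 0 := rfl

theorem ov_apply (C : Finset GolayPt) (j i : GolayPt) :
    ov C j i = if i = j then (if j ∈ C then -3 else 3) else if i ∈ C then 1 else -1 := rfl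

theorem hpq : (none : GolayPt) ≠ some 0 := by decide

def M1 : Set (GolayPt → ℤ) :=
  {x | ∃ j ∈ ((Finset.univ.erase (none : GolayPt)).erase (some 0)), x = sv 4 {none, j} {none, j}}
def M2 : Set (GolayPt → ℤ) :=
  {x | ∃ O ∈ octFin.filter (fun O => (none : GolayPt) ∈ O ∧ (some 0 : GolayPt) ∈ O), x = sv 2 O O}
def M3 : Set (GolayPt → ℤ) :=
  {x | ∃ O ∈ octFin.filter (fun O => (none : GolayPt) ∈ O ∧ (some 0 : GolayPt) ∉ O),
    x = ov O none}

theorem M1_sub {x : GolayPt → ℤ} (h : x ∈ M1) : x ∈ G1 := by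
  obtain ⟨j, hj, rfl⟩ := h
  exact ⟨j, (Finset.mem_erase.1 (Finset.mem_erase.1 hj).2).1, rfl⟩

theorem M2_sub {x : GolayPt → ℤ} (h : x ∈ M2) : x ∈ G2 := by
  obtain ⟨O, hO, rfl⟩ := h
  obtain ⟨h1, h2, h3⟩ := Finset.mem_filter.1 hO
  exact ⟨O, ⟨mem_octFin.1 h1, h2⟩, rfl⟩

theorem M3_sub {x : GolayPt → ℤ} (h : x ∈ M3) : x ∈ G3 := by
  obtain ⟨O, hO, rfl⟩ := h
  obtain ⟨h1, h2, h3⟩ := Finset.mem_filter.1 hO
  exact ⟨O, ⟨mem_octFin.1 h1, h2⟩, rfl⟩

theorem M1_zero {x : GolayPt → ℤ} (h : x ∈ M1) : x (some 0) = 0 := by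
  obtain ⟨j, hj, rfl⟩ := h
  have h1 := (Finset.mem_erase.1 hj).1
  have h2 : ¬ ((some 0 : GolayPt) = j) := fun h => h1 h.symm
  have h3 : (some 0 : GolayPt) ∉ ({none, j} : Finset GolayPt) := by
    simp [h2]
  rw [sv_apply, if_neg h3, if_neg h3]

theorem M2_zero {x : GolayPt → ℤ} (h : x ∈ M2) : x (some 0) = -2 := by
  obtain ⟨O, hO, rfl⟩ := h
  obtain ⟨h1, h2, h3⟩ := Finset.mem_filter.1 hO
  rw [sv_apply, if_pos h3]

theorem M3_zero {x : GolayPt → ℤ} (h : x ∈ M3) : x (some 0) = -1 := by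
  obtain ⟨O, hO, rfl⟩ := h
  obtain ⟨h1, h2, h3⟩ := Finset.mem_filter.1 hO
  rw [ov_apply, if_neg (by decide), if_neg h3]

theorem ncard_M1 : M1.ncard = 22 := by
  unfold M1
  rw [ncard_family]
  · rw [Finset.card_erase_of_mem, Finset.card_erase_of_mem (Finset.mem_univ _), Finset.card_univ,
      card_golayPt]
    exact Finset.mem_erase.2 ⟨by decide, Finset.mem_univ _⟩
  · intro j hj j' hj' h
    have hj1 : j ≠ none := (Finset.mem_erase.1 (Finset.mem_erase.1 hj).2).1
    have h1 := (sv_inj (by norm_num) (Finset.Subset.refl _) (Finset.Subset.refl _) h).1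
    have : j ∈ ({none, j'} : Finset GolayPt) := by rw [← h1]; simp
    rw [Finset.mem_insert, Finset.mem_singleton] at this
    rcases this with h2 | h2
    · exact absurd h2 hj1
    · exact h2

theorem ncard_M2 : M2.ncard = 77 := by
  unfold M2
  rw [ncard_family, card_octFin_mem2 (by decide)]
  intro O hO O' hO' h
  exact (sv_inj (by norm_num) (Finset.Subset.refl _) (Finset.Subset.refl _) h).1

theorem card_176 : (octFin.filter (fun O => (none : GolayPt) ∈ O ∧ (some 0 : GolayPt) ∉ O)).card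
    = 176 := by
  have h := Finset.card_filter_add_card_filter_not (s := octFin.filter ((none : GolayPt) ∈ ·))
    (fun O => (some 0 : GolayPt) ∈ O)
  rw [Finset.filter_filter, Finset.filter_filter, card_octFin_mem2 (by decide),
    card_octFin_mem] at h
  omega

theorem ncard_M3 : M3.ncard = 176 := by
  unfold M3
  rw [ncard_family, card_176]
  intro O hO O' hO' h
  exact (ov_inj h).1

theorem set_eq2 : {x : GolayPt → ℤ | x ∈ leechLattice ∧ (sqNorm x = 32 ∧ dotInt V0 x = 24 ∧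
    dotInt (-P44 none (some 0)) x = 16)} = M1 ∪ M2 ∪ M3 := by
  ext x
  constructor
  · rintro ⟨hx, hn, hd, he⟩
    rw [dotInt_neg_left, dot_P44 hpq] at he
    have hmem : x ∈ G1 ∪ G2 ∪ G3 ∪ G4 := by
      rw [← set_eq]; exact ⟨hx, hn, hd⟩
    rcases hmem with ((h | h) | h) | h
    · have hnone := G1_none h
      obtain ⟨j, hj, rfl⟩ := h
      beta_reduce at he hnone
      left; left
      refine ⟨j, Finset.mem_erase.2 ⟨?_, Finset.mem_erase.2 ⟨hj, Finset.mem_univ _⟩⟩, rfl⟩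
      intro hj0
      subst hj0
      have : sv 4 {none, some 0} {none, some 0} (some 0) = -4 := by
        rw [sv_apply, if_pos (by simp)]
      omega
    · have hnone := G2_none h
      obtain ⟨O, ⟨hO, hnO⟩, rfl⟩ := h
      beta_reduce at he hnone
      left; right
      refine ⟨O, Finset.mem_filter.2 ⟨mem_octFin.2 hO, hnO, ?_⟩, rfl⟩
      by_contra h0
      have : sv 2 O O (some 0) = 0 := by rw [sv_apply, if_neg h0, if_neg h0]
      omega
    · have hnone := G3_none h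
      obtain ⟨O, ⟨hO, hnO⟩, rfl⟩ := h
      beta_reduce at he hnone
      right
      refine ⟨O, Finset.mem_filter.2 ⟨mem_octFin.2 hO, hnO, ?_⟩, rfl⟩
      intro h0
      have : ov O none (some 0) = 1 := by rw [ov_apply, if_neg (by decide), if_pos h0]
      omega
    · exfalso
      have hnone := G4_none h
      obtain ⟨j, hj, rfl⟩ := h
      beta_reduce at he hnone
      rw [hnone, ov_apply] at he
      simp only [Finset.notMem_empty, if_false] at he
      split_ifs at he <;> omega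
  · intro h
    have hG : x ∈ G1 ∪ G2 ∪ G3 ∪ G4 := by
      rcases h with (h | h) | h
      · exact Or.inl (Or.inl (Or.inl (M1_sub h)))
      · exact Or.inl (Or.inl (Or.inr (M2_sub h)))
      · exact Or.inl (Or.inr (M3_sub h))
    have hG' := hG
    rw [← set_eq] at hG'
    obtain ⟨q1, q2, q3⟩ := hG'
    refine ⟨q1, q2, q3, ?_⟩
    rw [dotInt_neg_left, dot_P44 hpq]
    rcases h with (h | h) | h
    · rw [G1_none (M1_sub h), M1_zero h]; norm_num
    · rw [G2_none (M2_sub h), M2_zero h]; norm_num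
    · rw [G3_none (M3_sub h), M3_zero h]; norm_num

theorem count_std : {x : GolayPt → ℤ | x ∈ leechLattice ∧ (sqNorm x = 32 ∧ dotInt V0 x = 24 ∧
    dotInt (-P44 none (some 0)) x = 16)}.ncard = 275 := by
  rw [set_eq2]
  have f1 : M1.Finite := Set.finite_of_ncard_ne_zero (by rw [ncard_M1]; norm_num)
  have f2 : M2.Finite := Set.finite_of_ncard_ne_zero (by rw [ncard_M2]; norm_num)
  have f3 : M3.Finite := Set.finite_of_ncard_ne_zero (by rw [ncard_M3]; norm_num)
  have d12 : Disjoint M1 M2 := by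
    rw [Set.disjoint_left]
    intro x h1 h2
    have := G1_none (M1_sub h1)
    have := G2_none (M2_sub h2)
    omega
  have d3 : Disjoint (M1 ∪ M2) M3 := by
    rw [Set.disjoint_left]
    rintro x (h1 | h1) h2
    · have := G1_none (M1_sub h1)
      have := G3_none (M3_sub h2)
      omega
    · have := G2_none (M2_sub h1)
      have := G3_none (M3_sub h2)
      omega
  rw [Set.ncard_union_eq d3 (f1.union f2) f3, Set.ncard_union_eq d12 f1 f2, ncard_M1, ncard_M2,
    ncard_M3]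

/-- The McLaughlin configuration: for u of customary norm 6 and v minimal with u − v minimal, there are 275 further such summands x of customary inner product 2 with v, permuted transitively by the stabiliser of u and v. -/
theorem result (u v : ↥Cfsg.leechLattice) (hu : Cfsg.sqNorm (u : Cfsg.GolayPt → ℤ) = 48) (hv : Cfsg.sqNorm (v : Cfsg.GolayPt → ℤ) = 32 ∧ Cfsg.sqNorm ((u - v) : Cfsg.GolayPt → ℤ) = 32) : {x : ↥Cfsg.leechLattice | Cfsg.sqNorm (x : Cfsg.GolayPt → ℤ) = 32 ∧ Cfsg.sqNorm ((u - x) : Cfsg.GolayPt → ℤ) = 32 ∧ Cfsg.dotInt (v : Cfsg.GolayPt → ℤ) (x : Cfsg.GolayPt → ℤ) = 16}.ncard = 275 ∧ ∀ x ∈ {x : ↥Cfsg.leechLattice | Cfsg.sqNorm (x : Cfsg.GolayPt → ℤ) = 32 ∧ Cfsg.sqNorm ((u - x) : Cfsg.GolayPt → ℤ) = 32 ∧ Cfsg.dotInt (v : Cfsg.GolayPt → ℤ) (x : Cfsg.GolayPt → ℤ) = 16}, ∀ x' ∈ {x : ↥Cfsg.leechLattice | Cfsg.sqNorm (x : Cfsg.GolayPt → ℤ) = 32 ∧ Cfsg.sqNorm ((u - x) : Cfsg.GolayPt → ℤ) = 32 ∧ Cfsg.dotInt (v : Cfsg.GolayPt →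 ℤ) (x : Cfsg.GolayPt → ℤ) = 16}, ∃ g : ↥Cfsg.Co0, g • u = u ∧ g • v = v ∧ g • x = x' := by
  obtain ⟨hv1, hv2⟩ := hv
  have key : ∀ (z : ↥leechLattice), sqNorm (z : GolayPt → ℤ) = 32 →
      (sqNorm ((u : GolayPt → ℤ) - (z : GolayPt → ℤ)) = 32 ↔
        dotInt (u : GolayPt → ℤ) (z : GolayPt → ℤ) = 24) := by
    intro z hz
    rw [sqNorm_sub, hu, hz]
    constructor <;> intro h <;> linarith
  have huv : dotInt (u : GolayPt → ℤ) (v : GolayPt → ℤ) = 24 := (key v hv1).1 hv2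
  have hsub : ((u - v : ↥leechLattice) : GolayPt → ℤ) = (u : GolayPt → ℤ) - (v : GolayPt → ℤ) := rfl
  constructor
  · -- the standard frame
    have hF := connF_norm48 u.2 hu
    have hV0m : V0 ∈ leechLattice := hF.mem_right
    have hV0n : sqNorm V0 = 48 := by rw [hF.sqNorm_eq, hu]
    have hvF : -P44 none (some 0) ∈ leechLattice := leechLattice.neg_mem (P44_mem hpq)
    have hvFn : sqNorm (-P44 none (some 0)) = 32 := by rw [sqNorm_neg, sqNorm_P44 hpq]
    have hvFd : dotInt (-P44 none (some 0)) V0 = 24 := by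
      rw [dotInt_neg_left, dot_P44 hpq]
      unfold V0; simp
    have hwF : V0 - -P44 none (some 0) ∈ leechLattice := leechLattice.sub_mem hV0m hvF
    have hwFn : sqNorm (V0 - -P44 none (some 0)) = 32 := by
      rw [sqNorm_sub, hV0n, hvFn, dotInt_comm, hvFd]; norm_num
    have c1 := connP_m1 v.2 hv1 (u - v).2 (by rw [hsub]; exact hv2)
      (by rw [hsub, dotInt_sub_right, dotInt_self, hv1, dotInt_comm, huv]; norm_num)
    have c2 := connP_m1 hvF hvFn hwF hwFn
      (by rw [dotInt_sub_right, dotInt_self, hvFn, hvFd]; norm_num)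
    obtain ⟨h1, h2, g, hg, e1, e2⟩ := c1.trans c2.symm
    have e1' : (g v).1 = -P44 none (some 0) := e1
    have e2' : (g (u - v)).1 = V0 - -P44 none (some 0) := e2
    have e3 : (g u).1 = V0 := by
      have h3 : u = (u - v) + v := by abel
      have h4 : (g u).1 = (g (u - v)).1 + (g v).1 := by
        conv_lhs => rw [h3]
        rw [hg.1]; rfl
      rw [h4, e1', e2']; abel
    have e0 : {x : ↥Cfsg.leechLattice | Cfsg.sqNorm (x : Cfsg.GolayPt → ℤ) = 32 ∧
        Cfsg.sqNorm ((u : GolayPt → ℤ) - (x : Cfsg.GolayPt → ℤ)) = 32 ∧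
        Cfsg.dotInt (v : Cfsg.GolayPt → ℤ) (x : Cfsg.GolayPt → ℤ) = 16} =
        {x : ↥leechLattice | sqNorm x.1 = 32 ∧ dotInt u.1 x.1 = 24 ∧ dotInt v.1 x.1 = 16} := by
      ext z
      constructor
      · rintro ⟨a1, a2, a3⟩
        exact ⟨a1, (key z a1).1 a2, a3⟩
      · rintro ⟨a1, a2, a3⟩
        exact ⟨a1, (key z a1).2 a2, a3⟩
    rw [e0, ncard_co0_2 hg u v 32 24 16, e3, e1']
    rw [ncard_subtype (fun x => sqNorm x = 32 ∧ dotInt V0 x = 24 ∧
      dotInt (-P44 none (some 0)) x = 16)]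
    exact count_std
  · rintro x ⟨hx1, hx2, hx3⟩ x' ⟨hx1', hx2', hx3'⟩
    have hux := (key x hx1).1 hx2
    have hux' := (key x' hx1').1 hx2'
    have t1 := connT_mcl v.2 hv1 x.2 hx1 u.2 hu hx3 (by rw [dotInt_comm]; exact huv)
      (by rw [dotInt_comm]; exact hux)
    have t2 := connT_mcl v.2 hv1 x'.2 hx1' u.2 hu hx3' (by rw [dotInt_comm]; exact huv)
      (by rw [dotInt_comm]; exact hux')
    obtain ⟨g, hg1, hg2, hg3⟩ := (t1.trans t2.symm).exists_co0
    exact ⟨g, hg3, hg1, hg2⟩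

end Cfsg.Agent.S1580
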