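import Cfsg.Statements.S1640
import Mathlib
import Cfsg.Agent.Lib.Helper3.Co0Count2
import Cfsg.Agent.Lib.Helper3.Co0PairK2
-- import your own Cfsg.Agent.* helpers here

set_option autoImplicit false
open Cfsg

namespace Cfsg.Agent.S1640

open Cfsg.Agent.Lib.Helper3

def H1 : Set (GolayPt → ℤ) := {x | ∃ j ∈ (Finset.univ.erase (none : GolayPt)), x = sv 4 {none, j} {j}}
def H2 : Set (GolayPt → ℤ) :=
  {x | ∃ p ∈ (octFin.filter (none ∈ ·)).sigma (fun O => (O.erase none).powersetCard 2),
    x = (fun p : (Σ _ : Finset GolayPt, Finset GolayPt) => sv 2 p.1 p.2) p}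
def H3 : Set (GolayPt → ℤ) := {x | ∃ O ∈ octFin.filter (none ∉ ·), x = sv 2 O ∅}
def H4 : Set (GolayPt → ℤ) := {x | ∃ C ∈ dodFin.filter (none ∉ ·), x = ov C none}
def H5 : Set (GolayPt → ℤ) :=
  {x | ∃ p ∈ (sixtFin.filter (none ∈ ·)).sigma (fun C => Cᶜ),
    x = (fun p : (Σ _ : Finset GolayPt, GolayPt) => ov p.1 p.2) p}

theorem H1_none {x : GolayPt → ℤ} (h : x ∈ H1) : x none = 4 := by
  obtain ⟨j, hj, rfl⟩ := h
  have hj' : ¬ (none = j) := fun h => (Finset.mem_erase.1 hj).1 h.symm
  simp [sv_none, hj']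

theorem H2_none {x : GolayPt → ℤ} (h : x ∈ H2) : x none = 2 := by
  obtain ⟨⟨O, T⟩, hp, rfl⟩ := h
  obtain ⟨h1, h2⟩ := Finset.mem_sigma.1 hp
  obtain ⟨h3, h4⟩ := Finset.mem_powersetCard.1 h2
  have hn : none ∈ O := (Finset.mem_filter.1 h1).2
  have hT : none ∉ T := fun h => (Finset.mem_erase.1 (h3 h)).1 rfl
  simp [sv_none, hn, hT]

theorem H3_none {x : GolayPt → ℤ} (h : x ∈ H3) : x none = 0 := by
  obtain ⟨O, hO, rfl⟩ := h
  have hn : none ∉ O := (Finset.mem_filter.1 hO).2
  simp [sv_none, hn]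

theorem H4_none {x : GolayPt → ℤ} (h : x ∈ H4) : x none = 3 := by
  obtain ⟨C, hC, rfl⟩ := h
  have hn : none ∉ C := (Finset.mem_filter.1 hC).2
  simp [ov_none, hn]

theorem H5_none {x : GolayPt → ℤ} (h : x ∈ H5) : x none = 1 := by
  obtain ⟨⟨C, j⟩, hp, rfl⟩ := h
  obtain ⟨h1, h2⟩ := Finset.mem_sigma.1 hp
  have hn : none ∈ C := (Finset.mem_filter.1 h1).2
  have hj : j ∉ C := Finset.mem_compl.1 h2
  have hj' : ¬ (none = j) := fun h => hj (h ▸ hn)
  simp [ov_none, hn, hj']

theorem ncard_H1 : H1.ncard = 23 := by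
  unfold H1
  rw [ncard_family]
  · rw [Finset.card_erase_of_mem (Finset.mem_univ _), Finset.card_univ, card_golayPt]
  · intro j hj j' hj' h
    have hj1 : j ≠ none := (Finset.mem_erase.1 hj).1
    have hj2 : j' ≠ none := (Finset.mem_erase.1 hj').1
    have h1 := (sv_inj (by norm_num) (by simp) (by simp) h).2
    exact Finset.singleton_injective h1

theorem ncard_H2 : H2.ncard = 5313 := by
  unfold H2
  rw [ncard_family]
  · rw [Finset.card_sigma, Finset.sum_congr rfl (g := fun _ => 21)]
    · rw [Finset.sum_const, smul_eq_mul, card_octFin_mem]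
    · intro O hO
      obtain ⟨h1, h2⟩ := Finset.mem_filter.1 hO
      rw [Finset.card_powersetCard, Finset.card_erase_of_mem h2, (mem_octFin.1 h1).2]
      decide
  · rintro ⟨O, T⟩ hp ⟨O', T'⟩ hp' h
    obtain ⟨h1, h2⟩ := Finset.mem_sigma.1 hp
    obtain ⟨h3, h4⟩ := Finset.mem_powersetCard.1 h2
    obtain ⟨h1', h2'⟩ := Finset.mem_sigma.1 hp'
    obtain ⟨h3', h4'⟩ := Finset.mem_powersetCard.1 h2'
    obtain ⟨e1, e2⟩ := sv_inj (by norm_num) (h3.trans (Finset.erase_subset _ _))
      (h3'.trans (Finset.erase_subset _ _)) h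
    subst e1; subst e2; rfl

theorem ncard_H3 : H3.ncard = 506 := by
  unfold H3
  rw [ncard_family, card_octFin_notMem]
  intro O hO O' hO' h
  exact (sv_inj (by norm_num) (Finset.empty_subset _) (Finset.empty_subset _) h).1

theorem ncard_H4 : H4.ncard = 1288 := by
  unfold H4
  rw [ncard_family, card_dodFin_notMem]
  intro O hO O' hO' h
  exact (ov_inj h).1

theorem ncard_H5 : H5.ncard = 4048 := by
  unfold H5
  rw [ncard_family]
  · rw [Finset.card_sigma, Finset.sum_congr rfl (g := fun _ => 8)]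
    · rw [Finset.sum_const, smul_eq_mul, card_sixtFin_mem]
    · intro C hC
      obtain ⟨h1, h2⟩ := Finset.mem_filter.1 hC
      rw [Finset.card_compl, (mem_sixtFin.1 h1).2, card_golayPt]
  · rintro ⟨C, j⟩ hp ⟨C', j'⟩ hp' h
    obtain ⟨e1, e2⟩ := ov_inj h
    subst e1; subst e2; rfl

theorem set_eq : {x : GolayPt → ℤ | x ∈ leechLattice ∧ (sqNorm x = 32 ∧ dotInt V0 x = -16)} =
    H1 ∪ H2 ∪ H3 ∪ H4 ∪ H5 := by
  ext x
  constructor
  · rintro ⟨hx, hn, hd⟩
    rw [dot_V0] at hd
    rcases (leech_minimal_iff x).1 ⟨hx, hn⟩ with ⟨s, T, hs, hT, rfl⟩ | ⟨s, T, hs, hT, hev, rfl⟩ |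
      ⟨C, j, hC, rfl⟩
    · rw [sum_sv 4 hT, sv_none, hs] at hd
      have hle := Finset.card_le_card hT
      rw [hs] at hle
      by_cases h1 : none ∈ T
      · rw [if_pos h1] at hd; omega
      · rw [if_neg h1] at hd
        by_cases h2 : none ∈ s
        · rw [if_pos h2] at hd
          have hT1 : T.card = 1 := by omega
          obtain ⟨t, rfl⟩ := Finset.card_eq_one.1 hT1
          have htn : t ≠ none := fun h => h1 (by rw [h]; simp)
          have hts : t ∈ s := hT (Finset.mem_singleton_self t)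
          have hs' : s = {none, t} := by
            symm
            apply Finset.eq_of_subset_of_card_le
            · intro i hi
              rw [Finset.mem_insert, Finset.mem_singleton] at hi
              rcases hi with hi | hi
              · rw [hi]; exact h2
              · rw [hi]; exact hts
            · rw [hs, Finset.card_pair (fun h => htn h.symm)]
          left; left; left; left
          exact ⟨t, Finset.mem_erase.2 ⟨htn, Finset.mem_univ _⟩, by rw [hs']⟩
        · rw [if_neg h2] at hd; omega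
    · rw [sum_sv 2 hT, sv_none, hs.2] at hd
      have hle := Finset.card_le_card hT
      rw [hs.2] at hle
      by_cases h1 : none ∈ T
      · rw [if_pos h1] at hd; omega
      · rw [if_neg h1] at hd
        by_cases h2 : none ∈ s
        · rw [if_pos h2] at hd
          left; left; left; right
          refine ⟨⟨s, T⟩, Finset.mem_sigma.2 ⟨Finset.mem_filter.2 ⟨mem_octFin.2 hs, h2⟩,
            Finset.mem_powersetCard.2 ⟨?_, (by omega : T.card = 2)⟩⟩, rfl⟩
          intro i hi
          exact Finset.mem_erase.2 ⟨fun h => h1 (h ▸ hi), hT hi⟩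
        · rw [if_neg h2] at hd
          have h0 : T = ∅ := Finset.card_eq_zero.1 (by omega)
          subst h0
          left; left; right
          exact ⟨s, Finset.mem_filter.2 ⟨mem_octFin.2 hs, h2⟩, rfl⟩
    · rw [sum_ov, ov_none] at hd
      have hcases := supports_card_cases hC
      by_cases hj : none = j
      · subst hj
        rw [if_pos rfl] at hd
        by_cases h2 : none ∈ C
        · rw [if_pos h2, if_pos h2] at hd; omega
        · rw [if_neg h2, if_neg h2] at hd
          left; right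
          exact ⟨C, Finset.mem_filter.2 ⟨mem_dodFin.2 ⟨hC, by omega⟩, h2⟩, rfl⟩
      · rw [if_neg hj] at hd
        by_cases h2 : none ∈ C
        · rw [if_pos h2] at hd
          by_cases h3 : j ∈ C
          · rw [if_pos h3] at hd; omega
          · rw [if_neg h3] at hd
            right
            exact ⟨⟨C, j⟩, Finset.mem_sigma.2 ⟨Finset.mem_filter.2
              ⟨mem_sixtFin.2 ⟨hC, (by omega : C.card = 16)⟩, h2⟩, Finset.mem_compl.2 h3⟩, rfl⟩
        · rw [if_neg h2] at hd
          have := card_le_23 h2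
          by_cases h3 : j ∈ C
          · rw [if_pos h3] at hd; omega
          · rw [if_neg h3] at hd; omega
  · rintro ((((h | h) | h) | h) | h)
    · have hnone := H1_none h
      obtain ⟨j, hj, rfl⟩ := h
      have hj1 : j ≠ none := (Finset.mem_erase.1 hj).1
      have hcard : ({none, j} : Finset GolayPt).card = 2 := Finset.card_pair (fun h => hj1 h.symm)
      have hsub : ({j} : Finset GolayPt) ⊆ {none, j} := by simp
      have := (leech_minimal_iff (sv 4 {none, j} {j})).2
        (Or.inl ⟨_, _, hcard, hsub, rfl⟩)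
      refine ⟨this.1, this.2, ?_⟩
      rw [dot_V0, hnone, sum_sv 4 hsub, hcard, Finset.card_singleton]
      norm_num
    · have hnone := H2_none h
      obtain ⟨⟨O, T⟩, hp, rfl⟩ := h
      obtain ⟨h1, h2⟩ := Finset.mem_sigma.1 hp
      obtain ⟨h3, h4⟩ := Finset.mem_powersetCard.1 h2
      obtain ⟨h5, h6⟩ := Finset.mem_filter.1 h1
      have hO := mem_octFin.1 h5
      have hsub : T ⊆ O := h3.trans (Finset.erase_subset _ _)
      have := (leech_minimal_iff (sv 2 O T)).2
        (Or.inr (Or.inl ⟨_, _, hO, hsub, by rw [h4]; decide, rfl⟩))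
      refine ⟨this.1, this.2, ?_⟩
      rw [dot_V0, hnone]
      beta_reduce
      rw [sum_sv 2 hsub, hO.2, h4]
      norm_num
    · have hnone := H3_none h
      obtain ⟨O, hO', rfl⟩ := h
      obtain ⟨h5, h6⟩ := Finset.mem_filter.1 hO'
      have hO := mem_octFin.1 h5
      have := (leech_minimal_iff (sv 2 O ∅)).2
        (Or.inr (Or.inl ⟨_, _, hO, Finset.empty_subset _, by simp, rfl⟩))
      refine ⟨this.1, this.2, ?_⟩
      rw [dot_V0, hnone, sum_sv 2 (Finset.empty_subset _), hO.2, Finset.card_empty]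
      norm_num
    · have hnone := H4_none h
      obtain ⟨C, hC', rfl⟩ := h
      obtain ⟨h5, h6⟩ := Finset.mem_filter.1 hC'
      have hC := mem_dodFin.1 h5
      have := (leech_minimal_iff (ov C none)).2
        (Or.inr (Or.inr ⟨_, _, hC.1, rfl⟩))
      refine ⟨this.1, this.2, ?_⟩
      rw [dot_V0, hnone, sum_ov, hC.2, if_neg h6]
      norm_num
    · have hnone := H5_none h
      obtain ⟨⟨C, j⟩, hp, rfl⟩ := h
      obtain ⟨h1, h2⟩ := Finset.mem_sigma.1 hp
      obtain ⟨h5, h6⟩ := Finset.mem_filter.1 h1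
      have hC := mem_sixtFin.1 h5
      have hj : j ∉ C := Finset.mem_compl.1 h2
      have := (leech_minimal_iff (ov C j)).2
        (Or.inr (Or.inr ⟨_, _, hC.1, rfl⟩))
      refine ⟨this.1, this.2, ?_⟩
      rw [dot_V0, hnone]
      beta_reduce
      rw [sum_ov, hC.2, if_neg hj]
      norm_num

theorem count_V0 : {x : GolayPt → ℤ | x ∈ leechLattice ∧ (sqNorm x = 32 ∧ dotInt V0 x = -16)}.ncard
    = 11178 := by
  rw [set_eq]
  have f1 : H1.Finite := Set.finite_of_ncard_ne_zero (by rw [ncard_H1]; norm_num)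
  have f2 : H2.Finite := Set.finite_of_ncard_ne_zero (by rw [ncard_H2]; norm_num)
  have f3 : H3.Finite := Set.finite_of_ncard_ne_zero (by rw [ncard_H3]; norm_num)
  have f4 : H4.Finite := Set.finite_of_ncard_ne_zero (by rw [ncard_H4]; norm_num)
  have f5 : H5.Finite := Set.finite_of_ncard_ne_zero (by rw [ncard_H5]; norm_num)
  have d12 : Disjoint H1 H2 := by
    rw [Set.disjoint_left]
    intro x h1 h2
    have := H1_none h1
    have := H2_none h2
    omega
  have d3 : Disjoint (H1 ∪ H2) H3 := by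
    rw [Set.disjoint_left]
    rintro x (h1 | h1) h2
    · have := H1_none h1
      have := H3_none h2
      omega
    · have := H2_none h1
      have := H3_none h2
      omega
  have d4 : Disjoint (H1 ∪ H2 ∪ H3) H4 := by
    rw [Set.disjoint_left]
    rintro x ((h1 | h1) | h1) h2
    · have := H1_none h1
      have := H4_none h2
      omega
    · have := H2_none h1
      have := H4_none h2
      omega
    · have := H3_none h1
      have := H4_none h2
      omega
  have d5 : Disjoint (H1 ∪ H2 ∪ H3 ∪ H4) H5 := by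
    rw [Set.disjoint_left]
    rintro x (((h1 | h1) | h1) | h1) h2
    · have := H1_none h1
      have := H5_none h2
      omega
    · have := H2_none h1
      have := H5_none h2
      omega
    · have := H3_none h1
      have := H5_none h2
      omega
    · have := H4_none h1
      have := H5_none h2
      omega
  rw [Set.ncard_union_eq d5 (((f1.union f2).union f3).union f4) f5,
    Set.ncard_union_eq d4 ((f1.union f2).union f3) f4, Set.ncard_union_eq d3 (f1.union f2) f3,
    Set.ncard_union_eq d12 f1 f2, ncard_H1, ncard_H2, ncard_H3, ncard_H4, ncard_H5]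

/-- The stabiliser of a vector of customary norm 6 is transitive on the 11178 minimal vectors of customary inner product −2 with it. -/
theorem result (u : ↥Cfsg.leechLattice) (hu : Cfsg.sqNorm (u : Cfsg.GolayPt → ℤ) = 48) : {x : ↥Cfsg.leechLattice | Cfsg.sqNorm (x : Cfsg.GolayPt → ℤ) = 32 ∧ Cfsg.dotInt (u : Cfsg.GolayPt → ℤ) (x : Cfsg.GolayPt → ℤ) = -16}.ncard = 11178 ∧ ∀ x ∈ {x : ↥Cfsg.leechLattice | Cfsg.sqNorm (x : Cfsg.GolayPt → ℤ) = 32 ∧ Cfsg.dotInt (u : Cfsg.GolayPt → ℤ) (x : Cfsg.GolayPt → ℤ) = -16}, ∀ x' ∈ {x : ↥Cfsg.leechLattice | Cfsg.sqNorm (x : Cfsg.GolayPt → ℤ) = 32 ∧ Cfsg.dotInt (u : Cfsg.GolayPt → ℤ) (x : Cfsg.GolayPt → ℤ) = -16}, ∃ g : ↥Cfsg.Co0, g • u = u ∧ g • x = x' := by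
  constructor
  · obtain ⟨hx, g, hg, h3⟩ := connF_norm48 u.2 hu
    have hV0m : V0 ∈ leechLattice := by rw [← h3]; exact (g ⟨u.1, hx⟩).2
    have hgu : g u = ⟨V0, hV0m⟩ := Subtype.ext h3
    rw [ncard_co0 hg u 32 (-16), hgu]
    rw [ncard_subtype (fun x => sqNorm x = 32 ∧ dotInt V0 x = -16)]
    exact count_V0
  · rintro x ⟨hx1, hx2⟩ x' ⟨hx1', hx2'⟩
    have e1 : ((-x : ↥leechLattice) : GolayPt → ℤ) = -(x : GolayPt → ℤ) := rfl
    have e1' : ((-x' : ↥leechLattice) : GolayPt → ℤ) = -(x' : GolayPt → ℤ) := rfl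
    have h1 := connP_k2 (-x).2 (by rw [e1, sqNorm_neg]; exact hx1) u.2 hu
      (by rw [e1, dotInt_neg_left, dotInt_comm, hx2]; norm_num)
    have h2 := connP_k2 (-x').2 (by rw [e1', sqNorm_neg]; exact hx1') u.2 hu
      (by rw [e1', dotInt_neg_left, dotInt_comm, hx2']; norm_num)
    obtain ⟨g, hg1, hg2⟩ := (h1.trans h2.symm).exists_co0
    refine ⟨g, hg2, ?_⟩
    rw [co0_neg] at hg1
    exact neg_injective hg1

end Cfsg.Agent.S1640
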