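import Cfsg.Statements.S5427
import Cfsg.Agent.S1265
import Cfsg.Agent.Lib.Helper20.SympType3
import Cfsg.Agent.Lib.Helper16.PCore
import Cfsg.Agent.Lib.Helper11.PGroupFrattini
import Cfsg.Agent.Lib.Helper3.ExtraspecialInv

set_option autoImplicit false
set_option maxHeartbeats 1000000
open Cfsg
open scoped commutatorElement

namespace Cfsg.Agent.S5427

/-- an involution acting fixed-point-freely on a finite subgroup it normalizes inverts it -/
theorem fpf_inverts_sub {G : Type*} [Group G] [Finite G] (N : Subgroup G) (z : G)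
    (hzz : z * z = 1) (hnorm : ∀ n ∈ N, z * n * z⁻¹ ∈ N) (hfix : ∀ n ∈ N, z * n = n * z → n = 1) :
    ∀ n ∈ N, z * n * z⁻¹ = n⁻¹ := by
  have hzi : z⁻¹ = z := inv_eq_of_mul_eq_one_left hzz
  let f : N → N := fun n => ⟨(n : G)⁻¹ * (z * n * z⁻¹), N.mul_mem (N.inv_mem n.2) (hnorm _ n.2)⟩
  have hinj : Function.Injective f := by
    intro n m h
    have h' : (n : G)⁻¹ * (z * n * z⁻¹) = (m : G)⁻¹ * (z * m * z⁻¹) := congrArg Subtype.val h
    have h2 : z * ((m : G) * (n : G)⁻¹) = ((m : G) * (n : G)⁻¹) * z := by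
      have e1 : (m : G) * ((n : G)⁻¹ * (z * n * z⁻¹)) * z = (m : G) * ((m : G)⁻¹ * (z * m * z⁻¹)) * z := by
        rw [h']
      have e2 : (m : G) * (n : G)⁻¹ * z * n = z * m := by
        calc (m : G) * (n : G)⁻¹ * z * n = (m : G) * ((n : G)⁻¹ * (z * n * z⁻¹)) * z := by group
          _ = (m : G) * ((m : G)⁻¹ * (z * m * z⁻¹)) * z := e1
          _ = z * m := by group
      calc z * ((m : G) * (n : G)⁻¹) = (z * m) * (n : G)⁻¹ := by group
        _ = ((m : G) * (n : G)⁻¹ * z * n) * (n : G)⁻¹ := by rw [e2]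
        _ = ((m : G) * (n : G)⁻¹) * z := by group
    have h3 := hfix _ (N.mul_mem m.2 (N.inv_mem n.2)) h2
    have : (m : G) = n := by
      have := mul_inv_eq_one.mp h3
      exact this
    exact (Subtype.ext this).symm
  have hsurj : Function.Surjective f := Finite.injective_iff_surjective.mp hinj
  intro n hn
  obtain ⟨k, hk⟩ := hsurj ⟨n, hn⟩
  have hk' : (k : G)⁻¹ * (z * k * z⁻¹) = n := congrArg Subtype.val hk
  rw [← hk', hzi]
  have : z * ((k : G)⁻¹ * (z * k * z)) * z = z * (k : G)⁻¹ * z * k * (z * z) := by group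
  rw [this, hzz, mul_one]
  have : ((k : G)⁻¹ * (z * k * z))⁻¹ = z⁻¹ * (k : G)⁻¹ * z⁻¹ * k := by group
  rw [this, hzi]

/-- Let z be an involution of the finite group G whose centralizer C has generalized Fitting subgroup Q, an extraspecial 2-group of width at least 2 (order 2^(2w+1), w ≥ 2). Let K be a subgroup of G such that the subgroup U generated by the K-conjugates of z is abelian and C is generated by the C-conjugates of U. Suppose that either some K-conjugate of z other than z lies in Q, or some element u of U ∩ Q outside the subgroup generated by z has z in the largest normal 2-subgroup of its centralizer. Then G is simple and Q is a large extraspecial 2-subgroup of G. -/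
theorem result {G : Type*} [Group G] [Finite G] (z : G) (hz : orderOf z = 2) (Q : Subgroup G) (hQC : Q ≤ Subgroup.centralizer ({z} : Set G)) (hF : (Cfsg.generalizedFittingSubgroup ↥(Subgroup.centralizer ({z} : Set G))).map (Subgroup.centralizer ({z} : Set G)).subtype = Q) (hQ : Cfsg.IsExtraspecial 2 ↥Q) (w : ℕ) (hw : 2 ≤ w) (hcard : Nat.card ↥Q = 2 ^ (2 * w + 1)) (K U : Subgroup G) (hU : U = Subgroup.closure {x : G | ∃ k ∈ K, x = k * z * k⁻¹}) (hUab : IsMulCommutative ↥U) (hgen : Subgroup.closure {x : G | ∃ c ∈ Subgroup.centralizer ({z} : Set G), ∃ u ∈ U, x = c * u * c⁻¹} = Subgroup.centralizer ({z} : Set G)) (h3 : (∃ k ∈ K, k * z * k⁻¹ ∈ Q ∧ k * z * k⁻¹ ≠ z) ∨ ∃ u ∈ U ⊓ Q, u ∉ Subgroup.zpowers z ∧ (∃ hz' : z ∈ Subgroup.centralizer ({u} : Set G), (⟨z, hz'⟩ : ↥(Subgroup.centralizer ({u} : Set G))) ∈ Cfsg.pCore 2 ↥(Subgroup.centralizer ({u} : Set G)))) : IsSimpleGroup G ∧ Cfsg.IsLargeExtraspecial Q := by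
  classical
  haveI : Fact (Nat.Prime 2) := ⟨Nat.prime_two⟩
  have hz1 : z ≠ 1 := by
    rintro rfl
    simp at hz
  have hzz : z * z = 1 := by rw [← pow_two, ← hz, pow_orderOf_eq_one]
  have hzi : z⁻¹ = z := inv_eq_of_mul_eq_one_left hzz
  have hmemH : ∀ h : G, h ∈ Subgroup.centralizer ({z} : Set G) ↔ z * h = h * z := by
    intro h
    rw [Subgroup.mem_centralizer_singleton_iff]
    exact eq_comm
  have hzH : z ∈ Subgroup.centralizer ({z} : Set G) := (hmemH z).mpr rfl
  have hQ2 : IsPGroup 2 ↥Q := hQ.1.1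
  -- N1 : C(z) normalizes Q
  have hFn := Cfsg.Agent.Lib.Helper9.generalizedFittingSubgroup_normal
    ↥(Subgroup.centralizer ({z} : Set G))
  have hN1 : ∀ c : G, z * c = c * z → ∀ q ∈ Q, c * q * c⁻¹ ∈ Q := by
    intro c hc q hq
    rw [← hF] at hq ⊢
    obtain ⟨q', hq', rfl⟩ := Subgroup.mem_map.mp hq
    refine Subgroup.mem_map.mpr ⟨⟨c, (hmemH c).mpr hc⟩ * q' * (⟨c, (hmemH c).mpr hc⟩)⁻¹,
      hFn.conj_mem _ hq' _, ?_⟩
    simp
  -- N2 : C_{C(z)}(Q) ≤ Q
  have hCF := Cfsg.Agent.S1265.result (G := ↥(Subgroup.centralizer ({z} : Set G)))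
  have hN2 : ∀ c : G, z * c = c * z → (∀ q ∈ Q, c * q = q * c) → c ∈ Q := by
    intro c hc hcq
    rw [← hF]
    refine Subgroup.mem_map.mpr ⟨⟨c, (hmemH c).mpr hc⟩, hCF ?_, rfl⟩
    rw [Subgroup.mem_centralizer_iff]
    intro f hf
    apply Subtype.ext
    have hfQ : (f : G) ∈ Q := by rw [← hF]; exact Subgroup.mem_map.mpr ⟨f, hf, rfl⟩
    exact (hcq f hfQ).symm
  have hzQ : z ∈ Q := hN2 z rfl (fun q hq => (hmemH q).mp (hQC hq))
  have hcardc : Nat.card (Subgroup.center ↥Q) = 2 := hQ.2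
  have hcenQ : ∀ x ∈ Q, (∀ q ∈ Q, x * q = q * x) → x = 1 ∨ x = z := by
    intro x hx hxq
    have hxc : (⟨x, hx⟩ : ↥Q) ∈ Subgroup.center ↥Q := by
      rw [Subgroup.mem_center_iff]; intro q; apply Subtype.ext; exact (hxq q q.2).symm
    have hzc : (⟨z, hzQ⟩ : ↥Q) ∈ Subgroup.center ↥Q := by
      rw [Subgroup.mem_center_iff]; intro q; apply Subtype.ext
      exact ((hmemH q).mp (hQC q.2)).symm
    obtain ⟨y, _, hy⟩ := (Nat.card_eq_two_iff' (1 : Subgroup.center ↥Q)).mp hcardc
    by_cases h1 : x = 1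
    · exact Or.inl h1
    · right
      have e1 : (⟨⟨x, hx⟩, hxc⟩ : Subgroup.center ↥Q) = y :=
        hy _ (fun e => h1 (congrArg (fun t : Subgroup.center ↥Q => ((t : ↥Q) : G)) e))
      have e2 : (⟨⟨z, hzQ⟩, hzc⟩ : Subgroup.center ↥Q) = y :=
        hy _ (fun e => hz1 (congrArg (fun t : Subgroup.center ↥Q => ((t : ↥Q) : G)) e))
      exact congrArg (fun t : Subgroup.center ↥Q => ((t : ↥Q) : G)) (e1.trans e2.symm)
  have hCGQ : ∀ x : G, (∀ q ∈ Q, x * q = q * x) → x = 1 ∨ x = z := by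
    intro x hxq
    have hxz : z * x = x * z := (hxq z hzQ).symm
    exact hcenQ x (hN2 x hxz hxq) hxq
  have hcommQ : ∀ a ∈ Q, ∀ b ∈ Q, ⁅a, b⁆ = 1 ∨ ⁅a, b⁆ = z := by
    intro a ha b hb
    have hmem : ⁅(⟨a, ha⟩ : ↥Q), ⟨b, hb⟩⁆ ∈ commutator ↥Q :=
      Subgroup.commutator_mem_commutator (Subgroup.mem_top _) (Subgroup.mem_top _)
    rw [hQ.1.2.2] at hmem
    have hc : ⁅a, b⁆ ∈ Q := by
      rw [commutatorElement_def]
      exact Q.mul_mem (Q.mul_mem (Q.mul_mem ha hb) (Q.inv_mem ha)) (Q.inv_mem hb)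
    apply hcenQ _ hc
    intro q hq
    have h1 := Subgroup.mem_center_iff.mp hmem ⟨q, hq⟩
    have h2 : q * ⁅a, b⁆ = ⁅a, b⁆ * q := congrArg Subtype.val h1
    exact h2.symm
  have hsqQ : ∀ a ∈ Q, a * a = 1 ∨ a * a = z := by
    intro a ha
    have hmem := Cfsg.Agent.Lib.Helper11.pow_mem_frattini_of_isPGroup hQ2 (⟨a, ha⟩ : ↥Q)
    rw [hQ.1.2.1] at hmem
    have hc : a * a ∈ Q := Q.mul_mem ha ha
    apply hcenQ _ hc
    intro q hq
    have h1 := Subgroup.mem_center_iff.mp hmem ⟨q, hq⟩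
    have h2 : q * (a ^ 2) = (a ^ 2) * q := congrArg Subtype.val h1
    rw [pow_two] at h2
    exact h2.symm
  have hP : Cfsg.Agent.Lib.Helper20.SympPair z Q :=
    { z2 := hzz, z1 := hz1, le := fun q hq => (hmemH q).mp (hQC hq), normal := hN1, self := hN2,
      zmem := hzQ, comm := hcommQ, sq := hsqQ, cen := fun x hx hxq _ => hcenQ x hx hxq,
      pgroup := hQ2 }
  -- a Q-invariant subgroup meeting Q nontrivially contains z
  have hNC : ∀ W : Subgroup G, (∀ q ∈ Q, ∀ w ∈ W, q * w * q⁻¹ ∈ W) →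
      ∀ w ∈ W, w ∈ Q → w ≠ 1 → z ∈ W := by
    intro W hW w hwW hwQ hw1
    by_cases hcen : ∀ q ∈ Q, w * q = q * w
    · rcases hcenQ w hwQ hcen with h | h
      · exact absurd h hw1
      · exact h ▸ hwW
    · push_neg at hcen
      obtain ⟨q, hq, hqw⟩ := hcen
      have hc : ⁅q, w⁆ ∈ W := by
        rw [commutatorElement_def]
        exact W.mul_mem (hW q hq w hwW) (W.inv_mem hwW)
      rcases hcommQ q hq w hwQ with h | h
      · exfalso; apply hqw
        exact (commutatorElement_eq_one_iff_mul_comm.mp h).symm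
      · exact h ▸ hc
  -- the pair (u, R)
  obtain ⟨u, R, huU, huQ, hu1, huz, hR2, hRn, hzR⟩ : ∃ (u : G) (R : Subgroup G), u ∈ U ∧ u ∈ Q ∧
      u ≠ 1 ∧ u ≠ z ∧ IsPGroup 2 ↥R ∧ (∀ c : G, u * c = c * u → ∀ r ∈ R, c * r * c⁻¹ ∈ R) ∧
      z ∈ R := by
    rcases h3 with ⟨k, hkK, hkQ, hkne⟩ | ⟨u, huUQ, hunz, hz', hzO⟩
    · have hmain := Cfsg.Agent.Lib.Helper20.st_main hP k hkne hkQ
      refine ⟨k * z * k⁻¹, Q.map (MulAut.conj k).toMonoidHom, ?_, hkQ, ?_, hkne, hQ2.map _, ?_,
        hmain.1⟩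
      · rw [hU]; exact Subgroup.subset_closure ⟨k, hkK, rfl⟩
      · intro h; apply hz1
        have : z = k⁻¹ * (k * z * k⁻¹) * k := by group
        rw [this, h]; group
      · intro c hc r hr
        obtain ⟨q, hq, rfl⟩ := Subgroup.mem_map.mp hr
        have hc' : z * (k⁻¹ * c * k) = (k⁻¹ * c * k) * z := by
          calc z * (k⁻¹ * c * k) = k⁻¹ * ((k * z * k⁻¹) * c) * k := by group
            _ = k⁻¹ * (c * (k * z * k⁻¹)) * k := by rw [hc]
            _ = (k⁻¹ * c * k) * z := by group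
        refine Subgroup.mem_map.mpr ⟨(k⁻¹ * c * k) * q * (k⁻¹ * c * k)⁻¹, hN1 _ hc' q hq, ?_⟩
        simp only [MulEquiv.coe_toMonoidHom, MulAut.conj_apply]
        group
    · refine ⟨u, (Cfsg.pCore 2 ↥(Subgroup.centralizer ({u} : Set G))).map
        (Subgroup.centralizer ({u} : Set G)).subtype, huUQ.1, huUQ.2, ?_, ?_,
        (Cfsg.Agent.Lib.Helper16.pCore_isPGroup 2 _).map _, ?_, ⟨⟨z, hz'⟩, hzO, rfl⟩⟩
      · rintro rfl; exact hunz (Subgroup.one_mem _)
      · rintro rfl; exact hunz (Subgroup.mem_zpowers _)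
      · intro c hc r hr
        obtain ⟨r', hr', rfl⟩ := Subgroup.mem_map.mp hr
        have hcC : c ∈ Subgroup.centralizer ({u} : Set G) :=
          Subgroup.mem_centralizer_singleton_iff.mpr hc.symm
        have hn := Cfsg.Agent.Lib.Helper16.pCore_normal 2 ↥(Subgroup.centralizer ({u} : Set G))
        exact Subgroup.mem_map.mpr ⟨⟨c, hcC⟩ * r' * (⟨c, hcC⟩)⁻¹, hn.conj_mem _ hr' _, by simp⟩
  -- elements of U are involutions
  have hUsq : ∀ x ∈ U, x * x = 1 := by
    intro x hx
    have hx' : x ∈ Subgroup.closure {x : G | ∃ k ∈ K, x = k * z * k⁻¹} := hU ▸ hx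
    clear hx
    induction hx' using Subgroup.closure_induction with
    | mem x hx =>
      obtain ⟨k, _, rfl⟩ := hx
      calc k * z * k⁻¹ * (k * z * k⁻¹) = k * (z * z) * k⁻¹ := by group
        _ = 1 := by rw [hzz]; group
    | one => simp
    | mul x y hx hy ihx ihy =>
      have hxU : x ∈ U := hU ▸ hx
      have hyU : y ∈ U := hU ▸ hy
      have hcomm : x * y = y * x :=
        congrArg Subtype.val (hUab.is_comm.comm (⟨x, hxU⟩ : ↥U) ⟨y, hyU⟩)
      calc x * y * (x * y) = x * (y * x) * y := by group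
        _ = x * (x * y) * y := by rw [hcomm]
        _ = (x * x) * (y * y) := by group
        _ = 1 := by rw [ihx, ihy, one_mul]
    | inv x hx ih =>
      calc x⁻¹ * x⁻¹ = (x * x)⁻¹ := by group
        _ = 1 := by rw [ih, inv_one]
  have huu : u * u = 1 := hUsq u huU
  -- the killing lemma
  have hKILL : ∀ D : Subgroup G, (∀ q ∈ Q, ∀ d ∈ D, q * d * q⁻¹ ∈ D) →
      (∀ d ∈ D, z * d = d * z → d = 1) → D = ⊥ := by
    intro D hDn hDfix
    have hinvz := fpf_inverts_sub D z hzz (fun d hd => hDn z hzQ d hd) hDfix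
    have hno2 : ∀ n : ℕ, ∀ d ∈ D, d ^ (2 ^ n) = 1 → d = 1 := by
      intro n
      induction n with
      | zero => intro d _ h; simpa using h
      | succ n ih =>
        intro d hd h
        apply ih d hd
        have he : d ^ (2 ^ n) ∈ D := D.pow_mem hd _
        apply hDfix _ he
        have h2 : d ^ (2 ^ n) * d ^ (2 ^ n) = 1 := by
          rw [← pow_add, ← two_mul, ← pow_succ']; exact h
        have h3 := hinvz _ he
        have h4 : (d ^ (2 ^ n))⁻¹ = d ^ (2 ^ n) := inv_eq_of_mul_eq_one_left h2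
        rw [h4] at h3
        calc z * d ^ (2 ^ n) = z * d ^ (2 ^ n) * z⁻¹ * z := by group
          _ = d ^ (2 ^ n) * z := by rw [h3]
    have hufix : ∀ d ∈ D, u * d = d * u → d = 1 := by
      intro d hd hud
      have h1 : d * z * d⁻¹ ∈ R := hRn d hud z hzR
      have h2 : d * z * d⁻¹ * z⁻¹ ∈ R := R.mul_mem h1 (R.inv_mem hzR)
      have h3 : d * z * d⁻¹ * z⁻¹ = d * d := by
        have := hinvz _ (D.inv_mem hd)
        rw [inv_inv] at this
        calc d * z * d⁻¹ * z⁻¹ = d * (z * d⁻¹ * z⁻¹) := by group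
          _ = d * d := by rw [this]
      rw [h3] at h2
      obtain ⟨n, hn⟩ := hR2 ⟨d * d, h2⟩
      have hn' : (d * d) ^ (2 ^ n) = 1 := by
        have := congrArg Subtype.val hn
        simpa using this
      apply hno2 (n + 1) d hd
      rw [pow_succ', pow_mul, pow_two]
      exact hn'
    have hinvu := fpf_inverts_sub D u huu (fun d hd => hDn u huQ d hd) hufix
    have hzu : z * u ∈ Subgroup.centralizer (D : Set G) := by
      rw [Subgroup.mem_centralizer_iff]
      intro d hd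
      have h1 := hinvu d hd
      have h2 := hinvz _ (D.inv_mem hd)
      rw [inv_inv] at h2
      have h3 : (z * u) * d * (z * u)⁻¹ = d := by
        calc (z * u) * d * (z * u)⁻¹ = z * (u * d * u⁻¹) * z⁻¹ := by group
          _ = z * d⁻¹ * z⁻¹ := by rw [h1]
          _ = d := h2
      calc d * (z * u) = ((z * u) * d * (z * u)⁻¹) * (z * u) := by rw [h3]
        _ = (z * u) * d := by group
    have hWn : ∀ q ∈ Q, ∀ w ∈ Subgroup.centralizer (D : Set G),
        q * w * q⁻¹ ∈ Subgroup.centralizer (D : Set G) := by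
      intro q hq w hw
      rw [Subgroup.mem_centralizer_iff] at hw ⊢
      intro d hd
      have hd' : q⁻¹ * d * q ∈ D := by
        have := hDn q⁻¹ (Q.inv_mem hq) d hd
        simpa using this
      have := hw _ hd'
      calc d * (q * w * q⁻¹) = q * ((q⁻¹ * d * q) * w) * q⁻¹ := by group
        _ = q * (w * (q⁻¹ * d * q)) * q⁻¹ := by rw [this]
        _ = (q * w * q⁻¹) * d := by group
    have hzu1 : z * u ≠ 1 := by
      intro h
      apply huz
      have := eq_inv_of_mul_eq_one_right h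
      rw [this, hzi]
    have hzc := hNC _ hWn (z * u) hzu (Q.mul_mem hzQ huQ) hzu1
    rw [eq_bot_iff]
    intro d hd
    rw [Subgroup.mem_bot]
    apply hDfix d hd
    exact (Subgroup.mem_centralizer_iff.mp hzc d hd).symm
  -- (B) every nontrivial normal subgroup contains z
  have hB : ∀ N : Subgroup G, N.Normal → N ≠ ⊥ → z ∈ N := by
    intro N hN hNbot
    by_contra hzN
    apply hNbot
    apply hKILL N (fun q _ d hd => hN.conj_mem d hd q)
    intro d hd hdz
    have hdc : ∀ q ∈ Q, d * q = q * d := by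
      intro q hq
      by_contra hne
      have hc1 : ⁅d, q⁆ ∈ N := by
        rw [commutatorElement_def]
        have : d * q * d⁻¹ * q⁻¹ = d * (q * d⁻¹ * q⁻¹) := by group
        rw [this]
        exact N.mul_mem hd (hN.conj_mem _ (N.inv_mem hd) q)
      have hc2 : ⁅d, q⁆ ∈ Q := by
        rw [commutatorElement_def]
        exact Q.mul_mem (hN1 d hdz q hq) (Q.inv_mem hq)
      have hc3 : ⁅d, q⁆ ≠ 1 := fun h => hne (commutatorElement_eq_one_iff_mul_comm.mp h)
      exact hzN (hNC N (fun q' _ w hw => hN.conj_mem w hw q') _ hc1 hc2 hc3)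
    rcases hCGQ d hdc with h | h
    · exact h
    · exact absurd (h ▸ hd) hzN
  -- (A) a normal subgroup containing z is everything
  have hA : ∀ N : Subgroup G, N.Normal → z ∈ N → N = ⊤ := by
    intro N hN hzN
    have hUN : U ≤ N := by
      rw [hU, Subgroup.closure_le]
      rintro _ ⟨k, _, rfl⟩
      exact hN.conj_mem z hzN k
    have hHN : ∀ h : G, z * h = h * z → h ∈ N := by
      intro h hh
      have hmem : h ∈ Subgroup.closure {x : G | ∃ c ∈ Subgroup.centralizer ({z} : Set G),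
          ∃ u ∈ U, x = c * u * c⁻¹} := by rw [hgen]; exact (hmemH h).mpr hh
      refine (Subgroup.closure_le N).mpr ?_ hmem
      rintro _ ⟨c, _, u', hu', rfl⟩
      exact hN.conj_mem u' (hUN hu') c
    have hQ2N : IsPGroup 2 (Q.subgroupOf N) :=
      hQ2.comap_of_injective N.subtype (Subgroup.subtype_injective N)
    obtain ⟨T, hT⟩ := hQ2N.exists_le_sylow
    have hfrat := Sylow.normalizer_sup_eq_top T
    have hQT : ∀ q ∈ Q, q ∈ (T : Subgroup N).map N.subtype := by
      intro q hq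
      have hqN : q ∈ N := hHN q ((hmemH q).mp (hQC hq))
      refine Subgroup.mem_map.mpr ⟨⟨q, hqN⟩, hT ?_, rfl⟩
      rw [Subgroup.mem_subgroupOf]
      exact hq
    have hzT : z ∈ (T : Subgroup N).map N.subtype := hQT z hzQ
    have hT2 : IsPGroup 2 ((T : Subgroup N).map N.subtype) := T.2.map _
    haveI : Nontrivial ((T : Subgroup N).map N.subtype) :=
      ⟨⟨⟨z, hzT⟩, 1, fun h => hz1 (congrArg Subtype.val h)⟩⟩
    have hcen : ∀ c ∈ (T : Subgroup N).map N.subtype,
        (∀ t ∈ (T : Subgroup N).map N.subtype, t * c = c * t) → c = 1 ∨ c = z := by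
      intro c _ hct
      exact hCGQ c (fun q hq => (hct q (hQT q hq)).symm)
    have hzcen : ∀ t ∈ (T : Subgroup N).map N.subtype, t * z = z * t := by
      haveI := hT2.center_nontrivial
      obtain ⟨c, hc1⟩ := exists_ne (1 : Subgroup.center ((T : Subgroup N).map N.subtype))
      have hcc : ∀ t ∈ (T : Subgroup N).map N.subtype, t * ((c : (T : Subgroup N).map N.subtype) : G)
          = ((c : (T : Subgroup N).map N.subtype) : G) * t := by
        intro t ht
        have := Subgroup.mem_center_iff.mp c.2 ⟨t, ht⟩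
        exact congrArg Subtype.val this
      rcases hcen _ (c : (T : Subgroup N).map N.subtype).2 hcc with h | h
      · exfalso; apply hc1
        apply Subtype.ext; apply Subtype.ext
        exact h
      · rw [← h]; exact hcc
    have hnorm : Subgroup.normalizer (((T : Subgroup N).map N.subtype : Subgroup G) : Set G) ≤ N := by
      intro k hk
      apply hHN
      have hk' : ∀ t, t ∈ (T : Subgroup N).map N.subtype ↔ k * t * k⁻¹ ∈ (T : Subgroup N).map N.subtype :=
        fun t => Subgroup.mem_normalizer_iff.mp hk t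
      have hkz : k * z * k⁻¹ ∈ (T : Subgroup N).map N.subtype := (hk' z).mp hzT
      have hcomm : ∀ t ∈ (T : Subgroup N).map N.subtype, t * (k * z * k⁻¹) = (k * z * k⁻¹) * t := by
        intro t ht
        have ht' : k⁻¹ * t * k ∈ (T : Subgroup N).map N.subtype := by
          rw [hk']
          have : k * (k⁻¹ * t * k) * k⁻¹ = t := by group
          rw [this]; exact ht
        have h1 := hzcen _ ht'
        calc t * (k * z * k⁻¹) = k * ((k⁻¹ * t * k) * z) * k⁻¹ := by group
          _ = k * (z * (k⁻¹ * t * k)) * k⁻¹ := by rw [h1]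
          _ = (k * z * k⁻¹) * t := by group
      rcases hcen _ hkz hcomm with h | h
      · exfalso
        apply hz1
        have : z = k⁻¹ * (k * z * k⁻¹) * k := by group
        rw [this, h]; group
      · calc z * k = (k * z * k⁻¹) * k := by rw [h]
          _ = k * z := by group
    rw [eq_top_iff, ← hfrat]
    exact sup_le hnorm le_rfl
  refine ⟨{ toNontrivial := ⟨⟨z, 1, hz1⟩⟩, eq_bot_or_eq_top_of_normal := ?_ }, hQ, ?_, ?_, ?_⟩
  · intro N hN
    by_cases h : N = ⊥
    · exact Or.inl h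
    · exact Or.inr (hA N hN (hB N hN h))
  · ext x
    rw [Cfsg.Agent.Lib.Helper3.mem_center_map_subtype]
    constructor
    · intro hx
      have hx' : ∀ q ∈ Q, x * q = q * x :=
        fun q hq => (Subgroup.mem_centralizer_iff.mp hx q hq).symm
      rcases hCGQ x hx' with rfl | rfl
      · exact ⟨Q.one_mem, fun w _ => by simp⟩
      · exact ⟨hzQ, fun w hw => ((hmemH w).mp (hQC hw)).symm⟩
    · rintro ⟨_, hx⟩
      rw [Subgroup.mem_centralizer_iff]
      intro q hq
      exact hx q hq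
  · intro x hx
    have hzm : z ∈ (Subgroup.center ↥Q).map Q.subtype :=
      (Cfsg.Agent.Lib.Helper3.mem_center_map_subtype Q z).mpr
        ⟨hzQ, fun w hw => ((hmemH w).mp (hQC hw)).symm⟩
    have hxz : z * x = x * z := Subgroup.mem_centralizer_iff.mp hx z hzm
    have hxz' : z * x⁻¹ = x⁻¹ * z := by
      calc z * x⁻¹ = x⁻¹ * (x * z) * x⁻¹ := by group
        _ = x⁻¹ * (z * x) * x⁻¹ := by rw [hxz]
        _ = x⁻¹ * z := by group
    rw [Subgroup.mem_normalizer_iff]
    intro q
    constructor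
    · exact hN1 x hxz q
    · intro hq
      have := hN1 x⁻¹ hxz' _ hq
      have e : x⁻¹ * (x * q * x⁻¹) * x⁻¹⁻¹ = q := by group
      rw [e] at this
      exact this
  · intro K' hodd hQK
    have hKn : ∀ q ∈ Q, ∀ d ∈ K', q * d * q⁻¹ ∈ K' :=
      fun q hq d hd => ((Subgroup.mem_normalizer_iff.mp (hQK hq)) d).mp hd
    have hno2 : ∀ d ∈ K', ∀ n : ℕ, d ^ (2 ^ n) = 1 → d = 1 := by
      intro d hd n h
      have h1 : orderOf d ∣ 2 ^ n := orderOf_dvd_of_pow_eq_one h
      have h2 : orderOf d ∣ Nat.card K' := Subgroup.orderOf_dvd_natCard K' hd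
      have h3 : Nat.Coprime (2 ^ n) (Nat.card K') :=
        Nat.Coprime.pow_left n (Nat.coprime_two_left.mpr hodd)
      have := Nat.eq_one_of_dvd_coprimes h3 h1 h2
      exact orderOf_eq_one_iff.mp this
    apply hKILL K' hKn
    intro d hd hdz
    have hdc : ∀ q ∈ Q, d * q = q * d := by
      intro q hq
      have hc1 : ⁅d, q⁆ ∈ K' := by
        rw [commutatorElement_def]
        have : d * q * d⁻¹ * q⁻¹ = d * (q * d⁻¹ * q⁻¹) := by group
        rw [this]
        exact K'.mul_mem hd (hKn q hq _ (K'.inv_mem hd))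
      have hc2 : ⁅d, q⁆ ∈ Q := by
        rw [commutatorElement_def]
        exact Q.mul_mem (hN1 d hdz q hq) (Q.inv_mem hq)
      obtain ⟨n, hn⟩ := hQ2 ⟨⁅d, q⁆, hc2⟩
      have hn' : ⁅d, q⁆ ^ (2 ^ n) = 1 := by
        have := congrArg Subtype.val hn
        simpa using this
      exact commutatorElement_eq_one_iff_mul_comm.mp (hno2 _ hc1 n hn')
    rcases hCGQ d hdc with h | h
    · exact h
    · exfalso
      apply hz1
      apply hno2 z (h ▸ hd) 1
      rw [pow_one, pow_two]; exact hzz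

end Cfsg.Agent.S5427
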