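import Cfsg.Statements.S0375
import Cfsg.Agent.S0407
import Cfsg.Agent.S5622
import Cfsg.Agent.Lib.Helper21.GolaySteiner

set_option autoImplicit false
open scoped Pointwise
open Cfsg

namespace Cfsg.Agent.S0375

open Cfsg.Agent.Lib.Helper21

/-- A word of weight 8 of the length-24 code is carried into `C` by an isomorphism of the octad
systems. -/
theorem octad_word_mem (C : Submodule (ZMod 2) (Fin 24 → ZMod 2)) (e : Fin 24 ≃ GolayPt)
    (he : (fun b : Finset (Fin 24) => b.image e) '' wordsOfWeight (C : Set (Fin 24 → ZMod 2)) 8 =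
      octads) (u : GolayPt → ZMod 2) (hu : u ∈ golayCode) (h8 : hammingNorm u = 8) :
    (fun i => u (e i)) ∈ C := by
  have ho : support₂ u ∈ octads := by
    rw [mem_octads_iff]
    exact ⟨u, hu, rfl, by rw [card_support₂, h8]⟩
  rw [← he] at ho
  obtain ⟨b, ⟨⟨c, hc, rfl⟩, -⟩, hb⟩ := ho
  have hcu : (fun i => u (e i)) = c := by
    funext i
    have h1 : e i ∈ support₂ u ↔ i ∈ support₂ c := by
      rw [← hb]
      constructor
      · intro h
        obtain ⟨j, hj, hji⟩ := Finset.mem_image.1 h
        rw [← e.injective hji]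
        exact hj
      · intro h
        exact Finset.mem_image_of_mem _ h
    unfold support₂ at h1
    simp only [Finset.mem_filter, Finset.mem_univ, true_and] at h1
    rcases zmod2_cases (u (e i)) with h | h <;> rcases zmod2_cases (c i) with h' | h'
    · rw [h, h']
    · exfalso
      rw [h, h'] at h1
      exact h1.2 one_ne_zero rfl
    · exfalso
      rw [h, h'] at h1
      exact h1.1 one_ne_zero rfl
    · rw [h, h']
  rw [hcu]
  exact hc

/-- A doubly even self-dual binary code of length 24 with no words of weight 4 is equivalent to the length-24 code built from the squares modulo 23. -/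
theorem result (C : Submodule (ZMod 2) (Fin 24 → ZMod 2)) (hdim : Module.finrank (ZMod 2) C = 12) (horth : ∀ v ∈ C, ∀ w ∈ C, ∑ i, v i * w i = 0) (h4 : ∀ w ∈ C, 4 ∣ hammingNorm w) (hno4 : ∀ w ∈ C, hammingNorm w ≠ 4) : ∃ e : Fin 24 ≃ Cfsg.GolayPt, ∀ w : Cfsg.GolayPt → ZMod 2, w ∈ Cfsg.golayCode ↔ (fun i => w (e i)) ∈ C := by
  classical
  have hmin : ∀ w ∈ C, w ≠ 0 → 8 ≤ hammingNorm w := by
    intro w hw hw0
    have h1 := h4 w hw
    have h2 := hno4 w hw
    have h3 : hammingNorm w ≠ 0 := fun h => hw0 (hammingNorm_eq_zero.1 h)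
    obtain ⟨k, hk⟩ := h1
    omega
  obtain ⟨-, hst⟩ := Cfsg.Agent.S5622.result C hdim horth hmin
  obtain ⟨e, he⟩ := Cfsg.Agent.S0407.result (by simp) card_golayPt hst octads_steiner
  refine ⟨e, ?_⟩
  let T : (GolayPt → ZMod 2) ≃ₗ[ZMod 2] (Fin 24 → ZMod 2) :=
    LinearEquiv.funCongrLeft (ZMod 2) (ZMod 2) e
  have hT : ∀ w : GolayPt → ZMod 2, T w = fun i => w (e i) := fun w => rfl
  have hle : golayCode ≤ C.comap T.toLinearMap := by
    intro w hw
    obtain ⟨c, -, hc⟩ := exists_code w hw
    have hw' : w = ofMask (encMask c) := by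
      rw [← ofMask_toMask w, hc]
    rw [hw']
    refine ofMask_encAux_mem (C.comap T.toLinearMap) basisMasks (fun b hb => ?_) c
    rw [Submodule.mem_comap]
    show T (ofMask b) ∈ C
    rw [hT]
    apply octad_word_mem C e he _ (basis_mem b hb)
    rw [hammingNorm_eq_popc, toMask_ofMask b (by revert b; decide)]
    revert b
    decide
  have hfr : Module.finrank (ZMod 2) (C.comap T.toLinearMap) = 12 := by
    rw [← hdim]
    exact LinearEquiv.finrank_eq (T.submoduleMap (C.comap T.toLinearMap) |>.trans
      (LinearEquiv.ofEq _ _ (by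
        ext x
        simp only [Submodule.mem_map, Submodule.mem_comap]
        constructor
        · rintro ⟨y, hy, rfl⟩
          exact hy
        · intro hx
          exact ⟨T.symm x, by simpa using hx, by simp⟩)))
  have heq : golayCode = C.comap T.toLinearMap :=
    Submodule.eq_of_le_of_finrank_eq hle (by rw [finrank_golayCode, hfr])
  intro w
  rw [heq, Submodule.mem_comap]
  rfl

end Cfsg.Agent.S0375
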