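import Cfsg.Statements.S0532
import Mathlib
import Cfsg.Agent.S0553

set_option autoImplicit false
open Cfsg

namespace Cfsg.Agent.S0532

universe u

theorem hasSub_of_mulEquiv {H K : Type*} [Group H] [Group K] (e : H ≃* K)
    (h : Cfsg.HasSubgroupOfEveryOrder H) : Cfsg.HasSubgroupOfEveryOrder K := by
  intro d hd
  have hc : Nat.card H = Nat.card K := Nat.card_congr e.toEquiv
  obtain ⟨L, hL⟩ := h d (hc ▸ hd)
  exact ⟨L.map e.toMonoidHom, by
    rw [Subgroup.card_map_of_injective (f := e.toMonoidHom) e.injective]; exact hL⟩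

theorem main (n : ℕ) : ∀ (G : Type u) [Group G] [Finite G], Nat.card G = n →
    (∀ H : Subgroup G, Cfsg.HasSubgroupOfEveryOrder H) →
    ∀ (p : ℕ) [Fact p.Prime], p ∣ Nat.card G →
    (∀ q : ℕ, q.Prime → q ∣ Nat.card G → q ≤ p) →
    ∃ Q : Subgroup G, Q.Normal ∧ Nat.card Q = p ^ (Nat.card G).factorization p := by
  induction n using Nat.strong_induction_on with
  | _ n ih =>
  intro G _ _ hn h p _ hdvd hmax
  have hp : p.Prime := Fact.out
  have hGpos : Nat.card G ≠ 0 := Nat.card_pos.ne'
  have hG1 : Nat.card G ≠ 1 := by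
    intro h1
    rw [h1] at hdvd
    exact hp.one_lt.ne' (Nat.dvd_one.mp hdvd)
  set r := (Nat.card G).minFac with hr
  have hrp : r.Prime := Nat.minFac_prime hG1
  have hrdvd : r ∣ Nat.card G := Nat.minFac_dvd _
  have hrle : r ≤ p := hmax r hrp hrdvd
  rcases eq_or_lt_of_le hrle with hreq | hrlt
  · -- p-group
    have hpow : Nat.card G = p ^ (Nat.card G).primeFactorsList.length := by
      apply Nat.eq_prime_pow_of_unique_prime_dvd hGpos
      intro d hd hdd
      have h1 : d ≤ p := hmax d hd hdd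
      have h2 : r ≤ d := Nat.minFac_le_of_dvd hd.two_le hdd
      omega
    refine ⟨⊤, inferInstance, ?_⟩
    rw [Subgroup.card_top]
    nth_rewrite 2 [hpow]
    rw [hp.factorization_pow]
    simpa using hpow
  · -- a normal subgroup of index r
    have hGall : Cfsg.HasSubgroupOfEveryOrder G :=
      hasSub_of_mulEquiv Subgroup.topEquiv (h ⊤)
    obtain ⟨M, hM⟩ := hGall (Nat.card G / r) (Nat.div_dvd_of_dvd hrdvd)
    have hMr : Nat.card M * r = Nat.card G := by
      rw [hM]; exact Nat.div_mul_cancel hrdvd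
    have hidx : M.index = r := by
      have := Subgroup.card_mul_index M
      have hMpos : 0 < Nat.card M := Nat.card_pos
      rw [← hMr] at this
      exact Nat.eq_of_mul_eq_mul_left hMpos this
    haveI hMn : M.Normal := Subgroup.normal_of_index_eq_minFac_card hidx
    have hlt : Nat.card M < n := by
      rw [← hn, ← hMr]
      have hMpos : 0 < Nat.card M := Nat.card_pos
      have := hrp.two_le
      nlinarith
    have hMall : ∀ K : Subgroup M, Cfsg.HasSubgroupOfEveryOrder K := by
      intro K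
      exact hasSub_of_mulEquiv
        (Subgroup.equivMapOfInjective K M.subtype M.subtype_injective).symm
        (h (K.map M.subtype))
    have hpr : p ≠ r := fun e => by omega
    have hpM : p ∣ Nat.card M := by
      rw [← hMr] at hdvd
      rcases (Nat.Prime.dvd_mul hp).mp hdvd with h1 | h1
      · exact h1
      · exact absurd ((Nat.prime_dvd_prime_iff_eq hp hrp).mp h1) hpr
    have hmaxM : ∀ q : ℕ, q.Prime → q ∣ Nat.card M → q ≤ p := by
      intro q hq hqd
      exact hmax q hq (hqd.trans (hMr ▸ Dvd.intro _ rfl))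
    obtain ⟨Q₀, hQ₀n, hQ₀c⟩ := ih _ hlt M rfl hMall p hpM hmaxM
    haveI := hQ₀n
    haveI hchar : (Q₀ : Subgroup M).Characteristic := by
      have := Sylow.characteristic_of_normal (Sylow.ofCard Q₀ hQ₀c)
        (by rw [Sylow.coe_ofCard]; exact hQ₀n)
      rwa [Sylow.coe_ofCard] at this
    refine ⟨Q₀.map M.subtype, ConjAct.normal_of_characteristic_of_normal, ?_⟩
    rw [Subgroup.card_map_of_injective M.subtype_injective, hQ₀c, ← hMr,
      Nat.factorization_mul Nat.card_pos.ne' hrp.ne_zero, hrp.factorization]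
    simp [Finsupp.single_apply, hpr.symm]

theorem result {G : Type*} [Group G] [Finite G] (h : ∀ H : Subgroup G, Cfsg.HasSubgroupOfEveryOrder H) (p : ℕ) [Fact p.Prime] (hdvd : p ∣ Nat.card G) (hmax : ∀ q : ℕ, q.Prime → q ∣ Nat.card G → q ≤ p) (P : Sylow p G) : (P : Subgroup G).Normal := by
  obtain ⟨Q, hQn, hQc⟩ := main (Nat.card G) G rfl h p hdvd hmax
  haveI := hQn
  exact Cfsg.Agent.S0553.all_sylow_normal p Q hQc P

end Cfsg.Agent.S0532
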