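import Cfsg.Statements.S0533
import Mathlib
import Cfsg.Agent.S0553
import Cfsg.Agent.S0532
import Cfsg.Agent.Lib.Helper2.NilpotentBasic
import Cfsg.Agent.Lib.Helper2.Cores
import Cfsg.Agent.Lib.Helper15.ProdFormula
import Cfsg.Agent.Lib.Helper17.Supersolvable
import Cfsg.Agent.Lib.Helper17.SupersolvableOrder

set_option autoImplicit false
open Cfsg
open scoped Pointwise

namespace Cfsg.Agent.S0533

open Cfsg.Agent.Lib.Helper15

universe u

theorem card_sup_of_inf_eq_bot {G : Type*} [Group G] (K N : Subgroup G) [N.Normal]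
    (h : K ⊓ N = ⊥) : Nat.card ↥(K ⊔ N) = Nat.card K * Nat.card N := by
  have f := card_mul_set_mul_card_inf K N
  rw [h, Subgroup.card_bot, mul_one, ← Subgroup.mul_normal] at f
  exact f

/-- The quotient of a hereditarily CLT group by a normal subgroup of prime order is
hereditarily CLT. -/
theorem quotient_hclt {G : Type u} [Group G] [Finite G]
    (h : ∀ H : Subgroup G, Cfsg.HasSubgroupOfEveryOrder H)
    (N : Subgroup G) [N.Normal] (p : ℕ) (hp : p.Prime) (hN : Nat.card N = p) :
    ∀ Hb : Subgroup (G ⧸ N), Cfsg.HasSubgroupOfEveryOrder Hb := by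
  intro Hb d hd
  set f := QuotientGroup.mk' N with hf
  have hker : f.ker = N := QuotientGroup.ker_mk' N
  set H : Subgroup G := Hb.comap f with hH
  have hHc : Nat.card H = Nat.card Hb * p := by
    rw [hH, Cfsg.Agent.S0553.card_comap_mk', hN]
  obtain ⟨K', hK'⟩ := h H (d * p) (by rw [hHc]; exact Nat.mul_dvd_mul_right hd p)
  set K : Subgroup G := K'.map H.subtype with hK
  have hKH : K ≤ H := Subgroup.map_subtype_le _
  have hKc : Nat.card K = d * p := by
    rw [hK, Subgroup.card_map_of_injective H.subtype_injective, hK']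
  have hppos : 0 < p := hp.pos
  -- a subgroup of G inside H whose image has order d
  suffices hmain : ∃ K₁ : Subgroup G, K₁ ≤ H ∧ Nat.card ↥(K₁.map f) = d by
    obtain ⟨K₁, hK₁H, hK₁c⟩ := hmain
    have hle : K₁.map f ≤ Hb := by
      rw [Subgroup.map_le_iff_le_comap]; exact hK₁H
    refine ⟨(K₁.map f).subgroupOf Hb, ?_⟩
    rw [← hK₁c]
    exact Nat.card_congr (Subgroup.subgroupOfEquivOfLe hle).toEquiv
  by_cases hNK : N ≤ K
  · refine ⟨K, hKH, ?_⟩
    have h1 : (K.map f).comap f = K := by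
      rw [Subgroup.comap_map_eq, hker, sup_eq_left.mpr hNK]
    have h2 := Cfsg.Agent.S0553.card_comap_mk' N (K.map f)
    rw [h1, hKc, hN] at h2
    exact (Nat.eq_of_mul_eq_mul_right hppos h2).symm
  · have hinf : K ⊓ N = ⊥ := by
      have hdvd : Nat.card ↥(K ⊓ N) ∣ p := hN ▸ Subgroup.card_dvd_of_le inf_le_right
      rcases (Nat.dvd_prime hp).mp hdvd with h1 | h1
      · exact Subgroup.card_eq_one.mp h1
      · exfalso
        apply hNK
        have : K ⊓ N = N := Subgroup.eq_of_le_of_card_ge inf_le_right (by rw [h1, hN])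
        rw [← this]; exact inf_le_left
    obtain ⟨K₁', hK₁'⟩ := h K d (by rw [hKc]; exact Dvd.intro _ rfl)
    set K₁ : Subgroup G := K₁'.map K.subtype with hK₁
    have hK₁K : K₁ ≤ K := Subgroup.map_subtype_le _
    have hK₁c : Nat.card K₁ = d := by
      rw [hK₁, Subgroup.card_map_of_injective K.subtype_injective, hK₁']
    refine ⟨K₁, hK₁K.trans hKH, ?_⟩
    have hinf₁ : K₁ ⊓ N = ⊥ := le_bot_iff.mp (hinf ▸ inf_le_inf_right N hK₁K)
    have h1 : (K₁.map f).comap f = K₁ ⊔ N := by
      rw [Subgroup.comap_map_eq, hker]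
    have h2 := Cfsg.Agent.S0553.card_comap_mk' N (K₁.map f)
    rw [h1, card_sup_of_inf_eq_bot K₁ N hinf₁, hK₁c, hN] at h2
    exact (Nat.eq_of_mul_eq_mul_right hppos h2).symm


set_option maxHeartbeats 800000 in
/-- A nontrivial hereditarily CLT group has a normal subgroup of prime order. -/
theorem exists_normal_prime {G : Type u} [Group G] [Finite G] [Nontrivial G]
    (h : ∀ H : Subgroup G, Cfsg.HasSubgroupOfEveryOrder H) :
    ∃ (p : ℕ) (N : Subgroup G), p.Prime ∧ N.Normal ∧ Nat.card N = p := by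
  have hGpos : Nat.card G ≠ 0 := Nat.card_pos.ne'
  have hG1 : 1 < Nat.card G := Finite.one_lt_card
  have hne : (Nat.card G).primeFactors.Nonempty := by
    rw [Nat.nonempty_primeFactors]; exact hG1
  set p := (Nat.card G).primeFactors.max' hne with hpdef
  have hpmem : p ∈ (Nat.card G).primeFactors := Finset.max'_mem _ hne
  have hp : p.Prime := Nat.prime_of_mem_primeFactors hpmem
  have hdvd : p ∣ Nat.card G := Nat.dvd_of_mem_primeFactors hpmem
  have hmax : ∀ q : ℕ, q.Prime → q ∣ Nat.card G → q ≤ p := by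
    intro q hq hqd
    exact Finset.le_max' _ q (Nat.mem_primeFactors.mpr ⟨hq, hqd, hGpos⟩)
  haveI : Fact p.Prime := ⟨hp⟩
  obtain ⟨P, hPn, hPc⟩ := Cfsg.Agent.S0532.main (Nat.card G) G rfl h p hdvd hmax
  haveI := hPn
  set a := (Nat.card G).factorization p with ha
  have hapos : 0 < a := hp.factorization_pos_of_dvd hGpos hdvd
  have hPne : P ≠ ⊥ := by
    intro hb
    rw [hb, Subgroup.card_bot] at hPc
    have : 1 < p ^ a := Nat.one_lt_pow hapos.ne' hp.one_lt
    omega
  have hPp : IsPGroup p P := IsPGroup.of_card hPc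
  -- minimal normal subgroup inside P
  obtain ⟨N, hNmin⟩ := exists_minimal_of_wellFoundedLT
    (fun N : Subgroup G => N.Normal ∧ N ≠ ⊥ ∧ N ≤ P) ⟨P, hPn, hPne, le_rfl⟩
  obtain ⟨hNn, hNne, hNP⟩ := hNmin.prop
  haveI := hNn
  have hNm : ∀ K : Subgroup G, K.Normal → K ≤ N → K = ⊥ ∨ K = N := by
    intro K hK hKN
    by_cases hb : K = ⊥
    · exact Or.inl hb
    · exact Or.inr (le_antisymm hKN (hNmin.le_of_le ⟨hK, hb, hKN.trans hNP⟩ hKN))
  obtain ⟨k, hk⟩ := IsPGroup.iff_card.mp (hPp.to_le hNP)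
  have hkpos : 0 < k := by
    rcases Nat.eq_zero_or_pos k with h0 | h0
    · exfalso
      rw [h0, pow_zero] at hk
      exact hNne (Subgroup.card_eq_one.mp hk)
    · exact h0
  -- N is centralized by P
  have hcent : ∀ n ∈ N, ∀ y ∈ P, y * n = n * y := by
    haveI : Group.IsNilpotent ↥P := hPp.isNilpotent
    have hne' : N.subgroupOf P ≠ ⊥ := by
      intro hb
      rw [Subgroup.subgroupOf_eq_bot, disjoint_iff, inf_of_le_left hNP] at hb
      exact hNne hb
    have hz := Cfsg.Agent.Lib.Helper2.normal_inf_center_ne_bot (N.subgroupOf P) hne'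
    obtain ⟨⟨x, hxmem⟩, hx1⟩ := (Subgroup.ne_bot_iff_exists_ne_one).mp hz
    obtain ⟨hxN0, hxZ0⟩ := hxmem
    have hxN : x ∈ N.subgroupOf P := hxN0
    have hxZ : x ∈ Subgroup.center P := hxZ0
    rw [Subgroup.mem_subgroupOf] at hxN
    set Z : Subgroup G := (Subgroup.center ↥P).map P.subtype with hZ
    haveI hZn : Z.Normal := ConjAct.normal_of_characteristic_of_normal
    have hxZ' : (x : G) ∈ Z := ⟨x, hxZ, rfl⟩
    haveI : (N ⊓ Z).Normal := inferInstance
    have hNZ : N ⊓ Z = N := by
      rcases hNm (N ⊓ Z) inferInstance inf_le_left with hb | hb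
      · exfalso
        have : (x : G) ∈ N ⊓ Z := Subgroup.mem_inf.mpr ⟨hxN, hxZ'⟩
        rw [hb, Subgroup.mem_bot] at this
        apply hx1
        exact Subtype.ext (Subtype.ext this)
      · exact hb
    intro n hn y hy
    have hnZ : n ∈ Z := by
      have : n ∈ N ⊓ Z := by rw [hNZ]; exact hn
      exact this.2
    obtain ⟨z, hz0, rfl⟩ := hnZ
    have hz : z ∈ Subgroup.center ↥P := hz0
    rw [Subgroup.mem_center_iff] at hz
    have := hz ⟨y, hy⟩
    exact congrArg Subtype.val this
  -- a complement K to P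
  have hGall : Cfsg.HasSubgroupOfEveryOrder G :=
    Cfsg.Agent.S0532.hasSub_of_mulEquiv Subgroup.topEquiv (h ⊤)
  set m := Nat.card G / p ^ a with hm
  have hpm : p ^ a * m = Nat.card G := Nat.mul_div_cancel' (Nat.ordProj_dvd _ _)
  have hcop : Nat.Coprime p m := Nat.coprime_ordCompl hp hGpos
  obtain ⟨K, hKc⟩ := hGall m (Dvd.intro_left _ hpm)
  have hPK : P ⊔ K = ⊤ := by
    apply Subgroup.eq_top_of_le_card
    have h1 : Nat.card P ∣ Nat.card ↥(P ⊔ K) := Subgroup.card_dvd_of_le le_sup_left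
    have h2 : Nat.card K ∣ Nat.card ↥(P ⊔ K) := Subgroup.card_dvd_of_le le_sup_right
    rw [hPc] at h1
    rw [hKc] at h2
    have h3 : p ^ a * m ∣ Nat.card ↥(P ⊔ K) :=
      (Nat.Coprime.pow_left a hcop).mul_dvd_of_dvd_of_dvd h1 h2
    rw [hpm] at h3
    exact Nat.le_of_dvd Nat.card_pos h3
  -- H = N K
  set H : Subgroup G := K ⊔ N with hH
  have hcopk : Nat.Coprime (p ^ k) m := Nat.Coprime.pow_left k hcop
  have hHc : Nat.card H = p ^ k * m := by
    apply Nat.dvd_antisymm
    · have := Cfsg.Agent.Lib.Helper2.card_sup_dvd_of_normal K N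
      rw [hKc, hk, mul_comm] at this
      exact this
    · have h1 : Nat.card N ∣ Nat.card H := Subgroup.card_dvd_of_le le_sup_right
      have h2 : Nat.card K ∣ Nat.card H := Subgroup.card_dvd_of_le le_sup_left
      rw [hk] at h1
      rw [hKc] at h2
      exact hcopk.mul_dvd_of_dvd_of_dvd h1 h2
  -- L of index p in H
  obtain ⟨L', hL'⟩ := h H (p ^ (k - 1) * m) (by
    rw [hHc]
    exact Nat.mul_dvd_mul_right (pow_dvd_pow p (Nat.sub_le k 1)) m)
  set L : Subgroup G := L'.map H.subtype with hL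
  have hLH : L ≤ H := Subgroup.map_subtype_le _
  have hLc : Nat.card L = p ^ (k - 1) * m := by
    rw [hL, Subgroup.card_map_of_injective H.subtype_injective, hL']
  -- |L ⊓ N|
  obtain ⟨j, hjk, hj⟩ := (Nat.dvd_prime_pow hp).mp
    (hk ▸ Subgroup.card_dvd_of_le (inf_le_right : L ⊓ N ≤ N))
  have hj1 : j ≤ k - 1 := by
    have h1 : p ^ j ∣ p ^ (k - 1) * m := by
      rw [← hj, ← hLc]; exact Subgroup.card_dvd_of_le inf_le_left
    have h2 : p ^ j ∣ p ^ (k - 1) := (Nat.Coprime.pow_left j hcop).dvd_of_dvd_mul_right h1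
    exact (Nat.pow_dvd_pow_iff_le_right hp.one_lt).mp h2
  have hprod : Nat.card ↥(L ⊔ N) * Nat.card ↥(L ⊓ N) = Nat.card L * Nat.card N := by
    have f := card_mul_set_mul_card_inf L N
    rw [← Subgroup.mul_normal] at f
    exact f
  have hLNH : L ⊔ N ≤ H := sup_le hLH le_sup_right
  have hle : Nat.card ↥(L ⊔ N) ≤ p ^ k * m := by
    rw [← hHc]; exact Subgroup.card_le_of_le hLNH
  have hj2 : k - 1 ≤ j := by
    rw [hj, hLc, hk] at hprod
    by_contra hcon
    push_neg at hcon
    -- j < k - 1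
    have h1 : p ^ (k - 1) * m * p ^ k ≤ p ^ k * m * p ^ j := by
      rw [← hprod]; exact Nat.mul_le_mul_right _ hle
    have hmpos : 0 < m := by
      rcases Nat.eq_zero_or_pos m with h0 | h0
      · rw [h0, mul_zero] at hpm; exact absurd hpm.symm hGpos
      · exact h0
    have h2 : p ^ (k - 1) ≤ p ^ j := by
      have e1 : p ^ (k - 1) * m * p ^ k = (p ^ k * m) * p ^ (k - 1) := by ring
      rw [e1] at h1
      exact Nat.le_of_mul_le_mul_left h1 (Nat.mul_pos (pow_pos hp.pos k) hmpos)
    have := (Nat.pow_le_pow_iff_right hp.one_lt).mp h2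
    omega
  have hjeq : j = k - 1 := le_antisymm hj1 hj2
  have hLNeq : L ⊔ N = H := by
    apply Subgroup.eq_of_le_of_card_ge hLNH
    rw [hHc]
    rw [hj, hLc, hk, hjeq] at hprod
    have hpos : 0 < p ^ (k - 1) := pow_pos hp.pos _
    have e1 : p ^ (k - 1) * m * p ^ k = (p ^ k * m) * p ^ (k - 1) := by ring
    rw [e1] at hprod
    exact (Nat.eq_of_mul_eq_mul_right hpos hprod).ge
  -- L ⊓ N is normal in G
  have hNcomm : ∀ n ∈ N, ∀ n' ∈ N, n * n' = n' * n := fun n hn n' hn' =>
    hcent n' hn' n (hNP hn)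
  have hnorm : (L ⊓ N).Normal := by
    rw [← Subgroup.normalizer_eq_top_iff]
    apply top_le_iff.mp
    rw [← hPK]
    have hP_le : P ≤ Subgroup.normalizer ((L ⊓ N : Subgroup G) : Set G) := by
      intro y hy
      rw [Subgroup.mem_normalizer_iff]
      intro x
      constructor
      · intro hx
        have e : y * x * y⁻¹ = x := by rw [hcent x hx.2 y hy]; group
        rw [e]; exact hx
      · intro hx
        have hxN : x ∈ N := by
          have e : x = y⁻¹ * (y * x * y⁻¹) * y⁻¹⁻¹ := by group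
          rw [e]; exact hNn.conj_mem _ hx.2 y⁻¹
        have e : y * x * y⁻¹ = x := by rw [hcent x hxN y hy]; group
        rw [e] at hx; exact hx
    have hL_le : L ≤ Subgroup.normalizer ((L ⊓ N : Subgroup G) : Set G) := by
      refine le_trans ?_ Subgroup.inf_normalizer_le_normalizer_inf
      exact le_inf Subgroup.le_normalizer Subgroup.le_normalizer_of_normal
    have hN_le : N ≤ Subgroup.normalizer ((L ⊓ N : Subgroup G) : Set G) := hNP.trans hP_le
    have hK_le : K ≤ Subgroup.normalizer ((L ⊓ N : Subgroup G) : Set G) := by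
      have : K ≤ H := le_sup_left
      rw [← hLNeq] at this
      exact this.trans (sup_le hL_le hN_le)
    exact sup_le hP_le hK_le
  have hk1 : k = 1 := by
    rcases hNm (L ⊓ N) hnorm inf_le_right with hb | hb
    · rw [hb, Subgroup.card_bot] at hj
      have : j = 0 := by
        by_contra hj0
        have : 1 < p ^ j := Nat.one_lt_pow hj0 hp.one_lt
        omega
      omega
    · exfalso
      rw [hb, hk] at hj
      have := Nat.pow_right_injective hp.two_le hj
      omega
  exact ⟨p, N, hp, hNn, by rw [hk, hk1, pow_one]⟩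


theorem main (n : ℕ) : ∀ (G : Type u) [Group G] [Finite G], Nat.card G = n →
    (∀ H : Subgroup G, Cfsg.HasSubgroupOfEveryOrder H) → Cfsg.IsSupersolvable G := by
  induction n using Nat.strong_induction_on with
  | _ n ih =>
  intro G _ _ hn h
  by_cases hnt : Nontrivial G
  · obtain ⟨p, N, hp, hNn, hNc⟩ := exists_normal_prime h
    haveI := hNn
    haveI : Fact p.Prime := ⟨hp⟩
    haveI : IsCyclic N := isCyclic_of_prime_card hNc
    have hquot := Subgroup.card_eq_card_quotient_mul_card_subgroup N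
    have hlt : Nat.card (G ⧸ N) < n := by
      rw [← hn, hquot, hNc]
      have hpos : 0 < Nat.card (G ⧸ N) := Nat.card_pos
      have := hp.two_le
      nlinarith
    have hq := ih _ hlt (G ⧸ N) rfl (quotient_hclt h N p hp hNc)
    exact Cfsg.Agent.Lib.Helper17.isSupersolvable_of_cyclic_normal_of_quotient N hq
  · haveI : Subsingleton G := not_nontrivial_iff_subsingleton.mp hnt
    exact Cfsg.Agent.Lib.Helper17.isSupersolvable_of_subsingleton

theorem result {G : Type*} [Group G] [Finite G] (h : ∀ H : Subgroup G, Cfsg.HasSubgroupOfEveryOrder H) : Cfsg.IsSupersolvable G :=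
  main (Nat.card G) G rfl h

end Cfsg.Agent.S0533
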