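import Cfsg.Statements.S0534
import Mathlib
import Cfsg.Agent.S0533
import Cfsg.Agent.Lib.Helper13.Hall

set_option autoImplicit false
open Cfsg

namespace Cfsg.Agent.S0534

open Cfsg.Agent.Lib.Helper13

theorem abelian_clt {A : Type*} [CommGroup A] [Finite A] :
    ∀ d : ℕ, d ∣ Nat.card A → ∃ B : Subgroup A, Nat.card B = d := by
  intro d
  induction d using Nat.strong_induction_on with
  | _ d ih =>
  intro hd
  have hApos : Nat.card A ≠ 0 := Nat.card_pos.ne'
  have hd0 : d ≠ 0 := by
    rintro rfl
    exact hApos (Nat.eq_zero_of_zero_dvd hd)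
  by_cases hd1 : d = 1
  · exact ⟨⊥, by rw [hd1, Subgroup.card_bot]⟩
  set p := d.minFac with hp
  have hpp : p.Prime := Nat.minFac_prime hd1
  haveI : Fact p.Prime := ⟨hpp⟩
  set e := d.factorization p with he
  have hepos : 0 < e := hpp.factorization_pos_of_dvd hd0 (Nat.minFac_dvd d)
  set d' := d / p ^ e with hd'
  have hdd : p ^ e * d' = d := Nat.mul_div_cancel' (Nat.ordProj_dvd d p)
  have hcop : Nat.Coprime p d' := Nat.coprime_ordCompl hpp hd0
  have hd'pos : 0 < d' := by
    rcases Nat.eq_zero_or_pos d' with h0 | h0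
    · rw [h0, mul_zero] at hdd; exact absurd hdd.symm hd0
    · exact h0
  have hd'lt : d' < d := by
    have : 1 < p ^ e := Nat.one_lt_pow hepos.ne' hpp.one_lt
    nlinarith
  obtain ⟨B₁, hB₁⟩ := Sylow.exists_subgroup_card_pow_prime p
    (((Dvd.intro _ hdd : p ^ e ∣ d)).trans hd)
  obtain ⟨B₂, hB₂⟩ := ih d' hd'lt ((Dvd.intro_left _ hdd : d' ∣ d).trans hd)
  have hinf : B₁ ⊓ B₂ = ⊥ := by
    apply Subgroup.inf_eq_bot_of_coprime
    rw [hB₁, hB₂]
    exact Nat.Coprime.pow_left e hcop
  refine ⟨B₁ ⊔ B₂, ?_⟩
  rw [Cfsg.Agent.S0533.card_sup_of_inf_eq_bot B₁ B₂ hinf, hB₁, hB₂, hdd]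

theorem result {G A : Type*} [Group G] [CommGroup A] [Finite G] [Finite A] [Group.IsSolvable G] (hA : ∀ p : ℕ, p.Prime → p ∣ Nat.card A → p ∣ Nat.card G) (hexp : ∀ p : ℕ, p.Prime → p ∣ Nat.card G → (Nat.card A).factorization p + 1 = (Nat.card G).factorization p) : Cfsg.HasSubgroupOfEveryOrder (G × A) := by
  intro d hd
  rw [Nat.card_prod] at hd
  have hGpos : Nat.card G ≠ 0 := Nat.card_pos.ne'
  have hApos : Nat.card A ≠ 0 := Nat.card_pos.ne'
  have hd0 : d ≠ 0 := by
    rintro rfl
    exact (Nat.mul_ne_zero hGpos hApos) (Nat.eq_zero_of_zero_dvd hd)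
  have hdfac : ∀ p : ℕ, d.factorization p ≤ (Nat.card G).factorization p +
      (Nat.card A).factorization p := by
    intro p
    have := (Nat.factorization_le_iff_dvd hd0 (Nat.mul_ne_zero hGpos hApos)).mpr hd
    rw [Nat.factorization_mul hGpos hApos] at this
    exact this p
  set π : Set ℕ := {p | (Nat.card G).factorization p ≤ d.factorization p} with hπ
  obtain ⟨H, hH1, hH2⟩ := hall_exists π G
  have hHpos : Nat.card H ≠ 0 := Nat.card_pos.ne'
  have hidx : H.index ≠ 0 := Subgroup.index_ne_zero_of_finite
  have hGH : ∀ p : ℕ, (Nat.card G).factorization p =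
      (Nat.card H).factorization p + H.index.factorization p := by
    intro p
    rw [← Subgroup.card_mul_index H, Nat.factorization_mul hHpos hidx]
    rfl
  -- factorization of card H
  have hHfac : ∀ p : ℕ, (Nat.card H).factorization p =
      if (Nat.card G).factorization p ≤ d.factorization p then (Nat.card G).factorization p
      else 0 := by
    intro p
    by_cases hpp : p.Prime
    · split_ifs with hc
      · -- p ∈ π: p ∤ index
        have hnd : ¬ p ∣ H.index := fun hdv => (hH2 p hpp hdv) hc
        have := Nat.factorization_eq_zero_of_not_dvd hnd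
        rw [hGH p, this, add_zero]
      · -- p ∉ π: p ∤ card H
        have hnd : ¬ p ∣ Nat.card H := fun hdv => hc (hH1 p hpp hdv)
        exact Nat.factorization_eq_zero_of_not_dvd hnd
    · rw [Nat.factorization_eq_zero_of_not_prime _ hpp,
        Nat.factorization_eq_zero_of_not_prime _ hpp]
      simp
  have hHd : Nat.card H ∣ d := by
    rw [← Nat.factorization_le_iff_dvd hHpos hd0]
    intro p
    rw [hHfac p]
    split_ifs with hc
    · exact hc
    · exact Nat.zero_le _
  set b := d / Nat.card H with hb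
  have hbd : Nat.card H * b = d := Nat.mul_div_cancel' hHd
  have hb0 : b ≠ 0 := by
    rintro h0
    rw [h0, mul_zero] at hbd
    exact hd0 hbd.symm
  have hbA : b ∣ Nat.card A := by
    rw [← Nat.factorization_le_iff_dvd hb0 hApos]
    intro p
    have h1 : d.factorization p = (Nat.card H).factorization p + b.factorization p := by
      rw [← hbd, Nat.factorization_mul hHpos hb0]; rfl
    have h2 := hdfac p
    have h3 := hHfac p
    by_cases hc : (Nat.card G).factorization p ≤ d.factorization p
    · rw [if_pos hc] at h3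
      omega
    · rw [if_neg hc] at h3
      rw [not_le] at hc
      have hpos : (Nat.card G).factorization p ≠ 0 := by omega
      have hpp : p.Prime := by
        by_contra hnp
        exact hpos (Nat.factorization_eq_zero_of_not_prime _ hnp)
      have hpG : p ∣ Nat.card G := by
        by_contra hnd
        exact hpos (Nat.factorization_eq_zero_of_not_dvd hnd)
      have := hexp p hpp hpG
      omega
  obtain ⟨B, hB⟩ := abelian_clt b hbA
  refine ⟨H.prod B, ?_⟩
  rw [Nat.card_congr (Subgroup.prodEquiv H B).toEquiv, Nat.card_prod, hB, hbd]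

end Cfsg.Agent.S0534
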