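import Cfsg.Statements.S0537
import Mathlib
import Cfsg.Agent.S0046
import Cfsg.Agent.S0533
import Cfsg.Agent.S0534
import Cfsg.Agent.S0650
import Cfsg.Agent.Lib.Helper2.Cores
import Cfsg.Agent.Lib.Helper2.PGroupFrattini
import Cfsg.Agent.Lib.Helper9.Fitting
import Cfsg.Agent.Lib.Helper16.PCore
import Cfsg.Agent.Lib.Helper15.SylowIn

set_option autoImplicit false
open Cfsg
open scoped commutatorElement

namespace Cfsg.Agent.S0537

open Cfsg.Agent.Lib.Helper15

theorem exists_normal_prime_index (G : Type*) [Group G] [Finite G] [Group.IsSolvable G]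
    [Nontrivial G] : ∃ (M : Subgroup G) (p : ℕ), p.Prime ∧ M.Normal ∧ M.index = p := by
  have hlt : commutator G < ⊤ := Group.IsSolvable.commutator_lt_top_of_nontrivial G
  have hidx1 : (commutator G).index ≠ 1 := by
    intro h
    exact hlt.ne (Subgroup.index_eq_one.mp h)
  have hcard : Nat.card (Abelianization G) = (commutator G).index := by
    rw [Subgroup.index_eq_card]; rfl
  set n := Nat.card (Abelianization G) with hn
  have hn1 : n ≠ 1 := by rw [hcard]; exact hidx1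
  have hp : n.minFac.Prime := Nat.minFac_prime hn1
  obtain ⟨B, hB⟩ := Cfsg.Agent.S0534.abelian_clt (A := Abelianization G) (n / n.minFac)
    (Nat.div_dvd_of_dvd (Nat.minFac_dvd n))
  have hBidx : B.index = n.minFac := by
    have h1 := Subgroup.card_mul_index B
    rw [hB, ← hn] at h1
    have h2 : n / n.minFac * n.minFac = n := Nat.div_mul_cancel (Nat.minFac_dvd n)
    have hpos : 0 < n / n.minFac := by
      rcases Nat.eq_zero_or_pos (n / n.minFac) with h0 | h0
      · rw [h0, zero_mul] at h2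
        have : 0 < n := Nat.card_pos
        omega
      · exact h0
    exact Nat.eq_of_mul_eq_mul_left hpos (h1.trans h2.symm)
  have hsurj : Function.Surjective (Abelianization.of : G →* Abelianization G) := by
    intro y
    obtain ⟨g, rfl⟩ := QuotientGroup.mk_surjective y
    exact ⟨g, rfl⟩
  refine ⟨B.comap (Abelianization.of : G →* Abelianization G), n.minFac, hp, inferInstance, ?_⟩
  rw [Subgroup.index_comap_of_surjective B hsurj]
  exact hBidx

variable {G : Type*} [Group G]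

/-- The subgroup of `n`-th powers of a commutative subgroup. -/
def powSub (Q : Subgroup G) (hQ : ∀ a ∈ Q, ∀ b ∈ Q, a * b = b * a) (n : ℕ) : Subgroup G where
  carrier := {z | ∃ y ∈ Q, y ^ n = z}
  one_mem' := ⟨1, Q.one_mem, one_pow n⟩
  mul_mem' := by
    rintro _ _ ⟨a, ha, rfl⟩ ⟨b, hb, rfl⟩
    exact ⟨a * b, Q.mul_mem ha hb, Commute.mul_pow (hQ a ha b hb) n⟩
  inv_mem' := by
    rintro _ ⟨a, ha, rfl⟩
    exact ⟨a⁻¹, Q.inv_mem ha, inv_pow a n⟩

/-- The subgroup of elements of `n`-torsion of a commutative subgroup. -/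
def torSub (Q : Subgroup G) (hQ : ∀ a ∈ Q, ∀ b ∈ Q, a * b = b * a) (n : ℕ) : Subgroup G where
  carrier := {z | z ∈ Q ∧ z ^ n = 1}
  one_mem' := ⟨Q.one_mem, one_pow n⟩
  mul_mem' := by
    rintro a b ⟨ha, ha'⟩ ⟨hb, hb'⟩
    refine ⟨Q.mul_mem ha hb, ?_⟩
    rw [Commute.mul_pow (hQ a ha b hb) n, ha', hb', one_mul]
  inv_mem' := by
    rintro a ⟨ha, ha'⟩
    refine ⟨Q.inv_mem ha, ?_⟩
    rw [inv_pow, ha', inv_one]

theorem mem_powSub {Q : Subgroup G} {hQ : ∀ a ∈ Q, ∀ b ∈ Q, a * b = b * a} {n : ℕ} {z : G} :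
    z ∈ powSub Q hQ n ↔ ∃ y ∈ Q, y ^ n = z := Iff.rfl

theorem mem_torSub {Q : Subgroup G} {hQ : ∀ a ∈ Q, ∀ b ∈ Q, a * b = b * a} {n : ℕ} {z : G} :
    z ∈ torSub Q hQ n ↔ z ∈ Q ∧ z ^ n = 1 := Iff.rfl

theorem powSub_le {Q : Subgroup G} {hQ : ∀ a ∈ Q, ∀ b ∈ Q, a * b = b * a} {n : ℕ} :
    powSub Q hQ n ≤ Q := by
  rintro _ ⟨y, hy, rfl⟩
  exact Q.pow_mem hy n

theorem torSub_le {Q : Subgroup G} {hQ : ∀ a ∈ Q, ∀ b ∈ Q, a * b = b * a} {n : ℕ} :
    torSub Q hQ n ≤ Q := fun _ hz => hz.1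

/-- L1: if `X ⊓ Q = ⊥`, `N ≤ Q`, `N` normal and `X ⊔ N = ⊤` then `Q ≤ N`. -/
theorem le_of_sup_eq_top (X Q N : Subgroup G) [N.Normal] (hXQ : X ⊓ Q = ⊥) (hNQ : N ≤ Q)
    (htop : X ⊔ N = ⊤) : Q ≤ N := by
  intro g hg
  have hg' : g ∈ X ⊔ N := by rw [htop]; exact Subgroup.mem_top g
  rw [← SetLike.mem_coe, Subgroup.mul_normal] at hg'
  obtain ⟨a, ha, n, hn, rfl⟩ := hg'
  change a * n ∈ Q at hg
  change a * n ∈ N
  have haQ : a ∈ Q := by
    have : a = a * n * n⁻¹ := by group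
    rw [this]
    exact Q.mul_mem hg (Q.inv_mem (hNQ hn))
  have : a ∈ X ⊓ Q := Subgroup.mem_inf.mpr ⟨ha, haQ⟩
  rw [hXQ, Subgroup.mem_bot] at this
  rw [this, one_mul]
  exact hn

/-- L2: a subgroup of an abelian subgroup `Q`, stable under conjugation by `x`, is normal when
`zpowers x ⊔ Q = ⊤`. -/
theorem normal_of_stable [Finite G] (x : G) (Q N : Subgroup G)
    (hQ : ∀ a ∈ Q, ∀ b ∈ Q, a * b = b * a) (hNQ : N ≤ Q)
    (hx : ∀ n ∈ N, x * n * x⁻¹ ∈ N) (htop : Subgroup.zpowers x ⊔ Q = ⊤) : N.Normal := by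
  rw [← Subgroup.normalizer_eq_top_iff, eq_top_iff, ← htop, sup_le_iff]
  constructor
  · rw [Subgroup.zpowers_le]
    exact Cfsg.Agent.S0650.mem_normalizer_of_conj_mem N x hx
  · intro g hg
    apply Cfsg.Agent.S0650.mem_normalizer_of_conj_mem N g
    intro y hy
    rw [hQ g hg y (hNQ hy), mul_inv_cancel_right]
    exact hy

/-- Core: `Q` is elementary abelian. -/
theorem elementary_of [Finite G] {p q : ℕ} (hq : q.Prime) (hpq : p ≠ q) (hp : p.Prime)
    (h : ∀ H : Subgroup G, H ≠ ⊤ → ∀ a ∈ H, ∀ b ∈ H, a * b = b * a)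
    (x : G) (Q : Subgroup G) [hQn : Q.Normal] (hQ : ∀ a ∈ Q, ∀ b ∈ Q, a * b = b * a)
    (hQq : IsPGroup q Q) (hxp : ∃ k : ℕ, x ^ (p ^ k) = 1)
    (htop : Subgroup.zpowers x ⊔ Q = ⊤) (hdisj : Subgroup.zpowers x ⊓ Q = ⊥)
    (y : G) (hy : y ∈ Q) (hxy : x * y ≠ y * x) : ∀ a ∈ Q, a ^ q = 1 := by
  by_contra hne
  push Not at hne
  obtain ⟨a₀, ha₀, ha₀q⟩ := hne
  have hxmem : ∀ N : Subgroup G, x ∈ Subgroup.zpowers x ⊔ N := fun N =>
    Subgroup.mem_sup_left (Subgroup.mem_zpowers x)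
  -- Step 1
  haveI n1 : (powSub Q hQ q).Normal := by
    refine normal_of_stable x Q _ hQ powSub_le ?_ htop
    rintro _ ⟨z, hz, rfl⟩
    exact ⟨x * z * x⁻¹, hQn.conj_mem z hz x, conj_pow⟩
  have hne1 : Subgroup.zpowers x ⊔ powSub Q hQ q ≠ ⊤ := by
    intro ht
    have hle := le_of_sup_eq_top _ Q _ hdisj powSub_le ht
    have hpow : ∀ k : ℕ, ∀ z ∈ Q, ∃ w ∈ Q, w ^ (q ^ k) = z := by
      intro k
      induction k with
      | zero => intro z hz; exact ⟨z, hz, by simp⟩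
      | succ k ih =>
        intro z hz
        obtain ⟨w, hw, rfl⟩ := ih z hz
        obtain ⟨v, hv, rfl⟩ := hle hw
        exact ⟨v, hv, by rw [pow_succ', pow_mul]⟩
    haveI : Fact q.Prime := ⟨hq⟩
    obtain ⟨b, hb⟩ := hQq.exists_card_eq
    have hy1 : y = 1 := by
      obtain ⟨w, hw, rfl⟩ := hpow b y hy
      rw [← hb]
      have := pow_card_eq_one' (G := Q) (x := ⟨w, hw⟩)
      exact congrArg Subtype.val this
    rw [hy1] at hxy
    simp at hxy
  have hc1 : ∀ z ∈ Q, x * z ^ q = z ^ q * x := fun z hz =>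
    h _ hne1 x (hxmem _) _ (Subgroup.mem_sup_right ⟨z, hz, rfl⟩)
  -- Step 2
  haveI n2 : (torSub Q hQ q).Normal := by
    refine normal_of_stable x Q _ hQ torSub_le ?_ htop
    rintro z ⟨hz, hz'⟩
    refine ⟨hQn.conj_mem z hz x, ?_⟩
    rw [conj_pow, hz', mul_one, mul_inv_cancel]
  have hne2 : Subgroup.zpowers x ⊔ torSub Q hQ q ≠ ⊤ := by
    intro ht
    have hle := le_of_sup_eq_top _ Q _ hdisj torSub_le ht
    exact ha₀q (hle ha₀).2
  have hc2 : ∀ z ∈ Q, z ^ q = 1 → x * z = z * x := fun z hz hz' =>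
    h _ hne2 x (hxmem _) _ (Subgroup.mem_sup_right ⟨hz, hz'⟩)
  -- Step 3
  obtain ⟨c, hc⟩ : ∃ c, c = x * y * x⁻¹ * y⁻¹ := ⟨_, rfl⟩
  have hcQ : c ∈ Q := by rw [hc]; exact Q.mul_mem (hQn.conj_mem y hy x) (Q.inv_mem hy)
  have hcq : c ^ q = 1 := by
    have hcomm : Commute (x * y * x⁻¹) y⁻¹ := hQ _ (hQn.conj_mem y hy x) _ (Q.inv_mem hy)
    rw [hc, hcomm.mul_pow, conj_pow, hc1 y hy, mul_inv_cancel_right, inv_pow, mul_inv_cancel]
  have hxc : x * c = c * x := hc2 c hcQ hcq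
  have hxy' : x * y * x⁻¹ = c * y := by rw [hc]; group
  -- Step 4
  have hxck : ∀ k : ℕ, x * c ^ k * x⁻¹ = c ^ k := by
    intro k
    have : Commute x (c ^ k) := Commute.pow_right hxc k
    rw [this.eq, mul_inv_cancel_right]
  have hstep : ∀ k : ℕ, x ^ k * y * (x ^ k)⁻¹ = c ^ k * y := by
    intro k
    induction k with
    | zero => simp
    | succ k ih =>
      have e : x ^ (k + 1) * y * (x ^ (k + 1))⁻¹ = x * (x ^ k * y * (x ^ k)⁻¹) * x⁻¹ := by
        rw [pow_succ']; group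
      rw [e, ih]
      have e2 : x * (c ^ k * y) * x⁻¹ = (x * c ^ k * x⁻¹) * (x * y * x⁻¹) := by group
      rw [e2, hxck, hxy', pow_succ, mul_assoc]
  -- Step 5
  obtain ⟨a, ha⟩ := hxp
  have h5 := hstep (p ^ a)
  rw [ha] at h5
  have hck : c ^ (p ^ a) = 1 := by
    have : y = c ^ (p ^ a) * y := by simpa using h5
    exact (mul_eq_right.mp this.symm)
  have hcop : Nat.Coprime (p ^ a) q :=
    Nat.Coprime.pow_left a ((Nat.coprime_primes hp hq).mpr hpq)
  have hc1' : c = 1 := by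
    have := pow_gcd_eq_one.mpr ⟨hck, hcq⟩
    rw [hcop.gcd_eq_one, pow_one] at this
    exact this
  apply hxy
  have : x * y * x⁻¹ * y⁻¹ = 1 := hc ▸ hc1'
  calc x * y = (x * y * x⁻¹ * y⁻¹) * (y * x) := by group
    _ = y * x := by rw [this, one_mul]

theorem isPGroup_of_eq_top {p : ℕ} {H : Subgroup G} (hH : IsPGroup p H) (ht : H = ⊤) :
    IsPGroup p G := by
  intro g
  obtain ⟨k, hk⟩ := hH ⟨g, ht ▸ Subgroup.mem_top g⟩
  exact ⟨k, by simpa using congrArg Subtype.val hk⟩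

theorem isCyclic_of_eq {H K : Subgroup G} (h : H = K) [IsCyclic K] : IsCyclic H :=
  h ▸ inferInstance

/-- A finite non-abelian group in which every proper subgroup is abelian is either of prime-power order, or is generated by a cyclic Sylow p-subgroup and a normal Sylow q-subgroup that is elementary abelian, for distinct primes p and q. -/
theorem result {G : Type*} [Group G] [Finite G] (hna : ¬ IsMulCommutative G) (h : ∀ H : Subgroup G, H ≠ ⊤ → IsMulCommutative H) : (∃ p : ℕ, p.Prime ∧ IsPGroup p G) ∨ ∃ p q : ℕ, p.Prime ∧ q.Prime ∧ p ≠ q ∧ ∃ (P : Sylow p G) (Q : Sylow q G), IsCyclic P ∧ (Q : Subgroup G).Normal ∧ Cfsg.IsElementaryAbelian q (Q : Subgroup G) ∧ (P : Subgroup G) ⊔ Q = ⊤ := by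
  by_cases hpg : ∃ p : ℕ, p.Prime ∧ IsPGroup p G
  · exact Or.inl hpg
  right
  have hcomm : ∀ H : Subgroup G, H ≠ ⊤ → ∀ a ∈ H, ∀ b ∈ H, a * b = b * a := by
    intro H hH a ha b hb
    haveI := h H hH
    exact setLike_mul_comm ha hb
  haveI : Nontrivial G := by
    by_contra hnt
    rw [not_nontrivial_iff_subsingleton] at hnt
    exact hna ⟨⟨fun a b => Subsingleton.elim _ _⟩⟩
  haveI : Group.IsSolvable G := by
    apply Cfsg.Agent.S0046.result
    intro M hM
    haveI := h M hM.1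
    exact Cfsg.Agent.Lib.Helper9.isNilpotent_of_isMulCommutative M
  obtain ⟨M, p, hp, hMn, hMidx⟩ := exists_normal_prime_index G
  haveI : Fact p.Prime := ⟨hp⟩
  have hMtop : M ≠ ⊤ := by
    intro ht; rw [ht, Subgroup.index_top] at hMidx; exact hp.one_lt.ne hMidx
  have hMc := hcomm M hMtop
  obtain ⟨P⟩ : Nonempty (Sylow p G) := inferInstance
  have hPM : ¬ (P : Subgroup G) ≤ M := by
    intro hle
    have := Subgroup.index_dvd_of_le hle
    rw [hMidx] at this
    exact P.not_dvd_index this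
  obtain ⟨x, hxP, hxM⟩ := SetLike.not_le_iff_exists.mp hPM
  have hMco : IsCoatom M := Cfsg.Agent.Lib.Helper2.isCoatom_of_index_eq_prime hp hMidx
  have hMx : M ⊔ Subgroup.zpowers x = ⊤ := by
    apply hMco.2
    refine lt_of_le_of_ne le_sup_left ?_
    intro he
    apply hxM
    rw [he]
    exact Subgroup.mem_sup_right (Subgroup.mem_zpowers x)
  -- x does not centralize M
  have hxnc : ∃ m ∈ M, x * m ≠ m * x := by
    by_contra hall
    push Not at hall
    apply hna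
    have hC : Subgroup.centralizer (M : Set G) = ⊤ := by
      rw [eq_top_iff, ← hMx, sup_le_iff, Subgroup.zpowers_le]
      constructor
      · intro m hm
        rw [Subgroup.mem_centralizer_iff]
        intro m' hm'
        exact hMc m' hm' m hm
      · rw [Subgroup.mem_centralizer_iff]
        intro m hm
        exact (hall m hm).symm
    have hC' : Subgroup.centralizer ({x} : Set G) = ⊤ := by
      rw [eq_top_iff, ← hMx, sup_le_iff, Subgroup.zpowers_le]
      constructor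
      · intro m hm
        rw [Subgroup.mem_centralizer_iff]
        intro z hz
        rw [Set.mem_singleton_iff] at hz
        rw [hz]; exact hall m hm
      · rw [Subgroup.mem_centralizer_iff]
        intro z hz
        rw [Set.mem_singleton_iff] at hz
        rw [hz]
    have hZ : Subgroup.center G = ⊤ := by
      rw [eq_top_iff, ← hMx, sup_le_iff, Subgroup.zpowers_le]
      constructor
      · intro m hm
        rw [Subgroup.mem_center_iff]
        intro g
        have : g ∈ Subgroup.centralizer (M : Set G) := by rw [hC]; trivial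
        exact ((Subgroup.mem_centralizer_iff.mp this) m hm).symm
      · rw [Subgroup.mem_center_iff]
        intro g
        have : g ∈ Subgroup.centralizer ({x} : Set G) := by rw [hC']; trivial
        exact ((Subgroup.mem_centralizer_iff.mp this) x rfl).symm
    refine ⟨⟨fun a b => ?_⟩⟩
    have : b ∈ Subgroup.center G := by rw [hZ]; trivial
    exact (Subgroup.mem_center_iff.mp this a)
  obtain ⟨m, hm, hxm⟩ := hxnc
  have hsyl : ∃ (q : Nat.Primes) (Q₀ : Sylow (q : ℕ) M), ∃ y ∈ (Q₀ : Subgroup M),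
      x * (y : G) ≠ (y : G) * x := by
    by_contra hall
    push Not at hall
    have hle : (⊤ : Subgroup M) ≤ (Subgroup.centralizer ({x} : Set G)).subgroupOf M := by
      rw [← Cfsg.Agent.Lib.Helper2.iSup_sylow_eq_top]
      apply iSup_le; intro q; apply iSup_le; intro Q₀
      intro y hy
      rw [Subgroup.mem_subgroupOf, Subgroup.mem_centralizer_iff]
      intro z hz
      rw [Set.mem_singleton_iff] at hz
      rw [hz]; exact (hall q Q₀ y hy)
    have : (⟨m, hm⟩ : M) ∈ (Subgroup.centralizer ({x} : Set G)).subgroupOf M := hle trivial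
    rw [Subgroup.mem_subgroupOf, Subgroup.mem_centralizer_iff] at this
    exact hxm (this x rfl)
  obtain ⟨⟨q, hq⟩, Q₀, y, hyQ₀, hxy⟩ := hsyl
  haveI : Fact q.Prime := ⟨hq⟩
  have hQ₀n : (Q₀ : Subgroup M).Normal := ⟨fun n hn g => by
    have : g * n = n * g := Subtype.ext (hMc g g.2 n n.2)
    rw [this, mul_inv_cancel_right]; exact hn⟩
  haveI hQ₀c : (Q₀ : Subgroup M).Characteristic := Sylow.characteristic_of_normal Q₀ hQ₀n
  obtain ⟨Q, hQdef⟩ : ∃ Q : Subgroup G, Q = (Q₀ : Subgroup M).map M.subtype := ⟨_, rfl⟩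
  haveI hQn : Q.Normal := by rw [hQdef]; exact ConjAct.normal_of_characteristic_of_normal
  have hQq : IsPGroup q Q := by rw [hQdef]; exact Q₀.2.map M.subtype
  have hyQ : (y : G) ∈ Q := by rw [hQdef]; exact Subgroup.mem_map_of_mem _ hyQ₀
  have hQM : Q ≤ M := by rw [hQdef]; exact Subgroup.map_subtype_le _
  have hQc : ∀ a ∈ Q, ∀ b ∈ Q, a * b = b * a := fun a ha b hb => hMc a (hQM ha) b (hQM hb)
  have hPtop : (P : Subgroup G) ≠ ⊤ := fun ht => hpg ⟨p, hp, isPGroup_of_eq_top P.2 ht⟩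
  have hQtop : Q ≠ ⊤ := fun ht => hpg ⟨q, hq, isPGroup_of_eq_top hQq ht⟩
  have hpq : p ≠ q := by
    intro he
    subst he
    have hQP : Q ≤ P := Cfsg.Agent.Lib.Helper16.normal_pgroup_le_sylow hQn hQq P
    exact hxy (hcomm P hPtop x hxP y (hQP hyQ))
  have htop : Subgroup.zpowers x ⊔ Q = ⊤ := by
    by_contra hne
    exact hxy (hcomm _ hne x (Subgroup.mem_sup_left (Subgroup.mem_zpowers x)) y
      (Subgroup.mem_sup_right hyQ))
  have hXp : IsPGroup p (Subgroup.zpowers x) := P.2.to_le (Subgroup.zpowers_le.mpr hxP)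
  have hdisj : Subgroup.zpowers x ⊓ Q = ⊥ :=
    disjoint_iff.mp (IsPGroup.disjoint_of_ne p q hpq _ _ hXp hQq)
  have hcard : Nat.card G = Nat.card (Subgroup.zpowers x) * Nat.card Q := by
    have := Cfsg.Agent.S0533.card_sup_of_inf_eq_bot (Subgroup.zpowers x) Q hdisj
    rw [htop, Subgroup.card_top] at this
    exact this
  have hXidx : (Subgroup.zpowers x).index = Nat.card Q := by
    have h1 := Subgroup.card_mul_index (Subgroup.zpowers x)
    rw [hcard] at h1
    exact Nat.eq_of_mul_eq_mul_left Nat.card_pos h1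
  have hQidx : Q.index = Nat.card (Subgroup.zpowers x) := by
    have h1 := Subgroup.card_mul_index Q
    rw [hcard, mul_comm (Nat.card (Subgroup.zpowers x))] at h1
    exact Nat.eq_of_mul_eq_mul_left Nat.card_pos h1
  obtain ⟨a, ha⟩ := hXp.exists_card_eq
  obtain ⟨b, hb⟩ := hQq.exists_card_eq
  have hnd1 : ¬ p ∣ (Subgroup.zpowers x).index := by
    rw [hXidx, hb]
    intro hd
    exact hpq ((Nat.prime_dvd_prime_iff_eq hp hq).mp (hp.dvd_of_dvd_pow hd))
  have hnd2 : ¬ q ∣ Q.index := by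
    rw [hQidx, ha]
    intro hd
    exact hpq ((Nat.prime_dvd_prime_iff_eq hq hp).mp (hq.dvd_of_dvd_pow hd)).symm
  have hxp : ∃ k : ℕ, x ^ (p ^ k) = 1 := by
    obtain ⟨k, hk⟩ := P.2 ⟨x, hxP⟩
    exact ⟨k, by simpa using congrArg Subtype.val hk⟩
  refine ⟨p, q, hp, hq, hpq, hXp.toSylow hnd1, hQq.toSylow hnd2, ?_, ?_, ?_, ?_⟩
  · exact isCyclic_of_eq (IsPGroup.toSylow_coe hXp hnd1)
  · rw [IsPGroup.toSylow_coe]; exact hQn
  · rw [IsPGroup.toSylow_coe]
    refine ⟨⟨⟨fun a b => Subtype.ext (hQc a a.2 b b.2)⟩⟩, ?_⟩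
    exact elementary_of hq hpq hp hcomm x Q hQc hQq hxp htop hdisj y hyQ hxy
  · rw [IsPGroup.toSylow_coe, IsPGroup.toSylow_coe]; exact htop

end Cfsg.Agent.S0537
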