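import Cfsg.Statements.S0938
import Cfsg.Agent.S0939
import Cfsg.Agent.Lib.Helper4.TwoClasses
import Cfsg.Agent.Lib.Helper4.BlockRegular

set_option autoImplicit false
open Cfsg

namespace Cfsg.Agent.S0938

/-- Let B be a block of the finite group G relative to a maximal ideal M of the algebraic integers containing the prime p, and let χ ∈ B. Then the kernel of B (the set of g with ψ g = ψ 1 for all ψ ∈ B) is a normal subgroup of order prime to p contained in the kernel of χ, and it contains every normal subgroup of order prime to p on which χ takes the value χ(1); that is, it is O_p' of the kernel of χ. -/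
theorem result {G : Type*} [Group G] [Finite G] (p : ℕ) [Fact p.Prime] (M : Ideal Cfsg.AlgInt) (hM : Cfsg.IsPModular p M) (B : Set (Cfsg.IrrCharacter G)) (hB : Cfsg.IsPBlock M B) (χ : Cfsg.IrrCharacter G) (hχ : χ ∈ B) : ∃ K : Subgroup G, K.Normal ∧ (K : Set G) = Cfsg.blockKer B ∧ ¬ p ∣ Nat.card K ∧ (∀ g ∈ K, (χ : G → ℂ) g = (χ : G → ℂ) 1) ∧ ∀ N : Subgroup G, N.Normal → ¬ p ∣ Nat.card N → (∀ g ∈ N, (χ : G → ℂ) g = (χ : G → ℂ) 1) → N ≤ K := by
  classical
  open Cfsg.Agent.Lib.Helper4 Cfsg.Agent.Lib.Helper28 Cfsg.Agent.Lib.Helper26 in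
  have : Fintype G := Fintype.ofFinite G
  have : Fintype (IrrCharacter G) := Fintype.ofFinite _
  have hMprime : M.IsPrime := hM.2.1.isPrime
  have hMtop : M ≠ ⊤ := Ideal.IsPrime.ne_top hMprime
  have hp : p.Prime := hM.1
  let K : Subgroup G := ⨅ ψ : B, charKer (ψ : IrrCharacter G)
  have hKmem : ∀ g : G, g ∈ K ↔ ∀ ψ ∈ B, (ψ : G → ℂ) g = (ψ : G → ℂ) 1 := by
    intro g
    simp only [K, Subgroup.mem_iInf, mem_charKer, Subtype.forall]
  refine ⟨K, Subgroup.normal_iInf_normal (fun ψ => inferInstance), ?_, ?_, ?_, ?_⟩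
  · ext g
    exact hKmem g
  · intro hdvd
    obtain ⟨x, hx⟩ := exists_prime_orderOf_dvd_card' (G := K) p hdvd
    have hxG : orderOf (x : G) = p := by
      rw [Subgroup.orderOf_coe]
      exact hx
    have hsing : p ∣ orderOf (x : G) := by rw [hxG]
    have hxK := (hKmem (x : G)).mp x.2
    have h1 := weak_orthogonality_of_memLocalRing hM B (fun g => osima hB g) 1 (x : G)
      (by rw [orderOf_one]; exact hp.not_dvd_one) hsing
    -- rewrite the sum as a sum of squares of degrees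
    have hdeg : ∀ ψ : IrrCharacter G, ∃ d : ℕ, 0 < d ∧ (ψ : G → ℂ) 1 = d := fun ψ => irr_degree ψ.2
    choose d hdpos hd using hdeg
    have h2 : ∑ ψ : IrrCharacter G, (if ψ ∈ B then (ψ : G → ℂ) 1 * (starRingEnd ℂ) ((ψ : G → ℂ) (x : G))
        else 0) = ((∑ ψ : IrrCharacter G, (if ψ ∈ B then d ψ * d ψ else 0) : ℕ) : ℂ) := by
      push_cast
      refine Finset.sum_congr rfl fun ψ _ => ?_
      by_cases hψ : ψ ∈ B
      · rw [if_pos hψ, if_pos hψ, hxK ψ hψ, hd ψ, Complex.conj_natCast]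
      · rw [if_neg hψ, if_neg hψ]
    rw [h2] at h1
    have h3 : (∑ ψ : IrrCharacter G, (if ψ ∈ B then d ψ * d ψ else 0)) = 0 := by
      exact_mod_cast h1
    have h4 := (Finset.sum_eq_zero_iff.mp h3) χ (Finset.mem_univ _)
    rw [if_pos hχ] at h4
    have := hdpos χ
    rcases Nat.mul_eq_zero.mp h4 with h | h <;> omega
  · intro g hg
    exact (hKmem g).mp hg χ hχ
  · intro N hNn hNp hNχ n hn
    rw [hKmem]
    intro ψ hψ
    haveI := hNn
    have : Fintype N := Fintype.ofFinite _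
    have hcop : (Nat.card N).Coprime p :=
      Nat.Coprime.symm ((Nat.Prime.coprime_iff_not_dvd hp).mpr hNp)
    have h1 := (Cfsg.Agent.S0939.triv_constituent_iff N χ).mpr hNχ
    have hsame : SameBlock M (χ : G → ℂ) (ψ : G → ℂ) := (mem_block_iff hB hχ ψ).mp hψ
    have h2 := constituent_of_sameBlock p M hM N hcop (χ : G → ℂ) (ψ : G → ℂ) χ.2 ψ.2 hsame
      (fun _ : N => (1 : ℂ)) isIrrCharacter_one h1
    exact (Cfsg.Agent.S0939.triv_constituent_iff N ψ).mp h2 n hn

end Cfsg.Agent.S0938
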