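import Cfsg.Statements.S0187
import Cfsg.Agent.Lib.Helper4.CharOrtho

set_option autoImplicit false
open Cfsg

namespace Cfsg.Agent.S0187

/-- A finite group is commutative if and only if every irreducible complex character has degree 1. -/
theorem result {G : Type*} [Group G] [Finite G] : (∀ a b : G, a * b = b * a) ↔ ∀ χ : Cfsg.IrrCharacter G, (χ : G → ℂ) 1 = 1 := by
  classical
  have : Fintype G := Fintype.ofFinite G
  have : Fintype (Cfsg.IrrCharacter G) := Fintype.ofFinite _
  constructor
  · intro hcomm χ
    obtain ⟨n, ρ, hρ, hχ⟩ := χ.2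
    have : IsMulCommutative G := ⟨⟨hcomm⟩⟩
    have := hρ
    have h1 : Module.finrank ℂ (Fin n → ℂ) = 1 :=
      Representation.IsIrreducible.finrank_eq_one_of_isMulCommutative ρ
    rw [← hχ, Representation.char_one, h1, Nat.cast_one]
  · intro hdeg
    have hsum := Cfsg.Agent.Lib.Helper4.sum_sq_degree (G := G)
    have h1 : ∑ χ : Cfsg.IrrCharacter G, (χ : G → ℂ) 1 ^ 2 =
        (Fintype.card (Cfsg.IrrCharacter G) : ℂ) := by
      rw [Finset.sum_congr rfl (fun χ _ => by rw [hdeg χ, one_pow])]
      simp
    rw [h1] at hsum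
    have h2 : Fintype.card (Cfsg.IrrCharacter G) = Nat.card G := by exact_mod_cast hsum
    have h3 : Nat.card (ConjClasses G) = Nat.card G := by
      rw [← Cfsg.Agent.Lib.Helper4.card_irr_eq_card_conjClasses, Nat.card_eq_fintype_card, h2]
    have hbij : Function.Bijective (ConjClasses.mk : G → ConjClasses G) := by
      rw [Nat.bijective_iff_surjective_and_card]
      exact ⟨ConjClasses.mk_surjective, h3.symm⟩
    intro a b
    have h4 : ConjClasses.mk (a * b * a⁻¹) = ConjClasses.mk b :=
      ConjClasses.mk_eq_mk_iff_isConj.mpr (isConj_iff.mpr ⟨a, rfl⟩).symm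
    have h5 := hbij.1 h4
    calc a * b = a * b * a⁻¹ * a := by group
      _ = b * a := by rw [h5]

end Cfsg.Agent.S0187
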