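import Cfsg.Statements.S0971
import Cfsg.Agent.Lib.Helper4.BlockPassman
import Cfsg.Agent.Lib.Helper4.BlockNilp
import Cfsg.Agent.S4493

set_option autoImplicit false
open Cfsg

namespace Cfsg.Agent.S0971

/-- Let Q be a normal p-subgroup of the finite group G, let N = Q ⊔ C_G(Q) (a normal subgroup) and let b be a block of N relative to a maximal ideal M of the algebraic integers containing p. Then b induces some block of G, and every block B of G containing a character whose restriction to N has a constituent in b is induced by b. -/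
theorem result {G : Type*} [Group G] [Fintype G] (p : ℕ) [Fact p.Prime] (M : Ideal Cfsg.AlgInt) (hM : Cfsg.IsPModular p M) (Q : Subgroup G) [Q.Normal] (hQ : IsPGroup p Q) [Fintype ↥(Q ⊔ Subgroup.centralizer (Q : Set G))] (b : Set (Cfsg.IrrCharacter ↥(Q ⊔ Subgroup.centralizer (Q : Set G)))) (hb : Cfsg.IsPBlock M b) : Cfsg.InducedBlockDefined M (Q ⊔ Subgroup.centralizer (Q : Set G)) b ∧ ∀ B : Set (Cfsg.IrrCharacter G), Cfsg.IsPBlock M B → (∃ χ ∈ B, ∃ θ ∈ b, Cfsg.classInner (fun n : ↥(Q ⊔ Subgroup.centralizer (Q : Set G)) => (χ : G → ℂ) n) (θ : ↥(Q ⊔ Subgroup.centralizer (Q : Set G)) → ℂ) ≠ 0) → Cfsg.IsInducedBlock M (Q ⊔ Subgroup.centralizer (Q : Set G)) b B := by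
  classical
  open Cfsg.Agent.Lib.Helper4 Cfsg.Agent.Lib.Helper28 Cfsg.Agent.Lib.Helper26 in
  have hMprime : M.IsPrime := hM.2.1.isPrime
  have hMtop : M ≠ ⊤ := Ideal.IsPrime.ne_top hMprime
  have hCn : (Subgroup.centralizer (Q : Set G)).Normal := inferInstance
  have hNn : (Q ⊔ Subgroup.centralizer (Q : Set G)).Normal := inferInstance
  have part2 : ∀ B : Set (Cfsg.IrrCharacter G), Cfsg.IsPBlock M B →
      (∃ χ ∈ B, ∃ θ ∈ b, Cfsg.classInner
        (fun n : ↥(Q ⊔ Subgroup.centralizer (Q : Set G)) => (χ : G → ℂ) n)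
        (θ : ↥(Q ⊔ Subgroup.centralizer (Q : Set G)) → ℂ) ≠ 0) →
      Cfsg.IsInducedBlock M (Q ⊔ Subgroup.centralizer (Q : Set G)) b B := by
    rintro B hB ⟨χ0, hχ0, θ0, hθ0, hcon⟩
    refine ⟨hb, hB, fun ξ hξ χ hχ g => ?_⟩
    by_cases hg : g ∈ Q ⊔ Subgroup.centralizer (Q : Set G)
    · have h1 := passman_forward (Q ⊔ Subgroup.centralizer (Q : Set G)) hM hB hb χ0 hχ0 θ0 hθ0
        hcon χ hχ ξ hξ ⟨g, hg⟩
      have h2 := memLocalIdeal_neg h1
      rw [neg_sub] at h2
      exact h2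
    · have h0 : inducedCentralChar (Q ⊔ Subgroup.centralizer (Q : Set G))
          (ξ : ↥(Q ⊔ Subgroup.centralizer (Q : Set G)) → ℂ) g = 0 := by
        rw [Cfsg.Agent.S0933.inducedCentralChar_eq_sum]
        apply Finset.sum_eq_zero
        intro h _
        have : ¬ IsConj g (h : G) := by
          intro hc
          apply hg
          obtain ⟨c, hc⟩ := isConj_iff.mp hc
          have h3 := hNn.conj_mem (h : G) h.2 c⁻¹
          rw [← hc] at h3
          convert h3 using 1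
          group
        rw [if_neg this, zero_mul]
      rw [h0, zero_sub]
      apply memLocalIdeal_neg
      apply centralChar_memLocalIdeal_of_not_centralizer hM Q hQ χ.2 g
      intro hgc
      exact hg (Subgroup.mem_sup_right hgc)
  refine ⟨?_, part2⟩
  obtain ⟨θ, hθ⟩ := block_nonempty hb
  obtain ⟨χ, hχ⟩ := Cfsg.Agent.S4493.exists_over (Q ⊔ Subgroup.centralizer (Q : Set G))
    (θ : ↥(Q ⊔ Subgroup.centralizer (Q : Set G)) → ℂ) θ.2
  exact ⟨blockOf M (χ : G → ℂ), part2 _ ⟨χ, rfl⟩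
    ⟨χ, Cfsg.Agent.Lib.Helper28.sameBlock_refl hMtop _, θ, hθ, hχ⟩⟩

end Cfsg.Agent.S0971
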