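import Cfsg.Statements.S2157
import Mathlib
import Cfsg.Agent.Lib.Helper5.ChevCharB

set_option autoImplicit false
open Cfsg

namespace Cfsg.Agent.S2157

/-- In a Chevalley group of type G₂, B₂, D₄, F₄, E₆, E₇ or E₈, for every character `χ` of the root lattice with values in `Fˣ` the diagonal matrix `ĥ(χ)` (identity on the coroot coordinates, `χ(s)` on the coordinate of `e_s`) conjugates each root element `x_r(t)` to `x_r(χ(r) t)`: `ĥ(χ) x_r(t) ĥ(χ)⁻¹ = x_r(χ(r) t)` as matrices, with `ĥ(χ)⁻¹` written as `ĥ(χ⁻¹)`. -/
theorem result {F : Type*} [Field F] (D : Cfsg.Lie.ChevalleyDatum) (hD : D ∈ [Cfsg.Lie.chevG2, Cfsg.Lie.chevB2, Cfsg.Lie.chevD4, Cfsg.Lie.chevF4, Cfsg.Lie.chevE6, Cfsg.Lie.chevE7, Cfsg.Lie.chevE8]) (χ : ℕ → Fˣ) (hχ : D.IsRootCharacter χ) (r : ℕ) (hr : r < D.nroots) (t : F) :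
    D.charDiag F χ * D.x F r t * D.charDiag F (fun s => (χ s)⁻¹) = D.x F r ((χ r : F) * t) := by
  have hok := Cfsg.Agent.Lib.Helper5.ChevChar.charOK_of_mem D hD
  have hneg : χ (D.negIdx.getD r 0) = (χ r)⁻¹ := hχ.1 r hr
  have hx1 : D.x F r t = D.xMat F ⟨r, hr⟩ t := by
    unfold Cfsg.Lie.ChevalleyDatum.x
    rw [dif_pos hr]
  have hx2 : D.x F r ((χ r : F) * t) = D.xMat F ⟨r, hr⟩ ((χ r : F) * t) := by
    unfold Cfsg.Lie.ChevalleyDatum.x
    rw [dif_pos hr]
  rw [hx1, hx2]
  unfold Cfsg.Lie.ChevalleyDatum.charDiag
  ext i j
  rw [Matrix.mul_diagonal, Matrix.diagonal_mul]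
  unfold Cfsg.Lie.ChevalleyDatum.xMat
  simp only [Matrix.of_apply]
  rcases j with j | s
  · rcases i with i | u
    · simp
    · simp only [Sum.elim_inl, Sum.elim_inr, mul_one]
      split_ifs with h
      · subst h
        ring
      · simp
  · by_cases hsr : s = ⟨r, hr⟩
    · subst hsr
      simp only [if_true]
      rcases i with i | u
      · simp
      · simp only [Sum.elim_inr]
        split_ifs with h
        · subst h
          simp
        · simp
    · simp only [if_neg hsr]
      by_cases hsn : s.val = D.negIdx.getD r 0
      · simp only [if_pos hsn, Sum.elim_inr]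
        have hχs : χ s.val = (χ r)⁻¹ := by rw [hsn]; exact hneg
        rcases i with i | u
        · simp only [Sum.elim_inl, one_mul]
          rw [hχs]
          simp
          ring
        · simp only [Sum.elim_inr]
          by_cases hus : u = s
          · subst hus
            simp
          · simp only [if_neg hus]
            by_cases hur : u = ⟨r, hr⟩
            · subst hur
              simp only [if_true]
              rw [hχs]
              simp
              ring
            · simp [if_neg hur]
      · simp only [if_neg hsn, Sum.elim_inr]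
        rcases i with i | u
        · simp
        · simp only [Sum.elim_inr]
          rw [mul_add, add_mul]
          congr 1
          · by_cases hus : u = s
            · subst hus
              simp
            · simp [if_neg hus]
          · rw [← List.sum_map_mul_left, ← List.sum_map_mul_right]
            congr 1
            apply List.map_congr_left
            intro km hkm
            have := Cfsg.Agent.Lib.Helper5.ChevChar.char_chainCoeff D hok χ hχ r hr s.val u.val km hkm
            rw [this]
            push_cast
            have hne : ((χ s.val : Fˣ) : F) ≠ 0 := Units.ne_zero _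
            field_simp
            ring

end Cfsg.Agent.S2157
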