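-- Statement S1023: additivity of the root elements x_r(t) of the tabulated Chevalley groups.
-- Proof (helper6): sparse polynomial reflection (Lib/Helper6/ChevSparse, ChevFast) and kernel
-- computation on the tables (Lib/Helper6/ChevAdd/*).
import Cfsg.Statements.S1023
import Mathlib
import Cfsg.Agent.Lib.Helper6.ChevAdd.Small
import Cfsg.Agent.Lib.Helper6.ChevAdd.E6
import Cfsg.Agent.Lib.Helper6.ChevAdd.E7_0
import Cfsg.Agent.Lib.Helper6.ChevAdd.E7_63
import Cfsg.Agent.Lib.Helper6.ChevAdd.E8_0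
import Cfsg.Agent.Lib.Helper6.ChevAdd.E8_40
import Cfsg.Agent.Lib.Helper6.ChevAdd.E8_80
import Cfsg.Agent.Lib.Helper6.ChevAdd.E8_120
import Cfsg.Agent.Lib.Helper6.ChevAdd.E8_160
import Cfsg.Agent.Lib.Helper6.ChevAdd.E8_200

set_option autoImplicit false
open Cfsg

namespace Cfsg.Agent.S1023

open Cfsg.Lie Cfsg.Agent.Lib.Helper6.ChevSparse Cfsg.Agent.Lib.Helper6.ChevFast
  Cfsg.Agent.Lib.Helper6.ChevAdd

/-- the additivity check holds for every root of every tabulated datum -/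
theorem addCheck_all (D : Cfsg.Lie.ChevalleyDatum) (hD : D ∈ [Cfsg.Lie.chevG2, Cfsg.Lie.chevB2, Cfsg.Lie.chevD4, Cfsg.Lie.chevF4, Cfsg.Lie.chevE6, Cfsg.Lie.chevE7, Cfsg.Lie.chevE8]) (r : ℕ) (hr : r < D.nroots) :
    addCheckR D r := by
  apply addCheckR_of_fast
  simp only [List.mem_cons, List.not_mem_nil, or_false] at hD
  rcases hD with rfl | rfl | rfl | rfl | rfl | rfl | rfl
  · exact addG2_0_12 r (Nat.zero_le _) hr
  · exact addB2_0_8 r (Nat.zero_le _) hr
  · exact addD4_0_24 r (Nat.zero_le _) hr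
  · exact addF4_0_48 r (Nat.zero_le _) hr
  · exact addE6_0_72 r (Nat.zero_le _) hr
  · have hr' : r < 126 := hr
    by_cases h1 : r < 63
    · exact addE7_0_63 r (Nat.zero_le _) h1
    · exact addE7_63_126 r (by omega) hr'
  · have hr' : r < 240 := hr
    by_cases h1 : r < 40
    · exact addE8_0_40 r (Nat.zero_le _) h1
    by_cases h2 : r < 80
    · exact addE8_40_80 r (by omega) h2
    by_cases h3 : r < 120
    · exact addE8_80_120 r (by omega) h3
    by_cases h4 : r < 160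
    · exact addE8_120_160 r (by omega) h4
    by_cases h5 : r < 200
    · exact addE8_160_200 r (by omega) h5
    exact addE8_200_240 r (by omega) hr'

/-- `x_r(t₁) x_r(t₂) = x_r(t₁ + t₂)`. -/
theorem result {F : Type*} [Field F] (D : Cfsg.Lie.ChevalleyDatum) (hD : D ∈ [Cfsg.Lie.chevG2, Cfsg.Lie.chevB2, Cfsg.Lie.chevD4, Cfsg.Lie.chevF4, Cfsg.Lie.chevE6, Cfsg.Lie.chevE7, Cfsg.Lie.chevE8]) (r : ℕ) (hr : r < D.nroots) (t₁ t₂ : F) :
    D.x F r t₁ * D.x F r t₂ = D.x F r (t₁ + t₂) :=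
  x_add_of_check D r hr (addCheck_all D hD r hr) t₁ t₂

end Cfsg.Agent.S1023
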