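-- Statement S1031: n_p x_s(t) n_p^-1 = x_{w_p(s)}(eta t) for a fundamental root p.
-- Proof (helper6): n_p(1) is identified with an explicit integer table matrix, and the relation
-- T x_s(X) = x_{w_p s}(eta X) T is checked column by column by kernel computation
-- (engine: Lib/Helper6/ChevSparse, ChevFast, ChevCols, ChevConj; data: Lib/Helper6/ChevN).
import Cfsg.Statements.S1031
import Mathlib
import Cfsg.Agent.Lib.Helper6.ChevN.Small
import Cfsg.Agent.Lib.Helper6.ChevN.E6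
import Cfsg.Agent.Lib.Helper6.ChevN.E7_0
import Cfsg.Agent.Lib.Helper6.ChevN.E7_1
import Cfsg.Agent.Lib.Helper6.ChevN.E7_2
import Cfsg.Agent.Lib.Helper6.ChevN.E7_3
import Cfsg.Agent.Lib.Helper6.ChevN.E7_4
import Cfsg.Agent.Lib.Helper6.ChevN.E7_5
import Cfsg.Agent.Lib.Helper6.ChevN.E7_6
import Cfsg.Agent.Lib.Helper6.ChevN.E8_0a
import Cfsg.Agent.Lib.Helper6.ChevN.E8_0b
import Cfsg.Agent.Lib.Helper6.ChevN.E8_1a
import Cfsg.Agent.Lib.Helper6.ChevN.E8_1b
import Cfsg.Agent.Lib.Helper6.ChevN.E8_2a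
import Cfsg.Agent.Lib.Helper6.ChevN.E8_2b
import Cfsg.Agent.Lib.Helper6.ChevN.E8_3a
import Cfsg.Agent.Lib.Helper6.ChevN.E8_3b
import Cfsg.Agent.Lib.Helper6.ChevN.E8_4a
import Cfsg.Agent.Lib.Helper6.ChevN.E8_4b
import Cfsg.Agent.Lib.Helper6.ChevN.E8_5a
import Cfsg.Agent.Lib.Helper6.ChevN.E8_5b
import Cfsg.Agent.Lib.Helper6.ChevN.E8_6a
import Cfsg.Agent.Lib.Helper6.ChevN.E8_6b
import Cfsg.Agent.Lib.Helper6.ChevN.E8_7a
import Cfsg.Agent.Lib.Helper6.ChevN.E8_7b

set_option autoImplicit false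
open Cfsg

namespace Cfsg.Agent.S1031

open Cfsg.Lie Cfsg.Agent.Lib.Helper6.ChevConj Cfsg.Agent.Lib.Helper6.ChevN

theorem pack {F : Type*} [Field F] (D : ChevalleyDatum) (i s : ℕ)
    (h : ∃ η : ℤ, (η = 1 ∨ η = -1) ∧ D.reflectRoot i s < D.nroots ∧
      ∀ t : F, D.nMat F (D.simple i) 1 * D.x F s t
        = D.x F (D.reflectRoot i s) ((η : F) * t) * D.nMat F (D.simple i) 1) :
    ∃ η : ℤ, (η = 1 ∨ η = -1) ∧
      ∀ t : F, D.nMat F (D.simple i) 1 * D.x F s t
        = D.x F (D.reflectRoot i s) ((η : F) * t) * D.nMat F (D.simple i) 1 := by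
  obtain ⟨η, h1, _, h3⟩ := h
  exact ⟨η, h1, h3⟩

theorem fin_G2 {F : Type*} [Field F] (i s : ℕ) (hi : i < 2) (hs : s < 12) :
    ∃ η : ℤ, (η = 1 ∨ η = -1) ∧ (chevG2).reflectRoot i s < (chevG2).nroots ∧
      ∀ t : F, (chevG2).nMat F ((chevG2).simple i) 1 * (chevG2).x F s t
        = (chevG2).x F ((chevG2).reflectRoot i s) ((η : F) * t)
          * (chevG2).nMat F ((chevG2).simple i) 1 := by
  have hs' : s < (chevG2).nroots := hs
  interval_cases i
  · exact n_conj_of_check chevG2 tabG2_0 0 s hs' tabCheckG2_0 (conjG2_0 s (Nat.zero_le _) hs)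
  · exact n_conj_of_check chevG2 tabG2_1 1 s hs' tabCheckG2_1 (conjG2_1 s (Nat.zero_le _) hs)

theorem fin_B2 {F : Type*} [Field F] (i s : ℕ) (hi : i < 2) (hs : s < 8) :
    ∃ η : ℤ, (η = 1 ∨ η = -1) ∧ (chevB2).reflectRoot i s < (chevB2).nroots ∧
      ∀ t : F, (chevB2).nMat F ((chevB2).simple i) 1 * (chevB2).x F s t
        = (chevB2).x F ((chevB2).reflectRoot i s) ((η : F) * t)
          * (chevB2).nMat F ((chevB2).simple i) 1 := by
  have hs' : s < (chevB2).nroots := hs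
  interval_cases i
  · exact n_conj_of_check chevB2 tabB2_0 0 s hs' tabCheckB2_0 (conjB2_0 s (Nat.zero_le _) hs)
  · exact n_conj_of_check chevB2 tabB2_1 1 s hs' tabCheckB2_1 (conjB2_1 s (Nat.zero_le _) hs)

theorem fin_D4 {F : Type*} [Field F] (i s : ℕ) (hi : i < 4) (hs : s < 24) :
    ∃ η : ℤ, (η = 1 ∨ η = -1) ∧ (chevD4).reflectRoot i s < (chevD4).nroots ∧
      ∀ t : F, (chevD4).nMat F ((chevD4).simple i) 1 * (chevD4).x F s t
        = (chevD4).x F ((chevD4).reflectRoot i s) ((η : F) * t)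
          * (chevD4).nMat F ((chevD4).simple i) 1 := by
  have hs' : s < (chevD4).nroots := hs
  interval_cases i
  · exact n_conj_of_check chevD4 tabD4_0 0 s hs' tabCheckD4_0 (conjD4_0 s (Nat.zero_le _) hs)
  · exact n_conj_of_check chevD4 tabD4_1 1 s hs' tabCheckD4_1 (conjD4_1 s (Nat.zero_le _) hs)
  · exact n_conj_of_check chevD4 tabD4_2 2 s hs' tabCheckD4_2 (conjD4_2 s (Nat.zero_le _) hs)
  · exact n_conj_of_check chevD4 tabD4_3 3 s hs' tabCheckD4_3 (conjD4_3 s (Nat.zero_le _) hs)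

theorem fin_F4 {F : Type*} [Field F] (i s : ℕ) (hi : i < 4) (hs : s < 48) :
    ∃ η : ℤ, (η = 1 ∨ η = -1) ∧ (chevF4).reflectRoot i s < (chevF4).nroots ∧
      ∀ t : F, (chevF4).nMat F ((chevF4).simple i) 1 * (chevF4).x F s t
        = (chevF4).x F ((chevF4).reflectRoot i s) ((η : F) * t)
          * (chevF4).nMat F ((chevF4).simple i) 1 := by
  have hs' : s < (chevF4).nroots := hs
  interval_cases i
  · exact n_conj_of_check chevF4 tabF4_0 0 s hs' tabCheckF4_0 (conjF4_0 s (Nat.zero_le _) hs)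
  · exact n_conj_of_check chevF4 tabF4_1 1 s hs' tabCheckF4_1 (conjF4_1 s (Nat.zero_le _) hs)
  · exact n_conj_of_check chevF4 tabF4_2 2 s hs' tabCheckF4_2 (conjF4_2 s (Nat.zero_le _) hs)
  · exact n_conj_of_check chevF4 tabF4_3 3 s hs' tabCheckF4_3 (conjF4_3 s (Nat.zero_le _) hs)

theorem fin_E6 {F : Type*} [Field F] (i s : ℕ) (hi : i < 6) (hs : s < 72) :
    ∃ η : ℤ, (η = 1 ∨ η = -1) ∧ (chevE6).reflectRoot i s < (chevE6).nroots ∧
      ∀ t : F, (chevE6).nMat F ((chevE6).simple i) 1 * (chevE6).x F s t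
        = (chevE6).x F ((chevE6).reflectRoot i s) ((η : F) * t)
          * (chevE6).nMat F ((chevE6).simple i) 1 := by
  have hs' : s < (chevE6).nroots := hs
  interval_cases i
  · exact n_conj_of_check chevE6 tabE6_0 0 s hs' tabCheckE6_0 (conjE6_0 s (Nat.zero_le _) hs)
  · exact n_conj_of_check chevE6 tabE6_1 1 s hs' tabCheckE6_1 (conjE6_1 s (Nat.zero_le _) hs)
  · exact n_conj_of_check chevE6 tabE6_2 2 s hs' tabCheckE6_2 (conjE6_2 s (Nat.zero_le _) hs)
  · exact n_conj_of_check chevE6 tabE6_3 3 s hs' tabCheckE6_3 (conjE6_3 s (Nat.zero_le _) hs)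
  · exact n_conj_of_check chevE6 tabE6_4 4 s hs' tabCheckE6_4 (conjE6_4 s (Nat.zero_le _) hs)
  · exact n_conj_of_check chevE6 tabE6_5 5 s hs' tabCheckE6_5 (conjE6_5 s (Nat.zero_le _) hs)

theorem fin_E7 {F : Type*} [Field F] (i s : ℕ) (hi : i < 7) (hs : s < 126) :
    ∃ η : ℤ, (η = 1 ∨ η = -1) ∧ (chevE7).reflectRoot i s < (chevE7).nroots ∧
      ∀ t : F, (chevE7).nMat F ((chevE7).simple i) 1 * (chevE7).x F s t
        = (chevE7).x F ((chevE7).reflectRoot i s) ((η : F) * t)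
          * (chevE7).nMat F ((chevE7).simple i) 1 := by
  have hs' : s < (chevE7).nroots := hs
  interval_cases i
  · exact n_conj_of_check chevE7 tabE7_0 0 s hs' tabCheckE7_0 (conjE7_0 s (Nat.zero_le _) hs)
  · exact n_conj_of_check chevE7 tabE7_1 1 s hs' tabCheckE7_1 (conjE7_1 s (Nat.zero_le _) hs)
  · exact n_conj_of_check chevE7 tabE7_2 2 s hs' tabCheckE7_2 (conjE7_2 s (Nat.zero_le _) hs)
  · exact n_conj_of_check chevE7 tabE7_3 3 s hs' tabCheckE7_3 (conjE7_3 s (Nat.zero_le _) hs)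
  · exact n_conj_of_check chevE7 tabE7_4 4 s hs' tabCheckE7_4 (conjE7_4 s (Nat.zero_le _) hs)
  · exact n_conj_of_check chevE7 tabE7_5 5 s hs' tabCheckE7_5 (conjE7_5 s (Nat.zero_le _) hs)
  · exact n_conj_of_check chevE7 tabE7_6 6 s hs' tabCheckE7_6 (conjE7_6 s (Nat.zero_le _) hs)

theorem fin_E8 {F : Type*} [Field F] (i s : ℕ) (hi : i < 8) (hs : s < 240) :
    ∃ η : ℤ, (η = 1 ∨ η = -1) ∧ (chevE8).reflectRoot i s < (chevE8).nroots ∧
      ∀ t : F, (chevE8).nMat F ((chevE8).simple i) 1 * (chevE8).x F s t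
        = (chevE8).x F ((chevE8).reflectRoot i s) ((η : F) * t)
          * (chevE8).nMat F ((chevE8).simple i) 1 := by
  have hs' : s < (chevE8).nroots := hs
  interval_cases i
  · by_cases h : s < 120
    · exact n_conj_of_check chevE8 tabE8_0 0 s hs' tabCheckE8_0 (conjE8_0a s (Nat.zero_le _) h)
    · exact n_conj_of_check chevE8 tabE8_0 0 s hs' tabCheckE8_0 (conjE8_0b s (by omega) hs)
  · by_cases h : s < 120
    · exact n_conj_of_check chevE8 tabE8_1 1 s hs' tabCheckE8_1 (conjE8_1a s (Nat.zero_le _) h)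
    · exact n_conj_of_check chevE8 tabE8_1 1 s hs' tabCheckE8_1 (conjE8_1b s (by omega) hs)
  · by_cases h : s < 120
    · exact n_conj_of_check chevE8 tabE8_2 2 s hs' tabCheckE8_2 (conjE8_2a s (Nat.zero_le _) h)
    · exact n_conj_of_check chevE8 tabE8_2 2 s hs' tabCheckE8_2 (conjE8_2b s (by omega) hs)
  · by_cases h : s < 120
    · exact n_conj_of_check chevE8 tabE8_3 3 s hs' tabCheckE8_3 (conjE8_3a s (Nat.zero_le _) h)
    · exact n_conj_of_check chevE8 tabE8_3 3 s hs' tabCheckE8_3 (conjE8_3b s (by omega) hs)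
  · by_cases h : s < 120
    · exact n_conj_of_check chevE8 tabE8_4 4 s hs' tabCheckE8_4 (conjE8_4a s (Nat.zero_le _) h)
    · exact n_conj_of_check chevE8 tabE8_4 4 s hs' tabCheckE8_4 (conjE8_4b s (by omega) hs)
  · by_cases h : s < 120
    · exact n_conj_of_check chevE8 tabE8_5 5 s hs' tabCheckE8_5 (conjE8_5a s (Nat.zero_le _) h)
    · exact n_conj_of_check chevE8 tabE8_5 5 s hs' tabCheckE8_5 (conjE8_5b s (by omega) hs)
  · by_cases h : s < 120
    · exact n_conj_of_check chevE8 tabE8_6 6 s hs' tabCheckE8_6 (conjE8_6a s (Nat.zero_le _) h)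
    · exact n_conj_of_check chevE8 tabE8_6 6 s hs' tabCheckE8_6 (conjE8_6b s (by omega) hs)
  · by_cases h : s < 120
    · exact n_conj_of_check chevE8 tabE8_7 7 s hs' tabCheckE8_7 (conjE8_7a s (Nat.zero_le _) h)
    · exact n_conj_of_check chevE8 tabE8_7 7 s hs' tabCheckE8_7 (conjE8_7b s (by omega) hs)

/-- the statement together with the fact that the reflected root is in range -/
theorem full {F : Type*} [Field F] (D : Cfsg.Lie.ChevalleyDatum) (hD : D ∈ [Cfsg.Lie.chevG2, Cfsg.Lie.chevB2, Cfsg.Lie.chevD4, Cfsg.Lie.chevF4, Cfsg.Lie.chevE6, Cfsg.Lie.chevE7, Cfsg.Lie.chevE8]) (i s : ℕ) (hi : i < D.rank) (hs : s < D.nroots) :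
    ∃ η : ℤ, (η = 1 ∨ η = -1) ∧ D.reflectRoot i s < D.nroots ∧
      ∀ t : F, D.nMat F (D.simple i) 1 * D.x F s t = D.x F (D.reflectRoot i s) ((η : F) * t) * D.nMat F (D.simple i) 1 := by
  simp only [List.mem_cons, List.not_mem_nil, or_false] at hD
  rcases hD with rfl | rfl | rfl | rfl | rfl | rfl | rfl
  · exact fin_G2 i s hi hs
  · exact fin_B2 i s hi hs
  · exact fin_D4 i s hi hs
  · exact fin_F4 i s hi hs
  · exact fin_E6 i s hi hs
  · exact fin_E7 i s hi hs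
  · exact fin_E8 i s hi hs

/-- For a fundamental root `p = p_{i+1}` and any root `s`: `n_p x_s(t) n_p⁻¹ = x_{w_p(s)}(η t)` with a sign `η = ±1` independent of `t`, where `w_p(s)` is the reflected root (`reflectRoot`). Stated as `n_p x_s(t) = x_{w_p(s)}(η t) n_p`. -/
theorem result {F : Type*} [Field F] (D : Cfsg.Lie.ChevalleyDatum) (hD : D ∈ [Cfsg.Lie.chevG2, Cfsg.Lie.chevB2, Cfsg.Lie.chevD4, Cfsg.Lie.chevF4, Cfsg.Lie.chevE6, Cfsg.Lie.chevE7, Cfsg.Lie.chevE8]) (i s : ℕ) (hi : i < D.rank) (hs : s < D.nroots) :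
    ∃ η : ℤ, (η = 1 ∨ η = -1) ∧
      ∀ t : F, D.nMat F (D.simple i) 1 * D.x F s t = D.x F (D.reflectRoot i s) ((η : F) * t) * D.nMat F (D.simple i) 1 :=
  pack D i s (full D hD i s hi hs)

end Cfsg.Agent.S1031
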