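-- Statement S1053: a representative n0 of the longest Weyl group element conjugates U onto V.
-- Proof (helper6): n0 is the product of the n_p along an explicit word; by S1031 conjugation
-- by n_p sends x_s(t) to x_{w_p s}(+-t), and a kernel computation checks that the root map of
-- the word sends the positive roots onto the negative roots (Lib/Helper6/ChevWeyl).
import Cfsg.Statements.S1053
import Mathlib
import Cfsg.Agent.Lib.Helper6.ChevWeyl
import Cfsg.Agent.Lib.Helper6.ChevW0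
import Cfsg.Agent.S1023
import Cfsg.Agent.S1024
import Cfsg.Agent.S1031

set_option autoImplicit false
open Cfsg

namespace Cfsg.Agent.S1053

open Cfsg.Lie Cfsg.Agent.Lib.Helper6.ChevWeyl Cfsg.Agent.Lib.Helper6.ChevW0

theorem hyp {F : Type*} [Field F] (D : ChevalleyDatum) (hD : D ∈ [Cfsg.Lie.chevG2, Cfsg.Lie.chevB2, Cfsg.Lie.chevD4, Cfsg.Lie.chevF4, Cfsg.Lie.chevE6, Cfsg.Lie.chevE7, Cfsg.Lie.chevE8])
    (w : List ℕ) (hc : w0CheckA D w) : Hyp D F where
  add := fun r hr t₁ t₂ => Cfsg.Agent.S1023.result D hD r hr t₁ t₂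
  zero := fun r hr => (Cfsg.Agent.S1024.result D hD r hr 0).mpr rfl
  conj := fun i s hi hs => Cfsg.Agent.S1031.full D hD i s hi hs
  simple_lt := fun i hi => hc.2 i (List.mem_range.mpr hi)

/-- the facts about root elements, for every datum of the list -/
theorem hyp_all {F : Type*} [Field F] (D : ChevalleyDatum) (hD : D ∈ [Cfsg.Lie.chevG2, Cfsg.Lie.chevB2, Cfsg.Lie.chevD4, Cfsg.Lie.chevF4, Cfsg.Lie.chevE6, Cfsg.Lie.chevE7, Cfsg.Lie.chevE8]) :
    Hyp D F := by
  have hD' := hD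
  simp only [List.mem_cons, List.not_mem_nil, or_false] at hD'
  rcases hD' with rfl | rfl | rfl | rfl | rfl | rfl | rfl
  · exact hyp _ hD _ checkA_G2
  · exact hyp _ hD _ checkA_B2
  · exact hyp _ hD _ checkA_D4
  · exact hyp _ hD _ checkA_F4
  · exact hyp _ hD _ checkA_E6
  · exact hyp _ hD _ checkA_E7
  · exact hyp _ hD _ checkA_E8

/-- There is `n₀ ∈ N` with `n₀ U n₀⁻¹ = V` (a representative of the longest element of the Weyl group). -/
theorem result {F : Type*} [Field F] (D : Cfsg.Lie.ChevalleyDatum) (hD : D ∈ [Cfsg.Lie.chevG2, Cfsg.Lie.chevB2, Cfsg.Lie.chevD4, Cfsg.Lie.chevF4, Cfsg.Lie.chevE6, Cfsg.Lie.chevE7, Cfsg.Lie.chevE8]) :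
    ∃ n ∈ D.monomialSubgroup F, (D.posUnipotent F).map (MulAut.conj n).toMonoidHom = D.negUnipotent F := by
  have hD' := hD
  simp only [List.mem_cons, List.not_mem_nil, or_false] at hD'
  rcases hD' with rfl | rfl | rfl | rfl | rfl | rfl | rfl
  · exact exists_conj_of_check (hyp _ hD _ checkA_G2) rtG2 w0G2 checkA_G2 rcheck_G2 checkC_G2 checkD_G2
  · exact exists_conj_of_check (hyp _ hD _ checkA_B2) rtB2 w0B2 checkA_B2 rcheck_B2 checkC_B2 checkD_B2
  · exact exists_conj_of_check (hyp _ hD _ checkA_D4) rtD4 w0D4 checkA_D4 rcheck_D4 checkC_D4 checkD_D4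
  · exact exists_conj_of_check (hyp _ hD _ checkA_F4) rtF4 w0F4 checkA_F4 rcheck_F4 checkC_F4 checkD_F4
  · exact exists_conj_of_check (hyp _ hD _ checkA_E6) rtE6 w0E6 checkA_E6 rcheck_E6 checkC_E6 checkD_E6
  · exact exists_conj_of_check (hyp _ hD _ checkA_E7) rtE7 w0E7 checkA_E7 rcheck_E7 checkC_E7 checkD_E7
  · exact exists_conj_of_check (hyp _ hD _ checkA_E8) rtE8 w0E8 checkA_E8 rcheck_E8 checkC_E8 checkD_E8

end Cfsg.Agent.S1053
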