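-- Statement S1045: for a fundamental root p the subgroup U_p generated by the X_s, s positive,
-- s different from p, is normalised by X_p and X_{-p}, and U = U_p sup X_p.
-- Proof (helper6): the commutator formula for the pairs (p, s) is checked column by column by
-- kernel computation (Lib/Helper6/ChevNorm, ChevNormData); n_p normalises U_p by S1031 and
-- X_{-p} = n_p X_p n_p^-1.
import Cfsg.Statements.S1045
import Mathlib
import Cfsg.Agent.Lib.Helper6.ChevNorm
import Cfsg.Agent.Lib.Helper6.ChevNormData.Small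
import Cfsg.Agent.Lib.Helper6.ChevNormData.E6
import Cfsg.Agent.Lib.Helper6.ChevNormData.E7_0
import Cfsg.Agent.Lib.Helper6.ChevNormData.E7_1
import Cfsg.Agent.Lib.Helper6.ChevNormData.E7_2
import Cfsg.Agent.Lib.Helper6.ChevNormData.E7_3
import Cfsg.Agent.Lib.Helper6.ChevNormData.E7_4
import Cfsg.Agent.Lib.Helper6.ChevNormData.E7_5
import Cfsg.Agent.Lib.Helper6.ChevNormData.E7_6
import Cfsg.Agent.Lib.Helper6.ChevNormData.E8_0
import Cfsg.Agent.Lib.Helper6.ChevNormData.E8_1
import Cfsg.Agent.Lib.Helper6.ChevNormData.E8_2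
import Cfsg.Agent.Lib.Helper6.ChevNormData.E8_3
import Cfsg.Agent.Lib.Helper6.ChevNormData.E8_4
import Cfsg.Agent.Lib.Helper6.ChevNormData.E8_5
import Cfsg.Agent.Lib.Helper6.ChevNormData.E8_6
import Cfsg.Agent.Lib.Helper6.ChevNormData.E8_7
import Cfsg.Agent.S1053

set_option autoImplicit false
open Cfsg

namespace Cfsg.Agent.S1045

open Cfsg.Lie Cfsg.Agent.Lib.Helper6.ChevWeyl Cfsg.Agent.Lib.Helper6.ChevNorm
  Cfsg.Agent.Lib.Helper6.ChevNormData

/-- the fundamental roots are positive -/
def simplePos (D : ChevalleyDatum) : Prop := ∀ i ∈ List.range D.rank, D.IsPosRoot (D.simple i)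

instance (D : ChevalleyDatum) : Decidable (simplePos D) := by
  unfold simplePos; infer_instance

set_option maxHeartbeats 0 in
set_option maxRecDepth 100000 in
theorem simplePos_G2 : simplePos chevG2 := by
  decide +kernel

set_option maxHeartbeats 0 in
set_option maxRecDepth 100000 in
theorem simplePos_B2 : simplePos chevB2 := by
  decide +kernel

set_option maxHeartbeats 0 in
set_option maxRecDepth 100000 in
theorem simplePos_D4 : simplePos chevD4 := by
  decide +kernel

set_option maxHeartbeats 0 in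
set_option maxRecDepth 100000 in
theorem simplePos_F4 : simplePos chevF4 := by
  decide +kernel

set_option maxHeartbeats 0 in
set_option maxRecDepth 100000 in
theorem simplePos_E6 : simplePos chevE6 := by
  decide +kernel

set_option maxHeartbeats 0 in
set_option maxRecDepth 100000 in
theorem simplePos_E7 : simplePos chevE7 := by
  decide +kernel

set_option maxHeartbeats 0 in
set_option maxRecDepth 100000 in
theorem simplePos_E8 : simplePos chevE8 := by
  decide +kernel

theorem main {F : Type*} [Field F] (D : ChevalleyDatum) (h : Hyp D F) (i : ℕ) (hi : i < D.rank)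
    (hc : ∀ s, s < D.nroots → normCheck D i s) (hr : reflCheck D i) (hp : simplePos D) :
    D.rootSubgroup F (D.simple i) ⊔ D.rootSubgroup F (D.neg (D.simple i)) ≤
        Subgroup.normalizer (Subgroup.closure {g : GL D.Idx F | ∃ (s : ℕ) (t : F), D.IsPosRoot s ∧ s ≠ D.simple i ∧
          (g : Matrix D.Idx D.Idx F) = D.x F s t} : Set (GL D.Idx F)) ∧
      Subgroup.closure {g : GL D.Idx F | ∃ (s : ℕ) (t : F), D.IsPosRoot s ∧ s ≠ D.simple i ∧
          (g : Matrix D.Idx D.Idx F) = D.x F s t} ⊔ D.rootSubgroup F (D.simple i) = D.posUnipotent F :=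
  ⟨rootSubgroups_le_normalizer h i hi hc hr, Up_sup_rootSubgroup i (hp i (List.mem_range.mpr hi))⟩

/-- For a fundamental root `p`, the subgroup `U_p` generated by the `X_s`, `s` positive and `s ≠ p`, is normalised by `X_p` and `X_{-p}`, and `U = U_p ⊔ X_p`. -/
theorem result {F : Type*} [Field F] (D : Cfsg.Lie.ChevalleyDatum) (hD : D ∈ [Cfsg.Lie.chevG2, Cfsg.Lie.chevB2, Cfsg.Lie.chevD4, Cfsg.Lie.chevF4, Cfsg.Lie.chevE6, Cfsg.Lie.chevE7, Cfsg.Lie.chevE8]) (i : ℕ) (hi : i < D.rank) :
    D.rootSubgroup F (D.simple i) ⊔ D.rootSubgroup F (D.neg (D.simple i)) ≤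
        Subgroup.normalizer (Subgroup.closure {g : GL D.Idx F | ∃ (s : ℕ) (t : F), D.IsPosRoot s ∧ s ≠ D.simple i ∧
          (g : Matrix D.Idx D.Idx F) = D.x F s t} : Set (GL D.Idx F)) ∧
      Subgroup.closure {g : GL D.Idx F | ∃ (s : ℕ) (t : F), D.IsPosRoot s ∧ s ≠ D.simple i ∧
          (g : Matrix D.Idx D.Idx F) = D.x F s t} ⊔ D.rootSubgroup F (D.simple i) = D.posUnipotent F := by
  have h : Hyp D F := Cfsg.Agent.S1053.hyp_all D hD
  have hD' := hD
  simp only [List.mem_cons, List.not_mem_nil, or_false] at hD'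
  rcases hD' with rfl | rfl | rfl | rfl | rfl | rfl | rfl
  · have hi' : i < 2 := hi
    interval_cases i
    · exact main _ h 0 hi (fun s hs => ncG2_0 s hs) reflG2_0 simplePos_G2
    · exact main _ h 1 hi (fun s hs => ncG2_1 s hs) reflG2_1 simplePos_G2
  · have hi' : i < 2 := hi
    interval_cases i
    · exact main _ h 0 hi (fun s hs => ncB2_0 s hs) reflB2_0 simplePos_B2
    · exact main _ h 1 hi (fun s hs => ncB2_1 s hs) reflB2_1 simplePos_B2
  · have hi' : i < 4 := hi
    interval_cases i
    · exact main _ h 0 hi (fun s hs => ncD4_0 s hs) reflD4_0 simplePos_D4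
    · exact main _ h 1 hi (fun s hs => ncD4_1 s hs) reflD4_1 simplePos_D4
    · exact main _ h 2 hi (fun s hs => ncD4_2 s hs) reflD4_2 simplePos_D4
    · exact main _ h 3 hi (fun s hs => ncD4_3 s hs) reflD4_3 simplePos_D4
  · have hi' : i < 4 := hi
    interval_cases i
    · exact main _ h 0 hi (fun s hs => ncF4_0 s hs) reflF4_0 simplePos_F4
    · exact main _ h 1 hi (fun s hs => ncF4_1 s hs) reflF4_1 simplePos_F4
    · exact main _ h 2 hi (fun s hs => ncF4_2 s hs) reflF4_2 simplePos_F4
    · exact main _ h 3 hi (fun s hs => ncF4_3 s hs) reflF4_3 simplePos_F4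
  · have hi' : i < 6 := hi
    interval_cases i
    · exact main _ h 0 hi (fun s hs => ncE6_0 s hs) reflE6_0 simplePos_E6
    · exact main _ h 1 hi (fun s hs => ncE6_1 s hs) reflE6_1 simplePos_E6
    · exact main _ h 2 hi (fun s hs => ncE6_2 s hs) reflE6_2 simplePos_E6
    · exact main _ h 3 hi (fun s hs => ncE6_3 s hs) reflE6_3 simplePos_E6
    · exact main _ h 4 hi (fun s hs => ncE6_4 s hs) reflE6_4 simplePos_E6
    · exact main _ h 5 hi (fun s hs => ncE6_5 s hs) reflE6_5 simplePos_E6
  · have hi' : i < 7 := hi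
    interval_cases i
    · exact main _ h 0 hi (fun s hs => ncE7_0 s hs) reflE7_0 simplePos_E7
    · exact main _ h 1 hi (fun s hs => ncE7_1 s hs) reflE7_1 simplePos_E7
    · exact main _ h 2 hi (fun s hs => ncE7_2 s hs) reflE7_2 simplePos_E7
    · exact main _ h 3 hi (fun s hs => ncE7_3 s hs) reflE7_3 simplePos_E7
    · exact main _ h 4 hi (fun s hs => ncE7_4 s hs) reflE7_4 simplePos_E7
    · exact main _ h 5 hi (fun s hs => ncE7_5 s hs) reflE7_5 simplePos_E7
    · exact main _ h 6 hi (fun s hs => ncE7_6 s hs) reflE7_6 simplePos_E7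
  · have hi' : i < 8 := hi
    interval_cases i
    · exact main _ h 0 hi (fun s hs => ncE8_0 s hs) reflE8_0 simplePos_E8
    · exact main _ h 1 hi (fun s hs => ncE8_1 s hs) reflE8_1 simplePos_E8
    · exact main _ h 2 hi (fun s hs => ncE8_2 s hs) reflE8_2 simplePos_E8
    · exact main _ h 3 hi (fun s hs => ncE8_3 s hs) reflE8_3 simplePos_E8
    · exact main _ h 4 hi (fun s hs => ncE8_4 s hs) reflE8_4 simplePos_E8
    · exact main _ h 5 hi (fun s hs => ncE8_5 s hs) reflE8_5 simplePos_E8
    · exact main _ h 6 hi (fun s hs => ncE8_6 s hs) reflE8_6 simplePos_E8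
    · exact main _ h 7 hi (fun s hs => ncE8_7 s hs) reflE8_7 simplePos_E8

end Cfsg.Agent.S1045
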