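import Cfsg.Statements.S1032
import Mathlib
import Cfsg.Agent.Lib.Helper5.ChevSymG
import Cfsg.Agent.Lib.Helper5.ChevSymJ
import Cfsg.Agent.S2157

set_option autoImplicit false
open Cfsg

namespace Cfsg.Agent.S1032

/-- For a fundamental root `p`, a root `s` and `c ≠ 0`: `h_p(c) x_s(t) h_p(c)⁻¹ = x_s(c^{A_{p,s}} t)`, stated as `h_p(c) x_s(t) = x_s(c^{A_{p,s}} t) h_p(c)`. -/
theorem result {F : Type*} [Field F] (D : Cfsg.Lie.ChevalleyDatum) (hD : D ∈ [Cfsg.Lie.chevG2, Cfsg.Lie.chevB2, Cfsg.Lie.chevD4, Cfsg.Lie.chevF4, Cfsg.Lie.chevE6, Cfsg.Lie.chevE7, Cfsg.Lie.chevE8]) (i s : ℕ) (hi : i < D.rank) (hs : s < D.nroots) (c : F) (hc : c ≠ 0) (t : F) :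
    D.hMat F (D.simple i) c * D.x F s t = D.x F s (c ^ (D.cartan i s) * t) * D.hMat F (D.simple i) c := by
  have hdiag := Cfsg.Agent.Lib.Helper5.ChevSym.hMat_simple D hD i hi c hc
  set χ : ℕ → Fˣ := fun s => (Units.mk0 c hc) ^ D.cartan i s with hχdef
  have hχ : D.IsRootCharacter χ :=
    Cfsg.Agent.Lib.Helper5.ChevSym.isRootCharacter_cartan D hD i hi (Units.mk0 c hc)
  have hch : D.hMat F (D.simple i) c = D.charDiag F χ := by
    rw [hdiag]
    unfold Cfsg.Lie.ChevalleyDatum.charDiag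
    congr 1
    funext j
    rcases j with j | s
    · rfl
    · simp [hχdef]
  have h2157 := Cfsg.Agent.S2157.result D hD χ hχ s hs t
  have hinv := Cfsg.Agent.Lib.Helper5.ChevSym.charDiag_mul_inv D χ
  have hχs : ((χ s : Fˣ) : F) = c ^ D.cartan i s := by simp [hχdef]
  rw [hch, ← hχs, ← h2157, Matrix.mul_assoc, hinv, Matrix.mul_one]

end Cfsg.Agent.S1032
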