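-- Statement S1052: the Chevalley groups are perfect (except G2 and B2 over the field of two elements).
-- Proof (helper6): every root element is a commutator: for D4, F4, E6, E7, E8 by a single-term
-- commutator relation x_b(u) x_a(t) = x_a(t) x_b(u) x_s(+-tu) checked by kernel computation; for
-- G2 and B2 by torus elements h_p(c) (S1032) acting non-trivially on X_s, and for the long roots of
-- B2 over the field of three elements by a commutator relation with coefficient +-2.
import Cfsg.Statements.S1052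
import Mathlib
import Cfsg.Agent.Lib.Helper6.ChevPerfect
import Cfsg.Agent.Lib.Helper6.ChevPerf.Small
import Cfsg.Agent.Lib.Helper6.ChevPerf.E6
import Cfsg.Agent.Lib.Helper6.ChevPerf.E7
import Cfsg.Agent.Lib.Helper6.ChevPerf.E8a
import Cfsg.Agent.Lib.Helper6.ChevPerf.E8b
import Cfsg.Agent.Lib.Helper6.ChevPerf.E8c
import Cfsg.Agent.Lib.Helper6.ChevPerf.E8d
import Cfsg.Agent.S1032
import Cfsg.Agent.S1053

set_option autoImplicit false
open Cfsg

namespace Cfsg.Agent.S1052

open Cfsg.Lie Cfsg.Agent.Lib.Helper6.ChevWeyl Cfsg.Agent.Lib.Helper6.ChevPerfect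
  Cfsg.Agent.Lib.Helper6.ChevPerf

theorem torusRel {F : Type*} [Field F] (D : Cfsg.Lie.ChevalleyDatum) (hD : D ∈ [Cfsg.Lie.chevG2, Cfsg.Lie.chevB2, Cfsg.Lie.chevD4, Cfsg.Lie.chevF4, Cfsg.Lie.chevE6, Cfsg.Lie.chevE7, Cfsg.Lie.chevE8]) :
    TorusRel D F :=
  fun i s hi hs c hc t => Cfsg.Agent.S1032.result D hD i s hi hs c hc t

theorem one_ne_zero_cast {F : Type*} [Field F] : ((1 : ℤ) : F) ≠ 0 := by
  push_cast
  exact one_ne_zero

/-- `G = G'` for every type G₂, B₂, D₄, F₄, E₆, E₇, E₈ over every field, except G₂ and B₂ over the field with two elements. -/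
theorem result {F : Type*} [Field F] (D : Cfsg.Lie.ChevalleyDatum) (hD : D ∈ [Cfsg.Lie.chevG2, Cfsg.Lie.chevB2, Cfsg.Lie.chevD4, Cfsg.Lie.chevF4, Cfsg.Lie.chevE6, Cfsg.Lie.chevE7, Cfsg.Lie.chevE8]) (h2 : D = Cfsg.Lie.chevG2 ∨ D = Cfsg.Lie.chevB2 → ∃ a : F, a ≠ 0 ∧ a ≠ 1) :
    commutator ↥(D.group F) = ⊤ := by
  have h : Hyp D F := Cfsg.Agent.S1053.hyp_all D hD
  have hT : TorusRel D F := torusRel D hD
  apply perfect_of_gens h
  have hD' := hD
  simp only [List.mem_cons, List.not_mem_nil, or_false] at hD'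
  rcases hD' with rfl | rfl | rfl | rfl | rfl | rfl | rfl
  · obtain ⟨a, ha0, ha1⟩ := h2 (Or.inl rfl)
    intro s hs v
    exact mem_of_class h hT s hs (classG2 s (List.mem_range.mpr hs)) a ha0 ha1 v
  · obtain ⟨a, ha0, ha1⟩ := h2 (Or.inr rfl)
    intro s hs v
    exact mem_of_class' h hT s hs certB2 (classB2 s (List.mem_range.mpr hs)) a ha0 ha1 v
  · intro s hs v
    exact mem_of_certCheck h 1 one_ne_zero_cast certD4 s (ccD4 s (Nat.zero_le _) hs) v
  · intro s hs v
    exact mem_of_certCheck h 1 one_ne_zero_cast certF4 s (ccF4 s (Nat.zero_le _) hs) v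
  · intro s hs v
    exact mem_of_certCheck h 1 one_ne_zero_cast certE6 s (ccE6 s (Nat.zero_le _) hs) v
  · intro s hs v
    exact mem_of_certCheck h 1 one_ne_zero_cast certE7 s (ccE7 s (Nat.zero_le _) hs) v
  · intro s hs v
    have hs' : s < 240 := hs
    by_cases h60 : s < 60
    · exact mem_of_certCheck h 1 one_ne_zero_cast certE8 s (ccE8a s (Nat.zero_le _) h60) v
    by_cases h120 : s < 120
    · exact mem_of_certCheck h 1 one_ne_zero_cast certE8 s (ccE8b s (by omega) h120) v
    by_cases h180 : s < 180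
    · exact mem_of_certCheck h 1 one_ne_zero_cast certE8 s (ccE8c s (by omega) h180) v
    · exact mem_of_certCheck h 1 one_ne_zero_cast certE8 s (ccE8d s (by omega) hs') v

end Cfsg.Agent.S1052
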