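import Cfsg.Statements.S0989
import Cfsg.Agent.Lib.Helper9.SimpleTools
import Cfsg.Agent.Lib.Helper9.OrderCount

set_option autoImplicit false
open Cfsg

namespace Cfsg.Agent.S0989

open Cfsg.Agent.Lib.Helper9 Equiv.Perm

/-- In `Perm α` with `p ≤ |α| < 2p`, the elements of order `p` are the `p`-cycles. -/
theorem orderOf_eq_iff_cycleType {α : Type*} [Fintype α] [DecidableEq α] (p : ℕ) [hp : Fact p.Prime]
    (hα : Fintype.card α < 2 * p) (g : Equiv.Perm α) :
    orderOf g = p ↔ g.cycleType = {p} := by
  constructor
  · intro h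
    have hpr : (orderOf g).Prime := h ▸ hp.out
    obtain ⟨k, hk⟩ := cycleType_prime_order hpr
    rw [h] at hk
    have hsum := g.sum_cycleType_le
    rw [hk, Multiset.sum_replicate, smul_eq_mul] at hsum
    have hk0 : k = 0 := by
      by_contra hne
      have : 2 ≤ k + 1 := by omega
      have : 2 * p ≤ (k + 1) * p := Nat.mul_le_mul_right p this
      omega
    rw [hk, hk0]
    rfl
  · intro h
    rw [← lcm_cycleType, h, Multiset.lcm_singleton]
    simp

/-- In the symmetric group on p or p + 1 letters, p a prime, the normalizer of a Sylow p-subgroup has order p * (p - 1). -/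
theorem result {α : Type*} [Fintype α] [DecidableEq α] (p : ℕ) [Fact p.Prime] (hα : Fintype.card α = p ∨ Fintype.card α = p + 1) (P : Sylow p (Equiv.Perm α)) : Nat.card ↥(Subgroup.normalizer ((P : Subgroup (Equiv.Perm α)) : Set (Equiv.Perm α))) = p * (p - 1) := by
  have hp : p.Prime := Fact.out
  have hp2 : 2 ≤ p := hp.two_le
  have hlt : Fintype.card α < 2 * p := by rcases hα with h | h <;> omega
  have hle : p ≤ Fintype.card α := by rcases hα with h | h <;> omega
  have hfact1 : (Fintype.card α - p).factorial = 1 := by
    rcases hα with h | h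
    · rw [h, Nat.sub_self]; rfl
    · rw [h, Nat.add_sub_cancel_left]; rfl
  have hnd : ¬ p ∣ (p - 1).factorial := by
    rw [hp.dvd_factorial]; omega
  -- order of the group
  have hcardG : ∃ m : ℕ, ¬ p ∣ m ∧ Nat.card (Equiv.Perm α) = m * p ^ 1 := by
    rw [Nat.card_perm, Nat.card_eq_fintype_card]
    rcases hα with h | h
    · refine ⟨(p - 1).factorial, hnd, ?_⟩
      rw [h, pow_one]
      conv_lhs => rw [show p = (p - 1) + 1 by omega, Nat.factorial_succ]
      rw [show p - 1 + 1 = p by omega, mul_comm]
    · refine ⟨(p + 1) * (p - 1).factorial, ?_, ?_⟩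
      · intro hd
        rcases (Nat.Prime.dvd_mul hp).mp hd with h1 | h1
        · have : p ∣ 1 := (Nat.dvd_add_right (dvd_refl p)).mp h1
          exact hp.one_lt.ne' (Nat.dvd_one.mp this)
        · exact hnd h1
      · rw [h, pow_one, Nat.factorial_succ]
        conv_lhs => rw [show p = (p - 1) + 1 by omega, Nat.factorial_succ]
        rw [show p - 1 + 1 = p by omega]
        ring
  obtain ⟨m, hm, hcard⟩ := hcardG
  have hsyl : ∀ Q : Sylow p (Equiv.Perm α), Nat.card (Q : Subgroup (Equiv.Perm α)) = p := by
    intro Q
    have := card_sylow_subgroup_of_card_eq hcard hm Q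
    rwa [pow_one] at this
  -- count of the elements of order p
  have hcount := card_orderOf_eq_prime_of_sylow_card hsyl
  have hX : Nat.card {g : Equiv.Perm α // orderOf g = p} * p = (Fintype.card α).factorial := by
    have h1 := card_of_cycleType_mul_eq α ({p} : Multiset ℕ)
    rw [if_pos ⟨by simpa using hle, by simpa using hp2⟩] at h1
    have h2 : (Finset.univ.filter fun g : Equiv.Perm α => g.cycleType = {p}).card =
        Nat.card {g : Equiv.Perm α // orderOf g = p} := by
      rw [Nat.card_eq_fintype_card, Fintype.card_subtype]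
      congr 1
      ext g
      simp only [Finset.mem_filter, Finset.mem_univ, true_and]
      exact (orderOf_eq_iff_cycleType p hlt g).symm
    rw [h2] at h1
    simp only [Multiset.sum_singleton, Multiset.prod_singleton, Multiset.toFinset_singleton,
      Finset.prod_singleton, Multiset.count_singleton_self, Nat.factorial_one, mul_one] at h1
    rw [hfact1, one_mul] at h1
    exact h1
  have hN := card_sylow_mul_card_normalizer P
  rw [Nat.card_perm, Nat.card_eq_fintype_card (α := α)] at hN
  -- n_p * |N| = X * p = n_p * (p-1) * p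
  rw [← hX, hcount] at hN
  have hnp : 0 < Nat.card (Sylow p (Equiv.Perm α)) := Nat.card_pos
  have : Nat.card (Sylow p (Equiv.Perm α)) *
      Nat.card ↥(Subgroup.normalizer ((P : Subgroup (Equiv.Perm α)) : Set (Equiv.Perm α))) =
      Nat.card (Sylow p (Equiv.Perm α)) * (p * (p - 1)) := by
    rw [hN]; ring
  exact Nat.eq_of_mul_eq_mul_left hnp this

end Cfsg.Agent.S0989
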