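import Mathlib
import Cfsg.Statements.S1496
import Cfsg.Agent.Lib.Helper2.SchurZassenhaus3

set_option autoImplicit false
open Cfsg

namespace Cfsg.Agent.S1496

theorem pow_mul_mem {G : Type*} [Group G] (H : Subgroup G) (g h : G)
    (hg : g ∈ Subgroup.normalizer (H : Set G)) (hh : h ∈ H) (m : ℕ) :
    ∃ h' ∈ H, (h * g) ^ m = h' * g ^ m := by
  induction m with
  | zero => exact ⟨1, H.one_mem, by simp⟩
  | succ m ih =>
    obtain ⟨h', hh', e⟩ := ih
    have hgm : g ^ m ∈ Subgroup.normalizer (H : Set G) := pow_mem hg m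
    have h1 : g ^ m * h * (g ^ m)⁻¹ ∈ H := (Subgroup.mem_normalizer_iff.mp hgm h).mp hh
    refine ⟨h' * (g ^ m * h * (g ^ m)⁻¹), H.mul_mem hh' h1, ?_⟩
    rw [pow_succ, e, pow_succ]
    group

/-- Let H be a subgroup of the finite group G and g an element normalising H whose order is coprime to the order of H. Then for every h ∈ H there are x ∈ H and c ∈ H commuting with g such that x * (h * g) * x⁻¹ = c * g. -/
theorem result {G : Type*} [Group G] [Finite G] (H : Subgroup G) (g : G) (hg : g ∈ Subgroup.normalizer (H : Set G)) (hcop : Nat.Coprime (orderOf g) (Nat.card H)) (h : G) (hh : h ∈ H) : ∃ x ∈ H, ∃ c ∈ H, c * g = g * c ∧ x * (h * g) * x⁻¹ = c * g := by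
  have hynorm : h * g ∈ Subgroup.normalizer (H : Set G) :=
    mul_mem (Subgroup.le_normalizer hh) hg
  obtain ⟨e, he1, he0⟩ := Nat.chineseRemainder hcop 1 0
  obtain ⟨f, hf0, hf1⟩ := Nat.chineseRemainder hcop 0 1
  -- y^k ∈ H
  have hyk : (h * g) ^ orderOf g ∈ H := by
    obtain ⟨h', hh', e'⟩ := pow_mul_mem H g h hg hh (orderOf g)
    rw [e', pow_orderOf_eq_one, mul_one]
    exact hh'
  have hpowH : ∀ z ∈ H, z ^ Nat.card H = 1 := by
    intro z hz
    have := pow_card_eq_one' (G := H) (x := ⟨z, hz⟩)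
    exact congrArg Subtype.val this
  have hykn : (h * g) ^ (orderOf g * Nat.card H) = 1 := by
    rw [pow_mul]
    exact hpowH _ hyk
  have hord : orderOf (h * g) ∣ orderOf g * Nat.card H := orderOf_dvd_of_pow_eq_one hykn
  -- y₂ = y ^ f ∈ H
  have hy₂ : (h * g) ^ f ∈ H := by
    obtain ⟨t, ht⟩ := (Nat.modEq_zero_iff_dvd.mp hf0)
    rw [ht, pow_mul]
    exact H.pow_mem hyk t
  -- y₁ = y ^ e = h₁ * g
  obtain ⟨h₁, hh₁, hy₁⟩ := pow_mul_mem H g h hg hh e
  have hge : g ^ e = g := by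
    conv_rhs => rw [← pow_one g]
    rw [pow_eq_pow_iff_modEq]
    exact he1
  rw [hge] at hy₁
  have hy₁k : ((h * g) ^ e) ^ orderOf g = 1 := by
    obtain ⟨t, ht⟩ := (Nat.modEq_zero_iff_dvd.mp he0)
    rw [← pow_mul, ht, mul_comm (Nat.card H) t, mul_assoc, mul_comm (Nat.card H), pow_mul',
      hykn, one_pow]
  have hord₁ : orderOf ((h * g) ^ e) ∣ orderOf g := orderOf_dvd_of_pow_eq_one hy₁k
  have hy21 : (h * g) ^ f * (h * g) ^ e = h * g := by
    rw [← pow_add]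
    conv_rhs => rw [← pow_one (h * g)]
    rw [pow_eq_pow_iff_modEq]
    apply Nat.ModEq.of_dvd hord
    rw [← Nat.modEq_and_modEq_iff_modEq_mul hcop]
    constructor
    · simpa using hf0.add he1
    · simpa using hf1.add he0
  have hcomm : (h * g) ^ e * (h * g) ^ f = (h * g) ^ f * (h * g) ^ e :=
    ((Commute.refl (h * g)).pow_pow e f).eq
  -- apply Schur–Zassenhaus
  have hnorm₁ : Subgroup.zpowers ((h * g) ^ e) ≤ Subgroup.normalizer (H : Set G) :=
    Subgroup.zpowers_le.mpr (pow_mem hynorm e)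
  have hnorm₂ : Subgroup.zpowers g ≤ Subgroup.normalizer (H : Set G) :=
    Subgroup.zpowers_le.mpr hg
  have hsolv : Group.IsSolvable (Subgroup.zpowers ((h * g) ^ e)) := by
    apply Group.isSolvable_of_comm
    intro a b
    obtain ⟨a, ha⟩ := a
    obtain ⟨b, hb⟩ := b
    obtain ⟨i, rfl⟩ := Subgroup.mem_zpowers_iff.mp ha
    obtain ⟨j, rfl⟩ := Subgroup.mem_zpowers_iff.mp hb
    apply Subtype.ext
    change ((h * g) ^ e) ^ i * ((h * g) ^ e) ^ j = ((h * g) ^ e) ^ j * ((h * g) ^ e) ^ i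
    rw [← zpow_add, ← zpow_add, add_comm]
  have hsup : Subgroup.zpowers ((h * g) ^ e) ⊔ H = Subgroup.zpowers g ⊔ H := by
    apply le_antisymm
    · apply sup_le _ le_sup_right
      rw [Subgroup.zpowers_le, hy₁]
      exact mul_mem (Subgroup.mem_sup_right hh₁)
        (Subgroup.mem_sup_left (Subgroup.mem_zpowers g))
    · apply sup_le _ le_sup_right
      rw [Subgroup.zpowers_le]
      have hgeq : g = h₁⁻¹ * (h * g) ^ e := by rw [hy₁]; group
      have hgmem : h₁⁻¹ * (h * g) ^ e ∈ Subgroup.zpowers ((h * g) ^ e) ⊔ H :=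
        mul_mem (Subgroup.mem_sup_right (H.inv_mem hh₁))
          (Subgroup.mem_sup_left (Subgroup.mem_zpowers _))
      rw [← hgeq] at hgmem
      exact hgmem
  have hc₁ : (Nat.card (Subgroup.zpowers ((h * g) ^ e))).Coprime (Nat.card H) := by
    rw [Nat.card_zpowers]
    exact Nat.Coprime.coprime_dvd_left hord₁ hcop
  have hc₂ : (Nat.card (Subgroup.zpowers g)).Coprime (Nat.card H) := by
    rw [Nat.card_zpowers]
    exact hcop
  obtain ⟨x, hxH, hx⟩ := Cfsg.Agent.Lib.Helper2.sz_conj_rel H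
    (Subgroup.zpowers ((h * g) ^ e)) (Subgroup.zpowers g) hnorm₁ hnorm₂ (Or.inr hsolv) hsup hc₁ hc₂
  have hmem : x * (h * g) ^ e * x⁻¹ ∈ Subgroup.zpowers g := by
    rw [← hx]
    exact Subgroup.mem_map.mpr ⟨(h * g) ^ e, Subgroup.mem_zpowers _, rfl⟩
  -- x * y₁ * x⁻¹ = g
  have hz1 : x * (h * g) ^ e * x⁻¹ * g⁻¹ ∈ H := by
    have h2 : g * x⁻¹ * g⁻¹ ∈ H := (Subgroup.mem_normalizer_iff.mp hg x⁻¹).mp (H.inv_mem hxH)
    have : x * (h * g) ^ e * x⁻¹ * g⁻¹ = x * h₁ * (g * x⁻¹ * g⁻¹) := by rw [hy₁]; group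
    rw [this]
    exact H.mul_mem (H.mul_mem hxH hh₁) h2
  have hz2 : x * (h * g) ^ e * x⁻¹ * g⁻¹ ∈ Subgroup.zpowers g :=
    mul_mem hmem (inv_mem (Subgroup.mem_zpowers g))
  have hdisj : Disjoint (Subgroup.zpowers g) H := Subgroup.disjoint_of_coprime_natCard hc₂
  have hz : x * (h * g) ^ e * x⁻¹ * g⁻¹ = 1 := Subgroup.disjoint_def.mp hdisj hz2 hz1
  have hxy₁ : x * (h * g) ^ e * x⁻¹ = g := mul_inv_eq_one.mp hz
  refine ⟨x, hxH, x * (h * g) ^ f * x⁻¹, H.mul_mem (H.mul_mem hxH hy₂) (H.inv_mem hxH), ?_, ?_⟩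
  · calc x * (h * g) ^ f * x⁻¹ * g
        = x * (h * g) ^ f * x⁻¹ * (x * (h * g) ^ e * x⁻¹) := by rw [hxy₁]
      _ = x * ((h * g) ^ f * (h * g) ^ e) * x⁻¹ := by group
      _ = x * ((h * g) ^ e * (h * g) ^ f) * x⁻¹ := by rw [hcomm]
      _ = (x * (h * g) ^ e * x⁻¹) * (x * (h * g) ^ f * x⁻¹) := by group
      _ = g * (x * (h * g) ^ f * x⁻¹) := by rw [hxy₁]
  · calc x * (h * g) * x⁻¹ = x * ((h * g) ^ f * (h * g) ^ e) * x⁻¹ := by rw [hy21]
      _ = x * (h * g) ^ f * x⁻¹ * (x * (h * g) ^ e * x⁻¹) := by group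
      _ = x * (h * g) ^ f * x⁻¹ * g := by rw [hxy₁]

end Cfsg.Agent.S1496
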