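import Mathlib
import Cfsg.Statements.S1499

set_option autoImplicit false

namespace Cfsg.Agent.S1499

/-- Extracting coprime parts: if `a u` is conjugate to `b v` by `g`, with `a,u` and `b,v` commuting and the orders of
`u, v` coprime to the orders of `a, b`, then `g` conjugates `a` to `b`. -/
theorem conj_part {G : Type*} [Group G] [Finite G] (a b u v g : G) (hau : Commute a u) (hbv : Commute b v)
    (h1 : (orderOf u).Coprime (orderOf a)) (h2 : (orderOf u).Coprime (orderOf b))
    (h3 : (orderOf v).Coprime (orderOf a)) (h4 : (orderOf v).Coprime (orderOf b))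
    (h : g * (a * u) * g⁻¹ = b * v) : g * a * g⁻¹ = b := by
  have hcop : (orderOf u * orderOf v).Coprime (orderOf a * orderOf b) :=
    Nat.Coprime.mul_left (Nat.Coprime.mul_right h1 h2) (Nat.Coprime.mul_right h3 h4)
  obtain ⟨k, hk0, hk1⟩ := Nat.chineseRemainder hcop 0 1
  have hu : u ^ k = 1 := by
    rw [pow_eq_one_iff_modEq]
    exact hk0.of_mul_right _
  have hv : v ^ k = 1 := by
    rw [pow_eq_one_iff_modEq]
    exact hk0.of_mul_left _
  have ha : a ^ k = a := by
    conv_rhs => rw [← pow_one a]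
    rw [pow_eq_pow_iff_modEq]
    exact hk1.of_mul_right _
  have hb : b ^ k = b := by
    conv_rhs => rw [← pow_one b]
    rw [pow_eq_pow_iff_modEq]
    exact hk1.of_mul_left _
  have e1 : (a * u) ^ k = a := by rw [hau.mul_pow, hu, ha, mul_one]
  have e2 : (b * v) ^ k = b := by rw [hbv.mul_pow, hv, hb, mul_one]
  calc g * a * g⁻¹ = g * (a * u) ^ k * g⁻¹ := by rw [e1]
    _ = (g * (a * u) * g⁻¹) ^ k := by rw [conj_pow]
    _ = b := by rw [h, e2]

/-- Under the Dade hypothesis for (A, L, H), let a, b ∈ A. If an element of the coset a·H(a) is conjugate in G to an element of b·H(b), then a and b are conjugate by an element of L. Moreover the set normaliser of the coset a·H(a) is the centraliser of a. -/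
theorem result {G : Type*} [Group G] [Finite G] (A : Set G) (L : Subgroup G) (H : G → Subgroup G) (hD : Cfsg.DadeHypothesis A L H) (a b : G) (ha : a ∈ A) (hb : b ∈ A) : ((∃ u ∈ H a, ∃ v ∈ H b, ∃ g : G, g * (a * u) * g⁻¹ = b * v) → ∃ x ∈ L, x * a * x⁻¹ = b) ∧ Subgroup.normalizer ((fun u : G => a * u) '' (H a : Set G)) = Subgroup.centralizer ({a} : Set G) := by
  -- order facts
  have hordA : ∀ c ∈ A, orderOf c ∣ Nat.card ↥(L ⊓ Subgroup.centralizer ({c} : Set G)) := by
    intro c hc
    have hmem : c ∈ L ⊓ Subgroup.centralizer ({c} : Set G) := by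
      refine Subgroup.mem_inf.mpr ⟨hD.subset hc, ?_⟩
      rw [Subgroup.mem_centralizer_iff]
      intro y hy
      rw [Set.mem_singleton_iff] at hy
      rw [hy]
    have := orderOf_dvd_natCard (⟨c, hmem⟩ : ↥(L ⊓ Subgroup.centralizer ({c} : Set G)))
    rwa [Subgroup.orderOf_mk] at this
  have hordH : ∀ c : G, ∀ u ∈ H c, orderOf u ∣ Nat.card (H c) := by
    intro c u hu
    have := orderOf_dvd_natCard (⟨u, hu⟩ : H c)
    rwa [Subgroup.orderOf_mk] at this
  have hcop : ∀ c ∈ A, ∀ d ∈ A, ∀ u ∈ H c, (orderOf u).Coprime (orderOf d) := by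
    intro c hc d hd u hu
    exact Nat.Coprime.coprime_dvd_left (hordH c u hu)
      (Nat.Coprime.coprime_dvd_right (hordA d hd) (hD.coprime c hc d hd))
  have hcomm : ∀ c ∈ A, ∀ u ∈ H c, Commute c u := by
    intro c hc u hu
    have := hD.le_centralizer c hc hu
    rw [Subgroup.mem_centralizer_iff] at this
    exact this c (Set.mem_singleton c)
  have key : ∀ c ∈ A, ∀ d ∈ A, ∀ u ∈ H c, ∀ v ∈ H d, ∀ g : G,
      g * (c * u) * g⁻¹ = d * v → g * c * g⁻¹ = d := by
    intro c hc d hd u hu v hv g hg
    exact conj_part c d u v g (hcomm c hc u hu) (hcomm d hd v hv) (hcop c hc c hc u hu)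
      (hcop c hc d hd u hu) (hcop d hd c hc v hv) (hcop d hd d hd v hv) hg
  constructor
  · rintro ⟨u, hu, v, hv, g, hg⟩
    have h1 := key a ha b hb u hu v hv g hg
    have hmem : g * a * g⁻¹ ∈ A := h1 ▸ hb
    obtain ⟨x, hx, hxa⟩ := hD.fusion a ha g hmem
    exact ⟨x, hx, hxa.trans h1⟩
  · apply le_antisymm
    · intro g hg
      rw [Subgroup.mem_set_normalizer_iff] at hg
      have h1 : a ∈ (fun u : G => a * u) '' (H a : Set G) := ⟨1, (H a).one_mem, mul_one a⟩
      obtain ⟨v, hv, hv'⟩ := (hg a).mp h1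
      have h2 : g * (a * 1) * g⁻¹ = a * v := by rw [mul_one]; exact hv'.symm
      have h3 := key a ha a ha 1 (H a).one_mem v hv g h2
      rw [Subgroup.mem_centralizer_iff]
      intro y hy
      rw [Set.mem_singleton_iff] at hy
      subst hy
      calc y * g = (g * y * g⁻¹) * g := by rw [h3]
        _ = g * y := by group
    · intro c hc
      have hca : c * a = a * c := by
        rw [Subgroup.mem_centralizer_iff] at hc
        exact (hc a (Set.mem_singleton a)).symm
      have hcinv : c⁻¹ ∈ Subgroup.centralizer ({a} : Set G) := Subgroup.inv_mem _ hc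
      have hca' : c⁻¹ * a = a * c⁻¹ := by
        rw [Subgroup.mem_centralizer_iff] at hcinv
        exact (hcinv a (Set.mem_singleton a)).symm
      rw [Subgroup.mem_set_normalizer_iff]
      intro n
      constructor
      · rintro ⟨u, hu, rfl⟩
        refine ⟨c * u * c⁻¹, hD.conj_mem_H a ha c hc u hu, ?_⟩
        change a * (c * u * c⁻¹) = c * (a * u) * c⁻¹
        calc a * (c * u * c⁻¹) = (a * c) * u * c⁻¹ := by group
          _ = (c * a) * u * c⁻¹ := by rw [hca]
          _ = c * (a * u) * c⁻¹ := by group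
      · rintro ⟨u, hu, hu'⟩
        refine ⟨c⁻¹ * u * c, ?_, ?_⟩
        · have := hD.conj_mem_H a ha c⁻¹ hcinv u hu
          simpa using this
        · change a * (c⁻¹ * u * c) = n
          have hu'' : a * u = c * n * c⁻¹ := hu'
          calc a * (c⁻¹ * u * c) = (a * c⁻¹) * u * c := by group
            _ = (c⁻¹ * a) * u * c := by rw [hca']
            _ = c⁻¹ * (a * u) * c := by group
            _ = n := by rw [hu'']; group

end Cfsg.Agent.S1499
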