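import Mathlib
import Cfsg.Statements.S1498
import Cfsg.Agent.Lib.Helper2.HallNormal

set_option autoImplicit false

namespace Cfsg.Agent.S1498

open Pointwise in
theorem map_conj_centralizer_singleton {G : Type*} [Group G] (a x : G) :
    (Subgroup.centralizer ({a} : Set G)).map (MulAut.conj x).toMonoidHom =
      Subgroup.centralizer ({x * a * x⁻¹} : Set G) := by
  ext c
  simp only [Subgroup.mem_map, Subgroup.mem_centralizer_iff, Set.mem_singleton_iff, forall_eq,
    MulEquiv.coe_toMonoidHom, MulAut.conj_apply]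
  constructor
  · rintro ⟨d, hd, rfl⟩
    calc x * a * x⁻¹ * (x * d * x⁻¹) = x * (a * d) * x⁻¹ := by group
      _ = x * (d * a) * x⁻¹ := by rw [hd]
      _ = x * d * x⁻¹ * (x * a * x⁻¹) := by group
  · intro hc
    refine ⟨x⁻¹ * c * x, ?_, by group⟩
    calc a * (x⁻¹ * c * x) = x⁻¹ * ((x * a * x⁻¹) * c) * x := by group
      _ = x⁻¹ * (c * (x * a * x⁻¹)) * x := by rw [hc]
      _ = x⁻¹ * c * x * a := by group

open Pointwise in
theorem map_conj_eq_self_of_mem {G : Type*} [Group G] {L : Subgroup G} {x : G} (hx : x ∈ L) :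
    L.map (MulAut.conj x).toMonoidHom = L :=
  Subgroup.conj_smul_eq_self_of_mem hx

/-- Under the Dade hypothesis for (A, L, H): for a ∈ A and x ∈ L, the subgroup attached to x * a * x⁻¹ is the conjugate of H a by x. -/
theorem result {G : Type*} [Group G] [Finite G] (A : Set G) (L : Subgroup G) (H : G → Subgroup G) (hD : Cfsg.DadeHypothesis A L H) (a : G) (ha : a ∈ A) (x : G) (hx : x ∈ L) : H (x * a * x⁻¹) = (H a).map (MulAut.conj x).toMonoidHom := by
  have ha' : x * a * x⁻¹ ∈ A := hD.conj_mem x hx a ha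
  set a' := x * a * x⁻¹ with ha'def
  have hinj : Function.Injective (MulAut.conj x).toMonoidHom := (MulAut.conj x).injective
  have hCmap := map_conj_centralizer_singleton a x
  have hMmap : (L ⊓ Subgroup.centralizer ({a} : Set G)).map (MulAut.conj x).toMonoidHom =
      L ⊓ Subgroup.centralizer ({a'} : Set G) := by
    rw [Subgroup.map_inf _ _ _ hinj, map_conj_eq_self_of_mem hx, hCmap]
  apply Cfsg.Agent.Lib.Helper2.eq_of_normal_in_of_sup_eq_of_coprime
    (Subgroup.centralizer ({a'} : Set G)) (H a') ((H a).map (MulAut.conj x).toMonoidHom)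
    (L ⊓ Subgroup.centralizer ({a'} : Set G))
  · exact hD.le_centralizer a' ha'
  · rw [← hCmap]
    exact Subgroup.map_mono (hD.le_centralizer a ha)
  · exact inf_le_right
  · exact hD.conj_mem_H a' ha'
  · intro c hc u hu
    obtain ⟨v, hv, rfl⟩ := Subgroup.mem_map.mp hu
    rw [← hCmap] at hc
    obtain ⟨d, hd, rfl⟩ := Subgroup.mem_map.mp hc
    refine Subgroup.mem_map.mpr ⟨d * v * d⁻¹, hD.conj_mem_H a ha d hd v hv, ?_⟩
    simp only [MulEquiv.coe_toMonoidHom, MulAut.conj_apply]
    group
  · exact hD.sup_eq a' ha'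
  · rw [← hMmap, ← Subgroup.map_sup, hD.sup_eq a ha, hCmap]
  · exact hD.coprime a' ha' a' ha'
  · rw [Subgroup.card_map_of_injective hinj]
    exact hD.coprime a ha a' ha'

end Cfsg.Agent.S1498
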