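import Mathlib
import Cfsg.Statements.S1500
import Cfsg.Agent.S1498
import Cfsg.Agent.S1499

set_option autoImplicit false
open Cfsg

namespace Cfsg.Agent.S1500

open Classical

section
variable {G : Type*} [Group G] {A : Set G} {L : Subgroup G} {H : G → Subgroup G}

theorem comm_of_mem (hD : DadeHypothesis A L H) {a : G} (ha : a ∈ A) {u : G} (hu : u ∈ H a) :
    u * a = a * u := by
  have := hD.le_centralizer a ha hu
  rw [Subgroup.mem_centralizer_iff] at this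
  exact (this a (Set.mem_singleton a)).symm

theorem key [Finite G] (hD : DadeHypothesis A L H) {c d u v g : G} (hc : c ∈ A) (hd : d ∈ A)
    (hu : u ∈ H c) (hv : v ∈ H d) (hg : g * (c * u) * g⁻¹ = d * v) : g * c * g⁻¹ = d := by
  have hordA : ∀ c ∈ A, orderOf c ∣ Nat.card ↥(L ⊓ Subgroup.centralizer ({c} : Set G)) := by
    intro c hc
    have hmem : c ∈ L ⊓ Subgroup.centralizer ({c} : Set G) := by
      refine Subgroup.mem_inf.mpr ⟨hD.subset hc, ?_⟩
      rw [Subgroup.mem_centralizer_iff]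
      intro y hy
      rw [Set.mem_singleton_iff] at hy
      rw [hy]
    have := orderOf_dvd_natCard (⟨c, hmem⟩ : ↥(L ⊓ Subgroup.centralizer ({c} : Set G)))
    rwa [Subgroup.orderOf_mk] at this
  have hordH : ∀ c : G, ∀ u ∈ H c, orderOf u ∣ Nat.card (H c) := by
    intro c u hu
    have := orderOf_dvd_natCard (⟨u, hu⟩ : H c)
    rwa [Subgroup.orderOf_mk] at this
  have hcop : ∀ c ∈ A, ∀ d ∈ A, ∀ u ∈ H c, (orderOf u).Coprime (orderOf d) := by
    intro c hc d hd u hu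
    exact Nat.Coprime.coprime_dvd_left (hordH c u hu)
      (Nat.Coprime.coprime_dvd_right (hordA d hd) (hD.coprime c hc d hd))
  have hcomm : ∀ c ∈ A, ∀ u ∈ H c, Commute c u := by
    intro c hc u hu
    exact (comm_of_mem hD hc hu).symm
  exact Cfsg.Agent.S1499.conj_part c d u v g (hcomm c hc u hu) (hcomm d hd v hv) (hcop c hc c hc u hu)
      (hcop c hc d hd u hu) (hcop d hd c hc v hv) (hcop d hd d hd v hv) hg

theorem exists_decomp (hD : DadeHypothesis A L H) {a : G} (ha : a ∈ A) {y : G}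
    (hy : y * a * y⁻¹ ∈ A) : ∃ l ∈ L, ∃ h ∈ H a, y = l * h := by
  obtain ⟨l, hl, hla⟩ := hD.fusion a ha y hy
  have hc : l⁻¹ * y ∈ Subgroup.centralizer ({a} : Set G) := by
    rw [Subgroup.mem_centralizer_iff]
    intro z hz
    rw [Set.mem_singleton_iff] at hz
    subst hz
    calc z * (l⁻¹ * y) = l⁻¹ * (l * z * l⁻¹) * y := by group
      _ = l⁻¹ * (y * z * y⁻¹) * y := by rw [hla]
      _ = l⁻¹ * y * z := by group
  rw [← hD.sup_eq a ha, sup_comm] at hc
  have hLE : L ⊓ Subgroup.centralizer ({a} : Set G) ≤ Subgroup.normalizer (H a : Set G) := by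
    intro m hm
    rw [Subgroup.mem_normalizer_iff]
    intro n
    constructor
    · intro hn; exact hD.conj_mem_H a ha m hm.2 n hn
    · intro hn
      have := hD.conj_mem_H a ha m⁻¹ (Subgroup.inv_mem _ hm.2) _ hn
      simpa [mul_assoc] using this
  have hcoe := Subgroup.coe_mul_of_left_le_normalizer_right _ _ hLE
  rw [← SetLike.mem_coe, hcoe] at hc
  obtain ⟨m, hm, h, hh, hmh⟩ := hc
  refine ⟨l * m, L.mul_mem hl hm.1, h, hh, ?_⟩
  have hmh' : m * h = l⁻¹ * y := hmh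
  rw [mul_assoc, hmh']; group

theorem conj_data [Finite G] (hD : DadeHypothesis A L H) {a : G} (ha : a ∈ A) {y : G}
    (hy : y * a * y⁻¹ ∈ A) :
    (∀ u ∈ H a, y * u * y⁻¹ ∈ H (y * a * y⁻¹)) ∧ Nat.card (H (y * a * y⁻¹)) = Nat.card (H a) := by
  obtain ⟨l, hl, h, hh, rfl⟩ := exists_decomp hD ha hy
  have hha : h * a = a * h := comm_of_mem hD ha hh
  have e : l * h * a * (l * h)⁻¹ = l * a * l⁻¹ := by
    calc l * h * a * (l * h)⁻¹ = l * (h * a) * h⁻¹ * l⁻¹ := by group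
      _ = l * (a * h) * h⁻¹ * l⁻¹ := by rw [hha]
      _ = l * a * l⁻¹ := by group
  rw [e, Cfsg.Agent.S1498.result A L H hD a ha l hl]
  constructor
  · intro u hu
    refine Subgroup.mem_map.mpr
      ⟨h * u * h⁻¹, (H a).mul_mem ((H a).mul_mem hh hu) ((H a).inv_mem hh), ?_⟩
    simp only [MulEquiv.coe_toMonoidHom, MulAut.conj_apply]
    group
  · exact Subgroup.card_map_of_injective (MulAut.conj l).injective

end

section
variable {G : Type*} [Group G] [Fintype G] {A : Set G} {L : Subgroup G} {H : G → Subgroup G}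

/-- The weight of `g` as an element of the union of the cosets `a H(a)`. -/
noncomputable def wt (A : Set G) (H : G → Subgroup G) (g : G) : ℂ :=
  ∑ a : G, ∑ u : G, if a ∈ A ∧ u ∈ H a ∧ a * u = g then (Nat.card (H a) : ℂ)⁻¹ else 0

theorem wt_conj (hD : DadeHypothesis A L H) {a₀ u₀ : G} (ha₀ : a₀ ∈ A) (hu₀ : u₀ ∈ H a₀) (y : G) :
    wt A H (y * (a₀ * u₀) * y⁻¹) = if y * a₀ * y⁻¹ ∈ A then (Nat.card (H a₀) : ℂ)⁻¹ else 0 := by
  unfold wt
  have hkey : ∀ a u : G, a ∈ A → u ∈ H a → a * u = y * (a₀ * u₀) * y⁻¹ →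
      a = y * a₀ * y⁻¹ ∧ u = y * u₀ * y⁻¹ := by
    intro a u ha hu h
    have h1 : y⁻¹ * (a * u) * y⁻¹⁻¹ = a₀ * u₀ := by rw [h]; group
    have h2 := key hD ha ha₀ hu hu₀ h1
    have ha' : a = y * a₀ * y⁻¹ := by rw [← h2]; group
    refine ⟨ha', ?_⟩
    have : u = a⁻¹ * (y * (a₀ * u₀) * y⁻¹) := by rw [← h]; group
    rw [this, ha']; group
  by_cases hy : y * a₀ * y⁻¹ ∈ A
  · rw [if_pos hy]
    obtain ⟨hmem, hcard⟩ := conj_data hD ha₀ hy
    have hiff : ∀ a u : G, (a ∈ A ∧ u ∈ H a ∧ a * u = y * (a₀ * u₀) * y⁻¹) ↔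
        (a = y * a₀ * y⁻¹ ∧ u = y * u₀ * y⁻¹) := by
      intro a u
      constructor
      · rintro ⟨ha, hu, h⟩; exact hkey a u ha hu h
      · rintro ⟨rfl, rfl⟩
        exact ⟨hy, hmem u₀ hu₀, by group⟩
    simp_rw [hiff]
    rw [Finset.sum_eq_single (y * a₀ * y⁻¹), Finset.sum_eq_single (y * u₀ * y⁻¹)]
    · rw [if_pos ⟨rfl, rfl⟩, hcard]
    · intro u _ hu; simp [hu]
    · simp
    · intro a _ ha; simp [ha]
    · simp
  · rw [if_neg hy]
    apply Finset.sum_eq_zero; intro a _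
    apply Finset.sum_eq_zero; intro u _
    rw [if_neg]
    rintro ⟨ha, hu, h⟩
    exact hy ((hkey a u ha hu h).1 ▸ ha)

theorem card_X (hD : DadeHypothesis A L H) {a₀ : G} (ha₀ : a₀ ∈ A) :
    (Finset.univ.filter (fun y : G => y * a₀ * y⁻¹ ∈ A)).card = Nat.card L * Nat.card (H a₀) := by
  have : Fintype L := Fintype.ofFinite L
  rw [← Nat.card_prod, Nat.card_eq_fintype_card, ← Finset.card_univ]
  symm
  apply Finset.card_bij (fun (p : L × H a₀) _ => (p.1 : G) * (p.2 : G))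
  · intro p _
    simp only [Finset.mem_filter, Finset.mem_univ, true_and]
    have hha : (p.2 : G) * a₀ = a₀ * p.2 := comm_of_mem hD ha₀ p.2.2
    have e : (p.1 : G) * p.2 * a₀ * ((p.1 : G) * p.2)⁻¹ = p.1 * a₀ * (p.1 : G)⁻¹ := by
      calc (p.1 : G) * p.2 * a₀ * ((p.1 : G) * p.2)⁻¹
          = p.1 * ((p.2 : G) * a₀) * (p.2 : G)⁻¹ * (p.1 : G)⁻¹ := by group
        _ = p.1 * (a₀ * p.2) * (p.2 : G)⁻¹ * (p.1 : G)⁻¹ := by rw [hha]
        _ = p.1 * a₀ * (p.1 : G)⁻¹ := by group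
    rw [e]
    exact hD.conj_mem _ p.1.2 a₀ ha₀
  · rintro ⟨l₁, h₁⟩ _ ⟨l₂, h₂⟩ _ heq
    have heq' : (l₁ : G) * h₁ = l₂ * h₂ := heq
    have hz : (l₂ : G)⁻¹ * l₁ = h₂ * (h₁ : G)⁻¹ := by
      calc (l₂ : G)⁻¹ * l₁ = (l₂ : G)⁻¹ * (l₁ * h₁) * (h₁ : G)⁻¹ := by group
        _ = (l₂ : G)⁻¹ * (l₂ * h₂) * (h₁ : G)⁻¹ := by rw [heq']
        _ = h₂ * (h₁ : G)⁻¹ := by group
    have hzL : (l₂ : G)⁻¹ * l₁ ∈ L := L.mul_mem (L.inv_mem l₂.2) l₁.2
    have hzH : (l₂ : G)⁻¹ * l₁ ∈ H a₀ := by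
      rw [hz]; exact (H a₀).mul_mem h₂.2 ((H a₀).inv_mem h₁.2)
    have hbot : (l₂ : G)⁻¹ * l₁ ∈ H a₀ ⊓ (L ⊓ Subgroup.centralizer ({a₀} : Set G)) :=
      ⟨hzH, hzL, hD.le_centralizer a₀ ha₀ hzH⟩
    rw [hD.inf_eq_bot a₀ ha₀, Subgroup.mem_bot] at hbot
    have e1 : (l₁ : G) = l₂ := by
      calc (l₁ : G) = l₂ * ((l₂ : G)⁻¹ * l₁) := by group
        _ = l₂ := by rw [hbot, mul_one]
    have e2 : (h₁ : G) = h₂ := by
      rw [hbot] at hz
      calc (h₁ : G) = (h₂ * (h₁ : G)⁻¹)⁻¹ * h₂ := by group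
        _ = h₂ := by rw [← hz]; group
    exact Prod.ext (Subtype.ext e1) (Subtype.ext e2)
  · intro y hy
    simp only [Finset.mem_filter, Finset.mem_univ, true_and] at hy
    obtain ⟨l, hl, h, hh, rfl⟩ := exists_decomp hD ha₀ hy
    exact ⟨(⟨l, hl⟩, ⟨h, hh⟩), Finset.mem_univ _, rfl⟩

theorem sum_wt_conj (hD : DadeHypothesis A L H) {g : G}
    (hg : ∃ a ∈ A, ∃ x : G, ∃ u ∈ H a, x * g * x⁻¹ = a * u) :
    ∑ x : G, wt A H (x * g * x⁻¹) = (Nat.card L : ℂ) := by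
  obtain ⟨a₀, ha₀, x₀, u₀, hu₀, hx₀⟩ := hg
  have h1 : ∑ x : G, wt A H (x * g * x⁻¹) = ∑ y : G, wt A H (y * (a₀ * u₀) * y⁻¹) := by
    apply Fintype.sum_equiv (Equiv.mulRight x₀⁻¹)
    intro x
    simp only [Equiv.coe_mulRight]
    rw [← hx₀]
    congr 1
    group
  rw [h1]
  simp_rw [wt_conj hD ha₀ hu₀]
  rw [Finset.sum_ite, Finset.sum_const_zero, add_zero, Finset.sum_const, card_X hD ha₀]
  have hne : (Nat.card (H a₀) : ℂ) ≠ 0 := Nat.cast_ne_zero.mpr Nat.card_pos.ne'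
  rw [nsmul_eq_mul, Nat.cast_mul, mul_assoc, mul_inv_cancel₀ hne, mul_one]

theorem sum_wt_mul (F : G → ℂ) :
    (∑ a : G, ∑ u : G, if a ∈ A ∧ u ∈ H a then (Nat.card (H a) : ℂ)⁻¹ * F (a * u) else 0)
      = ∑ g : G, wt A H g * F g := by
  unfold wt
  simp only [Finset.sum_mul]
  symm
  rw [Finset.sum_comm]
  refine Finset.sum_congr rfl fun a _ => ?_
  rw [Finset.sum_comm]
  refine Finset.sum_congr rfl fun u _ => ?_
  by_cases h : a ∈ A ∧ u ∈ H a
  · rw [if_pos h]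
    rw [Finset.sum_eq_single (a * u)]
    · rw [if_pos ⟨h.1, h.2, rfl⟩]
    · intro g _ hg
      rw [if_neg, zero_mul]
      rintro ⟨_, _, h3⟩
      exact hg h3.symm
    · intro h'; exact absurd (Finset.mem_univ _) h'
  · rw [if_neg h]
    apply Finset.sum_eq_zero
    intro g _
    rw [if_neg, zero_mul]
    rintro ⟨h1, h2, _⟩
    exact h ⟨h1, h2⟩

theorem main_count (hD : DadeHypothesis A L H) (F : G → ℂ)
    (hF : ∀ g h : G, F (h * g * h⁻¹) = F g)
    (hF0 : ∀ g : G, (¬ ∃ a ∈ A, ∃ x : G, ∃ u ∈ H a, x * g * x⁻¹ = a * u) → F g = 0) :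
    (Nat.card L : ℂ) * ∑ g : G, F g = (Nat.card G : ℂ) *
      ∑ a : G, ∑ u : G, if a ∈ A ∧ u ∈ H a then (Nat.card (H a) : ℂ)⁻¹ * F (a * u) else 0 := by
  rw [sum_wt_mul]
  have h1 : (Nat.card G : ℂ) * ∑ g : G, wt A H g * F g
      = ∑ x : G, ∑ g : G, wt A H g * F g := by
    rw [Finset.sum_const, Finset.card_univ, nsmul_eq_mul, Nat.card_eq_fintype_card]
  have h2 : ∀ x : G, ∑ g : G, wt A H g * F g = ∑ g : G, wt A H (x * g * x⁻¹) * F g := by
    intro x
    symm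
    apply Fintype.sum_equiv (MulAut.conj x).toEquiv
    intro g
    simp only [MulEquiv.toEquiv_eq_coe, EquivLike.coe_coe, MulAut.conj_apply]
    rw [hF]
  rw [h1, Finset.sum_congr rfl (fun x _ => h2 x), Finset.sum_comm, Finset.mul_sum]
  refine Finset.sum_congr rfl fun g _ => ?_
  rw [← Finset.sum_mul]
  by_cases hg : ∃ a ∈ A, ∃ x : G, ∃ u ∈ H a, x * g * x⁻¹ = a * u
  · rw [sum_wt_conj hD hg]
  · rw [hF0 g hg, mul_zero, mul_zero]

end

section
variable {G : Type*} [Group G] [Fintype G] {A : Set G} {L : Subgroup G} {H : G → Subgroup G}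

theorem dade_apply (hD : DadeHypothesis A L H) {α : L → ℂ} (hα : IsClassFunction L α) {g : G}
    (a : L) (ha : (a : G) ∈ A) (x u : G) (hu : u ∈ H (a : G)) (hx : x * g * x⁻¹ = (a : G) * u) :
    dadeIsometry A L H α g = α a := by
  have h : ∃ a : ↥L, (a : G) ∈ A ∧ ∃ x : G, ∃ u ∈ H (a : G), x * g * x⁻¹ = (a : G) * u :=
    ⟨a, ha, x, u, hu, hx⟩
  have hdef : dadeIsometry A L H α g = α (Classical.choose h) := by
    unfold dadeIsometry
    exact dif_pos h
  rw [hdef]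
  obtain ⟨hb, y, v, hv, hy⟩ := Classical.choose_spec h
  set b := Classical.choose h
  have h1 : (y * x⁻¹) * ((a : G) * u) * (y * x⁻¹)⁻¹ = (b : G) * v := by
    rw [← hx, ← hy]; group
  have h2 := key hD ha hb hu hv h1
  have hmem : (y * x⁻¹) * (a : G) * (y * x⁻¹)⁻¹ ∈ A := h2 ▸ hb
  obtain ⟨l, hl, hla⟩ := hD.fusion a ha _ hmem
  have hb' : b = ⟨l, hl⟩ * a * (⟨l, hl⟩ : L)⁻¹ := by
    apply Subtype.ext
    simp only [Subgroup.coe_mul, Subgroup.coe_inv]
    rw [hla, h2]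
  rw [hb']
  exact hα a ⟨l, hl⟩

omit [Fintype G] in
theorem dade_apply_of_not {α : L → ℂ} {g : G}
    (h : ¬ ∃ a : ↥L, (a : G) ∈ A ∧ ∃ x : G, ∃ u ∈ H (a : G), x * g * x⁻¹ = (a : G) * u) :
    dadeIsometry A L H α g = 0 := by
  unfold dadeIsometry
  exact dif_neg h

theorem dade_classFunction (hD : DadeHypothesis A L H) {α : L → ℂ} (hα : IsClassFunction L α) :
    IsClassFunction G (dadeIsometry A L H α) := by
  intro g h
  by_cases hP : ∃ a : ↥L, (a : G) ∈ A ∧ ∃ x : G, ∃ u ∈ H (a : G), x * g * x⁻¹ = (a : G) * u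
  · obtain ⟨a, ha, x, u, hu, hx⟩ := hP
    rw [dade_apply hD hα a ha x u hu hx,
      dade_apply hD hα a ha (x * h⁻¹) u hu (by rw [← hx]; group)]
  · have hP' : ¬ ∃ a : ↥L, (a : G) ∈ A ∧ ∃ x : G, ∃ u ∈ H (a : G),
        x * (h * g * h⁻¹) * x⁻¹ = (a : G) * u := by
      rintro ⟨a, ha, x, u, hu, hx⟩
      exact hP ⟨a, ha, x * h, u, hu, by rw [← hx]; group⟩
    rw [dade_apply_of_not hP, dade_apply_of_not hP']

omit [Group G] in
theorem finsum_mem_eq_sum_ite (S : Set G) (f : G → ℂ) :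
    ∑ᶠ u ∈ S, f u = ∑ u : G, if u ∈ S then f u else 0 := by
  rw [finsum_mem_def, finsum_eq_sum_of_fintype]
  refine Finset.sum_congr rfl fun u _ => ?_
  simp [Set.indicator_apply]

theorem part_two (hD : DadeHypothesis A L H) [Fintype L] (α : L → ℂ) (hα : IsClassFunction L α)
    (hαA : ∀ x : L, (x : G) ∉ A → α x = 0) (χ : G → ℂ) (ψ : L → ℂ) (hχ : IsClassFunction G χ)
    (hψ : ∀ a : L, (a : G) ∈ A →
      ψ a = (Nat.card (H a) : ℂ)⁻¹ * ∑ᶠ u ∈ (H a : Set G), χ (a * u)) :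
    classInner (dadeIsometry A L H α) χ = classInner α ψ := by
  have hτ := dade_classFunction hD hα
  set F : G → ℂ := fun g => dadeIsometry A L H α g * (starRingEnd ℂ) (χ g) with hF
  have hFc : ∀ g h : G, F (h * g * h⁻¹) = F g := by
    intro g h
    simp only [hF]
    rw [hτ g h, hχ g h]
  have hF0 : ∀ g : G, (¬ ∃ a ∈ A, ∃ x : G, ∃ u ∈ H a, x * g * x⁻¹ = a * u) → F g = 0 := by
    intro g hg
    have : ¬ ∃ a : ↥L, (a : G) ∈ A ∧ ∃ x : G, ∃ u ∈ H (a : G), x * g * x⁻¹ = (a : G) * u := by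
      rintro ⟨a, ha, x, u, hu, hx⟩
      exact hg ⟨a, ha, x, u, hu, hx⟩
    simp only [hF]
    rw [dade_apply_of_not this, zero_mul]
  have hmain := main_count hD F hFc hF0
  -- the sum over L
  have hL : ∑ l : L, α l * (starRingEnd ℂ) (ψ l) =
      ∑ a : G, ∑ u : G, if a ∈ A ∧ u ∈ H a then (Nat.card (H a) : ℂ)⁻¹ * F (a * u) else 0 := by
    apply Finset.sum_of_injOn (fun l : L => (l : G))
    · exact fun _ _ _ _ h => Subtype.ext h
    · intro _ _; exact Finset.mem_coe.mpr (Finset.mem_univ _)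
    · intro a _ ha
      apply Finset.sum_eq_zero
      intro u _
      rw [if_neg]
      rintro ⟨haA, _⟩
      apply ha
      exact ⟨⟨a, hD.subset haA⟩, Finset.mem_coe.mpr (Finset.mem_univ _), rfl⟩
    · intro l _
      by_cases hl : (l : G) ∈ A
      · rw [hψ l hl, finsum_mem_eq_sum_ite, map_mul, map_inv₀, map_natCast, map_sum,
          Finset.mul_sum, Finset.mul_sum]
        refine Finset.sum_congr rfl fun u _ => ?_
        by_cases hu : u ∈ H (l : G)
        · have hu' : u ∈ ((H (l : G) : Subgroup G) : Set G) := hu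
          rw [if_pos hu', if_pos ⟨hl, hu⟩]
          simp only [hF]
          rw [dade_apply hD hα l hl 1 u hu (by group)]
          ring
        · have hu' : u ∉ ((H (l : G) : Subgroup G) : Set G) := hu
          rw [if_neg hu', if_neg (fun h => hu h.2), map_zero, mul_zero, mul_zero]
      · rw [hαA l hl, zero_mul]
        symm
        apply Finset.sum_eq_zero
        intro u _
        rw [if_neg (fun h => hl h.1)]
  unfold classInner
  rw [hL]
  have hG : (Nat.card G : ℂ) ≠ 0 := Nat.cast_ne_zero.mpr Nat.card_pos.ne'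
  have hLne : (Nat.card L : ℂ) ≠ 0 := Nat.cast_ne_zero.mpr Nat.card_pos.ne'
  have hFsum : ∑ g : G, dadeIsometry A L H α g * (starRingEnd ℂ) (χ g) = ∑ g : G, F g := rfl
  rw [hFsum]
  generalize (∑ g : G, F g) = X at hmain ⊢
  generalize (∑ a : G, ∑ u : G,
    if a ∈ A ∧ u ∈ H a then (Nat.card (H a) : ℂ)⁻¹ * F (a * u) else 0) = Y at hmain ⊢
  calc (Nat.card G : ℂ)⁻¹ * X = (Nat.card G : ℂ)⁻¹ * ((Nat.card L : ℂ)⁻¹ * ((Nat.card L : ℂ) * X)) := by
        field_simp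
    _ = (Nat.card G : ℂ)⁻¹ * ((Nat.card L : ℂ)⁻¹ * ((Nat.card G : ℂ) * Y)) := by rw [hmain]
    _ = (Nat.card L : ℂ)⁻¹ * Y := by field_simp

end

/-- Under the Dade hypothesis for (A, L, H), let α be a class function of L vanishing outside A. Then (i) for every class function β of L vanishing outside A, the inner product over G of the Dade images of α and β equals the inner product of α and β over L; and (ii) for every class function χ of G and every function ψ on L whose value at each a ∈ A is the average of χ over the coset a·H(a), the inner product over G of the Dade image of α with χ equals the inner product over L of α with ψ. -/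
theorem result {G : Type*} [Group G] [Fintype G] (A : Set G) (L : Subgroup G) [Fintype L] (H : G → Subgroup G) (hD : Cfsg.DadeHypothesis A L H) (α : L → ℂ) (hα : Cfsg.IsClassFunction L α) (hαA : ∀ x : L, (x : G) ∉ A → α x = 0) : (∀ β : L → ℂ, Cfsg.IsClassFunction L β → (∀ x : L, (x : G) ∉ A → β x = 0) → Cfsg.classInner (Cfsg.dadeIsometry A L H α) (Cfsg.dadeIsometry A L H β) = Cfsg.classInner α β) ∧ (∀ (χ : G → ℂ) (ψ : L → ℂ), Cfsg.IsClassFunction G χ → (∀ a : L, (a : G) ∈ A → ψ a = (Nat.card (H a) : ℂ)⁻¹ * ∑ᶠ u ∈ (H a : Set G), χ (a * u)) → Cfsg.classInner (Cfsg.dadeIsometry A L H α) χ = Cfsg.classInner α ψ) := by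
  have h2 : ∀ (χ : G → ℂ) (ψ : L → ℂ), Cfsg.IsClassFunction G χ → (∀ a : L, (a : G) ∈ A → ψ a = (Nat.card (H a) : ℂ)⁻¹ * ∑ᶠ u ∈ (H a : Set G), χ (a * u)) → Cfsg.classInner (Cfsg.dadeIsometry A L H α) χ = Cfsg.classInner α ψ :=
    fun χ ψ hχ hψ => part_two hD α hα hαA χ ψ hχ hψ
  refine ⟨?_, h2⟩
  intro β hβ hβA
  apply h2 _ _ (dade_classFunction hD hβ)
  intro a ha
  rw [finsum_mem_eq_sum_ite]
  have h3 : ∀ u : G, (if u ∈ ((H (a : G) : Subgroup G) : Set G) then dadeIsometry A L H β ((a : G) * u) else 0)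
      = if u ∈ ((H (a : G) : Subgroup G) : Set G) then β a else 0 := by
    intro u
    by_cases hu : u ∈ ((H (a : G) : Subgroup G) : Set G)
    · rw [if_pos hu, if_pos hu]
      exact dade_apply hD hβ a ha 1 u hu (by group)
    · rw [if_neg hu, if_neg hu]
  simp_rw [h3]
  rw [Finset.sum_ite, Finset.sum_const_zero, add_zero, Finset.sum_const, nsmul_eq_mul]
  have hcard : (Finset.univ.filter (fun u : G => u ∈ ((H (a : G) : Subgroup G) : Set G))).card
      = Nat.card (H (a : G)) := by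
    rw [Nat.card_eq_fintype_card, Fintype.card_subtype]
    rfl
  rw [hcard]
  have hne : (Nat.card (H (a : G)) : ℂ) ≠ 0 := Nat.cast_ne_zero.mpr Nat.card_pos.ne'
  rw [← mul_assoc, inv_mul_cancel₀ hne, one_mul]

end Cfsg.Agent.S1500
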