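import Cfsg.Statements.S1492
import Cfsg.Agent.Lib.Helper4.ResInd
import Cfsg.Agent.Lib.Helper4.FaithfulIrr
import Cfsg.Agent.Lib.Helper4.CharIntegral
import Cfsg.Agent.Lib.Helper4.RepEigen

set_option autoImplicit false
open Cfsg

namespace Cfsg.Agent.S1492

/-- Let ψ be an irreducible character of the finite group G and B ≤ D ≤ C subgroups with B normal in C, every commutator of an element of D with an element of C lying in B (so D/B is central in C/B), and ψ constant equal to ψ 1 on B. Then ψ(1) ^ 2 * |C| * |D| ≤ |G| ^ 2. -/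
theorem result {G : Type*} [Group G] [Finite G] (ψ : G → ℂ) (hψ : Cfsg.IsIrrCharacter G ψ) (B C D : Subgroup G) (hBD : B ≤ D) (hDC : D ≤ C) (hBn : ∀ c ∈ C, ∀ b ∈ B, c * b * c⁻¹ ∈ B) (hcent : ∀ d ∈ D, ∀ c ∈ C, d * c * d⁻¹ * c⁻¹ ∈ B) (hker : ∀ b ∈ B, ψ b = ψ 1) : ‖ψ 1‖ ^ 2 * (Nat.card C : ℝ) * (Nat.card D : ℝ) ≤ (Nat.card G : ℝ) ^ 2 := by
  classical
  have : Fintype G := Fintype.ofFinite G
  obtain ⟨n, ρ, hρ, rfl⟩ := hψ
  have : Fintype C := Fintype.ofFinite C
  let ρC : Representation ℂ C (Fin n → ℂ) := ρ.comp C.subtype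
  have hV : Module.finrank ℂ (Fin n → ℂ) ≠ 0 := by
    exact_mod_cast Cfsg.Agent.Lib.Helper4.finrank_ne_zero_of_irreducible ρ hρ
  obtain ⟨m, τ, hτ, hne⟩ := Cfsg.Agent.Lib.Helper4.exists_irreducible_injective ρC hV
  obtain ⟨f, hf⟩ := Cfsg.Agent.Lib.Helper4.exists_injective_of_classInner_ne_zero τ ρC hτ hne
  -- B acts trivially
  have hB : ∀ (b : C), (b : G) ∈ B → τ b = LinearMap.id := by
    intro b hb
    have h1 : ρ (b : G) = LinearMap.id := by
      rw [← Cfsg.Agent.Lib.Helper4.character_eq_finrank_iff, hker _ hb, Representation.char_one]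
    apply LinearMap.ext
    intro v
    apply hf
    rw [f.isIntertwining]
    show ρ (b : G) (f v) = f (LinearMap.id v)
    rw [h1]
    rfl
  -- D acts by scalars
  have hD : ∀ (d : C), (d : G) ∈ D → ‖τ.character d‖ = (m : ℝ) := by
    intro d hd
    have hsc : ∃ c : ℂ, τ d = c • LinearMap.id := by
      apply Cfsg.Agent.Lib.Helper4.exists_scalar_of_commute τ hτ
      intro c v
      have hmem : ((d * c * d⁻¹ * c⁻¹ : C) : G) ∈ B := by
        have := hcent (d : G) hd (c : G) c.2
        simpa using this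
      have h1 := hB _ hmem
      have h2 : τ d * τ c = τ c * τ d := by
        have h3 : τ (d * c * d⁻¹ * c⁻¹) * (τ c * τ d) = τ d * τ c := by
          rw [← map_mul, ← map_mul, ← map_mul]
          congr 1
          group
        rw [← h3, h1]
        rfl
      have := LinearMap.congr_fun h2 v
      simpa using this
    have := (Cfsg.Agent.Lib.Helper4.norm_character_eq_finrank_iff τ d).mpr hsc
    simpa using this
  -- orthonormality on C
  have hsum : ∑ c : C, Complex.normSq (τ.character c) = (Nat.card C : ℝ) := by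
    have h1 := Cfsg.Agent.Lib.Helper4.sum_char_mul_char_inv τ hτ
    have h2 : ∑ g : C, τ.character g * τ.character g⁻¹ =
        ((∑ g : C, Complex.normSq (τ.character g) : ℝ) : ℂ) := by
      rw [Complex.ofReal_sum]
      refine Finset.sum_congr rfl fun g _ => ?_
      rw [Cfsg.Agent.Lib.Helper4.character_inv, Complex.mul_conj]
    rw [h2] at h1
    exact_mod_cast h1
  have hDle : (Nat.card D : ℝ) * (m : ℝ) ^ 2 ≤ (Nat.card C : ℝ) := by
    rw [← hsum]
    have h1 : ∑ c ∈ Finset.univ.filter (fun c : C => (c : G) ∈ D), Complex.normSq (τ.character c) ≤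
        ∑ c : C, Complex.normSq (τ.character c) := by
      apply Finset.sum_le_sum_of_subset_of_nonneg (Finset.filter_subset _ _)
      intro c _ _
      exact Complex.normSq_nonneg _
    refine le_trans ?_ h1
    have h2 : ∀ c ∈ Finset.univ.filter (fun c : C => (c : G) ∈ D),
        Complex.normSq (τ.character c) = (m : ℝ) ^ 2 := by
      intro c hc
      rw [Complex.normSq_eq_norm_sq, hD c (Finset.mem_filter.mp hc).2]
    rw [Finset.sum_congr rfl h2, Finset.sum_const, nsmul_eq_mul]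
    have h3 : (Finset.univ.filter (fun c : C => (c : G) ∈ D)).card = Nat.card D := by
      rw [← Nat.card_congr (Subgroup.subgroupOfEquivOfLe hDC).toEquiv]
      rw [Nat.card_eq_fintype_card, Fintype.card_subtype]
      rfl
    rw [h3]
  -- degree bound
  have hdeg : n ≤ C.index * m := by
    have := Cfsg.Agent.Lib.Helper4.degree_le_index_mul ρ hρ C τ hne
    simpa using this
  have hψ1 : ‖ρ.character 1‖ = (n : ℝ) := by
    rw [Representation.char_one]
    simp
  rw [hψ1]
  have hidx : (Nat.card G : ℝ) = (Nat.card C : ℝ) * (C.index : ℝ) := by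
    rw [← Subgroup.card_mul_index C]
    push_cast
    ring
  have hdegR : (n : ℝ) ≤ (C.index : ℝ) * (m : ℝ) := by exact_mod_cast hdeg
  have hCpos : (0 : ℝ) < Nat.card C := by exact_mod_cast Nat.card_pos
  have hDpos : (0 : ℝ) < Nat.card D := by exact_mod_cast Nat.card_pos
  have hn0 : (0 : ℝ) ≤ n := Nat.cast_nonneg n
  have hm0 : (0 : ℝ) ≤ m := Nat.cast_nonneg m
  have hi0 : (0 : ℝ) ≤ C.index := Nat.cast_nonneg _
  rw [hidx]
  have h1 : (n : ℝ) ^ 2 ≤ ((C.index : ℝ) * (m : ℝ)) ^ 2 := by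
    apply pow_le_pow_left₀ hn0 hdegR
  calc (n : ℝ) ^ 2 * (Nat.card C : ℝ) * (Nat.card D : ℝ)
      ≤ ((C.index : ℝ) * (m : ℝ)) ^ 2 * (Nat.card C : ℝ) * (Nat.card D : ℝ) := by
        apply mul_le_mul_of_nonneg_right _ hDpos.le
        apply mul_le_mul_of_nonneg_right h1 hCpos.le
    _ = (C.index : ℝ) ^ 2 * (Nat.card C : ℝ) * ((Nat.card D : ℝ) * (m : ℝ) ^ 2) := by ring
    _ ≤ (C.index : ℝ) ^ 2 * (Nat.card C : ℝ) * (Nat.card C : ℝ) := by
        apply mul_le_mul_of_nonneg_left hDle
        positivity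
    _ = ((Nat.card C : ℝ) * (C.index : ℝ)) ^ 2 := by ring

end Cfsg.Agent.S1492
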