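import Cfsg.Statements.S4496
import Cfsg.Agent.Lib.Helper11.SelfCent
import Cfsg.Agent.Lib.Helper11.FibreFix
import Cfsg.Agent.Lib.Helper11.FrobeniusF

set_option autoImplicit false
open Cfsg

namespace Cfsg.Agent.S4496

open Subgroup Cfsg.Agent.Lib.Helper11

/-- In the self-centralising situation, a normal subgroup of order divisible by `p` contains `x`. -/
theorem mem_of_dvd_card {G : Type*} [Group G] [Finite G] {p : ℕ} [Fact p.Prime] {x : G}
    (hx : orderOf x = p) (hC : centralizer ({x} : Set G) = zpowers x) (S : Subgroup G) [S.Normal]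
    (hS : p ∣ Nat.card S) : x ∈ S := by
  have hp : p.Prime := Fact.out
  obtain ⟨s, hs⟩ := exists_prime_orderOf_dvd_card' p hS
  have hs' : orderOf (s : G) = p := by rw [Subgroup.orderOf_coe]; exact hs
  obtain ⟨h, hh⟩ := selfCent_exists_conj_mem hx hC (s : G) 1
    (by rw [pow_one, ← hs', pow_orderOf_eq_one])
  have hs1 : (s : G) ≠ 1 := by
    intro h1
    rw [h1, orderOf_one] at hs'
    exact hp.one_lt.ne hs'
  have hne : h * (s : G) * h⁻¹ ≠ 1 := by
    intro h1
    apply hs1
    have : (s : G) = h⁻¹ * (h * (s : G) * h⁻¹) * h := by group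
    rw [this, h1]; group
  have hz := selfCent_zpowers_eq hp hx hh hne
  have hmem : h * (s : G) * h⁻¹ ∈ S := (inferInstance : S.Normal).conj_mem _ s.2 h
  have : x ∈ zpowers (h * (s : G) * h⁻¹) := hz ▸ mem_zpowers x
  exact (zpowers_le.2 hmem) this

/-- A normal `p'`-subgroup meets `⟨x⟩` trivially. -/
theorem eq_one_of_mem_of_mem_zpowers {G : Type*} [Group G] [Finite G] {p : ℕ} (hp : p.Prime)
    {x : G} (hx : orderOf x = p) (S : Subgroup G) (hS : ¬ p ∣ Nat.card S) (g : G) (hgS : g ∈ S)
    (hgP : g ∈ zpowers x) : g = 1 := by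
  have hord : orderOf g ∣ p := by
    have := Subgroup.orderOf_dvd_natCard (zpowers x) hgP
    rwa [Nat.card_zpowers, hx] at this
  have hord' : orderOf g ∣ Nat.card S := Subgroup.orderOf_dvd_natCard S hgS
  rcases (Nat.dvd_prime hp).1 hord with h1 | h1
  · exact orderOf_eq_one_iff.1 h1
  · exact absurd (h1 ▸ hord') hS

/-- Let the finite group G contain an element x of prime order p with C_G(x) = ⟨x⟩. Then: (a) every normal subgroup of order divisible by p contains the commutator subgroup; (b) every normal subgroup S of order prime to p has order dividing the number of subgroups of order p of G and congruent to 1 modulo p, and in G/S the image of x again has prime order p and commutes only with its own powers. -/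
theorem result {G : Type*} [Group G] [Finite G] (p : ℕ) (hp : p.Prime) (x : G) (hx : orderOf x = p) (hC : Subgroup.centralizer ({x} : Set G) = Subgroup.zpowers x) (S : Subgroup G) [S.Normal] : (p ∣ Nat.card S → commutator G ≤ S) ∧ (¬ p ∣ Nat.card S → Nat.card S ∣ Nat.card {H : Subgroup G // Nat.card H = p} ∧ Nat.card S % p = 1 ∧ orderOf (QuotientGroup.mk x : G ⧸ S) = p ∧ Subgroup.centralizer ({(QuotientGroup.mk x : G ⧸ S)} : Set (G ⧸ S)) = Subgroup.zpowers (QuotientGroup.mk x : G ⧸ S)) := by
  classical
  haveI : Fact p.Prime := ⟨hp⟩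
  have hSn : S.Normal := inferInstance
  constructor
  · intro hS
    exact selfCent_commutator_le hx hC S (mem_of_dvd_card hx hC S hS)
  · intro hS
    have hSP : ∀ g, g ∈ S → g ∈ zpowers x → g = 1 :=
      fun g h1 h2 => eq_one_of_mem_of_mem_zpowers hp hx S hS g h1 h2
    have hSC : ∀ g, g ∈ S → x * g = g * x → g = 1 := by
      intro g hg hgx
      apply hSP g hg
      rw [← hC, mem_centralizer_iff]
      intro w hw
      rw [Set.mem_singleton_iff.1 hw]
      exact hgx
    refine ⟨?_, ?_, ?_, ?_⟩
    · -- (a)
      obtain ⟨P, hP⟩ := selfCent_exists_sylow hx hC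
      have hPcard : Nat.card (P : Subgroup G) = p := by rw [hP, Nat.card_zpowers, hx]
      have hfac : (Nat.card G).factorization p = 1 := by
        have h1 := P.card_eq_multiplicity
        rw [hPcard] at h1
        have h2 : p ^ 1 = p ^ (Nat.card G).factorization p := by rw [pow_one]; exact h1
        exact (Nat.pow_right_injective hp.two_le h2).symm
      have hequiv : Nat.card {H : Subgroup G // Nat.card H = p} = Nat.card (Sylow p G) := by
        refine Nat.card_congr ⟨fun H => Sylow.ofCard H.1 (by rw [H.2, hfac, pow_one]),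
          fun Q => ⟨Q, by rw [Q.card_eq_multiplicity, hfac, pow_one]⟩, ?_, ?_⟩
        · intro H
          apply Subtype.ext
          rfl
        · intro Q
          apply Sylow.ext
          rfl
      rw [hequiv, P.card_eq_index_normalizer]
      have hbot : normalizer ((P : Subgroup G) : Set G) ⊓ S = ⊥ := by
        rw [eq_bot_iff]
        rintro s ⟨hsN, hsS⟩
        rw [hP] at hsN
        rw [mem_bot]
        apply hSC s hsS
        have h1 : s * x * s⁻¹ ∈ zpowers x := ((mem_normalizer_iff.1 hsN) x).1 (mem_zpowers x)
        have h2 : s * x * s⁻¹ * x⁻¹ ∈ zpowers x := mul_mem h1 (inv_mem (mem_zpowers x))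
        have h3 : s * x * s⁻¹ * x⁻¹ ∈ S := by
          have : s * x * s⁻¹ * x⁻¹ = s * (x * s⁻¹ * x⁻¹) := by group
          rw [this]
          exact S.mul_mem hsS (hSn.conj_mem _ (S.inv_mem hsS) x)
        have h4 := hSP _ h3 h2
        have : x * s = (s * x * s⁻¹ * x⁻¹)⁻¹ * (s * x) := by group
        rw [this, h4, inv_one, one_mul]
      have h1 : (normalizer ((P : Subgroup G) : Set G)).relIndex S = Nat.card S := by
        rw [← inf_relIndex_right, hbot, relIndex_bot_left]
      rw [← h1]
      have := relIndex_dvd_index_of_normal_right (normalizer ((P : Subgroup G) : Set G)) S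
      convert this using 2
      rw [Sylow.coe_coe]
    · -- (b)
      have hQ : IsPGroup p (zpowers x) :=
        IsPGroup.of_card (n := 1) (by rw [Nat.card_zpowers, hx, pow_one])
      have h1 := card_modEq_card_centralized S (zpowers x) hQ
      have h2 : Nat.card {g : G // g ∈ S ∧ ∀ k ∈ zpowers x, k * g = g * k} = 1 := by
        rw [Nat.card_eq_one_iff_unique]
        refine ⟨⟨fun a b => ?_⟩, ⟨⟨1, one_mem S, fun k _ => by simp⟩⟩⟩
        apply Subtype.ext
        rw [hSC a.1 a.2.1 (a.2.2 x (mem_zpowers x)), hSC b.1 b.2.1 (b.2.2 x (mem_zpowers x))]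
      rw [h2] at h1
      have h3 : Nat.card S % p = 1 % p := h1
      rw [h3]
      exact Nat.mod_eq_of_lt hp.one_lt
    · -- (c)
      apply orderOf_eq_prime
      · rw [← QuotientGroup.mk_pow, ← hx, pow_orderOf_eq_one]
        rfl
      · intro h1
        rw [QuotientGroup.eq_one_iff] at h1
        have := hSP x h1 (mem_zpowers x)
        rw [this, orderOf_one] at hx
        exact hp.one_lt.ne hx
    · -- (d)
      ext c
      rw [mem_centralizer_iff]
      constructor
      · intro hc
        have hc' : (QuotientGroup.mk x : G ⧸ S) * c = c * QuotientGroup.mk x :=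
          hc _ (Set.mem_singleton _)
        have hQ : IsPGroup p (zpowers x) :=
          IsPGroup.of_card (n := 1) (by rw [Nat.card_zpowers, hx, pow_one])
        have hck : ∀ k ∈ zpowers x, (QuotientGroup.mk k : G ⧸ S) * c = c * QuotientGroup.mk k := by
          intro k hk
          obtain ⟨j, rfl⟩ := mem_zpowers_iff.1 hk
          rw [QuotientGroup.mk_zpow]
          exact ((Commute.zpow_left (show Commute (QuotientGroup.mk x : G ⧸ S) c from hc') j)).eq
        obtain ⟨g, hg, hgk⟩ := exists_commute_in_fibre S hS (zpowers x) hQ c hck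
        have hgP : g ∈ zpowers x := by
          rw [← hC, mem_centralizer_iff]
          intro w hw
          rw [Set.mem_singleton_iff.1 hw]
          exact hgk x (mem_zpowers x)
        obtain ⟨j, rfl⟩ := mem_zpowers_iff.1 hgP
        rw [← hg, QuotientGroup.mk_zpow]
        exact zpow_mem (mem_zpowers _) j
      · intro hc w hw
        rw [Set.mem_singleton_iff.1 hw]
        obtain ⟨j, rfl⟩ := mem_zpowers_iff.1 hc
        exact ((Commute.zpow_right (Commute.refl (QuotientGroup.mk x : G ⧸ S)) j)).eq

end Cfsg.Agent.S4496
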