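import Cfsg.Statements.S0888
import Cfsg.Agent.Lib.Helper7.SylowExt
import Cfsg.Agent.Lib.Helper4.Decomp
import Cfsg.Agent.S0886

set_option autoImplicit false
open Cfsg

namespace Cfsg.Agent.S0888

open Cfsg.Agent.Lib.Helper7 Cfsg.Agent.Lib.Helper4

/-- Let N be a normal subgroup of the finite group G and ϑ an irreducible character of N invariant under conjugation by G. Suppose that for every prime p there are a subgroup P containing N, of index prime to p and with the index of N in P a power of p, and an irreducible character of P restricting to ϑ. Then ϑ is the restriction of an irreducible character of G. -/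
theorem result {G : Type*} [Group G] [Finite G] (N : Subgroup G) [hN : N.Normal] (ϑ : N → ℂ) (hϑ : Cfsg.IsIrrCharacter N ϑ) (hinv : ∀ (g : G) (n : N), ϑ ⟨g * n * g⁻¹, hN.conj_mem (n : G) n.2 g⟩ = ϑ n) (hsyl : ∀ p : ℕ, p.Prime → ∃ (P : Subgroup G) (hNP : N ≤ P) (η : P → ℂ), Nat.Coprime P.index p ∧ (∃ k : ℕ, N.relIndex P = p ^ k) ∧ Cfsg.IsIrrCharacter P η ∧ ∀ n : N, η ⟨(n : G), hNP n.2⟩ = ϑ n) : ∃ χ : G → ℂ, Cfsg.IsIrrCharacter G χ ∧ ∀ n : N, χ n = ϑ n := by
  classical
  have : Fintype G := Fintype.ofFinite G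
  have : Fintype N := Fintype.ofFinite N
  obtain ⟨d, σ, hσirr, hσϑ⟩ := hϑ
  obtain ⟨X, hX⟩ := exists_rep_extension_of_sylow N σ hσirr (by
    intro g n
    rw [hσϑ]; exact hinv g n) (by
    intro p hp
    obtain ⟨P, hNP, η, hcop, -, hη, hηϑ⟩ := hsyl p hp
    obtain ⟨d', Y₀, -, hY₀⟩ := hη
    let Y₀N : Representation ℂ N (Fin d' → ℂ) := MonoidHom.comp Y₀ (Subgroup.inclusion hNP)
    have hchar : Y₀N.character = σ.character := by
      funext n
      rw [hσϑ, ← hηϑ n, ← hY₀]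
      rfl
    obtain ⟨Φ⟩ := equiv_of_character_eq' Y₀N σ hchar
    let E : (Fin d' → ℂ) ≃ₗ[ℂ] (Fin d → ℂ) := Φ.toLinearEquiv
    have hE : ∀ (n : N) (v : Fin d' → ℂ), E (Y₀ ⟨(n : G), hNP n.2⟩ v) = σ n (E v) := fun n v =>
      LinearMap.congr_fun (Φ.isIntertwining' n) v
    refine ⟨P, hNP, transportRep Y₀ E, hcop, fun n => ?_⟩
    apply LinearMap.ext
    intro w
    rw [transportRep_apply, hE, LinearEquiv.apply_symm_apply])
  refine ⟨X.character, ⟨d, X, Cfsg.Agent.S0886.irreducible_of_restrict N X σ hX hσirr, rfl⟩,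
    fun n => ?_⟩
  rw [← hσϑ]
  show LinearMap.trace ℂ _ (X n) = LinearMap.trace ℂ _ (σ n)
  rw [hX n]

end Cfsg.Agent.S0888
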