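import Cfsg.Statements.S4452
import Cfsg.Agent.Lib.Helper7.CoprimeCount

set_option autoImplicit false
open Cfsg

namespace Cfsg.Agent.S4452

open Cfsg.Agent.Lib.Helper26 Cfsg.Agent.Lib.Helper7.GlaubP Cfsg.Agent.Lib.Helper7.GlaubCount
open Cfsg.Agent.Lib.Helper7.CoprimeCount

/-- Let the finite group G be the product of a normal subgroup K and a solvable subgroup H of coprime orders, and let N = N_G(H). Then the number of irreducible characters of G of degree coprime to the order of H equals the number of irreducible characters of N of degree coprime to the order of H. (The two sets are in fact in a canonical bijection; only the equality of their sizes is stated here.) -/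
theorem result {G : Type*} [Group G] [Finite G] (K H : Subgroup G) [K.Normal] (hKH : K ⊔ H = ⊤) (hcop : (Nat.card K).Coprime (Nat.card H)) (hsolv : Group.IsSolvable H) : Nat.card {χ : Cfsg.IrrCharacter G // (Cfsg.charDegree (χ : G → ℂ)).Coprime (Nat.card H)} = Nat.card {η : Cfsg.IrrCharacter (Subgroup.normalizer (H : Set G)) // (Cfsg.charDegree (η : Subgroup.normalizer (H : Set G) → ℂ)).Coprime (Nat.card H)} := by
  classical
  haveI : Fintype G := Fintype.ofFinite G
  haveI : Fintype K := Fintype.ofFinite K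
  have hKn : K.Normal := inferInstance
  -- basic facts
  have hdisj : ∀ x, x ∈ K → x ∈ H → x = 1 := by
    intro x hxK hxH
    have h1 := Subgroup.inf_eq_bot_of_coprime hcop
    have hx : x ∈ K ⊓ H := ⟨hxK, hxH⟩
    rw [h1] at hx
    exact Subgroup.mem_bot.mp hx
  have hprod : ∀ g : G, ∃ k ∈ K, ∃ h ∈ H, g = k * h := by
    intro g
    have hg : g ∈ ((K ⊔ H : Subgroup G) : Set G) := by rw [hKH]; trivial
    rw [Subgroup.normal_mul] at hg
    obtain ⟨k, hk, h, hh, rfl⟩ := Set.mem_mul.mp hg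
    exact ⟨k, hk, h, hh, rfl⟩
  let e := complEquiv K H hdisj hprod
  have hidx : K.index = Nat.card H := by
    rw [Subgroup.index, Nat.card_congr e.toEquiv]
  haveI hsolvQ : Group.IsSolvable (G ⧸ K) :=
    solvable_of_surjective (f := e.toMonoidHom) e.surjective
  have hG := card_coprime_degree K (by rw [hidx]; exact hcop) hsolvQ
  rw [hidx] at hG
  -- the fixed points
  set C : Subgroup G := K ⊓ Subgroup.centralizer (H : Set G) with hC
  have hCmem := mem_fixedSub K H
  rw [← hC] at hCmem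
  have hnormK : ∀ s ∈ H, ∀ g ∈ K, s * g * s⁻¹ ∈ K := fun s _ g hg => hKn.conj_mem g hg s
  have hBG : Nat.card {ϑ : IrrCharacter K // GInv K (ϑ : K → ℂ)} = Nat.card (IrrCharacter C) := by
    rw [← card_inv_irr_aux H hsolv (Nat.card K) K C inf_le_left le_rfl hnormK hcop
      (fun g hg => by rw [hCmem]; exact ⟨fun h => h.2, fun h => ⟨hg, h⟩⟩)]
    refine Nat.card_congr (Equiv.subtypeEquivRight fun ϑ => ⟨?_, ?_⟩)
    · intro h s hs k k' hkk'
      have : k' = ⟨s * k * s⁻¹, hKn.conj_mem k k.2 s⟩ := Subtype.ext hkk'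
      rw [this]
      exact h s k
    · intro h g k
      obtain ⟨k₀, hk₀, h₀, hh₀, rfl⟩ := hprod g
      have h1 : (⟨k₀ * h₀ * k * (k₀ * h₀)⁻¹, hKn.conj_mem k k.2 (k₀ * h₀)⟩ : K) =
          ⟨k₀, hk₀⟩ * ⟨h₀ * k * h₀⁻¹, hKn.conj_mem k k.2 h₀⟩ * (⟨k₀, hk₀⟩ : K)⁻¹ := by
        apply Subtype.ext
        show k₀ * h₀ * (k : G) * (k₀ * h₀)⁻¹ = k₀ * (h₀ * k * h₀⁻¹) * k₀⁻¹
        group
      rw [h1, isClassFunction_of_isIrrCharacter ϑ.2]
      exact h h₀ hh₀ k _ rfl
  -- the normaliser side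
  obtain ⟨N, hNdef⟩ : ∃ N : Subgroup G, N = Subgroup.normalizer (H : Set G) := ⟨_, rfl⟩
  rw [← hNdef]
  haveI : Fintype N := Fintype.ofFinite N
  have hHN : H ≤ N := hNdef ▸ Subgroup.le_normalizer
  have hNmem : ∀ x ∈ N, ∀ y, y ∈ H ↔ x * y * x⁻¹ ∈ H := by
    intro x hx
    rw [hNdef] at hx
    exact Subgroup.mem_normalizer_iff.mp hx
  have hcentral : ∀ x, x ∈ K → x ∈ N → ∀ h ∈ H, x * h = h * x := by
    intro x hxK hxN h hh
    have h1 : x * h * x⁻¹ ∈ H := (hNmem x hxN h).mp hh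
    have h2 : x * h * x⁻¹ * h⁻¹ ∈ H := H.mul_mem h1 (H.inv_mem hh)
    have h3 : x * h * x⁻¹ * h⁻¹ ∈ K := by
      have : x * h * x⁻¹ * h⁻¹ = x * (h * x⁻¹ * h⁻¹) := by group
      rw [this]
      exact K.mul_mem hxK (hKn.conj_mem _ (K.inv_mem hxK) h)
    have h4 := hdisj _ h3 h2
    calc x * h = (x * h * x⁻¹ * h⁻¹) * (h * x) := by group
      _ = h * x := by rw [h4, one_mul]
  set KN : Subgroup N := K.subgroupOf N with hKN
  set HN : Subgroup N := H.subgroupOf N with hHNdef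
  haveI hKNn : KN.Normal := Subgroup.normal_subgroupOf
  haveI : Fintype KN := Fintype.ofFinite KN
  have hdisjN : ∀ x : N, x ∈ KN → x ∈ HN → x = 1 := by
    intro x hxK hxH
    apply Subtype.ext
    exact hdisj _ (Subgroup.mem_subgroupOf.mp hxK) (Subgroup.mem_subgroupOf.mp hxH)
  have hprodN : ∀ n : N, ∃ k ∈ KN, ∃ h ∈ HN, n = k * h := by
    intro n
    obtain ⟨k, hk, h, hh, hn⟩ := hprod (n : G)
    have hhN : h ∈ N := hHN hh
    have hkN : k ∈ N := by
      have : k = n * h⁻¹ := by rw [hn]; group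
      rw [this]
      exact N.mul_mem n.2 (N.inv_mem hhN)
    exact ⟨⟨k, hkN⟩, Subgroup.mem_subgroupOf.mpr hk, ⟨h, hhN⟩, Subgroup.mem_subgroupOf.mpr hh,
      Subtype.ext hn⟩
  let eN := complEquiv KN HN hdisjN hprodN
  let eH : HN ≃* H := Subgroup.subgroupOfEquivOfLe hHN
  have hidxN : KN.index = Nat.card H := by
    rw [Subgroup.index, ← Nat.card_congr eN.toEquiv, Nat.card_congr eH.toEquiv]
  haveI : Group.IsSolvable HN := solvable_of_surjective (f := eH.symm.toMonoidHom) eH.symm.surjective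
  haveI hsolvQN : Group.IsSolvable (N ⧸ KN) :=
    solvable_of_surjective (f := eN.toMonoidHom) eN.surjective
  -- `KN ≃* C`
  let ε : KN ≃* C :=
    { toFun := fun x => ⟨((x : N) : G), (hCmem _).mpr ⟨Subgroup.mem_subgroupOf.mp x.2,
        fun t ht => by
          have := hcentral _ (Subgroup.mem_subgroupOf.mp x.2) (x : N).2 t ht
          rw [← this, mul_inv_cancel_right]⟩⟩
      invFun := fun c => ⟨⟨(c : G), by
          rw [hNdef]
          exact Subgroup.centralizer_le_normalizer _ (Subgroup.mem_inf.mp c.2).2⟩,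
        Subgroup.mem_subgroupOf.mpr ((hCmem c).mp c.2).1⟩
      left_inv := fun x => rfl
      right_inv := fun c => rfl
      map_mul' := fun x y => rfl }
  have hcopN : (Nat.card KN).Coprime KN.index := by
    rw [hidxN, Nat.card_congr ε.toEquiv]
    exact Nat.Coprime.coprime_dvd_left (Subgroup.card_dvd_of_le (inf_le_left : C ≤ K)) hcop
  have hNc := card_coprime_degree KN hcopN hsolvQN
  rw [hidxN] at hNc
  have hBN : Nat.card {ϑ : IrrCharacter KN // GInv KN (ϑ : KN → ℂ)} =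
      Nat.card (IrrCharacter C) := by
    rw [← card_irr_congr ε]
    refine Nat.card_congr (Equiv.subtypeUnivEquiv fun ϑ => ?_)
    intro x k
    obtain ⟨k₀, hk₀, h₀, hh₀, rfl⟩ := hprodN x
    have h1 : (⟨k₀ * h₀ * k * (k₀ * h₀)⁻¹, hKNn.conj_mem k k.2 (k₀ * h₀)⟩ : KN) =
        ⟨k₀, hk₀⟩ * k * (⟨k₀, hk₀⟩ : KN)⁻¹ := by
      apply Subtype.ext
      apply Subtype.ext
      show ((k₀ : G) * h₀ * ((k : N) : G) * ((k₀ : G) * h₀)⁻¹) = (k₀ : G) * ((k : N) : G) * (k₀ : G)⁻¹
      have h2 := hcentral _ (Subgroup.mem_subgroupOf.mp k.2) (k : N).2 _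
        (Subgroup.mem_subgroupOf.mp hh₀)
      calc (k₀ : G) * h₀ * ((k : N) : G) * ((k₀ : G) * h₀)⁻¹
          = (k₀ : G) * ((h₀ : G) * ((k : N) : G)) * (h₀ : G)⁻¹ * (k₀ : G)⁻¹ := by group
        _ = (k₀ : G) * ((k : N) : G) * (k₀ : G)⁻¹ := by rw [← h2]; group
    rw [h1, isClassFunction_of_isIrrCharacter ϑ.2]
  rw [hG, hNc, hBG, hBN, card_hom_congr e.symm, card_hom_congr eN.symm, card_hom_congr eH]

end Cfsg.Agent.S4452
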