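import Cfsg.Statements.S0855
import Cfsg.Agent.Lib.Helper4.Artin
import Cfsg.Agent.Lib.Helper7.CliffordCorr
import Cfsg.Agent.Lib.Helper26.IndChar
import Cfsg.Agent.Lib.Helper26.TIInd
import Cfsg.Agent.S0134
import Cfsg.Agent.S0154
import Cfsg.Agent.S0187
import Cfsg.Agent.S0169
import Cfsg.Agent.S0854

set_option autoImplicit false
open Cfsg

namespace Cfsg.Agent.S0855

universe u

/-- a proper normal subgroup of `p`-power index exists when `p` divides `|G : G'|` -/
theorem exists_normal_pow_index (p : ℕ) [hp : Fact p.Prime] (G : Type*) [Group G] [Finite G]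
    (h : p ∣ (commutator G).index) :
    ∃ N : Subgroup G, N.Normal ∧ N ≠ ⊤ ∧ ∃ j : ℕ, N.index = p ^ j := by
  classical
  let Q := Abelianization G
  have hQfin : Finite Q := by
    show Finite (G ⧸ commutator G)
    infer_instance
  have hQcard : Nat.card Q = (commutator G).index := by
    rw [Subgroup.index_eq_card]
    rfl
  haveI : Finite (Q →* ℂˣ) := Cfsg.Agent.Lib.Helper4.finite_monoidHom_units
  have : NeZero ((Monoid.exponent Q : ℕ) : ℂ) :=
    ⟨Nat.cast_ne_zero.mpr Monoid.exponent_ne_zero_of_finite⟩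
  have hL : Nat.card (Q →* ℂˣ) = Nat.card Q :=
    CommGroup.card_monoidHom_of_hasEnoughRootsOfUnity Q ℂ
  have hdvd : p ∣ Nat.card (Q →* ℂˣ) := by rw [hL, hQcard]; exact h
  obtain ⟨lam, hlam⟩ := exists_prime_orderOf_dvd_card' p hdvd
  let lam' : G →* ℂˣ := lam.comp Abelianization.of
  refine ⟨lam'.ker, MonoidHom.normal_ker lam', ?_, ?_⟩
  · intro htop
    have h1 : lam = 1 := by
      apply MonoidHom.ext
      intro q
      obtain ⟨g, rfl⟩ := QuotientGroup.mk_surjective q
      have hg : g ∈ lam'.ker := by rw [htop]; trivial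
      exact hg
    rw [h1, orderOf_one] at hlam
    exact hp.out.one_lt.ne' hlam.symm
  · rw [Subgroup.index_ker]
    have hpg : IsPGroup p lam'.range := by
      rintro ⟨y, g, rfl⟩
      refine ⟨1, ?_⟩
      apply Subtype.ext
      have h2 : lam ^ p = 1 := by rw [← hlam]; exact pow_orderOf_eq_one lam
      have h3 : lam (Abelianization.of g) ^ p = 1 := by
        have := DFunLike.congr_fun h2 (Abelianization.of g)
        simpa using this
      show lam' g ^ p ^ 1 = 1
      rw [pow_one]
      exact h3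
    haveI : Finite lam'.range :=
      Finite.of_surjective lam'.rangeRestrict lam'.rangeRestrict_surjective
    exact hpg.exists_card_eq

open Cfsg.Agent.Lib.Helper26 Cfsg.Agent.Lib.Helper7 in
/-- degrees of a normal subgroup divide degrees of the group -/
theorem exists_dvd_degree {G : Type*} [Group G] [Fintype G] (N : Subgroup G) [hN : N.Normal]
    [Fintype N] (θ : N → ℂ) (hθ : Cfsg.IsIrrCharacter N θ) :
    ∃ (χ : Cfsg.IrrCharacter G) (d c : ℕ), θ 1 = d ∧ (χ : G → ℂ) 1 = c ∧ d ∣ c := by
  classical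
  have : Fintype (Cfsg.IrrCharacter G) := Fintype.ofFinite _
  obtain ⟨d, hd0, hd⟩ := irr_degree hθ
  have hind : Cfsg.IsCharacter G (Cfsg.indFun N θ) :=
    isCharacter_indFun N (isCharacter_of_isIrrCharacter hθ)
  have hind1 : Cfsg.indFun N θ 1 ≠ 0 := by
    rw [indFun_one, hd]
    have h1 : (Nat.card N : ℂ) ≠ 0 := Nat.cast_ne_zero.mpr Nat.card_pos.ne'
    have h2 : (Fintype.card G : ℂ) ≠ 0 := Nat.cast_ne_zero.mpr Fintype.card_pos.ne'
    have h3 : (d : ℂ) ≠ 0 := Nat.cast_ne_zero.mpr hd0.ne'
    exact mul_ne_zero (inv_ne_zero h1) (mul_ne_zero h2 h3)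
  obtain ⟨χ, hχ⟩ := Cfsg.Agent.Lib.Helper7.exists_constituent hind hind1
  have hχcf : Cfsg.IsClassFunction G (χ : G → ℂ) :=
    Cfsg.Agent.Lib.Helper26.isClassFunction_of_isIrrCharacter χ.2
  have hcon : Cfsg.classInner (fun n : N => (χ : G → ℂ) n) θ ≠ 0 := by
    rw [classInner_indFun_left' N θ _ hχcf] at hχ
    intro h
    apply hχ
    rw [← classInner_conj_symm]
    have : Cfsg.classInner ((χ : G → ℂ) ∘ N.subtype) θ = 0 := h
    rw [this, map_zero]
  set T := Cfsg.Agent.S0169.inertia N θ with hT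
  have : Fintype T := Fintype.ofFinite T
  have hNT : N ≤ T := Cfsg.Agent.S0169.le_inertia N θ
    (Cfsg.Agent.Lib.Helper26.isClassFunction_of_isIrrCharacter hθ)
  obtain ⟨ψ, hψ, hindψ, hcl⟩ := Cfsg.Agent.S0854.result N θ hθ T
    (Cfsg.Agent.S0169.mem_inertia N θ) hNT χ χ.2 hcon
  have hinvT : ∀ t ∈ T, ∀ n : N, θ ⟨t * n * t⁻¹, hN.conj_mem (n : G) n.2 t⟩ = θ n :=
    fun t ht n => (Cfsg.Agent.S0169.mem_inertia N θ t).mp ht n
  obtain ⟨f, hf0, hf⟩ := restrict_inertia N T hNT θ hθ hinvT ψ hψ (by rw [hcl]; exact hcon)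
  have hψ1 : ψ 1 = (f : ℂ) * (d : ℂ) := by
    have := congrFun hf 1
    simp only [Pi.smul_apply, smul_eq_mul, hd] at this
    rw [← this]
    rfl
  obtain ⟨c, hc0, hc⟩ := irr_degree χ.2
  refine ⟨χ, d, c, hd, hc, ?_⟩
  have h1 : (χ : G → ℂ) 1 = (Nat.card T : ℂ)⁻¹ * ((Fintype.card G : ℂ) * ψ 1) := by
    rw [← hindψ, indFun_one]
  rw [hc, hψ1, ← Nat.card_eq_fintype_card, ← Subgroup.card_mul_index T] at h1
  have hTne : (Nat.card T : ℂ) ≠ 0 := Nat.cast_ne_zero.mpr Nat.card_pos.ne'
  have h2 : (c : ℂ) = ((T.index * f * d : ℕ) : ℂ) := by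
    rw [h1]
    push_cast
    field_simp
  have h3 : c = T.index * f * d := by exact_mod_cast h2
  exact ⟨T.index * f, by rw [h3]; ring⟩

theorem aux (p : ℕ) (hp : p.Prime) : ∀ (n : ℕ) (G : Type u) [Group G] [Finite G], Nat.card G = n →
    (∀ χ : Cfsg.IrrCharacter G, ∃ k : ℕ, (χ : G → ℂ) 1 = (p : ℂ) ^ k) →
    ∃ A : Subgroup G, A.Normal ∧ (∀ a ∈ A, ∀ b ∈ A, a * b = b * a) ∧
      Nat.Coprime (Nat.card A) p ∧ ∃ k : ℕ, A.index = p ^ k := by
  intro n
  induction n using Nat.strong_induction_on with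
  | _ n ih =>
    intro G _ _ hcard hdeg
    classical
    haveI : Fact p.Prime := ⟨hp⟩
    have : Fintype G := Fintype.ofFinite G
    have : Fintype (Cfsg.IrrCharacter G) := Fintype.ofFinite _
    by_cases hpG : p ∣ Nat.card G
    · -- p divides the index of the commutator subgroup
      choose k hk using hdeg
      have hsum : ∑ χ : Cfsg.IrrCharacter G, p ^ (2 * k χ) = Nat.card G := by
        have h1 := Cfsg.Agent.S0134.result (G := G)
        rw [finsum_eq_sum_of_fintype] at h1
        have h2 : ((∑ χ : Cfsg.IrrCharacter G, p ^ (2 * k χ) : ℕ) : ℂ) = (Nat.card G : ℂ) := by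
          rw [← h1]
          push_cast
          refine Finset.sum_congr rfl fun χ _ => ?_
          rw [hk χ, ← pow_mul, mul_comm]
        exact_mod_cast h2
      have hlin : (Finset.univ.filter (fun χ : Cfsg.IrrCharacter G => k χ = 0)).card =
          (commutator G).index := by
        rw [← Cfsg.Agent.S0154.result (G := G), Nat.card_eq_fintype_card, Fintype.card_subtype]
        congr 1
        apply Finset.filter_congr
        intro χ _
        rw [hk χ]
        constructor
        · intro h; rw [h, pow_zero]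
        · intro h
          by_contra h0
          have h1 : (p : ℂ) ^ k χ = ((p ^ k χ : ℕ) : ℂ) := by push_cast; rfl
          rw [h1] at h
          have h2 : p ^ k χ = 1 := by exact_mod_cast h
          rcases Nat.pow_eq_one.mp h2 with h3 | h3
          · exact hp.one_lt.ne' h3
          · exact h0 h3
      have hdvdidx : p ∣ (commutator G).index := by
        rw [← hlin]
        have hsplit : ∑ χ : Cfsg.IrrCharacter G, p ^ (2 * k χ) =
            (Finset.univ.filter (fun χ : Cfsg.IrrCharacter G => k χ = 0)).card +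
              ∑ χ ∈ Finset.univ.filter (fun χ : Cfsg.IrrCharacter G => ¬ k χ = 0),
                p ^ (2 * k χ) := by
          rw [← Finset.sum_filter_add_sum_filter_not Finset.univ
            (fun χ : Cfsg.IrrCharacter G => k χ = 0)]
          congr 1
          rw [Finset.card_eq_sum_ones]
          refine Finset.sum_congr rfl fun χ hχ => ?_
          rw [(Finset.mem_filter.mp hχ).2]
          simp
        have h2 : p ∣ ∑ χ ∈ Finset.univ.filter (fun χ : Cfsg.IrrCharacter G => ¬ k χ = 0),
            p ^ (2 * k χ) := by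
          apply Finset.dvd_sum
          intro χ hχ
          have h0 := (Finset.mem_filter.mp hχ).2
          exact dvd_pow_self p (by omega)
        rw [hsum] at hsplit
        rw [hsplit] at hpG
        exact (Nat.dvd_add_left h2).mp hpG
      obtain ⟨N, hNn, hNtop, j, hNj⟩ := exists_normal_pow_index p G hdvdidx
      haveI := hNn
      have : Fintype N := Fintype.ofFinite N
      have hNlt : Nat.card N < n := by
        rw [← hcard]
        apply lt_of_le_of_ne (Subgroup.card_le_card_group N)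
        intro h
        exact hNtop ((Subgroup.card_eq_iff_eq_top N).mp h)
      have hdegN : ∀ θ : Cfsg.IrrCharacter N, ∃ i : ℕ, (θ : N → ℂ) 1 = (p : ℂ) ^ i := by
        intro θ
        obtain ⟨χ, d, c, hd, hc, hdc⟩ := exists_dvd_degree N (θ : N → ℂ) θ.2
        have h1 : (c : ℂ) = ((p ^ k χ : ℕ) : ℂ) := by rw [← hc, hk χ]; push_cast; rfl
        have h2 : c = p ^ k χ := by exact_mod_cast h1
        rw [h2] at hdc
        obtain ⟨i, _, hi⟩ := (Nat.dvd_prime_pow hp).mp hdc
        exact ⟨i, by rw [hd, hi]; push_cast; rfl⟩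
      obtain ⟨A₀, hA₀n, hA₀ab, hA₀cop, i, hA₀i⟩ := ih (Nat.card N) hNlt N rfl hdegN
      refine ⟨A₀.map N.subtype, ?_, ?_, ?_, ⟨i + j, ?_⟩⟩
      · -- normality
        constructor
        rintro _ ⟨a, ha, rfl⟩ g
        have hy : g * (a : G) * g⁻¹ ∈ N := hNn.conj_mem (a : G) a.2 g
        refine ⟨⟨g * (a : G) * g⁻¹, hy⟩, ?_, rfl⟩
        set y : N := ⟨g * (a : G) * g⁻¹, hy⟩ with hydef
        have hy1 : y ^ Nat.card A₀ = 1 := by
          apply Subtype.ext
          simp only [hydef, SubmonoidClass.mk_pow, conj_pow, OneMemClass.coe_one]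
          have h1 : (⟨a, ha⟩ : A₀) ^ Nat.card A₀ = 1 := pow_card_eq_one'
          have h2 : (a : G) ^ Nat.card A₀ = 1 := by
            have := congrArg (fun x : A₀ => ((x : N) : G)) h1
            simp only [SubmonoidClass.coe_pow, Subgroup.coe_pow, OneMemClass.coe_one] at this
            exact this
          rw [h2]
          group
        have hy2 : y ^ A₀.index ∈ A₀ := A₀.pow_index_mem y
        rw [hA₀i] at hy2
        have hcop : Nat.Coprime (Nat.card A₀) (p ^ i) := Nat.Coprime.pow_right i hA₀cop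
        have hbez := Nat.gcd_eq_gcd_ab (Nat.card A₀) (p ^ i)
        rw [hcop.gcd_eq_one] at hbez
        have hyz : y = (y ^ (p ^ i)) ^ (Nat.gcdB (Nat.card A₀) (p ^ i)) := by
          have h3 : y ^ ((1 : ℕ) : ℤ) = y ^ ((Nat.card A₀ : ℤ) * Nat.gcdA (Nat.card A₀) (p ^ i) +
              ((p ^ i : ℕ) : ℤ) * Nat.gcdB (Nat.card A₀) (p ^ i)) := by rw [hbez]
          rw [zpow_add, zpow_mul, zpow_mul] at h3
          simp only [zpow_natCast, hy1, one_zpow, one_mul, pow_one] at h3
          exact h3
        rw [hyz]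
        exact A₀.zpow_mem hy2 _
      · rintro _ ⟨a, ha, rfl⟩ _ ⟨b, hb, rfl⟩
        have := hA₀ab a ha b hb
        have h2 := congrArg (fun x : N => (x : G)) this
        simpa using h2
      · rw [Nat.card_congr (A₀.equivMapOfInjective N.subtype N.subtype_injective).toEquiv.symm]
        exact hA₀cop
      · rw [Subgroup.index_map_subtype, hA₀i, hNj, pow_add]
    · -- abelian case
      have hlin : ∀ χ : Cfsg.IrrCharacter G, (χ : G → ℂ) 1 = 1 := by
        intro χ
        obtain ⟨k, hk⟩ := hdeg χ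
        obtain ⟨m, τ, hτ, hτχ⟩ := χ.2
        have h1 := Cfsg.Agent.Lib.Helper4.degree_dvd_card τ hτ
        have h2 : (χ : G → ℂ) 1 = (m : ℂ) := by
          rw [← hτχ, Representation.char_one]
          simp
        have h3 : (m : ℂ) = ((p ^ k : ℕ) : ℂ) := by rw [← h2, hk]; push_cast; rfl
        have h4 : m = p ^ k := by exact_mod_cast h3
        simp only [Module.finrank_fin_fun] at h1
        rw [h4] at h1
        have hk0 : k = 0 := by
          by_contra hk0
          exact hpG ((dvd_pow_self p hk0).trans h1)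
        rw [hk, hk0, pow_zero]
      have hab := (Cfsg.Agent.S0187.result (G := G)).mpr hlin
      refine ⟨⊤, inferInstance, fun a _ b _ => hab a b, ?_, ⟨0, by simp⟩⟩
      rw [Subgroup.card_top]
      exact (Nat.Prime.coprime_iff_not_dvd hp).mpr hpG |>.symm


/-- For a finite group G and a prime p: every irreducible character of G has degree a power of p if and only if G has an abelian normal subgroup whose order is prime to p and whose index is a power of p. -/
theorem result {G : Type*} [Group G] [Finite G] (p : ℕ) (hp : p.Prime) : (∀ χ : Cfsg.IrrCharacter G, ∃ k : ℕ, (χ : G → ℂ) 1 = (p : ℂ) ^ k) ↔ ∃ A : Subgroup G, A.Normal ∧ (∀ a ∈ A, ∀ b ∈ A, a * b = b * a) ∧ Nat.Coprime (Nat.card A) p ∧ ∃ k : ℕ, A.index = p ^ k := by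
  classical
  constructor
  · intro h
    exact aux p hp (Nat.card G) G rfl h
  · rintro ⟨A, hAn, hAab, _, k, hk⟩ χ
    obtain ⟨m, τ, hτ, hτχ⟩ := χ.2
    haveI := hτ
    haveI := hAn
    have h1 := Cfsg.Agent.S0169.result τ A hAab
    rw [hk] at h1
    simp only [Module.finrank_fin_fun] at h1
    obtain ⟨i, _, hi⟩ := (Nat.dvd_prime_pow hp).mp h1
    refine ⟨i, ?_⟩
    rw [← hτχ, Representation.char_one]
    simp only [Module.finrank_fin_fun, hi]
    push_cast
    rfl

end Cfsg.Agent.S0855
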