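import Cfsg.Statements.S4456
import Cfsg.Agent.Lib.Helper7.PResChar
import Cfsg.Agent.Lib.Helper16.ResidualQuot

set_option autoImplicit false
open Cfsg

namespace Cfsg.Agent.S4456

open Cfsg.Agent.Lib.Helper26 Cfsg.Agent.Lib.Helper2 Cfsg.Agent.Lib.Helper7

section
variable {G : Type*} [Group G] [Fintype G] (D : Subgroup G) [hD : D.Normal]

/-- the group of `G`-invariant linear characters of `D` -/
def invLin : Subgroup (D →* ℂˣ) where
  carrier := {lam | ∀ (g : G) (n : D), lam ⟨g * n * g⁻¹, hD.conj_mem (n : G) n.2 g⟩ = lam n}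
  one_mem' := fun g n => rfl
  mul_mem' := fun {a b} ha hb g n => by
    rw [MonoidHom.mul_apply, MonoidHom.mul_apply, ha, hb]
  inv_mem' := fun {a} ha g n => by
    rw [MonoidHom.inv_apply, MonoidHom.inv_apply, ha]

/-- invariant linear characters as irreducible characters -/
noncomputable def invLinMap (lam : invLin D) :
    {ψ : IrrCharacter D // (∀ (g : G) (n : D),
      (ψ : D → ℂ) ⟨g * n * g⁻¹, hD.conj_mem (n : G) n.2 g⟩ = (ψ : D → ℂ) n) ∧
      charDegree (ψ : D → ℂ) = 1} :=
  ⟨⟨fun n => ((lam.1 n : ℂˣ) : ℂ), isIrr_of_hom' lam.1⟩,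
    fun g n => by
      show ((lam.1 ⟨g * n * g⁻¹, _⟩ : ℂˣ) : ℂ) = ((lam.1 n : ℂˣ) : ℂ)
      rw [lam.2 g n],
    charDegree_eq_of (d := 1) (by
      show ((lam.1 1 : ℂˣ) : ℂ) = ((1 : ℕ) : ℂ)
      simp)⟩

theorem invLinMap_bijective : Function.Bijective (invLinMap D) := by
  constructor
  · intro a b hab
    have h1 : (fun n => ((a.1 n : ℂˣ) : ℂ)) = fun n => ((b.1 n : ℂˣ) : ℂ) :=
      congrArg (fun x => ((x.1 : IrrCharacter D) : D → ℂ)) hab
    apply Subtype.ext
    apply MonoidHom.ext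
    intro n
    exact Units.ext (congrFun h1 n)
  · rintro ⟨ψ, hinv, hdeg⟩
    obtain ⟨d, _, hd⟩ := irr_degree ψ.2
    rw [charDegree_eq_of hd] at hdeg
    subst hdeg
    obtain ⟨lam, hlam⟩ := Cfsg.Agent.Lib.Helper24.exists_hom_of_isCharacter
      (isCharacter_of_isIrrCharacter ψ.2) (by rw [hd]; simp)
    have hmem : lam ∈ invLin D := by
      intro g n
      apply Units.ext
      have := hinv g n
      rw [hlam] at this
      exact this
    refine ⟨⟨lam, hmem⟩, ?_⟩
    apply Subtype.ext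
    apply Subtype.ext
    exact hlam.symm

end

/-- Let p be a prime and G a finite group such that p divides the degree of every irreducible character of G of degree greater than one. Then G has a normal p-complement: a normal subgroup of order prime to p whose index is a power of p. -/
theorem result {G : Type*} [Group G] [Finite G] (p : ℕ) (hp : p.Prime) (hdeg : ∀ χ : Cfsg.IrrCharacter G, Cfsg.charDegree (χ : G → ℂ) ≠ 1 → p ∣ Cfsg.charDegree (χ : G → ℂ)) : ∃ N : Subgroup G, N.Normal ∧ (Nat.card N).Coprime p ∧ ∃ k : ℕ, N.index = p ^ k := by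
  classical
  haveI : Fact p.Prime := ⟨hp⟩
  haveI : Fintype G := Fintype.ofFinite G
  haveI hD : (Cfsg.pResidual p G).Normal := Cfsg.Agent.Lib.Helper16.pResidual_normal p
  have hQ : IsPGroup p (G ⧸ Cfsg.pResidual p G) :=
    Cfsg.Agent.Lib.Helper16.quotient_pResidual_isPGroup p
  obtain ⟨k, hk⟩ := IsPGroup.iff_card.mp hQ
  have hidx : (Cfsg.pResidual p G).index = p ^ k := by
    rw [Subgroup.index_eq_card]; exact hk
  refine ⟨Cfsg.pResidual p G, hD, ?_, k, hidx⟩
  refine ((Nat.Prime.coprime_iff_not_dvd hp).mpr ?_).symm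
  intro hpD
  have hsolv : Group.IsSolvable (G ⧸ Cfsg.pResidual p G) := by
    haveI := hQ.isNilpotent
    infer_instance
  let P : Sylow p G := default
  have hDP := Cfsg.Agent.Lib.Helper16.pResidual_sup_sylow p P
  haveI : Fintype (IrrCharacter (Cfsg.pResidual p G)) := Fintype.ofFinite _
  have hA := card_modEq_sum_invariant (Cfsg.pResidual p G) (P : Subgroup G) P.isPGroup' hDP
  rw [← ZMod.natCast_eq_natCast_iff] at hA
  have hzero : ((Nat.card (Cfsg.pResidual p G) : ℕ) : ZMod p) = 0 :=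
    (ZMod.natCast_eq_zero_iff _ _).mpr hpD
  rw [hzero, Nat.cast_sum] at hA
  have hterm : ∀ ψ ∈ Finset.univ.filter (fun ψ : IrrCharacter (Cfsg.pResidual p G) =>
      ∀ (g : G) (n : Cfsg.pResidual p G), (ψ : ↥(Cfsg.pResidual p G) → ℂ) ⟨g * n * g⁻¹, hD.conj_mem (n : G) n.2 g⟩ =
        (ψ : ↥(Cfsg.pResidual p G) → ℂ) n),
      (((charDegree (ψ : ↥(Cfsg.pResidual p G) → ℂ)) ^ 2 : ℕ) : ZMod p) =
        if charDegree (ψ : ↥(Cfsg.pResidual p G) → ℂ) = 1 then 1 else 0 := by
    intro ψ hψF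
    have hinv := (Finset.mem_filter.mp hψF).2
    obtain ⟨d, _, hd⟩ := irr_degree ψ.2
    rw [charDegree_eq_of hd]
    by_cases hpd : p ∣ d
    · have hd1 : d ≠ 1 := by
        rintro rfl
        exact hp.one_lt.ne' (Nat.dvd_one.mp hpd)
      rw [if_neg hd1]
      have : ((d : ℕ) : ZMod p) = 0 := (ZMod.natCast_eq_zero_iff _ _).mpr hpd
      push_cast
      rw [this]; ring
    · have hψc := isCharacter_of_isIrrCharacter ψ.2
      have hcop : Nat.Coprime (Cfsg.pResidual p G).index (detOrder (ψ : ↥(Cfsg.pResidual p G) → ℂ) * d) := by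
        rw [hidx]
        apply Nat.Coprime.pow_left
        exact Nat.Coprime.mul_right (detOrder_pResidual_coprime p hψc).symm
          ((Nat.Prime.coprime_iff_not_dvd hp).mpr hpd)
      obtain ⟨χ, hχ, hχe, -⟩ := ext_coprime_solvable (Cfsg.pResidual p G) hsolv
        (ψ : ↥(Cfsg.pResidual p G) → ℂ) ψ.2 hinv d hd hcop
      have hχ1 : χ 1 = d := by
        have := hχe 1
        rw [Subgroup.coe_one] at this
        rw [this, hd]
      have hd1 : d = 1 := by
        by_contra hne
        have := hdeg ⟨χ, hχ⟩ (by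
          show charDegree χ ≠ 1
          rw [charDegree_eq_of hχ1]; exact hne)
        rw [show charDegree ((⟨χ, hχ⟩ : IrrCharacter G) : G → ℂ) = d from charDegree_eq_of hχ1]
          at this
        exact hpd this
      rw [if_pos hd1, hd1]
      simp
  rw [Finset.sum_congr rfl hterm, Finset.sum_boole, Finset.filter_filter] at hA
  -- count the invariant linear characters
  have hcount : (Finset.univ.filter (fun ψ : IrrCharacter (Cfsg.pResidual p G) =>
      (∀ (g : G) (n : Cfsg.pResidual p G), (ψ : ↥(Cfsg.pResidual p G) → ℂ) ⟨g * n * g⁻¹, hD.conj_mem (n : G) n.2 g⟩ =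
        (ψ : ↥(Cfsg.pResidual p G) → ℂ) n) ∧ charDegree (ψ : ↥(Cfsg.pResidual p G) → ℂ) = 1)).card =
      Nat.card (invLin (Cfsg.pResidual p G)) := by
    rw [Nat.card_congr (Equiv.ofBijective _ (invLinMap_bijective (Cfsg.pResidual p G))),
      Nat.card_eq_fintype_card, Fintype.card_subtype]
  rw [hcount] at hA
  have hdvd : p ∣ Nat.card (invLin (Cfsg.pResidual p G)) :=
    (ZMod.natCast_eq_zero_iff _ _).mp hA.symm
  haveI : Finite (invLin (Cfsg.pResidual p G)) :=
    Finite.of_injective _ (invLinMap_bijective (Cfsg.pResidual p G)).1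
  obtain ⟨x, hx⟩ := exists_prime_orderOf_dvd_card' p hdvd
  have hx' : orderOf (x : (Cfsg.pResidual p G) →* ℂˣ) = p := by
    rw [Subgroup.orderOf_coe]; exact hx
  have hcop := orderOf_hom_pResidual_coprime p (x : (Cfsg.pResidual p G) →* ℂˣ)
  rw [hx'] at hcop
  exact hp.one_lt.ne' ((Nat.coprime_self p).mp hcop)

end Cfsg.Agent.S4456
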