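import Mathlib
import Cfsg.Statements.S0011

set_option autoImplicit false
open Cfsg

namespace Cfsg.Agent.S0011

set_option maxHeartbeats 400000 in
/-- If the Frattini quotient of a finite group is nilpotent then the group is nilpotent. -/
theorem result {G : Type*} [Group G] [Finite G]
    (h : Group.IsNilpotent (G ⧸ frattini G)) : Group.IsNilpotent G := by
  have q := (Group.isNilpotent_of_finite_tfae (G := G)).out 0 3
  rw [q]; clear q
  intro p hp P
  -- the image of P in the quotient is a normal Sylow subgroup
  let Q : Sylow p (G ⧸ frattini G) :=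
    P.mapSurjective (f := QuotientGroup.mk' (frattini G)) QuotientGroup.mk_surjective
  have hQ : (Q : Subgroup (G ⧸ frattini G)).Normal := inferInstance
  have hQeq : (Q : Subgroup (G ⧸ frattini G)) = (P : Subgroup G).map (QuotientGroup.mk' (frattini G)) :=
    Sylow.coe_mapSurjective _ _
  -- its preimage is normal in G
  have hN : (((P : Subgroup G).map (QuotientGroup.mk' (frattini G))).comap
      (QuotientGroup.mk' (frattini G))).Normal := by
    rw [← hQeq]; infer_instance
  rw [Subgroup.comap_map_eq, QuotientGroup.ker_mk'] at hN
  have h1 : Subgroup.normalizer ((P : Subgroup G) : Set G) ⊔ ((P : Subgroup G) ⊔ frattini G) = ⊤ := by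
    have := Sylow.normalizer_sup_eq_top' (N := (P : Subgroup G) ⊔ frattini G) P le_sup_left
    simpa using this
  have h2 : Subgroup.normalizer ((P : Subgroup G) : Set G) ⊔ frattini G = ⊤ := by
    rw [← sup_assoc, sup_eq_left.mpr (Subgroup.le_normalizer)] at h1
    exact h1
  have h3 := frattini_nongenerating h2
  exact Subgroup.normalizer_eq_top_iff.mp h3

end Cfsg.Agent.S0011
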