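import Cfsg.Statements.S0014
import Mathlib
import Cfsg.Agent.Lib.Helper14.BurnsideBasis

set_option autoImplicit false
open Cfsg
open Cfsg.Agent.Lib.Helper14
set_option maxHeartbeats 400000

namespace Cfsg.Agent.S0014

/-- Burnside's basis Theorem: in a finite p-group whose Frattini quotient has order p ^ n, every generating set contains n elements that already generate, and no set with fewer than n elements generates. -/
theorem result {G : Type*} [Group G] [Finite G] (p n : ℕ) [Fact p.Prime]
    (hG : IsPGroup p G) (hn : (frattini G).index = p ^ n) :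
    (∀ S : Finset G, Subgroup.closure (S : Set G) = ⊤ → ∃ T : Finset G, T ⊆ S ∧ T.card = n ∧ Subgroup.closure (T : Set G) = ⊤) ∧
    (∀ T : Finset G, Subgroup.closure (T : Set G) = ⊤ → n ≤ T.card) := by
  classical
  have hcomm := commutator_le_frattini_of_isPGroup' hG
  have hmc : IsMulCommutative (G ⧸ frattini G) :=
    Subgroup.Normal.quotient_commutative_iff_commutator_le.mpr hcomm
  let inst : CommGroup (G ⧸ frattini G) :=
    { (inferInstance : Group (G ⧸ frattini G)) with mul_comm := fun a b => hmc.is_comm.comm a b }
  have hE : ∀ x : G ⧸ frattini G, x ^ p = 1 := by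
    intro x
    obtain ⟨x, rfl⟩ := QuotientGroup.mk_surjective x
    rw [← QuotientGroup.mk_pow, QuotientGroup.eq_one_iff]
    exact pow_mem_frattini_of_isPGroup' hG x
  have hcardE : Nat.card (G ⧸ frattini G) = p ^ n := by
    rw [← Subgroup.index_eq_card, hn]
  constructor
  · intro S hS
    have hS' : Subgroup.closure (Set.range (Subtype.val : {x // x ∈ S} → G)) = ⊤ := by
      have : Set.range (Subtype.val : {x // x ∈ S} → G) = (S : Set G) := by ext; simp
      rw [this]; exact hS
    rw [closure_eq_top_iff_mod_frattini] at hS'
    obtain ⟨f, hinj, hgen⟩ := exists_fin_subfamily_gen (E := G ⧸ frattini G) hE hcardE _ hS'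
    have hgen' : Subgroup.closure (Set.range (fun i : Fin n => ((f i : {x // x ∈ S}) : G))) = ⊤ := by
      rw [closure_eq_top_iff_mod_frattini]
      exact hgen
    have hinj' : Function.Injective (fun i : Fin n => ((f i : {x // x ∈ S}) : G)) := by
      intro i j hij
      apply hinj
      simp only [Function.comp_apply]
      simp only at hij
      rw [hij]
    refine ⟨Finset.univ.image (fun i : Fin n => ((f i : {x // x ∈ S}) : G)), ?_, ?_, ?_⟩
    · intro x hx
      rw [Finset.mem_image] at hx
      obtain ⟨i, -, rfl⟩ := hx
      exact (f i).2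
    · rw [Finset.card_image_of_injective _ hinj', Finset.card_univ, Fintype.card_fin]
    · rw [Finset.coe_image, Finset.coe_univ, Set.image_univ]
      exact hgen'
  · intro T hT
    have hT' : Subgroup.closure (Set.range (Subtype.val : {x // x ∈ T} → G)) = ⊤ := by
      have : Set.range (Subtype.val : {x // x ∈ T} → G) = (T : Set G) := by ext; simp
      rw [this]; exact hT
    rw [closure_eq_top_iff_mod_frattini] at hT'
    have := le_card_of_gen (E := G ⧸ frattini G) hE hcardE _ hT'
    simpa using this


end Cfsg.Agent.S0014
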