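import Cfsg.Statements.S0018
import Mathlib
import Cfsg.Agent.Lib.Helper20.Bender
import Cfsg.Agent.Lib.Helper2.Cores

set_option autoImplicit false
open Cfsg

namespace Cfsg.Agent.S0018

/-- A finite solvable group whose Sylow p-subgroups are abelian has p-length one: a Sylow p-subgroup together with the largest normal subgroup of order prime to p generates a normal subgroup. -/
theorem result {G : Type*} [Group G] [Finite G] [Group.IsSolvable G]
    (p : ℕ) [Fact p.Prime] (P : Sylow p G) (hP : IsMulCommutative P) :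
    ((P : Subgroup G) ⊔ Cfsg.pPrimeCore p G).Normal := by
  obtain ⟨O, hO⟩ : ∃ O : Subgroup G, O = Cfsg.pPrimeCore p G := ⟨_, rfl⟩
  have hOn : O.Normal := hO ▸ Cfsg.Agent.Lib.Helper2.pPrimeCore_normal p
  rw [← hO]
  have hQ : Cfsg.pPrimeCore p (G ⧸ O) = ⊥ := by
    subst hO
    exact Cfsg.Agent.Lib.Helper20.pPrimeCore_quotient_eq_bot p
  have h17 := Cfsg.Agent.Lib.Helper20.solvable_centralizer_pCore_le (G := G ⧸ O) p hQ
  have hsurj := QuotientGroup.mk'_surjective O
  -- image of P
  have hle : Cfsg.pCore p (G ⧸ O) ≤ (P : Subgroup G).map (QuotientGroup.mk' O) := by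
    have := Cfsg.Agent.Lib.Helper2.pCore_le_sylow p (P.mapSurjective hsurj)
    rwa [Sylow.coe_mapSurjective] at this
  have hcent : (P : Subgroup G).map (QuotientGroup.mk' O) ≤
      Subgroup.centralizer (Cfsg.pCore p (G ⧸ O) : Set (G ⧸ O)) := by
    rintro _ ⟨x, hx, rfl⟩
    rw [Subgroup.mem_centralizer_iff]
    intro y hy
    obtain ⟨z, hz, rfl⟩ := hle hy
    have hcomm : z * x = x * z := by
      have := mul_comm' (⟨z, hz⟩ : (P : Subgroup G)) ⟨x, hx⟩
      exact congrArg Subtype.val this
    rw [← map_mul, ← map_mul, hcomm]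
  have heq : (P : Subgroup G).map (QuotientGroup.mk' O) = Cfsg.pCore p (G ⧸ O) :=
    le_antisymm (hcent.trans h17) hle
  have hn : ((P : Subgroup G).map (QuotientGroup.mk' O)).Normal := by
    rw [heq]; exact Cfsg.Agent.Lib.Helper2.pCore_normal p
  have hcomap : (P : Subgroup G) ⊔ O =
      ((P : Subgroup G).map (QuotientGroup.mk' O)).comap (QuotientGroup.mk' O) := by
    rw [Subgroup.comap_map_eq, QuotientGroup.ker_mk']
  rw [hcomap]
  exact hn.comap _

end Cfsg.Agent.S0018
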