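import Mathlib
import Cfsg.Statements.S0021
import Cfsg.Agent.Lib.Helper2.HallConverse
import Cfsg.Agent.Lib.Helper2.PermutingFamily

set_option autoImplicit false
open Pointwise
open Cfsg

namespace Cfsg.Agent.S0021

/-- A finite group with a family of pairwise permuting Sylow subgroups, one for each prime, is solvable (this direction rests on Burnside's two-prime Theorem). -/
theorem result {G : Type*} [Group G] [Finite G]
    (S : (p : Nat.Primes) → Sylow (p : ℕ) G)
    (hS : ∀ p q : Nat.Primes, (S p : Set G) * (S q : Set G) = (S q : Set G) * (S p : Set G)) :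
    Group.IsSolvable G := by
  classical
  apply Cfsg.Agent.Lib.Helper2.hall_converse
  intro p hp
  have hN0 : Nat.card G ≠ 0 := Nat.card_pos.ne'
  have hprod : ∏ q ∈ (Nat.card G).primeFactors, q ^ (Nat.card G).factorization q = Nat.card G :=
    (Nat.prod_primeFactors_pow_factorization hN0).symm
  -- the family indexed by ℕ
  obtain ⟨S', hS'prime, hS'not⟩ : ∃ S' : ℕ → Subgroup G,
      (∀ (q : ℕ) (h : Nat.Prime q), S' q = (S ⟨q, h⟩ : Subgroup G)) ∧
        (∀ q : ℕ, ¬ Nat.Prime q → S' q = ⊥) :=
    ⟨fun q => if h : Nat.Prime q then (S ⟨q, h⟩ : Subgroup G) else ⊥,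
      fun q h => dif_pos h, fun q h => dif_neg h⟩
  have hperm : ∀ i j, (S' i : Set G) * (S' j : Set G) = (S' j : Set G) * (S' i : Set G) := by
    intro i j
    by_cases hi : i.Prime
    · by_cases hj : j.Prime
      · rw [hS'prime i hi, hS'prime j hj]
        exact hS ⟨i, hi⟩ ⟨j, hj⟩
      · rw [hS'not j hj]
        simp
    · rw [hS'not i hi]
      simp
  have hcardS' : ∀ q ∈ (Nat.card G).primeFactors,
      Nat.card (S' q) = q ^ (Nat.card G).factorization q := by
    intro q hq
    have hqP := Nat.prime_of_mem_primeFactors hq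
    rw [hS'prime q hqP]
    have : Fact (Nat.Prime ((⟨q, hqP⟩ : Nat.Primes) : ℕ)) := ⟨hqP⟩
    exact (S ⟨q, hqP⟩).card_eq_multiplicity
  obtain ⟨-, hcardT⟩ := Cfsg.Agent.Lib.Helper2.permuting_family_card S' hperm
    ((Nat.card G).primeFactors.erase p) (by
      intro i hi j hj hij
      rw [hcardS' i (Finset.mem_of_mem_erase hi), hcardS' j (Finset.mem_of_mem_erase hj)]
      exact Nat.Coprime.pow _ _ ((Nat.coprime_primes
        (Nat.prime_of_mem_primeFactors (Finset.mem_of_mem_erase hi))
        (Nat.prime_of_mem_primeFactors (Finset.mem_of_mem_erase hj))).mpr hij))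
  refine ⟨⨆ i ∈ (Nat.card G).primeFactors.erase p, S' i, ?_⟩
  have h1 : Nat.card ↥(⨆ i ∈ (Nat.card G).primeFactors.erase p, S' i) =
      ∏ i ∈ (Nat.card G).primeFactors.erase p, i ^ (Nat.card G).factorization i := by
    rw [hcardT]
    exact Finset.prod_congr rfl (fun i hi => hcardS' i (Finset.mem_of_mem_erase hi))
  have h2 : p ^ (Nat.card G).factorization p *
      ∏ i ∈ (Nat.card G).primeFactors.erase p, i ^ (Nat.card G).factorization i = Nat.card G := by
    by_cases hmem : p ∈ (Nat.card G).primeFactors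
    · rw [Finset.mul_prod_erase (Nat.card G).primeFactors
        (fun q => q ^ (Nat.card G).factorization q) hmem, hprod]
    · have h0 : (Nat.card G).factorization p = 0 := by
        apply Nat.factorization_eq_zero_of_not_dvd
        intro hd
        exact hmem (Nat.mem_primeFactors.mpr ⟨hp, hd, hN0⟩)
      rw [Finset.erase_eq_of_notMem hmem, h0, pow_zero, one_mul, hprod]
  have h3 := Subgroup.card_mul_index (⨆ i ∈ (Nat.card G).primeFactors.erase p, S' i)
  rw [h1] at h3
  have hpos : 0 < ∏ i ∈ (Nat.card G).primeFactors.erase p, i ^ (Nat.card G).factorization i := by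
    apply Nat.pos_of_ne_zero
    intro h0
    rw [h0, mul_zero] at h2
    exact hN0 h2.symm
  apply Nat.eq_of_mul_eq_mul_left hpos
  rw [h3, mul_comm]
  exact h2.symm

end Cfsg.Agent.S0021
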