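import Cfsg.Statements.S0030
import Cfsg.Agent.Lib.Helper13.Glauberman

open scoped Pointwise
open Cfsg.Agent.Lib.Helper13

set_option autoImplicit false
open Cfsg

namespace Cfsg.Agent.S0030

/-- Under coprime action fixed points of a product of two invariant subgroups factor: if K = X Y with X and Y normalised by A then every A-fixed element of K is a product of an A-fixed element of X and an A-fixed element of Y. -/
theorem result {G : Type*} [Group G] [Finite G] (A K : Subgroup G) (hAK : A ≤ Subgroup.normalizer (K : Set G))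
    (hcop : (Nat.card A).Coprime (Nat.card K)) (hsolv : Group.IsSolvable A ∨ Group.IsSolvable K)
    (X Y : Subgroup G) (hX : X ≤ K) (hY : Y ≤ K) (hXA : A ≤ Subgroup.normalizer (X : Set G)) (hYA : A ≤ Subgroup.normalizer (Y : Set G))
    (hXY : ∀ k ∈ K, ∃ x ∈ X, ∃ y ∈ Y, k = x * y) (k : G) (hk : k ∈ K ⊓ Subgroup.centralizer (A : Set G)) :
    ∃ x ∈ X ⊓ Subgroup.centralizer (A : Set G), ∃ y ∈ Y ⊓ Subgroup.centralizer (A : Set G), k = x * y := by
  obtain ⟨hkK, hkA⟩ := hk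
  obtain ⟨x, hx, y, hy, rfl⟩ := hXY k hkK
  obtain ⟨D, hD⟩ : ∃ D : Subgroup G, D = X ⊓ Y := ⟨_, rfl⟩
  have hDX : D ≤ X := hD ▸ inf_le_left
  have hDY : D ≤ Y := hD ▸ inf_le_right
  have hAD : A ≤ Subgroup.normalizer (D : Set G) := hD ▸ le_normalizer_inf hXA hYA
  have hB : MulAut.conj x⁻¹ • A ≤ D ⊔ A := by
    intro b hb
    rw [mem_cj] at hb
    obtain ⟨a, ha⟩ : ∃ a, a = x⁻¹⁻¹ * b * x⁻¹ := ⟨_, rfl⟩
    rw [← ha] at hb
    have hb_eq : b = (x⁻¹ * (a * x * a⁻¹)) * a := by rw [ha]; group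
    have h1 : a * x * a⁻¹ ∈ X := (Subgroup.mem_normalizer_iff.mp (hXA hb) x).mp hx
    have h1' : a * y⁻¹ * a⁻¹ ∈ Y := (Subgroup.mem_normalizer_iff.mp (hYA hb) y⁻¹).mp (Y.inv_mem hy)
    have hcomm : a * (x * y) = (x * y) * a := Subgroup.mem_centralizer_iff.mp hkA a hb
    have h2 : x⁻¹ * (a * x * a⁻¹) = y * (a * y⁻¹ * a⁻¹) := by
      have : a * x = x * y * a * y⁻¹ := by
        calc a * x = a * (x * y) * y⁻¹ := by group
          _ = x * y * a * y⁻¹ := by rw [hcomm]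
      calc x⁻¹ * (a * x * a⁻¹) = x⁻¹ * (a * x) * a⁻¹ := by group
        _ = x⁻¹ * (x * y * a * y⁻¹) * a⁻¹ := by rw [this]
        _ = y * (a * y⁻¹ * a⁻¹) := by group
    have h3 : x⁻¹ * (a * x * a⁻¹) ∈ D := by
      rw [hD]
      refine ⟨X.mul_mem (X.inv_mem hx) h1, ?_⟩
      rw [h2]
      exact Y.mul_mem hy h1'
    rw [hb_eq]
    exact Subgroup.mul_mem_sup h3 hb
  have hDK : D ≤ K := hDX.trans hX
  have hcopD : (Nat.card D).Coprime (Nat.card A) :=
    (Nat.Coprime.of_dvd_right (Subgroup.card_dvd_of_le hDK) hcop).symm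
  have hsolv' : Group.IsSolvable D ∨ Group.IsSolvable A := by
    rcases hsolv with h | h
    · exact Or.inr h
    · exact Or.inl (isSolvable_of_le hDK h)
  obtain ⟨d, hd, hdA⟩ := rel_sz_conj D A (MulAut.conj x⁻¹ • A) hAD hB (card_cj x⁻¹ A) hcopD hsolv'
  have hXAbot : X ⊓ A = ⊥ :=
    (Subgroup.disjoint_of_coprime_natCard
      (Nat.Coprime.of_dvd_right (Subgroup.card_dvd_of_le hX) hcop).symm).eq_bot
  have hcnorm : x * d ∈ Subgroup.normalizer (A : Set G) := by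
    rw [← cj_eq_self_iff_mem_normalizer, cj_mul, hdA, ← cj_mul, mul_inv_cancel, cj_one]
  have hcX : x * d ∈ X := X.mul_mem hx (hDX hd)
  have hcC : x * d ∈ Subgroup.centralizer (A : Set G) :=
    mem_centralizer_of_mem_normalizer A X hXA hXAbot _ hcX hcnorm
  refine ⟨x * d, ⟨hcX, hcC⟩, d⁻¹ * y, ⟨Y.mul_mem (Y.inv_mem (hDY hd)) hy, ?_⟩, by group⟩
  have : d⁻¹ * y = (x * d)⁻¹ * (x * y) := by group
  rw [this]
  exact Subgroup.mul_mem _ (Subgroup.inv_mem _ hcC) hkA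

end Cfsg.Agent.S0030
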