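import Cfsg.Statements.S0036
import Cfsg.Agent.S0034
-- import your own Cfsg.Agent.* helpers here

set_option autoImplicit false
open Cfsg
open scoped Pointwise

namespace Cfsg.Agent.S0036

open Cfsg.Agent.S0034

/-- When a Frobenius complement contains an involution, an elementary argument shows the Frobenius kernel is closed under multiplication (hence a subgroup). -/
theorem result {G : Type*} [Group G] [Finite G] (H : Subgroup G) (hH : Cfsg.IsFrobeniusComplement H)
    (t : G) (ht : t ∈ H) (ht1 : t ≠ 1) (ht2 : t * t = 1) :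
    ∀ x ∈ Cfsg.frobeniusKernel H, ∀ y ∈ Cfsg.frobeniusKernel H, x * y ∈ Cfsg.frobeniusKernel H := by
  classical
  -- the involutions t_q
  let τ : G ⧸ H → G := fun q => q.out * t * q.out⁻¹
  have hτ2 : ∀ q, τ q * τ q = 1 := by
    intro q
    show q.out * t * q.out⁻¹ * (q.out * t * q.out⁻¹) = 1
    calc q.out * t * q.out⁻¹ * (q.out * t * q.out⁻¹) = q.out * (t * t) * q.out⁻¹ := by group
      _ = 1 := by rw [ht2]; group
  have hτinv : ∀ q, (τ q)⁻¹ = τ q := fun q => inv_eq_of_mul_eq_one_left (hτ2 q)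
  have hτ1 : ∀ q, τ q ≠ 1 := by
    intro q h
    apply ht1
    have : t = q.out⁻¹ * (q.out * t * q.out⁻¹) * q.out := by group
    rw [this]
    show q.out⁻¹ * τ q * q.out = 1
    rw [h]; group
  have hτmem : ∀ q : G ⧸ H, q.out⁻¹ * τ q * q.out ∈ H := by
    intro q
    have : q.out⁻¹ * τ q * q.out = t := by
      show q.out⁻¹ * (q.out * t * q.out⁻¹) * q.out = t
      group
    rw [this]; exact ht
  have hqeq : ∀ q q' : G ⧸ H, q.out⁻¹ * q'.out ∈ H → q = q' := by
    intro q q' h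
    rw [← QuotientGroup.out_eq' q, ← QuotientGroup.out_eq' q']
    exact QuotientGroup.eq.mpr h
  -- if τ q lies in a conjugate g H g⁻¹ then g⁻¹ q.out ∈ H
  have hτconj : ∀ (q : G ⧸ H) (g : G), g⁻¹ * τ q * g ∈ H → g⁻¹ * q.out ∈ H := by
    intro q g hg
    exact conj_unique H hH (τ q) g q.out (hτ1 q) hg (hτmem q)
  have hτinj : Function.Injective τ := by
    intro q q' h
    apply hqeq
    have := hτmem q'
    rw [← h] at this
    have h2 := hτconj q q'.out this
    have : q.out⁻¹ * q'.out = (q'.out⁻¹ * q.out)⁻¹ := by group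
    rw [this]; exact H.inv_mem h2
  -- Claim A
  have claimA : ∀ q q' : G ⧸ H, τ q * τ q' ∈ Cfsg.frobeniusKernel H := by
    intro q q'
    by_cases hqq : q = q'
    · rw [hqq, hτ2]; left; rfl
    by_contra hnot
    rw [not_mem_kernel_iff] at hnot
    obtain ⟨hu1, g, hg⟩ := hnot
    set u := τ q * τ q' with hu
    -- τ q inverts u
    have hinv1 : τ q * u * (τ q)⁻¹ = u⁻¹ := by
      rw [hu, hτinv q, mul_inv_rev, hτinv q, hτinv q']
      calc τ q * (τ q * τ q') * τ q = (τ q * τ q) * τ q' * τ q := by group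
        _ = τ q' * τ q := by rw [hτ2]; group
    have hinv2 : τ q' * u * (τ q')⁻¹ = u⁻¹ := by
      rw [hu, hτinv q', mul_inv_rev, hτinv q, hτinv q']
      calc τ q' * (τ q * τ q') * τ q' = τ q' * τ q * (τ q' * τ q') := by group
        _ = τ q' * τ q := by rw [hτ2]; group
    have huinv1 : u⁻¹ ≠ 1 := fun h => hu1 (inv_eq_one.mp h)
    have hginv : g⁻¹ * u⁻¹ * g ∈ H := by
      have : g⁻¹ * u⁻¹ * g = (g⁻¹ * u * g)⁻¹ := by group
      rw [this]; exact H.inv_mem hg
    -- u⁻¹ also lies in (τ q g) H (τ q g)⁻¹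
    have h1 : (τ q * g)⁻¹ * u⁻¹ * (τ q * g) ∈ H := by
      rw [← hinv1]
      have : (τ q * g)⁻¹ * (τ q * u * (τ q)⁻¹) * (τ q * g) = g⁻¹ * u * g := by group
      rw [this]; exact hg
    have h1' : (τ q' * g)⁻¹ * u⁻¹ * (τ q' * g) ∈ H := by
      rw [← hinv2]
      have : (τ q' * g)⁻¹ * (τ q' * u * (τ q')⁻¹) * (τ q' * g) = g⁻¹ * u * g := by group
      rw [this]; exact hg
    have h2 : g⁻¹ * τ q * g ∈ H := by
      have := conj_unique H hH u⁻¹ g (τ q * g) huinv1 hginv h1
      have e : g⁻¹ * (τ q * g) = g⁻¹ * τ q * g := by group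
      rwa [e] at this
    have h2' : g⁻¹ * τ q' * g ∈ H := by
      have := conj_unique H hH u⁻¹ g (τ q' * g) huinv1 hginv h1'
      have e : g⁻¹ * (τ q' * g) = g⁻¹ * τ q' * g := by group
      rwa [e] at this
    have h3 := hτconj q g h2
    have h3' := hτconj q' g h2'
    apply hqq
    apply hqeq
    have : q.out⁻¹ * q'.out = (g⁻¹ * q.out)⁻¹ * (g⁻¹ * q'.out) := by group
    rw [this]
    exact H.mul_mem (H.inv_mem h3) h3'
  -- bijections
  have hcard : Nat.card (Cfsg.frobeniusKernel H) ≤ Nat.card (G ⧸ H) := by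
    rw [card_kernel H hH]; exact le_of_eq rfl
  have surjR : ∀ q₀ : G ⧸ H, ∀ y ∈ Cfsg.frobeniusKernel H, ∃ q', y = τ q₀ * τ q' := by
    intro q₀ y hy
    let f : G ⧸ H → Cfsg.frobeniusKernel H := fun q' => ⟨τ q₀ * τ q', claimA q₀ q'⟩
    have hf : Function.Injective f := by
      intro a b hab
      have : τ q₀ * τ a = τ q₀ * τ b := congrArg Subtype.val hab
      exact hτinj (mul_left_cancel this)
    have := (hf.bijective_of_nat_card_le hcard).2 ⟨y, hy⟩
    obtain ⟨q', hq'⟩ := this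
    exact ⟨q', (congrArg Subtype.val hq').symm⟩
  have surjL : ∀ q₀ : G ⧸ H, ∀ x ∈ Cfsg.frobeniusKernel H, ∃ q, x = τ q * τ q₀ := by
    intro q₀ x hx
    let f : G ⧸ H → Cfsg.frobeniusKernel H := fun q => ⟨τ q * τ q₀, claimA q q₀⟩
    have hf : Function.Injective f := by
      intro a b hab
      have : τ a * τ q₀ = τ b * τ q₀ := congrArg Subtype.val hab
      exact hτinj (mul_right_cancel this)
    have := (hf.bijective_of_nat_card_le hcard).2 ⟨x, hx⟩
    obtain ⟨q, hq⟩ := this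
    exact ⟨q, (congrArg Subtype.val hq).symm⟩
  intro x hx y hy
  let q₀ : G ⧸ H := ((1 : G) : G ⧸ H)
  obtain ⟨q, rfl⟩ := surjL q₀ x hx
  obtain ⟨q', rfl⟩ := surjR q₀ y hy
  have : τ q * τ q₀ * (τ q₀ * τ q') = τ q * τ q' := by
    calc τ q * τ q₀ * (τ q₀ * τ q') = τ q * (τ q₀ * τ q₀) * τ q' := by group
      _ = τ q * τ q' := by rw [hτ2]; group
  rw [this]
  exact claimA q q'

end Cfsg.Agent.S0036
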