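import Cfsg.Statements.S0043
-- import your own Cfsg.Agent.* helpers here

set_option autoImplicit false
open Cfsg

namespace Cfsg.Agent.S0043

/-- A minimal normal subgroup of a finite solvable group is abelian, and for some prime p all of its elements have order dividing p. -/
theorem result {G : Type*} [Group G] [Finite G] [Group.IsSolvable G]
    (N : Subgroup G) [N.Normal] (hN : N ≠ ⊥) (hmin : ∀ M : Subgroup G, M.Normal → M ≤ N → M = ⊥ ∨ M = N) :
    IsMulCommutative N ∧ ∃ p : ℕ, p.Prime ∧ ∀ x ∈ N, x ^ p = 1 := by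
  -- N is abelian
  have hcomm : ∀ a ∈ N, ∀ b ∈ N, a * b = b * a := by
    have hlt : ⁅N, N⁆ < N := Group.IsSolvable.commutator_lt_of_ne_bot hN
    have hnorm : (⁅N, N⁆ : Subgroup G).Normal := inferInstance
    rcases hmin _ hnorm hlt.le with h | h
    · rw [Subgroup.commutator_eq_bot_iff_le_centralizer] at h
      intro a ha b hb
      exact (Subgroup.mem_centralizer_iff.mp (h ha) b hb).symm
    · exact absurd h hlt.ne
  refine ⟨⟨⟨fun a b => Subtype.ext (hcomm a a.2 b b.2)⟩⟩, ?_⟩
  -- a prime dividing the order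
  have hcard : Nat.card N ≠ 1 := fun h => hN (Subgroup.card_eq_one.mp h)
  obtain ⟨p, hp, hpdvd⟩ := Nat.exists_prime_and_dvd hcard
  have : Fact p.Prime := ⟨hp⟩
  refine ⟨p, hp, ?_⟩
  -- the subgroup of elements of order dividing p
  let M : Subgroup G :=
    { carrier := {x | x ∈ N ∧ x ^ p = 1}
      one_mem' := ⟨N.one_mem, one_pow _⟩
      mul_mem' := by
        rintro a b ⟨ha, hap⟩ ⟨hb, hbp⟩
        refine ⟨N.mul_mem ha hb, ?_⟩
        rw [(Commute.mul_pow (hcomm a ha b hb) p), hap, hbp, one_mul]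
      inv_mem' := by
        rintro a ⟨ha, hap⟩
        exact ⟨N.inv_mem ha, by rw [inv_pow, hap, inv_one]⟩ }
  have hMN : M ≤ N := fun x hx => hx.1
  have hMnorm : M.Normal := by
    constructor
    intro x hx g
    refine ⟨(inferInstance : N.Normal).conj_mem x hx.1 g, ?_⟩
    rw [conj_pow, hx.2]; group
  have hMne : M ≠ ⊥ := by
    obtain ⟨x, hx⟩ := exists_prime_orderOf_dvd_card' (G := N) p hpdvd
    intro hM
    have hxM : (x : G) ∈ M := by
      refine ⟨x.2, ?_⟩
      have : x ^ p = 1 := by rw [← hx]; exact pow_orderOf_eq_one x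
      exact_mod_cast congrArg (fun z : N => (z : G)) this
    rw [hM, Subgroup.mem_bot] at hxM
    have : x = 1 := Subtype.ext hxM
    rw [this, orderOf_one] at hx
    exact hp.one_lt.ne hx
  rcases hmin M hMnorm hMN with h | h
  · exact absurd h hMne
  · intro x hx
    rw [← h] at hx
    exact hx.2

end Cfsg.Agent.S0043
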