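import Cfsg.Statements.S0047
import Mathlib.GroupTheory.Solvable
import Mathlib.Tactic.Group
-- import your own Cfsg.Agent.* helpers here

set_option autoImplicit false
open Cfsg
open scoped commutatorElement

namespace Cfsg.Agent.S0047

theorem comm_right {G : Type*} [Group G] (x y z : G) (h : x * z = z * x) : ⁅x, y * z⁆ = ⁅x, y⁆ := by
  have h' : z * x⁻¹ = x⁻¹ * z := by
    calc z * x⁻¹ = x⁻¹ * (x * z) * x⁻¹ := by group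
      _ = x⁻¹ * (z * x) * x⁻¹ := by rw [h]
      _ = x⁻¹ * z := by group
  simp only [commutatorElement_def]
  calc x * (y * z) * x⁻¹ * (y * z)⁻¹ = x * y * (z * x⁻¹) * z⁻¹ * y⁻¹ := by group
    _ = x * y * (x⁻¹ * z) * z⁻¹ * y⁻¹ := by rw [h']
    _ = x * y * x⁻¹ * y⁻¹ := by group

theorem comm_left {G : Type*} [Group G] (x y z : G) (h : y * z = z * y) : ⁅x * y, z⁆ = ⁅x, z⁆ := by
  simp only [commutatorElement_def]
  calc x * y * z * (x * y)⁻¹ * z⁻¹ = x * (y * z) * y⁻¹ * x⁻¹ * z⁻¹ := by group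
    _ = x * (z * y) * y⁻¹ * x⁻¹ * z⁻¹ := by rw [h]
    _ = x * z * x⁻¹ * z⁻¹ := by group

/-- Ito's key computation. -/
theorem ito_key {G : Type*} [Group G] (A B : Subgroup G)
    (hA : ∀ x ∈ A, ∀ y ∈ A, x * y = y * x) (hB : ∀ x ∈ B, ∀ y ∈ B, x * y = y * x)
    (hAB : ∀ g : G, ∃ a ∈ A, ∃ b ∈ B, g = a * b)
    (a a₁ b b₁ : G) (ha : a ∈ A) (ha₁ : a₁ ∈ A) (hb : b ∈ B) (hb₁ : b₁ ∈ B) :
    b₁ * (a₁ * ⁅a, b⁆ * a₁⁻¹) * b₁⁻¹ = a₁ * (b₁ * ⁅a, b⁆ * b₁⁻¹) * a₁⁻¹ := by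
  have hBA : ∀ g : G, ∃ b ∈ B, ∃ a ∈ A, g = b * a := by
    intro g
    obtain ⟨a, ha, b, hb, h⟩ := hAB g⁻¹
    refine ⟨b⁻¹, B.inv_mem hb, a⁻¹, A.inv_mem ha, ?_⟩
    calc g = (g⁻¹)⁻¹ := by simp
      _ = (a * b)⁻¹ := by rw [h]
      _ = b⁻¹ * a⁻¹ := by group
  obtain ⟨b₂, hb₂, a₂, ha₂, h1⟩ := hBA (a₁ * b * a₁⁻¹)
  obtain ⟨a₃, ha₃, b₃, hb₃, h2⟩ := hAB (b₁ * a * b₁⁻¹)
  have e1 : a₁ * a * a₁⁻¹ = a := by rw [hA a₁ ha₁ a ha]; group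
  have e2 : b₁ * b₂ * b₁⁻¹ = b₂ := by rw [hB b₁ hb₁ b₂ hb₂]; group
  have e3 : b₁ * b * b₁⁻¹ = b := by rw [hB b₁ hb₁ b hb]; group
  have e4 : a₁ * a₃ * a₁⁻¹ = a₃ := by rw [hA a₁ ha₁ a₃ ha₃]; group
  have L : b₁ * (a₁ * ⁅a, b⁆ * a₁⁻¹) * b₁⁻¹ = ⁅a₃, b₂⁆ := by
    rw [conjugate_commutatorElement, e1, h1, comm_right a b₂ a₂ (hA a ha a₂ ha₂),
      conjugate_commutatorElement, h2, e2, comm_left a₃ b₃ b₂ (hB b₃ hb₃ b₂ hb₂)]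
  have R : a₁ * (b₁ * ⁅a, b⁆ * b₁⁻¹) * a₁⁻¹ = ⁅a₃, b₂⁆ := by
    rw [conjugate_commutatorElement (g₃ := b₁), h2, e3, comm_left a₃ b₃ b (hB b₃ hb₃ b hb),
      conjugate_commutatorElement, e4, h1, comm_right a₃ b₂ a₂ (hA a₃ ha₃ a₂ ha₂)]
  rw [L, R]

/-- A finite group which is the product AB of two abelian subgroups A and B is solvable. -/
theorem result {G : Type*} [Group G] [Finite G] (A B : Subgroup G)
    [IsMulCommutative A] [IsMulCommutative B] (hAB : ∀ g : G, ∃ a ∈ A, ∃ b ∈ B, g = a * b) :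
    Group.IsSolvable G := by
  have hA : ∀ x ∈ A, ∀ y ∈ A, x * y = y * x := by
    intro x hx y hy
    have := mul_comm' (⟨x, hx⟩ : A) ⟨y, hy⟩
    exact congrArg (fun z : A => (z : G)) this
  have hB : ∀ x ∈ B, ∀ y ∈ B, x * y = y * x := by
    intro x hx y hy
    have := mul_comm' (⟨x, hx⟩ : B) ⟨y, hy⟩
    exact congrArg (fun z : B => (z : G)) this
  set N : Subgroup G := ⁅A, B⁆ with hN
  -- generators commute
  have hgen : ∀ a ∈ A, ∀ b ∈ B, ∀ a' ∈ A, ∀ b' ∈ B, ⁅a, b⁆ * ⁅a', b'⁆ = ⁅a', b'⁆ * ⁅a, b⁆ := by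
    intro a ha b hb a' ha' b' hb'
    -- use key with a₁ = a'⁻¹, b₁ = b'⁻¹
    have key := ito_key A B hA hB hAB a a'⁻¹ b b'⁻¹ ha (A.inv_mem ha') hb (B.inv_mem hb')
    -- x commutes with ⁅b', a'⁆
    have h1 : ⁅b', a'⁆ * ⁅a, b⁆ = ⁅a, b⁆ * ⁅b', a'⁆ := by
      have : ⁅b', a'⁆ * ⁅a, b⁆ * ⁅b', a'⁆⁻¹ = ⁅a, b⁆ := by
        have e : ⁅b', a'⁆ = (a'⁻¹ * b'⁻¹)⁻¹ * (b'⁻¹ * a'⁻¹) := by
          simp only [commutatorElement_def]; group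
        calc ⁅b', a'⁆ * ⁅a, b⁆ * ⁅b', a'⁆⁻¹
            = (a'⁻¹ * b'⁻¹)⁻¹ * (b'⁻¹ * (a'⁻¹ * ⁅a, b⁆ * a'⁻¹⁻¹) * b'⁻¹⁻¹) * (a'⁻¹ * b'⁻¹) := by
              rw [e]; group
          _ = (a'⁻¹ * b'⁻¹)⁻¹ * (a'⁻¹ * (b'⁻¹ * ⁅a, b⁆ * b'⁻¹⁻¹) * a'⁻¹⁻¹) * (a'⁻¹ * b'⁻¹) := by
              rw [key]
          _ = ⁅a, b⁆ := by group
      calc ⁅b', a'⁆ * ⁅a, b⁆ = (⁅b', a'⁆ * ⁅a, b⁆ * ⁅b', a'⁆⁻¹) * ⁅b', a'⁆ := by group
        _ = ⁅a, b⁆ * ⁅b', a'⁆ := by rw [this]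
    -- hence with its inverse ⁅a', b'⁆
    have h2 : ⁅a', b'⁆ = ⁅b', a'⁆⁻¹ := (commutatorElement_inv b' a').symm
    rw [h2]
    calc ⁅a, b⁆ * ⁅b', a'⁆⁻¹ = ⁅b', a'⁆⁻¹ * (⁅b', a'⁆ * ⁅a, b⁆) * ⁅b', a'⁆⁻¹ := by group
      _ = ⁅b', a'⁆⁻¹ * (⁅a, b⁆ * ⁅b', a'⁆) * ⁅b', a'⁆⁻¹ := by rw [h1]
      _ = ⁅b', a'⁆⁻¹ * ⁅a, b⁆ := by group
  -- N is commutative
  have hNcomm : ∀ x ∈ N, ∀ y ∈ N, x * y = y * x := by
    have hcl : N = Subgroup.closure {g | ∃ g₁ ∈ A, ∃ g₂ ∈ B, ⁅g₁, g₂⁆ = g} := rfl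
    intro x hx y hy
    rw [hcl] at hx hy
    have hc := Subgroup.isMulCommutative_closure (k := {g | ∃ g₁ ∈ A, ∃ g₂ ∈ B, ⁅g₁, g₂⁆ = g}) (by
      rintro _ ⟨a, ha, b, hb, rfl⟩ _ ⟨a', ha', b', hb', rfl⟩
      exact hgen a ha b hb a' ha' b' hb')
    have := mul_comm' (⟨x, hx⟩ : Subgroup.closure {g | ∃ g₁ ∈ A, ∃ g₂ ∈ B, ⁅g₁, g₂⁆ = g}) ⟨y, hy⟩
    exact congrArg (fun z : Subgroup.closure {g | ∃ g₁ ∈ A, ∃ g₂ ∈ B, ⁅g₁, g₂⁆ = g} => (z : G)) this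
  -- N is normal
  have hNA : ∀ a' ∈ A, ∀ n ∈ N, a' * n * a'⁻¹ ∈ N := by
    intro a' ha'
    have : N ≤ N.comap (MulAut.conj a').toMonoidHom := by
      rw [hN, Subgroup.commutator_le]
      intro a ha b hb
      rw [Subgroup.mem_comap]
      show a' * ⁅a, b⁆ * a'⁻¹ ∈ ⁅A, B⁆
      have e : a' * ⁅a, b⁆ * a'⁻¹ = ⁅a' * a, b⁆ * ⁅a', b⁆⁻¹ := by
        simp only [commutatorElement_def]; group
      rw [e]
      exact Subgroup.mul_mem _ (Subgroup.commutator_mem_commutator (A.mul_mem ha' ha) hb)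
        (Subgroup.inv_mem _ (Subgroup.commutator_mem_commutator ha' hb))
    intro n hn
    exact this hn
  have hNB : ∀ b' ∈ B, ∀ n ∈ N, b' * n * b'⁻¹ ∈ N := by
    intro b' hb'
    have : N ≤ N.comap (MulAut.conj b').toMonoidHom := by
      rw [hN, Subgroup.commutator_le]
      intro a ha b hb
      rw [Subgroup.mem_comap]
      show b' * ⁅a, b⁆ * b'⁻¹ ∈ ⁅A, B⁆
      have e : b' * ⁅a, b⁆ * b'⁻¹ = ⁅a, b'⁆⁻¹ * ⁅a, b' * b⁆ := by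
        simp only [commutatorElement_def]; group
      rw [e]
      exact Subgroup.mul_mem _ (Subgroup.inv_mem _ (Subgroup.commutator_mem_commutator ha hb'))
        (Subgroup.commutator_mem_commutator ha (B.mul_mem hb' hb))
    intro n hn
    exact this hn
  have hNnormal : N.Normal := by
    constructor
    intro n hn g
    obtain ⟨a, ha, b, hb, rfl⟩ := hAB g
    have := hNA a ha _ (hNB b hb n hn)
    have e : a * b * n * (a * b)⁻¹ = a * (b * n * b⁻¹) * a⁻¹ := by group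
    rw [e]; exact this
  -- quotient is commutative
  have hQcomm : ∀ x y : G ⧸ N, x * y = y * x := by
    have hab : ∀ a ∈ A, ∀ b ∈ B, ((a : G) : G ⧸ N) * (b : G ⧸ N) = (b : G ⧸ N) * (a : G ⧸ N) := by
      intro a ha b hb
      rw [← QuotientGroup.mk_mul, ← QuotientGroup.mk_mul, QuotientGroup.eq]
      have e : (a * b)⁻¹ * (b * a) = ⁅b⁻¹, a⁻¹⁆ := by
        simp only [commutatorElement_def]; group
      rw [e, ← commutatorElement_inv]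
      exact Subgroup.inv_mem _ (Subgroup.commutator_mem_commutator (A.inv_mem ha) (B.inv_mem hb))
    intro x y
    induction x using QuotientGroup.induction_on with
    | H g =>
    induction y using QuotientGroup.induction_on with
    | H h =>
    obtain ⟨a, ha, b, hb, rfl⟩ := hAB g
    obtain ⟨a', ha', b', hb', rfl⟩ := hAB h
    have hAq : ((a : G) : G ⧸ N) * (a' : G ⧸ N) = (a' : G ⧸ N) * (a : G ⧸ N) := by
      rw [← QuotientGroup.mk_mul, ← QuotientGroup.mk_mul, hA a ha a' ha']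
    have hBq : ((b : G) : G ⧸ N) * (b' : G ⧸ N) = (b' : G ⧸ N) * (b : G ⧸ N) := by
      rw [← QuotientGroup.mk_mul, ← QuotientGroup.mk_mul, hB b hb b' hb']
    simp only [QuotientGroup.mk_mul]
    calc ((a : G) : G ⧸ N) * (b : G ⧸ N) * ((a' : G ⧸ N) * (b' : G ⧸ N))
        = (a : G ⧸ N) * ((b : G ⧸ N) * (a' : G ⧸ N)) * (b' : G ⧸ N) := by group
      _ = (a : G ⧸ N) * ((a' : G ⧸ N) * (b : G ⧸ N)) * (b' : G ⧸ N) := by rw [hab a' ha' b hb]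
      _ = ((a : G ⧸ N) * (a' : G ⧸ N)) * ((b : G ⧸ N) * (b' : G ⧸ N)) := by group
      _ = ((a' : G ⧸ N) * (a : G ⧸ N)) * ((b' : G ⧸ N) * (b : G ⧸ N)) := by rw [hAq, hBq]
      _ = (a' : G ⧸ N) * ((a : G ⧸ N) * (b' : G ⧸ N)) * (b : G ⧸ N) := by group
      _ = (a' : G ⧸ N) * ((b' : G ⧸ N) * (a : G ⧸ N)) * (b : G ⧸ N) := by rw [hab a ha b' hb']
      _ = (a' : G ⧸ N) * (b' : G ⧸ N) * ((a : G ⧸ N) * (b : G ⧸ N)) := by group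
  have hsN : Group.IsSolvable N :=
    Group.isSolvable_of_comm (fun x y => Subtype.ext (hNcomm x x.2 y y.2))
  have hsQ : Group.IsSolvable (G ⧸ N) := Group.isSolvable_of_comm hQcomm
  refine Group.isSolvable_of_ker_le_range N.subtype (QuotientGroup.mk' N) ?_
  rw [QuotientGroup.ker_mk', Subgroup.range_subtype]

end Cfsg.Agent.S0047
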