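import Cfsg.Statements.S0048
import Cfsg.Agent.Lib.Helper10.SolvableNormal
import Mathlib.GroupTheory.Index
import Mathlib.Algebra.IsPrimePow
import Mathlib.GroupTheory.PGroup
-- import your own Cfsg.Agent.* helpers here

set_option autoImplicit false
open Cfsg

namespace Cfsg.Agent.S0048

open Cfsg.Agent.Lib.Helper10

/-- Second isomorphism theorem, index form: if `N` is normal and `M ⊔ N = ⊤` then `|G : M| = |N : M ⊓ N|`. -/
theorem index_eq_relIndex_of_sup_eq_top {G : Type*} [Group G] [Finite G] (M N : Subgroup G) [N.Normal]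
    (h : M ⊔ N = ⊤) : M.index = M.relIndex N := by
  have h1 : Nat.card G = Nat.card N * N.relIndex M := by
    rw [← N.card_mul_index, ← Subgroup.relIndex_top_right, ← h, Subgroup.relIndex_sup_right]
  have h2 : Nat.card M = Nat.card ↥(M ⊓ N) * N.relIndex M := by
    have := Subgroup.relIndex_mul_relIndex (⊥ : Subgroup G) (M ⊓ N) M bot_le inf_le_left
    rw [Subgroup.relIndex_bot_left, Subgroup.relIndex_bot_left, inf_comm, Subgroup.inf_relIndex_right] at this
    rw [inf_comm]; exact this.symm
  have h3 : Nat.card N = Nat.card ↥(M ⊓ N) * M.relIndex N := by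
    have := Subgroup.relIndex_mul_relIndex (⊥ : Subgroup G) (M ⊓ N) N bot_le inf_le_right
    rw [Subgroup.relIndex_bot_left, Subgroup.relIndex_bot_left, Subgroup.inf_relIndex_right] at this
    exact this.symm
  have h4 : Nat.card G = Nat.card M * M.index := (M.card_mul_index).symm
  have hMpos : 0 < Nat.card M := Nat.card_pos
  have : Nat.card M * M.index = Nat.card M * M.relIndex N := by
    rw [← h4, h1, h3, h2]; ring
  exact Nat.eq_of_mul_eq_mul_left hMpos this

/-- In a finite solvable group every maximal subgroup has index a prime power. -/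
theorem result {G : Type*} [Group G] [Finite G] [Group.IsSolvable G]
    (M : Subgroup G) (hM : IsCoatom M) : IsPrimePow M.index := by
  set C : Subgroup G := M.normalCore with hC
  have hCM : C ≤ M := Subgroup.normalCore_le M
  have hCtop : C ≠ ⊤ := fun h => hM.1 (top_le_iff.mp (h ▸ hCM))
  let π : G →* G ⧸ C := QuotientGroup.mk' C
  have hπ : Function.Surjective π := QuotientGroup.mk'_surjective C
  have hker : π.ker = C := QuotientGroup.ker_mk' C
  have htopne : (⊤ : Subgroup (G ⧸ C)) ≠ ⊥ := by
    intro h
    apply hCtop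
    rw [eq_top_iff]
    intro g _
    rw [← hker, MonoidHom.mem_ker]
    have : π g ∈ (⊤ : Subgroup (G ⧸ C)) := trivial
    rw [h, Subgroup.mem_bot] at this
    exact this
  obtain ⟨V, p, hVn, hVne, hp, hVp⟩ :=
    exists_normal_prime_exponent (⊤ : Subgroup (G ⧸ C)) htopne inferInstance
  have : Fact p.Prime := ⟨hp⟩
  set N : Subgroup G := V.comap π with hN
  have hNn : N.Normal := hVn.comap π
  have hCN : C ≤ N := by
    intro c hc
    rw [hN, Subgroup.mem_comap]
    have : π c = 1 := by rw [← MonoidHom.mem_ker, hker]; exact hc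
    rw [this]; exact V.one_mem
  have hNM : ¬ N ≤ M := by
    intro h
    have hNC : N ≤ C := Subgroup.normal_le_normalCore.mpr h
    apply hVne
    rw [eq_bot_iff]
    intro v hv
    obtain ⟨g, rfl⟩ := hπ v
    have hg : g ∈ N := hv
    have := hNC hg
    rw [← hker, MonoidHom.mem_ker] at this
    rw [Subgroup.mem_bot]; exact this
  have hsup : M ⊔ N = ⊤ :=
    hM.2 _ (lt_of_le_of_ne le_sup_left (fun h => hNM (h ▸ le_sup_right)))
  have hidx : M.index = M.relIndex N := index_eq_relIndex_of_sup_eq_top M N hsup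
  -- |N : C| = |V| is a power of p
  have hVpg : IsPGroup p V := fun x => ⟨1, by simpa using hVp x⟩
  obtain ⟨k, hk⟩ := IsPGroup.iff_card.mp hVpg
  have hCrel : C.relIndex N = p ^ k := by
    have h1 : C = (⊥ : Subgroup (G ⧸ C)).comap π := by rw [MonoidHom.comap_bot, hker]
    have h2 : N.map π = V := Subgroup.map_comap_eq_self_of_surjective hπ V
    conv_lhs => rw [h1]
    rw [Subgroup.relIndex_comap, h2, Subgroup.relIndex_bot_left, hk]
  have hdvd : M.index ∣ p ^ k := by
    rw [hidx, ← hCrel]
    exact Subgroup.relIndex_dvd_of_le_left N hCM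
  obtain ⟨j, _, hj⟩ := (Nat.dvd_prime_pow hp).mp hdvd
  have hj0 : j ≠ 0 := by
    rintro rfl
    rw [pow_zero, Subgroup.index_eq_one] at hj
    exact hM.1 hj
  rw [hj]
  exact hp.isPrimePow.pow hj0

end Cfsg.Agent.S0048
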