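import Cfsg.Statements.S0049
import Mathlib.GroupTheory.SchurZassenhaus
-- import your own Cfsg.Agent.* helpers here

set_option autoImplicit false
open Cfsg

namespace Cfsg.Agent.S0049

/-- A prime divisor of the order of a finite group also divides the index of the Frattini subgroup. -/
theorem result {G : Type*} [Group G] [Finite G] (p : ℕ) (hp : p.Prime) (hdvd : p ∣ Nat.card G) :
    p ∣ (frattini G).index := by
  have : Fact p.Prime := ⟨hp⟩
  by_contra hnd
  have hΦ : p ∣ Nat.card (frattini G) := by
    have := (frattini G).card_mul_index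
    rw [← this] at hdvd
    exact (hp.dvd_mul.mp hdvd).resolve_right hnd
  obtain ⟨Q⟩ : Nonempty (Sylow p (frattini G)) := inferInstance
  set Q' : Subgroup G := (Q : Subgroup (frattini G)).map (frattini G).subtype with hQ'
  have h1 : Subgroup.normalizer (Q' : Set G) ⊔ frattini G = ⊤ := Sylow.normalizer_sup_eq_top Q
  have h2 : Subgroup.normalizer (Q' : Set G) = ⊤ := frattini_nongenerating h1
  have hnorm : Q'.Normal := Subgroup.normalizer_eq_top_iff.mp h2
  have hcop : Nat.Coprime (Nat.card Q') Q'.index := by
    rw [hQ', Subgroup.index_map_subtype, Subgroup.card_map_of_injective (Subgroup.subtype_injective _)]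
    obtain ⟨n, hn⟩ := IsPGroup.iff_card.mp Q.2
    rw [hn]
    apply Nat.Coprime.pow_left
    apply Nat.Coprime.mul_right
    · exact (Nat.Prime.coprime_iff_not_dvd hp).mpr Q.not_dvd_index
    · exact (Nat.Prime.coprime_iff_not_dvd hp).mpr hnd
  obtain ⟨H, hH⟩ := Subgroup.exists_left_complement'_of_coprime hcop
  have h3 : H ⊔ frattini G = ⊤ := by
    have := hH.sup_eq_top
    apply top_le_iff.mp
    rw [← this]
    exact sup_le_sup_left (Subgroup.map_subtype_le _) _
  have h4 : H = ⊤ := frattini_nongenerating h3
  have h5 : Q' = ⊥ := by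
    have := hH.disjoint
    rw [h4] at this
    exact top_disjoint.mp this
  have h6 : (Q : Subgroup (frattini G)) = ⊥ := by
    rw [hQ'] at h5
    exact (Subgroup.map_eq_bot_iff_of_injective _ (Subgroup.subtype_injective _)).mp h5
  exact Q.ne_bot_of_dvd_card hΦ h6

end Cfsg.Agent.S0049
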