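import Cfsg.Statements.S0050
import Cfsg.Agent.Lib.Helper13.Hall2

open scoped Pointwise
open Cfsg.Agent.Lib.Helper13

set_option autoImplicit false
open Cfsg

namespace Cfsg.Agent.S0050

/-- Frattini argument for Hall subgroups: if L is a solvable normal subgroup and H a subgroup of L of order coprime to its index in L, then L together with the normaliser of H generates the whole group. -/
theorem result {G : Type*} [Group G] [Finite G] (L : Subgroup G) [L.Normal] (hL : Group.IsSolvable L)
    (H : Subgroup G) (hHL : H ≤ L) (hHall : (Nat.card H).Coprime (H.relIndex L)) :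
    L ⊔ Subgroup.normalizer (H : Set G) = ⊤ := by
  rw [eq_top_iff]
  intro g _
  have hgL : MulAut.conj g • H ≤ L := by
    intro x hx
    rw [mem_cj] at hx
    have h1 : g⁻¹ * x * g ∈ L := hHL hx
    have h2 := ‹L.Normal›.conj_mem _ h1 g
    have : g * (g⁻¹ * x * g) * g⁻¹ = x := by group
    rwa [this] at h2
  have : Group.IsSolvable L := hL
  have hH' : (Nat.card (H.subgroupOf L)).Coprime (H.subgroupOf L).index := by
    rw [card_subgroupOf_of_le hHL]; exact hHall
  have hcard : Nat.card ((MulAut.conj g • H).subgroupOf L) = Nat.card (H.subgroupOf L) := by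
    rw [card_subgroupOf_of_le hHL, card_subgroupOf_of_le hgL, card_cj]
  obtain ⟨l, hl⟩ := hall_conj (H.subgroupOf L) ((MulAut.conj g • H).subgroupOf L) hH' hcard
  have h3 := congrArg (Subgroup.map L.subtype) hl
  rw [map_cj, Subgroup.map_subgroupOf_eq_of_le hHL, Subgroup.map_subgroupOf_eq_of_le hgL] at h3
  have h4 : (l : G)⁻¹ * g ∈ Subgroup.normalizer (H : Set G) := by
    rw [← cj_eq_self_iff_mem_normalizer, cj_mul, ← h3]
    show MulAut.conj (l : G)⁻¹ • MulAut.conj (l : G) • H = H
    rw [← cj_mul, inv_mul_cancel, cj_one]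
  have : g = (l : G) * ((l : G)⁻¹ * g) := by group
  rw [this]
  exact Subgroup.mul_mem_sup l.2 h4

end Cfsg.Agent.S0050
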