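import Cfsg.Statements.S0051
import Mathlib

set_option autoImplicit false
open Cfsg
open scoped IsMulCommutative Pointwise

namespace Cfsg.Agent.S0051

variable {G : Type*} [Group G] (K U A : Subgroup G)

open Classical in
/-- the `K`-part of `u = k * a`. -/
noncomputable def lam (u : G) : G :=
  if h : ∃ k ∈ K, ∃ a ∈ A, u = k * a then Classical.choose h else 1

theorem lam_mem (u : G) : lam K A u ∈ K := by
  unfold lam
  split_ifs with h
  · exact (Classical.choose_spec h).1
  · exact K.one_mem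

theorem lam_spec {u : G} (h : ∃ k ∈ K, ∃ a ∈ A, u = k * a) :
    ∃ a ∈ A, u = lam K A u * a := by
  unfold lam
  rw [dif_pos h]
  exact (Classical.choose_spec h).2

theorem lam_eq (hAK : A ⊓ K = ⊥) {u k a : G} (hk : k ∈ K) (ha : a ∈ A) (hu : u = k * a) :
    lam K A u = k := by
  obtain ⟨a', ha', hu'⟩ := lam_spec K A ⟨k, hk, a, ha, hu⟩
  have h1 : k⁻¹ * lam K A u = a * a'⁻¹ := by
    have : lam K A u * a' = k * a := by rw [← hu', hu]
    calc k⁻¹ * lam K A u = k⁻¹ * (lam K A u * a') * a'⁻¹ := by group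
    _ = k⁻¹ * (k * a) * a'⁻¹ := by rw [this]
    _ = a * a'⁻¹ := by group
  have h2 : k⁻¹ * lam K A u ∈ A ⊓ K :=
    ⟨by rw [h1]; exact A.mul_mem ha (A.inv_mem ha'),
      K.mul_mem (K.inv_mem hk) (lam_mem K A u)⟩
  rw [hAK, Subgroup.mem_bot] at h2
  exact (inv_mul_eq_one.1 h2).symm

theorem exists_decomp [K.Normal] (hKA : K ⊔ A = U) {u : G} (hu : u ∈ U) :
    ∃ k ∈ K, ∃ a ∈ A, u = k * a := by
  rw [← hKA, ← SetLike.mem_coe, Subgroup.normal_mul] at hu
  obtain ⟨k, hk, a, ha, rfl⟩ := hu
  exact ⟨k, hk, a, ha, rfl⟩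

theorem lam_of_mem (hAK : A ⊓ K = ⊥) {k : G} (hk : k ∈ K) : lam K A k = k :=
  lam_eq K A hAK hk A.one_mem (mul_one k).symm

theorem lam_mul [hKn : K.Normal] [hKc : IsMulCommutative K] (hAK : A ⊓ K = ⊥) (hKA : K ⊔ A = U)
    {u v : G} (hu : u ∈ U) (hv : v ∈ U) :
    lam K A (u * v) = lam K A u * (u * lam K A v * u⁻¹) := by
  obtain ⟨a, ha, hua⟩ := lam_spec K A (exists_decomp K U A hKA hu)
  obtain ⟨b, hb, hvb⟩ := lam_spec K A (exists_decomp K U A hKA hv)
  have hx := lam_mem K A u
  have hy := lam_mem K A v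
  set x := lam K A u with hxdef
  set y := lam K A v with hydef
  have hzK : a * y * a⁻¹ ∈ K := hKn.conj_mem y hy a
  have hcomm : x * (a * y * a⁻¹) = (a * y * a⁻¹) * x :=
    congrArg Subtype.val (hKc.is_comm.comm ⟨x, hx⟩ ⟨a * y * a⁻¹, hzK⟩)
  have hz : u * y * u⁻¹ = a * y * a⁻¹ := by
    calc u * y * u⁻¹ = (x * (a * y * a⁻¹)) * x⁻¹ := by rw [hua]; group
    _ = ((a * y * a⁻¹) * x) * x⁻¹ := by rw [hcomm]
    _ = a * y * a⁻¹ := by group
  apply lam_eq K A hAK (K.mul_mem hx (hKn.conj_mem y hy u)) (A.mul_mem ha hb)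
  rw [hz]
  calc u * v = (x * a) * (y * b) := by rw [← hua, ← hvb]
  _ = x * (a * y * a⁻¹) * (a * b) := by group

section transversal

variable {K U A}

theorem uel_mem (g : G) (C : G ⧸ U) :
    (Quotient.out (g • C) : G)⁻¹ * g * (Quotient.out C : G) ∈ U := by
  have h1 : ((Quotient.out (g • C) : G) : G ⧸ U) = ((g * (Quotient.out C : G) : G) : G ⧸ U) := by
    rw [QuotientGroup.out_eq']
    exact (MulAction.Quotient.coe_smul_out U g C).symm
  have := QuotientGroup.eq.1 h1
  rwa [← mul_assoc] at this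

end transversal


section delta

variable [hKn : K.Normal] [hKc : IsMulCommutative K] [Fintype (G ⧸ U)]

/-- one factor of the crossed homomorphism. -/
noncomputable def fac (g : G) (C : G ⧸ U) : K :=
  ⟨(Quotient.out (g • C) : G) *
      lam K A ((Quotient.out (g • C) : G)⁻¹ * g * (Quotient.out C : G)) *
      (Quotient.out (g • C) : G)⁻¹,
    hKn.conj_mem _ (lam_mem K A _) _⟩

/-- the crossed homomorphism `G → K`. -/
noncomputable def delta (g : G) : K := ∏ C : G ⧸ U, fac K U A g C

omit hKc [Fintype (G ⧸ U)] in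
theorem fac_mul [IsMulCommutative K] (hAK : A ⊓ K = ⊥) (hKA : K ⊔ A = U) (g h : G) (C : G ⧸ U) :
    fac K U A (g * h) C = fac K U A g (h • C) * MulAut.conjNormal g (fac K U A h C) := by
  apply Subtype.ext
  rw [Subgroup.coe_mul, MulAut.conjNormal_apply]
  unfold fac
  simp only
  have hmul : (g * h) • C = g • (h • C) := mul_smul g h C
  rw [hmul]
  have e : (Quotient.out (g • h • C) : G)⁻¹ * (g * h) * (Quotient.out C : G) =
      ((Quotient.out (g • h • C) : G)⁻¹ * g * (Quotient.out (h • C) : G)) *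
        ((Quotient.out (h • C) : G)⁻¹ * h * (Quotient.out C : G)) := by group
  rw [e, lam_mul K U A hAK hKA (uel_mem g (h • C)) (uel_mem h C)]
  group

theorem delta_mul (hAK : A ⊓ K = ⊥) (hKA : K ⊔ A = U) (g h : G) :
    delta K U A (g * h) = delta K U A g * MulAut.conjNormal g (delta K U A h) := by
  unfold delta
  rw [map_prod, ← Equiv.prod_comp (MulAction.toPerm h) (fac K U A g), ← Finset.prod_mul_distrib]
  apply Finset.prod_congr rfl
  intro C _
  exact fac_mul K U A hAK hKA g h C

theorem delta_of_mem (hAK : A ⊓ K = ⊥) (hKU : K ≤ U) {k : G} (hk : k ∈ K) :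
    delta K U A k = (⟨k, hk⟩ : K) ^ Fintype.card (G ⧸ U) := by
  unfold delta
  rw [← Finset.card_univ, ← Finset.prod_const]
  apply Finset.prod_congr rfl
  intro C _
  have hkC : k • C = C := by
    obtain ⟨t, rfl⟩ := QuotientGroup.mk_surjective C
    show k • (t : G ⧸ U) = t
    rw [MulAction.Quotient.smul_coe, QuotientGroup.eq, smul_eq_mul]
    apply hKU
    have := hKn.conj_mem k⁻¹ (K.inv_mem hk) t⁻¹
    simpa [mul_assoc] using this
  apply Subtype.ext
  unfold fac
  simp only
  rw [hkC]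
  have hmem : (Quotient.out C : G)⁻¹ * k * (Quotient.out C : G) ∈ K := by
    have := hKn.conj_mem k hk (Quotient.out C : G)⁻¹
    simpa using this
  rw [lam_of_mem K A hAK hmem]
  group

end delta


/-- Gaschütz's Theorem, existence: an abelian normal subgroup K that is complemented inside a subgroup U ≥ K whose index is coprime to the order of K is complemented in the whole group. -/
theorem result {G : Type*} [Group G] [Finite G] (K U : Subgroup G) [K.Normal] [IsMulCommutative K]
    (hKU : K ≤ U) (hcop : (Nat.card K).Coprime U.index)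
    (A : Subgroup G) (hAU : A ≤ U) (hAK : A ⊓ K = ⊥) (hKA : K ⊔ A = U) :
    ∃ H : Subgroup G, Subgroup.IsComplement' K H := by
  classical
  let _inst : Fintype (G ⧸ U) := Fintype.ofFinite _
  have hm : Fintype.card (G ⧸ U) = U.index := by
    rw [Subgroup.index_eq_card, Nat.card_eq_fintype_card]
  have hcop' : (Nat.card K).Coprime (Fintype.card (G ⧸ U)) := by rw [hm]; exact hcop
  have hd1 : delta K U A 1 = 1 := by
    rw [delta_of_mem K U A hAK hKU K.one_mem]
    exact one_pow _
  have hconjK : ∀ (k : G) (hk : k ∈ K) (x : K), MulAut.conjNormal k x = x := by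
    intro k hk x
    apply Subtype.ext
    rw [MulAut.conjNormal_apply]
    have : k * (x : G) = x * k :=
      congrArg Subtype.val (IsMulCommutative.is_comm.comm (⟨k, hk⟩ : K) x)
    rw [this, mul_inv_cancel_right]
  let H : Subgroup G :=
    { carrier := {g | delta K U A g = 1}
      one_mem' := hd1
      mul_mem' := by
        intro a b ha hb
        show delta K U A (a * b) = 1
        rw [delta_mul K U A hAK hKA, show delta K U A a = 1 from ha,
          show delta K U A b = 1 from hb, map_one, one_mul]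
      inv_mem' := by
        intro a ha
        show delta K U A a⁻¹ = 1
        have h1 := delta_mul K U A hAK hKA a⁻¹ a
        rw [inv_mul_cancel, hd1, show delta K U A a = 1 from ha, map_one, mul_one] at h1
        exact h1.symm }
  have hHmem : ∀ g : G, g ∈ H ↔ delta K U A g = 1 := fun g => Iff.rfl
  refine ⟨H, Subgroup.isComplement'_of_disjoint_and_mul_eq_univ ?_ ?_⟩
  · rw [Subgroup.disjoint_def]
    intro x hxK hxH
    rw [hHmem, delta_of_mem K U A hAK hKU hxK] at hxH
    have h1 : orderOf (⟨x, hxK⟩ : K) ∣ Fintype.card (G ⧸ U) := orderOf_dvd_of_pow_eq_one hxH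
    have h2 : orderOf (⟨x, hxK⟩ : K) ∣ Nat.card K := orderOf_dvd_natCard _
    have h3 : orderOf (⟨x, hxK⟩ : K) = 1 := Nat.eq_one_of_dvd_coprimes hcop' h2 h1
    have h4 : (⟨x, hxK⟩ : K) = 1 := orderOf_eq_one_iff.1 h3
    exact congrArg Subtype.val h4
  · rw [Set.eq_univ_iff_forall]
    intro g
    set k : K := (powCoprime hcop').symm (delta K U A g) with hk
    have hkm : k ^ Fintype.card (G ⧸ U) = delta K U A g := by
      have := (powCoprime hcop').apply_symm_apply (delta K U A g)
      exact this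
    refine ⟨k, k.2, (k : G)⁻¹ * g, ?_, by group⟩
    show delta K U A ((k : G)⁻¹ * g) = 1
    rw [delta_mul K U A hAK hKA, hconjK _ (K.inv_mem k.2),
      delta_of_mem K U A hAK hKU (K.inv_mem k.2), ← hkm]
    have : (⟨(k : G)⁻¹, K.inv_mem k.2⟩ : K) = k⁻¹ := rfl
    rw [this, inv_pow, inv_mul_cancel]

end Cfsg.Agent.S0051
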