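import Mathlib
import Cfsg.Statements.S0052
-- import your own Cfsg.Agent.* helpers here

set_option autoImplicit false
open Pointwise
open Cfsg

namespace Cfsg.Agent.S0052

open scoped IsMulCommutative in
/-- Gaschütz's Theorem, conjugacy: for an abelian normal subgroup K ≤ U with the order of K coprime to the index of U, two complements of K in G having the same intersection with U are conjugate. -/
theorem result {G : Type*} [Group G] [Finite G] (K U : Subgroup G) [K.Normal] [IsMulCommutative K]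
    (hKU : K ≤ U) (hcop : (Nat.card K).Coprime U.index)
    (H₀ H₁ : Subgroup G) (h₀ : Subgroup.IsComplement' K H₀) (h₁ : Subgroup.IsComplement' K H₁) (hU : H₀ ⊓ U = H₁ ⊓ U) :
    ∃ g : G, MulAut.conj g • H₀ = H₁ := by
  classical
  -- existence and uniqueness of the "difference" cocycle
  have hex : ∀ h : G, ∃ k : K, (k : G) * h ∈ H₁ := by
    intro h
    obtain ⟨⟨⟨k, hk⟩, ⟨h', hh'⟩⟩, hx, -⟩ := h₁.existsUnique h
    simp only at hx
    refine ⟨⟨k⁻¹, K.inv_mem hk⟩, ?_⟩
    rw [← hx]
    simpa using hh'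
  have huniq : ∀ (h : G) (k k' : K), (k : G) * h ∈ H₁ → (k' : G) * h ∈ H₁ → k = k' := by
    intro h k k' h1 h2
    have hmem : (k : G) * (k' : G)⁻¹ ∈ K ⊓ H₁ := by
      refine ⟨K.mul_mem k.2 (K.inv_mem k'.2), ?_⟩
      have := H₁.mul_mem h1 (H₁.inv_mem h2)
      simpa [mul_assoc] using this
    rw [h₁.disjoint.eq_bot] at hmem
    exact Subtype.ext (mul_inv_eq_one.mp (Subgroup.mem_bot.mp hmem))
  choose δ hδ using hex
  have hP : ∀ (h : G) (k : K), (k : G) * h ∈ H₁ → δ h = k := fun h k hk =>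
    huniq h _ _ (hδ h) hk
  let φ : G → MulAut K := fun g => MulAut.conjNormal g
  have hφ : ∀ (g : G) (k : K), ((φ g k : K) : G) = g * k * g⁻¹ := fun g k => by
    simp [φ]
  have hcoc : ∀ h h' : G, δ (h * h') = δ h * φ h (δ h') := by
    intro h h'
    apply hP
    have := H₁.mul_mem (hδ h) (hδ h')
    rw [Subgroup.coe_mul, hφ]
    convert this using 1
    group
  have hone : ∀ v ∈ H₁, δ v = 1 := by
    intro v hv
    apply hP
    simpa using hv
  have hconst : ∀ (h v : G), v ∈ H₀ ⊓ U → δ (h * v) = δ h := by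
    intro h v hv
    rw [hU] at hv
    rw [hcoc, hone v hv.1, map_one, mul_one]
  -- the quotient
  let V' : Subgroup H₀ := U.subgroupOf H₀
  let δ' : H₀ ⧸ V' → K := Quotient.lift (fun h : H₀ => δ (h : G)) (by
    intro a b hab
    have hab' : a⁻¹ * b ∈ V' := QuotientGroup.leftRel_apply.mp hab
    have hb : (b : G) = (a : G) * ((a : G)⁻¹ * (b : G)) := by group
    show δ (a : G) = δ (b : G)
    rw [hb]
    symm
    apply hconst
    refine ⟨?_, ?_⟩
    · exact H₀.mul_mem (H₀.inv_mem a.2) b.2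
    · exact hab')
  have hn : Nat.card (H₀ ⧸ V') = U.index := by
    apply Nat.card_congr
    refine Equiv.ofBijective (Quotient.map' (fun h : H₀ => (h : G)) ?_) ⟨?_, ?_⟩
    · intro a b hab
      rw [QuotientGroup.leftRel_apply] at hab ⊢
      exact hab
    · intro x y
      induction x using Quotient.inductionOn' with
      | h a =>
      induction y using Quotient.inductionOn' with
      | h b =>
      intro hxy
      rw [Quotient.map'_mk'', Quotient.map'_mk'', Quotient.eq''] at hxy
      apply Quotient.sound'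
      rw [QuotientGroup.leftRel_apply] at hxy ⊢
      exact hxy
    · intro y
      induction y using Quotient.inductionOn' with
      | h g =>
      obtain ⟨⟨⟨k, hk⟩, ⟨h, hh⟩⟩, hx, -⟩ := h₀.existsUnique g
      simp only at hx
      refine ⟨Quotient.mk'' ⟨h, hh⟩, ?_⟩
      rw [Quotient.map'_mk'']
      apply Quotient.sound'
      rw [QuotientGroup.leftRel_apply]
      apply hKU
      rw [← hx]
      have := ‹K.Normal›.conj_mem k hk h⁻¹
      simpa [mul_assoc] using this
  letI : Fintype (H₀ ⧸ V') := Fintype.ofFinite _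
  set n := Nat.card (H₀ ⧸ V') with hn_def
  let m : K := ∏ q : H₀ ⧸ V', δ' q
  have hstep : ∀ (h : H₀) (q : H₀ ⧸ V'), φ (h : G) (δ' q) = (δ (h : G))⁻¹ * δ' (h • q) := by
    intro h q
    induction q using QuotientGroup.induction_on with
    | H a =>
    have h1 : δ' (a : H₀ ⧸ V') = δ (a : G) := rfl
    have h2 : h • (a : H₀ ⧸ V') = ((h * a : H₀) : H₀ ⧸ V') := rfl
    have h3 : δ' ((h * a : H₀) : H₀ ⧸ V') = δ ((h : G) * (a : G)) := rfl
    rw [h1, h2, h3, hcoc]
    group
  have hm : ∀ h : H₀, φ (h : G) m = ((δ (h : G))⁻¹) ^ n * m := by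
    intro h
    show φ (h : G) (∏ q : H₀ ⧸ V', δ' q) = _
    rw [map_prod]
    simp_rw [hstep h]
    rw [Finset.prod_mul_distrib, Finset.prod_const, Finset.card_univ, ← Nat.card_eq_fintype_card]
    congr 1
    exact Equiv.prod_comp (MulAction.toPerm h) δ'
  have hcop' : (Nat.card K).Coprime n := by rw [hn]; exact hcop
  let e : K ≃ K := powCoprime hcop'
  obtain ⟨k₀, hk₀⟩ : ∃ k₀ : K, k₀ ^ n = m := ⟨e.symm m, e.apply_symm_apply m⟩
  have hk₀' : ∀ h : H₀, φ (h : G) k₀ = (δ (h : G))⁻¹ * k₀ := by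
    intro h
    apply e.injective
    show (φ (h : G) k₀) ^ n = ((δ (h : G))⁻¹ * k₀) ^ n
    rw [← map_pow, hk₀, hm, mul_pow, hk₀]
  have hmain : ∀ h ∈ H₀, (k₀ : G) * h * (k₀ : G)⁻¹ ∈ H₁ := by
    intro h hh
    have h1 := hk₀' ⟨h, hh⟩
    have h2 := congrArg (fun x : K => (x : G)) h1
    simp only [hφ, Subgroup.coe_mul, Subgroup.coe_inv] at h2
    have h3 := hδ h
    have h4 : (k₀ : G) * h * (k₀ : G)⁻¹ = (δ h : G) * h := by
      have : (δ h : G) = (k₀ : G) * (h * k₀ * h⁻¹)⁻¹ := by
        rw [h2]; group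
      rw [this]; group
    rw [h4]; exact h3
  refine ⟨(k₀ : G), ?_⟩
  apply Subgroup.eq_of_le_of_card_ge
  · intro x hx
    obtain ⟨s, hs, rfl⟩ := (Subgroup.mem_smul_pointwise_iff_exists _ _ _).mp hx
    simpa [MulAut.smul_def] using hmain s hs
  · have c0 := h₀.card_mul_card
    have c1 := h₁.card_mul_card
    have hKpos : 0 < Nat.card K := Nat.card_pos
    have : Nat.card H₀ = Nat.card H₁ := by
      have := c0.trans c1.symm
      exact Nat.eq_of_mul_eq_mul_left hKpos this
    rw [← Nat.card_congr (Subgroup.equivSMul (MulAut.conj (k₀ : G)) H₀).toEquiv, this]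

end Cfsg.Agent.S0052
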