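import Cfsg.Statements.S0053
import Mathlib

set_option autoImplicit false
open Cfsg

namespace Cfsg.Agent.S0053

/-- An abelian minimal normal subgroup has a complement iff it is not contained in the Frattini subgroup. -/
theorem result {G : Type*} [Group G] [Finite G]
    (N : Subgroup G) [N.Normal] [IsMulCommutative N] (hN : N ≠ ⊥)
    (hmin : ∀ M : Subgroup G, M.Normal → M ≤ N → M = ⊥ ∨ M = N) :
    (∃ H : Subgroup G, Subgroup.IsComplement' N H) ↔ ¬ N ≤ frattini G := by
  constructor
  · rintro ⟨H, hH⟩ hle
    have h1 : H ⊔ frattini G = ⊤ := by
      rw [eq_top_iff, ← hH.sup_eq_top]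
      exact sup_le (hle.trans le_sup_right) le_sup_left
    have h2 : H = ⊤ := frattini_nongenerating h1
    have h3 := hH.disjoint
    rw [h2, disjoint_top] at h3
    exact hN h3
  · intro hle
    have hex : ∃ M : Subgroup G, IsCoatom M ∧ ¬ N ≤ M := by
      by_contra hcon
      push Not at hcon
      apply hle
      unfold frattini Order.radical
      exact le_iInf₂ (fun M hM => hcon M hM)
    obtain ⟨M, hM, hNM⟩ := hex
    have hsup : N ⊔ M = ⊤ := by
      have hlt : M < N ⊔ M := by
        refine lt_of_le_of_ne le_sup_right ?_
        intro heq
        apply hNM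
        rw [heq]
        exact le_sup_left
      exact hM.2 _ hlt
    -- N ⊓ M is normal in G
    have hnorm : (N ⊓ M).Normal := by
      have hnz : Subgroup.normalizer ((N ⊓ M : Subgroup G) : Set G) = ⊤ := by
        rw [eq_top_iff, ← hsup]
        apply sup_le
        · intro n hn
          rw [Subgroup.mem_normalizer_iff]
          intro x
          have key : ∀ y ∈ N, n * y * n⁻¹ = y := by
            intro y hy
            have hc : (⟨n, hn⟩ : N) * ⟨y, hy⟩ = ⟨y, hy⟩ * ⟨n, hn⟩ :=
              ‹IsMulCommutative N›.is_comm.comm _ _
            have hc' : n * y = y * n := congrArg Subtype.val hc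
            rw [hc']; group
          constructor
          · intro hx
            rw [key x hx.1]; exact hx
          · intro hx
            have hxN : x ∈ N := by
              have := ‹N.Normal›.conj_mem _ hx.1 n⁻¹
              simpa [mul_assoc] using this
            rw [key x hxN] at hx; exact hx
        · intro m hm
          rw [Subgroup.mem_normalizer_iff]
          intro x
          constructor
          · intro hx
            exact ⟨‹N.Normal›.conj_mem _ hx.1 m, M.mul_mem (M.mul_mem hm hx.2) (M.inv_mem hm)⟩
          · intro hx
            constructor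
            · have := ‹N.Normal›.conj_mem _ hx.1 m⁻¹
              simpa [mul_assoc] using this
            · have := M.mul_mem (M.mul_mem (M.inv_mem hm) hx.2) hm
              simpa [mul_assoc] using this
      exact Subgroup.normalizer_eq_top_iff.mp hnz
    rcases hmin (N ⊓ M) hnorm inf_le_left with h | h
    · refine ⟨M, Subgroup.isComplement'_of_disjoint_and_mul_eq_univ (disjoint_iff.mpr h) ?_⟩
      rw [← Subgroup.normal_mul, hsup]; rfl
    · exfalso; apply hNM; rw [← h]; exact inf_le_right

end Cfsg.Agent.S0053
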