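import Cfsg.Statements.S0054
import Mathlib

set_option autoImplicit false
open Cfsg

namespace Cfsg.Agent.S0054

/-- A regular normal subgroup of a 2-transitive group is elementary abelian. -/
theorem result {G : Type*} [Group G] [Finite G]
    {X : Type*} [Nonempty X] [MulAction G X] (h2 : MulAction.IsMultiplyPretransitive G X 2)
    (N : Subgroup G) [N.Normal] (htrans : MulAction.IsPretransitive N X) (hreg : ∀ x : X, MulAction.stabilizer N x = ⊥) :
    IsMulCommutative N ∧ ∃ p : ℕ, p.Prime ∧ ∀ n ∈ N, n ^ p = 1 := by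
  have hNn : N.Normal := inferInstance
  obtain ⟨x₀⟩ := ‹Nonempty X›
  rw [MulAction.is_two_pretransitive_iff] at h2
  -- free action
  have hfree : ∀ n ∈ N, n • x₀ = x₀ → n = 1 := by
    intro n hn hfix
    have hmem : (⟨n, hn⟩ : N) ∈ MulAction.stabilizer N x₀ := by
      rw [MulAction.mem_stabilizer_iff]
      exact hfix
    rw [hreg x₀, Subgroup.mem_bot] at hmem
    exact congrArg Subtype.val hmem
  -- any two nonidentity elements are conjugate
  have hconj : ∀ n₁ ∈ N, ∀ n₂ ∈ N, n₁ ≠ 1 → n₂ ≠ 1 → ∃ g : G, g * n₁ * g⁻¹ = n₂ := by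
    intro n₁ hn₁ n₂ hn₂ h1 h2'
    have hne1 : x₀ ≠ n₁ • x₀ := fun h => h1 (hfree n₁ hn₁ h.symm)
    have hne2 : x₀ ≠ n₂ • x₀ := fun h => h2' (hfree n₂ hn₂ h.symm)
    obtain ⟨g, hg0, hg1⟩ := h2 hne1 hne2
    refine ⟨g, ?_⟩
    have hmem : n₂⁻¹ * (g * n₁ * g⁻¹) ∈ N := N.mul_mem (N.inv_mem hn₂) (hNn.conj_mem _ hn₁ g)
    have hfix : (n₂⁻¹ * (g * n₁ * g⁻¹)) • x₀ = x₀ := by
      have hginv : g⁻¹ • x₀ = x₀ := by
        rw [inv_smul_eq_iff, hg0]
      rw [mul_smul, mul_smul, mul_smul, hginv, hg1, inv_smul_smul]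
    have := hfree _ hmem hfix
    have h3 : g * n₁ * g⁻¹ = n₂ * (n₂⁻¹ * (g * n₁ * g⁻¹)) := by group
    rw [h3, this, mul_one]
  by_cases hbot : N = ⊥
  · have hall : ∀ g ∈ N, g = 1 := by
      intro g hg
      rw [hbot, Subgroup.mem_bot] at hg
      exact hg
    constructor
    · refine ⟨⟨fun a b => ?_⟩⟩
      have ha : (a : G) = 1 := hall _ a.2
      have hb : (b : G) = 1 := hall _ b.2
      apply Subtype.ext
      simp [ha, hb]
    · refine ⟨2, Nat.prime_two, ?_⟩
      intro n hn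
      rw [hbot, Subgroup.mem_bot] at hn
      rw [hn, one_pow]
  · obtain ⟨a₀, ha₀⟩ := (Subgroup.ne_bot_iff_exists_ne_one (H := N)).mp hbot
    obtain ⟨n₀, hn₀, hn₀1⟩ : ∃ n₀ : G, n₀ ∈ N ∧ n₀ ≠ 1 :=
      ⟨(a₀ : G), a₀.2, fun h => ha₀ (Subtype.ext h)⟩
    -- an element of prime order
    have hord : orderOf n₀ ≠ 1 := by
      intro h; exact hn₀1 (orderOf_eq_one_iff.mp h)
    set p := (orderOf n₀).minFac with hp
    have hpp : p.Prime := Nat.minFac_prime hord
    have hpd : p ∣ orderOf n₀ := Nat.minFac_dvd _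
    set n₁ := n₀ ^ (orderOf n₀ / p) with hn₁def
    have hn₁ : n₁ ∈ N := N.pow_mem hn₀ _
    have hn₁ord : orderOf n₁ = p := by
      rw [hn₁def]
      exact orderOf_pow_orderOf_div (orderOf_pos n₀).ne' hpd
    have hn₁1 : n₁ ≠ 1 := by
      intro h
      rw [h, orderOf_one] at hn₁ord
      exact hpp.one_lt.ne hn₁ord
    have hpow : ∀ n ∈ N, n ^ p = 1 := by
      intro n hn
      by_cases h1 : n = 1
      · rw [h1, one_pow]
      · obtain ⟨g, hg⟩ := hconj n₁ hn₁ n hn hn₁1 h1
        rw [← hg]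
        have : (g * n₁ * g⁻¹) ^ p = g * n₁ ^ p * g⁻¹ := conj_pow
        rw [this, ← hn₁ord, pow_orderOf_eq_one]
        group
    refine ⟨?_, p, hpp, hpow⟩
    -- N is a p-group with nontrivial center
    haveI : Fact p.Prime := ⟨hpp⟩
    have hpg : IsPGroup p N := by
      intro a
      refine ⟨1, ?_⟩
      apply Subtype.ext
      rw [pow_one]
      simpa using hpow a a.2
    haveI : Nontrivial N := (Subgroup.nontrivial_iff_ne_bot _).mpr hbot
    have hZ : Nontrivial (Subgroup.center N) := hpg.center_nontrivial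
    obtain ⟨z, hz1⟩ := exists_ne (1 : Subgroup.center N)
    have hzN : ((z : N) : G) ∈ N := (z : N).2
    have hz1' : ((z : N) : G) ≠ 1 := by
      intro h
      apply hz1
      apply Subtype.ext
      apply Subtype.ext
      simpa using h
    have hzc : ∀ m ∈ N, ((z : N) : G) * m = m * ((z : N) : G) := by
      intro m hm
      have := Subgroup.mem_center_iff.mp z.2 ⟨m, hm⟩
      have h' := congrArg Subtype.val this
      simpa using h'.symm
    have hcomm : ∀ a ∈ N, ∀ b ∈ N, a * b = b * a := by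
      intro a ha b hb
      by_cases h1 : a = 1
      · rw [h1, one_mul, mul_one]
      · obtain ⟨g, hg⟩ := hconj _ hzN a ha hz1' h1
        have hb' : g⁻¹ * b * g ∈ N := by
          have := hNn.conj_mem b hb g⁻¹
          simpa using this
        have hc := hzc _ hb'
        rw [← hg]
        calc g * ((z : N) : G) * g⁻¹ * b = g * (((z : N) : G) * (g⁻¹ * b * g)) * g⁻¹ := by group
          _ = g * ((g⁻¹ * b * g) * ((z : N) : G)) * g⁻¹ := by rw [hc]
          _ = b * (g * ((z : N) : G) * g⁻¹) := by group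
    exact ⟨⟨fun a b => Subtype.ext (hcomm a a.2 b b.2)⟩⟩

end Cfsg.Agent.S0054
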