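import Cfsg.Statements.S0056
import Cfsg.Agent.S0055
import Mathlib

set_option autoImplicit false
open Cfsg
open scoped commutatorElement

namespace Cfsg.Agent.S0056

/-- A coprime action on an abelian group that is trivial on elements of prime order is trivial. -/
theorem result {G : Type*} [Group G] [Finite G] (A V : Subgroup G) [IsMulCommutative V]
    (hAV : A ≤ Subgroup.normalizer (V : Set G)) (hcop : (Nat.card A).Coprime (Nat.card V))
    (hΩ : ∀ v ∈ V, (orderOf v).Prime → ∀ a ∈ A, a * v = v * a) : A ≤ Subgroup.centralizer (V : Set G) := by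
  obtain ⟨hinf, -⟩ := Cfsg.Agent.S0055.result A V hAV hcop
  have hWV : ⁅V, A⁆ ≤ V := Cfsg.Agent.S0055.comm_le A V hAV
  have hbot : ⁅V, A⁆ = ⊥ := by
    by_contra hne
    have hnt : Nontrivial (⁅V, A⁆ : Subgroup G) := (Subgroup.nontrivial_iff_ne_bot _).mpr hne
    have hcard : Nat.card (⁅V, A⁆ : Subgroup G) ≠ 1 := by
      intro h
      have := (Nat.card_eq_one_iff_unique.mp h).1
      exact not_subsingleton _ this
    haveI : Fact (Nat.card (⁅V, A⁆ : Subgroup G)).minFac.Prime := ⟨Nat.minFac_prime hcard⟩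
    obtain ⟨w, hw⟩ := exists_prime_orderOf_dvd_card' (G := (⁅V, A⁆ : Subgroup G))
      (Nat.card (⁅V, A⁆ : Subgroup G)).minFac (Nat.minFac_dvd _)
    have hw' : orderOf (w : G) = (Nat.card (⁅V, A⁆ : Subgroup G)).minFac := by
      rw [Subgroup.orderOf_coe]; exact hw
    have hprime : (orderOf (w : G)).Prime := by rw [hw']; exact Nat.minFac_prime hcard
    have hwV : (w : G) ∈ V := hWV w.2
    have hcomm := hΩ (w : G) hwV hprime
    have hmem : (w : G) ∈ (V ⊓ Subgroup.centralizer (A : Set G)) ⊓ ⁅V, A⁆ := by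
      refine ⟨⟨hwV, ?_⟩, w.2⟩
      show (w : G) ∈ Subgroup.centralizer (A : Set G)
      rw [Subgroup.mem_centralizer_iff]
      intro a ha
      exact hcomm a ha
    rw [hinf, Subgroup.mem_bot] at hmem
    rw [hmem, orderOf_one] at hprime
    exact Nat.not_prime_one hprime
  rw [Subgroup.commutator_comm, Subgroup.commutator_eq_bot_iff_le_centralizer] at hbot
  exact hbot

end Cfsg.Agent.S0056
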