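import Cfsg.Statements.S0057
import Mathlib
import Cfsg.Agent.S0007
import Cfsg.Agent.S0055
import Cfsg.Agent.Lib.Helper13.CoprimeSylow

set_option autoImplicit false
open Cfsg

namespace Cfsg.Agent.S0057

open Cfsg.Agent.Lib.Helper13
open scoped Pointwise
open scoped commutatorElement

/-- Under coprime action, if the centraliser of A in K has prime index p in K then the commutator subgroup [K, A] has order exactly p. -/
theorem result {G : Type*} [Group G] [Finite G] (A K : Subgroup G) (hAK : A ≤ Subgroup.normalizer (K : Set G))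
    (hcop : (Nat.card A).Coprime (Nat.card K)) (hsolv : Group.IsSolvable A ∨ Group.IsSolvable K)
    (p : ℕ) (hp : p.Prime) (hidx : (K ⊓ Subgroup.centralizer (A : Set G)).relIndex K = p) :
    Nat.card (⁅K, A⁆ : Subgroup G) = p := by
  have hpF : Fact p.Prime := ⟨hp⟩
  obtain ⟨C, hC⟩ : ∃ C : Subgroup G, C = K ⊓ Subgroup.centralizer (A : Set G) := ⟨_, rfl⟩
  obtain ⟨W, hW⟩ : ∃ W : Subgroup G, W = ⁅K, A⁆ := ⟨_, rfl⟩
  rw [← hC] at hidx
  rw [← hW]
  have hCK : C ≤ K := hC ▸ inf_le_left
  have hCA : C ≤ Subgroup.centralizer (A : Set G) := hC ▸ inf_le_right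
  have hWK : W ≤ K := hW ▸ commutator_le_of_le_normalizer K A hAK
  have hWC : W ⊔ C = K := by rw [hW, hC]; exact coprime_commutator_sup_centralizer A K hAK hcop hsolv
  have hWW : ⁅W, A⁆ = W := by rw [hW]; exact coprime_commutator_stable A K hAK hcop hsolv
  have hAW : A ≤ Subgroup.normalizer (W : Set G) := by
    rw [hW]; exact le_sup_right.trans (le_normalizer_commutator K A)
  -- invariant Sylow
  obtain ⟨P', hP'⟩ := exists_invariant_sylow A K hAK hcop hsolv p
  obtain ⟨P, hP⟩ : ∃ P : Subgroup G, P = (P' : Subgroup K).map K.subtype := ⟨_, rfl⟩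
  rw [← hP] at hP'
  have hPK : P ≤ K := hP ▸ Subgroup.map_subtype_le _
  have hPp : IsPGroup p P := hP ▸ P'.isPGroup'.map _
  -- K = P C
  have hcopidx : (P' : Subgroup K).index.Coprime (C.subgroupOf K).index := by
    have h1 : (C.subgroupOf K).index = p := hidx
    rw [h1]
    exact ((Nat.Prime.coprime_iff_not_dvd hp).mpr P'.not_dvd_index).symm
  have hfact : ∀ k ∈ K, ∃ x ∈ P, ∃ c ∈ C, k = x * c := by
    intro k hk
    obtain ⟨x, hx, y, hy, hxy⟩ := (Cfsg.Agent.S0007.result _ _ hcopidx).2 ⟨k, hk⟩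
    refine ⟨x, hP ▸ ⟨x, hx, rfl⟩, y, Subgroup.mem_subgroupOf.mp hy, ?_⟩
    exact congrArg Subtype.val hxy
  -- W ≤ P
  have hPA : ⁅P, A⁆ ≤ P := commutator_le_of_le_normalizer P A hP'
  have hWP : W ≤ P := by
    rw [hW, Subgroup.commutator_le]
    intro k hk a ha
    obtain ⟨x, hx, c, hc, rfl⟩ := hfact k hk
    have hca : a * c = c * a := Subgroup.mem_centralizer_iff.mp (hCA hc) a ha
    have : ⁅x * c, a⁆ = ⁅x, a⁆ := by
      simp only [commutatorElement_def]
      calc x * c * a * (x * c)⁻¹ * a⁻¹ = x * (c * a) * c⁻¹ * x⁻¹ * a⁻¹ := by group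
        _ = x * (a * c) * c⁻¹ * x⁻¹ * a⁻¹ := by rw [hca]
        _ = x * a * x⁻¹ * a⁻¹ := by group
    rw [this]
    exact hPA (Subgroup.commutator_mem_commutator hx ha)
  have hWp : IsPGroup p W := hPp.to_le hWP
  -- W ≠ ⊥
  have hWne : W ≠ ⊥ := by
    intro h
    rw [h, bot_sup_eq] at hWC
    rw [hWC, Subgroup.relIndex_self] at hidx
    exact hp.one_lt.ne hidx
  -- index of C_W in W
  obtain ⟨CW, hCW⟩ : ∃ CW : Subgroup G, CW = W ⊓ Subgroup.centralizer (A : Set G) := ⟨_, rfl⟩
  have hCWW : CW ≤ W := hCW ▸ inf_le_left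
  have hCWA : CW ≤ Subgroup.centralizer (A : Set G) := hCW ▸ inf_le_right
  obtain ⟨m, hm⟩ := IsPGroup.iff_card.mp hWp
  have hm0 : m ≠ 0 := by
    intro h
    rw [h, pow_zero, Subgroup.card_eq_one] at hm
    exact hWne hm
  have hrelp : (Subgroup.centralizer (A : Set G)).relIndex K = p := by
    rw [← hidx, hC, Subgroup.inf_relIndex_left]
  have hCWidx : CW.relIndex W = p := by
    have h1 : CW.relIndex W = (Subgroup.centralizer (A : Set G)).relIndex W := by
      rw [hCW, Subgroup.inf_relIndex_left]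
    have h2 : (Subgroup.centralizer (A : Set G)).relIndex W ≤ p := by
      rw [← hrelp]
      exact Subgroup.relIndex_le_of_le_right hWK (by rw [hrelp]; exact hp.ne_zero)
    have h3 : CW.relIndex W ∣ p ^ m := hm ▸ Subgroup.relIndex_dvd_card CW W
    obtain ⟨j, _, hj⟩ := (Nat.dvd_prime_pow hp).mp h3
    have hj0 : j ≠ 0 := by
      intro h
      rw [h, pow_zero, Subgroup.relIndex_eq_one] at hj
      have : ⁅W, A⁆ = ⊥ :=
        Subgroup.commutator_eq_bot_iff_le_centralizer.mpr (hj.trans hCWA)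
      rw [hWW] at this
      exact hWne this
    have hj1 : j = 1 := by
      by_contra hne
      have hj2 : 2 ≤ j := by omega
      have : p ^ 2 ≤ p ^ j := Nat.pow_le_pow_right hp.pos hj2
      have h4 : p ^ j ≤ p := by rw [← hj, h1]; exact h2
      have : p * p ≤ p := by nlinarith [this, h4]
      nlinarith [hp.one_lt]
    rw [hj, hj1, pow_one]
  -- C_W is normal in W
  have hCWn : (CW.subgroupOf W).Normal := by
    apply Subgroup.normal_of_index_eq_minFac_card
    show CW.relIndex W = _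
    rw [hCWidx, hm, Nat.pow_minFac hm0, hp.minFac_eq]
  have hWnCW : W ≤ Subgroup.normalizer (CW : Set G) :=
    (Subgroup.normal_subgroupOf_iff_le_normalizer hCWW).mp hCWn
  -- three subgroups
  have h1 : ⁅⁅CW, A⁆, W⁆ = ⊥ := by
    rw [Subgroup.commutator_eq_bot_iff_le_centralizer.mpr hCWA, Subgroup.commutator_bot_left]
  have h2 : ⁅⁅W, CW⁆, A⁆ = ⊥ := by
    rw [Subgroup.commutator_eq_bot_iff_le_centralizer]
    exact (Subgroup.le_normalizer_iff_commutator_le_right.mp hWnCW).trans hCWA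
  have h3 : ⁅⁅A, W⁆, CW⁆ = ⊥ := Subgroup.commutator_commutator_eq_bot_of_rotate h2 h1
  rw [Subgroup.commutator_comm A W, hWW] at h3
  have hWcent : W ≤ Subgroup.centralizer (CW : Set G) :=
    Subgroup.commutator_eq_bot_iff_le_centralizer.mp h3
  -- W is abelian
  have hquot_card : Nat.card (W ⧸ CW.subgroupOf W) = p := by
    rw [← Subgroup.index_eq_card]; exact hCWidx
  have hcyc : IsCyclic (W ⧸ CW.subgroupOf W) := isCyclic_of_prime_card hquot_card
  have hker : (QuotientGroup.mk' (CW.subgroupOf W)).ker ≤ Subgroup.center W := by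
    rw [QuotientGroup.ker_mk']
    intro x hx
    rw [Subgroup.mem_center_iff]
    intro w
    have hxCW : (x : G) ∈ CW := Subgroup.mem_subgroupOf.mp hx
    have := Subgroup.mem_centralizer_iff.mp (hWcent w.2) (x : G) hxCW
    exact Subtype.ext this.symm
  have hWcomm : IsMulCommutative W :=
    MonoidHom.isMulCommutative_of_isCyclic_of_ker_le_center (QuotientGroup.mk' (CW.subgroupOf W)) hker
  -- apply the abelian decomposition
  have hcopW : (Nat.card A).Coprime (Nat.card W) :=
    Nat.Coprime.of_dvd_right (Subgroup.card_dvd_of_le hWK) hcop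
  have h55 := (Cfsg.Agent.S0055.result A W hAW hcopW).1
  rw [hWW, ← hCW, inf_eq_left.mpr hCWW] at h55
  rw [h55, Subgroup.relIndex_bot_left] at hCWidx
  exact hCWidx

end Cfsg.Agent.S0057
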