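import Cfsg.Statements.S0059
import Cfsg.Agent.Lib.Helper13.Coprime
import Mathlib

set_option autoImplicit false
open Cfsg
open scoped Pointwise
open Cfsg.Agent.Lib.Helper13

namespace Cfsg.Agent.S0059

universe u v

/-- Glauberman's lemma. -/
theorem result {G : Type*} [Group G] [Finite G] {X : Type*} [Nonempty X] [MulAction G X]
    (K H : Subgroup G) [K.Normal] (hc : Subgroup.IsComplement' K H) (hcop : (Nat.card K).Coprime K.index)
    (hsolv : Group.IsSolvable K ∨ Group.IsSolvable (G ⧸ K)) (htrans : MulAction.IsPretransitive K X) :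
    (∃ x : X, ∀ h ∈ H, h • x = x) ∧
    ∀ x y : X, (∀ h ∈ H, h • x = x) → (∀ h ∈ H, h • y = y) → ∃ k ∈ K ⊓ Subgroup.centralizer (H : Set G), k • x = y := by
  classical
  have hKn : K.Normal := inferInstance
  have hidx : K.index = Nat.card H := hc.symm.index_eq_card
  have hcop' : (Nat.card K).Coprime (Nat.card H) := by rw [← hidx]; exact hcop
  have hKH : K ⊓ H = ⊥ := hc.disjoint.eq_bot
  have hHK : H ≤ Subgroup.normalizer (K : Set G) := by
    rw [Subgroup.normalizer_eq_top_iff.mpr hKn]; exact le_top
  -- solvability of K or H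
  have hsolv' : Group.IsSolvable K ∨ Group.IsSolvable H := by
    rcases hsolv with h | h
    · exact Or.inl h
    · right
      let f : H →* G ⧸ K := (QuotientGroup.mk' K).comp H.subtype
      have hf : Function.Injective f := by
        rw [injective_iff_map_eq_one]
        intro a ha
        have h1 : (a : G) ∈ K := (QuotientGroup.eq_one_iff (a : G)).mp ha
        have h2 : (a : G) ∈ K ⊓ H := ⟨h1, a.2⟩
        rw [hKH, Subgroup.mem_bot] at h2
        exact Subtype.ext h2
      exact Group.isSolvable_of_isSolvable_injective hf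
  -- transitivity of K in terms of G-elements
  have htr : ∀ x y : X, ∃ k ∈ K, k • x = y := by
    intro x y
    obtain ⟨k, hk⟩ := htrans.exists_smul_eq x y
    exact ⟨(k : G), k.2, hk⟩
  constructor
  · obtain ⟨x₀⟩ := ‹Nonempty X›
    set Gx := MulAction.stabilizer G x₀ with hGx
    have hsup : Gx ⊔ K = ⊤ := by
      rw [eq_top_iff]
      intro g _
      obtain ⟨k, hk, hkx⟩ := htr x₀ (g • x₀)
      have h1 : k⁻¹ * g ∈ Gx := by
        rw [hGx, MulAction.mem_stabilizer_iff, mul_smul, ← hkx, inv_smul_smul]
      have : g = (k⁻¹ * g) * ((k⁻¹ * g)⁻¹ * k * (k⁻¹ * g)) := by group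
      rw [this]
      apply Subgroup.mul_mem_sup h1
      have := hKn.conj_mem k hk (k⁻¹ * g)⁻¹
      simpa [mul_assoc] using this
    have hrel : K.relIndex Gx = K.index := by
      rw [← Subgroup.relIndex_sup_right (H := Gx) (K := K), hsup, Subgroup.relIndex_top_right]
    haveI hN : (K.subgroupOf Gx).Normal := inferInstance
    have hcopx : (Nat.card (K.subgroupOf Gx)).Coprime (K.subgroupOf Gx).index := by
      have h1 : (K.subgroupOf Gx).index = K.index := hrel
      rw [h1]
      have h2 : Nat.card (K.subgroupOf Gx) ∣ Nat.card K := by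
        have : Nat.card (K.subgroupOf Gx) = Nat.card (K ⊓ Gx : Subgroup G) := by
          rw [← Subgroup.inf_subgroupOf_right]
          exact card_subgroupOf_of_le inf_le_right
        rw [this]
        exact Subgroup.card_dvd_of_le inf_le_left
      exact Nat.Coprime.coprime_dvd_left h2 hcop
    obtain ⟨B₀, hB₀⟩ := Subgroup.exists_right_complement'_of_coprime hcopx
    set B : Subgroup G := B₀.map Gx.subtype with hB
    have hBGx : B ≤ Gx := Subgroup.map_subtype_le _
    have hBcard : Nat.card B = Nat.card H := by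
      rw [hB, Subgroup.card_map_of_injective Gx.subtype_injective, ← hB₀.symm.index_eq_card, ← hidx]
      exact hrel
    obtain ⟨n, hn, hnB⟩ := rel_sz_conj K H B hHK (by rw [hc.sup_eq_top]; exact le_top) hBcard
      hcop' hsolv'
    refine ⟨n⁻¹ • x₀, ?_⟩
    intro h hh
    have h1 : n * h * n⁻¹ ∈ B := by
      rw [← hnB, mem_cj]
      have : n⁻¹ * (n * h * n⁻¹) * n = h := by group
      rw [this]; exact hh
    have h2 : (n * h * n⁻¹) • x₀ = x₀ := hBGx h1
    rw [smul_smul]
    have h3 : h * n⁻¹ = n⁻¹ * (n * h * n⁻¹) := by group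
    rw [h3, mul_smul, h2]
  · intro x y hx hy
    obtain ⟨k, hk, hkx⟩ := htr x y
    set Gx := MulAction.stabilizer G x with hGx
    set Kx : Subgroup G := K ⊓ Gx with hKx
    have hHGx : H ≤ Gx := fun h hh => hx h hh
    have hHKx : H ≤ Subgroup.normalizer (Kx : Set G) := by
      intro h hh
      rw [Subgroup.mem_normalizer_iff]
      intro g
      constructor
      · rintro ⟨hgK, hgG⟩
        exact ⟨hKn.conj_mem g hgK h, Gx.mul_mem (Gx.mul_mem (hHGx hh) hgG) (Gx.inv_mem (hHGx hh))⟩
      · rintro ⟨hgK, hgG⟩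
        constructor
        · have := hKn.conj_mem _ hgK h⁻¹
          simpa [mul_assoc] using this
        · have := Gx.mul_mem (Gx.mul_mem (Gx.inv_mem (hHGx hh)) hgG) (hHGx hh)
          simpa [mul_assoc] using this
    have hBle : MulAut.conj k⁻¹ • H ≤ Kx ⊔ H := by
      intro g hg
      rw [mem_cj, inv_inv] at hg
      -- g fixes x
      have hgx : g ∈ Gx := by
        rw [hGx, MulAction.mem_stabilizer_iff]
        have h1 := hy _ hg
        rw [← hkx, smul_smul] at h1
        have h2 : g • x = k⁻¹ • ((k * g * k⁻¹ * k) • x) := by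
          rw [smul_smul]; congr 1; group
        rw [h2, h1, inv_smul_smul]
      -- decompose g = k' * h
      have hgtop : g ∈ K ⊔ H := by rw [hc.sup_eq_top]; trivial
      rw [Subgroup.mem_sup_of_normal_left] at hgtop
      obtain ⟨k', hk', h, hh, rfl⟩ := hgtop
      apply Subgroup.mul_mem_sup _ hh
      refine ⟨hk', ?_⟩
      have : k' = (k' * h) * h⁻¹ := by group
      rw [this]
      exact Gx.mul_mem hgx (Gx.inv_mem (hHGx hh))
    have hcopx : (Nat.card Kx).Coprime (Nat.card H) :=
      Nat.Coprime.coprime_dvd_left (Subgroup.card_dvd_of_le inf_le_left) hcop'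
    have hsolvx : Group.IsSolvable Kx ∨ Group.IsSolvable H := by
      rcases hsolv' with h | h
      · exact Or.inl (isSolvable_of_le inf_le_left h)
      · exact Or.inr h
    obtain ⟨n, hn, hnB⟩ := rel_sz_conj Kx H (MulAut.conj k⁻¹ • H) hHKx hBle (card_cj _ _)
      hcopx hsolvx
    have hknN : k * n ∈ Subgroup.normalizer (H : Set G) := by
      rw [← cj_eq_self_iff_mem_normalizer, cj_mul, hnB, ← cj_mul, mul_inv_cancel, cj_one]
    have hknK : k * n ∈ K := K.mul_mem hk hn.1
    refine ⟨k * n, ⟨hknK, mem_centralizer_of_mem_normalizer H K hHK hKH _ hknK hknN⟩, ?_⟩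
    have hnx : n • x = x := hn.2
    rw [mul_smul, hnx, hkx]

end Cfsg.Agent.S0059
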