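import Cfsg.Statements.S0060
import Cfsg.Agent.Lib.Helper16.PCore
import Mathlib

set_option autoImplicit false
open Cfsg
open scoped Pointwise

namespace Cfsg.Agent.S0060

variable {G : Type*} [Group G]

theorem mem_conj_smul (H : Subgroup G) (g x : G) :
    x ∈ MulAut.conj g • H ↔ g⁻¹ * x * g ∈ H := by
  rw [Subgroup.mem_pointwise_smul_iff_inv_smul_mem]
  simp only [MulAut.smul_def, MulAut.inv_apply, MulAut.conj_symm_apply]

theorem mem_sylow_smul {p : ℕ} (P : Sylow p G) (g x : G) :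
    x ∈ ((g • P : Sylow p G) : Subgroup G) ↔ g⁻¹ * x * g ∈ (P : Subgroup G) := by
  rw [Sylow.coe_subgroup_smul]; exact mem_conj_smul _ g x

/-- A `p`-subgroup `A` of `N ≥ S` is conjugate into the Sylow subgroup `S` by an element of `N`. -/
theorem exists_conj_le [Finite G] {p : ℕ} [Fact p.Prime] (S : Sylow p G) (N A : Subgroup G)
    (hSN : (S : Subgroup G) ≤ N) (hAN : A ≤ N) (hA : IsPGroup p A) :
    ∃ n ∈ N, ∀ x ∈ A, n⁻¹ * x * n ∈ (S : Subgroup G) := by
  have hA' : IsPGroup p (A.subgroupOf N) := by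
    have := hA.comap_subtype (K := N)
    rwa [Subgroup.comap_subtype] at this
  obtain ⟨Q, hQ⟩ := hA'.exists_le_sylow
  obtain ⟨n, hn⟩ := MulAction.exists_smul_eq N (S.subtype hSN) Q
  refine ⟨n, n.2, ?_⟩
  intro x hx
  have h1 : (⟨x, hAN hx⟩ : N) ∈ (Q : Subgroup N) := hQ (Subgroup.mem_subgroupOf.mpr hx)
  rw [← hn, Sylow.smul_subtype hSN n] at h1
  have h2 : x ∈ (((n : G) • S : Sylow p G) : Subgroup G) := Subgroup.mem_subgroupOf.mp h1
  exact (mem_sylow_smul S n x).mp h2

/-- Brodkey: an abelian Sylow `p`-subgroup of a group with trivial `p`-core meets some conjugate trivially. -/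
theorem result {G : Type*} [Group G] [Finite G] (p : ℕ) [Fact p.Prime]
    (S : Sylow p G) (hS : IsMulCommutative S) (hOp : Cfsg.pCore p G = ⊥) :
    ∃ g : G, (S : Subgroup G) ⊓ MulAut.conj g • (S : Subgroup G) = ⊥ := by
  classical
  obtain ⟨g₀, hmin⟩ := Finite.exists_min
    (fun g : G => Nat.card ((S : Subgroup G) ⊓ MulAut.conj g • (S : Subgroup G) : Subgroup G))
  refine ⟨g₀, ?_⟩
  set T : Sylow p G := g₀ • S with hT
  have hTcoe : (T : Subgroup G) = MulAut.conj g₀ • (S : Subgroup G) := rfl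
  rw [← hTcoe]
  set D : Subgroup G := (S : Subgroup G) ⊓ (T : Subgroup G) with hD
  have hScomm : ∀ a ∈ (S : Subgroup G), ∀ b ∈ (S : Subgroup G), a * b = b * a :=
    fun a ha b hb => congrArg Subtype.val (hS.is_comm.comm (⟨a, ha⟩ : S) ⟨b, hb⟩)
  have hTcomm : ∀ a ∈ (T : Subgroup G), ∀ b ∈ (T : Subgroup G), a * b = b * a := by
    intro a ha b hb
    rw [mem_sylow_smul] at ha hb
    have := hScomm _ ha _ hb
    have h1 : a * b = g₀ * ((g₀⁻¹ * a * g₀) * (g₀⁻¹ * b * g₀)) * g₀⁻¹ := by group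
    rw [h1, this]; group
  set N := Subgroup.normalizer (D : Set G) with hN
  have hSN : (S : Subgroup G) ≤ N := by
    refine le_trans ?_ (Subgroup.centralizer_le_normalizer _)
    intro s hs
    rw [Subgroup.mem_centralizer_iff]
    intro d hd
    exact hScomm d hd.1 s hs
  have hTN : (T : Subgroup G) ≤ N := by
    refine le_trans ?_ (Subgroup.centralizer_le_normalizer _)
    intro s hs
    rw [Subgroup.mem_centralizer_iff]
    intro d hd
    exact hTcomm d hd.2 s hs
  have hall : ∀ R : Sylow p G, D ≤ (R : Subgroup G) := by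
    intro R
    obtain ⟨n, hnN, hn⟩ := exists_conj_le S N ((R : Subgroup G) ⊓ N) hSN inf_le_right
      (R.2.to_le inf_le_left)
    set R' : Sylow p G := n⁻¹ • R with hR'
    have hR'T : (R' : Subgroup G) ⊓ (T : Subgroup G) ≤ D := by
      rintro x ⟨hxR'0, hxT⟩
      have hxR' : x ∈ ((n⁻¹ • R : Sylow p G) : Subgroup G) := hxR'0
      rw [mem_sylow_smul, inv_inv] at hxR'
      have hxN : x ∈ N := hTN hxT
      have h1 : n * x * n⁻¹ ∈ (R : Subgroup G) ⊓ N :=
        ⟨hxR', N.mul_mem (N.mul_mem hnN hxN) (N.inv_mem hnN)⟩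
      have h2 := hn _ h1
      have e : n⁻¹ * (n * x * n⁻¹) * n = x := by group
      rw [e] at h2
      exact ⟨h2, hxT⟩
    have hcard : Nat.card D ≤ Nat.card ((R' : Subgroup G) ⊓ (T : Subgroup G) : Subgroup G) := by
      obtain ⟨h, hh⟩ := MulAction.exists_smul_eq G S R'
      have e1 : (R' : Subgroup G) ⊓ (T : Subgroup G) =
          MulAut.conj h • ((S : Subgroup G) ⊓ MulAut.conj (h⁻¹ * g₀) • (S : Subgroup G)) := by
        rw [Subgroup.smul_inf, smul_smul, ← map_mul, mul_inv_cancel_left, ← hh]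
        rfl
      rw [e1]
      have e2 := Nat.card_congr (Subgroup.equivSMul (MulAut.conj h)
        ((S : Subgroup G) ⊓ MulAut.conj (h⁻¹ * g₀) • (S : Subgroup G))).toEquiv
      rw [← e2]
      exact hmin (h⁻¹ * g₀)
    have heq : (R' : Subgroup G) ⊓ (T : Subgroup G) = D :=
      Subgroup.eq_of_le_of_card_ge hR'T hcard
    intro d hd
    have hd' : n⁻¹ * d * n ∈ D := by
      have := (Subgroup.mem_normalizer_iff.mp (N.inv_mem hnN) d).mp hd
      simpa using this
    rw [← heq] at hd'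
    have : n⁻¹ * d * n ∈ ((n⁻¹ • R : Sylow p G) : Subgroup G) := hd'.1
    rw [mem_sylow_smul, inv_inv] at this
    have e : n * (n⁻¹ * d * n) * n⁻¹ = d := by group
    rwa [e] at this
  let K : Subgroup G := ⨅ R : Sylow p G, (R : Subgroup G)
  have hKn : K.Normal := by
    constructor
    intro x hx g
    rw [Subgroup.mem_iInf] at hx ⊢
    intro R
    have := hx (g⁻¹ • R)
    rw [mem_sylow_smul, inv_inv] at this
    exact this
  have hKp : IsPGroup p K := S.2.to_le (iInf_le _ S)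
  have hK : K ≤ ⊥ := by
    rw [← hOp]; exact Cfsg.Agent.Lib.Helper16.le_pCore hKn hKp
  rw [eq_bot_iff]
  exact le_trans (le_iInf hall) hK

end Cfsg.Agent.S0060
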