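import Cfsg.Statements.S0063
import Mathlib

set_option autoImplicit false
open Cfsg

namespace Cfsg.Agent.S0063

universe u

theorem class_le_one_of_comm {G : Type u} [Group G] (h : IsMulCommutative G) :
    Group.nilpotencyClass G ≤ 1 := by
  have htop : Subgroup.upperCentralSeries G 1 = ⊤ := by
    rw [Subgroup.upperCentralSeries_one]
    ext x
    simp only [Subgroup.mem_center_iff, Subgroup.mem_top, iff_true]
    intro g
    exact h.is_comm.comm g x
  haveI : Group.IsNilpotent G := ⟨⟨1, htop⟩⟩
  exact Subgroup.upperCentralSeries_eq_top_iff_nilpotencyClass_le.mp htop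

theorem main (p : ℕ) [Fact p.Prime] : ∀ k : ℕ, ∀ (G : Type u) [Group G] [Finite G],
    Nat.card G = p ^ k → Group.nilpotencyClass G ≤ max (k - 1) 1 := by
  intro k
  induction k using Nat.strong_induction_on with
  | _ k ih =>
    intro G _ _ hG
    have hp : p.Prime := Fact.out
    by_cases hk : k ≤ 1
    · have hcyc : IsCyclic G := by
        apply isCyclic_of_card_dvd_prime (p := p)
        rw [hG]
        interval_cases k
        · simp
        · simp
      have hc : IsMulCommutative G := by
        haveI := hcyc
        infer_instance
      exact (class_le_one_of_comm hc).trans (le_max_right _ _)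
    · push Not at hk
      have hpG : IsPGroup p G := IsPGroup.of_card hG
      obtain ⟨j, hj0, hj⟩ := IsPGroup.card_center_eq_prime_pow hG (by omega)
      have hjk : j ≤ k := by
        have hdvd : Nat.card (Subgroup.center G) ∣ Nat.card G := Subgroup.card_subgroup_dvd_card _
        rw [hj, hG] at hdvd
        exact (Nat.pow_dvd_pow_iff_le_right hp.one_lt).mp hdvd
      have hquot : Nat.card (G ⧸ Subgroup.center G) = p ^ (k - j) := by
        have h1 := (Subgroup.center G).card_mul_index
        rw [hj, hG] at h1
        have h2 : p ^ k = p ^ j * p ^ (k - j) := by
          rw [← pow_add]; congr 1; omega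
        rw [h2] at h1
        have h3 : 0 < p ^ j := pow_pos hp.pos _
        exact Nat.eq_of_mul_eq_mul_left h3 h1
      have hih := ih (k - j) (by omega) (G ⧸ Subgroup.center G) hquot
      have hq := Group.nilpotencyClass_quotient_center (G := G)
      by_cases hkj : k - j ≤ 1
      · have hcyc : IsCyclic (G ⧸ Subgroup.center G) := by
          apply isCyclic_of_card_dvd_prime (p := p)
          rw [hquot]
          have : k - j = 0 ∨ k - j = 1 := by omega
          rcases this with h | h <;> rw [h] <;> simp
        have hc : IsMulCommutative G := by
          haveI := hcyc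
          exact isMulCommutative_of_isCyclic_quotient_center_self G
        exact (class_le_one_of_comm hc).trans (le_max_right _ _)
      · push Not at hkj
        rw [hq] at hih
        have h4 : max (k - j - 1) 1 = k - j - 1 := max_eq_left (by omega)
        rw [h4] at hih
        have h5 : Group.nilpotencyClass G ≤ k - 1 := by omega
        exact h5.trans (le_max_left _ _)

/-- A finite group of prime-power order p ^ m with m > 1 is nilpotent of class at most m - 1. -/
theorem result {G : Type*} [Group G] [Finite G] (p m : ℕ) [Fact p.Prime]
    (hG : Nat.card G = p ^ m) (hm : 1 < m) : Group.nilpotencyClass G ≤ m - 1 := by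
  have h := main p m G hG
  have h1 : max (m - 1) 1 = m - 1 := max_eq_left (by omega)
  rwa [h1] at h

end Cfsg.Agent.S0063
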