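import Cfsg.Statements.S0064
import Mathlib

set_option autoImplicit false
open Cfsg

namespace Cfsg.Agent.S0064

theorem subnormal_of_normalizerCondition {G : Type*} [Group G] [Finite G]
    (hnc : NormalizerCondition G) (H : Subgroup G) : H.IsSubnormal := by
  induction H using WellFoundedGT.induction with
  | ind H ih =>
    by_cases hH : H = ⊤
    · rw [hH]; exact Subgroup.IsSubnormal.top
    · have hlt : H < Subgroup.normalizer (H : Set G) := hnc H (lt_top_iff_ne_top.mpr hH)
      have hsn := ih _ hlt
      refine Subgroup.IsSubnormal.step H _ hlt.le hsn ?_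
      exact (Subgroup.normal_subgroupOf_iff_le_normalizer hlt.le).mpr le_rfl

/-- A finite group is nilpotent iff every subgroup is subnormal. -/
theorem result {G : Type*} [Group G] [Finite G] :
    Group.IsNilpotent G ↔ ∀ H : Subgroup G, H.IsSubnormal := by
  constructor
  · intro hG
    have hnc : NormalizerCondition G := (Group.isNilpotent_of_finite_tfae.out 0 1).mp hG
    exact subnormal_of_normalizerCondition hnc
  · intro h
    apply (Group.isNilpotent_of_finite_tfae (G := G)).out 0 2 |>.mpr
    intro M hM
    obtain ⟨K, hKn, hMK, hK⟩ := (h M).exists_normal_and_le_and_lt_top_of_ne hM.1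
    rcases eq_or_lt_of_le hMK with h1 | h1
    · rw [h1]; exact hKn
    · exact absurd (hM.2 K h1) hK.ne

end Cfsg.Agent.S0064
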