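import Cfsg.Statements.S0070
import Cfsg.Agent.Lib.Helper2.Cores
import Mathlib

set_option autoImplicit false
open Cfsg

namespace Cfsg.Agent.S0070

variable {G : Type*} [Group G]

theorem isNilpotent_map {G' : Type*} [Group G'] (f : G →* G') (N : Subgroup G)
    (h : Group.IsNilpotent N) : Group.IsNilpotent (N.map f) :=
  nilpotent_of_surjective (f.subgroupMap N) (f.subgroupMap_surjective N)

/-- Gaschütz: if `H ≥ Φ(G)` is normal and `H/Φ(G)` is nilpotent then `H` is nilpotent. -/
theorem nilpotent_of_quotient_frattini [Finite G] (H : Subgroup G) [hH : H.Normal]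
    (hΦ : frattini G ≤ H)
    (hnil : Group.IsNilpotent (H.map (QuotientGroup.mk' (frattini G)))) :
    Group.IsNilpotent H := by
  classical
  have hπsurj : Function.Surjective (QuotientGroup.mk' (frattini G)) :=
    QuotientGroup.mk'_surjective _
  haveI hHbarN : (H.map (QuotientGroup.mk' (frattini G))).Normal := hH.map _ hπsurj
  apply ((Group.isNilpotent_of_finite_tfae (G := H)).out 0 3 rfl rfl).mpr
  intro p hp P
  haveI := hp
  set P' : Subgroup G := (P : Subgroup H).map H.subtype with hP'
  have hP'H : P' ≤ H := by rw [hP']; exact Subgroup.map_subtype_le _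
  have hP'p : IsPGroup p P' := P.2.map H.subtype
  have hπH : Function.Surjective ((QuotientGroup.mk' (frattini G)).subgroupMap H) :=
    (QuotientGroup.mk' (frattini G)).subgroupMap_surjective H
  let Pbar : Sylow p (H.map (QuotientGroup.mk' (frattini G))) := P.mapSurjective hπH
  have hPbarN : (Pbar : Subgroup (H.map (QuotientGroup.mk' (frattini G)))).Normal := by
    haveI := hnil
    infer_instance
  haveI hPbarC : (Pbar : Subgroup (H.map (QuotientGroup.mk' (frattini G)))).Characteristic :=
    Pbar.characteristic_of_normal hPbarN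
  have hnormQ : ((Pbar : Subgroup (H.map (QuotientGroup.mk' (frattini G)))).map
      (H.map (QuotientGroup.mk' (frattini G))).subtype).Normal := inferInstance
  have himg : (Pbar : Subgroup (H.map (QuotientGroup.mk' (frattini G)))).map
      (H.map (QuotientGroup.mk' (frattini G))).subtype = P'.map (QuotientGroup.mk' (frattini G)) := by
    show ((P : Subgroup H).map ((QuotientGroup.mk' (frattini G)).subgroupMap H)).map
      (H.map (QuotientGroup.mk' (frattini G))).subtype =
      ((P : Subgroup H).map H.subtype).map (QuotientGroup.mk' (frattini G))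
    rw [Subgroup.map_map, Subgroup.map_map]
    rfl
  set M : Subgroup G := P' ⊔ frattini G with hM
  have hMeq : M = (P'.map (QuotientGroup.mk' (frattini G))).comap (QuotientGroup.mk' (frattini G)) := by
    rw [Subgroup.comap_map_eq, QuotientGroup.ker_mk']
  haveI hMN : M.Normal := by
    rw [hMeq, ← himg]; exact hnormQ.comap _
  have hMH : M ≤ H := sup_le hP'H hΦ
  have hPM : IsPGroup p (P'.subgroupOf M) := by
    have := hP'p.comap_subtype (K := M)
    rwa [Subgroup.comap_subtype] at this
  obtain ⟨R, hR⟩ := hPM.exists_le_sylow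
  set R' : Subgroup G := (R : Subgroup M).map M.subtype with hR'
  have hR'M : R' ≤ M := Subgroup.map_subtype_le _
  have hP'R' : P' ≤ R' := by
    intro x hx
    have hxM : x ∈ M := Subgroup.mem_sup_left hx
    exact ⟨⟨x, hxM⟩, hR (Subgroup.mem_subgroupOf.mpr hx), rfl⟩
  have hR'p : IsPGroup p R' := R.2.map M.subtype
  have hR'eq : R' = P' := by
    have h1 : IsPGroup p (R'.subgroupOf H) := by
      have := hR'p.comap_subtype (K := H)
      rwa [Subgroup.comap_subtype] at this
    have h2 : (P : Subgroup H) ≤ R'.subgroupOf H := by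
      intro x hx
      rw [Subgroup.mem_subgroupOf]
      exact hP'R' ⟨x, hx, rfl⟩
    have h3 := P.is_maximal' h1 h2
    apply le_antisymm _ hP'R'
    intro x hx
    have hxH : x ∈ H := hMH (hR'M hx)
    have hmem : (⟨x, hxH⟩ : H) ∈ R'.subgroupOf H := Subgroup.mem_subgroupOf.mpr hx
    rw [h3] at hmem
    exact ⟨⟨x, hxH⟩, hmem, rfl⟩
  have hfrat : Subgroup.normalizer ((R' : Subgroup G) : Set G) ⊔ M = ⊤ :=
    Sylow.normalizer_sup_eq_top R
  rw [hR'eq] at hfrat
  have hnorm_top : Subgroup.normalizer (P' : Set G) = ⊤ := by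
    apply frattini_nongenerating
    rw [eq_top_iff, ← hfrat]
    apply sup_le le_sup_left
    exact sup_le (le_trans Subgroup.le_normalizer le_sup_left) le_sup_right
  have hP'N : P'.Normal := Subgroup.normalizer_eq_top_iff.mp hnorm_top
  have hPeq : (P : Subgroup H) = P'.comap H.subtype := by
    rw [hP', Subgroup.comap_map_eq_self_of_injective H.subtype_injective]
  rw [hPeq]; exact hP'N.comap _

/-- F(G / Φ(G)) = F(G) / Φ(G). -/
theorem result {G : Type*} [Group G] [Finite G] :
    Cfsg.fittingSubgroup (G ⧸ frattini G) = (Cfsg.fittingSubgroup G).map (QuotientGroup.mk' (frattini G)) := by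
  have hπsurj : Function.Surjective (QuotientGroup.mk' (frattini G)) :=
    QuotientGroup.mk'_surjective _
  apply le_antisymm
  · set H : Subgroup G := (Cfsg.fittingSubgroup (G ⧸ frattini G)).comap (QuotientGroup.mk' (frattini G)) with hH
    haveI hHN : H.Normal :=
      (Cfsg.Agent.Lib.Helper2.fittingSubgroup_normal (G := G ⧸ frattini G)).comap _
    have hmap : H.map (QuotientGroup.mk' (frattini G)) = Cfsg.fittingSubgroup (G ⧸ frattini G) :=
      Subgroup.map_comap_eq_self_of_surjective hπsurj _
    have hΦ : frattini G ≤ H := by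
      intro x hx
      rw [hH, Subgroup.mem_comap]
      have : (QuotientGroup.mk' (frattini G)) x = 1 := (QuotientGroup.eq_one_iff x).mpr hx
      rw [this]; exact Subgroup.one_mem _
    have hnil : Group.IsNilpotent (H.map (QuotientGroup.mk' (frattini G))) := by
      rw [hmap]; exact Cfsg.Agent.Lib.Helper2.fittingSubgroup_isNilpotent
    have hHnil : Group.IsNilpotent H := nilpotent_of_quotient_frattini H hΦ hnil
    have hle : H ≤ Cfsg.fittingSubgroup G := Cfsg.Agent.Lib.Helper2.le_fittingSubgroup hHN hHnil
    rw [← hmap]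
    exact Subgroup.map_mono hle
  · apply Cfsg.Agent.Lib.Helper2.le_fittingSubgroup
    · exact (Cfsg.Agent.Lib.Helper2.fittingSubgroup_normal (G := G)).map _ hπsurj
    · exact isNilpotent_map _ _ Cfsg.Agent.Lib.Helper2.fittingSubgroup_isNilpotent

end Cfsg.Agent.S0070
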