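import Cfsg.Statements.S0073
import Mathlib

set_option autoImplicit false
open Cfsg

namespace Cfsg.Agent.S0073

variable {G : Type*} [Group G]

/-- If `N ≰ C` there is an element of prime power order in `N` outside `C`. -/
theorem exists_prime_pow_order [Finite G] (N C : Subgroup G) (h : ¬ N ≤ C) :
    ∃ x ∈ N, x ∉ C ∧ ∃ q j : ℕ, q.Prime ∧ orderOf x = q ^ j := by
  classical
  have hne : {x : G | x ∈ N ∧ x ∉ C}.Nonempty := by
    rw [SetLike.not_le_iff_exists] at h
    obtain ⟨x, hx, hx'⟩ := h
    exact ⟨x, hx, hx'⟩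
  obtain ⟨x, ⟨hxN, hxC⟩, hmin⟩ := Set.exists_min_image _ orderOf (Set.toFinite _) hne
  refine ⟨x, hxN, hxC, ?_⟩
  have ho1 : orderOf x ≠ 1 := by
    intro h1
    rw [orderOf_eq_one_iff] at h1
    rw [h1] at hxC
    exact hxC C.one_mem
  have hopos : 0 < orderOf x := orderOf_pos x
  have hqp : (orderOf x).minFac.Prime := Nat.minFac_prime ho1
  obtain ⟨j, m, hm, hjm⟩ := Nat.exists_eq_pow_mul_and_not_dvd hopos.ne' (orderOf x).minFac hqp.ne_one
  refine ⟨(orderOf x).minFac, j, hqp, ?_⟩
  generalize hq : (orderOf x).minFac = q at *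
  generalize ho : orderOf x = o at *
  by_contra hne'
  have hm1 : m ≠ 1 := by
    intro h1; rw [h1, mul_one] at hjm; exact hne' hjm
  have hqo : q ∣ o := by rw [← hq]; exact Nat.minFac_dvd o
  have hmpos : 0 < m := by
    rcases Nat.eq_zero_or_pos m with h0 | h0
    · rw [h0, mul_zero] at hjm; omega
    · exact h0
  have hsmall : ∀ d : ℕ, orderOf (x ^ d) < o → x ^ d ∈ C := by
    intro d hd
    by_contra hcon
    have := hmin (x ^ d) ⟨N.pow_mem hxN d, hcon⟩
    omega
  have h1 : x ^ m ∈ C := by
    apply hsmall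
    rw [orderOf_pow' x hmpos.ne', ho, hjm, Nat.gcd_eq_right (Dvd.intro_left _ rfl),
      Nat.mul_div_cancel _ hmpos]
    have : 2 ≤ m := by omega
    have hqj : 0 < q ^ j := pow_pos hqp.pos j
    nlinarith
  have h2 : x ^ q ∈ C := by
    apply hsmall
    rw [orderOf_pow' x hqp.ne_zero, ho, Nat.gcd_eq_right hqo]
    exact Nat.div_lt_self hopos hqp.one_lt
  have hcop : Nat.Coprime q m := (Nat.Prime.coprime_iff_not_dvd hqp).mpr hm
  have hb : (1 : ℤ) = q * Nat.gcdA q m + m * Nat.gcdB q m := by
    have := Nat.gcd_eq_gcd_ab q m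
    rw [hcop.gcd_eq_one] at this
    simpa using this
  have hx : x = (x ^ q) ^ (Nat.gcdA q m) * (x ^ m) ^ (Nat.gcdB q m) := by
    rw [← zpow_natCast x q, ← zpow_natCast x m, ← zpow_mul, ← zpow_mul, ← zpow_add, ← hb, zpow_one]
  apply hxC
  rw [hx]
  exact C.mul_mem (C.zpow_mem h2 _) (C.zpow_mem h1 _)

/-- A `p`-element of `N(P)` lies in the Sylow `p`-subgroup `P`. -/
theorem mem_sylow_of_normalizer [Finite G] {p : ℕ} [Fact p.Prime] (P : Sylow p G) (x : G)
    (hx : x ∈ Subgroup.normalizer (P : Set G)) (j : ℕ) (hj : orderOf x = p ^ j) :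
    x ∈ (P : Subgroup G) := by
  have hZ : IsPGroup p (Subgroup.zpowers x) := by
    apply IsPGroup.of_card (n := j)
    rw [Nat.card_zpowers, hj]
  have hle : Subgroup.zpowers x ≤ Subgroup.normalizer (P : Set G) := by
    rw [Subgroup.zpowers_le]; exact hx
  have hsup : IsPGroup p (Subgroup.zpowers x ⊔ (P : Subgroup G) : Subgroup G) :=
    IsPGroup.to_sup_of_normal_right' hZ P.2 hle
  have := P.is_maximal' hsup le_sup_right
  have hx' : x ∈ Subgroup.zpowers x ⊔ (P : Subgroup G) :=
    Subgroup.mem_sup_left (Subgroup.mem_zpowers x)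
  rw [this] at hx'
  exact hx'

/-- Fixed point congruence for a `q`-element normalizing `P`. -/
theorem count [Finite G] (P : Subgroup G) (x : G) (hx : x ∈ Subgroup.normalizer (P : Set G))
    (q j : ℕ) [Fact q.Prime] (hj : orderOf x = q ^ j) :
    Nat.card P ≡ Nat.card (P ⊓ Subgroup.centralizer {x} : Subgroup G) [MOD q] := by
  classical
  haveI : Fintype P := Fintype.ofFinite P
  let f : Function.End P := fun v => ⟨x * v * x⁻¹, (Subgroup.mem_normalizer_iff.mp hx v).mp v.2⟩
  have hfpow : ∀ n : ℕ, ∀ v : P, ((f ^ n) v : G) = x ^ n * v * (x ^ n)⁻¹ := by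
    intro n
    induction n with
    | zero =>
      intro v
      rw [pow_zero, pow_zero]
      show (v : G) = 1 * (v : G) * 1⁻¹
      simp
    | succ n ih =>
      intro v
      rw [pow_succ']
      show x * ((f ^ n) v : G) * x⁻¹ = _
      rw [ih v, pow_succ']
      group
  have hf : f ^ q ^ j = 1 := by
    funext v
    apply Subtype.ext
    rw [hfpow, ← hj, pow_orderOf_eq_one]
    show 1 * (v : G) * 1⁻¹ = (v : G)
    simp
  have hmod := Equiv.Perm.card_fixedPoints_modEq (p := q) (n := j) hf
  rw [Nat.card_eq_fintype_card]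
  have hcard : Fintype.card (Function.fixedPoints f) =
      Nat.card (P ⊓ Subgroup.centralizer {x} : Subgroup G) := by
    rw [← Nat.card_eq_fintype_card]
    apply Nat.card_congr
    refine
      { toFun := fun v => ⟨((v : P) : G), ⟨(v : P).2, ?_⟩⟩
        invFun := fun w => ⟨⟨(w : G), w.2.1⟩, ?_⟩
        left_inv := fun v => by rfl
        right_inv := fun w => by rfl }
    · show ((v : P) : G) ∈ Subgroup.centralizer {x}
      rw [Subgroup.mem_centralizer_iff]
      intro y hy
      rw [Set.mem_singleton_iff] at hy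
      subst hy
      have hv : f (v : P) = (v : P) := v.2
      have hv' : y * ((v : P) : G) * y⁻¹ = ((v : P) : G) := congrArg Subtype.val hv
      calc y * ((v : P) : G) = (y * ((v : P) : G) * y⁻¹) * y := by group
        _ = ((v : P) : G) * y := by rw [hv']
    · show f ⟨(w : G), w.2.1⟩ = ⟨(w : G), w.2.1⟩
      apply Subtype.ext
      show x * (w : G) * x⁻¹ = (w : G)
      have hw : (w : G) ∈ Subgroup.centralizer {x} := w.2.2
      rw [Subgroup.mem_centralizer_iff] at hw
      have := hw x (Set.mem_singleton x)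
      rw [this]; group
  rw [← hcard]
  exact hmod

theorem result {G : Type*} [Group G] [Finite G] [IsSimpleGroup G] (hG : ∃ x y : G, x * y ≠ y * x) : (Nat.card G).minFac ^ 3 ∣ Nat.card G ∨ 12 ∣ Nat.card G := by
  classical
  by_contra hcon
  push Not at hcon
  obtain ⟨hcube, h12⟩ := hcon
  have hcard1 : Nat.card G ≠ 1 := by
    intro h
    have := (Nat.card_eq_one_iff_unique.mp h).1
    exact not_subsingleton G this
  generalize hp : (Nat.card G).minFac = p at *
  have hpp : p.Prime := by rw [← hp]; exact Nat.minFac_prime hcard1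
  have hpd : p ∣ Nat.card G := by rw [← hp]; exact Nat.minFac_dvd _
  have hpmin : ∀ q : ℕ, q.Prime → q ∣ Nat.card G → p ≤ q := by
    intro q hq hqd
    rw [← hp]; exact Nat.minFac_le_of_dvd hq.two_le hqd
  haveI : Fact p.Prime := ⟨hpp⟩
  obtain ⟨P⟩ : Nonempty (Sylow p G) := inferInstance
  have hPcard : Nat.card P = p ^ (Nat.card G).factorization p := P.card_eq_multiplicity
  set k := (Nat.card G).factorization p with hk
  have hPdvd : p ^ k ∣ Nat.card G := by
    rw [← hPcard]; exact Subgroup.card_subgroup_dvd_card _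
  have hk1 : 1 ≤ k := by
    have := (hpp.factorization_pos_of_dvd Nat.card_pos.ne' hpd)
    omega
  have hk2 : k ≤ 2 := by
    by_contra h
    push Not at h
    apply hcube
    exact dvd_trans (pow_dvd_pow p h) hPdvd
  -- P is abelian
  have hPab : IsMulCommutative P := by
    have : k = 1 ∨ k = 2 := by omega
    rcases this with h | h
    · rw [h, pow_one] at hPcard
      haveI : IsCyclic P := isCyclic_of_prime_card hPcard
      infer_instance
    · rw [h] at hPcard
      exact IsPGroup.isMulCommutative_of_card_eq_prime_sq hPcard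
  have hPC : (P : Subgroup G) ≤ Subgroup.centralizer (P : Set G) := by
    intro a ha
    rw [Subgroup.mem_centralizer_iff]
    intro b hb
    exact congrArg Subtype.val (hPab.is_comm.comm (⟨b, hb⟩ : P) ⟨a, ha⟩)
  -- N(P) ≤ C(P)
  have hNC : Subgroup.normalizer (P : Set G) ≤ Subgroup.centralizer (P : Set G) := by
    by_contra hnot
    obtain ⟨x, hxN, hxC, q, j, hqp, hxo⟩ := exists_prime_pow_order _ _ hnot
    haveI : Fact q.Prime := ⟨hqp⟩
    have hqne : q ≠ p := by
      intro h
      rw [h] at hxo
      exact hxC (hPC (mem_sylow_of_normalizer P x hxN j hxo))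
    have hj : j ≠ 0 := by
      intro h
      rw [h, pow_zero, orderOf_eq_one_iff] at hxo
      rw [hxo] at hxC
      exact hxC (Subgroup.one_mem _)
    have hqd : q ∣ Nat.card G := by
      have h1 : q ∣ orderOf x := by rw [hxo]; exact dvd_pow_self q hj
      exact dvd_trans h1 (orderOf_dvd_natCard x)
    have hpq : p < q := lt_of_le_of_ne (hpmin q hqp hqd) (Ne.symm hqne)
    have hmod := count (P : Subgroup G) x hxN q j hxo
    set F := ((P : Subgroup G) ⊓ Subgroup.centralizer {x} : Subgroup G) with hF
    have hFP : F ≤ (P : Subgroup G) := inf_le_left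
    have hFne : F ≠ (P : Subgroup G) := by
      intro h
      apply hxC
      rw [Subgroup.mem_centralizer_iff]
      intro v hv
      have hvF : v ∈ F := by rw [h]; exact hv
      have hvc : v ∈ Subgroup.centralizer {x} := hvF.2
      rw [Subgroup.mem_centralizer_iff] at hvc
      exact (hvc x (Set.mem_singleton x)).symm
    have hFdvd : Nat.card F ∣ p ^ k := by
      rw [← hPcard]
      exact Subgroup.card_dvd_of_le hFP
    obtain ⟨i, hik, hFi⟩ := (Nat.dvd_prime_pow hpp).mp hFdvd
    have hilt : i < k := by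
      rcases lt_or_eq_of_le hik with h | h
      · exact h
      · exfalso
        apply hFne
        apply Subgroup.eq_of_le_of_card_ge hFP
        rw [hFi, h, hPcard]
    rw [hPcard, hFi] at hmod
    have hdvd : q ∣ p ^ k - p ^ i :=
      (Nat.modEq_iff_dvd' (Nat.pow_le_pow_right hpp.pos hilt.le)).mp hmod.symm
    have hnodvd1 : ¬ q ∣ p - 1 := by
      intro h
      have h1 : 0 < p - 1 := by have := hpp.two_le; omega
      have := Nat.le_of_dvd h1 h
      omega
    have hnodvdp : ¬ q ∣ p := by
      intro h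
      have := Nat.le_of_dvd hpp.pos h
      omega
    have hcases : (k = 1 ∧ i = 0) ∨ (k = 2 ∧ i = 0) ∨ (k = 2 ∧ i = 1) := by omega
    rcases hcases with ⟨hk', hi'⟩ | ⟨hk', hi'⟩ | ⟨hk', hi'⟩
    · rw [hk', hi', pow_one, pow_zero] at hdvd
      exact hnodvd1 hdvd
    · rw [hk', hi', pow_zero] at hdvd
      have e : p ^ 2 - 1 = (p - 1) * (p + 1) := by
        have := hpp.two_le
        obtain ⟨r, rfl⟩ : ∃ r, p = r + 1 := ⟨p - 1, by omega⟩
        simp only [Nat.add_sub_cancel]
        ring_nf
        omega
      rw [e] at hdvd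
      rcases (Nat.Prime.dvd_mul hqp).mp hdvd with h | h
      · exact hnodvd1 h
      · have hle := Nat.le_of_dvd (by omega) h
        have hq' : q = p + 1 := by omega
        -- p and p + 1 both prime: p = 2
        have hp2 : p = 2 := by
          rcases hpp.eq_two_or_odd with h2 | hodd
          · exact h2
          · exfalso
            have h2q : 2 ∣ q := by rw [hq']; omega
            have := (Nat.prime_dvd_prime_iff_eq Nat.prime_two hqp).mp h2q
            have := hpp.two_le
            omega
        apply h12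
        have h4 : 4 ∣ Nat.card G := by
          have := hPdvd
          rw [hk', hp2] at this
          exact this
        have h3 : 3 ∣ Nat.card G := by
          have : q = 3 := by omega
          rw [← this]; exact hqd
        have hc : Nat.Coprime 4 3 := by decide
        have := hc.mul_dvd_of_dvd_of_dvd h4 h3
        exact this
    · rw [hk', hi', pow_one] at hdvd
      have e : p ^ 2 - p = p * (p - 1) := by
        obtain ⟨r, rfl⟩ : ∃ r, p = r + 1 := ⟨p - 1, by have := hpp.two_le; omega⟩
        simp only [Nat.add_sub_cancel]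
        have : (r + 1) ^ 2 = (r + 1) * r + (r + 1) := by ring
        rw [this, Nat.add_sub_cancel]
      rw [e] at hdvd
      rcases (Nat.Prime.dvd_mul hqp).mp hdvd with h | h
      · exact hnodvdp h
      · exact hnodvd1 h
  -- Burnside transfer
  have hcomp := MonoidHom.ker_transferSylow_isComplement' P hNC
  rcases (MonoidHom.transferSylow P hNC).normal_ker.eq_bot_or_eq_top with h | h
  · rw [h, Subgroup.isComplement'_bot_left] at hcomp
    obtain ⟨a, b, hab⟩ := hG
    apply hab
    have ha : a ∈ (P : Subgroup G) := by rw [hcomp]; trivial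
    have hb : b ∈ (P : Subgroup G) := by rw [hcomp]; trivial
    exact congrArg Subtype.val (hPab.is_comm.comm (⟨a, ha⟩ : P) ⟨b, hb⟩)
  · rw [h, Subgroup.isComplement'_top_left] at hcomp
    have : Nat.card P = 1 := by
      rw [hcomp]; exact Subgroup.card_bot
    rw [hPcard] at this
    have h2 : p ^ 1 ≤ p ^ k := Nat.pow_le_pow_right hpp.pos hk1
    rw [pow_one] at h2
    have := hpp.two_le
    omega

end Cfsg.Agent.S0073
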