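import Cfsg.Statements.S0074
import Mathlib

set_option autoImplicit false
open Cfsg
open scoped commutatorElement

namespace Cfsg.Agent.S0074

/-- For an abelian Sylow subgroup, the focal subgroup is contained in `⁅N(P), N(P)⁆`. -/
theorem focal_le {G : Type*} [Group G] [Finite G] {p : ℕ} [Fact p.Prime] (P : Sylow p G)
    (hP : IsMulCommutative P) :
    (P : Subgroup G).focalSubgroup ≤
      ⁅Subgroup.normalizer (P : Set G), Subgroup.normalizer (P : Set G)⁆ := by
  rw [Subgroup.focalSubgroup_def, Subgroup.closure_le]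
  rintro g ⟨hgP, x, hxP, u, rfl⟩
  have hy : u⁻¹⁻¹ * x⁻¹ * u⁻¹ ∈ (P : Subgroup G) := by
    have h1 : u⁻¹⁻¹ * x⁻¹ * u⁻¹ = x⁻¹ * ⁅x, u⁆ := by
      rw [commutatorElement_def]; group
    rw [h1]
    exact (P : Subgroup G).mul_mem ((P : Subgroup G).inv_mem hxP) hgP
  obtain ⟨n, hn, hne⟩ := P.conj_eq_normalizer_conj_of_mem x⁻¹ u⁻¹ ((P : Subgroup G).inv_mem hxP) hy
  have h2 : ⁅x, u⁆ = ⁅x, n⁻¹⁆ := by
    rw [commutatorElement_def, commutatorElement_def]
    have e1 : x * u * x⁻¹ * u⁻¹ = x * (u⁻¹⁻¹ * x⁻¹ * u⁻¹) := by group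
    have e2 : x * n⁻¹ * x⁻¹ * n⁻¹⁻¹ = x * (n⁻¹ * x⁻¹ * n) := by group
    rw [e1, e2, hne]
  rw [SetLike.mem_coe, h2]
  exact Subgroup.commutator_mem_commutator (Subgroup.le_normalizer hxP)
    ((Subgroup.normalizer (P : Set G)).inv_mem hn)

theorem result {G : Type*} [Group G] [Finite G] {p : ℕ} [Fact p.Prime] (P : Sylow p G) (hP : IsMulCommutative P) : commutator G ⊓ (P : Subgroup G) = ⁅Subgroup.normalizer (P : Set G), Subgroup.normalizer (P : Set G)⁆ ⊓ (P : Subgroup G) := by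
  apply le_antisymm
  · rw [Subgroup.commutator_inf_eq_focalSubgroup]
    exact le_inf (focal_le P hP) (Subgroup.focalSubgroup_le _)
  · apply inf_le_inf_right
    rw [commutator_def]
    exact Subgroup.commutator_mono le_top le_top

end Cfsg.Agent.S0074
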