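import Cfsg.Statements.S0076
import Mathlib

set_option autoImplicit false
open Cfsg
open scoped Pointwise

namespace Cfsg.Agent.S0076

/-- Two P-invariant subsets of a Sylow p-subgroup P that are conjugate in G are conjugate under the normalizer of P. -/
theorem result {G : Type*} [Group G] [Finite G] {p : ℕ} [Fact p.Prime] (P : Sylow p G) (X Y : Set G) (hXP : X ⊆ P) (hYP : Y ⊆ P) (hX : ∀ x ∈ P, (fun y => x * y * x⁻¹) '' X = X) (hY : ∀ x ∈ P, (fun y => x * y * x⁻¹) '' Y = Y) (g : G) (hg : (fun y => g * y * g⁻¹) '' X = Y) : ∃ n ∈ Subgroup.normalizer (P : Set G), (fun y => n * y * n⁻¹) '' X = Y := by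
  have hfun : ∀ a : G, (fun y => a * y * a⁻¹) = ⇑(MulAut.conj a) := by
    intro a; funext y; simp
  simp only [hfun] at hX hY hg ⊢
  have h1 : (P : Subgroup G) ≤ Subgroup.normalizer Y := by
    intro x hx
    rw [Subgroup.mem_normalizer_iff_conj_image_eq]
    exact hY x hx
  have h2 : ((g • P : Sylow p G) : Subgroup G) ≤ Subgroup.normalizer Y := by
    rintro w ⟨z, hz, hzw⟩
    have hw : w = g * z * g⁻¹ := by rw [← hzw]; rfl
    subst hw
    rw [Subgroup.mem_normalizer_iff_conj_image_eq]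
    have hzX := hX z hz
    have : (MulAut.conj (g * z * g⁻¹)) = MulAut.conj g * MulAut.conj z * (MulAut.conj g)⁻¹ := by
      ext y; simp [mul_assoc]
    rw [this, ← hg]
    ext y
    constructor
    · rintro ⟨w, ⟨v, hv, rfl⟩, rfl⟩
      refine ⟨MulAut.conj z v, ?_, ?_⟩
      · rw [← hzX]; exact ⟨v, hv, rfl⟩
      · simp [mul_assoc]
    · rintro ⟨v, hv, rfl⟩
      rw [← hzX] at hv
      obtain ⟨u, hu, rfl⟩ := hv
      exact ⟨MulAut.conj g u, ⟨u, hu, rfl⟩, by simp [mul_assoc]⟩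
  obtain ⟨h, hh⟩ :=
    MulAction.exists_smul_eq (Subgroup.normalizer Y) ((g • P).subtype h2) (P.subtype h1)
  simp_rw [Sylow.smul_subtype, Subgroup.smul_def, smul_smul] at hh
  refine ⟨h * g, Sylow.smul_eq_iff_mem_normalizer.mp (Sylow.subtype_injective hh), ?_⟩
  have hh2 : MulAut.conj (h : G) '' Y = Y := Subgroup.mem_normalizer_iff_conj_image_eq.mp h.2
  rw [map_mul, MulAut.coe_mul, Set.image_comp, hg, hh2]

end Cfsg.Agent.S0076
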