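import Cfsg.Statements.S0077
import Cfsg.Agent.Lib.Helper11.WeaklyClosed
import Mathlib

set_option autoImplicit false
open Cfsg
open scoped commutatorElement

namespace Cfsg.Agent.S0077

/-- If a subgroup Z of the centre of a Sylow p-subgroup P is weakly closed in P, then P meets the derived subgroup of G exactly where it meets the derived subgroup of the normalizer of Z. -/
theorem result {G : Type*} [Group G] [Finite G] {p : ℕ} [Fact p.Prime] (P : Sylow p G) (Z : Subgroup G) (hZ : Z ≤ Subgroup.centralizer (P : Set G)) (hW : Cfsg.IsWeaklyClosed Z P) : commutator G ⊓ (P : Subgroup G) = ⁅Subgroup.normalizer (Z : Set G), Subgroup.normalizer (Z : Set G)⁆ ⊓ (P : Subgroup G) := by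
  have hPN : (P : Subgroup G) ≤ Subgroup.normalizer (Z : Set G) := by
    intro s hs
    rw [Subgroup.mem_normalizer_iff]
    intro z
    have key : ∀ w ∈ Z, s * w * s⁻¹ = w := by
      intro w hw
      have := (Subgroup.mem_centralizer_iff.mp (hZ hw)) s hs
      rw [this]; group
    constructor
    · intro hz; rw [key z hz]; exact hz
    · intro hz
      have h1 := key _ hz
      have : z = s⁻¹ * (s * z * s⁻¹) * s := by group
      have h2 : s * z * s⁻¹ = z := by
        have h3 : s⁻¹ * (s * (s * z * s⁻¹) * s⁻¹) * s = s⁻¹ * (s * z * s⁻¹) * s := by rw [h1]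
        have e1 : s⁻¹ * (s * (s * z * s⁻¹) * s⁻¹) * s = s * z * s⁻¹ := by group
        have e2 : s⁻¹ * (s * z * s⁻¹) * s = z := by group
        rw [e1, e2] at h3
        exact h3
      rw [← h2]; exact hz
  apply le_antisymm
  · rw [Subgroup.commutator_inf_eq_focalSubgroup P]
    refine le_inf ?_ (Subgroup.focalSubgroup_le _)
    rw [Subgroup.focalSubgroup_def, Subgroup.closure_le]
    rintro g ⟨hgP, x, hx, u, rfl⟩
    have hy : u * x⁻¹ * u⁻¹ ∈ (P : Subgroup G) := by
      have : u * x⁻¹ * u⁻¹ = x⁻¹ * ⁅x, u⁆ := by rw [commutatorElement_def]; group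
      rw [this]
      exact Subgroup.mul_mem _ (Subgroup.inv_mem _ hx) hgP
    obtain ⟨n, hn, hnx⟩ := Cfsg.Agent.Lib.Helper11.exists_normalizer_conj_of_weaklyClosed P Z hZ hW
      x⁻¹ (u * x⁻¹ * u⁻¹) u (Subgroup.inv_mem _ hx) hy rfl
    have : ⁅x, u⁆ = ⁅x, n⁆ := by
      rw [commutatorElement_def, commutatorElement_def]
      calc x * u * x⁻¹ * u⁻¹ = x * (u * x⁻¹ * u⁻¹) := by group
        _ = x * (n * x⁻¹ * n⁻¹) := by rw [hnx]
        _ = x * n * x⁻¹ * n⁻¹ := by group
    rw [SetLike.mem_coe, this]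
    exact Subgroup.commutator_mem_commutator (hPN hx) hn
  · exact inf_le_inf_right _ (Subgroup.commutator_mono le_top le_top)

end Cfsg.Agent.S0077
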