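import Cfsg.Statements.S0079
import Cfsg.Agent.Lib.Helper11.FrobeniusF
import Mathlib

set_option autoImplicit false
open Cfsg

namespace Cfsg.Agent.S0079

open Subgroup Cfsg.Agent.Lib.Helper11

/-- arithmetic: `a * b = c * d`, `gcd a c = 1`, `gcd b d = 1` gives `a = d`. -/
theorem eq_of_mul_eq_mul_of_coprime {a b c d : ℕ} (h : a * b = c * d) (h1 : Nat.Coprime a c)
    (h2 : Nat.Coprime b d) : a = d := by
  have had : a ∣ d := by
    have : a ∣ c * d := ⟨b, h.symm⟩
    exact h1.dvd_of_dvd_mul_left this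
  have hda : d ∣ a := by
    have : d ∣ a * b := ⟨c, by rw [h]; ring⟩
    exact (h2.symm).dvd_of_dvd_mul_right this
  exact Nat.dvd_antisymm had hda

/-- For a nilpotent Hall subgroup `H` controlling its own fusion and a prime `p` dividing `|H|`,
`G` has a normal `p`-complement. -/
theorem exists_normal_p_complement {G : Type*} [Group G] [Finite G] (H : Subgroup G)
    (hH : Group.IsNilpotent H) (hHall : Nat.Coprime (Nat.card H) H.index)
    (hfus : ∀ x ∈ H, ∀ y ∈ H, (∃ g : G, g * x * g⁻¹ = y) → ∃ h ∈ H, h * x * h⁻¹ = y)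
    (p : ℕ) [Fact p.Prime] (hp : p ∣ Nat.card H) :
    ∃ (P : Sylow p G) (K : Subgroup G), K.Normal ∧ K.IsComplement' (P : Subgroup G) := by
  obtain ⟨P₀⟩ : Nonempty (Sylow p H) := inferInstance
  have hPg : IsPGroup p ((P₀ : Subgroup H).map H.subtype) := P₀.2.map _
  have hidx : ¬ p ∣ ((P₀ : Subgroup H).map H.subtype).index := by
    rw [Subgroup.index_map_subtype]
    intro hd
    rcases (Nat.Prime.dvd_mul Fact.out).mp hd with h1 | h1
    · exact P₀.not_dvd_index h1
    · have : p ∣ Nat.gcd (Nat.card H) H.index := Nat.dvd_gcd hp h1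
      rw [hHall] at this
      exact (Fact.out : p.Prime).one_lt.ne' (Nat.dvd_one.mp this)
  set P : Sylow p G := hPg.toSylow hidx with hP
  have hPcoe : (P : Subgroup G) = (P₀ : Subgroup H).map H.subtype := rfl
  have hPH : (P : Subgroup G) ≤ H := by rw [hPcoe]; exact Subgroup.map_subtype_le _
  have hfusP : ControlsOwnFusion (P : Subgroup G) := by
    intro x hx g hy
    obtain ⟨h, hh, hhx⟩ := hfus x (hPH hx) _ (hPH hy) ⟨g, rfl⟩
    rw [hPcoe] at hx
    obtain ⟨x₀, hx₀, rfl⟩ := hx
    obtain ⟨u, hu, hux⟩ := exists_sylow_conj_of_isNilpotent P₀ x₀ hx₀ ⟨h, hh⟩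
    refine ⟨(u : G), ⟨u, hu, rfl⟩, ?_⟩
    rw [← hhx]
    exact congrArg Subtype.val hux
  obtain ⟨K, hKn, hK⟩ := exists_normal_complement_of_fusion P hfusP
  exact ⟨P, K, hKn, hK⟩

/-- A nilpotent Hall subgroup has a normal complement exactly when elements of it that are conjugate in the whole group are already conjugate inside it. -/
theorem result {G : Type*} [Group G] [Finite G] (H : Subgroup G) (hH : Group.IsNilpotent H) (hHall : Nat.Coprime (Nat.card H) H.index) : (∃ N : Subgroup G, N.Normal ∧ N.IsComplement' H) ↔ ∀ x ∈ H, ∀ y ∈ H, (∃ g : G, g * x * g⁻¹ = y) → ∃ h ∈ H, h * x * h⁻¹ = y := by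
  constructor
  · rintro ⟨N, hNn, hN⟩ x hx y hy ⟨g, rfl⟩
    obtain ⟨u, hu, hux⟩ := controlsOwnFusion_of_normal_complement H N hN x hx g hy
    exact ⟨u, hu, hux.symm⟩
  · intro hfus
    -- the intersection of the normal p-complements for the primes dividing |H|
    set K : Subgroup G := ⨅ (K' : Subgroup G) (_ : K'.Normal ∧ ∃ p : ℕ, ∃ _ : Fact p.Prime,
      p ∣ Nat.card H ∧ ∃ P : Sylow p G, K'.IsComplement' (P : Subgroup G)), K' with hKdef
    have hKn : K.Normal := by
      rw [hKdef]
      apply Subgroup.normal_iInf_normal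
      intro K'
      apply Subgroup.normal_iInf_normal
      intro h
      exact h.1
    -- primes dividing |H| do not divide |K|
    have h1 : ∀ p : ℕ, p.Prime → p ∣ Nat.card H → ¬ p ∣ Nat.card K := by
      intro p hp hpH hpK
      haveI : Fact p.Prime := ⟨hp⟩
      obtain ⟨P, K', hK'n, hK'⟩ := exists_normal_p_complement H hH hHall hfus p hpH
      have hle : K ≤ K' := by
        rw [hKdef]
        exact iInf₂_le K' ⟨hK'n, p, ⟨hp⟩, hpH, P, hK'⟩
      have h2 : p ∣ Nat.card K' := hpK.trans (Subgroup.card_dvd_of_le hle)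
      rw [← hK'.index_eq_card] at h2
      exact P.not_dvd_index h2
    -- primes not dividing |H| do not divide the index of K
    have h2 : ∀ q : ℕ, q.Prime → ¬ q ∣ Nat.card H → ¬ q ∣ K.index := by
      intro q hq hqH hqK
      haveI : Fact q.Prime := ⟨hq⟩
      obtain ⟨Q⟩ : Nonempty (Sylow q G) := inferInstance
      have hQK : (Q : Subgroup G) ≤ K := by
        rw [hKdef]
        apply le_iInf₂
        rintro K' ⟨hK'n, p, hpf, hpH, P, hK'⟩
        have hpq : p ≠ q := fun h => hqH (h ▸ hpH)
        obtain ⟨a, ha⟩ := IsPGroup.iff_card.mp P.2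
        have hidx : K'.index = p ^ a := by rw [← ha]; exact hK'.symm.index_eq_card
        exact le_of_isPGroup_of_index_pow hpf.out hq hpq K' a hidx Q Q.2
      exact Q.not_dvd_index (hqK.trans (Subgroup.index_dvd_of_le hQK))
    have hcop1 : Nat.Coprime (Nat.card K) (Nat.card H) := by
      apply Nat.coprime_of_dvd
      intro p hp hpK hpH
      exact h1 p hp hpH hpK
    have hcop2 : Nat.Coprime K.index H.index := by
      apply Nat.coprime_of_dvd
      intro q hq hqK hqH
      have : q ∣ Nat.card H := by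
        by_contra hn
        exact h2 q hq hn hqK
      have h3 : q ∣ Nat.gcd (Nat.card H) H.index := Nat.dvd_gcd this hqH
      rw [hHall] at h3
      exact hq.one_lt.ne' (Nat.dvd_one.mp h3)
    have hmul : K.index * Nat.card K = H.index * Nat.card H := by
      rw [mul_comm, K.card_mul_index, mul_comm, H.card_mul_index]
    have hidx : K.index = Nat.card H := eq_of_mul_eq_mul_of_coprime hmul hcop2 hcop1
    refine ⟨K, hKn, Subgroup.isComplement'_of_coprime ?_ hcop1⟩
    rw [← hidx]; exact K.card_mul_index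

end Cfsg.Agent.S0079
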