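import Cfsg.Statements.S0082
import Cfsg.Agent.Lib.Helper11.Burnside
import Cfsg.Agent.Lib.Helper16.ResidualQuot

set_option autoImplicit false
open Cfsg

namespace Cfsg.Agent.S0082

open Subgroup Cfsg.Agent.Lib.Helper11 Cfsg.Agent.Lib.Helper16
open scoped commutatorElement

/-- iterated conjugation acts by iterated powers -/
theorem conj_pow_eq {G : Type*} [Group G] (n x : G) (k : ℤ) (h : n * x * n⁻¹ = x ^ k) (j : ℕ) :
    n ^ j * x * (n ^ j)⁻¹ = x ^ (k ^ j) := by
  induction j with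
  | zero => simp
  | succ j ih =>
    have e1 : n ^ (j + 1) * x * (n ^ (j + 1))⁻¹ = n * (n ^ j * x * (n ^ j)⁻¹) * n⁻¹ := by
      rw [pow_succ']; group
    rw [e1, ih]
    have e2 : n * x ^ (k ^ j) * n⁻¹ = (n * x * n⁻¹) ^ (k ^ j) := by
      rw [← MulAut.conj_apply, ← MulAut.conj_apply, map_zpow]
    rw [e2, h, ← zpow_mul, pow_succ']

theorem result {G : Type*} [Group G] [Finite G] {p : ℕ} [Fact p.Prime] (P : Sylow p G) (hP : IsCyclic P) : Cfsg.HasNormalPComplement p G ∨ Cfsg.pResidual p G = ⊤ := by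
  classical
  have hp : p.Prime := Fact.out
  by_cases hNC : normalizer ((P : Subgroup G) : Set G) ≤ centralizer (P : Set G)
  · left
    exact hasNormalPComplement_of_normalizer_le_centralizer P hNC
  right
  haveI hRn := pResidual_normal (G := G) p
  obtain ⟨n, hnN, hnC⟩ := Set.not_subset.1 hNC
  -- generator
  obtain ⟨g, hg⟩ := hP.exists_generator
  set x : G := (g : G) with hxdef
  have hxP : x ∈ (P : Subgroup G) := g.2
  have hPx : ∀ y ∈ (P : Subgroup G), y ∈ zpowers x := by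
    intro y hy
    obtain ⟨j, hj⟩ := mem_zpowers_iff.1 (hg ⟨y, hy⟩)
    rw [mem_zpowers_iff]
    refine ⟨j, ?_⟩
    have := congrArg Subtype.val hj
    simpa using this
  have hcomm_of : ∀ c : G, c * x = x * c → c ∈ centralizer ((P : Subgroup G) : Set G) := by
    intro c hc
    rw [mem_centralizer_iff]
    intro y hy
    obtain ⟨j, rfl⟩ := mem_zpowers_iff.1 (hPx y hy)
    exact ((Commute.zpow_left (show Commute x c from hc.symm) j)).eq
  have hnx : n * x * n⁻¹ ∈ (P : Subgroup G) := ((mem_normalizer_iff.1 hnN) x).1 hxP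
  obtain ⟨k, hk⟩ := mem_zpowers_iff.1 (hPx _ hnx)
  -- card of P
  obtain ⟨a, ha⟩ := P.2.exists_card_eq
  have hxord : orderOf x ∣ p ^ a := by
    rw [← ha]
    exact Subgroup.orderOf_dvd_natCard _ hxP
  -- p ∤ k - 1
  have hpk : ¬ (p : ℤ) ∣ k - 1 := by
    intro hdvd
    apply hnC
    -- n ^ (p ^ a) centralises x
    have h1 : ((p : ℤ) ^ (a + 1)) ∣ k ^ p ^ a - 1 ^ p ^ a := by
      exact_mod_cast dvd_sub_pow_of_dvd_sub (R := ℤ) (p := p) (a := k) (b := 1) hdvd a
    rw [one_pow] at h1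
    have h2 : ((orderOf x : ℕ) : ℤ) ∣ k ^ p ^ a - 1 := by
      refine dvd_trans ?_ h1
      have : (orderOf x : ℤ) ∣ ((p ^ a : ℕ) : ℤ) := Int.natCast_dvd_natCast.2 hxord
      refine dvd_trans this ?_
      push_cast
      exact pow_dvd_pow _ (Nat.le_succ a)
    have h3 : x ^ (k ^ p ^ a) = x := by
      obtain ⟨c, hc⟩ := h2
      have : k ^ p ^ a = 1 + (orderOf x : ℤ) * c := by linarith
      rw [this, zpow_add, zpow_one, zpow_mul, zpow_natCast, pow_orderOf_eq_one, one_zpow, mul_one]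
    have h4 : n ^ (p ^ a) * x * (n ^ (p ^ a))⁻¹ = x := by
      rw [conj_pow_eq n x k hk.symm, h3]
    have h5 : n ^ (p ^ a) ∈ centralizer ((P : Subgroup G) : Set G) := by
      apply hcomm_of
      have : n ^ (p ^ a) * x = n ^ (p ^ a) * x * (n ^ (p ^ a))⁻¹ * n ^ (p ^ a) := by group
      rw [this, h4]
    -- the image of n in Aut(P) has order dividing p^a and prime to p
    set φ := (P : Subgroup G).normalizerMonoidHom with hφ
    have hker : ∀ m : normalizer ((P : Subgroup G) : Set G), φ m = 1 ↔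
        (m : G) ∈ centralizer ((P : Subgroup G) : Set G) := by
      intro m
      rw [← MonoidHom.mem_ker, hφ, Subgroup.normalizerMonoidHom_ker, mem_subgroupOf]
    have h6 : (φ ⟨n, hnN⟩) ^ (p ^ a) = 1 := by
      rw [← map_pow, hker]
      exact h5
    have h7 : orderOf (φ ⟨n, hnN⟩) ∣ p ^ a := orderOf_dvd_of_pow_eq_one h6
    have hab : IsMulCommutative P := ⟨⟨fun u v => (IsCyclic.commGroup (α := P)).mul_comm u v⟩⟩
    have h8 : orderOf (φ ⟨n, hnN⟩) ∣ (P : Subgroup G).index := by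
      refine dvd_trans ?_ (card_range_normalizerMonoidHom_dvd_index P hab)
      exact Subgroup.orderOf_dvd_natCard φ.range (MonoidHom.mem_range.2 ⟨⟨n, hnN⟩, rfl⟩)
    have hcop : ((P : Subgroup G).index).Coprime (p ^ a) :=
      Nat.Coprime.pow_right a ((Nat.Prime.coprime_iff_not_dvd hp).2 P.not_dvd_index).symm
    have h9 : orderOf (φ ⟨n, hnN⟩) = 1 := Nat.eq_one_of_dvd_coprimes hcop h8 h7
    rw [orderOf_eq_one_iff, hker] at h9
    exact h9
  -- G/R is abelian
  have htop : Cfsg.pResidual p G ⊔ (P : Subgroup G) = ⊤ := pResidual_sup_sylow p P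
  have hcomm : commutator G ≤ Cfsg.pResidual p G := by
    rw [← Subgroup.Normal.quotient_commutative_iff_commutator_le]
    have hrep : ∀ u : G, ∃ j : ℤ, (QuotientGroup.mk u : G ⧸ Cfsg.pResidual p G) =
        (QuotientGroup.mk x) ^ j := by
      intro u
      have hu : u ∈ Cfsg.pResidual p G ⊔ (P : Subgroup G) := htop ▸ mem_top u
      rw [mem_sup_of_normal_left] at hu
      obtain ⟨r, hr, z, hz, rfl⟩ := hu
      obtain ⟨j, rfl⟩ := mem_zpowers_iff.1 (hPx z hz)
      refine ⟨j, ?_⟩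
      rw [QuotientGroup.mk_mul, (QuotientGroup.eq_one_iff r).2 hr, one_mul, QuotientGroup.mk_zpow]
    refine ⟨⟨fun u v => ?_⟩⟩
    obtain ⟨u, rfl⟩ := QuotientGroup.mk_surjective u
    obtain ⟨v, rfl⟩ := QuotientGroup.mk_surjective v
    obtain ⟨i, hi⟩ := hrep u
    obtain ⟨j, hj⟩ := hrep v
    rw [hi, hj, ← zpow_add, ← zpow_add, add_comm]
  -- x^(k-1) ∈ R
  have h1 : x ^ (k - 1) ∈ Cfsg.pResidual p G := by
    apply hcomm
    have : x ^ (k - 1) = ⁅n, x⁆ := by
      rw [commutatorElement_def, ← hk, zpow_sub, zpow_one]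
    rw [this, _root_.commutator_def]
    exact commutator_mem_commutator (mem_top n) (mem_top x)
  -- Bezout
  have hcop : IsCoprime (k - 1) ((p : ℤ) ^ a) := by
    apply IsCoprime.pow_right
    exact ((Nat.prime_iff_prime_int.1 hp).irreducible.coprime_iff_not_dvd.2 hpk).symm
  obtain ⟨u, v, huv⟩ := hcop
  have hxR : x ∈ Cfsg.pResidual p G := by
    have hpa : x ^ ((p : ℤ) ^ a) = 1 := by
      have : ((p : ℤ) ^ a) = ((p ^ a : ℕ) : ℤ) := by push_cast; rfl
      rw [this, zpow_natCast]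
      exact orderOf_dvd_iff_pow_eq_one.1 hxord
    have : x = (x ^ (k - 1)) ^ u := by
      have e1 : x = x ^ (u * (k - 1) + v * (p : ℤ) ^ a) := by rw [huv, zpow_one]
      rw [zpow_add, mul_comm v, zpow_mul x ((p : ℤ) ^ a), hpa, one_zpow, mul_one, mul_comm u,
        zpow_mul] at e1
      exact e1
    rw [this]
    exact zpow_mem h1 u
  have hPR : (P : Subgroup G) ≤ Cfsg.pResidual p G := by
    intro y hy
    exact (zpowers_le.2 hxR) (hPx y hy)
  rw [← htop]
  exact (sup_eq_left.2 hPR).symm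

end Cfsg.Agent.S0082
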