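import Cfsg.Statements.S0083
import Cfsg.Agent.Lib.Helper11.Burnside
import Mathlib

set_option autoImplicit false
open Cfsg

namespace Cfsg.Agent.S0083

/-- A normal complement of one Sylow `p`-subgroup is a complement of every Sylow `p`-subgroup. -/
theorem isComplement'_of_sylow {G : Type*} [Group G] [Finite G] {p : ℕ} [Fact p.Prime]
    (P P' : Sylow p G) (K : Subgroup G) (hK : K.IsComplement' (P' : Subgroup G)) :
    K.IsComplement' (P : Subgroup G) := by
  have hcard : Nat.card (P : Subgroup G) = Nat.card (P' : Subgroup G) := by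
    rw [P.card_eq_multiplicity, P'.card_eq_multiplicity]
  have h1 : Nat.card K * Nat.card (P : Subgroup G) = Nat.card G := by
    rw [hcard]; exact hK.card_mul_card
  have hKidx : Nat.card K = (P' : Subgroup G).index := hK.index_eq_card.symm
  have h2 : Nat.Coprime (Nat.card K) (Nat.card (P : Subgroup G)) := by
    rw [hcard, hKidx]
    exact (P'.card_coprime_index).symm
  exact Subgroup.isComplement'_of_coprime h1 h2

/-- For an abelian Sylow p-subgroup P, a normal p-complement exists exactly when the normalizer of P is an internal direct product of P with some subgroup. -/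
theorem result {G : Type*} [Group G] [Finite G] {p : ℕ} [Fact p.Prime] (P : Sylow p G) (hP : IsMulCommutative P) : Cfsg.HasNormalPComplement p G ↔ ∃ Q : Subgroup G, Q ≤ Subgroup.centralizer (P : Set G) ∧ Q ⊓ (P : Subgroup G) = ⊥ ∧ Q ⊔ (P : Subgroup G) = Subgroup.normalizer (P : Set G) := by
  constructor
  · rintro ⟨P', K, hKn, hK'⟩
    have hK : K.IsComplement' (P : Subgroup G) := isComplement'_of_sylow P P' K hK'
    have hdisj : K ⊓ (P : Subgroup G) = ⊥ := hK.disjoint.eq_bot
    refine ⟨K ⊓ Subgroup.normalizer (P : Set G), ?_, ?_, ?_⟩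
    · rintro q ⟨hqK, hqN⟩
      rw [Subgroup.mem_centralizer_iff]
      intro x hx
      have hx' : x ∈ (P : Subgroup G) := hx
      -- the commutator q x q⁻¹ x⁻¹ lies in K ⊓ P
      have hcP : q * x * q⁻¹ * x⁻¹ ∈ (P : Subgroup G) := by
        have h1 : q * x * q⁻¹ ∈ (P : Subgroup G) := (Subgroup.mem_normalizer_iff.mp hqN x).mp hx'
        exact (P : Subgroup G).mul_mem h1 ((P : Subgroup G).inv_mem hx')
      have hcK : q * x * q⁻¹ * x⁻¹ ∈ K := by
        have h1 : x * q⁻¹ * x⁻¹ ∈ K := hKn.conj_mem q⁻¹ (K.inv_mem hqK) x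
        have : q * x * q⁻¹ * x⁻¹ = q * (x * q⁻¹ * x⁻¹) := by group
        rw [this]
        exact K.mul_mem hqK h1
      have h1 : q * x * q⁻¹ * x⁻¹ ∈ K ⊓ (P : Subgroup G) := ⟨hcK, hcP⟩
      rw [hdisj, Subgroup.mem_bot] at h1
      have : q * x = x * q := by
        have h2 : q * x * q⁻¹ * x⁻¹ * (x * q) = x * q := by rw [h1, one_mul]
        rw [← h2]; group
      exact this.symm
    · rw [eq_bot_iff, ← hdisj]
      exact inf_le_inf_right _ inf_le_left
    · apply le_antisymm
      · exact sup_le inf_le_right Subgroup.le_normalizer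
      · intro n hn
        obtain ⟨⟨⟨k, hk⟩, ⟨x, hx⟩⟩, hkx, -⟩ := (Subgroup.isComplement'_def.mp hK).existsUnique n
        simp only at hkx
        have hxN : x ∈ Subgroup.normalizer ((P : Subgroup G) : Set G) := Subgroup.le_normalizer hx
        have hkN : k ∈ Subgroup.normalizer ((P : Subgroup G) : Set G) := by
          have : k = n * x⁻¹ := by rw [← hkx]; group
          rw [this]
          exact Subgroup.mul_mem _ hn (Subgroup.inv_mem _ hxN)
        rw [← hkx]
        exact Subgroup.mul_mem _ (Subgroup.mem_sup_left ⟨hk, hkN⟩) (Subgroup.mem_sup_right hx)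
  · rintro ⟨Q, hQC, -, hQN⟩
    apply Cfsg.Agent.Lib.Helper11.hasNormalPComplement_of_normalizer_le_centralizer P
    have hQN' : Q ⊔ (P : Subgroup G) = Subgroup.normalizer ((P : Subgroup G) : Set G) := hQN
    rw [← hQN']
    apply sup_le hQC
    intro x hx
    rw [Subgroup.mem_centralizer_iff]
    intro y hy
    have := hP.is_comm.comm (⟨y, hy⟩ : P) ⟨x, hx⟩
    exact congrArg Subtype.val this

end Cfsg.Agent.S0083
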