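import Cfsg.Statements.S0084
import Cfsg.Agent.Lib.Helper11.Burnside
import Mathlib

set_option autoImplicit false
open Cfsg

namespace Cfsg.Agent.S0084

/-- A group whose Sylow 2-subgroups are Klein four-groups and whose order is prime to 3 has a normal 2-complement. -/
theorem result {G : Type*} [Group G] [Finite G] (T : Sylow 2 G) (hT : IsKleinFour T) (h3 : ¬ 3 ∣ Nat.card G) : Cfsg.HasNormalPComplement 2 G := by
  haveI : Fact (Nat.Prime 2) := ⟨Nat.prime_two⟩
  have hc : IsMulCommutative T := IsKleinFour.isMulCommutative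
  apply Cfsg.Agent.Lib.Helper11.hasNormalPComplement_of_card_range_eq_one T
  set r := Nat.card (T : Subgroup G).normalizerMonoidHom.range with hr
  have h1 : r ∣ (T : Subgroup G).index :=
    Cfsg.Agent.Lib.Helper11.card_range_normalizerMonoidHom_dvd_index T hc
  have h2 : r ∣ Nat.card (MulAut T) := Subgroup.card_subgroup_dvd_card _
  have h3' : Nat.card (MulAut T) ∣ Nat.card (Equiv.Perm T) :=
    Subgroup.card_dvd_of_injective (MulAut.toPerm T) (fun a b hab => by
      ext x
      have := congrArg (fun e : Equiv.Perm T => e x) hab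
      exact congrArg Subtype.val this)
  have h4 : Nat.card (Equiv.Perm T) = 24 := by
    have hcard : Nat.card T = 4 := hT.card_four
    classical
    letI : Fintype T := Fintype.ofFinite T
    rw [Nat.card_eq_fintype_card, Fintype.card_perm, ← Nat.card_eq_fintype_card, hcard]
    rfl
  have h5 : r ∣ 24 := h4 ▸ (h2.trans h3')
  have h6 : ¬ 2 ∣ r := fun h => T.not_dvd_index (h.trans h1)
  have h7 : ¬ 3 ∣ r := fun h => h3 ((h.trans h1).trans (Subgroup.index_dvd_card _))
  have hpos : 0 < r := Nat.card_pos
  have hle : r ≤ 24 := Nat.le_of_dvd (by norm_num) h5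
  interval_cases r <;> omega

end Cfsg.Agent.S0084
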