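import Cfsg.Statements.S0085
import Cfsg.Agent.Lib.Helper11.Burnside
import Mathlib

set_option autoImplicit false
open Cfsg

namespace Cfsg.Agent.S0085

/-- A prime dividing the order of the automorphism group of a group of order 8 is 2, 3 or 7. -/
theorem prime_dvd_card_mulAut_of_card_eight {T : Type*} [Group T] [Finite T] (h8 : Nat.card T = 8)
    (q : ℕ) (hq : q.Prime) (hdvd : q ∣ Nat.card (MulAut T)) : q = 2 ∨ q = 3 ∨ q = 7 := by
  haveI : Fact q.Prime := ⟨hq⟩
  obtain ⟨φ, hφ⟩ := exists_prime_orderOf_dvd_card' (G := MulAut T) q hdvd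
  have hpg : IsPGroup q (Subgroup.zpowers φ) := by
    apply IsPGroup.of_card (n := 1)
    rw [Nat.card_zpowers, hφ, pow_one]
  have hmod := hpg.card_modEq_card_fixedPoints T
  -- the fixed points form a subgroup
  let F : Subgroup T :=
    { carrier := {t | φ t = t}
      mul_mem' := by
        intro a b ha hb
        simp only [Set.mem_setOf_eq] at *
        rw [map_mul, ha, hb]
      one_mem' := by simp
      inv_mem' := by
        intro a ha
        simp only [Set.mem_setOf_eq] at *
        rw [map_inv, ha] }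
  have hfix : (MulAction.fixedPoints (Subgroup.zpowers φ) T) = (F : Set T) := by
    ext t
    simp only [MulAction.mem_fixedPoints, Subtype.forall]
    constructor
    · intro h
      exact h φ (Subgroup.mem_zpowers φ)
    · intro h ψ hψ
      obtain ⟨k, rfl⟩ := Subgroup.mem_zpowers_iff.mp hψ
      have hF : ∀ n : ℕ, (φ ^ n) t = t := by
        intro n
        induction n with
        | zero => simp
        | succ n ih => rw [pow_succ, MulAut.mul_apply, h, ih]
      have hcomm : (⟨φ ^ k, hψ⟩ : Subgroup.zpowers φ) • t = (φ ^ k) t := rfl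
      rw [hcomm]
      obtain ⟨n, hn | hn⟩ := Int.eq_nat_or_neg k
      · rw [hn, zpow_natCast]; exact hF n
      · rw [hn, zpow_neg, zpow_natCast]
        have := hF n
        calc (φ ^ n)⁻¹ t = (φ ^ n)⁻¹ ((φ ^ n) t) := by rw [this]
          _ = t := MulAut.inv_apply_self _ _ _
  have hcardF : Nat.card (MulAction.fixedPoints (Subgroup.zpowers φ) T) = Nat.card F := by
    rw [hfix]; rfl
  rw [hcardF, h8] at hmod
  have hFdvd : Nat.card F ∣ 8 := h8 ▸ Subgroup.card_subgroup_dvd_card F
  have hFne : Nat.card F ≠ 8 := by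
    intro hF8
    have hFtop : F = ⊤ := Subgroup.eq_top_of_card_eq F (by rw [hF8, h8])
    have hφ1 : φ = 1 := by
      ext t
      have : t ∈ F := by rw [hFtop]; trivial
      exact this
    rw [hφ1, orderOf_one] at hφ
    exact hq.one_lt.ne hφ
  have hFle : Nat.card F ≤ 8 := Nat.le_of_dvd (by norm_num) hFdvd
  have hFpos : 0 < Nat.card F := Nat.card_pos
  have hq2 := hq.two_le
  -- q divides 8 - card F
  have hsub : q ∣ 8 - Nat.card F := (Nat.modEq_iff_dvd' hFle).mp hmod.symm
  generalize Nat.card F = f at *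
  interval_cases f
  · -- f = 1 : q ∣ 7
    have : q ∣ 7 := hsub
    have := (Nat.prime_dvd_prime_iff_eq hq (by norm_num)).mp this
    omega
  · -- f = 2 : q ∣ 6
    have : q ∣ 2 * 3 := hsub
    rcases (Nat.Prime.dvd_mul hq).mp this with h | h
    · have := (Nat.prime_dvd_prime_iff_eq hq (by norm_num)).mp h; omega
    · have := (Nat.prime_dvd_prime_iff_eq hq (by norm_num)).mp h; omega
  · omega
  · -- f = 4 : q ∣ 4
    have : q ∣ 2 * 2 := hsub
    rcases (Nat.Prime.dvd_mul hq).mp this with h | h
    · have := (Nat.prime_dvd_prime_iff_eq hq (by norm_num)).mp h; omega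
    · have := (Nat.prime_dvd_prime_iff_eq hq (by norm_num)).mp h; omega
  · omega
  · omega
  · omega
  · exact absurd rfl hFne

/-- A group whose Sylow 2-subgroups are elementary abelian of order 8 and whose order is prime to 3 and to 7 has a normal 2-complement. -/
theorem result {G : Type*} [Group G] [Finite G] (T : Sylow 2 G) (h8 : Nat.card T = 8) (he : ∀ x : T, x * x = 1) (h3 : ¬ 3 ∣ Nat.card G) (h7 : ¬ 7 ∣ Nat.card G) : Cfsg.HasNormalPComplement 2 G := by
  haveI : Fact (Nat.Prime 2) := ⟨Nat.prime_two⟩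
  have hc : IsMulCommutative T := by
    refine ⟨⟨fun a b => ?_⟩⟩
    have h1 := he (a * b)
    have ha := he a
    have hb := he b
    -- a b a b = 1 → b a = a⁻¹ b⁻¹ ... use inverses equal to selves
    have ha' : a⁻¹ = a := inv_eq_of_mul_eq_one_left ha
    have hb' : b⁻¹ = b := inv_eq_of_mul_eq_one_left hb
    have hab : (a * b)⁻¹ = a * b := inv_eq_of_mul_eq_one_left h1
    rw [mul_inv_rev, ha', hb'] at hab
    exact hab.symm
  apply Cfsg.Agent.Lib.Helper11.hasNormalPComplement_of_card_range_eq_one T
  by_contra hne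
  obtain ⟨q, hq, hqr⟩ := Nat.exists_prime_and_dvd hne
  have h1 : q ∣ (T : Subgroup G).index :=
    hqr.trans (Cfsg.Agent.Lib.Helper11.card_range_normalizerMonoidHom_dvd_index T hc)
  have h2 : q ∣ Nat.card (MulAut T) := hqr.trans (Subgroup.card_subgroup_dvd_card _)
  have hG : q ∣ Nat.card G := h1.trans (Subgroup.index_dvd_card _)
  rcases prime_dvd_card_mulAut_of_card_eight h8 q hq h2 with rfl | rfl | rfl
  · exact T.not_dvd_index h1
  · exact h3 hG
  · exact h7 hG

end Cfsg.Agent.S0085
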