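import Cfsg.Statements.S0087
import Cfsg.Agent.Lib.Helper13.SZConjB
import Mathlib

set_option autoImplicit false
open Cfsg
open scoped Pointwise IsMulCommutative

namespace Cfsg.Agent.S0087

universe u

open Subgroup

/-- A subgroup contained in the centralizer of itself is commutative. -/
theorem isMulCommutative_of_le_centralizer {G : Type*} [Group G] (H : Subgroup G)
    (h : H ≤ centralizer (H : Set G)) : IsMulCommutative H :=
  ⟨⟨fun a b => Subtype.ext ((mem_centralizer_iff.mp (h a.2)) b b.2).symm⟩⟩

/-- Normal complement from the transfer, given that fusion in the abelian Hall subgroup `H` is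
trivial. -/
theorem exists_normal_complement_of_no_fusion {G : Type u} [Group G] [Finite G] (H : Subgroup G)
    (hc : IsMulCommutative H) (hHall : Nat.Coprime (Nat.card H) H.index)
    (hfus : ∀ x ∈ H, ∀ g : G, g⁻¹ * x * g ∈ H → g⁻¹ * x * g = x) :
    ∃ N : Subgroup G, N.Normal ∧ N.IsComplement' H := by
  set V : G →* H := MonoidHom.transfer (MonoidHom.id H) with hV
  have hVpow : ∀ h : H, V h = h ^ H.index := by
    intro h
    have key : ∀ (k : ℕ) (g₀ : G), g₀⁻¹ * (h : G) ^ k * g₀ ∈ H → g₀⁻¹ * (h : G) ^ k * g₀ = (h : G) ^ k :=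
      fun k g₀ hk => hfus _ (H.pow_mem h.2 k) g₀ hk
    have := MonoidHom.transfer_eq_pow (MonoidHom.id H) (h : G) key
    rw [hV, this]
    apply Subtype.ext
    simp
  have hsurj : Function.Surjective V := by
    intro h
    obtain ⟨h', hh'⟩ := (powCoprime hHall).surjective h
    refine ⟨(h' : G), ?_⟩
    rw [hVpow]; exact hh'
  have hidx : V.ker.index = Nat.card H := by
    rw [Subgroup.index_ker, MonoidHom.range_eq_top.mpr hsurj, Subgroup.card_top]
  have hcard : Nat.card V.ker * Nat.card H = Nat.card G := by
    rw [← hidx]; exact V.ker.card_mul_index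
  have hKcard : Nat.card V.ker = H.index := by
    have h1 := H.card_mul_index
    have hpos : 0 < Nat.card H := Nat.card_pos
    have : Nat.card V.ker * Nat.card H = H.index * Nat.card H := by
      rw [hcard, ← h1]; ring
    exact Nat.eq_of_mul_eq_mul_right hpos this
  refine ⟨V.ker, inferInstance, Subgroup.isComplement'_of_coprime hcard ?_⟩
  rw [hKcard]; exact hHall.symm

/-- The main induction: no fusion in an abelian Hall subgroup which is central in its normalizer. -/
theorem no_fusion_aux (n : ℕ) : ∀ (G : Type u) [Group G] [Finite G], Nat.card G = n →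
    ∀ (H : Subgroup G), Nat.Coprime (Nat.card H) H.index →
    normalizer (H : Set G) ≤ centralizer (H : Set G) →
    ∀ x ∈ H, ∀ g : G, g⁻¹ * x * g ∈ H → g⁻¹ * x * g = x := by
  induction n using Nat.strong_induction_on with
  | _ n ih =>
  intro G _ _ hn H hHall hNC x hx g hy
  have hHC : H ≤ centralizer (H : Set G) := le_normalizer.trans hNC
  have hc : IsMulCommutative H := isMulCommutative_of_le_centralizer H hHC
  set y := g⁻¹ * x * g with hydef
  set C : Subgroup G := centralizer ({y} : Set G) with hC
  -- H and its conjugate lie in C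
  have hHleC : H ≤ C := by
    intro h hh
    rw [hC, mem_centralizer_iff]
    rintro z rfl
    exact (mem_centralizer_iff.mp (hHC hh)) y hy
  set H' : Subgroup G := MulAut.conj g⁻¹ • H with hH'
  have hH'mem : ∀ z, z ∈ H' ↔ g * z * g⁻¹ ∈ H := by
    intro z
    rw [hH', Cfsg.Agent.Lib.Helper13.mem_cj, inv_inv]
  have hH'leC : H' ≤ C := by
    intro z hz
    rw [hH'mem] at hz
    rw [hC, mem_centralizer_iff]
    rintro w rfl
    have h1 := (mem_centralizer_iff.mp (hHC hz)) x hx
    -- x * (g z g⁻¹) = (g z g⁻¹) * x
    calc g⁻¹ * x * g * z = g⁻¹ * (x * (g * z * g⁻¹)) * g := by group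
      _ = g⁻¹ * ((g * z * g⁻¹) * x) * g := by rw [h1]
      _ = z * (g⁻¹ * x * g) := by group
  by_cases hCtop : C = ⊤
  · -- y is central
    have hyc : ∀ w : G, w * y = y * w := by
      intro w
      have : w ∈ C := by rw [hCtop]; trivial
      rw [hC, mem_centralizer_iff] at this
      exact (this y rfl).symm
    have : x = g * y * g⁻¹ := by rw [hydef]; group
    rw [this, hyc g]; group
  · -- induction inside C
    have hClt : Nat.card C < n := by
      rw [← hn]
      have := Cfsg.Agent.Lib.Helper13.card_lt_of_lt (lt_top_iff_ne_top.mpr hCtop)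
      rwa [Subgroup.card_top] at this
    set HC : Subgroup C := H.subgroupOf C with hHC'
    have hcardHC : Nat.card HC = Nat.card H := Cfsg.Agent.Lib.Helper13.card_subgroupOf_of_le hHleC
    have hHallC : Nat.Coprime (Nat.card HC) HC.index := by
      rw [hcardHC]
      have h1 : HC.index ∣ H.index := Subgroup.relIndex_dvd_index_of_le hHleC
      exact Nat.Coprime.coprime_dvd_right h1 hHall
    have hNCC : normalizer (HC : Set C) ≤ centralizer (HC : Set C) := by
      intro c hc'
      have h1 : c ∈ (normalizer (H : Set G)).subgroupOf C := by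
        rw [Subgroup.subgroupOf_normalizer_eq hHleC]; exact hc'
      have h2 : (c : G) ∈ centralizer (H : Set G) := hNC (mem_subgroupOf.mp h1)
      rw [mem_centralizer_iff]
      intro z hz
      have hz' : (z : G) ∈ H := mem_subgroupOf.mp hz
      exact Subtype.ext ((mem_centralizer_iff.mp h2) z hz')
    have hfusC := ih (Nat.card C) hClt C rfl HC hHallC hNCC
    have hcC : IsMulCommutative HC :=
      isMulCommutative_of_le_centralizer HC (le_normalizer.trans hNCC)
    obtain ⟨K, hKn, hK⟩ := exists_normal_complement_of_no_fusion HC hcC hHallC hfusC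
    -- the conjugate H' is also a complement to K in C
    set H'C : Subgroup C := H'.subgroupOf C with hH'C
    have hcardH' : Nat.card H' = Nat.card H := Cfsg.Agent.Lib.Helper13.card_cj g⁻¹ H
    have hcardH'C : Nat.card H'C = Nat.card H := by
      rw [← hcardH']; exact Cfsg.Agent.Lib.Helper13.card_subgroupOf_of_le hH'leC
    have hKcard : Nat.card K * Nat.card HC = Nat.card C := hK.card_mul_card
    have hKidx : Nat.card K = HC.index := hK.index_eq_card.symm
    have hcop : (Nat.card K).Coprime (Nat.card HC) := by
      rw [hKidx]; exact hHallC.symm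
    have hK' : K.IsComplement' H'C := by
      apply Subgroup.isComplement'_of_coprime
      · rw [hcardH'C, ← hcardHC]; exact hKcard
      · rw [hcardH'C, ← hcardHC]; exact hcop
    have hsolv : Group.IsSolvable HC :=
      Group.isSolvable_of_comm (fun a b => hcC.is_comm.comm a b)
    obtain ⟨c, -, hcconj⟩ := Cfsg.Agent.Lib.Helper13.sz_conj K HC H'C (Or.inr hsolv) hcop hK hK'
    -- g * c normalizes H
    have hgc : g * (c : G) ∈ normalizer (H : Set G) := by
      apply Subgroup.mem_normalizer_fintype
      intro h hh
      have hhC : (⟨h, hHleC hh⟩ : C) ∈ HC := mem_subgroupOf.mpr hh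
      have h1 : c * ⟨h, hHleC hh⟩ * c⁻¹ ∈ MulAut.conj c • HC := by
        rw [Cfsg.Agent.Lib.Helper13.mem_cj]
        have : c⁻¹ * (c * ⟨h, hHleC hh⟩ * c⁻¹) * c = ⟨h, hHleC hh⟩ := by group
        rw [this]; exact hhC
      rw [hcconj] at h1
      have h2 : ((c * ⟨h, hHleC hh⟩ * c⁻¹ : C) : G) ∈ H' := mem_subgroupOf.mp h1
      rw [hH'mem] at h2
      have h3 : g * (c : G) * h * (g * (c : G))⁻¹ = g * ((c : G) * h * (c : G)⁻¹) * g⁻¹ := by group
      rw [SetLike.mem_coe, h3]
      exact h2
    have hgcx := (mem_centralizer_iff.mp (hNC hgc)) x hx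
    -- c commutes with y
    have hcy : y * (c : G) = (c : G) * y := by
      have hc2 : (c : G) ∈ centralizer ({y} : Set G) := c.2
      exact (mem_centralizer_iff.mp hc2) y rfl
    -- conclude
    have h4 : (c : G) * x * (c : G)⁻¹ = y := by
      rw [hydef]
      have : x = (g * (c : G)) * x * (g * (c : G))⁻¹ := by
        rw [← hgcx]; group
      calc (c : G) * x * (c : G)⁻¹ = g⁻¹ * ((g * (c : G)) * x * (g * (c : G))⁻¹) * g := by group
        _ = g⁻¹ * x * g := by rw [← this]
    have h5 : x = (c : G)⁻¹ * y * (c : G) := by rw [← h4]; group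
    rw [h5, mul_assoc, hcy]; group

/-- A Hall subgroup that is central in its normalizer has a normal complement. -/
theorem result {G : Type*} [Group G] [Finite G] (H : Subgroup G) (hHall : Nat.Coprime (Nat.card H) H.index) (h : Subgroup.normalizer (H : Set G) ≤ Subgroup.centralizer (H : Set G)) : ∃ N : Subgroup G, N.Normal ∧ N.IsComplement' H := by
  have hc : IsMulCommutative H := isMulCommutative_of_le_centralizer H (le_normalizer.trans h)
  exact exists_normal_complement_of_no_fusion H hc hHall
    (no_fusion_aux (Nat.card G) G rfl H hHall h)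

end Cfsg.Agent.S0087
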