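import Cfsg.Statements.S0090
import Mathlib
import Cfsg.Agent.S0055
import Cfsg.Agent.S0088

set_option autoImplicit false
open Cfsg

namespace Cfsg.Agent.S0090

open scoped Pointwise

/-- An abelian normal Hall subgroup A splits as the internal direct product of G' ∩ A and Z(G) ∩ A, and [A, G] = G' ∩ A. -/
theorem result {G : Type*} [Group G] [Finite G] (A : Subgroup G) [A.Normal] (hc : IsMulCommutative A) (hHall : Nat.Coprime (Nat.card A) A.index) : ⁅A, (⊤ : Subgroup G)⁆ = commutator G ⊓ A ∧ (commutator G ⊓ A) ⊓ (Subgroup.center G ⊓ A) = ⊥ ∧ (commutator G ⊓ A) ⊔ (Subgroup.center G ⊓ A) = A := by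
  obtain ⟨K, hK⟩ := Subgroup.exists_right_complement'_of_coprime hHall
  have hcardK : A.index = Nat.card K := hK.symm.index_eq_card
  have hKA : K ≤ Subgroup.normalizer (A : Set G) := by
    rw [Subgroup.normalizer_eq_top A]; exact le_top
  have hcop : (Nat.card K).Coprime (Nat.card A) := by rw [← hcardK]; exact hHall.symm
  obtain ⟨h55a, h55b⟩ := Cfsg.Agent.S0055.result K A hKA hcop
  have h88 := Cfsg.Agent.S0088.result A hc hHall
  have hAcomm : ∀ a ∈ A, ∀ b ∈ A, a * b = b * a := fun a ha b hb =>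
    congrArg Subtype.val (mul_comm' (⟨a, ha⟩ : A) ⟨b, hb⟩)
  -- C_A(K) ≤ Z(G)
  have hCZ : A ⊓ Subgroup.centralizer (K : Set G) ≤ Subgroup.center G ⊓ A := by
    rintro c ⟨hcA, hcK⟩
    refine ⟨?_, hcA⟩
    show c ∈ Subgroup.center G
    rw [Subgroup.mem_center_iff]
    intro g
    have hg : g ∈ ((A ⊔ K : Subgroup G) : Set G) := by rw [hK.sup_eq_top]; trivial
    rw [Subgroup.normal_mul, Set.mem_mul] at hg
    obtain ⟨a, ha, k, hk, rfl⟩ := hg
    have hcK' : c ∈ Subgroup.centralizer (K : Set G) := hcK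
    have h1 : k * c = c * k := (Subgroup.mem_centralizer_iff.mp hcK') k hk
    have h2 : a * c = c * a := hAcomm a ha c hcA
    rw [mul_assoc, h1, ← mul_assoc, h2, mul_assoc]
  have hDle : ⁅A, K⁆ ≤ ⁅A, (⊤ : Subgroup G)⁆ := Subgroup.commutator_mono le_rfl le_top
  have hAGle : ⁅A, (⊤ : Subgroup G)⁆ ≤ commutator G ⊓ A :=
    le_inf (by rw [commutator_def]; exact Subgroup.commutator_mono le_top le_rfl)
      (Subgroup.commutator_le_left A ⊤)
  have h2 : (commutator G ⊓ A) ⊓ (Subgroup.center G ⊓ A) = ⊥ := by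
    rw [eq_bot_iff, ← h88]
    rintro x ⟨⟨hx1, hx2⟩, hx3, -⟩
    exact ⟨⟨hx2, hx1⟩, hx3⟩
  have h3 : (commutator G ⊓ A) ⊔ (Subgroup.center G ⊓ A) = A := by
    apply le_antisymm (sup_le inf_le_right inf_le_right)
    calc A = (A ⊓ Subgroup.centralizer (K : Set G)) ⊔ ⁅A, K⁆ := h55b.symm
      _ ≤ (Subgroup.center G ⊓ A) ⊔ (commutator G ⊓ A) := sup_le_sup hCZ (hDle.trans hAGle)
      _ = _ := sup_comm _ _
  refine ⟨le_antisymm hAGle ?_, h2, h3⟩
  -- G' ∩ A ≤ [A, G]
  rintro x ⟨hxG, hxA⟩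
  haveI hCn : (A ⊓ Subgroup.centralizer (K : Set G)).Normal := by
    constructor
    intro c hcm g
    have hz : c ∈ Subgroup.center G := (hCZ hcm).1
    rw [Subgroup.mem_center_iff] at hz
    rw [hz g, mul_inv_cancel_right]
    exact hcm
  have hx : x ∈ (((A ⊓ Subgroup.centralizer (K : Set G)) ⊔ ⁅A, K⁆ : Subgroup G) : Set G) := by
    rw [h55b]; exact hxA
  rw [Subgroup.normal_mul, Set.mem_mul] at hx
  obtain ⟨z, hz, c, hcD, rfl⟩ := hx
  have hcm := hAGle (hDle hcD)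
  have hzG : z ∈ commutator G := by
    have := (commutator G).mul_mem hxG ((commutator G).inv_mem hcm.1)
    rwa [mul_inv_cancel_right] at this
  have hz1 : z = 1 := by
    have : z ∈ A ⊓ commutator G ⊓ Subgroup.center G := ⟨⟨hz.1, hzG⟩, (hCZ hz).1⟩
    rwa [h88, Subgroup.mem_bot] at this
  rw [hz1, one_mul]
  exact hDle hcD

end Cfsg.Agent.S0090
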