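import Cfsg.Statements.S0091
import Mathlib

set_option autoImplicit false
open Cfsg
open scoped commutatorElement

namespace Cfsg.Agent.S0091

/-- If a nontrivial Sylow p-subgroup controls its own fusion then it is not contained in the derived subgroup. -/
theorem result {G : Type*} [Group G] [Finite G] {p : ℕ} [Fact p.Prime] (P : Sylow p G) (hp : p ∣ Nat.card G) (h : ∀ x ∈ P, ∀ y ∈ P, (∃ g : G, g * x * g⁻¹ = y) → ∃ z ∈ P, z * x * z⁻¹ = y) : ¬ (P : Subgroup G) ≤ commutator G := by
  intro hle
  have hfoc : (P : Subgroup G).focalSubgroup ≤ ⁅(P : Subgroup G), (P : Subgroup G)⁆ := by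
    rw [Subgroup.focalSubgroup_def, Subgroup.closure_le]
    rintro g ⟨hgP, x, hx, u, rfl⟩
    -- ⁅x, u⁆ = x * u * x⁻¹ * u⁻¹
    have hux : u * x⁻¹ * u⁻¹ ∈ (P : Subgroup G) := by
      have : u * x⁻¹ * u⁻¹ = x⁻¹ * ⁅x, u⁆ := by
        simp [commutatorElement_def, mul_assoc]
      rw [this]
      exact (P : Subgroup G).mul_mem ((P : Subgroup G).inv_mem hx) hgP
    obtain ⟨z, hz, hzx⟩ := h x⁻¹ ((P : Subgroup G).inv_mem hx) _ hux ⟨u, rfl⟩
    have : ⁅x, u⁆ = ⁅x, z⁆ := by
      simp only [commutatorElement_def]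
      have e1 : x * u * x⁻¹ * u⁻¹ = x * (u * x⁻¹ * u⁻¹) := by simp [mul_assoc]
      have e2 : x * z * x⁻¹ * z⁻¹ = x * (z * x⁻¹ * z⁻¹) := by simp [mul_assoc]
      rw [e1, e2, hzx]
    rw [SetLike.mem_coe, this]
    exact Subgroup.commutator_mem_commutator hx hz
  have hfocal := Subgroup.commutator_inf_eq_focalSubgroup P
  have hPle : (P : Subgroup G) ≤ ⁅(P : Subgroup G), (P : Subgroup G)⁆ := by
    calc (P : Subgroup G) = commutator G ⊓ (P : Subgroup G) := by
          rw [inf_eq_right.mpr hle]
      _ = (P : Subgroup G).focalSubgroup := hfocal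
      _ ≤ _ := hfoc
  -- P is a nontrivial nilpotent group so its commutator is proper
  have hnt : Nontrivial (P : Subgroup G) := by
    have hcard : Nat.card P ≠ 1 := by
      intro h1
      have := P.card_eq_multiplicity
      rw [h1] at this
      have hpos : 0 < (Nat.card G).factorization p :=
        (Fact.out : p.Prime).factorization_pos_of_dvd Nat.card_pos.ne' hp
      have : 1 < p ^ (Nat.card G).factorization p :=
        Nat.one_lt_pow hpos.ne' (Fact.out : p.Prime).one_lt
      omega
    exact Finite.one_lt_card_iff_nontrivial.mp (by have := Nat.card_pos (α := P); omega)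
  have hnil : Group.IsNilpotent (P : Subgroup G) := P.2.isNilpotent
  have hsol : Group.IsSolvable (P : Subgroup G) := inferInstance
  have hlt := Group.IsSolvable.commutator_lt_top_of_nontrivial (P : Subgroup G)
  have : commutator (P : Subgroup G) = ⊤ := by
    rw [eq_top_iff]
    intro x _
    have hx : (x : G) ∈ ⁅(P : Subgroup G), (P : Subgroup G)⁆ := hPle x.2
    rw [← Subgroup.map_subtype_commutator] at hx
    obtain ⟨y, hy, hyx⟩ := hx
    have : y = x := Subtype.ext hyx
    rw [← this]; exact hy
  exact hlt.ne this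

end Cfsg.Agent.S0091
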