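import Cfsg.Statements.S0092
import Mathlib
import Cfsg.Agent.S0075
import Cfsg.Agent.S0088
import Cfsg.Agent.Lib.Helper13.Coprime
import Cfsg.Agent.Lib.Helper13.SZConjB
import Cfsg.Agent.Lib.Helper2.CarterSN

set_option autoImplicit false
open Cfsg

namespace Cfsg.Agent.S0092

open Cfsg.Agent.Lib.Helper13
open scoped Pointwise

universe u

theorem res_res_eq_top {G : Type*} [Group G] (p : ℕ) :
    Cfsg.pResidual p ↥(Cfsg.pResidual p G) = ⊤ := by
  rw [eq_top_iff]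
  have hle : Cfsg.pResidual p G ≤
      (Cfsg.pResidual p ↥(Cfsg.pResidual p G)).map (Cfsg.pResidual p G).subtype := by
    conv_lhs => unfold Cfsg.pResidual
    rw [Subgroup.closure_le]
    intro g hg
    have hgN : g ∈ Cfsg.pResidual p G := Cfsg.Agent.S0075.mem_res_of_coprime p hg
    refine ⟨⟨g, hgN⟩, ?_, rfl⟩
    apply Cfsg.Agent.S0075.mem_res_of_coprime
    rw [Subgroup.orderOf_mk]; exact hg
  rintro ⟨x, hx⟩ _
  obtain ⟨y, hy, hyx⟩ := hle hx
  have : y = ⟨x, hx⟩ := Subtype.ext hyx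
  rw [← this]; exact hy

/-- Relative Schur–Zassenhaus existence. -/
theorem exists_rel_complement {G : Type*} [Group G] [Finite G] (Q L : Subgroup G) (hQL : Q ≤ L)
    (hn : L ≤ Subgroup.normalizer (Q : Set G)) (hcop : (Nat.card Q).Coprime (Q.relIndex L)) :
    ∃ H : Subgroup G, H ≤ L ∧ Q ⊓ H = ⊥ ∧ Q ⊔ H = L ∧ Nat.card H = Q.relIndex L ∧
      ∀ l ∈ L, ∃ q ∈ Q, ∃ h ∈ H, l = q * h := by
  haveI : (Q.subgroupOf L).Normal := (Subgroup.normal_subgroupOf_iff_le_normalizer hQL).mpr hn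
  have hcop' : (Nat.card (Q.subgroupOf L)).Coprime (Q.subgroupOf L).index := by
    rw [Nat.card_congr (Subgroup.subgroupOfEquivOfLe hQL).toEquiv]; exact hcop
  obtain ⟨H₀, hH₀⟩ := Subgroup.exists_right_complement'_of_coprime hcop'
  refine ⟨H₀.map L.subtype, Subgroup.map_subtype_le _, ?_, ?_, ?_, ?_⟩
  · rw [eq_bot_iff]
    rintro x ⟨hxQ, y, hy, rfl⟩
    have : y ∈ Q.subgroupOf L ⊓ H₀ := Subgroup.mem_inf.mpr ⟨Subgroup.mem_subgroupOf.mpr hxQ, hy⟩
    rw [disjoint_iff.mp hH₀.disjoint, Subgroup.mem_bot] at this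
    rw [Subgroup.mem_bot, this]; rfl
  · have h1 := congrArg (Subgroup.map L.subtype) hH₀.sup_eq_top
    rwa [Subgroup.map_sup, Subgroup.map_subgroupOf_eq_of_le hQL, ← MonoidHom.range_eq_map,
      Subgroup.range_subtype] at h1
  · rw [Nat.card_congr (Subgroup.equivMapOfInjective H₀ L.subtype
      (Subgroup.subtype_injective L)).toEquiv.symm]
    exact (hH₀.symm.index_eq_card).symm
  · intro l hl
    obtain ⟨⟨q', h'⟩, e⟩ := hH₀.2 ⟨l, hl⟩
    refine ⟨(q' : L), Subgroup.mem_subgroupOf.mp q'.2, (h' : L), ⟨h', h'.2, rfl⟩, ?_⟩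
    exact (congrArg Subtype.val e).symm

/-- If the Sylow p-subgroups of O^p(G) are abelian then G splits over O^p(G). -/
theorem result {G : Type*} [Group G] [Finite G] {p : ℕ} [Fact p.Prime] (h : ∀ Q : Sylow p (Cfsg.pResidual p G), IsMulCommutative Q) : ∃ K : Subgroup G, K.IsComplement' (Cfsg.pResidual p G) := by
  have hp : p.Prime := Fact.out
  haveI hNn : (Cfsg.pResidual p G).Normal := Cfsg.Agent.S0075.res_normal p
  obtain ⟨Q₀⟩ : Nonempty (Sylow p (Cfsg.pResidual p G)) := inferInstance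
  have hQ₀c := h Q₀
  have hB : (Q₀ : Subgroup (Cfsg.pResidual p G)) = ⁅(Q₀ : Subgroup (Cfsg.pResidual p G)),
      Subgroup.normalizer ((Q₀ : Subgroup (Cfsg.pResidual p G)) : Set (Cfsg.pResidual p G))⁆ := by
    have := Cfsg.Agent.S0075.result Q₀ hQ₀c
    rw [res_res_eq_top, inf_top_eq] at this
    exact this
  have hpgquot : IsPGroup p (G ⧸ Cfsg.pResidual p G) := Cfsg.Agent.S0075.quot_isPGroup p
  generalize Cfsg.pResidual p G = N at *
  obtain ⟨Q, hQ⟩ : ∃ Q : Subgroup G, Q = (Q₀ : Subgroup N).map N.subtype := ⟨_, rfl⟩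
  have hQN : Q ≤ N := hQ ▸ Subgroup.map_subtype_le _
  have hQ₀eq : (Q₀ : Subgroup N) = Q.subgroupOf N := by
    rw [hQ]
    exact (Subgroup.comap_map_eq_self_of_injective (Subgroup.subtype_injective N) _).symm
  obtain ⟨M, hM⟩ : ∃ M : Subgroup G, M = Subgroup.normalizer (Q : Set G) := ⟨_, rfl⟩
  have hQM : Q ≤ M := hM ▸ Subgroup.le_normalizer
  have hfrat : M ⊔ N = ⊤ := by
    rw [hM, hQ]; exact Sylow.normalizer_sup_eq_top Q₀
  have hnormN : Subgroup.normalizer ((Q₀ : Subgroup N) : Set N) = M.subgroupOf N := by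
    rw [hQ₀eq, hM, ← Subgroup.subgroupOf_normalizer_eq hQN]
  have hB' : Q ≤ ⁅Q, M ⊓ N⁆ := by
    have h1 := congrArg (Subgroup.map N.subtype) hB
    rw [Subgroup.map_commutator, hnormN, Subgroup.subgroupOf_map_subtype, ← hQ] at h1
    exact h1.le
  obtain ⟨L, hL⟩ : ∃ L : Subgroup G, L = M ⊓ N := ⟨_, rfl⟩
  rw [← hL] at hB'
  have hQL : Q ≤ L := hL ▸ le_inf hQM hQN
  have hLM : L ≤ M := hL ▸ inf_le_left
  have hLN : L ≤ N := hL ▸ inf_le_right
  have hQcomm : ∀ a ∈ Q, ∀ b ∈ Q, a * b = b * a := by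
    rw [hQ]
    rintro _ ⟨a, ha, rfl⟩ _ ⟨b, hb, rfl⟩
    have := hQ₀c.is_comm.comm ⟨a, ha⟩ ⟨b, hb⟩
    exact congrArg (fun x : Q₀ => ((x : N) : G)) this
  have hQp : IsPGroup p Q := by
    rw [hQ]; exact Q₀.isPGroup'.map N.subtype
  obtain ⟨k, hk⟩ := IsPGroup.iff_card.mp hQp
  have hQrel : ¬ p ∣ Q.relIndex N := by
    have : Q.relIndex N = (Q₀ : Subgroup N).index := by
      rw [Subgroup.relIndex, ← hQ₀eq]
    rw [this]; exact Q₀.not_dvd_index
  have hQrelL : ¬ p ∣ Q.relIndex L := fun hd =>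
    hQrel (hd.trans (Dvd.intro _ (Subgroup.relIndex_mul_relIndex Q L N hQL hLN)))
  have hcopQL : (Nat.card Q).Coprime (Q.relIndex L) := by
    rw [hk]; exact Nat.Coprime.pow_left k ((Nat.Prime.coprime_iff_not_dvd hp).mpr hQrelL)
  -- Step C': Q ⊓ centralizer L = ⊥
  have hC : Q ⊓ Subgroup.centralizer (L : Set G) = ⊥ := by
    have hc' : IsMulCommutative (Q.subgroupOf L) :=
      ⟨⟨fun a b => Subtype.ext (Subtype.ext (hQcomm _ (Subgroup.mem_subgroupOf.mp a.2) _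
        (Subgroup.mem_subgroupOf.mp b.2)))⟩⟩
    have hHall : (Nat.card (Q.subgroupOf L)).Coprime (Q.subgroupOf L).index := by
      rw [Nat.card_congr (Subgroup.subgroupOfEquivOfLe hQL).toEquiv]; exact hcopQL
    have h88 := Cfsg.Agent.S0088.result (Q.subgroupOf L) hc' hHall
    rw [eq_bot_iff]
    intro x hx
    obtain ⟨hxQ, hxC⟩ := Subgroup.mem_inf.mp hx
    have hxL : x ∈ L := hQL hxQ
    have h1 : (⟨x, hxL⟩ : L) ∈ Q.subgroupOf L := Subgroup.mem_subgroupOf.mpr hxQ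
    have h2 : (⟨x, hxL⟩ : L) ∈ commutator L := by
      have h3 : x ∈ ⁅L, L⁆ := Subgroup.commutator_mono hQL le_rfl (hB' hxQ)
      rw [← Subgroup.map_subtype_commutator] at h3
      obtain ⟨z, hz, hzx⟩ := h3
      have : z = ⟨x, hxL⟩ := Subtype.ext hzx
      rw [← this]; exact hz
    have h3 : (⟨x, hxL⟩ : L) ∈ Subgroup.center L := by
      rw [Subgroup.mem_center_iff]
      intro g
      apply Subtype.ext
      exact (Subgroup.mem_centralizer_iff.mp hxC) g g.2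
    have h4 : (⟨x, hxL⟩ : L) ∈ Q.subgroupOf L ⊓ commutator L ⊓ Subgroup.center L :=
      Subgroup.mem_inf.mpr ⟨Subgroup.mem_inf.mpr ⟨h1, h2⟩, h3⟩
    rw [h88, Subgroup.mem_bot] at h4
    rw [Subgroup.mem_bot]
    exact congrArg Subtype.val h4
  -- Step D
  have hLnorm : L ≤ Subgroup.normalizer (Q : Set G) := hM ▸ hLM
  obtain ⟨H, hHL, hQH, hQHsup, hHcard, hdecomp⟩ := exists_rel_complement Q L hQL hLnorm hcopQL
  have hcopQH : (Nat.card Q).Coprime (Nat.card H) := hHcard ▸ hcopQL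
  have hHp : (Nat.card H).Coprime p := by
    rw [hHcard]; exact ((Nat.Prime.coprime_iff_not_dvd hp).mpr hQrelL).symm
  obtain ⟨R, hR⟩ : ∃ R : Subgroup G, R = Subgroup.normalizer (H : Set G) ⊓ M := ⟨_, rfl⟩
  have hHnormQ : H ≤ Subgroup.normalizer (Q : Set G) := hHL.trans hLnorm
  -- Step E
  have hE : ∀ m ∈ M, ∃ q ∈ Q, ∃ r ∈ R, m = q * r := by
    intro m hm
    have hBL : MulAut.conj m • H ≤ Q ⊔ H := by
      rw [hQHsup, hL]
      intro y hy
      rw [mem_cj] at hy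
      have hyL : m⁻¹ * y * m ∈ L := hHL hy
      have e : y = m * (m⁻¹ * y * m) * m⁻¹ := by group
      rw [e]
      refine Subgroup.mem_inf.mpr ⟨M.mul_mem (M.mul_mem hm (hLM hyL)) (M.inv_mem hm), ?_⟩
      exact hNn.conj_mem _ (hLN hyL) m
    haveI : Group.IsNilpotent Q := hQp.isNilpotent
    obtain ⟨n, hnQ, hn⟩ := rel_sz_conj Q H (MulAut.conj m • H) hHnormQ hBL (card_cj m H) hcopQH
      (Or.inl inferInstance)
    refine ⟨n, hnQ, n⁻¹ * m, ?_, by group⟩
    rw [hR]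
    refine Subgroup.mem_inf.mpr ⟨?_, M.mul_mem (M.inv_mem (hQM hnQ)) hm⟩
    rw [← cj_eq_self_iff_mem_normalizer, cj_mul, ← hn, ← cj_mul, inv_mul_cancel, cj_one]
  -- Step F
  have hF : Q ⊓ R = ⊥ := by
    rw [eq_bot_iff, ← hC]
    intro x hx
    obtain ⟨hxQ, hxR⟩ := Subgroup.mem_inf.mp hx
    rw [hR] at hxR
    have hxNH := (Subgroup.mem_inf.mp hxR).1
    have hxCH : x ∈ Subgroup.centralizer (H : Set G) :=
      mem_centralizer_of_mem_normalizer H Q hHnormQ hQH x hxQ hxNH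
    refine Subgroup.mem_inf.mpr ⟨hxQ, ?_⟩
    rw [Subgroup.mem_centralizer_iff]
    intro l hl
    obtain ⟨q, hq, h', hh', rfl⟩ := hdecomp l hl
    have e1 := hQcomm q hq x hxQ
    have e2 := (Subgroup.mem_centralizer_iff.mp hxCH) h' hh'
    calc q * h' * x = q * (h' * x) := by group
      _ = q * (x * h') := by rw [e2]
      _ = (q * x) * h' := by group
      _ = (x * q) * h' := by rw [e1]
      _ = x * (q * h') := by group
  -- Step G1
  have hG1 : R ⊓ N ≤ H := by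
    intro x hx
    obtain ⟨hxR, hxN⟩ := Subgroup.mem_inf.mp hx
    have hxR' := hxR
    rw [hR] at hxR'
    obtain ⟨hxNH, hxM⟩ := Subgroup.mem_inf.mp hxR'
    have hxL : x ∈ L := by rw [hL]; exact Subgroup.mem_inf.mpr ⟨hxM, hxN⟩
    obtain ⟨q, hq, h', hh', rfl⟩ := hdecomp x hxL
    have hqR : q ∈ R := by
      rw [hR]
      refine Subgroup.mem_inf.mpr ⟨?_, hQM hq⟩
      have e : q = (q * h') * h'⁻¹ := by group
      rw [e]
      exact Subgroup.mul_mem _ hxNH (Subgroup.inv_mem _ (Subgroup.le_normalizer hh'))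
    have hq1 : q ∈ Q ⊓ R := Subgroup.mem_inf.mpr ⟨hq, hqR⟩
    rw [hF, Subgroup.mem_bot] at hq1
    rw [hq1, one_mul]; exact hh'
  -- Step G2
  have hG2 : R ⊔ N = ⊤ := by
    rw [eq_top_iff]
    intro g _
    have hg : g ∈ M ⊔ N := by rw [hfrat]; exact Subgroup.mem_top g
    obtain ⟨m, hm, n, hn, rfl⟩ := Subgroup.mem_sup_of_normal_right.mp hg
    obtain ⟨q, hq, r, hr, rfl⟩ := hE m hm
    have e : q * r * n = r * ((r⁻¹ * q * r⁻¹⁻¹) * n) := by group
    rw [e]
    exact Subgroup.mul_mem_sup hr (N.mul_mem (hNn.conj_mem q (hQN hq) r⁻¹) hn)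
  -- Step H
  obtain ⟨K₀⟩ : Nonempty (Sylow p R) := inferInstance
  obtain ⟨n, hn⟩ := IsPGroup.iff_card.mp hpgquot
  have hNidx : N.index = p ^ n := by rw [Subgroup.index_eq_card]; exact hn
  have hrel : N.relIndex R = p ^ n := by
    have := Subgroup.relIndex_sup_right R N
    rw [hG2, Subgroup.relIndex_top_right] at this
    rw [← this, hNidx]
  have hcopX : (Nat.card (N.subgroupOf R)).Coprime p := by
    have h1 : Nat.card (N.subgroupOf R) ∣ Nat.card H := by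
      rw [← Subgroup.inf_subgroupOf_right,
        Nat.card_congr (Subgroup.subgroupOfEquivOfLe (inf_le_right : N ⊓ R ≤ R)).toEquiv]
      exact Subgroup.card_dvd_of_le (by rw [inf_comm]; exact hG1)
    exact Nat.Coprime.coprime_dvd_left h1 hHp
  have hfac := Cfsg.Agent.Lib.Helper2.index_eq_pow_factorization p hp (N.subgroupOf R) hcopX n hrel
  have hKcard : Nat.card ((K₀ : Subgroup R).map R.subtype) = p ^ n := by
    rw [Nat.card_congr (Subgroup.equivMapOfInjective (K₀ : Subgroup R) R.subtype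
      (Subgroup.subtype_injective R)).toEquiv.symm, Sylow.card_eq_multiplicity, ← hfac]
    exact hrel
  have hKR : (K₀ : Subgroup R).map R.subtype ≤ R := Subgroup.map_subtype_le _
  refine ⟨(K₀ : Subgroup R).map R.subtype, ?_⟩
  apply Subgroup.isComplement'_of_card_mul_and_disjoint
  · rw [hKcard, ← hNidx, Subgroup.index_mul_card]
  · rw [disjoint_iff, eq_bot_iff]
    intro x hx
    obtain ⟨hxK, hxN⟩ := Subgroup.mem_inf.mp hx
    have hxH : x ∈ H := hG1 (Subgroup.mem_inf.mpr ⟨hKR hxK, hxN⟩)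
    have hKH : (K₀ : Subgroup R).map R.subtype ⊓ H = ⊥ := by
      apply Subgroup.inf_eq_bot_of_coprime
      rw [hKcard]
      exact Nat.Coprime.pow_left n hHp.symm
    rw [← hKH]
    exact Subgroup.mem_inf.mpr ⟨hxK, hxH⟩

end Cfsg.Agent.S0092
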