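import Cfsg.Statements.S0095
import Cfsg.Agent.Lib.Helper24.Extraspecial

set_option autoImplicit false
open Cfsg

namespace Cfsg.Agent.S0095

/-- The order of an extraspecial p-group is an odd power p^(2n+1) of p with n ≥ 1. -/
theorem result {P : Type*} [Group P] [Finite P] {p : ℕ} [Fact p.Prime] (h : Cfsg.IsExtraspecial p P) : ∃ n : ℕ, 1 ≤ n ∧ Nat.card P = p ^ (2 * n + 1) := by
  obtain ⟨⟨_, _, hcomm⟩, hZ⟩ := h
  have hc : ∀ a b : P, a * b * a⁻¹ * b⁻¹ ∈ Subgroup.center P := by
    intro a b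
    rw [← hcomm, commutator_def, ← commutatorElement_def]
    exact Subgroup.commutator_mem_commutator (Subgroup.mem_top a) (Subgroup.mem_top b)
  obtain ⟨n, hn⟩ := Lib.Helper24.card_eq_prime_pow_odd p (Nat.card P) P rfl hZ hc
  refine ⟨n, ?_, hn⟩
  by_contra h0
  have hn0 : n = 0 := by omega
  rw [hn0] at hn
  simp only [mul_zero, zero_add, pow_one] at hn
  have htop : Subgroup.center P = ⊤ := Subgroup.eq_top_of_card_eq _ (by rw [hZ, hn])
  have hbot : commutator P = ⊥ := (_root_.commutator_eq_bot_iff_center_eq_top (G := P)).mpr htop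
  rw [hcomm] at hbot
  rw [hbot, Subgroup.card_bot] at hZ
  have := (Fact.out : p.Prime).two_le
  omega

end Cfsg.Agent.S0095
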