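import Cfsg.Statements.S0097
import Cfsg.Agent.S0094
import Cfsg.Agent.S0096
import Cfsg.Agent.Lib.Helper11.PGroupFrattini
import Mathlib

set_option autoImplicit false
open Cfsg
open scoped commutatorElement

namespace Cfsg.Agent.S0097

/-- For odd p and E extraspecial, the subgroup generated by the elements of order dividing p has exponent dividing p and index at most p. -/
theorem result {E : Type*} [Group E] [Finite E] {p : ℕ} [Fact p.Prime] (hp : p ≠ 2) (h : Cfsg.IsExtraspecial p E) : (Subgroup.closure {x : E | x ^ p = 1}).index ≤ p ∧ ∀ g ∈ Subgroup.closure {x : E | x ^ p = 1}, g ^ p = 1 := by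
  obtain ⟨hsp, hcard⟩ := h
  have hsp' := hsp
  obtain ⟨hP, hfr, hcomm⟩ := hsp
  have hpp : p.Prime := Fact.out
  have hcen : ∀ a b : E, ⁅a, b⁆ ∈ Subgroup.center E := by
    intro a b
    rw [← hcomm]
    exact Subgroup.commutator_mem_commutator (Subgroup.mem_top a) (Subgroup.mem_top b)
  have h2 : ⁅commutator E, (⊤ : Subgroup E)⁆ = ⊥ := by
    rw [eq_bot_iff, Subgroup.commutator_le]
    intro a ha b _
    rw [Subgroup.mem_bot, commutatorElement_eq_one_iff_mul_comm]
    rw [hcomm] at ha
    exact (Subgroup.mem_center_iff.mp ha b).symm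
  refine ⟨?_, fun g hg => Cfsg.Agent.S0096.result hp hP h2 g hg⟩
  -- the p-power map is a homomorphism into the centre
  have hpow_mem : ∀ x : E, x ^ p ∈ Subgroup.center E := by
    intro x
    rw [← hfr]; exact Cfsg.Agent.Lib.Helper11.pow_mem_frattini_of_isPGroup hP x
  have hmul : ∀ x y : E, (x * y) ^ p = x ^ p * y ^ p := by
    intro x y
    rw [Cfsg.Agent.S0096.mul_pow_of_commutator_central x y (hcen y x) p]
    obtain ⟨k, hk⟩ := Cfsg.Agent.S0096.dvd_sum_range_of_odd_prime hpp hp
    have hcp : ⁅y, x⁆ ^ p = 1 := Cfsg.Agent.S0094.result hsp' _ (hcen y x)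
    rw [hk, pow_mul, hcp, one_pow, mul_one]
  let φ : E →* Subgroup.center E :=
    MonoidHom.mk' (fun x => ⟨x ^ p, hpow_mem x⟩) (fun a b => Subtype.ext (hmul a b))
  have hker : φ.ker ≤ Subgroup.closure {x : E | x ^ p = 1} := by
    intro x hx
    apply Subgroup.subset_closure
    have : φ x = 1 := hx
    exact congrArg Subtype.val this
  have h3 : (Subgroup.closure {x : E | x ^ p = 1}).index ∣ φ.ker.index :=
    Subgroup.index_dvd_of_le hker
  have h4 : φ.ker.index = Nat.card φ.range := Subgroup.index_ker φ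
  have h5 : Nat.card φ.range ∣ Nat.card (Subgroup.center E) := Subgroup.card_subgroup_dvd_card _
  rw [hcard] at h5
  rw [h4] at h3
  exact Nat.le_of_dvd hpp.pos (h3.trans h5)

end Cfsg.Agent.S0097
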