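import Mathlib
import Cfsg.Statements.S0098
import Cfsg.Agent.Lib.Helper18.ESExp

set_option autoImplicit false
open Cfsg

namespace Cfsg.Agent.S0098

open Cfsg.Agent.Lib.Helper18.ES

/-- For odd p, extraspecial p-groups of exponent p are determined up to isomorphism by their order. -/
theorem result {E₁ : Type*} {E₂ : Type*} [Group E₁] [Group E₂] [Finite E₁] [Finite E₂] {p : ℕ} [Fact p.Prime] (hp : p ≠ 2) (h₁ : Cfsg.IsExtraspecial p E₁) (h₂ : Cfsg.IsExtraspecial p E₂) (he₁ : Monoid.exponent E₁ = p) (he₂ : Monoid.exponent E₂ = p) (hc : Nat.card E₁ = Nat.card E₂) : Nonempty (E₁ ≃* E₂) := by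
  have hE₁ := isES_of_isExtraspecial h₁
  have hE₂ := isES_of_isExtraspecial h₂
  obtain ⟨n, hn⟩ := hE₁.exists_card
  have hexp₁ : ∀ g : E₁, g ^ p = 1 := fun g => by rw [← he₁]; exact Monoid.pow_exponent_eq_one g
  have hexp₂ : ∀ g : E₂, g ^ p = 1 := fun g => by rw [← he₂]; exact Monoid.pow_exponent_eq_one g
  obtain ⟨z, hz, hz1⟩ := hE₁.exists_center_ne_one
  obtain ⟨z', hz', hz'1⟩ := hE₂.exists_center_ne_one
  obtain ⟨φ, -⟩ := exists_equiv_of_exponent n E₁ E₂ hE₁ hE₂ hexp₁ hexp₂ hn (hc ▸ hn) z hz hz1 z' hz' hz'1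
  exact ⟨φ⟩

end Cfsg.Agent.S0098
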