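import Mathlib
import Cfsg.Statements.S0099
import Cfsg.Agent.Lib.Helper18.ESTwoIso

set_option autoImplicit false
open Cfsg

namespace Cfsg.Agent.S0099

open Cfsg.Agent.Lib.Helper18.ES

/-- Among three extraspecial 2-groups of equal order, some two are isomorphic. -/
theorem result {E₁ : Type*} {E₂ : Type*} {E₃ : Type*} [Group E₁] [Group E₂] [Group E₃] [Finite E₁] [Finite E₂] [Finite E₃] (h₁ : Cfsg.IsExtraspecial 2 E₁) (h₂ : Cfsg.IsExtraspecial 2 E₂) (h₃ : Cfsg.IsExtraspecial 2 E₃) (h12 : Nat.card E₁ = Nat.card E₂) (h23 : Nat.card E₂ = Nat.card E₃) : Nonempty (E₁ ≃* E₂) ∨ Nonempty (E₂ ≃* E₃) ∨ Nonempty (E₁ ≃* E₃) := by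
  have g₁ := isES_of_isExtraspecial h₁
  have g₂ := isES_of_isExtraspecial h₂
  have g₃ := isES_of_isExtraspecial h₃
  obtain ⟨n, hn⟩ := g₁.exists_card
  have hn₂ : Nat.card E₂ = 2 ^ (2 * n + 1) := h12 ▸ hn
  have hn₃ : Nat.card E₃ = 2 ^ (2 * n + 1) := h23 ▸ hn₂
  have c₁ := nsq_cases n E₁ g₁ hn
  have c₂ := nsq_cases n E₂ g₂ hn₂
  have c₃ := nsq_cases n E₃ g₃ hn₃
  by_cases e12 : nsq E₁ = nsq E₂
  · exact Or.inl (nonempty_equiv_of_nsq n E₁ E₂ g₁ g₂ hn hn₂ e12)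
  by_cases e23 : nsq E₂ = nsq E₃
  · exact Or.inr (Or.inl (nonempty_equiv_of_nsq n E₂ E₃ g₂ g₃ hn₂ hn₃ e23))
  have e13 : nsq E₁ = nsq E₃ := by omega
  exact Or.inr (Or.inr (nonempty_equiv_of_nsq n E₁ E₃ g₁ g₃ hn hn₃ e13))

end Cfsg.Agent.S0099
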