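import Mathlib
import Cfsg.Statements.S0100
import Cfsg.Agent.S0130
import Cfsg.Agent.Lib.Helper10.PGroupCentral
import Cfsg.Agent.Lib.Lead.NormalChain

set_option autoImplicit false
open Cfsg

namespace Cfsg.Agent.S0100

/-- For odd p, a p-group without normal elementary abelian subgroups of order p^3 has p-rank at most 2. -/
theorem result {P : Type*} [Group P] [Finite P] {p : ℕ} [Fact p.Prime] (hp : p ≠ 2) (hP : IsPGroup p P) (h : ∀ A : Subgroup P, A.Normal → IsMulCommutative A → (∀ a ∈ A, a ^ p = 1) → Nat.card A ≠ p ^ 3) (E : Subgroup P) (hE : IsMulCommutative E) (hEe : ∀ e ∈ E, e ^ p = 1) : Nat.card E ≤ p ^ 2 := by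
  classical
  have hpp : p.Prime := Fact.out
  -- a maximal normal elementary abelian subgroup
  let S : Set (Subgroup P) := {A | A.Normal ∧ IsMulCommutative A ∧ ∀ a ∈ A, a ^ p = 1}
  have hSne : S.Nonempty := ⟨⊥, inferInstance, inferInstance, by
    intro a ha
    rw [Subgroup.mem_bot] at ha
    rw [ha, one_pow]⟩
  obtain ⟨A, hAmax⟩ := (Set.toFinite S).exists_maximal hSne
  obtain ⟨hAn, hAc, hAe⟩ : A.Normal ∧ IsMulCommutative A ∧ ∀ a ∈ A, a ^ p = 1 := hAmax.prop
  haveI := hAn
  -- `|A| ≤ p ^ 2`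
  obtain ⟨m, hm⟩ := (hP.to_subgroup A).exists_card_eq
  have hm2 : m ≤ 2 := by
    by_contra hcon
    have hdvd : p ^ 3 ∣ Nat.card A := by rw [hm]; exact pow_dvd_pow p (by omega)
    obtain ⟨M, hMA, hMn, hMc⟩ := Cfsg.Agent.Lib.Lead.NormalChain.exists_normal_le_card hP A 3 hdvd
    refine h M hMn ?_ (fun a ha => hAe a (hMA ha)) hMc
    refine ⟨⟨fun u v => ?_⟩⟩
    apply Subtype.ext
    have := hAc.is_comm.comm (⟨u.1, hMA u.2⟩ : A) ⟨v.1, hMA v.2⟩
    have h2 : (u : P) * v = v * u := congrArg Subtype.val this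
    exact h2
  have hAcard : Nat.card A ≤ p ^ 2 := by
    rw [hm]; exact Nat.pow_le_pow_right hpp.pos hm2
  -- Alperin
  have halp : ∀ e : P, e ∈ Subgroup.centralizer (A : Set P) → e ^ p = 1 → e ∈ A := by
    intro e he hep
    refine Cfsg.Agent.S0130.result hP 1 (by rw [pow_one]; exact hp) A hAc
      (fun a ha => by rw [pow_one]; exact hAe a ha) ?_ e he (by rw [pow_one]; exact hep)
    intro B hBn hBc hBe hAB
    have hBS : B ∈ S := ⟨hBn, hBc, fun b hb => by have := hBe b hb; rwa [pow_one] at this⟩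
    exact le_antisymm (hAmax.le_of_ge hBS hAB) hAB
  have hEC : E ⊓ Subgroup.centralizer (A : Set P) ≤ A := by
    intro e he
    exact halp e (Subgroup.mem_inf.mp he).2 (hEe e (Subgroup.mem_inf.mp he).1)
  -- index
  have hidx := Cfsg.Agent.Lib.Helper10.index_centralizer_le_of_card_le_sq hP A hAcard
  have hrel : (Subgroup.centralizer (A : Set P)).relIndex E ≤ p := by
    have h1 : (Subgroup.centralizer (A : Set P)).relIndex E ∣
        (Subgroup.centralizer (A : Set P)).index := Subgroup.relIndex_dvd_index_of_normal _ _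
    have h2 : 0 < (Subgroup.centralizer (A : Set P)).index :=
      Nat.pos_of_ne_zero Subgroup.index_ne_zero_of_finite
    exact (Nat.le_of_dvd h2 h1).trans hidx
  have hmul : Nat.card ↥(E ⊓ Subgroup.centralizer (A : Set P)) *
      (Subgroup.centralizer (A : Set P)).relIndex E = Nat.card E := by
    have h1 := Subgroup.relIndex_mul_relIndex (H := (⊥ : Subgroup P))
      (K := E ⊓ Subgroup.centralizer (A : Set P)) (L := E) bot_le inf_le_left
    rw [Subgroup.relIndex_bot_left, Subgroup.relIndex_bot_left, inf_comm,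
      Subgroup.inf_relIndex_right] at h1
    rw [inf_comm]
    exact h1
  have hcardEC : Nat.card ↥(E ⊓ Subgroup.centralizer (A : Set P)) ≤ Nat.card A :=
    Subgroup.card_le_of_le hEC
  by_cases hsmall : Nat.card ↥(E ⊓ Subgroup.centralizer (A : Set P)) ≤ p
  · calc Nat.card E = Nat.card ↥(E ⊓ Subgroup.centralizer (A : Set P)) *
          (Subgroup.centralizer (A : Set P)).relIndex E := hmul.symm
      _ ≤ p * p := Nat.mul_le_mul hsmall hrel
      _ = p ^ 2 := (sq p).symm
  · -- then `E ⊓ C = A`, so `A ≤ E` and `E ≤ C`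
    obtain ⟨i, hi⟩ := (hP.to_subgroup (E ⊓ Subgroup.centralizer (A : Set P))).exists_card_eq
    have hi2 : 2 ≤ i := by
      by_contra hcon
      apply hsmall
      rw [hi]
      calc p ^ i ≤ p ^ 1 := Nat.pow_le_pow_right hpp.pos (by omega)
        _ = p := pow_one p
    have hge : Nat.card A ≤ Nat.card ↥(E ⊓ Subgroup.centralizer (A : Set P)) := by
      rw [hi]
      exact hAcard.trans (Nat.pow_le_pow_right hpp.pos hi2)
    have heq : E ⊓ Subgroup.centralizer (A : Set P) = A := Subgroup.eq_of_le_of_card_ge hEC hge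
    have hAE : A ≤ E := by rw [← heq]; exact inf_le_left
    have hEle : E ≤ Subgroup.centralizer (A : Set P) := by
      intro e he
      rw [Subgroup.mem_centralizer_iff]
      intro a ha
      have := hE.is_comm.comm (⟨a, hAE ha⟩ : E) ⟨e, he⟩
      exact congrArg Subtype.val this
    have hEA : E ≤ A := by
      rw [← heq]; exact le_inf le_rfl hEle
    exact (Subgroup.card_le_of_le hEA).trans hAcard

end Cfsg.Agent.S0100
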