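import Cfsg.Statements.S0101
import Cfsg.Agent.Lib.Helper26.TransferCentral
import Cfsg.Agent.Lib.Helper2.PGroupFrattini

set_option autoImplicit false
open Cfsg

namespace Cfsg.Agent.S0101
open Cfsg.Agent.Lib.Helper26

/-- In a perfect central extension, the kernel meets each Sylow p-subgroup P inside the Frattini subgroup of P. -/
theorem result {H : Type*} {G : Type*} [Group H] [Group G] [Finite H] (σ : H →* G) (hσ : Function.Surjective σ) (hc : σ.ker ≤ Subgroup.center H) (hH : commutator H = ⊤) {p : ℕ} [Fact p.Prime] (P : Sylow p H) : σ.ker ⊓ (P : Subgroup H) ≤ (frattini P).map (P : Subgroup H).subtype := by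
  intro z hz
  obtain ⟨hzk, hzP⟩ := hz
  have hzc := hc hzk
  have h1 := central_mem_commutator_sylow hH P z hzc hzP
  have h2 := Cfsg.Agent.Lib.Helper2.commutator_le_frattini_of_isPGroup P.isPGroup' h1
  exact Subgroup.mem_map.2 ⟨⟨z, hzP⟩, h2, rfl⟩

end Cfsg.Agent.S0101
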