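import Cfsg.Statements.S0102
import Cfsg.Agent.Lib.Helper26.TransferCentral

set_option autoImplicit false
open Cfsg

namespace Cfsg.Agent.S0102
open Cfsg.Agent.Lib.Helper26

/-- A finite perfect group with cyclic Sylow p-subgroups has no perfect central extension whose kernel has order divisible by p. -/
theorem result {G : Type*} {H : Type*} [Group G] [Group H] [Finite G] [Finite H] (hG : commutator G = ⊤) {p : ℕ} [Fact p.Prime] (hcyc : ∀ P : Sylow p G, IsCyclic P) (σ : H →* G) (hσ : Function.Surjective σ) (hz : σ.ker ≤ Subgroup.center H) (hH : commutator H = ⊤) : ¬ p ∣ Nat.card σ.ker := by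
  intro hp
  obtain ⟨x, hx⟩ := exists_prime_orderOf_dvd_card' p hp
  have hzk : (x : H) ∈ σ.ker := x.2
  have hzc : (x : H) ∈ Subgroup.center H := hz hzk
  have hzo : orderOf (x : H) = p := by rw [Subgroup.orderOf_coe]; exact hx
  have hzp : IsPGroup p (Subgroup.zpowers (x : H)) := by
    apply IsPGroup.of_card (n := 1)
    rw [Nat.card_zpowers, hzo, pow_one]
  obtain ⟨P, hP⟩ := hzp.exists_le_sylow
  have hzP : (x : H) ∈ (P : Subgroup H) := hP (Subgroup.mem_zpowers _)
  obtain ⟨Q, hQ⟩ := (P.isPGroup'.map σ).exists_le_sylow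
  haveI := hcyc Q
  let f : (P : Subgroup H) →* (Q : Subgroup G) :=
    (σ.comp (P : Subgroup H).subtype).codRestrict (Q : Subgroup G)
      (fun y => hQ (Subgroup.mem_map_of_mem σ y.2))
  have hker : f.ker ≤ Subgroup.center (P : Subgroup H) := by
    intro y hy
    have h1 : f y = 1 := MonoidHom.mem_ker.1 hy
    have h2 : σ (y : H) = 1 := congrArg Subtype.val h1
    have h3 : (y : H) ∈ Subgroup.center H := hz (MonoidHom.mem_ker.2 h2)
    exact Subgroup.mem_center_iff.2 (fun w => Subtype.ext (Subgroup.mem_center_iff.1 h3 w))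
  have hcomm : IsMulCommutative (P : Subgroup H) :=
    MonoidHom.isMulCommutative_of_isCyclic_of_ker_le_center f hker
  have hcP : commutator (P : Subgroup H) = ⊥ := by
    rw [commutator_def, Subgroup.commutator_eq_bot_iff_le_centralizer]
    intro a _ b _
    exact hcomm.is_comm.comm b a
  have h1 := central_mem_commutator_sylow hH P (x : H) hzc hzP
  rw [hcP, Subgroup.mem_bot] at h1
  have h2 : (x : H) = 1 := congrArg Subtype.val h1
  rw [h2, orderOf_one] at hzo
  exact (Fact.out : p.Prime).one_lt.ne hzo

end Cfsg.Agent.S0102
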