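import Cfsg.Statements.S0104


set_option autoImplicit false
open Cfsg

namespace Cfsg.Agent.S0104

/-- A subgroup Z of a Sylow p-subgroup P that is normalized by N_G(P) is weakly closed in P exactly when it is normal in every Sylow p-subgroup containing it. -/
theorem result {G : Type*} [Group G] [Finite G] {p : ℕ} [Fact p.Prime] (P : Sylow p G) (Z : Subgroup G) (hZP : Z ≤ (P : Subgroup G)) (hZN : Subgroup.normalizer (P : Set G) ≤ Subgroup.normalizer (Z : Set G)) : Cfsg.IsWeaklyClosed Z P ↔ ∀ R : Sylow p G, Z ≤ (R : Subgroup G) → (R : Subgroup G) ≤ Subgroup.normalizer (Z : Set G) := by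
  have hPN : (P : Subgroup G) ≤ Subgroup.normalizer (Z : Set G) :=
    le_trans Subgroup.le_normalizer hZN
  constructor
  · rintro ⟨-, hwc⟩ R hZR
    obtain ⟨g, rfl⟩ := MulAction.exists_smul_eq G P R
    have hmem : ∀ x, x ∈ ((g • P : Sylow p G) : Subgroup G) ↔
        g⁻¹ * x * g ∈ (P : Subgroup G) := by
      intro x
      rw [Sylow.coe_subgroup_smul, Subgroup.mem_pointwise_smul_iff_inv_smul_mem]
      simp [MulAut.smul_def]
    have h1 : Z.map (MulAut.conj g⁻¹).toMonoidHom ≤ (P : Subgroup G) := by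
      rintro _ ⟨z, hz, rfl⟩
      have := (hmem z).1 (hZR hz)
      simpa using this
    have h2 := hwc g⁻¹ h1
    have hg : g ∈ Subgroup.normalizer (Z : Set G) := by
      have : g⁻¹ ∈ Subgroup.normalizer (Z : Set G) :=
        Subgroup.mem_normalizer_iff_map_conj_eq.2 h2
      simpa using inv_mem this
    intro r hr
    have hr' := (hmem r).1 hr
    have : g * (g⁻¹ * r * g) * g⁻¹ ∈ Subgroup.normalizer (Z : Set G) :=
      mul_mem (mul_mem hg (hPN hr')) (inv_mem hg)
    simpa [mul_assoc] using this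
  · intro h
    refine ⟨hZP, fun g hg => ?_⟩
    have hmem : ∀ x, x ∈ ((g⁻¹ • P : Sylow p G) : Subgroup G) ↔
        g * x * g⁻¹ ∈ (P : Subgroup G) := by
      intro x
      rw [Sylow.coe_subgroup_smul, Subgroup.mem_pointwise_smul_iff_inv_smul_mem]
      simp [MulAut.smul_def]
    have hZR : Z ≤ ((g⁻¹ • P : Sylow p G) : Subgroup G) := by
      intro z hz
      rw [hmem]
      exact hg (Subgroup.mem_map.2 ⟨z, hz, rfl⟩)
    have hRN := h (g⁻¹ • P) hZR
    obtain ⟨n, hn⟩ := MulAction.exists_smul_eq (Subgroup.normalizer (Z : Set G))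
      ((g⁻¹ • P).subtype hRN) (P.subtype hPN)
    simp_rw [Sylow.smul_subtype, Subgroup.smul_def, smul_smul] at hn
    have hn' : (n : G) * g⁻¹ ∈ Subgroup.normalizer ((P : Subgroup G) : Set G) :=
      Sylow.smul_eq_iff_mem_normalizer.mp (Sylow.subtype_injective hn)
    have h3 : (n : G) * g⁻¹ ∈ Subgroup.normalizer (Z : Set G) := hZN hn'
    have h4 : g⁻¹ ∈ Subgroup.normalizer (Z : Set G) := by
      have := mul_mem (inv_mem n.2) h3
      simpa using this
    have h5 : g ∈ Subgroup.normalizer (Z : Set G) := by simpa using inv_mem h4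
    exact Subgroup.mem_normalizer_iff_map_conj_eq.1 h5

end Cfsg.Agent.S0104
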