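import Cfsg.Statements.S0105
import Mathlib

set_option autoImplicit false
open Cfsg

namespace Cfsg.Agent.S0105

open scoped IsMulCommutative

section aux

variable {G : Type*} [Group G] {p : ℕ} (P : Sylow p G)

/-- Conjugation of an element of `P` by an element of its normalizer. -/
def cj (n : Subgroup.normalizer (P : Set G)) (x : P) : P :=
  ⟨(n : G) * (x : G) * (n : G)⁻¹, (n.2 (x : G)).mp x.2⟩

theorem cj_val (n : Subgroup.normalizer (P : Set G)) (x : P) :
    ((cj P n x : P) : G) = (n : G) * (x : G) * (n : G)⁻¹ := rfl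

theorem cj_mul (n : Subgroup.normalizer (P : Set G)) (x y : P) :
    cj P n (x * y) = cj P n x * cj P n y := by
  apply Subtype.ext
  show (n : G) * ((x : G) * (y : G)) * (n : G)⁻¹
    = ((n : G) * x * (n : G)⁻¹) * ((n : G) * y * (n : G)⁻¹)
  group

theorem cj_one (n : Subgroup.normalizer (P : Set G)) : cj P n 1 = 1 := by
  apply Subtype.ext
  show (n : G) * (1 : G) * (n : G)⁻¹ = 1
  group

theorem cj_comp (n n' : Subgroup.normalizer (P : Set G)) (x : P) :
    cj P (n * n') x = cj P n (cj P n' x) := by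
  apply Subtype.ext
  show ((n : G) * (n' : G)) * (x : G) * ((n : G) * (n' : G))⁻¹
    = (n : G) * ((n' : G) * (x : G) * (n' : G)⁻¹) * (n : G)⁻¹
  group

theorem cj_of_mem [IsMulCommutative P] (u : Subgroup.normalizer (P : Set G))
    (hu : (u : G) ∈ P) (x : P) : cj P u x = x := by
  apply Subtype.ext
  have h1 : (⟨(u : G), hu⟩ : P) * x = x * ⟨(u : G), hu⟩ := mul_comm' _ _
  have h2 : (u : G) * (x : G) = (x : G) * (u : G) := congrArg Subtype.val h1
  show (u : G) * (x : G) * (u : G)⁻¹ = (x : G)
  rw [h2]; group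

/-- Conjugation as a homomorphism. -/
def cjHom (n : Subgroup.normalizer (P : Set G)) : P →* P where
  toFun := cj P n
  map_one' := cj_one P n
  map_mul' := cj_mul P n

/-- `P` as a subgroup of its normalizer. -/
abbrev PN : Subgroup (Subgroup.normalizer (P : Set G)) :=
  (P : Subgroup G).subgroupOf (Subgroup.normalizer (P : Set G))

theorem cj_out [IsMulCommutative P] (m : Subgroup.normalizer (P : Set G)) (x : P) :
    cj P (QuotientGroup.mk m : _ ⧸ PN P).out x = cj P m x := by
  obtain ⟨h, hh⟩ := QuotientGroup.mk_out_eq_mul (PN P) m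
  rw [hh, cj_comp, cj_of_mem P (h : Subgroup.normalizer (P : Set G))
    (Subgroup.mem_subgroupOf.mp h.2)]

variable [Finite G]

/-- Local fintype structure on the quotient. -/
noncomputable local instance fintypeQ :
    Fintype ((Subgroup.normalizer (P : Set G)) ⧸ PN P) := Fintype.ofFinite _

/-- Averaging over `N/P`. -/
noncomputable def avg [IsMulCommutative P] : P →* P where
  toFun x := ∏ q : (Subgroup.normalizer (P : Set G)) ⧸ PN P, cj P q.out x
  map_one' := by
    show ∏ q : (Subgroup.normalizer (P : Set G)) ⧸ PN P, cj P q.out 1 = 1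
    simp only [cj_one]
    exact Finset.prod_const_one
  map_mul' x y :=
    (Finset.prod_congr rfl (fun q _ => cj_mul P q.out x y)).trans Finset.prod_mul_distrib

theorem avg_apply [IsMulCommutative P] (x : P) :
    avg P x = ∏ q : (Subgroup.normalizer (P : Set G)) ⧸ PN P, cj P q.out x := rfl

theorem cj_avg [IsMulCommutative P] (n : Subgroup.normalizer (P : Set G)) (x : P) :
    cj P n (avg P x) = avg P x := by
  rw [avg_apply]
  have hmap : cj P n (∏ q : (Subgroup.normalizer (P : Set G)) ⧸ PN P, cj P q.out x)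
      = ∏ q : (Subgroup.normalizer (P : Set G)) ⧸ PN P, cj P n (cj P q.out x) :=
    map_prod (cjHom P n) (fun q : (Subgroup.normalizer (P : Set G)) ⧸ PN P => cj P q.out x) Finset.univ
  rw [hmap]
  have h2 : ∀ q : (Subgroup.normalizer (P : Set G)) ⧸ PN P,
      cj P n (cj P q.out x) = cj P (MulAction.toPerm n q).out x := by
    intro q
    rw [← cj_comp, ← cj_out P (n * q.out) x]
    congr 2
    have : (QuotientGroup.mk (n * q.out) : (Subgroup.normalizer (P : Set G)) ⧸ PN P)
        = n • (QuotientGroup.mk q.out : (Subgroup.normalizer (P : Set G)) ⧸ PN P) := rfl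
    rw [this, QuotientGroup.out_eq']
    rfl
  simp only [h2]
  exact Equiv.prod_comp (MulAction.toPerm n)
    (fun q : (Subgroup.normalizer (P : Set G)) ⧸ PN P => cj P q.out x)

theorem avg_of_fixed [IsMulCommutative P] (x : P) (hx : ∀ n, cj P n x = x) :
    avg P x = x ^ Fintype.card ((Subgroup.normalizer (P : Set G)) ⧸ PN P) := by
  rw [avg_apply]
  simp only [hx]
  rw [Finset.prod_const, Finset.card_univ]

end aux


/-- With an abelian Sylow p-subgroup P, some quotient of G is isomorphic to the part of P central in N_G(P). -/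
theorem result {G : Type*} [Group G] [Finite G] {p : ℕ} [Fact p.Prime] (P : Sylow p G) (hP : IsMulCommutative P) : ∃ (N : Subgroup G) (hN : N.Normal), Nonempty (G ⧸ N ≃* ((P : Subgroup G) ⊓ Subgroup.centralizer (Subgroup.normalizer (P : Set G) : Set G) : Subgroup G)) := by
  classical
  haveI : IsMulCommutative P := hP
  have hp : p.Prime := Fact.out
  letI := fintypeQ P
  obtain ⟨idx, hidx⟩ : ∃ i, i = (P : Subgroup G).index := ⟨_, rfl⟩
  obtain ⟨c, hc⟩ : ∃ c, c = Fintype.card ((Subgroup.normalizer (P : Set G)) ⧸ PN P) := ⟨_, rfl⟩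
  let V : G →* P := MonoidHom.transfer (MonoidHom.id P)
  let f : G →* G := (SubgroupClass.subtype P).comp ((avg P).comp V)
  have hfval : ∀ g, f g = ((avg P (V g) : P) : G) := fun g => rfl
  have hfA : ∀ g, f g ∈ ((P : Subgroup G) ⊓
      Subgroup.centralizer (Subgroup.normalizer (P : Set G) : Set G)) := by
    intro g
    refine Subgroup.mem_inf.mpr ⟨(avg P (V g)).2, Subgroup.mem_centralizer_iff.mpr ?_⟩
    intro n hn
    have h' : n * (avg P (V g) : G) * n⁻¹ = (avg P (V g) : G) :=
      congrArg Subtype.val (cj_avg P ⟨n, hn⟩ (V g))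
    rw [hfval]
    calc n * (avg P (V g) : G) = (n * (avg P (V g) : G) * n⁻¹) * n := by group
      _ = _ := by rw [h']
  -- value on the central part
  have hcl : ∀ z : G, z ∈ ((P : Subgroup G) ⊓
      Subgroup.centralizer (Subgroup.normalizer (P : Set G) : Set G)) →
      f z = z ^ (idx * c) := by
    intro z hz
    have hzP : z ∈ (P : Subgroup G) := (Subgroup.mem_inf.mp hz).1
    have hzC : ∀ n ∈ Subgroup.normalizer (P : Set G), n * z = z * n :=
      Subgroup.mem_centralizer_iff.mp (Subgroup.mem_inf.mp hz).2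
    have key : ∀ (k : ℕ) (g₀ : G), g₀⁻¹ * z ^ k * g₀ ∈ (P : Subgroup G) →
        g₀⁻¹ * z ^ k * g₀ = z ^ k := by
      intro k g₀ hk
      obtain ⟨n, hn, h⟩ := P.conj_eq_normalizer_conj_of_mem (z ^ k) g₀ (pow_mem hzP k) hk
      rw [h]
      have hcomm : n * z ^ k = z ^ k * n := Commute.pow_right (hzC n hn) k
      calc n⁻¹ * z ^ k * n = n⁻¹ * (z ^ k * n) := by group
        _ = n⁻¹ * (n * z ^ k) := by rw [hcomm]
        _ = z ^ k := by group
    have hV : ((V z : P) : G) = z ^ idx := by
      have := MonoidHom.transfer_eq_pow (MonoidHom.id P) z key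
      rw [hidx]
      exact congrArg Subtype.val this
    have hfix : ∀ n, cj P n (V z) = V z := by
      intro n
      apply Subtype.ext
      show (n : G) * ((V z : P) : G) * (n : G)⁻¹ = ((V z : P) : G)
      rw [hV]
      have hcomm : (n : G) * z ^ idx = z ^ idx * n := Commute.pow_right (hzC n n.2) idx
      rw [hcomm]; group
    rw [hfval, avg_of_fixed P (V z) hfix, ← hc]
    show ((V z : P) : G) ^ c = _
    rw [hV, pow_mul]
  -- coprimality
  have h1 : p.Coprime idx := by
    rw [hidx]
    exact (Nat.Prime.coprime_iff_not_dvd hp).mpr P.not_dvd_index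
  have hcd : c ∣ idx := by
    rw [hc, hidx, ← Nat.card_eq_fintype_card, ← Subgroup.index_eq_card]
    exact Subgroup.relIndex_dvd_index_of_le Subgroup.le_normalizer
  have hcop : p.Coprime (idx * c) := Nat.Coprime.mul_right h1 (Nat.Coprime.coprime_dvd_right hcd h1)
  have hA : IsPGroup p ↥((P : Subgroup G) ⊓
      Subgroup.centralizer (Subgroup.normalizer (P : Set G) : Set G)) :=
    P.isPGroup'.to_le inf_le_left
  refine ⟨(f.codRestrict _ hfA).ker, inferInstance,
    ⟨QuotientGroup.quotientKerEquivOfSurjective (f.codRestrict _ hfA) ?_⟩⟩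
  intro a
  have hw : ((hA.powEquiv hcop).symm a) ^ (idx * c) = a := by
    have := (hA.powEquiv hcop).apply_symm_apply a
    rwa [IsPGroup.powEquiv_apply] at this
  refine ⟨(((hA.powEquiv hcop).symm a : _) : G), Subtype.ext ?_⟩
  show f _ = (a : G)
  rw [hcl _ ((hA.powEquiv hcop).symm a).2]
  conv_rhs => rw [← hw]
  rfl

end Cfsg.Agent.S0105
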