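import Cfsg.Statements.S0106
import Cfsg.Agent.Lib.Helper9.SL23
import Cfsg.Agent.Lib.Helper9.QuatSylow
import Cfsg.Agent.Lib.Helper11.FrobeniusLocal

set_option autoImplicit false
open Cfsg

namespace Cfsg.Agent.S0106

/-- A finite group with generalized quaternion Sylow 2-subgroups either has a normal 2-complement or has a section isomorphic to SL(2,3). -/
theorem result {G : Type*} [Group G] [Finite G] (T : Sylow 2 G) (n : ℕ) (hn : 1 ≤ n) (hT : Nonempty ((T : Subgroup G) ≃* QuaternionGroup (2 ^ n))) : Cfsg.HasNormalPComplement 2 G ∨ ∃ (H K : Subgroup G) (hK : (K.subgroupOf H).Normal), Nonempty ((H ⧸ K.subgroupOf H) ≃* Matrix.SpecialLinearGroup (Fin 2) (ZMod 3)) := by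
  classical
  haveI : Fact (Nat.Prime 2) := ⟨Nat.prime_two⟩
  obtain ⟨ψ⟩ := hT
  by_cases hloc : ∀ Q : Subgroup G, Q ≤ (T : Subgroup G) →
      ∀ g ∈ Subgroup.normalizer (Q : Set G), Nat.Coprime (orderOf g) 2 →
        g ∈ Subgroup.centralizer (Q : Set G)
  · left
    obtain ⟨K, hKn, hKc⟩ := Cfsg.Agent.Lib.Helper11.exists_normal_complement_of_local
      (Cfsg.Agent.Lib.Helper11.localPNilpotent_of_sylow T hloc) T
    exact ⟨T, K, hKn, hKc⟩
  · right
    simp only [not_forall] at hloc
    obtain ⟨Q, hQT, g, hgN, hgo, hgC⟩ := hloc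
    have hodd : Odd (orderOf g) := Nat.Coprime.odd_of_right hgo
    -- `Q` is quaternion of order `8`
    have hQ8 : Nonempty (Q ≃* QuaternionGroup 2) := by
      obtain ⟨σ, hσ⟩ : ∃ σ : MulAut Q, σ = Q.normalizerMonoidHom ⟨g, hgN⟩ := ⟨_, rfl⟩
      have hσk : σ ^ orderOf g = 1 := by
        rw [hσ, ← map_pow]
        have : (⟨g, hgN⟩ : Subgroup.normalizer (Q : Set G)) ^ orderOf g = 1 := by
          apply Subtype.ext
          rw [Subgroup.coe_pow, Subgroup.coe_one]
          exact pow_orderOf_eq_one g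
        rw [this, map_one]
      have hσne : σ ≠ 1 := by
        intro h1
        apply hgC
        have h2 : (⟨g, hgN⟩ : Subgroup.normalizer (Q : Set G)) ∈ Q.normalizerMonoidHom.ker := by
          rw [MonoidHom.mem_ker, ← hσ, h1]
        rw [Subgroup.normalizerMonoidHom_ker, Subgroup.mem_subgroupOf] at h2
        exact h2
      have hinj : Function.Injective (ψ.toMonoidHom.comp (Subgroup.inclusion hQT)) := by
        intro q₁ q₂ h
        exact Subgroup.inclusion_injective hQT (ψ.injective h)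
      exact Cfsg.Agent.Lib.Helper9.QuatSylow.nonempty_mulEquiv_quat8 _ hinj σ hodd hσk hσne
    -- the group `H = Q⟨g⟩`
    obtain ⟨H, hH⟩ : ∃ H : Subgroup G, H = Q ⊔ Subgroup.zpowers g := ⟨_, rfl⟩
    have hQH : Q ≤ H := by rw [hH]; exact le_sup_left
    have hgH : g ∈ H := by
      rw [hH]; exact (le_sup_right : Subgroup.zpowers g ≤ _) (Subgroup.mem_zpowers g)
    have hHN : H ≤ Subgroup.normalizer (Q : Set G) := by
      rw [hH]
      exact sup_le Subgroup.le_normalizer (Subgroup.zpowers_le.mpr hgN)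
    haveI hQ'n : (Q.subgroupOf H).Normal := Subgroup.normal_subgroupOf_of_le_normalizer hHN
    have hQ'8 : Nonempty (Q.subgroupOf H ≃* QuaternionGroup 2) := by
      obtain ⟨e⟩ := hQ8
      exact ⟨(Subgroup.subgroupOfEquivOfLe hQH).trans e⟩
    have hodd' : Odd (orderOf (⟨g, hgH⟩ : H)) := by
      rw [Subgroup.orderOf_mk]; exact hodd
    have hgen : Q.subgroupOf H ⊔ Subgroup.zpowers (⟨g, hgH⟩ : H) = ⊤ := by
      apply Subgroup.map_injective H.subtype_injective
      rw [Subgroup.map_sup, Subgroup.map_subgroupOf_eq_of_le hQH, MonoidHom.map_zpowers,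
        ← MonoidHom.range_eq_map, Subgroup.range_subtype]
      exact hH.symm
    have hnc : ∃ q ∈ Q.subgroupOf H, (⟨g, hgH⟩ : H) * q * (⟨g, hgH⟩ : H)⁻¹ ≠ q := by
      by_contra hcon
      simp only [not_exists, not_and, not_not] at hcon
      apply hgC
      rw [Subgroup.mem_centralizer_iff]
      intro q hq
      have h1 := hcon ⟨q, hQH hq⟩ (by rw [Subgroup.mem_subgroupOf]; exact hq)
      have h2 : g * q * g⁻¹ = q := congrArg Subtype.val h1
      calc q * g = (g * q * g⁻¹) * g := by rw [h2]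
        _ = g * q := by group
    obtain ⟨Ψ, hΨ⟩ := Cfsg.Agent.Lib.Helper9.SLTwoThree.exists_surjective_hom
      (Q.subgroupOf H) hQ'8 ⟨g, hgH⟩ hodd' hgen hnc
    have hKeq : (Ψ.ker.map H.subtype).subgroupOf H = Ψ.ker := by
      ext x
      rw [Subgroup.mem_subgroupOf, Subgroup.mem_map]
      constructor
      · rintro ⟨y, hy, hyx⟩
        have : y = x := Subtype.ext hyx
        rwa [← this]
      · intro hx
        exact ⟨x, hx, rfl⟩
    have key : ∀ (N : Subgroup H), N = Ψ.ker → ∃ (_ : N.Normal),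
        Nonempty (H ⧸ N ≃* Matrix.SpecialLinearGroup (Fin 2) (ZMod 3)) := by
      rintro N rfl
      exact ⟨inferInstance, ⟨QuotientGroup.quotientKerEquivOfSurjective Ψ hΨ⟩⟩
    obtain ⟨hK, hiso⟩ := key _ hKeq
    exact ⟨H, Ψ.ker.map H.subtype, hK, hiso⟩

end Cfsg.Agent.S0106
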