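import Cfsg.Statements.S0107
import Cfsg.Agent.S0111
import Cfsg.Agent.Lib.Helper24.IndexTwo
import Cfsg.Agent.Lib.Helper24.KleinClasses

set_option autoImplicit false
open Cfsg

namespace Cfsg.Agent.S0107

open Subgroup

/-- `O^2(G)` lies in every normal subgroup of index two. -/
theorem pResidual_le_of_index_two {G : Type*} [Group G] [Finite G] (M : Subgroup G) [M.Normal]
    (hM : M.index = 2) : Cfsg.pResidual 2 G ≤ M := by
  unfold Cfsg.pResidual
  rw [closure_le]
  intro g hg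
  have hg' : Nat.Coprime (orderOf g) 2 := hg
  have h1 : (QuotientGroup.mk' M g) ^ 2 = 1 := by
    have hc : Nat.card (G ⧸ M) = 2 := by rw [← Subgroup.index_eq_card, hM]
    rw [← hc]
    exact pow_card_eq_one'
  have h2 : (QuotientGroup.mk' M g) ^ orderOf g = 1 := by
    rw [← map_pow, pow_orderOf_eq_one, map_one]
  have h3 : orderOf (QuotientGroup.mk' M g) = 1 :=
    Nat.eq_one_of_dvd_coprimes hg' (orderOf_dvd_of_pow_eq_one h2) (orderOf_dvd_of_pow_eq_one h1)
  rw [orderOf_eq_one_iff] at h3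
  rw [← QuotientGroup.ker_mk' M]
  exact h3

theorem result {G : Type*} [Group G] [Finite G] (T : Sylow 2 G) (n : ℕ) (hn : 2 ≤ n) (hT : Nonempty ((T : Subgroup G) ≃* DihedralGroup (2 ^ n))) (hO : Cfsg.pResidual 2 G = ⊤) (x y : G) (hx : orderOf x = 2) (hy : orderOf y = 2) : ∃ g : G, g * x * g⁻¹ = y := by
  classical
  obtain ⟨e⟩ := hT
  set c0 : (T : Subgroup G) := e.symm (DihedralGroup.r 1) with hc0
  have hc0ord : orderOf c0 = 2 ^ n := by
    rw [hc0, MulEquiv.orderOf_eq, DihedralGroup.orderOf_r_one]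
  set Q : Subgroup G := (zpowers c0).map (T : Subgroup G).subtype with hQ
  have hQT : Q ≤ (T : Subgroup G) := map_subtype_le _
  have hQcard : Nat.card Q = 2 ^ n := by
    rw [hQ, Subgroup.card_map_of_injective (subtype_injective _), Nat.card_zpowers, hc0ord]
  have hTcard : Nat.card (T : Subgroup G) = 2 * 2 ^ n := by
    rw [Nat.card_congr e.toEquiv, DihedralGroup.nat_card]
  have hQi : Q.relIndex (T : Subgroup G) = 2 := by
    have h1 := Subgroup.relIndex_mul_relIndex (⊥ : Subgroup G) Q (T : Subgroup G) bot_le hQT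
    rw [relIndex_bot_left, relIndex_bot_left, hQcard, hTcard] at h1
    have hpos : 0 < 2 ^ n := pow_pos (by norm_num) n
    have : 2 ^ n * Q.relIndex (T : Subgroup G) = 2 ^ n * 2 := by rw [h1]; ring
    exact Nat.eq_of_mul_eq_mul_left hpos this
  have hQcyc : IsCyclic Q := by
    have h1 : Q = zpowers (c0 : G) := by
      rw [hQ, MonoidHom.map_zpowers]; rfl
    rw [h1]
    infer_instance
  -- the unique involution of `Q`
  have huniq : ∀ a b : G, a ∈ Q → b ∈ Q → orderOf a = 2 → orderOf b = 2 → a = b := by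
    intro a b ha hb hao hbo
    have := Cfsg.Agent.Lib.Helper24.involution_unique_of_isCyclic (C := Q) (a := ⟨a, ha⟩) (b := ⟨b, hb⟩)
      (by rw [Subgroup.orderOf_mk]; exact hao) (by rw [Subgroup.orderOf_mk]; exact hbo)
    exact congrArg Subtype.val this
  obtain ⟨z, hzQ, hzo⟩ : ∃ z ∈ Q, orderOf z = 2 := by
    have h2 : 2 ∣ Nat.card Q := by
      rw [hQcard]; exact dvd_pow_self 2 (by omega)
    obtain ⟨z', hz'⟩ := exists_prime_orderOf_dvd_card' 2 h2
    exact ⟨z'.1, z'.2, by rw [Subgroup.orderOf_coe]; exact hz'⟩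
  have hno : ∀ M : Subgroup G, M.Normal → M.index ≠ 2 := by
    intro M hMn hM
    haveI := hMn
    have := pResidual_le_of_index_two M hM
    rw [hO, top_le_iff] at this
    rw [this, index_top] at hM
    omega
  -- every involution of `T` is conjugate to `z`
  have hTz : ∀ u ∈ (T : Subgroup G), orderOf u = 2 → ∃ g : G, g * u * g⁻¹ = z := by
    intro u huT huo
    by_cases huQ : u ∈ Q
    · exact ⟨1, by rw [one_mul, inv_one, mul_one]; exact huniq u z huQ hzQ huo hzo⟩
    · rcases Cfsg.Agent.S0111.result T Q hQT hQi u huo huT huQ with ⟨M, hMn, hMi, -⟩ | ⟨g, hg⟩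
      · exact absurd hMi (hno M hMn)
      · refine ⟨g, huniq _ z hg hzQ ?_ hzo⟩
        rw [← MulAut.conj_apply, MulEquiv.orderOf_eq, huo]
  have hall : ∀ u : G, orderOf u = 2 → ∃ g : G, g * u * g⁻¹ = z := by
    intro u huo
    obtain ⟨g, hg⟩ := Cfsg.Agent.Lib.Helper24.exists_conj_mem_sylow_of_involution T u huo
    have ho : orderOf (g⁻¹ * u * g) = 2 := by
      have : g⁻¹ * u * g = MulAut.conj g⁻¹ u := by rw [MulAut.conj_apply, inv_inv]
      rw [this, MulEquiv.orderOf_eq, huo]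
    obtain ⟨h, hh⟩ := hTz _ hg ho
    exact ⟨h * g⁻¹, by rw [← hh]; group⟩
  obtain ⟨g1, hg1⟩ := hall x hx
  obtain ⟨g2, hg2⟩ := hall y hy
  refine ⟨g2⁻¹ * g1, ?_⟩
  have : g2⁻¹ * g1 * x * (g2⁻¹ * g1)⁻¹ = g2⁻¹ * (g1 * x * g1⁻¹) * g2 := by group
  rw [this, hg1, ← hg2]; group

end Cfsg.Agent.S0107
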