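import Cfsg.Statements.S0109
import Mathlib
import Cfsg.Agent.Lib.Lead.ThompsonFactor
import Cfsg.Agent.Lib.Lead.PSolvOfSolv
import Cfsg.Agent.Lib.Lead.QuadSolv
import Cfsg.Agent.Lib.Helper15.QuadInternal
import Cfsg.Agent.Lib.Helper3.PSolvable

set_option autoImplicit false
open Cfsg

namespace Cfsg.Agent.S0109

open Subgroup Cfsg.Agent.Lib.Lead.ThompsonFactor
open scoped commutatorElement

theorem quadStab_of_abelian_sylow2 {G : Type*} [Group G] [Finite G] {p : ℕ} [Fact p.Prime]
    (hp2 : p ≠ 2) (hab : ∀ T : Sylow 2 G, IsMulCommutative T) : QuadStab p G := by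
  intro V hVn hVc hVe a ha
  haveI := hVn
  obtain ⟨D, hDn, hD1, hD2, hD3⟩ := Cfsg.Agent.Lib.Helper15.QuadInternal.core_hom p hp2
    (MonoidHom.id G) V hVc hVe (fun h => by rw [normalizer_eq_top]; exact mem_top _) hab a ha
  exact ⟨D, hDn, hD1, hD2, hD3⟩

theorem quadStab_of_pSolvable {G : Type*} [Group G] [Finite G] {p : ℕ} [Fact p.Prime]
    (hp5 : 5 ≤ p) (hsol : Cfsg.IsPSolvable p G) : QuadStab p G := by
  intro V hVn hVc hVe a ha
  haveI := hVn
  obtain ⟨D, hDn, hD1, hD2, hD3⟩ := Cfsg.Agent.Lib.Lead.QuadSolv.core_hom p hp5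
    (MonoidHom.id G) V hVc hVe (fun h => by rw [normalizer_eq_top]; exact mem_top _) hsol a ha
  exact ⟨D, hDn, hD1, hD2, hD3⟩


/-- The Thompson factorization Theorem for solvable groups states that, with p odd (and abelian Sylow 2-subgroups when p = 3) and no nontrivial normal subgroup of order prime to p, every element of G is a product of an element normalizing J(P) and an element centralizing the elements of order dividing p in the centre of P. -/
theorem result {G : Type*} [Group G] [Finite G] {p : ℕ} [Fact p.Prime] (hp : p ≠ 2) (hs : Group.IsSolvable G) (h3 : p = 3 → ∀ T : Sylow 2 G, IsMulCommutative T) (hF : ∀ N : Subgroup G, N.Normal → Nat.Coprime (Nat.card N) p → N = ⊥) (P : Sylow p G) (g : G) : ∃ a ∈ Subgroup.normalizer (Cfsg.thompsonSubgroupOf p (P : Subgroup G) : Set G), ∃ c ∈ Subgroup.centralizer {x : G | x ∈ (P : Subgroup G) ∧ (∀ y ∈ (P : Subgroup G), x * y = y * x) ∧ x ^ p = 1}, g = a * c := by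
  have hpp : p.Prime := Fact.out
  have hsol : Cfsg.IsPSolvable p G :=
    Cfsg.Agent.Lib.Lead.PSolvOfSolv.isPSolvable_of_isSolvable p hs
  have hO : Cfsg.pPrimeCore p G = ⊥ :=
    hF _ (Cfsg.Agent.Lib.Helper2.pPrimeCore_normal p) (Cfsg.Agent.Lib.Helper2.pPrimeCore_coprime p)
  have hc := Cfsg.Agent.Lib.Helper3.centralizer_pCore_le hsol hO
  have hst : QuadStab p G := by
    by_cases h3' : p = 3
    · exact quadStab_of_abelian_sylow2 hp (h3 h3')
    · apply quadStab_of_pSolvable _ hsol
      have h2 := hpp.two_le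
      by_contra hlt
      push Not at hlt
      have : p = 4 := by omega
      rw [this] at hpp
      exact absurd hpp (by decide)
  exact factorization hp hc hst P g

end Cfsg.Agent.S0109
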