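import Mathlib
import Cfsg.Statements.S0119
import Cfsg.Agent.S0093
import Cfsg.Agent.Lib.Helper2.PGroupFrattini
import Cfsg.Agent.Lib.Helper16.Frattini2

set_option autoImplicit false
open Cfsg

namespace Cfsg.Agent.S0119

open scoped commutatorElement

section aux

variable {G : Type*} [Group G]

theorem comm_mul_left_of_central {x y g : G} (h : ⁅y, g⁆ ∈ Subgroup.center G) :
    ⁅x * y, g⁆ = ⁅x, g⁆ * ⁅y, g⁆ := by
  have e : ⁅x * y, g⁆ = x * ⁅y, g⁆ * x⁻¹ * ⁅x, g⁆ := by
    simp only [commutatorElement_def]; group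
  have h1 : x * ⁅y, g⁆ = ⁅y, g⁆ * x := Subgroup.mem_center_iff.mp h x
  have h2 : ⁅x, g⁆ * ⁅y, g⁆ = ⁅y, g⁆ * ⁅x, g⁆ := Subgroup.mem_center_iff.mp h _
  rw [e, h1, h2]; group

theorem comm_pow_left_of_central {x g : G} (h : ⁅x, g⁆ ∈ Subgroup.center G) (n : ℕ) :
    ⁅x ^ n, g⁆ = ⁅x, g⁆ ^ n := by
  induction n with
  | zero => simp
  | succ n ih => rw [pow_succ, comm_mul_left_of_central h, ih, pow_succ]

theorem comm_pow_right_of_central {x g : G} (h : ⁅x, g⁆ ∈ Subgroup.center G) (n : ℕ) :
    ⁅x, g ^ n⁆ = ⁅x, g⁆ ^ n := by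
  have h' : ⁅g, x⁆ ∈ Subgroup.center G := by
    rw [← commutatorElement_inv]; exact Subgroup.inv_mem _ h
  rw [← commutatorElement_inv, comm_pow_left_of_central h', ← inv_pow, commutatorElement_inv]

/-- conjugation by `x` fixes commutators if all `⁅x, g⁆` are central -/
theorem commutator_le_centralizer_of_central {x : G} (h : ∀ g, ⁅x, g⁆ ∈ Subgroup.center G) :
    commutator G ≤ Subgroup.centralizer {x} := by
  rw [commutator_def, Subgroup.commutator_le]
  intro g _ k _
  rw [Subgroup.mem_centralizer_iff]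
  intro x' hx'
  rw [Set.mem_singleton_iff.mp hx']
  -- `x g x⁻¹ = ⁅x,g⁆ g`
  have hg : x * g = ⁅x, g⁆ * g * x := by simp only [commutatorElement_def]; group
  have hk : x * k = ⁅x, k⁆ * k * x := by simp only [commutatorElement_def]; group
  have cg := Subgroup.mem_center_iff.mp (h g)
  have ck := Subgroup.mem_center_iff.mp (h k)
  -- `x ⁅g,k⁆ x⁻¹ = ⁅x g x⁻¹, x k x⁻¹⁆ = ⁅z g, z' k⁆ = ⁅g, k⁆`
  have e1 : x * ⁅g, k⁆ * x⁻¹ = ⁅x * g * x⁻¹, x * k * x⁻¹⁆ := by
    simp only [commutatorElement_def]; group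
  have e2 : x * g * x⁻¹ = ⁅x, g⁆ * g := by rw [hg]; group
  have e3 : x * k * x⁻¹ = ⁅x, k⁆ * k := by rw [hk]; group
  have e4 : ⁅⁅x, g⁆ * g, ⁅x, k⁆ * k⁆ = ⁅g, k⁆ := by
    set z := ⁅x, g⁆ with hz
    set z' := ⁅x, k⁆ with hz'
    have hzi : ∀ y, y * z⁻¹ = z⁻¹ * y := fun y =>
      Subgroup.mem_center_iff.mp (Subgroup.inv_mem _ (h g)) y
    have hz'i : ∀ y, y * z'⁻¹ = z'⁻¹ * y := fun y =>
      Subgroup.mem_center_iff.mp (Subgroup.inv_mem _ (h k)) y
    rw [commutatorElement_def, commutatorElement_def, mul_inv_rev, mul_inv_rev]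
    calc z * g * (z' * k) * (g⁻¹ * z⁻¹) * (k⁻¹ * z'⁻¹)
        = z * g * z' * k * g⁻¹ * (z⁻¹ * k⁻¹) * z'⁻¹ := by group
      _ = z * g * z' * k * g⁻¹ * (k⁻¹ * z⁻¹) * z'⁻¹ := by rw [hzi k⁻¹]
      _ = z * g * z' * (k * g⁻¹ * k⁻¹ * z⁻¹) * z'⁻¹ := by group
      _ = z * g * z' * (z⁻¹ * (k * g⁻¹ * k⁻¹)) * z'⁻¹ := by rw [hzi (k * g⁻¹ * k⁻¹)]
      _ = z * (g * z') * z⁻¹ * (k * g⁻¹ * k⁻¹) * z'⁻¹ := by group
      _ = z * (z' * g) * z⁻¹ * (k * g⁻¹ * k⁻¹) * z'⁻¹ := by rw [ck g]
      _ = z * z' * (g * z⁻¹) * (k * g⁻¹ * k⁻¹) * z'⁻¹ := by group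
      _ = z * z' * (z⁻¹ * g) * (k * g⁻¹ * k⁻¹) * z'⁻¹ := by rw [hzi g]
      _ = z * (z' * z⁻¹) * (g * k * g⁻¹ * k⁻¹ * z'⁻¹) := by group
      _ = z * (z⁻¹ * z') * (z'⁻¹ * (g * k * g⁻¹ * k⁻¹)) := by rw [hzi z', hz'i]
      _ = g * k * g⁻¹ * k⁻¹ := by group
  have e5 : x * ⁅g, k⁆ * x⁻¹ = ⁅g, k⁆ := by rw [e1, e2, e3, e4]
  calc x * ⁅g, k⁆ = (x * ⁅g, k⁆ * x⁻¹) * x := by group
    _ = ⁅g, k⁆ * x := by rw [e5]

end aux

/-- If a p'-group A of automorphisms of a p-group G satisfies G = [G, A] and acts trivially on every characteristic abelian subgroup, then G is special with centre equal to the fixed points of A. -/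
theorem result {G : Type*} [Group G] [Finite G] {p : ℕ} [Fact p.Prime] (hG : IsPGroup p G) (A : Subgroup (MulAut G)) (hA : Nat.Coprime (Nat.card A) p) (hGA : Subgroup.closure {x : G | ∃ g : G, ∃ a ∈ A, x = g⁻¹ * a g} = ⊤) (hchar : ∀ H : Subgroup G, H.Characteristic → IsMulCommutative H → ∀ a ∈ A, ∀ h ∈ H, a h = h) : Cfsg.IsSpecial p G ∧ (∀ g : G, (g ∈ Subgroup.center G ↔ ∀ a ∈ A, a g = g)) := by
  classical
  have hp : p.Prime := Fact.out
  have : Finite (MulAut G) := inferInstance
  have : Finite A := inferInstance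
  -- (1) characteristic abelian subgroups are central
  have hcen : ∀ H : Subgroup G, H.Characteristic → IsMulCommutative H → H ≤ Subgroup.center G := by
    intro H hHc hHab
    haveI := hHc
    have hHn : H.Normal := inferInstance
    have hle : (⊤ : Subgroup G) ≤ Subgroup.centralizer (H : Set G) := by
      rw [← hGA, Subgroup.closure_le]
      rintro x ⟨g, a, ha, rfl⟩
      rw [SetLike.mem_coe, Subgroup.mem_centralizer_iff]
      intro k hk
      have hk' : g * k * g⁻¹ ∈ H := hHn.conj_mem k hk g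
      have e1 : a (g * k * g⁻¹) = g * k * g⁻¹ := hchar H hHc hHab a ha _ hk'
      rw [map_mul, map_mul, hchar H hHc hHab a ha k hk, map_inv] at e1
      calc k * (g⁻¹ * a g) = g⁻¹ * (g * k * g⁻¹) * a g := by group
        _ = g⁻¹ * (a g * k * (a g)⁻¹) * a g := by rw [e1]
        _ = g⁻¹ * a g * k := by group
    intro k hk
    rw [Subgroup.mem_center_iff]
    intro g
    exact (Subgroup.mem_centralizer_iff.mp (hle (Subgroup.mem_top g)) k hk).symm
  -- (2) class at most two
  have hcl : commutator G ≤ Subgroup.center G := by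
    by_contra hcon
    -- `T = G' ∩ Z₂`
    let T : Subgroup G :=
      { carrier := {x | x ∈ commutator G ∧ ∀ g : G, ⁅x, g⁆ ∈ Subgroup.center G}
        one_mem' := ⟨Subgroup.one_mem _, fun g => by
          rw [commutatorElement_one_left]; exact Subgroup.one_mem _⟩
        mul_mem' := by
          rintro x y ⟨hx1, hx2⟩ ⟨hy1, hy2⟩
          refine ⟨Subgroup.mul_mem _ hx1 hy1, fun g => ?_⟩
          rw [comm_mul_left_of_central (hy2 g)]
          exact Subgroup.mul_mem _ (hx2 g) (hy2 g)
        inv_mem' := by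
          rintro x ⟨hx1, hx2⟩
          refine ⟨Subgroup.inv_mem _ hx1, fun g => ?_⟩
          have e : ⁅x⁻¹, g⁆ = x⁻¹ * (⁅x, g⁆)⁻¹ * x := by
            simp only [commutatorElement_def]; group
          rw [e]
          have hc := Subgroup.mem_center_iff.mp (Subgroup.inv_mem _ (hx2 g)) x⁻¹
          rw [hc]
          have : (⁅x, g⁆)⁻¹ * x⁻¹ * x = (⁅x, g⁆)⁻¹ := by group
          rw [this]
          exact Subgroup.inv_mem _ (hx2 g) }
    have hmemT : ∀ x, x ∈ T ↔ (x ∈ commutator G ∧ ∀ g : G, ⁅x, g⁆ ∈ Subgroup.center G) :=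
      fun x => Iff.rfl
    have hTchar : T.Characteristic := by
      rw [Subgroup.characteristic_iff_map_le]
      rintro φ _ ⟨x, hx, rfl⟩
      obtain ⟨hx1, hx2⟩ := (hmemT x).mp hx
      refine (hmemT _).mpr ⟨?_, fun g => ?_⟩
      · have hc : (commutator G).Characteristic := by
          rw [commutator_def]; infer_instance
        have := Subgroup.characteristic_iff_map_le.mp hc φ
        exact this ⟨x, hx1, rfl⟩
      · obtain ⟨g', rfl⟩ := φ.surjective g
        show ⁅φ x, φ g'⁆ ∈ Subgroup.center G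
        rw [← map_commutatorElement]
        have := Subgroup.characteristic_iff_map_le.mp
          (Subgroup.centerCharacteristic : (Subgroup.center G).Characteristic) φ
        exact this ⟨_, hx2 g', rfl⟩
    have hTab : IsMulCommutative T := by
      refine ⟨⟨fun x y => ?_⟩⟩
      apply Subtype.ext
      show (x : G) * y = y * x
      have h1 := commutator_le_centralizer_of_central ((hmemT x.1).mp x.2).2
      have h2 := h1 ((hmemT y.1).mp y.2).1
      rw [Subgroup.mem_centralizer_iff] at h2
      exact (h2 x.1 rfl)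
    have hTZ := hcen T hTchar hTab
    haveI : (commutator G).Normal := by rw [commutator_def]; infer_instance
    obtain ⟨x, hx1, hx2, _, hx4⟩ :=
      Cfsg.Agent.S0093.exists_central_mod hG (Subgroup.center G) (commutator G) hcon
    exact hx2 (hTZ ((hmemT x).mpr ⟨hx1, hx4⟩))
  have hcl' : ∀ x y : G, ⁅x, y⁆ ∈ Subgroup.center G := by
    intro x y
    apply hcl
    rw [commutator_def]
    exact Subgroup.commutator_mem_commutator (Subgroup.mem_top x) (Subgroup.mem_top y)
  -- (3) the centre is fixed by `A`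
  have hZfix : ∀ z ∈ Subgroup.center G, ∀ a ∈ A, a z = z := fun z hz a ha =>
    hchar (Subgroup.center G) Subgroup.centerCharacteristic inferInstance a ha z hz
  -- (4) fixed points lie in the commutator subgroup
  have hfixcomm : ∀ c : G, (∀ a ∈ A, a c = c) → c ∈ commutator G := by
    intro c hc
    letI : Fintype A := Fintype.ofFinite A
    let N : Abelianization G →* Abelianization G :=
      ∏ a : A, Abelianization.map ((a : MulAut G).toMonoidHom)
    have hN : ∀ g : G, N (Abelianization.of g) = ∏ a : A, Abelianization.of ((a : MulAut G) g) := by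
      intro g
      simp only [N, MonoidHom.finset_prod_apply]
      rfl
    have hker : ∀ g : G, N (Abelianization.of g) = 1 := by
      intro g
      have hmem : g ∈ (N.comp Abelianization.of).ker := by
        have hle : (⊤ : Subgroup G) ≤ (N.comp Abelianization.of).ker := by
          rw [← hGA, Subgroup.closure_le]
          rintro x ⟨g, b, hb, rfl⟩
          rw [SetLike.mem_coe, MonoidHom.mem_ker, MonoidHom.comp_apply, hN]
          have e : ∀ a : A, Abelianization.of ((a : MulAut G) (g⁻¹ * b g)) =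
              (Abelianization.of ((a : MulAut G) g))⁻¹ *
                Abelianization.of (((a * ⟨b, hb⟩ : A) : MulAut G) g) := by
            intro a
            rw [map_mul, map_mul, map_inv, map_inv]
            rfl
          simp_rw [e]
          rw [Finset.prod_mul_distrib, Finset.prod_inv_distrib]
          have := Equiv.prod_comp (Equiv.mulRight (⟨b, hb⟩ : A))
            (fun a : A => Abelianization.of ((a : MulAut G) g))
          simp only [Equiv.coe_mulRight] at this
          rw [this]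
          simp
        exact hle (Subgroup.mem_top g)
      exact hmem
    have h1 : (Abelianization.of c) ^ Nat.card A = 1 := by
      have := hker c
      rw [hN] at this
      have e : ∀ a : A, Abelianization.of ((a : MulAut G) c) = Abelianization.of c :=
        fun a => by rw [hc a a.2]
      simp_rw [e] at this
      rw [Finset.prod_const, Finset.card_univ, ← Nat.card_eq_fintype_card] at this
      exact this
    obtain ⟨k, hk⟩ := hG c
    have h2 : (Abelianization.of c) ^ (p ^ k) = 1 := by
      rw [← map_pow, hk, map_one]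
    have h3 : orderOf (Abelianization.of c) ∣ Nat.card A := orderOf_dvd_of_pow_eq_one h1
    have h4 : orderOf (Abelianization.of c) ∣ p ^ k := orderOf_dvd_of_pow_eq_one h2
    have h5 : orderOf (Abelianization.of c) = 1 :=
      Nat.eq_one_of_dvd_coprimes (hA.pow_right k) h3 h4
    rw [orderOf_eq_one_iff] at h5
    rw [← Abelianization.ker_of, MonoidHom.mem_ker]
    exact h5
  -- (5) equalities
  have hZcomm : Subgroup.center G ≤ commutator G := fun z hz => hfixcomm z (hZfix z hz)
  have heq : commutator G = Subgroup.center G := le_antisymm hcl hZcomm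
  -- (6) `p`-th powers are central
  have hpow : ∀ x : G, x ^ p ∈ Subgroup.center G := by
    -- the subgroup `R`
    let R : Subgroup G :=
      { carrier := {r | ∀ y : G, ⁅r, y⁆ ^ p = 1}
        one_mem' := fun y => by rw [commutatorElement_one_left, one_pow]
        mul_mem' := by
          intro r s hr hs y
          rw [comm_mul_left_of_central (hcl' s y)]
          have hc : Commute ⁅r, y⁆ ⁅s, y⁆ := (Subgroup.mem_center_iff.mp (hcl' s y) _)
          rw [hc.mul_pow, hr y, hs y, one_mul]
        inv_mem' := by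
          intro r hr y
          have e : ⁅r⁻¹, y⁆ = r⁻¹ * (⁅r, y⁆)⁻¹ * r := by
            simp only [commutatorElement_def]; group
          have hc := Subgroup.mem_center_iff.mp (Subgroup.inv_mem _ (hcl' r y)) r⁻¹
          have e2 : ⁅r⁻¹, y⁆ = (⁅r, y⁆)⁻¹ := by
            rw [e, hc]; group
          rw [e2, inv_pow, hr y, inv_one] }
    have hmemR : ∀ r, r ∈ R ↔ ∀ y : G, ⁅r, y⁆ ^ p = 1 := fun r => Iff.rfl
    have hRchar : R.Characteristic := by
      rw [Subgroup.characteristic_iff_map_le]
      rintro φ _ ⟨r, hr, rfl⟩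
      refine (hmemR _).mpr (fun y => ?_)
      obtain ⟨y', rfl⟩ := φ.surjective y
      show ⁅φ r, φ y'⁆ ^ p = 1
      rw [← map_commutatorElement, ← map_pow, (hmemR r).mp hr y', map_one]
    haveI := hRchar
    have hTab : IsMulCommutative (R ⊓ Subgroup.centralizer (R : Set G) : Subgroup G) := by
      refine ⟨⟨fun x y => ?_⟩⟩
      apply Subtype.ext
      show (x : G) * y = y * x
      exact (Subgroup.mem_centralizer_iff.mp (Subgroup.mem_inf.mp y.2).2) x.1
        (Subgroup.mem_inf.mp x.2).1
    have hTZ := hcen (R ⊓ Subgroup.centralizer (R : Set G)) inferInstance hTab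
    -- key: `w = v ^ p`, `w ^ p` central ⟹ `w` central
    have key : ∀ v : G, (v ^ p) ^ p ∈ Subgroup.center G → v ^ p ∈ Subgroup.center G := by
      intro v hv
      apply hTZ
      refine Subgroup.mem_inf.mpr ⟨(hmemR _).mpr (fun y => ?_), ?_⟩
      · rw [← comm_pow_left_of_central (hcl' _ y), commutatorElement_eq_one_iff_commute]
        exact (Subgroup.mem_center_iff.mp hv y).symm
      · rw [Subgroup.mem_centralizer_iff]
        intro r hr
        have h1 : ⁅r, v ^ p⁆ = 1 := by
          rw [comm_pow_right_of_central (hcl' r v)]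
          exact (hmemR r).mp hr v
        exact (commutatorElement_eq_one_iff_commute.mp h1).eq
    intro x
    -- minimal `k` with `x ^ p ^ k` central
    have hex : ∃ k, x ^ p ^ k ∈ Subgroup.center G := by
      obtain ⟨k, hk⟩ := hG x
      exact ⟨k, by rw [hk]; exact Subgroup.one_mem _⟩
    have hmin : ∀ m, m < Nat.find hex → ¬ x ^ p ^ m ∈ Subgroup.center G :=
      fun m hm => Nat.find_min hex hm
    have hspec := Nat.find_spec hex
    set k := Nat.find hex with hkdef
    rcases Nat.lt_or_ge k 2 with hk2 | hk2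
    · interval_cases k
      · rw [pow_zero, pow_one] at hspec
        exact Subgroup.pow_mem _ hspec p
      · rwa [pow_one] at hspec
    · exfalso
      apply hmin (k - 1) (by omega)
      have e1 : x ^ p ^ (k - 1) = (x ^ p ^ (k - 2)) ^ p := by
        rw [← pow_mul, ← pow_succ]
        congr 2; omega
      rw [e1]
      apply key
      rw [← pow_mul, ← pow_mul]
      have : p ^ (k - 2) * (p * p) = p ^ k := by
        rw [← mul_assoc, ← pow_succ, ← pow_succ]
        congr 1; omega
      rw [this]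
      exact hspec
  -- (7) conclusion
  refine ⟨⟨hG, ?_, heq⟩, fun g => ⟨fun hg a ha => hZfix g hg a ha, fun hg => hcl (hfixcomm g hg)⟩⟩
  apply le_antisymm
  · apply Cfsg.Agent.Lib.Helper16.frattini_le_of_forall (p := p)
    · exact hcl'
    · exact hpow
  · rw [← heq]
    exact Cfsg.Agent.Lib.Helper2.commutator_le_frattini_of_isPGroup hG

end Cfsg.Agent.S0119
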