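import Cfsg.Statements.S0123
import Mathlib
import Cfsg.Agent.S0124

set_option autoImplicit false
open Cfsg

namespace Cfsg.Agent.S0123

theorem lcs_two_eq {R : Type*} [Group R] :
    (⊤ : Subgroup R).lowerCentralSeries 2 = ⁅commutator R, (⊤ : Subgroup R)⁆ := rfl

theorem result {R : Type*} [Group R] [Finite R] {p : ℕ} [Fact p.Prime] (hR : IsPGroup p R) (hcl : (p ≠ 2 ∧ ⁅commutator R, (⊤ : Subgroup R)⁆ = ⊥) ∨ (3 < p ∧ ⁅⁅commutator R, (⊤ : Subgroup R)⁆, (⊤ : Subgroup R)⁆ = ⊥)) (hder : commutator R ≤ Subgroup.closure {x : R | x ^ p = 1}) (x y : R) : (x * y) ^ p = x ^ p * y ^ p := by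
  have hp : p.Prime := Fact.out
  have h3 : (⊤ : Subgroup R).lowerCentralSeries (p - 1) = ⊥ := by
    rcases hcl with ⟨hp2, h⟩ | ⟨hp3, h⟩
    · have hp3 : 2 ≤ p - 1 := by
        have := hp.two_le
        omega
      have h1 : (⊤ : Subgroup R).lowerCentralSeries (p - 1) ≤
          (⊤ : Subgroup R).lowerCentralSeries 2 :=
        Subgroup.lowerCentralSeries_antitone _ hp3
      rw [lcs_two_eq, h] at h1
      exact le_bot_iff.mp h1
    · have h1 : (⊤ : Subgroup R).lowerCentralSeries (p - 1) ≤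
          (⊤ : Subgroup R).lowerCentralSeries 3 :=
        Subgroup.lowerCentralSeries_antitone _ (by omega)
      rw [Cfsg.Agent.S0124.lcs_three_eq, h] at h1
      exact le_bot_iff.mp h1
  have hreg := Cfsg.Agent.S4209.result hR h3
  obtain ⟨c, hc, hxy⟩ := hreg.2 x y 1
  rw [pow_one] at hxy
  have hbot : powerClosure p 1 ⁅Subgroup.closure ({x, y} : Set R),
      Subgroup.closure ({x, y} : Set R)⁆ = ⊥ := by
    apply Cfsg.Agent.Lib.Helper14.powerClosure_eq_bot
    intro z hz
    rw [pow_one]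
    apply Cfsg.Agent.S0124.omega_exp_of_regular hreg
    apply hder
    rw [commutator_def]
    exact Subgroup.commutator_mono le_top le_top hz
  rw [hbot, Subgroup.mem_bot] at hc
  rw [hxy, hc, mul_one]

end Cfsg.Agent.S0123
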