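import Cfsg.Statements.S0125
import Cfsg.Agent.Lib.Helper26.SylowNormal

set_option autoImplicit false
open Cfsg

namespace Cfsg.Agent.S0125
open Cfsg.Agent.Lib.Helper26

/-- The centralizer of a self-centralizing normal subgroup A of a Sylow p-subgroup is the direct product of A with a normal p'-subgroup. -/
theorem result {G : Type*} [Group G] [Finite G] {p : ℕ} [Fact p.Prime] (R : Sylow p G) (A : Subgroup G) (hAR : A ≤ (R : Subgroup G)) (hAn : (R : Subgroup G) ≤ Subgroup.normalizer (A : Set G)) (hC : (R : Subgroup G) ⊓ Subgroup.centralizer (A : Set G) = A) : ∃ H : Subgroup G, H ≤ Subgroup.centralizer (A : Set G) ∧ Nat.Coprime (Nat.card H) p ∧ Subgroup.centralizer (A : Set G) ≤ Subgroup.normalizer (H : Set G) ∧ H ⊓ A = ⊥ ∧ H ⊔ A = Subgroup.centralizer (A : Set G) := by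
  classical
  have hCN : Subgroup.centralizer (A : Set G) ≤ Subgroup.normalizer (A : Set G) :=
    Subgroup.centralizer_le_normalizer _
  obtain ⟨Q, hQ⟩ := exists_sylow_eq_inf_subgroupOf R (Subgroup.centralizer (A : Set G))
    (Subgroup.normalizer (A : Set G)) hAn hCN
  rw [hC] at hQ
  have hAC : A ≤ Subgroup.centralizer (A : Set G) := le_trans hC.ge inf_le_right
  have hcent : ∀ (x y : Subgroup.centralizer (A : Set G)),
      y ∈ A.subgroupOf (Subgroup.centralizer (A : Set G)) → y * x = x * y := by
    intro x y hy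
    apply Subtype.ext
    show (y : G) * (x : G) = (x : G) * (y : G)
    exact (Subgroup.mem_centralizer_iff.1 x.2) (y : G) (Subgroup.mem_subgroupOf.1 hy)
  have hP : Subgroup.normalizer ((Q : Subgroup (Subgroup.centralizer (A : Set G))) :
        Set (Subgroup.centralizer (A : Set G))) ≤
      Subgroup.centralizer ((Q : Subgroup (Subgroup.centralizer (A : Set G))) :
        Set (Subgroup.centralizer (A : Set G))) := by
    intro x _
    rw [Subgroup.mem_centralizer_iff]
    intro y hy
    have hy' : y ∈ (Q : Subgroup (Subgroup.centralizer (A : Set G))) := hy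
    rw [hQ] at hy'
    exact hcent x y hy'
  have hcomp := MonoidHom.ker_transferSylow_isComplement' Q hP
  have hQidx : ¬ p ∣ (Q : Subgroup (Subgroup.centralizer (A : Set G))).index := Q.not_dvd_index
  refine ⟨(MonoidHom.transferSylow Q hP).ker.map (Subgroup.centralizer (A : Set G)).subtype,
    ?_, ?_, ?_, ?_, ?_⟩
  · exact Subgroup.map_subtype_le _
  · rw [Subgroup.card_map_of_injective (Subgroup.subtype_injective _), ← hcomp.index_eq_card]
    exact ((Nat.Prime.coprime_iff_not_dvd Fact.out).2 hQidx).symm
  · have h1 := Subgroup.le_normalizer_map (H := (MonoidHom.transferSylow Q hP).ker)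
      (Subgroup.centralizer (A : Set G)).subtype
    rw [Subgroup.normalizer_eq_top, ← MonoidHom.range_eq_map, Subgroup.range_subtype] at h1
    exact h1
  · rw [eq_bot_iff]
    rintro x ⟨hxH, hxA⟩
    obtain ⟨t, ht, rfl⟩ := Subgroup.mem_map.1 hxH
    have htQ : t ∈ (Q : Subgroup (Subgroup.centralizer (A : Set G))) := by
      rw [hQ]; exact Subgroup.mem_subgroupOf.2 hxA
    have h1 : t ∈ (⊥ : Subgroup (Subgroup.centralizer (A : Set G))) :=
      hcomp.disjoint.le_bot (Subgroup.mem_inf.2 ⟨ht, htQ⟩)
    rw [Subgroup.mem_bot] at h1 ⊢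
    rw [h1]; rfl
  · have h1 := hcomp.sup_eq_top
    have h2 : ((MonoidHom.transferSylow Q hP).ker ⊔
        (Q : Subgroup (Subgroup.centralizer (A : Set G)))).map
        (Subgroup.centralizer (A : Set G)).subtype = Subgroup.centralizer (A : Set G) := by
      rw [h1, ← MonoidHom.range_eq_map, Subgroup.range_subtype]
    have hmapQ : (Q : Subgroup (Subgroup.centralizer (A : Set G))).map
        (Subgroup.centralizer (A : Set G)).subtype = A := by
      rw [hQ, Subgroup.map_subgroupOf_eq_of_le hAC]
    rw [Subgroup.map_sup, hmapQ] at h2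
    exact h2

end Cfsg.Agent.S0125
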