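import Cfsg.Statements.S0131

set_option autoImplicit false
open Cfsg

namespace Cfsg.Agent.S0131

/-- P/P' has a normal complement in G exactly when the focal subgroup G' ∩ P is as small as possible, namely P'. -/
theorem result {G : Type*} [Group G] [Finite G] {p : ℕ} [Fact p.Prime] (P : Sylow p G) : (∃ N : Subgroup G, N.Normal ∧ N ⊓ (P : Subgroup G) = ⁅(P : Subgroup G), (P : Subgroup G)⁆ ∧ N ⊔ (P : Subgroup G) = ⊤) ↔ commutator G ⊓ (P : Subgroup G) = ⁅(P : Subgroup G), (P : Subgroup G)⁆ := by
  have hp : p.Prime := Fact.out
  have hPP : ⁅(P : Subgroup G), (P : Subgroup G)⁆ ≤ commutator G ⊓ P := by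
    refine le_inf (Subgroup.commutator_mono le_top le_top) ?_
    rw [Subgroup.commutator_le]
    intro g1 h1 g2 h2
    exact (P : Subgroup G).mul_mem ((P : Subgroup G).mul_mem ((P : Subgroup G).mul_mem h1 h2) (inv_mem h1)) (inv_mem h2)
  constructor
  · rintro ⟨N, hN, hNP, hsup⟩
    refine le_antisymm ?_ hPP
    have hGN : commutator G ≤ N := by
      have h1 : Subgroup.map (QuotientGroup.mk' N) (commutator G) = ⊥ := by
        rw [commutator_def, Subgroup.map_commutator, ← hsup, Subgroup.map_sup,
          QuotientGroup.map_mk'_self, bot_sup_eq, ← Subgroup.map_commutator, ← hNP, eq_bot_iff]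
        calc Subgroup.map (QuotientGroup.mk' N) (N ⊓ P) ≤ Subgroup.map (QuotientGroup.mk' N) N :=
              Subgroup.map_mono inf_le_left
          _ = ⊥ := QuotientGroup.map_mk'_self N
      have h2 := (Subgroup.map_eq_bot_iff _).mp h1
      rwa [QuotientGroup.ker_mk'] at h2
    calc commutator G ⊓ P ≤ N ⊓ P := inf_le_inf_right _ hGN
      _ = _ := hNP
  · intro h
    classical
    have hfin : Finite (Abelianization G) := by
      unfold Abelianization; infer_instance
    set n := Nat.card (Abelianization G) with hn
    have hn0 : n ≠ 0 := Nat.card_pos.ne'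
    set m := ordCompl[p] n with hm
    have hmp : Nat.Coprime p m := Nat.coprime_ordCompl hp hn0
    have hmn : ordProj[p] n * m = n := Nat.ordProj_mul_ordCompl_eq_self n p
    let K : Subgroup (Abelianization G) := (powMonoidHom m : Abelianization G →* Abelianization G).ker
    have hKN : (K.comap Abelianization.of).Normal := inferInstance
    have hGK : commutator G ≤ K.comap Abelianization.of := by
      rw [← Abelianization.ker_of]
      intro x hx
      rw [Subgroup.mem_comap, MonoidHom.mem_ker.mp hx]
      exact K.one_mem
    refine ⟨K.comap Abelianization.of, hKN, ?_, ?_⟩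
    · refine le_antisymm ?_ (le_inf (le_trans (le_trans hPP inf_le_left) hGK) (le_trans hPP inf_le_right))
      rw [← h]
      rintro x ⟨hxN, hxP⟩
      refine ⟨?_, hxP⟩
      rw [← Abelianization.ker_of]
      show x ∈ Abelianization.of.ker
      rw [MonoidHom.mem_ker]
      have h1 : (Abelianization.of x) ^ m = 1 := by
        have h0 : x ∈ K.comap Abelianization.of := hxN
        rw [Subgroup.mem_comap, MonoidHom.mem_ker] at h0
        simpa using h0
      obtain ⟨j, hj⟩ := (IsPGroup.iff_orderOf.mp P.2) ⟨x, hxP⟩
      have h2 : (Abelianization.of x) ^ (p ^ j) = 1 := by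
        have h3 : x ^ (p ^ j) = 1 := by
          have := pow_orderOf_eq_one (⟨x, hxP⟩ : (P : Subgroup G))
          rw [hj] at this
          exact congrArg Subtype.val this
        rw [← map_pow, h3, map_one]
      have h4 : orderOf (Abelianization.of x) ∣ Nat.gcd m (p ^ j) :=
        Nat.dvd_gcd (orderOf_dvd_of_pow_eq_one h1) (orderOf_dvd_of_pow_eq_one h2)
      have h5 : Nat.gcd m (p ^ j) = 1 := (Nat.Coprime.pow_right j hmp.symm)
      rw [h5, Nat.dvd_one, orderOf_eq_one_iff] at h4
      exact h4
    · rw [← Subgroup.index_eq_one]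
      have hPi : ¬ p ∣ (P : Subgroup G).index := P.not_dvd_index
      have h1 : (K.comap Abelianization.of ⊔ (P : Subgroup G)).index ∣ (P : Subgroup G).index :=
        Subgroup.index_dvd_of_le le_sup_right
      have h2 : (K.comap Abelianization.of ⊔ (P : Subgroup G)).index ∣ (K.comap Abelianization.of).index :=
        Subgroup.index_dvd_of_le le_sup_left
      have h3 : (K.comap Abelianization.of).index = K.index := by
        rw [Subgroup.index_comap_of_surjective]
        exact QuotientGroup.mk_surjective
      have h4 : IsPGroup p (Abelianization G ⧸ K) := by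
        intro a
        obtain ⟨b, rfl⟩ := QuotientGroup.mk_surjective a
        refine ⟨n.factorization p, ?_⟩
        rw [← QuotientGroup.mk_pow, QuotientGroup.eq_one_iff, MonoidHom.mem_ker]
        simp only [powMonoidHom_apply]
        rw [← pow_mul, hmn, hn]
        exact pow_card_eq_one'
      obtain ⟨k, hk⟩ := h4.exists_card_eq
      have hk' : K.index = p ^ k := hk
      rw [h3, hk'] at h2
      have h6 : Nat.Coprime (p ^ k) (P : Subgroup G).index :=
        Nat.Coprime.pow_left k ((Nat.Prime.coprime_iff_not_dvd hp).mpr hPi)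
      exact Nat.eq_one_of_dvd_coprimes h6 h2 h1

end Cfsg.Agent.S0131
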