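import Cfsg.Statements.S0132
import Cfsg.Agent.Lib.Helper11.FrobeniusLocal

set_option autoImplicit false
open Cfsg

namespace Cfsg.Agent.S0132

open Subgroup Cfsg.Agent.Lib.Helper11

/-- An element of order prime to `p` lies in every normal `p`-complement. -/
theorem mem_of_coprime_of_isComplement' {H : Type*} [Group H] [Finite H] {p : ℕ} [Fact p.Prime]
    (P : Sylow p H) (N : Subgroup H) [N.Normal] (hN : N.IsComplement' (P : Subgroup H)) (x : H)
    (hx : (orderOf x).Coprime p) : x ∈ N := by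
  obtain ⟨k, hk⟩ := P.2.exists_card_eq
  have hidx : N.index = p ^ k := by rw [hN.symm.index_eq_card, hk]
  have h1 : orderOf (QuotientGroup.mk x : H ⧸ N) ∣ orderOf x := by
    apply orderOf_dvd_of_pow_eq_one
    rw [← QuotientGroup.mk_pow, pow_orderOf_eq_one]
    rfl
  have h2 : orderOf (QuotientGroup.mk x : H ⧸ N) ∣ p ^ k := by
    rw [← hidx, Subgroup.index_eq_card]
    exact orderOf_dvd_natCard _
  have h3 : orderOf (QuotientGroup.mk x : H ⧸ N) = 1 :=
    Nat.eq_one_of_dvd_coprimes (Nat.Coprime.pow_right k hx) h1 h2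
  rw [orderOf_eq_one_iff, QuotientGroup.eq_one_iff] at h3
  exact h3

/-- An element of `p`-power order in a normal `p`-complement is trivial. -/
theorem eq_one_of_mem_of_pow {H : Type*} [Group H] [Finite H] {p : ℕ} [Fact p.Prime]
    (P : Sylow p H) (N : Subgroup H) (hN : N.IsComplement' (P : Subgroup H)) (c : H)
    (hc : c ∈ N) (j : ℕ) (hcj : c ^ p ^ j = 1) : c = 1 := by
  have hp : p.Prime := Fact.out
  have h1 : Nat.card N = (P : Subgroup H).index := hN.index_eq_card.symm
  have h2 : ¬ p ∣ Nat.card N := by rw [h1]; exact P.not_dvd_index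
  have h3 : orderOf c ∣ Nat.card N := Subgroup.orderOf_dvd_natCard N hc
  have h4 : orderOf c ∣ p ^ j := orderOf_dvd_of_pow_eq_one hcj
  have hcop : (Nat.card N).Coprime (p ^ j) :=
    Nat.Coprime.pow_right j ((Nat.Prime.coprime_iff_not_dvd hp).2 h2).symm
  have := Nat.eq_one_of_dvd_coprimes hcop h3 h4
  exact orderOf_eq_one_iff.1 this

/-- A minimal non-p-nilpotent finite group is a minimal non-nilpotent group with a normal Sylow p-subgroup. -/
theorem result {G : Type*} [Group G] [Finite G] {p : ℕ} [Fact p.Prime] (h1 : ¬ Cfsg.HasNormalPComplement p G) (h2 : ∀ H : Subgroup G, H ≠ ⊤ → Cfsg.HasNormalPComplement p H) : (∀ H : Subgroup G, H ≠ ⊤ → Group.IsNilpotent H) ∧ ¬ Group.IsNilpotent G ∧ ∀ P : Sylow p G, (P : Subgroup G).Normal := by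
  classical
  have hp : p.Prime := Fact.out
  -- G is not nilpotent
  have hnil : ¬ Group.IsNilpotent G := by
    intro hn
    obtain ⟨P⟩ : Nonempty (Sylow p G) := inferInstance
    obtain ⟨K, hKn, hK⟩ := exists_normal_complement_of_fusion P
      (fun x hx g _ => exists_sylow_conj_of_isNilpotent P x hx g)
    exact h1 ⟨P, K, hKn, hK⟩
  -- Step A
  have hloc : ¬ LocalPNilpotent p G := by
    intro hc
    obtain ⟨P⟩ : Nonempty (Sylow p G) := inferInstance
    obtain ⟨K, hKn, hK⟩ := exists_normal_complement_of_local hc P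
    exact h1 ⟨P, K, hKn, hK⟩
  unfold LocalPNilpotent at hloc
  push_neg at hloc
  obtain ⟨D, hD, g, hgN, hgo, hgC⟩ := hloc
  -- Step B
  have hHtop : D ⊔ zpowers g = ⊤ := by
    by_contra hne
    obtain ⟨P, N, hNn, hN⟩ := h2 (D ⊔ zpowers g) hne
    apply hgC
    rw [mem_centralizer_iff]
    intro d hd
    have hgH : g ∈ D ⊔ zpowers g := le_sup_right (a := D) (mem_zpowers g)
    have hdH : d ∈ D ⊔ zpowers g := le_sup_left (b := zpowers g) hd
    let g' : ↥(D ⊔ zpowers g) := ⟨g, hgH⟩
    let d' : ↥(D ⊔ zpowers g) := ⟨d, hdH⟩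
    have hg'o : (orderOf g').Coprime p := by
      have : orderOf g' = orderOf g := by
        rw [← Subgroup.orderOf_coe g']
      rw [this]; exact hgo
    have hg'N : g' ∈ N := mem_of_coprime_of_isComplement' P N hN g' hg'o
    have hcN : g' * d' * g'⁻¹ * d'⁻¹ ∈ N := by
      have : g' * d' * g'⁻¹ * d'⁻¹ = g' * (d' * g'⁻¹ * d'⁻¹) := by group
      rw [this]
      exact N.mul_mem hg'N (hNn.conj_mem _ (N.inv_mem hg'N) d')
    have hcD : g * d * g⁻¹ * d⁻¹ ∈ D := by
      have := (mem_normalizer_iff.1 hgN d).1 hd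
      exact D.mul_mem this (D.inv_mem hd)
    obtain ⟨j, hj⟩ := hD ⟨_, hcD⟩
    have hj' : (g * d * g⁻¹ * d⁻¹) ^ p ^ j = 1 := by
      have := congrArg Subtype.val hj
      simpa using this
    have hc1 : g' * d' * g'⁻¹ * d'⁻¹ = 1 := by
      apply eq_one_of_mem_of_pow P N hN _ hcN j
      apply Subtype.ext
      simpa [g', d'] using hj'
    have hc2 : g * d * g⁻¹ * d⁻¹ = 1 := by
      have := congrArg Subtype.val hc1
      simpa [g', d'] using this
    have : g * d = d * g := by
      have h3 : g * d * g⁻¹ * d⁻¹ * (d * g) = g * d := by group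
      rw [hc2, one_mul] at h3
      exact h3.symm
    exact this.symm
  -- Step C
  have hDn : D.Normal := by
    rw [← normalizer_eq_top_iff, eq_top_iff, ← hHtop, sup_le_iff]
    refine ⟨le_normalizer, ?_⟩
    rw [zpowers_le]
    exact hgN
  have hidx : D.index ∣ orderOf g := by
    have h3 : D.relIndex (zpowers g ⊔ D) = D.relIndex (zpowers g) := relIndex_sup_right _ _
    rw [sup_comm, hHtop, relIndex_top_right] at h3
    rw [h3, ← Nat.card_zpowers]
    exact relIndex_dvd_card _ _
  have hidxcop : (D.index).Coprime p := Nat.Coprime.coprime_dvd_left hidx hgo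
  -- G/D is abelian
  have hcomm : ∀ a b : G, a * b * a⁻¹ * b⁻¹ ∈ D := by
    have hrep : ∀ a : G, ∃ k : ℤ, (QuotientGroup.mk a : G ⧸ D) = (QuotientGroup.mk g) ^ k := by
      intro a
      have ha : a ∈ D ⊔ zpowers g := hHtop ▸ mem_top a
      rw [mem_sup_of_normal_left] at ha
      obtain ⟨d, hd, z, hz, rfl⟩ := ha
      obtain ⟨k, rfl⟩ := mem_zpowers_iff.1 hz
      refine ⟨k, ?_⟩
      rw [QuotientGroup.mk_mul, (QuotientGroup.eq_one_iff d).2 hd, one_mul, QuotientGroup.mk_zpow]
    intro a b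
    obtain ⟨k, hk⟩ := hrep a
    obtain ⟨l, hl⟩ := hrep b
    rw [← QuotientGroup.eq_one_iff]
    simp only [QuotientGroup.mk_mul, QuotientGroup.mk_inv, hk, hl]
    rw [← zpow_add, ← zpow_neg, ← zpow_add, ← zpow_neg, ← zpow_add]
    have : k + l + -k + -l = 0 := by ring
    rw [this, zpow_zero]
  -- p-elements lie in D
  have hpel : ∀ x : G, ∀ j : ℕ, x ^ p ^ j = 1 → x ∈ D := by
    intro x j hxj
    have h3 : orderOf (QuotientGroup.mk x : G ⧸ D) ∣ p ^ j := by
      apply orderOf_dvd_of_pow_eq_one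
      rw [← QuotientGroup.mk_pow, hxj]
      rfl
    have h4 : orderOf (QuotientGroup.mk x : G ⧸ D) ∣ D.index := by
      rw [Subgroup.index_eq_card]
      exact orderOf_dvd_natCard _
    have := Nat.eq_one_of_dvd_coprimes (Nat.Coprime.pow_right j hidxcop) h4 h3
    rw [orderOf_eq_one_iff, QuotientGroup.eq_one_iff] at this
    exact this
  refine ⟨?_, hnil, ?_⟩
  · -- Step D
    intro K hK
    obtain ⟨P, N, hNn, hN⟩ := h2 K hK
    have hcen : N ≤ center K := by
      intro n hn
      rw [mem_center_iff]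
      intro k
      have hcN : k * n * k⁻¹ * n⁻¹ ∈ N :=
        N.mul_mem (hNn.conj_mem n hn k) (N.inv_mem hn)
      have hcD : ((k * n * k⁻¹ * n⁻¹ : K) : G) ∈ D := by
        have := hcomm (k : G) (n : G)
        simpa using this
      obtain ⟨j, hj⟩ := hD ⟨_, hcD⟩
      have hj' : (k * n * k⁻¹ * n⁻¹) ^ p ^ j = 1 := by
        have := congrArg Subtype.val hj
        apply Subtype.ext
        simpa using this
      have hc1 := eq_one_of_mem_of_pow P N hN _ hcN j hj'
      have h3 : k * n * k⁻¹ * n⁻¹ * (n * k) = k * n := by group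
      rw [hc1, one_mul] at h3
      exact h3.symm
    have hquot : IsPGroup p (K ⧸ N) := by
      obtain ⟨k, hk⟩ := P.2.exists_card_eq
      apply IsPGroup.of_card (n := k)
      rw [← Subgroup.index_eq_card, hN.symm.index_eq_card, hk]
    haveI : Group.IsNilpotent (K ⧸ N) := hquot.isNilpotent
    apply Subgroup.isNilpotent_of_ker_le_center (QuotientGroup.mk' N)
    rw [QuotientGroup.ker_mk']
    exact hcen
  · intro P
    have hPD : (P : Subgroup G) ≤ D := by
      intro x hx
      obtain ⟨j, hj⟩ := P.2 ⟨x, hx⟩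
      have hj' : x ^ p ^ j = 1 := by
        have := congrArg Subtype.val hj
        simpa using this
      exact hpel x j hj'
    have := P.is_maximal' hD hPD
    rw [← this]
    exact hDn

end Cfsg.Agent.S0132
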