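import Cfsg.Statements.S0147
import Cfsg.Agent.Lib.Helper26.CharBasic

set_option autoImplicit false
open Cfsg

namespace Cfsg.Agent.S0147

open Cfsg.Agent.Lib.Helper26
open scoped ComplexConjugate

theorem indFun_apply' {G : Type*} [Group G] [Fintype G] (H : Subgroup G) (θ : H → ℂ) (g : G) :
    Cfsg.indFun H θ g = (Nat.card H : ℂ)⁻¹ * ∑ x : G, Cfsg.extendByZero H θ (x⁻¹ * g * x) := rfl

/-- Transitivity of induction: inducing from H to K and then from K to G is the same as inducing from H to G. -/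
theorem result {G : Type*} [Group G] [Fintype G] (H K : Subgroup G) [Fintype K] (hHK : H ≤ K) (θ : H → ℂ) : Cfsg.indFun K (Cfsg.indFun (H.subgroupOf K) (fun x => θ ⟨(x : K), Subgroup.mem_subgroupOf.mp x.2⟩)) = Cfsg.indFun H θ := by
  classical
  funext g
  have hA : ∀ k : K, Cfsg.extendByZero (H.subgroupOf K)
      (fun x => θ ⟨(x : K), Subgroup.mem_subgroupOf.mp x.2⟩) k = Cfsg.extendByZero H θ (k : G) := by
    intro k
    by_cases hk : (k : G) ∈ H
    · have hk' : k ∈ H.subgroupOf K := Subgroup.mem_subgroupOf.mpr hk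
      rw [extendByZero_apply_mem _ _ k hk', extendByZero_apply_mem H θ _ hk]
    · have hk' : k ∉ H.subgroupOf K := fun h => hk (Subgroup.mem_subgroupOf.mp h)
      rw [extendByZero_apply_not_mem _ _ k hk', extendByZero_apply_not_mem H θ _ hk]
  have hcard : Nat.card (H.subgroupOf K) = Nat.card H :=
    Nat.card_congr (Subgroup.subgroupOfEquivOfLe hHK).toEquiv
  have hB : ∀ u : G, Cfsg.extendByZero K (Cfsg.indFun (H.subgroupOf K)
      (fun x => θ ⟨(x : K), Subgroup.mem_subgroupOf.mp x.2⟩)) u =
      (Nat.card H : ℂ)⁻¹ * ∑ y : K, Cfsg.extendByZero H θ ((y : G)⁻¹ * u * y) := by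
    intro u
    by_cases hu : u ∈ K
    · rw [extendByZero_apply_mem K _ u hu, indFun_apply', hcard]
      congr 1
      apply Finset.sum_congr rfl
      intro y _
      rw [hA]
      rfl
    · rw [extendByZero_apply_not_mem K _ u hu]
      symm
      apply mul_eq_zero_of_right
      apply Finset.sum_eq_zero
      intro y _
      apply extendByZero_apply_not_mem
      intro h
      apply hu
      have h1 : (y : G)⁻¹ * u * y ∈ K := hHK h
      have h2 : u = y * ((y : G)⁻¹ * u * y) * (y : G)⁻¹ := by group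
      rw [h2]
      exact K.mul_mem (K.mul_mem y.2 h1) (K.inv_mem y.2)
  rw [indFun_apply', indFun_apply']
  simp_rw [hB]
  rw [← Finset.mul_sum, Finset.sum_comm]
  have hC : ∀ y : K, ∑ x : G, Cfsg.extendByZero H θ ((y : G)⁻¹ * (x⁻¹ * g * x) * y) =
      ∑ z : G, Cfsg.extendByZero H θ (z⁻¹ * g * z) := by
    intro y
    apply Fintype.sum_equiv (Equiv.mulRight (y : G))
    intro x
    simp only [Equiv.coe_mulRight]
    congr 1
    group
  simp_rw [hC]
  rw [Finset.sum_const, Finset.card_univ, nsmul_eq_mul, ← Nat.card_eq_fintype_card]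
  have hne : (Nat.card K : ℂ) ≠ 0 := by
    have : Nat.card K ≠ 0 := Nat.card_pos.ne'
    exact_mod_cast this
  field_simp

end Cfsg.Agent.S0147
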