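import Cfsg.Statements.S0151
import Cfsg.Agent.Lib.Helper26.CharBasic

set_option autoImplicit false
open Cfsg
open Cfsg.Agent.Lib.Helper26

namespace Cfsg.Agent.S0151

/-- The irreducible complex characters of a finite group are linearly independent over ℂ as functions on the group. -/
theorem result {G : Type*} [Group G] [Finite G] : LinearIndependent ℂ (fun χ : Cfsg.IrrCharacter G => (χ : G → ℂ)) := by
  classical
  have : Fintype G := Fintype.ofFinite G
  rw [linearIndependent_iff']
  intro s c hc χ hχ
  -- take inner product with χ
  have h1 : classInner (∑ i ∈ s, c i • (i : G → ℂ)) (χ : G → ℂ) = 0 := by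
    rw [hc, classInner_zero_left]
  have h2 : ∀ (t : Finset (IrrCharacter G)),
      classInner (∑ i ∈ t, c i • (i : G → ℂ)) (χ : G → ℂ) = ∑ i ∈ t, c i * (if (i : G → ℂ) = χ then 1 else 0) := by
    intro t
    induction t using Finset.induction_on with
    | empty => simp [classInner_zero_left]
    | insert a t ha ih =>
      rw [Finset.sum_insert ha, Finset.sum_insert ha, classInner_add_left, ih, classInner_smul_left,
        classInner_irr a.2 χ.2]
  rw [h2] at h1
  have h3 : ∑ i ∈ s, c i * (if (i : G → ℂ) = χ then (1:ℂ) else 0) = c χ := by
    rw [Finset.sum_eq_single χ]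
    · simp
    · intro b _ hb
      have : (b : G → ℂ) ≠ χ := fun h => hb (Subtype.ext h)
      simp [this]
    · intro h; exact absurd hχ h
  rw [h3] at h1
  exact h1

end Cfsg.Agent.S0151
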