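import Cfsg.Statements.S0156
import Cfsg.Agent.Lib.Helper4.CharOrtho
import Cfsg.Agent.S0155

set_option autoImplicit false
open Cfsg

namespace Cfsg.Agent.S0156

/-- The character of the left regular representation is the sum over the irreducible characters χ of χ 1 • χ. -/
theorem result {G : Type*} [Group G] [Fintype G] : (Representation.leftRegular ℂ G).character = ∑ᶠ χ : Cfsg.IrrCharacter G, (χ : G → ℂ) 1 • (χ : G → ℂ) := by
  classical
  have : Fintype (Cfsg.IrrCharacter G) := Fintype.ofFinite _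
  rw [finsum_eq_sum_of_fintype]
  ext g
  rw [Cfsg.Agent.S0155.result g, Finset.sum_apply]
  simp only [Pi.smul_apply, smul_eq_mul]
  have hcol := Cfsg.Agent.Lib.Helper4.column_orthogonality g 1
  have hreal : ∀ χ : Cfsg.IrrCharacter G,
      (starRingEnd ℂ) ((χ : G → ℂ) 1) = (χ : G → ℂ) 1 := by
    intro χ
    obtain ⟨n, ρ, hρ, h⟩ := χ.2
    rw [← h, Representation.char_one]
    simp
  have hsum : ∑ χ : Cfsg.IrrCharacter G, (χ : G → ℂ) 1 * (χ : G → ℂ) g =
      ∑ χ : Cfsg.IrrCharacter G, (χ : G → ℂ) g * (starRingEnd ℂ) ((χ : G → ℂ) 1) := by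
    refine Finset.sum_congr rfl fun χ _ => ?_
    rw [hreal χ, mul_comm]
  rw [hsum, hcol]
  by_cases hg : g = 1
  · subst hg
    rw [if_pos rfl, if_pos (IsConj.refl (1 : G))]
    congr 1
    have : Subgroup.centralizer ({1} : Set G) = ⊤ := by
      ext x
      simp [Subgroup.mem_centralizer_iff]
    rw [this]
    exact (Subgroup.card_top (G := G)).symm
  · rw [if_neg hg, if_neg]
    intro h
    exact hg (isConj_one_right.mp h.symm)

end Cfsg.Agent.S0156
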