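import Cfsg.Statements.S0157
import Cfsg.Agent.Lib.Helper28.PermChar
import Cfsg.Agent.Lib.Helper28.NormOne
import Cfsg.Agent.Lib.Helper4.BurnsideClass

set_option autoImplicit false
open Cfsg

namespace Cfsg.Agent.S0157

open Cfsg.Agent.Lib.Helper4 Cfsg.Agent.Lib.Helper28 MulAction
open scoped ComplexConjugate

/-- A transitive action of a finite group on a finite set with at least two points is 2-transitive if and only if the permutation character minus the trivial character is an irreducible character. -/
theorem result {G : Type*} [Group G] [Finite G] (X : Type*) [MulAction G X] [Finite X] [MulAction.IsPretransitive G X] (hX : 2 ≤ Nat.card X) : Cfsg.IsIrrCharacter G (fun g => (Nat.card (MulAction.fixedBy X g) : ℂ) - 1) ↔ MulAction.IsMultiplyPretransitive G X 2 := by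
  classical
  have : Fintype G := Fintype.ofFinite G
  have hne : Nonempty X := (Nat.card_pos_iff.mp (by omega)).1
  set θ : G → ℂ := fun g => (Nat.card (fixedBy X g) : ℂ) - 1 with hθ
  have hπchar : IsCharacter G (fun g => (Nat.card (fixedBy X g) : ℂ)) := isCharacter_permChar G X
  have h1char : IsCharacter G (fun _ => (1:ℂ)) :=
    Cfsg.Agent.Lib.Helper26.isCharacter_of_isIrrCharacter isIrrCharacter_one
  have hθgen : IsGeneralizedCharacter G θ := ⟨_, _, hπchar, h1char, rfl⟩
  set r := Nat.card (Quotient (orbitRel G (X × X))) with hr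
  have hnorm : classInner θ θ = (r : ℂ) - 1 := by
    unfold classInner
    have hconj : ∀ g, conj (θ g) = θ g := by
      intro g
      simp [θ]
    have hsum : ∑ g, θ g * conj (θ g) = ((r:ℂ) - 1) * Nat.card G := by
      simp_rw [hconj]
      have h2 : ∀ g, θ g * θ g = (Nat.card (fixedBy (X × X) g) : ℂ)
          - 2 * (Nat.card (fixedBy X g) : ℂ) + 1 := by
        intro g
        rw [card_fixedBy_prod]
        push_cast
        ring
      simp_rw [h2]
      rw [Finset.sum_add_distrib, Finset.sum_sub_distrib, ← Finset.mul_sum, sum_card_fixedBy,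
        sum_card_fixedBy, card_orbits_of_isPretransitive G X]
      simp only [Finset.sum_const, Finset.card_univ, nsmul_eq_mul, mul_one, Nat.cast_one, one_mul]
      rw [← Nat.card_eq_fintype_card]
      ring
    rw [hsum, mul_comm, mul_assoc, mul_inv_cancel₀ card_ne_zero_complex, mul_one]
  constructor
  · intro h
    have h1 := classInner_irr (⟨θ, h⟩ : IrrCharacter G) ⟨θ, h⟩
    rw [if_pos rfl] at h1
    have h2 : (r : ℂ) - 1 = 1 := by rw [← hnorm]; exact h1
    have h3 : (r : ℂ) = 2 := by linear_combination h2
    have h4 : r = 2 := by exact_mod_cast h3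
    exact (card_orbits_prod_eq_two_iff G X hX).mp h4
  · intro h
    have h4 : r = 2 := (card_orbits_prod_eq_two_iff G X hX).mpr h
    apply isIrrCharacter_of_norm_one hθgen
    · rw [hnorm, h4]; norm_num
    · have h5 : Nat.card (fixedBy X (1 : G)) = Nat.card X := by
        rw [fixedBy_one_eq_univ]
        exact Nat.card_congr (Equiv.Set.univ X)
      simp only [θ, h5]
      simp only [Complex.sub_re, Complex.natCast_re, Complex.one_re]
      have : (2 : ℝ) ≤ (Nat.card X : ℝ) := by exact_mod_cast hX
      linarith

end Cfsg.Agent.S0157
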