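import Cfsg.Statements.S0160
import Cfsg.Agent.Lib.Helper4.PermLemma
import Cfsg.Agent.Lib.Helper28.DualRep

set_option autoImplicit false
open Cfsg

namespace Cfsg.Agent.S0160

/-- A finite group has as many real-valued irreducible complex characters as conjugacy classes closed under taking inverses. -/
theorem result {G : Type*} [Group G] [Finite G] : Nat.card {χ : Cfsg.IrrCharacter G // ∀ g : G, ((χ : G → ℂ) g).im = 0} = Nat.card {C : ConjClasses G // ∀ g : G, ConjClasses.mk g = C → IsConj g g⁻¹} := by
  classical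
  have : Fintype G := Fintype.ofFinite G
  have hinv : ∀ (χ : Cfsg.IrrCharacter G) (g : G),
      (starRingEnd ℂ) ((χ : G → ℂ) g) = (χ : G → ℂ) g⁻¹ := by
    intro χ g
    obtain ⟨n, ρ, hρ, hχ⟩ := χ.2
    rw [← hχ, Cfsg.Agent.Lib.Helper4.character_inv]
  have h := Cfsg.Agent.Lib.Helper4.card_fixed_irr_eq (G := G) (fun g => g⁻¹)
    Cfsg.Agent.Lib.Helper28.irrConj
    (fun χ g => by rw [Cfsg.Agent.Lib.Helper28.irrConj_apply, hinv])
    (fun C => ∀ g : G, ConjClasses.mk g = C → IsConj g g⁻¹) (by
      intro g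
      constructor
      · intro h1
        exact (h1 g rfl).symm
      · intro h1 k hk
        have hkg : IsConj k g := ConjClasses.mk_eq_mk_iff_isConj.mp hk
        have hkg' : IsConj k⁻¹ g⁻¹ := by
          obtain ⟨c, hc⟩ := isConj_iff.mp hkg
          refine isConj_iff.mpr ⟨c, ?_⟩
          rw [← hc]; group
        exact (hkg.trans h1.symm).trans hkg'.symm)
  rw [← h]
  refine Nat.card_congr (Equiv.subtypeEquivRight fun χ => ?_)
  constructor
  · intro h1
    apply Subtype.ext
    funext g
    rw [Cfsg.Agent.Lib.Helper28.irrConj_apply]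
    exact Complex.conj_eq_iff_im.mpr (h1 g)
  · intro h1 g
    have h2 := congrFun (congrArg Subtype.val h1) g
    rw [Cfsg.Agent.Lib.Helper28.irrConj_apply] at h2
    exact Complex.conj_eq_iff_im.mp h2

end Cfsg.Agent.S0160
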