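import Cfsg.Statements.S0167
import Cfsg.Agent.Lib.Helper4.CommCount

set_option autoImplicit false
open Cfsg

namespace Cfsg.Agent.S0167

/-- An element g of a finite group is a commutator if and only if the sum over the irreducible characters χ of χ g / χ 1 is nonzero. -/
theorem result {G : Type*} [Group G] [Finite G] (g : G) : (∃ a b : G, g = a * b * a⁻¹ * b⁻¹) ↔ ∑ᶠ χ : Cfsg.IrrCharacter G, (χ : G → ℂ) g / (χ : G → ℂ) 1 ≠ 0 := by
  classical
  have : Fintype G := Fintype.ofFinite G
  have : Fintype (Cfsg.IrrCharacter G) := Fintype.ofFinite _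
  rw [finsum_eq_sum_of_fintype]
  have hcount := Cfsg.Agent.Lib.Helper4.card_commutator_pairs g
  have hconj : ∑ χ : Cfsg.IrrCharacter G, (χ : G → ℂ) g⁻¹ / (χ : G → ℂ) 1 =
      (starRingEnd ℂ) (∑ χ : Cfsg.IrrCharacter G, (χ : G → ℂ) g / (χ : G → ℂ) 1) := by
    rw [map_sum]
    refine Finset.sum_congr rfl fun χ _ => ?_
    obtain ⟨n, ρ, hρ, hχ⟩ := χ.2
    rw [← hχ, map_div₀, ← Cfsg.Agent.Lib.Helper4.character_inv, Representation.char_one,
      Complex.conj_natCast]
  rw [hconj] at hcount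
  constructor
  · rintro ⟨a, b, hab⟩ hzero
    have hmem : (a, b) ∈ Finset.univ.filter
        (fun p : G × G => p.1 * p.2 * p.1⁻¹ * p.2⁻¹ = g) := by
      simp [hab]
    have hpos : 0 < (Finset.univ.filter
        (fun p : G × G => p.1 * p.2 * p.1⁻¹ * p.2⁻¹ = g)).card := Finset.card_pos.mpr ⟨_, hmem⟩
    rw [hzero, map_zero, mul_zero] at hcount
    have : (Finset.univ.filter
        (fun p : G × G => p.1 * p.2 * p.1⁻¹ * p.2⁻¹ = g)).card = 0 := by exact_mod_cast hcount
    omega
  · intro hne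
    by_contra hcon
    push Not at hcon
    have hempty : Finset.univ.filter
        (fun p : G × G => p.1 * p.2 * p.1⁻¹ * p.2⁻¹ = g) = ∅ := by
      rw [Finset.filter_eq_empty_iff]
      intro p _ hp
      exact hcon p.1 p.2 hp.symm
    rw [hempty, Finset.card_empty, Nat.cast_zero] at hcount
    have hG : (Nat.card G : ℂ) ≠ 0 := Nat.cast_ne_zero.mpr Nat.card_pos.ne'
    rcases mul_eq_zero.mp hcount.symm with h | h
    · exact hG h
    · exact hne ((map_eq_zero _).mp h)

end Cfsg.Agent.S0167
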