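import Cfsg.Statements.S0168
import Cfsg.Agent.Lib.Helper4.CharIntegral

set_option autoImplicit false
open Cfsg

namespace Cfsg.Agent.S0168

/-- The Burnside–Brauer Theorem. Let χ be the character of a faithful complex representation of a finite group, taking m distinct values. Then every irreducible character has nonzero inner product with χ ^ i for some i < m. -/
theorem result {G : Type*} [Group G] [Fintype G] {V : Type*} [AddCommGroup V] [Module ℂ V] [FiniteDimensional ℂ V] (ρ : Representation ℂ G V) (hfaithful : Function.Injective ρ) (ψ : G → ℂ) (hψ : Cfsg.IsIrrCharacter G ψ) : ∃ i : ℕ, i < Nat.card (Set.range ρ.character) ∧ Cfsg.classInner (fun g => ρ.character g ^ i) ψ ≠ 0 := by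
  classical
  by_contra hcon
  push Not at hcon
  set m := Nat.card (Set.range ρ.character) with hm
  let S : Finset ℂ := Finset.univ.image ρ.character
  have hScard : S.card = m := by
    rw [hm, Nat.card_eq_fintype_card, ← Set.toFinset_card]
    congr 1
    ext z
    simp [S]
  set d : ℂ := (Module.finrank ℂ V : ℂ) with hd
  have hdS : d ∈ S := by
    rw [Finset.mem_image]
    exact ⟨1, Finset.mem_univ _, Representation.char_one ρ⟩
  have hinj : Set.InjOn (id : ℂ → ℂ) (S : Set ℂ) := Function.injective_id.injOn
  let P : Polynomial ℂ := Lagrange.basis S id d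
  have hP1 : P.eval d = 1 := Lagrange.eval_basis_self hinj hdS
  have hP0 : ∀ z ∈ S, z ≠ d → P.eval z = 0 := by
    intro z hz hzd
    exact Lagrange.eval_basis_of_ne (v := id) (Ne.symm hzd) hz
  have hPdeg : P.natDegree < m := by
    have h1 : P.natDegree = S.card - 1 := Lagrange.natDegree_basis hinj hdS
    have h2 : 0 < S.card := Finset.card_pos.mpr ⟨d, hdS⟩
    omega
  -- the key sum
  have hkey : ∑ g : G, P.eval (ρ.character g) * (starRingEnd ℂ) (ψ g) = 0 := by
    have hexp : ∀ z : ℂ, P.eval z = ∑ i ∈ Finset.range m, P.coeff i * z ^ i := by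
      intro z
      rw [Polynomial.eval_eq_sum_range' hPdeg]
    simp only [hexp, Finset.sum_mul]
    rw [Finset.sum_comm]
    refine Finset.sum_eq_zero fun i hi => ?_
    have h1 := hcon i (Finset.mem_range.mp hi)
    unfold Cfsg.classInner at h1
    have hG : (Nat.card G : ℂ)⁻¹ ≠ 0 := inv_ne_zero Cfsg.Agent.Lib.Helper4.card_ne_zero_complex
    have h2 : ∑ g : G, ρ.character g ^ i * (starRingEnd ℂ) (ψ g) = 0 :=
      (mul_eq_zero.mp h1).resolve_left hG
    have h3 : ∑ g : G, P.coeff i * ρ.character g ^ i * (starRingEnd ℂ) (ψ g) =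
        P.coeff i * ∑ g : G, ρ.character g ^ i * (starRingEnd ℂ) (ψ g) := by
      rw [Finset.mul_sum]
      refine Finset.sum_congr rfl fun g _ => ?_
      ring
    rw [h3, h2, mul_zero]
  have hval : ∑ g : G, P.eval (ρ.character g) * (starRingEnd ℂ) (ψ g) =
      (starRingEnd ℂ) (ψ 1) := by
    rw [Finset.sum_eq_single (1 : G)]
    · rw [Representation.char_one, hP1, one_mul]
    · intro g _ hg
      have hne : ρ.character g ≠ d := by
        intro h
        have h1 := (Cfsg.Agent.Lib.Helper4.character_eq_finrank_iff ρ g).mp h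
        apply hg
        apply hfaithful
        rw [h1, map_one]
        rfl
      rw [hP0 _ (Finset.mem_image_of_mem _ (Finset.mem_univ g)) hne, zero_mul]
    · intro h
      exact absurd (Finset.mem_univ _) h
  rw [hval] at hkey
  have hψ1 : ψ 1 = 0 := (map_eq_zero _).mp hkey
  obtain ⟨n, τ, hτ, hτψ⟩ := hψ
  rw [← hτψ, Representation.char_one] at hψ1
  exact Cfsg.Agent.Lib.Helper4.finrank_ne_zero_of_irreducible τ hτ hψ1

end Cfsg.Agent.S0168
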