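import Cfsg.Statements.S0170
import Cfsg.Agent.Lib.Helper26.Exceptional

set_option autoImplicit false
open Cfsg

namespace Cfsg.Agent.S0170
open Cfsg.Agent.Lib.Helper26

/-- Exceptional characters. Let S be a subset of a finite group contained in its normalizer N and meeting its conjugates by elements outside N only in the identity. Given n ≥ 2 distinct irreducible characters of N of equal degree that vanish on N away from S, there exist a sign ε and n distinct irreducible characters θ_i of G such that inducing χ_i − χ_j to G gives ε (θ_i − θ_j) for all i, j. -/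
theorem result {G : Type*} [Group G] [Fintype G] (S : Set G) (hSN : S ⊆ Subgroup.normalizer S) (hTI : ∀ g : G, g ∉ Subgroup.normalizer S → ∀ s ∈ S, g * s * g⁻¹ ∈ S → s = 1) (n : ℕ) (hn : 2 ≤ n) (χ : Fin n → (Subgroup.normalizer S → ℂ)) (hirr : ∀ i, Cfsg.IsIrrCharacter (Subgroup.normalizer S) (χ i)) (hinj : Function.Injective χ) (hvan : ∀ i, ∀ x : Subgroup.normalizer S, (x : G) ∉ S → χ i x = 0) (hdeg : ∀ i j, χ i 1 = χ j 1) : ∃ ε : ℂ, (ε = 1 ∨ ε = -1) ∧ ∃ θ : Fin n → (G → ℂ), (∀ i, Cfsg.IsIrrCharacter G (θ i)) ∧ Function.Injective θ ∧ ∀ i j, Cfsg.indFun (Subgroup.normalizer S) (χ i) - Cfsg.indFun (Subgroup.normalizer S) (χ j) = ε • (θ i - θ j) := by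
  classical
  have : Fintype (Subgroup.normalizer S) := Fintype.ofFinite _
  have hn0 : 0 < n := by omega
  let i₀ : Fin n := ⟨0, hn0⟩
  let i₁ : Fin n := ⟨1, hn⟩
  have hi₁ : i₁ ≠ i₀ := by
    intro h
    have := congrArg Fin.val h
    simp [i₀, i₁] at this
  let β : Fin n → (G → ℂ) := fun l =>
    indFun (Subgroup.normalizer S) (χ i₀) - indFun (Subgroup.normalizer S) (χ l)
  have hβ0 : β i₀ = 0 := sub_self _
  have hβind : ∀ l, β l = indFun (Subgroup.normalizer S) (χ i₀ - χ l) :=
    fun l => (indFun_sub (Subgroup.normalizer S) _ _).symm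
  have hcf : ∀ l, IsClassFunction (Subgroup.normalizer S) (χ i₀ - χ l) := by
    intro l g k
    simp only [Pi.sub_apply, isClassFunction_of_isIrrCharacter (hirr i₀) g k,
      isClassFunction_of_isIrrCharacter (hirr l) g k]
  have hvan' : ∀ l, ∀ x : Subgroup.normalizer S, (x : G) ∉ S → (χ i₀ - χ l) x = 0 := by
    intro l x hx
    simp only [Pi.sub_apply, hvan i₀ x hx, hvan l x hx, sub_zero]
  have hone : ∀ l, (χ i₀ - χ l) 1 = 0 := by
    intro l
    simp only [Pi.sub_apply, hdeg i₀ l, sub_self]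
  have hχne : ∀ j k, j ≠ k → χ j ≠ χ k := fun j k hjk h => hjk (hinj h)
  have hip : ∀ j k, j ≠ i₀ → k ≠ i₀ →
      classInner (χ i₀ - χ j) (χ i₀ - χ k) = if j = k then 2 else 1 := by
    intro j k hj hk
    rw [classInner_sub_left, classInner_sub_right, classInner_sub_right,
      classInner_irr (hirr i₀) (hirr i₀), classInner_irr (hirr i₀) (hirr k),
      classInner_irr (hirr j) (hirr i₀), classInner_irr (hirr j) (hirr k),
      if_pos rfl, if_neg (hχne i₀ k (Ne.symm hk)), if_neg (hχne j i₀ hj)]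
    by_cases hjk : j = k
    · rw [if_pos hjk, if_pos (congrArg χ hjk)]; norm_num
    · rw [if_neg hjk, if_neg (hχne j k hjk)]; norm_num
  have hβinner : ∀ j k, j ≠ i₀ → k ≠ i₀ →
      classInner (β j) (β k) = if j = k then 2 else 1 := by
    intro j k hj hk
    rw [hβind j, hβind k, classInner_indFun_indFun_ti S (Subgroup.normalizer S) hTI
      (χ i₀ - χ j) (χ i₀ - χ k) (hcf j) (hvan' j) (hvan' k) (hone j)]
    exact hip j k hj hk
  have hdecomp : ∀ l, l ≠ i₀ → ∃ a b : G → ℂ, IsIrrCharacter G a ∧ IsIrrCharacter G b ∧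
      a ≠ b ∧ β l = a - b := by
    intro l hl
    have hgen : IsGeneralizedCharacter G (β l) :=
      isGeneralizedCharacter_sub
        (isGeneralizedCharacter_of_isCharacter
          (isCharacter_indFun _ (isCharacter_of_isIrrCharacter (hirr i₀))))
        (isGeneralizedCharacter_of_isCharacter
          (isCharacter_indFun _ (isCharacter_of_isIrrCharacter (hirr l))))
    have hnorm : classInner (β l) (β l) = 2 := by
      rw [hβinner l l hl hl, if_pos rfl]
    have h1 : β l 1 = 0 := by
      rw [hβind l, indFun_one, hone l, mul_zero, mul_zero]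
    exact genChar_norm_two hgen hnorm h1
  choose! a b ha hb hab hβ using hdecomp
  have hinner : ∀ j k, j ≠ i₀ → k ≠ i₀ → j ≠ k → classInner (β j) (β k) = 1 := by
    intro j k hj hk hjk
    rw [hβinner j k hj hk, if_neg hjk]
  obtain ⟨ε, hε, θ, hθirr, hθinj, hθ⟩ :=
    exceptional_aux i₀ β a b hβ0 ha hb hab hβ hinner ⟨i₁, hi₁⟩
  refine ⟨ε, hε, θ, hθirr, hθinj, ?_⟩
  intro i j
  have h1 : indFun (Subgroup.normalizer S) (χ i) - indFun (Subgroup.normalizer S) (χ j) =
      β j - β i := by
    simp only [β]; abel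
  rw [h1, hθ j, hθ i, ← smul_sub]
  congr 1
  abel

end Cfsg.Agent.S0170
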