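import Cfsg.Statements.S0171
import Cfsg.Agent.Lib.Helper26.IndNormal

set_option autoImplicit false
open Cfsg

namespace Cfsg.Agent.S0171
open Cfsg.Agent.Lib.Helper26

/-- Let G = K H with K normal, K ⊓ H trivial, and no non-identity element of H commuting with a non-identity element of K (a Frobenius group with kernel K and complement H). Then every non-principal irreducible character of K induces to an irreducible character of G. -/
theorem result {G : Type*} [Group G] [Fintype G] (K H : Subgroup G) [K.Normal] (hKH : K ⊓ H = ⊥) (hKH' : K ⊔ H = ⊤) (hfpf : ∀ h ∈ H, h ≠ 1 → ∀ k ∈ K, h * k = k * h → k = 1) (τ : K → ℂ) (hτ : Cfsg.IsIrrCharacter K τ) (hτ1 : τ ≠ fun _ => 1) : Cfsg.IsIrrCharacter G (Cfsg.indFun K τ) := by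
  classical
  have hN : K.Normal := inferInstance
  have : Fintype K := Fintype.ofFinite _
  have hchar : IsCharacter G (indFun K τ) :=
    isCharacter_indFun K (isCharacter_of_isIrrCharacter hτ)
  have hcf := isClassFunction_of_isIrrCharacter hτ
  -- the stabilizer of τ is exactly K
  have hterm : ∀ x : G, classInner τ (fun k : K => τ ⟨x * k * x⁻¹, hN.conj_mem k k.2 x⟩) =
      if x ∈ K then 1 else 0 := by
    intro x
    have hirr := Cfsg.Agent.Lib.Helper2.isIrrCharacter_conj_of_normal K hτ x
    by_cases hx : x ∈ K
    · rw [if_pos hx]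
      have heq : (fun k : K => τ ⟨x * k * x⁻¹, hN.conj_mem k k.2 x⟩) = τ := by
        funext k
        have := hcf k ⟨x, hx⟩
        rw [← this]
        rfl
      rw [heq, classInner_irr hτ hτ, if_pos rfl]
    · rw [if_neg hx, classInner_irr hτ hirr]
      rw [if_neg]
      intro heq
      -- x = k * h
      have hxtop : x ∈ ((K ⊔ H : Subgroup G) : Set G) := by rw [hKH']; trivial
      rw [Subgroup.normal_mul] at hxtop
      obtain ⟨k, hk, h, hh, rfl⟩ := Set.mem_mul.1 hxtop
      have hne : h ≠ 1 := by
        rintro rfl
        apply hx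
        simpa using hk
      -- τ is fixed by conjugation with h
      have hfix : τ ∘ (MulAut.conjNormal h : K ≃* K) = τ := by
        funext y
        have h1 := congrFun heq y
        -- h1 : τ y = τ ⟨k * h * y * (k * h)⁻¹, _⟩
        have h2 := hcf ((MulAut.conjNormal h : K ≃* K) y) ⟨k, hk⟩
        -- τ (k * φ y * k⁻¹) = τ (φ y)
        simp only [Function.comp_apply]
        rw [← h2, h1]
        congr 1
        apply Subtype.ext
        simp [MulAut.conjNormal_apply, mul_assoc]
      have hfpf' : ∀ y : K, (MulAut.conjNormal h : K ≃* K) y = y → y = 1 := by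
        intro y hy
        have h1 : h * (y : G) * h⁻¹ = (y : G) := by
          have := congrArg Subtype.val hy
          simpa [MulAut.conjNormal_apply] using this
        have h2 : h * (y : G) = (y : G) * h := by
          calc h * (y : G) = (h * (y : G) * h⁻¹) * h := by group
            _ = (y : G) * h := by rw [h1]
        have := hfpf h hh hne (y : G) y.2 h2
        exact Subtype.ext this
      exact hτ1 (eq_one_of_comp_fpf _ hfpf' hτ hfix)
  apply isIrrCharacter_of_norm_one (isGeneralizedCharacter_of_isCharacter hchar)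
  · rw [classInner_indFun_indFun_normal K τ τ]
    simp_rw [hterm]
    rw [Finset.sum_boole]
    have e : Nat.card K = (Finset.univ.filter (fun x : G => x ∈ K)).card := by
      rw [Nat.card_eq_fintype_card, Fintype.card_subtype]
    rw [← e]
    have hK : (Nat.card K : ℂ) ≠ 0 := by
      have : Nat.card K ≠ 0 := Nat.card_pos.ne'
      exact_mod_cast this
    exact inv_mul_cancel₀ hK
  · rw [indFun_one]
    obtain ⟨d, hd, hd1⟩ := irr_degree hτ
    rw [hd1]
    have hcast : (Nat.card K : ℂ)⁻¹ * ((Fintype.card G : ℂ) * (d : ℂ)) =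
        (((Nat.card K : ℝ)⁻¹ * ((Fintype.card G : ℝ) * (d : ℝ)) : ℝ) : ℂ) := by
      push_cast; ring
    rw [hcast, Complex.ofReal_re]
    have hK : (0 : ℝ) < Nat.card K := by exact_mod_cast Nat.card_pos
    have hG : (0 : ℝ) < Fintype.card G := by exact_mod_cast Fintype.card_pos
    have hd' : (0 : ℝ) < d := by exact_mod_cast hd
    exact mul_pos (inv_pos.2 hK) (mul_pos hG hd')

end Cfsg.Agent.S0171
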