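import Cfsg.Statements.S0172
import Mathlib

set_option autoImplicit false
open Cfsg

namespace Cfsg.Agent.S0172

variable {G : Type*} [Group G]

section structure_lemmas

variable (K H : Subgroup G) [hKn : K.Normal]

include hKn in
theorem exists_decomp (hKH' : K ⊔ H = ⊤) (g : G) : ∃ k ∈ K, ∃ h ∈ H, k * h = g := by
  have : g ∈ K ⊔ H := by rw [hKH']; trivial
  exact Subgroup.mem_sup_of_normal_left.mp this

theorem decomp_unique (hKH : K ⊓ H = ⊥) {k1 k2 h1 h2 : G} (hk1 : k1 ∈ K) (hk2 : k2 ∈ K)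
    (hh1 : h1 ∈ H) (hh2 : h2 ∈ H) (h : k1 * h1 = k2 * h2) : k1 = k2 ∧ h1 = h2 := by
  have h3 : k2⁻¹ * k1 = h2 * h1⁻¹ := by
    calc k2⁻¹ * k1 = k2⁻¹ * (k1 * h1) * h1⁻¹ := by group
      _ = k2⁻¹ * (k2 * h2) * h1⁻¹ := by rw [h]
      _ = h2 * h1⁻¹ := by group
  have h4 : k2⁻¹ * k1 ∈ K ⊓ H := by
    refine ⟨K.mul_mem (K.inv_mem hk2) hk1, ?_⟩
    rw [h3]; exact H.mul_mem hh2 (H.inv_mem hh1)
  rw [hKH, Subgroup.mem_bot] at h4
  have hk : k1 = k2 := by
    calc k1 = k2 * (k2⁻¹ * k1) := by group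
      _ = k2 := by rw [h4, mul_one]
  refine ⟨hk, ?_⟩
  rw [hk] at h
  exact mul_left_cancel h

include hKn in
/-- key lemma: conjugating `h` by `K` sweeps out the whole coset `K h`. -/
theorem exists_conj [Finite G] (hfpf : ∀ h ∈ H, h ≠ 1 → ∀ k ∈ K, h * k = k * h → k = 1)
    {h : G} (hh : h ∈ H) (h1 : h ≠ 1) {k' : G} (hk' : k' ∈ K) :
    ∃ k ∈ K, k * h * k⁻¹ = k' * h := by
  let f : K → K := fun k => ⟨(k : G) * h * (k : G)⁻¹ * h⁻¹, by
    have : (k : G) * h * (k : G)⁻¹ * h⁻¹ = k * (h * (k : G)⁻¹ * h⁻¹) := by group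
    rw [this]
    exact K.mul_mem k.2 (hKn.conj_mem _ (K.inv_mem k.2) h)⟩
  have hinj : Function.Injective f := by
    intro a b hab
    have h2 : (a : G) * h * (a : G)⁻¹ * h⁻¹ = b * h * (b : G)⁻¹ * h⁻¹ := congrArg Subtype.val hab
    have h3 : (a : G) * h * (a : G)⁻¹ = b * h * (b : G)⁻¹ := mul_right_cancel h2
    have h4 : h * ((a : G)⁻¹ * b) = ((a : G)⁻¹ * b) * h := by
      calc h * ((a : G)⁻¹ * b) = (a : G)⁻¹ * ((a : G) * h * (a : G)⁻¹) * b := by group
        _ = (a : G)⁻¹ * ((b : G) * h * (b : G)⁻¹) * b := by rw [h3]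
        _ = ((a : G)⁻¹ * b) * h := by group
    have h5 := hfpf h hh h1 _ (K.mul_mem (K.inv_mem a.2) b.2) h4
    apply Subtype.ext
    calc (a : G) = a * ((a : G)⁻¹ * b) := by rw [h5, mul_one]
      _ = b := by group
  have hsurj : Function.Surjective f := Finite.injective_iff_surjective.mp hinj
  obtain ⟨k, hk⟩ := hsurj ⟨k', hk'⟩
  refine ⟨k, k.2, ?_⟩
  have h2 : (k : G) * h * (k : G)⁻¹ * h⁻¹ = k' := congrArg Subtype.val hk
  rw [← h2]; group

include hKn in
/-- conjugates of `h` by `K` determine the conjugating element. -/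
theorem conj_inj (hKH : K ⊓ H = ⊥)
    (hfpf : ∀ h ∈ H, h ≠ 1 → ∀ k ∈ K, h * k = k * h → k = 1)
    {h1 h2 k1 k2 : G} (hh1 : h1 ∈ H) (hh2 : h2 ∈ H) (hne : h1 ≠ 1) (hk1 : k1 ∈ K) (hk2 : k2 ∈ K)
    (h : k1 * h1 * k1⁻¹ = k2 * h2 * k2⁻¹) : k1 = k2 ∧ h1 = h2 := by
  have e1 : k1 * h1 * k1⁻¹ = (k1 * (h1 * k1⁻¹ * h1⁻¹)) * h1 := by group
  have e2 : k2 * h2 * k2⁻¹ = (k2 * (h2 * k2⁻¹ * h2⁻¹)) * h2 := by group
  rw [e1, e2] at h
  obtain ⟨h3, h4⟩ := decomp_unique K H hKH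
    (K.mul_mem hk1 (hKn.conj_mem _ (K.inv_mem hk1) h1))
    (K.mul_mem hk2 (hKn.conj_mem _ (K.inv_mem hk2) h2)) hh1 hh2 h
  refine ⟨?_, h4⟩
  subst h4
  have h5 : h1 * (k1⁻¹ * k2) = (k1⁻¹ * k2) * h1 := by
    have : k1 * h1 * k1⁻¹ = k2 * h1 * k2⁻¹ := by
      calc k1 * h1 * k1⁻¹ = (k1 * (h1 * k1⁻¹ * h1⁻¹)) * h1 := by group
        _ = (k2 * (h1 * k2⁻¹ * h1⁻¹)) * h1 := by rw [h3]
        _ = k2 * h1 * k2⁻¹ := by group
    calc h1 * (k1⁻¹ * k2) = k1⁻¹ * (k1 * h1 * k1⁻¹) * k2 := by group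
      _ = k1⁻¹ * (k2 * h1 * k2⁻¹) * k2 := by rw [this]
      _ = (k1⁻¹ * k2) * h1 := by group
  have h6 := hfpf h1 hh1 hne _ (K.mul_mem (K.inv_mem hk1) hk2) h5
  calc k1 = k1 * (k1⁻¹ * k2) := by rw [h6, mul_one]
    _ = k2 := by group

include hKn in
/-- elements outside `K` are `K`-conjugates of nonidentity elements of `H`. -/
theorem exists_conj_of_not_mem [Finite G] (hKH' : K ⊔ H = ⊤)
    (hfpf : ∀ h ∈ H, h ≠ 1 → ∀ k ∈ K, h * k = k * h → k = 1) {g : G} (hg : g ∉ K) :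
    ∃ k ∈ K, ∃ h ∈ H, h ≠ 1 ∧ k * h * k⁻¹ = g := by
  obtain ⟨k', hk', h, hh, rfl⟩ := exists_decomp K H hKH' g
  have h1 : h ≠ 1 := by
    rintro rfl
    apply hg
    rw [mul_one]; exact hk'
  obtain ⟨k, hk, hkk⟩ := exists_conj K H hfpf hh h1 hk'
  exact ⟨k, hk, h, hh, h1, hkk⟩

include hKn in
theorem conj_not_mem (hKH : K ⊓ H = ⊥) {k h : G} (hh : h ∈ H) (h1 : h ≠ 1) :
    k * h * k⁻¹ ∉ K := by
  intro hmem
  have : h ∈ K := by
    have := hKn.conj_mem _ hmem k⁻¹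
    have e : k⁻¹ * (k * h * k⁻¹) * k⁻¹⁻¹ = h := by group
    rwa [e] at this
  have : h ∈ K ⊓ H := ⟨this, hh⟩
  rw [hKH, Subgroup.mem_bot] at this
  exact h1 this

include hKn in
/-- centralizers of nonidentity elements of `H` lie in `H`. -/
theorem centralizer_le_H (hKH : K ⊓ H = ⊥) (hKH' : K ⊔ H = ⊤)
    (hfpf : ∀ h ∈ H, h ≠ 1 → ∀ k ∈ K, h * k = k * h → k = 1)
    {h : G} (hh : h ∈ H) (h1 : h ≠ 1) {g : G} (hg : g * h = h * g) : g ∈ H := by
  obtain ⟨k, hk, h', hh', rfl⟩ := exists_decomp K H hKH' g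
  have e : k * (h' * h * h'⁻¹) * k⁻¹ = 1 * h * 1⁻¹ := by
    calc k * (h' * h * h'⁻¹) * k⁻¹ = (k * h' * h) * (k * h')⁻¹ := by group
      _ = (h * (k * h')) * (k * h')⁻¹ := by rw [hg]
      _ = 1 * h * 1⁻¹ := by group
  have hne : h' * h * h'⁻¹ ≠ 1 := by
    intro h0
    apply h1
    calc h = h'⁻¹ * (h' * h * h'⁻¹) * h' := by group
      _ = 1 := by rw [h0]; group
  obtain ⟨h3, _⟩ := conj_inj K H hKH hfpf (H.mul_mem (H.mul_mem hh' hh) (H.inv_mem hh')) hh hne hk
    K.one_mem e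
  rw [h3, one_mul]; exact hh'

include hKn in
/-- centralizers of nonidentity elements of `K` lie in `K`. -/
theorem centralizer_le_K [Finite G] (hKH' : K ⊔ H = ⊤)
    (hfpf : ∀ h ∈ H, h ≠ 1 → ∀ k ∈ K, h * k = k * h → k = 1)
    {a : G} (ha : a ∈ K) (a1 : a ≠ 1) {g : G} (hg : g * a = a * g) : g ∈ K := by
  by_contra hgK
  obtain ⟨k, hk, h, hh, h1, rfl⟩ := exists_conj_of_not_mem K H hKH' hfpf hgK
  have hc : h * (k⁻¹ * a * k) = (k⁻¹ * a * k) * h := by
    calc h * (k⁻¹ * a * k) = k⁻¹ * (k * h * k⁻¹ * a) * k := by group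
      _ = k⁻¹ * (a * (k * h * k⁻¹)) * k := by rw [hg]
      _ = (k⁻¹ * a * k) * h := by group
  have := hfpf h hh h1 _ (hKn.conj_mem' a ha k) hc
  apply a1
  calc a = k * (k⁻¹ * a * k) * k⁻¹ := by group
    _ = 1 := by rw [this]; group

end structure_lemmas

section counting

/-- number of elements commuting with `a`. -/
noncomputable def zc {X : Type*} [Mul X] (a : X) : ℕ := Nat.card {b : X // Commute a b}

theorem sum_zc (X : Type*) [Group X] [Fintype X] :
    ∑ a : X, zc a = Nat.card (ConjClasses X) * Nat.card X := by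
  rw [← card_comm_eq_card_conjClasses_mul_card,
    Nat.card_congr (Equiv.subtypeProdEquivSigmaSubtype (Commute : X → X → Prop)), Nat.card_sigma]
  rfl

theorem zc_one (X : Type*) [Group X] : zc (1 : X) = Nat.card X := by
  unfold zc
  exact Nat.card_congr (Equiv.subtypeUnivEquiv (fun b => Commute.one_left b))

theorem zc_conj (k a : G) : zc (k * a * k⁻¹) = zc a := by
  unfold zc
  refine Nat.card_congr
    { toFun := fun b => ⟨k⁻¹ * b.1 * k, ?_⟩
      invFun := fun b => ⟨k * b.1 * k⁻¹, ?_⟩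
      left_inv := fun b => by apply Subtype.ext; simp only []; group
      right_inv := fun b => by apply Subtype.ext; simp only []; group }
  · have h : k * a * k⁻¹ * b.1 = b.1 * (k * a * k⁻¹) := b.2
    show a * (k⁻¹ * b.1 * k) = (k⁻¹ * b.1 * k) * a
    calc a * (k⁻¹ * b.1 * k) = k⁻¹ * (k * a * k⁻¹ * b.1) * k := by group
      _ = k⁻¹ * (b.1 * (k * a * k⁻¹)) * k := by rw [h]
      _ = (k⁻¹ * b.1 * k) * a := by group
  · have h : a * b.1 = b.1 * a := b.2
    show k * a * k⁻¹ * (k * b.1 * k⁻¹) = (k * b.1 * k⁻¹) * (k * a * k⁻¹)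
    calc k * a * k⁻¹ * (k * b.1 * k⁻¹) = k * (a * b.1) * k⁻¹ := by group
      _ = k * (b.1 * a) * k⁻¹ := by rw [h]
      _ = (k * b.1 * k⁻¹) * (k * a * k⁻¹) := by group

/-- if the centralizer of `a ∈ L` lies in `L`, the counts in `L` and `G` agree. -/
theorem zc_subgroup (L : Subgroup G) (a : L) (hcent : ∀ g : G, g * a = a * g → g ∈ L) :
    zc a = zc (a : G) := by
  unfold zc
  refine Nat.card_congr
    { toFun := fun b => ⟨b.1.1, ?_⟩
      invFun := fun b => ⟨⟨b.1, hcent b.1 b.2.eq.symm⟩, ?_⟩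
      left_inv := fun b => rfl
      right_inv := fun b => rfl }
  · have h : a * b.1 = b.1 * a := b.2
    exact congrArg Subtype.val h
  · have h : (a : G) * b.1 = b.1 * a := b.2
    exact Subtype.ext h

end counting

/-- Class number of a Frobenius group: if G = K H with K normal, K ⊓ H trivial and no non-identity element of H commuting with a non-identity element of K, then |H| * k(G) + 1 = |H| * k(H) + k(K), where k denotes the number of conjugacy classes. -/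
theorem result {G : Type*} [Group G] [Finite G] (K H : Subgroup G) [K.Normal] (hKH : K ⊓ H = ⊥) (hKH' : K ⊔ H = ⊤) (hfpf : ∀ h ∈ H, h ≠ 1 → ∀ k ∈ K, h * k = k * h → k = 1) : Nat.card H * Nat.card (ConjClasses G) + 1 = Nat.card H * Nat.card (ConjClasses H) + Nat.card (ConjClasses K) := by
  classical
  have : Fintype G := Fintype.ofFinite G
  -- |G| = |K||H|
  have hcard : Nat.card G = Nat.card K * Nat.card H := by
    rw [← Nat.card_prod]
    symm
    apply Nat.card_congr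
    refine Equiv.ofBijective (fun p : K × H => (p.1 : G) * p.2) ⟨?_, ?_⟩
    · rintro ⟨k1, h1⟩ ⟨k2, h2⟩ h
      obtain ⟨e1, e2⟩ := decomp_unique K H hKH k1.2 k2.2 h1.2 h2.2 h
      exact Prod.ext (Subtype.ext e1) (Subtype.ext e2)
    · intro g
      obtain ⟨k, hk, h, hh, rfl⟩ := exists_decomp K H hKH' g
      exact ⟨(⟨k, hk⟩, ⟨h, hh⟩), rfl⟩
  have hG := sum_zc G
  have hK := sum_zc K
  have hH := sum_zc H
  have hsplit : ∑ a : G, zc a = ∑ a ∈ Finset.univ.filter (· ∈ K), zc a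
      + ∑ a ∈ Finset.univ.filter (· ∉ K), zc a :=
    (Finset.sum_filter_add_sum_filter_not _ _ _).symm
  have hin : ∑ a ∈ Finset.univ.filter (· ∈ K), zc a = ∑ a : K, zc (a : G) :=
    Finset.sum_subtype _ (by simp) _
  have hin2 : ∑ a : K, zc (a : G) + Nat.card K = ∑ a : K, zc a + Nat.card G := by
    have e1 : ∑ a : K, (zc (a : G) + if a = 1 then Nat.card K else 0)
        = ∑ a : K, (zc a + if a = 1 then Nat.card G else 0) := by
      apply Finset.sum_congr rfl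
      intro a _
      by_cases ha : a = 1
      · subst ha
        rw [if_pos rfl, if_pos rfl, zc_one K, Subgroup.coe_one, zc_one G, add_comm]
      · rw [if_neg ha, if_neg ha]
        congr 1
        symm
        exact zc_subgroup K a (fun g hg => centralizer_le_K K H hKH' hfpf a.2
          (fun h0 => ha (Subtype.ext h0)) hg)
    rw [Finset.sum_add_distrib, Finset.sum_add_distrib, Finset.sum_ite_eq', Finset.sum_ite_eq',
      if_pos (Finset.mem_univ _), if_pos (Finset.mem_univ _)] at e1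
    exact e1
  have hout : ∑ a ∈ Finset.univ.filter (· ∉ K), zc a
      = ∑ p ∈ (Finset.univ : Finset (K × H)).filter (fun p => p.2 ≠ 1), zc (p.2 : H) := by
    symm
    apply Finset.sum_nbij (fun p : K × H => (p.1 : G) * p.2 * (p.1 : G)⁻¹)
    · intro p hp
      rw [Finset.mem_filter] at hp
      rw [Finset.mem_filter]
      exact ⟨Finset.mem_univ _, conj_not_mem K H hKH p.2.2 (fun h0 => hp.2 (Subtype.ext h0))⟩
    · intro p hp q hq hpq
      rw [Finset.mem_coe, Finset.mem_filter] at hp hq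
      obtain ⟨e1, e2⟩ := conj_inj K H hKH hfpf p.2.2 q.2.2 (fun h0 => hp.2 (Subtype.ext h0))
        p.1.2 q.1.2 hpq
      exact Prod.ext (Subtype.ext e1) (Subtype.ext e2)
    · intro g hg
      rw [Finset.mem_coe, Finset.mem_filter] at hg
      obtain ⟨k, hk, h, hh, h1, rfl⟩ := exists_conj_of_not_mem K H hKH' hfpf hg.2
      refine ⟨(⟨k, hk⟩, ⟨h, hh⟩), ?_, rfl⟩
      rw [Finset.mem_coe, Finset.mem_filter]
      exact ⟨Finset.mem_univ _, fun h0 => h1 (congrArg Subtype.val h0)⟩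
    · intro p hp
      rw [Finset.mem_filter] at hp
      rw [zc_conj]
      exact zc_subgroup H p.2 (fun g hg => centralizer_le_H K H hKH hKH' hfpf p.2.2
        (fun h0 => hp.2 (Subtype.ext h0)) hg)
  have hout2 : ∑ p ∈ (Finset.univ : Finset (K × H)).filter (fun p => p.2 ≠ 1), zc (p.2 : H)
      + Nat.card K * Nat.card H = Nat.card K * ∑ h : H, zc h := by
    rw [Finset.sum_filter, Fintype.sum_prod_type]
    simp only [Finset.sum_const, Finset.card_univ, smul_eq_mul]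
    rw [← Nat.card_eq_fintype_card, ← mul_add]
    congr 1
    have e1 : ∑ h : H, ((if h ≠ 1 then zc h else 0) + if h = 1 then Nat.card H else 0)
        = ∑ h : H, zc h := by
      apply Finset.sum_congr rfl
      intro h _
      by_cases hh : h = 1
      · subst hh
        rw [if_neg (not_not.mpr rfl), if_pos rfl, zc_one, zero_add]
      · rw [if_pos hh, if_neg hh, add_zero]
    rw [Finset.sum_add_distrib, Finset.sum_ite_eq', if_pos (Finset.mem_univ _)] at e1
    exact e1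
  have hKpos : 0 < Nat.card K := Nat.card_pos
  apply Nat.eq_of_mul_eq_mul_left hKpos
  rw [hH] at hout2
  rw [hK] at hin2
  rw [hG, hin, hout, hcard] at hsplit
  rw [hcard] at hin2
  nlinarith [hsplit, hin2, hout2]

end Cfsg.Agent.S0172
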