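import Cfsg.Statements.S0175
import Cfsg.Agent.Lib.Helper26.CharKernel
import Cfsg.Agent.Lib.Helper26.FrobeniusKernel

set_option autoImplicit false
open Cfsg

namespace Cfsg.Agent.S0175
open Cfsg.Agent.Lib.Helper26
open scoped commutatorElement

/-- Taketa's Theorem on M-groups: if every irreducible complex character of a finite group is induced from a linear character (a homomorphism to ℂˣ) of some subgroup, the group is solvable. -/
theorem result {G : Type*} [Group G] [Fintype G] (hM : ∀ χ : G → ℂ, Cfsg.IsIrrCharacter G χ → ∃ (H : Subgroup G) (lam : H →* ℂˣ), χ = Cfsg.indFun H (fun h => (lam h : ℂ))) : Group.IsSolvable G := by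
  classical
  have hwf : WellFounded ((· < ·) : Subgroup G → Subgroup G → Prop) := wellFounded_lt
  obtain ⟨D₀, ⟨n, rfl⟩, hmin⟩ := hwf.has_min (Set.range (derivedSeries G)) ⟨_, ⟨0, rfl⟩⟩
  have hperf : ⁅derivedSeries G n, derivedSeries G n⁆ = derivedSeries G n := by
    have hle : derivedSeries G (n + 1) ≤ derivedSeries G n := derivedSeries_antitone G (Nat.le_succ n)
    have hnlt := hmin (derivedSeries G (n + 1)) ⟨n + 1, rfl⟩
    exact eq_of_le_of_not_lt hle hnlt
  have hDn : (derivedSeries G n).Normal := derivedSeries_normal G n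
  have honeGirr : IsIrrCharacter G (fun _ => (1 : ℂ)) := Cfsg.Agent.Lib.Helper4.isIrrCharacter_one
  have claim : ∀ k : ℕ, ∀ χ : G → ℂ, IsIrrCharacter G χ → χ 1 = k →
      ∀ d ∈ derivedSeries G n, χ d = χ 1 := by
    intro k
    induction k using Nat.strong_induction_on with
    | _ k ih =>
    intro χ hχ hk d hd
    obtain ⟨H, lam, hχeq⟩ := hM χ hχ
    have : Fintype H := Fintype.ofFinite _
    have honeHirr : IsIrrCharacter H (fun _ => (1 : ℂ)) :=
      Cfsg.Agent.Lib.Helper4.isIrrCharacter_one
    have hπchar : IsCharacter G (indFun H (fun _ => (1 : ℂ))) :=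
      isCharacter_indFun H (isCharacter_of_isIrrCharacter honeHirr)
    have hπcf := isClassFunction_of_isCharacter hπchar
    have hπ1 : indFun H (fun _ => (1 : ℂ)) 1 = χ 1 := by
      rw [hχeq, indFun_one, indFun_one]; simp
    have hπone : classInner (indFun H (fun _ => (1 : ℂ))) (fun _ => (1 : ℂ)) = 1 := by
      rw [classInner_indFun_left' H _ _ (isClassFunction_of_isIrrCharacter honeGirr)]
      exact (classInner_irr honeHirr honeHirr).trans (if_pos rfl)
    have hconst : ∀ μ : G → ℂ, IsIrrCharacter G μ →
        classInner (indFun H (fun _ => (1 : ℂ))) μ ≠ 0 →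
        ∀ d ∈ derivedSeries G n, μ d = μ 1 := by
      intro μ hμ hne d hd
      by_cases hμ1 : μ = fun _ => (1 : ℂ)
      · rw [hμ1]
      · obtain ⟨c, hc⟩ := classInner_isCharacter_nat hπchar (isCharacter_of_isIrrCharacter hμ)
        have hc0 : c ≠ 0 := by
          rintro rfl
          apply hne
          rw [hc]; simp
        have hX : IsCharacter G (indFun H (fun _ => (1 : ℂ)) - (fun _ => (1 : ℂ)) - μ) := by
          apply isCharacter_of_nat_coeff
          · intro g k
            simp only [Pi.sub_apply, hπcf g k, isClassFunction_of_isIrrCharacter hμ g k]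
          · intro ν
            rw [classInner_sub_left, classInner_sub_left]
            by_cases hν1 : (ν : G → ℂ) = fun _ => (1 : ℂ)
            · refine ⟨0, ?_⟩
              rw [hν1, hπone, classInner_irr honeGirr honeGirr, if_pos rfl,
                classInner_irr hμ honeGirr, if_neg hμ1]
              simp
            · by_cases hνμ : (ν : G → ℂ) = μ
              · refine ⟨c - 1, ?_⟩
                rw [hνμ, hc, classInner_irr honeGirr hμ, if_neg (Ne.symm hμ1),
                  classInner_irr hμ hμ, if_pos rfl]
                have : 1 ≤ c := Nat.one_le_iff_ne_zero.2 hc0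
                push_cast [Nat.cast_sub this]; ring
              · obtain ⟨c', hc'⟩ :=
                  classInner_isCharacter_nat hπchar (isCharacter_of_isIrrCharacter ν.2)
                refine ⟨c', ?_⟩
                rw [hc', classInner_irr honeGirr ν.2, if_neg (Ne.symm hν1),
                  classInner_irr hμ ν.2, if_neg (Ne.symm hνμ)]
                simp
        obtain ⟨j, hj⟩ := isCharacter_degree_nat hX
        obtain ⟨m, -, hm⟩ := irr_degree hμ
        simp only [Pi.sub_apply] at hj
        rw [hπ1, hk, hm] at hj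
        have hkm : k = m + 1 + j := by
          have : (k : ℂ) = (m : ℂ) + 1 + j := by rw [← hj]; ring
          exact_mod_cast this
        exact ih m (by omega) μ hμ hm d hd
    have hπD : ∀ d ∈ derivedSeries G n,
        indFun H (fun _ => (1 : ℂ)) d = indFun H (fun _ => (1 : ℂ)) 1 := by
      intro d hd
      have : Fintype (IrrCharacter G) := Fintype.ofFinite _
      have hexp := Cfsg.Agent.Lib.Helper4.classFunction_expansion _ hπcf
      have key : ∀ g : G, indFun H (fun _ => (1 : ℂ)) g =
          ∑ ν : IrrCharacter G, classInner (indFun H (fun _ => (1 : ℂ))) (ν : G → ℂ) *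
            (ν : G → ℂ) g := by
        intro g
        have := congrFun hexp g
        rw [Finset.sum_apply] at this
        exact this
      rw [key d, key 1]
      apply Finset.sum_congr rfl
      intro ν _
      by_cases h0 : classInner (indFun H (fun _ => (1 : ℂ))) (ν : G → ℂ) = 0
      · rw [h0, zero_mul, zero_mul]
      · rw [hconst ν ν.2 h0 d hd]
    have hDH : derivedSeries G n ≤ H := fun d hd => mem_of_indFun_const_one_eq H d (hπD d hd)
    have hL : derivedSeries G n ≤ (lam.ker).map H.subtype := by
      calc derivedSeries G n = ⁅derivedSeries G n, derivedSeries G n⁆ := hperf.symm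
        _ ≤ (lam.ker).map H.subtype := by
          rw [Subgroup.commutator_le]
          intro g₁ h₁ g₂ h₂
          refine Subgroup.mem_map.2 ⟨⁅(⟨g₁, hDH h₁⟩ : H), (⟨g₂, hDH h₂⟩ : H)⁆, ?_, rfl⟩
          rw [MonoidHom.mem_ker, map_commutatorElement]
          exact commutatorElement_eq_one_iff_commute.2 (Commute.all _ _)
    have hlamD : ∀ d (hd : d ∈ derivedSeries G n),
        (fun h : H => (lam h : ℂ)) ⟨d, hDH hd⟩ = (fun h : H => (lam h : ℂ)) 1 := by
      intro d hd
      obtain ⟨h, hh, hhd⟩ := Subgroup.mem_map.1 (hL hd)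
      have e : (⟨d, hDH hd⟩ : H) = h := Subtype.ext hhd.symm
      rw [e]
      show (lam h : ℂ) = (lam 1 : ℂ)
      rw [MonoidHom.mem_ker.1 hh, map_one]
    rw [hχeq]
    exact indFun_eq_degree_of_normal_le_ker H _ (derivedSeries G n) hDH hlamD d hd
  rw [Group.isSolvable_def]
  refine ⟨n, ?_⟩
  rw [eq_bot_iff]
  intro d hd
  rw [Subgroup.mem_bot]
  by_contra hne
  obtain ⟨θ, hθ⟩ := exists_irr_ne_of_ne_one d hne
  obtain ⟨m, -, hm⟩ := irr_degree θ.2
  exact hθ (claim m θ θ.2 hm d hd)

end Cfsg.Agent.S0175
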