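import Cfsg.Statements.S0176
import Cfsg.Agent.Lib.Helper4.Monomial
import Cfsg.Agent.S0169
import Cfsg.Agent.S0854

set_option autoImplicit false
open Cfsg

namespace Cfsg.Agent.S0176

universe u

open Cfsg.Agent.Lib.Helper4 in
theorem monomial_aux : ∀ (n : ℕ) (G : Type u) [Group G] [Fintype G] [Group.IsNilpotent G],
    Nat.card G = n → ∀ χ : G → ℂ, Cfsg.IsIrrCharacter G χ →
      ∃ (H : Subgroup G) (lam : H →* ℂˣ), χ = Cfsg.indFun H (fun h => (lam h : ℂ)) := by
  intro n
  induction n using Nat.strong_induction_on with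
  | _ n ih =>
    intro G _ _ _ hcard χ hχ
    classical
    by_cases hA : ∃ (N : Subgroup G) (hN : N.Normal) (_ : Fintype N) (ϑ : N → ℂ),
        Cfsg.IsIrrCharacter N ϑ ∧ Cfsg.classInner (fun n : N => χ n) ϑ ≠ 0 ∧
          ∃ (g : G) (n : N), ϑ ⟨g * n * g⁻¹, hN.conj_mem (n : G) n.2 g⟩ ≠ ϑ n
    · obtain ⟨N, hN, hNf, ϑ, hϑ, hcon, g, n0, hgn⟩ := hA
      set T := Cfsg.Agent.S0169.inertia N ϑ with hT
      have : Fintype T := Fintype.ofFinite T
      have hNT : N ≤ T := Cfsg.Agent.S0169.le_inertia N ϑ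
        (Cfsg.Agent.Lib.Helper26.isClassFunction_of_isIrrCharacter hϑ)
      obtain ⟨ψ, hψ, hind, _⟩ := Cfsg.Agent.S0854.result N ϑ hϑ T
        (Cfsg.Agent.S0169.mem_inertia N ϑ) hNT χ hχ hcon
      have hgT : g ∉ T := fun h => hgn ((Cfsg.Agent.S0169.mem_inertia N ϑ g).mp h n0)
      have hTlt : Nat.card T < n := by
        rw [← hcard]
        apply lt_of_le_of_ne (Subgroup.card_le_card_group T)
        intro h
        apply hgT
        rw [(Subgroup.card_eq_iff_eq_top T).mp h]
        trivial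
      obtain ⟨K₀, lam₀, hψ'⟩ := ih (Nat.card T) hTlt T rfl ψ hψ
      refine ⟨K₀.map T.subtype, lam₀.comp
        (K₀.equivMapOfInjective T.subtype T.subtype_injective).symm.toMonoidHom, ?_⟩
      rw [← hind, hψ', indFun_trans']
      rfl
    · push Not at hA
      obtain ⟨d, ρ, hρ, rfl⟩ := hχ
      have h1 : Module.finrank ℂ (Fin d → ℂ) = 1 := by
        apply finrank_eq_one_of_quasiprimitive ρ hρ
        intro N hN hNf ϑ hϑ hcon g n
        exact hA N hN hNf ϑ hϑ hcon g n
      obtain ⟨lam, hlam⟩ := exists_hom_of_finrank_eq_one ρ h1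
      refine ⟨⊤, lam.comp (⊤ : Subgroup G).subtype, ?_⟩
      have hcf : Cfsg.IsClassFunction G ρ.character := fun g h => Representation.char_conj ρ g h
      conv_lhs => rw [eq_indFun_top ρ.character hcf]
      congr 1
      funext h
      exact (hlam h).symm


/-- A finite nilpotent group is an M-group: each irreducible complex character is induced from a homomorphism of some subgroup into ℂˣ. -/
theorem result {G : Type*} [Group G] [Fintype G] [Group.IsNilpotent G] (χ : G → ℂ) (hχ : Cfsg.IsIrrCharacter G χ) : ∃ (H : Subgroup G) (lam : H →* ℂˣ), χ = Cfsg.indFun H (fun h => (lam h : ℂ)) := by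
  classical
  exact monomial_aux (Nat.card G) G rfl χ hχ

end Cfsg.Agent.S0176
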