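import Cfsg.Statements.S0177
import Cfsg.Agent.Lib.Helper4.Artin

set_option autoImplicit false
open Cfsg

namespace Cfsg.Agent.S0177

/-- functions that are integer combinations of characters induced from linear characters of
cyclic subgroups -/
def Rep {G : Type*} [Group G] [Fintype G] (f : G → ℂ) : Prop :=
  ∃ l : List ((A : Subgroup G) × ((A →* ℂˣ) × ℤ)), (∀ t ∈ l, IsCyclic t.1) ∧
    f = (l.map fun t => (t.2.2 : ℂ) • Cfsg.indFun t.1 (fun a => (t.2.1 a : ℂ))).sum

theorem rep_zero {G : Type*} [Group G] [Fintype G] : Rep (0 : G → ℂ) := ⟨[], by simp, by simp⟩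

theorem rep_add {G : Type*} [Group G] [Fintype G] {f g : G → ℂ} (hf : Rep f) (hg : Rep g) :
    Rep (f + g) := by
  obtain ⟨l1, h1, rfl⟩ := hf
  obtain ⟨l2, h2, rfl⟩ := hg
  refine ⟨l1 ++ l2, ?_, ?_⟩
  · intro t ht
    rcases List.mem_append.mp ht with h | h
    exacts [h1 t h, h2 t h]
  · rw [List.map_append, List.sum_append]

theorem rep_single {G : Type*} [Group G] [Fintype G] (A : Subgroup G) (hA : IsCyclic A)
    (lam : A →* ℂˣ) (z : ℤ) :
    Rep ((z : ℂ) • Cfsg.indFun A (fun a => ((lam a : ℂˣ) : ℂ))) :=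
  ⟨[⟨A, (lam, z)⟩], by simp [hA], by simp⟩

theorem rep_sum {G : Type*} [Group G] [Fintype G] {ι : Type*} (s : Finset ι) (f : ι → G → ℂ)
    (h : ∀ i ∈ s, Rep (f i)) : Rep (∑ i ∈ s, f i) :=
  Finset.sum_induction f Rep (fun _ _ => rep_add) rep_zero h


/-- The Artin induction Theorem: for a character χ of a finite group, |G| • χ is a ℤ-linear combination of functions induced from homomorphisms of cyclic subgroups into ℂˣ. -/
theorem result {G : Type*} [Group G] [Fintype G] (χ : G → ℂ) (hχ : Cfsg.IsCharacter G χ) : ∃ l : List ((A : Subgroup G) × ((A →* ℂˣ) × ℤ)), (∀ t ∈ l, IsCyclic t.1) ∧ (Nat.card G : ℂ) • χ = (l.map fun t => (t.2.2 : ℂ) • Cfsg.indFun t.1 (fun a => (t.2.1 a : ℂ))).sum := by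
  classical
  obtain ⟨n, ρ, rfl⟩ := hχ
  have : Fintype (Subgroup G) := Fintype.ofFinite _
  have hcf : Cfsg.IsClassFunction G ρ.character := fun g h => Representation.char_conj ρ g h
  have hmain := Cfsg.Agent.Lib.Helper4.sum_indFun_genFun ρ.character hcf
  have hrep : Rep ((Nat.card G : ℂ) • ρ.character) := by
    rw [← hmain]
    apply rep_sum
    intro A hA
    have hAc : IsCyclic A := (Finset.mem_filter.mp hA).2
    have hcomm : ∀ a b : A, a * b = b * a := by
      intro a b
      have := hAc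
      exact (IsCyclic.commGroup (α := A)).mul_comm a b
    have : Fintype A := Fintype.ofFinite A
    have : Finite (A →* ℂˣ) := Cfsg.Agent.Lib.Helper4.finite_monoidHom_units' hcomm
    have : Fintype (A →* ℂˣ) := Fintype.ofFinite _
    rw [Cfsg.Agent.Lib.Helper4.eq_sum_monoidHom' hcomm
      (Cfsg.Agent.Lib.Helper4.genFun A ρ.character), Cfsg.Agent.Lib.Helper4.indFun_finset_sum]
    apply rep_sum
    intro lam _
    obtain ⟨z, hz⟩ := Cfsg.Agent.Lib.Helper4.genFun_coeff_int ρ A lam
    rw [hz, Cfsg.Agent.Lib.Helper26.indFun_smul]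
    exact rep_single A hAc lam z
  obtain ⟨l, hl, hl2⟩ := hrep
  exact ⟨l, hl, hl2⟩

end Cfsg.Agent.S0177
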