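import Cfsg.Statements.S0178
import Cfsg.Agent.Lib.Helper26.IndChar
import Cfsg.Agent.Lib.Helper4.LinConst

set_option autoImplicit false
open Cfsg

namespace Cfsg.Agent.S0178

/-- The degree of an irreducible complex representation of a finite group is at most the index of any abelian subgroup. -/
theorem result {G : Type*} [Group G] [Finite G] {V : Type*} [AddCommGroup V] [Module ℂ V] [FiniteDimensional ℂ V] (ρ : Representation ℂ G V) [ρ.IsIrreducible] (A : Subgroup G) (hA : ∀ a ∈ A, ∀ b ∈ A, a * b = b * a) : Module.finrank ℂ V ≤ A.index := by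
  classical
  have : Fintype G := Fintype.ofFinite G
  have : Fintype A := Fintype.ofFinite A
  have hρ : ρ.IsIrreducible := inferInstance
  have hV : Module.finrank ℂ V ≠ 0 := by
    have := Cfsg.Agent.Lib.Helper4.finrank_ne_zero_of_irreducible ρ hρ
    exact_mod_cast this
  let ρA : Representation ℂ A V := ρ.comp A.subtype
  obtain ⟨n, τ, hτ, hne⟩ := Cfsg.Agent.Lib.Helper4.exists_irreducible_injective ρA hV
  have hcomm : IsMulCommutative A := ⟨⟨fun a b => Subtype.ext (hA a a.2 b b.2)⟩⟩
  have hτ' := hτ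
  have hn1 : Module.finrank ℂ (Fin n → ℂ) = 1 :=
    Representation.IsIrreducible.finrank_eq_one_of_isMulCommutative τ
  have hθ : Cfsg.IsCharacter A τ.character := ⟨n, τ, rfl⟩
  obtain ⟨n', ρ', hρ'⟩ := Cfsg.Agent.Lib.Helper26.isCharacter_indFun A hθ
  have hχ : Cfsg.IsIrrCharacter G ρ.character :=
    Cfsg.Agent.Lib.Helper4.isIrrCharacter_of_irreducible ρ hρ
  have hcf : Cfsg.IsClassFunction G ρ.character := fun g h => Representation.char_conj ρ g h
  have hne' : Cfsg.classInner ρ'.character ρ.character ≠ 0 := by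
    rw [hρ', ← Cfsg.Agent.Lib.Helper26.classInner_conj_symm,
      Cfsg.Agent.Lib.Helper26.classInner_indFun_right' A ρ.character hcf τ.character]
    intro h
    apply hne
    exact (map_eq_zero _).mp h
  obtain ⟨m, hm, hpos, hle, _⟩ :=
    Cfsg.Agent.Lib.Helper4.constituent_degree ρ' ⟨ρ.character, hχ⟩ hne'
  have hm' : Module.finrank ℂ V = m := by
    have h1 : ρ.character 1 = (m : ℂ) := hm
    rw [Representation.char_one] at h1
    exact_mod_cast h1
  have hdeg : (Module.finrank ℂ (Fin n' → ℂ) : ℂ) = (A.index : ℂ) := by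
    rw [← Representation.char_one ρ', hρ', Cfsg.Agent.Lib.Helper26.indFun_one,
      Representation.char_one, hn1, Nat.cast_one, mul_one, ← Nat.card_eq_fintype_card,
      ← Subgroup.card_mul_index A]
    have hAne : (Nat.card A : ℂ) ≠ 0 := Nat.cast_ne_zero.mpr Nat.card_pos.ne'
    push_cast
    field_simp
  have hdeg' : Module.finrank ℂ (Fin n' → ℂ) = A.index := by exact_mod_cast hdeg
  rw [hm', ← hdeg']
  exact hle

end Cfsg.Agent.S0178
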