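import Cfsg.Statements.S0180
import Cfsg.Agent.Lib.Helper4.GaloisChar
import Cfsg.Agent.S0136

set_option autoImplicit false
open Cfsg

namespace Cfsg.Agent.S0180

/-- Every irreducible complex character of a finite group takes only rational values if and only if g is conjugate to g ^ m for every element g and every m coprime to the group order. -/
theorem result {G : Type*} [Group G] [Finite G] : (∀ χ : Cfsg.IrrCharacter G, ∀ g : G, ∃ q : ℚ, (χ : G → ℂ) g = (q : ℂ)) ↔ ∀ m : ℕ, m.Coprime (Nat.card G) → ∀ g : G, IsConj g (g ^ m) := by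
  classical
  have : Fintype G := Fintype.ofFinite G
  have hN : 0 < Nat.card G := Nat.card_pos
  constructor
  · intro hrat m hm g
    rw [Cfsg.Agent.S0136.result]
    intro χ
    obtain ⟨n, ρ, hρ, hχ⟩ := χ.2
    rw [← hχ]
    obtain ⟨q, hq⟩ := hrat χ g
    rw [← hχ] at hq
    obtain ⟨σ, hσ⟩ := Cfsg.Agent.Lib.Helper4.exists_embedding_pow (Nat.card G) hN m hm
    have h1 := Cfsg.Agent.Lib.Helper4.embedding_charK ρ σ m hσ g
    have h2 : Cfsg.Agent.Lib.Helper4.charK ρ g = algebraMap ℚ _ q := by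
      apply Subtype.ext
      rw [Cfsg.Agent.Lib.Helper4.coe_charK, hq]
      rfl
    rw [h2, AlgHom.commutes] at h1
    rw [← h1, hq]
    rfl
  · intro hconj χ g
    obtain ⟨n, ρ, hρ, hχ⟩ := χ.2
    rw [← hχ]
    have hfix : ∀ σ : Cfsg.Agent.Lib.Helper4.cycK (Nat.card G) →ₐ[ℚ] ℂ,
        σ (Cfsg.Agent.Lib.Helper4.charK ρ g) =
          ((Cfsg.Agent.Lib.Helper4.charK ρ g : Cfsg.Agent.Lib.Helper4.cycK (Nat.card G)) : ℂ) := by
      intro σ
      obtain ⟨m, hm, hσ⟩ := Cfsg.Agent.Lib.Helper4.embedding_pow (Nat.card G) hN σ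
      rw [Cfsg.Agent.Lib.Helper4.embedding_charK ρ σ m hσ g, Cfsg.Agent.Lib.Helper4.coe_charK]
      have hc := hconj m hm g
      obtain ⟨c, hc⟩ := isConj_iff.mp hc
      rw [← hc, Representation.char_conj]
    obtain ⟨q, hq⟩ := Cfsg.Agent.Lib.Helper4.rational_of_fixed (Nat.card G) hN _ hfix
    exact ⟨q, hq⟩

end Cfsg.Agent.S0180
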