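import Cfsg.Statements.S0185
import Cfsg.Agent.Lib.Helper4.LinConst

set_option autoImplicit false
open Cfsg

namespace Cfsg.Agent.S0185

/-- If a finite group has a faithful complex representation of degree less than the smallest prime dividing its order, the group is abelian. -/
theorem result {G : Type*} [Group G] [Finite G] {V : Type*} [AddCommGroup V] [Module ℂ V] [FiniteDimensional ℂ V] (ρ : Representation ℂ G V) (hfaithful : Function.Injective ρ) (hdeg : ∀ p : ℕ, p.Prime → p ∣ Nat.card G → Module.finrank ℂ V < p) (a b : G) : a * b = b * a := by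
  classical
  have : Fintype G := Fintype.ofFinite G
  have hlin : ∀ χ : Cfsg.IrrCharacter G, Cfsg.classInner ρ.character (χ : G → ℂ) ≠ 0 →
      (χ : G → ℂ) 1 = 1 := by
    intro χ hne
    obtain ⟨n, hn, hpos, hle, hdvd⟩ := Cfsg.Agent.Lib.Helper4.constituent_degree ρ χ hne
    rw [hn]
    by_contra h1
    have hn1 : n ≠ 1 := by
      intro h
      apply h1
      rw [h]
      simp
    obtain ⟨p, hp, hpn⟩ := Nat.exists_prime_and_dvd hn1
    have h2 := hdeg p hp (hpn.trans hdvd)
    have h3 := Nat.le_of_dvd hpos hpn
    omega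
  have h := Cfsg.Agent.Lib.Helper4.rho_commutator_of_linear_constituents ρ hlin a b
  have h2 : a * b * a⁻¹ * b⁻¹ = 1 := hfaithful (by rw [h, map_one]; rfl)
  calc a * b = a * b * a⁻¹ * b⁻¹ * b * a := by group
    _ = b * a := by rw [h2, one_mul]

end Cfsg.Agent.S0185
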