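import Cfsg.Statements.S0190
import Cfsg.Agent.Lib.Helper26.CharBasic

set_option autoImplicit false
open Cfsg

namespace Cfsg.Agent.S0190

/-- For a transitive action of a finite group on X, the permutation character g ↦ (number of fixed points of g) is the function induced from the principal character of the stabilizer of any point. -/
theorem result {G : Type*} [Group G] [Fintype G] (X : Type*) [MulAction G X] [Finite X] [MulAction.IsPretransitive G X] (x : X) : (fun g : G => (Nat.card (MulAction.fixedBy X g) : ℂ)) = Cfsg.indFun (MulAction.stabilizer G x) (fun _ => 1) := by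
  classical
  have : Fintype X := Fintype.ofFinite X
  set S := MulAction.stabilizer G x with hS
  have hSne : (Nat.card S : ℂ) ≠ 0 := Nat.cast_ne_zero.mpr Nat.card_pos.ne'
  funext g
  unfold Cfsg.indFun
  -- fibres of the orbit map
  have hfib : ∀ z : X, (Finset.univ.filter (fun y : G => y • x = z)).card = Nat.card S := by
    intro z
    obtain ⟨y0, hy0⟩ := MulAction.exists_smul_eq G x z
    rw [Nat.card_eq_fintype_card, ← Finset.card_univ]
    symm
    refine Finset.card_bij' (fun s _ => y0 * (s : G)) (fun y hy => ⟨y0⁻¹ * y, ?_⟩) ?_ ?_ ?_ ?_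
    · rw [Finset.mem_filter] at hy
      rw [hS, MulAction.mem_stabilizer_iff, mul_smul, hy.2, ← hy0, inv_smul_smul]
    · intro s _
      rw [Finset.mem_filter]
      refine ⟨Finset.mem_univ _, ?_⟩
      rw [mul_smul]
      have hs : (s : G) • x = x := s.2
      rw [hs, hy0]
    · intro y _
      exact Finset.mem_univ _
    · intro s _
      apply Subtype.ext
      simp
    · intro y _
      simp
  have hterm : ∀ y : G, Cfsg.extendByZero S (fun _ => (1 : ℂ)) (y⁻¹ * g * y) =
      if y • x ∈ MulAction.fixedBy X g then 1 else 0 := by
    intro y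
    have hiff : y⁻¹ * g * y ∈ S ↔ y • x ∈ MulAction.fixedBy X g := by
      rw [hS, MulAction.mem_stabilizer_iff, MulAction.mem_fixedBy, mul_smul, mul_smul,
        inv_smul_eq_iff]
    by_cases hy : y⁻¹ * g * y ∈ S
    · rw [Cfsg.Agent.Lib.Helper26.extendByZero_apply_mem S _ _ hy, if_pos (hiff.mp hy)]
    · rw [Cfsg.Agent.Lib.Helper26.extendByZero_apply_not_mem S _ _ hy,
        if_neg (fun h => hy (hiff.mpr h))]
  simp only [hterm]
  rw [Finset.sum_boole]
  have hcount : (Finset.univ.filter (fun y : G => y • x ∈ MulAction.fixedBy X g)).card =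
      (Finset.univ.filter (fun z : X => z ∈ MulAction.fixedBy X g)).card * Nat.card S := by
    rw [Finset.card_eq_sum_card_fiberwise (f := fun y : G => y • x)
      (t := Finset.univ.filter (fun z : X => z ∈ MulAction.fixedBy X g))
      (fun y hy => by simpa using hy)]
    rw [Finset.sum_congr rfl (g := fun _ => Nat.card S)]
    · rw [Finset.sum_const, smul_eq_mul]
    · intro z hz
      rw [← hfib z]
      congr 1
      ext y
      rw [Finset.mem_filter] at hz
      simp only [Finset.mem_filter, Finset.mem_univ, true_and]
      constructor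
      · intro h; exact h.2
      · intro h; exact ⟨by rw [h]; exact hz.2, h⟩
  rw [hcount]
  have hfix : Nat.card (MulAction.fixedBy X g) =
      (Finset.univ.filter (fun z : X => z ∈ MulAction.fixedBy X g)).card := by
    rw [Nat.card_eq_fintype_card, Fintype.card_subtype]
  rw [hfix]
  push_cast
  field_simp

end Cfsg.Agent.S0190
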