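import Cfsg.Statements.S0191
import Cfsg.Agent.Lib.Helper4.GaloisChar
import Cfsg.Agent.Lib.Helper4.CharIntegral

set_option autoImplicit false
open Cfsg

namespace Cfsg.Agent.S0191

/-- An irreducible complex representation of a finite group of degree greater than 1 has a character that vanishes somewhere. -/
theorem result {G : Type*} [Group G] [Finite G] {V : Type*} [AddCommGroup V] [Module ℂ V] [FiniteDimensional ℂ V] (ρ : Representation ℂ G V) [ρ.IsIrreducible] (hdeg : 1 < Module.finrank ℂ V) : ∃ g : G, ρ.character g = 0 := by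
  classical
  have : Fintype G := Fintype.ofFinite G
  have hirr : ρ.IsIrreducible := inferInstance
  by_contra hcon
  push Not at hcon
  have hN : 0 < Nat.card G := Nat.card_pos
  have : NeZero (Nat.card G) := ⟨hN.ne'⟩
  set k := Fintype.card (Cfsg.Agent.Lib.Helper4.cycK (Nat.card G) →ₐ[ℚ] ℂ) with hk
  have hkpos : 0 < k := by
    rw [hk, AlgHom.card ℚ (Cfsg.Agent.Lib.Helper4.cycK (Nat.card G)) ℂ]
    exact Module.finrank_pos
  let A : G → ℝ := fun g => ∑ σ : Cfsg.Agent.Lib.Helper4.cycK (Nat.card G) →ₐ[ℚ] ℂ,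
    Complex.normSq (σ (Cfsg.Agent.Lib.Helper4.charK ρ g))
  -- lower bounds
  have hlow : ∀ g : G, (k : ℝ) ≤ A g := by
    intro g
    apply Cfsg.Agent.Lib.Helper4.sum_normSq_embeddings_ge
    · intro h
      apply hcon g
      have := congrArg (fun x : Cfsg.Agent.Lib.Helper4.cycK (Nat.card G) => (x : ℂ)) h
      simpa using this
    · exact Cfsg.Agent.Lib.Helper4.charK_isIntegral ρ g
  have hA1 : A 1 = (k : ℝ) * (Module.finrank ℂ V : ℝ) ^ 2 := by
    have h1 : Cfsg.Agent.Lib.Helper4.charK ρ 1 =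
        ((Module.finrank ℂ V : ℕ) : Cfsg.Agent.Lib.Helper4.cycK (Nat.card G)) := by
      apply Subtype.ext
      rw [Cfsg.Agent.Lib.Helper4.coe_charK, Representation.char_one]
      simp
    simp only [A, h1, map_natCast, Complex.normSq_natCast]
    rw [Finset.sum_const, Finset.card_univ, nsmul_eq_mul, ← hk]
    ring
  -- total
  have htot : ∑ g : G, A g = (k : ℝ) * (Nat.card G : ℝ) := by
    simp only [A]
    rw [Finset.sum_comm]
    have hσ : ∀ σ : Cfsg.Agent.Lib.Helper4.cycK (Nat.card G) →ₐ[ℚ] ℂ,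
        ∑ g : G, Complex.normSq (σ (Cfsg.Agent.Lib.Helper4.charK ρ g)) = (Nat.card G : ℝ) := by
      intro σ
      obtain ⟨m, hm, hσm⟩ := Cfsg.Agent.Lib.Helper4.embedding_pow (Nat.card G) hN σ
      simp only [Cfsg.Agent.Lib.Helper4.embedding_charK ρ σ m hσm]
      have hbij : ∑ g : G, Complex.normSq (ρ.character (g ^ m)) =
          ∑ g : G, Complex.normSq (ρ.character g) := by
        have := Equiv.sum_comp (powCoprime hm.symm)
          (fun g : G => Complex.normSq (ρ.character g))
        simpa using this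
      rw [hbij]
      have h1 := Cfsg.Agent.Lib.Helper4.sum_char_mul_char_inv ρ hirr
      have h2 : ∑ g : G, ρ.character g * ρ.character g⁻¹ =
          ((∑ g : G, Complex.normSq (ρ.character g) : ℝ) : ℂ) := by
        rw [Complex.ofReal_sum]
        refine Finset.sum_congr rfl fun g _ => ?_
        rw [Cfsg.Agent.Lib.Helper4.character_inv, Complex.mul_conj]
      rw [h2] at h1
      exact_mod_cast h1
    simp only [hσ]
    rw [Finset.sum_const, Finset.card_univ, nsmul_eq_mul, ← hk]
  have hsplit : ∑ g : G, A g = A 1 + ∑ g ∈ Finset.univ.erase (1 : G), A g :=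
    (Finset.add_sum_erase Finset.univ A (Finset.mem_univ 1)).symm
  have hrest : ((Nat.card G : ℝ) - 1) * (k : ℝ) ≤ ∑ g ∈ Finset.univ.erase (1 : G), A g := by
    have h1 : ∑ _g ∈ Finset.univ.erase (1 : G), (k : ℝ) ≤ ∑ g ∈ Finset.univ.erase (1 : G), A g :=
      Finset.sum_le_sum fun g _ => hlow g
    rw [Finset.sum_const, Finset.card_erase_of_mem (Finset.mem_univ _), Finset.card_univ,
      nsmul_eq_mul, ← Nat.card_eq_fintype_card, Nat.cast_sub hN] at h1
    simpa using h1
  rw [htot, hA1] at hsplit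
  have hkR : (0 : ℝ) < k := by exact_mod_cast hkpos
  have hd : (2 : ℝ) ≤ (Module.finrank ℂ V : ℝ) := by exact_mod_cast hdeg
  have h3 : (Module.finrank ℂ V : ℝ) ^ 2 ≤ 1 := by
    have h4 : (k : ℝ) * (Module.finrank ℂ V : ℝ) ^ 2 + ((Nat.card G : ℝ) - 1) * (k : ℝ) ≤
        (k : ℝ) * (Nat.card G : ℝ) := by
      rw [hsplit]
      linarith
    have h5 : (k : ℝ) * ((Module.finrank ℂ V : ℝ) ^ 2 - 1) ≤ 0 := by nlinarith
    have h6 : (Module.finrank ℂ V : ℝ) ^ 2 - 1 ≤ 0 := by
      by_contra hpos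
      push Not at hpos
      have := mul_pos hkR hpos
      linarith
    linarith
  nlinarith

end Cfsg.Agent.S0191
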