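import Cfsg.Statements.S0192
import Cfsg.Agent.Lib.Helper4.BurnsideClass

set_option autoImplicit false
open Cfsg

namespace Cfsg.Agent.S0192

/-- Brauer's generation criterion. Let G be a finite simple group, H₁ and H₂ subgroups, and χ a non-principal irreducible character. If the multiplicity of the principal character in χ restricted to H₁ ⊓ H₂ is less than the sum of the corresponding multiplicities for H₁ and H₂, then H₁ and H₂ do not generate G. -/
theorem result {G : Type*} [Group G] [Fintype G] [IsSimpleGroup G] (H₁ H₂ : Subgroup G) [Fintype H₁] [Fintype H₂] [Fintype ↥(H₁ ⊓ H₂)] (χ : G → ℂ) (hχ : Cfsg.IsIrrCharacter G χ) (hχ1 : χ ≠ fun _ => 1) (hlt : (Cfsg.classInner (fun x : ↥(H₁ ⊓ H₂) => χ x) (fun _ => 1)).re < (Cfsg.classInner (fun x : H₁ => χ x) (fun _ => 1)).re + (Cfsg.classInner (fun x : H₂ => χ x) (fun _ => 1)).re) : H₁ ⊔ H₂ ≠ ⊤ := by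
  classical
  intro htop
  obtain ⟨n, ρ, hρ, rfl⟩ := hχ
  have hρ' := hρ
  -- inner product with the trivial character = dimension of invariants
  have hinv : ∀ (K : Subgroup G) [Fintype K],
      Cfsg.classInner (fun x : K => ρ.character x) (fun _ => 1) =
        (Module.finrank ℂ (Representation.invariants (ρ.comp K.subtype)) : ℂ) := by
    intro K _
    have hne : (Nat.card K : ℂ) ≠ 0 := Nat.cast_ne_zero.mpr Nat.card_pos.ne'
    have : Invertible (Nat.card K : ℂ) := invertibleOfNonzero hne
    rw [← Representation.card_inv_mul_sum_char_eq_finrank (ρ.comp K.subtype)]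
    unfold Cfsg.classInner
    congr 1
    refine Finset.sum_congr rfl fun k _ => ?_
    rw [map_one, mul_one]
    rfl
  rw [hinv (H₁ ⊓ H₂), hinv H₁, hinv H₂] at hlt
  simp only [Complex.natCast_re] at hlt
  set I1 := Representation.invariants (ρ.comp H₁.subtype) with hI1
  set I2 := Representation.invariants (ρ.comp H₂.subtype) with hI2
  set I12 := Representation.invariants (ρ.comp (H₁ ⊓ H₂).subtype) with hI12
  have hsup : I1 ⊔ I2 ≤ I12 := by
    apply sup_le
    · intro v hv
      rw [hI1, Representation.mem_invariants] at hv
      rw [hI12, Representation.mem_invariants]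
      intro g
      exact hv ⟨g, g.2.1⟩
    · intro v hv
      rw [hI2, Representation.mem_invariants] at hv
      rw [hI12, Representation.mem_invariants]
      intro g
      exact hv ⟨g, g.2.2⟩
  have hGinv : Representation.invariants ρ = ⊥ := by
    let σ : Subrepresentation ρ :=
      ⟨Representation.invariants ρ, fun g v hv => by
        rw [Representation.mem_invariants] at hv
        rw [hv g]
        exact (Representation.mem_invariants ρ v).mpr hv⟩
    rcases eq_bot_or_eq_top σ with h | h
    · exact congrArg Subrepresentation.toSubmodule h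
    · exfalso
      have h2 : Representation.invariants ρ = ⊤ := congrArg Subrepresentation.toSubmodule h
      apply hχ1
      apply Cfsg.Agent.Lib.Helper4.character_eq_one_of_trivial ρ hρ
      intro x
      apply LinearMap.ext
      intro v
      have hv : v ∈ Representation.invariants ρ := by rw [h2]; trivial
      exact (Representation.mem_invariants ρ v).mp hv x
  have hinf : I1 ⊓ I2 = ⊥ := by
    rw [eq_bot_iff]
    intro v hv
    rw [← hGinv, Representation.mem_invariants]
    have hv1 : v ∈ I1 := hv.1
    have hv2 : v ∈ I2 := hv.2
    rw [hI1, Representation.mem_invariants] at hv1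
    rw [hI2, Representation.mem_invariants] at hv2
    let S : Subgroup G :=
      { carrier := {g | ρ g v = v}
        one_mem' := by simp
        mul_mem' := by
          intro a b ha hb
          show ρ (a * b) v = v
          rw [map_mul, Module.End.mul_apply, hb, ha]
        inv_mem' := by
          intro a ha
          show ρ a⁻¹ v = v
          have h1 : ρ a⁻¹ (ρ a v) = v := by
            rw [← Module.End.mul_apply, ← map_mul, inv_mul_cancel, map_one]
            rfl
          rw [ha] at h1
          exact h1 }
    have h1 : H₁ ≤ S := fun g hg => hv1 ⟨g, hg⟩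
    have h2 : H₂ ≤ S := fun g hg => hv2 ⟨g, hg⟩
    have h3 : S = ⊤ := by
      rw [eq_top_iff, ← htop]
      exact sup_le h1 h2
    intro g
    have : g ∈ S := by rw [h3]; trivial
    exact this
  have hdim := Submodule.finrank_sup_add_finrank_inf_eq I1 I2
  rw [hinf, finrank_bot, add_zero] at hdim
  have hle := Submodule.finrank_mono hsup
  have hlt' : Module.finrank ℂ I12 < Module.finrank ℂ I1 + Module.finrank ℂ I2 := by
    exact_mod_cast hlt
  omega

end Cfsg.Agent.S0192
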