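import Cfsg.Statements.S0193
import Cfsg.Agent.Lib.Helper26.CharBasic
import Cfsg.Agent.Lib.Helper26.TIInd
import Cfsg.Agent.Lib.Helper2.CharConj

set_option autoImplicit false
open Cfsg

namespace Cfsg.Agent.S0193

/-- Let H be a normal subgroup of a finite group G and θ an irreducible character of H. Then |H| times the inner product of the induced function of θ with itself equals the number of g in G with θ(g h g⁻¹) = θ(h) for all h in H; in particular the induced character is irreducible when only elements of H stabilise θ. -/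
theorem result {G : Type*} [Group G] [Fintype G] (H : Subgroup G) [hN : H.Normal] (θ : H → ℂ) (hθ : Cfsg.IsIrrCharacter H θ) : (Nat.card H : ℂ) * Cfsg.classInner (Cfsg.indFun H θ) (Cfsg.indFun H θ) = (Nat.card {g : G // ∀ h : H, θ ⟨g * h * g⁻¹, hN.conj_mem h h.2 g⟩ = θ h} : ℂ) := by
  classical
  have : Fintype H := Fintype.ofFinite H
  have hH : (Nat.card H : ℂ) ≠ 0 := Nat.cast_ne_zero.mpr Nat.card_pos.ne'
  rw [Cfsg.Agent.Lib.Helper26.classInner_indFun_right H (Cfsg.indFun H θ)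
    (Cfsg.Agent.Lib.Helper26.isClassFunction_indFun H θ) θ, ← mul_assoc, mul_inv_cancel₀ hH,
    one_mul]
  have h1 : ∀ h : H, Cfsg.indFun H θ h * (starRingEnd ℂ) (θ h) =
      (Nat.card H : ℂ)⁻¹ * ∑ x : G,
        θ ⟨x * h * x⁻¹, hN.conj_mem h h.2 x⟩ * (starRingEnd ℂ) (θ h) := by
    intro h
    rw [Cfsg.Agent.Lib.Helper2.indFun_coe_of_normal H θ h, mul_assoc, Finset.sum_mul]
  simp only [h1]
  rw [← Finset.mul_sum, Finset.sum_comm, Finset.mul_sum]
  have h2 : ∀ x : G, (Nat.card H : ℂ)⁻¹ * ∑ h : H,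
      θ ⟨x * h * x⁻¹, hN.conj_mem h h.2 x⟩ * (starRingEnd ℂ) (θ h) =
        if (∀ h : H, θ ⟨x * h * x⁻¹, hN.conj_mem h h.2 x⟩ = θ h) then 1 else 0 := by
    intro x
    have h3 := Cfsg.Agent.Lib.Helper26.classInner_irr
      (Cfsg.Agent.Lib.Helper2.isIrrCharacter_conj_of_normal H hθ x) hθ
    unfold Cfsg.classInner at h3
    rw [h3]
    by_cases hx : ∀ h : H, θ ⟨x * h * x⁻¹, hN.conj_mem h h.2 x⟩ = θ h
    · rw [if_pos hx, if_pos (funext hx)]
    · rw [if_neg hx, if_neg (fun h => hx (congrFun h))]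
  simp only [h2]
  rw [Finset.sum_boole, Nat.card_eq_fintype_card, Fintype.card_subtype]

end Cfsg.Agent.S0193
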