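import Cfsg.Statements.S0194
import Cfsg.Agent.Lib.Helper26.CharBasic
import Cfsg.Agent.Lib.Helper26.TIInd
import Cfsg.Agent.Lib.Helper2.CharConj
import Cfsg.Agent.Lib.Helper28.DualRep
import Cfsg.Agent.S0161

set_option autoImplicit false
open scoped ComplexConjugate
open Cfsg

namespace Cfsg.Agent.S0194

/-- Let G have odd order, H be a normal subgroup and θ a non-principal irreducible character of H. Then the function induced from θ is orthogonal to its complex conjugate. -/
theorem result {G : Type*} [Group G] [Fintype G] (hodd : Odd (Nat.card G)) (H : Subgroup G) [H.Normal] (θ : H → ℂ) (hθ : Cfsg.IsIrrCharacter H θ) (hθ1 : θ ≠ fun _ => 1) : Cfsg.classInner (fun g => conj (Cfsg.indFun H θ g)) (Cfsg.indFun H θ) = 0 := by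
  classical
  have hN : H.Normal := inferInstance
  have : Fintype H := Fintype.ofFinite H
  have hH : (Nat.card H : ℂ) ≠ 0 := Nat.cast_ne_zero.mpr Nat.card_pos.ne'
  have hcf : Cfsg.IsClassFunction G (fun g => conj (Cfsg.indFun H θ g)) := by
    intro g k
    show conj (Cfsg.indFun H θ (k * g * k⁻¹)) = conj (Cfsg.indFun H θ g)
    rw [Cfsg.Agent.Lib.Helper26.isClassFunction_indFun H θ g k]
  rw [Cfsg.Agent.Lib.Helper26.classInner_indFun_right H _ hcf θ]
  have hconjN : ∀ (x : G) (h : H),
      (MulAut.conjNormal x h : H) = ⟨x * h * x⁻¹, hN.conj_mem h h.2 x⟩ := by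
    intro x h
    apply Subtype.ext
    exact MulAut.conjNormal_apply x h
  have hθbar : Cfsg.IsIrrCharacter H (fun h => conj (θ h)) :=
    Cfsg.Agent.Lib.Helper28.isIrrCharacter_conj hθ
  have hkey : ∀ x : G, ∑ h : H, θ ⟨x * h * x⁻¹, hN.conj_mem h h.2 x⟩ * θ h = 0 := by
    intro x
    have h3 := Cfsg.Agent.Lib.Helper26.classInner_irr
      (Cfsg.Agent.Lib.Helper2.isIrrCharacter_conj_of_normal H hθ x) hθbar
    have hne : (fun h : H => θ ⟨x * h * x⁻¹, hN.conj_mem h h.2 x⟩) ≠ fun h => conj (θ h) := by
      intro heq
      have heq' : ∀ h : H, θ (MulAut.conjNormal x h) = conj (θ h) := by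
        intro h
        rw [hconjN]
        exact congrFun heq h
      let S : Subgroup G :=
        { carrier := {g | ∀ h : H, θ (MulAut.conjNormal g h) = θ h}
          one_mem' := by
            intro h
            rw [map_one]
            rfl
          mul_mem' := by
            intro a b ha hb h
            rw [map_mul, MulAut.mul_apply, ha, hb]
          inv_mem' := by
            intro a ha h
            have := ha (MulAut.conjNormal a⁻¹ h)
            rw [← MulAut.mul_apply, ← map_mul, mul_inv_cancel, map_one] at this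
            exact this.symm }
      have hxx : x * x ∈ S := by
        intro h
        rw [map_mul, MulAut.mul_apply, heq', heq', Complex.conj_conj]
      have hoddx : Odd (orderOf x) := Odd.of_dvd_nat hodd (orderOf_dvd_natCard x)
      obtain ⟨m, hm⟩ := hoddx
      have hx : x ∈ S := by
        have h1 : (x * x) ^ (m + 1) = x := by
          rw [← pow_two, ← pow_mul]
          have : 2 * (m + 1) = orderOf x + 1 := by omega
          rw [this, pow_succ, pow_orderOf_eq_one, one_mul]
        rw [← h1]
        exact S.pow_mem hxx _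
      have hreal : ∀ h : H, (θ h).im = 0 := by
        intro h
        have h1 := heq' h
        rw [hx h] at h1
        exact Complex.conj_eq_iff_im.mp h1.symm
      have hoddH : Odd (Nat.card H) := Odd.of_dvd_nat hodd (Subgroup.card_subgroup_dvd_card H)
      exact hθ1 (Cfsg.Agent.S0161.result hoddH ⟨θ, hθ⟩ hreal)
    rw [if_neg hne] at h3
    unfold Cfsg.classInner at h3
    have h4 := (mul_eq_zero.mp h3).resolve_left (inv_ne_zero hH)
    rw [← h4]
    refine Finset.sum_congr rfl fun h _ => ?_
    rw [Complex.conj_conj]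
  have h1 : ∀ h : H, conj (Cfsg.indFun H θ h) * conj (θ h) =
      conj ((Nat.card H : ℂ)⁻¹ * ∑ x : G,
        θ ⟨x * h * x⁻¹, hN.conj_mem h h.2 x⟩ * θ h) := by
    intro h
    rw [Cfsg.Agent.Lib.Helper2.indFun_coe_of_normal H θ h, ← map_mul, mul_assoc, Finset.sum_mul]
  simp only [h1]
  rw [← map_sum, ← Finset.mul_sum, Finset.sum_comm]
  simp only [hkey, Finset.sum_const_zero, mul_zero, map_zero]

end Cfsg.Agent.S0194
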