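import Cfsg.Statements.S0196
import Mathlib

set_option autoImplicit false
open Cfsg

namespace Cfsg.Agent.S0196

/-- Let A be a subgroup of a finite group G that equals the centralizer of each of its non-identity elements, and let N be its normalizer. Then the index of A in N divides |A| − 1 (N/A permutes the non-identity elements of A in orbits of full length). -/
theorem result {G : Type*} [Group G] [Finite G] (A : Subgroup G) (hA : ∀ x ∈ A, x ≠ 1 → Subgroup.centralizer ({x} : Set G) = A) : (A.subgroupOf (Subgroup.normalizer (A : Set G))).index ∣ Nat.card A - 1 := by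
  classical
  set N := Subgroup.normalizer (A : Set G) with hN
  let X : Type _ := ↥((A : Set G) \ {1})
  letI act : MulAction N X :=
    { smul := fun n x => ⟨(n : G) * x.1 * (n : G)⁻¹, by
        refine ⟨?_, ?_⟩
        · exact (Subgroup.mem_normalizer_iff.mp n.2 x.1).mp x.2.1
        · intro h
          rw [Set.mem_singleton_iff] at h
          apply x.2.2
          rw [Set.mem_singleton_iff]
          have : x.1 = (n : G)⁻¹ * ((n : G) * x.1 * (n : G)⁻¹) * (n : G) := by group
          rw [this, h]; group⟩
      one_smul := by
        intro x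
        apply Subtype.ext
        show ((1 : N) : G) * x.1 * ((1 : N) : G)⁻¹ = x.1
        simp
      mul_smul := by
        intro a b x
        apply Subtype.ext
        show ((a * b : N) : G) * x.1 * ((a * b : N) : G)⁻¹ = (a : G) * ((b : G) * x.1 * (b : G)⁻¹) * (a : G)⁻¹
        simp only [Subgroup.coe_mul]
        group }
  have hsmul : ∀ (n : N) (x : X), ((n • x : X) : G) = (n : G) * x.1 * (n : G)⁻¹ := fun n x => rfl
  have hstab : ∀ x : X, MulAction.stabilizer N x = A.subgroupOf N := by
    intro x
    ext n
    rw [MulAction.mem_stabilizer_iff, Subgroup.mem_subgroupOf, ← hA x.1 x.2.1 (by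
      intro h; exact x.2.2 (Set.mem_singleton_iff.mpr h)), Subgroup.mem_centralizer_iff]
    constructor
    · intro h y hy
      rw [Set.mem_singleton_iff] at hy
      subst hy
      have h1 : (n : G) * x.1 * (n : G)⁻¹ = x.1 := by
        rw [← hsmul, h]
      calc x.1 * (n : G) = ((n : G) * x.1 * (n : G)⁻¹) * (n : G) := by rw [h1]
        _ = (n : G) * x.1 := by group
    · intro h
      apply Subtype.ext
      rw [hsmul]
      have := h x.1 rfl
      calc (n : G) * x.1 * (n : G)⁻¹ = (x.1 * (n : G)) * (n : G)⁻¹ := by rw [this]
        _ = x.1 := by group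
  have e := MulAction.selfEquivSigmaOrbitsQuotientStabilizer N X
  have hcard := Nat.card_congr e
  haveI : Fintype (Quotient (MulAction.orbitRel N X)) := Fintype.ofFinite _
  rw [Nat.card_sigma] at hcard
  have hterm : ∀ ω : Quotient (MulAction.orbitRel N X),
      Nat.card (N ⧸ MulAction.stabilizer N ω.out) = (A.subgroupOf N).index := by
    intro ω
    rw [hstab, Subgroup.index_eq_card]
  rw [Finset.sum_congr rfl (fun ω _ => hterm ω), Finset.sum_const, smul_eq_mul] at hcard
  have hX : Nat.card X = Nat.card A - 1 := by
    show Nat.card ↥((A : Set G) \ {1}) = Nat.card A - 1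
    rw [Nat.card_coe_set_eq, Set.ncard_diff_singleton_of_mem (A.one_mem),
      ← Nat.card_coe_set_eq]
    rfl
  rw [← hX, hcard]
  exact dvd_mul_left _ _

end Cfsg.Agent.S0196
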