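import Cfsg.Statements.S0198
import Cfsg.Agent.Lib.Helper26.Exceptional
import Cfsg.Agent.Lib.Helper4.BurnsideClass

set_option autoImplicit false
open Cfsg

namespace Cfsg.Agent.S0198
open Cfsg.Agent.Lib.Helper26

/-- The isometry lemma behind exceptional characters. Let τ be a family of generalized characters of a finite group G indexed by Fin n, with τ i₀ = 0, every τ i vanishing at the identity, and inner products ⟨τ i, τ j⟩ = 2 if i = j and 1 otherwise for i, j ≠ i₀. Then there are a sign ε and pairwise distinct irreducible characters μ i with τ i = ε (μ i − μ i₀) for all i. -/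
theorem result {G : Type*} [Group G] [Fintype G] (n : ℕ) (i₀ : Fin n) (τ : Fin n → (G → ℂ)) (h0 : τ i₀ = 0) (hgen : ∀ i, Cfsg.IsGeneralizedCharacter G (τ i)) (hone : ∀ i, τ i 1 = 0) (hgram : ∀ i j, i ≠ i₀ → j ≠ i₀ → Cfsg.classInner (τ i) (τ j) = if i = j then 2 else 1) : ∃ ε : ℂ, (ε = 1 ∨ ε = -1) ∧ ∃ μ : Fin n → (G → ℂ), (∀ i, Cfsg.IsIrrCharacter G (μ i)) ∧ Function.Injective μ ∧ ∀ i, τ i = ε • (μ i - μ i₀) := by
  classical
  by_cases hne : ∃ i₁ : Fin n, i₁ ≠ i₀
  · have hdecomp : ∀ l, l ≠ i₀ → ∃ a b : G → ℂ, IsIrrCharacter G a ∧ IsIrrCharacter G b ∧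
        a ≠ b ∧ τ l = a - b := by
      intro l hl
      have hnorm : classInner (τ l) (τ l) = 2 := by
        rw [hgram l l hl hl, if_pos rfl]
      exact genChar_norm_two (hgen l) hnorm (hone l)
    choose! a b ha hb hab hβ using hdecomp
    have hinner : ∀ j k, j ≠ i₀ → k ≠ i₀ → j ≠ k → classInner (τ j) (τ k) = 1 := by
      intro j k hj hk hjk
      rw [hgram j k hj hk, if_neg hjk]
    obtain ⟨ε, hε, θ, hθirr, hθinj, hθ⟩ :=
      exceptional_aux i₀ τ a b h0 ha hb hab hβ hinner hne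
    refine ⟨-ε, ?_, θ, hθirr, hθinj, ?_⟩
    · rcases hε with h | h
      · right; rw [h]
      · left; rw [h]; norm_num
    · intro i
      rw [hθ i, neg_smul, ← smul_neg, neg_sub]
  · push Not at hne
    refine ⟨1, Or.inl rfl, fun _ => (fun _ => (1 : ℂ)),
      fun _ => Cfsg.Agent.Lib.Helper4.isIrrCharacter_one, ?_, ?_⟩
    · intro x y _
      rw [hne x, hne y]
    · intro i
      rw [hne i, h0, sub_self, smul_zero]

end Cfsg.Agent.S0198
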