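import Cfsg.Statements.S0200
import Cfsg.Agent.Lib.Lead.BaerSuzuki
import Cfsg.Agent.Lib.Helper24.DihIso

set_option autoImplicit false
open Cfsg

namespace Cfsg.Agent.S0200

open Subgroup

theorem orderOf_conj' {G : Type*} [Group G] (a x : G) : orderOf (a * x * a⁻¹) = orderOf x := by
  have := (MulAut.conj a).orderOf_eq x
  simpa using this

/-- two involutions whose product is inverted only trivially in odd order generate a 2-group -/
theorem pair_isPGroup {G : Type*} [Group G] [Finite G] (x y : G) (hx : orderOf x = 2) (hy : orderOf y = 2)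
    (hno : ∀ h : G, Odd (orderOf h) → x * h * x⁻¹ = h⁻¹ → h = 1) :
    IsPGroup 2 (closure ({x, y} : Set G)) := by
  have hx2 : x * x = 1 := Cfsg.Agent.Lib.Helper24.sq_one_of_orderOf_two hx
  have hy2 : y * y = 1 := Cfsg.Agent.Lib.Helper24.sq_one_of_orderOf_two hy
  have hxinv : x⁻¹ = x := Cfsg.Agent.Lib.Helper24.inv_eq_self_of_orderOf_two hx
  have hyinv : y⁻¹ = y := Cfsg.Agent.Lib.Helper24.inv_eq_self_of_orderOf_two hy
  set u := x * y with hu
  have hn : 0 < orderOf u := orderOf_pos u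
  obtain ⟨k, m, hm, hnkm⟩ := Nat.exists_eq_two_pow_mul_odd (Nat.pos_iff_ne_zero.mp hn)
  have hconj : x * u * x⁻¹ = u⁻¹ := by
    rw [hu, mul_inv_rev, hxinv, hyinv]
    calc x * (x * y) * x = (x * x) * y * x := by group
      _ = y * x := by rw [hx2, one_mul]
  have hconjpow : ∀ j : ℕ, x * u ^ j * x⁻¹ = (u ^ j)⁻¹ := by
    intro j
    have : x * u ^ j * x⁻¹ = (x * u * x⁻¹) ^ j := by
      rw [conj_pow]
    rw [this, hconj, inv_pow]
  have hord : orderOf (u ^ (2 ^ k)) = m := by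
    rw [orderOf_pow' u (by positivity), hnkm]
    rw [Nat.gcd_eq_right (Dvd.intro _ rfl)]
    exact Nat.mul_div_cancel_left m (by positivity)
  have h1 : u ^ (2 ^ k) = 1 := hno _ (by rw [hord]; exact hm) (hconjpow _)
  have hm1 : m = 1 := by
    rw [← hord, h1, orderOf_one]
  have hn2 : orderOf u = 2 ^ k := by rw [hnkm, hm1, mul_one]
  obtain ⟨e⟩ := Cfsg.Agent.Lib.Helper24.closure_pair_equiv_dihedral hx hy
  have : NeZero (orderOf (x * y)) := ⟨Nat.pos_iff_ne_zero.mp hn⟩
  have hcard : Nat.card ↥(closure ({x, y} : Set G)) = 2 ^ (k + 1) := by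
    rw [Nat.card_congr e.toEquiv, DihedralGroup.nat_card, ← hu, hn2, pow_succ, mul_comm]
  exact IsPGroup.of_card hcard

/-- An involution lying in no normal 2-subgroup of a finite group inverts a nontrivial element of odd order (a consequence of the Baer–Suzuki Theorem). -/
theorem result {G : Type*} [Group G] [Finite G] (t : G) (ht : orderOf t = 2) (hO : ∀ N : Subgroup G, N.Normal → IsPGroup 2 N → t ∉ N) : ∃ h : G, h ≠ 1 ∧ Odd (orderOf h) ∧ t * h * t⁻¹ = h⁻¹ := by
  by_contra hcon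
  push_neg at hcon
  have hno : ∀ h : G, Odd (orderOf h) → t * h * t⁻¹ = h⁻¹ → h = 1 := by
    intro h hodd hinv
    by_contra hne
    exact hcon h hne hodd hinv
  let K : Set G := {y | ∃ g : G, y = g * t * g⁻¹}
  have hK : ∀ g x, x ∈ K → g * x * g⁻¹ ∈ K := by
    rintro g _ ⟨a, rfl⟩
    exact ⟨g * a, by group⟩
  have hpair : ∀ x ∈ K, ∀ y ∈ K, IsPGroup 2 (closure ({x, y} : Set G)) := by
    rintro _ ⟨a, rfl⟩ _ ⟨b, rfl⟩
    have hoa : orderOf (a * t * a⁻¹) = 2 := by rw [orderOf_conj']; exact ht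
    have hob : orderOf (b * t * b⁻¹) = 2 := by rw [orderOf_conj']; exact ht
    apply pair_isPGroup _ _ hoa hob
    intro h hodd hinv
    -- conjugate back by a
    have h' := hno (a⁻¹ * h * a) (by
      have : a⁻¹ * h * a = a⁻¹ * h * (a⁻¹)⁻¹ := by simp
      rw [this, orderOf_conj']; exact hodd) (by
      have e1 : t * (a⁻¹ * h * a) * t⁻¹ = a⁻¹ * (a * t * a⁻¹ * h * (a * t * a⁻¹)⁻¹) * a := by group
      rw [e1, hinv]; group)
    have : h = a * (a⁻¹ * h * a) * a⁻¹ := by group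
    rw [this, h']; group
  have : Fact (Nat.Prime 2) := ⟨Nat.prime_two⟩
  obtain ⟨hn, hp⟩ := Cfsg.Agent.Lib.Lead.baer_suzuki_closure K hK hpair
  exact hO (closure K) hn hp (subset_closure ⟨1, by simp⟩)

end Cfsg.Agent.S0200
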