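import Cfsg.Statements.S0203
import Cfsg.Agent.Lib.Helper24.KleinClasses

set_option autoImplicit false
open Cfsg

namespace Cfsg.Agent.S0203

/-- If a Sylow 2-subgroup P of a finite group G is a Klein four-group, then G has three classes of involutions if and only if P has a normal complement in G. -/
theorem result {G : Type*} [Group G] [Finite G] (P : Sylow 2 G) (hP : IsKleinFour (P : Subgroup G)) : Nat.card {C : ConjClasses G // ∃ t : G, orderOf t = 2 ∧ ConjClasses.mk t = C} = 3 ↔ ∃ N : Subgroup G, N.Normal ∧ Subgroup.IsComplement' N (P : Subgroup G) := by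
  constructor
  · intro h3
    rcases Lib.Helper24.klein_dichotomy P hP with ⟨hnf, _⟩ | ⟨_, h1⟩
    · have hle : Subgroup.normalizer ((P : Subgroup G) : Set G) ≤
          Subgroup.centralizer ((P : Subgroup G) : Set G) := by
        intro n hn
        rw [Subgroup.mem_centralizer_iff]
        intro x hx
        have hmem : n * x * n⁻¹ ∈ (P : Subgroup G) := (Subgroup.mem_normalizer_iff.mp hn x).mp hx
        have hconj : IsConj x (n * x * n⁻¹) := isConj_iff.mpr ⟨n, rfl⟩
        have := hnf x hx _ hmem hconj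
        calc x * n = (n * x * n⁻¹) * n := by rw [← this]
          _ = n * x := by group
      exact ⟨(MonoidHom.transferSylow P hle).ker, MonoidHom.normal_ker _,
        MonoidHom.ker_transferSylow_isComplement' P hle⟩
    · rw [h1] at h3; omega
  · rintro ⟨N, hN, hcompl⟩
    have hnf : ∀ x ∈ (P : Subgroup G), ∀ y ∈ (P : Subgroup G), IsConj x y → x = y := by
      intro x hx y hy hxy
      obtain ⟨g, hg⟩ := isConj_iff.mp hxy
      obtain ⟨⟨⟨n, hn⟩, ⟨p, hp⟩⟩, hnp⟩ := hcompl.2 g
      simp only at hnp
      have hpx : p * x * p⁻¹ = x := by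
        have := Lib.Helper24.klein_comm (P : Subgroup G) hP p x hp hx
        rw [this]; group
      have hy' : y = n * x * n⁻¹ := by
        rw [← hg, ← hnp]
        calc n * p * x * (n * p)⁻¹ = n * (p * x * p⁻¹) * n⁻¹ := by group
          _ = n * x * n⁻¹ := by rw [hpx]
      have hmemN : x⁻¹ * y ∈ N := by
        rw [hy']
        have e : x⁻¹ * (n * x * n⁻¹) = (x⁻¹ * n * x⁻¹⁻¹) * n⁻¹ := by group
        rw [e]
        exact N.mul_mem (hN.conj_mem n hn x⁻¹) (N.inv_mem hn)
      have hmemP : x⁻¹ * y ∈ (P : Subgroup G) :=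
        (P : Subgroup G).mul_mem ((P : Subgroup G).inv_mem hx) hy
      have hdisj := hcompl.disjoint
      have h1 : x⁻¹ * y = 1 := Subgroup.disjoint_def.mp hdisj hmemN hmemP
      exact (inv_mul_eq_one.mp h1)
    rcases Lib.Helper24.klein_dichotomy P hP with ⟨_, h⟩ | ⟨hf, _⟩
    · exact h
    · exfalso
      obtain ⟨a, b, ha, hb, ha1, hb1, hab⟩ := Lib.Helper24.klein_exists_pair (P : Subgroup G) hP
      exact hab (hnf a ha b hb (hf a ha b hb ha1 hb1))

end Cfsg.Agent.S0203
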