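import Cfsg.Statements.S0210
import Cfsg.Agent.Lib.Helper24.Dih

set_option autoImplicit false
open Cfsg

namespace Cfsg.Agent.S0210

/-- If x, y are involutions whose product has even order, no element of the subgroup generated by x and y conjugates x to y. -/
theorem result {G : Type*} [Group G] [Finite G] (x y : G) (hx : orderOf x = 2) (hy : orderOf y = 2) (heven : Even (orderOf (x * y))) (d : G) (hd : d ∈ Subgroup.closure ({x, y} : Set G)) : d * x * d⁻¹ ≠ y := by
  have hx2 := Lib.Helper24.sq_one_of_orderOf_two hx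
  have hy2 := Lib.Helper24.sq_one_of_orderOf_two hy
  -- key: x * u^j = y forces j odd mod n, impossible for even j when n is even
  have key : ∀ j : ℤ, x * (x * y) ^ (2 * j) ≠ y := by
    intro j h
    have h1 : (x * y) ^ (2 * j) = x * y := by
      have := congrArg (fun t => x * t) h
      simp only [← mul_assoc, hx2, one_mul] at this
      exact this
    have h2 : (x * y) ^ (2 * j - 1) = 1 := by
      rw [zpow_sub, h1, zpow_one, mul_inv_cancel]
    have h3 : ((orderOf (x * y) : ℕ) : ℤ) ∣ 2 * j - 1 := orderOf_dvd_iff_zpow_eq_one.mpr h2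
    obtain ⟨m, hm⟩ := heven
    have h4 : (2 : ℤ) ∣ 2 * j - 1 := dvd_trans ⟨(m : ℤ), by rw [hm]; push_cast; ring⟩ h3
    omega
  obtain ⟨i, hi | hi⟩ := Lib.Helper24.closure_pair_forms hx2 hy2 d hd
  · rw [hi, Lib.Helper24.conj_x_by_upow hx2 hy2]
    have := key (-i)
    rwa [mul_neg] at this
  · rw [hi, Lib.Helper24.conj_x_by_xupow hx2 hy2]
    exact key i

end Cfsg.Agent.S0210
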