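import Cfsg.Statements.S0211
import Cfsg.Agent.Lib.Helper24.Dih

set_option autoImplicit false
open Cfsg

namespace Cfsg.Agent.S0211

/-- Let x, y be involutions with xy of even order n and z = (xy)^(n/2). Then xz is conjugate to x by an element of the subgroup generated by x, y if and only if 4 divides n. -/
theorem result {G : Type*} [Group G] [Finite G] (x y : G) (hx : orderOf x = 2) (hy : orderOf y = 2) (heven : Even (orderOf (x * y))) : (∃ d ∈ Subgroup.closure ({x, y} : Set G), d * x * d⁻¹ = x * (x * y) ^ (orderOf (x * y) / 2)) ↔ 4 ∣ orderOf (x * y) := by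
  have hx2 := Lib.Helper24.sq_one_of_orderOf_two hx
  have hy2 := Lib.Helper24.sq_one_of_orderOf_two hy
  obtain ⟨m, hm⟩ := heven
  have hdiv : orderOf (x * y) / 2 = m := by omega
  rw [hdiv]
  have key : ∀ j : ℤ, x * (x * y) ^ (2 * j) = x * (x * y) ^ m → 4 ∣ orderOf (x * y) := by
    intro j h
    have h1 : (x * y) ^ (2 * j) = (x * y) ^ (m : ℤ) := by
      rw [zpow_natCast]
      exact mul_left_cancel h
    have h2 : (x * y) ^ (2 * j - m) = 1 := by
      rw [zpow_sub, h1, mul_inv_cancel]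
    have h3 : ((orderOf (x * y) : ℕ) : ℤ) ∣ 2 * j - m := orderOf_dvd_iff_zpow_eq_one.mpr h2
    have h4 : (2 : ℤ) ∣ 2 * j - m := dvd_trans ⟨(m : ℤ), by rw [hm]; push_cast; ring⟩ h3
    have h5 : 2 ∣ m := by omega
    obtain ⟨c, hc⟩ := h5
    exact ⟨c, by omega⟩
  constructor
  · rintro ⟨d, hd, hconj⟩
    obtain ⟨i, hi | hi⟩ := Lib.Helper24.closure_pair_forms hx2 hy2 d hd
    · rw [hi, Lib.Helper24.conj_x_by_upow hx2 hy2] at hconj
      apply key (-i)
      rwa [mul_neg]
    · rw [hi, Lib.Helper24.conj_x_by_xupow hx2 hy2] at hconj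
      exact key i hconj
  · rintro ⟨j, hj⟩
    refine ⟨(x * y) ^ (-(j : ℤ)), Lib.Helper24.u_zpow_mem_closure_pair x y _, ?_⟩
    rw [Lib.Helper24.conj_x_by_upow hx2 hy2]
    have hmj : m = 2 * j := by omega
    have : -(2 * -(j : ℤ)) = ((m : ℕ) : ℤ) := by rw [hmj]; push_cast; ring
    rw [this, zpow_natCast]

end Cfsg.Agent.S0211
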