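import Cfsg.Statements.S0214
import Cfsg.Agent.Lib.Helper24.SylowTools
import Cfsg.Agent.Lib.Helper24.StrEmb

set_option autoImplicit false
open Cfsg

namespace Cfsg.Agent.S0214

/-- Let H be a proper subgroup of the finite group G and P a nontrivial Sylow 2-subgroup of H. Then H is strongly embedded in G if and only if N_G(X) ≤ H for every nontrivial subgroup X of P. -/
theorem result {G : Type*} [Group G] [Finite G] (H : Subgroup G) (hH : H ≠ ⊤) (P : Sylow 2 ↥H) (hP : (P : Subgroup ↥H) ≠ ⊥) : Cfsg.IsStronglyEmbedded H ↔ (∀ X : Subgroup ↥H, X ≤ (P : Subgroup ↥H) → X ≠ ⊥ → Subgroup.normalizer ((X.map H.subtype : Subgroup G) : Set G) ≤ H) := by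
  constructor
  · rintro ⟨_, _, h3⟩ X hXP hX g hg
    by_contra hgH
    have hodd := h3 g hgH
    have hXp : IsPGroup 2 X := P.2.to_le hXP
    obtain ⟨k, hk⟩ := hXp.exists_card_eq
    have hk0 : k ≠ 0 := by
      rintro rfl
      rw [pow_zero] at hk
      exact hX (Subgroup.card_eq_one.mp hk)
    have heven : Even (Nat.card X) := by
      rw [hk]; exact (Nat.even_pow' hk0).mpr even_two
    obtain ⟨s, hsX, hos⟩ := Lib.Helper24.exists_involution_of_even_card X heven
    have hsG : (s : G) ∈ X.map H.subtype := ⟨s, hsX, rfl⟩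
    have hosG : orderOf (s : G) = 2 := by rw [Subgroup.orderOf_coe]; exact hos
    have hsmem : (s : G) ∈ H ⊓ H.map (MulAut.conj g).toMonoidHom := by
      have h2 : (s : G) ∈ H.map (MulAut.conj g).toMonoidHom := by
        rw [Lib.Helper24.mem_conj_map_iff]
        have := (Subgroup.mem_normalizer_iff''.mp hg (s : G)).mp hsG
        obtain ⟨x', hx', hx'e⟩ := this
        exact ⟨g⁻¹ * s * g, by rw [← hx'e]; exact x'.2, by group⟩
      exact ⟨s.2, h2⟩
    exact Lib.Helper24.not_odd_card_of_involution_mem _ hsmem hosG hodd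
  · intro hN
    have hN' : ∀ Y : Subgroup G, Y ≤ (P : Subgroup H).map H.subtype → Y ≠ ⊥ →
        Subgroup.normalizer (Y : Set G) ≤ H := by
      intro Y hYP hY
      have hYH : Y ≤ H := fun y hy => by
        obtain ⟨x, _, rfl⟩ := hYP hy; exact x.2
      have := hN (Y.subgroupOf H) ?_ ?_
      · rwa [Subgroup.map_subgroupOf_eq_of_le hYH] at this
      · intro x hx
        obtain ⟨x', hx', he⟩ := hYP (Subgroup.mem_subgroupOf.mp hx)
        have : x' = x := Subtype.ext he
        rwa [← this]
      · intro h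
        apply hY
        rw [← Subgroup.map_subgroupOf_eq_of_le hYH, h, Subgroup.map_bot]
    have claim1 : ∀ Y : Subgroup G, Y ≤ H → IsPGroup 2 Y → Y ≠ ⊥ →
        Subgroup.normalizer (Y : Set G) ≤ H := by
      intro Y hYH hYp hY n hn
      obtain ⟨h, hhH, hconj⟩ := Lib.Helper24.exists_conj_le_sylow_of_subgroup H P Y hYp hYH
      have hle : Y.map (MulAut.conj h).toMonoidHom ≤ (P : Subgroup H).map H.subtype := by
        rintro _ ⟨y, hy, rfl⟩
        exact hconj y hy
      have hne : Y.map (MulAut.conj h).toMonoidHom ≠ ⊥ := by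
        intro hbot
        apply hY
        exact (Subgroup.map_eq_bot_iff_of_injective _ (MulAut.conj h).injective).mp hbot
      have hnorm := hN' _ hle hne
      have hmem : h * n * h⁻¹ ∈
          Subgroup.normalizer ((Y.map (MulAut.conj h).toMonoidHom : Subgroup G) : Set G) := by
        have := Subgroup.map_normalizer_eq_of_bijective Y (f := (MulAut.conj h).toMonoidHom)
          (MulAut.conj h).bijective
        rw [← this]
        exact ⟨n, hn, rfl⟩
      have h1 := hnorm hmem
      have e : n = h⁻¹ * (h * n * h⁻¹) * h := by group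
      rw [e]
      exact H.mul_mem (H.mul_mem (H.inv_mem hhH) h1) hhH
    refine ⟨hH, ?_, ?_⟩
    · have hPp : IsPGroup 2 (P : Subgroup H) := P.2
      obtain ⟨k, hk⟩ := hPp.exists_card_eq
      have hk0 : k ≠ 0 := by
        rintro rfl
        rw [pow_zero] at hk
        exact hP (Subgroup.card_eq_one.mp hk)
      have h2 : 2 ∣ Nat.card (P : Subgroup H) := by
        rw [hk]; exact dvd_pow_self 2 hk0
      exact even_iff_two_dvd.mpr (h2.trans (Subgroup.card_subgroup_dvd_card _))
    · intro g hg
      by_contra hodd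
      rw [Nat.not_odd_iff_even] at hodd
      obtain ⟨K, hK⟩ : ∃ K : Subgroup G, K = H ⊓ H.map (MulAut.conj g).toMonoidHom := ⟨_, rfl⟩
      rw [← hK] at hodd
      have hKH : K ≤ H := hK ▸ inf_le_left
      have hKHg : K ≤ H.map (MulAut.conj g).toMonoidHom := hK ▸ inf_le_right
      obtain ⟨Q₀⟩ : Nonempty (Sylow 2 K) := inferInstance
      have hQ₀ne : (Q₀ : Subgroup K) ≠ ⊥ := Q₀.ne_bot_of_dvd_card (even_iff_two_dvd.mp hodd)
      obtain ⟨Q, hQ⟩ : ∃ Q : Subgroup G, Q = (Q₀ : Subgroup K).map K.subtype := ⟨_, rfl⟩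
      have hQK : Q ≤ K := by
        rw [hQ]; rintro _ ⟨x, _, rfl⟩; exact x.2
      have hQp : IsPGroup 2 Q := hQ ▸ Q₀.2.map _
      have hQne : Q ≠ ⊥ := by
        rw [hQ]
        intro hbot
        exact hQ₀ne ((Subgroup.map_eq_bot_iff_of_injective _ K.subtype_injective).mp hbot)
      have hA : Subgroup.normalizer (Q : Set G) ≤ H := claim1 Q (hQK.trans hKH) hQp hQne
      have hB : Subgroup.normalizer (Q : Set G) ≤ H.map (MulAut.conj g).toMonoidHom := by
        have hle : Q.map (MulAut.conj g⁻¹).toMonoidHom ≤ H := by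
          rintro _ ⟨q, hq, rfl⟩
          obtain ⟨h, hh, rfl⟩ := hKHg (hQK hq)
          simpa [MulAut.conj_apply, mul_assoc] using hh
        have hp : IsPGroup 2 (Q.map (MulAut.conj g⁻¹).toMonoidHom) := hQp.map _
        have hne : Q.map (MulAut.conj g⁻¹).toMonoidHom ≠ ⊥ := by
          intro hbot
          exact hQne ((Subgroup.map_eq_bot_iff_of_injective _ (MulAut.conj g⁻¹).injective).mp hbot)
        have h1 := claim1 _ hle hp hne
        intro n hn
        have hmem : g⁻¹ * n * g⁻¹⁻¹ ∈
            Subgroup.normalizer ((Q.map (MulAut.conj g⁻¹).toMonoidHom : Subgroup G) : Set G) := by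
          have := Subgroup.map_normalizer_eq_of_bijective Q (f := (MulAut.conj g⁻¹).toMonoidHom)
            (MulAut.conj g⁻¹).bijective
          rw [← this]
          exact ⟨n, hn, rfl⟩
        exact ⟨g⁻¹ * n * g⁻¹⁻¹, h1 hmem, by simp [MulAut.conj_apply, mul_assoc]⟩
      have hNK : Subgroup.normalizer (Q : Set G) ≤ K := hK ▸ le_inf hA hB
      obtain ⟨R, hR⟩ := hQp.exists_le_sylow
      have hRQ : (R : Subgroup G) = Q := by
        apply Lib.Helper24.sylow_eq_of_normalizer_max Q _ R hR
        intro T hT hQT hTN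
        have := Lib.Helper24.le_sylow_map_of_isPGroup K Q₀ T hT (hTN.trans hNK) (hQ ▸ hQT)
        rwa [← hQ] at this
      have hRH : (R : Subgroup G) ≤ H := hRQ ▸ (hQK.trans hKH)
      have hR2 : ((g⁻¹ • R : Sylow 2 G) : Subgroup G) ≤ H := by
        intro x hx
        rw [Sylow.coe_subgroup_smul, Subgroup.mem_pointwise_smul_iff_inv_smul_mem] at hx
        have hx' : g * x * g⁻¹ ∈ (R : Subgroup G) := by
          simpa [MulAut.smul_def, MulAut.conj_apply] using hx
        rw [hRQ] at hx'
        obtain ⟨h, hh, he⟩ := hKHg (hQK hx')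
        have : h = x := by
          simp only [MulEquiv.coe_toMonoidHom, MulAut.conj_apply] at he
          exact mul_left_cancel (mul_right_cancel he)
        rwa [← this]
      obtain ⟨h, hh⟩ := MulAction.exists_smul_eq H (R.subtype hRH) ((g⁻¹ • R).subtype hR2)
      rw [Sylow.smul_subtype] at hh
      have hh' : h • R = g⁻¹ • R := Sylow.subtype_injective hh
      have hfix : (g * (h : G)) • R = R := by
        rw [mul_smul]
        have : (h : G) • R = h • R := rfl
        rw [this, hh', smul_inv_smul]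
      have hmemN : g * (h : G) ∈ Subgroup.normalizer ((R : Subgroup G) : Set G) :=
        Sylow.smul_eq_iff_mem_normalizer.mp hfix
      rw [hRQ] at hmemN
      have := hA hmemN
      apply hg
      have e : g = g * (h : G) * (h : G)⁻¹ := by group
      rw [e]
      exact H.mul_mem this (H.inv_mem h.2)

end Cfsg.Agent.S0214
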