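import Cfsg.Statements.S0216
import Cfsg.Agent.Lib.Helper24.Isolated
import Cfsg.Agent.Lib.Helper24.StrEmb

set_option autoImplicit false
open Cfsg

namespace Cfsg.Agent.S0216

/-- For an involution u in a Sylow 2-subgroup P of a finite group G, the following are equivalent: no G-conjugate of u other than u lies in P; every commutator of u with an element of G has odd order. -/
theorem result {G : Type*} [Group G] [Finite G] (P : Sylow 2 G) (u : G) (hu : orderOf u = 2) (huP : u ∈ P) : (∀ g : G, g * u * g⁻¹ ∈ P → g * u * g⁻¹ = u) ↔ (∀ g : G, Odd (orderOf (u * g * u⁻¹ * g⁻¹))) := by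
  have hu2 := Lib.Helper24.sq_one_of_orderOf_two hu
  have hui : u⁻¹ = u := Lib.Helper24.inv_eq_self_of_orderOf_two hu
  have hcomm_eq : ∀ g : G, u * g * u⁻¹ * g⁻¹ = u * (g * u * g⁻¹) := by
    intro g; rw [hui]; group
  constructor
  · intro hiso g
    rw [hcomm_eq]
    obtain ⟨v, hv⟩ : ∃ v, v = g * u * g⁻¹ := ⟨_, rfl⟩
    rw [← hv]
    by_contra hodd
    rw [Nat.not_odd_iff_even] at hodd
    have hvo : orderOf v = 2 := by rw [hv]; exact (Lib.Helper24.orderOf_conj' g u).trans hu
    have hv2 : v * v = 1 := Lib.Helper24.sq_one_of_orderOf_two hvo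
    obtain ⟨m, hm⟩ := hodd
    have hpos : 0 < orderOf (u * v) := orderOf_pos _
    have hm0 : m ≠ 0 := by omega
    have hzz : (u * v) ^ m * (u * v) ^ m = 1 := by
      rw [← pow_add, ← hm, pow_orderOf_eq_one]
    have hzinv : ((u * v) ^ m)⁻¹ = (u * v) ^ m := inv_eq_of_mul_eq_one_left hzz
    have hz1 : (u * v) ^ m ≠ 1 := by
      intro h
      have h1 := orderOf_dvd_of_pow_eq_one h
      have h2 := Nat.le_of_dvd (Nat.pos_of_ne_zero hm0) h1
      omega
    have hzu : (u * v) ^ m * u = u * (u * v) ^ m := by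
      have h := Lib.Helper24.zpow_mul_left_swap hu2 hv2 (m : ℤ)
      rw [zpow_neg, zpow_natCast, hzinv] at h
      exact h
    have hk : ∃ k : G, k * u * k⁻¹ = u * (u * v) ^ m := by
      rcases Nat.even_or_odd' m with ⟨c, hc | hc⟩
      · refine ⟨(u * v) ^ (-(c : ℤ)), ?_⟩
        rw [Lib.Helper24.conj_x_by_upow hu2 hv2]
        have : (-(2 * -(c : ℤ))) = ((m : ℕ) : ℤ) := by rw [hc]; push_cast; ring
        rw [this, zpow_natCast]
      · refine ⟨(u * v) ^ (-(c : ℤ)) * g, ?_⟩
        have hcomm : (u * v) ^ (-(c : ℤ)) * (u * v) * ((u * v) ^ (-(c : ℤ)))⁻¹ = u * v := by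
          have := ((Commute.refl (u * v)).zpow_left (-(c : ℤ))).eq
          rw [this, mul_inv_cancel_right]
        calc (u * v) ^ (-(c : ℤ)) * g * u * ((u * v) ^ (-(c : ℤ)) * g)⁻¹
            = (u * v) ^ (-(c : ℤ)) * v * ((u * v) ^ (-(c : ℤ)))⁻¹ := by rw [hv]; group
          _ = (u * v) ^ (-(c : ℤ)) * (u * (u * v)) * ((u * v) ^ (-(c : ℤ)))⁻¹ := by
              rw [← mul_assoc u u v, hu2, one_mul]
          _ = ((u * v) ^ (-(c : ℤ)) * u * ((u * v) ^ (-(c : ℤ)))⁻¹) *
                ((u * v) ^ (-(c : ℤ)) * (u * v) * ((u * v) ^ (-(c : ℤ)))⁻¹) := by group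
          _ = (u * (u * v) ^ (-(2 * -(c : ℤ)))) * (u * v) := by
              rw [Lib.Helper24.conj_x_by_upow hu2 hv2, hcomm]
          _ = u * (u * v) ^ m := by
              rw [mul_assoc, ← zpow_add_one]
              have : (-(2 * -(c : ℤ)) + 1) = ((m : ℕ) : ℤ) := by rw [hc]; push_cast; ring
              rw [this, zpow_natCast]
    obtain ⟨k, hk⟩ := hk
    have hcomm : u * (k * u * k⁻¹) = (k * u * k⁻¹) * u := by
      rw [hk, mul_assoc, hzu]
    have := Lib.Helper24.eq_of_conj_commute_of_isolated P hu hiso k hcomm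
    rw [hk] at this
    exact hz1 (mul_left_cancel (this.trans (mul_one u).symm))
  · intro hodd g hg
    have h1 := hodd g
    rw [hcomm_eq] at h1
    have hmem : u * (g * u * g⁻¹) ∈ (P : Subgroup G) := (P : Subgroup G).mul_mem huP hg
    obtain ⟨k, hk⟩ := P.2 ⟨_, hmem⟩
    have hk' : (u * (g * u * g⁻¹)) ^ (2 ^ k) = 1 := by
      have := congrArg Subtype.val hk
      simpa using this
    have hdvd := orderOf_dvd_of_pow_eq_one hk'
    obtain ⟨j, _, hj⟩ := (Nat.dvd_prime_pow Nat.prime_two).mp hdvd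
    have hj0 : j = 0 := by
      by_contra hne
      rw [hj] at h1
      exact (Nat.not_even_iff_odd.mpr h1) ((Nat.even_pow' hne).mpr even_two)
    rw [hj0, pow_zero, orderOf_eq_one_iff] at hj
    have : g * u * g⁻¹ = u⁻¹ := (inv_eq_of_mul_eq_one_right hj).symm
    rw [this, hui]

end Cfsg.Agent.S0216
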