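import Cfsg.Statements.S0221
import Mathlib
import Cfsg.Agent.S0111
import Cfsg.Agent.Lib.Lead.NormalAbelianCyclic
import Cfsg.Agent.Lib.Lead.NormalChain
import Cfsg.Agent.Lib.Helper12.Generation
import Cfsg.Agent.Lib.Helper2.NilpotentBasic
import Cfsg.Agent.Lib.Helper2.Cores

set_option autoImplicit false
open Cfsg

namespace Cfsg.Agent.S0221

open Cfsg.Agent.Lib.Helper2
open scoped Pointwise

section twogroup

variable {S : Type*} [Group S]

theorem comm_of_sq {E : Subgroup S} (hE : ∀ e ∈ E, e ^ 2 = 1) {a b : S} (ha : a ∈ E)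
    (hb : b ∈ E) : a * b = b * a := by
  have ia : a⁻¹ = a := by rw [inv_eq_iff_mul_eq_one, ← sq]; exact hE a ha
  have ib : b⁻¹ = b := by rw [inv_eq_iff_mul_eq_one, ← sq]; exact hE b hb
  have iab : (a * b)⁻¹ = a * b := by
    rw [inv_eq_iff_mul_eq_one, ← sq]; exact hE _ (E.mul_mem ha hb)
  calc a * b = (a * b)⁻¹ := iab.symm
    _ = b⁻¹ * a⁻¹ := mul_inv_rev a b
    _ = b * a := by rw [ia, ib]

theorem mem_zpowers_of_sq {g a : S} (hg : g ^ 2 = 1) (ha : a ∈ Subgroup.zpowers g) :
    a = 1 ∨ a = g := by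
  obtain ⟨k, rfl⟩ := Subgroup.mem_zpowers_iff.1 ha
  rcases Int.emod_two_eq_zero_or_one k with h | h
  · left
    have : k = 2 * (k / 2) := by omega
    rw [this, zpow_mul, zpow_ofNat, hg, one_zpow]
  · right
    have : k = 2 * (k / 2) + 1 := by omega
    rw [this, zpow_add, zpow_mul, zpow_ofNat, hg, one_zpow, one_mul, zpow_one]

theorem card_zpowers_invol {t : S} (ht : t ^ 2 = 1) (ht1 : t ≠ 1) :
    Nat.card (Subgroup.zpowers t) = 2 := by
  rw [Nat.card_zpowers]; exact orderOf_eq_prime ht ht1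

theorem sq_mul_of_comm {a b : S} (ha : a ^ 2 = 1) (hb : b ^ 2 = 1) (hc : a * b = b * a) :
    (a * b) ^ 2 = 1 := by
  have hc' : Commute a b := hc
  rw [hc'.mul_pow, ha, hb, one_mul]

theorem card_le_four_of_cyclic_index [Finite S] (Z : Subgroup S) [hZ : IsCyclic Z]
    (hi : Z.index ≤ 2) (E : Subgroup S) (hE : ∀ e ∈ E, e ^ 2 = 1) : Nat.card E ≤ 4 := by
  have h1 : Nat.card (E ⊓ Z : Subgroup S) * Z.relIndex E = Nat.card E := by
    have := Subgroup.relIndex_mul_relIndex ⊥ (E ⊓ Z) E bot_le inf_le_left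
    rwa [Subgroup.relIndex_bot_left, Subgroup.relIndex_bot_left,
      Subgroup.inf_relIndex_left] at this
  have h2 : Z.relIndex E ≤ 2 := by
    have := Subgroup.relIndex_le_of_le_right (H := Z) (le_top : E ≤ ⊤)
      (by rw [Subgroup.relIndex_top_right]; exact Subgroup.index_ne_zero_of_finite)
    rw [Subgroup.relIndex_top_right] at this
    exact this.trans hi
  have h3 : Nat.card (E ⊓ Z : Subgroup S) ≤ 2 := by
    haveI : IsCyclic (E ⊓ Z : Subgroup S) := Subgroup.isCyclic_of_le (inf_le_right : E ⊓ Z ≤ Z)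
    obtain ⟨g, hg⟩ := IsCyclic.exists_generator (α := (E ⊓ Z : Subgroup S))
    have hcard : orderOf g = Nat.card (E ⊓ Z : Subgroup S) :=
      orderOf_eq_card_of_forall_mem_zpowers hg
    rw [← hcard]
    have hg2 : g ^ 2 = 1 := by
      apply Subtype.ext
      rw [Subgroup.coe_pow, Subgroup.coe_one]
      exact hE _ g.2.1
    exact Nat.le_of_dvd (by norm_num) (orderOf_dvd_of_pow_eq_one hg2)
  calc Nat.card E = Nat.card (E ⊓ Z : Subgroup S) * Z.relIndex E := h1.symm
    _ ≤ 2 * 2 := Nat.mul_le_mul h3 h2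

theorem exists_normal_abelian_noncyclic [Finite S] (hS : IsPGroup 2 S)
    (E : Subgroup S) (hE8 : Nat.card E = 8) (hE : ∀ e ∈ E, e ^ 2 = 1) :
    ∃ A : Subgroup S, A.Normal ∧ (∀ x ∈ A, ∀ y ∈ A, x * y = y * x) ∧ ¬ IsCyclic A := by
  by_contra hcon
  push_neg at hcon
  by_cases hc : IsCyclic S
  · haveI := hc
    have := card_le_four_of_cyclic_index (⊤ : Subgroup S) (by simp) E hE
    omega
  · obtain ⟨-, n, a, b, -, -, -, -, hidx, -⟩ :=
      Cfsg.Agent.Lib.Lead.NormalAbelianCyclic.structure_of_normal_abelian_cyclic 2 hS hcon hc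
    have := card_le_four_of_cyclic_index (Subgroup.zpowers a) (by rw [hidx]) E hE
    omega

theorem exists_normal_four [Finite S] (hS : IsPGroup 2 S)
    (E : Subgroup S) (hE8 : Nat.card E = 8) (hE : ∀ e ∈ E, e ^ 2 = 1) :
    ∃ U : Subgroup S, U.Normal ∧ Nat.card U = 4 ∧ ∀ u ∈ U, u ^ 2 = 1 := by
  obtain ⟨A, hAn, hAc, hAnc⟩ := exists_normal_abelian_noncyclic hS E hE8 hE
  -- two independent involutions of `A`
  have hxy : ∃ x y : S, x ∈ A ∧ y ∈ A ∧ x ^ 2 = 1 ∧ y ^ 2 = 1 ∧ x ≠ 1 ∧
      y ∉ Subgroup.zpowers x := by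
    letI : CommGroup A :=
      { (inferInstance : Group A) with
        mul_comm := fun x y => Subtype.ext (hAc x x.2 y y.2) }
    obtain ⟨p, hp, x, y, hx, hy, hx1, hyx⟩ :=
      Cfsg.Agent.Lib.Helper12.exists_rank_two (H := A) hAnc
    have hx' : (x : S) ^ p = 1 := congrArg Subtype.val hx
    have hy' : (y : S) ^ p = 1 := congrArg Subtype.val hy
    have hx1' : (x : S) ≠ 1 := fun h => hx1 (Subtype.ext h)
    have hp2 : p = 2 := by
      obtain ⟨k, hk⟩ := (IsPGroup.iff_orderOf.1 hS) (x : S)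
      have h1 : orderOf (x : S) ∣ p := orderOf_dvd_of_pow_eq_one hx'
      rcases (Nat.dvd_prime hp).1 h1 with h | h
      · exact absurd (orderOf_eq_one_iff.1 h) hx1'
      · have hk0 : k ≠ 0 := by
          intro hk0
          rw [hk0, pow_zero] at hk
          rw [hk] at h
          exact hp.one_lt.ne h
        have h2p : 2 ∣ p := by rw [← h, hk]; exact dvd_pow_self 2 hk0
        exact ((Nat.prime_dvd_prime_iff_eq Nat.prime_two hp).1 h2p).symm
    subst hp2
    refine ⟨x, y, x.2, y.2, hx', hy', hx1', ?_⟩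
    intro h
    apply hyx
    obtain ⟨k, hk⟩ := Subgroup.mem_zpowers_iff.1 h
    exact Subgroup.mem_zpowers_iff.2 ⟨k, Subtype.ext hk⟩
  obtain ⟨x, y, hxA, hyA, hx2, hy2, hx1, hyx⟩ := hxy
  -- Ω₁(A)
  obtain ⟨Ω, hΩ⟩ : ∃ Ω : Subgroup S, ∀ a, a ∈ Ω ↔ a ∈ A ∧ a ^ 2 = 1 :=
    ⟨{ carrier := {a | a ∈ A ∧ a ^ 2 = 1}
       mul_mem' := by
         rintro a b ⟨ha, ha2⟩ ⟨hb, hb2⟩
         exact ⟨A.mul_mem ha hb, sq_mul_of_comm ha2 hb2 (hAc a ha b hb)⟩
       one_mem' := ⟨A.one_mem, one_pow 2⟩
       inv_mem' := by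
         rintro a ⟨ha, ha2⟩
         exact ⟨A.inv_mem ha, by rw [inv_pow, ha2, inv_one]⟩ }, fun a => Iff.rfl⟩
  have hΩn : Ω.Normal := by
    constructor
    intro a ha g
    rw [hΩ] at ha ⊢
    exact ⟨hAn.conj_mem a ha.1 g, by rw [conj_pow, ha.2, mul_one, mul_inv_cancel]⟩
  haveI := hΩn
  have hxΩ : x ∈ Ω := (hΩ x).2 ⟨hxA, hx2⟩
  have hyΩ : y ∈ Ω := (hΩ y).2 ⟨hyA, hy2⟩
  obtain ⟨r, hr⟩ := IsPGroup.iff_card.1 (hS.to_subgroup Ω)
  have hzx : Nat.card (Subgroup.zpowers x) = 2 := card_zpowers_invol hx2 hx1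
  have hle : Subgroup.zpowers x ≤ Ω := (Subgroup.zpowers_le).2 hxΩ
  have hr2 : 2 ≤ r := by
    by_contra hlt
    have hr1 : r = 0 ∨ r = 1 := by omega
    have hdvd : Nat.card (Subgroup.zpowers x) ∣ Nat.card Ω := Subgroup.card_dvd_of_le hle
    rw [hzx, hr] at hdvd
    rcases hr1 with h | h
    · rw [h, pow_zero] at hdvd
      exact absurd (Nat.le_of_dvd one_pos hdvd) (by norm_num)
    · have hcard : Nat.card Ω ≤ Nat.card (Subgroup.zpowers x) := by rw [hr, h, hzx, pow_one]
      have := Subgroup.eq_of_le_of_card_ge hle hcard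
      exact hyx (this ▸ hyΩ)
  have hdvd : 2 ^ 2 ∣ Nat.card Ω := by rw [hr]; exact pow_dvd_pow 2 hr2
  obtain ⟨U, hUΩ, hUn, hUc⟩ := Cfsg.Agent.Lib.Lead.NormalChain.exists_normal_le_card hS Ω 2 hdvd
  refine ⟨U, hUn, by rw [hUc]; norm_num, fun u hu => ((hΩ u).1 (hUΩ hu)).2⟩

/-- The `2`-group core of the argument. -/
theorem two_group_core [Finite S] (hS : IsPGroup 2 S)
    (E : Subgroup S) (hE8 : Nat.card E = 8) (hE : ∀ e ∈ E, e ^ 2 = 1) :
    ∃ T : Subgroup S, (T = ⊤ ∨ T.index = 2) ∧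
      ∀ t ∈ T, t ^ 2 = 1 → ∃ E' : Subgroup S,
        E' ≤ Subgroup.centralizer ({t} : Set S) ∧ Nat.card E' = 8 ∧ ∀ e ∈ E', e ^ 2 = 1 := by
  obtain ⟨U, hUn, hU4, hU2⟩ := exists_normal_four hS E hE8 hE
  haveI := hUn
  haveI : Group.IsNilpotent S := hS.isNilpotent
  have hUne : U ≠ ⊥ := by
    intro h; rw [h, Subgroup.card_bot] at hU4; omega
  have hz := normal_inf_center_ne_bot U hUne
  rw [Ne, Subgroup.eq_bot_iff_forall] at hz
  push_neg at hz
  obtain ⟨z, hzmem, hz1⟩ := hz
  have hzU : z ∈ U := hzmem.1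
  have hzc : ∀ g : S, g * z = z * g := fun g => (Subgroup.mem_center_iff.1 hzmem.2) g
  have hz2 : z ^ 2 = 1 := hU2 z hzU
  have hzcard : Nat.card (Subgroup.zpowers z) = 2 := card_zpowers_invol hz2 hz1
  have hzle : Subgroup.zpowers z ≤ U := (Subgroup.zpowers_le).2 hzU
  -- a second involution
  obtain ⟨u, huU, huz⟩ : ∃ u ∈ U, u ∉ Subgroup.zpowers z := by
    by_contra hcon
    push_neg at hcon
    have := Subgroup.card_le_of_le (show U ≤ Subgroup.zpowers z from hcon)
    omega
  have hu2 : u ^ 2 = 1 := hU2 u huU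
  have hu1 : u ≠ 1 := fun h => huz (h ▸ Subgroup.one_mem _)
  have huz' : u ≠ z := fun h => huz (h ▸ Subgroup.mem_zpowers z)
  have huinv : u⁻¹ = u := by rw [inv_eq_iff_mul_eq_one, ← sq]; exact hu2
  -- elements of `U`
  have hrel : (Subgroup.zpowers z).relIndex U = 2 := by
    have := Subgroup.relIndex_mul_relIndex ⊥ (Subgroup.zpowers z) U bot_le hzle
    rw [Subgroup.relIndex_bot_left, Subgroup.relIndex_bot_left, hzcard, hU4] at this
    omega
  have hUmem : ∀ v ∈ U, v = 1 ∨ v = z ∨ v = u ∨ v = u * z := by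
    intro v hv
    by_cases hvz : v ∈ Subgroup.zpowers z
    · rcases mem_zpowers_of_sq hz2 hvz with h | h
      · exact Or.inl h
      · exact Or.inr (Or.inl h)
    · have h1 : (⟨v, hv⟩ : U) * ⟨u, huU⟩ ∈ (Subgroup.zpowers z).subgroupOf U := by
        rw [Subgroup.mul_mem_iff_of_index_two hrel]
        constructor
        · intro h; exact absurd (Subgroup.mem_subgroupOf.1 h) hvz
        · intro h; exact absurd (Subgroup.mem_subgroupOf.1 h) huz
      have h2 : v * u ∈ Subgroup.zpowers z := Subgroup.mem_subgroupOf.1 h1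
      rcases mem_zpowers_of_sq hz2 h2 with h | h
      · right; right; left
        have : v = u⁻¹ := eq_inv_of_mul_eq_one_left h
        rw [this, huinv]
      · right; right; right
        have : v = z * u⁻¹ := eq_mul_inv_of_mul_eq h
        rw [this, huinv, hzc u]
  -- conjugates of `u`
  have hconj : ∀ g : S, g * u * g⁻¹ = u ∨ g * u * g⁻¹ = u * z := by
    intro g
    have hmem : g * u * g⁻¹ ∈ U := hUn.conj_mem u huU g
    rcases hUmem _ hmem with h | h | h | h
    · exfalso
      apply hu1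
      have : u = g⁻¹ * (g * u * g⁻¹) * g := by group
      rw [this, h]; group
    · exfalso
      apply huz'
      have : u = g⁻¹ * (g * u * g⁻¹) * g := by group
      rw [this, h, mul_assoc, ← hzc g, ← mul_assoc, inv_mul_cancel, one_mul]
    · exact Or.inl h
    · exact Or.inr h
  obtain ⟨T, hT⟩ : ∃ T : Subgroup S, T = Subgroup.centralizer ({u} : Set S) := ⟨_, rfl⟩
  have memT : ∀ g : S, g ∈ T ↔ g * u * g⁻¹ = u := by
    intro g
    rw [hT, Subgroup.mem_centralizer_singleton_iff]
    constructor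
    · intro h; rw [h, mul_assoc, mul_inv_cancel, mul_one]
    · intro h
      calc g * u = g * u * g⁻¹ * g := by group
        _ = u * g := by rw [h]
  have hTcent : ∀ t ∈ T, ∀ v ∈ U, t * v = v * t := by
    intro t ht v hv
    have htu : t * u = u * t := by
      rw [hT, Subgroup.mem_centralizer_singleton_iff] at ht; exact ht
    rcases hUmem v hv with h | h | h | h
    · rw [h, mul_one, one_mul]
    · rw [h]; exact hzc t
    · rw [h]; exact htu
    · rw [h, ← mul_assoc, htu, mul_assoc, hzc t, ← mul_assoc]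
  have hUT : U ≤ T := by
    intro v hv
    rw [hT, Subgroup.mem_centralizer_singleton_iff]
    exact comm_of_sq hU2 hv huU
  have hTidx : T = ⊤ ∨ T.index = 2 := by
    by_cases hTtop : T = ⊤
    · exact Or.inl hTtop
    · right
      obtain ⟨g0, hg0⟩ : ∃ g0 : S, g0 ∉ T := by
        by_contra hcon
        push_neg at hcon
        exact hTtop (eq_top_iff.2 fun g _ => hcon g)
      have hg0' : g0 * u * g0⁻¹ = u * z := by
        rcases hconj g0 with h | h
        · exact absurd ((memT g0).2 h) hg0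
        · exact h
      rw [Subgroup.index_eq_two_iff]
      refine ⟨g0, fun b => ?_⟩
      by_cases hb : b ∈ T
      · refine Or.inr ⟨hb, fun h => hg0 ?_⟩
        have : g0 = b⁻¹ * (b * g0) := by group
        rw [this]; exact T.mul_mem (T.inv_mem hb) h
      · refine Or.inl ⟨?_, hb⟩
        have hb' : b * u * b⁻¹ = u * z := by
          rcases hconj b with h | h
          · exact absurd ((memT b).2 h) hb
          · exact h
        rw [memT]
        have e : b * g0 * u * (b * g0)⁻¹ = b * (g0 * u * g0⁻¹) * b⁻¹ := by group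
        rw [e, hg0']
        have e2 : b * (u * z) * b⁻¹ = (b * u * b⁻¹) * (b * z * b⁻¹) := by group
        rw [e2, hb', hzc b, mul_assoc z b, mul_inv_cancel, mul_one, mul_assoc, ← sq, hz2, mul_one]
  refine ⟨T, hTidx, ?_⟩
  intro t htT ht2
  by_cases htU : t ∈ U
  · -- `C(t) ≥ T`, find an `E₈` inside `T`
    have hTle : T ≤ Subgroup.centralizer ({t} : Set S) := by
      intro s hs
      rw [Subgroup.mem_centralizer_singleton_iff]
      exact hTcent s hs t htU
    by_cases hET : E ≤ T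
    · exact ⟨E, hET.trans hTle, hE8, hE⟩
    · have hTi : T.index = 2 := by
        rcases hTidx with h | h
        · exact absurd (h ▸ le_top) hET
        · exact h
      haveI hTn : T.Normal := Subgroup.normal_of_index_eq_two hTi
      have hrelE : T.relIndex E = 2 := by
        have h1 : T.relIndex E ∣ T.index := Subgroup.relIndex_dvd_index_of_normal T E
        rw [hTi] at h1
        rcases (Nat.dvd_prime Nat.prime_two).1 h1 with h | h
        · exact absurd (Subgroup.relIndex_eq_one.1 h) hET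
        · exact h
      have hcardET : Nat.card (E ⊓ T : Subgroup S) = 4 := by
        have := Subgroup.relIndex_mul_relIndex ⊥ (E ⊓ T) E bot_le inf_le_left
        rw [Subgroup.relIndex_bot_left, Subgroup.relIndex_bot_left,
          Subgroup.inf_relIndex_left, hrelE, hE8] at this
        omega
      obtain ⟨F, hF⟩ : ∃ F : Subgroup S, F = (E ⊓ T) ⊔ U := ⟨_, rfl⟩
      have hFT : F ≤ T := by rw [hF]; exact sup_le inf_le_right hUT
      have hF2 : ∀ e ∈ F, e ^ 2 = 1 := by
        intro e he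
        have he' : e ∈ ((((E ⊓ T) ⊔ U : Subgroup S)) : Set S) := by rw [← hF]; exact he
        rw [Subgroup.mul_normal] at he'
        obtain ⟨a, ha, b, hb, rfl⟩ := Set.mem_mul.1 he'
        exact sq_mul_of_comm (hE a ha.1) (hU2 b hb) (hTcent a ha.2 b hb)
      have hFdvd : Nat.card F ∣ 16 := by
        have := card_sup_dvd_of_normal (E ⊓ T) U
        rw [hcardET, hU4, ← hF] at this
        exact this
      have hUF : U ≤ F := by rw [hF]; exact le_sup_right
      have hETF : E ⊓ T ≤ F := by rw [hF]; exact le_sup_left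
      have h4F : 4 ∣ Nat.card F := by rw [← hU4]; exact Subgroup.card_dvd_of_le hUF
      have hFne : Nat.card F ≠ 4 := by
        intro h4
        have e1 : U = F := Subgroup.eq_of_le_of_card_ge hUF (by rw [h4, hU4])
        have e2 : E ⊓ T = F := Subgroup.eq_of_le_of_card_ge hETF (by rw [h4, hcardET])
        have huE : u ∈ E := by
          have : u ∈ E ⊓ T := by rw [e2, ← e1]; exact huU
          exact this.1
        apply hET
        intro e he
        rw [hT, Subgroup.mem_centralizer_singleton_iff]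
        exact comm_of_sq hE he huE
      have h8F : 2 ^ 3 ≤ Nat.card F := by
        obtain ⟨k, hk⟩ := h4F
        have hle : Nat.card F ≤ 16 := Nat.le_of_dvd (by norm_num) hFdvd
        have hpos : 0 < Nat.card F := Nat.card_pos
        omega
      obtain ⟨E', hE'F, hE'c⟩ :=
        Sylow.exists_subgroup_le_card_pow_prime_of_le_card Nat.prime_two hS h8F
      exact ⟨E', (hE'F.trans hFT).trans hTle, by rw [hE'c]; norm_num,
        fun e he => hF2 e (hE'F he)⟩
  · -- `E' = ⟨t⟩ U`
    have ht1 : t ≠ 1 := fun h => htU (h ▸ U.one_mem)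
    have htcard : Nat.card (Subgroup.zpowers t) = 2 := card_zpowers_invol ht2 ht1
    obtain ⟨F, hF⟩ : ∃ F : Subgroup S, F = Subgroup.zpowers t ⊔ U := ⟨_, rfl⟩
    have hF2 : ∀ e ∈ F, e ^ 2 = 1 := by
      intro e he
      have he' : e ∈ (((Subgroup.zpowers t ⊔ U : Subgroup S)) : Set S) := by rw [← hF]; exact he
      rw [Subgroup.mul_normal] at he'
      obtain ⟨a, ha, b, hb, rfl⟩ := Set.mem_mul.1 he'
      rcases mem_zpowers_of_sq ht2 ha with h | h
      · rw [h, one_mul]; exact hU2 b hb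
      · rw [h]; exact sq_mul_of_comm ht2 (hU2 b hb) (hTcent t htT b hb)
    have hFdvd : Nat.card F ∣ 8 := by
      have := card_sup_dvd_of_normal (Subgroup.zpowers t) U
      rw [htcard, hU4, ← hF] at this
      exact this
    have hUF : U ≤ F := by rw [hF]; exact le_sup_right
    have htF : t ∈ F := by rw [hF]; exact (le_sup_left : Subgroup.zpowers t ≤ _) (Subgroup.mem_zpowers t)
    have h4F : 4 ∣ Nat.card F := by rw [← hU4]; exact Subgroup.card_dvd_of_le hUF
    have hFne : Nat.card F ≠ 4 := by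
      intro h4
      have e1 : U = F := Subgroup.eq_of_le_of_card_ge hUF (by rw [h4, hU4])
      exact htU (e1 ▸ htF)
    have hF8 : Nat.card F = 8 := by
      obtain ⟨k, hk⟩ := h4F
      have hle : Nat.card F ≤ 8 := Nat.le_of_dvd (by norm_num) hFdvd
      have hpos : 0 < Nat.card F := Nat.card_pos
      omega
    refine ⟨F, ?_, hF8, hF2⟩
    rw [hF]
    apply sup_le
    · rw [Subgroup.zpowers_le, Subgroup.mem_centralizer_singleton_iff]
    · intro v hv
      rw [Subgroup.mem_centralizer_singleton_iff]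
      exact (hTcent t htT v hv).symm

end twogroup

/-- the conclusion, as a predicate on the involution -/
def Good {G : Type*} [Group G] (y : G) : Prop :=
  ∃ E : Subgroup G, E ≤ Subgroup.centralizer ({y} : Set G) ∧ Nat.card E = 8 ∧ ∀ e ∈ E, e ^ 2 = 1

theorem good_conj {G : Type*} [Group G] {g y : G} (h : Good (g * y * g⁻¹)) : Good y := by
  obtain ⟨E, hEc, hE8, hE2⟩ := h
  refine ⟨E.map (MulAut.conj g⁻¹).toMonoidHom, ?_, ?_, ?_⟩
  · intro e he
    obtain ⟨e', he', rfl⟩ := Subgroup.mem_map.1 he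
    have h1 := hEc he'
    rw [Subgroup.mem_centralizer_singleton_iff] at h1 ⊢
    simp only [MulEquiv.coe_toMonoidHom, MulAut.conj_apply, inv_inv]
    have e1 : g⁻¹ * e' * g * y = g⁻¹ * (e' * (g * y * g⁻¹)) * g := by group
    have e2 : y * (g⁻¹ * e' * g) = g⁻¹ * ((g * y * g⁻¹) * e') * g := by group
    rw [e1, e2, h1]
  · rw [Subgroup.card_map_of_injective (MulAut.conj g⁻¹).injective, hE8]
  · intro e he
    obtain ⟨e', he', rfl⟩ := Subgroup.mem_map.1 he
    rw [← map_pow, hE2 e' he', map_one]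

theorem good_of_sub {G : Type*} [Group G] (P : Subgroup G) (t : P)
    (h : ∃ E' : Subgroup P, E' ≤ Subgroup.centralizer ({t} : Set P) ∧ Nat.card E' = 8 ∧
      ∀ e ∈ E', e ^ 2 = 1) : Good (t : G) := by
  obtain ⟨E', hEc, hE8, hE2⟩ := h
  refine ⟨E'.map P.subtype, ?_, ?_, ?_⟩
  · intro e he
    obtain ⟨e', he', rfl⟩ := Subgroup.mem_map.1 he
    have h1 := hEc he'
    rw [Subgroup.mem_centralizer_singleton_iff] at h1 ⊢
    exact congrArg Subtype.val h1
  · rw [Subgroup.card_map_of_injective P.subtype_injective, hE8]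
  · intro e he
    obtain ⟨e', he', rfl⟩ := Subgroup.mem_map.1 he
    rw [← map_pow, hE2 e' he', map_one]

/-- Let G be a finite group with no subgroup of index 2 whose 2-rank is at least 3 (it contains an elementary abelian subgroup of order 8). Then the centralizer of every involution of G also contains an elementary abelian subgroup of order 8. -/
theorem result {G : Type*} [Group G] [Finite G] (hno : ∀ H : Subgroup G, H.index ≠ 2) (hrank : ∃ E : Subgroup G, Nat.card E = 8 ∧ ∀ e ∈ E, e ^ 2 = 1) (x : G) (hx : orderOf x = 2) : ∃ E : Subgroup G, E ≤ Subgroup.centralizer ({x} : Set G) ∧ Nat.card E = 8 ∧ ∀ e ∈ E, e ^ 2 = 1 := by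
  obtain ⟨E, hE8, hE2⟩ := hrank
  have hEp : IsPGroup 2 E := IsPGroup.of_card (n := 3) (by rw [hE8]; norm_num)
  obtain ⟨P, hEP⟩ := hEp.exists_le_sylow
  have hxp : IsPGroup 2 (Subgroup.zpowers x) :=
    IsPGroup.of_card (n := 1) (by rw [Nat.card_zpowers, hx]; norm_num)
  obtain ⟨P', hxP'⟩ := hxp.exists_le_sylow
  obtain ⟨g, hg⟩ := MulAction.exists_smul_eq G P' P
  have hx'P : g * x * g⁻¹ ∈ (P : Subgroup G) := by
    rw [← hg, Sylow.coe_subgroup_smul, Subgroup.mem_pointwise_smul_iff_inv_smul_mem,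
      MulAut.smul_def, MulAut.conj_inv_apply]
    have : g⁻¹ * (g * x * g⁻¹) * g = x := by group
    rw [this]; exact hxP' (Subgroup.mem_zpowers x)
  suffices h : Good (g * x * g⁻¹) from good_conj h
  obtain ⟨x', hx'⟩ : ∃ x' : G, x' = g * x * g⁻¹ := ⟨_, rfl⟩
  rw [← hx'] at hx'P ⊢
  have hx'o : orderOf x' = 2 := by
    rw [hx']
    have : orderOf (g * x * g⁻¹) = orderOf x := (MulAut.conj g).orderOf_eq x
    rw [this, hx]
  have hx'2 : x' ^ 2 = 1 := by rw [← hx'o]; exact pow_orderOf_eq_one x'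
  -- the 2-group
  have hES8 : Nat.card (E.subgroupOf (P : Subgroup G)) = 8 := by
    rw [← hE8]; exact Nat.card_congr (Subgroup.subgroupOfEquivOfLe hEP).toEquiv
  have hES2 : ∀ e ∈ E.subgroupOf (P : Subgroup G), e ^ 2 = 1 := by
    intro e he
    apply Subtype.ext
    rw [Subgroup.coe_pow, Subgroup.coe_one]
    exact hE2 _ (Subgroup.mem_subgroupOf.1 he)
  obtain ⟨T, hT, hTgood⟩ := two_group_core (S := (P : Subgroup G)) P.2 _ hES8 hES2
  by_cases hxT : (⟨x', hx'P⟩ : (P : Subgroup G)) ∈ T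
  · have := good_of_sub (P : Subgroup G) ⟨x', hx'P⟩ (hTgood _ hxT (by
      apply Subtype.ext
      rw [Subgroup.coe_pow, Subgroup.coe_one]
      exact hx'2))
    exact this
  · have hTi : T.index = 2 := by
      rcases hT with h | h
      · exact absurd (h ▸ Subgroup.mem_top _) hxT
      · exact h
    obtain ⟨Q, hQ⟩ : ∃ Q : Subgroup G, Q = T.map (P : Subgroup G).subtype := ⟨_, rfl⟩
    have hQP : Q ≤ (P : Subgroup G) := by rw [hQ]; exact Subgroup.map_subtype_le T
    have hQi : Q.relIndex (P : Subgroup G) = 2 := by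
      have : Q.subgroupOf (P : Subgroup G) = T := by
        rw [hQ]
        exact Subgroup.comap_map_eq_self_of_injective (Subgroup.subtype_injective _) T
      unfold Subgroup.relIndex
      rw [this, hTi]
    have hxQ : x' ∉ Q := by
      intro h
      rw [hQ] at h
      obtain ⟨t, ht, htx⟩ := Subgroup.mem_map.1 h
      apply hxT
      have : t = ⟨x', hx'P⟩ := Subtype.ext htx
      rw [← this]; exact ht
    rcases Cfsg.Agent.S0111.result P Q hQP hQi x' hx'o hx'P hxQ with ⟨M, -, hMi, -⟩ | ⟨h, hh⟩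
    · exact absurd hMi (hno M)
    · rw [hQ] at hh
      obtain ⟨t, ht, htx⟩ := Subgroup.mem_map.1 hh
      have ht2 : t ^ 2 = 1 := by
        apply Subtype.ext
        rw [Subgroup.coe_pow, Subgroup.coe_one]
        have : ((t : (P : Subgroup G)) : G) = h * x' * h⁻¹ := htx
        rw [this, conj_pow, hx'2, mul_one, mul_inv_cancel]
      have hgood := good_of_sub (P : Subgroup G) t (hTgood t ht ht2)
      have : ((t : (P : Subgroup G)) : G) = h * x' * h⁻¹ := htx
      rw [this] at hgood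
      exact good_conj hgood

end Cfsg.Agent.S0221
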