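import Cfsg.Statements.S0223
import Cfsg.Agent.Lib.Helper24.StrEmb

set_option autoImplicit false
open Cfsg

namespace Cfsg.Agent.S0223

/-- Let H be a proper subgroup of even order of the finite group G. Then H is strongly embedded if and only if (i) C_G(t) ≤ H for every involution t of H and (ii) H controls fusion of its involutions: involutions of H conjugate in G are conjugate in H. -/
theorem result {G : Type*} [Group G] [Finite G] (H : Subgroup G) (hH : H ≠ ⊤) (heven : Even (Nat.card H)) : Cfsg.IsStronglyEmbedded H ↔ ((∀ t ∈ H, orderOf t = 2 → Subgroup.centralizer ({t} : Set G) ≤ H) ∧ (∀ t ∈ H, ∀ s ∈ H, orderOf t = 2 → orderOf s = 2 → IsConj t s → ∃ h ∈ H, h * t * h⁻¹ = s)) := by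
  constructor
  · rintro ⟨_, _, h3⟩
    -- key: if s ∈ H is an involution and s = c t c⁻¹ with t ∈ H then c ∈ H
    have key : ∀ c t : G, t ∈ H → orderOf (c * t * c⁻¹) = 2 → c * t * c⁻¹ ∈ H → c ∈ H := by
      intro c t ht ho hs
      by_contra hc
      have hodd := h3 c hc
      refine Lib.Helper24.not_odd_card_of_involution_mem _ (t := c * t * c⁻¹) ?_ ho hodd
      exact ⟨hs, (Lib.Helper24.mem_conj_map_iff H c _).mpr ⟨t, ht, rfl⟩⟩
    constructor
    · intro t ht ho c hc
      rw [Subgroup.mem_centralizer_iff] at hc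
      have hct : c * t * c⁻¹ = t := by
        rw [← hc t rfl, mul_inv_cancel_right]
      exact key c t ht (by rw [hct]; exact ho) (by rw [hct]; exact ht)
    · intro t ht s hs hot hos hconj
      obtain ⟨c, hc⟩ := isConj_iff.mp hconj
      exact ⟨c, key c t ht (by rw [hc]; exact hos) (by rw [hc]; exact hs), hc⟩
  · rintro ⟨hi, hii⟩
    refine ⟨hH, heven, ?_⟩
    intro g hg
    by_contra hodd
    rw [Nat.not_odd_iff_even] at hodd
    obtain ⟨s, hs, hos⟩ := Lib.Helper24.exists_involution_of_even_card _ hodd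
    obtain ⟨hsH, hsg⟩ := hs
    obtain ⟨t, htH, hts⟩ := (Lib.Helper24.mem_conj_map_iff H g s).mp hsg
    have hot : orderOf t = 2 := by
      rw [← Lib.Helper24.orderOf_conj' g t, hts]; exact hos
    obtain ⟨h, hhH, hh⟩ := hii t htH s hsH hot hos (isConj_iff.mpr ⟨g, hts⟩)
    -- h⁻¹ g centralizes t
    have hcen : h⁻¹ * g ∈ Subgroup.centralizer ({t} : Set G) := by
      rw [Subgroup.mem_centralizer_iff]
      intro y hy
      rw [Set.mem_singleton_iff] at hy
      subst hy
      have h1 : g * y = s * g := by rw [← hts]; group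
      have h2 : h * y = s * h := by rw [← hh]; group
      have h3 : y * h⁻¹ = h⁻¹ * s := by
        have : h⁻¹ * (h * y) * h⁻¹ = h⁻¹ * (s * h) * h⁻¹ := by rw [h2]
        simpa [mul_assoc] using this
      calc y * (h⁻¹ * g) = (y * h⁻¹) * g := by rw [mul_assoc]
        _ = h⁻¹ * s * g := by rw [h3]
        _ = h⁻¹ * (s * g) := by rw [mul_assoc]
        _ = h⁻¹ * (g * y) := by rw [h1]
        _ = h⁻¹ * g * y := by rw [mul_assoc]
    have := hi t htH hot hcen
    have hg' : g = h * (h⁻¹ * g) := by group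
    rw [hg'] at hg
    exact hg (H.mul_mem hhH this)

end Cfsg.Agent.S0223
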