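import Cfsg.Statements.S0224
import Cfsg.Agent.Lib.Helper24.StrEmb

set_option autoImplicit false
open Cfsg

namespace Cfsg.Agent.S0224

/-- Let H be a proper subgroup of even order of the finite group G. Then H is strongly embedded if and only if each involution of H fixes exactly one point (namely the coset H) in the action of G on the cosets of H. -/
theorem result {G : Type*} [Group G] [Finite G] (H : Subgroup G) (hH : H ≠ ⊤) (heven : Even (Nat.card H)) : Cfsg.IsStronglyEmbedded H ↔ ∀ t ∈ H, orderOf t = 2 → Nat.card {c : G ⧸ H // t • c = c} = 1 := by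
  -- t fixes the coset gH iff g⁻¹ t g ∈ H
  have fix_iff : ∀ t g : G, t • (g : G ⧸ H) = (g : G ⧸ H) ↔ g⁻¹ * t⁻¹ * g ∈ H := by
    intro t g
    rw [MulAction.Quotient.smul_mk, QuotientGroup.eq, smul_eq_mul, mul_inv_rev]
  constructor
  · rintro ⟨_, _, h3⟩ t ht ho
    rw [Nat.card_eq_one_iff_unique]
    have hfix1 : t • ((1 : G) : G ⧸ H) = ((1 : G) : G ⧸ H) := by
      rw [fix_iff]; simpa using ht
    refine ⟨⟨?_⟩, ⟨⟨_, hfix1⟩⟩⟩
    have huniq : ∀ c : G ⧸ H, t • c = c → c = ((1 : G) : G ⧸ H) := by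
      intro c hc
      induction c using QuotientGroup.induction_on with
      | H g =>
        rw [fix_iff] at hc
        by_contra hne
        have hg : g ∉ H := by
          intro hg
          apply hne
          rw [QuotientGroup.eq]
          simpa using H.inv_mem hg
        have hodd := h3 g hg
        refine Lib.Helper24.not_odd_card_of_involution_mem _ (t := t) ?_ ho hodd
        refine ⟨ht, (Lib.Helper24.mem_conj_map_iff H g t).mpr ⟨(g⁻¹ * t⁻¹ * g)⁻¹, H.inv_mem hc, ?_⟩⟩
        group
    rintro ⟨c, hc⟩ ⟨d, hd⟩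
    rw [Subtype.mk.injEq, huniq c hc, huniq d hd]
  · intro hall
    refine ⟨hH, heven, ?_⟩
    intro g hg
    by_contra hodd
    rw [Nat.not_odd_iff_even] at hodd
    obtain ⟨s, hs, hos⟩ := Lib.Helper24.exists_involution_of_even_card _ hodd
    obtain ⟨hsH, hsg⟩ := hs
    obtain ⟨h, hhH, hhs⟩ := (Lib.Helper24.mem_conj_map_iff H g s).mp hsg
    have hcard := hall s hsH hos
    rw [Nat.card_eq_one_iff_unique] at hcard
    obtain ⟨hsub, _⟩ := hcard
    have hfix1 : s • ((1 : G) : G ⧸ H) = ((1 : G) : G ⧸ H) := by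
      rw [fix_iff]; simpa using hsH
    have hfixg : s • ((g : G) : G ⧸ H) = ((g : G) : G ⧸ H) := by
      rw [fix_iff]
      have : g⁻¹ * s⁻¹ * g = h⁻¹ := by rw [← hhs]; group
      rw [this]; exact H.inv_mem hhH
    have := hsub.elim ⟨_, hfix1⟩ ⟨_, hfixg⟩
    rw [Subtype.mk.injEq, QuotientGroup.eq] at this
    apply hg
    simpa using this

end Cfsg.Agent.S0224
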