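import Cfsg.Statements.S0226
import Mathlib

set_option autoImplicit false
open Cfsg

namespace Cfsg.Agent.S0226

/-- A finite group of even order has an odd number of involutions. -/
theorem result {G : Type*} [Group G] [Finite G] (heven : Even (Nat.card G)) : Odd (Nat.card {t : G // orderOf t = 2}) := by
  classical
  have : Fintype G := Fintype.ofFinite G
  have : Fact (Nat.Prime 2) := ⟨Nat.prime_two⟩
  obtain ⟨f, hfdef⟩ : ∃ f : Function.End G, ∀ g, f g = g⁻¹ := ⟨fun g => g⁻¹, fun _ => rfl⟩
  have hf : f ^ 2 ^ 1 = 1 := by
    funext g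
    simp only [pow_one, pow_two, Function.End.mul_def]
    show f (f g) = g
    rw [hfdef, hfdef, inv_inv]
  have h := Equiv.Perm.card_fixedPoints_modEq (p := 2) (n := 1) hf
  -- fixed points ≃ Option involutions
  rw [Fintype.card_eq_nat_card, Fintype.card_eq_nat_card] at h
  have hequiv : Nat.card (Function.fixedPoints f) =
      Nat.card {t : G // orderOf t = 2} + 1 := by
    rw [← Finite.card_option]
    apply Nat.card_congr
    refine
      { toFun := fun x => if h : orderOf x.1 = 2 then some ⟨x.1, h⟩ else none
        invFun := fun o => match o with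
          | some t => ⟨t.1, ?_⟩
          | none => ⟨1, ?_⟩
        left_inv := ?_
        right_inv := ?_ }
    · show f t.1 = t.1
      rw [hfdef]
      have h2 : t.1 ^ 2 = 1 := by
        have := pow_orderOf_eq_one t.1
        rwa [t.2] at this
      rw [inv_eq_iff_mul_eq_one, ← pow_two, h2]
    · show f 1 = 1
      rw [hfdef]
      simp
    · rintro ⟨x, hx⟩
      have hx' : x⁻¹ = x := by rw [← hfdef]; exact hx
      by_cases h2 : orderOf x = 2
      · simp [h2]
      · simp only [h2, dite_false]
        apply Subtype.ext
        show (1 : G) = x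
        have hx2 : x ^ 2 = 1 := by rw [pow_two]; nth_rewrite 1 [← hx']; simp
        by_contra hne
        apply h2
        exact orderOf_eq_prime hx2 (Ne.symm hne)
    · rintro (_ | t)
      · simp
      · simp [t.2]
  rw [hequiv] at h
  have h0 : Nat.card G % 2 = 0 := Nat.even_iff.mp heven
  have h1 : (Nat.card {t : G // orderOf t = 2} + 1) % 2 = 0 := by
    rw [← h0]; exact h.symm
  rw [Nat.odd_iff]
  omega

end Cfsg.Agent.S0226
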