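import Cfsg.Statements.S0228
import Cfsg.Agent.Lib.Helper28.BrauerFowler

set_option autoImplicit false
open Cfsg

namespace Cfsg.Agent.S0228

open Cfsg.Agent.Lib.Helper28

variable {G : Type*} [Group G] [Finite G]

theorem fact12_3 : (12 : ℕ).factorization 3 = 1 := by
  have : (12 : ℕ) = 3 ^ 1 * 4 := by norm_num
  rw [this, Nat.factorization_mul (by norm_num) (by norm_num),
    Nat.Prime.factorization_pow Nat.prime_three]
  simp
  exact Nat.factorization_eq_zero_of_not_dvd (by norm_num)

theorem fact12_2 : (12 : ℕ).factorization 2 = 2 := by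
  have : (12 : ℕ) = 2 ^ 2 * 3 := by norm_num
  rw [this, Nat.factorization_mul (by norm_num) (by norm_num),
    Nat.Prime.factorization_pow Nat.prime_two]
  simp
  exact Nat.factorization_eq_zero_of_not_dvd (by norm_num)

theorem card_sylow3 (hG : Nat.card G = 12) (P : Sylow 3 G) : Nat.card P = 3 := by
  have h1 := P.card_eq_multiplicity
  rw [hG, fact12_3] at h1
  rw [h1]; rfl

theorem card_sylow2 (hG : Nat.card G = 12) (Q : Sylow 2 G) : Nat.card Q = 4 := by
  have h1 := Q.card_eq_multiplicity
  rw [hG, fact12_2] at h1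
  rw [h1]; rfl

/-- an injective action on a 4-element set forces `A₄`. -/
theorem of_injective {X : Type*} [Finite X] (hX : Nat.card X = 4) (hG : Nat.card G = 12)
    (φ : G →* Equiv.Perm X) (hφ : Function.Injective φ) :
    Nonempty (G ≃* alternatingGroup (Fin 4)) := by
  have e : X ≃ Fin 4 := Finite.equivFinOfCardEq hX
  let ψ : G →* Equiv.Perm (Fin 4) := (e.permCongrHom.toMonoidHom).comp φ
  have hψ : Function.Injective ψ := e.permCongrHom.injective.comp hφ
  have e2 : G ≃* ψ.range := MonoidHom.ofInjective hψ
  have hcr : Nat.card ψ.range = 12 := by rw [← hG]; exact (Nat.card_congr e2.toEquiv).symm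
  have hidx : ψ.range.index = 2 := by
    have h1 := ψ.range.card_mul_index
    rw [Nat.card_perm, Nat.card_fin, hcr] at h1
    have : Nat.factorial 4 = 24 := by decide
    rw [this] at h1
    omega
  have := Equiv.Perm.eq_alternatingGroup_of_index_eq_two hidx
  rw [this] at e2
  exact ⟨e2⟩

/-- if there are four Sylow 3-subgroups the conjugation action on them is faithful. -/
theorem case_four (hG : Nat.card G = 12) (h4 : Nat.card (Sylow 3 G) = 4) :
    Nonempty (G ≃* alternatingGroup (Fin 4)) := by
  apply of_injective h4 hG (MulAction.toPermHom G (Sylow 3 G))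
  rw [← MonoidHom.ker_eq_bot_iff, eq_bot_iff]
  intro g hg
  rw [MonoidHom.mem_ker] at hg
  rw [Subgroup.mem_bot]
  -- g normalizes each Sylow 3-subgroup, hence lies in each
  have hgP : ∀ P : Sylow 3 G, g ∈ (P : Subgroup G) := by
    intro P
    have h1 : g • P = P := by
      have := congrArg (fun σ : Equiv.Perm (Sylow 3 G) => σ P) hg
      simpa using this
    have h2 : g ∈ Subgroup.normalizer ((P : Subgroup G) : Set G) := Sylow.smul_eq_iff_mem_normalizer.mp h1
    have h3 : Nat.card (Sylow 3 G) = (Subgroup.normalizer ((P : Subgroup G) : Set G)).index :=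
      Sylow.card_eq_index_normalizer P
    have h4' : Nat.card (Subgroup.normalizer ((P : Subgroup G) : Set G)) = 3 := by
      have := (Subgroup.normalizer ((P : Subgroup G) : Set G)).card_mul_index
      rw [← h3, h4, hG] at this
      omega
    have h5 : (P : Subgroup G) = Subgroup.normalizer ((P : Subgroup G) : Set G) := by
      apply Subgroup.eq_of_le_of_card_ge Subgroup.le_normalizer
      rw [h4', card_sylow3 hG P]
    rw [h5]; exact h2
  -- two distinct Sylow 3-subgroups
  have hnt : Nontrivial (Sylow 3 G) := by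
    rw [← Finite.one_lt_card_iff_nontrivial, h4]; norm_num
  obtain ⟨P, P', hPP'⟩ := hnt
  by_contra hg1
  apply hPP'
  have key : ∀ P : Sylow 3 G, (P : Subgroup G) = Subgroup.zpowers g := by
    intro P
    symm
    apply Subgroup.eq_of_le_of_card_ge
    · rw [Subgroup.zpowers_le]; exact hgP P
    · rw [card_sylow3 hG P, Nat.card_zpowers]
      have h1 : orderOf (⟨g, hgP P⟩ : (P : Subgroup G)) ∣ 3 := by
        have := orderOf_dvd_natCard (⟨g, hgP P⟩ : (P : Subgroup G))
        rwa [card_sylow3 hG P] at this
      have h2 : orderOf (⟨g, hgP P⟩ : (P : Subgroup G)) = orderOf g := by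
        rw [← Subgroup.orderOf_coe]
      rw [h2] at h1
      rcases (Nat.dvd_prime Nat.prime_three).mp h1 with h | h
      · exact absurd (orderOf_eq_one_iff.mp h) hg1
      · rw [h]
  apply Sylow.ext
  rw [key P, key P']

/-- a normal Sylow 3-subgroup gives a central involution. -/
theorem case_one (hG : Nat.card G = 12) (h1 : Nat.card (Sylow 3 G) = 1) :
    ∃ z : G, orderOf z = 2 ∧ z ∈ Subgroup.center G := by
  classical
  have hss : Subsingleton (Sylow 3 G) := by
    rw [← Finite.card_le_one_iff_subsingleton, h1]
  have : Fact (Nat.Prime 3) := ⟨Nat.prime_three⟩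
  have : Fact (Nat.Prime 2) := ⟨Nat.prime_two⟩
  obtain ⟨x, hx⟩ := exists_prime_orderOf_dvd_card' (G := G) 3 (by rw [hG]; norm_num)
  -- Sylow 3 containing x
  obtain ⟨P, hP⟩ := (IsPGroup.of_card (p := 3) (n := 1)
    (by rw [Nat.card_zpowers, hx]; rfl) : IsPGroup 3 (Subgroup.zpowers x)).exists_le_sylow
  have hPn : (P : Subgroup G).Normal := Sylow.normal_of_subsingleton P
  have hPeq : Subgroup.zpowers x = (P : Subgroup G) := by
    apply Subgroup.eq_of_le_of_card_ge hP
    rw [card_sylow3 hG P, Nat.card_zpowers, hx]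
  have hx1 : x ≠ 1 := by
    intro h; rw [h, orderOf_one] at hx; omega
  have hx3 : x ^ 3 = 1 := by rw [← hx]; exact pow_orderOf_eq_one x
  have hx2 : x ^ 2 = x⁻¹ := by
    apply eq_inv_of_mul_eq_one_left
    rw [← pow_succ]; exact hx3
  have hext : extCentralizer x = ⊤ := by
    rw [eq_top_iff]
    intro g _
    rw [mem_extCentralizer]
    have hmem : g * x * g⁻¹ ∈ Subgroup.zpowers x := by
      rw [hPeq]
      exact hPn.conj_mem x (by rw [← hPeq]; exact Subgroup.mem_zpowers x) g
    obtain ⟨k, hk⟩ := Subgroup.mem_zpowers_iff.mp hmem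
    rw [← zpow_mod_orderOf, hx] at hk
    push_cast at hk
    have hk0 : 0 ≤ k % 3 := Int.emod_nonneg _ (by norm_num)
    have hk3 : k % 3 < 3 := Int.emod_lt_of_pos _ (by norm_num)
    have hcases : k % 3 = 0 ∨ k % 3 = 1 ∨ k % 3 = 2 := by omega
    rcases hcases with h | h | h
    · rw [h, zpow_zero] at hk
      exfalso; apply hx1
      have : g * x * g⁻¹ = 1 := hk.symm
      have h2 : x = g⁻¹ * (g * x * g⁻¹) * g := by group
      rw [h2, this]; group
    · left; rw [h, zpow_one] at hk; exact hk.symm
    · right; rw [h] at hk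
      rw [← hk, ← hx2]; norm_cast
  -- the centralizer of x has even order
  have hCeven : 2 ∣ Nat.card (Subgroup.centralizer ({x} : Set G)) := by
    by_cases hreal : IsConj x x⁻¹
    · have hne : x ≠ x⁻¹ := by
        intro h
        have : x ^ 2 = 1 := by rw [pow_two]; nth_rewrite 2 [h]; exact mul_inv_cancel x
        have h3 : orderOf x ∣ 2 := orderOf_dvd_of_pow_eq_one this
        rw [hx] at h3; omega
      have := card_extCentralizer hreal hne
      rw [hext, Subgroup.card_top, hG] at this
      omega
    · have htop : Subgroup.centralizer ({x} : Set G) = ⊤ := by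
        rw [eq_top_iff]
        intro g _
        rw [Subgroup.mem_centralizer_singleton_iff]
        have hg : g ∈ extCentralizer x := by rw [hext]; trivial
        rcases mem_extCentralizer.mp hg with h | h
        · calc g * x = (g * x * g⁻¹) * g := by group
            _ = x * g := by rw [h]
        · exfalso; apply hreal
          rw [isConj_iff]; exact ⟨g, h⟩
      rw [htop, Subgroup.card_top, hG]; norm_num
  obtain ⟨z, hz⟩ := exists_prime_orderOf_dvd_card' (G := Subgroup.centralizer ({x} : Set G)) 2 hCeven
  have hz2 : orderOf (z : G) = 2 := by rw [Subgroup.orderOf_coe]; exact hz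
  refine ⟨z, hz2, ?_⟩
  have hzx : (z : G) * x = x * z := by
    have := Subgroup.mem_centralizer_singleton_iff.mp z.2
    exact this
  -- Sylow 2 containing z
  obtain ⟨Q, hQ⟩ := (IsPGroup.of_card (p := 2) (n := 1)
    (by rw [Nat.card_zpowers, hz2]; rfl) : IsPGroup 2 (Subgroup.zpowers (z : G))).exists_le_sylow
  have hQ4 : Nat.card Q = 4 := card_sylow2 hG Q
  have hQcomm : ∀ a b : (Q : Subgroup G), a * b = b * a := by
    have := IsPGroup.isMulCommutative_of_card_eq_prime_sq (p := 2) (G := (Q : Subgroup G)) hQ4
    exact fun a b => mul_comm' a b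
  have hzQ : (z : G) ∈ (Q : Subgroup G) := hQ (Subgroup.mem_zpowers _)
  -- centralizer of z is everything
  have hCz : Subgroup.centralizer ({(z : G)} : Set G) = ⊤ := by
    apply (Subgroup.card_eq_iff_eq_top _).mp
    have hQle : (Q : Subgroup G) ≤ Subgroup.centralizer ({(z : G)} : Set G) := by
      intro q hq
      rw [Subgroup.mem_centralizer_singleton_iff]
      have := hQcomm ⟨q, hq⟩ ⟨z, hzQ⟩
      exact congrArg Subtype.val this
    have hxle : Subgroup.zpowers x ≤ Subgroup.centralizer ({(z : G)} : Set G) := by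
      rw [Subgroup.zpowers_le, Subgroup.mem_centralizer_singleton_iff]
      exact hzx.symm
    have d4 : 4 ∣ Nat.card (Subgroup.centralizer ({(z : G)} : Set G)) := by
      rw [← hQ4]; exact Subgroup.card_dvd_of_le hQle
    have d3 : 3 ∣ Nat.card (Subgroup.centralizer ({(z : G)} : Set G)) := by
      have := Subgroup.card_dvd_of_le hxle
      rwa [Nat.card_zpowers, hx] at this
    have d12 : Nat.card (Subgroup.centralizer ({(z : G)} : Set G)) ∣ 12 := by
      rw [← hG]; exact Subgroup.card_subgroup_dvd_card _
    have hpos : 0 < Nat.card (Subgroup.centralizer ({(z : G)} : Set G)) := Nat.card_pos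
    have hle := Nat.le_of_dvd (by norm_num) d12
    rw [hG]
    omega
  rw [Subgroup.mem_center_iff]
  intro g
  have : g ∈ Subgroup.centralizer ({(z : G)} : Set G) := by rw [hCz]; trivial
  exact Subgroup.mem_centralizer_singleton_iff.mp this

/-- A group of order 12 in which no involution is central is isomorphic to the alternating group on four letters. -/
theorem result {G : Type*} [Group G] [Finite G] (hG : Nat.card G = 12) (hz : ∀ z : G, orderOf z = 2 → z ∉ Subgroup.center G) : Nonempty (G ≃* alternatingGroup (Fin 4)) := by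
  have : Fact (Nat.Prime 3) := ⟨Nat.prime_three⟩
  obtain ⟨P⟩ : Nonempty (Sylow 3 G) := inferInstance
  have hmod := card_sylow_modEq_one 3 G
  have hdvd := Sylow.card_dvd_index P
  have hidx : (P : Subgroup G).index = 4 := by
    have := (P : Subgroup G).card_mul_index
    rw [card_sylow3 hG P, hG] at this
    omega
  rw [hidx] at hdvd
  have hle := Nat.le_of_dvd (by norm_num) hdvd
  have hcases : Nat.card (Sylow 3 G) = 1 ∨ Nat.card (Sylow 3 G) = 4 := by
    unfold Nat.ModEq at hmod
    have hpos : 0 < Nat.card (Sylow 3 G) := Nat.card_pos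
    interval_cases h : Nat.card (Sylow 3 G) <;> simp_all
  rcases hcases with h | h
  · obtain ⟨z, hz2, hzc⟩ := case_one hG h
    exact absurd hzc (hz z hz2)
  · exact case_four hG h

end Cfsg.Agent.S0228
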