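import Cfsg.Statements.S0229
import Cfsg.Agent.Lib.Helper28.Invol2

set_option autoImplicit false
open Cfsg
open Cfsg.Agent.Lib.Helper28
open scoped Pointwise

namespace Cfsg.Agent.S0229

theorem isPGroup_zpowers_of_orderOf_two {G : Type*} [Group G] {x : G} (hx : orderOf x = 2) :
    IsPGroup 2 (Subgroup.zpowers x) := by
  have : Fact (Nat.Prime 2) := ⟨Nat.prime_two⟩
  apply IsPGroup.of_card (n := 1)
  rw [Nat.card_zpowers, hx, pow_one]

/-- two commuting involutions lie in a common Sylow 2-subgroup -/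
theorem exists_sylow_of_commuting {G : Type*} [Group G] [Finite G] {x y : G} (hx : orderOf x = 2)
    (hy : orderOf y = 2) (hxy : x * y = y * x) : ∃ Q : Sylow 2 G, x ∈ Q ∧ y ∈ Q := by
  have : Fact (Nat.Prime 2) := ⟨Nat.prime_two⟩
  have hK : IsPGroup 2 (Subgroup.zpowers x ⊔ Subgroup.zpowers y : Subgroup G) := by
    apply IsPGroup.to_sup_of_normal_right' (isPGroup_zpowers_of_orderOf_two hx)
      (isPGroup_zpowers_of_orderOf_two hy)
    rw [Subgroup.zpowers_le]
    rw [Subgroup.mem_normalizer_iff]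
    intro h
    have : ∀ w ∈ Subgroup.zpowers y, x * w * x⁻¹ = w := by
      intro w hw
      obtain ⟨k, rfl⟩ := Subgroup.mem_zpowers_iff.mp hw
      have hc : Commute x (y ^ k) := (Commute.zpow_right hxy k)
      rw [hc.eq, mul_inv_cancel_right]
    constructor
    · intro hh
      rw [this h hh]; exact hh
    · intro hh
      have h1 : x⁻¹ * (x * h * x⁻¹) * x ∈ Subgroup.zpowers y := by
        have h2 := this _ hh
        -- x * (x*h*x⁻¹) * x⁻¹ = x*h*x⁻¹, so x*h*x⁻¹ commutes with x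
        have h3 : x⁻¹ * (x * h * x⁻¹) * x = x * h * x⁻¹ := by
          calc x⁻¹ * (x * h * x⁻¹) * x = x⁻¹ * (x * (x * h * x⁻¹) * x⁻¹) * x := by rw [h2]
            _ = x * h * x⁻¹ := by group
        rw [h3]; exact hh
      have h4 : x⁻¹ * (x * h * x⁻¹) * x = h := by group
      rwa [h4] at h1
  obtain ⟨Q, hQ⟩ := hK.exists_le_sylow
  exact ⟨Q, hQ (Subgroup.mem_sup_left (Subgroup.mem_zpowers x)),
    hQ (Subgroup.mem_sup_right (Subgroup.mem_zpowers y))⟩

/-- Let t be an involution of a Sylow 2-subgroup S of a finite group G, conjugate in G to no other element of S, and let s be an involution of G not conjugate to t. Then the order of st is twice an odd number. -/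
theorem result {G : Type*} [Group G] [Finite G] (S : Sylow 2 G) (t : G) (ht : orderOf t = 2) (htS : t ∈ S) (hiso : ∀ g : G, g * t * g⁻¹ ∈ S → g * t * g⁻¹ = t) (s : G) (hs : orderOf s = 2) (hns : ¬ IsConj s t) : orderOf (s * t) % 4 = 2 := by
  have : Fact (Nat.Prime 2) := ⟨Nat.prime_two⟩
  have hs2 := (orderOf_two_iff'.mp hs).2
  have ht2 := (orderOf_two_iff'.mp ht).2
  have hti := inv_eq_self_of_mul_self ht2
  have hpos : 0 < orderOf (s * t) := orderOf_pos _
  have heven : Even (orderOf (s * t)) := by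
    by_contra hodd
    rw [Nat.not_even_iff_odd] at hodd
    obtain ⟨g, hg⟩ := conj_of_odd_orderOf_mul hs2 ht2 hodd
    exact hns (isConj_iff.mpr ⟨g, hg⟩)
  obtain ⟨m, hm⟩ := heven
  -- suppose m even
  by_contra hmod
  have hmeven : Even m := by
    rcases Nat.even_or_odd m with h | h
    · exact h
    · exfalso
      obtain ⟨j, hj⟩ := h
      apply hmod
      omega
  obtain ⟨k, hk⟩ := hmeven
  have hm0 : 0 < m := by omega
  set r := s * t with hr
  have hz2 : r ^ m * r ^ m = 1 := by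
    rw [← pow_add, ← hm]; exact pow_orderOf_eq_one _
  have hz1 : r ^ m ≠ 1 := pow_ne_one_of_lt_orderOf hm0.ne' (by omega)
  have hzi : (r ^ m)⁻¹ = r ^ m := inv_eq_self_of_mul_self hz2
  -- t commutes with z = r^m
  have htz : t * r ^ m = r ^ m * t := by
    have h1 := inverts_pow (inverts_mul_right hs2 ht2) m
    rw [hzi] at h1
    calc t * r ^ m = (t * r ^ m * t⁻¹) * t := by group
      _ = r ^ m * t := by rw [h1]
  -- r^k t r^-k = r^m t
  have hconj : r ^ k * t * (r ^ k)⁻¹ = r ^ m * t := by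
    have h1 := inverts_pow (inverts_mul_right hs2 ht2) k
    have h2 : t * (r ^ k)⁻¹ = r ^ k * t := by
      have : t * (r ^ k)⁻¹ * t⁻¹ = r ^ k := by
        calc t * (r ^ k)⁻¹ * t⁻¹ = (t * r ^ k * t⁻¹)⁻¹ := by group
          _ = r ^ k := by rw [h1, inv_inv]
      calc t * (r ^ k)⁻¹ = (t * (r ^ k)⁻¹ * t⁻¹) * t := by group
        _ = r ^ k * t := by rw [this]
    calc r ^ k * t * (r ^ k)⁻¹ = r ^ k * (t * (r ^ k)⁻¹) := by group
      _ = r ^ k * (r ^ k * t) := by rw [h2]
      _ = r ^ (k + k) * t := by rw [pow_add]; group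
      _ = r ^ m * t := by rw [← hk]
  -- z t is an involution commuting with t
  have hzt2 : (r ^ m * t) * (r ^ m * t) = 1 := by
    calc (r ^ m * t) * (r ^ m * t) = r ^ m * (t * r ^ m) * t := by group
      _ = r ^ m * (r ^ m * t) * t := by rw [htz]
      _ = (r ^ m * r ^ m) * (t * t) := by group
      _ = 1 := by rw [hz2, ht2, one_mul]
  have hzt1 : r ^ m * t ≠ 1 := by
    rw [← hconj]
    intro h
    have : t = 1 := by
      calc t = (r ^ k)⁻¹ * (r ^ k * t * (r ^ k)⁻¹) * r ^ k := by group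
        _ = 1 := by rw [h]; group
    exact (orderOf_two_iff'.mp ht).1 this
  have hzto : orderOf (r ^ m * t) = 2 := orderOf_two_iff'.mpr ⟨hzt1, hzt2⟩
  have hcomm : t * (r ^ m * t) = (r ^ m * t) * t := by
    rw [← mul_assoc, htz]
  obtain ⟨Q, htQ, hztQ⟩ := exists_sylow_of_commuting ht hzto hcomm
  obtain ⟨g, hg⟩ := MulAction.exists_smul_eq G Q S
  -- g • Q = S: g x g⁻¹ ∈ S for x ∈ Q
  have hmem : ∀ x ∈ Q, g * x * g⁻¹ ∈ S := by
    intro x hx
    have : MulAut.conj g • x ∈ MulAut.conj g • (Q : Subgroup G) := Subgroup.smul_mem_pointwise_smul _ _ _ hx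
    rw [← Sylow.coe_subgroup_smul, hg] at this
    have h' : g * x * g⁻¹ ∈ (S : Subgroup G) := by simpa [MulAut.smul_def] using this
    exact h'
  have e1 := hiso g (hmem t htQ)
  have e2 : g * (r ^ m * t) * g⁻¹ = t := by
    have h1 := hmem _ hztQ
    rw [← hconj] at h1
    have h2 : g * (r ^ k * t * (r ^ k)⁻¹) * g⁻¹ = (g * r ^ k) * t * (g * r ^ k)⁻¹ := by group
    rw [h2] at h1
    have h3 := hiso _ h1
    rw [← hconj, h2, h3]
  have e3 : r ^ m * t = t := by
    have : g * (r ^ m * t) * g⁻¹ = g * t * g⁻¹ := by rw [e1, e2]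
    exact mul_left_cancel (mul_right_cancel this)
  apply hz1
  exact mul_right_cancel (e3.trans (one_mul t).symm)

end Cfsg.Agent.S0229
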