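import Cfsg.Statements.S0230
import Cfsg.Agent.Lib.Helper28.Invol2

set_option autoImplicit false
open Cfsg
open Cfsg.Agent.Lib.Helper28

namespace Cfsg.Agent.S0230

theorem card_centralizer_eq_filter {G : Type*} [Group G] [Fintype G] [DecidableEq G] (z : G) :
    Nat.card (Subgroup.centralizer ({z} : Set G)) = (Finset.univ.filter (fun y : G => y * z = z * y)).card := by
  rw [← Fintype.card_subtype, ← Nat.card_eq_fintype_card]
  apply Nat.card_congr
  exact Equiv.subtypeEquivRight (fun y => Subgroup.mem_centralizer_singleton_iff)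

/-- Let G be a finite group with two non-conjugate involutions, and let t be an involution whose centralizer has maximal order among centralizers of involutions. Then |G| < |C_G(t)|^3. -/
theorem result {G : Type*} [Group G] [Finite G] (s t : G) (hs : orderOf s = 2) (ht : orderOf t = 2) (hnc : ¬ IsConj s t) (hmax : ∀ u : G, orderOf u = 2 → Nat.card (Subgroup.centralizer ({u} : Set G)) ≤ Nat.card (Subgroup.centralizer ({t} : Set G))) : Nat.card G < Nat.card (Subgroup.centralizer ({t} : Set G)) ^ 3 := by
  classical
  have : Fintype G := Fintype.ofFinite G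
  have hs2 := (orderOf_two_iff'.mp hs).2
  set c := Nat.card (Subgroup.centralizer ({t} : Set G)) with hc
  let T : Finset G := Finset.univ.filter (fun y => IsConj t y)
  let Z : Finset G := Finset.univ.filter (fun z => orderOf z = 2 ∧ z * s = s * z)
  let C : G → Finset G := fun z => Finset.univ.filter (fun y => y ≠ 1 ∧ y * z = z * y)
  have hsub : T ⊆ Z.biUnion C := by
    intro y hy
    have hy' : IsConj t y := (Finset.mem_filter.mp hy).2
    obtain ⟨g, hg⟩ := isConj_iff.mp hy'
    have hyo : orderOf y = 2 := by
      rw [← hg]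
      rw [show g * t * g⁻¹ = MulAut.conj g t from rfl, MulEquiv.orderOf_eq]
      exact ht
    have hy2 := (orderOf_two_iff'.mp hyo).2
    have hy1 := (orderOf_two_iff'.mp hyo).1
    -- s and y are not conjugate
    have hnc' : ¬ ∃ h : G, h * s * h⁻¹ = y := by
      rintro ⟨h, hh⟩
      apply hnc
      have h1 : IsConj s y := isConj_iff.mpr ⟨h, hh⟩
      exact h1.trans hy'.symm
    have hpos : 0 < orderOf (s * y) := orderOf_pos _
    have heven : Even (orderOf (s * y)) := by
      by_contra hodd
      rw [Nat.not_even_iff_odd] at hodd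
      exact hnc' (conj_of_odd_orderOf_mul hs2 hy2 hodd)
    obtain ⟨z, hzo, -, hsz, hyz⟩ := exists_central_invol_of_even_orderOf_mul hs2 hy2 hpos heven
    rw [Finset.mem_biUnion]
    refine ⟨z, Finset.mem_filter.mpr ⟨Finset.mem_univ _, hzo, hsz.symm⟩, ?_⟩
    exact Finset.mem_filter.mpr ⟨Finset.mem_univ _, hy1, hyz⟩
  have h1 : T.card ≤ ∑ z ∈ Z, (C z).card :=
    (Finset.card_le_card hsub).trans Finset.card_biUnion_le
  have hCcard : ∀ z : G, (C z).card + 1 = Nat.card (Subgroup.centralizer ({z} : Set G)) := by
    intro z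
    rw [card_centralizer_eq_filter]
    have : C z = (Finset.univ.filter (fun y : G => y * z = z * y)).erase 1 := by
      ext y
      simp only [C, Finset.mem_filter, Finset.mem_univ, true_and, Finset.mem_erase]
    rw [this, Finset.card_erase_of_mem (by simp)]
    have hpos : 0 < (Finset.univ.filter (fun y : G => y * z = z * y)).card :=
      Finset.card_pos.mpr ⟨1, by simp⟩
    omega
  have h2 : ∀ z ∈ Z, (C z).card ≤ c - 1 := by
    intro z hz
    have hzo : orderOf z = 2 := (Finset.mem_filter.mp hz).2.1
    have := hmax z hzo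
    have := hCcard z
    omega
  have h3 : Z.card ≤ c - 1 := by
    have hZsub : Z ⊆ C s := by
      intro z hz
      have hz' := (Finset.mem_filter.mp hz).2
      exact Finset.mem_filter.mpr ⟨Finset.mem_univ _, (orderOf_two_iff'.mp hz'.1).1, hz'.2⟩
    have := Finset.card_le_card hZsub
    have := hCcard s
    have := hmax s hs
    omega
  have h4 : T.card * c = Nat.card G := by
    rw [← card_conj_mul_card_centralizer t]
    congr 1
    rw [Nat.card_eq_fintype_card, Fintype.card_subtype]
  have h5 : T.card ≤ (c - 1) * (c - 1) := by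
    calc T.card ≤ ∑ z ∈ Z, (C z).card := h1
      _ ≤ ∑ _z ∈ Z, (c - 1) := Finset.sum_le_sum h2
      _ = Z.card * (c - 1) := by rw [Finset.sum_const, smul_eq_mul]
      _ ≤ (c - 1) * (c - 1) := Nat.mul_le_mul_right _ h3
  have hcpos : 0 < c := Nat.card_pos
  rw [← h4]
  have h6 : (c - 1) * (c - 1) < c * c := by
    have : c - 1 < c := by omega
    exact Nat.mul_lt_mul_of_le_of_lt (by omega) this (by omega)
  calc T.card * c ≤ (c - 1) * (c - 1) * c := Nat.mul_le_mul_right _ h5
    _ < c * c * c := Nat.mul_lt_mul_of_pos_right h6 hcpos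
    _ = c ^ 3 := by ring

end Cfsg.Agent.S0230
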