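import Cfsg.Statements.S0231
import Cfsg.Agent.Lib.Helper28.Invol2
import Cfsg.Agent.S0229

set_option autoImplicit false
open Cfsg
open Cfsg.Agent.Lib.Helper28
open scoped Pointwise

namespace Cfsg.Agent.S0231

theorem mem_smul_sylow_iff {G : Type*} [Group G] {p : ℕ} (a x : G) (T : Sylow p G) :
    x ∈ a • T ↔ a⁻¹ * x * a ∈ T := by
  have h1 : x ∈ a • T ↔ x ∈ (MulAut.conj a • (T : Subgroup G)) := Iff.rfl
  rw [h1, Subgroup.mem_pointwise_smul_iff_inv_smul_mem]
  simp [MulAut.smul_def]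
  rfl

/-- Let T be a Sylow 2-subgroup of the finite group G which is not normal and which intersects every other Sylow 2-subgroup trivially. Then G has a single conjugacy class of involutions. -/
theorem result {G : Type*} [Group G] [Finite G] (T : Sylow 2 G) (hnn : ¬ (T : Subgroup G).Normal) (hTI : ∀ g : G, MulAut.conj g • (T : Subgroup G) ≠ T → MulAut.conj g • (T : Subgroup G) ⊓ T = ⊥) (s t : G) (hs : orderOf s = 2) (ht : orderOf t = 2) : IsConj s t := by
  have : Fact (Nat.Prime 2) := ⟨Nat.prime_two⟩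
  -- (a) distinct Sylow subgroups meet trivially
  have hA : ∀ (P Q : Sylow 2 G) (x : G), x ≠ 1 → x ∈ P → x ∈ Q → P = Q := by
    intro P Q x hx1 hxP hxQ
    obtain ⟨a, rfl⟩ := MulAction.exists_smul_eq G T P
    obtain ⟨b, rfl⟩ := MulAction.exists_smul_eq G T Q
    by_contra hne
    have hg : MulAut.conj (a⁻¹ * b) • (T : Subgroup G) ≠ T := by
      intro h
      apply hne
      have h2 : (a⁻¹ * b) • T = T := Sylow.ext h
      calc a • T = a • ((a⁻¹ * b) • T) := by rw [h2]
        _ = b • T := by rw [smul_smul, mul_inv_cancel_left]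
    have h3 := hTI _ hg
    rw [mem_smul_sylow_iff] at hxP hxQ
    have h4 : a⁻¹ * x * a ∈ MulAut.conj (a⁻¹ * b) • (T : Subgroup G) := by
      rw [Subgroup.mem_pointwise_smul_iff_inv_smul_mem]
      have : (MulAut.conj (a⁻¹ * b))⁻¹ • (a⁻¹ * x * a) = b⁻¹ * x * b := by
        simp [MulAut.smul_def]
        group
      rw [this]; exact hxQ
    have h5 : a⁻¹ * x * a ∈ MulAut.conj (a⁻¹ * b) • (T : Subgroup G) ⊓ T := ⟨h4, hxP⟩
    rw [h3, Subgroup.mem_bot] at h5
    apply hx1
    calc x = a * (a⁻¹ * x * a) * a⁻¹ := by group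
      _ = 1 := by rw [h5]; group
  -- (c) involutions in distinct Sylow subgroups are conjugate
  have hC : ∀ (P Q : Sylow 2 G) (u v : G), orderOf u = 2 → orderOf v = 2 → u ∈ P → v ∈ Q → P ≠ Q →
      IsConj u v := by
    intro P Q u v hu hv huP hvQ hPQ
    by_contra hnc
    have hu2 := (orderOf_two_iff'.mp hu).2
    have hv2 := (orderOf_two_iff'.mp hv).2
    have hpos : 0 < orderOf (u * v) := orderOf_pos _
    have heven : Even (orderOf (u * v)) := by
      by_contra hodd
      rw [Nat.not_even_iff_odd] at hodd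
      obtain ⟨g, hg⟩ := conj_of_odd_orderOf_mul hu2 hv2 hodd
      exact hnc (isConj_iff.mpr ⟨g, hg⟩)
    obtain ⟨z, hzo, -, huz, hvz⟩ := exists_central_invol_of_even_orderOf_mul hu2 hv2 hpos heven
    obtain ⟨P', huP', hzP'⟩ := Cfsg.Agent.S0229.exists_sylow_of_commuting hu hzo huz
    obtain ⟨Q', hvQ', hzQ'⟩ := Cfsg.Agent.S0229.exists_sylow_of_commuting hv hzo hvz
    have e1 : P' = P := hA P' P u (orderOf_two_iff'.mp hu).1 huP' huP
    have e2 : Q' = Q := hA Q' Q v (orderOf_two_iff'.mp hv).1 hvQ' hvQ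
    subst e1 e2
    exact hPQ (hA _ _ z (orderOf_two_iff'.mp hzo).1 hzP' hzQ')
  -- every involution lies in some Sylow subgroup
  have hE : ∀ u : G, orderOf u = 2 → ∃ P : Sylow 2 G, u ∈ P := by
    intro u hu
    obtain ⟨P, hP⟩ := (Cfsg.Agent.S0229.isPGroup_zpowers_of_orderOf_two hu).exists_le_sylow
    exact ⟨P, hP (Subgroup.mem_zpowers u)⟩
  -- (d) there is g₀ with g₀ • T ≠ T
  obtain ⟨g₀, hg₀⟩ : ∃ g₀ : G, g₀ • T ≠ T := by
    by_contra h
    push_neg at h
    apply hnn
    rw [← Subgroup.normalizer_eq_top_iff]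
    rw [eq_top_iff]
    intro g _
    exact Sylow.smul_eq_iff_mem_normalizer.mp (h g)
  obtain ⟨P, hsP⟩ := hE s hs
  obtain ⟨Q, htQ⟩ := hE t ht
  by_cases hPQ : P = Q
  · subst hPQ
    -- choose R ≠ P
    obtain ⟨R, hR⟩ : ∃ R : Sylow 2 G, R ≠ P := by
      by_cases hPT : P = T
      · exact ⟨g₀ • T, by rw [hPT]; exact hg₀⟩
      · exact ⟨T, fun h => hPT h.symm⟩
    obtain ⟨g, hg⟩ := MulAction.exists_smul_eq G P R
    have huR : g * s * g⁻¹ ∈ R := by
      rw [← hg, mem_smul_sylow_iff]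
      have : g⁻¹ * (g * s * g⁻¹) * g = s := by group
      rw [this]; exact hsP
    have huo : orderOf (g * s * g⁻¹) = 2 := by
      rw [show g * s * g⁻¹ = MulAut.conj g s from rfl, MulEquiv.orderOf_eq]
      exact hs
    have h1 : IsConj s (g * s * g⁻¹) := isConj_iff.mpr ⟨g, rfl⟩
    have h2 : IsConj t (g * s * g⁻¹) := hC P R t _ ht huo htQ huR (Ne.symm hR)
    exact h1.trans h2.symm
  · exact hC P Q s t hs ht hsP htQ hPQ

end Cfsg.Agent.S0231
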