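import Cfsg.Statements.S0233
import Cfsg.Agent.Lib.Helper28.BrauerFowler

set_option autoImplicit false
open Cfsg
open Cfsg.Agent.Lib.Helper28

namespace Cfsg.Agent.S0233

/-- the number of ordered pairs of involutions with product `x` -/
noncomputable def pairCount {G : Type*} [Group G] (x : G) : ℕ :=
  Nat.card {p : G × G // orderOf p.1 = 2 ∧ orderOf p.2 = 2 ∧ p.1 * p.2 = x}

theorem sum_pairCount {G : Type*} [Group G] [Fintype G] :
    ∑ x : G, pairCount x = Nat.card {t : G // orderOf t = 2} * Nat.card {t : G // orderOf t = 2} := by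
  classical
  rw [← Nat.card_prod]
  have e : ({t : G // orderOf t = 2} × {t : G // orderOf t = 2}) ≃
      Σ x : G, {p : G × G // orderOf p.1 = 2 ∧ orderOf p.2 = 2 ∧ p.1 * p.2 = x} :=
    { toFun := fun q => ⟨q.1.1 * q.2.1, ⟨(q.1.1, q.2.1), q.1.2, q.2.2, rfl⟩⟩
      invFun := fun s => (⟨s.2.1.1, s.2.2.1⟩, ⟨s.2.1.2, s.2.2.2.1⟩)
      left_inv := fun q => rfl
      right_inv := by
        rintro ⟨x, ⟨⟨u, v⟩, hu, hv, rfl⟩⟩
        rfl }
  rw [Nat.card_congr e, Nat.card_sigma]
  rfl

theorem pairCount_one_le {G : Type*} [Group G] [Finite G] :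
    pairCount (1 : G) ≤ Nat.card {t : G // orderOf t = 2} := by
  apply Nat.card_le_card_of_injective
    (fun p : {p : G × G // orderOf p.1 = 2 ∧ orderOf p.2 = 2 ∧ p.1 * p.2 = 1} =>
      (⟨p.1.1, p.2.1⟩ : {t : G // orderOf t = 2}))
  rintro ⟨⟨u, v⟩, hu, hv, huv⟩ ⟨⟨u', v'⟩, hu', hv', huv'⟩ h
  have h1 : u = u' := congrArg Subtype.val h
  subst h1
  have h2 : v = v' := by
    apply mul_left_cancel (a := u)
    rw [huv, huv']
  subst h2
  rfl

/-- Let G be a finite group of even order with exactly n involutions whose centre has odd order, and put a = |G|/n. Then G has a proper subgroup H with |G : H| = 2 or |G : H| < a(a+1)/2; over ℕ the latter reads 2·|G:H|·n² < |G|·(|G| + n). -/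
theorem result {G : Type*} [Group G] [Finite G] (heven : Even (Nat.card G)) (hZ : Odd (Nat.card (Subgroup.center G))) : ∃ H : Subgroup G, H ≠ ⊤ ∧ (H.index = 2 ∨ 2 * H.index * (Nat.card {t : G // orderOf t = 2}) ^ 2 < Nat.card G * (Nat.card G + Nat.card {t : G // orderOf t = 2})) := by
  classical
  have : Fintype G := Fintype.ofFinite G
  set N := Nat.card G with hN
  set n := Nat.card {t : G // orderOf t = 2} with hn
  -- G is nontrivial
  have hNpos : 0 < N := Nat.card_pos
  have hN2 : 2 ≤ N := by
    obtain ⟨m, hm⟩ := heven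
    omega
  have hnontriv : (⊥ : Subgroup G) ≠ ⊤ := by
    intro h
    have h1 : Nat.card (⊥ : Subgroup G) = Nat.card (⊤ : Subgroup G) := by rw [h]
    rw [Subgroup.card_bot, Subgroup.card_top] at h1
    omega
  -- a proper subgroup of minimal index
  obtain ⟨H, hHne, hHmin⟩ := Set.exists_min_image {H : Subgroup G | H ≠ ⊤} (fun H => H.index)
    (Set.toFinite _) ⟨⊥, hnontriv⟩
  have hHne' : H ≠ ⊤ := hHne
  refine ⟨H, hHne', ?_⟩
  set k := H.index with hk
  have hk0 : k ≠ 0 := Subgroup.index_ne_zero_of_finite
  have hk1 : k ≠ 1 := fun h => hHne' (Subgroup.index_eq_one.mp h)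
  by_cases hk2 : k = 2
  · left; exact hk2
  right
  have hk3 : 3 ≤ k := by omega
  -- every proper subgroup K satisfies k * |K| ≤ N
  have hprop : ∀ K : Subgroup G, K ≠ ⊤ → k * Nat.card K ≤ N := by
    intro K hK
    have h1 : k ≤ K.index := hHmin K hK
    have h2 : Nat.card K * K.index = N := Subgroup.card_mul_index K
    calc k * Nat.card K ≤ K.index * Nat.card K := Nat.mul_le_mul_right _ h1
      _ = N := by rw [mul_comm]; exact h2
  -- the centre has no involution and no nontrivial element equal to its inverse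
  have hcentral : ∀ x : G, x ≠ 1 → x * x = 1 → Subgroup.centralizer ({x} : Set G) ≠ ⊤ := by
    intro x hx1 hx2 htop
    have hxZ : x ∈ Subgroup.center G := by
      rw [Subgroup.mem_center_iff]
      intro g
      have : g ∈ Subgroup.centralizer ({x} : Set G) := by rw [htop]; exact Subgroup.mem_top g
      exact Subgroup.mem_centralizer_singleton_iff.mp this
    have hord : orderOf x = 2 := orderOf_two_iff'.mpr ⟨hx1, hx2⟩
    have h1 : orderOf (⟨x, hxZ⟩ : Subgroup.center G) = 2 := by
      rw [← hord]; exact Subgroup.orderOf_mk x hxZ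
    have h2 : 2 ∣ Nat.card (Subgroup.center G) := h1 ▸ orderOf_dvd_natCard _
    exact (Nat.not_even_iff_odd.mpr hZ) (even_iff_two_dvd.mpr h2)
  -- bounds on pairCount
  have hb1 : 2 * k * pairCount (1 : G) ≤ 2 * k * n := Nat.mul_le_mul_left _ pairCount_one_le
  have hb2 : ∀ x : G, orderOf x = 2 → 2 * k * pairCount x + 4 * k ≤ 2 * N := by
    intro x hx
    have h1 := (Cfsg.Agent.S0238.result x).2.2 hx
    have h2 := hprop _ (hcentral x (orderOf_two_iff'.mp hx).1 (orderOf_two_iff'.mp hx).2)
    have h3 : k * (pairCount x + 2) ≤ k * Nat.card (Subgroup.centralizer ({x} : Set G)) :=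
      Nat.mul_le_mul_left _ h1
    have h4 : k * (pairCount x + 2) ≤ N := h3.trans h2
    calc 2 * k * pairCount x + 4 * k = 2 * (k * (pairCount x + 2)) := by ring
      _ ≤ 2 * N := Nat.mul_le_mul_left _ h4
  have hb3 : ∀ x : G, x ≠ 1 → orderOf x ≠ 2 → 2 * k * pairCount x ≤ N := by
    intro x hx1 hx2
    by_cases hreal : IsConj x x⁻¹
    · have hxx : x ≠ x⁻¹ := by
        intro h
        apply hx2
        rw [orderOf_two_iff']
        refine ⟨hx1, ?_⟩
        nth_rewrite 1 [h]; simp
      have h1 := (Cfsg.Agent.S0238.result x).1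
      have h2 := card_extCentralizer hreal hxx
      have h3 : extCentralizer x ≠ ⊤ := by
        intro htop
        have h4 : Nat.card (extCentralizer x) = N := by rw [htop, Subgroup.card_top]
        -- then C(x) has index 2
        have h5 : (Subgroup.centralizer ({x} : Set G)).index = 2 := by
          have h6 := Subgroup.card_mul_index (Subgroup.centralizer ({x} : Set G))
          have hpos : 0 < Nat.card (Subgroup.centralizer ({x} : Set G)) := Nat.card_pos
          rw [h2] at h4
          have : Nat.card (Subgroup.centralizer ({x} : Set G)) * (Subgroup.centralizer ({x} : Set G)).index =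
              Nat.card (Subgroup.centralizer ({x} : Set G)) * 2 := by
            rw [h6]; show N = _; rw [← h4]; ring
          exact Nat.eq_of_mul_eq_mul_left hpos this
        have h7 : Subgroup.centralizer ({x} : Set G) ≠ ⊤ := by
          intro h8
          rw [h8, Subgroup.index_top] at h5
          omega
        have := hHmin _ h7
        omega
      have h4 := hprop _ h3
      rw [h2] at h4
      calc 2 * k * pairCount x ≤ 2 * k * Nat.card (Subgroup.centralizer ({x} : Set G)) :=
            Nat.mul_le_mul_left _ h1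
        _ = k * (2 * Nat.card (Subgroup.centralizer ({x} : Set G))) := by ring
        _ ≤ N := h4
    · have h1 := (Cfsg.Agent.S0238.result x).2.1 hreal
      show 2 * k * pairCount x ≤ N
      unfold pairCount
      rw [h1]; simp
  -- split the sum
  have hsum := sum_pairCount (G := G)
  rw [← hn] at hsum
  -- sets
  let I : Finset G := Finset.univ.filter (fun x => orderOf x = 2)
  let R : Finset G := Finset.univ.filter (fun x => x ≠ 1 ∧ orderOf x ≠ 2)
  have hIcard : I.card = n := by
    rw [hn, Nat.card_eq_fintype_card, Fintype.card_subtype]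
  have hsplit : ∀ f : G → ℕ, ∑ x : G, f x = f 1 + ∑ x ∈ I, f x + ∑ x ∈ R, f x := by
    intro f
    rw [← Finset.sum_filter_add_sum_filter_not Finset.univ (fun x : G => x = 1)]
    rw [Finset.filter_eq' Finset.univ (1 : G), if_pos (Finset.mem_univ _), Finset.sum_singleton]
    rw [add_assoc]
    congr 1
    rw [← Finset.sum_filter_add_sum_filter_not (Finset.univ.filter (fun x : G => ¬ x = 1))
      (fun x : G => orderOf x = 2)]
    congr 1
    · apply Finset.sum_congr _ (fun _ _ => rfl)
      ext x
      simp only [Finset.mem_filter, Finset.mem_univ, true_and, I]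
      constructor
      · rintro ⟨_, h⟩; exact h
      · intro h; exact ⟨(orderOf_two_iff'.mp h).1, h⟩
    · apply Finset.sum_congr _ (fun _ _ => rfl)
      ext x
      simp only [Finset.mem_filter, Finset.mem_univ, true_and, R, ne_eq]
  have hcardsplit : 1 + I.card + R.card = N := by
    have := hsplit (fun _ => 1)
    simp only [Finset.sum_const, smul_eq_mul, mul_one, Finset.card_univ] at this
    rw [hN, Nat.card_eq_fintype_card, this]
  have hS := hsplit (fun x => 2 * k * pairCount x)
  rw [← Finset.mul_sum, hsum] at hS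
  have hI : ∑ x ∈ I, (2 * k * pairCount x + 4 * k) ≤ ∑ _x ∈ I, 2 * N :=
    Finset.sum_le_sum (fun x hx => hb2 x (Finset.mem_filter.mp hx).2)
  rw [Finset.sum_add_distrib, Finset.sum_const, Finset.sum_const, smul_eq_mul, smul_eq_mul, hIcard] at hI
  have hR : ∑ x ∈ R, 2 * k * pairCount x ≤ ∑ _x ∈ R, N :=
    Finset.sum_le_sum (fun x hx => hb3 x (Finset.mem_filter.mp hx).2.1 (Finset.mem_filter.mp hx).2.2)
  rw [Finset.sum_const, smul_eq_mul] at hR
  rw [hIcard] at hcardsplit
  -- arithmetic
  set A := ∑ x ∈ I, 2 * k * pairCount x with hA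
  set B := ∑ x ∈ R, 2 * k * pairCount x with hB
  set r := R.card with hr
  have hfinal : 2 * k * (n * n) + n * (4 * k) ≤ 2 * k * n + n * (2 * N) + r * N := by
    rw [hS]
    omega
  have hNeq : N = 1 + n + r := hcardsplit.symm
  rw [pow_two]
  -- 2kn² ≤ 2Nn + rN - 2kn < N(N+n) = (1+n+r)N + Nn
  have e1 : N * (N + n) = N + n * N + r * N + N * n := by
    conv_lhs => rw [mul_add]
    nth_rewrite 1 [hNeq]
    ring
  rw [e1]
  nlinarith [hfinal, hNpos, Nat.zero_le (k * n)]

end Cfsg.Agent.S0233
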