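import Cfsg.Statements.S0232
import Cfsg.Agent.S0233

set_option autoImplicit false
open Cfsg
open Cfsg.Agent.Lib.Helper28

namespace Cfsg.Agent.S0232

universe u

/-- arithmetic core of the non-central case -/
theorem arith_core {N h k c : ℕ} (hN : N = h * k) (hc2 : 2 ≤ c) (hcN : c ^ 3 ≤ N)
    (hk : 2 * k < c * (c + 1)) : N < h ^ 3 := by
  by_contra hcon
  push_neg at hcon
  have hNpos : 0 < N := lt_of_lt_of_le (by positivity) hcN
  have hh : 0 < h := by
    rcases Nat.eq_zero_or_pos h with h0 | h0
    · rw [h0, zero_mul] at hN; omega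
    · exact h0
  -- h^2 ≤ k
  have h1 : h ^ 2 ≤ k := by
    have : h * h ^ 2 ≤ h * k := by
      calc h * h ^ 2 = h ^ 3 := by ring
        _ ≤ N := hcon
        _ = h * k := hN
    exact Nat.le_of_mul_le_mul_left this hh
  -- k < c^2
  have h2 : k < c ^ 2 := by nlinarith
  -- c^6 ≤ k^3
  have h3 : (c ^ 3) ^ 2 ≤ k ^ 3 := by
    calc (c ^ 3) ^ 2 ≤ (h * k) ^ 2 := Nat.pow_le_pow_left (hN ▸ hcN) 2
      _ = h ^ 2 * k ^ 2 := by ring
      _ ≤ k * k ^ 2 := Nat.mul_le_mul_right _ h1
      _ = k ^ 3 := by ring
  have h4 : k ^ 3 < (c ^ 2) ^ 3 := Nat.pow_lt_pow_left h2 (by norm_num)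
  have h5 : (c ^ 2) ^ 3 = (c ^ 3) ^ 2 := by ring
  omega

theorem cube_gt_of_index_two {N m : ℕ} (hN : N = 2 * m) (h4 : 4 ≤ N) : N < m ^ 3 := by
  have hm : 2 ≤ m := by omega
  have : 2 * m < m ^ 3 := by nlinarith [Nat.pow_le_pow_left hm 2]
  omega

theorem aux : ∀ (N : ℕ) (G : Type u) [Group G] [Finite G], Nat.card G = N → Even N → 2 < N →
    ∃ H : Subgroup G, H ≠ ⊤ ∧ N < Nat.card H ^ 3 := by
  intro N
  induction N using Nat.strong_induction_on with
  | _ N ih =>
  intro G _ _ hcard heven hgt
  classical
  have : Fact (Nat.Prime 2) := ⟨Nat.prime_two⟩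
  have hN4 : 4 ≤ N := by obtain ⟨m, hm⟩ := heven; omega
  rcases Nat.even_or_odd (Nat.card (Subgroup.center G)) with hZ | hZ
  · -- central involution
    obtain ⟨z, hz⟩ := exists_prime_orderOf_dvd_card' 2 (even_iff_two_dvd.mp hZ)
    have hzG : orderOf (z : G) = 2 := by rw [← hz]; exact (Subgroup.orderOf_coe z)
    have hzc : ∀ g : G, g * (z : G) = (z : G) * g := fun g => (Subgroup.mem_center_iff.mp z.2 g)
    let Zz : Subgroup G := Subgroup.zpowers (z : G)
    have hnormal : Zz.Normal := by
      constructor
      intro x hx g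
      obtain ⟨i, rfl⟩ := Subgroup.mem_zpowers_iff.mp hx
      have hc : Commute g ((z : G) ^ i) := Commute.zpow_right (hzc g) i
      rw [hc.eq, mul_inv_cancel_right]
      exact Subgroup.zpow_mem _ (Subgroup.mem_zpowers _) i
    have hZz : Nat.card Zz = 2 := by rw [Nat.card_zpowers, hzG]
    have hquot : N = Nat.card (G ⧸ Zz) * 2 := by
      rw [← hcard, ← hZz]; exact Subgroup.card_eq_card_quotient_mul_card_subgroup Zz
    set M := Nat.card (G ⧸ Zz) with hM
    rcases Nat.even_or_odd M with hMe | hMo
    · by_cases hM2 : M = 2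
      · refine ⟨Zz, ?_, ?_⟩
        · intro htop
          have : Nat.card Zz = N := by rw [htop, Subgroup.card_top, hcard]
          omega
        · rw [hZz]; omega
      · have hMgt : 2 < M := by obtain ⟨j, hj⟩ := hMe; omega
        obtain ⟨Hbar, hHbar, hlt⟩ := ih M (by omega) (G ⧸ Zz) hM.symm hMe hMgt
        refine ⟨Hbar.comap (QuotientGroup.mk' Zz), ?_, ?_⟩
        · intro htop
          apply hHbar
          rw [← Subgroup.index_eq_one] at htop ⊢
          rwa [Subgroup.index_comap_of_surjective _ (QuotientGroup.mk'_surjective Zz)] at htop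
        · have hidx : (Hbar.comap (QuotientGroup.mk' Zz)).index = Hbar.index :=
            Subgroup.index_comap_of_surjective _ (QuotientGroup.mk'_surjective Zz)
          have e1 := Subgroup.card_mul_index (Hbar.comap (QuotientGroup.mk' Zz))
          have e2 := Subgroup.card_mul_index Hbar
          rw [hidx, hcard] at e1
          rw [← hM] at e2
          have hipos : 0 < Hbar.index := Nat.pos_of_ne_zero Subgroup.index_ne_zero_of_finite
          have e3 : Nat.card (Hbar.comap (QuotientGroup.mk' Zz)) = 2 * Nat.card Hbar := by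
            apply Nat.eq_of_mul_eq_mul_right hipos
            rw [e1, hquot, ← e2]; ring
          rw [e3]
          have : (2 * Nat.card Hbar) ^ 3 = 8 * Nat.card Hbar ^ 3 := by ring
          rw [this]
          omega
    · -- M odd: Schur–Zassenhaus
      have hcop : Nat.Coprime (Nat.card Zz) Zz.index := by
        rw [hZz, Subgroup.index_eq_card, ← hM]
        exact (Nat.coprime_two_left.mpr hMo)
      obtain ⟨K, hK⟩ := Subgroup.exists_left_complement'_of_coprime hcop
      have hKcard : Nat.card K * 2 = N := by
        rw [← hZz, ← hcard]; exact hK.card_mul_card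
      refine ⟨K, ?_, ?_⟩
      · intro htop
        have : Nat.card K = N := by rw [htop, Subgroup.card_top, hcard]
        omega
      · exact cube_gt_of_index_two (by omega) hN4
  · -- centre of odd order: Brauer–Fowler
    have hevenG : Even (Nat.card G) := hcard ▸ heven
    obtain ⟨H, hHne, hH⟩ := Cfsg.Agent.S0233.result hevenG hZ
    rcases hH with h2 | hlt
    · refine ⟨H, hHne, ?_⟩
      have e1 := Subgroup.card_mul_index H
      rw [h2, hcard] at e1
      exact cube_gt_of_index_two (by omega) hN4
    · -- an involution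
      obtain ⟨t, ht⟩ := exists_prime_orderOf_dvd_card' 2 (even_iff_two_dvd.mp hevenG)
      have ht1 := (orderOf_two_iff'.mp ht).1
      have ht2 := (orderOf_two_iff'.mp ht).2
      set c := Nat.card (Subgroup.centralizer ({t} : Set G)) with hc
      -- C(t) is proper
      have hCt : Subgroup.centralizer ({t} : Set G) ≠ ⊤ := by
        intro htop
        have htZ : t ∈ Subgroup.center G := by
          rw [Subgroup.mem_center_iff]
          intro g
          have : g ∈ Subgroup.centralizer ({t} : Set G) := by rw [htop]; exact Subgroup.mem_top g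
          exact Subgroup.mem_centralizer_singleton_iff.mp this
        have h1 : orderOf (⟨t, htZ⟩ : Subgroup.center G) = 2 := by
          rw [← ht]; exact Subgroup.orderOf_mk t htZ
        have h2 : 2 ∣ Nat.card (Subgroup.center G) := h1 ▸ orderOf_dvd_natCard _
        exact (Nat.not_even_iff_odd.mpr hZ) (even_iff_two_dvd.mpr h2)
      by_cases hcN : N < c ^ 3
      · exact ⟨_, hCt, hcN⟩
      push_neg at hcN
      refine ⟨H, hHne, ?_⟩
      set n := Nat.card {t : G // orderOf t = 2} with hn
      -- n * c ≥ N
      have hclass := card_conj_mul_card_centralizer t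
      have hle : Nat.card {y : G // IsConj t y} ≤ n := by
        apply Nat.card_le_card_of_injective
          (fun y : {y : G // IsConj t y} => (⟨y.1, by
            obtain ⟨g, hg⟩ := isConj_iff.mp y.2
            rw [← hg, show g * t * g⁻¹ = MulAut.conj g t from rfl, MulEquiv.orderOf_eq]
            exact ht⟩ : {t : G // orderOf t = 2}))
        intro a b hab
        have h' : a.1 = b.1 := congrArg (fun w : {t : G // orderOf t = 2} => w.1) hab
        exact Subtype.ext h'
      have hnc : N ≤ n * c := by
        rw [← hcard, ← hclass]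
        exact Nat.mul_le_mul_right _ hle
      have hc2 : 2 ≤ c := by
        have h1 : orderOf (⟨t, Subgroup.mem_centralizer_singleton_iff.mpr rfl⟩ :
            Subgroup.centralizer ({t} : Set G)) = 2 := by
          rw [← ht]; exact Subgroup.orderOf_mk t _
        have h2 : 2 ∣ c := h1 ▸ orderOf_dvd_natCard _
        have hcpos : 0 < c := Nat.card_pos
        exact Nat.le_of_dvd hcpos h2
      have hnpos : 0 < n := by
        rcases Nat.eq_zero_or_pos n with h0 | h0
        · rw [h0, zero_mul] at hnc; omega
        · exact h0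
      set k := H.index with hk
      rw [hcard] at hlt
      -- 2k < c(c+1)
      have hk2 : 2 * k < c * (c + 1) := by
        have h1 : N * (N + n) ≤ (n * c) * (n * c + n) :=
          Nat.mul_le_mul hnc (Nat.add_le_add_right hnc n)
        have h2 : (n * c) * (n * c + n) = n ^ 2 * (c * (c + 1)) := by ring
        have h3 : n ^ 2 * (2 * k) < n ^ 2 * (c * (c + 1)) := by
          calc n ^ 2 * (2 * k) = 2 * k * n ^ 2 := by ring
            _ < N * (N + n) := hlt
            _ ≤ n ^ 2 * (c * (c + 1)) := h2 ▸ h1
        exact Nat.lt_of_mul_lt_mul_left h3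
      have e1 := Subgroup.card_mul_index H
      rw [hcard] at e1
      exact arith_core e1.symm hc2 hcN hk2

/-- A finite group G of even order greater than 2 has a proper subgroup H with |G| < |H|^3. -/
theorem result {G : Type*} [Group G] [Finite G] (heven : Even (Nat.card G)) (hgt : 2 < Nat.card G) : ∃ H : Subgroup G, H ≠ ⊤ ∧ Nat.card G < (Nat.card H) ^ 3 :=
  aux (Nat.card G) G rfl heven hgt

end Cfsg.Agent.S0232
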