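import Cfsg.Statements.S0234
import Mathlib
import Cfsg.Agent.S0233
import Cfsg.Agent.Lib.Helper28.Invol
import Cfsg.Agent.Lib.Helper4.BurnsidePQ

set_option autoImplicit false
open Cfsg

namespace Cfsg.Agent.S0234

open Cfsg.Agent.Lib.Helper28 Equiv

set_option maxRecDepth 100000 in
theorem a5_invol_card :
    (Finset.univ.filter (fun g : alternatingGroup (Fin 5) => g ≠ 1 ∧ g * g = 1)).card = 15 := by
  decide +kernel

theorem a5_invol_natCard :
    Nat.card {g : alternatingGroup (Fin 5) // orderOf g = 2} = 15 := by
  classical
  rw [Nat.card_eq_fintype_card, Fintype.card_subtype, ← a5_invol_card]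
  congr 1
  ext g
  simp only [Finset.mem_filter, Finset.mem_univ, true_and]
  exact orderOf_two_iff'

/-- the number of involutions is invariant under isomorphism -/
theorem card_invol_congr {G A : Type*} [Group G] [Group A] (f : G ≃* A) :
    Nat.card {t : G // orderOf t = 2} = Nat.card {t : A // orderOf t = 2} := by
  apply Nat.card_congr
  exact Equiv.subtypeEquiv f.toEquiv (fun t => by
    show orderOf t = 2 ↔ orderOf (f t) = 2
    rw [MulEquiv.orderOf_eq])

/-- a finite simple group of even order greater than 2 is not commutative -/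
theorem not_comm {G : Type*} [Group G] [Finite G] [IsSimpleGroup G] (heven : Even (Nat.card G))
    (hgt : 2 < Nat.card G) : ¬ ∀ a b : G, a * b = b * a := by
  intro hcomm
  have : Fact (Nat.Prime 2) := ⟨Nat.prime_two⟩
  obtain ⟨x, hx⟩ := exists_prime_orderOf_dvd_card' 2 (even_iff_two_dvd.mp heven)
  have hnormal : (Subgroup.zpowers x).Normal := by
    constructor
    intro n hn g
    rw [hcomm g n, mul_assoc, mul_inv_cancel, mul_one]
    exact hn
  rcases hnormal.eq_bot_or_eq_top with h | h
  · rw [Subgroup.zpowers_eq_bot] at h
    rw [h, orderOf_one] at hx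
    omega
  · have h1 : Nat.card (Subgroup.zpowers x) = 2 := by rw [Nat.card_zpowers, hx]
    rw [h, Subgroup.card_top] at h1
    omega

/-- In a finite simple group G of even order greater than 2, the number n of involutions satisfies 3n < |G|. -/
theorem result {G : Type*} [Group G] [Finite G] [IsSimpleGroup G] (heven : Even (Nat.card G)) (hgt : 2 < Nat.card G) : 3 * Nat.card {t : G // orderOf t = 2} < Nat.card G := by
  classical
  by_contra hcon
  push_neg at hcon
  set N := Nat.card G with hN
  set n := Nat.card {t : G // orderOf t = 2} with hn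
  have hnc := not_comm heven hgt
  -- the centre is trivial
  have hZ : Odd (Nat.card (Subgroup.center G)) := by
    rcases (inferInstance : (Subgroup.center G).Normal).eq_bot_or_eq_top with h | h
    · rw [h, Subgroup.card_bot]; exact odd_one
    · exfalso
      apply hnc
      intro a b
      have : a ∈ Subgroup.center G := by rw [h]; exact Subgroup.mem_top a
      exact (Subgroup.mem_center_iff.mp this b).symm
  obtain ⟨H, hH, hH2⟩ := Cfsg.Agent.S0233.result heven hZ
  -- no subgroup of index two
  have hno2 : ∀ K : Subgroup G, K.index ≠ 2 := by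
    intro K hK
    have hKn := Subgroup.normal_of_index_eq_two hK
    rcases hKn.eq_bot_or_eq_top with h | h
    · rw [h, Subgroup.index_bot] at hK
      omega
    · rw [h, Subgroup.index_top] at hK
      omega
  have hineq := hH2.resolve_left (hno2 H)
  rw [← hN, ← hn] at hineq
  set k := H.index with hk
  have hkpos : 0 < k := Nat.pos_of_ne_zero Subgroup.index_ne_zero_of_finite
  have hk1 : k ≠ 1 := fun h => hH (Subgroup.index_eq_one.mp h)
  have hk2 : k ≠ 2 := hno2 H
  have hnpos : 0 < n := by
    by_contra h0
    have : n = 0 := by omega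
    omega
  have hk5 : k ≤ 5 := by
    by_contra hk6
    push_neg at hk6
    have h1 : N * (N + n) ≤ 3 * n * (3 * n + n) := Nat.mul_le_mul hcon (by omega)
    have h2 : 2 * 6 * n ^ 2 ≤ 2 * k * n ^ 2 := by
      apply Nat.mul_le_mul_right
      omega
    have h3 : 3 * n * (3 * n + n) = 2 * 6 * n ^ 2 := by ring
    omega
  -- the permutation representation on the cosets
  have : Fintype G := Fintype.ofFinite G
  have : Fintype (G ⧸ H) := Fintype.ofFinite _
  let φ : G →* Perm (G ⧸ H) := MulAction.toPermHom G (G ⧸ H)
  have hφinj : Function.Injective φ := by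
    rw [← MonoidHom.ker_eq_bot_iff]
    rcases (inferInstance : φ.ker.Normal).eq_bot_or_eq_top with h | h
    · exact h
    · exfalso
      apply hH
      rw [eq_top_iff, ← h]
      show (MulAction.toPermHom G (G ⧸ H)).ker ≤ H
      rw [← Subgroup.normalCore_eq_ker]
      exact Subgroup.normalCore_le H
  have hsign : ∀ g : G, φ g ∈ alternatingGroup (G ⧸ H) := by
    intro g
    rw [Equiv.Perm.mem_alternatingGroup]
    let ψ : G →* ℤˣ := Equiv.Perm.sign.comp φ
    rcases (inferInstance : ψ.ker.Normal).eq_bot_or_eq_top with h | h
    · exfalso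
      have hinj : Function.Injective ψ := (MonoidHom.ker_eq_bot_iff ψ).mp h
      have := Nat.card_le_card_of_injective ψ hinj
      have h2 : Nat.card ℤˣ = 2 := by
        rw [Nat.card_eq_fintype_card]; rfl
      omega
    · have : g ∈ ψ.ker := by rw [h]; exact Subgroup.mem_top g
      exact MonoidHom.mem_ker.mp this
  let φ' : G →* alternatingGroup (G ⧸ H) := φ.codRestrict _ hsign
  have hφ'inj : Function.Injective φ' := by
    intro a b hab
    apply hφinj
    exact congrArg Subtype.val hab
  have hcardQ : Fintype.card (G ⧸ H) = k := by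
    rw [← Nat.card_eq_fintype_card, ← Subgroup.index_eq_card]
  have hnt : Nontrivial (G ⧸ H) := by
    rw [← Fintype.one_lt_card_iff_nontrivial, hcardQ]
    omega
  have hcardA : Fintype.card (alternatingGroup (G ⧸ H)) = k.factorial / 2 := by
    rw [card_alternatingGroup, hcardQ]
  have hdvdA : N ∣ k.factorial / 2 := by
    rw [← hcardA, ← Nat.card_eq_fintype_card]
    exact Subgroup.card_dvd_of_injective φ' hφ'inj
  -- solvable orders are excluded
  have hpq : ∀ p q a b : ℕ, p.Prime → q.Prime → N ≠ p ^ a * q ^ b := by
    intro p q a b hp hq h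
    have hsol := Cfsg.Agent.Lib.Helper4.isSolvable_of_card_pq p q a b hp hq h
    exact hnc (IsSimpleGroup.comm_iff_isSolvable.mpr hsol)
  have hk345 : k = 3 ∨ k = 4 ∨ k = 5 := by omega
  have hNeven : 2 ∣ N := even_iff_two_dvd.mp heven
  have hNpos : 0 < N := by omega
  rcases hk345 with h3 | h4 | h5
  · rw [h3] at hdvdA
    have : N ∣ 3 := by simpa [Nat.factorial] using hdvdA
    have := Nat.le_of_dvd (by norm_num) this
    have h3' : N = 3 := by omega
    omega
  · rw [h4] at hdvdA
    have h12 : N ∣ 12 := by simpa [Nat.factorial] using hdvdA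
    have hle := Nat.le_of_dvd (by norm_num) h12
    have : N = 4 ∨ N = 6 ∨ N = 12 := by
      interval_cases N <;> omega
    rcases this with h | h | h
    · exact hpq 2 3 2 0 Nat.prime_two Nat.prime_three (by rw [h]; norm_num)
    · exact hpq 2 3 1 1 Nat.prime_two Nat.prime_three (by rw [h]; norm_num)
    · exact hpq 2 3 2 1 Nat.prime_two Nat.prime_three (by rw [h]; norm_num)
  · rw [h5] at hdvdA hcardA
    have h60 : N ∣ 60 := by simpa [Nat.factorial] using hdvdA
    have hcardA' : Fintype.card (alternatingGroup (G ⧸ H)) = 60 := by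
      rw [hcardA]; simp [Nat.factorial]
    have hle := Nat.le_of_dvd (by norm_num) h60
    have : N = 4 ∨ N = 6 ∨ N = 10 ∨ N = 12 ∨ N = 20 ∨ N = 30 ∨ N = 60 := by
      interval_cases N <;> omega
    rcases this with h | h | h | h | h | h | h
    · exact hpq 2 3 2 0 Nat.prime_two Nat.prime_three (by rw [h]; norm_num)
    · exact hpq 2 3 1 1 Nat.prime_two Nat.prime_three (by rw [h]; norm_num)
    · exact hpq 2 5 1 1 Nat.prime_two Nat.prime_five (by rw [h]; norm_num)
    · exact hpq 2 3 2 1 Nat.prime_two Nat.prime_three (by rw [h]; norm_num)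
    · exact hpq 2 5 2 1 Nat.prime_two Nat.prime_five (by rw [h]; norm_num)
    · -- order 30: the image has index 2 in the simple group Alt(G/H)
      have hsimple : IsSimpleGroup (alternatingGroup (G ⧸ H)) := by
        apply alternatingGroup.isSimpleGroup
        rw [Nat.card_eq_fintype_card, hcardQ, h5]
      have hrange : Nat.card φ'.range = 30 := by
        rw [← h, hN]
        exact (Nat.card_congr (MonoidHom.ofInjective hφ'inj).toEquiv).symm
      have hidx : φ'.range.index = 2 := by
        have := Subgroup.card_mul_index φ'.range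
        rw [hrange, Nat.card_eq_fintype_card, hcardA'] at this
        omega
      have hnorm := Subgroup.normal_of_index_eq_two hidx
      rcases hnorm.eq_bot_or_eq_top with h1 | h1
      · rw [h1, Subgroup.card_bot] at hrange; omega
      · rw [h1, Subgroup.card_top, Nat.card_eq_fintype_card, hcardA'] at hrange; omega
    · -- order 60: G is isomorphic to A5
      have hbij : Function.Bijective φ' := by
        rw [Fintype.bijective_iff_injective_and_card]
        refine ⟨hφ'inj, ?_⟩
        rw [hcardA', ← Nat.card_eq_fintype_card, ← hN, h]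
      have e : G ⧸ H ≃ Fin 5 := Fintype.equivFinOfCardEq (by rw [hcardQ, h5])
      let f : G ≃* alternatingGroup (Fin 5) :=
        (MulEquiv.ofBijective φ' hbij).trans (Equiv.altCongrHom e)
      have hn15 : n = 15 := by
        rw [hn, card_invol_congr f, a5_invol_natCard]
      omega

end Cfsg.Agent.S0234
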