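import Cfsg.Statements.S0239
import Cfsg.Agent.Lib.Helper28.Invol

set_option autoImplicit false
open Cfsg
open Cfsg.Agent.Lib.Helper28

namespace Cfsg.Agent.S0239

/-- If some nontrivial element x of a finite group G is conjugate to x⁻¹, then |G| is even. -/
theorem result {G : Type*} [Group G] [Finite G] (x : G) (hx : x ≠ 1) (hreal : IsConj x x⁻¹) : Even (Nat.card G) := by
  by_contra hodd
  rw [Nat.not_even_iff_odd] at hodd
  obtain ⟨g, hg⟩ := isConj_iff.mp hreal
  -- g ^ |G| = 1 and |G| odd, so conj by g^|G| inverts x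
  have h1 := conj_pow_of_inverts hg (Nat.card G)
  rw [if_neg (Nat.not_even_iff_odd.mpr hodd), pow_card_eq_one'] at h1
  simp only [one_mul, inv_one, mul_one] at h1
  -- x = x⁻¹, so x * x = 1
  have h2 : x * x = 1 := by
    nth_rewrite 1 [h1]; simp
  have h3 : orderOf x = 2 := orderOf_two_iff'.mpr ⟨hx, h2⟩
  have h4 : 2 ∣ Nat.card G := h3 ▸ orderOf_dvd_natCard x
  exact (Nat.not_even_iff_odd.mpr hodd) (even_iff_two_dvd.mpr h4)

end Cfsg.Agent.S0239
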