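import Cfsg.Statements.S0240
import Cfsg.Agent.Lib.Helper28.Invol
import Cfsg.Agent.S0235

set_option autoImplicit false
open Cfsg
open Cfsg.Agent.Lib.Helper28

namespace Cfsg.Agent.S0240

/-- Let G be a finite group with n involutions and H a subgroup with |H|·(n+1) > |G|. Then some nontrivial h ∈ H is strongly real in G: an involution t of G satisfies t h t⁻¹ = h⁻¹. -/
theorem result {G : Type*} [Group G] [Finite G] (H : Subgroup G) (hH : Nat.card G < Nat.card H * (Nat.card {t : G // orderOf t = 2} + 1)) : ∃ h : G, h ∈ H ∧ h ≠ 1 ∧ ∃ t : G, orderOf t = 2 ∧ t * h * t⁻¹ = h⁻¹ := by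
  classical
  have hidx : Nat.card (G ⧸ H) < Nat.card (Option {t : G // orderOf t = 2}) := by
    rw [Finite.card_option]
    have h1 : Nat.card G = Nat.card (G ⧸ H) * Nat.card H := Subgroup.card_eq_card_quotient_mul_card_subgroup H
    rw [h1, mul_comm] at hH
    have hpos : 0 < Nat.card H := Nat.card_pos
    exact lt_of_mul_lt_mul_left hH (Nat.zero_le _)
  let φ : Option {t : G // orderOf t = 2} → G ⧸ H := fun o =>
    match o with
    | none => ((1 : G) : G ⧸ H)
    | some t => ((t.1 : G) : G ⧸ H)
  have hninj : ¬ Function.Injective φ := fun hinj =>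
    absurd (Nat.card_le_card_of_injective φ hinj) (not_le.mpr hidx)
  simp only [Function.Injective, not_forall] at hninj
  obtain ⟨a, b, hφ, hab⟩ := hninj
  -- a general claim for two elements
  have key : ∀ (s t : G), (s = 1 ∨ orderOf s = 2) → (t = 1 ∨ orderOf t = 2) → s ≠ t →
      ((s : G) : G ⧸ H) = ((t : G) : G ⧸ H) →
      ∃ h : G, h ∈ H ∧ h ≠ 1 ∧ ∃ t : G, orderOf t = 2 ∧ t * h * t⁻¹ = h⁻¹ := by
    intro s t hs ht hne heq
    have hmem : s⁻¹ * t ∈ H := QuotientGroup.eq.mp heq
    rcases hs with rfl | hs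
    · rcases ht with rfl | ht
      · exact absurd rfl hne
      · have ht2 := (orderOf_two_iff'.mp ht).2
        have hti := inv_eq_self_of_mul_self ht2
        refine ⟨t, by simpa using hmem, (orderOf_two_iff'.mp ht).1, t, ht, ?_⟩
        rw [hti, ht2, one_mul]
    · have hs2 := (orderOf_two_iff'.mp hs).2
      have hsi := inv_eq_self_of_mul_self hs2
      rcases ht with rfl | ht
      · refine ⟨s, ?_, (orderOf_two_iff'.mp hs).1, s, hs, ?_⟩
        · have : s⁻¹ ∈ H := by simpa using hmem
          rwa [hsi] at this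
        · rw [hsi, hs2, one_mul]
      · rw [hsi] at hmem
        refine ⟨s * t, hmem, ?_, s, hs, Cfsg.Agent.S0235.inverts_of_pair hs ht⟩
        intro h1
        apply hne
        calc s = s * (s * t) := by rw [h1, mul_one]
          _ = (s * s) * t := by group
          _ = t := by rw [hs2, one_mul]
  rcases a with _ | a <;> rcases b with _ | b
  · exact absurd rfl hab
  · exact key 1 b.1 (Or.inl rfl) (Or.inr b.2) (fun h => (orderOf_two_iff'.mp b.2).1 h.symm) hφ
  · exact key a.1 1 (Or.inr a.2) (Or.inl rfl) (fun h => (orderOf_two_iff'.mp a.2).1 h) hφ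
  · refine key a.1 b.1 (Or.inr a.2) (Or.inr b.2) ?_ hφ
    intro h
    apply hab
    rw [Subtype.ext h]

end Cfsg.Agent.S0240
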