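import Cfsg.Statements.S0241
import Cfsg.Agent.Lib.Helper28.Invol

set_option autoImplicit false
open Cfsg
open Cfsg.Agent.Lib.Helper28

namespace Cfsg.Agent.S0241

/-- If x ≠ 1 is conjugate to x⁻¹ in a finite group G and |C_G(x)| is odd, then some involution t satisfies t x t⁻¹ = x⁻¹. -/
theorem result {G : Type*} [Group G] [Finite G] (x : G) (hx : x ≠ 1) (hreal : IsConj x x⁻¹) (hodd : Odd (Nat.card (Subgroup.centralizer ({x} : Set G)))) : ∃ t : G, orderOf t = 2 ∧ t * x * t⁻¹ = x⁻¹ := by
  obtain ⟨g, hg⟩ := isConj_iff.mp hreal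
  set n := Nat.card (Subgroup.centralizer ({x} : Set G)) with hn
  -- g * g centralizes x
  have hg2 : g * g ∈ Subgroup.centralizer ({x} : Set G) := by
    rw [Subgroup.mem_centralizer_singleton_iff]
    have h2 := conj_pow_of_inverts hg 2
    rw [if_pos (by decide), pow_two] at h2
    calc g * g * x = (g * g * x * (g * g)⁻¹) * (g * g) := by group
      _ = x * (g * g) := by rw [h2]
  have hpow : (g * g) ^ n = 1 := by
    have : (⟨g * g, hg2⟩ : Subgroup.centralizer ({x} : Set G)) ^ n = 1 := pow_card_eq_one'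
    exact congrArg Subtype.val this
  have ht2 : g ^ n * g ^ n = 1 := by
    rw [← pow_add, ← two_mul, pow_mul, pow_two]; exact hpow
  have htx := conj_pow_of_inverts hg n
  rw [if_neg (Nat.not_even_iff_odd.mpr hodd)] at htx
  refine ⟨g ^ n, ?_, htx⟩
  rw [orderOf_two_iff']
  refine ⟨?_, ht2⟩
  intro h1
  rw [h1] at htx
  simp only [one_mul, inv_one, mul_one] at htx
  -- x = x⁻¹ so x has order 2, x ∈ centralizer of odd order
  have hxx : x * x = 1 := by nth_rewrite 1 [htx]; simp
  have hxmem : x ∈ Subgroup.centralizer ({x} : Set G) := by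
    rw [Subgroup.mem_centralizer_singleton_iff]
  have hxpow : x ^ n = 1 := by
    have : (⟨x, hxmem⟩ : Subgroup.centralizer ({x} : Set G)) ^ n = 1 := pow_card_eq_one'
    exact congrArg Subtype.val this
  have h3 : orderOf x = 2 := orderOf_two_iff'.mpr ⟨hx, hxx⟩
  have h4 : 2 ∣ n := h3 ▸ orderOf_dvd_of_pow_eq_one hxpow
  exact (Nat.not_even_iff_odd.mpr hodd) (even_iff_two_dvd.mpr h4)

end Cfsg.Agent.S0241
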