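import Cfsg.Statements.S0247
import Mathlib
import Cfsg.Agent.Lib.Helper27.SymEmbed
import Cfsg.Agent.Lib.Helper27.SympOrder

set_option autoImplicit false
open Cfsg

namespace Cfsg.Agent.S0247

open Cfsg.Agent.Lib.Helper27.SymEmbed Matrix

/-- A ring homomorphism induces a homomorphism of symplectic groups. -/
def mapSp {R S : Type*} [CommRing R] [CommRing S] (m : ℕ)
    (f : R →+* S) : symplecticGroup (Fin m) R →* symplecticGroup (Fin m) S where
  toFun A := ⟨f.mapMatrix (A : Matrix (Fin m ⊕ Fin m) (Fin m ⊕ Fin m) R),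
    SymplecticGroup.map_mem A.2 f⟩
  map_one' := Subtype.ext (by
    simp only [OneMemClass.coe_one, map_one])
  map_mul' A B := Subtype.ext (by
    simp only [Submonoid.coe_mul, map_mul])

theorem mapSp_injective {R S : Type*} [CommRing R] [CommRing S] (m : ℕ)
    (f : R →+* S) (hf : Function.Injective f) : Function.Injective (mapSp m f) := by
  intro A B h
  apply Subtype.ext
  have h' : f.mapMatrix (A : Matrix (Fin m ⊕ Fin m) (Fin m ⊕ Fin m) R) =
      f.mapMatrix (B : Matrix (Fin m ⊕ Fin m) (Fin m ⊕ Fin m) R) :=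
    congrArg Subtype.val h
  ext i j
  apply hf
  have := congrFun (congrFun h' i) j
  simpa using this

/-- Sp_4(2) is isomorphic to the symmetric group S_6. -/
theorem result {F : Type*} [Field F] [Fintype F] (hF : Fintype.card F = 2) : Nonempty (Matrix.symplecticGroup (Fin 2) F ≃* Equiv.Perm (Fin 6)) := by
  haveI : Fact (Nat.Prime 2) := ⟨Nat.prime_two⟩
  have hcardF : Fintype.card (ZMod 2) = Fintype.card F := by rw [ZMod.card, hF]
  obtain ⟨φ⟩ : Nonempty (ZMod 2 ≃+* F) := ⟨FiniteField.ringEquivOfCardEq hcardF⟩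
  have hcard : Fintype.card (Fin 6) = Fintype.card (Pt 2) := by
    rw [card_Pt, Fintype.card_fin]
  obtain ⟨e⟩ : Nonempty (Fin 6 ≃ Pt 2) := ⟨Fintype.equivOfCardEq hcard⟩
  obtain ⟨g, hg⟩ : ∃ g : Equiv.Perm (Fin 6) →* Matrix.symplecticGroup (Fin 2) F,
      Function.Injective g := by
    refine ⟨((mapSp 2 (φ : ZMod 2 →+* F)).comp (embHom 2)).comp
      (e.permCongrHom : Equiv.Perm (Fin 6) →* Equiv.Perm (Pt 2)), ?_⟩
    rw [MonoidHom.coe_comp, MonoidHom.coe_comp]
    exact ((mapSp_injective 2 (φ : ZMod 2 →+* F) φ.injective).comp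
      (embHom_injective le_rfl)).comp e.permCongrHom.injective
  have h1 : Nat.card (Matrix.symplecticGroup (Fin 2) F) = 720 := by
    rw [Cfsg.Agent.Lib.Helper27.SympTransv.card_symplecticGroup hF 2]
    decide
  have h2 : Nat.card (Equiv.Perm (Fin 6)) = 720 := by
    rw [Nat.card_eq_fintype_card, Fintype.card_perm, Fintype.card_fin]
    rfl
  have hbij : Function.Bijective g := by
    have : Finite (Matrix.symplecticGroup (Fin 2) F) := Nat.finite_of_card_ne_zero (by rw [h1]; norm_num)
    exact Function.Injective.bijective_of_nat_card_le hg (by rw [h1, h2])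
  exact ⟨(MulEquiv.ofBijective g hbij).symm⟩

end Cfsg.Agent.S0247
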