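import Cfsg.Statements.S0250
import Cfsg.Agent.S0242
import Cfsg.Agent.S0243
import Mathlib

set_option autoImplicit false
open Cfsg

namespace Cfsg.Agent.S0250

open scoped LinearAlgebra.Projectivization

/-- SL_2(2) is isomorphic to S_3. -/
theorem result {F : Type*} [Field F] [Fintype F] (hF : Fintype.card F = 2) : Nonempty (Matrix.SpecialLinearGroup (Fin 2) F ≃* Equiv.Perm (Fin 3)) := by
  classical
  -- the projective line has three points
  have hP : Nat.card (ℙ F (Fin 2 → F)) = 3 := by
    rw [Projectivization.card_of_finrank_two F (Fin 2 → F) (by simp), Nat.card_eq_fintype_card, hF]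
  have : Finite (ℙ F (Fin 2 → F)) := Nat.finite_of_card_ne_zero (by omega)
  have : Fintype (ℙ F (Fin 2 → F)) := Fintype.ofFinite _
  -- card SL = 6
  have hSL : Nat.card (Matrix.SpecialLinearGroup (Fin 2) F) = 6 := by
    have h := Cfsg.Agent.S0242.result hF 2 (by norm_num)
    simp [Fin.prod_univ_two] at h
    rw [Nat.card_eq_fintype_card]
    exact h
  -- the action hom is injective
  have hker : (MulAction.toPermHom (Matrix.SpecialLinearGroup (Fin 2) F) (ℙ F (Fin 2 → F))).ker = ⊥ := by
    rw [Projectivization.SL_mulAction_ker]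
    have h := Cfsg.Agent.S0243.card_center_SL (F := F) 2 (by norm_num)
    rw [hF] at h
    simp at h
    rw [← Nat.card_eq_fintype_card] at h
    exact Subgroup.card_eq_one.mp h
  have hinj : Function.Injective (MulAction.toPermHom (Matrix.SpecialLinearGroup (Fin 2) F) (ℙ F (Fin 2 → F))) :=
    (MonoidHom.ker_eq_bot_iff _).mp hker
  have hcardPerm : Nat.card (Equiv.Perm (ℙ F (Fin 2 → F))) = 6 := by
    rw [Nat.card_eq_fintype_card, Fintype.card_perm, ← Nat.card_eq_fintype_card, hP]
    rfl
  have hbij : Function.Bijective (MulAction.toPermHom (Matrix.SpecialLinearGroup (Fin 2) F) (ℙ F (Fin 2 → F))) := by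
    have : Finite (Matrix.SpecialLinearGroup (Fin 2) F) := Nat.finite_of_card_ne_zero (by omega)
    rw [Nat.bijective_iff_injective_and_card]
    exact ⟨hinj, by rw [hSL, hcardPerm]⟩
  have e1 : Matrix.SpecialLinearGroup (Fin 2) F ≃* Equiv.Perm (ℙ F (Fin 2 → F)) :=
    MulEquiv.ofBijective _ hbij
  have e2 : ℙ F (Fin 2 → F) ≃ Fin 3 := Finite.equivFinOfCardEq hP
  exact ⟨e1.trans e2.permCongrHom⟩

end Cfsg.Agent.S0250
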