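import Cfsg.Statements.S0251
import Mathlib
import Cfsg.Agent.S0243
-- import your own Cfsg.Agent.* helpers here

set_option autoImplicit false
open Cfsg

namespace Cfsg.Agent.S0251

open scoped LinearAlgebra.Projectivization

/-- PSL_2(3) is isomorphic to A_4. -/
theorem result {F : Type*} [Field F] [Fintype F] (hF : Fintype.card F = 3) : Nonempty (Matrix.ProjectiveSpecialLinearGroup (Fin 2) F ≃* alternatingGroup (Fin 4)) := by
  classical
  have hP : Nat.card (ℙ F (Fin 2 → F)) = 4 := by
    rw [Projectivization.card_of_finrank_two F (Fin 2 → F) (by simp), Nat.card_eq_fintype_card, hF]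
  have : Finite (ℙ F (Fin 2 → F)) := Nat.finite_of_card_ne_zero (by omega)
  have hcard : Nat.card (Matrix.ProjectiveSpecialLinearGroup (Fin 2) F) = 12 := by
    have := Cfsg.Agent.S0243.result hF 2 le_rfl
    rw [Fin.prod_univ_two] at this
    norm_num at this
    rw [Nat.card_eq_fintype_card]
    omega
  have e2 : ℙ F (Fin 2 → F) ≃ Fin 4 := Finite.equivFinOfCardEq hP
  let ψ : Matrix.ProjectiveSpecialLinearGroup (Fin 2) F →* Equiv.Perm (Fin 4) :=
    (e2.permCongrHom.toMonoidHom).comp (Projectivization.PSLAction.toPermHom (K := F) (ι := Fin 2))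
  have hψ : Function.Injective ψ :=
    e2.permCongrHom.injective.comp Matrix.ProjectiveSpecialLinearGroup.toPermHom_injective
  have e : Matrix.ProjectiveSpecialLinearGroup (Fin 2) F ≃* ψ.range := MonoidHom.ofInjective hψ
  have hcr : Nat.card ψ.range = 12 := by rw [← hcard]; exact (Nat.card_congr e.toEquiv).symm
  have hidx : ψ.range.index = 2 := by
    have h1 := ψ.range.card_mul_index
    rw [Nat.card_perm, Nat.card_fin, hcr] at h1
    have : (4 : ℕ).factorial = 24 := by decide
    omega
  have := Equiv.Perm.eq_alternatingGroup_of_index_eq_two hidx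
  rw [this] at e
  exact ⟨e⟩

end Cfsg.Agent.S0251
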