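import Cfsg.Statements.S0257
import Cfsg.Agent.Lib.Helper9.SL23Structure

set_option autoImplicit false
open Cfsg

namespace Cfsg.Agent.S0257

/-- a ring isomorphism induces an isomorphism of special linear groups -/
noncomputable def slCongr {n : Type*} [DecidableEq n] [Fintype n] {R S : Type*} [CommRing R]
    [CommRing S] (e : R ≃+* S) :
    Matrix.SpecialLinearGroup n R ≃* Matrix.SpecialLinearGroup n S where
  toFun := Matrix.SpecialLinearGroup.map e.toRingHom
  invFun := Matrix.SpecialLinearGroup.map e.symm.toRingHom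
  left_inv := by
    intro A
    apply Subtype.ext
    ext i j
    show e.symm (e ((A : Matrix n n R) i j)) = _
    exact e.symm_apply_apply _
  right_inv := by
    intro A
    apply Subtype.ext
    ext i j
    show e (e.symm ((A : Matrix n n S) i j)) = _
    exact e.apply_symm_apply _
  map_mul' := map_mul _

/-- SL_2(3) has a normal subgroup of index 3 isomorphic to the quaternion group of order 8, and its centre has order 2. -/
theorem result {F : Type*} [Field F] [Fintype F] (hF : Fintype.card F = 3) : (∃ Q : Subgroup (Matrix.SpecialLinearGroup (Fin 2) F), Q.Normal ∧ Q.index = 3 ∧ Nonempty (Q ≃* QuaternionGroup 2)) ∧ Nat.card (Subgroup.center (Matrix.SpecialLinearGroup (Fin 2) F)) = 2 := by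
  classical
  have e : ZMod 3 ≃+* F := ZMod.ringEquivOfPrime F (by norm_num) hF
  have ε : Matrix.SpecialLinearGroup (Fin 2) F ≃* Matrix.SpecialLinearGroup (Fin 2) (ZMod 3) :=
    slCongr e.symm
  constructor
  · refine ⟨Cfsg.Agent.Lib.Helper9.SLTwoThree.quat8.comap ε.toMonoidHom, ?_, ?_, ?_⟩
    · exact Subgroup.Normal.comap inferInstance _
    · rw [Subgroup.index_comap_of_surjective _ ε.surjective]
      have h1 := Subgroup.card_mul_index Cfsg.Agent.Lib.Helper9.SLTwoThree.quat8
      rw [Cfsg.Agent.Lib.Helper9.SLTwoThree.card_quat8,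
        Cfsg.Agent.Lib.Helper9.SLTwoThree.card_SL23] at h1
      omega
    · obtain ⟨f⟩ := Cfsg.Agent.Lib.Helper9.SLTwoThree.nonempty_quat8_mulEquiv
      have hmap : (Cfsg.Agent.Lib.Helper9.SLTwoThree.quat8.comap ε.toMonoidHom).map ε.toMonoidHom
          = Cfsg.Agent.Lib.Helper9.SLTwoThree.quat8 :=
        Subgroup.map_comap_eq_self_of_surjective ε.surjective _
      exact ⟨((ε.subgroupMap _).trans (MulEquiv.subgroupCongr hmap)).trans f⟩
  · rw [Nat.card_congr (Subgroup.centerCongr ε).toEquiv]
    exact Cfsg.Agent.Lib.Helper9.SLTwoThree.card_center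

end Cfsg.Agent.S0257
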