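import Mathlib
import Cfsg.Statements.S0262
import Cfsg.Agent.Lib.Helper12.SL2
import Cfsg.Agent.Lib.Lead.UniqueSubgroup

set_option autoImplicit false
set_option linter.style.haveILetI false
open Cfsg

namespace Cfsg.Agent.S0262

open Matrix Subgroup
open Cfsg.Agent.Lib.Helper12.SL2

variable {F : Type*} [Field F]

local notation "SL2" => Matrix.SpecialLinearGroup (Fin 2)
local notation "M2" => Matrix (Fin 2) (Fin 2)

/-- The norm element `1 + A + ⋯ + A ^ (r - 1)`. -/
def Nm (A : M2 F) (r : ℕ) : M2 F := ∑ k ∈ Finset.range r, A ^ k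

theorem mul_Nm (A : M2 F) (r : ℕ) (hA : A ^ r = 1) : A * Nm A r = Nm A r := by
  unfold Nm
  rw [Finset.mul_sum]
  have h1 : ∑ k ∈ Finset.range r, A * A ^ k = ∑ k ∈ Finset.range r, A ^ (k + 1) := by
    apply Finset.sum_congr rfl
    intro k _
    rw [pow_succ']
  rw [h1]
  have h2 := Finset.sum_range_succ' (fun k => A ^ k) r
  have h3 := Finset.sum_range_succ (fun k => A ^ k) r
  rw [h3, hA, pow_zero] at h2
  exact (add_right_cancel h2).symm

section

variable {p : ℕ} [Fact p.Prime] [CharP F p]

theorem Nm_eq_zero {r : ℕ} (hr : r.Prime) (hrp : r ≠ p) (g : SL2 F) (hg : g ^ r = 1)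
    (hg1 : g ≠ 1) : Nm (g : M2 F) r = 0 := by
  have hA : (g : M2 F) ^ r = 1 := by
    rw [← Matrix.SpecialLinearGroup.coe_pow, hg, Matrix.SpecialLinearGroup.coe_one]
  have hfix : ∀ v : Fin 2 → F, (Nm (g : M2 F) r).mulVec v = 0 := by
    intro v
    by_contra hne
    have hgw : g • ((Nm (g : M2 F) r).mulVec v) = (Nm (g : M2 F) r).mulVec v := by
      show (g : M2 F).mulVec ((Nm (g : M2 F) r).mulVec v) = _
      rw [Matrix.mulVec_mulVec, mul_Nm _ _ hA]
    have hp := pow_p_eq_one_of_fix (p := p) g _ hne hgw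
    have h1 : orderOf g ∣ p := orderOf_dvd_of_pow_eq_one hp
    have h2 : orderOf g ∣ r := orderOf_dvd_of_pow_eq_one hg
    have hcop : Nat.Coprime p r := by
      rw [Nat.coprime_primes (Fact.out : p.Prime) hr]
      exact fun h => hrp h.symm
    have h3 : orderOf g ∣ 1 := by
      rw [← hcop.gcd_eq_one]; exact Nat.dvd_gcd h1 h2
    exact hg1 (orderOf_eq_one_iff.mp (Nat.dvd_one.mp h3))
  ext i j
  have := congrFun (hfix (Pi.single j 1)) i
  simpa using this

theorem sum_identity (X Y : M2 F) (hXY : Commute X Y) (r : ℕ) :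
    ∑ j ∈ Finset.range r, Nm (X * Y ^ j) r = ∑ k ∈ Finset.range r, X ^ k * Nm (Y ^ k) r := by
  unfold Nm
  rw [Finset.sum_comm]
  apply Finset.sum_congr rfl
  intro k _
  rw [Finset.mul_sum]
  apply Finset.sum_congr rfl
  intro j _
  rw [(hXY.pow_right j).mul_pow, ← pow_mul, ← pow_mul, mul_comm j k]

theorem mem_zpowers_of_commute {r : ℕ} (hr : r.Prime) (hrp : r ≠ p) (x y : SL2 F)
    (hxy : x * y = y * x) (hx : x ^ r = 1) (hx1 : x ≠ 1) (hy : y ^ r = 1) : y ∈ zpowers x := by
  by_contra hyn
  have hy1 : y ≠ 1 := fun h => hyn (h ▸ one_mem _)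
  haveI : Fact r.Prime := ⟨hr⟩
  have hoy : orderOf y = r := orderOf_eq_prime hy hy1
  have hcomm : Commute x y := hxy
  -- the elements `x * y ^ j`
  have h1 : ∀ j : ℕ, Nm ((x : M2 F) * (y : M2 F) ^ j) r = 0 := by
    intro j
    have e : (x : M2 F) * (y : M2 F) ^ j = ((x * y ^ j : SL2 F) : M2 F) := by
      rw [Matrix.SpecialLinearGroup.coe_mul, Matrix.SpecialLinearGroup.coe_pow]
    rw [e]
    apply Nm_eq_zero (p := p) hr hrp
    · rw [(hcomm.pow_right j).mul_pow, hx, one_mul, ← pow_mul, mul_comm, pow_mul, hy, one_pow]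
    · intro h
      have hyj : y ^ j = x⁻¹ := by
        rw [eq_inv_iff_mul_eq_one, ← (hcomm.pow_right j).eq]
        exact h
      by_cases hj : r ∣ j
      · obtain ⟨m, rfl⟩ := hj
        rw [pow_mul, hy, one_pow] at hyj
        exact hx1 (inv_eq_one.mp hyj.symm)
      · have hcop : Nat.Coprime j r := (Nat.Coprime.symm ((Nat.Prime.coprime_iff_not_dvd hr).mpr hj))
        apply hyn
        have hb := Nat.gcd_eq_gcd_ab j r
        rw [hcop.gcd_eq_one] at hb
        have : y = (y ^ j) ^ (Nat.gcdA j r) * (y ^ r) ^ (Nat.gcdB j r) := by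
          rw [← zpow_natCast y j, ← zpow_natCast y r, ← _root_.zpow_mul, ← _root_.zpow_mul, ← _root_.zpow_add, ← hb]
          simp
        rw [this, hy, _root_.one_zpow, mul_one, hyj]
        exact zpow_mem (inv_mem (mem_zpowers x)) _
  -- the elements `y ^ k`
  have h2 : ∀ k ∈ Finset.range r, k ≠ 0 → (x : M2 F) ^ k * Nm ((y : M2 F) ^ k) r = 0 := by
    intro k hk hk0
    have e : (y : M2 F) ^ k = ((y ^ k : SL2 F) : M2 F) := by
      rw [Matrix.SpecialLinearGroup.coe_pow]
    rw [e, Nm_eq_zero (p := p) hr hrp, mul_zero]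
    · rw [← pow_mul, mul_comm, pow_mul, hy, one_pow]
    · intro h
      have := orderOf_dvd_of_pow_eq_one h
      rw [hoy] at this
      have := Nat.le_of_dvd (Nat.pos_of_ne_zero hk0) this
      have := Finset.mem_range.mp hk
      omega
  have hid := sum_identity (x : M2 F) (y : M2 F)
    (by
      show (x : M2 F) * (y : M2 F) = (y : M2 F) * (x : M2 F)
      rw [← Matrix.SpecialLinearGroup.coe_mul, ← Matrix.SpecialLinearGroup.coe_mul, hxy]) r
  rw [Finset.sum_eq_zero (fun j _ => h1 j)] at hid
  have hr0 : 0 ∈ Finset.range r := Finset.mem_range.mpr hr.pos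
  rw [Finset.sum_eq_single_of_mem 0 hr0 (fun k hk hk0 => h2 k hk hk0)] at hid
  simp only [pow_zero, one_mul] at hid
  unfold Nm at hid
  simp only [one_pow, Finset.sum_const, Finset.card_range] at hid
  have h00 := congrFun (congrFun hid 0) 0
  simp only [Matrix.zero_apply, Matrix.smul_apply, Matrix.one_apply_eq, nsmul_eq_mul, mul_one] at h00
  have hpr : p ∣ r := (CharP.cast_eq_zero_iff F p r).mp h00.symm
  exact hrp ((Nat.prime_dvd_prime_iff_eq (Fact.out : p.Prime) hr).mp hpr).symm

end

open Cfsg.Agent.Lib.Lead.UniqueOrderP Cfsg.Agent.Lib.Lead.UniqueSubgroup in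
/-- For an odd prime r different from the characteristic, the Sylow r-subgroups of SL_2(q) are cyclic. -/
theorem result {F : Type*} [Field F] [Fintype F] (p : ℕ) [Fact p.Prime] [CharP F p] (r : ℕ) [Fact r.Prime] (hr : r ≠ 2) (hrp : r ≠ p) (R : Sylow r (Matrix.SpecialLinearGroup (Fin 2) F)) : IsCyclic (R : Subgroup (Matrix.SpecialLinearGroup (Fin 2) F)) := by
  have hrP : r.Prime := Fact.out
  have hR : IsPGroup r (R : Subgroup (SL2 F)) := R.isPGroup'
  have huniq : UniqueOrderP r (R : Subgroup (SL2 F)) := by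
    intro H K hH hK
    haveI : Nontrivial (R : Subgroup (SL2 F)) := by
      have : 1 < Nat.card H := by rw [hH]; exact hrP.one_lt
      obtain ⟨a, b, hab⟩ := (Finite.one_lt_card_iff_nontrivial.mp this)
      exact ⟨⟨a.1, b.1, fun h => hab (Subtype.ext h)⟩⟩
    haveI := hR.center_nontrivial
    have hZ : IsPGroup r (center (R : Subgroup (SL2 F))) := hR.to_subgroup _
    have hdvd : r ∣ Nat.card (center (R : Subgroup (SL2 F))) := by
      obtain ⟨n, hn⟩ := hZ.exists_card_eq
      rw [hn]
      have : n ≠ 0 := by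
        rintro rfl
        rw [pow_zero] at hn
        have := (Finite.one_lt_card_iff_nontrivial.mpr
          (inferInstance : Nontrivial (center (R : Subgroup (SL2 F)))))
        omega
      exact dvd_pow_self r this
    obtain ⟨z, hz⟩ := exists_prime_orderOf_dvd_card' r hdvd
    have hz1 : (z : (R : Subgroup (SL2 F))) ≠ 1 := by
      intro h
      have : z = 1 := Subtype.ext h
      rw [this, orderOf_one] at hz
      exact hrP.ne_one hz.symm
    have hzr : (z : (R : Subgroup (SL2 F))) ^ r = 1 := by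
      have := pow_orderOf_eq_one z
      rw [hz] at this
      exact congrArg Subtype.val this
    have key : ∀ H : Subgroup (R : Subgroup (SL2 F)), Nat.card H = r →
        H = zpowers (z : (R : Subgroup (SL2 F))) := by
      intro H hH
      apply Subgroup.eq_of_le_of_card_ge
      · intro h hh
        have hhr : h ^ r = 1 := by
          have := pow_card_eq_one' (G := H) (x := ⟨h, hh⟩)
          rw [hH] at this
          exact congrArg Subtype.val this
        have hcomm : (z : (R : Subgroup (SL2 F))) * h = h * z :=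
          (Subgroup.mem_center_iff.mp z.2 h).symm
        have := mem_zpowers_of_commute (p := p) hrP hrp
          ((z : (R : Subgroup (SL2 F))) : SL2 F) (h : SL2 F)
          (by exact_mod_cast congrArg Subtype.val hcomm)
          (by exact_mod_cast congrArg Subtype.val hzr)
          (fun h1 => hz1 (Subtype.ext h1))
          (by exact_mod_cast congrArg Subtype.val hhr)
        obtain ⟨k, hk⟩ := Subgroup.mem_zpowers_iff.mp this
        rw [Subgroup.mem_zpowers_iff]
        refine ⟨k, Subtype.ext ?_⟩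
        rw [Subgroup.coe_zpow]
        exact hk
      · rw [hH, Nat.card_zpowers]
        have : orderOf (z : (R : Subgroup (SL2 F))) = orderOf z :=
          Subgroup.orderOf_coe z
        rw [this, hz]
    rw [key H hH, key K hK]
  rcases cyclic_or_quaternion hR huniq with h | ⟨h2, -⟩
  · exact h
  · exact absurd h2 hr

end Cfsg.Agent.S0262
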