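import Cfsg.Statements.S0264
import Mathlib

set_option autoImplicit false
open Cfsg Matrix

namespace Cfsg.Agent.S0264

section
variable {F : Type*} [Field F] {n : ℕ}

theorem comm_identity {R : Type*} [Ring R] (A B : R) (hA : A * A = 0) (hB : B * B = 0) (hBA : B * A = 0) :
    (1 + A) * (1 + B) * (1 - A) * (1 - B) = 1 + A * B := by
  have h1 : A * (A * B) = 0 := by rw [← mul_assoc, hA, zero_mul]
  have h2 : B * (A * B) = 0 := by rw [← mul_assoc, hBA, zero_mul]
  have h3 : A * B * A = 0 := by rw [mul_assoc, hBA, mul_zero]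
  have h4 : A * B * B = 0 := by rw [mul_assoc, hB, mul_zero]
  have e1 : (1 + A) * (1 + B) = 1 + A + B + A * B := by noncomm_ring
  have e2 : (1 - A) * (1 - B) = 1 - A - B + A * B := by noncomm_ring
  rw [mul_assoc, e1, e2]
  have : (1 + A + B + A * B) * (1 - A - B + A * B) =
      1 + A * B + (A * (A * B) + B * (A * B) - A * A - B * B - B * A - A * B * A - A * B * B + A * B * (A * B)) := by
    noncomm_ring
  rw [this, h1, h2, hA, hB, hBA, h3, h4, mul_assoc A B (A*B), h2]
  simp

/-- transvection as an element of GL -/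
def tv (i j : Fin n) (hij : i ≠ j) (c : F) : GL (Fin n) F :=
  ⟨transvection i j c, transvection i j (-c),
    (transvection_mul_transvection_same i j hij c (-c)).trans (by simp),
    (transvection_mul_transvection_same i j hij (-c) c).trans (by simp)⟩

theorem tv_val (i j : Fin n) (hij : i ≠ j) (c : F) : ((tv i j hij c : GL (Fin n) F) : Matrix (Fin n) (Fin n) F) = transvection i j c := rfl

theorem tv_inv (i j : Fin n) (hij : i ≠ j) (c : F) : (tv i j hij c)⁻¹ = tv i j hij (-c) := by
  apply Units.ext
  rfl

/-- three-index commutator -/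
theorem tv_comm3 (i j k : Fin n) (hij : i ≠ j) (hik : i ≠ k) (hkj : k ≠ j) (b : F) :
    tv i k hik b * tv k j hkj 1 * (tv i k hik b)⁻¹ * (tv k j hkj 1)⁻¹ = tv i j hij b := by
  rw [tv_inv, tv_inv]
  apply Units.ext
  simp only [Units.val_mul, tv_val, transvection]
  have := comm_identity (Matrix.single i k b) (Matrix.single k j (1:F))
    (single_mul_single_of_ne _ _ _ _ hik.symm _) (single_mul_single_of_ne _ _ _ _ hkj.symm _)
    (single_mul_single_of_ne _ _ _ _ hij.symm _)
  rw [single_mul_single_same, mul_one] at this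
  rw [← this]
  simp [sub_eq_add_neg, single_neg]


theorem comm_mem (a b : GL (Fin n) F) : a * b * a⁻¹ * b⁻¹ ∈ commutator (GL (Fin n) F) := by
  rw [commutator_def, ← commutatorElement_def]
  exact Subgroup.commutator_mem_commutator (Subgroup.mem_top a) (Subgroup.mem_top b)

/-- diagonal matrices as a homomorphism into GL -/
def dg : (Fin n → Fˣ) →* GL (Fin n) F :=
  (Units.map (Matrix.diagonalRingHom (Fin n) F).toMonoidHom).comp MulEquiv.piUnits.symm.toMonoidHom

theorem dg_val (u : Fin n → Fˣ) : ((dg u : GL (Fin n) F) : Matrix (Fin n) (Fin n) F) = diagonal (fun i => (u i : F)) := by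
  rfl

/-- permutation matrix as element of GL -/
def pm (σ : Equiv.Perm (Fin n)) : GL (Fin n) F :=
  ⟨σ.permMatrix F, σ⁻¹.permMatrix F, by rw [← Matrix.permMatrix_mul]; simp, by rw [← Matrix.permMatrix_mul]; simp⟩

theorem pm_conj_dg (σ : Equiv.Perm (Fin n)) (u : Fin n → Fˣ) :
    pm σ * dg u * (pm σ)⁻¹ = dg (u ∘ σ) := by
  apply Units.ext
  show σ.permMatrix F * diagonal (fun i => (u i : F)) * σ⁻¹.permMatrix F = diagonal (fun i => ((u ∘ σ) i : F))
  rw [Equiv.Perm.permMatrix, Equiv.Perm.permMatrix, PEquiv.toMatrix_toPEquiv_mul, PEquiv.mul_toMatrix_toPEquiv]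
  ext x y
  have : (Equiv.symm σ⁻¹) y = σ y := rfl
  simp [Matrix.submatrix_apply, Matrix.diagonal_apply, this]


theorem dg_conj_tv (i j : Fin n) (hij : i ≠ j) (a : Fˣ) (c : F) :
    dg (Pi.mulSingle i a) * tv i j hij c * (dg (Pi.mulSingle i a))⁻¹ = tv i j hij ((a : F) * c) := by
  rw [← map_inv]
  apply Units.ext
  simp only [Units.val_mul, dg_val, tv_val, transvection]
  ext x y
  rw [Matrix.mul_diagonal, Matrix.diagonal_mul]
  simp only [Matrix.add_apply, Matrix.one_apply, Matrix.single_apply, Pi.inv_apply]
  by_cases hx : x = i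
  · subst hx
    by_cases hy : y = j
    · subst hy
      simp [hij, hij.symm, Pi.mulSingle_apply]
    · by_cases hxy : x = y
      · subst hxy
        simp [hij, Ne.symm hy, Pi.mulSingle_apply]
      · simp [hy, hxy, Ne.symm hy, Pi.mulSingle_apply]
  · by_cases hxy : x = y
    · subst hxy
      simp [hx, Ne.symm hx, Pi.mulSingle_apply]
    · simp [hx, Ne.symm hx, hxy, Pi.mulSingle_apply]

theorem tv_mem_of_field (i j : Fin n) (hij : i ≠ j) (c : F) (a : F) (ha0 : a ≠ 0) (ha1 : a ≠ 1) :
    tv i j hij c ∈ commutator (GL (Fin n) F) := by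
  have ha1' : a - 1 ≠ 0 := sub_ne_zero.mpr ha1
  have key := comm_mem (dg (Pi.mulSingle i (Units.mk0 a ha0)) : GL (Fin n) F) (tv i j hij (c / (a - 1)))
  rw [dg_conj_tv, tv_inv] at key
  convert key using 1
  apply Units.ext
  simp only [Units.val_mul, tv_val, Units.val_mk0]
  rw [transvection_mul_transvection_same i j hij]
  congr 1
  field_simp
  ring

theorem tv_mem_of_three (i j : Fin n) (hij : i ≠ j) (c : F) (k : Fin n) (hik : i ≠ k) (hkj : k ≠ j) :
    tv i j hij c ∈ commutator (GL (Fin n) F) := by
  rw [← tv_comm3 i j k hij hik hkj c]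
  exact comm_mem _ _


/-- image of the diagonal torus in the abelianization -/
noncomputable def psi : (Fin n → Fˣ) →* Abelianization (GL (Fin n) F) :=
  (Abelianization.of).comp dg

theorem psi_comp_perm (σ : Equiv.Perm (Fin n)) (u : Fin n → Fˣ) : psi (u ∘ σ) = psi u := by
  unfold psi
  simp only [MonoidHom.comp_apply]
  rw [← pm_conj_dg, map_mul, map_mul, map_inv, mul_comm, ← mul_assoc, inv_mul_cancel, one_mul]

theorem psi_mulSingle (i j : Fin n) (a : Fˣ) : (psi (Pi.mulSingle i a) : Abelianization (GL (Fin n) F)) = psi (Pi.mulSingle j a) := by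
  rw [← psi_comp_perm (Equiv.swap i j) (Pi.mulSingle i a)]
  congr 1
  ext x
  simp only [Function.comp_apply, Pi.mulSingle_apply]
  by_cases hx : x = j
  · subst hx; simp
  · by_cases hxi : x = i
    · subst hxi
      simp [hx, Ne.symm hx]
    · simp [Equiv.swap_apply_of_ne_of_ne hxi hx, hx, hxi]

theorem psi_eq_one (u : Fin n → Fˣ) (hu : ∏ i, u i = 1) : (psi u : Abelianization (GL (Fin n) F)) = 1 := by
  rcases isEmpty_or_nonempty (Fin n) with hn | ⟨⟨i₀⟩⟩
  · have : u = 1 := Subsingleton.elim _ _
    rw [this, map_one]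
  · have h1 : u = ∏ i, Pi.mulSingle i (u i) := (Finset.univ_prod_mulSingle u).symm
    rw [h1, map_prod]
    have h2 : ∀ i ∈ Finset.univ, (psi (Pi.mulSingle i (u i)) : Abelianization (GL (Fin n) F)) = (psi.comp (MonoidHom.mulSingle (fun _ : Fin n => Fˣ) i₀)) (u i) := by
      intro i _
      rw [psi_mulSingle i i₀]
      rfl
    rw [Finset.prod_congr rfl h2, ← map_prod, hu, map_one]

theorem dg_mem (u : Fin n → Fˣ) (hu : ∏ i, u i = 1) : dg u ∈ commutator (GL (Fin n) F) := by
  rw [← Abelianization.ker_of, MonoidHom.mem_ker]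
  exact psi_eq_one u hu


end

/-- GL_n(F)' = SL_n(F) (as the kernel of det), for every field F and every n, except n = 2 over the field of two elements. -/
theorem result {F : Type*} [Field F] (n : ℕ) (h : n = 2 → ∃ a : F, a ≠ 0 ∧ a ≠ 1) : commutator (Matrix.GeneralLinearGroup (Fin n) F) = (Matrix.GeneralLinearGroup.det : Matrix.GeneralLinearGroup (Fin n) F →* Fˣ).ker := by
  apply le_antisymm
  · exact Abelianization.commutator_subset_ker _
  · intro g hg
    rw [MonoidHom.mem_ker] at hg
    have hdet : (g : Matrix (Fin n) (Fin n) F).det = 1 := by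
      have := congrArg Units.val hg
      simpa using this
    let P : Matrix (Fin n) (Fin n) F → Prop := fun A =>
      ∃ g' : GL (Fin n) F, g' ∈ commutator (GL (Fin n) F) ∧ (g' : Matrix (Fin n) (Fin n) F) = A
    have hP : P (g : Matrix (Fin n) (Fin n) F) := by
      apply Matrix.diagonal_transvection_induction P
      · intro D hD
        rw [hdet, Matrix.det_diagonal] at hD
        have hD0 : ∀ i, D i ≠ 0 := by
          intro i hi
          have : ∏ i, D i = 0 := Finset.prod_eq_zero (Finset.mem_univ i) hi
          rw [this] at hD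
          exact zero_ne_one hD
        refine ⟨dg (fun i => Units.mk0 (D i) (hD0 i)), dg_mem _ ?_, ?_⟩
        · apply Units.ext
          rw [Units.coe_prod]
          simpa using hD
        · rw [dg_val]
          simp
      · intro t
        obtain ⟨i, j, hij, c⟩ := t
        refine ⟨tv i j hij c, ?_, rfl⟩
        by_cases ha : ∃ a : F, a ≠ 0 ∧ a ≠ 1
        · obtain ⟨a, ha0, ha1⟩ := ha
          exact tv_mem_of_field i j hij c a ha0 ha1
        · have hn2 : n ≠ 2 := fun h2 => ha (h h2)
          have hcard : 2 < Fintype.card (Fin n) := by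
            rw [Fintype.card_fin]
            have : 1 < n := by
              by_contra hlt
              push_neg at hlt
              have : i = j := by
                apply Fin.ext
                have := i.2; have := j.2
                omega
              exact hij this
            omega
          obtain ⟨k, hk⟩ : ∃ k : Fin n, k ∉ ({i, j} : Finset (Fin n)) := by
            by_contra hcon
            push_neg at hcon
            have : Finset.univ ⊆ ({i, j} : Finset (Fin n)) := fun x _ => hcon x
            have := Finset.card_le_card this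
            rw [Finset.card_univ] at this
            have h2 : ({i, j} : Finset (Fin n)).card ≤ 2 := Finset.card_le_two
            omega
          simp only [Finset.mem_insert, Finset.mem_singleton, not_or] at hk
          exact tv_mem_of_three i j hij c k (Ne.symm hk.1) hk.2
      · rintro A B ⟨a, ha, rfl⟩ ⟨b, hb, rfl⟩
        exact ⟨a * b, mul_mem ha hb, rfl⟩
    obtain ⟨g', hg', hgg'⟩ := hP
    have : g' = g := Units.ext hgg'
    rw [← this]
    exact hg'

end Cfsg.Agent.S0264
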