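import Mathlib
import Cfsg.Statements.S0265

set_option autoImplicit false
open Cfsg

namespace Cfsg.Agent.S0265

open Matrix in
/-- |PGL_n(q)| = |SL_n(q)|: GL_n modulo its centre (the q-1 non-zero scalars) has the same order as the kernel of det. -/
theorem result {F : Type*} [Field F] [Fintype F] (n : ℕ) : Nat.card (Matrix.ProjGenLinGroup (Fin n) F) = Nat.card (Matrix.SpecialLinearGroup (Fin n) F) := by
  rcases Nat.eq_zero_or_pos n with rfl | hn
  · have h1 : Subsingleton (Matrix.ProjGenLinGroup (Fin 0) F) :=
      Matrix.ProjGenLinGroup.mk_surjective.subsingleton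
    have h2 : Subsingleton (Matrix.SpecialLinearGroup (Fin 0) F) :=
      ⟨fun a b => Subtype.ext (Subsingleton.elim _ _)⟩
    rw [Nat.card_of_subsingleton (1 : Matrix.ProjGenLinGroup (Fin 0) F),
      Nat.card_of_subsingleton (1 : Matrix.SpecialLinearGroup (Fin 0) F)]
  · have : Nonempty (Fin n) := ⟨⟨0, hn⟩⟩
    have hpos : 0 < Nat.card Fˣ := Nat.card_pos
    -- GL = PGL * center
    have e1 : Nat.card (GL (Fin n) F) =
        Nat.card (Matrix.ProjGenLinGroup (Fin n) F) * Nat.card (Subgroup.center (GL (Fin n) F)) :=
      Subgroup.card_eq_card_quotient_mul_card_subgroup (Subgroup.center (GL (Fin n) F))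
    have hinj : Function.Injective (GeneralLinearGroup.scalar (Fin n) : Fˣ →* GL (Fin n) F) := by
      intro a b hab
      have := congrArg (fun g : GL (Fin n) F => (g : Matrix (Fin n) (Fin n) F) ⟨0, hn⟩ ⟨0, hn⟩) hab
      simpa [Units.ext_iff] using this
    have e2 : Nat.card (Subgroup.center (GL (Fin n) F)) = Nat.card Fˣ := by
      rw [GeneralLinearGroup.center_eq_range_scalar]
      exact (Nat.card_congr (MonoidHom.ofInjective hinj).toEquiv).symm
    -- GL = ker det * units
    have e3 : Nat.card (GL (Fin n) F) =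
        Nat.card (GL (Fin n) F ⧸ (GeneralLinearGroup.det : GL (Fin n) F →* Fˣ).ker) *
          Nat.card (GeneralLinearGroup.det : GL (Fin n) F →* Fˣ).ker :=
      Subgroup.card_eq_card_quotient_mul_card_subgroup _
    have e4 : Nat.card (GL (Fin n) F ⧸ (GeneralLinearGroup.det : GL (Fin n) F →* Fˣ).ker) =
        Nat.card Fˣ :=
      Nat.card_congr (QuotientGroup.quotientKerEquivOfSurjective _
        GeneralLinearGroup.det_surjective).toEquiv
    have e5 : Nat.card (GeneralLinearGroup.det : GL (Fin n) F →* Fˣ).ker =
        Nat.card (Matrix.SpecialLinearGroup (Fin n) F) := by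
      refine (Nat.card_congr ?_).symm
      refine Equiv.ofBijective
        (fun g : Matrix.SpecialLinearGroup (Fin n) F =>
          (⟨SpecialLinearGroup.toGL g, by
            rw [MonoidHom.mem_ker]; ext; simp⟩ :
            (GeneralLinearGroup.det : GL (Fin n) F →* Fˣ).ker)) ⟨?_, ?_⟩
      · intro a b hab
        have := congrArg Subtype.val hab
        exact SpecialLinearGroup.toGL_injective this
      · rintro ⟨g, hg⟩
        rw [MonoidHom.mem_ker] at hg
        refine ⟨⟨(g : Matrix (Fin n) (Fin n) F), ?_⟩, ?_⟩
        · have := congrArg Units.val hg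
          simpa using this
        · ext; rfl
    rw [e2] at e1
    rw [e4, e5] at e3
    have : Nat.card (Matrix.ProjGenLinGroup (Fin n) F) * Nat.card Fˣ =
        Nat.card Fˣ * Nat.card (Matrix.SpecialLinearGroup (Fin n) F) := by
      rw [← e1, ← e3]
    rw [mul_comm] at this
    exact Nat.eq_of_mul_eq_mul_left hpos this

end Cfsg.Agent.S0265
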