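import Mathlib
import Cfsg.Statements.S0266

set_option autoImplicit false
set_option linter.style.haveILetI false
set_option linter.unusedSectionVars false
open Cfsg

namespace Cfsg.Agent.S0266

open scoped MatrixGroups LinearAlgebra.Projectivization
open Matrix Projectivization

variable {F : Type*} [Field F]

/-- The determinant of two vectors of the plane. -/
def dt (u v : Fin 2 → F) : F := u 0 * v 1 - u 1 * v 0

theorem dt_ne_zero_of_ne (u v : Fin 2 → F) (hu : u ≠ 0) (hv : v ≠ 0)
    (h : Projectivization.mk F u hu ≠ Projectivization.mk F v hv) : dt u v ≠ 0 := by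
  intro hd
  apply h
  rw [mk_eq_mk_iff']
  unfold dt at hd
  by_cases hv0 : v 0 = 0
  · have hv1 : v 1 ≠ 0 := by
      intro hv1
      apply hv
      ext i; fin_cases i
      · exact hv0
      · exact hv1
    have hu0 : u 0 = 0 := by
      rw [hv0, mul_zero, sub_zero] at hd
      rcases mul_eq_zero.mp hd with h' | h'
      · exact h'
      · exact absurd h' hv1
    refine ⟨u 1 / v 1, ?_⟩
    ext i; fin_cases i
    · show u 1 / v 1 * v 0 = u 0
      rw [hv0, hu0, mul_zero]
    · show u 1 / v 1 * v 1 = u 1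
      field_simp
  · refine ⟨u 0 / v 0, ?_⟩
    ext i; fin_cases i
    · show u 0 / v 0 * v 0 = u 0
      field_simp
    · show u 0 / v 0 * v 1 = u 1
      field_simp
      linear_combination hd

/-- The vector action of `GL₂`. -/
theorem smul_apply0 (g : GL (Fin 2) F) (v : Fin 2 → F) :
    (g • v) 0 = g 0 0 * v 0 + g 0 1 * v 1 := by
  show ((g : Matrix (Fin 2) (Fin 2) F) *ᵥ v) 0 = _
  simp [Matrix.mulVec, dotProduct, Fin.sum_univ_two]

theorem smul_apply1 (g : GL (Fin 2) F) (v : Fin 2 → F) :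
    (g • v) 1 = g 1 0 * v 0 + g 1 1 * v 1 := by
  show ((g : Matrix (Fin 2) (Fin 2) F) *ᵥ v) 1 = _
  simp [Matrix.mulVec, dotProduct, Fin.sum_univ_two]

theorem e0_ne : (![1, 0] : Fin 2 → F) ≠ 0 := fun h => one_ne_zero (congrFun h 0)
theorem e1_ne : (![0, 1] : Fin 2 → F) ≠ 0 := fun h => one_ne_zero (congrFun h 1)
theorem e2_ne : (![1, 1] : Fin 2 → F) ≠ 0 := fun h => one_ne_zero (congrFun h 0)

/-- The three standard points of the projective line. -/
noncomputable def P0 : ℙ F (Fin 2 → F) := Projectivization.mk F ![1, 0] e0_ne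
noncomputable def P1 : ℙ F (Fin 2 → F) := Projectivization.mk F ![0, 1] e1_ne
noncomputable def P2 : ℙ F (Fin 2 → F) := Projectivization.mk F ![1, 1] e2_ne

/-- Every triple of distinct points is the image of the standard triple. -/
theorem exists_std (a b c : ℙ F (Fin 2 → F)) (hab : a ≠ b) (hac : a ≠ c) (hbc : b ≠ c) :
    ∃ g : GL (Fin 2) F, (ProjGenLinGroup.mk g : PGL(Fin 2, F)) • (P0 : ℙ F (Fin 2 → F)) = a ∧
      (ProjGenLinGroup.mk g : PGL(Fin 2, F)) • (P1 : ℙ F (Fin 2 → F)) = b ∧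
      (ProjGenLinGroup.mk g : PGL(Fin 2, F)) • (P2 : ℙ F (Fin 2 → F)) = c := by
  induction a using Projectivization.ind with | _ u hu =>
  induction b using Projectivization.ind with | _ v hv =>
  induction c using Projectivization.ind with | _ w hw =>
  have hd : dt u v ≠ 0 := dt_ne_zero_of_ne u v hu hv hab
  have hd1 : dt w v ≠ 0 := dt_ne_zero_of_ne w v hw hv (Ne.symm hbc)
  have hd2 : dt u w ≠ 0 := dt_ne_zero_of_ne u w hu hw hac
  set α : F := dt w v / dt u v with hα
  set β : F := dt u w / dt u v with hβ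
  have hα0 : α ≠ 0 := div_ne_zero hd1 hd
  have hβ0 : β ≠ 0 := div_ne_zero hd2 hd
  have hw0 : α * u 0 + β * v 0 = w 0 := by
    rw [hα, hβ, div_mul_eq_mul_div, div_mul_eq_mul_div, ← add_div, div_eq_iff hd]
    unfold dt
    ring
  have hw1 : α * u 1 + β * v 1 = w 1 := by
    rw [hα, hβ, div_mul_eq_mul_div, div_mul_eq_mul_div, ← add_div, div_eq_iff hd]
    unfold dt
    ring
  set M : Matrix (Fin 2) (Fin 2) F := !![α * u 0, β * v 0; α * u 1, β * v 1] with hM
  have hdet : M.det ≠ 0 := by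
    rw [hM, Matrix.det_fin_two_of]
    have : α * u 0 * (β * v 1) - β * v 0 * (α * u 1) = α * β * dt u v := by
      unfold dt; ring
    rw [this]
    exact mul_ne_zero (mul_ne_zero hα0 hβ0) hd
  set g : GL (Fin 2) F := Matrix.GeneralLinearGroup.mkOfDetNeZero M hdet with hg
  have hg00 : g 0 0 = α * u 0 := rfl
  have hg01 : g 0 1 = β * v 0 := rfl
  have hg10 : g 1 0 = α * u 1 := rfl
  have hg11 : g 1 1 = β * v 1 := rfl
  refine ⟨g, ?_, ?_, ?_⟩
  · unfold P0
    rw [PGL.mk_smul_mk, mk_eq_mk_iff']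
    refine ⟨α, ?_⟩
    ext i; fin_cases i
    · show α * u 0 = (g • ![1, 0]) 0
      rw [smul_apply0, hg00, hg01]; simp
    · show α * u 1 = (g • ![1, 0]) 1
      rw [smul_apply1, hg10, hg11]; simp
  · unfold P1
    rw [PGL.mk_smul_mk, mk_eq_mk_iff']
    refine ⟨β, ?_⟩
    ext i; fin_cases i
    · show β * v 0 = (g • ![0, 1]) 0
      rw [smul_apply0, hg00, hg01]; simp
    · show β * v 1 = (g • ![0, 1]) 1
      rw [smul_apply1, hg10, hg11]; simp
  · unfold P2
    rw [PGL.mk_smul_mk, mk_eq_mk_iff']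
    refine ⟨1, ?_⟩
    rw [one_smul]
    ext i; fin_cases i
    · show w 0 = (g • ![1, 1]) 0
      rw [smul_apply0, hg00, hg01, ← hw0]; simp
    · show w 1 = (g • ![1, 1]) 1
      rw [smul_apply1, hg10, hg11, ← hw1]; simp

/-- An element fixing the three standard points is trivial. -/
theorem eq_one_of_fix_std (k : PGL(Fin 2, F)) (h0 : k • (P0 : ℙ F (Fin 2 → F)) = P0)
    (h1 : k • (P1 : ℙ F (Fin 2 → F)) = P1) (h2 : k • (P2 : ℙ F (Fin 2 → F)) = P2) : k = 1 := by
  induction k using ProjGenLinGroup.induction_on with | mk m =>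
  unfold P0 at h0
  unfold P1 at h1
  unfold P2 at h2
  rw [PGL.mk_smul_mk, mk_eq_mk_iff'] at h0 h1 h2
  obtain ⟨a0, ha0⟩ := h0
  obtain ⟨a1, ha1⟩ := h1
  obtain ⟨a2, ha2⟩ := h2
  have hm10 : m 1 0 = 0 := by
    have := congrFun ha0 1
    rw [smul_apply1] at this
    simpa using this.symm
  have hm01 : m 0 1 = 0 := by
    have := congrFun ha1 0
    rw [smul_apply0] at this
    simpa using this.symm
  have hm00 : m 0 0 = a2 := by
    have := congrFun ha2 0
    rw [smul_apply0, hm01] at this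
    simpa using this.symm
  have hm11 : m 1 1 = a2 := by
    have := congrFun ha2 1
    rw [smul_apply1, hm10] at this
    simpa using this.symm
  have ha2ne : a2 ≠ 0 := by
    intro h0
    have hdet : (m : Matrix (Fin 2) (Fin 2) F).det = 0 := by
      rw [Matrix.det_fin_two]
      show m 0 0 * m 1 1 - m 0 1 * m 1 0 = 0
      rw [hm00, hm11, hm01, hm10, h0]; ring
    have hu : IsUnit (m : Matrix (Fin 2) (Fin 2) F).det :=
      (Matrix.isUnit_iff_isUnit_det _).mp m.isUnit
    rw [hdet] at hu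
    exact not_isUnit_zero hu
  have hm : m = Matrix.GeneralLinearGroup.scalar (Fin 2) (Units.mk0 a2 ha2ne) := by
    apply Units.ext
    rw [Matrix.GeneralLinearGroup.coe_scalar]
    ext i j
    fin_cases i <;> fin_cases j
    · show m 0 0 = _
      rw [hm00]; simp
    · show m 0 1 = _
      rw [hm01]; simp
    · show m 1 0 = _
      rw [hm10]; simp
    · show m 1 1 = _
      rw [hm11]; simp
  rw [hm]
  exact ProjGenLinGroup.mk_scalar _

/-- PGL_2(F) is sharply 3-transitive on the projective line: it is 3-transitive and the stabiliser of three distinct points is trivial. -/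
theorem result {F : Type*} [Field F] : MulAction.IsMultiplyPretransitive (Matrix.ProjGenLinGroup (Fin 2) F) (Projectivization F (Fin 2 → F)) 3 ∧ ∀ (g : Matrix.ProjGenLinGroup (Fin 2) F) (a b c : Projectivization F (Fin 2 → F)), a ≠ b → a ≠ c → b ≠ c → g • a = a → g • b = b → g • c = c → g = 1 := by
  constructor
  · refine ⟨fun j j' => ?_⟩
    have hj01 : j 0 ≠ j 1 := j.injective.ne (by decide)
    have hj02 : j 0 ≠ j 2 := j.injective.ne (by decide)
    have hj12 : j 1 ≠ j 2 := j.injective.ne (by decide)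
    have hj'01 : j' 0 ≠ j' 1 := j'.injective.ne (by decide)
    have hj'02 : j' 0 ≠ j' 2 := j'.injective.ne (by decide)
    have hj'12 : j' 1 ≠ j' 2 := j'.injective.ne (by decide)
    obtain ⟨g, hg0, hg1, hg2⟩ := exists_std (j 0) (j 1) (j 2) hj01 hj02 hj12
    obtain ⟨g', hg'0, hg'1, hg'2⟩ := exists_std (j' 0) (j' 1) (j' 2) hj'01 hj'02 hj'12
    refine ⟨ProjGenLinGroup.mk g' * (ProjGenLinGroup.mk g)⁻¹, ?_⟩
    ext i
    rw [Function.Embedding.smul_apply]
    fin_cases i
    · show (ProjGenLinGroup.mk g' * (ProjGenLinGroup.mk g)⁻¹) • j 0 = j' 0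
      rw [mul_smul, ← hg0, inv_smul_smul, hg'0]
    · show (ProjGenLinGroup.mk g' * (ProjGenLinGroup.mk g)⁻¹) • j 1 = j' 1
      rw [mul_smul, ← hg1, inv_smul_smul, hg'1]
    · show (ProjGenLinGroup.mk g' * (ProjGenLinGroup.mk g)⁻¹) • j 2 = j' 2
      rw [mul_smul, ← hg2, inv_smul_smul, hg'2]
  · intro g a b c hab hac hbc ha hb hc
    obtain ⟨h, h0, h1, h2⟩ := exists_std a b c hab hac hbc
    have hk : (ProjGenLinGroup.mk h)⁻¹ * g * ProjGenLinGroup.mk h = 1 := by
      apply eq_one_of_fix_std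
      · rw [mul_smul, mul_smul, h0, ha, ← h0, inv_smul_smul]
      · rw [mul_smul, mul_smul, h1, hb, ← h1, inv_smul_smul]
      · rw [mul_smul, mul_smul, h2, hc, ← h2, inv_smul_smul]
    have : g = ProjGenLinGroup.mk h * 1 * (ProjGenLinGroup.mk h)⁻¹ := by
      rw [← hk]; group
    rw [this]; group

end Cfsg.Agent.S0266
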