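import Mathlib
import Cfsg.Statements.S0267
import Cfsg.Agent.S0266

set_option autoImplicit false
set_option linter.style.haveILetI false
set_option linter.unusedSectionVars false
open Cfsg

namespace Cfsg.Agent.S0267

open scoped MatrixGroups LinearAlgebra.Projectivization
open Matrix Projectivization Cfsg.Agent.S0266

variable {F : Type*} [Field F]

theorem sl_smul_apply0 (g : Matrix.SpecialLinearGroup (Fin 2) F) (v : Fin 2 → F) :
    (g • v) 0 = g 0 0 * v 0 + g 0 1 * v 1 := by
  show ((g : Matrix (Fin 2) (Fin 2) F) *ᵥ v) 0 = _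
  simp [Matrix.mulVec, dotProduct, Fin.sum_univ_two]

theorem sl_smul_apply1 (g : Matrix.SpecialLinearGroup (Fin 2) F) (v : Fin 2 → F) :
    (g • v) 1 = g 1 0 * v 0 + g 1 1 * v 1 := by
  show ((g : Matrix (Fin 2) (Fin 2) F) *ᵥ v) 1 = _
  simp [Matrix.mulVec, dotProduct, Fin.sum_univ_two]

theorem sl_smul_mk (g : Matrix.SpecialLinearGroup (Fin 2) F) (v : Fin 2 → F) (hv : v ≠ 0) :
    g • Projectivization.mk F v hv =
      Projectivization.mk F (g • v) ((smul_ne_zero_iff_ne g).2 hv) := rfl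

/-- Triples of distinct points as embeddings. -/
def emb3 {α : Type*} (a b c : α) (hab : a ≠ b) (hac : a ≠ c) (hbc : b ≠ c) : Fin 3 ↪ α :=
  ⟨![a, b, c], by
    intro i k h
    fin_cases i <;> fin_cases k <;> simp_all⟩

/-- SL_2(q) is 3-transitive on the q+1 points of the projective line if and only if q is even. -/
theorem result {F : Type*} [Field F] [Fintype F] : MulAction.IsMultiplyPretransitive (Matrix.SpecialLinearGroup (Fin 2) F) (Projectivization F (Fin 2 → F)) 3 ↔ ringChar F = 2 := by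
  classical
  constructor
  · intro h3
    by_contra hchar
    obtain ⟨δ, hδ⟩ := FiniteField.exists_nonsquare hchar
    have hδ0 : δ ≠ 0 := by
      rintro rfl
      exact hδ ⟨0, by simp⟩
    have hQne : (![1, δ] : Fin 2 → F) ≠ 0 := fun h => one_ne_zero (congrFun h 0)
    set Q : ℙ F (Fin 2 → F) := Projectivization.mk F ![1, δ] hQne with hQ
    -- distinctness
    have h01 : (P0 : ℙ F (Fin 2 → F)) ≠ P1 := by
      unfold P0 P1
      rw [Ne, mk_eq_mk_iff']
      rintro ⟨a, ha⟩
      have := congrFun ha 0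
      simp at this
    have h02 : (P0 : ℙ F (Fin 2 → F)) ≠ P2 := by
      unfold P0 P2
      rw [Ne, mk_eq_mk_iff']
      rintro ⟨a, ha⟩
      have h1 := congrFun ha 0
      have h2 := congrFun ha 1
      simp at h1 h2
      rw [h1] at h2
      exact one_ne_zero h2
    have h12 : (P1 : ℙ F (Fin 2 → F)) ≠ P2 := by
      unfold P1 P2
      rw [Ne, mk_eq_mk_iff']
      rintro ⟨a, ha⟩
      have h1 := congrFun ha 0
      have h2 := congrFun ha 1
      simp at h1 h2
      rw [h2] at h1
      exact one_ne_zero h1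
    have h0Q : (P0 : ℙ F (Fin 2 → F)) ≠ Q := by
      unfold P0
      rw [hQ, Ne, mk_eq_mk_iff']
      rintro ⟨a, ha⟩
      have h1 := congrFun ha 0
      have h2 := congrFun ha 1
      simp at h1 h2
      rcases h2 with h2 | h2
      · rw [h2] at h1; exact zero_ne_one h1
      · exact hδ0 h2
    have h1Q : (P1 : ℙ F (Fin 2 → F)) ≠ Q := by
      unfold P1
      rw [hQ, Ne, mk_eq_mk_iff']
      rintro ⟨a, ha⟩
      have h1 := congrFun ha 0
      have h2 := congrFun ha 1
      simp at h1 h2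
      rw [h1] at h2
      simp at h2
    obtain ⟨g, hg⟩ := h3.exists_smul_eq (emb3 P0 P1 P2 h01 h02 h12) (emb3 P0 P1 Q h01 h0Q h1Q)
    have hg0 : g • (P0 : ℙ F (Fin 2 → F)) = P0 := congrFun (congrArg DFunLike.coe hg) 0
    have hg1 : g • (P1 : ℙ F (Fin 2 → F)) = P1 := congrFun (congrArg DFunLike.coe hg) 1
    have hg2 : g • (P2 : ℙ F (Fin 2 → F)) = Q := congrFun (congrArg DFunLike.coe hg) 2
    unfold P0 at hg0
    unfold P1 at hg1
    unfold P2 at hg2
    rw [sl_smul_mk, mk_eq_mk_iff'] at hg0 hg1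
    rw [hQ, sl_smul_mk, mk_eq_mk_iff'] at hg2
    obtain ⟨a0, ha0⟩ := hg0
    obtain ⟨a1, ha1⟩ := hg1
    obtain ⟨a2, ha2⟩ := hg2
    have hm10 : g 1 0 = 0 := by
      have := congrFun ha0 1
      rw [sl_smul_apply1] at this
      simpa using this.symm
    have hm01 : g 0 1 = 0 := by
      have := congrFun ha1 0
      rw [sl_smul_apply0] at this
      simpa using this.symm
    have hm00 : g 0 0 = a2 := by
      have := congrFun ha2 0
      rw [sl_smul_apply0, hm01] at this
      simpa using this.symm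
    have hm11 : g 1 1 = a2 * δ := by
      have := congrFun ha2 1
      rw [sl_smul_apply1, hm10] at this
      simpa using this.symm
    have hdet : g 0 0 * g 1 1 - g 0 1 * g 1 0 = 1 := by
      have := g.2
      rw [Matrix.det_fin_two] at this
      exact this
    rw [hm00, hm11, hm01, hm10] at hdet
    have ha2ne : a2 ≠ 0 := by
      rintro rfl
      simp at hdet
    apply hδ
    refine ⟨a2⁻¹, ?_⟩
    have h1 : a2 * a2 * δ = 1 := by linear_combination hdet
    calc δ = (a2 * a2 * δ) * (a2⁻¹ * a2⁻¹) := by field_simp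
      _ = a2⁻¹ * a2⁻¹ := by rw [h1, one_mul]
  · intro hchar
    refine ⟨fun j j' => ?_⟩
    have hj01 : j 0 ≠ j 1 := j.injective.ne (by decide)
    have hj02 : j 0 ≠ j 2 := j.injective.ne (by decide)
    have hj12 : j 1 ≠ j 2 := j.injective.ne (by decide)
    have hj'01 : j' 0 ≠ j' 1 := j'.injective.ne (by decide)
    have hj'02 : j' 0 ≠ j' 2 := j'.injective.ne (by decide)
    have hj'12 : j' 1 ≠ j' 2 := j'.injective.ne (by decide)
    obtain ⟨g, hg0, hg1, hg2⟩ := exists_std (j 0) (j 1) (j 2) hj01 hj02 hj12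
    obtain ⟨g', hg'0, hg'1, hg'2⟩ := exists_std (j' 0) (j' 1) (j' 2) hj'01 hj'02 hj'12
    set k : GL (Fin 2) F := g' * g⁻¹ with hk
    have hkj : ∀ i : Fin 3, (ProjGenLinGroup.mk k : PGL(Fin 2, F)) • j i = j' i := by
      intro i
      rw [hk, map_mul, map_inv]
      fin_cases i
      · show (ProjGenLinGroup.mk g' * (ProjGenLinGroup.mk g)⁻¹) • j 0 = j' 0
        rw [mul_smul, ← hg0, inv_smul_smul, hg'0]
      · show (ProjGenLinGroup.mk g' * (ProjGenLinGroup.mk g)⁻¹) • j 1 = j' 1
        rw [mul_smul, ← hg1, inv_smul_smul, hg'1]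
      · show (ProjGenLinGroup.mk g' * (ProjGenLinGroup.mk g)⁻¹) • j 2 = j' 2
        rw [mul_smul, ← hg2, inv_smul_smul, hg'2]
    -- rescale k to determinant one
    have hdetne : (k : Matrix (Fin 2) (Fin 2) F).det ≠ 0 := by
      have hu : IsUnit (k : Matrix (Fin 2) (Fin 2) F).det :=
        (Matrix.isUnit_iff_isUnit_det _).mp k.isUnit
      exact hu.ne_zero
    obtain ⟨ε, hε⟩ := FiniteField.isSquare_of_char_two hchar (k : Matrix (Fin 2) (Fin 2) F).det
    have hεne : ε ≠ 0 := by
      rintro rfl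
      rw [mul_zero] at hε
      exact hdetne hε
    let m : Matrix.SpecialLinearGroup (Fin 2) F :=
      ⟨ε⁻¹ • (k : Matrix (Fin 2) (Fin 2) F), by
        rw [Matrix.det_smul, Fintype.card_fin, hε]
        field_simp⟩
    refine ⟨m, ?_⟩
    ext i
    rw [Function.Embedding.smul_apply, ← hkj i]
    induction j i using Projectivization.ind with | _ v hv =>
    rw [sl_smul_mk, PGL.mk_smul_mk, mk_eq_mk_iff']
    refine ⟨ε⁻¹, ?_⟩
    show ε⁻¹ • ((k : Matrix (Fin 2) (Fin 2) F) *ᵥ v) = (ε⁻¹ • (k : Matrix (Fin 2) (Fin 2) F)) *ᵥ v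
    rw [Matrix.smul_mulVec]

end Cfsg.Agent.S0267
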