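import Cfsg.Statements.S0276
import Cfsg.Agent.S0243

set_option autoImplicit false
set_option linter.style.haveILetI false
open Cfsg

namespace Cfsg.Agent.S0276

open Matrix

variable {F : Type*} [Field F] [Fintype F]

theorem sq_mem_center (h2 : ¬ IsSquare (2 : F)) (A : Matrix.SpecialLinearGroup (Fin 2) F)
    (hA : A ^ 4 ∈ Subgroup.center (Matrix.SpecialLinearGroup (Fin 2) F)) :
    A ^ 2 ∈ Subgroup.center (Matrix.SpecialLinearGroup (Fin 2) F) := by
  rw [Matrix.SpecialLinearGroup.mem_center_iff] at hA ⊢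
  obtain ⟨r, -, hr⟩ := hA
  have hdet := A.det_coe
  rw [Matrix.det_fin_two] at hdet
  rw [Matrix.SpecialLinearGroup.coe_pow] at hr ⊢
  set M := (A : Matrix (Fin 2) (Fin 2) F) with hM
  set a := M 0 0 with ha
  set b := M 0 1 with hb
  set c := M 1 0 with hc
  set d := M 1 1 with hd
  have hM2 : M ^ 2 = !![a * a + b * c, b * (a + d); c * (a + d), d * d + b * c] := by
    rw [pow_two]
    ext i j
    fin_cases i <;> fin_cases j <;> simp [Matrix.mul_apply, Fin.sum_univ_two, ← ha, ← hb, ← hc, ← hd] <;> ring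
  have hM4 : M ^ 4 = (M ^ 2) * (M ^ 2) := by rw [← pow_add]
  rw [hM4, hM2] at hr
  have e00 := congrFun (congrFun hr 0) 0
  have e01 := congrFun (congrFun hr 0) 1
  have e10 := congrFun (congrFun hr 1) 0
  have e11 := congrFun (congrFun hr 1) 1
  simp [Matrix.mul_apply, Fin.sum_univ_two] at e00 e01 e10 e11
  have ht : (a + d) * (a + d) - 2 ≠ 0 := by
    intro h
    exact h2 ⟨a + d, by linear_combination -h⟩
  have hbt : b * (a + d) = 0 := by
    have : (b * (a + d)) * ((a + d) * (a + d) - 2) = 0 := by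
      linear_combination e01.symm + (2 * b * (a + d)) * hdet
    rcases mul_eq_zero.mp this with h | h
    · exact h
    · exact absurd h ht
  have hct : c * (a + d) = 0 := by
    have : (c * (a + d)) * ((a + d) * (a + d) - 2) = 0 := by
      linear_combination e10.symm + (2 * c * (a + d)) * hdet
    rcases mul_eq_zero.mp this with h | h
    · exact h
    · exact absurd h ht
  have hadt : (a - d) * (a + d) = 0 := by
    have : ((a - d) * (a + d)) * ((a + d) * (a + d) - 2) = 0 := by
      linear_combination e00.symm - e11.symm + (2 * (a - d) * (a + d)) * hdet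
    rcases mul_eq_zero.mp this with h | h
    · exact h
    · exact absurd h ht
  refine ⟨a * a + b * c, ?_, ?_⟩
  · simp only [Fintype.card_fin]
    linear_combination (a * a + b * c) * hadt + (c * (a + d)) * hbt + (a * d - b * c + 1) * hdet
  · rw [hM2]
    ext i j
    fin_cases i <;> fin_cases j <;> simp [hbt, hct]
    linear_combination hadt

theorem card_psl (q : ℕ) (hF : Fintype.card F = q) (hq : q % 8 = 3 ∨ q % 8 = 5) :
    ∃ m : ℕ, Odd m ∧ Nat.card (Matrix.ProjectiveSpecialLinearGroup (Fin 2) F) = 4 * m := by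
  have h := Cfsg.Agent.S0243.result hF 2 le_rfl
  rw [Fin.prod_univ_two] at h
  simp only [Fin.val_zero, Fin.val_one, pow_zero, pow_one] at h
  set N := Nat.card (Matrix.ProjectiveSpecialLinearGroup (Fin 2) F) with hN
  rcases hq with hq | hq
  · obtain ⟨k, rfl⟩ : ∃ k, q = 8 * k + 3 := ⟨q / 8, by omega⟩
    have e1 : 8 * k + 3 - 1 = 2 * (4 * k + 1) := by omega
    have e2 : (8 * k + 3) ^ 2 - 1 = 8 * (2 * k + 1) * (4 * k + 1) := by
      apply Nat.sub_eq_of_eq_add; ring
    have e3 : (8 * k + 3) ^ 2 - (8 * k + 3) = 2 * (4 * k + 1) * (8 * k + 3) := by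
      apply Nat.sub_eq_of_eq_add; ring
    have e4 : Nat.gcd 2 (2 * (4 * k + 1)) = 2 := Nat.gcd_eq_left (Dvd.intro _ rfl)
    rw [e1, e2, e3, e4] at h
    refine ⟨(2 * k + 1) * (4 * k + 1) * (8 * k + 3), ?_, ?_⟩
    · exact ((odd_two_mul_add_one k).mul ⟨2 * k, by ring⟩).mul ⟨4 * k + 1, by ring⟩
    · have : (4 * (4 * k + 1)) * N = (4 * (4 * k + 1)) * (4 * ((2 * k + 1) * (4 * k + 1) * (8 * k + 3))) := by
        linear_combination h
      exact Nat.eq_of_mul_eq_mul_left (by positivity) this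
  · obtain ⟨k, rfl⟩ : ∃ k, q = 8 * k + 5 := ⟨q / 8, by omega⟩
    have e1 : 8 * k + 5 - 1 = 4 * (2 * k + 1) := by omega
    have e2 : (8 * k + 5) ^ 2 - 1 = 8 * (2 * k + 1) * (4 * k + 3) := by
      apply Nat.sub_eq_of_eq_add; ring
    have e3 : (8 * k + 5) ^ 2 - (8 * k + 5) = 4 * (2 * k + 1) * (8 * k + 5) := by
      apply Nat.sub_eq_of_eq_add; ring
    have e4 : Nat.gcd 2 (4 * (2 * k + 1)) = 2 := Nat.gcd_eq_left ⟨2 * (2 * k + 1), by ring⟩
    rw [e1, e2, e3, e4] at h
    refine ⟨(2 * k + 1) * (4 * k + 3) * (8 * k + 5), ?_, ?_⟩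
    · exact ((odd_two_mul_add_one k).mul ⟨2 * k + 1, by ring⟩).mul ⟨4 * k + 2, by ring⟩
    · have : (8 * (2 * k + 1)) * N = (8 * (2 * k + 1)) * (4 * ((2 * k + 1) * (4 * k + 3) * (8 * k + 5))) := by
        linear_combination h
      exact Nat.eq_of_mul_eq_mul_left (by positivity) this

theorem card_sylow (q : ℕ) (hF : Fintype.card F = q) (hq : q % 8 = 3 ∨ q % 8 = 5)
    (P : Sylow 2 (Matrix.ProjectiveSpecialLinearGroup (Fin 2) F)) :
    Nat.card P = 4 := by
  obtain ⟨m, hm, hN⟩ := card_psl q hF hq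
  have h1 := P.card_eq_multiplicity
  rw [hN] at h1
  rw [h1]
  have h4 : (4 : ℕ) = 2 ^ 2 := by norm_num
  have hm0 : m ≠ 0 := by rintro rfl; exact absurd hm (by decide)
  rw [Nat.factorization_mul (by norm_num) hm0, h4, Nat.factorization_pow]
  have : m.factorization 2 = 0 := by
    apply Nat.factorization_eq_zero_of_not_dvd
    rw [← even_iff_two_dvd, Nat.not_even_iff_odd]; exact hm
  simp [this, Nat.Prime.factorization_self Nat.prime_two]

/-- For q = 3 or 5 mod 8 the Sylow 2-subgroups of PSL_2(q) are elementary abelian of order 4. -/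
theorem result {F : Type*} [Field F] [Fintype F] {q : ℕ} (hF : Fintype.card F = q) (hq : q % 8 = 3 ∨ q % 8 = 5) (P : Sylow 2 (Matrix.ProjectiveSpecialLinearGroup (Fin 2) F)) : IsKleinFour (P : Subgroup (Matrix.ProjectiveSpecialLinearGroup (Fin 2) F)) := by
  have hcard := card_sylow q hF hq P
  have h2 : ¬ IsSquare (2 : F) := by
    rw [FiniteField.isSquare_two_iff, hF]; omega
  have hsq : ∀ g : Matrix.ProjectiveSpecialLinearGroup (Fin 2) F, g ^ 4 = 1 → g ^ 2 = 1 := by
    intro g hg
    obtain ⟨A, rfl⟩ := QuotientGroup.mk_surjective g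
    rw [← QuotientGroup.mk_pow, QuotientGroup.eq_one_iff] at hg ⊢
    exact sq_mem_center h2 A hg
  refine ⟨hcard, ?_⟩
  have hd : Monoid.exponent (P : Subgroup (Matrix.ProjectiveSpecialLinearGroup (Fin 2) F)) ∣ 2 := by
    apply Monoid.exponent_dvd_of_forall_pow_eq_one
    intro g
    have h4 : g ^ 4 = 1 := by rw [← hcard]; exact pow_card_eq_one'
    have := hsq g.1 (by exact_mod_cast congrArg Subtype.val h4)
    exact Subtype.ext (by simpa using this)
  rcases (Nat.dvd_prime Nat.prime_two).mp hd with h1 | h1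
  · exfalso
    have hs := Monoid.exp_eq_one_iff.mp h1
    have := Finite.card_le_one_iff_subsingleton.mpr hs
    omega
  · exact h1

end Cfsg.Agent.S0276
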