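import Cfsg.Statements.S0281
import Mathlib
import Cfsg.Agent.S0283
import Cfsg.Agent.Lib.Helper27.UIso

set_option autoImplicit false
open Cfsg

namespace Cfsg.Agent.S0281

open Cfsg.Agent.Lib.Helper27.Unitary Matrix

variable {F : Type*} [Field F] [Fintype F] {q : ℕ}

/-- The fixed field of `x ↦ x ^ q`. -/
def Fix (hF : Fintype.card F = q ^ 2) : Subfield F := (conjHom hF).eqLocusField (RingHom.id F)

theorem mem_Fix (hF : Fintype.card F = q ^ 2) {x : F} : x ∈ Fix hF ↔ x ^ q = x := Iff.rfl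

theorem card_Fix (hF : Fintype.card F = q ^ 2) : Nat.card (Fix hF) = q := by
  obtain ⟨ω, hω⟩ := exists_not_fixed hF
  have hd : ω - ω ^ q ≠ 0 := fun h => hω (sub_eq_zero.mp h).symm
  have hbij : Function.Bijective (fun p : Fix hF × Fix hF => (p.1 : F) + (p.2 : F) * ω) := by
    constructor
    · rintro ⟨⟨a, ha⟩, ⟨b, hb⟩⟩ ⟨⟨a', ha'⟩, ⟨b', hb'⟩⟩ h
      rw [mem_Fix] at ha hb ha' hb'
      change a + b * ω = a' + b' * ω at h
      have hbb : b = b' := by
        by_contra hne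
        have hne' : b - b' ≠ 0 := sub_ne_zero.mpr hne
        apply hω
        have hω' : ω = (a' - a) / (b - b') := by
          field_simp
          linear_combination h
        rw [hω', cj_div, cj_sub hF, cj_sub hF, ha, hb, ha', hb']
      subst hbb
      have haa : a = a' := by linear_combination h
      subst haa
      rfl
    · intro x
      obtain ⟨b, hbdef⟩ : ∃ b : F, b = (x - x ^ q) / (ω - ω ^ q) := ⟨_, rfl⟩
      have hb : b ^ q = b := by
        rw [hbdef, cj_div, cj_sub hF, cj_sub hF, cj_cj hF, cj_cj hF, ← neg_sub x, ← neg_sub ω,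
          neg_div_neg_eq]
      have ha : (x - b * ω) ^ q = x - b * ω := by
        rw [cj_sub hF, mul_pow, hb]
        have : b * (ω - ω ^ q) = x - x ^ q := by
          rw [hbdef]
          field_simp
        linear_combination this
      exact ⟨(⟨x - b * ω, ha⟩, ⟨b, hb⟩), by simp⟩
  have hcard := Nat.card_eq_of_bijective _ hbij
  rw [Nat.card_prod, Nat.card_eq_fintype_card (α := F), hF, ← sq] at hcard
  exact Nat.pow_left_injective (by norm_num : 2 ≠ 0) hcard

/-- The transported form in coordinates. -/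
def om (q : ℕ) (ε : F) (a b : Fin 2 → F) : F := ε * (a 1 * b 0 ^ q - a 0 * b 1 ^ q)

/-- The base change matrix. -/
def Pm (e f : Fin 2 → F) (ε : F) : Matrix (Fin 2) (Fin 2) F := !![e 0, ε * f 0; e 1, ε * f 1]

theorem Pm_mulVec (e f : Fin 2 → F) (ε : F) (a : Fin 2 → F) :
    Pm e f ε *ᵥ a = a 0 • e + (a 1 * ε) • f := by
  ext i
  fin_cases i <;> simp [Pm, Matrix.mulVec, dotProduct, Fin.sum_univ_two] <;> ring

theorem hf_Pm (hF : Fintype.card F = q ^ 2) {e f : Fin 2 → F} (hp : HypPair q e f) {ε : F}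
    (hε : ε + ε ^ q = 0) (a b : Fin 2 → F) :
    hermForm 2 F q (Pm e f ε *ᵥ a) (Pm e f ε *ᵥ b) = om q ε a b := by
  rw [Pm_mulVec, Pm_mulVec]
  simp only [hf_add_left, hf_add_right hF, hf_smul_left, hf_smul_right, hp.ee, hp.ff, hp.ef,
    hp.fe hF, mul_pow]
  unfold om
  have : ε ^ q = -ε := by linear_combination hε
  rw [this]
  ring

theorem om_nondeg (hF : Fintype.card F = q ^ 2) {ε : F} (hε0 : ε ≠ 0) (a : Fin 2 → F)
    (h : ∀ b, om q ε a b = 0) : a = 0 := by
  have h0 := h ![1, 0]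
  have h1 := h ![0, 1]
  unfold om at h0 h1
  have hq : q ≠ 0 := by have := two_le_q hF; omega
  simp [hq] at h0 h1
  ext i
  fin_cases i
  · rcases h1 with h | h
    · exact absurd h hε0
    · simpa using h
  · rcases h0 with h | h
    · exact absurd h hε0
    · simpa using h

theorem det_Pm_ne (hF : Fintype.card F = q ^ 2) {e f : Fin 2 → F} (hp : HypPair q e f) {ε : F}
    (hε0 : ε ≠ 0) (hε : ε + ε ^ q = 0) : (Pm e f ε).det ≠ 0 := by
  intro hdet
  obtain ⟨a, ha0, ha⟩ := Matrix.exists_mulVec_eq_zero_iff.mpr hdet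
  apply ha0
  apply om_nondeg hF hε0
  intro b
  rw [← hf_Pm hF hp hε, ha, hf_zero_left]

/-- The base change as an element of `GL_2`. -/
noncomputable def Pg (hF : Fintype.card F = q ^ 2) {e f : Fin 2 → F} (hp : HypPair q e f) {ε : F}
    (hε0 : ε ≠ 0) (hε : ε + ε ^ q = 0) : GL (Fin 2) F :=
  Matrix.GeneralLinearGroup.mkOfDetNeZero (Pm e f ε) (det_Pm_ne hF hp hε0 hε)

theorem hf_Pg (hF : Fintype.card F = q ^ 2) {e f : Fin 2 → F} (hp : HypPair q e f) {ε : F}
    (hε0 : ε ≠ 0) (hε : ε + ε ^ q = 0) (a b : Fin 2 → F) :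
    hermForm 2 F q (gact (Pg hF hp hε0 hε) a) (gact (Pg hF hp hε0 hε) b) = om q ε a b :=
  hf_Pm hF hp hε a b

/-- Matrices of determinant one with fixed entries preserve `om`. -/
theorem om_of_fixed (hF : Fintype.card F = q ^ 2) (ε : F) (M : Matrix (Fin 2) (Fin 2) F)
    (hM : ∀ i j, M i j ^ q = M i j) (hdet : M.det = 1) (a b : Fin 2 → F) :
    om q ε (M *ᵥ a) (M *ᵥ b) = om q ε a b := by
  rw [Matrix.det_fin_two] at hdet
  unfold om
  simp only [Matrix.mulVec, dotProduct, Fin.sum_univ_two, cj_add hF, mul_pow, hM]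
  linear_combination (ε * (a 1 * b 0 ^ q - a 0 * b 1 ^ q)) * hdet

/-- Conversely, a matrix of determinant one preserving `om` has fixed entries. -/
theorem fixed_of_om (hF : Fintype.card F = q ^ 2) {ε : F} (hε0 : ε ≠ 0)
    (M : Matrix (Fin 2) (Fin 2) F) (hdet : M.det = 1)
    (hM : ∀ a b : Fin 2 → F, om q ε (M *ᵥ a) (M *ᵥ b) = om q ε a b) (i j : Fin 2) :
    M i j ^ q = M i j := by
  rw [Matrix.det_fin_two] at hdet
  have hq : q ≠ 0 := by have := two_le_q hF; omega
  have h00 := hM ![1, 0] ![1, 0]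
  have h01 := hM ![1, 0] ![0, 1]
  have h10 := hM ![0, 1] ![1, 0]
  have h11 := hM ![0, 1] ![0, 1]
  unfold om at h00 h01 h10 h11
  simp [Matrix.mulVec, dotProduct, Fin.sum_univ_two, hq] at h00 h01 h10 h11
  have e00 : M 1 0 * M 0 0 ^ q - M 0 0 * M 1 0 ^ q = 0 := by
    rcases h00 with h | h
    · exact absurd h hε0
    · exact h
  have e11 : M 1 1 * M 0 1 ^ q - M 0 1 * M 1 1 ^ q = 0 := by
    rcases h11 with h | h
    · exact absurd h hε0
    · exact h
  have e01 : M 1 0 * M 0 1 ^ q - M 0 0 * M 1 1 ^ q = -1 := by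
    have : ε * (M 1 0 * M 0 1 ^ q - M 0 0 * M 1 1 ^ q) = ε * (-1) := by
      rw [h01]; ring
    exact mul_left_cancel₀ hε0 this
  have e10 : M 1 1 * M 0 0 ^ q - M 0 1 * M 1 0 ^ q = 1 := by
    have : ε * (M 1 1 * M 0 0 ^ q - M 0 1 * M 1 0 ^ q) = ε * 1 := by
      rw [h10]; ring
    exact mul_left_cancel₀ hε0 this
  fin_cases i <;> fin_cases j
  · change M 0 0 ^ q = M 0 0
    linear_combination (-(M 0 0 ^ q)) * hdet + (M 0 0) * e10 - (M 0 1) * e00
  · change M 0 1 ^ q = M 0 1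
    linear_combination (-(M 0 1 ^ q)) * hdet - (M 0 1) * e01 + (M 0 0) * e11
  · change M 1 0 ^ q = M 1 0
    linear_combination (-(M 1 0 ^ q)) * hdet + (M 1 0) * e10 - (M 1 1) * e00
  · change M 1 1 ^ q = M 1 1
    linear_combination (-(M 1 1 ^ q)) * hdet - (M 1 1) * e01 + (M 1 0) * e11

theorem conj_mem_GU_iff (hF : Fintype.card F = q ^ 2) {e f : Fin 2 → F} (hp : HypPair q e f)
    {ε : F} (hε0 : ε ≠ 0) (hε : ε + ε ^ q = 0) (B : GL (Fin 2) F) :
    Pg hF hp hε0 hε * B * (Pg hF hp hε0 hε)⁻¹ ∈ GU 2 F q ↔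
      ∀ a b, om q ε (gact B a) (gact B b) = om q ε a b := by
  rw [mem_GU_iff]
  constructor
  · intro h a b
    rw [← hf_Pg hF hp hε0 hε, ← hf_Pg hF hp hε0 hε a b]
    have := h (gact (Pg hF hp hε0 hε) a) (gact (Pg hF hp hε0 hε) b)
    rw [gact_mul, gact_mul, gact_mul, gact_mul, gact_inv_gact, gact_inv_gact] at this
    exact this
  · intro h u v
    rw [gact_mul, gact_mul, gact_mul, gact_mul, hf_Pg, h, ← hf_Pg hF hp hε0 hε, gact_gact_inv,
      gact_gact_inv]

/-- The embedding of `SL_2` of the fixed field, conjugated into the unitary group. -/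
noncomputable def Φ (hF : Fintype.card F = q ^ 2) {e f : Fin 2 → F} (hp : HypPair q e f)
    {ε : F} (hε0 : ε ≠ 0) (hε : ε + ε ^ q = 0) :
    Matrix.SpecialLinearGroup (Fin 2) (Fix hF) →* GL (Fin 2) F :=
  (MulAut.conj (Pg hF hp hε0 hε)).toMonoidHom.comp
    (Matrix.SpecialLinearGroup.toGL.comp (Matrix.SpecialLinearGroup.map (Fix hF).subtype))

/-- The image of `A` in `GL_2(F)` before conjugation. -/
noncomputable def emb (hF : Fintype.card F = q ^ 2)
    (A : Matrix.SpecialLinearGroup (Fin 2) (Fix hF)) : GL (Fin 2) F :=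
  Matrix.SpecialLinearGroup.toGL (Matrix.SpecialLinearGroup.map (Fix hF).subtype A)

theorem emb_apply (hF : Fintype.card F = q ^ 2)
    (A : Matrix.SpecialLinearGroup (Fin 2) (Fix hF)) (i j : Fin 2) :
    (emb hF A : Matrix (Fin 2) (Fin 2) F) i j = ((A : Matrix (Fin 2) (Fin 2) (Fix hF)) i j : F) :=
  rfl

theorem Φ_apply (hF : Fintype.card F = q ^ 2) {e f : Fin 2 → F} (hp : HypPair q e f)
    {ε : F} (hε0 : ε ≠ 0) (hε : ε + ε ^ q = 0)
    (A : Matrix.SpecialLinearGroup (Fin 2) (Fix hF)) :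
    Φ hF hp hε0 hε A = Pg hF hp hε0 hε * emb hF A * (Pg hF hp hε0 hε)⁻¹ := rfl

theorem det_emb (hF : Fintype.card F = q ^ 2)
    (A : Matrix.SpecialLinearGroup (Fin 2) (Fix hF)) :
    (emb hF A : Matrix (Fin 2) (Fin 2) F).det = 1 :=
  (Matrix.SpecialLinearGroup.map (Fix hF).subtype A).2

theorem Φ_injective (hF : Fintype.card F = q ^ 2) {e f : Fin 2 → F} (hp : HypPair q e f)
    {ε : F} (hε0 : ε ≠ 0) (hε : ε + ε ^ q = 0) : Function.Injective (Φ hF hp hε0 hε) := by
  intro A B h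
  rw [Φ_apply, Φ_apply] at h
  have h' : emb hF A = emb hF B := mul_left_cancel (mul_right_cancel h)
  ext i j
  have := congrArg (fun g : GL (Fin 2) F => (g : Matrix (Fin 2) (Fin 2) F) i j) h'
  simp only [emb_apply] at this
  exact this

theorem Φ_range (hF : Fintype.card F = q ^ 2) {e f : Fin 2 → F} (hp : HypPair q e f)
    {ε : F} (hε0 : ε ≠ 0) (hε : ε + ε ^ q = 0) : (Φ hF hp hε0 hε).range = Gs 2 F q := by
  ext g
  rw [MonoidHom.mem_range, mem_SUg_iff]
  constructor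
  · rintro ⟨A, rfl⟩
    rw [Φ_apply]
    constructor
    · rw [conj_mem_GU_iff]
      intro a b
      exact om_of_fixed hF ε _ (fun i j => by
        rw [emb_apply]
        exact (mem_Fix hF).mp ((A : Matrix (Fin 2) (Fin 2) (Fix hF)) i j).2) (det_emb hF A) a b
    · rw [Units.val_mul, Units.val_mul, Matrix.det_mul, Matrix.det_mul, det_emb, mul_one,
        ← Matrix.det_mul, ← Units.val_mul, mul_inv_cancel, Units.val_one, Matrix.det_one]
  · rintro ⟨hgU, hgdet⟩
    obtain ⟨B, hB⟩ : ∃ B : GL (Fin 2) F, B = (Pg hF hp hε0 hε)⁻¹ * g * Pg hF hp hε0 hε := ⟨_, rfl⟩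
    have hgB : Pg hF hp hε0 hε * B * (Pg hF hp hε0 hε)⁻¹ = g := by
      rw [hB]; group
    have hBdet : (B : Matrix (Fin 2) (Fin 2) F).det = 1 := by
      rw [hB, Units.val_mul, Units.val_mul, Matrix.det_mul, Matrix.det_mul, hgdet, mul_one,
        ← Matrix.det_mul, ← Units.val_mul, inv_mul_cancel, Units.val_one, Matrix.det_one]
    have hBom : ∀ a b, om q ε (gact B a) (gact B b) = om q ε a b := by
      rw [← conj_mem_GU_iff hF hp hε0 hε, hgB]
      exact hgU
    have hfix := fixed_of_om hF hε0 (B : Matrix (Fin 2) (Fin 2) F) hBdet hBom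
    obtain ⟨M, hM⟩ : ∃ M : Matrix (Fin 2) (Fin 2) (Fix hF),
        M = fun i j => ⟨(B : Matrix (Fin 2) (Fin 2) F) i j, (mem_Fix hF).mpr (hfix i j)⟩ :=
      ⟨_, rfl⟩
    have hMmap : M.map (Fix hF).subtype = (B : Matrix (Fin 2) (Fin 2) F) := by
      ext i j
      rw [hM]
      rfl
    have hMdet : M.det = 1 := by
      apply (Fix hF).subtype_injective
      rw [RingHom.map_det, map_one]
      change (M.map (Fix hF).subtype).det = 1
      rw [hMmap, hBdet]
    obtain ⟨A, hA⟩ : ∃ A : Matrix.SpecialLinearGroup (Fin 2) (Fix hF),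
        (A : Matrix (Fin 2) (Fin 2) (Fix hF)) = M := ⟨⟨M, hMdet⟩, rfl⟩
    refine ⟨A, ?_⟩
    rw [Φ_apply, ← hgB]
    congr 2
    apply Units.ext
    ext i j
    rw [emb_apply, hA, hM]

/-- `SL_2` of the fixed field is isomorphic to `SU_2`. -/
theorem nonempty_equiv_Fix (hF : Fintype.card F = q ^ 2) :
    Nonempty (Matrix.SpecialLinearGroup (Fin 2) (Fix hF) ≃* ↥(Cfsg.SU 2 F q)) := by
  obtain ⟨e, he0, hee⟩ := exists_isotropic (n := 2) hF le_rfl
  obtain ⟨f, hp⟩ := exists_hyp hF e he0 hee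
  obtain ⟨ε, hε0, hε⟩ := exists_theta hF
  have e1 : Matrix.SpecialLinearGroup (Fin 2) (Fix hF) ≃* (Φ hF hp hε0 hε).range :=
    MonoidHom.ofInjective (Φ_injective hF hp hε0 hε)
  have e2 : (Φ hF hp hε0 hε).range ≃* ↥(Gs 2 F q) := MulEquiv.subgroupCongr (Φ_range hF hp hε0 hε)
  exact ⟨(e1.trans e2).trans (Cfsg.Agent.S0283.suEquiv 2 F q).symm⟩

/-- A ring isomorphism induces an isomorphism of special linear groups. -/
noncomputable def slCongr {R S : Type*} [CommRing R] [CommRing S] (e : R ≃+* S) :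
    Matrix.SpecialLinearGroup (Fin 2) R ≃* Matrix.SpecialLinearGroup (Fin 2) S :=
  MonoidHom.toMulEquiv (Matrix.SpecialLinearGroup.map e.toRingHom)
    (Matrix.SpecialLinearGroup.map e.symm.toRingHom)
    (by ext A i j; simp)
    (by ext A i j; simp)

/-- SU_2(q) ≅ SL_2(q). -/
theorem result {F K : Type*} [Field F] [Fintype F] [Field K] [Fintype K] {q : ℕ} (hF : Fintype.card F = q ^ 2) (hK : Fintype.card K = q) : Nonempty (Cfsg.SU 2 F q ≃* Matrix.SpecialLinearGroup (Fin 2) K) := by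
  obtain ⟨e⟩ := nonempty_equiv_Fix hF
  haveI : Fintype (Fix hF) := Fintype.ofFinite _
  have hcard : Fintype.card K = Fintype.card (Fix hF) := by
    rw [hK, ← Nat.card_eq_fintype_card, card_Fix hF]
  exact ⟨e.symm.trans (slCongr (FiniteField.ringEquivOfCardEq hcard)).symm⟩

end Cfsg.Agent.S0281
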