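import Cfsg.Statements.S0286
import Mathlib
import Cfsg.Agent.Lib.Helper19.QuadStd
import Cfsg.Agent.S2623

set_option autoImplicit false
open Cfsg

namespace Cfsg.Agent.S0286

open QuadraticMap Cfsg.Agent.Lib.Helper19.QuadWitt Cfsg.Agent.Lib.Helper19.QuadStd

section num

lemma zeta_rec (q m k : ℕ) (hq : 1 ≤ q) (hk : k < m) :
    q ^ (2 * (m - k)) = q * q ^ (2 * (m - (k + 1))) +
      (q - 1) * q ^ (2 * m + 1 - (k + 1 + (k + 1))) := by
  obtain ⟨t, ht⟩ : ∃ t, m - (k + 1) = t := ⟨_, rfl⟩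
  have h1 : m - k = t + 1 := by omega
  have h3 : 2 * m + 1 - (k + 1 + (k + 1)) = 2 * t + 1 := by omega
  rw [h1, ht, h3]
  obtain ⟨r, rfl⟩ : ∃ r, q = r + 1 := ⟨q - 1, by omega⟩
  rw [Nat.add_sub_cancel]
  ring

lemma prod_reflect (q m : ℕ) :
    ∏ i ∈ Finset.range m, ((q ^ (2 * (m - i)) - 1) * q ^ (2 * m + 1 - (i + 1 + (i + 1)))) =
      ∏ j ∈ Finset.range m, ((q ^ (2 * (j + 1)) - 1) * q ^ (2 * j + 1)) := by
  rw [← Finset.prod_range_reflect]
  apply Finset.prod_congr rfl
  intro i hi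
  rw [Finset.mem_range] at hi
  have h1 : m - (m - 1 - i) = i + 1 := by omega
  have h3 : 2 * m + 1 - (m - 1 - i + 1 + (m - 1 - i + 1)) = 2 * i + 1 := by omega
  rw [h3, h1]

lemma prod_fac (q m : ℕ) :
    ∏ j ∈ Finset.range m, ((q ^ (2 * (j + 1)) - 1) * q ^ (2 * j + 1)) =
      q ^ (m ^ 2) * ∏ i ∈ Finset.range m, (q ^ (2 * (i + 1)) - 1) := by
  induction m with
  | zero => simp
  | succ n ih =>
    rw [Finset.prod_range_succ, ih, Finset.prod_range_succ (fun i => q ^ (2 * (i + 1)) - 1)]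
    have hexp : q ^ ((n + 1) ^ 2) = q ^ (n ^ 2) * q ^ (2 * n + 1) := by
      rw [← pow_add]
      congr 1
      ring
    rw [hexp]
    ring

end num

section main

variable {F : Type*} [Field F] [Fintype F]

/-- The complement of the standard frame is anisotropic. -/
lemma Zp_std (m : ℕ) : Zp (stdOdd m F)
    (fun i : Fin m => (stdFamId (stdOdd m F)).1 (Sum.inr (Sum.inl i)))
    (fun i : Fin m => (stdFamId (stdOdd m F)).1 (Sum.inr (Sum.inr i))) = 1 := by
  classical
  unfold Zp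
  rw [Nat.card_eq_one_iff_unique]
  refine ⟨⟨?_⟩, ⟨⟨0, Submodule.zero_mem _, QuadraticMap.map_zero _⟩⟩⟩
  have key : ∀ w : Unit ⊕ (Fin m ⊕ Fin m) → F,
      w ∈ perp (stdOdd m F) (fun i : Fin m => (stdFamId (stdOdd m F)).1 (Sum.inr (Sum.inl i)))
        (fun i : Fin m => (stdFamId (stdOdd m F)).1 (Sum.inr (Sum.inr i))) →
      stdOdd m F w = 0 → w = 0 := by
    intro w hw hQ
    have h1 : ∀ i, w (Sum.inr (Sum.inr i)) = 0 := by
      intro i
      have := (hw i).1
      rw [polar_stdOdd] at this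
      simpa [stdFamId, Pi.single_apply] using this
    have h2 : ∀ i, w (Sum.inr (Sum.inl i)) = 0 := by
      intro i
      have := (hw i).2
      rw [polar_stdOdd] at this
      simpa [stdFamId, Pi.single_apply] using this
    rw [stdOdd_apply] at hQ
    unfold Cfsg.quadFormOdd at hQ
    simp only [h1, h2, mul_zero, Finset.sum_const_zero, add_zero] at hQ
    have h0 : w (Sum.inl ()) = 0 := by
      exact pow_eq_zero_iff (two_ne_zero) |>.1 hQ
    funext s
    rcases s with u | i | i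
    · exact h0
    · exact h2 i
    · exact h1 i
  rintro ⟨a, ha, ha'⟩ ⟨b, hb, hb'⟩
  apply Subtype.ext
  show a = b
  rw [key a ha ha', key b hb hb']

lemma finrank_odd (m : ℕ) : Module.finrank F (Unit ⊕ (Fin m ⊕ Fin m) → F) = 2 * m + 1 := by
  rw [Module.finrank_fintype_fun_eq_card, Fintype.card_sum, Fintype.card_sum, Fintype.card_fin,
    Fintype.card_unit]
  ring

/-- The number of unit vectors in the complement of a full frame. -/
lemma card_UP (h2 : (2 : F) ≠ 0) (m : ℕ) (fr : Frames (stdOdd m F) m)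
    (hZ : Zp (stdOdd m F) fr.1.1 fr.1.2 = 1) :
    Nat.card (UP (stdOdd m F) fr.1.1 fr.1.2) = 2 := by
  classical
  obtain ⟨⟨e, f⟩, h⟩ := fr
  simp only at hZ h ⊢
  set Q := stdOdd m F with hQdef
  -- anisotropy of the complement
  have haniso : ∀ w, w ∈ perp Q e f → Q w = 0 → w = 0 := by
    intro w hw hQw
    unfold Zp at hZ
    rw [Nat.card_eq_one_iff_unique] at hZ
    obtain ⟨hsub, -⟩ := hZ
    have := @Subsingleton.elim _ hsub ⟨w, hw, hQw⟩ ⟨0, Submodule.zero_mem _, QuadraticMap.map_zero _⟩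
    exact congrArg Subtype.val this
  -- the complement is a line
  have hdim := finrank_perp_eq h
  rw [finrank_odd] at hdim
  have h1 : Module.finrank F ↥(perp Q e f) = 1 := by
    omega
  obtain ⟨⟨x₁, hx₁⟩, hx₁0, hspan⟩ := finrank_eq_one_iff'.1 h1
  have hx₁0' : x₁ ≠ 0 := fun h0 => hx₁0 (Subtype.ext h0)
  have hQx₁ : Q x₁ ≠ 0 := fun h0 => hx₁0' (haniso x₁ hx₁ h0)
  -- discriminant comparison with the standard frame
  have hstd := (stdFamId Q).odd_isHyp
  have hstdmem := (stdFamId Q).odd_mem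
  have hstdQ := (stdFamId Q).odd_Q
  obtain ⟨u, hu, hdet⟩ := Cfsg.Agent.S2623.det_of_odd (finrank_odd m) h hx₁ hQx₁
    (Pi.basisFun F (Unit ⊕ (Fin m ⊕ Fin m)))
  obtain ⟨u', hu', hdet'⟩ := Cfsg.Agent.S2623.det_of_odd (finrank_odd m) hstd hstdmem
    (by rw [hstdQ]; exact one_ne_zero) (Pi.basisFun F (Unit ⊕ (Fin m ⊕ Fin m)))
  rw [hdet, hstdQ] at hdet'
  have hJ := det_Jp_ne_zero (F := F) m
  have hval : Q x₁ = (u' / u) ^ 2 := by
    have : (2 * (Jp m F).det) * (u ^ 2 * Q x₁ - u' ^ 2) = 0 := by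
      linear_combination hdet'
    have := (mul_eq_zero.1 this).resolve_left (mul_ne_zero h2 hJ)
    field_simp
    linear_combination this
  -- the two unit vectors
  set x : Unit ⊕ (Fin m ⊕ Fin m) → F := (u / u') • x₁ with hxdef
  have hx : x ∈ perp Q e f := Submodule.smul_mem _ _ hx₁
  have hQx : Q x = 1 := by
    rw [hxdef, QuadraticMap.map_smul, hval, smul_eq_mul]
    field_simp
  have hx0 : x ≠ 0 := by
    intro h0
    rw [h0, QuadraticMap.map_zero] at hQx
    exact zero_ne_one hQx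
  have hnx : -x ∈ perp Q e f := Submodule.neg_mem _ hx
  have hQnx : Q (-x) = 1 := by
    rw [QuadraticMap.map_neg, hQx]
  rw [Nat.card_eq_two_iff]
  refine ⟨⟨x, hx, hQx⟩, ⟨-x, hnx, hQnx⟩, ?_, ?_⟩
  · intro heq
    have h3 : x = -x := congrArg Subtype.val heq
    have h4 : (2 : F) • x = 0 := by
      rw [two_smul]
      nth_rewrite 2 [h3]
      exact add_neg_cancel x
    rcases smul_eq_zero.1 h4 with h5 | h5
    · exact h2 h5
    · exact hx0 h5
  · rw [Set.eq_univ_iff_forall]
    rintro ⟨w, hw, hQw⟩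
    obtain ⟨c, hc⟩ := hspan ⟨w, hw⟩
    have hc' : w = c • x₁ := (congrArg Subtype.val hc).symm
    have hux : x₁ = (u' / u) • x := by
      rw [hxdef, smul_smul]
      have : u' / u * (u / u') = 1 := by field_simp
      rw [this, one_smul]
    have hw' : w = (c * (u' / u)) • x := by
      rw [hc', hux, smul_smul]
    set d := c * (u' / u) with hd
    have hd2 : d ^ 2 = 1 := by
      have := hQw
      rw [hw', QuadraticMap.map_smul, hQx, smul_eq_mul, mul_one] at this
      rw [pow_two]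
      exact this
    have hd3 : (d - 1) * (d + 1) = 0 := by linear_combination hd2
    rcases mul_eq_zero.1 hd3 with h6 | h6
    · left
      apply Subtype.ext
      show w = x
      rw [hw', sub_eq_zero.1 h6, one_smul]
    · right
      apply Subtype.ext
      show w = -x
      rw [hw', eq_neg_of_add_eq_zero_left h6, neg_smul, one_smul]

end main

/-- |GO_{2m+1}(q)| = 2 q^(m^2) prod_{i=1}^{m} (q^(2i) - 1) for q odd. -/
theorem result {F : Type*} [Field F] [Fintype F] {q : ℕ} (hF : Fintype.card F = q) (hodd : Odd q) (m : ℕ) : Nat.card (Cfsg.isometryGroup F (Cfsg.quadFormOdd m F)) = 2 * q ^ (m ^ 2) * ∏ i ∈ Finset.range m, (q ^ (2 * (i + 1)) - 1) := by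
  classical
  have hq : 1 ≤ q := by
    rw [← hF]
    exact Fintype.card_pos
  have h2 : (2 : F) ≠ 0 := by
    intro h
    haveI : CharP F 2 := CharTwo.of_one_ne_zero_of_two_eq_zero one_ne_zero h
    have := FiniteField.even_card_of_char_two (ringChar.eq F 2)
    rw [hF] at this
    exact (Nat.not_even_iff_odd.2 hodd) (Nat.even_iff.2 this)
  have hnd := stdOdd_nondeg (F := F) m h2
  rw [← coe_stdOdd, card_isometryGroup_eq _ hnd, Nat.card_congr (oddFamEquiv m)]
  have hE := (stdFamId (stdOdd m F)).odd_isHyp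
  have hζm : (fun k => q ^ (2 * (m - k))) m = Zp (stdOdd m F)
      (fun i : Fin m => (stdFamId (stdOdd m F)).1 (Sum.inr (Sum.inl i)))
      (fun i : Fin m => (stdFamId (stdOdd m F)).1 (Sum.inr (Sum.inr i))) := by
    rw [Zp_std m]
    simp
  have hrec : ∀ k, k < m → (fun k => q ^ (2 * (m - k))) k =
      Fintype.card F * (fun k => q ^ (2 * (m - k))) (k + 1) + (Fintype.card F - 1) *
        Fintype.card F ^ (Module.finrank F (Unit ⊕ (Fin m ⊕ Fin m) → F) - (k + 1 + (k + 1))) := by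
    intro k hk
    rw [hF, finrank_odd]
    exact zeta_rec q m k hq hk
  have hZall : ∀ fr : Frames (stdOdd m F) m, Zp (stdOdd m F) fr.1.1 fr.1.2 = 1 := by
    intro fr
    have := Zp_eq_of_ref hE _ hζm hrec le_rfl fr.2
    rw [this]
    simp
  haveI : ∀ fr : Frames (stdOdd m F) m, Finite (UP (stdOdd m F) fr.1.1 fr.1.2) := by
    intro fr
    unfold UP
    infer_instance
  rw [card_sigma_const 2 (fun fr => card_UP h2 m fr (hZall fr))]
  have key := card_frames hnd hE _ hζm hrec m le_rfl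
  rw [key, hF, finrank_odd, prod_reflect, prod_fac]
  ring

end Cfsg.Agent.S0286
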