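import Cfsg.Statements.S0289
import Mathlib
import Cfsg.Agent.Lib.Helper14.QuadCount

set_option autoImplicit false
open Cfsg

namespace Cfsg.Agent.S0289

/-- The hyperbolic quadratic form on F^(2m), m at least 1, has q^(2m-1) + q^m - q^(m-1) zeros (that is, (q^m - 1)(q^(m-1) + 1) non-zero isotropic vectors). -/
theorem result {F : Type*} [Field F] [Fintype F] {q : ℕ} (hF : Fintype.card F = q) (m : ℕ) (hm : 1 ≤ m) : Nat.card {v : Fin m ⊕ Fin m → F // Cfsg.quadFormPlus m F v = 0} = q ^ (2 * m - 1) + q ^ m - q ^ (m - 1) := by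
  classical
  have hcount : Nat.card {v : Fin m ⊕ Fin m → F // Cfsg.quadFormPlus m F v = 0} =
      Cfsg.Agent.Lib.Helper14.QuadCount.zeroCount (fun _ : Unit => (0 : F)) m := by
    unfold Cfsg.Agent.Lib.Helper14.QuadCount.zeroCount
    apply Nat.card_congr
    refine ⟨fun v => ⟨((), fun i => v.1 (Sum.inl i), fun i => v.1 (Sum.inr i)), ?_⟩,
      fun t => ⟨Sum.elim t.1.2.1 t.1.2.2, ?_⟩, ?_, ?_⟩
    · have := v.2
      unfold Cfsg.quadFormPlus at this
      simpa using this
    · have := t.2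
      unfold Cfsg.quadFormPlus
      simpa using this
    · rintro ⟨v, hv⟩
      apply Subtype.ext
      funext i
      rcases i with i | i <;> rfl
    · rintro ⟨⟨u, x, y⟩, h⟩
      rfl
  have hform := Cfsg.Agent.Lib.Helper14.QuadCount.zeroCount_formula (fun _ : Unit => (0 : F)) m
  have h1 : Nat.card {v : Unit // (fun _ : Unit => (0 : F)) v = 0} = 1 := by
    rw [Nat.card_eq_fintype_card, Fintype.card_subtype]
    simp
  rw [h1, hF] at hform
  simp only [Fintype.card_unit, one_mul, mul_one] at hform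
  rw [hcount]
  obtain ⟨m', rfl⟩ : ∃ m', m = m' + 1 := ⟨m - 1, by omega⟩
  have hq : 0 < q := by rw [← hF]; exact Fintype.card_pos
  set N := Cfsg.Agent.Lib.Helper14.QuadCount.zeroCount (fun _ : Unit => (0 : F)) (m' + 1) with hN
  have e1 : q ^ (m' + 1) = q * q ^ m' := pow_succ' _ _
  have e2 : q ^ (m' + 1 + 1) = q * q ^ (m' + 1) := pow_succ' _ _
  have e3 : q ^ (2 * (m' + 1)) = q * q ^ (2 * (m' + 1) - 1) := by
    rw [← pow_succ']; congr 1
  have h2 : q * (N + q ^ m') = q * (q ^ (m' + 1) + q ^ (2 * (m' + 1) - 1)) := by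
    rw [mul_add, mul_add, ← e1, ← e2, ← e3]; exact hform
  have h3 := Nat.eq_of_mul_eq_mul_left hq h2
  have e4 : m' + 1 - 1 = m' := by omega
  rw [e4]
  omega

end Cfsg.Agent.S0289
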