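import Cfsg.Statements.S0290
import Mathlib
import Cfsg.Agent.Lib.Helper14.QuadCount

set_option autoImplicit false
open Cfsg

namespace Cfsg.Agent.S0290

/-- The minus-type quadratic form on F^(2m), m at least 1, has q^(2m-1) + q^(m-1) - q^m zeros (that is, (q^m + 1)(q^(m-1) - 1) non-zero isotropic vectors). -/
theorem result {F : Type*} [Field F] [Fintype F] {q : ℕ} (hF : Fintype.card F = q) (m : ℕ) (hm : 1 ≤ m) (a b : F) (hab : ∀ z₁ z₂ : F, z₁ ^ 2 + a * z₁ * z₂ + b * z₂ ^ 2 = 0 → z₁ = 0 ∧ z₂ = 0) : Nat.card {v : (Fin (m - 1) ⊕ Fin (m - 1)) ⊕ Fin 2 → F // Cfsg.quadFormMinus (m - 1) F a b v = 0} = q ^ (2 * m - 1) + q ^ (m - 1) - q ^ m := by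
  classical
  set Q₀ : (Fin 2 → F) → F := fun z => z 0 ^ 2 + a * z 0 * z 1 + b * z 1 ^ 2 with hQ₀
  have hcount : Nat.card {v : (Fin (m - 1) ⊕ Fin (m - 1)) ⊕ Fin 2 → F // Cfsg.quadFormMinus (m - 1) F a b v = 0} =
      Cfsg.Agent.Lib.Helper14.QuadCount.zeroCount Q₀ (m - 1) := by
    unfold Cfsg.Agent.Lib.Helper14.QuadCount.zeroCount
    apply Nat.card_congr
    refine ⟨fun v => ⟨(fun j => v.1 (Sum.inr j), fun i => v.1 (Sum.inl (Sum.inl i)), fun i => v.1 (Sum.inl (Sum.inr i))), ?_⟩,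
      fun t => ⟨Sum.elim (Sum.elim t.1.2.1 t.1.2.2) t.1.1, ?_⟩, ?_, ?_⟩
    · have := v.2
      unfold Cfsg.quadFormMinus at this
      simp only [hQ₀]
      linear_combination this
    · have := t.2
      unfold Cfsg.quadFormMinus
      simp only [hQ₀, Sum.elim_inl, Sum.elim_inr] at this ⊢
      linear_combination this
    · rintro ⟨v, hv⟩
      apply Subtype.ext
      funext i
      rcases i with (i | i) | i <;> rfl
    · rintro ⟨⟨u, x, y⟩, h⟩
      rfl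
  have hform := Cfsg.Agent.Lib.Helper14.QuadCount.zeroCount_formula Q₀ (m - 1)
  have h1 : Nat.card {v : Fin 2 → F // Q₀ v = 0} = 1 := by
    rw [Nat.card_eq_one_iff_unique]
    refine ⟨⟨?_⟩, ⟨⟨0, by simp [hQ₀]⟩⟩⟩
    rintro ⟨z, hz⟩ ⟨z', hz'⟩
    apply Subtype.ext
    have hz0 := hab (z 0) (z 1) hz
    have hz0' := hab (z' 0) (z' 1) hz'
    funext i
    fin_cases i
    · simp [hz0.1, hz0'.1]
    · simp [hz0.2, hz0'.2]
  have hV : Fintype.card (Fin 2 → F) = q ^ 2 := by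
    rw [Fintype.card_fun, Fintype.card_fin, hF]
  rw [h1, hF, hV] at hform
  simp only [mul_one] at hform
  rw [hcount]
  obtain ⟨m', rfl⟩ : ∃ m', m = m' + 1 := ⟨m - 1, by omega⟩
  simp only [Nat.add_sub_cancel] at hform ⊢
  have hq : 0 < q := by rw [← hF]; exact Fintype.card_pos
  set N := Cfsg.Agent.Lib.Helper14.QuadCount.zeroCount Q₀ m' with hN
  have e1 : q ^ (m' + 1) = q * q ^ m' := pow_succ' _ _
  have e2 : q ^ 2 * q ^ m' = q * q ^ (m' + 1) := by rw [e1]; ring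
  have e3 : q ^ 2 * q ^ (2 * m') = q * q ^ (2 * (m' + 1) - 1) := by
    have : 2 * (m' + 1) - 1 = 2 * m' + 1 := by omega
    rw [this, pow_succ]; ring
  have h2 : q * (N + q ^ (m' + 1)) = q * (q ^ m' + q ^ (2 * (m' + 1) - 1)) := by
    rw [mul_add, mul_add, ← e1, ← e2, ← e3]; exact hform
  have h3 := Nat.eq_of_mul_eq_mul_left hq h2
  omega

end Cfsg.Agent.S0290
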