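import Cfsg.Statements.S0291
import Mathlib
import Cfsg.Agent.Lib.Helper14.QuadCount

set_option autoImplicit false
open Cfsg

namespace Cfsg.Agent.S0291

/-- For q odd, the form x_0^2 + sum_{i<m} x_i y_i on F^(2m+1) has exactly q^(2m) zeros. -/
theorem result {F : Type*} [Field F] [Fintype F] {q : ℕ} (hF : Fintype.card F = q) (hodd : Odd q) (m : ℕ) : Nat.card {v : Unit ⊕ (Fin m ⊕ Fin m) → F // Cfsg.quadFormOdd m F v = 0} = q ^ (2 * m) := by
  classical
  have hcount : Nat.card {v : Unit ⊕ (Fin m ⊕ Fin m) → F // Cfsg.quadFormOdd m F v = 0} =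
      Cfsg.Agent.Lib.Helper14.QuadCount.zeroCount (fun x : F => x ^ 2) m := by
    unfold Cfsg.Agent.Lib.Helper14.QuadCount.zeroCount
    apply Nat.card_congr
    refine ⟨fun v => ⟨(v.1 (Sum.inl ()), fun i => v.1 (Sum.inr (Sum.inl i)), fun i => v.1 (Sum.inr (Sum.inr i))), ?_⟩,
      fun t => ⟨Sum.elim (fun _ => t.1.1) (Sum.elim t.1.2.1 t.1.2.2), ?_⟩, ?_, ?_⟩
    · have := v.2
      unfold Cfsg.quadFormOdd at this
      simpa using this
    · have := t.2
      unfold Cfsg.quadFormOdd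
      simpa using this
    · rintro ⟨v, hv⟩
      apply Subtype.ext
      funext i
      rcases i with i | i | i <;> rfl
    · rintro ⟨⟨u, x, y⟩, h⟩
      rfl
  have hform := Cfsg.Agent.Lib.Helper14.QuadCount.zeroCount_formula (fun x : F => x ^ 2) m
  have h1 : Nat.card {v : F // (fun x : F => x ^ 2) v = 0} = 1 := by
    rw [Nat.card_eq_one_iff_unique]
    refine ⟨⟨?_⟩, ⟨⟨0, by simp⟩⟩⟩
    rintro ⟨z, hz⟩ ⟨z', hz'⟩
    apply Subtype.ext
    have h0 : z = 0 := by simpa using hz
    have h0' : z' = 0 := by simpa using hz'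
    change z = z'
    rw [h0, h0']
  rw [h1, hF] at hform
  simp only [mul_one] at hform
  rw [hcount]
  have hq : 0 < q := by rw [← hF]; exact Fintype.card_pos
  set N := Cfsg.Agent.Lib.Helper14.QuadCount.zeroCount (fun x : F => x ^ 2) m with hN
  have e1 : q ^ (m + 1) = q * q ^ m := pow_succ' _ _
  have h2 : q * (N + q ^ m) = q * (q ^ m + q ^ (2 * m)) := by
    rw [mul_add, mul_add, ← e1]
    rw [e1] at hform ⊢
    exact hform
  have h3 := Nat.eq_of_mul_eq_mul_left hq h2
  omega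

end Cfsg.Agent.S0291
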