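import Cfsg.Statements.S0292
import Mathlib
import Cfsg.Agent.Lib.Helper19.OrthCenter
import Cfsg.Agent.Lib.Helper19.OrthDiag2
import Cfsg.Agent.Lib.Helper19.OrthHyp
import Cfsg.Agent.Lib.Helper19.QuadStd
import Cfsg.Agent.S0286
-- import your own Cfsg.Agent.* helpers here

set_option autoImplicit false
open Cfsg

namespace Cfsg.Agent.S0292

open Cfsg.Agent.Lib.Helper19.OrthRefl Cfsg.Agent.Lib.Helper19.QuadStd

/-- 2 |PΩ_{2m+1}(q)| = q^(m^2) prod_{i=1}^{m} (q^(2i) - 1), for q odd and m at least 3 (type B_m). -/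
theorem result {F : Type*} [Field F] [Fintype F] {q : ℕ} (hF : Fintype.card F = q) (hodd : Odd q) (m : ℕ) (hm : 3 ≤ m) : 2 * Nat.card (Cfsg.POmega F (Cfsg.quadFormOdd m F)) = q ^ (m ^ 2) * ∏ i ∈ Finset.range m, (q ^ (2 * (i + 1)) - 1) := by
  classical
  have h2 : (2 : F) ≠ 0 := two_ne_zero_of_odd_card (by rw [hF]; exact hodd)
  have hG := Cfsg.Agent.S0286.result hF hodd m
  rw [← coe_stdOdd] at hG ⊢
  set Q := stdOdd m F with hQdef
  have hQ : (QuadraticMap.polarBilin Q).Nondegenerate := stdOdd_nondeg m h2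
  have hcard : Fintype.card (Unit ⊕ (Fin m ⊕ Fin m)) = 2 * m + 1 := by
    rw [Fintype.card_sum, Fintype.card_sum, Fintype.card_fin]; simp; omega
  have hfr : Module.finrank F (Unit ⊕ (Fin m ⊕ Fin m) → F) = 2 * m + 1 := by
    rw [Module.finrank_fintype_fun_eq_card, hcard]
  obtain ⟨c, hc0, v, hv, hvc⟩ := exists_orthFam_all_const_odd h2 Q hQ (by rw [hfr]; exact ⟨m, rfl⟩)
  have hn2 : 2 ≤ Fintype.card (Unit ⊕ (Fin m ⊕ Fin m)) := by rw [hcard]; omega
  have hn4 : 4 ≤ Fintype.card (Unit ⊕ (Fin m ⊕ Fin m)) := by rw [hcard]; omega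
  -- the centre of `Ω` is trivial
  have hcenter : Subgroup.center ↥(Cfsg.Omega F ⇑Q) = ⊥ := by
    rw [eq_bot_iff]
    intro z hz
    rw [Subgroup.mem_center_iff] at hz
    have hz' : ∀ g ∈ Cfsg.Omega F ⇑Q, g * z.1 = z.1 * g := by
      intro g hg
      have := hz ⟨g, hg⟩
      exact congrArg Subtype.val this
    rcases centralizer_Omega h2 Q hQ hn4 c v hv hvc z.1 hz' with h | h
    · rw [Subgroup.mem_bot]
      exact Subtype.ext h
    · exfalso
      have hmem : negOne Q ∈ Cfsg.Omega F ⇑Q := by rw [← h]; exact z.2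
      have hdet := ((mem_Omega_iff h2 Q hQ hn2 1 one_ne_zero (negOne Q)).1 hmem).1
      rw [negOne_coe, Matrix.det_neg, Matrix.det_one, mul_one, hcard] at hdet
      have : (-1 : F) ^ (2 * m + 1) = -1 := Odd.neg_one_pow ⟨m, rfl⟩
      rw [this] at hdet
      apply h2
      linear_combination -hdet
  have hPO : Nat.card (Cfsg.POmega F ⇑Q) = Nat.card ↥(Cfsg.Omega F ⇑Q) := by
    have := Subgroup.card_eq_card_quotient_mul_card_subgroup (Subgroup.center ↥(Cfsg.Omega F ⇑Q))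
    have h1 : Nat.card ↥(Subgroup.center ↥(Cfsg.Omega F ⇑Q)) = 1 := by
      rw [hcenter]; exact Subgroup.card_bot
    rw [h1, mul_one] at this
    exact this.symm
  have hidx := (Omega_structure h2 Q hQ hn2).1
  have hmul := Subgroup.card_mul_index (Cfsg.Omega F ⇑Q)
  rw [hidx, hG] at hmul
  rw [hPO]
  have e : 2 * q ^ (m ^ 2) * ∏ i ∈ Finset.range m, (q ^ (2 * (i + 1)) - 1)
      = 2 * (q ^ (m ^ 2) * ∏ i ∈ Finset.range m, (q ^ (2 * (i + 1)) - 1)) := by ring
  rw [e] at hmul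
  omega

end Cfsg.Agent.S0292
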