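import Cfsg.Statements.S0293
import Mathlib
import Cfsg.Agent.Lib.Helper19.OrthPOmegaCard
import Cfsg.Agent.Lib.Helper19.QuadStd
import Cfsg.Agent.S0287
import Cfsg.Agent.S0790

set_option autoImplicit false
open Cfsg

namespace Cfsg.Agent.S0293

open Cfsg.Agent.Lib.Helper19.OrthRefl Cfsg.Agent.Lib.Helper19.QuadStd

theorem gcd_four_of_mod {n r : ℕ} (h : n % 4 = r) : Nat.gcd 4 n = Nat.gcd r 4 := by
  rw [Nat.gcd_rec, h]

theorem negOne_mem_iff {ι : Type} [Fintype ι] [DecidableEq ι] {F : Type*} [Field F]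
    (Q : QuadraticForm F (ι → F)) :
    (∃ g : ↥(Cfsg.isometryGroup F ⇑Q), g ∈ Cfsg.Omega F ⇑Q ∧
      ((g : Matrix.GeneralLinearGroup ι F) : Matrix ι ι F) = -1) ↔ negOne Q ∈ Cfsg.Omega F ⇑Q := by
  constructor
  · rintro ⟨g, hg, hmat⟩
    have : g = negOne Q := by
      apply Subtype.ext
      apply Units.ext
      rw [hmat, negOne_coe]
    rw [← this]
    exact hg
  · intro h
    exact ⟨negOne Q, h, negOne_coe Q⟩

/-- gcd(4, q^m - 1) |PΩ^+_{2m}(q)| = q^(m(m-1)) (q^m - 1) prod_{i=1}^{m-1} (q^(2i) - 1), m at least 4 (type D_m). -/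
theorem result {F : Type*} [Field F] [Fintype F] {q : ℕ} (hF : Fintype.card F = q) (m : ℕ) (hm : 4 ≤ m) : Nat.gcd 4 (q ^ m - 1) * Nat.card (Cfsg.POmega F (Cfsg.quadFormPlus m F)) = q ^ (m * (m - 1)) * (q ^ m - 1) * ∏ i ∈ Finset.range (m - 1), (q ^ (2 * (i + 1)) - 1) := by
  classical
  have hG := Cfsg.Agent.S0287.result hF m (by omega)
  have hcard : Fintype.card (Fin m ⊕ Fin m) = 2 * m := by
    rw [Fintype.card_sum, Fintype.card_fin]; ring
  have e : 2 * q ^ (m * (m - 1)) * (q ^ m - 1) * ∏ i ∈ Finset.range (m - 1), (q ^ (2 * (i + 1)) - 1)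
      = 2 * (q ^ (m * (m - 1)) * (q ^ m - 1) *
        ∏ i ∈ Finset.range (m - 1), (q ^ (2 * (i + 1)) - 1)) := by ring
  rw [e] at hG
  by_cases h2 : (2 : F) = 0
  · have h := two_mul_card_POmega_c2 h2 (stdPlus m F) (stdPlus_nondeg m) (by rw [hcard]; omega)
    rw [coe_stdPlus, hG] at h
    haveI : CharP F 2 := CharTwo.of_one_ne_zero_of_two_eq_zero one_ne_zero h2
    have hq2 : q % 2 = 0 := by
      rw [← hF]
      exact FiniteField.even_card_of_char_two (ringChar.eq F 2)
    have hqm : q ^ m % 2 = 0 := by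
      have : 2 ∣ q ^ m := dvd_pow (Nat.dvd_of_mod_eq_zero hq2) (by omega)
      omega
    have hqpos : 0 < q ^ m := by
      apply Nat.pow_pos
      rw [← hF]; exact Fintype.card_pos
    have hg : Nat.gcd 4 (q ^ m - 1) = 1 := by
      have h1 : (q ^ m - 1) % 4 = 1 ∨ (q ^ m - 1) % 4 = 3 := by omega
      rcases h1 with h1 | h1
      · rw [gcd_four_of_mod h1]; norm_num
      · rw [gcd_four_of_mod h1]; norm_num
    rw [hg]
    omega
  · have hodd : Odd q := by
      rw [← hF]
      rcases Nat.even_or_odd (Fintype.card F) with he | ho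
      · exfalso
        apply h2
        have : ringChar F = 2 := FiniteField.even_card_iff_char_two.2 (Nat.even_iff.1 he)
        haveI : CharP F 2 := by rw [← this]; exact ringChar.charP F
        have h3 := CharP.cast_eq_zero F 2
        exact_mod_cast h3
      · exact ho
    have hiff := Cfsg.Agent.S0790.result hF hodd m (by omega)
    rw [← coe_stdPlus, negOne_mem_iff] at hiff
    have hqm : q ^ m % 2 = 1 := Nat.odd_iff.1 (hodd.pow)
    by_cases hneg : negOne (stdPlus m F) ∈ Cfsg.Omega F ⇑(stdPlus m F)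
    · have h := eight_mul_card_POmega_odd h2 (stdPlus m F) (stdPlus_nondeg m)
        (by rw [hcard]; omega) hneg
      rw [coe_stdPlus, hG] at h
      have h4 := hiff.1 hneg
      have hg : Nat.gcd 4 (q ^ m - 1) = 4 := by
        have h1 : (q ^ m - 1) % 4 = 0 := by omega
        rw [gcd_four_of_mod h1]; norm_num
      rw [hg]
      omega
    · have h := four_mul_card_POmega_odd h2 (stdPlus m F) (stdPlus_nondeg m)
        (by rw [hcard]; omega) hneg
      rw [coe_stdPlus, hG] at h
      have h4 : q ^ m % 4 ≠ 1 := fun h' => hneg (hiff.2 h')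
      have hg : Nat.gcd 4 (q ^ m - 1) = 2 := by
        have h1 : (q ^ m - 1) % 4 = 2 := by omega
        rw [gcd_four_of_mod h1]; norm_num
      rw [hg]
      omega

end Cfsg.Agent.S0293
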