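import Cfsg.Statements.S0791
import Mathlib
import Cfsg.Agent.Lib.Helper19.OrthNegOne
import Cfsg.Agent.Lib.Helper19.OrthHyp
import Cfsg.Agent.Lib.Helper19.QuadStd
-- import your own Cfsg.Agent.* helpers here

set_option autoImplicit false
open Cfsg

namespace Cfsg.Agent.S0791

open Cfsg.Agent.Lib.Helper19.OrthRefl Cfsg.Agent.Lib.Helper19.QuadStd
  Cfsg.Agent.Lib.Helper19.QuadWitt

theorem pow_mod_four_eq_three_iff {q : ℕ} (hodd : Odd q) (m : ℕ) :
    q ^ m % 4 = 3 ↔ q % 4 = 3 ∧ Odd m := by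
  have hq : q % 4 = 1 ∨ q % 4 = 3 := by
    obtain ⟨k, hk⟩ := hodd
    omega
  rw [Nat.pow_mod]
  rcases hq with h | h
  · rw [h, one_pow]
    constructor
    · intro h'; exact absurd h' (by decide)
    · rintro ⟨h', _⟩; omega
  · rw [h]
    rcases Nat.even_or_odd m with hm | hm
    · obtain ⟨k, rfl⟩ := hm
      rw [← two_mul, pow_mul]
      have : (3 ^ 2) ^ k % 4 = 1 := by
        rw [Nat.pow_mod]; norm_num
      rw [this]
      constructor
      · intro h'; exact absurd h' (by decide)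
      · rintro ⟨_, h'⟩
        exact absurd h' (by rw [Nat.not_odd_iff_even]; exact ⟨k, by ring⟩)
    · have hm' := hm
      obtain ⟨k, rfl⟩ := hm
      rw [pow_succ, pow_mul]
      have : (3 ^ 2) ^ k * 3 % 4 = 3 := by
        rw [Nat.mul_mod, Nat.pow_mod]; norm_num
      rw [this]
      exact ⟨fun _ => ⟨rfl, hm'⟩, fun _ => rfl⟩

/-- −1 ∈ Ω⁻_2m(q) iff q^m ≡ −1 (mod 4), for q odd and m ≥ 1; for the minus-type form quadFormMinus (m−1) with anisotropic binary part. -/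
theorem result {F : Type*} [Field F] [Fintype F] {q : ℕ} (hF : Fintype.card F = q) (hodd : Odd q) (m : ℕ) (hm : 1 ≤ m) (a b : F) (hab : ∀ z₁ z₂ : F, z₁ ^ 2 + a * z₁ * z₂ + b * z₂ ^ 2 = 0 → z₁ = 0 ∧ z₂ = 0) : (∃ g : ↥(Cfsg.isometryGroup F (Cfsg.quadFormMinus (m - 1) F a b)), g ∈ Cfsg.Omega F (Cfsg.quadFormMinus (m - 1) F a b) ∧ ((g : Matrix.GeneralLinearGroup ((Fin (m - 1) ⊕ Fin (m - 1)) ⊕ Fin 2) F) : Matrix ((Fin (m - 1) ⊕ Fin (m - 1)) ⊕ Fin 2) ((Fin (m - 1) ⊕ Fin (m - 1)) ⊕ Fin 2) F) = -1) ↔ q ^ m % 4 = 3 := by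
  classical
  have h2 : (2 : F) ≠ 0 := two_ne_zero_of_odd_card (by rw [hF]; exact hodd)
  rw [← coe_stdMinus]
  set Q := stdMinus (m - 1) F a b with hQdef
  have hcard : Fintype.card ((Fin (m - 1) ⊕ Fin (m - 1)) ⊕ Fin 2) = 2 * m := by
    rw [Fintype.card_sum, Fintype.card_sum, Fintype.card_fin, Fintype.card_fin]; omega
  rw [exists_negOne_mem_Omega_iff h2 Q (stdMinus_nondeg (m - 1) hab) (by rw [hcard]; omega)
    (by rw [hcard]; exact even_two_mul m)]
  -- the Gram determinant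
  have hH := StdFam.minus_isHyp (stdFamId Q)
  have hx := StdFam.minus_mem (stdFamId Q) 0
  have hy := StdFam.minus_mem (stdFamId Q) 1
  have hdet := det_gram_pairs hH hx hy
  rw [StdFam.minus_Q0, StdFam.minus_Q1, StdFam.minus_polar, det_Jp] at hdet
  have hfam : (Sum.elim (Sum.elim (fun i : Fin (m - 1) => (stdFamId Q).1 (Sum.inl (Sum.inl i)))
      (fun i : Fin (m - 1) => (stdFamId Q).1 (Sum.inl (Sum.inr i))))
      ![(stdFamId Q).1 (Sum.inr 0), (stdFamId Q).1 (Sum.inr 1)])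
      = ⇑(Pi.basisFun F ((Fin (m - 1) ⊕ Fin (m - 1)) ⊕ Fin 2)) := by
    funext s
    rcases s with (i | i) | i
    · simp [stdFamId, Pi.basisFun_apply]
    · simp [stdFamId, Pi.basisFun_apply]
    · fin_cases i
      · simp [stdFamId, Pi.basisFun_apply]
      · simp [stdFamId, Pi.basisFun_apply]
  rw [hfam] at hdet
  rw [hdet]
  -- number theory
  have hD : ¬IsSquare (a ^ 2 - 4 * b) := by
    rintro ⟨r, hr⟩
    have := (hab ((-a + r) / 2) 1 (by
      field_simp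
      linear_combination (-1 : F) * hr)).2
    exact one_ne_zero this
  have hD0 : a ^ 2 - 4 * b ≠ 0 := by
    intro h0
    exact hD (by rw [h0]; exact ⟨0, by ring⟩)
  have hrw : (-1 : F) ^ (m - 1) * (4 * 1 * b - a ^ 2) = (a ^ 2 - 4 * b) * (-1) ^ m := by
    obtain ⟨k, rfl⟩ : ∃ k, m = k + 1 := ⟨m - 1, by omega⟩
    rw [Nat.add_sub_cancel, pow_succ]
    ring
  rw [hrw, isSquare_nonsq_mul hD (pow_ne_zero m (neg_ne_zero.mpr one_ne_zero)),
    pow_mod_four_eq_three_iff hodd m]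
  have hsq := FiniteField.isSquare_neg_one_iff (F := F)
  rw [hF] at hsq
  rcases Nat.even_or_odd m with hme | hmo
  · rw [hme.neg_one_pow]
    constructor
    · intro h; exact absurd ⟨1, by ring⟩ h
    · rintro ⟨_, h⟩
      exact absurd hme (Nat.not_even_iff_odd.2 h)
  · rw [hmo.neg_one_pow]
    constructor
    · intro h
      refine ⟨?_, hmo⟩
      by_contra h3
      exact h (hsq.2 h3)
    · rintro ⟨h3, _⟩ h
      exact (hsq.1 h) h3

end Cfsg.Agent.S0791
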