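import Cfsg.Statements.S0295
import Mathlib
import Cfsg.Agent.Lib.Helper19.OrthSimple
import Cfsg.Agent.Lib.Helper19.QuadStd
import Cfsg.Agent.Lib.Helper19.OrthHyp


set_option autoImplicit false
open Cfsg

namespace Cfsg.Agent.S0295

/-- PΩ_{2m+1}(q) is simple for q odd and m at least 3. -/
theorem result {F : Type*} [Field F] [Fintype F] (hodd : Odd (Fintype.card F)) (m : ℕ) (hm : 3 ≤ m) : IsSimpleGroup (Cfsg.POmega F (Cfsg.quadFormOdd m F)) := by
  have h2 : (2 : F) ≠ 0 := Cfsg.Agent.Lib.Helper19.OrthRefl.two_ne_zero_of_odd_card hodd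
  have h := Cfsg.Agent.Lib.Helper19.OrthRefl.isSimpleGroup_POmega
    (Cfsg.Agent.Lib.Helper19.QuadStd.stdOdd m F)
    (Cfsg.Agent.Lib.Helper19.QuadStd.stdOdd_nondeg m h2)
    (by simp only [Fintype.card_sum, Fintype.card_fin, Fintype.card_unit]; omega)
  rw [Cfsg.Agent.Lib.Helper19.QuadStd.coe_stdOdd] at h
  exact h

end Cfsg.Agent.S0295
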