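import Cfsg.Statements.S0296
import Mathlib
import Cfsg.Agent.Lib.Helper19.OrthSimple
import Cfsg.Agent.Lib.Helper19.QuadStd
import Cfsg.Agent.Lib.Helper19.OrthHyp


set_option autoImplicit false
open Cfsg

namespace Cfsg.Agent.S0296

/-- PΩ^+_{2m}(q) is simple for m at least 4. -/
theorem result {F : Type*} [Field F] [Fintype F] (m : ℕ) (hm : 4 ≤ m) : IsSimpleGroup (Cfsg.POmega F (Cfsg.quadFormPlus m F)) := by
  have h := Cfsg.Agent.Lib.Helper19.OrthRefl.isSimpleGroup_POmega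
    (Cfsg.Agent.Lib.Helper19.QuadStd.stdPlus m F)
    (Cfsg.Agent.Lib.Helper19.QuadStd.stdPlus_nondeg m)
    (by simp only [Fintype.card_sum, Fintype.card_fin]; omega)
  rw [Cfsg.Agent.Lib.Helper19.QuadStd.coe_stdPlus] at h
  exact h

end Cfsg.Agent.S0296
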