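import Cfsg.Statements.S0298
import Mathlib
import Cfsg.Agent.S0286
import Cfsg.Agent.Lib.Helper19.Omega3
import Cfsg.Agent.Lib.Helper19.SL2Cen
import Cfsg.Agent.Lib.Helper19.ExcIso
import Cfsg.Agent.Lib.Helper19.OrthSpinor
import Cfsg.Agent.Lib.Helper19.QuadStd
import Cfsg.Agent.Lib.Helper19.OrthHyp
import Cfsg.Agent.Lib.Helper12.SL2b

set_option autoImplicit false
open Cfsg

namespace Cfsg.Agent.S0298

open Cfsg.Agent.Lib.Helper19.Omega3 Cfsg.Agent.Lib.Helper19.QuadStd
  Cfsg.Agent.Lib.Helper19.ExcIso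

/-- PΩ_3(q) is isomorphic to PSL_2(q) for q odd. -/
theorem result {F : Type*} [Field F] [Fintype F] (hodd : Odd (Fintype.card F)) : Nonempty (Cfsg.POmega F (Cfsg.quadFormOdd 1 F) ≃* Matrix.ProjectiveSpecialLinearGroup (Fin 2) F) := by
  classical
  have h2 : (2 : F) ≠ 0 := Cfsg.Agent.Lib.Helper19.OrthRefl.two_ne_zero_of_odd_card hodd
  have hcardι : Fintype.card (Unit ⊕ (Fin 1 ⊕ Fin 1)) = 3 := by
    simp
  have hidx : (Cfsg.Omega F (Cfsg.quadFormOdd 1 F)).index = 4 := by
    have := (Cfsg.Agent.Lib.Helper19.OrthRefl.Omega_structure h2 (stdOdd 1 F)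
      (stdOdd_nondeg 1 h2) (by rw [hcardι]; omega)).1
    rw [coe_stdOdd] at this
    exact this
  have hO := Cfsg.Agent.S0286.result (F := F) rfl hodd 1
  have hS : Nat.card (Matrix.SpecialLinearGroup (Fin 2) F) = _ :=
    Cfsg.Agent.Lib.Helper12.SL2.card_SL2
  have hmul := Subgroup.card_mul_index (Cfsg.Omega F (Cfsg.quadFormOdd 1 F))
  rw [hidx, hO] at hmul
  simp only [Finset.prod_range_one, pow_one, zero_add, mul_one] at hmul
  -- image in Omega
  have hmem : ∀ s : Matrix.SpecialLinearGroup (Fin 2) F,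
      rho3 s ∈ Cfsg.Omega F (Cfsg.quadFormOdd 1 F) := by
    intro s
    refine Matrix.SL2.transvection_induction
      (fun s => rho3 s ∈ Cfsg.Omega F (Cfsg.quadFormOdd 1 F)) ?_ ?_ s
    · intro i j hij c
      apply mem_of_coprime_index
      rw [hidx]
      have h1 : orderOf (rho3 (Matrix.SpecialLinearGroup.transvection hij c)) ∣ Fintype.card F :=
        (orderOf_map_dvd _ _).trans (orderOf_transvection_dvd hij c)
      have h3 : Nat.Coprime 4 (Fintype.card F) := by
        have : Nat.Coprime 2 (Fintype.card F) := (Nat.coprime_two_left).2 hodd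
        exact Nat.Coprime.pow_left 2 this
      exact Nat.Coprime.coprime_dvd_right h1 h3
    · intro A B hA hB
      rw [map_mul]
      exact mul_mem hA hB
  have hres := quotient_center_equiv (Cfsg.Omega F (Cfsg.quadFormOdd 1 F)) (rho3 (F := F)) hmem 2
    card_rho3_ker_le
    (by
      rw [hS]
      have : Fintype.card F * (Fintype.card F ^ 2 - 1) * 2 =
          Nat.card ↥(Cfsg.Omega F (Cfsg.quadFormOdd 1 F)) * 4 := by
        rw [hmul]; ring
      omega)
    (by
      intro x hx
      apply Cfsg.Agent.Lib.Helper19.SL2Cen.center_of_comm_pm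
      intro s
      exact rho3_ker _ (hx s))
  exact hres

end Cfsg.Agent.S0298
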