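import Cfsg.Statements.S0299
import Mathlib
import Cfsg.Agent.S0287
import Cfsg.Agent.Lib.Helper19.Omega3
import Cfsg.Agent.Lib.Helper19.Omega4P
import Cfsg.Agent.Lib.Helper19.SL2Cen
import Cfsg.Agent.Lib.Helper19.ExcIso
import Cfsg.Agent.Lib.Helper19.OrthSpinor
import Cfsg.Agent.Lib.Helper19.OrthOmega2
import Cfsg.Agent.Lib.Helper19.QuadStd
import Cfsg.Agent.Lib.Helper19.OrthHyp
import Cfsg.Agent.Lib.Helper12.SL2b

set_option autoImplicit false
open Cfsg

namespace Cfsg.Agent.S0299

open Cfsg.Agent.Lib.Helper19.Omega4P Cfsg.Agent.Lib.Helper19.QuadStd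
  Cfsg.Agent.Lib.Helper19.ExcIso

theorem odd_card_of_two_ne_zero {F : Type*} [Field F] [Fintype F] (h2 : (2 : F) ≠ 0) :
    Odd (Fintype.card F) := by
  rw [← Nat.not_even_iff_odd, Nat.even_iff]
  intro h
  have h3 := FiniteField.even_card_iff_char_two.2 h
  apply h2
  have h4 := CharP.cast_eq_zero F (ringChar F)
  rw [h3] at h4
  exact_mod_cast h4

/-- The projection onto the product of the projective groups. -/
noncomputable def piHom (F : Type*) [Field F] :
    Matrix.SpecialLinearGroup (Fin 2) F × Matrix.SpecialLinearGroup (Fin 2) F →*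
    Matrix.ProjectiveSpecialLinearGroup (Fin 2) F × Matrix.ProjectiveSpecialLinearGroup (Fin 2) F :=
  MonoidHom.prodMap (QuotientGroup.mk' _) (QuotientGroup.mk' _)

theorem piHom_surj (F : Type*) [Field F] : Function.Surjective (piHom F) := by
  rintro ⟨a, b⟩
  obtain ⟨a', rfl⟩ := QuotientGroup.mk'_surjective _ a
  obtain ⟨b', rfl⟩ := QuotientGroup.mk'_surjective _ b
  exact ⟨(a', b'), rfl⟩

theorem mem_piHom_ker {F : Type*} [Field F]
    (x : Matrix.SpecialLinearGroup (Fin 2) F × Matrix.SpecialLinearGroup (Fin 2) F) :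
    x ∈ (piHom F).ker ↔ x.1 ∈ Subgroup.center (Matrix.SpecialLinearGroup (Fin 2) F) ∧
      x.2 ∈ Subgroup.center (Matrix.SpecialLinearGroup (Fin 2) F) := by
  rw [MonoidHom.mem_ker]
  unfold piHom
  rw [MonoidHom.prodMap_def, MonoidHom.prod_apply, Prod.mk_eq_one]
  simp only [MonoidHom.coe_comp, MonoidHom.coe_fst, MonoidHom.coe_snd, Function.comp_apply,
    QuotientGroup.mk'_apply]
  rw [QuotientGroup.eq_one_iff, QuotientGroup.eq_one_iff]

theorem hkerπ {F : Type*} [Field F]
    (x : Matrix.SpecialLinearGroup (Fin 2) F × Matrix.SpecialLinearGroup (Fin 2) F) :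
    x ∈ (piHom F).ker ↔ ∀ s, x * s * x⁻¹ * s⁻¹ ∈ (rho4 (F := F)).ker := by
  rw [mem_piHom_ker]
  constructor
  · rintro ⟨h1, h2⟩ s
    rw [Subgroup.mem_center_iff] at h1 h2
    have : x * s * x⁻¹ * s⁻¹ = 1 := by
      apply Prod.ext
      · change x.1 * s.1 * x.1⁻¹ * s.1⁻¹ = 1
        rw [← h1 s.1, mul_assoc s.1, mul_inv_cancel, mul_one, mul_inv_cancel]
      · change x.2 * s.2 * x.2⁻¹ * s.2⁻¹ = 1
        rw [← h2 s.2, mul_assoc s.2, mul_inv_cancel, mul_one, mul_inv_cancel]
    rw [this]
    exact one_mem _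
  · intro h
    constructor
    · apply Cfsg.Agent.Lib.Helper19.SL2Cen.center_of_comm_pm
      intro s
      rcases rho4_ker _ (h (s, 1)) with h' | h'
      · left; exact h'.1
      · right; exact h'.1
    · apply Cfsg.Agent.Lib.Helper19.SL2Cen.center_of_comm_pm
      intro s
      rcases rho4_ker _ (h (1, s)) with h' | h'
      · left; exact h'.2
      · right; exact h'.2

/-- PΩ^+_4(q) is isomorphic to PSL_2(q) x PSL_2(q) for q at least 3. -/
theorem result {F : Type*} [Field F] [Fintype F] (hF : 3 ≤ Fintype.card F) : Nonempty (Cfsg.POmega F (Cfsg.quadFormPlus 2 F) ≃* Matrix.ProjectiveSpecialLinearGroup (Fin 2) F × Matrix.ProjectiveSpecialLinearGroup (Fin 2) F) := by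
  classical
  have hcardι : Fintype.card (Fin 2 ⊕ Fin 2) = 4 := by simp
  have hO := Cfsg.Agent.S0287.result (F := F) rfl 2 (by omega)
  have hS1 : Nat.card (Matrix.SpecialLinearGroup (Fin 2) F) = _ :=
    Cfsg.Agent.Lib.Helper12.SL2.card_SL2
  have hS : Nat.card (Matrix.SpecialLinearGroup (Fin 2) F × Matrix.SpecialLinearGroup (Fin 2) F)
      = (Fintype.card F * (Fintype.card F ^ 2 - 1)) * (Fintype.card F * (Fintype.card F ^ 2 - 1)) := by
    rw [Nat.card_prod, hS1]
  have hmul := Subgroup.card_mul_index (Cfsg.Omega F (Cfsg.quadFormPlus 2 F))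
  rw [hO] at hmul
  simp only [Finset.prod_range_one, zero_add, mul_one, Nat.add_one_sub_one,
    show (2 : ℕ) - 1 = 1 from rfl] at hmul
  have hsplit : ∀ s : Matrix.SpecialLinearGroup (Fin 2) F × Matrix.SpecialLinearGroup (Fin 2) F,
      s = (s.1, 1) * (1, s.2) := by
    intro s
    apply Prod.ext <;> simp
  by_cases h2 : (2 : F) = 0
  · -- even characteristic: SL₂ is perfect
    have hidx : (Cfsg.Omega F (Cfsg.quadFormPlus 2 F)).index = 2 := by
      have := Cfsg.Agent.Lib.Helper19.OrthRefl.Omega_index_c2 h2 (stdPlus 2 F)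
        (stdPlus_nondeg 2) (Or.inl (by omega)) (by rw [hcardι]; omega)
      rw [coe_stdPlus] at this
      exact this
    rw [hidx] at hmul
    obtain ⟨a, ha0, ha1⟩ : ∃ a : F, a ≠ 0 ∧ a ≠ 1 := by
      by_contra hcon
      push Not at hcon
      have : (Finset.univ : Finset F) ⊆ {0, 1} := by
        intro x _
        by_cases hx : x = 0
        · simp [hx]
        · simp [hcon x hx]
      have h3 := Finset.card_le_card this
      rw [Finset.card_univ] at h3
      have h4 : ({0, 1} : Finset F).card ≤ 2 := Finset.card_le_two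
      omega
    have hasq : a ^ 2 ≠ 1 := by
      intro h
      apply ha1
      have : (a + 1) ^ 2 = 0 := by
        have : (a + 1) ^ 2 = a ^ 2 + 2 * a + 1 := by ring
        rw [this, h, h2]; ring_nf; exact h2
      have h5 := pow_eq_zero_iff (two_ne_zero) |>.1 this
      have h6 : (-1 : F) = 1 := by
        have : (1 : F) + 1 = 0 := by rw [one_add_one_eq_two]; exact h2
        exact neg_eq_of_add_eq_zero_left this
      rw [← h6]
      linear_combination h5
    have hperf := Matrix.SL2.commutator_eq_top ha0 hasq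
    have hmem : ∀ s, rho4 (F := F) s ∈ Cfsg.Omega F (Cfsg.quadFormPlus 2 F) := by
      intro s
      rw [hsplit s, map_mul]
      apply mul_mem
      · exact map_mem_commutator ((rho4 (F := F)).comp (MonoidHom.inl _ _)) hperf s.1
      · exact map_mem_commutator ((rho4 (F := F)).comp (MonoidHom.inr _ _)) hperf s.2
    exact quotient_equiv_of_ker (Cfsg.Omega F (Cfsg.quadFormPlus 2 F)) (rho4 (F := F)) hmem 1
      (card_rho4_ker_c2 h2)
      (by
        rw [hS, one_mul]
        have : Nat.card ↥(Cfsg.Omega F (Cfsg.quadFormPlus 2 F)) * 2 =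
            (Fintype.card F * (Fintype.card F ^ 2 - 1)) *
              (Fintype.card F * (Fintype.card F ^ 2 - 1)) * 2 := by
          rw [hmul]; ring
        omega)
      (piHom F) (piHom_surj F) hkerπ
  · -- odd characteristic: transvections have odd order
    have hodd := odd_card_of_two_ne_zero h2
    have hidx : (Cfsg.Omega F (Cfsg.quadFormPlus 2 F)).index = 4 := by
      have := (Cfsg.Agent.Lib.Helper19.OrthRefl.Omega_structure h2 (stdPlus 2 F)
        (stdPlus_nondeg 2) (by rw [hcardι]; omega)).1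
      rw [coe_stdPlus] at this
      exact this
    rw [hidx] at hmul
    have h3 : Nat.Coprime 4 (Fintype.card F) := by
      have : Nat.Coprime 2 (Fintype.card F) := (Nat.coprime_two_left).2 hodd
      exact Nat.Coprime.pow_left 2 this
    have hgen : ∀ (f : Matrix.SpecialLinearGroup (Fin 2) F →*
        ↥(Cfsg.isometryGroup F (Cfsg.quadFormPlus 2 F))) (A : Matrix.SpecialLinearGroup (Fin 2) F),
        f A ∈ Cfsg.Omega F (Cfsg.quadFormPlus 2 F) := by
      intro f A
      refine Matrix.SL2.transvection_induction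
        (fun s => f s ∈ Cfsg.Omega F (Cfsg.quadFormPlus 2 F)) ?_ ?_ A
      · intro i j hij c
        apply mem_of_coprime_index
        rw [hidx]
        have h1 : orderOf (f (Matrix.SpecialLinearGroup.transvection hij c)) ∣ Fintype.card F :=
          (orderOf_map_dvd _ _).trans
            (Cfsg.Agent.Lib.Helper19.Omega3.orderOf_transvection_dvd hij c)
        exact Nat.Coprime.coprime_dvd_right h1 h3
      · intro A B hA hB
        rw [map_mul]
        exact mul_mem hA hB
    have hmem : ∀ s, rho4 (F := F) s ∈ Cfsg.Omega F (Cfsg.quadFormPlus 2 F) := by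
      intro s
      rw [hsplit s, map_mul]
      apply mul_mem
      · exact hgen ((rho4 (F := F)).comp (MonoidHom.inl _ _)) s.1
      · exact hgen ((rho4 (F := F)).comp (MonoidHom.inr _ _)) s.2
    exact quotient_equiv_of_ker (Cfsg.Omega F (Cfsg.quadFormPlus 2 F)) (rho4 (F := F)) hmem 2
      card_rho4_ker_le
      (by
        rw [hS]
        have : Nat.card ↥(Cfsg.Omega F (Cfsg.quadFormPlus 2 F)) * 4 =
            (Fintype.card F * (Fintype.card F ^ 2 - 1)) *
              (Fintype.card F * (Fintype.card F ^ 2 - 1)) * 2 := by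
          rw [hmul]; ring
        omega)
      (piHom F) (piHom_surj F) hkerπ

end Cfsg.Agent.S0299
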