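import Cfsg.Statements.S2641
import Mathlib
import Cfsg.Agent.Lib.Helper19.UnitaryOrth

set_option autoImplicit false
open Cfsg

namespace Cfsg.Agent.S2641

open Cfsg.Agent.Lib.Helper19.UnitaryOrth

section setting

variable {F K : Type*} [Field F] [Fintype F] [Field K] [Fintype K] [Algebra F K] {q : ℕ}
  (hF : Fintype.card F = q) (hK : Fintype.card K = q ^ 2)

include hF hK in
lemma sig_ne_id : ∃ x : K, sig K hF x ≠ x := by
  by_contra hcon
  push Not at hcon
  have hq2 : 2 ≤ q := by
    rw [← hF]
    exact Fintype.one_lt_card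
  have hne : (Polynomial.X ^ q - Polynomial.X : Polynomial K) ≠ 0 :=
    FiniteField.X_pow_card_sub_X_ne_zero K (by omega)
  have hsub : (Finset.univ : Finset K).val ⊆ (Polynomial.X ^ q - Polynomial.X : Polynomial K).roots := by
    intro x _
    rw [Polynomial.mem_roots hne]
    simp only [Polynomial.IsRoot, Polynomial.eval_sub, Polynomial.eval_pow, Polynomial.eval_X]
    rw [← sig_apply K hF, hcon, sub_self]
  have h := Polynomial.card_le_degree_of_subset_roots hsub
  rw [FiniteField.X_pow_card_sub_X_natDegree_eq K (by omega), Finset.card_univ, hK] at h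
  nlinarith

include hF hK in
/-- The last-coordinate part. -/
lemma norm_in_basis (b' : Module.Basis (Fin 2) F K) (θ : K) (a b : F) (h0 : b' 0 = 1)
    (h1 : b' 1 = θ)
    (hθ : θ ^ 2 - algebraMap F K a * θ + algebraMap F K b = 0)
    (x : K) :
    Algebra.norm F x = (b'.repr x 0) ^ 2 + a * b'.repr x 0 * b'.repr x 1 + b * (b'.repr x 1) ^ 2 := by
  -- σθ ≠ θ
  have hσθ : sig K hF θ ≠ θ := by
    intro hfix
    obtain ⟨y, hy⟩ := sig_ne_id (K := K) hF hK
    apply hy
    conv_lhs => rw [← b'.sum_repr y]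
    conv_rhs => rw [← b'.sum_repr y]
    rw [Fin.sum_univ_two, map_add, sig_smul, sig_smul, h0, h1, hfix, RingHom.map_one]
  have hθ' : (sig K hF θ) ^ 2 - algebraMap F K a * sig K hF θ + algebraMap F K b = 0 := by
    have := congrArg (sig K hF) hθ
    simpa [sig_algebraMap] using this
  have hsum : θ + sig K hF θ = algebraMap F K a := by
    have h : (θ - sig K hF θ) * (θ + sig K hF θ - algebraMap F K a) = 0 := by
      linear_combination hθ - hθ'
    rcases mul_eq_zero.1 h with h | h
    · exact absurd (sub_eq_zero.1 h).symm hσθ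
    · exact sub_eq_zero.1 h
  have hprod : θ * sig K hF θ = algebraMap F K b := by
    linear_combination θ * hsum - hθ
  apply (algebraMap F K).injective
  rw [norm_eq K hF hK]
  conv_lhs => rw [← b'.sum_repr x]
  rw [Fin.sum_univ_two, map_add, sig_smul, sig_smul, h0, h1, RingHom.map_one]
  simp only [Algebra.smul_def, mul_one, map_add, map_mul, map_pow]
  linear_combination (algebraMap F K (b'.repr x 0)) * (algebraMap F K (b'.repr x 1)) * hsum +
    (algebraMap F K (b'.repr x 1)) ^ 2 * hprod

/-- The linear isometry in the odd case. -/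
noncomputable def Todd (b' : Module.Basis (Fin 2) F K) (ω c : K) (r : ℕ) :
    (Fin (r + r + 1) → K) →ₗ[F] ((Fin (r + r) ⊕ Fin (r + r)) ⊕ Fin 2 → F) :=
  LinearMap.pi (Sum.elim
    (fun i => (LinearMap.proj i : (Fin (r + r) ⊕ Fin (r + r) → F) →ₗ[F] F) ∘ₗ
      (Tpair K hF b' ω c r) ∘ₗ (LinearMap.funLeft F K (Fin.castSucc : Fin (r + r) → Fin (r + r + 1))))
    (fun s => (b'.coord s) ∘ₗ
      (LinearMap.proj (Fin.last (r + r)) : (Fin (r + r + 1) → K) →ₗ[F] K)))

lemma Todd_inl (b' : Module.Basis (Fin 2) F K) (ω c : K) (r : ℕ) (v : Fin (r + r + 1) → K)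
    (i : Fin (r + r) ⊕ Fin (r + r)) :
    Todd hF b' ω c r v (Sum.inl i) = Tpair K hF b' ω c r (fun j => v (Fin.castSucc j)) i := rfl

lemma Todd_inr (b' : Module.Basis (Fin 2) F K) (ω c : K) (r : ℕ) (v : Fin (r + r + 1) → K)
    (s : Fin 2) :
    Todd hF b' ω c r v (Sum.inr s) = b'.repr (v (Fin.last (r + r))) s := rfl

include hK in
lemma Todd_form (b' : Module.Basis (Fin 2) F K) (ω c : K) (r : ℕ) (θ : K) (a b : F)
    (h0 : b' 0 = 1) (h1 : b' 1 = θ)
    (hθ : θ ^ 2 - algebraMap F K a * θ + algebraMap F K b = 0)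
    (hω : ω * sig K hF ω = -1) (hc : c + sig K hF c = 1) (v : Fin (r + r + 1) → K) :
    Cfsg.quadFormMinus (r + r) F a b (Todd hF b' ω c r v) = ∑ i, Algebra.norm F (v i) := by
  unfold Cfsg.quadFormMinus
  simp only [Todd_inl, Todd_inr]
  have h1' := Tpair_form K hF hK b' ω c r hω hc (fun j => v (Fin.castSucc j))
  unfold Cfsg.quadFormPlus at h1'
  rw [h1', Fin.sum_univ_castSucc, norm_in_basis hF hK b' θ a b h0 h1 hθ (v (Fin.last (r + r)))]

include hK in
lemma Todd_injective (b' : Module.Basis (Fin 2) F K) (ω c : K) (r : ℕ) (hω0 : ω ≠ 0) :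
    Function.Injective (Todd hF b' ω c r) := by
  rw [injective_iff_map_eq_zero]
  intro v hv
  have h1 : Tpair K hF b' ω c r (fun j => v (Fin.castSucc j)) = 0 := by
    funext i
    have := congrFun hv (Sum.inl i)
    rw [Todd_inl] at this
    exact this
  have h2 : (fun j => v (Fin.castSucc j)) = 0 :=
    (injective_iff_map_eq_zero _).1 (Tpair_injective K hF hK b' ω c r hω0) _ h1
  have h3 : v (Fin.last (r + r)) = 0 := by
    apply b'.repr.injective
    ext s
    have := congrFun hv (Sum.inr s)
    rw [Todd_inr] at this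
    simpa using this
  funext i
  induction i using Fin.lastCases with
  | last => exact h3
  | cast j => exact congrFun h2 j

end setting

lemma main {K F : Type*} [Field K] [Fintype K] [Field F] [Fintype F] {q : ℕ}
    (hK : Fintype.card K = q ^ 2) (hF : Fintype.card F = q) (r : ℕ) (a b : F)
    (hab : ∀ z₁ z₂ : F, z₁ ^ 2 + a * z₁ * z₂ + b * z₂ ^ 2 = 0 → z₁ = 0 ∧ z₂ = 0) :
    ∃ φ : ↥(Cfsg.GU (r + r + 1) K q) →*
      ↥(Cfsg.isometryGroup F (Cfsg.quadFormMinus (r + r) F a b)), Function.Injective φ := by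
  classical
  have hnoroot : ∀ x : F, x ^ 2 - a * x + b ≠ 0 := by
    intro x hx
    have := (hab (-x) 1 (by linear_combination hx)).2
    exact one_ne_zero this
  let g : Polynomial F := Polynomial.X ^ 2 - Polynomial.C a * Polynomial.X + Polynomial.C b
  have hgdeg : g.natDegree = 2 := by
    unfold g
    compute_degree!
  have hgmonic : g.Monic := by
    unfold g
    monicity!
  have hirr : Irreducible g := by
    apply Polynomial.irreducible_of_degree_le_three_of_not_isRoot
    · rw [hgdeg]
      simp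
    · intro x hx
      apply hnoroot x
      have : g.eval x = 0 := hx
      simpa [g] using this
  haveI : Fact (Irreducible g) := ⟨hirr⟩
  let E := AdjoinRoot g
  have hfrE : Module.finrank F E = 2 := by
    rw [(AdjoinRoot.powerBasis' hgmonic).finrank, AdjoinRoot.powerBasis'_dim, hgdeg]
  haveI : Module.Finite F E := (AdjoinRoot.powerBasis' hgmonic).finite
  haveI : Finite E := Module.finite_of_finite F
  haveI : Fintype E := Fintype.ofFinite E
  have hEcard : Fintype.card E = q ^ 2 := by
    rw [Module.card_eq_pow_finrank (K := F) (V := E), hfrE, hF]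
  let e : K ≃+* E := FiniteField.ringEquivOfCardEq (by rw [hK, hEcard])
  letI : Algebra F K := (e.symm.toRingHom.comp (algebraMap F E)).toAlgebra
  let θ : K := e.symm (AdjoinRoot.root g)
  have hmap : ∀ c : F, algebraMap F K c = e.symm (AdjoinRoot.of g c) := by
    intro c
    show e.symm (algebraMap F (AdjoinRoot g) c) = _
    rw [AdjoinRoot.algebraMap_eq]
  have hθ : θ ^ 2 - algebraMap F K a * θ + algebraMap F K b = 0 := by
    have h := AdjoinRoot.eval₂_root g
    have h2 : (AdjoinRoot.root g) ^ 2 - AdjoinRoot.of g a * AdjoinRoot.root g +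
        AdjoinRoot.of g b = 0 := by
      simpa [g, Polynomial.eval₂_add, Polynomial.eval₂_sub, Polynomial.eval₂_mul] using h
    rw [hmap, hmap]
    show e.symm (AdjoinRoot.root g) ^ 2 - e.symm (AdjoinRoot.of g a) * e.symm (AdjoinRoot.root g) +
      e.symm (AdjoinRoot.of g b) = 0
    rw [← map_pow, ← map_mul, ← map_sub, ← map_add, h2, map_zero]
  have hfr : Module.finrank F K = 2 := finrank_eq K hF hK
  have hli : LinearIndependent F ![(1 : K), θ] := by
    rw [LinearIndependent.pair_iff]
    intro s t hst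
    by_cases ht : t = 0
    · subst ht
      rw [zero_smul, add_zero, Algebra.smul_def, mul_one] at hst
      exact ⟨(map_eq_zero (algebraMap F K)).1 hst, rfl⟩
    · exfalso
      have hθs : θ = algebraMap F K (-s / t) := by
        rw [Algebra.smul_def, Algebra.smul_def, mul_one] at hst
        have ht' : algebraMap F K t ≠ 0 := (map_ne_zero (algebraMap F K)).2 ht
        rw [map_div₀, map_neg, eq_div_iff ht']
        linear_combination hst
      apply hnoroot (-s / t)
      apply (algebraMap F K).injective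
      rw [map_zero, ← hθ, hθs]
      simp only [map_add, map_sub, map_mul, map_pow]
  let b' : Module.Basis (Fin 2) F K :=
    basisOfLinearIndependentOfCardEqFinrank hli (by rw [hfr]; simp)
  have hb0 : b' 0 = 1 := by
    simp [b']
  have hb1 : b' 1 = θ := by
    simp [b']
  obtain ⟨ω, hω⟩ := exists_omega K hF hK
  obtain ⟨c, hc⟩ := exists_c K hF hK
  have hω0 : ω ≠ 0 := by
    rintro rfl
    rw [zero_mul] at hω
    exact zero_ne_one (neg_eq_zero.1 hω.symm).symm
  have hdim : Module.finrank F (Fin (r + r + 1) → K) =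
      Module.finrank F ((Fin (r + r) ⊕ Fin (r + r)) ⊕ Fin 2 → F) := by
    rw [finrank_source K hF hK, Module.finrank_fintype_fun_eq_card]
    simp
    ring
  let T : (Fin (r + r + 1) → K) ≃ₗ[F] ((Fin (r + r) ⊕ Fin (r + r)) ⊕ Fin 2 → F) :=
    LinearMap.linearEquivOfInjective (Todd hF b' ω c r) (Todd_injective hF hK b' ω c r hω0) hdim
  have hT : ∀ v, Cfsg.quadFormMinus (r + r) F a b (T v) = ∑ i, Algebra.norm F (v i) := by
    intro v
    exact Todd_form hF hK b' ω c r θ a b hb0 hb1 hθ hω hc v
  have hρ : ∀ (g : ↥(Cfsg.GU (r + r + 1) K q)) (v : Fin (r + r + 1) → K),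
      Cfsg.quadFormMinus (r + r) F a b (T (rhoGU K F (r + r + 1) q g v)) =
        Cfsg.quadFormMinus (r + r) F a b (T v) := by
    intro g v
    rw [hT, hT, rhoGU_norm K hF hK]
  exact ⟨isoHom _ T (rhoGU K F (r + r + 1) q) hρ,
    isoHom_injective _ T _ hρ (rhoGU_injective K (r + r + 1))⟩

/-- For m odd, the unitary group GU_m(q) (over the field with q² elements) embeds in the orthogonal group O⁻_2m(q) of an elliptic form (Σ_(i<m−1) x_i y_i plus an anisotropic binary form) over the field with q elements (there is an injective homomorphism). -/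
theorem result {K F : Type*} [Field K] [Fintype K] [Field F] [Fintype F] {q : ℕ} (hK : Fintype.card K = q ^ 2) (hF : Fintype.card F = q) (m : ℕ) (hm : Odd m) (a b : F) (hab : ∀ z₁ z₂ : F, z₁ ^ 2 + a * z₁ * z₂ + b * z₂ ^ 2 = 0 → z₁ = 0 ∧ z₂ = 0) : ∃ φ : ↥(Cfsg.GU m K q) →* ↥(Cfsg.isometryGroup F (Cfsg.quadFormMinus (m - 1) F a b)), Function.Injective φ := by
  obtain ⟨r, hr⟩ := hm
  have hm' : m = r + r + 1 := by omega
  subst hm'
  exact main hK hF r a b hab

end Cfsg.Agent.S2641
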