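import Cfsg.Statements.S0300
import Mathlib
import Cfsg.Agent.S0288
import Cfsg.Agent.S2641
import Cfsg.Agent.Lib.Helper19.Omega4M
import Cfsg.Agent.Lib.Helper19.QuadExtSetup
import Cfsg.Agent.Lib.Helper19.SL2Cen
import Cfsg.Agent.Lib.Helper19.ExcIso
import Cfsg.Agent.Lib.Helper19.OrthSpinor
import Cfsg.Agent.Lib.Helper19.OrthOmega2b
import Cfsg.Agent.Lib.Helper19.QuadStd
import Cfsg.Agent.Lib.Helper12.SL2b

set_option autoImplicit false
open Cfsg

namespace Cfsg.Agent.S0300

open Cfsg.Agent.Lib.Helper19.Omega4M Cfsg.Agent.Lib.Helper19.QuadStd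
  Cfsg.Agent.Lib.Helper19.ExcIso Cfsg.Agent.Lib.Helper19.UnitaryOrth

theorem rho_of_isoHom_ker {F : Type*} [Field F] {V : Type*} [AddCommGroup V] [Module F V]
    {κ : Type} [Fintype κ] [DecidableEq κ] {G : Type*} [Group G]
    (Q' : (κ → F) → F) (T : V ≃ₗ[F] (κ → F)) (ρ : G →* Module.End F V)
    (hρ : ∀ g v, Q' (T (ρ g v)) = Q' (T v)) (g : G) (hg : isoHom Q' T ρ hρ g = 1) : ρ g = 1 := by
  have h1 : ((toGLhom T ρ g : GL κ F) : Matrix κ κ F) = 1 := by
    have := congrArg (fun x : ↥(Cfsg.isometryGroup F Q') =>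
      ((x : Matrix.GeneralLinearGroup κ F) : Matrix κ κ F)) hg
    exact this
  rw [toGLhom_coe] at h1
  have h2 : LinearMap.toMatrixAlgEquiv (Module.Basis.ofEquivFun T) (ρ g) =
      LinearMap.toMatrixAlgEquiv (Module.Basis.ofEquivFun T) 1 := by rw [h1, map_one]
  exact (LinearMap.toMatrixAlgEquiv (Module.Basis.ofEquivFun T)).injective h2

theorem exists_perfect_witness {K : Type*} [Field K] [Fintype K] (hK : 4 ≤ Fintype.card K) :
    ∃ a : K, a ≠ 0 ∧ a ^ 2 ≠ 1 := by
  classical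
  by_contra hcon
  push Not at hcon
  have : (Finset.univ : Finset K) ⊆ {0, 1, -1} := by
    intro x _
    by_cases hx : x = 0
    · simp [hx]
    · have h1 := hcon x hx
      rw [pow_two] at h1
      rcases mul_self_eq_one_iff.1 h1 with h | h
      · simp [h]
      · simp [h]
  have h3 := Finset.card_le_card this
  rw [Finset.card_univ] at h3
  have h4 : ({0, 1, -1} : Finset K).card ≤ 3 := Finset.card_le_three
  omega

/-- PΩ^-_4(q) is isomorphic to PSL_2(q^2). -/
theorem result {F K : Type*} [Field F] [Fintype F] [Field K] [Fintype K] {q : ℕ} (hF : Fintype.card F = q) (hK : Fintype.card K = q ^ 2) (a b : F) (hab : ∀ z₁ z₂ : F, z₁ ^ 2 + a * z₁ * z₂ + b * z₂ ^ 2 = 0 → z₁ = 0 ∧ z₂ = 0) : Nonempty (Cfsg.POmega F (Cfsg.quadFormMinus 1 F a b) ≃* Matrix.ProjectiveSpecialLinearGroup (Fin 2) K) := by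
  classical
  obtain ⟨alg, b', θ, hb0, hb1, hθ⟩ :=
    Cfsg.Agent.Lib.Helper19.QuadExtSetup.exists_setup hK hF a b hab
  letI := alg
  have hnorm := fun x => Cfsg.Agent.S2641.norm_in_basis hF hK b' θ a b hb0 hb1 hθ x
  have hq2 : 2 ≤ q := by rw [← hF]; exact Fintype.one_lt_card
  obtain ⟨φ, hφ⟩ : ∃ φ : Matrix.SpecialLinearGroup (Fin 2) K →*
      ↥(Cfsg.isometryGroup F (Cfsg.quadFormMinus 1 F a b)),
      ∀ g, φ g = 1 → g.1 = 1 ∨ g.1 = -1 := by
    refine ⟨isoHom (Cfsg.quadFormMinus 1 F a b) (T4 b') (rho hF hK) (fun g v => by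
      rw [T4_form b' a b hnorm, T4_form b' a b hnorm, qV_rho]), ?_⟩
    intro g hg
    exact rho_ker hF hK g (rho_of_isoHom_ker _ _ _ _ g hg)
  have hK4 : 4 ≤ Fintype.card K := by rw [hK]; nlinarith
  obtain ⟨w, hw0, hw1⟩ := exists_perfect_witness hK4
  have hperf := Matrix.SL2.commutator_eq_top hw0 hw1
  have hmem : ∀ s, φ s ∈ Cfsg.Omega F (Cfsg.quadFormMinus 1 F a b) :=
    fun s => map_mem_commutator φ hperf s
  have hcen : ∀ x : Matrix.SpecialLinearGroup (Fin 2) K,
      (∀ s, x * s * x⁻¹ * s⁻¹ ∈ φ.ker) →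
        x ∈ Subgroup.center (Matrix.SpecialLinearGroup (Fin 2) K) := by
    intro x hx
    apply Cfsg.Agent.Lib.Helper19.SL2Cen.center_of_comm_pm
    intro s
    exact hφ _ (hx s)
  have hO : Nat.card ↥(Cfsg.isometryGroup F (Cfsg.quadFormMinus 1 F a b)) = _ :=
    Cfsg.Agent.S0288.result hF 2 (by omega) a b hab
  simp only [Finset.prod_range_one, zero_add, mul_one, show (2 : ℕ) - 1 = 1 from rfl] at hO
  have hS : Nat.card (Matrix.SpecialLinearGroup (Fin 2) K) = _ :=
    Cfsg.Agent.Lib.Helper12.SL2.card_SL2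
  rw [hK] at hS
  have hmul := Subgroup.card_mul_index (Cfsg.Omega F (Cfsg.quadFormMinus 1 F a b))
  rw [hO] at hmul
  obtain ⟨c, hc⟩ : ∃ c, q ^ 2 = c + 1 := ⟨q ^ 2 - 1, by have : 0 < q ^ 2 := by positivity
                                                        omega⟩
  rw [hc] at hS hmul
  have e1 : (c + 1) ^ 2 - 1 = c * c + 2 * c := by
    have : (c + 1) ^ 2 = c * c + 2 * c + 1 := by ring
    rw [this, Nat.add_sub_cancel]
  rw [e1] at hS
  rw [Nat.add_sub_cancel] at hmul
  have hcardι : Fintype.card ((Fin 1 ⊕ Fin 1) ⊕ Fin 2) = 4 := by simp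
  have hinjval : Function.Injective
      (fun g : Matrix.SpecialLinearGroup (Fin 2) K => (g.1 : Matrix (Fin 2) (Fin 2) K)) :=
    fun x y h => Subtype.ext h
  by_cases h2 : (2 : F) = 0
  · have hidx := Cfsg.Agent.Lib.Helper19.OrthRefl.Omega_index_minus_four_c2 h2 hab
    rw [hidx] at hmul
    have h2K : (2 : K) = 0 := by
      have := congrArg (algebraMap F K) h2
      rw [map_ofNat, map_zero] at this
      exact this
    have hneg : (-1 : Matrix (Fin 2) (Fin 2) K) = 1 := by
      have : (1 : Matrix (Fin 2) (Fin 2) K) + 1 = 0 := by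
        rw [← two_smul K (1 : Matrix (Fin 2) (Fin 2) K), h2K, zero_smul]
      exact neg_eq_of_add_eq_zero_left this
    exact quotient_center_equiv (Cfsg.Omega F (Cfsg.quadFormMinus 1 F a b)) φ hmem 1
      (card_ker_le_one φ _ hinjval 1 (by
        intro g hg
        rcases hφ g hg with h | h
        · exact h
        · rw [hneg] at h; exact h))
      (by
        rw [hS, one_mul]
        have : Nat.card ↥(Cfsg.Omega F (Cfsg.quadFormMinus 1 F a b)) * 2 =
            ((c + 1) * (c * c + 2 * c)) * 2 := by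
          rw [hmul]; ring
        omega)
      hcen
  · have hidx : (Cfsg.Omega F (Cfsg.quadFormMinus 1 F a b)).index = 4 := by
      have := (Cfsg.Agent.Lib.Helper19.OrthRefl.Omega_structure h2 (stdMinus 1 F a b)
        (stdMinus_nondeg 1 hab) (by rw [hcardι]; omega)).1
      rw [coe_stdMinus] at this
      exact this
    rw [hidx] at hmul
    exact quotient_center_equiv (Cfsg.Omega F (Cfsg.quadFormMinus 1 F a b)) φ hmem 2
      (card_ker_le_two φ _ hinjval 1 (-1) hφ)
      (by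
        rw [hS]
        have : Nat.card ↥(Cfsg.Omega F (Cfsg.quadFormMinus 1 F a b)) * 4 =
            ((c + 1) * (c * c + 2 * c)) * 2 := by
          rw [hmul]; ring
        omega)
      hcen

end Cfsg.Agent.S0300
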