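import Cfsg.Statements.S0301
import Mathlib
import Cfsg.Agent.S0286
import Cfsg.Agent.S0269
import Cfsg.Agent.Lib.Helper19.Omega5
import Cfsg.Agent.Lib.Helper19.ExcIso
import Cfsg.Agent.Lib.Helper19.OrthSpinor
import Cfsg.Agent.Lib.Helper19.QuadStd
import Cfsg.Agent.Lib.Helper19.OrthHyp
import Cfsg.Agent.Lib.Helper27.SympOrder

set_option autoImplicit false
open Cfsg

namespace Cfsg.Agent.S0301

open Cfsg.Agent.Lib.Helper19.Omega5 Cfsg.Agent.Lib.Helper19.QuadStd
  Cfsg.Agent.Lib.Helper19.ExcIso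

/-- PΩ_5(q) is isomorphic to PSp_4(q) for q odd. -/
theorem result {F : Type*} [Field F] [Fintype F] (hodd : Odd (Fintype.card F)) : Nonempty (Cfsg.POmega F (Cfsg.quadFormOdd 2 F) ≃* Cfsg.PSp 2 F) := by
  classical
  have h2 : (2 : F) ≠ 0 := Cfsg.Agent.Lib.Helper19.OrthRefl.two_ne_zero_of_odd_card hodd
  have hcardι : Fintype.card (Unit ⊕ (Fin 2 ⊕ Fin 2)) = 5 := by simp
  have hq3 : 3 ≤ Fintype.card F := by
    have : 2 ≤ Fintype.card F := Fintype.one_lt_card
    rcases hodd with ⟨k, hk⟩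
    omega
  have hidx : (Cfsg.Omega F (Cfsg.quadFormOdd 2 F)).index = 4 := by
    have := (Cfsg.Agent.Lib.Helper19.OrthRefl.Omega_structure h2 (stdOdd 2 F)
      (stdOdd_nondeg 2 h2) (by rw [hcardι]; omega)).1
    rw [coe_stdOdd] at this
    exact this
  have hO := Cfsg.Agent.S0286.result (F := F) rfl hodd 2
  have hS := Cfsg.Agent.Lib.Helper27.SympTransv.card_symplecticGroup (F := F) rfl 2
  have hmul := Subgroup.card_mul_index (Cfsg.Omega F (Cfsg.quadFormOdd 2 F))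
  rw [hidx, hO] at hmul
  haveI : Finite (Matrix.symplecticGroup (Fin 2) F) :=
    Finite.of_injective (fun a => (a.1 : Matrix (Fin 2 ⊕ Fin 2) (Fin 2 ⊕ Fin 2) F))
      (fun a b h => Subtype.ext h)
  have hperf := Cfsg.Agent.S0269.result (F := F) 2 (Or.inr (Or.inl ⟨rfl, hq3⟩))
  have hmem : ∀ s, rho5 h2 s ∈ Cfsg.Omega F (Cfsg.quadFormOdd 2 F) :=
    fun s => map_mem_commutator (rho5 h2) hperf s
  have hcen : ∀ x : Matrix.symplecticGroup (Fin 2) F,
      (∀ s, x * s * x⁻¹ * s⁻¹ ∈ (rho5 h2).ker) →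
        x ∈ Subgroup.center (Matrix.symplecticGroup (Fin 2) F) := by
    intro x hx
    apply center_of_comm_central hperf
    intro s
    rw [Subgroup.mem_center_iff]
    intro t
    have hk := rho5_ker h2 _ (hx s)
    obtain ⟨y, hy⟩ : ∃ y, y = x * s * x⁻¹ * s⁻¹ := ⟨_, rfl⟩
    rw [← hy] at hk ⊢
    apply Subtype.ext
    change t.1 * y.1 = y.1 * t.1
    rcases hk with h | h
    · rw [h, mul_one, one_mul]
    · rw [h, mul_neg, neg_mul, mul_one, one_mul]
  exact quotient_center_equiv (Cfsg.Omega F (Cfsg.quadFormOdd 2 F)) (rho5 h2) hmem 2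
    (card_rho5_ker_le h2)
    (by
      rw [hS]
      have : Nat.card ↥(Cfsg.Omega F (Cfsg.quadFormOdd 2 F)) * 4 =
          (Fintype.card F ^ (2 ^ 2) * ∏ i ∈ Finset.range 2, (Fintype.card F ^ (2 * (i + 1)) - 1)) * 2 := by
        rw [hmul]; ring
      omega)
    hcen

end Cfsg.Agent.S0301
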