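import Cfsg.Statements.S0302
import Mathlib
import Cfsg.Agent.S0287
import Cfsg.Agent.Lib.Helper19.Omega6P
import Cfsg.Agent.Lib.Helper19.ExcIso
import Cfsg.Agent.Lib.Helper19.OrthSpinor
import Cfsg.Agent.Lib.Helper19.OrthOmega2
import Cfsg.Agent.Lib.Helper19.QuadStd
import Cfsg.Agent.Lib.Helper28.SLn

set_option autoImplicit false
open Cfsg

namespace Cfsg.Agent.S0302

open Cfsg.Agent.Lib.Helper19.Omega6P Cfsg.Agent.Lib.Helper19.QuadStd
  Cfsg.Agent.Lib.Helper19.ExcIso

theorem card_SL4 {F : Type*} [Field F] [Fintype F] :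
    Nat.card (Matrix.SpecialLinearGroup (Fin 4) F) =
      Fintype.card F ^ 6 * (Fintype.card F ^ 2 - 1) * (Fintype.card F ^ 3 - 1)
        * (Fintype.card F ^ 4 - 1) := by
  have h1 := card_GL_eq_card_SL (F := F) 3
  rw [Matrix.card_GL_field, Fin.prod_univ_four] at h1
  simp only [Fin.val_zero, pow_zero, Fin.val_one, pow_one, Fintype.card_fin, Fin.val_two] at h1
  have hq : 2 ≤ Fintype.card F := Fintype.one_lt_card
  obtain ⟨q, hqdef⟩ : ∃ q, q = Fintype.card F := ⟨_, rfl⟩
  rw [← hqdef] at h1 hq ⊢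
  have hq1 : 0 < q - 1 := by omega
  have e1 : q ^ 4 - q = q * (q ^ 3 - 1) := by
    rw [Nat.mul_sub, mul_one]; ring_nf
  have e2 : q ^ 4 - q ^ 2 = q ^ 2 * (q ^ 2 - 1) := by
    rw [Nat.mul_sub, mul_one]; ring_nf
  have e3 : q ^ 4 - q ^ ((3 : Fin 4) : ℕ) = q ^ 3 * (q - 1) := by
    rw [Nat.mul_sub, mul_one]
    have : ((3 : Fin 4) : ℕ) = 3 := rfl
    rw [this]; ring_nf
  rw [e1, e2, e3] at h1
  apply Nat.eq_of_mul_eq_mul_right hq1
  rw [← h1]
  ring

/-- PΩ^+_6(q) is isomorphic to PSL_4(q). -/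
theorem result {F : Type*} [Field F] [Fintype F] : Nonempty (Cfsg.POmega F (Cfsg.quadFormPlus 3 F) ≃* Matrix.ProjectiveSpecialLinearGroup (Fin 4) F) := by
  classical
  have hcardι : Fintype.card (Fin 3 ⊕ Fin 3) = 6 := by simp
  have hO := Cfsg.Agent.S0287.result (F := F) rfl 3 (by omega)
  have hS := card_SL4 (F := F)
  have hmul := Subgroup.card_mul_index (Cfsg.Omega F (Cfsg.quadFormPlus 3 F))
  rw [hO] at hmul
  simp only [Finset.prod_range_succ, Finset.prod_range_zero, zero_add, mul_one, one_mul,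
    show (3 : ℕ) - 1 = 2 from rfl, show 2 * (1 + 1) = 4 from rfl, show 3 * 2 = 6 from rfl] at hmul
  have hperf := Cfsg.Agent.Lib.Helper28.SL_commutator_eq_top (F := F) 4 (by omega)
  have hmem : ∀ s, rho6 (F := F) s ∈ Cfsg.Omega F (Cfsg.quadFormPlus 3 F) :=
    fun s => map_mem_commutator (rho6 (F := F)) hperf s
  have hcen : ∀ x : Matrix.SpecialLinearGroup (Fin 4) F,
      (∀ s, x * s * x⁻¹ * s⁻¹ ∈ (rho6 (F := F)).ker) →
        x ∈ Subgroup.center (Matrix.SpecialLinearGroup (Fin 4) F) := by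
    intro x hx
    apply center_of_comm_central hperf
    intro s
    rw [Subgroup.mem_center_iff]
    intro t
    have hk := rho6_ker _ (hx s)
    obtain ⟨y, hy⟩ : ∃ y, y = x * s * x⁻¹ * s⁻¹ := ⟨_, rfl⟩
    rw [← hy] at hk ⊢
    apply Subtype.ext
    rw [Matrix.SpecialLinearGroup.coe_mul, Matrix.SpecialLinearGroup.coe_mul]
    rcases hk with h | h
    · rw [h, mul_one, one_mul]
    · rw [h, mul_neg, neg_mul, mul_one, one_mul]
  by_cases h2 : (2 : F) = 0
  · have hidx : (Cfsg.Omega F (Cfsg.quadFormPlus 3 F)).index = 2 := by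
      have := Cfsg.Agent.Lib.Helper19.OrthRefl.Omega_index_c2 h2 (stdPlus 3 F)
        (stdPlus_nondeg 3) (Or.inr (by rw [hcardι]; omega)) (by rw [hcardι]; omega)
      rw [coe_stdPlus] at this
      exact this
    rw [hidx] at hmul
    exact quotient_center_equiv (Cfsg.Omega F (Cfsg.quadFormPlus 3 F)) (rho6 (F := F)) hmem 1
      (card_rho6_ker_c2 h2)
      (by
        rw [hS, one_mul]
        have : Nat.card ↥(Cfsg.Omega F (Cfsg.quadFormPlus 3 F)) * 2 =
            (Fintype.card F ^ 6 * (Fintype.card F ^ 2 - 1) * (Fintype.card F ^ 3 - 1)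
              * (Fintype.card F ^ 4 - 1)) * 2 := by
          rw [hmul]; ring
        omega)
      hcen
  · have hidx : (Cfsg.Omega F (Cfsg.quadFormPlus 3 F)).index = 4 := by
      have := (Cfsg.Agent.Lib.Helper19.OrthRefl.Omega_structure h2 (stdPlus 3 F)
        (stdPlus_nondeg 3) (by rw [hcardι]; omega)).1
      rw [coe_stdPlus] at this
      exact this
    rw [hidx] at hmul
    exact quotient_center_equiv (Cfsg.Omega F (Cfsg.quadFormPlus 3 F)) (rho6 (F := F)) hmem 2
      card_rho6_ker_le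
      (by
        rw [hS]
        have : Nat.card ↥(Cfsg.Omega F (Cfsg.quadFormPlus 3 F)) * 4 =
            (Fintype.card F ^ 6 * (Fintype.card F ^ 2 - 1) * (Fintype.card F ^ 3 - 1)
              * (Fintype.card F ^ 4 - 1)) * 2 := by
          rw [hmul]; ring
        omega)
      hcen

end Cfsg.Agent.S0302
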