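import Cfsg.Statements.S0781
import Mathlib
import Cfsg.Agent.Lib.Helper27.UComm
import Cfsg.Agent.S0780

set_option autoImplicit false
open Cfsg

namespace Cfsg.Agent.S0781

open Cfsg.Agent.Lib.Helper27.Unitary Cfsg.Agent.S0780 Matrix

/-- In SU_n(q) with n ≥ 4, or n = 3 and q > 2, every element whose matrix is a unitary transvection x ↦ x + c h(x, v) v (v isotropic) is a commutator ⁅B, C⁆ of two elements of SU_n(q). -/
theorem result {F : Type*} [Field F] [Fintype F] {q : ℕ} (hF : Fintype.card F = q ^ 2) (n : ℕ) (hn : 4 ≤ n ∨ (n = 3 ∧ 3 ≤ q)) (A : ↥(Cfsg.SU n F q)) (v : Fin n → F) (c : F) (hv0 : Cfsg.hermForm n F q v v = 0) (hA : ((A : Matrix.SpecialLinearGroup (Fin n) F) : Matrix (Fin n) (Fin n) F) = Cfsg.unitaryTransvection n q v c) : A ∈ commutatorSet ↥(Cfsg.SU n F q) := by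
  by_cases hvz : v = 0
  · have h1 : A = 1 := by
      apply Subtype.ext
      apply Subtype.ext
      rw [hA, hvz]
      unfold Cfsg.unitaryTransvection
      have : Matrix.vecMulVec (0 : Fin n → F) (fun j => (0 : Fin n → F) j ^ q) = 0 := by
        ext i j
        simp [Matrix.vecMulVec_apply]
      rw [this, smul_zero, add_zero]
      rfl
    rw [h1]
    exact one_mem_commutatorSet _
  -- the parameter has trace zero
  have hc : c + c ^ q = 0 := by
    have : ∃ x, hermForm n F q v x ≠ 0 := by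
      by_contra hne
      apply hvz
      apply hf_nondeg hF
      intro x
      by_contra h
      exact hne ⟨x, h⟩
    obtain ⟨x, hx⟩ := this
    have hx' : hermForm n F q x v ≠ 0 := by
      rw [hf_swap hF v x]
      exact fun h => hx ((cj_eq_zero hF).mp h)
    have h1 := A.2 x x
    have h2 := Cfsg.Agent.Lib.Helper12.hermForm_unitaryTransvection hF n v hv0 c x x
    have h3 : (Cfsg.slToMat n F) (A : Matrix.SpecialLinearGroup (Fin n) F) =
        Cfsg.unitaryTransvection n q v c := hA
    rw [h3] at h1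
    rw [h1] at h2
    have h4 : (c ^ q + c) * (hermForm n F q x v * hermForm n F q v x) = 0 := by
      linear_combination -h2
    rcases mul_eq_zero.mp h4 with h | h
    · linear_combination h
    · exact absurd h (mul_ne_zero hx' hx)
  have hex : ∃ B C : GL (Fin n) F, B ∈ GU n F q ⊓ Cfsg.Geo.specialLinear (Fin n) F ∧
      C ∈ GU n F q ⊓ Cfsg.Geo.specialLinear (Fin n) F ∧ B * C * B⁻¹ * C⁻¹ = tv q v c := by
    rcases hn with h4 | ⟨h3, hq3⟩
    · exact tv_comm_four hF h4 v hvz hv0 c hc
    · exact tv_comm_q3 hF (by omega) hq3 v hvz hv0 c hc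
  obtain ⟨B, C, hB, hC, hBC⟩ := hex
  obtain ⟨B', hB'⟩ := exists_lift hB
  obtain ⟨C', hC'⟩ := exists_lift hC
  rw [mem_commutatorSet_iff]
  refine ⟨B', C', ?_⟩
  apply phi_injective
  rw [commutatorElement_def, map_mul, map_mul, map_mul, map_inv, map_inv, hB', hC', hBC]
  apply Units.ext
  rw [phi_coe, hA, tv_coe hv0]

end Cfsg.Agent.S0781
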