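import Cfsg.Statements.S0303
import Mathlib
import Cfsg.Agent.S0288
import Cfsg.Agent.S0278
import Cfsg.Agent.S0780
import Cfsg.Agent.S0781
import Cfsg.Agent.S2641
import Cfsg.Agent.Lib.Helper19.Omega6M
import Cfsg.Agent.Lib.Helper19.QuadExtSetup
import Cfsg.Agent.Lib.Helper19.ExcIso
import Cfsg.Agent.Lib.Helper19.OrthSpinor
import Cfsg.Agent.Lib.Helper19.OrthOmega2
import Cfsg.Agent.Lib.Helper19.QuadStd
import Cfsg.Agent.S0300

set_option autoImplicit false
open Cfsg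

namespace Cfsg.Agent.S0303

open Cfsg.Agent.Lib.Helper19.Omega6M Cfsg.Agent.Lib.Helper19.QuadStd
  Cfsg.Agent.Lib.Helper19.ExcIso Cfsg.Agent.Lib.Helper19.UnitaryOrth

theorem SU4_perfect {K : Type*} [Field K] [Fintype K] {q : ℕ} (hK : Fintype.card K = q ^ 2) :
    commutator ↥(Cfsg.SU 4 K q) = ⊤ := by
  rw [eq_top_iff, ← Cfsg.Agent.S0780.result hK 4 (by omega) (by omega), commutator_eq_closure]
  apply Subgroup.closure_mono
  rintro A ⟨v, c, hv, hA⟩
  exact Cfsg.Agent.S0781.result hK 4 (Or.inl le_rfl) A v c hv hA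

theorem card_SU4 {K : Type*} [Field K] [Fintype K] {q : ℕ} (hK : Fintype.card K = q ^ 2) :
    Nat.card ↥(Cfsg.SU 4 K q) = q ^ 6 * ((q ^ 2 - 1) * (q ^ 3 + 1) * (q ^ 4 - 1)) := by
  have h := Cfsg.Agent.S0278.result hK 4 (by omega)
  have hprod : ∏ i ∈ Finset.range 4, (if Even i then q ^ (i + 1) + 1 else q ^ (i + 1) - 1) =
      (q + 1) * ((q ^ 2 - 1) * (q ^ 3 + 1) * (q ^ 4 - 1)) := by
    simp only [Finset.prod_range_succ, Finset.prod_range_zero, one_mul]
    have e0 : Even 0 := by decide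
    have e1 : ¬ Even 1 := by decide
    have e2 : Even 2 := by decide
    have e3 : ¬ Even 3 := by decide
    rw [if_pos e0, if_neg e1, if_pos e2, if_neg e3]
    ring
  rw [hprod] at h
  have h6 : 4 * (4 - 1) / 2 = 6 := by norm_num
  rw [h6] at h
  have hpos : 0 < q + 1 := by omega
  apply Nat.eq_of_mul_eq_mul_left hpos
  rw [h]; ring

/-- PΩ^-_6(q) is isomorphic to PSU_4(q). -/
theorem result {F K : Type*} [Field F] [Fintype F] [Field K] [Fintype K] {q : ℕ} (hF : Fintype.card F = q) (hK : Fintype.card K = q ^ 2) (a b : F) (hab : ∀ z₁ z₂ : F, z₁ ^ 2 + a * z₁ * z₂ + b * z₂ ^ 2 = 0 → z₁ = 0 ∧ z₂ = 0) : Nonempty (Cfsg.POmega F (Cfsg.quadFormMinus 2 F a b) ≃* Cfsg.PSU 4 K q) := by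
  classical
  obtain ⟨alg, b', θ, hb0, hb1, hθ⟩ :=
    Cfsg.Agent.Lib.Helper19.QuadExtSetup.exists_setup hK hF a b hab
  letI := alg
  obtain ⟨ω, hω⟩ := exists_omega K hF hK
  obtain ⟨c, hc⟩ := exists_c K hF hK
  have hω0 : ω ≠ 0 := by
    rintro rfl
    rw [zero_mul] at hω
    exact zero_ne_one (neg_eq_zero.1 hω.symm).symm
  obtain ⟨t, ht⟩ := Cfsg.Agent.S2641.sig_ne_id (K := K) hF hK
  have hdim : Module.finrank F (Fin (1 + 1 + 1) → K) =
      Module.finrank F ((Fin (1 + 1) ⊕ Fin (1 + 1)) ⊕ Fin 2 → F) := by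
    rw [finrank_source K hF hK, Module.finrank_fintype_fun_eq_card]
    simp
  let T : (Fin 3 → K) ≃ₗ[F] ((Fin 2 ⊕ Fin 2) ⊕ Fin 2 → F) :=
    LinearMap.linearEquivOfInjective (Cfsg.Agent.S2641.Todd hF b' ω c 1)
      (Cfsg.Agent.S2641.Todd_injective hF hK b' ω c 1 hω0) hdim
  have hT : ∀ v : Fin 3 → K, Cfsg.quadFormMinus 2 F a b (T v) = nrm v := by
    intro v
    exact Cfsg.Agent.S2641.Todd_form hF hK b' ω c 1 θ a b hb0 hb1 hθ hω hc v
  obtain ⟨φ, hφ⟩ : ∃ φ : ↥(Cfsg.SU 4 K q) →*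
      ↥(Cfsg.isometryGroup F (Cfsg.quadFormMinus 2 F a b)),
      ∀ g, φ g = 1 → g.1.1 = 1 ∨ g.1.1 = -1 := by
    refine ⟨isoHom (Cfsg.quadFormMinus 2 F a b) T (rho hF hK) (fun g v => by
      rw [hT, hT, nrm_rho]), ?_⟩
    intro g hg
    exact rho_ker hF hK g (Cfsg.Agent.S0300.rho_of_isoHom_ker _ _ _ _ g hg) t ht
  have hperf := SU4_perfect hK
  have hmem : ∀ s, φ s ∈ Cfsg.Omega F (Cfsg.quadFormMinus 2 F a b) :=
    fun s => map_mem_commutator φ hperf s
  have hcen : ∀ x : ↥(Cfsg.SU 4 K q),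
      (∀ s, x * s * x⁻¹ * s⁻¹ ∈ φ.ker) → x ∈ Subgroup.center ↥(Cfsg.SU 4 K q) := by
    intro x hx
    apply center_of_comm_central hperf
    intro s
    rw [Subgroup.mem_center_iff]
    intro u
    have hk := hφ _ (hx s)
    obtain ⟨y, hy⟩ : ∃ y, y = x * s * x⁻¹ * s⁻¹ := ⟨_, rfl⟩
    rw [← hy] at hk ⊢
    apply Subtype.ext
    apply Subtype.ext
    change u.1.1 * y.1.1 = y.1.1 * u.1.1
    rcases hk with h | h
    · rw [h, mul_one, one_mul]
    · rw [h, mul_neg, neg_mul, mul_one, one_mul]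
  have hO : Nat.card ↥(Cfsg.isometryGroup F (Cfsg.quadFormMinus 2 F a b)) = _ :=
    Cfsg.Agent.S0288.result hF 3 (by omega) a b hab
  simp only [Finset.prod_range_succ, Finset.prod_range_zero, zero_add, mul_one, one_mul,
    show (3 : ℕ) - 1 = 2 from rfl, show 2 * (1 + 1) = 4 from rfl, show 3 * 2 = 6 from rfl] at hO
  have hS := card_SU4 hK
  have hmul := Subgroup.card_mul_index (Cfsg.Omega F (Cfsg.quadFormMinus 2 F a b))
  rw [hO] at hmul
  have hcardι : Fintype.card ((Fin 2 ⊕ Fin 2) ⊕ Fin 2) = 6 := by simp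
  have hinjval : Function.Injective
      (fun g : ↥(Cfsg.SU 4 K q) => (g.1.1 : Matrix (Fin 4) (Fin 4) K)) :=
    fun x y h => Subtype.ext (Subtype.ext h)
  haveI : Finite ↥(Cfsg.SU 4 K q) := inferInstance
  by_cases h2 : (2 : F) = 0
  · have hidx : (Cfsg.Omega F (Cfsg.quadFormMinus 2 F a b)).index = 2 := by
      have := Cfsg.Agent.Lib.Helper19.OrthRefl.Omega_index_c2 h2 (stdMinus 2 F a b)
        (stdMinus_nondeg 2 hab) (Or.inr (by rw [hcardι]; omega)) (by rw [hcardι]; omega)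
      rw [coe_stdMinus] at this
      exact this
    rw [hidx] at hmul
    have h2K : (2 : K) = 0 := by
      have := congrArg (algebraMap F K) h2
      rw [map_ofNat, map_zero] at this
      exact this
    have hneg : (-1 : Matrix (Fin 4) (Fin 4) K) = 1 := by
      have : (1 : Matrix (Fin 4) (Fin 4) K) + 1 = 0 := by
        rw [← two_smul K (1 : Matrix (Fin 4) (Fin 4) K), h2K, zero_smul]
      exact neg_eq_of_add_eq_zero_left this
    exact quotient_center_equiv (Cfsg.Omega F (Cfsg.quadFormMinus 2 F a b)) φ hmem 1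
      (card_ker_le_one φ _ hinjval 1 (by
        intro g hg
        rcases hφ g hg with h | h
        · exact h
        · rw [hneg] at h; exact h))
      (by
        rw [hS, one_mul]
        have : Nat.card ↥(Cfsg.Omega F (Cfsg.quadFormMinus 2 F a b)) * 2 =
            (q ^ 6 * ((q ^ 2 - 1) * (q ^ 3 + 1) * (q ^ 4 - 1))) * 2 := by
          rw [hmul]; ring
        omega)
      hcen
  · have hidx : (Cfsg.Omega F (Cfsg.quadFormMinus 2 F a b)).index = 4 := by
      have := (Cfsg.Agent.Lib.Helper19.OrthRefl.Omega_structure h2 (stdMinus 2 F a b)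
        (stdMinus_nondeg 2 hab) (by rw [hcardι]; omega)).1
      rw [coe_stdMinus] at this
      exact this
    rw [hidx] at hmul
    exact quotient_center_equiv (Cfsg.Omega F (Cfsg.quadFormMinus 2 F a b)) φ hmem 2
      (card_ker_le_two φ _ hinjval 1 (-1) hφ)
      (by
        rw [hS]
        have : Nat.card ↥(Cfsg.Omega F (Cfsg.quadFormMinus 2 F a b)) * 4 =
            (q ^ 6 * ((q ^ 2 - 1) * (q ^ 3 + 1) * (q ^ 4 - 1))) * 2 := by
          rw [hmul]; ring
        omega)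
      hcen

end Cfsg.Agent.S0303
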