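import Cfsg.Statements.S0305
import Mathlib
import Cfsg.Agent.S0287
import Cfsg.Agent.Lib.Helper24.DihIso

set_option autoImplicit false
open Cfsg

namespace Cfsg.Agent.S0305

section main

variable {F : Type*} [Field F]

/-- The matrix `[[0, u], [u⁻¹, 0]]`. -/
def antiMat (u : Fˣ) : Matrix (Fin 1 ⊕ Fin 1) (Fin 1 ⊕ Fin 1) F :=
  Matrix.fromBlocks 0 (Matrix.diagonal fun _ => (u : F)) (Matrix.diagonal fun _ => ((u⁻¹ : Fˣ) : F)) 0

lemma antiMat_mul (u w : Fˣ) :
    antiMat u * antiMat w = Matrix.fromBlocks (Matrix.diagonal fun _ => ((u * w⁻¹ : Fˣ) : F)) 0 0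
      (Matrix.diagonal fun _ => ((u⁻¹ * w : Fˣ) : F)) := by
  unfold antiMat
  rw [Matrix.fromBlocks_multiply]
  simp [Matrix.diagonal_mul_diagonal]

lemma antiMat_mul_self (u : Fˣ) : antiMat u * antiMat u = 1 := by
  rw [antiMat_mul]
  simp [← Matrix.fromBlocks_one]

/-- The anti-diagonal element as a unit. -/
def antiGL (u : Fˣ) : GL (Fin 1 ⊕ Fin 1) F :=
  ⟨antiMat u, antiMat u, antiMat_mul_self u, antiMat_mul_self u⟩

lemma antiMat_mulVec (u : Fˣ) (v : Fin 1 ⊕ Fin 1 → F) :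
    Cfsg.quadFormPlus 1 F ((antiMat u).mulVec v) = Cfsg.quadFormPlus 1 F v := by
  unfold Cfsg.quadFormPlus antiMat
  simp [Matrix.mulVec, dotProduct, Fintype.sum_sum_type, Matrix.diagonal_apply]
  field_simp

/-- The anti-diagonal element of the isometry group. -/
def antiG (u : Fˣ) : Cfsg.isometryGroup F (Cfsg.quadFormPlus 1 F) :=
  ⟨antiGL u, fun v _ => antiMat_mulVec u v⟩

lemma antiG_mul_self (u : Fˣ) : antiG u * antiG u = 1 := by
  apply Subtype.ext
  apply Units.ext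
  exact antiMat_mul_self u

lemma antiG_ne_one (u : Fˣ) : antiG u ≠ 1 := by
  intro h
  have h1 : antiMat u = 1 := congrArg (fun g : Cfsg.isometryGroup F (Cfsg.quadFormPlus 1 F) =>
    ((g : GL (Fin 1 ⊕ Fin 1) F) : Matrix (Fin 1 ⊕ Fin 1) (Fin 1 ⊕ Fin 1) F)) h
  have h2 := congrFun (congrFun h1 (Sum.inl 0)) (Sum.inl 0)
  simp [antiMat] at h2

lemma orderOf_antiG (u : Fˣ) : orderOf (antiG u) = 2 :=
  orderOf_eq_prime (by rw [pow_two, antiG_mul_self]) (antiG_ne_one u)

lemma antiG_pow (u : Fˣ) (k : ℕ) :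
    (((antiG 1 * antiG u) ^ k : Cfsg.isometryGroup F (Cfsg.quadFormPlus 1 F)) :
      GL (Fin 1 ⊕ Fin 1) F).1 =
      Matrix.fromBlocks (Matrix.diagonal fun _ => (((u⁻¹) ^ k : Fˣ) : F)) 0 0
        (Matrix.diagonal fun _ => ((u ^ k : Fˣ) : F)) := by
  induction k with
  | zero => simp [← Matrix.fromBlocks_one]
  | succ k ih =>
    rw [pow_succ]
    show ((((antiG 1 * antiG u) ^ k : Cfsg.isometryGroup F (Cfsg.quadFormPlus 1 F)) :
      GL (Fin 1 ⊕ Fin 1) F).1) * (antiMat 1 * antiMat u) = _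
    rw [ih, antiMat_mul, Matrix.fromBlocks_multiply]
    simp [Matrix.diagonal_mul_diagonal, pow_succ]

lemma orderOf_prod (u : Fˣ) : orderOf (antiG 1 * antiG u) = orderOf u := by
  apply orderOf_eq_orderOf_iff.2
  intro k
  constructor
  · intro h
    have h1 := antiG_pow u k
    rw [h] at h1
    have h2 := congrFun (congrFun h1 (Sum.inr 0)) (Sum.inr 0)
    simp at h2
    apply Units.ext
    rw [Units.val_pow_eq_pow_val, ← h2, Units.val_one]
  · intro h
    apply Subtype.ext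
    apply Units.ext
    rw [antiG_pow, inv_pow, h]
    simp [← Matrix.fromBlocks_one]

end main

/-- GO^+_2(q) is dihedral of order 2(q-1). -/
theorem result {F : Type*} [Field F] [Fintype F] {q : ℕ} (hF : Fintype.card F = q) : Nonempty (Cfsg.isometryGroup F (Cfsg.quadFormPlus 1 F) ≃* DihedralGroup (q - 1)) := by
  classical
  have hq2 : 2 ≤ q := by
    rw [← hF]
    exact Fintype.one_lt_card
  have hcard : Nat.card (Cfsg.isometryGroup F (Cfsg.quadFormPlus 1 F)) = 2 * (q - 1) := by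
    rw [Cfsg.Agent.S0287.result hF 1 le_rfl]
    simp
  obtain ⟨ζ, hζ⟩ := IsCyclic.exists_ofOrder_eq_natCard (α := Fˣ)
  rw [Nat.card_units, Nat.card_eq_fintype_card, hF] at hζ
  haveI : Finite (Cfsg.isometryGroup F (Cfsg.quadFormPlus 1 F)) := by
    apply Nat.finite_of_card_ne_zero
    rw [hcard]
    omega
  have hdih := Cfsg.Agent.Lib.Helper24.closure_pair_equiv_dihedral
    (orderOf_antiG (F := F) 1) (orderOf_antiG ζ)
  rw [orderOf_prod, hζ] at hdih
  obtain ⟨e⟩ := hdih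
  have htop : Subgroup.closure ({antiG 1, antiG ζ} : Set _) = ⊤ := by
    apply Subgroup.eq_top_of_card_eq
    rw [Nat.card_congr e.toEquiv, DihedralGroup.nat_card, hcard]
  exact ⟨Subgroup.topEquiv.symm.trans ((MulEquiv.subgroupCongr htop.symm).trans e)⟩

end Cfsg.Agent.S0305
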