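import Cfsg.Statements.S0306
import Mathlib
import Cfsg.Agent.Lib.Helper19.QuadMinus
import Cfsg.Agent.Lib.Helper24.DihIso

set_option autoImplicit false
open Cfsg

namespace Cfsg.Agent.S0306

open QuadraticMap Cfsg.Agent.Lib.Helper19.QuadWitt Cfsg.Agent.Lib.Helper19.QuadStd
open Cfsg.Agent.Lib.Helper19.AnisoPlane Cfsg.Agent.Lib.Helper19.QuadMinus
open Cfsg.Agent.Lib.Helper19.UnitaryOrth Cfsg.Agent.Lib.Helper19.QuadExt

section normgroup

variable {F K : Type*} [Field F] [Fintype F] [Field K] [Fintype K] [Algebra F K] {q : ℕ}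
  (hF : Fintype.card F = q) (hK : Fintype.card K = q ^ 2)

/-- The group of norm-preserving linear automorphisms of `K`. -/
def OK : Subgroup (K ≃ₗ[F] K) where
  carrier := {g | ∀ u, g u * sig K hF (g u) = u * sig K hF u}
  mul_mem' := by
    intro g h hg hh u
    rw [LinearEquiv.mul_apply, hg, hh]
  one_mem' := fun u => rfl
  inv_mem' := by
    intro g hg u
    have := hg (g⁻¹ u)
    rw [show g (g⁻¹ u) = u from LinearEquiv.apply_symm_apply g u] at this
    exact this.symm

/-- Conjugation as a linear automorphism. -/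
noncomputable def sigE : K ≃ₗ[F] K :=
  LinearEquiv.ofInvolutive (sigL K hF) (fun u => sig_sig K hF hK u)

lemma sigE_apply (u : K) : sigE hF hK u = sig K hF u := rfl

/-- Multiplication by a unit as a linear automorphism. -/
noncomputable def mulE (z : Kˣ) : K ≃ₗ[F] K :=
  DistribMulAction.toModuleAut F K z

lemma mulE_apply (z : Kˣ) (u : K) : mulE (F := F) z u = (z : K) * u := rfl

lemma mulE_injective : Function.Injective (DistribMulAction.toModuleAut F K : Kˣ →* K ≃ₗ[F] K) := by
  intro z w h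
  have := congrArg (fun g : K ≃ₗ[F] K => g 1) h
  apply Units.ext
  simpa [Units.smul_def] using this

include hK in
lemma sigE_mem : sigE hF hK ∈ OK (F := F) (K := K) hF := by
  intro u
  rw [sigE_apply, sig_sig K hF hK, mul_comm]

include hK in
lemma mulE_mem {z : Kˣ} (hz : z ∈ N1 F K) : mulE (F := F) z ∈ OK (F := F) (K := K) hF := by
  intro u
  rw [mulE_apply, map_mul]
  have := (mem_N1 hF hK z).1 hz
  linear_combination (u * sig K hF u) * this

end normgroup

section main

variable {F K : Type*} [Field F] [Fintype F] [Field K] [Fintype K] [Algebra F K] {q : ℕ}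

lemma exists_involutions (hF : Fintype.card F = q) (hK : Fintype.card K = q ^ 2) :
    ∃ x y : OK (F := F) (K := K) hF, orderOf x = 2 ∧ orderOf y = 2 ∧ orderOf (x * y) = q + 1 := by
  classical
  have hq2 : 2 ≤ q := by
    rw [← hF]
    exact Fintype.one_lt_card
  -- a generator of the norm-one group
  obtain ⟨ζ', hζ'⟩ := IsCyclic.exists_ofOrder_eq_natCard (α := N1 F K)
  rw [card_N1 hF hK] at hζ'
  set ζ : Kˣ := (ζ' : Kˣ) with hζdef
  have hζN : ζ ∈ N1 F K := ζ'.2
  have hζord : orderOf ζ = q + 1 := by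
    rw [hζdef, Subgroup.orderOf_coe, hζ']
  have hζnorm : (ζ : K) * sig K hF ζ = 1 := (mem_N1 hF hK ζ).1 hζN
  let x : OK (F := F) (K := K) hF := ⟨sigE hF hK, sigE_mem hF hK⟩
  let m : OK (F := F) (K := K) hF := ⟨mulE ζ, mulE_mem hF hK hζN⟩
  let y : OK (F := F) (K := K) hF := x * m
  have hxx : x * x = 1 := by
    apply Subtype.ext
    apply LinearEquiv.ext
    intro u
    show sig K hF (sig K hF u) = u
    exact sig_sig K hF hK u
  have hxne : x ≠ 1 := by
    intro h
    obtain ⟨u, hu⟩ := sig_ne_id (K := K) hF hK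
    apply hu
    have := congrArg (fun g : OK (F := F) (K := K) hF => (g : K ≃ₗ[F] K) u) h
    exact this
  have hyy : y * y = 1 := by
    apply Subtype.ext
    apply LinearEquiv.ext
    intro u
    show sig K hF ((ζ : K) * sig K hF ((ζ : K) * u)) = u
    rw [map_mul, map_mul, map_mul, sig_sig K hF hK, sig_sig K hF hK]
    linear_combination u * hζnorm
  have hxy : x * y = m := by
    rw [show y = x * m from rfl, ← mul_assoc, hxx, one_mul]
  have hmord : orderOf m = q + 1 := by
    have h1 : orderOf (m : K ≃ₗ[F] K) = orderOf m := Subgroup.orderOf_coe m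
    have h2 : (m : K ≃ₗ[F] K) = DistribMulAction.toModuleAut F K ζ := rfl
    rw [← h1, h2, orderOf_injective _ mulE_injective, hζord]
  have hyne : y ≠ 1 := by
    intro h
    have h1 : m = x := by
      have : x * y = x * 1 := by rw [h]
      rw [hxy, mul_one] at this
      exact this
    have h2 : orderOf m ∣ 2 := by
      apply orderOf_dvd_of_pow_eq_one
      rw [h1, pow_two, hxx]
    rw [hmord] at h2
    have := Nat.le_of_dvd (by norm_num) h2
    omega
  refine ⟨x, y, ?_, ?_, ?_⟩
  · exact orderOf_eq_prime (by rw [pow_two, hxx]) hxne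
  · exact orderOf_eq_prime (by rw [pow_two, hyy]) hyne
  · rw [hxy, hmord]

lemma aniso_zero {a b : F}
    (hab : ∀ z₁ z₂ : F, z₁ ^ 2 + a * z₁ * z₂ + b * z₂ ^ 2 = 0 → z₁ = 0 ∧ z₂ = 0)
    (w : (Fin 0 ⊕ Fin 0) ⊕ Fin 2 → F) (hw : stdMinus 0 F a b w = 0) : w = 0 := by
  rw [stdMinus_apply] at hw
  unfold Cfsg.quadFormMinus at hw
  simp only [Finset.univ_eq_empty, Finset.sum_empty, zero_add] at hw
  obtain ⟨h1, h2⟩ := hab _ _ hw
  funext s
  rcases s with (i | i) | i
  · exact i.elim0
  · exact i.elim0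
  · fin_cases i
    · exact h1
    · exact h2

end main

/-- GO^-_2(q) is dihedral of order 2(q+1). -/
theorem result {F : Type*} [Field F] [Fintype F] {q : ℕ} (hF : Fintype.card F = q) (a b : F) (hab : ∀ z₁ z₂ : F, z₁ ^ 2 + a * z₁ * z₂ + b * z₂ ^ 2 = 0 → z₁ = 0 ∧ z₂ = 0) : Nonempty (Cfsg.isometryGroup F (Cfsg.quadFormMinus 0 F a b) ≃* DihedralGroup (q + 1)) := by
  classical
  -- the order of the group
  have hcard : Nat.card (Cfsg.isometryGroup F (Cfsg.quadFormMinus 0 F a b)) = 2 * (q + 1) := by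
    rw [card_isometryGroup_minus hF 0 a b hab (fun _ => 1) rfl (fun k hk => absurd hk (by omega))]
    simp
  -- the norm form model
  obtain ⟨K, _, _, _, hK⟩ := exists_quadratic_ext hF a b hab
  obtain ⟨ν, hν⟩ := exists_normEquiv hF hK (finrank_minus (F := F) 0) (stdMinus 0 F a b)
    (aniso_zero hab)
  -- the embedding of the norm-preserving group
  let ρ : OK (F := F) (K := K) hF →* Module.End F K :=
    { toFun := fun g => ((g : K ≃ₗ[F] K) : K →ₗ[F] K)
      map_one' := rfl
      map_mul' := fun g h => rfl }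
  have hρinj : Function.Injective ρ := by
    intro g h hgh
    apply Subtype.ext
    apply LinearEquiv.ext
    intro u
    have := congrArg (fun f : Module.End F K => f u) hgh
    exact this
  have hρ : ∀ (g : OK (F := F) (K := K) hF) (v : K),
      Cfsg.quadFormMinus 0 F a b (ν.symm (ρ g v)) = Cfsg.quadFormMinus 0 F a b (ν.symm v) := by
    intro g v
    rw [← stdMinus_apply, ← stdMinus_apply]
    apply (algebraMap F K).injective
    rw [hν, hν, LinearEquiv.apply_symm_apply, LinearEquiv.apply_symm_apply]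
    exact g.2 v
  let Φ := isoHom (Cfsg.quadFormMinus 0 F a b) ν.symm ρ hρ
  have hΦinj : Function.Injective Φ := isoHom_injective _ _ _ hρ hρinj
  obtain ⟨x, y, hx, hy, hxy⟩ := exists_involutions (F := F) (K := K) hF hK
  have hx' : orderOf (Φ x) = 2 := by rw [orderOf_injective Φ hΦinj, hx]
  have hy' : orderOf (Φ y) = 2 := by rw [orderOf_injective Φ hΦinj, hy]
  have hxy' : orderOf (Φ x * Φ y) = q + 1 := by
    rw [← map_mul, orderOf_injective Φ hΦinj, hxy]
  haveI : Finite (Cfsg.isometryGroup F (Cfsg.quadFormMinus 0 F a b)) := by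
    apply Nat.finite_of_card_ne_zero
    rw [hcard]
    omega
  have hdih := Cfsg.Agent.Lib.Helper24.closure_pair_equiv_dihedral hx' hy'
  rw [hxy'] at hdih
  obtain ⟨e⟩ := hdih
  have htop : Subgroup.closure ({Φ x, Φ y} : Set _) = ⊤ := by
    apply Subgroup.eq_top_of_card_eq
    rw [Nat.card_congr e.toEquiv, DihedralGroup.nat_card, hcard]
  exact ⟨Subgroup.topEquiv.symm.trans ((MulEquiv.subgroupCongr htop.symm).trans e)⟩

end Cfsg.Agent.S0306
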