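import Cfsg.Statements.S0313
import Cfsg.Agent.Lib.Helper29.BNParabolic

set_option autoImplicit false
open Cfsg

namespace Cfsg.Agent.S0313

/-- Two standard parabolic subgroups of a group with a (B,N)-pair which are conjugate in `G` coincide. -/
theorem result {G : Type*} [Group G] (P : Cfsg.BNPair G) {J K : Set G}
    (hJ : J ⊆ P.S) (hK : K ⊆ P.S) (g : G)
    (h : (P.parabolic J).map (MulAut.conj g).toMonoidHom = P.parabolic K) :
    P.parabolic J = P.parabolic K := by
  have hmem : ∀ x : G, x ∈ P.parabolic K ↔ g⁻¹ * x * g ∈ P.parabolic J := by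
    intro x
    rw [← h, Subgroup.mem_map_equiv]
    simp [MulAut.conj_symm_apply]
  have hg : g ∈ P.parabolic K := by
    apply Cfsg.Agent.Lib.Helper29.BN.mem_of_conj_B_le' P _ (Cfsg.Agent.Lib.Helper29.BN.B_le_parabolic P K)
    intro b hb
    rw [hmem]
    have e : g⁻¹ * (g * b * g⁻¹) * g = b := by group
    rw [e]
    exact Cfsg.Agent.Lib.Helper29.BN.B_le_parabolic P J hb
  ext x
  constructor
  · intro hx
    have h1 : g * x * g⁻¹ ∈ P.parabolic K := by
      rw [hmem]
      have e : g⁻¹ * (g * x * g⁻¹) * g = x := by group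
      rw [e]; exact hx
    have e : x = g⁻¹ * (g * x * g⁻¹) * g := by group
    rw [e]
    exact Subgroup.mul_mem _ (Subgroup.mul_mem _ (Subgroup.inv_mem _ hg) h1) hg
  · intro hx
    have h1 : g * x * g⁻¹ ∈ P.parabolic K :=
      Subgroup.mul_mem _ (Subgroup.mul_mem _ hg hx) (Subgroup.inv_mem _ hg)
    rw [hmem] at h1
    have e : g⁻¹ * (g * x * g⁻¹) * g = x := by group
    rwa [e] at h1

end Cfsg.Agent.S0313
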