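import Cfsg.Statements.S0316
import Cfsg.Agent.Lib.Helper29.BNParabolic

set_option autoImplicit false
open Cfsg

namespace Cfsg.Agent.S0316

/-- The map `J ↦ P_J` is a lattice isomorphism from the power set of the set of distinguished generators onto the
subgroups containing `B`. -/
theorem result {G : Type*} [Group G] (P : Cfsg.BNPair G) :
    ∃ e : Set P.S ≃o {M : Subgroup G // P.B ≤ M},
      ∀ J : Set P.S, ((e J : {M : Subgroup G // P.B ≤ M}) : Subgroup G) = P.parabolic (Subtype.val '' J) := by
  have hsub : ∀ J : Set P.S, Subtype.val '' J ⊆ P.S := by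
    rintro J _ ⟨x, _, rfl⟩
    exact x.2
  let f : Set P.S → {M : Subgroup G // P.B ≤ M} := fun J =>
    ⟨P.parabolic (Subtype.val '' J), Cfsg.Agent.Lib.Helper29.BN.B_le_parabolic P _⟩
  have hle : ∀ J K : Set P.S, f J ≤ f K ↔ J ≤ K := by
    intro J K
    constructor
    · intro h
      have h' : P.parabolic (Subtype.val '' J) ≤ P.parabolic (Subtype.val '' K) := h
      have h1 : (Subtype.val '' J : Set G) ⊆ Subtype.val '' K := by
        rw [← Cfsg.Agent.Lib.Helper29.BN.S_inter_parabolic P (hsub J),
          ← Cfsg.Agent.Lib.Helper29.BN.S_inter_parabolic P (hsub K)]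
        exact Set.inter_subset_inter_right _ h'
      exact (Set.image_subset_image_iff Subtype.val_injective).1 h1
    · intro h
      have : P.parabolic (Subtype.val '' J) ≤ P.parabolic (Subtype.val '' K) :=
        Cfsg.Agent.Lib.Helper29.BN.parabolic_mono P (Set.image_mono h)
      exact this
  have hsurj : Function.Surjective f := by
    rintro ⟨M, hM⟩
    refine ⟨Subtype.val ⁻¹' (M : Set G), ?_⟩
    apply Subtype.ext
    show P.parabolic (Subtype.val '' (Subtype.val ⁻¹' (M : Set G) : Set P.S)) = M
    rw [Subtype.image_preimage_coe]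
    exact (Cfsg.Agent.Lib.Helper29.BN.eq_parabolic_of_B_le P M hM).symm
  refine ⟨RelIso.ofSurjective (OrderEmbedding.ofMapLEIff f hle) hsurj, ?_⟩
  intro J
  rfl

end Cfsg.Agent.S0316
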