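import Cfsg.Statements.S0321
import Cfsg.Agent.Lib.Helper29.BNParabolic

set_option autoImplicit false
open Cfsg

namespace Cfsg.Agent.S0321

/-- For `n ∈ N` not in `B`, the union `B ∪ B n B` is (the underlying set of) a subgroup exactly when `n` agrees
modulo `B ⊓ N` with one of the distinguished representatives; thus the distinguished involutions are
determined by `B` and `N`. -/
theorem result {G : Type*} [Group G] (P : Cfsg.BNPair G) {n : G}
    (hn : n ∈ P.N) (hnB : n ∉ P.B) :
    (∃ H : Subgroup G, (H : Set G) = (P.B : Set G) ∪ DoubleCoset.doubleCoset n (P.B : Set G) P.B) ↔ ∃ s ∈ P.S, s⁻¹ * n ∈ P.B := by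
  constructor
  · rintro ⟨H, hH⟩
    have hBH : P.B ≤ H := by
      intro b hb
      have : b ∈ (H : Set G) := by rw [hH]; exact Or.inl hb
      exact this
    have h1 := Cfsg.Agent.Lib.Helper29.BN.eq_parabolic_of_B_le P H hBH
    have hnH : n ∈ H := by
      have : n ∈ (H : Set G) := by
        rw [hH]; exact Or.inr (Cfsg.Agent.Lib.Helper29.BN.self_mem_C P n)
      exact this
    rcases Set.eq_empty_or_nonempty (P.S ∩ (H : Set G)) with he | ⟨s, hs, hsH⟩
    · exfalso
      rw [he, Cfsg.Agent.Lib.Helper29.BN.parabolic_empty] at h1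
      rw [h1] at hnH
      exact hnB hnH
    · refine ⟨s, hs, ?_⟩
      rw [hH] at hsH
      rcases hsH with hsB | hsC
      · exact absurd hsB (Cfsg.Agent.Lib.Helper29.BN.s_not_mem_B P hs)
      · have h2 := Cfsg.Agent.Lib.Helper29.BN.C_eq_of_mem P hsC
        exact (Cfsg.Agent.Lib.Helper29.BN.bruhat P (P.subset hs) hn h2).1
  · rintro ⟨s, hs, hsn⟩
    refine ⟨P.parabolic {s}, ?_⟩
    rw [Cfsg.Agent.Lib.Helper29.BN.parabolic_singleton P hs]
    have h2 : Cfsg.Agent.Lib.Helper29.BN.C P n = Cfsg.Agent.Lib.Helper29.BN.C P s := by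
      apply Cfsg.Agent.Lib.Helper29.BN.C_eq_of_mem
      exact (Cfsg.Agent.Lib.Helper29.BN.mem_C P).2 ⟨1, P.B.one_mem, s⁻¹ * n, hsn, by group⟩
    rw [← h2]
    rfl

end Cfsg.Agent.S0321
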