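import Cfsg.Statements.S0322
import Cfsg.Agent.S0308

set_option autoImplicit false
open Cfsg

namespace Cfsg.Agent.S0322

/-- In rank one, `G = B ∪ B s B`. -/
theorem mem_B_or_BsB {G : Type*} [Group G] (P : Cfsg.BNPair G) {s : G} (hS : P.S = {s}) (g : G) :
    g ∈ P.B ∨ ∃ b ∈ P.B, ∃ b' ∈ P.B, g = b * s * b' := by
  have hs : s ∈ P.S := by rw [hS]; rfl
  let T : Set G := {g | g ∈ P.B ∨ ∃ b ∈ P.B, ∃ b' ∈ P.B, g = b * s * b'}
  have h1 : (1 : G) ∈ T := Or.inl P.B.one_mem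
  have hB : ∀ b ∈ P.B, ∀ t ∈ T, b * t ∈ T := by
    rintro b hb t (ht | ⟨b₁, hb₁, b₂, hb₂, rfl⟩)
    · exact Or.inl (P.B.mul_mem hb ht)
    · exact Or.inr ⟨b * b₁, P.B.mul_mem hb hb₁, b₂, hb₂, by group⟩
  have hSmul : ∀ s' ∈ P.S, ∀ t ∈ T, s' * t ∈ T := by
    intro s' hs' t ht
    have hs's : s' = s := by rw [hS] at hs'; exact hs'
    subst hs's
    rcases ht with ht | ⟨b₁, hb₁, b₂, hb₂, rfl⟩
    · exact Or.inr ⟨1, P.B.one_mem, t, ht, by group⟩
    · have h := P.mul_mem_union s' hs s' (P.subset hs) b₁ hb₁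
      have h2 : s' * (b₁ * s' * b₂) = (s' * b₁ * s') * b₂ := by group
      rw [h2]
      rcases h with h | h
      · rw [DoubleCoset.mem_doubleCoset] at h
        obtain ⟨x, hx, y, hy, hxy⟩ := h
        left
        rw [hxy]
        exact P.B.mul_mem (P.B.mul_mem (P.B.mul_mem hx (P.sq_mem s' hs)) hy) hb₂
      · rw [DoubleCoset.mem_doubleCoset] at h
        obtain ⟨x, hx, y, hy, hxy⟩ := h
        right
        exact ⟨x, hx, y * b₂, P.B.mul_mem hy hb₂, by rw [hxy]; group⟩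
  exact Cfsg.Agent.S0308.mem_of_closed P T h1 hB hSmul g

/-- A group with a (B,N)-pair of rank one acts doubly transitively on the left cosets of `B`. -/
theorem result {G : Type*} [Group G] (P : Cfsg.BNPair G) (h : P.rank = 1) : MulAction.IsMultiplyPretransitive G (G ⧸ P.B) 2 := by
  have hS : ∃ s, P.S = {s} := by
    unfold BNPair.rank at h
    rw [Nat.card_coe_set_eq] at h
    exact Set.ncard_eq_one.1 h
  obtain ⟨s, hS⟩ := hS
  -- every coset other than `B` is of the form `b s B`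
  have hcoset : ∀ q : G ⧸ P.B, q ≠ QuotientGroup.mk 1 → ∃ b ∈ P.B, q = QuotientGroup.mk (b * s) := by
    intro q hq
    induction q using QuotientGroup.induction_on with
    | H g =>
      rcases mem_B_or_BsB P hS g with hg | ⟨b, hb, b', hb', rfl⟩
      · exfalso
        apply hq
        rw [QuotientGroup.eq]
        simpa using hg
      · refine ⟨b, hb, ?_⟩
        rw [QuotientGroup.eq]
        have : (b * s * b')⁻¹ * (b * s) = b'⁻¹ := by group
        rw [this]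
        exact P.B.inv_mem hb'
  rw [MulAction.is_two_pretransitive_iff]
  intro a b c d hab hcd
  induction a using QuotientGroup.induction_on with
  | H g₁ =>
  induction c using QuotientGroup.induction_on with
  | H g₂ =>
  have hb' : g₁⁻¹ • b ≠ QuotientGroup.mk 1 := by
    intro hcon
    apply hab
    have : b = g₁ • (QuotientGroup.mk 1 : G ⧸ P.B) := by rw [← hcon, smul_smul, mul_inv_cancel, one_smul]
    rw [this]
    show (QuotientGroup.mk g₁ : G ⧸ P.B) = QuotientGroup.mk (g₁ * 1)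
    rw [mul_one]
  have hd' : g₂⁻¹ • d ≠ QuotientGroup.mk 1 := by
    intro hcon
    apply hcd
    have : d = g₂ • (QuotientGroup.mk 1 : G ⧸ P.B) := by rw [← hcon, smul_smul, mul_inv_cancel, one_smul]
    rw [this]
    show (QuotientGroup.mk g₂ : G ⧸ P.B) = QuotientGroup.mk (g₂ * 1)
    rw [mul_one]
  obtain ⟨b₁, hb₁, hb₁'⟩ := hcoset _ hb'
  obtain ⟨b₂, hb₂, hb₂'⟩ := hcoset _ hd'
  have hbq : b = QuotientGroup.mk (g₁ * (b₁ * s)) := by
    have : b = g₁ • (g₁⁻¹ • b) := by rw [smul_smul, mul_inv_cancel, one_smul]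
    rw [this, hb₁']; rfl
  have hdq : d = QuotientGroup.mk (g₂ * (b₂ * s)) := by
    have : d = g₂ • (g₂⁻¹ • d) := by rw [smul_smul, mul_inv_cancel, one_smul]
    rw [this, hb₂']; rfl
  refine ⟨g₂ * b₂ * b₁⁻¹ * g₁⁻¹, ?_, ?_⟩
  · show (QuotientGroup.mk (g₂ * b₂ * b₁⁻¹ * g₁⁻¹ * g₁) : G ⧸ P.B) = QuotientGroup.mk g₂
    rw [QuotientGroup.eq]
    have : (g₂ * b₂ * b₁⁻¹ * g₁⁻¹ * g₁)⁻¹ * g₂ = b₁ * b₂⁻¹ := by group
    rw [this]
    exact P.B.mul_mem hb₁ (P.B.inv_mem hb₂)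
  · rw [hbq, hdq]
    show (QuotientGroup.mk (g₂ * b₂ * b₁⁻¹ * g₁⁻¹ * (g₁ * (b₁ * s))) : G ⧸ P.B) = _
    congr 1
    group

end Cfsg.Agent.S0322
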