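import Cfsg.Statements.S0323
-- import your own Cfsg.Agent.* helpers here

set_option autoImplicit false
open scoped Pointwise
open Cfsg

namespace Cfsg.Agent.S0323

theorem mem_pairStab {G Ω : Type*} [Group G] [MulAction G Ω] {x y : Ω} {g : G} :
    g ∈ MulAction.stabilizer G ({x, y} : Set Ω) ↔
      (g • x = x ∧ g • y = y) ∨ (g • x = y ∧ g • y = x) := by
  rw [MulAction.mem_stabilizer_iff, Set.smul_set_insert, Set.smul_set_singleton, Set.pair_eq_pair_iff]

/-- A doubly transitive action on a set with at least three points yields a (B,N)-pair of rank one: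
`B` is the stabiliser of a point `x`, `N` the setwise stabiliser of a pair `{x, y}`. -/
theorem result {G Ω : Type*} [Group G] [MulAction G Ω]
    (h2 : MulAction.IsMultiplyPretransitive G Ω 2) {x y z : Ω} (hxy : x ≠ y) (hyz : y ≠ z) (hxz : x ≠ z) :
    ∃ P : Cfsg.BNPair G, P.B = MulAction.stabilizer G x ∧
      P.N = MulAction.stabilizer G ({x, y} : Set Ω) ∧ P.rank = 1 := by
  have tt : ∀ {a b c d : Ω}, a ≠ b → c ≠ d → ∃ g : G, g • a = c ∧ g • b = d :=
    fun hab hcd => MulAction.is_two_pretransitive_iff.1 h2 hab hcd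
  obtain ⟨s, hsx, hsy⟩ := tt hxy hxy.symm
  have hsN : s ∈ MulAction.stabilizer G ({x, y} : Set Ω) := mem_pairStab.2 (Or.inr ⟨hsx, hsy⟩)
  have hinj : ∀ g : G, ∀ a b : Ω, g • a = g • b → a = b := fun g a b h => MulAction.injective g h
  -- double coset lemma
  have dc : ∀ g h : G, g • x ≠ x → h • x ≠ x →
      g ∈ DoubleCoset.doubleCoset h (MulAction.stabilizer G x : Set G) (MulAction.stabilizer G x) := by
    intro g h hg hh
    obtain ⟨b', hb'x, hb'⟩ := tt (Ne.symm hh) (Ne.symm hg)
    rw [DoubleCoset.mem_doubleCoset]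
    refine ⟨b', hb'x, (b' * h)⁻¹ * g, ?_, by group⟩
    show ((b' * h)⁻¹ * g) • x = x
    rw [mul_smul, inv_smul_eq_iff, mul_smul, hb']
  refine ⟨{ B := MulAction.stabilizer G x
            N := MulAction.stabilizer G ({x, y} : Set Ω)
            S := {s}
            sup_eq_top := ?_
            conj_mem := ?_
            subset := ?_
            sq_mem := ?_
            inj := ?_
            closure_sup := ?_
            mul_mem_union := ?_
            conj_ne := ?_ }, rfl, rfl, ?_⟩
  · -- sup_eq_top
    rw [eq_top_iff]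
    intro g _
    by_cases hg : g • x = x
    · exact Subgroup.mem_sup_left hg
    · obtain ⟨b, hbx, hb⟩ := tt (Ne.symm hg) hxy
      have h1 : (s⁻¹ * b * g) • x = x := by
        rw [mul_smul, mul_smul, hb, inv_smul_eq_iff, hsx]
      have h2 : g = b⁻¹ * (s * (s⁻¹ * b * g)) := by group
      rw [h2]
      apply Subgroup.mul_mem _ (Subgroup.mem_sup_left (Subgroup.inv_mem _ hbx))
      exact Subgroup.mul_mem _ (Subgroup.mem_sup_right hsN) (Subgroup.mem_sup_left h1)
  · -- conj_mem
    rintro n hn t ⟨htB, htN⟩
    have htx : t • x = x := htB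
    have hty : t • y = y := by
      rcases mem_pairStab.1 htN with h | h
      · exact h.2
      · exact absurd (htx.symm.trans h.1) hxy
    show (n * t * n⁻¹) • x = x
    rw [mul_smul, mul_smul]
    rcases mem_pairStab.1 hn with h | h
    · have : n⁻¹ • x = x := by rw [inv_smul_eq_iff, h.1]
      rw [this, htx, h.1]
    · have : n⁻¹ • x = y := by rw [inv_smul_eq_iff, h.2]
      rw [this, hty, h.2]
  · -- subset
    rintro _ rfl
    exact hsN
  · -- sq_mem
    intro s' hs'
    rw [Set.mem_singleton_iff.1 hs']
    show (s * s) • x = x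
    rw [mul_smul, hsx, hsy]
  · -- inj
    rintro _ rfl _ rfl _
    rfl
  · -- closure_sup
    apply le_antisymm
    · apply sup_le
      · rw [Subgroup.closure_le]
        rintro _ rfl
        exact hsN
      · exact inf_le_right
    · intro n hn
      rcases mem_pairStab.1 hn with h | h
      · exact Subgroup.mem_sup_right ⟨h.1, hn⟩
      · have h1 : (s⁻¹ * n) • x = x := by rw [mul_smul, h.1, inv_smul_eq_iff, hsx]
        have h2 : s⁻¹ * n ∈ MulAction.stabilizer G ({x, y} : Set Ω) :=
          Subgroup.mul_mem _ (Subgroup.inv_mem _ hsN) hn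
        have h3 : n = s * (s⁻¹ * n) := by group
        rw [h3]
        exact Subgroup.mul_mem _ (Subgroup.mem_sup_left (Subgroup.subset_closure rfl))
          (Subgroup.mem_sup_right ⟨h1, h2⟩)
  · -- mul_mem_union
    intro s' hs' n hn b hb
    rw [Set.mem_singleton_iff.1 hs']
    have hbx : b • x = x := hb
    rcases mem_pairStab.1 hn with h | h
    · -- n fixes x
      left
      apply dc
      · rw [mul_smul, mul_smul, h.1, hbx, hsx]; exact hxy.symm
      · rw [mul_smul, h.1, hsx]; exact hxy.symm
    · -- n swaps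
      by_cases hby : b • y = y
      · left
        have h1 : (s * b * n) • x = x := by rw [mul_smul, mul_smul, h.1, hby, hsy]
        have h2 : (s * n) • x = x := by rw [mul_smul, h.1, hsy]
        rw [DoubleCoset.mem_doubleCoset]
        refine ⟨1, Subgroup.one_mem _, (s * n)⁻¹ * (s * b * n), ?_, by group⟩
        show ((s * n)⁻¹ * (s * b * n)) • x = x
        rw [mul_smul, h1, inv_smul_eq_iff, h2]
      · right
        apply dc
        · rw [mul_smul, mul_smul, h.1]
          intro hcon
          apply hby
          apply hinj s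
          rw [hcon, hsy]
        · rw [h.1]; exact hxy.symm
  · -- conj_ne
    intro s' hs'
    rw [Set.mem_singleton_iff.1 hs']
    intro heq
    obtain ⟨b, hbx, hby⟩ := tt hxy hxz
    have h1 : s * b * s ∈ (fun b : G => s * b * s) '' (MulAction.stabilizer G x : Set G) := ⟨b, hbx, rfl⟩
    rw [heq] at h1
    have h2 : (s * b * s) • x = x := h1
    rw [mul_smul, mul_smul, hsx, hby] at h2
    apply hyz
    apply hinj s
    rw [hsy, h2]
  · -- rank
    show Nat.card ({s} : Set G) = 1
    simp

end Cfsg.Agent.S0323
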