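import Cfsg.Statements.S0326

set_option autoImplicit false
open Cfsg

namespace Cfsg.Agent.S0326

/-- The Suzuki–Tits ovoid over a finite field with `q` elements has `q² + 1` points. -/
theorem result {F : Type*} [Field F] [Fintype F] (m : ℕ) :
    Nat.card (Cfsg.suzukiOvoid F m) = Fintype.card F ^ 2 + 1 := by
  classical
  let vec : F × F → Fin 4 → F := fun p =>
    ![p.1 * p.2 + p.1 ^ (2 ^ (m + 1) + 2) + p.2 ^ (2 ^ (m + 1)), p.2, p.1, 1]
  have hvec : ∀ p, vec p ≠ 0 := fun p h => by
    have := congrFun h 3
    simp [vec] at this
  have hinf : (![1, 0, 0, 0] : Fin 4 → F) ≠ 0 := fun h => by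
    have := congrFun h 0
    simp at this
  let f : Option (F × F) → Projectivization F (Fin 4 → F) := fun o =>
    match o with
    | none => Projectivization.mk F ![1, 0, 0, 0] hinf
    | some p => Projectivization.mk F (vec p) (hvec p)
  have hinj : Function.Injective f := by
    intro a b hab
    cases a with
    | none =>
      cases b with
      | none => rfl
      | some p =>
        exfalso
        simp only [f] at hab
        rw [Projectivization.mk_eq_mk_iff'] at hab
        obtain ⟨a, ha⟩ := hab
        have h3 := congrFun ha 3
        have h0 := congrFun ha 0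
        simp [vec] at h3 h0
        rw [h3] at h0
        simp at h0
    | some p =>
      cases b with
      | none =>
        exfalso
        simp only [f] at hab
        rw [Projectivization.mk_eq_mk_iff'] at hab
        obtain ⟨a, ha⟩ := hab
        have h3 := congrFun ha 3
        simp [vec] at h3
      | some p' =>
        simp only [f] at hab
        rw [Projectivization.mk_eq_mk_iff'] at hab
        obtain ⟨a, ha⟩ := hab
        have h3 := congrFun ha 3
        have h1 := congrFun ha 1
        have h2 := congrFun ha 2
        simp [vec] at h3 h1 h2
        subst h3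
        simp at h1 h2
        congr 1
        exact Prod.ext h2.symm h1.symm
  have himg : Set.range f = Cfsg.suzukiOvoid F m := by
    ext p
    constructor
    · rintro ⟨o, rfl⟩
      cases o with
      | none => exact ⟨![1, 0, 0, 0], hinf, rfl, Or.inl rfl⟩
      | some q => exact ⟨vec q, hvec q, rfl, Or.inr ⟨q.1, q.2, rfl⟩⟩
    · rintro ⟨v, hv, rfl, h | ⟨x, y, h⟩⟩
      · subst h
        exact ⟨none, rfl⟩
      · subst h
        exact ⟨some (x, y), rfl⟩
  rw [← himg, Nat.card_range_of_injective hinj]
  simp [Nat.card_eq_fintype_card, Fintype.card_option, Fintype.card_prod, sq]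

end Cfsg.Agent.S0326
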