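import Cfsg.Statements.S0335
import Mathlib

set_option autoImplicit false
open Cfsg

namespace Cfsg.Agent.S0335

section alg

variable {F : Type*} [Field F] (S : F →+* F)

/-- The ovoid function expressed via the Tits endomorphism `S`. -/
def fS (x y : F) : F := x * y + S x * x ^ 2 + S y

variable (h2 : (2 : F) = 0) (hSS : ∀ t, S (S t) = t ^ 2)

include hSS in
lemma S_fS (x y : F) : S (fS S x y) = S x * S y + x ^ 2 * (S x) ^ 2 + y ^ 2 := by
  simp only [fS, map_add, map_mul, map_pow, hSS]

include hSS in
lemma S_eq_zero {t : F} (h : S t = 0) : t = 0 := by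
  have := hSS t
  rw [h, map_zero] at this
  exact (pow_eq_zero_iff two_ne_zero).1 this.symm

include h2 hSS in
lemma aniso {x y : F} (hf : fS S x y = 0) : x = 0 ∧ y = 0 := by
  have hS := S_fS S hSS x y
  rw [hf, map_zero] at hS
  unfold fS at hf
  have h1 : y * (y - x * S x) = 0 := by linear_combination (-1) * hS - S x * hf
  have hx_of : S x * x ^ 2 = 0 → x = 0 := by
    intro h
    rcases mul_eq_zero.1 h with h | h
    · exact S_eq_zero S hSS h
    · exact (pow_eq_zero_iff two_ne_zero).1 h
  rcases mul_eq_zero.1 h1 with hy | hy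
  · subst hy
    have : S x * x ^ 2 = 0 := by simpa using hf
    exact ⟨hx_of this, rfl⟩
  · have hy' : y = x * S x := by linear_combination hy
    subst hy'
    rw [map_mul, hSS] at hf
    have : S x * x ^ 2 = 0 := by linear_combination hf - S x * x ^ 2 * h2
    have hx := hx_of this
    exact ⟨hx, by rw [hx]; simp⟩

include h2 hSS in
lemma PI (x y : F) :
    x * y * S (fS S x y) + y ^ 2 * S y + S x * (fS S x y) ^ 2 = fS S x y * S (fS S x y) := by
  rw [S_fS S hSS]
  unfold fS
  linear_combination (S x * S y * x * y + (S x) ^ 2 * x ^ 3 * y) * h2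

include h2 hSS in
lemma KL {x y u v b : F} (huv : u ≠ 0 ∨ v ≠ 0)
    (h : fS S (x + b * u) (y + b * v) =
      fS S x y + b * (fS S (x + u) (y + v) - fS S x y)) : b = 0 ∨ b = 1 := by
  set w := v + S x * u with hw
  have huw : ¬ (u = 0 ∧ w = 0) := by
    rintro ⟨hu, hw0⟩
    rw [hw, hu, mul_zero, add_zero] at hw0
    rcases huv with h | h
    · exact h hu
    · exact h hw0
  have hred : fS S (b * u) (b * w) = b * fS S u w := by
    have key : fS S (b * u) (b * w) - b * fS S u w =
        fS S (x + b * u) (y + b * v) -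
          (fS S x y + b * (fS S (x + u) (y + v) - fS S x y)) -
        2 * (S b * S u * b * u * x - S u * b * u * x) := by
      simp only [fS, hw, map_add, map_mul, map_pow, hSS]
      ring
    linear_combination key + h - (S b * S u * b * u * x - S u * b * u * x) * h2
  by_cases hb : b = 0
  · exact Or.inl hb
  right
  have hF : fS S u w ≠ 0 := fun h0 => huw (aniso S h2 hSS h0)
  have hSF : S (fS S u w) ≠ 0 := fun h0 => hF (S_eq_zero S hSS h0)
  have hSb : S b ≠ 0 := fun h0 => hb (S_eq_zero S hSS h0)
  have p1 := PI S h2 hSS u w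
  have p2 := PI S h2 hSS (b * u) (b * w)
  rw [hred] at p2
  simp only [map_mul] at p2
  have h3 : b * S b * fS S u w * S (fS S u w) * (b - 1) = 0 := by
    linear_combination p2 - b ^ 2 * S b * p1
  have hb1 : b - 1 = 0 := by
    rcases mul_eq_zero.1 h3 with h | h
    · exfalso
      exact mul_ne_zero (mul_ne_zero (mul_ne_zero hb hSb) hF) hSF h
    · exact h
  linear_combination hb1

include h2 hSS in
lemma L2 {x1 y1 x2 y2 x3 y3 α β γ : F} (h12 : ¬(x1 = x2 ∧ y1 = y2))
    (h13 : ¬(x1 = x3 ∧ y1 = y3)) (h23 : ¬(x2 = x3 ∧ y2 = y3))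
    (hf : α * fS S x1 y1 + β * fS S x2 y2 + γ * fS S x3 y3 = 0)
    (hy : α * y1 + β * y2 + γ * y3 = 0) (hx : α * x1 + β * x2 + γ * x3 = 0)
    (hs : α + β + γ = 0) : α = 0 ∧ β = 0 ∧ γ = 0 := by
  by_cases hγ : γ = 0
  · subst hγ
    have hβ : β = -α := by linear_combination hs
    subst hβ
    by_cases hα : α = 0
    · subst hα
      simp
    · exfalso
      apply h12
      constructor
      · have : α * (x1 - x2) = 0 := by linear_combination hx
        rcases mul_eq_zero.1 this with h | h
        · exact absurd h hα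
        · linear_combination h
      · have : α * (y1 - y2) = 0 := by linear_combination hy
        rcases mul_eq_zero.1 this with h | h
        · exact absurd h hα
        · linear_combination h
  · exfalso
    set b := -β / γ with hb
    have hbγ : b * γ = -β := by
      rw [hb]
      field_simp
    have hx3 : x3 = x1 + b * (x2 - x1) := by
      have : γ * (x3 - (x1 + b * (x2 - x1))) = 0 := by
        linear_combination hx - x1 * hs - (x2 - x1) * hbγ
      rcases mul_eq_zero.1 this with h | h
      · exact absurd h hγ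
      · linear_combination h
    have hy3 : y3 = y1 + b * (y2 - y1) := by
      have : γ * (y3 - (y1 + b * (y2 - y1))) = 0 := by
        linear_combination hy - y1 * hs - (y2 - y1) * hbγ
      rcases mul_eq_zero.1 this with h | h
      · exact absurd h hγ
      · linear_combination h
    have hf3 : fS S x3 y3 = fS S x1 y1 + b * (fS S x2 y2 - fS S x1 y1) := by
      have : γ * (fS S x3 y3 - (fS S x1 y1 + b * (fS S x2 y2 - fS S x1 y1))) = 0 := by
        linear_combination hf - fS S x1 y1 * hs - (fS S x2 y2 - fS S x1 y1) * hbγ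
      rcases mul_eq_zero.1 this with h | h
      · exact absurd h hγ
      · linear_combination h
    have huv : x2 - x1 ≠ 0 ∨ y2 - y1 ≠ 0 := by
      by_contra hcon
      push Not at hcon
      apply h12
      constructor
      · linear_combination -hcon.1
      · linear_combination -hcon.2
    have e1 : x1 + (x2 - x1) = x2 := by ring
    have e2 : y1 + (y2 - y1) = y2 := by ring
    have hKL := KL S h2 hSS (x := x1) (y := y1) (u := x2 - x1) (v := y2 - y1) (b := b) huv
      (by rw [e1, e2, ← hx3, ← hy3]; exact hf3)
    rcases hKL with h0 | h1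
    · apply h13
      rw [hx3, hy3, h0]
      simp
    · apply h23
      rw [hx3, hy3, h1]
      constructor <;> ring

lemma L1 {f1 y1 x1 f2 y2 x2 α β γ : F} (h12 : ¬(x1 = x2 ∧ y1 = y2))
    (h0 : α + β * f1 + γ * f2 = 0) (hy : β * y1 + γ * y2 = 0) (hx : β * x1 + γ * x2 = 0)
    (hs : β + γ = 0) : α = 0 ∧ β = 0 ∧ γ = 0 := by
  have hγ : γ = -β := by linear_combination hs
  subst hγ
  by_cases hβ : β = 0
  · subst hβ
    simp only [zero_mul, neg_zero, add_zero] at h0
    simp [h0]
  · exfalso
    apply h12
    constructor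
    · have : β * (x1 - x2) = 0 := by linear_combination hx
      rcases mul_eq_zero.1 this with h | h
      · exact absurd h hβ
      · linear_combination h
    · have : β * (y1 - y2) = 0 := by linear_combination hy
      rcases mul_eq_zero.1 this with h | h
      · exact absurd h hβ
      · linear_combination h

end alg

section vec

variable {F : Type*} [Field F] (S : F →+* F)

/-- Membership in the (vector-level) ovoid. -/
def IsOv (v : Fin 4 → F) : Prop :=
  v = ![1, 0, 0, 0] ∨ ∃ x y : F, v = ![fS S x y, y, x, 1]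

variable (h2 : (2 : F) = 0) (hSS : ∀ t, S (S t) = t ^ 2)

include h2 hSS in
lemma main {a b c : Fin 4 → F} (ha : IsOv S a) (hb : IsOv S b) (hc : IsOv S c)
    (hab : a ≠ b) (hac : a ≠ c) (hbc : b ≠ c) {α β γ : F}
    (h : α • a + β • b + γ • c = 0) : α = 0 ∧ β = 0 ∧ γ = 0 := by
  have c0 := congrFun h 0
  have c1 := congrFun h 1
  have c2 := congrFun h 2
  have c3 := congrFun h 3
  rcases ha with rfl | ⟨x1, y1, rfl⟩
  · rcases hb with rfl | ⟨x2, y2, rfl⟩
    · exact absurd rfl hab
    · rcases hc with rfl | ⟨x3, y3, rfl⟩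
      · exact absurd rfl hac
      · have h23 : ¬(x2 = x3 ∧ y2 = y3) := by
          rintro ⟨rfl, rfl⟩
          exact hbc rfl
        exact L1 (f1 := fS S x2 y2) (f2 := fS S x3 y3) h23 (by simpa using c0)
          (by simpa using c1) (by simpa using c2) (by simpa using c3)
  · rcases hb with rfl | ⟨x2, y2, rfl⟩
    · rcases hc with rfl | ⟨x3, y3, rfl⟩
      · exact absurd rfl hbc
      · have h13 : ¬(x1 = x3 ∧ y1 = y3) := by
          rintro ⟨rfl, rfl⟩
          exact hac rfl
        have := L1 (α := β) (β := α) (γ := γ) (f1 := fS S x1 y1) (f2 := fS S x3 y3) h13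
          (by simp at c0; linear_combination c0)
          (by simpa using c1) (by simpa using c2) (by simp at c3; linear_combination c3)
        exact ⟨this.2.1, this.1, this.2.2⟩
    · have h12 : ¬(x1 = x2 ∧ y1 = y2) := by
        rintro ⟨rfl, rfl⟩
        exact hab rfl
      rcases hc with rfl | ⟨x3, y3, rfl⟩
      · have := L1 (α := γ) (β := α) (γ := β) (f1 := fS S x1 y1) (f2 := fS S x2 y2) h12
          (by simp at c0; linear_combination c0)
          (by simpa using c1) (by simpa using c2) (by simp at c3; linear_combination c3)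
        exact ⟨this.2.1, this.2.2, this.1⟩
      · have h13 : ¬(x1 = x3 ∧ y1 = y3) := by
          rintro ⟨rfl, rfl⟩
          exact hac rfl
        have h23 : ¬(x2 = x3 ∧ y2 = y3) := by
          rintro ⟨rfl, rfl⟩
          exact hbc rfl
        exact L2 S h2 hSS h12 h13 h23 (by simpa using c0) (by simpa using c1)
          (by simpa using c2) (by simpa using c3)

end vec

/-- The Suzuki–Tits point set is an ovoid: any three distinct points of it are projectively independent
(no line of projective 3-space meets it in more than two points). -/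
theorem result {F : Type*} [Field F] [Fintype F] {m : ℕ} (hm : 1 ≤ m)
    (hF : Fintype.card F = 2 ^ (2 * m + 1)) (p : Fin 3 ↪ Cfsg.suzukiOvoid F m) :
    Projectivization.Independent (fun i => (p i : Projectivization F (Fin 4 → F))) := by
  classical
  have h2 : (2 : F) = 0 := by
    have h := FiniteField.cast_card_eq_zero F
    rw [hF] at h
    push_cast at h
    exact (pow_eq_zero_iff (by omega)).1 h
  haveI : CharP F 2 := CharTwo.of_one_ne_zero_of_two_eq_zero one_ne_zero h2
  set S : F →+* F := iterateFrobenius F 2 (m + 1) with hS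
  have hSdef : ∀ t : F, S t = t ^ 2 ^ (m + 1) := fun t => rfl
  have hq : ∀ t : F, t ^ 2 ^ (2 * m + 1) = t := by
    intro t
    rw [← hF]
    exact FiniteField.pow_card t
  have hSS : ∀ t, S (S t) = t ^ 2 := by
    intro t
    rw [hSdef, hSdef, ← pow_mul]
    have : 2 ^ (m + 1) * 2 ^ (m + 1) = 2 ^ (2 * m + 1) * 2 := by
      rw [← pow_add, ← pow_succ]
      congr 1
      omega
    rw [this, pow_mul, hq]
  have hfS : ∀ x y : F, x * y + x ^ (2 ^ (m + 1) + 2) + y ^ 2 ^ (m + 1) = fS S x y := by
    intro x y
    unfold fS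
    rw [hSdef, hSdef, pow_add]
  have hov : ∀ i : Fin 3, ∃ (v : Fin 4 → F) (hv : v ≠ 0),
      (p i : Projectivization F (Fin 4 → F)) = Projectivization.mk F v hv ∧ IsOv S v := by
    intro i
    obtain ⟨v, hv, hpv, hcase⟩ := (p i).2
    refine ⟨v, hv, hpv, ?_⟩
    rcases hcase with h | ⟨x, y, h⟩
    · exact Or.inl h
    · right
      refine ⟨x, y, ?_⟩
      rw [h, hfS]
  choose v hv hpv hvov using hov
  have hne : ∀ i j : Fin 3, i ≠ j → v i ≠ v j := by
    intro i j hij hvij
    apply hij
    apply p.injective
    apply Subtype.ext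
    rw [hpv i, hpv j]
    congr 1
  have hfun : (fun i => (p i : Projectivization F (Fin 4 → F))) =
      fun i => Projectivization.mk F (v i) (hv i) := funext hpv
  rw [hfun]
  refine Projectivization.Independent.mk v hv ?_
  rw [Fintype.linearIndependent_iff]
  intro g hg
  rw [Fin.sum_univ_three] at hg
  obtain ⟨g0, g1, g2⟩ := main S h2 hSS (hvov 0) (hvov 1) (hvov 2) (hne 0 1 (by decide))
    (hne 0 2 (by decide)) (hne 1 2 (by decide)) hg
  intro i
  fin_cases i
  · exact g0
  · exact g1
  · exact g2

end Cfsg.Agent.S0335
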