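import Cfsg.Statements.S5420
import Mathlib

set_option autoImplicit false
open Cfsg

namespace Cfsg.Agent.S5420

/-- the p-core of a finite group is a p-group -/
theorem pCore_isPGroup {G : Type*} [Group G] [Finite G] (p : ℕ) [Fact p.Prime] :
    IsPGroup p (Cfsg.pCore p G) := by
  obtain ⟨P⟩ : Nonempty (Sylow p G) := Sylow.nonempty
  have hle : Cfsg.pCore p G ≤ (P : Subgroup G) := by
    unfold Cfsg.pCore
    apply sSup_le
    rintro N ⟨hNn, hNp⟩
    haveI := hNn
    exact hNp.le_sylow_of_normal P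
  exact P.2.to_le hle

theorem pCore_normal {G : Type*} [Group G] (p : ℕ) : (Cfsg.pCore p G).Normal := by
  unfold Cfsg.pCore
  exact Subgroup.sSup_normal _ fun N hN => hN.1

/-- a subgroup of odd order meets a 2-group trivially -/
theorem odd_inf_two_group {G : Type*} [Group G] [Finite G] (K R : Subgroup G) (hK : Odd (Nat.card K))
    (hR : IsPGroup 2 R) : K ⊓ R = ⊥ := by
  haveI : Fact (Nat.Prime 2) := ⟨Nat.prime_two⟩
  obtain ⟨n, hn⟩ := (IsPGroup.iff_card).mp hR
  apply Subgroup.inf_eq_bot_of_coprime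
  rw [hn]
  apply Nat.Coprime.pow_right
  exact hK.coprime_two_right

/-- Let Q be an extraspecial 2-subgroup of the finite group G whose centralizer in G is its centre Z and which is normal in the centralizer of Z. If Z lies in the largest normal 2-subgroup of G, then Q is a large extraspecial 2-subgroup of G: it normalizes no non-trivial subgroup of G of odd order. -/
theorem result {G : Type*} [Group G] [Finite G] (Q : Subgroup G) (hL1 : Cfsg.IsExtraspecial 2 ↥Q) (hL2 : Subgroup.centralizer (Q : Set G) = ((Subgroup.center ↥Q).map Q.subtype)) (hL3 : Subgroup.centralizer (((Subgroup.center ↥Q).map Q.subtype) : Set G) ≤ Subgroup.normalizer (Q : Set G)) (hZ : ((Subgroup.center ↥Q).map Q.subtype) ≤ Cfsg.pCore 2 G) : Cfsg.IsLargeExtraspecial Q := by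
  haveI : Fact (Nat.Prime 2) := ⟨Nat.prime_two⟩
  refine ⟨hL1, hL2, hL3, ?_⟩
  intro K hKodd hQK
  have hQ2 : IsPGroup 2 Q := hL1.1.1
  set Z : Subgroup G := (Subgroup.center ↥Q).map Q.subtype with hZdef
  have hZQ : Z ≤ Q := Subgroup.map_subtype_le _
  have hRn : (Cfsg.pCore 2 G).Normal := pCore_normal 2
  have hR2 : IsPGroup 2 (Cfsg.pCore 2 G) := pCore_isPGroup 2
  have hKR : K ⊓ Cfsg.pCore 2 G = ⊥ := odd_inf_two_group K _ hKodd hR2
  have hKQ : K ⊓ Q = ⊥ := odd_inf_two_group K Q hKodd hQ2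
  -- K centralizes Z
  have h1 : K ≤ Subgroup.centralizer (Z : Set G) := by
    intro k hk
    rw [Subgroup.mem_centralizer_iff]
    intro z hz
    have hzR : z ∈ Cfsg.pCore 2 G := hZ hz
    have hzN : z ∈ Subgroup.normalizer (K : Set G) := hQK (hZQ hz)
    have hc1 : k * z * k⁻¹ * z⁻¹ ∈ Cfsg.pCore 2 G :=
      Subgroup.mul_mem _ (hRn.conj_mem z hzR k) (Subgroup.inv_mem _ hzR)
    have hc2 : k * z * k⁻¹ * z⁻¹ ∈ K := by
      have h3 : z * k⁻¹ * z⁻¹ ∈ K := (Subgroup.mem_normalizer_iff.mp hzN k⁻¹).mp (K.inv_mem hk)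
      have : k * z * k⁻¹ * z⁻¹ = k * (z * k⁻¹ * z⁻¹) := by group
      rw [this]
      exact K.mul_mem hk h3
    have hc : k * z * k⁻¹ * z⁻¹ ∈ K ⊓ Cfsg.pCore 2 G := ⟨hc2, hc1⟩
    rw [hKR, Subgroup.mem_bot] at hc
    calc z * k = (k * z * k⁻¹ * z⁻¹)⁻¹ * (k * z) := by group
      _ = k * z := by rw [hc, inv_one, one_mul]
  -- K normalizes Q, hence centralizes Q
  have h2 : K ≤ Subgroup.centralizer (Q : Set G) := by
    intro k hk
    rw [Subgroup.mem_centralizer_iff]
    intro q hq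
    have hkN : k ∈ Subgroup.normalizer (Q : Set G) := hL3 (h1 hk)
    have hqN : q ∈ Subgroup.normalizer (K : Set G) := hQK hq
    have hc1 : k * q * k⁻¹ * q⁻¹ ∈ Q :=
      Q.mul_mem ((Subgroup.mem_normalizer_iff.mp hkN q).mp hq) (Q.inv_mem hq)
    have hc2 : k * q * k⁻¹ * q⁻¹ ∈ K := by
      have h3 : q * k⁻¹ * q⁻¹ ∈ K := (Subgroup.mem_normalizer_iff.mp hqN k⁻¹).mp (K.inv_mem hk)
      have : k * q * k⁻¹ * q⁻¹ = k * (q * k⁻¹ * q⁻¹) := by group
      rw [this]
      exact K.mul_mem hk h3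
    have hc : k * q * k⁻¹ * q⁻¹ ∈ K ⊓ Q := ⟨hc2, hc1⟩
    rw [hKQ, Subgroup.mem_bot] at hc
    calc q * k = (k * q * k⁻¹ * q⁻¹)⁻¹ * (k * q) := by group
      _ = k * q := by rw [hc, inv_one, one_mul]
  have h3 : K ≤ Q := by
    rw [hL2] at h2
    exact h2.trans hZQ
  rw [eq_bot_iff, ← hKQ]
  exact le_inf le_rfl h3

end Cfsg.Agent.S5420
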