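import Cfsg.Statements.S5421
import Mathlib
import Cfsg.Agent.S5420

set_option autoImplicit false
open Cfsg

namespace Cfsg.Agent.S5421

open scoped commutatorElement

/-- A fixed-point-free involution normalizing a finite subgroup inverts it. -/
theorem inverts_of_fpf {G : Type*} [Group G] (K : Subgroup G) [Finite K] (t : G)
    (ht : t * t = 1) (htN : ∀ k ∈ K, t * k * t⁻¹ ∈ K)
    (hfpf : ∀ k ∈ K, t * k * t⁻¹ = k → k = 1) : ∀ k ∈ K, t * k * t⁻¹ = k⁻¹ := by
  have htinv : t⁻¹ = t := inv_eq_of_mul_eq_one_right ht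
  let f : K → K := fun k => ⟨(k:G)⁻¹ * (t * k * t⁻¹), K.mul_mem (K.inv_mem k.2) (htN k k.2)⟩
  have hinj : Function.Injective f := by
    intro k l hkl
    have h1 : (k:G)⁻¹ * (t * k * t⁻¹) = (l:G)⁻¹ * (t * l * t⁻¹) := congrArg Subtype.val hkl
    have h2 : t * ((l:G) * (k:G)⁻¹) * t⁻¹ = (l:G) * (k:G)⁻¹ := by
      have e1 : t * ((l:G) * (k:G)⁻¹) * t⁻¹ = (t * l * t⁻¹) * (t * k * t⁻¹)⁻¹ := by group
      have h3 : t * k * t⁻¹ = (k:G) * ((l:G)⁻¹ * (t * l * t⁻¹)) := by rw [← h1]; group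
      rw [e1, h3]; group
    have h4 := hfpf _ (K.mul_mem l.2 (K.inv_mem k.2)) h2
    ext
    exact (mul_inv_eq_one.mp h4).symm
  have hsurj : Function.Surjective f := Finite.surjective_of_injective hinj
  intro k hk
  obtain ⟨x, hx⟩ := hsurj ⟨k, hk⟩
  have hk' : k = (x:G)⁻¹ * (t * x * t⁻¹) := (congrArg Subtype.val hx).symm
  have e : ∀ y : G, t * (t * y) = y := fun y => by rw [← mul_assoc, ht, one_mul]
  rw [hk', htinv]
  simp only [mul_inv_rev, inv_inv, htinv, mul_assoc, e, ht, mul_one]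

/-- elements of `K` centralizing the centre of `Q` are trivial -/
theorem central_trivial {G : Type*} [Group G] (Q K : Subgroup G)
    (hL2 : Subgroup.centralizer (Q : Set G) = ((Subgroup.center ↥Q).map Q.subtype))
    (hL3 : Subgroup.centralizer (((Subgroup.center ↥Q).map Q.subtype) : Set G) ≤ Subgroup.normalizer (Q : Set G))
    (hQK : Q ≤ Subgroup.normalizer (K : Set G)) (hKQ : K ⊓ Q = ⊥)
    (k : G) (hk : k ∈ K) (hkZ : k ∈ Subgroup.centralizer (((Subgroup.center ↥Q).map Q.subtype) : Set G)) :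
    k = 1 := by
  have hZQ : (Subgroup.center ↥Q).map Q.subtype ≤ Q := Subgroup.map_subtype_le _
  have h2 : k ∈ Subgroup.centralizer (Q : Set G) := by
    rw [Subgroup.mem_centralizer_iff]
    intro q hq
    have hkN : k ∈ Subgroup.normalizer (Q : Set G) := hL3 hkZ
    have hqN : q ∈ Subgroup.normalizer (K : Set G) := hQK hq
    have hc1 : k * q * k⁻¹ * q⁻¹ ∈ Q :=
      Q.mul_mem ((Subgroup.mem_normalizer_iff.mp hkN q).mp hq) (Q.inv_mem hq)
    have hc2 : k * q * k⁻¹ * q⁻¹ ∈ K := by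
      have h3 : q * k⁻¹ * q⁻¹ ∈ K := (Subgroup.mem_normalizer_iff.mp hqN k⁻¹).mp (K.inv_mem hk)
      have : k * q * k⁻¹ * q⁻¹ = k * (q * k⁻¹ * q⁻¹) := by group
      rw [this]
      exact K.mul_mem hk h3
    have hc : k * q * k⁻¹ * q⁻¹ ∈ K ⊓ Q := ⟨hc2, hc1⟩
    rw [hKQ, Subgroup.mem_bot] at hc
    calc q * k = (k * q * k⁻¹ * q⁻¹)⁻¹ * (k * q) := by group
      _ = k * q := by rw [hc, inv_one, one_mul]
  rw [hL2] at h2
  have : k ∈ K ⊓ Q := ⟨hk, hZQ h2⟩
  rwa [hKQ, Subgroup.mem_bot] at this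

/-- Let Q be an extraspecial 2-subgroup of the finite group G whose centralizer in G is its centre Z and which is normal in the centralizer of Z. If some involution b of Q outside Z has Z inside the largest normal 2-subgroup of the centralizer of b, then Q is a large extraspecial 2-subgroup of G. -/
theorem result {G : Type*} [Group G] [Finite G] (Q : Subgroup G) (hL1 : Cfsg.IsExtraspecial 2 ↥Q) (hL2 : Subgroup.centralizer (Q : Set G) = ((Subgroup.center ↥Q).map Q.subtype)) (hL3 : Subgroup.centralizer (((Subgroup.center ↥Q).map Q.subtype) : Set G) ≤ Subgroup.normalizer (Q : Set G)) (b : G) (hbQ : b ∈ Q) (hbZ : b ∉ ((Subgroup.center ↥Q).map Q.subtype)) (hb : orderOf b = 2) (hZ : ((Subgroup.center ↥Q).map Q.subtype) ≤ (Cfsg.pCore 2 ↥(Subgroup.centralizer ({b} : Set G))).map (Subgroup.centralizer ({b} : Set G)).subtype) : Cfsg.IsLargeExtraspecial Q := by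
  haveI : Fact (Nat.Prime 2) := ⟨Nat.prime_two⟩
  refine ⟨hL1, hL2, hL3, ?_⟩
  intro K hKodd hQK
  have hQ2 : IsPGroup 2 Q := hL1.1.1
  have hZQ : (Subgroup.center ↥Q).map Q.subtype ≤ Q := Subgroup.map_subtype_le _
  have hKQ : K ⊓ Q = ⊥ := S5420.odd_inf_two_group K Q hKodd hQ2
  have hc2 : Nat.card (Subgroup.center ↥Q) = 2 := hL1.2
  obtain ⟨z0, hz0, hz0u⟩ := (Nat.card_eq_two_iff' (1 : Subgroup.center ↥Q)).mp hc2
  have hzZ : ((z0 : Q) : G) ∈ (Subgroup.center ↥Q).map Q.subtype :=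
    Subgroup.mem_map.mpr ⟨z0, z0.2, rfl⟩
  have hzQ : ((z0 : Q) : G) ∈ Q := hZQ hzZ
  have hzz : ((z0 : Q) : G) * ((z0 : Q) : G) = 1 := by
    have h1 : z0 ^ Nat.card (Subgroup.center ↥Q) = 1 := pow_card_eq_one'
    rw [hc2, pow_two] at h1
    have h2 := congrArg (fun x : Subgroup.center ↥Q => ((x : Q) : G)) h1
    simpa using h2
  have hZel : ∀ g ∈ (Subgroup.center ↥Q).map Q.subtype, g = 1 ∨ g = ((z0 : Q) : G) := by
    intro g hg
    obtain ⟨c, hc, rfl⟩ := Subgroup.mem_map.mp hg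
    by_cases h : (⟨c, hc⟩ : Subgroup.center ↥Q) = 1
    · left
      have := congrArg (fun x : Subgroup.center ↥Q => ((x : Q) : G)) h
      simpa using this
    · right
      have h3 := hz0u ⟨c, hc⟩ h
      have := congrArg (fun x : Subgroup.center ↥Q => ((x : Q) : G)) h3
      simpa using this
  have hnorm : ∀ q ∈ Q, ∀ k ∈ K, q * k * q⁻¹ ∈ K := fun q hq k hk =>
    (Subgroup.mem_normalizer_iff.mp (hQK hq) k).mp hk
  have hodd : ∀ k ∈ K, k * k = 1 → k = 1 := by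
    intro k hk hkk
    have h1 : orderOf k ∣ Nat.card K := by
      have := orderOf_dvd_natCard (⟨k, hk⟩ : K)
      rwa [Subgroup.orderOf_mk] at this
    have h2 : orderOf k ∣ 2 := orderOf_dvd_of_pow_eq_one (by rw [pow_two]; exact hkk)
    have h3 : orderOf k ∣ Nat.gcd (Nat.card K) 2 := Nat.dvd_gcd h1 h2
    rw [hKodd.coprime_two_right] at h3
    exact orderOf_eq_one_iff.mp (Nat.dvd_one.mp h3)
  set z : G := ((z0 : Q) : G) with hzdef
  -- Step A
  have hA : ∀ k ∈ K, z * k * z⁻¹ = k → k = 1 := by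
    intro k hk hzk
    apply central_trivial Q K hL2 hL3 hQK hKQ k hk
    rw [Subgroup.mem_centralizer_iff]
    intro g hg
    rcases hZel g hg with rfl | rfl
    · simp
    · calc z * k = z * k * z⁻¹ * z := by group
        _ = k * z := by rw [hzk]
  have hzinv : ∀ k ∈ K, z * k * z⁻¹ = k⁻¹ := inverts_of_fpf K z hzz (hnorm z hzQ) hA
  -- Step C
  have hbb : b * b = 1 := by
    have := pow_orderOf_eq_one b
    rwa [hb, pow_two] at this
  have hC : ∀ k ∈ K, b * k * b⁻¹ = k → k = 1 := by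
    intro k hk hbk
    have hkCb : k ∈ Subgroup.centralizer ({b} : Set G) := by
      rw [Subgroup.mem_centralizer_iff]
      intro h hh
      rw [Set.mem_singleton_iff] at hh
      subst hh
      calc h * k = h * k * h⁻¹ * h := by group
        _ = k * h := by rw [hbk]
    have hR2 : IsPGroup 2 ((Cfsg.pCore 2 ↥(Subgroup.centralizer ({b} : Set G))).map (Subgroup.centralizer ({b} : Set G)).subtype) :=
      (S5420.pCore_isPGroup 2).map _
    have hKR := S5420.odd_inf_two_group K _ hKodd hR2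
    have hzR := hZ hzZ
    have hconj : k * z⁻¹ * k⁻¹ ∈ (Cfsg.pCore 2 ↥(Subgroup.centralizer ({b} : Set G))).map (Subgroup.centralizer ({b} : Set G)).subtype := by
      obtain ⟨r0, hr0, hr0z⟩ := Subgroup.mem_map.mp hzR
      haveI : (Cfsg.pCore 2 ↥(Subgroup.centralizer ({b} : Set G))).Normal := S5420.pCore_normal 2
      have := this.conj_mem r0⁻¹ (Subgroup.inv_mem _ hr0) ⟨k, hkCb⟩
      refine Subgroup.mem_map.mpr ⟨_, this, ?_⟩
      simp only [Subgroup.coe_subtype, Subgroup.coe_mul, Subgroup.coe_inv] at hr0z ⊢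
      rw [hr0z]
    have hmem : k⁻¹ * k⁻¹ ∈ K ⊓ ((Cfsg.pCore 2 ↥(Subgroup.centralizer ({b} : Set G))).map (Subgroup.centralizer ({b} : Set G)).subtype) := by
      refine ⟨K.mul_mem (K.inv_mem hk) (K.inv_mem hk), ?_⟩
      have e : k⁻¹ * k⁻¹ = z * (k * z⁻¹ * k⁻¹) := by
        have := hzinv k hk
        calc k⁻¹ * k⁻¹ = (z * k * z⁻¹) * k⁻¹ := by rw [this]
          _ = z * (k * z⁻¹ * k⁻¹) := by group
      rw [e]
      exact Subgroup.mul_mem _ hzR hconj
    rw [hKR, Subgroup.mem_bot] at hmem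
    have := hodd k⁻¹ (K.inv_mem hk) hmem
    exact inv_eq_one.mp this
  have hbinv : ∀ k ∈ K, b * k * b⁻¹ = k⁻¹ := inverts_of_fpf K b hbb (hnorm b hbQ) hC
  -- Step E
  have hbc : (⟨b, hbQ⟩ : Q) ∉ Subgroup.center ↥Q := by
    intro h
    exact hbZ (Subgroup.mem_map.mpr ⟨⟨b, hbQ⟩, h, rfl⟩)
  rw [Subgroup.mem_center_iff] at hbc
  push Not at hbc
  obtain ⟨q, hq⟩ := hbc
  have hcomm : ⁅q, (⟨b, hbQ⟩ : Q)⁆ ∈ Subgroup.center ↥Q := by
    rw [← hL1.1.2.2, commutator_def]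
    exact Subgroup.commutator_mem_commutator (Subgroup.mem_top _) (Subgroup.mem_top _)
  have hcomm1 : (⟨⁅q, (⟨b, hbQ⟩ : Q)⁆, hcomm⟩ : Subgroup.center ↥Q) ≠ 1 := by
    intro h
    have h1 : ⁅q, (⟨b, hbQ⟩ : Q)⁆ = 1 := congrArg Subtype.val h
    rw [commutatorElement_eq_one_iff_mul_comm] at h1
    exact hq h1
  have hcz := hz0u _ hcomm1
  have hqb : (q : G) * b * (q : G)⁻¹ * b⁻¹ = z := by
    have := congrArg (fun x : Subgroup.center ↥Q => ((x : Q) : G)) hcz
    simpa [commutatorElement_def] using this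
  have hqb' : (q : G) * b * (q : G)⁻¹ = z * b := by
    rw [← hqb]; group
  -- Step F
  rw [Subgroup.eq_bot_iff_forall]
  intro k hk
  apply hodd k hk
  have h1 : (z * b) * k * (z * b)⁻¹ = k := by
    calc (z * b) * k * (z * b)⁻¹ = z * (b * k * b⁻¹) * z⁻¹ := by group
      _ = z * k⁻¹ * z⁻¹ := by rw [hbinv k hk]
      _ = k := by rw [hzinv _ (K.inv_mem hk), inv_inv]
  have h2 : ((q : G) * b * (q : G)⁻¹) * k * ((q : G) * b * (q : G)⁻¹)⁻¹ = k⁻¹ := by
    have hk' : (q : G)⁻¹ * k * ((q : G)⁻¹)⁻¹ ∈ K := hnorm _ (Q.inv_mem q.2) k hk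
    calc ((q : G) * b * (q : G)⁻¹) * k * ((q : G) * b * (q : G)⁻¹)⁻¹
        = (q : G) * (b * ((q : G)⁻¹ * k * ((q : G)⁻¹)⁻¹) * b⁻¹) * (q : G)⁻¹ := by group
      _ = (q : G) * ((q : G)⁻¹ * k * ((q : G)⁻¹)⁻¹)⁻¹ * (q : G)⁻¹ := by rw [hbinv _ hk']
      _ = k⁻¹ := by group
  rw [hqb', h1] at h2
  calc k * k = k * k⁻¹ := by rw [← h2]
    _ = 1 := mul_inv_cancel k

end Cfsg.Agent.S5421
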