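import Cfsg.Statements.S0338
import Mathlib
import Cfsg.Agent.S0339
import Cfsg.Agent.S5421

set_option autoImplicit false
open Cfsg

namespace Cfsg.Agent.S0338

/-- A Zassenhaus group of odd degree is a simple group. -/
theorem result {G Ω : Type*} [Group G] [MulAction G Ω] [Fintype Ω]
    (hZ : Cfsg.IsZassenhausGroup G Ω) (hodd : Odd (Fintype.card Ω)) : IsSimpleGroup G := by
  classical
  obtain ⟨hfin, h2t, hF3, hthird, ⟨a, b, hab⟩⟩ := Cfsg.Agent.S0339.basics hZ
  have hZ' := hZ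
  obtain ⟨hfaith, h2, h3, hfix, hnoreg⟩ := hZ
  haveI := hfin
  have hodd' : Fintype.card Ω % 2 = 1 := Nat.odd_iff.mp hodd
  -- parity of the number of fixed points of an involution
  have hpar : ∀ t : G, t * t = 1 →
      (Finset.univ.filter (fun ω : Ω => t • ω = ω)).card % 2 = Fintype.card Ω % 2 := by
    intro t ht
    have hσ : (MulAction.toPermHom G Ω t) ^ 2 ^ 1 = 1 := by
      rw [pow_one, ← map_pow, sq, ht, map_one]
    have h1 := Equiv.Perm.card_compl_support_modEq (p := 2) (n := 1) hσ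
    have h2' : (MulAction.toPermHom G Ω t).supportᶜ = Finset.univ.filter (fun ω : Ω => t • ω = ω) := by
      ext ω
      simp [Equiv.Perm.mem_support]
    rw [h2'] at h1
    exact h1
  -- two-point stabilizers contain no involutions
  have hnoinv : ∀ t : G, ∀ c d : Ω, c ≠ d → t • c = c → t • d = d → t * t = 1 → t = 1 := by
    intro t c d hcd htc htd ht2
    by_contra ht1
    have hfilt : Finset.univ.filter (fun ω : Ω => t • ω = ω) = {c, d} := by
      ext ω
      simp only [Finset.mem_filter, Finset.mem_univ, true_and, Finset.mem_insert,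
        Finset.mem_singleton]
      constructor
      · intro hω
        by_contra hne
        push Not at hne
        exact ht1 (h3 t c d ω hcd (Ne.symm hne.2) (Ne.symm hne.1) htc htd hω)
      · rintro (rfl | rfl) <;> assumption
    have := hpar t ht2
    rw [hfilt, Finset.card_pair hcd] at this
    omega
  have hno2 : ∀ k : ℕ, ∀ t : G, ∀ c d : Ω, c ≠ d → t • c = c → t • d = d → t ^ (2 ^ k) = 1 →
      t = 1 := by
    intro k
    induction k with
    | zero => intro t c d _ _ _ h; simpa using h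
    | succ k ih =>
      intro t c d hcd htc htd h
      have h1 : (t * t) ^ (2 ^ k) = 1 := by
        rw [← sq, ← pow_mul, ← pow_succ']
        exact h
      have h2' : t * t = 1 := ih (t * t) c d hcd (by rw [mul_smul, htc, htc])
        (by rw [mul_smul, htd, htd]) h1
      exact hnoinv t c d hcd htc htd h2'
  have hoddord : ∀ h : G, ∀ c d : Ω, c ≠ d → h • c = c → h • d = d → ∃ j : ℕ, h ^ (2 * j + 1) = 1 := by
    intro h c d hcd hc hd
    obtain ⟨k, m, hm, hkm⟩ := Nat.exists_eq_two_pow_mul_odd (orderOf_pos h).ne'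
    obtain ⟨j, hj⟩ := hm
    refine ⟨j, ?_⟩
    rw [← hj]
    have hpowfix : ∀ (i : ℕ) (ω : Ω), h • ω = ω → h ^ i • ω = ω := by
      intro i ω hω
      induction i with
      | zero => simp
      | succ i ih => rw [pow_succ, mul_smul, hω, ih]
    apply hno2 k (h ^ m) c d hcd (hpowfix m c hc) (hpowfix m d hd)
    rw [← pow_mul, mul_comm, ← hkm]
    exact pow_orderOf_eq_one h
  -- an involution interchanging a and b
  obtain ⟨x, hxa, hxb⟩ := h2t hab (Ne.symm hab)
  have hxx : ∀ j : ℕ, (x * x) ^ j • a = a ∧ (x * x) ^ j • b = b := by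
    intro j
    induction j with
    | zero => simp
    | succ j ih =>
      have h1 : (x * x) • a = a := by rw [mul_smul, hxa, hxb]
      have h2' : (x * x) • b = b := by rw [mul_smul, hxb, hxa]
      rw [pow_succ]
      constructor
      · rw [mul_smul, h1, ih.1]
      · rw [mul_smul, h2', ih.2]
  obtain ⟨k, m, hm, hkm⟩ := Nat.exists_eq_two_pow_mul_odd (orderOf_pos x).ne'
  obtain ⟨j, hj⟩ := hm
  have hsdef : x ^ m = (x * x) ^ j * x := by
    rw [hj, pow_succ, pow_mul, sq]
  have hsa : x ^ m • a = b := by rw [hsdef, mul_smul, hxa, (hxx j).2]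
  have hsb : x ^ m • b = a := by rw [hsdef, mul_smul, hxb, (hxx j).1]
  have hs2k : (x ^ m) ^ (2 ^ k) = 1 := by
    rw [← pow_mul, mul_comm, ← hkm]
    exact pow_orderOf_eq_one x
  have hs2 : x ^ m * x ^ m = 1 := by
    apply hno2 k (x ^ m * x ^ m) a b hab (by rw [mul_smul, hsa, hsb]) (by rw [mul_smul, hsb, hsa])
    rw [← sq, ← pow_mul, mul_comm, pow_mul, hs2k, one_pow]
  obtain ⟨s, hs⟩ : ∃ s : G, s = x ^ m := ⟨_, rfl⟩
  rw [← hs] at hsa hsb hs2
  have hsinv : s⁻¹ = s := inv_eq_of_mul_eq_one_right hs2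
  have hs1 : s ≠ 1 := by
    intro h
    rw [h, one_smul] at hsa
    exact hab hsa
  -- the unique fixed point of s
  obtain ⟨c, hc⟩ : ∃ c : Ω, s • c = c := by
    have := hpar s hs2
    rw [hodd'] at this
    have hne : (Finset.univ.filter (fun ω : Ω => s • ω = ω)).Nonempty := by
      rw [Finset.nonempty_iff_ne_empty]
      intro h
      rw [h] at this
      simp at this
    obtain ⟨c, hc⟩ := hne
    exact ⟨c, (Finset.mem_filter.mp hc).2⟩
  have hca : c ≠ a := by
    intro h
    rw [h, hsa] at hc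
    exact hab hc.symm
  have hcb : c ≠ b := by
    intro h
    rw [h, hsb] at hc
    exact hab hc
  have hcuniq : ∀ c' : Ω, s • c' = c' → c' = c := by
    intro c' hc'
    by_contra hne
    exact hs1 (hnoinv s c' c hne hc' hc hs2)
  -- s inverts the two-point stabilizer
  have hinv : ∀ g ∈ MulAction.stabilizer G a ⊓ MulAction.stabilizer G b, s * g * s⁻¹ = g⁻¹ := by
    apply Cfsg.Agent.S5421.inverts_of_fpf _ s hs2
    · intro g hg
      obtain ⟨hga, hgb⟩ := Subgroup.mem_inf.mp hg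
      rw [MulAction.mem_stabilizer_iff] at hga hgb
      refine Subgroup.mem_inf.mpr ⟨?_, ?_⟩
      · rw [MulAction.mem_stabilizer_iff, hsinv, mul_smul, mul_smul, hsa, hgb, hsb]
      · rw [MulAction.mem_stabilizer_iff, hsinv, mul_smul, mul_smul, hsb, hga, hsa]
    · intro g hg hcomm
      obtain ⟨hga, hgb⟩ := Subgroup.mem_inf.mp hg
      rw [MulAction.mem_stabilizer_iff] at hga hgb
      have hsg : s * g = g * s := by
        calc s * g = (s * g * s⁻¹) * s := by group
          _ = g * s := by rw [hcomm]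
      have hgc : g • c = c := by
        apply hcuniq
        rw [← mul_smul, hsg, mul_smul, hc]
      exact h3 g a b c hab (Ne.symm hcb) (Ne.symm hca) hga hgb hgc
  have hg₀ : ∃ g : G, g ≠ 1 := by
    obtain ⟨g, hg, -⟩ := hfix
    exact ⟨g, hg⟩
  obtain ⟨g₀, hg₀1⟩ := hg₀
  haveI : Nontrivial G := ⟨⟨g₀, 1, hg₀1⟩⟩
  refine IsSimpleGroup.mk ?_
  intro N hNn
  by_cases hN : N = ⊥
  · exact Or.inl hN
  right
  obtain ⟨hNtrans, hNpt, -⟩ := Cfsg.Agent.S0339.key hZ' N hN
  have hN2 : ∀ c d c' d' : Ω, c ≠ d → c' ≠ d' → ∃ n ∈ N, n • c = c' ∧ n • d = d' := by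
    intro c d c' d' hcd hcd'
    obtain ⟨n1, hn1, hn1a⟩ := hNtrans c c'
    have hne : n1 • d ≠ c' := by
      rw [← hn1a]
      exact fun h => hcd (MulAction.injective n1 h).symm
    obtain ⟨n2, hn2, hn2c, hn2b⟩ := hNpt c' (n1 • d) d' hne (Ne.symm hcd')
    refine ⟨n2 * n1, N.mul_mem hn2 hn1, ?_, ?_⟩
    · rw [mul_smul, hn1a, hn2c]
    · rw [mul_smul, hn2b]
  have hsqmem : ∀ h : G, (∃ j : ℕ, h ^ (2 * j + 1) = 1) → h * h ∈ N → h ∈ N := by
    rintro h ⟨j, hj⟩ hh
    have h1 : h = ((h * h) ^ j)⁻¹ := by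
      rw [eq_inv_iff_mul_eq_one, ← sq, ← pow_mul, ← pow_succ']
      exact hj
    rw [h1]
    exact N.inv_mem (N.pow_mem hh j)
  -- s ∈ N
  have hsN : s ∈ N := by
    obtain ⟨n, hn, hna, hnb⟩ := hN2 a b b a hab (Ne.symm hab)
    have hha : (n⁻¹ * s) • a = a := by rw [mul_smul, hsa, ← hna, inv_smul_smul]
    have hhb : (n⁻¹ * s) • b = b := by rw [mul_smul, hsb, ← hnb, inv_smul_smul]
    have hhh : (n⁻¹ * s) * (n⁻¹ * s) ∈ N := by
      have e : (n⁻¹ * s) * (n⁻¹ * s) = n⁻¹ * (s * n⁻¹ * s⁻¹) * (s * s) := by group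
      rw [e, hs2, mul_one]
      exact N.mul_mem (N.inv_mem hn) (hNn.conj_mem _ (N.inv_mem hn) s)
    have := hsqmem _ (hoddord _ a b hab hha hhb) hhh
    have e : s = n * (n⁻¹ * s) := by group
    rw [e]
    exact N.mul_mem hn this
  -- the two-point stabilizer lies in N
  have hKN : ∀ g : G, g • a = a → g • b = b → g ∈ N := by
    intro g hga hgb
    apply hsqmem g (hoddord g a b hab hga hgb)
    have h1 := hinv g (Subgroup.mem_inf.mpr ⟨hga, hgb⟩)
    have h2' : s * (g * s⁻¹ * g⁻¹) ∈ N := N.mul_mem hsN (hNn.conj_mem _ (N.inv_mem hsN) g)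
    have e : s * (g * s⁻¹ * g⁻¹) = (g * g)⁻¹ := by
      calc s * (g * s⁻¹ * g⁻¹) = (s * g * s⁻¹) * g⁻¹ := by group
        _ = g⁻¹ * g⁻¹ := by rw [h1]
        _ = (g * g)⁻¹ := by group
    rw [e] at h2'
    exact (N.inv_mem_iff).mp h2'
  rw [eq_top_iff]
  intro g _
  have hgab : g • a ≠ g • b := fun h => hab (MulAction.injective g h)
  obtain ⟨n, hn, hna, hnb⟩ := hN2 a b (g • a) (g • b) hab hgab
  have h1 : n⁻¹ * g ∈ N := by
    apply hKN
    · rw [mul_smul, ← hna, inv_smul_smul]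
    · rw [mul_smul, ← hnb, inv_smul_smul]
  have e : g = n * (n⁻¹ * g) := by group
  rw [e]
  exact N.mul_mem hn h1

end Cfsg.Agent.S0338
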