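import Mathlib
import Cfsg.Statements.S0742
import Cfsg.Agent.S0339
import Cfsg.Agent.S0738
import Cfsg.Agent.S0740
import Cfsg.Agent.S0741
import Cfsg.Agent.S0744
import Cfsg.Agent.Lib.Helper16.ZassPSL

set_option autoImplicit false
set_option maxHeartbeats 1000000
open Cfsg

namespace Cfsg.Agent.S0742

open Cfsg.Agent.Lib.Helper16.ZassPSL

/-- A finite Zassenhaus group of degree `n + 1` with two-point stabilisers of even order `d` satisfying `2d ≤ n - 1` has `n = p^f` for an odd prime `p` and is isomorphic to `PSL(2, p^f)`. -/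
theorem result {G Ω : Type*} [Group G] [Finite G] [MulAction G Ω] [Fintype Ω] (hZ : Cfsg.IsZassenhausGroup G Ω) {a b : Ω} (hab : a ≠ b) (heven : Even (Nat.card ↥(MulAction.stabilizer G a ⊓ MulAction.stabilizer G b))) (hd : 2 * Nat.card ↥(MulAction.stabilizer G a ⊓ MulAction.stabilizer G b) ≤ Fintype.card Ω - 2) : ∃ (p f : ℕ) (K : Type) (_ : Field K) (_ : Fintype K), p.Prime ∧ p ≠ 2 ∧ Fintype.card K = p ^ f ∧ Fintype.card Ω = p ^ f + 1 ∧ Nonempty (G ≃* Matrix.ProjectiveSpecialLinearGroup (Fin 2) K) := by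
  classical
  have hZ' := hZ
  obtain ⟨hfaith, h2, h3, hfix, hnoreg⟩ := hZ
  obtain ⟨-, h2t, hF3', hthird, -⟩ := Cfsg.Agent.S0339.basics hZ'
  have hba : b ≠ a := hab.symm
  have hn1' := Cfsg.Agent.S0741.result hZ' hab heven
  have heven' := heven
  have hn1 := hn1'
  -- name the two-point stabiliser
  obtain ⟨H, hH⟩ : ∃ H : Subgroup G, H = MulAction.stabilizer G a ⊓ MulAction.stabilizer G b :=
    ⟨_, rfl⟩
  rw [← hH] at heven hd hn1
  have hHmem : ∀ g : G, g ∈ H ↔ g • a = a ∧ g • b = b := by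
    intro g
    rw [hH, Subgroup.mem_inf, MulAction.mem_stabilizer_iff, MulAction.mem_stabilizer_iff]
  have hfixH : ∀ h ∈ H, h • a = a ∧ h • b = b := fun h hh => (hHmem h).mp hh
  have hdpos : 0 < Nat.card H := Nat.card_pos
  have hn : Fintype.card Ω = 2 * Nat.card H + 2 := by omega
  have hd2 : 2 ≤ Nat.card H := by
    obtain ⟨k, hk⟩ := heven
    omega
  -- the action of the point stabiliser on the remaining points
  have hΔne : ∀ x : SubMulAction.ofStabilizer G a, (x : Ω) ≠ a :=
    fun x => (SubMulAction.mem_ofStabilizer_iff G a).mp x.2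
  haveI hpre : MulAction.IsPretransitive (MulAction.stabilizer G a)
      (SubMulAction.ofStabilizer G a) := by
    refine ⟨fun x y => ?_⟩
    obtain ⟨g, hga, hgx⟩ := h2t (a := a) (b := (x : Ω)) (c := a) (d := (y : Ω))
      (hΔne x).symm (hΔne y).symm
    exact ⟨⟨g, MulAction.mem_stabilizer_iff.mpr hga⟩, Subtype.ext hgx⟩
  have hX2 : ∀ x : MulAction.stabilizer G a, ∀ y z : SubMulAction.ofStabilizer G a, y ≠ z →
      x • y = y → x • z = z → x = 1 := by
    intro x y z hyz hy hz
    have hy' : (x : G) • (y : Ω) = y := congrArg Subtype.val hy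
    have hz' : (x : G) • (z : Ω) = z := congrArg Subtype.val hz
    apply Subtype.ext
    exact h3 x a y z (hΔne y).symm (fun h => hyz (Subtype.ext h)) (hΔne z).symm
      (MulAction.mem_stabilizer_iff.mp x.2) hy' hz'
  obtain ⟨g₀, hg₀1, hg₀a, hg₀b⟩ := hF3' a b hab
  obtain ⟨c₀, hc₀a, hc₀b⟩ := hthird a b hab
  obtain ⟨b₀, hb₀⟩ : ∃ b₀ : SubMulAction.ofStabilizer G a, (b₀ : Ω) = b :=
    ⟨⟨b, (SubMulAction.mem_ofStabilizer_iff G a).mpr hba⟩, rfl⟩
  have hstab : MulAction.stabilizer (MulAction.stabilizer G a) b₀ ≠ ⊥ := by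
    intro hbot
    have hmem : (⟨g₀, MulAction.mem_stabilizer_iff.mpr hg₀a⟩ : MulAction.stabilizer G a) ∈
        MulAction.stabilizer (MulAction.stabilizer G a) b₀ := by
      rw [MulAction.mem_stabilizer_iff]
      apply Subtype.ext
      show g₀ • (b₀ : Ω) = b₀
      rw [hb₀]
      exact hg₀b
    rw [hbot, Subgroup.mem_bot] at hmem
    exact hg₀1 (congrArg Subtype.val hmem)
  have hΔex : ∃ c : SubMulAction.ofStabilizer G a, c ≠ b₀ :=
    ⟨⟨c₀, (SubMulAction.mem_ofStabilizer_iff G a).mpr hc₀a⟩,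
      fun h => hc₀b ((congrArg Subtype.val h).trans hb₀)⟩
  obtain ⟨Kf, hKn, hKmem, hKtr⟩ :=
    Cfsg.Agent.S0339.frobenius_action (X := MulAction.stabilizer G a)
      (Δ := SubMulAction.ofStabilizer G a) hX2 b₀ hstab hΔex
  -- the Frobenius kernel as a subgroup of `G`
  obtain ⟨F, hFdef⟩ : ∃ F : Subgroup G, F = Kf.map (MulAction.stabilizer G a).subtype := ⟨_, rfl⟩
  have hFmem : ∀ u : G, u ∈ F ↔ ∃ k ∈ Kf, (k : G) = u := by
    intro u
    rw [hFdef, Subgroup.mem_map]
    rfl
  have hFle : F ≤ MulAction.stabilizer G a := by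
    rw [hFdef]
    exact Subgroup.map_subtype_le Kf
  have hFa : ∀ u ∈ F, u • a = a := fun u hu => MulAction.mem_stabilizer_iff.mp (hFle hu)
  have hFn : (F.subgroupOf (MulAction.stabilizer G a)).Normal := by
    have h1 : F.subgroupOf (MulAction.stabilizer G a) = Kf := by
      rw [hFdef]
      exact Subgroup.comap_map_eq_self_of_injective (Subgroup.subtype_injective _) Kf
    rw [h1]
    exact hKn
  have hFfree : ∀ u ∈ F, ∀ y : Ω, y ≠ a → u • y = y → u = 1 := by
    intro u hu y hya huy
    obtain ⟨k, hk, hku⟩ := (hFmem u).mp hu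
    rcases (hKmem k).mp hk with h | h
    · rw [← hku, h]
      rfl
    · exfalso
      refine h ⟨y, (SubMulAction.mem_ofStabilizer_iff G a).mpr hya⟩ (Subtype.ext ?_)
      show (k : G) • y = y
      rw [hku]
      exact huy
  have hFtr : ∀ y z : Ω, y ≠ a → z ≠ a → ∃ u ∈ F, u • y = z := by
    intro y z hya hza
    obtain ⟨k, hk, hkyz⟩ := hKtr ⟨y, (SubMulAction.mem_ofStabilizer_iff G a).mpr hya⟩
      ⟨z, (SubMulAction.mem_ofStabilizer_iff G a).mpr hza⟩
    exact ⟨k, (hFmem _).mpr ⟨k, hk, rfl⟩, congrArg Subtype.val hkyz⟩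
  have hFuniq : ∀ u ∈ F, ∀ u' ∈ F, ∀ y : Ω, y ≠ a → u • y = u' • y → u = u' := by
    intro u hu u' hu' y hya h
    have h1 : (u'⁻¹ * u) • y = y := by rw [mul_smul, h, inv_smul_smul]
    have h2 := hFfree _ (F.mul_mem (F.inv_mem hu') hu) y hya h1
    exact (inv_mul_eq_one.mp h2).symm
  have hreg : ∀ y z : Ω, y ≠ a → z ≠ a → ∃! u : F, (u : G) • y = z := by
    intro y z hya hza
    obtain ⟨u, hu, huy⟩ := hFtr y z hya hza
    refine ⟨⟨u, hu⟩, huy, ?_⟩
    intro u' hu'
    apply Subtype.ext
    exact hFuniq u'.1 u'.2 u hu y hya (hu'.trans huy.symm)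
  obtain ⟨hFcomm, p, f, hp, -, hnpf⟩ := Cfsg.Agent.S0738.result hZ' hab hn1' F hFle hFn hreg
  have hFconj : ∀ g : G, g • a = a → ∀ u ∈ F, g * u * g⁻¹ ∈ F := by
    intro g hg u hu
    obtain ⟨k, hk, hku⟩ := (hFmem u).mp hu
    refine (hFmem _).mpr ⟨⟨g, MulAction.mem_stabilizer_iff.mpr hg⟩ * k *
      ⟨g, MulAction.mem_stabilizer_iff.mpr hg⟩⁻¹, hKn.conj_mem k hk _, ?_⟩
    rw [← hku]
    rfl
  -- the swapping involution
  have hevenn : Even (Fintype.card Ω) := ⟨Nat.card H + 1, by omega⟩
  obtain ⟨t, hto, hta, htb, htfix⟩ := (Cfsg.Agent.S0740.result hZ' hab).2.2 hevenn heven'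
  have htt : t * t = 1 := by
    have h1 := pow_orderOf_eq_one t
    rw [hto, pow_two] at h1
    exact h1
  obtain ⟨e, hte⟩ : ∃ e : Ω, t • e = e := by
    have hpos : 0 < Nat.card (MulAction.fixedBy Ω t) := by
      rw [htfix]
      norm_num
    obtain ⟨⟨e, he⟩⟩ := (Nat.card_pos_iff.mp hpos).1
    exact ⟨e, MulAction.mem_fixedBy.mp he⟩
  have hea : e ≠ a := by
    intro h
    rw [h] at hte
    exact hab (hte.symm.trans hta)
  have heb : e ≠ b := by
    intro h
    rw [h] at hte
    exact hab (htb.symm.trans hte)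
  have hinv : ∀ h ∈ H, t * h * t = h⁻¹ :=
    inverts_of_swap H h3 hab hHmem hn t hta htb htt hea heb hte
  have hHcomm : ∀ h ∈ H, ∀ k ∈ H, h * k = k * h := by
    intro h hh k hk
    have e1 := hinv (h * k) (H.mul_mem hh hk)
    have e2 : t * (h * k) * t = (t * h * t) * (t * k * t) := by
      calc t * (h * k) * t = t * h * 1 * k * t := by group
        _ = t * h * (t * t) * k * t := by rw [htt]
        _ = (t * h * t) * (t * k * t) := by group
    rw [e2, hinv h hh, hinv k hk, mul_inv_rev] at e1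
    have e3 := congrArg (fun g : G => g⁻¹) e1
    simp only [mul_inv_rev, inv_inv] at e3
    exact e3.symm
  -- cardinalities
  have hcardF : Nat.card F = 2 * Nat.card H + 1 := by
    have hbij : Function.Bijective (fun u : F => (⟨(u : G) • b, fun h => hba
        (MulAction.injective (u : G) (h.trans (hFa u.1 u.2).symm))⟩ : {y : Ω // y ≠ a})) := by
      constructor
      · intro u u' huu'
        have h1 : (u : G) • b = (u' : G) • b := congrArg Subtype.val huu'
        exact Subtype.ext (hFuniq u.1 u.2 u'.1 u'.2 b hba h1)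
      · intro y
        obtain ⟨u, hu, huy⟩ := hFtr b y.1 hba y.2
        exact ⟨⟨u, hu⟩, Subtype.ext huy⟩
    have h1 := Nat.card_congr (Equiv.ofBijective _ hbij)
    have h2 : Fintype.card (Option {y : Ω // y ≠ a}) = Fintype.card Ω :=
      Fintype.card_congr (Equiv.optionSubtypeNe a)
    rw [Fintype.card_option] at h2
    rw [h1, Nat.card_eq_fintype_card]
    omega
  have hcardGa : Nat.card (MulAction.stabilizer G a) = (Fintype.card Ω - 1) * Nat.card H := by
    have h1 := MulAction.index_stabilizer_of_transitive (MulAction.stabilizer G a) b₀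
    have h2 := Subgroup.index_mul_card (MulAction.stabilizer (MulAction.stabilizer G a) b₀)
    have h3s : MulAction.stabilizer (MulAction.stabilizer G a) b₀
        = MulAction.stabilizer (MulAction.stabilizer G a) b := by
      ext x
      rw [MulAction.mem_stabilizer_iff, MulAction.mem_stabilizer_iff]
      constructor
      · intro h
        have h' : (x : G) • (b₀ : Ω) = b₀ := congrArg Subtype.val h
        rw [hb₀] at h'
        exact h'
      · intro h
        apply Subtype.ext
        show (x : G) • (b₀ : Ω) = b₀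
        rw [hb₀]
        exact h
    rw [h1, SubMulAction.nat_card_ofStabilizer_eq, h3s,
      Cfsg.Agent.S0744.card_stabilizer_stabilizer, ← hH, Nat.card_eq_fintype_card (α := Ω)] at h2
    exact h2.symm
  have hcardG0 : Nat.card G = Fintype.card Ω * ((Fintype.card Ω - 1) * Nat.card H) := by
    haveI : MulAction.IsPretransitive G Ω := by
      refine ⟨fun x y => ?_⟩
      by_cases hxy : x = y
      · exact ⟨1, by rw [one_smul, hxy]⟩
      · obtain ⟨g, hg, -⟩ := h2t (a := x) (b := y) (c := y) (d := x) hxy (Ne.symm hxy)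
        exact ⟨g, hg⟩
    have h1 := MulAction.index_stabilizer_of_transitive G a
    have h2 := Subgroup.index_mul_card (MulAction.stabilizer G a)
    rw [h1, hcardGa, Nat.card_eq_fintype_card (α := Ω)] at h2
    exact h2.symm
  -- the additive group of the kernel and the conjugation endomorphisms
  haveI := hFcomm
  letI cF : CommGroup F :=
    { (inferInstance : Group F) with mul_comm := fun x y => mul_comm' x y }
  haveI : Finite (Additive F) := Finite.of_equiv F Additive.ofMul
  let cj : H → AddMonoid.End (Additive F) := fun h =>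
    AddMonoidHom.mk' (fun v : Additive F =>
      Additive.ofMul (⟨(h : G) * ((Additive.toMul v : F) : G) * (h : G)⁻¹,
        hFconj h.1 (hfixH h.1 h.2).1 _ (Additive.toMul v : F).2⟩ : F))
      (by
        intro v w
        apply Additive.toMul.injective
        apply Subtype.ext
        show (h : G) * (((Additive.toMul v : F) : G) * ((Additive.toMul w : F) : G)) * (h : G)⁻¹
          = ((h : G) * ((Additive.toMul v : F) : G) * (h : G)⁻¹)
            * ((h : G) * ((Additive.toMul w : F) : G) * (h : G)⁻¹)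
        group)
  have hcj : ∀ (h : H) (v : Additive F), ((Additive.toMul (cj h v) : F) : G)
      = (h : G) * ((Additive.toMul v : F) : G) * (h : G)⁻¹ := fun _ _ => rfl
  have hcommS : ∀ x ∈ Set.range cj, ∀ y ∈ Set.range cj, x * y = y * x := by
    rintro _ ⟨h, rfl⟩ _ ⟨k, rfl⟩
    apply DFunLike.ext
    intro v
    apply Additive.toMul.injective
    apply Subtype.ext
    show (h : G) * ((k : G) * ((Additive.toMul v : F) : G) * (k : G)⁻¹) * (h : G)⁻¹
      = (k : G) * ((h : G) * ((Additive.toMul v : F) : G) * (h : G)⁻¹) * (k : G)⁻¹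
    have e1 : ∀ x y u : G, x * (y * u * y⁻¹) * x⁻¹ = (x * y) * u * (x * y)⁻¹ := by
      intro x y u
      group
    rw [e1, e1, hHcomm h.1 h.2 k.1 k.2]
  have hirrS : ∀ W : AddSubgroup (Additive F),
      (∀ s ∈ Set.range cj, ∀ w ∈ W, s w ∈ W) → W = ⊥ ∨ W = ⊤ := by
    intro W hW
    by_cases hbot : W = ⊥
    · exact Or.inl hbot
    · right
      obtain ⟨w, hwW, hw0⟩ : ∃ w ∈ W, w ≠ 0 := by
        by_contra hcon
        push_neg at hcon
        apply hbot
        rw [AddSubgroup.eq_bot_iff_forall]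
        exact hcon
      have hu1 : ((Additive.toMul w : F) : G) ≠ 1 := by
        intro h
        apply hw0
        apply Additive.toMul.injective
        apply Subtype.ext
        exact h
      have hub_a : ((Additive.toMul w : F) : G) • b ≠ a :=
        smul_ne_of_fix (hFa _ (Additive.toMul w : F).2) hba
      have hub_b : ((Additive.toMul w : F) : G) • b ≠ b := by
        intro h
        exact hu1 (hFfree _ (Additive.toMul w : F).2 b hba h)
      have h0 : ∀ k : H, (cj k w : Additive F) ≠ 0 := by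
        intro k hk0
        have h1 : (k : G) * ((Additive.toMul w : F) : G) * (k : G)⁻¹ = 1 :=
          congrArg (fun v : Additive F => ((Additive.toMul v : F) : G)) hk0
        apply hu1
        calc ((Additive.toMul w : F) : G)
            = (k : G)⁻¹ * ((k : G) * ((Additive.toMul w : F) : G) * (k : G)⁻¹) * (k : G) := by
              group
          _ = 1 := by rw [h1]; group
      let g : Option H → W := fun o => o.elim 0 (fun h => ⟨cj h w, hW _ ⟨h, rfl⟩ w hwW⟩)
      have hginj : Function.Injective g := by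
        rintro (_ | h) (_ | k) hhk
        · rfl
        · exfalso
          exact h0 k (congrArg Subtype.val hhk).symm
        · exfalso
          exact h0 h (congrArg Subtype.val hhk)
        · have h1 : (h : G) * ((Additive.toMul w : F) : G) * (h : G)⁻¹
              = (k : G) * ((Additive.toMul w : F) : G) * (k : G)⁻¹ :=
            congrArg (fun v : Additive F => ((Additive.toMul v : F) : G))
              (congrArg Subtype.val hhk)
          have e : ((k : G)⁻¹ * (h : G)) * ((Additive.toMul w : F) : G)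
              = ((Additive.toMul w : F) : G) * ((k : G)⁻¹ * (h : G)) := by
            calc ((k : G)⁻¹ * (h : G)) * ((Additive.toMul w : F) : G)
                = (k : G)⁻¹ * ((h : G) * ((Additive.toMul w : F) : G) * (h : G)⁻¹) * (h : G) := by
                  group
              _ = (k : G)⁻¹ * ((k : G) * ((Additive.toMul w : F) : G) * (k : G)⁻¹) * (h : G) := by
                  rw [h1]
              _ = ((Additive.toMul w : F) : G) * ((k : G)⁻¹ * (h : G)) := by group
          have h2 : ((k : G)⁻¹ * (h : G)) • (((Additive.toMul w : F) : G) • b)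
              = ((Additive.toMul w : F) : G) • b := by
            rw [← mul_smul, e, mul_smul, mul_smul, (hfixH h.1 h.2).2,
              inv_smul_eq_iff.mpr (hfixH k.1 k.2).2.symm]
          have hkh : (k : G)⁻¹ * (h : G) ∈ H := H.mul_mem (H.inv_mem k.2) h.2
          have h3' := h3 _ a b (((Additive.toMul w : F) : G) • b) hab hub_b.symm hub_a.symm
            (hfixH _ hkh).1 (hfixH _ hkh).2 h2
          have h4 : (k : G) = (h : G) := inv_mul_eq_one.mp h3'
          exact congrArg some (Subtype.ext h4.symm)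
      have hle : Nat.card H + 1 ≤ Nat.card W := by
        rw [← Finite.card_option]
        exact Nat.card_le_card_of_injective g hginj
      have hdvd : Nat.card W ∣ Nat.card (Additive F) := AddSubgroup.card_addSubgroup_dvd_card W
      have hcardV : Nat.card (Additive F) = 2 * Nat.card H + 1 := by
        rw [← hcardF]
        exact Nat.card_congr Additive.toMul
      apply AddSubgroup.eq_top_of_card_eq
      rw [hcardV]
      rw [hcardV] at hdvd
      obtain ⟨k, hk⟩ := hdvd
      rcases k with _ | _ | k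
      · omega
      · omega
      · exfalso
        have h5 : Nat.card W * 2 ≤ Nat.card W * (k + 1 + 1) := Nat.mul_le_mul_left _ (by omega)
        omega
  -- the base point of the kernel
  obtain ⟨ue, hueF, hue⟩ := hFtr b e hba hea
  have hue1 : ue ≠ 1 := by
    intro h
    rw [h, one_smul] at hue
    exact heb hue.symm
  obtain ⟨K, fK, ftK, ι, hι1, hιadd, hιS⟩ :=
    exists_field_of_irreducible (Set.range cj) hcommS hirrS (Additive.ofMul (⟨ue, hueF⟩ : F))
      (by
        intro h
        apply hue1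
        exact congrArg (fun v : Additive F => ((Additive.toMul v : F) : G)) h)
  have hι0 : ι 0 = 0 := by
    have h1 := hιadd 0 0
    rw [add_zero] at h1
    have h2 : ι 0 + ι 0 = ι 0 + 0 := by rw [add_zero]; exact h1.symm
    exact add_left_cancel h2
  -- coordinates
  obtain ⟨pt, hptdef⟩ : ∃ pt : K → Ω, ∀ x, pt x = ((Additive.toMul (ι x) : F) : G) • b :=
    ⟨_, fun _ => rfl⟩
  have hpt0 : pt 0 = b := by
    rw [hptdef, hι0]
    exact one_smul G b
  have hpt1 : pt 1 = e := by
    rw [hptdef, hι1]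
    exact hue
  have hpt_inj : Function.Injective pt := by
    intro x y hxy
    rw [hptdef, hptdef] at hxy
    have h1 := hFuniq _ (Additive.toMul (ι x) : F).2 _ (Additive.toMul (ι y) : F).2 b hba hxy
    apply ι.injective
    apply Additive.toMul.injective
    exact Subtype.ext h1
  have hpt_ne : ∀ x, pt x ≠ a := by
    intro x
    rw [hptdef]
    exact smul_ne_of_fix (hFa _ (Additive.toMul (ι x) : F).2) hba
  have hpt_surj : ∀ y, y ≠ a → ∃ x, pt x = y := by
    intro y hya
    obtain ⟨u, hu, huy⟩ := hFtr b y hba hya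
    refine ⟨ι.symm (Additive.ofMul (⟨u, hu⟩ : F)), ?_⟩
    rw [hptdef, Equiv.apply_symm_apply]
    exact huy
  have hT : ∀ c : K, ∃ u : G, u • a = a ∧ ∀ x, u • pt x = pt (x + c) := by
    intro c
    refine ⟨((Additive.toMul (ι c) : F) : G), hFa _ (Additive.toMul (ι c) : F).2, ?_⟩
    intro x
    have key : ((Additive.toMul (ι c) : F) : G) * ((Additive.toMul (ι x) : F) : G)
        = ((Additive.toMul (ι x + ι c) : F) : G) := by
      have h1 := mul_comm' (Additive.toMul (ι c) : F) (Additive.toMul (ι x) : F)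
      exact congrArg Subtype.val h1
    rw [hptdef, hptdef, hιadd, ← mul_smul, key]
  have hHB : ∀ h : G, h • a = a → h • pt 0 = pt 0 → ∃ c : K, ∀ x, h • pt x = pt (c * x) := by
    intro h ha h0
    rw [hpt0] at h0
    have hh : h ∈ H := (hHmem h).mpr ⟨ha, h0⟩
    obtain ⟨c, hc⟩ := hιS (cj ⟨h, hh⟩) ⟨⟨h, hh⟩, rfl⟩
    refine ⟨c, fun x => ?_⟩
    rw [hptdef, hptdef, ← hc x]
    show h • ((Additive.toMul (ι x) : F) : G) • b
      = (h * ((Additive.toMul (ι x) : F) : G) * h⁻¹) • b
    rw [mul_smul, mul_smul, inv_smul_eq_iff.mpr h0.symm]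
  have hta' : t • a = pt 0 := by rw [hpt0]; exact hta
  have ht0' : t • pt 0 = a := by rw [hpt0]; exact htb
  have ht1' : t • pt 1 = pt 1 := by rw [hpt1]; exact hte
  have htH' : ∀ h : G, h • a = a → h • pt 0 = pt 0 → t * h * t = h⁻¹ := by
    intro h ha h0
    rw [hpt0] at h0
    exact hinv h ((hHmem h).mpr ⟨ha, h0⟩)
  have hfreeH : ∀ h ∈ H, ∀ z, z ≠ a → z ≠ b → h • z = z → h = 1 := by
    intro h hh z hza hzb hz
    exact h3 h a b z hab hzb.symm hza.symm (hfixH h hh).1 (hfixH h hh).2 hz
  have horb : ∀ x y : Ω, x ≠ a → x ≠ pt 0 → y ≠ a → y ≠ pt 0 →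
      (¬ ∃ h : G, h • a = a ∧ h • pt 0 = pt 0 ∧ h • pt 1 = x) →
      (¬ ∃ h : G, h • a = a ∧ h • pt 0 = pt 0 ∧ h • pt 1 = y) →
      ∃ h : G, h • a = a ∧ h • pt 0 = pt 0 ∧ h • x = y := by
    rw [hpt0, hpt1]
    intro x y hxa hxb hya hyb hx hy
    have hx' : ∀ h ∈ H, h • e ≠ x :=
      fun h hh he => hx ⟨h, (hfixH h hh).1, (hfixH h hh).2, he⟩
    rcases two_orbits_G H hab hfixH hfreeH hn hea heb hxa hxb hx' hya hyb with
      ⟨h, hh, hhe⟩ | ⟨h, hh, hhx⟩
    · exact absurd ⟨h, (hfixH h hh).1, (hfixH h hh).2, hhe⟩ hy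
    · exact ⟨h, (hfixH h hh).1, (hfixH h hh).2, hhx⟩
  have hnonQ : ∃ x : Ω, x ≠ a ∧ x ≠ pt 0 ∧
      ¬ ∃ h : G, h • a = a ∧ h • pt 0 = pt 0 ∧ h • pt 1 = x := by
    rw [hpt0, hpt1]
    obtain ⟨x, hxa, hxb, hx⟩ := exists_not_mem_orbit H hab hfixH hn hea heb
    exact ⟨x, hxa, hxb, fun ⟨h, ha, hb, he⟩ => hx h ((hHmem h).mpr ⟨ha, hb⟩) he⟩
  have hmB : ∃ m : G, m • a = a ∧ m • pt 0 = pt 0 ∧ m ≠ 1 ∧ m * m = 1 := by
    haveI : Fact (Nat.Prime 2) := ⟨Nat.prime_two⟩
    obtain ⟨m, hm⟩ := exists_prime_orderOf_dvd_card' (G := H) 2 heven.two_dvd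
    have hm1 : (m : G) ≠ 1 := by
      intro h
      have h1 : m = 1 := Subtype.ext h
      rw [h1, orderOf_one] at hm
      norm_num at hm
    have hmm : (m : G) * (m : G) = 1 := by
      have h1 := pow_orderOf_eq_one m
      rw [hm, pow_two] at h1
      exact congrArg Subtype.val h1
    refine ⟨m, (hfixH m.1 m.2).1, ?_, hm1, hmm⟩
    rw [hpt0]
    exact (hfixH m.1 m.2).2
  have hcardK : Fintype.card K = 2 * Nat.card H + 1 := by
    rw [← Nat.card_eq_fintype_card, Nat.card_congr ι, Nat.card_congr Additive.toMul, hcardF]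
  have hodd : Odd (Fintype.card K) := ⟨Nat.card H, hcardK⟩
  have hK4 : 4 ≤ Fintype.card K := by omega
  have hcardG : Nat.card G * 2
      = Fintype.card K * (Fintype.card K - 1) * (Fintype.card K + 1) := by
    rw [hcardG0, hcardK, hn]
    have e1 : 2 * Nat.card H + 2 - 1 = 2 * Nat.card H + 1 := by omega
    have e2 : 2 * Nat.card H + 1 - 1 = 2 * Nat.card H := by omega
    rw [e1, e2]
    ring
  have hiso := psl_of_coords h3 hodd hK4 hcardG a pt hpt_inj hpt_ne hpt_surj hT hHB t hta' ht0'
    ht1' htt htH' horb hnonQ hmB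
  refine ⟨p, f, K, fK, ftK, hp, ?_, ?_, hnpf, hiso⟩
  · intro hp2
    rw [hp2] at hnpf
    have h1 : 2 ^ f = 2 * Nat.card H + 1 := by omega
    rcases f with _ | f
    · rw [pow_zero] at h1
      omega
    · rw [pow_succ] at h1
      omega
  · rw [hcardK]
    omega

end Cfsg.Agent.S0742
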