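import Cfsg.Statements.S0350

set_option autoImplicit false
open Cfsg

namespace Cfsg.Agent.S0350

/-- Counting pairs (t-subset, block containing it) in two ways: the number of blocks of a Steiner system with parameters (t, k, v), multiplied by C(k, t), equals C(v, t). -/
theorem result {α : Type*} [Fintype α] [DecidableEq α] {t k : ℕ} {B : Set (Finset α)} (hB : Cfsg.IsSteinerSystem t k B) : B.ncard * Nat.choose k t = Nat.choose (Fintype.card α) t := by
  classical
  obtain ⟨hk, hex⟩ := hB
  have hfin : B.Finite := Set.toFinite B
  set Bf : Finset (Finset α) := hfin.toFinset with hBf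
  have hmem : ∀ b, b ∈ Bf ↔ b ∈ B := fun b => by simp [hBf]
  -- the block of a t-subset
  let f : Finset α → Finset α := fun s =>
    if h : s.card = t then (hex s h).choose else ∅
  have hf : ∀ s (h : s.card = t), f s ∈ B ∧ s ⊆ f s ∧ ∀ b, b ∈ B → s ⊆ b → b = f s := by
    intro s h
    have hspec := (hex s h).choose_spec
    simp only [f, dif_pos h]
    exact ⟨hspec.1.1, hspec.1.2, fun b hb hsb => hspec.2 b ⟨hb, hsb⟩⟩
  have h1 : (Finset.powersetCard t (Finset.univ : Finset α)).card
      = ∑ b ∈ Bf, ((Finset.powersetCard t (Finset.univ : Finset α)).filter fun a => f a = b).card := by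
    apply Finset.card_eq_sum_card_fiberwise
    intro s hs
    rw [Finset.mem_coe, Finset.mem_powersetCard] at hs
    rw [Finset.mem_coe, hmem]
    exact (hf s hs.2).1
  have h2 : ∀ b ∈ Bf, ((Finset.powersetCard t (Finset.univ : Finset α)).filter fun a => f a = b).card
      = Nat.choose k t := by
    intro b hb
    rw [hmem] at hb
    have : ((Finset.powersetCard t (Finset.univ : Finset α)).filter fun a => f a = b)
        = Finset.powersetCard t b := by
      ext s
      simp only [Finset.mem_filter, Finset.mem_powersetCard, Finset.subset_univ, true_and]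
      constructor
      · rintro ⟨hs, hfs⟩
        exact ⟨hfs ▸ (hf s hs).2.1, hs⟩
      · rintro ⟨hsb, hs⟩
        exact ⟨hs, ((hf s hs).2.2 b hb hsb).symm⟩
    rw [this, Finset.card_powersetCard, hk b hb]
  rw [Finset.card_powersetCard, Finset.card_univ, Finset.sum_congr rfl h2, Finset.sum_const,
    smul_eq_mul] at h1
  rw [h1, Set.ncard_eq_toFinset_card B hfin]

end Cfsg.Agent.S0350
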