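import Cfsg.Statements.S0351


set_option autoImplicit false
open Cfsg

namespace Cfsg.Agent.S0351

/-- Derived design: removing a point p from the blocks through p of an S(t+1, k+1, v) yields an S(t, k, v-1) on the points other than p. -/
theorem result {α : Type*} [Fintype α] [DecidableEq α] {t k : ℕ} {B : Set (Finset α)} (hB : Cfsg.IsSteinerSystem (t + 1) (k + 1) B) (p : α) : Cfsg.IsSteinerSystem t k {b' : Finset {a : α // a ≠ p} | ∃ b ∈ B, p ∈ b ∧ b' = Finset.subtype (fun a => a ≠ p) b} := by
  classical
  constructor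
  · rintro b' ⟨b, hb, hpb, rfl⟩
    rw [Finset.card_subtype]
    have : b.filter (fun a => a ≠ p) = b.erase p := by
      ext x
      simp [Finset.mem_erase, and_comm]
    rw [this, Finset.card_erase_of_mem hpb, hB.1 b hb]
    rfl
  · intro s hs
    set S : Finset α := insert p (s.map (Function.Embedding.subtype _)) with hS
    have hpS : p ∉ s.map (Function.Embedding.subtype (fun a => a ≠ p)) := by
      intro h
      rw [Finset.mem_map] at h
      obtain ⟨⟨x, hx⟩, _, hxp⟩ := h
      exact hx hxp
    have hScard : S.card = t + 1 := by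
      rw [hS, Finset.card_insert_of_notMem hpS, Finset.card_map, hs]
    obtain ⟨b, ⟨hbB, hSb⟩, huniq⟩ := hB.2 S hScard
    have hpb : p ∈ b := hSb (Finset.mem_insert_self _ _)
    have hsub : ∀ c : Finset α, (s ⊆ Finset.subtype (fun a => a ≠ p) c) ↔
        s.map (Function.Embedding.subtype (fun a => a ≠ p)) ⊆ c := by
      intro c
      constructor
      · intro h x hx
        rw [Finset.mem_map] at hx
        obtain ⟨y, hy, rfl⟩ := hx
        have := h hy
        rw [Finset.mem_subtype] at this
        exact this
      · intro h y hy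
        rw [Finset.mem_subtype]
        exact h (Finset.mem_map_of_mem _ hy)
    refine ⟨Finset.subtype (fun a => a ≠ p) b, ⟨⟨b, hbB, hpb, rfl⟩, ?_⟩, ?_⟩
    · rw [hsub]
      exact (Finset.subset_insert _ _).trans hSb
    · rintro b'' ⟨⟨b2, hb2, hpb2, rfl⟩, hsb2⟩
      rw [hsub] at hsb2
      have : S ⊆ b2 := by
        rw [hS]
        exact Finset.insert_subset hpb2 hsb2
      rw [huniq b2 ⟨hb2, this⟩]

end Cfsg.Agent.S0351
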