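import Cfsg.Statements.S0371
import Cfsg.Agent.Lib.Helper21.GolayGroup

set_option autoImplicit false
open Cfsg

namespace Cfsg.Agent.S0371

/-- Multiplication by a nonzero square residue modulo 23, fixing the extra point, lies in the group of the length-24 code. -/
theorem result (u : (ZMod 23)ˣ) (hu : IsSquare u) : Equiv.optionCongr (Units.mulLeft u) ∈ Cfsg.M24 := by
  have key : ∀ a : ZMod 23, a ≠ 0 → (∃ r : ZMod 23, a = r * r) → ∀ t : ZMod 23,
      Cfsg.Agent.Lib.Helper21.encMask (Cfsg.Agent.Lib.Helper21.toMask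
        (fun p : Cfsg.GolayPt => Cfsg.qrWord t (Option.map (fun x => a * x) p)) % 4096) =
      Cfsg.Agent.Lib.Helper21.toMask
        (fun p : Cfsg.GolayPt => Cfsg.qrWord t (Option.map (fun x => a * x) p)) := by
    decide +kernel
  apply Cfsg.Agent.Lib.Helper21.mem_M24_of_masks
  intro t
  have hne : (u : ZMod 23) ≠ 0 := by
    intro h
    have h1 := u.mul_inv
    rw [h, zero_mul] at h1
    exact absurd h1 (by decide)
  obtain ⟨r, hr⟩ := hu
  have hsq : ∃ s : ZMod 23, (u : ZMod 23) = s * s := ⟨(r : ZMod 23), by rw [hr]; simp⟩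
  have hw : Cfsg.Agent.Lib.Helper21.precomp (Equiv.optionCongr (Units.mulLeft u)) (Cfsg.qrWord t)
      = fun p : Cfsg.GolayPt => Cfsg.qrWord t (Option.map (fun x => (u : ZMod 23) * x) p) := by
    funext p
    cases p <;> rfl
  rw [hw]
  exact key _ hne hsq t

end Cfsg.Agent.S0371
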