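import Cfsg.Statements.S0387
import Cfsg.Agent.Lib.Helper21.GolayM12Gen

set_option autoImplicit false
open scoped Pointwise
open Cfsg

namespace Cfsg.Agent.S0387

/-- The stabiliser of a dodecad and a point on it has order 7920 = 2^4·3^2·5·11. -/
theorem result (d : Finset Cfsg.GolayPt) (hd : d ∈ Cfsg.dodecads) (p : Cfsg.GolayPt) (hp : p ∈ d) : Nat.card ↥(MulAction.stabilizer Cfsg.M24 d ⊓ MulAction.stabilizer Cfsg.M24 p) = 7920 := by
  have h1 := Cfsg.Agent.Lib.Helper21.card_eq_orbit_mul_card_inf_stabilizer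
    (MulAction.stabilizer Cfsg.M24 d) p
  rw [Cfsg.Agent.Lib.Helper21.card_stabilizer_dodecad d hd] at h1
  have horb : MulAction.orbit (MulAction.stabilizer Cfsg.M24 d) p = ↑d := by
    ext q
    rw [Cfsg.Agent.Lib.Helper21.mem_orbit_subgroup_iff', Finset.mem_coe]
    constructor
    · rintro ⟨g, hg, rfl⟩
      have h2 : g • p ∈ g • d := Finset.smul_mem_smul_finset hp
      rwa [MulAction.mem_stabilizer_iff.1 hg] at h2
    · intro hq
      obtain ⟨g, hg, hgd, hgp⟩ := Cfsg.Agent.Lib.Helper21.dodecad_stab_trans_pt d hd p q hp hq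
      exact ⟨⟨g, hg⟩, hgd, hgp⟩
  have hcard : d.card = 12 := by
    obtain ⟨v, _, _, hc⟩ := (Cfsg.Agent.Lib.Helper21.mem_dodecads_iff d).1 hd
    exact hc
  rw [horb, Set.ncard_coe_finset, hcard] at h1
  omega

end Cfsg.Agent.S0387
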