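import Cfsg.Statements.S0388
import Cfsg.Agent.Lib.Helper9.RestrictSimple
import Cfsg.Agent.Lib.Helper9.PairEmb
import Cfsg.Agent.Lib.Helper21.GolayM12Gen
import Cfsg.Agent.Lib.Helper21.GolayDodecads
import Cfsg.Agent.S0387

set_option autoImplicit false
open scoped Pointwise
open Cfsg

namespace Cfsg.Agent.S0388

/-- The stabiliser of a dodecad and a point on it is simple. -/
theorem result (d : Finset Cfsg.GolayPt) (hd : d ∈ Cfsg.dodecads) (p : Cfsg.GolayPt) (hp : p ∈ d) : IsSimpleGroup ↥(MulAction.stabilizer Cfsg.M24 d ⊓ MulAction.stabilizer Cfsg.M24 p) := by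
  classical
  have : Fact (Nat.Prime 11) := ⟨by norm_num⟩
  set K := MulAction.stabilizer Cfsg.M24 d ⊓ MulAction.stabilizer Cfsg.M24 p with hK
  set H : Subgroup (Equiv.Perm Cfsg.GolayPt) := K.map Cfsg.M24.subtype with hHdef
  let e : K ≃* H := K.equivMapOfInjective Cfsg.M24.subtype Cfsg.M24.subtype_injective
  have hH : ∀ g : Equiv.Perm Cfsg.GolayPt, g ∈ H ↔ g ∈ Cfsg.M24 ∧ g • d = d ∧ g p = p := by
    intro g
    constructor
    · rintro ⟨k, hk, rfl⟩
      exact ⟨k.2, MulAction.mem_stabilizer_iff.1 hk.1, MulAction.mem_stabilizer_iff.1 hk.2⟩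
    · rintro ⟨hg, hgd, hgp⟩
      exact ⟨⟨g, hg⟩, ⟨MulAction.mem_stabilizer_iff.2 hgd, MulAction.mem_stabilizer_iff.2 hgp⟩, rfl⟩
  have hcardK : Nat.card K = 7920 := Cfsg.Agent.S0387.result d hd p hp
  have hcardH : Nat.card H = 11 * 720 := by
    rw [← Nat.card_congr e.toEquiv, hcardK]
  have hdcard : d.card = 12 := by
    obtain ⟨v, _, _, hc⟩ := (Cfsg.Agent.Lib.Helper21.mem_dodecads_iff d).1 hd
    exact hc
  have hEcard : (d.erase p).card = 11 := by
    rw [Finset.card_erase_of_mem hp, hdcard]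
  have hmemd : ∀ g : Equiv.Perm Cfsg.GolayPt, g • d = d → ∀ x, g x ∈ d ↔ x ∈ d :=
    fun g hg x => Cfsg.Agent.Lib.Helper21.apply_mem_iff_of_smul_finset_eq hg x
  have : IsSimpleGroup H := by
    apply Cfsg.Agent.Lib.Helper9.RestrictSimple.simple_of_restrict (p := 11) H
      (d.erase p) hEcard ?_ ?_ ?_ 5 720 (by norm_num) hcardH ?_ (by norm_num)
    · -- invariance
      intro g hg
      obtain ⟨-, hgd, hgp⟩ := (hH g).1 hg
      ext x
      rw [Finset.mem_smul_finset]
      constructor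
      · rintro ⟨y, hy, rfl⟩
        rw [Finset.mem_erase] at hy ⊢
        refine ⟨fun h => hy.1 ?_, (hmemd g hgd y).2 hy.2⟩
        apply g.injective
        rw [hgp]
        exact h
      · intro hx
        rw [Finset.mem_erase] at hx
        refine ⟨g⁻¹ x, ?_, Cfsg.Agent.Lib.Helper21.perm_apply_inv g x⟩
        rw [Finset.mem_erase]
        refine ⟨fun h => hx.1 ?_, ?_⟩
        · rw [← Cfsg.Agent.Lib.Helper21.perm_apply_inv g x, h, hgp]
        · rw [← hmemd g hgd, Cfsg.Agent.Lib.Helper21.perm_apply_inv]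
          exact hx.2
    · -- faithful
      intro g hg hfix
      obtain ⟨hgM, hgd, hgp⟩ := (hH g).1 hg
      have hfixd : ∀ x ∈ d, g x = x := by
        intro x hx
        by_cases hxp : x = p
        · rw [hxp, hgp]
        · exact hfix x (Finset.mem_erase.2 ⟨hxp, hx⟩)
      obtain ⟨f⟩ : Nonempty (Fin 5 ↪ ↥d) := by
        apply Function.Embedding.nonempty_of_card_le
        rw [Fintype.card_fin, Fintype.card_coe, hdcard]
        norm_num
      exact Cfsg.Agent.Lib.Helper21.dodecad_stab_unique d hd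
        (f.trans (Function.Embedding.subtype _)) (fun i => (f i).2) g hgM hgd
        (fun i => hfixd _ (f i).2)
    · -- transitive
      intro x hx y hy
      rw [Finset.mem_erase] at hx hy
      obtain ⟨g, hgM, hgd, hg⟩ := Cfsg.Agent.Lib.Helper21.dodecad_stab_trans (n := 2) (by norm_num)
        d hd
        (Cfsg.Agent.Lib.Helper9.PairEmb.pairEmb p x (Ne.symm hx.1))
        (Cfsg.Agent.Lib.Helper9.PairEmb.pairEmb p y (Ne.symm hy.1))
        (Cfsg.Agent.Lib.Helper9.PairEmb.pairEmb_mem p x _ (· ∈ d) hp hx.2)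
        (Cfsg.Agent.Lib.Helper9.PairEmb.pairEmb_mem p y _ (· ∈ d) hp hy.2)
      exact ⟨g, (hH g).2 ⟨hgM, hgd, hg 0⟩, hg 1⟩
    · -- arithmetic
      intro k hk1 _ hk3
      have hk10 : k ∣ 10 := hk1
      have hle : k ≤ 10 := Nat.le_of_dvd (by norm_num) hk10
      interval_cases k <;> simp_all <;> omega
  exact e.isSimpleGroup

end Cfsg.Agent.S0388
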