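import Cfsg.Statements.S0383
import Cfsg.Agent.Lib.Helper9.PointStabSimple
import Cfsg.Agent.Lib.Helper9.PairEmb
import Cfsg.Agent.Lib.Helper21.GolayM12Gen
import Cfsg.Agent.Lib.Helper21.GolayDodecads
import Cfsg.Agent.S0382
import Cfsg.Agent.S0387
import Cfsg.Agent.S0388

set_option autoImplicit false
open scoped Pointwise
open Cfsg

namespace Cfsg.Agent.S0383

/-- A dodecad stabiliser in the group of the length-24 code is simple. -/
theorem result (d : Finset Cfsg.GolayPt) (hd : d ∈ Cfsg.dodecads) : IsSimpleGroup (MulAction.stabilizer Cfsg.M24 d) := by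
  classical
  have : Fact (Nat.Prime 11) := ⟨by norm_num⟩
  have hdcard : d.card = 12 := by
    obtain ⟨v, _, _, hc⟩ := (Cfsg.Agent.Lib.Helper21.mem_dodecads_iff d).1 hd
    exact hc
  obtain ⟨p, hp⟩ : d.Nonempty := by
    rw [← Finset.card_pos, hdcard]; norm_num
  set G := MulAction.stabilizer Cfsg.M24 d with hG
  set K := MulAction.stabilizer Cfsg.M24 d ⊓ MulAction.stabilizer Cfsg.M24 p with hK
  set H : Subgroup G := K.subgroupOf G with hH
  let e : H ≃* K := Subgroup.subgroupOfEquivOfLe (inf_le_left : K ≤ G)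
  have hKsimple : IsSimpleGroup K := Cfsg.Agent.S0388.result d hd p hp
  have hsimple : IsSimpleGroup H := e.isSimpleGroup
  have hcardG : Nat.card G = 95040 := Cfsg.Agent.S0382.result d hd
  have hcardH : Nat.card H = 7920 := by
    rw [Nat.card_congr e.toEquiv]
    exact Cfsg.Agent.S0387.result d hd p hp
  have hmemH : ∀ x : G, x ∈ H ↔ ((x : Cfsg.M24) : Equiv.Perm Cfsg.GolayPt) p = p := by
    intro x
    rw [hH, Subgroup.mem_subgroupOf, hK, Subgroup.mem_inf, MulAction.mem_stabilizer_iff,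
      MulAction.mem_stabilizer_iff]
    constructor
    · intro h; exact h.2
    · intro h; exact ⟨MulAction.mem_stabilizer_iff.1 x.2, h⟩
  have hGd : ∀ x : G, ((x : Cfsg.M24) : Equiv.Perm Cfsg.GolayPt) • d = d :=
    fun x => MulAction.mem_stabilizer_iff.1 x.2
  have hmemd : ∀ x : G, ∀ y, ((x : Cfsg.M24) : Equiv.Perm Cfsg.GolayPt) y ∈ d ↔ y ∈ d :=
    fun x y => Cfsg.Agent.Lib.Helper21.apply_mem_iff_of_smul_finset_eq (hGd x) y
  apply Cfsg.Agent.Lib.Helper9.PointStabSimple.simple_of_point_stabilizer H hsimple 11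
  · -- index
    have h1 := Subgroup.card_mul_index H
    rw [hcardH, hcardG] at h1
    omega
  · rw [hcardH]; norm_num
  · norm_num
  · norm_num
  · -- double cosets
    intro k g hk hg
    rw [hmemH] at hk hg
    obtain ⟨h₁, h₁M, h₁d, h₁e⟩ := Cfsg.Agent.Lib.Helper21.dodecad_stab_trans (n := 2) (by norm_num)
      d hd
      (Cfsg.Agent.Lib.Helper9.PairEmb.pairEmb p _ (Ne.symm hk))
      (Cfsg.Agent.Lib.Helper9.PairEmb.pairEmb p _ (Ne.symm hg))
      (Cfsg.Agent.Lib.Helper9.PairEmb.pairEmb_mem p _ _ (· ∈ d) hp ((hmemd k p).2 hp))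
      (Cfsg.Agent.Lib.Helper9.PairEmb.pairEmb_mem p _ _ (· ∈ d) hp ((hmemd g p).2 hp))
    have h₁p : h₁ p = p := h₁e 0
    have h₁k : h₁ (((k : Cfsg.M24) : Equiv.Perm Cfsg.GolayPt) p) =
        ((g : Cfsg.M24) : Equiv.Perm Cfsg.GolayPt) p := h₁e 1
    let h₁' : G := ⟨⟨h₁, h₁M⟩, MulAction.mem_stabilizer_iff.2 h₁d⟩
    refine ⟨h₁', (hmemH _).2 h₁p, (h₁' * k)⁻¹ * g, ?_, by group⟩
    rw [hmemH]
    show (h₁ * ((k : Cfsg.M24) : Equiv.Perm Cfsg.GolayPt))⁻¹
      (((g : Cfsg.M24) : Equiv.Perm Cfsg.GolayPt) p) = p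
    rw [← h₁k, ← Equiv.Perm.mul_apply h₁, Cfsg.Agent.Lib.Helper21.perm_inv_apply]
  · -- core-free
    intro N hNn hNH
    rw [eq_bot_iff]
    intro n hn
    rw [Subgroup.mem_bot]
    have hfix : ∀ y ∈ d, ((n : Cfsg.M24) : Equiv.Perm Cfsg.GolayPt) y = y := by
      intro y hy
      obtain ⟨g, hgM, hgd, hgp⟩ := Cfsg.Agent.Lib.Helper21.dodecad_stab_trans_pt d hd p y hp hy
      let g' : G := ⟨⟨g, hgM⟩, MulAction.mem_stabilizer_iff.2 hgd⟩
      have h1 : g'⁻¹ * n * g'⁻¹⁻¹ ∈ N := hNn.conj_mem n hn g'⁻¹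
      have h2 := (hmemH _).1 (hNH h1)
      have h3 : (g⁻¹ * ((n : Cfsg.M24) : Equiv.Perm Cfsg.GolayPt) * g⁻¹⁻¹) p = p := h2
      rw [inv_inv, Equiv.Perm.mul_apply, Equiv.Perm.mul_apply, hgp] at h3
      have h4 := congrArg g h3
      rwa [Cfsg.Agent.Lib.Helper21.perm_apply_inv, hgp] at h4
    obtain ⟨f⟩ : Nonempty (Fin 5 ↪ ↥d) := by
      apply Function.Embedding.nonempty_of_card_le
      rw [Fintype.card_fin, Fintype.card_coe, hdcard]
      norm_num
    have h5 := Cfsg.Agent.Lib.Helper21.dodecad_stab_unique d hd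
      (f.trans (Function.Embedding.subtype _)) (fun i => (f i).2)
      ((n : Cfsg.M24) : Equiv.Perm Cfsg.GolayPt) (n : Cfsg.M24).2 (hGd n)
      (fun i => hfix _ (f i).2)
    apply Subtype.ext
    apply Subtype.ext
    exact h5

end Cfsg.Agent.S0383
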