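import Cfsg.Statements.S0398
import Mathlib
import Cfsg.Agent.Lib.Helper3.Co0Perm
-- import your own Cfsg.Agent.* helpers here

set_option autoImplicit false
open Cfsg

namespace Cfsg.Agent.S0398

open Cfsg.Agent.Lib.Helper3

theorem arith {a b : ℤ} (h : a ^ 2 + 23 * b ^ 2 = 64) : b = 0 ∧ (a = 8 ∨ a = -8) := by
  have hb2 : b ^ 2 ≤ 2 := by nlinarith [sq_nonneg a]
  have hb1 : -1 ≤ b := by nlinarith
  have hb3 : b ≤ 1 := by nlinarith
  have ha1 : -8 ≤ a := by nlinarith [sq_nonneg b]
  have ha2 : a ≤ 8 := by nlinarith [sq_nonneg b]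
  interval_cases b <;> interval_cases a <;> simp_all

theorem key (g : Equiv.Perm leechLattice) (hg : g ∈ Co0)
    (hc : ∀ σ (hσ : σ ∈ M24), g * permL σ hσ = permL σ hσ * g) :
    (∀ v, g v = v) ∨ (∀ v, g v = -v) := by
  set W : GolayPt → GolayPt → ℤ := fun j i => (g (e8 j)).1 i with hW
  have hWσ : ∀ σ (hσ : σ ∈ M24) j i, W (σ j) (σ i) = W j i := by
    intro σ hσ j i
    have h1 := congrArg (fun f : Equiv.Perm leechLattice => f (e8 (σ j))) (hc σ hσ)
    simp only [Equiv.Perm.mul_apply] at h1
    rw [permL_e8] at h1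
    have h2 := congrArg (fun v : leechLattice => v.1 i) h1
    exact h2.symm
  set a : ℤ := W none none with ha
  set b : ℤ := W none (some 0) with hb
  have hdiag : ∀ j, W j j = a := by
    intro j
    obtain ⟨σ, hσ, h⟩ := M24_trans none j
    rw [← h, hWσ σ hσ]
  have hoff : ∀ j i, j ≠ i → W j i = b := by
    intro j i hji
    obtain ⟨σ, hσ, h1, h2⟩ := M24_two_trans (i := some 0) (j := none) (i' := i) (j' := j)
      (by simp) hji
    rw [← h1, ← h2, hWσ σ hσ]
  have hnorm : a ^ 2 + 23 * b ^ 2 = 64 := by
    have h1 : sqNorm (g (e8 none)).1 = sqNorm (e8 none).1 := hg.2 (e8 none)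
    unfold sqNorm at h1
    rw [Fintype.sum_option, Fintype.sum_option] at h1
    have e1 : ∀ t : ZMod 23, (g (e8 none)).1 (some t) = b := fun t => hoff none (some t) (by simp)
    have e2 : ∀ t : ZMod 23, (e8 none).1 (some t) = 0 := fun t => by rw [e8_apply]; simp
    simp only [e1, e2] at h1
    have e3 : (g (e8 none)).1 none = a := rfl
    have e4 : (e8 none).1 none = 8 := by rw [e8_apply]; simp
    rw [e3, e4] at h1
    simp only [Finset.sum_const, Finset.card_univ, ZMod.card, nsmul_eq_mul] at h1
    push_cast at h1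
    linarith
  obtain ⟨hb0, ha8⟩ := arith hnorm
  have hcoord : ∀ (v : leechLattice) (i : GolayPt), 8 * (g v).1 i = a * v.1 i := by
    intro v i
    have h1 : coordHom i (co0Hom g hg ((8 : ℤ) • v)) = coordHom i (co0Hom g hg (∑ j, (v.1 j) • e8 j)) := by
      rw [eight_smul_eq_sum v]
    rw [map_zsmul, map_zsmul, map_sum, map_sum] at h1
    simp only [map_zsmul, coordHom_apply, co0Hom_apply, smul_eq_mul] at h1
    rw [h1, Finset.sum_eq_single i]
    · show v.1 i * W i i = a * v.1 i
      rw [hdiag]; ring
    · intro j _ hj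
      show v.1 j * W j i = 0
      rw [hoff j i hj, hb0]; ring
    · intro h; exact absurd (Finset.mem_univ i) h
  rcases ha8 with h8 | h8
  · left
    intro v
    apply Subtype.ext; funext i
    have := hcoord v i
    rw [h8] at this
    linarith
  · right
    intro v
    apply Subtype.ext; funext i
    have := hcoord v i
    rw [h8] at this
    show (g v).1 i = - v.1 i
    linarith

/-- The centre of the lattice's automorphism group has order 2. -/
theorem result : Nat.card (Subgroup.center Cfsg.Co0) = 2 := by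
  have hnegc : (⟨Equiv.neg leechLattice, neg_mem_Co0⟩ : Co0) ∈ Subgroup.center Co0 := by
    rw [Subgroup.mem_center_iff]
    intro h
    apply Subtype.ext
    apply Equiv.ext
    intro v
    show h.1 (-v) = -(h.1 v)
    exact map_neg (co0Hom h.1 h.2) v
  rw [Nat.card_eq_two_iff]
  refine ⟨1, ⟨⟨Equiv.neg leechLattice, neg_mem_Co0⟩, hnegc⟩, ?_, ?_⟩
  · intro h
    have h1 := congrArg (fun z : Subgroup.center Co0 => ((z : Co0).1 (e8 none)).1 none) h
    simp only [e8_apply] at h1
    norm_num at h1
    have h2 : ((1 : Equiv.Perm leechLattice) (e8 none)).1 none = (-(e8 none)).1 none := h1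
    rw [Equiv.Perm.one_apply] at h2
    have h3 : (-(e8 none)).1 none = -((e8 none).1 none) := rfl
    rw [h3, e8_apply] at h2
    norm_num at h2
  · ext z
    simp only [Set.mem_insert_iff, Set.mem_singleton_iff, Set.mem_univ, iff_true]
    obtain ⟨⟨g, hg⟩, hz⟩ := z
    rw [Subgroup.mem_center_iff] at hz
    have hc : ∀ σ (hσ : σ ∈ M24), g * permL σ hσ = permL σ hσ * g := by
      intro σ hσ
      have h1 := hz ⟨permL σ hσ, permL_mem σ hσ⟩
      have h2 := congrArg Subtype.val h1
      exact h2.symm
    rcases key g hg hc with h | h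
    · left
      apply Subtype.ext; apply Subtype.ext
      apply Equiv.ext
      intro v
      exact h v
    · right
      apply Subtype.ext; apply Subtype.ext
      apply Equiv.ext
      intro v
      exact h v

end Cfsg.Agent.S0398
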