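import Cfsg.Statements.S0399
import Mathlib
import Cfsg.Agent.Lib.Helper3.Co1Core
import Cfsg.Agent.S0398
import Cfsg.Agent.S0397
-- import your own Cfsg.Agent.* helpers here

set_option autoImplicit false
open Cfsg

namespace Cfsg.Agent.S0399

open Cfsg.Agent.Lib.Helper3 Cfsg.Agent.Lib.Helper21

/-- Automorphism group of the lattice modulo its centre is simple of order 4157776806543360000. -/
theorem result : Cfsg.IsCo1 (Cfsg.Co0 ⧸ Subgroup.center Cfsg.Co0) := by
  haveI := finite_Co0
  have hnegZ : negC ∈ Subgroup.center ↥Co0 := by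
    rw [Subgroup.mem_center_iff]
    intro h
    apply Subtype.ext
    apply Equiv.ext
    intro v
    show h.1 (-v) = -(h.1 v)
    exact map_neg (co0Hom h.1 h.2) v
  have hcard : Nat.card (↥Co0 ⧸ Subgroup.center ↥Co0) = 4157776806543360000 := by
    have h1 := Subgroup.card_mul_index (Subgroup.center ↥Co0)
    rw [Cfsg.Agent.S0398.result, Cfsg.Agent.S0397.result] at h1
    show (Subgroup.center ↥Co0).index = _
    omega
  refine ⟨?_, hcard⟩
  haveI : Nontrivial (↥Co0 ⧸ Subgroup.center ↥Co0) := by
    apply (Finite.one_lt_card_iff_nontrivial).1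
    rw [hcard]; norm_num
  refine ⟨fun H hH => ?_⟩
  haveI : (H.comap (QuotientGroup.mk' (Subgroup.center ↥Co0))).Normal := hH.comap _
  have hnegK : negC ∈ H.comap (QuotientGroup.mk' (Subgroup.center ↥Co0)) := by
    show QuotientGroup.mk' (Subgroup.center ↥Co0) negC ∈ H
    have : QuotientGroup.mk' (Subgroup.center ↥Co0) negC = 1 :=
      (QuotientGroup.eq_one_iff negC).2 hnegZ
    rw [this]
    exact H.one_mem
  rcases normal_core (H.comap (QuotientGroup.mk' (Subgroup.center ↥Co0))) hnegK with h | h
  · left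
    rw [Subgroup.eq_bot_iff_forall]
    intro x hx
    obtain ⟨g, rfl⟩ := QuotientGroup.mk'_surjective (Subgroup.center ↥Co0) x
    rcases h g hx with rfl | rfl
    · rfl
    · exact (QuotientGroup.eq_one_iff negC).2 hnegZ
  · right
    rw [eq_top_iff]
    intro x _
    obtain ⟨g, rfl⟩ := QuotientGroup.mk'_surjective (Subgroup.center ↥Co0) x
    have hg : g ∈ H.comap (QuotientGroup.mk' (Subgroup.center ↥Co0)) := by rw [h]; trivial
    exact hg

end Cfsg.Agent.S0399
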