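import Cfsg.Statements.S0412
import Mathlib
import Cfsg.Agent.Lib.Helper18.W24b
import Cfsg.Agent.Lib.Helper21.GolayAutOctads
import Cfsg.Agent.Lib.Helper21.GolaySets
import Cfsg.Agent.S0364
import Cfsg.Agent.S0365
-- import your own Cfsg.Agent.* helpers here

set_option autoImplicit false
open Cfsg

namespace Cfsg.Agent.S0412

/-- Aut of an S(5, 8, 24) is simple of order 244823040 and 5-transitive on points. -/
theorem result {α : Type*} [Fintype α] [DecidableEq α] (hα : Fintype.card α = 24) {B : Set (Finset α)} (hB : Cfsg.IsSteinerSystem 5 8 B) : Cfsg.IsM24 (Cfsg.setSystemAut B) ∧ MulAction.IsMultiplyPretransitive (Cfsg.setSystemAut B) α 5 := by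
  obtain ⟨e, he⟩ := Cfsg.Agent.Lib.Helper18.W23.unique_5_8_24 hα hB
  have ψ := Cfsg.Agent.Lib.Helper18.W23.autCongr e he
  have hM : Cfsg.setSystemAut Cfsg.octads = Cfsg.M24 :=
    Cfsg.Agent.Lib.Helper21.M24_eq_aut_octads.symm
  refine ⟨⟨?_, ?_⟩, ?_⟩
  · haveI : IsSimpleGroup ↥(Cfsg.setSystemAut Cfsg.octads) := by
      rw [hM]
      exact Cfsg.Agent.S0365.result
    exact ψ.isSimpleGroup
  · rw [Nat.card_congr ψ.toEquiv, hM]
    exact Cfsg.Agent.S0364.result
  · apply Cfsg.Agent.Lib.Helper18.W23.pretransitive_congr e he 5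
    rw [MulAction.isMultiplyPretransitive_iff]
    intro x y
    obtain ⟨g, hg, h⟩ := Cfsg.Agent.Lib.Helper21.M24_tuples 5 le_rfl x y
    refine ⟨⟨g, by rw [hM]; exact hg⟩, ?_⟩
    apply Function.Embedding.ext
    intro i
    exact h i

end Cfsg.Agent.S0412
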