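import Mathlib
import Cfsg.Statements.S0427
import Cfsg.Agent.Lib.Helper18.S22Counts2

set_option autoImplicit false
open Cfsg

namespace Cfsg.Agent.S0427

open Cfsg.Agent.Lib.Helper21 Cfsg.Agent.Lib.Helper18.S22

theorem adj_iff {α : Type*} [Fintype α] {B : Set (Finset α)} (hB : IsSteinerSystem 3 6 B)
    (b c : B) :
    (blockGraph B).Adj b c ↔ Disjoint (b : Finset α) (c : Finset α) := by
  classical
  rw [blockGraph, SimpleGraph.fromRel_adj]
  constructor
  · rintro ⟨_, h | h⟩
    · exact h
    · exact h.symm
  · intro h
    refine ⟨?_, Or.inl h⟩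
    rintro rfl
    exact not_disjoint_self hB b.2 h

/-- ncard of a set of blocks (in the subtype) via the finset of blocks -/
theorem ncard_subtype {α : Type*} [Fintype α] [DecidableEq α] {B : Set (Finset α)}
    (P : Finset α → Prop) [DecidablePred P] :
    {d : B | P (d : Finset α)}.ncard = ((blocksFinset B).filter P).card := by
  rw [← ncard_blocks_filter B P]
  rw [← Set.ncard_image_of_injective _ Subtype.val_injective]
  congr 1
  ext d
  simp only [Set.mem_image, Set.mem_setOf_eq, Subtype.exists, exists_and_right, exists_eq_right]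
  constructor
  · rintro ⟨h, hp⟩; exact ⟨h, hp⟩
  · rintro ⟨h, hp⟩; exact ⟨h, hp⟩

/-- The block graph (adjacent = disjoint) of an S(3, 6, 22) is strongly regular with parameters (77, 16, 0, 4). -/
theorem result {α : Type*} [Fintype α] (hα : Fintype.card α = 22) {B : Set (Finset α)} (hB : Cfsg.IsSteinerSystem 3 6 B) [Fintype B] [DecidableRel (Cfsg.blockGraph B).Adj] : (Cfsg.blockGraph B).IsSRGWith 77 16 0 4 := by
  classical
  refine ⟨?_, ?_, ?_, ?_⟩
  · rw [Fintype.card_eq_nat_card, Nat.card_coe_set_eq, ncard_blocks, card_blocks hα hB]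
  · intro b
    rw [← SimpleGraph.card_neighborSet_eq_degree, Fintype.card_eq_nat_card,
      Nat.card_coe_set_eq]
    have : (blockGraph B).neighborSet b = {d : B | Disjoint (b : Finset α) (d : Finset α)} := by
      ext d
      simp only [SimpleGraph.mem_neighborSet, Set.mem_setOf_eq]
      exact adj_iff hB b d
    rw [this, ncard_subtype (fun d => Disjoint (b : Finset α) d), disjoint_count hα hB b.2]
  · intro b c hadj
    rw [Fintype.card_eq_nat_card, Nat.card_coe_set_eq]
    have : (blockGraph B).commonNeighbors b c = ∅ := by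
      ext d
      simp only [SimpleGraph.mem_commonNeighbors, Set.mem_empty_iff_false, iff_false, not_and]
      intro h1 h2
      exact no_three_disjoint hα hB b.2 c.2 d.2 ((adj_iff hB b c).1 hadj)
        ((adj_iff hB b d).1 h1) ((adj_iff hB c d).1 h2)
    rw [this, Set.ncard_empty]
  · intro b c hne hnadj
    rw [Fintype.card_eq_nat_card, Nat.card_coe_set_eq]
    have hne' : (b : Finset α) ≠ c := fun h => hne (Subtype.ext h)
    have h2 : ((b : Finset α) ∩ c).card = 2 := by
      rcases inter_zero_or_two hα hB b.2 c.2 hne' with h | h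
      · exfalso
        apply hnadj
        rw [adj_iff hB, Finset.disjoint_iff_inter_eq_empty, ← Finset.card_eq_zero]
        exact h
      · exact h
    have : (blockGraph B).commonNeighbors b c
        = {d : B | Disjoint (b : Finset α) d ∧ Disjoint (c : Finset α) d} := by
      ext d
      simp only [SimpleGraph.mem_commonNeighbors, Set.mem_setOf_eq, adj_iff hB]
    rw [this, ncard_subtype (fun d => Disjoint (b : Finset α) d ∧ Disjoint (c : Finset α) d),
      common_disjoint_count hα hB b.2 c.2 h2]

end Cfsg.Agent.S0427
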