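import Cfsg.Statements.S0433
import Mathlib
import Cfsg.Agent.Lib.Helper3.Leech
import Cfsg.Agent.Lib.Helper3.Golay
-- import your own Cfsg.Agent.* helpers here

set_option autoImplicit false
open Cfsg

namespace Cfsg.Agent.S0433

/-- Sign changes on the support of a codeword preserve the lattice. -/
theorem result (c : Finset Cfsg.GolayPt) (hc : c ∈ Cfsg.supports (Cfsg.golayCode : Set (Cfsg.GolayPt → ZMod 2))) (x : Cfsg.GolayPt → ℤ) (hx : x ∈ Cfsg.leechLattice) : (fun i => if i ∈ c then -x i else x i) ∈ Cfsg.leechLattice := by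
  classical
  rw [Cfsg.Agent.Lib.Helper3.mem_leechLattice_iff] at hx ⊢
  obtain ⟨m, hm2, hms, hmk⟩ := hx
  refine ⟨m, fun i => ?_, ?_, fun k => ?_⟩
  · have := hm2 i
    show (if i ∈ c then -x i else x i) ≡ m [ZMOD 2]
    split_ifs
    · unfold Int.ModEq at *; omega
    · exact this
  · -- the sum
    set ε : ℤ := m % 2 with hε
    set k₀ : ℤ := 2 + ε with hk₀
    let b : Cfsg.GolayPt → ℤ := fun i => if x i ≡ k₀ [ZMOD 4] then 1 else 0
    have hterm : ∀ i, (4 : ℤ) ∣ x i - (ε + 2 * b i) := by
      intro i
      have := hm2 i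
      simp only [b]
      split_ifs with h
      · unfold Int.ModEq at *; omega
      · unfold Int.ModEq at *; omega
    have hsum1 : (4 : ℤ) ∣ ∑ i ∈ c, (x i - (ε + 2 * b i)) := Finset.dvd_sum (fun i _ => hterm i)
    have hsum2 : ∑ i ∈ c, (ε + 2 * b i) =
        ε * c.card + 2 * ((c ∩ (Finset.univ.filter fun i => x i ≡ k₀ [ZMOD 4])).card : ℤ) := by
      rw [Finset.sum_add_distrib, Finset.sum_const, ← Finset.mul_sum]
      simp only [b]
      rw [Finset.sum_boole, nsmul_eq_mul, mul_comm]
      have hfe : Finset.filter (fun i => x i ≡ k₀ [ZMOD 4]) c =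
          c ∩ (Finset.univ.filter fun i => x i ≡ k₀ [ZMOD 4]) := by
        ext i
        simp
      rw [hfe]
    have h4 : (4 : ℤ) ∣ (c.card : ℤ) := by
      have := Cfsg.Agent.Lib.Helper3.supports_card_dvd hc
      exact_mod_cast this
    have h2 : (2 : ℤ) ∣ ((c ∩ (Finset.univ.filter fun i => x i ≡ k₀ [ZMOD 4])).card : ℤ) := by
      have := Cfsg.Agent.Lib.Helper3.supports_inter_even hc (hmk k₀)
      exact_mod_cast this
    have hc4 : (4 : ℤ) ∣ ∑ i ∈ c, x i := by
      have : ∑ i ∈ c, x i = ∑ i ∈ c, (x i - (ε + 2 * b i)) + ∑ i ∈ c, (ε + 2 * b i) := by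
        rw [← Finset.sum_add_distrib]
        apply Finset.sum_congr rfl
        intro i _
        ring
      rw [this, hsum2]
      obtain ⟨u, hu⟩ := hsum1
      obtain ⟨v, hv⟩ := h4
      obtain ⟨w, hw⟩ := h2
      rw [hu, hv, hw]
      exact ⟨u + ε * v + w, by ring⟩
    have hy : ∑ i, (if i ∈ c then -x i else x i) = ∑ i, x i - 2 * ∑ i ∈ c, x i := by
      have : ∀ i, (if i ∈ c then -x i else x i) = x i - 2 * (if i ∈ c then x i else 0) := by
        intro i
        split_ifs <;> ring
      simp_rw [this]
      rw [Finset.sum_sub_distrib, ← Finset.mul_sum, Finset.sum_ite_mem, Finset.univ_inter]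
    rw [hy]
    obtain ⟨u, hu⟩ := hc4
    rw [hu]
    unfold Int.ModEq at *
    omega
  · by_cases hkm : k ≡ m [ZMOD 2]
    · by_cases hk2 : k ≡ 0 [ZMOD 2]
      · -- even case: same set
        have := hmk k
        convert this using 1
        apply Finset.filter_congr
        intro i _
        have h1 := hm2 i
        show (if i ∈ c then -x i else x i) ≡ k [ZMOD 4] ↔ x i ≡ k [ZMOD 4]
        split_ifs
        · unfold Int.ModEq at *; omega
        · rfl
      · -- odd case: symmetric difference
        have := Cfsg.Agent.Lib.Helper3.supports_symmDiff hc (hmk k)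
        convert this using 1
        ext i
        have h1 := hm2 i
        simp only [Finset.mem_filter, Finset.mem_univ, true_and, Finset.mem_union,
          Finset.mem_sdiff]
        by_cases hic : i ∈ c
        · simp only [hic, if_true, true_and, not_true, and_false, or_false]
          unfold Int.ModEq at *; omega
        · simp only [hic, if_false, false_and, not_false_iff, and_true, false_or]
    · have : (Finset.univ.filter fun i => (if i ∈ c then -x i else x i) ≡ k [ZMOD 4]) = ∅ := by
        apply Finset.filter_false_of_mem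
        intro i _ hik
        apply hkm
        have h1 := hm2 i
        split_ifs at hik
        · unfold Int.ModEq at *; omega
        · unfold Int.ModEq at *; omega
      rw [this]
      exact Cfsg.Agent.S0390.empty_mem

end Cfsg.Agent.S0433
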