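import Cfsg.Statements.S0436
import Mathlib
-- import your own Cfsg.Agent.* helpers here

set_option autoImplicit false
open Cfsg

namespace Cfsg.Agent.S0436

theorem sq_one {G : Type*} [Group G] {E : Set G} (hE : Cfsg.IsThreeTranspositionSet E) {d : G} (hd : d ∈ E) :
    d * d = 1 := by
  have := hE.1 d hd
  rw [← pow_two, ← this, pow_orderOf_eq_one]

theorem inv_eq {G : Type*} [Group G] {E : Set G} (hE : Cfsg.IsThreeTranspositionSet E) {d : G} (hd : d ∈ E) :
    d⁻¹ = d := inv_eq_of_mul_eq_one_left (sq_one hE hd)

/-- two 3-transpositions commute or satisfy the braid relation -/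
theorem comm_or_braid {G : Type*} [Group G] {E : Set G} (hE : Cfsg.IsThreeTranspositionSet E) {d f : G}
    (hd : d ∈ E) (hf : f ∈ E) : Commute d f ∨ d * f * d = f * d * f := by
  rcases hE.2 d hd f hf with h | h
  · left
    -- d f d f = 1
    have h1 : d * f * (d * f) = 1 := by rw [← pow_two]; exact h
    show d * f = f * d
    calc d * f = (d * f * (d * f)) * (d * f)⁻¹ := by group
      _ = f⁻¹ * d⁻¹ := by rw [h1]; group
      _ = f * d := by rw [inv_eq hE hd, inv_eq hE hf]
  · right
    have h1 : d * f * (d * f) * (d * f) = 1 := by rw [← pow_two, ← pow_succ]; exact h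
    calc d * f * d = (d * f * (d * f) * (d * f)) * (f⁻¹ * d⁻¹ * f⁻¹) := by group
      _ = f⁻¹ * d⁻¹ * f⁻¹ := by rw [h1, one_mul]
      _ = f * d * f := by rw [inv_eq hE hd, inv_eq hE hf]

/-- the forward direction of the statement, without the commuting hypothesis on `a b` being distinct used late -/
theorem forward {G : Type*} [Group G] {E : Set G} (hE : Cfsg.IsThreeTranspositionSet E) {a b e : G}
    (ha : a ∈ E) (hb : b ∈ E) (he : e ∈ E) (hab : a ≠ b) (hcomm : Commute a b) (h : Commute e (a * b)) :
    Commute e a ∧ Commute e b := by
  have haa := sq_one hE ha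
  have hbb := sq_one hE hb
  have hee := sq_one hE he
  have hab' : a * b = b * a := hcomm
  have h' : e * (a * b) = a * b * e := h
  -- if e commutes with one of them it commutes with the other
  have key1 : Commute e a → Commute e b := by
    intro hea
    have hea' : e * a = a * e := hea
    show e * b = b * e
    calc e * b = a * (a * (e * b)) := by rw [← mul_assoc a a, haa, one_mul]
      _ = a * (e * (a * b)) := by rw [← mul_assoc a e b, ← hea', mul_assoc]
      _ = a * (a * b * e) := by rw [h']
      _ = b * e := by rw [← mul_assoc, ← mul_assoc, haa, one_mul]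
  have key2 : Commute e b → Commute e a := by
    intro heb
    have heb' : e * b = b * e := heb
    show e * a = a * e
    calc e * a = e * (a * b) * b := by rw [mul_assoc, mul_assoc, hbb, mul_one]
      _ = a * b * e * b := by rw [h']
      _ = a * (b * e) * b := by simp only [mul_assoc]
      _ = a * (e * b) * b := by rw [heb']
      _ = a * e := by rw [mul_assoc, mul_assoc, hbb, mul_one]
  rcases comm_or_braid hE he ha with hea | hea
  · exact ⟨hea, key1 hea⟩
  rcases comm_or_braid hE he hb with heb | heb
  · exact ⟨key2 heb, heb⟩
  -- both braid: derive a = b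
  exfalso
  apply hab
  -- e (a b) e = a b, and e a e = a e a, e b e = b e b
  have h1 : e * (a * b) * e = a * b := by rw [h', mul_assoc, hee, mul_one]
  have h2 : e * (a * b) * e = (e * a * e) * (e * b * e) := by
    calc e * (a * b) * e = e * a * (e * e) * b * e := by rw [hee]; simp only [mul_assoc, mul_one]
      _ = (e * a * e) * (e * b * e) := by simp only [mul_assoc]
  rw [h2, hea, heb] at h1
  -- a e a b e b = a b  ⇒  e (a b) e = 1
  have h3 : e * (a * b) * e = 1 := by
    calc e * (a * b) * e = a * (a * e * a * (b * e * b)) * b := by
          simp only [mul_assoc]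
          rw [← mul_assoc a a, haa, one_mul]
          rw [hbb, mul_one]
      _ = a * (a * b) * b := by rw [h1]
      _ = 1 := by rw [← mul_assoc, haa, one_mul, hbb]
  have h4 : a * b = 1 := by
    calc a * b = e * (e * (a * b) * e) * e := by
          simp only [mul_assoc]; rw [hee, mul_one, ← mul_assoc e e, hee, one_mul]
      _ = 1 := by rw [h3, mul_one, hee]
  calc a = a * b * b := by rw [mul_assoc, hbb, mul_one]
    _ = b := by rw [h4, one_mul]

/-- For distinct commuting members a, b of a set of 3-transpositions E, a member e of E centralises the product a * b if and only if it centralises both a and b. -/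
theorem result {G : Type*} [Group G] {E : Set G} (hE : Cfsg.IsThreeTranspositionSet E) {a b e : G} (ha : a ∈ E) (hb : b ∈ E) (he : e ∈ E) (hab : a ≠ b) (hcomm : Commute a b) : Commute e (a * b) ↔ (Commute e a ∧ Commute e b) := by
  constructor
  · exact forward hE ha hb he hab hcomm
  · rintro ⟨h1, h2⟩
    exact h1.mul_right h2

end Cfsg.Agent.S0436
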