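import Cfsg.Statements.S0437
import Mathlib
import Cfsg.Agent.S0436
-- import your own Cfsg.Agent.* helpers here

set_option autoImplicit false
open Cfsg

namespace Cfsg.Agent.S0437

/-- For three distinct, pairwise commuting members a, b, c of a set of 3-transpositions E, a member e of E centralises a * b * c if and only if it centralises each of a, b and c. -/
theorem result {G : Type*} [Group G] {E : Set G} (hE : Cfsg.IsThreeTranspositionSet E) {a b c e : G} (ha : a ∈ E) (hb : b ∈ E) (hc : c ∈ E) (he : e ∈ E) (hab : a ≠ b) (hac : a ≠ c) (hbc : b ≠ c) (h₁ : Commute a b) (h₂ : Commute a c) (h₃ : Commute b c) : Commute e (a * b * c) ↔ (Commute e a ∧ Commute e b ∧ Commute e c) := by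
  have haa := Cfsg.Agent.S0436.sq_one hE ha
  have hbb := Cfsg.Agent.S0436.sq_one hE hb
  have hcc := Cfsg.Agent.S0436.sq_one hE hc
  have hee := Cfsg.Agent.S0436.sq_one hE he
  have hab' : a * b = b * a := h₁
  have hac' : a * c = c * a := h₂
  have hbc' : b * c = c * b := h₃
  constructor
  · intro h
    have h' : e * (a * b * c) = a * b * c * e := h
    -- Case: e commutes with a ⇒ e commutes with b * c
    have caseA : Commute e a → Commute e a ∧ Commute e b ∧ Commute e c := by
      intro hea
      have hea' : e * a = a * e := hea
      have hbcE : Commute e (b * c) := by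
        show e * (b * c) = b * c * e
        calc e * (b * c) = a * (a * (e * (b * c))) := by rw [← mul_assoc a a, haa, one_mul]
          _ = a * (e * (a * b * c)) := by rw [← mul_assoc a e, ← hea']; simp only [mul_assoc]
          _ = a * (a * b * c * e) := by rw [h']
          _ = b * c * e := by simp only [mul_assoc]; rw [← mul_assoc a a, haa, one_mul]
      have := Cfsg.Agent.S0436.forward hE hb hc he hbc h₃ hbcE
      exact ⟨hea, this.1, this.2⟩
    have caseB : Commute e b → Commute e a ∧ Commute e b ∧ Commute e c := by
      intro heb
      have heb' : e * b = b * e := heb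
      have hacE : Commute e (a * c) := by
        show e * (a * c) = a * c * e
        have e1 : a * b * c = b * (a * c) := by rw [hab']; simp only [mul_assoc]
        calc e * (a * c) = b * (b * (e * (a * c))) := by rw [← mul_assoc b b, hbb, one_mul]
          _ = b * (e * (b * (a * c))) := by rw [← mul_assoc b e, ← heb']; simp only [mul_assoc]
          _ = b * (e * (a * b * c)) := by rw [e1]
          _ = b * (a * b * c * e) := by rw [h']
          _ = b * (b * (a * c) * e) := by rw [e1]
          _ = a * c * e := by simp only [mul_assoc]; rw [← mul_assoc b b, hbb, one_mul]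
      have := Cfsg.Agent.S0436.forward hE ha hc he hac h₂ hacE
      exact ⟨this.1, heb, this.2⟩
    have caseC : Commute e c → Commute e a ∧ Commute e b ∧ Commute e c := by
      intro hec
      have hec' : e * c = c * e := hec
      have habE : Commute e (a * b) := by
        show e * (a * b) = a * b * e
        calc e * (a * b) = e * (a * b * c) * c := by simp only [mul_assoc]; rw [hcc, mul_one]
          _ = a * b * c * e * c := by rw [h']
          _ = a * b * (c * e) * c := by simp only [mul_assoc]
          _ = a * b * (e * c) * c := by rw [hec']
          _ = a * b * e := by simp only [mul_assoc]; rw [hcc, mul_one]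
      have := Cfsg.Agent.S0436.forward hE ha hb he hab h₁ habE
      exact ⟨this.1, this.2, hec⟩
    rcases Cfsg.Agent.S0436.comm_or_braid hE he ha with hea | hea
    · exact caseA hea
    rcases Cfsg.Agent.S0436.comm_or_braid hE he hb with heb | heb
    · exact caseB heb
    rcases Cfsg.Agent.S0436.comm_or_braid hE he hc with hec | hec
    · exact caseC hec
    -- all three braid relations: derive that e commutes with c
    apply caseC
    -- (e a e)(e b e)(e c e) = a b c
    have h1 : (e * a * e) * (e * b * e) * (e * c * e) = a * b * c := by
      calc (e * a * e) * (e * b * e) * (e * c * e)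
          = e * a * (e * e) * b * (e * e) * c * e := by simp only [mul_assoc]
        _ = e * (a * b * c) * e := by rw [hee]; simp only [mul_assoc, mul_one]
        _ = a * b * c := by rw [h', mul_assoc, hee, mul_one]
    rw [hea, heb, hec] at h1
    -- h1 : a e a · b e b · c e c = a b c ; deduce a e c = e
    have h2 : e * (a * b) * e * (b * c) * e = b := by
      calc e * (a * b) * e * (b * c) * e
          = a * ((a * e * a) * (b * e * b) * (c * e * c)) * c := by
            simp only [mul_assoc]
            rw [← mul_assoc a a, haa, one_mul, hcc, mul_one]
        _ = a * (a * b * c) * c := by rw [h1]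
        _ = b := by
            simp only [mul_assoc]
            rw [← mul_assoc a a, haa, one_mul, hcc, mul_one]
    -- (a b) e (b c) = e b e = b e b
    have h3 : a * b * e * (b * c) = b * e * b := by
      calc a * b * e * (b * c) = e * (e * (a * b) * e * (b * c) * e) * e := by
            simp only [mul_assoc]
            rw [hee, mul_one, ← mul_assoc e e, hee, one_mul]
        _ = e * b * e := by rw [h2]
        _ = b * e * b := heb
    -- a e c = e
    have h4 : a * e * c = e := by
      calc a * e * c = b * (a * b * e * (b * c)) * b := by
            simp only [mul_assoc]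
            rw [← hbc', ← mul_assoc b b c, hbb, one_mul]
            rw [← mul_assoc b a, ← hab', mul_assoc a b, ← mul_assoc b b, hbb, one_mul]
        _ = b * (b * e * b) * b := by rw [h3]
        _ = e := by
            simp only [mul_assoc]
            rw [hbb, mul_one, ← mul_assoc b b, hbb, one_mul]
    -- a = e c e
    have hcc' : ∀ x : G, c * (c * x) = x := fun x => by rw [← mul_assoc, hcc, one_mul]
    have hee' : ∀ x : G, e * (e * x) = x := fun x => by rw [← mul_assoc, hee, one_mul]
    have h5 : a = e * c * e := by
      calc a = (a * e * c) * c * e := by simp only [mul_assoc, hcc, hcc', hee, mul_one]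
        _ = e * c * e := by rw [h4]
    -- a commutes with c ⇒ e commutes with c
    show e * c = c * e
    have h6 : (e * c * e) * c = c * (e * c * e) := by rw [← h5]; exact hac'
    rw [hec] at h6
    simp only [mul_assoc, hcc, hcc', mul_one] at h6
    exact h6.symm
  · rintro ⟨k1, k2, k3⟩
    exact (k1.mul_right k2).mul_right k3

end Cfsg.Agent.S0437
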