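import Cfsg.Statements.S0439
import Mathlib
-- import your own Cfsg.Agent.* helpers here

set_option autoImplicit false
open Cfsg

namespace Cfsg.Agent.S0439

theorem aux {α : Type*} [DecidableEq α] [Fintype α] {a b c : α} (ab : a ≠ b) (ac : a ≠ c) :
    (Equiv.swap a b * Equiv.swap a c) ^ 2 = 1 ∨ (Equiv.swap a b * Equiv.swap a c) ^ 3 = 1 := by
  by_cases bc : b = c
  · subst bc
    left
    simp
  · right
    have h := Equiv.Perm.isThreeCycle_swap_mul_swap_same ab ac bc
    rw [← h.orderOf]
    exact pow_orderOf_eq_one _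

/-- In the symmetric group of degree n ≥ 2, the set of transpositions is a conjugacy class of 3-transpositions which generates the group. -/
theorem result (n : ℕ) (hn : 2 ≤ n) : Cfsg.IsThreeTranspositionClass {σ : Equiv.Perm (Fin n) | σ.IsSwap} := by
  refine ⟨⟨?_, ?_⟩, ?_, ?_⟩
  · intro d hd
    exact Equiv.Perm.IsSwap.orderOf hd
  · rintro d ⟨a, b, ab, rfl⟩ e ⟨c, d', cd, rfl⟩
    by_cases ac : a = c
    · subst ac
      exact aux ab cd
    by_cases ad : a = d'
    · subst ad
      rw [Equiv.swap_comm c a]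
      exact aux ab (Ne.symm cd)
    by_cases bc : b = c
    · subst bc
      rw [Equiv.swap_comm a b]
      exact aux (Ne.symm ab) cd
    by_cases bd : b = d'
    · subst bd
      rw [Equiv.swap_comm a b, Equiv.swap_comm c b]
      exact aux (Ne.symm ab) (Ne.symm cd)
    left
    have hdis : Equiv.Perm.Disjoint (Equiv.swap a b) (Equiv.swap c d') := by
      apply Equiv.Perm.disjoint_swap_swap
      simp [ab, ac, ad, bc, bd, cd]
    rw [hdis.commute.mul_pow]
    simp [sq]
  · have h0 : (⟨0, by omega⟩ : Fin n) ≠ ⟨1, by omega⟩ := by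
      intro h
      have := congrArg Fin.val h
      simp at this
    refine ⟨Equiv.swap ⟨0, by omega⟩ ⟨1, by omega⟩, ⟨_, _, h0, rfl⟩, ?_⟩
    ext σ
    change σ.IsSwap ↔ IsConj _ σ
    constructor
    · rintro ⟨a, b, ab, rfl⟩
      exact Equiv.Perm.isConj_swap h0 ab
    · intro h
      rw [isConj_iff] at h
      obtain ⟨c, hc⟩ := h
      rw [← hc, ← Equiv.swap_apply_apply]
      exact ⟨_, _, fun h => h0 (c.injective h), rfl⟩
  · exact Equiv.Perm.closure_isSwap

end Cfsg.Agent.S0439
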