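import Cfsg.Statements.S0440
import Mathlib
import Cfsg.Agent.Lib.Helper27.SympRankOne

set_option autoImplicit false
open Cfsg

namespace Cfsg.Agent.S0440

open Matrix Cfsg.Agent.Lib.Helper27.SympTransv

instance : Fact (Nat.Prime 2) := ⟨Nat.prime_two⟩

theorem zmod2_cases : ∀ a : ZMod 2, a = 0 ∨ a = 1 := by decide

theorem mem_D_iff {n : ℕ} (g : Matrix.symplecticGroup (Fin n) (ZMod 2)) :
    ((g : Matrix (Fin n ⊕ Fin n) (Fin n ⊕ Fin n) (ZMod 2)) - 1).rank = 1 ↔
      ∃ w : Fin n ⊕ Fin n → ZMod 2, w ≠ 0 ∧ g = tv w 1 := by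
  rw [rank_sub_one_eq_one_iff]
  constructor
  · rintro ⟨w, c, hw, hc, rfl⟩
    rcases zmod2_cases c with h | h
    · exact absurd h hc
    · exact ⟨w, hw, by rw [h]⟩
  · rintro ⟨w, hw, rfl⟩
    exact ⟨w, 1, hw, one_ne_zero, rfl⟩

theorem tv_sq {n : ℕ} (w : Fin n ⊕ Fin n → ZMod 2) : tv w (1 : ZMod 2) * tv w 1 = 1 := by
  rw [tv_mul]
  have : (1 : ZMod 2) + 1 = 0 := by decide
  rw [this, tv_zero_right]

theorem tv_inv' {n : ℕ} (w : Fin n ⊕ Fin n → ZMod 2) : (tv w (1 : ZMod 2))⁻¹ = tv w 1 :=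
  inv_eq_of_mul_eq_one_right (tv_sq w)

theorem orderOf_tv {n : ℕ} (w : Fin n ⊕ Fin n → ZMod 2) (hw : w ≠ 0) :
    orderOf (tv w (1 : ZMod 2)) = 2 := by
  apply orderOf_eq_prime
  · rw [pow_two]
    exact tv_sq w
  · exact tv_ne_one w hw 1 one_ne_zero

theorem prod_rel {n : ℕ} (u v : Fin n ⊕ Fin n → ZMod 2) :
    (tv u (1 : ZMod 2) * tv v 1) ^ 2 = 1 ∨ (tv u (1 : ZMod 2) * tv v 1) ^ 3 = 1 := by
  set a := tv u (1 : ZMod 2) with ha
  set b := tv v (1 : ZMod 2) with hb
  have haa : a * a = 1 := tv_sq u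
  have hbb : b * b = 1 := tv_sq v
  rcases zmod2_cases (sympForm n (ZMod 2) u v) with h | h
  · left
    have hcomm : a * b = b * a := tv_comm_of_perp u v h 1 1
    calc (a * b) ^ 2 = a * (b * a) * b := by rw [pow_two]; group
      _ = a * (a * b) * b := by rw [hcomm]
      _ = (a * a) * (b * b) := by group
      _ = 1 := by rw [haa, hbb, one_mul]
  · right
    have hvu : sympForm n (ZMod 2) v u = 1 := by
      rw [sf_swap, h]
      decide
    have h1 : a * b * a = tv (u + v) 1 := by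
      have := conj_tv a v (1 : ZMod 2)
      rw [ha, tv_inv', ← ha, act_tv, one_mul, hvu, one_smul, add_comm] at this
      exact this
    have h2 : b * a * b = tv (u + v) 1 := by
      have := conj_tv b u (1 : ZMod 2)
      rw [hb, tv_inv', ← hb, act_tv, one_mul, h, one_smul] at this
      exact this
    calc (a * b) ^ 3 = (a * b * a) * (b * a * b) := by rw [pow_succ, pow_two]; group
      _ = tv (u + v) 1 * tv (u + v) 1 := by rw [h1, h2]
      _ = 1 := tv_sq _

theorem result (n : ℕ) (hn : 1 ≤ n) : Cfsg.IsThreeTranspositionClass {g : Matrix.symplecticGroup (Fin n) (ZMod 2) | ((g : Matrix (Fin n ⊕ Fin n) (Fin n ⊕ Fin n) (ZMod 2)) - 1).rank = 1} := by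
  refine ⟨⟨?_, ?_⟩, ?_, ?_⟩
  · intro d hd
    obtain ⟨w, hw, rfl⟩ := (mem_D_iff d).mp hd
    exact orderOf_tv w hw
  · intro d hd e he
    obtain ⟨u, -, rfl⟩ := (mem_D_iff d).mp hd
    obtain ⟨v, -, rfl⟩ := (mem_D_iff e).mp he
    exact prod_rel u v
  · set e : Fin n ⊕ Fin n → ZMod 2 := Pi.single (Sum.inl ⟨0, by omega⟩) 1 with he
    have he0 : e ≠ 0 := by
      intro h
      have := congrFun h (Sum.inl ⟨0, by omega⟩)
      simp [he] at this
    refine ⟨tv e 1, (mem_D_iff _).mpr ⟨e, he0, rfl⟩, ?_⟩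
    ext g
    change ((g : Matrix (Fin n ⊕ Fin n) (Fin n ⊕ Fin n) (ZMod 2)) - 1).rank = 1 ↔ IsConj (tv e 1) g
    rw [mem_D_iff, isConj_iff]
    constructor
    · rintro ⟨w, hw, rfl⟩
      obtain ⟨A, -, hA⟩ := trans1 (⊤ : Submodule (ZMod 2) (Fin n ⊕ Fin n → ZMod 2)) nondegOn_top
        e w Submodule.mem_top Submodule.mem_top he0 hw
      exact ⟨A, by rw [conj_tv, hA]⟩
    · rintro ⟨c, rfl⟩
      refine ⟨act c e, ?_, conj_tv c e 1⟩
      intro h0
      apply he0
      have := act_inv_act c e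
      rw [h0, act_zero] at this
      exact this.symm
  · apply eq_top_of_tv_mem
    intro w c
    rcases zmod2_cases c with h | h
    · rw [h, tv_zero_right]
      exact one_mem _
    · by_cases hw : w = 0
      · rw [hw, tv_zero_left]
        exact one_mem _
      · apply Subgroup.subset_closure
        change ((tv w c : Matrix.symplecticGroup (Fin n) (ZMod 2)).1 - 1).rank = 1
        rw [mem_D_iff]
        exact ⟨w, hw, by rw [h]⟩

end Cfsg.Agent.S0440
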