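import Cfsg.Statements.S0442
import Mathlib
-- import your own Cfsg.Agent.* helpers here

set_option autoImplicit false
open Cfsg

namespace Cfsg.Agent.S0442

/-- A standard trick for producing elements of an involution centraliser: for an involution a and an element g, let b be the conjugate g⁻¹ * a * g. If a * b has odd order 2m + 1 then g * (a * b) ^ m commutes with a; if a * b has even order 2m then (a * b) ^ m and (a * (g * a * g⁻¹)) ^ m commute with a. -/
theorem result {G : Type*} [Group G] (a g : G) (ha : orderOf a = 2) : (∀ m : ℕ, orderOf (a * (g⁻¹ * a * g)) = 2 * m + 1 → Commute (g * (a * (g⁻¹ * a * g)) ^ m) a) ∧ (∀ m : ℕ, orderOf (a * (g⁻¹ * a * g)) = 2 * m → Commute ((a * (g⁻¹ * a * g)) ^ m) a ∧ Commute ((a * (g * a * g⁻¹)) ^ m) a) := by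
  have haa : a * a = 1 := by rw [← pow_two, ← ha, pow_orderOf_eq_one]
  have hainv : a⁻¹ = a := inv_eq_of_mul_eq_one_left haa
  -- general facts for u = a * b with b an involution conjugate
  have conjinv : ∀ b : G, b * b = 1 → a * (a * b) * a = (a * b)⁻¹ := by
    intro b hbb
    have hbinv : b⁻¹ = b := inv_eq_of_mul_eq_one_left hbb
    rw [mul_inv_rev, hainv, hbinv, ← mul_assoc a a, haa, one_mul]
  have conjpow : ∀ (b : G) (m : ℕ), b * b = 1 → a * (a * b) ^ m * a = ((a * b)⁻¹) ^ m := by
    intro b m hbb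
    have h1 : a * (a * b) * a⁻¹ = (a * b)⁻¹ := by rw [hainv]; exact conjinv b hbb
    have h2 := conj_pow (a := a) (b := a * b) (i := m)
    rw [h1, hainv] at h2
    exact h2.symm
  have hbb : (g⁻¹ * a * g) * (g⁻¹ * a * g) = 1 := by
    calc (g⁻¹ * a * g) * (g⁻¹ * a * g) = g⁻¹ * (a * a) * g := by group
      _ = 1 := by rw [haa]; group
  have hbb' : (g * a * g⁻¹) * (g * a * g⁻¹) = 1 := by
    calc (g * a * g⁻¹) * (g * a * g⁻¹) = g * (a * a) * g⁻¹ := by group
      _ = 1 := by rw [haa]; group
  constructor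
  · intro m hord
    set u := a * (g⁻¹ * a * g) with hu
    have hpow : u ^ (2 * m + 1) = 1 := by rw [← hord]; exact pow_orderOf_eq_one u
    have key : (u⁻¹) ^ m = u ^ (m + 1) := by
      have h1 : u ^ (m + 1) * u ^ m = 1 := by
        rw [← pow_add]
        have : m + 1 + m = 2 * m + 1 := by ring
        rw [this]; exact hpow
      rw [inv_pow]
      exact (eq_inv_of_mul_eq_one_left h1).symm
    have hau : a * u = g⁻¹ * a * g := by
      rw [hu, ← mul_assoc, haa, one_mul]
    show g * u ^ m * a = a * (g * u ^ m)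
    calc g * u ^ m * a = g * (a * (a * u ^ m * a)) := by
          simp only [mul_assoc]; rw [← mul_assoc a a, haa, one_mul]
      _ = g * (a * (u⁻¹) ^ m) := by rw [conjpow _ m hbb]
      _ = g * (a * u ^ (m + 1)) := by rw [key]
      _ = g * (a * u) * u ^ m := by rw [pow_succ']; simp only [mul_assoc]
      _ = g * (g⁻¹ * a * g) * u ^ m := by rw [hau]
      _ = a * (g * u ^ m) := by group
  · intro m hord
    -- helper: an element w = a * b (b involution) with w^(2m) = 1 has w^m commuting with a
    have hcomm : ∀ b : G, b * b = 1 → (a * b) ^ (2 * m) = 1 → Commute ((a * b) ^ m) a := by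
      intro b hb hw
      have key : ((a * b)⁻¹) ^ m = (a * b) ^ m := by
        have h1 : (a * b) ^ m * (a * b) ^ m = 1 := by rw [← pow_add, ← two_mul]; exact hw
        rw [inv_pow]
        exact (eq_inv_of_mul_eq_one_left h1).symm
      show (a * b) ^ m * a = a * (a * b) ^ m
      calc (a * b) ^ m * a = a * (a * (a * b) ^ m * a) := by
            simp only [mul_assoc]; rw [← mul_assoc a a, haa, one_mul]
        _ = a * ((a * b)⁻¹) ^ m := by rw [conjpow b m hb]
        _ = a * (a * b) ^ m := by rw [key]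
    have hpow : (a * (g⁻¹ * a * g)) ^ (2 * m) = 1 := by rw [← hord]; exact pow_orderOf_eq_one _
    refine ⟨hcomm _ hbb hpow, hcomm _ hbb' ?_⟩
    -- a * (g a g⁻¹) = g * (a * (g⁻¹ a g))⁻¹ * g⁻¹
    have hv : a * (g * a * g⁻¹) = g * (a * (g⁻¹ * a * g))⁻¹ * g⁻¹ := by
      rw [mul_inv_rev, mul_inv_rev, mul_inv_rev, hainv]; group
    rw [hv, conj_pow, inv_pow, hpow]
    group

end Cfsg.Agent.S0442
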