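import Cfsg.Statements.S0443
import Mathlib
-- import your own Cfsg.Agent.* helpers here

set_option autoImplicit false
open Cfsg

namespace Cfsg.Agent.S0443

/-- Two definitions of a 2-central involution agree: an element t of order 2 of a finite group lies in the centre of some Sylow 2-subgroup if and only if its centraliser contains some Sylow 2-subgroup. -/
theorem result {G : Type*} [Group G] [Finite G] (t : G) (ht : orderOf t = 2) : Cfsg.IsTwoCentralInvolution t ↔ ∃ P : Sylow 2 G, (P : Subgroup G) ≤ Subgroup.centralizer ({t} : Set G) := by
  haveI : Fact (Nat.Prime 2) := ⟨Nat.prime_two⟩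
  constructor
  · rintro ⟨_, P, htP, hP⟩
    refine ⟨P, fun x hx => ?_⟩
    rw [Subgroup.mem_centralizer_iff]
    intro y hy
    rw [Set.mem_singleton_iff] at hy
    subst hy
    exact (hP x hx).symm
  · rintro ⟨P, hP⟩
    refine ⟨ht, P, ?_, ?_⟩
    · have hcomm : ∀ x ∈ P, x * t = t * x := by
        intro x hx
        have := hP hx
        rw [Subgroup.mem_centralizer_iff] at this
        exact (this t rfl).symm
      have hz : IsPGroup 2 (Subgroup.zpowers t) := by
        rw [IsPGroup.iff_card]
        refine ⟨1, ?_⟩
        rw [Nat.card_zpowers, ht, pow_one]
      have hnorm : Subgroup.zpowers t ≤ Subgroup.normalizer ((P : Subgroup G) : Set G) := by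
        rw [Subgroup.zpowers_le]
        rw [Subgroup.mem_normalizer_iff]
        intro h
        have e : t⁻¹ = t := by
          have : t ^ 2 = 1 := by rw [← ht]; exact pow_orderOf_eq_one t
          rw [inv_eq_iff_mul_eq_one, ← sq]; exact this
        constructor
        · intro hh
          have := hcomm h hh
          rw [e, ← this, mul_assoc]
          have : t * t = 1 := by rw [← sq, ← ht]; exact pow_orderOf_eq_one t
          rw [this, mul_one]; exact hh
        · intro hh
          have h2 : t * t = 1 := by rw [← sq, ← ht]; exact pow_orderOf_eq_one t
          rw [e] at hh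
          have h3 := hcomm _ hh
          have : h = t * (t * h * t) * t := by
            simp only [mul_assoc, h2, mul_one]
            rw [← mul_assoc, h2, one_mul]
          have h4 : t * (t * h * t) * t = (t * h * t) := by
            rw [← h3, mul_assoc, h2, mul_one]
          rw [this, h4]; exact hh
      have hsup := IsPGroup.to_sup_of_normal_right' hz P.isPGroup' hnorm
      have := P.is_maximal' hsup le_sup_right
      have : t ∈ Subgroup.zpowers t ⊔ (P : Subgroup G) :=
        (le_sup_left : Subgroup.zpowers t ≤ _) (Subgroup.mem_zpowers t)
      rw [‹Subgroup.zpowers t ⊔ (P : Subgroup G) = P›] at this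
      exact this
    · intro x hx
      have := hP hx
      rw [Subgroup.mem_centralizer_iff] at this
      exact (this t rfl).symm

end Cfsg.Agent.S0443
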