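import Cfsg.Statements.S0444
import Mathlib
import Cfsg.Agent.Lib.Helper3.S3
-- import your own Cfsg.Agent.* helpers here

set_option autoImplicit false
open Cfsg

namespace Cfsg.Agent.S0444

/-- Two members of a set of 3-transpositions which do not commute generate a subgroup isomorphic to the symmetric group on three letters. -/
theorem result {G : Type*} [Group G] {E : Set G} (hE : Cfsg.IsThreeTranspositionSet E) {d e : G} (hd : d ∈ E) (he : e ∈ E) (h : ¬ Commute d e) : Nonempty (Subgroup.closure ({d, e} : Set G) ≃* Equiv.Perm (Fin 3)) := by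
  have hdd : d * d = 1 := by
    have := hE.1 d hd
    rw [← pow_two, ← this, pow_orderOf_eq_one]
  have hee : e * e = 1 := by
    have := hE.1 e he
    rw [← pow_two, ← this, pow_orderOf_eq_one]
  have hne : d * e ≠ e * d := fun hh => h hh
  have hc : (d * e) ^ 3 = 1 := by
    rcases hE.2 d hd e he with h2 | h3
    · exfalso
      apply hne
      have h1 : d * e * (d * e) = 1 := by rw [← pow_two]; exact h2
      have hdi : d⁻¹ = d := inv_eq_of_mul_eq_one_left hdd
      have hei : e⁻¹ = e := inv_eq_of_mul_eq_one_left hee
      calc d * e = (d * e * (d * e)) * (d * e)⁻¹ := by group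
        _ = e⁻¹ * d⁻¹ := by rw [h1]; group
        _ = e * d := by rw [hdi, hei]
    · exact h3
  exact Cfsg.Agent.Lib.Helper3.nonempty_mulEquiv_perm_fin_three hdd hee hc hne

end Cfsg.Agent.S0444
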