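import Cfsg.Statements.S0445
import Cfsg.Agent.S0242
import Mathlib

set_option autoImplicit false
open Cfsg
open Matrix

namespace Cfsg.Agent.S0445

theorem det_of_col_zero {n : ℕ} {R : Type*} [CommRing R] (M : Matrix (Fin (n+1)) (Fin (n+1)) R)
    (h : ∀ i : Fin n, M i.succ 0 = 0) : M.det = M 0 0 * (M.submatrix Fin.succ Fin.succ).det := by
  rw [Matrix.det_succ_column_zero, Fin.sum_univ_succ]
  simp [h]

theorem det_of_row_zero {n : ℕ} {R : Type*} [CommRing R] (M : Matrix (Fin (n+1)) (Fin (n+1)) R)
    (h : ∀ j : Fin n, M 0 j.succ = 0) : M.det = M 0 0 * (M.submatrix Fin.succ Fin.succ).det := by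
  rw [Matrix.det_succ_row_zero, Fin.sum_univ_succ]
  simp [h]

/-- the field with two elements. -/
abbrev F := ZMod 2

/-- the general element of the centralizer. -/
def build (x : Fin 4 → F) (y : Fin 3 → F) (B : Matrix (Fin 3) (Fin 3) F) :
    Matrix (Fin 5) (Fin 5) F :=
  !![1, x 0, x 1, x 2, x 3;
     0, 1, 0, 0, 0;
     0, y 0, B 0 0, B 0 1, B 0 2;
     0, y 1, B 1 0, B 1 1, B 1 2;
     0, y 2, B 2 0, B 2 1, B 2 2]

theorem det_build (x : Fin 4 → F) (y : Fin 3 → F) (B : Matrix (Fin 3) (Fin 3) F) :
    (build x y B).det = B.det := by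
  rw [det_of_col_zero _ (by intro i; fin_cases i <;> rfl),
    det_of_row_zero _ (by intro j; fin_cases j <;> rfl)]
  have h1 : build x y B 0 0 = 1 := rfl
  have h2 : (build x y B).submatrix Fin.succ Fin.succ 0 0 = 1 := rfl
  rw [h1, h2, one_mul, one_mul]
  congr 1
  ext i j
  fin_cases i <;> fin_cases j <;> rfl

theorem commute_single_iff (M : Matrix (Fin 5) (Fin 5) F) :
    Commute (single (0 : Fin 5) (1 : Fin 5) (1 : F)) M ↔
      (∀ k : Fin 5, k ≠ 0 → M k 0 = 0) ∧ (∀ k : Fin 5, k ≠ 1 → M 1 k = 0) ∧ M 0 0 = M 1 1 := by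
  constructor
  · intro h
    exact ⟨fun k hk => col_eq_zero_of_commute_single h hk,
      fun k hk => row_eq_zero_of_commute_single h hk, diag_eq_of_commute_single h⟩
  · rintro ⟨h1, h2, h3⟩
    show _ * _ = _ * _
    ext a b
    by_cases ha : a = 0
    · subst ha
      by_cases hb : b = 1
      · subst hb
        simp [h3]
      · simp [hb, h2 b hb]
    · by_cases hb : b = 1
      · subst hb
        simp [ha, h1 a ha]
      · simp [ha, hb]

theorem zmod2_eq_one {a : ZMod 2} (h : a ≠ 0) : a = 1 := by
  fin_cases a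
  · exact absurd rfl h
  · rfl

/-- the lower right block. -/
def blockB (M : Matrix (Fin 5) (Fin 5) F) : Matrix (Fin 3) (Fin 3) F :=
  (M.submatrix Fin.succ Fin.succ).submatrix Fin.succ Fin.succ

theorem structure_of_commute (M : Matrix (Fin 5) (Fin 5) F) (hdet : M.det = 1)
    (hM : Commute (single (0 : Fin 5) (1 : Fin 5) (1 : F)) M) :
    (blockB M).det = 1 ∧
      M = build (fun j => M 0 j.succ) (fun i => M i.succ.succ 1) (blockB M) := by
  obtain ⟨h1, h2, h3⟩ := (commute_single_iff M).1 hM
  have hd : M.det = M 0 0 * (M 1 1 * (blockB M).det) := by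
    rw [det_of_col_zero M (fun i => h1 _ (Fin.succ_ne_zero i)),
      det_of_row_zero _ (fun j => by
        show M (Fin.succ 0) (Fin.succ (Fin.succ j)) = 0
        apply h2
        intro h
        have := congrArg Fin.val h
        simp at this)]
    rfl
  rw [hdet] at hd
  have h00 : M 0 0 = 1 := by
    apply zmod2_eq_one
    intro h
    rw [h, zero_mul] at hd
    exact one_ne_zero hd
  have h11 : M 1 1 = 1 := by rw [← h3, h00]
  rw [h00, h11, one_mul, one_mul] at hd
  refine ⟨hd.symm, ?_⟩
  have e10 : M 1 0 = 0 := h1 1 (by decide)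
  have e20 : M 2 0 = 0 := h1 2 (by decide)
  have e30 : M 3 0 = 0 := h1 3 (by decide)
  have e40 : M 4 0 = 0 := h1 4 (by decide)
  have e12 : M 1 2 = 0 := h2 2 (by decide)
  have e13 : M 1 3 = 0 := h2 3 (by decide)
  have e14 : M 1 4 = 0 := h2 4 (by decide)
  ext i j
  fin_cases i <;> fin_cases j <;>
    first
    | exact h00
    | exact h11
    | exact e10
    | exact e20
    | exact e30
    | exact e40
    | exact e12
    | exact e13
    | exact e14
    | rfl

theorem card_SL3 : Nat.card (Matrix.SpecialLinearGroup (Fin 3) F) = 168 := by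
  have h := Cfsg.Agent.S0242.result (F := F) (q := 2) (ZMod.card 2) 3 (by norm_num)
  rw [Fin.prod_univ_three] at h
  have h2 : (2 ^ 3 - 2 ^ ((0 : Fin 3) : ℕ)) * (2 ^ 3 - 2 ^ ((1 : Fin 3) : ℕ)) *
      (2 ^ 3 - 2 ^ ((2 : Fin 3) : ℕ)) = 168 := rfl
  rw [h2] at h
  omega

/-- In the special linear group of dimension 5 over the field with two elements, the centraliser of a transvection has order 21504 = 2 ^ 7 · 168 (it is an extension of an extraspecial group of order 2 ^ 7 by the simple group of order 168). -/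
theorem result (s : Matrix.SpecialLinearGroup (Fin 5) (ZMod 2)) (hs : (s : Matrix (Fin 5) (Fin 5) (ZMod 2)) = Matrix.transvection 0 1 1) : Nat.card (Subgroup.centralizer ({s} : Set (Matrix.SpecialLinearGroup (Fin 5) (ZMod 2)))) = 21504 := by
  have mem_iff : ∀ g : Matrix.SpecialLinearGroup (Fin 5) (ZMod 2),
      g ∈ Subgroup.centralizer ({s} : Set (Matrix.SpecialLinearGroup (Fin 5) (ZMod 2))) ↔
        Commute (single (0 : Fin 5) (1 : Fin 5) (1 : F)) g.1 := by
    intro g
    rw [Subgroup.mem_centralizer_iff]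
    simp only [Set.mem_singleton_iff, forall_eq]
    constructor
    · intro h
      have this : (s.1 : Matrix (Fin 5) (Fin 5) (ZMod 2)) * g.1 = g.1 * s.1 :=
        congrArg Subtype.val h
      rw [show s.1 = transvection 0 1 1 from hs, transvection, add_mul,
        mul_add, one_mul, mul_one] at this
      exact add_left_cancel this
    · intro h
      apply Subtype.ext
      show (s.1 : Matrix (Fin 5) (Fin 5) (ZMod 2)) * g.1 = g.1 * s.1
      rw [show s.1 = transvection 0 1 1 from hs, transvection, add_mul,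
        mul_add, one_mul, mul_one, h.eq]
  let C := Subgroup.centralizer ({s} : Set (Matrix.SpecialLinearGroup (Fin 5) (ZMod 2)))
  let T := (Fin 4 → F) × (Fin 3 → F) × Matrix.SpecialLinearGroup (Fin 3) F
  let f : C → T := fun g =>
    (fun j => g.1.1 0 j.succ, fun i => g.1.1 i.succ.succ 1,
      ⟨blockB g.1.1, (structure_of_commute g.1.1 g.1.2 ((mem_iff g.1).1 g.2)).1⟩)
  have hf : Function.Bijective f := by
    constructor
    · intro g g' h
      have e1 := (structure_of_commute g.1.1 g.1.2 ((mem_iff g.1).1 g.2)).2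
      have e2 := (structure_of_commute g'.1.1 g'.1.2 ((mem_iff g'.1).1 g'.2)).2
      have hx : (fun j : Fin 4 => g.1.1 0 j.succ) = fun j => g'.1.1 0 j.succ :=
        congrArg Prod.fst h
      have hy : (fun i : Fin 3 => g.1.1 i.succ.succ 1) = fun i => g'.1.1 i.succ.succ 1 :=
        congrArg (fun t : T => t.2.1) h
      have hB : blockB g.1.1 = blockB g'.1.1 :=
        congrArg (fun t : T => t.2.2.1) h
      apply Subtype.ext
      apply Subtype.ext
      rw [e1, e2, hx, hy, hB]
    · rintro ⟨x, y, ⟨B, hB⟩⟩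
      have hdet : (build x y B).det = 1 := by rw [det_build]; exact hB
      have hcomm : Commute (single (0 : Fin 5) (1 : Fin 5) (1 : F)) (build x y B) := by
        rw [commute_single_iff]
        refine ⟨?_, ?_, rfl⟩
        · intro k hk
          fin_cases k
          · exact absurd rfl hk
          all_goals rfl
        · intro k hk
          fin_cases k
          · rfl
          · exact absurd rfl hk
          all_goals rfl
      refine ⟨⟨⟨build x y B, hdet⟩, (mem_iff _).2 hcomm⟩, ?_⟩
      refine Prod.ext ?_ (Prod.ext ?_ ?_)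
      · funext j
        fin_cases j <;> rfl
      · funext i
        fin_cases i <;> rfl
      · apply Subtype.ext
        ext i j
        fin_cases i <;> fin_cases j <;> rfl
  rw [Nat.card_congr (Equiv.ofBijective f hf)]
  show Nat.card ((Fin 4 → F) × (Fin 3 → F) × Matrix.SpecialLinearGroup (Fin 3) F) = 21504
  rw [Nat.card_prod, Nat.card_prod, card_SL3, Nat.card_eq_fintype_card, Nat.card_eq_fintype_card,
    Fintype.card_fun, Fintype.card_fun, ZMod.card, Fintype.card_fin, Fintype.card_fin]
  norm_num

end Cfsg.Agent.S0445
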