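import Cfsg.Statements.S0446
import Mathlib
-- import your own Cfsg.Agent.* helpers here

set_option autoImplicit false
open Cfsg

namespace Cfsg.Agent.S0446

/-- Every finite group of even order contains a 2-central involution, i.e. an element of order 2 in the centre of some Sylow 2-subgroup. -/
theorem result {G : Type*} [Group G] [Finite G] (h : Even (Nat.card G)) : ∃ t : G, Cfsg.IsTwoCentralInvolution t := by
  haveI : Fact (Nat.Prime 2) := ⟨Nat.prime_two⟩
  obtain P : Sylow 2 G := default
  have h2 : 2 ∣ Nat.card G := even_iff_two_dvd.mp h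
  have hP : 2 ∣ Nat.card P := by
    rw [P.card_eq_multiplicity]
    have hpos : Nat.card G ≠ 0 := Nat.card_pos.ne'
    have : 0 < (Nat.card G).factorization 2 :=
      Nat.Prime.factorization_pos_of_dvd Nat.prime_two hpos h2
    exact dvd_pow_self 2 this.ne'
  haveI : Nontrivial P := by
    rw [← Finite.one_lt_card_iff_nontrivial]
    have : 0 < Nat.card P := Nat.card_pos
    rcases hP with ⟨k, hk⟩
    omega
  have hPp : IsPGroup 2 P := P.isPGroup'
  haveI := hPp.center_nontrivial
  have hZ : IsPGroup 2 (Subgroup.center P) := hPp.to_subgroup _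
  obtain ⟨n, hn⟩ := (IsPGroup.iff_card).mp hZ
  have hn0 : n ≠ 0 := by
    rintro rfl
    rw [pow_zero] at hn
    have := (Finite.one_lt_card_iff_nontrivial (α := Subgroup.center P)).mpr inferInstance
    omega
  have h2Z : 2 ∣ Nat.card (Subgroup.center P) := by rw [hn]; exact dvd_pow_self 2 hn0
  obtain ⟨z, hz⟩ := exists_prime_orderOf_dvd_card' 2 h2Z
  refine ⟨((z : P) : G), ?_, P, (z : P).2, ?_⟩
  · have e1 : orderOf (((z : P) : G)) = orderOf (z : P) := Subgroup.orderOf_coe _
    have e2 : orderOf ((z : P)) = orderOf z := Subgroup.orderOf_coe _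
    rw [e1, e2, hz]
  · intro x hx
    have := Subgroup.mem_center_iff.mp z.2 ⟨x, hx⟩
    have := congrArg (Subtype.val) this
    simpa using this

end Cfsg.Agent.S0446
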