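import Cfsg.Statements.S0459
import Mathlib
import Cfsg.Agent.Lib.Helper18.RuMainT
-- import your own Cfsg.Agent.* helpers here

set_option autoImplicit false
open Cfsg

namespace Cfsg.Agent.S0459

/-- The Rudvalis group exists as a transitive permutation group of degree 4060: simple of order 145926144000, with point stabiliser of order 35942400 containing a simple subgroup of order 17971200 (the order of the Tits group). -/
theorem result : ∃ H : Subgroup (Equiv.Perm (Fin 4060)), Cfsg.IsRu H ∧ MulAction.IsPretransitive H (Fin 4060) ∧ Nat.card (MulAction.stabilizer H (0 : Fin 4060)) = 35942400 ∧ ∃ T : Subgroup (MulAction.stabilizer H (0 : Fin 4060)), Cfsg.IsTits T := by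
  classical
  refine ⟨Cfsg.Agent.Lib.Helper18.Ru.G, ⟨Cfsg.Agent.Lib.Helper18.Ru.G_simple,
    Cfsg.Agent.Lib.Helper18.Ru.card_G⟩, Cfsg.Agent.Lib.Helper18.Ru.G_pretrans,
    Cfsg.Agent.Lib.Helper18.Ru.stab_card, ?_⟩
  have hle : Cfsg.Agent.Lib.Helper18.Ru.T0 ≤ Cfsg.Agent.Lib.Helper18.Ru.G :=
    Cfsg.Agent.Lib.Helper18.Ru.T0_le_G
  have hst : (Cfsg.Agent.Lib.Helper18.Ru.T0).subgroupOf Cfsg.Agent.Lib.Helper18.Ru.G
      ≤ MulAction.stabilizer Cfsg.Agent.Lib.Helper18.Ru.G (0 : Fin 4060) := by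
    intro g hg
    rw [MulAction.mem_stabilizer_iff]
    exact Cfsg.Agent.Lib.Helper18.Ru.T0_fix0 g.1 hg
  let e : ((Cfsg.Agent.Lib.Helper18.Ru.T0).subgroupOf Cfsg.Agent.Lib.Helper18.Ru.G).subgroupOf
      (MulAction.stabilizer Cfsg.Agent.Lib.Helper18.Ru.G (0 : Fin 4060))
      ≃* Cfsg.Agent.Lib.Helper18.Ru.T0 :=
    (Subgroup.subgroupOfEquivOfLe hst).trans (Subgroup.subgroupOfEquivOfLe hle)
  refine ⟨((Cfsg.Agent.Lib.Helper18.Ru.T0).subgroupOf Cfsg.Agent.Lib.Helper18.Ru.G).subgroupOf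
      (MulAction.stabilizer Cfsg.Agent.Lib.Helper18.Ru.G (0 : Fin 4060)), ?_, ?_⟩
  · haveI := Cfsg.Agent.Lib.Helper18.Ru.T0_simple
    exact e.isSimpleGroup
  · rw [Nat.card_congr e.toEquiv]
    exact Cfsg.Agent.Lib.Helper18.Ru.card_T0

end Cfsg.Agent.S0459
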