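import Cfsg.Statements.S0481
import Mathlib

set_option autoImplicit false
open Cfsg

namespace Cfsg.Agent.S0481

open scoped Pointwise

theorem result {G : Type*} [Group G] [Finite G] (z : G) (hz : orderOf z = 2) (Q : Subgroup G) (hQC : Q ≤ Subgroup.centralizer ({z} : Set G)) (hQn : ∀ g ∈ Subgroup.centralizer ({z} : Set G), ∀ q ∈ Q, g * q * g⁻¹ ∈ Q) (hQ2 : IsPGroup 2 Q) (hZ : Nat.card (Subgroup.center Q) = 2) (hsq : ∀ x : Q, x ^ 2 ∈ Subgroup.center Q) (hlarge : Subgroup.centralizer (Q : Set G) ≤ Q) : (∃ P : Sylow 2 G, (P : Subgroup G) ≤ Subgroup.centralizer ({z} : Set G)) ∧ ∀ u : G, orderOf u = 2 → (∃ P : Sylow 2 G, (P : Subgroup G) ≤ Subgroup.centralizer ({u} : Set G)) → IsConj z u := by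
  have : Fact (Nat.Prime 2) := ⟨Nat.prime_two⟩
  have hz1 : z ≠ 1 := by
    intro h; rw [h, orderOf_one] at hz; omega
  -- z ∈ C(Q) ≤ Q
  have hzCQ : z ∈ Subgroup.centralizer (Q : Set G) := by
    rw [Subgroup.mem_centralizer_iff]
    intro q hq
    have := hQC hq
    rw [Subgroup.mem_centralizer_iff] at this
    exact (this z rfl).symm
  have hzQ : z ∈ Q := hlarge hzCQ
  -- elements of Q centralizing Q are 1 or z
  have hcenter : ∀ c : G, c ∈ Subgroup.centralizer (Q : Set G) → c = 1 ∨ c = z := by
    intro c hc
    have hcQ : c ∈ Q := hlarge hc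
    have hmem : ∀ d : G, (hd : d ∈ Q) → d ∈ Subgroup.centralizer (Q : Set G) →
        (⟨d, hd⟩ : Q) ∈ Subgroup.center Q := by
      intro d hd hdc
      rw [Subgroup.mem_center_iff]
      intro q
      rw [Subgroup.mem_centralizer_iff] at hdc
      exact Subtype.ext (hdc q q.2)
    obtain ⟨y, hy, hyuniq⟩ := (Nat.card_eq_two_iff' (1 : Subgroup.center Q)).mp hZ
    by_cases hc1 : c = 1
    · left; exact hc1
    · right
      have e1 : (⟨⟨c, hcQ⟩, hmem c hcQ hc⟩ : Subgroup.center Q) = y := by
        apply hyuniq
        intro h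
        apply hc1
        have := congrArg (fun w : Subgroup.center Q => ((w : Q) : G)) h
        simpa using this
      have e2 : (⟨⟨z, hzQ⟩, hmem z hzQ hzCQ⟩ : Subgroup.center Q) = y := by
        apply hyuniq
        intro h
        apply hz1
        have := congrArg (fun w : Subgroup.center Q => ((w : Q) : G)) h
        simpa using this
      have := congrArg (fun w : Subgroup.center Q => ((w : Q) : G)) (e1.trans e2.symm)
      simpa using this
  -- a Sylow 2-subgroup containing Q
  obtain ⟨S, hQS⟩ := hQ2.exists_le_sylow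
  -- elements of S centralizing S are 1 or z
  have hZS : ∀ c : G, c ∈ S → (∀ s ∈ S, s * c = c * s) → c = 1 ∨ c = z := by
    intro c _ hcs
    apply hcenter
    rw [Subgroup.mem_centralizer_iff]
    intro q hq
    exact hcs q (hQS hq)
  -- Z(S) nontrivial gives z central in S
  have hzS : ∀ s ∈ S, s * z = z * s := by
    have hSne : Nontrivial (S : Subgroup G) := by
      rw [Subgroup.nontrivial_iff_ne_bot]
      intro h
      have : z ∈ (S : Subgroup G) := hQS hzQ
      rw [h, Subgroup.mem_bot] at this
      exact hz1 this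
    have hcnt : Nontrivial (Subgroup.center (S : Subgroup G)) := S.isPGroup'.center_nontrivial
    obtain ⟨c, hc⟩ := exists_ne (1 : Subgroup.center (S : Subgroup G))
    have hc1 : ((c : (S : Subgroup G)) : G) ≠ 1 := by
      intro h
      apply hc
      apply Subtype.ext
      apply Subtype.ext
      simpa using h
    have hcomm : ∀ s ∈ S, s * ((c : (S : Subgroup G)) : G) = ((c : (S : Subgroup G)) : G) * s := by
      intro s hs
      have := (Subgroup.mem_center_iff.mp c.2) ⟨s, hs⟩
      have h2 := congrArg Subtype.val this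
      simpa using h2
    rcases hZS _ (c : (S : Subgroup G)).2 hcomm with h | h
    · exact absurd h hc1
    · rw [← h]; exact hcomm
  constructor
  · refine ⟨S, ?_⟩
    intro s hs
    rw [Subgroup.mem_centralizer_iff]
    intro w hw
    rw [Set.mem_singleton_iff] at hw
    rw [hw]
    exact (hzS s hs).symm
  · intro u hu ⟨P, hP⟩
    obtain ⟨g, hg⟩ := MulAction.exists_smul_eq G P S
    -- S = g • P, so g⁻¹ s g ∈ P for s ∈ S; u' = g u g⁻¹ centralizes S
    set u' := g * u * g⁻¹ with hu'
    have hu'ord : orderOf u' = 2 := by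
      rw [hu', ← hu]
      exact (MulAut.conj g).orderOf_eq u
    have hu'1 : u' ≠ 1 := by
      intro h; rw [h, orderOf_one] at hu'ord; omega
    have hu'S : ∀ s ∈ S, s * u' = u' * s := by
      intro s hs
      have hs' : s ∈ ((g • P : Sylow 2 G) : Subgroup G) := by rw [hg]; exact hs
      rw [Sylow.coe_subgroup_smul, Subgroup.mem_pointwise_smul_iff_inv_smul_mem] at hs'
      have h1 : g⁻¹ * s * g ∈ (P : Subgroup G) := by
        simpa [MulAut.smul_def] using hs'
      have h2 := hP h1
      rw [Subgroup.mem_centralizer_iff] at h2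
      have h3 := h2 u rfl
      -- u * (g⁻¹ s g) = (g⁻¹ s g) * u
      rw [hu']
      calc s * (g * u * g⁻¹) = g * ((g⁻¹ * s * g) * u) * g⁻¹ := by group
        _ = g * (u * (g⁻¹ * s * g)) * g⁻¹ := by rw [h3]
        _ = g * u * g⁻¹ * s := by group
    -- u' ∈ S by maximality
    have hu'mem : u' ∈ (S : Subgroup G) := by
      have hle : Subgroup.zpowers u' ≤ Subgroup.normalizer ((S : Subgroup G) : Set G) := by
        rw [Subgroup.zpowers_le]
        rw [Subgroup.mem_set_normalizer_iff]
        intro h
        constructor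
        · intro hh
          have : u' * h * u'⁻¹ = h := by
            rw [← hu'S h hh]; group
          rw [this]; exact hh
        · intro hh
          have h4 := hu'S _ hh
          have : h = u' * h * u'⁻¹ := by
            have : u' * h * u'⁻¹ * u' = u' * (u' * h * u'⁻¹) := h4
            have h5 : u' * h = u' * (u' * h * u'⁻¹) := by
              rw [← this]; group
            exact mul_left_cancel h5
          rw [this]; exact hh
      have hpg : IsPGroup 2 (Subgroup.zpowers u') := by
        apply IsPGroup.of_card (n := 1)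
        rw [Nat.card_zpowers, hu'ord, pow_one]
      have hsup := IsPGroup.to_sup_of_normal_right' hpg S.isPGroup' hle
      have := S.is_maximal' hsup le_sup_right
      have h6 : u' ∈ Subgroup.zpowers u' ⊔ (S : Subgroup G) :=
        Subgroup.mem_sup_left (Subgroup.mem_zpowers u')
      rw [this] at h6
      exact h6
    rcases hZS u' hu'mem hu'S with h | h
    · exact absurd h hu'1
    · rw [isConj_comm, isConj_iff]
      exact ⟨g, by rw [← h]⟩

end Cfsg.Agent.S0481
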