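import Cfsg.Statements.S3953
import Mathlib
import Cfsg.Agent.Lib.Helper2.SchurMultF

set_option autoImplicit false
open Cfsg

namespace Cfsg.Agent.S3953
open Cfsg.Agent.Lib.Helper2.SchurMult

/-- Let `P` be a Sylow `p`-subgroup of the finite group `G`, let `A` be the Schur multiplier of `G` and `B` that of `P`. Then the `p`-primary component of `A` is isomorphic to a direct factor of `B`: there are subgroups `C` and `D` of `B` meeting trivially and generating `B`, with `C` isomorphic to the `p`-primary component of `A`. -/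
theorem result {G : Type*} [Group G] [Finite G] (p : ℕ) [Fact p.Prime] (P : Sylow p G) {A B : Type*} [CommGroup A] [CommGroup B] (hA : Cfsg.HasSchurMultiplier G A) (hB : Cfsg.HasSchurMultiplier P B) : ∃ C D : Subgroup B, C ⊓ D = ⊥ ∧ C ⊔ D = ⊤ ∧ Nonempty (CommGroup.primaryComponent A p ≃* C) := by
  classical
  obtain ⟨eA⟩ := equiv_multM (canon G) (canon_surjective G) hA
  obtain ⟨eB⟩ := equiv_multM (psiH (P : Subgroup G)) (psiH_surjective (P : Subgroup G)) hB
  haveI : Finite A := by
    obtain ⟨⟨Γ₀, i1, i2, σ₀, hσ₀, ⟨e₀⟩⟩, -⟩ := hA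
    exact Finite.of_equiv _ e₀.toEquiv
  obtain ⟨res, cor, hrc⟩ := exists_res_cor (P : Subgroup G)
  let i : ↥(CommGroup.primaryComponent A p) →* B :=
    (eB.symm.toMonoidHom.comp (res.comp eA.toMonoidHom)).comp
      (CommGroup.primaryComponent A p).subtype
  let π : B →* A := eA.symm.toMonoidHom.comp (cor.comp eB.toMonoidHom)
  have h : ∀ a, π (i a) = (a : A) ^ (P : Subgroup G).index := by
    intro a
    show eA.symm (cor (eB (eB.symm (res (eA (a : A)))))) = (a : A) ^ (P : Subgroup G).index
    rw [MulEquiv.apply_symm_apply, hrc, map_pow, MulEquiv.symm_apply_apply]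
  exact exists_direct_factor p (P : Subgroup G).index P.not_dvd_index i π h

end Cfsg.Agent.S3953
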