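import Cfsg.Statements.S3965
import Cfsg.Agent.Lib.Helper5.DihedralStem

set_option autoImplicit false
open Cfsg
open scoped commutatorElement

namespace Cfsg.Agent.S3965

open Cfsg.Agent.Lib.Helper5 DihedralGroup

/-- reduction of the rotation index modulo `n`. -/
noncomputable def cst (n : ℕ) : ZMod (2 * n) →+* ZMod n :=
  ZMod.castHom (Dvd.intro_left 2 rfl : n ∣ 2 * n) (ZMod n)

/-- the natural map `D_{2n} → D_n`. -/
noncomputable def phi (n : ℕ) : DihedralGroup (2 * n) →* DihedralGroup n where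
  toFun := fun g => match g with
    | r i => r (cst n i)
    | sr i => sr (cst n i)
  map_one' := by
    show (match (1 : DihedralGroup (2 * n)) with
      | r i => r (cst n i)
      | sr i => sr (cst n i)) = 1
    rw [one_def]
    show r (cst n 0) = r 0
    rw [map_zero]
  map_mul' := by
    rintro (a | a) (b | b) <;> simp [map_add, map_sub]

@[simp] theorem phi_r (n : ℕ) (i : ZMod (2 * n)) : phi n (r i) = r (cst n i) := rfl
@[simp] theorem phi_sr (n : ℕ) (i : ZMod (2 * n)) : phi n (sr i) = sr (cst n i) := rfl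

theorem phi_surjective (n : ℕ) : Function.Surjective (phi n) := by
  intro g
  cases g with
  | r j =>
    obtain ⟨i, rfl⟩ := ZMod.castHom_surjective (Dvd.intro_left 2 rfl : n ∣ 2 * n) j
    exact ⟨r i, rfl⟩
  | sr j =>
    obtain ⟨i, rfl⟩ := ZMod.castHom_surjective (Dvd.intro_left 2 rfl : n ∣ 2 * n) j
    exact ⟨sr i, rfl⟩

theorem mem_ker_iff (n : ℕ) (g : DihedralGroup (2 * n)) :
    g ∈ (phi n).ker ↔ ∃ i, g = r i ∧ cst n i = 0 := by
  rw [MonoidHom.mem_ker]
  cases g with
  | r i =>
    rw [phi_r, one_def]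
    constructor
    · intro h
      exact ⟨i, rfl, r.inj h⟩
    · rintro ⟨j, hj, hj0⟩
      have : i = j := r.inj hj
      rw [this, hj0]
  | sr i =>
    rw [phi_sr, one_def]
    constructor
    · intro h; cases h
    · rintro ⟨j, hj, _⟩; cases hj

theorem dvd_val_of_cst_eq_zero (n : ℕ) [NeZero n] (i : ZMod (2 * n)) (h : cst n i = 0) :
    n ∣ i.val := by
  have h1 : ((i.val : ℕ) : ZMod n) = 0 := by
    rw [← h, cst, ZMod.castHom_apply, ZMod.natCast_val]
  exact (ZMod.natCast_eq_zero_iff _ _).1 h1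

theorem add_self_of_cst_eq_zero (n : ℕ) [NeZero n] (i : ZMod (2 * n)) (h : cst n i = 0) :
    i + i = 0 := by
  obtain ⟨t, ht⟩ := dvd_val_of_cst_eq_zero n i h
  have : i = ((i.val : ℕ) : ZMod (2 * n)) := (ZMod.natCast_zmod_val i).symm
  rw [this, ht, ← Nat.cast_add, ZMod.natCast_eq_zero_iff]
  exact ⟨t, by ring⟩

theorem ker_le_center (n : ℕ) [NeZero n] : (phi n).ker ≤ Subgroup.center (DihedralGroup (2 * n)) := by
  intro g hg
  obtain ⟨i, rfl, hi⟩ := (mem_ker_iff n g).1 hg
  have h2 := add_self_of_cst_eq_zero n i hi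
  rw [Subgroup.mem_center_iff]
  intro h
  cases h with
  | r j => rw [r_mul_r, r_mul_r, add_comm]
  | sr j =>
    rw [sr_mul_r, r_mul_sr]
    congr 1
    linear_combination h2

theorem ker_le_commutator (n : ℕ) [NeZero n] (hn : Even n) :
    (phi n).ker ≤ commutator (DihedralGroup (2 * n)) := by
  intro g hg
  obtain ⟨i, rfl, hi⟩ := (mem_ker_iff n g).1 hg
  obtain ⟨t, ht⟩ := dvd_val_of_cst_eq_zero n i hi
  obtain ⟨l, hl⟩ := hn
  have hi' : i = ((l * t : ℕ) : ZMod (2 * n)) + ((l * t : ℕ) : ZMod (2 * n)) := by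
    have : i = ((i.val : ℕ) : ZMod (2 * n)) := (ZMod.natCast_zmod_val i).symm
    rw [this, ht, hl, ← Nat.cast_add]
    congr 1
    ring
  have : r i = ⁅(sr 0 : DihedralGroup (2 * n)), r (-((l * t : ℕ) : ZMod (2 * n)))⁆ := by
    rw [commutatorElement_def, hi']
    simp
  rw [this, commutator_def]
  exact Subgroup.commutator_mem_commutator (Subgroup.mem_top _) (Subgroup.mem_top _)

theorem card_ker (n : ℕ) [NeZero n] : Nat.card (phi n).ker = 2 := by
  have h1 := Subgroup.card_mul_index (phi n).ker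
  rw [Subgroup.index_ker, MonoidHom.range_eq_top.2 (phi_surjective n), Subgroup.card_top,
    nat_card, nat_card] at h1
  have hn : 0 < 2 * n := Nat.pos_of_ne_zero (NeZero.ne _)
  exact Nat.eq_of_mul_eq_mul_right hn h1

/-- For even `n ≥ 2` the dihedral group of order `2 n` has Schur multiplier cyclic of order `2`. -/
theorem result (n : ℕ) [NeZero n] (hn : Even n) : Cfsg.HasCyclicSchurMultiplier (DihedralGroup n) 2 := by
  constructor
  · have : NeZero (2 * n) := ⟨by have := NeZero.ne n; omega⟩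
    refine ⟨DihedralGroup (2 * n), inferInstance, inferInstance, phi n,
      ⟨phi_surjective n, ker_le_center n, ker_le_commutator n hn⟩, ?_⟩
    have hc := card_ker n
    have : Fact (Nat.Prime 2) := ⟨Nat.prime_two⟩
    have : IsCyclic (phi n).ker := isCyclic_of_prime_card hc
    exact nonempty_mulEquiv_zmod hc
  · intro Γ _ _ σ hσ
    obtain ⟨hsurj, hcen, hcomm⟩ := hσ
    obtain ⟨x, s, -, -, hD, -⟩ := dihedral_invData σ hsurj hcen
    exact hD.exists_surjective hcomm

end Cfsg.Agent.S3965
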