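import Cfsg.Statements.S2087
import Mathlib
import Cfsg.Agent.Lib.Helper2.SchurMultG
import Cfsg.Agent.S0206
import Cfsg.Agent.S0243
import Cfsg.Agent.S0255
import Cfsg.Agent.S3953
import Cfsg.Agent.S3965

set_option autoImplicit false
open Cfsg

namespace Cfsg.Agent.S2087
open Cfsg.Agent.Lib.Helper2.SchurMult

theorem fact168_two : (168 : ℕ).factorization 2 = 3 := by
  have h1 : 3 ≤ (168 : ℕ).factorization 2 :=
    (Nat.Prime.pow_dvd_iff_le_factorization Nat.prime_two (by norm_num)).1 (by decide)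
  have h2 : ¬ 4 ≤ (168 : ℕ).factorization 2 := fun h =>
    absurd ((Nat.Prime.pow_dvd_iff_le_factorization Nat.prime_two (by norm_num)).2 h) (by decide)
  omega

theorem fact168_three : (168 : ℕ).factorization 3 = 1 := by
  have h1 : 1 ≤ (168 : ℕ).factorization 3 :=
    (Nat.Prime.pow_dvd_iff_le_factorization Nat.prime_three (by norm_num)).1 (by decide)
  have h2 : ¬ 2 ≤ (168 : ℕ).factorization 3 := fun h =>
    absurd ((Nat.Prime.pow_dvd_iff_le_factorization Nat.prime_three (by norm_num)).2 h)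
      (by decide)
  omega

theorem fact168_seven : (168 : ℕ).factorization 7 = 1 := by
  have hp : Nat.Prime 7 := by norm_num
  have h1 : 1 ≤ (168 : ℕ).factorization 7 :=
    (Nat.Prime.pow_dvd_iff_le_factorization hp (by norm_num)).1 (by decide)
  have h2 : ¬ 2 ≤ (168 : ℕ).factorization 7 := fun h =>
    absurd ((Nat.Prime.pow_dvd_iff_le_factorization hp (by norm_num)).2 h) (by decide)
  omega

/-- two involutions of `SL(3,2)` whose product has order four -/
def xx : Matrix.SpecialLinearGroup (Fin 3) (ZMod 2) := ⟨!![1,1,0;0,1,0;0,0,1], by decide⟩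

def yy : Matrix.SpecialLinearGroup (Fin 3) (ZMod 2) := ⟨!![1,0,0;0,1,1;0,0,1], by decide⟩

theorem orderOf_xx : orderOf xx = 2 := orderOf_eq_prime (by decide) (by decide)

theorem orderOf_yy : orderOf yy = 2 := orderOf_eq_prime (by decide) (by decide)

theorem orderOf_xy : orderOf (xx * yy) = 4 := by
  have h := orderOf_eq_prime_pow (x := xx * yy) (p := 2) (n := 1) (by decide) (by decide)
  simpa using h

theorem center_eq_bot {F : Type*} [Field F] [Fintype F] (hF : Fintype.card F = 2) :
    Subgroup.center (Matrix.SpecialLinearGroup (Fin 3) F) = ⊥ := by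
  classical
  rw [eq_bot_iff]
  intro A hA
  rw [Matrix.SpecialLinearGroup.mem_center_iff] at hA
  obtain ⟨r, hr, hrA⟩ := hA
  rw [Subgroup.mem_bot]
  have hz : ∀ z : ZMod 2, z = 0 ∨ z = 1 := by decide
  have hr1 : r = 1 := by
    obtain ⟨z, rfl⟩ := (ZMod.ringEquivOfPrime F Nat.prime_two hF).surjective r
    rcases hz z with rfl | rfl
    · rw [map_zero] at hr
      simp at hr
    · exact map_one _
  apply Subtype.ext
  show (A : Matrix (Fin 3) (Fin 3) F)
    = ((1 : Matrix.SpecialLinearGroup (Fin 3) F) : Matrix (Fin 3) (Fin 3) F)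
  rw [Matrix.SpecialLinearGroup.coe_one, ← hrA, hr1, map_one]

/-- the embedding of `SL(3, ZMod 2)` into `PSL(3,F)` -/
noncomputable def jj {F : Type*} [Field F] [Fintype F] (hF : Fintype.card F = 2) :
    Matrix.SpecialLinearGroup (Fin 3) (ZMod 2) →*
      Matrix.ProjectiveSpecialLinearGroup (Fin 3) F :=
  (QuotientGroup.mk' (Subgroup.center (Matrix.SpecialLinearGroup (Fin 3) F))).comp
    (Matrix.SpecialLinearGroup.map (ZMod.ringEquivOfPrime F Nat.prime_two hF).toRingHom)

theorem jj_injective {F : Type*} [Field F] [Fintype F] (hF : Fintype.card F = 2) :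
    Function.Injective (jj hF) := by
  classical
  rw [injective_iff_map_eq_one]
  intro A hA
  have h1 : Matrix.SpecialLinearGroup.map (ZMod.ringEquivOfPrime F Nat.prime_two hF).toRingHom A
      ∈ Subgroup.center (Matrix.SpecialLinearGroup (Fin 3) F) := by
    rw [← QuotientGroup.eq_one_iff]
    exact hA
  rw [center_eq_bot hF, Subgroup.mem_bot] at h1
  apply Matrix.SpecialLinearGroup.ext
  intro i j
  have h2 := congrArg
    (fun M : Matrix.SpecialLinearGroup (Fin 3) F => (M : Matrix (Fin 3) (Fin 3) F) i j) h1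
  simp only [Matrix.SpecialLinearGroup.map_apply_coe, RingHom.mapMatrix_apply, Matrix.map_apply,
    Matrix.SpecialLinearGroup.coe_one] at h2
  have h3 : (ZMod.ringEquivOfPrime F Nat.prime_two hF) ((A : Matrix (Fin 3) (Fin 3) (ZMod 2)) i j)
      = (ZMod.ringEquivOfPrime F Nat.prime_two hF)
        ((1 : Matrix (Fin 3) (Fin 3) (ZMod 2)) i j) := by
    refine Eq.trans h2 ?_
    by_cases hij : i = j
    · subst hij
      rw [Matrix.one_apply_eq, Matrix.one_apply_eq, map_one]
    · rw [Matrix.one_apply_ne hij, Matrix.one_apply_ne hij, map_zero]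
  rw [Matrix.SpecialLinearGroup.coe_one]
  exact (ZMod.ringEquivOfPrime F Nat.prime_two hF).injective h3

theorem z7a : (2 : ZMod 7) ≠ 0 := by decide

theorem z7b : (2 : ZMod 7) ^ 2 ≠ 1 := by decide

theorem z7c : (-1 : ZMod 7) ≠ 1 := by decide

/-- the stem extension `SL(2,7) → PSL(2,7) ≅ G` with kernel of order two -/
theorem exists_stem_two.{u} {G : Type u} [Group G] (K : Type u) [Field K] [Fintype K]
    (hK : Fintype.card K = 7) (e : Matrix.ProjectiveSpecialLinearGroup (Fin 2) K ≃* G) :
    ∃ (Γ : Type u) (_ : Group Γ) (_ : Finite Γ) (σ : Γ →* G),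
      Cfsg.IsStemExtension σ ∧ Nat.card σ.ker = 2 := by
  classical
  have hp7 : Nat.Prime 7 := by norm_num
  haveI : Fact (Nat.Prime 7) := ⟨hp7⟩
  have ha : (ZMod.ringEquivOfPrime K hp7 hK) 2 ≠ 0 := fun h =>
    z7a ((map_eq_zero_iff _ (ZMod.ringEquivOfPrime K hp7 hK).injective).1 h)
  have hasq : ((ZMod.ringEquivOfPrime K hp7 hK) 2) ^ 2 ≠ 1 := by
    intro h
    rw [← map_pow, ← map_one (ZMod.ringEquivOfPrime K hp7 hK)] at h
    exact z7b ((ZMod.ringEquivOfPrime K hp7 hK).injective h)
  have hneg : (-1 : K) ≠ 1 := by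
    intro h
    have h' : (ZMod.ringEquivOfPrime K hp7 hK) (-1) = (ZMod.ringEquivOfPrime K hp7 hK) 1 := by
      rw [map_neg, map_one, h]
    exact z7c ((ZMod.ringEquivOfPrime K hp7 hK).injective h')
  have hperf : commutator (Matrix.SpecialLinearGroup (Fin 2) K) = ⊤ :=
    Matrix.SL2.commutator_eq_top ha hasq
  have hprim : IsPrimitiveRoot (-1 : K) 2 := by
    refine IsPrimitiveRoot.mk_of_lt _ (by norm_num) (by norm_num) ?_
    intro l hl0 hl2
    have hl : l = 1 := by omega
    subst hl
    rw [pow_one]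
    exact hneg
  have hcz : Nat.card (Subgroup.center (Matrix.SpecialLinearGroup (Fin 2) K)) = 2 := by
    rw [Nat.card_congr
      (Matrix.SpecialLinearGroup.center_equiv_rootsOfUnity (n := Fin 2) (R := K)).toEquiv]
    have h2 : max (Fintype.card (Fin 2)) 1 = 2 := by simp
    rw [h2]
    exact hprim.card_rootsOfUnity
  let mk := QuotientGroup.mk' (Subgroup.center (Matrix.SpecialLinearGroup (Fin 2) K))
  have hmk : Cfsg.IsStemExtension mk := by
    refine ⟨QuotientGroup.mk'_surjective _, ?_, ?_⟩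
    · rw [QuotientGroup.ker_mk']
    · rw [hperf]
      exact le_top
  refine ⟨Matrix.SpecialLinearGroup (Fin 2) K, inferInstance, inferInstance,
    e.toMonoidHom.comp mk, stem_equiv_comp mk hmk e, ?_⟩
  rw [ker_equiv_comp, QuotientGroup.ker_mk']
  exact hcz

theorem aux.{u} {F : Type u} [Field F] [Fintype F] (hF : Fintype.card F = 2) :
    Cfsg.HasCyclicSchurMultiplier (Matrix.ProjectiveSpecialLinearGroup (Fin 3) F) 2 := by
  classical
  haveI hfin : Finite (Matrix.ProjectiveSpecialLinearGroup (Fin 3) F) := inferInstance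
  have hcard : Nat.card (Matrix.ProjectiveSpecialLinearGroup (Fin 3) F) = 168 := by
    have h := Cfsg.Agent.S0243.result hF 3 (by norm_num)
    rw [Fin.prod_univ_three] at h
    norm_num at h
    exact Nat.card_eq_fintype_card.trans h
  have hA : Cfsg.HasSchurMultiplier (Matrix.ProjectiveSpecialLinearGroup (Fin 3) F)
      (multM (canon (Matrix.ProjectiveSpecialLinearGroup (Fin 3) F))) :=
    hasSchurMultiplier_multM (canon _) (canon_surjective _)
  haveI : Finite (multM (canon (Matrix.ProjectiveSpecialLinearGroup (Fin 3) F))) :=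
    finite_multM (canon _) (canon_surjective _)
  -- the multiplier is killed by `8`
  have h8 : ∀ m : multM (canon (Matrix.ProjectiveSpecialLinearGroup (Fin 3) F)), m ^ 8 = 1 := by
    intro m
    have h56 : m ^ 56 = 1 := by
      obtain ⟨P⟩ : Nonempty (Sylow 3 (Matrix.ProjectiveSpecialLinearGroup (Fin 3) F)) :=
        inferInstance
      have hc : Nat.card (P : Subgroup (Matrix.ProjectiveSpecialLinearGroup (Fin 3) F)) = 3 := by
        rw [P.card_eq_multiplicity, hcard, fact168_three, pow_one]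
      haveI : IsCyclic (P : Subgroup (Matrix.ProjectiveSpecialLinearGroup (Fin 3) F)) :=
        isCyclic_of_prime_card hc
      have hi : (P : Subgroup (Matrix.ProjectiveSpecialLinearGroup (Fin 3) F)).index = 56 := by
        have h := (P : Subgroup (Matrix.ProjectiveSpecialLinearGroup (Fin 3) F)).card_mul_index
        rw [hc, hcard] at h
        omega
      have h := pow_index_eq_one_of_cyclic
        (P : Subgroup (Matrix.ProjectiveSpecialLinearGroup (Fin 3) F)) m
      rwa [hi] at h
    have h24 : m ^ 24 = 1 := by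
      haveI : Fact (Nat.Prime 7) := ⟨by norm_num⟩
      obtain ⟨P⟩ : Nonempty (Sylow 7 (Matrix.ProjectiveSpecialLinearGroup (Fin 3) F)) :=
        inferInstance
      have hc : Nat.card (P : Subgroup (Matrix.ProjectiveSpecialLinearGroup (Fin 3) F)) = 7 := by
        rw [P.card_eq_multiplicity, hcard, fact168_seven, pow_one]
      haveI : IsCyclic (P : Subgroup (Matrix.ProjectiveSpecialLinearGroup (Fin 3) F)) :=
        isCyclic_of_prime_card hc
      have hi : (P : Subgroup (Matrix.ProjectiveSpecialLinearGroup (Fin 3) F)).index = 24 := by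
        have h := (P : Subgroup (Matrix.ProjectiveSpecialLinearGroup (Fin 3) F)).card_mul_index
        rw [hc, hcard] at h
        omega
      have h := pow_index_eq_one_of_cyclic
        (P : Subgroup (Matrix.ProjectiveSpecialLinearGroup (Fin 3) F)) m
      rwa [hi] at h
    have h := pow_gcd_eq_one.2 ⟨h56, h24⟩
    have hg : Nat.gcd 56 24 = 8 := by norm_num
    rwa [hg] at h
  -- a dihedral Sylow 2-subgroup
  have hj := jj_injective hF
  have hoX : orderOf (jj hF xx) = 2 := by rw [orderOf_injective (jj hF) hj, orderOf_xx]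
  have hoY : orderOf (jj hF yy) = 2 := by rw [orderOf_injective (jj hF) hj, orderOf_yy]
  have hXY : jj hF xx ≠ jj hF yy := fun h => (by decide : xx ≠ yy) (hj h)
  have hoXY : orderOf (jj hF xx * jj hF yy) = 4 := by
    rw [← map_mul, orderOf_injective (jj hF) hj, orderOf_xy]
  obtain ⟨eD⟩ := Cfsg.Agent.S0206.result (jj hF xx) (jj hF yy) hoX hoY hXY
  rw [hoXY] at eD
  have hcS : Nat.card (Subgroup.closure ({jj hF xx, jj hF yy} :
      Set (Matrix.ProjectiveSpecialLinearGroup (Fin 3) F))) = 8 := by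
    rw [Nat.card_congr eD.toEquiv, DihedralGroup.nat_card]
  have hcS' : Nat.card (Subgroup.closure ({jj hF xx, jj hF yy} :
      Set (Matrix.ProjectiveSpecialLinearGroup (Fin 3) F)))
      = 2 ^ (Nat.card (Matrix.ProjectiveSpecialLinearGroup (Fin 3) F)).factorization 2 := by
    rw [hcS, hcard, fact168_two]
    norm_num
  have hP2 : ((Sylow.ofCard _ hcS' : Sylow 2 (Matrix.ProjectiveSpecialLinearGroup (Fin 3) F)) :
      Subgroup (Matrix.ProjectiveSpecialLinearGroup (Fin 3) F))
      = Subgroup.closure ({jj hF xx, jj hF yy} :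
        Set (Matrix.ProjectiveSpecialLinearGroup (Fin 3) F)) := Sylow.coe_ofCard _ hcS'
  have hD : Cfsg.HasCyclicSchurMultiplier (DihedralGroup 4) 2 :=
    Cfsg.Agent.S3965.result 4 ⟨2, rfl⟩
  have hB : Cfsg.HasSchurMultiplier
      ↥((Sylow.ofCard _ hcS' : Sylow 2 (Matrix.ProjectiveSpecialLinearGroup (Fin 3) F)) :
        Subgroup (Matrix.ProjectiveSpecialLinearGroup (Fin 3) F)) (Multiplicative (ZMod 2)) :=
    hasSchurMultiplier_of_mulEquiv (eD.symm.trans (MulEquiv.subgroupCongr hP2.symm)) hD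
  obtain ⟨C, D, -, -, ⟨eC⟩⟩ := Cfsg.Agent.S3953.result 2 (Sylow.ofCard _ hcS') hA hB
  have htop : CommGroup.primaryComponent
      (multM (canon (Matrix.ProjectiveSpecialLinearGroup (Fin 3) F))) 2 = ⊤ := by
    rw [eq_top_iff]
    intro m _
    rw [CommGroup.mem_primaryComponent]
    refine ⟨3, ?_⟩
    have h23 : (2 : ℕ) ^ 3 = 8 := by norm_num
    rw [h23]
    exact h8 m
  have hZ2 : Nat.card (Multiplicative (ZMod 2)) = 2 := by
    rw [Nat.card_eq_fintype_card, Fintype.card_multiplicative, ZMod.card]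
  have hle2 : Nat.card (multM (canon (Matrix.ProjectiveSpecialLinearGroup (Fin 3) F))) ≤ 2 := by
    have h1 : Nat.card (CommGroup.primaryComponent
        (multM (canon (Matrix.ProjectiveSpecialLinearGroup (Fin 3) F))) 2) = Nat.card C :=
      Nat.card_congr eC.toEquiv
    rw [htop, Subgroup.card_top] at h1
    rw [h1]
    exact (Subgroup.card_le_card_group C).trans hZ2.le
  -- the stem extension by SL(2,7)
  haveI : Fact (Nat.Prime 7) := ⟨by norm_num⟩
  have hK : Fintype.card (ULift.{u, 0} (ZMod 7)) = 7 := by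
    rw [Fintype.card_ulift, ZMod.card]
  obtain ⟨e⟩ := Cfsg.Agent.S0255.result (F := ULift.{u, 0} (ZMod 7)) (K := F) hK hF
  obtain ⟨Γ₀, i1, i2, σ₀, hσ₀, hk₀⟩ := exists_stem_two (ULift.{u, 0} (ZMod 7)) hK e
  obtain ⟨π₀, hπ₀⟩ := exists_surjective_multM_ker
    (canon (Matrix.ProjectiveSpecialLinearGroup (Fin 3) F)) (canon_surjective _) σ₀ hσ₀
  have hge2 : 2 ≤ Nat.card (multM (canon (Matrix.ProjectiveSpecialLinearGroup (Fin 3) F))) := by
    rw [← hk₀]
    exact Nat.card_le_card_of_surjective π₀ hπ₀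
  have hc2 : Nat.card (multM (canon (Matrix.ProjectiveSpecialLinearGroup (Fin 3) F))) = 2 :=
    le_antisymm hle2 hge2
  haveI : IsCyclic (multM (canon (Matrix.ProjectiveSpecialLinearGroup (Fin 3) F))) :=
    isCyclic_of_prime_card hc2
  haveI : IsCyclic σ₀.ker := isCyclic_of_prime_card hk₀
  refine ⟨⟨Γ₀, i1, i2, σ₀, hσ₀, ⟨mulEquivOfCyclicCardEq (hk₀.trans hZ2.symm)⟩⟩, ?_⟩
  intro Γ _ _ σ hσ
  obtain ⟨πM, hπM⟩ := exists_surjective_multM_ker
    (canon (Matrix.ProjectiveSpecialLinearGroup (Fin 3) F)) (canon_surjective _) σ hσ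
  let E : Multiplicative (ZMod 2) ≃*
      multM (canon (Matrix.ProjectiveSpecialLinearGroup (Fin 3) F)) :=
    mulEquivOfCyclicCardEq (hZ2.trans hc2.symm)
  exact ⟨πM.comp E.toMonoidHom, hπM.comp E.surjective⟩


/-- Exceptional Schur multiplier: over the field with 2 elements, PSL₃ has Schur multiplier cyclic of order 2 (here the Schur multiplier is described through stem extensions, as in the definitions). -/
theorem result {F : Type*} [Field F] [Fintype F] (hF : Fintype.card F = 2) : Cfsg.HasCyclicSchurMultiplier (Matrix.ProjectiveSpecialLinearGroup (Fin 3) F) 2 :=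
  aux hF

end Cfsg.Agent.S2087
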