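import Cfsg.Statements.S0495
import Mathlib
import Cfsg.Agent.Lib.Helper2.Order168i
import Cfsg.Agent.S0243
import Cfsg.Agent.S0255
import Cfsg.Agent.S2087

set_option autoImplicit false
open Cfsg

namespace Cfsg.Agent.S0495

/-- A simple group of order 168 is isomorphic to the projective special linear group of dimension 2 over the field with
7 elements. -/
theorem result {G : Type*} [Group G] [Finite G] [IsSimpleGroup G]
    (h : Nat.card G = 168) {F : Type*} [Field F] [Fintype F] (hF : Fintype.card F = 7) :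
    Nonempty (G ≃* Matrix.ProjectiveSpecialLinearGroup (Fin 2) F) := by
  classical
  -- `PSL(3,2)` has order 168 and is isomorphic to `SL(3,2)`
  have hF2 : Fintype.card (ZMod 2) = 2 := ZMod.card 2
  have hcard : Nat.card (Matrix.ProjectiveSpecialLinearGroup (Fin 3) (ZMod 2)) = 168 := by
    have h' := Cfsg.Agent.S0243.result hF2 3 (by norm_num)
    rw [Fin.prod_univ_three] at h'
    norm_num at h'
    exact Nat.card_eq_fintype_card.trans h'
  have hc := Cfsg.Agent.S2087.center_eq_bot hF2
  have hbij : Function.Bijective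
      (QuotientGroup.mk' (Subgroup.center (Matrix.SpecialLinearGroup (Fin 3) (ZMod 2)))) := by
    refine ⟨?_, QuotientGroup.mk'_surjective _⟩
    rw [← MonoidHom.ker_eq_bot_iff, QuotientGroup.ker_mk', hc]
  let e2 : Matrix.SpecialLinearGroup (Fin 3) (ZMod 2) ≃*
      Matrix.ProjectiveSpecialLinearGroup (Fin 3) (ZMod 2) :=
    MulEquiv.ofBijective
      (QuotientGroup.mk' (Subgroup.center (Matrix.SpecialLinearGroup (Fin 3) (ZMod 2)))) hbij
  have hSL : Nat.card (Matrix.SpecialLinearGroup (Fin 3) (ZMod 2)) = 168 := by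
    rw [Nat.card_congr e2.toEquiv, hcard]
  obtain ⟨e1⟩ := Cfsg.Agent.Lib.Helper2.Order168.exists_mulEquiv_SL h hSL
  obtain ⟨e3⟩ := Cfsg.Agent.S0255.result (F := F) (K := ZMod 2) hF hF2
  exact ⟨(e1.trans e2).trans e3.symm⟩

end Cfsg.Agent.S0495
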