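import Cfsg.Statements.S0498
import Mathlib
import Cfsg.Agent.Lib.Helper2.ZassB

set_option autoImplicit false
open Cfsg

namespace Cfsg.Agent.S0498

open Cfsg.Agent.Lib.Helper2.Zass

instance fact11 : Fact (Nat.Prime 11) := ⟨by norm_num⟩

set_option maxRecDepth 100000 in
theorem good11 : Good 11 5 ((5 : ZMod 11) ^ 2) 6 := by
  unfold Good
  decide +kernel

set_option maxRecDepth 100000 in
theorem cover11 : Cover 11 5 ((5 : ZMod 11) ^ 2) 2 := by
  unfold Cover
  decide +kernel

set_option maxRecDepth 100000 in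
theorem order11 : orderOf ((5 : ZMod 11) ^ 2) = 5 := by
  rw [orderOf_eq_iff (by norm_num)]
  decide +kernel

set_option maxRecDepth 100000 in
theorem div11 : ∀ n : ℕ, n ∣ (11 + 1) * 5 → n % 11 = 1 → n = 1 ∨ n = 11 + 1 := by
  intro n hn hmod
  have hle : n ≤ (11 + 1) * 5 := Nat.le_of_dvd (by norm_num) hn
  have key : ∀ n < 61, n ∣ (11 + 1) * 5 → n % 11 = 1 → n = 1 ∨ n = 11 + 1 := by
    decide +kernel
  exact key n (by omega) hn hmod

theorem main11 {G : Type*} [Group G] [Finite G] [IsSimpleGroup G]
    (hG : Nat.card G = (11 + 1) * 11 * 5) {F : Type*} [Field F] [Fintype F]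
    (hF : Fintype.card F = 11) :
    Nonempty (G ≃* Matrix.ProjectiveSpecialLinearGroup (Fin 2) F) := by
  have hn := card_sylow_eq (p := 11) 5 (by norm_num) (by norm_num) hG div11
  exact main (p := 11) 5 (by norm_num) (by norm_num) hG hn 5 2 6 order11
    (by decide) (by decide) cover11 good11 hF

instance fact13 : Fact (Nat.Prime 13) := ⟨by norm_num⟩

set_option maxRecDepth 100000 in
theorem good13 : Good 13 6 ((2 : ZMod 13) ^ 2) 7 := by
  unfold Good
  decide +kernel

set_option maxRecDepth 100000 in
theorem cover13 : Cover 13 6 ((2 : ZMod 13) ^ 2) 2 := by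
  unfold Cover
  decide +kernel

set_option maxRecDepth 100000 in
theorem order13 : orderOf ((2 : ZMod 13) ^ 2) = 6 := by
  rw [orderOf_eq_iff (by norm_num)]
  decide +kernel

set_option maxRecDepth 100000 in
theorem div13 : ∀ n : ℕ, n ∣ (13 + 1) * 6 → n % 13 = 1 → n = 1 ∨ n = 13 + 1 := by
  intro n hn hmod
  have hle : n ≤ (13 + 1) * 6 := Nat.le_of_dvd (by norm_num) hn
  have key : ∀ n < 85, n ∣ (13 + 1) * 6 → n % 13 = 1 → n = 1 ∨ n = 13 + 1 := by
    decide +kernel
  exact key n (by omega) hn hmod

theorem main13 {G : Type*} [Group G] [Finite G] [IsSimpleGroup G]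
    (hG : Nat.card G = (13 + 1) * 13 * 6) {F : Type*} [Field F] [Fintype F]
    (hF : Fintype.card F = 13) :
    Nonempty (G ≃* Matrix.ProjectiveSpecialLinearGroup (Fin 2) F) := by
  have hn := card_sylow_eq (p := 13) 6 (by norm_num) (by norm_num) hG div13
  exact main (p := 13) 6 (by norm_num) (by norm_num) hG hn 2 2 7 order13
    (by decide) (by decide) cover13 good13 hF


/-- A simple group of order 660, respectively 1092, is isomorphic to the projective special linear group of dimension 2
over the field with 11, respectively 13, elements. -/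
theorem result {G : Type*} [Group G] [Finite G] [IsSimpleGroup G] (p : ℕ)
    (hp : p = 11 ∨ p = 13) (h : 2 * Nat.card G = p * (p ^ 2 - 1)) {F : Type*} [Field F] [Fintype F]
    (hF : Fintype.card F = p) : Nonempty (G ≃* Matrix.ProjectiveSpecialLinearGroup (Fin 2) F) := by
  rcases hp with rfl | rfl
  · have hG : Nat.card G = (11 + 1) * 11 * 5 := by
      norm_num at h ⊢
      omega
    exact main11 hG hF
  · have hG : Nat.card G = (13 + 1) * 13 * 6 := by
      norm_num at h ⊢
      omega
    exact main13 hG hF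

end Cfsg.Agent.S0498
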