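import Cfsg.Statements.S0499
import Cfsg.Agent.S0071
import Cfsg.Agent.Lib.Helper8.SylowSieve
-- import your own Cfsg.Agent.* helpers here

set_option autoImplicit false
open Cfsg

namespace Cfsg.Agent.S0499

open Subgroup

/-- numeric core: an automorphism of odd prime order `r` of a group of order `q ∣ 8` whose
fixed-point subgroup has order `f`. -/
theorem numeric {q f r : ℕ} (hq : q ∣ 8) (hf : f ∣ q) (hfq : f ≠ q) (hr : r.Prime) (hr2 : r ≠ 2)
    (hmod : q ≡ f [MOD r]) : (r = 3 ∧ 4 ∣ q) ∨ (r = 7 ∧ q = 8) := by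
  have hq8 : q ≤ 8 := Nat.le_of_dvd (by norm_num) hq
  have hq0 : 0 < q := Nat.pos_of_dvd_of_pos hq (by norm_num)
  have hfle : f ≤ q := Nat.le_of_dvd hq0 hf
  have hf0 : 0 < f := Nat.pos_of_dvd_of_pos hf hq0
  have hd : r ∣ q - f := (Nat.modEq_iff_dvd' hfle).mp hmod.symm
  have hlt : f < q := lt_of_le_of_ne hfle hfq
  have hrle : r ≤ q - f := Nat.le_of_dvd (by omega) hd
  have hr1 : 2 ≤ r := hr.two_le
  have hr8 : r ≤ 8 := by omega
  interval_cases q <;> first | omega | (interval_cases f <;> first | omega | (interval_cases r <;> first | omega | (revert hq hf hd hr; decide)))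

/-- An automorphism of odd prime order of a group of order dividing 8. -/
theorem odd_aut_prime {Q : Type*} [Group Q] [Finite Q] (hQ : Nat.card Q ∣ 8) (τ : MulAut Q)
    {r : ℕ} (hr : r.Prime) (hr2 : r ≠ 2) (hτ : orderOf τ = r) :
    (r = 3 ∧ 4 ∣ Nat.card Q) ∨ (r = 7 ∧ Nat.card Q = 8) := by
  haveI : Fact r.Prime := ⟨hr⟩
  have hH : IsPGroup r (zpowers τ) := by
    apply IsPGroup.of_card (n := 1)
    rw [Nat.card_zpowers, hτ, pow_one]
  have hmod := hH.card_modEq_card_fixedPoints Q
  have hcard : Nat.card (MulAction.fixedPoints (zpowers τ) Q) =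
      Nat.card (FixedPoints.subgroup (zpowers τ) Q) := rfl
  rw [hcard] at hmod
  refine numeric hQ (Subgroup.card_subgroup_dvd_card _) ?_ hr hr2 hmod
  intro hEq
  have htop : FixedPoints.subgroup (zpowers τ) Q = ⊤ := Subgroup.eq_top_of_card_eq _ hEq
  have h1 : τ = 1 := by
    ext q
    have hq : q ∈ FixedPoints.subgroup (zpowers τ) Q := htop ▸ Subgroup.mem_top q
    exact hq ⟨τ, mem_zpowers τ⟩
  rw [h1, orderOf_one] at hτ
  exact hr.one_lt.ne hτ

/-- A non-abelian finite simple group of even order has order divisible by 12, 16 or 56. -/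
theorem result {G : Type*} [Group G] [Finite G] [IsSimpleGroup G]
    (hG : ¬ IsMulCommutative G) (h2 : Even (Nat.card G)) :
    12 ∣ Nat.card G ∨ 16 ∣ Nat.card G ∨ 56 ∣ Nat.card G := by
  classical
  by_cases h16 : 16 ∣ Nat.card G
  · exact Or.inr (Or.inl h16)
  haveI : Fact (Nat.Prime 2) := ⟨Nat.prime_two⟩
  obtain ⟨P⟩ : Nonempty (Sylow 2 G) := inferInstance
  have hPcard : Nat.card P = 2 ^ (Nat.card G).factorization 2 := P.card_eq_multiplicity
  have hPdvd : Nat.card P ∣ Nat.card G := Subgroup.card_subgroup_dvd_card _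
  have hP8 : Nat.card P ∣ 8 := by
    have hk : (Nat.card G).factorization 2 ≤ 3 := by
      by_contra hk
      push_neg at hk
      apply h16
      refine dvd_trans ?_ hPdvd
      rw [hPcard]
      exact pow_dvd_pow 2 hk
    rw [hPcard]
    exact pow_dvd_pow 2 hk
  -- no normal 2-complement
  have hno : ¬ ∃ N : Subgroup G, N.Normal ∧ N.IsComplement' (P : Subgroup G) := by
    rintro ⟨N, hNn, hN⟩
    have hmul := hN.card_mul
    rcases hNn.eq_bot_or_eq_top with hb | ht
    · rw [hb, Subgroup.card_bot, one_mul] at hmul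
      have hPtop : (P : Subgroup G) = ⊤ := Subgroup.eq_top_of_card_eq _ hmul
      have hGp : IsPGroup 2 G := by
        have := P.isPGroup'
        rw [hPtop] at this
        exact IsPGroup.of_equiv this Subgroup.topEquiv
      have hc := Cfsg.Agent.Lib.Helper8.isCyclic_of_isPGroup_of_simple hGp
      exact hG ⟨⟨fun a b => by
        obtain ⟨g, hg⟩ := hc.exists_generator
        obtain ⟨m, rfl⟩ := Subgroup.mem_zpowers_iff.mp (hg a)
        obtain ⟨n, rfl⟩ := Subgroup.mem_zpowers_iff.mp (hg b)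
        rw [← zpow_add, ← zpow_add, add_comm]⟩⟩
    · rw [ht, Subgroup.card_top] at hmul
      have hP1 : Nat.card P = 1 := by
        have hpos : 0 < Nat.card G := Nat.card_pos
        nlinarith [Nat.eq_of_mul_eq_mul_left hpos (by rw [mul_one]; exact hmul : Nat.card G * Nat.card P = Nat.card G * 1)]
      have h2dvd : 2 ∣ Nat.card G := even_iff_two_dvd.mp h2
      have hpos : 0 < (Nat.card G).factorization 2 :=
        Nat.Prime.factorization_pos_of_dvd Nat.prime_two Nat.card_pos.ne' h2dvd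
      rw [hPcard] at hP1
      have : 2 ^ (Nat.card G).factorization 2 ≥ 2 ^ 1 := Nat.pow_le_pow_right (by norm_num) hpos
      omega
  rw [Cfsg.Agent.S0071.result P] at hno
  push_neg at hno
  obtain ⟨Q, hQP, g, hg, hgo, hgC⟩ := hno
  have hQ8 : Nat.card Q ∣ 8 := (Subgroup.card_dvd_of_le hQP).trans hP8
  have hQG : Nat.card Q ∣ Nat.card G := Subgroup.card_subgroup_dvd_card _
  set σ : MulAut Q := Q.normalizerMonoidHom ⟨g, hg⟩ with hσ
  have hσ1 : σ ≠ 1 := by
    intro h
    have hker : (⟨g, hg⟩ : normalizer (Q : Set G)) ∈ Q.normalizerMonoidHom.ker := h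
    rw [normalizerMonoidHom_ker, mem_subgroupOf] at hker
    exact hgC hker
  have hσg : orderOf σ ∣ orderOf g := by
    have := orderOf_map_dvd Q.normalizerMonoidHom (⟨g, hg⟩ : normalizer (Q : Set G))
    rwa [Subgroup.orderOf_mk] at this
  have hσ0 : orderOf σ ≠ 0 := fun h => by
    rw [h, zero_dvd_iff] at hσg
    exact (orderOf_pos g).ne' hσg
  have hσne : orderOf σ ≠ 1 := fun h => hσ1 (orderOf_eq_one_iff.mp h)
  obtain ⟨r, hr, hrd⟩ := Nat.exists_prime_and_dvd hσne
  have hrg : r ∣ orderOf g := hrd.trans hσg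
  have hr2 : r ≠ 2 := by
    rintro rfl
    have := Nat.Coprime.eq_one_of_dvd hgo.symm hrg
    omega
  have hrG : r ∣ Nat.card G := hrg.trans (orderOf_dvd_natCard g)
  rcases odd_aut_prime hQ8 (σ ^ (orderOf σ / r)) hr hr2 (orderOf_pow_orderOf_div hσ0 hrd) with
    ⟨rfl, h4⟩ | ⟨rfl, h8⟩
  · left
    exact Nat.Coprime.mul_dvd_of_dvd_of_dvd (by norm_num : Nat.Coprime 3 4) hrG (h4.trans hQG)
  · right; right
    rw [h8] at hQG
    exact Nat.Coprime.mul_dvd_of_dvd_of_dvd (by norm_num : Nat.Coprime 7 8) hrG hQG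

end Cfsg.Agent.S0499
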