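import Cfsg.Statements.S0514
import Cfsg.Agent.Lib.Helper11.DihLocal
import Cfsg.Agent.Lib.Helper11.FrobeniusLocal

set_option autoImplicit false
open Cfsg

namespace Cfsg.Agent.S0514

open Subgroup Cfsg.Agent.Lib.Helper11

/-- Normalising two subgroups implies normalising their join. -/
theorem mem_normalizer_sup {X : Type*} [Group X] (A B : Subgroup X) (g : X)
    (hA : g ∈ normalizer (A : Set X)) (hB : g ∈ normalizer (B : Set X)) :
    g ∈ normalizer ((A ⊔ B : Subgroup X) : Set X) := by
  have key : ∀ g : X, g ∈ normalizer (A : Set X) → g ∈ normalizer (B : Set X) →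
      ∀ h ∈ A ⊔ B, g * h * g⁻¹ ∈ A ⊔ B := by
    intro g hA hB h hh
    have hle : A ⊔ B ≤ (A ⊔ B).comap (MulAut.conj g).toMonoidHom := by
      apply sup_le
      · intro a ha
        exact (le_sup_left : A ≤ A ⊔ B) ((mem_normalizer_iff.1 hA a).1 ha)
      · intro b hb
        exact (le_sup_right : B ≤ A ⊔ B) ((mem_normalizer_iff.1 hB b).1 hb)
    exact hle hh
  rw [mem_normalizer_iff]
  intro h
  constructor
  · exact key g hA hB h
  · intro hh
    have := key g⁻¹ (inv_mem hA) (inv_mem hB) _ hh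
    have e : g⁻¹ * (g * h * g⁻¹) * g⁻¹⁻¹ = h := by group
    rwa [e] at this

theorem conj_inv_fix {X : Type*} [Group X] (g y : X) (h : g * y * g⁻¹ = y) :
    g⁻¹ * y * g = y := by
  have : g⁻¹ * y * g = g⁻¹ * (g * y * g⁻¹) * g := by rw [h]
  rw [this]; group

/-- An odd-order element normalising a four-group of exponent two and centralising one of its
involutions centralises it. -/
theorem four_group_centralizes {X : Type*} [Group X] [Finite X] (E : Subgroup X)
    (hE4 : Nat.card E = 4) (t : X) (htE : t ∈ E) (ht : orderOf t = 2)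
    (g : X) (hgE : g ∈ normalizer (E : Set X)) (hgt : g * t * g⁻¹ = t)
    (hodd : (orderOf g).Coprime 2) : g ∈ centralizer (E : Set X) := by
  have hzE : zpowers t ≤ E := by rw [zpowers_le]; exact htE
  set H : Subgroup E := (zpowers t).subgroupOf E with hH
  have hHcard : Nat.card H = 2 := by
    rw [hH, Nat.card_congr (subgroupOfEquivOfLe hzE).toEquiv, Nat.card_zpowers, ht]
  have hidx : H.index = 2 := by
    have := H.card_mul_index
    rw [hHcard, hE4] at this
    omega
  have hgz : ∀ y ∈ zpowers t, g * y * g⁻¹ = y := by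
    intro y hy
    obtain ⟨k, rfl⟩ := mem_zpowers_iff.1 hy
    rw [← MulAut.conj_apply, map_zpow, MulAut.conj_apply, hgt]
  rw [mem_centralizer_iff]
  intro x hx
  have hy : g * x * g⁻¹ ∈ E := (mem_normalizer_iff.1 hgE x).1 hx
  have hiff : g * x * g⁻¹ ∈ zpowers t ↔ x ∈ zpowers t := by
    constructor
    · intro h
      have h1 := conj_inv_fix g _ (hgz _ h)
      have e1 : g⁻¹ * (g * x * g⁻¹) * g = x := by group
      rw [e1] at h1
      rw [h1]; exact h
    · intro h
      rw [hgz x h]; exact h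
  have hc : x⁻¹ * (g * x * g⁻¹) ∈ zpowers t := by
    have h1 := mul_mem_iff_of_index_two hidx (a := (⟨x, hx⟩ : E)⁻¹) (b := ⟨g * x * g⁻¹, hy⟩)
    have h2 : ((⟨x, hx⟩ : E)⁻¹ ∈ H ↔ (⟨g * x * g⁻¹, hy⟩ : E) ∈ H) := by
      rw [inv_mem_iff, hH, mem_subgroupOf, mem_subgroupOf]
      exact hiff.symm
    have h3 := h1.2 h2
    rw [hH, mem_subgroupOf] at h3
    simpa using h3
  set c := x⁻¹ * (g * x * g⁻¹) with hcdef
  have hgx : g * x * g⁻¹ = x * c := by rw [hcdef]; group
  have hgc : g * c * g⁻¹ = c := hgz c hc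
  have hpow := conj_pow_mul g x c hgx hgc (orderOf g)
  rw [pow_orderOf_eq_one, one_mul, inv_one, mul_one] at hpow
  have hc1 : c ^ orderOf g = 1 := by
    have : x * c ^ orderOf g = x * 1 := by rw [mul_one]; exact hpow.symm
    exact mul_left_cancel this
  have hc2 : c ^ 2 = 1 := by
    obtain ⟨k, hk⟩ := mem_zpowers_iff.1 hc
    rw [← hk, ← zpow_natCast, ← zpow_mul, mul_comm, zpow_mul, zpow_natCast, ← ht,
      pow_orderOf_eq_one, one_zpow]
  have hc' : c = 1 := by
    have h1 : orderOf c ∣ orderOf g := orderOf_dvd_of_pow_eq_one hc1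
    have h2 : orderOf c ∣ 2 := orderOf_dvd_of_pow_eq_one hc2
    have := Nat.eq_one_of_dvd_coprimes hodd h1 h2
    exact orderOf_eq_one_iff.1 this
  rw [hc', mul_one] at hgx
  have : g * x = g * x * g⁻¹ * g := by group
  rw [this, hgx]

theorem result {X : Type*} [Group X] [Finite X]
    (S : Sylow 2 X) (n : ℕ) (hn : 2 ≤ n) (hS : Nonempty ((S : Subgroup X) ≃* DihedralGroup n)) (t : X)
    (ht : orderOf t = 2) :
    ∃ N : Subgroup (Subgroup.centralizer ({t} : Set X)), N.Normal ∧ Odd (Nat.card N) ∧ ∃ k : ℕ, N.index = 2 ^ k := by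
  classical
  obtain ⟨e⟩ := hS
  set C := centralizer ({t} : Set X) with hC
  have hCt : ∀ c ∈ C, c * t * c⁻¹ = t := by
    intro c hc
    have := (mem_centralizer_iff.1 hc) t (Set.mem_singleton t)
    rw [← this]; group
  have hloc : LocalPNilpotent 2 C := by
    intro D hD g hg hodd
    set D' : Subgroup X := D.map C.subtype with hD'
    have hD'C : D' ≤ C := map_subtype_le D
    have hD'p : IsPGroup 2 D' := hD.map C.subtype
    have hZp : IsPGroup 2 (zpowers t) := by
      apply IsPGroup.of_card (n := 1)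
      rw [Nat.card_zpowers, ht, pow_one]
    have hnormZ : ∀ c ∈ C, c ∈ normalizer ((zpowers t : Subgroup X) : Set X) := by
      intro c hc
      have hcz : ∀ y ∈ zpowers t, c * y * c⁻¹ = y := by
        intro y hy
        obtain ⟨k, rfl⟩ := mem_zpowers_iff.1 hy
        rw [← MulAut.conj_apply, map_zpow, MulAut.conj_apply, hCt c hc]
      rw [mem_normalizer_iff]
      intro y
      constructor
      · intro hy
        rw [hcz y hy]; exact hy
      · intro hy
        have h1 := conj_inv_fix c _ (hcz _ hy)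
        have e1 : c⁻¹ * (c * y * c⁻¹) * c = y := by group
        rw [e1] at h1
        rw [h1]; exact hy
    set E : Subgroup X := D' ⊔ zpowers t with hE
    have hEp : IsPGroup 2 E :=
      hD'p.to_sup_of_normal_right' hZp (fun d hd => hnormZ d (hD'C hd))
    obtain ⟨Q, hEQ⟩ := hEp.exists_le_sylow
    obtain ⟨a, ha⟩ := MulAction.exists_smul_eq X S Q
    have eQ : (Q : Subgroup X) ≃* DihedralGroup n := by
      rw [← ha]; exact (Sylow.equivSMul S a).symm.trans e
    obtain ⟨C0, hdih⟩ := dihData_of_equiv (Q : Subgroup X) n eQ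
    have hgD' : (g : X) ∈ normalizer (D' : Set X) := by
      have key : ∀ g : C, g ∈ normalizer (D : Set C) → ∀ y ∈ D', (g : X) * y * (g : X)⁻¹ ∈ D' := by
        rintro g hg y ⟨d, hd, rfl⟩
        exact ⟨g * d * g⁻¹, (mem_normalizer_iff.1 hg d).1 hd, rfl⟩
      rw [mem_normalizer_iff]
      intro y
      constructor
      · exact key g hg y
      · intro hy
        have := key g⁻¹ (inv_mem hg) _ hy
        have e1 : ((g⁻¹ : C) : X) * ((g : X) * y * (g : X)⁻¹) * ((g⁻¹ : C) : X)⁻¹ = y := by
          rw [Subgroup.coe_inv]; group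
        rwa [e1] at this
    have hgE : (g : X) ∈ normalizer (E : Set X) :=
      mem_normalizer_sup D' (zpowers t) g hgD' (hnormZ g g.2)
    have hgodd : (orderOf (g : X)).Coprime 2 := by rwa [Subgroup.orderOf_coe]
    have htE : t ∈ E := (le_sup_right : zpowers t ≤ E) (mem_zpowers t)
    have hcent : (g : X) ∈ centralizer (E : Set X) := by
      rcases centralizes_of_dihData hdih Q.2 E hEQ g hgE hgodd with h1 | ⟨h4, -⟩
      · exact h1
      · exact four_group_centralizes E h4 t htE ht g hgE (hCt g g.2) hgodd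
    rw [mem_centralizer_iff]
    intro d hd
    have hdE : (d : X) ∈ E := (le_sup_left : D' ≤ E) (mem_map_of_mem _ hd)
    have := (mem_centralizer_iff.1 hcent) d hdE
    exact Subtype.ext this
  obtain ⟨T⟩ : Nonempty (Sylow 2 C) := inferInstance
  obtain ⟨K, hKn, hK⟩ := exists_normal_complement_of_local hloc T
  refine ⟨K, hKn, ?_, ?_⟩
  · rw [← hK.index_eq_card, ← Nat.not_even_iff_odd, even_iff_two_dvd]
    exact T.not_dvd_index
  · obtain ⟨k, hk⟩ := T.2.exists_card_eq
    exact ⟨k, by rw [hK.symm.index_eq_card, hk]⟩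

end Cfsg.Agent.S0514
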