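import Cfsg.Statements.S0519
import Cfsg.Agent.Lib.Lead.NormalAbelianCyclic

set_option autoImplicit false
open Cfsg

namespace Cfsg.Agent.S0519

/-- Let P be a finite p-group in which every abelian normal subgroup is cyclic, but which has a non-cyclic abelian
subgroup. Then p = 2 and P is generalized quaternion, dihedral of order at least 16, or quasi-dihedral. -/
theorem result {P : Type*} [Group P] [Finite P] (p : ℕ) [Fact p.Prime]
    (hP : IsPGroup p P) (hn : ∀ A : Subgroup P, A.Normal → IsMulCommutative A → IsCyclic A)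
    (hm : ∃ B : Subgroup P, IsMulCommutative B ∧ ¬ IsCyclic B) :
    p = 2 ∧ ((∃ n : ℕ, Nonempty (P ≃* QuaternionGroup n)) ∨ (∃ n : ℕ, 8 ≤ n ∧ Nonempty (P ≃* DihedralGroup n)) ∨
      Cfsg.IsQuasiDihedral P) := by
  have hnc : ¬ IsCyclic P := by
    intro hcyc
    obtain ⟨B, -, hB⟩ := hm
    exact hB inferInstance
  have hn' : ∀ A : Subgroup P, A.Normal → (∀ x ∈ A, ∀ y ∈ A, x * y = y * x) → IsCyclic A := by
    intro A hA hAab
    exact hn A hA ⟨⟨fun x y => Subtype.ext (hAab x x.2 y y.2)⟩⟩
  obtain ⟨hp2, n, a, b, hn3, hcard, hoa, hb, hidx, hrel⟩ :=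
    Cfsg.Agent.Lib.Lead.NormalAbelianCyclic.structure_of_normal_abelian_cyclic p hP hn' hnc
  refine ⟨hp2, ?_⟩
  have hb1 : b ≠ 1 := by
    intro h
    apply hb
    rw [h]
    exact one_mem _
  rcases hrel with ⟨h4, hb2, hinv⟩ | ⟨hb2, hinv⟩ | ⟨h4, hb2, hsd⟩
  · -- dihedral
    right; left
    refine ⟨2 ^ (n - 1), ?_, ?_⟩
    · calc 8 = 2 ^ 3 := by norm_num
        _ ≤ 2 ^ (n - 1) := Nat.pow_le_pow_right (by norm_num) (by omega)
    · have hbb : b * b = 1 := by rw [← pow_two]; exact hb2
      have hbinv : b⁻¹ = b := inv_eq_of_mul_eq_one_left hbb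
      have hos : orderOf b = 2 := orderOf_eq_prime hb2 hb1
      have hba1 : b * a ≠ 1 := by
        intro h
        apply hb
        have : b = a⁻¹ := eq_inv_of_mul_eq_one_left h
        rw [this]
        exact inv_mem (Subgroup.mem_zpowers a)
      have hba2 : (b * a) ^ 2 = 1 := by
        rw [pow_two]
        calc b * a * (b * a) = (b * a * b⁻¹) * (b * b) * a := by group
          _ = 1 := by rw [hinv, hbb]; group
      have hot : orderOf (b * a) = 2 := orderOf_eq_prime hba2 hba1
      have hst : b * (b * a) = a := by rw [← mul_assoc, hbb, one_mul]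
      have htop := Cfsg.Agent.Lib.Lead.Taussky.closure_pair_eq_top Nat.prime_two hidx hb
      have hcl : Subgroup.closure ({b, b * a} : Set P) = ⊤ := by
        rw [eq_top_iff, ← htop, Subgroup.closure_le]
        have h1 : b ∈ Subgroup.closure ({b, b * a} : Set P) :=
          Subgroup.subset_closure (Set.mem_insert _ _)
        have h2 : b * a ∈ Subgroup.closure ({b, b * a} : Set P) :=
          Subgroup.subset_closure (Set.mem_insert_of_mem _ rfl)
        have h3 : a ∈ Subgroup.closure ({b, b * a} : Set P) := by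
          have := mul_mem (inv_mem h1) h2
          simpa using this
        rintro x (hx | hx)
        · rw [hx]
          exact h3
        · rw [Set.mem_singleton_iff] at hx
          rw [hx]
          exact h1
      have hD := Cfsg.Agent.Lib.Helper24.closure_pair_equiv_dihedral hos hot
      rw [hst, hoa] at hD
      obtain ⟨e⟩ := hD
      exact ⟨(Subgroup.topEquiv.symm.trans (MulEquiv.subgroupCongr hcl.symm)).trans e⟩
  · -- quaternion
    left
    refine ⟨2 ^ (n - 2), ?_⟩
    haveI : NeZero (2 ^ (n - 2)) := ⟨by positivity⟩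
    apply Cfsg.Agent.Lib.Lead.QuatIso.nonempty_mulEquiv_quaternionGroup (N := 2 ^ (n - 2)) _ hb2 hinv hb
    · rw [hcard]
      have : (4 : ℕ) = 2 ^ 2 := by norm_num
      rw [this, ← pow_add]
      congr 1
      omega
    · rw [hoa, ← pow_succ']
      congr 1
      omega
  · -- semidihedral
    right; right
    refine ⟨n - 1, by omega, ?_, a, b, hoa, orderOf_eq_prime hb2 hb1, ?_⟩
    · rw [hcard]
      congr 1
      omega
    · have : n - 1 - 1 = n - 2 := by omega
      rw [this]
      exact hsd

end Cfsg.Agent.S0519
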