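import Mathlib
import Cfsg.Agent.Lib.Helper15.QuadPStable
import Cfsg.Agent.Lib.Helper14.FrattiniQuot
import Cfsg.Agent.Lib.Helper20.AxB
import Cfsg.Agent.Lib.Helper20.Bender
import Cfsg.Agent.Lib.Helper20.Cores
import Cfsg.Agent.Lib.Helper2.Cores
import Cfsg.Agent.Lib.Helper13.Coprime
import Cfsg.Statements.S0521
-- import your own Cfsg.Agent.* helpers here

set_option autoImplicit false
open Cfsg

namespace Cfsg.Agent.S0521

open Subgroup
open scoped commutatorElement

/-- An element of a proper subgroup of a cyclic `p`-group is a `p`-th power. -/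
theorem exists_pow_of_ne_cyclic {X : Type*} [Group X] [Finite X] (p : ℕ) [hp : Fact p.Prime]
    (T U : Subgroup X) (hT : IsCyclic T) (hTp : IsPGroup p T) (hUT : U ≤ T) (hne : U ≠ T)
    (u : X) (hu : u ∈ U) : ∃ t ∈ T, u = t ^ p := by
  obtain ⟨g, hg⟩ := hT.exists_generator
  have huT : u ∈ T := hUT hu
  obtain ⟨k, hk⟩ := hg ⟨u, huT⟩
  have hk' : (g : X) ^ k = u := by
    have := congrArg Subtype.val hk
    simpa using this
  by_cases hpk : (p : ℤ) ∣ k
  · obtain ⟨m, rfl⟩ := hpk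
    refine ⟨(g : X) ^ m, T.zpow_mem g.2 m, ?_⟩
    rw [← hk', mul_comm, zpow_mul, zpow_natCast]
  · exfalso
    obtain ⟨a, ha⟩ := hTp g
    have hga : (g : X) ^ ((p : ℤ) ^ a) = 1 := by
      have := congrArg Subtype.val ha
      have h2 : (g : X) ^ (p ^ a : ℕ) = 1 := by simpa using this
      rw [← h2, ← zpow_natCast]; push_cast; rfl
    have hcop : IsCoprime k ((p : ℤ) ^ a) := by
      apply IsCoprime.pow_right
      exact ((Nat.prime_iff_prime_int.mp hp.out).irreducible.coprime_iff_not_dvd.mpr hpk).symm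
    obtain ⟨r, s, hrs⟩ := hcop
    have hgU : (g : X) ∈ U := by
      have h1 : (g : X) = ((g : X) ^ k) ^ r * ((g : X) ^ ((p : ℤ) ^ a)) ^ s := by
        rw [← zpow_mul, ← zpow_mul, ← zpow_add]
        have : k * r + (p : ℤ) ^ a * s = 1 := by linarith
        rw [this, zpow_one]
      rw [h1, hga, one_zpow, mul_one, hk']
      exact U.zpow_mem hu r
    apply hne
    apply le_antisymm hUT
    intro t ht
    obtain ⟨j, hj⟩ := hg ⟨t, ht⟩
    have hj' : (g : X) ^ j = t := by
      have := congrArg Subtype.val hj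
      simpa using this
    rw [← hj']
    exact U.zpow_mem hgU j


theorem isCyclic_of_le' {X : Type*} [Group X] {H K : Subgroup X} (hHK : H ≤ K) (hK : IsCyclic ↥K) :
    IsCyclic ↥H := by
  haveI := hK
  have h1 : IsCyclic ↥(H.subgroupOf K) := inferInstance
  exact isCyclic_of_surjective (Subgroup.subgroupOfEquivOfLe hHK).toMonoidHom
    (Subgroup.subgroupOfEquivOfLe hHK).surjective

theorem isCyclic_map' {X Y : Type*} [Group X] [Group Y] (f : X →* Y) {H : Subgroup X}
    (hH : IsCyclic ↥H) : IsCyclic ↥(H.map f) := by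
  haveI := hH
  exact isCyclic_of_surjective (f.subgroupMap H) (f.subgroupMap_surjective H)

theorem sylow_le_pCore {X : Type*} [Group X] [Finite X] [Group.IsSolvable X]
    (hX : Odd (Nat.card X)) (p : ℕ) [hp : Fact p.Prime] (hp2 : p ≠ 2)
    (hO : Cfsg.pPrimeCore p X = ⊥) (S : Sylow p X)
    (hS : IsCyclic ↥⁅(S : Subgroup X), (S : Subgroup X)⁆) :
    (S : Subgroup X) ≤ Cfsg.pCore p X := by
  obtain ⟨P, hPdef⟩ : ∃ P : Subgroup X, P = Cfsg.pCore p X := ⟨_, rfl⟩
  rw [← hPdef]
  haveI hPn : P.Normal := hPdef ▸ Cfsg.pCore_normal p X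
  have hPp : IsPGroup p P := hPdef ▸ Cfsg.Agent.Lib.Helper2.pCore_isPGroup p
  have hPS : P ≤ S := hPdef ▸ Cfsg.Agent.Lib.Helper2.pCore_le_sylow p S
  have hCP : centralizer (P : Set X) ≤ P :=
    hPdef ▸ Cfsg.Agent.Lib.Helper20.solvable_centralizer_pCore_le p hO
  obtain ⟨N, hNdef⟩ : ∃ N : Subgroup X, N = (frattini ↥P).map P.subtype := ⟨_, rfl⟩
  haveI hNn : N.Normal := hNdef ▸ ConjAct.normal_of_characteristic_of_normal
  have hNP : N ≤ P := hNdef ▸ Subgroup.map_subtype_le _
  have hcomm : ⁅P, P⁆ ≤ N := by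
    rw [hNdef, ← Subgroup.map_subtype_commutator]
    exact Subgroup.map_mono (Cfsg.Agent.Lib.Helper14.commutator_le_frattini_of_isPGroup' hPp)
  have hexp : ∀ x ∈ P, x ^ p ∈ N := by
    intro x hx
    rw [hNdef]
    exact ⟨⟨x, hx⟩ ^ p, Cfsg.Agent.Lib.Helper14.pow_mem_frattini_of_isPGroup' hPp ⟨x, hx⟩, rfl⟩
  have hab2 : ∀ T : Sylow 2 X, IsMulCommutative T := by
    intro T
    obtain ⟨k, hk⟩ := IsPGroup.iff_card.mp T.isPGroup'
    have hdvd : Nat.card (T : Subgroup X) ∣ Nat.card X := Subgroup.card_subgroup_dvd_card _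
    have hk0 : k = 0 := by
      by_contra hk0
      have h2 : 2 ∣ Nat.card (T : Subgroup X) := by
        rw [hk]; exact dvd_pow_self 2 hk0
      have := (Nat.odd_iff.mp hX)
      have h3 : 2 ∣ Nat.card X := h2.trans hdvd
      omega
    rw [hk0, pow_zero] at hk
    haveI : Subsingleton ↥(T : Subgroup X) := (Nat.card_eq_one_iff_unique.mp hk).1
    exact ⟨⟨fun a b => Subsingleton.elim _ _⟩⟩
  obtain ⟨C, hCdef⟩ : ∃ C : Subgroup X, C = (Cfsg.Agent.Lib.Helper3.quotAct N P).ker := ⟨_, rfl⟩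
  have hCmem : ∀ g : X, g ∈ C ↔ ∀ x ∈ P, g * x * g⁻¹ * x⁻¹ ∈ N := by
    intro g
    rw [hCdef, MonoidHom.mem_ker, Cfsg.Agent.Lib.Helper3.quotAct_eq_one_iff]
  haveI hCn : C.Normal := hCdef ▸ MonoidHom.normal_ker _
  -- `C` is a `p`-group
  have hCelt : ∀ g ∈ C, ∃ k : ℕ, g ^ p ^ k = 1 := by
    intro g hg
    obtain ⟨a, m, hm, hN⟩ := Nat.exists_eq_pow_mul_and_not_dvd (orderOf_pos g).ne' p hp.out.ne_one
    refine ⟨a, ?_⟩
    obtain ⟨y, hydef⟩ : ∃ y : X, y = g ^ p ^ a := ⟨_, rfl⟩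
    rw [← hydef]
    have hyC : y ∈ C := hydef ▸ C.pow_mem hg _
    have hym : y ^ m = 1 := by
      rw [hydef, ← pow_mul, ← hN]; exact pow_orderOf_eq_one g
    have hcopm : (orderOf y).Coprime p :=
      Nat.Coprime.coprime_dvd_left (orderOf_dvd_of_pow_eq_one hym)
        ((Nat.Prime.coprime_iff_not_dvd hp.out).mpr hm).symm
    obtain ⟨A, hAdef⟩ : ∃ A : Subgroup X, A = zpowers y := ⟨_, rfl⟩
    have hAC : A ≤ C := by rw [hAdef, zpowers_le]; exact hyC
    have hAcard : Nat.card A = orderOf y := by rw [hAdef, Nat.card_zpowers]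
    have hAP : A ≤ normalizer (P : Set X) := by rw [normalizer_eq_top]; exact le_top
    obtain ⟨b, hb⟩ := IsPGroup.iff_card.mp hPp
    have hcop : (Nat.card A).Coprime (Nat.card P) := by
      rw [hAcard, hb]; exact Nat.Coprime.pow_right b hcopm
    have hsolvP : Group.IsSolvable ↥P := inferInstance
    have h1 := Cfsg.Agent.Lib.Helper13.coprime_commutator_sup_centralizer A P hAP hcop
      (Or.inr hsolvP)
    have h2 : ⁅P, A⁆ ≤ N := by
      rw [Subgroup.commutator_le]
      intro k hk a ha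
      have h3 := (hCmem a).mp (hAC ha) k hk
      have h4 : ⁅k, a⁆ = (a * k * a⁻¹ * k⁻¹)⁻¹ := by rw [commutatorElement_def]; group
      rw [h4]; exact N.inv_mem h3
    have h5 : (P ⊓ centralizer (A : Set X)) ⊔ N = P := by
      apply le_antisymm (sup_le inf_le_left hNP)
      calc P = ⁅P, A⁆ ⊔ (P ⊓ centralizer (A : Set X)) := h1.symm
        _ ≤ N ⊔ (P ⊓ centralizer (A : Set X)) := sup_le_sup_right h2 _
        _ = (P ⊓ centralizer (A : Set X)) ⊔ N := sup_comm _ _
    have h6 : (P ⊓ centralizer (A : Set X)).subgroupOf P ⊔ frattini ↥P = ⊤ := by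
      have h7 : N.subgroupOf P = frattini ↥P := by
        rw [hNdef]
        exact Subgroup.comap_map_eq_self_of_injective P.subtype_injective _
      rw [← h7, ← Subgroup.subgroupOf_sup inf_le_left hNP, h5, Subgroup.subgroupOf_self]
    have h8 := frattini_nongenerating h6
    have h9 : P ≤ centralizer (A : Set X) :=
      (le_inf_iff.mp (Subgroup.subgroupOf_eq_top.mp h8)).2
    have h10 : A ≤ centralizer (P : Set X) := Subgroup.le_centralizer_iff.mp h9
    have hyP : y ∈ P := hCP (h10 (hAdef ▸ mem_zpowers y))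
    obtain ⟨j, hj⟩ := hPp ⟨y, hyP⟩
    have hj' : y ^ p ^ j = 1 := by
      have := congrArg Subtype.val hj
      simpa using this
    have h11 : orderOf y ∣ p ^ j := orderOf_dvd_of_pow_eq_one hj'
    have h12 : orderOf y = 1 :=
      Nat.Coprime.eq_one_of_dvd (Nat.Coprime.pow_right j hcopm) h11
    exact orderOf_eq_one_iff.mp h12
  have hCp : IsPGroup p C := by
    intro g
    obtain ⟨k, hk⟩ := hCelt g g.2
    exact ⟨k, Subtype.ext (by simpa using hk)⟩
  have hCP' : C ≤ P := by rw [hPdef]; exact Cfsg.Agent.Lib.Helper2.le_pCore hCn hCp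
  intro x hxS
  have hq : ⁅⁅P, zpowers x⁆, zpowers x⁆ ≤ N := by
    obtain ⟨R, hRdef⟩ : ∃ R : Subgroup X, R = zpowers x := ⟨_, rfl⟩
    rw [← hRdef]
    have hRS : R ≤ S := by rw [hRdef, zpowers_le]; exact hxS
    obtain ⟨T, hTdef⟩ : ∃ T : Subgroup X, T = ⁅P, R⁆ := ⟨_, rfl⟩
    rw [← hTdef]
    have hTS : T ≤ ⁅(S : Subgroup X), (S : Subgroup X)⁆ := hTdef ▸ Subgroup.commutator_mono hPS hRS
    have hTcyc : IsCyclic ↥T := isCyclic_of_le' hTS hS
    have hTP : T ≤ P := hTdef ▸ Subgroup.commutator_le_left P R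
    have hTp : IsPGroup p T := hPp.to_le hTP
    have hRp : IsPGroup p R := S.isPGroup'.to_le hRS
    have hRT : R ≤ normalizer (T : Set X) :=
      hTdef ▸ le_sup_right.trans (Cfsg.Agent.Lib.Helper13.le_normalizer_commutator P R)
    by_cases hT1 : T = ⊥
    · rw [hT1, Subgroup.commutator_bot_left]; exact bot_le
    have hlt := Cfsg.Agent.Lib.Helper20.card_commutator_lt_of_isPGroup p T R hTp hRp hRT hT1
    have hle : ⁅T, R⁆ ≤ T := Cfsg.Agent.Lib.Helper13.commutator_le_of_le_normalizer T R hRT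
    have hne : ⁅T, R⁆ ≠ T := by
      intro h; rw [h] at hlt; exact lt_irrefl _ hlt
    intro u hu
    obtain ⟨t, ht, rfl⟩ := exists_pow_of_ne_cyclic p T ⁅T, R⁆ hTcyc hTp hle hne u hu
    exact hexp t (hTP ht)
  obtain ⟨D, hDn, hCD, hxD, hDpow⟩ :=
    Cfsg.Agent.Lib.Helper15.QuadInternal.core_section p hp2 P N hcomm hexp hab2 x hq
  have hDp : IsPGroup p D := by
    intro d
    obtain ⟨k, hk⟩ := hDpow d d.2
    rw [← hCdef] at hk
    obtain ⟨j, hj⟩ := hCelt _ hk
    refine ⟨k + j, Subtype.ext ?_⟩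
    rw [pow_add, pow_mul]
    simpa using hj
  rw [hPdef]
  exact (Cfsg.Agent.Lib.Helper2.le_pCore hDn hDp) hxD

end Cfsg.Agent.S0521

namespace Cfsg.Agent.S0521

/-- Let X be a finite solvable group of odd order, p a prime and S a Sylow p-subgroup of X whose commutator subgroup is
cyclic. Then the product of the largest normal subgroup of X of order prime to p with S is a normal subgroup of X. -/
theorem result {X : Type*} [Group X] [Finite X] [Group.IsSolvable X]
    (hX : Odd (Nat.card X)) (p : ℕ) [Fact p.Prime] (S : Sylow p X) (hS : IsCyclic (commutator (S : Subgroup X))) :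
    (Cfsg.pPrimeCore p X ⊔ (S : Subgroup X)).Normal := by
  by_cases hp2 : p = 2
  · subst hp2
    have htop : Cfsg.pPrimeCore 2 X = ⊤ := by
      apply top_le_iff.mp
      apply le_sSup
      refine ⟨inferInstance, ?_⟩
      rw [Subgroup.card_top]
      exact (Nat.coprime_comm.mp ((Nat.coprime_two_left).mpr hX))
    rw [htop, top_sup_eq]
    infer_instance
  · obtain ⟨O, hOdef⟩ : ∃ O : Subgroup X, O = Cfsg.pPrimeCore p X := ⟨_, rfl⟩
    rw [← hOdef]
    haveI hOn : O.Normal := hOdef ▸ Cfsg.pPrimeCore_normal p X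
    have hOq : Cfsg.pPrimeCore p (X ⧸ O) = ⊥ := by
      subst hOdef
      exact Cfsg.Agent.Lib.Helper20.pPrimeCore_quotient_eq_bot p
    have hsurj : Function.Surjective (QuotientGroup.mk' O) := QuotientGroup.mk'_surjective O
    have hoddq : Odd (Nat.card (X ⧸ O)) :=
      Odd.of_dvd_nat hX (Subgroup.card_quotient_dvd_card O)
    have hS' : IsCyclic ↥⁅(S : Subgroup X), (S : Subgroup X)⁆ := by
      rw [← Subgroup.map_subtype_commutator]
      exact isCyclic_map' _ hS
    have hSq : IsCyclic ↥⁅((S.mapSurjective hsurj : Sylow p (X ⧸ O)) : Subgroup (X ⧸ O)),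
        ((S.mapSurjective hsurj : Sylow p (X ⧸ O)) : Subgroup (X ⧸ O))⁆ := by
      rw [Sylow.coe_mapSurjective, ← Subgroup.map_commutator]
      exact isCyclic_map' _ hS'
    have hle := sylow_le_pCore hoddq p hp2 hOq (S.mapSurjective hsurj) hSq
    have heq : ((S.mapSurjective hsurj : Sylow p (X ⧸ O)) : Subgroup (X ⧸ O)) =
        Cfsg.pCore p (X ⧸ O) :=
      le_antisymm hle (Cfsg.Agent.Lib.Helper2.pCore_le_sylow p _)
    have hn : ((S : Subgroup X).map (QuotientGroup.mk' O)).Normal := by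
      rw [← Sylow.coe_mapSurjective hsurj, heq]
      exact Cfsg.pCore_normal p _
    have hn2 : (((S : Subgroup X).map (QuotientGroup.mk' O)).comap (QuotientGroup.mk' O)).Normal :=
      hn.comap _
    rw [Subgroup.comap_map_eq, QuotientGroup.ker_mk', sup_comm] at hn2
    exact hn2

end Cfsg.Agent.S0521
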