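import Cfsg.Statements.S0535
import Mathlib
import Cfsg.Agent.S0007
import Cfsg.Agent.S0019
import Cfsg.Agent.S0144
import Cfsg.Agent.Lib.Helper13.SZConjA

set_option autoImplicit false
open Pointwise
open Cfsg

namespace Cfsg.Agent.S0535

theorem aux {G : Type*} [Group G] [Finite G] (h : ∀ H : Subgroup G, H ≠ ⊥ → ∀ p : ℕ, p.Prime → p ∣ Nat.card H → ∃ K : Subgroup H, K ≠ ⊤ ∧ ∃ k : ℕ, K.index = p ^ k) (n : ℕ) :
    ∀ H : Subgroup G, Nat.card H = n → Group.IsSolvable H := by
  induction n using Nat.strong_induction_on with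
  | _ n ih =>
  intro H hcard
  -- proper subgroups of `H` are solvable
  have hprop : ∀ K : Subgroup H, K ≠ ⊤ → Group.IsSolvable K := by
    intro K hK
    have hlt : Nat.card (K.map H.subtype) < n := by
      rw [Subgroup.card_map_of_injective H.subtype_injective, ← hcard]
      have h1 := Cfsg.Agent.Lib.Helper13.card_lt_of_lt (lt_top_iff_ne_top.mpr hK)
      rwa [Subgroup.card_top] at h1
    have := ih _ hlt (K.map H.subtype) rfl
    exact Group.isSolvable_of_isSolvable_injective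
      (f := (K.equivMapOfInjective H.subtype H.subtype_injective).toMonoidHom)
      (K.equivMapOfInjective H.subtype H.subtype_injective).injective
  by_cases hbot : H = ⊥
  · subst hbot
    exact Group.isSolvable_of_comm (fun a b => Subsingleton.elim _ _)
  have hn1 : Nat.card H ≠ 1 := fun h1 => hbot (Subgroup.card_eq_one.mp h1)
  have hn0 : Nat.card H ≠ 0 := Nat.card_pos.ne'
  -- first prime
  obtain ⟨p, hp, hpn⟩ := Nat.exists_prime_and_dvd hn1
  obtain ⟨a, m, hpm, hnm⟩ := Nat.exists_eq_pow_mul_and_not_dvd hn0 p hp.ne_one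
  by_cases hm1 : m = 1
  · exact Cfsg.Agent.S0144.result p p a 0 hp hp (by rw [hnm, hm1, pow_zero])
  have hm0 : m ≠ 0 := by
    rintro rfl
    rw [mul_zero] at hnm
    exact hn0 hnm
  obtain ⟨q, hq, hqm⟩ := Nat.exists_prime_and_dvd hm1
  have hqn : q ∣ Nat.card H := hnm ▸ Dvd.dvd.mul_left hqm _
  have hpq : p ≠ q := fun e => hpm (e ▸ hqm)
  obtain ⟨b, m', hqm', hmm'⟩ := Nat.exists_eq_pow_mul_and_not_dvd hm0 q hq.ne_one
  by_cases hm'1 : m' = 1
  · exact Cfsg.Agent.S0144.result p q a b hp hq (by rw [hnm, hmm', hm'1, mul_one])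
  obtain ⟨r, hr, hrm'⟩ := Nat.exists_prime_and_dvd hm'1
  have hrm : r ∣ m := hmm' ▸ Dvd.dvd.mul_left hrm' _
  have hrn : r ∣ Nat.card H := hnm ▸ Dvd.dvd.mul_left hrm _
  have hpr : p ≠ r := fun e => hpm (e ▸ hrm)
  have hqr : q ≠ r := fun e => hqm' (e ▸ hrm')
  obtain ⟨Kp, hKp, kp, hkp⟩ := h H hbot p hp hpn
  obtain ⟨Kq, hKq, kq, hkq⟩ := h H hbot q hq hqn
  obtain ⟨Kr, hKr, kr, hkr⟩ := h H hbot r hr hrn
  have cpq : Kp.index.Coprime Kq.index := by
    rw [hkp, hkq]; exact Nat.Coprime.pow _ _ ((Nat.coprime_primes hp hq).mpr hpq)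
  have cpr : Kp.index.Coprime Kr.index := by
    rw [hkp, hkr]; exact Nat.Coprime.pow _ _ ((Nat.coprime_primes hp hr).mpr hpr)
  have cqr : Kq.index.Coprime Kr.index := by
    rw [hkq, hkr]; exact Nat.Coprime.pow _ _ ((Nat.coprime_primes hq hr).mpr hqr)
  exact Cfsg.Agent.S0019.result Kp Kq Kr (hprop Kp hKp) (hprop Kq hKq) (hprop Kr hKr)
    (Cfsg.Agent.S0007.result Kp Kq cpq).2 (Cfsg.Agent.S0007.result Kp Kr cpr).2 cqr

end Cfsg.Agent.S0535

namespace Cfsg.Agent.S0535

/-- Suppose that for every nontrivial subgroup H of a finite group and every prime p dividing the order of H there is a proper subgroup of H whose index in H is a power of p. Then the group is solvable. -/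
theorem result {G : Type*} [Group G] [Finite G] (h : ∀ H : Subgroup G, H ≠ ⊥ → ∀ p : ℕ, p.Prime → p ∣ Nat.card H → ∃ K : Subgroup H, K ≠ ⊤ ∧ ∃ k : ℕ, K.index = p ^ k) : Group.IsSolvable G := by
  have := aux h _ (⊤ : Subgroup G) rfl
  exact Group.isSolvable_of_isSolvable_injective (f := (Subgroup.topEquiv (G := G)).symm.toMonoidHom)
    (Subgroup.topEquiv (G := G)).symm.injective

end Cfsg.Agent.S0535
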