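import Cfsg.Statements.S0540
import Mathlib
import Cfsg.Agent.Lib.Helper13.Zipper

set_option autoImplicit false
open Pointwise
open Cfsg

namespace Cfsg.Agent.S0540

open Cfsg.Agent.Lib.Helper13

theorem le_normalizer_sSup {G : Type*} [Group G] {𝒮 : Set (Subgroup G)} {V : Subgroup G}
    (h : ∀ B ∈ 𝒮, ∀ v ∈ V, MulAut.conj v • B ∈ 𝒮) : V ≤ Subgroup.normalizer ((sSup 𝒮 : Subgroup G) : Set G) := by
  have key : ∀ v ∈ V, MulAut.conj v • sSup 𝒮 ≤ sSup 𝒮 := by
    intro v hv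
    rw [Subgroup.pointwise_smul_subset_iff]
    apply sSup_le
    intro B hB
    rw [← Subgroup.pointwise_smul_subset_iff]
    exact le_sSup (h B hB v hv)
  intro v hv
  rw [← cj_eq_self_iff_mem_normalizer]
  apply le_antisymm (key v hv)
  have := key v⁻¹ (V.inv_mem hv)
  rw [Subgroup.pointwise_smul_subset_iff, map_inv, inv_inv] at this
  exact this

theorem main {G : Type*} [Group G] [Finite G] (A : Subgroup G) (U : Set (Subgroup G)) (hU : U.Nonempty) (S : Subgroup G → Set (Subgroup G)) (hS : ∀ V B : Subgroup G, B ∈ S V ↔ (∃ g : G, B = MulAut.conj g • A) ∧ B ≤ V ∧ (B.subgroupOf V).IsSubnormal) (h1 : ∀ V ∈ U, A ∈ S V) (h2 : ∀ V ∈ U, ∀ W ∈ U, ∀ B ∈ S W, B ≤ V → B ∈ S V) (h3 : ∀ V ∈ U, ∀ W ∈ U, ∃ X ∈ U, Subgroup.normalizer ((sSup (S V ∩ S W) : Subgroup G) : Set G) ≤ X) : ∃ M ∈ U, ∀ V ∈ U, V ≤ M := by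
  have hfin : U.Finite := Set.toFinite U
  by_contra hcon
  push Not at hcon
  -- two distinct maximal elements
  obtain ⟨V₀, hV₀⟩ := hU
  obtain ⟨M₁, -, hM₁⟩ := hfin.exists_le_maximal hV₀
  obtain ⟨W₀, hW₀, hW₀M⟩ := hcon M₁ hM₁.1
  obtain ⟨M₂, hWM₂, hM₂⟩ := hfin.exists_le_maximal hW₀
  have hne : M₁ ≠ M₂ := fun h => hW₀M (h ▸ hWM₂)
  -- the set of pairs
  obtain ⟨P, hP⟩ : ∃ P : Set (Subgroup G × Subgroup G),
      P = {x | Maximal (· ∈ U) x.1 ∧ Maximal (· ∈ U) x.2 ∧ x.1 ≠ x.2} := ⟨_, rfl⟩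
  have hPne : P.Nonempty := ⟨(M₁, M₂), by rw [hP]; exact ⟨hM₁, hM₂, hne⟩⟩
  obtain ⟨⟨V, W⟩, hVW, hmax⟩ := Set.exists_max_image P
    (fun x => Nat.card (sSup (S x.1 ∩ S x.2) : Subgroup G)) (Set.toFinite P) hPne
  rw [hP] at hVW
  obtain ⟨hV, hW, hVWne⟩ := hVW
  simp only at hV hW hVWne hmax
  obtain ⟨X₀, hX₀U, hX₀⟩ := h3 V hV.1 W hW.1
  obtain ⟨X, hX₀X, hX⟩ := hfin.exists_le_maximal hX₀U
  have hNX : Subgroup.normalizer ((sSup (S V ∩ S W) : Subgroup G) : Set G) ≤ X := hX₀.trans hX₀X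
  -- the key claim
  have key : ∀ V W : Subgroup G, Maximal (· ∈ U) V → Maximal (· ∈ U) W →
      (∀ b ∈ P, Nat.card (sSup (S b.1 ∩ S b.2) : Subgroup G) ≤ Nat.card (sSup (S V ∩ S W) : Subgroup G)) →
      Subgroup.normalizer ((sSup (S V ∩ S W) : Subgroup G) : Set G) ≤ X → V = X := by
    intro V W hV hW hmax hNX
    by_contra hVX
    obtain ⟨D, hD⟩ : ∃ D, D = (sSup (S V ∩ S W) : Subgroup G) := ⟨_, rfl⟩
    rw [← hD] at hNX hmax
    have hDX : D ≤ X := Subgroup.le_normalizer.trans hNX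
    -- S V ∩ S W ⊆ S V ∩ S X
    have hsub : S V ∩ S W ⊆ S V ∩ S X := by
      intro B hB
      refine ⟨hB.1, h2 X hX.1 V hV.1 B hB.1 ?_⟩
      exact (le_sSup hB).trans (hD ▸ hDX)
    have hDle : D ≤ sSup (S V ∩ S X) := hD ▸ sSup_le_sSup hsub
    have hDeq : D = sSup (S V ∩ S X) := by
      apply Subgroup.eq_of_le_of_card_ge hDle
      exact hmax (V, X) (by rw [hP]; exact ⟨hV, hX, hVX⟩)
    have hDW : D ≤ W := by
      rw [hD]
      apply sSup_le
      intro B hB
      exact ((hS W B).mp hB.2).2.1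
    by_cases hcase : S V ⊆ S W
    · -- V normalizes D
      have e : S V ∩ S W = S V := Set.inter_eq_left.mpr hcase
      have hVN : V ≤ Subgroup.normalizer (D : Set G) := by
        rw [hD, e]
        apply le_normalizer_sSup
        intro B hB v hv
        obtain ⟨⟨g, hg⟩, hBV, hBsn⟩ := (hS V B).mp hB
        rw [hS]
        refine ⟨⟨v * g, by rw [hg, cj_mul]⟩, ?_, ?_⟩
        · have := cj_le_cj (g := v) hBV
          rwa [Subgroup.conj_smul_eq_self_of_mem hv] at this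
        · have := relSubn_cj v hBsn
          rwa [Subgroup.conj_smul_eq_self_of_mem hv] at this
      exact hVX (hV.eq_of_le hX.1 (hVN.trans hNX))
    · -- some member of S V outside S W normalizes D
      obtain ⟨B₀, hB₀V, hB₀W⟩ := Set.not_subset.mp hcase
      obtain ⟨𝒮, h𝒮⟩ : ∃ 𝒮 : Set (Subgroup V), 𝒮 = {T | T.map V.subtype ∈ S V} := ⟨_, rfl⟩
      obtain ⟨𝒮₀, h𝒮₀⟩ : ∃ 𝒮₀ : Set (Subgroup V), 𝒮₀ = {T | T.map V.subtype ∈ S V ∩ S W} := ⟨_, rfl⟩
      have hmem : ∀ B ∈ S V, (B.subgroupOf V).map V.subtype = B := by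
        intro B hB
        exact Subgroup.map_subgroupOf_eq_of_le ((hS V B).mp hB).2.1
      have h𝒮sn : ∀ T ∈ 𝒮, T.IsSubnormal := by
        intro T hT
        rw [h𝒮] at hT
        have := ((hS V _).mp hT).2.2
        rwa [← Subgroup.comap_subtype, Subgroup.comap_map_eq_self_of_injective V.subtype_injective] at this
      have h𝒮conj : ∀ T ∈ 𝒮, ∀ v : V, MulAut.conj v • T ∈ 𝒮 := by
        intro T hT v
        rw [h𝒮] at hT ⊢
        show (MulAut.conj v • T).map V.subtype ∈ S V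
        rw [map_cj]
        obtain ⟨⟨g, hg⟩, hBV, hBsn⟩ := (hS V _).mp hT
        rw [hS]
        refine ⟨⟨(v : G) * g, by rw [hg, cj_mul]; rfl⟩, ?_, ?_⟩
        · have := cj_le_cj (g := (v : G)) hBV
          rwa [Subgroup.conj_smul_eq_self_of_mem v.2] at this
        · have := relSubn_cj (v : G) hBsn
          rwa [Subgroup.conj_smul_eq_self_of_mem v.2] at this
      have hss : 𝒮₀ ⊂ 𝒮 := by
        rw [Set.ssubset_iff_exists]
        refine ⟨?_, B₀.subgroupOf V, ?_, ?_⟩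
        · intro T hT
          rw [h𝒮₀] at hT
          rw [h𝒮]
          exact hT.1
        · rw [h𝒮]
          show (B₀.subgroupOf V).map V.subtype ∈ S V
          rw [hmem B₀ hB₀V]; exact hB₀V
        · rw [h𝒮₀]
          show ¬ (B₀.subgroupOf V).map V.subtype ∈ S V ∩ S W
          rw [hmem B₀ hB₀V]
          exact fun h => hB₀W h.2
      obtain ⟨T, hT𝒮, hT𝒮₀, hTN⟩ :=
        Cfsg.Agent.Lib.Helper20.exists_mem_normalizing_sSup 𝒮 𝒮₀ h𝒮sn h𝒮conj hss
      have hmapD : (sSup 𝒮₀ : Subgroup V).map V.subtype = D := by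
        apply le_antisymm
        · rw [Subgroup.map_le_iff_le_comap]
          apply sSup_le
          intro T' hT'
          rw [← Subgroup.map_le_iff_le_comap, hD]
          rw [h𝒮₀] at hT'
          exact le_sSup hT'
        · rw [hD]
          apply sSup_le
          intro B hB
          rw [← hmem B hB.1]
          apply Subgroup.map_mono
          apply le_sSup
          rw [h𝒮₀]
          show (B.subgroupOf V).map V.subtype ∈ S V ∩ S W
          rw [hmem B hB.1]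
          exact hB
      obtain ⟨B, hB⟩ : ∃ B : Subgroup G, B = T.map V.subtype := ⟨_, rfl⟩
      have hBV : B ∈ S V := by rw [hB]; rw [h𝒮] at hT𝒮; exact hT𝒮
      have hBW : B ∉ S W := by
        intro h
        apply hT𝒮₀
        rw [h𝒮₀]
        exact ⟨hB ▸ hBV, hB ▸ h⟩
      have hBN : B ≤ Subgroup.normalizer (D : Set G) := by
        rw [hB, ← hmapD]
        exact (Subgroup.map_mono hTN).trans (Subgroup.le_normalizer_map _)
      have hBX : B ∈ S X := h2 X hX.1 V hV.1 B hBV (hBN.trans hNX)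
      have hBD : B ≤ D := by
        rw [hDeq]
        exact le_sSup ⟨hBV, hBX⟩
      exact hBW (h2 W hW.1 V hV.1 B hBV (hBD.trans hDW))
  have e1 := key V W hV hW hmax hNX
  have e2 := key W V hW hV (by rw [Set.inter_comm]; exact hmax) (by rw [Set.inter_comm]; exact hNX)
  exact hVWne (e1.trans e2.symm)


end Cfsg.Agent.S0540

namespace Cfsg.Agent.S0540


/-- A uniqueness lemma of zipper type. Let A be a subgroup of a finite group G and U a nonempty family of subgroups. For V in U write S(V) for the set of conjugates of A that lie in V and are subnormal in V. Assume: A belongs to S(V) for every V in U; a member of some S(W) that lies in V belongs to S(V); and for all V, W in U the normalizer of the join of S(V) ∩ S(W) lies in some member of U. Then U has a greatest element. -/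
theorem result {G : Type*} [Group G] [Finite G] (A : Subgroup G) (U : Set (Subgroup G)) (hU : U.Nonempty) (S : Subgroup G → Set (Subgroup G)) (hS : ∀ V B : Subgroup G, B ∈ S V ↔ (∃ g : G, B = MulAut.conj g • A) ∧ B ≤ V ∧ (B.subgroupOf V).IsSubnormal) (h1 : ∀ V ∈ U, A ∈ S V) (h2 : ∀ V ∈ U, ∀ W ∈ U, ∀ B ∈ S W, B ≤ V → B ∈ S V) (h3 : ∀ V ∈ U, ∀ W ∈ U, ∃ X ∈ U, Subgroup.normalizer ((sSup (S V ∩ S W) : Subgroup G) : Set G) ≤ X) : ∃ M ∈ U, ∀ V ∈ U, V ≤ M := by
  exact main A U hU S hS h1 h2 h3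

end Cfsg.Agent.S0540
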