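import Cfsg.Statements.S0541
import Mathlib
import Cfsg.Agent.Lib.Helper13.RelNormSup

set_option autoImplicit false
open Pointwise
open Cfsg

namespace Cfsg.Agent.S0541

open Cfsg.Agent.Lib.Helper13

theorem main {G : Type*} [Group G] [Finite G] (p : ℕ) [Fact p.Prime] (Z Y : Subgroup G) (h : ∀ g : G, IsPGroup p ↥(⨆ y ∈ Y, MulAut.conj (y * g) • Z)) : ∃ P : Sylow p G, Y ≤ Subgroup.normalizer ((⨆ g ∈ {g : G | MulAut.conj g • Z ≤ (P : Subgroup G)}, MulAut.conj g • Z : Subgroup G) : Set G) := by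
  obtain ⟨Sg, hSg⟩ : ∃ Sg : Set (Subgroup G), Sg = {B | ∃ g : G, B = MulAut.conj g • Z} :=
    ⟨{B | ∃ g : G, B = MulAut.conj g • Z}, rfl⟩
  have hSgmem : ∀ g, MulAut.conj g • Z ∈ Sg := fun g => by rw [hSg]; exact ⟨g, rfl⟩
  have hRY : ∀ g, Y ≤ Subgroup.normalizer ((⨆ y ∈ Y, MulAut.conj (y * g) • Z : Subgroup G) : Set G) := by
    intro g
    have e : (⨆ y ∈ Y, MulAut.conj (y * g) • Z) =
        sSup {B | ∃ y ∈ Y, B = MulAut.conj (y * g) • Z} := by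
      apply le_antisymm
      · exact iSup₂_le (fun y hy => le_sSup ⟨y, hy, rfl⟩)
      · apply sSup_le
        rintro B ⟨y, hy, rfl⟩
        exact le_iSup₂ (f := fun y (_ : y ∈ Y) => MulAut.conj (y * g) • Z) y hy
    rw [e]
    apply le_normalizer_sSup_of_conj
    rintro B ⟨y, hy, rfl⟩ v hv
    exact ⟨v * y, Y.mul_mem hv hy, by rw [mul_assoc, cj_mul v (y * g)]⟩
  obtain ⟨𝒯, h𝒯⟩ : ∃ 𝒯 : Set (Subgroup G), 𝒯 = {T : Subgroup G | IsPGroup p T ∧
      Y ≤ Subgroup.normalizer (T : Set G) ∧ T ≤ sSup {B : Subgroup G | B ∈ Sg ∧ B ≤ T}} :=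
    ⟨{T : Subgroup G | IsPGroup p T ∧
      Y ≤ Subgroup.normalizer (T : Set G) ∧ T ≤ sSup {B : Subgroup G | B ∈ Sg ∧ B ≤ T}}, rfl⟩
  have hRmem : ∀ g, (⨆ y ∈ Y, MulAut.conj (y * g) • Z) ≤
      sSup {B | B ∈ Sg ∧ B ≤ (⨆ y ∈ Y, MulAut.conj (y * g) • Z)} := by
    intro g
    apply iSup₂_le
    intro y hy
    apply le_sSup
    exact ⟨hSgmem _, le_iSup₂ (f := fun y (_ : y ∈ Y) => MulAut.conj (y * g) • Z) y hy⟩
  have h𝒯ne : 𝒯.Nonempty := ⟨⨆ y ∈ Y, MulAut.conj (y * 1) • Z, by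
    rw [h𝒯]; exact ⟨h 1, hRY 1, hRmem 1⟩⟩
  obtain ⟨T, hT𝒯, hTmax⟩ := Set.exists_max_image 𝒯 (fun T => Nat.card T) (Set.toFinite _) h𝒯ne
  have hT' := hT𝒯
  rw [h𝒯] at hT'
  obtain ⟨hTp, hTY, hTgen⟩ := hT'
  obtain ⟨P, hTP⟩ := hTp.exists_le_sylow
  have hTeq : sSup {B | B ∈ Sg ∧ B ≤ T} = T :=
    le_antisymm (sSup_le (fun B hB => hB.2)) hTgen
  -- main claim
  have claim : ∀ B ∈ Sg, B ≤ (P : Subgroup G) → B ≤ T := by
    intro B₀ hB₀ hB₀P
    by_contra hB₀T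
    have hss : {B | B ∈ Sg ∧ B ≤ T} ⊂ {B | B ∈ Sg ∧ B ≤ (P : Subgroup G)} := by
      rw [Set.ssubset_iff_exists]
      exact ⟨fun B hB => ⟨hB.1, hB.2.trans hTP⟩, B₀, ⟨hB₀, hB₀P⟩, fun hh => hB₀T hh.2⟩
    obtain ⟨B', hB'𝒮, hB'𝒮₀, hB'N⟩ := rel_exists_mem_normalizing_sSup (P : Subgroup G)
      {B | B ∈ Sg ∧ B ≤ (P : Subgroup G)} {B | B ∈ Sg ∧ B ≤ T} (fun B hB => hB.2)
      (fun B _ => relSubn_of_isPGroup P.2 B)
      (by
        rintro B ⟨hB1, hB2⟩ v hv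
        refine ⟨?_, ?_⟩
        · rw [hSg] at hB1 ⊢
          obtain ⟨g, rfl⟩ := hB1
          exact ⟨v * g, by rw [cj_mul]⟩
        · have := cj_le_cj (g := v) hB2
          rwa [Subgroup.conj_smul_eq_self_of_mem hv] at this) hss
    rw [hTeq] at hB'N
    have hB'Sg := hB'𝒮.1
    rw [hSg] at hB'Sg
    obtain ⟨g', hg'⟩ := hB'Sg
    obtain ⟨R, hR⟩ : ∃ R, R = ⨆ y ∈ Y, MulAut.conj (y * g') • Z := ⟨_, rfl⟩
    have hRp : IsPGroup p R := hR ▸ h g'
    have hRYn : Y ≤ Subgroup.normalizer (R : Set G) := hR ▸ hRY g'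
    have hRT : R ≤ Subgroup.normalizer (T : Set G) := by
      rw [hR]
      apply iSup₂_le
      intro y hy
      rw [cj_mul, ← hg']
      have := cj_le_normalizer_cj (g := y) hB'N
      rwa [cj_eq_self_iff_mem_normalizer.mpr (hTY hy)] at this
    have hB'R : B' ≤ R := by
      rw [hR, hg']
      have := le_iSup₂ (f := fun y (_ : y ∈ Y) => MulAut.conj (y * g') • Z) 1 Y.one_mem
      simpa using this
    have hTsp : IsPGroup p (R ⊔ T : Subgroup G) := IsPGroup.to_sup_of_normal_right' hRp hTp hRT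
    have hTsY : Y ≤ Subgroup.normalizer ((R ⊔ T : Subgroup G) : Set G) := by
      intro v hv
      rw [← cj_eq_self_iff_mem_normalizer, Subgroup.smul_sup,
        cj_eq_self_iff_mem_normalizer.mpr (hRYn hv), cj_eq_self_iff_mem_normalizer.mpr (hTY hv)]
    have hTsgen : R ⊔ T ≤ sSup {B | B ∈ Sg ∧ B ≤ R ⊔ T} := by
      apply sup_le
      · rw [hR]
        refine (hRmem g').trans (sSup_le_sSup ?_)
        intro B hB
        exact ⟨hB.1, hB.2.trans (hR ▸ le_sup_left)⟩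
      · refine hTgen.trans (sSup_le_sSup ?_)
        intro B hB
        exact ⟨hB.1, hB.2.trans le_sup_right⟩
    have hmem : (R ⊔ T) ∈ 𝒯 := by rw [h𝒯]; exact ⟨hTsp, hTsY, hTsgen⟩
    have hcard := hTmax _ hmem
    have heq : T = R ⊔ T := Subgroup.eq_of_le_of_card_ge le_sup_right hcard
    apply hB'𝒮₀
    exact ⟨hB'𝒮.1, heq ▸ hB'R.trans le_sup_left⟩
  refine ⟨P, ?_⟩
  have hw : (⨆ g ∈ {g : G | MulAut.conj g • Z ≤ (P : Subgroup G)}, MulAut.conj g • Z) = T := by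
    apply le_antisymm
    · apply iSup₂_le
      intro g hg
      exact claim _ (hSgmem g) hg
    · refine hTgen.trans (sSup_le ?_)
      rintro B ⟨hB1, hB2⟩
      rw [hSg] at hB1
      obtain ⟨g, rfl⟩ := hB1
      exact le_iSup₂ (f := fun g (_ : g ∈ {g : G | MulAut.conj g • Z ≤ (P : Subgroup G)}) =>
        MulAut.conj g • Z) g (hB2.trans hTP)
  rw [hw]
  exact hTY

end Cfsg.Agent.S0541

namespace Cfsg.Agent.S0541

/-- Let Z and Y be subgroups of a finite group G and p a prime. Suppose that for every g in G the subgroup generated by the conjugates of g Z g⁻¹ under Y is a p-group. Then there is a Sylow p-subgroup P of G such that Y normalizes the subgroup generated by all conjugates of Z contained in P. -/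
theorem result {G : Type*} [Group G] [Finite G] (p : ℕ) [Fact p.Prime] (Z Y : Subgroup G) (h : ∀ g : G, IsPGroup p ↥(⨆ y ∈ Y, MulAut.conj (y * g) • Z)) : ∃ P : Sylow p G, Y ≤ Subgroup.normalizer ((⨆ g ∈ {g : G | MulAut.conj g • Z ≤ (P : Subgroup G)}, MulAut.conj g • Z : Subgroup G) : Set G) := by
  exact main p Z Y h

end Cfsg.Agent.S0541
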