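import Cfsg.Statements.S0542

set_option autoImplicit false
open Cfsg

namespace Cfsg.Agent.S0542

/-- For a normal subgroup `N` of a finite group and any subgroup `P`,
`|N : P ∩ N|` divides `|G : P|`. -/
theorem relIndex_dvd_index_of_normal_right {G : Type*} [Group G] [Finite G]
    (P N : Subgroup G) [N.Normal] : P.relIndex N ∣ P.index := by
  have h1 : N.relIndex (P ⊔ N) = N.relIndex P := Subgroup.relIndex_sup_right P N
  have h2 : (P ⊓ N).relIndex N * N.relIndex (P ⊔ N) = (P ⊓ N).relIndex (P ⊔ N) :=
    Subgroup.relIndex_mul_relIndex _ _ _ inf_le_right le_sup_right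
  have h3 : (P ⊓ N).relIndex P * P.relIndex (P ⊔ N) = (P ⊓ N).relIndex (P ⊔ N) :=
    Subgroup.relIndex_mul_relIndex _ _ _ inf_le_left le_sup_left
  rw [Subgroup.inf_relIndex_right, h1] at h2
  rw [Subgroup.inf_relIndex_left] at h3
  have h4 : N.relIndex P ≠ 0 := by
    have : (N.subgroupOf P).index ≠ 0 := Subgroup.index_ne_zero_of_finite
    exact this
  have h5 : P.relIndex N = P.relIndex (P ⊔ N) := by
    have : N.relIndex P * P.relIndex N = N.relIndex P * P.relIndex (P ⊔ N) := by
      rw [h3, mul_comm, h2]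
    exact Nat.eq_of_mul_eq_mul_left (Nat.pos_of_ne_zero h4) this
  rw [h5]
  exact Subgroup.relIndex_dvd_index_of_le le_sup_left

theorem relIndex_dvd_index_of_isSubnormal {G : Type*} [Group G] [Finite G]
    (S : Subgroup G) {H : Subgroup G} (hH : H.IsSubnormal) : S.relIndex H ∣ S.index := by
  induction hH with
  | top => rw [Subgroup.relIndex_top_right]
  | step H K h_le _ hN ih =>
    have h1 : (S.subgroupOf K).relIndex (H.subgroupOf K) = S.relIndex H :=
      Subgroup.relIndex_subgroupOf h_le
    have h2 : (S.subgroupOf K).relIndex (H.subgroupOf K) ∣ (S.subgroupOf K).index := by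
      haveI := hN
      exact relIndex_dvd_index_of_normal_right (S.subgroupOf K) (H.subgroupOf K)
    rw [h1] at h2
    exact dvd_trans h2 ih

theorem result {G : Type*} [Group G] [Finite G] (p : ℕ) [Fact p.Prime] (H : Subgroup G) (hH : H.IsSubnormal) (S : Sylow p G) : ∃ Q : Sylow p H, (Q : Subgroup H) = (S : Subgroup G).subgroupOf H := by
  have h1 : IsPGroup p ((S : Subgroup G).subgroupOf H) := S.isPGroup'.comap_subtype
  have h2 : ¬ p ∣ ((S : Subgroup G).subgroupOf H).index := by
    intro h
    exact S.not_dvd_index (dvd_trans h (relIndex_dvd_index_of_isSubnormal (S : Subgroup G) hH))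
  exact ⟨h1.toSylow h2, rfl⟩

end Cfsg.Agent.S0542
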