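import Mathlib
import Cfsg.Statements.S0546
import Cfsg.Agent.S0545

set_option autoImplicit false
open Cfsg

namespace Cfsg.Agent.S0546

open scoped commutatorElement

/-- The normal closure of a system normalizer of a finite solvable group is the whole group. -/
theorem result {G : Type*} [Group G] [Finite G] [Group.IsSolvable G] (K : Nat.Primes → Subgroup G) (hK : Cfsg.IsComplementSystem K) : Subgroup.normalClosure ((Cfsg.systemNormalizer K : Subgroup G) : Set G) = ⊤ := by
  by_contra hne
  have hMn : (Subgroup.normalClosure ((Cfsg.systemNormalizer K : Subgroup G) : Set G)).Normal :=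
    Subgroup.normalClosure_normal
  have hDM : Cfsg.systemNormalizer K ≤
      Subgroup.normalClosure ((Cfsg.systemNormalizer K : Subgroup G) : Set G) :=
    Subgroup.le_normalClosure
  generalize Subgroup.normalClosure ((Cfsg.systemNormalizer K : Subgroup G) : Set G) = M
    at hne hMn hDM
  have hM₁n : (M ⊔ commutator G).Normal := inferInstance
  have hM₁ne : M ⊔ commutator G ≠ ⊤ := by
    intro htop
    have hnt : Nontrivial (G ⧸ M) := by
      by_contra hnn
      rw [not_nontrivial_iff_subsingleton] at hnn
      apply hne
      rw [eq_top_iff]; intro g _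
      have : (QuotientGroup.mk' M g) = 1 := Subsingleton.elim _ _
      exact (QuotientGroup.eq_one_iff g).mp this
    have hlt := Group.IsSolvable.commutator_lt_top_of_nontrivial (G ⧸ M)
    apply hlt.ne
    have hsurj : Function.Surjective (QuotientGroup.mk' M) := QuotientGroup.mk'_surjective M
    have hmap := congrArg (Subgroup.map (QuotientGroup.mk' M)) htop
    rw [Subgroup.map_sup, QuotientGroup.map_mk'_self, bot_sup_eq, commutator_def,
      Subgroup.map_commutator, Subgroup.map_top_of_surjective _ hsurj] at hmap
    rw [commutator_def]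
    exact hmap
  obtain ⟨-, h2⟩ := Cfsg.Agent.S0545.result K hK (M ⊔ commutator G)
  have hbot : (Cfsg.systemNormalizer K).map (QuotientGroup.mk' (M ⊔ commutator G)) = ⊥ := by
    rw [Subgroup.map_eq_bot_iff, QuotientGroup.ker_mk']
    exact hDM.trans le_sup_left
  have hcomm : ∀ x y : G ⧸ (M ⊔ commutator G), x * y = y * x := by
    intro x y
    induction x using QuotientGroup.induction_on with
    | H g =>
    induction y using QuotientGroup.induction_on with
    | H h =>
    rw [← QuotientGroup.mk_mul, ← QuotientGroup.mk_mul, QuotientGroup.eq]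
    have h1 : (g * h)⁻¹ * (h * g) = ⁅h⁻¹, g⁻¹⁆ := by
      rw [commutatorElement_def]; group
    rw [h1]
    apply (le_sup_right : commutator G ≤ M ⊔ commutator G)
    rw [commutator_def]
    exact Subgroup.commutator_mem_commutator (Subgroup.mem_top _) (Subgroup.mem_top _)
  have htop : Cfsg.systemNormalizer
      (fun p => (K p).map (QuotientGroup.mk' (M ⊔ commutator G))) = ⊤ := by
    unfold Cfsg.systemNormalizer
    rw [eq_top_iff]
    intro x _
    rw [Subgroup.mem_iInf]
    intro p
    rw [Subgroup.mem_normalizer_iff]
    intro h
    have : x * h * x⁻¹ = h := by rw [hcomm x h, mul_inv_cancel_right]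
    rw [this]
  rw [htop, hbot] at h2
  apply hM₁ne
  rw [eq_top_iff]
  intro g _
  have hg : QuotientGroup.mk' (M ⊔ commutator G) g ∈ (⊤ : Subgroup (G ⧸ (M ⊔ commutator G))) :=
    Subgroup.mem_top _
  rw [h2, Subgroup.mem_bot] at hg
  exact (QuotientGroup.eq_one_iff g).mp hg

end Cfsg.Agent.S0546
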