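import Cfsg.Statements.S0548
import Cfsg.Agent.S0547

set_option autoImplicit false
open Cfsg

namespace Cfsg.Agent.S0548

open Cfsg.Agent.S0547 in
theorem result {G : Type*} [Group G] [Finite G] [Group.IsSolvable G] {Ω : Type*} [MulAction G Ω] [FaithfulSMul G Ω] (hprim : MulAction.IsPreprimitive G Ω) (M : Subgroup G) [M.Normal] (hM : M ≠ ⊥) (hmin : ∀ K : Subgroup G, K.Normal → K ≤ M → K = ⊥ ∨ K = M) (ω : Ω) : Subgroup.IsComplement' M (MulAction.stabilizer G ω) ∧ MulAction.stabilizer G ω ⊓ Subgroup.centralizer (M : Set G) = ⊥ ∧ ∀ K : Subgroup G, K ≤ M → MulAction.stabilizer G ω ≤ Subgroup.normalizer (K : Set G) → K = ⊥ ∨ K = M := by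
  have hMt := normal_pretransitive hprim M hM
  have hcomm := minNormal_comm M hM hmin
  -- factorization G = M * G_ω
  have hfac : ∀ g : G, ∃ m ∈ M, ∃ h ∈ MulAction.stabilizer G ω, g = m * h := by
    intro g
    obtain ⟨m, hm⟩ := MulAction.exists_smul_eq M ω (g • ω)
    refine ⟨m, m.2, (m : G)⁻¹ * g, ?_, by group⟩
    rw [MulAction.mem_stabilizer_iff, mul_smul, ← hm]
    show (m : G)⁻¹ • ((m : G) • ω) = ω
    rw [inv_smul_smul]
  refine ⟨?_, ?_, ?_⟩
  · apply Subgroup.isComplement'_stabilizer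
    · intro m hm
      apply Subtype.ext
      exact eq_one_of_commute_of_fix M hMt ω (m : G) (fun n hn => hcomm m m.2 n hn) hm
    · intro g
      obtain ⟨m, hm⟩ := MulAction.exists_smul_eq M (g • ω) ω
      exact ⟨m, hm⟩
  · rw [Subgroup.eq_bot_iff_forall]
    intro c hc
    obtain ⟨hc1, hc2⟩ := Subgroup.mem_inf.mp hc
    rw [MulAction.mem_stabilizer_iff] at hc1
    rw [Subgroup.mem_centralizer_iff] at hc2
    exact eq_one_of_commute_of_fix M hMt ω c (fun m hm => (hc2 m hm).symm) hc1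
  · intro K hKM hKH
    apply hmin K _ hKM
    constructor
    intro k hk g
    obtain ⟨m, hm, h, hh, rfl⟩ := hfac g
    have h1 : h * k * h⁻¹ ∈ K := by
      have := hKH hh
      rw [Subgroup.mem_normalizer_iff] at this
      exact (this k).mp hk
    have h2 : m * (h * k * h⁻¹) * m⁻¹ = h * k * h⁻¹ := by
      have := hcomm m hm (h * k * h⁻¹) (hKM h1)
      rw [this, mul_assoc, mul_inv_cancel, mul_one]
    have h3 : m * h * k * (m * h)⁻¹ = m * (h * k * h⁻¹) * m⁻¹ := by group
    rw [h3, h2]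
    exact h1

end Cfsg.Agent.S0548
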