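import Cfsg.Statements.S0549
import Mathlib.Tactic.Group

set_option autoImplicit false
open Cfsg

namespace Cfsg.Agent.S0549

/-- A nontrivial normal subgroup is not contained in a core-free subgroup, so together with a
core-free maximal subgroup it generates the group. -/
theorem sup_eq_top_of_corefree {G : Type*} [Group G] (U : Subgroup G) (hU : IsCoatom U)
    (hcore : U.normalCore = ⊥) (K : Subgroup G) (hKn : K.Normal) (hK : K ≠ ⊥) : U ⊔ K = ⊤ := by
  have hnot : ¬ K ≤ U := by
    intro h
    have : K ≤ U.normalCore := Subgroup.normal_le_normalCore.mpr h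
    rw [hcore] at this
    exact hK (le_bot_iff.mp this)
  apply hU.2
  apply lt_of_le_of_ne le_sup_left
  intro h
  apply hnot
  rw [h]
  exact le_sup_right

theorem result {G : Type*} [Group G] [Finite G] (U : Subgroup G) (hU : IsCoatom U) (hcore : U.normalCore = ⊥) (N : Subgroup G) [N.Normal] (hN : N ≠ ⊥) : Subgroup.centralizer (N : Set G) ⊓ U = ⊥ ∧ (Subgroup.centralizer (N : Set G) = ⊥ ∨ (Subgroup.centralizer (N : Set G) ≠ ⊥ ∧ ∀ K : Subgroup G, K.Normal → K ≤ Subgroup.centralizer (N : Set G) → K = ⊥ ∨ K = Subgroup.centralizer (N : Set G))) := by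
  have hUN : U ⊔ N = ⊤ := sup_eq_top_of_corefree U hU hcore N inferInstance hN
  have hCn : (Subgroup.centralizer (N : Set G)).Normal := Subgroup.normal_centralizer
  -- the intersection D = C ∩ U is normal in G
  have hD : Subgroup.centralizer (N : Set G) ⊓ U = ⊥ := by
    have hDn : (Subgroup.centralizer (N : Set G) ⊓ U).Normal := by
      constructor
      intro d hd g
      have hg : g ∈ U ⊔ N := by rw [hUN]; exact Subgroup.mem_top g
      rw [Subgroup.mem_sup_of_normal_right] at hg
      obtain ⟨u, hu, n, hn, rfl⟩ := hg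
      have hdC : d ∈ Subgroup.centralizer (N : Set G) := hd.1
      have hdU : d ∈ U := hd.2
      -- n centralizes d
      have h1 : n * d * n⁻¹ = d := by
        have := (Subgroup.mem_centralizer_iff.mp hdC) n hn
        rw [this, mul_assoc, mul_inv_cancel, mul_one]
      have h2 : u * n * d * (u * n)⁻¹ = u * d * u⁻¹ := by
        calc u * n * d * (u * n)⁻¹ = u * (n * d * n⁻¹) * u⁻¹ := by group
          _ = u * d * u⁻¹ := by rw [h1]
      rw [h2]
      exact ⟨hCn.conj_mem d hdC u, U.mul_mem (U.mul_mem hu hdU) (U.inv_mem hu)⟩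
    have hle : Subgroup.centralizer (N : Set G) ⊓ U ≤ U.normalCore :=
      Subgroup.normal_le_normalCore.mpr inf_le_right
    rw [hcore] at hle
    exact le_bot_iff.mp hle
  refine ⟨hD, ?_⟩
  by_cases hC : Subgroup.centralizer (N : Set G) = ⊥
  · exact Or.inl hC
  · right
    refine ⟨hC, ?_⟩
    intro K hKn hKC
    by_cases hK : K = ⊥
    · exact Or.inl hK
    · right
      apply le_antisymm hKC
      intro c hc
      have hUK : U ⊔ K = ⊤ := sup_eq_top_of_corefree U hU hcore K hKn hK
      have hc' : c ∈ U ⊔ K := by rw [hUK]; exact Subgroup.mem_top c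
      haveI := hKn
      rw [Subgroup.mem_sup_of_normal_right] at hc'
      obtain ⟨u, hu, k, hk, rfl⟩ := hc'
      have huC : u ∈ Subgroup.centralizer (N : Set G) := by
        have : u = (u * k) * k⁻¹ := by group
        rw [this]
        exact (Subgroup.centralizer (N : Set G)).mul_mem hc
          ((Subgroup.centralizer (N : Set G)).inv_mem (hKC hk))
      have hu1 : u ∈ Subgroup.centralizer (N : Set G) ⊓ U := ⟨huC, hu⟩
      rw [hD] at hu1
      rw [Subgroup.mem_bot.mp hu1, one_mul]
      exact hk

end Cfsg.Agent.S0549
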