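import Cfsg.Statements.S0704
import Mathlib
import Cfsg.Agent.Lib.Helper10.PermCentralizer

set_option autoImplicit false
open Cfsg

namespace Cfsg.Agent.S0704

/-- Elements of two normal subgroups with trivial intersection commute. -/
theorem commute_of_normal_inf_eq_bot {H : Type*} [Group H] (A B : Subgroup H) (hA : A.Normal) (hB : B.Normal)
    (h : A ⊓ B = ⊥) {a b : H} (ha : a ∈ A) (hb : b ∈ B) : a * b = b * a := by
  have hcomm : a * b * a⁻¹ * b⁻¹ ∈ A ⊓ B := by
    refine ⟨?_, ?_⟩
    · have := hA.conj_mem a⁻¹ (A.inv_mem ha) b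
      have h3 : a * b * a⁻¹ * b⁻¹ = a * (b * a⁻¹ * b⁻¹) := by group
      rw [h3]
      exact A.mul_mem ha this
    · have := hB.conj_mem b hb a
      exact B.mul_mem this (B.inv_mem hb)
  rw [h, Subgroup.mem_bot] at hcomm
  have h5 : a * b * a⁻¹ = b := mul_inv_eq_one.1 hcomm
  calc a * b = a * b * a⁻¹ * a := by group
    _ = b * a := by rw [h5]

/-- Two distinct transitive minimal normal subgroups `M`, `N` of a permutation group are regular, non-abelian, isomorphic, each other's centraliser in the symmetric group, and the only minimal normal subgroups. -/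
theorem result {α : Type*} (G : Subgroup (Equiv.Perm α)) (M N : Subgroup G) [M.Normal] [N.Normal] (hM : M ≠ ⊥) (hN : N ≠ ⊥) (hMmin : ∀ L : Subgroup G, L.Normal → L ≤ M → L = ⊥ ∨ L = M) (hNmin : ∀ L : Subgroup G, L.Normal → L ≤ N → L = ⊥ ∨ L = N) (hMN : M ≠ N) (hMt : MulAction.IsPretransitive M α) (hNt : MulAction.IsPretransitive N α) : (∀ a : α, MulAction.stabilizer M a = ⊥) ∧ (∀ a : α, MulAction.stabilizer N a = ⊥) ∧ ¬ IsMulCommutative M ∧ Nonempty (M ≃* N) ∧ Subgroup.centralizer ((M.map G.subtype : Subgroup (Equiv.Perm α)) : Set (Equiv.Perm α)) = N.map G.subtype ∧ Subgroup.centralizer ((N.map G.subtype : Subgroup (Equiv.Perm α)) : Set (Equiv.Perm α)) = M.map G.subtype ∧ ∀ L : Subgroup G, L.Normal → L ≠ ⊥ → (∀ L' : Subgroup G, L'.Normal → L' ≤ L → L' = ⊥ ∨ L' = L) → L = M ∨ L = N := by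
  classical
  set M' : Subgroup (Equiv.Perm α) := M.map G.subtype with hM'
  set N' : Subgroup (Equiv.Perm α) := N.map G.subtype with hN'
  have hmemM : ∀ m : G, m ∈ M → (m : Equiv.Perm α) ∈ M' := fun m hm => ⟨m, hm, rfl⟩
  have hmemN : ∀ m : G, m ∈ N → (m : Equiv.Perm α) ∈ N' := fun m hm => ⟨m, hm, rfl⟩
  have hmemM' : ∀ g : G, (g : Equiv.Perm α) ∈ M' → g ∈ M := by
    rintro g ⟨m, hm, hmg⟩
    have : m = g := Subtype.ext hmg
    rwa [← this]
  have hmemN' : ∀ g : G, (g : Equiv.Perm α) ∈ N' → g ∈ N := by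
    rintro g ⟨m, hm, hmg⟩
    have : m = g := Subtype.ext hmg
    rwa [← this]
  have htrM : ∀ a b : α, ∃ h ∈ M', h a = b := by
    intro a b
    obtain ⟨m, hm⟩ := MulAction.exists_smul_eq M a b
    exact ⟨((m : G) : Equiv.Perm α), hmemM _ m.2, hm⟩
  have htrN : ∀ a b : α, ∃ h ∈ N', h a = b := by
    intro a b
    obtain ⟨m, hm⟩ := MulAction.exists_smul_eq N a b
    exact ⟨((m : G) : Equiv.Perm α), hmemN _ m.2, hm⟩
  -- `M ⊓ N = ⊥`
  have hinf : M ⊓ N = ⊥ := by
    rcases hMmin (M ⊓ N) inferInstance inf_le_left with h | h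
    · exact h
    · exfalso
      have hMN' : M ≤ N := by rw [← h]; exact inf_le_right
      rcases hNmin M inferInstance hMN' with h1 | h1
      · exact hM h1
      · exact hMN h1
  have hNcM : N' ≤ Subgroup.centralizer (M' : Set (Equiv.Perm α)) := by
    rintro _ ⟨y, hy, rfl⟩
    rw [Subgroup.mem_centralizer_iff]
    rintro _ ⟨x, hx, rfl⟩
    have h2 : x * y = y * x := commute_of_normal_inf_eq_bot M N inferInstance inferInstance hinf hx hy
    exact congrArg Subtype.val h2
  have hMcN : M' ≤ Subgroup.centralizer (N' : Set (Equiv.Perm α)) := by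
    rintro _ ⟨x, hx, rfl⟩
    rw [Subgroup.mem_centralizer_iff]
    rintro _ ⟨y, hy, rfl⟩
    have h2 : x * y = y * x := commute_of_normal_inf_eq_bot M N inferInstance inferInstance hinf hx hy
    exact (congrArg Subtype.val h2).symm
  have hcentM : Subgroup.centralizer (M' : Set (Equiv.Perm α)) = N' :=
    Cfsg.Agent.Lib.Helper10.centralizer_eq_of_transitive_le htrM htrN hNcM
  have hcentN : Subgroup.centralizer (N' : Set (Equiv.Perm α)) = M' :=
    Cfsg.Agent.Lib.Helper10.centralizer_eq_of_transitive_le htrN htrM hMcN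
  have hsrN : ∀ h ∈ N', ∀ a : α, h a = a → h = 1 :=
    fun h hh a ha => Cfsg.Agent.Lib.Helper10.centralizer_semiregular htrM (hNcM hh) ha
  have hsrM : ∀ h ∈ M', ∀ a : α, h a = a → h = 1 :=
    fun h hh a ha => Cfsg.Agent.Lib.Helper10.centralizer_semiregular htrN (hMcN hh) ha
  refine ⟨?_, ?_, ?_, ?_, hcentM, hcentN, ?_⟩
  · intro a
    rw [Subgroup.eq_bot_iff_forall]
    intro m hm
    have : ((m : G) : Equiv.Perm α) = 1 := hsrM _ (hmemM _ m.2) a hm
    exact Subtype.ext (Subtype.ext this)
  · intro a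
    rw [Subgroup.eq_bot_iff_forall]
    intro m hm
    have : ((m : G) : Equiv.Perm α) = 1 := hsrN _ (hmemN _ m.2) a hm
    exact Subtype.ext (Subtype.ext this)
  · intro hab
    have hMM : M' ≤ Subgroup.centralizer (M' : Set (Equiv.Perm α)) := by
      rintro _ ⟨x, hx, rfl⟩
      rw [Subgroup.mem_centralizer_iff]
      rintro _ ⟨y, hy, rfl⟩
      have := mul_comm' (⟨y, hy⟩ : M) ⟨x, hx⟩
      have h2 : y * x = x * y := congrArg Subtype.val this
      exact congrArg Subtype.val h2
    rw [hcentM] at hMM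
    have hMN' : M ≤ N := fun m hm => hmemN' m (hMM (hmemM m hm))
    rcases hNmin M inferInstance hMN' with h1 | h1
    · exact hM h1
    · exact hMN h1
  · obtain ⟨e⟩ := Cfsg.Agent.Lib.Helper10.nonempty_mulEquiv_of_regular_centralizing htrM htrN hsrM hsrN hNcM
    have e1 : M ≃* M' := Subgroup.equivMapOfInjective M G.subtype G.subtype_injective
    have e2 : N ≃* N' := Subgroup.equivMapOfInjective N G.subtype G.subtype_injective
    exact ⟨(e1.trans e).trans e2.symm⟩
  · intro L hLn hLne hLmin
    by_cases hLM : L = M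
    · exact Or.inl hLM
    · right
      have hinfL : (L ⊓ M).Normal := inferInstance
      rcases hMmin (L ⊓ M) hinfL inf_le_right with h | h
      · have hLN : L ≤ N := by
          intro l hl
          apply hmemN'
          rw [← hcentM, Subgroup.mem_centralizer_iff]
          rintro _ ⟨m, hm, rfl⟩
          have h4 : l * m = m * l := commute_of_normal_inf_eq_bot L M hLn inferInstance h hl hm
          exact (congrArg Subtype.val h4).symm
        rcases hNmin L hLn hLN with h1 | h1
        · exact absurd h1 hLne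
        · exact h1
      · exfalso
        have hML : M ≤ L := by rw [← h]; exact inf_le_left
        rcases hLmin M inferInstance hML with h1 | h1
        · exact hM h1
        · exact hLM h1.symm

end Cfsg.Agent.S0704
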