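import Cfsg.Statements.S0703
import Mathlib
import Cfsg.Agent.Lib.Helper10.PermCentralizer

set_option autoImplicit false
open Cfsg

namespace Cfsg.Agent.S0703

/-- An abelian transitive minimal normal subgroup `M` of a permutation group on a finite set is self-centralising in the symmetric group, regular, elementary abelian, and is the unique minimal normal subgroup. -/
theorem result {α : Type*} [Finite α] (G : Subgroup (Equiv.Perm α)) (M : Subgroup G) [M.Normal] (hM : M ≠ ⊥) (hmin : ∀ L : Subgroup G, L.Normal → L ≤ M → L = ⊥ ∨ L = M) (hab : IsMulCommutative M) (htrans : MulAction.IsPretransitive M α) : Subgroup.centralizer ((M.map G.subtype : Subgroup (Equiv.Perm α)) : Set (Equiv.Perm α)) = M.map G.subtype ∧ (∀ a : α, MulAction.stabilizer M a = ⊥) ∧ (∃ p : ℕ, p.Prime ∧ ∀ m ∈ M, m ^ p = 1) ∧ ∀ L : Subgroup G, L.Normal → L ≠ ⊥ → (∀ L' : Subgroup G, L'.Normal → L' ≤ L → L' = ⊥ ∨ L' = L) → L = M := by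
  classical
  set M' : Subgroup (Equiv.Perm α) := M.map G.subtype with hM'
  have hmem : ∀ m : G, m ∈ M → (m : Equiv.Perm α) ∈ M' := fun m hm => ⟨m, hm, rfl⟩
  have hmem' : ∀ g : G, (g : Equiv.Perm α) ∈ M' → g ∈ M := by
    rintro g ⟨m, hm, hmg⟩
    have : m = g := Subtype.ext hmg
    rwa [← this]
  have htr : ∀ a b : α, ∃ h ∈ M', h a = b := by
    intro a b
    obtain ⟨m, hm⟩ := MulAction.exists_smul_eq M a b
    exact ⟨((m : G) : Equiv.Perm α), hmem _ m.2, hm⟩
  have hcommM : ∀ x ∈ M, ∀ y ∈ M, x * y = y * x := by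
    intro x hx y hy
    have := mul_comm' (⟨x, hx⟩ : M) ⟨y, hy⟩
    exact congrArg Subtype.val this
  have hcommM' : M' ≤ Subgroup.centralizer (M' : Set (Equiv.Perm α)) := by
    rintro _ ⟨x, hx, rfl⟩
    rw [Subgroup.mem_centralizer_iff]
    rintro _ ⟨y, hy, rfl⟩
    have h2 : y * x = x * y := hcommM y hy x hx
    exact congrArg Subtype.val h2
  have hcent : Subgroup.centralizer (M' : Set (Equiv.Perm α)) = M' :=
    Cfsg.Agent.Lib.Helper10.centralizer_eq_of_transitive_le htr htr hcommM'
  have hsr : ∀ h ∈ M', ∀ a : α, h a = a → h = 1 :=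
    fun h hh a ha => Cfsg.Agent.Lib.Helper10.centralizer_semiregular htr (hcommM' hh) ha
  refine ⟨hcent, ?_, ?_, ?_⟩
  · intro a
    rw [Subgroup.eq_bot_iff_forall]
    intro m hm
    have : ((m : G) : Equiv.Perm α) = 1 := hsr _ (hmem _ m.2) a hm
    exact Subtype.ext (Subtype.ext this)
  · -- elementary abelian
    haveI : Nontrivial M := (Subgroup.nontrivial_iff_ne_bot M).2 hM
    have hcard : Nat.card M ≠ 1 := by
      intro h
      have := (Nat.card_eq_one_iff_unique.1 h).1
      exact not_subsingleton M this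
    obtain ⟨p, hp, hpdvd⟩ := Nat.exists_prime_and_dvd hcard
    haveI : Fact p.Prime := ⟨hp⟩
    obtain ⟨x, hx⟩ := exists_prime_orderOf_dvd_card' p hpdvd
    let L : Subgroup G :=
      { carrier := {g | g ∈ M ∧ g ^ p = 1}
        one_mem' := ⟨M.one_mem, one_pow p⟩
        mul_mem' := by
          rintro a b ⟨ha, hap⟩ ⟨hb, hbp⟩
          refine ⟨M.mul_mem ha hb, ?_⟩
          have hc : Commute a b := hcommM a ha b hb
          rw [hc.mul_pow, hap, hbp, one_mul]
        inv_mem' := by
          rintro a ⟨ha, hap⟩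
          exact ⟨M.inv_mem ha, by rw [inv_pow, hap, inv_one]⟩ }
    have hLn : L.Normal := by
      refine ⟨?_⟩
      rintro a ⟨ha, hap⟩ g
      refine ⟨‹M.Normal›.conj_mem a ha g, ?_⟩
      rw [conj_pow, hap, mul_one, mul_inv_cancel]
    have hLM : L ≤ M := fun a ha => ha.1
    have hLne : L ≠ ⊥ := by
      intro hL
      have hxL : (x : G) ∈ L := by
        refine ⟨x.2, ?_⟩
        have : x ^ p = 1 := by rw [← hx]; exact pow_orderOf_eq_one x
        exact_mod_cast congrArg Subtype.val this
      rw [hL, Subgroup.mem_bot] at hxL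
      have : x = 1 := Subtype.ext hxL
      rw [this, orderOf_one] at hx
      exact hp.one_lt.ne hx
    rcases hmin L hLn hLM with h | h
    · exact absurd h hLne
    · refine ⟨p, hp, fun m hm => ?_⟩
      have : m ∈ L := by rw [h]; exact hm
      exact this.2
  · -- uniqueness
    intro L hLn hLne hLmin
    by_contra hne
    have hinf : (L ⊓ M).Normal := inferInstance
    rcases hmin (L ⊓ M) hinf inf_le_right with h | h
    · -- `L` centralizes `M`
      have hLM : L ≤ M := by
        intro l hl
        apply hmem'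
        rw [← hcent, Subgroup.mem_centralizer_iff]
        rintro _ ⟨m, hm, rfl⟩
        have hcomm : l * m * l⁻¹ * m⁻¹ ∈ L ⊓ M := by
          refine ⟨?_, ?_⟩
          · have := hLn.conj_mem l⁻¹ (L.inv_mem hl) m
            have h3 : l * m * l⁻¹ * m⁻¹ = l * (m * l⁻¹ * m⁻¹) := by group
            rw [h3]
            exact L.mul_mem hl this
          · have := ‹M.Normal›.conj_mem m hm l
            exact M.mul_mem this (M.inv_mem hm)
        rw [h, Subgroup.mem_bot] at hcomm
        have h4 : l * m = m * l := by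
          have h5 : l * m * l⁻¹ = m := by
            have := mul_inv_eq_one.1 hcomm
            exact this
          calc l * m = l * m * l⁻¹ * l := by group
            _ = m * l := by rw [h5]
        exact (congrArg Subtype.val h4).symm
      have : L = ⊥ := by
        rw [← h]
        exact (inf_eq_left.2 hLM).symm
      exact hLne this
    · have hML : M ≤ L := by rw [← h]; exact inf_le_left
      rcases hLmin M inferInstance hML with h1 | h1
      · exact hM h1
      · exact hne h1.symm

end Cfsg.Agent.S0703
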