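import Mathlib
import Cfsg.Statements.S3680
import Cfsg.Agent.Lib.Helper10.PermTransport
import Cfsg.Agent.Lib.Helper10.MinimalNormal
import Cfsg.Agent.S0703
import Cfsg.Agent.S0704

set_option autoImplicit false
open Cfsg

namespace Cfsg.Agent.S3680

open Cfsg.Agent.Lib.Helper10

/-- `V` is a minimal normal subgroup. -/
def IsMinNormal {G : Type*} [Group G] (V : Subgroup G) : Prop :=
  V.Normal ∧ V ≠ ⊥ ∧ ∀ M : Subgroup G, M.Normal → M ≤ V → M = ⊥ ∨ M = V

theorem isMinNormal_trSub {G Ω : Type*} [Group G] [MulAction G Ω] [FaithfulSMul G Ω] {V : Subgroup G}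
    (hV : IsMinNormal V) : IsMinNormal (trSub (Ω := Ω) V) := by
  obtain ⟨h1, h2, h3⟩ := hV
  refine ⟨trSub_normal V, ?_, trSub_minimal h3⟩
  intro hb
  apply h2
  apply trSub_injective (Ω := Ω)
  rw [hb, trSub_bot]

theorem isMinNormal_comap {G Ω : Type*} [Group G] [MulAction G Ω] [FaithfulSMul G Ω]
    {L' : Subgroup (permImage G Ω)}
    (hL' : IsMinNormal L') : IsMinNormal (L'.comap (toPermImage (G := G) (Ω := Ω)).toMonoidHom) := by
  obtain ⟨h1, h2, h3⟩ := hL'
  refine ⟨Subgroup.Normal.comap h1 _, ?_, minimal_of_trSub h3⟩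
  intro hb
  apply h2
  rw [← exists_eq_trSub L', hb, trSub_bot]

/-- Fact A: an abelian transitive minimal normal subgroup is regular, elementary abelian and the unique minimal
normal subgroup. -/
theorem factA {G Ω : Type*} [Group G] [MulAction G Ω] [FaithfulSMul G Ω] [Finite Ω] {M : Subgroup G}
    (hM : IsMinNormal M) (hab : IsMulCommutative M) (htr : MulAction.IsPretransitive M Ω) :
    (∀ a : Ω, MulAction.stabilizer M a = ⊥) ∧ (∃ p : ℕ, p.Prime ∧ ∀ m ∈ M, m ^ p = 1) ∧
      ∀ L : Subgroup G, IsMinNormal L → L = M := by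
  have hM' := isMinNormal_trSub (Ω := Ω) hM
  have hn := hM'.1
  obtain ⟨-, hstab, ⟨p, hp, hexp⟩, huniq⟩ := Cfsg.Agent.S0703.result (permImage G Ω) (trSub M) hM'.2.1 hM'.2.2
    (trSub_commutative hab) (trSub_pretransitive htr)
  refine ⟨fun a => stabilizer_eq_bot_of_trSub (hstab a), ⟨p, hp, ?_⟩, ?_⟩
  · intro m hm
    have := hexp (toPermImage m) (toPermImage_mem_trSub.2 hm)
    apply (toPermImage (G := G) (Ω := Ω)).injective
    rw [map_pow, this, map_one]
  · intro L hL
    have hL' := isMinNormal_trSub (Ω := Ω) hL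
    exact trSub_injective (huniq _ hL'.1 hL'.2.1 hL'.2.2)

/-- Fact B: two distinct transitive minimal normal subgroups are nonabelian, isomorphic, and the only
minimal normal subgroups. -/
theorem factB {G Ω : Type*} [Group G] [MulAction G Ω] [FaithfulSMul G Ω] {M M₂ : Subgroup G}
    (hM : IsMinNormal M) (hM₂ : IsMinNormal M₂) (hne : M ≠ M₂) (htr : MulAction.IsPretransitive M Ω)
    (htr₂ : MulAction.IsPretransitive M₂ Ω) :
    ¬ IsMulCommutative M ∧ Nonempty (M ≃* M₂) ∧ ∀ L : Subgroup G, IsMinNormal L → L = M ∨ L = M₂ := by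
  have hM' := isMinNormal_trSub (Ω := Ω) hM
  have hM₂' := isMinNormal_trSub (Ω := Ω) hM₂
  have hn := hM'.1
  have hn₂ := hM₂'.1
  have hne' : trSub (Ω := Ω) M ≠ trSub M₂ := fun h => hne (trSub_injective h)
  obtain ⟨-, -, hnc, ⟨e⟩, -, -, huniq⟩ := Cfsg.Agent.S0704.result (permImage G Ω) (trSub M) (trSub M₂)
    hM'.2.1 hM₂'.2.1 hM'.2.2 hM₂'.2.2 hne' (trSub_pretransitive htr) (trSub_pretransitive htr₂)
  refine ⟨fun h => hnc (trSub_commutative h), ⟨(trSubEquiv M).trans (e.trans (trSubEquiv M₂).symm)⟩, ?_⟩
  intro L hL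
  have hL' := isMinNormal_trSub (Ω := Ω) hL
  rcases huniq _ hL'.1 hL'.2.1 hL'.2.2 with h | h
  · exact Or.inl (trSub_injective h)
  · exact Or.inr (trSub_injective h)

/-- A nontrivial finite group has a minimal normal subgroup. -/
theorem exists_isMinNormal {G : Type*} [Group G] [Finite G] (hG : Nontrivial G) :
    ∃ M : Subgroup G, IsMinNormal M := by
  let 𝒯 : Set (Subgroup G) := {X | X.Normal ∧ X ≠ ⊥}
  have hne : 𝒯.Nonempty := ⟨⊤, inferInstance, top_ne_bot⟩
  obtain ⟨M, ⟨hM1, hM2⟩, hMmin⟩ := Set.exists_min_image 𝒯 (fun X => Nat.card X) (Set.toFinite _) hne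
  refine ⟨M, hM1, hM2, ?_⟩
  intro L hL hLM
  by_cases hL0 : L = ⊥
  · exact Or.inl hL0
  · right
    have := hMmin L ⟨hL, hL0⟩
    exact Subgroup.eq_of_le_of_card_ge hLM this

/-- Pairs of functions on `Fin m` and `Fin n` as functions on `Fin (m + n)`. -/
def prodPiEquiv (T : Type*) [Group T] (m n : ℕ) : (Fin m → T) × (Fin n → T) ≃* (Fin (m + n) → T) where
  toFun x := fun i => Fin.addCases x.1 x.2 i
  invFun f := (fun i => f (Fin.castAdd n i), fun i => f (Fin.natAdd m i))
  left_inv x := by
    ext i <;> simp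
  right_inv f := by
    funext i
    refine Fin.addCases (fun j => ?_) (fun j => ?_) i <;> simp
  map_mul' x y := by
    funext i
    refine Fin.addCases (fun j => ?_) (fun j => ?_) i <;> simp

/-- The socle of a finite primitive permutation group. -/
theorem result {G Ω : Type*} [Group G] [Finite G] [MulAction G Ω] [FaithfulSMul G Ω] [Finite Ω]
    (hprim : MulAction.IsPreprimitive G Ω) (N : Subgroup G)
    (hN : N = sSup {V : Subgroup G | V.Normal ∧ V ≠ ⊥ ∧ ∀ M : Subgroup G, M.Normal → M ≤ V → M = ⊥ ∨ M = V}) :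
    (∃ p : ℕ, p.Prime ∧ IsMulCommutative N ∧ (∀ x : N, x ^ p = 1) ∧
      MulAction.IsPretransitive N Ω ∧ ∀ ω : Ω, MulAction.stabilizer N ω = ⊥) ∨
    (∃ (T : Type) (_ : Group T) (m : ℕ), 1 ≤ m ∧ IsSimpleGroup T ∧ ¬ IsMulCommutative T ∧ Nonempty (N ≃* (Fin m → T))) := by
  classical
  have hN' : N = sSup {V : Subgroup G | IsMinNormal V} := hN
  -- minimal normal subgroups are transitive
  have htrans : ∀ V : Subgroup G, IsMinNormal V → MulAction.IsPretransitive V Ω := by
    intro V hV
    have hVn := hV.1
    apply MulAction.IsQuasiPreprimitive.isPretransitive_of_normal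
    intro hfix
    apply hV.2.1
    rw [Subgroup.eq_bot_iff_forall]
    intro v hv
    apply FaithfulSMul.eq_of_smul_eq_smul (α := Ω)
    intro ω
    have : ω ∈ MulAction.fixedPoints V Ω := by rw [hfix]; exact Set.mem_univ _
    rw [one_smul]
    exact this ⟨v, hv⟩
  rcases subsingleton_or_nontrivial G with hsub | hnt
  · -- trivial group
    left
    have hNbot : N = ⊥ := Subsingleton.elim _ _
    refine ⟨2, Nat.prime_two, ⟨⟨fun a b => Subsingleton.elim _ _⟩⟩, fun x => Subsingleton.elim _ _, ?_, ?_⟩
    · refine ⟨fun x y => ⟨1, ?_⟩⟩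
      obtain ⟨g, hg⟩ := hprim.toIsPretransitive.exists_smul_eq x y
      rw [one_smul, ← hg, Subsingleton.elim g 1, one_smul]
    · intro ω
      exact Subsingleton.elim _ _
  · obtain ⟨M, hM⟩ := exists_isMinNormal hnt
    have hMn := hM.1
    by_cases hab : IsMulCommutative M
    · -- abelian case
      left
      obtain ⟨hstab, ⟨p, hp, hexp⟩, huniq⟩ := factA (Ω := Ω) hM hab (htrans M hM)
      have hNM : N = M := by
        rw [hN']
        apply le_antisymm
        · exact sSup_le (fun L hL => (huniq L hL).le)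
        · exact le_sSup hM
      subst hNM
      exact ⟨p, hp, hab, fun x => Subtype.ext (hexp x x.2), htrans N hM, hstab⟩
    · right
      by_cases hother : ∃ M₂ : Subgroup G, IsMinNormal M₂ ∧ M ≠ M₂
      · obtain ⟨M₂, hM₂, hne⟩ := hother
        have hM₂n := hM₂.1
        obtain ⟨-, ⟨e⟩, huniq⟩ := factB (Ω := Ω) hM hM₂ hne (htrans M hM) (htrans M₂ hM₂)
        have hNM : N = M ⊔ M₂ := by
          rw [hN']
          apply le_antisymm
          · apply sSup_le
            intro L hL
            rcases huniq L hL with h | h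
            · rw [h]; exact le_sup_left
            · rw [h]; exact le_sup_right
          · exact sup_le (le_sSup hM) (le_sSup hM₂)
        -- M ⊓ M₂ = ⊥
        have hdisj : M ⊓ M₂ = ⊥ := by
          have hn : (M ⊓ M₂).Normal := inferInstance
          rcases hM.2.2 (M ⊓ M₂) hn inf_le_left with h | h
          · exact h
          · exfalso
            have h1 : M ≤ M₂ := h ▸ inf_le_right
            rcases hM₂.2.2 M hMn h1 with h2 | h2
            · exact hM.2.1 h2
            · exact hne h2
        have hcomm : ∀ (x : M) (y : M₂), Commute ((x : G)) ((y : G)) := by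
          intro x y
          have hc : (x : G) * y * (x : G)⁻¹ * (y : G)⁻¹ ∈ M ⊓ M₂ := by
            refine ⟨?_, ?_⟩
            · have := hMn.conj_mem _ (M.inv_mem x.2) (y : G)
              have h3 : (x : G) * y * (x : G)⁻¹ * (y : G)⁻¹ = x * (y * (x : G)⁻¹ * (y : G)⁻¹) := by group
              rw [h3]
              exact M.mul_mem x.2 this
            · have := hM₂n.conj_mem _ y.2 (x : G)
              exact M₂.mul_mem this (M₂.inv_mem y.2)
          rw [hdisj, Subgroup.mem_bot] at hc
          have h5 : (x : G) * y * (x : G)⁻¹ = y := mul_inv_eq_one.1 hc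
          show (x : G) * y = y * x
          calc (x : G) * y = x * y * (x : G)⁻¹ * x := by group
            _ = y * x := by rw [h5]
        let φ : M × M₂ →* G := MonoidHom.noncommCoprod M.subtype M₂.subtype hcomm
        have hφinj : Function.Injective φ := by
          rw [injective_iff_map_eq_one]
          rintro ⟨x, y⟩ hxy
          have h1 : (x : G) * (y : G) = 1 := hxy
          have h2 : (x : G) ∈ M ⊓ M₂ := by
            refine ⟨x.2, ?_⟩
            have : (x : G) = (y : G)⁻¹ := eq_inv_of_mul_eq_one_left h1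
            rw [this]
            exact M₂.inv_mem y.2
          rw [hdisj, Subgroup.mem_bot] at h2
          have h3 : (y : G) = 1 := by rwa [h2, one_mul] at h1
          ext
          · exact h2
          · exact h3
        have hφrange : φ.range = N := by
          rw [hNM]
          exact (MonoidHom.noncommCoprod_range M.subtype M₂.subtype hcomm).trans
            (by rw [Subgroup.range_subtype, Subgroup.range_subtype])
        obtain ⟨T, hT, m, hTs, hm, ⟨ψ⟩⟩ := minimal_normal_iso_pow M hM.2.1 hM.2.2
        have hTnc : ¬ IsMulCommutative T := by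
          intro hc
          apply hab
          refine ⟨⟨fun a b => ?_⟩⟩
          apply ψ.injective
          rw [map_mul, map_mul]
          funext i
          exact mul_comm' _ _
        refine ⟨T, hT, m + m, by omega, hTs, hTnc, ⟨?_⟩⟩
        have e1 : N ≃* φ.range := MulEquiv.subgroupCongr hφrange.symm
        have e2 : M × M₂ ≃* φ.range := MonoidHom.ofInjective hφinj
        have e3 : M × M₂ ≃* (Fin m → T) × (Fin m → T) := MulEquiv.prodCongr ψ (e.symm.trans ψ)
        exact e1.trans (e2.symm.trans (e3.trans (prodPiEquiv T m m)))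
      · push_neg at hother
        have hNM : N = M := by
          rw [hN']
          apply le_antisymm
          · exact sSup_le (fun L hL => (hother L hL).symm.le)
          · exact le_sSup hM
        subst hNM
        obtain ⟨T, hT, m, hTs, hm, ⟨ψ⟩⟩ := minimal_normal_iso_pow N hM.2.1 hM.2.2
        have hTnc : ¬ IsMulCommutative T := by
          intro hc
          apply hab
          refine ⟨⟨fun a b => ?_⟩⟩
          apply ψ.injective
          rw [map_mul, map_mul]
          funext i
          exact mul_comm' _ _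
        exact ⟨T, hT, m, hm, hTs, hTnc, ⟨ψ⟩⟩

end Cfsg.Agent.S3680
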