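import Mathlib
import Cfsg.Statements.S0550
import Cfsg.Agent.Lib.Helper10.PermTransport
import Cfsg.Agent.S0704
import Cfsg.Agent.S3680

set_option autoImplicit false
open Cfsg

namespace Cfsg.Agent.S0550

open Cfsg.Agent.Lib.Helper10 Cfsg.Agent.S3680

/-- Two distinct transitive minimal normal subgroups of a faithful action: full information. -/
theorem factB' {G Ω : Type*} [Group G] [MulAction G Ω] [FaithfulSMul G Ω] {M M₂ : Subgroup G}
    (hM : IsMinNormal M) (hM₂ : IsMinNormal M₂) (hne : M ≠ M₂) (htr : MulAction.IsPretransitive M Ω)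
    (htr₂ : MulAction.IsPretransitive M₂ Ω) :
    (∀ a : Ω, MulAction.stabilizer M a = ⊥) ∧ (∀ a : Ω, MulAction.stabilizer M₂ a = ⊥) ∧
    ¬ IsMulCommutative M ∧ Nonempty (M ≃* M₂) ∧
    Subgroup.centralizer (M₂ : Set G) = M ∧ Subgroup.centralizer (M : Set G) = M₂ := by
  have hM' := isMinNormal_trSub (Ω := Ω) hM
  have hM₂' := isMinNormal_trSub (Ω := Ω) hM₂
  have hn := hM'.1
  have hn₂ := hM₂'.1
  have hne' : trSub (Ω := Ω) M ≠ trSub M₂ := fun h => hne (trSub_injective h)
  obtain ⟨hs1, hs2, hnc, ⟨e⟩, hc1, hc2, -⟩ := Cfsg.Agent.S0704.result (permImage G Ω) (trSub M) (trSub M₂)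
    hM'.2.1 hM₂'.2.1 hM'.2.2 hM₂'.2.2 hne' (trSub_pretransitive htr) (trSub_pretransitive htr₂)
  -- elements of the mapped subgroups
  have hmemmap : ∀ (V : Subgroup G) (σ : Equiv.Perm Ω),
      σ ∈ (trSub (Ω := Ω) V).map (permImage G Ω).subtype ↔ ∃ v ∈ V, MulAction.toPerm v = σ := by
    intro V σ
    constructor
    · rintro ⟨x, hx, rfl⟩
      obtain ⟨v, hv, rfl⟩ := mem_trSub.1 hx
      exact ⟨v, hv, rfl⟩
    · rintro ⟨v, hv, rfl⟩
      exact ⟨toPermImage v, toPermImage_mem_trSub.2 hv, rfl⟩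
  have hinj : Function.Injective (MulAction.toPerm : G → Equiv.Perm Ω) := MulAction.toPerm_injective
  have hcent : ∀ (V W : Subgroup G),
      Subgroup.centralizer (((trSub (Ω := Ω) V).map (permImage G Ω).subtype : Subgroup (Equiv.Perm Ω)) : Set (Equiv.Perm Ω)) =
        (trSub (Ω := Ω) W).map (permImage G Ω).subtype →
      Subgroup.centralizer (V : Set G) = W := by
    intro V W h
    ext g
    constructor
    · intro hg
      have h1 : MulAction.toPerm g ∈ Subgroup.centralizer
          (((trSub (Ω := Ω) V).map (permImage G Ω).subtype : Subgroup (Equiv.Perm Ω)) : Set (Equiv.Perm Ω)) := by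
        rw [Subgroup.mem_centralizer_iff]
        intro σ hσ
        obtain ⟨v, hv, rfl⟩ := (hmemmap V σ).1 hσ
        have := Subgroup.mem_centralizer_iff.1 hg v hv
        have h2 := congrArg (MulAction.toPermHom G Ω) this
        rw [map_mul, map_mul] at h2
        exact h2
      rw [h] at h1
      obtain ⟨w, hw, hwg⟩ := (hmemmap W _).1 h1
      rw [← hinj hwg]
      exact hw
    · intro hg
      have h1 : MulAction.toPerm g ∈ (trSub (Ω := Ω) W).map (permImage G Ω).subtype :=
        (hmemmap W _).2 ⟨g, hg, rfl⟩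
      rw [← h] at h1
      rw [Subgroup.mem_centralizer_iff]
      intro v hv
      have h2 := Subgroup.mem_centralizer_iff.1 h1 (MulAction.toPerm v) ((hmemmap V _).2 ⟨v, hv, rfl⟩)
      apply hinj
      have h3 : MulAction.toPerm (v * g) = MulAction.toPerm v * MulAction.toPerm g :=
        map_mul (MulAction.toPermHom G Ω) v g
      have h4 : MulAction.toPerm (g * v) = MulAction.toPerm g * MulAction.toPerm v :=
        map_mul (MulAction.toPermHom G Ω) g v
      rw [h3, h4]
      exact h2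
  refine ⟨fun a => stabilizer_eq_bot_of_trSub (hs1 a), fun a => stabilizer_eq_bot_of_trSub (hs2 a),
    fun h => hnc (trSub_commutative h), ⟨(trSubEquiv M).trans (e.trans (trSubEquiv M₂).symm)⟩,
    hcent M₂ M hc2, hcent M M₂ hc1⟩

/-- Let U be a maximal subgroup with trivial normal core in a finite group G, and A ≠ B two minimal normal subgroups. Then A is the centralizer of B and B that of A, U complements each of them, A and B are non-abelian, and A, B and (A ⊔ B) ∩ U are pairwise isomorphic. -/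
theorem result {G : Type*} [Group G] [Finite G] (U : Subgroup G) (hU : IsCoatom U) (hcore : U.normalCore = ⊥) (A B : Subgroup G) [A.Normal] [B.Normal] (hA : A ≠ ⊥) (hB : B ≠ ⊥) (hAmin : ∀ K : Subgroup G, K.Normal → K ≤ A → K = ⊥ ∨ K = A) (hBmin : ∀ K : Subgroup G, K.Normal → K ≤ B → K = ⊥ ∨ K = B) (hAB : A ≠ B) : Subgroup.centralizer (B : Set G) = A ∧ Subgroup.centralizer (A : Set G) = B ∧ Subgroup.IsComplement' A U ∧ Subgroup.IsComplement' B U ∧ ¬ IsMulCommutative A ∧ Nonempty (A ≃* B) ∧ Nonempty (A ≃* ↥((A ⊔ B) ⊓ U)) := by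
  classical
  -- the action on cosets is faithful
  have hfaith : FaithfulSMul G (G ⧸ U) := by
    refine ⟨fun {g₁ g₂} h => ?_⟩
    have h1 : MulAction.toPermHom G (G ⧸ U) g₁ = MulAction.toPermHom G (G ⧸ U) g₂ := by
      ext ω
      exact h ω
    have h2 : g₁⁻¹ * g₂ ∈ (MulAction.toPermHom G (G ⧸ U)).ker := by
      rw [MonoidHom.mem_ker, map_mul, map_inv, h1, inv_mul_cancel]
    rw [← Subgroup.normalCore_eq_ker, hcore, Subgroup.mem_bot] at h2
    exact (inv_mul_eq_one.1 h2)
  have hAmn : IsMinNormal A := ⟨inferInstance, hA, hAmin⟩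
  have hBmn : IsMinNormal B := ⟨inferInstance, hB, hBmin⟩
  -- a normal subgroup not inside `U` is transitive on cosets
  have htrans : ∀ V : Subgroup G, V.Normal → V ≠ ⊥ → MulAction.IsPretransitive V (G ⧸ U) := by
    intro V hV hV0
    have hVU : ¬ V ≤ U := by
      intro h
      have : V ≤ U.normalCore := Subgroup.normal_le_normalCore.2 h
      rw [hcore] at this
      exact hV0 (le_bot_iff.1 this)
    have hsup : V ⊔ U = ⊤ := by
      by_contra hne
      have h1 : U ≤ V ⊔ U := le_sup_right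
      rcases eq_or_lt_of_le h1 with h | h
      · exact hVU (h ▸ le_sup_left)
      · exact hne (hU.2 _ h)
    have hrep : ∀ g : G, ∃ v ∈ V, ∃ u ∈ U, g = v * u := by
      intro g
      have : g ∈ ((V ⊔ U : Subgroup G) : Set G) := by rw [hsup]; exact Set.mem_univ g
      rw [Subgroup.normal_mul] at this
      obtain ⟨v, hv, u, hu, rfl⟩ := this
      exact ⟨v, hv, u, hu, rfl⟩
    have hone : ∀ ω : G ⧸ U, ∃ v : V, v • ((1 : G) : G ⧸ U) = ω := by
      intro ω
      induction ω using QuotientGroup.induction_on with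
      | H g =>
        obtain ⟨v, hv, u, hu, rfl⟩ := hrep g
        refine ⟨⟨v, hv⟩, ?_⟩
        show ((v * 1 : G) : G ⧸ U) = ((v * u : G) : G ⧸ U)
        rw [QuotientGroup.eq]
        simpa using hu
    refine ⟨fun x y => ?_⟩
    obtain ⟨v, hv⟩ := hone x
    obtain ⟨w, hw⟩ := hone y
    refine ⟨w * v⁻¹, ?_⟩
    rw [← hv, ← hw, mul_smul, inv_smul_smul]
  obtain ⟨hsA, hsB, hnc, hiso, hcB, hcA⟩ := factB' (Ω := G ⧸ U) hAmn hBmn hAB
    (htrans A inferInstance hA) (htrans B inferInstance hB)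
  -- complements
  have hcompl : ∀ V : Subgroup G, MulAction.IsPretransitive V (G ⧸ U) →
      (∀ a : G ⧸ U, MulAction.stabilizer V a = ⊥) → Subgroup.IsComplement' V U := by
    intro V hVt hVs
    apply Subgroup.isComplement'_of_card_mul_and_disjoint
    · have h1 := MulAction.index_stabilizer_of_transitive V (((1 : G) : G ⧸ U))
      rw [hVs, Subgroup.index_bot] at h1
      rw [h1]
      have := Subgroup.card_mul_index U
      rw [Subgroup.index_eq_card, mul_comm] at this
      exact this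
    · rw [disjoint_iff, Subgroup.eq_bot_iff_forall]
      rintro g ⟨hgV, hgU⟩
      have h1 : (⟨g, hgV⟩ : V) ∈ MulAction.stabilizer V (((1 : G) : G ⧸ U)) := by
        rw [MulAction.mem_stabilizer_iff]
        show ((g * 1 : G) : G ⧸ U) = ((1 : G) : G ⧸ U)
        rw [QuotientGroup.eq]
        simpa using U.inv_mem hgU
      rw [hVs, Subgroup.mem_bot] at h1
      exact congrArg Subtype.val h1
  have hAU := hcompl A (htrans A inferInstance hA) hsA
  have hBU := hcompl B (htrans B inferInstance hB) hsB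
  refine ⟨hcB, hcA, hAU, hBU, hnc, hiso, ?_⟩
  -- the last isomorphism
  have hdisj : A ⊓ B = ⊥ := by
    rcases hAmin (A ⊓ B) inferInstance inf_le_left with h | h
    · exact h
    · exfalso
      have h1 : A ≤ B := h ▸ inf_le_right
      rcases hBmin A inferInstance h1 with h2 | h2
      · exact hA h2
      · exact hAB h2
  have hcomm : ∀ (x : A) (y : B), Commute ((x : G)) ((y : G)) := by
    intro x y
    have : (y : G) ∈ Subgroup.centralizer (A : Set G) := by rw [hcA]; exact y.2
    exact (Subgroup.mem_centralizer_iff.1 this x x.2)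
  let φ : A × B →* G := MonoidHom.noncommCoprod A.subtype B.subtype hcomm
  have hφinj : Function.Injective φ := by
    rw [injective_iff_map_eq_one]
    rintro ⟨x, y⟩ hxy
    have h1 : (x : G) * (y : G) = 1 := hxy
    have h2 : (x : G) ∈ A ⊓ B := by
      refine ⟨x.2, ?_⟩
      have : (x : G) = (y : G)⁻¹ := eq_inv_of_mul_eq_one_left h1
      rw [this]
      exact B.inv_mem y.2
    rw [hdisj, Subgroup.mem_bot] at h2
    have h3 : (y : G) = 1 := by rwa [h2, one_mul] at h1
    ext
    · exact h2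
    · exact h3
  have hφrange : φ.range = A ⊔ B :=
    (MonoidHom.noncommCoprod_range A.subtype B.subtype hcomm).trans
      (by rw [Subgroup.range_subtype, Subgroup.range_subtype])
  let θ : A × B ≃* ↥(A ⊔ B) := (MonoidHom.ofInjective hφinj).trans (MulEquiv.subgroupCongr hφrange)
  have hθ : ∀ x : A × B, ((θ x : ↥(A ⊔ B)) : G) = (x.1 : G) * (x.2 : G) := fun x => rfl
  let ψ : ↥((A ⊔ B) ⊓ U) →* A :=
    (MonoidHom.fst A B).comp (θ.symm.toMonoidHom.comp (Subgroup.inclusion (inf_le_left : (A ⊔ B) ⊓ U ≤ A ⊔ B)))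
  have hψ : ∀ x : ↥((A ⊔ B) ⊓ U), ∃ b : B, (x : G) = ((ψ x : A) : G) * (b : G) := by
    intro x
    set z := θ.symm (Subgroup.inclusion (inf_le_left : (A ⊔ B) ⊓ U ≤ A ⊔ B) x) with hz
    refine ⟨z.2, ?_⟩
    have h1 : θ z = Subgroup.inclusion (inf_le_left : (A ⊔ B) ⊓ U ≤ A ⊔ B) x := by
      rw [hz, MulEquiv.apply_symm_apply]
    have h2 := congrArg (Subtype.val) h1
    rw [hθ] at h2
    exact h2.symm
  have hBUdisj : B ⊓ U = ⊥ := by
    have := hBU.disjoint
    rwa [disjoint_iff] at this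
  have hψinj : Function.Injective ψ := by
    rw [injective_iff_map_eq_one]
    intro x hx
    obtain ⟨b, hb⟩ := hψ x
    rw [hx] at hb
    simp only [OneMemClass.coe_one, one_mul] at hb
    have h1 : (x : G) ∈ B ⊓ U := ⟨hb ▸ b.2, x.2.2⟩
    rw [hBUdisj, Subgroup.mem_bot] at h1
    exact Subtype.ext h1
  have hψsurj : Function.Surjective ψ := by
    intro a
    -- write a = b * u
    obtain ⟨⟨b, u⟩, hbu, -⟩ := hBU.existsUnique (a : G)
    have hbu' : (b : G) * (u : G) = (a : G) := hbu
    have hu : (u : G) = (a : G) * ((b⁻¹ : B) : G) := by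
      have h1 : (u : G) = (b : G)⁻¹ * (a : G) := by rw [← hbu']; group
      rw [h1]
      have := hcomm a b⁻¹
      exact this.eq.symm
    have hmem : (a : G) * ((b⁻¹ : B) : G) ∈ (A ⊔ B) ⊓ U := by
      refine ⟨Subgroup.mul_mem_sup a.2 (b⁻¹).2, ?_⟩
      rw [← hu]
      exact u.2
    refine ⟨⟨_, hmem⟩, ?_⟩
    have h1 : Subgroup.inclusion (inf_le_left : (A ⊔ B) ⊓ U ≤ A ⊔ B) ⟨_, hmem⟩ = θ (a, b⁻¹) := by
      apply Subtype.ext
      rw [hθ]
      rfl
    show (θ.symm (Subgroup.inclusion (inf_le_left : (A ⊔ B) ⊓ U ≤ A ⊔ B) ⟨_, hmem⟩)).1 = a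
    rw [h1, MulEquiv.symm_apply_apply]
  exact ⟨(MulEquiv.ofBijective ψ ⟨hψinj, hψsurj⟩).symm⟩

end Cfsg.Agent.S0550
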