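import Cfsg.Statements.S0551
import Mathlib
import Cfsg.Agent.S0043
import Cfsg.Agent.S0065
import Cfsg.Agent.Lib.Helper13.Hall2

set_option autoImplicit false
open Pointwise
open Cfsg

namespace Cfsg.Agent.S0551

open Cfsg.Agent.Lib.Helper13
open scoped Pointwise
open scoped commutatorElement

universe u

section
variable {G : Type u} [Group G] [Finite G]

/-- Basic facts for a core-free maximal subgroup and an abelian minimal normal subgroup. -/
theorem corefree_facts (N U : Subgroup G) [hNn : N.Normal] (hNcomm : IsMulCommutative N) (hN : N ≠ ⊥)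
    (hmin : ∀ K : Subgroup G, K.Normal → K ≤ N → K = ⊥ ∨ K = N)
    (hU : IsCoatom U) (hcore : U.normalCore = ⊥) :
    N ⊓ U = ⊥ ∧ N ⊔ U = ⊤ ∧ Subgroup.centralizer (N : Set G) = N := by
  have hNU : ¬ N ≤ U := by
    intro h
    have := Subgroup.normal_le_normalCore.mpr h
    rw [hcore, le_bot_iff] at this
    exact hN this
  have hsup : N ⊔ U = ⊤ := by
    apply hU.2
    refine lt_of_le_of_ne le_sup_right (fun h => hNU ?_)
    rw [h]; exact le_sup_left
  have hdecomp : ∀ g : G, ∃ n ∈ N, ∃ u ∈ U, n * u = g := by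
    intro g
    have : g ∈ N ⊔ U := by rw [hsup]; trivial
    exact Subgroup.mem_sup_of_normal_left.mp this
  have hNab : ∀ n ∈ N, ∀ y ∈ N, n * y * n⁻¹ = y := by
    intro n hn y hy
    have := mul_comm' (⟨n, hn⟩ : N) ⟨y, hy⟩
    have h2 : n * y = y * n := congrArg Subtype.val this
    rw [h2]; group
  have hNle : N ≤ Subgroup.centralizer (N : Set G) := by
    intro n hn
    rw [Subgroup.mem_centralizer_iff]
    intro y hy
    have := mul_comm' (⟨y, hy⟩ : N) ⟨n, hn⟩
    exact congrArg Subtype.val this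
  -- N ⊓ U is normal
  have hinfn : (N ⊓ U).Normal := by
    refine ⟨fun x hx g => ?_⟩
    obtain ⟨n, hn, u, hu, rfl⟩ := hdecomp g
    have h1 : u * x * u⁻¹ ∈ N ⊓ U :=
      ⟨hNn.conj_mem x hx.1 u, U.mul_mem (U.mul_mem hu hx.2) (U.inv_mem hu)⟩
    have h2 : n * u * x * (n * u)⁻¹ = n * (u * x * u⁻¹) * n⁻¹ := by group
    rw [h2, hNab n hn _ h1.1]
    exact h1
  have hinf : N ⊓ U = ⊥ := by
    rcases hmin (N ⊓ U) hinfn inf_le_left with h | h
    · exact h
    · exact absurd (h ▸ inf_le_right : N ≤ U) hNU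
  refine ⟨hinf, hsup, ?_⟩
  -- centralizer
  have hCn : (Subgroup.centralizer (N : Set G)).Normal := inferInstance
  have hCUn : (Subgroup.centralizer (N : Set G) ⊓ U).Normal := by
    refine ⟨fun x hx g => ?_⟩
    obtain ⟨n, hn, u, hu, rfl⟩ := hdecomp g
    have h1 : u * x * u⁻¹ ∈ Subgroup.centralizer (N : Set G) ⊓ U :=
      ⟨hCn.conj_mem x hx.1 u, U.mul_mem (U.mul_mem hu hx.2) (U.inv_mem hu)⟩
    have h2 : n * u * x * (n * u)⁻¹ = n * (u * x * u⁻¹) * n⁻¹ := by group
    have h3 : n * (u * x * u⁻¹) = (u * x * u⁻¹) * n :=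
      Subgroup.mem_centralizer_iff.mp h1.1 n hn
    rw [h2, h3]
    have : u * x * u⁻¹ * n * n⁻¹ = u * x * u⁻¹ := by group
    rw [this]
    exact h1
  have hCU : Subgroup.centralizer (N : Set G) ⊓ U = ⊥ := by
    have := Subgroup.normal_le_normalCore.mpr (inf_le_right : Subgroup.centralizer (N : Set G) ⊓ U ≤ U)
    rwa [hcore, le_bot_iff] at this
  apply le_antisymm _ hNle
  intro c hc
  obtain ⟨n, hn, u, hu, rfl⟩ := hdecomp c
  have hu' : u ∈ Subgroup.centralizer (N : Set G) ⊓ U := by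
    refine ⟨?_, hu⟩
    have : u = n⁻¹ * (n * u) := by group
    rw [this]
    exact Subgroup.mul_mem _ (Subgroup.inv_mem _ (hNle hn)) hc
  rw [hCU, Subgroup.mem_bot] at hu'
  rw [hu', mul_one]; exact hn

/-- Further facts with a normal subgroup `L` strictly above `N`. -/
theorem corefree_facts2 (N U L : Subgroup G) [hNn : N.Normal] [hLn : L.Normal] (hNL : N ≤ L)
    (hne : N ≠ L) (hU : IsCoatom U)
    (hinf : N ⊓ U = ⊥) (hsup : N ⊔ U = ⊤) (hcent : Subgroup.centralizer (N : Set G) = N) :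
    Nat.card L = Nat.card N * Nat.card (L ⊓ U : Subgroup G) ∧
      Subgroup.normalizer ((L ⊓ U : Subgroup G) : Set G) = U := by
  have hdecomp : ∀ l ∈ L, ∃ n ∈ N, ∃ u ∈ L ⊓ U, n * u = l := by
    intro l hl
    have : l ∈ N ⊔ U := by rw [hsup]; trivial
    obtain ⟨n, hn, u, hu, rfl⟩ := Subgroup.mem_sup_of_normal_left.mp this
    refine ⟨n, hn, u, ⟨?_, hu⟩, rfl⟩
    have : u = n⁻¹ * (n * u) := by group
    rw [this]
    exact L.mul_mem (L.inv_mem (hNL hn)) hl
  have h1 : N ⊓ (L ⊓ U) = ⊥ := by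
    rw [eq_bot_iff, ← hinf]
    exact inf_le_inf_left N inf_le_right
  have h2 : N ⊔ (L ⊓ U) = L := by
    apply le_antisymm (sup_le hNL inf_le_left)
    intro l hl
    obtain ⟨n, hn, u, hu, rfl⟩ := hdecomp l hl
    exact Subgroup.mul_mem_sup hn hu
  have hcard : Nat.card L = Nat.card N * Nat.card (L ⊓ U : Subgroup G) := by
    have c := isComplement'_subgroupOf (M := N) (H := L ⊓ U) (L := L) hNL inf_le_left h1 h2
    have e := c.card_mul_card
    rw [card_subgroupOf_of_le hNL, card_subgroupOf_of_le (inf_le_left : L ⊓ U ≤ L)] at e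
    exact e.symm
  refine ⟨hcard, ?_⟩
  have hle : U ≤ Subgroup.normalizer ((L ⊓ U : Subgroup G) : Set G) := by
    refine (le_inf ?_ Subgroup.le_normalizer).trans Subgroup.inf_normalizer_le_normalizer_inf
    rw [Subgroup.normalizer_eq_top]
    exact le_top
  have hnetop : Subgroup.normalizer ((L ⊓ U : Subgroup G) : Set G) ≠ ⊤ := by
    intro htop
    have hQn : (L ⊓ U).Normal := Subgroup.normalizer_eq_top_iff.mp htop
    have hc : ⁅L ⊓ U, N⁆ = ⊥ := by
      rw [eq_bot_iff]
      refine (Subgroup.commutator_le_inf (L ⊓ U) N).trans ?_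
      rw [← hinf]
      exact le_inf inf_le_right (inf_le_left.trans inf_le_right)
    have hQN : L ⊓ U ≤ N := by
      have := Subgroup.commutator_eq_bot_iff_le_centralizer.mp hc
      rwa [hcent] at this
    have hQbot : L ⊓ U = ⊥ := by
      rw [eq_bot_iff, ← hinf]
      exact le_inf hQN inf_le_right
    rw [hQbot, Subgroup.card_bot, mul_one] at hcard
    exact hne (Subgroup.eq_of_le_of_card_ge hNL hcard.le)
  by_contra hneq
  exact hnetop (hU.2 _ (lt_of_le_of_ne hle (fun h => hneq h.symm)))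

end

/-- In a finite solvable group all core-free maximal subgroups are conjugate. -/
theorem result {G : Type*} [Group G] [Finite G] [Group.IsSolvable G] (U V : Subgroup G) (hU : IsCoatom U) (hV : IsCoatom V) (hUc : U.normalCore = ⊥) (hVc : V.normalCore = ⊥) : ∃ g : G, MulAut.conj g • U = V := by
  have hGnt : Nontrivial G := by
    obtain ⟨g, hg⟩ : ∃ g : G, g ∉ U := by
      by_contra h
      exact hU.1 (eq_top_iff.mpr fun x _ => by_contra fun hx => h ⟨x, hx⟩)
    exact ⟨⟨g, 1, fun h => hg (h ▸ U.one_mem)⟩⟩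
  -- a minimal normal subgroup
  obtain ⟨N, ⟨hNn, hNne⟩, hNmin⟩ := (Set.toFinite {K : Subgroup G | K.Normal ∧ K ≠ ⊥}).exists_minimal
    ⟨⊤, inferInstance, top_ne_bot⟩
  have hmin : ∀ K : Subgroup G, K.Normal → K ≤ N → K = ⊥ ∨ K = N := by
    intro K hKn hKN
    by_cases hK : K = ⊥
    · exact Or.inl hK
    · exact Or.inr (le_antisymm hKN (hNmin ⟨hKn, hK⟩ hKN))
  obtain ⟨hNcomm, p, hp, hexp⟩ := Cfsg.Agent.S0043.result N hNne hmin
  have hpF : Fact p.Prime := ⟨hp⟩
  have hNp : IsPGroup p N := fun x => ⟨1, by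
    have := hexp x x.2
    rw [pow_one]
    exact Subtype.ext this⟩
  obtain ⟨hU1, hU2, hcent⟩ := corefree_facts N U hNcomm hNne hmin hU hUc
  obtain ⟨hV1, hV2, _⟩ := corefree_facts N V hNcomm hNne hmin hV hVc
  by_cases hNtop : N = ⊤
  · rw [hNtop, top_inf_eq] at hU1 hV1
    exact ⟨1, by rw [cj_one, hU1, hV1]⟩
  have hQnt : Nontrivial (G ⧸ N) := by
    rw [← Finite.one_lt_card_iff_nontrivial, ← Subgroup.index_eq_card]
    have h0 : N.index ≠ 0 := Subgroup.index_ne_zero_of_finite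
    have h1 : N.index ≠ 1 := fun h => hNtop (Subgroup.index_eq_one.mp h)
    omega
  obtain ⟨q, Mbar, hq, hMn, hMne, hMq⟩ := exists_normal_pgroup (G ⧸ N)
  have hqF : Fact q.Prime := ⟨hq⟩
  obtain ⟨L, hL⟩ : ∃ L : Subgroup G, L = Mbar.comap (QuotientGroup.mk' N) := ⟨_, rfl⟩
  have hLn : L.Normal := hL ▸ hMn.comap _
  have hNL : N ≤ L := by
    rw [hL]
    intro x hx
    rw [Subgroup.mem_comap, QuotientGroup.mk'_apply, (QuotientGroup.eq_one_iff x).mpr hx]
    exact Subgroup.one_mem _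
  have hLcard : Nat.card L = Nat.card N * Nat.card Mbar := by
    rw [hL]; exact QuotientGroup.card_preimage_mk N _
  have hMcard : 1 < Nat.card Mbar := Mbar.one_lt_card_iff_ne_bot.mpr hMne
  have hNneL : N ≠ L := by
    intro h
    have hpos : 0 < Nat.card N := Nat.card_pos
    rw [← h] at hLcard
    nlinarith
  obtain ⟨a, ha⟩ := IsPGroup.iff_card.mp hNp
  obtain ⟨b, hb⟩ := IsPGroup.iff_card.mp hMq
  -- q ≠ p
  have hqp : q ≠ p := by
    intro hqp
    subst hqp
    have hLp : IsPGroup q L := IsPGroup.of_card (n := a + b) (by rw [hLcard, ha, hb, pow_add])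
    have hLnil : Group.IsNilpotent L := hLp.isNilpotent
    have hN'ne : N.subgroupOf L ≠ ⊥ := by
      intro h
      have h1 : Nat.card (N.subgroupOf L) = 1 := by rw [h, Subgroup.card_bot]
      rw [card_subgroupOf_of_le hNL] at h1
      exact hNne (Subgroup.card_eq_one.mp h1)
    have h65 := Cfsg.Agent.S0065.result (N.subgroupOf L) hN'ne
    obtain ⟨⟨z, hz⟩, hz1⟩ := (Subgroup.ne_bot_iff_exists_ne_one).mp h65
    have hzN : (z : G) ∈ N := Subgroup.mem_subgroupOf.mp hz.1
    have hzC : (z : G) ∈ Subgroup.centralizer (L : Set G) := by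
      rw [Subgroup.mem_centralizer_iff]
      intro l hl
      have := Subgroup.mem_center_iff.mp hz.2 ⟨l, hl⟩
      exact congrArg Subtype.val this
    have hZn : (N ⊓ Subgroup.centralizer (L : Set G)).Normal := inferInstance
    rcases hmin _ hZn inf_le_left with h | h
    · have : (z : G) ∈ N ⊓ Subgroup.centralizer (L : Set G) := ⟨hzN, hzC⟩
      rw [h, Subgroup.mem_bot] at this
      apply hz1
      ext
      exact this
    · have h1 : N ≤ Subgroup.centralizer (L : Set G) := h ▸ inf_le_right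
      have h2 : L ≤ Subgroup.centralizer (N : Set G) := Subgroup.le_centralizer_iff.mp h1
      rw [hcent] at h2
      exact hNneL (le_antisymm hNL h2)
  obtain ⟨hcU, hnU⟩ := corefree_facts2 N U L hNL hNneL hU hU1 hU2 hcent
  obtain ⟨hcV, hnV⟩ := corefree_facts2 N V L hNL hNneL hV hV1 hV2 hcent
  have hNpos : 0 < Nat.card N := Nat.card_pos
  have hQU : Nat.card (L ⊓ U : Subgroup G) = Nat.card Mbar := by
    rw [hLcard] at hcU
    exact (Nat.eq_of_mul_eq_mul_left hNpos hcU).symm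
  have hQV : Nat.card (L ⊓ V : Subgroup G) = Nat.card Mbar := by
    rw [hLcard] at hcV
    exact (Nat.eq_of_mul_eq_mul_left hNpos hcV).symm
  -- conjugacy in L
  have hHcard : Nat.card ((L ⊓ V).subgroupOf L) = Nat.card Mbar := by
    rw [card_subgroupOf_of_le inf_le_left, hQV]
  have hHidx : ((L ⊓ V).subgroupOf L).index = Nat.card N := by
    have e := Subgroup.card_mul_index ((L ⊓ V).subgroupOf L)
    rw [hHcard, hLcard, mul_comm (Nat.card N)] at e
    exact Nat.eq_of_mul_eq_mul_left (by omega) e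
  have hcop : (Nat.card ((L ⊓ V).subgroupOf L)).Coprime ((L ⊓ V).subgroupOf L).index := by
    rw [hHcard, hHidx, ha, hb]
    exact Nat.Coprime.pow _ _ ((Nat.coprime_primes hq hp).mpr hqp)
  have hKcard : Nat.card ((L ⊓ U).subgroupOf L) = Nat.card ((L ⊓ V).subgroupOf L) := by
    rw [hHcard, card_subgroupOf_of_le inf_le_left, hQU]
  obtain ⟨l, hl⟩ := hall_conj ((L ⊓ V).subgroupOf L) ((L ⊓ U).subgroupOf L) hcop hKcard
  have hl' := congrArg (Subgroup.map L.subtype) hl
  rw [map_cj, Subgroup.map_subgroupOf_eq_of_le inf_le_left,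
    Subgroup.map_subgroupOf_eq_of_le inf_le_left] at hl'
  replace hl' : MulAut.conj (l : G) • (L ⊓ V) = L ⊓ U := hl'
  have hl'' : MulAut.conj (l : G)⁻¹ • (L ⊓ U) = L ⊓ V := by
    rw [← hl']
    show MulAut.conj (l : G)⁻¹ • MulAut.conj (l : G) • (L ⊓ V) = L ⊓ V
    rw [← cj_mul, inv_mul_cancel, cj_one]
  refine ⟨(l : G)⁻¹, ?_⟩
  have h1 : MulAut.conj (l : G)⁻¹ • U ≤ V := by
    have := cj_le_normalizer_cj (g := (l : G)⁻¹) (P := L ⊓ U) (H := U) hnU.ge
    rw [hl'', hnV] at this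
    exact this
  have h2 : MulAut.conj (l : G) • V ≤ U := by
    have := cj_le_normalizer_cj (g := (l : G)) (P := L ⊓ V) (H := V) hnV.ge
    rw [hl', hnU] at this
    exact this
  apply le_antisymm h1
  have h3 := cj_le_cj (g := (l : G)⁻¹) h2
  rw [← cj_mul, inv_mul_cancel, cj_one] at h3
  exact h3

end Cfsg.Agent.S0551
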