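import Mathlib
import Cfsg.Statements.S0552
import Cfsg.Agent.S0044
import Cfsg.Agent.Lib.Helper2.Cores

set_option autoImplicit false
open Cfsg

namespace Cfsg.Agent.S0552

/-- Let σ be an automorphism of a finite solvable group G fixing every element of the Fitting subgroup. If σ is not the identity then the order of σ and the order of G have a common prime factor. -/
theorem result {G : Type*} [Group G] [Finite G] [Group.IsSolvable G] (σ : G ≃* G) (hσ : ∀ x ∈ Cfsg.fittingSubgroup G, σ x = x) (hne : σ ≠ MulEquiv.refl G) : ¬ (orderOf σ).Coprime (Nat.card G) := by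
  intro hcop
  apply hne
  have hFn : (fittingSubgroup G).Normal := Cfsg.Agent.Lib.Helper2.fittingSubgroup_normal
  have hCF := Cfsg.Agent.S0044.result (G := G)
  ext g
  show σ g = g
  have hc : g⁻¹ * σ g ∈ Subgroup.centralizer (fittingSubgroup G : Set G) := by
    rw [Subgroup.mem_centralizer_iff]
    intro x hx
    have hx' : g * x * g⁻¹ ∈ fittingSubgroup G := hFn.conj_mem x hx g
    have e1 : σ (g * x * g⁻¹) = g * x * g⁻¹ := hσ _ hx'
    rw [map_mul, map_mul, hσ x hx, map_inv] at e1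
    calc x * (g⁻¹ * σ g) = g⁻¹ * (g * x * g⁻¹) * σ g := by group
      _ = g⁻¹ * (σ g * x * (σ g)⁻¹) * σ g := by rw [e1]
      _ = g⁻¹ * σ g * x := by group
  have hcF : g⁻¹ * σ g ∈ fittingSubgroup G := hCF hc
  have hac : σ (g⁻¹ * σ g) = g⁻¹ * σ g := hσ _ hcF
  have key : ∀ k : ℕ, (σ ^ k) g = g * (g⁻¹ * σ g) ^ k := by
    obtain ⟨c, hcdef⟩ : ∃ c, c = g⁻¹ * σ g := ⟨_, rfl⟩
    have hag : σ g = g * c := by rw [hcdef]; group
    rw [← hcdef] at hac ⊢
    intro k
    induction k with
    | zero => simp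
    | succ k ih =>
      rw [pow_succ', MulAut.mul_apply, ih, map_mul, map_pow, hac, pow_succ', hag, mul_assoc]
  have hk := key (orderOf σ)
  rw [pow_orderOf_eq_one, MulAut.one_apply] at hk
  have hck : (g⁻¹ * σ g) ^ orderOf σ = 1 := by
    have := mul_left_cancel (a := g) (b := 1) (c := (g⁻¹ * σ g) ^ orderOf σ) (by rw [mul_one]; exact hk)
    exact this.symm
  have h1' : orderOf (g⁻¹ * σ g) ∣ orderOf σ := orderOf_dvd_of_pow_eq_one hck
  have h2' : orderOf (g⁻¹ * σ g) ∣ Nat.card G := orderOf_dvd_natCard _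
  have h3' : orderOf (g⁻¹ * σ g) = 1 := Nat.eq_one_of_dvd_coprimes hcop h1' h2'
  have hc1 : g⁻¹ * σ g = 1 := orderOf_eq_one_iff.mp h3'
  calc σ g = g * (g⁻¹ * σ g) := by group
    _ = g := by rw [hc1, mul_one]

end Cfsg.Agent.S0552
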