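import Cfsg.Statements.S0555
import Mathlib

set_option autoImplicit false
open Cfsg

namespace Cfsg.Agent.S0555

/-- A cyclic normal subgroup is centralized by the commutator subgroup. -/
theorem commutator_le_centralizer_of_isCyclic {Γ : Type*} [Group Γ] (N : Subgroup Γ) [hn : N.Normal]
    [hN : IsCyclic N] : commutator Γ ≤ Subgroup.centralizer (N : Set Γ) := by
  let _ := (hN.mulAutMulEquiv _).toMonoidHom.commGroupOfInjective (hN.mulAutMulEquiv _).injective
  have h := Abelianization.commutator_subset_ker N.normalizerMonoidHom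
  rwa [Subgroup.normalizerMonoidHom_ker, Subgroup.normalizer_eq_top,
    ← Subgroup.map_subtype_le_map_subtype, Subgroup.map_subtype_commutator,
    Subgroup.map_subgroupOf_eq_of_le le_top] at h

/-- The image of a cyclic section is cyclic. -/
theorem isCyclic_map_section {G Q : Type*} [Group G] [Group Q] (π : G →* Q) (A B : Subgroup G)
    (Bbar : Subgroup Q) (hB : B.map π ≤ Bbar) [(B.subgroupOf A).Normal]
    [((Bbar).subgroupOf (A.map π)).Normal]
    (h : IsCyclic (↥A ⧸ B.subgroupOf A)) :
    IsCyclic (↥(A.map π) ⧸ (Bbar).subgroupOf (A.map π)) := by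
  let f : ↥A →* ↥(A.map π) ⧸ (Bbar).subgroupOf (A.map π) :=
    (QuotientGroup.mk' _).comp (π.subgroupMap A)
  have hf : ∀ x ∈ B.subgroupOf A, f x = 1 := by
    intro x hx
    show QuotientGroup.mk' _ (π.subgroupMap A x) = 1
    rw [QuotientGroup.mk'_apply, QuotientGroup.eq_one_iff, Subgroup.mem_subgroupOf]
    exact hB ⟨x, hx, rfl⟩
  have hsurj : Function.Surjective (QuotientGroup.lift (B.subgroupOf A) f hf) := by
    apply QuotientGroup.lift_surjective_of_surjective
    exact (QuotientGroup.mk'_surjective _).comp (π.subgroupMap_surjective A)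
  exact isCyclic_of_surjective _ hsurj

theorem main {G : Type*} [Group G] (A B C : Subgroup G) [hBn : B.Normal] [hCn : C.Normal]
    (hAcomm : A ≤ commutator G) (hBdef : B = ⁅A, A⁆)
    [n1 : (B.subgroupOf A).Normal] [n2 : (C.subgroupOf B).Normal]
    (h₁ : IsCyclic (↥A ⧸ B.subgroupOf A)) (h₂ : IsCyclic (↥B ⧸ C.subgroupOf B)) : B ≤ C := by
  let π := QuotientGroup.mk' C
  have hπ : Function.Surjective π := QuotientGroup.mk'_surjective C
  -- B̄ is cyclic normal
  haveI hBbn : (B.map π).Normal := hBn.map π hπ
  haveI hBbc : IsCyclic ↥(B.map π) := by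
    let f : ↥B →* ↥(B.map π) := π.subgroupMap B
    have hf : ∀ x ∈ C.subgroupOf B, f x = 1 := by
      intro x hx
      apply Subtype.ext
      show π x = 1
      rw [QuotientGroup.mk'_apply, QuotientGroup.eq_one_iff]
      exact hx
    have hsurj : Function.Surjective (QuotientGroup.lift (C.subgroupOf B) f hf) :=
      QuotientGroup.lift_surjective_of_surjective _ _ (π.subgroupMap_surjective B) _
    exact isCyclic_of_surjective _ hsurj
  have hcent := commutator_le_centralizer_of_isCyclic (B.map π)
  have hAbar : A.map π ≤ Subgroup.centralizer ((B.map π : Subgroup (G ⧸ C)) : Set (G ⧸ C)) := by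
    refine le_trans ?_ hcent
    refine (Subgroup.map_mono hAcomm).trans ?_
    rw [commutator_def, Subgroup.map_commutator, commutator_def]
    exact Subgroup.commutator_mono le_top le_top
  -- Ā is commutative
  haveI hn2 : ((B.map π).subgroupOf (A.map π)).Normal := Subgroup.normal_subgroupOf
  have hcyc : IsCyclic (↥(A.map π) ⧸ (B.map π).subgroupOf (A.map π)) :=
    isCyclic_map_section π A B (B.map π) le_rfl h₁
  have hker : (QuotientGroup.mk' ((B.map π).subgroupOf (A.map π))).ker ≤ Subgroup.center ↥(A.map π) := by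
    rw [QuotientGroup.ker_mk']
    intro x hx
    rw [Subgroup.mem_subgroupOf] at hx
    rw [Subgroup.mem_center_iff]
    intro y
    apply Subtype.ext
    have := hAbar y.2
    rw [Subgroup.mem_centralizer_iff] at this
    exact (this _ hx).symm
  have hab : IsMulCommutative ↥(A.map π) :=
    (QuotientGroup.mk' ((B.map π).subgroupOf (A.map π))).isMulCommutative_of_isCyclic_of_ker_le_center hker
  have h3 : ⁅A.map π, A.map π⁆ = ⊥ := Subgroup.commutator_self_eq_bot_iff.mpr hab
  rw [← Subgroup.map_commutator, ← hBdef] at h3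
  intro b hb
  have : π b ∈ B.map π := ⟨b, hb, rfl⟩
  rw [h3, Subgroup.mem_bot, QuotientGroup.mk'_apply, QuotientGroup.eq_one_iff] at this
  exact this

theorem result {G : Type*} [Group G] (i : ℕ) (hi : 1 ≤ i) (h₁ : IsCyclic (↥(derivedSeries G i) ⧸ (derivedSeries G (i + 1)).subgroupOf (derivedSeries G i))) (h₂ : IsCyclic (↥(derivedSeries G (i + 1)) ⧸ (derivedSeries G (i + 2)).subgroupOf (derivedSeries G (i + 1)))) : derivedSeries G (i + 1) = derivedSeries G (i + 2) := by
  apply le_antisymm _ (derivedSeries_antitone G (by omega))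
  haveI := derivedSeries_normal G (i + 1)
  haveI := derivedSeries_normal G (i + 2)
  have hAcomm : derivedSeries G i ≤ commutator G := by
    rw [← derivedSeries_one]
    exact derivedSeries_antitone G hi
  exact main (derivedSeries G i) (derivedSeries G (i + 1)) (derivedSeries G (i + 2)) hAcomm
    (derivedSeries_succ G i) h₁ h₂

end Cfsg.Agent.S0555
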