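-- Statement S0556: Herstein's theorem (abelian maximal subgroup => derived length at most 3).
import Cfsg.Statements.S0556
import Mathlib
import Cfsg.Agent.Lib.Helper13.CoprimeSylow

set_option autoImplicit false
open Cfsg
open scoped IsMulCommutative
open scoped commutatorElement

namespace Cfsg.Agent.S0556

universe u

theorem comm_of_mem {G : Type*} [Group G] (A : Subgroup G) [IsMulCommutative A] {a b : G}
    (ha : a ∈ A) (hb : b ∈ A) : a * b = b * a := by
  have h := mul_comm (⟨a, ha⟩ : A) ⟨b, hb⟩
  exact congrArg Subtype.val h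

theorem commutator_self_eq_bot {G : Type*} [Group G] (A : Subgroup G) [IsMulCommutative A] :
    ⁅A, A⁆ = ⊥ := by
  rw [Subgroup.commutator_eq_bot_iff_le_centralizer]
  intro a ha
  rw [Subgroup.mem_centralizer_iff]
  intro b hb
  exact comm_of_mem A hb ha

theorem commutator_lt_of_isSolvable {G : Type*} [Group G] {N : Subgroup G}
    (hs : Group.IsSolvable N) (hN : N ≠ ⊥) : ⁅N, N⁆ < N := by
  have : Nontrivial N := (Subgroup.nontrivial_iff_ne_bot N).mpr hN
  have h := Group.IsSolvable.commutator_lt_top_of_nontrivial (G := N)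
  have e : ⁅N, N⁆ = (commutator N).map N.subtype := (Subgroup.map_subtype_commutator N).symm
  rw [e]
  calc (commutator N).map N.subtype < (⊤ : Subgroup N).map N.subtype :=
        (Subgroup.map_lt_map_iff_of_injective N.subtype_injective).mpr h
    _ = N := by rw [← MonoidHom.range_eq_map, Subgroup.range_subtype]

theorem conj_mem_iff {G : Type*} [Group G] [Finite G] {C : Subgroup G} {g : G}
    (h : ∀ x ∈ C, g * x * g⁻¹ ∈ C) (x : G) : x ∈ C ↔ g * x * g⁻¹ ∈ C := by
  refine ⟨h x, fun hx => ?_⟩
  let φ : C → C := fun c => ⟨g * c * g⁻¹, h c c.2⟩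
  have hinj : Function.Injective φ := by
    intro a b hab
    have h1 : g * (a : G) * g⁻¹ = g * (b : G) * g⁻¹ := congrArg Subtype.val hab
    exact Subtype.ext (mul_left_cancel (mul_right_cancel h1))
  obtain ⟨y, hy⟩ := (Finite.injective_iff_surjective.mp hinj) ⟨g * x * g⁻¹, hx⟩
  have h1 : g * (y : G) * g⁻¹ = g * x * g⁻¹ := congrArg Subtype.val hy
  have h2 : (y : G) = x := mul_left_cancel (mul_right_cancel h1)
  rw [← h2]; exact y.2

/-- A normal abelian maximal subgroup: the group is metabelian. -/
theorem normal_case {G : Type*} [Group G] (A : Subgroup G) (hA : IsCoatom A) [IsMulCommutative A]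
    [hAn : A.Normal] : derivedSeries G 2 = ⊥ := by
  obtain ⟨x, hx⟩ : ∃ x, x ∉ A := by
    by_contra h
    push_neg at h
    exact hA.1 ((Subgroup.eq_top_iff' A).mpr h)
  have hsup : A ⊔ Subgroup.zpowers x = ⊤ :=
    hA.2 _ (lt_of_le_of_ne le_sup_left
      (fun e => hx (e ▸ (le_sup_right : Subgroup.zpowers x ≤ _) (Subgroup.mem_zpowers x))))
  have hpow : ∀ g : G, ∃ i : ℤ, (QuotientGroup.mk' A g) = (QuotientGroup.mk' A x) ^ i := by
    intro g
    have hg : g ∈ A ⊔ Subgroup.zpowers x := by rw [hsup]; exact Subgroup.mem_top g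
    obtain ⟨a, ha, y, hy, rfl⟩ := Subgroup.mem_sup_of_normal_left.mp hg
    obtain ⟨i, rfl⟩ := Subgroup.mem_zpowers_iff.mp hy
    refine ⟨i, ?_⟩
    rw [map_mul, map_zpow, QuotientGroup.mk'_apply, (QuotientGroup.eq_one_iff a).mpr ha, one_mul]
  have hcomm : ∀ g h : G, ⁅g, h⁆ ∈ A := by
    intro g h
    rw [← QuotientGroup.eq_one_iff, ← QuotientGroup.mk'_apply, map_commutatorElement,
      commutatorElement_eq_one_iff_commute]
    obtain ⟨i, hi⟩ := hpow g
    obtain ⟨j, hj⟩ := hpow h
    rw [hi, hj]
    exact Commute.zpow_zpow_self _ i j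
  have h1 : derivedSeries G 1 ≤ A := by
    rw [derivedSeries_one, commutator_def, Subgroup.commutator_le]
    intro g _ h _
    exact hcomm g h
  rw [derivedSeries_succ]
  exact le_bot_iff.mp ((Subgroup.commutator_mono h1 h1).trans (commutator_self_eq_bot A).le)


/-- The Frobenius-complement case: an abelian maximal subgroup meeting its other conjugates trivially. -/
theorem ti_core {H : Type u} [Group H] [Finite H] (B : Subgroup H) (hB : IsCoatom B)
    [hBc : IsMulCommutative B] (hTI : ∀ g, g ∉ B → ∀ x ∈ B, g⁻¹ * x * g ∈ B → x = 1) :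
    derivedSeries H 2 = ⊥ := by
  classical
  by_cases hBn : B.Normal
  · exact normal_case B hB
  -- the index is coprime to the order
  have hcop : (Nat.card B).Coprime B.index := by
    apply Nat.coprime_of_dvd
    intro p hp hpB hpn
    haveI : Fact p.Prime := ⟨hp⟩
    obtain ⟨b, hb⟩ := exists_prime_orderOf_dvd_card' (G := B) p hpB
    have hb1 : (b : H) ≠ 1 := by
      intro h
      have : b = 1 := Subtype.ext h
      rw [this, orderOf_one] at hb
      exact hp.one_lt.ne hb
    have hP : IsPGroup p (Subgroup.zpowers (b : H)) := by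
      apply IsPGroup.of_card (n := 1)
      rw [Nat.card_zpowers, Subgroup.orderOf_coe, hb, pow_one]
    have hmod := hP.card_modEq_card_fixedPoints (H ⧸ B)
    have hfix : Nat.card (MulAction.fixedPoints (Subgroup.zpowers (b : H)) (H ⧸ B)) = 1 := by
      rw [Nat.card_eq_one_iff_unique]
      refine ⟨⟨?_⟩, ⟨⟨((1 : H) : H ⧸ B), ?_⟩⟩⟩
      · have hall : ∀ q : MulAction.fixedPoints (Subgroup.zpowers (b : H)) (H ⧸ B),
            (q : H ⧸ B) = ((1 : H) : H ⧸ B) := by
          rintro ⟨q, hq⟩
          induction q using QuotientGroup.induction_on with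
          | H g =>
          have h1 := hq ⟨(b : H), Subgroup.mem_zpowers _⟩
          have h2 : (((b : H) * g : H) : H ⧸ B) = (g : H ⧸ B) := h1
          rw [QuotientGroup.eq] at h2
          have h3 : g⁻¹ * (b : H) * g ∈ B := by
            have := B.inv_mem h2
            have e : (((b : H) * g)⁻¹ * g)⁻¹ = g⁻¹ * (b : H) * g := by group
            rwa [e] at this
          have hg : g ∈ B := by
            by_contra hg
            exact hb1 (hTI g hg (b : H) b.2 h3)
          show (g : H ⧸ B) = ((1 : H) : H ⧸ B)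
          rw [QuotientGroup.eq]
          exact B.mul_mem (B.inv_mem hg) B.one_mem
        intro q₁ q₂
        exact Subtype.ext ((hall q₁).trans (hall q₂).symm)
      · rintro ⟨c, hc⟩
        show ((c * 1 : H) : H ⧸ B) = ((1 : H) : H ⧸ B)
        rw [QuotientGroup.eq]
        obtain ⟨i, rfl⟩ := Subgroup.mem_zpowers_iff.mp hc
        have : (b : H) ^ i ∈ B := B.zpow_mem b.2 i
        simpa using this
    rw [hfix, ← Subgroup.index_eq_card] at hmod
    have h0 : B.index % p = 0 := Nat.mod_eq_zero_of_dvd hpn
    have h1 : B.index % p = 1 % p := hmod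
    rw [h0, Nat.mod_eq_of_lt hp.one_lt] at h1
    exact absurd h1 (by norm_num)
  -- the transfer
  let V : H →* B := MonoidHom.transfer (MonoidHom.id B)
  have hV : ∀ b : B, V b = b ^ B.index := by
    intro b
    have key : ∀ (k : ℕ) (g₀ : H), g₀⁻¹ * (b : H) ^ k * g₀ ∈ B →
        g₀⁻¹ * (b : H) ^ k * g₀ = (b : H) ^ k := by
      intro k g₀ hk
      by_cases hg : g₀ ∈ B
      · have h1 : g₀⁻¹ * (b : H) ^ k * g₀ = g₀ * (g₀⁻¹ * (b : H) ^ k) :=
          comm_of_mem B (B.mul_mem (B.inv_mem hg) (B.pow_mem b.2 k)) hg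
        rw [h1, mul_inv_cancel_left]
      · have h1 := hTI g₀ hg ((b : H) ^ k) (B.pow_mem b.2 k) hk
        rw [h1]; group
    have h2 := MonoidHom.transfer_eq_pow (MonoidHom.id B) (b : H) key
    show MonoidHom.transfer (MonoidHom.id B) (b : H) = b ^ B.index
    rw [h2]
    rfl
  -- powers are injective on `B`
  have hinjB : ∀ b : B, b ^ B.index = 1 → b = 1 := by
    intro b hb
    have h1 : orderOf b ∣ B.index := orderOf_dvd_of_pow_eq_one hb
    have h2 : orderOf b ∣ Nat.card B := orderOf_dvd_natCard b
    have h3 := Nat.eq_one_of_dvd_coprimes hcop h2 h1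
    exact orderOf_eq_one_iff.mp h3
  have hinf : V.ker ⊓ B = ⊥ := by
    rw [eq_bot_iff]
    rintro x ⟨hxK, hxB⟩
    have h1 : V x = 1 := hxK
    have h2 := hV ⟨x, hxB⟩
    rw [Subgroup.coe_mk, h1] at h2
    have h3 := hinjB ⟨x, hxB⟩ h2.symm
    rw [Subgroup.mem_bot]
    exact congrArg Subtype.val h3
  have hsurjB : ∀ c : B, ∃ b : B, V b = c := by
    have hinj : Function.Injective (fun b : B => b ^ B.index) := by
      intro a b hab
      have h1 : (a * b⁻¹) ^ B.index = 1 := by
        rw [mul_pow, inv_pow]
        exact mul_inv_eq_one.mpr hab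
      have h2 := hinjB _ h1
      exact mul_inv_eq_one.mp h2
    intro c
    obtain ⟨b, hb⟩ := (Finite.injective_iff_surjective.mp hinj) c
    exact ⟨b, (hV b).trans hb⟩
  have hVsurj : Function.Surjective V := fun c => by
    obtain ⟨b, hb⟩ := hsurjB c
    exact ⟨b, hb⟩
  have hsup : V.ker ⊔ B = ⊤ := by
    rw [Subgroup.eq_top_iff']
    intro g
    obtain ⟨b, hb⟩ := hsurjB (V g)
    have h1 : g * (b : H)⁻¹ ∈ V.ker := by
      rw [MonoidHom.mem_ker, map_mul, map_inv, hb, mul_inv_cancel]
    have h2 : g = g * (b : H)⁻¹ * b := by group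
    rw [h2]
    exact Subgroup.mul_mem _ (le_sup_left (a := V.ker) (b := B) h1) (le_sup_right (a := V.ker) (b := B) b.2)
  -- orders
  have hcardK : Nat.card V.ker = B.index := by
    have h1 := Subgroup.card_mul_index V.ker
    rw [Subgroup.index_ker, MonoidHom.range_eq_top.mpr hVsurj, Subgroup.card_top] at h1
    have h2 := Subgroup.card_mul_index B
    have hpos : 0 < Nat.card B := Nat.card_pos
    apply Nat.eq_of_mul_eq_mul_right hpos
    rw [h1, mul_comm, h2]
  have hcopK : (Nat.card B).Coprime (Nat.card V.ker) := by rw [hcardK]; exact hcop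
  -- invariant subgroups of the kernel
  have hinvar : ∀ R : Subgroup H, R ≤ V.ker → B ≤ Subgroup.normalizer (R : Set H) →
      R = ⊥ ∨ R = V.ker := by
    intro R hRK hBR
    by_cases hRB : R ≤ B
    · left
      rw [eq_bot_iff, ← hinf]
      exact le_inf hRK hRB
    · right
      have h1 : R ⊔ B = ⊤ := by
        rw [sup_comm]
        exact hB.2 _ (lt_of_le_of_ne le_sup_left (fun e => hRB (e ▸ le_sup_right)))
      have hRn : R.Normal := by
        have h2 : R ⊔ B ≤ Subgroup.normalizer (R : Set H) := sup_le Subgroup.le_normalizer hBR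
        rw [h1, top_le_iff] at h2
        exact Subgroup.normalizer_eq_top_iff.mp h2
      apply le_antisymm hRK
      intro k hk
      have hk' : k ∈ R ⊔ B := by rw [h1]; exact Subgroup.mem_top k
      obtain ⟨r, hr, b, hb, rfl⟩ := Subgroup.mem_sup_of_normal_left.mp hk'
      have h3 : b ∈ V.ker ⊓ B := by
        refine ⟨?_, hb⟩
        have := V.ker.mul_mem (V.ker.inv_mem (hRK hr)) hk
        rwa [inv_mul_cancel_left] at this
      rw [hinf, Subgroup.mem_bot] at h3
      rw [h3, mul_one]
      exact hr
  -- the kernel is abelian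
  have hKne : V.ker ≠ ⊥ := by
    intro h
    rw [h, bot_sup_eq] at hsup
    exact hB.1 hsup
  have hKab : ⁅V.ker, V.ker⁆ = ⊥ := by
    have hcard1 : Nat.card V.ker ≠ 1 := by
      intro h
      exact hKne ((Subgroup.card_eq_one).mp h)
    obtain ⟨r, hr, hrK⟩ := Nat.exists_prime_and_dvd hcard1
    haveI : Fact r.Prime := ⟨hr⟩
    have hBsolv : Group.IsSolvable B := isSolvable_of_comm (fun a b => mul_comm a b)
    obtain ⟨P, hP⟩ := Cfsg.Agent.Lib.Helper13.exists_invariant_sylow B V.ker
      Subgroup.le_normalizer_of_normal hcopK (Or.inl hBsolv) r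
    have hPne : (P : Subgroup V.ker).map V.ker.subtype ≠ ⊥ := by
      intro h
      rw [Subgroup.map_eq_bot_iff_of_injective _ (Subgroup.subtype_injective _)] at h
      exact P.ne_bot_of_dvd_card hrK h
    have hPK : (P : Subgroup V.ker).map V.ker.subtype = V.ker :=
      (hinvar _ (Subgroup.map_subtype_le _) hP).resolve_left hPne
    have hPtop : (P : Subgroup V.ker) = ⊤ := by
      apply Subgroup.map_injective (Subgroup.subtype_injective V.ker)
      rw [hPK, ← MonoidHom.range_eq_map, Subgroup.range_subtype]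
    have hKp : IsPGroup r V.ker := by
      have h1 : IsPGroup r (P : Subgroup V.ker) := P.2
      rw [hPtop] at h1
      exact h1.of_equiv Subgroup.topEquiv
    haveI : Group.IsNilpotent V.ker := hKp.isNilpotent
    have hlt : ⁅V.ker, V.ker⁆ < V.ker := commutator_lt_of_isSolvable inferInstance hKne
    have hnorm : (⁅V.ker, V.ker⁆ : Subgroup H).Normal := inferInstance
    rcases hinvar ⁅V.ker, V.ker⁆ hlt.le Subgroup.le_normalizer_of_normal with h | h
    · exact h
    · exact absurd h hlt.ne
  have h1 : derivedSeries H 1 ≤ V.ker := by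
    rw [derivedSeries_one]
    exact Abelianization.commutator_subset_ker V
  rw [derivedSeries_succ]
  exact le_bot_iff.mp ((Subgroup.commutator_mono h1 h1).trans hKab.le)

/-- If a finite group has a maximal subgroup that is abelian, then the third term of its derived series is trivial (so the group is solvable of derived length at most three). -/
theorem result {G : Type*} [Group G] [Finite G] (A : Subgroup G) (hA : IsCoatom A) [IsMulCommutative A] : derivedSeries G 3 = ⊥ := by
  by_cases hAn : A.Normal
  · have h := normal_case A hA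
    show ⁅derivedSeries G 2, derivedSeries G 2⁆ = ⊥
    rw [h]
    exact Subgroup.commutator_bot_left ⊥
  -- `A` is self-normalizing
  have hNA : ∀ g, (∀ x ∈ A, g * x * g⁻¹ ∈ A) → g ∈ A := by
    intro g hg
    by_contra hgA
    apply hAn
    have h1 : g ∈ Subgroup.normalizer (A : Set G) :=
      Subgroup.mem_normalizer_iff.mpr (conj_mem_iff hg)
    have h2 : A < Subgroup.normalizer (A : Set G) :=
      lt_of_le_of_ne Subgroup.le_normalizer (fun e => hgA (e ▸ h1))
    exact Subgroup.normalizer_eq_top_iff.mp (hA.2 _ h2)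
  -- the center lies in `A`
  have hZA : Subgroup.center G ≤ A := by
    by_contra hZ
    apply hAn
    have h1 : A ⊔ Subgroup.center G = ⊤ :=
      hA.2 _ (lt_of_le_of_ne le_sup_left (fun e => hZ (e ▸ le_sup_right)))
    have h2 : A ⊔ Subgroup.center G ≤ Subgroup.normalizer (A : Set G) := by
      apply sup_le Subgroup.le_normalizer
      intro z hz
      rw [Subgroup.mem_normalizer_iff]
      intro x
      have : z * x * z⁻¹ = x := by
        rw [Subgroup.mem_center_iff] at hz
        rw [← hz x, mul_inv_cancel_right]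
      rw [this]
    rw [h1, top_le_iff] at h2
    exact Subgroup.normalizer_eq_top_iff.mp h2
  -- TI modulo the center
  have hTI0 : ∀ g, g ∉ A → ∀ x ∈ A, g⁻¹ * x * g ∈ A → x ∈ Subgroup.center G := by
    intro g hg x hx hgx
    have hAC : A ≤ Subgroup.centralizer ({x} : Set G) := by
      intro a ha
      rw [Subgroup.mem_centralizer_iff]
      intro y hy
      rw [Set.mem_singleton_iff] at hy
      rw [hy]
      exact comm_of_mem A hx ha
    rcases hA.le_iff.mp hAC with h | h
    · -- centralizer is everything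
      rw [Subgroup.mem_center_iff]
      intro y
      have hy : y ∈ Subgroup.centralizer ({x} : Set G) := by rw [h]; exact Subgroup.mem_top y
      exact (Subgroup.mem_centralizer_iff.mp hy x rfl).symm
    · exfalso
      apply hg
      apply hNA
      intro a ha
      rw [← h, Subgroup.mem_centralizer_iff]
      intro y hy
      rw [Set.mem_singleton_iff] at hy
      rw [hy]
      have h1 : a * (g⁻¹ * x * g) = (g⁻¹ * x * g) * a := comm_of_mem A ha hgx
      calc x * (g * a * g⁻¹) = g * ((g⁻¹ * x * g) * a) * g⁻¹ := by group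
        _ = g * (a * (g⁻¹ * x * g)) * g⁻¹ := by rw [h1]
        _ = g * a * g⁻¹ * x := by group
  -- pass to the quotient by the center
  have hsurj := QuotientGroup.mk'_surjective (Subgroup.center G)
  have hmem : ∀ a : G, QuotientGroup.mk' (Subgroup.center G) a ∈
      A.map (QuotientGroup.mk' (Subgroup.center G)) → a ∈ A := by
    intro a h
    obtain ⟨y, hy, hya⟩ := h
    obtain ⟨z, hz, hzy⟩ := (QuotientGroup.mk'_eq_mk' (Subgroup.center G)).mp hya
    rw [← hzy]
    exact A.mul_mem hy (hZA hz)
  have hBco : IsCoatom (A.map (QuotientGroup.mk' (Subgroup.center G))) := by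
    constructor
    · intro h
      apply hA.1
      rw [Subgroup.eq_top_iff']
      intro a
      apply hmem
      rw [h]; exact Subgroup.mem_top _
    · intro C hC
      have h1 : A ≤ C.comap (QuotientGroup.mk' (Subgroup.center G)) := by
        intro a ha
        exact hC.le ⟨a, ha, rfl⟩
      rcases hA.le_iff.mp h1 with h | h
      · rw [← Subgroup.map_comap_eq_self_of_surjective hsurj C, h,
          Subgroup.map_top_of_surjective _ hsurj]
      · exfalso
        apply hC.ne
        rw [← Subgroup.map_comap_eq_self_of_surjective hsurj C, h]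
  have hTI : ∀ g', g' ∉ A.map (QuotientGroup.mk' (Subgroup.center G)) →
      ∀ x' ∈ A.map (QuotientGroup.mk' (Subgroup.center G)),
      g'⁻¹ * x' * g' ∈ A.map (QuotientGroup.mk' (Subgroup.center G)) → x' = 1 := by
    intro g' hg' x' hx' hgx'
    obtain ⟨g, rfl⟩ := hsurj g'
    obtain ⟨x, hx, rfl⟩ := hx'
    have hg : g ∉ A := fun h => hg' ⟨g, h, rfl⟩
    rw [← map_inv, ← map_mul, ← map_mul] at hgx'
    have h1 := hTI0 g hg x hx (hmem _ hgx')
    rw [QuotientGroup.mk'_apply]
    exact (QuotientGroup.eq_one_iff x).mpr h1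
  have hcore := ti_core _ hBco hTI
  have h2 : derivedSeries G 2 ≤ Subgroup.center G := by
    have h3 := map_derivedSeries_eq hsurj 2
    rw [hcore, Subgroup.map_eq_bot_iff, QuotientGroup.ker_mk'] at h3
    exact h3
  show ⁅derivedSeries G 2, derivedSeries G 2⁆ = ⊥
  have h4 : ⁅Subgroup.center G, Subgroup.center G⁆ = ⊥ := by
    rw [Subgroup.commutator_eq_bot_iff_le_centralizer]
    exact Subgroup.center_le_centralizer _
  exact le_bot_iff.mp ((Subgroup.commutator_mono h2 h2).trans h4.le)

end Cfsg.Agent.S0556
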