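import Mathlib
import Cfsg.Statements.S0557
import Cfsg.Agent.Lib.Helper2.HallNormal
import Cfsg.Agent.Lib.Helper2.SylowCount

set_option autoImplicit false
open Cfsg

namespace Cfsg.Agent.S0557

open scoped commutatorElement
open Cfsg.Agent.Lib.Helper2

universe u

theorem focal_mono {G : Type*} [Group G] {A B : Subgroup G} (h : A ≤ B) :
    Subgroup.focalSubgroup A ≤ Subgroup.focalSubgroup B := by
  rw [Subgroup.focalSubgroup_def, Subgroup.focalSubgroup_def]
  apply Subgroup.closure_mono
  rintro g ⟨hg, x, hx, u, rfl⟩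
  exact ⟨h hg, x, h hx, u, rfl⟩

theorem focal_map_subtype_le {G : Type*} [Group G] (G₁ : Subgroup G) (L : Subgroup G₁) :
    (Subgroup.focalSubgroup L).map G₁.subtype ≤ Subgroup.focalSubgroup (L.map G₁.subtype) := by
  rw [Subgroup.focalSubgroup_def, Subgroup.focalSubgroup_def, MonoidHom.map_closure]
  apply Subgroup.closure_mono
  rintro _ ⟨g, ⟨hg, x, hx, u, rfl⟩, rfl⟩
  refine ⟨Subgroup.mem_map_of_mem _ hg, (x : G), Subgroup.mem_map_of_mem _ hx, (u : G), ?_⟩
  simp [commutatorElement_def]

theorem focal_iterate_le {G : Type*} [Group G] (G₁ : Subgroup G) (K : Subgroup G₁) (k : ℕ) :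
    (((fun L : Subgroup G₁ => Subgroup.focalSubgroup L)^[k]) K).map G₁.subtype ≤
      ((fun L : Subgroup G => Subgroup.focalSubgroup L)^[k]) (K.map G₁.subtype) := by
  induction k with
  | zero => exact le_rfl
  | succ k ih =>
    rw [Function.iterate_succ_apply', Function.iterate_succ_apply']
    exact (focal_map_subtype_le G₁ _).trans (focal_mono ih)

/-- The transfer into `H/H*` restricted to a Hall subgroup `H` has kernel `H*`. -/
theorem transferFocal_eq_one_iff {G : Type*} [Group G] [Finite G] (H : Subgroup G)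
    (hHall : (Nat.card H).Coprime H.index) (x : G) (hx : x ∈ H) :
    H.transferFocal x = 1 ↔ x ∈ Subgroup.focalSubgroup H := by
  have hcop : (Nat.card (H ⧸ H.focalSubgroupOf)).Coprime H.index :=
    Nat.Coprime.coprime_dvd_left (Subgroup.card_quotient_dvd_card _) hHall
  have h1 := Subgroup.transferFocal_eq_pow H ⟨x, hx⟩
  have h1' : H.transferFocal x = ((⟨x, hx⟩ : H) : H ⧸ H.focalSubgroupOf) ^ H.index := h1
  rw [h1']
  constructor
  · intro h
    have h2 : (powCoprime hcop) ((⟨x, hx⟩ : H) : H ⧸ H.focalSubgroupOf) = (powCoprime hcop) 1 := by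
      simp only [powCoprime_apply, one_pow]
      exact h
    have h3 := (powCoprime hcop).injective h2
    have h4 : (⟨x, hx⟩ : H) ∈ H.focalSubgroupOf := (QuotientGroup.eq_one_iff _).mp h3
    exact Subgroup.mem_subgroupOf.mp h4
  · intro h
    have h4 : (⟨x, hx⟩ : H) ∈ H.focalSubgroupOf := Subgroup.mem_subgroupOf.mpr h
    rw [(QuotientGroup.eq_one_iff _).mpr h4, one_pow]

theorem exists_mem_transferFocal_eq {G : Type*} [Group G] [Finite G] (H : Subgroup G)
    (hHall : (Nat.card H).Coprime H.index) (g : G) :
    ∃ x ∈ H, H.transferFocal g = H.transferFocal x := by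
  have hcop : (Nat.card (H ⧸ H.focalSubgroupOf)).Coprime H.index :=
    Nat.Coprime.coprime_dvd_left (Subgroup.card_quotient_dvd_card _) hHall
  obtain ⟨y, hy⟩ := (powCoprime hcop).surjective (H.transferFocal g)
  obtain ⟨x, rfl⟩ := QuotientGroup.mk'_surjective _ y
  refine ⟨(x : G), x.2, ?_⟩
  have h1 := Subgroup.transferFocal_eq_pow H x
  rw [h1, ← hy]
  rfl

theorem main (n : ℕ) : ∀ (G : Type u) [Group G] [Finite G] (H : Subgroup G),
    (Nat.card H).Coprime H.index →
    ((fun K : Subgroup G => Subgroup.focalSubgroup K)^[n]) H = ⊥ →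
    ∃ N : Subgroup G, N.Normal ∧ Subgroup.IsComplement' N H := by
  induction n with
  | zero =>
    intro G _ _ H _ hfoc
    have hH : H = ⊥ := hfoc
    subst hH
    exact ⟨⊤, inferInstance, Subgroup.isComplement'_top_bot⟩
  | succ n ih =>
    intro G _ _ H hHall hfoc
    rw [Function.iterate_succ_apply] at hfoc
    -- the kernel of the transfer
    obtain ⟨G₁, hG₁⟩ : ∃ G₁ : Subgroup G, G₁ = H.transferFocal.ker := ⟨_, rfl⟩
    have hG₁n : G₁.Normal := by rw [hG₁]; infer_instance
    have hmemG₁ : ∀ y : G, y ∈ G₁ ↔ H.transferFocal y = 1 := by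
      intro y; rw [hG₁]; exact MonoidHom.mem_ker
    have hinf : G₁ ⊓ H = Subgroup.focalSubgroup H := by
      ext x
      constructor
      · intro hx
        have hx1 : x ∈ G₁ := hx.1
        have hx2 : x ∈ H := hx.2
        exact (transferFocal_eq_one_iff H hHall x hx2).mp ((hmemG₁ x).mp hx1)
      · intro hx
        have hx2 : x ∈ H := Subgroup.focalSubgroup_le H hx
        exact ⟨(hmemG₁ x).mpr ((transferFocal_eq_one_iff H hHall x hx2).mpr hx), hx2⟩
    have hsup : H ⊔ G₁ = ⊤ := by
      rw [eq_top_iff]
      intro g _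
      obtain ⟨x, hx, hgx⟩ := exists_mem_transferFocal_eq H hHall g
      have h1 : x⁻¹ * g ∈ G₁ := by
        rw [hmemG₁, map_mul, map_inv, hgx, inv_mul_cancel]
      have : g = x * (x⁻¹ * g) := by group
      rw [this]
      exact Subgroup.mul_mem _ (Subgroup.mem_sup_left hx) (Subgroup.mem_sup_right h1)
    have hfG₁ : Subgroup.focalSubgroup H ≤ G₁ := hinf ▸ inf_le_left
    have hfH : Subgroup.focalSubgroup H ≤ H := Subgroup.focalSubgroup_le H
    -- index of H* in G₁
    have hrel : (Subgroup.focalSubgroup H).relIndex G₁ = H.index := by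
      rw [← hinf, inf_comm, Subgroup.inf_relIndex_right, ← relIndex_sup_of_normal H G₁, hsup,
        Subgroup.relIndex_top_right]
    -- K = H* inside G₁
    have hKmap : ((Subgroup.focalSubgroup H).subgroupOf G₁).map G₁.subtype =
        Subgroup.focalSubgroup H := Subgroup.map_subgroupOf_eq_of_le hfG₁
    have hKcard : Nat.card ((Subgroup.focalSubgroup H).subgroupOf G₁) =
        Nat.card (Subgroup.focalSubgroup H) :=
      Nat.card_congr (Subgroup.subgroupOfEquivOfLe hfG₁).toEquiv
    have hKdvd : Nat.card (Subgroup.focalSubgroup H) ∣ Nat.card H :=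
      Subgroup.card_dvd_of_le hfH
    have hKHall : (Nat.card ((Subgroup.focalSubgroup H).subgroupOf G₁)).Coprime
        ((Subgroup.focalSubgroup H).subgroupOf G₁).index := by
      rw [hKcard]
      show (Nat.card (Subgroup.focalSubgroup H)).Coprime ((Subgroup.focalSubgroup H).relIndex G₁)
      rw [hrel]
      exact Nat.Coprime.coprime_dvd_left hKdvd hHall
    have hKfoc : ((fun L : Subgroup G₁ => Subgroup.focalSubgroup L)^[n])
        ((Subgroup.focalSubgroup H).subgroupOf G₁) = ⊥ := by
      have h1 := focal_iterate_le G₁ ((Subgroup.focalSubgroup H).subgroupOf G₁) n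
      rw [hKmap, hfoc, le_bot_iff] at h1
      exact (Subgroup.map_eq_bot_iff_of_injective _ G₁.subtype_injective).mp h1
    obtain ⟨N₁, hN₁n, hN₁c⟩ := ih G₁ ((Subgroup.focalSubgroup H).subgroupOf G₁) hKHall hKfoc
    -- card N₁ = index of H
    have hN₁card : Nat.card N₁ = H.index := by
      have h1 := hN₁c.card_mul
      have h2 := Subgroup.card_mul_index ((Subgroup.focalSubgroup H).subgroupOf G₁)
      have h3 : ((Subgroup.focalSubgroup H).subgroupOf G₁).index = H.index := hrel
      rw [h3] at h2
      have hpos : 0 < Nat.card ((Subgroup.focalSubgroup H).subgroupOf G₁) := Nat.card_pos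
      have : Nat.card ((Subgroup.focalSubgroup H).subgroupOf G₁) * Nat.card N₁ =
          Nat.card ((Subgroup.focalSubgroup H).subgroupOf G₁) * H.index := by
        rw [h2, mul_comm, h1]
      exact Nat.eq_of_mul_eq_mul_left hpos this
    have hN₁idx : N₁.index = Nat.card ((Subgroup.focalSubgroup H).subgroupOf G₁) := by
      have h1 := hN₁c.card_mul
      have h2 := Subgroup.card_mul_index N₁
      have hpos : 0 < Nat.card N₁ := Nat.card_pos
      have : Nat.card N₁ * N₁.index =
          Nat.card N₁ * Nat.card ((Subgroup.focalSubgroup H).subgroupOf G₁) := by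
        rw [h2, h1]
      exact Nat.eq_of_mul_eq_mul_left hpos this
    -- N = image of N₁ in G
    have hNcard : Nat.card (N₁.map G₁.subtype) = H.index := by
      rw [Subgroup.card_map_of_injective G₁.subtype_injective, hN₁card]
    have hNle : N₁.map G₁.subtype ≤ G₁ := Subgroup.map_subtype_le N₁
    have hNnormal : (N₁.map G₁.subtype).Normal := by
      constructor
      intro m hm g
      -- the conjugate of N by g, inside G₁
      have hconj : ∀ y ∈ N₁.map G₁.subtype, g * y * g⁻¹ ∈ G₁ := fun y hy =>
        hG₁n.conj_mem y (hNle hy) g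
      -- subgroup of G₁: conjugate
      let C : Subgroup G₁ := ((N₁.map G₁.subtype).map (MulAut.conj g).toMonoidHom).subgroupOf G₁
      have hCle : (N₁.map G₁.subtype).map (MulAut.conj g).toMonoidHom ≤ G₁ := by
        rintro _ ⟨y, hy, rfl⟩
        exact hconj y hy
      have hCcard : Nat.card C = H.index := by
        rw [Nat.card_congr (Subgroup.subgroupOfEquivOfLe hCle).toEquiv,
          Subgroup.card_map_of_injective (MulAut.conj g).injective, hNcard]
      have hCN : C ≤ N₁ := by
        apply le_of_coprime_index_of_normal N₁ C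
        rw [hCcard, hN₁idx, hKcard]
        exact (Nat.Coprime.coprime_dvd_left hKdvd hHall).symm
      have hmem : g * m * g⁻¹ ∈ (N₁.map G₁.subtype).map (MulAut.conj g).toMonoidHom :=
        ⟨m, hm, rfl⟩
      have h1 : (⟨g * m * g⁻¹, hCle hmem⟩ : G₁) ∈ C := Subgroup.mem_subgroupOf.mpr hmem
      have h2 := hCN h1
      exact ⟨⟨g * m * g⁻¹, hCle hmem⟩, h2, rfl⟩
    refine ⟨N₁.map G₁.subtype, hNnormal, ?_⟩
    apply Subgroup.isComplement'_of_coprime
    · rw [hNcard, mul_comm]; exact Subgroup.card_mul_index H
    · rw [hNcard]; exact hHall.symm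

/-- Let H be a subgroup of a finite group G with order coprime to its index. If iterating the focal-subgroup construction starting from H reaches the trivial subgroup after finitely many steps, then H has a normal complement in G. -/
theorem result {G : Type*} [Group G] [Finite G] (H : Subgroup G) (hHall : (Nat.card H).Coprime H.index) (n : ℕ) (hfoc : (fun K : Subgroup G => Subgroup.focalSubgroup K)^[n] H = ⊥) : ∃ N : Subgroup G, N.Normal ∧ Subgroup.IsComplement' N H := by
  exact main n G H hHall hfoc

end Cfsg.Agent.S0557
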