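import Mathlib
import Cfsg.Statements.S0558
import Cfsg.Agent.S0557
import Cfsg.Agent.Lib.Helper2.NilpotentCoprime
import Cfsg.Agent.Lib.Helper13.Coprime

set_option autoImplicit false
open Cfsg

namespace Cfsg.Agent.S0558

open scoped commutatorElement
open scoped Pointwise
open Cfsg.Agent.Lib.Helper2
open Cfsg.Agent.Lib.Helper13

universe u

section
variable {G : Type u} [Group G] [Finite G]

/-- Two Sylow subgroups inside a subgroup `C` are conjugate by an element of `C`. -/
theorem sylow_conj_in {q : ℕ} [Fact q.Prime] (C : Subgroup G) (P₁ P₂ : Sylow q G)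
    (h₁ : (P₁ : Subgroup G) ≤ C) (h₂ : (P₂ : Subgroup G) ≤ C) :
    ∃ c ∈ C, MulAut.conj c • (P₁ : Subgroup G) = (P₂ : Subgroup G) := by
  obtain ⟨c, hc⟩ := MulAction.exists_smul_eq C (P₁.subtype h₁) (P₂.subtype h₂)
  rw [Sylow.smul_subtype h₁ c] at hc
  have h3 := Sylow.subtype_injective hc
  refine ⟨c, c.2, ?_⟩
  rw [← h3]
  exact (Sylow.coe_subgroup_smul).symm

/-- Fusion of `q'`-elements of `H` is controlled by `H`. -/
theorem fusion (H : Subgroup G) (hnil : Group.IsNilpotent H) {q : ℕ} [Fact q.Prime]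
    (S : Sylow q G) (hSH : (S : Subgroup G) ≤ H)
    (hSn : Subgroup.normalizer ((S : Subgroup G) : Set G) = H)
    (x u : G) (hx : x ∈ H) (hx' : u * x * u⁻¹ ∈ H) (hcop : (orderOf x).Coprime q) :
    ∃ h ∈ H, h * x * h⁻¹ = u * x * u⁻¹ := by
  have hord : orderOf (u * x * u⁻¹) = orderOf x :=
    orderOf_injective (MulAut.conj u).toMonoidHom (MulAut.conj u).injective x
  have hcomm : ∀ z ∈ H, (orderOf z).Coprime q → ∀ y ∈ (S : Subgroup G), y * z = z * y := by
    intro z hz hzq y hy
    obtain ⟨k, hk⟩ := S.isPGroup' ⟨y, hy⟩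
    have hk' : y ^ q ^ k = 1 := by
      have := congrArg Subtype.val hk
      simpa using this
    have hy1 : orderOf y ∣ q ^ k := orderOf_dvd_of_pow_eq_one hk'
    have hc : (orderOf y).Coprime (orderOf z) :=
      Nat.Coprime.coprime_dvd_left hy1 (Nat.Coprime.pow_left _ hzq.symm)
    exact commute_of_coprime_orderOf_of_mem H hnil y z (hSH hy) hz hc
  have h₁ : (S : Subgroup G) ≤ Subgroup.centralizer ({u * x * u⁻¹} : Set G) := by
    intro y hy
    rw [Subgroup.mem_centralizer_iff]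
    intro z hz
    rw [Set.mem_singleton_iff] at hz
    subst hz
    exact (hcomm _ hx' (hord ▸ hcop) y hy).symm
  have h₂ : ((MulAut.conj u • S : Sylow q G) : Subgroup G) ≤
      Subgroup.centralizer ({u * x * u⁻¹} : Set G) := by
    rw [Sylow.pointwise_smul_def]
    intro y hy
    rw [mem_cj] at hy
    have h3 := hcomm x hx hcop _ hy
    rw [Subgroup.mem_centralizer_iff]
    intro z hz
    rw [Set.mem_singleton_iff] at hz
    subst hz
    have e1 : y = u * (u⁻¹ * y * u) * u⁻¹ := by group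
    rw [e1]
    calc u * x * u⁻¹ * (u * (u⁻¹ * y * u) * u⁻¹) = u * (x * (u⁻¹ * y * u)) * u⁻¹ := by group
      _ = u * ((u⁻¹ * y * u) * x) * u⁻¹ := by rw [h3]
      _ = u * (u⁻¹ * y * u) * u⁻¹ * (u * x * u⁻¹) := by group
  obtain ⟨c, hcC, hc⟩ := sylow_conj_in _ (MulAut.conj u • S) S h₂ h₁
  rw [Sylow.pointwise_smul_def, ← cj_mul] at hc
  have hcu : c * u ∈ H := by
    rw [← hSn]
    exact cj_eq_self_iff_mem_normalizer.mp hc
  refine ⟨c * u, hcu, ?_⟩
  rw [Subgroup.mem_centralizer_iff] at hcC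
  have h4 := hcC (u * x * u⁻¹) (Set.mem_singleton _)
  calc c * u * x * (c * u)⁻¹ = c * (u * x * u⁻¹) * c⁻¹ := by group
    _ = (u * x * u⁻¹) * c * c⁻¹ := by rw [h4]
    _ = u * x * u⁻¹ := by group

theorem focal_le_commutator (H : Subgroup G) (hnil : Group.IsNilpotent H) {p q : ℕ}
    [Fact p.Prime] [Fact q.Prime] (hpq : p ≠ q)
    (Sp : Sylow p G) (hSpH : (Sp : Subgroup G) ≤ H)
    (hSpn : Subgroup.normalizer ((Sp : Subgroup G) : Set G) = H)
    (Sq : Sylow q G) (hSqH : (Sq : Subgroup G) ≤ H)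
    (hSqn : Subgroup.normalizer ((Sq : Subgroup G) : Set G) = H)
    (K : Subgroup G) (hK : K ≤ H) : Subgroup.focalSubgroup K ≤ ⁅K, H⁆ := by
  have hp : p.Prime := Fact.out
  have hq : q.Prime := Fact.out
  rw [Subgroup.focalSubgroup_def, Subgroup.closure_le]
  rintro g ⟨hgK, x, hxK, u, rfl⟩
  -- x' = u x u⁻¹ ∈ K
  have hx'K : u * x * u⁻¹ ∈ K := by
    have h1 : x⁻¹ * ⁅x, u⁆ ∈ K := K.mul_mem (K.inv_mem hxK) hgK
    have h2 : x⁻¹ * ⁅x, u⁆ = (u * x * u⁻¹)⁻¹ := by
      rw [commutatorElement_def]; group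
    rw [h2] at h1
    exact (K.inv_mem_iff).mp h1
  obtain ⟨a, b, ha, hb, hxab, ⟨k, hak⟩, hbp⟩ := exists_p_decomp x p hp
  have hzK : ∀ z ∈ Subgroup.zpowers x, z ∈ K ∧ u * z * u⁻¹ ∈ K := by
    rintro z ⟨i, rfl⟩
    refine ⟨K.zpow_mem hxK i, ?_⟩
    have : u * x ^ i * u⁻¹ = (u * x * u⁻¹) ^ i := by
      rw [conj_zpow]
    rw [this]
    exact K.zpow_mem hx'K i
  obtain ⟨haK, ha'K⟩ := hzK a ha
  obtain ⟨hbK, hb'K⟩ := hzK b hb
  have haq : (orderOf a).Coprime q :=
    Nat.Coprime.coprime_dvd_left hak (Nat.Coprime.pow_left _ ((Nat.coprime_primes hp hq).mpr hpq))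
  obtain ⟨h₁, hh₁, e₁⟩ := fusion H hnil Sq hSqH hSqn a u (hK haK) (hK ha'K) haq
  obtain ⟨h₂, hh₂, e₂⟩ := fusion H hnil Sp hSpH hSpn b u (hK hbK) (hK hb'K) hbp
  -- g = (a ⁅b,h₂⁆ a⁻¹) ⁅a,h₁⁆
  have hg : ⁅x, u⁆ = (a * ⁅b, h₂⁆ * a⁻¹) * ⁅a, h₁⁆ := by
    have e3 : ⁅x, u⁆ = a * b * (u * b * u⁻¹)⁻¹ * (u * a * u⁻¹)⁻¹ := by
      rw [commutatorElement_def, hxab]; group
    rw [e3, ← e₁, ← e₂, commutatorElement_def, commutatorElement_def]
    group
  rw [hg]
  have hc2 : ⁅b, h₂⁆ ∈ ⁅K, H⁆ := Subgroup.commutator_mem_commutator hbK hh₂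
  have hc1 : ⁅a, h₁⁆ ∈ ⁅K, H⁆ := Subgroup.commutator_mem_commutator haK hh₁
  have hnorm := le_normalizer_commutator K H (Subgroup.mem_sup_left haK)
  rw [Subgroup.mem_normalizer_iff] at hnorm
  exact Subgroup.mul_mem _ ((hnorm _).mp hc2) hc1

theorem focal_iterate_le_lcs (H : Subgroup G) (hnil : Group.IsNilpotent H) {p q : ℕ}
    [Fact p.Prime] [Fact q.Prime] (hpq : p ≠ q)
    (Sp : Sylow p G) (hSpH : (Sp : Subgroup G) ≤ H)
    (hSpn : Subgroup.normalizer ((Sp : Subgroup G) : Set G) = H)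
    (Sq : Sylow q G) (hSqH : (Sq : Subgroup G) ≤ H)
    (hSqn : Subgroup.normalizer ((Sq : Subgroup G) : Set G) = H) (k : ℕ) :
    ((fun K : Subgroup G => Subgroup.focalSubgroup K)^[k]) H ≤ H.lowerCentralSeries k := by
  induction k with
  | zero => exact le_rfl
  | succ k ih =>
    rw [Function.iterate_succ_apply', Subgroup.lowerCentralSeries_succ]
    have hle : H.lowerCentralSeries k ≤ H := by
      have := Subgroup.lowerCentralSeries_antitone H (Nat.zero_le k)
      simpa using this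
    exact (Cfsg.Agent.S0557.focal_mono ih).trans
      (focal_le_commutator H hnil hpq Sp hSpH hSpn Sq hSqH hSqn _ hle)

end

/-- Let H be a subgroup of a finite group G that is not a Sylow subgroup of G for any prime, and suppose that for every prime p dividing the order of H and every Sylow p-subgroup P of H the normalizer of P in G is exactly H. Then some normal subgroup of G is a complement to H. -/
theorem result {G : Type*} [Group G] [Finite G] (H : Subgroup G) (hnot : ∀ p : ℕ, p.Prime → ∀ P : Sylow p G, (P : Subgroup G) ≠ H) (hnorm : ∀ p : ℕ, p.Prime → p ∣ Nat.card H → ∀ P : Sylow p H, Subgroup.normalizer (((P : Subgroup H).map H.subtype : Subgroup G) : Set G) = H) : ∃ N : Subgroup G, N.Normal ∧ Subgroup.IsComplement' N H := by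
  by_cases hH : H = ⊥
  · subst hH
    exact ⟨⊤, inferInstance, Subgroup.isComplement'_top_bot⟩
  -- Sylow subgroups of H are Sylow in G
  have hsyl : ∀ (p : ℕ) [Fact p.Prime], p ∣ Nat.card H → ∀ P : Sylow p H,
      ∃ S : Sylow p G, (S : Subgroup G) = (P : Subgroup H).map H.subtype := by
    intro p _ hpH P
    have hpg : IsPGroup p ((P : Subgroup H).map H.subtype : Subgroup G) := P.isPGroup'.map _
    have hn := hnorm p Fact.out hpH P
    obtain ⟨n, hcard⟩ := IsPGroup.iff_card.mp hpg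
    have hmod := Sylow.card_quotient_normalizer_modEq_card_quotient hcard
    have e1 : Nat.card (↥(Subgroup.normalizer (((P : Subgroup H).map H.subtype : Subgroup G) : Set G)) ⧸
        Subgroup.comap (Subgroup.normalizer
          (((P : Subgroup H).map H.subtype : Subgroup G) : Set G)).subtype
          ((P : Subgroup H).map H.subtype)) =
        ((P : Subgroup H).map H.subtype).relIndex
          (Subgroup.normalizer (((P : Subgroup H).map H.subtype : Subgroup G) : Set G)) := by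
      rw [← Subgroup.index_eq_card]
      rfl
    rw [e1, hn, ← Subgroup.index_eq_card] at hmod
    have e2 : ((P : Subgroup H).map H.subtype).relIndex H = (P : Subgroup H).index := by
      show (((P : Subgroup H).map H.subtype).subgroupOf H).index = _
      rw [Subgroup.subgroupOf, Subgroup.comap_map_eq_self_of_injective H.subtype_injective]
    rw [e2] at hmod
    have hidx : ¬ p ∣ ((P : Subgroup H).map H.subtype).index := by
      intro hdiv
      have h0 : ((P : Subgroup H).map H.subtype).index ≡ 0 [MOD p] :=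
        (Nat.modEq_zero_iff_dvd).mpr hdiv
      have h1 : (P : Subgroup H).index ≡ 0 [MOD p] := hmod.trans h0
      exact P.not_dvd_index ((Nat.modEq_zero_iff_dvd).mp h1)
    exact ⟨hpg.toSylow hidx, IsPGroup.toSylow_coe hpg hidx⟩
  -- H is nilpotent
  have hnil : Group.IsNilpotent H := by
    have q := (Group.isNilpotent_of_finite_tfae (G := H)).out 0 3
    rw [q]
    intro p hp P
    by_cases hpH : p ∣ Nat.card H
    · have hn := hnorm p hp.out hpH P
      have h1 : ((P : Subgroup H).map H.subtype) ≤ H := Subgroup.map_subtype_le _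
      have h2 : (((P : Subgroup H).map H.subtype).subgroupOf H).Normal :=
        (Subgroup.normal_subgroupOf_iff_le_normalizer h1).mpr hn.ge
      have e : ((P : Subgroup H).map H.subtype).subgroupOf H = (P : Subgroup H) := by
        rw [Subgroup.subgroupOf, Subgroup.comap_map_eq_self_of_injective H.subtype_injective]
      rw [e] at h2
      exact h2
    · have hc : Nat.card (P : Subgroup H) = 1 := by
        rw [P.card_eq_multiplicity, Nat.factorization_eq_zero_of_not_dvd hpH, pow_zero]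
      have : (P : Subgroup H) = ⊥ := Subgroup.card_eq_one.mp hc
      rw [this]
      infer_instance
  -- H is a Hall subgroup
  have hHall : (Nat.card H).Coprime H.index := by
    apply Nat.coprime_of_dvd
    intro k hk hkH hkidx
    have : Fact k.Prime := ⟨hk⟩
    obtain ⟨P⟩ : Nonempty (Sylow k H) := inferInstance
    obtain ⟨S, hS⟩ := hsyl k hkH P
    have h1 : (S : Subgroup G) ≤ H := hS ▸ Subgroup.map_subtype_le _
    have h2 := Subgroup.relIndex_mul_index h1
    exact S.not_dvd_index (h2 ▸ Dvd.dvd.mul_left hkidx _)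
  -- two distinct primes divide the order of H
  have hcard1 : Nat.card H ≠ 1 := fun h => hH (Subgroup.card_eq_one.mp h)
  obtain ⟨p, hp, hpH⟩ := Nat.exists_prime_and_dvd hcard1
  have : Fact p.Prime := ⟨hp⟩
  have hex : ∃ q : ℕ, q.Prime ∧ q ∣ Nat.card H ∧ q ≠ p := by
    by_contra hno
    push Not at hno
    have hpow := Nat.eq_prime_pow_of_unique_prime_dvd (n := Nat.card H) (p := p)
      Nat.card_pos.ne' (fun {d} hd hdH => hno d hd hdH)
    obtain ⟨P⟩ : Nonempty (Sylow p H) := inferInstance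
    obtain ⟨S, hS⟩ := hsyl p hpH P
    obtain ⟨m, hm⟩ : ∃ m, Nat.card H = p ^ m := ⟨_, hpow⟩
    have hPtop : (P : Subgroup H) = ⊤ := by
      apply Subgroup.eq_top_of_card_eq
      rw [P.card_eq_multiplicity, hm, Nat.Prime.factorization_pow hp, Finsupp.single_eq_same]
    apply hnot p hp S
    rw [hS, hPtop, ← MonoidHom.range_eq_map, Subgroup.range_subtype]
  obtain ⟨q, hq, hqH, hqp⟩ := hex
  have : Fact q.Prime := ⟨hq⟩
  obtain ⟨Pp⟩ : Nonempty (Sylow p H) := inferInstance
  obtain ⟨Pq⟩ : Nonempty (Sylow q H) := inferInstance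
  obtain ⟨Sp, hSp⟩ := hsyl p hpH Pp
  obtain ⟨Sq, hSq⟩ := hsyl q hqH Pq
  have hSpH : (Sp : Subgroup G) ≤ H := hSp ▸ Subgroup.map_subtype_le _
  have hSqH : (Sq : Subgroup G) ≤ H := hSq ▸ Subgroup.map_subtype_le _
  have hSpn : Subgroup.normalizer ((Sp : Subgroup G) : Set G) = H := by
    rw [hSp]; exact hnorm p hp hpH Pp
  have hSqn : Subgroup.normalizer ((Sq : Subgroup G) : Set G) = H := by
    rw [hSq]; exact hnorm q hq hqH Pq
  obtain ⟨n, hn⟩ := (Subgroup.isNilpotent_iff_lowerCentralSeries H).mp hnil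
  have hfoc : ((fun K : Subgroup G => Subgroup.focalSubgroup K)^[n]) H = ⊥ := by
    rw [← le_bot_iff, ← hn]
    exact focal_iterate_le_lcs H hnil hqp.symm Sp hSpH hSpn Sq hSqH hSqn n
  exact Cfsg.Agent.S0557.main n G H hHall hfoc

end Cfsg.Agent.S0558
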