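import Cfsg.Statements.S0560
import Cfsg.Agent.Lib.Helper15.SylowIn
import Cfsg.Agent.Lib.Helper15.ProdFormula

set_option autoImplicit false
open Cfsg
open scoped Pointwise

namespace Cfsg.Agent.S0560

open Cfsg.Agent.Lib.Helper15

theorem isSylowOf_map_conj_of_mem {G : Type*} [Group G] [Finite G] {p : ℕ} [Fact p.Prime]
    {H P : Subgroup G} (h : IsSylowOf p H P) (x : G) (hx : x ∈ H) :
    IsSylowOf p H (P.map (MulAut.conj x : G →* G)) := by
  rw [isSylowOf_iff_card] at h ⊢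
  refine ⟨?_, ?_⟩
  · rintro _ ⟨y, hy, rfl⟩
    show MulAut.conj x y ∈ H
    rw [MulAut.conj_apply]
    exact H.mul_mem (H.mul_mem hx (h.1 hy)) (H.inv_mem hx)
  · rw [Subgroup.card_map_of_injective (MulAut.conj x).injective]
    exact h.2

theorem result {G : Type*} [Group G] [Finite G] (H K : Subgroup G) (hHK : ∀ g : G, ∃ h ∈ H, ∃ k ∈ K, g = h * k) (p : ℕ) [Fact p.Prime] : ∃ (P : Sylow p H) (Q : Sylow p K) (R : Sylow p G), ((R : Subgroup G) : Set G) = (((P : Subgroup H).map H.subtype : Subgroup G) : Set G) * (((Q : Subgroup K).map K.subtype : Subgroup G) : Set G) := by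
  have hp : p.Prime := Fact.out
  -- Sylow subgroups of H and K
  obtain ⟨P₀, hP₀, -⟩ := exists_isSylowOf_ge (p := p) H ⊥ IsPGroup.of_bot bot_le
  obtain ⟨Q₀, hQ₀, -⟩ := exists_isSylowOf_ge (p := p) K ⊥ IsPGroup.of_bot bot_le
  obtain ⟨R₁, hR₁⟩ := hP₀.isPGroup.exists_le_sylow
  obtain ⟨R₂, hR₂⟩ := hQ₀.isPGroup.exists_le_sylow
  obtain ⟨g, hg⟩ := MulAction.exists_smul_eq G R₁ R₂
  -- g = k * h
  obtain ⟨h', hh', k', hk', hgk⟩ := hHK g⁻¹
  have hgkh : g = k'⁻¹ * h'⁻¹ := by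
    have : g = (g⁻¹)⁻¹ := by group
    rw [this, hgk]; group
  have hP := isSylowOf_map_conj_of_mem hP₀ h'⁻¹ (H.inv_mem hh')
  have hQ := isSylowOf_map_conj_of_mem hQ₀ k' hk'
  -- both lie in R = h'⁻¹ • R₁
  have hPR : P₀.map (MulAut.conj h'⁻¹ : G →* G) ≤ ((h'⁻¹ • R₁ : Sylow p G) : Subgroup G) := by
    rintro _ ⟨y, hy, rfl⟩
    rw [Sylow.coe_subgroup_smul, Subgroup.mem_pointwise_smul_iff_inv_smul_mem]
    have e : (MulAut.conj h'⁻¹)⁻¹ • ((MulAut.conj h'⁻¹ : G →* G) y) = y := by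
      simp [MulAut.smul_def, mul_assoc]
    rw [e]; exact hR₁ hy
  have hQR : Q₀.map (MulAut.conj k' : G →* G) ≤ ((h'⁻¹ • R₁ : Sylow p G) : Subgroup G) := by
    rintro _ ⟨y, hy, rfl⟩
    have hy2 : y ∈ ((g • R₁ : Sylow p G) : Subgroup G) := by rw [hg]; exact hR₂ hy
    rw [Sylow.coe_subgroup_smul, Subgroup.mem_pointwise_smul_iff_inv_smul_mem] at hy2 ⊢
    have e : (MulAut.conj h'⁻¹)⁻¹ • ((MulAut.conj k' : G →* G) y) = (MulAut.conj g)⁻¹ • y := by
      rw [hgkh]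
      simp [MulAut.smul_def, mul_assoc]
    rw [e]; exact hy2
  obtain ⟨SP, hSP⟩ := hP
  obtain ⟨SQ, hSQ⟩ := hQ
  refine ⟨SP, SQ, h'⁻¹ • R₁, ?_⟩
  rw [hSP, hSQ]
  generalize P₀.map (MulAut.conj h'⁻¹ : G →* G) = P at *
  generalize Q₀.map (MulAut.conj k' : G →* G) = Q at *
  generalize (h'⁻¹ • R₁ : Sylow p G) = R at *
  have hP' : IsSylowOf p H P := ⟨SP, hSP⟩
  have hQ' : IsSylowOf p K Q := ⟨SQ, hSQ⟩
  -- containment
  have hsub : (P : Set G) * (Q : Set G) ⊆ ((R : Subgroup G) : Set G) := by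
    rintro _ ⟨a, ha, b, hb, rfl⟩
    exact (R : Subgroup G).mul_mem (hPR ha) (hQR hb)
  symm
  apply Set.eq_of_subset_of_ncard_le hsub _ (Set.toFinite _)
  -- cardinalities
  have hcP := ((isSylowOf_iff_card _ _).mp hP').2
  have hcQ := ((isSylowOf_iff_card _ _).mp hQ').2
  have hcR : Nat.card (R : Subgroup G) = p ^ (Nat.card G).factorization p := R.card_eq_multiplicity
  have hPQ : IsPGroup p ↥(P ⊓ Q) := hP'.isPGroup.to_le inf_le_left
  have hcI := card_le_of_isPGroup_le (H ⊓ K) (P ⊓ Q) hPQ (inf_le_inf hP'.le hQ'.le)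
  have hform := card_mul_set_mul_card_inf P Q
  have hG := card_mul_card_inf_of_factorization H K hHK
  have hfac : (Nat.card G).factorization p + (Nat.card ↥(H ⊓ K)).factorization p =
      (Nat.card H).factorization p + (Nat.card K).factorization p := by
    have := congrArg (fun n => n.factorization p) hG
    beta_reduce at this
    rw [Nat.factorization_mul Nat.card_pos.ne' Nat.card_pos.ne',
      Nat.factorization_mul Nat.card_pos.ne' Nat.card_pos.ne'] at this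
    simpa using this
  rw [← Nat.card_coe_set_eq, ← Nat.card_coe_set_eq]
  show Nat.card (R : Subgroup G) ≤ _
  rw [hcR]
  obtain ⟨e, he, hce⟩ := (Nat.dvd_prime_pow hp).mp hcI
  rw [hce, hcP, hcQ, ← pow_add, ← hfac] at hform
  -- card(PQ) * p^e = p^(c+d), e ≤ d
  have hpos : 0 < p ^ e := pow_pos hp.pos e
  have h1 : Nat.card ↥((P : Set G) * (Q : Set G)) =
      p ^ ((Nat.card G).factorization p + (Nat.card ↥(H ⊓ K)).factorization p - e) := by
    apply Nat.eq_of_mul_eq_mul_right hpos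
    rw [hform, ← pow_add]
    congr 1
    omega
  rw [h1]
  exact Nat.pow_le_pow_right hp.pos (by omega)

end Cfsg.Agent.S0560
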