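import Cfsg.Statements.S0561
import Cfsg.Agent.Lib.Helper13.Hall2
import Cfsg.Agent.Lib.Helper13.SZBasic
import Cfsg.Agent.Lib.Helper15.ProdFormula

set_option autoImplicit false
open Cfsg
open Cfsg.Agent.Lib.Helper13 Cfsg.Agent.Lib.Helper15
open scoped Pointwise

namespace Cfsg.Agent.S0561

/-- If `G = HK`, `A ⊴ H`, `B ⊴ K`, every product set `ˣA · ʸB` is a conjugate of the set `A · B`. -/
theorem conj_prod_iff {G : Type*} [Group G] (H K A B : Subgroup G)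
    (hHK : ∀ g : G, ∃ h ∈ H, ∃ k ∈ K, g = h * k)
    (hAconj : ∀ h ∈ H, ∀ α ∈ A, h * α * h⁻¹ ∈ A) (hBconj : ∀ k ∈ K, ∀ β ∈ B, k * β * k⁻¹ ∈ B)
    (x y : G) : ∃ t : G, ∀ z : G,
      z ∈ ((MulAut.conj x • A : Subgroup G) : Set G) * ((MulAut.conj y • B : Subgroup G) : Set G) ↔
        t⁻¹ * z * t ∈ (A : Set G) * (B : Set G) := by
  obtain ⟨h, hh, k, hk, e⟩ := hHK (x⁻¹ * y)
  have hy : y = x * h * k := by
    have : y = x * (x⁻¹ * y) := by group
    rw [this, e]; group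
  refine ⟨x * h, fun z => ?_⟩
  constructor
  · intro hz
    obtain ⟨α, hα, β, hβ, rfl⟩ := Set.mem_mul.mp hz
    have hα₂ : α ∈ (MulAut.conj x • A : Subgroup G) := hα
    have hβ₂ : β ∈ (MulAut.conj y • B : Subgroup G) := hβ
    have hα' : x⁻¹ * α * x ∈ A := mem_cj.mp hα₂
    have hβ' : y⁻¹ * β * y ∈ B := mem_cj.mp hβ₂
    refine Set.mem_mul.mpr ⟨(x * h)⁻¹ * α * (x * h), ?_, (x * h)⁻¹ * β * (x * h), ?_, by group⟩
    · have h1 := hAconj h⁻¹ (H.inv_mem hh) _ hα'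
      have e1 : (x * h)⁻¹ * α * (x * h) = h⁻¹ * (x⁻¹ * α * x) * h⁻¹⁻¹ := by group
      rw [e1]; exact h1
    · have h1 := hBconj k hk _ hβ'
      have e1 : (x * h)⁻¹ * β * (x * h) = k * (y⁻¹ * β * y) * k⁻¹ := by rw [hy]; group
      rw [e1]; exact h1
  · intro hz
    obtain ⟨α, hα, β, hβ, hαβ⟩ := Set.mem_mul.mp hz
    have hα₂ : α ∈ A := hα
    have hβ₂ : β ∈ B := hβ
    refine Set.mem_mul.mpr ⟨(x * h) * α * (x * h)⁻¹, ?_, (x * h) * β * (x * h)⁻¹, ?_, ?_⟩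
    · show (x * h) * α * (x * h)⁻¹ ∈ (MulAut.conj x • A : Subgroup G)
      apply mem_cj.mpr
      have h1 := hAconj h hh α hα₂
      have e1 : x⁻¹ * ((x * h) * α * (x * h)⁻¹) * x = h * α * h⁻¹ := by group
      rw [e1]; exact h1
    · show (x * h) * β * (x * h)⁻¹ ∈ (MulAut.conj y • B : Subgroup G)
      apply mem_cj.mpr
      have h1 := hBconj k⁻¹ (K.inv_mem hk) β hβ₂
      have e1 : y⁻¹ * ((x * h) * β * (x * h)⁻¹) * y = k⁻¹ * β * k⁻¹⁻¹ := by rw [hy]; group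
      rw [e1]; exact h1
    · have e1 : (x * h) * α * (x * h)⁻¹ * ((x * h) * β * (x * h)⁻¹) =
          (x * h) * (α * β) * (x * h)⁻¹ := by group
      rw [e1, hαβ]; group

/-- Let the finite solvable group G be the product HK of subgroups, and let A be normal in H and B normal in K, where A and B are Hall subgroups of G (order coprime to index). Then for all x, y the product set of xAx⁻¹ and yBy⁻¹ is a subgroup of G. -/
theorem result {G : Type*} [Group G] [Finite G] [Group.IsSolvable G] (H K A B : Subgroup G) (hHK : ∀ g : G, ∃ h ∈ H, ∃ k ∈ K, g = h * k) (hA : A ≤ H) (hAn : (A.subgroupOf H).Normal) (hB : B ≤ K) (hBn : (B.subgroupOf K).Normal) (hAh : (Nat.card A).Coprime A.index) (hBh : (Nat.card B).Coprime B.index) (x y : G) : ∃ S : Subgroup G, (S : Set G) = ((MulAut.conj x • A : Subgroup G) : Set G) * ((MulAut.conj y • B : Subgroup G) : Set G) := by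
  classical
  have hAconj : ∀ h ∈ H, ∀ α ∈ A, h * α * h⁻¹ ∈ A := by
    intro h hh α hα
    have h1 := hAn.conj_mem ⟨α, hA hα⟩ (Subgroup.mem_subgroupOf.mpr hα) ⟨h, hh⟩
    rw [Subgroup.mem_subgroupOf] at h1
    simpa using h1
  have hBconj : ∀ k ∈ K, ∀ β ∈ B, k * β * k⁻¹ ∈ B := by
    intro k hk β hβ
    have h1 := hBn.conj_mem ⟨β, hB hβ⟩ (Subgroup.mem_subgroupOf.mpr hβ) ⟨k, hk⟩
    rw [Subgroup.mem_subgroupOf] at h1
    simpa using h1
  -- a Hall subgroup for the primes dividing |A| or |B|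
  obtain ⟨D, hD1, hD2⟩ := hall_exists {p : ℕ | p ∣ Nat.card A ∨ p ∣ Nat.card B} G
  have hApi : PiNum {p : ℕ | p ∣ Nat.card A ∨ p ∣ Nat.card B} (Nat.card A) :=
    fun p _ h => Or.inl h
  have hBpi : PiNum {p : ℕ | p ∣ Nat.card A ∨ p ∣ Nat.card B} (Nat.card B) :=
    fun p _ h => Or.inr h
  have hDcop : (Nat.card D).Coprime D.index := coprime_of_piNum hD1 hD2
  obtain ⟨u, hu⟩ := hall_dominance D A hDcop (coprime_of_piNum hApi hD2)
  obtain ⟨v, hv⟩ := hall_dominance D B hDcop (coprime_of_piNum hBpi hD2)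
  have hA₁ : MulAut.conj u⁻¹ • A ≤ D := by
    intro z hz
    have h1 : u * z * u⁻¹ ∈ A := by
      have h0 := mem_cj.mp hz
      simpa using h0
    have h3 := mem_cj.mp (hu h1)
    have e1 : u⁻¹ * (u * z * u⁻¹) * u = z := by group
    rwa [e1] at h3
  have hB₁ : MulAut.conj v⁻¹ • B ≤ D := by
    intro z hz
    have h1 : v * z * v⁻¹ ∈ B := by
      have h0 := mem_cj.mp hz
      simpa using h0
    have h3 := mem_cj.mp (hv h1)
    have e1 : v⁻¹ * (v * z * v⁻¹) * v = z := by group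
    rwa [e1] at h3
  have ca : Nat.card ↥(MulAut.conj u⁻¹ • A) = Nat.card A := card_cj _ _
  have cb : Nat.card ↥(MulAut.conj v⁻¹ • B) = Nat.card B := card_cj _ _
  have hprod := card_mul_set_mul_card_inf (MulAut.conj u⁻¹ • A) (MulAut.conj v⁻¹ • B)
  rw [ca, cb] at hprod
  have hcpos : 0 < Nat.card ↥((MulAut.conj u⁻¹ • A) ⊓ (MulAut.conj v⁻¹ • B)) := Nat.card_pos
  have hca : Nat.card ↥((MulAut.conj u⁻¹ • A) ⊓ (MulAut.conj v⁻¹ • B)) ∣ Nat.card A := by
    rw [← ca]; exact Subgroup.card_dvd_of_le inf_le_left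
  have hcb : Nat.card ↥((MulAut.conj u⁻¹ • A) ⊓ (MulAut.conj v⁻¹ • B)) ∣ Nat.card B := by
    rw [← cb]; exact Subgroup.card_dvd_of_le inf_le_right
  obtain ⟨r, hr⟩ := Nat.dvd_gcd hca hcb
  have hgl := Nat.gcd_mul_lcm (Nat.card A) (Nat.card B)
  have hlP : Nat.lcm (Nat.card A) (Nat.card B) ∣
      Nat.card ↥(((MulAut.conj u⁻¹ • A : Subgroup G) : Set G) *
        ((MulAut.conj v⁻¹ • B : Subgroup G) : Set G)) := by
    refine ⟨r, ?_⟩
    apply Nat.eq_of_mul_eq_mul_right hcpos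
    rw [hprod, ← hgl, hr]; ring
  have hdN : Nat.card D ∣ Nat.card G := Subgroup.card_subgroup_dvd_card D
  have hlN : Nat.lcm (Nat.card A) (Nat.card B) ∣ Nat.card G :=
    Nat.lcm_dvd (Subgroup.card_subgroup_dvd_card A) (Subgroup.card_subgroup_dvd_card B)
  obtain ⟨n, hn⟩ := hlN
  have hcopn : (Nat.card D).Coprime n := by
    by_contra hnc
    obtain ⟨q, hq, hqd, hqn⟩ := Nat.Prime.not_coprime_iff_dvd.mp hnc
    have hq' : q ∣ Nat.card A ∨ q ∣ Nat.card B := hD1 q hq hqd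
    rcases hq' with hqa | hqb
    · obtain ⟨s, hs⟩ := Nat.dvd_lcm_left (Nat.card A) (Nat.card B)
      have e := Subgroup.card_mul_index A
      have hApos : 0 < Nat.card A := Nat.card_pos
      have hidx : A.index = s * n := by
        apply Nat.eq_of_mul_eq_mul_left hApos
        rw [e, hn, hs]; ring
      have hqi : q ∣ A.index := by rw [hidx]; exact Dvd.dvd.mul_left hqn s
      exact (Nat.Prime.not_coprime_iff_dvd.mpr ⟨q, hq, hqa, hqi⟩) hAh
    · obtain ⟨s, hs⟩ := Nat.dvd_lcm_right (Nat.card A) (Nat.card B)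
      have e := Subgroup.card_mul_index B
      have hBpos : 0 < Nat.card B := Nat.card_pos
      have hidx : B.index = s * n := by
        apply Nat.eq_of_mul_eq_mul_left hBpos
        rw [e, hn, hs]; ring
      have hqi : q ∣ B.index := by rw [hidx]; exact Dvd.dvd.mul_left hqn s
      exact (Nat.Prime.not_coprime_iff_dvd.mpr ⟨q, hq, hqb, hqi⟩) hBh
  have hdl : Nat.card D ∣ Nat.lcm (Nat.card A) (Nat.card B) := by
    apply hcopn.dvd_of_dvd_mul_right
    rw [← hn]; exact hdN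
  have hsub : ((MulAut.conj u⁻¹ • A : Subgroup G) : Set G) *
      ((MulAut.conj v⁻¹ • B : Subgroup G) : Set G) ⊆ (D : Set G) := by
    intro z hz
    obtain ⟨α, hα, β, hβ, rfl⟩ := Set.mem_mul.mp hz
    exact D.mul_mem (hA₁ hα) (hB₁ hβ)
  have hPpos : 0 < Nat.card ↥(((MulAut.conj u⁻¹ • A : Subgroup G) : Set G) *
      ((MulAut.conj v⁻¹ • B : Subgroup G) : Set G)) := by
    have : Nonempty ↥(((MulAut.conj u⁻¹ • A : Subgroup G) : Set G) *
        ((MulAut.conj v⁻¹ • B : Subgroup G) : Set G)) :=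
      ⟨⟨1 * 1, Set.mul_mem_mul (Subgroup.one_mem _) (Subgroup.one_mem _)⟩⟩
    exact Nat.card_pos
  have hdP : Nat.card D ≤ Nat.card ↥(((MulAut.conj u⁻¹ • A : Subgroup G) : Set G) *
      ((MulAut.conj v⁻¹ • B : Subgroup G) : Set G)) := Nat.le_of_dvd hPpos (hdl.trans hlP)
  have hset : ((MulAut.conj u⁻¹ • A : Subgroup G) : Set G) *
      ((MulAut.conj v⁻¹ • B : Subgroup G) : Set G) = (D : Set G) := by
    apply Set.eq_of_subset_of_ncard_le hsub _ (Set.toFinite _)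
    rw [← Nat.card_coe_set_eq, ← Nat.card_coe_set_eq]
    exact hdP
  obtain ⟨t₁, ht₁⟩ := conj_prod_iff H K A B hHK hAconj hBconj u⁻¹ v⁻¹
  obtain ⟨t, ht⟩ := conj_prod_iff H K A B hHK hAconj hBconj x y
  refine ⟨MulAut.conj (t * t₁⁻¹) • D, ?_⟩
  ext z
  have e1 : t₁⁻¹ * ((t * t₁⁻¹)⁻¹ * z * (t * t₁⁻¹)) * t₁ = t⁻¹ * z * t := by group
  constructor
  · intro hz
    have hz' : z ∈ (MulAut.conj (t * t₁⁻¹) • D : Subgroup G) := hz
    have h1 : (t * t₁⁻¹)⁻¹ * z * (t * t₁⁻¹) ∈ (D : Set G) := mem_cj.mp hz'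
    rw [← hset] at h1
    have h3 := (ht₁ _).mp h1
    rw [e1] at h3
    exact (ht z).mpr h3
  · intro hz
    have h1 := (ht z).mp hz
    rw [← e1] at h1
    have h2 := (ht₁ _).mpr h1
    rw [hset] at h2
    show z ∈ (MulAut.conj (t * t₁⁻¹) • D : Subgroup G)
    exact mem_cj.mpr h2

end Cfsg.Agent.S0561
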