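import Cfsg.Statements.S0562
import Mathlib

set_option autoImplicit false
open Cfsg

namespace Cfsg.Agent.S0562

theorem conj_mem_of_normal_subgroupOf {G : Type*} [Group G] (A H : Subgroup G) (hA : A ≤ H)
    (hAn : (A.subgroupOf H).Normal) (a h : G) (ha : a ∈ A) (hh : h ∈ H) : h * a * h⁻¹ ∈ A := by
  have := hAn.conj_mem ⟨a, hA ha⟩ (by rw [Subgroup.mem_subgroupOf]; exact ha) ⟨h, hh⟩
  rw [Subgroup.mem_subgroupOf] at this
  simpa using this

theorem result {G : Type*} [Group G] [Finite G] (H K A B : Subgroup G) (hHK : ∀ g : G, ∃ h ∈ H, ∃ k ∈ K, g = h * k) (hA : A ≤ H) (hAn : (A.subgroupOf H).Normal) (hB : B ≤ K) (hBn : (B.subgroupOf K).Normal) : ∀ g ∈ Subgroup.normalizer ((A ⊔ B : Subgroup G) : Set G), ∃ h ∈ Subgroup.normalizer ((A ⊔ B : Subgroup G) : Set G) ⊓ H, ∃ k ∈ Subgroup.normalizer ((A ⊔ B : Subgroup G) : Set G) ⊓ K, g = h * k := by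
  intro g hg
  obtain ⟨h, hh, k, hk, rfl⟩ := hHK g
  rw [Subgroup.mem_normalizer_iff_map_conj_eq] at hg
  -- the common conjugate
  have hcomp : (A ⊔ B).map (MulAut.conj (h * k) : G →* G) =
      ((A ⊔ B).map (MulAut.conj k : G →* G)).map (MulAut.conj h : G →* G) := by
    rw [Subgroup.map_map]
    congr 1
    ext x
    simp [mul_assoc]
  rw [hcomp] at hg
  have hW : (A ⊔ B).map (MulAut.conj k : G →* G) = (A ⊔ B).map (MulAut.conj h⁻¹ : G →* G) := by
    have := congrArg (Subgroup.map (MulAut.conj h⁻¹ : G →* G)) hg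
    rw [Subgroup.map_map] at this
    rw [← this]
    have hid : ((MulAut.conj h⁻¹ : G →* G).comp (MulAut.conj h : G →* G)) = MonoidHom.id G := by
      ext x; simp [mul_assoc]
    rw [hid, Subgroup.map_id]
  have hBW : B ≤ (A ⊔ B).map (MulAut.conj k : G →* G) := by
    intro b hb
    refine ⟨k⁻¹ * b * k, ?_, ?_⟩
    · apply (le_sup_right : B ≤ A ⊔ B)
      have := conj_mem_of_normal_subgroupOf B K hB hBn b k⁻¹ hb (K.inv_mem hk)
      simpa using this
    · simp [mul_assoc]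
  have hAW : A ≤ (A ⊔ B).map (MulAut.conj k : G →* G) := by
    rw [hW]
    intro a ha
    refine ⟨h * a * h⁻¹, ?_, ?_⟩
    · apply (le_sup_left : A ≤ A ⊔ B)
      exact conj_mem_of_normal_subgroupOf A H hA hAn a h ha hh
    · simp [mul_assoc]
  have hJW : A ⊔ B ≤ (A ⊔ B).map (MulAut.conj k : G →* G) := sup_le hAW hBW
  have hcard : Nat.card ((A ⊔ B).map (MulAut.conj k : G →* G)) = Nat.card (A ⊔ B : Subgroup G) :=
    Subgroup.card_map_of_injective (MulAut.conj k).injective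
  have hWJ : (A ⊔ B).map (MulAut.conj k : G →* G) = A ⊔ B :=
    (Subgroup.eq_of_le_of_card_ge hJW hcard.le).symm
  have hkN : k ∈ Subgroup.normalizer ((A ⊔ B : Subgroup G) : Set G) :=
    Subgroup.mem_normalizer_iff_map_conj_eq.mpr hWJ
  have hhN : h ∈ Subgroup.normalizer ((A ⊔ B : Subgroup G) : Set G) := by
    have : h⁻¹ ∈ Subgroup.normalizer ((A ⊔ B : Subgroup G) : Set G) :=
      Subgroup.mem_normalizer_iff_map_conj_eq.mpr (by rw [← hW, hWJ])
    simpa using Subgroup.inv_mem _ this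
  exact ⟨h, ⟨hhN, hh⟩, k, ⟨hkN, hk⟩, rfl⟩

end Cfsg.Agent.S0562
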