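import Mathlib
import Cfsg.Statements.S0563
import Cfsg.Agent.Lib.Helper13.KW10
-- import your own Cfsg.Agent.* helpers here

set_option autoImplicit false
open Pointwise
open Cfsg

namespace Cfsg.Agent.S0563

/-- If a finite group G is the product AB of two nilpotent subgroups of coprime orders, then G is solvable, and for every Sylow p-subgroup P of A and Sylow q-subgroup Q of B the product set PQ is a subgroup. -/
theorem result {G : Type*} [Group G] [Finite G] (A B : Subgroup G) (hA : Group.IsNilpotent A) (hB : Group.IsNilpotent B) (hcop : (Nat.card A).Coprime (Nat.card B)) (hAB : ∀ g : G, ∃ a ∈ A, ∃ b ∈ B, g = a * b) : Group.IsSolvable G ∧ ∀ (p q : ℕ) [Fact p.Prime] [Fact q.Prime] (P : Sylow p A) (Q : Sylow q B), ∃ S : Subgroup G, (S : Set G) = (((P : Subgroup A).map A.subtype : Subgroup G) : Set G) * (((Q : Subgroup B).map B.subtype : Subgroup G) : Set G) := by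
  have hsolv : Group.IsSolvable G :=
    Cfsg.Agent.Lib.Helper13.KW.wielandt_coprime A B hA hB hcop hAB
  refine ⟨hsolv, ?_⟩
  intro p q _ _ P Q
  haveI := hsolv
  obtain ⟨A₀, hA₀⟩ : ∃ A₀ : Subgroup G, A₀ = (P : Subgroup A).map A.subtype := ⟨_, rfl⟩
  obtain ⟨B₀, hB₀⟩ : ∃ B₀ : Subgroup G, B₀ = (Q : Subgroup B).map B.subtype := ⟨_, rfl⟩
  rw [← hA₀, ← hB₀]
  have hA₀A : A₀ ≤ A := by rw [hA₀]; exact Subgroup.map_subtype_le _
  have hB₀B : B₀ ≤ B := by rw [hB₀]; exact Subgroup.map_subtype_le _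
  have eA : A₀.subgroupOf A = (P : Subgroup A) := by
    rw [hA₀]; exact Subgroup.comap_map_eq_self_of_injective A.subtype_injective _
  have eB : B₀.subgroupOf B = (Q : Subgroup B) := by
    rw [hB₀]; exact Subgroup.comap_map_eq_self_of_injective B.subtype_injective _
  have hPn := Cfsg.Agent.Lib.Helper13.KW.sylow_normal_of_nilpotent hA p P
  have hQn := Cfsg.Agent.Lib.Helper13.KW.sylow_normal_of_nilpotent hB q Q
  have hnA : A ≤ Subgroup.normalizer (A₀ : Set G) :=
    (Subgroup.normal_subgroupOf_iff_le_normalizer hA₀A).mp (eA ▸ hPn)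
  have hnB : B ≤ Subgroup.normalizer (B₀ : Set G) :=
    (Subgroup.normal_subgroupOf_iff_le_normalizer hB₀B).mp (eB ▸ hQn)
  have hcA : (Nat.card A₀).Coprime (A₀.relIndex A) := by
    have h1 := P.card_coprime_index
    have h2 : Nat.card A₀ = Nat.card (P : Subgroup A) := by
      rw [hA₀, Subgroup.card_map_of_injective A.subtype_injective]
    show (Nat.card A₀).Coprime (A₀.subgroupOf A).index
    rw [eA, h2]; exact h1
  have hcB : (Nat.card B₀).Coprime (B₀.relIndex B) := by
    have h1 := Q.card_coprime_index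
    have h2 : Nat.card B₀ = Nat.card (Q : Subgroup B) := by
      rw [hB₀, Subgroup.card_map_of_injective B.subtype_injective]
    show (Nat.card B₀).Coprime (B₀.subgroupOf B).index
    rw [eB, h2]; exact h1
  have hperm : Cfsg.Agent.Lib.Helper13.KW.Perm A₀ B₀ :=
    Cfsg.Agent.Lib.Helper13.KW.perm_in_subgroup ⊤ A B A₀ B₀ inferInstance
      ⟨le_top, le_top, fun g _ => hAB g⟩ hA₀A hB₀B hnA hnB hcop hcA hcB
  refine ⟨Cfsg.Agent.Lib.Helper13.KW.prodSubgroup A₀ B₀ hperm, ?_⟩
  ext g
  constructor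
  · rintro ⟨x, hx, y, hy, rfl⟩
    exact Set.mul_mem_mul hx hy
  · rintro ⟨x, hx, y, hy, rfl⟩
    exact ⟨x, hx, y, hy, rfl⟩

end Cfsg.Agent.S0563
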