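import Cfsg.Statements.S0567
import Mathlib

set_option autoImplicit false
open Cfsg
open scoped commutatorElement

namespace Cfsg.Agent.S0567

theorem normalizer_inf_le_normalizer_sup {G : Type*} [Group G] (A B : Subgroup G) :
    Subgroup.normalizer (A : Set G) ⊓ Subgroup.normalizer (B : Set G) ≤
      Subgroup.normalizer ((A ⊔ B : Subgroup G) : Set G) := by
  intro x hx
  obtain ⟨hA, hB⟩ := Subgroup.mem_inf.mp hx
  rw [Subgroup.mem_normalizer_iff_map_conj_eq] at hA hB
  rw [Subgroup.mem_normalizer_iff_map_conj_eq, Subgroup.map_sup, hA, hB]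

theorem result {G : Type*} [Group G] (H : Subgroup G) : H.IsSubnormal ↔ ∃ m : ℕ, (fun K : Subgroup G => ⁅K, H⁆)^[m] ⊤ ≤ H := by
  constructor
  · intro h
    induction h with
    | top => exact ⟨0, le_rfl⟩
    | step H K hle hK hN ih =>
      obtain ⟨m, hm⟩ := ih
      refine ⟨m + 1, ?_⟩
      rw [Function.iterate_succ_apply']
      have hmono : ∀ n, (fun X : Subgroup G => ⁅X, H⁆)^[n] ⊤ ≤ (fun X : Subgroup G => ⁅X, K⁆)^[n] ⊤ := by
        intro n
        induction n with
        | zero => exact le_rfl
        | succ n ihn =>
          rw [Function.iterate_succ_apply', Function.iterate_succ_apply']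
          exact Subgroup.commutator_mono ihn hle
      have hKN : K ≤ Subgroup.normalizer (H : Set G) :=
        (Subgroup.normal_subgroupOf_iff_le_normalizer hle).mp hN
      calc ⁅(fun X : Subgroup G => ⁅X, H⁆)^[m] ⊤, H⁆ ≤ ⁅K, H⁆ :=
            Subgroup.commutator_mono ((hmono m).trans hm) le_rfl
        _ ≤ H := Subgroup.le_normalizer_iff_commutator_le_right.mp hKN
  · rintro ⟨m, hm⟩
    have key : ∀ j, (H ⊔ (fun K : Subgroup G => ⁅K, H⁆)^[j] ⊤).IsSubnormal := by
      intro j
      induction j with
      | zero => simp
      | succ j ih =>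
        rw [Function.iterate_succ_apply']
        generalize (fun K : Subgroup G => ⁅K, H⁆)^[j] ⊤ = L at ih ⊢
        have hle : H ⊔ ⁅L, H⁆ ≤ H ⊔ L :=
          sup_le le_sup_left ((Subgroup.commutator_le_sup L H).trans (by rw [sup_comm]))
        refine Subgroup.IsSubnormal.step _ (H ⊔ L) hle ih ?_
        rw [Subgroup.normal_subgroupOf_iff_le_normalizer hle]
        apply sup_le
        · refine le_trans ?_ (normalizer_inf_le_normalizer_sup H ⁅L, H⁆)
          exact le_inf Subgroup.le_normalizer (Subgroup.normalizer_commutator_ge_right L H)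
        · rw [Subgroup.le_normalizer_iff]
          intro l hl w hw
          have hmap : (H ⊔ ⁅L, H⁆).map (MulAut.conj l : G →* G) ≤ H ⊔ ⁅L, H⁆ := by
            rw [Subgroup.map_sup]
            apply sup_le
            · rintro _ ⟨h, hh, rfl⟩
              show MulAut.conj l h ∈ _
              rw [conj_eq_commutatorElement_mul]
              exact Subgroup.mul_mem _
                (Subgroup.mem_sup_right (Subgroup.commutator_mem_commutator hl hh))
                (Subgroup.mem_sup_left hh)
            · have := Subgroup.normalizer_commutator_ge_left L H hl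
              rw [Subgroup.mem_normalizer_iff_map_conj_eq] at this
              rw [this]; exact le_sup_right
          have : MulAut.conj l w ∈ (H ⊔ ⁅L, H⁆).map (MulAut.conj l : G →* G) := ⟨w, hw, rfl⟩
          simpa using hmap this
    have := key m
    rwa [sup_eq_left.mpr hm] at this

end Cfsg.Agent.S0567
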