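import Cfsg.Statements.S0572
import Cfsg.Agent.Lib.Helper15.PGroupBasic

set_option autoImplicit false
open Cfsg
open scoped commutatorElement

namespace Cfsg.Agent.S0572

variable {G : Type*} [Group G]

theorem conjA (A B : Subgroup G) (hA : ∀ x ∈ A, ∀ y ∈ A, x * y = y * x)
    (a b a' b₃ a₃ : G) (ha : a ∈ A) (ha' : a' ∈ A) (ha₃ : a₃ ∈ A)
    (h : a' * b * a'⁻¹ = b₃ * a₃) : a' * ⁅a, b⁆ * a'⁻¹ = ⁅a, b₃⁆ := by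
  have h1 : a' * a * a'⁻¹ = a := by rw [hA a' ha' a ha]; group
  have h2 : a₃ * a⁻¹ * a₃⁻¹ = a⁻¹ := by
    rw [hA a₃ ha₃ a⁻¹ (A.inv_mem ha)]; group
  calc a' * ⁅a, b⁆ * a'⁻¹ = ⁅a' * a * a'⁻¹, a' * b * a'⁻¹⁆ := by
        simp only [commutatorElement_def]; group
    _ = ⁅a, b₃ * a₃⁆ := by rw [h1, h]
    _ = a * b₃ * (a₃ * a⁻¹ * a₃⁻¹) * b₃⁻¹ := by simp only [commutatorElement_def]; group
    _ = ⁅a, b₃⁆ := by rw [h2, commutatorElement_def]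

theorem conjB (A B : Subgroup G) (hB : ∀ x ∈ B, ∀ y ∈ B, x * y = y * x)
    (a b b' a₂ b₂ : G) (hb : b ∈ B) (hb' : b' ∈ B) (hb₂ : b₂ ∈ B)
    (h : b' * a * b'⁻¹ = a₂ * b₂) : b' * ⁅a, b⁆ * b'⁻¹ = ⁅a₂, b⁆ := by
  have h1 : b' * b * b'⁻¹ = b := by rw [hB b' hb' b hb]; group
  have h2 : b₂ * b * b₂⁻¹ = b := by
    rw [hB b₂ hb₂ b hb]; group
  calc b' * ⁅a, b⁆ * b'⁻¹ = ⁅b' * a * b'⁻¹, b' * b * b'⁻¹⁆ := by
        simp only [commutatorElement_def]; group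
    _ = ⁅a₂ * b₂, b⁆ := by rw [h1, h]
    _ = a₂ * (b₂ * b * b₂⁻¹) * a₂⁻¹ * b⁻¹ := by simp only [commutatorElement_def]; group
    _ = ⁅a₂, b⁆ := by rw [h2, commutatorElement_def]

theorem result {G : Type*} [Group G] (A B : Subgroup G) [IsMulCommutative A] [IsMulCommutative B] (hAB : ∀ g : G, ∃ a ∈ A, ∃ b ∈ B, g = a * b) : derivedSeries G 2 = ⊥ := by
  have hA : ∀ x ∈ A, ∀ y ∈ A, x * y = y * x := fun x hx y hy => setLike_mul_comm hx hy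
  have hB : ∀ x ∈ B, ∀ y ∈ B, x * y = y * x := fun x hx y hy => setLike_mul_comm hx hy
  have hBA : ∀ g : G, ∃ b ∈ B, ∃ a ∈ A, g = b * a := by
    intro g
    obtain ⟨a, ha, b, hb, h⟩ := hAB g⁻¹
    refine ⟨b⁻¹, B.inv_mem hb, a⁻¹, A.inv_mem ha, ?_⟩
    have : g = (g⁻¹)⁻¹ := by group
    rw [this, h]; group
  -- the generating set
  let S : Set G := {c | ∃ a ∈ A, ∃ b ∈ B, c = ⁅a, b⁆}
  -- S is closed under conjugation by A and by B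
  have hSA : ∀ a' ∈ A, ∀ c ∈ S, a' * c * a'⁻¹ ∈ S := by
    rintro a' ha' c ⟨a, ha, b, hb, rfl⟩
    obtain ⟨b₃, hb₃, a₃, ha₃, h⟩ := hBA (a' * b * a'⁻¹)
    exact ⟨a, ha, b₃, hb₃, conjA A B hA a b a' b₃ a₃ ha ha' ha₃ h⟩
  have hSB : ∀ b' ∈ B, ∀ c ∈ S, b' * c * b'⁻¹ ∈ S := by
    rintro b' hb' c ⟨a, ha, b, hb, rfl⟩
    obtain ⟨a₂, ha₂, b₂, hb₂, h⟩ := hAB (b' * a * b'⁻¹)
    exact ⟨a₂, ha₂, b, hb, conjB A B hB a b b' a₂ b₂ hb hb' hb₂ h⟩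
  have hSG : ∀ g : G, ∀ c ∈ S, g * c * g⁻¹ ∈ S := by
    intro g c hc
    obtain ⟨a, ha, b, hb, rfl⟩ := hAB g
    have := hSA a ha _ (hSB b hb c hc)
    have h2 : a * b * c * (a * b)⁻¹ = a * (b * c * b⁻¹) * a⁻¹ := by group
    rw [h2]; exact this
  -- generators commute
  have hcomm : ∀ c ∈ S, ∀ d ∈ S, c * d = d * c := by
    rintro c ⟨a₁', ha₁', b₁', hb₁', rfl⟩ d ⟨a, ha, b, hb, rfl⟩
    -- use a₁ = a₁'⁻¹, b₁ = b₁'⁻¹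
    have ha₁ : a₁'⁻¹ ∈ A := A.inv_mem ha₁'
    have hb₁ : b₁'⁻¹ ∈ B := B.inv_mem hb₁'
    obtain ⟨a₂, ha₂, b₂, hb₂, h2⟩ := hAB (b₁'⁻¹ * a * b₁'⁻¹⁻¹)
    obtain ⟨b₃, hb₃, a₃, ha₃, h3⟩ := hBA (a₁'⁻¹ * b * a₁'⁻¹⁻¹)
    have e1 : (a₁'⁻¹ * b₁'⁻¹) * ⁅a, b⁆ * (a₁'⁻¹ * b₁'⁻¹)⁻¹ = ⁅a₂, b₃⁆ := by
      have s1 : b₁'⁻¹ * ⁅a, b⁆ * b₁'⁻¹⁻¹ = ⁅a₂, b⁆ :=
        conjB A B hB a b b₁'⁻¹ a₂ b₂ hb hb₁ hb₂ h2
      have s2 : a₁'⁻¹ * ⁅a₂, b⁆ * a₁'⁻¹⁻¹ = ⁅a₂, b₃⁆ :=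
        conjA A B hA a₂ b a₁'⁻¹ b₃ a₃ ha₂ ha₁ ha₃ h3
      rw [← s2, ← s1]; group
    have e2 : (b₁'⁻¹ * a₁'⁻¹) * ⁅a, b⁆ * (b₁'⁻¹ * a₁'⁻¹)⁻¹ = ⁅a₂, b₃⁆ := by
      have s1 : a₁'⁻¹ * ⁅a, b⁆ * a₁'⁻¹⁻¹ = ⁅a, b₃⁆ :=
        conjA A B hA a b a₁'⁻¹ b₃ a₃ ha ha₁ ha₃ h3
      have s2 : b₁'⁻¹ * ⁅a, b₃⁆ * b₁'⁻¹⁻¹ = ⁅a₂, b₃⁆ :=
        conjB A B hB a b₃ b₁'⁻¹ a₂ b₂ hb₃ hb₁ hb₂ h2
      rw [← s2, ← s1]; group
    have e3 := e1.trans e2.symm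
    -- (b₁a₁)⁻¹ (a₁ b₁) = ⁅a₁', b₁'⁆ commutes with ⁅a,b⁆
    generalize ⁅a, b⁆ = d at e3 ⊢
    have h4 : ⁅a₁', b₁'⁆ = (b₁'⁻¹ * a₁'⁻¹)⁻¹ * (a₁'⁻¹ * b₁'⁻¹) := by
      simp only [commutatorElement_def]; group
    rw [h4]
    calc (b₁'⁻¹ * a₁'⁻¹)⁻¹ * (a₁'⁻¹ * b₁'⁻¹) * d
        = (b₁'⁻¹ * a₁'⁻¹)⁻¹ * ((a₁'⁻¹ * b₁'⁻¹) * d * (a₁'⁻¹ * b₁'⁻¹)⁻¹) * (a₁'⁻¹ * b₁'⁻¹) := by group
      _ = (b₁'⁻¹ * a₁'⁻¹)⁻¹ * ((b₁'⁻¹ * a₁'⁻¹) * d * (b₁'⁻¹ * a₁'⁻¹)⁻¹) * (a₁'⁻¹ * b₁'⁻¹) := by rw [e3]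
      _ = d * ((b₁'⁻¹ * a₁'⁻¹)⁻¹ * (a₁'⁻¹ * b₁'⁻¹)) := by group
  -- closure of S is abelian and contains the derived subgroup
  have hNab : IsMulCommutative (Subgroup.closure S) := Subgroup.isMulCommutative_closure hcomm
  have hNn : ∀ g : G, ∀ e ∈ Subgroup.closure S, g * e * g⁻¹ ∈ Subgroup.closure S := by
    intro g e he
    induction he using Subgroup.closure_induction with
    | mem c hc => exact Subgroup.subset_closure (hSG g c hc)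
    | one => simp
    | mul e₁ e₂ _ _ ih₁ ih₂ =>
      have : g * (e₁ * e₂) * g⁻¹ = (g * e₁ * g⁻¹) * (g * e₂ * g⁻¹) := by group
      rw [this]; exact Subgroup.mul_mem _ ih₁ ih₂
    | inv e _ ih =>
      have : g * e⁻¹ * g⁻¹ = (g * e * g⁻¹)⁻¹ := by group
      rw [this]; exact Subgroup.inv_mem _ ih
  have htop : Subgroup.closure ((A : Set G) ∪ (B : Set G)) = ⊤ := by
    rw [eq_top_iff]
    intro g _
    obtain ⟨a, ha, b, hb, rfl⟩ := hAB g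
    exact Subgroup.mul_mem _ (Subgroup.subset_closure (Or.inl ha)) (Subgroup.subset_closure (Or.inr hb))
  have hder : ⁅(⊤ : Subgroup G), ⊤⁆ ≤ Subgroup.closure S := by
    have key := Cfsg.Agent.Lib.Helper15.commutator_closure_le ((A : Set G) ∪ (B : Set G))
      (Subgroup.closure S) (fun h _ e he => hNn h e he) (by
        rintro x (hx | hx) y (hy | hy)
        · have : ⁅x, y⁆ = 1 := by
            rw [commutatorElement_eq_one_iff_mul_comm]; exact hA x hx y hy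
          rw [this]; exact Subgroup.one_mem _
        · exact Subgroup.subset_closure ⟨x, hx, y, hy, rfl⟩
        · rw [← commutatorElement_inv]
          exact Subgroup.inv_mem _ (Subgroup.subset_closure ⟨y, hy, x, hx, rfl⟩)
        · have : ⁅x, y⁆ = 1 := by
            rw [commutatorElement_eq_one_iff_mul_comm]; exact hB x hx y hy
          rw [this]; exact Subgroup.one_mem _)
    rwa [htop] at key
  rw [show (2 : ℕ) = 1 + 1 from rfl, derivedSeries_succ, derivedSeries_one, eq_bot_iff]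
  calc ⁅commutator G, commutator G⁆ ≤ ⁅Subgroup.closure S, Subgroup.closure S⁆ :=
        Subgroup.commutator_mono hder hder
    _ = ⊥ := by
        rw [Subgroup.commutator_eq_bot_iff_le_centralizer]
        exact Subgroup.le_centralizer_iff_isMulCommutative.mpr hNab

end Cfsg.Agent.S0572
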