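import Cfsg.Statements.S0573
import Mathlib
import Cfsg.Agent.S0572
import Cfsg.Agent.S0560
import Cfsg.Agent.Lib.Helper16.PCore

set_option autoImplicit false
open Cfsg
open scoped Pointwise commutatorElement

namespace Cfsg.Agent.S0573

variable {G : Type*} [Group G]

/-- The conclusion. -/
def Concl (A B : Subgroup G) : Prop := ∃ N : Subgroup G, N.Normal ∧ N ≠ ⊥ ∧ (N ≤ A ∨ N ≤ B)

theorem Concl.symm {A B : Subgroup G} (h : Concl A B) : Concl B A := by
  obtain ⟨N, h1, h2, h3⟩ := h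
  exact ⟨N, h1, h2, h3.symm⟩

theorem prod_symm {A B : Subgroup G} (hAB : ∀ g : G, ∃ a ∈ A, ∃ b ∈ B, g = a * b) :
    ∀ g : G, ∃ b ∈ B, ∃ a ∈ A, g = b * a := by
  intro g
  obtain ⟨a, ha, b, hb, h⟩ := hAB g⁻¹
  refine ⟨b⁻¹, B.inv_mem hb, a⁻¹, A.inv_mem ha, ?_⟩
  rw [← mul_inv_rev, ← h, inv_inv]

/-- Splitting a central element (relative to a subgroup `R` that factorizes). -/
theorem central_split (A B R : Subgroup G)
    (hA : ∀ x ∈ A, ∀ y ∈ A, x * y = y * x) (hB : ∀ x ∈ B, ∀ y ∈ B, x * y = y * x)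
    (hR : ∀ r ∈ R, ∃ a₁ ∈ A, ∃ b₁ ∈ B, a₁ ∈ R ∧ b₁ ∈ R ∧ r = a₁ * b₁)
    (a b : G) (ha : a ∈ A) (hb : b ∈ B) (hzc : ∀ r ∈ R, (a * b) * r = r * (a * b)) :
    (∀ r ∈ R, a * r = r * a) ∧ (∀ r ∈ R, b * r = r * b) := by
  have key : ∀ r ∈ R, ∀ a₁ ∈ A, ∀ b₁ ∈ B, a₁ ∈ R → b₁ ∈ R → r = a₁ * b₁ →
      a * r = r * a ∧ b * r = r * b := by
    intro r _ a₁ ha₁ b₁ hb₁ ha₁R hb₁R hr
    have h1 : b * a₁ = a₁ * b := by
      have := hzc a₁ ha₁R
      have h2 : a * (b * a₁) = a * (a₁ * b) := by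
        calc a * (b * a₁) = a * b * a₁ := by group
          _ = a₁ * (a * b) := this
          _ = (a₁ * a) * b := by group
          _ = (a * a₁) * b := by rw [hA a₁ ha₁ a ha]
          _ = a * (a₁ * b) := by group
      exact mul_left_cancel h2
    have h2 : a * b₁ = b₁ * a := by
      have := hzc b₁ hb₁R
      have h3 : (a * b₁) * b = (b₁ * a) * b := by
        calc (a * b₁) * b = a * (b₁ * b) := by group
          _ = a * (b * b₁) := by rw [hB b₁ hb₁ b hb]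
          _ = a * b * b₁ := by group
          _ = b₁ * (a * b) := this
          _ = (b₁ * a) * b := by group
      exact mul_right_cancel h3
    subst hr
    constructor
    · calc a * (a₁ * b₁) = (a * a₁) * b₁ := by group
        _ = (a₁ * a) * b₁ := by rw [hA a ha a₁ ha₁]
        _ = a₁ * (a * b₁) := by group
        _ = a₁ * (b₁ * a) := by rw [h2]
        _ = a₁ * b₁ * a := by group
    · calc b * (a₁ * b₁) = (b * a₁) * b₁ := by group
        _ = (a₁ * b) * b₁ := by rw [h1]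
        _ = a₁ * (b * b₁) := by group
        _ = a₁ * (b₁ * b) := by rw [hB b hb b₁ hb₁]
        _ = a₁ * b₁ * b := by group
  constructor
  · intro r hr
    obtain ⟨a₁, ha₁, b₁, hb₁, h1, h2, h3⟩ := hR r hr
    exact (key r hr a₁ ha₁ b₁ hb₁ h1 h2 h3).1
  · intro r hr
    obtain ⟨a₁, ha₁, b₁, hb₁, h1, h2, h3⟩ := hR r hr
    exact (key r hr a₁ ha₁ b₁ hb₁ h1 h2 h3).2

/-- Step 1: nontrivial centre. -/
theorem step1 (A B : Subgroup G)
    (hA : ∀ x ∈ A, ∀ y ∈ A, x * y = y * x) (hB : ∀ x ∈ B, ∀ y ∈ B, x * y = y * x)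
    (hAB : ∀ g : G, ∃ a ∈ A, ∃ b ∈ B, g = a * b) (hZ : Subgroup.center G ≠ ⊥) : Concl A B := by
  obtain ⟨⟨z, hz⟩, hz1⟩ := (Subgroup.ne_bot_iff_exists_ne_one).mp hZ
  have hz1' : z ≠ 1 := fun h => hz1 (Subtype.ext h)
  obtain ⟨a, ha, b, hb, hzab⟩ := hAB z
  have hsplit := central_split A B ⊤ hA hB (fun r _ => by
    obtain ⟨a₁, ha₁, b₁, hb₁, h⟩ := hAB r
    exact ⟨a₁, ha₁, b₁, hb₁, Subgroup.mem_top _, Subgroup.mem_top _, h⟩) a b ha hb (fun r _ => by
      rw [← hzab]; exact ((Subgroup.mem_center_iff.mp hz) r).symm)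
  -- general: a central element x ≠ 1 in A gives the conclusion
  have gen : ∀ (C : Subgroup G) (x : G), x ∈ C → x ≠ 1 → (∀ r : G, x * r = r * x) →
      ∃ N : Subgroup G, N.Normal ∧ N ≠ ⊥ ∧ N ≤ C := by
    intro C x hxC hx1 hxc
    refine ⟨Subgroup.zpowers x, ?_, ?_, ?_⟩
    · have hle : Subgroup.zpowers x ≤ Subgroup.center G := by
        rw [Subgroup.zpowers_le]
        exact Subgroup.mem_center_iff.mpr (fun g => (hxc g).symm)
      constructor
      intro n hn g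
      have hnc := Subgroup.mem_center_iff.mp (hle hn) g
      have : g * n * g⁻¹ = n := by rw [hnc]; group
      rw [this]; exact hn
    · intro h
      have : x ∈ Subgroup.zpowers x := Subgroup.mem_zpowers x
      rw [h, Subgroup.mem_bot] at this
      exact hx1 this
    · rw [Subgroup.zpowers_le]; exact hxC
  by_cases ha1 : a = 1
  · have hb1 : b ≠ 1 := by
      intro hb1; apply hz1'; rw [hzab, ha1, hb1, mul_one]
    obtain ⟨N, h1, h2, h3⟩ := gen B b hb hb1 (fun r => hsplit.2 r (Subgroup.mem_top _))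
    exact ⟨N, h1, h2, Or.inr h3⟩
  · obtain ⟨N, h1, h2, h3⟩ := gen A a ha ha1 (fun r => hsplit.1 r (Subgroup.mem_top _))
    exact ⟨N, h1, h2, Or.inl h3⟩

/-- an element commuting with `A` and `B` is central. -/
theorem mem_center_of (A B : Subgroup G) (hAB : ∀ g : G, ∃ a ∈ A, ∃ b ∈ B, g = a * b) (x : G)
    (hxA : ∀ a ∈ A, x * a = a * x) (hxB : ∀ b ∈ B, x * b = b * x) : x ∈ Subgroup.center G := by
  rw [Subgroup.mem_center_iff]
  intro g
  obtain ⟨a, ha, b, hb, rfl⟩ := hAB g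
  calc a * b * x = a * (b * x) := by group
    _ = a * (x * b) := by rw [hxB b hb]
    _ = (a * x) * b := by group
    _ = (x * a) * b := by rw [hxA a ha]
    _ = x * (a * b) := by group

/-- Step 3: `C_M(A) ≠ 1`. -/
theorem step3 (A B M : Subgroup G)
    (hA : ∀ x ∈ A, ∀ y ∈ A, x * y = y * x) (hB : ∀ x ∈ B, ∀ y ∈ B, x * y = y * x)
    (hM : ∀ x ∈ M, ∀ y ∈ M, x * y = y * x) [hMn : M.Normal]
    (hAB : ∀ g : G, ∃ a ∈ A, ∃ b ∈ B, g = a * b) (hcomm : commutator G ≤ M)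
    (hZ : Subgroup.center G = ⊥)
    (hX : M ⊓ Subgroup.centralizer (A : Set G) ≠ ⊥) : Concl A B := by
  refine ⟨M ⊓ Subgroup.centralizer (A : Set G), ?_, hX, Or.inl ?_⟩
  · constructor
    intro x hx g
    rw [Subgroup.mem_inf] at hx ⊢
    refine ⟨hMn.conj_mem x hx.1 g, ?_⟩
    rw [Subgroup.mem_centralizer_iff]
    intro a ha
    have hxa : a * x = x * a := (Subgroup.mem_centralizer_iff.mp hx.2) a ha
    -- c = a⁻¹ g⁻¹ a g ∈ M
    have hc : a⁻¹ * g⁻¹ * a * g ∈ M := by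
      apply hcomm
      rw [commutator_def]
      have : a⁻¹ * g⁻¹ * a * g = ⁅a⁻¹, g⁻¹⁆ := by rw [commutatorElement_def]; group
      rw [this]
      exact Subgroup.commutator_mem_commutator (Subgroup.mem_top _) (Subgroup.mem_top _)
    have hcx : (a⁻¹ * g⁻¹ * a * g) * x = x * (a⁻¹ * g⁻¹ * a * g) := hM _ hc _ hx.1
    calc a * (g * x * g⁻¹) = g * a * ((a⁻¹ * g⁻¹ * a * g) * x) * g⁻¹ := by group
      _ = g * a * (x * (a⁻¹ * g⁻¹ * a * g)) * g⁻¹ := by rw [hcx]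
      _ = g * (a * x) * a⁻¹ * g⁻¹ * a := by group
      _ = g * (x * a) * a⁻¹ * g⁻¹ * a := by rw [hxa]
      _ = g * x * g⁻¹ * a := by group
  · intro x hx
    rw [Subgroup.mem_inf] at hx
    obtain ⟨a, ha, b, hb, hxab⟩ := hAB x
    have hxc := Subgroup.mem_centralizer_iff.mp hx.2
    have hbc : b ∈ Subgroup.center G := by
      apply mem_center_of A B hAB
      · intro a₁ ha₁
        have hb' : b = a⁻¹ * x := by rw [hxab]; group
        rw [hb']
        calc a⁻¹ * x * a₁ = a⁻¹ * (x * a₁) := by group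
          _ = a⁻¹ * (a₁ * x) := by rw [hxc a₁ ha₁]
          _ = (a⁻¹ * a₁) * x := by group
          _ = (a₁ * a⁻¹) * x := by rw [hA a⁻¹ (A.inv_mem ha) a₁ ha₁]
          _ = a₁ * (a⁻¹ * x) := by group
      · intro b₁ hb₁; exact hB b hb b₁ hb₁
    rw [hZ, Subgroup.mem_bot] at hbc
    rw [hxab, hbc, mul_one]; exact ha

/-- Step 4: `A ⊔ M` proper. -/
theorem step4 (A B M : Subgroup G)
    (hA : ∀ x ∈ A, ∀ y ∈ A, x * y = y * x) (hB : ∀ x ∈ B, ∀ y ∈ B, x * y = y * x)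
    [hMn : M.Normal]
    (hAB : ∀ g : G, ∃ a ∈ A, ∃ b ∈ B, g = a * b) (hcomm : commutator G ≤ M)
    (hZ : Subgroup.center G = ⊥) (hM1 : M ≠ ⊥) (hAM : A ⊓ M = ⊥)
    (ih : ∀ H : Subgroup G, H ≠ ⊤ → H ≠ ⊥ → ∀ A' B' : Subgroup H,
      (∀ x ∈ A', ∀ y ∈ A', x * y = y * x) → (∀ x ∈ B', ∀ y ∈ B', x * y = y * x) →
      (∀ h : H, ∃ a ∈ A', ∃ b ∈ B', h = a * b) →
      ∃ N : Subgroup H, N.Normal ∧ N ≠ ⊥ ∧ (N ≤ A' ∨ N ≤ B'))
    (hH : A ⊔ M ≠ ⊤) : Concl A B := by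
  obtain ⟨H, hHdef⟩ : ∃ H : Subgroup G, H = A ⊔ M := ⟨_, rfl⟩
  have hAH : A ≤ H := hHdef ▸ le_sup_left
  have hMH : M ≤ H := hHdef ▸ le_sup_right
  have hH1 : H ≠ ⊥ := by
    intro h; apply hM1; rw [eq_bot_iff, ← h]; exact hMH
  have hHtop : H ≠ ⊤ := hHdef ▸ hH
  -- every element of H is a * m
  have hHdec : ∀ h ∈ H, ∃ a ∈ A, ∃ m ∈ M, h = a * m := by
    intro h hh
    have : h ∈ ((A ⊔ M : Subgroup G) : Set G) := hHdef ▸ hh
    rw [Subgroup.mul_normal] at this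
    obtain ⟨a, ha, m, hm, h3⟩ := Set.mem_mul.mp this
    exact ⟨a, ha, m, hm, h3.symm⟩
  -- H is normal in G
  have hHn : ∀ g : G, ∀ h ∈ H, g * h * g⁻¹ ∈ H := by
    intro g h hh
    have h1 : ⁅g, h⁆ ∈ H := by
      apply hMH; apply hcomm
      rw [commutator_def]
      exact Subgroup.commutator_mem_commutator (Subgroup.mem_top _) (Subgroup.mem_top _)
    have h2 : g * h * g⁻¹ = ⁅g, h⁆ * h := by rw [commutatorElement_def]; group
    rw [h2]; exact H.mul_mem h1 hh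
  obtain ⟨N₀, hN₀n, hN₀1, hN₀⟩ := ih H hHtop hH1 (A.subgroupOf H) (B.subgroupOf H)
    (fun x hx y hy => Subtype.ext (hA x.1 (Subgroup.mem_subgroupOf.mp hx) y.1
      (Subgroup.mem_subgroupOf.mp hy)))
    (fun x hx y hy => Subtype.ext (hB x.1 (Subgroup.mem_subgroupOf.mp hx) y.1
      (Subgroup.mem_subgroupOf.mp hy)))
    (by
      rintro ⟨h, hh⟩
      obtain ⟨a, ha, b, hb, hab⟩ := hAB h
      have hbH : b ∈ H := by
        have : b = a⁻¹ * h := by rw [hab]; group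
        rw [this]; exact H.mul_mem (H.inv_mem (hAH ha)) hh
      exact ⟨⟨a, hAH ha⟩, Subgroup.mem_subgroupOf.mpr ha, ⟨b, hbH⟩, Subgroup.mem_subgroupOf.mpr hb,
        Subtype.ext hab⟩)
  obtain ⟨N₁, hN₁def⟩ : ∃ N₁ : Subgroup G, N₁ = N₀.map H.subtype := ⟨_, rfl⟩
  have hN₁1 : N₁ ≠ ⊥ := by
    rw [hN₁def]
    intro h
    exact hN₀1 ((Subgroup.map_eq_bot_iff_of_injective _ H.subtype_injective).mp h)
  have hN₁H : N₁ ≤ H := by
    rw [hN₁def]; rintro _ ⟨n, _, rfl⟩; exact n.2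
  have hN₁norm : ∀ h ∈ H, ∀ n ∈ N₁, h * n * h⁻¹ ∈ N₁ := by
    intro h hh n hn
    rw [hN₁def] at hn ⊢
    obtain ⟨n₀, hn₀, rfl⟩ := hn
    exact ⟨⟨h, hh⟩ * n₀ * ⟨h, hh⟩⁻¹, hN₀n.conj_mem n₀ hn₀ ⟨h, hh⟩, rfl⟩
  rcases hN₀ with hNA | hNB
  · -- N₁ ≤ A
    have hN₁A : N₁ ≤ A := by
      rw [hN₁def]; rintro _ ⟨n, hn, rfl⟩
      exact Subgroup.mem_subgroupOf.mp (hNA hn)
    -- N₁ centralizes H
    have hN₁c : ∀ n ∈ N₁, ∀ h ∈ H, n * h = h * n := by
      intro n hn h hh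
      obtain ⟨a, ha, m, hm, rfl⟩ := hHdec h hh
      have h1 : n * a = a * n := hA n (hN₁A hn) a ha
      have h2 : n * m = m * n := by
        have h3 : m * n * m⁻¹ * n⁻¹ ∈ A ⊓ M := by
          rw [Subgroup.mem_inf]
          constructor
          · apply hN₁A
            exact N₁.mul_mem (hN₁norm m (hMH hm) n hn) (N₁.inv_mem hn)
          · have : m * n * m⁻¹ * n⁻¹ = m * (n * m⁻¹ * n⁻¹) := by group
            rw [this]
            exact M.mul_mem hm (hMn.conj_mem _ (M.inv_mem hm) n)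
        rw [hAM, Subgroup.mem_bot] at h3
        have : m * n = (m * n * m⁻¹ * n⁻¹) * (n * m) := by group
        rw [this, h3, one_mul]
      calc n * (a * m) = (n * a) * m := by group
        _ = (a * n) * m := by rw [h1]
        _ = a * (n * m) := by group
        _ = a * (m * n) := by rw [h2]
        _ = a * m * n := by group
    -- Z = centre of H
    refine ⟨H ⊓ Subgroup.centralizer (H : Set G), ?_, ?_, Or.inl ?_⟩
    · constructor
      intro z hz g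
      rw [Subgroup.mem_inf] at hz ⊢
      refine ⟨hHn g z hz.1, ?_⟩
      rw [Subgroup.mem_centralizer_iff]
      intro h hh
      have hzc := Subgroup.mem_centralizer_iff.mp hz.2
      have h1 : g⁻¹ * h * g ∈ H := by
        have := hHn g⁻¹ h hh
        rwa [inv_inv] at this
      have h2 := hzc _ h1
      calc h * (g * z * g⁻¹) = g * ((g⁻¹ * h * g) * z) * g⁻¹ := by group
        _ = g * (z * (g⁻¹ * h * g)) * g⁻¹ := by rw [h2]
        _ = g * z * g⁻¹ * h := by group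
    · intro h
      apply hN₁1
      rw [eq_bot_iff, ← h]
      intro n hn
      rw [Subgroup.mem_inf]
      refine ⟨hN₁H hn, ?_⟩
      rw [Subgroup.mem_centralizer_iff]
      intro h hh
      exact (hN₁c n hn h hh).symm
    · intro z hz
      rw [Subgroup.mem_inf] at hz
      have hzc := Subgroup.mem_centralizer_iff.mp hz.2
      obtain ⟨a, ha, b, hb, hzab⟩ := hAB z
      have hbc : b ∈ Subgroup.center G := by
        apply mem_center_of A B hAB
        · intro a₁ ha₁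
          have hb' : b = a⁻¹ * z := by rw [hzab]; group
          rw [hb']
          calc a⁻¹ * z * a₁ = a⁻¹ * (z * a₁) := by group
            _ = a⁻¹ * (a₁ * z) := by rw [hzc a₁ (hAH ha₁)]
            _ = (a⁻¹ * a₁) * z := by group
            _ = (a₁ * a⁻¹) * z := by rw [hA a⁻¹ (A.inv_mem ha) a₁ ha₁]
            _ = a₁ * (a⁻¹ * z) := by group
        · intro b₁ hb₁; exact hB b hb b₁ hb₁
      rw [hZ, Subgroup.mem_bot] at hbc
      rw [hzab, hbc, mul_one]; exact ha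
  · -- N₁ ≤ B
    have hN₁B : N₁ ≤ B := by
      rw [hN₁def]; rintro _ ⟨n, hn, rfl⟩
      exact Subgroup.mem_subgroupOf.mp (hNB hn)
    refine ⟨N₁, ?_, hN₁1, Or.inr hN₁B⟩
    constructor
    intro n hn g
    obtain ⟨a, ha, b, hb, rfl⟩ := hAB g
    have h1 : b * n * b⁻¹ = n := by
      rw [hB b hb n (hN₁B hn)]; group
    have h2 : a * b * n * (a * b)⁻¹ = a * (b * n * b⁻¹) * a⁻¹ := by group
    rw [h2, h1]
    exact hN₁norm a (hAH ha) n hn

/-- Step 5 core. -/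
theorem core [Finite G] (p : ℕ) [hp : Fact p.Prime] (A B M R : Subgroup G)
    (hA : ∀ x ∈ A, ∀ y ∈ A, x * y = y * x) (hB : ∀ x ∈ B, ∀ y ∈ B, x * y = y * x)
    (hM : ∀ x ∈ M, ∀ y ∈ M, x * y = y * x) [hMn : M.Normal]
    (hAB : ∀ g : G, ∃ a ∈ A, ∃ b ∈ B, g = a * b)
    (hAM : ∀ g : G, ∃ a ∈ A, ∃ m ∈ M, g = a * m)
    (hBM : ∀ g : G, ∃ b ∈ B, ∃ m ∈ M, g = b * m)
    (hBM' : ∀ x ∈ B, x ∈ M → x = 1)
    (hR : IsPGroup p R)
    (hBR : ∀ b ∈ B, ∀ k : ℕ, b ^ (p ^ k) = 1 → b ∈ R)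
    (hMR : ∀ m ∈ M, ∀ k : ℕ, m ^ (p ^ k) = 1 → m ∈ R)
    (a : G) (haA : a ∈ A) (haR : a ∈ R) (haZ : ∀ r ∈ R, a * r = r * a) :
    a ∈ Subgroup.center G := by
  obtain ⟨k, hk⟩ : ∃ k : ℕ, a ^ (p ^ k) = 1 := by
    obtain ⟨k, hk⟩ := hR ⟨a, haR⟩
    exact ⟨k, by simpa using congrArg Subtype.val hk⟩
  obtain ⟨b, hb, m₁, hm₁, hab⟩ := hBM a
  obtain ⟨m₀, hm₀def⟩ : ∃ m₀ : G, m₀ = m₁⁻¹ := ⟨_, rfl⟩
  have hm₀ : m₀ ∈ M := hm₀def ▸ M.inv_mem hm₁
  have hb_eq : b = a * m₀ := by rw [hm₀def, hab]; group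
  -- b is a p-element
  have hbk : b ^ (p ^ k) = 1 := by
    apply hBM' _ (B.pow_mem hb _)
    have h1 : (QuotientGroup.mk b : G ⧸ M) = QuotientGroup.mk a := by
      rw [QuotientGroup.eq]
      have : b⁻¹ * a = m₀⁻¹ := by rw [hb_eq]; group
      rw [this]; exact M.inv_mem hm₀
    have h2 : (QuotientGroup.mk (b ^ (p ^ k)) : G ⧸ M) = 1 := by
      rw [QuotientGroup.mk_pow, h1, ← QuotientGroup.mk_pow, hk, QuotientGroup.mk_one]
    exact (QuotientGroup.eq_one_iff _).mp h2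
  have hbR : b ∈ R := hBR b hb k hbk
  have hm₀R : m₀ ∈ R := by
    have : m₀ = a⁻¹ * b := by rw [hb_eq]; group
    rw [this]; exact R.mul_mem (R.inv_mem haR) hbR
  have ham₀ : a * m₀ = m₀ * a := haZ m₀ hm₀R
  obtain ⟨k₀, hk₀⟩ : ∃ k : ℕ, m₀ ^ (p ^ k) = 1 := by
    obtain ⟨k, hk⟩ := hR ⟨m₀, hm₀R⟩
    exact ⟨k, by simpa using congrArg Subtype.val hk⟩
  -- p'-part of |M|
  obtain ⟨j, s, hs, hjs⟩ := Nat.exists_eq_pow_mul_and_not_dvd (Nat.card_pos (α := M)).ne' p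
    hp.out.ne_one
  have key : ∀ m ∈ M, a * m = m * a := by
    intro m hm
    obtain ⟨a', ha', b', hb', hmab⟩ := hAB m
    obtain ⟨a'', ha''def⟩ : ∃ a'' : G, a'' = a'⁻¹ := ⟨_, rfl⟩
    have ha'' : a'' ∈ A := ha''def ▸ A.inv_mem ha'
    have hb'_eq : b' = a'' * m := by rw [ha''def, hmab]; group
    have hcomm : (a * m₀) * (a'' * m) = (a'' * m) * (a * m₀) := by
      rw [← hb_eq, ← hb'_eq]; exact hB b hb b' hb'
    have haa : a * a'' = a'' * a := hA a haA a'' ha''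
    obtain ⟨u, hudef⟩ : ∃ u : G, u = a''⁻¹ * m₀ * a'' := ⟨_, rfl⟩
    obtain ⟨v, hvdef⟩ : ∃ v : G, v = a⁻¹ * m * a := ⟨_, rfl⟩
    have huM : u ∈ M := by
      rw [hudef]
      have := hMn.conj_mem m₀ hm₀ a''⁻¹
      rwa [inv_inv] at this
    have hvM : v ∈ M := by
      rw [hvdef]
      have := hMn.conj_mem m hm a⁻¹
      rwa [inv_inv] at this
    have huv : u * m = v * m₀ := by
      have h1 : a * a'' * (u * m) = a * a'' * (v * m₀) := by
        calc a * a'' * (u * m) = (a * m₀) * (a'' * m) := by rw [hudef]; group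
          _ = (a'' * m) * (a * m₀) := hcomm
          _ = a'' * a * (v * m₀) := by rw [hvdef]; group
          _ = a * a'' * (v * m₀) := by rw [haa]
      exact mul_left_cancel h1
    obtain ⟨c, hcdef⟩ : ∃ c : G, c = u * m₀⁻¹ := ⟨_, rfl⟩
    have hcM : c ∈ M := hcdef ▸ M.mul_mem huM (M.inv_mem hm₀)
    have hvc : v = m * c := by
      have h1 : v = u * m * m₀⁻¹ := by rw [huv]; group
      rw [h1, hcdef, hM u huM m hm]; group
    -- c is a p-element
    have hck : c ^ (p ^ k₀) = 1 := by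
      have hcm : Commute u m₀⁻¹ := hM u huM _ (M.inv_mem hm₀)
      rw [hcdef, hcm.mul_pow, inv_pow, hk₀, inv_one, mul_one, hudef]
      have : (a''⁻¹ * m₀ * a'') ^ (p ^ k₀) = a''⁻¹ * m₀ ^ (p ^ k₀) * a'' := by
        have := conj_pow (a := a''⁻¹) (b := m₀) (i := p ^ k₀)
        rwa [inv_inv] at this
      rw [this, hk₀]; group
    -- a commutes with c
    have hac : a * c = c * a := by
      have hau : a * u = u * a := by
        rw [hudef]
        calc a * (a''⁻¹ * m₀ * a'') = a''⁻¹ * (a'' * a) * a''⁻¹ * m₀ * a'' := by group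
          _ = a''⁻¹ * (a * a'') * a''⁻¹ * m₀ * a'' := by rw [haa]
          _ = a''⁻¹ * (a * m₀) * a'' := by group
          _ = a''⁻¹ * (m₀ * a) * a'' := by rw [ham₀]
          _ = a''⁻¹ * m₀ * (a * a'') := by group
          _ = a''⁻¹ * m₀ * (a'' * a) := by rw [haa]
          _ = a''⁻¹ * m₀ * a'' * a := by group
      have ham₀' : a * m₀⁻¹ = m₀⁻¹ * a := by
        calc a * m₀⁻¹ = m₀⁻¹ * (m₀ * a) * m₀⁻¹ := by group
          _ = m₀⁻¹ * (a * m₀) * m₀⁻¹ := by rw [ham₀]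
          _ = m₀⁻¹ * a := by group
      rw [hcdef]
      calc a * (u * m₀⁻¹) = (a * u) * m₀⁻¹ := by group
        _ = (u * a) * m₀⁻¹ := by rw [hau]
        _ = u * (a * m₀⁻¹) := by group
        _ = u * (m₀⁻¹ * a) := by rw [ham₀']
        _ = u * m₀⁻¹ * a := by group
    -- m ^ s is a p-element of M, so commutes with a
    have hms : (m ^ s) ^ (p ^ j) = 1 := by
      rw [← pow_mul, mul_comm, ← hjs]
      have h9 : (⟨m, hm⟩ : M) ^ Nat.card M = 1 := pow_card_eq_one'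
      have h10 := congrArg Subtype.val h9
      rwa [Subgroup.coe_pow, Subgroup.coe_one] at h10
    have hmsR : m ^ s ∈ R := hMR _ (M.pow_mem hm s) j hms
    have hams : a * m ^ s = m ^ s * a := haZ _ hmsR
    -- (a⁻¹ m a)^s = m^s c^s
    have h3 : v ^ s = m ^ s * c ^ s := by
      rw [hvc]
      exact (show Commute m c from hM m hm c hcM).mul_pow s
    have h4 : v ^ s = m ^ s := by
      rw [hvdef]
      have := conj_pow (a := a⁻¹) (b := m) (i := s)
      rw [inv_inv] at this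
      rw [this]
      calc a⁻¹ * m ^ s * a = a⁻¹ * (m ^ s * a) := by group
        _ = a⁻¹ * (a * m ^ s) := by rw [hams]
        _ = m ^ s := by group
    have hcs : c ^ s = 1 := by
      rw [h4] at h3
      exact (mul_eq_left.mp h3.symm)
    have hc1 : c = 1 := by
      have h5 : orderOf c ∣ s := orderOf_dvd_of_pow_eq_one hcs
      have h6 : orderOf c ∣ p ^ k₀ := orderOf_dvd_of_pow_eq_one hck
      have h7 : Nat.Coprime s (p ^ k₀) :=
        Nat.Coprime.pow_right _ ((Nat.Prime.coprime_iff_not_dvd hp.out).mpr hs).symm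
      have h8 : orderOf c = 1 := Nat.eq_one_of_dvd_coprimes h7 h5 h6
      exact orderOf_eq_one_iff.mp h8
    rw [hc1, mul_one] at hvc
    rw [hvdef] at hvc
    calc a * m = a * (a⁻¹ * m * a) := by rw [hvc]
      _ = m * a := by group
  rw [Subgroup.mem_center_iff]
  intro g
  obtain ⟨a₁, ha₁, m, hm, rfl⟩ := hAM g
  calc a₁ * m * a = a₁ * (m * a) := by group
    _ = a₁ * (a * m) := by rw [key m hm]
    _ = (a₁ * a) * m := by group
    _ = (a * a₁) * m := by rw [hA a₁ ha₁ a haA]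
    _ = a * (a₁ * m) := by group

/-- In an abelian subgroup `B`, every `p`-element lies in any Sylow `p`-subgroup of `B`. -/
theorem pelem_mem_sylow [Finite G] (p : ℕ) [hp : Fact p.Prime] (B : Subgroup G)
    (hB : ∀ x ∈ B, ∀ y ∈ B, x * y = y * x) (Q : Sylow p B) (b : G) (hb : b ∈ B) (k : ℕ)
    (hbk : b ^ (p ^ k) = 1) : b ∈ (Q : Subgroup B).map B.subtype := by
  have hpz : IsPGroup p (Subgroup.zpowers (⟨b, hb⟩ : B)) := by
    have hb1 : (⟨b, hb⟩ : B) ^ (p ^ k) = 1 := Subtype.ext (by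
      rw [Subgroup.coe_pow, Subgroup.coe_one]; exact hbk)
    rintro ⟨g, hg⟩
    obtain ⟨i, rfl⟩ := Subgroup.mem_zpowers_iff.mp hg
    refine ⟨k, Subtype.ext ?_⟩
    rw [Subgroup.coe_pow, Subgroup.coe_one]
    show ((⟨b, hb⟩ : B) ^ i) ^ (p ^ k) = 1
    rw [← zpow_natCast, ← zpow_mul, mul_comm, zpow_mul, zpow_natCast, hb1, one_zpow]
  obtain ⟨Q', hQ'⟩ := hpz.exists_le_sylow
  obtain ⟨g, hg⟩ := MulAction.exists_smul_eq B Q' Q
  have hgQ : g • Q' = Q' := by
    haveI : (Q' : Subgroup B).Normal := by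
      constructor
      intro n hn h
      have : h * n * h⁻¹ = n := by
        have h1 : h * n = n * h := Subtype.ext (hB h.1 h.2 n.1 n.2)
        rw [h1]; group
      rw [this]; exact hn
    exact Sylow.smul_eq_of_normal
  rw [hgQ] at hg
  subst hg
  exact ⟨⟨b, hb⟩, hQ' (Subgroup.mem_zpowers _), rfl⟩

/-- `p`-elements of an abelian normal subgroup lie in every Sylow `p`-subgroup. -/
theorem pelem_normal_mem_sylow [Finite G] (p : ℕ) [hp : Fact p.Prime] (M : Subgroup G)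
    (hM : ∀ x ∈ M, ∀ y ∈ M, x * y = y * x) [hMn : M.Normal] (R : Sylow p G) (m : G) (hm : m ∈ M)
    (k : ℕ) (hmk : m ^ (p ^ k) = 1) : m ∈ (R : Subgroup G) := by
  let T : Subgroup G :=
    { carrier := {x | x ∈ M ∧ x ^ (p ^ k) = 1}
      one_mem' := ⟨M.one_mem, one_pow _⟩
      mul_mem' := by
        rintro x y ⟨hx, hx1⟩ ⟨hy, hy1⟩
        refine ⟨M.mul_mem hx hy, ?_⟩
        rw [(show Commute x y from hM x hx y hy).mul_pow, hx1, hy1, one_mul]
      inv_mem' := by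
        rintro x ⟨hx, hx1⟩
        exact ⟨M.inv_mem hx, by rw [inv_pow, hx1, inv_one]⟩ }
  have hTn : T.Normal := by
    constructor
    rintro x ⟨hx, hx1⟩ g
    refine ⟨hMn.conj_mem x hx g, ?_⟩
    rw [conj_pow, hx1]; group
  have hTp : IsPGroup p T := by
    rintro ⟨x, hx, hx1⟩
    exact ⟨k, Subtype.ext hx1⟩
  exact Cfsg.Agent.Lib.Helper16.normal_pgroup_le_sylow hTn hTp R ⟨hm, hmk⟩

theorem main.{u} (n : ℕ) : ∀ (G : Type u) [Group G] [Finite G], Nat.card G = n → Nontrivial G →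
    ∀ A B : Subgroup G, (∀ x ∈ A, ∀ y ∈ A, x * y = y * x) → (∀ x ∈ B, ∀ y ∈ B, x * y = y * x) →
    (∀ g : G, ∃ a ∈ A, ∃ b ∈ B, g = a * b) → Concl A B := by
  induction n using Nat.strong_induction_on with
  | _ n ih =>
  intro G _ _ hn hnt A B hA hB hAB
  by_cases hZ : Subgroup.center G = ⊥
  swap
  · exact step1 A B hA hB hAB hZ
  haveI : IsMulCommutative A := ⟨⟨fun x y => Subtype.ext (hA x x.2 y y.2)⟩⟩
  haveI : IsMulCommutative B := ⟨⟨fun x y => Subtype.ext (hB x x.2 y y.2)⟩⟩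
  have hder := Cfsg.Agent.S0572.result A B hAB
  obtain ⟨M, hMdef⟩ : ∃ M : Subgroup G, M = commutator G := ⟨_, rfl⟩
  have hcomm : commutator G ≤ M := hMdef ▸ le_rfl
  haveI hMn : M.Normal := by rw [hMdef]; infer_instance
  have hM : ∀ x ∈ M, ∀ y ∈ M, x * y = y * x := by
    intro x hx y hy
    have h1 : ⁅x, y⁆ ∈ derivedSeries G 2 := by
      rw [derivedSeries_succ, derivedSeries_one, ← hMdef]
      exact Subgroup.commutator_mem_commutator hx hy
    rw [hder, Subgroup.mem_bot] at h1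
    exact (commutatorElement_eq_one_iff_commute.mp h1)
  have hM1 : M ≠ ⊥ := by
    intro h
    have htop : Subgroup.center G = ⊤ := by
      rw [eq_top_iff]
      intro x _
      rw [Subgroup.mem_center_iff]
      intro g
      have h1 : ⁅g, x⁆ ∈ M := by
        apply hcomm
        rw [commutator_def]
        exact Subgroup.commutator_mem_commutator (Subgroup.mem_top _) (Subgroup.mem_top _)
      rw [h, Subgroup.mem_bot] at h1
      exact (commutatorElement_eq_one_iff_commute.mp h1)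
    rw [hZ] at htop
    exact bot_ne_top htop
  -- induction hypothesis for subgroups
  have ih' : ∀ H : Subgroup G, H ≠ ⊤ → H ≠ ⊥ → ∀ A' B' : Subgroup H,
      (∀ x ∈ A', ∀ y ∈ A', x * y = y * x) → (∀ x ∈ B', ∀ y ∈ B', x * y = y * x) →
      (∀ h : H, ∃ a ∈ A', ∃ b ∈ B', h = a * b) →
      ∃ N : Subgroup H, N.Normal ∧ N ≠ ⊥ ∧ (N ≤ A' ∨ N ≤ B') := by
    intro H hHtop hHbot A' B' hA' hB' hAB'
    have hlt : Nat.card H < n := by
      rw [← hn]
      by_contra hcon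
      push_neg at hcon
      exact hHtop (Subgroup.eq_top_of_le_card H hcon)
    exact ih (Nat.card H) hlt H rfl ((Subgroup.nontrivial_iff_ne_bot H).mpr hHbot) A' B' hA' hB' hAB'
  by_cases hXA : M ⊓ Subgroup.centralizer (A : Set G) = ⊥
  swap
  · exact step3 A B M hA hB hM hAB hcomm hZ hXA
  by_cases hXB : M ⊓ Subgroup.centralizer (B : Set G) = ⊥
  swap
  · exact (step3 B A M hB hA hM (prod_symm hAB) hcomm hZ hXB).symm
  have hAM0 : A ⊓ M = ⊥ := by
    rw [eq_bot_iff, ← hXA]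
    intro x hx
    rw [Subgroup.mem_inf] at hx ⊢
    refine ⟨hx.2, ?_⟩
    rw [Subgroup.mem_centralizer_iff]
    intro a ha
    exact hA a ha x hx.1
  have hBM0 : B ⊓ M = ⊥ := by
    rw [eq_bot_iff, ← hXB]
    intro x hx
    rw [Subgroup.mem_inf] at hx ⊢
    refine ⟨hx.2, ?_⟩
    rw [Subgroup.mem_centralizer_iff]
    intro a ha
    exact hB a ha x hx.1
  by_cases hHA : A ⊔ M = ⊤
  swap
  · exact step4 A B M hA hB hAB hcomm hZ hM1 hAM0 ih' hHA
  by_cases hHB : B ⊔ M = ⊤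
  swap
  · exact (step4 B A M hB hA (prod_symm hAB) hcomm hZ hM1 hBM0 ih' hHB).symm
  have hAM : ∀ g : G, ∃ a ∈ A, ∃ m ∈ M, g = a * m := by
    intro g
    have : g ∈ ((A ⊔ M : Subgroup G) : Set G) := by rw [hHA]; trivial
    rw [Subgroup.mul_normal] at this
    obtain ⟨a, ha, m, hm, h3⟩ := Set.mem_mul.mp this
    exact ⟨a, ha, m, hm, h3.symm⟩
  have hBM : ∀ g : G, ∃ b ∈ B, ∃ m ∈ M, g = b * m := by
    intro g
    have : g ∈ ((B ⊔ M : Subgroup G) : Set G) := by rw [hHB]; trivial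
    rw [Subgroup.mul_normal] at this
    obtain ⟨a, ha, m, hm, h3⟩ := Set.mem_mul.mp this
    exact ⟨a, ha, m, hm, h3.symm⟩
  -- the prime
  have hcard1 : Nat.card G ≠ 1 := (Finite.one_lt_card (α := G)).ne'
  obtain ⟨p, hp, hpdvd⟩ := Nat.exists_prime_and_dvd hcard1
  haveI : Fact p.Prime := ⟨hp⟩
  obtain ⟨P, Q, R, hPQR⟩ := Cfsg.Agent.S0560.result A B hAB p
  have hAR : ∀ a ∈ A, ∀ k : ℕ, a ^ (p ^ k) = 1 → a ∈ (R : Subgroup G) := by
    intro a ha k hak
    have h1 := pelem_mem_sylow p A hA P a ha k hak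
    have h2 : a * 1 ∈ (((P : Subgroup A).map A.subtype : Subgroup G) : Set G) *
        (((Q : Subgroup B).map B.subtype : Subgroup G) : Set G) :=
      Set.mul_mem_mul h1 (Subgroup.one_mem _)
    rw [← hPQR, mul_one] at h2
    exact h2
  have hBR : ∀ b ∈ B, ∀ k : ℕ, b ^ (p ^ k) = 1 → b ∈ (R : Subgroup G) := by
    intro b hb k hbk
    have h1 := pelem_mem_sylow p B hB Q b hb k hbk
    have h2 : 1 * b ∈ (((P : Subgroup A).map A.subtype : Subgroup G) : Set G) *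
        (((Q : Subgroup B).map B.subtype : Subgroup G) : Set G) :=
      Set.mul_mem_mul (Subgroup.one_mem _) h1
    rw [← hPQR, one_mul] at h2
    exact h2
  have hMR : ∀ m ∈ M, ∀ k : ℕ, m ^ (p ^ k) = 1 → m ∈ (R : Subgroup G) :=
    fun m hm k hmk => pelem_normal_mem_sylow p M hM R m hm k hmk
  have hRp : IsPGroup p (R : Subgroup G) := R.isPGroup'
  have hRdec : ∀ r ∈ (R : Subgroup G), ∃ a₁ ∈ A, ∃ b₁ ∈ B, a₁ ∈ (R : Subgroup G) ∧
      b₁ ∈ (R : Subgroup G) ∧ r = a₁ * b₁ := by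
    intro r hr
    have h1 : r ∈ ((R : Subgroup G) : Set G) := hr
    rw [hPQR] at h1
    obtain ⟨a₁, ha₁, b₁, hb₁, h3⟩ := Set.mem_mul.mp h1
    have ha₁R : a₁ ∈ (R : Subgroup G) := by
      have h2 : a₁ * 1 ∈ (((P : Subgroup A).map A.subtype : Subgroup G) : Set G) *
          (((Q : Subgroup B).map B.subtype : Subgroup G) : Set G) :=
        Set.mul_mem_mul ha₁ (Subgroup.one_mem _)
      rw [← hPQR, mul_one] at h2
      exact h2
    have hb₁R : b₁ ∈ (R : Subgroup G) := by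
      have h2 : 1 * b₁ ∈ (((P : Subgroup A).map A.subtype : Subgroup G) : Set G) *
          (((Q : Subgroup B).map B.subtype : Subgroup G) : Set G) :=
        Set.mul_mem_mul (Subgroup.one_mem _) hb₁
      rw [← hPQR, one_mul] at h2
      exact h2
    obtain ⟨x, _, rfl⟩ := ha₁
    obtain ⟨y, _, rfl⟩ := hb₁
    exact ⟨_, x.2, _, y.2, ha₁R, hb₁R, h3.symm⟩
  haveI : Nontrivial (R : Subgroup G) :=
    (Subgroup.nontrivial_iff_ne_bot _).mpr (R.ne_bot_of_dvd_card hpdvd)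
  haveI := IsPGroup.center_nontrivial hRp
  obtain ⟨⟨z, hz⟩, hz1⟩ := exists_ne (1 : Subgroup.center (R : Subgroup G))
  have hz1' : (z : G) ≠ 1 := by
    intro h
    apply hz1
    exact Subtype.ext (Subtype.ext h)
  obtain ⟨a, ha, b, hb, haR, hbR, hzab⟩ := hRdec z.1 z.2
  have hsplit := central_split A B R hA hB hRdec a b ha hb (fun r hr => by
    rw [← hzab]
    have := (Subgroup.mem_center_iff.mp hz) ⟨r, hr⟩
    exact (congrArg Subtype.val this).symm)
  exfalso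
  by_cases ha1 : a = 1
  · have hb1 : b ≠ 1 := by
      intro hb1; apply hz1'; rw [hzab, ha1, hb1, mul_one]
    have hbc := core p B A M R hB hA hM (prod_symm hAB) hBM hAM
      (fun x hxA hxM => by
        have : x ∈ A ⊓ M := ⟨hxA, hxM⟩
        rwa [hAM0, Subgroup.mem_bot] at this) hRp hAR hMR b hb hbR hsplit.2
    rw [hZ, Subgroup.mem_bot] at hbc
    exact hb1 hbc
  · have hac := core p A B M R hA hB hM hAB hAM hBM
      (fun x hxB hxM => by
        have : x ∈ B ⊓ M := ⟨hxB, hxM⟩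
        rwa [hBM0, Subgroup.mem_bot] at this) hRp hBR hMR a ha haR hsplit.1
    rw [hZ, Subgroup.mem_bot] at hac
    exact ha1 hac

theorem result {G : Type*} [Group G] [Finite G] [Nontrivial G] (A B : Subgroup G) [IsMulCommutative A] [IsMulCommutative B] (hAB : ∀ g : G, ∃ a ∈ A, ∃ b ∈ B, g = a * b) : ∃ N : Subgroup G, N.Normal ∧ N ≠ ⊥ ∧ (N ≤ A ∨ N ≤ B) :=
  main (Nat.card G) G rfl inferInstance A B (fun x hx y hy => setLike_mul_comm hx hy)
    (fun x hx y hy => setLike_mul_comm hx hy) hAB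

end Cfsg.Agent.S0573
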