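import Cfsg.Statements.S0571
import Mathlib
import Cfsg.Agent.S0573
import Cfsg.Agent.Lib.Helper17.Supersolvable

set_option autoImplicit false
open Cfsg

namespace Cfsg.Agent.S0571

theorem aux.{u} (n : ℕ) : ∀ (G : Type u) [Group G] [Finite G], Nat.card G = n →
    ∀ A B : Subgroup G, IsCyclic A → IsCyclic B → (∀ g : G, ∃ a ∈ A, ∃ b ∈ B, g = a * b) →
    Cfsg.IsSupersolvable G := by
  induction n using Nat.strong_induction_on with
  | _ n ih =>
  intro G _ _ hn A B hA hB hAB
  by_cases hG : Nontrivial G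
  · haveI : IsMulCommutative A := ⟨⟨fun x y => (IsCyclic.commGroup (α := A)).mul_comm x y⟩⟩
    haveI : IsMulCommutative B := ⟨⟨fun x y => (IsCyclic.commGroup (α := B)).mul_comm x y⟩⟩
    obtain ⟨N, hNn, hN1, hN⟩ := Cfsg.Agent.S0573.result A B hAB
    haveI := hNn
    haveI : IsCyclic N := by
      rcases hN with h | h
      · exact Subgroup.isCyclic_of_le h
      · exact Subgroup.isCyclic_of_le h
    have hlt : Nat.card (G ⧸ N) < n := by
      rw [← hn, Subgroup.card_eq_card_quotient_mul_card_subgroup N]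
      have h1 : 1 < Nat.card N := by
        haveI : Nontrivial N := (Subgroup.nontrivial_iff_ne_bot N).mpr hN1
        exact Finite.one_lt_card
      have h2 : 0 < Nat.card (G ⧸ N) := Nat.card_pos
      nlinarith
    have hQ : Cfsg.IsSupersolvable (G ⧸ N) := by
      refine ih _ hlt (G ⧸ N) rfl (A.map (QuotientGroup.mk' N)) (B.map (QuotientGroup.mk' N)) ?_ ?_ ?_
      · exact isCyclic_of_surjective _ ((QuotientGroup.mk' N).subgroupMap_surjective A)
      · exact isCyclic_of_surjective _ ((QuotientGroup.mk' N).subgroupMap_surjective B)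
      · intro q
        obtain ⟨g, rfl⟩ := QuotientGroup.mk'_surjective N q
        obtain ⟨a, ha, b, hb, rfl⟩ := hAB g
        exact ⟨_, Subgroup.mem_map_of_mem _ ha, _, Subgroup.mem_map_of_mem _ hb, map_mul _ a b⟩
    exact Cfsg.Agent.Lib.Helper17.isSupersolvable_of_cyclic_normal_of_quotient N hQ
  · rw [not_nontrivial_iff_subsingleton] at hG
    refine ⟨0, fun _ => ⊥, rfl, ?_, fun _ => inferInstance, fun i => i.elim0⟩
    exact Subsingleton.elim _ _

theorem result {G : Type*} [Group G] [Finite G] (A B : Subgroup G) [IsCyclic A] [IsCyclic B] (hAB : ∀ g : G, ∃ a ∈ A, ∃ b ∈ B, g = a * b) : Cfsg.IsSupersolvable G :=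
  aux (Nat.card G) G rfl A B inferInstance inferInstance hAB

end Cfsg.Agent.S0571
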