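import Cfsg.Statements.S0575
import Mathlib

set_option autoImplicit false
open Cfsg

namespace Cfsg.Agent.S0575

theorem result {G : Type*} [Group G] [Finite G] (H : Subgroup G) [H.Normal] : (frattini ↥H).map H.subtype ≤ frattini G := by
  haveI hFn : ((frattini ↥H).map H.subtype).Normal := ConjAct.normal_of_characteristic_of_normal
  have hFH : (frattini ↥H).map H.subtype ≤ H := Subgroup.map_subtype_le _
  change _ ≤ ⨅ a ∈ {M : Subgroup G | IsCoatom M}, a
  rw [le_iInf₂_iff]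
  intro M hM
  by_contra hnot
  -- F ⊔ M = ⊤
  have htop : (frattini ↥H).map H.subtype ⊔ M = ⊤ := by
    apply hM.2
    exact lt_of_le_of_ne le_sup_right (fun h => hnot (h ▸ le_sup_left))
  -- so H ≤ M
  have hgen : M.subgroupOf H ⊔ frattini ↥H = ⊤ := by
    rw [eq_top_iff]
    rintro ⟨x, hx⟩ -
    have hx' : x ∈ (↑((frattini ↥H).map H.subtype ⊔ M) : Set G) := by
      rw [htop]; trivial
    rw [Subgroup.normal_mul] at hx'
    obtain ⟨f, hf, m, hm, hfm⟩ := Set.mem_mul.mp hx'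
    have hfH : f ∈ H := hFH hf
    have hmH : m ∈ H := by
      have : m = f⁻¹ * x := by rw [← hfm]; group
      rw [this]; exact H.mul_mem (H.inv_mem hfH) hx
    have h1 : (⟨m, hmH⟩ : ↥H) ∈ M.subgroupOf H := by
      rw [Subgroup.mem_subgroupOf]; exact hm
    have h2 : (⟨f, hfH⟩ : ↥H) ∈ frattini ↥H := by
      obtain ⟨f', hf', hff'⟩ := hf
      have : f' = ⟨f, hfH⟩ := Subtype.ext hff'
      rw [← this]; exact hf'
    have h3 : (⟨x, hx⟩ : ↥H) = ⟨f, hfH⟩ * ⟨m, hmH⟩ := Subtype.ext hfm.symm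
    rw [h3]
    exact Subgroup.mul_mem _ (Subgroup.mem_sup_right h2) (Subgroup.mem_sup_left h1)
  have hMH := frattini_nongenerating hgen
  rw [Subgroup.subgroupOf_eq_top] at hMH
  exact hnot (hFH.trans hMH)

end Cfsg.Agent.S0575
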