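import Cfsg.Statements.S0576
import Mathlib

set_option autoImplicit false
open Cfsg

namespace Cfsg.Agent.S0576

/-- Let H be a normal subgroup of a finite group G with H contained in the Frattini subgroup of G. Then the group of inner automorphisms of H is contained in the Frattini subgroup of the automorphism group of H. -/
theorem result {G : Type*} [Group G] [Finite G] (H : Subgroup G) [H.Normal] (hH : H ≤ frattini G) : (MulAut.conj : ↥H →* MulAut ↥H).range ≤ frattini (MulAut ↥H) := by
  unfold frattini Order.radical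
  apply le_iInf₂
  intro M hM
  by_contra hInn
  -- Inn(H) is normal in Aut(H)
  haveI hInnN : (MulAut.conj : ↥H →* MulAut ↥H).range.Normal := by
    constructor
    rintro i ⟨h₀, rfl⟩ σ
    refine ⟨σ h₀, ?_⟩
    ext x
    simp [MulAut.conj_apply]
  have hsup : (MulAut.conj : ↥H →* MulAut ↥H).range ⊔ M = ⊤ := by
    apply hM.2
    apply lt_of_le_of_ne le_sup_right
    intro h
    apply hInn
    rw [h]
    exact le_sup_left
  -- the conjugation action of G on H
  let φ : G →* MulAut ↥H := MulAut.conjNormal
  have hφH : ∀ h₀ : H, φ (h₀ : G) = MulAut.conj h₀ := by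
    intro h₀
    ext x
    simp [φ, MulAut.conjNormal_apply, MulAut.conj_apply]
  have hL : H ⊔ M.comap φ = ⊤ := by
    rw [eq_top_iff]
    intro g _
    have hg : φ g ∈ (MulAut.conj : ↥H →* MulAut ↥H).range ⊔ M := by rw [hsup]; trivial
    obtain ⟨i, ⟨h₀, rfl⟩, m, hm, him⟩ := Subgroup.mem_sup_of_normal_left.mp hg
    have h1 : ((h₀ : G))⁻¹ * g ∈ M.comap φ := by
      rw [Subgroup.mem_comap, map_mul, map_inv, hφH, ← him]
      simpa using hm
    have h2 : g = (h₀ : G) * (((h₀ : G))⁻¹ * g) := by group
    rw [h2]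
    exact Subgroup.mul_mem_sup h₀.2 h1
  have hL' : M.comap φ ⊔ frattini G = ⊤ := by
    rw [eq_top_iff, ← hL]
    exact sup_le (hH.trans le_sup_right) le_sup_left
  have hLtop : M.comap φ = ⊤ := frattini_nongenerating hL'
  apply hInn
  rintro i ⟨h₀, rfl⟩
  have : (h₀ : G) ∈ M.comap φ := by rw [hLtop]; trivial
  rw [Subgroup.mem_comap, hφH] at this
  exact this

end Cfsg.Agent.S0576
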