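import Cfsg.Statements.S0578
import Mathlib

set_option autoImplicit false
open Cfsg

namespace Cfsg.Agent.S0578

/-- under the hypothesis every `p`-subgroup is abelian -/
theorem pgroup_comm {G : Type*} [Group G] [Finite G]
    (h : ∀ A : Subgroup G, IsMulCommutative A →
      Subgroup.normalizer (A : Set G) = Subgroup.centralizer (A : Set G))
    (p : ℕ) [hp : Fact p.Prime] (P : Subgroup G) (hP : IsPGroup p P) :
    ∀ a ∈ P, ∀ b ∈ P, a * b = b * a := by
  classical
  by_contra hne
  push Not at hne
  obtain ⟨a₀, ha₀, b₀, hb₀, hab₀⟩ := hne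
  -- the centre of P is proper
  have hcne : Subgroup.center P ≠ ⊤ := by
    intro htop
    have : (⟨a₀, ha₀⟩ : P) ∈ Subgroup.center P := htop ▸ Subgroup.mem_top _
    have h2 := (Subgroup.mem_center_iff.mp this) ⟨b₀, hb₀⟩
    exact hab₀ (congrArg Subtype.val h2).symm
  haveI : Nontrivial (P ⧸ Subgroup.center P) := by
    rw [QuotientGroup.nontrivial_iff]
    exact hcne
  have hq : IsPGroup p (P ⧸ Subgroup.center P) := hP.to_quotient _
  haveI := hq.center_nontrivial
  obtain ⟨c, hc⟩ := exists_ne (1 : Subgroup.center (P ⧸ Subgroup.center P))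
  obtain ⟨x, hx⟩ := QuotientGroup.mk_surjective (c : P ⧸ Subgroup.center P)
  have hxZ : x ∉ Subgroup.center P := by
    intro hmem
    apply hc
    apply Subtype.ext
    rw [← hx]
    exact (QuotientGroup.eq_one_iff x).mpr hmem
  have hcomm_mod : ∀ g : P, g * x * g⁻¹ * x⁻¹ ∈ Subgroup.center P := by
    intro g
    rw [← QuotientGroup.eq_one_iff]
    have h1 := (Subgroup.mem_center_iff.mp c.2) (QuotientGroup.mk g)
    rw [← hx] at h1
    simp only [QuotientGroup.mk_mul, QuotientGroup.mk_inv]
    rw [h1]
    group
  -- the abelian subgroup B generated by Z(P) and x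
  have hBcomm : IsMulCommutative (Subgroup.closure
      ({y : G | (∃ z : P, z ∈ Subgroup.center P ∧ (z : G) = y) ∨ y = (x : G)})) := by
    apply Subgroup.isMulCommutative_closure
    rintro y (⟨z, hz, rfl⟩ | rfl) y' (⟨z', hz', rfl⟩ | rfl)
    · have := (Subgroup.mem_center_iff.mp hz) z'
      exact (congrArg Subtype.val this).symm
    · have := (Subgroup.mem_center_iff.mp hz) x
      exact (congrArg Subtype.val this).symm
    · have := (Subgroup.mem_center_iff.mp hz') x
      exact congrArg Subtype.val this
    · rfl
  have hNC := h _ hBcomm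
  -- every element of P normalizes B
  have hPN : ∀ g : P, (g : G) ∈ Subgroup.normalizer ((Subgroup.closure
      ({y : G | (∃ z : P, z ∈ Subgroup.center P ∧ (z : G) = y) ∨ y = (x : G)}) : Subgroup G) :
        Set G) := by
    intro g
    have hconj : ∀ (g : P) (y : G),
        y ∈ ({y : G | (∃ z : P, z ∈ Subgroup.center P ∧ (z : G) = y) ∨ y = (x : G)} : Set G) →
        (g : G) * y * (g : G)⁻¹ ∈ Subgroup.closure
          ({y : G | (∃ z : P, z ∈ Subgroup.center P ∧ (z : G) = y) ∨ y = (x : G)}) := by
      rintro g y (⟨z, hz, rfl⟩ | rfl)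
      · apply Subgroup.subset_closure
        left
        refine ⟨z, hz, ?_⟩
        have := (Subgroup.mem_center_iff.mp hz) g
        have h2 := congrArg Subtype.val this
        simp only [Subgroup.coe_mul] at h2
        calc (z : G) = ((z : G) * (g : G)) * (g : G)⁻¹ := by group
          _ = ((g : G) * (z : G)) * (g : G)⁻¹ := by rw [← h2]
      · have h1 : (g : G) * (x : G) * (g : G)⁻¹ = ((g * x * g⁻¹ * x⁻¹ : P) : G) * (x : G) := by
          simp only [Subgroup.coe_mul, Subgroup.coe_inv]
          group
        rw [h1]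
        apply Subgroup.mul_mem
        · apply Subgroup.subset_closure
          left
          exact ⟨_, hcomm_mod g, rfl⟩
        · apply Subgroup.subset_closure
          right
          rfl
    have hle : ∀ (g : P) (y : G), y ∈ Subgroup.closure
        ({y : G | (∃ z : P, z ∈ Subgroup.center P ∧ (z : G) = y) ∨ y = (x : G)}) →
        (g : G) * y * (g : G)⁻¹ ∈ Subgroup.closure
          ({y : G | (∃ z : P, z ∈ Subgroup.center P ∧ (z : G) = y) ∨ y = (x : G)}) := by
      intro g y hy
      induction hy using Subgroup.closure_induction with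
      | mem y hy => exact hconj g y hy
      | one => simp
      | mul y y' _ _ ih ih' =>
        have e : (g : G) * (y * y') * (g : G)⁻¹ =
            ((g : G) * y * (g : G)⁻¹) * ((g : G) * y' * (g : G)⁻¹) := by group
        rw [e]
        exact Subgroup.mul_mem _ ih ih'
      | inv y _ ih =>
        have e : (g : G) * y⁻¹ * (g : G)⁻¹ = ((g : G) * y * (g : G)⁻¹)⁻¹ := by group
        rw [e]
        exact Subgroup.inv_mem _ ih
    rw [Subgroup.mem_normalizer_iff]
    intro y
    constructor
    · exact hle g y
    · intro hy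
      have := hle g⁻¹ _ hy
      have e : ((g⁻¹ : P) : G) * ((g : G) * y * (g : G)⁻¹) * ((g⁻¹ : P) : G)⁻¹ = y := by
        simp only [Subgroup.coe_inv]
        group
      rwa [e] at this
  -- hence x is central in P
  apply hxZ
  rw [Subgroup.mem_center_iff]
  intro g
  have h1 := hPN g
  rw [hNC, Subgroup.mem_centralizer_iff] at h1
  have h2 := h1 (x : G) (Subgroup.subset_closure (Or.inr rfl))
  apply Subtype.ext
  simp only [Subgroup.coe_mul]
  exact h2.symm

/-- If in a finite group the normalizer of each abelian subgroup coincides with its centralizer, then the group is abelian. -/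
theorem result {G : Type*} [Group G] [Finite G] (h : ∀ A : Subgroup G, IsMulCommutative A → Subgroup.normalizer (A : Set G) = Subgroup.centralizer (A : Set G)) : IsMulCommutative G := by
  classical
  refine ⟨⟨fun x y => ?_⟩⟩
  -- the commutator z
  have key : x * y * x⁻¹ * y⁻¹ = 1 := by
    rw [← orderOf_eq_one_iff, Nat.eq_one_iff_not_exists_prime_dvd]
    intro p hp hdvd
    haveI : Fact p.Prime := ⟨hp⟩
    obtain ⟨P⟩ : Nonempty (Sylow p G) := inferInstance
    have hPc := pgroup_comm h p (P : Subgroup G) P.isPGroup'
    have hPcomm : IsMulCommutative (P : Subgroup G) :=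
      ⟨⟨fun a b => Subtype.ext (hPc a a.2 b b.2)⟩⟩
    have hNC : Subgroup.normalizer ((P : Subgroup G) : Set G) ≤
        Subgroup.centralizer ((P : Subgroup G) : Set G) := le_of_eq (h _ hPcomm)
    have hker : x * y * x⁻¹ * y⁻¹ ∈ (MonoidHom.transferSylow P hNC).ker := by
      rw [MonoidHom.mem_ker]
      simp only [map_mul, map_inv]
      have hc : ∀ a b : (P : Subgroup G), a * b = b * a := fun a b =>
        Subtype.ext (hPc a a.2 b b.2)
      rw [hc (MonoidHom.transferSylow P hNC x) (MonoidHom.transferSylow P hNC y)]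
      group
    have h1 : orderOf (x * y * x⁻¹ * y⁻¹) ∣ Nat.card (MonoidHom.transferSylow P hNC).ker := by
      have := orderOf_dvd_natCard (⟨_, hker⟩ : (MonoidHom.transferSylow P hNC).ker)
      rwa [Subgroup.orderOf_mk] at this
    exact MonoidHom.not_dvd_card_ker_transferSylow P hNC (hdvd.trans h1)
  calc x * y = (x * y * x⁻¹ * y⁻¹) * (y * x) := by group
    _ = y * x := by rw [key, one_mul]

end Cfsg.Agent.S0578
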