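import Cfsg.Statements.S0579
import Mathlib
import Cfsg.Agent.Lib.Helper17.Supersolvable
import Cfsg.Agent.Lib.Helper13.Coprime

set_option autoImplicit false
open Cfsg

namespace Cfsg.Agent.S0579

open scoped commutatorElement

universe u

section eigen
open Polynomial

theorem eigen_lin (p : ℕ) [hp : Fact p.Prime] (V : Type*) [AddCommGroup V] [Module (ZMod p) V]
    [Finite V] [Nontrivial V] (T : Module.End (ZMod p) V) (hT : T ^ p = T) :
    ∃ v : V, v ≠ 0 ∧ ∃ a : ZMod p, T v = a • v := by
  have hdvd : minpoly (ZMod p) T ∣ (X ^ p - X : (ZMod p)[X]) := by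
    apply minpoly.dvd
    simp [hT]
  have hne : (X ^ p - X : (ZMod p)[X]) ≠ 0 := FiniteField.X_pow_card_sub_X_ne_zero _ hp.out.one_lt
  have hsplit : (minpoly (ZMod p) T).Splits :=
    (GaloisField.splits_zmod_X_pow_sub_X (p := p)).of_dvd hne hdvd
  have : Module.Finite (ZMod p) V := Module.Finite.of_finite
  have hint : IsIntegral (ZMod p) T := Algebra.IsIntegral.isIntegral T
  have hdeg : (minpoly (ZMod p) T).degree ≠ 0 := (minpoly.degree_pos hint).ne'
  obtain ⟨a, ha⟩ := hsplit.exists_eval_eq_zero hdeg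
  have hev : T.HasEigenvalue a := Module.End.hasEigenvalue_of_isRoot ha
  obtain ⟨v, hv⟩ := hev.exists_hasEigenvector
  exact ⟨v, hv.2, a, hv.apply_eq_smul⟩

theorem exists_eigen_aux {A : Type*} [CommGroup A] [Finite A] [Nontrivial A] (p : ℕ) [hp : Fact p.Prime]
    [Module (ZMod p) (Additive A)] (φ : A →* A) (hφ : ∀ x, φ^[p] x = φ x) :
    ∃ x : A, x ≠ 1 ∧ ∃ a : ℕ, φ x = x ^ a := by
  let T : Module.End (ZMod p) (Additive A) := (MonoidHom.toAdditive φ).toZModLinearMap p
  have hTpow : ∀ (k : ℕ) (x : Additive A), (T ^ k) x = Additive.ofMul (φ^[k] x.toMul) := by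
    intro k
    induction k with
    | zero => intro x; simp
    | succ k ih =>
      intro x
      rw [pow_succ, Module.End.mul_apply, ih, Function.iterate_succ_apply]
      rfl
  have hT : T ^ p = T := by
    ext x
    rw [hTpow, hφ]
    rfl
  obtain ⟨v, hv0, a, hv1⟩ := eigen_lin p (Additive A) T hT
  refine ⟨v.toMul, ?_, a.val, ?_⟩
  · intro h
    apply hv0
    exact congrArg Additive.ofMul h
  · have h2 : a • v = a.val • v := by
      conv_lhs => rw [← ZMod.natCast_zmod_val a]
      rw [Nat.cast_smul_eq_nsmul]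
    rw [h2] at hv1
    exact congrArg Additive.toMul hv1

/-- an endomorphism `φ` with `φ^p = φ` of a non-trivial finite elementary abelian `p`-group has an
eigenvector -/
theorem exists_eigen {A : Type*} [CommGroup A] [Finite A] [Nontrivial A] (p : ℕ) [hp : Fact p.Prime]
    (hexp : ∀ x : A, x ^ p = 1) (φ : A →* A) (hφ : ∀ x, φ^[p] x = φ x) :
    ∃ x : A, x ≠ 1 ∧ ∃ a : ℕ, φ x = x ^ a :=
  @exists_eigen_aux A _ _ _ p hp
    (AddCommGroup.zmodModule (n := p) (by intro x; exact congrArg Additive.ofMul (hexp x.toMul))) φ hφ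

end eigen

/-- a subgroup whose elements conjugate `K` into `K` normalizes `K` -/
theorem le_normalizer_of_conj_mem {G : Type*} [Group G] (S K : Subgroup G)
    (h : ∀ s ∈ S, ∀ k ∈ K, s * k * s⁻¹ ∈ K) : S ≤ Subgroup.normalizer (K : Set G) := by
  intro s hs
  rw [Subgroup.mem_normalizer_iff]
  intro k
  constructor
  · exact h s hs k
  · intro hk
    have := h s⁻¹ (S.inv_mem hs) _ hk
    have e : s⁻¹ * (s * k * s⁻¹) * s⁻¹⁻¹ = k := by group
    rwa [e] at this

/-- The property: in `G`, `(q-1)`-th powers and commutators of elements of a `q'`-subgroup centralize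
every normal `q`-subgroup. -/
def CentProp (G : Type u) [Group G] : Prop :=
  ∀ (q : ℕ), q.Prime → ∀ (Q : Subgroup G), Q.Normal → IsPGroup q Q →
    ∀ (H : Subgroup G), (Nat.card H).Coprime q →
      (∀ h ∈ H, h ^ (q - 1) ∈ Subgroup.centralizer (Q : Set G)) ∧
      (∀ h ∈ H, ∀ h' ∈ H, ⁅h, h'⁆ ∈ Subgroup.centralizer (Q : Set G))

/-- L1: automorphisms induced on a normal subgroup of prime order -/
theorem cent_of_cyclic_prime {G : Type*} [Group G] (N : Subgroup G) [hNn : N.Normal] (p : ℕ)
    (hp : p.Prime) (hN : Nat.card N = p) (h h' : G) :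
    h ^ (p - 1) ∈ Subgroup.centralizer (N : Set G) ∧ ⁅h, h'⁆ ∈ Subgroup.centralizer (N : Set G) := by
  haveI := Fact.mk hp
  haveI : IsCyclic N := isCyclic_of_prime_card hN
  haveI : Finite N := Nat.finite_of_card_ne_zero (by rw [hN]; exact hp.ne_zero)
  have key : ∀ g : G, (MulAut.conjNormal g : MulAut N) = 1 → g ∈ Subgroup.centralizer (N : Set G) := by
    intro g hg
    rw [Subgroup.mem_centralizer_iff]
    intro n hn
    have h1 : ((MulAut.conjNormal g : MulAut N) ⟨n, hn⟩ : G) = g * n * g⁻¹ :=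
      MulAut.conjNormal_apply g ⟨n, hn⟩
    rw [hg] at h1
    simp only [MulAut.one_apply] at h1
    calc n * g = (g * n * g⁻¹) * g := by rw [← h1]
      _ = g * n := by group
  have hcard : Nat.card (MulAut N) = p - 1 := by
    rw [IsCyclic.card_mulAut, hN, Nat.totient_prime hp]
  have hcommAut : ∀ a b : MulAut N, a * b = b * a := by
    intro a b
    apply (IsCyclic.mulAutMulEquiv N).injective
    rw [map_mul, map_mul, mul_comm]
  constructor
  · apply key
    rw [map_pow, ← hcard]
    exact pow_card_eq_one'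
  · apply key
    rw [map_commutatorElement, commutatorElement_eq_one_iff_mul_comm]
    exact hcommAut _ _


/-- L2a -/
theorem mem_centralizer_lift {G : Type u} [Group G] [Finite G] (N : Subgroup G) [hNn : N.Normal]
    (p : ℕ) (hp : p.Prime) (hN : Nat.card N = p) (q : ℕ) (hq : q.Prime) (Q : Subgroup G)
    (hQn : Q.Normal) (hQ : IsPGroup q Q) (H : Subgroup G) (hH : (Nat.card H).Coprime q)
    (k : G) (hk : k ∈ H)
    (hkbar : QuotientGroup.mk' N k ∈
      Subgroup.centralizer ((Q.map (QuotientGroup.mk' N) : Subgroup (G ⧸ N)) : Set (G ⧸ N)))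
    (hkN : q = p → k ∈ Subgroup.centralizer (N : Set G)) :
    k ∈ Subgroup.centralizer (Q : Set G) := by
  haveI := Fact.mk hq
  obtain ⟨m, hm⟩ := (IsPGroup.iff_card).mp hQ
  -- commutators of Q with powers of k lie in N
  have hcommN : ∀ x ∈ Q, ∀ j : ℤ, ⁅x, k ^ j⁆ ∈ N := by
    intro x hx j
    have h2 : QuotientGroup.mk' N x ∈ Q.map (QuotientGroup.mk' N) := Subgroup.mem_map_of_mem _ hx
    have h3 : QuotientGroup.mk' N x * QuotientGroup.mk' N k
        = QuotientGroup.mk' N k * QuotientGroup.mk' N x :=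
      Subgroup.mem_centralizer_iff.mp hkbar _ h2
    have h4 : Commute (QuotientGroup.mk' N x) (QuotientGroup.mk' N k ^ j) :=
      (show Commute (QuotientGroup.mk' N x) (QuotientGroup.mk' N k) from h3).zpow_right j
    have h5 : QuotientGroup.mk' N ⁅x, k ^ j⁆ = 1 := by
      rw [map_commutatorElement, commutatorElement_eq_one_iff_mul_comm, map_zpow]
      exact h4
    exact (QuotientGroup.eq_one_iff _).mp h5
  by_cases hqp : q = p
  · -- coprime action
    subst hqp
    have hkN' := hkN rfl
    have hAH : Subgroup.zpowers k ≤ H := (Subgroup.zpowers_le).mpr hk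
    have hcop : (Nat.card (Subgroup.zpowers k)).Coprime (Nat.card Q) := by
      rw [hm]
      exact (Nat.Coprime.of_dvd_left (Subgroup.card_dvd_of_le hAH) hH).pow_right m
    have hsolv : Group.IsSolvable Q := by
      haveI := hQ.isNilpotent
      infer_instance
    have hAQ : Subgroup.zpowers k ≤ Subgroup.normalizer (Q : Set G) := by
      rw [Subgroup.normalizer_eq_top]; exact le_top
    have hstab := Cfsg.Agent.Lib.Helper13.coprime_commutator_stable (Subgroup.zpowers k) Q hAQ hcop
      (Or.inr hsolv)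
    have h1 : ⁅Q, Subgroup.zpowers k⁆ ≤ N := by
      rw [Subgroup.commutator_le]
      intro x hx a ha
      obtain ⟨j, rfl⟩ := Subgroup.mem_zpowers_iff.mp ha
      exact hcommN x hx j
    have h2 : ⁅N, Subgroup.zpowers k⁆ = ⊥ := by
      rw [Subgroup.commutator_eq_bot_iff_le_centralizer]
      intro n hn
      rw [Subgroup.mem_centralizer_iff]
      intro a ha
      obtain ⟨j, rfl⟩ := Subgroup.mem_zpowers_iff.mp ha
      have : Commute n k := (Subgroup.mem_centralizer_iff.mp hkN' n hn)
      exact (this.zpow_right j).symm.eq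
    have h3 : ⁅Q, Subgroup.zpowers k⁆ = ⊥ := by
      rw [← hstab, eq_bot_iff, ← h2]
      exact Subgroup.commutator_mono h1 le_rfl
    rw [Subgroup.commutator_eq_bot_iff_le_centralizer] at h3
    rw [Subgroup.mem_centralizer_iff]
    intro x hx
    have := Subgroup.mem_centralizer_iff.mp (h3 hx) k (Subgroup.mem_zpowers k)
    exact this.symm
  · -- N ⊓ Q = ⊥
    have hNQ : N ⊓ Q = ⊥ := by
      apply Subgroup.inf_eq_bot_of_coprime
      rw [hN, hm]
      exact ((Nat.coprime_primes hp hq).mpr (Ne.symm hqp)).pow_right m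
    rw [Subgroup.mem_centralizer_iff]
    intro x hx
    have h1 : ⁅x, k⁆ ∈ N := by simpa using hcommN x hx 1
    have h2 : ⁅x, k⁆ ∈ Q := by
      rw [commutatorElement_def]
      have : x * k * x⁻¹ * k⁻¹ = x * (k * x⁻¹ * k⁻¹) := by group
      rw [this]
      exact Q.mul_mem hx (hQn.conj_mem _ (Q.inv_mem hx) k)
    have h3 : ⁅x, k⁆ ∈ N ⊓ Q := ⟨h1, h2⟩
    rw [hNQ, Subgroup.mem_bot, commutatorElement_eq_one_iff_mul_comm] at h3
    exact h3

/-- L2: lifting `CentProp` through a normal subgroup of prime order -/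
theorem centProp_lift {G : Type u} [Group G] [Finite G] (N : Subgroup G) [hNn : N.Normal]
    (p : ℕ) (hp : p.Prime) (hN : Nat.card N = p) (hQ : CentProp (G ⧸ N)) : CentProp G := by
  intro q hq Q hQn hQp H hH
  have hsurj := QuotientGroup.mk'_surjective N
  have hbar := hQ q hq (Q.map (QuotientGroup.mk' N)) (Subgroup.Normal.map hQn _ hsurj)
    (hQp.map _) (H.map (QuotientGroup.mk' N))
    (Nat.Coprime.of_dvd_left (Subgroup.card_map_dvd H _) hH)
  constructor
  · intro h hh
    apply mem_centralizer_lift N p hp hN q hq Q hQn hQp H hH _ (H.pow_mem hh _)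
    · rw [map_pow]
      exact hbar.1 _ (Subgroup.mem_map_of_mem _ hh)
    · intro hqp
      rw [hqp]
      exact (cent_of_cyclic_prime N p hp hN h h).1
  · intro h hh h' hh'
    have hmem : ⁅h, h'⁆ ∈ H := by
      rw [commutatorElement_def]
      exact H.mul_mem (H.mul_mem (H.mul_mem hh hh') (H.inv_mem hh)) (H.inv_mem hh')
    apply mem_centralizer_lift N p hp hN q hq Q hQn hQp H hH _ hmem
    · rw [map_commutatorElement]
      exact hbar.2 _ (Subgroup.mem_map_of_mem _ hh) _ (Subgroup.mem_map_of_mem _ hh')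
    · intro _
      exact (cent_of_cyclic_prime N p hp hN h h').2


/-- L3 (case A): a minimal normal abelian subgroup not contained in some maximal subgroup of prime
index has prime order -/
theorem caseA {G : Type u} [Group G] [Finite G] (N M : Subgroup G) [hNn : N.Normal]
    (hNcomm : ∀ a ∈ N, ∀ b ∈ N, a * b = b * a)
    (hmin : ∀ X : Subgroup G, X.Normal → X ≠ ⊥ → X ≤ N → X = N)
    (hM : IsCoatom M) (hNM : ¬ N ≤ M) (hMi : M.index.Prime) : (Nat.card N).Prime := by
  have hsup : N ⊔ M = ⊤ := by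
    apply hM.2
    apply lt_of_le_of_ne le_sup_right
    intro h
    apply hNM
    rw [h]
    exact le_sup_left
  have hDn : (N ⊓ M).Normal := by
    constructor
    intro d hd g
    have hg : g ∈ N ⊔ M := by rw [hsup]; trivial
    obtain ⟨n, hn, m, hm, rfl⟩ := Subgroup.mem_sup_of_normal_left.mp hg
    have h1 : m * d * m⁻¹ ∈ N ⊓ M :=
      ⟨hNn.conj_mem d hd.1 m, M.mul_mem (M.mul_mem hm hd.2) (M.inv_mem hm)⟩
    have h2 : n * (m * d * m⁻¹) * n⁻¹ = m * d * m⁻¹ := by
      rw [hNcomm n hn _ h1.1]; group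
    have h3 : n * m * d * (n * m)⁻¹ = n * (m * d * m⁻¹) * n⁻¹ := by group
    rw [h3, h2]
    exact h1
  have hD : N ⊓ M = ⊥ := by
    by_contra hne
    have := hmin _ hDn hne inf_le_left
    apply hNM
    rw [← this]
    exact inf_le_right
  have hcompl : N.IsComplement' M := by
    apply Subgroup.isComplement'_of_disjoint_and_mul_eq_univ
    · rw [disjoint_iff]; exact hD
    · rw [← Subgroup.normal_mul, hsup]; rfl
  rw [← hcompl.index_eq_card]
  exact hMi


/-- L4 (case B) -/
theorem caseB {G : Type u} [Group G] [Finite G] (p : ℕ) [hp : Fact p.Prime] (P H N : Subgroup G)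
    [hPn : P.Normal] [hNn : N.Normal]
    (hP : IsPGroup p P) (hPH : P.IsComplement' H) (hHp : (Nat.card H).Coprime p)
    (hN1 : N ≠ ⊥) (hNZ : N ≤ P ⊓ Subgroup.centralizer (P : Set G))
    (hmin : ∀ X : Subgroup G, X.Normal → X ≠ ⊥ → X ≤ N → X = N)
    (hΦ : ∀ M : Subgroup G, IsCoatom M → N ≤ M)
    (hpow : ∀ h ∈ H, (QuotientGroup.mk' N (h ^ (p - 1))) ∈
      Subgroup.centralizer ((P.map (QuotientGroup.mk' N) : Subgroup (G ⧸ N)) : Set (G ⧸ N)))
    (hcomm : ∀ h ∈ H, ∀ h' ∈ H, (QuotientGroup.mk' N ⁅h, h'⁆) ∈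
      Subgroup.centralizer ((P.map (QuotientGroup.mk' N) : Subgroup (G ⧸ N)) : Set (G ⧸ N))) :
    IsCyclic N ∧ Nat.card N = p := by
  classical
  have hsurj := QuotientGroup.mk'_surjective N
  haveI hPbar : (P.map (QuotientGroup.mk' N)).Normal := Subgroup.Normal.map hPn _ hsurj
  obtain ⟨K₀, hK₀def⟩ : ∃ K₀ : Subgroup G, K₀ = (Subgroup.centralizer
      ((P.map (QuotientGroup.mk' N) : Subgroup (G ⧸ N)) : Set (G ⧸ N))).comap (QuotientGroup.mk' N) :=
    ⟨_, rfl⟩
  have hK₀n : K₀.Normal := by
    rw [hK₀def]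
    exact Subgroup.Normal.comap inferInstance _
  have hK₀mem : ∀ g : G, g ∈ K₀ ↔ QuotientGroup.mk' N g ∈ Subgroup.centralizer
      ((P.map (QuotientGroup.mk' N) : Subgroup (G ⧸ N)) : Set (G ⧸ N)) := by
    intro g; rw [hK₀def, Subgroup.mem_comap]
  obtain ⟨K, hKdef⟩ : ∃ K : Subgroup G, K = H ⊓ K₀ := ⟨_, rfl⟩
  have hKH : K ≤ H := by rw [hKdef]; exact inf_le_left
  have hPK : ⁅P, K⁆ ≤ N := by
    rw [Subgroup.commutator_le]
    intro x hx k hk
    rw [hKdef] at hk
    have h1 := (hK₀mem k).mp hk.2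
    have h2 : QuotientGroup.mk' N x ∈ P.map (QuotientGroup.mk' N) := Subgroup.mem_map_of_mem _ hx
    have h3 := Subgroup.mem_centralizer_iff.mp h1 _ h2
    have h5 : QuotientGroup.mk' N ⁅x, k⁆ = 1 := by
      rw [map_commutatorElement, commutatorElement_eq_one_iff_mul_comm]
      exact h3
    exact (QuotientGroup.eq_one_iff _).mp h5
  obtain ⟨m, hm⟩ := (IsPGroup.iff_card).mp hP
  have hcopKP : (Nat.card K).Coprime (Nat.card P) := by
    rw [hm]
    exact (Nat.Coprime.of_dvd_left (Subgroup.card_dvd_of_le hKH) hHp).pow_right m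
  have hsolvP : Group.IsSolvable P := by
    haveI := hP.isNilpotent
    infer_instance
  have hdecomp := Cfsg.Agent.Lib.Helper13.coprime_commutator_sup_centralizer K P
    (by rw [Subgroup.normalizer_eq_top]; exact le_top) hcopKP (Or.inr hsolvP)
  have hPH_sup : P ⊔ H = ⊤ := hPH.sup_eq_top
  have hPH_inf : P ⊓ H = ⊥ := hPH.disjoint.eq_bot
  have hCH : (P ⊓ Subgroup.centralizer (K : Set G)) ⊔ H = ⊤ := by
    by_contra hne
    obtain ⟨M, hM, hle⟩ := (eq_top_or_exists_le_coatom _).resolve_left hne
    have hNM := hΦ M hM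
    have hPM : P ≤ M := by
      rw [← hdecomp]
      exact sup_le (hPK.trans hNM) (le_sup_left.trans hle)
    have : (⊤ : Subgroup G) ≤ M := by
      rw [← hPH_sup]; exact sup_le hPM (le_sup_right.trans hle)
    exact hM.1 (top_le_iff.mp this)
  -- K is normal in G
  have hHK : H ≤ Subgroup.normalizer (K : Set G) := by
    apply le_normalizer_of_conj_mem
    intro h hh k hk
    rw [hKdef] at hk ⊢
    exact ⟨H.mul_mem (H.mul_mem hh hk.1) (H.inv_mem hh), hK₀n.conj_mem k hk.2 h⟩
  have hCK : (P ⊓ Subgroup.centralizer (K : Set G)) ≤ Subgroup.normalizer (K : Set G) := by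
    apply le_normalizer_of_conj_mem
    intro c hc k hk
    have : k * c = c * k := Subgroup.mem_centralizer_iff.mp hc.2 k hk
    have e : c * k * c⁻¹ = k := by rw [← this]; group
    rw [e]; exact hk
  have hKn : K.Normal := by
    rw [← Subgroup.normalizer_eq_top_iff, eq_top_iff, ← hCH]
    exact sup_le hCK hHK
  have hPKbot : P ⊓ K = ⊥ := Subgroup.inf_eq_bot_of_coprime hcopKP.symm
  -- K centralizes P
  have hcent : ∀ x ∈ P, ∀ k ∈ K, k * x = x * k := by
    intro x hx k hk
    have h1 : ⁅x, k⁆ ∈ P := by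
      rw [commutatorElement_def]
      have : x * k * x⁻¹ * k⁻¹ = x * (k * x⁻¹ * k⁻¹) := by group
      rw [this]
      exact P.mul_mem hx (hPn.conj_mem _ (P.inv_mem hx) k)
    have h2 : ⁅x, k⁆ ∈ K := by
      rw [commutatorElement_def]
      exact K.mul_mem (hKn.conj_mem k hk x) (K.inv_mem hk)
    have h3 : ⁅x, k⁆ ∈ P ⊓ K := ⟨h1, h2⟩
    rw [hPKbot, Subgroup.mem_bot, commutatorElement_eq_one_iff_mul_comm] at h3
    exact h3.symm
  have hpowK : ∀ h ∈ H, h ^ (p - 1) ∈ K := by
    intro h hh
    rw [hKdef]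
    exact ⟨H.pow_mem hh _, (hK₀mem _).mpr (hpow h hh)⟩
  have hcommK : ∀ h ∈ H, ∀ h' ∈ H, ⁅h, h'⁆ ∈ K := by
    intro h hh h' hh'
    rw [hKdef]
    refine ⟨?_, (hK₀mem _).mpr (hcomm h hh h' hh')⟩
    rw [commutatorElement_def]
    exact H.mul_mem (H.mul_mem (H.mul_mem hh hh') (H.inv_mem hh)) (H.inv_mem hh')
  -- N is central in P
  have hNP : N ≤ P := hNZ.trans inf_le_left
  have hNcent : ∀ x ∈ P, ∀ n ∈ N, x * n = n * x := by
    intro x hx n hn
    exact Subgroup.mem_centralizer_iff.mp (hNZ hn).2 x hx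
  have hNcomm : ∀ a ∈ N, ∀ b ∈ N, Commute a b := fun a ha b hb => hNcent a (hNP ha) b hb
  have hPconj : ∀ x ∈ P, ∀ n ∈ N, x * n * x⁻¹ = n := by
    intro x hx n hn
    rw [hNcent x hx n hn]; group
  have hKconj : ∀ k ∈ K, ∀ n ∈ N, k * n * k⁻¹ = n := by
    intro k hk n hn
    rw [hcent n (hNP hn) k hk]; group
  -- N has exponent p
  have hexp : ∀ n ∈ N, n ^ p = 1 := by
    let Ω : Subgroup G :=
      { carrier := {n | n ∈ N ∧ n ^ p = 1}
        one_mem' := ⟨N.one_mem, one_pow _⟩
        mul_mem' := fun {a b} ha hb => ⟨N.mul_mem ha.1 hb.1, by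
          rw [(hNcomm a ha.1 b hb.1).mul_pow, ha.2, hb.2, one_mul]⟩
        inv_mem' := fun {a} ha => ⟨N.inv_mem ha.1, by rw [inv_pow, ha.2, inv_one]⟩ }
    have hΩn : Ω.Normal := by
      constructor
      intro n hn g
      exact ⟨hNn.conj_mem n hn.1 g, by rw [conj_pow, hn.2, mul_one, mul_inv_cancel]⟩
    have hΩN : Ω ≤ N := fun n hn => hn.1
    have hΩ1 : Ω ≠ ⊥ := by
      have hNp : IsPGroup p N := hP.to_le hNP
      obtain ⟨j, hj⟩ := (IsPGroup.iff_card).mp hNp
      have hj0 : j ≠ 0 := by
        rintro rfl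
        rw [pow_zero] at hj
        exact hN1 ((Subgroup.card_eq_one).mp hj)
      have hdvd : p ∣ Nat.card N := by rw [hj]; exact dvd_pow_self p hj0
      obtain ⟨x, hx⟩ := exists_prime_orderOf_dvd_card' p hdvd
      intro hbot
      have hxΩ : (x : G) ∈ Ω := by
        refine ⟨x.2, ?_⟩
        have := pow_orderOf_eq_one x
        rw [hx] at this
        have h2 := congrArg Subtype.val this
        simpa using h2
      rw [hbot, Subgroup.mem_bot] at hxΩ
      have hx1 : x = 1 := Subtype.ext hxΩ
      rw [hx1, orderOf_one] at hx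
      exact hp.out.one_lt.ne hx
    have hΩeq := hmin Ω hΩn hΩ1 hΩN
    intro n hn
    rw [← hΩeq] at hn
    exact hn.2
  -- every element of H acts on N as a power map
  have hpowmap : ∀ h ∈ H, ∃ a : ℕ, ∀ n ∈ N, h * n * h⁻¹ = n ^ a := by
    intro h hh
    letI : CommGroup N :=
      { (inferInstance : Group N) with
        mul_comm := fun a b => Subtype.ext (hNcomm a a.2 b b.2).eq }
    haveI : Nontrivial N := (Subgroup.nontrivial_iff_ne_bot N).mpr hN1
    let φ : N →* N := (MulAut.conjNormal h : MulAut N).toMonoidHom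
    have hφapp : ∀ x : N, ((φ x : N) : G) = h * x * h⁻¹ := fun x => MulAut.conjNormal_apply h x
    have hiter : ∀ (k : ℕ) (x : N), ((φ^[k] x : N) : G) = h ^ k * x * (h ^ k)⁻¹ := by
      intro k
      induction k with
      | zero => intro x; simp
      | succ k ih =>
        intro x
        rw [Function.iterate_succ_apply', hφapp, ih, pow_succ']
        group
    have hφ : ∀ x : N, φ^[p] x = φ x := by
      intro x
      apply Subtype.ext
      rw [hiter, hφapp]
      have hp1 : p = (p - 1) + 1 := (Nat.sub_add_cancel hp.out.one_le).symm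
      have e1 : h ^ p = h * h ^ (p - 1) := by
        conv_lhs => rw [hp1, pow_succ']
      rw [e1]
      have := hKconj _ (hpowK h hh) x x.2
      calc h * h ^ (p - 1) * ↑x * (h * h ^ (p - 1))⁻¹
          = h * (h ^ (p - 1) * ↑x * (h ^ (p - 1))⁻¹) * h⁻¹ := by group
        _ = h * ↑x * h⁻¹ := by rw [this]
    obtain ⟨x, hx1, a, hxa⟩ := exists_eigen p (fun x : N => Subtype.ext (by simpa using hexp x x.2)) φ hφ
    refine ⟨a, ?_⟩
    let E : Subgroup G :=
      { carrier := {n | n ∈ N ∧ h * n * h⁻¹ = n ^ a}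
        one_mem' := ⟨N.one_mem, by simp⟩
        mul_mem' := fun {u v} hu hv => ⟨N.mul_mem hu.1 hv.1, by
          rw [(hNcomm u hu.1 v hv.1).mul_pow, ← hu.2, ← hv.2]; group⟩
        inv_mem' := fun {u} hu => ⟨N.inv_mem hu.1, by
          rw [inv_pow, ← hu.2]; group⟩ }
    have hEN : E ≤ N := fun n hn => hn.1
    have hE1 : E ≠ ⊥ := by
      intro hbot
      have hxE : (x : G) ∈ E := by
        refine ⟨x.2, ?_⟩
        have := congrArg Subtype.val hxa
        rw [hφapp] at this
        simpa using this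
      rw [hbot, Subgroup.mem_bot] at hxE
      exact hx1 (Subtype.ext hxE)
    have hEP : P ≤ Subgroup.normalizer (E : Set G) := by
      apply le_normalizer_of_conj_mem
      intro y hy n hn
      rw [hPconj y hy n hn.1]
      exact hn
    have hEH : H ≤ Subgroup.normalizer (E : Set G) := by
      apply le_normalizer_of_conj_mem
      intro g hg n hn
      refine ⟨hNn.conj_mem n hn.1 g, ?_⟩
      have hc : ⁅h⁻¹, g⁻¹⁆ ∈ K := hcommK _ (H.inv_mem hh) _ (H.inv_mem hg)
      have hcn := hKconj _ hc n hn.1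
      rw [conj_pow, ← hn.2]
      calc h * (g * n * g⁻¹) * h⁻¹
          = g * h * (⁅h⁻¹, g⁻¹⁆ * n * ⁅h⁻¹, g⁻¹⁆⁻¹) * h⁻¹ * g⁻¹ := by
            rw [commutatorElement_def]; group
        _ = g * (h * n * h⁻¹) * g⁻¹ := by rw [hcn]; group
    have hEn : E.Normal := by
      rw [← Subgroup.normalizer_eq_top_iff, eq_top_iff, ← hPH_sup]
      exact sup_le hEP hEH
    have hEeq := hmin E hEn hE1 hEN
    intro n hn
    rw [← hEeq] at hn
    exact hn.2
  -- N is cyclic
  obtain ⟨n₀, hn₀, hn₀1⟩ : ∃ n₀ ∈ N, n₀ ≠ 1 := by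
    by_contra hcon
    push Not at hcon
    exact hN1 ((Subgroup.eq_bot_iff_forall N).mpr hcon)
  have hZN : Subgroup.zpowers n₀ ≤ N := (Subgroup.zpowers_le).mpr hn₀
  have hZ1 : Subgroup.zpowers n₀ ≠ ⊥ := by
    intro hbot
    have : n₀ ∈ Subgroup.zpowers n₀ := Subgroup.mem_zpowers n₀
    rw [hbot, Subgroup.mem_bot] at this
    exact hn₀1 this
  have hZP : P ≤ Subgroup.normalizer (Subgroup.zpowers n₀ : Set G) := by
    apply le_normalizer_of_conj_mem
    intro y hy n hn
    rw [hPconj y hy n (hZN hn)]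
    exact hn
  have hZH : H ≤ Subgroup.normalizer (Subgroup.zpowers n₀ : Set G) := by
    apply le_normalizer_of_conj_mem
    intro g hg n hn
    obtain ⟨a, ha⟩ := hpowmap g hg
    rw [ha n (hZN hn)]
    exact Subgroup.pow_mem _ hn a
  have hZn : (Subgroup.zpowers n₀).Normal := by
    rw [← Subgroup.normalizer_eq_top_iff, eq_top_iff, ← hPH_sup]
    exact sup_le hZP hZH
  have hZeq := hmin _ hZn hZ1 hZN
  constructor
  · rw [← hZeq]
    infer_instance
  · rw [← hZeq, Nat.card_zpowers]
    exact orderOf_eq_prime (hexp n₀ hn₀) hn₀1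


/-- the Sylow subgroup for the largest prime is normal when all maximal subgroups have prime index -/
theorem sylow_normal_of_largest {G : Type u} [Group G] [Finite G]
    (h : ∀ M : Subgroup G, IsCoatom M → M.index.Prime) (p : ℕ) [hpf : Fact p.Prime]
    (hmax : ∀ q : ℕ, q.Prime → q ∣ Nat.card G → q ≤ p) (P : Sylow p G) :
    (P : Subgroup G).Normal := by
  have hp := hpf.out
  rw [← Subgroup.normalizer_eq_top_iff]
  by_contra hN
  obtain ⟨M, hM, hNM⟩ := (eq_top_or_exists_le_coatom (Subgroup.normalizer ((P : Subgroup G) : Set G))).resolve_left hN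
  have hq := h M hM
  have hPM : (P : Subgroup G) ≤ M := Subgroup.le_normalizer.trans hNM
  have c1 : Nat.card (Sylow p G) = (Subgroup.normalizer ((P : Subgroup G) : Set G)).index :=
    P.card_eq_index_normalizer
  have c2 : Nat.card (Sylow p M) = (Subgroup.normalizer (((P.subtype hPM : Sylow p M) : Subgroup M) : Set M)).index :=
    (P.subtype hPM).card_eq_index_normalizer
  have c3 : (Subgroup.normalizer (((P.subtype hPM : Sylow p M) : Subgroup M) : Set M)).index
      = (Subgroup.normalizer ((P : Subgroup G) : Set G)).relIndex M := by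
    rw [Sylow.coe_subtype, ← Subgroup.subgroupOf_normalizer_eq hPM]
    rfl
  have c4 : (Subgroup.normalizer ((P : Subgroup G) : Set G)).relIndex M * M.index
      = (Subgroup.normalizer ((P : Subgroup G) : Set G)).index := Subgroup.relIndex_mul_index hNM
  have m1 : Nat.card (Sylow p G) ≡ 1 [MOD p] := card_sylow_modEq_one p G
  have m2 : Nat.card (Sylow p M) ≡ 1 [MOD p] := card_sylow_modEq_one p M
  have m3 : M.index ≡ 1 [MOD p] := by
    have : Nat.card (Sylow p M) * M.index ≡ 1 [MOD p] := by
      rw [c2, c3, c4, ← c1]; exact m1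
    calc M.index = 1 * M.index := (one_mul _).symm
      _ ≡ Nat.card (Sylow p M) * M.index [MOD p] := (Nat.ModEq.mul_right _ m2).symm
      _ ≡ 1 [MOD p] := this
  have hqd : M.index ∣ Nat.card G := Subgroup.index_dvd_card M
  have hqp : M.index ≤ p := hmax _ hq hqd
  have h2 : 2 ≤ M.index := hq.two_le
  have h3 : M.index % p = 1 % p := m3
  rcases Nat.lt_or_ge M.index p with hlt | hge
  · rw [Nat.mod_eq_of_lt hlt, Nat.mod_eq_of_lt hp.one_lt] at h3
    omega
  · have : M.index = p := le_antisymm hqp hge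
    rw [this, Nat.mod_self, Nat.mod_eq_of_lt hp.one_lt] at h3
    omega

theorem aux : ∀ (n : ℕ) (G : Type u) [Group G] [Finite G], Nat.card G = n →
    (∀ M : Subgroup G, IsCoatom M → M.index.Prime) → Cfsg.IsSupersolvable G ∧ CentProp G := by
  intro n
  induction n using Nat.strong_induction_on with
  | _ n ih =>
    intro G _ _ hn h
    classical
    by_cases h1 : Nat.card G = 1
    · haveI : Subsingleton G := (Nat.card_eq_one_iff_unique.mp h1).1
      constructor
      · refine ⟨0, fun _ => ⊥, rfl, Subsingleton.elim _ _, fun _ => inferInstance, fun i => i.elim0⟩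
      · intro q _ Q _ _ H _
        constructor
        · intro x _
          rw [Subgroup.mem_centralizer_iff]
          intro y _
          exact Subsingleton.elim _ _
        · intro x _ x' _
          rw [Subgroup.mem_centralizer_iff]
          intro y _
          exact Subsingleton.elim _ _
    -- the largest prime divisor of |G|
    have hne : (Nat.card G).primeFactors.Nonempty := by
      rw [Nat.nonempty_primeFactors]
      have := Nat.card_pos (α := G)
      omega
    obtain ⟨p, hpmem, hpmax⟩ := Finset.exists_max_image (Nat.card G).primeFactors id hne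
    have hp : p.Prime := Nat.prime_of_mem_primeFactors hpmem
    have hpd : p ∣ Nat.card G := Nat.dvd_of_mem_primeFactors hpmem
    haveI := Fact.mk hp
    have hmax : ∀ q : ℕ, q.Prime → q ∣ Nat.card G → q ≤ p := by
      intro q hq hqd
      exact hpmax q (Nat.mem_primeFactors.mpr ⟨hq, hqd, Nat.card_pos.ne'⟩)
    obtain ⟨P⟩ : Nonempty (Sylow p G) := Sylow.nonempty
    haveI hPn : (P : Subgroup G).Normal := sylow_normal_of_largest h p hmax P
    have hPp : IsPGroup p (P : Subgroup G) := P.2
    have hP1 : (P : Subgroup G) ≠ ⊥ := by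
      intro hbot
      have hdiv : p ∣ Nat.card (P : Subgroup G) := by
        have := P.card_eq_multiplicity
        rw [this]
        apply dvd_pow_self
        intro h0
        have := (Nat.factorization_eq_zero_iff (Nat.card G) p).mp h0
        rcases this with h | h | h
        · exact h hp
        · exact h hpd
        · exact Nat.card_pos.ne' h
      rw [hbot, Subgroup.card_bot] at hdiv
      exact hp.one_lt.ne' (Nat.dvd_one.mp hdiv)
    -- the centre of P as a subgroup of G
    have hZPn : ((P : Subgroup G) ⊓ Subgroup.centralizer ((P : Subgroup G) : Set G)).Normal :=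
      inferInstance
    have hZP1 : ((P : Subgroup G) ⊓ Subgroup.centralizer ((P : Subgroup G) : Set G)) ≠ ⊥ := by
      haveI : Nontrivial (P : Subgroup G) := (Subgroup.nontrivial_iff_ne_bot _).mpr hP1
      haveI : Nontrivial (Subgroup.center (P : Subgroup G)) := hPp.center_nontrivial
      obtain ⟨z, hz⟩ := exists_ne (1 : Subgroup.center (P : Subgroup G))
      intro hbot
      have hzmem : ((z : (P : Subgroup G)) : G) ∈
          (P : Subgroup G) ⊓ Subgroup.centralizer ((P : Subgroup G) : Set G) := by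
        refine Subgroup.mem_inf.mpr ⟨(z : (P : Subgroup G)).2, ?_⟩
        rw [Subgroup.mem_centralizer_iff]
        intro x hx
        have := Subgroup.mem_center_iff.mp z.2 ⟨x, hx⟩
        exact congrArg Subtype.val this
      rw [hbot, Subgroup.mem_bot] at hzmem
      apply hz
      apply Subtype.ext
      apply Subtype.ext
      exact hzmem
    -- a minimal normal subgroup inside
    obtain ⟨N, hNmin⟩ := (Set.toFinite {X : Subgroup G | X.Normal ∧ X ≠ ⊥ ∧
        X ≤ (P : Subgroup G) ⊓ Subgroup.centralizer ((P : Subgroup G) : Set G)}).exists_minimal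
        ⟨_, hZPn, hZP1, le_rfl⟩
    haveI hNn : N.Normal := hNmin.prop.1
    have hN1 : N ≠ ⊥ := hNmin.prop.2.1
    have hNZ := hNmin.prop.2.2
    have hmin : ∀ X : Subgroup G, X.Normal → X ≠ ⊥ → X ≤ N → X = N := by
      intro X hXn hX1 hXN
      exact le_antisymm hXN (hNmin.le_of_le ⟨hXn, hX1, hXN.trans hNZ⟩ hXN)
    have hNP : N ≤ (P : Subgroup G) := hNZ.trans inf_le_left
    have hNcomm : ∀ a ∈ N, ∀ b ∈ N, a * b = b * a := by
      intro a ha b hb
      exact Subgroup.mem_centralizer_iff.mp (hNZ hb).2 a (hNP ha)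
    -- the quotient
    have hcardN : 1 < Nat.card N := by
      rcases Nat.lt_or_ge 1 (Nat.card N) with h | h
      · exact h
      · exfalso
        have hpos : 0 < Nat.card N := Nat.card_pos
        have : Nat.card N = 1 := by omega
        exact hN1 ((Subgroup.card_eq_one).mp this)
    have hcardQ : Nat.card (G ⧸ N) < n := by
      have := Subgroup.card_eq_card_quotient_mul_card_subgroup N
      rw [hn] at this
      have hpos : 0 < Nat.card (G ⧸ N) := Nat.card_pos
      nlinarith
    have hsurj : Function.Surjective (QuotientGroup.mk' N) := QuotientGroup.mk'_surjective _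
    obtain ⟨hSSQ, hCPQ⟩ := ih _ hcardQ (G ⧸ N) rfl (by
      intro M' hM'
      have := h _ (Subgroup.isCoatom_comap_of_surjective hsurj hM')
      rwa [Subgroup.index_comap_of_surjective M' hsurj] at this)
    -- N is cyclic of prime order
    have hgoal : IsCyclic N ∧ (Nat.card N).Prime := by
      by_cases hΦ : ∀ M : Subgroup G, IsCoatom M → N ≤ M
      · -- case B
        obtain ⟨H, hPH⟩ := Subgroup.exists_right_complement'_of_coprime (N := (P : Subgroup G))
          P.card_coprime_index
        have hHcard : Nat.card H = (P : Subgroup G).index := (hPH.symm.index_eq_card).symm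
        have hHp : (Nat.card H).Coprime p := by
          rw [hHcard]
          exact ((Nat.Prime.coprime_iff_not_dvd hp).mpr P.not_dvd_index).symm
        have hbar := hCPQ p hp ((P : Subgroup G).map (QuotientGroup.mk' N))
          (Subgroup.Normal.map hPn _ hsurj) (hPp.map _) (H.map (QuotientGroup.mk' N))
          (Nat.Coprime.of_dvd_left (Subgroup.card_map_dvd H _) hHp)
        have := caseB p (P : Subgroup G) H N hPp hPH hHp hN1 hNZ hmin hΦ
          (by
            intro x hx
            rw [map_pow]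
            exact hbar.1 _ (Subgroup.mem_map_of_mem _ hx))
          (by
            intro x hx x' hx'
            rw [map_commutatorElement]
            exact hbar.2 _ (Subgroup.mem_map_of_mem _ hx) _ (Subgroup.mem_map_of_mem _ hx'))
        exact ⟨this.1, by rw [this.2]; exact hp⟩
      · -- case A
        push Not at hΦ
        obtain ⟨M, hM, hNM⟩ := hΦ
        have hprime := caseA N M hNcomm hmin hM hNM (h M hM)
        haveI := Fact.mk hprime
        exact ⟨isCyclic_of_prime_card rfl, hprime⟩
    obtain ⟨hcyc, hprime⟩ := hgoal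
    haveI := hcyc
    exact ⟨Cfsg.Agent.Lib.Helper17.isSupersolvable_of_cyclic_normal_of_quotient N hSSQ,
      centProp_lift N _ hprime rfl hCPQ⟩

/-- Huppert's supersolvability criterion: if every maximal subgroup of a finite group has prime index, then the group is supersolvable. -/
theorem result {G : Type*} [Group G] [Finite G] (h : ∀ M : Subgroup G, IsCoatom M → M.index.Prime) : Cfsg.IsSupersolvable G := by
  exact (aux (Nat.card G) G rfl h).1

end Cfsg.Agent.S0579
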