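import Cfsg.Statements.S0580
import Mathlib

set_option autoImplicit false
open Cfsg

namespace Cfsg.Agent.S0580

universe u

theorem aux : ∀ (n : ℕ) (G : Type u) [Group G] [Finite G], Nat.card G = n →
    (∀ M : Subgroup G, IsCoatom M → M.index.Prime) → Group.IsSolvable G := by
  intro n
  induction n using Nat.strong_induction_on with
  | _ n ih =>
    intro G _ _ hn h
    classical
    by_cases h1 : Nat.card G = 1
    · haveI : Subsingleton G := (Nat.card_eq_one_iff_unique.mp h1).1
      infer_instance
    -- the largest prime divisor of |G|
    have hne : (Nat.card G).primeFactors.Nonempty := by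
      rw [Nat.nonempty_primeFactors]
      have := Nat.card_pos (α := G)
      omega
    obtain ⟨p, hpmem, hpmax⟩ := Finset.exists_max_image (Nat.card G).primeFactors id hne
    have hp : p.Prime := Nat.prime_of_mem_primeFactors hpmem
    have hpd : p ∣ Nat.card G := Nat.dvd_of_mem_primeFactors hpmem
    haveI := Fact.mk hp
    have hmax : ∀ q : ℕ, q.Prime → q ∣ Nat.card G → q ≤ p := by
      intro q hq hqd
      exact hpmax q (Nat.mem_primeFactors.mpr ⟨hq, hqd, Nat.card_pos.ne'⟩)
    obtain ⟨P⟩ : Nonempty (Sylow p G) := Sylow.nonempty
    -- P is normal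
    have hPn : (P : Subgroup G).Normal := by
      rw [← Subgroup.normalizer_eq_top_iff]
      by_contra hN
      obtain ⟨M, hM, hNM⟩ := (eq_top_or_exists_le_coatom (Subgroup.normalizer ((P : Subgroup G) : Set G))).resolve_left hN
      have hq := h M hM
      have hPM : (P : Subgroup G) ≤ M := Subgroup.le_normalizer.trans hNM
      -- Sylow counts
      have c1 : Nat.card (Sylow p G) = (Subgroup.normalizer ((P : Subgroup G) : Set G)).index :=
        P.card_eq_index_normalizer
      have c2 : Nat.card (Sylow p M) = (Subgroup.normalizer (((P.subtype hPM : Sylow p M) : Subgroup M) : Set M)).index :=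
        (P.subtype hPM).card_eq_index_normalizer
      have c3 : (Subgroup.normalizer (((P.subtype hPM : Sylow p M) : Subgroup M) : Set M)).index
          = (Subgroup.normalizer ((P : Subgroup G) : Set G)).relIndex M := by
        rw [Sylow.coe_subtype, ← Subgroup.subgroupOf_normalizer_eq hPM]
        rfl
      have c4 : (Subgroup.normalizer ((P : Subgroup G) : Set G)).relIndex M * M.index
          = (Subgroup.normalizer ((P : Subgroup G) : Set G)).index := Subgroup.relIndex_mul_index hNM
      have m1 : Nat.card (Sylow p G) ≡ 1 [MOD p] := card_sylow_modEq_one p G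
      have m2 : Nat.card (Sylow p M) ≡ 1 [MOD p] := card_sylow_modEq_one p M
      have m3 : M.index ≡ 1 [MOD p] := by
        have : Nat.card (Sylow p M) * M.index ≡ 1 [MOD p] := by
          rw [c2, c3, c4, ← c1]; exact m1
        calc M.index = 1 * M.index := (one_mul _).symm
          _ ≡ Nat.card (Sylow p M) * M.index [MOD p] := (Nat.ModEq.mul_right _ m2).symm
          _ ≡ 1 [MOD p] := this
      have hqd : M.index ∣ Nat.card G := Subgroup.index_dvd_card M
      have hqp : M.index ≤ p := hmax _ hq hqd
      -- M.index ≡ 1 mod p, 2 ≤ M.index ≤ p : impossible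
      have h2 : 2 ≤ M.index := hq.two_le
      have h3 : M.index % p = 1 % p := m3
      rcases Nat.lt_or_ge M.index p with hlt | hge
      · rw [Nat.mod_eq_of_lt hlt, Nat.mod_eq_of_lt hp.one_lt] at h3
        omega
      · have : M.index = p := le_antisymm hqp hge
        rw [this, Nat.mod_self, Nat.mod_eq_of_lt hp.one_lt] at h3
        omega
    haveI := hPn
    -- the quotient
    have hcardP : 1 < Nat.card (P : Subgroup G) := by
      have hdiv : p ∣ Nat.card (P : Subgroup G) := by
        have := P.card_eq_multiplicity
        rw [this]
        apply dvd_pow_self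
        intro h0
        have := (Nat.factorization_eq_zero_iff (Nat.card G) p).mp h0
        rcases this with h | h | h
        · exact h hp
        · exact h hpd
        · exact Nat.card_pos.ne' h
      have := Nat.le_of_dvd Nat.card_pos hdiv
      exact lt_of_lt_of_le hp.one_lt this
    have hcardQ : Nat.card (G ⧸ (P : Subgroup G)) < n := by
      have := Subgroup.card_eq_card_quotient_mul_card_subgroup (P : Subgroup G)
      rw [hn] at this
      have hpos : 0 < Nat.card (G ⧸ (P : Subgroup G)) := Nat.card_pos
      nlinarith
    have hsolQ : Group.IsSolvable (G ⧸ (P : Subgroup G)) := by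
      apply ih _ hcardQ (G ⧸ (P : Subgroup G)) rfl
      intro M' hM'
      have hsurj : Function.Surjective (QuotientGroup.mk' (P : Subgroup G)) := QuotientGroup.mk'_surjective _
      have := h _ (Subgroup.isCoatom_comap_of_surjective hsurj hM')
      rwa [Subgroup.index_comap_of_surjective M' hsurj] at this
    haveI : Group.IsSolvable (P : Subgroup G) := by
      haveI : Group.IsNilpotent (P : Subgroup G) := P.2.isNilpotent
      infer_instance
    haveI := hsolQ
    apply Group.isSolvable_of_ker_le_range (P : Subgroup G).subtype (QuotientGroup.mk' (P : Subgroup G))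
    rw [QuotientGroup.ker_mk', Subgroup.range_subtype]

/-- If every maximal subgroup of a finite group has prime index, then the group is solvable. -/
theorem result {G : Type*} [Group G] [Finite G] (h : ∀ M : Subgroup G, IsCoatom M → M.index.Prime) : Group.IsSolvable G := by
  exact aux (Nat.card G) G rfl h

end Cfsg.Agent.S0580
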