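import Cfsg.Statements.S0585
import Mathlib

set_option autoImplicit false
open Cfsg
open scoped Pointwise

namespace Cfsg.Agent.S0585

/-- If the Frattini subgroup of a finite group G is trivial, then every abelian normal subgroup of G has a complement in G. -/
theorem result {G : Type*} [Group G] [Finite G] (hΦ : frattini G = ⊥) (A : Subgroup G) [A.Normal] [IsMulCommutative A] : ∃ H : Subgroup G, Subgroup.IsComplement' A H := by
  classical
  have hcommA : ∀ x ∈ A, ∀ y ∈ A, x * y = y * x := by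
    intro x hx y hy
    have := (isMulCommutative_iff.mp ‹IsMulCommutative A›) (⟨x, hx⟩ : A) ⟨y, hy⟩
    exact congrArg Subtype.val this
  -- choose H minimal with A ⊔ H = ⊤
  have hfin : {H : Subgroup G | A ⊔ H = ⊤}.Finite := Set.toFinite _
  have hne : {H : Subgroup G | A ⊔ H = ⊤}.Nonempty := ⟨⊤, by simp⟩
  obtain ⟨H, hHmin⟩ := hfin.exists_minimal hne
  have hAH : A ⊔ H = ⊤ := hHmin.prop
  have hmin : ∀ K : Subgroup G, A ⊔ K = ⊤ → K ≤ H → H ≤ K := fun K hK hKH => hHmin.le_of_le hK hKH
  -- every element is a * h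
  have hdecomp : ∀ g : G, ∃ a ∈ A, ∃ h ∈ H, a * h = g := by
    intro g
    have : g ∈ A ⊔ H := by rw [hAH]; trivial
    exact Subgroup.mem_sup_of_normal_left.mp this
  -- D = A ⊓ H is normal
  have hDnormal : (A ⊓ H).Normal := by
    constructor
    intro d hd g
    obtain ⟨a, ha, h, hh, rfl⟩ := hdecomp g
    have h1 : h * d * h⁻¹ ∈ A := ‹A.Normal›.conj_mem d hd.1 h
    have h2 : h * d * h⁻¹ ∈ H := H.mul_mem (H.mul_mem hh hd.2) (H.inv_mem hh)
    have h3 : a * h * d * (a * h)⁻¹ = h * d * h⁻¹ := by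
      calc a * h * d * (a * h)⁻¹ = (a * (h * d * h⁻¹)) * a⁻¹ := by group
        _ = ((h * d * h⁻¹) * a) * a⁻¹ := by rw [hcommA a ha _ h1]
        _ = h * d * h⁻¹ := by group
    rw [h3]
    exact ⟨h1, h2⟩
  -- D = ⊥
  have hD : A ⊓ H = ⊥ := by
    by_contra hne
    -- some maximal subgroup does not contain D
    have : ∃ M : Subgroup G, IsCoatom M ∧ ¬ (A ⊓ H ≤ M) := by
      by_contra hcon
      push_neg at hcon
      apply hne
      rw [eq_bot_iff, ← hΦ]
      unfold frattini Order.radical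
      exact le_iInf₂ fun M hM => hcon M hM
    obtain ⟨M, hM, hDM⟩ := this
    have hDMtop : (A ⊓ H) ⊔ M = ⊤ := by
      by_contra hne2
      have hlt : M < (A ⊓ H) ⊔ M := by
        apply lt_of_le_of_ne le_sup_right
        intro heq
        apply hDM
        rw [heq]
        exact le_sup_left
      exact hne2 (hM.2 _ hlt)
    -- A ⊔ (H ⊓ M) = ⊤
    have hnew : A ⊔ (H ⊓ M) = ⊤ := by
      rw [eq_top_iff]
      intro g _
      obtain ⟨a, ha, h, hh, rfl⟩ := hdecomp g
      have hh' : h ∈ (A ⊓ H) ⊔ M := by rw [hDMtop]; trivial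
      haveI := hDnormal
      obtain ⟨d, hd, m, hm, rfl⟩ := Subgroup.mem_sup_of_normal_left.mp hh'
      have hmH : m ∈ H := by
        have : m = d⁻¹ * (d * m) := by group
        rw [this]
        exact H.mul_mem (H.inv_mem hd.2) hh
      have : a * (d * m) = (a * d) * m := by group
      rw [this]
      exact Subgroup.mul_mem_sup (A.mul_mem ha hd.1) ⟨hmH, hm⟩
    have hHM : H ≤ H ⊓ M := hmin _ hnew inf_le_left
    exact hDM (inf_le_right.trans (hHM.trans inf_le_right))
  refine ⟨H, Subgroup.isComplement'_of_disjoint_and_mul_eq_univ (disjoint_iff.mpr hD) ?_⟩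
  rw [← Subgroup.normal_mul, hAH]
  rfl

end Cfsg.Agent.S0585
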