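import Cfsg.Statements.S0586
import Cfsg.Agent.S0585
import Mathlib

set_option autoImplicit false
open Cfsg

namespace Cfsg.Agent.S0586

/-- existence of a minimal normal subgroup below a nontrivial normal subgroup of a finite group -/
theorem exists_minimal_normal_le {G : Type*} [Group G] [Finite G] (D : Subgroup G) (hDn : D.Normal) (hD : D ≠ ⊥) :
    ∃ T : Subgroup G, T.Normal ∧ T ≠ ⊥ ∧ T ≤ D ∧ ∀ K : Subgroup G, K.Normal → K ≤ T → K = ⊥ ∨ K = T := by
  classical
  have hfin : {T : Subgroup G | T.Normal ∧ T ≠ ⊥ ∧ T ≤ D}.Finite := Set.toFinite _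
  have hne : {T : Subgroup G | T.Normal ∧ T ≠ ⊥ ∧ T ≤ D}.Nonempty := ⟨D, hDn, hD, le_rfl⟩
  obtain ⟨T, hT⟩ := hfin.exists_minimal hne
  obtain ⟨hTn, hT1, hTD⟩ := hT.prop
  refine ⟨T, hTn, hT1, hTD, ?_⟩
  intro K hKn hKT
  by_cases hK : K = ⊥
  · exact Or.inl hK
  · right
    exact le_antisymm hKT (hT.le_of_le ⟨hKn, hK, hKT.trans hTD⟩ hKT)

/-- if `Z` has complement `K`, `Z ≤ N` and `N ⊓ K = ⊥` then `N ≤ Z` -/
theorem le_of_complement {G : Type*} [Group G] (Z K N : Subgroup G) (hc : Subgroup.IsComplement' Z K)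
    (hZN : Z ≤ N) (hNK : N ⊓ K = ⊥) : N ≤ Z := by
  intro n hn
  obtain ⟨⟨⟨z, hz⟩, ⟨k, hk⟩⟩, hzk⟩ := hc.2 n
  simp only at hzk
  have hkN : k ∈ N := by
    have : k = z⁻¹ * n := by rw [← hzk]; group
    rw [this]
    exact N.mul_mem (N.inv_mem (hZN hz)) hn
  have hk1 : k ∈ N ⊓ K := ⟨hkN, hk⟩
  rw [hNK, Subgroup.mem_bot] at hk1
  rw [← hzk, hk1, mul_one]
  exact hz

/-- `N ⊓ K` is normal when `K` complements a normal subgroup `Z ≤ N` which centralizes `N`, `N` normal. -/
theorem inf_normal_of_complement {G : Type*} [Group G] (Z K N : Subgroup G) (hN : N.Normal)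
    (hc : Subgroup.IsComplement' Z K) (hZc : Z ≤ Subgroup.centralizer (N : Set G)) : (N ⊓ K).Normal := by
  constructor
  intro d hd g
  obtain ⟨⟨⟨z, hz⟩, ⟨k, hk⟩⟩, hzk⟩ := hc.2 g
  simp only at hzk
  have h1 : k * d * k⁻¹ ∈ N := hN.conj_mem d hd.1 k
  have h2 : k * d * k⁻¹ ∈ K := K.mul_mem (K.mul_mem hk hd.2) (K.inv_mem hk)
  have hcomm : (k * d * k⁻¹) * z = z * (k * d * k⁻¹) := Subgroup.mem_centralizer_iff.mp (hZc hz) _ h1
  have h3 : g * d * g⁻¹ = k * d * k⁻¹ := by
    rw [← hzk]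
    calc z * k * d * (z * k)⁻¹ = (z * (k * d * k⁻¹)) * z⁻¹ := by group
      _ = ((k * d * k⁻¹) * z) * z⁻¹ := by rw [hcomm]
      _ = k * d * k⁻¹ := by group
  rw [h3]
  exact ⟨h1, h2⟩

/-- If the Frattini subgroup of a finite group G is trivial, then the Fitting subgroup of G equals the join of all abelian minimal normal subgroups of G. -/
theorem result {G : Type*} [Group G] [Finite G] (hΦ : frattini G = ⊥) : Cfsg.fittingSubgroup G = sSup {N : Subgroup G | N.Normal ∧ N ≠ ⊥ ∧ IsMulCommutative N ∧ ∀ K : Subgroup G, K.Normal → K ≤ N → K = ⊥ ∨ K = N} := by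
  classical
  apply le_antisymm
  · -- every normal nilpotent subgroup lies in the abelian socle
    unfold Cfsg.fittingSubgroup
    apply sSup_le
    rintro N ⟨hNn, hNnil⟩
    haveI := hNn
    -- Step 1: N is abelian
    set Z : Subgroup G := N ⊓ Subgroup.centralizer (N : Set G) with hZ
    haveI hZn : Z.Normal := inferInstance
    have hZcomm : ∀ x ∈ Z, ∀ y ∈ Z, x * y = y * x := by
      intro x hx y hy
      exact (Subgroup.mem_centralizer_iff.mp hy.2 x hx.1)
    haveI hZc : IsMulCommutative Z := by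
      rw [isMulCommutative_iff]
      intro a b
      apply Subtype.ext
      exact hZcomm a a.2 b b.2
    obtain ⟨K, hK⟩ := Cfsg.Agent.S0585.result hΦ Z
    have hDn : (N ⊓ K).Normal := inf_normal_of_complement Z K N hNn hK inf_le_right
    have hZK : Z ⊓ K = ⊥ := disjoint_iff.mp hK.disjoint
    have hD : N ⊓ K = ⊥ := by
      by_contra hne
      -- the series D_i
      have key : ∀ i : ℕ, (∃ E : Subgroup G, E ≤ N ⊓ K ∧ E ≤ N.lowerCentralSeries i ∧ (E ≠ ⊥)) ∨
          (∃ E : Subgroup G, E ≤ N ⊓ K ∧ E ≠ ⊥ ∧ ⁅E, N⁆ = ⊥) := by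
        intro i
        induction i with
        | zero => exact Or.inl ⟨N ⊓ K, le_rfl, inf_le_left, hne⟩
        | succ i ih =>
          rcases ih with ⟨E, hED, hEi, hE⟩ | h
          · by_cases hc : ⁅E, N⁆ = ⊥
            · exact Or.inr ⟨E, hED, hE, hc⟩
            · left
              refine ⟨⁅E, N⁆, ?_, ?_, hc⟩
              · haveI := hDn
                exact (Subgroup.commutator_mono hED le_rfl).trans (Subgroup.commutator_le_left _ _)
              · rw [Subgroup.lowerCentralSeries_succ]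
                exact Subgroup.commutator_mono hEi le_rfl
          · exact Or.inr h
      obtain ⟨c, hc⟩ := (Subgroup.isNilpotent_iff_lowerCentralSeries N).mp hNnil
      rcases key c with ⟨E, hED, hEi, hE⟩ | ⟨E, hED, hE, hEN⟩
      · rw [hc] at hEi
        exact hE (le_bot_iff.mp hEi)
      · have h1 : E ≤ Subgroup.centralizer (N : Set G) :=
          Subgroup.commutator_eq_bot_iff_le_centralizer.mp hEN
        have h2 : E ≤ Z ⊓ K := le_inf (le_inf (hED.trans inf_le_left) h1) (hED.trans inf_le_right)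
        rw [hZK] at h2
        exact hE (le_bot_iff.mp h2)
    have hNZ : N ≤ Z := le_of_complement Z K N hK inf_le_left hD
    have hNcomm : ∀ x ∈ N, ∀ y ∈ N, x * y = y * x := fun x hx y hy => hZcomm x (hNZ hx) y (hNZ hy)
    -- Step 2: socle of N
    set S : Subgroup G := sSup {T : Subgroup G | T.Normal ∧ T ≠ ⊥ ∧ T ≤ N ∧ ∀ K : Subgroup G, K.Normal → K ≤ T → K = ⊥ ∨ K = T} with hS
    have hSN : S ≤ N := sSup_le fun T hT => hT.2.2.1
    haveI hSn : S.Normal := Subgroup.sSup_normal _ fun T hT => hT.1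
    haveI hSc : IsMulCommutative S := by
      rw [isMulCommutative_iff]
      intro a b
      apply Subtype.ext
      exact hNcomm a (hSN a.2) b (hSN b.2)
    obtain ⟨K', hK'⟩ := Cfsg.Agent.S0585.result hΦ S
    have hScent : S ≤ Subgroup.centralizer (N : Set G) := by
      intro s hs
      rw [Subgroup.mem_centralizer_iff]
      intro n hn
      exact hNcomm n hn s (hSN hs)
    have hD'n : (N ⊓ K').Normal := inf_normal_of_complement S K' N hNn hK' hScent
    have hSK' : S ⊓ K' = ⊥ := disjoint_iff.mp hK'.disjoint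
    have hD' : N ⊓ K' = ⊥ := by
      by_contra hne
      obtain ⟨T, hTn, hT1, hTD, hTmin⟩ := exists_minimal_normal_le (N ⊓ K') hD'n hne
      have hTS : T ≤ S := le_sSup ⟨hTn, hT1, hTD.trans inf_le_left, hTmin⟩
      have : T ≤ S ⊓ K' := le_inf hTS (hTD.trans inf_le_right)
      rw [hSK'] at this
      exact hT1 (le_bot_iff.mp this)
    have hNS : N ≤ S := le_of_complement S K' N hK' hSN hD'
    refine hNS.trans ?_
    apply sSup_le_sSup
    rintro T ⟨hTn, hT1, hTN, hTmin⟩
    refine ⟨hTn, hT1, ?_, hTmin⟩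
    rw [isMulCommutative_iff]
    intro a b
    apply Subtype.ext
    exact hNcomm a (hTN a.2) b (hTN b.2)
  · apply sSup_le
    rintro N ⟨hNn, hN1, hNc, hNmin⟩
    unfold Cfsg.fittingSubgroup
    apply le_sSup
    refine ⟨hNn, ?_⟩
    haveI : IsMulCommutative N := hNc
    letI : CommGroup N := { (inferInstance : Group N) with mul_comm := (isMulCommutative_iff.mp hNc) }
    exact CommGroup.isNilpotent

end Cfsg.Agent.S0586
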