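import Cfsg.Statements.S0591
import Mathlib

set_option autoImplicit false
open Cfsg
open scoped commutatorElement

namespace Cfsg.Agent.S0591

/-- For a quadratically acting element a on an elementary abelian p-group V, the fixed points C_V(a) have order at least the square root of the order of V. -/
theorem result {G : Type*} [Group G] [Finite G] {p : ℕ} [Fact p.Prime] (V : Subgroup G) (hV : Cfsg.IsElementaryAbelian p V) (a : G) (ha : a ∈ Subgroup.normalizer (V : Set G)) (hq : ⁅⁅V, Subgroup.zpowers a⁆, Subgroup.zpowers a⁆ = ⊥) : Nat.card V ≤ Nat.card ↥(V ⊓ Subgroup.centralizer (Subgroup.zpowers a : Set G)) ^ 2 := by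
  obtain ⟨hVc, hVp⟩ := hV
  have hcommV : ∀ x ∈ V, ∀ y ∈ V, x * y = y * x := by
    intro x hx y hy
    have := (isMulCommutative_iff.mp hVc) (⟨x, hx⟩ : V) ⟨y, hy⟩
    exact congrArg Subtype.val this
  have hnorm : ∀ v ∈ V, a * v * a⁻¹ ∈ V := by
    intro v hv
    exact (Subgroup.mem_normalizer_iff.mp ha v).mp hv
  have hfV : ∀ v ∈ V, v * a * v⁻¹ * a⁻¹ ∈ V := by
    intro v hv
    have : v * a * v⁻¹ * a⁻¹ = v * (a * v⁻¹ * a⁻¹) := by group
    rw [this]
    exact V.mul_mem hv (hnorm _ (V.inv_mem hv))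
  -- membership in the centralizer of zpowers a
  have hcent : ∀ x : G, x ∈ Subgroup.centralizer (Subgroup.zpowers a : Set G) ↔ a * x = x * a := by
    intro x
    rw [Subgroup.mem_centralizer_iff]
    constructor
    · intro h
      exact h a (Subgroup.mem_zpowers a)
    · rintro h y ⟨k, rfl⟩
      have : Commute a x := h
      exact (this.zpow_left k).eq
  -- the homomorphism v ↦ [v, a]
  let f : V →* V :=
    { toFun := fun v => ⟨(v : G) * a * (v : G)⁻¹ * a⁻¹, hfV v v.2⟩
      map_one' := by
        apply Subtype.ext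
        simp
      map_mul' := by
        intro u v
        apply Subtype.ext
        simp only [Subgroup.coe_mul]
        have h1 : (u : G) * (v : G) * a * ((u : G) * (v : G))⁻¹ * a⁻¹
            = (u : G) * (((v : G) * a * (v : G)⁻¹ * a⁻¹) * (a * (u : G)⁻¹ * a⁻¹)) := by group
        have h2 : (u : G) * a * (u : G)⁻¹ * a⁻¹ * ((v : G) * a * (v : G)⁻¹ * a⁻¹)
            = (u : G) * ((a * (u : G)⁻¹ * a⁻¹) * ((v : G) * a * (v : G)⁻¹ * a⁻¹)) := by group
        rw [h1, h2, hcommV _ (hfV v v.2) _ (hnorm _ (V.inv_mem u.2))] }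
  have hf_apply : ∀ v : V, ((f v : V) : G) = (v : G) * a * (v : G)⁻¹ * a⁻¹ := fun v => rfl
  -- kernel
  have hker : f.ker.map V.subtype = V ⊓ Subgroup.centralizer (Subgroup.zpowers a : Set G) := by
    ext x
    simp only [Subgroup.mem_map, MonoidHom.mem_ker, Subgroup.mem_inf, hcent]
    constructor
    · rintro ⟨v, hv, rfl⟩
      refine ⟨v.2, ?_⟩
      have := congrArg Subtype.val hv
      rw [hf_apply] at this
      simp only [Subgroup.coe_one, Subgroup.coe_subtype] at this ⊢
      have e : (v : G) * a = a * (v : G) := by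
        calc (v : G) * a = ((v : G) * a * (v : G)⁻¹ * a⁻¹) * (a * (v : G)) := by group
          _ = a * (v : G) := by rw [this, one_mul]
      exact e.symm
    · rintro ⟨hxV, hxa⟩
      refine ⟨⟨x, hxV⟩, ?_, rfl⟩
      apply Subtype.ext
      rw [hf_apply]
      simp only [Subgroup.coe_one]
      calc x * a * x⁻¹ * a⁻¹ = (x * a) * x⁻¹ * a⁻¹ := by group
        _ = (a * x) * x⁻¹ * a⁻¹ := by rw [hxa]
        _ = 1 := by group
  -- range
  have hrange : f.range.map V.subtype ≤ V ⊓ Subgroup.centralizer (Subgroup.zpowers a : Set G) := by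
    rintro x ⟨w, ⟨v, rfl⟩, rfl⟩
    refine ⟨(f v).2, ?_⟩
    have h1 : ⁅(v : G), a⁆ ∈ ⁅V, Subgroup.zpowers a⁆ :=
      Subgroup.commutator_mem_commutator v.2 (Subgroup.mem_zpowers a)
    have h2 := Subgroup.commutator_eq_bot_iff_le_centralizer.mp hq
    exact h2 h1
  have hinj : Function.Injective V.subtype := V.subtype_injective
  have c1 : Nat.card f.ker = Nat.card ↥(V ⊓ Subgroup.centralizer (Subgroup.zpowers a : Set G)) := by
    rw [← hker, Subgroup.card_map_of_injective hinj]
  have c2 : Nat.card f.range ≤ Nat.card ↥(V ⊓ Subgroup.centralizer (Subgroup.zpowers a : Set G)) := by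
    rw [← Subgroup.card_map_of_injective hinj]
    exact Subgroup.card_le_of_le hrange
  calc Nat.card V = Nat.card f.ker * f.ker.index := (Subgroup.card_mul_index f.ker).symm
    _ = Nat.card f.ker * Nat.card f.range := by rw [Subgroup.index_ker]
    _ ≤ Nat.card ↥(V ⊓ Subgroup.centralizer (Subgroup.zpowers a : Set G)) ^ 2 := by
        rw [sq, c1]
        exact Nat.mul_le_mul_left _ c2

end Cfsg.Agent.S0591
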