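import Cfsg.Statements.S0592
import Mathlib
import Cfsg.Agent.Lib.Helper15.QuadChain

set_option autoImplicit false
open Cfsg

namespace Cfsg.Agent.S0592

open Polynomial Cfsg.Agent.Lib.Helper15.QuadChain

/-- `X ^ k - 1` splits over a finite field `K` when `k ∣ #K - 1`. -/
theorem splits_of_dvd_card_sub_one {K : Type*} [Field K] [Fintype K] (k : ℕ)
    (hk : k ∣ Fintype.card K - 1) : (X ^ k - 1 : K[X]).Splits := by
  have hq : 1 < Fintype.card K := Fintype.one_lt_card
  have h1 : (X ^ Fintype.card K - X : K[X]).Splits := by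
    rw [splits_iff_card_roots, FiniteField.roots_X_pow_card_sub_X,
      FiniteField.X_pow_card_sub_X_natDegree_eq K hq]
    simp
  have h0 : (X ^ Fintype.card K - X : K[X]) ≠ 0 := FiniteField.X_pow_card_sub_X_ne_zero K hq
  obtain ⟨m, hm⟩ := hk
  have h2 : (X ^ k - 1 : K[X]) ∣ X ^ Fintype.card K - X := by
    have h3 : (X ^ Fintype.card K - X : K[X]) = X * ((X ^ k) ^ m - 1 ^ m) := by
      rw [← pow_mul, ← hm, one_pow, mul_sub, mul_one, ← pow_succ', Nat.sub_add_cancel hq.le]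
    rw [h3]
    exact Dvd.dvd.mul_left (sub_dvd_pow_sub_pow _ _ _) _
  exact h1.of_dvd h0 h2

theorem result {K : Type*} [Field K] [Fintype K] {p : ℕ} [Fact p.Prime] [CharP K p] {W : Type*} [AddCommGroup W] [Module K W] [FiniteDimensional K W] [Finite W] [Nontrivial W] (H : Subgroup (W ≃ₗ[K] W)) (a b : W ≃ₗ[K] W) (hH : H = Subgroup.closure {a, b}) (ha : ∀ w : W, a (a w - w) = a w - w) (hb : ∀ w : W, b (b w - w) = b w - w) (hnp : ¬ IsPGroup p H) (hk : ∃ e k : ℕ, orderOf (a * b) = p ^ e * k ∧ k ∣ Fintype.card K - 1) : ∃ φ : H →* Matrix.SpecialLinearGroup (Fin 2) K, ¬ IsPGroup p φ.range := by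
  classical
  obtain ⟨e, k, hord, hkdvd⟩ := hk
  have haH : a ∈ H := hH ▸ Subgroup.subset_closure (by simp)
  have hbH : b ∈ H := hH ▸ Subgroup.subset_closure (by simp)
  let ρ : Representation K H W :=
    (LinearEquiv.automorphismGroup.toLinearMapMonoidHom).comp H.subtype
  have hρ : ∀ g : H, ρ g = ((g : W ≃ₗ[K] W) : W →ₗ[K] W) := fun g => rfl
  have hker : ρ.ker = ⊥ := by
    rw [eq_bot_iff]
    intro g hg
    rw [MonoidHom.mem_ker, hρ] at hg
    rw [Subgroup.mem_bot]
    apply Subtype.ext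
    apply LinearEquiv.toLinearMap_injective
    rw [hg]; rfl
  have hgen : Subgroup.closure {(⟨a, haH⟩ : H), ⟨b, hbH⟩} = ⊤ := by
    apply Subgroup.map_injective H.subtype_injective
    rw [MonoidHom.map_closure, ← MonoidHom.range_eq_map, Subgroup.range_subtype]
    have h1 : (H.subtype '' {(⟨a, haH⟩ : H), ⟨b, hbH⟩} : Set (W ≃ₗ[K] W)) = {a, b} := by
      ext x; simp [Set.image_pair]
    rw [h1]
    exact hH.symm
  have hqa : (ρ ⟨a, haH⟩ - 1) * (ρ ⟨a, haH⟩ - 1) = 0 := by
    ext w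
    simp only [hρ, Module.End.mul_apply, LinearMap.sub_apply, Module.End.one_apply,
      LinearEquiv.coe_coe, LinearMap.zero_apply, map_sub]
    have := ha w
    rw [map_sub] at this
    rw [this, sub_self]
  have hqb : (ρ ⟨b, hbH⟩ - 1) * (ρ ⟨b, hbH⟩ - 1) = 0 := by
    ext w
    simp only [hρ, Module.End.mul_apply, LinearMap.sub_apply, Module.End.one_apply,
      LinearEquiv.coe_coe, LinearMap.zero_apply, map_sub]
    have := hb w
    rw [map_sub] at this
    rw [this, sub_self]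
  haveI : Finite (W ≃ₗ[K] W) := Finite.of_injective (fun f => (f : W → W))
    (fun f g h => LinearEquiv.ext (congrFun h))
  have hn : 0 < orderOf (a * b) := orderOf_pos _
  have habn : ((⟨a, haH⟩ : H) * ⟨b, hbH⟩) ^ orderOf (a * b) = 1 := by
    apply Subtype.ext
    simp [pow_orderOf_eq_one]
  have hsplit : (X ^ orderOf (a * b) - 1 : K[X]).Splits := by
    have h1 := (splits_of_dvd_card_sub_one (K := K) k hkdvd).pow (p ^ e)
    have h2 : ((X ^ k - 1 : K[X])) ^ p ^ e = X ^ orderOf (a * b) - 1 := by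
      rw [sub_pow_char_pow, one_pow, ← pow_mul, hord, mul_comm]
    rwa [h2] at h1
  have hnpq : ¬ PQuot p ρ.ker := by
    intro h
    apply hnp
    intro g
    obtain ⟨j, hj⟩ := h g
    rw [hker, Subgroup.mem_bot] at hj
    exact ⟨j, hj⟩
  obtain ⟨φ, -, hφ⟩ := chain p (⟨a, haH⟩ : H) ⟨b, hbH⟩ hgen _ hn habn hsplit _ W ρ rfl hqa hqb hnpq
  exact ⟨φ, fun h => hφ ((pquot_ker_iff_range p φ).2 h)⟩

end Cfsg.Agent.S0592
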