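import Cfsg.Statements.S0593
import Mathlib
import Cfsg.Agent.Lib.Helper15.QuadInternal
import Cfsg.Agent.Lib.Helper16.PCore

set_option autoImplicit false
open Cfsg

namespace Cfsg.Agent.S0593

open Cfsg.Agent.Lib.Helper15.QuadInternal

/-- For odd p, a faithful group on an elementary abelian p-group generated by two quadratically acting elements is a p-group or has non-abelian Sylow 2-subgroups. -/
theorem result {G : Type*} [Group G] [Finite G] {p : ℕ} [Fact p.Prime] (hp : p ≠ 2) (V H : Subgroup G) (hV : Cfsg.IsElementaryAbelian p V) (hHV : H ≤ Subgroup.normalizer (V : Set G)) (hf : H ⊓ Subgroup.centralizer (V : Set G) = ⊥) (a b : G) (hab : H = Subgroup.closure {a, b}) (ha : ⁅⁅V, Subgroup.zpowers a⁆, Subgroup.zpowers a⁆ = ⊥) (hb : ⁅⁅V, Subgroup.zpowers b⁆, Subgroup.zpowers b⁆ = ⊥) (hnp : ¬ IsPGroup p H) (T : Sylow 2 H) : ¬ IsMulCommutative T := by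
  intro hT
  apply hnp
  have hVc : ∀ x ∈ V, ∀ y ∈ V, x * y = y * x := by
    intro x hx y hy
    haveI := hV.1
    exact setLike_mul_comm hx hy
  have haH : a ∈ H := hab ▸ Subgroup.subset_closure (by simp)
  have hbH : b ∈ H := hab ▸ Subgroup.subset_closure (by simp)
  have key : ∀ c : G, ∀ hc : c ∈ H, ⁅⁅V, Subgroup.zpowers c⁆, Subgroup.zpowers c⁆ = ⊥ →
      (⟨c, hc⟩ : H) ∈ Cfsg.pCore p H := by
    intro c hc hq
    obtain ⟨D, hDn, -, hcD, hD⟩ :=
      core_internal p hp V H hVc hV.2 hHV (sylow_comm_all T hT) c hc hq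
    have hDp : IsPGroup p D := by
      intro d
      obtain ⟨k, hk⟩ := hD d d.2
      refine ⟨k, ?_⟩
      have h1 : ((d : H) : G) ^ p ^ k ∈ H ⊓ Subgroup.centralizer (V : Set G) :=
        ⟨Subgroup.pow_mem _ (d : H).2 _, hk⟩
      rw [hf, Subgroup.mem_bot] at h1
      apply Subtype.ext; apply Subtype.ext
      simpa using h1
    exact (le_sSup ⟨hDn, hDp⟩ : D ≤ Cfsg.pCore p H) hcD
  have htop : Cfsg.pCore p H = ⊤ := by
    rw [eq_top_iff]
    intro x _
    have hx : (x : G) ∈ Subgroup.closure {a, b} := hab ▸ x.2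
    have hle : Subgroup.closure {a, b} ≤ (Cfsg.pCore p H).map H.subtype := by
      rw [Subgroup.closure_le]
      rintro c (rfl | rfl)
      · exact ⟨⟨_, haH⟩, key _ haH ha, rfl⟩
      · exact ⟨⟨_, hbH⟩, key _ hbH hb, rfl⟩
    obtain ⟨y, hy, hyx⟩ := hle hx
    have : y = x := Subtype.ext hyx
    exact this ▸ hy
  have h1 := Cfsg.Agent.Lib.Helper16.pCore_isPGroup p H
  rw [htop] at h1
  exact (IsPGroup.of_equiv h1 Subgroup.topEquiv)

end Cfsg.Agent.S0593
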