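import Cfsg.Statements.S0594
import Mathlib
import Cfsg.Agent.Lib.Helper15.QuadSolv

set_option autoImplicit false
open Cfsg

namespace Cfsg.Agent.S0594

/-- For odd p, two quadratic generators of a faithful group that is not a p-group, one of which acts nontrivially on a normal subgroup of order prime to p, force p = 3 and a section isomorphic to SL(2,3). -/
theorem result {G : Type*} [Group G] [Finite G] {p : ℕ} [Fact p.Prime] (hp : p ≠ 2) (V H : Subgroup G) (hV : Cfsg.IsElementaryAbelian p V) (hHV : H ≤ Subgroup.normalizer (V : Set G)) (hf : H ⊓ Subgroup.centralizer (V : Set G) = ⊥) (a b : G) (hab : H = Subgroup.closure {a, b}) (ha : ⁅⁅V, Subgroup.zpowers a⁆, Subgroup.zpowers a⁆ = ⊥) (hb : ⁅⁅V, Subgroup.zpowers b⁆, Subgroup.zpowers b⁆ = ⊥) (hnp : ¬ IsPGroup p H) (Q : Subgroup G) (hQH : Q ≤ H) (hQn : H ≤ Subgroup.normalizer (Q : Set G)) (hQ : (Nat.card Q).Coprime p) (hQa : ⁅Q, Subgroup.zpowers a⁆ ≠ ⊥) : p = 3 ∧ ∃ (K L : Subgroup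 G) (hL : (L.subgroupOf K).Normal), K ≤ H ∧ Nonempty ((K ⧸ L.subgroupOf K) ≃* Matrix.SpecialLinearGroup (Fin 2) (ZMod 3)) := by
  have hVc : ∀ x ∈ V, ∀ y ∈ V, x * y = y * x := by
    intro x hx y hy
    haveI := hV.1
    exact setLike_mul_comm hx hy
  have haH : a ∈ H := hab ▸ Subgroup.subset_closure (by simp)
  -- an element of `Q` not commuting with `a`
  obtain ⟨q, hq, hqa⟩ : ∃ q ∈ Q, a * q * a⁻¹ * q⁻¹ ≠ 1 := by
    by_contra hcon
    push Not at hcon
    apply hQa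
    rw [Subgroup.commutator_eq_bot_iff_le_centralizer]
    intro q hq
    rw [Subgroup.mem_centralizer_iff]
    intro z hz
    obtain ⟨n, rfl⟩ := Subgroup.mem_zpowers_iff.1 hz
    have h1 : a * q = q * a := by
      have := hcon q hq
      calc a * q = (a * q * a⁻¹ * q⁻¹) * (q * a) := by group
        _ = q * a := by rw [this, one_mul]
    have h2 : Commute a q := h1
    exact (h2.zpow_left n).eq
  have hqH : q ∈ H := hQH hq
  have hqa' : a * q * a⁻¹ * q⁻¹ ∉ Subgroup.centralizer (V : Set G) := by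
    intro h
    apply hqa
    have h1 : a * q * a⁻¹ * q⁻¹ ∈ H ⊓ Subgroup.centralizer (V : Set G) :=
      Subgroup.mem_inf.2 ⟨H.mul_mem (H.mul_mem (H.mul_mem haH hqH) (H.inv_mem haH)) (H.inv_mem hqH), h⟩
    rwa [hf, Subgroup.mem_bot] at h1
  obtain ⟨hp3, T, Ψ, hΨ⟩ := Cfsg.Agent.Lib.Helper15.QuadSolv.normal_internal p hp V H hVc hV.2 hHV
    a b hab ha hb Q hQH hQn hQ q hq hqa'
  exact ⟨hp3, Cfsg.Agent.Lib.Helper15.QuadSolv.section_of_surjective H T Ψ hΨ⟩

end Cfsg.Agent.S0594
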