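import Cfsg.Statements.S0595
import Mathlib
import Cfsg.Agent.Lib.Helper15.QuadInternal

set_option autoImplicit false
open Cfsg

namespace Cfsg.Agent.S0595

open Cfsg.Agent.Lib.Helper15.QuadInternal

/-- For odd p, a faithful action on an elementary abelian p-group that is not p-stable forces non-abelian Sylow 2-subgroups. -/
theorem result {G : Type*} [Group G] [Finite G] {p : ℕ} [Fact p.Prime] (hp : p ≠ 2) (V H : Subgroup G) (hV : Cfsg.IsElementaryAbelian p V) (hHV : H ≤ Subgroup.normalizer (V : Set G)) (hf : H ⊓ Subgroup.centralizer (V : Set G) = ⊥) (a : G) (haH : a ∈ H) (hq : ⁅⁅V, Subgroup.zpowers a⁆, Subgroup.zpowers a⁆ = ⊥) (hna : a ∉ (Cfsg.pCore p H).map H.subtype) (T : Sylow 2 H) : ¬ IsMulCommutative T := by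
  intro hT
  have hVc : ∀ x ∈ V, ∀ y ∈ V, x * y = y * x := by
    intro x hx y hy
    haveI := hV.1
    exact setLike_mul_comm hx hy
  obtain ⟨D, hDn, -, haD, hD⟩ := core_internal p hp V H hVc hV.2 hHV (sylow_comm_all T hT) a haH hq
  have hDp : IsPGroup p D := by
    intro d
    obtain ⟨k, hk⟩ := hD d d.2
    refine ⟨k, ?_⟩
    have h1 : ((d : H) : G) ^ p ^ k ∈ H ⊓ Subgroup.centralizer (V : Set G) :=
      ⟨Subgroup.pow_mem _ (d : H).2 _, hk⟩
    rw [hf, Subgroup.mem_bot] at h1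
    apply Subtype.ext; apply Subtype.ext
    simpa using h1
  have hle : D ≤ Cfsg.pCore p H := le_sSup ⟨hDn, hDp⟩
  exact hna ⟨⟨a, haH⟩, hle haD, rfl⟩

end Cfsg.Agent.S0595
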