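import Cfsg.Statements.S0596
import Mathlib
import Cfsg.Agent.Lib.Helper15.QuadPSolv

set_option autoImplicit false
open Cfsg

namespace Cfsg.Agent.S0596

/-- For odd p, a p-separable group with a faithful action on an elementary abelian p-group that is not p-stable has p = 3 and involves SL(2,3). -/
theorem result {G : Type*} [Group G] [Finite G] {p : ℕ} [Fact p.Prime] (hp : p ≠ 2) (V H : Subgroup G) (hV : Cfsg.IsElementaryAbelian p V) (hHV : H ≤ Subgroup.normalizer (V : Set G)) (hf : H ⊓ Subgroup.centralizer (V : Set G) = ⊥) (hsep : Cfsg.IsPSolvable p H) (a : G) (haH : a ∈ H) (hq : ⁅⁅V, Subgroup.zpowers a⁆, Subgroup.zpowers a⁆ = ⊥) (hna : a ∉ (Cfsg.pCore p H).map H.subtype) : p = 3 ∧ ∃ (K L : Subgroup G) (hL : (L.subgroupOf K).Normal), K ≤ H ∧ Nonempty ((K ⧸ L.subgroupOf K) ≃* Matrix.SpecialLinearGroup (Fin 2) (ZMod 3)) := by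
  have hVc : ∀ x ∈ V, ∀ y ∈ V, x * y = y * x := by
    intro x hx y hy
    haveI := hV.1
    exact setLike_mul_comm hx hy
  letI : CommGroup V :=
    { (inferInstance : Group V) with
      mul_comm := fun x y => Subtype.ext (hVc x x.2 y y.2) }
  have hexp : ∀ v : V, v ^ p = 1 := fun v => Subtype.ext (by simpa using hV.2 v v.2)
  obtain ⟨θ, hker, hθ⟩ := Cfsg.Agent.Lib.Helper15.QuadSolv.exists_theta V H hHV
  have hkerbot : θ.ker = ⊥ := by
    rw [hker, eq_bot_iff]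
    intro x hx
    rw [Subgroup.mem_subgroupOf] at hx
    have h1 : (x : G) ∈ H ⊓ Subgroup.centralizer (V : Set G) := Subgroup.mem_inf.2 ⟨x.2, hx⟩
    rw [hf, Subgroup.mem_bot] at h1
    rw [Subgroup.mem_bot]
    exact Subtype.ext h1
  have hquad : ∀ v : V, θ ⟨a, haH⟩ (θ ⟨a, haH⟩ v / v) = θ ⟨a, haH⟩ v / v := by
    intro v
    apply Subtype.ext
    rw [hθ]
    have h1 : ((θ ⟨a, haH⟩ v / v : V) : G) = a * v * a⁻¹ * (v : G)⁻¹ := by
      rw [div_eq_mul_inv, Subgroup.coe_mul, hθ, Subgroup.coe_inv]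
    rw [h1]
    exact Cfsg.Agent.Lib.Helper15.QuadInternal.quad_elem V a hq v v.2
  have hna' : ∀ D : Subgroup H, D.Normal → θ.ker ≤ D → (∀ d ∈ D, ∃ k : ℕ, d ^ p ^ k ∈ θ.ker) →
      (⟨a, haH⟩ : H) ∉ D := by
    intro D hDn _ hD haD
    apply hna
    have hDp : IsPGroup p D := by
      intro d
      obtain ⟨k, hk⟩ := hD d d.2
      rw [hkerbot, Subgroup.mem_bot] at hk
      exact ⟨k, Subtype.ext (by simpa using hk)⟩
    exact ⟨⟨a, haH⟩, (le_sSup ⟨hDn, hDp⟩ : D ≤ Cfsg.pCore p H) haD, rfl⟩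
  obtain ⟨hp3, T, Ψ, hΨ⟩ := Cfsg.Agent.Lib.Helper15.QuadPSolv.psolv_mulAut p hp hexp θ hsep
    ⟨a, haH⟩ hquad hna'
  exact ⟨hp3, Cfsg.Agent.Lib.Helper15.QuadSolv.section_of_surjective H T Ψ hΨ⟩

end Cfsg.Agent.S0596
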