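import Cfsg.Statements.S0609
import Cfsg.Agent.Lib.Helper17.ThompsonMap
import Cfsg.Agent.Lib.Helper2.Cores
import Cfsg.Agent.Lib.Helper20.Cores
import Cfsg.Agent.Lib.Helper20.CoprimeLift
open Cfsg.Agent.Lib.Helper17

set_option autoImplicit false
open Cfsg

namespace Cfsg.Agent.S0609

/-- Thompson factorizability passes to and from the quotient by the largest normal subgroup of order prime to p. -/
theorem result {G : Type*} [Group G] [Finite G] {p : ℕ} [Fact p.Prime] : Cfsg.IsThompsonFactorizable p G ↔ Cfsg.IsThompsonFactorizable p (G ⧸ Cfsg.pPrimeCore p G) := by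
  classical
  have hp : p.Prime := Fact.out
  set N : Subgroup G := Cfsg.pPrimeCore p G with hN
  have hNcop : (Nat.card N).Coprime p := Cfsg.Agent.Lib.Helper2.pPrimeCore_coprime p
  have hNdvd : ¬ p ∣ Nat.card N := by
    intro h
    have := Nat.Coprime.eq_one_of_dvd hNcop.symm h
    exact hp.one_lt.ne' this
  set π : G →* G ⧸ N := QuotientGroup.mk' N with hπ
  have hsurj : Function.Surjective π := QuotientGroup.mk'_surjective N
  -- π is injective on every Sylow p-subgroup
  have hinj : ∀ S : Sylow p G, ∀ x ∈ (S : Subgroup G), π x = 1 → x = 1 := by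
    intro S x hxS hx1
    have hxN : x ∈ N := by
      rw [← QuotientGroup.ker_mk' N, MonoidHom.mem_ker]; exact hx1
    obtain ⟨k, hk⟩ := (IsPGroup.iff_orderOf.mp S.2) ⟨x, hxS⟩
    have h1 : orderOf x = p ^ k := by
      rw [← hk]; exact (Subgroup.orderOf_mk x hxS).symm
    have h2 : orderOf x ∣ Nat.card N := by
      have := orderOf_dvd_natCard (⟨x, hxN⟩ : N)
      rwa [Subgroup.orderOf_mk] at this
    have h3 : (orderOf x).Coprime (p ^ k) :=
      Nat.Coprime.coprime_dvd_left h2 (Nat.Coprime.pow_right k hNcop)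
    rw [h1] at h3
    have h4 : p ^ k = 1 := (Nat.coprime_self _).mp h3
    rw [h4] at h1
    exact orderOf_eq_one_iff.mp h1
  have hJmap : ∀ S : Sylow p G, Cfsg.thompsonSubgroupOf p ((S : Subgroup G).map π) =
      (Cfsg.thompsonSubgroupOf p (S : Subgroup G)).map π :=
    fun S => thompsonSubgroupOf_map_of_injOn π (hinj S)
  have hZmap : ∀ S : Sylow p G, omegaOneCenter p ((S : Subgroup G).map π) =
      (omegaOneCenter p (S : Subgroup G)).map π :=
    fun S => omegaOneCenter_map_of_injOn π (hinj S)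
  have hJp : ∀ S : Sylow p G, IsPGroup p (Cfsg.thompsonSubgroupOf p (S : Subgroup G)) :=
    fun S => S.2.to_le (thompsonSubgroupOf_le_self _)
  have hZp : ∀ S : Sylow p G, IsPGroup p (omegaOneCenter p (S : Subgroup G)) := by
    intro S
    apply S.2.to_le
    unfold omegaOneCenter Cfsg.omegaOne
    rw [Subgroup.closure_le]
    rintro x ⟨hx, -⟩
    exact (Subgroup.mem_inf.mp hx).1
  constructor
  · -- (⇒)
    intro hTF Sb gb
    obtain ⟨S, rfl⟩ := Sylow.mapSurjective_surjective hsurj p Sb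
    obtain ⟨g, rfl⟩ := hsurj gb
    obtain ⟨x, hx, c, hc, n, hn, hg⟩ := hTF S g
    have hx1 : π x = 1 := by
      rw [← MonoidHom.mem_ker, QuotientGroup.ker_mk']; exact hx
    refine ⟨1, one_mem _, π c, ?_, π n, ?_, ?_⟩
    · rw [Sylow.coe_mapSurjective]
      have h1 := hZmap S
      unfold omegaOneCenter at h1
      rw [h1]
      have h2 := Subgroup.map_centralizer_le_centralizer_image
        ((Cfsg.omegaOne p ((S : Subgroup G) ⊓ Subgroup.centralizer ((S : Subgroup G) : Set G)) :
          Subgroup G) : Set G) π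
      rw [← Subgroup.coe_map] at h2
      exact h2 (Subgroup.mem_map_of_mem π hc)
    · rw [Sylow.coe_mapSurjective, hJmap S]
      exact Subgroup.le_normalizer_map π (Subgroup.mem_map_of_mem π hn)
    · rw [hg, map_mul, map_mul, hx1]
  · -- (⇐)
    intro hTF S g
    obtain ⟨xb, hxb, cb, hcb, nb, hnb, hgb⟩ := hTF (S.mapSurjective hsurj) (π g)
    rw [Cfsg.Agent.Lib.Helper20.pPrimeCore_quotient_eq_bot, Subgroup.mem_bot] at hxb
    subst hxb
    rw [one_mul] at hgb
    rw [Sylow.coe_mapSurjective] at hcb hnb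
    have h1 := hZmap S
    unfold omegaOneCenter at h1
    rw [h1, Cfsg.Agent.Lib.Helper20.centralizer_map_mk'_of_coprime p N hNdvd _ (hZp S)] at hcb
    rw [hJmap S, Cfsg.Agent.Lib.Helper20.normalizer_map_mk'_of_coprime p N hNdvd _ (hJp S)] at hnb
    obtain ⟨c, hc, rfl⟩ := Subgroup.mem_map.mp hcb
    obtain ⟨n, hn, rfl⟩ := Subgroup.mem_map.mp hnb
    refine ⟨g * (c * n)⁻¹, ?_, c, hc, n, hn, by group⟩
    show g * (c * n)⁻¹ ∈ N
    rw [← QuotientGroup.ker_mk' N, MonoidHom.mem_ker, map_mul, map_inv, map_mul]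
    rw [hπ] at hgb
    rw [hgb]
    group

end Cfsg.Agent.S0609
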