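import Cfsg.Statements.S0613
import Mathlib
import Cfsg.Agent.Lib.Helper14.Offender6
import Cfsg.Agent.S0611

set_option autoImplicit false
open Cfsg

namespace Cfsg.Agent.S0613

/-- A minimal nontrivially-acting best offender and a conjugate of it under a non-centralizing element of the p'-core generate SL(2, p) acting naturally on a plane, and p is 2 or 3. -/
theorem result {G : Type*} [Group G] [Finite G] {p : ℕ} [Fact p.Prime] (V H : Subgroup G) (hV : Cfsg.IsElementaryAbelian p V) (hHV : H ≤ Subgroup.normalizer (V : Set G)) (hf : H ⊓ Subgroup.centralizer (V : Set G) = ⊥) (hS1 : Subgroup.centralizer (Cfsg.pPrimeCore p ↥H : Set ↥H) ≤ Cfsg.pPrimeCore p ↥H) (hS3 : H = ⨆ A : {A : Subgroup G // A ≤ H ∧ Cfsg.IsBestOffenderOn p V A}, (A : Subgroup G)) (hH1 : H ≠ ⊥) (A : Subgroup G) (hAH : A ≤ H) (hA : Cfsg.IsBestOffenderOn p V A) (hAV : ⁅V, A⁆ ≠ ⊥) (hmin : ∀ B : Subgroup G, B ≤ A →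 Cfsg.IsBestOffenderOn p V B → ⁅V, B⁆ ≠ ⊥ → B = A) (x : G) (hx : x ∈ ((Cfsg.pPrimeCore p ↥H).map H.subtype)) (hxA : x ∉ Subgroup.centralizer (A : Set G)) : (p = 2 ∨ p = 3) ∧ Nat.card ↥(⁅V, A ⊔ A.map (MulAut.conj x).toMonoidHom⁆) = p ^ 2 ∧ (A ⊔ A.map (MulAut.conj x).toMonoidHom) ⊓ Subgroup.centralizer ((⁅V, A ⊔ A.map (MulAut.conj x).toMonoidHom⁆ : Subgroup G) : Set G) = ⊥ ∧ Nonempty (↥(A ⊔ A.map (MulAut.conj x).toMonoidHom) ≃* Matrix.SpecialLinearGroup (Fin 2) (ZMod p)) := by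
  have hdata := Cfsg.Agent.S0611.result V H hV hHV hf hS1 hS3 hH1 A hAH hA hAV hmin
  have hN : (Nat.card (Cfsg.Agent.Lib.Helper14.Off.kk p H)).Coprime p :=
    Cfsg.Agent.Lib.Helper14.Off.kk_coprime p H
  have hNH := Cfsg.Agent.Lib.Helper14.Off.kk_le p H
  have hAN : A ≤ Subgroup.normalizer (Cfsg.Agent.Lib.Helper14.Off.kk p H : Set G) :=
    hAH.trans (Cfsg.Agent.Lib.Helper14.Off.kk_normal p H)
  have hx' : x ∈ Cfsg.Agent.Lib.Helper14.Off.kk p H := hx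
  refine ⟨?_, ?_, ?_, ?_⟩
  · exact Cfsg.Agent.Lib.Helper14.Off.pair_prime V H _ A x hV hHV hf hNH hAH hAN hN hdata.1
      hdata.2.1 hx' hxA
  · exact Cfsg.Agent.Lib.Helper14.Off.pair_card_commutator V H _ A x hV hHV hf hNH hAH hAN hN
      hdata.1 hdata.2.1 hx' hxA
  · exact Cfsg.Agent.Lib.Helper14.Off.pair_inf_centralizer V H _ A x hV hHV hf hNH hAH hAN hN
      hdata.1 hx' hxA
  · obtain ⟨c, φ, -⟩ := Cfsg.Agent.Lib.Helper14.Off.pair_rep V H _ A x hV hHV hf hNH hAH hAN hN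
      hdata.1 hdata.2.1 hx' hxA
    exact ⟨φ⟩

end Cfsg.Agent.S0613
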