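import Cfsg.Statements.S0614
import Mathlib
import Cfsg.Agent.Lib.Helper14.Offender7
import Cfsg.Agent.S0611

set_option autoImplicit false
open Cfsg

namespace Cfsg.Agent.S0614

/-- The commutator of the p'-core with a minimal nontrivially-acting best offender is a 3-group (when p = 2) or a non-abelian 2-group (when p = 3). -/
theorem result {G : Type*} [Group G] [Finite G] {p : ℕ} [Fact p.Prime] (V H : Subgroup G) (hV : Cfsg.IsElementaryAbelian p V) (hHV : H ≤ Subgroup.normalizer (V : Set G)) (hf : H ⊓ Subgroup.centralizer (V : Set G) = ⊥) (hS1 : Subgroup.centralizer (Cfsg.pPrimeCore p ↥H : Set ↥H) ≤ Cfsg.pPrimeCore p ↥H) (hS3 : H = ⨆ A : {A : Subgroup G // A ≤ H ∧ Cfsg.IsBestOffenderOn p V A}, (A : Subgroup G)) (hH1 : H ≠ ⊥) (A : Subgroup G) (hAH : A ≤ H) (hA : Cfsg.IsBestOffenderOn p V A) (hAV : ⁅V, A⁆ ≠ ⊥) (hmin : ∀ B : Subgroup G, B ≤ A → Cfsg.IsBestOffenderOn p V B → ⁅V, B⁆ ≠ ⊥ → B = A) : (p = 2 ∧ IsPGroup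 3 ↥(⁅((Cfsg.pPrimeCore p ↥H).map H.subtype), A⁆)) ∨ (p = 3 ∧ IsPGroup 2 ↥(⁅((Cfsg.pPrimeCore p ↥H).map H.subtype), A⁆) ∧ ¬ IsMulCommutative ↥(⁅((Cfsg.pPrimeCore p ↥H).map H.subtype), A⁆)) := by
  have hdata := Cfsg.Agent.S0611.result V H hV hHV hf hS1 hS3 hH1 A hAH hA hAV hmin
  have hN : (Nat.card (Cfsg.Agent.Lib.Helper14.Off.kk p H)).Coprime p :=
    Cfsg.Agent.Lib.Helper14.Off.kk_coprime p H
  have hNH := Cfsg.Agent.Lib.Helper14.Off.kk_le p H
  have hAN : A ≤ Subgroup.normalizer (Cfsg.Agent.Lib.Helper14.Off.kk p H : Set G) :=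
    hAH.trans (Cfsg.Agent.Lib.Helper14.Off.kk_normal p H)
  have hAp : IsPGroup p A := IsPGroup.of_card (n := 1) (by rw [hdata.1, pow_one])
  have hAbot : A ≠ ⊥ := by
    intro h
    apply hAV
    rw [h]
    exact Subgroup.commutator_bot_right V
  have hNA : ¬ Cfsg.Agent.Lib.Helper14.Off.kk p H ≤ Subgroup.centralizer (A : Set G) := by
    intro h
    apply hAbot
    exact Cfsg.Agent.Lib.Helper14.Off.eq_bot_of_le_centralizer_kk H A
      (Cfsg.Agent.Lib.Helper14.Off.kk_self_centralizing p H hS1) hAH hAp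
      (Subgroup.le_centralizer_iff.mp h)
  obtain ⟨x, hx, hxA⟩ := SetLike.not_le_iff_exists.mp hNA
  have hp23 := Cfsg.Agent.Lib.Helper14.Off.pair_prime V H _ A x hV hHV hf hNH hAH hAN hN hdata.1
      hdata.2.1 hx hxA
  rcases hp23 with hp2 | hp3
  · left
    refine ⟨hp2, ?_⟩
    haveI : Fact (Nat.Prime 3) := ⟨Nat.prime_three⟩
    apply Cfsg.Agent.Lib.Helper14.Off.commutator_isPGroup V H _ A hV hHV hf hNH hAH hAN hN hdata.1
      hdata.2.1 3 (by omega)
    subst hp2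
    exact Cfsg.Agent.Lib.Helper14.SL2.exists_order_three
  · right
    refine ⟨hp3, ?_, ?_⟩
    · haveI : Fact (Nat.Prime 2) := ⟨Nat.prime_two⟩
      apply Cfsg.Agent.Lib.Helper14.Off.commutator_isPGroup V H _ A hV hHV hf hNH hAH hAN hN hdata.1
        hdata.2.1 2 (by omega)
      subst hp3
      exact Cfsg.Agent.Lib.Helper14.SL2.exists_order_two
    · exact Cfsg.Agent.Lib.Helper14.Off.commutator_not_comm V H _ A hV hHV hf hNH hAH hAN hN hdata.1
        hdata.2.1 hp3 hNA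

end Cfsg.Agent.S0614
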