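import Cfsg.Statements.S0615
import Mathlib
import Cfsg.Agent.Lib.Helper14.SubnPair3

set_option autoImplicit false
open Cfsg

namespace Cfsg.Agent.S0615

/-- Two subnormal subgroups acting irreducibly on their incomparable commutator modules, in a faithful group with trivial largest normal p-subgroup, generate their direct product, and the commutator module splits accordingly. -/
theorem result {G : Type*} [Group G] [Finite G] {p : ℕ} [Fact p.Prime] (V E E₁ E₂ : Subgroup G) (hV : Cfsg.IsElementaryAbelian p V) (hEV : E ≤ Subgroup.normalizer (V : Set G)) (hf : E ⊓ Subgroup.centralizer (V : Set G) = ⊥) (hgen : E = E₁ ⊔ E₂) (hs₁ : (E₁.subgroupOf E).IsSubnormal) (hs₂ : (E₂.subgroupOf E).IsSubnormal) (hOp : Cfsg.pCore p ↥E = ⊥) (hirr₁ : (∀ U : Subgroup G, U ≤ ⁅V, E₁⁆ → E₁ ≤ Subgroup.normalizer (U : Set G) → U = ⊥ ∨ U = ⁅V, E₁⁆)) (hirr₂ : (∀ U : Subgroup G, U ≤ ⁅V, E₂⁆ → E₂ ≤ Subgroup.normalizer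 (U : Set G) → U = ⊥ ∨ U = ⁅V, E₂⁆)) (h12 : ¬ ⁅V, E₁⁆ ≤ ⁅V, E₂⁆) (h21 : ¬ ⁅V, E₂⁆ ≤ ⁅V, E₁⁆) (hc₁ : 2 < Nat.card E₁) (hc₂ : 2 < Nat.card E₂) : ⁅E₁, E₂⁆ = ⊥ ∧ E₁ ⊓ E₂ = ⊥ ∧ ⁅V, E₁⁆ ⊓ ⁅V, E₂⁆ = ⊥ ∧ ⁅V, E⁆ = ⁅V, E₁⁆ ⊔ ⁅V, E₂⁆ := by
  have h : Cfsg.Agent.Lib.Helper14.SubnPair.Hyp p V E E₁ E₂ :=
    ⟨hEV, hf, hgen, hs₁, hs₂, hOp, hirr₁, hirr₂, h12, h21, hc₁, hc₂⟩
  obtain ⟨hc, hinf⟩ := Cfsg.Agent.Lib.Helper14.SubnPair.Hyp.key trivial hV (Nat.card E) E E₁ E₂ rfl h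
  refine ⟨hc, ?_, hinf, ?_⟩
  · rw [eq_bot_iff, ← hf]
    apply le_inf (inf_le_left.trans h.le₁)
    have h1 : ⁅V, E₁ ⊓ E₂⁆ = ⊥ := by
      rw [eq_bot_iff, ← hinf]
      exact le_inf (Subgroup.commutator_mono le_rfl inf_le_left)
        (Subgroup.commutator_mono le_rfl inf_le_right)
    rw [Subgroup.commutator_eq_bot_iff_le_centralizer] at h1
    exact Subgroup.le_centralizer_iff.mp h1
  · apply le_antisymm
    · rw [hgen]
      have hE₁E₂ : E₁ ≤ Subgroup.normalizer (E₂ : Set G) := by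
        rw [Subgroup.commutator_eq_bot_iff_le_centralizer] at hc
        exact hc.trans (Subgroup.centralizer_le_normalizer _)
      have hE₂E₁ : E₂ ≤ Subgroup.normalizer (E₁ : Set G) := by
        rw [Subgroup.commutator_comm, Subgroup.commutator_eq_bot_iff_le_centralizer] at hc
        exact hc.trans (Subgroup.centralizer_le_normalizer _)
      have h11 := h.le_normalizer_commutator
      have h22 := h.symm.le_normalizer_commutator
      have h12' : E₁ ≤ Subgroup.normalizer ((⁅V, E₂⁆ : Subgroup G) : Set G) :=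
        le_trans (le_inf (h.le₁.trans hEV) hE₁E₂)
          (Cfsg.Agent.Lib.Helper16.inf_normalizer_le_normalizer_commutator V E₂)
      have h21' : E₂ ≤ Subgroup.normalizer ((⁅V, E₁⁆ : Subgroup G) : Set G) :=
        le_trans (le_inf (h.le₂.trans hEV) hE₂E₁)
          (Cfsg.Agent.Lib.Helper16.inf_normalizer_le_normalizer_commutator V E₁)
      have hJ : ∀ X : Subgroup G, X ≤ Subgroup.normalizer ((⁅V, E₁⁆ : Subgroup G) : Set G) →
          X ≤ Subgroup.normalizer ((⁅V, E₂⁆ : Subgroup G) : Set G) →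
          X ≤ Subgroup.normalizer ((⁅V, E₁⁆ ⊔ ⁅V, E₂⁆ : Subgroup G) : Set G) := by
        intro X h1 h2 e he
        rw [Cfsg.Agent.Lib.Helper14.SubnPair.mem_normalizer_iff_cjs,
          Cfsg.Agent.Lib.Helper14.Off.cjs_sup,
          (Cfsg.Agent.Lib.Helper14.SubnPair.mem_normalizer_iff_cjs e _).mp (h1 he),
          (Cfsg.Agent.Lib.Helper14.SubnPair.mem_normalizer_iff_cjs e _).mp (h2 he)]
      exact Cfsg.Agent.S2833.commutator_sup_le_of V E₁ E₂ _ (hJ E₁ h11 h12') (hJ E₂ h21' h22)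
        le_sup_left le_sup_right
    · exact sup_le (Subgroup.commutator_mono le_rfl h.le₁) (Subgroup.commutator_mono le_rfl h.le₂)

end Cfsg.Agent.S0615
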