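import Cfsg.Statements.S0625
import Mathlib
import Cfsg.Agent.Lib.Lead.QuadSolv

set_option autoImplicit false
open Cfsg

namespace Cfsg.Agent.S0625

open Subgroup Cfsg.Agent.Lib.Helper15.QuadPStable Cfsg.Agent.Lib.Lead.QuadSolv

/-- the generic statement -/
theorem main {G : Type*} [Group G] [Finite G] {p : ℕ} [hpp : Fact p.Prime] (hp : 5 ≤ p)
    (hab : Cfsg.IsPSolvable p G) : Cfsg.IsActionPStable p G := by
  refine ⟨?_, ?_, ?_⟩
  · intro V _ hV
    have hVc : ∀ x ∈ V, ∀ y ∈ V, x * y = y * x := by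
      intro x hx y hy
      haveI := hV.1
      exact setLike_mul_comm hx hy
    exact isPStableOn_of p hp hab V hVc hV.2
  · haveI : (Cfsg.pCore p G).Normal := Cfsg.Agent.Lib.Helper16.pCore_normal p G
    have hKp : IsPGroup p (Cfsg.pCore p G) := Cfsg.Agent.Lib.Helper16.pCore_isPGroup p G
    have hcomm : ⁅Cfsg.pCore p G, Cfsg.pCore p G⁆ ≤
        (frattini ↥(Cfsg.pCore p G)).map (Cfsg.pCore p G).subtype := by
      have h1 := Cfsg.Agent.Lib.Helper14.commutator_le_frattini_of_isPGroup' hKp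
      have h2 : ⁅Cfsg.pCore p G, Cfsg.pCore p G⁆ =
          (commutator ↥(Cfsg.pCore p G)).map (Cfsg.pCore p G).subtype := by
        rw [commutator_def, Subgroup.map_commutator, ← MonoidHom.range_eq_map,
          Subgroup.range_subtype]
      rw [h2]
      exact Subgroup.map_mono h1
    have hexp : ∀ x ∈ Cfsg.pCore p G,
        x ^ p ∈ (frattini ↥(Cfsg.pCore p G)).map (Cfsg.pCore p G).subtype := by
      intro x hx
      exact ⟨⟨x, hx⟩ ^ p, Cfsg.Agent.Lib.Helper14.pow_mem_frattini_of_isPGroup' hKp ⟨x, hx⟩, rfl⟩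
    exact isPStableOnSection_of p hp hab _ _ hcomm hexp
  · intro S V _ hV
    have hab' : Cfsg.IsPSolvable p ↥(normalizer (thompsonSubgroupOf p (S : Subgroup G) : Set G)) :=
      Cfsg.Agent.Lib.Lead.SL2PSolv.isPSolvable_subgroup hpp.out hab _
    set J := thompsonSubgroup p ↥(S : Subgroup G) with hJ
    have hZc : ∀ x ∈ J ⊓ centralizer (J : Set ↥(S : Subgroup G)),
        ∀ y ∈ J ⊓ centralizer (J : Set ↥(S : Subgroup G)), x * y = y * x := by
      intro x hx y hy
      exact (mem_centralizer_iff.1 hy.2 x hx.1)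
    obtain ⟨hΩc, hΩe⟩ := omegaOne_elem p _ hZc
    have hlift : ∀ x ∈ V, ∃ x' ∈ omegaCenterThompson p ↥(S : Subgroup G),
        ((x' : ↥(S : Subgroup G)) : G) = ((x : ↥(normalizer (thompsonSubgroupOf p (S : Subgroup G) : Set G))) : G) := by
      intro x hx
      obtain ⟨x', hx', hxx⟩ := hV ⟨x, hx, rfl⟩
      exact ⟨x', hx', hxx⟩
    apply isPStableOn_of p hp hab' V
    · intro x hx y hy
      obtain ⟨x', hx', hxx⟩ := hlift x hx
      obtain ⟨y', hy', hyy⟩ := hlift y hy
      apply Subtype.ext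
      rw [Subgroup.coe_mul, Subgroup.coe_mul, ← hxx, ← hyy, ← Subgroup.coe_mul, ← Subgroup.coe_mul,
        hΩc x' hx' y' hy']
    · intro x hx
      obtain ⟨x', hx', hxx⟩ := hlift x hx
      apply Subtype.ext
      rw [Subgroup.coe_pow, ← hxx, ← Subgroup.coe_pow, hΩe x' hx']
      rfl



/-- A p-separable group with p at least 5 is p-stable in the action sense. -/
theorem result {G : Type*} [Group G] [Finite G] {p : ℕ} [Fact p.Prime] (hp : 5 ≤ p) (hsep : Cfsg.IsPSolvable p G) : Cfsg.IsActionPStable p G := by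
  exact main hp hsep

end Cfsg.Agent.S0625
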