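import Cfsg.Statements.S0627
import Mathlib
import Cfsg.Agent.S0625
import Cfsg.Agent.Lib.Lead.StableWFunctor
import Cfsg.Agent.Lib.Lead.StableWAction
import Cfsg.Agent.Lib.Helper3.PSolvable

set_option autoImplicit false
open Cfsg

namespace Cfsg.Agent.S0627

open Subgroup Cfsg.Agent.Lib.Helper13 Cfsg.Agent.Lib.Lead.StableWNormal
open Cfsg.Agent.Lib.Lead.StableWAction Cfsg.Agent.Lib.Lead.StableWFunctor

universe u

theorem main {G : Type u} [Group G] [Finite G] {p : ℕ} [hp : Fact p.Prime] (hp5 : 5 ≤ p)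
    (hsol : Cfsg.IsPSolvable p G) (S : Sylow p G) :
    Cfsg.pPrimeCore p G ⊔ normalizer (Wof p (S : Subgroup G) : Set G) = ⊤ := by
  set K := Cfsg.pPrimeCore p G with hK
  have hKc : (Nat.card K).Coprime p := Cfsg.Agent.Lib.Helper2.pPrimeCore_coprime p
  set π := QuotientGroup.mk' K with hπ
  have hsurj : Function.Surjective π := QuotientGroup.mk'_surjective K
  have hsolq : Cfsg.IsPSolvable p (G ⧸ K) :=
    Cfsg.Agent.Lib.Helper3.isPSolvable_quotient hp.out hsol K
  have hc : centralizer (Cfsg.pCore p (G ⧸ K) : Set (G ⧸ K)) ≤ Cfsg.pCore p (G ⧸ K) :=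
    Cfsg.Agent.Lib.Helper3.centralizer_pCore_le hsolq
      (Cfsg.Agent.Lib.Helper3.pPrimeCore_quotient_pPrimeCore p)
  have hst : Cfsg.IsActionPStable p (G ⧸ K) := Cfsg.Agent.S0625.main hp5 hsolq
  have hn : (Wof p ((S.mapSurjective hsurj : Sylow p (G ⧸ K)) : Subgroup (G ⧸ K))).Normal :=
    Wof_normal_of_actionPStable hst hc _
  rw [Sylow.coe_mapSurjective, Wof_map_of_injOn π _ (injOn_of_coprime K hKc S S.isPGroup')] at hn
  have hWp : IsPGroup p (Wof p (S : Subgroup G)) := S.isPGroup'.to_le (Wof_le _)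
  have h1 := normalizer_map_le_of_coprime K hKc (Wof p (S : Subgroup G)) hWp
  rw [Subgroup.normalizer_eq_top] at h1
  rw [eq_top_iff]
  intro g _
  obtain ⟨n, hnN, hng⟩ := h1 (mem_top (π g))
  have h2 : n⁻¹ * g ∈ K := by
    rw [← QuotientGroup.ker_mk' K, MonoidHom.mem_ker, map_mul, map_inv]
    rw [← hπ, hng, inv_mul_cancel]
  have h3 : g = n * (n⁻¹ * g) := by group
  rw [h3]
  exact mul_mem (le_sup_right (a := K) hnN) (le_sup_left (a := K) h2)


/-- In a p-separable group with p at least 5, the normalizer of W(S) supplements the largest normal subgroup of order prime to p. -/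
theorem result {G : Type*} [Group G] [Finite G] {p : ℕ} [Fact p.Prime] (hp : 5 ≤ p) (hsep : Cfsg.IsPSolvable p G) (S : Sylow p G) : Cfsg.pPrimeCore p G ⊔ Subgroup.normalizer (((Cfsg.stableNormalClosure p ↥(S : Subgroup G)).map (S : Subgroup G).subtype) : Set G) = ⊤ := by
  exact main hp hsep S

end Cfsg.Agent.S0627
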