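import Cfsg.Statements.S0635
import Mathlib
import Cfsg.Agent.Lib.Helper2.PLength
import Cfsg.Agent.Lib.Helper3.PSolvable
import Cfsg.Agent.S0634

set_option autoImplicit false
open Cfsg

namespace Cfsg.Agent.S0635

open Cfsg.Agent.Lib.Helper2

theorem center_sylow_le_upperPSeries_two {G : Type*} [Group G] [Finite G] {p : ℕ} [Fact p.Prime]
    (hsol : IsPSolvable p G) (S : Sylow p G) (z : G)
    (hcomm : ∀ s ∈ (S : Subgroup G), s * z = z * s) : z ∈ (upperPSeries p G 2).1 := by
  have h634 : Subgroup.centralizer ((((upperPSeries p G 2).1.map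
      (QuotientGroup.mk' (upperPSeries p G 1).1)) : Subgroup (G ⧸ (upperPSeries p G 1).1)) :
        Set (G ⧸ (upperPSeries p G 1).1)) ≤
      (upperPSeries p G 2).1.map (QuotientGroup.mk' (upperPSeries p G 1).1) :=
    Cfsg.Agent.S0634.result hsol 0
  have hU2 : (upperPSeries p G 2).1 =
      (pCore p (G ⧸ (upperPSeries p G 1).1)).comap (QuotientGroup.mk' _) :=
    upperPSeries_succ_of_odd p G 1 (by decide)
  have hπs : Function.Surjective (QuotientGroup.mk' (upperPSeries p G 1).1) :=
    QuotientGroup.mk'_surjective _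
  have hmap : (upperPSeries p G 2).1.map (QuotientGroup.mk' (upperPSeries p G 1).1) =
      pCore p (G ⧸ (upperPSeries p G 1).1) := by
    rw [hU2]; exact Subgroup.map_comap_eq_self_of_surjective hπs _
  have hz1 : QuotientGroup.mk' (upperPSeries p G 1).1 z ∈
      Subgroup.centralizer ((((upperPSeries p G 2).1.map
      (QuotientGroup.mk' (upperPSeries p G 1).1)) : Subgroup (G ⧸ (upperPSeries p G 1).1)) :
        Set (G ⧸ (upperPSeries p G 1).1)) := by
    rw [hmap, Subgroup.mem_centralizer_iff]
    intro y hy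
    have hy' : y ∈ ((S.mapSurjective hπs : Sylow p _) : Subgroup _) := pCore_le_sylow p _ hy
    rw [Sylow.coe_mapSurjective] at hy'
    obtain ⟨s, hs, rfl⟩ := hy'
    rw [← map_mul, ← map_mul, hcomm s hs]
  have hz2 := h634 hz1
  rw [hmap] at hz2
  rw [hU2]; exact hz2

theorem class_le_pred {G H : Type*} [Group G] [Group H] (f : G →* H) (S : Subgroup G)
    [Group.IsNilpotent S] (T : Subgroup H) (hT : T = S.map f)
    (hZ : ∀ z ∈ S, (∀ s ∈ S, s * z = z * s) → f z = 1) :
    Group.nilpotencyClass T ≤ Group.nilpotencyClass S - 1 := by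
  subst hT
  let φ : ↥S →* ↥(S.map f) := f.subgroupMap S
  have hφ : Function.Surjective φ := f.subgroupMap_surjective S
  have hker : Subgroup.center ↥S ≤ φ.ker := by
    intro z hz
    rw [MonoidHom.mem_ker]
    apply Subtype.ext
    have h1 : f (z : G) = 1 := by
      apply hZ z z.2
      intro s hs
      have := (Subgroup.mem_center_iff.mp hz) ⟨s, hs⟩
      exact congrArg Subtype.val this
    exact h1
  have hsurj := QuotientGroup.lift_surjective_of_surjective (Subgroup.center ↥S) φ hφ hker
  have h1 := Group.nilpotencyClass_le_of_surjective _ hsurj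
  rw [Group.nilpotencyClass_quotient_center] at h1
  exact h1

theorem main.{u} (p : ℕ) [Fact p.Prime] : ∀ c : ℕ, ∀ (G : Type u) [Group G] [Finite G],
    IsPSolvable p G → ∀ S : Sylow p G, Group.nilpotencyClass ↥(S : Subgroup G) ≤ c →
    PLengthLE p c G := by
  intro c
  induction c with
  | zero =>
    intro G _ _ hsol S hc
    haveI : Group.IsNilpotent ↥(S : Subgroup G) := IsPGroup.isNilpotent S.2
    have h0 : Group.nilpotencyClass ↥(S : Subgroup G) = 0 := Nat.le_zero.mp hc
    have hsub : Subsingleton ↥(S : Subgroup G) := Group.nilpotencyClass_zero_iff_subsingleton.mp h0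
    apply plength_zero_of_not_dvd
    intro hd
    apply Sylow.ne_bot_of_dvd_card S hd
    exact Subgroup.eq_bot_of_subsingleton _
  | succ c ih =>
    intro G _ _ hsol S hc
    haveI : Group.IsNilpotent ↥(S : Subgroup G) := IsPGroup.isNilpotent S.2
    apply PLengthLE.of_quot
    have hπs : Function.Surjective (QuotientGroup.mk' (upperPSeries p G 2).1) :=
      QuotientGroup.mk'_surjective _
    apply ih (G ⧸ (upperPSeries p G 2).1)
      (Cfsg.Agent.Lib.Helper3.isPSolvable_quotient Fact.out hsol _) (S.mapSurjective hπs)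
    have h1 := class_le_pred (QuotientGroup.mk' (upperPSeries p G 2).1) (S : Subgroup G)
      ((S.mapSurjective hπs : Sylow p _) : Subgroup _) (Sylow.coe_mapSurjective hπs S) ?_
    · omega
    · intro z hz hcomm
      exact (QuotientGroup.eq_one_iff z).mpr (center_sylow_le_upperPSeries_two hsol S z hcomm)

theorem result {G : Type*} [Group G] [Finite G] {p : ℕ} [Fact p.Prime] (hsol : Cfsg.IsPSolvable p G) (S : Sylow p G) : Cfsg.PLengthLE p (Group.nilpotencyClass ↥(S : Subgroup G)) G := by
  exact main p _ G hsol S le_rfl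

end Cfsg.Agent.S0635
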