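import Cfsg.Statements.S0637
import Mathlib
import Cfsg.Agent.Lib.Helper22.HuppertOmega

set_option autoImplicit false
open Cfsg

namespace Cfsg.Agent.S0637

/-- For p greater than 3, the bound p² on the order of the subgroup generated by the elements of order dividing p passes from a p-group to all its quotients. -/
theorem result {R : Type*} [Group R] [Finite R] {p : ℕ} [Fact p.Prime] (hp : 3 < p) (hR : IsPGroup p R) (hO : Nat.card ↥(Cfsg.omegaOne p (⊤ : Subgroup R)) ≤ p ^ 2) (T : Subgroup R) [T.Normal] : Nat.card ↥(Cfsg.omegaOne p (⊤ : Subgroup (R ⧸ T))) ≤ p ^ 2 := by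
  have hp2 : p ≠ 2 := by omega
  have hmc := Cfsg.Agent.Lib.Helper22.metacyclic_of_card_omega_le hp _ R rfl hR hO
  have hq := Cfsg.Agent.Lib.Helper14.isMetacyclic_quotient hmc T
  have hQp : IsPGroup p (R ⧸ T) := hR.to_quotient T
  have hreg := Cfsg.Agent.Lib.Helper14.isRegularPGroup_of_isMetacyclic hp2 hQp hq
  have hle : Cfsg.omegaOne p (⊤ : Subgroup (R ⧸ T)) ≤
      Cfsg.Agent.Lib.Helper14.regOmega hreg 1 := by
    unfold Cfsg.omegaOne
    rw [Subgroup.closure_le]
    rintro x ⟨-, hx⟩
    rw [SetLike.mem_coe, Cfsg.Agent.Lib.Helper14.mem_regOmega, pow_one]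
    exact hx
  have h1 := Subgroup.card_le_of_le hle
  have h2 := Cfsg.Agent.Lib.Helper14.card_regOmega_le hreg hq 1
  rw [mul_one] at h2
  exact h1.trans h2

end Cfsg.Agent.S0637
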