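import Cfsg.Statements.S0638
import Mathlib
import Cfsg.Agent.Lib.Helper14.Metacyclic
import Cfsg.Agent.Lib.Lead.UniqueSubgroup

set_option autoImplicit false
open Cfsg

namespace Cfsg.Agent.S0638

/-- For odd p, in a non-cyclic metacyclic p-group the elements of order dividing p generate an elementary abelian subgroup of order p². -/
theorem result {R : Type*} [Group R] [Finite R] {p : ℕ} [Fact p.Prime] (hp : p ≠ 2) (hR : IsPGroup p R) (hm : Cfsg.IsMetacyclic R) (hnc : ¬ IsCyclic R) : Cfsg.IsElementaryAbelian p (Cfsg.omegaOne p (⊤ : Subgroup R)) ∧ Nat.card ↥(Cfsg.omegaOne p (⊤ : Subgroup R)) = p ^ 2 := by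
  have hpp : p.Prime := Fact.out
  have hreg := Cfsg.Agent.Lib.Helper14.isRegularPGroup_of_isMetacyclic hp hR hm
  have hom : Cfsg.omegaOne p (⊤ : Subgroup R) = Cfsg.Agent.Lib.Helper14.regOmega hreg 1 := by
    unfold Cfsg.omegaOne
    apply le_antisymm
    · rw [Subgroup.closure_le]
      rintro x ⟨-, hx⟩
      change x ^ p ^ 1 = 1
      rw [pow_one]; exact hx
    · intro x hx
      apply Subgroup.subset_closure
      refine ⟨Subgroup.mem_top x, ?_⟩
      have : x ^ p ^ 1 = 1 := hx
      rwa [pow_one] at this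
  rw [hom]
  set Ω := Cfsg.Agent.Lib.Helper14.regOmega hreg 1 with hΩ
  have hexp : ∀ a ∈ Ω, a ^ p = 1 := by
    intro a ha
    have : a ^ p ^ 1 = 1 := ha
    rwa [pow_one] at this
  have hle : Nat.card Ω ≤ p ^ 2 := by
    have := Cfsg.Agent.Lib.Helper14.card_regOmega_le hreg hm 1
    simpa using this
  obtain ⟨k, hk⟩ := (hR.to_subgroup Ω).exists_card_eq
  have hk2 : k ≤ 2 := by
    rw [hk] at hle
    exact (Nat.pow_le_pow_iff_right hpp.one_lt).mp hle
  have hk2' : k = 2 := by
    by_contra hne
    have hk1 : k ≤ 1 := by omega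
    have hcard1 : Nat.card Ω ≤ p := by
      rw [hk]
      calc p ^ k ≤ p ^ 1 := Nat.pow_le_pow_right hpp.pos hk1
        _ = p := pow_one p
    have huniq : Cfsg.Agent.Lib.Lead.UniqueOrderP.UniqueOrderP p R := by
      have key : ∀ H : Subgroup R, Nat.card H = p → H = Ω := by
        intro H hH
        have hHΩ : H ≤ Ω := by
          intro x hx
          change x ^ p ^ 1 = 1
          rw [pow_one]
          have := pow_card_eq_one' (G := ↥H) (x := ⟨x, hx⟩)
          rw [hH] at this
          exact congrArg Subtype.val this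
        exact Subgroup.eq_of_le_of_card_ge hHΩ (by rw [hH]; exact hcard1)
      intro H K hH hK
      rw [key H hH, key K hK]
    rcases Cfsg.Agent.Lib.Lead.UniqueSubgroup.cyclic_or_quaternion hR huniq with h | ⟨h, -⟩
    · exact hnc h
    · exact hp h
  rw [hk2'] at hk
  refine ⟨⟨?_, hexp⟩, hk⟩
  refine ⟨⟨fun a b => ?_⟩⟩
  exact IsPGroup.commutative_of_card_eq_prime_sq hk a b

end Cfsg.Agent.S0638
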