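import Cfsg.Statements.S0642
import Cfsg.Agent.Lib.Helper15.PGroupBasic

set_option autoImplicit false
open Cfsg
open scoped commutatorElement

namespace Cfsg.Agent.S0642

/-- Among finite 2-groups the regular ones are exactly the abelian ones. -/
theorem result {G : Type*} [Group G] [Finite G] (hG : IsPGroup 2 G) : Cfsg.IsRegularPGroup 2 G ↔ ∀ a b : G, a * b = b * a := by
  constructor
  · rintro ⟨-, hreg⟩ a b
    obtain ⟨c, hc, hab⟩ := hreg a b 1
    generalize hH : Subgroup.closure ({a, b} : Set G) = H at hc
    generalize hD : ⁅H, H⁆ = D at hc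
    have hDH : D ≤ H := by
      rw [← hD]
      exact Subgroup.commutator_le.mpr (fun g₁ h₁ g₂ h₂ =>
        H.mul_mem (H.mul_mem (H.mul_mem h₁ h₂) (H.inv_mem h₁)) (H.inv_mem h₂))
    have hDn : ∀ h ∈ H, ∀ x ∈ D, h * x * h⁻¹ ∈ D := by
      intro h hh x hx
      have : h * x * h⁻¹ = ⁅h, x⁆ * x := by simp [commutatorElement_def]
      rw [this]
      refine D.mul_mem ?_ hx
      rw [← hD]
      exact Subgroup.commutator_mem_commutator hh (hDH hx)
    have hEn : ∀ h ∈ H, ∀ e ∈ powerClosure 2 1 D, h * e * h⁻¹ ∈ powerClosure 2 1 D := by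
      intro h hh e he
      unfold powerClosure at he ⊢
      induction he using Subgroup.closure_induction with
      | mem y hy =>
        obtain ⟨x, hx, rfl⟩ := hy
        apply Subgroup.subset_closure
        exact ⟨h * x * h⁻¹, hDn h hh x hx, by rw [conj_pow]⟩
      | one => simp
      | mul e₁ e₂ _ _ ih₁ ih₂ =>
        have : h * (e₁ * e₂) * h⁻¹ = (h * e₁ * h⁻¹) * (h * e₂ * h⁻¹) := by group
        rw [this]; exact Subgroup.mul_mem _ ih₁ ih₂
      | inv e _ ih =>
        have : h * e⁻¹ * h⁻¹ = (h * e * h⁻¹)⁻¹ := by group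
        rw [this]; exact Subgroup.inv_mem _ ih
    have haH : a ∈ H := by rw [← hH]; exact Subgroup.subset_closure (by simp)
    have hbH : b ∈ H := by rw [← hH]; exact Subgroup.subset_closure (by simp)
    have hc' : c = (a * a * (b * b))⁻¹ * (a * b * (a * b)) := by
      simp only [pow_one, pow_two] at hab
      rw [hab]; group
    have hcomm : ⁅a, b⁆ = (a * b * b) * c⁻¹ * (a * b * b)⁻¹ := by
      rw [hc', commutatorElement_def]; group
    have hab_mem : ⁅a, b⁆ ∈ powerClosure 2 1 D := by
      rw [hcomm]
      exact hEn _ (H.mul_mem (H.mul_mem haH hbH) hbH) _ (Subgroup.inv_mem _ hc)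
    have hba_mem : ⁅b, a⁆ ∈ powerClosure 2 1 D := by
      rw [← commutatorElement_inv]
      exact Subgroup.inv_mem _ hab_mem
    have hDE : D ≤ powerClosure 2 1 D := by
      have key := Cfsg.Agent.Lib.Helper15.commutator_closure_le ({a, b} : Set G)
        (powerClosure 2 1 D) (by rw [hH]; exact hEn) (by
          intro x hx y hy
          rcases hx with hx | hx <;> rcases hy with hy | hy
          · subst hx; subst hy; simp
          · rw [Set.mem_singleton_iff] at hy; subst hx; subst hy; exact hab_mem
          · rw [Set.mem_singleton_iff] at hx; subst hx; subst hy; exact hba_mem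
          · rw [Set.mem_singleton_iff] at hx hy; subst hx; subst hy; simp)
      rw [hH, hD] at key
      exact key
    have hDbot : D = ⊥ := by
      by_contra hne
      obtain ⟨M, hM, hpow⟩ := Cfsg.Agent.Lib.Helper15.exists_lt_pow_mem (p := 2) D
        (hG.to_subgroup D) hne
      have hEM : powerClosure 2 1 D ≤ M := by
        unfold powerClosure
        rw [Subgroup.closure_le]
        rintro y ⟨x, hx, rfl⟩
        simpa using hpow x hx
      exact absurd (hDE.trans hEM) (not_le_of_gt hM)
    have h1 : ⁅a, b⁆ ∈ D := by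
      rw [← hD]; exact Subgroup.commutator_mem_commutator haH hbH
    rw [hDbot, Subgroup.mem_bot] at h1
    exact commutatorElement_eq_one_iff_mul_comm.mp h1
  · intro h
    refine ⟨hG, fun a b n => ⟨1, Subgroup.one_mem _, ?_⟩⟩
    rw [mul_one]
    exact Commute.mul_pow (h a b) _

end Cfsg.Agent.S0642
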