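import Cfsg.Statements.S0644
import Mathlib
import Cfsg.Agent.Lib.Helper14.RegularP

set_option autoImplicit false
open Cfsg
open scoped commutatorElement

namespace Cfsg.Agent.S0644

/-- In a regular p-group the p^n-th powers of the elements of any subgroup H form a subgroup, whose derived subgroup is contained in the subgroup generated by the p^n-th powers of elements of the derived subgroup of H. -/
theorem result {G : Type*} [Group G] [Finite G] {p : ℕ} [Fact p.Prime] (hG : Cfsg.IsRegularPGroup p G) (H : Subgroup G) (n : ℕ) : {y : G | ∃ x ∈ H, y = x ^ (p ^ n)} = (Cfsg.powerClosure p n H : Set G) ∧ ⁅Cfsg.powerClosure p n H, Cfsg.powerClosure p n H⁆ ≤ Cfsg.powerClosure p n ⁅H, H⁆ := by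
  have hmul : ∀ u ∈ H, ∀ v ∈ H, ∃ c ∈ H, u ^ p ^ n * v ^ p ^ n = c ^ p ^ n := by
    intro u hu v hv
    obtain ⟨c, hc⟩ := Cfsg.Agent.Lib.Helper14.regular_pow_mul_pow p n (Nat.card H) ↥H rfl
      (Cfsg.Agent.Lib.Helper14.isRegularPGroup_subgroup hG H) ⟨u, hu⟩ ⟨v, hv⟩
    refine ⟨c.1, c.2, ?_⟩
    simpa [Subtype.ext_iff] using hc
  have hpow := Cfsg.Agent.Lib.Helper14.mem_powerClosure_of_mul_closed p n H hmul
  have hmono : ∀ L₁ L₂ : Subgroup G, L₁ ≤ L₂ → Cfsg.powerClosure p n L₁ ≤ Cfsg.powerClosure p n L₂ := by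
    intro L₁ L₂ h
    unfold Cfsg.powerClosure
    apply Subgroup.closure_mono
    rintro y ⟨x, hx, rfl⟩
    exact ⟨x, h hx, rfl⟩
  have hle : Cfsg.powerClosure p n H ≤ H := by
    unfold Cfsg.powerClosure
    rw [Subgroup.closure_le]
    rintro y ⟨x, hx, rfl⟩
    exact H.pow_mem hx _
  constructor
  · ext y
    constructor
    · intro hy
      exact Subgroup.subset_closure hy
    · intro hy
      exact hpow y hy
  · rw [Subgroup.commutator_le]
    intro g₁ hg₁ b hb
    obtain ⟨a, ha, rfl⟩ := hpow g₁ hg₁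
    have hbH : b ∈ H := hle hb
    have e1 : ⁅a ^ p ^ n, b⁆ = a ^ p ^ n * (a⁻¹ * ⁅a, b⁆) ^ p ^ n := by
      have : a⁻¹ * ⁅a, b⁆ = b * a⁻¹ * b⁻¹ := by rw [commutatorElement_def]; group
      rw [this, conj_pow, commutatorElement_def, inv_pow]
      group
    obtain ⟨d, hd, hreg⟩ := hG.2 a⁻¹ ⁅a, b⁆ n
    have hab : ⁅a, b⁆ ∈ ⁅H, H⁆ := Subgroup.commutator_mem_commutator ha hbH
    have hcl : Subgroup.closure ({a⁻¹, ⁅a, b⁆} : Set G) ≤ H := by
      rw [Subgroup.closure_le]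
      rintro z (rfl | rfl)
      · exact H.inv_mem ha
      · rw [commutatorElement_def]
        exact H.mul_mem (H.mul_mem (H.mul_mem ha hbH) (H.inv_mem ha)) (H.inv_mem hbH)
    have hd' : d ∈ Cfsg.powerClosure p n ⁅H, H⁆ :=
      hmono _ _ (Subgroup.commutator_mono hcl hcl) hd
    rw [e1, hreg, inv_pow, ← mul_assoc, ← mul_assoc, mul_inv_cancel, one_mul]
    apply Subgroup.mul_mem _ _ hd'
    exact Subgroup.subset_closure ⟨⁅a, b⁆, hab, rfl⟩


end Cfsg.Agent.S0644
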