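import Cfsg.Statements.S0643
import Mathlib
import Cfsg.Agent.Lib.Helper14.RegularP
import Cfsg.Agent.S0644

set_option autoImplicit false
open Cfsg
open scoped commutatorElement

namespace Cfsg.Agent.S0643

universe u

/-- Kemhadze's condition -/
def Kem (p : ℕ) (K : Type*) [Group K] : Prop :=
  ∀ a b : K, ∃ c ∈ ⁅Subgroup.closure ({a, b} : Set K), Subgroup.closure ({a, b} : Set K)⁆,
    (a * b) ^ p = a ^ p * b ^ p * c ^ p

theorem kem_subgroup {K : Type*} [Group K] {p : ℕ} (h : Kem p K) (M : Subgroup K) : Kem p ↥M := by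
  intro a b
  obtain ⟨c₀, hc₀, hc⟩ := h (a : K) (b : K)
  have hcl : Subgroup.closure ({(a : K), (b : K)} : Set K) =
      (Subgroup.closure ({a, b} : Set ↥M)).map M.subtype := by
    rw [MonoidHom.map_closure]
    congr 1
    ext z
    simp [Set.image_pair]
  rw [hcl, ← Subgroup.map_commutator] at hc₀
  obtain ⟨c, hcmem, rfl⟩ := hc₀
  refine ⟨c, hcmem, ?_⟩
  apply Subtype.ext
  simpa using hc

theorem kem_pow_mul_pow (p : ℕ) [Fact p.Prime] :
    ∀ n : ℕ, ∀ (K : Type u) [Group K] [Finite K], Nat.card K = n → IsPGroup p K → Kem p K →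
      ∀ a b : K, ∃ c : K, a ^ p * b ^ p = c ^ p := by
  intro n
  induction n using Nat.strong_induction_on with
  | _ n ih =>
  intro K _ _ hcard hKp hK a b
  have IH : ∀ M : Subgroup K, M ≠ ⊤ → ∀ u ∈ M, ∀ v ∈ M, ∃ c ∈ M, u ^ p * v ^ p = c ^ p := by
    intro M hM u hu v hv
    have hlt : Nat.card M < n := by
      rw [← hcard]
      have hle : Nat.card M ≤ Nat.card K := Subgroup.card_le_card_group M
      rcases Nat.lt_or_ge (Nat.card M) (Nat.card K) with h | h
      · exact h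
      · exact absurd (Subgroup.eq_top_of_card_eq M (le_antisymm hle h)) hM
    obtain ⟨c, hc⟩ := ih (Nat.card M) hlt ↥M rfl (hKp.to_subgroup M) (kem_subgroup hK M)
      ⟨u, hu⟩ ⟨v, hv⟩
    refine ⟨c.1, c.2, ?_⟩
    simpa [Subtype.ext_iff] using hc
  by_cases hcomm : a * b = b * a
  · exact ⟨a * b, ((show Commute a b from hcomm).mul_pow _).symm⟩
  by_cases hgen : Subgroup.closure ({a, b} : Set K) = ⊤
  swap
  · obtain ⟨c, -, hc⟩ := IH _ hgen a (Subgroup.subset_closure (by simp)) b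
      (Subgroup.subset_closure (by simp))
    exact ⟨c, hc⟩
  have hM : ∀ x : K, Subgroup.zpowers x ⊔ commutator K ≠ ⊤ := by
    intro x h
    exact hcomm (Cfsg.Agent.Lib.Helper14.comm_of_zpowers_sup_commutator hKp x h a b)
  obtain ⟨c, hc, hab⟩ := hK a b
  rw [hgen, ← commutator_def] at hc
  obtain ⟨e, -, he⟩ := IH _ (hM (a * b)) (a * b)
    (le_sup_left (b := commutator K) (Subgroup.mem_zpowers _)) c⁻¹
    (le_sup_right (a := Subgroup.zpowers (a * b)) (Subgroup.inv_mem _ hc))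
  refine ⟨e, ?_⟩
  rw [← he, hab, inv_pow, mul_assoc, mul_inv_cancel, mul_one]

theorem kem_level_one {G : Type*} [Group G] [Finite G] {p : ℕ} [Fact p.Prime] (hG : IsPGroup p G)
    (hK : Kem p G) (H : Subgroup G) :
    (∀ y ∈ powerClosure p 1 H, ∃ x ∈ H, y = x ^ p) ∧
      ⁅powerClosure p 1 H, powerClosure p 1 H⁆ ≤ powerClosure p 1 ⁅H, H⁆ := by
  have hmul : ∀ u ∈ H, ∀ v ∈ H, ∃ c ∈ H, u ^ p ^ 1 * v ^ p ^ 1 = c ^ p ^ 1 := by
    intro u hu v hv
    obtain ⟨c, hc⟩ := kem_pow_mul_pow p (Nat.card H) ↥H rfl (hG.to_subgroup H)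
      (kem_subgroup hK H) ⟨u, hu⟩ ⟨v, hv⟩
    refine ⟨c.1, c.2, ?_⟩
    simpa [Subtype.ext_iff] using hc
  have hpow := Cfsg.Agent.Lib.Helper14.mem_powerClosure_of_mul_closed p 1 H hmul
  have hpow' : ∀ y ∈ powerClosure p 1 H, ∃ x ∈ H, y = x ^ p := by
    intro y hy
    obtain ⟨x, hx, hxy⟩ := hpow y hy
    exact ⟨x, hx, by rw [hxy, pow_one]⟩
  have hmono : ∀ L₁ L₂ : Subgroup G, L₁ ≤ L₂ → powerClosure p 1 L₁ ≤ powerClosure p 1 L₂ := by
    intro L₁ L₂ h
    unfold powerClosure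
    apply Subgroup.closure_mono
    rintro y ⟨x, hx, rfl⟩
    exact ⟨x, h hx, rfl⟩
  have hle : powerClosure p 1 H ≤ H := by
    unfold powerClosure
    rw [Subgroup.closure_le]
    rintro y ⟨x, hx, rfl⟩
    exact H.pow_mem hx _
  refine ⟨hpow', ?_⟩
  rw [Subgroup.commutator_le]
  intro g₁ hg₁ b hb
  obtain ⟨a, ha, rfl⟩ := hpow' g₁ hg₁
  have hbH : b ∈ H := hle hb
  have e1 : ⁅a ^ p, b⁆ = a ^ p * (a⁻¹ * ⁅a, b⁆) ^ p := by
    have : a⁻¹ * ⁅a, b⁆ = b * a⁻¹ * b⁻¹ := by rw [commutatorElement_def]; group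
    rw [this, conj_pow, commutatorElement_def, inv_pow]
    group
  obtain ⟨d, hd, hreg⟩ := hK a⁻¹ ⁅a, b⁆
  have hab : ⁅a, b⁆ ∈ ⁅H, H⁆ := Subgroup.commutator_mem_commutator ha hbH
  have hcl : Subgroup.closure ({a⁻¹, ⁅a, b⁆} : Set G) ≤ H := by
    rw [Subgroup.closure_le]
    rintro z (rfl | rfl)
    · exact H.inv_mem ha
    · rw [commutatorElement_def]
      exact H.mul_mem (H.mul_mem (H.mul_mem ha hbH) (H.inv_mem ha)) (H.inv_mem hbH)
  have hd' : d ∈ ⁅H, H⁆ := Subgroup.commutator_mono hcl hcl hd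
  rw [e1, hreg, inv_pow, ← mul_assoc, ← mul_assoc, mul_inv_cancel, one_mul]
  apply Subgroup.mul_mem
  · exact Subgroup.subset_closure ⟨⁅a, b⁆, hab, by rw [pow_one]⟩
  · exact Subgroup.subset_closure ⟨d, hd', by rw [pow_one]⟩

theorem kem_regular {G : Type*} [Group G] [Finite G] {p : ℕ} [Fact p.Prime] (hG : IsPGroup p G)
    (hK : Kem p G) : ∀ k : ℕ, ∀ a b : G,
      ∃ c ∈ powerClosure p k ⁅Subgroup.closure ({a, b} : Set G), Subgroup.closure ({a, b} : Set G)⁆,
        (a * b) ^ (p ^ k) = a ^ (p ^ k) * b ^ (p ^ k) * c := by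
  intro k
  induction k with
  | zero =>
    intro a b
    exact ⟨1, one_mem _, by simp⟩
  | succ k ih =>
    intro a b
    set H := Subgroup.closure ({a, b} : Set G) with hH
    have haH : a ∈ H := Subgroup.subset_closure (by simp)
    have hbH : b ∈ H := Subgroup.subset_closure (by simp)
    obtain ⟨c, hc, hab⟩ := hK a b
    have hHH : ⁅H, H⁆ ≤ H := by
      rw [Subgroup.commutator_le]
      intro u hu v hv
      rw [commutatorElement_def]
      exact H.mul_mem (H.mul_mem (H.mul_mem hu hv) (H.inv_mem hu)) (H.inv_mem hv)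
    have hcH : c ∈ H := hHH hc
    obtain ⟨hL1, hL2⟩ := kem_level_one hG hK H
    obtain ⟨hD1, -⟩ := kem_level_one hG hK ⁅H, H⁆
    -- key containment
    have key : ∀ M : Subgroup G, M ≤ powerClosure p 1 H →
        powerClosure p k ⁅M, M⁆ ≤ powerClosure p (k + 1) ⁅H, H⁆ := by
      intro M hM
      unfold powerClosure
      rw [Subgroup.closure_le]
      rintro y ⟨z, hz, rfl⟩
      have hz1 : z ∈ powerClosure p 1 ⁅H, H⁆ := hL2 (Subgroup.commutator_mono hM hM hz)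
      obtain ⟨h, hh, rfl⟩ := hD1 z hz1
      apply Subgroup.subset_closure
      refine ⟨h, hh, ?_⟩
      rw [← pow_mul, pow_succ']
    have hpa : a ^ p ∈ powerClosure p 1 H :=
      Subgroup.subset_closure ⟨a, haH, by rw [pow_one]⟩
    have hpb : b ^ p ∈ powerClosure p 1 H :=
      Subgroup.subset_closure ⟨b, hbH, by rw [pow_one]⟩
    have hpc : c ^ p ∈ powerClosure p 1 H :=
      Subgroup.subset_closure ⟨c, hcH, by rw [pow_one]⟩
    obtain ⟨d1, hd1, h1⟩ := ih (a ^ p) (b ^ p * c ^ p)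
    obtain ⟨d2, hd2, h2⟩ := ih (b ^ p) (c ^ p)
    have hM1 : Subgroup.closure ({a ^ p, b ^ p * c ^ p} : Set G) ≤ powerClosure p 1 H := by
      rw [Subgroup.closure_le]
      rintro z (rfl | rfl)
      · exact hpa
      · exact Subgroup.mul_mem _ hpb hpc
    have hM2 : Subgroup.closure ({b ^ p, c ^ p} : Set G) ≤ powerClosure p 1 H := by
      rw [Subgroup.closure_le]
      rintro z (rfl | rfl)
      · exact hpb
      · exact hpc
    refine ⟨(c ^ p) ^ (p ^ k) * d2 * d1, ?_, ?_⟩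
    · apply Subgroup.mul_mem
      · apply Subgroup.mul_mem
        · apply Subgroup.subset_closure
          exact ⟨c, hc, by rw [← pow_mul, pow_succ']⟩
        · exact key _ hM2 hd2
      · exact key _ hM1 hd1
    · have e0 : (a * b) ^ (p ^ (k + 1)) = ((a * b) ^ p) ^ (p ^ k) := by
        rw [← pow_mul, pow_succ']
      have ea : a ^ (p ^ (k + 1)) = (a ^ p) ^ (p ^ k) := by rw [← pow_mul, pow_succ']
      have eb : b ^ (p ^ (k + 1)) = (b ^ p) ^ (p ^ k) := by rw [← pow_mul, pow_succ']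
      rw [e0, hab, mul_assoc (a ^ p), h1, h2, ea, eb]
      simp only [mul_assoc]

theorem result {G : Type*} [Group G] [Finite G] {p : ℕ} [Fact p.Prime] (hG : IsPGroup p G) : Cfsg.IsRegularPGroup p G ↔ ∀ a b : G, ∃ c ∈ ⁅Subgroup.closure ({a, b} : Set G), Subgroup.closure ({a, b} : Set G)⁆, (a * b) ^ p = a ^ p * b ^ p * c ^ p := by
  constructor
  · intro hreg a b
    obtain ⟨c, hc, hab⟩ := hreg.2 a b 1
    have h1 := (Cfsg.Agent.S0644.result hreg
      ⁅Subgroup.closure ({a, b} : Set G), Subgroup.closure ({a, b} : Set G)⁆ 1).1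
    have h2 : c ∈ {y : G | ∃ x ∈ ⁅Subgroup.closure ({a, b} : Set G),
        Subgroup.closure ({a, b} : Set G)⁆, y = x ^ (p ^ 1)} := by
      rw [h1]; exact hc
    obtain ⟨x, hx, rfl⟩ := h2
    refine ⟨x, hx, ?_⟩
    rw [pow_one] at hab
    exact hab
  · intro h
    exact ⟨hG, fun a b n => kem_regular hG h n a b⟩

end Cfsg.Agent.S0643
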