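import Cfsg.Statements.S0647

set_option autoImplicit false
open Cfsg

namespace Cfsg.Agent.S0647

/-- For a nonempty family of maximal abelian subgroups of a finite group, the intersection of the family is the centre of the subgroup it generates, which is also the full centralizer of that subgroup. -/
theorem result {S : Type*} [Group S] [Finite S] (𝒜 : Set (Subgroup S)) (hne : 𝒜.Nonempty) (hab : ∀ A ∈ 𝒜, IsMulCommutative A) (hmax : ∀ A ∈ 𝒜, ∀ B : Subgroup S, IsMulCommutative B → A ≤ B → B = A) : sInf 𝒜 = sSup 𝒜 ⊓ Subgroup.centralizer ((sSup 𝒜 : Subgroup S) : Set S) ∧ sInf 𝒜 = Subgroup.centralizer ((sSup 𝒜 : Subgroup S) : Set S) := by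
  have h1 : sInf 𝒜 ≤ sSup 𝒜 := by
    obtain ⟨A, hA⟩ := hne
    exact (sInf_le hA).trans (le_sSup hA)
  have h2 : sInf 𝒜 ≤ Subgroup.centralizer ((sSup 𝒜 : Subgroup S) : Set S) := by
    intro x hx
    have hsup : sSup 𝒜 ≤ Subgroup.centralizer {x} := by
      apply sSup_le
      intro A hA y hy
      rw [Subgroup.mem_centralizer_iff]
      intro z hz
      rw [Set.mem_singleton_iff] at hz; subst hz
      have hxA : z ∈ A := (Subgroup.mem_sInf.mp hx) A hA
      haveI := hab A hA
      exact setLike_mul_comm hxA hy
    rw [Subgroup.mem_centralizer_iff]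
    intro h hh
    have := hsup hh
    rw [Subgroup.mem_centralizer_iff] at this
    exact (this x rfl).symm
  have h3 : Subgroup.centralizer ((sSup 𝒜 : Subgroup S) : Set S) ≤ sInf 𝒜 := by
    intro x hx
    rw [Subgroup.mem_sInf]
    intro A hA
    haveI := hab A hA
    have hB : IsMulCommutative (Subgroup.closure ((A : Set S) ∪ {x})) := by
      apply Subgroup.isMulCommutative_closure
      rw [Subgroup.mem_centralizer_iff] at hx
      rintro a (ha | ha) b (hb | hb)
      · exact setLike_mul_comm ha hb
      · rw [Set.mem_singleton_iff] at hb; subst hb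
        exact (hx a (le_sSup hA ha))
      · rw [Set.mem_singleton_iff] at ha; subst ha
        exact (hx b (le_sSup hA hb)).symm
      · rw [Set.mem_singleton_iff] at ha hb; subst ha; subst hb; rfl
    have hle : A ≤ Subgroup.closure ((A : Set S) ∪ {x}) := by
      intro a ha
      exact Subgroup.subset_closure (Or.inl ha)
    have := hmax A hA _ hB hle
    rw [← this]
    exact Subgroup.subset_closure (Or.inr rfl)
  refine ⟨le_antisymm (le_inf h1 h2) (inf_le_right.trans h3), le_antisymm h2 h3⟩

end Cfsg.Agent.S0647
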