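import Cfsg.Statements.S0652
import Mathlib
import Cfsg.Agent.Lib.Helper15.Replacement

set_option autoImplicit false
open Cfsg

namespace Cfsg.Agent.S0652

open Cfsg.Agent.Lib.Helper15

theorem result {S : Type*} [Group S] [Finite S] {p : ℕ} [Fact p.Prime] (hS : IsPGroup p S) (hp : p ≠ 2) (D : Subgroup S) [D.Normal] : ∀ (B : Subgroup S) [B.Normal], ⁅⁅B, B⁆, B⁆ = ⊥ → (∃ U ∈ (Set.image (fun A : Subgroup ↥D => A.map D.subtype) (Cfsg.maxElementaryAbelianSubgroups p ↥D)), ⁅B, B⁆ ≤ U ∧ ¬ B ≤ U) → ∃ A ∈ (Set.image (fun A : Subgroup ↥D => A.map D.subtype) (Cfsg.maxElementaryAbelianSubgroups p ↥D)), ⁅B, B⁆ ≤ A ∧ ¬ B ≤ A ∧ B ≤ Subgroup.normalizer (A : Set S) := by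
  intro B _ _ hex
  obtain ⟨U, hUmem, hBU, hnBU⟩ := hex
  have hUD : U ≤ D := by
    obtain ⟨U₀, -, rfl⟩ := hUmem
    exact Subgroup.map_subtype_le _
  have hUc : IsMulCommutative U := by
    obtain ⟨U₀, hU₀, rfl⟩ := hUmem
    haveI := hU₀.1.1
    exact Subgroup.map_isMulCommutative _ _
  refine replacement_iterate hS hp D B
    (fun U => U ∈ (Set.image (fun A : Subgroup ↥D => A.map D.subtype)
      (Cfsg.maxElementaryAbelianSubgroups p ↥D)))
    ?_ U hUmem hUD hUc hBU hnBU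
  rintro U U' ⟨U₀, hU₀, rfl⟩ hU'D hU'c hcard hexp
  refine ⟨U'.subgroupOf D, ⟨⟨?_, ?_⟩, ?_⟩, Subgroup.map_subgroupOf_eq_of_le hU'D⟩
  · haveI := hU'c
    infer_instance
  · -- exponent p
    intro a ha
    rw [Subgroup.mem_subgroupOf] at ha
    have hexpU : Monoid.exponent ↥(U₀.map D.subtype) ∣ p := by
      apply Monoid.exponent_dvd_of_forall_pow_eq_one
      rintro ⟨_, ⟨u, hu, rfl⟩⟩
      apply Subtype.ext
      have := hU₀.1.2 u hu
      simp only [Subgroup.coe_pow, Subgroup.coe_one]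
      have h2 : (D.subtype u) ^ p = D.subtype (u ^ p) := (map_pow D.subtype u p).symm
      rw [h2, this, map_one]
    have h3 : Monoid.exponent ↥U' ∣ p := hexp.trans hexpU
    have h4 : (⟨(a : S), ha⟩ : U') ^ p = 1 :=
      (Monoid.exponent_dvd_iff_forall_pow_eq_one.mp h3) _
    have h5 := congrArg Subtype.val h4
    simp only [Subgroup.coe_pow, Subgroup.coe_one] at h5
    apply Subtype.ext
    simpa using h5
  · intro B₀ hB₀
    have h1 := hU₀.2 B₀ hB₀
    have h2 : Nat.card ↥(U'.subgroupOf D) = Nat.card U' :=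
      Nat.card_congr (Subgroup.subgroupOfEquivOfLe hU'D).toEquiv
    have h3 : Nat.card ↥(U₀.map D.subtype) = Nat.card U₀ :=
      Subgroup.card_map_of_injective D.subtype_injective
    rw [h2, hcard, h3]
    exact h1

end Cfsg.Agent.S0652
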