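import Cfsg.Statements.S0656
import Mathlib
import Cfsg.Agent.Lib.Lead.QuadNatE
import Cfsg.Agent.Lib.Lead.BaerSuzuki
import Cfsg.Agent.Lib.Helper15.QuadSolv
import Cfsg.Agent.Lib.Helper2.Cores

set_option autoImplicit false
open Cfsg

namespace Cfsg.Agent.S0656

open Cfsg.Agent.Lib.Helper15.QuadInternal in
/-- Module form. -/
theorem exists_sl2_module (p : ℕ) [Fact p.Prime] (hp : p ≠ 2) {A : Type*} [CommGroup A] [Finite A]
    [Module (ZMod p) (Additive A)] {H : Type*} [Group H] [Finite H] (θ : H →* MulAut A)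
    (hker : θ.ker = ⊥) (hO : Cfsg.pCore p H = ⊥) (x : H) (hx1 : x ≠ 1)
    (hq : ∀ v : A, θ x (θ x v / v) = θ x v / v) :
    ∃ (K₀ : Subgroup H) (θ' : K₀ →* Matrix.SpecialLinearGroup (Fin 2) (ZMod p)),
      Function.Surjective θ' := by
  classical
  have hfin : Finite (Additive A) := inferInstanceAs (Finite A)
  obtain ⟨ρ, hρ⟩ : ∃ ρ : Representation (ZMod p) H (Additive A), ρ = linRep p θ := ⟨_, rfl⟩
  have hρker : ρ.ker = ⊥ := by rw [hρ, linRep_ker, hker]
  have hqx : (ρ x - 1) * (ρ x - 1) = 0 := by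
    rw [hρ]
    exact linRep_quad p θ x hq
  have conj_quad : ∀ g : H, (ρ (g * x * g⁻¹) - 1) * (ρ (g * x * g⁻¹) - 1) = 0 := by
    intro g
    have h1 : ρ g * ρ g⁻¹ = 1 := by rw [← map_mul, mul_inv_cancel, map_one]
    have h2 : ρ g⁻¹ * ρ g = 1 := by rw [← map_mul, inv_mul_cancel, map_one]
    have h3 : ρ (g * x * g⁻¹) - 1 = ρ g * (ρ x - 1) * ρ g⁻¹ := by
      rw [map_mul, map_mul, mul_sub, sub_mul, mul_one, h1]
    rw [h3]
    calc ρ g * (ρ x - 1) * ρ g⁻¹ * (ρ g * (ρ x - 1) * ρ g⁻¹)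
        = ρ g * ((ρ x - 1) * (ρ g⁻¹ * ρ g) * (ρ x - 1)) * ρ g⁻¹ := by noncomm_ring
      _ = 0 := by rw [h2, mul_one, hqx, mul_zero, zero_mul]
  let K : Set H := {y | ∃ g : H, y = g * x * g⁻¹}
  have hK : ∀ g y, y ∈ K → g * y * g⁻¹ ∈ K := by
    rintro g _ ⟨a, rfl⟩
    exact ⟨g * a, by group⟩
  by_cases hall : ∀ y₁ ∈ K, ∀ y₂ ∈ K, IsPGroup p (Subgroup.closure ({y₁, y₂} : Set H))
  · exfalso
    obtain ⟨hn, hpg⟩ := Cfsg.Agent.Lib.Lead.baer_suzuki_closure K hK hall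
    have hle := Cfsg.Agent.Lib.Helper2.le_pCore hn hpg
    rw [hO] at hle
    have hxK : x ∈ Subgroup.closure K := Subgroup.subset_closure ⟨1, by simp⟩
    have := hle hxK
    rw [Subgroup.mem_bot] at this
    exact hx1 this
  · push_neg at hall
    obtain ⟨y₁, ⟨g₁, rfl⟩, y₂, ⟨g₂, rfl⟩, hnot⟩ := hall
    have hnp : ¬ ∀ g ∈ Subgroup.closure {g₁ * x * g₁⁻¹, g₂ * x * g₂⁻¹},
        ∃ k : ℕ, g ^ p ^ k ∈ ρ.ker := by
      intro h
      apply hnot
      intro g
      obtain ⟨k, hk⟩ := h g g.2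
      rw [hρker, Subgroup.mem_bot] at hk
      exact ⟨k, Subtype.ext (by simpa using hk)⟩
    obtain ⟨K₀, θ', e, hK₀, hsurj, -, -⟩ := Cfsg.Agent.Lib.Lead.QuadNatural.main p hp ρ
      (g₁ * x * g₁⁻¹) (g₂ * x * g₂⁻¹) (conj_quad g₁) (conj_quad g₂) hnp
    exact ⟨K₀, θ', hsurj⟩

/-- `MulAut` form: a faithful action on an elementary abelian `p`-group of a group with trivial
`p`-core containing a nontrivial quadratic element yields a subgroup mapping onto `SL(2,p)`. -/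
theorem exists_sl2_mulAut (p : ℕ) [Fact p.Prime] (hp : p ≠ 2) {A : Type*} [CommGroup A] [Finite A]
    (hexp : ∀ a : A, a ^ p = 1) {H : Type*} [Group H] [Finite H] (θ : H →* MulAut A)
    (hker : θ.ker = ⊥) (hO : Cfsg.pCore p H = ⊥) (x : H) (hx1 : x ≠ 1)
    (hq : ∀ v : A, θ x (θ x v / v) = θ x v / v) :
    ∃ (K₀ : Subgroup H) (θ' : K₀ →* Matrix.SpecialLinearGroup (Fin 2) (ZMod p)),
      Function.Surjective θ' := by
  let _ : Module (ZMod p) (Additive A) := AddCommGroup.zmodModule (by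
    intro v
    exact congrArg Additive.ofMul (hexp v.toMul))
  exact exists_sl2_module p hp θ hker hO x hx1 hq

open Cfsg.Agent.Lib.Helper15.QuadInternal in
/-- For odd p, a faithful group on an elementary abelian p-group with no nontrivial normal p-subgroup in which some nontrivial p-element acts quadratically has a section isomorphic to SL(2, p). -/
theorem result {G : Type*} [Group G] [Finite G] {p : ℕ} [Fact p.Prime] (hp : p ≠ 2) (V H : Subgroup G) (hV : Cfsg.IsElementaryAbelian p V) (hHV : H ≤ Subgroup.normalizer (V : Set G)) (hf : H ⊓ Subgroup.centralizer (V : Set G) = ⊥) (hO : Cfsg.pCore p ↥H = ⊥) (x : G) (hxH : x ∈ H) (hx1 : x ≠ 1) (hxp : ∃ k : ℕ, orderOf x = p ^ k) (hq : ⁅⁅V, Subgroup.zpowers x⁆, Subgroup.zpowers x⁆ = ⊥) : ∃ (K L : Subgroup G) (hL : (L.subgroupOf K).Normal), K ≤ H ∧ Nonempty ((K ⧸ L.subgroupOf K) ≃* Matrix.SpecialLinearGroup (Fin 2) (ZMod p)) := by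
  classical
  obtain ⟨hVcomm, hVe⟩ := hV
  letI : CommGroup V :=
    { (inferInstance : Group V) with
      mul_comm := fun a b => hVcomm.is_comm.comm a b }
  have hexp : ∀ v : V, v ^ p = 1 := fun v => Subtype.ext (by simpa using hVe v v.2)
  let θ : H →* MulAut V := V.normalizerMonoidHom.comp (Subgroup.inclusion hHV)
  have hθ : ∀ (h : H) (v : V), ((θ h v : V) : G) = (h : G) * v * (h : G)⁻¹ := fun h v => rfl
  have hker : θ.ker = ⊥ := by
    rw [eq_bot_iff]
    intro g hg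
    rw [MonoidHom.mem_ker] at hg
    rw [Subgroup.mem_bot]
    have hgc : (g : G) ∈ Subgroup.centralizer (V : Set G) := by
      rw [Subgroup.mem_centralizer_iff]
      intro v hv
      have := congrArg (fun f : MulAut V => ((f ⟨v, hv⟩ : V) : G)) hg
      simp only [hθ] at this
      have h2 : (g : G) * v * (g : G)⁻¹ = v := this
      have h3 : (g : G) * v = v * g := by
        have := congrArg (· * (g : G)) h2
        simpa using this
      exact h3.symm
    have : (g : G) ∈ H ⊓ Subgroup.centralizer (V : Set G) := Subgroup.mem_inf.2 ⟨g.2, hgc⟩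
    rw [hf, Subgroup.mem_bot] at this
    exact Subtype.ext this
  have hqx : ∀ v : V, θ ⟨x, hxH⟩ (θ ⟨x, hxH⟩ v / v) = θ ⟨x, hxH⟩ v / v := by
    intro v
    apply Subtype.ext
    rw [hθ]
    have h1 : ((θ ⟨x, hxH⟩ v / v : V) : G) = x * v * x⁻¹ * (v : G)⁻¹ := by
      rw [div_eq_mul_inv, Subgroup.coe_mul, hθ, Subgroup.coe_inv]
    rw [h1]
    exact quad_elem V x hq v v.2
  have hx1' : (⟨x, hxH⟩ : H) ≠ 1 := fun h => hx1 (congrArg Subtype.val h)
  obtain ⟨K₀, θ', hsurj⟩ := exists_sl2_mulAut p hp hexp θ hker hO ⟨x, hxH⟩ hx1' hqx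
  exact Cfsg.Agent.Lib.Helper15.QuadSolv.section_of_surjective H K₀ θ' hsurj

end Cfsg.Agent.S0656
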