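import Cfsg.Statements.S0657
import Cfsg.Agent.Lib.Helper11.QuadFree2

set_option autoImplicit false
open Cfsg

namespace Cfsg.Agent.S0657

open Cfsg.Agent.Lib.Helper11.QuadFree

/-- For odd p, a group that fails to be p-stable modulo its largest normal subgroup of order prime to p, and whose upper p-series does not stop there, has a section isomorphic to SL(2, p). -/
theorem result {G : Type*} [Group G] [Finite G] {p : ℕ} [Fact p.Prime] (hp : p ≠ 2) (hO : Cfsg.pPrimeCore p G < Cfsg.pPrimePCore p G) (hns : ¬ Cfsg.IsPStable p (G ⧸ Cfsg.pPrimeCore p G)) : ∃ (K L : Subgroup G) (hL : (L.subgroupOf K).Normal), K ≤ ⊤ ∧ Nonempty ((K ⧸ L.subgroupOf K) ≃* Matrix.SpecialLinearGroup (Fin 2) (ZMod p)) := by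
  classical
  by_contra hcon
  have hfree : SL2Free p G := by
    rintro ⟨K, R, hR, e⟩
    exact hcon ⟨K, R, hR, le_top, e⟩
  have hfreeQ : SL2Free p (G ⧸ Cfsg.pPrimeCore p G) :=
    sl2Free_of_surjective (QuotientGroup.mk' _) (QuotientGroup.mk'_surjective _) hfree
  have hnps : Cfsg.IsNormalizerPStable p (G ⧸ Cfsg.pPrimeCore p G) := nps_of_sl2Free hp hfreeQ
  apply hns
  refine ⟨?_, ?_, ?_⟩
  · rcases (Fact.out : p.Prime).eq_two_or_odd' with h | h
    · exact absurd h hp
    · exact h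
  · intro h
    apply hO.ne
    unfold Cfsg.pPrimePCore
    rw [h]
    ext x
    rw [Subgroup.mem_comap, Subgroup.mem_bot, QuotientGroup.mk'_apply, QuotientGroup.eq_one_iff]
  · intro A P hA hP hAP hPle hnorm hquad
    rintro _ ⟨a, ha, rfl⟩
    have haA : (a : G ⧸ Cfsg.pPrimeCore p G) ∈ A := Subgroup.mem_subgroupOf.mp ha
    have hq : ⁅⁅P, Subgroup.zpowers (a : G ⧸ Cfsg.pPrimeCore p G)⁆,
        Subgroup.zpowers (a : G ⧸ Cfsg.pPrimeCore p G)⁆ = ⊥ := by
      rw [eq_bot_iff, ← hquad]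
      have hz : Subgroup.zpowers (a : G ⧸ Cfsg.pPrimeCore p G) ≤ A := Subgroup.zpowers_le.mpr haA
      exact Subgroup.commutator_mono (Subgroup.commutator_mono le_rfl hz) hz
    exact hnps P hP (a : G ⧸ Cfsg.pPrimeCore p G) a.2 hq

end Cfsg.Agent.S0657
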