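import Cfsg.Statements.S0660
import Mathlib
import Cfsg.Agent.Lib.Helper14.ExtCoprime

set_option autoImplicit false
open Cfsg

namespace Cfsg.Agent.S0660

open Cfsg.Agent.Lib.Helper14

/-- conjugation action of a normalizing subgroup -/
@[reducible] def conjAct {G : Type*} [Group G] (V A : Subgroup G)
    (hAV : A ≤ Subgroup.normalizer (V : Set G)) : MulDistribMulAction A V where
  smul a v := ⟨a * v * (a : G)⁻¹, (Subgroup.mem_normalizer_iff.mp (hAV a.2) v).mp v.2⟩
  one_smul := by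
    intro v
    apply Subtype.ext
    change ((1 : A) : G) * v * ((1 : A) : G)⁻¹ = v
    simp
  mul_smul := by
    intro a b v
    apply Subtype.ext
    change ((a * b : A) : G) * v * ((a * b : A) : G)⁻¹ = a * (b * v * (b : G)⁻¹) * (a : G)⁻¹
    simp [mul_assoc]
  smul_mul := by
    intro a v w
    apply Subtype.ext
    change (a : G) * ((v * w : V) : G) * (a : G)⁻¹ = (a * v * (a : G)⁻¹) * (a * w * (a : G)⁻¹)
    simp [mul_assoc]
  smul_one := by
    intro a
    apply Subtype.ext
    change (a : G) * ((1 : V) : G) * (a : G)⁻¹ = ((1 : V) : G)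
    simp

/-- Under a coprime action on an abelian group, an invariant subgroup that is complemented admits an invariant complement. -/
theorem result {G : Type*} [Group G] [Finite G] (V A U : Subgroup G) (hVab : IsMulCommutative V) (hAV : A ≤ Subgroup.normalizer (V : Set G)) (hcop : (Nat.card A).Coprime (Nat.card V)) (hUV : U ≤ V) (hAU : A ≤ Subgroup.normalizer (U : Set G)) (W : Subgroup G) (hWV : W ≤ V) (hUW : U ⊓ W = ⊥) (hUWV : U ⊔ W = V) : ∃ W' : Subgroup G, W' ≤ V ∧ A ≤ Subgroup.normalizer (W' : Set G) ∧ U ⊓ W' = ⊥ ∧ U ⊔ W' = V := by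
  let instC : CommGroup V := { (inferInstance : Group V) with mul_comm := fun a b => mul_comm' a b }
  let instA : MulDistribMulAction A V := conjAct V A hAV
  have hsm : ∀ (a : A) (v : V), ((a • v : V) : G) = a * v * (a : G)⁻¹ := fun a v => rfl
  have hU' : ∀ a : A, ∀ u ∈ U.subgroupOf V, a • u ∈ U.subgroupOf V := by
    intro a u hu
    rw [Subgroup.mem_subgroupOf] at hu ⊢
    rw [hsm]
    exact (Subgroup.mem_normalizer_iff.mp (hAU a.2) u).mp hu
  have h1 : U.subgroupOf V ⊓ W.subgroupOf V = ⊥ := by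
    rw [eq_bot_iff]
    rintro x ⟨hxU, hxW⟩
    rw [Subgroup.mem_bot]
    apply Subtype.ext
    have : (x : G) ∈ U ⊓ W := ⟨hxU, hxW⟩
    rw [hUW, Subgroup.mem_bot] at this
    exact this
  have h2 : U.subgroupOf V ⊔ W.subgroupOf V = ⊤ := by
    rw [← Subgroup.subgroupOf_sup hUV hWV, hUWV, Subgroup.subgroupOf_self]
  have hcop' : (Nat.card A).Coprime (Nat.card V) := hcop
  obtain ⟨W', hW'inv, hW'1, hW'2⟩ :=
    maschke_commGroup (V := V) (A := A) hcop' (U.subgroupOf V) (W.subgroupOf V) hU' h1 h2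
  refine ⟨W'.map V.subtype, Subgroup.map_subtype_le _, ?_, ?_, ?_⟩
  · intro a ha
    rw [Subgroup.mem_normalizer_iff]
    have key : ∀ (b : G) (hb : b ∈ A), ∀ h ∈ W'.map V.subtype, b * h * b⁻¹ ∈ W'.map V.subtype := by
      rintro b hb _ ⟨w, hw, rfl⟩
      exact ⟨(⟨b, hb⟩ : A) • w, hW'inv ⟨b, hb⟩ w hw, rfl⟩
    intro h
    constructor
    · exact key a ha h
    · intro hh
      have := key a⁻¹ (A.inv_mem ha) _ hh
      simpa [mul_assoc] using this
  · rw [eq_bot_iff]
    rintro x ⟨hxU, ⟨w, hw, rfl⟩⟩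
    rw [Subgroup.mem_bot]
    have : w ∈ U.subgroupOf V ⊓ W' := ⟨Subgroup.mem_subgroupOf.mpr hxU, hw⟩
    rw [hW'1, Subgroup.mem_bot] at this
    rw [this]
    rfl
  · have h3 : U = (U.subgroupOf V).map V.subtype := (Subgroup.map_subgroupOf_eq_of_le hUV).symm
    conv_lhs => rw [h3]
    rw [← Subgroup.map_sup, hW'2, ← MonoidHom.range_eq_map, Subgroup.range_subtype]

end Cfsg.Agent.S0660
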