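import Mathlib
import Cfsg.Statements.S0661
import Cfsg.Agent.Lib.Helper2.Cores
import Cfsg.Agent.Lib.Helper1.ThompsonAxB
import Cfsg.Agent.Lib.Helper1.FusionLift

set_option autoImplicit false
open Cfsg

namespace Cfsg.Agent.S0661

open Cfsg.Agent.Lib.Helper1 Cfsg.Agent.Lib.Helper29

/-- If, modulo the largest normal subgroup of order prime to p, the largest normal p-subgroup contains its centralizer, then for every p-subgroup P the p'-core of N_G(P) is just O_p'(G) ∩ N_G(P). -/
theorem result {G : Type*} [Group G] [Finite G] {p : ℕ} [Fact p.Prime] (hc : Subgroup.centralizer (Cfsg.pCore p (G ⧸ Cfsg.pPrimeCore p G) : Set (G ⧸ Cfsg.pPrimeCore p G)) ≤ Cfsg.pCore p (G ⧸ Cfsg.pPrimeCore p G)) (P : Subgroup G) (hP : IsPGroup p P) : (Cfsg.pPrimeCore p ↥(Subgroup.normalizer (P : Set G))).map (Subgroup.normalizer (P : Set G)).subtype = Cfsg.pPrimeCore p G ⊓ Subgroup.normalizer (P : Set G) := by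
  have hp : p.Prime := Fact.out
  have hOcop : (Nat.card (pPrimeCore p G)).Coprime p := Cfsg.Agent.Lib.Helper2.pPrimeCore_coprime p
  have hOn : (pPrimeCore p G).Normal := inferInstance
  set L := Subgroup.normalizer (P : Set G) with hL
  set K := (Cfsg.pPrimeCore p ↥L).map L.subtype with hK
  have hKL : K ≤ L := Subgroup.map_subtype_le _
  have hKcop : (Nat.card K).Coprime p := by
    rw [hK, Subgroup.card_map_of_injective L.subtype_injective]
    exact Cfsg.Agent.Lib.Helper2.pPrimeCore_coprime p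
  have hKnorm : L ≤ Subgroup.normalizer (K : Set G) := by
    apply le_normalizer_of_forall_cj_le
    rintro l hl _ ⟨_, ⟨k, hk, rfl⟩, rfl⟩
    have hn : (pPrimeCore p ↥L).Normal := inferInstance
    exact ⟨⟨l, hl⟩ * k * ⟨l, hl⟩⁻¹, hn.conj_mem k hk ⟨l, hl⟩, rfl⟩
  have hPL : P ≤ L := Subgroup.le_normalizer
  have hKPbot : K ⊓ P = ⊥ :=
    Subgroup.inf_eq_bot_of_coprime (coprime_card_of_isPGroup p K P hP hKcop)
  apply le_antisymm
  · -- K ≤ O ⊓ L
    refine le_inf ?_ hKL
    -- K centralizes P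
    have hKP : K ≤ Subgroup.centralizer (P : Set G) := by
      intro k hk
      rw [Subgroup.mem_centralizer_iff]
      intro x hx
      have h1 : k * x * k⁻¹ * x⁻¹ ∈ K ⊓ P := by
        refine Subgroup.mem_inf.mpr ⟨?_, ?_⟩
        · have h2 : x * k⁻¹ * x⁻¹ ∈ K :=
            (Subgroup.mem_normalizer_iff.mp (hKnorm (hPL hx)) k⁻¹).mp (K.inv_mem hk)
          have e : k * x * k⁻¹ * x⁻¹ = k * (x * k⁻¹ * x⁻¹) := by group
          rw [e]; exact K.mul_mem hk h2
        · have h2 : k * x * k⁻¹ ∈ P := (Subgroup.mem_normalizer_iff.mp (hKL hk) x).mp hx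
          exact P.mul_mem h2 (P.inv_mem hx)
      rw [hKPbot, Subgroup.mem_bot] at h1
      calc x * k = (k * x * k⁻¹ * x⁻¹)⁻¹ * (k * x) := by group
        _ = k * x := by rw [h1]; group
    set π := QuotientGroup.mk' (pPrimeCore p G) with hπ
    have hQp : IsPGroup p (pCore p (G ⧸ pPrimeCore p G)) := Cfsg.Agent.Lib.Helper2.pCore_isPGroup p
    have hQn : (pCore p (G ⧸ pPrimeCore p G)).Normal := inferInstance
    have hKbar_cop : (Nat.card (K.map π)).Coprime p :=
      Nat.Coprime.coprime_dvd_left (Subgroup.card_map_dvd K π) hKcop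
    have hPbar : IsPGroup p (P.map π) := hP.map π
    have hKPbar : K.map π ≤ Subgroup.centralizer ((P.map π : Subgroup _) : Set (G ⧸ pPrimeCore p G)) := by
      rintro _ ⟨k, hk, rfl⟩
      rw [Subgroup.mem_centralizer_iff]
      rintro _ ⟨x, hx, rfl⟩
      rw [← map_mul, ← map_mul, Subgroup.mem_centralizer_iff.mp (hKP hk) x hx]
    have hKQbot : K.map π ⊓ pCore p (G ⧸ pPrimeCore p G) = ⊥ :=
      Subgroup.inf_eq_bot_of_coprime (coprime_card_of_isPGroup p _ _ hQp hKbar_cop)
    have hnormQ : ∀ X : Subgroup (G ⧸ pPrimeCore p G),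
        X ≤ Subgroup.normalizer ((pCore p (G ⧸ pPrimeCore p G) : Subgroup _) : Set _) := by
      intro X x _
      rw [Subgroup.mem_normalizer_iff]
      intro y
      exact ⟨fun hy => hQn.conj_mem y hy x, fun hy => by
        have := hQn.conj_mem _ hy x⁻¹
        simpa [mul_assoc] using this⟩
    -- P is the Sylow p-subgroup of P ⊔ O
    have hPsyl : IsSylowSub p P (P ⊔ pPrimeCore p G) := by
      obtain ⟨S, hPS, hSM, hS⟩ := exists_isSylowSub_ge (p := p) (le_sup_left : P ≤ P ⊔ pPrimeCore p G) hP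
      have hSp : IsPGroup p S := hS.isPGroup hSM
      have h1 : Nat.card S ∣ Nat.card (P ⊔ pPrimeCore p G : Subgroup G) := Subgroup.card_dvd_of_le hSM
      have h2 : Nat.card (P ⊔ pPrimeCore p G : Subgroup G) ∣ Nat.card P * Nat.card (pPrimeCore p G) :=
        Cfsg.Agent.Lib.Helper2.card_sup_dvd_of_normal P (pPrimeCore p G)
      have h3 : (Nat.card S).Coprime (Nat.card (pPrimeCore p G)) :=
        (coprime_card_of_isPGroup p _ S hSp hOcop).symm
      have h4 : Nat.card S ∣ Nat.card P := h3.dvd_of_dvd_mul_right (h1.trans h2)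
      have h5 : S = P := (Subgroup.eq_of_le_of_card_ge hPS (Nat.le_of_dvd Nat.card_pos h4)).symm
      subst h5; exact hS
    have key : K.map π ≤ Subgroup.centralizer
        ((pCore p (G ⧸ pPrimeCore p G) ⊓ Subgroup.centralizer ((P.map π : Subgroup _) : Set _) :
          Subgroup _) : Set (G ⧸ pPrimeCore p G)) := by
      rintro _ ⟨k, hk, rfl⟩
      rw [Subgroup.mem_centralizer_iff]
      intro rbar hrbar
      have hrQ : rbar ∈ pCore p (G ⧸ pPrimeCore p G) := hrbar.1
      have hrC : rbar ∈ Subgroup.centralizer ((P.map π : Subgroup _) : Set _) := hrbar.2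
      obtain ⟨r, rfl⟩ := QuotientGroup.mk'_surjective (pPrimeCore p G) rbar
      -- cj r P ≤ P ⊔ O
      have hrP : cj r P ≤ P ⊔ pPrimeCore p G := by
        rintro _ ⟨x, hx, rfl⟩
        show r * x * r⁻¹ ∈ P ⊔ pPrimeCore p G
        have h1 : π x * π r = π r * π x :=
          Subgroup.mem_centralizer_iff.mp hrC (π x) ⟨x, hx, rfl⟩
        have h2 : r * x * r⁻¹ * x⁻¹ ∈ pPrimeCore p G := by
          rw [← QuotientGroup.eq_one_iff]
          show π (r * x * r⁻¹ * x⁻¹) = 1
          rw [map_mul, map_mul, map_mul, map_inv, map_inv, ← h1]; group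
        have e : r * x * r⁻¹ = (r * x * r⁻¹ * x⁻¹) * x := by group
        rw [e]
        exact Subgroup.mul_mem _ (Subgroup.mem_sup_right h2) (Subgroup.mem_sup_left hx)
      obtain ⟨m, hm, hmle⟩ := exists_cj_le_of_isSylowSub hPsyl hrP (isPGroup_cj hP)
      have heq : cj (m * r) P = P := by
        rw [← cj_cj]
        exact Subgroup.eq_of_le_of_card_ge hmle (by rw [card_cj, card_cj])
      have hmrL : m * r ∈ L := mem_normalizer_of_cj_eq heq
      have hPnO : P ≤ Subgroup.normalizer ((pPrimeCore p G : Subgroup G) : Set G) :=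
        fun l _ => mem_normalizer_of_cj_eq (cj_normal _ l)
      obtain ⟨x, hx, o, ho, hmxo⟩ := mem_sup_of_le_normalizer hPnO hm
      have horL : o * r ∈ L := by
        have e : o * r = x⁻¹ * (m * r) := by rw [hmxo]; group
        rw [e]
        exact L.mul_mem (L.inv_mem (hPL hx)) hmrL
      have hπor : π (o * r) = π r := by
        rw [map_mul]
        have : π o = 1 := (QuotientGroup.eq_one_iff o).mpr ho
        rw [this, one_mul]
      -- commutator
      have hcK : (o * r) * k * (o * r)⁻¹ * k⁻¹ ∈ K := by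
        have h2 : (o * r) * k * (o * r)⁻¹ ∈ K :=
          (Subgroup.mem_normalizer_iff.mp (hKnorm horL) k).mp hk
        exact K.mul_mem h2 (K.inv_mem hk)
      have hcQ : π ((o * r) * k * (o * r)⁻¹ * k⁻¹) ∈ pCore p (G ⧸ pPrimeCore p G) := by
        rw [map_mul, map_mul, map_mul, map_inv, map_inv, hπor]
        have h3 : π k * (π r)⁻¹ * (π k)⁻¹ ∈ pCore p (G ⧸ pPrimeCore p G) :=
          hQn.conj_mem _ (Subgroup.inv_mem _ hrQ) (π k)
        have e : π r * π k * (π r)⁻¹ * (π k)⁻¹ = π r * (π k * (π r)⁻¹ * (π k)⁻¹) := by group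
        rw [e]
        exact Subgroup.mul_mem _ hrQ h3
      have hc1 : π ((o * r) * k * (o * r)⁻¹ * k⁻¹) ∈ K.map π ⊓ pCore p (G ⧸ pPrimeCore p G) :=
        Subgroup.mem_inf.mpr ⟨⟨_, hcK, rfl⟩, hcQ⟩
      rw [hKQbot, Subgroup.mem_bot, map_mul, map_mul, map_mul, map_inv, map_inv, hπor] at hc1
      show π r * π k = π k * π r
      calc π r * π k = (π r * π k * (π r)⁻¹ * (π k)⁻¹) * (π k * π r) := by group
        _ = π k * π r := by rw [hc1, one_mul]
    have hfinal := thompson_AxB p (K.map π) (P.map π) hPbar hKbar_cop hKPbar _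
      (pCore p (G ⧸ pPrimeCore p G)) rfl hQp (hnormQ _) (hnormQ _) key
    have hKbar_bot : K.map π = ⊥ := by
      rw [eq_bot_iff, ← hKQbot]
      exact le_inf le_rfl (hfinal.trans hc)
    intro k hk
    have : π k ∈ K.map π := ⟨k, hk, rfl⟩
    rw [hKbar_bot, Subgroup.mem_bot] at this
    exact (QuotientGroup.eq_one_iff k).mp this
  · -- O ⊓ L ≤ K
    intro x hx
    have hxO : x ∈ pPrimeCore p G := hx.1
    have hxL : x ∈ L := hx.2
    have hsub : (pPrimeCore p G).subgroupOf L ≤ pPrimeCore p ↥L := by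
      apply Cfsg.Agent.Lib.Helper2.le_pPrimeCore (hOn.subgroupOf L)
      have hdvd : Nat.card ((pPrimeCore p G).subgroupOf L) ∣ Nat.card (pPrimeCore p G) := by
        have h1 : Nat.card ((pPrimeCore p G).subgroupOf L) = Nat.card ((pPrimeCore p G ⊓ L : Subgroup G)) := by
          rw [← Subgroup.card_map_of_injective L.subtype_injective, Subgroup.subgroupOf_map_subtype]
        rw [h1]
        exact Subgroup.card_dvd_of_le inf_le_left
      exact Nat.Coprime.coprime_dvd_left hdvd hOcop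
    exact ⟨⟨x, hxL⟩, hsub (Subgroup.mem_subgroupOf.mpr hxO), rfl⟩

end Cfsg.Agent.S0661
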