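import Cfsg.Statements.S0662
import Mathlib
import Cfsg.Agent.S3872
import Cfsg.Agent.Lib.Lead.MaxClass

set_option autoImplicit false
open Cfsg

namespace Cfsg.Agent.S0662

universe u

theorem card_ne_one {Q : Type u} [Group Q] [Finite Q] :
    Nat.card {x : Q // x ≠ 1} + 1 = Nat.card Q := by
  classical
  rw [← Nat.card_congr (Equiv.optionSubtypeNe (1 : Q)), Finite.card_option]

/-- a noncyclic group of order `p ^ 2` has exactly `p + 1` subgroups of index `p` -/
theorem card_index_p {Q : Type u} [Group Q] [Finite Q] {p : ℕ} [hp : Fact p.Prime]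
    (hQ : Nat.card Q = p ^ 2) (hnc : ¬ IsCyclic Q) :
    Nat.card {H : Subgroup Q // H.index = p} = p + 1 := by
  classical
  have hpp := hp.out
  have hord : ∀ x : Q, x ≠ 1 → orderOf x = p := by
    intro x hx
    have hdvd : orderOf x ∣ p ^ 2 := hQ ▸ orderOf_dvd_natCard x
    obtain ⟨k, hk, hk2⟩ := (Nat.dvd_prime_pow hpp).mp hdvd
    interval_cases k
    · rw [pow_zero] at hk2
      exact absurd (orderOf_eq_one_iff.mp hk2) hx
    · rw [hk2, pow_one]
    · exfalso
      apply hnc
      exact isCyclic_of_orderOf_eq_card x (by rw [hk2, hQ])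
  have hcardH : ∀ H : Subgroup Q, H.index = p → Nat.card H = p := by
    intro H hH
    have := H.card_mul_index
    rw [hH, hQ, pow_two] at this
    exact Nat.eq_of_mul_eq_mul_right hpp.pos this
  have hidx : ∀ x : Q, x ≠ 1 → (Subgroup.zpowers x).index = p := by
    intro x hx
    have := (Subgroup.zpowers x).card_mul_index
    rw [Nat.card_zpowers, hord x hx, hQ, pow_two] at this
    exact Nat.eq_of_mul_eq_mul_left hpp.pos this
  let f : {x : Q // x ≠ 1} → {H : Subgroup Q // H.index = p} :=
    fun x => ⟨Subgroup.zpowers x.1, hidx x.1 x.2⟩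
  have hfib : ∀ H : {H : Subgroup Q // H.index = p},
      Nat.card {x : {x : Q // x ≠ 1} // f x = H} = p - 1 := by
    intro H
    have e : {x : {x : Q // x ≠ 1} // f x = H} ≃ {y : ↥H.1 // y ≠ 1} :=
      { toFun := fun x => ⟨⟨x.1.1, by
            have h1 : Subgroup.zpowers x.1.1 = H.1 := congrArg Subtype.val x.2
            rw [← h1]; exact Subgroup.mem_zpowers _⟩, by
            intro h
            exact x.1.2 (congrArg Subtype.val h)⟩
        invFun := fun y => ⟨⟨y.1.1, by
            intro h
            exact y.2 (Subtype.ext h)⟩, by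
            apply Subtype.ext
            show Subgroup.zpowers y.1.1 = H.1
            apply Subgroup.eq_of_le_of_card_ge
            · rw [Subgroup.zpowers_le]; exact y.1.2
            · rw [Nat.card_zpowers, hord y.1.1 (fun h => y.2 (Subtype.ext h)), hcardH H.1 H.2]⟩
        left_inv := fun x => rfl
        right_inv := fun y => rfl }
    rw [Nat.card_congr e]
    have := card_ne_one (Q := ↥H.1)
    rw [hcardH H.1 H.2] at this
    omega
  have htot : Nat.card {x : Q // x ≠ 1} = p ^ 2 - 1 := by
    have := card_ne_one (Q := Q)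
    rw [hQ] at this
    omega
  haveI : Fintype {H : Subgroup Q // H.index = p} := Fintype.ofFinite _
  have hsig := Nat.card_congr (Equiv.sigmaFiberEquiv f)
  rw [Nat.card_sigma, htot] at hsig
  simp only [hfib, Finset.sum_const, Finset.card_univ, smul_eq_mul] at hsig
  rw [Nat.card_eq_fintype_card]
  obtain ⟨q, rfl⟩ : ∃ q, p = q + 2 := ⟨p - 2, by have := hpp.two_le; omega⟩
  have h1 : (q + 2) ^ 2 - 1 = (q + 2 + 1) * (q + 2 - 1) := by
    have : (q + 2) ^ 2 = (q + 2 + 1) * (q + 2 - 1) + 1 := by
      rw [show q + 2 - 1 = q + 1 from rfl]; ring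
    omega
  rw [h1] at hsig
  exact Nat.eq_of_mul_eq_mul_right (by omega) hsig

theorem result {G : Type*} [Group G] [Finite G] {p : ℕ} [Fact p.Prime] (n : ℕ) (hG : Nat.card G = p ^ n) (hcl : Group.nilpotencyClass G = n - 1) (hn : 3 ≤ n) : (∀ (N : Subgroup G) [N.Normal] (r : ℕ), 2 ≤ r → N.index = p ^ r → N = (⊤ : Subgroup G).lowerCentralSeries (r - 1)) ∧ Nat.card {N : Subgroup G // N.Normal ∧ N.index = p} = p + 1 := by
  have hp : p.Prime := Fact.out
  have hPG : IsPGroup p G := IsPGroup.of_card hG
  haveI hnil : Group.IsNilpotent G := hPG.isNilpotent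
  -- the lower central series is strictly decreasing up to `n - 1`
  have hne : ∀ k, k < n - 1 → (⊤ : Subgroup G).lowerCentralSeries k ≠ ⊥ := by
    intro k hk h
    rw [Subgroup.lowerCentralSeries_eq_bot_iff_nilpotencyClass_le] at h
    omega
  have hbot : (⊤ : Subgroup G).lowerCentralSeries (n - 1) = ⊥ := by
    rw [Subgroup.lowerCentralSeries_eq_bot_iff_nilpotencyClass_le]
    omega
  have hstrict : ∀ k, k < n - 1 → (⊤ : Subgroup G).lowerCentralSeries (k + 1) <
      (⊤ : Subgroup G).lowerCentralSeries k := by
    intro k hk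
    refine lt_of_le_of_ne ((⊤ : Subgroup G).lowerCentralSeries_antitone (Nat.le_succ k)) ?_
    intro heq
    have hall : ∀ m, (⊤ : Subgroup G).lowerCentralSeries (k + m) =
        (⊤ : Subgroup G).lowerCentralSeries k := by
      intro m
      induction m with
      | zero => rfl
      | succ m ih =>
        rw [← add_assoc, Subgroup.lowerCentralSeries_succ, ih, ← Subgroup.lowerCentralSeries_succ,
          heq]
    apply hne k hk
    rw [eq_bot_iff, ← hbot, ← hall (n - 1)]
    exact (⊤ : Subgroup G).lowerCentralSeries_antitone (by omega)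
  have hchain : ∀ j, j ≤ n - 1 →
      p ^ j ≤ Nat.card ↥((⊤ : Subgroup G).lowerCentralSeries (n - 1 - j)) := by
    intro j
    induction j with
    | zero => intro _; rw [pow_zero]; exact Nat.card_pos
    | succ j ih =>
      intro hj
      have h1 := hstrict (n - 1 - (j + 1)) (by omega)
      have e : n - 1 - (j + 1) + 1 = n - 1 - j := by omega
      rw [e] at h1
      have h2 := Cfsg.Agent.S3872.card_mul_le_of_lt hp hPG _ _ h1
      calc p ^ (j + 1) = p * p ^ j := by rw [pow_succ, mul_comm]
        _ ≤ p * Nat.card ↥((⊤ : Subgroup G).lowerCentralSeries (n - 1 - j)) :=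
            Nat.mul_le_mul_left _ (ih (by omega))
        _ ≤ _ := h2
  have hncomm : ¬ ∀ x y : G, x * y = y * x := by
    intro hc
    have : Group.nilpotencyClass G ≤ 1 := by
      rw [Group.IsNilpotent.nilpotencyClass_le_one_iff]
      exact ⟨⟨hc⟩⟩
    omega
  refine ⟨?_, ?_⟩
  · intro N _ r hr hNi
    have hrn : r ≤ n := by
      have hdvd : p ^ r ∣ p ^ n := by
        rw [← hNi, ← hG]; exact N.index_dvd_card
      exact (Nat.pow_dvd_pow_iff_le_right hp.one_lt).mp hdvd
    have hcardQ : Nat.card (G ⧸ N) = p ^ r := by rw [← hNi, Subgroup.index_eq_card]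
    have hclQ := Cfsg.Agent.Lib.Lead.MaxClass.nilpotencyClass_le r (G ⧸ N) hcardQ hr
    haveI : Group.IsNilpotent (G ⧸ N) := (IsPGroup.of_card hcardQ).isNilpotent
    have hQbot : (⊤ : Subgroup (G ⧸ N)).lowerCentralSeries (r - 1) = ⊥ :=
      Subgroup.lowerCentralSeries_eq_bot_iff_nilpotencyClass_le.mpr hclQ
    have hle : (⊤ : Subgroup G).lowerCentralSeries (r - 1) ≤ N := by
      have h1 := Subgroup.map_lowerCentralSeries (⊤ : Subgroup G) (QuotientGroup.mk' N) (r - 1)
      rw [Subgroup.map_top_of_surjective _ (QuotientGroup.mk'_surjective N), hQbot,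
        Subgroup.map_eq_bot_iff, QuotientGroup.ker_mk'] at h1
      exact h1
    have hcardN : Nat.card ↥N = p ^ (n - r) := by
      have h1 := N.card_mul_index
      rw [hNi, hG] at h1
      have h2 : p ^ n = p ^ (n - r) * p ^ r := by rw [← pow_add]; congr 1; omega
      rw [h2] at h1
      exact Nat.eq_of_mul_eq_mul_right (pow_pos hp.pos r) h1
    have h3 := hchain (n - r) (by omega)
    have e : n - 1 - (n - r) = r - 1 := by omega
    rw [e] at h3
    exact (Subgroup.eq_of_le_of_card_ge hle (by rw [hcardN]; exact h3)).symm
  · -- the abelianization has order `p ^ 2` and is not cyclic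
    have hnc : ¬ IsCyclic (Abelianization G) := by
      intro hcyc
      exact hncomm (Cfsg.Agent.Lib.Lead.MaxClass.comm_of_cyclic_abelianization n G hG hcyc)
    have hQcard : Nat.card (Abelianization G) = p ^ 2 := by
      have hidx : Nat.card (Abelianization G) = (commutator G).index :=
        (Subgroup.index_eq_card _).symm
      have h1 := (commutator G).card_mul_index
      rw [hG] at h1
      have hdvd : (commutator G).index ∣ p ^ n := Dvd.intro_left _ h1
      obtain ⟨a, ha, ha2⟩ := (Nat.dvd_prime_pow hp).mp hdvd
      have h3 := hchain (n - 2) (by omega)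
      have e : n - 1 - (n - 2) = 1 := by omega
      rw [e] at h3
      have h4 : Nat.card ↥((⊤ : Subgroup G).lowerCentralSeries 1) = Nat.card ↥(commutator G) := rfl
      rw [h4] at h3
      have ha2' : a ≤ 2 := by
        by_contra hcon
        push Not at hcon
        have h5 : p ^ n < p ^ n := by
          calc p ^ n = p ^ (n - 2) * p ^ 2 := by rw [← pow_add]; congr 1; omega
            _ < p ^ (n - 2) * p ^ a :=
                Nat.mul_lt_mul_of_pos_left (Nat.pow_lt_pow_right hp.one_lt hcon)
                  (pow_pos hp.pos _)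
            _ ≤ Nat.card ↥(commutator G) * p ^ a := Nat.mul_le_mul_right _ h3
            _ = p ^ n := by rw [← ha2]; exact h1
        exact lt_irrefl _ h5
      rw [hidx, ha2]
      interval_cases a
      · exfalso
        apply hnc
        rw [pow_zero] at ha2
        rw [← hidx] at ha2
        haveI : Subsingleton (Abelianization G) := (Nat.card_eq_one_iff_unique.mp ha2).1
        infer_instance
      · exfalso
        apply hnc
        rw [pow_one] at ha2
        rw [← hidx] at ha2
        exact isCyclic_of_prime_card ha2
      · rfl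
    rw [← card_index_p hQcard hnc]
    have hker : (Abelianization.of (G := G)).ker = commutator G := Abelianization.ker_of G
    have hsurj : Function.Surjective (Abelianization.of (G := G)) :=
      QuotientGroup.mk_surjective
    have hcomm_le : ∀ N : Subgroup G, N.Normal → N.index = p → commutator G ≤ N := by
      intro N hN hNi
      haveI := hN
      rw [← Subgroup.Normal.quotient_commutative_iff_commutator_le]
      have hc : Nat.card (G ⧸ N) = p := by rw [← hNi, Subgroup.index_eq_card]
      haveI := isCyclic_of_prime_card hc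
      letI := IsCyclic.commGroup (α := G ⧸ N)
      exact ⟨⟨mul_comm⟩⟩
    apply Nat.card_congr
    exact
      { toFun := fun N => ⟨N.1.map Abelianization.of, by
          rw [Subgroup.index_map_eq _ hsurj (by rw [hker]; exact hcomm_le N.1 N.2.1 N.2.2)]
          exact N.2.2⟩
        invFun := fun H => ⟨H.1.comap Abelianization.of, by
          haveI : H.1.Normal := inferInstance
          exact Subgroup.Normal.comap inferInstance _, by
          rw [Subgroup.index_comap_of_surjective _ hsurj]; exact H.2⟩
        left_inv := fun N => by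
          apply Subtype.ext
          show (N.1.map Abelianization.of).comap Abelianization.of = N.1
          exact Subgroup.comap_map_eq_self (by rw [hker]; exact hcomm_le N.1 N.2.1 N.2.2)
        right_inv := fun H => by
          apply Subtype.ext
          show (H.1.comap Abelianization.of).map Abelianization.of = H.1
          exact Subgroup.map_comap_eq_self_of_surjective hsurj _ }

end Cfsg.Agent.S0662
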