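import Mathlib
import Cfsg.Statements.S0666
import Cfsg.Agent.S0035
import Cfsg.Agent.Lib.Helper1.FrobeniusFixed

set_option autoImplicit false
open Cfsg

namespace Cfsg.Agent.S0666

open Cfsg.Agent.Lib.Helper1.FrobFix

/-- A Frobenius group acting on a nontrivial abelian group of order prime to that of its kernel, with the kernel acting without nontrivial fixed points, has a complement with a nontrivial fixed point. -/
theorem result {G : Type*} [Group G] [Finite G] (V F : Subgroup G) (hVab : IsMulCommutative V) (hV1 : V ≠ ⊥) (hFV : F ≤ Subgroup.normalizer (V : Set G)) (H : Subgroup ↥F) (hH : Cfsg.IsFrobeniusComplement H) (hcop : (Nat.card V).Coprime (Nat.card (Cfsg.frobeniusKernel H))) (hCK : V ⊓ Subgroup.centralizer (Subtype.val '' Cfsg.frobeniusKernel H : Set G) = ⊥) : V ⊓ Subgroup.centralizer ((H.map F.subtype : Subgroup G) : Set G) ≠ ⊥ := by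
  intro hC
  obtain ⟨N, hN, -, hNH⟩ := Cfsg.Agent.S0035.result H hH
  letI : CommGroup V := { (inferInstance : Group V) with mul_comm := fun a b => mul_comm' a b }
  let φ : F →* MulAut V := V.normalizerMonoidHom.comp (Subgroup.inclusion hFV)
  have hφ : ∀ (f : F) (v : V), ((φ f v : V) : G) = (f : G) * (v : G) * (f : G)⁻¹ := by
    intro f v; rfl
  have hfixN : ∀ v : V, (∀ k ∈ N, φ k v = v) → v = 1 := by
    intro v hv
    have hmem : (v : G) ∈ V ⊓ Subgroup.centralizer (Subtype.val '' Cfsg.frobeniusKernel H : Set G) := by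
      refine Subgroup.mem_inf.mpr ⟨v.2, ?_⟩
      rw [Subgroup.mem_centralizer_iff]
      rintro _ ⟨k, hk, rfl⟩
      have hkN : k ∈ N := by
        have : k ∈ (N : Set F) := by rw [hN]; exact hk
        exact this
      have := congrArg (fun x : V => (x : G)) (hv k hkN)
      simp only [hφ] at this
      calc (k : G) * (v : G) = ((k : G) * (v : G) * (k : G)⁻¹) * (k : G) := by group
        _ = (v : G) * (k : G) := by rw [this]
    rw [hCK, Subgroup.mem_bot] at hmem
    exact Subtype.ext hmem
  have hfixH : ∀ v : V, (∀ h ∈ H, φ h v = v) → v = 1 := by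
    intro v hv
    have hmem : (v : G) ∈ V ⊓ Subgroup.centralizer ((H.map F.subtype : Subgroup G) : Set G) := by
      refine Subgroup.mem_inf.mpr ⟨v.2, ?_⟩
      rw [Subgroup.mem_centralizer_iff]
      rintro _ ⟨k, hk, rfl⟩
      have := congrArg (fun x : V => (x : G)) (hv k hk)
      simp only [hφ] at this
      show (k : G) * (v : G) = (v : G) * (k : G)
      calc (k : G) * (v : G) = ((k : G) * (v : G) * (k : G)⁻¹) * (k : G) := by group
        _ = (v : G) * (k : G) := by rw [this]
    rw [hC, Subgroup.mem_bot] at hmem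
    exact Subtype.ext hmem
  have hcardN : Nat.card N = Nat.card (Cfsg.frobeniusKernel H) := by
    rw [← hN]; rfl
  apply hV1
  rw [Subgroup.eq_bot_iff_forall]
  intro x hx
  have h1 := pow_card_eq_one φ H N hH hN hNH hfixN hfixH ⟨x, hx⟩
  have h2 : (⟨x, hx⟩ : V) ^ Nat.card V = 1 := pow_card_eq_one'
  have h3 : (⟨x, hx⟩ : V) ^ Nat.gcd (Nat.card N) (Nat.card V) = 1 := pow_gcd_eq_one.mpr ⟨h1, h2⟩
  rw [hcardN, Nat.Coprime.gcd_eq_one hcop.symm, pow_one] at h3
  exact congrArg Subtype.val h3

end Cfsg.Agent.S0666
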