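import Cfsg.Statements.S0668


set_option autoImplicit false
open Cfsg

namespace Cfsg.Agent.S0668

/-- The equivariant linear maps between the permutation modules of two finite `G`-sets form a space whose dimension is the number of `G`-orbits on the product of the two sets. -/
theorem result {G : Type*} [Group G] {K : Type*} [Field K] {Ω₁ Ω₂ : Type*} [Fintype Ω₁] [Fintype Ω₂] [MulAction G Ω₁] [MulAction G Ω₂] : Module.finrank K ((Cfsg.permRep K G Ω₁).linHom (Cfsg.permRep K G Ω₂)).invariants = Nat.card (MulAction.orbitRel.Quotient G (Ω₁ × Ω₂)) := by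
  classical
  -- notation
  obtain ⟨ρ₁, hρ₁⟩ : ∃ ρ₁ : Representation K G (Ω₁ → K), ρ₁ = Cfsg.permRep K G Ω₁ := ⟨_, rfl⟩
  obtain ⟨ρ₂, hρ₂⟩ : ∃ ρ₂ : Representation K G (Ω₂ → K), ρ₂ = Cfsg.permRep K G Ω₂ := ⟨_, rfl⟩
  rw [← hρ₁, ← hρ₂]
  have hap₁ : ∀ (g : G) (v : Ω₁ → K) (x : Ω₁), ρ₁ g v x = v (g⁻¹ • x) := by
    intro g v x; rw [hρ₁]; rfl
  have hap₂ : ∀ (g : G) (v : Ω₂ → K) (y : Ω₂), ρ₂ g v y = v (g⁻¹ • y) := by
    intro g v y; rw [hρ₂]; rfl
  have hinv : ∀ f : (Ω₁ → K) →ₗ[K] (Ω₂ → K), f ∈ (ρ₁.linHom ρ₂).invariants ↔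
      ∀ g v, f (ρ₁ g v) = ρ₂ g (f v) := by
    intro f
    rw [Representation.mem_invariants]
    constructor
    · intro h g v
      have h1 := LinearMap.congr_fun (h g) (ρ₁ g v)
      rw [Representation.linHom_apply] at h1
      simp only [LinearMap.comp_apply] at h1
      have h2 : ρ₁ g⁻¹ (ρ₁ g v) = v := by
        rw [← Module.End.mul_apply, ← map_mul, inv_mul_cancel, map_one, Module.End.one_apply]
      rw [h2] at h1
      exact h1.symm
    · intro h g
      apply LinearMap.ext
      intro w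
      rw [Representation.linHom_apply]
      simp only [LinearMap.comp_apply]
      rw [← h g (ρ₁ g⁻¹ w)]
      have h2 : ρ₁ g (ρ₁ g⁻¹ w) = w := by
        rw [← Module.End.mul_apply, ← map_mul, mul_inv_cancel, map_one, Module.End.one_apply]
      rw [h2]
  have hsingle : ∀ (g : G) (x : Ω₁), ρ₁ g (Pi.single x (1 : K)) = Pi.single (g • x) 1 := by
    intro g x
    funext z
    rw [hap₁]
    by_cases h : z = g • x
    · subst h
      rw [inv_smul_smul, Pi.single_eq_same, Pi.single_eq_same]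
    · have h2 : g⁻¹ • z ≠ x := by
        intro h3
        apply h
        rw [← h3, smul_inv_smul]
      rw [Pi.single_eq_of_ne h2, Pi.single_eq_of_ne h]
  have hM : ∀ f : (Ω₁ → K) →ₗ[K] (Ω₂ → K), f ∈ (ρ₁.linHom ρ₂).invariants →
      ∀ (g : G) (x : Ω₁) (y : Ω₂), f (Pi.single (g • x) 1) (g • y) = f (Pi.single x 1) y := by
    intro f hf g x y
    rw [← hsingle g x, (hinv f).1 hf g, hap₂, inv_smul_smul]
  haveI : Fintype (MulAction.orbitRel.Quotient G (Ω₁ × Ω₂)) := Fintype.ofFinite _
  -- the linear map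
  let Φ : (ρ₁.linHom ρ₂).invariants →ₗ[K] (MulAction.orbitRel.Quotient G (Ω₁ × Ω₂) → K) :=
    { toFun := fun f q => (f : (Ω₁ → K) →ₗ[K] (Ω₂ → K)) (Pi.single (Quotient.out q).1 1)
        (Quotient.out q).2
      map_add' := by intro f f'; funext q; rfl
      map_smul' := by intro c f; funext q; rfl }
  have hΦ : ∀ (f : (ρ₁.linHom ρ₂).invariants) (q : MulAction.orbitRel.Quotient G (Ω₁ × Ω₂)),
      Φ f q = (f : (Ω₁ → K) →ₗ[K] (Ω₂ → K)) (Pi.single (Quotient.out q).1 1)
        (Quotient.out q).2 := fun f q => rfl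
  have hrep : ∀ (x : Ω₁) (y : Ω₂), ∃ g : G,
      g • (Quotient.out (Quotient.mk'' (x, y) : MulAction.orbitRel.Quotient G (Ω₁ × Ω₂))) =
        (x, y) := by
    intro x y
    have h1 : (Quotient.mk'' (Quotient.out (Quotient.mk'' (x, y) :
        MulAction.orbitRel.Quotient G (Ω₁ × Ω₂))) : MulAction.orbitRel.Quotient G (Ω₁ × Ω₂)) =
        Quotient.mk'' (x, y) := Quotient.out_eq' _
    have h2 := Quotient.exact' h1
    have h3 : (x, y) ∈ MulAction.orbit G (Quotient.out (Quotient.mk'' (x, y) :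
        MulAction.orbitRel.Quotient G (Ω₁ × Ω₂))) := by
      have h4 := (MulAction.orbitRel_apply).1 (Setoid.symm' _ h2)
      exact h4
    obtain ⟨g, hg⟩ := h3
    exact ⟨g, hg⟩
  have hinj : Function.Injective Φ := by
    rw [injective_iff_map_eq_zero]
    intro f hf
    apply Subtype.ext
    rw [Submodule.coe_zero]
    apply LinearMap.pi_ext
    intro x c
    rw [LinearMap.zero_apply]
    have hc : (Pi.single x c : Ω₁ → K) = c • Pi.single x (1 : K) := by
      rw [← Pi.single_smul, smul_eq_mul, mul_one]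
    rw [hc, map_smul]
    have h0 : (f : (Ω₁ → K) →ₗ[K] (Ω₂ → K)) (Pi.single x 1) = 0 := by
      funext y
      obtain ⟨g, hg⟩ := hrep x y
      have h1 := hM f f.2 g (Quotient.out (Quotient.mk'' (x, y) :
        MulAction.orbitRel.Quotient G (Ω₁ × Ω₂))).1 (Quotient.out (Quotient.mk'' (x, y) :
        MulAction.orbitRel.Quotient G (Ω₁ × Ω₂))).2
      have hg1 : g • (Quotient.out (Quotient.mk'' (x, y) :
        MulAction.orbitRel.Quotient G (Ω₁ × Ω₂))).1 = x := congrArg Prod.fst hg
      have hg2 : g • (Quotient.out (Quotient.mk'' (x, y) :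
        MulAction.orbitRel.Quotient G (Ω₁ × Ω₂))).2 = y := congrArg Prod.snd hg
      rw [hg1, hg2] at h1
      rw [h1, ← hΦ f, hf]
      rfl
    rw [h0, smul_zero]
  have hsurj : Function.Surjective Φ := by
    intro c
    let F : (Ω₁ → K) →ₗ[K] (Ω₂ → K) :=
      { toFun := fun v y => ∑ x : Ω₁,
          c (Quotient.mk'' (x, y) : MulAction.orbitRel.Quotient G (Ω₁ × Ω₂)) * v x
        map_add' := by
          intro v w; funext y
          simp only [Pi.add_apply, mul_add, Finset.sum_add_distrib]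
        map_smul' := by
          intro a v; funext y
          simp only [Pi.smul_apply, smul_eq_mul, RingHom.id_apply, Finset.mul_sum]
          apply Finset.sum_congr rfl
          intro x _; ring }
    have hFap : ∀ (v : Ω₁ → K) (y : Ω₂), F v y = ∑ x : Ω₁,
        c (Quotient.mk'' (x, y) : MulAction.orbitRel.Quotient G (Ω₁ × Ω₂)) * v x :=
      fun v y => rfl
    have hFinv : F ∈ (ρ₁.linHom ρ₂).invariants := by
      rw [hinv]
      intro g v
      funext y
      rw [hap₂, hFap, hFap]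
      rw [← Equiv.sum_comp (MulAction.toPerm g)]
      apply Finset.sum_congr rfl
      intro x _
      rw [MulAction.toPerm_apply, hap₁, inv_smul_smul]
      congr 1
      apply congrArg
      apply Quotient.sound'
      rw [MulAction.orbitRel_apply]
      refine ⟨g, ?_⟩
      show g • (x, g⁻¹ • y) = (g • x, y)
      rw [Prod.smul_mk, smul_inv_smul]
    refine ⟨⟨F, hFinv⟩, ?_⟩
    funext q
    rw [hΦ]
    show F (Pi.single (Quotient.out q).1 1) (Quotient.out q).2 = c q
    rw [hFap, Finset.sum_eq_single (Quotient.out q).1]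
    · rw [Pi.single_eq_same, mul_one]
      have h1 : (Quotient.mk'' ((Quotient.out q).1, (Quotient.out q).2) :
          MulAction.orbitRel.Quotient G (Ω₁ × Ω₂)) = q := Quotient.out_eq' q
      rw [h1]
    · intro x _ hx
      rw [Pi.single_eq_of_ne hx, mul_zero]
    · intro h; exact absurd (Finset.mem_univ _) h
  have e := LinearEquiv.ofBijective Φ ⟨hinj, hsurj⟩
  rw [LinearEquiv.finrank_eq e, Module.finrank_fintype_fun_eq_card, Nat.card_eq_fintype_card]

end Cfsg.Agent.S0668
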