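import Cfsg.Statements.S0669
import Mathlib

set_option autoImplicit false
open Cfsg

namespace Cfsg.Agent.S0669

open MulAction

variable {G : Type*} [Group G] {Ω : Type*} [MulAction G Ω]

/-- The map from stabiliser orbits on points to orbits on pairs. -/
def pairMap (a : Ω) : orbitRel.Quotient (stabilizer G a) Ω → orbitRel.Quotient G (Ω × Ω) :=
  Quotient.map' (fun b => (a, b)) (by
    intro b b' h
    rw [orbitRel_apply] at h ⊢
    obtain ⟨g, hg⟩ := h
    refine ⟨(g : G), ?_⟩
    have hga : (g : G) • a = a := g.2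
    have hgb : (g : G) • b' = b := hg
    simp [Prod.smul_mk, hga, hgb])

theorem pairMap_injective (a : Ω) : Function.Injective (pairMap (G := G) a) := by
  intro x y
  refine Quotient.inductionOn₂' x y ?_
  intro b b' h
  have h' : (orbitRel G (Ω × Ω)) (a, b) (a, b') := Quotient.exact' h
  rw [orbitRel_apply] at h'
  obtain ⟨g, hg⟩ := h'
  have hg' : (g • a, g • b') = (a, b) := hg
  have hga : g • a = a := (Prod.ext_iff.mp hg').1
  have hgb : g • b' = b := (Prod.ext_iff.mp hg').2
  apply Quotient.sound'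
  change (orbitRel (stabilizer G a) Ω) b b'
  rw [orbitRel_apply]
  exact ⟨⟨g, hga⟩, hgb⟩

theorem pairMap_surjective [IsPretransitive G Ω] (a : Ω) :
    Function.Surjective (pairMap (G := G) a) := by
  intro x
  refine Quotient.inductionOn' x ?_
  rintro ⟨u, v⟩
  obtain ⟨g, hg⟩ := exists_smul_eq G u a
  refine ⟨Quotient.mk'' (g • v), ?_⟩
  apply Quotient.sound'
  change (orbitRel G (Ω × Ω)) (a, g • v) (u, v)
  rw [orbitRel_apply]
  exact ⟨g, by simp [Prod.smul_mk, hg]⟩

theorem result {G : Type*} [Group G] {Ω : Type*} [Finite Ω] [MulAction G Ω] [MulAction.IsPretransitive G Ω] (a : Ω) : Nat.card (MulAction.orbitRel.Quotient G (Ω × Ω)) = Nat.card (MulAction.orbitRel.Quotient (MulAction.stabilizer G a) Ω) := by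
  exact (Nat.card_congr (Equiv.ofBijective (pairMap a)
    ⟨pairMap_injective a, pairMap_surjective a⟩)).symm

end Cfsg.Agent.S0669
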