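import Mathlib
import Cfsg.Statements.S0672

set_option autoImplicit false
set_option linter.style.haveILetI false
set_option linter.unusedSectionVars false
open Cfsg

namespace Cfsg.Agent.S0672

open MulAction Classical
open scoped Pointwise

section
variable {G : Type*} [Group G] {K : Type*} [Field K] {Ω : Type*} [Fintype Ω] [DecidableEq Ω]
  [MulAction G Ω]

/-- The linear map from functions on points to functions on pairs with kernel `w`. -/
noncomputable def theta (w : Ω → Set.powersetCard Ω 2 → K) :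
    (Ω → K) →ₗ[K] (Set.powersetCard Ω 2 → K) where
  toFun f B := ∑ a, w a B * f a
  map_add' f₁ f₂ := by
    ext B
    simp only [Pi.add_apply, mul_add, Finset.sum_add_distrib]
  map_smul' r f := by
    ext B
    simp only [Pi.smul_apply, smul_eq_mul, RingHom.id_apply, Finset.mul_sum]
    apply Finset.sum_congr rfl
    intro a _
    ring

theorem theta_apply (w : Ω → Set.powersetCard Ω 2 → K) (f : Ω → K) (B : Set.powersetCard Ω 2) :
    theta w f B = ∑ a, w a B * f a := rfl

theorem theta_equivariant (w : Ω → Set.powersetCard Ω 2 → K)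
    (hw : ∀ (g : G) (a : Ω) (B : Set.powersetCard Ω 2), w (g • a) (g • B) = w a B)
    (g : G) (f : Ω → K) :
    theta w (Cfsg.permRep K G Ω g f) =
      Cfsg.permRep K G (Set.powersetCard Ω 2) g (theta w f) := by
  ext B
  show (∑ a, w a B * f (g⁻¹ • a)) = ∑ a, w a (g⁻¹ • B) * f a
  refine Fintype.sum_equiv (MulAction.toPerm g⁻¹) _ _ (fun a => ?_)
  simp only [MulAction.toPerm_apply]
  congr 1
  have := hw g⁻¹ a B
  exact this.symm

/-- The intertwining map on the sum-zero functions induced by `theta w`. -/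
noncomputable def thetaI (w : Ω → Set.powersetCard Ω 2 → K)
    (hw : ∀ (g : G) (a : Ω) (B : Set.powersetCard Ω 2), w (g • a) (g • B) = w a B) :
    Representation.IntertwiningMap (Cfsg.permSumZero K G Ω).toRepresentation
      (Cfsg.permRep K G (Set.powersetCard Ω 2)) :=
  LinearMap.intertwiningMap_of_isIntertwiningMap _ _
    ((theta w).comp (Cfsg.permSumZero K G Ω).toSubmodule.subtype)
    (fun g v => theta_equivariant w hw g v.1)

theorem thetaI_apply (w : Ω → Set.powersetCard Ω 2 → K)
    (hw : ∀ (g : G) (a : Ω) (B : Set.powersetCard Ω 2), w (g • a) (g • B) = w a B)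
    (v : (Cfsg.permSumZero K G Ω).toSubmodule) :
    thetaI w hw v = theta w v.1 := rfl

/-- The difference of two point masses. -/
def dd (K : Type*) [Field K] (u b : Ω) : Ω → K :=
  fun x => (if x = u then 1 else 0) - (if x = b then 1 else 0)

theorem dd_mem (u b : Ω) : dd K u b ∈ (Cfsg.permSumZero K G Ω).toSubmodule := by
  show (∑ x, dd K u b x) = 0
  simp [dd, Finset.sum_sub_distrib]

theorem theta_dd (w : Ω → Set.powersetCard Ω 2 → K) (u b : Ω) (B : Set.powersetCard Ω 2) :
    theta w (dd K u b) B = w u B - w b B := by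
  rw [theta_apply]
  simp [dd, mul_sub, Finset.sum_sub_distrib]

/-- Key consequence of the hypothesis: an invariant kernel whose "row sums" vanish is constant
in the point variable. -/
theorem kernel_const
    (h : ∀ f : Representation.IntertwiningMap (Cfsg.permSumZero K G Ω).toRepresentation
      (Cfsg.permRep K G (Set.powersetCard Ω 2)),
      (∀ v : (Cfsg.permSumZero K G Ω).toSubmodule,
        (v : Ω → K) ∈ (Cfsg.permConstants K G Ω).toSubmodule → f v = 0) → f = 0)
    (w : Ω → Set.powersetCard Ω 2 → K)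
    (hw : ∀ (g : G) (a : Ω) (B : Set.powersetCard Ω 2), w (g • a) (g • B) = w a B)
    (hsum : ∀ B, ∑ a, w a B = 0) (u b : Ω) (B : Set.powersetCard Ω 2) : w u B = w b B := by
  have h0 := h (thetaI w hw) (by
    intro v hv
    have hv' : (v : Ω → K) ∈ Submodule.span K {fun _ : Ω => (1 : K)} := hv
    rw [Submodule.mem_span_singleton] at hv'
    obtain ⟨r, hr⟩ := hv'
    rw [thetaI_apply, ← hr]
    ext B
    rw [theta_apply]
    simp only [Pi.smul_apply, smul_eq_mul, mul_one, Pi.zero_apply]
    rw [← Finset.sum_mul, hsum B, zero_mul])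
  have h1 : thetaI w hw ⟨dd K u b, dd_mem u b⟩ = 0 := by rw [h0]; rfl
  rw [thetaI_apply] at h1
  have h2 := congrFun h1 B
  rw [theta_dd] at h2
  exact sub_eq_zero.mp h2

end

section
variable {G : Type*} [Group G] {K : Type*} [Field K] {Ω : Type*} [Fintype Ω] [DecidableEq Ω]
  [MulAction G Ω]

/-- The orbital relation between points and pairs. -/
def Rel (G : Type*) [Group G] [MulAction G Ω] (x₀ : Ω) (B₀ : Set.powersetCard Ω 2) (a : Ω)
    (B : Set.powersetCard Ω 2) : Prop :=
  ∃ g : G, g • x₀ = a ∧ g • B₀ = B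

theorem Rel_smul (x₀ : Ω) (B₀ : Set.powersetCard Ω 2) (a : Ω) (B : Set.powersetCard Ω 2)
    (g : G) : Rel G x₀ B₀ (g • a) (g • B) ↔ Rel G x₀ B₀ a B := by
  constructor
  · rintro ⟨k, h1, h2⟩
    refine ⟨g⁻¹ * k, ?_, ?_⟩
    · rw [mul_smul, h1, inv_smul_smul]
    · rw [mul_smul, h2, inv_smul_smul]
  · rintro ⟨k, h1, h2⟩
    refine ⟨g * k, ?_, ?_⟩
    · rw [mul_smul, h1]
    · rw [mul_smul, h2]

/-- indicator of the orbital relation -/
noncomputable def ind (G : Type*) [Group G] [MulAction G Ω] (K : Type*) [Field K] (x₀ : Ω)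
    (B₀ : Set.powersetCard Ω 2) (a : Ω) (B : Set.powersetCard Ω 2) : K :=
  if Rel G x₀ B₀ a B then 1 else 0

theorem ind_smul (x₀ : Ω) (B₀ : Set.powersetCard Ω 2) (a : Ω) (B : Set.powersetCard Ω 2)
    (g : G) : ind G K x₀ B₀ (g • a) (g • B) = ind G K x₀ B₀ a B := by
  unfold ind
  by_cases hR : Rel G x₀ B₀ a B
  · rw [if_pos hR, if_pos ((Rel_smul x₀ B₀ a B g).mpr hR)]
  · rw [if_neg hR, if_neg (fun h' => hR ((Rel_smul x₀ B₀ a B g).mp h'))]

/-- the row sum of an invariant kernel is invariant -/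
theorem rowsum_smul (w : Ω → Set.powersetCard Ω 2 → K)
    (hw : ∀ (g : G) (a : Ω) (B : Set.powersetCard Ω 2), w (g • a) (g • B) = w a B)
    (g : G) (B : Set.powersetCard Ω 2) : ∑ a, w a (g • B) = ∑ a, w a B := by
  symm
  refine Fintype.sum_equiv (MulAction.toPerm g) _ _ (fun a => ?_)
  simp only [MulAction.toPerm_apply]
  exact (hw g a B).symm

end

/-- Setwise stabilizers of pairs are transitive on the complement. -/
theorem setwise_transitive {G : Type*} [Group G] {K : Type*} [Field K]
    {Ω : Type*} [Fintype Ω] [DecidableEq Ω] [MulAction G Ω]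
    (h2 : MulAction.IsMultiplyPretransitive G Ω 2)
    (h : ∀ f : Representation.IntertwiningMap (Cfsg.permSumZero K G Ω).toRepresentation
      (Cfsg.permRep K G (Set.powersetCard Ω 2)),
      (∀ v : (Cfsg.permSumZero K G Ω).toSubmodule,
        (v : Ω → K) ∈ (Cfsg.permConstants K G Ω).toSubmodule → f v = 0) → f = 0)
    (B₀ : Set.powersetCard Ω 2) (x y : Ω) (hx : x ∉ B₀) (hy : y ∉ B₀) :
    ∃ g : G, g • B₀ = B₀ ∧ g • x = y := by
  classical
  by_contra hno
  push Not at hno
  haveI : MulAction.IsPretransitive G (Set.powersetCard Ω 2) :=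
    Set.powersetCard.isPretransitive_of_isMultiplyPretransitive (G := G) (α := Ω) h2
  -- a point of B₀
  obtain ⟨b, hb⟩ : ∃ b, b ∈ B₀ := by
    have hc : (B₀ : Finset Ω).card = 2 := B₀.2
    have : (B₀ : Finset Ω).Nonempty := by
      rw [← Finset.card_pos, hc]; norm_num
    obtain ⟨b, hb⟩ := this
    exact ⟨b, hb⟩
  -- facts on the relations
  have hRxx : Rel G x B₀ x B₀ := ⟨1, one_smul _ _, one_smul _ _⟩
  have hRyy : Rel G y B₀ y B₀ := ⟨1, one_smul _ _, one_smul _ _⟩
  have hRxy : ¬ Rel G x B₀ y B₀ := by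
    rintro ⟨g, h1, h2'⟩
    exact hno g h2' h1
  have hmem_smul : ∀ (g : G) (a : Ω), g • B₀ = B₀ → (g • a ∈ B₀ ↔ a ∈ B₀) := by
    intro g a hg
    have h1 : g • a ∈ (g • B₀ : Set.powersetCard Ω 2) ↔ a ∈ B₀ := by
      rw [← Set.powersetCard.mem_coe_iff, Set.powersetCard.coe_smul,
        Finset.smul_mem_smul_finset_iff]
      rfl
    rw [hg] at h1
    exact h1
  have hRxb : ¬ Rel G x B₀ b B₀ := by
    rintro ⟨g, h1, h2'⟩
    have := (hmem_smul g x h2').mp (h1 ▸ hb)
    exact hx this
  have hRyb : ¬ Rel G y B₀ b B₀ := by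
    rintro ⟨g, h1, h2'⟩
    have := (hmem_smul g y h2').mp (h1 ▸ hb)
    exact hy this
  -- row sums
  set nx : K := ∑ a, ind G K x B₀ a B₀ with hnx
  set ny : K := ∑ a, ind G K y B₀ a B₀ with hny
  have hrowx : ∀ B, ∑ a, ind G K x B₀ a B = nx := by
    intro B
    obtain ⟨g, rfl⟩ := MulAction.exists_smul_eq G B₀ B
    exact rowsum_smul (ind G K x B₀) (fun g a B => ind_smul x B₀ a B g) g B₀
  have hrowy : ∀ B, ∑ a, ind G K y B₀ a B = ny := by
    intro B
    obtain ⟨g, rfl⟩ := MulAction.exists_smul_eq G B₀ B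
    exact rowsum_smul (ind G K y B₀) (fun g a B => ind_smul y B₀ a B g) g B₀
  -- first kernel
  have hnx0 : nx = 0 := by
    by_contra hne
    set w : Ω → Set.powersetCard Ω 2 → K :=
      fun a B => ny * ind G K x B₀ a B - nx * ind G K y B₀ a B with hw
    have hwinv : ∀ (g : G) (a : Ω) (B : Set.powersetCard Ω 2), w (g • a) (g • B) = w a B := by
      intro g a B
      simp only [hw, ind_smul]
    have hsum : ∀ B, ∑ a, w a B = 0 := by
      intro B
      simp only [hw, Finset.sum_sub_distrib, ← Finset.mul_sum, hrowx, hrowy]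
      ring
    have := kernel_const h w hwinv hsum y b B₀
    simp only [hw, ind, if_pos hRyy, if_neg hRxy, if_neg hRxb, if_neg hRyb] at this
    apply hne
    linear_combination -this
  -- second kernel
  have hsum : ∀ B, ∑ a, ind G K x B₀ a B = 0 := by
    intro B; rw [hrowx, hnx0]
  have := kernel_const h (ind G K x B₀) (fun g a B => ind_smul x B₀ a B g) hsum x b B₀
  simp only [ind, if_pos hRxx, if_neg hRxb] at this
  exact one_ne_zero this

/-- Let a finite group act faithfully and doubly transitively with point stabilisers of even order, and let `K` have characteristic `p` dividing the degree. If the heart of the permutation module admits no non-zero equivariant map to the permutation module on unordered pairs (phrased: every intertwining map from the sum-zero functions vanishing on the constants is zero), the action is triply transitive. -/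
theorem result {G : Type*} [Group G] [Finite G] {K : Type*} [Field K] {p : ℕ} [Fact p.Prime] [CharP K p] {Ω : Type*} [Fintype Ω] [DecidableEq Ω] [MulAction G Ω] [FaithfulSMul G Ω] (h2 : MulAction.IsMultiplyPretransitive G Ω 2) (hp : p ∣ Fintype.card Ω) (heven : ∀ a : Ω, Even (Nat.card (MulAction.stabilizer G a))) (h : ∀ f : Representation.IntertwiningMap (Cfsg.permSumZero K G Ω).toRepresentation (Cfsg.permRep K G (Set.powersetCard Ω 2)), (∀ v : (Cfsg.permSumZero K G Ω).toSubmodule, (v : Ω → K) ∈ (Cfsg.permConstants K G Ω).toSubmodule → f v = 0) → f = 0) : MulAction.IsMultiplyPretransitive G Ω 3 := by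
  classical
  have h2' : ∀ {a b c d : Ω}, a ≠ b → c ≠ d → ∃ g : G, g • a = c ∧ g • b = d :=
    MulAction.is_two_pretransitive_iff.mp h2
  refine ⟨fun j j' => ?_⟩
  -- the three points
  have hj01 : j 0 ≠ j 1 := j.injective.ne (by decide)
  have hj02 : j 0 ≠ j 2 := j.injective.ne (by decide)
  have hj12 : j 1 ≠ j 2 := j.injective.ne (by decide)
  have hj'01 : j' 0 ≠ j' 1 := j'.injective.ne (by decide)
  have hj'02 : j' 0 ≠ j' 2 := j'.injective.ne (by decide)
  have hj'12 : j' 1 ≠ j' 2 := j'.injective.ne (by decide)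
  -- an involution fixing the point c' = j' 2
  set c' : Ω := j' 2 with hc'
  obtain ⟨⟨t, htc⟩, ht⟩ := exists_prime_orderOf_dvd_card' (G := MulAction.stabilizer G c') 2
    (even_iff_two_dvd.mp (heven c'))
  have hto : orderOf t = 2 := by
    rw [← ht]; exact (Subgroup.orderOf_mk t htc).symm
  have htc' : t • c' = c' := htc
  have ht1 : t ≠ 1 := by
    intro h1
    rw [h1, orderOf_one] at hto
    omega
  have htt : t * t = 1 := by
    rw [← pow_two, ← hto]; exact pow_orderOf_eq_one t
  obtain ⟨u, hu⟩ : ∃ u : Ω, t • u ≠ u := by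
    by_contra hall
    push Not at hall
    apply ht1
    apply FaithfulSMul.eq_of_smul_eq_smul (α := Ω)
    intro a
    rw [hall a, one_smul]
  obtain ⟨v, hv⟩ : ∃ v : Ω, v = t • u := ⟨_, rfl⟩
  have htv : t • v = u := by rw [hv, ← mul_smul, htt, one_smul]
  have huv : u ≠ v := fun h' => hu (hv ▸ h'.symm)
  have huc : u ≠ c' := by
    intro h'
    apply hu
    rw [h']; exact htc'
  have hvc : v ≠ c' := by
    intro h'
    apply huc
    have : t • v = t • c' := by rw [h']
    rw [htv, htc'] at this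
    exact this
  -- the pair {u, v}
  let B₀ : Set.powersetCard Ω 2 := ⟨{u, v}, Finset.card_pair huv⟩
  have hmemB : ∀ a : Ω, a ∈ B₀ ↔ a = u ∨ a = v := by
    intro a
    show a ∈ ({u, v} : Finset Ω) ↔ _
    simp
  have htB : t • B₀ = B₀ := by
    apply Subtype.ext
    rw [Set.powersetCard.coe_smul]
    show t • ({u, v} : Finset Ω) = {u, v}
    rw [Finset.smul_finset_insert, Finset.smul_finset_singleton, htv, ← hv]
    exact Finset.pair_comm v u
  have hc'B : c' ∉ B₀ := by
    rw [hmemB]; push Not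
    exact ⟨Ne.symm huc, Ne.symm hvc⟩
  -- the pointwise stabilizer of u, v is transitive on the other points
  have hfix : ∀ g : G, g • B₀ = B₀ → (g • u = u ∧ g • v = v) ∨ (g • u = v ∧ g • v = u) := by
    intro g hg
    have h1 : g • u ∈ B₀ := by
      have : g • u ∈ (g • B₀ : Set.powersetCard Ω 2) := by
        rw [← Set.powersetCard.mem_coe_iff, Set.powersetCard.coe_smul,
          Finset.smul_mem_smul_finset_iff]
        exact (hmemB u).mpr (Or.inl rfl)
      rwa [hg] at this
    have h2'' : g • v ∈ B₀ := by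
      have : g • v ∈ (g • B₀ : Set.powersetCard Ω 2) := by
        rw [← Set.powersetCard.mem_coe_iff, Set.powersetCard.coe_smul,
          Finset.smul_mem_smul_finset_iff]
        exact (hmemB v).mpr (Or.inr rfl)
      rwa [hg] at this
    rw [hmemB] at h1 h2''
    have hne : g • u ≠ g • v := fun h' => huv (smul_left_cancel g h')
    rcases h1 with h1 | h1 <;> rcases h2'' with h3 | h3
    · exact absurd (h1.trans h3.symm) hne
    · exact Or.inl ⟨h1, h3⟩
    · exact Or.inr ⟨h1, h3⟩
    · exact absurd (h1.trans h3.symm) hne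
  have hto_c' : ∀ x : Ω, x ∉ B₀ → ∃ g : G, g • u = u ∧ g • v = v ∧ g • x = c' := by
    intro x hx
    obtain ⟨g, hgB, hgx⟩ := setwise_transitive h2 h B₀ x c' hx hc'B
    rcases hfix g hgB with ⟨h1, h3⟩ | ⟨h1, h3⟩
    · exact ⟨g, h1, h3, hgx⟩
    · refine ⟨t * g, ?_, ?_, ?_⟩
      · rw [mul_smul, h1, htv]
      · rw [mul_smul, h3, hv]
      · rw [mul_smul, hgx, htc']
  have htrans : ∀ x y : Ω, x ∉ B₀ → y ∉ B₀ → ∃ g : G, g • u = u ∧ g • v = v ∧ g • x = y := by
    intro x y hx hy
    obtain ⟨g₁, h1u, h1v, h1x⟩ := hto_c' x hx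
    obtain ⟨g₂, h2u, h2v, h2y⟩ := hto_c' y hy
    refine ⟨g₂⁻¹ * g₁, ?_, ?_, ?_⟩
    · rw [mul_smul, h1u, inv_smul_eq_iff, h2u]
    · rw [mul_smul, h1v, inv_smul_eq_iff, h2v]
    · rw [mul_smul, h1x, inv_smul_eq_iff, h2y]
  -- move both triples so that their first two points are u, v
  obtain ⟨k, hk0, hk1⟩ := h2' hj01 huv
  obtain ⟨k', hk'0, hk'1⟩ := h2' hj'01 huv
  have hx : k • j 2 ∉ B₀ := by
    rw [hmemB]; push Not
    constructor
    · rw [← hk0]; exact fun h' => hj02 (smul_left_cancel k h').symm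
    · rw [← hk1]; exact fun h' => hj12 (smul_left_cancel k h').symm
  have hy : k' • j' 2 ∉ B₀ := by
    rw [hmemB]; push Not
    constructor
    · rw [← hk'0]; exact fun h' => hj'02 (smul_left_cancel k' h').symm
    · rw [← hk'1]; exact fun h' => hj'12 (smul_left_cancel k' h').symm
  obtain ⟨g, hgu, hgv, hgx⟩ := htrans _ _ hx hy
  refine ⟨k'⁻¹ * g * k, ?_⟩
  ext i
  rw [Function.Embedding.smul_apply]
  fin_cases i
  · show (k'⁻¹ * g * k) • j 0 = j' 0
    rw [mul_smul, mul_smul, hk0, hgu, inv_smul_eq_iff, hk'0]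
  · show (k'⁻¹ * g * k) • j 1 = j' 1
    rw [mul_smul, mul_smul, hk1, hgv, inv_smul_eq_iff, hk'1]
  · show (k'⁻¹ * g * k) • j 2 = j' 2
    rw [mul_smul, mul_smul, hgx, inv_smul_smul]

end Cfsg.Agent.S0672
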