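import Mathlib
import Cfsg.Statements.S0674
import Cfsg.Agent.Lib.Helper18.PrimeDegree

set_option autoImplicit false
set_option linter.style.haveILetI false
open Cfsg

namespace Cfsg.Agent.S0674

open Module

/-- Let `G` be a non-solvable transitive permutation group of prime degree `p` and `K` a field of characteristic `p`. Then the heart of the permutation module is irreducible: an invariant subspace containing the constants and contained in the sum-zero functions is one or the other. -/
theorem result {α : Type*} [Fintype α] [DecidableEq α] {p : ℕ} [Fact p.Prime] (hα : Fintype.card α = p) (G : Subgroup (Equiv.Perm α)) [MulAction.IsPretransitive G α] (hG : ¬ Group.IsSolvable G) {K : Type*} [Field K] [CharP K p] (W : Subrepresentation (Cfsg.permRep K G α)) (h₁ : (Cfsg.permConstants K G α).toSubmodule ≤ W.toSubmodule) (h₂ : W.toSubmodule ≤ (Cfsg.permSumZero K G α).toSubmodule) : W = Cfsg.permConstants K G α ∨ W = Cfsg.permSumZero K G α := by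
  classical
  have hpP : p.Prime := Fact.out
  by_contra hcon
  push Not at hcon
  obtain ⟨hne1, hne2⟩ := hcon
  apply hG
  haveI : Nonempty α := Fintype.card_pos_iff.mp (hα.symm ▸ hpP.pos)
  obtain ⟨a₀⟩ := ‹Nonempty α›
  have hlt1 : (Cfsg.permConstants K G α).toSubmodule < W.toSubmodule :=
    lt_of_le_of_ne h₁ (fun h => hne1 (Subrepresentation.toSubmodule_injective h.symm))
  have hlt2 : W.toSubmodule < (Cfsg.permSumZero K G α).toSubmodule :=
    lt_of_le_of_ne h₂ (fun h => hne2 (Subrepresentation.toSubmodule_injective h))
  have hr1 : finrank K (Cfsg.permConstants K G α).toSubmodule = 1 := by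
    show finrank K (Submodule.span K {fun _ : α => (1 : K)}) = 1
    apply finrank_span_singleton
    intro h0
    exact one_ne_zero (congrFun h0 a₀)
  have hr2 := Submodule.finrank_lt_finrank_of_lt hlt1
  have hr3 := Submodule.finrank_lt_finrank_of_lt hlt2
  have hr4 : finrank K (Cfsg.permSumZero K G α).toSubmodule < p := by
    have hlt : (Cfsg.permSumZero K G α).toSubmodule < ⊤ := by
      rw [lt_top_iff_ne_top]
      intro htop
      have hmem : (Pi.single a₀ (1 : K) : α → K) ∈ (Cfsg.permSumZero K G α).toSubmodule := by
        rw [htop]; exact Submodule.mem_top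
      have hsum : (∑ x, (Pi.single a₀ (1 : K) : α → K) x) = 0 := hmem
      rw [Finset.sum_pi_single' a₀ (1 : K) Finset.univ] at hsum
      simp at hsum
    have := Submodule.finrank_lt_finrank_of_lt hlt
    rwa [finrank_top, Module.finrank_fintype_fun_eq_card, hα] at this
  exact Cfsg.Agent.Lib.Helper18.PrimeDegree.solvable_of_subrep hα G W (by omega) (Or.inl (by omega))

end Cfsg.Agent.S0674
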