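import Mathlib
import Cfsg.Statements.S0675
import Cfsg.Agent.S0671
import Cfsg.Agent.S0674
import Cfsg.Agent.Lib.Helper18.PrimeDegree

set_option autoImplicit false
set_option linter.style.haveILetI false
open Cfsg

namespace Cfsg.Agent.S0675

open Module Cfsg.Agent.Lib.Helper18.PrimeDegree

/-- Burnside's Theorem on permutation groups of prime degree: a transitive permutation group of prime degree that is not solvable is doubly transitive. -/
theorem result {α : Type*} [Fintype α] [DecidableEq α] (hα : (Fintype.card α).Prime) (G : Subgroup (Equiv.Perm α)) [MulAction.IsPretransitive G α] : Group.IsSolvable G ∨ MulAction.IsMultiplyPretransitive G α 2 := by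
  classical
  by_cases hsolv : Group.IsSolvable G
  · exact Or.inl hsolv
  right
  set p := Fintype.card α with hp
  haveI : Fact p.Prime := ⟨hα⟩
  haveI : Nonempty α := Fintype.card_pos_iff.mp hα.pos
  -- the case p = 2
  by_cases hp2 : p = 2
  · rw [MulAction.is_two_pretransitive_iff]
    intro a b c d hab hcd
    obtain ⟨g, hg⟩ := MulAction.exists_smul_eq G a c
    refine ⟨g, hg, ?_⟩
    by_contra hne
    have hne' : g • b ≠ c := by
      rw [← hg]
      exact fun h => hab (smul_left_cancel g h).symm
    have hcard : ({c, d, g • b} : Finset α).card = 3 := by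
      rw [Finset.card_insert_of_notMem, Finset.card_pair (Ne.symm hne)]
      simp only [Finset.mem_insert, Finset.mem_singleton, not_or]
      exact ⟨hcd, Ne.symm hne'⟩
    have := Finset.card_le_univ ({c, d, g • b} : Finset α)
    rw [hcard, ← hp, hp2] at this
    omega
  -- now p ≥ 3
  have hp3 : 3 ≤ p := by
    have := hα.two_le
    omega
  let K := ZMod p
  -- a sum-zero function which is not constant
  obtain ⟨a, b, hab⟩ : ∃ a b : α, a ≠ b := by
    have : 1 < Fintype.card α := by omega
    obtain ⟨a, b, hab⟩ := Fintype.one_lt_card_iff.mp this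
    exact ⟨a, b, hab⟩
  obtain ⟨c, hca, hcb⟩ : ∃ c : α, c ≠ a ∧ c ≠ b := by
    by_contra hno
    push Not at hno
    have hsub : (Finset.univ : Finset α) ⊆ {a, b} := by
      intro x _
      by_cases hxa : x = a
      · simp [hxa]
      · simp [hno x hxa]
    have := Finset.card_le_card hsub
    rw [Finset.card_univ, Finset.card_pair hab] at this
    omega
  set v0 : α → K := fun x => (if x = a then 1 else 0) - (if x = b then 1 else 0) with hv0
  have hv0sz : v0 ∈ (Cfsg.permSumZero K G α).toSubmodule := by
    show (∑ x, v0 x) = 0
    simp [hv0, Finset.sum_sub_distrib]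
  have hv0c : v0 ∉ (Cfsg.permConstants K G α).toSubmodule := by
    intro hmem
    have hmem' : v0 ∈ Submodule.span K {fun _ : α => (1 : K)} := hmem
    rw [Submodule.mem_span_singleton] at hmem'
    obtain ⟨t, ht⟩ := hmem'
    have h1 := congrFun ht c
    have h2 := congrFun ht a
    simp only [hv0, Pi.smul_apply, smul_eq_mul, mul_one, if_neg hca, if_neg hcb, sub_zero,
      if_true, if_neg hab] at h1 h2
    rw [h1] at h2
    exact zero_ne_one h2
  have hone_sz : (fun _ : α => (1 : K)) ∈ (Cfsg.permSumZero K G α).toSubmodule := by
    show (∑ _x : α, (1 : K)) = 0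
    rw [Finset.sum_const, Finset.card_univ, nsmul_eq_mul, mul_one]
    exact CharP.cast_eq_zero K p
  have hconst_sz : (Cfsg.permConstants K G α).toSubmodule ≤
      (Cfsg.permSumZero K G α).toSubmodule := by
    show Submodule.span K {fun _ : α => (1 : K)} ≤ _
    rw [Submodule.span_le, Set.singleton_subset_iff]
    exact hone_sz
  have hc1 : finrank K (Cfsg.permConstants K G α).toSubmodule = 1 := finrank_constants G
  have hsz : finrank K (Cfsg.permSumZero K G α).toSubmodule < p := finrank_sumZero_lt G
  have hcsz : finrank K (Cfsg.permConstants K G α).toSubmodule <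
      finrank K (Cfsg.permSumZero K G α).toSubmodule := by
    apply Submodule.finrank_lt_finrank_of_lt
    exact lt_of_le_of_ne hconst_sz (fun h => hv0c (h ▸ hv0sz))
  -- the case p = 3
  have hp5 : 5 ≤ p := by
    by_contra hlt
    have hp3' : p = 3 := by
      have h4 : p ≠ 4 := by
        intro h4
        rw [h4] at hα
        exact absurd hα (by decide)
      omega
    apply hsolv
    exact solvable_of_subrep (K := K) rfl G (Cfsg.permSumZero K G α) (by omega)
      (Or.inr (by omega))
  -- the general case
  apply Cfsg.Agent.S0671.result (K := K) (p := p) (f := 1) le_rfl (by rw [pow_one])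
  intro W W' hcW hWW' hW'sz
  have hW := Cfsg.Agent.S0674.result rfl G hsolv W hcW (hWW'.le.trans hW'sz)
  have hW' := Cfsg.Agent.S0674.result rfl G hsolv W' (hcW.trans hWW'.le) hW'sz
  have hWc : W = Cfsg.permConstants K G α := by
    rcases hW with h | h
    · exact h
    · exfalso
      rw [h] at hWW'
      exact absurd hW'sz (not_le_of_gt hWW')
  have hW's : W' = Cfsg.permSumZero K G α := by
    rcases hW' with h | h
    · exfalso
      rw [h, hWc] at hWW'
      exact lt_irrefl _ hWW'
    · exact h
  subst hWc
  subst hW's
  by_contra hall
  push Not at hall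
  -- the invariant plane spanned by the constants and `v0`
  let U : Subrepresentation (Cfsg.permRep K G α) :=
    { toSubmodule := (Cfsg.permConstants K G α).toSubmodule ⊔ Submodule.span K {v0}
      apply_mem_toSubmodule := by
        intro g u hu
        obtain ⟨y, hy, z, hz, rfl⟩ := Submodule.mem_sup.mp hu
        obtain ⟨t, rfl⟩ := Submodule.mem_span_singleton.mp hz
        rw [map_add, map_smul]
        have h1 : Cfsg.permRep K G α g y ∈ (Cfsg.permConstants K G α).toSubmodule :=
          (Cfsg.permConstants K G α).apply_mem_toSubmodule g hy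
        have h2 := hall g v0 hv0sz
        have h3 : Cfsg.permRep K G α g v0 = (Cfsg.permRep K G α g v0 - v0) + v0 := by abel
        rw [h3, smul_add, ← add_assoc]
        refine Submodule.add_mem_sup (add_mem h1 (Submodule.smul_mem _ t h2)) ?_
        exact Submodule.smul_mem _ t (Submodule.mem_span_singleton_self v0) }
  have hU1 : finrank K (Cfsg.permConstants K G α).toSubmodule < finrank K U.toSubmodule := by
    apply Submodule.finrank_lt_finrank_of_lt
    refine lt_of_le_of_ne le_sup_left (fun h => hv0c ?_)
    rw [h]
    exact Submodule.mem_sup_right (Submodule.mem_span_singleton_self v0)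
  have hU2 : finrank K U.toSubmodule ≤ 2 := by
    have h1 := Submodule.finrank_add_le_finrank_add_finrank
      (Cfsg.permConstants K G α).toSubmodule (Submodule.span K {v0})
    have h2 : finrank K (Submodule.span K {v0}) ≤ 1 := by
      have := finrank_span_le_card (R := K) ({v0} : Set (α → K))
      simpa using this
    have h3 : finrank K U.toSubmodule =
      finrank K ↥((Cfsg.permConstants K G α).toSubmodule ⊔ Submodule.span K {v0}) := rfl
    omega
  apply hsolv
  exact solvable_of_subrep (K := K) rfl G U (by omega) (Or.inl (by omega))

end Cfsg.Agent.S0675
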