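import Mathlib
import Cfsg.Statements.S0676
import Cfsg.Agent.S0672
import Cfsg.Agent.S0674
import Cfsg.Agent.S0675
import Cfsg.Agent.Lib.Helper18.PrimeDegree

set_option autoImplicit false
set_option linter.style.haveILetI false
set_option maxHeartbeats 400000
open Cfsg

namespace Cfsg.Agent.S0676

open Module MulAction Cfsg.Agent.Lib.Helper18.PrimeDegree
open scoped Pointwise

/-- The sum of all elements of `ZMod p` vanishes for odd `p`. -/
theorem sum_zmod {p : ℕ} [Fact p.Prime] (hp2 : p ≠ 2) : ∑ j : ZMod p, j = 0 := by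
  have hpP : p.Prime := Fact.out
  have h2ne : (2 : ZMod p) ≠ 0 := by
    intro h2
    have : ((2 : ℕ) : ZMod p) = 0 := by exact_mod_cast h2
    rw [ZMod.natCast_eq_zero_iff] at this
    exact hp2 ((Nat.prime_dvd_prime_iff_eq hpP Nat.prime_two).mp this)
  have h1 : ∑ j : ZMod p, j = ∑ j : ZMod p, -j :=
    (Fintype.sum_equiv (Equiv.neg (ZMod p)) _ _ (fun j => rfl)).symm
  rw [Finset.sum_neg_distrib] at h1
  have h2 : (2 : ZMod p) * ∑ j : ZMod p, j = 0 := by linear_combination h1
  rcases mul_eq_zero.mp h2 with h | h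
  · exact absurd h h2ne
  · exact h

/-- A non-solvable transitive permutation group of prime degree `p` whose Sylow `p`-normaliser has even order is triply transitive. -/
theorem result {α : Type*} [Fintype α] [DecidableEq α] {p : ℕ} [Fact p.Prime] (hα : Fintype.card α = p) (G : Subgroup (Equiv.Perm α)) [MulAction.IsPretransitive G α] (hG : ¬ Group.IsSolvable G) (P : Sylow p G) (heven : Even (Nat.card (Subgroup.normalizer ((P : Subgroup G) : Set G)))) : MulAction.IsMultiplyPretransitive G α 3 := by
  classical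
  have hpP : p.Prime := Fact.out
  haveI : Nonempty α := Fintype.card_pos_iff.mp (hα.symm ▸ hpP.pos)
  have hp2 : p ≠ 2 := by
    intro h2
    exact hG (solvable_of_card_two (hα.trans h2) G)
  have h2ne : (2 : ZMod p) ≠ 0 := by
    intro h2
    have : ((2 : ℕ) : ZMod p) = 0 := by exact_mod_cast h2
    rw [ZMod.natCast_eq_zero_iff] at this
    exact hp2 ((Nat.prime_dvd_prime_iff_eq hpP Nat.prime_two).mp this)
  have h2t : IsMultiplyPretransitive G α 2 := by
    rcases Cfsg.Agent.S0675.result (hα.symm ▸ hpP) G with h | h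
    · exact absurd h hG
    · exact h
  obtain ⟨a₀⟩ := ‹Nonempty α›
  have hcardG : ∀ a : α, Nat.card G = p * Nat.card (stabilizer G a) := by
    intro a
    rw [← Subgroup.index_mul_card (stabilizer G a), MulAction.index_stabilizer,
      MulAction.orbit_eq_univ, Set.ncard_univ, Nat.card_eq_fintype_card, hα]
  let K := ZMod p
  apply Cfsg.Agent.S0672.result (K := K) (p := p) h2t (hα ▸ dvd_rfl)
  · intro a
    have h2G : 2 ∣ Nat.card G :=
      dvd_trans (even_iff_two_dvd.mp heven) (Subgroup.card_subgroup_dvd_card _)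
    rw [hcardG a] at h2G
    rw [even_iff_two_dvd]
    have hcop : Nat.Coprime 2 p := by
      rw [Nat.coprime_primes Nat.prime_two hpP]
      exact fun h => hp2 h.symm
    exact hcop.dvd_of_dvd_mul_left h2G
  intro f hf
  -- the Sylow subgroup has order p
  have hdvdG : p ∣ Nat.card G := by rw [hcardG a₀]; exact dvd_mul_right _ _
  have hdvdP : p ∣ Nat.card (P : Subgroup G) := P.dvd_card_of_dvd_card hdvdG
  have hGfact : Nat.card G ∣ p.factorial := by
    have := Subgroup.card_subgroup_dvd_card G
    rwa [Nat.card_eq_fintype_card (α := Equiv.Perm α), Fintype.card_perm, hα] at this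
  have hPcard : Nat.card (P : Subgroup G) = p := by
    obtain ⟨k, hk⟩ := P.isPGroup'.exists_card_eq
    have h1 : p ^ k ∣ p.factorial := by
      rw [← hk]
      exact (Subgroup.card_subgroup_dvd_card _).trans hGfact
    rcases k with _ | _ | k
    · rw [hk, pow_zero] at hdvdP
      exact absurd (Nat.dvd_one.mp hdvdP) hpP.ne_one
    · rw [hk, pow_one]
    · exfalso
      have h2 : p ^ 2 ∣ p.factorial := dvd_trans (pow_dvd_pow p (by omega)) h1
      rw [← Nat.mul_factorial_pred hpP.pos.ne', pow_two] at h2
      have h3 : p ∣ (p - 1).factorial := (Nat.mul_dvd_mul_iff_left hpP.pos).mp h2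
      have := (hpP.dvd_factorial).mp h3
      have := hpP.two_le
      omega
  obtain ⟨⟨c, hcP⟩, hc⟩ := exists_prime_orderOf_dvd_card' p hdvdP
  have hco : orderOf c = p := by
    rw [← hc]; exact (Subgroup.orderOf_mk c hcP).symm
  have hPeq : Subgroup.zpowers c = (P : Subgroup G) := by
    apply Subgroup.eq_of_le_of_card_ge
    · rw [Subgroup.zpowers_le]; exact hcP
    · rw [Nat.card_zpowers, hco, hPcard]
  haveI : Fact (Nat.Prime 2) := ⟨Nat.prime_two⟩
  obtain ⟨⟨t, htN⟩, ht⟩ := exists_prime_orderOf_dvd_card' 2 (even_iff_two_dvd.mp heven)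
  have hto : orderOf t = 2 := by
    rw [← ht]; exact (Subgroup.orderOf_mk t htN).symm
  have htc : t * c * t⁻¹ ∈ Subgroup.zpowers c := by
    rw [hPeq]
    exact (Subgroup.mem_normalizer_iff.mp htN c).mp hcP
  have hco' : orderOf (c : Equiv.Perm α) = p := by rw [Subgroup.orderOf_coe]; exact hco
  have hto' : orderOf (t : Equiv.Perm α) = 2 := by rw [Subgroup.orderOf_coe]; exact hto
  have htc' : (t : Equiv.Perm α) * c * (t : Equiv.Perm α)⁻¹ ∈
      Subgroup.zpowers (c : Equiv.Perm α) := by
    obtain ⟨m, hm⟩ := Subgroup.mem_zpowers_iff.mp htc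
    refine Subgroup.mem_zpowers_iff.mpr ⟨m, ?_⟩
    have := congrArg Subtype.val hm
    simpa using this
  obtain ⟨e, he, het⟩ := exists_coord_neg hp2 hα (c : Equiv.Perm α) (t : Equiv.Perm α)
    hco' hto' htc'
  -- the coordinate function
  set ι : α → K := fun x => e.symm x with hι
  have hcι : ∀ x, ι ((c : Equiv.Perm α) x) = ι x + 1 := by
    intro x
    obtain ⟨j, rfl⟩ := e.surjective x
    simp only [hι]
    rw [← he, Equiv.symm_apply_apply, Equiv.symm_apply_apply]
  have htι : ∀ x, ι ((t : Equiv.Perm α) x) = - ι x := by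
    intro x
    obtain ⟨j, rfl⟩ := e.surjective x
    simp only [hι]
    rw [← het, Equiv.symm_apply_apply, Equiv.symm_apply_apply]
  have hιsz : ι ∈ (Cfsg.permSumZero K G α).toSubmodule := by
    show (∑ x, ι x) = 0
    rw [← sum_zmod hp2]
    exact Fintype.sum_equiv e.symm _ _ (fun x => rfl)
  have hone_sz : (fun _ : α => (1 : K)) ∈ (Cfsg.permSumZero K G α).toSubmodule := by
    show (∑ _x : α, (1 : K)) = 0
    rw [Finset.sum_const, Finset.card_univ, hα, nsmul_eq_mul, mul_one]
    exact CharP.cast_eq_zero K p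
  have hone_c : (fun _ : α => (1 : K)) ∈ (Cfsg.permConstants K G α).toSubmodule :=
    Submodule.subset_span (Set.mem_singleton _)
  -- the subrepresentation killed by f
  let W : Subrepresentation (Cfsg.permRep K G α) :=
    { toSubmodule := (LinearMap.ker f.toLinearMap).map
        (Cfsg.permSumZero K G α).toSubmodule.subtype
      apply_mem_toSubmodule := by
        rintro g _ ⟨w, hw, rfl⟩
        have hw' : f w = 0 := hw
        refine ⟨(Cfsg.permSumZero K G α).toRepresentation g w, ?_, rfl⟩
        show f ((Cfsg.permSumZero K G α).toRepresentation g w) = 0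
        rw [Representation.IntertwiningMap.isIntertwining _ _ f g w, hw', map_zero] }
  have hWmem : ∀ v : α → K, v ∈ W.toSubmodule ↔
      ∃ hv : v ∈ (Cfsg.permSumZero K G α).toSubmodule, f ⟨v, hv⟩ = 0 := by
    intro v
    constructor
    · rintro ⟨w, hw, rfl⟩
      have hw' : f w = 0 := hw
      exact ⟨w.2, hw'⟩
    · rintro ⟨hv, hfv⟩
      refine ⟨⟨v, hv⟩, ?_, rfl⟩
      show f ⟨v, hv⟩ = 0
      exact hfv
  have hcW : (Cfsg.permConstants K G α).toSubmodule ≤ W.toSubmodule := by
    show Submodule.span K {fun _ : α => (1 : K)} ≤ _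
    rw [Submodule.span_le, Set.singleton_subset_iff]
    exact (hWmem _).mpr ⟨hone_sz, hf ⟨_, hone_sz⟩ hone_c⟩
  have hWsz : W.toSubmodule ≤ (Cfsg.permSumZero K G α).toSubmodule := by
    intro v hv
    obtain ⟨hv', _⟩ := (hWmem v).mp hv
    exact hv'
  rcases Cfsg.Agent.S0674.result hα G hG W hcW hWsz with hW | hW
  · -- impossible: the coordinate function is killed by f
    exfalso
    set φ : Set.powersetCard α 2 → K := f ⟨ι, hιsz⟩ with hφ
    -- general equivariance on ι
    have hequiv : ∀ (g : G) (hg : Cfsg.permRep K G α g ι ∈ (Cfsg.permSumZero K G α).toSubmodule),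
        f ⟨Cfsg.permRep K G α g ι, hg⟩ = Cfsg.permRep K G (Set.powersetCard α 2) g φ := by
      intro g hg
      exact Representation.IntertwiningMap.isIntertwining _ _ f g ⟨ι, hιsz⟩
    -- invariance under c
    have hφc : ∀ B : Set.powersetCard α 2, φ (c • B) = φ B := by
      intro B
      have h1 : Cfsg.permRep K G α c⁻¹ ι = ι + fun _ => (1 : K) := by
        ext x
        show ι ((c⁻¹)⁻¹ • x) = ι x + 1
        rw [inv_inv]
        exact hcι x
      have h2 := hequiv c⁻¹ ((Cfsg.permSumZero K G α).apply_mem_toSubmodule c⁻¹ hιsz)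
      have h3 : (⟨Cfsg.permRep K G α c⁻¹ ι,
          (Cfsg.permSumZero K G α).apply_mem_toSubmodule c⁻¹ hιsz⟩ :
          (Cfsg.permSumZero K G α).toSubmodule) = ⟨ι, hιsz⟩ + ⟨_, hone_sz⟩ :=
        Subtype.ext h1
      rw [h3, map_add, hf ⟨_, hone_sz⟩ hone_c, add_zero] at h2
      have h4 := congrFun h2 B
      rw [← hφ] at h4
      rw [h4]
      show φ (c • B) = φ ((c⁻¹)⁻¹ • B)
      rw [inv_inv]
    have hφcn : ∀ (n : ℕ) (B : Set.powersetCard α 2), φ (c ^ n • B) = φ B := by
      intro n
      induction n with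
      | zero => intro B; rw [pow_zero, one_smul]
      | succ n ih => intro B; rw [pow_succ', mul_smul, hφc, ih]
    -- anti-invariance under t
    have hφt : ∀ B : Set.powersetCard α 2, φ (t • B) = - φ B := by
      intro B
      have h1 : Cfsg.permRep K G α t⁻¹ ι = -ι := by
        ext x
        show ι ((t⁻¹)⁻¹ • x) = - ι x
        rw [inv_inv]
        exact htι x
      have h2 := hequiv t⁻¹ ((Cfsg.permSumZero K G α).apply_mem_toSubmodule t⁻¹ hιsz)
      have h3 : (⟨Cfsg.permRep K G α t⁻¹ ι,
          (Cfsg.permSumZero K G α).apply_mem_toSubmodule t⁻¹ hιsz⟩ :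
          (Cfsg.permSumZero K G α).toSubmodule) = -⟨ι, hιsz⟩ :=
        Subtype.ext h1
      rw [h3, map_neg] at h2
      have h4 := congrFun h2 (t • B)
      rw [← hφ] at h4
      have h5 : Cfsg.permRep K G (Set.powersetCard α 2) t⁻¹ φ (t • B) = φ (t • (t • B)) := by
        show φ ((t⁻¹)⁻¹ • (t • B)) = _
        rw [inv_inv]
      have htt : t * t = 1 := by rw [← pow_two, ← hto]; exact pow_orderOf_eq_one t
      rw [h5, ← mul_smul, htt, one_smul] at h4
      rw [Pi.neg_apply] at h4
      rw [← h4, neg_neg]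
    -- t acts on each pair as a power of c
    have hpair : ∀ B : Set.powersetCard α 2, ∃ n : ℕ, t • B = c ^ n • B := by
      intro B
      obtain ⟨x, y, hxy, hB⟩ := Finset.card_eq_two.mp B.2
      set i := e.symm x with hi
      set j := e.symm y with hj
      have hxi : x = e i := by rw [hi, Equiv.apply_symm_apply]
      have hyj : y = e j := by rw [hj, Equiv.apply_symm_apply]
      refine ⟨(-(i + j)).val, ?_⟩
      apply Subtype.ext
      show t • (B : Finset α) = c ^ (-(i + j)).val • (B : Finset α)
      have hBv : (B : Finset α) = {x, y} := hB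
      rw [hBv, Finset.smul_finset_insert, Finset.smul_finset_singleton,
        Finset.smul_finset_insert, Finset.smul_finset_singleton]
      have h1 : c ^ (-(i + j)).val • x = t • y := by
        show ((c ^ (-(i + j)).val : G) : Equiv.Perm α) x = (t : Equiv.Perm α) y
        rw [Subgroup.coe_pow, hxi, coord_pow (c : Equiv.Perm α) e he, ZMod.natCast_zmod_val,
          hyj, ← het]
        congr 1
        ring
      have h2 : c ^ (-(i + j)).val • y = t • x := by
        show ((c ^ (-(i + j)).val : G) : Equiv.Perm α) y = (t : Equiv.Perm α) x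
        rw [Subgroup.coe_pow, hyj, coord_pow (c : Equiv.Perm α) e he, ZMod.natCast_zmod_val,
          hxi, ← het]
        congr 1
        ring
      rw [h1, h2]
      exact Finset.pair_comm _ _
    have hφ0 : φ = 0 := by
      ext B
      obtain ⟨n, hn⟩ := hpair B
      have h1 := hφt B
      rw [hn, hφcn] at h1
      have h2 : (2 : K) * φ B = 0 := by linear_combination h1
      rcases mul_eq_zero.mp h2 with h | h
      · exact absurd h h2ne
      · exact h
    have hιW : ι ∈ W.toSubmodule := (hWmem ι).mpr ⟨hιsz, hφ0⟩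
    rw [hW] at hιW
    have hιW' : ι ∈ Submodule.span K {fun _ : α => (1 : K)} := hιW
    rw [Submodule.mem_span_singleton] at hιW'
    obtain ⟨r, hr⟩ := hιW'
    have h0 := congrFun hr (e 0)
    have h1 := congrFun hr (e 1)
    simp only [hι, Pi.smul_apply, smul_eq_mul, mul_one, Equiv.symm_apply_apply] at h0 h1
    rw [h0] at h1
    exact zero_ne_one h1
  · -- f = 0
    ext v B
    have hv : (v : α → K) ∈ W.toSubmodule := by rw [hW]; exact v.2
    obtain ⟨hv', hfv⟩ := (hWmem _).mp hv
    have : f v = 0 := hfv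
    show (f v) B = 0
    rw [this]
    rfl

end Cfsg.Agent.S0676
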