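import Mathlib
import Cfsg.Statements.S0677
import Cfsg.Agent.Lib.Helper18.PrimeDegree2
import Cfsg.Agent.Lib.Helper18.SymDiffSet

set_option autoImplicit false
set_option linter.style.haveILetI false
set_option linter.unusedSectionVars false
set_option maxHeartbeats 800000
open Cfsg

namespace Cfsg.Agent.S0677

open Module MulAction Cfsg.Agent.Lib.Helper18.PrimeDegree Cfsg.Agent.Lib.Helper18.SymDiffSet

/-- Every permutation of `ZMod 3` is affine. -/
theorem affine_three (σ : Equiv.Perm (ZMod 3)) (j : ZMod 3) :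
    σ j = (σ 1 - σ 0) * j + σ 0 := by
  have hsum : σ 0 + σ 1 + σ 2 = 0 := by
    have h1 : ∑ x : ZMod 3, σ x = ∑ x : ZMod 3, x := Equiv.sum_comp σ (fun x => x)
    have huniv : (Finset.univ : Finset (ZMod 3)) = {0, 1, 2} := by decide
    rw [huniv, Finset.sum_insert (by decide), Finset.sum_insert (by decide),
      Finset.sum_singleton, Finset.sum_insert (by decide), Finset.sum_insert (by decide),
      Finset.sum_singleton] at h1
    have h3 : (0 : ZMod 3) + (1 + 2) = 0 := by decide
    rw [h3] at h1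
    linear_combination h1
  have h30 : (3 : ZMod 3) = 0 := by decide
  fin_cases j
  · show σ 0 = (σ 1 - σ 0) * 0 + σ 0
    ring
  · show σ 1 = (σ 1 - σ 0) * 1 + σ 0
    ring
  · show σ 2 = (σ 1 - σ 0) * 2 + σ 0
    have : σ 2 = -σ 0 - σ 1 := by linear_combination hsum
    rw [this]
    linear_combination (-σ 1) * h30

section main
variable {α : Type*} [Fintype α] [DecidableEq α] {p : ℕ} [hp : Fact p.Prime]

/-- The affine case: a `p'`-group of affine maps has a fixed point. -/
theorem fixed_point_of_affine (G : Subgroup (Equiv.Perm α)) (H : Subgroup G)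
    (hpH : ¬ p ∣ Nat.card H) (e : ZMod p ≃ α)
    (haff : ∀ (g : G) (j : ZMod p), e.symm ((g : Equiv.Perm α) (e j)) =
      (e.symm ((g : Equiv.Perm α) (e 1)) - e.symm ((g : Equiv.Perm α) (e 0))) * j +
        e.symm ((g : Equiv.Perm α) (e 0))) :
    ∃ a : α, H ≤ MulAction.stabilizer G a := by
  classical
  haveI : Fintype H := Fintype.ofFinite H
  let τ : H → ZMod p → ZMod p := fun h j => e.symm ((h.1 : Equiv.Perm α) (e j))
  have hτaff : ∀ (h : H) (j : ZMod p), τ h j = (τ h 1 - τ h 0) * j + τ h 0 :=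
    fun h j => haff h.1 j
  have hτmul : ∀ (k h : H) (j : ZMod p), τ (k * h) j = τ k (τ h j) := by
    intro k h j
    show e.symm (((k * h : H).1 : Equiv.Perm α) (e j)) = e.symm ((k.1 : Equiv.Perm α)
      (e (e.symm ((h.1 : Equiv.Perm α) (e j)))))
    rw [Equiv.apply_symm_apply]
    rfl
  have hn : ((Nat.card H : ℕ) : ZMod p) ≠ 0 := by
    rw [Ne, ZMod.natCast_eq_zero_iff]
    exact hpH
  set S : ZMod p := ∑ h : H, τ h 0 with hS
  set j₁ : ZMod p := ((Nat.card H : ℕ) : ZMod p)⁻¹ * S with hj₁
  have hfix : ∀ k : H, τ k j₁ = j₁ := by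
    intro k
    have h1 : ∑ h : H, τ (k * h) 0 = S :=
      Fintype.sum_equiv (Equiv.mulLeft k) _ _ (fun h => rfl)
    have h2 : ∑ h : H, τ (k * h) 0 = (τ k 1 - τ k 0) * S + (Nat.card H : ZMod p) * τ k 0 := by
      have : ∀ h : H, τ (k * h) 0 = (τ k 1 - τ k 0) * τ h 0 + τ k 0 := by
        intro h
        rw [hτmul, hτaff k (τ h 0)]
      simp only [this, Finset.sum_add_distrib, ← Finset.mul_sum, Finset.sum_const,
        Finset.card_univ, nsmul_eq_mul, Nat.card_eq_fintype_card]
      rfl
    rw [hτaff k j₁, hj₁]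
    have h3 : (τ k 1 - τ k 0) * S + (Nat.card H : ZMod p) * τ k 0 = S := by rw [← h2, h1]
    field_simp
    linear_combination h3
  refine ⟨e j₁, ?_⟩
  intro k hk
  rw [MulAction.mem_stabilizer_iff]
  have := hfix ⟨k, hk⟩
  show (k : Equiv.Perm α) (e j₁) = e j₁
  have h4 : e.symm ((k : Equiv.Perm α) (e j₁)) = j₁ := this
  have h5 := congrArg e h4
  rwa [Equiv.apply_symm_apply] at h5

end main

/-- In a transitive permutation group of prime degree `p` whose Sylow `p`-normaliser has even order, the point stabilisers are the only subgroups of index `p`. -/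
theorem result {α : Type*} [Fintype α] [DecidableEq α] {p : ℕ} [Fact p.Prime] (hα : Fintype.card α = p) (G : Subgroup (Equiv.Perm α)) [MulAction.IsPretransitive G α] (P : Sylow p G) (heven : Even (Nat.card (Subgroup.normalizer ((P : Subgroup G) : Set G)))) (H : Subgroup G) (hH : H.index = p) : ∃ a : α, H = MulAction.stabilizer G a := by
  classical
  have hpP : p.Prime := Fact.out
  haveI : Nonempty α := Fintype.card_pos_iff.mp (hα.symm ▸ hpP.pos)
  have hHG : Nat.card H * p = Nat.card G := by rw [← hH]; exact Subgroup.card_mul_index H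
  have hHpos : 0 < Nat.card H := Nat.card_pos
  suffices hsuff : ∃ a : α, H ≤ MulAction.stabilizer G a by
    obtain ⟨a, ha⟩ := hsuff
    refine ⟨a, Subgroup.eq_of_le_of_card_ge ha ?_⟩
    have h1 : Nat.card G = p * Nat.card (MulAction.stabilizer G a) := by
      rw [← Subgroup.index_mul_card (MulAction.stabilizer G a), MulAction.index_stabilizer,
        MulAction.orbit_eq_univ, Set.ncard_univ, Nat.card_eq_fintype_card, hα]
    have h2 : p * Nat.card (MulAction.stabilizer G a) = p * Nat.card H := by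
      rw [← h1, ← hHG, mul_comm]
    exact le_of_eq (Nat.eq_of_mul_eq_mul_left hpP.pos h2)
  have hpH : ¬ p ∣ Nat.card H := by
    intro hdvd
    apply not_sq_dvd_card hα G
    rw [← hHG, pow_two]
    exact Nat.mul_dvd_mul_right hdvd p
  -- the case p = 2
  by_cases hp2 : p = 2
  · obtain ⟨a₀⟩ := ‹Nonempty α›
    refine ⟨a₀, ?_⟩
    have hG2 : Nat.card G ∣ 2 := by
      have := Subgroup.card_subgroup_dvd_card G
      rwa [Nat.card_eq_fintype_card (α := Equiv.Perm α), Fintype.card_perm, hα, hp2] at this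
    have hH1 : Nat.card H = 1 := by
      rw [← hHG, hp2] at hG2
      have := Nat.le_of_dvd (by norm_num) hG2
      omega
    rw [Subgroup.card_eq_one.mp hH1]
    exact bot_le
  -- coordinates
  obtain ⟨c, t, e, hco, hto, he, het⟩ := exists_coord_of_even_normalizer hp2 hα G P heven
  have h2ne : (2 : ZMod p) ≠ 0 := two_ne_zero' hp2
  by_cases h2t : MulAction.IsMultiplyPretransitive G α 2
  swap
  · -- the affine case
    have haff : ∀ (g : G) (j : ZMod p), e.symm ((g : Equiv.Perm α) (e j)) =
        (e.symm ((g : Equiv.Perm α) (e 1)) - e.symm ((g : Equiv.Perm α) (e 0))) * j +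
          e.symm ((g : Equiv.Perm α) (e 0)) := by
      by_cases hp3 : p = 3
      · subst hp3
        intro g j
        exact affine_three (e.symm.permCongr (g : Equiv.Perm α)) j
      · have hp5 : 5 ≤ p := by
          have h4 : p ≠ 4 := by
            intro h4
            rw [h4] at hpP
            exact absurd hpP (by decide)
          have := hpP.two_le
          omega
        obtain ⟨U, hU2, hUp⟩ := exists_subrep_of_not_two_transitive hα hp5 G h2t
        exact affine_of_subrep_coord G U hU2 (Or.inl hUp) c e he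
    exact fixed_point_of_affine G H hpH e haff
  -- the doubly transitive case
  have h2t' : ∀ {a b c d : α}, a ≠ b → c ≠ d → ∃ g : G, g • a = c ∧ g • b = d :=
    MulAction.is_two_pretransitive_iff.mp h2t
  let C : ZMod p → G := fun i => c ^ i.val
  have hCapp : ∀ i j : ZMod p, ((C i : G) : Equiv.Perm α) (e j) = e (j + i) := by
    intro i j
    show ((c ^ i.val : G) : Equiv.Perm α) (e j) = e (j + i)
    rw [Subgroup.coe_pow, coord_pow (c : Equiv.Perm α) e he, ZMod.natCast_zmod_val]
  have hC0 : C 0 = 1 := by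
    show c ^ (0 : ZMod p).val = 1
    rw [ZMod.val_zero, pow_zero]
  have hCadd : ∀ i j : ZMod p, C (i + j) = C i * C j := by
    intro i j
    show c ^ (i + j).val = c ^ i.val * c ^ j.val
    rw [← pow_add, ZMod.val_add]
    have := pow_mod_orderOf c (i.val + j.val)
    rw [hco] at this
    exact this
  have hCneg : ∀ i : ZMod p, (C i)⁻¹ = C (-i) := by
    intro i
    apply inv_eq_of_mul_eq_one_right
    rw [← hCadd, add_neg_cancel, hC0]
  have hCmem : ∀ i : ZMod p, C i ∈ H → i = 0 := by
    intro i hi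
    by_contra hne
    apply hpH
    have hval : i.val ≠ 0 := fun h0 => hne ((ZMod.val_eq_zero i).mp h0)
    have hlt : i.val < p := ZMod.val_lt i
    have hcop : Nat.Coprime (orderOf c) i.val := by
      rw [hco]
      exact (Nat.Prime.coprime_iff_not_dvd hpP).mpr
        (Nat.not_dvd_of_pos_of_lt (Nat.pos_of_ne_zero hval) hlt)
    have ho : orderOf (C i) = p := by
      show orderOf (c ^ i.val) = p
      rw [hcop.orderOf_pow, hco]
    have ho' : orderOf (⟨C i, hi⟩ : H) = p := by
      rw [← ho]; exact Subgroup.orderOf_mk (C i) hi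
    rw [← ho']
    exact orderOf_dvd_natCard _
  -- the orbit of `e 0` under `H`
  set a₀ : α := e 0 with ha₀
  let Γ : Set α := {x | ∃ h : G, h ∈ H ∧ h • a₀ = x}
  have hΓ0 : a₀ ∈ Γ := ⟨1, H.one_mem, one_smul _ _⟩
  have hΓH : ∀ h : G, h ∈ H → ∀ x : α, (h • x ∈ Γ ↔ x ∈ Γ) := by
    intro h hh x
    constructor
    · rintro ⟨k, hk, hkx⟩
      exact ⟨h⁻¹ * k, H.mul_mem (H.inv_mem hh) hk, by rw [mul_smul, hkx, inv_smul_smul]⟩
    · rintro ⟨k, hk, rfl⟩
      exact ⟨h * k, H.mul_mem hh hk, mul_smul _ _ _⟩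
  have hΓne : ∃ x : α, x ∉ Γ := by
    by_contra hall
    push Not at hall
    apply hpH
    have horb : MulAction.orbit H a₀ = Set.univ := by
      apply Set.eq_univ_of_forall
      intro x
      obtain ⟨h, hh, hx⟩ := hall x
      exact ⟨⟨h, hh⟩, hx⟩
    have h1 : (MulAction.stabilizer H a₀).index = p := by
      rw [MulAction.index_stabilizer, horb, Set.ncard_univ, Nat.card_eq_fintype_card, hα]
    rw [← h1]
    exact Subgroup.index_dvd_card _
  let D : Finset (ZMod p) := Finset.univ.filter (fun j => e j ∈ Γ)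
  have hDmem : ∀ j : ZMod p, j ∈ D ↔ e j ∈ Γ := by
    intro j
    simp only [D, Finset.mem_filter, Finset.mem_univ, true_and]
  -- the decomposition G = H · ⟨c⟩
  let Ψ : H × ZMod p → G := fun q => (q.1 : G) * C q.2
  have hΨinj : Function.Injective Ψ := by
    rintro ⟨h, i⟩ ⟨h', i'⟩ heq
    have heq' : (h : G) * C i = (h' : G) * C i' := heq
    have h1 : C i * (C i')⁻¹ = (h : G)⁻¹ * h' := by
      calc C i * (C i')⁻¹ = (h : G)⁻¹ * ((h : G) * C i) * (C i')⁻¹ := by group
        _ = (h : G)⁻¹ * ((h' : G) * C i') * (C i')⁻¹ := by rw [heq']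
        _ = (h : G)⁻¹ * h' := by group
    have h2 : C (i - i') ∈ H := by
      rw [sub_eq_add_neg, hCadd, ← hCneg, h1]
      exact H.mul_mem (H.inv_mem h.2) h'.2
    have h3 : i = i' := sub_eq_zero.mp (hCmem _ h2)
    subst h3
    have h4 : (h : G) = h' := mul_right_cancel heq'
    rw [Subtype.ext h4]
  have hΨbij : Function.Bijective Ψ := by
    apply hΨinj.bijective_of_nat_card_le
    rw [Nat.card_prod, Nat.card_zmod, hHG]
  -- counting function
  let N : α → α → ℕ := fun x y => Nat.card {g : G // g • x ∈ Γ ∧ g • y ∈ Γ}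
  have hNinv : ∀ (k : G) (x y : α), N (k • x) (k • y) = N x y := by
    intro k x y
    apply Nat.card_congr
    refine (Equiv.mulRight k).subtypeEquiv (fun g => ?_)
    simp only [Equiv.coe_mulRight, mul_smul]
  let L : ZMod p → ZMod p → ℕ := fun u v =>
    (Finset.univ.filter (fun i : ZMod p => u + i ∈ D ∧ v + i ∈ D)).card
  have hNL : ∀ u v : ZMod p, N (e u) (e v) = Nat.card H * L u v := by
    intro u v
    have hcond : ∀ q : H × ZMod p, (Ψ q • e u ∈ Γ ∧ Ψ q • e v ∈ Γ) ↔
        (u + q.2 ∈ D ∧ v + q.2 ∈ D) := by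
      rintro ⟨h, i⟩
      have h1 : ∀ w : ZMod p, (Ψ (h, i) • e w ∈ Γ ↔ w + i ∈ D) := by
        intro w
        show ((h : G) * C i) • e w ∈ Γ ↔ w + i ∈ D
        rw [mul_smul, hΓH h.1 h.2, hDmem]
        show ((C i : G) : Equiv.Perm α) (e w) ∈ Γ ↔ _
        rw [hCapp]
      rw [h1 u, h1 v]
    have e1 : {g : G // g • e u ∈ Γ ∧ g • e v ∈ Γ} ≃
        {q : H × ZMod p // u + q.2 ∈ D ∧ v + q.2 ∈ D} :=
      ((Equiv.ofBijective Ψ hΨbij).subtypeEquiv (fun q => (hcond q).symm)).symm
    have e2 : {q : H × ZMod p // u + q.2 ∈ D ∧ v + q.2 ∈ D} ≃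
        H × {i : ZMod p // u + i ∈ D ∧ v + i ∈ D} :=
      { toFun := fun q => (q.1.1, ⟨q.1.2, q.2⟩)
        invFun := fun r => ⟨(r.1, r.2.1), r.2.2⟩
        left_inv := fun q => rfl
        right_inv := fun r => rfl }
    show Nat.card {g : G // g • e u ∈ Γ ∧ g • e v ∈ Γ} = _
    rw [Nat.card_congr (e1.trans e2), Nat.card_prod]
    congr 1
    rw [Nat.card_eq_fintype_card, Fintype.card_subtype]
  have hLconst : ∀ d d' : ZMod p, d ≠ 0 → d' ≠ 0 → L d 0 = L d' 0 := by
    intro d d' hd hd'
    have h1 : e d ≠ e 0 := fun h => hd (e.injective h)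
    have h2 : e d' ≠ e 0 := fun h => hd' (e.injective h)
    obtain ⟨k, hk1, hk2⟩ := h2t' h1 h2
    have h3 := hNinv k (e d) (e 0)
    rw [hk1, hk2, hNL, hNL] at h3
    exact (Nat.eq_of_mul_eq_mul_left hHpos h3).symm
  -- the decomposition of t
  have htt : t * t = 1 := by rw [← pow_two, ← hto]; exact pow_orderOf_eq_one t
  obtain ⟨⟨h₀, i₀⟩, hq⟩ := hΨbij.2 t⁻¹
  have hq' : (h₀ : G) * C i₀ = t⁻¹ := hq
  have hh₁ : C i₀ * t ∈ H := by
    have : C i₀ * t = (h₀ : G)⁻¹ := by
      calc C i₀ * t = (h₀ : G)⁻¹ * ((h₀ : G) * C i₀) * t := by group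
        _ = (h₀ : G)⁻¹ * t⁻¹ * t := by rw [hq']
        _ = (h₀ : G)⁻¹ := by group
    rw [this]
    exact H.inv_mem h₀.2
  have hh₁app : ∀ j : ZMod p, (C i₀ * t) • e j = e (-j + i₀) := by
    intro j
    rw [mul_smul]
    show ((C i₀ : G) : Equiv.Perm α) ((t : Equiv.Perm α) (e j)) = _
    rw [← het, hCapp]
  obtain ⟨s, hs⟩ : ∃ s : ZMod p, 2 * s = -i₀ := ⟨-i₀ * 2⁻¹, by rw [mul_comm, mul_assoc, inv_mul_cancel₀ h2ne, mul_one]⟩
  let D' : Finset (ZMod p) := Finset.univ.filter (fun j => j - s ∈ D)
  have hD'mem : ∀ j : ZMod p, j ∈ D' ↔ j - s ∈ D := by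
    intro j
    simp only [D', Finset.mem_filter, Finset.mem_univ, true_and]
  have hD'sym : ∀ u ∈ D', -u ∈ D' := by
    intro u hu
    rw [hD'mem, hDmem] at hu ⊢
    have := (hΓH _ hh₁ (e (u - s))).mpr hu
    rw [hh₁app] at this
    have heq : -(u - s) + i₀ = -u - s := by linear_combination hs
    rw [heq] at this
    exact this
  have hpairs : ∀ d : ZMod p, (pairs D' d).card = L d 0 := by
    intro d
    apply Finset.card_nbij' (fun q => q.2 - s) (fun i => (d + i + s, i + s))
    · intro q hq
      have hq' := (mem_pairs D' d q).mp hq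
      obtain ⟨h1, h2, h3⟩ := hq'
      rw [hD'mem] at h1 h2
      simp only [Finset.coe_filter, Finset.mem_univ, true_and, Set.mem_ofPred_eq]
      refine ⟨?_, ?_⟩
      · have : d + (q.2 - s) = q.1 - s := by rw [← h3]; ring
        rw [this]; exact h1
      · rw [zero_add]; exact h2
    · intro i hi
      simp only [Finset.coe_filter, Finset.mem_univ, true_and, Set.mem_ofPred_eq] at hi
      obtain ⟨h1, h2⟩ := hi
      rw [zero_add] at h2
      have : (d + i + s, i + s) ∈ pairs D' d := by
        rw [mem_pairs, hD'mem, hD'mem]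
        refine ⟨?_, ?_, ?_⟩
        · show d + i + s - s ∈ D
          rw [add_sub_cancel_right]; exact h1
        · show i + s - s ∈ D
          rw [add_sub_cancel_right]; exact h2
        · show d + i + s - (i + s) = d
          ring
      exact this
    · intro q hq
      have hq' := (mem_pairs D' d q).mp hq
      obtain ⟨h1, h2, h3⟩ := hq'
      ext
      · show d + (q.2 - s) + s = q.1
        rw [← h3]; ring
      · show q.2 - s + s = q.2
        ring
    · intro i _
      show i + s - s = i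
      ring
  have hl : ∀ d d' : ZMod p, d ≠ 0 → d' ≠ 0 → (pairs D' d).card = (pairs D' d').card := by
    intro d d' hd hd'
    rw [hpairs, hpairs]
    exact hLconst d d' hd hd'
  have h0D : (0 : ZMod p) ∈ D := (hDmem 0).mpr hΓ0
  rcases all_or_none hp2 D' hD'sym hl with hall | hnone
  · -- Γ is the complement of a single point
    refine ⟨e (-s), ?_⟩
    have hΓall : ∀ x : α, x ≠ e (-s) → x ∈ Γ := by
      intro x hx
      obtain ⟨j, rfl⟩ := e.surjective x
      have hj : j + s ≠ 0 := by
        intro h0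
        apply hx
        rw [eq_neg_of_add_eq_zero_left h0]
      have := hall (j + s) hj
      rw [hD'mem, add_sub_cancel_right, hDmem] at this
      exact this
    have hnotin : e (-s) ∉ Γ := by
      obtain ⟨x, hx⟩ := hΓne
      by_contra hin
      apply hx
      by_cases hxe : x = e (-s)
      · rw [hxe]; exact hin
      · exact hΓall x hxe
    intro h hh
    rw [MulAction.mem_stabilizer_iff]
    by_contra hmove
    have h1 : h • e (-s) ∈ Γ := hΓall _ hmove
    exact hnotin ((hΓH h hh _).mp h1)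
  · -- Γ is a single point
    refine ⟨a₀, ?_⟩
    have hΓone : ∀ x : α, x ∈ Γ → x = a₀ := by
      have hkey : ∀ j : ZMod p, j ∈ D → j + s = 0 := by
        intro j hj
        by_contra hne
        apply hnone (j + s) hne
        rw [hD'mem, add_sub_cancel_right]
        exact hj
      intro x hx
      obtain ⟨j, rfl⟩ := e.surjective x
      have h1 := hkey j ((hDmem j).mpr hx)
      have h2 := hkey 0 h0D
      have : j = 0 := by linear_combination h1 - h2
      rw [this]
    intro h hh
    rw [MulAction.mem_stabilizer_iff]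
    exact hΓone _ ((hΓH h hh a₀).mpr hΓ0)

end Cfsg.Agent.S0677
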