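import Mathlib
import Cfsg.Statements.S0678
import Cfsg.Agent.S0675
import Cfsg.Agent.S0676
import Cfsg.Agent.Lib.Helper18.PrimeDegree3

set_option autoImplicit false
set_option linter.style.haveILetI false
set_option maxHeartbeats 400000
open Cfsg

namespace Cfsg.Agent.S0678

open MulAction Cfsg.Agent.Lib.Helper18.PrimeDegree

theorem prime_seven : Fact (Nat.Prime 7) := ⟨by norm_num⟩

attribute [local instance] prime_seven

/-- Order data for a non-solvable transitive group of degree `7`. -/
theorem order_data {α : Type*} [Fintype α] [DecidableEq α] (hα : Fintype.card α = 7)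
    (G : Subgroup (Equiv.Perm α)) [MulAction.IsPretransitive G α] (hG : ¬ Group.IsSolvable G)
    (P : Sylow 7 G) :
    ∃ k n : ℕ, (k = 2 ∨ k = 3 ∨ k = 6) ∧
      Nat.card (Subgroup.normalizer ((P : Subgroup G) : Set G)) = 7 * k ∧ n % 7 = 1 ∧
      Nat.card G = 7 * k * n ∧ 42 ∣ Nat.card G ∧ Nat.card G ∣ 5040 := by
  obtain ⟨k, hk6, hN⟩ := card_normalizer hα G P
  have hk1 : k ≠ 1 := by
    intro h1
    apply card_normalizer_ne hα G hG P
    rw [hN, h1, mul_one]
  obtain ⟨n, hn, hcard⟩ := card_eq_normalizer_mul G P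
  have h2t : IsMultiplyPretransitive G α 2 := by
    rcases Cfsg.Agent.S0675.result (by rw [hα]; norm_num) G with h | h
    · exact absurd h hG
    · exact h
  have h42 : 42 ∣ Nat.card G := by
    have := descFactorial_dvd_card G 2 (by rw [hα]; norm_num) h2t
    rwa [hα, show (7 : ℕ).descFactorial 2 = 42 by decide] at this
  have h5040 : Nat.card G ∣ 5040 := by
    have := Subgroup.card_subgroup_dvd_card G
    rwa [Nat.card_eq_fintype_card (α := Equiv.Perm α), Fintype.card_perm, hα,
      show Nat.factorial 7 = 5040 by decide] at this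
  have hk : k = 2 ∨ k = 3 ∨ k = 6 := by
    have hle : k ≤ 6 := Nat.le_of_dvd (by norm_num) hk6
    have hpos : 0 < k := Nat.pos_of_dvd_of_pos hk6 (by norm_num)
    interval_cases k <;> omega
  exact ⟨k, n, hk, hN, hn, by rw [hcard, hN], h42, h5040⟩

theorem arith_odd (g n : ℕ) (hg : g = 7 * 3 * n) (hn : n % 7 = 1) (h42 : 42 ∣ g)
    (h5040 : g ∣ 5040) : g = 168 ∨ g = 2520 := by
  obtain ⟨d, hd⟩ := h5040
  have hn240 : n ∣ 240 := ⟨d, by subst hg; ring_nf at hd; omega⟩
  have hmem : n ∈ Nat.divisors 240 := Nat.mem_divisors.mpr ⟨hn240, by norm_num⟩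
  have key : ∀ n ∈ Nat.divisors 240, n % 7 = 1 → 2 ∣ n → n = 8 ∨ n = 120 := by decide
  have h2 : 2 ∣ n := by omega
  rcases key n hmem hn h2 with rfl | rfl <;> omega

theorem arith_even (g k n h k' n' : ℕ) (hk : k = 2 ∨ k = 6) (hg : g = 7 * k * n)
    (hn : n % 7 = 1) (h210 : 210 ∣ g) (h5040 : g ∣ 5040) (hgh : g = 2 * h)
    (hk' : k' = 2 ∨ k' = 3 ∨ k' = 6) (hh : h = 7 * k' * n') (hn' : n' % 7 = 1)
    (h42 : 42 ∣ h) : g = 5040 := by
  obtain ⟨d, hd⟩ := h5040
  rcases hk with rfl | rfl
  · have hn360 : n ∣ 360 := ⟨d, by subst hg; ring_nf at hd; omega⟩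
    have hmem : n ∈ Nat.divisors 360 := Nat.mem_divisors.mpr ⟨hn360, by norm_num⟩
    have key : ∀ n ∈ Nat.divisors 360, n % 7 = 1 → 15 ∣ n → n = 15 ∨ n = 120 := by decide
    have h15 : 15 ∣ n := by omega
    rcases key n hmem hn h15 with rfl | rfl
    · omega
    · rcases hk' with rfl | rfl | rfl <;> omega
  · have hn120 : n ∣ 120 := ⟨d, by subst hg; ring_nf at hd; omega⟩
    have hmem : n ∈ Nat.divisors 120 := Nat.mem_divisors.mpr ⟨hn120, by norm_num⟩
    have key : ∀ n ∈ Nat.divisors 120, n % 7 = 1 → 5 ∣ n → n = 15 ∨ n = 120 := by decide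
    have h5 : 5 ∣ n := by omega
    rcases key n hmem hn h5 with rfl | rfl
    · omega
    · omega

/-- If the Sylow `7`-normalizer has even order, the group has a non-solvable transitive
subgroup of index `2` (its even permutations). -/
theorem even_half {α : Type*} [Fintype α] [DecidableEq α] (hα : Fintype.card α = 7)
    (G : Subgroup (Equiv.Perm α)) [MulAction.IsPretransitive G α] (hG : ¬ Group.IsSolvable G)
    (P : Sylow 7 G)
    (heven : Even (Nat.card (Subgroup.normalizer ((P : Subgroup G) : Set G)))) :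
    ∃ h k' n' : ℕ, Nat.card G = 2 * h ∧ (k' = 2 ∨ k' = 3 ∨ k' = 6) ∧ h = 7 * k' * n' ∧
      n' % 7 = 1 ∧ 42 ∣ h := by
  classical
  obtain ⟨c, t, e, hco, hto, he, het⟩ :=
    exists_coord_of_even_normalizer (p := 7) (by norm_num) hα G P heven
  have htperm : (t : Equiv.Perm α) = e.permCongr (Equiv.neg (ZMod 7)) := by
    ext x
    obtain ⟨j, rfl⟩ := e.surjective x
    rw [← het]
    simp [Equiv.permCongr_apply]
  have hsignt : Equiv.Perm.sign (t : Equiv.Perm α) = -1 := by
    rw [htperm, Equiv.Perm.sign_permCongr]; decide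
  have hsignc : Equiv.Perm.sign (c : Equiv.Perm α) = 1 := by
    rcases Int.units_eq_one_or (Equiv.Perm.sign (c : Equiv.Perm α)) with h | h
    · exact h
    · exfalso
      have h7 : (c : Equiv.Perm α) ^ 7 = 1 := by
        have : orderOf (c : Equiv.Perm α) = 7 := by rw [Subgroup.orderOf_coe]; exact hco
        rw [← this]; exact pow_orderOf_eq_one _
      have := congrArg Equiv.Perm.sign h7
      rw [map_pow, h, map_one] at this
      revert this; decide
  set H : Subgroup (Equiv.Perm α) := G ⊓ alternatingGroup α with hH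
  have hcH : (c : Equiv.Perm α) ∈ H := ⟨c.2, Equiv.Perm.mem_alternatingGroup.mpr hsignc⟩
  haveI : IsPretransitive H α := by
    constructor
    intro x y
    obtain ⟨i, rfl⟩ := e.surjective x
    obtain ⟨j, rfl⟩ := e.surjective y
    refine ⟨⟨(c : Equiv.Perm α) ^ (j - i).val, Subgroup.pow_mem _ hcH _⟩, ?_⟩
    show ((c : Equiv.Perm α) ^ (j - i).val) (e i) = e j
    rw [coord_pow _ e he, ZMod.natCast_zmod_val]; congr 1; ring
  let g : G →* ℤˣ := Equiv.Perm.sign.comp G.subtype
  have hker : g.ker = H.subgroupOf G := by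
    ext x
    rw [MonoidHom.mem_ker, Subgroup.mem_subgroupOf]
    show Equiv.Perm.sign (x : Equiv.Perm α) = 1 ↔ (x : Equiv.Perm α) ∈ G ⊓ alternatingGroup α
    rw [Subgroup.mem_inf, Equiv.Perm.mem_alternatingGroup]
    exact ⟨fun h => ⟨x.2, h⟩, fun h => h.2⟩
  have hsurj : Function.Surjective g := by
    intro u
    rcases Int.units_eq_one_or u with rfl | rfl
    · exact ⟨1, map_one g⟩
    · exact ⟨t, hsignt⟩
  have hindex : (H.subgroupOf G).index = 2 := by
    rw [← hker, Subgroup.index_ker, MonoidHom.range_eq_top.mpr hsurj, Subgroup.card_top,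
      Nat.card_eq_fintype_card, Fintype.card_units_int]
  have hcardH : Nat.card G = 2 * Nat.card H := by
    rw [← Subgroup.index_mul_card (H.subgroupOf G), hindex,
      Nat.card_congr (Subgroup.subgroupOfEquivOfLe (inf_le_left : H ≤ G)).toEquiv]
  have hHsolv : ¬ Group.IsSolvable H := by
    intro hs
    apply hG
    exact Group.isSolvable_of_ker_le_range (Subgroup.inclusion (inf_le_left : H ≤ G)) g (by
      intro x hx
      rw [hker, Subgroup.mem_subgroupOf] at hx
      exact ⟨⟨x, hx⟩, rfl⟩)
  obtain ⟨k', n', hk', -, hn', hcard', h42', -⟩ := order_data hα H hHsolv default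
  exact ⟨Nat.card H, k', n', hcardH, hk', hcard', hn', h42'⟩

theorem card_eq {α : Type*} [Fintype α] [DecidableEq α] (hα : Fintype.card α = 7)
    (G : Subgroup (Equiv.Perm α)) [MulAction.IsPretransitive G α] (hG : ¬ Group.IsSolvable G)
    (hA : ¬ alternatingGroup α ≤ G) : Nat.card G = 168 := by
  classical
  have hperm : Nat.card (Equiv.Perm α) = 5040 := by
    rw [Nat.card_eq_fintype_card, Fintype.card_perm, hα]; decide
  obtain ⟨k, n, hk, hN, hn, hcard, h42, h5040⟩ := order_data hα G hG default
  have heven_case : k = 2 ∨ k = 6 → Nat.card G = 168 := by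
    intro hk2
    exfalso
    have heven : Even (Nat.card (Subgroup.normalizer
        (((default : Sylow 7 G) : Subgroup G) : Set G))) := by
      rw [hN]
      rcases hk2 with rfl | rfl <;> decide
    have h3t := Cfsg.Agent.S0676.result hα G hG default heven
    have h210 : 210 ∣ Nat.card G := by
      have := descFactorial_dvd_card G 3 (by rw [hα]; norm_num) h3t
      rwa [hα, show (7 : ℕ).descFactorial 3 = 210 by decide] at this
    obtain ⟨h, k', n', hgh, hk', hh, hn', h42'⟩ := even_half hα G hG default heven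
    have h5 := arith_even (Nat.card G) k n h k' n' hk2 hcard hn h210 h5040 hgh hk' hh hn' h42'
    apply hA
    have : G = ⊤ := Subgroup.eq_top_of_card_eq G (by rw [h5, hperm])
    rw [this]; exact le_top
  rcases hk with rfl | rfl | rfl
  · exact heven_case (Or.inl rfl)
  · rcases arith_odd (Nat.card G) n hcard hn h42 h5040 with h | h
    · exact h
    · exfalso
      apply hA
      apply Equiv.Perm.alternatingGroup_le_of_index_le_two
      have := Subgroup.index_mul_card G
      rw [h, hperm] at this
      omega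
  · exact heven_case (Or.inr rfl)

theorem simple_of_card {α : Type*} [Fintype α] [DecidableEq α] (hα : Fintype.card α = 7)
    (G : Subgroup (Equiv.Perm α)) [MulAction.IsPretransitive G α] (hG : ¬ Group.IsSolvable G)
    (h168 : Nat.card G = 168) : IsSimpleGroup G := by
  classical
  haveI : Nontrivial G := by
    rw [← Finite.one_lt_card_iff_nontrivial, h168]; norm_num
  refine ⟨fun N hN => ?_⟩
  by_contra hcon
  push_neg at hcon
  obtain ⟨hbot, htop⟩ := hcon
  haveI := hN
  haveI : IsPreprimitive G α :=
    IsPreprimitive.of_prime_card (by rw [Nat.card_eq_fintype_card, hα]; norm_num)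
  have hfix : fixedPoints N α ≠ Set.univ := by
    intro hfix
    apply hbot
    rw [Subgroup.eq_bot_iff_forall]
    intro g hg
    apply Subtype.ext
    ext x
    have hx : x ∈ fixedPoints N α := by rw [hfix]; trivial
    exact hx ⟨g, hg⟩
  haveI : IsPretransitive N α := IsQuasiPreprimitive.isPretransitive_of_normal hfix
  haveI : Nonempty α := Fintype.card_pos_iff.mp (by rw [hα]; norm_num)
  obtain ⟨a₀⟩ := ‹Nonempty α›
  have h7N : 7 ∣ Nat.card N := by
    rw [← Subgroup.index_mul_card (stabilizer N a₀), MulAction.index_stabilizer,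
      MulAction.orbit_eq_univ, Set.ncard_univ, Nat.card_eq_fintype_card, hα]
    exact dvd_mul_right _ _
  let P' : Sylow 7 N := default
  have hfrat := Sylow.normalizer_sup_eq_top P'
  set R : Subgroup G := (P' : Subgroup N).map N.subtype with hR
  have hRN : R ≤ N := by rw [hR]; exact Subgroup.map_subtype_le _
  have hP'card : 7 ∣ Nat.card (P' : Subgroup N) := P'.dvd_card_of_dvd_card h7N
  have hRcard_eq : Nat.card R = Nat.card (P' : Subgroup N) :=
    Subgroup.card_map_of_injective N.subtype_injective
  have hRp : IsPGroup 7 R := IsPGroup.map P'.isPGroup' N.subtype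
  obtain ⟨Q, hRQ⟩ := hRp.exists_le_sylow
  have hQcard := sylow_card hα G Q
  have hRcard : Nat.card R = 7 := by
    have h1 : Nat.card R ∣ 7 := hQcard ▸ Subgroup.card_dvd_of_le hRQ
    have h2 : 7 ∣ Nat.card R := hRcard_eq ▸ hP'card
    exact Nat.dvd_antisymm h1 h2
  have hRQeq : R = (Q : Subgroup G) :=
    Subgroup.eq_of_le_of_card_ge hRQ (by rw [hRcard, hQcard])
  obtain ⟨k, n, hk, hNQ, hn, hcard, -, -⟩ := order_data hα G hG Q
  have hk3 : k = 3 := by
    rw [h168] at hcard
    rcases hk with rfl | rfl | rfl <;> omega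
  rw [hk3, ← hRQeq] at hNQ
  set M : Subgroup G := Subgroup.normalizer (R : Set G) with hM
  have hRM : R ≤ M := Subgroup.le_normalizer
  have hrel3 : R.relIndex M = 3 := by
    have h1 := Subgroup.relIndex_mul_relIndex ⊥ R M bot_le hRM
    rw [Subgroup.relIndex_bot_left, Subgroup.relIndex_bot_left, hRcard, hNQ] at h1
    omega
  have hidx : N.index ∣ 3 := by
    rw [← Subgroup.relIndex_top_right, ← hfrat, Subgroup.relIndex_sup_right,
      ← Subgroup.inf_relIndex_right, ← hrel3]
    exact Subgroup.relIndex_dvd_of_le_left M (le_inf hRN hRM)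
  have hidx3 : N.index = 3 := by
    have hle : N.index ≤ 3 := Nat.le_of_dvd (by norm_num) hidx
    have hpos : 0 < N.index := Nat.pos_of_dvd_of_pos hidx (by norm_num)
    have hne1 : N.index ≠ 1 := fun h => htop (Subgroup.index_eq_one.mp h)
    interval_cases h : N.index
    · exact absurd rfl hne1
    · omega
    · rfl
  have hNcard : Nat.card N = 56 := by
    have := Subgroup.index_mul_card N
    rw [hidx3, h168] at this
    omega
  -- `N` as a permutation group
  set N' : Subgroup (Equiv.Perm α) := N.map G.subtype with hN'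
  have hN'card : Nat.card N' = 56 := by
    rw [hN', Subgroup.card_map_of_injective G.subtype_injective, hNcard]
  haveI : IsPretransitive N' α := by
    constructor
    intro x y
    obtain ⟨g, hg⟩ := exists_smul_eq N x y
    exact ⟨⟨((g : G) : Equiv.Perm α), Subgroup.mem_map_of_mem _ g.2⟩, hg⟩
  by_cases hsolv : Group.IsSolvable N'
  · apply hG
    haveI : Group.IsSolvable N :=
      Group.isSolvable_of_isSolvable_injective
        (f := (Subgroup.equivMapOfInjective N G.subtype G.subtype_injective).toMonoidHom)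
        (Subgroup.equivMapOfInjective N G.subtype G.subtype_injective).injective
    haveI : IsCyclic (G ⧸ N) :=
      isCyclic_of_prime_card (p := 3) (by rw [← Subgroup.index_eq_card, hidx3])
    haveI : Group.IsSolvable (G ⧸ N) :=
      Group.isSolvable_of_comm (fun a b => (IsCyclic.commGroup (α := G ⧸ N)).mul_comm a b)
    exact Group.isSolvable_of_ker_le_range N.subtype (QuotientGroup.mk' N)
      (by rw [QuotientGroup.ker_mk', Subgroup.range_subtype])
  · have h2t : IsMultiplyPretransitive N' α 2 := by
      rcases Cfsg.Agent.S0675.result (by rw [hα]; norm_num) N' with h | h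
      · exact absurd h hsolv
      · exact h
    have := descFactorial_dvd_card N' 2 (by rw [hα]; norm_num) h2t
    rw [hα, show (7 : ℕ).descFactorial 2 = 42 by decide, hN'card] at this
    omega

/-- A non-solvable transitive permutation group on 7 points that does not contain the alternating group is a simple group of order 168. -/
theorem result {α : Type*} [Fintype α] [DecidableEq α] (hα : Fintype.card α = 7) (G : Subgroup (Equiv.Perm α)) [MulAction.IsPretransitive G α] (hG : ¬ Group.IsSolvable G) (hA : ¬ alternatingGroup α ≤ G) : Nat.card G = 168 ∧ IsSimpleGroup G := by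
  have h168 := card_eq hα G hG hA
  exact ⟨h168, simple_of_card hα G hG h168⟩

end Cfsg.Agent.S0678
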