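import Cfsg.Statements.S0691
import Mathlib
import Cfsg.Agent.Lib.Helper19.GL2Model

set_option autoImplicit false
open Cfsg

namespace Cfsg.Agent.S0691

open Cfsg.Agent.Lib.Helper19.GL2Model

def gen : ℕ → T4
  | 0 => (2, 0, 0, 3)
  | 1 => (0, 4, 1, 0)
  | _ => (1, 2, 1, 3)

def ginv : ℕ → T4
  | 0 => (3, 0, 0, 2)
  | 1 => (0, 1, 4, 0)
  | _ => (3, 3, 4, 1)

def words : List (List ℕ) :=
  [[], [0], [1], [2], [0, 0], [0, 1], [0, 2], [1, 0], [1, 2], [2, 0], [2, 2], [0, 0, 0], [0, 0, 1], [0, 0, 2], [0, 1, 2], [0, 2, 2], [1, 2, 0], [1, 2, 2], [2, 0, 1], [2, 0, 2], [0, 0, 2, 2], [0, 1, 2, 2], [1, 2, 0, 2], [2, 0, 1, 2]]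

lemma hcheck : check 5 3 gen ginv words = true := by decide +kernel

lemma hsemi : semiB 5 (words.map (evN 5 gen)) = true := by decide +kernel

/-- An exceptional sharply doubly transitive group of degree 5^2: the listed matrices generate a subgroup of GL(2,5) of order 24 acting regularly on the non-zero vectors. -/
theorem result (A : Matrix.GeneralLinearGroup (Fin 2) (ZMod 5)) (B : Matrix.GeneralLinearGroup (Fin 2) (ZMod 5)) (C : Matrix.GeneralLinearGroup (Fin 2) (ZMod 5)) (hA : (A : Matrix (Fin 2) (Fin 2) (ZMod 5)) = !![2, 0; 0, -2]) (hB : (B : Matrix (Fin 2) (Fin 2) (ZMod 5)) = !![0, -1; 1, 0]) (hC : (C : Matrix (Fin 2) (Fin 2) (ZMod 5)) = !![1, 2; 1, -2]) : Nat.card (Subgroup.closure ({A, B, C} : Set (Matrix.GeneralLinearGroup (Fin 2) (ZMod 5)))) = 24 ∧ ∀ v w : Fin 2 → ZMod 5, v ≠ 0 → w ≠ 0 → ∃! h : Subgroup.closure ({A, B, C} : Set (Matrix.GeneralLinearGroup (Fin 2) (ZMod 5))), Matrix.mulVec ((h : Matrix.GeneralLinearGroup (Fin 2) (ZMod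 5)) : Matrix (Fin 2) (Fin 2) (ZMod 5)) v = w := by
  haveI : Fact (Nat.Prime 5) := ⟨by norm_num⟩
  let gs : ℕ → GL2 5 := fun i => match i with
    | 0 => A
    | 1 => B
    | _ => C
  have hgs : ∀ i < 3, ((gs i : GL2 5) : Matrix (Fin 2) (Fin 2) (ZMod 5)) = mat 5 (gen i) := by
    intro i hi
    interval_cases i
    · show (A : Matrix (Fin 2) (Fin 2) (ZMod 5)) = _
      rw [hA]
      ext a b
      fin_cases a <;> fin_cases b <;> simp [mat, gen] <;> decide
    · show (B : Matrix (Fin 2) (Fin 2) (ZMod 5)) = _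
      rw [hB]
      ext a b
      fin_cases a <;> fin_cases b <;> simp [mat, gen] <;> decide
    · show (C : Matrix (Fin 2) (Fin 2) (ZMod 5)) = _
      rw [hC]
      ext a b
      fin_cases a <;> fin_cases b <;> simp [mat, gen] <;> decide
  have hS : ({A, B, C} : Set (GL2 5)) = {g | ∃ i < 3, g = gs i} := by
    ext g
    simp only [Set.mem_insert_iff, Set.mem_singleton_iff, Set.mem_setOf_eq]
    constructor
    · rintro (rfl | rfl | rfl)
      · exact ⟨0, by norm_num, rfl⟩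
      · exact ⟨1, by norm_num, rfl⟩
      · exact ⟨2, by norm_num, rfl⟩
    · rintro ⟨i, hi, rfl⟩
      interval_cases i
      · exact Or.inl rfl
      · exact Or.inr (Or.inl rfl)
      · exact Or.inr (Or.inr rfl)
  have hcard := card_closure 5 3 gen ginv words hcheck gs hgs _ hS
  have hmem := mem_closure_iff 5 3 gen ginv words hcheck gs hgs _ hS
  have hcard' : Nat.card (Subgroup.closure ({A, B, C} : Set (GL2 5))) = 24 := by
    rw [hcard]
    rfl
  refine ⟨hcard', ?_⟩
  apply regular_of_semiregular 5 _ (by rw [hcard']; norm_num)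
  intro h hh hne
  obtain ⟨x, hx, hhx⟩ := (hmem h).1 hh
  rw [hhx]
  apply semiB_sound 5 _ hsemi x hx
  rintro rfl
  apply hne
  apply Units.ext
  rw [hhx, mat_unitN, Units.val_one]

end Cfsg.Agent.S0691
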