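import Cfsg.Statements.S0693
import Mathlib
import Cfsg.Agent.Lib.Helper19.GL2Model

set_option autoImplicit false
open Cfsg

namespace Cfsg.Agent.S0693

open Cfsg.Agent.Lib.Helper19.GL2Model

def gen : ℕ → T4
  | 0 => (0, 58, 1, 0)
  | _ => (9, 15, 49, 49)

def ginv : ℕ → T4
  | 0 => (0, 1, 58, 0)
  | _ => (49, 44, 10, 9)

def words : List (List ℕ) :=
  [[], [0], [1], [0, 0], [0, 1], [1, 0], [1, 1], [0, 0, 0], [0, 0, 1], [0, 1, 0], [0, 1, 1], [1, 0, 1], [1, 1, 0], [0, 0, 0, 1], [0, 0, 1, 0], [0, 0, 1, 1], [0, 1, 0, 1], [0, 1, 1, 0], [1, 0, 1, 0], [1, 0, 1, 1], [1, 1, 0, 1], [0, 0, 0, 1, 0], [0, 0, 0, 1, 1], [0, 0, 1, 0, 1], [0, 0, 1, 1, 0], [0, 1, 0, 1, 0], [0, 1, 0, 1, 1], [0, 1, 1, 0, 1], [1, 0, 1, 0, 1], [1, 0, 1, 1, 0], [1, 1, 0, 1, 0], [1, 1, 0, 1, 1], [0, 0, 0, 1, 0, 1], [0, 0, 0, 1, 1, 0], [0, 0, 1, 0, 1, 0], [0, 0, 1, 0, 1, 1], [0, 0, 1, 1, 0, 1],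 [0, 1, 0, 1, 0, 1], [0, 1, 0, 1, 1, 0], [0, 1, 1, 0, 1, 0], [0, 1, 1, 0, 1, 1], [1, 0, 1, 0, 1, 1], [1, 0, 1, 1, 0, 1], [1, 1, 0, 1, 0, 1], [0, 0, 0, 1, 0, 1, 0], [0, 0, 0, 1, 0, 1, 1], [0, 0, 0, 1, 1, 0, 1], [0, 0, 1, 0, 1, 0, 1], [0, 0, 1, 0, 1, 1, 0], [0, 0, 1, 1, 0, 1, 0], [0, 0, 1, 1, 0, 1, 1], [0, 1, 0, 1, 0, 1, 1], [0, 1, 0, 1, 1, 0, 1], [0, 1, 1, 0, 1, 0, 1], [1, 0, 1, 0, 1, 1, 0], [1, 0, 1, 1, 0, 1, 0], [1, 0, 1, 1, 0, 1, 1], [1, 1, 0, 1, 0, 1, 1], [0, 0, 0, 1, 0, 1, 0, 1], [0, 0, 0, 1, 0, 1, 1, 0], [0, 0, 0, 1, 1, 0, 1, 0], [0, 0, 0, 1, 1, 0, 1, 1], [0, 0, 1, 0, 1, 0, 1, 1], [0, 0, 1, 0, 1, 1, 0, 1], [0, 0, 1, 1, 0, 1, 0, 1], [0, 1, 0, 1, 0, 1, 1, 0], [0, 1, 0, 1, 1, 0, 1, 0], [0, 1, 0, 1, 1, 0, 1, 1], [0, 1, 1, 0, 1, 0, 1, 1], [1, 0, 1, 0, 1, 1, 0, 1], [1, 0, 1, 1, 0, 1, 0, 1], [1, 1, 0, 1, 0, 1, 1, 0], [0, 0, 0, 1, 0, 1, 0, 1, 1], [0, 0, 0, 1,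 0, 1, 1, 0, 1], [0, 0, 0, 1, 1, 0, 1, 0, 1], [0, 0, 1, 0, 1, 0, 1, 1, 0], [0, 0, 1, 0, 1, 1, 0, 1, 0], [0, 0, 1, 0, 1, 1, 0, 1, 1], [0, 0, 1, 1, 0, 1, 0, 1, 1], [0, 1, 0, 1, 0, 1, 1, 0, 1], [0, 1, 0, 1, 1, 0, 1, 0, 1], [0, 1, 1, 0, 1, 0, 1, 1, 0], [1, 0, 1, 0, 1, 1, 0, 1, 0], [1, 0, 1, 0, 1, 1, 0, 1, 1], [1, 0, 1, 1, 0, 1, 0, 1, 1], [1, 1, 0, 1, 0, 1, 1, 0, 1], [0, 0, 0, 1, 0, 1, 0, 1, 1, 0], [0, 0, 0, 1, 0, 1, 1, 0, 1, 0], [0, 0, 0, 1, 0, 1, 1, 0, 1, 1], [0, 0, 0, 1, 1, 0, 1, 0, 1, 1], [0, 0, 1, 0, 1, 0, 1, 1, 0, 1], [0, 0, 1, 0, 1, 1, 0, 1, 0, 1], [0, 0, 1, 1, 0, 1, 0, 1, 1, 0], [0, 1, 0, 1, 0, 1, 1, 0, 1, 0], [0, 1, 0, 1, 0, 1, 1, 0, 1, 1], [0, 1, 0, 1, 1, 0, 1, 0, 1, 1], [0, 1, 1, 0, 1, 0, 1, 1, 0, 1], [1, 0, 1, 0, 1, 1, 0, 1, 0, 1], [1, 0, 1, 1, 0, 1, 0, 1, 1, 0], [1, 1, 0, 1, 0, 1, 1, 0, 1, 0], [0, 0, 0, 1, 0, 1, 0, 1, 1, 0, 1], [0, 0, 0, 1, 0, 1, 1,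 0, 1, 0, 1], [0, 0, 1, 0, 1, 0, 1, 1, 0, 1, 0], [0, 0, 1, 0, 1, 0, 1, 1, 0, 1, 1], [0, 0, 1, 0, 1, 1, 0, 1, 0, 1, 1], [0, 0, 1, 1, 0, 1, 0, 1, 1, 0, 1], [0, 1, 0, 1, 1, 0, 1, 0, 1, 1, 0], [0, 1, 1, 0, 1, 0, 1, 1, 0, 1, 0], [1, 0, 1, 0, 1, 1, 0, 1, 0, 1, 1], [1, 0, 1, 1, 0, 1, 0, 1, 1, 0, 1], [1, 1, 0, 1, 0, 1, 1, 0, 1, 0, 1], [0, 0, 0, 1, 0, 1, 0, 1, 1, 0, 1, 0], [0, 0, 0, 1, 0, 1, 0, 1, 1, 0, 1, 1], [0, 0, 0, 1, 0, 1, 1, 0, 1, 0, 1, 1], [0, 0, 1, 1, 0, 1, 0, 1, 1, 0, 1, 0], [0, 1, 0, 1, 1, 0, 1, 0, 1, 1, 0, 1], [0, 1, 1, 0, 1, 0, 1, 1, 0, 1, 0, 1], [1, 0, 1, 0, 1, 1, 0, 1, 0, 1, 1, 0], [1, 0, 1, 1, 0, 1, 0, 1, 1, 0, 1, 0], [1, 1, 0, 1, 0, 1, 1, 0, 1, 0, 1, 1]]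

def L0 : List T4 := words.map (evN 59 gen)

def Lbig : List T4 := (List.range 29).flatMap (fun k => L0.map (scalN 59 (4 ^ k % 59)))

lemma hcheck : check 59 2 gen ginv words = true := by decide +kernel

lemma hsemi : semiB 59 Lbig = true := by decide +kernel

lemma hlen : words.length = 120 := by decide +kernel

lemma h429 : (4 : ZMod 59) ^ 29 = 1 := by decide +kernel

/-- An exceptional sharply doubly transitive group of degree 59^2: the listed matrices generate a subgroup of GL(2,59) of order 3480 acting regularly on the non-zero vectors. -/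
theorem result (A : Matrix.GeneralLinearGroup (Fin 2) (ZMod 59)) (B : Matrix.GeneralLinearGroup (Fin 2) (ZMod 59)) (C : Matrix.GeneralLinearGroup (Fin 2) (ZMod 59)) (hA : (A : Matrix (Fin 2) (Fin 2) (ZMod 59)) = !![0, -1; 1, 0]) (hB : (B : Matrix (Fin 2) (Fin 2) (ZMod 59)) = !![9, 15; -10, -10]) (hC : (C : Matrix (Fin 2) (Fin 2) (ZMod 59)) = !![4, 0; 0, 4]) : Nat.card (Subgroup.closure ({A, B, C} : Set (Matrix.GeneralLinearGroup (Fin 2) (ZMod 59)))) = 3480 ∧ ∀ v w : Fin 2 → ZMod 59, v ≠ 0 → w ≠ 0 → ∃! h : Subgroup.closure ({A, B, C} : Set (Matrix.GeneralLinearGroup (Fin 2) (ZMod 59))), Matrix.mulVec ((h : Matrix.GeneralLinearGroup (Fin 2) (ZMod 59)) : Matrix (Fin 2) (Fin 2) (ZMod 59)) v = w := by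
  haveI : Fact (Nat.Prime 59) := ⟨by norm_num⟩
  let gs : ℕ → GL2 59 := fun i => match i with
    | 0 => A
    | _ => B
  have hgs : ∀ i < 2, ((gs i : GL2 59) : Matrix (Fin 2) (Fin 2) (ZMod 59)) = mat 59 (gen i) := by
    intro i hi
    interval_cases i
    · show (A : Matrix (Fin 2) (Fin 2) (ZMod 59)) = _
      rw [hA]
      ext a b
      fin_cases a <;> fin_cases b <;> simp [mat, gen] <;> decide
    · show (B : Matrix (Fin 2) (Fin 2) (ZMod 59)) = _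
      rw [hB]
      ext a b
      fin_cases a <;> fin_cases b <;> simp [mat, gen] <;> decide
  have hS : ({A, B} : Set (GL2 59)) = {g | ∃ i < 2, g = gs i} := by
    ext g
    simp only [Set.mem_insert_iff, Set.mem_singleton_iff, Set.mem_setOf_eq]
    constructor
    · rintro (rfl | rfl)
      · exact ⟨0, by norm_num, rfl⟩
      · exact ⟨1, by norm_num, rfl⟩
    · rintro ⟨i, hi, rfl⟩
      interval_cases i
      · exact Or.inl rfl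
      · exact Or.inr rfl
  have hcard0 : Nat.card (Subgroup.closure ({A, B} : Set (GL2 59))) = 120 := by
    rw [card_closure 59 2 gen ginv words hcheck gs hgs _ hS, hlen]
  obtain ⟨hR, hN, h1, hw, hcl⟩ := check_facts 59 2 gen ginv words hcheck
  have hgA : (A : GL2 59).1 = mat 59 (gen 0) := hgs 0 (by norm_num)
  have hgB : (B : GL2 59).1 = mat 59 (gen 1) := hgs 1 (by norm_num)
  have hCs : (C : GL2 59).1 = (4 : ZMod 59) • (1 : Matrix (Fin 2) (Fin 2) (ZMod 59)) := by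
    rw [hC]
    ext a b
    fin_cases a <;> fin_cases b <;> simp
  have hCpow : ∀ n : ℕ, ((C ^ n : GL2 59) : GL2 59).1 =
      ((4 : ZMod 59) ^ n) • (1 : Matrix (Fin 2) (Fin 2) (ZMod 59)) := by
    intro n
    rw [Units.val_pow_eq_pow_val, hCs, smul_pow, one_pow]
  have hC29 : C ^ 29 = 1 := by
    apply Units.ext
    rw [hCpow, h429, one_smul, Units.val_one]
  have hCne : C ≠ 1 := by
    intro h
    have := congrArg (fun g : GL2 59 => g.1 0 0) h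
    simp only [hC, Units.val_one] at this
    revert this
    simp
    decide
  haveI : Fact (Nat.Prime 29) := ⟨by norm_num⟩
  have hordC : orderOf C = 29 := orderOf_eq_prime hC29 hCne
  have hCinv : ((C⁻¹ : GL2 59) : GL2 59).1 =
      ((4 : ZMod 59) ^ 28) • (1 : Matrix (Fin 2) (Fin 2) (ZMod 59)) := by
    have : C⁻¹ = C ^ 28 := by
      rw [inv_eq_iff_mul_eq_one, ← pow_succ']
      exact hC29
    rw [this, hCpow]
  set H := Subgroup.closure ({A, B, C} : Set (GL2 59)) with hH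
  -- normal form of the elements
  have hP : ∀ h ∈ H, ∃ k < 29, ∃ x ∈ L0,
      (h : GL2 59).1 = ((4 : ZMod 59) ^ k) • mat 59 x := by
    intro h hh
    induction hh using Subgroup.closure_induction_right with
    | one => exact ⟨0, by norm_num, unitN, h1, by rw [Units.val_one, mat_unitN, pow_zero, one_smul]⟩
    | mul_right x hx y hy ih =>
      obtain ⟨k, hk, xN, hxN, hxe⟩ := ih
      rcases hy with rfl | rfl | rfl
      · refine ⟨k, hk, mulN 59 xN (gen 0), ((hcl 0 (by norm_num)).2 xN hxN).1, ?_⟩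
        rw [Units.val_mul, hxe, hgA, Matrix.smul_mul, mat_mulN]
      · refine ⟨k, hk, mulN 59 xN (gen 1), ((hcl 1 (by norm_num)).2 xN hxN).1, ?_⟩
        rw [Units.val_mul, hxe, hgB, Matrix.smul_mul, mat_mulN]
      · have e : ((x * y : GL2 59) : GL2 59).1 = ((4 : ZMod 59) ^ (k + 1)) • mat 59 xN := by
          rw [Units.val_mul, hxe, hCs, Matrix.mul_smul, mul_one, smul_smul, ← pow_succ']
        by_cases hk' : k + 1 < 29
        · exact ⟨k + 1, hk', xN, hxN, e⟩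
        · have hk29 : k + 1 = 29 := by omega
          refine ⟨0, by norm_num, xN, hxN, ?_⟩
          rw [e, hk29, h429, pow_zero]
    | mul_inv_cancel x hx y hy ih =>
      obtain ⟨k, hk, xN, hxN, hxe⟩ := ih
      rcases hy with rfl | rfl | rfl
      · refine ⟨k, hk, mulN 59 xN (ginv 0), ((hcl 0 (by norm_num)).2 xN hxN).2, ?_⟩
        rw [Units.val_mul, hxe, inv_eq_of_mulN 59 hgA (hcl 0 (by norm_num)).1, Matrix.smul_mul,
          mat_mulN]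
      · refine ⟨k, hk, mulN 59 xN (ginv 1), ((hcl 1 (by norm_num)).2 xN hxN).2, ?_⟩
        rw [Units.val_mul, hxe, inv_eq_of_mulN 59 hgB (hcl 1 (by norm_num)).1, Matrix.smul_mul,
          mat_mulN]
      · have e : ((x * y⁻¹ : GL2 59) : GL2 59).1 = ((4 : ZMod 59) ^ (k + 28)) • mat 59 xN := by
          rw [Units.val_mul, hxe, hCinv, Matrix.mul_smul, mul_one, smul_smul, ← pow_add,
            add_comm]
        by_cases hk0 : k = 0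
        · subst hk0
          exact ⟨28, by norm_num, xN, hxN, by rw [e]⟩
        · refine ⟨k - 1, by omega, xN, hxN, ?_⟩
          have : k + 28 = 29 + (k - 1) := by omega
          rw [e, this, pow_add, h429, one_mul]
  -- semiregularity
  have hsr : ∀ h ∈ H, h ≠ 1 → ((h : GL2 59).1 - 1).det ≠ 0 := by
    intro h hh hne
    obtain ⟨k, hk, x, hx, hhx⟩ := hP h hh
    have hcast : (((4 ^ k % 59 : ℕ) : ℕ) : ZMod 59) = (4 : ZMod 59) ^ k := by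
      rw [ZMod.natCast_mod]
      push_cast
      rfl
    have hhx' : (h : GL2 59).1 = mat 59 (scalN 59 (4 ^ k % 59) x) := by
      rw [mat_scalN, hcast, hhx]
    have hmemL : scalN 59 (4 ^ k % 59) x ∈ Lbig := by
      unfold Lbig
      rw [List.mem_flatMap]
      exact ⟨k, List.mem_range.2 hk, List.mem_map.2 ⟨x, hx, rfl⟩⟩
    rw [hhx']
    apply semiB_sound 59 _ hsemi _ hmemL
    intro hu
    apply hne
    apply Units.ext
    rw [hhx', hu, mat_unitN, Units.val_one]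
  have hle : Nat.card H ≤ 3480 := by
    have := card_le_of_semiregular 59 H hsr
    norm_num at this
    exact this
  have h120 : 120 ∣ Nat.card H := by
    rw [← hcard0]
    apply Subgroup.card_dvd_of_le
    apply Subgroup.closure_mono
    intro g hg
    rcases hg with rfl | rfl
    · exact Or.inl rfl
    · exact Or.inr (Or.inl rfl)
  have h29 : 29 ∣ Nat.card H := by
    have hCH : C ∈ H := Subgroup.subset_closure (Or.inr (Or.inr rfl))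
    have := orderOf_dvd_natCard (⟨C, hCH⟩ : H)
    rwa [Subgroup.orderOf_mk, hordC] at this
  have hdvd : 3480 ∣ Nat.card H := by
    have : Nat.Coprime 120 29 := by norm_num
    have := this.mul_dvd_of_dvd_of_dvd h120 h29
    norm_num at this
    exact this
  have hpos : 0 < Nat.card H := Nat.card_pos
  have hcard : Nat.card H = 3480 := by
    obtain ⟨c, hc⟩ := hdvd
    have : c = 1 := by nlinarith
    rw [hc, this]
  refine ⟨hcard, ?_⟩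
  exact regular_of_semiregular 59 H (by rw [hcard]; norm_num) hsr

end Cfsg.Agent.S0693
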