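import Mathlib
import Cfsg.Statements.S0694

set_option autoImplicit false
open Cfsg

namespace Cfsg.Agent.S0694


theorem dvd_of_forall_val {a b : ℕ} (ha : a ≠ 0) (hb : b ≠ 0)
    (h : ∀ p : ℕ, p.Prime → padicValNat p a ≤ padicValNat p b) : a ∣ b := by
  rw [← Nat.factorization_prime_le_iff_dvd ha hb]
  intro p hp
  rw [Nat.factorization_def _ hp, Nat.factorization_def _ hp]
  exact h p hp

theorem val_le_of_dvd {a b : ℕ} (hb : b ≠ 0) (h : a ∣ b) (p : ℕ) [Fact p.Prime] :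
    padicValNat p a ≤ padicValNat p b :=
  (padicValNat_dvd_iff_le hb).1 (pow_padicValNat_dvd.trans h)

theorem modEq_iff (q m i : ℕ) (hq : 1 ≤ q) : q ^ i ≡ 1 [MOD m] ↔ m ∣ q ^ i - 1 := by
  rw [Nat.ModEq.comm, Nat.modEq_iff_dvd' (Nat.one_le_pow _ _ hq)]

theorem pow_sub_one_ne_zero {q i : ℕ} (hq : 2 ≤ q) (hi : i ≠ 0) : q ^ i - 1 ≠ 0 := by
  have : 1 < q ^ i := Nat.one_lt_pow hi (by omega)
  omega

theorem not_dvd_of_dvd_sub_one {q s : ℕ} (hs : s.Prime) (hq : 1 ≤ q) (hsd : s ∣ q - 1) : ¬ s ∣ q := by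
  intro h
  have h1 : s ∣ q - (q - 1) := Nat.dvd_sub h hsd
  have h2 : q - (q - 1) = 1 := by omega
  rw [h2] at h1
  exact hs.one_lt.ne' (Nat.dvd_one.1 h1)

/-- odd sum of odd terms -/
theorem geom_odd {q i : ℕ} (hq : Odd q) (hi : Odd i) : Odd (∑ j ∈ Finset.range i, q ^ j) := by
  rw [Nat.odd_iff, Finset.sum_nat_mod]
  have : ∀ j ∈ Finset.range i, q ^ j % 2 = 1 := fun j _ => Nat.odd_iff.1 (hq.pow)
  rw [Finset.sum_congr rfl this]
  simp
  exact Nat.odd_iff.1 hi

/-- L3 -/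
theorem val_two_odd {q i : ℕ} (hq2 : 2 ≤ q) (hq : Odd q) (hi : Odd i) :
    padicValNat 2 (q ^ i - 1) = padicValNat 2 (q - 1) := by
  have h := geom_sum_mul_of_one_le (x := q) (by omega) i
  rw [← h]
  have hodd := geom_odd hq hi
  have hne : (∑ j ∈ Finset.range i, q ^ j) ≠ 0 := by
    intro h0; rw [h0] at hodd; exact absurd hodd (by decide)
  rw [padicValNat.mul hne (by omega)]
  rw [padicValNat.eq_zero_of_not_dvd (fun h2 => (Nat.not_even_iff_odd.2 hodd) (even_iff_two_dvd.2 h2))]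
  simp

/-- L1 -/
theorem lte_exact {q s i : ℕ} (hs : s.Prime) (hq : 2 ≤ q) (hsd : s ∣ q - 1)
    (h : Odd s ∨ 4 ∣ q - 1) (hi : i ≠ 0) :
    padicValNat s (q ^ i - 1) = padicValNat s (q - 1) + padicValNat s i := by
  have := Fact.mk hs
  have hnsq : ¬ s ∣ q := not_dvd_of_dvd_sub_one hs (by omega) hsd
  by_cases hodd : Odd s
  · have := padicValNat.pow_sub_pow (x := q) (y := 1) hodd (by omega) hsd hnsq hi
    simpa using this
  · have h4 : 4 ∣ q - 1 := h.resolve_left hodd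
    have hs2 : s = 2 := by
      rcases hs.eq_two_or_odd' with h2 | h2
      · exact h2
      · exact absurd h2 hodd
    subst hs2
    have hqodd : Odd q := by
      rw [← Nat.not_even_iff_odd, even_iff_two_dvd]; exact hnsq
    rcases Nat.even_or_odd i with hev | hio
    · have h1 := padicValNat.pow_two_sub_one (x := q) (by omega) hnsq hi hev
      have h2 : padicValNat 2 (q + 1) = 1 := by
        obtain ⟨t, ht⟩ := h4
        have hq1 : q + 1 = 2 * (2 * t + 1) := by omega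
        rw [hq1, padicValNat.mul (by norm_num) (by omega), padicValNat_self,
          padicValNat.eq_zero_of_not_dvd (by omega)]
      omega
    · rw [val_two_odd hq hqodd hio]
      have hi0 : padicValNat 2 i = 0 := padicValNat.eq_zero_of_not_dvd
        (fun h2 => (Nat.not_even_iff_odd.2 hio) (even_iff_two_dvd.2 h2))
      omega

/-- L2 -/
theorem lte_two_le {q i : ℕ} (hq : 2 ≤ q) (hqodd : Odd q) (hi : i ≠ 0) :
    padicValNat 2 (q - 1) + padicValNat 2 i ≤ padicValNat 2 (q ^ i - 1) := by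
  have hnsq : ¬ 2 ∣ q := by
    rw [← even_iff_two_dvd, Nat.not_even_iff_odd]; exact hqodd
  rcases Nat.even_or_odd i with hev | hio
  · have h1 := padicValNat.pow_two_sub_one (x := q) (by omega) hnsq hi hev
    have h2 : 1 ≤ padicValNat 2 (q + 1) := by
      apply one_le_padicValNat_of_dvd (by omega)
      obtain ⟨t, ht⟩ := hqodd
      omega
    omega
  · rw [val_two_odd hq hqodd hio]
    have hi0 : padicValNat 2 i = 0 := padicValNat.eq_zero_of_not_dvd
      (fun h2 => (Nat.not_even_iff_odd.2 hio) (even_iff_two_dvd.2 h2))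
    omega

theorem lte_two_lt {q i : ℕ} (hq : 2 ≤ q) (hqodd : Odd q) (h4 : ¬ 4 ∣ q - 1) (hi : i ≠ 0)
    (hev : Even i) :
    padicValNat 2 (q - 1) + padicValNat 2 i + 1 ≤ padicValNat 2 (q ^ i - 1) := by
  have hnsq : ¬ 2 ∣ q := by
    rw [← even_iff_two_dvd, Nat.not_even_iff_odd]; exact hqodd
  have h1 := padicValNat.pow_two_sub_one (x := q) (by omega) hnsq hi hev
  have h2 : 2 ≤ padicValNat 2 (q + 1) := by
    apply (padicValNat_dvd_iff_le (by omega)).1
    obtain ⟨t, ht⟩ := hqodd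
    omega
  omega

/-- uniform lower bound -/
theorem lte_le {q s i : ℕ} (hs : s.Prime) (hq : 2 ≤ q) (hsd : s ∣ q - 1) (hi : i ≠ 0) :
    padicValNat s (q - 1) + padicValNat s i ≤ padicValNat s (q ^ i - 1) := by
  by_cases hodd : Odd s
  · exact (lte_exact hs hq hsd (Or.inl hodd) hi).ge
  · have hs2 : s = 2 := by
      rcases hs.eq_two_or_odd' with h2 | h2
      · exact h2
      · exact absurd h2 hodd
    subst hs2
    have hqodd : Odd q := by
      rw [← Nat.not_even_iff_odd, even_iff_two_dvd]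
      exact not_dvd_of_dvd_sub_one hs (by omega) hsd
    exact lte_two_le hq hqodd hi



theorem F4 {q r k : ℕ} (hq : 2 ≤ q) (hr : r.Prime) (hodd : Odd r) (hk : k ≠ 0)
    (h : r ∣ q ^ (r * k) - 1) : padicValNat r k + 1 ≤ padicValNat r (q ^ k - 1) := by
  have := Fact.mk hr
  obtain ⟨b, k', hk', hkeq⟩ := Nat.exists_eq_pow_mul_and_not_dvd hk r hr.ne_one
  have hk'0 : k' ≠ 0 := by rintro rfl; simp at hk'
  have hvk : padicValNat r k = b := by
    rw [hkeq, padicValNat.mul (pow_ne_zero _ hr.ne_zero) hk'0, padicValNat.prime_pow,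
      padicValNat.eq_zero_of_not_dvd hk', add_zero]
  obtain ⟨Q, hQ⟩ : ∃ Q, Q = q ^ k' := ⟨_, rfl⟩
  have hQ2 : 2 ≤ Q := by
    calc 2 ≤ q := hq
      _ = q ^ 1 := (pow_one q).symm
      _ ≤ q ^ k' := Nat.pow_le_pow_right (by omega) (Nat.one_le_iff_ne_zero.2 hk'0)
      _ = Q := hQ.symm
  have hpow : q ^ (r * k) = Q ^ (r ^ (b + 1)) := by
    rw [hQ, ← pow_mul, hkeq, pow_succ]; ring_nf
  have hpow2 : q ^ k = Q ^ (r ^ b) := by
    rw [hQ, ← pow_mul, hkeq, mul_comm]
  have hrQ : r ∣ Q - 1 := by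
    rw [hpow] at h
    have h1 : Q ^ (r ^ (b+1)) ≡ 1 [MOD r] := (modEq_iff Q r _ (by omega)).2 h
    have h2 : ((Q ^ (r ^ (b+1)) : ℕ) : ZMod r) = ((1 : ℕ) : ZMod r) :=
      (ZMod.natCast_eq_natCast_iff _ _ _).2 h1
    push_cast at h2
    rw [ZMod.pow_card_pow] at h2
    have h3 : Q ≡ 1 [MOD r] := (ZMod.natCast_eq_natCast_iff _ _ _).1 (by simpa using h2)
    have := (modEq_iff Q r 1 (by omega)).1 (by simpa using h3)
    simpa using this
  rw [hpow2, lte_exact hr hQ2 hrQ (Or.inl hodd) (pow_ne_zero _ hr.ne_zero),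
    padicValNat.prime_pow, hvk]
  have := one_le_padicValNat_of_dvd (by omega) hrQ
  omega

theorem F5 {Q s r : ℕ} (hQ : 2 ≤ Q) (hs : s.Prime) (hsodd : Odd s) (hr : r.Prime) (hsr : s < r)
    (h : s ∣ Q ^ r - 1) : padicValNat s (Q ^ r - 1) = padicValNat s (Q - 1) := by
  have := Fact.mk hs
  have := Fact.mk hr
  have h1 : Q ^ r ≡ 1 [MOD s] := (modEq_iff Q s _ (by omega)).2 h
  have h2 : ((Q ^ r : ℕ) : ZMod s) = ((1 : ℕ) : ZMod s) :=
    (ZMod.natCast_eq_natCast_iff _ _ _).2 h1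
  push_cast at h2
  have hQ1 : (Q : ZMod s) = 1 := by
    by_contra hne
    have hord : orderOf (Q : ZMod s) = r := orderOf_eq_prime h2 hne
    have hQ0 : (Q : ZMod s) ≠ 0 := by
      intro h0; rw [h0, zero_pow hr.ne_zero] at h2; exact zero_ne_one h2
    have := ZMod.orderOf_dvd_card_sub_one hQ0
    rw [hord] at this
    have := Nat.le_of_dvd (by have := hs.two_le; omega) this
    omega
  have hsQ : s ∣ Q - 1 := by
    have h3 : Q ≡ 1 [MOD s] := (ZMod.natCast_eq_natCast_iff _ _ _).1 (by simpa using hQ1)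
    have := (modEq_iff Q s 1 (by omega)).1 (by simpa using h3)
    simpa using this
  have hv0 : padicValNat s r = 0 := padicValNat_primes (by omega)
  rw [lte_exact hs hQ hsQ (Or.inl hsodd) hr.ne_zero, hv0, add_zero]

theorem forward1 {q n : ℕ} (hq2 : 2 ≤ q) (hn0 : n ≠ 0)
    (h1 : ∀ r : ℕ, r.Prime → r ∣ n → r ∣ q - 1) : n * (q - 1) ∣ q ^ n - 1 := by
  have hd0 : q - 1 ≠ 0 := by omega
  apply dvd_of_forall_val (mul_ne_zero hn0 hd0) (pow_sub_one_ne_zero hq2 hn0)
  intro p hp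
  have := Fact.mk hp
  rw [padicValNat.mul hn0 hd0]
  by_cases hpn : p ∣ n
  · have := lte_le hp hq2 (h1 p hp hpn) hn0
    omega
  · rw [padicValNat.eq_zero_of_not_dvd hpn, zero_add]
    apply val_le_of_dvd (pow_sub_one_ne_zero hq2 hn0)
    simpa only [one_pow] using Nat.sub_dvd_pow_sub_pow q 1 n

theorem forward2 {q n i : ℕ} (hq2 : 2 ≤ q) (hn0 : n ≠ 0)
    (h1 : ∀ r : ℕ, r.Prime → r ∣ n → r ∣ q - 1) (h2 : 4 ∣ n → 4 ∣ q - 1) (hi : i ≠ 0)
    (h : n * (q - 1) ∣ q ^ i - 1) : n ∣ i := by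
  have hd0 : q - 1 ≠ 0 := by omega
  apply dvd_of_forall_val hn0 hi
  intro p hp
  have := Fact.mk hp
  by_cases hpn : p ∣ n
  · have hpd := h1 p hp hpn
    have hv := val_le_of_dvd (pow_sub_one_ne_zero hq2 hi) h p
    rw [padicValNat.mul hn0 hd0] at hv
    by_cases hc : Odd p ∨ 4 ∣ q - 1
    · rw [lte_exact hp hq2 hpd hc hi] at hv
      omega
    · push Not at hc
      obtain ⟨hc1, hc2⟩ := hc
      have hp2 : p = 2 := by
        rcases hp.eq_two_or_odd' with h | h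
        · exact h
        · exact absurd h hc1
      subst hp2
      have h4n : ¬ 4 ∣ n := fun h => hc2 (h2 h)
      have hvn : padicValNat 2 n ≤ 1 := by
        by_contra hcon
        push Not at hcon
        apply h4n
        have := (padicValNat_dvd_iff_le (p := 2) hn0 (n := 2)).2 hcon
        simpa using this
      have hqodd : Odd q := by
        rw [← Nat.not_even_iff_odd, even_iff_two_dvd]
        exact not_dvd_of_dvd_sub_one hp (by omega) hpd
      rcases Nat.even_or_odd i with hev | hio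
      · have : 1 ≤ padicValNat 2 i := one_le_padicValNat_of_dvd hi (even_iff_two_dvd.1 hev)
        omega
      · rw [val_two_odd hq2 hqodd hio] at hv
        have : 1 ≤ padicValNat 2 n := one_le_padicValNat_of_dvd hn0 hpn
        omega
  · rw [padicValNat.eq_zero_of_not_dvd hpn]; exact Nat.zero_le _

theorem prime_not_dvd_q {q n s : ℕ} (hq2 : 2 ≤ q) (hn0 : n ≠ 0) (hs : s.Prime)
    (g1 : s ∣ q ^ n - 1) : ¬ s ∣ q := by
  intro h
  have h1 : s ∣ q ^ n := dvd_pow h hn0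
  have h2 : s ∣ q ^ n - (q ^ n - 1) := Nat.dvd_sub h1 g1
  have : 1 ≤ q ^ n := Nat.one_le_pow _ _ (by omega)
  have h3 : q ^ n - (q ^ n - 1) = 1 := by omega
  rw [h3] at h2
  exact hs.one_lt.ne' (Nat.dvd_one.1 h2)

theorem two_dvd_sub_one {q n : ℕ} (hq2 : 2 ≤ q) (hn0 : n ≠ 0)
    (g1 : n * (q - 1) ∣ q ^ n - 1) (h2n : 2 ∣ n) : 2 ∣ q - 1 := by
  have h2 : 2 ∣ q ^ n - 1 := (h2n.trans (dvd_mul_right _ _)).trans g1
  have hnq : ¬ 2 ∣ q := prime_not_dvd_q hq2 hn0 Nat.prime_two h2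
  omega

theorem backwardA {q n : ℕ} (hq2 : 2 ≤ q) (hn : 1 < n)
    (g1 : n * (q - 1) ∣ q ^ n - 1)
    (g2 : ∀ i : ℕ, 0 < i → i < n → ¬ n * (q - 1) ∣ q ^ i - 1) :
    ∀ r : ℕ, r.Prime → r ∣ n → r ∣ q - 1 := by
  have hd0 : q - 1 ≠ 0 := by omega
  have hn0 : n ≠ 0 := by omega
  by_contra hcon
  push Not at hcon
  obtain ⟨r, hrB, hrmax⟩ : ∃ r ∈ n.primeFactors.filter (fun r => ¬ r ∣ q - 1),
      ∀ s ∈ n.primeFactors.filter (fun r => ¬ r ∣ q - 1), s ≤ r := by
    have hBne : (n.primeFactors.filter (fun r => ¬ r ∣ q - 1)).Nonempty := by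
      obtain ⟨r, hr, hrn, hrd⟩ := hcon
      exact ⟨r, Finset.mem_filter.2 ⟨Nat.mem_primeFactors.2 ⟨hr, hrn, hn0⟩, hrd⟩⟩
    exact ⟨_, Finset.max'_mem _ hBne, fun s hs => Finset.le_max' _ _ hs⟩
  obtain ⟨hrpf, hrd⟩ := Finset.mem_filter.1 hrB
  have hr : r.Prime := (Nat.mem_primeFactors.1 hrpf).1
  have hrn : r ∣ n := (Nat.mem_primeFactors.1 hrpf).2.1
  have hrodd : Odd r := by
    rcases hr.eq_two_or_odd' with h | h
    · exfalso
      apply hrd
      rw [h]
      exact two_dvd_sub_one hq2 hn0 g1 (h ▸ hrn)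
    · exact h
  obtain ⟨k, hk⟩ := hrn
  have hk0 : k ≠ 0 := by rintro rfl; simp at hk; omega
  have hkn : k < n := by
    rw [hk]; have := hr.two_le; nlinarith [Nat.pos_of_ne_zero hk0]
  apply g2 k (Nat.pos_of_ne_zero hk0) hkn
  have := Fact.mk hr
  apply dvd_of_forall_val (mul_ne_zero hn0 hd0) (pow_sub_one_ne_zero hq2 hk0)
  intro s hs
  have := Fact.mk hs
  rw [padicValNat.mul hn0 hd0]
  have hvn : padicValNat s n = padicValNat s r + padicValNat s k := by
    rw [hk, padicValNat.mul hr.ne_zero hk0]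
  by_cases hsr : s = r
  · subst hsr
    rw [padicValNat_self] at hvn
    rw [padicValNat.eq_zero_of_not_dvd hrd]
    have hdiv : s ∣ q ^ (s * k) - 1 := by
      rw [← hk]
      exact ((Dvd.intro k hk.symm).trans (dvd_mul_right _ _)).trans g1
    have := F4 hq2 hs hrodd hk0 hdiv
    omega
  · have hv0 : padicValNat s r = 0 := padicValNat_primes hsr
    by_cases hsd : s ∣ q - 1
    · have := lte_le hs hq2 hsd hk0
      omega
    · rw [padicValNat.eq_zero_of_not_dvd hsd]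
      by_cases hsn : s ∣ n
      · have hsB : s ∈ n.primeFactors.filter (fun r => ¬ r ∣ q - 1) :=
          Finset.mem_filter.2 ⟨Nat.mem_primeFactors.2 ⟨hs, hsn, hn0⟩, hsd⟩
        have hslt : s < r := lt_of_le_of_ne (hrmax s hsB) hsr
        have hsodd : Odd s := by
          rcases hs.eq_two_or_odd' with h | h
          · exfalso
            apply hsd
            rw [h]
            exact two_dvd_sub_one hq2 hn0 g1 (h ▸ hsn)
          · exact h
        have hQ2 : 2 ≤ q ^ k := by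
          calc 2 ≤ q := hq2
            _ = q ^ 1 := (pow_one q).symm
            _ ≤ q ^ k := Nat.pow_le_pow_right (by omega) (Nat.one_le_iff_ne_zero.2 hk0)
        have hpow : (q ^ k) ^ r = q ^ n := by
          rw [← pow_mul, hk, mul_comm]
        have hdiv : s ∣ (q ^ k) ^ r - 1 := by
          rw [hpow]
          exact (hsn.trans (dvd_mul_right _ _)).trans g1
        have h5 := F5 hQ2 hs hsodd hr hslt hdiv
        rw [hpow] at h5
        have hv := val_le_of_dvd (pow_sub_one_ne_zero hq2 hn0) g1 s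
        rw [padicValNat.mul hn0 hd0] at hv
        omega
      · rw [padicValNat.eq_zero_of_not_dvd hsn]
        exact Nat.zero_le _

theorem backwardB {q n : ℕ} (hq2 : 2 ≤ q) (hn : 1 < n)
    (g2 : ∀ i : ℕ, 0 < i → i < n → ¬ n * (q - 1) ∣ q ^ i - 1)
    (hA : ∀ r : ℕ, r.Prime → r ∣ n → r ∣ q - 1) : 4 ∣ n → 4 ∣ q - 1 := by
  intro h4n
  by_contra h4d
  have hd0 : q - 1 ≠ 0 := by omega
  have hn0 : n ≠ 0 := by omega
  have h2n : 2 ∣ n := (by norm_num : 2 ∣ 4).trans h4n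
  have h2d : 2 ∣ q - 1 := hA 2 Nat.prime_two h2n
  have hqodd : Odd q := by
    rw [← Nat.not_even_iff_odd, even_iff_two_dvd]
    exact not_dvd_of_dvd_sub_one Nat.prime_two (by omega) h2d
  obtain ⟨k', hk'⟩ := h4n
  obtain ⟨k, hk⟩ : ∃ k, k = 2 * k' := ⟨_, rfl⟩
  have hnk : n = 2 * k := by omega
  have hk0 : k ≠ 0 := by omega
  have hkev : Even k := ⟨k', by omega⟩
  apply g2 k (Nat.pos_of_ne_zero hk0) (by omega)
  apply dvd_of_forall_val (mul_ne_zero hn0 hd0) (pow_sub_one_ne_zero hq2 hk0)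
  intro s hs
  have := Fact.mk hs
  rw [padicValNat.mul hn0 hd0]
  have hvn : padicValNat s n = padicValNat s 2 + padicValNat s k := by
    rw [hnk, padicValNat.mul (by norm_num) hk0]
  by_cases hs2 : s = 2
  · subst hs2
    have := lte_two_lt hq2 hqodd h4d hk0 hkev
    rw [padicValNat_self] at hvn
    omega
  · haveI : Fact (Nat.Prime 2) := ⟨Nat.prime_two⟩
    have hv2 : padicValNat s 2 = 0 := padicValNat_primes hs2
    by_cases hsd : s ∣ q - 1
    · have := lte_le hs hq2 hsd hk0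
      omega
    · have hsn : ¬ s ∣ n := fun h => hsd (hA s hs h)
      rw [padicValNat.eq_zero_of_not_dvd hsn, padicValNat.eq_zero_of_not_dvd hsd]
      exact Nat.zero_le _

/-- The Dickson pair condition: for a prime power `q` and `n > 1`, (every prime factor of `n` divides `q - 1`, and `4 ∣ n → 4 ∣ q - 1`) holds exactly when `q ^ n ≡ 1` modulo `n * (q - 1)` but `q ^ i` is not, for `0 < i < n`. -/
theorem result (q n : ℕ) (hq : IsPrimePow q) (hn : 1 < n) : ((∀ r : ℕ, r.Prime → r ∣ n → r ∣ q - 1) ∧ (4 ∣ n → 4 ∣ q - 1)) ↔ (q ^ n ≡ 1 [MOD n * (q - 1)] ∧ ∀ i : ℕ, 0 < i → i < n → ¬ q ^ i ≡ 1 [MOD n * (q - 1)]) := by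
  have hq2 : 2 ≤ q := hq.two_le
  have hn0 : n ≠ 0 := by omega
  have hiff : ∀ i, q ^ i ≡ 1 [MOD n * (q - 1)] ↔ n * (q - 1) ∣ q ^ i - 1 :=
    fun i => modEq_iff q _ i (by omega)
  simp only [hiff]
  constructor
  · rintro ⟨h1, h2⟩
    refine ⟨forward1 hq2 hn0 h1, fun i hi hin hdvd => ?_⟩
    have := forward2 hq2 hn0 h1 h2 (by omega) hdvd
    have := Nat.le_of_dvd hi this
    omega
  · rintro ⟨g1, g2⟩
    have hA := backwardA hq2 hn g1 g2
    exact ⟨hA, backwardB hq2 hn g2 hA⟩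

end Cfsg.Agent.S0694
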