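import Mathlib
import Cfsg.Statements.S0695
import Cfsg.Agent.Lib.Helper10.RegularNormal

set_option autoImplicit false
open Cfsg
open Cfsg.Agent.Lib.Helper10

namespace Cfsg.Agent.S0695

/-- A regular normal subgroup of a doubly primitive group of finite degree at least 2 is an elementary abelian 2-group (and the degree is a power of 2), unless the degree is 3. -/
theorem result {G : Type*} [Group G] {X : Type*} [Fintype X] [MulAction G X] (hX : 2 ≤ Fintype.card X) (h2 : MulAction.IsMultiplyPreprimitive G X 2) (N : Subgroup G) [N.Normal] (htrans : MulAction.IsPretransitive N X) (hreg : ∀ x : X, MulAction.stabilizer N x = ⊥) : Fintype.card X = 3 ∨ (IsMulCommutative N ∧ (∀ n ∈ N, n ^ 2 = 1) ∧ ∃ m : ℕ, Fintype.card X = 2 ^ m) := by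
  classical
  obtain ⟨x⟩ : Nonempty X := Fintype.card_pos_iff.mp (by omega)
  have hprim := h2.isPreprimitive_ofFixingSubgroup (s := ({x} : Set X)) (by
    rw [Set.encard_singleton]; rfl)
  by_cases hall : ∀ n ∈ N, n ^ 2 = 1
  · right
    refine ⟨?_, hall, ?_⟩
    · refine ⟨⟨fun a b => ?_⟩⟩
      have ha := hall a a.2
      have hb := hall b b.2
      have hab := hall (a * b) (N.mul_mem a.2 b.2)
      apply Subtype.ext
      show (a : G) * b = b * a
      have h1 : (a : G) * b * ((a : G) * b) = 1 := by rw [← pow_two]; exact hab
      have h2 : (a : G) * a = 1 := by rw [← pow_two]; exact ha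
      have h3 : (b : G) * b = 1 := by rw [← pow_two]; exact hb
      have e1 : ((a : G) * b)⁻¹ = (a : G) * b := inv_eq_of_mul_eq_one_right h1
      have e2 : (a : G)⁻¹ = a := inv_eq_of_mul_eq_one_right h2
      have e3 : (b : G)⁻¹ = b := inv_eq_of_mul_eq_one_right h3
      rw [← e1, mul_inv_rev, e2, e3]
    · have hcard := card_eq_of_regular N hreg htrans x
      have hP : IsPGroup 2 N := fun g => ⟨1, by
        apply Subtype.ext
        rw [pow_one, Subgroup.coe_pow, Subgroup.coe_one]
        exact hall g g.2⟩
      haveI : Finite N := Nat.finite_of_card_ne_zero (by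
        rw [hcard, Nat.card_eq_fintype_card]; omega)
      obtain ⟨m, hm⟩ := hP.exists_card_eq
      exact ⟨m, by rw [← Nat.card_eq_fintype_card, ← hcard, hm]⟩
  · left
    push_neg at hall
    obtain ⟨n, hn, hn2⟩ := hall
    have hn1 : n ≠ 1 := fun h => hn2 (by rw [h]; simp)
    rcases sq_eq_one_or_of_preprimitive N hreg x hprim n hn hn1 with h | h
    · exact absurd h hn2
    · have hninv : n⁻¹ ∈ N := N.inv_mem hn
      have hnx : n • x ≠ x := fun h =>
        hn1 (regular_smul_inj N hreg hn N.one_mem (by rw [h, one_smul]))
      have hnix : n⁻¹ • x ≠ x := fun h => by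
        apply hn1
        have := regular_smul_inj N hreg hninv N.one_mem (by rw [h, one_smul])
        exact inv_eq_one.mp this
      have hnn : n • x ≠ n⁻¹ • x := fun h => by
        apply hn2
        have h3 : n = n⁻¹ := regular_smul_inj N hreg hn hninv h
        rw [pow_two]
        exact mul_eq_one_iff_eq_inv.mpr h3
      have huniv : (Finset.univ : Finset X) = {x, n • x, n⁻¹ • x} := by
        ext y
        simp only [Finset.mem_univ, Finset.mem_insert, Finset.mem_singleton, true_iff]
        by_cases hy : y = x
        · exact Or.inl hy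
        · exact Or.inr (h y hy)
      have hc : Fintype.card X = ({x, n • x, n⁻¹ • x} : Finset X).card := by
        rw [← huniv]; rfl
      rw [hc, Finset.card_insert_of_notMem, Finset.card_pair hnn]
      simp only [Finset.mem_insert, Finset.mem_singleton, not_or]
      exact ⟨fun e => hnx e.symm, fun e => hnix e.symm⟩

end Cfsg.Agent.S0695
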