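import Mathlib
import Cfsg.Statements.S0696
import Cfsg.Agent.S0695

set_option autoImplicit false
open Cfsg
open Cfsg.Agent.Lib.Helper10

namespace Cfsg.Agent.S0696

/-- A triply primitive group of degree at least 3 having a regular normal subgroup has degree 3 or 4. -/
theorem result {G : Type*} [Group G] {X : Type*} [Fintype X] [MulAction G X] (hX : 3 ≤ Fintype.card X) (h3 : MulAction.IsMultiplyPreprimitive G X 3) (N : Subgroup G) [N.Normal] (htrans : MulAction.IsPretransitive N X) (hreg : ∀ x : X, MulAction.stabilizer N x = ⊥) : Fintype.card X = 3 ∨ Fintype.card X = 4 := by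
  classical
  have hcardE : (3 : ℕ∞) ≤ ENat.card X := by
    rw [ENat.card_eq_coe_fintype_card]
    exact_mod_cast hX
  have h2 : MulAction.IsMultiplyPreprimitive G X 2 :=
    MulAction.isMultiplyPreprimitive_of_le G X h3 (by norm_num) hcardE
  rcases Cfsg.Agent.S0695.result (by omega) h2 N htrans hreg with h | ⟨-, hexp, -⟩
  · exact Or.inl h
  · -- three distinct points
    obtain ⟨a, b, c, hab, hac, hbc⟩ := Fintype.two_lt_card_iff.mp (by omega : 2 < Fintype.card X)
    obtain ⟨n, hn, hnb⟩ := exists_mem_smul_eq N htrans a b
    obtain ⟨m, hm, hmc⟩ := exists_mem_smul_eq N htrans a c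
    have hn1 : n ≠ 1 := fun h => hab (by rw [← hnb, h, one_smul])
    have hm1 : m ≠ 1 := fun h => hac (by rw [← hmc, h, one_smul])
    have hmn : m ≠ n := fun h => hbc (by rw [← hnb, ← hmc, h])
    have hprim := h3.isPreprimitive_ofFixingSubgroup (s := ({a, n • a} : Set X)) (by
      rw [Set.encard_pair (by rw [hnb]; exact hab)]; rfl)
    have hall := all_of_preprimitive_pair N hreg a n hn hn1 (hexp n hn) hprim m hm hm1 hmn
    have huniv : (Finset.univ : Finset X) ⊆ {a, n • a, m • a, (n * m) • a} := by
      intro y _
      simp only [Finset.mem_insert, Finset.mem_singleton]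
      by_cases hy : y = a
      · exact Or.inl hy
      · by_cases hy' : y = n • a
        · exact Or.inr (Or.inl hy')
        · rcases hall y hy hy' with h | h
          · exact Or.inr (Or.inr (Or.inl h))
          · exact Or.inr (Or.inr (Or.inr h))
    have hle : Fintype.card X ≤ 4 := by
      calc Fintype.card X = (Finset.univ : Finset X).card := rfl
        _ ≤ ({a, n • a, m • a, (n * m) • a} : Finset X).card := Finset.card_le_card huniv
        _ ≤ 4 := Finset.card_le_four
    omega

end Cfsg.Agent.S0696
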