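import Mathlib
import Cfsg.Statements.S0697
import Cfsg.Agent.Lib.Helper10.JordanPrim

set_option autoImplicit false
open Cfsg

namespace Cfsg.Agent.S0697

/-- In a `k`-primitive permutation group which is not the whole symmetric group, a non-trivial non-regular normal subgroup is `k`-transitive. -/
theorem result {α : Type*} [Fintype α] [DecidableEq α] (G : Subgroup (Equiv.Perm α)) {k : ℕ} (hk : 1 ≤ k) (hkn : k ≤ Fintype.card α) (hG : MulAction.IsMultiplyPreprimitive G α k) (htop : G ≠ ⊤) (H : Subgroup G) [H.Normal] (hH : H ≠ ⊥) (hnr : ∃ a : α, MulAction.stabilizer H a ≠ ⊥) : MulAction.IsMultiplyPretransitive H α k := by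
  classical
  open Cfsg.Agent.Lib.Helper10 in
  have hFT : FT G ∅ k := by
    intro x y hx hy _ _
    haveI := hG.isMultiplyPretransitive
    obtain ⟨g, hg⟩ := MulAction.exists_smul_eq G (⟨x, hx⟩ : Fin k ↪ α) ⟨y, hy⟩
    refine ⟨g.1, g.2, fun r => ?_⟩
    have := DFunLike.congr_fun hg r
    exact this
  open Cfsg.Agent.Lib.Helper10 in
  have hFP : FP G ∅ k := by
    refine ⟨hFT, fun S _ hS => ?_⟩
    have hprim := hG.isPreprimitive_ofFixingSubgroup (s := (S : Set α)) (by
      rw [Set.encard_coe_eq_coe_finsetCard]; exact_mod_cast hS)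
    have hSu : S ∪ ∅ = S := Finset.union_empty S
    rw [hSu]
    have hmemfix : ∀ g : G, g ∈ fixingSubgroup G (S : Set α) ↔ (g : Equiv.Perm α) ∈ fixing S := by
      intro g
      rw [mem_fixingSubgroup_iff, mem_fixing]
      rfl
    constructor
    · intro x y _ _ hxF hyF
      have hx0 : x 0 ∈ SubMulAction.ofFixingSubgroup G (S : Set α) := by
        rw [SubMulAction.mem_ofFixingSubgroup_iff]; exact_mod_cast hxF 0
      have hy0 : y 0 ∈ SubMulAction.ofFixingSubgroup G (S : Set α) := by
        rw [SubMulAction.mem_ofFixingSubgroup_iff]; exact_mod_cast hyF 0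
      obtain ⟨g, hg⟩ := hprim.toIsPretransitive.exists_smul_eq ⟨x 0, hx0⟩ ⟨y 0, hy0⟩
      refine ⟨g.1.1, Subgroup.mem_inf.mpr ⟨g.1.2, (hmemfix g.1).mp g.2⟩, fun r => ?_⟩
      have hr : r = 0 := Subsingleton.elim _ _
      subst hr
      exact congrArg Subtype.val hg
    · intro B hBF hB
      let B' : Set (SubMulAction.ofFixingSubgroup G (S : Set α)) := {y | (y : α) ∈ B}
      have hblock : MulAction.IsBlock (fixingSubgroup G (S : Set α)) B' := by
        rw [MulAction.isBlock_iff_smul_eq_of_mem]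
        intro g a ha hga
        have hgK : (g.1 : Equiv.Perm α) ∈ G ⊓ fixing S :=
          Subgroup.mem_inf.mpr ⟨g.1.2, (hmemfix g.1).mp g.2⟩
        have hgiK : (g.1 : Equiv.Perm α)⁻¹ ∈ G ⊓ fixing S := (G ⊓ fixing S).inv_mem hgK
        have ha' : (a : α) ∈ B := ha
        have hga' : (g.1 : Equiv.Perm α) (a : α) ∈ B := hga
        ext y
        rw [Set.mem_smul_set_iff_inv_smul_mem]
        show (g.1 : Equiv.Perm α)⁻¹ (y : α) ∈ B ↔ (y : α) ∈ B
        constructor
        · intro h
          have := hB _ hgK _ ha' hga' _ h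
          simpa using this
        · intro h
          exact hB _ hgiK _ hga' (by simpa using ha') _ h
      rcases hprim.isTrivialBlock_of_isBlock hblock with hsub | htop
      · left
        intro b hb c hc
        have hb0 : b ∈ SubMulAction.ofFixingSubgroup G (S : Set α) := by
          rw [SubMulAction.mem_ofFixingSubgroup_iff]; exact_mod_cast hBF b hb
        have hc0 : c ∈ SubMulAction.ofFixingSubgroup G (S : Set α) := by
          rw [SubMulAction.mem_ofFixingSubgroup_iff]; exact_mod_cast hBF c hc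
        have := hsub (show (⟨b, hb0⟩ : SubMulAction.ofFixingSubgroup G (S : Set α)) ∈ B' from hb)
          (show (⟨c, hc0⟩ : SubMulAction.ofFixingSubgroup G (S : Set α)) ∈ B' from hc)
        exact congrArg Subtype.val this
      · right
        intro z hz
        have hz0 : z ∈ SubMulAction.ofFixingSubgroup G (S : Set α) := by
          rw [SubMulAction.mem_ofFixingSubgroup_iff]; exact_mod_cast hz
        have : (⟨z, hz0⟩ : SubMulAction.ofFixingSubgroup G (S : Set α)) ∈ B' := by
          rw [htop]; trivial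
        exact this
  open Cfsg.Agent.Lib.Helper10 in
  have hfix : Fixes G ∅ := fun g _ f hf => absurd hf (Finset.notMem_empty f)
  open Cfsg.Agent.Lib.Helper10 in
  have hnf : ¬ Full G ∅ := by
    intro h
    apply htop
    rw [Subgroup.eq_top_iff']
    intro σ
    exact h σ (fun f hf => absurd hf (Finset.notMem_empty f))
  have hle : H.map G.subtype ≤ G := by
    rintro _ ⟨n, _, rfl⟩
    exact n.2
  have hnorm : ∀ g ∈ G, ∀ n ∈ H.map G.subtype, g * n * g⁻¹ ∈ H.map G.subtype := by
    rintro g hg _ ⟨n, hn, rfl⟩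
    refine ⟨⟨g, hg⟩ * n * ⟨g, hg⟩⁻¹, ‹H.Normal›.conj_mem n hn ⟨g, hg⟩, ?_⟩
    simp
  have hHne : H.map G.subtype ≠ ⊥ := by
    intro h
    apply hH
    rw [Subgroup.eq_bot_iff_forall]
    intro n hn
    have : G.subtype n ∈ H.map G.subtype := ⟨n, hn, rfl⟩
    rw [h, Subgroup.mem_bot] at this
    exact Subtype.ext this
  have hnr' : ∃ a, a ∉ (∅ : Finset α) ∧
      H.map G.subtype ⊓ Cfsg.Agent.Lib.Helper10.ptStab a ≠ ⊥ := by
    obtain ⟨a, ha⟩ := hnr
    refine ⟨a, Finset.notMem_empty a, fun h => ha ?_⟩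
    rw [Subgroup.eq_bot_iff_forall]
    intro n hn
    have hmem : G.subtype n.1 ∈ H.map G.subtype ⊓ Cfsg.Agent.Lib.Helper10.ptStab a := by
      refine Subgroup.mem_inf.mpr ⟨⟨n.1, n.2, rfl⟩, ?_⟩
      exact MulAction.mem_stabilizer_iff.mp hn
    rw [h, Subgroup.mem_bot] at hmem
    exact Subtype.ext (Subtype.ext hmem)
  have h := Cfsg.Agent.Lib.Helper10.kprim_aux k hk G (H.map G.subtype) ∅ hfix (by simpa using hkn)
    hFP hnf hle hnorm hHne (Or.inr hnr')
  refine ⟨fun x y => ?_⟩
  obtain ⟨g, ⟨n, hn, rfl⟩, hg⟩ := h x y x.injective y.injective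
    (fun r => Finset.notMem_empty _) (fun r => Finset.notMem_empty _)
  refine ⟨⟨n, hn⟩, ?_⟩
  ext r
  exact hg r

end Cfsg.Agent.S0697
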