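import Cfsg.Statements.S0700
import Mathlib
import Cfsg.Agent.S0339

set_option autoImplicit false
open Cfsg

namespace Cfsg.Agent.S0700

open MulAction
open scoped Pointwise

section abs
variable {G Ω : Type*} [Group G] [MulAction G Ω]

/-- Two-transitivity in elementwise form. -/
def TwoTr (G Ω : Type*) [Group G] [MulAction G Ω] : Prop :=
  ∀ a b c d : Ω, a ≠ b → c ≠ d → ∃ g : G, g • a = c ∧ g • b = d

lemma exists_moved [FaithfulSMul G Ω] {n : G} (hn : n ≠ 1) : ∃ b : Ω, n • b ≠ b := by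
  by_contra hcon
  push_neg at hcon
  exact hn (FaithfulSMul.eq_of_smul_eq_smul (α := Ω) (fun b => by rw [hcon b, one_smul]))

lemma exists_ne_one_mem {N : Subgroup G} (hN : N ≠ ⊥) : ∃ n ∈ N, n ≠ 1 := by
  by_contra hcon
  push_neg at hcon
  exact hN ((Subgroup.eq_bot_iff_forall N).2 hcon)

lemma trans_of_two [FaithfulSMul G Ω] {N : Subgroup G} [N.Normal] (h2 : TwoTr G Ω)
    (hN : N ≠ ⊥) (x y : Ω) : ∃ n ∈ N, n • x = y := by
  by_cases hxy : x = y
  · exact ⟨1, N.one_mem, by rw [one_smul, hxy]⟩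
  obtain ⟨n, hnN, hn1⟩ := exists_ne_one_mem hN
  obtain ⟨b, hb⟩ := exists_moved (Ω := Ω) hn1
  obtain ⟨g, hg1, hg2⟩ := h2 b (n • b) x y (Ne.symm hb) hxy
  refine ⟨g * n * g⁻¹, ‹N.Normal›.conj_mem n hnN g, ?_⟩
  rw [← hg1, mul_smul, mul_smul, inv_smul_smul, hg2]

lemma regular_case [FaithfulSMul G Ω] [Finite G] {N : Subgroup G} [N.Normal] (h2 : TwoTr G Ω)
    (hN : N ≠ ⊥) (hreg : ∀ n ∈ N, ∀ a : Ω, n • a = a → n = 1) :
    (∀ x ∈ N, ∀ y ∈ N, x * y = y * x) ∧ ∃ p : ℕ, p.Prime ∧ ∀ n ∈ N, n ^ p = 1 := by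
  obtain ⟨n0, hn0N, hn01⟩ := exists_ne_one_mem hN
  obtain ⟨a, -⟩ := exists_moved (Ω := Ω) hn01
  have hconj : ∀ n₁ ∈ N, n₁ ≠ 1 → ∀ n₂ ∈ N, n₂ ≠ 1 → ∃ g : G, g * n₁ * g⁻¹ = n₂ := by
    intro n₁ h1 h11 n₂ h2' h21
    have e1 : a ≠ n₁ • a := fun h => h11 (hreg n₁ h1 a h.symm)
    have e2 : a ≠ n₂ • a := fun h => h21 (hreg n₂ h2' a h.symm)
    obtain ⟨g, hg1, hg2⟩ := h2 a (n₁ • a) a (n₂ • a) e1 e2
    refine ⟨g, ?_⟩
    have hmem : n₂⁻¹ * (g * n₁ * g⁻¹) ∈ N :=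
      N.mul_mem (N.inv_mem h2') (‹N.Normal›.conj_mem n₁ h1 g)
    have hfix : (n₂⁻¹ * (g * n₁ * g⁻¹)) • a = a := by
      have hg1' : g⁻¹ • a = a := by rw [inv_smul_eq_iff, hg1]
      rw [mul_smul, mul_smul, mul_smul, hg1', hg2, inv_smul_smul]
    have := hreg _ hmem a hfix
    rw [inv_mul_eq_one] at this
    exact this.symm
  have hN' : Nontrivial ↥N := (Subgroup.nontrivial_iff_ne_bot N).2 hN
  have hcard : Nat.card ↥N ≠ 1 := by
    intro h
    rw [Nat.card_eq_one_iff_unique] at h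
    exact not_subsingleton ↥N h.1
  set p := (Nat.card ↥N).minFac with hp
  have hpp : p.Prime := Nat.minFac_prime hcard
  haveI : Fact p.Prime := ⟨hpp⟩
  obtain ⟨x, hx⟩ := exists_prime_orderOf_dvd_card' (G := ↥N) p (Nat.minFac_dvd _)
  have hx1 : (x : G) ≠ 1 := by
    intro h
    have : x = 1 := Subtype.ext h
    rw [this, orderOf_one] at hx
    exact hpp.one_lt.ne hx
  have hxp : (x : G) ^ p = 1 := by
    have := pow_orderOf_eq_one x
    rw [hx] at this
    exact_mod_cast congrArg Subtype.val this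
  have hpow : ∀ n ∈ N, n ^ p = 1 := by
    intro n hn
    by_cases hn1 : n = 1
    · rw [hn1, one_pow]
    obtain ⟨g, hg⟩ := hconj x x.2 hx1 n hn hn1
    rw [← hg, conj_pow, hxp, mul_one, mul_inv_cancel]
  refine ⟨?_, p, hpp, hpow⟩
  have hPG : IsPGroup p ↥N := by
    intro g
    refine ⟨1, ?_⟩
    rw [pow_one]
    exact Subtype.ext (by simpa using hpow g g.2)
  haveI := hPG.center_nontrivial
  obtain ⟨z, hz⟩ := exists_ne (1 : Subgroup.center ↥N)
  have hz1 : ((z : ↥N) : G) ≠ 1 := by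
    intro h
    exact hz (Subtype.ext (Subtype.ext h))
  have hzc : ∀ y ∈ N, y * ((z : ↥N) : G) = ((z : ↥N) : G) * y := by
    intro y hy
    have := (Subgroup.mem_center_iff.1 z.2) ⟨y, hy⟩
    exact congrArg Subtype.val this
  have hcen : ∀ n₁ ∈ N, ∀ y ∈ N, n₁ * y = y * n₁ := by
    intro n₁ h1 y hy
    by_cases h11 : n₁ = 1
    · rw [h11, one_mul, mul_one]
    obtain ⟨g, hg⟩ := hconj _ (z : ↥N).2 hz1 n₁ h1 h11
    have hy' : g⁻¹ * y * g ∈ N := by
      have := ‹N.Normal›.conj_mem y hy g⁻¹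
      rwa [inv_inv] at this
    have := hzc _ hy'
    rw [← hg]
    have e : y = g * (g⁻¹ * y * g) * g⁻¹ := by group
    rw [e]
    have : g * ↑↑z * g⁻¹ * (g * (g⁻¹ * y * g) * g⁻¹) = g * (↑↑z * (g⁻¹ * y * g)) * g⁻¹ := by group
    rw [this, ← hzc _ hy']
    group
  exact hcen

end abs

open MulAction
open scoped Pointwise

section abs
variable {G Ω : Type*} [Group G] [MulAction G Ω]

/-- elementwise block for a subgroup -/
def IsBlk (N : Subgroup G) (B : Set Ω) : Prop :=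
  ∀ n ∈ N, ∀ x ∈ B, n • x ∈ B → ∀ y ∈ B, n • y ∈ B

lemma IsBlk.inter {N : Subgroup G} {B C : Set Ω} (hB : IsBlk N B) (hC : IsBlk N C) :
    IsBlk N (B ∩ C) := by
  intro n hn x hx hnx y hy
  exact ⟨hB n hn x hx.1 hnx.1 y hy.1, hC n hn x hx.2 hnx.2 y hy.2⟩

lemma IsBlk.smul {N : Subgroup G} [N.Normal] {B : Set Ω} (hB : IsBlk N B) (g : G) :
    IsBlk N (g • B) := by
  intro n hn x hx hnx y hy
  rw [Set.mem_smul_set_iff_inv_smul_mem] at hx hnx hy ⊢
  have hn' : g⁻¹ * n * g ∈ N := by simpa using ‹N.Normal›.conj_mem n hn g⁻¹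
  have := hB _ hn' (g⁻¹ • x) hx (by rw [mul_smul, mul_smul, smul_inv_smul]; exact hnx) (g⁻¹ • y) hy
  rwa [mul_smul, mul_smul, smul_inv_smul] at this

lemma prim_of_nonregular [FaithfulSMul G Ω] [Finite G] [Finite Ω] {N : Subgroup G} [N.Normal]
    (h2 : TwoTr G Ω)
    (hmin : ∀ M : Subgroup G, M.Normal → M ≤ N → M = ⊥ ∨ M = N)
    (a : Ω) (n0 : G) (hn0 : n0 ∈ N) (hn01 : n0 ≠ 1) (hn0a : n0 • a = a)
    (B : Set Ω) (hB : IsBlk N B) : B.Subsingleton ∨ B = Set.univ := by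
  by_contra hcon
  push_neg at hcon
  have hNbot : N ≠ ⊥ := fun h => hn01 ((Subgroup.mem_bot).1 (h ▸ hn0))
  -- minimal nontrivial block
  have hex : ∃ k : ℕ, ∃ D : Set Ω, IsBlk N D ∧ ¬ D.Subsingleton ∧ D ≠ Set.univ ∧ D.ncard = k :=
    ⟨B.ncard, B, hB, Set.not_subsingleton_iff.2 hcon.1, hcon.2, rfl⟩
  classical
  obtain ⟨D, hD, hDns, hDu, hDk⟩ := Nat.find_spec hex
  have hDmin : ∀ D' : Set Ω, IsBlk N D' → ¬ D'.Subsingleton → D' ≠ Set.univ →
      D.ncard ≤ D'.ncard := by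
    intro D' h1 h2' h3
    rw [hDk]
    exact Nat.find_min' hex ⟨D', h1, h2', h3, rfl⟩
  -- lines
  have hcard : ∀ g : G, (g • D).ncard = D.ncard := fun g => by
    rw [← Set.image_smul]
    exact Set.ncard_image_of_injective _ (MulAction.injective g)
  have hLne : ∀ g : G, g • D ≠ Set.univ := by
    intro g h
    apply hDu
    have : g⁻¹ • (g • D) = g⁻¹ • (Set.univ : Set Ω) := by rw [h]
    rwa [inv_smul_smul, Set.smul_set_univ] at this
  have hL2 : ∀ g h : G, ∀ x y : Ω, x ≠ y → x ∈ g • D → y ∈ g • D → x ∈ h • D → y ∈ h • D →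
      g • D = h • D := by
    intro g h x y hxy hxg hyg hxh hyh
    have hI : IsBlk N (g • D ∩ h • D) := (hD.smul g).inter (hD.smul h)
    have hIns : ¬ (g • D ∩ h • D).Subsingleton := by
      intro hs
      exact hxy (hs ⟨hxg, hxh⟩ ⟨hyg, hyh⟩)
    have hIu : (g • D ∩ h • D) ≠ Set.univ := by
      intro hu
      apply hLne g
      rw [Set.eq_univ_iff_forall] at hu ⊢
      exact fun z => (hu z).1
    have hle := hDmin _ hI hIns hIu
    have e1 : g • D ∩ h • D = g • D :=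
      Set.eq_of_subset_of_ncard_le Set.inter_subset_left (by rw [hcard]; exact hle) (Set.toFinite _)
    have e2 : g • D ∩ h • D = h • D :=
      Set.eq_of_subset_of_ncard_le Set.inter_subset_right (by rw [hcard]; exact hle) (Set.toFinite _)
    rw [← e1, e2]
  have hL3 : ∀ x y : Ω, x ≠ y → ∃ g : G, x ∈ g • D ∧ y ∈ g • D := by
    intro x y hxy
    rw [Set.not_subsingleton_iff] at hDns
    obtain ⟨u, hu, v, hv, huv⟩ := hDns
    obtain ⟨g, hg1, hg2⟩ := h2 u v x y huv hxy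
    exact ⟨g, hg1 ▸ Set.smul_mem_smul_set hu, hg2 ▸ Set.smul_mem_smul_set hv⟩
  have hL4 : ∀ n ∈ N, ∀ x : Ω, n • x = x → ∀ g : G, x ∈ g • D → ∀ y ∈ g • D, n • y ∈ g • D := by
    intro n hn x hnx g hx y hy
    exact (hD.smul g) n hn x hx (by rw [hnx]; exact hx) y hy
  have hL5 : ∀ n ∈ N, ∀ x y : Ω, x ≠ y → n • x = x → n • y = y → ∀ g : G, x ∈ g • D → y ∈ g • D →
      ∀ z : Ω, z ∉ g • D → n • z = z := by
    intro n hn x y hxy hnx hny g hx hy z hz
    by_contra hnz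
    have hzx : x ≠ z := fun h => hz (h ▸ hx)
    have hzy : y ≠ z := fun h => hz (h ▸ hy)
    obtain ⟨g1, h1x, h1z⟩ := hL3 x z hzx
    obtain ⟨g2, h2y, h2z⟩ := hL3 y z hzy
    have h1nz := hL4 n hn x hnx g1 h1x z h1z
    have h2nz := hL4 n hn y hny g2 h2y z h2z
    have e12 := hL2 g1 g2 (n • z) z hnz h1nz h1z h2nz h2z
    have e1g := hL2 g1 g x y hxy h1x (e12 ▸ h2y) hx hy
    exact hz (e1g ▸ h1z)
  have hL6 : ∀ n ∈ N, ∀ x y : Ω, x ≠ y → n • x = x → n • y = y → n = 1 := by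
    intro n hn x y hxy hnx hny
    obtain ⟨g, hx, hy⟩ := hL3 x y hxy
    obtain ⟨z, hz⟩ : ∃ z, z ∉ g • D := by
      by_contra hcon2
      push_neg at hcon2
      exact hLne g (Set.eq_univ_iff_forall.2 hcon2)
    have hnz := hL5 n hn x y hxy hnx hny g hx hy z hz
    have hxz : x ≠ z := fun h => hz (h ▸ hx)
    obtain ⟨g', hx', hz'⟩ := hL3 x z hxz
    apply FaithfulSMul.eq_of_smul_eq_smul (α := Ω)
    intro w
    rw [one_smul]
    by_cases hw : w ∈ g • D
    · by_cases hwx : w = x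
      · rw [hwx, hnx]
      · apply hL5 n hn x z hxz hnx hnz g' hx' hz' w
        intro hw'
        have := hL2 g' g x w (Ne.symm hwx) hx' hw' hx hw
        exact hz (this ▸ hz')
    · exact hL5 n hn x y hxy hnx hny g hx hy w hw
  -- Frobenius
  haveI : IsPretransitive ↥N Ω := ⟨fun x y => by
    obtain ⟨n, hn, hnx⟩ := trans_of_two h2 hNbot x y
    exact ⟨⟨n, hn⟩, hnx⟩⟩
  have hF2 : ∀ x : ↥N, ∀ b c : Ω, b ≠ c → x • b = b → x • c = c → x = 1 := by
    intro x b c hbc hb hc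
    exact Subtype.ext (hL6 x x.2 b c hbc hb hc)
  have hstab : stabilizer ↥N a ≠ ⊥ := by
    intro h
    have : (⟨n0, hn0⟩ : ↥N) ∈ stabilizer ↥N a := hn0a
    rw [h, Subgroup.mem_bot] at this
    exact hn01 (congrArg Subtype.val this)
  obtain ⟨b0, hb0⟩ := exists_moved (Ω := Ω) hn01
  have hΔ : ∃ c : Ω, c ≠ a := by
    by_cases h : b0 = a
    · exact absurd (h ▸ hn0a) hb0
    · exact ⟨b0, h⟩
  obtain ⟨K, hKn, hKmem, hKtr⟩ := Cfsg.Agent.S0339.frobenius_action hF2 a hstab hΔ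
  have hK'n : (K.map N.subtype).Normal := by
    refine ⟨fun k hk g => ?_⟩
    obtain ⟨k0, hk0, rfl⟩ := hk
    have hmem : g * (k0 : G) * g⁻¹ ∈ N := ‹N.Normal›.conj_mem _ k0.2 g
    refine ⟨⟨_, hmem⟩, ?_, rfl⟩
    rw [SetLike.mem_coe, hKmem] at hk0 ⊢
    rcases hk0 with h1 | hfpf
    · left
      apply Subtype.ext
      simp [h1]
    · right
      intro c hc
      apply hfpf (g⁻¹ • c)
      have hc' : (g * (k0 : G) * g⁻¹) • c = c := hc
      change (k0 : G) • g⁻¹ • c = g⁻¹ • c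
      rw [mul_smul, mul_smul] at hc'
      rw [eq_inv_smul_iff]
      exact hc'
  rcases hmin _ hK'n (Subgroup.map_subtype_le K) with h | h
  · obtain ⟨c, hc⟩ := hΔ
    obtain ⟨k, hk, hkc⟩ := hKtr a c
    have : (k : G) ∈ K.map N.subtype := ⟨k, hk, rfl⟩
    rw [h, Subgroup.mem_bot] at this
    have hk1 : k = 1 := Subtype.ext this
    rw [hk1, one_smul] at hkc
    exact hc hkc.symm
  · have : n0 ∈ K.map N.subtype := by rw [h]; exact hn0
    obtain ⟨k, hk, hk0⟩ := this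
    rw [SetLike.mem_coe, hKmem] at hk
    rcases hk with h1 | hfpf
    · apply hn01
      rw [← hk0, h1]
      rfl
    · apply hfpf a
      change (k : G) • a = a
      have : (k : G) = n0 := hk0
      rw [this, hn0a]

end abs

open MulAction
open scoped Pointwise

lemma count_of_stab {H X : Type*} [Group H] [MulAction H X] [Finite H] [Finite X] (s : ℕ)
    (hs : ∀ x : X, Nat.card (stabilizer H x) = s) : Nat.card H ∣ s * Nat.card X := by
  classical
  haveI : Fintype (Quotient (orbitRel H X)) := Fintype.ofFinite _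
  have e := selfEquivSigmaOrbitsQuotientStabilizer H X
  rw [Nat.card_congr e, Nat.card_sigma, Finset.mul_sum]
  apply Finset.dvd_sum
  intro ω _
  have h1 := Subgroup.index_mul_card (stabilizer H (Quotient.out ω))
  rw [hs] at h1
  rw [← Subgroup.index_eq_card, mul_comm, h1]

lemma count_of_stab' {G Ω : Type*} [Group G] [MulAction G Ω] [Finite G] [Finite Ω]
    (A : Subgroup G) (S : Set Ω) (hS : ∀ g ∈ A, ∀ x ∈ S, g • x ∈ S) (s : ℕ)
    (hs : ∀ x ∈ S, Nat.card {g : G // g ∈ A ∧ g • x = x} = s) :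
    Nat.card A ∣ s * S.ncard := by
  let T : SubMulAction ↥A Ω := { carrier := S, smul_mem' := fun g x hx => hS g g.2 x hx }
  have h := count_of_stab (H := ↥A) (X := ↥T) s (by
    intro x
    rw [← hs x.1 x.2]
    rw [SubMulAction.stabilizer_of_subMul]
    refine Nat.card_congr ⟨fun g => ⟨g.1.1, g.1.2, g.2⟩, fun g => ⟨⟨g.1, g.2.1⟩, g.2.2⟩, ?_, ?_⟩
    · intro g; rfl
    · intro g; rfl)
  have : Nat.card ↥T = S.ncard := rfl
  rwa [this] at h


open MulAction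
open scoped Pointwise

section abs
variable {G Ω : Type*} [Group G] [MulAction G Ω]

/-- `M` is a subgroup of `N` normalized by `N`. -/
def NNorm (N M : Subgroup G) : Prop := M ≤ N ∧ ∀ n ∈ N, ∀ m ∈ M, n * m * n⁻¹ ∈ M

lemma NNorm.inv_conj {N M : Subgroup G} (h : NNorm N M) {n m : G} (hn : n ∈ N) (hm : m ∈ M) :
    n⁻¹ * m * n ∈ M := by
  have := h.2 n⁻¹ (N.inv_mem hn) m hm
  rwa [inv_inv] at this

lemma NNorm.inf {N M M' : Subgroup G} (h : NNorm N M) (h' : NNorm N M') : NNorm N (M ⊓ M') :=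
  ⟨inf_le_left.trans h.1, fun n hn m hm => ⟨h.2 n hn m hm.1, h'.2 n hn m hm.2⟩⟩

lemma NNorm.conj {N M : Subgroup G} [N.Normal] (h : NNorm N M) (g : G) :
    NNorm N (M.map (MulAut.conj g).toMonoidHom) := by
  constructor
  · rintro _ ⟨m, hm, rfl⟩
    exact ‹N.Normal›.conj_mem m (h.1 hm) g
  · rintro n hn _ ⟨m, hm, rfl⟩
    refine ⟨(g⁻¹ * n * g) * m * (g⁻¹ * n * g)⁻¹, h.2 _ ?_ m hm, ?_⟩
    · have := ‹N.Normal›.conj_mem n hn g⁻¹
      rwa [inv_inv] at this
    · simp only [MulEquiv.coe_toMonoidHom, MulAut.conj_apply]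
      group

lemma mem_conj_iff {M : Subgroup G} {g x : G} :
    x ∈ M.map (MulAut.conj g).toMonoidHom ↔ g⁻¹ * x * g ∈ M := by
  rw [Subgroup.mem_map_equiv]
  simp [MulAut.conj_symm_apply]

lemma card_conj [Finite G] (M : Subgroup G) (g : G) :
    Nat.card (M.map (MulAut.conj g).toMonoidHom) = Nat.card M :=
  Subgroup.card_map_of_injective (MulAut.conj g).injective

lemma semireg_of_comm [FaithfulSMul G Ω] (T : Subgroup G)
    (hT : ∀ x y : Ω, ∃ t ∈ T, t • x = y) (y : G) (hy : ∀ t ∈ T, y * t = t * y) (a : Ω)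
    (hya : y • a = a) : y = 1 := by
  apply FaithfulSMul.eq_of_smul_eq_smul (α := Ω)
  intro x
  obtain ⟨t, ht, rfl⟩ := hT a x
  rw [one_smul, ← mul_smul, hy t ht, mul_smul, hya]

lemma trans_of_nnorm [FaithfulSMul G Ω] {N : Subgroup G}
    (hNtr : ∀ x y : Ω, ∃ n ∈ N, n • x = y)
    (hprim : ∀ B : Set Ω, IsBlk N B → B.Subsingleton ∨ B = Set.univ)
    {M : Subgroup G} (hM : NNorm N M) (hMbot : M ≠ ⊥) (x y : Ω) : ∃ m ∈ M, m • x = y := by
  set B : Set Ω := {z | ∃ m ∈ M, m • x = z} with hBdef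
  have hB : IsBlk N B := by
    rintro n hn _ ⟨m, hm, rfl⟩ ⟨m₁, hm₁, e₁⟩ _ ⟨m₂, hm₂, rfl⟩
    refine ⟨(n * (m₂ * m⁻¹) * n⁻¹) * m₁, M.mul_mem (hM.2 n hn _ (M.mul_mem hm₂ (M.inv_mem hm))) hm₁, ?_⟩
    rw [mul_smul, e₁]
    simp only [← mul_smul]
    congr 1
    group
  rcases hprim B hB with hs | hu
  · exfalso
    apply hMbot
    rw [Subgroup.eq_bot_iff_forall]
    intro m hm
    have hx : ∀ m ∈ M, m • x = x := by
      intro m hm
      exact hs ⟨m, hm, rfl⟩ ⟨1, M.one_mem, one_smul _ _⟩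
    apply FaithfulSMul.eq_of_smul_eq_smul (α := Ω)
    intro z
    obtain ⟨n, hn, rfl⟩ := hNtr x z
    rw [one_smul]
    have := hx _ (hM.inv_conj hn hm)
    rw [mul_smul, mul_smul, inv_smul_eq_iff] at this
    exact this
  · have : y ∈ B := hu ▸ Set.mem_univ y
    exact this

lemma simple_of_prim [FaithfulSMul G Ω] [Finite G] [Finite Ω] {N : Subgroup G} [N.Normal]
    (h2 : TwoTr G Ω)
    (hmin : ∀ M : Subgroup G, M.Normal → M ≤ N → M = ⊥ ∨ M = N)
    (hprim : ∀ B : Set Ω, IsBlk N B → B.Subsingleton ∨ B = Set.univ)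
    (a : Ω) (n0 : G) (hn0 : n0 ∈ N) (hn01 : n0 ≠ 1) (hn0a : n0 • a = a)
    (M0 : Subgroup G) (hM0 : NNorm N M0) : M0 = ⊥ ∨ M0 = N := by
  by_contra hcon
  push_neg at hcon
  have hNbot : N ≠ ⊥ := fun h => hn01 ((Subgroup.mem_bot).1 (h ▸ hn0))
  have hNtr := trans_of_two h2 hNbot
  have hex : ∃ k : ℕ, ∃ M : Subgroup G, NNorm N M ∧ M ≠ ⊥ ∧ M ≠ N ∧ Nat.card M = k :=
    ⟨_, M0, hM0, hcon.1, hcon.2, rfl⟩
  classical
  obtain ⟨M, hM, hMbot, hMN, hMk⟩ := Nat.find_spec hex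
  have hMmin : ∀ M₁ : Subgroup G, NNorm N M₁ → M₁ ≠ ⊥ → M₁ ≠ N → Nat.card M ≤ Nat.card M₁ := by
    intro M₁ h1 h2' h3
    rw [hMk]
    exact Nat.find_min' hex ⟨M₁, h1, h2', h3, rfl⟩
  -- disjointness lemma
  have hdisj : ∀ M₁ : Subgroup G, NNorm N M₁ → Nat.card M₁ = Nat.card M → M₁ ≠ M → M ⊓ M₁ = ⊥ := by
    intro M₁ h1 hc hne
    by_contra hb
    have hnN : M ⊓ M₁ ≠ N := by
      intro h
      apply hMN
      exact le_antisymm hM.1 (h ▸ inf_le_left)
    have hle := hMmin _ (hM.inf h1) hb hnN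
    have e1 : M ⊓ M₁ = M := Subgroup.eq_of_le_of_card_ge inf_le_left hle
    have hMM₁ : M ≤ M₁ := e1 ▸ inf_le_right
    exact hne (Subgroup.eq_of_le_of_card_ge hMM₁ hc.le).symm
  have hcomm : ∀ M₁ : Subgroup G, NNorm N M₁ → M ⊓ M₁ = ⊥ → ∀ m ∈ M, ∀ m₁ ∈ M₁, m * m₁ = m₁ * m := by
    intro M₁ h1 hb m hm m₁ hm₁
    have hmem : m * m₁ * m⁻¹ * m₁⁻¹ ∈ M ⊓ M₁ := by
      constructor
      · have := hM.2 m₁ (h1.1 hm₁) m⁻¹ (M.inv_mem hm)
        have := M.mul_mem hm this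
        have e : m * m₁ * m⁻¹ * m₁⁻¹ = m * (m₁ * m⁻¹ * m₁⁻¹) := by group
        rw [e]
        exact this
      · have := h1.2 m (hM.1 hm) m₁ hm₁
        exact M₁.mul_mem this (M₁.inv_mem hm₁)
    rw [hb, Subgroup.mem_bot] at hmem
    have : m * m₁ = (m * m₁ * m⁻¹ * m₁⁻¹) * (m₁ * m) := by group
    rw [this, hmem, one_mul]
  -- M is not normal in G
  have hnotnormal : ¬ M.Normal := by
    intro h
    rcases hmin M h hM.1 with h | h
    · exact hMbot h
    · exact hMN h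
  obtain ⟨g, hg⟩ : ∃ g : G, M.map (MulAut.conj g).toMonoidHom ≠ M := by
    by_contra hall
    push_neg at hall
    apply hnotnormal
    refine ⟨fun m hm g => ?_⟩
    rw [← hall g]
    exact ⟨m, hm, rfl⟩
  set M' := M.map (MulAut.conj g).toMonoidHom with hM'def
  have hM' : NNorm N M' := hM.conj g
  have hM'card : Nat.card M' = Nat.card M := card_conj M g
  have hMM' : M ⊓ M' = ⊥ := hdisj M' hM' hM'card hg
  have hcMM' := hcomm M' hM' hMM'
  have hM'bot : M' ≠ ⊥ := by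
    intro h
    apply hMbot
    rw [← Subgroup.card_eq_one] at h ⊢
    rw [← hM'card, h]
  have hMtr := trans_of_nnorm hNtr hprim hM hMbot
  have hM'tr := trans_of_nnorm hNtr hprim hM' hM'bot
  have hMsr : ∀ m ∈ M, ∀ x : Ω, m • x = x → m = 1 := fun m hm x hx =>
    semireg_of_comm M' hM'tr m (fun t ht => hcMM' m hm t ht) x hx
  have hM'sr : ∀ m ∈ M', ∀ x : Ω, m • x = x → m = 1 := fun m hm x hx =>
    semireg_of_comm M hMtr m (fun t ht => (hcMM' t ht m hm).symm) x hx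
  -- conjugates of M
  have hconjs : ∀ g₁ : G, M.map (MulAut.conj g₁).toMonoidHom = M ∨
      M.map (MulAut.conj g₁).toMonoidHom = M' := by
    intro g₁
    by_cases h : M.map (MulAut.conj g₁).toMonoidHom = M
    · exact Or.inl h
    right
    set M₁ := M.map (MulAut.conj g₁).toMonoidHom with hM₁def
    have h1 : NNorm N M₁ := hM.conj g₁
    have hc1 : Nat.card M₁ = Nat.card M := card_conj M g₁
    have hb := hdisj M₁ h1 hc1 h
    have hc := hcomm M₁ h1 hb
    have hle : M₁ ≤ M' := by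
      intro x hx
      obtain ⟨m', hm', e⟩ := hM'tr a (x • a)
      have hy : m'⁻¹ * x = 1 := by
        apply semireg_of_comm M hMtr _ _ a
        · rw [mul_smul, ← e, inv_smul_smul]
        · intro t ht
          rw [mul_assoc, ← hc t ht x hx, ← mul_assoc, ← mul_assoc]
          congr 1
          have := hcMM' t ht m' hm'
          rw [inv_mul_eq_iff_eq_mul, ← mul_assoc, ← this, mul_assoc, mul_inv_cancel, mul_one]
      rw [inv_mul_eq_one] at hy
      rw [← hy]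
      exact hm'
    exact Subgroup.eq_of_le_of_card_ge hle (by rw [hc1, hM'card])
  -- the product subgroup
  let H : Subgroup G :=
    { carrier := {x | ∃ m ∈ M, ∃ m' ∈ M', x = m * m'}
      mul_mem' := by
        rintro _ _ ⟨m₁, h1, m₁', h1', rfl⟩ ⟨m₂, h2', m₂', h2'', rfl⟩
        refine ⟨m₁ * m₂, M.mul_mem h1 h2', m₁' * m₂', M'.mul_mem h1' h2'', ?_⟩
        rw [mul_assoc, ← mul_assoc m₁' m₂, ← hcMM' m₂ h2' m₁' h1']
        group
      one_mem' := ⟨1, M.one_mem, 1, M'.one_mem, by rw [one_mul]⟩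
      inv_mem' := by
        rintro _ ⟨m, hm, m', hm', rfl⟩
        refine ⟨m⁻¹, M.inv_mem hm, m'⁻¹, M'.inv_mem hm', ?_⟩
        rw [mul_inv_rev, hcMM' _ (M.inv_mem hm) _ (M'.inv_mem hm')] }
  have hHmem : ∀ x, x ∈ H ↔ ∃ m ∈ M, ∃ m' ∈ M', x = m * m' := fun x => Iff.rfl
  have hMH : M ≤ H := fun m hm => ⟨m, hm, 1, M'.one_mem, by rw [mul_one]⟩
  have hM'H : M' ≤ H := fun m hm => ⟨1, M.one_mem, m, hm, by rw [one_mul]⟩
  have hHN : H ≤ N := by
    rintro _ ⟨m, hm, m', hm', rfl⟩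
    exact N.mul_mem (hM.1 hm) (hM'.1 hm')
  have hHnormal : H.Normal := by
    refine ⟨fun x hx g₁ => ?_⟩
    obtain ⟨m, hm, m', hm', rfl⟩ := hx
    have e : g₁ * (m * m') * g₁⁻¹ = (g₁ * m * g₁⁻¹) * (g₁ * m' * g₁⁻¹) := by group
    rw [e]
    apply H.mul_mem
    · have hmem : g₁ * m * g₁⁻¹ ∈ M.map (MulAut.conj g₁).toMonoidHom := ⟨m, hm, rfl⟩
      rcases hconjs g₁ with h | h
      · exact hMH (h ▸ hmem)
      · exact hM'H (h ▸ hmem)
    · obtain ⟨m₀, hm₀, rfl⟩ := hm'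
      have hmem : g₁ * (g * m₀ * g⁻¹) * g₁⁻¹ ∈ M.map (MulAut.conj (g₁ * g)).toMonoidHom := by
        refine ⟨m₀, hm₀, ?_⟩
        simp only [MulEquiv.coe_toMonoidHom, MulAut.conj_apply]
        group
      simp only [MulEquiv.coe_toMonoidHom, MulAut.conj_apply]
      rcases hconjs (g₁ * g) with h | h
      · exact hMH (h ▸ hmem)
      · exact hM'H (h ▸ hmem)
  have hHeq : H = N := by
    rcases hmin H hHnormal hHN with h | h
    · exfalso
      apply hMbot
      rw [eq_bot_iff, ← h]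
      exact hMH
    · exact h
  -- cardinalities
  have hcardM : Nat.card M = Nat.card Ω := by
    apply Nat.card_eq_of_bijective (fun m : M => (m : G) • a)
    constructor
    · intro m₁ m₂ h
      have h' : (m₁ : G) • a = (m₂ : G) • a := h
      have : (m₂ : G)⁻¹ * m₁ = 1 := by
        apply hMsr _ (M.mul_mem (M.inv_mem m₂.2) m₁.2) a
        rw [mul_smul, h', inv_smul_smul]
      rw [inv_mul_eq_one] at this
      exact (Subtype.ext this).symm
    · intro x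
      obtain ⟨m, hm, e⟩ := hMtr a x
      exact ⟨⟨m, hm⟩, e⟩
  set A : Subgroup G := N ⊓ stabilizer G a with hAdef
  have hAmem : ∀ x, x ∈ A ↔ x ∈ N ∧ x • a = a := fun x => by
    rw [hAdef, Subgroup.mem_inf, mem_stabilizer_iff]
  have hcardA : Nat.card A = Nat.card M := by
    symm
    have hch : ∀ m : M, ∃ m' ∈ M', m' • a = (m : G)⁻¹ • a := fun m => hM'tr a _
    choose f hf hfa using hch
    apply Nat.card_eq_of_bijective (fun m : M => (⟨(m : G) * f m, by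
      rw [hAmem]
      refine ⟨N.mul_mem (hM.1 m.2) (hM'.1 (hf m)), ?_⟩
      rw [mul_smul, hfa, smul_inv_smul]⟩ : A))
    constructor
    · intro m₁ m₂ h
      have h' : (m₁ : G) * f m₁ = (m₂ : G) * f m₂ := congrArg Subtype.val h
      have hmem : (m₂ : G)⁻¹ * m₁ ∈ M ⊓ M' := by
        refine ⟨M.mul_mem (M.inv_mem m₂.2) m₁.2, ?_⟩
        have : (m₂ : G)⁻¹ * m₁ = f m₂ * (f m₁)⁻¹ := by
          rw [inv_mul_eq_iff_eq_mul, ← mul_assoc, ← h', mul_assoc, mul_inv_cancel, mul_one]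
        rw [this]
        exact M'.mul_mem (hf _) (M'.inv_mem (hf _))
      rw [hMM', Subgroup.mem_bot, inv_mul_eq_one] at hmem
      exact (Subtype.ext hmem).symm
    · intro x
      have hxA := (hAmem x).1 x.2
      have hxH : (x : G) ∈ H := hHeq ▸ hxA.1
      obtain ⟨m, hm, m', hm', e⟩ := hxH
      refine ⟨⟨m, hm⟩, Subtype.ext ?_⟩
      change m * f ⟨m, hm⟩ = x
      rw [e]
      congr 1
      have h1 : m' • a = m⁻¹ • a := by
        rw [eq_inv_smul_iff, ← mul_smul, ← e, hxA.2]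
      have : (f ⟨m, hm⟩)⁻¹ * m' = 1 := by
        apply hM'sr _ (M'.mul_mem (M'.inv_mem (hf _)) hm') a
        rw [mul_smul, h1, ← hfa ⟨m, hm⟩, inv_smul_smul]
      rw [inv_mul_eq_one] at this
      exact this
  -- counting
  have hkey : ∀ b : Ω, b ≠ a → ∀ x ∈ A, x • b = b := by
    intro b hb
    set s := Nat.card {x : G // x ∈ A ∧ x • b = b} with hsdef
    have hs : ∀ c ∈ ({a}ᶜ : Set Ω), Nat.card {x : G // x ∈ A ∧ x • c = c} = s := by
      intro c hc
      have hc' : c ≠ a := hc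
      obtain ⟨g₁, hg1, hg2⟩ := h2 a c a b (Ne.symm hc') (Ne.symm hb)
      have hg1' : g₁⁻¹ • a = a := by rw [inv_smul_eq_iff, hg1]
      have hg2' : g₁⁻¹ • b = c := by rw [inv_smul_eq_iff, hg2]
      refine Nat.card_congr ⟨fun x => ⟨g₁ * x.1 * g₁⁻¹, ?_, ?_⟩, fun x => ⟨g₁⁻¹ * x.1 * g₁, ?_, ?_⟩, ?_, ?_⟩
      · rw [hAmem]
        have hx := (hAmem _).1 x.2.1
        refine ⟨‹N.Normal›.conj_mem _ hx.1 g₁, ?_⟩
        rw [mul_smul, mul_smul, hg1', hx.2, hg1]
      · rw [mul_smul, mul_smul, hg2', x.2.2, hg2]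
      · rw [hAmem]
        have hx := (hAmem _).1 x.2.1
        refine ⟨?_, ?_⟩
        · have := ‹N.Normal›.conj_mem _ hx.1 g₁⁻¹
          rwa [inv_inv] at this
        · rw [mul_smul, mul_smul, hg1, hx.2, hg1']
      · rw [mul_smul, mul_smul, hg2, x.2.2, hg2']
      · intro x
        apply Subtype.ext
        simp only
        group
      · intro x
        apply Subtype.ext
        simp only
        group
    have hinv : ∀ x ∈ A, ∀ c ∈ ({a}ᶜ : Set Ω), x • c ∈ ({a}ᶜ : Set Ω) := by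
      intro x hx c hc hxc
      apply hc
      have hxa := ((hAmem x).1 hx).2
      have : x • c = x • a := by rw [hxa]; exact hxc
      exact MulAction.injective x this
    have hdvd := count_of_stab' A ({a}ᶜ : Set Ω) hinv s hs
    rw [Set.ncard_compl, Set.ncard_singleton, hcardA, hcardM] at hdvd
    have hpos : 0 < Nat.card Ω := Nat.card_pos_iff.2 ⟨⟨a⟩, inferInstance⟩
    have hcop : Nat.Coprime (Nat.card Ω) (Nat.card Ω - 1) := by
      obtain ⟨k, hk⟩ : ∃ k, Nat.card Ω = k + 1 := ⟨Nat.card Ω - 1, by omega⟩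
      rw [hk]
      simp
    have hdvd' : Nat.card Ω ∣ s := (Nat.Coprime.dvd_mul_right hcop).1 hdvd
    have hinj : Function.Injective (fun x : {x : G // x ∈ A ∧ x • b = b} => (⟨x.1, x.2.1⟩ : A)) := by
      intro x y h
      have h' : x.1 = y.1 := congrArg (fun z : A => (z : G)) h
      exact Subtype.ext h'
    have hs1 : 0 < s := Nat.card_pos_iff.2 ⟨⟨⟨1, A.one_mem, one_smul _ _⟩⟩, inferInstance⟩
    have hle : Nat.card A ≤ s := by
      rw [hcardA, hcardM]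
      exact Nat.le_of_dvd hs1 hdvd'
    have hbij := hinj.bijective_of_nat_card_le hle
    intro x hx
    obtain ⟨y, hy⟩ := hbij.2 ⟨x, hx⟩
    have : y.1 = x := congrArg Subtype.val hy
    rw [← this]
    exact y.2.2
  apply hn01
  apply FaithfulSMul.eq_of_smul_eq_smul (α := Ω)
  intro b
  rw [one_smul]
  by_cases hb : b = a
  · rw [hb, hn0a]
  · exact hkey b hb n0 ((hAmem n0).2 ⟨hn0, hn0a⟩)

end abs

/-- Burnside's Theorem on doubly transitive groups: a minimal normal subgroup of a finite doubly transitive permutation group is elementary abelian and regular, or simple and primitive. -/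
theorem result {α : Type*} [Fintype α] [DecidableEq α] (G : Subgroup (Equiv.Perm α)) (hG : MulAction.IsMultiplyPretransitive G α 2) (N : Subgroup G) [N.Normal] (hN : N ≠ ⊥) (hmin : ∀ M : Subgroup G, M.Normal → M ≤ N → M = ⊥ ∨ M = N) : (IsMulCommutative N ∧ (∃ p : ℕ, p.Prime ∧ ∀ n ∈ N, n ^ p = 1) ∧ ∀ a : α, MulAction.stabilizer N a = ⊥) ∨ (IsSimpleGroup N ∧ MulAction.IsPreprimitive N α) := by
  have h2 : TwoTr ↥G α := by
    intro a b c d hab hcd
    exact (MulAction.is_two_pretransitive_iff (G := ↥G) (α := α)).1 hG hab hcd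
  by_cases hreg : ∀ n ∈ N, ∀ a : α, n • a = a → n = 1
  · left
    obtain ⟨hcomm, p, hp, hpow⟩ := regular_case h2 hN hreg
    refine ⟨⟨⟨fun x y => Subtype.ext (hcomm x x.2 y y.2)⟩⟩, ⟨p, hp, hpow⟩, ?_⟩
    intro a
    rw [Subgroup.eq_bot_iff_forall]
    intro x hx
    exact Subtype.ext (hreg x x.2 a hx)
  · right
    push_neg at hreg
    obtain ⟨n0, hn0, a, hn0a, hn01⟩ := hreg
    have hprim := prim_of_nonregular h2 hmin a n0 hn0 hn01 hn0a
    have hsimple := simple_of_prim h2 hmin hprim a n0 hn0 hn01 hn0a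
    constructor
    · haveI : Nontrivial ↥N := (Subgroup.nontrivial_iff_ne_bot N).2 hN
      refine ⟨fun H hH => ?_⟩
      have hNN : NNorm N (H.map N.subtype) := by
        refine ⟨Subgroup.map_subtype_le H, ?_⟩
        rintro n hn _ ⟨h, hh, rfl⟩
        exact ⟨⟨n, hn⟩ * h * ⟨n, hn⟩⁻¹, hH.conj_mem h hh ⟨n, hn⟩, rfl⟩
      rcases hsimple _ hNN with h | h
      · left
        exact (Subgroup.map_eq_bot_iff_of_injective H N.subtype_injective).1 h
      · right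
        rw [eq_top_iff]
        intro x _
        have : (x : ↥G) ∈ H.map N.subtype := by rw [h]; exact x.2
        obtain ⟨y, hy, e⟩ := this
        have : y = x := Subtype.ext e
        exact this ▸ hy
    · have hNtr := trans_of_two h2 hN
      haveI : IsPretransitive ↥N α := ⟨fun x y => by
        obtain ⟨n, hn, hnx⟩ := hNtr x y
        exact ⟨⟨n, hn⟩, hnx⟩⟩
      refine ⟨fun {B} hB => ?_⟩
      apply hprim B
      intro n hn x hx hnx y hy
      rw [MulAction.isBlock_iff_smul_eq_of_mem] at hB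
      have := hB (g := ⟨n, hn⟩) hx hnx
      rw [← this]
      exact Set.smul_mem_smul_set (a := (⟨n, hn⟩ : ↥N)) hy

end Cfsg.Agent.S0700
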