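import Cfsg.Statements.S0701
import Mathlib

set_option autoImplicit false
open Cfsg

namespace Cfsg.Agent.S0701

/-- The centraliser in the full symmetric group of a transitive permutation group `G` is semiregular, and it is transitive if and only if `G` is regular. -/
theorem result {α : Type*} (G : Subgroup (Equiv.Perm α)) [MulAction.IsPretransitive G α] : (∀ c ∈ Subgroup.centralizer (G : Set (Equiv.Perm α)), ∀ a : α, c a = a → c = 1) ∧ (MulAction.IsPretransitive (Subgroup.centralizer (G : Set (Equiv.Perm α))) α ↔ ∀ a : α, MulAction.stabilizer G a = ⊥) := by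
  classical
  have hcomm : ∀ c ∈ Subgroup.centralizer (G : Set (Equiv.Perm α)), ∀ g : G, ∀ x : α,
      c ((g : Equiv.Perm α) x) = (g : Equiv.Perm α) (c x) := by
    intro c hc g x
    have h1 := Subgroup.mem_centralizer_iff.1 hc (g : Equiv.Perm α) g.2
    have h2 := congrArg (fun f : Equiv.Perm α => f x) h1
    simpa [Equiv.Perm.mul_apply] using h2.symm
  refine ⟨?_, ?_, ?_⟩
  · intro c hc a hca
    ext x
    obtain ⟨g, hg⟩ := MulAction.exists_smul_eq G a x
    have hg' : (g : Equiv.Perm α) a = x := hg
    rw [← hg', hcomm c hc g a, hca]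
    rfl
  · intro htr a
    rw [Subgroup.eq_bot_iff_forall]
    intro g hg
    have hga : (g : Equiv.Perm α) a = a := hg
    apply Subtype.ext
    apply Equiv.ext
    intro x
    obtain ⟨c, hc⟩ := MulAction.exists_smul_eq (Subgroup.centralizer (G : Set (Equiv.Perm α))) a x
    have hc' : (c : Equiv.Perm α) a = x := hc
    rw [← hc', ← hcomm c c.2 g a, hga]
    rfl
  · intro hreg
    -- uniqueness of the group element moving `x` to `z`
    have huniq : ∀ (x : α) (g h : G), (g : Equiv.Perm α) x = (h : Equiv.Perm α) x → g = h := by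
      intro x g h hgh
      have : h⁻¹ * g ∈ MulAction.stabilizer G x := by
        show ((h⁻¹ * g : G) : Equiv.Perm α) x = x
        simp [Equiv.Perm.mul_apply, hgh]
      rw [hreg x, Subgroup.mem_bot] at this
      exact (inv_mul_eq_one.1 this).symm
    have hex : ∀ x z : α, ∃ g : G, (g : Equiv.Perm α) x = z :=
      fun x z => MulAction.exists_smul_eq G x z
    let f : α → α → α → α := fun x y z => ((Classical.choose (hex x z) : G) : Equiv.Perm α) y
    have hf : ∀ (x y z : α) (g : G), (g : Equiv.Perm α) x = z → f x y z = (g : Equiv.Perm α) y := by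
      intro x y z g hg
      have h1 : ((Classical.choose (hex x z) : G) : Equiv.Perm α) x = z := Classical.choose_spec (hex x z)
      have h2 : Classical.choose (hex x z) = g := huniq x _ _ (h1.trans hg.symm)
      show ((Classical.choose (hex x z) : G) : Equiv.Perm α) y = _
      rw [h2]
    have hinv : ∀ x y z : α, f y x (f x y z) = z := by
      intro x y z
      obtain ⟨g, hg⟩ := hex x z
      rw [hf x y z g hg, hf y x _ g rfl, hg]
    refine ⟨fun x y => ?_⟩
    let c : Equiv.Perm α := ⟨f x y, f y x, hinv x y, hinv y x⟩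
    have hc : c ∈ Subgroup.centralizer (G : Set (Equiv.Perm α)) := by
      rw [Subgroup.mem_centralizer_iff]
      intro h hh
      ext z
      obtain ⟨g, hg⟩ := hex x z
      show h (f x y z) = f x y (h z)
      rw [hf x y z g hg]
      have : ((⟨h, hh⟩ * g : G) : Equiv.Perm α) x = h z := by
        simp [Equiv.Perm.mul_apply, hg]
      rw [hf x y (h z) (⟨h, hh⟩ * g) this]
      simp [Equiv.Perm.mul_apply]
    refine ⟨⟨c, hc⟩, ?_⟩
    show f x y x = y
    rw [hf x y x 1 (by simp)]
    simp

end Cfsg.Agent.S0701
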