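import Cfsg.Statements.S0702
import Mathlib

set_option autoImplicit false
open Cfsg

namespace Cfsg.Agent.S0702

/-- For a transitive permutation group `G` on a finite set, the centraliser of `G` in the symmetric group is isomorphic to `N_G(G_ω)/G_ω`, and its orbit of `ω` is the set of fixed points of `G_ω`. -/
theorem result {α : Type*} [Finite α] (G : Subgroup (Equiv.Perm α)) [MulAction.IsPretransitive G α] (a : α) : Nonempty (Subgroup.centralizer (G : Set (Equiv.Perm α)) ≃* Subgroup.normalizer ((MulAction.stabilizer G a : Subgroup G) : Set G) ⧸ (MulAction.stabilizer G a).subgroupOf (Subgroup.normalizer ((MulAction.stabilizer G a : Subgroup G) : Set G))) ∧ MulAction.orbit (Subgroup.centralizer (G : Set (Equiv.Perm α))) a = MulAction.fixedPoints (MulAction.stabilizer G a) α := by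
  classical
  set K : Subgroup G := MulAction.stabilizer G a with hK
  set Nz : Subgroup G := Subgroup.normalizer (K : Set G) with hNz
  set C : Subgroup (Equiv.Perm α) := Subgroup.centralizer (G : Set (Equiv.Perm α)) with hC
  have hex : ∀ x : α, ∃ g : G, g • a = x := fun x => MulAction.exists_smul_eq G a x
  let rep : α → G := fun x => Classical.choose (hex x)
  have hrep : ∀ x, rep x • a = x := fun x => Classical.choose_spec (hex x)
  have hmemK : ∀ g : G, g ∈ K ↔ g • a = a := fun g => MulAction.mem_stabilizer_iff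
  let f : G → α → α := fun n x => (rep x * n⁻¹) • a
  -- the key well-definedness lemma
  have key : ∀ n ∈ Nz, ∀ g : G, f n (g • a) = (g * n⁻¹) • a := by
    intro n hn g
    show (rep (g • a) * n⁻¹) • a = (g * n⁻¹) • a
    have h1 : rep (g • a) • a = g • a := hrep _
    have hk : g⁻¹ * rep (g • a) ∈ K := by
      rw [hmemK, mul_smul, h1, inv_smul_smul]
    have hk' : n * (g⁻¹ * rep (g • a)) * n⁻¹ ∈ K := (Subgroup.mem_normalizer_iff.1 hn _).1 hk
    have h2 : rep (g • a) * n⁻¹ = (g * n⁻¹) * (n * (g⁻¹ * rep (g • a)) * n⁻¹) := by group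
    rw [h2, mul_smul, (hmemK _).1 hk']
  have hcommC : ∀ c ∈ C, ∀ g : G, ∀ x : α, c (g • x) = g • (c x) := by
    intro c hc g x
    have h1 := Subgroup.mem_centralizer_iff.1 hc (g : Equiv.Perm α) g.2
    have h2 := congrArg (fun p : Equiv.Perm α => p x) h1
    have h3 : c ((g : Equiv.Perm α) x) = (g : Equiv.Perm α) (c x) := by
      simpa [Equiv.Perm.mul_apply] using h2.symm
    exact h3
  have hfmul : ∀ n ∈ Nz, ∀ m ∈ Nz, ∀ x, f n (f m x) = f (n * m) x := by
    intro n hn m hm x
    obtain ⟨g, rfl⟩ := hex x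
    rw [key m hm g, key n hn (g * m⁻¹), key (n * m) (Nz.mul_mem hn hm) g]
    rw [show g * m⁻¹ * n⁻¹ = g * (n * m)⁻¹ by group]
  have hfone : ∀ x, f 1 x = x := by
    intro x
    obtain ⟨g, rfl⟩ := hex x
    rw [key 1 Nz.one_mem g]
    simp
  -- the permutation attached to `n`
  let perm : Nz → Equiv.Perm α := fun n =>
    { toFun := f n
      invFun := f n⁻¹
      left_inv := fun x => by
        rw [hfmul _ (Nz.inv_mem n.2) _ n.2, inv_mul_cancel, hfone]
      right_inv := fun x => by
        rw [hfmul _ n.2 _ (Nz.inv_mem n.2), mul_inv_cancel, hfone] }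
  have hpermC : ∀ n : Nz, perm n ∈ C := by
    intro n
    rw [hC, Subgroup.mem_centralizer_iff]
    intro h hh
    ext x
    obtain ⟨g, rfl⟩ := hex x
    show h (f n (g • a)) = f n (h (g • a))
    have h1 : h (g • a) = ((⟨h, hh⟩ : G) * g) • a := by rw [mul_smul]; rfl
    rw [h1, key n n.2 g, key n n.2 _]
    have h2 : h ((g * (n : G)⁻¹) • a) = (⟨h, hh⟩ : G) • ((g * (n : G)⁻¹) • a) := rfl
    rw [h2, ← mul_smul, mul_assoc]
  let φ : Nz →* C :=
    { toFun := fun n => ⟨perm n, hpermC n⟩
      map_one' := by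
        apply Subtype.ext
        ext x
        exact hfone x
      map_mul' := by
        intro n m
        apply Subtype.ext
        ext x
        exact (hfmul n n.2 m m.2 x).symm }
  have hφapply : ∀ (n : Nz) (x : α), ((φ n : C) : Equiv.Perm α) x = f n x := fun n x => rfl
  -- the kernel
  have hker : φ.ker = K.subgroupOf Nz := by
    ext n
    rw [MonoidHom.mem_ker, Subgroup.mem_subgroupOf]
    constructor
    · intro h1
      have h2 : ((φ n : C) : Equiv.Perm α) a = a := by rw [h1]; rfl
      rw [hφapply] at h2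
      have h3 := key n n.2 1
      rw [one_smul, one_mul] at h3
      rw [h3] at h2
      have : (n : G)⁻¹ ∈ K := (hmemK _).2 h2
      simpa using K.inv_mem this
    · intro hn
      apply Subtype.ext
      ext x
      obtain ⟨g, rfl⟩ := hex x
      show f n (g • a) = g • a
      rw [key n n.2 g, mul_smul, (hmemK _).1 (K.inv_mem hn)]
  -- elements of `C` come from the normalizer
  have hCN : ∀ c ∈ C, ∀ g₀ : G, g₀ • a = c a → g₀ ∈ Nz := by
    intro c hc g₀ hg₀
    have hcinv : c⁻¹ ∈ C := C.inv_mem hc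
    have h2 : g₀⁻¹ • a = c⁻¹ a := by
      have : c (g₀⁻¹ • a) = a := by rw [hcommC c hc, ← hg₀, inv_smul_smul]
      exact Equiv.Perm.eq_inv_iff_eq.2 this
    rw [hNz, Subgroup.mem_normalizer_iff]
    intro k
    constructor
    · intro hk
      rw [hmemK, mul_smul, mul_smul, h2, ← hcommC _ hcinv, (hmemK k).1 hk, ← h2, smul_inv_smul]
    · intro hk
      have h3 : k = g₀⁻¹ * (g₀ * k * g₀⁻¹) * g₀ := by group
      rw [h3, hmemK, mul_smul, mul_smul, hg₀, ← hcommC _ hc, (hmemK _).1 hk, ← hg₀, inv_smul_smul]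
  have hsurj : Function.Surjective φ := by
    rintro ⟨c, hc⟩
    obtain ⟨g₀, hg₀⟩ := hex (c a)
    have hg₀N : g₀ ∈ Nz := hCN c hc g₀ hg₀
    refine ⟨⟨g₀⁻¹, Nz.inv_mem hg₀N⟩, ?_⟩
    apply Subtype.ext
    ext x
    obtain ⟨g, rfl⟩ := hex x
    show f g₀⁻¹ (g • a) = c (g • a)
    rw [key _ (Nz.inv_mem hg₀N) g, inv_inv, mul_smul, hg₀, hcommC c hc]
  refine ⟨?_, ?_⟩
  · have e1 : Nz ⧸ φ.ker ≃* C := QuotientGroup.quotientKerEquivOfSurjective φ hsurj
    have e2 : Nz ⧸ φ.ker ≃* Nz ⧸ K.subgroupOf Nz := QuotientGroup.quotientMulEquivOfEq hker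
    exact ⟨e1.symm.trans e2⟩
  · ext x
    rw [MulAction.mem_orbit_iff, MulAction.mem_fixedPoints]
    constructor
    · rintro ⟨c, rfl⟩ k
      show (k : G) • ((c : Equiv.Perm α) a) = (c : Equiv.Perm α) a
      rw [← hcommC _ c.2, (hmemK _).1 k.2]
    · intro hx
      obtain ⟨g, rfl⟩ := hex x
      -- `g⁻¹ K g ≤ K`, hence equality by finiteness
      have hle : ∀ k ∈ K, g⁻¹ * k * g ∈ K := by
        intro k hk
        rw [hmemK, mul_smul, mul_smul]
        have := hx ⟨k, hk⟩
        have h4 : k • (g • a) = g • a := this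
        rw [h4, inv_smul_smul]
      have hgN : g⁻¹ ∈ Nz := by
        haveI : Finite (Equiv.Perm α) := inferInstance
        haveI : Finite G := inferInstance
        rw [hNz, Subgroup.mem_normalizer_iff]
        -- the conjugation map `k ↦ g⁻¹ k g` is an injective self-map of the finite set `K`
        let ψ : K → K := fun k => ⟨g⁻¹ * k * g, hle k k.2⟩
        have hψinj : Function.Injective ψ := by
          intro k₁ k₂ h12
          have h5 : g⁻¹ * (k₁ : G) * g = g⁻¹ * (k₂ : G) * g := congrArg Subtype.val h12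
          exact Subtype.ext (mul_left_cancel (mul_right_cancel h5))
        have hψsurj : Function.Surjective ψ := Finite.surjective_of_injective hψinj
        intro k
        constructor
        · intro hk
          have := hle k hk
          simpa using this
        · intro hk
          obtain ⟨k', hk'⟩ := hψsurj ⟨g⁻¹ * k * g⁻¹⁻¹, hk⟩
          have h6 : g⁻¹ * (k' : G) * g = g⁻¹ * k * g⁻¹⁻¹ := congrArg Subtype.val hk'
          rw [inv_inv] at h6
          have h7 : (k' : G) = k := mul_left_cancel (mul_right_cancel h6)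
          rw [← h7]; exact k'.2
      refine ⟨φ ⟨g⁻¹, hgN⟩, ?_⟩
      show f g⁻¹ a = g • a
      have := key g⁻¹ hgN 1
      rw [one_smul, one_mul, inv_inv] at this
      exact this

end Cfsg.Agent.S0702
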