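import Cfsg.Statements.S0705
import Mathlib

set_option autoImplicit false
open scoped Pointwise
open Cfsg

namespace Cfsg.Agent.S0705

/-- A generously `k`-transitive permutation group (every `(k+1)`-subset has its full symmetric group induced by the setwise stabiliser) of degree greater than `k` is `k`-transitive, and for a `k`-subset the setwise and pointwise stabilisers have the same orbits outside it. -/
theorem result {α : Type*} [Fintype α] [DecidableEq α] (G : Subgroup (Equiv.Perm α)) {k : ℕ} (hk : k < Fintype.card α) (hgen : ∀ s : Finset α, s.card = k + 1 → ∀ σ : Equiv.Perm ↥s, ∃ g ∈ G, ∀ x : ↥s, g (x : α) = σ x) : MulAction.IsMultiplyPretransitive G α k ∧ ∀ s : Finset α, s.card = k → ∀ a b : α, a ∉ s → b ∉ s → (∃ g ∈ G, g • s = s ∧ g a = b) → ∃ g ∈ G, (∀ x ∈ s, g x = x) ∧ g a = b := by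
  classical
  refine ⟨?_, ?_⟩
  · -- every permutation is induced by `G` on any `k`-tuple
    have hA : ∀ π : Equiv.Perm α, ∀ x : Fin k ↪ α, ∃ g ∈ G, ∀ i, g (x i) = π (x i) := by
      intro π
      induction π using Equiv.Perm.swap_induction_on with
      | one => exact fun x => ⟨1, G.one_mem, fun i => rfl⟩
      | swap_mul f a b hab ih =>
        intro x
        obtain ⟨g₂, hg₂, hg₂x⟩ := ih x
        -- the tuple `f ∘ x`
        let y : Fin k ↪ α := x.trans f.toEmbedding
        have hy : ∀ i, y i = f (x i) := fun i => rfl
        -- it suffices to realize the swap on `y`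
        suffices h : ∃ g₁ ∈ G, ∀ i, g₁ (y i) = Equiv.swap a b (y i) by
          obtain ⟨g₁, hg₁, hg₁y⟩ := h
          refine ⟨g₁ * g₂, G.mul_mem hg₁ hg₂, fun i => ?_⟩
          rw [Equiv.Perm.mul_apply, Equiv.Perm.mul_apply, hg₂x i, ← hy i, hg₁y i]
        let im : Finset α := Finset.univ.map y
        have him : im.card = k := by simp [im]
        have hmem : ∀ i, y i ∈ im := fun i => Finset.mem_map_of_mem _ (Finset.mem_univ i)
        by_cases ha : a ∈ im
        · -- choose the extra point
          obtain ⟨z, hz, hbS⟩ : ∃ z, z ∉ im ∧ b ∈ insert z im := by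
            by_cases hb : b ∈ im
            · have hlt : im.card < (Finset.univ : Finset α).card := by
                rw [him, Finset.card_univ]; exact hk
              obtain ⟨z, -, hz⟩ := Finset.exists_mem_notMem_of_card_lt_card hlt
              exact ⟨z, hz, Finset.mem_insert_of_mem hb⟩
            · exact ⟨b, hb, Finset.mem_insert_self _ _⟩
          let S : Finset α := insert z im
          have hS : S.card = k + 1 := by rw [Finset.card_insert_of_notMem hz, him]
          have haS : a ∈ S := Finset.mem_insert_of_mem ha
          have hpres : ∀ w : α, w ∈ S → Equiv.swap a b w ∈ S := by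
            intro w hw
            by_cases hwa : w = a
            · rw [hwa, Equiv.swap_apply_left]; exact hbS
            · by_cases hwb : w = b
              · rw [hwb, Equiv.swap_apply_right]; exact haS
              · rw [Equiv.swap_apply_of_ne_of_ne hwa hwb]; exact hw
          let σ : Equiv.Perm ↥S := (Equiv.swap a b).subtypePermOfFintype hpres
          obtain ⟨g₁, hg₁, hg₁S⟩ := hgen S hS σ
          refine ⟨g₁, hg₁, fun i => ?_⟩
          have := hg₁S ⟨y i, Finset.mem_insert_of_mem (hmem i)⟩
          rw [this]
          rfl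
        · by_cases hb : b ∈ im
          · let S : Finset α := insert a im
            have hS : S.card = k + 1 := by rw [Finset.card_insert_of_notMem ha, him]
            have haS : a ∈ S := Finset.mem_insert_self _ _
            have hbS : b ∈ S := Finset.mem_insert_of_mem hb
            have hpres : ∀ w : α, w ∈ S → Equiv.swap a b w ∈ S := by
              intro w hw
              by_cases hwa : w = a
              · rw [hwa, Equiv.swap_apply_left]; exact hbS
              · by_cases hwb : w = b
                · rw [hwb, Equiv.swap_apply_right]; exact haS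
                · rw [Equiv.swap_apply_of_ne_of_ne hwa hwb]; exact hw
            let σ : Equiv.Perm ↥S := (Equiv.swap a b).subtypePermOfFintype hpres
            obtain ⟨g₁, hg₁, hg₁S⟩ := hgen S hS σ
            refine ⟨g₁, hg₁, fun i => ?_⟩
            have := hg₁S ⟨y i, Finset.mem_insert_of_mem (hmem i)⟩
            rw [this]
            rfl
          · refine ⟨1, G.one_mem, fun i => ?_⟩
            have h1 : y i ≠ a := fun h => ha (h ▸ hmem i)
            have h2 : y i ≠ b := fun h => hb (h ▸ hmem i)
            rw [Equiv.swap_apply_of_ne_of_ne h1 h2]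
            rfl
    rw [MulAction.isMultiplyPretransitive_iff]
    intro x y
    haveI := Equiv.Perm.isMultiplyPretransitive α k
    obtain ⟨π, hπ⟩ := MulAction.exists_smul_eq (Equiv.Perm α) x y
    obtain ⟨g, hg, hgx⟩ := hA π x
    refine ⟨⟨g, hg⟩, ?_⟩
    ext i
    have h1 : (π • x) i = y i := by rw [hπ]
    rw [← h1]
    exact hgx i
  · intro s hs a b ha hb ⟨g, hg, hgs, hgab⟩
    have hgmem : ∀ x ∈ s, g x ∈ s := by
      intro x hx
      have : g • x ∈ g • s := (Finset.smul_mem_smul_finset_iff g).2 hx
      rw [hgs] at this
      exact this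
    have hginv : ∀ x ∈ s, g⁻¹ x ∈ s := by
      intro x hx
      have h1 : x ∈ g • s := by rw [hgs]; exact hx
      have := Finset.inv_smul_mem_iff.2 h1
      exact this
    let S : Finset α := insert b s
    have hS : S.card = k + 1 := by rw [Finset.card_insert_of_notMem hb, hs]
    let τ : Equiv.Perm α := Equiv.swap b (g⁻¹ b) * g⁻¹
    have hτs : ∀ x ∈ s, τ x = g⁻¹ x := by
      intro x hx
      show Equiv.swap b (g⁻¹ b) (g⁻¹ x) = g⁻¹ x
      have h1 : g⁻¹ x ≠ b := fun h => hb (h ▸ hginv x hx)
      have h2 : g⁻¹ x ≠ g⁻¹ b := fun h => hb ((g⁻¹).injective h ▸ hx)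
      exact Equiv.swap_apply_of_ne_of_ne h1 h2
    have hτb : τ b = b := by
      show Equiv.swap b (g⁻¹ b) (g⁻¹ b) = b
      exact Equiv.swap_apply_right _ _
    have hpres : ∀ w : α, w ∈ S → τ w ∈ S := by
      intro w hw
      rcases Finset.mem_insert.1 hw with rfl | hw
      · rw [hτb]; exact Finset.mem_insert_self _ _
      · rw [hτs w hw]; exact Finset.mem_insert_of_mem (hginv w hw)
    let σ : Equiv.Perm ↥S := τ.subtypePermOfFintype hpres
    obtain ⟨h, hh, hhS⟩ := hgen S hS σ
    refine ⟨h * g, G.mul_mem hh hg, ?_, ?_⟩
    · intro x hx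
      rw [Equiv.Perm.mul_apply]
      have h1 := hhS ⟨g x, Finset.mem_insert_of_mem (hgmem x hx)⟩
      rw [h1]
      show τ (g x) = x
      rw [hτs _ (hgmem x hx)]
      simp
    · rw [Equiv.Perm.mul_apply, hgab]
      have h1 := hhS ⟨b, Finset.mem_insert_self _ _⟩
      rw [h1]
      exact hτb

end Cfsg.Agent.S0705
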