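import Mathlib
import Cfsg.Statements.S0706
import Cfsg.Agent.S0705

set_option autoImplicit false
open Cfsg

namespace Cfsg.Agent.S0706

open Equiv MulAction Pointwise in
/-- In a generously `k`-transitive permutation group, for a prime `p ≤ k` and a `k`-set `Γ`, there are no `p` points outside `Γ` lying in distinct orbits of the pointwise stabiliser of `Γ` all of length prime to `p` (at most `p - 1` such orbits). -/
theorem result {α : Type*} [Fintype α] [DecidableEq α] (G : Subgroup (Equiv.Perm α)) {k : ℕ} (hk : k < Fintype.card α) (hgen : ∀ s : Finset α, s.card = k + 1 → ∀ σ : Equiv.Perm ↥s, ∃ g ∈ G, ∀ x : ↥s, g (x : α) = σ x) {p : ℕ} (hp : p.Prime) (hpk : p ≤ k) (Γ : Finset α) (hΓ : Γ.card = k) (f : Fin p → α) (hf : ∀ i, f i ∉ Γ) (hdist : ∀ i j, i ≠ j → f j ∉ MulAction.orbit (fixingSubgroup G (Γ : Set α)) (f i)) : ∃ i, p ∣ Nat.card (MulAction.orbit (fixingSubgroup G (Γ : Set α)) (f i)) := by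
  classical
  by_contra hcon
  push_neg at hcon
  have hpf : Fact p.Prime := ⟨hp⟩
  obtain ⟨hkt, horb⟩ := Cfsg.Agent.S0705.result G hk hgen
  -- the `p`-subset `Γ₁` and its complement `Γ₀` in `Γ`
  obtain ⟨Γ₁, hΓ₁Γ, hΓ₁c⟩ := Finset.exists_subset_card_eq (s := Γ) (n := p) (by rw [hΓ]; exact hpk)
  set Γ₀ := Γ \ Γ₁ with hΓ₀
  have hΓ₀c : Γ₀.card = k - p := by rw [hΓ₀, Finset.card_sdiff_of_subset hΓ₁Γ, hΓ, hΓ₁c]
  set Hs : Subgroup G := fixingSubgroup G (Γ : Set α) with hHs
  -- the group `E`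
  set E : Subgroup G := fixingSubgroup G (Γ₀ : Set α) ⊓ stabilizer G (Γ₁ : Set α) with hE
  have hmemE : ∀ g : G, g ∈ E ↔ (∀ x ∈ Γ₀, g • x = x) ∧ g • (Γ₁ : Set α) = (Γ₁ : Set α) := by
    intro g
    rw [hE, Subgroup.mem_inf, mem_fixingSubgroup_iff, mem_stabilizer_iff]
    constructor
    · rintro ⟨h1, h2⟩
      exact ⟨fun x hx => h1 x (by exact_mod_cast hx), h2⟩
    · rintro ⟨h1, h2⟩
      exact ⟨fun x hx => h1 x (by exact_mod_cast hx), h2⟩
  have hEΓ₁ : ∀ g : G, g ∈ E → ∀ x ∈ Γ₁, g • x ∈ Γ₁ := by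
    intro g hg x hx
    have h2 := ((hmemE g).1 hg).2
    have : g • x ∈ g • (Γ₁ : Set α) := Set.smul_mem_smul_set (by exact_mod_cast hx)
    rw [h2] at this
    exact_mod_cast this
  have hEΓ : ∀ g : G, g ∈ E → ∀ x, x ∈ Γ → g • x ∈ Γ := by
    intro g hg x hx
    by_cases hx1 : x ∈ Γ₁
    · exact hΓ₁Γ (hEΓ₁ g hg x hx1)
    · have hx0 : x ∈ Γ₀ := Finset.mem_sdiff.2 ⟨hx, hx1⟩
      rw [((hmemE g).1 hg).1 x hx0]
      exact hx
  have hEΓ' : ∀ g : G, g ∈ E → ∀ x, x ∉ Γ → g • x ∉ Γ := by
    intro g hg x hx hgx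
    have hg' : g⁻¹ ∈ E := E.inv_mem hg
    have := hEΓ g⁻¹ hg' _ hgx
    rw [inv_smul_smul] at this
    exact hx this
  have hHsE : Hs ≤ E := by
    intro g hg
    rw [hHs, mem_fixingSubgroup_iff] at hg
    rw [hmemE]
    refine ⟨fun x hx => hg x (by exact_mod_cast (Finset.mem_sdiff.1 hx).1), ?_⟩
    ext y
    constructor
    · rintro ⟨x, hx, rfl⟩
      show g • x ∈ (Γ₁ : Set α)
      rw [hg x (by exact_mod_cast hΓ₁Γ (by exact_mod_cast hx))]
      exact hx
    · intro hy
      exact ⟨y, hy, hg y (by exact_mod_cast hΓ₁Γ (by exact_mod_cast hy))⟩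
  -- `E`-orbits outside `Γ` are `Hs`-orbits
  have horbE : ∀ (u : G), u ∈ E → ∀ a : α, a ∉ Γ → u • a ∈ orbit Hs a := by
    intro u hu a ha
    have hb : u • a ∉ Γ := hEΓ' u hu a ha
    have hset : (u : Perm α) • Γ = Γ := by
      apply Finset.eq_of_subset_of_card_le
      · intro y hy
        obtain ⟨x, hx, rfl⟩ := Finset.mem_smul_finset.1 hy
        exact hEΓ u hu x hx
      · rw [Finset.card_smul_finset]
    obtain ⟨g, hgG, hgΓ, hga⟩ := horb Γ hΓ a (u • a) ha hb ⟨(u : Perm α), u.2, hset, rfl⟩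
    refine ⟨⟨⟨g, hgG⟩, ?_⟩, hga⟩
    rw [hHs, mem_fixingSubgroup_iff]
    intro y hy
    exact hgΓ y (by exact_mod_cast hy)
  -- a general fact: a group element mapping a finite set into itself stabilizes it
  have hstab : ∀ (g : G) (S : Finset α), (∀ x ∈ S, g • x ∈ S) → g • (S : Set α) = (S : Set α) := by
    intro g S h
    have h1 : (g : Perm α) • S = S := by
      apply Finset.eq_of_subset_of_card_le
      · intro y hy
        obtain ⟨x, hx, rfl⟩ := Finset.mem_smul_finset.1 hy
        exact h x hx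
      · rw [Finset.card_smul_finset]
    have h2 := congrArg (fun T : Finset α => (T : Set α)) h1
    simp only [Finset.coe_smul_finset] at h2
    exact h2
  have hp2 : 2 ≤ p := hp.two_le
  let i₀ : Fin p := ⟨0, hp.pos⟩
  -- Step 1: `p * |Hs|` divides `|E|`
  have hS1 : p * Nat.card Hs ∣ Nat.card E := by
    obtain ⟨γ₁, hγ₁⟩ : Γ₁.Nonempty := Finset.card_pos.1 (by omega)
    have horbit : orbit E γ₁ = (Γ₁ : Set α) := by
      ext γ
      constructor
      · rintro ⟨u, rfl⟩
        exact_mod_cast hEΓ₁ (u : G) u.2 γ₁ hγ₁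
      · intro hγ
        have hγ' : γ ∈ Γ₁ := by exact_mod_cast hγ
        have hs : (insert (f i₀) Γ).card = k + 1 := by
          rw [Finset.card_insert_of_notMem (hf i₀), hΓ]
        have m1 : γ₁ ∈ insert (f i₀) Γ := Finset.mem_insert_of_mem (hΓ₁Γ hγ₁)
        have m2 : γ ∈ insert (f i₀) Γ := Finset.mem_insert_of_mem (hΓ₁Γ hγ')
        obtain ⟨g, hgG, hg⟩ := hgen (insert (f i₀) Γ) hs (swap ⟨γ₁, m1⟩ ⟨γ, m2⟩)
        have hgx : ∀ x ∈ Γ, g x = swap γ₁ γ x := by
          intro x hx
          have := hg ⟨x, Finset.mem_insert_of_mem hx⟩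
          rw [this]
          by_cases h1 : x = γ₁
          · subst h1
            rw [swap_apply_left, swap_apply_left]
          · by_cases h2 : x = γ
            · subst h2
              rw [swap_apply_right, swap_apply_right]
            · rw [swap_apply_of_ne_of_ne h1 h2, swap_apply_of_ne_of_ne]
              · exact fun h => h1 (congrArg Subtype.val h)
              · exact fun h => h2 (congrArg Subtype.val h)
        have hgE : (⟨g, hgG⟩ : G) ∈ E := by
          rw [hmemE]
          refine ⟨fun x hx => ?_, ?_⟩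
          · have hxΓ := (Finset.mem_sdiff.1 hx).1
            have hx1 := (Finset.mem_sdiff.1 hx).2
            show g x = x
            rw [hgx x hxΓ, swap_apply_of_ne_of_ne]
            · exact fun h => hx1 (h ▸ hγ₁)
            · exact fun h => hx1 (h ▸ hγ')
          · apply hstab
            intro x hx
            show g x ∈ Γ₁
            rw [hgx x (hΓ₁Γ hx)]
            by_cases h1 : x = γ₁
            · rw [h1, swap_apply_left]; exact hγ'
            · by_cases h2 : x = γ
              · rw [h2, swap_apply_right]; exact hγ₁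
              · rw [swap_apply_of_ne_of_ne h1 h2]; exact hx
        refine ⟨⟨⟨g, hgG⟩, hgE⟩, ?_⟩
        show g γ₁ = γ
        rw [hgx γ₁ (hΓ₁Γ hγ₁), swap_apply_left]
    have hcardorb : Nat.card (orbit E γ₁) = p := by
      rw [horbit]
      simp [hΓ₁c]
    have h1 := card_orbit_mul_card_stabilizer_eq_card_group E γ₁
    rw [← Nat.card_eq_fintype_card, ← Nat.card_eq_fintype_card, ← Nat.card_eq_fintype_card, hcardorb] at h1
    have h2 : Nat.card (Hs.subgroupOf E) ∣ Nat.card (stabilizer E γ₁) := by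
      apply Subgroup.card_dvd_of_le
      intro u hu
      rw [Subgroup.mem_subgroupOf, hHs, mem_fixingSubgroup_iff] at hu
      rw [mem_stabilizer_iff]
      exact hu γ₁ (by exact_mod_cast hΓ₁Γ hγ₁)
    have h3 : Nat.card (Hs.subgroupOf E) = Nat.card Hs :=
      Nat.card_congr (Subgroup.subgroupOfEquivOfLe hHsE).toEquiv
    rw [h3] at h2
    rw [← h1]
    exact Nat.mul_dvd_mul_left p h2
  -- Step 2: for each `i`, a Sylow `p`-subgroup of `E` fixing `f i`
  have hE0 : Nat.card E ≠ 0 := Nat.card_pos.ne'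
  have hS2 : ∀ i : Fin p, ∃ Q : Sylow p E, ∀ y ∈ (Q : Subgroup E), y • f i = f i := by
    intro i
    have horbeq : orbit E (f i) = orbit Hs (f i) := by
      ext y
      constructor
      · rintro ⟨u, rfl⟩
        exact horbE (u : G) u.2 (f i) (hf i)
      · rintro ⟨h, rfl⟩
        exact ⟨⟨(h : G), hHsE h.2⟩, rfl⟩
    have hcop : ¬ p ∣ Nat.card (orbit E (f i)) := by rw [horbeq]; exact hcon i
    have h1 := card_orbit_mul_card_stabilizer_eq_card_group E (f i)
    rw [← Nat.card_eq_fintype_card, ← Nat.card_eq_fintype_card, ← Nat.card_eq_fintype_card] at h1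
    have hfac : (Nat.card (stabilizer E (f i))).factorization p = (Nat.card E).factorization p := by
      rw [← h1, Nat.factorization_mul (by
        intro h0; rw [h0, zero_mul] at h1; exact hE0 h1.symm) Nat.card_pos.ne']
      simp only [Finsupp.coe_add, Pi.add_apply]
      rw [Nat.factorization_eq_zero_of_not_dvd hcop, zero_add]
    obtain ⟨P⟩ : Nonempty (Sylow p (stabilizer E (f i))) := inferInstance
    have hPc : Nat.card ((P : Subgroup (stabilizer E (f i))).map (stabilizer E (f i)).subtype) =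
        p ^ (Nat.card E).factorization p := by
      rw [← hfac, ← Sylow.card_eq_multiplicity P]
      exact (Nat.card_congr (Subgroup.equivMapOfInjective _ _ (Subgroup.subtype_injective _)).toEquiv).symm
    refine ⟨Sylow.ofCard _ hPc, ?_⟩
    intro y hy
    rw [Sylow.coe_ofCard] at hy
    obtain ⟨z, _, rfl⟩ := hy
    exact z.2
  choose Q hQ using hS2
  -- Step 3: conjugating elements
  have hS3 : ∀ i : Fin p, ∃ u : E, ∀ y ∈ (Q i₀ : Subgroup E), y • ((u : G)⁻¹ • f i) = (u : G)⁻¹ • f i := by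
    intro i
    obtain ⟨u, hu⟩ := MulAction.exists_smul_eq E (Q i₀) (Q i)
    refine ⟨u, fun y hy => ?_⟩
    have h1 : u * y * u⁻¹ ∈ (Q i : Subgroup E) := by
      rw [← hu, Sylow.coe_subgroup_smul]
      have := Subgroup.smul_mem_pointwise_smul _ (MulAut.conj u) _ hy
      simpa [MulAut.smul_def] using this
    have h2 := hQ i _ h1
    have h3 : ((u * y * u⁻¹ : E) : G) • f i = f i := h2
    show (y : G) • ((u : G)⁻¹ • f i) = (u : G)⁻¹ • f i
    rw [eq_inv_smul_iff, smul_smul, smul_smul]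
    simpa [mul_assoc] using h3
  choose u hu using hS3
  set x : Fin p → α := fun i => ((u i : E) : G)⁻¹ • f i with hx
  have hxΓ : ∀ i, x i ∉ Γ := fun i => hEΓ' _ (E.inv_mem (u i).2) (f i) (hf i)
  have hxinj : Function.Injective x := by
    intro i j hij
    by_contra hne
    apply hdist i j hne
    have h1 : f j = (((u j : E) : G) * ((u i : E) : G)⁻¹) • f i := by
      rw [mul_smul]
      show f j = ((u j : E) : G) • x i
      rw [hij, hx]
      simp
    rw [h1]
    exact horbE _ (E.mul_mem (u j).2 (E.inv_mem (u i).2)) (f i) (hf i)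
  -- Step 4: the new `k`-set
  set Γ'' : Finset α := Γ₀ ∪ Finset.univ.image x with hΓ''
  have hΓ''c : Γ''.card = k := by
    rw [hΓ'', Finset.card_union_of_disjoint, hΓ₀c, Finset.card_image_of_injective _ hxinj, Finset.card_univ,
      Fintype.card_fin]
    · omega
    · rw [Finset.disjoint_left]
      intro y hy hy'
      obtain ⟨i, _, rfl⟩ := Finset.mem_image.1 hy'
      exact hxΓ i (Finset.mem_sdiff.1 hy).1
  -- Step 5: `Q i₀` embeds into the fixing subgroup of `Γ''`
  have hS5 : Nat.card (Q i₀ : Subgroup E) ∣ Nat.card (fixingSubgroup G (Γ'' : Set α)) := by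
    have hle : ((Q i₀ : Subgroup E).map E.subtype) ≤ fixingSubgroup G (Γ'' : Set α) := by
      rintro _ ⟨y, hy, rfl⟩
      rw [mem_fixingSubgroup_iff]
      intro z hz
      have hz' : z ∈ Γ'' := by exact_mod_cast hz
      rw [hΓ'', Finset.mem_union] at hz'
      rcases hz' with hz0 | hzx
      · exact ((hmemE (y : G)).1 y.2).1 z hz0
      · obtain ⟨i, _, rfl⟩ := Finset.mem_image.1 hzx
        exact hu i y hy
    have h1 := Subgroup.card_dvd_of_le hle
    have h2 : Nat.card ((Q i₀ : Subgroup E).map E.subtype) = Nat.card (Q i₀ : Subgroup E) :=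
      (Nat.card_congr (Subgroup.equivMapOfInjective _ _ (Subgroup.subtype_injective _)).toEquiv).symm
    rwa [h2] at h1
  have hS5' : Nat.card (fixingSubgroup G (Γ'' : Set α)) = Nat.card Hs := by
    have e1 := hkt.index_of_fixingSubgroup_mul (s := (Γ'' : Set α)) (by rw [Set.ncard_coe_finset, hΓ''c])
    have e2 := hkt.index_of_fixingSubgroup_mul (s := (Γ : Set α)) (by rw [Set.ncard_coe_finset, hΓ])
    have e3 : (fixingSubgroup G (Γ'' : Set α)).index = (fixingSubgroup G (Γ : Set α)).index :=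
      Nat.eq_of_mul_eq_mul_right (Nat.factorial_pos _) (e1.trans e2.symm)
    have e4 := Subgroup.card_mul_index (fixingSubgroup G (Γ'' : Set α))
    have e5 := Subgroup.card_mul_index (fixingSubgroup G (Γ : Set α))
    rw [e3] at e4
    have hidx : (fixingSubgroup G (Γ : Set α)).index ≠ 0 := Subgroup.index_ne_zero_of_finite
    exact Nat.eq_of_mul_eq_mul_right (Nat.pos_of_ne_zero hidx) (e4.trans e5.symm)
  -- Step 6: contradiction on `p`-parts
  have hQc : Nat.card (Q i₀ : Subgroup E) = p ^ (Nat.card E).factorization p := Sylow.card_eq_multiplicity (Q i₀)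
  rw [hQc, hS5'] at hS5
  have hHs0 : Nat.card Hs ≠ 0 := Nat.card_pos.ne'
  have h1 : (Nat.card E).factorization p ≤ (Nat.card Hs).factorization p :=
    (hp.pow_dvd_iff_le_factorization hHs0).1 hS5
  have h2 : p ^ ((Nat.card Hs).factorization p + 1) ∣ Nat.card E := by
    rw [pow_succ, mul_comm]
    exact (Nat.mul_dvd_mul_left p (Nat.ordProj_dvd _ _)).trans hS1
  have h3 := (hp.pow_dvd_iff_le_factorization hE0).1 h2
  omega

end Cfsg.Agent.S0706
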