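import Cfsg.Statements.S0707
import Mathlib

set_option autoImplicit false
open Cfsg

namespace Cfsg.Agent.S0707

/-- In a primitive permutation group, distinct points have distinct stabilisers unless the group is regular of prime degree. -/
theorem result {α : Type*} (G : Subgroup (Equiv.Perm α)) [MulAction.IsPreprimitive G α] (h : ¬ (Nat.card α).Prime ∨ ∃ a : α, MulAction.stabilizer G a ≠ ⊥) {a b : α} (hab : a ≠ b) : MulAction.stabilizer G a ≠ MulAction.stabilizer G b := by
  classical
  intro heq
  have hnt : Nontrivial α := ⟨⟨a, b, hab⟩⟩
  have hco : IsCoatom (MulAction.stabilizer G a) :=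
    (MulAction.isCoatom_stabilizer_iff_preprimitive G a).2 inferInstance
  obtain ⟨g, hg⟩ := MulAction.exists_smul_eq G a b
  -- `g` normalizes the stabilizer of `a`
  have hconj : ∀ (k : G) (x : α), MulAction.stabilizer G (k • x) =
      (MulAction.stabilizer G x).map (MulAut.conj k).toMonoidHom :=
    fun k x => MulAction.stabilizer_smul_eq_stabilizer_map_conj k x
  have hgN : g ∈ Subgroup.normalizer ((MulAction.stabilizer G a : Subgroup G) : Set G) := by
    rw [Subgroup.mem_normalizer_iff]
    intro k
    have h1 := hconj g a
    rw [hg, ← heq] at h1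
    constructor
    · intro hk
      rw [h1]
      exact ⟨k, hk, rfl⟩
    · intro hk
      rw [h1] at hk
      obtain ⟨k', hk', hkk'⟩ := hk
      have : k' = k := by
        have h2 : g * k' * g⁻¹ = g * k * g⁻¹ := hkk'
        exact mul_left_cancel (mul_right_cancel h2)
      rwa [← this]
  have hle : MulAction.stabilizer G a ≤ Subgroup.normalizer ((MulAction.stabilizer G a : Subgroup G) : Set G) :=
    Subgroup.le_normalizer
  rcases eq_or_lt_of_le hle with hN | hN
  · -- the normalizer is the stabilizer itself, so `g` fixes `a`
    rw [← hN] at hgN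
    have : g • a = a := hgN
    exact hab (this.symm.trans hg)
  · have htop : Subgroup.normalizer ((MulAction.stabilizer G a : Subgroup G) : Set G) = ⊤ := hco.2 _ hN
    have hnormal : (MulAction.stabilizer G a).Normal := Subgroup.normalizer_eq_top_iff.1 htop
    -- all stabilizers are equal to that of `a`
    have hall : ∀ x : α, MulAction.stabilizer G x = MulAction.stabilizer G a := by
      intro x
      obtain ⟨k, hk⟩ := MulAction.exists_smul_eq G a x
      rw [← hk, hconj k a]
      apply le_antisymm
      · rintro _ ⟨m, hm, rfl⟩
        exact hnormal.conj_mem m hm k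
      · intro m hm
        refine ⟨k⁻¹ * m * k, ?_, ?_⟩
        · have := hnormal.conj_mem m hm k⁻¹
          rwa [inv_inv] at this
        · show k * (k⁻¹ * m * k) * k⁻¹ = m
          group
    have hbot : MulAction.stabilizer G a = ⊥ := by
      rw [Subgroup.eq_bot_iff_forall]
      intro m hm
      apply Subtype.ext
      apply Equiv.ext
      intro x
      have : m ∈ MulAction.stabilizer G x := by rw [hall x]; exact hm
      exact this
    rw [hbot] at hco
    -- `G` is cyclic of prime order
    have hSnt : Nontrivial (Subgroup G) := ⟨⟨⊥, ⊤, hco.1⟩⟩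
    have hGnt : Nontrivial G := Subgroup.nontrivial_iff.1 hSnt
    obtain ⟨c, hc⟩ := exists_ne (1 : G)
    have hz : Subgroup.zpowers c = ⊤ := by
      apply hco.2
      exact bot_lt_iff_ne_bot.2 (Subgroup.zpowers_ne_bot.2 hc)
    have hcyc : IsCyclic G := isCyclic_iff_exists_zpowers_eq_top.2 ⟨c, hz⟩
    letI : CommGroup G := IsCyclic.commGroup
    have hsimple : IsSimpleGroup G :=
      { exists_pair_ne := hGnt.exists_pair_ne
        eq_bot_or_eq_top_of_normal := by
          intro K _
          rcases eq_or_ne K ⊥ with hK | hK
          · exact Or.inl hK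
          · exact Or.inr (hco.2 _ (bot_lt_iff_ne_bot.2 hK)) }
    have hprime : (Nat.card G).Prime := IsSimpleGroup.prime_card
    have hcard : Nat.card α = Nat.card G := by
      have h1 := MulAction.index_stabilizer G a
      rw [hbot, Subgroup.index_bot, MulAction.orbit_eq_univ, Set.ncard_univ] at h1
      exact h1.symm
    rcases h with h | ⟨x, hx⟩
    · rw [hcard] at h
      exact h hprime
    · rw [hall x] at hx
      exact hx hbot

end Cfsg.Agent.S0707
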