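import Cfsg.Statements.S0708
import Mathlib
import Cfsg.Agent.Lib.Helper22.SharpFin

set_option autoImplicit false
open Cfsg

namespace Cfsg.Agent.S0708

/-- Tits' argument: a sharply 4-transitive group (no finiteness assumed) has finite degree at most 11, and at most 6 when the degree is even. -/
theorem result {G : Type*} [Group G] {Ω : Type*} [MulAction G Ω] (h4 : MulAction.IsMultiplyPretransitive G Ω 4) (hsharp : ∀ x : Fin 4 ↪ Ω, MulAction.stabilizer G x = ⊥) (hne : Nonempty (Fin 4 ↪ Ω)) : Finite Ω ∧ Nat.card Ω ≤ 11 ∧ (Even (Nat.card Ω) → Nat.card Ω ≤ 6) := by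
  obtain ⟨x⟩ := hne
  have hs : Cfsg.Agent.Lib.Helper22.SharpTrans.IsSharp G Ω 4 := ⟨h4, hsharp⟩
  haveI hfin : Finite Ω := hs.finite_of_sharp4 x
  have h4le : 4 ≤ Nat.card Ω := by
    have := Nat.card_le_card_of_injective x x.injective
    simpa using this
  have hdeg := hs.degree_sharp4 h4le
  refine ⟨hfin, ?_, ?_⟩
  · rcases hdeg with h | h | h | h <;> omega
  · intro hev
    rcases hdeg with h | h | h | h
    · omega
    · rw [h] at hev; exact absurd hev (by decide)
    · omega
    · rw [h] at hev; exact absurd hev (by decide)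

end Cfsg.Agent.S0708
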