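import Mathlib
import Cfsg.Statements.S0709

set_option autoImplicit false
open Cfsg Equiv

namespace Cfsg.Agent.S0709

variable {α : Type*}

/-- One step of Witt's lemma: the structure of `⟨K, k₀⟩`. -/
theorem one_step (K : Subgroup (Perm α)) (k₀ h : Perm α) (a b : α) (D : Set α)
    (hKD : ∀ g ∈ K, ∀ d ∈ D, g d ∈ D)
    (haD : a ∈ D) (hbD : b ∈ D) (hab : a ≠ b)
    (h2 : ∀ c ∈ D, ∀ d ∈ D, ∀ c' ∈ D, ∀ d' ∈ D, c ≠ d → c' ≠ d' → ∃ g ∈ K, g c = c' ∧ g d = d')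
    (hh : h ∈ K) (hha : h a = b)
    (hksq : k₀ ^ 2 ∈ K) (hbraid : (h * k₀) ^ 3 ∈ K)
    (hnorm : ∀ g ∈ K, g a = a → k₀ * g * k₀⁻¹ ∈ K) :
    ∀ x ∈ Subgroup.closure ((K : Set (Perm α)) ∪ {k₀}),
      x ∈ K ∨ ∃ u ∈ K, ∃ v ∈ K, x = u * k₀ * v := by
  -- basic facts
  have hkinv : k₀⁻¹ = (k₀ ^ 2)⁻¹ * k₀ := by group
  have hnorm' : ∀ g ∈ K, g a = a → k₀⁻¹ * g * k₀ ∈ K := by
    intro g hg hga
    have h1 := hnorm g hg hga
    have : k₀⁻¹ * g * k₀ = (k₀ ^ 2)⁻¹ * (k₀ * g * k₀⁻¹) * k₀ ^ 2 := by group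
    rw [this]
    exact K.mul_mem (K.mul_mem (K.inv_mem hksq) h1) hksq
  -- the set S
  let S : Perm α → Prop := fun x => x ∈ K ∨ ∃ u ∈ K, ∃ v ∈ K, x = u * k₀ * v
  have hSl : ∀ x, S x → ∀ g ∈ K, S (g * x) := by
    intro x hx g hg
    rcases hx with hx | ⟨u, hu, v, hv, rfl⟩
    · exact Or.inl (K.mul_mem hg hx)
    · exact Or.inr ⟨g * u, K.mul_mem hg hu, v, hv, by group⟩
  have hSr : ∀ x, S x → ∀ g ∈ K, S (x * g) := by
    intro x hx g hg
    rcases hx with hx | ⟨u, hu, v, hv, rfl⟩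
    · exact Or.inl (K.mul_mem hx hg)
    · exact Or.inr ⟨u, hu, v * g, K.mul_mem hv hg, by group⟩
  -- k₀ h k₀ ∈ S
  have hkhk : S (k₀ * h * k₀) := by
    refine Or.inr ⟨h⁻¹ * (h * k₀) ^ 3 * (k₀ ^ 2)⁻¹, ?_, h⁻¹, K.inv_mem hh, ?_⟩
    · exact K.mul_mem (K.mul_mem (K.inv_mem hh) hbraid) (K.inv_mem hksq)
    · have e3 : (h * k₀) ^ 3 = h * k₀ * (h * k₀) * (h * k₀) := by
        rw [pow_succ, pow_succ, pow_one]
      rw [e3]; group
  -- k₀ w k₀ ∈ S for all w ∈ K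
  have hkwk : ∀ w ∈ K, S (k₀ * w * k₀) := by
    intro w hw
    by_cases hwa : w a = a
    · left
      have : k₀ * w * k₀ = (k₀ * w * k₀⁻¹) * k₀ ^ 2 := by group
      rw [this]
      exact K.mul_mem (hnorm w hw hwa) hksq
    · -- w a = c ≠ a
      have hcD : w a ∈ D := hKD w hw a haD
      obtain ⟨g, hg, hga, hgb⟩ := h2 a haD b hbD a haD (w a) hcD hab (Ne.symm hwa)
      -- g' = (g h)⁻¹ w fixes a
      set g' := (g * h)⁻¹ * w with hg'
      have hg'K : g' ∈ K := K.mul_mem (K.inv_mem (K.mul_mem hg hh)) hw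
      have hg'a : g' a = a := by
        simp only [hg', Perm.mul_apply]
        rw [Perm.inv_eq_iff_eq]
        simp [Perm.mul_apply, hha, hgb]
      have hw' : w = g * h * g' := by rw [hg']; group
      have : k₀ * w * k₀ = (k₀ * g * k₀⁻¹) * (k₀ * h * k₀) * (k₀⁻¹ * g' * k₀) := by
        rw [hw']; group
      rw [this]
      exact hSr _ (hSl _ hkhk _ (hnorm g hg hga)) _ (hnorm' g' hg'K hg'a)
  have hSmul : ∀ x y, S x → S y → S (x * y) := by
    intro x y hx hy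
    rcases hx with hx | ⟨u, hu, v, hv, rfl⟩
    · exact hSl y hy x hx
    · rcases hy with hy | ⟨u', hu', v', hv', rfl⟩
      · exact hSr _ (Or.inr ⟨u, hu, v, hv, rfl⟩) y hy
      · have : u * k₀ * v * (u' * k₀ * v') = u * (k₀ * (v * u') * k₀) * v' := by group
        rw [this]
        exact hSr _ (hSl _ (hkwk _ (K.mul_mem hv hu')) u hu) v' hv'
  have hSinv : ∀ x, S x → S x⁻¹ := by
    intro x hx
    rcases hx with hx | ⟨u, hu, v, hv, rfl⟩
    · exact Or.inl (K.inv_mem hx)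
    · refine Or.inr ⟨v⁻¹ * (k₀ ^ 2)⁻¹, K.mul_mem (K.inv_mem hv) (K.inv_mem hksq), u⁻¹,
        K.inv_mem hu, ?_⟩
      group
  intro x hx
  induction hx using Subgroup.closure_induction with
  | mem y hy =>
    rcases hy with hy | hy
    · exact Or.inl hy
    · rw [Set.mem_singleton_iff] at hy
      exact Or.inr ⟨1, K.one_mem, 1, K.one_mem, by rw [hy]; group⟩
  | one => exact Or.inl K.one_mem
  | mul y z _ _ hy hz => exact hSmul y z hy hz
  | inv y _ hy => exact hSinv y hy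


/-- `k`-fold transitivity of a permutation group `K` on a subset `D` (own predicate). -/
def TransOn (K : Subgroup (Perm α)) (D : Set α) (k : ℕ) : Prop :=
  ∀ x y : Fin k → α, Function.Injective x → Function.Injective y →
    (∀ i, x i ∈ D) → (∀ i, y i ∈ D) → ∃ g ∈ K, ∀ i, g (x i) = y i

theorem transOn_zero (K : Subgroup (Perm α)) (D : Set α) : TransOn K D 0 :=
  fun _ _ _ _ _ _ => ⟨1, K.one_mem, fun i => i.elim0⟩

theorem transOn_succ (K K' : Subgroup (Perm α)) (D : Set α) (ω : α) (k : ℕ)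
    (hKK' : K ≤ K') (hKω : ∀ g ∈ K, g ω = ω)
    (hK'D : ∀ g ∈ K', ∀ d ∈ insert ω D, g d ∈ insert ω D)
    (htr : ∀ d ∈ insert ω D, ∃ g ∈ K', g d = ω)
    (hk : TransOn K D k) : TransOn K' (insert ω D) (k + 1) := by
  intro x y hx hy hxD hyD
  obtain ⟨g₁, hg₁, h1⟩ := htr (x 0) (hxD 0)
  obtain ⟨g₂, hg₂, h2⟩ := htr (y 0) (hyD 0)
  have key : ∀ (z : Fin (k + 1) → α) (g : Perm α), g ∈ K' → Function.Injective z →
      (∀ i, z i ∈ insert ω D) → g (z 0) = ω →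
      (Function.Injective (fun i : Fin k => g (z i.succ)) ∧ ∀ i : Fin k, g (z i.succ) ∈ D) := by
    intro z g hg hz hzD hg0
    refine ⟨fun i j hij => ?_, fun i => ?_⟩
    · have := hz (g.injective hij)
      exact Fin.succ_injective _ this
    · have hmem := hK'D g hg _ (hzD i.succ)
      rcases hmem with hmem | hmem
      · exfalso
        rw [← hg0] at hmem
        have := hz (g.injective hmem)
        exact Fin.succ_ne_zero i this
      · exact hmem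
  obtain ⟨hx1, hx2⟩ := key x g₁ hg₁ hx hxD h1
  obtain ⟨hy1, hy2⟩ := key y g₂ hg₂ hy hyD h2
  obtain ⟨g, hg, hgxy⟩ := hk _ _ hx1 hy1 hx2 hy2
  refine ⟨g₂⁻¹ * g * g₁, K'.mul_mem (K'.mul_mem (K'.inv_mem hg₂) (hKK' hg)) hg₁, ?_⟩
  intro i
  refine Fin.cases ?_ (fun j => ?_) i
  · simp only [Perm.mul_apply, h1, hKω g hg]
    rw [Perm.inv_eq_iff_eq]
    exact h2.symm
  · have := hgxy j
    simp only [Perm.mul_apply]
    rw [this]
    simp


/-- the chain of subgroups `L i = ⟨G, s 2, …, s (i-1)⟩`. -/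
def L (G : Subgroup (Perm α)) (s : ℕ → Perm α) (i : ℕ) : Subgroup (Perm α) :=
  Subgroup.closure ((G : Set (Perm α)) ∪ {x | ∃ j : ℕ, 2 ≤ j ∧ j + 1 ≤ i ∧ x = s j})

/-- the domains `α ∖ {q (i+1), …, q t}`. -/
def Dom (q : ℕ → α) (t i : ℕ) : Set α := {x | ∀ j, i + 1 ≤ j → j ≤ t → x ≠ q j}

/-- the hypotheses of Witt's lemma, bundled. -/
structure Hyp (t : ℕ) (q : ℕ → α) (G : Subgroup (Perm α)) (s : ℕ → Perm α)
    (H : Subgroup (Perm α)) : Prop where
  ht : 2 ≤ t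
  hq : ∀ i j : ℕ, 1 ≤ i → i ≤ t → 1 ≤ j → j ≤ t → q i = q j → i = j
  hfix : ∀ g ∈ G, ∀ i : ℕ, 3 ≤ i → i ≤ t → g (q i) = q i
  h2 : ∀ a b c d : α, (∀ i, 3 ≤ i → i ≤ t → a ≠ q i ∧ b ≠ q i ∧ c ≠ q i ∧ d ≠ q i) →
    a ≠ b → c ≠ d → ∃ g ∈ G, g a = c ∧ g b = d
  hs1 : s 1 ∈ G
  hs1q : s 1 (q 1) = q 2 ∧ s 1 (q 2) = q 1
  hsq : ∀ i : ℕ, 2 ≤ i → i + 1 ≤ t → s i (q i) = q (i + 1) ∧ s i (q (i + 1)) = q i ∧
    ∀ j : ℕ, 1 ≤ j → j ≤ t → j ≠ i → j ≠ i + 1 → s i (q j) = q j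
  hH : H = G ⊓ MulAction.stabilizer (Equiv.Perm α) (q 1) ⊓
    MulAction.stabilizer (Equiv.Perm α) (q 2)
  hsq2 : ∀ i : ℕ, 1 ≤ i → i + 1 ≤ t → s i ^ 2 ∈ H
  hbraid : ∀ i : ℕ, 1 ≤ i → i + 2 ≤ t → (s i * s (i + 1)) ^ 3 ∈ H
  hcomm : ∀ i j : ℕ, 1 ≤ i → i + 2 ≤ j → j + 1 ≤ t →
    (s i * s j) ^ 2 ∈ H ∧ (s j * s i) ^ 2 ∈ H
  hnorm : ∀ i : ℕ, 2 ≤ i → i + 1 ≤ t →
    ∀ g ∈ G ⊓ MulAction.stabilizer (Equiv.Perm α) (q 2),
      s i * g * (s i)⁻¹ ∈ G ⊓ MulAction.stabilizer (Equiv.Perm α) (q 2)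

section basics

variable (G : Subgroup (Perm α)) (s : ℕ → Perm α)

theorem G_le_L (i : ℕ) : G ≤ L G s i := by
  intro g hg
  exact Subgroup.subset_closure (Or.inl hg)

theorem s_mem_L {i j : ℕ} (h2 : 2 ≤ j) (hj : j + 1 ≤ i) : s j ∈ L G s i :=
  Subgroup.subset_closure (Or.inr ⟨j, h2, hj, rfl⟩)

theorem L_mono {i i' : ℕ} (h : i ≤ i') : L G s i ≤ L G s i' := by
  apply Subgroup.closure_mono
  rintro x (hx | ⟨j, h2, hj, rfl⟩)
  · exact Or.inl hx
  · exact Or.inr ⟨j, h2, by omega, rfl⟩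

theorem L_le_two {i : ℕ} (hi : i ≤ 2) : L G s i = G := by
  apply le_antisymm
  · rw [L, Subgroup.closure_le]
    rintro x (hx | ⟨j, h2, hj, rfl⟩)
    · exact hx
    · omega
  · exact G_le_L G s i

theorem L_succ_le (i : ℕ) :
    L G s (i + 1) ≤ Subgroup.closure ((L G s i : Set (Perm α)) ∪ {s i}) := by
  rw [L, Subgroup.closure_le]
  rintro x (hx | ⟨j, h2, hj, rfl⟩)
  · exact Subgroup.subset_closure (Or.inl (G_le_L G s i hx))
  · rcases Nat.lt_or_ge j i with h | h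
    · exact Subgroup.subset_closure (Or.inl (s_mem_L G s h2 h))
    · have : j = i := by omega
      subst this
      exact Subgroup.subset_closure (Or.inr rfl)

end basics

section main

variable {t : ℕ} {q : ℕ → α} {G : Subgroup (Perm α)} {s : ℕ → Perm α} {H : Subgroup (Perm α)}

theorem H_le_G (W : Hyp t q G s H) : H ≤ G := by
  rw [W.hH]; exact inf_le_left.trans inf_le_left

theorem L_fix (W : Hyp t q G s H) {i : ℕ} (hi : 2 ≤ i) :
    ∀ g ∈ L G s i, ∀ j, i + 1 ≤ j → j ≤ t → g (q j) = q j := by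
  intro g hg j hj hjt
  have : L G s i ≤ MulAction.stabilizer (Perm α) (q j) := by
    rw [L, Subgroup.closure_le]
    rintro x (hx | ⟨m, h2, hm, rfl⟩)
    · exact W.hfix x hx j (by omega) hjt
    · exact (W.hsq m h2 (by omega)).2.2 j (by omega) hjt (by omega) (by omega)
  exact this hg

theorem L_Dom (W : Hyp t q G s H) {i : ℕ} (hi : 2 ≤ i) :
    ∀ g ∈ L G s i, ∀ d ∈ Dom q t i, g d ∈ Dom q t i := by
  intro g hg d hd j hj hjt e
  have := L_fix W hi g hg j hj hjt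
  rw [← this] at e
  exact hd j hj hjt (g.injective e)

theorem q_mem_Dom (W : Hyp t q G s H) {i j : ℕ} (hj1 : 1 ≤ j) (hji : j ≤ i) (hit : i ≤ t) :
    q j ∈ Dom q t i := by
  intro m hm hmt e
  have := W.hq j m hj1 (by omega) (by omega) hmt e
  omega

theorem Dom_succ (W : Hyp t q G s H) {i : ℕ} (hi : i + 1 ≤ t) :
    Dom q t (i + 1) = insert (q (i + 1)) (Dom q t i) := by
  ext x
  simp only [Set.mem_insert_iff]
  constructor
  · intro hx
    by_cases hxq : x = q (i + 1)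
    · exact Or.inl hxq
    · right
      intro j hj hjt
      rcases Nat.lt_or_ge (i + 1) j with h | h
      · exact hx j (by omega) hjt
      · have : j = i + 1 := by omega
        subst this; exact hxq
  · rintro (rfl | hx)
    · exact q_mem_Dom W (by omega) le_rfl hi
    · intro j hj hjt
      exact hx j (by omega) hjt

theorem Dom_top : Dom q t t = Set.univ := by
  ext x
  simp only [Dom, Set.mem_ofPred_eq, Set.mem_univ, iff_true]
  intro j hj hjt
  omega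

end main


section norm

variable {t : ℕ} {q : ℕ → α} {G : Subgroup (Perm α)} {s : ℕ → Perm α} {H : Subgroup (Perm α)}

/-- `G = G_{q 2} ∪ G_{q 2} (s 1) G_{q 2}`. -/
theorem G_decomp (W : Hyp t q G s H) (g : Perm α) (hg : g ∈ G) :
    g (q 2) = q 2 ∨ ∃ u ∈ G, ∃ v ∈ G, u (q 2) = q 2 ∧ v (q 2) = q 2 ∧ g = u * s 1 * v := by
  by_cases hg2 : g (q 2) = q 2
  · exact Or.inl hg2
  · right
    have ht := W.ht
    have hq12 : q 1 ≠ q 2 := fun e => by
      have := W.hq 1 2 le_rfl (by omega) (by omega) ht e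
      omega
    have hnot : ∀ m, 1 ≤ m → m ≤ 2 → ∀ i, 3 ≤ i → i ≤ t → q m ≠ q i := by
      intro m hm1 hm2 i hi hit e
      have := W.hq m i hm1 (by omega) (by omega) hit e
      omega
    have hgnot : ∀ i, 3 ≤ i → i ≤ t → g (q 2) ≠ q i := by
      intro i hi hit e
      rw [← W.hfix g hg i hi hit] at e
      exact hnot 2 (by omega) le_rfl i hi hit (g.injective e)
    obtain ⟨u, hu, hu2, hu1⟩ := W.h2 (q 2) (q 1) (q 2) (g (q 2))
      (fun i hi hit => ⟨hnot 2 (by omega) le_rfl i hi hit, hnot 1 le_rfl (by omega) i hi hit,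
        hnot 2 (by omega) le_rfl i hi hit, hgnot i hi hit⟩) hq12.symm (Ne.symm hg2)
    refine ⟨u, hu, (u * s 1)⁻¹ * g, G.mul_mem (G.inv_mem (G.mul_mem hu W.hs1)) hg, hu2, ?_, ?_⟩
    · simp only [Perm.mul_apply]
      rw [Perm.inv_eq_iff_eq]
      simp [Perm.mul_apply, W.hs1q.2, hu1]
    · group

/-- `s i` (`i ≥ 3`) normalises `G`. -/
theorem norm_G (W : Hyp t q G s H) {i : ℕ} (hi : 3 ≤ i) (hit : i + 1 ≤ t) :
    ∀ g ∈ G, s i * g * (s i)⁻¹ ∈ G := by
  have hstab : ∀ g ∈ G, g (q 2) = q 2 → s i * g * (s i)⁻¹ ∈ G := by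
    intro g hg hg2
    have := W.hnorm i (by omega) hit g ⟨hg, hg2⟩
    exact this.1
  have hs1 : s i * s 1 * (s i)⁻¹ ∈ G := by
    have hc := (W.hcomm 1 i le_rfl (by omega) hit).2
    have hsq := W.hsq2 i (by omega) hit
    have e : s i * s 1 * (s i)⁻¹ = (s i * s 1) ^ 2 * (s 1)⁻¹ * (s i ^ 2)⁻¹ := by
      rw [pow_two, pow_two]; group
    rw [e]
    exact G.mul_mem (G.mul_mem (H_le_G W hc) (G.inv_mem W.hs1)) (G.inv_mem (H_le_G W hsq))
  intro g hg
  rcases G_decomp W g hg with hg2 | ⟨u, hu, v, hv, hu2, hv2, rfl⟩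
  · exact hstab g hg hg2
  · have e : s i * (u * s 1 * v) * (s i)⁻¹
        = (s i * u * (s i)⁻¹) * (s i * s 1 * (s i)⁻¹) * (s i * v * (s i)⁻¹) := by group
    rw [e]
    exact G.mul_mem (G.mul_mem (hstab u hu hu2) hs1) (hstab v hv hv2)

/-- `s (i+1)` normalises `L i = ⟨G, s 2, …, s (i-1)⟩`. -/
theorem norm_L (W : Hyp t q G s H) {i : ℕ} (hi : 2 ≤ i) (hit : i + 2 ≤ t) :
    ∀ g ∈ L G s i, s (i + 1) * g * (s (i + 1))⁻¹ ∈ L G s i := by
  intro g hg
  induction hg using Subgroup.closure_induction with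
  | mem y hy =>
    rcases hy with hy | ⟨j, h2, hj, rfl⟩
    · exact G_le_L G s i (norm_G W (by omega) (by omega) y hy)
    · have hc := (W.hcomm j (i + 1) (by omega) (by omega) (by omega)).2
      have hsq := W.hsq2 (i + 1) (by omega) (by omega)
      have e : s (i + 1) * s j * (s (i + 1))⁻¹
          = (s (i + 1) * s j) ^ 2 * (s j)⁻¹ * (s (i + 1) ^ 2)⁻¹ := by
        rw [pow_two, pow_two]; group
      rw [e]
      exact (L G s i).mul_mem ((L G s i).mul_mem (G_le_L G s i (H_le_G W hc))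
        ((L G s i).inv_mem (s_mem_L G s h2 hj))) ((L G s i).inv_mem (G_le_L G s i (H_le_G W hsq)))
  | one => simp
  | mul y z _ _ hy hz =>
    have e : s (i + 1) * (y * z) * (s (i + 1))⁻¹
        = (s (i + 1) * y * (s (i + 1))⁻¹) * (s (i + 1) * z * (s (i + 1))⁻¹) := by group
    rw [e]; exact (L G s i).mul_mem hy hz
  | inv y _ hy =>
    have e : s (i + 1) * y⁻¹ * (s (i + 1))⁻¹ = (s (i + 1) * y * (s (i + 1))⁻¹)⁻¹ := by group
    rw [e]; exact (L G s i).inv_mem hy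

end norm


section induction

variable {t : ℕ} {q : ℕ → α} {G : Subgroup (Perm α)} {s : ℕ → Perm α} {H : Subgroup (Perm α)}

/-- Invariant at stage `i`. -/
def Inv (t : ℕ) (q : ℕ → α) (G : Subgroup (Perm α)) (s : ℕ → Perm α) (i : ℕ) : Prop :=
  (∀ k, k ≤ i → TransOn (L G s i) (Dom q t i) k) ∧
  (∀ i', i' + 1 = i → ∀ g ∈ L G s i, g (q i) = q i → g ∈ L G s i')

theorem exists_other (W : Hyp t q G s H) (a : α) : ∃ b ∈ Dom q t 2, a ≠ b := by
  have ht := W.ht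
  have hq12 : q 1 ≠ q 2 := fun e => by
    have := W.hq 1 2 le_rfl (by omega) (by omega) ht e
    omega
  by_cases ha : a = q 1
  · exact ⟨q 2, q_mem_Dom W (by omega) le_rfl ht, ha ▸ hq12⟩
  · exact ⟨q 1, q_mem_Dom W le_rfl (by omega) ht, ha⟩

theorem inv_two (W : Hyp t q G s H) : Inv t q G s 2 := by
  have hL2 : L G s 2 = G := L_le_two G s le_rfl
  have key : ∀ a ∈ Dom q t 2, ∀ b ∈ Dom q t 2, ∀ c ∈ Dom q t 2, ∀ d ∈ Dom q t 2,
      a ≠ b → c ≠ d → ∃ g ∈ G, g a = c ∧ g b = d := by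
    intro a ha b hb c hc d hd hab hcd
    exact W.h2 a b c d (fun i hi hit => ⟨ha i (by omega) hit, hb i (by omega) hit,
      hc i (by omega) hit, hd i (by omega) hit⟩) hab hcd
  constructor
  · intro k hk
    rw [hL2]
    intro x y hx hy hxD hyD
    match k, x, y, hx, hy, hxD, hyD with
    | 0, x, y, _, _, _, _ => exact ⟨1, G.one_mem, fun i => i.elim0⟩
    | 1, x, y, _, _, hxD, hyD =>
      obtain ⟨b, hb, hab⟩ := exists_other W (x 0)
      obtain ⟨d, hd, hcd⟩ := exists_other W (y 0)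
      obtain ⟨g, hg, hg1, -⟩ := key (x 0) (hxD 0) b hb (y 0) (hyD 0) d hd hab hcd
      refine ⟨g, hg, fun i => ?_⟩
      have : i = 0 := Subsingleton.elim _ _
      subst this; exact hg1
    | 2, x, y, hx, hy, hxD, hyD =>
      have hx01 : x 0 ≠ x 1 := fun e => by simpa using hx e
      have hy01 : y 0 ≠ y 1 := fun e => by simpa using hy e
      obtain ⟨g, hg, hg1, hg2⟩ := key (x 0) (hxD 0) (x 1) (hxD 1) (y 0) (hyD 0) (y 1) (hyD 1)
        hx01 hy01
      refine ⟨g, hg, ?_⟩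
      rw [Fin.forall_fin_two]
      exact ⟨hg1, hg2⟩
    | (k + 3), _, _, _, _, _, _ => omega
  · intro i' hi' g hg _
    have : i' = 1 := by omega
    subst this
    rw [L_le_two G s (by omega)]
    rwa [hL2] at hg

theorem inv_succ (W : Hyp t q G s H) {i : ℕ} (hi : 2 ≤ i) (hit : i + 1 ≤ t)
    (h : Inv t q G s i) : Inv t q G s (i + 1) := by
  obtain ⟨hT, hS⟩ := h
  obtain ⟨i', rfl⟩ : ∃ i', i = i' + 1 := ⟨i - 1, by omega⟩
  have hi' : 1 ≤ i' := by omega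
  have hKω : ∀ g ∈ L G s (i' + 1), g (q (i' + 1 + 1)) = q (i' + 1 + 1) :=
    fun g hg => L_fix W hi g hg (i' + 1 + 1) (by omega) (by omega)
  have hKD : ∀ g ∈ L G s (i' + 1), ∀ d ∈ Dom q t (i' + 1), g d ∈ Dom q t (i' + 1) := L_Dom W hi
  have haD : q (i' + 1) ∈ Dom q t (i' + 1) := q_mem_Dom W (by omega) le_rfl (by omega)
  have hbD : q i' ∈ Dom q t (i' + 1) := q_mem_Dom W hi' (by omega) (by omega)
  have hab : q (i' + 1) ≠ q i' := fun e => by
    have := W.hq _ _ (by omega) (by omega) hi' (by omega) e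
    omega
  have hωD : q (i' + 1 + 1) ∉ Dom q t (i' + 1) :=
    fun hmem => hmem (i' + 1 + 1) (by omega) (by omega) rfl
  have h2 : ∀ c ∈ Dom q t (i' + 1), ∀ d ∈ Dom q t (i' + 1), ∀ c' ∈ Dom q t (i' + 1),
      ∀ d' ∈ Dom q t (i' + 1), c ≠ d → c' ≠ d' →
      ∃ g ∈ L G s (i' + 1), g c = c' ∧ g d = d' := by
    intro c hc d hd c' hc' d' hd' hcd hcd'
    obtain ⟨g, hg, hgxy⟩ := hT 2 (by omega) ![c, d] ![c', d']
      (by
        intro a b hab
        fin_cases a <;> fin_cases b <;> simp_all)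
      (by
        intro a b hab
        fin_cases a <;> fin_cases b <;> simp_all)
      (by
        intro a
        fin_cases a <;> simp_all)
      (by
        intro a
        fin_cases a <;> simp_all)
    exact ⟨g, hg, hgxy 0, hgxy 1⟩
  have hh : s i' ∈ L G s (i' + 1) := by
    rcases Nat.lt_or_ge i' 2 with h1 | h1
    · have : i' = 1 := by omega
      subst this; exact G_le_L G s _ W.hs1
    · exact s_mem_L G s h1 le_rfl
  have hha : s i' (q (i' + 1)) = q i' := by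
    rcases Nat.lt_or_ge i' 2 with h1 | h1
    · have : i' = 1 := by omega
      subst this; exact W.hs1q.2
    · exact (W.hsq i' h1 (by omega)).2.1
  have hk := W.hsq (i' + 1) hi hit
  have hksq : s (i' + 1) ^ 2 ∈ L G s (i' + 1) :=
    G_le_L G s _ (H_le_G W (W.hsq2 (i' + 1) (by omega) hit))
  have hbr : (s i' * s (i' + 1)) ^ 3 ∈ L G s (i' + 1) :=
    G_le_L G s _ (H_le_G W (W.hbraid i' hi' (by omega)))
  have hnormK : ∀ g ∈ L G s (i' + 1), g (q (i' + 1)) = q (i' + 1) →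
      s (i' + 1) * g * (s (i' + 1))⁻¹ ∈ L G s (i' + 1) := by
    intro g hg hga
    have hg' : g ∈ L G s i' := hS i' rfl g hg hga
    rcases Nat.lt_or_ge i' 2 with h1 | h1
    · have : i' = 1 := by omega
      subst this
      rw [L_le_two G s (by omega)] at hg'
      exact G_le_L G s _ (W.hnorm 2 le_rfl hit g ⟨hg', hga⟩).1
    · exact L_mono G s (by omega) (norm_L W h1 (by omega) g hg')
  have hstep := one_step (L G s (i' + 1)) (s (i' + 1)) (s i') (q (i' + 1)) (q i')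
    (Dom q t (i' + 1)) hKD haD hbD hab h2 hh hha hksq hbr hnormK
  have hdesc : ∀ x ∈ L G s (i' + 1 + 1), x ∈ L G s (i' + 1) ∨
      ∃ u ∈ L G s (i' + 1), ∃ v ∈ L G s (i' + 1), x = u * s (i' + 1) * v :=
    fun x hx => hstep x (L_succ_le G s (i' + 1) hx)
  constructor
  · intro k hk'
    rw [Dom_succ W hit]
    cases k with
    | zero => exact transOn_zero _ _
    | succ k =>
      apply transOn_succ (L G s (i' + 1)) (L G s (i' + 1 + 1)) (Dom q t (i' + 1))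
        (q (i' + 1 + 1)) k (L_mono G s (by omega)) hKω ?_ ?_ (hT k (by omega))
      · rw [← Dom_succ W hit]; exact L_Dom W (by omega)
      · intro d hd
        rcases hd with rfl | hd
        · exact ⟨1, Subgroup.one_mem _, rfl⟩
        · obtain ⟨g, hg, hgd⟩ : ∃ g ∈ L G s (i' + 1), g d = q (i' + 1) := by
            obtain ⟨g, hg, hgxy⟩ := hT 1 (by omega) ![d] ![q (i' + 1)]
              (fun a b _ => Subsingleton.elim _ _) (fun a b _ => Subsingleton.elim _ _)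
              (by intro a; fin_cases a; simpa using hd)
              (by intro a; fin_cases a; simpa using haD)
            exact ⟨g, hg, hgxy 0⟩
          refine ⟨s (i' + 1) * g, (L G s (i' + 1 + 1)).mul_mem (s_mem_L G s hi le_rfl)
            (L_mono G s (by omega) hg), ?_⟩
          simp [Perm.mul_apply, hgd, hk.1]
  · intro i'' hi'' g hg hgω
    have : i'' = i' + 1 := by omega
    subst this
    rcases hdesc g hg with hgK | ⟨u, hu, v, hv, rfl⟩
    · exact hgK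
    · exfalso
      have e : (u * s (i' + 1) * v) (q (i' + 1 + 1)) = u (q (i' + 1)) := by
        simp [Perm.mul_apply, hKω v hv, hk.2.1]
      rw [e] at hgω
      exact hωD (hgω ▸ hKD u hu _ haD)

theorem inv_all (W : Hyp t q G s H) {i : ℕ} (hi : 2 ≤ i) (hit : i ≤ t) : Inv t q G s i := by
  induction i, hi using Nat.le_induction with
  | base => exact inv_two W
  | succ i hi ih => exact inv_succ W hi hit (ih (by omega))

end induction

/-- Witt's Lemma for constructing transitive extensions. Points `q 1, …, q t` (`t ≥ 2`) of a finite set are given; `G` fixes `q i` for `i ≥ 3` and is doubly transitive on the remaining points; `s 1 ∈ G` swaps `q 1, q 2`; for `2 ≤ i ≤ t-1`, `s i` swaps `q i, q (i+1)` and fixes the other `q j`; with `H` the stabiliser of `q 1, q 2` in `G`: `s i ^ 2 ∈ H`, `(s i * s (i+1)) ^ 3 ∈ H`, `(s i * s j) ^ 2 ∈ H` for `j ≥ i + 2`, and `s i` (`i ≥ 2`) normalises the stabiliser of `q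 2` in `G`. Then `G` and the `s i` generate a `t`-transitive group whose pointwise stabiliser of the `q`'s is `H`. -/
theorem result {α : Type*} [Fintype α] [DecidableEq α] (t : ℕ) (ht : 2 ≤ t) (q : ℕ → α) (hq : ∀ i j : ℕ, 1 ≤ i → i ≤ t → 1 ≤ j → j ≤ t → q i = q j → i = j) (G : Subgroup (Equiv.Perm α)) (hfix : ∀ g ∈ G, ∀ i : ℕ, 3 ≤ i → i ≤ t → g (q i) = q i) (h2 : ∀ a b c d : α, (∀ i, 3 ≤ i → i ≤ t → a ≠ q i ∧ b ≠ q i ∧ c ≠ q i ∧ d ≠ q i) → a ≠ b → c ≠ d → ∃ g ∈ G, g a = c ∧ g b = d) (s : ℕ → Equiv.Perm α) (hs1 : s 1 ∈ G) (hs1q : s 1 (q 1) = q 2 ∧ s 1 (q 2) = q 1) (hsq : ∀ i : ℕ, 2 ≤ i → i + 1 ≤ t → s i (q i) = q (i + 1) ∧ s i (q (i + 1)) = q i ∧ ∀ j : ℕ, 1 ≤ j → j ≤ t → j ≠ i → j ≠ i + 1 → s i (q j) = q j) (H : Subgroup (Equiv.Perm α)) (hH : H = G ⊓ MulAction.stabilizer (Equiv.Perm α) (q 1) ⊓ MulAction.stabilizer (Equiv.Perm α) (q 2)) (hsq2 : ∀ i : ℕ, 1 ≤ i → i + 1 ≤ t → s i ^ 2 ∈ H) (hbraid : ∀ i : ℕ,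 1 ≤ i → i + 2 ≤ t → (s i * s (i + 1)) ^ 3 ∈ H) (hcomm : ∀ i j : ℕ, 1 ≤ i → i + 2 ≤ j → j + 1 ≤ t → (s i * s j) ^ 2 ∈ H ∧ (s j * s i) ^ 2 ∈ H) (hnorm : ∀ i : ℕ, 2 ≤ i → i + 1 ≤ t → ∀ g ∈ G ⊓ MulAction.stabilizer (Equiv.Perm α) (q 2), s i * g * (s i)⁻¹ ∈ G ⊓ MulAction.stabilizer (Equiv.Perm α) (q 2)) : MulAction.IsMultiplyPretransitive ↥(Subgroup.closure ((G : Set (Equiv.Perm α)) ∪ {x | ∃ i : ℕ, 2 ≤ i ∧ i + 1 ≤ t ∧ x = s i})) α t ∧ Subgroup.closure ((G : Set (Equiv.Perm α)) ∪ {x | ∃ i : ℕ, 2 ≤ i ∧ i + 1 ≤ t ∧ x = s i}) ⊓ fixingSubgroup (Equiv.Perm α) {x | ∃ i : ℕ, 1 ≤ i ∧ i ≤ t ∧ x = q i} = H := by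
  have W : Hyp t q G s H :=
    ⟨ht, hq, hfix, h2, hs1, hs1q, hsq, hH, hsq2, hbraid, hcomm, hnorm⟩
  have hK : Subgroup.closure ((G : Set (Equiv.Perm α)) ∪
      {x | ∃ i : ℕ, 2 ≤ i ∧ i + 1 ≤ t ∧ x = s i}) = L G s t := rfl
  rw [hK]
  have hInv := inv_all W ht le_rfl
  constructor
  · have hT := hInv.1 t le_rfl
    rw [Dom_top] at hT
    refine ⟨fun x y => ?_⟩
    obtain ⟨g, hg, hgxy⟩ := hT x y x.injective y.injective (fun _ => trivial) (fun _ => trivial)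
    refine ⟨⟨g, hg⟩, ?_⟩
    ext i
    exact hgxy i
  · apply le_antisymm
    · rintro x ⟨hxL, hxF⟩
      have hxfix : ∀ j, 1 ≤ j → j ≤ t → x (q j) = q j := by
        intro j hj hjt
        have := (mem_fixingSubgroup_iff _).mp hxF (q j) ⟨j, hj, hjt, rfl⟩
        exact this
      have hdown : ∀ i, 2 ≤ i → i ≤ t → x ∈ L G s i → x ∈ L G s 2 := by
        intro i hi
        induction i, hi using Nat.le_induction with
        | base => intro _ h; exact h
        | succ i hi ih =>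
          intro hit hx
          exact ih (by omega)
            ((inv_all W (by omega) hit).2 i rfl x hx (hxfix _ (by omega) hit))
      have hxG : x ∈ G := by
        have := hdown t ht le_rfl hxL
        rwa [L_le_two G s le_rfl] at this
      rw [hH]
      exact ⟨⟨hxG, hxfix 1 le_rfl (by omega)⟩, hxfix 2 (by omega) ht⟩
    · intro x hx
      have hx' := hx
      rw [hH, Subgroup.mem_inf, Subgroup.mem_inf] at hx'
      obtain ⟨⟨hxG, hx1⟩, hx2⟩ := hx'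
      rw [Subgroup.mem_inf]
      refine ⟨G_le_L G s t hxG, ?_⟩
      rw [mem_fixingSubgroup_iff]
      rintro y ⟨j, hj, hjt, rfl⟩
      rcases Nat.lt_or_ge j 3 with h | h
      · interval_cases j
        · exact hx1
        · exact hx2
      · exact hfix x hxG j h hjt

end Cfsg.Agent.S0709
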