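import Mathlib
import Cfsg.Statements.S0710
import Cfsg.Agent.Lib.Helper10.PermCentralizer

set_option autoImplicit false
open Cfsg

namespace Cfsg.Agent.S0710

open Cfsg.Agent.Lib.Helper10 in
/-- No transitive permutation group on 13 points has order `13 * 12 * 11 * 10 * 9 * 8`. -/
theorem result {α : Type*} [Fintype α] [DecidableEq α] (hα : Fintype.card α = 13) (G : Subgroup (Equiv.Perm α)) [MulAction.IsPretransitive G α] : Nat.card G ≠ 13 * 12 * 11 * 10 * 9 * 8 := by
  intro hcard
  have hcard' : Nat.card G = 1235520 := by rw [hcard]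
  have hprime : Fact (Nat.Prime 13) := ⟨by norm_num⟩
  obtain ⟨P⟩ : Nonempty (Sylow 13 G) := inferInstance
  have hP13 : Nat.card P = 13 := by
    obtain ⟨k, hk⟩ := P.2.exists_card_eq
    have h1 : 13 ∣ Nat.card P := P.dvd_card_of_dvd_card (by rw [hcard']; norm_num)
    have h2 : Nat.card P ∣ 1235520 := by
      rw [← hcard']; exact Subgroup.card_subgroup_dvd_card _
    rw [hk] at h1 h2 ⊢
    rcases k with _ | _ | k
    · norm_num at h1
    · rfl
    · exfalso
      have : 13 ^ 2 ∣ 1235520 := (pow_dvd_pow 13 (by omega)).trans h2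
      norm_num at this
  -- a nontrivial element of P
  have hne : ∃ g : P, g ≠ 1 := by
    by_contra hall
    push_neg at hall
    have : Subsingleton P := ⟨fun a b => by rw [hall a, hall b]⟩
    have := Nat.card_eq_one_iff_unique.2 ⟨this, ⟨1⟩⟩
    omega
  obtain ⟨g, hg⟩ := hne
  have hgord : orderOf g = 13 := by
    have h1 : orderOf g ∣ 13 := by
      have := orderOf_dvd_natCard g
      exact this.trans (dvd_of_eq hP13)
    rcases (Nat.dvd_prime hprime.out).1 h1 with h | h
    · exact absurd (orderOf_eq_one_iff.1 h) hg
    · exact h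
  -- the permutation σ
  set σ : Equiv.Perm α := ((g : G) : Equiv.Perm α) with hσdef
  have hσord : orderOf σ = 13 := by
    rw [hσdef, Subgroup.orderOf_coe, Subgroup.orderOf_coe, hgord]
  have hσcyc : σ.IsCycle := Equiv.Perm.isCycle_of_prime_order'' (by rw [hα]; norm_num) (by rw [hσord, hα])
  have hσsupp : σ.support = Finset.univ := by
    apply Finset.eq_univ_of_card
    rw [← hσcyc.orderOf, hσord, hα]
  -- P' := image of P in Perm α
  set P' : Subgroup (Equiv.Perm α) := ((P : Subgroup G).map G.subtype) with hP'
  have hσP' : σ ∈ P' := ⟨(g : G), g.2, rfl⟩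
  have htr : ∀ a b : α, ∃ h ∈ P', h a = b := by
    intro a b
    have ha : σ a ≠ a := Equiv.Perm.mem_support.1 (by rw [hσsupp]; exact Finset.mem_univ _)
    have hb : σ b ≠ b := Equiv.Perm.mem_support.1 (by rw [hσsupp]; exact Finset.mem_univ _)
    obtain ⟨i, hi⟩ := hσcyc.sameCycle ha hb
    exact ⟨σ ^ i, P'.zpow_mem hσP' i, hi⟩
  -- P is commutative
  have hPcomm : ∀ x ∈ (P : Subgroup G), ∀ y ∈ (P : Subgroup G), x * y = y * x := by
    have hcyc : IsCyclic P := isCyclic_of_prime_card hP13
    intro x hx y hy
    have hmc := hcyc.isMulCommutative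
    have := mul_comm' (⟨x, hx⟩ : P) ⟨y, hy⟩
    exact congrArg Subtype.val this
  have hP'cent : P' ≤ Subgroup.centralizer (P' : Set (Equiv.Perm α)) := by
    rintro _ ⟨x, hx, rfl⟩
    rw [Subgroup.mem_centralizer_iff]
    rintro _ ⟨y, hy, rfl⟩
    have := hPcomm x hx y hy
    have := congrArg Subtype.val this
    simpa using this.symm
  have hcentP' := centralizer_eq_of_transitive_le htr htr hP'cent
  -- centralizer of P in G is P
  have hcent : Subgroup.centralizer ((P : Subgroup G) : Set G) = (P : Subgroup G) := by
    apply le_antisymm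
    · intro c hc
      have : (c : Equiv.Perm α) ∈ Subgroup.centralizer (P' : Set (Equiv.Perm α)) := by
        rw [Subgroup.mem_centralizer_iff]
        rintro _ ⟨y, hy, rfl⟩
        have := Subgroup.mem_centralizer_iff.1 hc y hy
        have := congrArg Subtype.val this
        simpa using this
      rw [hcentP'] at this
      obtain ⟨x, hx, hxc⟩ := this
      have : x = c := Subtype.ext hxc
      rwa [← this]
    · intro x hx
      rw [Subgroup.mem_centralizer_iff]
      intro y hy
      exact hPcomm y hy x hx
  -- N/C embeds in Aut P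
  set N : Subgroup G := Subgroup.normalizer ((P : Subgroup G) : Set G) with hN
  have hker : (P : Subgroup G).normalizerMonoidHom.ker = (P : Subgroup G).subgroupOf N := by
    rw [Subgroup.normalizerMonoidHom_ker, hcent]
  have hkercard : Nat.card (P : Subgroup G).normalizerMonoidHom.ker = 13 := by
    rw [hker]
    exact (Nat.card_congr (Subgroup.subgroupOfEquivOfLe (Subgroup.le_normalizer)).toEquiv).trans hP13
  have hrange : Nat.card (P : Subgroup G).normalizerMonoidHom.range ∣ 12 := by
    have h1 := Subgroup.card_subgroup_dvd_card (P : Subgroup G).normalizerMonoidHom.range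
    have hcyc : IsCyclic P := isCyclic_of_prime_card hP13
    rw [hcyc.card_mulAut, hP13] at h1
    have : Nat.totient 13 = 12 := by rw [Nat.totient_prime hprime.out]
    rwa [this] at h1
  have hNcard : Nat.card N = 13 * Nat.card (P : Subgroup G).normalizerMonoidHom.range := by
    have := Subgroup.card_mul_index (P : Subgroup G).normalizerMonoidHom.ker
    rw [hkercard, Subgroup.index_ker] at this
    exact this.symm
  have hidx : Nat.card (Sylow 13 G) = N.index := Sylow.card_eq_index_normalizer P
  have hmod : Nat.card (Sylow 13 G) ≡ 1 [MOD 13] := card_sylow_modEq_one 13 G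
  have hmul : Nat.card N * N.index = 1235520 := by rw [Subgroup.card_mul_index, hcard']
  rw [hidx] at hmod
  rw [hNcard] at hmul
  generalize Nat.card (P : Subgroup G).normalizerMonoidHom.range = d at hrange hmul
  generalize N.index = m at hmod hmul
  have hd : d ≤ 12 := Nat.le_of_dvd (by norm_num) hrange
  unfold Nat.ModEq at hmod
  interval_cases d <;> first | omega | (exfalso; revert hrange; norm_num)

end Cfsg.Agent.S0710
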