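import Mathlib
import Cfsg.Statements.S0711
import Cfsg.Agent.Lib.Helper10.SmallSupport

set_option autoImplicit false
open Cfsg

namespace Cfsg.Agent.S0711

open Cfsg.Agent.Lib.Helper10 in
/-- A `k`-transitive permutation group (`k ≥ 3`) with a non-identity element of support smaller than `2k - 2` contains a non-identity element of support at most 3, and therefore contains the alternating group. -/
theorem result {α : Type*} [Fintype α] [DecidableEq α] (G : Subgroup (Equiv.Perm α)) {k : ℕ} (hk : 3 ≤ k) (hkn : k ≤ Fintype.card α) (hG : MulAction.IsMultiplyPretransitive G α k) (g : Equiv.Perm α) (hg : g ∈ G) (hg1 : g ≠ 1) (hsupp : g.support.card < 2 * k - 2) : (∃ h : Equiv.Perm α, h ∈ G ∧ h ≠ 1 ∧ h.support.card ≤ 3) ∧ alternatingGroup α ≤ G := by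
  -- first part by strong induction on the size of the support
  have key : ∀ n : ℕ, ∀ g : Equiv.Perm α, g ∈ G → g ≠ 1 → g.support.card = n → n < 2 * k - 2 →
      ∃ h : Equiv.Perm α, h ∈ G ∧ h ≠ 1 ∧ h.support.card ≤ 3 := by
    intro n
    induction n using Nat.strong_induction_on with
    | _ n ih =>
      intro g hg hg1 hn hlt
      by_cases h3 : n ≤ 3
      · exact ⟨g, hg, hg1, by omega⟩
      · obtain ⟨c, hcG, hc1, hclt⟩ := reduce_support G hkn hG hg (by omega) (by omega)
        exact ih c.support.card (by omega) c hcG hc1 rfl (by omega)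
  have h1 := key _ g hg hg1 rfl hsupp
  refine ⟨h1, ?_⟩
  obtain ⟨h, hhG, hh1, hh3⟩ := h1
  -- `G` is primitive
  have h2t : MulAction.IsMultiplyPretransitive G α 2 :=
    MulAction.isMultiplyPretransitive_of_le (n := k) (by omega) (by rw [Nat.card_eq_fintype_card]; exact hkn)
  have hprim : MulAction.IsPreprimitive G α := MulAction.isPreprimitive_of_is_two_pretransitive h2t
  have hc0 : h.support.card ≠ 0 := by
    rw [Ne, Finset.card_eq_zero, Equiv.Perm.support_eq_empty_iff]
    exact hh1
  have hc1 : h.support.card ≠ 1 := Equiv.Perm.card_support_ne_one h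
  have hc : h.support.card = 2 ∨ h.support.card = 3 := by omega
  rcases hc with hc | hc
  · have hswap : h.IsSwap := Equiv.Perm.card_support_eq_two.1 hc
    have := Equiv.Perm.subgroup_eq_top_of_isPreprimitive_of_isSwap_mem hprim h hswap hhG
    rw [this]
    exact le_top
  · have h3c : h.IsThreeCycle := card_support_eq_three_iff.1 hc
    exact Equiv.Perm.alternatingGroup_le_of_isPreprimitive_of_isThreeCycle_mem hprim h3c hhG

end Cfsg.Agent.S0711
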