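import Mathlib
import Cfsg.Statements.S0713

set_option autoImplicit false
set_option linter.unusedSectionVars false
open Cfsg

namespace Cfsg.Agent.S0713

section Aux

open Equiv MulAction SubMulAction

variable {α : Type*} [Fintype α] [DecidableEq α]

/-- In a `k`-transitive group one can fix `k - 2` points pointwise and move two further points anywhere outside
them. -/
theorem exists_fixing_map₂ (G : Subgroup (Perm α)) {k : ℕ} (hG : IsMultiplyPretransitive G α k)
    (hkn : k ≤ Fintype.card α) (B : Finset α) (hB : B.card + 2 ≤ k) {a b a' b' : α}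
    (ha : a ∉ B) (hb : b ∉ B) (ha' : a' ∉ B) (hb' : b' ∉ B) (hab : a ≠ b) (hab' : a' ≠ b') :
    ∃ y ∈ G, (∀ x ∈ B, y x = x) ∧ y a = a' ∧ y b = b' := by
  have hn : (k : ENat) ≤ ENat.card α := by
    rw [ENat.card_eq_coe_fintype_card]
    exact_mod_cast hkn
  have h2 : IsMultiplyPretransitive (fixingSubgroup G (B : Set α)) (ofFixingSubgroup G (B : Set α)) 2 :=
    ofFixingSubgroup.isMultiplyPretransitive' (G := G) (n := k) (B : Set α)
      (by rw [Set.ncard_coe_finset]; exact hB) hn
  rw [is_two_pretransitive_iff] at h2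
  have hm : ∀ {c : α}, c ∉ B → c ∈ ofFixingSubgroup G (B : Set α) := by
    intro c hc
    rw [mem_ofFixingSubgroup_iff]; exact_mod_cast hc
  obtain ⟨y, hy1, hy2⟩ := @h2 ⟨a, hm ha⟩ ⟨b, hm hb⟩ ⟨a', hm ha'⟩ ⟨b', hm hb'⟩
    (fun h => hab (congrArg Subtype.val h)) (fun h => hab' (congrArg Subtype.val h))
  refine ⟨((y : G) : Perm α), (y : G).2, ?_, congrArg Subtype.val hy1, congrArg Subtype.val hy2⟩
  intro x hx
  exact (mem_fixingSubgroup_iff G).1 y.2 x (by exact_mod_cast hx)

/-- Witt-type lemma for a cycle of prime length `p`: any element of `G` preserving the fixed points of `g` can be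
corrected, without changing its action on those fixed points, to normalize `⟨g⟩`. -/
theorem exists_normalizing (G : Subgroup (Perm α)) {p : ℕ} (hp : p.Prime) {g : Perm α} (hgc : g.IsCycle)
    (hgp : g.support.card = p) (hg : g ∈ G) (x : Perm α) (hx : x ∈ G)
    (hxΔ : ∀ d, d ∉ g.support → x d ∉ g.support) :
    ∃ n ∈ G, (∀ d, d ∉ g.support → n d = x d) ∧ ∃ a : ℤ, n * g * n⁻¹ = g ^ a := by
  have hpf : Fact p.Prime := ⟨hp⟩
  -- `x` maps the support of `g` into itself
  have hxS : ∀ s, s ∈ g.support → x s ∈ g.support := by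
    intro s hs
    by_contra hcon
    -- x restricted to the complement is a bijection of the complement
    have himg : (g.supportᶜ).image x ⊆ g.supportᶜ := by
      intro z hz
      obtain ⟨w, hw, rfl⟩ := Finset.mem_image.1 hz
      rw [Finset.mem_compl] at hw ⊢
      exact hxΔ w hw
    have hcard : ((g.supportᶜ).image x).card = (g.supportᶜ).card :=
      Finset.card_image_of_injective _ x.injective
    have heq : (g.supportᶜ).image x = g.supportᶜ := Finset.eq_of_subset_of_card_le himg (by rw [hcard])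
    have : x s ∈ (g.supportᶜ).image x := by rw [heq, Finset.mem_compl]; exact hcon
    obtain ⟨w, hw, hws⟩ := Finset.mem_image.1 this
    rw [x.injective hws, Finset.mem_compl] at hw
    exact hw hs
  -- the pointwise stabilizer of the fixed points of `g`
  set K : Subgroup (Perm α) := G ⊓ (Perm.ofSubtype (p := (· ∈ g.support))).range with hK
  have hmemK : ∀ f : Perm α, f ∈ K ↔ f ∈ G ∧ ∀ d, d ∉ g.support → f d = d := by
    intro f
    rw [hK, Subgroup.mem_inf, Perm.mem_range_ofSubtype_iff]
    constructor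
    · rintro ⟨h1, h2⟩
      refine ⟨h1, fun d hd => ?_⟩
      by_contra hne
      exact hd (h2 (Perm.mem_support.2 hne))
    · rintro ⟨h1, h2⟩
      refine ⟨h1, fun d hd => ?_⟩
      by_contra hne
      exact (Perm.mem_support.1 hd) (h2 d hne)
  have hgK : g ∈ K := (hmemK g).2 ⟨hg, fun d hd => Perm.notMem_support.1 hd⟩
  have hg₂K : x * g * x⁻¹ ∈ K := by
    refine (hmemK _).2 ⟨G.mul_mem (G.mul_mem hx hg) (G.inv_mem hx), fun d hd => ?_⟩
    have : d ∉ (x * g * x⁻¹).support := by
      rw [Perm.support_conj]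
      intro h
      obtain ⟨s, hs, hsd⟩ := Finset.mem_map.1 h
      apply hd
      rw [← hsd]
      exact hxS s hs
    exact Perm.notMem_support.1 this
  -- cardinality of `K`
  have hKcard : Nat.card K ∣ p.factorial := by
    have h1 : Nat.card K ∣ Nat.card (Perm.ofSubtype (p := (· ∈ g.support))).range :=
      Subgroup.card_dvd_of_le inf_le_right
    have h2 : Nat.card (Perm.ofSubtype (p := (· ∈ g.support))).range =
        Nat.card (Perm {x // x ∈ g.support}) :=
      (Nat.card_congr (MonoidHom.ofInjective Perm.ofSubtype_injective).toEquiv).symm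
    have h3 : Nat.card {x // x ∈ g.support} = p := by
      rw [Nat.card_eq_fintype_card, Fintype.card_coe, hgp]
    rw [h2, Nat.card_perm, h3] at h1
    exact h1
  have hord : orderOf g = p := by rw [hgc.orderOf, hgp]
  have hord₂ : orderOf (x * g * x⁻¹) = p := by
    have := orderOf_injective (MulAut.conj x).toMonoidHom (MulAut.conj x).injective g
    simpa [MulAut.conj_apply, hord] using this
  have hfact : (Nat.card K).factorization p = 1 := by
    have hpK : p ∣ Nat.card K := by
      have := orderOf_dvd_natCard (⟨g, hgK⟩ : K)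
      rwa [Subgroup.orderOf_mk, hord] at this
    have hp2 : ¬ p ^ 2 ∣ Nat.card K := by
      intro h
      have h3 : p ^ 2 ∣ p.factorial := h.trans hKcard
      have hp1 : p.factorial = p * (p - 1).factorial := by
        have : p = (p - 1) + 1 := by have := hp.pos; omega
        conv_lhs => rw [this, Nat.factorial_succ]
        rw [← this]
      rw [hp1, pow_two] at h3
      have h4 : p ∣ (p - 1).factorial := (Nat.mul_dvd_mul_iff_left hp.pos).1 h3
      have := (hp.dvd_factorial).1 h4
      have := hp.pos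
      omega
    have hK0 : Nat.card K ≠ 0 := Nat.card_pos.ne'
    have h1 : 1 ≤ (Nat.card K).factorization p :=
      (hp.dvd_iff_one_le_factorization hK0).1 hpK
    have h2 : ¬ 2 ≤ (Nat.card K).factorization p := by
      intro h
      exact hp2 ((hp.pow_dvd_iff_le_factorization hK0).2 h)
    omega
  -- the two Sylow subgroups
  have hc₁ : Nat.card (Subgroup.zpowers (⟨g, hgK⟩ : K)) = p ^ (Nat.card K).factorization p := by
    rw [hfact, pow_one, Nat.card_zpowers, Subgroup.orderOf_mk, hord]
  have hc₂ : Nat.card (Subgroup.zpowers (⟨x * g * x⁻¹, hg₂K⟩ : K)) = p ^ (Nat.card K).factorization p := by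
    rw [hfact, pow_one, Nat.card_zpowers, Subgroup.orderOf_mk, hord₂]
  let S₁ : Sylow p K := Sylow.ofCard _ hc₁
  let S₂ : Sylow p K := Sylow.ofCard _ hc₂
  obtain ⟨k, hk⟩ := MulAction.exists_smul_eq K S₂ S₁
  have hmem : k * (⟨x * g * x⁻¹, hg₂K⟩ : K) * k⁻¹ ∈ (S₁ : Subgroup K) := by
    rw [← hk, Sylow.coe_subgroup_smul]
    have h1 : (⟨x * g * x⁻¹, hg₂K⟩ : K) ∈ (S₂ : Subgroup K) := by
      rw [Sylow.coe_ofCard]
      exact Subgroup.mem_zpowers _
    have := Subgroup.smul_mem_pointwise_smul _ (MulAut.conj k) _ h1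
    simpa [MulAut.smul_def] using this
  rw [Sylow.coe_ofCard, Subgroup.mem_zpowers_iff] at hmem
  obtain ⟨a, ha⟩ := hmem
  have hkK := (hmemK (k : Perm α)).1 k.2
  refine ⟨(k : Perm α) * x, G.mul_mem hkK.1 hx, ?_, a, ?_⟩
  · intro d hd
    rw [Perm.mul_apply]
    exact hkK.2 _ (hxΔ d hd)
  · have := congrArg Subtype.val ha
    simp only [Subgroup.coe_zpow, Subgroup.coe_mul, Subgroup.coe_inv] at this
    rw [this]
    simp only [mul_inv_rev]
    group

end Aux

open Equiv MulAction SubMulAction in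
/-- Jordan's Theorem: a primitive permutation group of degree `n ≥ 5` containing a `p`-cycle for a prime `p ≤ n - 3` contains the alternating group. -/
theorem result {α : Type*} [Fintype α] [DecidableEq α] (G : Subgroup (Equiv.Perm α)) (hG : MulAction.IsPreprimitive G α) {p : ℕ} (hp : p.Prime) (hn : 5 ≤ Fintype.card α) (hpn : p + 3 ≤ Fintype.card α) {g : Equiv.Perm α} (hgc : g.IsCycle) (hgp : g.support.card = p) (hg : g ∈ G) : alternatingGroup α ≤ G := by
  obtain ⟨n, hn'⟩ : ∃ n, Fintype.card α = p + 3 + n := ⟨Fintype.card α - (p + 3), by omega⟩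
  have hp2 : 2 ≤ p := hp.two_le
  -- Step 1: `G` is `(n + 4)`-transitive
  have hmp : IsMultiplyPreprimitive G α (n + 2 + 2) := by
    apply hG.isMultiplyPreprimitive (s := (g.supportᶜ : Set α))
    · apply Nat.add_left_cancel (n := (g.support : Set α).ncard)
      rw [Set.ncard_add_ncard_compl, Set.ncard_coe_finset, hgp, Nat.card_eq_fintype_card, hn']
      omega
    · rw [Nat.card_eq_fintype_card, hn']; omega
    have := Equiv.Perm.isPretransitive_of_isCycle_mem hgc hg
    apply IsPreprimitive.of_prime_card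
    have hcard : Nat.card (SubMulAction.ofFixingSubgroup G (g.supportᶜ : Set α)) = p := by
      rw [← hgp, ← Fintype.card_coe, ← Nat.card_eq_fintype_card]
      apply Nat.card_congr
      exact Equiv.subtypeEquivRight (fun x => by simp [SubMulAction.mem_ofFixingSubgroup_iff])
    rw [hcard]
    exact hp
  have hmt : IsMultiplyPretransitive G α (n + 4) :=
    IsMultiplyPreprimitive.isMultiplyPretransitive ..
  have hkn : n + 4 ≤ Fintype.card α := by omega
  -- Step 2: three fixed points of `g`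
  have hΔc : (g.supportᶜ).card = n + 3 := by
    rw [Finset.card_compl, hgp, hn']; omega
  obtain ⟨d₁, d₂, d₃, hd₁, hd₂, hd₃, h12, h13, h23⟩ := Finset.two_lt_card_iff.1 (by rw [hΔc]; omega : 2 < (g.supportᶜ).card)
  rw [Finset.mem_compl] at hd₁ hd₂ hd₃
  -- Step 3: elements normalizing ⟨g⟩ and inducing given transpositions on the fixed points
  have hstep : ∀ a b : α, a ∉ g.support → b ∉ g.support → a ≠ b →
      ∃ m ∈ G, (∀ d, d ∉ g.support → m d = swap a b d) ∧ ∃ e : ℤ, m * g * m⁻¹ = g ^ e := by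
    intro a b ha hb hab
    obtain ⟨x, hxG, hxB, hxa, hxb⟩ := exists_fixing_map₂ G hmt hkn ((g.supportᶜ.erase a).erase b)
      (by
        rw [Finset.card_erase_of_mem, Finset.card_erase_of_mem, hΔc]
        · omega
        · rw [Finset.mem_compl]; exact ha
        · rw [Finset.mem_erase, Finset.mem_compl]; exact ⟨hab.symm, hb⟩)
      (a := a) (b := b) (a' := b) (b' := a) (by simp) (by simp) (by simp) (by simp) hab hab.symm
    have hxsw : ∀ d, d ∉ g.support → x d = swap a b d := by
      intro d hd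
      by_cases hda : d = a
      · rw [hda, hxa, swap_apply_left]
      · by_cases hdb : d = b
        · rw [hdb, hxb, swap_apply_right]
        · rw [swap_apply_of_ne_of_ne hda hdb]
          apply hxB
          simp [hda, hdb, hd]
    have hxΔ : ∀ d, d ∉ g.support → x d ∉ g.support := by
      intro d hd
      rw [hxsw d hd]
      by_cases hda : d = a
      · rw [hda, swap_apply_left]; exact hb
      · by_cases hdb : d = b
        · rw [hdb, swap_apply_right]; exact ha
        · rw [swap_apply_of_ne_of_ne hda hdb]; exact hd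
    obtain ⟨m, hmG, hmd, e, he⟩ := exists_normalizing G hp hgc hgp hg x hxG hxΔ
    exact ⟨m, hmG, fun d hd => (hmd d hd).trans (hxsw d hd), e, he⟩
  obtain ⟨n₁, hn₁G, hn₁d, a, ha⟩ := hstep d₁ d₂ hd₁ hd₂ h12
  obtain ⟨n₂, hn₂G, hn₂d, b, hb⟩ := hstep d₂ d₃ hd₂ hd₃ h23
  -- swaps of fixed points preserve the fixed points
  have hswΔ : ∀ a b d : α, a ∉ g.support → b ∉ g.support → d ∉ g.support → swap a b d ∉ g.support := by
    intro a b d ha hb hd
    by_cases hda : d = a
    · rw [hda, swap_apply_left]; exact hb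
    · by_cases hdb : d = b
      · rw [hdb, swap_apply_right]; exact ha
      · rw [swap_apply_of_ne_of_ne hda hdb]; exact hd
  have hinv : ∀ (m : Perm α) (a b : α), a ∉ g.support → b ∉ g.support →
      (∀ d, d ∉ g.support → m d = swap a b d) → ∀ d, d ∉ g.support → m⁻¹ d = swap a b d := by
    intro m a b ha hb hm d hd
    rw [Perm.inv_eq_iff_eq, hm _ (hswΔ a b d ha hb hd), swap_apply_self]
  -- Step 4: the commutator centralizes `g`
  set u := n₁ * n₂ with hu
  set v := n₂ * n₁ with hv
  have huv : u * g * u⁻¹ = v * g * v⁻¹ := by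
    have h1 : u * g * u⁻¹ = g ^ (a * b) := by
      calc u * g * u⁻¹ = n₁ * (n₂ * g * n₂⁻¹) * n₁⁻¹ := by rw [hu]; group
        _ = n₁ * g ^ b * n₁⁻¹ := by rw [hb]
        _ = (n₁ * g * n₁⁻¹) ^ b := by rw [conj_zpow]
        _ = g ^ (a * b) := by rw [ha, zpow_mul]
    have h2 : v * g * v⁻¹ = g ^ (b * a) := by
      calc v * g * v⁻¹ = n₂ * (n₁ * g * n₁⁻¹) * n₂⁻¹ := by rw [hv]; group
        _ = n₂ * g ^ a * n₂⁻¹ := by rw [ha]
        _ = (n₂ * g * n₂⁻¹) ^ a := by rw [conj_zpow]
        _ = g ^ (b * a) := by rw [hb, zpow_mul]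
    rw [h1, h2, mul_comm]
  set z := v⁻¹ * u with hz
  have hzG : z ∈ G := G.mul_mem (G.inv_mem (G.mul_mem hn₂G hn₁G)) (G.mul_mem hn₁G hn₂G)
  have hzg : Commute z g := by
    show z * g = g * z
    calc z * g = v⁻¹ * (u * g * u⁻¹) * u := by rw [hz]; group
      _ = v⁻¹ * (v * g * v⁻¹) * u := by rw [huv]
      _ = g * z := by rw [hz]; group
  -- Step 5: action of `z` on the fixed points of `g`
  set τ : Perm α := swap d₁ d₂ * swap d₂ d₃ * (swap d₁ d₂ * swap d₂ d₃) with hτ
  have hzΔ : ∀ d, d ∉ g.support → z d = τ d := by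
    intro d hd
    have e1 : n₂ d = swap d₂ d₃ d := hn₂d d hd
    have e1' := hswΔ d₂ d₃ d hd₂ hd₃ hd
    have e2 : n₁ (swap d₂ d₃ d) = swap d₁ d₂ (swap d₂ d₃ d) := hn₁d _ e1'
    have e2' := hswΔ d₁ d₂ _ hd₁ hd₂ e1'
    have e3 : n₂⁻¹ (swap d₁ d₂ (swap d₂ d₃ d)) = swap d₂ d₃ (swap d₁ d₂ (swap d₂ d₃ d)) :=
      hinv n₂ d₂ d₃ hd₂ hd₃ hn₂d _ e2'
    have e3' := hswΔ d₂ d₃ _ hd₂ hd₃ e2'
    have e4 : n₁⁻¹ (swap d₂ d₃ (swap d₁ d₂ (swap d₂ d₃ d))) =
        swap d₁ d₂ (swap d₂ d₃ (swap d₁ d₂ (swap d₂ d₃ d))) :=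
      hinv n₁ d₁ d₂ hd₁ hd₂ hn₁d _ e3'
    simp only [hz, hv, hu, hτ, mul_inv_rev, Perm.mul_apply]
    rw [e1, e2, e3, e4]
  -- Step 6: correct `z` by a power of `g`
  obtain ⟨s, hs⟩ : g.support.Nonempty := Finset.card_pos.1 (by omega)
  rw [Perm.mem_support] at hs
  have hzs : g (z s) ≠ z s := by
    intro h
    have h1 : z (g s) = g (z s) := by
      have := congrArg (fun f : Perm α => f s) hzg.eq
      simpa [Perm.mul_apply] using this
    rw [h] at h1
    exact hs (z.injective h1)
  obtain ⟨i, hi⟩ := hgc.sameCycle hs hzs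
  have hτG : τ ∈ G := by
    have : τ = z * g ^ (-i) := by
      ext w
      by_cases hw : w ∈ g.support
      · rw [Perm.mem_support] at hw
        obtain ⟨j, hj⟩ := hgc.sameCycle hs hw
        have hc : Commute z (g ^ (-i + j)) := hzg.zpow_right _
        have e1 : (z * g ^ (-i)) w = w := by
          rw [← hj, Perm.mul_apply, ← Perm.mul_apply (g ^ (-i)), ← zpow_add, ← Perm.mul_apply, hc.eq,
            Perm.mul_apply, ← hi, ← Perm.mul_apply, ← zpow_add]
          congr 2
          ring
        rw [e1]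
        have hw' : w ∈ g.support := Perm.mem_support.2 hw
        have n1 : w ≠ d₁ := fun h => hd₁ (h ▸ hw')
        have n2 : w ≠ d₂ := fun h => hd₂ (h ▸ hw')
        have n3 : w ≠ d₃ := fun h => hd₃ (h ▸ hw')
        simp only [hτ, Perm.mul_apply]
        rw [swap_apply_of_ne_of_ne n2 n3, swap_apply_of_ne_of_ne n1 n2, swap_apply_of_ne_of_ne n2 n3,
          swap_apply_of_ne_of_ne n1 n2]
      · have e1 : (g ^ (-i)) w = w :=
          Perm.zpow_apply_eq_self_of_apply_eq_self (Perm.notMem_support.1 hw) _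
        show τ w = z ((g ^ (-i)) w)
        rw [e1, hzΔ w hw]
    rw [this]
    exact G.mul_mem hzG (G.zpow_mem hg _)
  -- Step 7: `τ` is a three-cycle
  have hτ3 : τ.IsThreeCycle := by
    have h1 : (swap d₁ d₂ * swap d₂ d₃).IsThreeCycle := by
      rw [swap_comm d₁ d₂]
      exact Perm.isThreeCycle_swap_mul_swap_same h12.symm h23 h13
    exact h1.isThreeCycle_sq
  exact Equiv.Perm.alternatingGroup_le_of_isPreprimitive_of_isThreeCycle_mem hG hτ3 hτG

end Cfsg.Agent.S0713
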