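import Mathlib
import Cfsg.Statements.S0714

set_option autoImplicit false
open Cfsg

namespace Cfsg.Agent.S0714

section Aux

open Equiv MulAction

variable {α : Type*} [Fintype α] [DecidableEq α] {K : Type*} [Field K]

theorem permRep_apply (g : alternatingGroup α) (f : α → K) (x : α) :
    (Cfsg.permRep K (alternatingGroup α) α g f) x = f ((g : Perm α)⁻¹ x) := rfl

/-- The three-cycle `x → d → e → x` as an element of the alternating group. -/
def cyc3 (x d e : α) (hxd : x ≠ d) (hxe : x ≠ e) (hde : d ≠ e) : alternatingGroup α :=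
  ⟨swap x d * swap d e, by
    have h : (swap x d * swap d e).IsThreeCycle := by
      rw [swap_comm x d]
      exact Perm.isThreeCycle_swap_mul_swap_same hxd.symm hde hxe
    exact h.mem_alternatingGroup⟩

theorem cyc3_inv_x (x d e : α) (hxd : x ≠ d) (hxe : x ≠ e) (hde : d ≠ e) :
    ((cyc3 x d e hxd hxe hde : alternatingGroup α) : Perm α)⁻¹ x = e := by
  rw [Perm.inv_eq_iff_eq]
  show x = (swap x d * swap d e) e
  rw [Perm.mul_apply, swap_apply_right, swap_apply_right]

theorem cyc3_inv_d (x d e : α) (hxd : x ≠ d) (hxe : x ≠ e) (hde : d ≠ e) :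
    ((cyc3 x d e hxd hxe hde : alternatingGroup α) : Perm α)⁻¹ d = x := by
  rw [Perm.inv_eq_iff_eq]
  show d = (swap x d * swap d e) x
  rw [Perm.mul_apply, swap_apply_of_ne_of_ne hxd hxe, swap_apply_left]

theorem cyc3_inv_e (x d e : α) (hxd : x ≠ d) (hxe : x ≠ e) (hde : d ≠ e) :
    ((cyc3 x d e hxd hxe hde : alternatingGroup α) : Perm α)⁻¹ e = d := by
  rw [Perm.inv_eq_iff_eq]
  show e = (swap x d * swap d e) d
  rw [Perm.mul_apply, swap_apply_left, swap_apply_of_ne_of_ne hxe.symm hde.symm]

theorem cyc3_inv_other (x d e : α) (hxd : x ≠ d) (hxe : x ≠ e) (hde : d ≠ e) (y : α) (hyx : y ≠ x)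
    (hyd : y ≠ d) (hye : y ≠ e) :
    ((cyc3 x d e hxd hxe hde : alternatingGroup α) : Perm α)⁻¹ y = y := by
  rw [Perm.inv_eq_iff_eq]
  show y = (swap x d * swap d e) y
  rw [Perm.mul_apply, swap_apply_of_ne_of_ne hyd hye, swap_apply_of_ne_of_ne hyx hyd]

/-- Key step: if `u x ≠ 0` and `u` vanishes at two further points `d, e`, then `e_x - e_d ∈ W`. -/
theorem diff_mem (W : Subrepresentation (Cfsg.permRep K (alternatingGroup α) α)) {u : α → K}
    (hu : u ∈ W.toSubmodule) {x d e : α} (hxd : x ≠ d) (hxe : x ≠ e) (hde : d ≠ e) (hux : u x ≠ 0)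
    (hud : u d = 0) (hue : u e = 0) :
    (Pi.single x (1 : K) - Pi.single d (1 : K) : α → K) ∈ W.toSubmodule := by
  set h := cyc3 x d e hxd hxe hde with hh
  have h1 : u - Cfsg.permRep K (alternatingGroup α) α h u ∈ W.toSubmodule :=
    W.toSubmodule.sub_mem hu (W.apply_mem_toSubmodule h hu)
  have h2 : u - Cfsg.permRep K (alternatingGroup α) α h u =
      u x • (Pi.single x (1 : K) - Pi.single d (1 : K) : α → K) := by
    funext y
    simp only [Pi.sub_apply, Pi.smul_apply, smul_eq_mul, permRep_apply]
    by_cases hyx : y = x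
    · subst hyx
      rw [hh, cyc3_inv_x, hue]
      simp [hxd]
    · by_cases hyd : y = d
      · subst hyd
        rw [hh, cyc3_inv_d, hud]
        simp [hyx]
      · by_cases hye : y = e
        · subst hye
          rw [hh, cyc3_inv_e, hue, hud]
          simp [hyx, hyd]
        · rw [hh, cyc3_inv_other x d e hxd hxe hde y hyx hyd hye]
          simp [hyx, hyd]
  rw [h2] at h1
  have h3 := W.toSubmodule.smul_mem (u x)⁻¹ h1
  rwa [smul_smul, inv_mul_cancel₀ hux, one_smul] at h3

end Aux

open Equiv MulAction in
/-- Over any field, the permutation module of the alternating group of degree at least 5 has exactly four invariant subspaces: zero, the constant functions, the functions with coordinate sum zero, and everything. -/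
theorem result {α : Type*} [Fintype α] [DecidableEq α] (hα : 5 ≤ Fintype.card α) {K : Type*} [Field K] (W : Subrepresentation (Cfsg.permRep K (alternatingGroup α) α)) : W.toSubmodule = ⊥ ∨ W = Cfsg.permConstants K (alternatingGroup α) α ∨ W = Cfsg.permSumZero K (alternatingGroup α) α ∨ W.toSubmodule = ⊤ := by
  classical
  by_cases hbot : W.toSubmodule = ⊥
  · exact Or.inl hbot
  right
  by_cases hconst : ∀ w ∈ W.toSubmodule, ∀ a b : α, w a = w b
  · -- all vectors constant
    left
    apply Subrepresentation.toSubmodule_injective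
    show W.toSubmodule = Submodule.span K {fun _ => 1}
    have hne : Nonempty α := Fintype.card_pos_iff.1 (by omega)
    obtain ⟨x₀⟩ := hne
    apply le_antisymm
    · intro w hw
      rw [Submodule.mem_span_singleton]
      refine ⟨w x₀, ?_⟩
      funext y
      simp [hconst w hw y x₀]
    · rw [Submodule.span_singleton_le_iff_mem]
      obtain ⟨w, hw, hw0⟩ := (Submodule.ne_bot_iff _).1 hbot
      have hc : w x₀ ≠ 0 := by
        intro h0
        apply hw0
        funext y
        rw [hconst w hw y x₀, h0]
        rfl
      have h1 := W.toSubmodule.smul_mem (w x₀)⁻¹ hw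
      have h2 : (w x₀)⁻¹ • w = fun _ => (1 : K) := by
        funext y
        simp only [Pi.smul_apply, smul_eq_mul]
        rw [hconst w hw y x₀, inv_mul_cancel₀ hc]
      rwa [h2] at h1
  · right
    push_neg at hconst
    obtain ⟨w, hw, a, b, hab⟩ := hconst
    have hab' : a ≠ b := fun h => hab (by rw [h])
    -- three further points
    have h5 : ∃ c d e : α, c ≠ a ∧ c ≠ b ∧ d ≠ a ∧ d ≠ b ∧ e ≠ a ∧ e ≠ b ∧ c ≠ d ∧ c ≠ e ∧ d ≠ e := by
      have hcard : 2 < ((Finset.univ.erase a).erase b).card := by
        rw [Finset.card_erase_of_mem (by simp [hab'.symm]), Finset.card_erase_of_mem (Finset.mem_univ _),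
          Finset.card_univ]
        omega
      obtain ⟨c, d, e, hc, hd, he, hcd, hce, hde⟩ := Finset.two_lt_card_iff.1 hcard
      simp only [Finset.mem_erase, Finset.mem_univ, and_true] at hc hd he
      exact ⟨c, d, e, hc.2, hc.1, hd.2, hd.1, he.2, he.1, hcd, hce, hde⟩
    obtain ⟨c, d, e, hca, hcb, hda, hdb, hea, heb, hcd, hce, hde⟩ := h5
    -- step A: `u = w - k w` for the three-cycle `k = (b c a)`
    set k := cyc3 b c a hcb.symm hab'.symm hca with hk
    have hu : w - Cfsg.permRep K (alternatingGroup α) α k w ∈ W.toSubmodule :=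
      W.toSubmodule.sub_mem hw (W.apply_mem_toSubmodule k hw)
    set u := w - Cfsg.permRep K (alternatingGroup α) α k w with hudef
    have hub : u b ≠ 0 := by
      simp only [hudef, Pi.sub_apply, permRep_apply]
      rw [hk, cyc3_inv_x]
      exact sub_ne_zero.2 (Ne.symm hab)
    have hud : u d = 0 := by
      simp only [hudef, Pi.sub_apply, permRep_apply]
      rw [hk, cyc3_inv_other b c a hcb.symm hab'.symm hca d hdb hcd.symm hda, sub_self]
    have hue : u e = 0 := by
      simp only [hudef, Pi.sub_apply, permRep_apply]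
      rw [hk, cyc3_inv_other b c a hcb.symm hab'.symm hca e heb hce.symm hea, sub_self]
    have hdiff := diff_mem W hu hdb.symm heb.symm hde hub hud hue
    -- all differences lie in `W`
    have h2t : IsMultiplyPretransitive (alternatingGroup α) α 2 := by
      have h := alternatingGroup.isMultiplyPretransitive α
      exact isMultiplyPretransitive_of_le (n := Nat.card α - 2)
        (by rw [Nat.card_eq_fintype_card]; omega) (by omega)
    rw [is_two_pretransitive_iff] at h2t
    have hall : ∀ x y : α, x ≠ y → (Pi.single x (1 : K) - Pi.single y (1 : K) : α → K) ∈ W.toSubmodule := by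
      intro x y hxy
      obtain ⟨g, hgx, hgy⟩ := h2t hdb.symm hxy
      have h1 := W.apply_mem_toSubmodule g hdiff
      have h2 : Cfsg.permRep K (alternatingGroup α) α g (Pi.single b (1 : K) - Pi.single d (1 : K) : α → K) =
          (Pi.single x (1 : K) - Pi.single y (1 : K) : α → K) := by
        funext z
        simp only [permRep_apply, Pi.sub_apply, Pi.single_apply]
        have e1 : ((g : Perm α)⁻¹ z = b) ↔ z = x := by
          rw [Perm.inv_eq_iff_eq, ← hgx]; rfl
        have e2 : ((g : Perm α)⁻¹ z = d) ↔ z = y := by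
          rw [Perm.inv_eq_iff_eq, ← hgy]; rfl
        simp only [e1, e2]
      rwa [h2] at h1
    -- the sum-zero functions lie in `W`
    have hsz : (Cfsg.permSumZero K (alternatingGroup α) α).toSubmodule ≤ W.toSubmodule := by
      intro f hf
      have hf0 : ∑ x, f x = 0 := hf
      have hfe : f = ∑ x, f x • (Pi.single x (1 : K) - Pi.single a (1 : K) : α → K) := by
        funext y
        simp only [Finset.sum_apply, Pi.smul_apply, Pi.sub_apply, smul_eq_mul, mul_sub, Pi.single_apply,
          Finset.sum_sub_distrib, mul_ite, mul_one, mul_zero]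
        rw [Finset.sum_ite_eq Finset.univ y]
        simp only [Finset.mem_univ, if_true]
        by_cases hya : y = a
        · subst hya
          simp [hf0]
        · simp [hya]
      rw [hfe]
      apply W.toSubmodule.sum_mem
      intro x _
      by_cases hxa : x = a
      · rw [hxa, sub_self, smul_zero]
        exact W.toSubmodule.zero_mem
      · exact W.toSubmodule.smul_mem _ (hall x a hxa)
    by_cases hle : W.toSubmodule ≤ (Cfsg.permSumZero K (alternatingGroup α) α).toSubmodule
    · left
      apply Subrepresentation.toSubmodule_injective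
      exact le_antisymm hle hsz
    · right
      rw [SetLike.not_le_iff_exists] at hle
      obtain ⟨v, hv, hvs⟩ := hle
      have hvs' : ∑ x, v x ≠ 0 := hvs
      rw [eq_top_iff]
      intro f _
      set cst := (∑ x, f x) / (∑ x, v x) with hcst
      have h1 : f - cst • v ∈ (Cfsg.permSumZero K (alternatingGroup α) α).toSubmodule := by
        show ∑ x, (f - cst • v) x = 0
        simp only [Pi.sub_apply, Pi.smul_apply, smul_eq_mul, Finset.sum_sub_distrib, ← Finset.mul_sum]
        rw [hcst, div_mul_cancel₀ _ hvs', sub_self]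
      have h2 : f = (f - cst • v) + cst • v := by abel
      rw [h2]
      exact W.toSubmodule.add_mem (hsz h1) (W.toSubmodule.smul_mem _ hv)

end Cfsg.Agent.S0714
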