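import Cfsg.Statements.S0717
import Cfsg.Agent.Lib.Helper26.SelfPaired

set_option autoImplicit false
open Cfsg

namespace Cfsg.Agent.S0717
open Cfsg.Agent.Lib.Helper26

/-- All suborbits of a transitive group are self-paired (every pair of points is interchanged by some group element) if and only if the permutation character is multiplicity-free and each of its irreducible constituents is real-valued. -/
theorem result {G : Type*} [Group G] [Fintype G] {Ω : Type*} [Fintype Ω] [MulAction G Ω] [MulAction.IsPretransitive G Ω] : (∀ a b : Ω, ∃ g : G, g • a = b ∧ g • b = a) ↔ ∀ χ : G → ℂ, Cfsg.IsIrrCharacter G χ → Cfsg.classInner (fun g : G => (Nat.card (MulAction.fixedBy Ω g) : ℂ)) χ ≠ 0 → Cfsg.classInner (fun g : G => (Nat.card (MulAction.fixedBy Ω g) : ℂ)) χ = 1 ∧ ∀ g : G, (starRingEnd ℂ) (χ g) = χ g := by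
  classical
  have hρeq : Cfsg.permRep ℂ G Ω = Cfsg.Agent.Lib.Helper28.permRep G Ω := by
    ext g f x
    rfl
  have hchar : (Cfsg.permRep ℂ G Ω).character =
      fun g : G => (Nat.card (MulAction.fixedBy Ω g) : ℂ) := by
    funext g
    rw [hρeq]
    exact Cfsg.Agent.Lib.Helper28.permRep_character' G Ω g
  rw [← hchar]
  constructor
  · intro hswap
    have hsym := dotB_symm_of_swap (G := G) (Ω := Ω) hswap
    have hcomm := comp_comm_of_dotB_symm (G := G) (Ω := Ω) hsym
    have hmf := (multFree_iff_commute (Cfsg.permRep ℂ G Ω)).mpr (fun S T hS hT =>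
      hcomm S T ((mem_invariants_linHom_iff (Cfsg.permRep ℂ G Ω) S).mp hS)
        ((mem_invariants_linHom_iff (Cfsg.permRep ℂ G Ω) T).mp hT))
    intro χ hχ hne
    refine ⟨?_, ?_⟩
    · rcases hmf χ hχ with h0 | h1
      · exact absurd h0 hne
      · exact h1
    · obtain ⟨n, τ, hτ, rfl⟩ := hχ
      intro g
      exact real_of_symm (Cfsg.permRep ℂ G Ω) (dotB Ω) dotB_perm_invariant dotB_nondeg hsym
        τ hτ hne g
  · intro H
    have hmf' : ∀ (n : ℕ) (τ : Representation ℂ G (Fin n → ℂ)), τ.IsIrreducible →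
        Module.finrank ℂ (Representation.IntertwiningMap τ (Cfsg.permRep ℂ G Ω)) ≤ 1 := by
      intro n τ hτ
      by_cases h0 : Module.finrank ℂ
          (Representation.IntertwiningMap τ (Cfsg.permRep ℂ G Ω)) = 0
      · omega
      · have h1 := Cfsg.Agent.Lib.Helper4.classInner_eq_finrank_intertwining τ
          (Cfsg.permRep ℂ G Ω)
        have h2 : Cfsg.classInner (Cfsg.permRep ℂ G Ω).character τ.character ≠ 0 := by
          rw [h1]
          exact_mod_cast h0
        have h3 := (H τ.character ⟨n, τ, hτ, rfl⟩ h2).1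
        rw [h1] at h3
        have h4 : Module.finrank ℂ
            (Representation.IntertwiningMap τ (Cfsg.permRep ℂ G Ω)) = 1 := by exact_mod_cast h3
        omega
    have hreal' : ∀ (n : ℕ) (τ : Representation ℂ G (Fin n → ℂ)), τ.IsIrreducible →
        Module.finrank ℂ (Representation.IntertwiningMap τ (Cfsg.permRep ℂ G Ω)) ≠ 0 →
        ∀ g, (starRingEnd ℂ) (τ.character g) = τ.character g := by
      intro n τ hτ h0
      have h1 := Cfsg.Agent.Lib.Helper4.classInner_eq_finrank_intertwining τ
        (Cfsg.permRep ℂ G Ω)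
      have h2 : Cfsg.classInner (Cfsg.permRep ℂ G Ω).character τ.character ≠ 0 := by
        rw [h1]
        exact_mod_cast h0
      exact (H τ.character ⟨n, τ, hτ, rfl⟩ h2).2
    have hsym := symm_of_multFree_real (Cfsg.permRep ℂ G Ω) (dotB Ω) dotB_perm_invariant
      hmf' hreal'
    intro a b
    exact exists_swap_of_dotB_symm (G := G) (Ω := Ω) hsym a b

end Cfsg.Agent.S0717
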