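import Mathlib
import Cfsg.Statements.S0719
import Cfsg.Agent.Lib.Helper10.RankThreeA
import Cfsg.Agent.Lib.Helper10.RankThreeB
import Cfsg.Agent.Lib.Helper10.RankThreeC
import Cfsg.Agent.Lib.Helper4.BurnsideClass

set_option autoImplicit false
open Cfsg

namespace Cfsg.Agent.S0719


/-- Groups of Wielandt type: if a primitive group of degree `2m` has rank 3 and permutation character `1 + χ₁ + χ₂` with irreducible `χ₁, χ₂` of degrees `m - 1` and `m`, then `m = 2a² + 2a + 1` for some positive integer `a` and the two non-trivial subdegrees are `a(2a+1)` and `(a+1)(2a+1)`. -/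
theorem result {G : Type*} [Group G] [Fintype G] {Ω : Type*} [Fintype Ω] [MulAction G Ω] (hprim : MulAction.IsPreprimitive G Ω) {m : ℕ} (hm : Fintype.card Ω = 2 * m) (a₀ : Ω) (hrank : Nat.card (MulAction.orbitRel.Quotient (MulAction.stabilizer G a₀) Ω) = 3) (χ₁ χ₂ : G → ℂ) (h₁ : Cfsg.IsIrrCharacter G χ₁) (h₂ : Cfsg.IsIrrCharacter G χ₂) (hπ : (fun g : G => (Nat.card (MulAction.fixedBy Ω g) : ℂ)) = fun g => 1 + χ₁ g + χ₂ g) (hd₁ : χ₁ 1 = (m : ℂ) - 1) (hd₂ : χ₂ 1 = m) : ∃ a : ℕ, 0 < a ∧ m = 2 * a ^ 2 + 2 * a + 1 ∧ ∀ b : Ω, b ≠ a₀ → Nat.card (MulAction.orbit (MulAction.stabilizer G a₀) b) = a * (2 * a + 1) ∨ Nat.card (MulAction.orbit (MulAction.stabilizer G a₀) b) = (a + 1) * (2 * a + 1) := by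
  classical
  haveI : Fintype (IrrCharacter G) := Fintype.ofFinite _
  haveI : MulAction.IsPretransitive G Ω := hprim.toIsPretransitive
  obtain ⟨π, hπdef⟩ : ∃ π : G → ℂ, π = fun g : G => (Nat.card (MulAction.fixedBy Ω g) : ℂ) :=
    ⟨_, rfl⟩
  rw [← hπdef] at hπ
  obtain ⟨T, hT⟩ : ∃ t : IrrCharacter G, (t : G → ℂ) = fun _ => 1 :=
    ⟨⟨fun _ => 1, Cfsg.Agent.Lib.Helper4.isIrrCharacter_one⟩, rfl⟩
  obtain ⟨X1, hX1⟩ : ∃ t : IrrCharacter G, (t : G → ℂ) = χ₁ := ⟨⟨χ₁, h₁⟩, rfl⟩
  obtain ⟨X2, hX2⟩ : ∃ t : IrrCharacter G, (t : G → ℂ) = χ₂ := ⟨⟨χ₂, h₂⟩, rfl⟩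
  have hπsum : π = (T : G → ℂ) + (X1 : G → ℂ) + (X2 : G → ℂ) := by
    rw [hπ, hT, hX1, hX2]
    rfl
  have hinner : ∀ χ : IrrCharacter G, classInner π χ =
      (if T = χ then 1 else 0) + (if X1 = χ then 1 else 0) + (if X2 = χ then 1 else 0) := by
    intro χ
    rw [hπsum, Cfsg.Agent.Lib.Helper26.classInner_add_left,
      Cfsg.Agent.Lib.Helper26.classInner_add_left, Cfsg.Agent.Lib.Helper4.classInner_irr,
      Cfsg.Agent.Lib.Helper4.classInner_irr, Cfsg.Agent.Lib.Helper4.classInner_irr]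
  have hcH : (Nat.card (MulAction.stabilizer G a₀) : ℂ) ≠ 0 := by
    have : Nat.card (MulAction.stabilizer G a₀) ≠ 0 := Nat.card_pos.ne'
    exact_mod_cast this
  have hπT : classInner π T = 1 := by
    have hπind : π = indFun (MulAction.stabilizer G a₀) (fun _ => (1 : ℂ)) := by
      rw [hπdef]
      exact Cfsg.Agent.Lib.Helper26.permChar_eq_indFun' a₀
    rw [hπind, Cfsg.Agent.Lib.Helper26.classInner_indFun_left' _ _ _
      (Cfsg.Agent.Lib.Helper26.isClassFunction_of_isIrrCharacter T.2), hT]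
    unfold classInner
    simp only [Function.comp_apply, map_one, mul_one, Finset.sum_const, Finset.card_univ,
      nsmul_eq_mul]
    rw [← Nat.card_eq_fintype_card, inv_mul_cancel₀ hcH]
  have hTX : X1 ≠ T ∧ X2 ≠ T := by
    have h := hinner T
    rw [hπT, if_pos rfl] at h
    by_cases h1 : X1 = T
    · rw [if_pos h1] at h
      by_cases h2 : X2 = T
      · rw [if_pos h2] at h; norm_num at h
      · rw [if_neg h2] at h; norm_num at h
    · by_cases h2 : X2 = T
      · rw [if_neg h1, if_pos h2] at h; norm_num at h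
      · exact ⟨h1, h2⟩
  have hX12 : X1 ≠ X2 := by
    intro h
    have h3 : χ₁ = χ₂ := by rw [← hX1, ← hX2, h]
    rw [h3, hd₂] at hd₁
    have : (m : ℂ) - 1 = m := hd₁.symm
    have h4 : (-1 : ℂ) = 0 := by linear_combination this
    norm_num at h4
  have hmf : ∀ χ : IrrCharacter G, classInner π χ = 0 ∨ classInner π χ = 1 := by
    intro χ
    rw [hinner]
    by_cases h0 : T = χ
    · right
      rw [if_pos h0, if_neg, if_neg]
      · norm_num
      · rw [← h0]; exact hTX.2
      · rw [← h0]; exact hTX.1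
    · by_cases h1 : X1 = χ
      · right
        rw [if_neg h0, if_pos h1, if_neg]
        · norm_num
        · rw [← h1]; exact fun h => hX12 h.symm
      · by_cases h2 : X2 = χ
        · right
          rw [if_neg h0, if_neg h1, if_pos h2]
          norm_num
        · left
          rw [if_neg h0, if_neg h1, if_neg h2]
          norm_num
  have hmf0 : ∀ χ : IrrCharacter G,
      classInner (fun g : G => (Nat.card (MulAction.fixedBy Ω g) : ℂ)) χ = 0 ∨
      classInner (fun g : G => (Nat.card (MulAction.fixedBy Ω g) : ℂ)) χ = 1 := by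
    rw [← hπdef]
    exact hmf
  have hcardΩ : Nat.card Ω = 2 * m := by rw [Nat.card_eq_fintype_card, hm]
  have hm2 : 2 ≤ m := by
    have hsurj : Function.Surjective
        (fun x : Ω => (Quotient.mk'' x : MulAction.orbitRel.Quotient (MulAction.stabilizer G a₀) Ω)) := by
      intro q
      induction q using Quotient.inductionOn' with
      | h x => exact ⟨x, rfl⟩
    have := Nat.card_le_card_of_surjective _ hsurj
    rw [hrank, hcardΩ] at this
    omega
  -- contradiction from an extra fixed point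
  have hnofix : ∀ b : Ω, b ≠ a₀ → (∀ h ∈ MulAction.stabilizer G a₀, h • b = b) → False := by
    intro b hb hfix
    have h1 := Cfsg.Agent.Lib.Helper10.RankThree.stabilizer_fixes_all hprim a₀ b hb hfix
    have h2 := Cfsg.Agent.Lib.Helper10.RankThree.card_quotient_of_fixes_all
      (MulAction.stabilizer G a₀) h1
    rw [hrank, hcardΩ] at h2
    omega
  have key : ∀ b : Ω, b ≠ a₀ → ∃ a : ℕ, m = 2 * a ^ 2 + 2 * a + 1 ∧
      (Nat.card (MulAction.orbit (MulAction.stabilizer G a₀) b) = a * (2 * a + 1) ∨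
        Nat.card (MulAction.orbit (MulAction.stabilizer G a₀) b) = (a + 1) * (2 * a + 1)) := by
    intro b hb
    obtain ⟨Δ, hΔ⟩ : ∃ Δ : Finset Ω, Δ = Finset.univ.filter
        (fun c => c ∈ MulAction.orbit (MulAction.stabilizer G a₀) b) := ⟨_, rfl⟩
    have hmemΔ : ∀ c, c ∈ Δ ↔ c ∈ MulAction.orbit (MulAction.stabilizer G a₀) b := by
      intro c
      rw [hΔ]
      simp
    have hn : Nat.card (MulAction.orbit (MulAction.stabilizer G a₀) b) = Δ.card :=
      Nat.subtype_card Δ hmemΔ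
    rw [hn]
    have hbΔ : b ∈ Δ := (hmemΔ b).mpr (MulAction.mem_orbit_self b)
    have hΔinv : ∀ h ∈ MulAction.stabilizer G a₀, ∀ c ∈ Δ, h • c ∈ Δ := by
      intro h hh c hc
      rw [hmemΔ] at hc ⊢
      obtain ⟨h', hh'⟩ := hc
      have h2 : (h' : G) • b = c := hh'
      refine ⟨⟨h, hh⟩ * h', ?_⟩
      show (h * (h' : G)) • b = h • c
      rw [mul_smul, h2]
    have ha₀Δ : a₀ ∉ Δ := by
      intro h
      rw [hmemΔ] at h
      obtain ⟨h', hh'⟩ := h
      have h2 : (h' : G) • b = a₀ := hh'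
      have h3 : (h' : G) • a₀ = a₀ := MulAction.mem_stabilizer_iff.mp h'.2
      apply hb
      have h4 : (h' : G) • b = (h' : G) • a₀ := by rw [h2, h3]
      exact MulAction.injective (h' : G) h4
    obtain ⟨c, hca, hcΔ⟩ : ∃ c, c ≠ a₀ ∧ c ∉ Δ := by
      by_contra hno
      push Not at hno
      have hsurj : Function.Surjective (fun i : Bool =>
          if i then (Quotient.mk'' a₀ : MulAction.orbitRel.Quotient (MulAction.stabilizer G a₀) Ω)
          else Quotient.mk'' b) := by
        intro q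
        induction q using Quotient.inductionOn' with
        | h x =>
          by_cases hx : x = a₀
          · exact ⟨true, by simp [hx]⟩
          · refine ⟨false, ?_⟩
            have h1 : x ∈ MulAction.orbit (MulAction.stabilizer G a₀) b := (hmemΔ x).mp (hno x hx)
            have h2 : (Quotient.mk'' x : MulAction.orbitRel.Quotient (MulAction.stabilizer G a₀) Ω) =
                Quotient.mk'' b := Quotient.sound' (MulAction.orbitRel_apply.mpr h1)
            simp only [Bool.false_eq_true, if_false]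
            exact h2.symm
      have := Nat.card_le_card_of_surjective _ hsurj
      rw [hrank] at this
      simp at this
    obtain ⟨cD, hadd, hone, ⟨q, hq⟩, hint, hE1, hE2⟩ :=
      Cfsg.Agent.Lib.Helper10.RankThree.suborbit_relations a₀ Δ hΔinv ha₀Δ hmf0
    rw [← hπdef] at hq hint
    have hzero : ∀ χ : IrrCharacter G, χ ≠ T → χ ≠ X1 → χ ≠ X2 → cD χ = 0 := by
      intro χ h1 h2 h3
      apply (hint χ).2
      rw [hinner, if_neg (Ne.symm h1), if_neg (Ne.symm h2), if_neg (Ne.symm h3)]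
      norm_num
    have hsum3 : ∀ f : IrrCharacter G → ℂ, (∀ χ, χ ≠ T → χ ≠ X1 → χ ≠ X2 → f χ = 0) →
        ∑ χ, f χ = f T + f X1 + f X2 := by
      intro f hf
      rw [← Finset.sum_subset (Finset.subset_univ {T, X1, X2})]
      · rw [Finset.sum_insert, Finset.sum_insert, Finset.sum_singleton]
        · ring
        · rw [Finset.mem_singleton]; exact hX12
        · rw [Finset.mem_insert, Finset.mem_singleton]
          rintro (h | h)
          · exact hTX.1 h.symm
          · exact hTX.2 h.symm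
      · intro χ _ hχ
        rw [Finset.mem_insert, Finset.mem_insert, Finset.mem_singleton] at hχ
        push Not at hχ
        exact hf χ hχ.1 hχ.2.1 hχ.2.2
    obtain ⟨θ1, hθ1⟩ : ∃ θ : ℂ, θ = cD χ₁ := ⟨_, rfl⟩
    obtain ⟨θ2, hθ2⟩ : ∃ θ : ℂ, θ = cD χ₂ := ⟨_, rfl⟩
    have hcT : cD (T : G → ℂ) = Δ.card := by rw [hT]; exact hone
    have hE1' : (Δ.card : ℂ) + ((m : ℂ) - 1) * θ1 + (m : ℂ) * θ2 = 0 := by
      rw [hsum3 _ (by
        intro χ h1 h2 h3
        rw [hzero χ h1 h2 h3, mul_zero])] at hE1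
      rw [hcT, hX1, hX2, hT, hd₁, hd₂, ← hθ1, ← hθ2] at hE1
      linear_combination hE1
    have hE2' : (Δ.card : ℂ) * (starRingEnd ℂ) (Δ.card : ℂ) + ((m : ℂ) - 1) * (θ1 * (starRingEnd ℂ) θ1) +
        (m : ℂ) * (θ2 * (starRingEnd ℂ) θ2) = (2 * (m : ℂ)) * Δ.card := by
      rw [hsum3 _ (by
        intro χ h1 h2 h3
        rw [hzero χ h1 h2 h3, zero_mul, mul_zero])] at hE2
      rw [hcT, hX1, hX2, hT, hd₁, hd₂, ← hθ1, ← hθ2, hm] at hE2
      push_cast at hE2
      linear_combination hE2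
    have hq' : (Δ.card : ℂ) + θ1 + θ2 = q := by
      rw [hπsum, hadd, hadd, hcT, hX1, hX2, ← hθ1, ← hθ2] at hq
      exact hq
    obtain ⟨q2, hq2def⟩ : ∃ q2 : ℚ, q2 = -(Δ.card : ℚ) - ((m : ℚ) - 1) * (q - Δ.card) := ⟨_, rfl⟩
    have hcast2 : (q2 : ℂ) = -(Δ.card : ℂ) - ((m : ℂ) - 1) * ((q : ℂ) - Δ.card) := by
      rw [hq2def]
      push_cast
      ring
    have h2q : θ2 = (q2 : ℂ) := by
      rw [hcast2]
      linear_combination hE1' - ((m : ℂ) - 1) * hq'
    have h1q : θ1 = ((q - (Δ.card : ℚ) - q2 : ℚ) : ℂ) := by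
      push_cast
      linear_combination hq' - h2q
    have hi1 : IsIntegral ℤ θ1 := by
      have := (hint X1).1
      rw [hX1, ← hθ1] at this
      exact this
    have hi2 : IsIntegral ℤ θ2 := by
      have := (hint X2).1
      rw [hX2, ← hθ2] at this
      exact this
    obtain ⟨z1, hz1⟩ : ∃ z : ℤ, θ1 = z := by
      rw [h1q] at hi1 ⊢
      exact Cfsg.Agent.Lib.Helper10.RankThree.int_of_isIntegral_rat _ hi1
    obtain ⟨z2, hz2⟩ : ∃ z : ℤ, θ2 = z := by
      rw [h2q] at hi2 ⊢
      exact Cfsg.Agent.Lib.Helper10.RankThree.int_of_isIntegral_rat _ hi2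
    have hA1 : ((Δ.card : ℕ) : ℤ) + ((m : ℤ) - 1) * z1 + (m : ℤ) * z2 = 0 := by
      rw [hz1, hz2] at hE1'
      exact_mod_cast hE1'
    have hA2 : ((Δ.card : ℕ) : ℤ) ^ 2 + ((m : ℤ) - 1) * z1 ^ 2 + (m : ℤ) * z2 ^ 2 =
        2 * (m : ℤ) * ((Δ.card : ℕ) : ℤ) := by
      rw [hz1, hz2, Complex.conj_natCast, map_intCast, map_intCast] at hE2'
      have h5 : ((Δ.card : ℕ) : ℤ) * ((Δ.card : ℕ) : ℤ) + ((m : ℤ) - 1) * (z1 * z1) +
          (m : ℤ) * (z2 * z2) = 2 * (m : ℤ) * ((Δ.card : ℕ) : ℤ) := by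
        exact_mod_cast hE2'
      linear_combination h5
    have hk1 : 1 ≤ Δ.card := Finset.card_pos.mpr ⟨b, hbΔ⟩
    have hcΔ' : c ∉ Δ := hcΔ
    have hS : (insert a₀ (insert c Δ)).card = Δ.card + 2 := by
      rw [Finset.card_insert_of_notMem, Finset.card_insert_of_notMem hcΔ]
      rw [Finset.mem_insert]
      rintro (h | h)
      · exact hca h.symm
      · exact ha₀Δ h
    have hk2 : Δ.card + 2 ≤ 2 * m := by
      rw [← hS, ← hm]
      exact Finset.card_le_univ _
    rcases Cfsg.Agent.Lib.Helper10.RankThree.rank_three_arith m Δ.card z1 z2 hm2 hk1 hk2 hA1 hA2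
      with h | h | h
    · exfalso
      obtain ⟨x, hx⟩ := Finset.card_eq_one.mp h
      have hxb : x = b := by
        rw [hx, Finset.mem_singleton] at hbΔ
        exact hbΔ.symm
      apply hnofix b hb
      intro g hg
      have := hΔinv g hg b hbΔ
      rw [hx, Finset.mem_singleton, hxb] at this
      exact this
    · exfalso
      have hSuniv : insert a₀ (insert c Δ) = Finset.univ := by
        apply Finset.eq_univ_of_card
        rw [hS, h, hm]
      apply hnofix c hca
      intro g hg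
      have hmem : g • c ∈ insert a₀ (insert c Δ) := by rw [hSuniv]; exact Finset.mem_univ _
      rw [Finset.mem_insert, Finset.mem_insert] at hmem
      rcases hmem with h1 | h1 | h1
      · exfalso
        apply hca
        have h3 : g • a₀ = a₀ := MulAction.mem_stabilizer_iff.mp hg
        have h4 : g • c = g • a₀ := by rw [h1, h3]
        exact MulAction.injective g h4
      · exact h1
      · exfalso
        apply hcΔ
        have := hΔinv g⁻¹ (Subgroup.inv_mem _ hg) _ h1
        rw [inv_smul_smul] at this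
        exact this
    · exact h
  -- assemble
  obtain ⟨b₀, hb₀⟩ : ∃ b : Ω, b ≠ a₀ := by
    by_contra hno
    push Not at hno
    have : Fintype.card Ω ≤ 1 := Fintype.card_le_one_iff.mpr (fun x y => by rw [hno x, hno y])
    omega
  obtain ⟨a, ha, _⟩ := key b₀ hb₀
  refine ⟨a, ?_, ha, ?_⟩
  · rcases Nat.eq_zero_or_pos a with h0 | h0
    · rw [h0] at ha
      omega
    · exact h0
  · intro b hb
    obtain ⟨a', ha', hor⟩ := key b hb
    have haa : a' = a := by
      rcases lt_trichotomy a' a with h | h | h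
      · exfalso; nlinarith
      · exact h
      · exfalso; nlinarith
    rw [haa] at hor
    exact hor

end Cfsg.Agent.S0719
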