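import Cfsg.Statements.S0722
-- import your own Cfsg.Agent.* helpers here

set_option autoImplicit false
open Cfsg

namespace Cfsg.Agent.S0722

/-- In a primitive group `H`, with `N` a minimal normal subgroup and `K` a point stabiliser, `K ⊓ N` is maximal among proper `K`-invariant subgroups of `N`. -/
theorem result {α : Type*} [Finite α] (H : Subgroup (Equiv.Perm α)) [MulAction.IsPreprimitive H α] (N : Subgroup H) [N.Normal] (hN : N ≠ ⊥) (hmin : ∀ M : Subgroup H, M.Normal → M ≤ N → M = ⊥ ∨ M = N) (a : α) (X : Subgroup H) (hX : X ≤ N) (hKX : MulAction.stabilizer H a ⊓ N ≤ X) (hinv : MulAction.stabilizer H a ≤ Subgroup.normalizer (X : Set H)) : X = MulAction.stabilizer H a ⊓ N ∨ X = N := by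
  classical
  -- `α` is nontrivial, otherwise `H` is trivial and so is `N`
  have hnt : Nontrivial α := by
    by_contra hcon
    rw [not_nontrivial_iff_subsingleton] at hcon
    apply hN
    rw [Subgroup.eq_bot_iff_forall]
    intro n _
    apply Subtype.ext
    apply Equiv.ext
    intro x
    exact Subsingleton.elim _ _
  have hco : IsCoatom (MulAction.stabilizer H a) :=
    (MulAction.isCoatom_stabilizer_iff_preprimitive H a).2 inferInstance
  have hle : MulAction.stabilizer H a ≤ MulAction.stabilizer H a ⊔ X := le_sup_left
  rcases eq_or_lt_of_le hle with heq | hlt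
  · left
    have hXK : X ≤ MulAction.stabilizer H a := by
      rw [heq]; exact le_sup_right
    exact le_antisymm (le_inf hXK hX) hKX
  · right
    have htop : MulAction.stabilizer H a ⊔ X = ⊤ := hco.2 _ hlt
    have hnorm : Subgroup.normalizer (X : Set H) = ⊤ := by
      apply top_unique
      rw [← htop]
      exact sup_le hinv Subgroup.le_normalizer
    have hXn : X.Normal := Subgroup.normalizer_eq_top_iff.1 hnorm
    rcases hmin X hXn hX with h0 | h1
    · exfalso
      rw [h0, sup_bot_eq] at htop
      exact hco.1 htop
    · exact h1

end Cfsg.Agent.S0722
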