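import Mathlib
import Cfsg.Statements.S0727
import Cfsg.Agent.Lib.Helper16.Sharp3
set_option autoImplicit false
set_option maxHeartbeats 1000000
open Cfsg

namespace Cfsg.Agent.S0727

theorem result {α : Type*} [Fintype α] [DecidableEq α] {f : ℕ} (hf : 1 ≤ f) (hα : Fintype.card α = 2 ^ f + 1) (G : Subgroup (Equiv.Perm α)) (h3 : MulAction.IsMultiplyPretransitive G α 3) (hsharp : ∀ x : Fin 3 ↪ α, MulAction.stabilizer G x = ⊥) : ∃ (F : Type) (_ : Field F) (_ : Fintype F), Fintype.card F = 2 ^ f ∧ Nonempty (G ≃* Matrix.ProjGenLinGroup (Fin 2) F) := by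
  have hodd : Odd (Fintype.card α) := by
    rw [hα]
    exact (Nat.even_pow.mpr ⟨even_two, by omega⟩).add_one
  have h2 : 1 < 2 ^ f := Nat.one_lt_two_pow (by omega)
  have hcard : 3 ≤ Fintype.card α := by omega
  obtain ⟨F, iF, iFt, hc, hiso⟩ :=
    Cfsg.Agent.Lib.Helper16.Sharp3.main (Γ := G) h3 hsharp hodd hcard
  exact ⟨F, iF, iFt, by omega, hiso⟩

end Cfsg.Agent.S0727
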