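import Mathlib
import Cfsg.Statements.S0730
import Cfsg.Agent.Lib.Helper16.Sharp3Odd
set_option autoImplicit false
set_option maxHeartbeats 1000000
open Cfsg

namespace Cfsg.Agent.S0730

theorem result {α : Type*} [Fintype α] [DecidableEq α] {p f : ℕ} (hp : p.Prime) (hp2 : p ≠ 2) (hfo : Odd f) (hα : Fintype.card α = p ^ f + 1) (G : Subgroup (Equiv.Perm α)) (h3 : MulAction.IsMultiplyPretransitive G α 3) (hsharp : ∀ x : Fin 3 ↪ α, MulAction.stabilizer G x = ⊥) : ∃ (F : Type) (_ : Field F) (_ : Fintype F), Fintype.card F = p ^ f ∧ Nonempty (G ≃* Matrix.ProjGenLinGroup (Fin 2) F) := by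
  obtain ⟨F, iF, iFt, inf, pt, hc, hinj, hne, hcov, hF1, hF2, hF4⟩ :=
    Cfsg.Agent.Lib.Helper16.Sharp3Odd.stageA_odd (Γ := G) h3 hsharp hp hp2 hfo hα
  refine ⟨F, iF, iFt, ?_,
    Cfsg.Agent.Lib.Helper16.Sharp3.stageB h3 hsharp inf pt hinj hne hcov hF1 hF2 hF4⟩
  omega

end Cfsg.Agent.S0730
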