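import Cfsg.Statements.S0733
import Mathlib

set_option autoImplicit false
open Cfsg
open scoped Pointwise

namespace Cfsg.Agent.S0733

/-- A permutation group of affine type — generated by the translations of a finite vector space `V` over `ZMod p` together with a group `G₀` of linear automorphisms — is primitive on `V` if and only if `G₀` is irreducible on `V`. -/
theorem result {p : ℕ} [Fact p.Prime] {V : Type*} [AddCommGroup V] [Module (ZMod p) V] [Finite V] [Nontrivial V] (G₀ : Subgroup (V ≃ₗ[ZMod p] V)) (G : Subgroup (Equiv.Perm V)) (hG : ∀ σ : Equiv.Perm V, σ ∈ G ↔ ∃ g ∈ G₀, ∃ b : V, ∀ x : V, σ x = (g : V ≃ₗ[ZMod p] V) x + b) : MulAction.IsPreprimitive G V ↔ ∀ W : Submodule (ZMod p) V, (∀ g ∈ G₀, ∀ v ∈ W, (g : V ≃ₗ[ZMod p] V) v ∈ W) → W = ⊥ ∨ W = ⊤ := by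
  classical
  -- the action of an element of G
  have hsmul : ∀ (σ : G) (x : V), σ • x = (σ : Equiv.Perm V) x := fun σ x => rfl
  -- affine maps x ↦ g x + b lie in G
  have hmem : ∀ g ∈ G₀, ∀ b : V, ∃ σ : G, ∀ x : V, σ • x = (g : V ≃ₗ[ZMod p] V) x + b := by
    intro g hg b
    let τ : Equiv.Perm V := (g : V ≃ₗ[ZMod p] V).toEquiv.trans (Equiv.addRight b)
    have hτ : τ ∈ G := (hG τ).mpr ⟨g, hg, b, fun x => rfl⟩
    exact ⟨⟨τ, hτ⟩, fun x => rfl⟩
  have htrans : ∀ b : V, ∃ σ : G, ∀ x : V, σ • x = x + b := by
    intro b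
    obtain ⟨σ, hσ⟩ := hmem 1 G₀.one_mem b
    exact ⟨σ, fun x => by rw [hσ x]; rfl⟩
  constructor
  · intro hprim W hW
    have hblock : MulAction.IsBlock G (W : Set V) := by
      rw [MulAction.isBlock_iff_smul_eq_of_mem]
      intro σ a ha hσa
      obtain ⟨g, hg, b, hσ⟩ := (hG σ).mp σ.2
      have hb : b ∈ W := by
        have h1 : (g : V ≃ₗ[ZMod p] V) a + b ∈ W := by
          have := hσa
          rw [SetLike.mem_coe, hsmul, hσ a] at this
          exact this
        have h2 : (g : V ≃ₗ[ZMod p] V) a ∈ W := hW g hg a ha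
        have : b = ((g : V ≃ₗ[ZMod p] V) a + b) - (g : V ≃ₗ[ZMod p] V) a := by abel
        rw [this]
        exact W.sub_mem h1 h2
      ext y
      constructor
      · rintro ⟨w, hw, rfl⟩
        show σ • w ∈ W
        rw [hsmul, hσ w]
        exact W.add_mem (hW g hg w hw) hb
      · intro hy
        refine ⟨(g⁻¹ : V ≃ₗ[ZMod p] V) (y - b), ?_, ?_⟩
        · exact hW g⁻¹ (G₀.inv_mem hg) _ (W.sub_mem hy hb)
        · show σ • _ = y
          rw [hsmul, hσ]
          have : (g : V ≃ₗ[ZMod p] V) ((g⁻¹ : V ≃ₗ[ZMod p] V) (y - b)) = y - b := by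
            change (g * g⁻¹) (y - b) = y - b
            rw [mul_inv_cancel]; rfl
          rw [this]; abel
    rcases hprim.isTrivialBlock_of_isBlock hblock with hs | hu
    · left
      rw [eq_bot_iff]
      intro w hw
      rw [Submodule.mem_bot]
      exact hs hw W.zero_mem
    · right
      rw [eq_top_iff]
      intro w _
      have : w ∈ (W : Set V) := by rw [hu]; trivial
      exact this
  · intro hirr
    haveI : MulAction.IsPretransitive G V := by
      refine ⟨fun x y => ?_⟩
      obtain ⟨σ, hσ⟩ := htrans (y - x)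
      exact ⟨σ, by rw [hσ]; abel⟩
    refine ⟨?_⟩
    intro B hblock
    by_cases hne : B.Nonempty
    swap
    · left
      rw [Set.not_nonempty_iff_eq_empty] at hne
      rw [hne]
      exact Set.subsingleton_empty
    obtain ⟨b, hb⟩ := hne
    -- translation by u stabilizes B if it maps one point of B into B
    have hstab : ∀ (σ : G) (a : V), a ∈ B → σ • a ∈ B → ∀ y ∈ B, σ • y ∈ B := by
      intro σ a ha hσa y hy
      have := hblock.smul_eq_of_mem ha hσa
      rw [← this]
      exact Set.smul_mem_smul_set hy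
    let W₀ : AddSubgroup V :=
      { carrier := {v | v + b ∈ B}
        zero_mem' := by simpa using hb
        add_mem' := by
          intro u v hu hv
          simp only [Set.mem_setOf_eq] at hu hv ⊢
          obtain ⟨σ, hσ⟩ := htrans u
          have h1 : σ • b ∈ B := by rw [hσ, add_comm]; exact hu
          have h2 := hstab σ b hb h1 (v + b) hv
          rw [hσ] at h2
          have : u + v + b = v + b + u := by abel
          rw [this]; exact h2
        neg_mem' := by
          intro u hu
          simp only [Set.mem_setOf_eq] at hu ⊢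
          obtain ⟨σ, hσ⟩ := htrans (-u)
          have h1 : σ • (u + b) ∈ B := by
            rw [hσ]
            have : u + b + -u = b := by abel
            rw [this]; exact hb
          have h2 := hstab σ (u + b) hu h1 b hb
          rw [hσ, add_comm] at h2
          exact h2 }
    let W : Submodule (ZMod p) V := AddSubgroup.toZModSubmodule p W₀
    have hWmem : ∀ v : V, v ∈ W ↔ v + b ∈ B := fun v => Iff.rfl
    have hWinv : ∀ g ∈ G₀, ∀ v ∈ W, (g : V ≃ₗ[ZMod p] V) v ∈ W := by
      intro g hg v hv
      rw [hWmem] at hv ⊢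
      obtain ⟨σ, hσ⟩ := hmem g hg (b - (g : V ≃ₗ[ZMod p] V) b)
      have h1 : σ • b ∈ B := by
        rw [hσ]
        have : (g : V ≃ₗ[ZMod p] V) b + (b - (g : V ≃ₗ[ZMod p] V) b) = b := by abel
        rw [this]; exact hb
      have h2 := hstab σ b hb h1 (v + b) hv
      rw [hσ, map_add] at h2
      have : (g : V ≃ₗ[ZMod p] V) v + (g : V ≃ₗ[ZMod p] V) b + (b - (g : V ≃ₗ[ZMod p] V) b)
          = (g : V ≃ₗ[ZMod p] V) v + b := by abel
      rw [this] at h2
      exact h2
    rcases hirr W hWinv with hbot | htop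
    · left
      intro x hx y hy
      have hx' : x - b ∈ W := by rw [hWmem]; simpa using hx
      have hy' : y - b ∈ W := by rw [hWmem]; simpa using hy
      rw [hbot, Submodule.mem_bot, sub_eq_zero] at hx' hy'
      rw [hx', hy']
    · right
      rw [Set.eq_univ_iff_forall]
      intro x
      have : x - b ∈ W := by rw [htop]; trivial
      rw [hWmem] at this
      simpa using this

end Cfsg.Agent.S0733
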