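import Cfsg.Statements.S0734
import Mathlib

set_option autoImplicit false
open Cfsg
open scoped Pointwise

namespace Cfsg.Agent.S0734

variable {G : Type*} [Group G] {Ω : Type*} [MulAction G Ω]

/-- the orbital graph of the pair `(a, b)` -/
def orb (G : Type*) [Group G] {Ω : Type*} [MulAction G Ω] (a b : Ω) : SimpleGraph Ω :=
  SimpleGraph.fromRel fun x y : Ω => ∃ g : G, g • a = x ∧ g • b = y

theorem orb_adj_smul (a b : Ω) (h : G) {x y : Ω} (hxy : (orb G a b).Adj x y) :
    (orb G a b).Adj (h • x) (h • y) := by
  unfold orb at *
  rw [SimpleGraph.fromRel_adj] at *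
  obtain ⟨hne, hor⟩ := hxy
  refine ⟨fun he => hne (MulAction.injective h he), ?_⟩
  rcases hor with ⟨g, rfl, rfl⟩ | ⟨g, rfl, rfl⟩
  · exact Or.inl ⟨h * g, mul_smul _ _ _, mul_smul _ _ _⟩
  · exact Or.inr ⟨h * g, mul_smul _ _ _, mul_smul _ _ _⟩

theorem orb_reachable_smul (a b : Ω) (h : G) {x y : Ω} (hxy : (orb G a b).Reachable x y) :
    (orb G a b).Reachable (h • x) (h • y) := by
  obtain ⟨w⟩ := hxy
  induction w with
  | nil => exact SimpleGraph.Reachable.refl _
  | cons hadj _ ih => exact (orb_adj_smul a b h hadj).reachable.trans ih

/-- Higman's criterion for primitivity: a transitive action on a finite set is primitive if and only if every non-trivial orbital graph (edges = images of a fixed pair of distinct points) is connected. -/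
theorem result {G : Type*} [Group G] {Ω : Type*} [Finite Ω] [MulAction G Ω] [MulAction.IsPretransitive G Ω] [Nontrivial Ω] : MulAction.IsPreprimitive G Ω ↔ ∀ a b : Ω, a ≠ b → (SimpleGraph.fromRel fun x y : Ω => ∃ g : G, g • a = x ∧ g • b = y).Connected := by
  constructor
  · intro hprim a b hab
    change (orb G a b).Connected
    set B : Set Ω := {x | (orb G a b).Reachable a x} with hB
    have hblock : MulAction.IsBlock G B := by
      rw [MulAction.isBlock_iff_smul_eq_of_mem]
      intro g x hx hgx
      have h1 : (orb G a b).Reachable a (g • a) :=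
        (hgx : (orb G a b).Reachable a (g • x)).trans (orb_reachable_smul a b g hx).symm
      ext y
      rw [Set.mem_smul_set_iff_inv_smul_mem]
      constructor
      · intro hy
        have := orb_reachable_smul a b g (hy : (orb G a b).Reachable a (g⁻¹ • y))
        rw [smul_inv_smul] at this
        exact h1.trans this
      · intro hy
        have h2 : (orb G a b).Reachable (g • a) y := h1.symm.trans hy
        have := orb_reachable_smul a b g⁻¹ h2
        rw [inv_smul_smul] at this
        exact this
    have htriv := hprim.isTrivialBlock_of_isBlock hblock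
    have haB : a ∈ B := SimpleGraph.Reachable.refl _
    have hbB : b ∈ B := by
      have : (orb G a b).Adj a b := by
        unfold orb
        rw [SimpleGraph.fromRel_adj]
        exact ⟨hab, Or.inl ⟨1, one_smul _ _, one_smul _ _⟩⟩
      exact this.reachable
    have hBuniv : B = Set.univ := by
      rcases htriv with hs | hu
      · exact absurd (hs haB hbB) hab
      · exact hu
    haveI : Nonempty Ω := ⟨a⟩
    refine SimpleGraph.Connected.mk ?_
    intro x y
    have hx : x ∈ B := by rw [hBuniv]; trivial
    have hy : y ∈ B := by rw [hBuniv]; trivial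
    exact (SimpleGraph.Reachable.symm hx).trans hy
  · intro hconn
    refine ⟨?_⟩
    intro B hblock
    by_cases hs : B.Subsingleton
    · exact Or.inl hs
    · right
      rw [Set.not_subsingleton_iff] at hs
      obtain ⟨a, ha, b, hb, hab⟩ := hs
      have hc := hconn a b hab
      change (orb G a b).Connected at hc
      -- adjacency preserves membership in B
      have hadj : ∀ u v : Ω, u ∈ B → (orb G a b).Adj u v → v ∈ B := by
        intro u v hu huv
        unfold orb at huv
        rw [SimpleGraph.fromRel_adj] at huv
        rcases huv.2 with ⟨g, rfl, rfl⟩ | ⟨g, rfl, rfl⟩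
        · have := hblock.smul_eq_of_mem ha hu
          rw [← this]
          exact Set.smul_mem_smul_set hb
        · have := hblock.smul_eq_of_mem hb hu
          rw [← this]
          exact Set.smul_mem_smul_set ha
      have hwalk : ∀ u v : Ω, (orb G a b).Walk u v → u ∈ B → v ∈ B := by
        intro u v w
        induction w with
        | nil => exact id
        | cons h _ ih => exact fun hu => ih (hadj _ _ hu h)
      rw [Set.eq_univ_iff_forall]
      intro x
      obtain ⟨w⟩ := hc.preconnected a x
      exact hwalk a x w ha

end Cfsg.Agent.S0734
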