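import Cfsg.Statements.S0735
import Mathlib

set_option autoImplicit false
open Cfsg
open scoped Pointwise

namespace Cfsg.Agent.S0735

/-- A 2-homogeneous permutation group (transitive on 2-subsets) of even order is doubly transitive; a non-trivial 2-homogeneous group is primitive. -/
theorem result {α : Type*} [Fintype α] [DecidableEq α] (G : Subgroup (Equiv.Perm α)) (h2 : MulAction.IsPretransitive G (Set.powersetCard α 2)) (hα : 3 ≤ Fintype.card α) : (Even (Nat.card G) → MulAction.IsMultiplyPretransitive G α 2) ∧ (G ≠ ⊥ → MulAction.IsPreprimitive G α) := by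
  classical
  -- unordered transitivity on pairs
  have hom : ∀ a b c d : α, a ≠ b → c ≠ d →
      ∃ g : G, (g • a = c ∧ g • b = d) ∨ (g • a = d ∧ g • b = c) := by
    intro a b c d hab hcd
    let s : Set.powersetCard α 2 := ⟨{a, b}, by
      rw [Set.powersetCard.mem_iff]; exact Finset.card_pair hab⟩
    let t : Set.powersetCard α 2 := ⟨{c, d}, by
      rw [Set.powersetCard.mem_iff]; exact Finset.card_pair hcd⟩
    obtain ⟨g, hg⟩ := h2.exists_smul_eq s t
    refine ⟨g, ?_⟩
    have hg' : g • ({a, b} : Finset α) = {c, d} := by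
      have h := Set.powersetCard.coe_smul (g := g) (s := s)
      have h2 : ((g • s : Set.powersetCard α 2) : Finset α) = (t : Finset α) := congrArg Subtype.val hg
      exact h.symm.trans h2
    have ha : g • a ∈ ({c, d} : Finset α) := by
      rw [← hg']; exact Finset.smul_mem_smul_finset (by simp)
    have hb : g • b ∈ ({c, d} : Finset α) := by
      rw [← hg']; exact Finset.smul_mem_smul_finset (by simp)
    have hne : g • a ≠ g • b := fun h => hab (MulAction.injective g h)
    simp only [Finset.mem_insert, Finset.mem_singleton] at ha hb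
    rcases ha with ha | ha <;> rcases hb with hb | hb
    · exact absurd (ha.trans hb.symm) hne
    · exact Or.inl ⟨ha, hb⟩
    · exact Or.inr ⟨ha, hb⟩
    · exact absurd (ha.trans hb.symm) hne
  -- a third point
  have third : ∀ x y : α, ∃ z : α, z ≠ x ∧ z ≠ y := by
    intro x y
    by_contra hcon
    push Not at hcon
    have : (Finset.univ : Finset α) ⊆ {x, y} := by
      intro z _
      by_cases hz : z = x
      · simp [hz]
      · simp [hcon z hz]
    have h1 := Finset.card_le_card this
    have h2 : ({x, y} : Finset α).card ≤ 2 := Finset.card_le_two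
    rw [Finset.card_univ] at h1
    omega
  -- transitivity
  have htrans : MulAction.IsPretransitive G α := by
    refine ⟨fun x y => ?_⟩
    by_cases hxy : x = y
    · exact ⟨1, by rw [one_smul, hxy]⟩
    obtain ⟨z, hzx, hzy⟩ := third x y
    obtain ⟨g, hg | hg⟩ := hom x z y z (Ne.symm hzx) (Ne.symm hzy)
    · exact ⟨g, hg.1⟩
    · exact ⟨g * g, by rw [mul_smul, hg.1, hg.2]⟩
  constructor
  · intro heven
    rw [MulAction.is_two_pretransitive_iff]
    -- an involution
    haveI : Fact (Nat.Prime 2) := ⟨Nat.prime_two⟩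
    obtain ⟨t, ht⟩ := exists_prime_orderOf_dvd_card' (G := G) 2 heven.two_dvd
    have ht1 : t ≠ 1 := by
      intro h; rw [h, orderOf_one] at ht; omega
    have ht2 : t * t = 1 := by
      have := pow_orderOf_eq_one t
      rwa [ht, sq] at this
    -- t moves a point
    have : ∃ a : α, t • a ≠ a := by
      by_contra hcon
      push Not at hcon
      apply ht1
      apply Subtype.ext
      ext x
      exact hcon x
    obtain ⟨a₀, ha₀⟩ := this
    set b₀ := t • a₀ with hb₀
    have htb : t • b₀ = a₀ := by
      rw [hb₀, ← mul_smul, ht2, one_smul]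
    have base : ∀ c d : α, c ≠ d → ∃ g : G, g • a₀ = c ∧ g • b₀ = d := by
      intro c d hcd
      obtain ⟨g, hg | hg⟩ := hom a₀ b₀ c d (Ne.symm ha₀) hcd
      · exact ⟨g, hg⟩
      · refine ⟨g * t, ?_, ?_⟩
        · rw [mul_smul, ← hb₀, hg.2]
        · rw [mul_smul, htb, hg.1]
    intro a b c d hab hcd
    obtain ⟨g₁, h1a, h1b⟩ := base a b hab
    obtain ⟨g₂, h2a, h2b⟩ := base c d hcd
    refine ⟨g₂ * g₁⁻¹, ?_, ?_⟩
    · rw [mul_smul, ← h1a, inv_smul_smul, h2a]
    · rw [mul_smul, ← h1b, inv_smul_smul, h2b]
  · intro _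
    haveI := htrans
    refine ⟨?_⟩
    intro B hB
    by_cases hs : B.Subsingleton
    · exact Or.inl hs
    right
    rw [Set.not_subsingleton_iff] at hs
    obtain ⟨a, ha, b, hb, hab⟩ := hs
    rw [Set.eq_univ_iff_forall]
    intro c
    by_cases hca : c = a
    · rw [hca]; exact ha
    obtain ⟨g, hg | hg⟩ := hom a b a c hab (Ne.symm hca)
    · have := hB.smul_eq_of_mem ha (by rw [hg.1]; exact ha)
      rw [← this, ← hg.2]
      exact Set.smul_mem_smul_set hb
    · have := hB.smul_eq_of_mem hb (by rw [hg.2]; exact ha)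
      rw [← this, ← hg.1]
      exact Set.smul_mem_smul_set ha

end Cfsg.Agent.S0735
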