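import Cfsg.Statements.S0736
import Cfsg.Agent.Lib.Helper24.KHomog

set_option autoImplicit false
open Cfsg
open scoped Pointwise

namespace Cfsg.Agent.S0736

/-- A `k`-homogeneous permutation group of degree `n`, `k ≥ 2`, with `k + q - 1 ≤ n` for every prime power `q` dividing `k`, is `(k-1)`-homogeneous. -/
theorem result {α : Type*} [Fintype α] [DecidableEq α] (G : Subgroup (Equiv.Perm α)) {k : ℕ} (hk : 2 ≤ k) (hG : MulAction.IsPretransitive G (Set.powersetCard α k)) (hq : ∀ q : ℕ, IsPrimePow q → q ∣ k → k + q - 1 ≤ Fintype.card α) : MulAction.IsPretransitive G (Set.powersetCard α (k - 1)) := by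
  refine ⟨fun x y => ?_⟩
  have htr : ∀ Γ₁ Γ₂ : Finset α, Γ₁.card = k → Γ₂.card = k → ∃ g : G, g • Γ₁ = Γ₂ := by
    intro Γ₁ Γ₂ h1 h2
    obtain ⟨g, hg⟩ := hG.exists_smul_eq (⟨Γ₁, Set.powersetCard.mem_iff.2 h1⟩ : Set.powersetCard α k)
      ⟨Γ₂, Set.powersetCard.mem_iff.2 h2⟩
    refine ⟨g, ?_⟩
    have := congrArg Subtype.val hg
    exact (Set.powersetCard.coe_smul (g := g) (s := (⟨Γ₁, Set.powersetCard.mem_iff.2 h1⟩ : Set.powersetCard α k))).symm.trans this
  obtain ⟨g, hg⟩ := Cfsg.Agent.Lib.Helper24.KHomog.homog_pred hk htr hq x.1 y.1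
    (Set.powersetCard.mem_iff.1 x.2) (Set.powersetCard.mem_iff.1 y.2)
  refine ⟨g, Subtype.ext ?_⟩
  exact (Set.powersetCard.coe_smul (g := g) (s := x)).trans hg

end Cfsg.Agent.S0736
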