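import Mathlib
import Cfsg.Statements.S0743

set_option autoImplicit false
open Cfsg

namespace Cfsg.Agent.S0743

universe u v

/-- Orbit counting for a `p`-group on an invariant subset. -/
theorem card_modEq_inter_fixedPoints {P : Type*} [Group P] {X : Type*} [MulAction P X] [Finite X]
    {p : ℕ} [Fact p.Prime] (hP : IsPGroup p P) (O : Set X) (hO : ∀ g : P, ∀ y ∈ O, g • y ∈ O) :
    O.ncard ≡ (O ∩ MulAction.fixedPoints P X).ncard [MOD p] := by
  classical
  let S : SubMulAction P X := ⟨O, fun g y hy => hO g y hy⟩
  have h1 := hP.card_modEq_card_fixedPoints (↥S)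
  have e1 : Nat.card ↥S = O.ncard := Nat.card_coe_set_eq O
  have e2 : Nat.card (MulAction.fixedPoints P ↥S) = (O ∩ MulAction.fixedPoints P X).ncard := by
    rw [← Nat.card_coe_set_eq]
    apply Nat.card_congr
    refine ⟨fun y => ⟨y.1.1, y.1.2, fun g => congrArg Subtype.val (y.2 g)⟩,
      fun y => ⟨⟨y.1, y.2.1⟩, fun g => Subtype.ext (y.2.2 g)⟩, fun y => rfl, fun y => rfl⟩
  rw [e1, e2] at h1
  exact h1


/-- Gleason, step 1: transitivity. -/
theorem gleason_trans {G : Type*} [Group G] {X : Type*} [MulAction G X] [Finite X]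
    {p : ℕ} [Fact p.Prime] {k : ℕ} (hk : 1 ≤ k) (hkn : k < Nat.card X)
    (h : ∀ s : Set X, s.ncard = k → ∃ P : Subgroup G, IsPGroup p P ∧
      MulAction.fixedPoints P X = s) : MulAction.IsPretransitive G X := by
  classical
  have hpp : p.Prime := Fact.out
  by_contra hnt
  have : ∃ a b : X, b ∉ MulAction.orbit G a := by
    by_contra hcon
    push Not at hcon
    exact hnt ⟨fun a b => hcon a b⟩
  obtain ⟨a, b, hb⟩ := this
  have hab : a ≠ b := fun e => hb (e ▸ MulAction.mem_orbit_self a)
  -- a `k`-subset containing `a` but not `b`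
  obtain ⟨s, has, hsb, hsk⟩ : ∃ s : Set X, {a} ⊆ s ∧ s ⊆ {b}ᶜ ∧ s.ncard = k := by
    apply Set.exists_subsuperset_card_eq
    · intro y hy
      rw [Set.mem_singleton_iff] at hy
      rw [hy]; exact hab
    · rw [Set.ncard_singleton]; exact hk
    · have := Set.ncard_add_ncard_compl ({b} : Set X)
      rw [Set.ncard_singleton] at this
      omega
  have ha_s : a ∈ s := has rfl
  have hb_s : b ∉ s := fun hbs => hsb hbs rfl
  set s' : Set X := insert b (s \ {a}) with hs'
  have hs'k : s'.ncard = k := by
    rw [hs', Set.ncard_insert_of_notMem (fun hmem => hb_s hmem.1) (Set.toFinite _),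
      Set.ncard_sdiff_singleton_of_mem ha_s]
    omega
  obtain ⟨P, hP, hPfix⟩ := h s hsk
  obtain ⟨P', hP', hP'fix⟩ := h s' hs'k
  set O := MulAction.orbit G a with hO
  have hinv : ∀ (Q : Subgroup G) (g : Q) (y : X), y ∈ O → g • y ∈ O := by
    intro Q g y hy
    exact (MulAction.mem_orbit_iff.mpr ⟨(g : G), rfl⟩ : (g : G) • y ∈ MulAction.orbit G y) |>
      fun h1 => by
        rw [hO] at hy ⊢
        rw [← MulAction.orbit_eq_iff.mpr hy]
        exact h1
  have c1 := card_modEq_inter_fixedPoints hP O (hinv P)
  have c2 := card_modEq_inter_fixedPoints hP' O (hinv P')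
  rw [hPfix] at c1
  rw [hP'fix] at c2
  have hrel : O ∩ s = insert a (O ∩ s') := by
    ext y
    simp only [hs', Set.mem_inter_iff, Set.mem_insert_iff, Set.mem_sdiff, Set.mem_singleton_iff]
    constructor
    · rintro ⟨hyO, hys⟩
      by_cases hya : y = a
      · exact Or.inl hya
      · exact Or.inr ⟨hyO, Or.inr ⟨hys, hya⟩⟩
    · rintro (rfl | ⟨hyO, (rfl | ⟨hys, -⟩)⟩)
      · exact ⟨MulAction.mem_orbit_self _, ha_s⟩
      · exact absurd hyO hb
      · exact ⟨hyO, hys⟩
  have hcount : (O ∩ s).ncard = (O ∩ s').ncard + 1 := by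
    rw [hrel, Set.ncard_insert_of_notMem _ (Set.toFinite _)]
    rintro ⟨-, hmem⟩
    simp only [hs', Set.mem_insert_iff, Set.mem_sdiff, Set.mem_singleton_iff] at hmem
    rcases hmem with h1 | h1
    · exact hab h1
    · exact h1.2 trivial
  rw [hcount] at c1
  have c3 : (O ∩ s').ncard + 1 ≡ (O ∩ s').ncard + 0 [MOD p] := by
    rw [add_zero]; exact c1.symm.trans c2
  have c4 : 1 ≡ 0 [MOD p] := Nat.ModEq.add_left_cancel' _ c3
  have : p ∣ 1 := (Nat.modEq_zero_iff_dvd.mp c4)
  exact hpp.one_lt.ne' (Nat.dvd_one.mp this)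


/-- Gleason's lemma, general form. -/
theorem gleason_aux (p : ℕ) [Fact p.Prime] (k : ℕ) :
    ∀ (G : Type u) [Group G] (X : Type v) [MulAction G X] [Finite X],
    1 ≤ k → k < Nat.card X →
    (∀ s : Set X, s.ncard = k → ∃ P : Subgroup G, IsPGroup p P ∧
      MulAction.fixedPoints P X = s) → MulAction.IsMultiplyPretransitive G X k := by
  induction k with
  | zero => intro G _ X _ _ hk; omega
  | succ k ih =>
    intro G _ X _ _ hk hkn h
    have htr := gleason_trans hk hkn h
    rcases Nat.eq_zero_or_pos k with hk0 | hkpos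
    · subst hk0
      exact MulAction.is_one_pretransitive_iff.mpr htr
    · obtain ⟨a⟩ : Nonempty X := (Nat.card_pos_iff.mp (by omega)).1
      rw [SubMulAction.ofStabilizer.isMultiplyPretransitive (a := a)]
      apply ih (MulAction.stabilizer G a) (SubMulAction.ofStabilizer G a) hkpos
      · have := SubMulAction.nat_card_ofStabilizer_add_one_eq G a
        omega
      · intro t ht
        have hinj : Function.Injective (Subtype.val : SubMulAction.ofStabilizer G a → X) :=
          Subtype.val_injective
        have hnot : a ∉ Subtype.val '' t := by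
          rintro ⟨y, -, hy⟩
          exact (SubMulAction.mem_ofStabilizer_iff G a).mp y.2 hy
        obtain ⟨P, hP, hPfix⟩ := h (insert a (Subtype.val '' t)) (by
          rw [Set.ncard_insert_of_notMem hnot (Set.toFinite _),
            Set.ncard_image_of_injective _ hinj, ht])
        have hPa : P ≤ MulAction.stabilizer G a := by
          intro g hg
          have : a ∈ MulAction.fixedPoints P X := by rw [hPfix]; exact Set.mem_insert _ _
          exact this ⟨g, hg⟩
        refine ⟨P.subgroupOf (MulAction.stabilizer G a),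
          hP.comap_of_injective _ (Subgroup.subtype_injective _), ?_⟩
        ext y
        constructor
        · intro hy
          have hyfix : (y : X) ∈ MulAction.fixedPoints P X := by
            intro g
            have := hy ⟨⟨g.1, hPa g.2⟩, g.2⟩
            exact congrArg Subtype.val this
          rw [hPfix] at hyfix
          rcases hyfix with h1 | ⟨z, hz, hzy⟩
          · exact absurd h1 ((SubMulAction.mem_ofStabilizer_iff G a).mp y.2)
          · have : z = y := Subtype.ext hzy
            rw [← this]; exact hz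
        · intro hy g
          have hyfix : (y : X) ∈ MulAction.fixedPoints P X := by
            rw [hPfix]; exact Set.mem_insert_of_mem _ ⟨y, hy, rfl⟩
          apply Subtype.ext
          exact hyfix ⟨(g : MulAction.stabilizer G a).1, g.2⟩

/-- Gleason's Lemma: let `p` be a prime and `1 ≤ k < n`; if every `k`-subset of the `n` points is exactly the fixed-point set of some `p`-subgroup of `G`, then `G` is `k`-transitive. -/
theorem result {α : Type*} [Fintype α] [DecidableEq α] (G : Subgroup (Equiv.Perm α)) {p k : ℕ} (hp : p.Prime) (hk : 1 ≤ k) (hkn : k < Fintype.card α) (h : ∀ s : Finset α, s.card = k → ∃ P : Subgroup G, IsPGroup p P ∧ MulAction.fixedPoints P α = (s : Set α)) : MulAction.IsMultiplyPretransitive G α k := by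
  classical
  haveI : Fact p.Prime := ⟨hp⟩
  apply gleason_aux p k G α hk (by rw [Nat.card_eq_fintype_card]; exact hkn)
  intro s hs
  obtain ⟨P, hP, hPfix⟩ := h s.toFinset (by rw [← Set.ncard_eq_toFinset_card']; exact hs)
  exact ⟨P, hP, by rw [hPfix, Set.coe_toFinset]⟩

end Cfsg.Agent.S0743
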