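import Cfsg.Statements.S0756
import Mathlib

set_option autoImplicit false
open Cfsg

namespace Cfsg.Agent.S0756

open Module Polynomial

universe u v

section Field

variable {F : Type u} [Field F] [Finite F]

theorem ringChar_ne_two (h2 : (2 : F) ≠ 0) : ringChar F ≠ 2 := by
  intro h
  apply h2
  have : ((ringChar F : ℕ) : F) = 0 := ringChar.Nat.cast_ringChar
  rw [h] at this
  exact_mod_cast this

/-- Scaling: every nonzero `c` becomes `1` or `α` after multiplication by a nonzero square. -/
theorem scale (h2 : (2 : F) ≠ 0) (α : F) (hα : ¬ IsSquare α) (c : F) (hc : c ≠ 0) :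
    ∃ d : F, d * d * c = 1 ∨ d * d * c = α := by
  have := Fintype.ofFinite F
  have hF := ringChar_ne_two h2
  by_cases hsq : IsSquare c
  · obtain ⟨e, rfl⟩ := hsq
    have he : e ≠ 0 := by rintro rfl; simp at hc
    refine ⟨e⁻¹, Or.inl ?_⟩
    field_simp
  · have hα0 : α ≠ 0 := by rintro rfl; exact hα ⟨0, by simp⟩
    have h1 : c ^ (Fintype.card F / 2) = -1 := by
      rcases FiniteField.pow_dichotomy hF hc with h | h
      · exact absurd ((FiniteField.isSquare_iff hF hc).2 h) hsq
      · exact h
    have h3 : α ^ (Fintype.card F / 2) = -1 := by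
      rcases FiniteField.pow_dichotomy hF hα0 with h | h
      · exact absurd ((FiniteField.isSquare_iff hF hα0).2 h) hα
      · exact h
    have h4 : IsSquare (α / c) := by
      rw [FiniteField.isSquare_iff hF (div_ne_zero hα0 hc), div_pow, h1, h3]
      norm_num
    obtain ⟨e, he⟩ := h4
    refine ⟨e, Or.inr ?_⟩
    rw [← he]
    field_simp

/-- Two-variable diagonal forms represent 1. -/
theorem represent_one (h2 : (2 : F) ≠ 0) (a b : F) (ha : a ≠ 0) (hb : b ≠ 0) :
    ∃ s t : F, a * s ^ 2 + b * t ^ 2 = 1 := by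
  have := Fintype.ofFinite F
  have hF := ringChar_ne_two h2
  have hodd := FiniteField.odd_card_of_char_ne_two hF
  have hf : degree (C a * X ^ 2 + C 0 * X + C 0 : F[X]) = 2 := degree_quadratic ha
  have hg : degree (C b * X ^ 2 + C 0 * X + C (-1) : F[X]) = 2 := degree_quadratic hb
  obtain ⟨s, t, hst⟩ := FiniteField.exists_root_sum_quadratic hf hg hodd
  refine ⟨s, t, ?_⟩
  simp only [eval_add, eval_mul, eval_C, eval_pow, eval_X, zero_mul, add_zero] at hst
  linear_combination hst

end Field

section Geom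

variable {F : Type u} [Field F]

theorem exists_anisotropic {V : Type v} [AddCommGroup V] [Module F V] [Nontrivial V]
    (h2 : (2 : F) ≠ 0) (B : LinearMap.BilinForm F V) (hS : B.IsSymm) (hB : B.Nondegenerate) :
    ∃ x, B x x ≠ 0 := by
  by_contra hcon
  push Not at hcon
  obtain ⟨u, hu⟩ := exists_ne (0 : V)
  apply hu
  apply hB.1
  intro w
  have h1 := hcon (u + w)
  simp only [map_add, LinearMap.add_apply, hcon, hS.eq w u] at h1
  have h3 : (2 : F) * B u w = 0 := by linear_combination h1
  rcases mul_eq_zero.mp h3 with h | h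
  · exact absurd h h2
  · exact h

/-- Splitting off an anisotropic vector. -/
theorem split {V : Type v} [AddCommGroup V] [Module F V]
    (B : LinearMap.BilinForm F V) (x : V) (hx : B x x ≠ 0) :
    ∃ φ : (F × LinearMap.ker (B x)) ≃ₗ[F] V,
      ∀ (a : F) (w : LinearMap.ker (B x)), φ (a, w) = a • x + (w : V) := by
  let g : (F × LinearMap.ker (B x)) →ₗ[F] V :=
    (LinearMap.toSpanSingleton F V x).coprod (LinearMap.ker (B x)).subtype
  have hg : ∀ (a : F) (w : LinearMap.ker (B x)), g (a, w) = a • x + (w : V) := by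
    intro a w
    simp [g, LinearMap.coprod_apply, LinearMap.toSpanSingleton_apply]
  have hinj : Function.Injective g := by
    rw [injective_iff_map_eq_zero]
    rintro ⟨a, w⟩ h
    rw [hg] at h
    have hw : B x (w : V) = 0 := LinearMap.mem_ker.mp w.2
    have h1 : B x (a • x + (w : V)) = a * B x x := by
      simp [hw]
    rw [h, map_zero] at h1
    have ha : a = 0 := by
      rcases mul_eq_zero.mp h1.symm with h | h
      · exact h
      · exact absurd h hx
    rw [ha, zero_smul, zero_add] at h
    have hw0 : w = 0 := Subtype.ext h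
    rw [ha, hw0]
    rfl
  have hsurj : Function.Surjective g := by
    intro z
    have hmem : z - (B x z / B x x) • x ∈ LinearMap.ker (B x) := by
      rw [LinearMap.mem_ker]
      simp only [map_sub, map_smul, smul_eq_mul]
      field_simp
      ring
    refine ⟨(B x z / B x x, ⟨_, hmem⟩), ?_⟩
    rw [hg]
    simp only
    abel
  exact ⟨LinearEquiv.ofBijective g ⟨hinj, hsurj⟩, hg⟩

theorem nondeg_restrict {V : Type v} [AddCommGroup V] [Module F V]
    (B : LinearMap.BilinForm F V) (hS : B.IsSymm) (hB : B.Nondegenerate)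
    (x : V) (hx : B x x ≠ 0) :
    (B.restrict (LinearMap.ker (B x))).Nondegenerate := by
  obtain ⟨φ, hφ⟩ := split B x hx
  have px : ∀ w : LinearMap.ker (B x), B x w = 0 := fun w => LinearMap.mem_ker.mp w.2
  have px' : ∀ w : LinearMap.ker (B x), B w x = 0 := fun w => by
    rw [hS.eq, px]
  have hres : ∀ a b : LinearMap.ker (B x), B.restrict (LinearMap.ker (B x)) a b =
      B (a : V) (b : V) := fun _ _ => rfl
  constructor
  · intro w hw
    simp only [hres] at hw
    have : (w : V) = 0 := by
      apply hB.1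
      intro z
      obtain ⟨⟨a, w'⟩, rfl⟩ := φ.surjective z
      rw [hφ, map_add, map_smul, px', smul_zero, zero_add]
      exact hw w'
    exact Subtype.ext this
  · intro w hw
    simp only [hres] at hw
    have : (w : V) = 0 := by
      apply hB.2
      intro z
      obtain ⟨⟨a, w'⟩, rfl⟩ := φ.surjective z
      rw [hφ, map_add, LinearMap.add_apply, map_smul, LinearMap.smul_apply, px,
        smul_zero, zero_add]
      exact hw w'
    exact Subtype.ext this

theorem symm_restrict {V : Type v} [AddCommGroup V] [Module F V]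
    (B : LinearMap.BilinForm F V) (hS : B.IsSymm) (W : Submodule F V) :
    (B.restrict W).IsSymm := ⟨fun a b => hS.eq (a : V) (b : V)⟩

variable [Finite F]

/-- In dimension at least two there is a unit vector. -/
theorem exists_unit {V : Type v} [AddCommGroup V] [Module F V] [FiniteDimensional F V]
    (h2 : (2 : F) ≠ 0) (B : LinearMap.BilinForm F V) (hS : B.IsSymm) (hB : B.Nondegenerate)
    (hdim : 2 ≤ finrank F V) : ∃ z, B z z = 1 := by
  have hnt : Nontrivial V := (Module.finrank_pos_iff (R := F) (M := V)).mp (by omega)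
  obtain ⟨x, hx⟩ := exists_anisotropic h2 B hS hB
  obtain ⟨φ, hφ⟩ := split B x hx
  have hdimW : 0 < finrank F (LinearMap.ker (B x)) := by
    have := φ.finrank_eq
    rw [Module.finrank_prod, Module.finrank_self] at this
    omega
  have hntW : Nontrivial (LinearMap.ker (B x)) := Module.finrank_pos_iff.mp hdimW
  obtain ⟨y, hy⟩ := exists_anisotropic h2 (B.restrict (LinearMap.ker (B x)))
    (symm_restrict B hS _) (nondeg_restrict B hS hB x hx)
  have hy' : B (y : V) (y : V) ≠ 0 := hy
  have hxy : B x (y : V) = 0 := LinearMap.mem_ker.mp y.2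
  have hyx : B (y : V) x = 0 := by rw [hS.eq, hxy]
  obtain ⟨s, t, hst⟩ := represent_one h2 (B x x) (B (y : V) (y : V)) hx hy'
  refine ⟨s • x + t • (y : V), ?_⟩
  simp only [map_add, map_smul, LinearMap.add_apply, LinearMap.smul_apply, smul_eq_mul, hxy, hyx]
  linear_combination hst

def Goal (V : Type v) [AddCommGroup V] [Module F V] (B : LinearMap.BilinForm F V) (α : F) :
    Prop :=
  ∃ (ι : Type) (_ : Fintype ι) (_ : DecidableEq ι) (b : Basis (ι ⊕ Unit) F V),
    (∀ i j, i ≠ j → B (b i) (b j) = 0) ∧ (∀ i : ι, B (b (Sum.inl i)) (b (Sum.inl i)) = 1) ∧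
    (B (b (Sum.inr ())) (b (Sum.inr ())) = 1 ∨ B (b (Sum.inr ())) (b (Sum.inr ())) = α)

theorem goal_base {V : Type v} [AddCommGroup V] [Module F V] [FiniteDimensional F V]
    (h2 : (2 : F) ≠ 0) (B : LinearMap.BilinForm F V) (hS : B.IsSymm) (hB : B.Nondegenerate)
    (α : F) (hα : ¬ IsSquare α) (hdim : finrank F V = 1) : Goal V B α := by
  have hnt : Nontrivial V := (Module.finrank_pos_iff (R := F) (M := V)).mp (by omega)
  obtain ⟨x0, hx0⟩ := exists_anisotropic h2 B hS hB
  obtain ⟨d, hd⟩ := scale h2 α hα (B x0 x0) hx0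
  have hα0 : α ≠ 0 := by rintro rfl; exact hα ⟨0, by simp⟩
  have hxx : B (d • x0) (d • x0) = d * d * B x0 x0 := by
    simp only [map_smul, LinearMap.smul_apply, smul_eq_mul]; ring
  have hx : B (d • x0) (d • x0) ≠ 0 := by
    rw [hxx]
    rcases hd with h | h <;> rw [h]
    · exact one_ne_zero
    · exact hα0
  obtain ⟨φ, hφ⟩ := split B (d • x0) hx
  have hdimW : finrank F (LinearMap.ker (B (d • x0))) = 0 := by
    have := φ.finrank_eq
    rw [Module.finrank_prod, Module.finrank_self] at this
    omega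
  have hsub : Subsingleton (LinearMap.ker (B (d • x0))) := Module.finrank_zero_iff.mp hdimW
  let bn : Basis (Empty ⊕ Unit) F V :=
    (((Basis.singleton Unit F).prod (Basis.empty (LinearMap.ker (B (d • x0))))).map φ).reindex
      (Equiv.sumComm Unit Empty)
  have e1 : bn (Sum.inr ()) = d • x0 := by
    simp [bn, hφ]
  refine ⟨Empty, inferInstance, inferInstance, bn, ?_, fun i => i.elim, ?_⟩
  · rintro (i | ⟨⟩) (j | ⟨⟩) hij
    · exact i.elim
    · exact i.elim
    · exact j.elim
    · exact absurd rfl hij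
  · rw [e1, hxx]
    exact hd

theorem goal_step {V : Type v} [AddCommGroup V] [Module F V]
    (B : LinearMap.BilinForm F V) (hS : B.IsSymm) (α : F) (x : V) (hx : B x x = 1)
    (hrec : Goal (LinearMap.ker (B x)) (B.restrict (LinearMap.ker (B x))) α) : Goal V B α := by
  obtain ⟨φ, hφ⟩ := split B x (by rw [hx]; exact one_ne_zero)
  obtain ⟨ι, _, _, b', r1, r2, r3⟩ := hrec
  have hres : ∀ a b : LinearMap.ker (B x), B.restrict (LinearMap.ker (B x)) a b =
      B (a : V) (b : V) := fun _ _ => rfl
  simp only [hres] at r1 r2 r3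
  let bn : Basis ((Unit ⊕ ι) ⊕ Unit) F V :=
    (((Basis.singleton Unit F).prod b').map φ).reindex (Equiv.sumAssoc Unit ι Unit).symm
  have e1 : bn (Sum.inl (Sum.inl ())) = x := by
    simp [bn, hφ]
  have e2 : ∀ i, bn (Sum.inl (Sum.inr i)) = (b' (Sum.inl i) : V) := by
    intro i
    simp [bn, hφ]
  have e3 : bn (Sum.inr ()) = (b' (Sum.inr ()) : V) := by
    simp [bn, hφ]
  have px : ∀ w : LinearMap.ker (B x), B x w = 0 := fun w => LinearMap.mem_ker.mp w.2
  have px' : ∀ w : LinearMap.ker (B x), B w x = 0 := fun w => by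
    rw [hS.eq, px]
  refine ⟨Unit ⊕ ι, inferInstance, inferInstance, bn, ?_, ?_, ?_⟩
  · rintro ((⟨⟩ | i) | ⟨⟩) ((⟨⟩ | j) | ⟨⟩) hij
    · exact absurd rfl hij
    · rw [e1, e2, px]
    · rw [e1, e3, px]
    · rw [e2, e1, px']
    · rw [e2, e2]
      apply r1
      intro h
      apply hij
      rw [Sum.inl.injEq] at h
      rw [h]
    · rw [e2, e3]
      exact r1 _ _ (by simp)
    · rw [e3, e1, px']
    · rw [e3, e2]
      exact r1 _ _ (by simp)
    · exact absurd rfl hij
  · rintro (⟨⟩ | i)
    · rw [e1, hx]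
    · rw [e2]; exact r2 i
  · rw [e3]; exact r3

theorem goal_all (h2 : (2 : F) ≠ 0) (α : F) (hα : ¬ IsSquare α) (n : ℕ) :
    ∀ (V : Type v) [AddCommGroup V] [Module F V] [FiniteDimensional F V]
    (B : LinearMap.BilinForm F V), B.IsSymm → B.Nondegenerate → finrank F V = n + 1 →
      Goal V B α := by
  induction n with
  | zero =>
    intro V _ _ _ B hS hB hn
    exact goal_base h2 B hS hB α hα hn
  | succ n ih =>
    intro V _ _ _ B hS hB hn
    obtain ⟨x, hx⟩ := exists_unit h2 B hS hB (by omega)
    have hx0 : B x x ≠ 0 := by rw [hx]; exact one_ne_zero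
    obtain ⟨φ, -⟩ := split B x hx0
    have hdim : finrank F (LinearMap.ker (B x)) = n + 1 := by
      have := φ.finrank_eq
      rw [Module.finrank_prod, Module.finrank_self] at this
      omega
    apply goal_step B hS α x hx
    exact ih (LinearMap.ker (B x)) _ (symm_restrict B hS _) (nondeg_restrict B hS hB x hx0) hdim

end Geom

theorem result {F V : Type*} [Field F] [Finite F] [AddCommGroup V] [Module F V] [FiniteDimensional F V] (h2 : (2 : F) ≠ 0) (B : LinearMap.BilinForm F V) (hS : B.IsSymm) (hB : B.Nondegenerate) {n : ℕ} (hn : Module.finrank F V = n + 1) (α : F) (hα : ¬ IsSquare α) : ∃ b : Module.Basis (Fin (n + 1)) F V, (∀ i j, i ≠ j → B (b i) (b j) = 0) ∧ (∀ i, i ≠ Fin.last n → B (b i) (b i) = 1) ∧ (B (b (Fin.last n)) (b (Fin.last n)) = 1 ∨ B (b (Fin.last n)) (b (Fin.last n)) = α) := by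
  obtain ⟨ι, _, _, b, r1, r2, r3⟩ := goal_all h2 α hα n V B hS hB hn
  have hcard : Fintype.card ι = n := by
    have := Module.finrank_eq_card_basis b
    rw [hn, Fintype.card_sum, Fintype.card_unit] at this
    omega
  let e : ι ≃ Fin n := Fintype.equivFinOfCardEq hcard
  let E : ι ⊕ Unit ≃ Fin (n + 1) :=
    (Equiv.sumCongr e (Equiv.refl Unit)).trans
      ((Equiv.optionEquivSumPUnit (Fin n)).symm.trans finSuccEquivLast.symm)
  have hE : E (Sum.inr ()) = Fin.last n := by
    simp [E]
  have hE' : E.symm (Fin.last n) = Sum.inr () := by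
    rw [← hE, Equiv.symm_apply_apply]
  refine ⟨b.reindex E, ?_, ?_, ?_⟩
  · intro i j hij
    simp only [Basis.reindex_apply]
    apply r1
    intro h
    exact hij (E.symm.injective h)
  · intro i hi
    simp only [Basis.reindex_apply]
    rcases h : E.symm i with j | ⟨⟩
    · exact r2 j
    · exfalso
      apply hi
      rw [← hE, ← h, Equiv.apply_symm_apply]
  · simp only [Basis.reindex_apply, hE']
    exact r3

end Cfsg.Agent.S0756
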