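import Cfsg.Statements.S0757

set_option autoImplicit false
open Cfsg

namespace Cfsg.Agent.S0757

theorem toMatrix'_weightedSumSquares {F : Type*} [Field F] [Invertible (2 : F)] {ι : Type*}
    [Fintype ι] [DecidableEq ι] (w : ι → F) :
    QuadraticForm.toMatrix' (QuadraticMap.weightedSumSquares F w) = Matrix.diagonal w := by
  ext i j
  unfold QuadraticForm.toMatrix'
  rw [LinearMap.toMatrix₂'_apply, QuadraticMap.associated_apply, Module.End.smul_def,
    QuadraticMap.half_moduleEnd_apply_eq_half_smul]
  simp only [QuadraticMap.weightedSumSquares_apply, Pi.add_apply, smul_eq_mul]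
  by_cases hij : i = j
  · subst hij
    simp only [Matrix.diagonal_apply_eq]
    have h1 : ∀ k, w k * ((Pi.single i (1:F) : ι → F) k * (Pi.single i (1:F) : ι → F) k)
        = if k = i then w i else 0 := by
      intro k
      by_cases hk : k = i
      · subst hk; simp
      · simp [Pi.single_apply, hk]
    have h2 : ∀ k, w k * (((Pi.single i (1:F) : ι → F) k + (Pi.single i (1:F) : ι → F) k) *
        ((Pi.single i (1:F) : ι → F) k + (Pi.single i (1:F) : ι → F) k))
        = if k = i then 4 * w i else 0 := by
      intro k
      by_cases hk : k = i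
      · subst hk; simp; ring
      · simp [Pi.single_apply, hk]
    simp only [h1, h2, Finset.sum_ite_eq', Finset.mem_univ, if_true, smul_eq_mul]
    have : (⅟ 2 : F) * 2 = 1 := invOf_mul_self 2
    linear_combination (w i) * this
  · simp only [Matrix.diagonal_apply_ne _ hij]
    have h1 : ∀ (a : ι) k, w k * ((Pi.single a (1:F) : ι → F) k * (Pi.single a (1:F) : ι → F) k)
        = if k = a then w a else 0 := by
      intro a k
      by_cases hk : k = a
      · subst hk; simp
      · simp [Pi.single_apply, hk]
    have h2 : ∀ k, w k * (((Pi.single i (1:F) : ι → F) k + (Pi.single j (1:F) : ι → F) k) *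
        ((Pi.single i (1:F) : ι → F) k + (Pi.single j (1:F) : ι → F) k))
        = (if k = i then w i else 0) + (if k = j then w j else 0) := by
      intro k
      by_cases hk : k = i
      · subst hk; simp [Pi.single_apply, hij]
      · by_cases hk' : k = j
        · subst hk'; simp [Pi.single_apply, hk]
        · simp [Pi.single_apply, hk, hk']
    simp only [h1, h2, Finset.sum_add_distrib, Finset.sum_ite_eq', Finset.mem_univ, if_true,
      smul_eq_mul]
    ring

/-- The two diagonal forms Σ x_i^2 and Σ_(i<n) x_i^2 + α x_n^2 on F^(n+1), with α a non-square and 2 ≠ 0 in F, are inequivalent quadratic forms (so over a finite field of odd order there are exactly two classes of non-singular symmetric bilinear forms in each dimension). -/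
theorem result {F : Type*} [Field F] (h2 : (2 : F) ≠ 0) (n : ℕ) (α : F) (hα : ¬ IsSquare α) : ¬ (QuadraticMap.weightedSumSquares F (fun _ : Fin (n + 1) => (1 : F))).Equivalent (QuadraticMap.weightedSumSquares F (fun i : Fin (n + 1) => if i = Fin.last n then α else (1 : F))) := by
  rintro ⟨e⟩
  haveI : Invertible (2 : F) := invertibleOfNonzero h2
  set Q₁ := QuadraticMap.weightedSumSquares F (fun _ : Fin (n + 1) => (1 : F)) with hQ₁
  set Q₂ := QuadraticMap.weightedSumSquares F
    (fun i : Fin (n + 1) => if i = Fin.last n then α else (1 : F)) with hQ₂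
  have hcomp : Q₁ = Q₂.comp (e.toLinearEquiv : (Fin (n+1) → F) →ₗ[F] (Fin (n+1) → F)) := by
    ext x
    simp only [QuadraticMap.comp_apply]
    exact (e.map_app x).symm
  have hd := QuadraticForm.discr'_comp (Q := Q₂)
    (e.toLinearEquiv : (Fin (n+1) → F) →ₗ[F] (Fin (n+1) → F))
  rw [← hcomp] at hd
  have hd1 : QuadraticForm.discr' Q₁ = 1 := by
    unfold QuadraticForm.discr'
    rw [hQ₁, toMatrix'_weightedSumSquares, Matrix.det_diagonal]
    simp
  have hd2 : QuadraticForm.discr' Q₂ = α := by
    unfold QuadraticForm.discr'
    rw [hQ₂, toMatrix'_weightedSumSquares, Matrix.det_diagonal]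
    rw [Finset.prod_ite_eq' ]
    simp
  rw [hd1, hd2] at hd
  set d := (LinearMap.toMatrix' (e.toLinearEquiv : (Fin (n+1) → F) →ₗ[F] (Fin (n+1) → F))).det
    with hdd
  have hd0 : d ≠ 0 := by
    intro h0
    rw [h0] at hd
    simp at hd
  apply hα
  refine ⟨d⁻¹, ?_⟩
  field_simp
  linear_combination -hd

end Cfsg.Agent.S0757
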