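import Cfsg.Statements.S0759
import Mathlib

set_option autoImplicit false
open Cfsg

namespace Cfsg.Agent.S0759

open Module Matrix

variable {F : Type*} [Field F]

section construct

variable {ι κ : Type*} [Fintype ι] [Fintype κ]

/-- `x ↦ (x, T x)`, with the two halves glued along `e`. -/
def graphMap (e : ι ⊕ ι ≃ κ) (T : (ι → F) →ₗ[F] (ι → F)) : (ι → F) →ₗ[F] (κ → F) where
  toFun x := fun j => Sum.elim x (T x) (e.symm j)
  map_add' x y := by
    funext j
    rcases h : e.symm j with i | i <;> simp [h]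
  map_smul' c x := by
    funext j
    rcases h : e.symm j with i | i <;> simp [h]

theorem graphMap_inl (e : ι ⊕ ι ≃ κ) (T : (ι → F) →ₗ[F] (ι → F)) (x : ι → F) (i : ι) :
    graphMap e T x (e (Sum.inl i)) = x i := by simp [graphMap]

theorem graphMap_inr (e : ι ⊕ ι ≃ κ) (T : (ι → F) →ₗ[F] (ι → F)) (x : ι → F) (i : ι) :
    graphMap e T x (e (Sum.inr i)) = T x i := by simp [graphMap]

theorem graphMap_injective (e : ι ⊕ ι ≃ κ) (T : (ι → F) →ₗ[F] (ι → F)) :
    Function.Injective (graphMap e T) := by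
  intro x y h
  funext i
  have := congrFun h (e (Sum.inl i))
  simpa [graphMap_inl] using this

theorem sum_graphMap (e : ι ⊕ ι ≃ κ) (T : (ι → F) →ₗ[F] (ι → F)) (x : ι → F) :
    ∑ j, (graphMap e T x j) ^ 2 = ∑ i, x i ^ 2 + ∑ i, (T x) i ^ 2 := by
  rw [← e.sum_comp, Fintype.sum_sum_type]
  simp [graphMap_inl, graphMap_inr]

theorem exists_of_T (e : ι ⊕ ι ≃ κ) (T : (ι → F) →ₗ[F] (ι → F))
    (hT : ∀ x, ∑ i, (T x) i ^ 2 = - ∑ i, x i ^ 2) :
    ∃ W : Submodule F (κ → F), finrank F W = Fintype.card ι ∧ ∀ w ∈ W, ∑ j, w j ^ 2 = 0 := by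
  refine ⟨LinearMap.range (graphMap e T), ?_, ?_⟩
  · rw [LinearMap.finrank_range_of_inj (graphMap_injective e T), Module.finrank_fintype_fun_eq_card]
  · rintro _ ⟨x, rfl⟩
    rw [sum_graphMap, hT]; ring

/-- Rotation-like map on pairs of coordinates. -/
def rotMap {ι' : Type*} (e' : ι' ⊕ ι' ≃ ι) (a b : F) : (ι → F) →ₗ[F] (ι → F) where
  toFun x := fun j => Sum.elim (fun i => a * x (e' (Sum.inl i)) - b * x (e' (Sum.inr i)))
    (fun i => b * x (e' (Sum.inl i)) + a * x (e' (Sum.inr i))) (e'.symm j)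
  map_add' x y := by
    funext j
    rcases h : e'.symm j with i | i <;> simp [h] <;> ring
  map_smul' c x := by
    funext j
    rcases h : e'.symm j with i | i <;> simp [h] <;> ring

theorem rotMap_sq {ι' : Type*} [Fintype ι'] (e' : ι' ⊕ ι' ≃ ι) (a b : F) (hab : a ^ 2 + b ^ 2 = -1)
    (x : ι → F) : ∑ i, (rotMap e' a b x i) ^ 2 = - ∑ i, x i ^ 2 := by
  rw [← e'.sum_comp, Fintype.sum_sum_type, ← e'.sum_comp (fun i => x i ^ 2), Fintype.sum_sum_type]
  simp only [rotMap, LinearMap.coe_mk, AddHom.coe_mk, Equiv.symm_apply_apply, Sum.elim_inl,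
    Sum.elim_inr]
  rw [← Finset.sum_add_distrib, ← Finset.sum_add_distrib, ← Finset.sum_neg_distrib]
  refine Finset.sum_congr rfl fun i _ => ?_
  linear_combination (x (e' (Sum.inl i)) ^ 2 + x (e' (Sum.inr i)) ^ 2) * hab

end construct

theorem exists_W [Fintype F] (m : ℕ) (h : ¬ (Fintype.card F % 4 = 3 ∧ Odd m)) :
    ∃ W : Submodule F (Fin (2 * m) → F), finrank F W = m ∧ ∀ w ∈ W, ∑ i, w i ^ 2 = 0 := by
  let e : Fin m ⊕ Fin m ≃ Fin (2 * m) := finSumFinEquiv.trans (finCongr (two_mul m).symm)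
  by_cases hq : Fintype.card F % 4 = 3
  · have hm : Even m := by
      rw [← Nat.not_odd_iff_even]; exact fun ho => h ⟨hq, ho⟩
    obtain ⟨k, hk⟩ := hm
    obtain ⟨a, b, hab⟩ : ∃ a b : F, a ^ 2 + b ^ 2 = -1 := by
      have : NeZero (ringChar F) := ⟨CharP.char_ne_zero_of_finite F (ringChar F)⟩
      obtain ⟨a, b, hab⟩ := CharP.sq_add_sq F (ringChar F) (-1)
      exact ⟨a, b, by simpa using hab⟩
    let e' : Fin k ⊕ Fin k ≃ Fin m := finSumFinEquiv.trans (finCongr hk.symm)
    obtain ⟨W, hW, hW'⟩ := exists_of_T e (rotMap e' a b) (rotMap_sq e' a b hab)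
    exact ⟨W, by simpa using hW, hW'⟩
  · have : IsSquare (-1 : F) := FiniteField.isSquare_neg_one_iff.mpr hq
    obtain ⟨i, hi⟩ := this
    obtain ⟨W, hW, hW'⟩ := exists_of_T e (i • (LinearMap.id : (Fin m → F) →ₗ[F] (Fin m → F))) (by
      intro x
      simp only [LinearMap.smul_apply, LinearMap.id_apply, Pi.smul_apply, smul_eq_mul, mul_pow,
        ← Finset.mul_sum]
      rw [pow_two, ← hi]; ring)
    exact ⟨W, by simpa using hW, hW'⟩

section converse

variable {κ : Type*} [Fintype κ] [DecidableEq κ]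

theorem isSquare_of_singular (h2 : (2 : F) ≠ 0) (m : ℕ) (e : Fin m ⊕ Fin m ≃ κ)
    (W : Submodule F (κ → F)) (hW : finrank F W = m) (hs : ∀ w ∈ W, ∑ k, w k ^ 2 = 0) :
    IsSquare ((-1 : F) ^ m) := by
  -- isotropy
  have hiso : ∀ w ∈ W, ∀ w' ∈ W, w ⬝ᵥ w' = 0 := by
    intro w hw w' hw'
    have h1 := hs _ (W.add_mem hw hw')
    have h3 : ∑ k, (w + w') k ^ 2 = ∑ k, w k ^ 2 + 2 * (w ⬝ᵥ w') + ∑ k, w' k ^ 2 := by
      simp only [dotProduct, Pi.add_apply, Finset.mul_sum, ← Finset.sum_add_distrib]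
      refine Finset.sum_congr rfl fun k _ => by ring
    rw [h3, hs w hw, hs w' hw'] at h1
    simpa [h2] using h1
  -- basis
  let b : Basis (Fin m) F W := Module.finBasisOfFinrankEq F W hW
  let ι' : (Fin m → F) →ₗ[F] (κ → F) := W.subtype ∘ₗ (b.equivFun.symm : (Fin m → F) →ₗ[F] W)
  have hinj : LinearMap.ker ι' = ⊥ := by
    rw [LinearMap.ker_eq_bot]
    exact W.injective_subtype.comp b.equivFun.symm.injective
  obtain ⟨g, hg⟩ := ι'.exists_leftInverse_of_injective hinj
  let w : Fin m → (κ → F) := fun i => (b i : κ → F)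
  have hw : ∀ i, w i ∈ W := fun i => (b i).2
  have hι : ∀ i, ι' (Pi.single i 1) = w i := by
    intro i
    simp [ι', w]
  let U : Fin m → (κ → F) := fun j k => g (fun l => if k = l then 1 else 0) j
  have hwU : ∀ i j, w i ⬝ᵥ U j = if j = i then 1 else 0 := by
    intro i j
    have h1 : g (w i) = Pi.single i 1 := by
      rw [← hι]; exact LinearMap.congr_fun hg _
    have h2 := LinearMap.pi_apply_eq_sum_univ g (w i)
    have h3 := congrFun h2 j
    rw [h1] at h3
    simp only [Finset.sum_apply, Pi.smul_apply, smul_eq_mul, Pi.single_apply] at h3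
    rw [h3]
    rfl
  have hUw : ∀ i j, U i ⬝ᵥ w j = if i = j then 1 else 0 := by
    intro i j
    rw [dotProduct_comm, hwU]
  -- correction making the `u`'s isotropic
  let D : Fin m → Fin m → F := fun j k => U j ⬝ᵥ U k
  let c : Fin m → (κ → F) := fun j => (2⁻¹ : F) • ∑ k, D j k • w k
  have hc : ∀ j, c j ∈ W := fun j =>
    W.smul_mem _ (W.sum_mem fun k _ => W.smul_mem _ (hw k))
  have hUc : ∀ i j, U i ⬝ᵥ c j = 2⁻¹ * D j i := by
    intro i j
    simp only [c, dotProduct_smul, dotProduct_sum, hUw, smul_eq_mul, mul_ite, mul_one, mul_zero,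
      Finset.sum_ite_eq, Finset.mem_univ, if_true]
  have hcU : ∀ i j, c i ⬝ᵥ U j = 2⁻¹ * D i j := by
    intro i j
    rw [dotProduct_comm, hUc]
  have hDsymm : ∀ i j, D i j = D j i := fun i j => dotProduct_comm _ _
  let u : Fin m → (κ → F) := fun j => U j - c j
  have hwu : ∀ i j, w i ⬝ᵥ u j = if j = i then 1 else 0 := by
    intro i j
    simp only [u, dotProduct_sub, hwU, hiso _ (hw i) _ (hc j), sub_zero]
  have huw : ∀ i j, u i ⬝ᵥ w j = if i = j then 1 else 0 := by
    intro i j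
    rw [dotProduct_comm, hwu]
  have huu : ∀ i j, u i ⬝ᵥ u j = 0 := by
    intro i j
    simp only [u, dotProduct_sub, sub_dotProduct, hUc, hcU, hiso _ (hc i) _ (hc j), sub_zero]
    rw [hDsymm j i]
    change D i j - 2⁻¹ * D i j - 2⁻¹ * D i j = 0
    field_simp
    ring
  have hww : ∀ i j, w i ⬝ᵥ w j = 0 := fun i j => hiso _ (hw i) _ (hw j)
  -- the diagonalising vectors
  let rows : Fin m ⊕ Fin m → (κ → F) := Sum.elim (fun i => w i + u i) (fun i => w i - u i)
  let d : Fin m ⊕ Fin m → F := Sum.elim (fun _ => 2) (fun _ => -2)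
  have hrows : ∀ s t, rows s ⬝ᵥ rows t = if s = t then d s else 0 := by
    rintro (i | i) (j | j)
    · simp only [rows, d, Sum.elim_inl, add_dotProduct, dotProduct_add, hww, hwu, huw, huu,
        Sum.inl.injEq]
      by_cases hij : i = j
      · subst hij; simp; norm_num
      · simp [hij, Ne.symm hij]
    · simp only [rows, d, Sum.elim_inl, Sum.elim_inr, add_dotProduct, dotProduct_sub, hww, hwu,
        huw, huu, reduceCtorEq, if_false]
      by_cases hij : i = j
      · subst hij; simp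
      · simp [hij, Ne.symm hij]
    · simp only [rows, d, Sum.elim_inl, Sum.elim_inr, sub_dotProduct, dotProduct_add, hww, hwu,
        huw, huu, reduceCtorEq, if_false]
      by_cases hij : i = j
      · subst hij; simp
      · simp [hij, Ne.symm hij]
    · simp only [rows, d, Sum.elim_inr, sub_dotProduct, dotProduct_sub, hww, hwu, huw, huu,
        Sum.inr.injEq]
      by_cases hij : i = j
      · subst hij; simp; norm_num
      · simp [hij, Ne.symm hij]
  let P : Matrix (Fin m ⊕ Fin m) (Fin m ⊕ Fin m) F := fun s t => rows s (e t)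
  have hP : P * Pᵀ = Matrix.diagonal d := by
    ext s t
    rw [Matrix.mul_apply, Matrix.diagonal_apply]
    change ∑ x, rows s (e x) * rows t (e x) = _
    rw [e.sum_comp (fun k => rows s k * rows t k)]
    exact hrows s t
  have hdet : P.det * P.det = 2 ^ m * (-2) ^ m := by
    have := congrArg Matrix.det hP
    rw [Matrix.det_mul, Matrix.det_transpose, Matrix.det_diagonal, Fintype.prod_sum_type] at this
    simpa [d] using this
  refine ⟨P.det * (2 ^ m)⁻¹, ?_⟩
  have h2m : (2 : F) ^ m ≠ 0 := pow_ne_zero _ h2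
  have : (-2 : F) ^ m = (-1) ^ m * 2 ^ m := by rw [← mul_pow]; norm_num
  rw [this] at hdet
  field_simp
  linear_combination -hdet

end converse

theorem result {F : Type*} [Field F] [Fintype F] (h2 : (2 : F) ≠ 0) (m : ℕ) (hm : 1 ≤ m) : (∃ W : Submodule F (Fin (2 * m) → F), Module.finrank F W = m ∧ ∀ w ∈ W, ∑ i, w i ^ 2 = 0) ↔ ¬ (Fintype.card F % 4 = 3 ∧ Odd m) := by
  constructor
  · rintro ⟨W, hW, hs⟩ ⟨hq, hodd⟩
    have := isSquare_of_singular h2 m
      (finSumFinEquiv.trans (finCongr (two_mul m).symm)) W hW hs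
    rw [hodd.neg_one_pow] at this
    exact (FiniteField.isSquare_neg_one_iff.mp this) hq
  · exact exists_W m

end Cfsg.Agent.S0759
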