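import Cfsg.Statements.S0760
import Mathlib

set_option autoImplicit false
open Cfsg

namespace Cfsg.Agent.S0760

open Module QuadraticMap

variable {F V : Type*} [Field F] [AddCommGroup V] [Module F V]

/-- A subspace on which `Q` vanishes is totally isotropic for the polar form. -/
theorem polar_zero_of_singular (Q : QuadraticForm F V) (W : Submodule F V)
    (h : ∀ w ∈ W, Q w = 0) {w w' : V} (hw : w ∈ W) (hw' : w' ∈ W) : polar Q w w' = 0 := by
  unfold polar
  rw [h _ (W.add_mem hw hw'), h _ hw, h _ hw']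
  simp

theorem le_orthogonal_self (Q : QuadraticForm F V) (W : Submodule F V)
    (h : ∀ w ∈ W, Q w = 0) : W ≤ LinearMap.BilinForm.orthogonal (polarBilin Q) W := by
  intro w hw
  rw [LinearMap.BilinForm.mem_orthogonal_iff]
  intro n hn
  exact polar_zero_of_singular Q W h hn hw

/-- Key inequality. -/
theorem finrank_le [FiniteDimensional F V] (Q : QuadraticForm F V)
    (hQ : (QuadraticMap.polarBilin Q).Nondegenerate) (W₁ W₂ : Submodule F V)
    (h₁ : ∀ w ∈ W₁, Q w = 0) (h₂ : ∀ w ∈ W₂, Q w = 0)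
    (hmax₂ : ∀ W : Submodule F V, W₂ ≤ W → (∀ w ∈ W, Q w = 0) → W = W₂) :
    finrank F W₁ ≤ finrank F W₂ := by
  have hker : LinearMap.ker (polarBilin Q) = ⊥ :=
    LinearMap.separatingLeft_iff_ker_eq_bot.mp hQ.1
  -- Claim B: W₁ ⊓ W₂^⊥ ≤ W₂
  have hclaimB : W₁ ⊓ LinearMap.BilinForm.orthogonal (polarBilin Q) W₂ ≤ W₂ := by
    have hsing : ∀ w ∈ W₂ ⊔ (W₁ ⊓ LinearMap.BilinForm.orthogonal (polarBilin Q) W₂),
        Q w = 0 := by
      intro w hw
      obtain ⟨w₂, hw₂, u, hu, rfl⟩ := Submodule.mem_sup.mp hw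
      have hu1 : u ∈ W₁ := hu.1
      have hu2 : u ∈ LinearMap.BilinForm.orthogonal (polarBilin Q) W₂ := hu.2
      rw [LinearMap.BilinForm.mem_orthogonal_iff] at hu2
      have h3 : polar Q w₂ u = 0 := hu2 w₂ hw₂
      rw [QuadraticMap.map_add Q, h₂ _ hw₂, h₁ _ hu1, h3]
      simp
    have := hmax₂ _ le_sup_left hsing
    exact le_sup_right.trans this.le
  have heq : W₁ ⊓ LinearMap.BilinForm.orthogonal (polarBilin Q) W₂ = W₁ ⊓ W₂ := by
    apply le_antisymm
    · exact le_inf inf_le_left hclaimB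
    · exact inf_le_inf_left _ (le_orthogonal_self Q W₂ h₂)
  have hsup : W₁ ⊔ LinearMap.BilinForm.orthogonal (polarBilin Q) W₂ ≤
      LinearMap.BilinForm.orthogonal (polarBilin Q) (W₁ ⊓ W₂) := by
    apply sup_le
    · exact (le_orthogonal_self Q W₁ h₁).trans
        (LinearMap.BilinForm.orthogonal_le inf_le_left)
    · exact LinearMap.BilinForm.orthogonal_le inf_le_right
  have d1 := LinearMap.BilinForm.finrank_add_finrank_orthogonal' (B := polarBilin Q) W₂
  have d2 := LinearMap.BilinForm.finrank_add_finrank_orthogonal' (B := polarBilin Q) (W₁ ⊓ W₂)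
  rw [hker, inf_bot_eq, finrank_bot, add_zero] at d1 d2
  have d3 := Submodule.finrank_sup_add_finrank_inf_eq W₁
    (LinearMap.BilinForm.orthogonal (polarBilin Q) W₂)
  rw [heq] at d3
  have d4 := Submodule.finrank_mono hsup
  omega

theorem result {F V : Type*} [Field F] [Finite F] [AddCommGroup V] [Module F V] [FiniteDimensional F V] (Q : QuadraticForm F V) (hQ : (QuadraticMap.polarBilin Q).Nondegenerate) (W₁ W₂ : Submodule F V) (h₁ : ∀ w ∈ W₁, Q w = 0) (h₂ : ∀ w ∈ W₂, Q w = 0) (hmax₁ : ∀ W : Submodule F V, W₁ ≤ W → (∀ w ∈ W, Q w = 0) → W = W₁) (hmax₂ : ∀ W : Submodule F V, W₂ ≤ W → (∀ w ∈ W, Q w = 0) → W = W₂) : Module.finrank F W₁ = Module.finrank F W₂ ∧ 2 * Module.finrank F W₁ ≤ Module.finrank F V := by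
  refine ⟨le_antisymm (finrank_le Q hQ W₁ W₂ h₁ h₂ hmax₂) (finrank_le Q hQ W₂ W₁ h₂ h₁ hmax₁), ?_⟩
  have hker : LinearMap.ker (polarBilin Q) = ⊥ :=
    LinearMap.separatingLeft_iff_ker_eq_bot.mp hQ.1
  have d1 := LinearMap.BilinForm.finrank_add_finrank_orthogonal' (B := polarBilin Q) W₁
  rw [hker, inf_bot_eq, finrank_bot, add_zero] at d1
  have d2 := Submodule.finrank_mono (le_orthogonal_self Q W₁ h₁)
  omega

end Cfsg.Agent.S0760
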