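import Cfsg.Statements.S0761

set_option autoImplicit false
open Cfsg

namespace Cfsg.Agent.S0761

/-- Hyperbolic partners: let B be a non-degenerate bilinear form on a finite-dimensional space, either alternating, or symmetric with 2 ≠ 0. If Z is a subspace on which B vanishes, x ∉ Z is isotropic and orthogonal to Z, then there is an isotropic y with B x y = 1 which is orthogonal to Z. -/
theorem result {F V : Type*} [Field F] [AddCommGroup V] [Module F V] [FiniteDimensional F V] (B : LinearMap.BilinForm F V) (hB : B.Nondegenerate) (hform : B.IsAlt ∨ (B.IsSymm ∧ (2 : F) ≠ 0)) (x : V) (Z : Submodule F V) (hxZ : x ∉ Z) (hx : B x x = 0) (hxz : ∀ z ∈ Z, B x z = 0) (hZ : ∀ z ∈ Z, ∀ z' ∈ Z, B z z' = 0) : ∃ y : V, B y y = 0 ∧ B x y = 1 ∧ ∀ z ∈ Z, B z y = 0 := by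
  -- a functional vanishing on Z with value 1 at x
  obtain ⟨f, hfx, hfZ⟩ := Submodule.exists_dual_map_eq_bot_of_notMem hxZ inferInstance
  have hfZ' : ∀ z ∈ Z, f z = 0 := by
    intro z hz
    have : f z ∈ Z.map f := Submodule.mem_map_of_mem hz
    rw [hfZ] at this
    simpa using this
  -- represent (f x)⁻¹ • f as B(·, y0)
  set g : Module.Dual F V := (f x)⁻¹ • f with hg
  set y0 : V := (B.flip.toDual hB.flip).symm g with hy0
  have hy0B : ∀ v, B v y0 = g v := by
    intro v
    have := LinearMap.BilinForm.apply_toDual_symm_apply (B := B.flip) (hB := hB.flip) g v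
    exact this
  have h1 : B x y0 = 1 := by
    rw [hy0B, hg, LinearMap.smul_apply, smul_eq_mul, inv_mul_cancel₀ hfx]
  have h2 : ∀ z ∈ Z, B z y0 = 0 := by
    intro z hz
    rw [hy0B, hg, LinearMap.smul_apply, hfZ' z hz, smul_zero]
  rcases hform with hA | ⟨hS, h2ne⟩
  · refine ⟨y0, hA y0, h1, h2⟩
  · have hsymm : ∀ u v, B u v = B v u := fun u v => hS.eq u v
    set c : F := B y0 y0 / 2 with hc
    refine ⟨y0 - c • x, ?_, ?_, ?_⟩
    · simp only [map_sub, map_smul, LinearMap.sub_apply, LinearMap.smul_apply, smul_eq_mul, hx,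
        h1, hsymm y0 x]
      rw [hc]; field_simp; ring
    · simp only [map_sub, map_smul, smul_eq_mul, hx, h1]; ring
    · intro z hz
      simp only [map_sub, map_smul, smul_eq_mul, h2 z hz, hsymm z x, hxz z hz]; ring

end Cfsg.Agent.S0761
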