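import Cfsg.Statements.S0762

set_option autoImplicit false
open Cfsg

namespace Cfsg.Agent.S0762

theorem two_eq_zero' {F : Type*} [Field F] [CharP F 2] : (2 : F) = 0 := by
  have := CharP.cast_eq_zero F 2
  exact_mod_cast this

/-- if `u`, `w` are orthogonal for the polar form, then some `a • u + w` is singular or `u` is. -/
theorem exists_singular_of_polar_eq_zero {F V : Type*} [Field F] [Finite F] [CharP F 2]
    [AddCommGroup V] [Module F V] (Q : QuadraticForm F V) (u w : V)
    (hB : QuadraticMap.polar Q u w = 0) : Q u = 0 ∨ ∃ a : F, Q (a • u + w) = 0 := by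
  by_cases hu : Q u = 0
  · exact Or.inl hu
  · right
    have hchar : ringChar F = 2 := (ringChar.eq F 2).symm ▸ rfl
    haveI := Fintype.ofFinite F
    obtain ⟨a, ha⟩ := FiniteField.isSquare_of_char_two hchar (Q w / Q u)
    refine ⟨a, ?_⟩
    have h1 : Q (a • u + w) = Q (a • u) + Q w + QuadraticMap.polar Q (a • u) w := by
      unfold QuadraticMap.polar; ring
    rw [h1, QuadraticMap.polar_smul_left, hB, smul_zero, add_zero, QuadraticMap.map_smul,
      smul_eq_mul, ← ha, div_mul_cancel₀ _ hu]
    have h2 : (2 : F) = 0 := two_eq_zero'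
    linear_combination (Q w) * h2

/-- In characteristic two over a finite field, a quadratic form on a space of dimension at least 3 vanishes on some non-zero vector. -/
theorem result {F V : Type*} [Field F] [Finite F] [CharP F 2] [AddCommGroup V] [Module F V] [FiniteDimensional F V] (Q : QuadraticForm F V) (h3 : 3 ≤ Module.finrank F V) : ∃ v : V, v ≠ 0 ∧ Q v = 0 := by
  classical
  have h2 : (2 : F) = 0 := two_eq_zero'
  set n := Module.finrank F V with hn
  let b : Module.Basis (Fin n) F V := Module.finBasis F V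
  let i1 : Fin n := ⟨0, by omega⟩
  let i2 : Fin n := ⟨1, by omega⟩
  let i3 : Fin n := ⟨2, by omega⟩
  have h12 : i1 ≠ i2 := by simp [i1, i2, Fin.ext_iff]
  have h13 : i1 ≠ i3 := by simp [i1, i3, Fin.ext_iff]
  have h23 : i2 ≠ i3 := by simp [i2, i3, Fin.ext_iff]
  by_cases hB : QuadraticMap.polar Q (b i1) (b i2) = 0
  · rcases exists_singular_of_polar_eq_zero Q (b i1) (b i2) hB with h | ⟨a, ha⟩
    · exact ⟨b i1, b.ne_zero i1, h⟩
    · refine ⟨a • b i1 + b i2, ?_, ha⟩
      intro h0
      have := congrArg (fun v => b.repr v i2) h0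
      simp [Finsupp.single_apply, h12] at this
  · set c : F := QuadraticMap.polar Q (b i1) (b i3) / QuadraticMap.polar Q (b i1) (b i2) with hc
    have hB' : QuadraticMap.polar Q (b i1) (b i3 + c • b i2) = 0 := by
      rw [QuadraticMap.polar_add_right, QuadraticMap.polar_smul_right, smul_eq_mul, hc,
        div_mul_cancel₀ _ hB]
      linear_combination (QuadraticMap.polar Q (b i1) (b i3)) * h2
    rcases exists_singular_of_polar_eq_zero Q (b i1) (b i3 + c • b i2) hB' with h | ⟨a, ha⟩
    · exact ⟨b i1, b.ne_zero i1, h⟩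
    · refine ⟨a • b i1 + (b i3 + c • b i2), ?_, ha⟩
      intro h0
      have := congrArg (fun v => b.repr v i3) h0
      simp [Finsupp.single_apply, h13, h23] at this

end Cfsg.Agent.S0762
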