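import Cfsg.Statements.S0763
import Mathlib

set_option autoImplicit false
open Cfsg

namespace Cfsg.Agent.S0763

open QuadraticMap

variable {F V : Type*} [Field F] [CharP F 2] [AddCommGroup V] [Module F V]

theorem two_eq_zero' : (2 : F) = 0 := by
  have : ((2 : ℕ) : F) = 0 := CharP.cast_eq_zero F 2
  exact_mod_cast this

theorem polar_self_zero (Q : QuadraticForm F V) (x : V) : polar Q x x = 0 := by
  rw [QuadraticMap.polar_self, two_nsmul]
  exact CharTwo.add_self_eq_zero _

theorem Q_comb (Q : QuadraticForm F V) (a b : F) (x y : V) :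
    Q (a • x + b • y) = a * a * Q x + b * b * Q y + a * b * polar Q x y := by
  rw [QuadraticMap.map_add Q, QuadraticMap.map_smul, QuadraticMap.map_smul,
    QuadraticMap.polar_smul_left, QuadraticMap.polar_smul_right]
  simp only [smul_eq_mul]
  ring

theorem indep_of_polar (Q : QuadraticForm F V) (x y : V) (h : polar Q x y = 1) :
    LinearIndependent F ![x, y] := by
  rw [LinearIndependent.pair_iff]
  intro s t hst
  have h1 : polar Q x (s • x + t • y) = t := by
    rw [QuadraticMap.polar_add_right, QuadraticMap.polar_smul_right,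
      QuadraticMap.polar_smul_right, polar_self_zero, h]
    simp
  have h2 : polar Q (s • x + t • y) y = s := by
    rw [QuadraticMap.polar_add_left, QuadraticMap.polar_smul_left,
      QuadraticMap.polar_smul_left, polar_self_zero, h]
    simp
  rw [hst] at h1 h2
  simp only [QuadraticMap.polar_zero_right, QuadraticMap.polar_zero_left] at h1 h2
  exact ⟨h2.symm, h1.symm⟩

theorem result {F V : Type*} [Field F] [Finite F] [CharP F 2] [AddCommGroup V] [Module F V] (Q : QuadraticForm F V) (h2 : Module.finrank F V = 2) (hQ : (QuadraticMap.polarBilin Q).Nondegenerate) : (∃ v w : V, LinearIndependent F ![v, w] ∧ Q v = 0 ∧ Q w = 0 ∧ QuadraticMap.polar Q v w = 1) ∨ (∃ (v w : V) (μ : F), LinearIndependent F ![v, w] ∧ (∀ x : F, x ^ 2 + x + μ ≠ 0) ∧ Q v = 1 ∧ Q w = μ ∧ QuadraticMap.polar Q v w = 1) := by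
  have hnt : Nontrivial V := Module.nontrivial_of_finrank_pos (R := F) (by omega)
  -- partner vector
  have partner : ∀ v : V, v ≠ 0 → ∃ w, polar Q v w = 1 := by
    intro v hv
    have : ∃ w', polar Q v w' ≠ 0 := by
      by_contra hcon
      push Not at hcon
      exact hv (hQ.1 v (fun y => by simpa using hcon y))
    obtain ⟨w', hw'⟩ := this
    refine ⟨(polar Q v w')⁻¹ • w', ?_⟩
    rw [QuadraticMap.polar_smul_right, smul_eq_mul, inv_mul_cancel₀ hw']
  have h2F : (2 : F) = 0 := two_eq_zero'
  by_cases hsing : ∃ v : V, v ≠ 0 ∧ Q v = 0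
  · left
    obtain ⟨v, hv, hQv⟩ := hsing
    obtain ⟨w', hw'⟩ := partner v hv
    have hpol : polar Q v (Q w' • v + w') = 1 := by
      rw [QuadraticMap.polar_add_right, QuadraticMap.polar_smul_right, polar_self_zero, hw']
      simp
    refine ⟨v, Q w' • v + w', indep_of_polar Q _ _ hpol, hQv, ?_, hpol⟩
    have := Q_comb Q (Q w') 1 v w'
    rw [one_smul] at this
    rw [this, hQv, hw']
    linear_combination (Q w') * h2F
  · right
    push Not at hsing
    obtain ⟨v0, hv0⟩ := exists_ne (0 : V)
    have hc : Q v0 ≠ 0 := hsing v0 hv0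
    have := Fintype.ofFinite F
    have hchar : ringChar F = 2 := ringChar.eq F 2
    obtain ⟨d, hd⟩ := FiniteField.isSquare_of_char_two hchar (Q v0)
    have hd0 : d ≠ 0 := by rintro rfl; simp at hd; exact hc hd
    have hQv : Q (d⁻¹ • v0) = 1 := by
      rw [QuadraticMap.map_smul, hd, smul_eq_mul]
      field_simp
    have hv : d⁻¹ • v0 ≠ 0 := smul_ne_zero (inv_ne_zero hd0) hv0
    obtain ⟨w, hw⟩ := partner _ hv
    refine ⟨d⁻¹ • v0, w, Q w, indep_of_polar Q _ _ hw, ?_, hQv, rfl, hw⟩
    intro x hx
    have hli := indep_of_polar Q _ _ hw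
    rw [LinearIndependent.pair_iff] at hli
    have hne : x • (d⁻¹ • v0) + (1 : F) • w ≠ 0 := by
      intro h
      have := (hli x 1 h).2
      exact one_ne_zero this
    apply hsing _ hne
    rw [Q_comb, hQv, hw]
    linear_combination hx

end Cfsg.Agent.S0763
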