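import Cfsg.Statements.S0769
import Mathlib

set_option autoImplicit false
open Cfsg

namespace Cfsg.Agent.S0769

open Matrix

variable {F : Type*} [Field F]

/-- Entrywise condition for an invertible lower-triangular matrix. -/
def P (n : ℕ) (i j : Fin n) (x : F) : Prop := (i < j → x = 0) ∧ (i = j → x ≠ 0)

theorem isLower_of {n : ℕ} (M : Matrix (Fin n) (Fin n) F) (h : ∀ i j, i < j → M i j = 0) :
    M.IsLowerTriangular := by
  intro i j hij
  exact h i j (OrderDual.toDual_lt_toDual.mp hij)

theorem det_eq {n : ℕ} (M : Matrix (Fin n) (Fin n) F) (h : ∀ i j, i < j → M i j = 0) :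
    M.det = ∏ i, M i i := det_of_isLowerTriangular M (isLower_of M h)

/-- Invertible lower-triangular matrices as a pointwise-constrained family of entries. -/
noncomputable def equiv1 (n : ℕ) :
    {g : Matrix.GeneralLinearGroup (Fin n) F //
      ∀ i j : Fin n, i < j → (g : Matrix (Fin n) (Fin n) F) i j = 0} ≃
    {M : Fin n → Fin n → F // ∀ i, ∀ j, P n i j (M i j)} where
  toFun g := ⟨fun i j => (g.1 : Matrix (Fin n) (Fin n) F) i j, by
    intro i j
    refine ⟨g.2 i j, ?_⟩
    rintro rfl
    have hdet : (g.1 : Matrix (Fin n) (Fin n) F).det ≠ 0 := by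
      have := Matrix.GeneralLinearGroup.det_ne_zero (g.1)
      exact this
    rw [det_eq _ g.2] at hdet
    exact (Finset.prod_ne_zero_iff.mp hdet) i (Finset.mem_univ _)⟩
  invFun M := ⟨Matrix.GeneralLinearGroup.mkOfDetNeZero (Matrix.of M.1) (by
      rw [det_eq (Matrix.of M.1) (fun i j hij => (M.2 i j).1 hij)]
      exact Finset.prod_ne_zero_iff.mpr fun i _ => (M.2 i i).2 rfl),
    fun i j hij => (M.2 i j).1 hij⟩
  left_inv g := by
    apply Subtype.ext
    apply Matrix.GeneralLinearGroup.ext
    intro i j
    rfl
  right_inv M := by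
    apply Subtype.ext
    rfl

theorem card_P [Fintype F] (n : ℕ) (i j : Fin n) :
    Nat.card {x : F // P n i j x} =
      (if j < i then Fintype.card F else 1) * (if j = i then Fintype.card F - 1 else 1) := by
  classical
  rw [Nat.card_eq_fintype_card, Fintype.card_subtype]
  rcases lt_trichotomy i j with h | h | h
  · have h1 : ¬ j < i := not_lt.mpr h.le
    have h2 : ¬ j = i := (ne_of_lt h).symm
    rw [if_neg h1, if_neg h2]
    have : (Finset.univ.filter fun x : F => P n i j x) = {0} := by
      ext x
      rw [Finset.mem_filter, Finset.mem_singleton]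
      constructor
      · intro hx; exact hx.2.1 h
      · intro hx; exact ⟨Finset.mem_univ _, fun _ => hx, fun h' => absurd h' (ne_of_lt h)⟩
    rw [this]; simp
  · subst h
    rw [if_neg (lt_irrefl _), if_pos rfl]
    have : (Finset.univ.filter fun x : F => P n i i x) = Finset.univ.erase 0 := by
      ext x
      rw [Finset.mem_filter, Finset.mem_erase]
      constructor
      · intro hx; exact ⟨hx.2.2 rfl, Finset.mem_univ _⟩
      · intro hx; exact ⟨Finset.mem_univ _, fun h' => absurd h' (lt_irrefl _), fun _ => hx.1⟩
    rw [this, Finset.card_erase_of_mem (Finset.mem_univ _)]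
    simp
  · have h2 : ¬ j = i := ne_of_lt h
    rw [if_pos h, if_neg h2]
    have : (Finset.univ.filter fun x : F => P n i j x) = Finset.univ := by
      ext x
      rw [Finset.mem_filter]
      constructor
      · intro _; exact Finset.mem_univ _
      · intro _
        exact ⟨Finset.mem_univ _, fun h' => absurd h' (not_lt.mpr h.le),
          fun h' => absurd h' (ne_of_lt h).symm⟩
    rw [this]; simp

theorem result {F : Type*} [Field F] [Fintype F] {q : ℕ} (hF : Fintype.card F = q) (n : ℕ) : Nat.card {g : Matrix.GeneralLinearGroup (Fin n) F // ∀ i j : Fin n, i < j → (g : Matrix (Fin n) (Fin n) F) i j = 0} = q ^ (n * (n - 1) / 2) * (q - 1) ^ n := by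
  classical
  rw [Nat.card_congr (equiv1 n), Nat.card_congr (Equiv.subtypePiEquivPi (α := Fin n)
    (β := fun _ => Fin n → F) (p := fun i r => ∀ j, P n i j (r j))), Nat.card_pi]
  have h1 : ∀ i : Fin n, Nat.card {r : Fin n → F // ∀ j, P n i j (r j)} = q ^ (i : ℕ) * (q - 1) := by
    intro i
    rw [Nat.card_congr (Equiv.subtypePiEquivPi (α := Fin n)
      (β := fun _ => F) (p := fun j x => P n i j x)), Nat.card_pi]
    simp only [card_P, hF]
    rw [Finset.prod_mul_distrib, Finset.prod_ite_eq' Finset.univ i (fun _ => q - 1),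
      if_pos (Finset.mem_univ _), Finset.prod_ite, Finset.prod_const, Finset.prod_const_one, mul_one]
    congr 2
    have := Fin.card_filter_val_lt (n := n) (m := (i : ℕ))
    rw [min_eq_right i.2.le] at this
    rw [← this]
    congr 1
  simp only [h1]
  rw [Finset.prod_mul_distrib, Finset.prod_const, Finset.card_univ, Fintype.card_fin,
    Finset.prod_pow_eq_pow_sum, Fin.sum_univ_eq_sum_range (fun i => i) n, Finset.sum_range_id]

end Cfsg.Agent.S0769
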