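import Cfsg.Statements.S0770
import Mathlib

set_option autoImplicit false
open Cfsg

namespace Cfsg.Agent.S0770

open Matrix

variable {F : Type*} [Field F] {n : ℕ}

/-- The diagonal torus. -/
abbrev torus (F : Type*) [Field F] (n : ℕ) : Subgroup (Matrix.GeneralLinearGroup (Fin n) F) :=
  (Units.map (Matrix.diagonalRingHom (Fin n) F).toMonoidHom).range

theorem coe_map_diag (d : (Fin n → F)ˣ) :
    ((Units.map (Matrix.diagonalRingHom (Fin n) F).toMonoidHom d :
      Matrix.GeneralLinearGroup (Fin n) F) : Matrix (Fin n) (Fin n) F) =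
      Matrix.diagonal (d : Fin n → F) := rfl

theorem unit_apply_ne_zero (d : (Fin n → F)ˣ) (i : Fin n) : (d : Fin n → F) i ≠ 0 := by
  intro h
  have h1 : (d : Fin n → F) * ((d⁻¹ : (Fin n → F)ˣ) : Fin n → F) = 1 := Units.mul_inv d
  have h2 := congrFun h1 i
  simp only [Pi.mul_apply, h, zero_mul, Pi.one_apply] at h2
  exact zero_ne_one h2

theorem mem_torus_of_offdiag (h : Matrix.GeneralLinearGroup (Fin n) F)
    (hd : ∀ i j, i ≠ j → (h : Matrix (Fin n) (Fin n) F) i j = 0) : h ∈ torus F n := by
  have hkk : ∀ k, (h : Matrix (Fin n) (Fin n) F) k k ≠ 0 := by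
    intro k hk
    have h1 : (h : Matrix (Fin n) (Fin n) F) * ((h⁻¹ : Matrix.GeneralLinearGroup (Fin n) F) :
        Matrix (Fin n) (Fin n) F) = 1 := Units.mul_inv h
    have h2 := congrFun (congrFun h1 k) k
    rw [Matrix.mul_apply, Matrix.one_apply_eq] at h2
    have h3 : ∑ l, (h : Matrix (Fin n) (Fin n) F) k l *
        ((h⁻¹ : Matrix.GeneralLinearGroup (Fin n) F) : Matrix (Fin n) (Fin n) F) l k = 0 := by
      apply Finset.sum_eq_zero
      intro l _
      by_cases hl : k = l
      · subst hl; rw [hk, zero_mul]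
      · rw [hd k l hl, zero_mul]
    rw [h3] at h2
    exact zero_ne_one h2
  let u : (Fin n → F)ˣ := MulEquiv.piUnits.symm (fun k => Units.mk0 _ (hkk k))
  have hu : ∀ k, (u : Fin n → F) k = (h : Matrix (Fin n) (Fin n) F) k k := by
    intro k
    rfl
  refine ⟨u, ?_⟩
  apply Units.ext
  rw [coe_map_diag]
  ext i j
  by_cases hij : i = j
  · subst hij
    rw [Matrix.diagonal_apply_eq, hu]
  · rw [Matrix.diagonal_apply_ne _ hij, hd i j hij]

theorem offdiag_of_mem_torus (h : Matrix.GeneralLinearGroup (Fin n) F) (hh : h ∈ torus F n) :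
    ∀ i j, i ≠ j → (h : Matrix (Fin n) (Fin n) F) i j = 0 := by
  obtain ⟨d, rfl⟩ := hh
  intro i j hij
  rw [coe_map_diag, Matrix.diagonal_apply_ne _ hij]

theorem forward (hF : ∃ a : F, a ≠ 0 ∧ a ≠ 1) (g : Matrix.GeneralLinearGroup (Fin n) F)
    (hg : g ∈ Subgroup.normalizer ((torus F n : Subgroup _) : Set _)) :
    ∀ i : Fin n, ∃! j : Fin n, (g : Matrix (Fin n) (Fin n) F) i j ≠ 0 := by
  classical
  rw [Subgroup.mem_normalizer_iff] at hg
  intro i
  have hex : ∃ j, (g : Matrix (Fin n) (Fin n) F) i j ≠ 0 := by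
    by_contra hcon
    push Not at hcon
    have h1 : (g : Matrix (Fin n) (Fin n) F) * ((g⁻¹ : Matrix.GeneralLinearGroup (Fin n) F) :
        Matrix (Fin n) (Fin n) F) = 1 := Units.mul_inv g
    have h2 := congrFun (congrFun h1 i) i
    rw [Matrix.mul_apply, Matrix.one_apply_eq] at h2
    simp [hcon] at h2
  obtain ⟨j, hj⟩ := hex
  refine ⟨j, hj, ?_⟩
  intro j' hj'
  by_contra hne
  obtain ⟨a, ha0, ha1⟩ := hF
  let d : (Fin n → F)ˣ := MulEquiv.piUnits.symm (Function.update 1 j (Units.mk0 a ha0))
  have hdval : ∀ k, (d : Fin n → F) k =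
      ((Function.update (1 : Fin n → Fˣ) j (Units.mk0 a ha0)) k : F) := fun k => rfl
  have hdj : (d : Fin n → F) j = a := by
    rw [hdval, Function.update_self]; rfl
  have hdj' : (d : Fin n → F) j' = 1 := by
    rw [hdval, Function.update_of_ne hne]; rfl
  have hmem := (hg (Units.map (Matrix.diagonalRingHom (Fin n) F).toMonoidHom d)).1 ⟨d, rfl⟩
  obtain ⟨d', hd'⟩ := hmem
  have hrel : (Units.map (Matrix.diagonalRingHom (Fin n) F).toMonoidHom d') * g =
      g * Units.map (Matrix.diagonalRingHom (Fin n) F).toMonoidHom d := by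
    rw [hd']; group
  have hrelM : Matrix.diagonal (d' : Fin n → F) * (g : Matrix (Fin n) (Fin n) F) =
      (g : Matrix (Fin n) (Fin n) F) * Matrix.diagonal (d : Fin n → F) := by
    have := congrArg Units.val hrel
    rwa [Units.val_mul, Units.val_mul, coe_map_diag, coe_map_diag] at this
  have e1 := congrFun (congrFun hrelM i) j
  have e2 := congrFun (congrFun hrelM i) j'
  rw [Matrix.diagonal_mul, Matrix.mul_diagonal] at e1 e2
  rw [hdj] at e1
  rw [hdj'] at e2
  have f1 : (d' : Fin n → F) i = a := by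
    have : ((d' : Fin n → F) i - a) * (g : Matrix (Fin n) (Fin n) F) i j = 0 := by
      linear_combination e1
    rcases mul_eq_zero.mp this with h | h
    · exact sub_eq_zero.mp h
    · exact absurd h hj
  have f2 : (d' : Fin n → F) i = 1 := by
    have : ((d' : Fin n → F) i - 1) * (g : Matrix (Fin n) (Fin n) F) i j' = 0 := by
      linear_combination e2
    rcases mul_eq_zero.mp this with h | h
    · exact sub_eq_zero.mp h
    · exact absurd h hj'
  exact ha1 (f1.symm.trans f2)

theorem backward (g : Matrix.GeneralLinearGroup (Fin n) F)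
    (hmon : ∀ i : Fin n, ∃! j : Fin n, (g : Matrix (Fin n) (Fin n) F) i j ≠ 0) :
    g ∈ Subgroup.normalizer ((torus F n : Subgroup _) : Set _) := by
  classical
  choose π hπ1 hπ2 using hmon
  have hzero : ∀ i j, j ≠ π i → (g : Matrix (Fin n) (Fin n) F) i j = 0 := by
    intro i j hj
    by_contra h
    exact hj (hπ2 i j h)
  have hginv : (g : Matrix (Fin n) (Fin n) F) * ((g⁻¹ : Matrix.GeneralLinearGroup (Fin n) F) :
      Matrix (Fin n) (Fin n) F) = 1 := Units.mul_inv g
  -- row sums collapse
  have hrow : ∀ (M : Matrix (Fin n) (Fin n) F) i j,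
      ((g : Matrix (Fin n) (Fin n) F) * M) i j =
        (g : Matrix (Fin n) (Fin n) F) i (π i) * M (π i) j := by
    intro M i j
    rw [Matrix.mul_apply]
    apply Finset.sum_eq_single (π i)
    · intro l _ hl
      rw [hzero i l hl, zero_mul]
    · intro h; exact absurd (Finset.mem_univ _) h
  have hinj : Function.Injective π := by
    intro i i' hii
    by_contra hne
    have h1 := congrFun (congrFun hginv i) i'
    rw [hrow, Matrix.one_apply_ne hne] at h1
    have h2 := congrFun (congrFun hginv i') i'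
    rw [hrow, Matrix.one_apply_eq, ← hii] at h2
    rcases mul_eq_zero.mp h1 with h | h
    · exact hπ1 i h
    · rw [h, mul_zero] at h2
      exact zero_ne_one h2
  have hsurj : Function.Surjective π := Finite.injective_iff_surjective.mp hinj
  rw [Subgroup.mem_normalizer_iff]
  intro h
  constructor
  · rintro ⟨d, rfl⟩
    let d' : (Fin n → F)ˣ :=
      MulEquiv.piUnits.symm (fun i => Units.mk0 ((d : Fin n → F) (π i)) (unit_apply_ne_zero d _))
    have hd' : ∀ i, (d' : Fin n → F) i = (d : Fin n → F) (π i) := fun i => rfl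
    refine ⟨d', ?_⟩
    rw [eq_mul_inv_iff_mul_eq]
    apply Units.ext
    rw [Units.val_mul, Units.val_mul, coe_map_diag, coe_map_diag]
    ext i j
    rw [Matrix.diagonal_mul, Matrix.mul_diagonal, hd']
    by_cases hj : j = π i
    · rw [hj, mul_comm]
    · rw [hzero i j hj, mul_zero, zero_mul]
  · rintro ⟨d', hd'⟩
    apply mem_torus_of_offdiag
    intro k j hkj
    obtain ⟨i, rfl⟩ := hsurj k
    have hrel : (Units.map (Matrix.diagonalRingHom (Fin n) F).toMonoidHom d') * g = g * h := by
      rw [hd']; group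
    have hrelM : Matrix.diagonal (d' : Fin n → F) * (g : Matrix (Fin n) (Fin n) F) =
        (g : Matrix (Fin n) (Fin n) F) * (h : Matrix (Fin n) (Fin n) F) := by
      have := congrArg Units.val hrel
      rwa [Units.val_mul, Units.val_mul, coe_map_diag] at this
    have e1 := congrFun (congrFun hrelM i) j
    rw [Matrix.diagonal_mul, hrow, hzero i j (Ne.symm hkj), mul_zero] at e1
    rcases mul_eq_zero.mp e1.symm with h0 | h0
    · exact absurd h0 (hπ1 i)
    · exact h0

theorem result {F : Type*} [Field F] (hF : ∃ a : F, a ≠ 0 ∧ a ≠ 1) (n : ℕ) (g : Matrix.GeneralLinearGroup (Fin n) F) : g ∈ Subgroup.normalizer ((Units.map (Matrix.diagonalRingHom (Fin n) F).toMonoidHom).range : Subgroup (Matrix.GeneralLinearGroup (Fin n) F)) ↔ ∀ i : Fin n, ∃! j : Fin n, (g : Matrix (Fin n) (Fin n) F) i j ≠ 0 :=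
  ⟨forward hF g, backward g⟩

end Cfsg.Agent.S0770
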