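import Cfsg.Statements.S0774
import Mathlib
import Cfsg.Agent.Lib.Helper27.BlockStab
import Cfsg.Agent.S0769

set_option autoImplicit false
open Cfsg

namespace Cfsg.Agent.S0774

open Matrix Cfsg.Agent.Lib.Helper27.BlockStab

variable {F : Type*} [Field F]

/-- Index predicate of the `k`-th member of the flag. -/
def pk (m : ℕ) (k : Fin m) (s : Fin m ⊕ Fin m) : Prop := ∃ i : Fin m, s = Sum.inl i ∧ i ≤ k

theorem flag_eq (m : ℕ) (k : Fin m) :
    {v : Fin m ⊕ Fin m → F | (∀ i : Fin m, (k : ℕ) < (i : ℕ) → v (Sum.inl i) = 0) ∧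
      ∀ i : Fin m, v (Sum.inr i) = 0} = {v : Fin m ⊕ Fin m → F | ∀ s, ¬ pk m k s → v s = 0} := by
  ext v
  constructor
  · rintro ⟨h1, h2⟩ s hs
    rcases s with i | i
    · apply h1
      by_contra hki
      exact hs ⟨i, rfl, not_lt.mp hki⟩
    · exact h2 i
  · intro h
    refine ⟨fun i hi => h _ ?_, fun i => h _ ?_⟩
    · rintro ⟨i', hi', hle⟩
      have : i = i' := Sum.inl_injective hi'
      subst this
      exact absurd hi (not_lt.mpr hle)
    · rintro ⟨i', hi', -⟩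
      cases hi'

theorem mem_borel_iff (m : ℕ) (g : Matrix.symplecticGroup (Fin m) F) :
    g ∈ (⨅ k : Fin m, Cfsg.stabilizing (Cfsg.spToMat m F) {v : Fin m ⊕ Fin m → F |
      (∀ i : Fin m, (k : ℕ) < (i : ℕ) → v (Sum.inl i) = 0) ∧ ∀ i : Fin m, v (Sum.inr i) = 0}) ↔
    (∀ i j : Fin m, (g : Matrix (Fin m ⊕ Fin m) (Fin m ⊕ Fin m) F) (Sum.inr i) (Sum.inl j) = 0) ∧
      ∀ i j : Fin m, j < i →
        (g : Matrix (Fin m ⊕ Fin m) (Fin m ⊕ Fin m) F) (Sum.inl i) (Sum.inl j) = 0 := by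
  classical
  rw [Subgroup.mem_iInf]
  simp only [flag_eq]
  constructor
  · intro h
    constructor
    · intro i j
      have := (mem_stab_pred_iff (Cfsg.spToMat m F) (pk m j) g).mp (h j)
      apply this
      · rintro ⟨i', hi', -⟩
        cases hi'
      · exact ⟨j, rfl, le_refl _⟩
    · intro i j hji
      have := (mem_stab_pred_iff (Cfsg.spToMat m F) (pk m j) g).mp (h j)
      apply this
      · rintro ⟨i', hi', hle⟩
        have : i = i' := Sum.inl_injective hi'
        subst this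
        exact absurd hji (not_lt.mpr hle)
      · exact ⟨j, rfl, le_refl _⟩
  · rintro ⟨h1, h2⟩ k
    rw [mem_stab_pred_iff]
    rintro s t hs ⟨j, rfl, hjk⟩
    rcases s with i | i
    · apply h2
      by_contra hji
      exact hs ⟨i, rfl, (not_lt.mp hji).trans hjk⟩
    · exact h1 i j

/-! ### Transposition on `GL` -/

/-- Transpose of an invertible matrix. -/
def glT {n : ℕ} (A : GL (Fin n) F) : GL (Fin n) F :=
  ⟨(A : Matrix (Fin n) (Fin n) F)ᵀ, ((A⁻¹ : GL (Fin n) F) : Matrix (Fin n) (Fin n) F)ᵀ,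
    by rw [← Matrix.transpose_mul, Units.inv_mul, Matrix.transpose_one],
    by rw [← Matrix.transpose_mul, Units.mul_inv, Matrix.transpose_one]⟩

theorem glT_glT {n : ℕ} (A : GL (Fin n) F) : glT (glT A) = A := by
  apply Units.ext
  exact Matrix.transpose_transpose _

/-- Upper triangular invertible matrices correspond to lower triangular ones. -/
def upperLower (n : ℕ) :
    {A : GL (Fin n) F // ∀ i j : Fin n, j < i → (A : Matrix (Fin n) (Fin n) F) i j = 0} ≃
    {A : GL (Fin n) F // ∀ i j : Fin n, i < j → (A : Matrix (Fin n) (Fin n) F) i j = 0} where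
  toFun A := ⟨glT A.1, fun i j hij => A.2 j i hij⟩
  invFun A := ⟨glT A.1, fun i j hij => A.2 j i hij⟩
  left_inv A := Subtype.ext (glT_glT _)
  right_inv A := Subtype.ext (glT_glT _)

/-! ### Symmetric matrices -/

/-- Symmetric matrices are determined by their upper triangle. -/
def symEquiv (n : ℕ) :
    {X : Matrix (Fin n) (Fin n) F // Xᵀ = X} ≃ ({p : Fin n × Fin n // p.1 ≤ p.2} → F) where
  toFun X := fun p => X.1 p.1.1 p.1.2
  invFun f := ⟨Matrix.of fun i j => if h : i ≤ j then f ⟨(i, j), h⟩ else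
      f ⟨(j, i), le_of_not_ge h⟩, by
    ext i j
    simp only [Matrix.transpose_apply, Matrix.of_apply]
    by_cases h1 : i ≤ j
    · by_cases h2 : j ≤ i
      · have : i = j := le_antisymm h1 h2
        subst this
        rfl
      · rw [dif_neg h2, dif_pos h1]
    · have h2 : j ≤ i := le_of_not_ge h1
      rw [dif_pos h2, dif_neg h1]⟩
  left_inv X := by
    apply Subtype.ext
    ext i j
    simp only [Matrix.of_apply]
    by_cases h1 : i ≤ j
    · rw [dif_pos h1]
    · rw [dif_neg h1]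
      have := congrFun (congrFun X.2 i) j
      rw [Matrix.transpose_apply] at this
      exact this
  right_inv f := by
    funext p
    simp only [Matrix.of_apply]
    rw [dif_pos p.2]

theorem card_pairs (n : ℕ) : Fintype.card {p : Fin n × Fin n // p.1 ≤ p.2} = n * (n + 1) / 2 := by
  classical
  rw [Fintype.card_congr (Equiv.subtypeProdEquivSigmaSubtype (fun i j : Fin n => i ≤ j)),
    Fintype.card_sigma]
  have h1 : ∀ i : Fin n, Fintype.card {j : Fin n // i ≤ j} = n - i := by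
    intro i
    rw [Fintype.card_subtype]
    have : (Finset.univ.filter fun j : Fin n => i ≤ j) = Finset.Ici i := by
      ext j; simp
    rw [this, Fin.card_Ici]
  simp only [h1]
  rw [Fin.sum_univ_eq_sum_range (fun i => n - i) n]
  have h2 : ∑ i ∈ Finset.range n, (n - i) = ∑ i ∈ Finset.range n, (i + 1) := by
    rw [← Finset.sum_range_reflect]
    apply Finset.sum_congr rfl
    intro i hi
    have := Finset.mem_range.mp hi
    omega
  rw [h2]
  have h3 : ∑ i ∈ Finset.range n, (i + 1) = ∑ i ∈ Finset.range (n + 1), i := by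
    rw [Finset.sum_range_succ' (fun i => i) n]
    simp
  rw [h3, Finset.sum_range_id, Nat.add_sub_cancel, mul_comm]

theorem card_sym [Fintype F] (n : ℕ) :
    Nat.card {X : Matrix (Fin n) (Fin n) F // Xᵀ = X} = Fintype.card F ^ (n * (n + 1) / 2) := by
  classical
  rw [Nat.card_congr (symEquiv n), Nat.card_eq_fintype_card, Fintype.card_fun, card_pairs]

/-! ### The parametrisation -/

/-- The target: symplectic matrices with vanishing lower-left block and upper triangular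
upper-left block. -/
abbrev Target (m : ℕ) (F : Type*) [Field F] : Type _ :=
  {g : Matrix.symplecticGroup (Fin m) F //
    (∀ i j : Fin m, (g : Matrix (Fin m ⊕ Fin m) (Fin m ⊕ Fin m) F) (Sum.inr i) (Sum.inl j) = 0) ∧
      ∀ i j : Fin m, j < i →
        (g : Matrix (Fin m ⊕ Fin m) (Fin m ⊕ Fin m) F) (Sum.inl i) (Sum.inl j) = 0}

theorem block_mem (m : ℕ) (A : GL (Fin m) F) (X : Matrix (Fin m) (Fin m) F) (hX : Xᵀ = X) :
    Matrix.fromBlocks (A : Matrix (Fin m) (Fin m) F) ((A : Matrix (Fin m) (Fin m) F) * X) 0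
      ((A⁻¹ : GL (Fin m) F) : Matrix (Fin m) (Fin m) F)ᵀ ∈ Matrix.symplecticGroup (Fin m) F := by
  rw [SymplecticGroup.fromBlocks_mem_iff]
  refine ⟨by simp, ?_, ?_⟩
  · rw [Matrix.transpose_mul, Matrix.transpose_transpose, Matrix.mul_assoc,
      ← Matrix.transpose_mul, Units.inv_mul, Matrix.transpose_one, Matrix.mul_one,
      ← Matrix.mul_assoc, Units.inv_mul, Matrix.one_mul, hX]
  · rw [← Matrix.transpose_mul, Units.inv_mul, Matrix.transpose_one]
    simp

/-- The parametrisation map. -/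
def Psi (m : ℕ)
    (p : {A : GL (Fin m) F // ∀ i j : Fin m, j < i → (A : Matrix (Fin m) (Fin m) F) i j = 0} ×
      {X : Matrix (Fin m) (Fin m) F // Xᵀ = X}) : Target m F :=
  ⟨⟨Matrix.fromBlocks (p.1.1 : Matrix (Fin m) (Fin m) F)
      ((p.1.1 : Matrix (Fin m) (Fin m) F) * p.2.1) 0
      ((p.1.1⁻¹ : GL (Fin m) F) : Matrix (Fin m) (Fin m) F)ᵀ, block_mem m p.1.1 p.2.1 p.2.2⟩,
    by
      constructor
      · intro i j; rfl
      · intro i j hij
        exact p.1.2 i j hij⟩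

theorem Psi_coe (m : ℕ)
    (p : {A : GL (Fin m) F // ∀ i j : Fin m, j < i → (A : Matrix (Fin m) (Fin m) F) i j = 0} ×
      {X : Matrix (Fin m) (Fin m) F // Xᵀ = X}) :
    (((Psi m p).1 : Matrix.symplecticGroup (Fin m) F) :
      Matrix (Fin m ⊕ Fin m) (Fin m ⊕ Fin m) F) =
    Matrix.fromBlocks (p.1.1 : Matrix (Fin m) (Fin m) F)
      ((p.1.1 : Matrix (Fin m) (Fin m) F) * p.2.1) 0
      ((p.1.1⁻¹ : GL (Fin m) F) : Matrix (Fin m) (Fin m) F)ᵀ := rfl

theorem Psi_injective (m : ℕ) : Function.Injective (Psi (F := F) m) := by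
  intro p p' h
  have h1 := congrArg (fun g : Target m F =>
    ((g.1 : Matrix.symplecticGroup (Fin m) F) : Matrix (Fin m ⊕ Fin m) (Fin m ⊕ Fin m) F)) h
  simp only [Psi_coe] at h1
  rw [Matrix.fromBlocks_inj] at h1
  obtain ⟨hA, hB, -, -⟩ := h1
  have hA' : p.1.1 = p'.1.1 := Units.ext hA
  have hX : p.2.1 = p'.2.1 := by
    rw [← hA] at hB
    have h3 : ((p.1.1⁻¹ : GL (Fin m) F) : Matrix (Fin m) (Fin m) F) *
        ((p.1.1 : Matrix (Fin m) (Fin m) F) * p.2.1) =
        ((p.1.1⁻¹ : GL (Fin m) F) : Matrix (Fin m) (Fin m) F) *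
        ((p.1.1 : Matrix (Fin m) (Fin m) F) * p'.2.1) := by rw [hB]
    rwa [← Matrix.mul_assoc, ← Matrix.mul_assoc, Units.inv_mul, Matrix.one_mul,
      Matrix.one_mul] at h3
  exact Prod.ext (Subtype.ext hA') (Subtype.ext hX)

theorem Psi_surjective (m : ℕ) : Function.Surjective (Psi (F := F) m) := by
  rintro ⟨⟨M, hM⟩, hC, hU⟩
  have hC' : M.toBlocks₂₁ = 0 := by
    ext i j
    exact hC i j
  have hMb : M = Matrix.fromBlocks M.toBlocks₁₁ M.toBlocks₁₂ 0 M.toBlocks₂₂ := by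
    conv_lhs => rw [← Matrix.fromBlocks_toBlocks M, hC']
  have hM' := hM
  rw [hMb, SymplecticGroup.fromBlocks_mem_iff] at hM'
  obtain ⟨-, hBD, hAD⟩ := hM'
  have hAD' : M.toBlocks₁₁ᵀ * M.toBlocks₂₂ = 1 := by simpa using hAD
  have hDA : M.toBlocks₂₂ᵀ * M.toBlocks₁₁ = 1 := by
    have := congrArg Matrix.transpose hAD'
    rwa [Matrix.transpose_mul, Matrix.transpose_transpose, Matrix.transpose_one] at this
  have hAD2 : M.toBlocks₁₁ * M.toBlocks₂₂ᵀ = 1 := _root_.mul_eq_one_comm.mp hDA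
  let Ag : GL (Fin m) F := ⟨M.toBlocks₁₁, M.toBlocks₂₂ᵀ, hAD2, hDA⟩
  have hAgU : ∀ i j : Fin m, j < i → (Ag : Matrix (Fin m) (Fin m) F) i j = 0 := fun i j hij =>
    hU i j hij
  have hXs : (M.toBlocks₂₂ᵀ * M.toBlocks₁₂)ᵀ = M.toBlocks₂₂ᵀ * M.toBlocks₁₂ := by
    rw [Matrix.transpose_mul, Matrix.transpose_transpose, hBD]
  refine ⟨(⟨Ag, hAgU⟩, ⟨M.toBlocks₂₂ᵀ * M.toBlocks₁₂, hXs⟩), ?_⟩
  apply Subtype.ext
  apply Subtype.ext
  rw [Psi_coe]
  change Matrix.fromBlocks M.toBlocks₁₁ (M.toBlocks₁₁ * (M.toBlocks₂₂ᵀ * M.toBlocks₁₂)) 0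
    (M.toBlocks₂₂ᵀ)ᵀ = M
  rw [← Matrix.mul_assoc, hAD2, Matrix.one_mul, Matrix.transpose_transpose]
  exact hMb.symm

theorem result {F : Type*} [Field F] [Fintype F] {q : ℕ} (hF : Fintype.card F = q) (m : ℕ) : Nat.card ↥(⨅ k : Fin m, Cfsg.stabilizing (Cfsg.spToMat m F) {v : Fin m ⊕ Fin m → F | (∀ i : Fin m, (k : ℕ) < (i : ℕ) → v (Sum.inl i) = 0) ∧ ∀ i : Fin m, v (Sum.inr i) = 0}) = q ^ (m ^ 2) * (q - 1) ^ m := by
  rw [Nat.card_congr (Equiv.subtypeEquivRight (mem_borel_iff m)),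
    ← Nat.card_congr (Equiv.ofBijective (Psi (F := F) m) ⟨Psi_injective m, Psi_surjective m⟩),
    Nat.card_prod, Nat.card_congr (upperLower m), Cfsg.Agent.S0769.result hF m, card_sym, hF]
  have hexp : m * (m - 1) / 2 + m * (m + 1) / 2 = m ^ 2 := by
    rcases m with _ | k
    · simp
    · have h1 : (k + 1) * (k + 1 - 1) = (k + 1) * k := by simp
      have h2 : (k + 1) * (k + 1 + 1) = (k + 1) * k + 2 * (k + 1) := by ring
      have h3 : (k + 1) ^ 2 = (k + 1) * k + (k + 1) := by ring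
      obtain ⟨a, ha⟩ : ∃ a, (k + 1) * k = 2 * a := by
        have := Nat.even_mul_succ_self k
        obtain ⟨a, ha⟩ := this
        exact ⟨a, by rw [mul_comm, ha]; ring⟩
      rw [h1, h2, h3, ha]
      omega
  rw [← hexp, pow_add]
  ring

end Cfsg.Agent.S0774
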