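import Cfsg.Statements.S0775
import Mathlib
import Cfsg.Agent.Lib.Helper27.SympFrames
import Cfsg.Agent.Lib.Helper27.SympOrder

set_option autoImplicit false
open Cfsg

namespace Cfsg.Agent.S0775

open Matrix Cfsg.Agent.Lib.Helper27.SympTransv

variable {F : Type*} [Field F] {m : ℕ}

theorem smul_apply {k : ℕ} (g : Matrix.symplecticGroup (Fin m) F)
    (v : Fin k → (Fin m ⊕ Fin m → F)) (i : Fin k) : (g • v) i = act g (v i) := rfl

theorem li_smul {k : ℕ} (g : Matrix.symplecticGroup (Fin m) F)
    (v : Fin k → (Fin m ⊕ Fin m → F)) (hv : LinearIndependent F v) :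
    LinearIndependent F (g • v) :=
  hv.map' (actL g).toLinearMap (LinearEquiv.ker _)

theorem span_smul {k : ℕ} (g : Matrix.symplecticGroup (Fin m) F)
    (v : Fin k → (Fin m ⊕ Fin m → F)) :
    Submodule.span F (Set.range (g • v)) =
      (Submodule.span F (Set.range v)).map (actL g).toLinearMap := by
  rw [Submodule.map_span, ← Set.range_comp]
  rfl

theorem mem_P_iff (W : Submodule F (Fin m ⊕ Fin m → F)) (g : Matrix.symplecticGroup (Fin m) F) :
    g ∈ Cfsg.stabilizing (Cfsg.spToMat m F) (W : Set (Fin m ⊕ Fin m → F)) ↔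
      ∀ x, x ∈ W ↔ act g x ∈ W := Iff.rfl

theorem mem_P_of_map (W : Submodule F (Fin m ⊕ Fin m → F))
    (g : Matrix.symplecticGroup (Fin m) F) (h : W.map (actL g).toLinearMap = W) :
    g ∈ Cfsg.stabilizing (Cfsg.spToMat m F) (W : Set (Fin m ⊕ Fin m → F)) := by
  rw [mem_P_iff]
  intro x
  constructor
  · intro hx
    rw [← h]
    exact ⟨x, hx, rfl⟩
  · intro hx
    rw [← h] at hx
    obtain ⟨x', hx', he⟩ := hx
    have : x' = x := (actL g).injective he
    rw [← this]
    exact hx'

theorem map_of_mem_P (W : Submodule F (Fin m ⊕ Fin m → F))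
    (g : Matrix.symplecticGroup (Fin m) F)
    (hg : g ∈ Cfsg.stabilizing (Cfsg.spToMat m F) (W : Set (Fin m ⊕ Fin m → F))) :
    W.map (actL g).toLinearMap = W := by
  rw [mem_P_iff] at hg
  ext y
  constructor
  · rintro ⟨x, hx, rfl⟩
    exact (hg x).mp hx
  · intro hy
    refine ⟨act g⁻¹ y, ?_, act_act_inv g y⟩
    exact (hg _).mpr (by rw [act_act_inv]; exact hy)

theorem tri_succ (k : ℕ) : (k + 1) * (k + 1 + 1) / 2 = k * (k + 1) / 2 + (k + 1) := by
  have : (k + 1) * (k + 1 + 1) = k * (k + 1) + (k + 1) * 2 := by ring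
  rw [this, Nat.add_mul_div_right _ _ (by norm_num)]

/-- The arithmetic identity behind the order formula. -/
theorem arith (q : ℕ) (m : ℕ) : ∀ k : ℕ, k ≤ m →
    q ^ (k * (k + 1) / 2 + 2 * k * (m - k)) *
      (q ^ ((m - k) ^ 2) * ∏ i ∈ Finset.range (m - k), (q ^ (2 * (i + 1)) - 1)) *
      ∏ i ∈ Finset.range k, (q ^ (2 * m - i) - q ^ i) =
    q ^ (m ^ 2) * ∏ i ∈ Finset.range m, (q ^ (2 * (i + 1)) - 1) := by
  intro k
  induction k with
  | zero =>
    intro _
    simp
  | succ k ih =>
    intro hk
    have ih' := ih (by omega)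
    obtain ⟨d, rfl⟩ : ∃ d, m = k + 1 + d := ⟨m - (k + 1), by omega⟩
    have e1 : k + 1 + d - (k + 1) = d := by omega
    have e2 : k + 1 + d - k = d + 1 := by omega
    have e3 : 2 * (k + 1 + d) - k = k + 2 * (d + 1) := by omega
    rw [e2, Finset.prod_range_succ] at ih'
    rw [e1, Finset.prod_range_succ, e3, tri_succ, ← ih']
    have e4 : q ^ (k + 2 * (d + 1)) - q ^ k = q ^ k * (q ^ (2 * (d + 1)) - 1) := by
      rw [Nat.mul_sub, mul_one, ← pow_add]
    rw [e4]
    ring

theorem result {F : Type*} [Field F] [Fintype F] {q : ℕ} (hF : Fintype.card F = q) (m k : ℕ) (hk : k ≤ m) (W : Submodule F (Fin m ⊕ Fin m → F)) (hWk : Module.finrank F W = k) (hW : ∀ u ∈ W, ∀ v ∈ W, Cfsg.sympForm m F u v = 0) : Nat.card ↥(Cfsg.stabilizing (Cfsg.spToMat m F) (W : Set (Fin m ⊕ Fin m → F))) = q ^ (k * (k + 1) / 2 + 2 * k * (m - k)) * (q ^ ((m - k) ^ 2) * ∏ i ∈ Finset.range (m - k), (q ^ (2 * (i + 1)) - 1)) * ∏ i : Fin k, (q ^ k - q ^ (i : ℕ)) := by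
  classical
  set P := Cfsg.stabilizing (Cfsg.spToMat m F) (W : Set (Fin m ⊕ Fin m → F)) with hP
  -- a basis of `W`
  set b := Module.finBasisOfFinrankEq F W hWk with hb
  set v₀ : Fin k → (Fin m ⊕ Fin m → F) := fun i => (b i : Fin m ⊕ Fin m → F) with hv₀def
  have hv₀ : LinearIndependent F v₀ := b.linearIndependent.map' W.subtype (Submodule.ker_subtype W)
  have hspan : Submodule.span F (Set.range v₀) = W := by
    have : v₀ = W.subtype ∘ b := rfl
    rw [this, Set.range_comp, Submodule.span_image, b.span_eq, Submodule.map_top,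
      Submodule.range_subtype]
  have hiso : ∀ i i', sympForm m F (v₀ i) (v₀ i') = 0 := fun i i' => hW _ (b i).2 _ (b i').2
  -- the orbit of the basis under the symplectic group
  have horbSp : MulAction.orbit (Matrix.symplecticGroup (Fin m) F) v₀ =
      {v | LinearIndependent F v ∧ ∀ i i', sympForm m F (v i) (v i') = 0} := by
    ext v
    constructor
    · rintro ⟨g, rfl⟩
      refine ⟨li_smul g v₀ hv₀, fun i i' => ?_⟩
      change sympForm m F (act g (v₀ i)) (act g (v₀ i')) = 0
      rw [act_preserves]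
      exact hiso i i'
    · rintro ⟨hv, hv0⟩
      obtain ⟨A, hA⟩ := trans_frames v₀ v hv₀ hiso hv hv0
      exact ⟨A, funext hA⟩
  -- the orbit under the parabolic
  have horbP : MulAction.orbit P v₀ =
      {v | LinearIndependent F v ∧ Submodule.span F (Set.range v) = W} := by
    ext v
    constructor
    · rintro ⟨⟨g, hg⟩, rfl⟩
      refine ⟨li_smul g v₀ hv₀, ?_⟩
      change Submodule.span F (Set.range (g • v₀)) = W
      rw [span_smul, hspan]
      exact map_of_mem_P W g hg
    · rintro ⟨hv, hvW⟩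
      have hv0 : ∀ i i', sympForm m F (v i) (v i') = 0 := by
        intro i i'
        apply hW
        · rw [← hvW]; exact Submodule.subset_span ⟨i, rfl⟩
        · rw [← hvW]; exact Submodule.subset_span ⟨i', rfl⟩
      obtain ⟨A, hA⟩ := trans_frames v₀ v hv₀ hiso hv hv0
      have hAv : A • v₀ = v := funext hA
      have hAP : A ∈ P := by
        apply mem_P_of_map
        rw [← hspan, ← span_smul, hAv, hvW, hspan]
      exact ⟨⟨A, hAP⟩, hAv⟩
  -- the stabilisers coincide
  have hKP : ∀ g : Matrix.symplecticGroup (Fin m) F, g • v₀ = v₀ → g ∈ P := by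
    intro g hg
    apply mem_P_of_map
    rw [← hspan, ← span_smul, hg]
  have hstab : Nat.card (MulAction.stabilizer P v₀) =
      Nat.card (MulAction.stabilizer (Matrix.symplecticGroup (Fin m) F) v₀) := by
    apply Nat.card_congr
    exact
      { toFun := fun g => ⟨g.1.1, MulAction.mem_stabilizer_iff.mp g.2⟩
        invFun := fun g => ⟨⟨g.1, hKP g.1 (MulAction.mem_stabilizer_iff.mp g.2)⟩,
          MulAction.mem_stabilizer_iff.mp g.2⟩
        left_inv := fun g => rfl
        right_inv := fun g => rfl }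
  -- counting bases of `W`
  have hBas : Nat.card ↑{v : Fin k → (Fin m ⊕ Fin m → F) |
      LinearIndependent F v ∧ Submodule.span F (Set.range v) = W} =
      ∏ i : Fin k, (q ^ k - q ^ (i : ℕ)) := by
    have e : ↑{v : Fin k → (Fin m ⊕ Fin m → F) |
        LinearIndependent F v ∧ Submodule.span F (Set.range v) = W} ≃
        {s : Fin k → ↥W // LinearIndependent F s} :=
      { toFun := fun v => ⟨fun i => ⟨v.1 i, by
            have h := Submodule.subset_span (R := F) (s := Set.range v.1) ⟨i, rfl⟩
            have h2 := v.2.2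
            rw [h2] at h
            exact h⟩,
          LinearIndependent.of_comp W.subtype v.2.1⟩
        invFun := fun s => ⟨fun i => (s.1 i : Fin m ⊕ Fin m → F),
          s.2.map' W.subtype (Submodule.ker_subtype W), by
            have h1 : Submodule.span F (Set.range s.1) = ⊤ :=
              s.2.span_eq_top_of_card_eq_finrank' (by rw [Fintype.card_fin, hWk])
            have : (fun i => (s.1 i : Fin m ⊕ Fin m → F)) = W.subtype ∘ s.1 := rfl
            rw [this, Set.range_comp, Submodule.span_image, h1, Submodule.map_top,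
              Submodule.range_subtype]⟩
        left_inv := fun v => rfl
        right_inv := fun s => rfl }
    rw [Nat.card_congr e, card_linearIndependent (K := F) (V := ↥W) (k := k) (by rw [hWk]), hWk, hF]
  -- orbit-stabiliser, twice
  have hos1 := Nat.card_congr (MulAction.orbitProdStabilizerEquivGroup
    (Matrix.symplecticGroup (Fin m) F) v₀)
  rw [Nat.card_prod, card_symplecticGroup hF m, horbSp] at hos1
  have hos2 := Nat.card_congr (MulAction.orbitProdStabilizerEquivGroup P v₀)
  rw [Nat.card_prod, horbP, hBas, hstab] at hos2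
  have hN : Nat.card ↑{v : Fin k → (Fin m ⊕ Fin m → F) |
      LinearIndependent F v ∧ ∀ i i', sympForm m F (v i) (v i') = 0} =
      ∏ i ∈ Finset.range k, (q ^ (2 * m - i) - q ^ i) := by
    have := card_isoFrame (m := m) (F := F) k
    rw [hF] at this
    exact this
  rw [hN] at hos1
  have hq2 : 2 ≤ q := by
    rw [← hF]
    exact Fintype.one_lt_card
  have hNpos : 0 < ∏ i ∈ Finset.range k, (q ^ (2 * m - i) - q ^ i) := by
    apply Finset.prod_pos
    intro i hi
    rw [Finset.mem_range] at hi
    have : q ^ i < q ^ (2 * m - i) := Nat.pow_lt_pow_right (by omega) (by omega)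
    omega
  apply Nat.eq_of_mul_eq_mul_right hNpos
  have har := arith q m k hk
  rw [mul_right_comm, har, ← hos1, ← hos2]
  ring

end Cfsg.Agent.S0775
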