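import Cfsg.Statements.S0776
import Mathlib
import Cfsg.Agent.Lib.Helper27.SympCoord
import Cfsg.Agent.S5646

set_option autoImplicit false
open Cfsg

namespace Cfsg.Agent.S0776

open Matrix Cfsg.Agent.Lib.Helper27.SympTransv

variable {F : Type*} [Field F] {m : ℕ}

theorem PW_le_perp (W : Submodule F (Fin m ⊕ Fin m → F)) : PW W ≤ PW (perp W) := by
  intro g hg
  exact mem_PW_of_maps (fun x hx => PW_maps_perp hg hx) (fun x hx => PW_maps_perp (inv_mem hg) hx)

/-- The conjugated action on `W`. -/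
noncomputable def conjW {k : ℕ} (W : Submodule F (Fin m ⊕ Fin m → F))
    (e : (Fin k ⊕ Fin k → F) ≃ₗ[F] W) (a : Matrix.symplecticGroup (Fin k) F) : W ≃ₗ[F] W :=
  e.symm.trans ((actL a).trans e)

theorem conjW_apply {k : ℕ} (W : Submodule F (Fin m ⊕ Fin m → F))
    (e : (Fin k ⊕ Fin k → F) ≃ₗ[F] W) (a : Matrix.symplecticGroup (Fin k) F) (w : W) :
    conjW W e a w = e (act a (e.symm w)) := rfl

theorem conjW_iso {k : ℕ} (W : Submodule F (Fin m ⊕ Fin m → F))
    (e : (Fin k ⊕ Fin k → F) ≃ₗ[F] W)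
    (he : ∀ x y, sympForm m F (e x).1 (e y).1 = sympForm k F x y)
    (a : Matrix.symplecticGroup (Fin k) F) (w w' : W) :
    sympForm m F (conjW W e a w).1 (conjW W e a w').1 = sympForm m F w.1 w'.1 := by
  rw [conjW_apply, conjW_apply, he, act_preserves, ← he, LinearEquiv.apply_symm_apply,
    LinearEquiv.apply_symm_apply]

theorem main (k₁ k₂ : ℕ) (W : Submodule F (Fin m ⊕ Fin m → F)) (hW : NondegOn W)
    (e₁ : (Fin k₁ ⊕ Fin k₁ → F) ≃ₗ[F] W)
    (he₁ : ∀ x y, sympForm m F (e₁ x).1 (e₁ y).1 = sympForm k₁ F x y)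
    (e₂ : (Fin k₂ ⊕ Fin k₂ → F) ≃ₗ[F] perp W)
    (he₂ : ∀ x y, sympForm m F (e₂ x).1 (e₂ y).1 = sympForm k₂ F x y) :
    Nonempty (↥(PW W) ≃* Matrix.symplecticGroup (Fin k₁) F × Matrix.symplecticGroup (Fin k₂) F) := by
  have hc : IsCompl W (perp W) :=
    LinearMap.BilinForm.isCompl_orthogonal_of_restrict_nondegenerate sympB_isAlt.isRefl
      (Cfsg.Agent.S5646.restrict_nondeg W hW)
  let Φ : ↥(PW W) →* Matrix.symplecticGroup (Fin k₁) F × Matrix.symplecticGroup (Fin k₂) F :=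
    { toFun := fun g => (res W e₁ he₁ g.1 g.2, res (perp W) e₂ he₂ g.1 (PW_le_perp W g.2))
      map_one' := by
        apply Prod.ext
        · exact res_one W e₁ he₁
        · exact res_one (perp W) e₂ he₂
      map_mul' := by
        intro g h
        apply Prod.ext
        · exact res_mul W e₁ he₁ g.1 h.1 g.2 h.2
        · exact res_mul (perp W) e₂ he₂ g.1 h.1 (PW_le_perp W g.2) (PW_le_perp W h.2) }
  have hΦ1 : ∀ g : ↥(PW W), (Φ g).1 = res W e₁ he₁ g.1 g.2 := fun g => rfl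
  have hΦ2 : ∀ g : ↥(PW W), (Φ g).2 = res (perp W) e₂ he₂ g.1 (PW_le_perp W g.2) := fun g => rfl
  refine ⟨MulEquiv.ofBijective Φ ⟨?_, ?_⟩⟩
  · -- injective
    intro g g' hgg
    apply Subtype.ext
    apply act_ext
    intro x
    obtain ⟨x₁, hx₁, x₂, hx₂, rfl⟩ := Cfsg.Agent.S5646.exists_decomp W hW x
    have h1 : act g.1 x₁ = act g'.1 x₁ := by
      have e1 := e_res W e₁ he₁ g.1 g.2 (e₁.symm ⟨x₁, hx₁⟩)
      have e2 := e_res W e₁ he₁ g'.1 g'.2 (e₁.symm ⟨x₁, hx₁⟩)
      rw [LinearEquiv.apply_symm_apply] at e1 e2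
      rw [← e1, ← e2, ← hΦ1, ← hΦ1, hgg]
    have h2 : act g.1 x₂ = act g'.1 x₂ := by
      have e1 := e_res (perp W) e₂ he₂ g.1 (PW_le_perp W g.2) (e₂.symm ⟨x₂, hx₂⟩)
      have e2 := e_res (perp W) e₂ he₂ g'.1 (PW_le_perp W g'.2) (e₂.symm ⟨x₂, hx₂⟩)
      rw [LinearEquiv.apply_symm_apply] at e1 e2
      rw [← e1, ← e2, ← hΦ2, ← hΦ2, hgg]
    rw [act_add, act_add, h1, h2]
  · -- surjective
    rintro ⟨a, b⟩
    set P := Submodule.prodEquivOfIsCompl W (perp W) hc with hP
    set α₁ := conjW W e₁ a with hα₁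
    set α₂ := conjW (perp W) e₂ b with hα₂
    set T : (Fin m ⊕ Fin m → F) ≃ₗ[F] (Fin m ⊕ Fin m → F) :=
      P.symm.trans ((α₁.prodCongr α₂).trans P) with hT
    have hTP : ∀ p : W × perp W, T (P p) = (α₁ p.1).1 + (α₂ p.2).1 := by
      intro p
      rw [hT]
      simp only [LinearEquiv.trans_apply, LinearEquiv.symm_apply_apply]
      rw [hP, Submodule.coe_prodEquivOfIsCompl']
      rfl
    have hPp : ∀ p : W × perp W, P p = p.1.1 + p.2.1 := by
      intro p
      rw [hP, Submodule.coe_prodEquivOfIsCompl']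
    have hcross : ∀ (w : W) (w' : perp W), sympForm m F w.1 w'.1 = 0 :=
      fun w w' => mem_perp.mp w'.2 w.1 w.2
    have hcross' : ∀ (w : W) (w' : perp W), sympForm m F w'.1 w.1 = 0 :=
      fun w w' => mem_perp'.mp w'.2 w.1 w.2
    have hTiso : ∀ u v, sympForm m F (T u) (T v) = sympForm m F u v := by
      intro u v
      obtain ⟨p, rfl⟩ := P.surjective u
      obtain ⟨p', rfl⟩ := P.surjective v
      rw [hTP, hTP, hPp, hPp]
      simp only [sf_add_left, sf_add_right, hcross, hcross', add_zero, zero_add]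
      rw [hα₁, hα₂, conjW_iso W e₁ he₁, conjW_iso (perp W) e₂ he₂]
    have hTW : ∀ w : W, T w.1 = (α₁ w).1 := by
      intro w
      have := hTP (w, 0)
      rw [hPp] at this
      simp only [Submodule.coe_zero, add_zero, map_zero] at this
      exact this
    have hTW' : ∀ w : perp W, T w.1 = (α₂ w).1 := by
      intro w
      have := hTP (0, w)
      rw [hPp] at this
      simp only [Submodule.coe_zero, zero_add, map_zero] at this
      exact this
    set g := toSp T hTiso with hg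
    have hgact : ∀ x, act g x = T x := fun x => act_toSp T hTiso x
    have hgW : g ∈ PW W := by
      apply mem_PW_of_maps
      · intro x hx
        rw [hgact, hTW ⟨x, hx⟩]
        exact (α₁ ⟨x, hx⟩).2
      · intro x hx
        have h1 : x = act g (α₁.symm ⟨x, hx⟩).1 := by
          rw [hgact, hTW, LinearEquiv.apply_symm_apply]
        rw [h1, act_inv_act]
        exact (α₁.symm ⟨x, hx⟩).2
    refine ⟨⟨g, hgW⟩, ?_⟩
    apply Prod.ext
    · rw [hΦ1]
      apply coord_ext W e₁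
      intro x
      rw [e_res, hgact, hTW, hα₁, conjW_apply, LinearEquiv.symm_apply_apply]
    · rw [hΦ2]
      apply coord_ext (perp W) e₂
      intro x
      rw [e_res, hgact, hTW', hα₂, conjW_apply, LinearEquiv.symm_apply_apply]

theorem result {F : Type*} [Field F] (m k : ℕ) (hk : k ≤ m) (W : Submodule F (Fin m ⊕ Fin m → F)) (hWk : Module.finrank F W = 2 * k) (hW : ∀ u ∈ W, (∀ v ∈ W, Cfsg.sympForm m F u v = 0) → u = 0) : Nonempty (↥(Cfsg.stabilizing (Cfsg.spToMat m F) (W : Set (Fin m ⊕ Fin m → F))) ≃* Matrix.symplecticGroup (Fin k) F × Matrix.symplecticGroup (Fin (m - k)) F) := by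
  have hW' : NondegOn W := by
    intro u hu hu0
    by_contra hne
    apply hu0
    apply hW u hu
    intro v hv
    by_contra h
    exact hne ⟨v, hv, h⟩
  obtain ⟨e₁, he₁⟩ := exists_sympCoord W hW' k hWk
  have hfr : Module.finrank F (perp W) = 2 * (m - k) := by
    rw [finrank_perp, hWk]
    omega
  obtain ⟨e₂, he₂⟩ := exists_sympCoord (perp W) (Cfsg.Agent.S5646.nondegOn_perp W hW') (m - k) hfr
  exact main k (m - k) W hW' e₁ he₁ e₂ he₂

end Cfsg.Agent.S0776
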