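import Cfsg.Statements.S0778
import Mathlib
import Cfsg.Agent.Lib.Helper27.BlockStab

set_option autoImplicit false
open Cfsg

namespace Cfsg.Agent.S0778

open Matrix Cfsg.Agent.Lib.Helper27.BlockStab

variable {F : Type*} [Field F]

theorem diag_mem (m : ℕ) (A : GL (Fin m) F) :
    Matrix.fromBlocks (A : Matrix (Fin m) (Fin m) F) 0 0
      ((A⁻¹ : GL (Fin m) F) : Matrix (Fin m) (Fin m) F)ᵀ ∈ Matrix.symplecticGroup (Fin m) F := by
  rw [SymplecticGroup.fromBlocks_mem_iff]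
  refine ⟨by simp, by simp, ?_⟩
  rw [← Matrix.transpose_mul, Units.inv_mul, Matrix.transpose_one]
  simp

/-- The block-diagonal embedding of `GL_m` into `Sp_2m`. -/
def psi (m : ℕ) : GL (Fin m) F →* Matrix.symplecticGroup (Fin m) F where
  toFun A := ⟨Matrix.fromBlocks (A : Matrix (Fin m) (Fin m) F) 0 0
      ((A⁻¹ : GL (Fin m) F) : Matrix (Fin m) (Fin m) F)ᵀ, diag_mem m A⟩
  map_one' := by
    apply Subtype.ext
    simp [Matrix.fromBlocks_one]
  map_mul' A B := by
    apply Subtype.ext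
    change Matrix.fromBlocks _ _ _ _ = Matrix.fromBlocks _ _ _ _ * Matrix.fromBlocks _ _ _ _
    rw [Matrix.fromBlocks_multiply]
    simp only [Matrix.mul_zero, Matrix.zero_mul, add_zero, zero_add]
    congr 1
    rw [_root_.mul_inv_rev, Units.val_mul, Matrix.transpose_mul]

theorem psi_coe (m : ℕ) (A : GL (Fin m) F) :
    ((psi m A : Matrix.symplecticGroup (Fin m) F) : Matrix (Fin m ⊕ Fin m) (Fin m ⊕ Fin m) F) =
      Matrix.fromBlocks (A : Matrix (Fin m) (Fin m) F) 0 0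
        ((A⁻¹ : GL (Fin m) F) : Matrix (Fin m) (Fin m) F)ᵀ := rfl

theorem psi_injective (m : ℕ) : Function.Injective (psi (F := F) m) := by
  intro A B h
  have h1 := congrArg Subtype.val h
  rw [psi_coe, psi_coe, Matrix.fromBlocks_inj] at h1
  exact Units.ext h1.1

theorem setW_eq (m : ℕ) :
    {v : Fin m ⊕ Fin m → F | ∀ i : Fin m, v (Sum.inr i) = 0} =
      {v : Fin m ⊕ Fin m → F | ∀ s, ¬ (s.isLeft = true) → v s = 0} := by
  ext v
  constructor
  · intro h s hs
    rcases s with i | i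
    · exact absurd rfl hs
    · exact h i
  · intro h i
    exact h _ (by simp)

theorem setU_eq (m : ℕ) :
    {v : Fin m ⊕ Fin m → F | ∀ i : Fin m, v (Sum.inl i) = 0} =
      {v : Fin m ⊕ Fin m → F | ∀ s, ¬ (s.isRight = true) → v s = 0} := by
  ext v
  constructor
  · intro h s hs
    rcases s with i | i
    · exact h i
    · exact absurd rfl hs
  · intro h i
    exact h _ (by simp)

theorem mem_iff (m : ℕ) (g : Matrix.symplecticGroup (Fin m) F) :
    g ∈ Cfsg.stabilizing (Cfsg.spToMat m F) {v : Fin m ⊕ Fin m → F | ∀ i : Fin m, v (Sum.inr i) = 0} ⊓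
        Cfsg.stabilizing (Cfsg.spToMat m F) {v : Fin m ⊕ Fin m → F | ∀ i : Fin m, v (Sum.inl i) = 0} ↔
      (∀ i j : Fin m, (g : Matrix (Fin m ⊕ Fin m) (Fin m ⊕ Fin m) F) (Sum.inr i) (Sum.inl j) = 0) ∧
        ∀ i j : Fin m, (g : Matrix (Fin m ⊕ Fin m) (Fin m ⊕ Fin m) F) (Sum.inl i) (Sum.inr j) = 0 := by
  rw [Subgroup.mem_inf, setW_eq, setU_eq, mem_stab_pred_iff, mem_stab_pred_iff]
  constructor
  · rintro ⟨h1, h2⟩
    exact ⟨fun i j => h1 _ _ (by simp) (by simp), fun i j => h2 _ _ (by simp) (by simp)⟩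
  · rintro ⟨h1, h2⟩
    constructor
    · intro s t hs ht
      rcases s with i | i
      · exact absurd rfl hs
      · rcases t with j | j
        · exact h1 i j
        · simp at ht
    · intro s t hs ht
      rcases s with i | i
      · rcases t with j | j
        · simp at ht
        · exact h2 i j
      · exact absurd rfl hs

theorem range_eq (m : ℕ) :
    (psi (F := F) m).range =
      Cfsg.stabilizing (Cfsg.spToMat m F) {v : Fin m ⊕ Fin m → F | ∀ i : Fin m, v (Sum.inr i) = 0} ⊓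
        Cfsg.stabilizing (Cfsg.spToMat m F) {v : Fin m ⊕ Fin m → F | ∀ i : Fin m, v (Sum.inl i) = 0} := by
  ext g
  rw [mem_iff]
  constructor
  · rintro ⟨A, rfl⟩
    rw [psi_coe]
    exact ⟨fun i j => rfl, fun i j => rfl⟩
  · rintro ⟨h1, h2⟩
    have hg : (g : Matrix (Fin m ⊕ Fin m) (Fin m ⊕ Fin m) F) =
        Matrix.fromBlocks (g : Matrix (Fin m ⊕ Fin m) (Fin m ⊕ Fin m) F).toBlocks₁₁ 0 0
          (g : Matrix (Fin m ⊕ Fin m) (Fin m ⊕ Fin m) F).toBlocks₂₂ := by
      conv_lhs => rw [← Matrix.fromBlocks_toBlocks (g : Matrix (Fin m ⊕ Fin m) (Fin m ⊕ Fin m) F)]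
      congr 1
      · ext i j; exact h2 i j
      · ext i j; exact h1 i j
    have hmem := g.2
    rw [hg, SymplecticGroup.fromBlocks_mem_iff] at hmem
    obtain ⟨-, -, h3⟩ := hmem
    simp only [Matrix.transpose_zero, Matrix.zero_mul, sub_zero] at h3
    -- h3 : A₁₁ᵀ * A₂₂ = 1
    set A := (g : Matrix (Fin m ⊕ Fin m) (Fin m ⊕ Fin m) F).toBlocks₁₁ with hA
    set D := (g : Matrix (Fin m ⊕ Fin m) (Fin m ⊕ Fin m) F).toBlocks₂₂ with hD
    have h4 : Dᵀ * A = 1 := by
      have := congrArg Matrix.transpose h3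
      rwa [Matrix.transpose_mul, Matrix.transpose_transpose, Matrix.transpose_one] at this
    have h5 : A * Dᵀ = 1 := mul_eq_one_comm.mp h4
    refine ⟨⟨A, Dᵀ, h5, h4⟩, ?_⟩
    apply Subtype.ext
    rw [psi_coe, hg]
    congr 1

theorem result {F : Type*} [Field F] (m : ℕ) : Nonempty (↥(Cfsg.stabilizing (Cfsg.spToMat m F) {v : Fin m ⊕ Fin m → F | ∀ i : Fin m, v (Sum.inr i) = 0} ⊓ Cfsg.stabilizing (Cfsg.spToMat m F) {v : Fin m ⊕ Fin m → F | ∀ i : Fin m, v (Sum.inl i) = 0}) ≃* Matrix.GeneralLinearGroup (Fin m) F) := by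
  refine ⟨((MonoidHom.ofInjective (psi_injective (F := F) m)).trans
    (MulEquiv.subgroupCongr (range_eq m))).symm⟩

end Cfsg.Agent.S0778
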