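-- Statement S0779: when a unitary transvection is an isometry.
import Cfsg.Statements.S0779
import Cfsg.Agent.Lib.Helper12.Herm

set_option autoImplicit false
open Cfsg

namespace Cfsg.Agent.S0779

open Cfsg.Agent.Lib.Helper12

theorem result {F : Type*} [Field F] [Fintype F] {q : ℕ} (hF : Fintype.card F = q ^ 2) (n : ℕ) (v : Fin n → F) (hv : v ≠ 0) (hv0 : Cfsg.hermForm n F q v v = 0) (c : F) : (∀ x y : Fin n → F, Cfsg.hermForm n F q ((Cfsg.unitaryTransvection n q v c).mulVec x) ((Cfsg.unitaryTransvection n q v c).mulVec y) = Cfsg.hermForm n F q x y) ↔ (c = 0 ∨ c ^ (q - 1) = -1) := by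
  classical
  -- `q ≥ 1`
  have hq : 1 ≤ q := by
    rcases Nat.eq_zero_or_pos q with rfl | h
    · have : 0 < Fintype.card F := Fintype.card_pos
      rw [hF] at this
      simp at this
    · exact h
  -- the criterion in terms of `c ^ q + c`
  have hcrit : (c ^ q + c = 0) ↔ (c = 0 ∨ c ^ (q - 1) = -1) := by
    have e : c ^ q = c * c ^ (q - 1) := by
      rw [← pow_succ', Nat.sub_add_cancel hq]
    constructor
    · intro h
      by_cases hc : c = 0
      · exact Or.inl hc
      · right
        rw [e] at h
        have : c * (c ^ (q - 1) + 1) = 0 := by rw [mul_add, mul_one]; exact h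
        rcases mul_eq_zero.mp this with h' | h'
        · exact absurd h' hc
        · exact eq_neg_of_add_eq_zero_left h'
    · rintro (rfl | h)
      · rw [zero_pow (by omega), add_zero]
      · rw [e, h]; ring
  rw [← hcrit]
  constructor
  · intro h
    -- a coordinate where `v` is non-zero
    obtain ⟨i, hi⟩ : ∃ i, v i ≠ 0 := by
      by_contra hcon
      push Not at hcon
      exact hv (funext hcon)
    have h1 := h (Pi.single i 1) (Pi.single i 1)
    rw [hermForm_unitaryTransvection hF n v hv0] at h1
    have hx : Cfsg.hermForm n F q (Pi.single i 1) v = v i ^ q := by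
      unfold Cfsg.hermForm
      rw [Finset.sum_eq_single i]
      · simp
      · intro j _ hj; simp [Pi.single_apply, hj]
      · intro hi'; exact absurd (Finset.mem_univ i) hi'
    have hy : Cfsg.hermForm n F q v (Pi.single i 1) = v i := by
      unfold Cfsg.hermForm
      rw [Finset.sum_eq_single i]
      · simp
      · intro j _ hj
        simp [Pi.single_apply, hj, zero_pow (by omega : q ≠ 0)]
      · intro hi'; exact absurd (Finset.mem_univ i) hi'
    rw [hx, hy] at h1
    have h2 : (c ^ q + c) * (v i ^ q * v i) = 0 := by
      have := h1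
      rwa [add_eq_left] at this
    rcases mul_eq_zero.mp h2 with h3 | h3
    · exact h3
    · exfalso
      rcases mul_eq_zero.mp h3 with h4 | h4
      · exact hi (pow_eq_zero_iff (by omega : q ≠ 0) |>.mp h4)
      · exact hi h4
  · intro h x y
    rw [hermForm_unitaryTransvection hF n v hv0, h, zero_mul, add_zero]

end Cfsg.Agent.S0779
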