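import Cfsg.Statements.S0782
import Mathlib
import Cfsg.Agent.Lib.Helper27.UTik
import Cfsg.Agent.Lib.Helper27.UOrder2
import Cfsg.Agent.S5653
import Cfsg.Agent.Lib.Helper27.UIwasawa

set_option autoImplicit false
open Cfsg

namespace Cfsg.Agent.S0782

open Cfsg.Agent.Lib.Helper27.Unitary Cfsg.Agent.S0780 Cfsg.Agent.S0783 Matrix

variable {F : Type*} [Field F] [Fintype F] {q n k : ℕ}

/-- The image of a subspace under an invertible matrix. -/
def mapW (g : GL (Fin n) F) (W : Submodule F (Fin n → F)) : Submodule F (Fin n → F) :=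
  W.map (gactL g).toLinearMap

theorem mem_mapW {g : GL (Fin n) F} {W : Submodule F (Fin n → F)} {x : Fin n → F} :
    x ∈ mapW g W ↔ ∃ y ∈ W, gact g y = x := Submodule.mem_map

theorem mapW_one (W : Submodule F (Fin n → F)) : mapW (1 : GL (Fin n) F) W = W := by
  ext x
  rw [mem_mapW]
  constructor
  · rintro ⟨y, hy, rfl⟩
    rwa [gact_one]
  · intro hx
    exact ⟨x, hx, gact_one x⟩

theorem mapW_mul (g h : GL (Fin n) F) (W : Submodule F (Fin n → F)) :
    mapW (g * h) W = mapW g (mapW h W) := by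
  ext x
  simp only [mem_mapW]
  constructor
  · rintro ⟨y, hy, rfl⟩
    exact ⟨gact h y, ⟨y, hy, rfl⟩, (gact_mul g h y).symm⟩
  · rintro ⟨z, ⟨y, hy, rfl⟩, rfl⟩
    exact ⟨y, hy, gact_mul g h y⟩

theorem finrank_mapW (g : GL (Fin n) F) (W : Submodule F (Fin n → F)) :
    Module.finrank F (mapW g W) = Module.finrank F W :=
  LinearEquiv.finrank_map_eq (gactL g) W

theorem mapW_ti {g : GL (Fin n) F} (hg : g ∈ GU n F q) {W : Submodule F (Fin n → F)}
    (hW : ∀ u ∈ W, ∀ v ∈ W, hermForm n F q u v = 0) :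
    ∀ u ∈ mapW g W, ∀ v ∈ mapW g W, hermForm n F q u v = 0 := by
  intro u hu v hv
  obtain ⟨x, hx, rfl⟩ := mem_mapW.mp hu
  obtain ⟨y, hy, rfl⟩ := mem_mapW.mp hv
  rw [GU_preserves hg]
  exact hW x hx y hy

theorem mapW_eq_of_maps {g : GL (Fin n) F} {W W' : Submodule F (Fin n → F)}
    (hdim : Module.finrank F W = Module.finrank F W') (h : ∀ v ∈ W, gact g v ∈ W') :
    mapW g W = W' := by
  apply Submodule.eq_of_le_of_finrank_eq
  · intro x hx
    obtain ⟨y, hy, rfl⟩ := mem_mapW.mp hx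
    exact h y hy
  · rw [finrank_mapW, hdim]

/-- Elements of `GU_n` of any admissible determinant stabilising a totally isotropic subspace. -/
theorem exists_stab_det (hF : Fintype.card F = q ^ 2) (hn : 1 ≤ n) (W : Submodule F (Fin n → F))
    (hW : ∀ u ∈ W, ∀ v ∈ W, hermForm n F q u v = 0) (δ : F) (hδ : δ * δ ^ q = 1) :
    ∃ d : GL (Fin n) F, d ∈ GU n F q ∧ (∀ v ∈ W, gact d v ∈ W) ∧
      (d : Matrix (Fin n) (Fin n) F).det = δ := by
  have hδ0 : δ ≠ 0 := by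
    rintro rfl
    rw [zero_mul] at hδ
    exact zero_ne_one hδ
  by_cases hbot : W = ⊥
  · obtain ⟨g, hg⟩ := detU_surjective hF hn ⟨Units.mk0 δ hδ0, mem_mu'.mpr hδ⟩
    refine ⟨g.1, g.2, ?_, ?_⟩
    · intro v hv
      rw [hbot, Submodule.mem_bot] at hv
      rw [hv, hbot, Submodule.mem_bot]
      exact map_zero (gactL (g : GL (Fin n) F))
    · rw [← detU_coe hF g, hg]
      rfl
  · obtain ⟨e, heW, he0⟩ := Submodule.exists_mem_ne_zero_of_ne_bot hbot
    obtain ⟨f, hp⟩ := exists_hyp hF e he0 (hW e heW e heW)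
    have hδinv : δ⁻¹ * (δ⁻¹) ^ q = 1 := by
      rw [cj_inv, ← mul_inv, hδ, inv_one]
    obtain ⟨d, α, β, -, hd, hdet, hact⟩ := Cfsg.Agent.S5653.exists_torus hF hp δ⁻¹ hδinv
    refine ⟨d, hd, ?_, by rw [hdet, inv_inv]⟩
    intro v hv
    rw [hact v, hW v hv e heW, mul_zero, zero_smul, add_zero]
    exact W.add_mem hv (W.smul_mem _ heW)

/-- `GU_n ∩ SL_n` is transitive on totally isotropic `k`-subspaces. -/
theorem exists_gs_map (hF : Fintype.card F = q ^ 2) (hn : 1 ≤ n) (W W' : TIk k n F q) :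
    ∃ g : GL (Fin n) F, g ∈ Gs n F q ∧ mapW g W.1 = W'.1 := by
  obtain ⟨e⟩ : Nonempty (↥W.1 ≃ₗ[F] ↥W'.1) :=
    ⟨LinearEquiv.ofFinrankEq _ _ (W.2.1.trans W'.2.1.symm)⟩
  obtain ⟨f, hf⟩ := LinearMap.exists_extend (W'.1.subtype ∘ₗ e.toLinearMap)
  have hfx : ∀ (x : Fin n → F) (hx : x ∈ W.1), f x = (e ⟨x, hx⟩ : Fin n → F) := by
    intro x hx
    have := congrArg (fun φ : ↥W.1 →ₗ[F] (Fin n → F) => φ ⟨x, hx⟩) hf
    exact this
  obtain ⟨g₀, hg₀, hg₀W⟩ := witt_gu_submodule hF W.1 f (by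
      intro x hx x' hx'
      rw [hfx x hx, hfx x' hx', W.2.2 x hx x' hx', W'.2.2 _ (e ⟨x, hx⟩).2 _ (e ⟨x', hx'⟩).2])
    (by
      intro x hx h0
      rw [hfx x hx] at h0
      have h1 : e ⟨x, hx⟩ = 0 := Subtype.ext h0
      have h2 : (⟨x, hx⟩ : ↥W.1) = 0 := e.map_eq_zero_iff.mp h1
      exact congrArg Subtype.val h2)
  have hmap₀ : mapW g₀ W.1 = W'.1 := mapW_eq_of_maps (W.2.1.trans W'.2.1.symm) (by
    intro v hv
    rw [hg₀W v hv, hfx v hv]
    exact (e ⟨v, hv⟩).2)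
  obtain ⟨δ, hδ⟩ : ∃ δ : F, δ = (g₀ : Matrix (Fin n) (Fin n) F).det := ⟨_, rfl⟩
  have hδN : δ * δ ^ q = 1 := by rw [hδ]; exact GU_det hF hg₀
  have hδ0 : δ ≠ 0 := by
    rintro rfl
    rw [zero_mul] at hδN
    exact zero_ne_one hδN
  have hδinv : δ⁻¹ * (δ⁻¹) ^ q = 1 := by
    rw [cj_inv, ← mul_inv, hδN, inv_one]
  obtain ⟨d, hd, hdW, hddet⟩ := exists_stab_det hF hn W'.1 W'.2.2 δ⁻¹ hδinv
  refine ⟨d * g₀, ?_, ?_⟩
  · rw [mem_SUg_iff]
    refine ⟨mul_mem hd hg₀, ?_⟩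
    rw [Units.val_mul, Matrix.det_mul, hddet, ← hδ, inv_mul_cancel₀ hδ0]
  · rw [mapW_mul, hmap₀]
    exact mapW_eq_of_maps rfl hdW

/-- The action of `SU_n` on the totally isotropic `k`-subspaces. -/
noncomputable instance instMulActionTIk : MulAction ↥(Cfsg.SU n F q) (TIk k n F q) where
  smul A W := ⟨mapW (phi n F q A) W.1, by rw [finrank_mapW]; exact W.2.1,
    mapW_ti ((mem_SUg_iff _).mp (phi_mem A)).1 W.2.2⟩
  one_smul W := by
    apply Subtype.ext
    change mapW (phi n F q 1) W.1 = W.1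
    rw [map_one, mapW_one]
  mul_smul A B W := by
    apply Subtype.ext
    change mapW (phi n F q (A * B)) W.1 = mapW (phi n F q A) (mapW (phi n F q B) W.1)
    rw [map_mul, mapW_mul]

theorem smul_val (A : ↥(Cfsg.SU n F q)) (W : TIk k n F q) :
    (A • W).1 = mapW (phi n F q A) W.1 := rfl

theorem isPretransitive_TIk (hF : Fintype.card F = q ^ 2) (hn : 1 ≤ n) :
    MulAction.IsPretransitive ↥(Cfsg.SU n F q) (TIk k n F q) := by
  constructor
  intro W W'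
  obtain ⟨g, hg, hgW⟩ := exists_gs_map hF hn W W'
  obtain ⟨A, hA⟩ := exists_lift hg
  refine ⟨A, ?_⟩
  apply Subtype.ext
  rw [smul_val, hA, hgW]

theorem stabilizer_eq (W : TIk k n F q) :
    MulAction.stabilizer ↥(Cfsg.SU n F q) W =
      (Cfsg.stabilizing (Cfsg.slToMat n F) (W.1 : Set (Fin n → F))).subgroupOf
        (Cfsg.SU n F q) := by
  ext A
  rw [MulAction.mem_stabilizer_iff, Subgroup.mem_subgroupOf]
  change _ ↔ ∀ v, v ∈ W.1 ↔ gact (phi n F q A) v ∈ W.1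
  constructor
  · intro h v
    have h' : mapW (phi n F q A) W.1 = W.1 := congrArg Subtype.val h
    constructor
    · intro hv
      rw [← h']
      exact mem_mapW.mpr ⟨v, hv, rfl⟩
    · intro hv
      rw [← h'] at hv
      obtain ⟨y, hy, hyv⟩ := mem_mapW.mp hv
      have : y = v := (gactL (phi n F q A)).injective hyv
      rwa [← this]
  · intro h
    apply Subtype.ext
    rw [smul_val]
    exact mapW_eq_of_maps rfl (fun v hv => (h v).mp hv)

/-- Maximal parabolics of SU_n(q): if W is a k-dimensional subspace of F^n (n ≥ 1, |F| = q²) on which the Hermitian form vanishes, then (q + 1) times the order of its stabiliser in SU_n(q) equals q^(k(2n−3k)) · |GL_k(q²)| · |GU_(n−2k)(q)|, where |GU_m(q)| = q^(m(m−1)/2) Π_(i=1..m) (q^i − (−1)^i). -/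
theorem result {F : Type*} [Field F] [Fintype F] {q : ℕ} (hF : Fintype.card F = q ^ 2) (n k : ℕ) (hn : 1 ≤ n) (hk : 2 * k ≤ n) (W : Submodule F (Fin n → F)) (hWk : Module.finrank F W = k) (hW : ∀ u ∈ W, ∀ v ∈ W, Cfsg.hermForm n F q u v = 0) : (q + 1) * Nat.card ↥((Cfsg.stabilizing (Cfsg.slToMat n F) (W : Set (Fin n → F))).subgroupOf (Cfsg.SU n F q)) = q ^ (k * (2 * n - 3 * k)) * (∏ i : Fin k, ((q ^ 2) ^ k - (q ^ 2) ^ (i : ℕ))) * (q ^ ((n - 2 * k) * ((n - 2 * k) - 1) / 2) * ∏ i ∈ Finset.range (n - 2 * k), (if Even i then q ^ (i + 1) + 1 else q ^ (i + 1) - 1)) := by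
  obtain ⟨m, rfl⟩ : ∃ m, n = m + 2 * k := ⟨n - 2 * k, by omega⟩
  obtain ⟨W', hW'⟩ : ∃ W' : TIk k (m + 2 * k) F q, W'.1 = W := ⟨⟨W, hWk, hW⟩, rfl⟩
  have htrans : MulAction.IsPretransitive ↥(Cfsg.SU (m + 2 * k) F q) (TIk k (m + 2 * k) F q) :=
    isPretransitive_TIk hF hn
  have h1 := (MulAction.stabilizer ↥(Cfsg.SU (m + 2 * k) F q) W').card_mul_index
  rw [MulAction.index_stabilizer_of_transitive, stabilizer_eq, hW'] at h1
  have h2 := card_SU_mul (n := m + 2 * k) hF hn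
  have h3 := card_TIF_eq (F := F) hF k (m + 2 * k)
  have h4 := card_GU_eq_TIF (F := F) hF m k
  have hpos : 0 < Nat.card (TIk k (m + 2 * k) F q) := by
    haveI : Nonempty (TIk k (m + 2 * k) F q) := ⟨W'⟩
    exact Nat.card_pos
  have e1 : m + 2 * k - 2 * k = m := by omega
  have e2 : 2 * (m + 2 * k) - 3 * k = 2 * m + k := by omega
  rw [e1, e2, ← card_GU hF m]
  apply Nat.eq_of_mul_eq_mul_right hpos
  calc (q + 1) * Nat.card ↥((Cfsg.stabilizing (Cfsg.slToMat (m + 2 * k) F)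
          (W : Set (Fin (m + 2 * k) → F))).subgroupOf (Cfsg.SU (m + 2 * k) F q)) *
        Nat.card (TIk k (m + 2 * k) F q)
      = (q + 1) * (Nat.card ↥((Cfsg.stabilizing (Cfsg.slToMat (m + 2 * k) F)
          (W : Set (Fin (m + 2 * k) → F))).subgroupOf (Cfsg.SU (m + 2 * k) F q)) *
        Nat.card (TIk k (m + 2 * k) F q)) := by ring
    _ = Nat.card ↥(GU (m + 2 * k) F q) := by rw [h1, h2]
    _ = _ := by rw [h4, h3]; ring

end Cfsg.Agent.S0782
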