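-- Statement S0785: determinants of isometries are 1 or -1, and -1 occurs.
import Cfsg.Statements.S0785
import Cfsg.Agent.Lib.Helper12.QuadGeom

set_option autoImplicit false
open Cfsg

namespace Cfsg.Agent.S0785

open Cfsg.Agent.Lib.Helper12 Matrix

/-- Membership in the isometry group. -/
theorem mem_isometryGroup_iff {ι : Type} [Fintype ι] [DecidableEq ι] {F : Type*} [Field F]
    (Q : (ι → F) → F) (g : Matrix.GeneralLinearGroup ι F) :
    g ∈ Cfsg.isometryGroup F Q ↔ ∀ u, Q ((g : Matrix ι ι F) *ᵥ u) = Q u := by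
  constructor
  · intro h u
    exact h u u
  · intro h u _
    exact h u

theorem det_sq_eq_one {F : Type*} [Field F] {n : ℕ} (Q : QuadraticForm F (Fin n → F))
    (hQ : (QuadraticMap.polarBilin Q).Nondegenerate) (A : Matrix (Fin n) (Fin n) F)
    (hA : ∀ u, Q (A *ᵥ u) = Q u) : A.det * A.det = 1 := by
  set B : LinearMap.BilinForm F (Fin n → F) := QuadraticMap.polarBilin Q with hB
  have hM : (LinearMap.BilinForm.toMatrix' B).det ≠ 0 :=
    Matrix.nondegenerate_iff_det_ne_zero.mp (LinearMap.BilinForm.Nondegenerate.toMatrix' hQ)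
  have hcomp : B.comp (Matrix.toLin' A) (Matrix.toLin' A) = B := by
    apply LinearMap.ext
    intro u
    apply LinearMap.ext
    intro v
    rw [LinearMap.BilinForm.comp_apply, hB, QuadraticMap.polarBilin_apply_apply,
      QuadraticMap.polarBilin_apply_apply, Matrix.toLin'_apply, Matrix.toLin'_apply]
    unfold QuadraticMap.polar
    rw [← Matrix.mulVec_add, hA, hA, hA]
  have h := LinearMap.BilinForm.toMatrix'_comp B (Matrix.toLin' A) (Matrix.toLin' A)
  rw [hcomp, LinearMap.toMatrix'_toLin'] at h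
  have hdet := congrArg Matrix.det h
  rw [Matrix.det_mul, Matrix.det_mul, Matrix.det_transpose] at hdet
  have : (A.det * A.det - 1) * (LinearMap.BilinForm.toMatrix' B).det = 0 := by
    rw [sub_mul, one_mul, sub_eq_zero]
    calc A.det * A.det * (LinearMap.BilinForm.toMatrix' B).det
        = A.det * (LinearMap.BilinForm.toMatrix' B).det * A.det := by ring
      _ = (LinearMap.BilinForm.toMatrix' B).det := hdet.symm
  rcases mul_eq_zero.mp this with h1 | h1
  · exact sub_eq_zero.mp h1
  · exact absurd h1 hM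

theorem result {F : Type*} [Field F] {n : ℕ} (Q : QuadraticForm F (Fin n → F)) (hQ : (QuadraticMap.polarBilin Q).Nondegenerate) : (∀ g : ↥(Cfsg.isometryGroup F ⇑Q), ((g : Matrix.GeneralLinearGroup (Fin n) F) : Matrix (Fin n) (Fin n) F).det = 1 ∨ ((g : Matrix.GeneralLinearGroup (Fin n) F) : Matrix (Fin n) (Fin n) F).det = -1) ∧ ((∃ v, Q v ≠ 0) → ∃ g : ↥(Cfsg.isometryGroup F ⇑Q), ((g : Matrix.GeneralLinearGroup (Fin n) F) : Matrix (Fin n) (Fin n) F).det = -1) := by
  constructor
  · intro g
    have h := det_sq_eq_one Q hQ _ ((mem_isometryGroup_iff (⇑Q) g.1).mp g.2)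
    exact mul_self_eq_one_iff.mp h
  · rintro ⟨v, hv⟩
    have hdet : (Cfsg.reflectionMatrix (⇑Q) v).det = -1 := reflectionMatrix_det Q v hv
    have hne : (Cfsg.reflectionMatrix (⇑Q) v).det ≠ 0 := by
      rw [hdet]; exact neg_ne_zero.mpr one_ne_zero
    set g : Matrix.GeneralLinearGroup (Fin n) F :=
      Matrix.GeneralLinearGroup.mkOfDetNeZero (Cfsg.reflectionMatrix (⇑Q) v) hne with hg
    have hgc : (g : Matrix (Fin n) (Fin n) F) = Cfsg.reflectionMatrix (⇑Q) v := rfl
    have hmem : g ∈ Cfsg.isometryGroup F (⇑Q) := by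
      rw [mem_isometryGroup_iff]
      intro u
      rw [hgc]
      exact reflectionMatrix_isometry Q v hv u
    exact ⟨⟨g, hmem⟩, by rw [hgc]; exact hdet⟩

end Cfsg.Agent.S0785
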