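import Cfsg.Statements.S0787
import Mathlib
import Cfsg.Agent.Lib.Helper19.OrthOmega2
import Cfsg.Agent.Lib.Helper19.OrthSpinor
import Cfsg.Agent.Lib.Helper19.OrthSquares
-- import your own Cfsg.Agent.* helpers here

set_option autoImplicit false
open Cfsg

namespace Cfsg.Agent.S0787

open Cfsg.Agent.Lib.Helper19.OrthRefl Cfsg.Agent.Lib.Helper19.Parity

/-- Existence and uniqueness of Ω: if F is finite, n ≥ 2, Q is a quadratic form on F^n with non-degenerate polar form and (|F|, n) ≠ (2, 4), then the group of isometries of determinant one has a unique subgroup of index 2. -/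
theorem result {F : Type*} [Field F] [Fintype F] {n : ℕ} (hn : 2 ≤ n) (Q : QuadraticForm F (Fin n → F)) (hQ : (QuadraticMap.polarBilin Q).Nondegenerate) (h : Fintype.card F ≠ 2 ∨ n ≠ 4) : ∃! H : Subgroup ↥(Cfsg.specialIsometryGroup F ⇑Q), H.index = 2 := by
  classical
  have hex : Fintype.card F ≠ 2 ∨ Fintype.card (Fin n) ≠ 4 := by rw [Fintype.card_fin]; exact h
  have hcard : 2 ≤ Fintype.card (Fin n) := by rw [Fintype.card_fin]; exact hn
  have hgen : Subgroup.closure (Rset Q) = ⊤ := by
    by_cases h2 : (2 : F) = 0
    · exact closure_Rset_c2 h2 Q hQ hex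
    · exact closure_Rset h2 Q hQ
  obtain ⟨v, hv⟩ := exists_nonsing_top Q hQ (by omega)
  have hle : Cfsg.Omega F ⇑Q ≤ Cfsg.specialIsometryGroup F ⇑Q := by
    rw [← detHom_ker]
    exact Abelianization.commutator_subset_ker _
  have hrel : (Cfsg.Omega F ⇑Q).relIndex (Cfsg.specialIsometryGroup F ⇑Q) = 2 := by
    have hmul := Subgroup.relIndex_mul_index hle
    by_cases h2 : (2 : F) = 0
    · have htop : Cfsg.specialIsometryGroup F ⇑Q = ⊤ := by
        rw [eq_top_iff]
        intro g _
        rw [← detHom_ker, MonoidHom.mem_ker]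
        rcases detHom_eq_one_or Q hgen g with h1 | h1
        · exact h1
        · rw [h1]
          apply Units.ext
          rw [Units.val_neg, Units.val_one]
          exact c2_negF h2 1
      rw [htop, Subgroup.index_top, mul_one, Omega_index_c2 h2 Q hQ hex (by omega)] at hmul
      rw [htop]
      exact hmul
    · have hne : (-1 : Fˣ) ≠ 1 := by
        intro h'
        have := congrArg Units.val h'
        rw [Units.val_neg, Units.val_one] at this
        apply h2
        linear_combination -this
      have hSO : (Cfsg.specialIsometryGroup F ⇑Q).index = 2 := by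
        rw [Subgroup.index_eq_two_iff]
        refine ⟨refl Q v hv, fun b => ?_⟩
        rw [← detHom_ker, MonoidHom.mem_ker, MonoidHom.mem_ker, map_mul, detHom_refl]
        rcases detHom_eq_one_or Q hgen b with h1 | h1
        · rw [h1]
          right
          exact ⟨rfl, by rw [one_mul]; exact hne⟩
        · rw [h1]
          left
          exact ⟨by simp, hne⟩
      rw [hSO, (Omega_structure h2 Q hQ hcard).1] at hmul
      omega
  refine ⟨(Cfsg.Omega F ⇑Q).subgroupOf (Cfsg.specialIsometryGroup F ⇑Q), hrel, ?_⟩
  intro H hH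
  have hle' := Omega_le_of_index_two Q hgen H hH
  have hmul := Subgroup.relIndex_mul_index hle'
  have hidx : ((Cfsg.Omega F ⇑Q).subgroupOf (Cfsg.specialIsometryGroup F ⇑Q)).index = 2 := hrel
  rw [hH, hidx] at hmul
  have h1 : ((Cfsg.Omega F ⇑Q).subgroupOf (Cfsg.specialIsometryGroup F ⇑Q)).relIndex H = 1 := by
    omega
  exact le_antisymm (Subgroup.relIndex_eq_one.1 h1) hle'

end Cfsg.Agent.S0787
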