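import Cfsg.Statements.S0792
import Mathlib
import Cfsg.Agent.Lib.Helper19.OrthSpinor
-- import your own Cfsg.Agent.* helpers here

set_option autoImplicit false
open Cfsg

namespace Cfsg.Agent.S0792

open Cfsg.Agent.Lib.Helper19.OrthRefl

/-- Every isometry is a product of a list of reflections (odd characteristic). -/
theorem exists_list_refl {ι : Type} [Fintype ι] [DecidableEq ι] {F : Type*} [Field F]
    (h2 : (2 : F) ≠ 0) (Q : QuadraticForm F (ι → F))
    (hQ : (QuadraticMap.polarBilin Q).Nondegenerate) (g : ↥(Cfsg.isometryGroup F ⇑Q)) :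
    ∃ l : List ↥(Cfsg.isometryGroup F ⇑Q), (∀ y ∈ l, y ∈ Rset Q) ∧ l.prod = g := by
  have hg : g ∈ Subgroup.closure (Rset Q) := by rw [closure_Rset h2 Q hQ]; trivial
  have hg' : g ∈ (Subgroup.closure (Rset Q)).toSubmonoid := hg
  rw [Subgroup.closure_toSubmonoid] at hg'
  obtain ⟨l, hl, hprod⟩ := Submonoid.exists_list_of_mem_closure hg'
  refine ⟨l, fun y hy => ?_, hprod⟩
  rcases hl y hy with h | h
  · exact h
  · obtain ⟨v, hv, hyv⟩ := h
    refine ⟨v, hv, ?_⟩
    rw [← inv_inv y, hyv, refl_inv]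

theorem result {F : Type*} [Field F] [Fintype F] (h2 : (2 : F) ≠ 0) {n : ℕ} (Q : QuadraticForm F (Fin n → F)) (hQ : (QuadraticMap.polarBilin Q).Nondegenerate) : Cfsg.specialIsometryGroup F ⇑Q = Subgroup.closure {g : ↥(Cfsg.isometryGroup F ⇑Q) | ∃ u v : Fin n → F, Q u ≠ 0 ∧ Q v ≠ 0 ∧ ((g : Matrix.GeneralLinearGroup (Fin n) F) : Matrix (Fin n) (Fin n) F) = Cfsg.reflectionMatrix ⇑Q u * Cfsg.reflectionMatrix ⇑Q v} := by
  set T : Set ↥(Cfsg.isometryGroup F ⇑Q) := {g : ↥(Cfsg.isometryGroup F ⇑Q) | ∃ u v : Fin n → F, Q u ≠ 0 ∧ Q v ≠ 0 ∧ ((g : Matrix.GeneralLinearGroup (Fin n) F) : Matrix (Fin n) (Fin n) F) = Cfsg.reflectionMatrix ⇑Q u * Cfsg.reflectionMatrix ⇑Q v} with hT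
  have hne : (1 : F) ≠ -1 := by
    intro h
    apply h2
    linear_combination h
  have hmemT : ∀ u v (hu : Q u ≠ 0) (hv : Q v ≠ 0), refl Q u hu * refl Q v hv ∈ T := by
    intro u v hu hv
    exact ⟨u, v, hu, hv, rfl⟩
  apply le_antisymm
  · intro g hg
    rw [mem_special_iff] at hg
    obtain ⟨l, hl, rfl⟩ := exists_list_refl h2 Q hQ g
    have key : ∀ l : List ↥(Cfsg.isometryGroup F ⇑Q), (∀ y ∈ l, y ∈ Rset Q) →
        ((((l.prod : ↥(Cfsg.isometryGroup F ⇑Q)) : Matrix.GeneralLinearGroup (Fin n) F) :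
            Matrix (Fin n) (Fin n) F).det = 1 ∧ l.prod ∈ Subgroup.closure T) ∨
        ((((l.prod : ↥(Cfsg.isometryGroup F ⇑Q)) : Matrix.GeneralLinearGroup (Fin n) F) :
            Matrix (Fin n) (Fin n) F).det = -1 ∧ ∀ r ∈ Rset Q, r * l.prod ∈ Subgroup.closure T) := by
      intro l
      induction l with
      | nil =>
        intro _
        left
        refine ⟨?_, one_mem _⟩
        simp
      | cons r l ih =>
        intro hl
        have hr : r ∈ Rset Q := hl r (List.mem_cons_self)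
        have hl' : ∀ y ∈ l, y ∈ Rset Q := fun y hy => hl y (List.mem_cons_of_mem r hy)
        obtain ⟨v, hv, rfl⟩ := hr
        rw [List.prod_cons]
        have hdet : ((((refl Q v hv * l.prod : ↥(Cfsg.isometryGroup F ⇑Q)) :
            Matrix.GeneralLinearGroup (Fin n) F) : Matrix (Fin n) (Fin n) F)).det
            = -(((l.prod : ↥(Cfsg.isometryGroup F ⇑Q)) : Matrix.GeneralLinearGroup (Fin n) F) :
            Matrix (Fin n) (Fin n) F).det := by
          rw [Subgroup.coe_mul, Units.val_mul, Matrix.det_mul, refl_det, neg_one_mul]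
        rcases ih hl' with ⟨h1, h3⟩ | ⟨h1, h3⟩
        · right
          refine ⟨by rw [hdet, h1], ?_⟩
          rintro _ ⟨u, hu, rfl⟩
          rw [← mul_assoc]
          exact mul_mem (Subgroup.subset_closure (hmemT u v hu hv)) h3
        · left
          refine ⟨by rw [hdet, h1, neg_neg], ?_⟩
          exact h3 _ (refl_mem_Rset Q v hv)
    rcases key l hl with ⟨_, h3⟩ | ⟨h1, _⟩
    · exact h3
    · rw [hg] at h1
      exact absurd h1 hne
  · rw [Subgroup.closure_le]
    rintro g ⟨u, v, hu, hv, hg⟩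
    show g ∈ Cfsg.specialIsometryGroup F ⇑Q
    rw [mem_special_iff, hg, Matrix.det_mul, Cfsg.Agent.Lib.Helper12.reflectionMatrix_det Q u hu,
      Cfsg.Agent.Lib.Helper12.reflectionMatrix_det Q v hv]
    ring

end Cfsg.Agent.S0792
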