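import Cfsg.Statements.S0794
import Mathlib
import Cfsg.Agent.Lib.Helper19.OrthSpinor
import Cfsg.Agent.S0793
-- import your own Cfsg.Agent.* helpers here

set_option autoImplicit false
open Cfsg

namespace Cfsg.Agent.S0794

open Cfsg.Agent.Lib.Helper19.OrthRefl QuadraticMap

theorem act_siegel {F : Type*} [Field F] {n : ℕ} (Q : QuadraticForm F (Fin n → F))
    (u v : Fin n → F) (c : F) (g : ↥(Cfsg.isometryGroup F ⇑Q))
    (hg : ((g : Matrix.GeneralLinearGroup (Fin n) F) : Matrix (Fin n) (Fin n) F)
      = Cfsg.siegelMatrix ⇑Q u v c) (x : Fin n → F) :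
    act g x = x + (c * polar (⇑Q) u x) • v + (-(c * polar (⇑Q) v x)) • u := by
  rw [act_def, hg, Cfsg.Agent.S0793.siegelMatrix_mulVec]

/-- For q odd, n ≥ 5 and Q with non-degenerate polar form: an isometry whose matrix is a Siegel transformation T_(u,v)(c) (u, v singular and orthogonal) is a commutator in the isometry group, so lies in Ω. -/
theorem result {F : Type*} [Field F] [Fintype F] (h2 : (2 : F) ≠ 0) {n : ℕ} (hn : 5 ≤ n) (Q : QuadraticForm F (Fin n → F)) (hQ : (QuadraticMap.polarBilin Q).Nondegenerate) (u v : Fin n → F) (hu : Q u = 0) (hv : Q v = 0) (huv : QuadraticMap.polar ⇑Q u v = 0) (c : F) (g : ↥(Cfsg.isometryGroup F ⇑Q)) (hg : ((g : Matrix.GeneralLinearGroup (Fin n) F) : Matrix (Fin n) (Fin n) F) = Cfsg.siegelMatrix ⇑Q u v c) : g ∈ commutatorSet ↥(Cfsg.isometryGroup F ⇑Q) ∧ g ∈ Cfsg.Omega F ⇑Q := by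
  suffices hcomm : g ∈ commutatorSet ↥(Cfsg.isometryGroup F ⇑Q) by
    refine ⟨hcomm, ?_⟩
    show g ∈ commutator ↥(Cfsg.isometryGroup F ⇑Q)
    rw [commutator_eq_closure]
    exact Subgroup.subset_closure hcomm
  have hvu : polar (⇑Q) v u = 0 := by rw [QuadraticMap.polar_comm]; exact huv
  have huu : polar (⇑Q) u u = 0 := by rw [polar_self', hu, mul_zero]
  have hvv : polar (⇑Q) v v = 0 := by rw [polar_self', hv, mul_zero]
  have hsep : ∀ z : Fin n → F, (∀ x, polar (⇑Q) z x = 0) → z = 0 := by
    intro z hz
    apply hQ.1 z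
    intro x
    rw [QuadraticMap.polarBilin_apply_apply]
    exact hz x
  by_cases hex : ∃ w, polar (⇑Q) u w = 1 ∧ polar (⇑Q) v w = 0
  · obtain ⟨w, hw1, hw2⟩ := hex
    set u' := w - Q w • u with hu'
    have hQu' : Q u' = 0 := by
      rw [hu', Q_sub', QuadraticMap.map_smul, hu, QuadraticMap.polar_smul_right,
        QuadraticMap.polar_comm (⇑Q) w u, hw1]
      simp
    have huu' : polar (⇑Q) u u' = 1 := by
      rw [hu', QuadraticMap.polar_sub_right, QuadraticMap.polar_smul_right, huu, hw1]
      simp
    have hvu' : polar (⇑Q) v u' = 0 := by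
      rw [hu', QuadraticMap.polar_sub_right, QuadraticMap.polar_smul_right, hvu, hw2]
      simp
    have hQ1 : Q (u - u') = -1 := by rw [Q_sub', hu, hQu', huu']; ring
    have hQ2 : Q (u - (2 : F) • u') = -2 := by
      rw [Q_sub', hu, QuadraticMap.map_smul, hQu', QuadraticMap.polar_smul_right, huu']
      simp
    have hne1 : Q (u - u') ≠ 0 := by rw [hQ1]; exact neg_ne_zero.mpr one_ne_zero
    have hne2 : Q (u - (2 : F) • u') ≠ 0 := by rw [hQ2]; exact neg_ne_zero.mpr h2
    obtain ⟨h, hh⟩ : ∃ h, h = refl Q (u - u') hne1 * refl Q (u - (2 : F) • u') hne2 := ⟨_, rfl⟩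
    -- the action of `h`
    have hact : ∀ x, act h x = x + polar (⇑Q) u' x • u + (-((2 : F)⁻¹ * polar (⇑Q) u x)) • u' := by
      intro x
      rw [hh, act_mul, act_refl, act_refl, hQ1, hQ2]
      simp only [QuadraticMap.polar_sub_left, QuadraticMap.polar_sub_right,
        QuadraticMap.polar_smul_left, QuadraticMap.polar_smul_right, huu, huu',
        QuadraticMap.polar_comm (⇑Q) u' u, polar_self' Q u', hQu', smul_eq_mul]
      ext i
      simp only [Pi.add_apply, Pi.sub_apply, Pi.smul_apply, smul_eq_mul]
      field_simp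
      ring
    have hhu : act h u = (2 : F) • u := by
      rw [hact, huu, QuadraticMap.polar_comm (⇑Q) u' u, huu']
      ext i
      simp only [Pi.add_apply, Pi.smul_apply, smul_eq_mul]
      ring
    have hhv : act h v = v := by
      rw [hact, QuadraticMap.polar_comm (⇑Q) u' v, hvu', huv]
      simp
    refine ⟨h, g, ?_⟩
    -- `⁅h, g⁆ = g`
    rw [commutatorElement_def]
    have key : h * g * h⁻¹ = g * g := by
      apply ext_act
      intro x
      rw [act_mul (h * g) h⁻¹, act_mul h g, act_mul g g, act_siegel Q u v c g hg (act h⁻¹ x),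
        act_siegel Q u v c g hg (act g x), act_siegel Q u v c g hg x]
      have e1 : polar (⇑Q) u (act h⁻¹ x) = 2 * polar (⇑Q) u x := by
        rw [← polar_act h, act_act_inv, hhu, QuadraticMap.polar_smul_left, smul_eq_mul]
      have e2 : polar (⇑Q) v (act h⁻¹ x) = polar (⇑Q) v x := by
        rw [← polar_act h, act_act_inv, hhv]
      rw [e1, e2, act_add, act_add, act_act_inv, act_smul, act_smul, hhu, hhv]
      simp only [QuadraticMap.polar_add_right, QuadraticMap.polar_smul_right, huu, huv, hvu, hvv]
      ext i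
      simp only [Pi.add_apply, Pi.smul_apply, smul_eq_mul]
      ring
    rw [key, mul_inv_cancel_right]
  · -- degenerate case: the Siegel matrix is the identity
    have hg1 : g = 1 := by
      apply ext_act
      intro x
      rw [act_one, act_siegel Q u v c g hg]
      by_cases hu0 : u = 0
      · rw [hu0]
        have : polar (⇑Q) (0 : Fin n → F) x = 0 := by
          rw [QuadraticMap.polar_comm]; exact QuadraticMap.polar_zero_right _ _
        rw [this]
        simp
      · have hw0 : ∃ w₀, polar (⇑Q) u w₀ = 1 := by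
          by_contra hcon
          push Not at hcon
          apply hu0
          apply hsep
          intro y
          by_contra hy
          apply hcon ((polar (⇑Q) u y)⁻¹ • y)
          rw [QuadraticMap.polar_smul_right, smul_eq_mul, inv_mul_cancel₀ hy]
        obtain ⟨w₀, hw₀⟩ := hw0
        set β₀ := polar (⇑Q) v w₀ with hβ₀
        have hall : ∀ y, polar (⇑Q) v y = β₀ * polar (⇑Q) u y := by
          intro y
          by_contra hy
          have hδ : polar (⇑Q) v y - β₀ * polar (⇑Q) u y ≠ 0 := sub_ne_zero.mpr hy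
          apply hex
          refine ⟨w₀ - (β₀ / (polar (⇑Q) v y - β₀ * polar (⇑Q) u y)) • (y - polar (⇑Q) u y • w₀),
            ?_, ?_⟩
          · rw [QuadraticMap.polar_sub_right, QuadraticMap.polar_smul_right,
              QuadraticMap.polar_sub_right, QuadraticMap.polar_smul_right, hw₀]
            simp
          · rw [QuadraticMap.polar_sub_right, QuadraticMap.polar_smul_right,
              QuadraticMap.polar_sub_right, QuadraticMap.polar_smul_right, ← hβ₀]
            simp only [smul_eq_mul]
            field_simp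
            ring
        have hvβ : v = β₀ • u := by
          have : v - β₀ • u = 0 := by
            apply hsep
            intro y
            rw [QuadraticMap.polar_sub_left, QuadraticMap.polar_smul_left, hall y, smul_eq_mul,
              sub_self]
          exact sub_eq_zero.mp this
        rw [hall x, hvβ]
        ext i
        simp only [Pi.add_apply, Pi.smul_apply, smul_eq_mul]
        ring
    rw [hg1]
    exact ⟨1, 1, by simp⟩

end Cfsg.Agent.S0794
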