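import Cfsg.Statements.S0795
import Mathlib
import Cfsg.Agent.Lib.Helper19.OrthLong


set_option autoImplicit false
open Cfsg

namespace Cfsg.Agent.S0795

/-- Generation of Ω by root elements: for q odd, n ≥ 5 and Q with non-degenerate polar form on F^n, the commutator subgroup of the isometry group equals the subgroup generated by the isometries whose matrices are Siegel transformations T_(u,v)(c) with u, v singular and orthogonal. -/
theorem result {F : Type*} [Field F] [Fintype F] (h2 : (2 : F) ≠ 0) {n : ℕ} (hn : 5 ≤ n) (Q : QuadraticForm F (Fin n → F)) (hQ : (QuadraticMap.polarBilin Q).Nondegenerate) : Cfsg.Omega F ⇑Q = Subgroup.closure {g : ↥(Cfsg.isometryGroup F ⇑Q) | ∃ (u v : Fin n → F) (c : F), Q u = 0 ∧ Q v = 0 ∧ QuadraticMap.polar ⇑Q u v = 0 ∧ ((g : Matrix.GeneralLinearGroup (Fin n) F) : Matrix (Fin n) (Fin n) F) = Cfsg.siegelMatrix ⇑Q u v c} := by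
  classical
  rw [Cfsg.Agent.Lib.Helper19.OrthRefl.Omega_eq_closure_LongSet Q hQ (by rw [Fintype.card_fin]; exact hn)]
  congr 1
  ext g
  constructor
  · rintro ⟨p, u, hp, hpu, hu, rfl⟩
    refine ⟨u, p, 1, hu, hp, ?_, ?_⟩
    · rw [QuadraticMap.polar_comm]; exact hpu
    · have hpu' : QuadraticMap.polar (⇑Q) p ((1 : F) • u) = 0 := by rw [one_smul]; exact hpu
      rw [← Cfsg.Agent.Lib.Helper19.OrthRefl.siegel_coe Q hQ u p 1 hu hp hpu']
      rw [Cfsg.Agent.Lib.Helper19.OrthRefl.siegel_congr Q hQ hp hpu hp hpu' rfl (one_smul F u).symm]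
  · rintro ⟨u, v, c, hu, hv, huv, hg⟩
    have hvu : QuadraticMap.polar (⇑Q) v (c • u) = 0 := by
      rw [QuadraticMap.polar_smul_right, QuadraticMap.polar_comm, huv, smul_zero]
    refine ⟨v, c • u, hv, hvu, ?_, ?_⟩
    · rw [QuadraticMap.map_smul, hu, smul_zero]
    · apply Subtype.ext
      apply Units.ext
      rw [hg, Cfsg.Agent.Lib.Helper19.OrthRefl.siegel_coe Q hQ u v c hu hv hvu]

end Cfsg.Agent.S0795
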