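-- Statement S0796: quotients of a primitive group by non-trivial normal subgroups.
import Cfsg.Statements.S0796

set_option autoImplicit false
open Cfsg

namespace Cfsg.Agent.S0796

theorem result {G X : Type*} [Group G] [Finite G] [MulAction G X] [FaithfulSMul G X] (hprim : MulAction.IsPreprimitive G X) (x : X) (A : Subgroup G) (hA : A ≤ MulAction.stabilizer G x) (hAn : (A.subgroupOf (MulAction.stabilizer G x)).Normal) (hgen : Subgroup.normalClosure (A : Set G) = ⊤) (K : Subgroup G) [K.Normal] (hK : K ≠ ⊥) : ∃ (B : Subgroup A) (_ : B.Normal), Nonempty (G ⧸ K ≃* A ⧸ B) := by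
  classical
  -- `K` acts non-trivially, hence transitively
  have hfix : MulAction.fixedPoints K X ≠ Set.univ := by
    intro h
    apply hK
    rw [Subgroup.eq_bot_iff_forall]
    intro k hk
    apply FaithfulSMul.eq_of_smul_eq_smul (α := X)
    intro y
    rw [one_smul]
    have : y ∈ MulAction.fixedPoints K X := h ▸ Set.mem_univ y
    exact this ⟨k, hk⟩
  have htrans : MulAction.IsPretransitive K X :=
    MulAction.IsQuasiPreprimitive.isPretransitive_of_normal hfix
  -- `A ⊔ K = ⊤`
  have hsup : A ⊔ K = ⊤ := by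
    rw [eq_top_iff, ← hgen, Subgroup.normalClosure, Subgroup.closure_le]
    intro y hy
    obtain ⟨a, ha, hay⟩ := Group.mem_conjugatesOfSet_iff.mp hy
    obtain ⟨g, rfl⟩ := isConj_iff.mp hay
    -- write `g = k * h` with `k ∈ K` and `h` fixing `x`
    obtain ⟨k, hk⟩ := MulAction.exists_smul_eq K x (g • x)
    set h : G := (k : G)⁻¹ * g with hh
    have hhx : h ∈ MulAction.stabilizer G x := by
      rw [MulAction.mem_stabilizer_iff, hh, mul_smul, ← hk]
      exact inv_smul_smul (k : G) x
    have hconj : h * a * h⁻¹ ∈ A := by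
      have := hAn.conj_mem ⟨a, hA ha⟩ (by simpa [Subgroup.mem_subgroupOf] using ha) ⟨h, hhx⟩
      simpa [Subgroup.mem_subgroupOf] using this
    have e : g * a * g⁻¹ = (k : G) * (h * a * h⁻¹) * (k : G)⁻¹ := by
      rw [hh]; group
    rw [e]
    have hkK : (k : G) ∈ A ⊔ K := Subgroup.mem_sup_right k.2
    exact Subgroup.mul_mem _ (Subgroup.mul_mem _ hkK (Subgroup.mem_sup_left hconj))
      (Subgroup.inv_mem _ hkK)
  -- the restriction of the quotient map to `A` is onto
  set φ : A →* G ⧸ K := (QuotientGroup.mk' K).comp A.subtype with hφ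
  have hsurj : Function.Surjective φ := by
    intro q
    induction q using QuotientGroup.induction_on with
    | H g =>
      have hg : g ∈ A ⊔ K := hsup ▸ Subgroup.mem_top g
      rw [← SetLike.mem_coe, Subgroup.mul_normal] at hg
      obtain ⟨a, ha, k, hk, rfl⟩ := Set.mem_mul.mp hg
      refine ⟨⟨a, ha⟩, ?_⟩
      change (QuotientGroup.mk a : G ⧸ K) = QuotientGroup.mk (a * k)
      rw [QuotientGroup.eq]
      simpa using hk
  exact ⟨φ.ker, inferInstance, ⟨(QuotientGroup.quotientKerEquivOfSurjective φ hsurj).symm⟩⟩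

end Cfsg.Agent.S0796
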