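-- Statement S0819: PSL_3(4) has no element of order 15.
import Cfsg.Statements.S0819
import Mathlib

set_option autoImplicit false
open Cfsg

namespace Cfsg.Agent.S0819

section cases
variable {R : Type*} [CommRing R]

/-! Machine-generated Bezout identities over `F_4[x]`: for the characteristic polynomial
`x^3 + a x^2 + b x + 1` and `x^15 - ω`, the ideal they generate contains `1`, `x^3 - c` or `x^5 - c`. -/

theorem case_0_0_1 (x W : R) (h2 : (2:R) = 0) (hW : W^2 = W + 1)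
    (hχ : x^3 + 0*x^2 + 0*x + 1 = 0) (h15 : x^15 = 1) : x^3 = 1 := by
  linear_combination (exp := 1) (1) * hχ + (0) * h15 + (-1) * h2 + (0) * hW

theorem case_0_0_2 (x W : R) (h2 : (2:R) = 0) (hW : W^2 = W + 1)
    (hχ : x^3 + 0*x^2 + 0*x + 1 = 0) (h15 : x^15 = W) : (1:R) = 0 := by
  linear_combination (exp := 1) (W*x^12 + W*x^9 + W*x^6 + W*x^3 + W) * hχ + (W) * h15 + (-W*x^15 - W*x^12 - W*x^9 - W*x^6 - W*x^3 + 1) * h2 + (1) * hW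

theorem case_0_0_3 (x W : R) (h2 : (2:R) = 0) (hW : W^2 = W + 1)
    (hχ : x^3 + 0*x^2 + 0*x + 1 = 0) (h15 : x^15 = (W+1)) : (1:R) = 0 := by
  linear_combination (exp := 1) (W*x^12 + x^12 + W*x^9 + x^9 + W*x^6 + x^6 + W*x^3 + x^3 + W + 1) * hχ + (W + 1) * h15 + (-W*x^15 - x^15 - W*x^12 - x^12 - W*x^9 - x^9 - W*x^6 - x^6 - W*x^3 - x^3 + W + 1) * h2 + (1) * hW

theorem case_0_1_1 (x W : R) (h2 : (2:R) = 0) (hW : W^2 = W + 1)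
    (hχ : x^3 + 0*x^2 + 1*x + 1 = 0) (h15 : x^15 = 1) : (1:R) = 0 := by
  linear_combination (exp := 1) (x^14 + x^13 + x^12 + x^9 + x^7 + x^6 + x^5 + x^2 + 1) * hχ + (x^2 + x) * h15 + (-x^17 - x^16 - x^15 - x^14 - x^13 - x^12 - x^10 - x^9 - x^8 - x^7 - x^6 - x^5 - x^3) * h2 + (0) * hW

theorem case_0_1_2 (x W : R) (h2 : (2:R) = 0) (hW : W^2 = W + 1)
    (hχ : x^3 + 0*x^2 + 1*x + 1 = 0) (h15 : x^15 = W) : (1:R) = 0 := by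
  linear_combination (exp := 1) (W*x^14 + x^14 + x^13 + W*x^12 + W*x^11 + W*x^10 + x^10 + x^8 + W*x^7 + x^7 + x^6 + W*x^5 + W*x^4 + W*x^3 + x^3 + x + W + 1) * hχ + (W*x^2 + x^2 + x + 1) * h15 + (-W*x^17 - x^17 - x^16 - W*x^15 - x^15 - W*x^14 - x^14 - W*x^13 - x^13 - W*x^12 - W*x^11 - x^11 - W*x^10 - x^10 - x^9 - W*x^8 - x^8 - W*x^7 - x^7 - W*x^6 - x^6 - W*x^5 - W*x^4 - x^4 - W*x^3 - x^3 + W*x^2 - x) * h2 + (x^2) * hW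

theorem case_0_1_3 (x W : R) (h2 : (2:R) = 0) (hW : W^2 = W + 1)
    (hχ : x^3 + 0*x^2 + 1*x + 1 = 0) (h15 : x^15 = (W+1)) : (1:R) = 0 := by
  linear_combination (exp := 1) (W*x^14 + x^13 + W*x^12 + x^12 + W*x^11 + x^11 + W*x^10 + x^8 + W*x^7 + x^6 + W*x^5 + x^5 + W*x^4 + x^4 + W*x^3 + x + W) * hχ + (W*x^2 + x + 1) * h15 + (-W*x^17 - x^16 - W*x^15 - x^15 - W*x^14 - x^14 - W*x^13 - x^13 - W*x^12 - x^12 - W*x^11 - x^11 - W*x^10 - x^9 - W*x^8 - x^8 - W*x^7 - x^7 - W*x^6 - x^6 - W*x^5 - x^5 - W*x^4 - x^4 - W*x^3 + W*x^2 + 1) * h2 + (x^2) * hW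

theorem case_0_2_1 (x W : R) (h2 : (2:R) = 0) (hW : W^2 = W + 1)
    (hχ : x^3 + 0*x^2 + W*x + 1 = 0) (h15 : x^15 = 1) : (1:R) = 0 := by
  linear_combination (exp := 1) (W*x^14 + x^14 + W*x^13 + x^12 + x^9 + W*x^7 + x^6 + W*x^5 + x^5 + W*x^2 + x^2 + 1) * hχ + (W*x^2 + x^2 + W*x) * h15 + (-W*x^17 - x^17 - W*x^16 - W*x^15 - x^15 - W*x^14 - x^14 - W*x^13 - x^12 - W*x^10 - x^9 - W*x^8 - x^8 - W*x^7 - W*x^6 - x^6 - W*x^5 - x^5 - W*x^3 - x^3) * h2 + (-x^15 - x^14 - x^8 - x^6 - x^3) * hW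

theorem case_0_2_2 (x W : R) (h2 : (2:R) = 0) (hW : W^2 = W + 1)
    (hχ : x^3 + 0*x^2 + W*x + 1 = 0) (h15 : x^15 = W) : (1:R) = 0 := by
  linear_combination (exp := 1) (W*x^14 + W*x^13 + W*x^12 + x^11 + x^10 + W*x^8 + x^8 + x^7 + x^6 + x^5 + W*x^4 + x^4 + W*x^3 + x^3 + W*x + W + 1) * hχ + (W*x^2 + W*x + 1) * h15 + (-W*x^17 - W*x^16 - W*x^15 - x^15 - W*x^14 - x^14 - W*x^13 - x^13 - W*x^12 - W*x^11 - x^11 - x^10 - W*x^9 - x^9 - W*x^8 - x^8 - W*x^7 - x^7 - W*x^6 - x^6 - W*x^5 - x^5 - 2*W*x^4 - x^4 - W*x^3 - x^3 - W*x) * h2 + (-x^15 - x^14 - x^13 - x^9 - x^5 - x^4) * hW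

theorem case_0_2_3 (x W : R) (h2 : (2:R) = 0) (hW : W^2 = W + 1)
    (hχ : x^3 + 0*x^2 + W*x + 1 = 0) (h15 : x^15 = (W+1)) : (1:R) = 0 := by
  linear_combination (exp := 1) (x^14 + W*x^13 + W*x^12 + x^12 + W*x^11 + W*x^10 + x^10 + W*x^8 + x^8 + W*x^7 + x^7 + x^6 + W*x^5 + x^4 + W*x^3 + W*x + W) * hχ + (x^2 + W*x + 1) * h15 + (-x^17 - W*x^16 - W*x^15 - x^15 - W*x^14 - x^14 - 2*W*x^13 - x^13 - W*x^12 - x^12 - 2*W*x^11 - x^11 - W*x^10 - x^10 - W*x^9 - x^9 - 2*W*x^8 - x^8 - W*x^7 - x^7 - W*x^6 - x^6 - W*x^5 - W*x^4 - x^4 - W*x^3 + 1) * h2 + (-x^14 - x^13 - x^12 - x^11 - x^9 - x^8 - x^6 - x^4 - x^2) * hW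

theorem case_0_3_1 (x W : R) (h2 : (2:R) = 0) (hW : W^2 = W + 1)
    (hχ : x^3 + 0*x^2 + (W+1)*x + 1 = 0) (h15 : x^15 = 1) : (1:R) = 0 := by
  linear_combination (exp := 1) (W*x^14 + W*x^13 + x^13 + x^12 + x^9 + W*x^7 + x^7 + x^6 + W*x^5 + W*x^2 + 1) * hχ + (W*x^2 + W*x + x) * h15 + (-W*x^17 - W*x^16 - x^16 - W*x^15 - x^15 - 2*W*x^14 - x^14 - W*x^13 - x^13 - x^12 - W*x^10 - x^10 - x^9 - 2*W*x^8 - x^8 - W*x^7 - x^7 - W*x^6 - x^6 - W*x^5 - W*x^3 - x^3) * h2 + (-x^15 - x^14 - x^8 - x^6 - x^3) * hW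

theorem case_0_3_2 (x W : R) (h2 : (2:R) = 0) (hW : W^2 = W + 1)
    (hχ : x^3 + 0*x^2 + (W+1)*x + 1 = 0) (h15 : x^15 = W) : (1:R) = 0 := by
  linear_combination (exp := 1) (x^14 + W*x^13 + x^13 + W*x^12 + W*x^11 + x^11 + W*x^10 + W*x^8 + W*x^7 + x^6 + W*x^5 + x^5 + x^4 + W*x^3 + x^3 + W*x + x + W + 1) * hχ + (x^2 + W*x + x + 1) * h15 + (-x^17 - W*x^16 - x^16 - W*x^15 - x^15 - 2*W*x^14 - 2*x^14 - 2*W*x^13 - x^13 - 2*W*x^12 - x^12 - 2*W*x^11 - x^11 - W*x^10 - W*x^9 - x^9 - 2*W*x^8 - x^8 - W*x^7 - x^7 - 2*W*x^6 - 2*x^6 - W*x^5 - x^5 - 2*W*x^4 - 2*x^4 - W*x^3 - x^3 - W*x^2 - x^2 - W*x - x) * h2 + (-x^14 - x^13 - x^12 - x^11 - x^9 - x^8 - x^6 - x^4 - x^2) * hW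

theorem case_0_3_3 (x W : R) (h2 : (2:R) = 0) (hW : W^2 = W + 1)
    (hχ : x^3 + 0*x^2 + (W+1)*x + 1 = 0) (h15 : x^15 = (W+1)) : (1:R) = 0 := by
  linear_combination (exp := 1) (W*x^14 + x^14 + W*x^13 + x^13 + W*x^12 + x^12 + x^11 + x^10 + W*x^8 + x^7 + x^6 + x^5 + W*x^4 + W*x^3 + W*x + x + W) * hχ + (W*x^2 + x^2 + W*x + x + 1) * h15 + (-W*x^17 - x^17 - W*x^16 - x^16 - 2*W*x^15 - 2*x^15 - 2*W*x^14 - 2*x^14 - 2*W*x^13 - 2*x^13 - W*x^12 - x^12 - W*x^11 - x^11 - x^10 - W*x^9 - x^9 - W*x^8 - x^8 - W*x^7 - x^7 - W*x^6 - x^6 - W*x^5 - x^5 - 2*W*x^4 - x^4 - W*x^3 + 1) * h2 + (-x^15 - x^14 - x^13 - x^9 - x^5 - x^4) * hW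

theorem case_1_0_1 (x W : R) (h2 : (2:R) = 0) (hW : W^2 = W + 1)
    (hχ : x^3 + 1*x^2 + 0*x + 1 = 0) (h15 : x^15 = 1) : (1:R) = 0 := by
  linear_combination (exp := 1) (x^14 + x^13 + x^12 + x^10 + x^7 + x^6 + x^5 + x^3 + 1) * hχ + (x^2) * h15 + (-x^17 - x^16 - x^15 - x^14 - x^13 - x^12 - x^10 - x^9 - x^8 - x^7 - x^6 - x^5 - x^3) * h2 + (0) * hW

theorem case_1_0_2 (x W : R) (h2 : (2:R) = 0) (hW : W^2 = W + 1)
    (hχ : x^3 + 1*x^2 + 0*x + 1 = 0) (h15 : x^15 = W) : (1:R) = 0 := by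
  linear_combination (exp := 1) (W*x^14 + W*x^13 + x^13 + x^12 + W*x^11 + x^11 + x^9 + W*x^8 + W*x^7 + W*x^6 + x^6 + x^5 + W*x^4 + x^4 + x^2 + W*x + W) * hχ + (W*x^2 + x + W) * h15 + (-W*x^17 - W*x^16 - x^16 - W*x^15 - x^15 - W*x^14 - x^14 - W*x^13 - x^13 - x^12 - W*x^11 - x^11 - W*x^10 - W*x^9 - x^9 - W*x^8 - x^8 - W*x^7 - x^7 - W*x^6 - x^6 - x^5 - W*x^4 - x^4 - W*x^3 + 1) * h2 + (x^2 + 1) * hW

theorem case_1_0_3 (x W : R) (h2 : (2:R) = 0) (hW : W^2 = W + 1)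
    (hχ : x^3 + 1*x^2 + 0*x + 1 = 0) (h15 : x^15 = (W+1)) : (1:R) = 0 := by
  linear_combination (exp := 1) (W*x^14 + x^14 + W*x^13 + x^12 + W*x^11 + x^9 + W*x^8 + x^8 + W*x^7 + x^7 + W*x^6 + x^5 + W*x^4 + x^2 + W*x + x + W + 1) * hχ + (W*x^2 + x^2 + x + W + 1) * h15 + (-W*x^17 - x^17 - W*x^16 - x^16 - W*x^15 - x^15 - W*x^14 - x^14 - W*x^13 - x^12 - W*x^11 - x^11 - W*x^10 - x^10 - W*x^9 - x^9 - W*x^8 - x^8 - W*x^7 - x^7 - W*x^6 - x^5 - W*x^4 - x^4 - W*x^3 - x^3 + W*x^2 + W + 1) * h2 + (x^2 + 1) * hW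

theorem case_1_1_1 (x W : R) (h2 : (2:R) = 0) (hW : W^2 = W + 1)
    (hχ : x^3 + 1*x^2 + 1*x + 1 = 0) (h15 : x^15 = 1) : x^3 = 1 := by
  linear_combination (exp := 1) (x^15 + x^12 + x^11 + x^8 + x^7 + x^4 + x^3 + 1) * hχ + (x^3 + x^2 + x) * h15 + (-x^18 - x^17 - x^16 - x^15 - x^14 - x^13 - x^12 - x^11 - x^10 - x^9 - x^8 - x^7 - x^6 - x^5 - x^4 - 1) * h2 + (0) * hW

theorem case_1_1_2 (x W : R) (h2 : (2:R) = 0) (hW : W^2 = W + 1)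
    (hχ : x^3 + 1*x^2 + 1*x + 1 = 0) (h15 : x^15 = W) : (1:R) = 0 := by
  linear_combination (exp := 1) (W*x^14 + x^13 + W*x^11 + x^11 + W*x^10 + x^9 + W*x^7 + x^7 + W*x^6 + x^5 + W*x^3 + x^3 + W*x^2 + x) * hχ + (W*x^2 + W*x + x + W + 1) * h15 + (-W*x^17 - W*x^16 - x^16 - W*x^15 - x^15 - W*x^14 - x^14 - W*x^13 - x^13 - W*x^12 - x^12 - W*x^11 - x^11 - W*x^10 - x^10 - W*x^9 - x^9 - W*x^8 - x^8 - W*x^7 - x^7 - W*x^6 - x^6 - W*x^5 - x^5 - W*x^4 - x^4 - W*x^3 - x^3 + W*x + W + 1) * h2 + (x^2 + x + 1) * hW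

theorem case_1_1_3 (x W : R) (h2 : (2:R) = 0) (hW : W^2 = W + 1)
    (hχ : x^3 + 1*x^2 + 1*x + 1 = 0) (h15 : x^15 = (W+1)) : (1:R) = 0 := by
  linear_combination (exp := 1) (W*x^14 + x^14 + x^13 + W*x^11 + W*x^10 + x^10 + x^9 + W*x^7 + W*x^6 + x^6 + x^5 + W*x^3 + W*x^2 + x^2 + x) * hχ + (W*x^2 + x^2 + W*x + W) * h15 + (-W*x^17 - x^17 - W*x^16 - x^16 - W*x^15 - x^15 - W*x^14 - x^14 - W*x^13 - x^13 - W*x^12 - x^12 - W*x^11 - x^11 - W*x^10 - x^10 - W*x^9 - x^9 - W*x^8 - x^8 - W*x^7 - x^7 - W*x^6 - x^6 - W*x^5 - x^5 - W*x^4 - x^4 - W*x^3 - x^3 + W*x^2 + W*x + W + 1) * h2 + (x^2 + x + 1) * hW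

theorem case_1_2_1 (x W : R) (h2 : (2:R) = 0) (hW : W^2 = W + 1)
    (hχ : x^3 + 1*x^2 + W*x + 1 = 0) (h15 : x^15 = 1) : x^5 = (W+1) := by
  linear_combination (exp := 1) (x^2 + x + W + 1) * hχ + (0) * h15 + (-x^4 - W*x^3 - x^3 - W*x^2 - x^2 - W*x - x - W - 1) * h2 + (-x) * hW

theorem case_1_2_2 (x W : R) (h2 : (2:R) = 0) (hW : W^2 = W + 1)
    (hχ : x^3 + 1*x^2 + W*x + 1 = 0) (h15 : x^15 = W) : (1:R) = 0 := by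
  linear_combination (exp := 1) (W*x^12 + W*x^11 + x^10 + x^7 + x^6 + W*x^5 + x^5 + W*x^2 + x^2 + W*x + x + W) * hχ + (W) * h15 + (-W*x^15 - W*x^14 - W*x^13 - x^13 - W*x^12 - x^12 - W*x^11 - x^10 - x^9 - W*x^8 - x^8 - W*x^7 - x^7 - W*x^6 - x^6 - W*x^5 - x^5 - W*x^4 - x^4 - 2*W*x^3 - x^3 - 2*W*x^2 - x^2 - W*x - x + 1) * h2 + (-x^13 - x^12 - x^6 - x^3 - x^2 - x + 1) * hW

theorem case_1_2_3 (x W : R) (h2 : (2:R) = 0) (hW : W^2 = W + 1)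
    (hχ : x^3 + 1*x^2 + W*x + 1 = 0) (h15 : x^15 = (W+1)) : (1:R) = 0 := by
  linear_combination (exp := 1) (W*x^12 + x^12 + W*x^11 + x^11 + W*x^10 + W*x^7 + W*x^6 + x^5 + x^2 + x + W + 1) * hχ + (W + 1) * h15 + (-W*x^15 - x^15 - W*x^14 - x^14 - 2*W*x^13 - x^13 - 2*W*x^12 - x^12 - W*x^11 - x^11 - W*x^10 - W*x^9 - W*x^8 - x^8 - W*x^7 - x^7 - W*x^6 - x^5 - x^4 - W*x^3 - x^3 - W*x^2 - x^2 - W*x - x + W + 1) * h2 + (-x^13 - x^12 - x^11 - x^8 - x^7 - x + 1) * hW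

theorem case_1_3_1 (x W : R) (h2 : (2:R) = 0) (hW : W^2 = W + 1)
    (hχ : x^3 + 1*x^2 + (W+1)*x + 1 = 0) (h15 : x^15 = 1) : x^5 = W := by
  linear_combination (exp := 1) (x^2 + x + W) * hχ + (0) * h15 + (-x^4 - W*x^3 - x^3 - W*x^2 - x^2 - W*x - x - W) * h2 + (-x) * hW

theorem case_1_3_2 (x W : R) (h2 : (2:R) = 0) (hW : W^2 = W + 1)
    (hχ : x^3 + 1*x^2 + (W+1)*x + 1 = 0) (h15 : x^15 = W) : (1:R) = 0 := by
  linear_combination (exp := 1) (W*x^12 + W*x^11 + W*x^10 + x^10 + W*x^7 + x^7 + W*x^6 + x^6 + x^5 + x^2 + x + W) * hχ + (W) * h15 + (-W*x^15 - W*x^14 - 2*W*x^13 - x^13 - 2*W*x^12 - x^12 - 2*W*x^11 - x^11 - W*x^10 - x^10 - W*x^9 - x^9 - 2*W*x^8 - 2*x^8 - 2*W*x^7 - 2*x^7 - W*x^6 - x^6 - x^5 - x^4 - W*x^3 - x^3 - W*x^2 - x^2 - W*x - x + 1) * h2 + (-x^13 - x^12 - x^11 - x^8 - x^7 - x + 1) * hW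

theorem case_1_3_3 (x W : R) (h2 : (2:R) = 0) (hW : W^2 = W + 1)
    (hχ : x^3 + 1*x^2 + (W+1)*x + 1 = 0) (h15 : x^15 = (W+1)) : (1:R) = 0 := by
  linear_combination (exp := 1) (W*x^12 + x^12 + W*x^11 + x^11 + x^10 + x^7 + x^6 + W*x^5 + W*x^2 + W*x + W + 1) * hχ + (W + 1) * h15 + (-W*x^15 - x^15 - W*x^14 - x^14 - 2*W*x^13 - 2*x^13 - 2*W*x^12 - 2*x^12 - W*x^11 - x^11 - x^10 - x^9 - W*x^8 - x^8 - W*x^7 - x^7 - W*x^6 - x^6 - W*x^5 - W*x^4 - 2*W*x^3 - x^3 - 2*W*x^2 - x^2 - 2*W*x - x + W + 1) * h2 + (-x^13 - x^12 - x^6 - x^3 - x^2 - x + 1) * hW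

theorem case_2_0_1 (x W : R) (h2 : (2:R) = 0) (hW : W^2 = W + 1)
    (hχ : x^3 + W*x^2 + 0*x + 1 = 0) (h15 : x^15 = 1) : (1:R) = 0 := by
  linear_combination (exp := 1) (W*x^14 + W*x^13 + x^13 + x^12 + W*x^10 + x^10 + W*x^7 + x^7 + x^6 + W*x^5 + x^3 + 1) * hχ + (W*x^2) * h15 + (-W*x^17 - W*x^16 - x^16 - W*x^15 - x^15 - W*x^14 - W*x^13 - x^13 - W*x^12 - x^12 - W*x^10 - x^10 - W*x^9 - x^9 - W*x^8 - W*x^7 - x^7 - x^6 - W*x^5 - x^3) * h2 + (-x^16 - x^15 - x^12 - x^9 - x^7) * hW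

theorem case_2_0_2 (x W : R) (h2 : (2:R) = 0) (hW : W^2 = W + 1)
    (hχ : x^3 + W*x^2 + 0*x + 1 = 0) (h15 : x^15 = W) : (1:R) = 0 := by
  linear_combination (exp := 1) (W*x^14 + x^14 + W*x^13 + x^12 + x^11 + x^9 + W*x^8 + x^8 + x^7 + W*x^6 + x^6 + W*x^5 + W*x^4 + W*x^2 + x + W) * hχ + (W*x^2 + x^2 + W*x + x + W) * h15 + (-W*x^17 - x^17 - 2*W*x^16 - x^16 - W*x^15 - x^15 - W*x^14 - x^14 - W*x^13 - x^12 - W*x^11 - x^11 - W*x^10 - x^10 - W*x^9 - x^9 - 2*W*x^8 - x^8 - W*x^7 - x^7 - W*x^6 - x^6 - W*x^5 - W*x^4 - x^4 - W*x^3 + W*x + 1) * h2 + (-x^16 - x^15 - x^10 - x^8 - x^7 - x^6 - x^4 + x + 1) * hW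

theorem case_2_0_3 (x W : R) (h2 : (2:R) = 0) (hW : W^2 = W + 1)
    (hχ : x^3 + W*x^2 + 0*x + 1 = 0) (h15 : x^15 = (W+1)) : (1:R) = 0 := by
  linear_combination (exp := 1) (x^14 + x^13 + x^12 + W*x^11 + x^11 + x^9 + x^8 + W*x^7 + W*x^6 + W*x^5 + x^4 + W*x^2 + W*x + W + 1) * hχ + (x^2 + W*x + x + W + 1) * h15 + (-x^17 - W*x^16 - x^16 - W*x^15 - x^15 - W*x^14 - x^14 - W*x^13 - x^13 - x^12 - W*x^11 - x^11 - W*x^10 - W*x^9 - x^9 - W*x^8 - x^8 - W*x^7 - x^7 - W*x^6 - W*x^5 - W*x^4 - x^4 - W*x^3 - x^3 - W*x^2 + W*x + x + W + 1) * h2 + (-x^13 - x^9 - x^8 - x^7 - x^4 - x^3 - x^2 + x + 1) * hW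

theorem case_2_1_1 (x W : R) (h2 : (2:R) = 0) (hW : W^2 = W + 1)
    (hχ : x^3 + W*x^2 + 1*x + 1 = 0) (h15 : x^15 = 1) : x^5 = W := by
  linear_combination (exp := 1) (x^2 + W*x + W) * hχ + (0) * h15 + (-W*x^4 - W*x^3 - x^3 - W*x^2 - x^2 - W*x - W) * h2 + (-x^3 - x^2) * hW

theorem case_2_1_2 (x W : R) (h2 : (2:R) = 0) (hW : W^2 = W + 1)
    (hχ : x^3 + W*x^2 + 1*x + 1 = 0) (h15 : x^15 = W) : (1:R) = 0 := by
  linear_combination (exp := 1) (W*x^12 + W*x^11 + x^11 + W*x^10 + x^10 + W*x^7 + x^7 + x^6 + x^5 + x^2 + W*x + W) * hχ + (W) * h15 + (-W*x^15 - W*x^14 - x^14 - 2*W*x^13 - x^13 - 2*W*x^12 - x^12 - W*x^11 - x^11 - W*x^10 - x^10 - W*x^9 - x^9 - W*x^8 - x^8 - W*x^7 - x^7 - x^6 - x^5 - W*x^4 - W*x^3 - x^3 - W*x^2 - x^2 - W*x + 1) * h2 + (-x^14 - x^13 - x^12 - x^9 - x^3 - x^2 + 1) * hW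

theorem case_2_1_3 (x W : R) (h2 : (2:R) = 0) (hW : W^2 = W + 1)
    (hχ : x^3 + W*x^2 + 1*x + 1 = 0) (h15 : x^15 = (W+1)) : (1:R) = 0 := by
  linear_combination (exp := 1) (W*x^12 + x^12 + x^11 + x^10 + x^7 + W*x^6 + W*x^5 + W*x^2 + W*x + x + W + 1) * hχ + (W + 1) * h15 + (-W*x^15 - x^15 - W*x^14 - x^14 - W*x^13 - x^13 - W*x^12 - x^12 - x^11 - x^10 - W*x^9 - W*x^8 - x^8 - W*x^7 - x^7 - W*x^6 - W*x^5 - W*x^4 - x^4 - 2*W*x^3 - x^3 - 2*W*x^2 - x^2 - W*x - x + W + 1) * h2 + (-x^14 - x^8 - x^7 - x^4 - x^3 - x^2 + 1) * hW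

theorem case_2_2_1 (x W : R) (h2 : (2:R) = 0) (hW : W^2 = W + 1)
    (hχ : x^3 + W*x^2 + W*x + 1 = 0) (h15 : x^15 = 1) : x^5 = 1 := by
  linear_combination (exp := 1) (x^2 + W*x + 1) * hχ + (0) * h15 + (-W*x^4 - W*x^3 - x^3 - W*x^2 - x^2 - W*x - 1) * h2 + (-x^3 - x^2) * hW

theorem case_2_2_2 (x W : R) (h2 : (2:R) = 0) (hW : W^2 = W + 1)
    (hχ : x^3 + W*x^2 + W*x + 1 = 0) (h15 : x^15 = W) : (1:R) = 0 := by
  linear_combination (exp := 1) (W*x^12 + W*x^11 + x^11 + W*x^10 + W*x^7 + W*x^6 + x^6 + W*x^5 + W*x^2 + W*x + x + W) * hχ + (W) * h15 + (-W*x^15 - W*x^14 - x^14 - 2*W*x^13 - x^13 - 2*W*x^12 - x^12 - W*x^11 - x^11 - W*x^10 - W*x^9 - x^9 - 2*W*x^8 - x^8 - 2*W*x^7 - x^7 - W*x^6 - x^6 - W*x^5 - W*x^4 - x^4 - 2*W*x^3 - x^3 - 2*W*x^2 - x^2 - W*x - x + 1) * h2 + (-x^14 - 2*x^13 - 2*x^12 - x^11 - x^9 - 2*x^8 - 2*x^7 - x^6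 - x^4 - 2*x^3 - 2*x^2 - x + 1) * hW

theorem case_2_2_3 (x W : R) (h2 : (2:R) = 0) (hW : W^2 = W + 1)
    (hχ : x^3 + W*x^2 + W*x + 1 = 0) (h15 : x^15 = (W+1)) : (1:R) = 0 := by
  linear_combination (exp := 1) (W*x^12 + x^12 + x^11 + W*x^10 + x^10 + W*x^7 + x^7 + x^6 + W*x^5 + x^5 + W*x^2 + x^2 + x + W + 1) * hχ + (W + 1) * h15 + (-W*x^15 - x^15 - W*x^14 - x^14 - 2*W*x^13 - x^13 - 2*W*x^12 - x^12 - W*x^11 - x^11 - W*x^10 - x^10 - W*x^9 - x^9 - 2*W*x^8 - x^8 - 2*W*x^7 - x^7 - W*x^6 - x^6 - W*x^5 - x^5 - W*x^4 - x^4 - 2*W*x^3 - x^3 - 2*W*x^2 - x^2 - W*x - x + W + 1) * h2 + (-x^14 - x^13 - x^12 - x^11 - x^9 - x^8 - x^7 - x^6 - x^4 - x^3 - x^2 - x + 1) * hW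

theorem case_2_3_1 (x W : R) (h2 : (2:R) = 0) (hW : W^2 = W + 1)
    (hχ : x^3 + W*x^2 + (W+1)*x + 1 = 0) (h15 : x^15 = 1) : x^3 = 1 := by
  linear_combination (exp := 1) (x^15 + x^12 + W*x^11 + W*x^8 + W*x^7 + x^7 + W*x^4 + x^4 + x^3 + 1) * hχ + (x^3 + W*x^2 + W*x + x) * h15 + (-x^18 - W*x^17 - W*x^16 - x^16 - x^15 - W*x^14 - W*x^13 - x^13 - W*x^12 - x^12 - W*x^11 - W*x^10 - x^10 - 2*W*x^9 - x^9 - 2*W*x^8 - x^8 - W*x^7 - x^7 - W*x^6 - x^6 - 2*W*x^5 - x^5 - W*x^4 - x^4 - 1) * h2 + (-x^13 - x^12 - x^10 - 2*x^9 - x^8 - x^6 - x^5) * hW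

theorem case_2_3_2 (x W : R) (h2 : (2:R) = 0) (hW : W^2 = W + 1)
    (hχ : x^3 + W*x^2 + (W+1)*x + 1 = 0) (h15 : x^15 = W) : (1:R) = 0 := by
  linear_combination (exp := 1) (W*x^14 + x^14 + W*x^13 + x^13 + x^11 + x^10 + x^9 + W*x^7 + W*x^6 + W*x^5 + W*x^3 + x^3 + W*x^2 + x^2 + W*x + x) * hχ + (W*x^2 + x^2 + W*x + W + 1) * h15 + (-W*x^17 - x^17 - 2*W*x^16 - x^16 - 3*W*x^15 - 2*x^15 - 2*W*x^14 - 2*x^14 - W*x^13 - x^13 - W*x^12 - x^12 - W*x^11 - x^11 - W*x^10 - x^10 - W*x^9 - x^9 - 2*W*x^8 - x^8 - 2*W*x^7 - x^7 - 2*W*x^6 - x^6 - 2*W*x^5 - x^5 - 3*W*x^4 - 2*x^4 - 3*W*x^3 - 2*x^3 - W*x^2 - x^2 + W + 1) * h2 + (-x^16 - 2*x^15 - x^14 - x^9 - 2*x^8 - 2*x^7 - x^6 - x^5 - 2*x^4 - 2*x^3 + x + 1) * hW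

theorem case_2_3_3 (x W : R) (h2 : (2:R) = 0) (hW : W^2 = W + 1)
    (hχ : x^3 + W*x^2 + (W+1)*x + 1 = 0) (h15 : x^15 = (W+1)) : (1:R) = 0 := by
  linear_combination (exp := 1) (x^14 + W*x^13 + x^13 + W*x^11 + x^11 + W*x^10 + x^9 + x^7 + W*x^6 + x^6 + W*x^5 + W*x^3 + x^2 + W*x + x) * hχ + (x^2 + x + W) * h15 + (-x^17 - W*x^16 - x^16 - 2*W*x^15 - x^15 - 2*W*x^14 - 2*x^14 - 2*W*x^13 - x^13 - 2*W*x^12 - 2*x^12 - 2*W*x^11 - x^11 - W*x^10 - x^10 - W*x^9 - x^9 - 2*W*x^8 - x^8 - 2*W*x^7 - 2*x^7 - 2*W*x^6 - x^6 - W*x^5 - x^5 - 2*W*x^4 - x^4 - 2*W*x^3 - x^3 - W*x^2 - x^2 + W + 1) * h2 + (-x^15 - x^14 - x^13 - 2*x^12 - x^11 - x^8 - 2*x^7 - x^6 - x^5 - x^4 - x^3 - x^2 + 1) * hW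

theorem case_3_0_1 (x W : R) (h2 : (2:R) = 0) (hW : W^2 = W + 1)
    (hχ : x^3 + (W+1)*x^2 + 0*x + 1 = 0) (h15 : x^15 = 1) : (1:R) = 0 := by
  linear_combination (exp := 1) (W*x^14 + x^14 + W*x^13 + x^12 + W*x^10 + W*x^7 + x^6 + W*x^5 + x^5 + x^3 + 1) * hχ + (W*x^2 + x^2) * h15 + (-W*x^17 - x^17 - 2*W*x^16 - x^16 - W*x^15 - x^15 - W*x^14 - x^14 - W*x^13 - W*x^12 - x^12 - W*x^10 - W*x^9 - x^9 - W*x^8 - x^8 - 2*W*x^7 - x^7 - x^6 - W*x^5 - x^5 - x^3) * h2 + (-x^16 - x^15 - x^12 - x^9 - x^7) * hW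

theorem case_3_0_2 (x W : R) (h2 : (2:R) = 0) (hW : W^2 = W + 1)
    (hχ : x^3 + (W+1)*x^2 + 0*x + 1 = 0) (h15 : x^15 = W) : (1:R) = 0 := by
  linear_combination (exp := 1) (x^14 + x^13 + x^12 + W*x^11 + x^9 + x^8 + W*x^7 + x^7 + W*x^6 + x^6 + W*x^5 + x^5 + x^4 + W*x^2 + x^2 + W*x + x + W) * hχ + (x^2 + W*x + W) * h15 + (-x^17 - W*x^16 - x^16 - W*x^15 - x^15 - W*x^14 - x^14 - W*x^13 - x^13 - x^12 - W*x^11 - x^11 - W*x^10 - x^10 - 2*W*x^9 - 2*x^9 - 2*W*x^8 - 2*x^8 - 2*W*x^7 - 2*x^7 - W*x^6 - x^6 - W*x^5 - x^5 - 2*W*x^4 - 2*x^4 - 2*W*x^3 - x^3 - W*x^2 - x^2 + 1) * h2 + (-x^13 - x^9 - x^8 - x^7 - x^4 - x^3 - x^2 + x + 1) * hW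

theorem case_3_0_3 (x W : R) (h2 : (2:R) = 0) (hW : W^2 = W + 1)
    (hχ : x^3 + (W+1)*x^2 + 0*x + 1 = 0) (h15 : x^15 = (W+1)) : (1:R) = 0 := by
  linear_combination (exp := 1) (W*x^14 + W*x^13 + x^13 + x^12 + x^11 + x^9 + W*x^8 + x^7 + W*x^6 + W*x^5 + x^5 + W*x^4 + x^4 + W*x^2 + x^2 + x + W + 1) * hχ + (W*x^2 + W*x + W + 1) * h15 + (-W*x^17 - 2*W*x^16 - x^16 - 2*W*x^15 - 2*x^15 - W*x^14 - x^14 - W*x^13 - x^13 - x^12 - W*x^11 - x^11 - W*x^10 - x^10 - W*x^9 - x^9 - 2*W*x^8 - x^8 - 2*W*x^7 - 2*x^7 - 2*W*x^6 - x^6 - W*x^5 - x^5 - 2*W*x^4 - 2*x^4 - W*x^3 - x^3 - W*x^2 - x^2 + W*x + W + 1) * h2 + (-x^16 - x^15 - x^10 - x^8 - x^7 - x^6 - x^4 + x + 1) * hW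

theorem case_3_1_1 (x W : R) (h2 : (2:R) = 0) (hW : W^2 = W + 1)
    (hχ : x^3 + (W+1)*x^2 + 1*x + 1 = 0) (h15 : x^15 = 1) : x^5 = (W+1) := by
  linear_combination (exp := 1) (x^2 + W*x + x + W + 1) * hχ + (0) * h15 + (-W*x^4 - x^4 - 2*W*x^3 - 2*x^3 - 2*W*x^2 - 2*x^2 - W*x - x - W - 1) * h2 + (-x^3 - x^2) * hW

theorem case_3_1_2 (x W : R) (h2 : (2:R) = 0) (hW : W^2 = W + 1)
    (hχ : x^3 + (W+1)*x^2 + 1*x + 1 = 0) (h15 : x^15 = W) : (1:R) = 0 := by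
  linear_combination (exp := 1) (W*x^12 + x^11 + x^10 + x^7 + W*x^6 + x^6 + W*x^5 + x^5 + W*x^2 + x^2 + W*x + W) * hχ + (W) * h15 + (-W*x^15 - W*x^14 - x^14 - W*x^13 - x^13 - W*x^12 - x^12 - x^11 - x^10 - W*x^9 - x^9 - 2*W*x^8 - 2*x^8 - 2*W*x^7 - 2*x^7 - W*x^6 - x^6 - W*x^5 - x^5 - 2*W*x^4 - x^4 - 2*W*x^3 - x^3 - 2*W*x^2 - x^2 - W*x + 1) * h2 + (-x^14 - x^8 - x^7 - x^4 - x^3 - x^2 + 1) * hW

theorem case_3_1_3 (x W : R) (h2 : (2:R) = 0) (hW : W^2 = W + 1)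
    (hχ : x^3 + (W+1)*x^2 + 1*x + 1 = 0) (h15 : x^15 = (W+1)) : (1:R) = 0 := by
  linear_combination (exp := 1) (W*x^12 + x^12 + W*x^11 + W*x^10 + W*x^7 + x^6 + x^5 + x^2 + W*x + x + W + 1) * hχ + (W + 1) * h15 + (-W*x^15 - x^15 - 2*W*x^14 - x^14 - 2*W*x^13 - x^13 - 2*W*x^12 - x^12 - W*x^11 - W*x^10 - W*x^9 - x^9 - W*x^8 - x^8 - W*x^7 - x^7 - x^6 - x^5 - W*x^4 - x^4 - 2*W*x^3 - 2*x^3 - 2*W*x^2 - 2*x^2 - W*x - x + W + 1) * h2 + (-x^14 - x^13 - x^12 - x^9 - x^3 - x^2 + 1) * hW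

theorem case_3_2_1 (x W : R) (h2 : (2:R) = 0) (hW : W^2 = W + 1)
    (hχ : x^3 + (W+1)*x^2 + W*x + 1 = 0) (h15 : x^15 = 1) : x^3 = 1 := by
  linear_combination (exp := 1) (x^15 + x^12 + W*x^11 + x^11 + W*x^8 + x^8 + W*x^7 + W*x^4 + x^3 + 1) * hχ + (x^3 + W*x^2 + x^2 + W*x) * h15 + (-x^18 - W*x^17 - x^17 - W*x^16 - x^15 - W*x^14 - x^14 - 2*W*x^13 - x^13 - W*x^12 - x^12 - W*x^11 - x^11 - 2*W*x^10 - x^10 - 2*W*x^9 - x^9 - W*x^8 - x^8 - W*x^7 - W*x^6 - x^6 - W*x^5 - x^5 - W*x^4 - 1) * h2 + (-x^13 - x^12 - x^10 - 2*x^9 - x^8 - x^6 - x^5) * hW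

theorem case_3_2_2 (x W : R) (h2 : (2:R) = 0) (hW : W^2 = W + 1)
    (hχ : x^3 + (W+1)*x^2 + W*x + 1 = 0) (h15 : x^15 = W) : (1:R) = 0 := by
  linear_combination (exp := 1) (x^14 + W*x^13 + W*x^11 + W*x^10 + x^10 + x^9 + x^7 + W*x^6 + W*x^5 + x^5 + W*x^3 + x^3 + x^2 + W*x) * hχ + (x^2 + x + W + 1) * h15 + (-x^17 - W*x^16 - x^16 - 2*W*x^15 - x^15 - W*x^14 - x^14 - 2*W*x^13 - x^13 - 2*W*x^12 - 2*x^12 - 2*W*x^11 - x^11 - W*x^10 - x^10 - W*x^9 - x^9 - 2*W*x^8 - x^8 - 2*W*x^7 - 2*x^7 - 2*W*x^6 - x^6 - 2*W*x^5 - 2*x^5 - 2*W*x^4 - x^4 - 2*W*x^3 - x^3 - x^2 + W + 1) * h2 + (-x^15 - x^14 - x^13 - 2*x^12 - x^11 - x^8 - 2*x^7 - x^6 - x^5 - x^4 - x^3 - x^2 + 1) * hW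

theorem case_3_2_3 (x W : R) (h2 : (2:R) = 0) (hW : W^2 = W + 1)
    (hχ : x^3 + (W+1)*x^2 + W*x + 1 = 0) (h15 : x^15 = (W+1)) : (1:R) = 0 := by
  linear_combination (exp := 1) (W*x^14 + W*x^13 + x^11 + x^10 + x^9 + W*x^7 + x^7 + W*x^6 + x^6 + W*x^5 + x^5 + W*x^3 + W*x^2 + W*x) * hχ + (W*x^2 + W*x + x + W) * h15 + (-W*x^17 - 2*W*x^16 - x^16 - 2*W*x^15 - x^15 - W*x^14 - x^14 - W*x^13 - x^13 - W*x^12 - x^12 - W*x^11 - x^11 - W*x^10 - x^10 - 2*W*x^9 - 2*x^9 - 3*W*x^8 - 2*x^8 - 3*W*x^7 - 2*x^7 - 2*W*x^6 - x^6 - 2*W*x^5 - x^5 - 2*W*x^4 - x^4 - 2*W*x^3 - x^3 + W*x + x + W + 1) * h2 + (-x^16 - 2*x^15 - x^14 - x^9 - 2*x^8 - 2*x^7 - x^6 - x^5 - 2*x^4 - 2*x^3 + x + 1) * hW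

theorem case_3_3_1 (x W : R) (h2 : (2:R) = 0) (hW : W^2 = W + 1)
    (hχ : x^3 + (W+1)*x^2 + (W+1)*x + 1 = 0) (h15 : x^15 = 1) : x^5 = 1 := by
  linear_combination (exp := 1) (x^2 + W*x + x + 1) * hχ + (0) * h15 + (-W*x^4 - x^4 - 2*W*x^3 - 2*x^3 - 2*W*x^2 - 2*x^2 - W*x - x - 1) * h2 + (-x^3 - x^2) * hW

theorem case_3_3_2 (x W : R) (h2 : (2:R) = 0) (hW : W^2 = W + 1)
    (hχ : x^3 + (W+1)*x^2 + (W+1)*x + 1 = 0) (h15 : x^15 = W) : (1:R) = 0 := by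
  linear_combination (exp := 1) (W*x^12 + x^11 + W*x^10 + W*x^7 + x^6 + W*x^5 + W*x^2 + x + W) * hχ + (W) * h15 + (-W*x^15 - W*x^14 - x^14 - 2*W*x^13 - x^13 - 2*W*x^12 - x^12 - W*x^11 - x^11 - W*x^10 - W*x^9 - x^9 - 2*W*x^8 - x^8 - 2*W*x^7 - x^7 - W*x^6 - x^6 - W*x^5 - W*x^4 - x^4 - 2*W*x^3 - x^3 - 2*W*x^2 - x^2 - W*x - x + 1) * h2 + (-x^14 - x^13 - x^12 - x^11 - x^9 - x^8 - x^7 - x^6 - x^4 - x^3 - x^2 - x + 1) * hW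

theorem case_3_3_3 (x W : R) (h2 : (2:R) = 0) (hW : W^2 = W + 1)
    (hχ : x^3 + (W+1)*x^2 + (W+1)*x + 1 = 0) (h15 : x^15 = (W+1)) : (1:R) = 0 := by
  linear_combination (exp := 1) (W*x^12 + x^12 + W*x^11 + W*x^10 + x^10 + W*x^7 + x^7 + W*x^6 + W*x^5 + x^5 + W*x^2 + x^2 + W*x + W + 1) * hχ + (W + 1) * h15 + (-W*x^15 - x^15 - 2*W*x^14 - x^14 - 3*W*x^13 - 2*x^13 - 3*W*x^12 - 2*x^12 - 2*W*x^11 - x^11 - W*x^10 - x^10 - 2*W*x^9 - x^9 - 3*W*x^8 - 2*x^8 - 3*W*x^7 - 2*x^7 - 2*W*x^6 - x^6 - W*x^5 - x^5 - 2*W*x^4 - x^4 - 3*W*x^3 - 2*x^3 - 3*W*x^2 - 2*x^2 - 2*W*x - x + W + 1) * h2 + (-x^14 - 2*x^13 - 2*x^12 - x^11 - x^9 - 2*x^8 - 2*x^7 - x^6 - x^4 - 2*x^3 - 2*x^2 - x + 1) * hW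


theorem keyR (x W a b ω : R) (h2 : (2:R) = 0) (hW : W^2 = W + 1)
    (ha : a = 0 ∨ a = 1 ∨ a = W ∨ a = W + 1) (hb : b = 0 ∨ b = 1 ∨ b = W ∨ b = W + 1)
    (hω : ω = 1 ∨ ω = W ∨ ω = W + 1)
    (hχ : x^3 + a*x^2 + b*x + 1 = 0) (h15 : x^15 = ω) :
    (1:R) = 0 ∨ (x^3 = 1 ∨ x^3 = W ∨ x^3 = (W+1)) ∨ (x^5 = 1 ∨ x^5 = W ∨ x^5 = (W+1)) := by
  rcases ha with ha | ha | ha | ha <;> rcases hb with hb | hb | hb | hb <;>
    rcases hω with hω | hω | hω <;> rw [ha, hb] at hχ <;> rw [hω] at h15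
  · exact Or.inr (Or.inl (Or.inl (case_0_0_1 x W h2 hW hχ h15)))
  · exact Or.inl (case_0_0_2 x W h2 hW hχ h15)
  · exact Or.inl (case_0_0_3 x W h2 hW hχ h15)
  · exact Or.inl (case_0_1_1 x W h2 hW hχ h15)
  · exact Or.inl (case_0_1_2 x W h2 hW hχ h15)
  · exact Or.inl (case_0_1_3 x W h2 hW hχ h15)
  · exact Or.inl (case_0_2_1 x W h2 hW hχ h15)
  · exact Or.inl (case_0_2_2 x W h2 hW hχ h15)
  · exact Or.inl (case_0_2_3 x W h2 hW hχ h15)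
  · exact Or.inl (case_0_3_1 x W h2 hW hχ h15)
  · exact Or.inl (case_0_3_2 x W h2 hW hχ h15)
  · exact Or.inl (case_0_3_3 x W h2 hW hχ h15)
  · exact Or.inl (case_1_0_1 x W h2 hW hχ h15)
  · exact Or.inl (case_1_0_2 x W h2 hW hχ h15)
  · exact Or.inl (case_1_0_3 x W h2 hW hχ h15)
  · exact Or.inr (Or.inl (Or.inl (case_1_1_1 x W h2 hW hχ h15)))
  · exact Or.inl (case_1_1_2 x W h2 hW hχ h15)
  · exact Or.inl (case_1_1_3 x W h2 hW hχ h15)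
  · exact Or.inr (Or.inr (Or.inr (Or.inr (case_1_2_1 x W h2 hW hχ h15))))
  · exact Or.inl (case_1_2_2 x W h2 hW hχ h15)
  · exact Or.inl (case_1_2_3 x W h2 hW hχ h15)
  · exact Or.inr (Or.inr (Or.inr (Or.inl (case_1_3_1 x W h2 hW hχ h15))))
  · exact Or.inl (case_1_3_2 x W h2 hW hχ h15)
  · exact Or.inl (case_1_3_3 x W h2 hW hχ h15)
  · exact Or.inl (case_2_0_1 x W h2 hW hχ h15)
  · exact Or.inl (case_2_0_2 x W h2 hW hχ h15)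
  · exact Or.inl (case_2_0_3 x W h2 hW hχ h15)
  · exact Or.inr (Or.inr (Or.inr (Or.inl (case_2_1_1 x W h2 hW hχ h15))))
  · exact Or.inl (case_2_1_2 x W h2 hW hχ h15)
  · exact Or.inl (case_2_1_3 x W h2 hW hχ h15)
  · exact Or.inr (Or.inr (Or.inl (case_2_2_1 x W h2 hW hχ h15)))
  · exact Or.inl (case_2_2_2 x W h2 hW hχ h15)
  · exact Or.inl (case_2_2_3 x W h2 hW hχ h15)
  · exact Or.inr (Or.inl (Or.inl (case_2_3_1 x W h2 hW hχ h15)))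
  · exact Or.inl (case_2_3_2 x W h2 hW hχ h15)
  · exact Or.inl (case_2_3_3 x W h2 hW hχ h15)
  · exact Or.inl (case_3_0_1 x W h2 hW hχ h15)
  · exact Or.inl (case_3_0_2 x W h2 hW hχ h15)
  · exact Or.inl (case_3_0_3 x W h2 hW hχ h15)
  · exact Or.inr (Or.inr (Or.inr (Or.inr (case_3_1_1 x W h2 hW hχ h15))))
  · exact Or.inl (case_3_1_2 x W h2 hW hχ h15)
  · exact Or.inl (case_3_1_3 x W h2 hW hχ h15)
  · exact Or.inr (Or.inl (Or.inl (case_3_2_1 x W h2 hW hχ h15)))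
  · exact Or.inl (case_3_2_2 x W h2 hW hχ h15)
  · exact Or.inl (case_3_2_3 x W h2 hW hχ h15)
  · exact Or.inr (Or.inr (Or.inl (case_3_3_1 x W h2 hW hχ h15)))
  · exact Or.inl (case_3_3_2 x W h2 hW hχ h15)
  · exact Or.inl (case_3_3_3 x W h2 hW hχ h15)

end cases

theorem f4_facts {F : Type*} [Field F] [Fintype F] (hF : Fintype.card F = 4) :
    (2:F) = 0 ∧ ∃ w : F, w^2 = w + 1 ∧ ∀ y : F, y = 0 ∨ y = 1 ∨ y = w ∨ y = w + 1 := by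
  classical
  have h4 : (4 : F) = 0 := by
    have := Nat.cast_card_eq_zero F
    rw [hF] at this
    exact_mod_cast this
  have h2 : (2 : F) = 0 := by
    have : (2 : F) * 2 = 0 := by rw [← h4]; norm_num
    exact mul_self_eq_zero.mp this
  refine ⟨h2, ?_⟩
  have hlt : ({0, 1} : Finset F).card < (Finset.univ : Finset F).card := by
    rw [Finset.card_univ, hF]
    exact lt_of_le_of_lt (Finset.card_le_two) (by norm_num)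
  obtain ⟨w, -, hw⟩ := Finset.exists_mem_notMem_of_card_lt_card hlt
  have hw0 : w ≠ 0 := fun h => hw (by rw [h]; simp)
  have hw1 : w ≠ 1 := fun h => hw (by rw [h]; simp)
  have hw3 : w ^ 3 = 1 := by
    have := FiniteField.pow_card_sub_one_eq_one w hw0
    rwa [hF] at this
  have hprod : (w - 1) * (w^2 + w + 1) = 0 := by linear_combination hw3
  have hq : w^2 + w + 1 = 0 := by
    rcases mul_eq_zero.mp hprod with h | h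
    · exact absurd (sub_eq_zero.mp h) hw1
    · exact h
  have hwsq : w^2 = w + 1 := by linear_combination hq - (w + 1) * h2
  refine ⟨w, hwsq, ?_⟩
  have hne1 : w ≠ w + 1 := fun h => one_ne_zero (α := F) (by linear_combination -h)
  have hne2 : (1 : F) ≠ w + 1 := fun h => hw0 (by linear_combination -h)
  have hne3 : (0 : F) ≠ w + 1 := fun h => hw1 (by linear_combination -h - h2)
  have hS : ({0, 1, w, w + 1} : Finset F).card = 4 := by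
    rw [Finset.card_insert_of_notMem, Finset.card_insert_of_notMem, Finset.card_insert_of_notMem,
      Finset.card_singleton]
    · simpa using hne1
    · simp only [Finset.mem_insert, Finset.mem_singleton, not_or]
      exact ⟨fun h => hw1 h.symm, hne2⟩
    · simp only [Finset.mem_insert, Finset.mem_singleton, not_or]
      exact ⟨zero_ne_one, fun h => hw0 h.symm, hne3⟩
  have hSu : ({0, 1, w, w + 1} : Finset F) = Finset.univ :=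
    Finset.eq_univ_of_card _ (hS.trans hF.symm)
  intro y
  have hy : y ∈ ({0, 1, w, w + 1} : Finset F) := by rw [hSu]; exact Finset.mem_univ y
  simpa using hy

open Polynomial in
theorem matrix_key {F : Type*} [Field F] [Fintype F] (hF : Fintype.card F = 4)
    (M : Matrix (Fin 3) (Fin 3) F) (hdet : M.det = 1) (ω : F) (hω0 : ω ≠ 0)
    (h15 : M ^ 15 = Matrix.scalar (Fin 3) ω) :
    (∃ c : F, M ^ 3 = Matrix.scalar (Fin 3) c) ∨ (∃ c : F, M ^ 5 = Matrix.scalar (Fin 3) c) := by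
  obtain ⟨h2, w, hw, hall⟩ := f4_facts hF
  have hmonic : M.charpoly.Monic := Matrix.charpoly_monic M
  have hdeg : M.charpoly.natDegree = 3 := by
    rw [Matrix.charpoly_natDegree_eq_dim]; simp
  have hneg : (-1 : F) = 1 := by linear_combination -h2
  have hc0 : M.charpoly.coeff 0 = 1 := by
    have h := Matrix.det_eq_sign_charpoly_coeff M
    rw [hdet, hneg] at h
    simpa using h.symm
  have hc3 : M.charpoly.coeff 3 = 1 := by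
    have := hmonic.coeff_natDegree
    rwa [hdeg] at this
  have hCH : aeval M M.charpoly = 0 := Matrix.aeval_self_charpoly M
  obtain ⟨a, ha⟩ : ∃ a, a = M.charpoly.coeff 2 := ⟨_, rfl⟩
  obtain ⟨b, hb⟩ : ∃ b, b = M.charpoly.coeff 1 := ⟨_, rfl⟩
  have hχeq : M.charpoly = X^3 + C a * X^2 + C b * X + 1 := by
    have h := M.charpoly.as_sum_range_C_mul_X_pow
    rw [hdeg] at h
    simp only [Finset.sum_range_succ, Finset.sum_range_zero] at h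
    rw [hc3, hc0, ← ha, ← hb] at h
    rw [h]
    simp only [map_one, pow_zero, pow_one]
    ring
  let I : Ideal F[X] := RingHom.ker (aeval M : F[X] →ₐ[F] Matrix (Fin 3) (Fin 3) F)
  let φ : F →+* (F[X] ⧸ I) := (Ideal.Quotient.mk I).comp C
  have back : ∀ (k : ℕ) (c : F), (Ideal.Quotient.mk I X) ^ k = φ c → M ^ k = Matrix.scalar (Fin 3) c := by
    intro k c h
    have h1 : Ideal.Quotient.mk I (X ^ k) = Ideal.Quotient.mk I (C c) := by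
      rw [map_pow]; exact h
    rw [Ideal.Quotient.eq, RingHom.mem_ker, map_sub, map_pow, aeval_X, aeval_C, sub_eq_zero] at h1
    rw [h1]
    rfl
  have hχR : (Ideal.Quotient.mk I X) ^ 3 + φ a * (Ideal.Quotient.mk I X) ^ 2 +
      φ b * (Ideal.Quotient.mk I X) + 1 = 0 := by
    have hmem : M.charpoly ∈ I := RingHom.mem_ker.mpr hCH
    have h := Ideal.Quotient.eq_zero_iff_mem.mpr hmem
    rw [hχeq] at h
    simp only [map_add, map_mul, map_pow, map_one] at h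
    exact h
  have h15R : (Ideal.Quotient.mk I X) ^ 15 = φ ω := by
    have hmem : X ^ 15 - C ω ∈ I := by
      rw [RingHom.mem_ker, map_sub, map_pow, aeval_X, aeval_C, h15, sub_eq_zero]
      rfl
    have h := Ideal.Quotient.eq.mpr hmem
    rw [map_pow] at h
    exact h
  have h2R : (2 : F[X] ⧸ I) = 0 := by rw [← map_ofNat φ 2, h2, map_zero]
  have hWR : (φ w) ^ 2 = φ w + 1 := by rw [← map_pow, hw, map_add, map_one]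
  have hmap : ∀ y : F, φ y = 0 ∨ φ y = 1 ∨ φ y = φ w ∨ φ y = φ w + 1 := by
    intro y
    rcases hall y with h | h | h | h
    · exact Or.inl (by rw [h, map_zero])
    · exact Or.inr (Or.inl (by rw [h, map_one]))
    · exact Or.inr (Or.inr (Or.inl (by rw [h])))
    · exact Or.inr (Or.inr (Or.inr (by rw [h, map_add, map_one])))
  have hΩ : φ ω = 1 ∨ φ ω = φ w ∨ φ ω = φ w + 1 := by
    rcases hall ω with h | h | h | h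
    · exact absurd h hω0
    · exact Or.inl (by rw [h, map_one])
    · exact Or.inr (Or.inl (by rw [h]))
    · exact Or.inr (Or.inr (by rw [h, map_add, map_one]))
  have hW1 : φ w + 1 = φ (w + 1) := by rw [map_add, map_one]
  rcases keyR (Ideal.Quotient.mk I X) (φ w) (φ a) (φ b) (φ ω) h2R hWR (hmap a) (hmap b) hΩ hχR h15R
    with h | h | h
  · exfalso
    have h1 : Ideal.Quotient.mk I (1 : F[X]) = 0 := by rw [map_one]; exact h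
    rw [Ideal.Quotient.eq_zero_iff_mem, RingHom.mem_ker, map_one] at h1
    exact one_ne_zero h1
  · left
    rcases h with h | h | h
    · exact ⟨1, back 3 1 (by rw [map_one]; exact h)⟩
    · exact ⟨w, back 3 w h⟩
    · exact ⟨w + 1, back 3 (w + 1) (by rw [← hW1]; exact h)⟩
  · right
    rcases h with h | h | h
    · exact ⟨1, back 5 1 (by rw [map_one]; exact h)⟩
    · exact ⟨w, back 5 w h⟩
    · exact ⟨w + 1, back 5 (w + 1) (by rw [← hW1]; exact h)⟩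

/-- No element of PSL_3(4) has order 15. -/
theorem result {F : Type*} [Field F] [Fintype F] (hF : Fintype.card F = 4) (g : Matrix.ProjectiveSpecialLinearGroup (Fin 3) F) : orderOf g ≠ 15 := by
  intro hord
  obtain ⟨A, rfl⟩ := QuotientGroup.mk_surjective g
  have h15 : (A : Matrix.ProjectiveSpecialLinearGroup (Fin 3) F) ^ 15 = 1 := by
    rw [← hord]; exact pow_orderOf_eq_one _
  have h5 : (A : Matrix.ProjectiveSpecialLinearGroup (Fin 3) F) ^ 5 ≠ 1 := fun h => by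
    have := orderOf_dvd_of_pow_eq_one h
    rw [hord] at this
    omega
  have h3 : (A : Matrix.ProjectiveSpecialLinearGroup (Fin 3) F) ^ 3 ≠ 1 := fun h => by
    have := orderOf_dvd_of_pow_eq_one h
    rw [hord] at this
    omega
  rw [← QuotientGroup.mk_pow, Ne, QuotientGroup.eq_one_iff] at h5 h3
  rw [← QuotientGroup.mk_pow, QuotientGroup.eq_one_iff] at h15
  obtain ⟨ω, hω3, hωA⟩ := Matrix.SpecialLinearGroup.mem_center_iff.mp h15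
  have hω0 : ω ≠ 0 := by
    intro h
    rw [h] at hω3
    simp at hω3
  have hM15 : (A : Matrix (Fin 3) (Fin 3) F) ^ 15 = Matrix.scalar (Fin 3) ω := by
    rw [hωA, Matrix.SpecialLinearGroup.coe_pow]
  have hscal : ∀ (k : ℕ) (c : F), (A : Matrix (Fin 3) (Fin 3) F) ^ k = Matrix.scalar (Fin 3) c →
      A ^ k ∈ Subgroup.center (Matrix.SpecialLinearGroup (Fin 3) F) := by
    intro k c h
    rw [Matrix.SpecialLinearGroup.mem_center_iff]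
    refine ⟨c, ?_, ?_⟩
    · have hd : ((A ^ k : Matrix.SpecialLinearGroup (Fin 3) F) : Matrix (Fin 3) (Fin 3) F).det = 1 :=
        (A ^ k).2
      rw [Matrix.SpecialLinearGroup.coe_pow, h] at hd
      simpa using hd
    · rw [Matrix.SpecialLinearGroup.coe_pow, h]
  rcases matrix_key hF (A : Matrix (Fin 3) (Fin 3) F) A.2 ω hω0 hM15 with ⟨c, hc⟩ | ⟨c, hc⟩
  · exact h3 (hscal 3 c hc)
  · exact h5 (hscal 5 c hc)

end Cfsg.Agent.S0819
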