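import Cfsg.Statements.S0821
import Mathlib
import Cfsg.Agent.S2235
import Cfsg.Agent.Lib.Helper19.SpTwoRank
import Cfsg.Agent.Lib.Helper19.OrthPOmegaCard
import Cfsg.Agent.Lib.Helper19.OrthSpinor
import Cfsg.Agent.Lib.Helper19.OrthNegOne
import Cfsg.Agent.Lib.Helper19.QuadStd
import Cfsg.Agent.Lib.Helper19.OrthHyp

set_option autoImplicit false
open Cfsg

namespace Cfsg.Agent.S0821

open Cfsg.Agent.Lib.Helper19.QuadStd Cfsg.Agent.Lib.Helper19.SpTwoRank

/-- The preimage in `G` of a subgroup of `G ⧸ Z(G)` has order `|E| * |Z(G)|`. -/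
theorem card_comap_center {G : Type*} [Group G] [Finite G] (E : Subgroup (G ⧸ Subgroup.center G)) :
    Nat.card (E.comap (QuotientGroup.mk' (Subgroup.center G)))
      = Nat.card E * Nat.card (Subgroup.center G) := by
  have h1 := Subgroup.card_mul_index (E.comap (QuotientGroup.mk' (Subgroup.center G)))
  have h2 := Subgroup.card_mul_index E
  have h3 := Subgroup.card_eq_card_quotient_mul_card_subgroup (Subgroup.center G)
  rw [Subgroup.index_comap_of_surjective E (QuotientGroup.mk'_surjective _)] at h1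
  have hpos : 0 < E.index := Nat.pos_of_ne_zero Subgroup.index_ne_zero_of_finite
  have : Nat.card (E.comap (QuotientGroup.mk' (Subgroup.center G))) * E.index
      = (Nat.card E * Nat.card (Subgroup.center G)) * E.index := by
    rw [h1, h3, ← h2]; ring
  exact Nat.eq_of_mul_eq_mul_right hpos this

theorem center_Omega_stdOdd {F : Type*} [Field F] [Fintype F] (h2 : (2 : F) ≠ 0) (m : ℕ)
    (hm : 2 ≤ m) :
    Subgroup.center ↥(Cfsg.Omega F (Cfsg.quadFormOdd m F)) = ⊥ := by
  classical
  have hcard : Fintype.card (Unit ⊕ (Fin m ⊕ Fin m)) = 2 * m + 1 := by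
    rw [Fintype.card_sum, Fintype.card_sum, Fintype.card_fin, Fintype.card_unit]; omega
  rw [← coe_stdOdd]
  rw [eq_bot_iff]
  intro z hz
  rw [Subgroup.mem_bot]
  have hQ := stdOdd_nondeg (F := F) m h2
  rcases Cfsg.Agent.Lib.Helper19.OrthRefl.center_Omega_odd h2 (stdOdd m F) hQ
    (by rw [hcard]; omega) z hz with h | h
  · apply Subtype.ext
    exact h
  · exfalso
    have hmem : Cfsg.Agent.Lib.Helper19.OrthRefl.negOne (stdOdd m F) ∈ Cfsg.Omega F ⇑(stdOdd m F) := by
      rw [← h]; exact z.2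
    rw [Cfsg.Agent.Lib.Helper19.OrthRefl.mem_Omega_iff h2 (stdOdd m F) hQ (by rw [hcard]; omega) 1
      one_ne_zero] at hmem
    have hdet := hmem.1
    rw [Cfsg.Agent.Lib.Helper19.OrthRefl.negOne_coe, Matrix.det_neg, Matrix.det_one, mul_one, hcard,
      Odd.neg_one_pow ⟨m, rfl⟩] at hdet
    apply h2
    have : (2 : F) = 1 - (-1) := by norm_num
    rw [this, hdet, sub_self]

/-- PSp_2m(q) ≇ PΩ_(2m+1)(q) for q odd and m ≥ 3 (they have the same order). -/
theorem result {F : Type*} [Field F] [Fintype F] (hodd : Odd (Fintype.card F)) (m : ℕ) (hm : 3 ≤ m) : IsEmpty (Cfsg.PSp m F ≃* Cfsg.POmega F (Cfsg.quadFormOdd m F)) := by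
  classical
  refine ⟨fun e => ?_⟩
  have h2 : (2 : F) ≠ 0 := Cfsg.Agent.Lib.Helper19.OrthRefl.two_ne_zero_of_odd_card hodd
  obtain ⟨A, hAc, hA2, hAcard⟩ := (Cfsg.Agent.S2235.result hodd m (by omega)).1
  have hcen := center_Omega_stdOdd h2 m (by omega)
  have hπinj : Function.Injective
      (QuotientGroup.mk' (Subgroup.center ↥(Cfsg.Omega F (Cfsg.quadFormOdd m F)))) := by
    rw [← MonoidHom.ker_eq_bot_iff, QuotientGroup.ker_mk', hcen]
  obtain ⟨f, hf⟩ : ∃ f : ↥(Cfsg.Omega F (Cfsg.quadFormOdd m F)) →* Cfsg.PSp m F,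
      f = e.symm.toMonoidHom.comp
        (QuotientGroup.mk' (Subgroup.center ↥(Cfsg.Omega F (Cfsg.quadFormOdd m F)))) := ⟨_, rfl⟩
  have hfinj : Function.Injective f := by
    rw [hf]
    exact e.symm.injective.comp hπinj
  have hEcard : Nat.card (A.map f) = Nat.card A :=
    (Nat.card_congr (A.equivMapOfInjective f hfinj).toEquiv).symm
  haveI : Finite (Matrix.symplecticGroup (Fin m) F) :=
    Finite.of_injective (fun a => (a.1 : Matrix (Fin m ⊕ Fin m) (Fin m ⊕ Fin m) F))
      (fun a b h => Subtype.ext h)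
  have hcomm : ∀ x ∈ A.map f, ∀ y ∈ A.map f, x * y = y * x := by
    rintro _ ⟨a, ha, rfl⟩ _ ⟨b, hb, rfl⟩
    rw [← map_mul, ← map_mul]
    congr 1
    have := hAc.is_comm.comm (⟨a, ha⟩ : ↥A) ⟨b, hb⟩
    exact congrArg Subtype.val this
  have hsq : ∀ x ∈ A.map f, x * x = 1 := by
    rintro _ ⟨a, ha, rfl⟩
    rw [← map_mul, ← pow_two, hA2 a ha, map_one]
  have hlt := card_lt (F := F) h2 hm
    ((A.map f).comap (QuotientGroup.mk' (Subgroup.center (Matrix.symplecticGroup (Fin m) F))))
    (by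
      intro c hc
      rw [Subgroup.mem_comap]
      have : QuotientGroup.mk' (Subgroup.center (Matrix.symplecticGroup (Fin m) F)) c = 1 :=
        (QuotientGroup.eq_one_iff c).2 hc
      rw [this]
      exact one_mem _)
    (by
      intro x hx y hy
      rw [Subgroup.mem_comap] at hx hy
      rw [← QuotientGroup.eq_one_iff]
      have h := hcomm _ hx _ hy
      change ((QuotientGroup.mk' _) ((y * x)⁻¹ * (x * y))) = 1
      rw [map_mul, map_inv, map_mul, map_mul, h, inv_mul_cancel])
    (by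
      intro x hx
      rw [Subgroup.mem_comap] at hx
      rw [← QuotientGroup.eq_one_iff]
      change ((QuotientGroup.mk' _) (x * x)) = 1
      rw [map_mul]
      exact hsq _ hx)
  rw [card_comap_center, hEcard] at hlt
  have hc2 : 2 ≤ Nat.card (Subgroup.center (Matrix.symplecticGroup (Fin m) F)) := by
    have : (1 : ↥(Subgroup.center (Matrix.symplecticGroup (Fin m) F))) ≠
        ⟨negOneSp m F, negOneSp_mem_center⟩ := by
      intro h
      exact negOneSp_ne_one h2 (by omega) (congrArg Subtype.val h).symm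
    have hnt : Nontrivial ↥(Subgroup.center (Matrix.symplecticGroup (Fin m) F)) := ⟨⟨_, _, this⟩⟩
    exact Finite.one_lt_card
  have : 2 ^ (2 * m + 1) ≤ Nat.card ↥A *
      Nat.card (Subgroup.center (Matrix.symplecticGroup (Fin m) F)) := by
    rw [pow_succ]
    exact Nat.mul_le_mul hAcard hc2
  omega

end Cfsg.Agent.S0821
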