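import Cfsg.Statements.S0824
import Mathlib

set_option autoImplicit false
set_option synthInstance.maxHeartbeats 400000
set_option synthInstance.maxSize 4096
open Cfsg

namespace Cfsg.Agent.S0824

/-- the prime field. -/
abbrev K := ZMod 2
/-- the index type. -/
abbrev I4 := (Fin 1 ⊕ Fin 1) ⊕ Fin 2
/-- the space. -/
abbrev V := I4 → K

/-- the quadratic form. -/
def Q (v : V) : K := quadFormMinus 1 K 1 1 v

/-- the dual vector with respect to the polar form. -/
def dual (v : V) : V := fun j => match j with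
  | .inl (.inl _) => v (.inl (.inr 0))
  | .inl (.inr _) => v (.inl (.inl 0))
  | .inr 0 => v (.inr 1)
  | .inr 1 => v (.inr 0)

/-- the orthogonal transvection. -/
def rfx (v : V) : Matrix I4 I4 K := fun i j => (if i = j then 1 else 0) + v i * dual v j

set_option maxRecDepth 100000 in
theorem rfx_isom : ∀ v : V, Q v = 1 → ∀ z : V, Q (Matrix.mulVec (rfx v) z) = Q z := by
  unfold Q quadFormMinus
  decide

set_option maxRecDepth 100000 in
theorem rfx_invol : ∀ v : V, rfx v * rfx v = 1 := by
  decide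

instance : DecidablePred (fun v : V => Q v = 0) := fun v => by
  unfold Q quadFormMinus; infer_instance

instance : DecidablePred (fun v : V => Q v = 1) := fun v => by
  unfold Q quadFormMinus; infer_instance

/-- singular nonzero vectors. -/
def sing (v : V) : Prop := v ≠ 0 ∧ Q v = 0

instance : DecidablePred sing := fun v => by
  unfold sing; infer_instance

/-- the singular vectors. -/
abbrev Om := {v : V // sing v}

set_option maxRecDepth 100000 in
theorem card_Om : Fintype.card Om = 5 := by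
  decide

set_option maxRecDepth 100000 in
theorem swap_fact1 : ∀ u w : V, sing u → sing w → u ≠ w → Q (u + w) = 1 := by
  decide

set_option maxRecDepth 100000 in
theorem swap_fact2 : ∀ u w : V, sing u → sing w → u ≠ w →
    Matrix.mulVec (rfx (u + w)) u = w := by
  decide

set_option maxRecDepth 100000 in
theorem swap_fact3 : ∀ u w z : V, sing u → sing w → sing z → u ≠ w → z ≠ u → z ≠ w →
    Matrix.mulVec (rfx (u + w)) z = z := by
  decide

/-- the basis vectors are sums of singular vectors. -/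
def w0 : V := Pi.single (.inl (.inl 0)) 1
/-- second singular vector. -/
def w1 : V := Pi.single (.inl (.inr 0)) 1
/-- third singular vector. -/
def w2 : V := fun j => match j with
  | .inl _ => 1
  | .inr 0 => 1
  | .inr 1 => 0
/-- fourth singular vector. -/
def w3 : V := fun j => match j with
  | .inl _ => 1
  | .inr 0 => 0
  | .inr 1 => 1

set_option maxRecDepth 100000 in
theorem w_facts : sing w0 ∧ sing w1 ∧ sing w2 ∧ sing w3 ∧
    (Pi.single (.inr 0) 1 : V) = w2 + w0 + w1 ∧ (Pi.single (.inr 1) 1 : V) = w3 + w0 + w1 := by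
  decide


open Matrix

/-- the isometry group over the prime field. -/
abbrev HK : Subgroup (GL I4 K) := isometryGroup K (quadFormMinus 1 K 1 1)

theorem mem_HK (g : GL I4 K) : g ∈ HK ↔ ∀ u : V, Q ((g : Matrix I4 I4 K) *ᵥ u) = Q u := by
  constructor
  · intro h u
    exact h u u
  · intro h u _
    exact h u

theorem mulVec_ne_zero (g : GL I4 K) {v : V} (hv : v ≠ 0) : (g : Matrix I4 I4 K) *ᵥ v ≠ 0 := by
  intro h
  apply hv
  have : ((g⁻¹ : GL I4 K) : Matrix I4 I4 K) *ᵥ ((g : Matrix I4 I4 K) *ᵥ v) = v := by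
    rw [Matrix.mulVec_mulVec, ← Units.val_mul, inv_mul_cancel, Units.val_one, Matrix.one_mulVec]
  rw [← this, h, Matrix.mulVec_zero]

instance : MulAction HK Om where
  smul g v := ⟨((g : GL I4 K) : Matrix I4 I4 K) *ᵥ v.1, mulVec_ne_zero _ v.2.1, by
    rw [(mem_HK _).1 g.2]; exact v.2.2⟩
  one_smul v := by
    apply Subtype.ext
    show ((1 : GL I4 K) : Matrix I4 I4 K) *ᵥ v.1 = v.1
    rw [Units.val_one, Matrix.one_mulVec]
  mul_smul g h v := by
    apply Subtype.ext
    show (((g : GL I4 K) * (h : GL I4 K) : GL I4 K) : Matrix I4 I4 K) *ᵥ v.1 =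
      ((g : GL I4 K) : Matrix I4 I4 K) *ᵥ (((h : GL I4 K) : Matrix I4 I4 K) *ᵥ v.1)
    rw [Matrix.mulVec_mulVec, Units.val_mul]

theorem smul_val (g : HK) (v : Om) :
    (g • v).1 = ((g : GL I4 K) : Matrix I4 I4 K) *ᵥ v.1 := rfl

/-- the permutation representation on the singular vectors. -/
def Phi : HK →* Equiv.Perm Om := MulAction.toPermHom HK Om

theorem Phi_apply (g : HK) (v : Om) : Phi g v = g • v := rfl

theorem Phi_injective : Function.Injective Phi := by
  rw [injective_iff_map_eq_one]
  intro g hg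
  have hfix : ∀ v : V, sing v → ((g : GL I4 K) : Matrix I4 I4 K) *ᵥ v = v := by
    intro v hv
    have := congrArg (fun σ : Equiv.Perm Om => (σ ⟨v, hv⟩).1) hg
    simpa [Phi_apply, smul_val] using this
  obtain ⟨h0, h1, h2, h3, e2, e3⟩ := w_facts
  have hbasis : ∀ j : I4, ((g : GL I4 K) : Matrix I4 I4 K) *ᵥ (Pi.single j 1 : V) =
      Pi.single j 1 := by
    intro j
    rcases j with (j | j) | j
    · have : j = 0 := Subsingleton.elim _ _
      subst this
      exact hfix w0 h0
    · have : j = 0 := Subsingleton.elim _ _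
      subst this
      exact hfix w1 h1
    · fin_cases j
      · show ((g : GL I4 K) : Matrix I4 I4 K) *ᵥ (Pi.single (Sum.inr 0) 1 : V) = _
        rw [e2, Matrix.mulVec_add, Matrix.mulVec_add, hfix w2 h2, hfix w0 h0, hfix w1 h1]
        exact e2.symm
      · show ((g : GL I4 K) : Matrix I4 I4 K) *ᵥ (Pi.single (Sum.inr 1) 1 : V) = _
        rw [e3, Matrix.mulVec_add, Matrix.mulVec_add, hfix w3 h3, hfix w0 h0, hfix w1 h1]
        exact e3.symm
  apply Subtype.ext
  apply Units.ext
  show ((g : GL I4 K) : Matrix I4 I4 K) = 1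
  ext i j
  have := congrFun (hbasis j) i
  rw [Matrix.mulVec_single_one] at this
  have h2 : ((g : GL I4 K) : Matrix I4 I4 K) i j = (Pi.single j 1 : V) i := this
  rw [Matrix.one_apply, h2, Pi.single_apply]

/-- the reflection as an element of the isometry group. -/
def rfxG (v : V) (hv : Q v = 1) : HK :=
  ⟨⟨rfx v, rfx v, rfx_invol v, rfx_invol v⟩, by
    rw [mem_HK]
    exact rfx_isom v hv⟩

theorem rfxG_val (v : V) (hv : Q v = 1) :
    (((rfxG v hv : HK) : GL I4 K) : Matrix I4 I4 K) = rfx v := rfl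

theorem Phi_surjective : Function.Surjective Phi := by
  rw [← MonoidHom.range_eq_top, eq_top_iff, ← Equiv.Perm.closure_isSwap, Subgroup.closure_le]
  rintro σ ⟨u, w, huw, rfl⟩
  have huw' : u.1 ≠ w.1 := fun h => huw (Subtype.ext h)
  have hQ := swap_fact1 u.1 w.1 u.2 w.2 huw'
  refine ⟨rfxG (u.1 + w.1) hQ, ?_⟩
  ext z
  rw [Phi_apply]
  by_cases hzu : z = u
  · subst hzu
    rw [Equiv.swap_apply_left, smul_val, rfxG_val]
    exact congrFun (swap_fact2 z.1 w.1 z.2 w.2 huw') _
  · by_cases hzw : z = w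
    · subst hzw
      rw [Equiv.swap_apply_right, smul_val, rfxG_val, add_comm]
      exact congrFun (swap_fact2 z.1 u.1 z.2 u.2 (Ne.symm huw')) _
    · rw [Equiv.swap_apply_of_ne_of_ne hzu hzw, smul_val, rfxG_val]
      exact congrFun (swap_fact3 u.1 w.1 z.1 u.2 w.2 z.2 huw'
        (fun h => hzu (Subtype.ext h)) (fun h => hzw (Subtype.ext h))) _

/-- the concrete isomorphism. -/
theorem nonempty_mulEquiv_K : Nonempty (HK ≃* Equiv.Perm (Fin 5)) :=
  ⟨(MulEquiv.ofBijective Phi ⟨Phi_injective, Phi_surjective⟩).trans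
    (Fintype.equivFinOfCardEq card_Om).permCongrHom⟩


section transfer

variable {F : Type*} [Field F]

theorem quad_map (φ : F ≃+* K) (w : I4 → F) :
    quadFormMinus 1 K 1 1 (φ ∘ w) = φ (quadFormMinus 1 F 1 1 w) := by
  unfold quadFormMinus
  simp [map_add, map_mul, map_pow]

/-- the general linear groups over isomorphic fields are isomorphic. -/
def glEquiv (φ : F ≃+* K) : GL I4 F ≃* GL I4 K where
  toFun := Matrix.GeneralLinearGroup.map φ.toRingHom
  invFun := Matrix.GeneralLinearGroup.map φ.symm.toRingHom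
  left_inv g := by
    apply Matrix.GeneralLinearGroup.ext
    intro i j
    simp [Matrix.GeneralLinearGroup.map_apply]
  right_inv g := by
    apply Matrix.GeneralLinearGroup.ext
    intro i j
    simp [Matrix.GeneralLinearGroup.map_apply]
  map_mul' := map_mul _

theorem glEquiv_val (φ : F ≃+* K) (g : GL I4 F) :
    ((glEquiv φ g : GL I4 K) : Matrix I4 I4 K) = (g : Matrix I4 I4 F).map φ := rfl

theorem mem_iff (φ : F ≃+* K) (g : GL I4 F) :
    g ∈ isometryGroup F (quadFormMinus 1 F 1 1) ↔ glEquiv φ g ∈ HK := by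
  have key : ∀ u : I4 → F, quadFormMinus 1 K 1 1
      (((glEquiv φ g : GL I4 K) : Matrix I4 I4 K) *ᵥ (φ ∘ u)) =
        φ (quadFormMinus 1 F 1 1 ((g : Matrix I4 I4 F) *ᵥ u)) := by
    intro u
    rw [← quad_map φ]
    congr 1
    funext i
    rw [glEquiv_val]
    exact (RingHom.map_mulVec (φ : F →+* K) _ u i).symm
  constructor
  · intro h
    rw [mem_HK]
    intro u'
    have hu : u' = φ ∘ (φ.symm ∘ u') := by
      funext i; simp
    have h1 := h (φ.symm ∘ u') (φ.symm ∘ u')
    show quadFormMinus 1 K 1 1 _ = quadFormMinus 1 K 1 1 _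
    rw [hu, key]
    have h2 : quadFormMinus 1 F 1 1 ((g : Matrix I4 I4 F) *ᵥ (φ.symm ∘ u')) =
        quadFormMinus 1 F 1 1 (φ.symm ∘ u') := h1
    rw [h2]
    exact (quad_map φ _).symm
  · intro h u _
    rw [mem_HK] at h
    have h1 := h (φ ∘ u)
    have h1' : quadFormMinus 1 K 1 1
        (((glEquiv φ g : GL I4 K) : Matrix I4 I4 K) *ᵥ (φ ∘ u)) =
          quadFormMinus 1 K 1 1 (φ ∘ u) := h1
    rw [key] at h1'
    rw [quad_map φ u] at h1'
    exact φ.injective h1'

/-- transfer to the prime field. -/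
def isoEquiv (φ : F ≃+* K) : ↥(isometryGroup F (quadFormMinus 1 F 1 1)) ≃* HK where
  toFun g := ⟨glEquiv φ g.1, (mem_iff φ g.1).1 g.2⟩
  invFun g := ⟨(glEquiv φ).symm g.1, (mem_iff φ _).2 (by
    rw [MulEquiv.apply_symm_apply]; exact g.2)⟩
  left_inv g := by
    apply Subtype.ext
    exact (glEquiv φ).symm_apply_apply g.1
  right_inv g := by
    apply Subtype.ext
    exact (glEquiv φ).apply_symm_apply g.1
  map_mul' g h := by
    apply Subtype.ext
    exact map_mul (glEquiv φ) g.1 h.1

end transfer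

/-- O⁻_4(2) ≅ S_5: the isometry group of the form x y + z_1² + z_1 z_2 + z_2² over the field with 2 elements is isomorphic to the symmetric group on 5 letters. -/
theorem result {F : Type*} [Field F] [Fintype F] (hF : Fintype.card F = 2) : Nonempty (↥(Cfsg.isometryGroup F (Cfsg.quadFormMinus 1 F 1 1)) ≃* Equiv.Perm (Fin 5)) := by
  obtain ⟨e⟩ := nonempty_mulEquiv_K
  let φ : F ≃+* K := (ZMod.ringEquivOfPrime F Nat.prime_two hF).symm
  exact ⟨(isoEquiv φ).trans e⟩

end Cfsg.Agent.S0824
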