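import Cfsg.Statements.S0826
import Mathlib
import Cfsg.Agent.Lib.Helper27.SymEmbed

set_option autoImplicit false
open Cfsg

namespace Cfsg.Agent.S0826

open Cfsg.Agent.Lib.Helper27.SymEmbed

/-- S_2n ≤ Sp_(2n−2)(2) for n ≥ 3: there is an injective homomorphism from the symmetric group on 2n letters into the symplectic group of degree 2n − 2 over the field with two elements. -/
theorem result (n : ℕ) (hn : 3 ≤ n) : ∃ f : Equiv.Perm (Fin (2 * n)) →* Matrix.symplecticGroup (Fin (n - 1)) (ZMod 2), Function.Injective f := by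
  have hcard : Fintype.card (Fin (2 * n)) = Fintype.card (Pt (n - 1)) := by
    rw [card_Pt, Fintype.card_fin]
    omega
  obtain ⟨e⟩ : Nonempty (Fin (2 * n) ≃ Pt (n - 1)) := ⟨Fintype.equivOfCardEq hcard⟩
  refine ⟨(embHom (n - 1)).comp (e.permCongrHom : Equiv.Perm (Fin (2 * n)) →* Equiv.Perm (Pt (n - 1))),
    ?_⟩
  rw [MonoidHom.coe_comp]
  exact (embHom_injective (by omega)).comp e.permCongrHom.injective

end Cfsg.Agent.S0826
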