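import Cfsg.Statements.S0827
import Mathlib
import Cfsg.Agent.Lib.Helper5.F4PSU
import Cfsg.Agent.Lib.Helper5.F4Transfer

set_option autoImplicit false
open Cfsg

namespace Cfsg.Agent.S0827

open Cfsg.Agent.Lib.Helper5.F4

/-- U_3(2) ≅ 3².Q_8: PSU_3(2) (form over the field with 4 elements) has a normal subgroup N which is elementary abelian of order 9 such that the quotient by N is isomorphic to the quaternion group of order 8. -/
theorem result {F : Type*} [Field F] [Fintype F] (hF : Fintype.card F = 4) : ∃ (N : Subgroup (Cfsg.PSU 3 F 2)) (_ : N.Normal), Nat.card N = 9 ∧ (∀ x ∈ N, x ^ 3 = 1) ∧ Nonempty (Cfsg.PSU 3 F 2 ⧸ N ≃* QuaternionGroup 2) := by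
  classical
  let ρ : F ≃+* F4c := FiniteField.ringEquivOfCardEq (K := F) (K' := F4c) (by rw [hF, F4c.card_eq])
  let ψ : Cfsg.PSU 3 F 2 ≃* Cfsg.PSU 3 F4c 2 := psuMapEquiv ρ 3 2
  obtain ⟨N0, hN0, hcard, hexp, ⟨e0⟩⟩ := psu32_structure
  let N : Subgroup (Cfsg.PSU 3 F 2) := N0.comap ψ.toMonoidHom
  have hN : N.Normal := Subgroup.Normal.comap hN0 _
  have hmap : N.map ψ.toMonoidHom = N0 :=
    Subgroup.map_comap_eq_self_of_surjective ψ.surjective N0
  refine ⟨N, hN, ?_, ?_, ?_⟩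
  · rw [← hcard, ← hmap]
    exact Nat.card_congr (ψ.subgroupMap N).toEquiv
  · intro x hx
    have h1 : ψ x ∈ N0 := hx
    have h2 := hexp _ h1
    rw [← map_pow] at h2
    exact ψ.injective (h2.trans (map_one ψ).symm)
  · exact ⟨(QuotientGroup.congr N N0 ψ hmap).trans e0⟩

end Cfsg.Agent.S0827
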