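import Cfsg.Statements.S0828
import Mathlib
import Cfsg.Agent.Lib.Helper27.SympFrames

set_option autoImplicit false
open Cfsg

namespace Cfsg.Agent.S0828

open Matrix Cfsg.Agent.Lib.Helper27.SympTransv

variable {F : Type*} [Field F] {m : ℕ}

/-- The number of ordered bases of a `k`-dimensional subspace. -/
theorem card_bases [Fintype F] (k : ℕ) (W : Submodule F (Fin m ⊕ Fin m → F))
    (hWk : Module.finrank F W = k) :
    Nat.card ↑{v : Fin k → (Fin m ⊕ Fin m → F) |
      LinearIndependent F v ∧ Submodule.span F (Set.range v) = W} =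
      ∏ i : Fin k, (Fintype.card F ^ k - Fintype.card F ^ (i : ℕ)) := by
  classical
  have e : ↑{v : Fin k → (Fin m ⊕ Fin m → F) |
      LinearIndependent F v ∧ Submodule.span F (Set.range v) = W} ≃
      {s : Fin k → ↥W // LinearIndependent F s} :=
    { toFun := fun v => ⟨fun i => ⟨v.1 i, by
          have h := Submodule.subset_span (R := F) (s := Set.range v.1) ⟨i, rfl⟩
          have h2 := v.2.2
          rw [h2] at h
          exact h⟩,
        LinearIndependent.of_comp W.subtype v.2.1⟩
      invFun := fun s => ⟨fun i => (s.1 i : Fin m ⊕ Fin m → F),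
        s.2.map' W.subtype (Submodule.ker_subtype W), by
          have h1 : Submodule.span F (Set.range s.1) = ⊤ :=
            s.2.span_eq_top_of_card_eq_finrank' (by rw [Fintype.card_fin, hWk])
          have : (fun i => (s.1 i : Fin m ⊕ Fin m → F)) = W.subtype ∘ s.1 := rfl
          rw [this, Set.range_comp, Submodule.span_image, h1, Submodule.map_top,
            Submodule.range_subtype]⟩
      left_inv := fun v => rfl
      right_inv := fun s => rfl }
  rw [Nat.card_congr e, card_linearIndependent (K := F) (V := ↥W) (k := k) (by rw [hWk]), hWk]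

theorem arith1 (q : ℕ) (hq : 2 ≤ q) :
    (q ^ 4 - 1) * (q ^ 3 - q) = (q + 1) * (q ^ 2 + 1) * ((q ^ 2 - 1) * (q ^ 2 - q)) := by
  have h1 : 1 ≤ q ^ 4 := Nat.one_le_pow _ _ (by omega)
  have h2 : q ≤ q ^ 3 := by
    calc q = q ^ 1 := (pow_one q).symm
      _ ≤ q ^ 3 := Nat.pow_le_pow_right (by omega) (by omega)
  have h3 : 1 ≤ q ^ 2 := Nat.one_le_pow _ _ (by omega)
  have h4 : q ≤ q ^ 2 := by
    calc q = q ^ 1 := (pow_one q).symm
      _ ≤ q ^ 2 := Nat.pow_le_pow_right (by omega) (by omega)
  zify [h1, h2, h3, h4]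
  ring

theorem arith2 (q : ℕ) (hq : 2 ≤ q) : q ^ 3 - q = (q + 1) * (q ^ 2 - q) := by
  have h2 : q ≤ q ^ 3 := by
    calc q = q ^ 1 := (pow_one q).symm
      _ ≤ q ^ 3 := Nat.pow_le_pow_right (by omega) (by omega)
  have h4 : q ≤ q ^ 2 := by
    calc q = q ^ 1 := (pow_one q).symm
      _ ≤ q ^ 2 := Nat.pow_le_pow_right (by omega) (by omega)
  zify [h2, h4]
  ring

/-- The set of totally isotropic lines (2-subspaces). -/
abbrev Lines (F : Type*) [Field F] : Type _ :=
  {W : Submodule F (Fin 2 ⊕ Fin 2 → F) // Module.finrank F W = 2 ∧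
    ∀ u ∈ W, ∀ v ∈ W, Cfsg.sympForm 2 F u v = 0}

theorem part1 [Fintype F] {q : ℕ} (hF : Fintype.card F = q) :
    Nat.card (Lines F) = (q + 1) * (q ^ 2 + 1) := by
  classical
  have hq2 : 2 ≤ q := by
    rw [← hF]
    exact Fintype.one_lt_card
  let f : IsoFrame 2 F 2 → Lines F := fun v =>
    ⟨Submodule.span F (Set.range v.1), by
      rw [finrank_span_eq_card v.2.1, Fintype.card_fin], isotropic_span v.1 v.2.2⟩
  haveI : Fintype (Lines F) := Fintype.ofFinite _
  have hfib : ∀ W : Lines F, Nat.card {v : IsoFrame 2 F 2 // f v = W} =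
      (q ^ 2 - 1) * (q ^ 2 - q) := by
    intro W
    have e : {v : IsoFrame 2 F 2 // f v = W} ≃
        ↑{v : Fin 2 → (Fin 2 ⊕ Fin 2 → F) |
          LinearIndependent F v ∧ Submodule.span F (Set.range v) = W.1} :=
      { toFun := fun v => ⟨v.1.1, v.1.2.1, congrArg Subtype.val v.2⟩
        invFun := fun v => ⟨⟨v.1, v.2.1, fun i i' => by
            apply W.2.2
            · have h := Submodule.subset_span (R := F) (s := Set.range v.1) ⟨i, rfl⟩
              have h2 := v.2.2
              rw [h2] at h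
              exact h
            · have h := Submodule.subset_span (R := F) (s := Set.range v.1) ⟨i', rfl⟩
              have h2 := v.2.2
              rw [h2] at h
              exact h⟩, Subtype.ext v.2.2⟩
        left_inv := fun v => rfl
        right_inv := fun v => rfl }
    rw [Nat.card_congr e, card_bases 2 W.1 W.2.1, hF, Fin.prod_univ_two]
    simp
  have h1 := Nat.card_congr (Equiv.sigmaFiberEquiv f)
  rw [Nat.card_sigma, Finset.sum_congr rfl (fun W _ => hfib W), Finset.sum_const,
    Finset.card_univ, smul_eq_mul, card_isoFrame, hF, Finset.prod_range_succ,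
    Finset.prod_range_succ, Finset.prod_range_zero, one_mul] at h1
  have h2 : (q ^ (2 * 2 - 0) - q ^ 0) * (q ^ (2 * 2 - 1) - q ^ 1) = (q ^ 4 - 1) * (q ^ 3 - q) := by
    norm_num
  rw [h2, arith1 q hq2, ← Nat.card_eq_fintype_card] at h1
  have hpos : 0 < (q ^ 2 - 1) * (q ^ 2 - q) := by
    have h3 : 1 < q ^ 2 := Nat.one_lt_pow (by omega) (by omega)
    have h4 : q < q ^ 2 := by
      calc q = q ^ 1 := (pow_one q).symm
        _ < q ^ 2 := Nat.pow_lt_pow_right (by omega) (by omega)
    apply Nat.mul_pos <;> omega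
  exact Nat.eq_of_mul_eq_mul_right hpos h1

/-- The set of totally isotropic lines through `v`. -/
abbrev LinesAt (F : Type*) [Field F] (v : Fin 2 ⊕ Fin 2 → F) : Type _ :=
  {W : Submodule F (Fin 2 ⊕ Fin 2 → F) // Module.finrank F W = 2 ∧ v ∈ W ∧
    ∀ u ∈ W, ∀ w ∈ W, Cfsg.sympForm 2 F u w = 0}

theorem li_pair (v w : Fin 2 ⊕ Fin 2 → F) (hv : v ≠ 0) (hw : w ∉ Submodule.span F {v}) :
    LinearIndependent F ![v, w] := by
  rw [LinearIndependent.pair_iff' hv]
  intro a ha
  apply hw
  rw [Submodule.mem_span_singleton]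
  exact ⟨a, ha⟩

theorem iso_pair (v w : Fin 2 ⊕ Fin 2 → F) (h : Cfsg.sympForm 2 F v w = 0) :
    ∀ i i' : Fin 2, Cfsg.sympForm 2 F (![v, w] i) (![v, w] i') = 0 := by
  intro i i'
  fin_cases i <;> fin_cases i'
  · exact sf_self v
  · exact h
  · change Cfsg.sympForm 2 F w v = 0
    rw [sf_swap, h, neg_zero]
  · exact sf_self w

theorem part2 [Fintype F] {q : ℕ} (hF : Fintype.card F = q) (v : Fin 2 ⊕ Fin 2 → F)
    (hv : v ≠ 0) : Nat.card (LinesAt F v) = q + 1 := by
  classical
  have hq2 : 2 ≤ q := by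
    rw [← hF]
    exact Fintype.one_lt_card
  -- the one-frame `(v)`
  let v₁ : IsoFrame 2 F 1 := ⟨fun _ => v, by
    rw [Fintype.linearIndependent_iff]
    intro g hg i
    have : g 0 • v = 0 := by simpa using hg
    have h0 : g 0 = 0 := (smul_eq_zero.mp this).resolve_right hv
    have : i = 0 := Subsingleton.elim _ _
    rw [this]; exact h0, fun _ _ => sf_self v⟩
  have hrange : Set.range v₁.1 = {v} := by
    ext x
    constructor
    · rintro ⟨i, rfl⟩
      rfl
    · intro hx
      exact ⟨0, hx.symm⟩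
  have hX := card_fiber v₁
  rw [hrange, hF] at hX
  let X := {w : Fin 2 ⊕ Fin 2 → F // w ∉ Submodule.span F {v} ∧
    ∀ i : Fin 1, Cfsg.sympForm 2 F (v₁.1 i) w = 0}
  let g : X → LinesAt F v := fun w =>
    ⟨Submodule.span F (Set.range ![v, w.1]), by
      rw [finrank_span_eq_card (li_pair v w.1 hv w.2.1), Fintype.card_fin],
      Submodule.subset_span ⟨0, rfl⟩,
      isotropic_span ![v, w.1] (iso_pair v w.1 (w.2.2 0))⟩
  haveI : Fintype (LinesAt F v) := Fintype.ofFinite _
  have hfib : ∀ W : LinesAt F v, Nat.card {w : X // g w = W} = q ^ 2 - q := by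
    intro W
    have e : {w : X // g w = W} ≃
        {w : W.1 // (w : Fin 2 ⊕ Fin 2 → F) ∉ Submodule.span F {v}} :=
      { toFun := fun w => ⟨⟨w.1.1, by
            have h := Submodule.subset_span (R := F) (s := Set.range ![v, w.1.1]) ⟨1, rfl⟩
            have h2 : Submodule.span F (Set.range ![v, w.1.1]) = W.1 := congrArg Subtype.val w.2
            rw [h2] at h
            exact h⟩, w.1.2.1⟩
        invFun := fun w => ⟨⟨w.1.1, w.2, fun _ => W.2.2.2 v W.2.2.1 w.1.1 w.1.2⟩, by
            apply Subtype.ext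
            apply Submodule.eq_of_le_of_finrank_eq
            · rw [Submodule.span_le]
              rintro _ ⟨i, rfl⟩
              fin_cases i
              · exact W.2.2.1
              · exact w.1.2
            · rw [finrank_span_eq_card (li_pair v w.1.1 hv w.2), Fintype.card_fin, W.2.1]⟩
        left_inv := fun w => rfl
        right_inv := fun w => rfl }
    rw [Nat.card_congr e]
    have hvW : Submodule.span F {v} ≤ W.1 := by
      rw [Submodule.span_le, Set.singleton_subset_iff]
      exact W.2.2.1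
    have e2 : {w : W.1 // (w : Fin 2 ⊕ Fin 2 → F) ∈ Submodule.span F {v}} ≃
        Submodule.span F {v} :=
      { toFun := fun x => ⟨x.1.1, x.2⟩
        invFun := fun u => ⟨⟨u.1, hvW u.2⟩, u.2⟩
        left_inv := fun x => rfl
        right_inv := fun u => rfl }
    have hcW : Nat.card W.1 = q ^ 2 := by
      rw [Module.natCard_eq_pow_finrank (K := F), W.2.1, Nat.card_eq_fintype_card, hF]
    have hcv : Nat.card (Submodule.span F {v}) = q := by
      rw [Module.natCard_eq_pow_finrank (K := F), finrank_span_singleton hv,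
        Nat.card_eq_fintype_card, hF, pow_one]
    have h3 := Nat.card_congr (Equiv.sumCompl
      (fun w : W.1 => (w : Fin 2 ⊕ Fin 2 → F) ∈ Submodule.span F {v}))
    rw [Nat.card_sum, Nat.card_congr e2, hcv, hcW] at h3
    omega
  have h1 := Nat.card_congr (Equiv.sigmaFiberEquiv g)
  rw [Nat.card_sigma, Finset.sum_congr rfl (fun W _ => hfib W), Finset.sum_const,
    Finset.card_univ, smul_eq_mul] at h1
  have hX' : Nat.card X = q ^ 3 - q := by
    have : q ^ (2 * 2 - 1) - q ^ 1 = q ^ 3 - q := by norm_num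
    rw [← this]
    exact hX
  rw [hX', arith2 q hq2, ← Nat.card_eq_fintype_card] at h1
  have hpos : 0 < q ^ 2 - q := by
    have h4 : q < q ^ 2 := by
      calc q = q ^ 1 := (pow_one q).symm
        _ < q ^ 2 := Nat.pow_lt_pow_right (by omega) (by omega)
    omega
  exact Nat.eq_of_mul_eq_mul_right hpos h1

theorem result {F : Type*} [Field F] [Fintype F] {q : ℕ} (hF : Fintype.card F = q) : Nat.card {W : Submodule F (Fin 2 ⊕ Fin 2 → F) // Module.finrank F W = 2 ∧ ∀ u ∈ W, ∀ v ∈ W, Cfsg.sympForm 2 F u v = 0} = (q + 1) * (q ^ 2 + 1) ∧ ∀ v : Fin 2 ⊕ Fin 2 → F, v ≠ 0 → Nat.card {W : Submodule F (Fin 2 ⊕ Fin 2 → F) // Module.finrank F W = 2 ∧ v ∈ W ∧ ∀ u ∈ W, ∀ w ∈ W, Cfsg.sympForm 2 F u w = 0} = q + 1 :=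
  ⟨part1 hF, fun v hv => part2 hF v hv⟩

end Cfsg.Agent.S0828
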