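import Cfsg.Statements.S0829
import Mathlib
import Cfsg.Agent.Lib.Helper27.UTi2

set_option autoImplicit false
open Cfsg

namespace Cfsg.Agent.S0829

open Cfsg.Agent.Lib.Helper27.Unitary

/-- The unitary quadrangle of PSU_4(q): with |F| = q², the number of 2-dimensional subspaces of F^4 on which the Hermitian form Σ x_i y_i^q vanishes is (q + 1)(q³ + 1). -/
theorem result {F : Type*} [Field F] [Fintype F] {q : ℕ} (hF : Fintype.card F = q ^ 2) : Nat.card {W : Submodule F (Fin 4 → F) // Module.finrank F W = 2 ∧ ∀ u ∈ W, ∀ v ∈ W, Cfsg.hermForm 4 F q u v = 0} = (q + 1) * (q ^ 3 + 1) := by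
  have hq := two_le_q hF
  have h := card_TI2_mul hF 2
  rw [card_IsoNZ hF 4, card_IsoNZ hF 2] at h
  have hev4 : Even 4 := by decide
  have hev2 : Even 2 := by decide
  rw [if_pos hev4, if_pos hev2] at h
  obtain ⟨B, hB⟩ : ∃ B : ℕ, q ^ 2 = B + 1 := by
    refine ⟨q ^ 2 - 1, ?_⟩
    have : 1 ≤ q ^ 2 := Nat.one_le_pow _ _ (by omega)
    omega
  have hB0 : 0 < B := by
    have : 4 ≤ q ^ 2 := by nlinarith
    omega
  have e1 : (q ^ 2) ^ 2 - 1 = B * (B + 2) := by
    rw [hB]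
    have : (B + 1) ^ 2 = B * (B + 2) + 1 := by ring
    rw [this, Nat.add_sub_cancel]
  have e2 : (q ^ 2) ^ 2 - q ^ 2 = (B + 1) * B := by
    rw [hB]
    have : (B + 1) ^ 2 = (B + 1) * B + (B + 1) := by ring
    rw [this, Nat.add_sub_cancel]
  have e3 : q ^ 4 - 1 = B * (B + 2) := by
    rw [← e1]
    congr 1
    ring
  have e4 : q ^ 2 - 1 = B := by rw [hB, Nat.add_sub_cancel]
  rw [e1, e2, e3, e4] at h
  norm_num at h
  have hc : 0 < B * (B + 2) * ((B + 1) * B) := by positivity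
  change Nat.card (TI2 4 F q) = _
  apply Nat.eq_of_mul_eq_mul_right hc
  rw [h, hB]
  ring

end Cfsg.Agent.S0829
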