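import Cfsg.Statements.S0831
import Mathlib
import Cfsg.Agent.Lib.Helper19.Parity
import Cfsg.Agent.Lib.Helper19.QuadStd
import Cfsg.Agent.Lib.Helper19.QuadSing
-- import your own Cfsg.Agent.* helpers here

set_option autoImplicit false
open Cfsg

namespace Cfsg.Agent.S0831

/-- The two families of maximal totally singular subspaces of the hyperbolic quadric: for the form Σ x_i y_i on F^(2m), m ≥ 1, and m-dimensional subspaces U, W, X on which it vanishes, the parities of m − dim(U ∩ W), m − dim(W ∩ X) and m − dim(U ∩ X) sum to an even number (so 'even codimension of the intersection' is an equivalence relation), and there exist two such subspaces meeting in codimension 1 (so there are exactly two classes). -/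
theorem result {F : Type*} [Field F] (m : ℕ) (hm : 1 ≤ m) : (∀ U W X : Submodule F (Fin m ⊕ Fin m → F), (Module.finrank F U = m ∧ ∀ w ∈ U, Cfsg.quadFormPlus m F w = 0) → (Module.finrank F W = m ∧ ∀ w ∈ W, Cfsg.quadFormPlus m F w = 0) → (Module.finrank F X = m ∧ ∀ w ∈ X, Cfsg.quadFormPlus m F w = 0) → Even ((m - Module.finrank F ↥(U ⊓ W)) + (m - Module.finrank F ↥(W ⊓ X)) + (m - Module.finrank F ↥(U ⊓ X)))) ∧ ∃ U W : Submodule F (Fin m ⊕ Fin m → F), (Module.finrank F U = m ∧ ∀ w ∈ U, Cfsg.quadFormPlus m F w = 0) ∧ (Module.finrank F W = m ∧ ∀ w ∈ W, Cfsg.quadFormPlus m F w = 0) ∧ Module.finrank F ↥(U ⊓ W) + 1 = m := by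
  classical
  rw [← Cfsg.Agent.Lib.Helper19.QuadStd.coe_stdPlus]
  have hQ := Cfsg.Agent.Lib.Helper19.QuadStd.stdPlus_nondeg (F := F) m
  have hV : Module.finrank F (Fin m ⊕ Fin m → F) = 2 * m := by
    rw [Module.finrank_fintype_fun_eq_card, Fintype.card_sum, Fintype.card_fin]; omega
  constructor
  · intro U W X hU hW hX
    exact Cfsg.Agent.Lib.Helper19.Parity.triangle_parity hQ hV _ U W X hU.2 hU.1 hW.2 hW.1
      hX.2 hX.1 rfl
  · have hH := (Cfsg.Agent.Lib.Helper19.QuadStd.stdFamId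
      (Cfsg.Agent.Lib.Helper19.QuadStd.stdPlus m F)).plus_isHyp
    set e := fun i : Fin m => (Cfsg.Agent.Lib.Helper19.QuadStd.stdFamId
      (Cfsg.Agent.Lib.Helper19.QuadStd.stdPlus m F)).1 (Sum.inl i) with he
    set f := fun i : Fin m => (Cfsg.Agent.Lib.Helper19.QuadStd.stdFamId
      (Cfsg.Agent.Lib.Helper19.QuadStd.stdPlus m F)).1 (Sum.inr i) with hf
    have hU : Cfsg.Agent.Lib.Helper19.Parity.IsTS (Cfsg.Agent.Lib.Helper19.QuadStd.stdPlus m F)
        (Submodule.span F (Set.range e)) := Cfsg.Agent.Lib.Helper19.QuadWitt.span_e_singular hH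
    have hUn := Cfsg.Agent.Lib.Helper19.QuadWitt.finrank_span_e hH
    have hw : f ⟨0, hm⟩ ∉ Submodule.span F (Set.range e) := by
      intro hmem
      have h1 := hU.polar_zero (Submodule.subset_span ⟨⟨0, hm⟩, rfl⟩) hmem
      rw [hH.ef, if_pos rfl] at h1
      exact one_ne_zero h1
    obtain ⟨U', hU', hUn', hadj, _, _⟩ := Cfsg.Agent.Lib.Helper19.Parity.exists_adjacent hQ hV hU
      hUn (hH.Qf ⟨0, hm⟩) hw
    exact ⟨_, U', ⟨hUn, hU⟩, ⟨hUn', hU'⟩, hadj⟩

end Cfsg.Agent.S0831
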