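import Cfsg.Statements.S0832
import Mathlib
import Cfsg.Agent.Lib.Helper19.QuadSing
import Cfsg.Agent.Lib.Helper19.QuadStd
import Cfsg.Agent.S0287

set_option autoImplicit false
open Cfsg

namespace Cfsg.Agent.S0832

open QuadraticMap Cfsg.Agent.Lib.Helper19.QuadWitt Cfsg.Agent.Lib.Helper19.QuadStd

section main

variable {F V : Type*} [Field F] [AddCommGroup V] [Module F V] [FiniteDimensional F V]
  {Q : QuadraticForm F V}

/-- The key structural statement: given a `k`-frame whose `e`-part spans `U` and a hyperbolic pair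
`x, y` in the complement, with `dim V = 2 (k + 1)`, the totally singular `(k+1)`-subspaces
containing `U` are the two obvious ones. -/
lemma two_extensions {k : ℕ} (hV : Module.finrank F V = 2 * (k + 1)) {e f : Fin k → V}
    (h : IsHyp Q e f) {x y : V} (hx : x ∈ perp Q e f) (hy : y ∈ perp Q e f) (hQx : Q x = 0)
    (hQy : Q y = 0) (hxy : polar ⇑Q x y = 1) (W : Submodule F V)
    (hW : Module.finrank F W = k + 1) (hWs : ∀ w ∈ W, Q w = 0)
    (hUW : Submodule.span F (Set.range e) ≤ W) :
    W = Submodule.span F (Set.range (Fin.snoc e x : Fin (k + 1) → V)) ∨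
      W = Submodule.span F (Set.range (Fin.snoc e y : Fin (k + 1) → V)) := by
  classical
  have hyx : polar ⇑Q y x = 1 := by rw [polar_comm, hxy]
  have hE := h.snoc hx hy hQx hQy hxy
  have hE' := h.snoc hy hx hQy hQx hyx
  have heW : ∀ i, e i ∈ W := fun i => hUW (Submodule.subset_span (Set.mem_range_self i))
  -- the full frame spans
  have hbot : perp Q (Fin.snoc e x : Fin (k + 1) → V) (Fin.snoc f y : Fin (k + 1) → V) = ⊥ := by
    have := finrank_perp_eq hE
    apply Submodule.finrank_eq_zero.1
    omega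
  -- a vector of `W` outside the span of `e`
  have hex : ∃ w ∈ W, w ∉ Submodule.span F (Set.range e) := by
    by_contra hcon
    push Not at hcon
    have hle : W ≤ Submodule.span F (Set.range e) := hcon
    have h1 := Submodule.finrank_mono hle
    rw [finrank_span_e h] at h1
    omega
  obtain ⟨w, hwW, hwn⟩ := hex
  have hpe : ∀ i, polar ⇑Q w (e i) = 0 := fun i => polar_eq_zero_of_ts hWs hwW (heW i)
  have hproj : Cfsg.Agent.Lib.Helper19.QuadWitt.proj Q e f w = w - ∑ i, polar ⇑Q w (f i) • e i := by
    unfold Cfsg.Agent.Lib.Helper19.QuadWitt.proj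
    congr 1
    apply Finset.sum_congr rfl
    intro i _
    rw [hpe, zero_smul, add_zero]
  set p := Cfsg.Agent.Lib.Helper19.QuadWitt.proj Q e f w with hp
  have hpW : p ∈ W := by
    rw [hproj]
    exact W.sub_mem hwW (W.sum_mem (fun i _ => W.smul_mem _ (heW i)))
  have hp0 : p ≠ 0 := by
    intro h0
    apply hwn
    rw [hproj, sub_eq_zero] at h0
    rw [h0]
    exact Submodule.sum_mem _ (fun i _ => Submodule.smul_mem _ _
      (Submodule.subset_span (Set.mem_range_self i)))
  have hpperp : p ∈ perp Q e f := proj_mem h w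
  -- decompose `p` along `x, y`
  have hdec : p = polar ⇑Q p y • x + polar ⇑Q p x • y := by
    have h1 : Cfsg.Agent.Lib.Helper19.QuadWitt.proj Q (Fin.snoc e x : Fin (k + 1) → V) (Fin.snoc f y : Fin (k + 1) → V) p = 0 := by
      have := proj_mem hE p
      rw [hbot, Submodule.mem_bot] at this
      exact this
    unfold Cfsg.Agent.Lib.Helper19.QuadWitt.proj at h1
    rw [sub_eq_zero, Fin.sum_univ_castSucc] at h1
    simp only [Fin.snoc_castSucc, Fin.snoc_last] at h1
    have h2 : ∑ i : Fin k, (polar ⇑Q p (f i) • e i + polar ⇑Q p (e i) • f i) = 0 := by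
      apply Finset.sum_eq_zero
      intro i _
      rw [polar_comm _ p (f i), polar_comm _ p (e i), (hpperp i).1, (hpperp i).2, zero_smul,
        zero_smul, add_zero]
    rw [h2, zero_add] at h1
    exact h1
  set α := polar ⇑Q p y with hα
  set β := polar ⇑Q p x with hβ
  have hQp : α * β = 0 := by
    have := hWs p hpW
    rw [hdec, Q_lin2, hQx, hQy, hxy] at this
    linear_combination this
  have hfin : ∀ (z : V) (e' : Fin (k + 1) → V), z ∈ W → (∀ i, e' i ∈ W) →
      LinearIndependent F e' → W = Submodule.span F (Set.range e') := by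
    intro z e' _ he' hli
    symm
    apply Submodule.eq_of_le_of_finrank_eq
    · rw [Submodule.span_le]
      rintro _ ⟨i, rfl⟩
      exact he' i
    · rw [finrank_span_eq_card hli, Fintype.card_fin, hW]
  rcases mul_eq_zero.1 hQp with h0 | h0
  · -- `p = β y`
    right
    have hβ0 : β ≠ 0 := by
      intro hb
      apply hp0
      rw [hdec, h0, hb, zero_smul, zero_smul, add_zero]
    have hyW : y ∈ W := by
      have : y = β⁻¹ • p := by
        rw [hdec, h0, zero_smul, zero_add, smul_smul, inv_mul_cancel₀ hβ0, one_smul]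
      rw [this]
      exact W.smul_mem _ hpW
    apply hfin y _ hyW _ hE'.e_linearIndependent
    intro i
    induction i using Fin.lastCases with
    | last => simpa using hyW
    | cast i => simpa using heW i
  · left
    have hα0 : α ≠ 0 := by
      intro ha
      apply hp0
      rw [hdec, h0, ha, zero_smul, zero_smul, add_zero]
    have hxW : x ∈ W := by
      have : x = α⁻¹ • p := by
        rw [hdec, h0, zero_smul, add_zero, smul_smul, inv_mul_cancel₀ hα0, one_smul]
      rw [this]
      exact W.smul_mem _ hpW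
    apply hfin x _ hxW _ hE.e_linearIndependent
    intro i
    induction i using Fin.lastCases with
    | last => simpa using hxW
    | cast i => simpa using heW i

end main

/-- For the form Σ x_i y_i on F^(2m) over a finite field, m ≥ 1: an (m−1)-dimensional subspace on which the form vanishes is contained in exactly two m-dimensional subspaces on which it vanishes. -/
theorem result {F : Type*} [Field F] [Finite F] (m : ℕ) (hm : 1 ≤ m) (U : Submodule F (Fin m ⊕ Fin m → F)) (hU : Module.finrank F U + 1 = m ∧ ∀ u ∈ U, Cfsg.quadFormPlus m F u = 0) : Nat.card {W : Submodule F (Fin m ⊕ Fin m → F) // Module.finrank F W = m ∧ (∀ w ∈ W, Cfsg.quadFormPlus m F w = 0) ∧ U ≤ W} = 2 := by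
  classical
  haveI : Fintype F := Fintype.ofFinite F
  obtain ⟨k, rfl⟩ : ∃ k, m = k + 1 := ⟨m - 1, by omega⟩
  obtain ⟨hUdim, hUs⟩ := hU
  have hUdim' : Module.finrank F U = k := by omega
  set Q := stdPlus (k + 1) F with hQdef
  have hnd : (polarBilin Q).Nondegenerate := stdPlus_nondeg (k + 1)
  have hUs' : ∀ u ∈ U, Q u = 0 := fun u hu => by rw [hQdef, stdPlus_apply]; exact hUs u hu
  have hV : Module.finrank F (Fin (k + 1) ⊕ Fin (k + 1) → F) = 2 * (k + 1) := by
    rw [Module.finrank_fintype_fun_eq_card, Fintype.card_sum, Fintype.card_fin]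
    ring
  -- a frame inside `U`
  obtain ⟨e, f, h, heU⟩ := exists_frame_in hnd U hUs' k (by omega)
  have hUspan : U = Submodule.span F (Set.range e) := by
    symm
    apply Submodule.eq_of_le_of_finrank_eq
    · rw [Submodule.span_le]
      rintro _ ⟨i, rfl⟩
      exact heU i
    · rw [finrank_span_e h, hUdim']
  -- the complement of the frame contains a non-zero singular vector
  have hq : 1 ≤ Fintype.card F := Fintype.card_pos
  have hq2 : 2 ≤ Fintype.card F := Fintype.one_lt_card
  have hE := (stdFamId Q).plus_isHyp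
  have hZ : Zp Q e f = Cfsg.Agent.S0287.zeta (Fintype.card F) (k + 1) k := by
    apply Zp_eq_of_ref hE (Cfsg.Agent.S0287.zeta (Fintype.card F) (k + 1))
      (by rw [Cfsg.Agent.S0287.zeta_self, Cfsg.Agent.S0287.Zp_full (k + 1) hE])
      (by
        intro j hj
        rw [hV]
        exact Cfsg.Agent.S0287.zeta_rec (Fintype.card F) (k + 1) j hq hj) (by omega) h
  have hZ2 : 2 ≤ Zp Q e f := by
    rw [hZ]
    unfold Cfsg.Agent.S0287.zeta
    have e1 : k + 1 - k = 1 := by omega
    rw [e1]
    simp only [pow_one, Nat.sub_self, pow_zero]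
    have : 1 ≤ Fintype.card F - 1 := by omega
    nlinarith
  obtain ⟨x, hxperp, hx0, hQx⟩ : ∃ x ∈ perp Q e f, x ≠ 0 ∧ Q x = 0 := by
    unfold Zp at hZ2
    haveI : Finite {w : Fin (k + 1) ⊕ Fin (k + 1) → F // w ∈ perp Q e f ∧ Q w = 0} :=
      Nat.finite_of_card_ne_zero (by omega)
    have hnt : Nontrivial {w : Fin (k + 1) ⊕ Fin (k + 1) → F // w ∈ perp Q e f ∧ Q w = 0} := by
      rw [← Finite.one_lt_card_iff_nontrivial]
      omega
    obtain ⟨⟨x, hx1, hx2⟩, hne⟩ := exists_ne (⟨0, Submodule.zero_mem _, QuadraticMap.map_zero _⟩ :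
      {w : Fin (k + 1) ⊕ Fin (k + 1) → F // w ∈ perp Q e f ∧ Q w = 0})
    refine ⟨x, hx1, ?_, hx2⟩
    intro h0
    apply hne
    apply Subtype.ext
    exact h0
  obtain ⟨y, hyperp, hQy, hxy⟩ := exists_partner hnd h hxperp hx0 hQx
  have hyx : polar ⇑Q y x = 1 := by rw [polar_comm, hxy]
  have hE1 := h.snoc hxperp hyperp hQx hQy hxy
  have hE2 := h.snoc hyperp hxperp hQy hQx hyx
  set W₁ := Submodule.span F (Set.range (Fin.snoc e x : Fin (k + 1 ) → _)) with hW₁
  set W₂ := Submodule.span F (Set.range (Fin.snoc e y : Fin (k + 1) → _)) with hW₂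
  have hconv : ∀ W : Submodule F (Fin (k + 1) ⊕ Fin (k + 1) → F),
      (∀ w ∈ W, Cfsg.quadFormPlus (k + 1) F w = 0) ↔ ∀ w ∈ W, Q w = 0 := by
    intro W
    constructor
    · intro hW w hw
      rw [hQdef, stdPlus_apply]
      exact hW w hw
    · intro hW w hw
      rw [← stdPlus_apply]
      exact hW w hw
  have hUW₁ : U ≤ W₁ := by
    rw [hUspan, Submodule.span_le]
    rintro _ ⟨i, rfl⟩
    apply Submodule.subset_span
    exact ⟨Fin.castSucc i, by simp⟩
  have hUW₂ : U ≤ W₂ := by
    rw [hUspan, Submodule.span_le]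
    rintro _ ⟨i, rfl⟩
    apply Submodule.subset_span
    exact ⟨Fin.castSucc i, by simp⟩
  have hxW₁ : x ∈ W₁ := Submodule.subset_span ⟨Fin.last k, by simp⟩
  have hyW₂ : y ∈ W₂ := Submodule.subset_span ⟨Fin.last k, by simp⟩
  rw [Nat.card_eq_two_iff]
  refine ⟨⟨W₁, finrank_span_e hE1, (hconv W₁).2 (span_e_singular hE1), hUW₁⟩,
    ⟨W₂, finrank_span_e hE2, (hconv W₂).2 (span_e_singular hE2), hUW₂⟩, ?_, ?_⟩
  · intro heq
    have h12 : W₁ = W₂ := congrArg Subtype.val heq
    have hyW₁ : y ∈ W₁ := by rw [h12]; exact hyW₂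
    have := polar_eq_zero_of_ts (span_e_singular hE1) hxW₁ hyW₁
    rw [hxy] at this
    exact one_ne_zero this
  · rw [Set.eq_univ_iff_forall]
    rintro ⟨W, hWdim, hWs, hUW⟩
    rw [hUspan] at hUW
    rcases two_extensions hV h hxperp hyperp hQx hQy hxy W hWdim ((hconv W).1 hWs) hUW with h1 | h1
    · left
      apply Subtype.ext
      exact h1
    · right
      apply Subtype.ext
      exact h1

end Cfsg.Agent.S0832
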