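import Cfsg.Statements.S0833

set_option autoImplicit false
open Cfsg

namespace Cfsg.Agent.S0833

open Module LinearMap TensorProduct

theorem exists_lagrangian {F U : Type*} [Field F] [AddCommGroup U] [Module F U]
    [FiniteDimensional F U]
    (B : LinearMap.BilinForm F U) (h : B.Nondegenerate) (hA : B.IsAlt) :
    ∃ L : Submodule F U, 2 * Module.finrank F L = Module.finrank F U ∧
      ∀ x ∈ L, ∀ y ∈ L, B x y = 0 := by
  classical
  let S : Set (Submodule F U) := {L | ∀ x ∈ L, ∀ y ∈ L, B x y = 0}
  have hne : S.Nonempty := ⟨⊥, by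
    intro x hx y hy
    rw [Submodule.mem_bot] at hx
    simp [hx]⟩
  obtain ⟨L, hLS, hmax⟩ := (wellFounded_gt (α := Submodule F U)).has_min S hne
  have hL : ∀ x ∈ L, ∀ y ∈ L, B x y = 0 := hLS
  have h1 : L ≤ B.orthogonal L := by
    intro x hx
    rw [LinearMap.BilinForm.mem_orthogonal_iff]
    intro n hn
    exact hL n hn x hx
  have h2 : B.orthogonal L ≤ L := by
    intro v hv
    rw [LinearMap.BilinForm.mem_orthogonal_iff] at hv
    have hS' : (L ⊔ Submodule.span F {v}) ∈ S := by
      intro x hx y hy
      obtain ⟨l, hl, w, hw, rfl⟩ := Submodule.mem_sup.1 hx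
      obtain ⟨l', hl', w', hw', rfl⟩ := Submodule.mem_sup.1 hy
      obtain ⟨a, rfl⟩ := Submodule.mem_span_singleton.1 hw
      obtain ⟨b, rfl⟩ := Submodule.mem_span_singleton.1 hw'
      have e1 : B v l' = - B l' v := by rw [← hA.neg_eq]
      simp [hL l hl l' hl', hv l hl, hv l' hl', e1, hA v]
    have hle : L ≤ L ⊔ Submodule.span F {v} := le_sup_left
    have : ¬ (L ⊔ Submodule.span F {v} > L) := hmax _ hS'
    have heq : L ⊔ Submodule.span F {v} = L := by
      by_contra hne'
      exact this (lt_of_le_of_ne hle (Ne.symm hne'))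
    rw [← heq]
    exact Submodule.mem_sup_right (Submodule.mem_span_singleton_self v)
  have h3 : B.orthogonal L = L := le_antisymm h2 h1
  have h4 := LinearMap.BilinForm.finrank_orthogonal h L
  rw [h3] at h4
  have h5 : finrank F L ≤ finrank F U := Submodule.finrank_le L
  exact ⟨L, by omega, hL⟩

/-- If B₁, B₂ are non-degenerate alternating forms on U (dim 2k) and W (dim 2l), then B₁ ⊗ B₂ on U ⊗ W is symmetric, non-degenerate, and vanishes identically on some subspace of dimension 2kl (half of dim U ⊗ W). -/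
theorem result {F U W : Type*} [Field F] [Fintype F] [AddCommGroup U] [Module F U] [FiniteDimensional F U] [AddCommGroup W] [Module F W] [FiniteDimensional F W] (B₁ : LinearMap.BilinForm F U) (B₂ : LinearMap.BilinForm F W) (h₁ : B₁.Nondegenerate) (h₂ : B₂.Nondegenerate) (hA₁ : B₁.IsAlt) (hA₂ : B₂.IsAlt) (k l : ℕ) (hU : Module.finrank F U = 2 * k) (hW : Module.finrank F W = 2 * l) : (B₁.tmul B₂).IsSymm ∧ (B₁.tmul B₂).Nondegenerate ∧ (∃ X : Submodule F (TensorProduct F U W), Module.finrank F X = 2 * k * l ∧ ∀ x ∈ X, ∀ y ∈ X, (B₁.tmul B₂) x y = 0) := by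
  classical
  have hpure : ∀ (u u' : U) (w w' : W),
      (B₁.tmul B₂) (u ⊗ₜ w) (u' ⊗ₜ w') = B₂ w w' • B₁ u u' := fun _ _ _ _ => rfl
  refine ⟨?_, ?_, ?_⟩
  · refine ⟨fun x y => ?_⟩
    simp only [RingHom.id_apply]
    induction x using TensorProduct.induction_on with
    | zero => simp
    | add a b ha hb =>
      simp only [map_add, LinearMap.add_apply]
      rw [ha, hb]
    | tmul u w =>
      induction y using TensorProduct.induction_on with
      | zero => simp
      | add a b ha hb =>
        simp only [map_add, LinearMap.add_apply]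
        rw [ha, hb]
      | tmul u' w' =>
        rw [hpure, hpure, ← hA₁.neg_eq u u', ← hA₂.neg_eq w w']
        simp
  · let b₁ := Module.finBasis F U
    let b₂ := Module.finBasis F W
    refine (LinearMap.BilinForm.nondegenerate_iff_det_ne_zero (b₁.tensorProduct b₂)).2 ?_
    have hM : LinearMap.BilinForm.toMatrix (b₁.tensorProduct b₂) (B₁.tmul B₂) =
        Matrix.kroneckerMap (· * ·) (LinearMap.BilinForm.toMatrix b₁ B₁)
          (LinearMap.BilinForm.toMatrix b₂ B₂) := by
      ext ⟨i, j⟩ ⟨i', j'⟩
      simp [LinearMap.BilinForm.toMatrix_apply, Module.Basis.tensorProduct_apply, hpure, mul_comm]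
    rw [hM, Matrix.det_kronecker]
    have d1 := (LinearMap.BilinForm.nondegenerate_iff_det_ne_zero b₁).1 h₁
    have d2 := (LinearMap.BilinForm.nondegenerate_iff_det_ne_zero b₂).1 h₂
    exact mul_ne_zero (pow_ne_zero _ d1) (pow_ne_zero _ d2)
  · obtain ⟨L, hLdim, hL⟩ := exists_lagrangian B₁ h₁ hA₁
    have hLk : Module.finrank F L = k := by omega
    let f : (L ⊗[F] W) →ₗ[F] (U ⊗[F] W) := LinearMap.rTensor W L.subtype
    have hf : Function.Injective f :=
      Module.Flat.rTensor_preserves_injective_linearMap _ L.injective_subtype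
    refine ⟨LinearMap.range f, ?_, ?_⟩
    · rw [LinearMap.finrank_range_of_inj hf, Module.finrank_tensorProduct, hLk, hW]
      ring
    · rintro x ⟨x', rfl⟩ y ⟨y', rfl⟩
      induction x' using TensorProduct.induction_on with
      | zero => simp
      | add a b ha hb => rw [map_add, map_add, LinearMap.add_apply, ha, hb, add_zero]
      | tmul u w =>
        induction y' using TensorProduct.induction_on with
        | zero => simp
        | add a b ha hb => rw [map_add, map_add, ha, hb, add_zero]
        | tmul u' w' =>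
          show (B₁.tmul B₂) ((u : U) ⊗ₜ w) ((u' : U) ⊗ₜ w') = 0
          rw [hpure, hL u u.2 u' u'.2, smul_zero]

end Cfsg.Agent.S0833
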