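import Cfsg.Statements.S0835
import Mathlib
import Cfsg.Agent.Lib.Helper19.SymType

set_option autoImplicit false
open Cfsg

namespace Cfsg.Agent.S0835

/-- Over a finite field with 2 ≠ 0: if B₁ on U (dim 2k, k ≥ 1) is non-degenerate symmetric of minus type (no totally isotropic k-subspace) and B₂ on W (dim 2l + 1) is non-degenerate symmetric, then B₁ ⊗ B₂ (dimension 2k(2l+1)) admits no totally isotropic subspace of dimension k(2l+1) (minus type). -/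
theorem result {F U W : Type*} [Field F] [Fintype F] [AddCommGroup U] [Module F U] [FiniteDimensional F U] [AddCommGroup W] [Module F W] [FiniteDimensional F W] (h2 : (2 : F) ≠ 0) (B₁ : LinearMap.BilinForm F U) (B₂ : LinearMap.BilinForm F W) (h₁ : B₁.Nondegenerate) (h₂ : B₂.Nondegenerate) (hS₁ : B₁.IsSymm) (hS₂ : B₂.IsSymm) (k l : ℕ) (hk : 1 ≤ k) (hU : Module.finrank F U = 2 * k) (hW : Module.finrank F W = 2 * l + 1) (hm₁ : ¬ (∃ X : Submodule F (U), Module.finrank F X = k ∧ ∀ x ∈ X, ∀ y ∈ X, (B₁) x y = 0)) : ¬ (∃ X : Submodule F (TensorProduct F U W), Module.finrank F X = k * (2 * l + 1) ∧ ∀ x ∈ X, ∀ y ∈ X, (B₁.tmul B₂) x y = 0) := by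
  classical
  let b₁ := Module.finBasisOfFinrankEq F U hU
  let b₂ := Module.finBasisOfFinrankEq F W hW
  have hdimT : Module.finrank F (TensorProduct F U W) = 2 * (k * (2 * l + 1)) := by
    rw [Module.finrank_tensorProduct, hU, hW]
    ring
  have hnd := Cfsg.Agent.Lib.Helper19.SymType.tmul_nondeg B₁ B₂ h₁ h₂
  have hsym : LinearMap.BilinForm.IsSymm (B₁.tmul B₂) :=
    LinearMap.BilinForm.isSymm_iff.2 (LinearMap.IsSymm.tmul (LinearMap.BilinForm.isSymm_iff.1 hS₁)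
      (LinearMap.BilinForm.isSymm_iff.1 hS₂))
  have hpos : 1 ≤ k * (2 * l + 1) := Nat.mul_pos hk (by omega)
  intro hTI
  have key := (Cfsg.Agent.Lib.Helper19.SymType.hasTI_iff h2 (B₁.tmul B₂) hnd hsym hpos hdimT
    (b₁.tensorProduct b₂)).1 hTI
  rw [Cfsg.Agent.Lib.Helper19.SymType.det_gram_tmul, Fintype.card_fin, Fintype.card_fin] at key
  apply hm₁
  apply (Cfsg.Agent.Lib.Helper19.SymType.hasTI_iff h2 B₁ h₁ hS₁ hk hU b₁).2
  set d₁ := (Matrix.of fun i j => B₁ (b₁ i) (b₁ j)).det with hd₁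
  set d₂ := (Matrix.of fun i j => B₂ (b₂ i) (b₂ j)).det with hd₂
  have hd₁0 : d₁ ≠ 0 := Cfsg.Agent.Lib.Helper19.SymType.det_gram_ne_zero B₁ h₁ b₁
  have hd₂0 : d₂ ≠ 0 := Cfsg.Agent.Lib.Helper19.SymType.det_gram_ne_zero B₂ h₂ b₂
  have hu0 : ((-1 : F) ^ (k * l) * d₁ ^ l * d₂ ^ k) ≠ 0 :=
    mul_ne_zero (mul_ne_zero (pow_ne_zero _ (neg_ne_zero.2 one_ne_zero)) (pow_ne_zero _ hd₁0))
      (pow_ne_zero _ hd₂0)
  apply Cfsg.Agent.S2623.isSquare_of_sq_mul hu0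
  have e : ((-1 : F) ^ (k * l) * d₁ ^ l * d₂ ^ k) ^ 2 * ((-1) ^ k * d₁) =
      (-1) ^ (k * (2 * l + 1)) * (d₁ ^ (2 * l + 1) * d₂ ^ (2 * k)) := by
    have e1 : ((-1 : F)) ^ (k * (2 * l + 1)) = ((-1) ^ (k * l)) ^ 2 * (-1) ^ k := by
      rw [← pow_mul, ← pow_add]
      congr 1
      ring
    rw [e1]
    ring
  rw [e]
  exact key

end Cfsg.Agent.S0835
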