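import Cfsg.Statements.S0836
import Mathlib
-- import your own Cfsg.Agent.* helpers here

set_option autoImplicit false
open Cfsg

namespace Cfsg.Agent.S0836

/-- For i ≠ j and any scalar c, the elementary transvection 1 + c E_ij is a commutator ⁅g, h⁆ of two elements of SL_n(F) provided n ≥ 3, or n = 2 and F contains x ≠ 0 with x² ≠ 1. -/
theorem result {F : Type*} [Field F] (n : ℕ) (hn : 3 ≤ n ∨ (n = 2 ∧ ∃ x : F, x ≠ 0 ∧ x ^ 2 ≠ 1)) (i j : Fin n) (hij : i ≠ j) (c : F) (t : Matrix.SpecialLinearGroup (Fin n) F) (ht : (t : Matrix (Fin n) (Fin n) F) = Matrix.transvection i j c) : t ∈ commutatorSet (Matrix.SpecialLinearGroup (Fin n) F) := by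
  open scoped commutatorElement in
  -- it suffices to find g₁ g₂ with g₁ * g₂ = t * g₂ * g₁
  suffices h : ∃ g₁ g₂ : Matrix.SpecialLinearGroup (Fin n) F, g₁ * g₂ = t * g₂ * g₁ by
    obtain ⟨g₁, g₂, h⟩ := h
    refine ⟨g₁, g₂, ?_⟩
    rw [commutatorElement_def, h]
    group
  rcases hn with hn | ⟨rfl, x, hx0, hx1⟩
  · -- n ≥ 3: pick k ≠ i, j
    obtain ⟨k, hki, hkj⟩ : ∃ k : Fin n, k ≠ i ∧ k ≠ j := by
      have hcard : ({i, j} : Finset (Fin n)).card < (Finset.univ : Finset (Fin n)).card := by
        have h1 : ({i, j} : Finset (Fin n)).card ≤ 2 := Finset.card_le_two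
        have h2 : (Finset.univ : Finset (Fin n)).card = n := by simp
        omega
      obtain ⟨k, -, hk⟩ := Finset.exists_mem_notMem_of_card_lt_card hcard
      simp only [Finset.mem_insert, Finset.mem_singleton, not_or] at hk
      exact ⟨k, hk.1, hk.2⟩
    refine ⟨⟨Matrix.transvection i k c, Matrix.det_transvection_of_ne i k hki.symm c⟩,
      ⟨Matrix.transvection k j 1, Matrix.det_transvection_of_ne k j hkj 1⟩, ?_⟩
    apply Subtype.ext
    change Matrix.transvection i k c * Matrix.transvection k j 1 =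
      (t : Matrix (Fin n) (Fin n) F) * Matrix.transvection k j 1 * Matrix.transvection i k c
    rw [ht]
    simp only [Matrix.transvection, mul_add, add_mul, mul_one, one_mul]
    rw [Matrix.single_mul_single_same, Matrix.single_mul_single_of_ne _ _ _ _ hij.symm,
      Matrix.single_mul_single_of_ne _ _ _ _ hkj.symm, Matrix.single_mul_single_of_ne _ _ _ _ hij.symm]
    simp only [mul_one, add_zero, Matrix.zero_mul]
    abel
  · -- n = 2
    have hx2 : x ^ 2 - 1 ≠ 0 := sub_ne_zero.mpr hx1
    obtain ⟨b, hbc⟩ : ∃ b : F, b * x ^ 2 = b + c := ⟨c / (x ^ 2 - 1), by field_simp; ring⟩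
    let D : Matrix (Fin 2) (Fin 2) F := Matrix.diagonal (fun a => if a = i then x else x⁻¹)
    have hD : D.det = 1 := by
      simp only [D, Matrix.det_diagonal, Fin.prod_univ_two]
      fin_cases i <;> fin_cases j <;> simp_all
    refine ⟨⟨D, hD⟩, ⟨Matrix.transvection i j b, Matrix.det_transvection_of_ne i j hij b⟩, ?_⟩
    apply Subtype.ext
    change D * Matrix.transvection i j b =
      (t : Matrix (Fin 2) (Fin 2) F) * Matrix.transvection i j b * D
    rw [ht]
    simp only [Matrix.transvection, mul_add, add_mul, mul_one, one_mul, D]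
    rw [Matrix.single_mul_single_of_ne _ _ _ _ hij.symm]
    ext a b'
    fin_cases i <;> fin_cases j <;> (first | exact absurd rfl hij | skip) <;>
      fin_cases a <;> fin_cases b' <;>
      simp [Matrix.mul_diagonal, Matrix.single_apply] <;>
      field_simp <;> linear_combination hbc

end Cfsg.Agent.S0836
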