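import Cfsg.Statements.S0837
import Mathlib
import Cfsg.Agent.Lib.Helper27.UOnb
import Cfsg.Agent.Lib.Helper27.GLStab

set_option autoImplicit false
open Cfsg

namespace Cfsg.Agent.S0837

open Cfsg.Agent.Lib.Helper27.Unitary Cfsg.Agent.Lib.Helper27.GLStab Matrix

variable {F : Type*} [Field F] [Fintype F] {q n : ℕ}

section Restr

variable {S : Submodule F (Fin n → F)} {m : ℕ}

/-- The restriction of `g` to `S` in the coordinates of a frame. -/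
noncomputable def restrGL (hF : Fintype.card F = q ^ 2) (fr : Frame q S m) (g : GL (Fin n) F)
    (h1 : ∀ v ∈ S, gact g v ∈ S) (h2 : ∀ v ∈ S, gact g⁻¹ v ∈ S) : GL (Fin m) F :=
  toGL' (LinearEquiv.ofLinear (fr.D hF ∘ₗ (gactL g).toLinearMap ∘ₗ fr.E)
    (fr.D hF ∘ₗ (gactL g⁻¹).toLinearMap ∘ₗ fr.E)
    (by
      apply LinearMap.ext
      intro x
      simp only [LinearMap.comp_apply, LinearEquiv.coe_coe, gactL_apply, LinearMap.id_apply]
      rw [fr.E_D hF (h2 _ (fr.E_mem x)), gact_gact_inv, fr.D_E hF])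
    (by
      apply LinearMap.ext
      intro x
      simp only [LinearMap.comp_apply, LinearEquiv.coe_coe, gactL_apply, LinearMap.id_apply]
      rw [fr.E_D hF (h1 _ (fr.E_mem x)), gact_inv_gact, fr.D_E hF]))

theorem gact_restrGL (hF : Fintype.card F = q ^ 2) (fr : Frame q S m) (g : GL (Fin n) F)
    (h1 : ∀ v ∈ S, gact g v ∈ S) (h2 : ∀ v ∈ S, gact g⁻¹ v ∈ S) (x : Fin m → F) :
    gact (restrGL hF fr g h1 h2) x = fr.D hF (gact g (fr.E x)) := by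
  unfold restrGL
  rw [gact_toGL']
  rfl

theorem restrGL_mem_GU (hF : Fintype.card F = q ^ 2) (fr : Frame q S m) (g : GL (Fin n) F)
    (hg : g ∈ GU n F q) (h1 : ∀ v ∈ S, gact g v ∈ S) (h2 : ∀ v ∈ S, gact g⁻¹ v ∈ S) :
    restrGL hF fr g h1 h2 ∈ GU m F q := by
  rw [mem_GU_iff]
  intro x y
  change hermForm m F q (gact _ x) (gact _ y) = _
  rw [gact_restrGL, gact_restrGL, ← fr.hf_E hF, fr.E_D hF (h1 _ (fr.E_mem x)),
    fr.E_D hF (h1 _ (fr.E_mem y)), GU_preserves hg, fr.hf_E hF]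

end Restr

section Split

variable {W : Submodule F (Fin n → F)} {k l : ℕ}

theorem D₁E₂ (hF : Fintype.card F = q ^ 2) (fr₁ : Frame q W k) (fr₂ : Frame q (uperp q W) l)
    (y : Fin l → F) : fr₁.D hF (fr₂.E y) = 0 :=
  fr₁.D_perp hF (fr₂.E_mem y)

theorem D₂E₁ (hF : Fintype.card F = q ^ 2) (fr₁ : Frame q W k) (fr₂ : Frame q (uperp q W) l)
    (x : Fin k → F) : fr₂.D hF (fr₁.E x) = 0 := by
  apply fr₂.D_perp hF
  rw [uperp_uperp hF]
  exact fr₁.E_mem x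

theorem decomp (hF : Fintype.card F = q ^ 2) (hW : UNondeg q W) (fr₁ : Frame q W k)
    (fr₂ : Frame q (uperp q W) l) (v : Fin n → F) :
    v = fr₁.E (fr₁.D hF v) + fr₂.E (fr₂.D hF v) := by
  obtain ⟨w, hw, u, hu, rfl⟩ := exists_decomp hF hW v
  have hw' : w ∈ uperp q (uperp q W) := by rw [uperp_uperp hF]; exact hw
  have e1 : fr₁.D hF (w + u) = fr₁.D hF w := by
    rw [map_add, fr₁.D_perp hF hu, add_zero]
  have e2 : fr₂.D hF (w + u) = fr₂.D hF u := by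
    rw [map_add, fr₂.D_perp hF hw', zero_add]
  rw [e1, e2, fr₁.E_D hF hw, fr₂.E_D hF hu]

theorem pyth (hF : Fintype.card F = q ^ 2) (hW : UNondeg q W) (fr₁ : Frame q W k)
    (fr₂ : Frame q (uperp q W) l) (v v' : Fin n → F) :
    hermForm n F q v v' = hermForm k F q (fr₁.D hF v) (fr₁.D hF v') +
      hermForm l F q (fr₂.D hF v) (fr₂.D hF v') := by
  conv_lhs => rw [decomp hF hW fr₁ fr₂ v, decomp hF hW fr₁ fr₂ v']
  rw [hf_add_left, hf_add_right hF, hf_add_right hF, fr₁.hf_E hF, fr₂.hf_E hF,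
    (mem_uperp' hF).mp (fr₂.E_mem _) _ (fr₁.E_mem _), (fr₂.E_mem _) _ (fr₁.E_mem _)]
  ring

/-- The block-diagonal linear map attached to a pair of matrices. -/
noncomputable def extLin (hF : Fintype.card F = q ^ 2) (fr₁ : Frame q W k)
    (fr₂ : Frame q (uperp q W) l) (A₁ : GL (Fin k) F) (A₂ : GL (Fin l) F) :
    (Fin n → F) →ₗ[F] (Fin n → F) :=
  fr₁.E ∘ₗ (gactL A₁).toLinearMap ∘ₗ fr₁.D hF + fr₂.E ∘ₗ (gactL A₂).toLinearMap ∘ₗ fr₂.D hF

theorem extLin_apply (hF : Fintype.card F = q ^ 2) (fr₁ : Frame q W k)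
    (fr₂ : Frame q (uperp q W) l) (A₁ : GL (Fin k) F) (A₂ : GL (Fin l) F) (v : Fin n → F) :
    extLin hF fr₁ fr₂ A₁ A₂ v =
      fr₁.E (gact A₁ (fr₁.D hF v)) + fr₂.E (gact A₂ (fr₂.D hF v)) := rfl

theorem D₁_extLin (hF : Fintype.card F = q ^ 2) (fr₁ : Frame q W k)
    (fr₂ : Frame q (uperp q W) l) (A₁ : GL (Fin k) F) (A₂ : GL (Fin l) F) (v : Fin n → F) :
    fr₁.D hF (extLin hF fr₁ fr₂ A₁ A₂ v) = gact A₁ (fr₁.D hF v) := by
  rw [extLin_apply, map_add, fr₁.D_E hF, D₁E₂ hF, add_zero]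

theorem D₂_extLin (hF : Fintype.card F = q ^ 2) (fr₁ : Frame q W k)
    (fr₂ : Frame q (uperp q W) l) (A₁ : GL (Fin k) F) (A₂ : GL (Fin l) F) (v : Fin n → F) :
    fr₂.D hF (extLin hF fr₁ fr₂ A₁ A₂ v) = gact A₂ (fr₂.D hF v) := by
  rw [extLin_apply, map_add, fr₂.D_E hF, D₂E₁ hF, zero_add]

theorem extLin_comp (hF : Fintype.card F = q ^ 2) (fr₁ : Frame q W k)
    (fr₂ : Frame q (uperp q W) l) (A₁ B₁ : GL (Fin k) F) (A₂ B₂ : GL (Fin l) F)
    (v : Fin n → F) :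
    extLin hF fr₁ fr₂ A₁ A₂ (extLin hF fr₁ fr₂ B₁ B₂ v) =
      extLin hF fr₁ fr₂ (A₁ * B₁) (A₂ * B₂) v := by
  rw [extLin_apply hF fr₁ fr₂ A₁ A₂, D₁_extLin, D₂_extLin, extLin_apply, gact_mul, gact_mul]

theorem extLin_one (hF : Fintype.card F = q ^ 2) (hW : UNondeg q W) (fr₁ : Frame q W k)
    (fr₂ : Frame q (uperp q W) l) (v : Fin n → F) :
    extLin hF fr₁ fr₂ 1 1 v = v := by
  rw [extLin_apply, gact_one, gact_one]
  exact (decomp hF hW fr₁ fr₂ v).symm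

/-- The block-diagonal element of `GL_n` attached to a pair of matrices. -/
noncomputable def extGL (hF : Fintype.card F = q ^ 2) (hW : UNondeg q W) (fr₁ : Frame q W k)
    (fr₂ : Frame q (uperp q W) l) (A₁ : GL (Fin k) F) (A₂ : GL (Fin l) F) : GL (Fin n) F :=
  toGL' (LinearEquiv.ofLinear (extLin hF fr₁ fr₂ A₁ A₂) (extLin hF fr₁ fr₂ A₁⁻¹ A₂⁻¹)
    (by
      apply LinearMap.ext
      intro v
      rw [LinearMap.comp_apply, extLin_comp, mul_inv_cancel, mul_inv_cancel,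
        extLin_one hF hW, LinearMap.id_apply])
    (by
      apply LinearMap.ext
      intro v
      rw [LinearMap.comp_apply, extLin_comp, inv_mul_cancel, inv_mul_cancel,
        extLin_one hF hW, LinearMap.id_apply]))

theorem gact_extGL (hF : Fintype.card F = q ^ 2) (hW : UNondeg q W) (fr₁ : Frame q W k)
    (fr₂ : Frame q (uperp q W) l) (A₁ : GL (Fin k) F) (A₂ : GL (Fin l) F) (v : Fin n → F) :
    gact (extGL hF hW fr₁ fr₂ A₁ A₂) v = extLin hF fr₁ fr₂ A₁ A₂ v := by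
  unfold extGL
  rw [gact_toGL']
  rfl

theorem extGL_mem_GU (hF : Fintype.card F = q ^ 2) (hW : UNondeg q W) (fr₁ : Frame q W k)
    (fr₂ : Frame q (uperp q W) l) {A₁ : GL (Fin k) F} {A₂ : GL (Fin l) F}
    (h₁ : A₁ ∈ GU k F q) (h₂ : A₂ ∈ GU l F q) : extGL hF hW fr₁ fr₂ A₁ A₂ ∈ GU n F q := by
  rw [mem_GU_iff]
  intro u v
  change hermForm n F q (gact _ u) (gact _ v) = _
  rw [gact_extGL, gact_extGL, pyth hF hW fr₁ fr₂, D₁_extLin, D₁_extLin, D₂_extLin, D₂_extLin,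
    GU_preserves h₁, GU_preserves h₂, ← pyth hF hW fr₁ fr₂]

theorem extGL_maps (hF : Fintype.card F = q ^ 2) (hW : UNondeg q W) (fr₁ : Frame q W k)
    (fr₂ : Frame q (uperp q W) l) (A₁ : GL (Fin k) F) (A₂ : GL (Fin l) F) {v : Fin n → F}
    (hv : v ∈ W) : gact (extGL hF hW fr₁ fr₂ A₁ A₂) v ∈ W := by
  have hv' : v ∈ uperp q (uperp q W) := by rw [uperp_uperp hF]; exact hv
  rw [gact_extGL, extLin_apply, fr₂.D_perp hF hv', gact_zero, map_zero, add_zero]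
  exact fr₁.E_mem _

end Split

section Hom

variable {S : Submodule F (Fin n → F)} {m : ℕ}

theorem restrGL_one (hF : Fintype.card F = q ^ 2) (fr : Frame q S m)
    (h1 : ∀ v ∈ S, gact (1 : GL (Fin n) F) v ∈ S)
    (h2 : ∀ v ∈ S, gact (1 : GL (Fin n) F)⁻¹ v ∈ S) : restrGL hF fr 1 h1 h2 = 1 := by
  apply gact_ext
  intro x
  rw [gact_restrGL, gact_one, gact_one, fr.D_E hF]

theorem restrGL_mul (hF : Fintype.card F = q ^ 2) (fr : Frame q S m) (g h : GL (Fin n) F)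
    (g1 : ∀ v ∈ S, gact g v ∈ S) (g2 : ∀ v ∈ S, gact g⁻¹ v ∈ S)
    (h1 : ∀ v ∈ S, gact h v ∈ S) (h2 : ∀ v ∈ S, gact h⁻¹ v ∈ S)
    (gh1 : ∀ v ∈ S, gact (g * h) v ∈ S) (gh2 : ∀ v ∈ S, gact (g * h)⁻¹ v ∈ S) :
    restrGL hF fr (g * h) gh1 gh2 = restrGL hF fr g g1 g2 * restrGL hF fr h h1 h2 := by
  apply gact_ext
  intro x
  rw [gact_mul, gact_restrGL, gact_restrGL, gact_restrGL, gact_mul,
    fr.E_D hF (h1 _ (fr.E_mem x))]

theorem perp_maps {W : Submodule F (Fin n → F)} {g : GL (Fin n) F} (hg : g ∈ GU n F q)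
    (h2 : ∀ v ∈ W, gact g⁻¹ v ∈ W) : ∀ v ∈ uperp q W, gact g v ∈ uperp q W := by
  intro v hv w hw
  rw [GU_adjoint hg]
  exact hv _ (h2 w hw)

end Hom

section Main

variable {W : Submodule F (Fin n → F)} {k l : ℕ}

/-- The stabiliser of `W` in `GU_n`. -/
abbrev PW (n : ℕ) (F : Type*) [Field F] (q : ℕ) (W : Submodule F (Fin n → F)) :
    Subgroup ↥(Cfsg.GU n F q) :=
  (Cfsg.stabilizing (Cfsg.glToMat (Fin n) F) (W : Set (Fin n → F))).subgroupOf (Cfsg.GU n F q)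

theorem PW_maps (g : ↥(PW n F q W)) : ∀ v ∈ W, gact ((g : ↥(GU n F q)) : GL (Fin n) F) v ∈ W :=
  fun _ hv => stab_maps (W := W) (Subgroup.mem_subgroupOf.mp g.2) hv

theorem PW_maps_inv (g : ↥(PW n F q W)) :
    ∀ v ∈ W, gact ((g : ↥(GU n F q)) : GL (Fin n) F)⁻¹ v ∈ W :=
  fun _ hv => stab_maps (W := W) (inv_mem (Subgroup.mem_subgroupOf.mp g.2)) hv

theorem PW_maps_perp (g : ↥(PW n F q W)) :
    ∀ v ∈ uperp q W, gact ((g : ↥(GU n F q)) : GL (Fin n) F) v ∈ uperp q W :=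
  perp_maps g.1.2 (PW_maps_inv g)

theorem PW_maps_perp_inv (g : ↥(PW n F q W)) :
    ∀ v ∈ uperp q W, gact ((g : ↥(GU n F q)) : GL (Fin n) F)⁻¹ v ∈ uperp q W :=
  perp_maps (inv_mem g.1.2) (by rw [inv_inv]; exact PW_maps g)

/-- The restriction to `W`. -/
noncomputable def Φ₁ (hF : Fintype.card F = q ^ 2) (fr₁ : Frame q W k) (g : ↥(PW n F q W)) :
    ↥(GU k F q) :=
  ⟨restrGL hF fr₁ ((g : ↥(GU n F q)) : GL (Fin n) F) (PW_maps g) (PW_maps_inv g),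
    restrGL_mem_GU hF fr₁ _ g.1.2 (PW_maps g) (PW_maps_inv g)⟩

/-- The restriction to `W^⊥`. -/
noncomputable def Φ₂ (hF : Fintype.card F = q ^ 2) (fr₂ : Frame q (uperp q W) l)
    (g : ↥(PW n F q W)) : ↥(GU l F q) :=
  ⟨restrGL hF fr₂ ((g : ↥(GU n F q)) : GL (Fin n) F) (PW_maps_perp g) (PW_maps_perp_inv g),
    restrGL_mem_GU hF fr₂ _ g.1.2 (PW_maps_perp g) (PW_maps_perp_inv g)⟩

theorem gact_Φ₁ (hF : Fintype.card F = q ^ 2) (fr₁ : Frame q W k) (g : ↥(PW n F q W))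
    (x : Fin k → F) :
    gact ((Φ₁ hF fr₁ g : ↥(GU k F q)) : GL (Fin k) F) x =
      fr₁.D hF (gact ((g : ↥(GU n F q)) : GL (Fin n) F) (fr₁.E x)) :=
  gact_restrGL hF fr₁ _ (PW_maps g) (PW_maps_inv g) x

theorem gact_Φ₂ (hF : Fintype.card F = q ^ 2) (fr₂ : Frame q (uperp q W) l)
    (g : ↥(PW n F q W)) (y : Fin l → F) :
    gact ((Φ₂ hF fr₂ g : ↥(GU l F q)) : GL (Fin l) F) y =
      fr₂.D hF (gact ((g : ↥(GU n F q)) : GL (Fin n) F) (fr₂.E y)) :=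
  gact_restrGL hF fr₂ _ (PW_maps_perp g) (PW_maps_perp_inv g) y

theorem coe_one_PW : (((1 : ↥(PW n F q W)) : ↥(GU n F q)) : GL (Fin n) F) = 1 := rfl

theorem coe_mul_PW (g h : ↥(PW n F q W)) :
    (((g * h : ↥(PW n F q W)) : ↥(GU n F q)) : GL (Fin n) F) =
      ((g : ↥(GU n F q)) : GL (Fin n) F) * ((h : ↥(GU n F q)) : GL (Fin n) F) := rfl

/-- The restriction homomorphism. -/
noncomputable def Φ (hF : Fintype.card F = q ^ 2) (fr₁ : Frame q W k)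
    (fr₂ : Frame q (uperp q W) l) : ↥(PW n F q W) →* ↥(GU k F q) × ↥(GU l F q) where
  toFun g := (Φ₁ hF fr₁ g, Φ₂ hF fr₂ g)
  map_one' := by
    apply Prod.ext
    · apply Subtype.ext
      apply gact_ext
      intro x
      rw [gact_Φ₁, coe_one_PW, gact_one, fr₁.D_E hF]
      exact (gact_one x).symm
    · apply Subtype.ext
      apply gact_ext
      intro x
      rw [gact_Φ₂, coe_one_PW, gact_one, fr₂.D_E hF]
      exact (gact_one x).symm
  map_mul' g h := by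
    apply Prod.ext
    · apply Subtype.ext
      apply gact_ext
      intro x
      change _ = gact (((Φ₁ hF fr₁ g : ↥(GU k F q)) : GL (Fin k) F) *
        ((Φ₁ hF fr₁ h : ↥(GU k F q)) : GL (Fin k) F)) x
      rw [gact_mul, gact_Φ₁, gact_Φ₁, gact_Φ₁, coe_mul_PW, gact_mul,
        fr₁.E_D hF (PW_maps h _ (fr₁.E_mem x))]
    · apply Subtype.ext
      apply gact_ext
      intro x
      change _ = gact (((Φ₂ hF fr₂ g : ↥(GU l F q)) : GL (Fin l) F) *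
        ((Φ₂ hF fr₂ h : ↥(GU l F q)) : GL (Fin l) F)) x
      rw [gact_mul, gact_Φ₂, gact_Φ₂, gact_Φ₂, coe_mul_PW, gact_mul,
        fr₂.E_D hF (PW_maps_perp h _ (fr₂.E_mem x))]

theorem Φ_fst (hF : Fintype.card F = q ^ 2) (fr₁ : Frame q W k) (fr₂ : Frame q (uperp q W) l)
    (g : ↥(PW n F q W)) (x : Fin k → F) :
    gact ((Φ hF fr₁ fr₂ g).1 : GL (Fin k) F) x =
      fr₁.D hF (gact ((g : ↥(GU n F q)) : GL (Fin n) F) (fr₁.E x)) :=
  gact_Φ₁ hF fr₁ g x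

theorem Φ_snd (hF : Fintype.card F = q ^ 2) (fr₁ : Frame q W k) (fr₂ : Frame q (uperp q W) l)
    (g : ↥(PW n F q W)) (y : Fin l → F) :
    gact ((Φ hF fr₁ fr₂ g).2 : GL (Fin l) F) y =
      fr₂.D hF (gact ((g : ↥(GU n F q)) : GL (Fin n) F) (fr₂.E y)) :=
  gact_Φ₂ hF fr₂ g y

theorem Φ_bijective (hF : Fintype.card F = q ^ 2) (hW : UNondeg q W) (fr₁ : Frame q W k)
    (fr₂ : Frame q (uperp q W) l) : Function.Bijective (Φ hF fr₁ fr₂) := by
  constructor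
  · intro g h hgh
    apply Subtype.ext
    apply Subtype.ext
    apply gact_ext
    intro v
    rw [decomp hF hW fr₁ fr₂ v, gact_add, gact_add]
    have e1 : ∀ x : Fin k → F, gact ((g : ↥(GU n F q)) : GL (Fin n) F) (fr₁.E x) =
        gact ((h : ↥(GU n F q)) : GL (Fin n) F) (fr₁.E x) := by
      intro x
      rw [← fr₁.E_D hF (PW_maps g _ (fr₁.E_mem x)), ← fr₁.E_D hF (PW_maps h _ (fr₁.E_mem x)),
        ← Φ_fst hF fr₁ fr₂, ← Φ_fst hF fr₁ fr₂, hgh]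
    have e2 : ∀ y : Fin l → F, gact ((g : ↥(GU n F q)) : GL (Fin n) F) (fr₂.E y) =
        gact ((h : ↥(GU n F q)) : GL (Fin n) F) (fr₂.E y) := by
      intro y
      rw [← fr₂.E_D hF (PW_maps_perp g _ (fr₂.E_mem y)),
        ← fr₂.E_D hF (PW_maps_perp h _ (fr₂.E_mem y)),
        ← Φ_snd hF fr₁ fr₂, ← Φ_snd hF fr₁ fr₂, hgh]
    rw [e1, e2]
  · rintro ⟨A₁, A₂⟩
    have hmem : (⟨extGL hF hW fr₁ fr₂ A₁.1 A₂.1, extGL_mem_GU hF hW fr₁ fr₂ A₁.2 A₂.2⟩ :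
        ↥(GU n F q)) ∈ PW n F q W := by
      rw [Subgroup.mem_subgroupOf]
      apply mem_stab_of_maps
      intro v hv
      exact extGL_maps hF hW fr₁ fr₂ A₁.1 A₂.1 hv
    refine ⟨⟨_, hmem⟩, ?_⟩
    apply Prod.ext
    · apply Subtype.ext
      apply gact_ext
      intro x
      rw [Φ_fst]
      change fr₁.D hF (gact (extGL hF hW fr₁ fr₂ A₁.1 A₂.1) (fr₁.E x)) = _
      rw [gact_extGL, D₁_extLin, fr₁.D_E hF]
    · apply Subtype.ext
      apply gact_ext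
      intro y
      rw [Φ_snd]
      change fr₂.D hF (gact (extGL hF hW fr₁ fr₂ A₁.1 A₂.1) (fr₂.E y)) = _
      rw [gact_extGL, D₂_extLin, fr₂.D_E hF]

end Main

/-- If W ≤ F^n (|F| = q²) is a k-dimensional subspace on which the Hermitian form Σ x_i y_i^q is non-degenerate, then the stabiliser of W in GU_n(q) is isomorphic to GU_k(q) × GU_(n−k)(q). -/
theorem result {F : Type*} [Field F] [Fintype F] {q : ℕ} (hF : Fintype.card F = q ^ 2) (n k : ℕ) (hk : k ≤ n) (W : Submodule F (Fin n → F)) (hWk : Module.finrank F W = k) (hW : ∀ u ∈ W, (∀ v ∈ W, Cfsg.hermForm n F q u v = 0) → u = 0) : Nonempty (↥((Cfsg.stabilizing (Cfsg.glToMat (Fin n) F) (W : Set (Fin n → F))).subgroupOf (Cfsg.GU n F q)) ≃* ↥(Cfsg.GU k F q) × ↥(Cfsg.GU (n - k) F q)) := by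
  have hW' : UNondeg q W := hW
  obtain ⟨fr₁⟩ := exists_frame hF W hW' k hWk
  obtain ⟨fr₂⟩ := exists_frame hF (uperp q W) (unondeg_uperp hF hW') (n - k)
    (by rw [finrank_uperp hF, hWk])
  exact ⟨MulEquiv.ofBijective (Φ hF fr₁ fr₂) (Φ_bijective hF hW' fr₁ fr₂)⟩

end Cfsg.Agent.S0837
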