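import Cfsg.Statements.S0838
import Mathlib
import Cfsg.Agent.Lib.Helper19.QuadWitt2

set_option autoImplicit false
open Cfsg

namespace Cfsg.Agent.S0838

open Cfsg.Agent.Lib.Helper19.QuadWitt

/-- Over a finite field with 2 ≠ 0 and n odd: two quadratic forms Q₁, Q₂ on F^n with non-degenerate polar forms are similar — there are an invertible linear map g and a scalar c ≠ 0 with Q₂ (g v) = c · Q₁ v for all v. -/
theorem result {F : Type*} [Field F] [Fintype F] (h2 : (2 : F) ≠ 0) {n : ℕ} (hn : Odd n) (Q₁ Q₂ : QuadraticForm F (Fin n → F)) (h₁ : (QuadraticMap.polarBilin Q₁).Nondegenerate) (h₂ : (QuadraticMap.polarBilin Q₂).Nondegenerate) : ∃ (g : (Fin n → F) ≃ₗ[F] (Fin n → F)) (c : F), c ≠ 0 ∧ ∀ v, Q₂ (g v) = c * Q₁ v := by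
  classical
  obtain ⟨m, hm⟩ := hn
  have hV : Module.finrank F (Fin n → F) = 2 * m + 1 := by
    rw [Module.finrank_fin_fun]
    omega
  obtain ⟨e₁, f₁, x₁, hh₁, hx₁, hQx₁⟩ := odd_structure (Q := Q₁) h₁ hV
  obtain ⟨e₂, f₂, x₂, hh₂, hx₂, hQx₂⟩ := odd_structure (Q := Q₂) h₂ hV
  have hx₁0 : x₁ ≠ 0 := by
    rintro rfl
    exact hQx₁ (QuadraticMap.map_zero Q₁)
  have hli := odd_linearIndependent hh₁ hx₁ hx₁0
  let b := basisOfLinearIndependentOfCardEqFinrank hli (by rw [hV]; simp; ring)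
  have hb : ⇑b = Sum.elim (fun _ : Unit => x₁) (Sum.elim e₁ f₁) :=
    coe_basisOfLinearIndependentOfCardEqFinrank _ _
  set c := Q₂ x₂ / Q₁ x₁ with hc
  have hc0 : c ≠ 0 := div_ne_zero hQx₂ hQx₁
  let t : Unit ⊕ (Fin m ⊕ Fin m) → (Fin n → F) :=
    Sum.elim (fun _ => x₂) (Sum.elim (fun i => c • e₂ i) f₂)
  let g := b.constr F t
  have hg : ∀ v, Q₂ (g v) = c * Q₁ v := by
    intro v
    have hv : v = ∑ i, b.repr v (Sum.inr (Sum.inl i)) • e₁ i +
        ∑ i, b.repr v (Sum.inr (Sum.inr i)) • f₁ i + b.repr v (Sum.inl ()) • x₁ := by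
      conv_lhs => rw [← b.sum_repr v]
      rw [Fintype.sum_sum_type, Fintype.sum_sum_type, hb]
      simp
      abel
    have hgv : g v = ∑ i, (b.repr v (Sum.inr (Sum.inl i)) * c) • e₂ i +
        ∑ i, b.repr v (Sum.inr (Sum.inr i)) • f₂ i + b.repr v (Sum.inl ()) • x₂ := by
      show b.constr F t v = _
      rw [Module.Basis.constr_apply_fintype, Fintype.sum_sum_type, Fintype.sum_sum_type]
      simp [t, smul_smul, Module.Basis.equivFun_apply]
      abel
    rw [hgv, hyp_Q hh₂ _ _ (Submodule.smul_mem _ _ hx₂), QuadraticMap.map_smul]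
    conv_rhs => rw [hv, hyp_Q hh₁ _ _ (Submodule.smul_mem _ _ hx₁), QuadraticMap.map_smul]
    have hS : ∑ i, b.repr v (Sum.inr (Sum.inl i)) * c * b.repr v (Sum.inr (Sum.inr i)) =
        c * ∑ i, b.repr v (Sum.inr (Sum.inl i)) * b.repr v (Sum.inr (Sum.inr i)) := by
      rw [Finset.mul_sum]
      exact Finset.sum_congr rfl (fun i _ => by ring)
    rw [hS]
    have hcd : Q₂ x₂ = c * Q₁ x₁ := by
      rw [hc, div_mul_cancel₀ _ hQx₁]
    rw [hcd]
    simp only [smul_eq_mul]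
    ring
  exact ⟨similarityEquiv h₁ g hc0 hg rfl, c, hc0, fun v => hg v⟩

end Cfsg.Agent.S0838
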