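import Cfsg.Statements.S0839
import Cfsg.Agent.Lib.Helper24.RankOne

set_option autoImplicit false
open Cfsg
open Cfsg.Agent.Lib.Helper24
open Matrix

namespace Cfsg.Agent.S0839

/-- Every transvection t ∈ SL_(n+2)(F) (rank(t − 1) = 1, (t − 1)² = 0) is conjugate in SL_(n+2)(F) to 1 + v·e_0ᵀ for some column vector v with v_0 = 0 (the group A of matrices that are the identity except in the first column below the diagonal); the dimension is written n + 2 ≥ 2. -/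
theorem result {F : Type*} [Field F] (n : ℕ) (t : Matrix.SpecialLinearGroup (Fin (n + 2)) F) (ht : Cfsg.IsTransvection (t : Matrix (Fin (n + 2)) (Fin (n + 2)) F)) : ∃ (g : Matrix.SpecialLinearGroup (Fin (n + 2)) F) (v : Fin (n + 2) → F), v 0 = 0 ∧ ((g⁻¹ * t * g : Matrix.SpecialLinearGroup (Fin (n + 2)) F) : Matrix (Fin (n + 2)) (Fin (n + 2)) F) = 1 + Matrix.vecMulVec v (Pi.single 0 1) := by
  classical
  obtain ⟨hrank, hsq⟩ := ht
  obtain ⟨a, b, hab⟩ := rank_one_eq_vecMulVec _ hrank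
  have hM0 : (t : Matrix (Fin (n + 2)) (Fin (n + 2)) F) - 1 ≠ 0 := by
    intro h0; rw [h0, Matrix.rank_zero] at hrank; omega
  have hb0 : b ≠ 0 := by
    intro h; apply hM0; rw [hab, h, Matrix.vecMulVec_zero]
  have he0 : (Pi.single (0 : Fin (n+2)) (1:F) : Fin (n+2) → F) ≠ 0 := by
    intro h
    have := congrFun h 0
    simp at this
  -- transitivity of SL on projective points
  obtain ⟨k, hk⟩ := MulAction.exists_smul_eq (Matrix.SpecialLinearGroup (Fin (n+2)) F)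
    (Projectivization.mk F b hb0) (Projectivization.mk F (Pi.single (0 : Fin (n+2)) (1:F)) he0)
  have hkb : ∃ c : F, (k : Matrix (Fin (n + 2)) (Fin (n + 2)) F) *ᵥ b = c • (Pi.single (0 : Fin (n+2)) (1:F) : Fin (n+2) → F) := by
    rw [Projectivization.matrixSpecialLinearGroup_smul_def, Projectivization.smul_mk,
      Projectivization.mk_eq_mk_iff'] at hk
    obtain ⟨c, hc⟩ := hk
    refine ⟨c, ?_⟩
    rw [hc]
    rfl
  obtain ⟨c, hc⟩ := hkb
  refine ⟨Matrix.SpecialLinearGroup.transpose k, c • ((((Matrix.SpecialLinearGroup.transpose k)⁻¹ : Matrix.SpecialLinearGroup (Fin (n + 2)) F) : Matrix (Fin (n + 2)) (Fin (n + 2)) F) *ᵥ a), ?_⟩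
  obtain ⟨g, hg⟩ : ∃ g : Matrix.SpecialLinearGroup (Fin (n + 2)) F, g = Matrix.SpecialLinearGroup.transpose k := ⟨_, rfl⟩
  rw [← hg]
  have hgcoe : (g : Matrix (Fin (n + 2)) (Fin (n + 2)) F) = (k : Matrix (Fin (n + 2)) (Fin (n + 2)) F).transpose := by
    rw [hg]; rfl
  have hconj : ((g⁻¹ * t * g : Matrix.SpecialLinearGroup (Fin (n + 2)) F) : Matrix (Fin (n + 2)) (Fin (n + 2)) F)
      = 1 + Matrix.vecMulVec (c • ((g⁻¹ : Matrix.SpecialLinearGroup (Fin (n + 2)) F) : Matrix (Fin (n + 2)) (Fin (n + 2)) F) *ᵥ a) (Pi.single 0 1) := by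
    have ht' : (t : Matrix (Fin (n + 2)) (Fin (n + 2)) F) = 1 + Matrix.vecMulVec a b := by
      rw [← hab]; abel
    rw [Matrix.SpecialLinearGroup.coe_mul, Matrix.SpecialLinearGroup.coe_mul, ht', mul_add, add_mul,
      mul_one, ← Matrix.SpecialLinearGroup.coe_mul, inv_mul_cancel, Matrix.SpecialLinearGroup.coe_one,
      Matrix.mul_vecMulVec, Matrix.vecMulVec_mul, hgcoe, Matrix.vecMul_transpose, hc,
      Matrix.vecMulVec_smul, Matrix.smul_vecMulVec]
  refine ⟨?_, hconj⟩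
  -- v 0 = 0 from N * N = 0
  obtain ⟨v, hv⟩ : ∃ v : Fin (n+2) → F, v = c • ((g⁻¹ : Matrix.SpecialLinearGroup (Fin (n + 2)) F) : Matrix (Fin (n + 2)) (Fin (n + 2)) F) *ᵥ a := ⟨_, rfl⟩
  rw [← hv] at hconj ⊢
  have hNN : Matrix.vecMulVec v (Pi.single (0 : Fin (n+2)) (1:F)) * Matrix.vecMulVec v (Pi.single (0 : Fin (n+2)) (1:F)) = 0 := by
    have h1 : Matrix.vecMulVec v (Pi.single (0 : Fin (n+2)) (1:F))
        = ((g⁻¹ : Matrix.SpecialLinearGroup (Fin (n + 2)) F) : Matrix (Fin (n + 2)) (Fin (n + 2)) F) * ((t : Matrix (Fin (n + 2)) (Fin (n + 2)) F) - 1) * (g : Matrix (Fin (n + 2)) (Fin (n + 2)) F) := by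
      have h3 : ((g⁻¹ : Matrix.SpecialLinearGroup (Fin (n + 2)) F) : Matrix (Fin (n + 2)) (Fin (n + 2)) F) * ((t : Matrix (Fin (n + 2)) (Fin (n + 2)) F) - 1) * (g : Matrix (Fin (n + 2)) (Fin (n + 2)) F)
          = ((g⁻¹ * t * g : Matrix.SpecialLinearGroup (Fin (n + 2)) F) : Matrix (Fin (n + 2)) (Fin (n + 2)) F) - 1 := by
        rw [mul_sub, sub_mul, mul_one, ← Matrix.SpecialLinearGroup.coe_mul, ← Matrix.SpecialLinearGroup.coe_mul,
          ← Matrix.SpecialLinearGroup.coe_mul, inv_mul_cancel, Matrix.SpecialLinearGroup.coe_one]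
      rw [h3, hconj]; abel
    rw [h1]
    have h4 : ((g : Matrix.SpecialLinearGroup (Fin (n + 2)) F) : Matrix (Fin (n + 2)) (Fin (n + 2)) F) * ((g⁻¹ : Matrix.SpecialLinearGroup (Fin (n + 2)) F) : Matrix (Fin (n + 2)) (Fin (n + 2)) F) = 1 := by
      rw [← Matrix.SpecialLinearGroup.coe_mul, mul_inv_cancel, Matrix.SpecialLinearGroup.coe_one]
    calc _ = ((g⁻¹ : Matrix.SpecialLinearGroup (Fin (n + 2)) F) : Matrix (Fin (n + 2)) (Fin (n + 2)) F) * (((t : Matrix (Fin (n + 2)) (Fin (n + 2)) F) - 1) * ((g : Matrix (Fin (n + 2)) (Fin (n + 2)) F) * ((g⁻¹ : Matrix.SpecialLinearGroup (Fin (n + 2)) F) : Matrix (Fin (n + 2)) (Fin (n + 2)) F)) * ((t : Matrix (Fin (n + 2)) (Fin (n + 2)) F) - 1)) * (g : Matrix (Fin (n + 2)) (Fin (n + 2)) F) := by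
          simp only [Matrix.mul_assoc]
      _ = 0 := by rw [h4, Matrix.mul_one, hsq, Matrix.mul_zero, Matrix.zero_mul]
  have h00 := congrFun (congrFun hNN 0) 0
  rw [Matrix.vecMulVec_mul_vecMulVec] at h00
  simp [Matrix.vecMulVec_apply] at h00
  exact h00

end Cfsg.Agent.S0839
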