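import Mathlib
import Cfsg.Prelude
import Cfsg.Statements.S0845
import Cfsg.Agent.Lib.Helper7.BSE
import Cfsg.Agent.Lib.Helper26.CohFrobA

set_option autoImplicit false
open Cfsg

namespace Cfsg.Agent.S0845

/-- Suppose a Sylow 2-subgroup S of the finite group G is generalized quaternion of order at least 16. Then G has a normal subgroup M of even order such that G / M is non-abelian, that is, M does not contain the commutator subgroup of G. -/
theorem result {G : Type*} [Group G] [Finite G] (S : Sylow 2 G) (n : ℕ) (e : (S : Subgroup G) ≃* QuaternionGroup (2 ^ (n + 2))) : ∃ M : Subgroup G, M.Normal ∧ Even (Nat.card M) ∧ ¬ commutator G ≤ M := by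
  classical
  haveI : Fintype G := Fintype.ofFinite G
  haveI : Fact (Nat.Prime 2) := ⟨Nat.prime_two⟩
  haveI hk0 : NeZero (2 ^ (n + 2)) := ⟨by positivity⟩
  obtain ⟨χ₁, χ₂, C, t₀, hdeg, hinvol, -⟩ := Cfsg.Agent.Lib.Helper7.BS.bs_kernel S n e
  -- an involution
  have h2G : 2 ∣ Nat.card G := by
    have h1 : Nat.card (S : Subgroup G) = 4 * 2 ^ (n + 2) := by
      rw [Nat.card_congr e.toEquiv, Nat.card_eq_fintype_card, QuaternionGroup.card]
    have h2 : Nat.card (S : Subgroup G) ∣ Nat.card G := Subgroup.card_subgroup_dvd_card _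
    exact dvd_trans ⟨2 * 2 ^ (n + 2), by rw [h1]; ring⟩ h2
  obtain ⟨z, hz⟩ := exists_prime_orderOf_dvd_card' (G := G) 2 h2G
  refine ⟨Cfsg.Agent.Lib.Helper4.charKer χ₁, inferInstance, ?_, ?_⟩
  · rw [even_iff_two_dvd]
    have hzM : z ∈ Cfsg.Agent.Lib.Helper4.charKer χ₁ := (hinvol z hz).1
    have := orderOf_dvd_natCard (⟨z, hzM⟩ : Cfsg.Agent.Lib.Helper4.charKer χ₁)
    rwa [Subgroup.orderOf_mk, hz] at this
  · intro hle
    have h1 : (χ₁ : G → ℂ) 1 = 1 := by
      apply Cfsg.Agent.Lib.Helper26.irr_degree_one_of_commutator _ χ₁.2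
      intro x y
      have hmem : x * y * x⁻¹ * y⁻¹ ∈ commutator G := by
        rw [commutator_def, ← commutatorElement_def]
        exact Subgroup.commutator_mem_commutator (Subgroup.mem_top x) (Subgroup.mem_top y)
      exact hle hmem
    obtain ⟨d₂, hd₂pos, hd₂⟩ := Cfsg.Agent.Lib.Helper26.irr_degree χ₂.2
    rw [hdeg, hd₂] at h1
    have h2 : ((d₂ + 1 : ℕ) : ℂ) = ((1 : ℕ) : ℂ) := by push_cast; exact h1
    have h3 := Nat.cast_injective h2
    omega


end Cfsg.Agent.S0845
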