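import Mathlib
import Cfsg.Prelude
import Cfsg.Statements.S0846
import Cfsg.Agent.Lib.Helper7.BSF

set_option autoImplicit false
open Cfsg

namespace Cfsg.Agent.S0846

/-- Suppose a Sylow 2-subgroup S of the finite group G is generalized quaternion of order at least 16. Then every Sylow 2-subgroup of the subgroup generated by the involutions of G is cyclic. -/
theorem result {G : Type*} [Group G] [Finite G] (S : Sylow 2 G) (n : ℕ) (e : (S : Subgroup G) ≃* QuaternionGroup (2 ^ (n + 2))) (Q : Sylow 2 ↥(Subgroup.closure {g : G | orderOf g = 2})) : IsCyclic Q := by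
  classical
  haveI : Fact (Nat.Prime 2) := ⟨Nat.prime_two⟩
  obtain ⟨M, hMn, hinvol, hab⟩ := Cfsg.Agent.Lib.Helper7.BS.bs_normal S n e
  have hinv := fun K hK => Cfsg.Agent.Lib.Helper3.unique_inv_of_isPGroup S
    (Cfsg.Agent.Lib.Helper3.unique_inv_sylow S n e) K hK
  have hHM : Subgroup.closure {g : G | orderOf g = 2} ≤ M := by
    rw [Subgroup.closure_le]
    intro u hu
    exact hinvol u hu
  have hR : IsPGroup 2 ((Q : Subgroup ↥(Subgroup.closure {g : G | orderOf g = 2})).map
      (Subgroup.closure {g : G | orderOf g = 2}).subtype) := Q.isPGroup'.map _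
  have hRM : (Q : Subgroup ↥(Subgroup.closure {g : G | orderOf g = 2})).map
      (Subgroup.closure {g : G | orderOf g = 2}).subtype ≤ M := by
    rintro _ ⟨x, -, rfl⟩
    exact hHM x.2
  have hcyc : IsCyclic ((Q : Subgroup ↥(Subgroup.closure {g : G | orderOf g = 2})).map
      (Subgroup.closure {g : G | orderOf g = 2}).subtype) :=
    Cfsg.Agent.Lib.Helper3.isCyclic_of_abelian_two_subgroup hinv _ hR (hab _ hRM hR)
  exact ((Subgroup.equivMapOfInjective (Q : Subgroup ↥(Subgroup.closure {g : G | orderOf g = 2}))
    (Subgroup.closure {g : G | orderOf g = 2}).subtype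
    (Subgroup.subtype_injective _)).isCyclic).mpr hcyc


end Cfsg.Agent.S0846
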