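import Cfsg.Statements.S0849
import Cfsg.Agent.Lib.Helper26.CharBasic

set_option autoImplicit false
open Cfsg

namespace Cfsg.Agent.S0849

/-- Let H be a subgroup of a finite group G and S a subset of H that is mapped to itself under conjugation by H, is disjoint from its conjugate by any element outside H, and is closed under inverses. Let φ be a class function of H vanishing on H away from S, and let u, v be involutions of G. Then the sum of the induced function of φ over all products a * b with a conjugate to u and b conjugate to v equals the index of H times the sum of φ (a * b) over such pairs with a and b in H. -/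
theorem result {G : Type*} [Group G] [Fintype G] (H : Subgroup G) (S : Set G) (hSH : S ⊆ H) (hHS : ∀ h ∈ H, ∀ s ∈ S, h * s * h⁻¹ ∈ S) (hTI : ∀ g : G, g ∉ H → ∀ s ∈ S, g * s * g⁻¹ ∉ S) (hinv : ∀ s ∈ S, s⁻¹ ∈ S) (φ : H → ℂ) (hφ : Cfsg.IsClassFunction H φ) (hφS : ∀ x : H, (x : G) ∉ S → φ x = 0) (u v : G) (hu : orderOf u = 2) (hv : orderOf v = 2) : ∑ᶠ p ∈ {p : G × G | IsConj u p.1 ∧ IsConj v p.2}, Cfsg.indFun H φ (p.1 * p.2) = (H.index : ℂ) * ∑ᶠ p ∈ {p : H × H | IsConj u (p.1 : G) ∧ IsConj v (p.2 : G)}, φ (p.1 * p.2) := by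
  classical
  have : Fintype H := Fintype.ofFinite H
  have hHne : (Nat.card H : ℂ) ≠ 0 := Nat.cast_ne_zero.mpr Nat.card_pos.ne'
  -- convert the finsums
  have hL : ∑ᶠ p ∈ {p : G × G | IsConj u p.1 ∧ IsConj v p.2}, Cfsg.indFun H φ (p.1 * p.2) =
      ∑ p : G × G, if IsConj u p.1 ∧ IsConj v p.2 then Cfsg.indFun H φ (p.1 * p.2) else 0 := by
    rw [finsum_mem_eq_sum_of_subset (t := Finset.univ.filter
      (fun p : G × G => IsConj u p.1 ∧ IsConj v p.2))]
    · rw [Finset.sum_filter]
    · intro p hp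
      simpa using hp.1
    · intro p hp
      simpa using hp
  have hR : ∑ᶠ p ∈ {p : H × H | IsConj u (p.1 : G) ∧ IsConj v (p.2 : G)}, φ (p.1 * p.2) =
      ∑ p : H × H, if IsConj u (p.1 : G) ∧ IsConj v (p.2 : G) then φ (p.1 * p.2) else 0 := by
    rw [finsum_mem_eq_sum_of_subset (t := Finset.univ.filter
      (fun p : H × H => IsConj u (p.1 : G) ∧ IsConj v (p.2 : G)))]
    · rw [Finset.sum_filter]
    · intro p hp
      simpa using hp.1
    · intro p hp
      simpa using hp
  rw [hL, hR]
  set φ0 := Cfsg.extendByZero H φ with hφ0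
  -- step 1/2: unfold indFun and reindex
  have h1 : ∀ p : G × G, (if IsConj u p.1 ∧ IsConj v p.2 then Cfsg.indFun H φ (p.1 * p.2) else 0) =
      (Nat.card H : ℂ)⁻¹ * ∑ x : G,
        if IsConj u p.1 ∧ IsConj v p.2 then φ0 (x⁻¹ * (p.1 * p.2) * x) else 0 := by
    intro p
    by_cases hp : IsConj u p.1 ∧ IsConj v p.2
    · simp only [if_pos hp]
      rfl
    · simp only [if_neg hp, Finset.sum_const_zero, mul_zero]
  simp only [h1]
  rw [← Finset.mul_sum, Finset.sum_comm]
  have h2 : ∀ x : G, ∑ p : G × G,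
      (if IsConj u p.1 ∧ IsConj v p.2 then φ0 (x⁻¹ * (p.1 * p.2) * x) else 0) =
      ∑ p : G × G, if IsConj u p.1 ∧ IsConj v p.2 then φ0 (p.1 * p.2) else 0 := by
    intro x
    let e : G × G ≃ G × G :=
      { toFun := fun p => (x * p.1 * x⁻¹, x * p.2 * x⁻¹)
        invFun := fun p => (x⁻¹ * p.1 * x, x⁻¹ * p.2 * x)
        left_inv := by intro p; ext <;> simp [mul_assoc]
        right_inv := by intro p; ext <;> simp [mul_assoc] }
    rw [← Equiv.sum_comp e]
    refine Finset.sum_congr rfl fun p _ => ?_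
    have hc1 : IsConj u (x * p.1 * x⁻¹) ↔ IsConj u p.1 := by
      have hx : IsConj p.1 (x * p.1 * x⁻¹) := isConj_iff.mpr ⟨x, rfl⟩
      exact ⟨fun h => h.trans hx.symm, fun h => h.trans hx⟩
    have hc2 : IsConj v (x * p.2 * x⁻¹) ↔ IsConj v p.2 := by
      have hx : IsConj p.2 (x * p.2 * x⁻¹) := isConj_iff.mpr ⟨x, rfl⟩
      exact ⟨fun h => h.trans hx.symm, fun h => h.trans hx⟩
    have hprod : x⁻¹ * (x * p.1 * x⁻¹ * (x * p.2 * x⁻¹)) * x = p.1 * p.2 := by group
    show (if IsConj u (x * p.1 * x⁻¹) ∧ IsConj v (x * p.2 * x⁻¹) then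
      φ0 (x⁻¹ * (x * p.1 * x⁻¹ * (x * p.2 * x⁻¹)) * x) else 0) = _
    rw [hprod]
    simp only [hc1, hc2]
  simp only [h2]
  rw [Finset.sum_const, Finset.card_univ, nsmul_eq_mul]
  -- step 3: restrict to H × H
  have hu2 : u * u = 1 := by
    have := pow_orderOf_eq_one u
    rw [hu, pow_two] at this
    exact this
  have h3 : ∑ p : H × H, (if IsConj u (p.1 : G) ∧ IsConj v (p.2 : G) then φ (p.1 * p.2) else 0) =
      ∑ p : G × G, if IsConj u p.1 ∧ IsConj v p.2 then φ0 (p.1 * p.2) else 0 := by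
    apply Fintype.sum_of_injective (fun q : H × H => ((q.1 : G), (q.2 : G)))
    · intro q1 q2 h
      have h1 := congrArg Prod.fst h
      have h2 := congrArg Prod.snd h
      exact Prod.ext (Subtype.ext h1) (Subtype.ext h2)
    · intro p hp
      by_cases hP : IsConj u p.1 ∧ IsConj v p.2
      · rw [if_pos hP]
        by_contra hne
        apply hp
        -- p.1 * p.2 ∈ H and in S
        have hmemH : p.1 * p.2 ∈ H := by
          by_contra hnot
          exact hne (Cfsg.Agent.Lib.Helper26.extendByZero_apply_not_mem H φ _ hnot)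
        have hval : φ0 (p.1 * p.2) = φ ⟨p.1 * p.2, hmemH⟩ :=
          Cfsg.Agent.Lib.Helper26.extendByZero_apply_mem H φ _ hmemH
        have hS : p.1 * p.2 ∈ S := by
          by_contra hnot
          apply hne
          rw [hval]
          exact hφS ⟨p.1 * p.2, hmemH⟩ hnot
        -- p.1 is an involution
        obtain ⟨c1, hc1⟩ := isConj_iff.mp hP.1
        have ha2 : p.1 * p.1 = 1 := by
          rw [← hc1]
          calc c1 * u * c1⁻¹ * (c1 * u * c1⁻¹) = c1 * (u * u) * c1⁻¹ := by group
            _ = 1 := by rw [hu2]; group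
        have hainv : p.1⁻¹ = p.1 := inv_eq_of_mul_eq_one_left ha2
        obtain ⟨c2, hc2⟩ := isConj_iff.mp hP.2
        have hv2 : v * v = 1 := by
          have := pow_orderOf_eq_one v
          rw [hv, pow_two] at this
          exact this
        have hb2 : p.2 * p.2 = 1 := by
          rw [← hc2]
          calc c2 * v * c2⁻¹ * (c2 * v * c2⁻¹) = c2 * (v * v) * c2⁻¹ := by group
            _ = 1 := by rw [hv2]; group
        have hbinv : p.2⁻¹ = p.2 := inv_eq_of_mul_eq_one_left hb2
        have hconj : p.1 * (p.1 * p.2) * p.1⁻¹ = (p.1 * p.2)⁻¹ := by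
          rw [mul_inv_rev, hainv, hbinv, ← mul_assoc, ha2, one_mul]
        have haH : p.1 ∈ H := by
          by_contra hnot
          have := hTI p.1 hnot (p.1 * p.2) hS
          rw [hconj] at this
          exact this (hinv _ hS)
        have hbH : p.2 ∈ H := by
          have : p.2 = p.1⁻¹ * (p.1 * p.2) := by group
          rw [this]
          exact H.mul_mem (H.inv_mem haH) hmemH
        exact ⟨(⟨p.1, haH⟩, ⟨p.2, hbH⟩), rfl⟩
      · rw [if_neg hP]
    · intro q
      show _ = if IsConj u (q.1 : G) ∧ IsConj v (q.2 : G) then φ0 ((q.1 : G) * (q.2 : G)) else 0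
      have : φ0 ((q.1 : G) * (q.2 : G)) = φ (q.1 * q.2) :=
        Cfsg.Agent.Lib.Helper26.extendByZero_apply_coe H φ (q.1 * q.2)
      rw [this]
  rw [h3, ← mul_assoc]
  congr 1
  have hidx := Subgroup.card_mul_index H
  rw [← Nat.card_eq_fintype_card, ← hidx]
  push_cast
  field_simp

end Cfsg.Agent.S0849
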