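import Cfsg.Statements.S0850
import Cfsg.Agent.Lib.Helper26.TIInd
import Cfsg.Agent.Lib.Helper26.PFixed

set_option autoImplicit false
open Cfsg

namespace Cfsg.Agent.S0850
open Cfsg.Agent.Lib.Helper26

/-- Let K be a subgroup of the finite group G that meets each conjugate by an element outside its normalizer N trivially, is properly contained in N, and contains the centralizer of each of its non-identity elements (a T.I. subgroup with Frobenius normalizer). Then no element of N outside K is conjugate in G to an element of K, and for every class function ϑ of N that vanishes on N away from K and at the identity, the function induced from ϑ to G agrees with ϑ on all of N. -/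
theorem result {G : Type*} [Group G] [Fintype G] (K : Subgroup G) (hTI : ∀ g : G, g ∉ Subgroup.normalizer (K : Set G) → ∀ k ∈ K, g * k * g⁻¹ ∈ K → k = 1) (hlt : K < Subgroup.normalizer (K : Set G)) (hC : ∀ k ∈ K, k ≠ 1 → Subgroup.centralizer ({k} : Set G) ≤ K) : (∀ x ∈ Subgroup.normalizer (K : Set G), x ∉ K → ∀ g : G, g * x * g⁻¹ ∉ K) ∧ ∀ (ϑ : Subgroup.normalizer (K : Set G) → ℂ), Cfsg.IsClassFunction (Subgroup.normalizer (K : Set G)) ϑ → (∀ x : Subgroup.normalizer (K : Set G), (x : G) ∉ K → ϑ x = 0) → ϑ 1 = 0 → ∀ x : Subgroup.normalizer (K : Set G), Cfsg.indFun (Subgroup.normalizer (K : Set G)) ϑ x = ϑ x := by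
  classical
  set N := Subgroup.normalizer (K : Set G) with hN
  have part1 : ∀ x ∈ N, x ∉ K → ∀ g : G, g * x * g⁻¹ ∉ K := by
    intro x hxN hxK g hk
    have hx1 : x ≠ 1 := fun h => hxK (h ▸ K.one_mem)
    have hgN : g ∉ N := by
      intro hg
      apply hxK
      have := (Subgroup.mem_normalizer_iff.mp (N.inv_mem hg) (g * x * g⁻¹)).mp hk
      have h2 : g⁻¹ * (g * x * g⁻¹) * g⁻¹⁻¹ = x := by group
      rwa [h2] at this
    have hint : ∀ y ∈ K, g * y * g⁻¹ ∈ K → y = 1 := hTI g hgN
    have hord : orderOf x ≠ 1 := by rwa [Ne, orderOf_eq_one_iff]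
    obtain ⟨p, hp, hpdvd⟩ := Nat.exists_prime_and_dvd hord
    haveI := Fact.mk hp
    obtain ⟨m, hm⟩ := hpdvd
    have hm0 : m ≠ 0 := by
      rintro rfl
      rw [mul_zero] at hm
      exact (orderOf_pos x).ne' hm
    have hx₀ord : orderOf (x ^ m) = p := by
      rw [orderOf_pow_of_dvd hm0 (Dvd.intro_left p hm.symm), hm,
        Nat.mul_div_cancel _ (Nat.pos_of_ne_zero hm0)]
    have hx₀N : x ^ m ∈ N := N.pow_mem hxN m
    have hk₀ : g * x ^ m * g⁻¹ = (g * x * g⁻¹) ^ m := by rw [conj_pow]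
    have hk₀K : g * x ^ m * g⁻¹ ∈ K := hk₀ ▸ K.pow_mem hk m
    have hx₀1 : x ^ m ≠ 1 := by
      intro h
      rw [h, orderOf_one] at hx₀ord
      exact hp.one_lt.ne hx₀ord
    have hk₀1 : g * x ^ m * g⁻¹ ≠ 1 := by
      intro h
      apply hx₀1
      have : x ^ m = g⁻¹ * (g * x ^ m * g⁻¹) * g := by group
      rw [this, h]; group
    have hpK : p ∣ Nat.card K := by
      have h1 : (⟨g * x ^ m * g⁻¹, hk₀K⟩ : K) ^ p = 1 := by
        apply Subtype.ext
        rw [Subgroup.coe_pow, Subgroup.coe_one]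
        show (g * x ^ m * g⁻¹) ^ p = 1
        rw [conj_pow, ← hx₀ord, pow_orderOf_eq_one]; group
      have h2 : (⟨g * x ^ m * g⁻¹, hk₀K⟩ : K) ≠ 1 := by
        intro h
        exact hk₀1 (congrArg Subtype.val h)
      rw [← orderOf_eq_prime h1 h2]
      exact orderOf_dvd_natCard _
    have hpg : IsPGroup p (Subgroup.zpowers (x ^ m)) := by
      apply IsPGroup.of_card (n := 1)
      rw [Nat.card_zpowers, hx₀ord, pow_one]
    obtain ⟨y, hyK, hy1, hcomm⟩ := exists_ne_one_commute_of_normalizes K (x ^ m) p hx₀N hpg hpK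
    have hmem : g * y * g⁻¹ ∈ K := by
      apply hC _ hk₀K hk₀1
      rw [Subgroup.mem_centralizer_iff]
      intro z hz
      rw [Set.mem_singleton_iff] at hz
      rw [hz]
      calc g * x ^ m * g⁻¹ * (g * y * g⁻¹) = g * (x ^ m * y) * g⁻¹ := by group
        _ = g * (y * x ^ m) * g⁻¹ := by rw [hcomm]
        _ = g * y * g⁻¹ * (g * x ^ m * g⁻¹) := by group
    exact hy1 (hint y hyK hmem)
  refine ⟨part1, ?_⟩
  intro ϑ hϑ hoff h1 x
  by_cases hxK : (x : G) ∈ K
  · by_cases hx1 : x = 1
    · subst hx1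
      rw [Subgroup.coe_one, indFun_one, h1, mul_zero, mul_zero]
    · exact indFun_eq_on_ti (K : Set G) N (fun g hg t ht => hTI g hg t ht) ϑ hϑ hoff x hxK hx1
  · rw [hoff x hxK]
    unfold indFun
    rw [Finset.sum_eq_zero, mul_zero]
    intro g _
    by_cases hmem : g⁻¹ * (x : G) * g ∈ N
    · rw [extendByZero_apply_mem N ϑ _ hmem]
      apply hoff
      have := part1 x x.2 hxK g⁻¹
      simpa using this
    · exact extendByZero_apply_not_mem N ϑ _ hmem

end Cfsg.Agent.S0850
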