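import Cfsg.Statements.S0851
import Mathlib
import Cfsg.Agent.Lib.Helper26.BrauerSuzuki

set_option autoImplicit false
open Cfsg

namespace Cfsg.Agent.S0851
open Cfsg.Agent.Lib.Helper26

/-- Let K be a subgroup of the finite group G that meets each conjugate by an element outside its normalizer N trivially, is properly contained in N, and contains the centralizer of each of its non-identity elements (a T.I. subgroup with Frobenius normalizer). Suppose K is abelian, let e be the index of K in N, and call an irreducible character of N relevant when it takes at some element of K a value different from its degree. Then either there is exactly one relevant character and K is an elementary abelian p-group of order e + 1 for some prime p, or there are a sign ε and an injective map f from the relevant characters to the irreducible characters of G such that inducing χ - ξ to G gives ε (f χ - f ξ) for all relevant χ and ξ. -/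
theorem result {G : Type*} [Group G] [Fintype G] (K : Subgroup G) (hTI : ∀ g : G, g ∉ Subgroup.normalizer (K : Set G) → ∀ k ∈ K, g * k * g⁻¹ ∈ K → k = 1) (hlt : K < Subgroup.normalizer (K : Set G)) (hC : ∀ k ∈ K, k ≠ 1 → Subgroup.centralizer ({k} : Set G) ≤ K) (hab : ∀ a ∈ K, ∀ b ∈ K, a * b = b * a) : (Nat.card {χ : Cfsg.IrrCharacter (Subgroup.normalizer (K : Set G)) // ∃ k : Subgroup.normalizer (K : Set G), (k : G) ∈ K ∧ (χ : ↥(Subgroup.normalizer (K : Set G)) → ℂ) k ≠ (χ : ↥(Subgroup.normalizer (K : Set G)) → ℂ) 1} = 1 ∧ ∃ p : ℕ, p.Prime ∧ Cfsg.IsElementaryAbelian p K ∧ Nat.card K = (K.subgroupOf (Subgroup.normalizer (K : Set G))).index + 1) ∨ ∃ (ε : ℂ) (f : {χ : Cfsg.IrrCharacter (Subgroup.normalizer (K : Set G)) // ∃ k : Subgroup.normalizer (K : Set G), (k : G) ∈ K ∧ (χ : ↥(Subgroup.normalizer (K : Set G)) → ℂ) k ≠ (χ : ↥(Subgroup.normalizer (K : Set G)) → ℂ) 1} → Cfsg.IrrCharacter G), (ε = 1 ∨ ε = -1) ∧ Function.Injective f ∧ ∀ χ ξ, Cfsg.indFun (Subgroup.normalizer (K : Set G)) ((χ.1 : ↥(Subgroup.normalizer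 (K : Set G)) → ℂ) - (ξ.1 : ↥(Subgroup.normalizer (K : Set G)) → ℂ)) = ε • ((f χ : G → ℂ) - (f ξ : G → ℂ)) := by
  classical
  right
  haveI : Fintype ↥(Subgroup.normalizer (K : Set G)) := Fintype.ofFinite _
  haveI hAn : (K.subgroupOf (Subgroup.normalizer (K : Set G))).Normal :=
    Subgroup.normal_in_normalizer
  have hfpf : ∀ x : ↥(Subgroup.normalizer (K : Set G)),
      x ∉ K.subgroupOf (Subgroup.normalizer (K : Set G)) →
      ∀ k ∈ K.subgroupOf (Subgroup.normalizer (K : Set G)), x * k = k * x → k = 1 := by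
    intro x hx k hk hcomm
    by_contra hk1
    apply hx
    have hk1' : (k : G) ≠ 1 := fun h => hk1 (Subtype.ext h)
    have hle := hC (k : G) (Subgroup.mem_subgroupOf.mp hk) hk1'
    apply Subgroup.mem_subgroupOf.mpr
    apply hle
    rw [Subgroup.mem_centralizer_iff]
    intro h hh
    rw [Set.mem_singleton_iff] at hh
    subst hh
    exact (congrArg Subtype.val hcomm).symm
  have hab' : ∀ a ∈ K.subgroupOf (Subgroup.normalizer (K : Set G)),
      ∀ b ∈ K.subgroupOf (Subgroup.normalizer (K : Set G)), a * b = b * a :=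
    fun a ha b hb => Subtype.ext (hab a ha b hb)
  by_cases htwo : ∃ i j : {χ : Cfsg.IrrCharacter (Subgroup.normalizer (K : Set G)) //
      ∃ k : Subgroup.normalizer (K : Set G), (k : G) ∈ K ∧
        (χ : ↥(Subgroup.normalizer (K : Set G)) → ℂ) k ≠
          (χ : ↥(Subgroup.normalizer (K : Set G)) → ℂ) 1}, i ≠ j
  · obtain ⟨i₀, i₁, h01⟩ := htwo
    obtain ⟨ε, θ, hε, hθ, hθinj, hβ⟩ := exceptional_coherent (Subgroup.normalizer (K : Set G))
      (K : Set G) hTI
      (fun i : {χ : Cfsg.IrrCharacter (Subgroup.normalizer (K : Set G)) //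
        ∃ k : Subgroup.normalizer (K : Set G), (k : G) ∈ K ∧
          (χ : ↥(Subgroup.normalizer (K : Set G)) → ℂ) k ≠
            (χ : ↥(Subgroup.normalizer (K : Set G)) → ℂ) 1} =>
        (i.1 : ↥(Subgroup.normalizer (K : Set G)) → ℂ))
      (fun i => i.1.2)
      (fun i j h => Subtype.ext (Subtype.ext h))
      (fun i x hx => relevant_vanish (K.subgroupOf (Subgroup.normalizer (K : Set G))) hfpf
        i.1.2 i.2 x hx)
      (fun i j => by
        rw [relevant_degree (K.subgroupOf (Subgroup.normalizer (K : Set G))) hfpf hab' i.1.2 i.2,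
          relevant_degree (K.subgroupOf (Subgroup.normalizer (K : Set G))) hfpf hab' j.1.2 j.2])
      i₀ i₁ h01.symm
    exact ⟨ε, fun i => ⟨θ i, hθ i⟩, hε, fun i j h => hθinj (congrArg Subtype.val h),
      fun χ ξ => hβ χ ξ⟩
  · push_neg at htwo
    refine ⟨1, fun _ => ⟨fun _ => 1, Cfsg.Agent.Lib.Helper4.isIrrCharacter_one⟩, Or.inl rfl,
      fun i j _ => htwo i j, ?_⟩
    intro χ ξ
    rw [htwo χ ξ, sub_self, sub_self, smul_zero]
    have := indFun_smul (Subgroup.normalizer (K : Set G)) 0
      (0 : ↥(Subgroup.normalizer (K : Set G)) → ℂ)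
    simpa using this

end Cfsg.Agent.S0851
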