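import Cfsg.Statements.S0852
import Cfsg.Agent.Lib.Helper26.TIFN

set_option autoImplicit false
open Cfsg

namespace Cfsg.Agent.S0852
open Cfsg.Agent.Lib.Helper26

theorem aux {G : Type*} [Group G] [Fintype G] (K N : Subgroup G) (hKN : K ≤ N)
    (hnorm : ∀ n ∈ N, ∀ k ∈ K, n * k * n⁻¹ ∈ K)
    (hC : ∀ k ∈ K, k ≠ 1 → Subgroup.centralizer ({k} : Set G) ≤ K) [Fintype ↥N]
    (S : Set (↥N → ℂ))
    (hS : S = {χ : ↥N → ℂ | Cfsg.IsIrrCharacter ↥N χ ∧ ∃ k : ↥N, (k : G) ∈ K ∧ χ k ≠ χ 1})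
    (htwo : ∃ χ ∈ S, ∃ ξ ∈ S, χ ≠ ξ) (star : (↥N → ℂ) → (G → ℂ))
    (hstar : Cfsg.IsLinearIsometryOn (Cfsg.zspan S) star)
    (hext : ∀ α ∈ Cfsg.zspanOn S ({1}ᶜ : Set ↥N), star α = Cfsg.indFun N α) (ψ : G → ℂ)
    (hψ : Cfsg.IsIrrCharacter G ψ) :
    (∃ χ ∈ S, ψ = star χ ∨ ψ = -star χ) ↔ ∃ a ∈ K, ∃ b ∈ K, a ≠ 1 ∧ b ≠ 1 ∧ ψ a ≠ ψ b := by
  classical
  haveI hK'n : (K.subgroupOf N).Normal := by
    constructor
    intro n hn g
    rw [Subgroup.mem_subgroupOf] at hn ⊢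
    have := hnorm (g : G) g.2 (n : G) hn
    simpa using this
  have hfpf' : ∀ x : N, x ∉ K.subgroupOf N → ∀ k ∈ K.subgroupOf N, x * k = k * x → k = 1 := by
    intro x hx k hk hcomm
    by_contra hk1
    apply hx
    rw [Subgroup.mem_subgroupOf] at hk ⊢
    have hk1' : (k : G) ≠ 1 := fun h => hk1 (Subtype.ext h)
    apply hC (k : G) hk hk1'
    rw [Subgroup.mem_centralizer_iff]
    intro z hz
    rw [Set.mem_singleton_iff] at hz
    rw [hz]
    have := congrArg Subtype.val hcomm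
    simpa using this.symm
  have hSmem : ∀ χ, χ ∈ S ↔ IsIrrCharacter N χ ∧ ∃ k : N, (k : G) ∈ K ∧ χ k ≠ χ 1 := by
    intro χ; rw [hS]; exact Iff.rfl
  have hirrS : ∀ χ ∈ S, IsIrrCharacter N χ := fun χ h => ((hSmem χ).mp h).1
  have hrelS : ∀ χ ∈ S, ∃ k ∈ K.subgroupOf N, χ k ≠ χ 1 := by
    intro χ h
    obtain ⟨k, hk, hne⟩ := ((hSmem χ).mp h).2
    exact ⟨k, Subgroup.mem_subgroupOf.mpr hk, hne⟩
  obtain ⟨hadd, hsmul, hiso, hgen⟩ := hstar
  have hB : ∀ (f : G → ℂ), IsClassFunction G f → ∀ η ∈ S, ∀ ξ ∈ S,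
      ξ 1 * (classInner (f ∘ N.subtype) η - classInner f (star η)) =
        η 1 * (classInner (f ∘ N.subtype) ξ - classInner f (star ξ)) := by
    intro f hf η hη ξ hξ
    obtain ⟨dη, _, hdη⟩ := irr_degree (hirrS η hη)
    obtain ⟨dξ, _, hdξ⟩ := irr_degree (hirrS ξ hξ)
    have hηm : η ∈ zspan S := subset_zspan S hη
    have hξm : ξ ∈ zspan S := subset_zspan S hξ
    have h1 : ((dξ : ℤ) • η) ∈ zspan S := zsmul_mem_zspan _ hηm
    have h2 : ((-(dη : ℤ)) • ξ) ∈ zspan S := zsmul_mem_zspan _ hξm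
    have hα1 : ((dξ : ℤ) • η + (-(dη : ℤ)) • ξ) 1 = 0 := by
      show (dξ : ℤ) • η 1 + (-(dη : ℤ)) • ξ 1 = 0
      rw [hdη, hdξ, zsmul_eq_mul, zsmul_eq_mul]; push_cast; ring
    have hαE := mem_zspanOn_compl_one.mpr ⟨add_mem_zspan h1 h2, hα1⟩
    have h3 := hext _ hαE
    rw [hadd _ h1 _ h2, hsmul η hηm, hsmul ξ hξm] at h3
    have h4 : classInner f ((dξ : ℤ) • star η + (-(dη : ℤ)) • star ξ) =
        classInner (f ∘ N.subtype) ((dξ : ℤ) • η + (-(dη : ℤ)) • ξ) := by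
      rw [h3, classInner_indFun_right' N f hf]
    simp only [classInner_add_right, classInner_zsmul_right] at h4
    rw [hdη, hdξ]
    push_cast at h4 ⊢
    linear_combination (-1 : ℂ) * h4
  obtain ⟨ξ₀, hξ₀, ξ₁, hξ₁, hξ₀₁⟩ := htwo
  have hsolve : ∀ (f : G → ℂ), IsClassFunction G f → ∃ t : ℂ, ∀ η ∈ S,
      classInner (f ∘ N.subtype) η - classInner f (star η) = t * η 1 := by
    intro f hf
    obtain ⟨d₀, hd₀, hd₀'⟩ := irr_degree (hirrS ξ₀ hξ₀)
    have hd₀ne : ξ₀ 1 ≠ 0 := by rw [hd₀']; exact_mod_cast hd₀.ne'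
    refine ⟨(classInner (f ∘ N.subtype) ξ₀ - classInner f (star ξ₀)) / ξ₀ 1, ?_⟩
    intro η hη
    have := hB f hf η hη ξ₀ hξ₀
    field_simp
    linear_combination this
  have hψcf : IsClassFunction G ψ := isClassFunction_of_isIrrCharacter hψ
  have hrescf : ∀ f : G → ℂ, IsClassFunction G f → IsClassFunction N (f ∘ N.subtype) := by
    intro f hf g h
    show f ((h * g * h⁻¹ : N) : G) = f (g : G)
    rw [Subgroup.coe_mul, Subgroup.coe_mul, Subgroup.coe_inv]
    exact hf _ _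
  constructor
  · -- (⟹)
    rintro ⟨χ₀, hχ₀, hψeq⟩
    by_contra hcon
    push Not at hcon
    have hf : IsClassFunction G (star χ₀) :=
      isClassFunction_of_isGeneralizedCharacter (hgen χ₀ (subset_zspan S hχ₀))
    have hfconst : ∀ a ∈ K, ∀ b ∈ K, a ≠ 1 → b ≠ 1 → star χ₀ a = star χ₀ b := by
      intro a ha b hb ha1 hb1
      have h := hcon a ha b hb ha1 hb1
      rcases hψeq with h' | h'
      · rw [← h']; exact h
      · have h2 : star χ₀ = -ψ := by rw [h', neg_neg]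
        rw [h2, Pi.neg_apply, Pi.neg_apply, h]
    obtain ⟨t, ht⟩ := hsolve (star χ₀) hf
    have hcf' : IsClassFunction N ((star χ₀) ∘ N.subtype - χ₀) := by
      intro g h
      rw [Pi.sub_apply, Pi.sub_apply, hrescf _ hf g h,
        isClassFunction_of_isIrrCharacter (hirrS χ₀ hχ₀) g h]
    have hcoef : ∀ η : N → ℂ, IsIrrCharacter N η → (∃ k ∈ K.subgroupOf N, η k ≠ η 1) →
        classInner ((star χ₀) ∘ N.subtype - χ₀) η = t * η 1 := by
      intro η hη hrel
      have hηS : η ∈ S := by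
        rw [hSmem]
        obtain ⟨k, hk, hne⟩ := hrel
        exact ⟨hη, k, Subgroup.mem_subgroupOf.mp hk, hne⟩
      rw [classInner_sub_left, ← ht η hηS, hiso χ₀ (subset_zspan S hχ₀) η (subset_zspan S hηS)]
    -- χ₀ constant on K \ {1}
    obtain ⟨ξ, hξ, hξne⟩ : ∃ ξ ∈ S, χ₀ ≠ ξ := by
      by_cases h : χ₀ = ξ₀
      · exact ⟨ξ₁, hξ₁, fun h' => hξ₀₁ (h.symm.trans h')⟩
      · exact ⟨ξ₀, hξ₀, h⟩
    apply rel_not_const (K.subgroupOf N) hfpf' (hirrS χ₀ hχ₀) (hrelS χ₀ hχ₀) (hirrS ξ hξ)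
      (hrelS ξ hξ) hξne
    intro k hk k' hk' hk1 hk'1
    have h1 := const_on_of_coeff (K.subgroupOf N) _ hcf' t hcoef k k' hk hk' hk1 hk'1
    have h2 := hfconst (k : G) (Subgroup.mem_subgroupOf.mp hk) (k' : G)
      (Subgroup.mem_subgroupOf.mp hk') (fun h => hk1 (Subtype.ext h)) (fun h => hk'1 (Subtype.ext h))
    rw [Pi.sub_apply, Pi.sub_apply] at h1
    have h3 : (star χ₀ ∘ N.subtype) k = (star χ₀ ∘ N.subtype) k' := h2
    rw [h3] at h1
    exact sub_right_injective h1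
  · -- (⟸)
    rintro ⟨a, ha, b, hb, ha1, hb1, hab⟩
    by_contra hno
    push Not at hno
    have h0 : ∀ χ ∈ S, classInner ψ (star χ) = 0 := by
      intro χ hχ
      have hn : classInner (star χ) (star χ) = 1 := by
        rw [hiso χ (subset_zspan S hχ) χ (subset_zspan S hχ),
          classInner_irr (hirrS χ hχ) (hirrS χ hχ), if_pos rfl]
      obtain ⟨μ, hμ, h | h⟩ := genChar_norm_one (hgen χ (subset_zspan S hχ)) hn
      · rw [h, classInner_irr hψ hμ, if_neg]
        intro h'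
        exact (hno χ hχ).1 (h'.trans h.symm)
      · rw [h, classInner_neg_right, classInner_irr hψ hμ, if_neg, neg_zero]
        intro h'
        apply (hno χ hχ).2
        rw [h, neg_neg]; exact h'
    obtain ⟨t, ht⟩ := hsolve ψ hψcf
    have hcoef : ∀ η : N → ℂ, IsIrrCharacter N η → (∃ k ∈ K.subgroupOf N, η k ≠ η 1) →
        classInner (ψ ∘ N.subtype) η = t * η 1 := by
      intro η hη hrel
      have hηS : η ∈ S := by
        rw [hSmem]
        obtain ⟨k, hk, hne⟩ := hrel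
        exact ⟨hη, k, Subgroup.mem_subgroupOf.mp hk, hne⟩
      rw [← ht η hηS, h0 η hηS, sub_zero]
    have h1 := const_on_of_coeff (K.subgroupOf N) _ (hrescf ψ hψcf) t hcoef
      ⟨a, hKN ha⟩ ⟨b, hKN hb⟩ (Subgroup.mem_subgroupOf.mpr ha) (Subgroup.mem_subgroupOf.mpr hb)
      (fun h => ha1 (congrArg Subtype.val h)) (fun h => hb1 (congrArg Subtype.val h))
    exact hab h1


/-- Let K be a subgroup of the finite group G that meets each conjugate by an element outside its normalizer N trivially, is properly contained in N, and contains the centralizer of each of its non-identity elements (a T.I. subgroup with Frobenius normalizer). Let S be the set of irreducible characters of N taking at some element of K a value different from their degree, suppose S has at least two members, and let star be a linear isometry on the integer span of S into the generalized characters of G that agrees with induction on the members vanishing at the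 identity (so S is coherent, with star as the extending isometry). Then an irreducible character ψ of G is of the form star χ or -star χ for some χ in S if and only if ψ is not constant on the non-identity elements of K. -/
theorem result {G : Type*} [Group G] [Fintype G] (K : Subgroup G) (hTI : ∀ g : G, g ∉ Subgroup.normalizer (K : Set G) → ∀ k ∈ K, g * k * g⁻¹ ∈ K → k = 1) (hlt : K < Subgroup.normalizer (K : Set G)) (hC : ∀ k ∈ K, k ≠ 1 → Subgroup.centralizer ({k} : Set G) ≤ K) [Fintype ↥(Subgroup.normalizer (K : Set G))] (S : Set (↥(Subgroup.normalizer (K : Set G)) → ℂ)) (hS : S = {χ : ↥(Subgroup.normalizer (K : Set G)) → ℂ | Cfsg.IsIrrCharacter ↥(Subgroup.normalizer (K : Set G)) χ ∧ ∃ k : ↥(Subgroup.normalizer (K : Set G)), (k : G) ∈ K ∧ χ k ≠ χ 1}) (htwo : ∃ χ ∈ S, ∃ ξ ∈ S, χ ≠ ξ) (star : (↥(Subgroup.normalizer (K : Set G)) → ℂ) → (G → ℂ)) (hstar : Cfsg.IsLinearIsometryOn (Cfsg.zspan S) star) (hext : ∀ α ∈ Cfsg.zspanOn S ({1}ᶜ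 : Set ↥(Subgroup.normalizer (K : Set G))), star α = Cfsg.indFun (Subgroup.normalizer (K : Set G)) α) (ψ : G → ℂ) (hψ : Cfsg.IsIrrCharacter G ψ) : (∃ χ ∈ S, ψ = star χ ∨ ψ = -star χ) ↔ ∃ a ∈ K, ∃ b ∈ K, a ≠ 1 ∧ b ≠ 1 ∧ ψ a ≠ ψ b := by
  exact aux K (Subgroup.normalizer (K : Set G)) Subgroup.le_normalizer
    (fun n hn k hk => (Subgroup.mem_normalizer_iff.mp hn k).mp hk) hC S hS htwo star hstar hext ψ hψ

end Cfsg.Agent.S0852
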