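import Cfsg.Statements.S0853
import Cfsg.Agent.Lib.Helper26.TIFN2
import Cfsg.Agent.S0850

set_option autoImplicit false
open Cfsg

namespace Cfsg.Agent.S0853
open Cfsg.Agent.Lib.Helper26

open scoped ComplexConjugate

theorem aux {G : Type*} [Group G] [Fintype G] (K N : Subgroup G) (hKN : K ≤ N)
    (hnorm : ∀ n ∈ N, ∀ k ∈ K, n * k * n⁻¹ ∈ K)
    (hC : ∀ k ∈ K, k ≠ 1 → Subgroup.centralizer ({k} : Set G) ≤ K) [Fintype ↥N]
    (hInd : ∀ ϑ : ↥N → ℂ, Cfsg.IsClassFunction ↥N ϑ → (∀ x : ↥N, (x : G) ∉ K → ϑ x = 0) →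
      ϑ 1 = 0 → ∀ x : ↥N, Cfsg.indFun N ϑ x = ϑ x)
    (S : Set (↥N → ℂ))
    (hS : S = {χ : ↥N → ℂ | Cfsg.IsIrrCharacter ↥N χ ∧ ∃ k : ↥N, (k : G) ∈ K ∧ χ k ≠ χ 1})
    (htwo : ∃ χ ∈ S, ∃ ξ ∈ S, χ ≠ ξ) (star : (↥N → ℂ) → (G → ℂ))
    (hstar : Cfsg.IsLinearIsometryOn (Cfsg.zspan S) star)
    (hext : ∀ α ∈ Cfsg.zspanOn S ({1}ᶜ : Set ↥N), star α = Cfsg.indFun N α) :
    ∃ m : ℤ, ∀ χ ∈ S, ∀ k : ↥N, (k : G) ∈ K → k ≠ 1 →
      star χ k - χ k = (m : ℂ) * χ 1 / ((K.subgroupOf N).index : ℂ) := by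
  classical
  haveI hK'n : (K.subgroupOf N).Normal := by
    constructor
    intro n hn g
    rw [Subgroup.mem_subgroupOf] at hn ⊢
    have := hnorm (g : G) g.2 (n : G) hn
    simpa using this
  haveI : Fintype (K.subgroupOf N) := Fintype.ofFinite _
  have hfpf' : ∀ x : N, x ∉ K.subgroupOf N → ∀ k ∈ K.subgroupOf N, x * k = k * x → k = 1 := by
    intro x hx k hk hcomm
    by_contra hk1
    apply hx
    rw [Subgroup.mem_subgroupOf] at hk ⊢
    have hk1' : (k : G) ≠ 1 := fun h => hk1 (Subtype.ext h)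
    apply hC (k : G) hk hk1'
    rw [Subgroup.mem_centralizer_iff]
    intro z hz
    rw [Set.mem_singleton_iff] at hz
    rw [hz]
    have := congrArg Subtype.val hcomm
    simpa using this.symm
  have hSmem : ∀ χ, χ ∈ S ↔ IsIrrCharacter N χ ∧ ∃ k : N, (k : G) ∈ K ∧ χ k ≠ χ 1 := by
    intro χ; rw [hS]; exact Iff.rfl
  have hirrS : ∀ χ ∈ S, IsIrrCharacter N χ := fun χ h => ((hSmem χ).mp h).1
  have hrelS : ∀ χ ∈ S, ∃ k ∈ K.subgroupOf N, χ k ≠ χ 1 := by
    intro χ h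
    obtain ⟨k, hk, hne⟩ := ((hSmem χ).mp h).2
    exact ⟨k, Subgroup.mem_subgroupOf.mpr hk, hne⟩
  obtain ⟨hadd, hsmul, hiso, hgen⟩ := hstar
  have hB : ∀ (f : G → ℂ), IsClassFunction G f → ∀ η ∈ S, ∀ ξ ∈ S,
      ξ 1 * (classInner (f ∘ N.subtype) η - classInner f (star η)) =
        η 1 * (classInner (f ∘ N.subtype) ξ - classInner f (star ξ)) := by
    intro f hf η hη ξ hξ
    obtain ⟨dη, _, hdη⟩ := irr_degree (hirrS η hη)
    obtain ⟨dξ, _, hdξ⟩ := irr_degree (hirrS ξ hξ)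
    have hηm : η ∈ zspan S := subset_zspan S hη
    have hξm : ξ ∈ zspan S := subset_zspan S hξ
    have h1 : ((dξ : ℤ) • η) ∈ zspan S := zsmul_mem_zspan _ hηm
    have h2 : ((-(dη : ℤ)) • ξ) ∈ zspan S := zsmul_mem_zspan _ hξm
    have hα1 : ((dξ : ℤ) • η + (-(dη : ℤ)) • ξ) 1 = 0 := by
      show (dξ : ℤ) • η 1 + (-(dη : ℤ)) • ξ 1 = 0
      rw [hdη, hdξ, zsmul_eq_mul, zsmul_eq_mul]; push_cast; ring
    have hαE := mem_zspanOn_compl_one.mpr ⟨add_mem_zspan h1 h2, hα1⟩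
    have h3 := hext _ hαE
    rw [hadd _ h1 _ h2, hsmul η hηm, hsmul ξ hξm] at h3
    have h4 : classInner f ((dξ : ℤ) • star η + (-(dη : ℤ)) • star ξ) =
        classInner (f ∘ N.subtype) ((dξ : ℤ) • η + (-(dη : ℤ)) • ξ) := by
      rw [h3, classInner_indFun_right' N f hf]
    simp only [classInner_add_right, classInner_zsmul_right] at h4
    rw [hdη, hdξ]
    push_cast at h4 ⊢
    linear_combination (-1 : ℂ) * h4
  obtain ⟨ξ₀, hξ₀, ξ₁, hξ₁, hξ₀₁⟩ := htwo
  have hsolve : ∀ (f : G → ℂ), IsClassFunction G f → ∃ t : ℂ, ∀ η ∈ S,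
      classInner (f ∘ N.subtype) η - classInner f (star η) = t * η 1 := by
    intro f hf
    obtain ⟨d₀, hd₀, hd₀'⟩ := irr_degree (hirrS ξ₀ hξ₀)
    have hd₀ne : ξ₀ 1 ≠ 0 := by rw [hd₀']; exact_mod_cast hd₀.ne'
    refine ⟨(classInner (f ∘ N.subtype) ξ₀ - classInner f (star ξ₀)) / ξ₀ 1, ?_⟩
    intro η hη
    have := hB f hf η hη ξ₀ hξ₀
    field_simp
    linear_combination this
  have hrescf : ∀ f : G → ℂ, IsClassFunction G f → IsClassFunction N (f ∘ N.subtype) := by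
    intro f hf g h
    show f ((h * g * h⁻¹ : N) : G) = f (g : G)
    rw [Subgroup.coe_mul, Subgroup.coe_mul, Subgroup.coe_inv]
    exact hf _ _
  -- Step A
  have hA : ∀ χ ∈ S, ∀ k ∈ K.subgroupOf N, ∀ k' ∈ K.subgroupOf N, k ≠ 1 → k' ≠ 1 →
      star χ (k : G) - χ k = star χ (k' : G) - χ k' := by
    intro χ hχ k hk k' hk' hk1 hk'1
    have hf := isClassFunction_of_isGeneralizedCharacter (hgen χ (subset_zspan S hχ))
    obtain ⟨t, ht⟩ := hsolve (star χ) hf
    have hcf' : IsClassFunction N ((star χ) ∘ N.subtype - χ) := by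
      intro g h
      rw [Pi.sub_apply, Pi.sub_apply, hrescf _ hf g h,
        isClassFunction_of_isIrrCharacter (hirrS χ hχ) g h]
    have hcoef : ∀ η : N → ℂ, IsIrrCharacter N η → (∃ k ∈ K.subgroupOf N, η k ≠ η 1) →
        classInner ((star χ) ∘ N.subtype - χ) η = t * η 1 := by
      intro η hη hrel
      have hηS : η ∈ S := by
        rw [hSmem]
        obtain ⟨k, hk, hne⟩ := hrel
        exact ⟨hη, k, Subgroup.mem_subgroupOf.mp hk, hne⟩
      rw [classInner_sub_left, ← ht η hηS, hiso χ (subset_zspan S hχ) η (subset_zspan S hηS)]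
    exact const_on_of_coeff (K.subgroupOf N) _ hcf' t hcoef k k' hk hk' hk1 hk'1
  obtain ⟨k₀, hk₀, hk₀ne⟩ := hrelS ξ₀ hξ₀
  have hk₀1 : k₀ ≠ 1 := fun h => hk₀ne (by rw [h])
  obtain ⟨cfun, hcfun⟩ : ∃ c : (N → ℂ) → ℂ, c = fun χ => star χ (k₀ : G) - χ k₀ := ⟨_, rfl⟩
  have hc : ∀ χ ∈ S, ∀ k ∈ K.subgroupOf N, k ≠ 1 → star χ (k : G) - χ k = cfun χ := by
    intro χ hχ k hk hk1
    rw [hcfun]
    exact hA χ hχ k hk k₀ hk₀ hk1 hk₀1
  -- Step B
  have hBprop : ∀ χ ∈ S, ∀ ξ ∈ S, ξ 1 * cfun χ = χ 1 * cfun ξ := by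
    intro χ hχ ξ hξ
    obtain ⟨dχ, _, hdχ⟩ := irr_degree (hirrS χ hχ)
    obtain ⟨dξ, _, hdξ⟩ := irr_degree (hirrS ξ hξ)
    have hχm : χ ∈ zspan S := subset_zspan S hχ
    have hξm : ξ ∈ zspan S := subset_zspan S hξ
    have h1 : ((dξ : ℤ) • χ) ∈ zspan S := zsmul_mem_zspan _ hχm
    have h2 : ((-(dχ : ℤ)) • ξ) ∈ zspan S := zsmul_mem_zspan _ hξm
    have hα1 : ((dξ : ℤ) • χ + (-(dχ : ℤ)) • ξ) 1 = 0 := by
      show (dξ : ℤ) • χ 1 + (-(dχ : ℤ)) • ξ 1 = 0
      rw [hdχ, hdξ, zsmul_eq_mul, zsmul_eq_mul]; push_cast; ring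
    have hαE := mem_zspanOn_compl_one.mpr ⟨add_mem_zspan h1 h2, hα1⟩
    have h3 := hext _ hαE
    rw [hadd _ h1 _ h2, hsmul χ hχm, hsmul ξ hξm] at h3
    have hαcf : IsClassFunction N ((dξ : ℤ) • χ + (-(dχ : ℤ)) • ξ) := by
      intro g h
      show (dξ : ℤ) • χ (h * g * h⁻¹) + (-(dχ : ℤ)) • ξ (h * g * h⁻¹) =
        (dξ : ℤ) • χ g + (-(dχ : ℤ)) • ξ g
      rw [isClassFunction_of_isIrrCharacter (hirrS χ hχ) g h,
        isClassFunction_of_isIrrCharacter (hirrS ξ hξ) g h]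
    have hαoff : ∀ x : N, (x : G) ∉ K → ((dξ : ℤ) • χ + (-(dχ : ℤ)) • ξ) x = 0 := by
      intro x hx
      show (dξ : ℤ) • χ x + (-(dχ : ℤ)) • ξ x = 0
      rw [rel_vanish_off (K.subgroupOf N) hfpf' (hirrS χ hχ) (hrelS χ hχ) x
          (fun h => hx (Subgroup.mem_subgroupOf.mp h)),
        rel_vanish_off (K.subgroupOf N) hfpf' (hirrS ξ hξ) (hrelS ξ hξ) x
          (fun h => hx (Subgroup.mem_subgroupOf.mp h)), smul_zero, smul_zero, add_zero]
    have h4 := hInd _ hαcf hαoff hα1 k₀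
    rw [← h3] at h4
    have h5 : (dξ : ℤ) • star χ (k₀ : G) + (-(dχ : ℤ)) • star ξ (k₀ : G) =
        (dξ : ℤ) • χ k₀ + (-(dχ : ℤ)) • ξ k₀ := h4
    rw [zsmul_eq_mul, zsmul_eq_mul, zsmul_eq_mul, zsmul_eq_mul] at h5
    rw [hdχ, hdξ, hcfun]
    show (dξ : ℂ) * (star χ (k₀ : G) - χ k₀) = (dχ : ℂ) * (star ξ (k₀ : G) - ξ k₀)
    push_cast at h5
    linear_combination h5
  -- Step C
  have hKne : ∃ k : K.subgroupOf N, k ≠ 1 :=
    ⟨⟨k₀, hk₀⟩, fun h => hk₀1 (congrArg Subtype.val h)⟩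
  have hCint : ∀ χ ∈ S, ∃ z : ℤ, cfun χ = z := by
    intro χ hχ
    obtain ⟨h, hh⟩ : ∃ h : K.subgroupOf N → ℂ,
        h = fun k : K.subgroupOf N => star χ ((k : N) : G) - χ (k : N) := ⟨_, rfl⟩
    have hgenh : IsGeneralizedCharacter (K.subgroupOf N) h := by
      rw [hh]
      have h1 : IsGeneralizedCharacter N ((star χ) ∘ N.subtype) :=
        isGeneralizedCharacter_restrict N (hgen χ (subset_zspan S hχ))
      have h2 : IsGeneralizedCharacter N χ :=
        isGeneralizedCharacter_of_isCharacter (isCharacter_of_isIrrCharacter (hirrS χ hχ))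
      exact isGeneralizedCharacter_restrict (K.subgroupOf N) (isGeneralizedCharacter_sub h1 h2)
    obtain ⟨D, hD⟩ : ∃ D : ℤ, h 1 = D := genChar_one_int hgenh
    have hval : ∀ k : K.subgroupOf N,
        h k = cfun χ + (if k = 1 then (D : ℂ) - cfun χ else 0) := by
      intro k
      by_cases hk : k = 1
      · rw [if_pos hk, hk, hD]; ring
      · rw [if_neg hk, add_zero, hh]
        exact hc χ hχ (k : N) k.2 (fun h' => hk (Subtype.ext h'))
    have hcardK : (Nat.card (K.subgroupOf N) : ℂ) ≠ 0 := by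
      have : Nat.card (K.subgroupOf N) ≠ 0 := Nat.card_pos.ne'
      exact_mod_cast this
    have hform : ∀ lam : K.subgroupOf N → ℂ, classInner h lam =
        cfun χ * classInner (fun _ => (1 : ℂ)) lam +
          ((D : ℂ) - cfun χ) / (Nat.card (K.subgroupOf N) : ℂ) * conj (lam 1) := by
      intro lam
      unfold classInner
      have hs : ∑ k : K.subgroupOf N, h k * conj (lam k) =
          cfun χ * ∑ k : K.subgroupOf N, conj (lam k) + ((D : ℂ) - cfun χ) * conj (lam 1) := by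
        simp_rw [hval, add_mul]
        rw [Finset.sum_add_distrib, ← Finset.mul_sum]
        congr 1
        rw [Finset.sum_eq_single (1 : K.subgroupOf N)]
        · rw [if_pos rfl]
        · intro b _ hb
          rw [if_neg hb, zero_mul]
        · intro h'; exact absurd (Finset.mem_univ _) h'
      rw [hs]
      simp only [one_mul]
      field_simp
    have hw : ∃ w : ℤ, ((D : ℂ) - cfun χ) / (Nat.card (K.subgroupOf N) : ℂ) = w := by
      apply int_of_mul_degree_int hKne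
      intro θ hθ hθ1
      obtain ⟨z, hz⟩ := classInner_generalized_int hgenh
        (isGeneralizedCharacter_of_isCharacter (isCharacter_of_isIrrCharacter hθ))
      refine ⟨z, ?_⟩
      rw [← hz, hform θ, classInner_irr Cfsg.Agent.Lib.Helper4.isIrrCharacter_one hθ,
        if_neg (Ne.symm hθ1), mul_zero, zero_add]
      obtain ⟨d, _, hd1⟩ := irr_degree hθ
      rw [hd1, Complex.conj_natCast]
    obtain ⟨w, hw⟩ := hw
    obtain ⟨z, hz⟩ := classInner_generalized_int hgenh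
      (isGeneralizedCharacter_of_isCharacter (isCharacter_of_isIrrCharacter
        (Cfsg.Agent.Lib.Helper4.isIrrCharacter_one (G := K.subgroupOf N))))
    rw [hform, classInner_irr Cfsg.Agent.Lib.Helper4.isIrrCharacter_one
      Cfsg.Agent.Lib.Helper4.isIrrCharacter_one, if_pos rfl, mul_one, hw] at hz
    refine ⟨z - w, ?_⟩
    simp only [map_one, mul_one] at hz
    push_cast
    linear_combination hz
  -- Step D
  obtain ⟨d₀, hd₀, hd₀'⟩ := irr_degree (hirrS ξ₀ hξ₀)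
  have hd₀ne : ξ₀ 1 ≠ 0 := by rw [hd₀']; exact_mod_cast hd₀.ne'
  have he : ((K.subgroupOf N).index : ℂ) ≠ 0 := by
    have : (K.subgroupOf N).index ≠ 0 := Subgroup.index_ne_zero_of_finite
    exact_mod_cast this
  obtain ⟨mC, hmC⟩ : ∃ mC : ℂ, mC = ((K.subgroupOf N).index : ℂ) * cfun ξ₀ / ξ₀ 1 := ⟨_, rfl⟩
  have hall : ∀ χ ∈ S, cfun χ = mC * χ 1 / ((K.subgroupOf N).index : ℂ) := by
    intro χ hχ
    have := hBprop χ hχ ξ₀ hξ₀
    rw [hmC]
    field_simp
    linear_combination this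
  have hmint : ∃ m : ℤ, mC = m := by
    apply int_of_mul_degree_int hKne
    intro θ hθ hθ1
    obtain ⟨hirr, hrel, hdeg⟩ := indFun_rel (K.subgroupOf N) hfpf' θ hθ hθ1
    have hmem : indFun (K.subgroupOf N) θ ∈ S := by
      rw [hSmem]
      obtain ⟨k, hk, hne⟩ := hrel
      exact ⟨hirr, k, Subgroup.mem_subgroupOf.mp hk, hne⟩
    obtain ⟨z, hz⟩ := hCint _ hmem
    refine ⟨z, ?_⟩
    rw [← hz, hall _ hmem, hdeg]
    field_simp
  obtain ⟨m, hm⟩ := hmint
  refine ⟨m, ?_⟩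
  intro χ hχ k hk hk1
  rw [hc χ hχ k (Subgroup.mem_subgroupOf.mpr hk) hk1, hall χ hχ, hm]


/-- Let K be a subgroup of the finite group G that meets each conjugate by an element outside its normalizer N trivially, is properly contained in N, and contains the centralizer of each of its non-identity elements (a T.I. subgroup with Frobenius normalizer). Let S be the set of irreducible characters of N taking at some element of K a value different from their degree, suppose S has at least two members, and let star be a linear isometry on the integer span of S into the generalized characters of G that agrees with induction on the members vanishing at the identity (so S is coherent, with star as the extending isometry). Then there is a single integer m such that star χ k - χ k = m * χ 1 / e for every χ in S and every non-identity element k of K, where e is the index of K in N. -/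
theorem result {G : Type*} [Group G] [Fintype G] (K : Subgroup G) (hTI : ∀ g : G, g ∉ Subgroup.normalizer (K : Set G) → ∀ k ∈ K, g * k * g⁻¹ ∈ K → k = 1) (hlt : K < Subgroup.normalizer (K : Set G)) (hC : ∀ k ∈ K, k ≠ 1 → Subgroup.centralizer ({k} : Set G) ≤ K) [Fintype ↥(Subgroup.normalizer (K : Set G))] (S : Set (↥(Subgroup.normalizer (K : Set G)) → ℂ)) (hS : S = {χ : ↥(Subgroup.normalizer (K : Set G)) → ℂ | Cfsg.IsIrrCharacter ↥(Subgroup.normalizer (K : Set G)) χ ∧ ∃ k : ↥(Subgroup.normalizer (K : Set G)), (k : G) ∈ K ∧ χ k ≠ χ 1}) (htwo : ∃ χ ∈ S, ∃ ξ ∈ S, χ ≠ ξ) (star : (↥(Subgroup.normalizer (K : Set G)) → ℂ) → (G → ℂ)) (hstar : Cfsg.IsLinearIsometryOn (Cfsg.zspan S) star) (hext : ∀ α ∈ Cfsg.zspanOn S ({1}ᶜ : Set ↥(Subgroup.normalizer (K : Set G))), star α = Cfsg.indFun (Subgroup.normalizer (K : Set G)) α) : ∃ m : ℤ, ∀ χ ∈ S, ∀ k : ↥(Subgroup.normalizer (K : Set G)), (k : G) ∈ K → k ≠ 1 → star χ k - χ k = (m : ℂ) *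 χ 1 / ((K.subgroupOf (Subgroup.normalizer (K : Set G))).index : ℂ) := by
  exact aux K (Subgroup.normalizer (K : Set G)) Subgroup.le_normalizer
    (fun n hn k hk => (Subgroup.mem_normalizer_iff.mp hn k).mp hk) hC
    (Cfsg.Agent.S0850.result K hTI hlt hC).2 S hS htwo star hstar hext

end Cfsg.Agent.S0853
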