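import Cfsg.Statements.S0858
import Cfsg.Agent.S0857
import Cfsg.Agent.S0854
import Cfsg.Agent.Lib.Helper7.IndTrans

set_option autoImplicit false
open Cfsg

namespace Cfsg.Agent.S0858

open Cfsg.Agent.Lib.Helper26 Cfsg.Agent.Lib.Helper2 Cfsg.Agent.Lib.Helper7
open scoped ComplexConjugate

universe u

/-- the nonsquare chief factor hypothesis -/
def ChiefHyp {G : Type u} [Group G] (N : Subgroup G) : Prop :=
  ∀ (H K L : Subgroup G), N ≤ L → L < K → K ≤ H → (∀ h ∈ H, ∀ k ∈ K, h * k * h⁻¹ ∈ K) →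
    (∀ h ∈ H, ∀ l ∈ L, h * l * h⁻¹ ∈ L) →
    (∀ M : Subgroup G, L ≤ M → M ≤ K → (∀ h ∈ H, ∀ m ∈ M, h * m * h⁻¹ ∈ M) → M = L ∨ M = K) →
    ¬ IsSquare (L.relIndex K)

theorem chiefHyp_subgroupOf {G : Type u} [Group G] (N T : Subgroup G) (hNT : N ≤ T)
    (h : ChiefHyp N) : ChiefHyp (N.subgroupOf T) := by
  intro H' K' L' hNL hLK hKH hKn hLn hmin
  have hinj : Function.Injective T.subtype := T.subtype_injective
  have key := h (H'.map T.subtype) (K'.map T.subtype) (L'.map T.subtype) ?_ ?_ ?_ ?_ ?_ ?_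
  · rwa [Subgroup.relIndex_map_map_of_injective _ _ hinj] at key
  · intro x hx
    exact Subgroup.mem_map.mpr ⟨⟨x, hNT hx⟩, hNL (by exact hx), rfl⟩
  · exact Subgroup.map_subtype_lt_map_subtype.mpr hLK
  · exact Subgroup.map_mono hKH
  · rintro h0 hh k hk
    obtain ⟨h', hh', rfl⟩ := Subgroup.mem_map.mp hh
    obtain ⟨k', hk', rfl⟩ := Subgroup.mem_map.mp hk
    exact Subgroup.mem_map.mpr ⟨h' * k' * h'⁻¹, hKn h' hh' k' hk', by simp⟩
  · rintro h0 hh l hl
    obtain ⟨h', hh', rfl⟩ := Subgroup.mem_map.mp hh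
    obtain ⟨l', hl', rfl⟩ := Subgroup.mem_map.mp hl
    exact Subgroup.mem_map.mpr ⟨h' * l' * h'⁻¹, hLn h' hh' l' hl', by simp⟩
  · intro M hLM hMK hMn
    have hMT : M ≤ T.subtype.range := by
      intro x hx
      obtain ⟨k', -, rfl⟩ := Subgroup.mem_map.mp (hMK hx)
      exact ⟨k', rfl⟩
    have hMeq : (M.comap T.subtype).map T.subtype = M := Subgroup.map_comap_eq_self hMT
    have h1 : L' ≤ M.comap T.subtype := by
      intro x hx
      exact hLM (Subgroup.mem_map.mpr ⟨x, hx, rfl⟩)
    have h2 : M.comap T.subtype ≤ K' := by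
      intro x hx
      obtain ⟨k', hk', hk⟩ := Subgroup.mem_map.mp (hMK (Subgroup.mem_comap.mp hx))
      have : k' = x := hinj hk
      exact this ▸ hk'
    have h3 : ∀ h' ∈ H', ∀ m ∈ M.comap T.subtype, h' * m * h'⁻¹ ∈ M.comap T.subtype := by
      intro h' hh' m hm
      rw [Subgroup.mem_comap] at hm ⊢
      have := hMn (T.subtype h') (Subgroup.mem_map.mpr ⟨h', hh', rfl⟩) _ hm
      simpa using this
    rcases hmin _ h1 h2 h3 with h4 | h4
    · left; rw [← hMeq, h4]
    · right; rw [← hMeq, h4]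

theorem main : ∀ (n : ℕ) (G : Type u) [Group G] [Fintype G], Fintype.card G = n →
    ∀ (N : Subgroup G) [N.Normal], Group.IsSolvable (G ⧸ N) → ChiefHyp N →
    ∀ χ : G → ℂ, IsIrrCharacter G χ →
    ∃ (H : Subgroup G) (hNH : N ≤ H) (ψ : H → ℂ), IsIrrCharacter H ψ ∧ indFun H ψ = χ ∧
      IsIrrCharacter N (fun n : N => ψ ⟨(n : G), hNH n.2⟩) := by
  intro n
  induction n using Nat.strong_induction_on with
  | _ n ih =>
  intro G _ _ hcard N hNn hsolv hchief χ hχ
  classical
  have hχc := isCharacter_of_isIrrCharacter hχ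
  have hχcf := isClassFunction_of_isCharacter hχc
  by_cases hirrN : IsIrrCharacter N (fun n : N => χ n)
  · refine ⟨⊤, le_top, fun x => χ x, ?_, indFun_top χ hχcf, hirrN⟩
    exact isIrrCharacter_comp_mulEquiv hχ Subgroup.topEquiv
  -- minimal normal `K ≥ N` with irreducible restriction
  have hne : ({K : Subgroup G | K.Normal ∧ N ≤ K ∧ IsIrrCharacter K (fun x : K => χ x)}).Nonempty :=
    ⟨⊤, inferInstance, le_top, isIrrCharacter_comp_mulEquiv hχ Subgroup.topEquiv⟩
  obtain ⟨K, ⟨hKn, hNK, hKirr⟩, hKmin⟩ := (wellFounded_lt (α := Subgroup G)).has_min _ hne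
  haveI := hKn
  have hNneK : N ≠ K := by
    rintro rfl
    exact hirrN hKirr
  have hNltK : N < K := lt_of_le_of_ne hNK hNneK
  -- maximal normal `L` with `N ≤ L < K`
  have hne2 : ({L : Subgroup G | L.Normal ∧ N ≤ L ∧ L < K}).Nonempty := ⟨N, hNn, le_rfl, hNltK⟩
  obtain ⟨L, ⟨hLn, hNL, hLK⟩, hLmax⟩ := (wellFounded_gt (α := Subgroup G)).has_min _ hne2
  haveI := hLn
  have hchiefKL : ∀ M : Subgroup G, M.Normal → L ≤ M → M ≤ K → M = L ∨ M = K := by
    intro M hMn hLM hMK
    by_cases hMK' : M = K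
    · exact Or.inr hMK'
    · left
      have hMlt : M < K := lt_of_le_of_ne hMK hMK'
      have := hLmax M ⟨hMn, hNL.trans hLM, hMlt⟩
      by_contra hne'
      exact this (lt_of_le_of_ne hLM (Ne.symm hne'))
  -- `K/L` is abelian
  have hab : ⁅K, K⁆ ≤ L := by
    have hMn : (⁅K, K⁆ ⊔ L).Normal := inferInstance
    have hMK : ⁅K, K⁆ ⊔ L ≤ K := sup_le (Subgroup.commutator_le_left K K) hLK.le
    rcases hchiefKL _ hMn le_sup_right hMK with h | h
    · rw [← h]; exact le_sup_left
    · exfalso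
      have hsolvL : Group.IsSolvable (G ⧸ L) := by
        haveI := hsolv
        have hle : N ≤ L.comap (MonoidHom.id G) := hNL
        refine Group.isSolvable_of_surjective (f := QuotientGroup.map N L (MonoidHom.id G) hle) ?_
        intro q
        induction q using QuotientGroup.induction_on with
        | H g => exact ⟨QuotientGroup.mk g, rfl⟩
      have hKbar : K.map (QuotientGroup.mk' L) ≠ ⊥ := by
        intro h0
        rw [Subgroup.map_eq_bot_iff, QuotientGroup.ker_mk'] at h0
        exact absurd h0 (not_le_of_gt hLK)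
      have hlt := Group.IsSolvable.commutator_lt_of_ne_bot hKbar
      rw [← Subgroup.map_commutator] at hlt
      have h1 : (⁅K, K⁆).map (QuotientGroup.mk' L) = K.map (QuotientGroup.mk' L) := by
        conv_rhs => rw [← h]
        rw [Subgroup.map_sup, QuotientGroup.map_mk'_self, sup_bot_eq]
      rw [h1] at hlt
      exact lt_irrefl _ hlt
  -- apply Isaacs 6.18
  have hinv : ∀ (g : G) (n : K), (fun x : K => χ x) ⟨g * n * g⁻¹, hKn.conj_mem (n : G) n.2 g⟩ =
      (fun x : K => χ x) n := by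
    intro g n
    exact hχcf (n : G) g
  have h618 := Cfsg.Agent.S0857.result K L hLK hchiefKL hab (fun x : K => χ x) hKirr hinv
  have hidx2 : 2 ≤ L.relIndex K := by
    have h0 : L.relIndex K ≠ 0 := (L.subgroupOf K).index_ne_zero_of_finite
    have h1 : L.relIndex K ≠ 1 := by
      intro h1
      exact absurd (Subgroup.relIndex_eq_one.mp h1) (not_le_of_gt hLK)
    omega
  rcases h618 with h | ⟨φ, e, hφ, hres, he⟩ | ⟨F, hF, hFcard, hres⟩
  · -- contradiction with minimality of `K`
    exfalso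
    exact hKmin L ⟨hLn, hNL, h⟩ hLK
  · -- contradiction with the nonsquare hypothesis
    exfalso
    refine hchief ⊤ K L hNL hLK le_top (fun h _ k hk => hKn.conj_mem k hk h)
      (fun h _ l hl => hLn.conj_mem l hl h) ?_ ⟨e, by rw [← he]; ring⟩
    intro M hLM hMK hMn
    exact hchiefKL M ⟨fun m hm g => hMn g (Subgroup.mem_top g) m hm⟩ hLM hMK
  · -- the Clifford correspondence
    haveI : Fintype L := Fintype.ofFinite _
    rw [← hFcard] at hidx2
    obtain ⟨φ, hφF, φ', hφ'F, hne'⟩ := Finset.one_lt_card.mp hidx2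
    have hφ := hF φ hφF
    have hφ' := hF φ' hφ'F
    have hresL : (fun x : L => χ x) = ∑ φ ∈ F, φ := hres
    have hcoef : ∀ φ₀ ∈ F, classInner (fun x : L => χ x) φ₀ = 1 := by
      intro φ₀ hφ₀
      rw [hresL, classInner_sum_left, Finset.sum_eq_single φ₀]
      · rw [classInner_irr (hF φ₀ hφ₀) (hF φ₀ hφ₀), if_pos rfl]
      · intro ψ hψ hne0
        rw [classInner_irr (hF ψ hψ) (hF φ₀ hφ₀), if_neg hne0]
      · intro h; exact absurd hφ₀ h
    have hcon : classInner (fun x : L => χ x) φ ≠ 0 := by rw [hcoef φ hφF]; exact one_ne_zero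
    have hφcf := isClassFunction_of_isCharacter (isCharacter_of_isIrrCharacter hφ)
    have hT := Cfsg.Agent.S0169.mem_inertia L φ
    have hLT : L ≤ Cfsg.Agent.S0169.inertia L φ := Cfsg.Agent.S0169.le_inertia L φ hφcf
    have hTne : Cfsg.Agent.S0169.inertia L φ ≠ ⊤ := by
      intro htop
      have hinvφ : ∀ (g : G) (n : L), φ ⟨g * n * g⁻¹, hLn.conj_mem (n : G) n.2 g⟩ = φ n := by
        intro g
        exact (hT g).mp (by rw [htop]; exact Subgroup.mem_top g)
      obtain ⟨e', -, he'⟩ := Cfsg.Agent.S0900.clifford_inv L χ hχ φ hφ hcon hinvφ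
      have h1 := hcoef φ' hφ'F
      rw [he', classInner_smul_left, classInner_irr hφ hφ', if_neg hne', mul_zero] at h1
      exact zero_ne_one h1
    haveI : Fintype (Cfsg.Agent.S0169.inertia L φ) := Fintype.ofFinite _
    obtain ⟨ψ, hψ, hψind, -⟩ :=
      Cfsg.Agent.S0854.result L φ hφ (Cfsg.Agent.S0169.inertia L φ) hT hLT χ hχ hcon
    have hNT : N ≤ Cfsg.Agent.S0169.inertia L φ := hNL.trans hLT
    have hcardT : Fintype.card (Cfsg.Agent.S0169.inertia L φ) < n := by
      rw [← hcard, ← Nat.card_eq_fintype_card, ← Nat.card_eq_fintype_card]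
      refine lt_of_le_of_ne (Subgroup.card_le_card_group _) ?_
      intro h
      exact hTne (Subgroup.eq_top_of_card_eq _ h)
    haveI : (N.subgroupOf (Cfsg.Agent.S0169.inertia L φ)).Normal := Subgroup.normal_subgroupOf
    have hsolvT : Group.IsSolvable
        ((Cfsg.Agent.S0169.inertia L φ) ⧸ N.subgroupOf (Cfsg.Agent.S0169.inertia L φ)) := by
      haveI := hsolv
      have hle : N.subgroupOf (Cfsg.Agent.S0169.inertia L φ) ≤
          N.comap (Cfsg.Agent.S0169.inertia L φ).subtype := le_rfl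
      refine Group.isSolvable_of_isSolvable_injective
        (f := QuotientGroup.map _ N (Cfsg.Agent.S0169.inertia L φ).subtype hle) ?_
      rw [injective_iff_map_eq_one]
      intro q hq
      induction q using QuotientGroup.induction_on with
      | H t =>
        rw [QuotientGroup.map_mk, QuotientGroup.eq_one_iff] at hq
        exact (QuotientGroup.eq_one_iff t).mpr hq
    obtain ⟨H', hNH', ψ', hψ', hind', hres'⟩ :=
      ih _ hcardT (Cfsg.Agent.S0169.inertia L φ) rfl
        (N.subgroupOf (Cfsg.Agent.S0169.inertia L φ)) hsolvT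
        (chiefHyp_subgroupOf N _ hNT hchief) ψ hψ
    set eH := H'.equivMapOfInjective (Cfsg.Agent.S0169.inertia L φ).subtype
      (Cfsg.Agent.S0169.inertia L φ).subtype_injective with heH
    have hNH : N ≤ H'.map (Cfsg.Agent.S0169.inertia L φ).subtype := by
      intro x hx
      exact Subgroup.mem_map.mpr ⟨⟨x, hNT hx⟩, hNH' (by exact hx), rfl⟩
    refine ⟨H'.map (Cfsg.Agent.S0169.inertia L φ).subtype, hNH, ψ' ∘ eH.symm,
      isIrrCharacter_comp_mulEquiv hψ' eH.symm, ?_, ?_⟩
    · rw [← indFun_trans, hind', hψind]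
    · let eN : N.subgroupOf (Cfsg.Agent.S0169.inertia L φ) ≃* N :=
        Subgroup.subgroupOfEquivOfLe hNT
      have := isIrrCharacter_comp_mulEquiv hres' eN.symm
      convert this using 1
      funext x
      show ψ' (eH.symm ⟨(x : G), hNH x.2⟩) = ψ' ⟨(eN.symm x : _), hNH' (eN.symm x).2⟩
      congr 1
      apply eH.injective
      rw [MulEquiv.apply_symm_apply]
      rfl

/-- Let N be a normal subgroup of the finite group G with G / N solvable, and suppose that for every subgroup H containing N and all subgroups L < K between N and H that are normal in H with no subgroup normal in H strictly between them, the index of L in K is not a perfect square. Then every irreducible character χ of G is induced from an irreducible character ψ of some subgroup H containing N such that the restriction of ψ to N is irreducible. -/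
theorem result {G : Type*} [Group G] [Fintype G] (N : Subgroup G) [N.Normal] (hsolv : Group.IsSolvable (G ⧸ N)) (hchief : ∀ (H K L : Subgroup G), N ≤ L → L < K → K ≤ H → (∀ h ∈ H, ∀ k ∈ K, h * k * h⁻¹ ∈ K) → (∀ h ∈ H, ∀ l ∈ L, h * l * h⁻¹ ∈ L) → (∀ M : Subgroup G, L ≤ M → M ≤ K → (∀ h ∈ H, ∀ m ∈ M, h * m * h⁻¹ ∈ M) → M = L ∨ M = K) → ¬ IsSquare (L.relIndex K)) (χ : G → ℂ) (hχ : Cfsg.IsIrrCharacter G χ) : ∃ (H : Subgroup G) (hNH : N ≤ H) (ψ : H → ℂ), Cfsg.IsIrrCharacter H ψ ∧ Cfsg.indFun H ψ = χ ∧ Cfsg.IsIrrCharacter N (fun n : N => ψ ⟨(n : G), hNH n.2⟩) :=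
  main _ G rfl N hsolv hchief χ hχ

end Cfsg.Agent.S0858
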