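import Cfsg.Statements.S0859
import Cfsg.Agent.S0169
import Cfsg.Agent.S0854
import Cfsg.Agent.S0894
import Cfsg.Agent.S0900
import Cfsg.Agent.S0868
import Cfsg.Agent.S4493
import Cfsg.Agent.Lib.Helper7.CliffordCorr
import Cfsg.Agent.Lib.Helper7.Gallagher
import Cfsg.Agent.Lib.Helper7.IndTrans
import Cfsg.Agent.Lib.Helper4.RepEigen
import Cfsg.Agent.Lib.Helper24.LinBridge
import Cfsg.Agent.Lib.Helper26.Fourier

set_option autoImplicit false
open Cfsg

namespace Cfsg.Agent.S0859

open Cfsg.Agent.Lib.Helper26 Cfsg.Agent.Lib.Helper2 Cfsg.Agent.Lib.Helper7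
open scoped ComplexConjugate

universe u

/-- all Sylow subgroups are abelian -/
def AG (X : Type*) [Group X] : Prop :=
  ∀ (p : ℕ) [Fact p.Prime] (P : Sylow p X), ∀ a ∈ P, ∀ b ∈ P, a * b = b * a

theorem AG_of_injective {X Y : Type*} [Group X] [Group Y] [Finite X] (f : Y →* X)
    (hf : Function.Injective f) (h : AG X) : AG Y := by
  intro p _ P a ha b hb
  have hP : IsPGroup p (P.1.map f) := P.2.map f
  obtain ⟨Q, hQ⟩ := hP.exists_le_sylow
  apply hf
  rw [map_mul, map_mul]
  exact h p Q _ (hQ (Subgroup.mem_map_of_mem f ha)) _ (hQ (Subgroup.mem_map_of_mem f hb))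

theorem AG_quotient {X : Type*} [Group X] [Finite X] (K : Subgroup X) [K.Normal] (h : AG X) :
    AG (X ⧸ K) := by
  intro p _ P a ha b hb
  obtain ⟨Q, rfl⟩ := Sylow.mapSurjective_surjective (QuotientGroup.mk'_surjective K) p P
  have ha' : a ∈ (Q : Subgroup X).map (QuotientGroup.mk' K) := ha
  have hb' : b ∈ (Q : Subgroup X).map (QuotientGroup.mk' K) := hb
  obtain ⟨a₀, ha₀, rfl⟩ := Subgroup.mem_map.mp ha'
  obtain ⟨b₀, hb₀, rfl⟩ := Subgroup.mem_map.mp hb'
  rw [← map_mul, ← map_mul, h p Q a₀ ha₀ b₀ hb₀]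

/-- Taunt: in a group with abelian Sylow subgroups the centre meets the commutator subgroup
trivially -/
theorem taunt {X : Type*} [Group X] [Finite X] (h : AG X) (z : X)
    (hz : z ∈ Subgroup.center X) (hz' : z ∈ commutator X) : z = 1 := by
  by_contra hne
  have hord : orderOf z ≠ 1 := by rwa [Ne, orderOf_eq_one_iff]
  obtain ⟨p, hp, hpdvd⟩ := Nat.exists_prime_and_dvd hord
  haveI : Fact p.Prime := ⟨hp⟩
  obtain ⟨P⟩ : Nonempty (Sylow p X) := inferInstance
  let _ : CommGroup P :=
    { (inferInstance : Group P) with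
      mul_comm := fun a b => Subtype.ext (h p P a a.2 b b.2) }
  have key : ∀ (k : ℕ) (g₀ : X), g₀⁻¹ * z ^ k * g₀ ∈ (P : Subgroup X) →
      g₀⁻¹ * z ^ k * g₀ = z ^ k := by
    intro k g₀ _
    have hc := Subgroup.mem_center_iff.mp (Subgroup.pow_mem _ hz k) g₀
    rw [mul_assoc, ← hc, ← mul_assoc, inv_mul_cancel, one_mul]
  have h1 := MonoidHom.transfer_eq_pow (MonoidHom.id P) z key
  have h2 : MonoidHom.transfer (MonoidHom.id P) z = 1 := by
    have : commutator X ≤ (MonoidHom.transfer (MonoidHom.id P)).ker :=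
      Abelianization.commutator_subset_ker _
    exact this hz'
  rw [h2] at h1
  have h3 : z ^ (P : Subgroup X).index = 1 := by
    have := congrArg (fun w : P => (w : X)) h1.symm
    simpa using this
  have h4 : orderOf z ∣ (P : Subgroup X).index := orderOf_dvd_of_pow_eq_one h3
  exact P.not_dvd_index (hpdvd.trans h4)

theorem rel_taunt {X : Type*} [Group X] [Finite X] (h : AG X) (K : Subgroup X) [K.Normal]
    (z : X) (hz : ∀ n : X, z * n * z⁻¹ * n⁻¹ ∈ K) (hz' : z ∈ commutator X) : z ∈ K := by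
  rw [← QuotientGroup.eq_one_iff]
  apply taunt (AG_quotient K h)
  · rw [Subgroup.mem_center_iff]
    intro g
    induction g using QuotientGroup.induction_on with
    | H g =>
      rw [← QuotientGroup.mk_mul, ← QuotientGroup.mk_mul, QuotientGroup.eq]
      have h1 := hz g⁻¹
      have h2 : (g * z)⁻¹ * (z * g) = z⁻¹ * (z * g⁻¹ * z⁻¹ * g⁻¹⁻¹)⁻¹ * z⁻¹⁻¹ := by group
      rw [h2]
      exact Subgroup.Normal.conj_mem inferInstance _ (K.inv_mem h1) z⁻¹
  · have : (commutator X).map (QuotientGroup.mk' K) ≤ commutator (X ⧸ K) := by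
      rw [commutator_def, commutator_def, Subgroup.map_commutator]
      exact Subgroup.commutator_mono le_top le_top
    exact this (Subgroup.mem_map_of_mem _ hz')

section Rep
variable {H : Type*} [Group H] [Fintype H]

/-- if `ψ_A = e • μ` and the commutators of `A` act trivially, then `A` acts by scalars -/
theorem scalar_of_homogeneous {n : ℕ} (ρ : Representation ℂ H (Fin n → ℂ)) (A : Subgroup H)
    (μ : A → ℂ) (hμ : IsIrrCharacter A μ) (e : ℕ) (he : e ≠ 0)
    (hres : (fun a : A => ρ.character a) = (e : ℂ) • μ)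
    (hcomm : ∀ a b : A, ρ ((a : H) * b * (a : H)⁻¹ * (b : H)⁻¹) = 1) :
    ∀ a : A, ∃ ω : ℂ, ρ (a : H) = ω • (LinearMap.id : (Fin n → ℂ) →ₗ[ℂ] (Fin n → ℂ)) := by
  classical
  have he0 : (e : ℂ) ≠ 0 := Nat.cast_ne_zero.mpr he
  have hμc : ∀ a b : A, μ (a * b * a⁻¹ * b⁻¹) = μ 1 := by
    intro a b
    have h1 := congrFun hres (a * b * a⁻¹ * b⁻¹)
    have h2 := congrFun hres 1
    simp only [Pi.smul_apply, smul_eq_mul] at h1 h2
    have h3 : ρ.character ((a * b * a⁻¹ * b⁻¹ : A) : H) = ρ.character ((1 : A) : H) := by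
      unfold Representation.character
      have h4 : ρ ((a * b * a⁻¹ * b⁻¹ : A) : H) = ρ ((1 : A) : H) := by
        simp only [Subgroup.coe_mul, Subgroup.coe_inv, Subgroup.coe_one]
        rw [hcomm a b, map_one]
      rw [h4]
    rw [h3, h2] at h1
    exact (mul_left_cancel₀ he0 h1).symm
  obtain ⟨m, σ, hσ, rfl⟩ := hμ
  have hσc : ∀ a b : A, σ a * σ b = σ b * σ a := by
    intro a b
    have h1 : σ (a * b * a⁻¹ * b⁻¹) = LinearMap.id := by
      rw [← Cfsg.Agent.Lib.Helper4.character_eq_finrank_iff, hμc a b, Representation.char_one]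
    have h2 : σ (a * b * a⁻¹ * b⁻¹) * (σ b * σ a) = σ a * σ b := by
      rw [← map_mul σ b a, ← map_mul σ _ (b * a), ← map_mul σ a b]
      congr 1
      group
    rw [← h2, h1]
    rfl
  have hm : Module.finrank ℂ (Fin m → ℂ) = 1 :=
    Cfsg.Agent.S0894.finrank_eq_one_of_comm σ hσ hσc
  have hm1 : m = 1 := by simpa using hm
  subst hm1
  have hσ1 : σ.character 1 = 1 := by rw [Representation.char_one]; simp
  obtain ⟨φ', hφ'⟩ := Cfsg.Agent.Lib.Helper24.exists_hom_of_isCharacter ⟨1, σ, rfl⟩ hσ1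
  intro a
  have hnorm : ‖σ.character a‖ = 1 := by
    rw [hφ']
    have hfin : (φ' a) ^ (orderOf a) = 1 := by
      rw [← map_pow, pow_orderOf_eq_one, map_one]
    apply Complex.norm_eq_one_of_pow_eq_one (n := orderOf a) _ (orderOf_pos a).ne'
    have := congrArg (fun u : ℂˣ => (u : ℂ)) hfin
    simpa using this
  have hfr : (Module.finrank ℂ (Fin n → ℂ) : ℂ) = (e : ℂ) := by
    have h2 := congrFun hres 1
    simp only [Pi.smul_apply, smul_eq_mul] at h2
    rw [hσ1, mul_one] at h2
    rw [← h2]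
    show _ = ρ.character 1
    rw [Representation.char_one]
  have hch : ρ.character (a : H) = σ.character a * (Module.finrank ℂ (Fin n → ℂ) : ℂ) := by
    have h1 := congrFun hres a
    simp only [Pi.smul_apply, smul_eq_mul] at h1
    rw [h1, hfr, mul_comm]
  exact ⟨σ.character a, Cfsg.Agent.Lib.Helper4.rho_eq_smul_of_eigvals ρ (a : H) _
    (Cfsg.Agent.Lib.Helper4.eigvals_eq_of_character_eq ρ (a : H) _ hnorm hch)⟩

end Rep

section Norm
variable {H : Type*} [Group H] [Fintype H] (N : Subgroup H) [hN : N.Normal] [Fintype N]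
  (T : Subgroup H) [Fintype T]

theorem theta_mem (n : H) (hn : n ∈ N) : indFun N (fun _ => (1 : ℂ)) n = (N.index : ℂ) := by
  have := Cfsg.Agent.S0900.ind_restrict N (fun _ => (1 : ℂ)) (fun _ _ => rfl) ⟨n, hn⟩
  simpa using this

/-- if `ψ = ξ^H` and `ψ_N` is irreducible then `ξ` restricted to `T ∩ N` is irreducible -/
theorem irr_restrict_of_induced (ψ : H → ℂ) (hψ : IsIrrCharacter H ψ)
    (hψN : IsIrrCharacter N (fun n : N => ψ n)) (ξ : T → ℂ) (hξ : IsIrrCharacter T ξ)
    (hind : indFun T ξ = ψ) [Fintype (N.subgroupOf T)] :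
    IsIrrCharacter (N.subgroupOf T) (fun x : N.subgroupOf T => ξ x) := by
  classical
  have : Fintype (IrrCharacter T) := Fintype.ofFinite _
  set Θ : H → ℂ := indFun N (fun _ => (1 : ℂ)) with hΘ
  have h1c : IsCharacter N (fun _ : N => (1 : ℂ)) :=
    isCharacter_of_isIrrCharacter Cfsg.Agent.Lib.Helper4.isIrrCharacter_one
  have hΘc : IsCharacter H Θ := isCharacter_indFun N h1c
  have hΘcf := Cfsg.Agent.Lib.Helper26.isClassFunction_of_isCharacter hΘc
  have hΘin : ∀ h : H, h ∈ N → Θ h = (N.index : ℂ) := fun h hh => theta_mem N h hh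
  have hΘout : ∀ h : H, h ∉ N → Θ h = 0 := fun h hh => indFun_of_not_mem_of_normal N _ h hh
  have hψc := isCharacter_of_isIrrCharacter hψ
  have hψcf := Cfsg.Agent.Lib.Helper26.isClassFunction_of_isCharacter hψc
  have hξc := isCharacter_of_isIrrCharacter hξ
  have hN0 : (Nat.card N : ℂ) ≠ 0 := Nat.cast_ne_zero.mpr Nat.card_pos.ne'
  have hi0 : (N.index : ℂ) ≠ 0 := Nat.cast_ne_zero.mpr N.index_ne_zero_of_finite
  have hT0 : (Nat.card T : ℂ) ≠ 0 := Nat.cast_ne_zero.mpr Nat.card_pos.ne'
  have hTN0 : (Nat.card (N.subgroupOf T) : ℂ) ≠ 0 := Nat.cast_ne_zero.mpr Nat.card_pos.ne'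
  have ha : classInner (ψ * Θ) ψ = 1 := by
    have h1 := classInner_irr hψN hψN
    rw [if_pos rfl] at h1
    rw [← h1]
    unfold classInner
    have h2 : ∑ h : H, (ψ * Θ) h * conj (ψ h) =
        (N.index : ℂ) * ∑ n : N, ψ n * conj (ψ n) := by
      rw [Cfsg.Agent.S0868.sum_subtype_eq_sum_ite N (fun h => ψ h * conj (ψ h)), Finset.mul_sum]
      refine Finset.sum_congr rfl fun h _ => ?_
      simp only [Pi.mul_apply]
      split_ifs with hh
      · rw [hΘin h hh]; ring
      · rw [hΘout h hh]; ring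
    rw [h2, ← mul_assoc]
    congr 1
    have hK : (Nat.card H : ℂ) = (N.index : ℂ) * (Nat.card N : ℂ) := by
      rw [← N.index_mul_card]; push_cast; ring
    rw [hK]; field_simp
  have hb : indFun T (ξ * (fun t : T => Θ t)) = ψ * Θ := by
    rw [indFun_mul_restrict T ξ Θ hΘcf, hind]
  have hcc : classInner (ξ * (fun t : T => Θ t)) (fun t : T => ψ t) = 1 := by
    have := classInner_indFun_left' T (ξ * (fun t : T => Θ t)) ψ hψcf
    rw [hb, ha] at this
    exact this.symm
  have hΘT : IsCharacter T (fun t : T => Θ t) := isCharacter_comp_hom hΘc T.subtype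
  have hξΘ : IsCharacter T (ξ * (fun t : T => Θ t)) := isCharacter_mul hξc hΘT
  have hψT : IsCharacter T (fun t : T => ψ t) := isCharacter_comp_hom hψc T.subtype
  have hexp := Cfsg.Agent.Lib.Helper4.classFunction_expansion (fun t : T => ψ t)
    (Cfsg.Agent.Lib.Helper26.isClassFunction_of_isCharacter hψT)
  have hav : ∀ ν : IrrCharacter T, ∃ a : ℕ,
      classInner (fun t : T => ψ t) (ν : T → ℂ) = a := fun ν =>
    classInner_isCharacter_nat hψT (isCharacter_of_isIrrCharacter ν.2)
  choose a ha' using hav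
  have hbv : ∀ ν : IrrCharacter T, ∃ b : ℕ,
      classInner (ξ * (fun t : T => Θ t)) (ν : T → ℂ) = b := fun ν =>
    classInner_isCharacter_nat hξΘ (isCharacter_of_isIrrCharacter ν.2)
  choose b hb' using hbv
  have hsum : ∑ ν : IrrCharacter T, a ν * b ν = 1 := by
    have h1 : ((∑ ν : IrrCharacter T, a ν * b ν : ℕ) : ℂ) = 1 := by
      rw [← hcc]
      conv_rhs => rw [hexp]
      rw [classInner_sum_right]
      push_cast
      refine Finset.sum_congr rfl fun ν _ => ?_
      rw [classInner_smul_right, ha', hb']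
      simp
    exact_mod_cast h1
  have haξ : a ⟨ξ, hξ⟩ = 1 := by
    have h1 := classInner_indFun_left' T ξ ψ hψcf
    rw [hind, classInner_irr hψ hψ, if_pos rfl] at h1
    have h2 : classInner (fun t : T => ψ t) ξ = 1 := by
      rw [← classInner_conj_symm]
      have h3 : classInner ξ (fun t : T => ψ t) = 1 := h1.symm
      rw [h3]; simp
    have h4 := ha' ⟨ξ, hξ⟩
    rw [h2] at h4
    exact_mod_cast h4.symm
  have hbξ : b ⟨ξ, hξ⟩ ≤ 1 := by
    have h1 : a ⟨ξ, hξ⟩ * b ⟨ξ, hξ⟩ ≤ ∑ ν : IrrCharacter T, a ν * b ν :=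
      Finset.single_le_sum (f := fun ν => a ν * b ν) (fun _ _ => Nat.zero_le _)
        (Finset.mem_univ (⟨ξ, hξ⟩ : IrrCharacter T))
    rw [hsum, haξ, one_mul] at h1
    exact h1
  have hresc : IsCharacter (N.subgroupOf T) (fun x : N.subgroupOf T => ξ x) :=
    isCharacter_comp_hom hξc (N.subgroupOf T).subtype
  obtain ⟨m, hm⟩ := classInner_isCharacter_nat hresc hresc
  haveI : (N.subgroupOf T).Normal := Subgroup.normal_subgroupOf
  have he : (b ⟨ξ, hξ⟩ : ℂ) * (Nat.card T : ℂ) =
      (N.index : ℂ) * (Nat.card (N.subgroupOf T) : ℂ) * m := by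
    rw [← hb' ⟨ξ, hξ⟩, ← hm]
    unfold classInner
    have h2 : ∑ t : T, (ξ * (fun t : T => Θ t)) t * conj (ξ t) =
        (N.index : ℂ) * ∑ x : N.subgroupOf T, ξ x * conj (ξ x) := by
      rw [Cfsg.Agent.S0868.sum_subtype_eq_sum_ite (N.subgroupOf T)
        (fun t => ξ t * conj (ξ t)), Finset.mul_sum]
      refine Finset.sum_congr rfl fun t _ => ?_
      simp only [Pi.mul_apply]
      split_ifs with hh
      · rw [hΘin t hh]; ring
      · rw [hΘout t hh]; ring
    rw [h2]
    field_simp
  have hnat : b ⟨ξ, hξ⟩ * Nat.card T = N.index * Nat.card (N.subgroupOf T) * m := by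
    exact_mod_cast he
  obtain ⟨d, hd, hd1⟩ := irr_degree hξ
  have hmpos : 0 < m := by
    rcases Nat.eq_zero_or_pos m with h0 | h0
    · exfalso
      rw [h0] at hm
      have h1 : (fun x : N.subgroupOf T => ξ x) 1 ≠ 0 := by
        show ξ ((1 : N.subgroupOf T) : T) ≠ 0
        rw [Subgroup.coe_one, hd1]
        exact Nat.cast_ne_zero.mpr hd.ne'
      exact classInner_self_ne_zero (X := fun x : N.subgroupOf T => ξ x) h1 (by rw [hm]; simp)
    · exact h0
  have hm1 : m = 1 := by
    have h3 : (N.subgroupOf T).index * Nat.card (N.subgroupOf T) = Nat.card T :=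
      (N.subgroupOf T).index_mul_card
    have h4 : (N.subgroupOf T).index ∣ N.index := Subgroup.relIndex_dvd_index_of_normal N T
    have hidx : 0 < N.index := Nat.pos_of_ne_zero N.index_ne_zero_of_finite
    have h5 : (N.subgroupOf T).index ≤ N.index := Nat.le_of_dvd hidx h4
    have hpos : 0 < Nat.card (N.subgroupOf T) := Nat.card_pos
    rw [← h3] at hnat
    have h6 : b ⟨ξ, hξ⟩ * (N.subgroupOf T).index = N.index * m := by
      have h7 : (b ⟨ξ, hξ⟩ * (N.subgroupOf T).index) * Nat.card (N.subgroupOf T) =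
          (N.index * m) * Nat.card (N.subgroupOf T) := by
        rw [mul_assoc, hnat]; ring
      exact Nat.eq_of_mul_eq_mul_right hpos h7
    have h8 : N.index * m ≤ N.index := by
      calc N.index * m = b ⟨ξ, hξ⟩ * (N.subgroupOf T).index := h6.symm
        _ ≤ 1 * N.index := Nat.mul_le_mul hbξ h5
        _ = N.index := one_mul _
    nlinarith
  apply isIrrCharacter_of_norm_one (isGeneralizedCharacter_of_isCharacter hresc)
  · rw [hm, hm1]; simp
  · show 0 < (ξ ((1 : N.subgroupOf T) : T)).re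
    rw [Subgroup.coe_one, hd1]
    simpa using hd

end Norm

theorem main : ∀ (n : ℕ) (H : Type u) [Group H] [Fintype H], Fintype.card H = n →
    Group.IsSolvable H → ∀ (N : Subgroup H) [N.Normal], AG N → ∀ ψ : H → ℂ,
    IsIrrCharacter H ψ → IsIrrCharacter N (fun n : N => ψ n) →
    ∃ (U : Subgroup H) (lam : U → ℂ), IsCharacter U lam ∧ lam 1 = 1 ∧ indFun U lam = ψ := by
  intro n
  induction n using Nat.strong_induction_on with
  | _ n ih =>
  intro H _ _ hcard hsolv N hNn hAG ψ hψ hψN
  classical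
  haveI := hsolv
  haveI : Fintype N := Fintype.ofFinite _
  have hψc := isCharacter_of_isIrrCharacter hψ
  have hψcf := Cfsg.Agent.Lib.Helper26.isClassFunction_of_isCharacter hψc
  obtain ⟨d, ρ, hρ, hρψ⟩ := id hψ
  have hKmem : ∀ h : H, h ∈ MonoidHom.ker ρ ↔ ρ h = 1 := fun h => MonoidHom.mem_ker
  have hψK : ∀ h : H, h ∈ MonoidHom.ker ρ → ψ h = ψ 1 := by
    intro h hh
    rw [← hρψ]
    unfold Representation.character
    rw [(hKmem h).mp hh, map_one ρ]
  by_cases hNK : ⁅N, N⁆ ≤ MonoidHom.ker ρ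
  · -- `ψ_N` is linear
    obtain ⟨m, σ, hσ, hσφ⟩ := id hψN
    have hσc : ∀ a b : N, σ a * σ b = σ b * σ a := by
      intro a b
      have hc : ((a * b * a⁻¹ * b⁻¹ : N) : H) ∈ MonoidHom.ker ρ := by
        apply hNK
        have := Subgroup.commutator_mem_commutator a.2 b.2
        rw [commutatorElement_def] at this
        simpa using this
      have h1 : σ (a * b * a⁻¹ * b⁻¹) = LinearMap.id := by
        rw [← Cfsg.Agent.Lib.Helper4.character_eq_finrank_iff]
        have h2 := congrFun hσφ (a * b * a⁻¹ * b⁻¹)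
        have h3 := congrFun hσφ 1
        rw [Representation.char_one] at h3
        rw [h2, h3]
        exact hψK _ hc
      have h2 : σ (a * b * a⁻¹ * b⁻¹) * (σ b * σ a) = σ a * σ b := by
        rw [← map_mul σ b a, ← map_mul σ _ (b * a), ← map_mul σ a b]
        congr 1
        group
      rw [← h2, h1]
      rfl
    have hm : Module.finrank ℂ (Fin m → ℂ) = 1 :=
      Cfsg.Agent.S0894.finrank_eq_one_of_comm σ hσ hσc
    have hm1 : m = 1 := by simpa using hm
    have hψ1 : ψ 1 = 1 := by
      have h3 := congrFun hσφ 1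
      rw [Representation.char_one] at h3
      simp only [Module.finrank_fin_fun, hm1, Nat.cast_one] at h3
      exact h3.symm
    exact ⟨⊤, fun x => ψ x, isCharacter_comp_hom hψc (⊤ : Subgroup H).subtype, hψ1,
      indFun_top ψ hψcf⟩
  · -- a minimal normal subgroup inside `N'` not in the kernel
    have hne : ({A : Subgroup H | A.Normal ∧ A ≤ ⁅N, N⁆ ∧ ¬ A ≤ MonoidHom.ker ρ}).Nonempty :=
      ⟨⁅N, N⁆, inferInstance, le_rfl, hNK⟩
    obtain ⟨A, ⟨hAn, hAN', hAK⟩, hAmin⟩ := (wellFounded_lt (α := Subgroup H)).has_min _ hne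
    haveI := hAn
    haveI : Fintype A := Fintype.ofFinite _
    have hAbot : A ≠ ⊥ := by
      rintro rfl
      exact hAK bot_le
    have hAA : ⁅A, A⁆ ≤ MonoidHom.ker ρ := by
      by_contra hcon
      have hlt := Group.IsSolvable.commutator_lt_of_ne_bot hAbot
      exact hAmin ⁅A, A⁆ ⟨inferInstance, hlt.le.trans hAN', hcon⟩ hlt
    have hAN : A ≤ N := hAN'.trans (Subgroup.commutator_le_left N N)
    have hresc : IsCharacter A (fun a : A => ψ a) := isCharacter_comp_hom hψc A.subtype
    obtain ⟨dψ, hdψ, hdψ1⟩ := irr_degree hψ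
    have hres1 : (fun a : A => ψ a) 1 ≠ 0 := by
      show ψ ((1 : A) : H) ≠ 0
      rw [Subgroup.coe_one, hdψ1]
      exact Nat.cast_ne_zero.mpr hdψ.ne'
    obtain ⟨⟨μ, hμ⟩, hcon⟩ := exists_constituent hresc hres1
    simp only at hcon
    have hμcf := Cfsg.Agent.Lib.Helper26.isClassFunction_of_isCharacter
      (isCharacter_of_isIrrCharacter hμ)
    have hT := Cfsg.Agent.S0169.mem_inertia A μ
    have hAT : A ≤ Cfsg.Agent.S0169.inertia A μ := Cfsg.Agent.S0169.le_inertia A μ hμcf
    by_cases hTtop : Cfsg.Agent.S0169.inertia A μ = ⊤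
    · -- invariant case: contradiction by Taunt
      exfalso
      have hinv : ∀ (g : H) (a : A), μ ⟨g * a * g⁻¹, hAn.conj_mem (a : H) a.2 g⟩ = μ a := by
        intro g
        exact (hT g).mp (by rw [hTtop]; exact Subgroup.mem_top g)
      obtain ⟨e, he0, he⟩ := Cfsg.Agent.S0900.clifford_inv A ψ hψ μ hμ hcon hinv
      have hres : (fun a : A => ρ.character a) = (e : ℂ) • μ := by rw [hρψ]; exact he
      have hcomm : ∀ a b : A, ρ ((a : H) * b * (a : H)⁻¹ * (b : H)⁻¹) = 1 := by
        intro a b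
        rw [← hKmem]
        apply hAA
        have := Subgroup.commutator_mem_commutator a.2 b.2
        rw [commutatorElement_def] at this
        exact this
      have hscal := scalar_of_homogeneous ρ A μ hμ e he0 hres hcomm
      have hcentral : ∀ a ∈ A, ∀ h : H, a * h * a⁻¹ * h⁻¹ ∈ MonoidHom.ker ρ := by
        intro a ha h
        obtain ⟨ω, hω⟩ := hscal ⟨a, ha⟩
        rw [hKmem, map_mul, map_mul, map_mul]
        have h1 : ρ a * ρ h = ρ h * ρ a := by
          change ρ ((⟨a, ha⟩ : A) : H) * ρ h = ρ h * ρ ((⟨a, ha⟩ : A) : H)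
          rw [hω]
          ext v i
          simp
        rw [h1, mul_assoc (ρ h), ← map_mul ρ a a⁻¹, mul_inv_cancel, map_one, mul_one,
          ← map_mul, mul_inv_cancel, map_one]
      apply hAK
      intro a ha
      haveI hK₀n : ((MonoidHom.ker ρ).subgroupOf N).Normal := Subgroup.normal_subgroupOf
      have ha' : a ∈ ⁅N, N⁆ := hAN' ha
      rw [← Subgroup.map_subtype_commutator] at ha'
      obtain ⟨z, hz', hza⟩ := Subgroup.mem_map.mp ha'
      have hzK : z ∈ (MonoidHom.ker ρ).subgroupOf N := by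
        apply rel_taunt hAG ((MonoidHom.ker ρ).subgroupOf N) z _ hz'
        intro n
        show ((z * n * z⁻¹ * n⁻¹ : N) : H) ∈ MonoidHom.ker ρ
        have := hcentral a ha (n : H)
        simp only [Subgroup.coe_mul, Subgroup.coe_inv]
        rw [show ((z : N) : H) = a from hza]
        exact this
      have : ((z : N) : H) ∈ MonoidHom.ker ρ := hzK
      rwa [show ((z : N) : H) = a from hza] at this
    · -- go down to the inertia group
      haveI : Fintype (Cfsg.Agent.S0169.inertia A μ) := Fintype.ofFinite _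
      obtain ⟨ξ, hξ, hξind, -⟩ :=
        Cfsg.Agent.S0854.result A μ hμ (Cfsg.Agent.S0169.inertia A μ) hT hAT ψ hψ hcon
      haveI : Fintype (N.subgroupOf (Cfsg.Agent.S0169.inertia A μ)) := Fintype.ofFinite _
      have hξN := irr_restrict_of_induced N (Cfsg.Agent.S0169.inertia A μ) ψ hψ hψN ξ hξ hξind
      have hcardT : Fintype.card (Cfsg.Agent.S0169.inertia A μ) < n := by
        rw [← hcard, ← Nat.card_eq_fintype_card, ← Nat.card_eq_fintype_card]
        refine lt_of_le_of_ne (Subgroup.card_le_card_group _) ?_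
        intro h
        exact hTtop (Subgroup.eq_top_of_card_eq _ h)
      haveI : (N.subgroupOf (Cfsg.Agent.S0169.inertia A μ)).Normal := Subgroup.normal_subgroupOf
      have hAG' : AG (N.subgroupOf (Cfsg.Agent.S0169.inertia A μ)) := by
        refine AG_of_injective ((Cfsg.Agent.S0169.inertia A μ).subtype.subgroupComap N) ?_ hAG
        intro x y hxy
        apply Subtype.ext
        apply Subtype.ext
        have := congrArg (fun w : N => (w : H)) hxy
        exact this
      obtain ⟨U', lam, hlam, hlam1, hlamind⟩ :=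
        ih _ hcardT (Cfsg.Agent.S0169.inertia A μ) rfl inferInstance
          (N.subgroupOf (Cfsg.Agent.S0169.inertia A μ)) hAG' ξ hξ hξN
      set eU := U'.equivMapOfInjective (Cfsg.Agent.S0169.inertia A μ).subtype
        (Cfsg.Agent.S0169.inertia A μ).subtype_injective with heU
      refine ⟨U'.map (Cfsg.Agent.S0169.inertia A μ).subtype, lam ∘ eU.symm,
        isCharacter_comp_hom hlam eU.symm.toMonoidHom, ?_, ?_⟩
      · show lam (eU.symm 1) = 1
        rw [map_one, hlam1]
      · rw [← indFun_trans, hlamind, hξind]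

/-- Let G be a finite solvable group and N a normal subgroup such that for every prime p every Sylow p-subgroup of N is abelian. Suppose every irreducible character of G is induced from an irreducible character of some subgroup containing N whose restriction to N is irreducible. Then every irreducible character of G is induced from a character of degree 1 of some subgroup. -/
theorem result {G : Type*} [Group G] [Fintype G] [Group.IsSolvable G] (N : Subgroup G) [N.Normal] (hab : ∀ (p : ℕ) [Fact p.Prime] (P : Sylow p N), ∀ a ∈ P, ∀ b ∈ P, a * b = b * a) (hrel : ∀ χ : G → ℂ, Cfsg.IsIrrCharacter G χ → ∃ (H : Subgroup G) (hNH : N ≤ H) (ψ : H → ℂ), Cfsg.IsIrrCharacter H ψ ∧ Cfsg.indFun H ψ = χ ∧ Cfsg.IsIrrCharacter N (fun n : N => ψ ⟨(n : G), hNH n.2⟩)) (χ : G → ℂ) (hχ : Cfsg.IsIrrCharacter G χ) : ∃ (U : Subgroup G) (lam : U → ℂ), Cfsg.IsCharacter U lam ∧ lam 1 = 1 ∧ Cfsg.indFun U lam = χ := by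
  classical
  obtain ⟨H, hNH, ψ, hψ, hind, hψN⟩ := hrel χ hχ
  haveI : Fintype H := Fintype.ofFinite _
  haveI : (N.subgroupOf H).Normal := Subgroup.normal_subgroupOf
  have hAG : AG N := hab
  have hAG' : AG (N.subgroupOf H) := by
    refine AG_of_injective (H.subtype.subgroupComap N) ?_ hAG
    intro x y hxy
    apply Subtype.ext
    apply Subtype.ext
    have := congrArg (fun w : N => (w : G)) hxy
    exact this
  let eN : N.subgroupOf H ≃* N := Subgroup.subgroupOfEquivOfLe hNH
  have hψN' : IsIrrCharacter (N.subgroupOf H) (fun x : N.subgroupOf H => ψ x) := by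
    have := isIrrCharacter_comp_mulEquiv hψN eN
    convert this using 1
    funext x
    show ψ (x : H) = ψ ⟨((eN x : N) : G), hNH (eN x).2⟩
    exact congrArg ψ (Subtype.ext rfl)
  obtain ⟨U', lam, hlam, hlam1, hlamind⟩ :=
    main _ H rfl inferInstance (N.subgroupOf H) hAG' ψ hψ hψN'
  set eU := U'.equivMapOfInjective H.subtype H.subtype_injective with heU
  refine ⟨U'.map H.subtype, lam ∘ eU.symm, isCharacter_comp_hom hlam eU.symm.toMonoidHom, ?_, ?_⟩
  · show lam (eU.symm 1) = 1
    rw [map_one, hlam1]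
  · rw [← indFun_trans, hlamind, hind]

end Cfsg.Agent.S0859
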