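import Cfsg.Statements.S0861
import Cfsg.Agent.Lib.Helper4.PElemNonvanish
import Cfsg.Agent.Lib.Helper4.GaloisConj
import Cfsg.Agent.Lib.Helper4.VanishFree
import Cfsg.Agent.Lib.Helper4.FaithfulIrr
import Cfsg.Agent.Lib.Helper4.PermLemma
import Cfsg.Agent.Lib.Helper4.LinConst
import Cfsg.Agent.S0169

set_option autoImplicit false
open Cfsg

namespace Cfsg.Agent.S0861

open scoped commutatorElement

/-- Let P be a normal abelian Sylow p-subgroup of the finite group G and suppose some element g of P has centralizer exactly P. Then the number of irreducible characters of G is at most the order of P, and if equality holds then G / P is abelian (the commutator subgroup lies in P). -/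
theorem result {G : Type*} [Group G] [Finite G] (p : ℕ) [Fact p.Prime] (P : Sylow p G) [(P : Subgroup G).Normal] (hab : ∀ a ∈ P, ∀ b ∈ P, a * b = b * a) (g : G) (hg : g ∈ P) (hC : Subgroup.centralizer ({g} : Set G) = P) : Nat.card (Cfsg.IrrCharacter G) ≤ Nat.card P ∧ (Nat.card (Cfsg.IrrCharacter G) = Nat.card P → commutator G ≤ P) := by
  classical
  have : Fintype G := Fintype.ofFinite G
  have : Fintype (Cfsg.IrrCharacter G) := Fintype.ofFinite _
  have hN : 0 < Nat.card G := Nat.card_pos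
  have : NeZero (Nat.card G) := ⟨hN.ne'⟩
  have hrep := fun χ : Cfsg.IrrCharacter G => χ.2
  choose n τ hτ hτχ using hrep
  -- degrees prime to p
  have hdeg : ∀ χ : Cfsg.IrrCharacter G, ¬ p ∣ Module.finrank ℂ (Fin (n χ) → ℂ) := by
    intro χ hdvd
    haveI := hτ χ
    have h1 := Cfsg.Agent.S0169.result (τ χ) (P : Subgroup G) hab
    exact P.not_dvd_index (hdvd.trans h1)
  obtain ⟨a, ha⟩ := (P.isPGroup' : IsPGroup p (P : Subgroup G)) ⟨g, hg⟩
  have hga : g ^ (p ^ a) = 1 := by
    have := congrArg Subtype.val ha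
    simpa using this
  -- centralizers of coprime powers
  have hcent : ∀ m : ℕ, m.Coprime (Nat.card G) →
      Nat.card (Subgroup.centralizer ({g ^ m} : Set G)) = Nat.card P := by
    intro m hm
    obtain ⟨m', _, hinv⟩ := Cfsg.Agent.Lib.Helper4.exists_inv_pow (G := G) m hm
    have : Subgroup.centralizer ({g ^ m} : Set G) = Subgroup.centralizer ({g} : Set G) := by
      ext x
      simp only [Subgroup.mem_centralizer_iff, Set.mem_singleton_iff, forall_eq]
      constructor
      · intro h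
        have h2 : Commute (g ^ m) x := h
        have h3 := h2.pow_left m'
        rw [(hinv g).2] at h3
        exact h3
      · intro h
        have h2 : Commute g x := h
        exact h2.pow_left m
    rw [this, hC]
  set k := Fintype.card (Cfsg.Agent.Lib.Helper4.cycK (Nat.card G) →ₐ[ℚ] ℂ) with hk
  have hkpos : 0 < k := by
    rw [hk, AlgHom.card ℚ (Cfsg.Agent.Lib.Helper4.cycK (Nat.card G)) ℂ]
    exact Module.finrank_pos
  have hkR : (0 : ℝ) < k := by exact_mod_cast hkpos
  let A : Cfsg.IrrCharacter G → ℝ := fun χ =>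
    ∑ σ : Cfsg.Agent.Lib.Helper4.cycK (Nat.card G) →ₐ[ℚ] ℂ,
      Complex.normSq (σ (Cfsg.Agent.Lib.Helper4.charK (τ χ) g))
  have hlow : ∀ χ, (k : ℝ) ≤ A χ := by
    intro χ
    apply Cfsg.Agent.Lib.Helper4.sum_normSq_embeddings_ge
    · intro h
      have h2 := congrArg (fun x : Cfsg.Agent.Lib.Helper4.cycK (Nat.card G) => (x : ℂ)) h
      simp only [Cfsg.Agent.Lib.Helper4.coe_charK] at h2
      exact Cfsg.Agent.Lib.Helper4.character_ne_zero_of_pElement (τ χ) p a g hga (hdeg χ)
        (by simpa using h2)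
    · exact Cfsg.Agent.Lib.Helper4.charK_isIntegral (τ χ) g
  have htot : ∑ χ, A χ = (k : ℝ) * (Nat.card P : ℝ) := by
    simp only [A]
    rw [Finset.sum_comm]
    have hσ : ∀ σ : Cfsg.Agent.Lib.Helper4.cycK (Nat.card G) →ₐ[ℚ] ℂ,
        ∑ χ : Cfsg.IrrCharacter G,
          Complex.normSq (σ (Cfsg.Agent.Lib.Helper4.charK (τ χ) g)) = (Nat.card P : ℝ) := by
      intro σ
      obtain ⟨m, hm, hσm⟩ := Cfsg.Agent.Lib.Helper4.embedding_pow (Nat.card G) hN σ
      have h1 : ∀ χ : Cfsg.IrrCharacter G,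
          σ (Cfsg.Agent.Lib.Helper4.charK (τ χ) g) = (χ : G → ℂ) (g ^ m) := by
        intro χ
        rw [Cfsg.Agent.Lib.Helper4.embedding_charK (τ χ) σ m hσm g, hτχ χ]
      simp only [h1]
      rw [Cfsg.Agent.Lib.Helper4.sum_normSq_char (g ^ m), hcent m hm]
    simp only [hσ]
    rw [Finset.sum_const, Finset.card_univ, nsmul_eq_mul, ← hk]
  have hcardI : Nat.card (Cfsg.IrrCharacter G) = Fintype.card (Cfsg.IrrCharacter G) :=
    Nat.card_eq_fintype_card
  have hle : (Nat.card (Cfsg.IrrCharacter G) : ℝ) ≤ (Nat.card P : ℝ) := by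
    have h1 : ∑ _χ : Cfsg.IrrCharacter G, (k : ℝ) ≤ ∑ χ, A χ :=
      Finset.sum_le_sum fun χ _ => hlow χ
    rw [Finset.sum_const, Finset.card_univ, nsmul_eq_mul, htot, ← hcardI] at h1
    have h2 : (k : ℝ) * (Nat.card (Cfsg.IrrCharacter G) : ℝ) ≤ (k : ℝ) * (Nat.card P : ℝ) := by
      linarith
    exact le_of_mul_le_mul_left h2 hkR
  refine ⟨by exact_mod_cast hle, ?_⟩
  intro heq
  -- equality: each A χ = k
  have hAeq : ∀ χ, A χ = (k : ℝ) := by
    have h0 : ∑ χ : Cfsg.IrrCharacter G, (A χ - (k : ℝ)) = 0 := by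
      rw [Finset.sum_sub_distrib, htot, Finset.sum_const, Finset.card_univ, nsmul_eq_mul,
        ← hcardI, heq]
      ring
    have := (Finset.sum_eq_zero_iff_of_nonneg (fun χ _ => sub_nonneg.mpr (hlow χ))).mp h0
    intro χ
    linarith [this χ (Finset.mem_univ χ)]
  -- characters with P in the kernel are linear
  have hlin : ∀ χ : Cfsg.IrrCharacter G, τ χ g = LinearMap.id →
      Module.finrank ℂ (Fin (n χ) → ℂ) = 1 := by
    intro χ hg1
    have h1 := hAeq χ
    simp only [A] at h1
    have h2 : ∀ σ : Cfsg.Agent.Lib.Helper4.cycK (Nat.card G) →ₐ[ℚ] ℂ,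
        Complex.normSq (σ (Cfsg.Agent.Lib.Helper4.charK (τ χ) g)) =
          ((Module.finrank ℂ (Fin (n χ) → ℂ) : ℕ) : ℝ) ^ 2 := by
      intro σ
      obtain ⟨m, hm, hσm⟩ := Cfsg.Agent.Lib.Helper4.embedding_pow (Nat.card G) hN σ
      rw [Cfsg.Agent.Lib.Helper4.embedding_charK (τ χ) σ m hσm g]
      have h3 : τ χ (g ^ m) = LinearMap.id := by
        rw [map_pow, hg1]
        exact one_pow m
      rw [(Cfsg.Agent.Lib.Helper4.character_eq_finrank_iff (τ χ) (g ^ m)).mpr h3,
        Complex.normSq_natCast]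
      ring
    simp only [h2] at h1
    rw [Finset.sum_const, Finset.card_univ, nsmul_eq_mul, ← hk] at h1
    have h4 : ((Module.finrank ℂ (Fin (n χ) → ℂ) : ℕ) : ℝ) ^ 2 = 1 := by
      have : (k : ℝ) * (((Module.finrank ℂ (Fin (n χ) → ℂ) : ℕ) : ℝ) ^ 2 - 1) = 0 := by linarith
      rcases mul_eq_zero.mp this with h5 | h5
      · exact absurd h5 hkR.ne'
      · linarith
    have h5 : (Module.finrank ℂ (Fin (n χ) → ℂ)) ^ 2 = 1 := by exact_mod_cast h4
    rcases Nat.pow_eq_one.mp h5 with h6 | h6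
    · exact h6
    · omega
  -- commutators lie in P
  rw [commutator_def, Subgroup.commutator_le]
  intro x _ y _
  by_contra hxy
  have hne : ((⁅x, y⁆ : G) : G ⧸ (P : Subgroup G)) ≠ 1 := by
    intro h
    exact hxy ((QuotientGroup.eq_one_iff _).mp h)
  have : Fintype (G ⧸ (P : Subgroup G)) := Fintype.ofFinite _
  obtain ⟨d, ρbar, hρbar, hρne⟩ := Cfsg.Agent.Lib.Helper4.exists_irreducible_ne_id _ hne
  let ρ : Representation ℂ G (Fin d → ℂ) := ρbar.comp (QuotientGroup.mk' (P : Subgroup G))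
  have hρirr : ρ.IsIrreducible :=
    Cfsg.Agent.Lib.Helper4.isIrreducible_comp_of_surjective ρbar _
      (QuotientGroup.mk'_surjective _) hρbar
  let χ : Cfsg.IrrCharacter G := ⟨ρ.character, d, ρ, hρirr, rfl⟩
  -- ρ g = id
  have hρg : ρ g = LinearMap.id := by
    show ρbar ((g : G) : G ⧸ (P : Subgroup G)) = LinearMap.id
    rw [(QuotientGroup.eq_one_iff g).mpr hg, map_one]
    rfl
  -- transfer to τ χ via equality of characters
  have hτg : τ χ g = LinearMap.id := by
    rw [← Cfsg.Agent.Lib.Helper4.character_eq_finrank_iff, ← Representation.char_one (τ χ)]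
    rw [hτχ χ]
    show ρ.character g = ρ.character 1
    rw [Representation.char_one]
    exact (Cfsg.Agent.Lib.Helper4.character_eq_finrank_iff ρ g).mpr hρg
  have hd1 := hlin χ hτg
  have hdeg1 : Module.finrank ℂ (Fin d → ℂ) = 1 := by
    have h1 : (τ χ).character 1 = ρ.character 1 := by rw [hτχ χ]
    rw [Representation.char_one, Representation.char_one, hd1] at h1
    exact_mod_cast h1.symm
  have hcomm := Cfsg.Agent.Lib.Helper4.rho_commutator_of_finrank_eq_one ρ hdeg1 x y
  apply hρne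
  have : ρbar ((⁅x, y⁆ : G) : G ⧸ (P : Subgroup G)) = ρ (x * y * x⁻¹ * y⁻¹) := by
    rw [commutatorElement_def]
    rfl
  rw [this, hcomm]
  rfl

end Cfsg.Agent.S0861
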