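import Cfsg.Statements.S0863
import Cfsg.Agent.Lib.Helper7.ExtDet

set_option autoImplicit false
open Cfsg

namespace Cfsg.Agent.S0863

open Cfsg.Agent.Lib.Helper26 Cfsg.Agent.Lib.Helper2 Cfsg.Agent.Lib.Helper7

/-- Let N be a normal subgroup of the finite group G with G / N solvable, and ϑ an irreducible character of N, invariant under conjugation by G, of degree d coprime to the index of N. Then ϑ is the restriction of an irreducible character of G if and only if the determinantal character of ϑ is the restriction of a character of G of degree 1. -/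
theorem result {G : Type*} [Group G] [Finite G] (N : Subgroup G) [hN : N.Normal] (hsolv : Group.IsSolvable (G ⧸ N)) (ϑ : N → ℂ) (hϑ : Cfsg.IsIrrCharacter N ϑ) (hinv : ∀ (g : G) (n : N), ϑ ⟨g * n * g⁻¹, hN.conj_mem (n : G) n.2 g⟩ = ϑ n) (d : ℕ) (hd : ϑ 1 = d) (hcop : Nat.Coprime N.index d) : (∃ χ : G → ℂ, Cfsg.IsIrrCharacter G χ ∧ (∀ n : N, χ n = ϑ n)) ↔ ∃ μ : G → ℂ, Cfsg.IsCharacter G μ ∧ μ 1 = 1 ∧ ∀ n : N, μ n = Cfsg.detChar ϑ n := by
  classical
  haveI : Fintype G := Fintype.ofFinite G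
  constructor
  · rintro ⟨χ, hχ, hχe⟩
    have hχc := isCharacter_of_isIrrCharacter hχ
    refine ⟨detChar χ, isCharacter_detChar hχc, detChar_one hχc, fun n => ?_⟩
    have h1 : detChar (fun n : N => χ n) n = detChar χ n := detChar_restrict N hχc n
    have h2 : (fun n : N => χ n) = ϑ := funext hχe
    rw [h2] at h1
    exact h1.symm
  · rintro ⟨μ, hμc, hμ1, hμN⟩
    obtain ⟨μ', hμ'⟩ := Cfsg.Agent.Lib.Helper24.exists_hom_of_isCharacter hμc hμ1
    have hμ2 : ∀ n : N, ((μ' n : ℂˣ) : ℂ) = detChar ϑ n := by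
      intro n
      rw [← hμN n, hμ']
    exact ext_solvable_det N hsolv ϑ hϑ hinv d hd hcop μ' hμ2

end Cfsg.Agent.S0863
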