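import Mathlib
import Cfsg.Statements.S0865

set_option autoImplicit false
open Cfsg

namespace Cfsg.Agent.S0865

theorem trace_fin_one (f : (Fin 1 → ℂ) →ₗ[ℂ] (Fin 1 → ℂ)) :
    LinearMap.trace ℂ _ f = LinearMap.toMatrix' f 0 0 := by
  rw [LinearMap.trace_eq_matrix_trace ℂ (Pi.basisFun ℂ (Fin 1))]
  rw [Matrix.trace_fin_one]
  rfl

/-- A degree one character is multiplicative. -/
theorem lin_mul {A : Type*} [Group A] (lam : A → ℂ) (h : IsCharacter A lam) (h1 : lam 1 = 1)
    (a b : A) : lam (a * b) = lam a * lam b := by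
  obtain ⟨n, ρ, rfl⟩ := h
  have hn : n = 1 := by
    have := Representation.char_one ρ
    rw [h1] at this
    simp at this
    exact_mod_cast this.symm
  subst hn
  simp only [Representation.character]
  rw [trace_fin_one, trace_fin_one, trace_fin_one, map_mul]
  rw [Module.End.mul_eq_comp, LinearMap.toMatrix'_comp]
  simp [Matrix.mul_apply]

/-- A homomorphism to `ℂˣ` gives a character of degree one. -/
theorem isCharacter_of_hom {A : Type*} [Group A] (ψ : A →* ℂˣ) :
    IsCharacter A (fun a => (ψ a : ℂ)) := by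
  refine ⟨1, ?_, ?_⟩
  · exact
      { toFun := fun a => (ψ a : ℂ) • LinearMap.id
        map_one' := by simp; rfl
        map_mul' := by
          intro a b
          ext v i
          simp [mul_smul]
          ring }
  · ext a
    simp only [Representation.character]
    show LinearMap.trace ℂ (Fin 1 → ℂ) ((ψ a : ℂ) • LinearMap.id) = _
    rw [map_smul, LinearMap.trace_id]
    simp

theorem transfer_eq_pow_of_invariant {G : Type*} [Group G] [Finite G] (N : Subgroup G)
    [hN : N.Normal] {A : Type*} [CommGroup A] (φ : N →* A)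
    (hinv : ∀ (g : G) (n : N), φ ⟨g * n * g⁻¹, hN.conj_mem (n : G) n.2 g⟩ = φ n) (n : N) :
    MonoidHom.transfer φ (n : G) = φ n ^ N.index := by
  classical
  have : Fintype (Quotient (MulAction.orbitRel (Subgroup.zpowers (n : G)) (G ⧸ N))) :=
    Fintype.ofFinite _
  rw [Subgroup.index_eq_sum_minimalPeriod N (n : G), ← Finset.prod_pow_eq_pow_sum,
    MonoidHom.transfer_eq_prod_quotient_orbitRel_zpowers_quot]
  apply Finset.prod_congr rfl
  intro q _
  set m := Function.minimalPeriod (fun x : G ⧸ N => (n : G) • x) q.out with hm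
  set g₀ := q.out.out with hg₀
  have hmem : g₀⁻¹ * (n : G) ^ m * g₀ ∈ N :=
    QuotientGroup.out_conj_pow_minimalPeriod_mem N (n : G) q.out
  have h1 := hinv g₀⁻¹ (n ^ m)
  rw [← map_pow, ← h1]
  congr 1
  apply Subtype.ext
  simp [hg₀, hm]

theorem result {G : Type*} [Group G] [Finite G] (N : Subgroup G) [hN : N.Normal] (lam : N → ℂ) (hlam : Cfsg.IsCharacter N lam ∧ lam 1 = 1) (hinv : ∀ (g : G) (n : N), lam ⟨g * n * g⁻¹, hN.conj_mem (n : G) n.2 g⟩ = lam n) (hcop : Nat.Coprime N.index (orderOf lam)) : ∃ μ : G → ℂ, (Cfsg.IsCharacter G μ ∧ μ 1 = 1 ∧ (∀ n : N, μ n = lam n) ∧ orderOf μ = orderOf lam) ∧ ∀ μ' : G → ℂ, Cfsg.IsCharacter G μ' ∧ μ' 1 = 1 → (∀ n : N, μ' n = lam n) → Nat.Coprime N.index (orderOf μ') → μ' = μ := by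
  classical
  obtain ⟨hchar, h1⟩ := hlam
  have hmul := lin_mul lam hchar h1
  let lamM : N →* ℂ := { toFun := lam, map_one' := h1, map_mul' := hmul }
  let φ : N →* ℂˣ := lamM.toHomUnits
  have hφ : ∀ n, (φ n : ℂ) = lam n := fun n => rfl
  have hφinv : ∀ (g : G) (n : N), φ ⟨g * n * g⁻¹, hN.conj_mem (n : G) n.2 g⟩ = φ n := by
    intro g n
    apply Units.ext
    rw [hφ, hφ]
    exact hinv g n
  set i := N.index with hi
  set o := orderOf lam with ho
  have hi0 : i ≠ 0 := Subgroup.index_ne_zero_of_finite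
  have hlamo : ∀ n, lam n ^ o = 1 := by
    intro n
    have := pow_orderOf_eq_one lam
    exact congrFun this n
  have ho0 : o ≠ 0 := by
    intro h0
    have hpow : lam ^ (Nat.card N) = 1 := by
      ext n
      rw [Pi.pow_apply, Pi.one_apply, ← hφ, ← Units.val_pow_eq_pow_val, ← map_pow,
        pow_card_eq_one', map_one, Units.val_one]
    have hdvd := orderOf_dvd_of_pow_eq_one hpow
    rw [← ho, h0, zero_dvd_iff] at hdvd
    exact (Nat.card_pos (α := N)).ne' hdvd
  have hφo : ∀ n, φ n ^ o = 1 := by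
    intro n
    apply Units.ext
    rw [Units.val_pow_eq_pow_val, hφ, hlamo, Units.val_one]
  set T := MonoidHom.transfer φ with hT
  have hTN : ∀ n : N, T n = φ n ^ i := transfer_eq_pow_of_invariant N φ hφinv
  have hToi : ∀ g : G, T g ^ (o * i) = 1 := by
    intro g
    have hgi : g ^ i ∈ N := N.pow_index_mem g
    calc T g ^ (o * i) = (T (g ^ i)) ^ o := by rw [map_pow, ← pow_mul, mul_comm]
      _ = (φ ⟨g ^ i, hgi⟩ ^ i) ^ o := by rw [← hTN ⟨g ^ i, hgi⟩]
      _ = 1 := by rw [← pow_mul, mul_comm, pow_mul, hφo, one_pow]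
  have hcop2 : Nat.Coprime (i * i) o := Nat.Coprime.mul_left hcop hcop
  obtain ⟨E', hE'⟩ : ∃ E', i * i * E' ≡ 1 [MOD o] := by
    obtain ⟨m, -, hm⟩ := Nat.exists_mul_mod_eq_of_coprime 1 hcop2 ho0
    exact ⟨m, hm⟩
  let μh : G →* ℂˣ := (powMonoidHom (i * E')).comp T
  have hμh : ∀ g, μh g = T g ^ (i * E') := fun g => rfl
  have hμN : ∀ n : N, μh n = φ n := by
    intro n
    rw [hμh, hTN, ← pow_mul, ← mul_assoc]
    have hmod : i * i * E' ≡ 1 [MOD orderOf (φ n)] :=
      Nat.ModEq.of_dvd (orderOf_dvd_of_pow_eq_one (hφo n)) hE'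
    have := (pow_eq_pow_iff_modEq (x := φ n)).mpr hmod
    rw [this, pow_one]
  have hμo : ∀ g, μh g ^ o = 1 := by
    intro g
    rw [hμh, ← pow_mul]
    have : i * E' * o = (o * i) * E' := by ring
    rw [this, pow_mul, hToi, one_pow]
  refine ⟨fun g => (μh g : ℂ), ⟨isCharacter_of_hom μh, by simp, ?_, ?_⟩, ?_⟩
  · intro n
    show ((μh n : ℂˣ) : ℂ) = lam n
    rw [hμN, hφ]
  · apply Nat.dvd_antisymm
    · apply orderOf_dvd_of_pow_eq_one
      ext g
      rw [Pi.pow_apply, Pi.one_apply, ← Units.val_pow_eq_pow_val, hμo, Units.val_one]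
    · apply orderOf_dvd_of_pow_eq_one
      ext n
      have h2 := pow_orderOf_eq_one (fun g => ((μh g : ℂˣ) : ℂ))
      have h3 := congrFun h2 (n : G)
      rw [Pi.pow_apply, Pi.one_apply] at h3 ⊢
      rw [← hφ, ← hμN]
      exact h3
  · rintro μ' ⟨hchar', h1'⟩ hres hcop'
    have hmul' := lin_mul μ' hchar' h1'
    let μM : G →* ℂ := { toFun := μ', map_one' := h1', map_mul' := hmul' }
    let ψ : G →* ℂˣ := μM.toHomUnits
    have hψ : ∀ g, (ψ g : ℂ) = μ' g := fun g => rfl
    set o' := orderOf μ' with ho'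
    have hψo : ∀ g, ψ g ^ o' = 1 := by
      intro g
      apply Units.ext
      rw [Units.val_pow_eq_pow_val, hψ, Units.val_one]
      have := pow_orderOf_eq_one μ'
      exact congrFun this g
    have hψN : ∀ n : N, ψ n = φ n := by
      intro n
      apply Units.ext
      rw [hψ, hφ]
      exact hres n
    -- ν = ψ / μh
    have hν : ∀ g, ψ g * (μh g)⁻¹ = 1 := by
      intro g
      have hgi : g ^ i ∈ N := N.pow_index_mem g
      have e1 : (ψ g * (μh g)⁻¹) ^ i = 1 := by
        rw [mul_pow, inv_pow, ← map_pow, ← map_pow]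
        have a1 := hψN ⟨g ^ i, hgi⟩
        have a2 := hμN ⟨g ^ i, hgi⟩
        simp only at a1 a2
        rw [a1, a2, mul_inv_cancel]
      have e2 : (ψ g * (μh g)⁻¹) ^ (o * o') = 1 := by
        rw [mul_pow, inv_pow]
        have b1 : ψ g ^ (o * o') = 1 := by rw [mul_comm, pow_mul, hψo, one_pow]
        have b2 : μh g ^ (o * o') = 1 := by rw [pow_mul, hμo, one_pow]
        rw [b1, b2, inv_one, mul_one]
      have hc : Nat.Coprime i (o * o') := Nat.Coprime.mul_right hcop hcop'
      have := pow_gcd_eq_one.mpr ⟨e1, e2⟩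
      rw [hc.gcd_eq_one, pow_one] at this
      exact this
    ext g
    show μ' g = ((μh g : ℂˣ) : ℂ)
    rw [← hψ]
    congr 1
    exact mul_inv_eq_one.mp (hν g)

end Cfsg.Agent.S0865
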