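import Mathlib
import Cfsg.Statements.S0864
import Cfsg.Agent.S0865

set_option autoImplicit false
open Cfsg

namespace Cfsg.Agent.S0864

open Cfsg.Agent.S0865 (lin_mul isCharacter_of_hom)

theorem transfer_eq_pow_of_invariant' {G : Type*} [Group G] [Finite G] (H : Subgroup G)
    {A : Type*} [CommGroup A] (ψ : H →* A) (n : G) (hnH : n ∈ H)
    (h : ∀ (g : G) (k : ℕ) (hmem : g⁻¹ * n ^ k * g ∈ H),
      ψ ⟨g⁻¹ * n ^ k * g, hmem⟩ = ψ ⟨n, hnH⟩ ^ k) :
    MonoidHom.transfer ψ n = ψ ⟨n, hnH⟩ ^ H.index := by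
  classical
  have : Fintype (Quotient (MulAction.orbitRel (Subgroup.zpowers n) (G ⧸ H))) :=
    Fintype.ofFinite _
  rw [Subgroup.index_eq_sum_minimalPeriod H n, ← Finset.prod_pow_eq_pow_sum,
    MonoidHom.transfer_eq_prod_quotient_orbitRel_zpowers_quot]
  apply Finset.prod_congr rfl
  intro q _
  exact h _ _ _

theorem result {G : Type*} [Group G] [Finite G] (N : Subgroup G) [hN : N.Normal] (lam : N → ℂ) (hlam : Cfsg.IsCharacter N lam ∧ lam 1 = 1) (hinv : ∀ (g : G) (n : N), lam ⟨g * n * g⁻¹, hN.conj_mem (n : G) n.2 g⟩ = lam n) (hsyl : ∀ p : ℕ, p.Prime → p ∣ orderOf lam → ∃ (H : Subgroup G) (hNH : N ≤ H) (ν : H → ℂ), Nat.Coprime H.index p ∧ (∃ k : ℕ, N.relIndex H = p ^ k) ∧ Cfsg.IsCharacter H ν ∧ ν 1 = 1 ∧ ∀ n : N, ν ⟨(n : G), hNH n.2⟩ = lam n) : ∃ μ : G → ℂ, Cfsg.IsCharacter G μ ∧ μ 1 = 1 ∧ ∀ n : N, μ n = lam n := by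
  classical
  obtain ⟨hchar, h1⟩ := hlam
  have hmul := lin_mul lam hchar h1
  let lamM : N →* ℂ := { toFun := lam, map_one' := h1, map_mul' := hmul }
  let φ : N →* ℂˣ := lamM.toHomUnits
  have hφ : ∀ n, (φ n : ℂ) = lam n := fun n => rfl
  have hφinv : ∀ (g : G) (n : N), φ ⟨g * n * g⁻¹, hN.conj_mem (n : G) n.2 g⟩ = φ n := by
    intro g n
    apply Units.ext
    rw [hφ, hφ]
    exact hinv g n
  set o := orderOf lam with ho
  have hlamo : ∀ n, lam n ^ o = 1 := by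
    intro n
    have := pow_orderOf_eq_one lam
    exact congrFun this n
  have ho0 : o ≠ 0 := by
    intro h0
    have hpow : lam ^ (Nat.card N) = 1 := by
      ext n
      rw [Pi.pow_apply, Pi.one_apply, ← hφ, ← Units.val_pow_eq_pow_val, ← map_pow,
        pow_card_eq_one', map_one, Units.val_one]
    have hdvd := orderOf_dvd_of_pow_eq_one hpow
    rw [← ho, h0, zero_dvd_iff] at hdvd
    exact (Nat.card_pos (α := N)).ne' hdvd
  have hφo : ∀ n, φ n ^ o = 1 := by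
    intro n
    apply Units.ext
    rw [Units.val_pow_eq_pow_val, hφ, hlamo, Units.val_one]
  -- the subgroup of exponents k such that lam^k extends
  let S : AddSubgroup ℤ :=
    { carrier := {k | ∃ μ : G →* ℂˣ, ∀ n : N, μ n = φ n ^ k}
      zero_mem' := ⟨1, fun n => by simp⟩
      add_mem' := by
        rintro a b ⟨μ₁, h₁⟩ ⟨μ₂, h₂⟩
        exact ⟨μ₁ * μ₂, fun n => by rw [MonoidHom.mul_apply, h₁, h₂, zpow_add]⟩
      neg_mem' := by
        rintro a ⟨μ₁, h₁⟩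
        exact ⟨μ₁⁻¹, fun n => by rw [MonoidHom.inv_apply, h₁, zpow_neg]⟩ }
  have memS : ∀ k : ℤ, k ∈ S ↔ ∃ μ : G →* ℂˣ, ∀ n : N, μ n = φ n ^ k := fun k => Iff.rfl
  have hoS : (o : ℤ) ∈ S := by
    rw [memS]
    exact ⟨1, fun n => by rw [zpow_natCast, hφo]; rfl⟩
  have hdS : ∀ p : ℕ, p.Prime → p ∣ o → ∃ d : ℕ, Nat.Coprime d p ∧ (d : ℤ) ∈ S := by
    intro p hp hpo
    obtain ⟨H, hNH, ν, hcop, -, hνchar, hν1, hνres⟩ := hsyl p hp hpo
    have hνmul := lin_mul ν hνchar hν1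
    let νM : H →* ℂ := { toFun := ν, map_one' := hν1, map_mul' := hνmul }
    let ψ : H →* ℂˣ := νM.toHomUnits
    have hψ : ∀ h, (ψ h : ℂ) = ν h := fun h => rfl
    have hψN : ∀ n : N, ψ ⟨(n : G), hNH n.2⟩ = φ n := by
      intro n
      apply Units.ext
      rw [hψ, hφ]
      exact hνres n
    refine ⟨H.index, hcop, ?_⟩
    rw [memS]
    refine ⟨MonoidHom.transfer ψ, ?_⟩
    intro n
    rw [transfer_eq_pow_of_invariant' H ψ (n : G) (hNH n.2), zpow_natCast, hψN]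
    intro g k hmem
    have hmemN : g⁻¹ * (n : G) ^ k * g ∈ N := by
      have := hN.conj_mem ((n : G) ^ k) (N.pow_mem n.2 k) g⁻¹
      simpa using this
    have e1 : (⟨g⁻¹ * (n : G) ^ k * g, hmem⟩ : H)
        = ⟨((⟨g⁻¹ * (n : G) ^ k * g, hmemN⟩ : N) : G), hNH hmemN⟩ := rfl
    rw [e1, hψN, hψN]
    have e2 := hφinv g⁻¹ (n ^ k)
    rw [← map_pow, ← e2]
    congr 1
    apply Subtype.ext
    simp
  -- S = ℤ
  obtain ⟨⟨g₀, hg₀S⟩, hgen⟩ := exists_zsmul_surjective (G := S)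
  have hmult : ∀ k : ℤ, k ∈ S → g₀ ∣ k := by
    intro k hk
    obtain ⟨c, hc⟩ := hgen ⟨k, hk⟩
    have := congrArg Subtype.val hc
    simp at this
    exact ⟨c, by rw [← this]; ring⟩
  have hunit : g₀.natAbs = 1 := by
    by_contra hne
    obtain ⟨r, hr, hrg⟩ := Nat.exists_prime_and_dvd hne
    have hro : r ∣ o := by
      have h2 : (g₀ : ℤ) ∣ (o : ℤ) := hmult _ hoS
      have h3 : g₀.natAbs ∣ o := by
        have := Int.natAbs_dvd_natAbs.mpr h2
        simpa using this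
      exact hrg.trans h3
    obtain ⟨d, hdcop, hdS'⟩ := hdS r hr hro
    have h2 : (g₀ : ℤ) ∣ (d : ℤ) := hmult _ hdS'
    have h3 : g₀.natAbs ∣ d := by
      have := Int.natAbs_dvd_natAbs.mpr h2
      simpa using this
    have h4 : r ∣ d := hrg.trans h3
    have h5 : r ∣ Nat.gcd d r := Nat.dvd_gcd h4 dvd_rfl
    rw [hdcop.gcd_eq_one] at h5
    exact hr.one_lt.ne' (Nat.dvd_one.mp h5)
  have h1S : (1 : ℤ) ∈ S := by
    rcases Int.natAbs_eq g₀ with h | h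
    · rw [hunit] at h
      have : (1 : ℤ) = g₀ := by rw [h]; simp
      rw [this]; exact hg₀S
    · rw [hunit] at h
      have : (1 : ℤ) = -g₀ := by rw [h]; simp
      rw [this]; exact S.neg_mem hg₀S
  obtain ⟨μ, hμ⟩ := (memS 1).mp h1S
  refine ⟨fun g => (μ g : ℂ), isCharacter_of_hom μ, by simp, ?_⟩
  intro n
  show ((μ n : ℂˣ) : ℂ) = lam n
  rw [hμ, zpow_one, hφ]

end Cfsg.Agent.S0864
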