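import Cfsg.Statements.S0866
import Cfsg.Agent.Lib.Helper28.GlueD

set_option autoImplicit false
open Cfsg

namespace Cfsg.Agent.S0866

open Cfsg.Agent.Lib.Helper28 Cfsg.Agent.Lib.Helper26 Cfsg.Agent.Lib.Helper2 Cfsg.Agent.Lib.Helper7 in
/-- Let N be a normal subgroup of the finite group G and ϑ an irreducible character of N, invariant under conjugation by G, of degree d coprime to the index of N. Then ϑ is the restriction of an irreducible character of G if and only if the determinantal character of ϑ is the restriction of a character of G of degree 1. -/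
theorem result {G : Type*} [Group G] [Finite G] (N : Subgroup G) [hN : N.Normal] (ϑ : N → ℂ) (hϑ : Cfsg.IsIrrCharacter N ϑ) (hinv : ∀ (g : G) (n : N), ϑ ⟨g * n * g⁻¹, hN.conj_mem (n : G) n.2 g⟩ = ϑ n) (d : ℕ) (hd : ϑ 1 = d) (hcop : Nat.Coprime N.index d) : (∃ χ : G → ℂ, Cfsg.IsIrrCharacter G χ ∧ (∀ n : N, χ n = ϑ n)) ↔ ∃ μ : G → ℂ, Cfsg.IsCharacter G μ ∧ μ 1 = 1 ∧ ∀ n : N, μ n = Cfsg.detChar ϑ n := by
  classical
  haveI : Fintype G := Fintype.ofFinite G
  have hϑc := isCharacter_of_isIrrCharacter hϑ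
  constructor
  · rintro ⟨χ, hχ, he⟩
    have hχc := isCharacter_of_isIrrCharacter hχ
    refine ⟨detChar χ, isCharacter_detChar hχc, detChar_one hχc, ?_⟩
    intro n
    rw [← detChar_restrict N hχc n]
    have : (fun n : N => χ n) = ϑ := funext he
    rw [this]
  · rintro ⟨μ, hμc, hμ1, hμN⟩
    obtain ⟨μh, hμh⟩ := Cfsg.Agent.Lib.Helper24.exists_hom_of_isCharacter hμc hμ1
    have hμcl := isClassFunction_of_isCharacter hμc
    obtain ⟨χ, hχ, hext, -⟩ := glue' N ϑ hϑ hinv
      (fun H ψ => ∀ h : H, detChar ψ h = μ h)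
      (by
        intro H hNH ψ₁ ψ₂ h₁ h₂ he₁ he₂ hQ₁ hQ₂
        haveI : Fintype H := Fintype.ofFinite _
        refine ext_det_unique (N.subgroupOf H) (resSub N H ϑ) (isIrrCharacter_resSub N hNH hϑ) d
          (by rw [resSub_one]; exact hd) (subgroupOf_index_coprime N H hcop) ψ₁ ψ₂ h₁ h₂
          (fun n => he₁ ⟨(n : G), Subgroup.mem_subgroupOf.mp n.2⟩)
          (fun n => he₂ ⟨(n : G), Subgroup.mem_subgroupOf.mp n.2⟩) ?_
        funext h
        rw [hQ₁ h, hQ₂ h])
      (by
        intro H hA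
        haveI : Fintype H := Fintype.ofFinite _
        have hϑ' := isIrrCharacter_resSub N hA.1 hϑ
        have hd' : resSub N H ϑ 1 = d := by rw [resSub_one]; exact hd
        have hcop' := subgroupOf_index_coprime N H hcop
        have hμ' : ∀ n : N.subgroupOf H, (((μh.comp H.subtype) n : ℂˣ) : ℂ) =
            detChar (resSub N H ϑ) n := by
          intro n
          rw [detChar_resSub N H hϑc n, ← hμN ⟨((n : H) : G), Subgroup.mem_subgroupOf.mp n.2⟩, hμh]
          rfl
        obtain ⟨η, hη, heη⟩ := ext_solvable_det (N.subgroupOf H) hA.2 (resSub N H ϑ) hϑ'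
          (resSub_inv N H hinv) d hd' hcop' (μh.comp H.subtype) hμ'
        obtain ⟨χ, hχ, heχ, hdetχ⟩ := ext_det_exists (N.subgroupOf H) (resSub N H ϑ) d hd' hcop'
          η hη heη (μh.comp H.subtype) hμ'
        refine ⟨χ, hχ, ?_, ?_⟩
        · intro n
          exact heχ ⟨⟨n, hA.1 n.2⟩, Subgroup.mem_subgroupOf.mpr n.2⟩
        · intro h
          rw [hdetχ, hμh]
          rfl)
      (by
        intro K H hKH hNK ψ hψ hext hQ k
        have h2 : detChar (fun k : K => ψ ⟨k, hKH k.2⟩) k =
            detChar ψ (Subgroup.inclusion hKH k) :=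
          detChar_comp (Subgroup.inclusion hKH) (isCharacter_of_isIrrCharacter hψ) k
        rw [h2]
        exact hQ _)
      (by
        intro H H' x h hNH ψ hψ hext hQ y
        have h2 : detChar (fun y : H' => ψ ⟨x⁻¹ * y * x, (h y).mp y.2⟩) y =
            detChar ψ (Cfsg.Agent.Lib.Helper28.conjHom x h y) :=
          detChar_comp (Cfsg.Agent.Lib.Helper28.conjHom x h) (isCharacter_of_isIrrCharacter hψ) y
        rw [h2, hQ]
        show μ (x⁻¹ * (y : G) * x) = μ y
        have := hμcl (y : G) x⁻¹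
        rw [inv_inv] at this
        exact this)
    exact ⟨χ, hχ, hext⟩

end Cfsg.Agent.S0866
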