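import Cfsg.Statements.S0867
import Cfsg.Agent.Lib.Helper28.GlueD
import Cfsg.Agent.Lib.Helper28.GlueE

set_option autoImplicit false
open Cfsg

namespace Cfsg.Agent.S0867

open Cfsg.Agent.Lib.Helper28 Cfsg.Agent.Lib.Helper26 Cfsg.Agent.Lib.Helper2 Cfsg.Agent.Lib.Helper7

theorem detOrder_comp_mulEquiv {K K' : Type*} [Group K] [Group K'] [Finite K] [Finite K']
    (e : K' ≃* K) {ψ : K → ℂ} (hψ : IsCharacter K ψ) :
    detOrder (fun k : K' => ψ (e k)) = detOrder ψ := by
  apply Nat.dvd_antisymm
  · exact detOrder_comp_dvd e.toMonoidHom hψ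
  · have h1 := detOrder_comp_dvd e.symm.toMonoidHom
      (isCharacter_comp_hom hψ e.toMonoidHom)
    have h2 : (fun k : K => (ψ ∘ e.toMonoidHom) (e.symm.toMonoidHom k)) = ψ := by
      funext k
      show ψ (e (e.symm k)) = ψ k
      rw [MulEquiv.apply_symm_apply]
    rw [h2] at h1
    exact h1

/-- Let N be a normal subgroup of the finite group G and ϑ an irreducible character of N of degree d, invariant under conjugation by G, such that the index of N is coprime to the product of d and the determinantal order of ϑ. Then there is an irreducible character χ of G restricting to ϑ whose determinantal order equals that of ϑ, and χ is the only irreducible character of G restricting to ϑ whose determinantal order is coprime to the index of N. -/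
theorem result {G : Type*} [Group G] [Finite G] (N : Subgroup G) [hN : N.Normal] (ϑ : N → ℂ) (hϑ : Cfsg.IsIrrCharacter N ϑ) (hinv : ∀ (g : G) (n : N), ϑ ⟨g * n * g⁻¹, hN.conj_mem (n : G) n.2 g⟩ = ϑ n) (d : ℕ) (hd : ϑ 1 = d) (hcop : Nat.Coprime N.index (Cfsg.detOrder ϑ * d)) : ∃ χ : G → ℂ, (Cfsg.IsIrrCharacter G χ ∧ (∀ n : N, χ n = ϑ n) ∧ Cfsg.detOrder χ = Cfsg.detOrder ϑ) ∧ ∀ χ' : G → ℂ, Cfsg.IsIrrCharacter G χ' → (∀ n : N, χ' n = ϑ n) → Nat.Coprime N.index (Cfsg.detOrder χ') → χ' = χ := by
  classical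
  haveI : Fintype G := Fintype.ofFinite G
  have hϑc := isCharacter_of_isIrrCharacter hϑ
  have hcd : Nat.Coprime N.index d := Nat.Coprime.coprime_dvd_right (dvd_mul_left _ _) hcop
  have hco : Nat.Coprime N.index (detOrder ϑ) :=
    Nat.Coprime.coprime_dvd_right (dvd_mul_right _ _) hcop
  have hres_ord : ∀ H : Subgroup G, N ≤ H → detOrder (resSub N H ϑ) = detOrder ϑ := by
    intro H hNH
    exact detOrder_comp_mulEquiv (Subgroup.subgroupOfEquivOfLe hNH) hϑc
  obtain ⟨χ, hχ, hext, hall⟩ := glue' N ϑ hϑ hinv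
    (fun H ψ => detOrder ψ = detOrder ϑ)
    (by
      intro H hNH ψ₁ ψ₂ h₁ h₂ he₁ he₂ hQ₁ hQ₂
      haveI : Fintype H := Fintype.ofFinite _
      refine ext_coprime_unique (N.subgroupOf H) (resSub N H ϑ) (isIrrCharacter_resSub N hNH hϑ) d
        (by rw [resSub_one]; exact hd) (subgroupOf_index_coprime N H hcd) ψ₁ ψ₂ h₁ h₂
        (fun n => he₁ ⟨(n : G), Subgroup.mem_subgroupOf.mp n.2⟩)
        (fun n => he₂ ⟨(n : G), Subgroup.mem_subgroupOf.mp n.2⟩) ?_ ?_
      · rw [hQ₁]; exact subgroupOf_index_coprime N H hco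
      · rw [hQ₂]; exact subgroupOf_index_coprime N H hco)
    (by
      intro H hA
      haveI : Fintype H := Fintype.ofFinite _
      have hϑ' := isIrrCharacter_resSub N hA.1 hϑ
      have hd' : resSub N H ϑ 1 = d := by rw [resSub_one]; exact hd
      have hcop' : Nat.Coprime (N.subgroupOf H).index (detOrder (resSub N H ϑ) * d) := by
        rw [hres_ord H hA.1]
        exact subgroupOf_index_coprime N H hcop
      obtain ⟨χ, hχ, heχ, hoχ⟩ := ext_coprime_solvable (N.subgroupOf H) hA.2 (resSub N H ϑ) hϑ'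
        (resSub_inv N H hinv) d hd' hcop'
      refine ⟨χ, hχ, ?_, ?_⟩
      · intro n
        exact heχ ⟨⟨n, hA.1 n.2⟩, Subgroup.mem_subgroupOf.mpr n.2⟩
      · rw [hoχ, hres_ord H hA.1])
    (by
      intro K H hKH hNK ψ hψ hext hQ
      exact detOrder_sandwich (Subgroup.inclusion hKH) (Subgroup.inclusion hNK)
        (isCharacter_of_isIrrCharacter hψ) (fun m => hext m) hQ)
    (by
      intro H H' x h hNH ψ hψ hext hQ
      have h5 := (conj_irr_ext N ϑ hinv x h hNH hψ hext).2
      exact detOrder_sandwich (Cfsg.Agent.Lib.Helper28.conjHom x h)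
        (Subgroup.inclusion (le_of_conj_iff N x h hNH))
        (isCharacter_of_isIrrCharacter hψ) (fun m => h5 m) hQ)
  have hχc := isCharacter_of_isIrrCharacter hχ
  have hdet : detOrder χ = detOrder ϑ := by
    apply Nat.dvd_antisymm
    · unfold detOrder
      apply orderOf_dvd_of_pow_eq_one
      funext g
      rw [Pi.pow_apply]
      have hA := adm_zpowers N g
      have h1 := hall _ hA
      have h2 := pow_orderOf_eq_one
        (detChar (fun h : ↥(N ⊔ Subgroup.zpowers g) => χ h))
      have h3 : orderOf (detChar (fun h : ↥(N ⊔ Subgroup.zpowers g) => χ h)) =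
          orderOf (detChar ϑ) := h1
      rw [h3] at h2
      have h4 := congrFun h2 ⟨g, self_mem_sup_zpowers N g⟩
      rw [Pi.pow_apply, detChar_restrict _ hχc] at h4
      exact h4
    · have h1 := detOrder_comp_dvd N.subtype hχc
      have h2 : (fun n : N => χ (N.subtype n)) = ϑ := funext hext
      rw [h2] at h1
      exact h1
  refine ⟨χ, ⟨hχ, hext, hdet⟩, ?_⟩
  intro χ' hχ' he' hco'
  exact ext_coprime_unique N ϑ hϑ d hd hcd χ' χ hχ' hχ he' hext hco' (by rw [hdet]; exact hco)

end Cfsg.Agent.S0867
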