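import Cfsg.Statements.S0869
import Mathlib.GroupTheory.Archimedean
import Mathlib.Tactic

set_option autoImplicit false
open Cfsg

namespace Cfsg.Agent.S0869

theorem result {S : Type*} [Finite S] [Nonempty S] (R : AddSubgroup (S → ℤ)) (hmul : ∀ f ∈ R, ∀ g ∈ R, f * g ∈ R) (h1 : (1 : S → ℤ) ∉ R) : ∃ (x : S) (p : ℕ), p.Prime ∧ ∀ f ∈ R, (p : ℤ) ∣ f x := by
  classical
  by_contra hcon
  push Not at hcon
  -- for every x there is f ∈ R with f x = 1
  have hone : ∀ x : S, ∃ f ∈ R, f x = 1 := by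
    intro x
    obtain ⟨a, ha⟩ := Int.subgroup_cyclic (R.map (Pi.evalAddMonoidHom (fun _ : S => ℤ) x))
    rw [← AddSubgroup.zmultiples_eq_closure] at ha
    have hdvd : ∀ f ∈ R, a ∣ f x := by
      intro f hf
      have : f x ∈ R.map (Pi.evalAddMonoidHom (fun _ : S => ℤ) x) := ⟨f, hf, rfl⟩
      rw [ha, Int.mem_zmultiples_iff] at this
      exact this
    by_cases hna : a.natAbs = 1
    · have hmem : a ∈ R.map (Pi.evalAddMonoidHom (fun _ : S => ℤ) x) := by
        rw [ha]; exact AddSubgroup.mem_zmultiples a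
      obtain ⟨f, hf, hfx⟩ := hmem
      have hfx' : f x = a := hfx
      rcases Int.natAbs_eq a with h | h
      · refine ⟨f, hf, ?_⟩
        rw [hfx', h, hna]; rfl
      · refine ⟨-f, R.neg_mem hf, ?_⟩
        rw [Pi.neg_apply, hfx', h, hna]; rfl
    · exfalso
      obtain ⟨p, hp, hpa⟩ := Nat.exists_prime_and_dvd hna
      obtain ⟨f, hf, hfx⟩ := hcon x p hp
      apply hfx
      have h2 : (p : ℤ) ∣ a := by
        rw [← Int.natAbs_dvd_natAbs]
        simpa using hpa
      exact dvd_trans h2 (hdvd f hf)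
  choose f hfR hfx using hone
  haveI : Fintype S := Fintype.ofFinite S
  have key : ∀ T : Finset S, (1 - ∏ x ∈ T, (1 - f x)) ∈ R := by
    intro T
    induction T using Finset.induction_on with
    | empty => simp [R.zero_mem]
    | insert y T hy ih =>
      rw [Finset.prod_insert hy]
      have : (1 : S → ℤ) - (1 - f y) * ∏ x ∈ T, (1 - f x)
          = f y + (1 - ∏ x ∈ T, (1 - f x)) - f y * (1 - ∏ x ∈ T, (1 - f x)) := by ring
      rw [this]
      exact R.sub_mem (R.add_mem (hfR y) ih) (hmul _ (hfR y) _ ih)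
  have hzero : ∏ x ∈ (Finset.univ : Finset S), (1 - f x) = 0 := by
    funext s
    rw [Finset.prod_apply]
    apply Finset.prod_eq_zero (Finset.mem_univ s)
    simp [hfx s]
  have := key Finset.univ
  rw [hzero, sub_zero] at this
  exact h1 this

end Cfsg.Agent.S0869
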