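import Cfsg.Statements.S0875
import Cfsg.Agent.Lib.Helper28.SectionFn

set_option autoImplicit false
open Cfsg

namespace Cfsg.Agent.S0875

open Cfsg.Agent.Lib.Helper28 in
/-- Let G be a finite group of order m * n with m and n coprime, and g an element whose order is coprime to m. Every x in G factors uniquely as x = u * v with u, v commuting, the order of u coprime to n and the order of v coprime to m; let ϑ be the function on G equal to n at those x whose factor v is conjugate to g and equal to 0 elsewhere. Then ϑ is a linear combination of the irreducible characters of G with algebraic-integer coefficients. -/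
theorem result {G : Type*} [Group G] [Fintype G] (m n : ℕ) (hmn : Nat.card G = m * n) (hcop : Nat.Coprime m n) (g : G) (hg : Nat.Coprime (orderOf g) m) (ϑ : G → ℂ) (hϑ1 : ∀ x : G, (∃ v : G, IsConj v g ∧ (∃ u : G, x = u * v ∧ Commute u v ∧ Nat.Coprime (orderOf u) n ∧ Nat.Coprime (orderOf v) m)) → ϑ x = n) (hϑ0 : ∀ x : G, (¬ ∃ v : G, IsConj v g ∧ (∃ u : G, x = u * v ∧ Commute u v ∧ Nat.Coprime (orderOf u) n ∧ Nat.Coprime (orderOf v) m)) → ϑ x = 0) : ∃ c : Cfsg.IrrCharacter G → ℂ, (∀ χ, c χ ∈ Cfsg.AlgInt) ∧ ϑ = ∑ᶠ χ : Cfsg.IrrCharacter G, c χ • (χ : G → ℂ) := by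
  classical
  have : Fintype (IrrCharacter G) := Fintype.ofFinite _
  have hcard : Nat.card G = n * m := by rw [hmn, mul_comm]
  have hnm : Nat.Coprime n m := hcop.symm
  obtain ⟨k, hk1, hk0⟩ := exists_crt_exp hnm
  have hpow : ∀ x : G, x ^ (n * m) = 1 := fun x => by rw [← hcard]; exact pow_card_eq_one'
  -- the condition in terms of the power map
  have hcond : ∀ x : G, (∃ v : G, IsConj v g ∧ (∃ u : G, x = u * v ∧ Commute u v ∧
      Nat.Coprime (orderOf u) n ∧ Nat.Coprime (orderOf v) m)) ↔ IsConj (x ^ k) g := by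
    intro x
    constructor
    · rintro ⟨v, hvg, u, rfl, huv, hu, hv⟩
      have hum : u ^ m = 1 := by
        have h1 : orderOf u ∣ n * m := orderOf_dvd_of_pow_eq_one (hpow u)
        exact orderOf_dvd_iff_pow_eq_one.mp (hu.dvd_of_dvd_mul_left h1)
      have hvn : v ^ n = 1 := by
        have h1 : orderOf v ∣ n * m := orderOf_dvd_of_pow_eq_one (hpow v)
        exact orderOf_dvd_iff_pow_eq_one.mp (hv.dvd_of_dvd_mul_right h1)
      rw [huv.mul_pow, pow_k_eq_one hk0 hum, pow_k_eq_self hk1 hvn, one_mul]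
      exact hvg
    · intro h
      refine ⟨x ^ k, h, x * (x ^ k)⁻¹, ?_, ?_, ?_, ?_⟩
      · group
      · exact Commute.mul_left ((Commute.refl x).pow_right k) ((Commute.refl (x ^ k)).inv_left)
      · have h1 := compl_pow_m hk1 (hpow x)
        exact Nat.Coprime.coprime_dvd_left (orderOf_dvd_of_pow_eq_one h1) hcop
      · have h1 := pow_k_pow_n hk0 (hpow x)
        exact Nat.Coprime.coprime_dvd_left (orderOf_dvd_of_pow_eq_one h1) hnm
  have hϑ : ∀ x : G, ϑ x = if IsConj (x ^ k) g then (n : ℂ) else 0 := by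
    intro x
    by_cases h : IsConj (x ^ k) g
    · rw [if_pos h]; exact hϑ1 x ((hcond x).mpr h)
    · rw [if_neg h]; exact hϑ0 x (fun h' => h ((hcond x).mp h'))
  have hcl : IsClassFunction G ϑ := by
    intro x t
    rw [hϑ, hϑ]
    have h2 : (t * x * t⁻¹) ^ k = t * x ^ k * t⁻¹ := conj_pow
    have h3 : IsConj (t * x ^ k * t⁻¹) g ↔ IsConj (x ^ k) g := by
      have hx : IsConj (x ^ k) (t * x ^ k * t⁻¹) := isConj_iff.mpr ⟨t, rfl⟩
      exact ⟨fun h => hx.trans h, fun h => hx.symm.trans h⟩
    rw [h2]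
    simp only [h3]
  refine ⟨fun χ => classInner ϑ (χ : G → ℂ), ?_, ?_⟩
  · intro χ
    show classInner ϑ (χ : G → ℂ) ∈ integralClosure ℤ ℂ
    rw [mem_integralClosure_iff]
    apply brauer_characterization_algInt ϑ hcl
    intro E q hq hE _ ψ
    have h := section_restrict_isIntegral hcard hnm hk1 hk0 g ϑ
      (fun x => by rw [hϑ x]) E q hq hE ψ
    exact h
  · rw [finsum_eq_sum_of_fintype]
    exact Cfsg.Agent.Lib.Helper4.classFunction_expansion ϑ hcl

end Cfsg.Agent.S0875
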