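import Cfsg.Statements.S0876
import Cfsg.Agent.Lib.Helper28.PRegCong
import Cfsg.Agent.Lib.Helper28.SectionFn

set_option autoImplicit false
open Cfsg

namespace Cfsg.Agent.S0876

open Cfsg.Agent.Lib.Helper28 Cfsg.Agent.Lib.Helper26 in
/-- Let G be a finite group, p a prime and M a maximal ideal of the ring of algebraic integers containing p. Let x, y be elements with p-parts a and b (so a⁻¹ * x and b⁻¹ * y are their p-regular parts). Then a⁻¹ * x and b⁻¹ * y are conjugate in G if and only if, for every irreducible character χ, the difference χ x - χ y lies in the local ideal at M. -/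
theorem result {G : Type*} [Group G] [Finite G] (p : ℕ) (M : Ideal Cfsg.AlgInt) (hM : Cfsg.IsPModular p M) (x y a b : G) (ha : Cfsg.IsPPart p x a) (hb : Cfsg.IsPPart p y b) : IsConj (a⁻¹ * x) (b⁻¹ * y) ↔ ∀ χ : Cfsg.IrrCharacter G, Cfsg.MemLocalIdeal M ((χ : G → ℂ) x - (χ : G → ℂ) y) := by
  classical
  have : Fintype G := Fintype.ofFinite G
  have : Fintype (IrrCharacter G) := Fintype.ofFinite _
  have hp : p.Prime := hM.1
  have hprime : M.IsPrime := hM.2.1.isPrime
  obtain ⟨r, hr, hcr, ⟨j, hj⟩, hpr⟩ := ha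
  obtain ⟨s, hs, hcs, ⟨i, hi⟩, hps⟩ := hb
  have hx' : a⁻¹ * x = r := by rw [← hr]; group
  have hy' : b⁻¹ * y = s := by rw [← hs]; group
  rw [hx', hy']
  constructor
  · intro hconj χ
    have hχc := isCharacter_of_isIrrCharacter χ.2
    have h1 := char_sub_memLocalIdeal hM hχc a r hcr hj
    have h2 := char_sub_memLocalIdeal hM hχc b s hcs hi
    have h3 : (χ : G → ℂ) r = (χ : G → ℂ) s :=
      Cfsg.Agent.Lib.Helper4.char_eq_of_isConj
        (Cfsg.Agent.Lib.Helper26.isClassFunction_of_isCharacter hχc) hconj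
    rw [hr] at h1
    rw [hs] at h2
    have h4 : (χ : G → ℂ) x - (χ : G → ℂ) y =
        ((χ : G → ℂ) x - (χ : G → ℂ) r) - ((χ : G → ℂ) y - (χ : G → ℂ) s) := by
      rw [h3]; ring
    rw [h4]
    exact memLocalIdeal_sub h1 h2
  · intro hall
    by_contra hnc
    have hG0 : Nat.card G ≠ 0 := Nat.card_pos.ne'
    obtain ⟨n, hn⟩ : ∃ n : ℕ, n = Nat.card G / p ^ (Nat.card G).factorization p := ⟨_, rfl⟩
    obtain ⟨m, hm⟩ : ∃ m : ℕ, m = p ^ (Nat.card G).factorization p := ⟨_, rfl⟩
    have hcard : Nat.card G = n * m := by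
      rw [hn, hm, mul_comm]; exact (Nat.ordProj_mul_ordCompl_eq_self _ p).symm
    have hnp : n.Coprime p := by
      rw [hn]; exact (Nat.coprime_ordCompl hp hG0).symm
    have hnm : Nat.Coprime n m := by
      rw [hm]; exact Nat.Coprime.pow_right _ hnp
    obtain ⟨k, hk1, hk0⟩ := exists_crt_exp hnm
    have hpow : ∀ z : G, z ^ (n * m) = 1 := fun z => by rw [← hcard]; exact pow_card_eq_one'
    -- `p`-elements have order dividing `m`, `p`-regular elements order dividing `n`
    have hpel : ∀ (c : G) (l : ℕ), orderOf c = p ^ l → c ^ m = 1 := by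
      intro c l hl
      have h1 : orderOf c ∣ n * m := orderOf_dvd_of_pow_eq_one (hpow c)
      have h2 : Nat.Coprime (orderOf c) n := by
        rw [hl]; exact Nat.Coprime.pow_left _ hnp.symm
      exact orderOf_dvd_iff_pow_eq_one.mp (h2.dvd_of_dvd_mul_left h1)
    have hreg : ∀ c : G, ¬ p ∣ orderOf c → c ^ n = 1 := by
      intro c hc
      have h1 : orderOf c ∣ n * m := orderOf_dvd_of_pow_eq_one (hpow c)
      have h2 : Nat.Coprime (orderOf c) m := by
        rw [hm]
        exact Nat.Coprime.pow_right _ ((Nat.Prime.coprime_iff_not_dvd hp).mpr hc).symm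
      exact orderOf_dvd_iff_pow_eq_one.mp (h2.dvd_of_dvd_mul_right h1)
    have hxk : x ^ k = r := by
      rw [← hr, hcr.mul_pow, pow_k_eq_one hk0 (hpel a j hj), pow_k_eq_self hk1 (hreg r hpr),
        one_mul]
    have hyk : y ^ k = s := by
      rw [← hs, hcs.mul_pow, pow_k_eq_one hk0 (hpel b i hi), pow_k_eq_self hk1 (hreg s hps),
        one_mul]
    -- the section function
    let ϑ : G → ℂ := fun z => if IsConj (z ^ k) r then (n : ℂ) else 0
    have hcl : IsClassFunction G ϑ := by
      intro z t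
      show (if IsConj ((t * z * t⁻¹) ^ k) r then (n : ℂ) else 0) =
        if IsConj (z ^ k) r then (n : ℂ) else 0
      have h2 : (t * z * t⁻¹) ^ k = t * z ^ k * t⁻¹ := conj_pow
      have h3 : IsConj (t * z ^ k * t⁻¹) r ↔ IsConj (z ^ k) r := by
        have hz : IsConj (z ^ k) (t * z ^ k * t⁻¹) := isConj_iff.mpr ⟨t, rfl⟩
        exact ⟨fun h => hz.trans h, fun h => hz.symm.trans h⟩
      rw [h2]
      simp only [h3]
    have hint : ∀ χ : IrrCharacter G, IsIntegral ℤ (classInner ϑ (χ : G → ℂ)) := by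
      intro χ
      apply brauer_characterization_algInt ϑ hcl
      intro E q hq hE _ ψ
      exact section_restrict_isIntegral hcard hnm hk1 hk0 r ϑ (fun z => rfl) E q hq hE ψ
    have hexp := Cfsg.Agent.Lib.Helper4.classFunction_expansion ϑ hcl
    have hval : ∀ z : G, ϑ z = ∑ χ : IrrCharacter G,
        classInner ϑ (χ : G → ℂ) * (χ : G → ℂ) z := by
      intro z
      have := congrFun hexp z
      simpa using this
    have hϑx : ϑ x = n := by
      show (if IsConj (x ^ k) r then (n : ℂ) else 0) = n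
      rw [hxk, if_pos (IsConj.refl r)]
    have hϑy : ϑ y = 0 := by
      show (if IsConj (y ^ k) r then (n : ℂ) else 0) = 0
      rw [hyk, if_neg (fun h => hnc h.symm)]
    have hmem : MemLocalIdeal M (ϑ x - ϑ y) := by
      rw [hval x, hval y, ← Finset.sum_sub_distrib]
      apply memLocalIdeal_sum
      intro χ _
      rw [← mul_sub]
      exact memLocalIdeal_isIntegral_mul (hint χ) (hall χ)
    rw [hϑx, hϑy, sub_zero] at hmem
    exact not_memLocalIdeal_natCast hM hnp hmem

end Cfsg.Agent.S0876
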