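import Cfsg.Statements.S0878

set_option autoImplicit false
open Cfsg

namespace Cfsg.Agent.S0878

/-- Key pigeonhole lemma: an element of the stabilizer of `a` fixing only `a` lies in `H`. -/
theorem mem_of_fix_only {G Ω : Type*} [Group G] [Finite G] [MulAction G Ω] [Fintype Ω]
    (h3 : ∀ g : G, ∀ a b c : Ω, a ≠ b → b ≠ c → a ≠ c → g • a = a → g • b = b → g • c = c → g = 1)
    (a : Ω) (H : Subgroup G) (hHa : H ≤ MulAction.stabilizer G a)
    (hHcard : Nat.card H + 1 = Fintype.card Ω)
    (hHfix : ∀ u ∈ H, u ≠ 1 → ∀ c : Ω, u • c = c → c = a)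
    (k : G) (hka : k • a = a) (hk : ∀ c : Ω, k • c = c → c = a) : k ∈ H := by
  classical
  have hcard' : Nat.card {c : Ω // c ≠ a} = Nat.card H := by
    rw [Nat.card_eq_fintype_card, Fintype.card_subtype_compl, Fintype.card_subtype_eq]
    omega
  have hsm : ∀ (x : G), x • a = a → ∀ c : Ω, c ≠ a → x • c ≠ a := by
    intro x hx c hc h
    apply hc
    have : x • c = x • a := by rw [h, hx]
    exact MulAction.injective x this
  let φ : {c : Ω // c ≠ a} → H → {c : Ω // c ≠ a} :=
    fun c x => ⟨(x : G) • (c : Ω), hsm x (hHa x.2) c c.2⟩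
  have hφinj : ∀ c, Function.Injective (φ c) := by
    intro c x y hxy
    have h1 : (x : G) • (c : Ω) = (y : G) • (c : Ω) := congrArg Subtype.val hxy
    have h2 : ((y : G)⁻¹ * (x : G)) • (c : Ω) = c := by rw [mul_smul, h1, inv_smul_smul]
    by_contra hne
    have h3' : (y : G)⁻¹ * (x : G) ≠ 1 := by
      intro h
      apply hne
      ext
      exact (inv_mul_eq_one.mp h).symm
    exact c.2 (hHfix _ (H.mul_mem (H.inv_mem y.2) x.2) h3' c h2)
  have hφbij : ∀ c, Function.Bijective (φ c) :=
    fun c => (hφinj c).bijective_of_nat_card_le (le_of_eq hcard')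
  choose f hf using fun c : {c : Ω // c ≠ a} =>
    (hφbij c).2 ⟨k • (c : Ω), hsm k hka c c.2⟩
  by_cases hinj : Function.Injective f
  · have hfb : Function.Bijective f := hinj.bijective_of_nat_card_le (le_of_eq hcard'.symm)
    obtain ⟨c, hc⟩ := hfb.2 1
    have := hf c
    rw [hc] at this
    have h1 : (1 : G) • (c : Ω) = k • (c : Ω) := congrArg Subtype.val this
    rw [one_smul] at h1
    exact absurd (hk c h1.symm) c.2
  · simp only [Function.Injective] at hinj
    push Not at hinj
    obtain ⟨c, c', hcc, hne⟩ := hinj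
    have e1 : ((f c : H) : G) • (c : Ω) = k • (c : Ω) := congrArg Subtype.val (hf c)
    have e2 : ((f c' : H) : G) • (c' : Ω) = k • (c' : Ω) := congrArg Subtype.val (hf c')
    rw [← hcc] at e2
    have hxH : ((f c : H) : G) ∈ H := (f c).2
    generalize ((f c : H) : G) = x at e1 e2 hxH
    have hfix1 : (x⁻¹ * k) • (c : Ω) = c := by rw [mul_smul, ← e1, inv_smul_smul]
    have hfix2 : (x⁻¹ * k) • (c' : Ω) = c' := by rw [mul_smul, ← e2, inv_smul_smul]
    have hfix3 : (x⁻¹ * k) • a = a := by
      rw [mul_smul, hka, inv_smul_eq_iff]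
      exact (hHa hxH).symm
    have h1 : x⁻¹ * k = 1 :=
      h3 _ (c : Ω) (c' : Ω) a (fun h => hne (Subtype.ext h)) c'.2 c.2 hfix1 hfix2 hfix3
    have h2 : k = x := (inv_mul_eq_one.mp h1).symm
    rw [h2]
    exact hxH

theorem result {G Ω : Type*} [Group G] [Finite G] [MulAction G Ω] [Fintype Ω] (hZ : Cfsg.IsZassenhausGroup G Ω) (a : Ω) (H : Subgroup G) (hHa : H ≤ MulAction.stabilizer G a) (hHcard : Nat.card H + 1 = Fintype.card Ω) (hHfix : ∀ u ∈ H, u ≠ 1 → ∀ c : Ω, u • c = c → c = a) : (∀ g : G, g ∉ MulAction.stabilizer G a → ∀ u ∈ H, g * u * g⁻¹ ∈ H → u = 1) ∧ Subgroup.normalizer (H : Set G) = MulAction.stabilizer G a := by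
  classical
  obtain ⟨hfaith, h2t, h3, ⟨g0, hg0, a0, b0, hab0, hga0, hgb0⟩, -⟩ := hZ
  have part1 : ∀ g : G, g ∉ MulAction.stabilizer G a → ∀ u ∈ H, g * u * g⁻¹ ∈ H → u = 1 := by
    intro g hg u hu hgu
    by_contra hu1
    apply hg
    have hne : g * u * g⁻¹ ≠ 1 := by
      intro h
      apply hu1
      have := congrArg (fun t => g⁻¹ * t * g) h
      simpa [mul_assoc] using this
    have hua : u • a = a := hHa hu
    have hfix : (g * u * g⁻¹) • (g • a) = g • a := by
      rw [mul_smul, inv_smul_smul, mul_smul, hua]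
    exact hHfix _ hgu hne _ hfix
  refine ⟨part1, ?_⟩
  -- three distinct points
  have hc0 : ∃ c0 : Ω, g0 • c0 ≠ c0 := by
    by_contra hcon
    push Not at hcon
    apply hg0
    apply hfaith.eq_of_smul_eq_smul
    intro c
    rw [hcon c, one_smul]
  obtain ⟨c0, hc0⟩ := hc0
  have h3card : 2 < Fintype.card Ω := by
    rw [Fintype.two_lt_card_iff]
    refine ⟨a0, b0, c0, hab0, ?_, ?_⟩
    · rintro rfl; exact hc0 hga0
    · rintro rfl; exact hc0 hgb0
  have hHnt : ∃ u ∈ H, u ≠ 1 := by
    have h1 : 1 < Nat.card H := by omega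
    have : Nontrivial H := (Finite.one_lt_card_iff_nontrivial).mp h1
    obtain ⟨u, hu⟩ := exists_ne (1 : H)
    exact ⟨u, u.2, fun h => hu (Subtype.ext h)⟩
  obtain ⟨u, huH, hu1⟩ := hHnt
  -- conjugation by stabilizer elements preserves H
  have hconj : ∀ s : G, s • a = a → ∀ h ∈ H, s * h * s⁻¹ ∈ H := by
    intro s hs h hh
    by_cases h1 : h = 1
    · rw [h1]; simp
    · have hha : h • a = a := hHa hh
      have hs' : s⁻¹ • a = a := by rw [inv_smul_eq_iff, hs]
      apply mem_of_fix_only h3 a H hHa hHcard hHfix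
      · rw [mul_smul, mul_smul, hs', hha, hs]
      · intro c hc
        rw [mul_smul, mul_smul] at hc
        have h4 : h • (s⁻¹ • c) = s⁻¹ • c := by
          have := congrArg (fun t => s⁻¹ • t) hc
          simpa [inv_smul_smul] using this
        have h5 : s⁻¹ • c = a := hHfix h hh h1 _ h4
        rw [inv_smul_eq_iff, hs] at h5
        exact h5
  ext g
  rw [Subgroup.mem_normalizer_iff]
  constructor
  · intro hg
    by_contra hga
    exact hu1 (part1 g hga u huH ((hg u).mp huH))
  · intro hg h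
    have hga : g • a = a := hg
    constructor
    · exact hconj g hga h
    · intro hh
      have hg' : g⁻¹ • a = a := by rw [inv_smul_eq_iff, hga]
      have := hconj g⁻¹ hg' _ hh
      simpa [mul_assoc] using this

end Cfsg.Agent.S0878
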