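import Cfsg.Statements.S0879

set_option autoImplicit false
open Cfsg

namespace Cfsg.Agent.S0879

theorem mem_E_iff {G Ω : Type*} [Group G] [MulAction G Ω] {a b : Ω} (g : G) :
    g ∈ (MulAction.stabilizer G a ⊓ MulAction.stabilizer G b : Subgroup G) ↔ g • a = a ∧ g • b = b := by
  rw [Subgroup.mem_inf, MulAction.mem_stabilizer_iff, MulAction.mem_stabilizer_iff]

theorem lemmaA {G Ω : Type*} [Group G] [MulAction G Ω] {a b : Ω} (g : G)
    (hg : (g • a = a ∧ g • b = b) ∨ (g • a = b ∧ g • b = a)) :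
    g ∈ Subgroup.normalizer ((MulAction.stabilizer G a ⊓ MulAction.stabilizer G b : Subgroup G) : Set G) := by
  rw [Subgroup.mem_normalizer_iff]
  intro h
  rw [mem_E_iff, mem_E_iff]
  simp only [mul_smul]
  rcases hg with ⟨h1, h2⟩ | ⟨h1, h2⟩
  · have h1' : g⁻¹ • a = a := by rw [inv_smul_eq_iff, h1]
    have h2' : g⁻¹ • b = b := by rw [inv_smul_eq_iff, h2]
    rw [h1', h2']
    constructor
    · rintro ⟨e1, e2⟩
      rw [e1, e2]
      exact ⟨h1, h2⟩
    · rintro ⟨e1, e2⟩
      constructor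
      · have := congrArg (fun t => g⁻¹ • t) e1
        simpa [inv_smul_smul, h1'] using this
      · have := congrArg (fun t => g⁻¹ • t) e2
        simpa [inv_smul_smul, h2'] using this
  · have h1' : g⁻¹ • b = a := by rw [inv_smul_eq_iff, h1]
    have h2' : g⁻¹ • a = b := by rw [inv_smul_eq_iff, h2]
    rw [h1', h2']
    constructor
    · rintro ⟨e1, e2⟩
      rw [e1, e2]
      exact ⟨h2, h1⟩
    · rintro ⟨e1, e2⟩
      constructor
      · have := congrArg (fun t => g⁻¹ • t) e2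
        simpa [inv_smul_smul, h1'] using this
      · have := congrArg (fun t => g⁻¹ • t) e1
        simpa [inv_smul_smul, h2'] using this

theorem lemmaB {G Ω : Type*} [Group G] [MulAction G Ω] {a b : Ω} (hab : a ≠ b)
    (h3 : ∀ g : G, ∀ a b c : Ω, a ≠ b → b ≠ c → a ≠ c → g • a = a → g • b = b → g • c = c → g = 1)
    (g x : G) (hx : x ∈ (MulAction.stabilizer G a ⊓ MulAction.stabilizer G b : Subgroup G))
    (hx1 : x ≠ 1)
    (hgx : g * x * g⁻¹ ∈ (MulAction.stabilizer G a ⊓ MulAction.stabilizer G b : Subgroup G)) :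
    (g • a = a ∧ g • b = b) ∨ (g • a = b ∧ g • b = a) := by
  rw [mem_E_iff] at hx hgx
  obtain ⟨hxa, hxb⟩ := hx
  obtain ⟨hya, hyb⟩ := hgx
  have hne : g * x * g⁻¹ ≠ 1 := by
    intro h
    apply hx1
    have := congrArg (fun t => g⁻¹ * t * g) h
    simpa [mul_assoc] using this
  have hfa : (g * x * g⁻¹) • (g • a) = g • a := by
    rw [mul_smul, inv_smul_smul, mul_smul, hxa]
  have hfb : (g * x * g⁻¹) • (g • b) = g • b := by
    rw [mul_smul, inv_smul_smul, mul_smul, hxb]
  have hgab : g • a ≠ g • b := fun h => hab (MulAction.injective g h)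
  have ha' : g • a = a ∨ g • a = b := by
    by_contra hcon
    push Not at hcon
    exact hne (h3 _ a b (g • a) hab (Ne.symm hcon.2) (Ne.symm hcon.1) hya hyb hfa)
  have hb' : g • b = a ∨ g • b = b := by
    by_contra hcon
    push Not at hcon
    exact hne (h3 _ a b (g • b) hab (Ne.symm hcon.2) (Ne.symm hcon.1) hya hyb hfb)
  rcases ha' with ha' | ha' <;> rcases hb' with hb' | hb'
  · exact absurd (ha'.trans hb'.symm) hgab
  · exact Or.inl ⟨ha', hb'⟩
  · exact Or.inr ⟨ha', hb'⟩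
  · exact absurd (ha'.trans hb'.symm) hgab

theorem result {G Ω : Type*} [Group G] [Finite G] [MulAction G Ω] [Fintype Ω] (hZ : Cfsg.IsZassenhausGroup G Ω) {a b : Ω} (hab : a ≠ b) : (∀ g : G, g ∉ Subgroup.normalizer ((MulAction.stabilizer G a ⊓ MulAction.stabilizer G b : Subgroup G) : Set G) → ∀ x ∈ (MulAction.stabilizer G a ⊓ MulAction.stabilizer G b : Subgroup G), g * x * g⁻¹ ∈ (MulAction.stabilizer G a ⊓ MulAction.stabilizer G b : Subgroup G) → x = 1) ∧ ((MulAction.stabilizer G a ⊓ MulAction.stabilizer G b : Subgroup G).subgroupOf (Subgroup.normalizer ((MulAction.stabilizer G a ⊓ MulAction.stabilizer G b : Subgroup G) : Set G))).index = 2 := by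
  classical
  obtain ⟨hfaith, h2t, h3, ⟨g0, hg0, a0, b0, hab0, hga0, hgb0⟩, -⟩ := hZ
  rw [MulAction.is_two_pretransitive_iff] at h2t
  constructor
  · intro g hg x hx hgx
    by_contra hx1
    exact hg (lemmaA g (lemmaB hab h3 g x hx hx1 hgx))
  · -- a nonidentity element of E
    obtain ⟨t0, ht0a, ht0b⟩ := h2t hab0 hab
    have hx0 : t0 * g0 * t0⁻¹ ∈ (MulAction.stabilizer G a ⊓ MulAction.stabilizer G b : Subgroup G) := by
      rw [mem_E_iff]
      constructor
      · rw [mul_smul, mul_smul, ← ht0a, inv_smul_smul, hga0]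
      · rw [mul_smul, mul_smul, ← ht0b, inv_smul_smul, hgb0]
    have hx01 : t0 * g0 * t0⁻¹ ≠ 1 := by
      intro h
      apply hg0
      have := congrArg (fun t => t0⁻¹ * t * t0) h
      simpa [mul_assoc] using this
    obtain ⟨t, hta, htb⟩ := h2t hab hab.symm
    have htN := lemmaA (a := a) (b := b) t (Or.inr ⟨hta, htb⟩)
    rw [Subgroup.index_eq_two_iff]
    refine ⟨⟨t, htN⟩, ?_⟩
    rintro ⟨g, hg⟩
    rw [Subgroup.mem_subgroupOf, Subgroup.mem_subgroupOf]
    simp only [Subgroup.coe_mul]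
    rw [mem_E_iff, mem_E_iff]
    have hgx0 : g * (t0 * g0 * t0⁻¹) * g⁻¹ ∈
        (MulAction.stabilizer G a ⊓ MulAction.stabilizer G b : Subgroup G) :=
      (Subgroup.mem_normalizer_iff.mp hg _).mp hx0
    rcases lemmaB hab h3 g _ hx0 hx01 hgx0 with ⟨h1, h2⟩ | ⟨h1, h2⟩
    · right
      refine ⟨⟨h1, h2⟩, ?_⟩
      rintro ⟨e1, -⟩
      rw [mul_smul, hta, h2] at e1
      exact hab e1.symm
    · left
      refine ⟨?_, ?_⟩
      · rw [mul_smul, mul_smul, hta, htb]
        exact ⟨h2, h1⟩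
      · rintro ⟨e1, -⟩
        rw [h1] at e1
        exact hab e1.symm

end Cfsg.Agent.S0879
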