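import Mathlib
import Cfsg.Statements.S0880
import Cfsg.Agent.S0339
import Cfsg.Agent.Lib.Helper16.ZassCls

set_option autoImplicit false
set_option maxHeartbeats 1000000
open Cfsg

namespace Cfsg.Agent.S0880

open Cfsg.Agent.Lib.Helper16.ZassInv Cfsg.Agent.Lib.Helper16.ZassCls

/-- Let G be a finite simple Zassenhaus group on Ω with n points whose two-point stabilizer E has odd order less than n - 2. Then there are two elements of G, each fixing no point of Ω, that are not conjugate. -/
theorem result {G Ω : Type*} [Group G] [Finite G] [MulAction G Ω] [Fintype Ω] (hZ : Cfsg.IsZassenhausGroup G Ω) {a b : Ω} (hab : a ≠ b) [IsSimpleGroup G] (hodd : Odd (Nat.card ↥(MulAction.stabilizer G a ⊓ MulAction.stabilizer G b : Subgroup G))) (hlt : Nat.card ↥(MulAction.stabilizer G a ⊓ MulAction.stabilizer G b : Subgroup G) < Fintype.card Ω - 2) : ∃ x y : G, (∀ c : Ω, x • c ≠ c) ∧ (∀ c : Ω, y • c ≠ c) ∧ ¬ IsConj x y := by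
  classical
  haveI : Fintype G := Fintype.ofFinite G
  obtain ⟨hfaith, -, h3, -, -⟩ := id hZ
  obtain ⟨-, -, hF3', -, -⟩ := Cfsg.Agent.S0339.basics hZ
  have hoddE : Odd (Nat.card (E2 G a b)) := hodd
  obtain ⟨h2t, inv⟩ := base hZ hab hoddE
  obtain ⟨F, hFa, hFfree, hFtr, hFconj, hFchar⟩ := frob_kernel hZ hab
  obtain ⟨v, hva, hvb⟩ := h2t hab hab.symm
  have hlt' : Nat.card (E2 G a b) + 1 < Fintype.card Ω := by
    have h1 : Nat.card (E2 G a b) < Fintype.card Ω - 2 := hlt
    omega
  have hFle : F ≤ MulAction.stabilizer G a := fun u hu =>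
    MulAction.mem_stabilizer_iff.mpr (hFa u hu)
  have hFfix : ∀ u ∈ F, u ≠ 1 → ∀ c : Ω, u • c = c → c = a := by
    intro u hu hu1 c huc
    by_contra hca
    exact hu1 (hFfree u hu c hca huc)
  have hk := classes_avoiding hZ hab hoddE hlt' F hFle hFfix
  have hgood : Nat.card {C : ConjClasses G // ∀ g : G, ConjClasses.mk g = C → g ∉ F} =
      (Finset.univ.filter
        (fun C : ConjClasses G => ∀ g : G, ConjClasses.mk g = C → g ∉ F)).card := by
    rw [Nat.card_eq_fintype_card, Fintype.card_subtype]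
  rw [hgood] at hk
  -- |E| ≥ 3
  have he3 : 3 ≤ Nat.card (E2 G a b) := by
    obtain ⟨g₀, hg₀1, hg₀a, hg₀b⟩ := hF3' a b hab
    have h1 : 1 < Nat.card (E2 G a b) := by
      rw [Finite.one_lt_card_iff_nontrivial]
      exact ⟨⟨⟨g₀, (mem_E2 g₀).mpr ⟨hg₀a, hg₀b⟩⟩, 1, fun e => hg₀1 (congrArg Subtype.val e)⟩⟩
    obtain ⟨k, hk'⟩ := hoddE
    omega
  by_contra hcon
  push_neg at hcon
  -- the set E minus 1
  have hS : ((Finset.univ.filter (fun k : G => k ∈ E2 G a b)).erase 1).card =
      Nat.card (E2 G a b) - 1 := by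
    rw [Finset.card_erase_of_mem (Finset.mem_filter.mpr ⟨Finset.mem_univ _, (E2 G a b).one_mem⟩),
      ← Fintype.card_subtype, ← Nat.card_eq_fintype_card]
  have himg : 2 * (((Finset.univ.filter (fun k : G => k ∈ E2 G a b)).erase 1).image
      (fun k : G => ConjClasses.mk k)).card ≤
      ((Finset.univ.filter (fun k : G => k ∈ E2 G a b)).erase 1).card := by
    rw [Finset.card_eq_sum_card_image (fun k : G => ConjClasses.mk k)
      ((Finset.univ.filter (fun k : G => k ∈ E2 G a b)).erase 1)]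
    have h1 : ∀ c ∈ ((Finset.univ.filter (fun k : G => k ∈ E2 G a b)).erase 1).image
        (fun k : G => ConjClasses.mk k),
        2 ≤ (((Finset.univ.filter (fun k : G => k ∈ E2 G a b)).erase 1).filter
          (fun k : G => ConjClasses.mk k = c)).card := by
      intro c hc
      obtain ⟨k, hkS, rfl⟩ := Finset.mem_image.mp hc
      have hk1 : k ≠ 1 := (Finset.mem_erase.mp hkS).1
      have hkE : k ∈ E2 G a b := (Finset.mem_filter.mp (Finset.mem_erase.mp hkS).2).2
      have hkinv : k⁻¹ ≠ k := by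
        intro e
        have h2 : k * k = 1 := by
          calc k * k = k⁻¹ * k := by rw [e]
            _ = 1 := inv_mul_cancel k
        have h3' : orderOf k ∣ 2 := orderOf_dvd_of_pow_eq_one (by rw [pow_two]; exact h2)
        have h4 : orderOf k ∣ Nat.card (E2 G a b) := Subgroup.orderOf_dvd_natCard _ hkE
        have h5 : Odd (orderOf k) := hoddE.of_dvd_nat h4
        have h6 : orderOf k = 1 := by
          rcases (Nat.dvd_prime Nat.prime_two).mp h3' with h | h
          · exact h
          · rw [h] at h5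
            exact absurd h5 (by decide)
        exact hk1 (orderOf_eq_one_iff.mp h6)
      apply Finset.one_lt_card.mpr
      refine ⟨k, Finset.mem_filter.mpr ⟨hkS, rfl⟩, k⁻¹, Finset.mem_filter.mpr ⟨?_, ?_⟩,
        fun e => hkinv e.symm⟩
      · rw [Finset.mem_erase]
        exact ⟨fun e => hk1 (inv_eq_one.mp e),
          Finset.mem_filter.mpr ⟨Finset.mem_univ _, (E2 G a b).inv_mem hkE⟩⟩
      · rw [ConjClasses.mk_eq_mk_iff_isConj, isConj_iff]
        refine ⟨v, ?_⟩
        rw [inv v hva hvb k⁻¹ ((E2 G a b).inv_mem hkE), inv_inv]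
    calc 2 * (((Finset.univ.filter (fun k : G => k ∈ E2 G a b)).erase 1).image
          (fun k : G => ConjClasses.mk k)).card
        = ∑ _c ∈ ((Finset.univ.filter (fun k : G => k ∈ E2 G a b)).erase 1).image
          (fun k : G => ConjClasses.mk k), 2 := by
          rw [Finset.sum_const, smul_eq_mul, mul_comm]
      _ ≤ _ := Finset.sum_le_sum h1
  -- the classes of fixed-point-free elements
  have hFp : (Finset.univ.filter (fun C : ConjClasses G =>
      ∃ x : G, (∀ c : Ω, x • c ≠ c) ∧ ConjClasses.mk x = C)).card ≤ 1 := by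
    rw [Finset.card_le_one]
    intro C hC C' hC'
    obtain ⟨x, hx, rfl⟩ := (Finset.mem_filter.mp hC).2
    obtain ⟨y, hy, rfl⟩ := (Finset.mem_filter.mp hC').2
    exact ConjClasses.mk_eq_mk_iff_isConj.mpr (hcon x y hx hy)
  -- every class avoiding F is of one of the two kinds
  have hsub : Finset.univ.filter
      (fun C : ConjClasses G => ∀ g : G, ConjClasses.mk g = C → g ∉ F) ⊆
      (((Finset.univ.filter (fun k : G => k ∈ E2 G a b)).erase 1).image
        (fun k : G => ConjClasses.mk k)) ∪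
      (Finset.univ.filter (fun C : ConjClasses G =>
        ∃ x : G, (∀ c : Ω, x • c ≠ c) ∧ ConjClasses.mk x = C)) := by
    intro C hC
    have hCav := (Finset.mem_filter.mp hC).2
    obtain ⟨g, rfl⟩ := ConjClasses.exists_rep C
    rw [Finset.mem_union]
    by_cases hfp : ∀ p : Ω, g • p ≠ p
    · right
      exact Finset.mem_filter.mpr ⟨Finset.mem_univ _, g, hfp, rfl⟩
    · left
      push_neg at hfp
      obtain ⟨p, hp⟩ := hfp
      have hc : ∃ c : G, c • p = a := by
        by_cases hpa : p = a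
        · exact ⟨1, by rw [one_smul, hpa]⟩
        · obtain ⟨c, hc1, -⟩ := h2t (a := p) (b := a) (c := a) (d := p) hpa (Ne.symm hpa)
          exact ⟨c, hc1⟩
      obtain ⟨c, hcp⟩ := hc
      have hcia : c⁻¹ • a = p := by rw [inv_smul_eq_iff, hcp]
      have hg'a : (c * g * c⁻¹) • a = a := by
        rw [mul_smul, mul_smul, hcia, hp, hcp]
      have hmk' : ConjClasses.mk (c * g * c⁻¹) = ConjClasses.mk g := by
        rw [ConjClasses.mk_eq_mk_iff_isConj]
        exact (isConj_iff.mpr ⟨c, rfl⟩).symm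
      have hg'F : c * g * c⁻¹ ∉ F := hCav _ hmk'
      obtain ⟨q, hqa, hg'q⟩ := hFchar _ hg'a hg'F
      obtain ⟨c', hc'a, hc'q⟩ := h2t (a := a) (b := q) (c := a) (d := b) (Ne.symm hqa) hab
      have hc'ia : c'⁻¹ • a = a := by rw [inv_smul_eq_iff, hc'a]
      have hc'ib : c'⁻¹ • b = q := by rw [inv_smul_eq_iff, hc'q]
      have hg''E : c' * (c * g * c⁻¹) * c'⁻¹ ∈ E2 G a b := by
        rw [mem_E2]
        constructor
        · rw [mul_smul, mul_smul, hc'ia, hg'a, hc'a]
        · rw [mul_smul, mul_smul, hc'ib, hg'q, hc'q]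
      have hmk'' : ConjClasses.mk (c' * (c * g * c⁻¹) * c'⁻¹) = ConjClasses.mk g := by
        rw [← hmk', ConjClasses.mk_eq_mk_iff_isConj]
        exact (isConj_iff.mpr ⟨c', rfl⟩).symm
      have hg''1 : c' * (c * g * c⁻¹) * c'⁻¹ ≠ 1 := by
        intro e
        have hg1 : g = 1 := by
          calc g = c⁻¹ * (c'⁻¹ * (c' * (c * g * c⁻¹) * c'⁻¹) * c') * c := by group
            _ = 1 := by rw [e]; group
        exact hCav g rfl (hg1 ▸ F.one_mem)
      rw [Finset.mem_image]
      refine ⟨_, ?_, hmk''⟩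
      rw [Finset.mem_erase]
      exact ⟨hg''1, Finset.mem_filter.mpr ⟨Finset.mem_univ _, hg''E⟩⟩
  have hcard := (Finset.card_le_card hsub).trans (Finset.card_union_le _ _)
  omega

end Cfsg.Agent.S0880
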