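import Mathlib
import Cfsg.Statements.S0881
import Cfsg.Agent.S0893
import Cfsg.Agent.Lib.Helper26.MackeyTwo
import Cfsg.Agent.Lib.Helper26.CharInt
import Cfsg.Agent.Lib.Helper26.BLA
import Cfsg.Agent.Lib.Helper16.ZassInv

set_option autoImplicit false
set_option maxHeartbeats 1000000
open Cfsg
open scoped ComplexConjugate

namespace Cfsg.Agent.S0881

open Cfsg.Agent.Lib.Helper16.ZassInv Cfsg.Agent.Lib.Helper26

/-- Let G be a finite simple Zassenhaus group on Ω with n points, a ≠ b points with two-point stabilizer E of odd order less than n - 2, and let H be the subgroup of the stabilizer of a consisting of the identity and the elements fixing no point other than a (given here as a subgroup of the stabilizer of order one less than the number of points whose non-identity elements fix only a; it is the Frobenius kernel of the stabilizer). Let μ be a character of degree 1 of the stabilizer of a that is identically 1 on H but not identically 1. Then the function induced from μ to G is an irreducible character of G, and it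 takes the value 1 at every non-identity element of H. -/
theorem result {G Ω : Type*} [Group G] [Fintype G] [MulAction G Ω] [Fintype Ω] (hZ : Cfsg.IsZassenhausGroup G Ω) {a b : Ω} (hab : a ≠ b) [IsSimpleGroup G] (hodd : Odd (Nat.card ↥(MulAction.stabilizer G a ⊓ MulAction.stabilizer G b : Subgroup G))) (hlt : Nat.card ↥(MulAction.stabilizer G a ⊓ MulAction.stabilizer G b : Subgroup G) < Fintype.card Ω - 2) (H : Subgroup G) (hHa : H ≤ MulAction.stabilizer G a) (hHcard : Nat.card H + 1 = Fintype.card Ω) (hHfix : ∀ u ∈ H, u ≠ 1 → ∀ c : Ω, u • c = c → c = a) (μ : MulAction.stabilizer G a → ℂ) (hμ : Cfsg.IsCharacter (MulAction.stabilizer G a) μ ∧ μ 1 = 1) (hμH : ∀ u : MulAction.stabilizer G a, (u : G) ∈ H → μ u = 1) (hμne : μ ≠ fun _ => 1) : Cfsg.IsIrrCharacter G (Cfsg.indFun (MulAction.stabilizer G a) μ) ∧ ∀ u ∈ H, u ≠ 1 → Cfsg.indFun (MulAction.stabilizer G a) μ u = 1 := by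
  classical
  have : Fintype (MulAction.stabilizer G a) := Fintype.ofFinite _
  obtain ⟨hfaith, -, h3, -, -⟩ := id hZ
  have hoddE : Odd (Nat.card (E2 G a b)) := hodd
  obtain ⟨h2t, inv⟩ := base hZ hab hoddE
  obtain ⟨F, hFa, hFfree, hFtr, hFconj, hFchar⟩ := frob_kernel hZ hab
  obtain ⟨v, hva, hvb⟩ := h2t hab hab.symm
  have hvia : v⁻¹ • b = a := by rw [inv_smul_eq_iff, hva]
  have hvib : v⁻¹ • a = b := by rw [inv_smul_eq_iff, hvb]
  have hba : b ≠ a := hab.symm
  obtain ⟨hμc, hμ1⟩ := hμ
  have hμcls : IsClassFunction (MulAction.stabilizer G a) μ := isClassFunction_of_isCharacter hμc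
  have hmul : ∀ x y : MulAction.stabilizer G a, μ (x * y) = μ x * μ y :=
    Cfsg.Agent.S0893.lin_mul μ hμc hμ1
  have hpow : ∀ (x : MulAction.stabilizer G a) (n : ℕ), μ (x ^ n) = μ x ^ n := by
    intro x n
    induction n with
    | zero => simp [hμ1]
    | succ n ih => rw [pow_succ, hmul, ih, pow_succ]
  -- H and the Frobenius kernel
  have hHPa : ∀ u ∈ H, u • a = a := fun u hu => MulAction.mem_stabilizer_iff.mp (hHa hu)
  have hHF : ∀ u ∈ H, u ∈ F := by
    intro u hu
    by_cases hu1 : u = 1
    · rw [hu1]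
      exact F.one_mem
    · by_contra hcon
      obtain ⟨p, hpa, hup⟩ := hFchar u (hHPa u hu) hcon
      exact hpa (hHfix u hu hu1 p hup)
  have hHtr : ∀ y : Ω, y ≠ a → ∃ u ∈ H, u • b = y := by
    have hne : ∀ u : H, (u : G) • b ≠ a := by
      intro u e
      exact hba (MulAction.injective (u : G) (e.trans (hHPa u u.2).symm))
    have hinj : Function.Injective (fun u : H => (⟨(u : G) • b, hne u⟩ : {y : Ω // y ≠ a})) := by
      intro u u' huu
      have h1 : (u : G) • b = (u' : G) • b := congrArg Subtype.val huu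
      have h2 : ((u' : G)⁻¹ * (u : G)) • b = b := by
        rw [mul_smul, h1, inv_smul_smul]
      have h4 : (u' : G)⁻¹ * (u : G) = 1 := by
        by_contra hne1
        exact hba (hHfix _ (H.mul_mem (H.inv_mem u'.2) u.2) hne1 b h2)
      apply Subtype.ext
      calc (u : G) = (u' : G) * ((u' : G)⁻¹ * (u : G)) := by group
        _ = (u' : G) := by rw [h4, mul_one]
    have hc2 : Fintype.card (Option {y : Ω // y ≠ a}) = Fintype.card Ω :=
      Fintype.card_congr (Equiv.optionSubtypeNe a)
    rw [Fintype.card_option] at hc2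
    have hcard : Nat.card {y : Ω // y ≠ a} ≤ Nat.card H := by
      rw [Nat.card_eq_fintype_card]
      omega
    have hbij := hinj.bijective_of_nat_card_le hcard
    intro y hy
    obtain ⟨u, hu⟩ := hbij.2 ⟨y, hy⟩
    exact ⟨u, u.2, congrArg Subtype.val hu⟩
  have hFH : ∀ u ∈ F, u ∈ H := by
    intro u hu
    have hub : u • b ≠ a := fun e => hba (MulAction.injective u (e.trans (hFa u hu).symm))
    obtain ⟨u', hu'H, hu'b⟩ := hHtr (u • b) hub
    have h2 : (u'⁻¹ * u) • b = b := by
      rw [mul_smul, ← hu'b, inv_smul_smul]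
    have h4 : u'⁻¹ * u = 1 :=
      hFfree _ (F.mul_mem (F.inv_mem (hHF u' hu'H)) hu) b hba h2
    have : u = u' := by
      calc u = u' * (u'⁻¹ * u) := by group
        _ = u' := by rw [h4, mul_one]
    rw [this]
    exact hu'H
  -- the double coset decomposition
  have hw : ∀ x : G, x ∉ MulAction.stabilizer G a →
      ∃ p₁ ∈ MulAction.stabilizer G a, ∃ p₂ ∈ MulAction.stabilizer G a, x = p₁ * v * p₂ := by
    intro x hx
    have hxa : x • a ≠ a := fun h => hx (MulAction.mem_stabilizer_iff.mpr h)
    obtain ⟨p₁, hp₁a, hp₁b⟩ := h2t (a := a) (b := b) (c := a) (d := x • a) hab (Ne.symm hxa)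
    refine ⟨p₁, MulAction.mem_stabilizer_iff.mpr hp₁a, v⁻¹ * p₁⁻¹ * x, ?_, by group⟩
    rw [MulAction.mem_stabilizer_iff, mul_smul, mul_smul, ← hp₁b, inv_smul_smul, hvia]
  have hmack := classInner_indFun_indFun_two_cosets (MulAction.stabilizer G a) v hw μ μ
    hμcls hμcls
  -- ⟨μ, μ⟩ = 1
  have hμμ : classInner μ μ = 1 := by
    unfold classInner
    have h1 : ∀ g : MulAction.stabilizer G a, μ g * conj (μ g) = 1 := by
      intro g
      rw [Complex.mul_conj, Cfsg.Agent.Lib.Helper26.BL.normSq_eq_one_of_degree_one hμc hμ1 g]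
      simp
    rw [Finset.sum_congr rfl (fun g _ => h1 g), Finset.sum_const, Finset.card_univ,
      nsmul_eq_mul, mul_one, ← Nat.card_eq_fintype_card]
    have hne : (Nat.card (MulAction.stabilizer G a) : ℂ) ≠ 0 :=
      Nat.cast_ne_zero.2 Nat.card_pos.ne'
    exact inv_mul_cancel₀ hne
  -- a witness
  have hk₀ : ∃ k₀ : MulAction.stabilizer G a, (k₀ : G) • b = b ∧ μ k₀ * μ k₀ ≠ 1 := by
    have hex : ∃ g : MulAction.stabilizer G a, μ g ≠ 1 := by
      by_contra hcon
      push_neg at hcon
      exact hμne (funext hcon)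
    obtain ⟨g, hg⟩ := hex
    have hga : (g : G) • a = a := MulAction.mem_stabilizer_iff.mp g.2
    have hgb : (g : G) • b ≠ a := fun e => hba (MulAction.injective (g : G) (e.trans hga.symm))
    obtain ⟨u, huH, hub⟩ := hHtr ((g : G) • b) hgb
    let uP : MulAction.stabilizer G a := ⟨u, hHa huH⟩
    refine ⟨uP⁻¹ * g, ?_, ?_⟩
    · show (u⁻¹ * (g : G)) • b = b
      rw [mul_smul, ← hub, inv_smul_smul]
    · have hgk : μ g = μ (uP⁻¹ * g) := by
        have h1 : g = uP * (uP⁻¹ * g) := by group
        have h2 := hmul uP (uP⁻¹ * g)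
        rw [← h1, hμH uP huH, one_mul] at h2
        exact h2
      have hkE : ((uP⁻¹ * g : MulAction.stabilizer G a) : G) ∈ E2 G a b := by
        rw [mem_E2]
        refine ⟨MulAction.mem_stabilizer_iff.mp (uP⁻¹ * g).2, ?_⟩
        show (u⁻¹ * (g : G)) • b = b
        rw [mul_smul, ← hub, inv_smul_smul]
      have hord : Odd (orderOf (uP⁻¹ * g)) := by
        rw [← Subgroup.orderOf_coe]
        exact hoddE.of_dvd_nat (Subgroup.orderOf_dvd_natCard _ hkE)
      obtain ⟨j, hj⟩ := hord
      intro hsq
      apply hg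
      rw [hgk]
      have h5 : μ (uP⁻¹ * g) ^ (2 * j + 1) = 1 := by
        rw [← hpow, ← hj, pow_orderOf_eq_one, hμ1]
      rw [pow_succ, pow_mul, pow_two, hsq, one_pow, one_mul] at h5
      exact h5
  obtain ⟨k₀, hk₀b, hk₀sq⟩ := hk₀
  -- the Mackey term vanishes
  have hmt : mackeyTerm (MulAction.stabilizer G a) μ μ v = 0 := by
    unfold mackeyTerm
    have hterm : ∀ h : MulAction.stabilizer G a,
        μ h * conj (extendByZero (MulAction.stabilizer G a) μ (v⁻¹ * (h : G) * v)) =
          if (h : G) • b = b then μ h * μ h else 0 := by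
      intro h
      have hha : (h : G) • a = a := MulAction.mem_stabilizer_iff.mp h.2
      by_cases hb : (h : G) • b = b
      · rw [if_pos hb]
        have hhE : (h : G) ∈ E2 G a b := (mem_E2 _).mpr ⟨hha, hb⟩
        have h1 := inv v⁻¹ hvib hvia (h : G) hhE
        rw [inv_inv] at h1
        have e : ((h : G))⁻¹ = ((h⁻¹ : MulAction.stabilizer G a) : G) := rfl
        rw [h1, e, extendByZero_apply_coe, isCharacter_conj_eq_inv hμc, inv_inv]
      · rw [if_neg hb]
        have hmem : v⁻¹ * (h : G) * v ∉ MulAction.stabilizer G a := by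
          intro hm
          apply hb
          have h1 := MulAction.mem_stabilizer_iff.mp hm
          rw [mul_smul, mul_smul, hva, inv_smul_eq_iff, hva] at h1
          exact h1
        rw [extendByZero_apply_not_mem _ μ _ hmem, map_zero, mul_zero]
    rw [Finset.sum_congr rfl (fun h _ => hterm h)]
    have hshift : ∑ h : MulAction.stabilizer G a,
        (if ((k₀ * h : MulAction.stabilizer G a) : G) • b = b then μ (k₀ * h) * μ (k₀ * h) else 0) =
        ∑ h : MulAction.stabilizer G a, (if (h : G) • b = b then μ h * μ h else 0) :=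
      Fintype.sum_equiv (Equiv.mulLeft k₀) _ _ (fun h => rfl)
    have hscale : ∀ h : MulAction.stabilizer G a,
        (if ((k₀ * h : MulAction.stabilizer G a) : G) • b = b then μ (k₀ * h) * μ (k₀ * h) else 0) =
        (μ k₀ * μ k₀) * (if (h : G) • b = b then μ h * μ h else 0) := by
      intro h
      have hiff : ((k₀ * h : MulAction.stabilizer G a) : G) • b = b ↔ (h : G) • b = b := by
        show ((k₀ : G) * (h : G)) • b = b ↔ _
        rw [mul_smul]
        constructor
        · intro h1
          have h2 : (k₀ : G)⁻¹ • b = b := by rw [inv_smul_eq_iff, hk₀b]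
          calc (h : G) • b = (k₀ : G)⁻¹ • ((k₀ : G) • (h : G) • b) := (inv_smul_smul _ _).symm
            _ = (k₀ : G)⁻¹ • b := by rw [h1]
            _ = b := h2
        · intro h1
          rw [h1, hk₀b]
      by_cases hb : (h : G) • b = b
      · rw [if_pos hb, if_pos (hiff.mpr hb), hmul]
        ring
      · rw [if_neg hb, if_neg (fun h1 => hb (hiff.mp h1)), mul_zero]
    rw [Finset.sum_congr rfl (fun h _ => hscale h), ← Finset.mul_sum] at hshift
    have h6 : (μ k₀ * μ k₀ - 1) *
        ∑ h : MulAction.stabilizer G a, (if (h : G) • b = b then μ h * μ h else 0) = 0 := by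
      rw [sub_mul, one_mul, hshift, sub_self]
    rcases mul_eq_zero.mp h6 with h7 | h7
    · exact absurd (sub_eq_zero.mp h7) hk₀sq
    · exact h7
  have hnorm : classInner (indFun (MulAction.stabilizer G a) μ)
      (indFun (MulAction.stabilizer G a) μ) = 1 := by
    rw [hmack, hμμ, hmt, mul_zero, add_zero]
  constructor
  · apply isIrrCharacter_of_norm_one
      (isGeneralizedCharacter_of_isCharacter (isCharacter_indFun _ hμc)) hnorm
    have h1 : indFun (MulAction.stabilizer G a) μ 1 =
        (((Nat.card (MulAction.stabilizer G a) : ℝ)⁻¹ * (Fintype.card G : ℝ) : ℝ) : ℂ) := by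
      rw [indFun_one, hμ1]
      push_cast
      ring
    rw [h1, Complex.ofReal_re]
    have hp1 : (0 : ℝ) < (Nat.card (MulAction.stabilizer G a) : ℝ) := by
      exact_mod_cast Nat.card_pos
    have hp2 : (0 : ℝ) < (Fintype.card G : ℝ) := by
      exact_mod_cast Fintype.card_pos
    positivity
  · intro u hu hu1
    unfold indFun
    have hterm : ∀ x : G, extendByZero (MulAction.stabilizer G a) μ (x⁻¹ * u * x) =
        if x ∈ MulAction.stabilizer G a then 1 else 0 := by
      intro x
      by_cases hx : x ∈ MulAction.stabilizer G a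
      · rw [if_pos hx]
        have hxa : x • a = a := MulAction.mem_stabilizer_iff.mp hx
        have hxia : x⁻¹ • a = a := by rw [inv_smul_eq_iff, hxa]
        have h1 := hFconj x⁻¹ hxia u (hHF u hu)
        rw [inv_inv] at h1
        have h2 : x⁻¹ * u * x ∈ H := hFH _ h1
        rw [extendByZero_apply_mem _ μ _ (hHa h2)]
        exact hμH _ h2
      · rw [if_neg hx]
        have hmem : x⁻¹ * u * x ∉ MulAction.stabilizer G a := by
          intro hm
          apply hx
          have h1 := MulAction.mem_stabilizer_iff.mp hm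
          rw [mul_smul, mul_smul, inv_smul_eq_iff] at h1
          exact MulAction.mem_stabilizer_iff.mpr (hHfix u hu hu1 _ h1)
        exact extendByZero_apply_not_mem _ μ _ hmem
    simp_rw [hterm]
    rw [Finset.sum_ite, Finset.sum_const_zero, add_zero, Finset.sum_const, nsmul_eq_mul, mul_one]
    have hcard : ((Finset.univ.filter (fun x : G => x ∈ MulAction.stabilizer G a)).card : ℂ) =
        (Nat.card (MulAction.stabilizer G a) : ℂ) := by
      congr 1
      rw [← Fintype.card_subtype, ← Nat.card_eq_fintype_card]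
    rw [hcard]
    have hne : (Nat.card (MulAction.stabilizer G a) : ℂ) ≠ 0 :=
      Nat.cast_ne_zero.2 Nat.card_pos.ne'
    exact inv_mul_cancel₀ hne

end Cfsg.Agent.S0881
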