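import Mathlib
import Cfsg.Statements.S0882
import Cfsg.Agent.Lib.Helper16.ZassInv

set_option autoImplicit false
set_option maxHeartbeats 1000000
open Cfsg

namespace Cfsg.Agent.S0882

open Cfsg.Agent.Lib.Helper16.ZassInv

/-- Let G be a finite simple Zassenhaus group on Ω with n = h + 1 points whose two-point stabilizer E has odd order e with 2e < h - 1. Then any two involutions of G are conjugate, and the number of involutions is e * (h + 1) if h is even and e * h if h is odd. -/
theorem result {G Ω : Type*} [Group G] [Finite G] [MulAction G Ω] [Fintype Ω] (hZ : Cfsg.IsZassenhausGroup G Ω) {a b : Ω} (hab : a ≠ b) [IsSimpleGroup G] (h e : ℕ) (hh : Fintype.card Ω = h + 1) (he : Nat.card ↥(MulAction.stabilizer G a ⊓ MulAction.stabilizer G b : Subgroup G) = e) (hodd : Odd e) (hlt : 2 * e < h - 1) : (∀ x y : G, orderOf x = 2 → orderOf y = 2 → IsConj x y) ∧ Nat.card {x : G // orderOf x = 2} = (if Even h then e * (h + 1) else e * h) := by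
  classical
  obtain ⟨hfaith, -, -, -, -⟩ := id hZ
  have hoddE : Odd (Nat.card (E2 G a b)) := by
    rw [he]
    exact hodd
  obtain ⟨h2t, inv⟩ := base hZ hab hoddE
  obtain ⟨v, hva, hvb⟩ := h2t hab hab.symm
  constructor
  · intro x y hx hy
    have h1 := involutions_conj hab hfaith h2t hoddE inv v hva hvb x hx
    have h2 := involutions_conj hab hfaith h2t hoddE inv v hva hvb y hy
    exact h1.symm.trans h2
  · have hmain := count_main hab h2t hoddE inv
    rw [hh] at hmain
    have heE : Nat.card (E2 G a b) = e := he
    rw [heE] at hmain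
    have hpos : 0 < h := by omega
    have h1 : (h + 1) * (h + 1) - (h + 1) = (h + 1) * h := by
      apply Nat.sub_eq_of_eq_add
      ring
    rw [h1] at hmain
    by_cases hev : Even h
    · rw [if_pos hev]
      have h2 : (h + 1) % 2 = 1 := by
        obtain ⟨k, hk⟩ := hev
        omega
      rw [h2, Nat.add_sub_cancel] at hmain
      apply Nat.eq_of_mul_eq_mul_right hpos
      rw [hmain]
      ring
    · rw [if_neg hev]
      have h2 : (h + 1) % 2 = 0 := by
        rcases Nat.even_or_odd h with h3 | h3
        · exact absurd h3 hev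
        · obtain ⟨k, hk⟩ := h3
          omega
      rw [h2, Nat.sub_zero] at hmain
      apply Nat.eq_of_mul_eq_mul_right (show 0 < h + 1 by omega)
      rw [hmain]
      ring

end Cfsg.Agent.S0882
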