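import Mathlib
import Cfsg.Statements.S0883
import Cfsg.Agent.Lib.Helper16.ZassInv

set_option autoImplicit false
set_option maxHeartbeats 1000000
open Cfsg

namespace Cfsg.Agent.S0883

open Cfsg.Agent.Lib.Helper16.ZassInv

/-- Let G be a finite simple Zassenhaus group on Ω with h + 1 points whose two-point stabilizer E has odd order e with 2e < h - 1, and let H be the subgroup of the stabilizer of a consisting of the identity and the elements fixing no point other than a (given here as a subgroup of the stabilizer of order one less than the number of points whose non-identity elements fix only a; it is the Frobenius kernel of the stabilizer). If a non-identity element u of H is a product of two involutions of G, then u is an involution. -/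
theorem result {G Ω : Type*} [Group G] [Finite G] [MulAction G Ω] [Fintype Ω] (hZ : Cfsg.IsZassenhausGroup G Ω) {a b : Ω} (hab : a ≠ b) [IsSimpleGroup G] (h e : ℕ) (hh : Fintype.card Ω = h + 1) (he : Nat.card ↥(MulAction.stabilizer G a ⊓ MulAction.stabilizer G b : Subgroup G) = e) (hodd : Odd e) (hlt : 2 * e < h - 1) (H : Subgroup G) (hHa : H ≤ MulAction.stabilizer G a) (hHcard : Nat.card H + 1 = Fintype.card Ω) (hHfix : ∀ u ∈ H, u ≠ 1 → ∀ c : Ω, u • c = c → c = a) (u : G) (hu : u ∈ H) (hu1 : u ≠ 1) (x y : G) (hx : orderOf x = 2) (hy : orderOf y = 2) (hxy : x * y = u) : orderOf u = 2 := by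
  classical
  obtain ⟨hfaith, -, h3, -, -⟩ := id hZ
  have hoddE : Odd (Nat.card (E2 G a b)) := by
    rw [he]
    exact hodd
  obtain ⟨h2t, inv⟩ := base hZ hab hoddE
  obtain ⟨F, hFa, hFfree, hFtr, hFconj, hFchar⟩ := frob_kernel hZ hab
  obtain ⟨hxx, hx1⟩ := sq_of_orderOf_two hx
  obtain ⟨hyy, hy1⟩ := sq_of_orderOf_two hy
  have hxinv : x⁻¹ = x := inv_eq_of_mul_eq_one_left hxx
  have hyinv : y⁻¹ = y := inv_eq_of_mul_eq_one_left hyy
  have huinv : u⁻¹ = y * x := by
    rw [← hxy, mul_inv_rev, hxinv, hyinv]
  have hconj : x * u * x⁻¹ = u⁻¹ := by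
    rw [huinv, hxinv, ← hxy]
    calc x * (x * y) * x = (x * x) * y * x := by group
      _ = y * x := by rw [hxx, one_mul]
  have hui : u⁻¹ ∈ H := H.inv_mem hu
  have hui1 : u⁻¹ ≠ 1 := fun e => hu1 (inv_eq_one.mp e)
  have hua : u • a = a := MulAction.mem_stabilizer_iff.mp (hHa hu)
  have hxa : x • a = a := by
    apply hHfix u⁻¹ hui hui1
    rw [← hconj, mul_smul, mul_smul, inv_smul_smul, hua]
  have hfixc := card_fixed hab h2t hoddE x hx
  have hamem : a ∈ Finset.univ.filter (fun z : Ω => x • z = z) := by
    rw [Finset.mem_filter]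
    exact ⟨Finset.mem_univ a, hxa⟩
  have hcpos : 0 < (Finset.univ.filter (fun z : Ω => x • z = z)).card :=
    Finset.card_pos.mpr ⟨a, hamem⟩
  have hNodd : Odd (Fintype.card Ω) := by
    rw [Nat.odd_iff]
    omega
  have huF : u ∈ F := by
    by_contra hcon
    obtain ⟨p, hpa, hup⟩ := hFchar u hua hcon
    exact hpa (hHfix u hu hu1 p hup)
  have hc := inv_fix_central hab h3 h2t hoddE inv hNodd F hFa hFfree hFchar x hx hxa u huF
  have hcomm : u * x = x * u := mul_inv_eq_iff_eq_mul.mp hc
  have h5 : x * y * x = y := by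
    rw [← hxy] at hcomm
    calc x * y * x = x * (x * y) := hcomm
      _ = (x * x) * y := by group
      _ = y := by rw [hxx, one_mul]
  have huu : u * u = 1 := by
    calc u * u = (x * y) * (x * y) := by rw [hxy]
      _ = (x * y * x) * y := by group
      _ = y * y := by rw [h5]
      _ = 1 := hyy
  exact orderOf_two_of_sq huu hu1

end Cfsg.Agent.S0883
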