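import Mathlib
import Cfsg.Prelude
import Cfsg.Agent.S0887
import Cfsg.Agent.Lib.Helper7.MaxInd
import Cfsg.Agent.Lib.Helper7.MaxIndChar
import Cfsg.Agent.Lib.Helper7.Gallagher
import Cfsg.Agent.Lib.Helper7.FrobRam
import Cfsg.Agent.Lib.Helper4.AbelianAbove
import Cfsg.Agent.Lib.Helper26.CharInt

set_option autoImplicit false
open Cfsg

namespace Cfsg.Agent.S0890

open Cfsg.Agent.Lib.Helper26 Cfsg.Agent.Lib.Helper2 Cfsg.Agent.Lib.Helper7 Cfsg.Agent.Lib.Helper7.MaxInd
open scoped ComplexConjugate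

/-- restriction along a homomorphism into `H` whose image contains `L` stays irreducible -/
theorem res_irr' {G : Type*} [Group G] [Finite G] (L H : Subgroup G) (hLH : L ≤ H) (ϑ : H → ℂ)
    (hϑ : IsCharacter H ϑ) (hϑL : IsIrrCharacter L (fun x : L => ϑ ⟨(x : G), hLH x.2⟩))
    {A : Type*} [Group A] [Finite A] (j : A →* H) (hj : ∀ l : L, ∃ a : A, ((j a : H) : G) = l) :
    IsIrrCharacter A (ϑ ∘ j) := by
  have hchar : IsCharacter A (ϑ ∘ j) := isCharacter_comp_hom hϑ j
  let j' : A →* G := H.subtype.comp j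
  let f : L.comap j' →* L := j'.subgroupComap L
  have hf : Function.Surjective f := by
    intro l
    obtain ⟨a, ha⟩ := hj l
    exact ⟨⟨a, by rw [Subgroup.mem_comap]; show ((j a : H) : G) ∈ L; rw [ha]; exact l.2⟩,
      Subtype.ext ha⟩
  apply Cfsg.Agent.Lib.Helper28.isIrrCharacter_of_restrict (L.comap j') hchar
  have h1 := isIrrCharacter_comp_of_surjective hϑL f hf
  exact h1

/-- Let L ≤ H < G with L normal in G, H a maximal subgroup and G / L solvable. Let ϑ be an irreducible character of H whose restriction to L is irreducible and whose induction χ to G is irreducible. Then there is a normal subgroup M of G containing L such that the restriction of χ to M is not a natural-number multiple of a single irreducible character of M. -/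
theorem result {G : Type*} [Group G] [Fintype G] (L H : Subgroup G) [L.Normal] (hLH : L ≤ H) (hmax : IsCoatom H) (hsolv : Group.IsSolvable (G ⧸ L)) (ϑ : H → ℂ) (hϑ : Cfsg.IsIrrCharacter H ϑ) (hϑL : Cfsg.IsIrrCharacter L (fun x : L => ϑ ⟨(x : G), hLH x.2⟩)) (hind : Cfsg.IsIrrCharacter G (Cfsg.indFun H ϑ)) : ∃ M : Subgroup G, M.Normal ∧ L ≤ M ∧ ¬ ∃ (φ : M → ℂ) (e : ℕ), Cfsg.IsIrrCharacter M φ ∧ (fun m : M => Cfsg.indFun H ϑ m) = (e : ℂ) • φ := by
  classical
  by_contra hcon
  push Not at hcon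
  haveI : Fintype H := Fintype.ofFinite H
  obtain ⟨χ, hχdef⟩ : ∃ χ : G → ℂ, χ = indFun H ϑ := ⟨_, rfl⟩
  rw [← hχdef] at hind hcon
  have hχcf : IsClassFunction G χ := Cfsg.Agent.Lib.Helper26.isClassFunction_of_isIrrCharacter hind
  have hϑc : IsCharacter H ϑ := isCharacter_of_isIrrCharacter hϑ
  have hϑcf : IsClassFunction H ϑ := Cfsg.Agent.Lib.Helper26.isClassFunction_of_isIrrCharacter hϑ
  obtain ⟨dχ, hdχ0, hdχ⟩ := irr_degree hind
  have hχ1 : χ 1 ≠ 0 := by rw [hdχ]; exact Nat.cast_ne_zero.mpr hdχ0.ne'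
  obtain ⟨K, M, p, k, hKn, hMn, hLK, hKH, hKM, hKneM, hcore, htopM, hinfM, hp, hpk, hg7⟩ :=
    exists_config L H hLH hmax hsolv
  haveI := hKn
  haveI := hMn
  haveI : Fintype K := Fintype.ofFinite K
  haveI : Fintype M := Fintype.ofFinite M
  -- Step K
  obtain ⟨ψ, hψdef⟩ : ∃ ψ : K → ℂ, ψ = fun k : K => ϑ ⟨(k : G), hKH k.2⟩ := ⟨_, rfl⟩
  have hψc : IsCharacter K ψ := by
    rw [hψdef]; exact isCharacter_comp_hom hϑc (Subgroup.inclusion hKH)
  have hψirr : IsIrrCharacter K ψ := by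
    apply Cfsg.Agent.Lib.Helper28.isIrrCharacter_of_restrict (L.subgroupOf K) hψc
    rw [hψdef]
    exact isIrrCharacter_comp_mulEquiv hϑL (Subgroup.subgroupOfEquivOfLe hLK)
  have hFrob : classInner (fun m : H => χ (m : G)) ϑ = 1 := by
    have h1 := classInner_indFun_left' H ϑ χ hχcf
    rw [← hχdef, classInner_irr hind hind, if_pos rfl] at h1
    rw [← classInner_conj_symm, show (fun m : H => χ (m : G)) = χ ∘ H.subtype from rfl, ← h1]
    simp
  have hconK : classInner (fun m : K => χ (m : G)) ψ ≠ 0 := by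
    haveI : Fintype (⊤ : Subgroup G) := Fintype.ofFinite _
    have h1 := Cfsg.Agent.Lib.Helper4.classInner_restrict_ne_zero_trans (⊤ : Subgroup G) H K hKH
      le_top (fun t : (⊤ : Subgroup G) => χ (t : G))
      (isCharacter_comp_hom (isCharacter_of_isIrrCharacter hind) (⊤ : Subgroup G).subtype)
      ⟨ϑ, hϑ⟩ ψ hψc (by
        show classInner (fun m : H => χ (m : G)) ϑ ≠ 0
        rw [hFrob]; exact one_ne_zero) (by
        show classInner (fun n : K => ϑ ⟨(n : G), hKH n.2⟩) ψ ≠ 0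
        rw [← hψdef, classInner_irr hψirr hψirr, if_pos rfl]; exact one_ne_zero)
    exact h1
  obtain ⟨φK, eK, hφK, hresK⟩ := hcon K hKn hLK
  have hφKψ : φK = ψ := by
    by_contra hne
    apply hconK
    rw [hresK, classInner_smul_left, classInner_irr hφK hψirr, if_neg hne, mul_zero]
  have heK0 : (eK : ℂ) ≠ 0 := by
    intro h
    apply hconK
    rw [hresK, h, zero_smul, classInner_zero_left]
  have hχK : ∀ (x : G) (hx : x ∈ K), χ x = (eK : ℂ) * ϑ ⟨x, hKH hx⟩ := by
    intro x hx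
    have := congrFun hresK ⟨x, hx⟩
    rw [hφKψ, hψdef] at this
    exact this
  have hψinv : ∀ (g x : G) (hx : x ∈ K),
      ϑ ⟨g * x * g⁻¹, hKH (hKn.conj_mem x hx g)⟩ = ϑ ⟨x, hKH hx⟩ := by
    intro g x hx
    have h1 := hχK (g * x * g⁻¹) (hKn.conj_mem x hx g)
    rw [hχcf x g, hχK x hx] at h1
    exact (mul_left_cancel₀ heK0 h1).symm
  -- Step M
  have hDMeq : H.subgroupOf M = K.subgroupOf M := by
    rw [← Subgroup.inf_subgroupOf_right H M, inf_comm, hinfM]
  haveI hDMn : (H.subgroupOf M).Normal := by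
    rw [hDMeq]; exact Subgroup.normal_subgroupOf
  haveI : Fintype (H.subgroupOf M) := Fintype.ofFinite _
  obtain ⟨δM, hδMdef⟩ : ∃ δM : H.subgroupOf M → ℂ,
      δM = fun d : H.subgroupOf M => ϑ ⟨((d : M) : G), d.2⟩ := ⟨_, rfl⟩
  have hδM : IsIrrCharacter (H.subgroupOf M) δM := by
    rw [hδMdef]; exact res_irr L H M hLH (hLK.trans hKM) ϑ hϑc hϑL
  have hmackM : ∀ x : M, χ (x : G) = indFun (H.subgroupOf M) δM x := by
    intro x
    rw [hχdef, hδMdef]
    exact mackey_prod H M htopM ϑ hϑcf x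
  have hinvM : ∀ (m : M) (d : H.subgroupOf M),
      δM ⟨m * d * m⁻¹, hDMn.conj_mem (d : M) d.2 m⟩ = δM d := by
    intro m d
    have hdK : ((d : M) : G) ∈ K := by
      rw [← hinfM]; exact ⟨(d : M).2, d.2⟩
    rw [hδMdef]
    exact hψinv (m : G) ((d : M) : G) hdK
  have hnormM := classInner_indFun_self_of_inv (H.subgroupOf M) δM hδM hinvM
  obtain ⟨φ, e, hφ, hresM⟩ := hcon M hMn (hLK.trans hKM)
  have hIndM : indFun (H.subgroupOf M) δM = (e : ℂ) • φ := by
    rw [← hresM]
    funext x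
    exact (hmackM x).symm
  have hφφ : classInner φ φ = 1 := by rw [classInner_irr hφ hφ, if_pos rfl]
  have hidxM : (H.subgroupOf M).index = p ^ k := by
    have h1 : (H.subgroupOf M).index = H.relIndex M := rfl
    rw [h1, ← Subgroup.inf_relIndex_right H M, inf_comm, hinfM, hpk]
  have hee : e * e = p ^ k := by
    rw [hIndM, classInner_smul_left, classInner_smul_right, hφφ, Complex.conj_natCast, mul_one,
      hidxM] at hnormM
    exact_mod_cast hnormM
  have hHidx : H.index = p ^ k := by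
    rw [← relIndex_eq_index H M htopM]; exact hidxM
  have hχM : ∀ (x : G) (hx : x ∈ M), χ x = (e : ℂ) * φ ⟨x, hx⟩ := by
    intro x hx
    exact congrFun hresM ⟨x, hx⟩
  have he0 : (e : ℂ) ≠ 0 := by
    intro h
    apply hχ1
    rw [hχM 1 M.one_mem, h, zero_mul]
  have he0' : e ≠ 0 := fun h => he0 (by rw [h]; simp)
  -- M is proper
  have hMtop : M ≠ ⊤ := by
    intro hM
    have hKeqH : K = H := by rw [← hinfM, hM, top_inf_eq]
    subst hKeqH
    have h1 := classInner_indFun_self_of_inv K ϑ hϑ (fun g n => hψinv g (n : G) n.2)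
    rw [← hχdef, classInner_irr hind hind, if_pos rfl] at h1
    have h2 : K.index = 1 := by exact_mod_cast h1.symm
    exact hmax.1 (Subgroup.index_eq_one.mp h2)
  -- Step N
  obtain ⟨N, q, l, hNn, hMN, hMneN, hq, hql⟩ := exists_above L M (hLK.trans hKM) hMtop hsolv
  haveI := hNn
  haveI : Fintype N := Fintype.ofFinite N
  have hqp : q ≠ p := by
    intro h
    apply hMneN
    apply le_antisymm hMN
    apply hg7 N hNn hMN
    refine ⟨k + l, ?_⟩
    rw [← Subgroup.relIndex_mul_relIndex K M N hKM hMN, hpk, hql, h, pow_add]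
  have htopN : N ⊔ H = ⊤ := by
    rw [eq_top_iff, ← htopM]
    exact sup_le_sup_right hMN H
  have hLN : L ≤ N := (hLK.trans hKM).trans hMN
  haveI : Fintype (H.subgroupOf N) := Fintype.ofFinite _
  obtain ⟨δN, hδNdef⟩ : ∃ δN : H.subgroupOf N → ℂ,
      δN = fun d : H.subgroupOf N => ϑ ⟨((d : N) : G), d.2⟩ := ⟨_, rfl⟩
  have hδN : IsIrrCharacter (H.subgroupOf N) δN := by
    rw [hδNdef]; exact res_irr L H N hLH hLN ϑ hϑc hϑL
  have hmackN : ∀ x : N, χ (x : G) = indFun (H.subgroupOf N) δN x := by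
    intro x
    rw [hχdef, hδNdef]
    exact mackey_prod H N htopN ϑ hϑcf x
  obtain ⟨η, a, hη, hresN⟩ := hcon N hNn hLN
  have hηcf : IsClassFunction N η := Cfsg.Agent.Lib.Helper26.isClassFunction_of_isIrrCharacter hη
  have hχN : ∀ (x : G) (hx : x ∈ N), χ x = (a : ℂ) * η ⟨x, hx⟩ := by
    intro x hx
    exact congrFun hresN ⟨x, hx⟩
  have ha0 : (a : ℂ) ≠ 0 := by
    intro h
    apply hχ1
    rw [hχN 1 N.one_mem, h, zero_mul]
  -- the multiplicity b
  obtain ⟨ηM, hηMdef⟩ : ∃ ηM : M → ℂ, ηM = fun m : M => η ⟨(m : G), hMN m.2⟩ := ⟨_, rfl⟩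
  have hηMc : IsCharacter M ηM := by
    rw [hηMdef]
    exact isCharacter_comp_hom (isCharacter_of_isIrrCharacter hη) (Subgroup.inclusion hMN)
  obtain ⟨b, hb⟩ := classInner_isCharacter_nat hηMc (isCharacter_of_isIrrCharacter hφ)
  have haηM : (a : ℂ) • ηM = (e : ℂ) • φ := by
    funext m
    show (a : ℂ) * ηM m = (e : ℂ) * φ m
    rw [hηMdef]
    rw [← hχN (m : G) (hMN m.2), hχM (m : G) m.2]
  have hab : a * b = e := by
    have h1 : classInner ((a : ℂ) • ηM) φ = (e : ℂ) := by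
      rw [haηM, classInner_smul_left, hφφ, mul_one]
    rw [classInner_smul_left, hb] at h1
    exact_mod_cast h1
  have hηMb : ∀ m : M, η ⟨(m : G), hMN m.2⟩ = (b : ℂ) * φ m := by
    intro m
    have h1 := congrFun haηM m
    have h2 : (a : ℂ) * ηM m = (e : ℂ) * φ m := h1
    rw [hηMdef, ← hab] at h2
    push_cast at h2
    rw [mul_assoc] at h2
    exact mul_left_cancel₀ ha0 h2
  have hb0 : b ≠ 0 := by
    intro h
    apply he0'
    rw [← hab, h, mul_zero]
  have hinvφ : ∀ t ∈ N, ∀ n : M, φ ⟨t * n * t⁻¹, hMn.conj_mem (n : G) n.2 t⟩ = φ n := by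
    intro t _ n
    have h1 := hχM (t * n * t⁻¹) (hMn.conj_mem (n : G) n.2 t)
    rw [hχcf (n : G) t, hχM (n : G) n.2] at h1
    exact (mul_left_cancel₀ he0 h1).symm
  have hbdvd : b ∣ M.relIndex N :=
    Cfsg.Agent.S0887.ram_dvd_relIndex M N hMN φ hφ hinvφ η hη b hb0 hηMb
  have hb1 : b = 1 := by
    have h1 : b ∣ p ^ k := by
      rw [← hee]
      exact Dvd.dvd.mul_right ⟨a, by rw [← hab, mul_comm]⟩ e
    rw [hql] at hbdvd
    have hcop : Nat.Coprime (p ^ k) (q ^ l) :=
      Nat.Coprime.pow _ _ ((Nat.coprime_primes hp hq).mpr (Ne.symm hqp))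
    exact Nat.eq_one_of_dvd_coprimes hcop h1 hbdvd
  have hae : a = e := by rw [← hab, hb1, mul_one]
  -- η on D = N ⊓ H
  have hIndN : indFun (H.subgroupOf N) δN = (e : ℂ) • η := by
    funext x
    rw [← hmackN x, hχN (x : G) x.2, hae]
    rfl
  have hηη : classInner η η = 1 := by rw [classInner_irr hη hη, if_pos rfl]
  have hδδ : classInner δN δN = 1 := by rw [classInner_irr hδN hδN, if_pos rfl]
  have hF1 : classInner δN (fun d : H.subgroupOf N => η (d : N)) = (e : ℂ) := by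
    have h1 := classInner_indFun_left' (H.subgroupOf N) δN η hηcf
    rw [hIndN, classInner_smul_left, hηη, mul_one] at h1
    rw [h1]
    rfl
  have hF2 : classInner (fun d : H.subgroupOf N => η (d : N)) δN = (e : ℂ) := by
    rw [← classInner_conj_symm, hF1, Complex.conj_natCast]
  have hcardN : Nat.card N = e * e * Nat.card (H.subgroupOf N) := by
    have h1 : (H.subgroupOf N).index = H.relIndex N := rfl
    rw [hee, ← hHidx, ← relIndex_eq_index H N htopN, ← h1]
    exact ((H.subgroupOf N).index_mul_card).symm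
  have hcD0 : (Nat.card (H.subgroupOf N) : ℂ) ≠ 0 := Nat.cast_ne_zero.mpr Nat.card_pos.ne'
  have hcN0 : (Nat.card N : ℂ) ≠ 0 := Nat.cast_ne_zero.mpr Nat.card_pos.ne'
  have hS_ηδ : ∑ d : H.subgroupOf N, η (d : N) * conj (δN d) =
      (Nat.card (H.subgroupOf N) : ℂ) * (e : ℂ) := by
    have h1 := hF2
    unfold classInner at h1
    exact (inv_mul_eq_iff_eq_mul₀ hcD0).mp h1
  have hS_δη : ∑ d : H.subgroupOf N, δN d * conj (η (d : N)) =
      (Nat.card (H.subgroupOf N) : ℂ) * (e : ℂ) := by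
    have h1 := hF1
    unfold classInner at h1
    exact (inv_mul_eq_iff_eq_mul₀ hcD0).mp h1
  have hS_δδ : ∑ d : H.subgroupOf N, δN d * conj (δN d) = (Nat.card (H.subgroupOf N) : ℂ) := by
    have h1 := hδδ
    unfold classInner at h1
    rw [(inv_mul_eq_iff_eq_mul₀ hcD0).mp h1, mul_one]
  have hS_ηη : ∑ x : N, η x * conj (η x) = (Nat.card N : ℂ) := by
    have h1 := hηη
    unfold classInner at h1
    rw [(inv_mul_eq_iff_eq_mul₀ hcN0).mp h1, mul_one]
  obtain ⟨Y, hYdef⟩ : ∃ Y : H.subgroupOf N → ℂ,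
      Y = fun d : H.subgroupOf N => η (d : N) - (e : ℂ) * δN d := ⟨_, rfl⟩
  have hAB : (∑ d : H.subgroupOf N, Y d * conj (Y d)) +
      (∑ x : N, if x ∈ H.subgroupOf N then 0 else η x * conj (η x)) = 0 := by
    have h1 : ∀ d : H.subgroupOf N, Y d * conj (Y d) =
        η (d : N) * conj (η (d : N)) - (e : ℂ) * (η (d : N) * conj (δN d)) -
          (e : ℂ) * (δN d * conj (η (d : N))) + (e : ℂ) * (e : ℂ) * (δN d * conj (δN d)) := by
      intro d
      rw [hYdef]
      simp only [map_sub, map_mul, Complex.conj_natCast]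
      ring
    rw [Finset.sum_congr rfl fun d _ => h1 d, Finset.sum_add_distrib, Finset.sum_sub_distrib,
      Finset.sum_sub_distrib, ← Finset.mul_sum, ← Finset.mul_sum, ← Finset.mul_sum, hS_ηδ, hS_δη,
      hS_δδ, Cfsg.Agent.Lib.Helper7.FrobRam.sum_subtype_ite (H.subgroupOf N)
        (fun x : N => η x * conj (η x))]
    have h2 : (∑ x : N, if x ∈ H.subgroupOf N then η x * conj (η x) else 0) +
        (∑ x : N, if x ∈ H.subgroupOf N then 0 else η x * conj (η x)) = (Nat.card N : ℂ) := by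
      rw [← Finset.sum_add_distrib, ← hS_ηη]
      refine Finset.sum_congr rfl fun x _ => ?_
      by_cases hx : x ∈ H.subgroupOf N
      · rw [if_pos hx, if_pos hx, add_zero]
      · rw [if_neg hx, if_neg hx, zero_add]
    have h3 : (Nat.card N : ℂ) = (e : ℂ) * (e : ℂ) * (Nat.card (H.subgroupOf N) : ℂ) := by
      exact_mod_cast hcardN
    linear_combination h2 + h3
  have hAr : (∑ d : H.subgroupOf N, Y d * conj (Y d)) =
      ((∑ d : H.subgroupOf N, Complex.normSq (Y d) : ℝ) : ℂ) := by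
    push_cast
    exact Finset.sum_congr rfl fun d _ => Complex.mul_conj _
  have hBr : (∑ x : N, if x ∈ H.subgroupOf N then 0 else η x * conj (η x)) =
      ((∑ x : N, if x ∈ H.subgroupOf N then 0 else Complex.normSq (η x) : ℝ) : ℂ) := by
    push_cast
    refine Finset.sum_congr rfl fun x _ => ?_
    by_cases hx : x ∈ H.subgroupOf N
    · rw [if_pos hx, if_pos hx]
      simp
    · rw [if_neg hx, if_neg hx, Complex.mul_conj]
  have hABr : (∑ d : H.subgroupOf N, Complex.normSq (Y d)) +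
      (∑ x : N, if x ∈ H.subgroupOf N then 0 else Complex.normSq (η x)) = 0 := by
    have h1 : (((∑ d : H.subgroupOf N, Complex.normSq (Y d)) +
      (∑ x : N, if x ∈ H.subgroupOf N then 0 else Complex.normSq (η x)) : ℝ) : ℂ) = 0 := by
      rw [Complex.ofReal_add, ← hAr, ← hBr]
      exact hAB
    exact_mod_cast h1
  have hA0 : 0 ≤ ∑ d : H.subgroupOf N, Complex.normSq (Y d) :=
    Finset.sum_nonneg fun d _ => Complex.normSq_nonneg _
  have hB0 : 0 ≤ ∑ x : N, if x ∈ H.subgroupOf N then 0 else Complex.normSq (η x) := by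
    refine Finset.sum_nonneg fun x _ => ?_
    split_ifs
    · exact le_rfl
    · exact Complex.normSq_nonneg _
  have hAz : ∑ d : H.subgroupOf N, Complex.normSq (Y d) = 0 := by linarith
  have hBz : (∑ x : N, if x ∈ H.subgroupOf N then 0 else Complex.normSq (η x)) = 0 := by linarith
  have hηD : ∀ d : H.subgroupOf N, η (d : N) = (e : ℂ) * δN d := by
    intro d
    have h1 := (Finset.sum_eq_zero_iff_of_nonneg (fun d _ => Complex.normSq_nonneg _)).mp hAz d
      (Finset.mem_univ _)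
    have h2 : Y d = 0 := Complex.normSq_eq_zero.mp h1
    rw [hYdef] at h2
    exact sub_eq_zero.mp h2
  have hηoff : ∀ x : N, x ∉ H.subgroupOf N → η x = 0 := by
    intro x hx
    have h1 := (Finset.sum_eq_zero_iff_of_nonneg (fun x _ => by
      split_ifs
      · exact le_rfl
      · exact Complex.normSq_nonneg _)).mp hBz x (Finset.mem_univ _)
    rw [if_neg hx] at h1
    exact Complex.normSq_eq_zero.mp h1
  -- the core of D in N
  obtain ⟨C, hCdef⟩ : ∃ C : Subgroup N, C = (H.subgroupOf N).normalCore := ⟨_, rfl⟩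
  have hCn : C.Normal := by rw [hCdef]; exact Subgroup.normalCore_normal _
  have hCD : C ≤ H.subgroupOf N := by rw [hCdef]; exact Subgroup.normalCore_le _
  haveI : Fintype C := Fintype.ofFinite C
  have hηoffC : ∀ x : N, x ∉ C → η x = 0 := by
    intro x hx
    have h1 : ∃ n : N, n * x * n⁻¹ ∉ H.subgroupOf N := by
      by_contra h
      push Not at h
      apply hx
      rw [hCdef]
      exact fun n => h n
    obtain ⟨n, hn⟩ := h1
    rw [← hηcf x n]
    exact hηoff _ hn
  let j : C →* H :=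
    { toFun := fun c => ⟨((c : N) : G), hCD c.2⟩
      map_one' := rfl
      map_mul' := fun _ _ => rfl }
  have hj : ∀ l : L, ∃ c : C, ((j c : H) : G) = l := by
    intro l
    have hlC : (⟨(l : G), hLN l.2⟩ : N) ∈ C := by
      rw [hCdef]
      intro n
      show ((n * ⟨(l : G), hLN l.2⟩ * n⁻¹ : N) : G) ∈ H
      apply hLH
      have h1 : ((n * ⟨(l : G), hLN l.2⟩ * n⁻¹ : N) : G) = (n : G) * l * (n : G)⁻¹ := rfl
      rw [h1]
      exact (inferInstance : L.Normal).conj_mem l l.2 n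
    exact ⟨⟨⟨(l : G), hLN l.2⟩, hlC⟩, rfl⟩
  have hirrC : IsIrrCharacter C (ϑ ∘ j) := res_irr' L H hLH ϑ hϑc hϑL j hj
  have hcC0 : (Nat.card C : ℂ) ≠ 0 := Nat.cast_ne_zero.mpr Nat.card_pos.ne'
  have hS_C : ∑ c : C, (ϑ ∘ j) c * conj ((ϑ ∘ j) c) = (Nat.card C : ℂ) := by
    have h1 := classInner_irr hirrC hirrC
    rw [if_pos rfl] at h1
    unfold classInner at h1
    rw [(inv_mul_eq_iff_eq_mul₀ hcC0).mp h1, mul_one]
  have hηC : ∀ c : C, η (c : N) = (e : ℂ) * (ϑ ∘ j) c := by
    intro c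
    rw [hηD ⟨(c : N), hCD c.2⟩, hδNdef]
    rfl
  have hcardC : (Nat.card N : ℂ) = (e : ℂ) * (e : ℂ) * (Nat.card C : ℂ) := by
    have h1 : ∑ c : C, (e : ℂ) * (e : ℂ) * ((ϑ ∘ j) c * conj ((ϑ ∘ j) c)) =
        ∑ c : C, (fun x : N => η x * conj (η x)) (c : N) := by
      refine Finset.sum_congr rfl fun c _ => ?_
      show _ = η (c : N) * conj (η (c : N))
      rw [hηC c, map_mul, Complex.conj_natCast]
      ring
    rw [← hS_ηη, ← hS_C, Finset.mul_sum, h1,
      Cfsg.Agent.Lib.Helper7.FrobRam.sum_subtype_ite C (fun x : N => η x * conj (η x))]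
    refine Finset.sum_congr rfl fun x _ => ?_
    by_cases hx : x ∈ C
    · rw [if_pos hx]
    · rw [if_neg hx, hηoffC x hx, zero_mul]
  have hCeq : C = H.subgroupOf N := by
    apply Subgroup.eq_of_le_of_card_ge hCD
    have h1 : ((e * e * Nat.card (H.subgroupOf N) : ℕ) : ℂ) = ((e * e * Nat.card C : ℕ) : ℂ) := by
      rw [← hcardN]
      push_cast
      exact hcardC
    have h2 : e * e * Nat.card (H.subgroupOf N) = e * e * Nat.card C := by exact_mod_cast h1
    have h3 : 0 < e * e := Nat.mul_pos (Nat.pos_of_ne_zero he0') (Nat.pos_of_ne_zero he0')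
    exact le_of_eq (Nat.eq_of_mul_eq_mul_left h3 h2)
  have hDNn : (H.subgroupOf N).Normal := by rw [← hCeq]; exact hCn
  apply hMneN
  apply le_antisymm hMN
  apply le_of_inf_le H K M N hKM hMN htopM
  apply inf_le_core H K M N hcore htopM
  intro m hm d hd
  have h1 := hDNn.conj_mem ⟨d, hd.1⟩ (show (⟨d, hd.1⟩ : N) ∈ H.subgroupOf N from hd.2)
    ⟨m, hMN hm⟩
  exact h1


end Cfsg.Agent.S0890
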