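import Cfsg.Statements.S0896
import Cfsg.Agent.Lib.Helper28.DadeB
import Cfsg.Agent.Lib.Helper28.DadeC

set_option autoImplicit false
open scoped ComplexConjugate
open Cfsg

namespace Cfsg.Agent.S0896

open Cfsg.Agent.Lib.Helper28 Cfsg.Agent.Lib.Helper26 in
/-- Let N be a normal subgroup of the finite group G with the index of N a power of the prime p, and ϑ an irreducible character of N invariant under conjugation by G. Then there are a p-elementary subgroup E of G with E ⊔ N = ⊤ and an irreducible character φ of the subgroup E ⊓ N, invariant under conjugation by E, such that the inner product of the restriction of ϑ to E ⊓ N with φ is an integer not divisible by p. -/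
theorem result {G : Type*} [Group G] [Fintype G] (p : ℕ) (hp : p.Prime) (N : Subgroup G) [hN : N.Normal] (hind : ∃ k : ℕ, N.index = p ^ k) (ϑ : N → ℂ) (hϑ : Cfsg.IsIrrCharacter N ϑ) (hinv : ∀ (g : G) (n : N), ϑ ⟨g * n * g⁻¹, hN.conj_mem (n : G) n.2 g⟩ = ϑ n) : ∃ (E : Subgroup G) (φ : ↥(E ⊓ N) → ℂ), Cfsg.IsElementary p E ∧ E ⊔ N = ⊤ ∧ Cfsg.IsIrrCharacter ↥(E ⊓ N) φ ∧ (∀ (g : G) (hg : g ∈ E) (x : ↥(E ⊓ N)), φ ⟨g * x * g⁻¹, ⟨(E.mul_mem (E.mul_mem hg x.2.1) (E.inv_mem hg)), hN.conj_mem (x : G) x.2.2 g⟩⟩ = φ x) ∧ ∃ m : ℕ, ¬ p ∣ m ∧ (Nat.card ↥(E ⊓ N) : ℂ)⁻¹ * ∑ᶠ x : ↥(E ⊓ N), ϑ ⟨(x : G), x.2.2⟩ * conj (φ x) = (m : ℂ) := by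
  classical
  haveI : Fact p.Prime := ⟨hp⟩
  obtain ⟨E, φ, I, hE, hφ, htop, hI, hII⟩ := exists_elementary_sup_top N p hp hind hϑ hinv
  haveI : Fintype E := Fintype.ofFinite _
  haveI : Fintype ↥(N.subgroupOf E) := Fintype.ofFinite _
  haveI : Fintype ↥(E ⊓ N) := Fintype.ofFinite _
  have hindM : ∃ k : ℕ, (N.subgroupOf E).index = p ^ k := by
    obtain ⟨k, hk⟩ := hind
    have h1 : (N.subgroupOf E).index ∣ p ^ k := by
      rw [← hk]
      exact Subgroup.relIndex_dvd_index_of_normal N E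
    obtain ⟨j, _, hj⟩ := (Nat.dvd_prime_pow hp).mp h1
    exact ⟨j, hj⟩
  have hψ := isCharacter_resSub N E (isCharacter_of_isIrrCharacter hϑ)
  have hψinv : ∀ g : E, conjFunN (N.subgroupOf E) (resSub N E ϑ) g = resSub N E ϑ := by
    intro g
    funext n
    unfold conjFunN resSub
    have := hinv (g : G) ⟨(n.1 : G), Subgroup.mem_subgroupOf.mp n.2⟩
    rw [← this]
    congr 1
  obtain ⟨α, hα, hαinv, m, hm, hαm⟩ :=
    exists_invariant_constituent (N.subgroupOf E) p hindM hψ hψinv hφ hI hII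
  let e : ↥(E ⊓ N) ≃* ↥(N.subgroupOf E) :=
    { toFun := fun d => ⟨⟨d.1, d.2.1⟩, Subgroup.mem_subgroupOf.mpr d.2.2⟩
      invFun := fun n => ⟨n.1.1, ⟨n.1.2, Subgroup.mem_subgroupOf.mp n.2⟩⟩
      left_inv := fun _ => rfl
      right_inv := fun _ => rfl
      map_mul' := fun _ _ => rfl }
  refine ⟨E, α ∘ e, hE, htop, Cfsg.Agent.Lib.Helper2.isIrrCharacter_comp_mulEquiv hα e, ?_,
    m, hm, ?_⟩
  · intro g hg x
    have := congrFun (hαinv ⟨g, hg⟩) (e x)
    unfold conjFunN at this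
    rw [Function.comp_apply, Function.comp_apply, ← this]
    congr 1
  · rw [finsum_eq_sum_of_fintype, ← hαm]
    unfold classInner
    congr 1
    · rw [Nat.card_congr e.toEquiv]
    · apply Fintype.sum_equiv e.toEquiv
      intro x
      rfl

end Cfsg.Agent.S0896
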