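import Cfsg.Statements.S0897
import Cfsg.Agent.S0896
import Cfsg.Agent.Lib.Helper28.PPowerRatio
import Cfsg.Agent.Lib.Helper28.CentralExt
import Cfsg.Agent.Lib.Helper28.DadeC

set_option autoImplicit false
open scoped ComplexConjugate
open Cfsg

namespace Cfsg.Agent.S0897

open Cfsg.Agent.Lib.Helper28 Cfsg.Agent.Lib.Helper26 Cfsg.Agent.Lib.Helper24

/-- every `p`-subgroup lies in a Sylow subgroup satisfying the hypotheses -/
theorem hSyl_of_sylow {G : Type*} [Group G] [Finite G] (p : ℕ) [Fact p.Prime] (N : Subgroup G)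
    [hN : N.Normal] (P : Sylow p G) (hP : SylowHyp N (P : Subgroup G)) :
    ∀ Q : Subgroup G, IsPGroup p Q → ∃ P' : Subgroup G, Q ≤ P' ∧ SylowHyp N P' := by
  intro Q hQ
  obtain ⟨P', hQP'⟩ := hQ.exists_le_sylow
  obtain ⟨g, hg⟩ := MulAction.exists_smul_eq G P P'
  refine ⟨P', hQP', sylowHyp_of_conj N (P : Subgroup G) (P' : Subgroup G) g ?_ hP⟩
  intro x
  rw [← hg, Sylow.coe_subgroup_smul, Subgroup.mem_pointwise_smul_iff_inv_smul_mem]
  have : (MulAut.conj g)⁻¹ • x = g⁻¹ * x * g := by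
    rw [← map_inv, MulAut.smul_def, MulAut.conj_apply, inv_inv]
  rw [this]

/-- the inner product of the characters induced from the extension `ν` and from `ϑ` -/
theorem classInner_ind_ind {G : Type*} [Group G] [Fintype G] (N : Subgroup G) [hN : N.Normal]
    (ϑ : N → ℂ) (hϑ : IsCharacter N ϑ)
    (hinv : ∀ (g : G) (n : N), ϑ ⟨g * n * g⁻¹, hN.conj_mem (n : G) n.2 g⟩ = ϑ n)
    (E : Subgroup G) (htop : E ⊔ N = ⊤) (νc : ↥E → ℂ) (φ : ↥(E ⊓ N) → ℂ)
    (hext : ∀ x : ↥(E ⊓ N), νc ⟨x, x.2.1⟩ = φ x) (m : ℕ)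
    (hm : (Nat.card ↥(E ⊓ N) : ℂ)⁻¹ * ∑ᶠ x : ↥(E ⊓ N), ϑ ⟨(x : G), x.2.2⟩ * conj (φ x) = (m : ℂ)) :
    classInner (indFun E νc) (indFun N ϑ) = m := by
  classical
  haveI : Fintype E := Fintype.ofFinite _
  haveI : Fintype ↥(E ⊓ N) := Fintype.ofFinite _
  have hcl : IsClassFunction G (indFun N ϑ) :=
    isClassFunction_of_isCharacter (isCharacter_indFun N hϑ)
  rw [classInner_indFun_left' E νc _ hcl]
  unfold classInner
  have h1 : ∀ e : E, νc e * conj ((indFun N ϑ ∘ E.subtype) e) =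
      if h : (e : G) ∈ N then (N.index : ℂ) * (νc e * conj (ϑ ⟨e, h⟩)) else 0 := by
    intro e
    show νc e * conj (indFun N ϑ (e : G)) = _
    rw [indFun_invariant_apply N ϑ hinv]
    by_cases h : (e : G) ∈ N
    · rw [dif_pos h, dif_pos h, map_mul, Complex.conj_natCast]; ring
    · rw [dif_neg h, dif_neg h, map_zero, mul_zero]
  rw [Finset.sum_congr rfl (fun e _ => h1 e),
    sum_dite_mem_eq_sum_inf N E (fun e h => (N.index : ℂ) * (νc e * conj (ϑ ⟨e, h⟩))),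
    ← Finset.mul_sum]
  rw [finsum_eq_sum_of_fintype] at hm
  have h2 : ∑ d : ↥(E ⊓ N), νc ⟨d, d.2.1⟩ * conj (ϑ ⟨(d : G), d.2.2⟩) =
      (Nat.card ↥(E ⊓ N) : ℂ) * m := by
    have hD0 : (Nat.card ↥(E ⊓ N) : ℂ) ≠ 0 := by exact_mod_cast Nat.card_pos.ne'
    have h3 : ∑ x : ↥(E ⊓ N), ϑ ⟨(x : G), x.2.2⟩ * conj (φ x) = (Nat.card ↥(E ⊓ N) : ℂ) * m := by
      rw [← hm]; field_simp
    have h4 := congrArg (starRingEnd ℂ) h3
    rw [map_sum, map_mul, Complex.conj_natCast, Complex.conj_natCast] at h4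
    rw [← h4]
    apply Finset.sum_congr rfl
    intro d _
    rw [map_mul, Complex.conj_conj, hext, mul_comm]
  rw [h2]
  -- index identity
  have hid := index_mul_card_subgroupOf N E
  rw [htop, Subgroup.index_top, one_mul] at hid
  have hcardD : Nat.card ↥(N.subgroupOf E) = Nat.card ↥(E ⊓ N) := by
    let eqv : ↥(N.subgroupOf E) ≃ ↥(E ⊓ N) :=
      { toFun := fun n => ⟨n.1.1, ⟨n.1.2, Subgroup.mem_subgroupOf.mp n.2⟩⟩
        invFun := fun d => ⟨⟨d.1, d.2.1⟩, Subgroup.mem_subgroupOf.mpr d.2.2⟩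
        left_inv := fun _ => rfl
        right_inv := fun _ => rfl }
    exact Nat.card_congr eqv
  rw [hcardD] at hid
  have hid' : (N.index : ℂ) * (Nat.card ↥(E ⊓ N) : ℂ) = (Nat.card E : ℂ) := by exact_mod_cast hid
  have hE0 : (Nat.card E : ℂ) ≠ 0 := by exact_mod_cast Nat.card_pos.ne'
  calc (Nat.card E : ℂ)⁻¹ * ((N.index : ℂ) * ((Nat.card ↥(E ⊓ N) : ℂ) * m))
      = (Nat.card E : ℂ)⁻¹ * ((N.index : ℂ) * (Nat.card ↥(E ⊓ N) : ℂ)) * m := by ring
    _ = m := by rw [hid', inv_mul_cancel₀ hE0, one_mul]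

/-- Let N be a normal subgroup of the finite group G with the index of N a power of the prime p, and P a Sylow p-subgroup of G such that P ⊓ N lies in the centre of P and every character of degree 1 of P ⊓ N is the restriction of a character of degree 1 of P. Then every irreducible character of N invariant under conjugation by G is the restriction of an irreducible character of G. -/
theorem result {G : Type*} [Group G] [Fintype G] (p : ℕ) [Fact p.Prime] (N : Subgroup G) [hN : N.Normal] (hind : ∃ k : ℕ, N.index = p ^ k) (P : Sylow p G) (hcent : ∀ x ∈ (P : Subgroup G) ⊓ N, ∀ y ∈ (P : Subgroup G), x * y = y * x) (hlin : ∀ lam : ↥((P : Subgroup G) ⊓ N) → ℂ, Cfsg.IsCharacter ↥((P : Subgroup G) ⊓ N) lam → lam 1 = 1 → ∃ μ : ↥(P : Subgroup G) → ℂ, Cfsg.IsCharacter ↥(P : Subgroup G) μ ∧ μ 1 = 1 ∧ ∀ x : ↥((P : Subgroup G) ⊓ N), μ ⟨(x : G), x.2.1⟩ = lam x) (ϑ : N → ℂ) (hϑ : Cfsg.IsIrrCharacter N ϑ) (hinv : ∀ (g : G) (n : N), ϑ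 ⟨g * n * g⁻¹, hN.conj_mem (n : G) n.2 g⟩ = ϑ n) : ∃ χ : G → ℂ, Cfsg.IsIrrCharacter G χ ∧ ∀ n : N, χ n = ϑ n := by
  classical
  have hp : p.Prime := Fact.out
  haveI : Fintype N := Fintype.ofFinite _
  haveI : Fintype (IrrCharacter G) := Fintype.ofFinite _
  have hϑc := isCharacter_of_isIrrCharacter hϑ
  obtain ⟨E, φ, hE, htop, hφ, -, m, hpm, hm⟩ := Cfsg.Agent.S0896.result p hp N hind ϑ hϑ hinv
  have hSyl := hSyl_of_sylow p N P ⟨hcent, hlin⟩
  obtain ⟨ν, hν⟩ := exists_linear_extension hp N hind E hE hSyl φ hφ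
  have hνc : IsCharacter ↥E (fun e => ((ν e : ℂˣ) : ℂ)) := isCharacter_of_hom ν
  have hinner := classInner_ind_ind N ϑ hϑc hinv E htop (fun e => ((ν e : ℂˣ) : ℂ)) φ hν m hm
  -- expand `Ind ϑ` in irreducible characters
  have hΨ : IsCharacter G (indFun E (fun e => ((ν e : ℂˣ) : ℂ))) := isCharacter_indFun E hνc
  have hΘ : IsCharacter G (indFun N ϑ) := isCharacter_indFun N hϑc
  choose ee hee using fun χ : IrrCharacter G =>
    Cfsg.Agent.S0900.ind_coeff N ϑ hϑc (χ : G → ℂ) (isCharacter_of_isIrrCharacter χ.2)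
  choose bb hbb using fun χ : IrrCharacter G =>
    classInner_isCharacter_nat hΨ (isCharacter_of_isIrrCharacter χ.2)
  have hexp := Cfsg.Agent.Lib.Helper4.classFunction_expansion (indFun N ϑ)
    (isClassFunction_of_isCharacter hΘ)
  have hsum : (m : ℂ) = ∑ χ : IrrCharacter G, ((ee χ * bb χ : ℕ) : ℂ) := by
    rw [← hinner]
    calc classInner (indFun E (fun e => ((ν e : ℂˣ) : ℂ))) (indFun N ϑ)
        = classInner (indFun E (fun e => ((ν e : ℂˣ) : ℂ)))
            (∑ χ : IrrCharacter G, classInner (indFun N ϑ) (χ : G → ℂ) • (χ : G → ℂ)) := by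
          rw [← hexp]
      _ = ∑ χ : IrrCharacter G, ((ee χ * bb χ : ℕ) : ℂ) := by
          rw [classInner_sum_right]
          apply Finset.sum_congr rfl
          intro χ _
          rw [classInner_smul_right, (hee χ).1, hbb, Complex.conj_natCast]
          push_cast
          ring
  have hsumN : m = ∑ χ : IrrCharacter G, ee χ * bb χ := by exact_mod_cast hsum
  have hex : ∃ χ : IrrCharacter G, ¬ p ∣ ee χ := by
    by_contra hall
    push Not at hall
    apply hpm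
    rw [hsumN]
    exact Finset.dvd_sum fun χ _ => Dvd.dvd.mul_right (hall χ) _
  obtain ⟨χ, hχ⟩ := hex
  exact ⟨χ, χ.2, extends_of_not_dvd p hp N hind (χ : G → ℂ) χ.2 ϑ hϑ hinv (ee χ) (hee χ).2 hχ⟩

end Cfsg.Agent.S0897
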