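import Cfsg.Statements.S0899
import Cfsg.Agent.Lib.Helper26.FTBE

set_option autoImplicit false
open Cfsg

namespace Cfsg.Agent.S0899
open Cfsg.Agent.Lib.Helper26.FTB

/-- Let G be a finite group with a faithful complex representation of degree n (on Fin n → ℂ) and p a prime. Suppose either that (n + 1) ^ 2 ≤ p, or that n + 1 < p and every subgroup of G whose order is not divisible by p ^ 2 has a normal Sylow p-subgroup. Then every Sylow p-subgroup of G is normal. -/
theorem result {G : Type*} [Group G] [Finite G] (n : ℕ) (ρ : Representation ℂ G (Fin n → ℂ)) (hρ : Function.Injective ρ) (p : ℕ) [Fact p.Prime] (h : (n + 1) ^ 2 ≤ p ∨ (n + 1 < p ∧ ∀ K : Subgroup G, ¬ p ^ 2 ∣ Nat.card K → ∀ Q : Sylow p K, (Q : Subgroup K).Normal)) (P : Sylow p G) : (P : Subgroup G).Normal := by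
  classical
  have hpp : p.Prime := Fact.out
  have hnp : n + 1 < p := by
    rcases h with h1 | h1
    · rcases Nat.eq_zero_or_pos n with h0 | h0
      · subst h0
        have h2 := hpp.two_le
        omega
      · have h2 : n + 1 < (n + 1) ^ 2 := by nlinarith
        exact lt_of_lt_of_le h2 h1
    · exact h1.1
  by_contra hP
  have hbadG : ∃ m : ℕ, ∃ H : Subgroup G, ¬ NS p ↥H ∧ Nat.card ↥H = m := by
    refine ⟨_, ⊤, ?_, rfl⟩
    intro hNS
    exact hP (NS_of_equiv Subgroup.topEquiv hNS P)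
  obtain ⟨H, hHbad, hHcard⟩ := Nat.find_spec hbadG
  have hHmin : ∀ H' : Subgroup G, ¬ NS p ↥H' → Nat.card ↥H ≤ Nat.card ↥H' := by
    intro H' hH'
    rw [hHcard]
    exact Nat.find_min' hbadG ⟨H', hH', rfl⟩
  have hsub : ∀ L : Subgroup ↥H, L ≠ ⊤ → NS p ↥L := by
    intro L hL
    by_contra hLbad
    have hL'bad : ¬ NS p ↥(L.map H.subtype) := by
      intro hNS
      exact hLbad (NS_of_equiv (L.equivMapOfInjective H.subtype H.subtype_injective).symm hNS)
    have h1 := hHmin _ hL'bad
    rw [Subgroup.card_map_of_injective H.subtype_injective] at h1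
    exact hL (Subgroup.eq_top_of_le_card L h1)
  have hab : ∀ Q : Sylow p ↥H, ∀ a ∈ (Q : Subgroup ↥H), ∀ b ∈ (Q : Subgroup ↥H),
      a * b = b * a := by
    intro Q a ha b hb
    haveI : Fintype ↥(Q : Subgroup ↥H) := Fintype.ofFinite _
    have hinj : Function.Injective
        (ρ.comp (H.subtype.comp (Q : Subgroup ↥H).subtype)) := by
      intro x y hxy
      have h1 : ρ ((x : ↥H) : G) = ρ ((y : ↥H) : G) := hxy
      exact Subtype.ext (Subtype.ext (hρ h1))
    have hn : n < p := by omega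
    have hcomm := comm_of_pgroup_of_faithful Q.isPGroup' hn
      (ρ.comp (H.subtype.comp (Q : Subgroup ↥H).subtype) :
        Representation ℂ ↥(Q : Subgroup ↥H) (Fin n → ℂ)) hinj
    exact congrArg Subtype.val (hcomm ⟨a, ha⟩ ⟨b, hb⟩)
  have hbad : ∀ Q : Sylow p ↥H, ¬ (Q : Subgroup ↥H).Normal := by
    intro Q hQ
    apply hHbad
    intro Q'
    obtain ⟨g, hg⟩ := MulAction.exists_smul_eq ↥H Q Q'
    haveI := hQ
    rw [Sylow.smul_eq_of_normal] at hg
    rw [← hg]
    exact hQ
  have hMB : MinBad p ↥H := ⟨hsub, hab, hbad⟩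
  haveI : Fintype ↥H := Fintype.ofFinite _
  obtain ⟨P₀⟩ := (inferInstance : Nonempty (Sylow p ↥H))
  have hinjH : Function.Injective (ρ.comp H.subtype) := by
    intro x y hxy
    have h1 : ρ (x : G) = ρ (y : G) := hxy
    exact Subtype.ext (hρ h1)
  have hlt := card_sylow_lt hMB (ρ.comp H.subtype : Representation ℂ ↥H (Fin n → ℂ)) hinjH hnp P₀
  have hcardP : Nat.card ↥(P₀ : Subgroup ↥H) = p ^ (Nat.card ↥H).factorization p :=
    Sylow.card_eq_multiplicity P₀
  rcases h with h1 | h1
  · have hk : (Nat.card ↥H).factorization p ≠ 0 := by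
      intro h0
      rw [h0, pow_zero] at hcardP
      apply hbad P₀
      rw [Subgroup.eq_bot_of_card_eq _ hcardP]
      infer_instance
    have hle : p ≤ p ^ (Nat.card ↥H).factorization p := Nat.le_self_pow hk p
    rw [hcardP] at hlt
    exact absurd (lt_of_le_of_lt hle (lt_of_lt_of_le hlt h1)) (lt_irrefl _)
  · have hdvd : p ^ 2 ∣ Nat.card ↥H := by
      by_contra hnd
      exact hHbad (h1.2 H hnd)
    have hk := (Nat.Prime.pow_dvd_iff_le_factorization hpp Nat.card_pos.ne').mp hdvd
    have hle : p ^ 2 ≤ p ^ (Nat.card ↥H).factorization p := Nat.pow_le_pow_right hpp.pos hk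
    have h3 : (n + 1) ^ 2 < p ^ 2 := Nat.pow_lt_pow_left h1.1 (by norm_num)
    rw [hcardP] at hlt
    exact absurd (lt_trans (lt_of_lt_of_le h3 hle) hlt) (lt_irrefl _)

end Cfsg.Agent.S0899
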