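import Cfsg.Statements.S0901
import Mathlib

set_option autoImplicit false
open Cfsg

namespace Cfsg.Agent.S0901

/-- If `ζ ≠ 1` is an `m`-th root of unity with `ζ - 1 ∈ M`, then `m ∈ M`. -/
theorem natCast_mem_of_root (M : Ideal Cfsg.AlgInt) (ζ : Cfsg.AlgInt) (m : ℕ) (hζm : ζ ^ m = 1)
    (hζ1 : ζ ≠ 1) (hmem : ζ - 1 ∈ M) : (m : Cfsg.AlgInt) ∈ M := by
  have hsum : ∑ i ∈ Finset.range m, ζ ^ i = 0 := by
    have h := geom_sum_mul ζ m
    rw [hζm, sub_self] at h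
    rcases mul_eq_zero.mp h with h | h
    · exact h
    · exact absurd (sub_eq_zero.mp h) hζ1
  have h2 : (m : Cfsg.AlgInt) = ∑ i ∈ Finset.range m, (1 - ζ ^ i) := by
    rw [Finset.sum_sub_distrib, hsum, sub_zero]; simp
  rw [h2]
  apply Ideal.sum_mem
  intro i _
  have hd : (1 : Cfsg.AlgInt) - ζ ∣ 1 ^ i - ζ ^ i := sub_dvd_pow_sub_pow 1 ζ i
  rw [one_pow] at hd
  obtain ⟨c, hc⟩ := hd
  rw [hc]
  have h1 : (1 : Cfsg.AlgInt) - ζ ∈ M := by
    have := M.neg_mem hmem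
    rwa [neg_sub] at this
  exact M.mul_mem_right c h1

theorem part1 (p : ℕ) [hp : Fact p.Prime] (M : Ideal Cfsg.AlgInt) (hM : Cfsg.IsPModular p M)
    (ε₁ ε₂ : Cfsg.AlgInt) (h1 : ∃ m : ℕ, ¬ p ∣ m ∧ (ε₁ : ℂ) ^ m = 1)
    (h2 : ∃ m : ℕ, ¬ p ∣ m ∧ (ε₂ : ℂ) ^ m = 1) (hmem : ε₁ - ε₂ ∈ M) : ε₁ = ε₂ := by
  obtain ⟨m₁, hm₁, he₁⟩ := h1
  obtain ⟨m₂, hm₂, he₂⟩ := h2
  have he₁' : ε₁ ^ m₁ = 1 := Subtype.ext (by simpa using he₁)
  have he₂' : ε₂ ^ m₂ = 1 := Subtype.ext (by simpa using he₂)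
  obtain ⟨m, hmdef⟩ : ∃ m, m = m₁ * m₂ := ⟨_, rfl⟩
  have hpm : ¬ p ∣ m := by
    intro h
    rw [hmdef] at h
    rcases (Nat.Prime.dvd_mul hp.out).mp h with h | h
    · exact hm₁ h
    · exact hm₂ h
  have hm0 : m ≠ 0 := by
    rintro h; apply hpm; rw [h]; exact dvd_zero p
  have e1 : ε₁ ^ m = 1 := by rw [hmdef, pow_mul, he₁', one_pow]
  have e2 : ε₂ ^ m = 1 := by rw [hmdef, mul_comm, pow_mul, he₂', one_pow]
  by_contra hne
  obtain ⟨ζ, hζdef⟩ : ∃ ζ, ζ = ε₁ * ε₂ ^ (m - 1) := ⟨_, rfl⟩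
  have hζm : ζ ^ m = 1 := by
    rw [hζdef, mul_pow, e1, one_mul, ← pow_mul, mul_comm, pow_mul, e2, one_pow]
  have hε₂ : ε₂ ^ (m - 1) * ε₂ = 1 := by
    rw [← pow_succ, Nat.sub_add_cancel (Nat.one_le_iff_ne_zero.mpr hm0), e2]
  have hζ1 : ζ ≠ 1 := by
    intro h
    apply hne
    have h3 : ζ * ε₂ = ε₂ := by rw [h, one_mul]
    rw [hζdef, mul_assoc, hε₂, mul_one] at h3
    exact h3
  have hζmem : ζ - 1 ∈ M := by
    have h3 : ζ - 1 = ε₂ ^ (m - 1) * (ε₁ - ε₂) := by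
      rw [mul_sub, hε₂, hζdef]; ring
    rw [h3]; exact M.mul_mem_left _ hmem
  have hmM := natCast_mem_of_root M ζ m hζm hζ1 hζmem
  have hcop : IsCoprime (m : ℤ) (p : ℤ) :=
    Nat.isCoprime_iff_coprime.mpr ((Nat.Prime.coprime_iff_not_dvd hp.out).mpr hpm).symm
  obtain ⟨a, b, hab⟩ := hcop
  have hone : (1 : Cfsg.AlgInt) ∈ M := by
    have h1 : ((a * m + b * p : ℤ) : Cfsg.AlgInt) = 1 := by rw [hab]; simp
    rw [← h1]
    push_cast
    exact M.add_mem (M.mul_mem_left _ hmM) (M.mul_mem_left _ hM.2.2)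
  exact hM.2.1.ne_top ((Ideal.eq_top_iff_one M).mpr hone)

/-- Coercion of an integral complex number to `AlgInt` (0 otherwise). -/
noncomputable def toAlgInt (μ : ℂ) : Cfsg.AlgInt :=
  open Classical in if h : IsIntegral ℤ μ then ⟨μ, h⟩ else 0

theorem toAlgInt_coe {μ : ℂ} (h : IsIntegral ℤ μ) : ((toAlgInt μ : Cfsg.AlgInt) : ℂ) = μ := by
  unfold toAlgInt
  rw [dif_pos h]

theorem part2 (p : ℕ) [hp : Fact p.Prime] (M : Ideal Cfsg.AlgInt) (hM : Cfsg.IsPModular p M)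
    (a : Cfsg.AlgInt) (ha : a ∉ M) :
    ∃ ε : Cfsg.AlgInt, (∃ m : ℕ, ¬ p ∣ m ∧ (ε : ℂ) ^ m = 1) ∧ a - ε ∈ M := by
  haveI hmax := hM.2.1
  letI : Field (Cfsg.AlgInt ⧸ M) := Ideal.Quotient.field M
  haveI : CharP (Cfsg.AlgInt ⧸ M) p := by
    obtain ⟨c, hc⟩ := CharP.exists (Cfsg.AlgInt ⧸ M)
    have h0 : ((p : ℕ) : Cfsg.AlgInt ⧸ M) = 0 := by
      have : (Ideal.Quotient.mk M (p : Cfsg.AlgInt)) = 0 := Ideal.Quotient.eq_zero_iff_mem.mpr hM.2.2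
      simpa using this
    have hdvd : c ∣ p := (CharP.cast_eq_zero_iff (Cfsg.AlgInt ⧸ M) c p).mp h0
    have hc1 : c ≠ 1 := CharP.char_ne_one (Cfsg.AlgInt ⧸ M) c
    rcases (Nat.dvd_prime hp.out).mp hdvd with h | h
    · exact absurd h hc1
    · rw [← h]; exact hc
  letI : Algebra (ZMod p) (Cfsg.AlgInt ⧸ M) := ZMod.algebra _ p
  obtain ⟨ā, hādef⟩ : ∃ ā, ā = Ideal.Quotient.mk M a := ⟨_, rfl⟩
  have hā : ā ≠ 0 := by
    rw [hādef, Ne, Ideal.Quotient.eq_zero_iff_mem]; exact ha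
  -- integrality over ZMod p
  have hinta : IsIntegral ℤ a := IsIntegralClosure.isIntegral ℤ ℂ a
  have hint : IsIntegral (ZMod p) ā := by
    rw [hādef]
    exact IsIntegral.map_of_comp_eq (Int.castRingHom (ZMod p)) (Ideal.Quotient.mk M)
      (RingHom.ext_int _ _) hinta
  -- finiteness of the adjoin
  have hfg := hint.fg_adjoin_singleton
  haveI : Module.Finite (ZMod p) (Algebra.adjoin (ZMod p) {ā}).toSubmodule :=
    Module.Finite.iff_fg.mpr hfg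
  haveI : Finite (Algebra.adjoin (ZMod p) {ā}).toSubmodule := Module.finite_of_finite (ZMod p)
  -- pigeonhole
  have hmemA : ∀ i : ℕ, ā ^ i ∈ (Algebra.adjoin (ZMod p) {ā}).toSubmodule := fun i =>
    (Algebra.adjoin (ZMod p) {ā}).pow_mem (Algebra.subset_adjoin rfl) i
  have hninj := not_injective_infinite_finite
    (fun i : ℕ => (⟨ā ^ i, hmemA i⟩ : (Algebra.adjoin (ZMod p) {ā}).toSubmodule))
  have hexp : ∃ k : ℕ, 0 < k ∧ ā ^ k = 1 := by
    unfold Function.Injective at hninj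
    push Not at hninj
    obtain ⟨i, j, hij, hne⟩ := hninj
    have hij' : ā ^ i = ā ^ j := congrArg Subtype.val hij
    have key : ∀ i j : ℕ, i < j → ā ^ i = ā ^ j → ∃ k : ℕ, 0 < k ∧ ā ^ k = 1 := by
      intro i j hlt h
      refine ⟨j - i, Nat.sub_pos_of_lt hlt, ?_⟩
      have h3 : ā ^ i * ā ^ (j - i) = ā ^ i * 1 := by
        rw [← pow_add, Nat.add_sub_cancel' hlt.le, mul_one, h]
      exact mul_left_cancel₀ (pow_ne_zero i hā) h3
    rcases Nat.lt_or_gt_of_ne hne with hlt | hlt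
    · exact key i j hlt hij'
    · exact key j i hlt hij'.symm
  -- minimal order is prime to p
  have hfin : IsOfFinOrder ā := isOfFinOrder_iff_pow_eq_one.mpr hexp
  obtain ⟨n, hndef⟩ : ∃ n, n = orderOf ā := ⟨_, rfl⟩
  have hnpos : 0 < n := by rw [hndef]; exact hfin.orderOf_pos
  have hān : ā ^ n = 1 := by rw [hndef]; exact pow_orderOf_eq_one ā
  have hpn : ¬ p ∣ n := by
    rintro ⟨n', hn'⟩
    have h1 : (ā ^ n' - 1) ^ p = 0 := by
      rw [sub_pow_char, one_pow, ← pow_mul, mul_comm, ← hn', hān, sub_self]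
    have h2 : ā ^ n' = 1 := sub_eq_zero.mp (pow_eq_zero_iff (hp.out.ne_zero) |>.mp h1)
    have h3 : n ∣ n' := by rw [hndef]; exact orderOf_dvd_of_pow_eq_one h2
    have hn'pos : 0 < n' := by
      rcases Nat.eq_zero_or_pos n' with h | h
      · rw [h, mul_zero] at hn'; omega
      · exact h
    have h4 : n ≤ n' := Nat.le_of_dvd hn'pos h3
    have h5 : 2 * n' ≤ p * n' := Nat.mul_le_mul_right n' hp.out.two_le
    omega
  -- lifting
  have hprim := Complex.isPrimitiveRoot_exp n hnpos.ne'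
  have hfac := Polynomial.X_pow_sub_one_eq_prod hnpos hprim
  have hev := congrArg (Polynomial.eval (a : ℂ)) hfac
  rw [Polynomial.eval_prod] at hev
  simp only [Polynomial.eval_sub, Polynomial.eval_pow, Polynomial.eval_X, Polynomial.eval_one,
    Polynomial.eval_C] at hev
  have hintμ : ∀ μ ∈ Polynomial.nthRootsFinset n (1 : ℂ), IsIntegral ℤ μ := by
    intro μ hμ
    have hμn : μ ^ n = 1 := (Polynomial.mem_nthRootsFinset hnpos 1).mp hμ
    exact IsIntegral.of_pow hnpos (by rw [hμn]; exact isIntegral_one)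
  have hprod : a ^ n - 1 = ∏ μ ∈ Polynomial.nthRootsFinset n (1 : ℂ), (a - toAlgInt μ) := by
    apply Subtype.ext
    have hc : ((∏ μ ∈ Polynomial.nthRootsFinset n (1 : ℂ), (a - toAlgInt μ) : Cfsg.AlgInt) : ℂ)
        = ∏ μ ∈ Polynomial.nthRootsFinset n (1 : ℂ), ((a : ℂ) - μ) := by
      rw [← Subalgebra.coe_val, map_prod]
      apply Finset.prod_congr rfl
      intro μ hμ
      rw [Subalgebra.coe_val, Subalgebra.coe_sub, toAlgInt_coe (hintμ μ hμ)]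
    rw [hc, ← hev]
    simp
  have hmemM : a ^ n - 1 ∈ M := by
    rw [← Ideal.Quotient.eq, map_pow, map_one, ← hādef]
    exact hān
  rw [hprod] at hmemM
  haveI : M.IsPrime := hmax.isPrime
  obtain ⟨μ, hμ, hμM⟩ := Ideal.IsPrime.prod_mem_iff.mp hmemM
  refine ⟨toAlgInt μ, ⟨n, hpn, ?_⟩, hμM⟩
  rw [toAlgInt_coe (hintμ μ hμ)]
  exact (Polynomial.mem_nthRootsFinset hnpos 1).mp hμ

/-- Let M be a maximal ideal of the ring of algebraic integers containing the prime p, and let U be the set of complex roots of unity of order prime to p. Then reduction modulo M is injective on U, and every algebraic integer not in M is congruent modulo M to an element of U (so U maps bijectively onto the nonzero residues). -/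
theorem result (p : ℕ) [Fact p.Prime] (M : Ideal Cfsg.AlgInt) (hM : Cfsg.IsPModular p M) : (∀ ε₁ ε₂ : Cfsg.AlgInt, (∃ m : ℕ, ¬ p ∣ m ∧ (ε₁ : ℂ) ^ m = 1) → (∃ m : ℕ, ¬ p ∣ m ∧ (ε₂ : ℂ) ^ m = 1) → ε₁ - ε₂ ∈ M → ε₁ = ε₂) ∧ (∀ a : Cfsg.AlgInt, a ∉ M → ∃ ε : Cfsg.AlgInt, (∃ m : ℕ, ¬ p ∣ m ∧ (ε : ℂ) ^ m = 1) ∧ a - ε ∈ M) :=
  ⟨fun ε₁ ε₂ h1 h2 h => part1 p M hM ε₁ ε₂ h1 h2 h, fun a ha => part2 p M hM a ha⟩

end Cfsg.Agent.S0901
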