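import Cfsg.Statements.S0903
import Mathlib

set_option autoImplicit false
open Cfsg

namespace Cfsg.Agent.S0903

/-- Let P be a p-subgroup of the finite group G, let c centralize P and let g, h ∈ G. The number of pairs (x, y) with x conjugate to g, y conjugate to h and x * y = c is congruent modulo p to the number of such pairs in which x and y both centralize P. (This is why the Brauer map on class sums is multiplicative.) -/
theorem result {G : Type*} [Group G] [Finite G] (p : ℕ) [Fact p.Prime] (P : Subgroup G) (hP : IsPGroup p P) (c : G) (hc : c ∈ Subgroup.centralizer (P : Set G)) (g h : G) : Nat.card {xy : G × G // IsConj g xy.1 ∧ IsConj h xy.2 ∧ xy.1 * xy.2 = c} ≡ Nat.card {xy : G × G // IsConj g xy.1 ∧ IsConj h xy.2 ∧ xy.1 * xy.2 = c ∧ xy.1 ∈ Subgroup.centralizer (P : Set G) ∧ xy.2 ∈ Subgroup.centralizer (P : Set G)} [MOD p] := by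
  classical
  have hcc : ∀ a : P, (a : G) * c * (a : G)⁻¹ = c := by
    intro a
    have := (Subgroup.mem_centralizer_iff.mp hc) a a.2
    rw [this]; group
  letI act : MulAction P {xy : G × G // IsConj g xy.1 ∧ IsConj h xy.2 ∧ xy.1 * xy.2 = c} :=
    { smul := fun a xy => ⟨((a : G) * xy.1.1 * (a : G)⁻¹, (a : G) * xy.1.2 * (a : G)⁻¹),
        xy.2.1.trans (isConj_iff.mpr ⟨a, rfl⟩), xy.2.2.1.trans (isConj_iff.mpr ⟨a, rfl⟩), by
          have h3 := xy.2.2.2
          have : (a : G) * xy.1.1 * (a : G)⁻¹ * ((a : G) * xy.1.2 * (a : G)⁻¹) =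
              (a : G) * (xy.1.1 * xy.1.2) * (a : G)⁻¹ := by group
          rw [this, h3]; exact hcc a⟩
      one_smul := by
        rintro ⟨⟨x, y⟩, hx⟩
        apply Subtype.ext
        show (((1 : P) : G) * x * ((1 : P) : G)⁻¹, ((1 : P) : G) * y * ((1 : P) : G)⁻¹) = (x, y)
        simp
      mul_smul := by
        rintro a b ⟨⟨x, y⟩, hx⟩
        apply Subtype.ext
        show (((a * b : P) : G) * x * ((a * b : P) : G)⁻¹, ((a * b : P) : G) * y * ((a * b : P) : G)⁻¹) =
          ((a : G) * ((b : G) * x * (b : G)⁻¹) * (a : G)⁻¹, (a : G) * ((b : G) * y * (b : G)⁻¹) * (a : G)⁻¹)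
        simp [mul_assoc] }
  have key := hP.card_modEq_card_fixedPoints
    {xy : G × G // IsConj g xy.1 ∧ IsConj h xy.2 ∧ xy.1 * xy.2 = c}
  suffices hs : Nat.card ↥(MulAction.fixedPoints P {xy : G × G // IsConj g xy.1 ∧ IsConj h xy.2 ∧ xy.1 * xy.2 = c}) = Nat.card {xy : G × G // IsConj g xy.1 ∧ IsConj h xy.2 ∧ xy.1 * xy.2 = c ∧ xy.1 ∈ Subgroup.centralizer (P : Set G) ∧ xy.2 ∈ Subgroup.centralizer (P : Set G)} by
    rw [← hs]; exact key
  apply Nat.card_congr
  refine
    { toFun := fun z => ⟨z.1.1, z.1.2.1, z.1.2.2.1, z.1.2.2.2, ?_, ?_⟩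
      invFun := fun w => ⟨⟨w.1, w.2.1, w.2.2.1, w.2.2.2.1⟩, ?_⟩
      left_inv := fun z => rfl
      right_inv := fun w => rfl }
  · rw [Subgroup.mem_centralizer_iff]
    intro a ha
    have := congrArg (fun t => t.1.1) (z.2 ⟨a, ha⟩)
    have h1 : a * z.1.1.1 * a⁻¹ = z.1.1.1 := this
    calc a * z.1.1.1 = (a * z.1.1.1 * a⁻¹) * a := by group
      _ = z.1.1.1 * a := by rw [h1]
  · rw [Subgroup.mem_centralizer_iff]
    intro a ha
    have := congrArg (fun t => t.1.2) (z.2 ⟨a, ha⟩)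
    have h1 : a * z.1.1.2 * a⁻¹ = z.1.1.2 := this
    calc a * z.1.1.2 = (a * z.1.1.2 * a⁻¹) * a := by group
      _ = z.1.1.2 * a := by rw [h1]
  · intro a
    apply Subtype.ext
    have h1 := (Subgroup.mem_centralizer_iff.mp w.2.2.2.2.1) a a.2
    have h2 := (Subgroup.mem_centralizer_iff.mp w.2.2.2.2.2) a a.2
    show ((a : G) * w.1.1 * (a : G)⁻¹, (a : G) * w.1.2 * (a : G)⁻¹) = w.1
    rw [h1, h2]
    ext <;> simp

end Cfsg.Agent.S0903
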