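import Cfsg.Statements.S0906
import Cfsg.Agent.Lib.Helper28.BlockOsima

set_option autoImplicit false
open Cfsg

namespace Cfsg.Agent.S0906

open Cfsg.Agent.Lib.Helper28 in
theorem result {G : Type*} [Group G] [Finite G] (p : ℕ) [Fact p.Prime] (M : Ideal Cfsg.AlgInt) (hM : Cfsg.IsPModular p M) (B : Set (Cfsg.IrrCharacter G)) (hB : Cfsg.IsPBlock M B) : ∃ g : G, Cfsg.IsDefectClass M B g := by
  classical
  have : Fintype G := Fintype.ofFinite G
  have : Fintype (ConjClasses G) := Fintype.ofFinite _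
  have : M.IsPrime := hM.2.1.isPrime
  have hMtop : M ≠ ⊤ := hM.2.1.ne_top
  obtain ⟨χ0, hχ0⟩ := block_nonempty hB
  have hcl0 := Cfsg.Agent.Lib.Helper4.isClassFunction_of_isIrrCharacter χ0.2
  have h1 : omegaF (χ0 : G → ℂ) (blockCoeff B) = 1 := by
    rw [omegaF_blockCoeff, if_pos hχ0]
  rw [omegaF_eq_sum_classes hcl0 _ (isClassFunction_blockCoeff B)] at h1
  have h2 : ∃ C : ConjClasses G, ¬ MemLocalIdeal M
      (blockCoeff B (Quotient.out C) * centralChar (χ0 : G → ℂ) (Quotient.out C)) := by
    by_contra hcon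
    push Not at hcon
    have := memLocalIdeal_sum Finset.univ
      (fun C : ConjClasses G =>
        blockCoeff B (Quotient.out C) * centralChar (χ0 : G → ℂ) (Quotient.out C))
      (fun C _ => hcon C)
    rw [h1] at this
    exact not_memLocalIdeal_one hMtop this
  obtain ⟨C, hC⟩ := h2
  refine ⟨Quotient.out C, osima hB _, ?_, ?_⟩
  · intro h
    apply hC
    exact memLocalIdeal_mul_right h
      (memLocalRing_of_isIntegral hMtop (isIntegral_centralChar χ0.2 _))
  · intro χ hχ h
    apply hC
    apply memLocalIdeal_mul_left (osima hB _)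
    have h3 : SameBlock M (χ0 : G → ℂ) (χ : G → ℂ) := (mem_block_iff hB hχ0 χ).mp hχ
    have := memLocalIdeal_add (h3 (Quotient.out C)) h
    rwa [sub_add_cancel] at this

end Cfsg.Agent.S0906
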