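import Cfsg.Statements.S0910
import Cfsg.Agent.Lib.Helper28.BlockOsima
import Cfsg.Agent.Lib.Helper4.BurnsideClass

set_option autoImplicit false
open Cfsg

namespace Cfsg.Agent.S0910

open Cfsg.Agent.Lib.Helper4 in
/-- in a non-abelian simple group, a nontrivial irreducible character vanishes at a
nonidentity element whose class size is prime to the degree -/
theorem char_eq_zero_of_coprime {G : Type*} [Group G] [Fintype G] [IsSimpleGroup G]
    (hnc : ¬ ∀ a b : G, a * b = b * a) (g : G) (hg : g ≠ 1)
    {V : Type*} [AddCommGroup V] [Module ℂ V] [FiniteDimensional ℂ V]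
    (ρ : Representation ℂ G V) (hirr : ρ.IsIrreducible)
    (hnt : ρ.character ≠ fun _ => (1 : ℂ))
    (hcop : Nat.Coprime (Module.finrank ℂ V) (Subgroup.centralizer ({g} : Set G)).index) :
    ρ.character g = 0 := by
  rcases character_eq_zero_or_norm_eq ρ hirr g hcop with h | h
  · exact h
  · exfalso
    obtain ⟨ω, hω⟩ := (norm_character_eq_finrank_iff ρ g).mp h
    rcases IsSimpleGroup.eq_bot_or_eq_top_of_normal (MonoidHom.ker ρ) (MonoidHom.normal_ker ρ)
      with hK | hK
    · have hgc : g ∈ Subgroup.center G := by
        rw [Subgroup.mem_center_iff]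
        intro y
        have h1 : ρ (y * g) = ρ (g * y) := by
          rw [map_mul, map_mul, hω]
          ext v
          simp
        have h2 : (y * g) * (g * y)⁻¹ ∈ MonoidHom.ker ρ := by
          rw [MonoidHom.mem_ker, map_mul, h1, ← map_mul, mul_inv_cancel, map_one]
        rw [hK, Subgroup.mem_bot] at h2
        exact mul_inv_eq_one.mp h2
      rcases IsSimpleGroup.eq_bot_or_eq_top_of_normal (Subgroup.center G) inferInstance with hZ | hZ
      · rw [hZ, Subgroup.mem_bot] at hgc
        exact hg hgc
      · apply hnc
        intro a b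
        have ha : a ∈ Subgroup.center G := by rw [hZ]; exact Subgroup.mem_top a
        exact ((Subgroup.mem_center_iff.mp ha) b).symm
    · apply hnt
      apply character_eq_one_of_trivial ρ hirr
      intro x
      have hx : x ∈ MonoidHom.ker ρ := by rw [hK]; exact Subgroup.mem_top x
      exact MonoidHom.mem_ker.mp hx

open Cfsg.Agent.Lib.Helper28 in
theorem result {G : Type*} [Group G] [Finite G] (p : ℕ) [Fact p.Prime] (M : Ideal Cfsg.AlgInt) (hM : Cfsg.IsPModular p M) [IsSimpleGroup G] (hna : ∃ a b : G, a * b ≠ b * a) (χ : Cfsg.IrrCharacter G) (hχ : χ ∈ Cfsg.principalBlock M G) (k : ℕ) (hdeg : (χ : G → ℂ) 1 = (p : ℂ) ^ k) : (χ : G → ℂ) = fun _ => 1 := by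
  classical
  have : Fintype G := Fintype.ofFinite G
  have hp : p.Prime := hM.1
  have hprime : M.IsPrime := hM.2.1.isPrime
  by_contra hne
  obtain ⟨n, ρ, hirr, hρχ⟩ := χ.2
  have hnc : ¬ ∀ a b : G, a * b = b * a := by
    obtain ⟨a, b, hab⟩ := hna
    exact fun h => hab (h a b)
  have hn : Module.finrank ℂ (Fin n → ℂ) = p ^ k := by
    have h1 : (χ : G → ℂ) 1 = (Module.finrank ℂ (Fin n → ℂ) : ℂ) := by
      rw [← hρχ, Representation.char_one]
    rw [h1] at hdeg
    exact_mod_cast hdeg
  -- an element z ≠ 1 with class size prime to p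
  have hz : ∃ z : G, z ≠ 1 ∧ ¬ p ∣ (Subgroup.centralizer ({z} : Set G)).index := by
    by_cases hpG : p ∣ Nat.card G
    · obtain ⟨P⟩ : Nonempty (Sylow p G) := inferInstance
      have hPcard : Nat.card (P : Subgroup G) ≠ 1 := by
        rw [Sylow.card_eq_multiplicity]
        intro h
        have h0 : (Nat.card G).factorization p = 0 := by
          rcases Nat.pow_eq_one.mp h with h | h
          · exact absurd h hp.ne_one
          · exact h
        have := (Nat.factorization_eq_zero_iff _ _).mp h0
        rcases this with h | h | h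
        · exact h hp
        · exact h hpG
        · exact Nat.card_pos.ne' h
      have hnt : Nontrivial (P : Subgroup G) := by
        rw [← Finite.one_lt_card_iff_nontrivial]
        have : 0 < Nat.card (P : Subgroup G) := Nat.card_pos
        omega
      have hcn := IsPGroup.center_nontrivial (P.2)
      obtain ⟨⟨z, hz⟩, hz1⟩ := exists_ne (1 : Subgroup.center (P : Subgroup G))
      refine ⟨(z : G), ?_, ?_⟩
      · intro h
        apply hz1
        apply Subtype.ext
        apply Subtype.ext
        exact h
      · have hle : (P : Subgroup G) ≤ Subgroup.centralizer ({(z : G)} : Set G) := by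
          intro y hy
          rw [Subgroup.mem_centralizer_iff]
          intro w hw
          rw [Set.mem_singleton_iff] at hw
          rw [hw]
          have := (Subgroup.mem_center_iff.mp hz) ⟨y, hy⟩
          have h2 := congrArg (Subtype.val) this
          exact (by simpa using h2 : y * (z : G) = (z : G) * y).symm
        intro hdvd
        exact P.not_dvd_index (hdvd.trans (Subgroup.index_dvd_of_le hle))
    · obtain ⟨a, b, hab⟩ := hna
      have ha1 : a ≠ 1 := by
        rintro rfl
        simp at hab
      refine ⟨a, ha1, fun hdvd => hpG (hdvd.trans (Subgroup.index_dvd_card _))⟩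
  obtain ⟨z, hz1, hzp⟩ := hz
  have hcop : Nat.Coprime (Module.finrank ℂ (Fin n → ℂ))
      (Subgroup.centralizer ({z} : Set G)).index := by
    rw [hn]
    exact Nat.Coprime.pow_left k ((Nat.Prime.coprime_iff_not_dvd hp).mpr hzp)
  have hχz : (χ : G → ℂ) z = 0 := by
    rw [← hρχ]
    exact char_eq_zero_of_coprime hnc z hz1 ρ hirr (by rw [hρχ]; exact hne) hcop
  have hsb : SameBlock M (fun _ : G => (1 : ℂ)) (χ : G → ℂ) := hχ
  have h1 := hsb z
  unfold centralChar at h1
  rw [hχz, mul_zero, zero_div, sub_zero, mul_one, div_one] at h1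
  exact not_memLocalIdeal_natCast hM
    ((Nat.Prime.coprime_iff_not_dvd hp).mpr hzp).symm h1

end Cfsg.Agent.S0910
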