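import Cfsg.Statements.S0915
import Cfsg.Agent.Lib.Helper4.BlockRegular
import Cfsg.Agent.Lib.Helper4.BlockNilp
import Cfsg.Agent.Lib.Helper20.PSolvable
import Cfsg.Agent.Lib.Helper16.PCore

set_option autoImplicit false
open Cfsg

namespace Cfsg.Agent.S0915

/-- Let G be a finite p-solvable group with trivial largest normal subgroup of order prime to p. Then any two irreducible characters of G lie in the same block relative to every maximal ideal M of the algebraic integers containing p: G has a single p-block. -/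
theorem result {G : Type*} [Group G] [Finite G] (p : ℕ) [Fact p.Prime] (M : Ideal Cfsg.AlgInt) (hM : Cfsg.IsPModular p M) (hsolv : Cfsg.IsPSolvable p G) (hcore : Cfsg.pPrimeCore p G = ⊥) (χ ψ : Cfsg.IrrCharacter G) : Cfsg.SameBlock M (χ : G → ℂ) (ψ : G → ℂ) := by
  classical
  open Cfsg.Agent.Lib.Helper4 Cfsg.Agent.Lib.Helper28 in
  have : Fintype G := Fintype.ofFinite G
  have hMprime : M.IsPrime := hM.2.1.isPrime
  have hMtop : M ≠ ⊤ := Ideal.IsPrime.ne_top hMprime
  have hQn : (pCore p G).Normal := Cfsg.Agent.Lib.Helper16.pCore_normal p G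
  have hQ : IsPGroup p (pCore p G) := Cfsg.Agent.Lib.Helper16.pCore_isPGroup p G
  have hHH := Cfsg.Agent.Lib.Helper20.centralizer_pCore_le_of_isPSolvable hsolv hcore
  apply sameBlock_of_pRegular hM χ ψ
  intro g hg
  by_cases hg1 : g = 1
  · rw [hg1, centralChar_one (irr_one_ne_zero ψ.2), centralChar_one (irr_one_ne_zero χ.2),
      sub_self]
    exact memLocalIdeal_zero hMtop
  · have hgc : g ∉ Subgroup.centralizer ((pCore p G : Subgroup G) : Set G) := by
      intro hgc
      have hgQ : g ∈ pCore p G := hHH hgc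
      obtain ⟨k, hk⟩ := hQ ⟨g, hgQ⟩
      have hk' : g ^ (p ^ k) = 1 := by
        have := congrArg Subtype.val hk
        simpa using this
      have hdvd : orderOf g ∣ p ^ k := orderOf_dvd_of_pow_eq_one hk'
      obtain ⟨j, _, hj⟩ := (Nat.dvd_prime_pow (Fact.out : p.Prime)).mp hdvd
      rcases Nat.eq_zero_or_pos j with h0 | hpos
      · rw [h0, pow_zero] at hj
        exact hg1 (orderOf_eq_one_iff.mp hj)
      · apply hg
        rw [hj]
        exact dvd_pow_self p hpos.ne'
    exact memLocalIdeal_sub
      (centralChar_memLocalIdeal_of_not_centralizer hM (pCore p G) hQ ψ.2 g hgc)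
      (centralChar_memLocalIdeal_of_not_centralizer hM (pCore p G) hQ χ.2 g hgc)

end Cfsg.Agent.S0915
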