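import Cfsg.Statements.S0916
import Cfsg.Agent.Lib.Helper15.SylowIn

set_option autoImplicit false
open Cfsg

namespace Cfsg.Agent.S0916

open Cfsg.Agent.Lib.Helper15

theorem key {G : Type*} [Group G] [Finite G] (p : ℕ) [Fact p.Prime] (P : Subgroup G) (g c : G)
    (hS : IsSylowOf p (Subgroup.centralizer ({g} : Set G)) P) (hgc : IsConj g c)
    (hc : c ∈ Subgroup.centralizer (P : Set G)) :
    ∃ n ∈ Subgroup.normalizer (P : Set G), n * c * n⁻¹ = g := by
  obtain ⟨x, hx⟩ := isConj_iff.mp hgc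
  have hS' := (isSylowOf_iff_card _ _).mp hS
  -- the conjugate P' = x⁻¹ P x is a Sylow subgroup of C(g)
  have hP' : IsSylowOf p (Subgroup.centralizer ({g} : Set G)) (P.map (MulAut.conj x⁻¹ : G →* G)) := by
    rw [isSylowOf_iff_card]
    refine ⟨?_, ?_⟩
    · rintro _ ⟨y, hy, rfl⟩
      rw [Subgroup.mem_centralizer_iff]
      intro z hz
      rw [Set.mem_singleton_iff] at hz
      subst hz
      have h1 : y * c = c * y := (Subgroup.mem_centralizer_iff.mp hc) y hy
      show z * (MulAut.conj x⁻¹ y) = (MulAut.conj x⁻¹ y) * z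
      simp only [MulAut.conj_apply, inv_inv]
      rw [← hx] at h1
      have h2 : z * (x⁻¹ * y * x) = x⁻¹ * ((x * z * x⁻¹) * y) * x := by group
      have h3 : x⁻¹ * y * x * z = x⁻¹ * (y * (x * z * x⁻¹)) * x := by group
      rw [h2, h3, h1]
    · rw [Subgroup.card_map_of_injective (MulAut.conj x⁻¹).injective]
      exact hS'.2
  obtain ⟨u, hu, hPu⟩ := hP'.exists_conj hS
  refine ⟨u * x⁻¹, ?_, ?_⟩
  · have hcomp : (MulAut.conj (u * x⁻¹) : G →* G) =
        (MulAut.conj u : G →* G).comp (MulAut.conj x⁻¹ : G →* G) := by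
      ext y; simp [mul_assoc]
    rw [Subgroup.map_map] at hPu
    rw [Subgroup.mem_normalizer_iff_map_conj_eq, hcomp]
    exact hPu.symm
  · have hug : u * g = g * u := by
      have := (Subgroup.mem_centralizer_iff.mp hu) g (Set.mem_singleton g)
      exact this.symm
    rw [← hx]
    have : u * x⁻¹ * (x * g * x⁻¹) * (u * x⁻¹)⁻¹ = (u * g) * u⁻¹ := by group
    rw [this, hug]; group

theorem result {G : Type*} [Group G] [Finite G] (p : ℕ) [Fact p.Prime] (P : Subgroup G) (hP : IsPGroup p P) : (∀ g : G, (∃ S : Sylow p (Subgroup.centralizer ({g} : Set G)), (S : Subgroup (Subgroup.centralizer ({g} : Set G))).map (Subgroup.centralizer ({g} : Set G)).subtype = P) → (∃ c : G, IsConj g c ∧ c ∈ Subgroup.centralizer (P : Set G)) ∧ (∀ c₁ c₂ : G, IsConj g c₁ → IsConj g c₂ → c₁ ∈ Subgroup.centralizer (P : Set G) → c₂ ∈ Subgroup.centralizer (P : Set G) → ∃ n ∈ Subgroup.normalizer (P : Set G), n * c₁ * n⁻¹ = c₂)) ∧ (∀ c : G, c ∈ Subgroup.centralizer (P : Set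 G) → (∃ S : Sylow p (Subgroup.centralizer ({c} : Set G) ⊓ Subgroup.normalizer (P : Set G) : Subgroup G), (S : Subgroup ↥(Subgroup.centralizer ({c} : Set G) ⊓ Subgroup.normalizer (P : Set G))).map (Subgroup.centralizer ({c} : Set G) ⊓ Subgroup.normalizer (P : Set G)).subtype = P) → ∃ S : Sylow p (Subgroup.centralizer ({c} : Set G)), (S : Subgroup (Subgroup.centralizer ({c} : Set G))).map (Subgroup.centralizer ({c} : Set G)).subtype = P) := by
  refine ⟨?_, ?_⟩
  · intro g hS
    have hS' : IsSylowOf p (Subgroup.centralizer ({g} : Set G)) P := hS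
    refine ⟨⟨g, IsConj.refl g, ?_⟩, ?_⟩
    · rw [Subgroup.mem_centralizer_iff]
      intro y hy
      have := (Subgroup.mem_centralizer_iff.mp (hS'.le hy)) g (Set.mem_singleton g)
      exact this.symm
    · intro c₁ c₂ h1 h2 hc1 hc2
      obtain ⟨n₁, hn₁, e₁⟩ := key p P g c₁ hS' h1 hc1
      obtain ⟨n₂, hn₂, e₂⟩ := key p P g c₂ hS' h2 hc2
      refine ⟨n₂⁻¹ * n₁, Subgroup.mul_mem _ (Subgroup.inv_mem _ hn₂) hn₁, ?_⟩
      have : n₂⁻¹ * n₁ * c₁ * (n₂⁻¹ * n₁)⁻¹ = n₂⁻¹ * (n₁ * c₁ * n₁⁻¹) * n₂ := by group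
      rw [this, e₁, ← e₂]; group
  · intro c hc hS
    have hS' : IsSylowOf p (Subgroup.centralizer ({c} : Set G) ⊓ Subgroup.normalizer (P : Set G)) P := hS
    show IsSylowOf p (Subgroup.centralizer ({c} : Set G)) P
    have hPc : P ≤ Subgroup.centralizer ({c} : Set G) := hS'.le.trans inf_le_left
    obtain ⟨Q, hQ, hPQ⟩ := exists_isSylowOf_ge (Subgroup.centralizer ({c} : Set G)) P hP hPc
    rcases eq_or_lt_of_le hPQ with heq | hlt
    · rw [heq]; exact hQ
    · exfalso
      have h1 := lt_inf_normalizer_of_lt Q P hQ.isPGroup hlt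
      have h2 : Q ⊓ Subgroup.normalizer (P : Set G) ≤
          Subgroup.centralizer ({c} : Set G) ⊓ Subgroup.normalizer (P : Set G) :=
        inf_le_inf_right _ hQ.le
      have h3 := card_le_of_isPGroup_le _ _ (hQ.isPGroup.to_le inf_le_left) h2
      rw [← ((isSylowOf_iff_card _ _).mp hS').2] at h3
      have h4 := Subgroup.eq_of_le_of_card_ge h1.le (Nat.le_of_dvd Nat.card_pos h3)
      exact h1.ne h4

end Cfsg.Agent.S0916
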