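import Cfsg.Statements.S0923
import Cfsg.Agent.Lib.Helper28.GreenVanE

set_option autoImplicit false
open Cfsg

namespace Cfsg.Agent.S0923

/-- Brauer's Second Main Theorem, in terms of ordinary characters. Let x be a p-element of the finite group G with centralizer C, let χ lie in the block B of G and let b be a block of C that does not induce B (relative to a maximal ideal M of the algebraic integers containing p). Form the class function ϑ(c) = χ(x c) on C and its b-part (the sum over ψ ∈ b of the inner product of ϑ with ψ, times ψ). Then the b-part of ϑ vanishes at every p-regular element of C. (Equivalently, the generalized decomposition numbers of χ with respect to b are zero.) -/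
theorem result {G : Type*} [Group G] [Finite G] (p : ℕ) [Fact p.Prime] (M : Ideal Cfsg.AlgInt) (hM : Cfsg.IsPModular p M) (x : G) (hx : ∃ k : ℕ, orderOf x = p ^ k) (B : Set (Cfsg.IrrCharacter G)) (hB : Cfsg.IsPBlock M B) (χ : Cfsg.IrrCharacter G) (hχ : χ ∈ B) (b : Set (Cfsg.IrrCharacter (Subgroup.centralizer ({x} : Set G)))) (hb : Cfsg.IsPBlock M b) (hnot : ¬ Cfsg.IsInducedBlock M (Subgroup.centralizer ({x} : Set G)) b B) (y : Subgroup.centralizer ({x} : Set G)) (hy : ¬ p ∣ orderOf y) : Cfsg.blockPart b (fun c : Subgroup.centralizer ({x} : Set G) => (χ : G → ℂ) (x * (c : G))) y = 0 := by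
  have : Fintype G := Fintype.ofFinite G
  have : Fintype (Subgroup.centralizer ({x} : Set G)) := Fintype.ofFinite _
  have hcomm : ∀ k : Subgroup.centralizer ({x} : Set G), x * (k : G) = (k : G) * x := by
    intro k
    have := k.2
    rw [Subgroup.mem_centralizer_iff] at this
    exact this x rfl
  have hcl : Cfsg.IsClassFunction (Subgroup.centralizer ({x} : Set G))
      (fun c : Subgroup.centralizer ({x} : Set G) => (χ : G → ℂ) (x * (c : G))) := by
    intro c k
    show (χ : G → ℂ) (x * ((k * c * k⁻¹ : Subgroup.centralizer ({x} : Set G)) : G)) =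
      (χ : G → ℂ) (x * (c : G))
    have h1 : x * ((k * c * k⁻¹ : Subgroup.centralizer ({x} : Set G)) : G) =
        (k : G) * (x * (c : G)) * (k : G)⁻¹ := by
      rw [Subgroup.coe_mul, Subgroup.coe_mul, Subgroup.coe_inv, ← mul_assoc, ← mul_assoc,
        hcomm k, mul_assoc (k : G) x]
    rw [h1, Cfsg.Agent.Lib.Helper4.isClassFunction_of_isIrrCharacter χ.2]
  rw [Cfsg.Agent.Lib.Helper28.blockPart_eq_sum_blockCoeff b _ hcl y,
    ← Cfsg.Agent.Lib.Helper28.second_main_centralizer hM x hx hB χ hχ b hb hnot y hy]
  refine Finset.sum_congr rfl fun k _ => ?_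
  show Cfsg.blockCoeff b k * (χ : G → ℂ) (x * ((k * y : Subgroup.centralizer ({x} : Set G)) : G)) =
    Cfsg.blockCoeff b k * (χ : G → ℂ) ((k : G) * (x * (y : G)))
  rw [Subgroup.coe_mul, ← mul_assoc, hcomm k, mul_assoc]

end Cfsg.Agent.S0923
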