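import Cfsg.Statements.S0959
import Cfsg.Agent.Lib.Helper28.BrauerB

set_option autoImplicit false
open Cfsg

namespace Cfsg.Agent.S0959

/-- Let B be a block of the finite group G with defect group D (relative to a maximal ideal M of the algebraic integers containing the prime p), and let P be a p-subgroup. Then there is an element g whose idempotent coefficient for B is a local integer outside the local ideal at M and which has a conjugate centralizing P, if and only if some conjugate of P is contained in D. -/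
theorem result {G : Type*} [Group G] [Finite G] (p : ℕ) [Fact p.Prime] (M : Ideal Cfsg.AlgInt) (hM : Cfsg.IsPModular p M) (B : Set (Cfsg.IrrCharacter G)) (hB : Cfsg.IsPBlock M B) (D : Subgroup G) (hD : Cfsg.IsDefectGroup p M B D) (P : Subgroup G) (hP : IsPGroup p P) : (∃ g : G, Cfsg.MemLocalRing M (Cfsg.blockCoeff B g) ∧ ¬ Cfsg.MemLocalIdeal M (Cfsg.blockCoeff B g) ∧ ∃ c : G, IsConj g c ∧ c ∈ Subgroup.centralizer (P : Set G)) ↔ ∃ x : G, P.map (MulAut.conj x).toMonoidHom ≤ D := by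
  classical
  have : Fintype G := Fintype.ofFinite G
  have hprime : M.IsPrime := hM.2.1.isPrime
  obtain ⟨g0, ⟨hg1, hg2, hg3⟩, P0, rfl⟩ := hD
  constructor
  · rintro ⟨g, _, hg, c, hgc, hcP⟩
    have hcl : Cfsg.blockCoeff B c = Cfsg.blockCoeff B g := by
      obtain ⟨k, hk⟩ := isConj_iff.mp hgc
      rw [← hk]
      exact Cfsg.Agent.Lib.Helper28.isClassFunction_blockCoeff B g k
    have hc : ¬ Cfsg.MemLocalIdeal M (Cfsg.blockCoeff B c) := by rw [hcl]; exact hg
    have hcent : ∀ t ∈ P, t * c = c * t := by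
      intro t ht
      rw [Subgroup.mem_centralizer_iff] at hcP
      exact hcP t ht
    obtain ⟨x, hx, hxc⟩ := Cfsg.Agent.Lib.Helper28.exists_conj_centralized hM hB g0 c hg3 hc
      P hP hcent
    obtain ⟨c', hc'⟩ := isConj_iff.mp hx
    subst hc'
    obtain ⟨y, hy⟩ := Cfsg.Agent.Lib.Helper28.le_conj_sylow_of_centralizes g0 P0 P hP c' hxc
    refine ⟨y⁻¹, ?_⟩
    rintro _ ⟨t, ht, rfl⟩
    obtain ⟨d, hd, hdt⟩ := hy ht
    have hdt' : y * d * y⁻¹ = t := hdt
    show y⁻¹ * t * y⁻¹⁻¹ ∈ _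
    rw [← hdt']
    have : y⁻¹ * (y * d * y⁻¹) * y⁻¹⁻¹ = d := by group
    rw [this]
    exact hd
  · rintro ⟨x, hx⟩
    refine ⟨g0, hg1, hg2, x⁻¹ * g0 * x, isConj_iff.mpr ⟨x⁻¹, by rw [inv_inv]⟩, ?_⟩
    rw [Subgroup.mem_centralizer_iff]
    intro t ht
    have h1 : x * t * x⁻¹ ∈ (P0 : Subgroup (Subgroup.centralizer ({g0} : Set G))).map
        (Subgroup.centralizer ({g0} : Set G)).subtype := hx ⟨t, ht, rfl⟩
    obtain ⟨d, _, hd⟩ := h1
    have hd2 := d.2
    rw [Subgroup.mem_centralizer_iff] at hd2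
    have h2 : g0 * (x * t * x⁻¹) = (x * t * x⁻¹) * g0 := by
      rw [← hd]
      exact hd2 g0 rfl
    calc t * (x⁻¹ * g0 * x) = x⁻¹ * ((x * t * x⁻¹) * g0) * x := by group
      _ = x⁻¹ * (g0 * (x * t * x⁻¹)) * x := by rw [h2]
      _ = x⁻¹ * g0 * x * t := by group

end Cfsg.Agent.S0959
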