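import Cfsg.Statements.S0926
import Cfsg.Agent.Lib.Helper28.GreenVanG
import Cfsg.Agent.S0959

set_option autoImplicit false
open Cfsg

namespace Cfsg.Agent.S0926

/-- Let B be a block of the finite group G with defect group D (relative to a maximal ideal M of the algebraic integers containing p), let χ ∈ B have height zero, and let x be a p-element. Then some conjugate of x lies in D if and only if χ does not vanish on the whole p-section of x (the elements whose p-part is conjugate to x). -/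
theorem result {G : Type*} [Group G] [Finite G] (p : ℕ) [Fact p.Prime] (M : Ideal Cfsg.AlgInt) (hM : Cfsg.IsPModular p M) (B : Set (Cfsg.IrrCharacter G)) (hB : Cfsg.IsPBlock M B) (D : Subgroup G) (hD : Cfsg.IsDefectGroup p M B D) (χ : Cfsg.IrrCharacter G) (hχ : χ ∈ B) (h0 : Cfsg.blockHeight p B (χ : G → ℂ) = 0) (x : G) (hx : ∃ k : ℕ, orderOf x = p ^ k) : (∃ g : G, g * x * g⁻¹ ∈ D) ↔ ∃ u : G, (∃ z : G, Cfsg.IsPPart p u z ∧ IsConj x z) ∧ (χ : G → ℂ) u ≠ 0 := by
  have : Fintype G := Fintype.ofFinite G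
  have hprime : M.IsPrime := hM.2.1.isPrime
  have hMtop : M ≠ ⊤ := hM.2.1.ne_top
  constructor
  · rintro ⟨g, hg⟩
    have hx' : ∃ k : ℕ, orderOf (g * x * g⁻¹) = p ^ k := by
      obtain ⟨k, hk⟩ := hx
      refine ⟨k, ?_⟩
      rw [← hk]
      exact Cfsg.Agent.Lib.Helper28.orderOf_conj' x g
    obtain ⟨u, hu1, hu2⟩ := Cfsg.Agent.Lib.Helper28.exists_section_ne_zero_of_mem_defectGroup
      hM hB D hD hχ h0 (g * x * g⁻¹) hx' hg
    exact ⟨u, ⟨g * x * g⁻¹, hu1, isConj_iff.mpr ⟨g, rfl⟩⟩, hu2⟩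
  · rintro ⟨u, ⟨z, hz, hxz⟩, hu⟩
    have hBeq : B = Cfsg.blockOf M (χ : G → ℂ) := Cfsg.Agent.Lib.Helper28.block_eq_blockOf hB hχ
    obtain ⟨D', hD', hzD'⟩ : ∃ D' : Subgroup G, Cfsg.IsDefectGroup p M B D' ∧ z ∈ D' := by
      by_contra hcon
      push Not at hcon
      apply hu
      apply Cfsg.Agent.Lib.Helper28.irr_vanish_off_defectGroups hM χ u z hz
      intro E hE
      rw [← hBeq] at hE
      exact hcon E hE
    have hD'p : IsPGroup p D' := by
      apply IsPGroup.of_card (n := Cfsg.blockDefect p B)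
      exact Cfsg.Agent.Lib.Helper28.card_defectGroup hM hB hD'
    obtain ⟨t, ht⟩ := (Cfsg.Agent.S0959.result p M hM B hB D hD D' hD'p).mp (by
      obtain ⟨g', ⟨hg1, hg2, hg3⟩, P', rfl⟩ := hD'
      refine ⟨g', hg1, hg2, g', IsConj.refl g', ?_⟩
      rw [Subgroup.mem_centralizer_iff]
      rintro _ ⟨d, _, rfl⟩
      have := d.2
      rw [Subgroup.mem_centralizer_iff] at this
      exact (this g' rfl).symm)
    obtain ⟨s, hs⟩ := isConj_iff.mp hxz
    refine ⟨t * s, ?_⟩
    have h1 : t * s * x * (t * s)⁻¹ = t * z * t⁻¹ := by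
      rw [← hs]; group
    rw [h1]
    exact ht ⟨z, hzD', rfl⟩

end Cfsg.Agent.S0926
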