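import Cfsg.Statements.S0934
import Cfsg.Agent.Lib.Helper4.BlockPassman

set_option autoImplicit false
open Cfsg

namespace Cfsg.Agent.S0934

/-- Let H be a subgroup of the finite group G and fix a maximal ideal M of the algebraic integers containing the prime p. If the block b of H induces the block B of G and ξ ∈ b, then there is χ ∈ B whose restriction to H has nonzero inner product with ξ. -/
theorem result {G : Type*} [Group G] [Fintype G] (p : ℕ) [Fact p.Prime] (M : Ideal Cfsg.AlgInt) (hM : Cfsg.IsPModular p M) (H : Subgroup G) [Fintype H] (b : Set (Cfsg.IrrCharacter H)) (B : Set (Cfsg.IrrCharacter G)) (hind : Cfsg.IsInducedBlock M H b B) (ξ : Cfsg.IrrCharacter H) (hξ : ξ ∈ b) : ∃ χ ∈ B, Cfsg.classInner (fun h : H => (χ : G → ℂ) h) (ξ : H → ℂ) ≠ 0 := by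
  classical
  open Cfsg.Agent.Lib.Helper4 Cfsg.Agent.Lib.Helper28 Cfsg.Agent.Lib.Helper26 in
  have hMprime : M.IsPrime := hM.2.1.isPrime
  have hMtop : M ≠ ⊤ := Ideal.IsPrime.ne_top hMprime
  have : Fintype (ConjClasses G) := Fintype.ofFinite _
  have : Fintype (IrrCharacter G) := Fintype.ofFinite _
  obtain ⟨hb, hB, hcong⟩ := hind
  obtain ⟨χ0, hχ0⟩ := block_nonempty hB
  by_contra hcon
  push Not at hcon
  set I : G → ℂ := indFun H (ξ : H → ℂ) with hI
  have hIchar : IsCharacter G I := isCharacter_indFun H (isCharacter_of_isIrrCharacter ξ.2)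
  have hIcf : IsClassFunction G I := Cfsg.Agent.Lib.Helper26.isClassFunction_of_isCharacter hIchar
  have hFcf : IsClassFunction G (blockCoeff B) := isClassFunction_blockCoeff B
  have hFloc : ∀ g, MemLocalRing M (blockCoeff B g) := fun g => osima hB g
  have hχ0cf := Cfsg.Agent.Lib.Helper26.isClassFunction_of_isIrrCharacter χ0.2
  -- the central character of the induced character is congruent to that of `χ0` on `e_B`
  have hdiff : MemLocalIdeal M (omegaF I (blockCoeff B) - omegaF (χ0 : G → ℂ) (blockCoeff B)) := by
    rw [omegaF_eq_sum_classes hIcf _ hFcf, omegaF_eq_sum_classes hχ0cf _ hFcf,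
      ← Finset.sum_sub_distrib]
    apply memLocalIdeal_sum
    intro C _
    rw [← mul_sub]
    apply memLocalIdeal_mul_left (hFloc _)
    rw [hI, ← Cfsg.Agent.S0932.result H (ξ : H → ℂ) (isCharacter_of_isIrrCharacter ξ.2)]
    exact hcong ξ hξ χ0 hχ0 _
  rw [omegaF_blockCoeff, if_pos hχ0] at hdiff
  -- but the left side vanishes
  have hzero : omegaF I (blockCoeff B) = 0 := by
    unfold omegaF
    have hexp := classFunction_expansion I hIcf
    have hsum : ∑ g, blockCoeff B g * I g = 0 := by
      have h1 : ∀ g, blockCoeff B g * I g = ∑ χ : IrrCharacter G,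
          classInner I (χ : G → ℂ) * (blockCoeff B g * (χ : G → ℂ) g) := by
        intro g
        have := congrFun hexp g
        simp only [Finset.sum_apply, Pi.smul_apply, smul_eq_mul] at this
        rw [this, Finset.mul_sum]
        refine Finset.sum_congr rfl fun χ _ => by ring
      simp only [h1]
      rw [Finset.sum_comm]
      apply Finset.sum_eq_zero
      intro χ _
      rw [← Finset.mul_sum]
      by_cases hχ : χ ∈ B
      · have h2 : classInner I (χ : G → ℂ) = 0 := by
          rw [hI, classInner_indFun_left' H (ξ : H → ℂ) (χ : G → ℂ)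
            (Cfsg.Agent.Lib.Helper26.isClassFunction_of_isIrrCharacter χ.2),
            ← classInner_conj_symm]
          have := hcon χ hχ
          have h3 : classInner ((χ : G → ℂ) ∘ H.subtype) (ξ : H → ℂ) = 0 := this
          rw [h3, map_zero]
        rw [h2, zero_mul]
      · have h2 := omegaF_blockCoeff B χ
        rw [if_neg hχ] at h2
        unfold omegaF at h2
        have h3 : ∑ g, blockCoeff B g * (χ : G → ℂ) g = 0 := by
          rcases div_eq_zero_iff.mp h2 with h | h
          · exact h
          · exact absurd h (irr_one_ne_zero χ.2)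
        rw [h3, mul_zero]
    rw [hsum, zero_div]
  rw [hzero, zero_sub] at hdiff
  have := memLocalIdeal_neg hdiff
  rw [neg_neg] at this
  exact not_memLocalIdeal_one hMtop this

end Cfsg.Agent.S0934
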