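import Cfsg.Statements.S0935
import Cfsg.Agent.Lib.Helper28.HeightZeroL

set_option autoImplicit false
open Cfsg

namespace Cfsg.Agent.S0935

/-- Let H be a subgroup of the finite group G and χ an irreducible character of G whose restriction to H is irreducible; fix a maximal ideal M of the algebraic integers containing the prime p and suppose χ and its restriction have height zero in their blocks B and b. If e is a block of H whose induced block is defined, then e induces B if and only if e = b. -/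
theorem result {G : Type*} [Group G] [Finite G] (p : ℕ) [Fact p.Prime] (M : Ideal Cfsg.AlgInt) (hM : Cfsg.IsPModular p M) (H : Subgroup G) (χ : Cfsg.IrrCharacter G) (hres : Cfsg.IsIrrCharacter H (fun h : H => (χ : G → ℂ) h)) (hχ0 : Cfsg.blockHeight p (Cfsg.blockOf M (χ : G → ℂ)) (χ : G → ℂ) = 0) (hψ0 : Cfsg.blockHeight p (Cfsg.blockOf M (fun h : H => (χ : G → ℂ) h)) (fun h : H => (χ : G → ℂ) h) = 0) (e : Set (Cfsg.IrrCharacter H)) (he : Cfsg.InducedBlockDefined M H e) : Cfsg.IsInducedBlock M H e (Cfsg.blockOf M (χ : G → ℂ)) ↔ e = Cfsg.blockOf M (fun h : H => (χ : G → ℂ) h) := by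
  classical
  have : Fintype G := Fintype.ofFinite G
  have : Fintype H := Fintype.ofFinite H
  have hprime : M.IsPrime := hM.2.1.isPrime
  have hMtop : M ≠ ⊤ := hM.2.1.ne_top
  have hp : p.Prime := Fact.out
  set ξ : Cfsg.IrrCharacter H := ⟨fun h : H => (χ : G → ℂ) h, hres⟩ with hξdef
  have hB : Cfsg.IsPBlock M (Cfsg.blockOf M (χ : G → ℂ)) := ⟨χ, rfl⟩
  have hb : Cfsg.IsPBlock M (Cfsg.blockOf M (ξ : H → ℂ)) := ⟨ξ, rfl⟩
  have hχB : χ ∈ Cfsg.blockOf M (χ : G → ℂ) := Cfsg.Agent.Lib.Helper28.sameBlock_refl hMtop _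
  have hξb : ξ ∈ Cfsg.blockOf M (ξ : H → ℂ) := Cfsg.Agent.Lib.Helper28.sameBlock_refl hMtop _
  -- the test quantity in terms of the central character
  have hQ : ∀ ψ : Cfsg.IrrCharacter H,
      Cfsg.classInner (fun h : H => if p ∣ orderOf h then (0 : ℂ) else
        ((p ^ (Nat.card H).factorization p : ℕ) : ℂ) * (χ : G → ℂ) h) (ψ : H → ℂ) /
          (ψ : H → ℂ) 1 =
      Cfsg.Agent.Lib.Helper28.omegaF (ψ : H → ℂ)
        (Cfsg.Agent.Lib.Helper28.pregTest p (ξ : H → ℂ)) := by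
    intro ψ
    obtain ⟨k, hk⟩ := Cfsg.Agent.Lib.Helper28.exists_int_classInner_pRegularPart' hp ξ ψ
    have e1 := Cfsg.Agent.Lib.Helper28.omegaF_pregTest_int hp ξ ψ hk
    obtain ⟨hd0, hd1, -⟩ := Cfsg.Agent.Lib.Helper28.irr_degree_nat ψ.2
    have h1' : (ψ : H → ℂ) 1 ≠ 0 := by rw [hd1]; exact_mod_cast hd0
    have h2 := Cfsg.Agent.Lib.Helper28.classInner_scaled_pRegular p
      (((p ^ (Nat.card H).factorization p : ℕ) : ℂ)) (ξ : H → ℂ) (ψ : H → ℂ)
    have h3 : Cfsg.classInner (fun h : H => if p ∣ orderOf h then (0 : ℂ) else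
        ((p ^ (Nat.card H).factorization p : ℕ) : ℂ) * (χ : G → ℂ) h) (ψ : H → ℂ) = (k : ℂ) := by
      rw [← hk]
      exact h2.trans (by rw [Nat.cast_pow])
    rw [h3, ← e1]
    field_simp
  constructor
  · intro hind
    obtain ⟨ψ, hψ⟩ := Cfsg.Agent.Lib.Helper28.block_nonempty hind.1
    have h1 := (Cfsg.Agent.Lib.Helper28.induced_block_test H hM hind χ hψ).2 hχB hχ0
    rw [hQ ψ] at h1
    have hsame : Cfsg.SameBlock M (ξ : H → ℂ) (ψ : H → ℂ) := by
      by_contra hns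
      apply h1
      obtain ⟨hd0, hd1, -⟩ := Cfsg.Agent.Lib.Helper28.irr_degree_nat ψ.2
      have h1' : (ψ : H → ℂ) 1 ≠ 0 := by rw [hd1]; exact_mod_cast hd0
      have e1 := Cfsg.Agent.Lib.Helper28.omegaF_pregTest hp (ξ : H → ℂ) (ψ : H → ℂ) h1'
      rw [Cfsg.Agent.Lib.Helper28.classInner_pRegularPart_eq_zero hM ξ ψ hns, map_zero,
        mul_zero] at e1
      rcases mul_eq_zero.mp e1 with h2 | h2
      · rw [h2]; exact Cfsg.Agent.Lib.Helper28.memLocalIdeal_zero hMtop
      · exact absurd h2 h1'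
    exact Cfsg.Agent.Lib.Helper28.block_eq_of_mem hind.1 hb hψ hsame
  · intro hee
    obtain ⟨B₀, hind⟩ := he
    rw [hee] at hind
    have hu := (Cfsg.Agent.Lib.Helper28.height_zero_iff_unit hM hb hξb).mp hψ0
    rw [← hQ ξ] at hu
    have hχB₀ : χ ∈ B₀ := by
      by_contra hn
      exact hu ((Cfsg.Agent.Lib.Helper28.induced_block_test H hM hind χ hξb).1 hn)
    have hBB : B₀ = Cfsg.blockOf M (χ : G → ℂ) :=
      Cfsg.Agent.Lib.Helper28.block_eq_of_mem hind.2.1 hB hχB₀ hχB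
    rw [hee, ← hBB]
    exact hind

end Cfsg.Agent.S0935
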