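import Cfsg.Statements.S0941
import Cfsg.Agent.Lib.Helper4.BlockQuot
import Cfsg.Agent.S0966

set_option autoImplicit false
open Cfsg

namespace Cfsg.Agent.S0941

/-- Let P be a normal p-subgroup of the finite group G such that the index of C_G(P) is a power of p, and fix a maximal ideal M of the algebraic integers containing p. Then (i) two irreducible characters of G ⧸ P lie in the same block if and only if their inflations to G do, and (ii) every block of G contains the inflation of some irreducible character of G ⧸ P; so inflation induces a bijection between the blocks of G ⧸ P and the blocks of G. -/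
theorem result {G : Type*} [Group G] [Finite G] (p : ℕ) [Fact p.Prime] (M : Ideal Cfsg.AlgInt) (hM : Cfsg.IsPModular p M) (P : Subgroup G) [P.Normal] (hP : IsPGroup p P) (hC : ∃ k : ℕ, (Subgroup.centralizer (P : Set G)).index = p ^ k) : (∀ χ ψ : Cfsg.IrrCharacter (G ⧸ P), Cfsg.SameBlock M (χ : G ⧸ P → ℂ) (ψ : G ⧸ P → ℂ) ↔ Cfsg.SameBlock M ((χ : G ⧸ P → ℂ) ∘ QuotientGroup.mk) ((ψ : G ⧸ P → ℂ) ∘ QuotientGroup.mk)) ∧ ∀ B : Set (Cfsg.IrrCharacter G), Cfsg.IsPBlock M B → ∃ χ : Cfsg.IrrCharacter (G ⧸ P), ∃ θ ∈ B, (θ : G → ℂ) = (χ : G ⧸ P → ℂ) ∘ QuotientGroup.mk := by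
  classical
  open Cfsg.Agent.Lib.Helper4 Cfsg.Agent.Lib.Helper28 in
  have : Fintype G := Fintype.ofFinite G
  have : Fintype P := Fintype.ofFinite P
  have : Fintype (G ⧸ P) := Fintype.ofFinite _
  have hMprime : M.IsPrime := hM.2.1.isPrime
  have hMtop : M ≠ ⊤ := Ideal.IsPrime.ne_top hMprime
  have hCn : (Subgroup.centralizer (P : Set G)).Normal := inferInstance
  refine ⟨fun χ ψ => ⟨fun h => sameBlock_inflate P h, fun h => ?_⟩, fun B hB => ?_⟩
  · apply sameBlock_of_pRegular hM χ ψ
    intro x hx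
    obtain ⟨g, rfl, hg⟩ := exists_pRegular_lift P hP x hx
    have hgc : g ∈ Subgroup.centralizer (P : Set G) :=
      Cfsg.Agent.S0966.mem_of_pRegular p hM.1 _ hC g hg
    rw [← centralChar_inflate_eq P hP g hg hgc, ← centralChar_inflate_eq P hP g hg hgc]
    have := memLocalIdeal_neg (h g)
    rwa [neg_sub] at this
  · obtain ⟨θ, hθ, htriv⟩ := exists_mem_block_trivial_on P hM hP hB
    obtain ⟨ψ, hψ⟩ := exists_deflate_irr P θ htriv
    exact ⟨ψ, θ, hθ, funext fun g => (hψ g).symm⟩

end Cfsg.Agent.S0941
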