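import Mathlib
import Cfsg.Statements.S0945
import Cfsg.Agent.Lib.Helper14.Meta2Aut3

set_option autoImplicit false
open Cfsg

namespace Cfsg.Agent.S0945

/-- Let P be a Sylow 2-subgroup of the finite group G isomorphic to Z/2^m × Z/2^m with m ≥ 1. Then (i) the index of C_G(P) in N_G(P) is 1 or 3, and (ii) if it is not 1, then for every z ≠ 1 in P, C_G(z) ∩ N_G(P) = C_G(P). -/
theorem result {G : Type*} [Group G] [Finite G] (P : Sylow 2 G) (m : ℕ) (hm : 1 ≤ m) (e : (P : Subgroup G) ≃* Multiplicative (ZMod (2 ^ m) × ZMod (2 ^ m))) : ((Subgroup.centralizer (P : Set G)).relIndex (Subgroup.normalizer (P : Set G)) = 1 ∨ (Subgroup.centralizer (P : Set G)).relIndex (Subgroup.normalizer (P : Set G)) = 3) ∧ ((Subgroup.centralizer (P : Set G)).relIndex (Subgroup.normalizer (P : Set G)) ≠ 1 → ∀ z ∈ (P : Subgroup G), z ≠ 1 → Subgroup.centralizer ({z} : Set G) ⊓ Subgroup.normalizer (P : Set G) = Subgroup.centralizer (P : Set G)) := by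
  classical
  haveI : Fact (Nat.Prime 2) := ⟨Nat.prime_two⟩
  haveI : NeZero (2 ^ m) := ⟨by positivity⟩
  set Pg : Subgroup G := (P : Subgroup G) with hPg
  have hP2 : IsPGroup 2 Pg := P.isPGroup'
  have hPc : ∀ x y : Pg, x * y = y * x := by
    intro x y
    apply e.injective
    rw [map_mul, map_mul, mul_comm]
  haveI hPmc : IsMulCommutative Pg := ⟨⟨hPc⟩⟩
  -- two generators
  obtain ⟨r, hr2, hr⟩ : ∃ r : ℕ, r ≤ 2 ∧ (frattini Pg).index = 2 ^ r := by
    let x : Pg := e.symm (Multiplicative.ofAdd ((1 : ZMod (2 ^ m)), (0 : ZMod (2 ^ m))))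
    let y : Pg := e.symm (Multiplicative.ofAdd ((0 : ZMod (2 ^ m)), (1 : ZMod (2 ^ m))))
    have hgen : Subgroup.closure (Set.range (fun i : Fin 2 => if i = 0 then x else y)) = ⊤ := by
      rw [eq_top_iff]
      intro g _
      have hx : x ∈ Subgroup.closure (Set.range (fun i : Fin 2 => if i = 0 then x else y)) :=
        Subgroup.subset_closure ⟨0, by simp⟩
      have hy : y ∈ Subgroup.closure (Set.range (fun i : Fin 2 => if i = 0 then x else y)) :=
        Subgroup.subset_closure ⟨1, by simp⟩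
      have hg : g = x ^ (Multiplicative.toAdd (e g)).1.val * y ^ (Multiplicative.toAdd (e g)).2.val := by
        apply e.injective
        rw [map_mul, map_pow, map_pow]
        simp only [x, y, MulEquiv.apply_symm_apply]
        rw [← ofAdd_nsmul, ← ofAdd_nsmul, ← ofAdd_add]
        apply Multiplicative.toAdd.injective
        simp only [toAdd_ofAdd]
        ext
        · simp
        · simp
      rw [hg]
      exact Subgroup.mul_mem _ (Subgroup.pow_mem _ hx _) (Subgroup.pow_mem _ hy _)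
    have := Cfsg.Agent.Lib.Helper14.exists_index_frattini_le_of_gen hP2 _ hgen
    simpa using this
  set N := Subgroup.normalizer (Pg : Set G) with hN
  set C := Subgroup.centralizer (Pg : Set G) with hC
  set φ : N →* MulAut Pg := Pg.normalizerMonoidHom with hφ
  set A : Subgroup (MulAut Pg) := φ.range with hA
  have hAcard : Nat.card A = C.relIndex N := by
    rw [hA, ← Subgroup.index_ker, hφ, Subgroup.normalizerMonoidHom_ker]
    rfl
  have hPC : Pg ≤ C := Subgroup.le_centralizer Pg
  have hodd : Nat.Coprime (Nat.card A) 2 := by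
    rw [hAcard]
    apply Nat.Coprime.coprime_dvd_left (Subgroup.relIndex_dvd_of_le_left N hPC)
    apply Nat.Coprime.coprime_dvd_left (Subgroup.relIndex_dvd_index_of_le Subgroup.le_normalizer)
    rw [Nat.coprime_comm, Nat.Prime.coprime_iff_not_dvd Nat.prime_two]
    exact P.not_dvd_index
  have hdvd3 : Nat.card A ∣ 3 := by
    have h1 := Cfsg.Agent.Lib.Helper14.card_subgroup_mulAut_dvd_gen A r
    rw [Cfsg.Agent.Lib.Helper14.card_generating_tuples_pgroup hP2 hr] at h1
    obtain ⟨k, hk⟩ := IsPGroup.iff_card.mp (hP2.to_subgroup (frattini Pg))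
    rw [hk, ← pow_mul] at h1
    have h2 := (hodd.pow_right (k * r)).dvd_of_dvd_mul_right h1
    interval_cases r
    · simp at h2
      rw [h2]; norm_num
    · simp at h2
      rw [h2]; norm_num
    · rw [Fin.prod_univ_two] at h2
      norm_num at h2
      have h3 : Nat.card A ∣ 3 * 2 := by simpa using h2
      exact hodd.dvd_of_dvd_mul_right h3
  have hcases : Nat.card A = 1 ∨ Nat.card A = 3 := (Nat.dvd_prime Nat.prime_three).mp hdvd3
  show (C.relIndex N = 1 ∨ C.relIndex N = 3) ∧ (C.relIndex N ≠ 1 → ∀ z ∈ Pg, z ≠ 1 →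
    Subgroup.centralizer ({z} : Set G) ⊓ N = C)
  rw [← hAcard]
  refine ⟨hcases, ?_⟩
  intro hne1 z hz hz1
  have hA3 : Nat.card A = 3 := hcases.resolve_left hne1
  apply le_antisymm
  swap
  · apply le_inf
    · exact Subgroup.centralizer_le (s := ({z} : Set G)) (t := (Pg : Set G))
        (Set.singleton_subset_iff.mpr hz)
    · exact Subgroup.centralizer_le_normalizer (Pg : Set G)
  rintro g ⟨hgz, hgN⟩
  by_contra hgC
  haveI : Fact (Nat.Prime 3) := ⟨Nat.prime_three⟩
  have hact : Cfsg.Agent.Lib.Helper14.actComm A Pg = ⊤ :=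
    Cfsg.Agent.Lib.Helper14.actComm_eq_top_of_card_three hP2 hr hr2 A hA3
  set a : A := ⟨φ ⟨g, hgN⟩, ⟨⟨g, hgN⟩, rfl⟩⟩ with ha
  have ha1 : a ≠ 1 := by
    intro h
    have h1 : φ ⟨g, hgN⟩ = 1 := congrArg Subtype.val h
    have h2 : (⟨g, hgN⟩ : N) ∈ φ.ker := h1
    rw [hφ, Subgroup.normalizerMonoidHom_ker, Subgroup.mem_subgroupOf] at h2
    exact hgC h2
  have hatop : Subgroup.zpowers a = ⊤ := zpowers_eq_top_of_prime_card hA3 ha1
  have hafix : a • (⟨z, hz⟩ : Pg) = ⟨z, hz⟩ := by
    apply Subtype.ext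
    show g * z * g⁻¹ = z
    have := Subgroup.mem_centralizer_singleton_iff.mp hgz
    rw [this, mul_inv_cancel_right]
  have hfix : ∀ b : A, b • (⟨z, hz⟩ : Pg) = ⟨z, hz⟩ := by
    intro b
    have hb : b ∈ MulAction.stabilizer A (⟨z, hz⟩ : Pg) := by
      have h1 : Subgroup.zpowers a ≤ MulAction.stabilizer A (⟨z, hz⟩ : Pg) := by
        rw [Subgroup.zpowers_le]; exact hafix
      rw [hatop] at h1
      exact h1 (Subgroup.mem_top b)
    exact hb
  have := Cfsg.Agent.Lib.Helper14.eq_one_of_fixed_of_actComm_top hPc hP2 hA3 hact hfix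
  exact hz1 (congrArg Subtype.val this)

end Cfsg.Agent.S0945
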