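import Cfsg.Statements.S3208
import Cfsg.Agent.Lib.Helper8.NormalizerGrow
import Mathlib

set_option autoImplicit false
open Cfsg

namespace Cfsg.Agent.S3208

/-- Conjugation by an element of the normalizer as an automorphism of `T`; its underlying action. -/
theorem conj_aut_exists {G : Type*} [Group G] (T : Subgroup G) (x : G)
    (hx : x ∈ Subgroup.normalizer (T : Set G)) :
    ∃ φ : T ≃* T, ∀ t : T, ((φ t : T) : G) = x * (t : G) * x⁻¹ := by
  have hmem : ∀ t : G, t ∈ T → x * t * x⁻¹ ∈ T := by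
    intro t ht
    rw [Subgroup.mem_set_normalizer_iff] at hx
    exact (hx t).mp ht
  have hmem' : ∀ t : G, t ∈ T → x⁻¹ * t * x ∈ T := by
    intro t ht
    rw [Subgroup.mem_set_normalizer_iff] at hx
    have := (hx (x⁻¹ * t * x)).mpr (by
      have e : x * (x⁻¹ * t * x) * x⁻¹ = t := by group
      rw [e]; exact ht)
    exact this
  refine ⟨{ toFun := fun t => ⟨x * (t : G) * x⁻¹, hmem _ t.2⟩
            invFun := fun t => ⟨x⁻¹ * (t : G) * x, hmem' _ t.2⟩
            left_inv := ?_
            right_inv := ?_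
            map_mul' := ?_ }, ?_⟩
  · intro t
    apply Subtype.ext
    simp only []
    group
  · intro t
    apply Subtype.ext
    simp only []
    group
  · intro a b
    apply Subtype.ext
    simp only [Subgroup.coe_mul]
    group
  · intro t
    rfl

/-- Let j be an involution of a finite group G, H a subgroup of G, and T a Sylow 2-subgroup of H ∩ C_G(j) containing j such that ⟨j⟩ is a characteristic subgroup of T. Then T is a Sylow 2-subgroup of H. -/
theorem result {G : Type*} [Group G] [Finite G]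
    (j : G) (hj : orderOf j = 2) (H T : Subgroup G) (hT : T ≤ H ⊓ Subgroup.centralizer ({j} : Set G)) (h2 : IsPGroup 2 ↥T)
    (hSyl : ¬ 2 ∣ T.relIndex (H ⊓ Subgroup.centralizer ({j} : Set G))) (hjT : j ∈ T)
    (hchar : ((Subgroup.zpowers j).subgroupOf T).Characteristic) :
    ¬ 2 ∣ T.relIndex H := by
  intro hdvd
  have : Fact (Nat.Prime 2) := ⟨Nat.prime_two⟩
  have hTH : T ≤ H := hT.trans inf_le_left
  obtain ⟨x, hxH, hxT, hxN, k, hxk⟩ :=
    Cfsg.Agent.Lib.Helper8.exists_normalizing_of_dvd_relIndex (p := 2) T H hTH h2 hdvd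
  obtain ⟨φ, hφ⟩ := conj_aut_exists T x hxN
  -- φ fixes zpowers j
  have hfix := hchar.fixed φ
  have hjmem : (⟨j, hjT⟩ : T) ∈ (Subgroup.zpowers j).subgroupOf T := by
    rw [Subgroup.mem_subgroupOf]
    exact Subgroup.mem_zpowers j
  have hφj : φ ⟨j, hjT⟩ ∈ (Subgroup.zpowers j).subgroupOf T := by
    have : (⟨j, hjT⟩ : T) ∈ ((Subgroup.zpowers j).subgroupOf T).comap φ.toMonoidHom := by
      rw [hfix]; exact hjmem
    exact Subgroup.mem_comap.mp this
  rw [Subgroup.mem_subgroupOf, hφ] at hφj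
  simp only [] at hφj
  -- x j x⁻¹ ∈ zpowers j, j has order 2, so it's 1 or j
  have hconj : x * j * x⁻¹ = j := by
    rw [Subgroup.mem_zpowers_iff] at hφj
    obtain ⟨n, hn⟩ := hφj
    have hj2 : j ^ (2 : ℕ) = 1 := by rw [← hj]; exact pow_orderOf_eq_one j
    have hj1 : j ≠ 1 := by
      intro h
      rw [h, orderOf_one] at hj
      norm_num at hj
    rcases Int.even_or_odd' n with ⟨m, hm | hm⟩
    · exfalso
      rw [hm, zpow_mul, zpow_ofNat, hj2, one_zpow] at hn
      apply hj1
      have : x * j * x⁻¹ = 1 := hn.symm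
      have e : j = x⁻¹ * (x * j * x⁻¹) * x := by group
      rw [e, this]; group
    · rw [hm, zpow_add, zpow_mul, zpow_ofNat, hj2, one_zpow, one_mul, zpow_one] at hn
      exact hn.symm
  have hxC : x ∈ Subgroup.centralizer ({j} : Set G) := by
    rw [Subgroup.mem_centralizer_iff]
    intro y hy
    rw [Set.mem_singleton_iff] at hy
    subst hy
    -- y * x = x * y
    have : x * y = y * x := by
      calc x * y = (x * y * x⁻¹) * x := by group
        _ = y * x := by rw [hconj]
    exact this.symm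
  have hxK : x ∈ H ⊓ Subgroup.centralizer ({j} : Set G) := ⟨hxH, hxC⟩
  -- T' = zpowers x ⊔ T is a 2-group
  have hzx : IsPGroup 2 (Subgroup.zpowers x) := by
    intro y
    obtain ⟨y, hy⟩ := y
    rw [Subgroup.mem_zpowers_iff] at hy
    obtain ⟨n, rfl⟩ := hy
    refine ⟨k, ?_⟩
    apply Subtype.ext
    simp only [Subgroup.coe_pow, Subgroup.coe_one]
    rw [← zpow_natCast, ← zpow_mul, mul_comm, zpow_mul, zpow_natCast, hxk, one_zpow]
  have hzN : Subgroup.zpowers x ≤ Subgroup.normalizer (T : Set G) := by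
    rw [Subgroup.zpowers_le]; exact hxN
  have hsup : IsPGroup 2 (Subgroup.zpowers x ⊔ T : Subgroup G) :=
    IsPGroup.to_sup_of_normal_right' hzx h2 hzN
  have hTle : T ≤ Subgroup.zpowers x ⊔ T := le_sup_right
  have hle : Subgroup.zpowers x ⊔ T ≤ H ⊓ Subgroup.centralizer ({j} : Set G) := by
    apply sup_le _ hT
    rw [Subgroup.zpowers_le]; exact hxK
  have heq := Cfsg.Agent.Lib.Helper8.eq_of_isPGroup_of_not_dvd_relIndex (p := 2) T
    (Subgroup.zpowers x ⊔ T) _ hTle hle hsup hSyl
  apply hxT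
  rw [← heq]
  exact (le_sup_left : Subgroup.zpowers x ≤ _) (Subgroup.mem_zpowers x)

end Cfsg.Agent.S3208
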