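import Cfsg.Statements.S0946
import Cfsg.Agent.S3208
import Cfsg.Agent.Lib.Helper24.KleinClasses
import Mathlib

set_option autoImplicit false
open Cfsg

namespace Cfsg.Agent.S0946

/-- A `p`-element normalizing a Sylow `p`-subgroup lies in it. -/
theorem mem_sylow_of_mem_normalizer {G : Type*} [Group G] {p : ℕ} [Fact p.Prime] (P : Sylow p G)
    (h : G) (hN : h ∈ Subgroup.normalizer ((P : Subgroup G) : Set G)) (k : ℕ) (hk : h ^ (p ^ k) = 1) :
    h ∈ (P : Subgroup G) := by
  have hz : IsPGroup p (Subgroup.zpowers h) := by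
    rintro ⟨y, hy⟩
    rw [Subgroup.mem_zpowers_iff] at hy
    obtain ⟨n, rfl⟩ := hy
    refine ⟨k, ?_⟩
    apply Subtype.ext
    simp only [Subgroup.coe_pow, Subgroup.coe_one]
    rw [← zpow_natCast, ← zpow_mul, mul_comm, zpow_mul, zpow_natCast, hk, one_zpow]
  have hzN : Subgroup.zpowers h ≤ Subgroup.normalizer ((P : Subgroup G) : Set G) := by
    rw [Subgroup.zpowers_le]; exact hN
  have hsup : IsPGroup p (Subgroup.zpowers h ⊔ (P : Subgroup G) : Subgroup G) :=
    IsPGroup.to_sup_of_normal_right' hz P.isPGroup' hzN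
  have heq := P.is_maximal' hsup le_sup_right
  have : h ∈ Subgroup.zpowers h ⊔ (P : Subgroup G) :=
    (le_sup_left : Subgroup.zpowers h ≤ _) (Subgroup.mem_zpowers h)
  rwa [heq] at this

/-- An element of odd order normalizing an abelian 2-subgroup and centralizing its involutions
centralizes it. -/
theorem centralizes_of_centralizes_involutions {G : Type*} [Group G] (P : Subgroup G)
    (hP : IsPGroup 2 P) (hab : ∀ x ∈ P, ∀ y ∈ P, x * y = y * x) (c : G)
    (hc : c ∈ Subgroup.normalizer (P : Set G)) (k : ℕ) (hk : Odd k) (hck : c ^ k = 1)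
    (hinv : ∀ x ∈ P, x ^ 2 = 1 → c * x * c⁻¹ = x) : ∀ x ∈ P, c * x * c⁻¹ = x := by
  have key : ∀ j : ℕ, ∀ x ∈ P, x ^ (2 ^ j) = 1 → c * x * c⁻¹ = x := by
    intro j
    induction j with
    | zero =>
      intro x _ hx
      rw [pow_zero, pow_one] at hx
      rw [hx]; group
    | succ j ih =>
      intro x hxP hx
      have hy : c * (x ^ 2) * c⁻¹ = x ^ 2 := by
        apply ih _ (pow_mem hxP 2)
        rw [← pow_mul, ← pow_succ']; exact hx
      have hcx : c * x * c⁻¹ ∈ P := (Subgroup.mem_normalizer_iff.mp hc x).mp hxP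
      set w : G := c * x * c⁻¹ * x⁻¹ with hw
      have hwP : w ∈ P := mul_mem hcx (inv_mem hxP)
      have hw2 : w ^ 2 = 1 := by
        have h1 : w ^ 2 = (c * x * c⁻¹) ^ 2 * (x⁻¹) ^ 2 := by
          rw [hw, pow_two, pow_two, pow_two]
          have := hab _ hcx _ (inv_mem hxP)
          calc c * x * c⁻¹ * x⁻¹ * (c * x * c⁻¹ * x⁻¹)
              = c * x * c⁻¹ * (x⁻¹ * (c * x * c⁻¹)) * x⁻¹ := by group
            _ = c * x * c⁻¹ * ((c * x * c⁻¹) * x⁻¹) * x⁻¹ := by rw [this]
            _ = c * x * c⁻¹ * (c * x * c⁻¹) * (x⁻¹ * x⁻¹) := by group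
        rw [h1, conj_pow, hy, inv_pow, mul_inv_cancel]
      have hwfix : c * w * c⁻¹ = w := hinv w hwP hw2
      have hcx' : c * x * c⁻¹ = w * x := by rw [hw]; group
      have hiter : ∀ i : ℕ, c ^ i * x * (c ^ i)⁻¹ = w ^ i * x := by
        intro i
        induction i with
        | zero => simp
        | succ i ihi =>
          have e1 : c ^ (i + 1) * x * (c ^ (i + 1))⁻¹ = c * (c ^ i * x * (c ^ i)⁻¹) * c⁻¹ := by
            rw [pow_succ']; group
          rw [e1, ihi]
          have e2 : c * (w ^ i * x) * c⁻¹ = (c * w * c⁻¹) ^ i * (c * x * c⁻¹) := by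
            rw [conj_pow]; group
          rw [e2, hwfix, hcx', pow_succ]; group
      have h3 := hiter k
      rw [hck] at h3
      have hwk : w ^ k = 1 := by
        have : x = w ^ k * x := by simpa using h3
        have h4 : w ^ k * x = 1 * x := by rw [one_mul]; exact this.symm
        exact mul_right_cancel h4
      obtain ⟨i, hi⟩ := hk
      have hw1 : w = 1 := by
        rw [hi, pow_succ, pow_mul, hw2, one_pow, one_mul] at hwk
        exact hwk
      rw [hcx', hw1, one_mul]
  intro x hxP
  obtain ⟨j, hj⟩ := hP ⟨x, hxP⟩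
  apply key j x hxP
  have := congrArg Subtype.val hj
  simpa using this

/-- `Z/2^m × Z/2^m` has at most four elements of order dividing two. -/
theorem card_sq_eq_one_le {P : Type*} [Group P] [Fintype P] [DecidableEq P] (m : ℕ)
    (e : P ≃* Multiplicative (ZMod (2 ^ m) × ZMod (2 ^ m))) :
    (Finset.univ.filter fun x : P => x ^ 2 = 1).card ≤ 4 := by
  classical
  have : NeZero (2 ^ m) := ⟨by positivity⟩
  set A : Finset (ZMod (2 ^ m)) := Finset.univ.filter fun a : ZMod (2 ^ m) => 2 • a = 0 with hA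
  have hAcard : A.card ≤ 2 := IsAddCyclic.card_nsmul_eq_zero_le (α := ZMod (2 ^ m)) (by norm_num)
  set f : P → ZMod (2 ^ m) × ZMod (2 ^ m) := fun x => Multiplicative.toAdd (e x) with hf
  have hfinj : Function.Injective f := by
    intro x y hxy
    apply e.injective
    exact Multiplicative.toAdd.injective hxy
  have hsub : (Finset.univ.filter fun x : P => x ^ 2 = 1).image f ⊆ A ×ˢ A := by
    intro y hy
    rw [Finset.mem_image] at hy
    obtain ⟨x, hx, rfl⟩ := hy
    rw [Finset.mem_filter] at hx
    have h1 : e x ^ 2 = 1 := by rw [← map_pow, hx.2, map_one]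
    have h2 : (2 : ℕ) • Multiplicative.toAdd (e x) = 0 := by
      have := congrArg Multiplicative.toAdd h1
      simpa using this
    rw [Finset.mem_product, hA, Finset.mem_filter, Finset.mem_filter]
    refine ⟨⟨Finset.mem_univ _, ?_⟩, ⟨Finset.mem_univ _, ?_⟩⟩
    · have := congrArg Prod.fst h2
      simpa [hf] using this
    · have := congrArg Prod.snd h2
      simpa [hf] using this
  calc (Finset.univ.filter fun x : P => x ^ 2 = 1).card
      = ((Finset.univ.filter fun x : P => x ^ 2 = 1).image f).card :=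
        (Finset.card_image_of_injective _ hfinj).symm
    _ ≤ (A ×ˢ A).card := Finset.card_le_card hsub
    _ = A.card * A.card := Finset.card_product _ _
    _ ≤ 2 * 2 := Nat.mul_le_mul hAcard hAcard

theorem result {G : Type*} [Group G] [Finite G] (P : Sylow 2 G) (m : ℕ) (hm : 1 ≤ m) (e : (P : Subgroup G) ≃* Multiplicative (ZMod (2 ^ m) × ZMod (2 ^ m))) : (∃ N : Subgroup G, N.Normal ∧ Subgroup.IsComplement' N (P : Subgroup G)) ∨ ∀ s t : G, orderOf s = 2 → orderOf t = 2 → IsConj s t := by
  classical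
  have : Fact (Nat.Prime 2) := ⟨Nat.prime_two⟩
  -- P is abelian
  have hab' : ∀ x y : (P : Subgroup G), x * y = y * x := by
    intro x y
    apply e.injective
    rw [map_mul, map_mul, mul_comm]
  have hab : ∀ x ∈ (P : Subgroup G), ∀ y ∈ (P : Subgroup G), x * y = y * x := by
    intro x hx y hy
    exact congrArg Subtype.val (hab' ⟨x, hx⟩ ⟨y, hy⟩)
  by_cases hNC : Subgroup.normalizer ((P : Subgroup G) : Set G) ≤
      Subgroup.centralizer ((P : Subgroup G) : Set G)
  · left
    exact ⟨(MonoidHom.transferSylow P hNC).ker, inferInstance,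
      MonoidHom.ker_transferSylow_isComplement' P hNC⟩
  right
  obtain ⟨g, hgN, hgC⟩ := SetLike.not_le_iff_exists.mp hNC
  -- Step A: odd order element
  obtain ⟨g₂, hg₂N, hg₂C, k, hkodd, hg₂k⟩ : ∃ g₂ ∈ Subgroup.normalizer ((P : Subgroup G) : Set G),
      g₂ ∉ Subgroup.centralizer ((P : Subgroup G) : Set G) ∧ ∃ k : ℕ, Odd k ∧ g₂ ^ k = 1 := by
    have hpos : orderOf g ≠ 0 := (orderOf_pos g).ne'
    obtain ⟨a, k, hkodd, hak⟩ := Nat.exists_eq_two_pow_mul_odd hpos
    set g₁ : G := g ^ k with hg₁
    set g₂ : G := g ^ (2 ^ a) with hg₂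
    have hg₁P : g₁ ∈ (P : Subgroup G) := by
      apply mem_sylow_of_mem_normalizer P g₁ (pow_mem hgN k) a
      rw [hg₁, ← pow_mul, mul_comm, ← hak]; exact pow_orderOf_eq_one g
    have hg₁C : g₁ ∈ Subgroup.centralizer ((P : Subgroup G) : Set G) := by
      rw [Subgroup.mem_centralizer_iff]
      intro y hy
      exact hab y hy g₁ hg₁P
    have hg₂k : g₂ ^ k = 1 := by
      rw [hg₂, ← pow_mul, ← hak]; exact pow_orderOf_eq_one g
    refine ⟨g₂, pow_mem hgN _, ?_, k, hkodd, hg₂k⟩
    intro hg₂C
    apply hgC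
    -- g = g₂^u * g₁^v
    have hcop : Nat.Coprime (2 ^ a) k := by
      apply Nat.Coprime.pow_left
      rw [Nat.coprime_two_left]; exact hkodd
    have hbez := Nat.gcd_eq_gcd_ab (2 ^ a) k
    rw [hcop] at hbez
    have : g = g₂ ^ (Nat.gcdA (2 ^ a) k) * g₁ ^ (Nat.gcdB (2 ^ a) k) := by
      rw [hg₂, hg₁, ← zpow_natCast, ← zpow_natCast, ← zpow_mul, ← zpow_mul, ← zpow_add]
      have h1 : ((2 ^ a : ℕ) : ℤ) * Nat.gcdA (2 ^ a) k + (k : ℤ) * Nat.gcdB (2 ^ a) k = 1 := by
        rw [← hbez]; simp
      rw [h1, zpow_one]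
    rw [this]
    exact mul_mem (zpow_mem hg₂C _) (zpow_mem hg₁C _)
  -- Step B: some involution of P not centralized
  obtain ⟨t, htP, ht2, htne⟩ : ∃ t ∈ (P : Subgroup G), t ^ 2 = 1 ∧ g₂ * t * g₂⁻¹ ≠ t := by
    by_contra hno
    apply hg₂C
    have hinv : ∀ x ∈ (P : Subgroup G), x ^ 2 = 1 → g₂ * x * g₂⁻¹ = x := by
      intro x hx hx2
      by_contra hne
      exact hno ⟨x, hx, hx2, hne⟩
    have hall := centralizes_of_centralizes_involutions (P : Subgroup G) P.isPGroup' hab g₂ hg₂N k
      hkodd hg₂k hinv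
    rw [Subgroup.mem_centralizer_iff]
    intro y hy
    have := hall y hy
    calc y * g₂ = (g₂ * y * g₂⁻¹)⁻¹⁻¹ * g₂ := by rw [this, inv_inv]
      _ = g₂ * y := by group
  -- Step C/D: the involutions of P
  obtain ⟨φ, hφ⟩ := Cfsg.Agent.S3208.conj_aut_exists (P : Subgroup G) g₂ hg₂N
  have : Fintype (P : Subgroup G) := Fintype.ofFinite _
  set t' : (P : Subgroup G) := ⟨t, htP⟩ with ht'
  have ht'2 : t' ^ 2 = 1 := by
    apply Subtype.ext
    simpa using ht2
  have hφt : φ t' ≠ t' := by
    intro h
    apply htne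
    have := congrArg Subtype.val h
    rw [hφ] at this
    exact this
  have ht'1 : t' ≠ 1 := by
    intro h
    apply hφt
    rw [h, map_one]
  have hiter : ∀ i : ℕ, ((φ^[i] t' : (P : Subgroup G)) : G) = g₂ ^ i * t * (g₂ ^ i)⁻¹ := by
    intro i
    induction i with
    | zero => simp [ht']
    | succ i ih =>
      rw [Function.iterate_succ_apply', hφ, ih, pow_succ']
      group
  have hφk : φ^[k] t' = t' := by
    apply Subtype.ext
    rw [hiter, hg₂k]
    simp [ht']
  have hφφt : φ (φ t') ≠ t' := by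
    intro h
    have hodd : ∀ i : ℕ, φ^[2 * i + 1] t' = φ t' := by
      intro i
      induction i with
      | zero => simp
      | succ i ih =>
        have e1 : 2 * (i + 1) + 1 = (2 * i + 1) + 2 := by ring
        rw [e1, Function.iterate_add_apply]
        have e2 : φ^[2] t' = t' := by
          simp only [Function.iterate_succ, Function.iterate_zero, Function.comp_apply, id_eq]
          exact h
        rw [e2, ih]
    obtain ⟨i, hi⟩ := hkodd
    rw [hi, hodd i] at hφk
    exact hφt hφk
  have hX := card_sq_eq_one_le m e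
  have hsub : ({1, t', φ t', φ (φ t')} : Finset (P : Subgroup G)) ⊆
      Finset.univ.filter fun x : (P : Subgroup G) => x ^ 2 = 1 := by
    intro x hx
    simp only [Finset.mem_insert, Finset.mem_singleton] at hx
    rw [Finset.mem_filter]
    refine ⟨Finset.mem_univ _, ?_⟩
    rcases hx with rfl | rfl | rfl | rfl
    · exact one_pow 2
    · exact ht'2
    · rw [← map_pow, ht'2, map_one]
    · rw [← map_pow, ← map_pow, ht'2, map_one, map_one]
  have hcard4 : ({1, t', φ t', φ (φ t')} : Finset (P : Subgroup G)).card = 4 := by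
    rw [Finset.card_insert_of_notMem, Finset.card_insert_of_notMem, Finset.card_insert_of_notMem,
      Finset.card_singleton]
    · rw [Finset.mem_singleton]
      intro h
      exact hφt (φ.injective h).symm
    · simp only [Finset.mem_insert, Finset.mem_singleton, not_or]
      exact ⟨fun h => hφt h.symm, fun h => hφφt h.symm⟩
    · simp only [Finset.mem_insert, Finset.mem_singleton, not_or]
      refine ⟨fun h => ht'1 h.symm, fun h => ?_, fun h => ?_⟩
      · apply ht'1
        apply φ.injective
        rw [map_one]; exact h.symm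
      · apply ht'1
        apply φ.injective
        apply φ.injective
        rw [map_one, map_one]; exact h.symm
  have hXeq := Finset.eq_of_subset_of_card_le hsub (by rw [hcard4]; exact hX)
  -- every involution of P is conjugate to t
  have hconjP : ∀ x ∈ (P : Subgroup G), x ^ 2 = 1 → x ≠ 1 → IsConj t x := by
    intro x hxP hx2 hx1
    have hxX : (⟨x, hxP⟩ : (P : Subgroup G)) ∈
        Finset.univ.filter fun x : (P : Subgroup G) => x ^ 2 = 1 := by
      rw [Finset.mem_filter]
      refine ⟨Finset.mem_univ _, ?_⟩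
      apply Subtype.ext
      simpa using hx2
    rw [← hXeq] at hxX
    simp only [Finset.mem_insert, Finset.mem_singleton] at hxX
    rw [isConj_iff]
    rcases hxX with h | h | h | h
    · exfalso
      apply hx1
      have := congrArg Subtype.val h
      simpa using this
    · refine ⟨1, ?_⟩
      have := congrArg Subtype.val h
      simp only [ht'] at this
      rw [← this]; group
    · refine ⟨g₂, ?_⟩
      have := congrArg Subtype.val h
      rw [hφ] at this
      simp only [ht'] at this
      exact this.symm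
    · refine ⟨g₂ * g₂, ?_⟩
      have := congrArg Subtype.val h
      rw [hφ, hφ] at this
      simp only [ht'] at this
      rw [this]; group
  -- Step E
  have hconj_t : ∀ s : G, orderOf s = 2 → IsConj t s := by
    intro s hs
    obtain ⟨h, hh⟩ := Cfsg.Agent.Lib.Helper24.exists_conj_mem_sylow_of_involution P s hs
    have hs2 : s ^ 2 = 1 := by rw [← hs]; exact pow_orderOf_eq_one s
    have hs1 : s ≠ 1 := by
      intro h1
      rw [h1, orderOf_one] at hs
      norm_num at hs
    have h2 : (h⁻¹ * s * h) ^ 2 = 1 := by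
      have : h⁻¹ * s * h = h⁻¹ * s * h⁻¹⁻¹ := by rw [inv_inv]
      rw [this, conj_pow, hs2]; group
    have h1 : h⁻¹ * s * h ≠ 1 := by
      intro h1
      apply hs1
      have : s = h * (h⁻¹ * s * h) * h⁻¹ := by group
      rw [this, h1]; group
    have hc := hconjP _ hh h2 h1
    refine hc.trans ?_
    rw [isConj_iff]
    exact ⟨h, by group⟩
  intro s t₀ hs ht₀
  exact (hconj_t s hs).symm.trans (hconj_t t₀ ht₀)

end Cfsg.Agent.S0946
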