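import Cfsg.Statements.S0947
import Cfsg.Agent.Lib.Helper28.SectionD

set_option autoImplicit false
open Cfsg

namespace Cfsg.Agent.S0947

open scoped Classical in
theorem finsum_mem_norm_sq_cast {ι : Type*} [Fintype ι] (B : Set ι) (f : ι → ℂ) :
    ((∑ᶠ i ∈ B, ‖f i‖ ^ 2 : ℝ) : ℂ) =
      ∑ i, if i ∈ B then f i * (starRingEnd ℂ) (f i) else 0 := by
  rw [finsum_mem_def, finsum_eq_sum_of_fintype, Complex.ofReal_sum]
  refine Finset.sum_congr rfl fun i _ => ?_
  rw [Set.indicator_apply]
  split_ifs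
  · rw [Complex.mul_conj, Complex.normSq_eq_norm_sq]
  · rfl

/-- Let z ≠ 1 be a p-element of the finite group G with centralizer H, and fix a maximal ideal M of the algebraic integers containing p. (i) For every y ∈ H of order prime to p, the sum over ζ in the principal block of G of |ζ (z * y)|² equals the sum over χ in the principal block of H of |χ y|². (ii) If moreover H has a normal p-complement (its largest normal subgroup of order prime to p has p-power index), that common value is the largest power of p dividing the order of H. -/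
theorem result {G : Type*} [Group G] [Finite G] (p : ℕ) [Fact p.Prime] (M : Ideal Cfsg.AlgInt) (hM : Cfsg.IsPModular p M) (z : G) (hz : ∃ k : ℕ, orderOf z = p ^ k) (hz1 : z ≠ 1) (y : Subgroup.centralizer ({z} : Set G)) (hy : ¬ p ∣ orderOf y) : (∑ᶠ ζ ∈ Cfsg.principalBlock M G, ‖(ζ : G → ℂ) (z * (y : G))‖ ^ 2 = ∑ᶠ χ ∈ Cfsg.principalBlock M (Subgroup.centralizer ({z} : Set G)), ‖(χ : Subgroup.centralizer ({z} : Set G) → ℂ) y‖ ^ 2) ∧ ((∃ k : ℕ, (Cfsg.pPrimeCore p (Subgroup.centralizer ({z} : Set G))).index = p ^ k) → ∑ᶠ ζ ∈ Cfsg.principalBlock M G, ‖(ζ : G → ℂ) (z * (y : G))‖ ^ 2 = ((p ^ (Nat.card (Subgroup.centralizer ({z} : Set G))).factorization p : ℕ) : ℝ)) := by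
  classical
  have hp : p.Prime := Fact.out
  have : Fintype G := Fintype.ofFinite G
  have : Fintype (Subgroup.centralizer ({z} : Set G)) := Fintype.ofFinite _
  have : Fintype (IrrCharacter G) := Fintype.ofFinite _
  have : Fintype (IrrCharacter (Subgroup.centralizer ({z} : Set G))) := Fintype.ofFinite _
  have hmain := Cfsg.Agent.Lib.Helper28.principal_section_norm hM z hz y hy
  have hi : ∑ᶠ ζ ∈ Cfsg.principalBlock M G, ‖(ζ : G → ℂ) (z * (y : G))‖ ^ 2 =
      ∑ᶠ χ ∈ Cfsg.principalBlock M (Subgroup.centralizer ({z} : Set G)),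
        ‖(χ : Subgroup.centralizer ({z} : Set G) → ℂ) y‖ ^ 2 := by
    apply Complex.ofReal_injective
    rw [finsum_mem_norm_sq_cast, finsum_mem_norm_sq_cast]
    exact hmain
  refine ⟨hi, ?_⟩
  intro hnc
  rw [hi]
  have hNn : (pPrimeCore p (Subgroup.centralizer ({z} : Set G))).Normal :=
    Cfsg.Agent.Lib.Helper9.pPrimeCore_normal p _
  have hyN : y ∈ pPrimeCore p (Subgroup.centralizer ({z} : Set G)) :=
    Cfsg.Agent.Lib.Helper28.mem_of_pRegular_of_index_pow hp _ hnc y hy
  have hb0 := Cfsg.Agent.S0939.result (G := Subgroup.centralizer ({z} : Set G)) p M hM hnc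
  apply Complex.ofReal_injective
  rw [finsum_mem_norm_sq_cast]
  have hsum := Cfsg.Agent.Lib.Helper4.sum_sq_degree_ker
    (pPrimeCore p (Subgroup.centralizer ({z} : Set G)))
  rw [Finset.sum_filter] at hsum
  obtain ⟨k, hk⟩ := hnc
  have hfac : (Nat.card (Subgroup.centralizer ({z} : Set G))).factorization p = k := by
    rw [← Subgroup.card_mul_index (pPrimeCore p (Subgroup.centralizer ({z} : Set G))), hk]
    have hcop := Cfsg.Agent.Lib.Helper20.pPrimeCore_coprime'
      (G := Subgroup.centralizer ({z} : Set G)) p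
    have hnd : ¬ p ∣ Nat.card (pPrimeCore p (Subgroup.centralizer ({z} : Set G))) :=
      (Nat.Prime.coprime_iff_not_dvd hp).mp hcop.symm
    rw [Nat.factorization_mul Nat.card_pos.ne' (pow_pos hp.pos k).ne', Finsupp.add_apply,
      Nat.factorization_eq_zero_of_not_dvd hnd, zero_add, Nat.Prime.factorization_pow hp]
    simp
  rw [hfac, ← hk]
  refine Eq.trans ?_ (hsum.trans ?_)
  · refine Finset.sum_congr rfl fun χ _ => ?_
    have hiff : χ ∈ Cfsg.principalBlock M (Subgroup.centralizer ({z} : Set G)) ↔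
        ∀ n ∈ pPrimeCore p (Subgroup.centralizer ({z} : Set G)),
          (χ : Subgroup.centralizer ({z} : Set G) → ℂ) n =
            (χ : Subgroup.centralizer ({z} : Set G) → ℂ) 1 := by
      rw [hb0]; rfl
    by_cases h : χ ∈ Cfsg.principalBlock M (Subgroup.centralizer ({z} : Set G))
    · rw [if_pos h, if_pos (hiff.mp h), hiff.mp h y hyN]
      obtain ⟨-, hd, -⟩ := Cfsg.Agent.Lib.Helper28.irr_degree_nat χ.2
      rw [hd, Complex.conj_natCast, sq]
    · rw [if_neg h, if_neg (fun h' => h (hiff.mpr h'))]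
  · push_cast
    rfl

end Cfsg.Agent.S0947
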