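import Cfsg.Statements.S0952
import Cfsg.Agent.Lib.Helper28.BlockOrthPReg

set_option autoImplicit false
open Cfsg

namespace Cfsg.Agent.S0952

open scoped ComplexConjugate

open Cfsg.Agent.Lib.Helper28 in
theorem result {G : Type*} [Group G] [Finite G] (p : ℕ) [Fact p.Prime] (M : Ideal Cfsg.AlgInt) (hM : Cfsg.IsPModular p M) (χ ψ : Cfsg.IrrCharacter G) (h : ¬ Cfsg.SameBlock M (χ : G → ℂ) (ψ : G → ℂ)) : ∑ᶠ x ∈ {x : G | ¬ p ∣ orderOf x}, (χ : G → ℂ) x * conj ((ψ : G → ℂ) x) = 0 := by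
  classical
  have : Fintype G := Fintype.ofFinite G
  have h1 := preg_orthogonality hM χ ψ h
  rw [finsum_mem_def, finsum_eq_sum_of_fintype, ← h1]
  refine Finset.sum_congr rfl fun x _ => ?_
  rw [Set.indicator_apply]
  by_cases hx : p ∣ orderOf x
  · rw [if_pos hx, if_neg]
    simpa using hx
  · rw [if_neg hx, if_pos]
    exact hx

end Cfsg.Agent.S0952
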