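import Cfsg.Statements.S0953
import Cfsg.Agent.Lib.Helper28.SylowDefectCount

set_option autoImplicit false
open Cfsg

namespace Cfsg.Agent.S0953

/-- Let P be a Sylow p-subgroup of the finite group G with normalizer N, and fix a maximal ideal M of the algebraic integers containing p. The number of blocks of G having P as a defect group equals the number of conjugacy classes of N consisting of elements of order prime to p that centralize P. -/
theorem result {G : Type*} [Group G] [Finite G] (p : ℕ) [Fact p.Prime] (M : Ideal Cfsg.AlgInt) (hM : Cfsg.IsPModular p M) (P : Sylow p G) : Nat.card {B : Set (Cfsg.IrrCharacter G) // Cfsg.IsPBlock M B ∧ Cfsg.IsDefectGroup p M B (P : Subgroup G)} = Nat.card {C : ConjClasses (Subgroup.normalizer ((P : Subgroup G) : Set G)) // ∀ n : Subgroup.normalizer ((P : Subgroup G) : Set G), ConjClasses.mk n = C → ¬ p ∣ orderOf n ∧ (n : G) ∈ Subgroup.centralizer ((P : Subgroup G) : Set G)} := by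
  classical
  have : Fintype G := Fintype.ofFinite G
  have : Fintype (Subgroup.normalizer ((P : Subgroup G) : Set G)) := Fintype.ofFinite _
  rw [Cfsg.Agent.Lib.Helper28.card_blocks_defectGroup_eq_normalizer hM (P : Subgroup G)
    P.isPGroup']
  let S : Sylow p (Subgroup.normalizer ((P : Subgroup G) : Set G)) :=
    P.subtype Subgroup.le_normalizer
  have hS : (S : Subgroup (Subgroup.normalizer ((P : Subgroup G) : Set G))) =
      (P : Subgroup G).subgroupOf (Subgroup.normalizer ((P : Subgroup G) : Set G)) :=
    Sylow.coe_subtype P Subgroup.le_normalizer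
  have hSn : (S : Subgroup (Subgroup.normalizer ((P : Subgroup G) : Set G))).Normal := by
    rw [hS]
    exact Subgroup.normal_in_normalizer
  have hmain := Cfsg.Agent.Lib.Helper28.card_blocks_normal_sylow hM S
  rw [hS] at hmain
  rw [hmain]
  apply Nat.card_congr
  apply Equiv.subtypeEquivRight
  intro C
  apply forall_congr'
  intro n
  apply imp_congr_right
  intro _
  apply and_congr_right
  intro _
  rw [Subgroup.mem_centralizer_iff, Subgroup.mem_centralizer_iff]
  constructor
  · intro h x hx
    have hx' : (⟨x, Subgroup.le_normalizer hx⟩ :
        Subgroup.normalizer ((P : Subgroup G) : Set G)) ∈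
        ((P : Subgroup G).subgroupOf (Subgroup.normalizer ((P : Subgroup G) : Set G)) :
          Set (Subgroup.normalizer ((P : Subgroup G) : Set G))) := by
      show _ ∈ (P : Subgroup G).subgroupOf _
      rw [Subgroup.mem_subgroupOf]
      exact hx
    have := h _ hx'
    exact congrArg Subtype.val this
  · intro h u hu
    have hu' : (u : G) ∈ ((P : Subgroup G) : Set G) := by
      have : u ∈ (P : Subgroup G).subgroupOf _ := hu
      rw [Subgroup.mem_subgroupOf] at this
      exact this
    apply Subtype.ext
    exact h (u : G) hu'

end Cfsg.Agent.S0953
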