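import Cfsg.Statements.S0957
import Cfsg.Agent.Lib.Helper9.ClassSize
import Cfsg.Agent.Lib.Helper9.OrbitCount
import Mathlib

set_option autoImplicit false
open Cfsg

namespace Cfsg.Agent.S0957

variable {G : Type*} [Group G]

/-- The set of pairs. -/
abbrev Pairs (P : Subgroup G) (g h : G) : Type _ :=
  {yz : G × G // IsConj g yz.1 ∧ IsConj h yz.2 ∧ yz.2 * yz.1⁻¹ ∈ P}

/-- `P` acts on the pairs by simultaneous conjugation. -/
def pairsAction (P : Subgroup G) (g h : G) : MulAction P (Pairs P g h) where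
  smul u a := ⟨((u : G) * a.1.1 * (u : G)⁻¹, (u : G) * a.1.2 * (u : G)⁻¹),
    ⟨a.2.1.trans (isConj_iff.mpr ⟨u, rfl⟩), a.2.2.1.trans (isConj_iff.mpr ⟨u, rfl⟩), by
      have h1 := a.2.2.2
      have e : (u : G) * a.1.2 * (u : G)⁻¹ * ((u : G) * a.1.1 * (u : G)⁻¹)⁻¹ =
          (u : G) * (a.1.2 * a.1.1⁻¹) * (u : G)⁻¹ := by group
      show (u : G) * a.1.2 * (u : G)⁻¹ * ((u : G) * a.1.1 * (u : G)⁻¹)⁻¹ ∈ P
      rw [e]
      exact P.mul_mem (P.mul_mem u.2 h1) (P.inv_mem u.2)⟩⟩
  one_smul a := by
    apply Subtype.ext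
    show (((1 : P) : G) * a.1.1 * ((1 : P) : G)⁻¹, ((1 : P) : G) * a.1.2 * ((1 : P) : G)⁻¹) = a.1
    simp
  mul_smul u v a := by
    apply Subtype.ext
    show (((u * v : P) : G) * a.1.1 * ((u * v : P) : G)⁻¹, ((u * v : P) : G) * a.1.2 * ((u * v : P) : G)⁻¹) =
      ((u : G) * ((v : G) * a.1.1 * (v : G)⁻¹) * (u : G)⁻¹, (u : G) * ((v : G) * a.1.2 * (v : G)⁻¹) * (u : G)⁻¹)
    simp [mul_assoc]

theorem card_centralizer_conj [Finite G] {g y : G} (h : IsConj g y) :
    Nat.card (Subgroup.centralizer ({y} : Set G)) = Nat.card (Subgroup.centralizer ({g} : Set G)) := by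
  have h1 := Cfsg.Agent.Lib.Helper9.card_carrier_mul_card_centralizer y
  have h2 := Cfsg.Agent.Lib.Helper9.card_carrier_mul_card_centralizer g
  have h3 : ConjClasses.mk y = ConjClasses.mk g := (ConjClasses.mk_eq_mk_iff_isConj.mpr h).symm
  rw [h3, ← h2] at h1
  have hpos : 0 < Nat.card (ConjClasses.mk g).carrier := by
    have : Nonempty (ConjClasses.mk g).carrier := ⟨⟨g, ConjClasses.mem_carrier_mk⟩⟩
    exact Nat.card_pos
  exact Nat.eq_of_mul_eq_mul_left hpos h1

theorem result {G : Type*} [Group G] [Finite G] (p : ℕ) [Fact p.Prime] (P : Sylow p G) (g h : G) (S : Sylow p (Subgroup.centralizer ({g} : Set G))) : Nat.card P / Nat.card S ∣ Nat.card {yz : G × G // IsConj g yz.1 ∧ IsConj h yz.2 ∧ yz.2 * yz.1⁻¹ ∈ (P : Subgroup G)} := by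
  classical
  have hp : p.Prime := Fact.out
  letI := pairsAction (P : Subgroup G) g h
  show Nat.card P / Nat.card S ∣ Nat.card (Pairs (P : Subgroup G) g h)
  set m := Nat.card P / Nat.card S with hm
  have hScard : Nat.card S = p ^ (Nat.card (Subgroup.centralizer ({g} : Set G))).factorization p :=
    S.card_eq_multiplicity
  have hPcard : Nat.card P = p ^ (Nat.card G).factorization p := P.card_eq_multiplicity
  set d := (Nat.card (Subgroup.centralizer ({g} : Set G))).factorization p with hd
  set n := (Nat.card G).factorization p with hn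
  have hdn : d ≤ n := by
    have h1 : p ^ d ∣ Nat.card G := by
      have : p ^ d ∣ Nat.card (Subgroup.centralizer ({g} : Set G)) := Nat.ordProj_dvd _ _
      exact dvd_trans this (Subgroup.card_subgroup_dvd_card _)
    exact (hp.pow_dvd_iff_le_factorization Nat.card_pos.ne').mp h1
  have hmval : m = p ^ (n - d) := by
    rw [hm, hPcard, hScard]
    exact Nat.pow_div hdn hp.pos
  -- every orbit has size divisible by m
  have horb : ∀ a : Pairs (P : Subgroup G) g h, m ∣ Nat.card (MulAction.orbit P a) := by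
    intro a
    have h1 : Nat.card (MulAction.orbit P a) * Nat.card (MulAction.stabilizer P a) = Nat.card P := by
      rw [← Nat.card_prod]
      exact Nat.card_congr (MulAction.orbitProdStabilizerEquivGroup P a)
    set T := MulAction.stabilizer P a with hT
    obtain ⟨s, hs⟩ := IsPGroup.iff_card.mp (P.2.to_subgroup T)
    -- the image of T in G lies in C(y)
    have hTle : (T.map (P : Subgroup G).subtype) ≤ Subgroup.centralizer ({a.1.1} : Set G) := by
      rintro _ ⟨u, hu, rfl⟩
      rw [Subgroup.mem_centralizer_iff]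
      intro y hy
      rw [Set.mem_singleton_iff] at hy
      subst hy
      have h2 : u • a = a := hu
      have h3 : (u : G) * a.1.1 * (u : G)⁻¹ = a.1.1 := congrArg (fun b : Pairs (P : Subgroup G) g h => b.1.1) h2
      show a.1.1 * (u : G) = (u : G) * a.1.1
      calc a.1.1 * (u : G) = ((u : G) * a.1.1 * (u : G)⁻¹) * (u : G) := by rw [h3]
        _ = (u : G) * a.1.1 := by group
    have hTdvd : p ^ s ∣ Nat.card (Subgroup.centralizer ({g} : Set G)) := by
      rw [← card_centralizer_conj a.2.1, ← hs,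
        ← Subgroup.card_map_of_injective (P : Subgroup G).subtype_injective]
      exact Subgroup.card_dvd_of_le hTle
    have hsd : s ≤ d := (hp.pow_dvd_iff_le_factorization Nat.card_pos.ne').mp hTdvd
    rw [hs, hPcard] at h1
    have hsn : s ≤ n := hsd.trans hdn
    have h4 : Nat.card (MulAction.orbit P a) = p ^ (n - s) := by
      have h5 : p ^ n = p ^ (n - s) * p ^ s := by rw [← pow_add]; congr 1; omega
      rw [h5] at h1
      exact Nat.eq_of_mul_eq_mul_right (pow_pos hp.pos s) h1
    rw [h4, hmval]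
    exact pow_dvd_pow p (by omega)
  by_cases hm1 : m = 1
  · rw [hm1]; exact one_dvd _
  · have hmod := Cfsg.Agent.Lib.Helper9.card_modEq_card_fixedPoints_of_dvd (H := P)
      (α := Pairs (P : Subgroup G) g h) m (fun a _ => horb a)
    have hempty : IsEmpty (MulAction.fixedPoints P (Pairs (P : Subgroup G) g h)) := by
      constructor
      rintro ⟨a, ha⟩
      have h1 := horb a
      have h2 : Nat.card (MulAction.orbit P a) = 1 := by
        rw [Nat.card_eq_one_iff_unique]
        refine ⟨⟨?_⟩, ⟨⟨a, MulAction.mem_orbit_self a⟩⟩⟩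
        rintro ⟨x, u, rfl⟩ ⟨y, v, rfl⟩
        apply Subtype.ext
        show u • a = v • a
        rw [ha u, ha v]
      rw [h2] at h1
      exact hm1 (Nat.dvd_one.mp h1)
    have h0 : Nat.card (MulAction.fixedPoints P (Pairs (P : Subgroup G) g h)) = 0 :=
      Nat.card_eq_zero.mpr (Or.inl hempty)
    rw [h0] at hmod
    exact (Nat.modEq_zero_iff_dvd).mp hmod

end Cfsg.Agent.S0957
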