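import Cfsg.Statements.S0961
import Cfsg.Agent.Lib.Helper28.DefectGen

set_option autoImplicit false
open Cfsg

namespace Cfsg.Agent.S0961

/-- Let χ be an irreducible character of the finite group G and let p ^ a be the largest power of the prime p dividing the order of G. Then the function equal to p ^ a * χ x at elements x of order prime to p and to 0 elsewhere is a generalized character (a difference of characters). -/
theorem result {G : Type*} [Group G] [Finite G] (p : ℕ) [Fact p.Prime] (χ : Cfsg.IrrCharacter G) : Cfsg.IsGeneralizedCharacter G (fun x : G => if p ∣ orderOf x then 0 else ((p ^ (Nat.card G).factorization p : ℕ) : ℂ) * (χ : G → ℂ) x) := by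
  classical
  have : Fintype G := Fintype.ofFinite G
  have hp : p.Prime := Fact.out
  have h := Cfsg.Agent.Lib.Helper28.irr_pPart_isGeneralizedCharacter hp χ
  obtain ⟨n, ρ, hirr, hρχ⟩ := χ.2
  have hn : n ≠ 0 := by
    have := Cfsg.Agent.Lib.Helper4.finrank_ne_zero_of_irreducible ρ hirr
    rw [Module.finrank_fin_fun] at this
    exact_mod_cast this
  have hdeg : charDegree (χ : G → ℂ) = n := by
    rw [← hρχ]; exact Cfsg.Agent.Lib.Helper28.charDegree_character ρ
  have hle : n.factorization p ≤ (Nat.card G).factorization p := by
    obtain ⟨b0, hb0⟩ := Cfsg.Agent.Lib.Helper4.degree_dvd_card ρ hirr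
    rw [Module.finrank_fin_fun] at hb0
    have hb0ne : b0 ≠ 0 := by
      rintro rfl
      rw [mul_zero] at hb0
      exact Nat.card_pos.ne' hb0
    rw [hb0, Nat.factorization_mul hn hb0ne, Finsupp.add_apply]
    omega
  have h2 := Cfsg.Agent.Lib.Helper26.isGeneralizedCharacter_nsmul h (p ^ (n.factorization p))
  convert h2 using 1
  funext x
  rw [hdeg]
  simp only [Pi.smul_apply, nsmul_eq_mul]
  by_cases hx : p ∣ orderOf x
  · rw [if_pos hx, if_pos hx, mul_zero]
  · rw [if_neg hx, if_neg hx, ← mul_assoc]
    congr 1
    have : (Nat.card G).factorization p =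
        n.factorization p + ((Nat.card G).factorization p - n.factorization p) := by omega
    conv_lhs => rw [this, pow_add]
    push_cast
    ring

end Cfsg.Agent.S0961
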