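import Cfsg.Statements.S0962
import Cfsg.Agent.Lib.Helper28.BlockCountB

set_option autoImplicit false
open Cfsg

namespace Cfsg.Agent.S0962

open Cfsg.Agent.Lib.Helper28 in
theorem result {G : Type*} [Group G] [Finite G] (p : ℕ) [Fact p.Prime] (M : Ideal Cfsg.AlgInt) (hM : Cfsg.IsPModular p M) (d : ℕ) : Nat.card {B : Set (Cfsg.IrrCharacter G) // Cfsg.IsPBlock M B ∧ d ≤ Cfsg.blockDefect p B} ≤ Nat.card {C : ConjClasses G // ∃ g : G, ConjClasses.mk g = C ∧ Cfsg.IsPRegular p g ∧ d ≤ (Nat.card (Subgroup.centralizer ({g} : Set G))).factorization p} := by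
  classical
  have : Fintype G := Fintype.ofFinite G
  let P : G → Prop := fun g => IsPRegular p g ∧
    d ≤ (Nat.card (Subgroup.centralizer ({g} : Set G))).factorization p
  have hP : ∀ g k : G, P (k * g * k⁻¹) ↔ P g := by
    intro g k
    show (¬ p ∣ orderOf (k * g * k⁻¹) ∧ _) ↔ (¬ p ∣ orderOf g ∧ _)
    rw [orderOf_conj', card_centralizer_conj]
  have h1 := card_blocks_le_card_classes hM
    {B : Set (IrrCharacter G) | IsPBlock M B ∧ d ≤ blockDefect p B} (fun B hB => hB.1) P
    (by
      intro B hB B' hB' χ hχ x hx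
      apply blockCoeff_mul_centralChar_memLocalIdeal hM hB.1 hB'.1 hχ x
      by_cases hreg : p ∣ orderOf x
      · exact Or.inl hreg
      · right; left
        have : ¬ d ≤ (Nat.card (Subgroup.centralizer ({x} : Set G))).factorization p :=
          fun h => hx ⟨hreg, h⟩
        have := hB.2
        omega)
  refine h1.trans (le_of_eq ?_)
  apply Nat.card_congr
  exact Equiv.subtypeEquivRight (fun C => (exists_mk_iff_out P hP C).symm)

end Cfsg.Agent.S0962
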