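import Cfsg.Statements.S0965
import Cfsg.Agent.Lib.Helper4.BlockPassman

set_option autoImplicit false
open Cfsg

namespace Cfsg.Agent.S0965

/-- Let N be a normal subgroup of the finite group G and let B, b be blocks of G and of N relative to a maximal ideal M of the algebraic integers containing the prime p. Then some χ ∈ B has a constituent in b on restriction to N if and only if, for all χ ∈ B, θ ∈ b and n ∈ N, the central character of χ at n is congruent modulo the local ideal at M to the sum of θ m / θ 1 over the elements m ∈ N conjugate in G to n. -/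
theorem result {G : Type*} [Group G] [Fintype G] (p : ℕ) [Fact p.Prime] (M : Ideal Cfsg.AlgInt) (hM : Cfsg.IsPModular p M) (N : Subgroup G) [N.Normal] [Fintype N] (B : Set (Cfsg.IrrCharacter G)) (hB : Cfsg.IsPBlock M B) (b : Set (Cfsg.IrrCharacter N)) (hb : Cfsg.IsPBlock M b) : (∃ χ ∈ B, ∃ θ ∈ b, Cfsg.classInner (fun n : N => (χ : G → ℂ) n) (θ : N → ℂ) ≠ 0) ↔ ∀ χ ∈ B, ∀ θ ∈ b, ∀ n : N, Cfsg.MemLocalIdeal M (Cfsg.centralChar (χ : G → ℂ) (n : G) - Cfsg.inducedCentralChar N (θ : N → ℂ) (n : G)) := by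
  classical
  open Cfsg.Agent.Lib.Helper4 Cfsg.Agent.Lib.Helper28 Cfsg.Agent.Lib.Helper26 in
  have hMprime : M.IsPrime := hM.2.1.isPrime
  have hMtop : M ≠ ⊤ := Ideal.IsPrime.ne_top hMprime
  have : Fintype (ConjClasses G) := Fintype.ofFinite _
  constructor
  · rintro ⟨χ0, hχ0, θ0, hθ0, hcon⟩ χ hχ θ hθ n
    exact passman_forward N hM hB hb χ0 hχ0 θ0 hθ0 hcon χ hχ θ hθ n
  · intro H
    obtain ⟨χ, hχ⟩ := block_nonempty hB
    obtain ⟨θ, hθ⟩ := block_nonempty hb
    obtain ⟨θ1, hcon1⟩ := exists_constituent_restrict N χ.2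
    have hb1 : IsPBlock M (blockOf M (θ1 : N → ℂ)) := ⟨θ1, rfl⟩
    have hθ1 : θ1 ∈ blockOf M (θ1 : N → ℂ) := sameBlock_refl hMtop _
    have hP := passman_forward N hM hB hb1 χ hχ θ1 hθ1 hcon1 χ hχ θ1 hθ1
    have hH := H χ hχ θ hθ
    have hd : ∀ n : N, MemLocalIdeal M (inducedCentralChar N (θ : N → ℂ) (n : G) -
        inducedCentralChar N (θ1 : N → ℂ) (n : G)) := by
      intro n
      have := memLocalIdeal_sub (hP n) (hH n)
      rwa [sub_sub_sub_cancel_left] at this
    set S1 := conjOrbit N (blockOf M (θ1 : N → ℂ)) with hS1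
    have hS1closed := conjOrbit_closed (M := M) N hb1
    have hS1stable : ∀ φ ∈ S1, ∀ x : G, ∀ φ' : IrrCharacter N,
        (φ' : N → ℂ) = conjFunN N (φ : N → ℂ) x → φ' ∈ S1 :=
      fun φ hφ x φ' h => conjOrbit_stable N φ x hφ φ' h
    set F : G → ℂ := extZero N (blockCoeff S1) with hF
    have hFcf : IsClassFunction G F := isClassFunction_extZero_blockCoeff N S1 hS1stable
    have hFloc : ∀ g, MemLocalRing M (F g) := by
      intro g
      by_cases hg : g ∈ N
      · have := extZero_mem N (blockCoeff S1) ⟨g, hg⟩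
        simp only at this
        rw [hF, this]
        exact osima_union S1 hS1closed _
      · rw [hF, extZero_not_mem N _ hg]
        exact memLocalRing_zero hMtop
    -- the two evaluations
    have hW : ∀ φ : IrrCharacter N, ∑ n : N, F n * ((φ : N → ℂ) n / (φ : N → ℂ) 1) =
        if φ ∈ S1 then 1 else 0 := by
      intro φ
      rw [← omegaF_blockCoeff S1 φ]
      unfold omegaF
      rw [Finset.sum_div]
      refine Finset.sum_congr rfl fun n _ => ?_
      rw [hF, extZero_mem, mul_div_assoc]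
    have hdiff : MemLocalIdeal M (∑ n : N, F n * ((θ : N → ℂ) n / (θ : N → ℂ) 1) -
        ∑ n : N, F n * ((θ1 : N → ℂ) n / (θ1 : N → ℂ) 1)) := by
      rw [sum_mul_div_eq_sum_classes N F hFcf, sum_mul_div_eq_sum_classes N F hFcf,
        ← Finset.sum_sub_distrib]
      apply memLocalIdeal_sum
      intro C _
      rw [← mul_sub]
      by_cases hC : Quotient.out C ∈ N
      · exact memLocalIdeal_mul_left (hFloc _) (hd ⟨Quotient.out C, hC⟩)
      · rw [hF, extZero_not_mem N _ hC, zero_mul]
        exact memLocalIdeal_zero hMtop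
    rw [hW, hW, if_pos (mem_conjOrbit_self N θ1 hθ1)] at hdiff
    have hθS1 : θ ∈ S1 := by
      by_contra hnot
      rw [if_neg hnot, zero_sub] at hdiff
      have := memLocalIdeal_neg hdiff
      rw [neg_neg] at this
      exact not_memLocalIdeal_one hMtop this
    obtain ⟨g, θ'', hθ'', he⟩ := hθS1
    have h12 : SameBlock M (θ1 : N → ℂ) (θ'' : N → ℂ) := hθ''
    have h3 := sameBlock_conjFunN (M := M) N h12 g
    rw [← he] at h3
    refine ⟨χ, hχ, ⟨conjFunN N (θ1 : N → ℂ) g, isIrrCharacter_conjFunN N θ1.2 g⟩, ?_, ?_⟩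
    · rw [mem_block_iff hb hθ]
      exact Cfsg.Agent.Lib.Helper28.sameBlock_symm h3
    · show classInner ((χ : G → ℂ) ∘ N.subtype) (conjFunN N (θ1 : N → ℂ) g) ≠ 0
      rw [classInner_restrict_conjFunN N
        (Cfsg.Agent.Lib.Helper26.isClassFunction_of_isIrrCharacter χ.2)]
      exact hcon1

end Cfsg.Agent.S0965
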