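import Cfsg.Statements.S4567
import Cfsg.Agent.Lib.Helper4.ClassSep
import Cfsg.Agent.Lib.Helper4.FaithfulIrr
import Cfsg.Agent.Lib.Helper4.PermLemma
import Cfsg.Agent.Lib.Helper26.Fourier
import Cfsg.Agent.Lib.Helper26.CharBasic
import Cfsg.Agent.S0154
import Cfsg.Agent.S0187

set_option autoImplicit false
open Cfsg

namespace Cfsg.Agent.S4567

open Cfsg Cfsg.Agent.Lib.Helper4
open scoped ComplexConjugate

section A

variable {G : Type*} [Group G] [Fintype G]

/-- translation by a central element -/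
theorem char_mul_central (χ : Cfsg.IrrCharacter G) (n : G) (hn : n ∈ Subgroup.center G) (g : G) :
    (χ : G → ℂ) 1 * (χ : G → ℂ) (g * n) = (χ : G → ℂ) n * (χ : G → ℂ) g := by
  obtain ⟨k, ρ, hρ, hχ⟩ := χ.2
  obtain ⟨c, hc⟩ := exists_scalar_of_mem_center ρ hρ n hn
  rw [← hχ]
  have h1 : ρ.character (g * n) = c * ρ.character g := by
    unfold Representation.character
    have hid : ρ g * (LinearMap.id : (Fin k → ℂ) →ₗ[ℂ] (Fin k → ℂ)) = ρ g := mul_one (ρ g)
    rw [map_mul, hc, mul_smul_comm, hid, map_smul, smul_eq_mul]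
  have h2 : ρ.character n = c * ρ.character 1 := by
    rw [Representation.char_one]
    unfold Representation.character
    rw [hc, map_smul, LinearMap.trace_id, smul_eq_mul]
  rw [h1, h2]
  ring

theorem char_one_ne_zero (χ : Cfsg.IrrCharacter G) : (χ : G → ℂ) 1 ≠ 0 := by
  obtain ⟨k, ρ, hρ, hχ⟩ := χ.2
  rw [← hχ, Representation.char_one]
  exact finrank_ne_zero_of_irreducible ρ hρ

variable (N : Subgroup G) [Fintype N]

/-- the coefficient of `φ` in the central character of `χ` on `N` -/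
noncomputable def coef (φ : N →* ℂˣ) (χ : Cfsg.IrrCharacter G) : ℂ :=
  classInner (fun n : N => (χ : G → ℂ) n) (fun n : N => ((φ n : ℂˣ) : ℂ)) / (χ : G → ℂ) 1

theorem proj_eq (hN : N ≤ Subgroup.center G) (φ : N →* ℂˣ) (χ : Cfsg.IrrCharacter G) (g : G) :
    (Nat.card N : ℂ)⁻¹ * ∑ n : N, conj ((φ n : ℂˣ) : ℂ) * (χ : G → ℂ) (g * n) =
      coef N φ χ * (χ : G → ℂ) g := by
  have h1 := char_one_ne_zero χ
  unfold coef classInner
  rw [div_mul_eq_mul_div, eq_div_iff h1, mul_assoc, Finset.sum_mul, mul_assoc, Finset.sum_mul]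
  congr 1
  refine Finset.sum_congr rfl fun n _ => ?_
  have := char_mul_central χ (n : G) (hN n.2) g
  rw [mul_assoc, mul_comm ((χ : G → ℂ) (g * ↑n)), this]
  ring

theorem coef_idem (hN : N ≤ Subgroup.center G) (φ : N →* ℂˣ) (χ : Cfsg.IrrCharacter G) :
    coef N φ χ = 0 ∨ coef N φ χ = 1 := by
  have h1 := char_one_ne_zero χ
  have hNne : (Nat.card N : ℂ) ≠ 0 := Nat.cast_ne_zero.mpr Nat.card_pos.ne'
  -- double average at the identity
  have hP : ∀ g : G, (Nat.card N : ℂ)⁻¹ * ∑ n : N, conj ((φ n : ℂˣ) : ℂ) * (χ : G → ℂ) (g * n) =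
      coef N φ χ * (χ : G → ℂ) g := proj_eq N hN φ χ
  have h2 : (Nat.card N : ℂ)⁻¹ * ∑ m : N, conj ((φ m : ℂˣ) : ℂ) *
      ((Nat.card N : ℂ)⁻¹ * ∑ n : N, conj ((φ n : ℂˣ) : ℂ) * (χ : G → ℂ) ((m : G) * n)) =
      coef N φ χ * (coef N φ χ * (χ : G → ℂ) 1) := by
    simp only [hP]
    have := hP 1
    simp only [one_mul] at this
    rw [← this, Finset.mul_sum, Finset.mul_sum, Finset.mul_sum]
    refine Finset.sum_congr rfl fun m _ => ?_
    ring
  have h3 : ∀ m : N, ∑ n : N, conj ((φ n : ℂˣ) : ℂ) * (χ : G → ℂ) ((m : G) * n) =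
      ((φ m : ℂˣ) : ℂ) * ∑ k : N, conj ((φ k : ℂˣ) : ℂ) * (χ : G → ℂ) (k : G) := by
    intro m
    have e : ∑ k : N, conj ((φ k : ℂˣ) : ℂ) * (χ : G → ℂ) (k : G) =
        ∑ n : N, conj ((φ (m * n) : ℂˣ) : ℂ) * (χ : G → ℂ) ((m * n : N) : G) :=
      (Equiv.sum_comp (Equiv.mulLeft m) (fun k : N => conj ((φ k : ℂˣ) : ℂ) *
        (χ : G → ℂ) (k : G))).symm
    rw [e, Finset.mul_sum]
    refine Finset.sum_congr rfl fun n _ => ?_
    have hnorm : ((φ m : ℂˣ) : ℂ) * conj ((φ m : ℂˣ) : ℂ) = 1 := by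
      rw [Cfsg.Agent.Lib.Helper26.conj_linChar, ← Units.val_mul, ← map_mul, mul_inv_cancel, map_one,
        Units.val_one]
    rw [map_mul, Units.val_mul, map_mul, Subgroup.coe_mul]
    calc conj ((φ n : ℂˣ) : ℂ) * (χ : G → ℂ) ((m : G) * n)
        = (((φ m : ℂˣ) : ℂ) * conj ((φ m : ℂˣ) : ℂ)) *
            (conj ((φ n : ℂˣ) : ℂ) * (χ : G → ℂ) ((m : G) * n)) := by rw [hnorm, one_mul]
      _ = _ := by ring
  simp only [h3] at h2
  have h4 := hP 1
  simp only [one_mul] at h4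
  have h5 : (Nat.card N : ℂ)⁻¹ * ∑ m : N, conj ((φ m : ℂˣ) : ℂ) *
      ((Nat.card N : ℂ)⁻¹ * (((φ m : ℂˣ) : ℂ) *
        ∑ k : N, conj ((φ k : ℂˣ) : ℂ) * (χ : G → ℂ) (k : G))) =
      coef N φ χ * (χ : G → ℂ) 1 := by
    rw [← h4]
    have : ∀ m : N, conj ((φ m : ℂˣ) : ℂ) * ((Nat.card N : ℂ)⁻¹ * (((φ m : ℂˣ) : ℂ) *
        ∑ k : N, conj ((φ k : ℂˣ) : ℂ) * (χ : G → ℂ) (k : G))) =
        (Nat.card N : ℂ)⁻¹ * ∑ k : N, conj ((φ k : ℂˣ) : ℂ) * (χ : G → ℂ) (k : G) := by
      intro m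
      have hnorm : conj ((φ m : ℂˣ) : ℂ) * ((φ m : ℂˣ) : ℂ) = 1 := by
        rw [Cfsg.Agent.Lib.Helper26.conj_linChar, ← Units.val_mul, ← map_mul, inv_mul_cancel,
          map_one, Units.val_one]
      calc _ = (conj ((φ m : ℂˣ) : ℂ) * ((φ m : ℂˣ) : ℂ)) * ((Nat.card N : ℂ)⁻¹ *
            ∑ k : N, conj ((φ k : ℂˣ) : ℂ) * (χ : G → ℂ) (k : G)) := by ring
        _ = _ := by rw [hnorm, one_mul]
    simp only [this]
    rw [Finset.sum_const, Finset.card_univ, nsmul_eq_mul, ← Nat.card_eq_fintype_card]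
    field_simp
  rw [h5] at h2
  have h6 : coef N φ χ * (1 - coef N φ χ) = 0 := by
    have : (coef N φ χ * (1 - coef N φ χ)) * (χ : G → ℂ) 1 = 0 := by
      linear_combination h2
    exact (mul_eq_zero.mp this).resolve_right h1
  rcases mul_eq_zero.mp h6 with h | h
  · left; exact h
  · right; exact (sub_eq_zero.mp h).symm

end A

section B

variable {G : Type*} [Group G] [Fintype G] (N : Subgroup G) [Fintype N]

/-- special elements -/
def Special (g : G) : Prop := ∀ x : G, x⁻¹ * g⁻¹ * x * g ∈ N → x * g = g * x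

open scoped Classical in
theorem sum_coef_normSq (hN : N ≤ Subgroup.center G) (φ : N →* ℂˣ)
    [Fintype (Cfsg.IrrCharacter G)] (g : G) :
    ∑ χ : Cfsg.IrrCharacter G, coef N φ χ * ((χ : G → ℂ) g * conj ((χ : G → ℂ) g)) =
      (Nat.card N : ℂ)⁻¹ * ∑ n : N, conj ((φ n : ℂˣ) : ℂ) *
        (if IsConj (g * (n : G)) g then
          (Nat.card (Subgroup.centralizer ({g * (n : G)} : Set G)) : ℂ) else 0) := by
  have h1 : ∀ χ : Cfsg.IrrCharacter G, coef N φ χ * ((χ : G → ℂ) g * conj ((χ : G → ℂ) g)) =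
      (Nat.card N : ℂ)⁻¹ * ∑ n : N, conj ((φ n : ℂˣ) : ℂ) *
        ((χ : G → ℂ) (g * n) * conj ((χ : G → ℂ) g)) := by
    intro χ
    rw [← mul_assoc, ← proj_eq N hN φ χ g, mul_assoc, Finset.sum_mul]
    congr 1
    refine Finset.sum_congr rfl fun n _ => ?_
    ring
  simp only [h1]
  rw [← Finset.mul_sum, Finset.sum_comm]
  congr 1
  refine Finset.sum_congr rfl fun n _ => ?_
  rw [← Finset.mul_sum, column_orthogonality (g * (n : G)) g]

theorem special_unique (g : G) (hg : Special N g) (n : N) (hn : (n : G) ∈ Subgroup.center G)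
    (hc : IsConj (g * (n : G)) g) : n = 1 := by
  obtain ⟨x, hx⟩ := isConj_iff.mp hc
  -- x * (g * n) * x⁻¹ = g
  have hncomm : ∀ y : G, y * (n : G) = (n : G) * y := fun y =>
    (Subgroup.mem_center_iff.mp hn y)
  have h1 : (n : G) = x * g⁻¹ * x⁻¹ * g := by
    have : x * g * x⁻¹ * (n : G) = g := by
      calc x * g * x⁻¹ * (n : G) = x * g * (x⁻¹ * (n : G)) := by group
        _ = x * g * ((n : G) * x⁻¹) := by rw [hncomm x⁻¹]
        _ = x * (g * (n : G)) * x⁻¹ := by group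
        _ = g := hx
    calc (n : G) = (x * g * x⁻¹)⁻¹ * (x * g * x⁻¹ * (n : G)) := by group
      _ = (x * g * x⁻¹)⁻¹ * g := by rw [this]
      _ = x * g⁻¹ * x⁻¹ * g := by group
  have h2 : (x⁻¹)⁻¹ * g⁻¹ * x⁻¹ * g ∈ N := by
    rw [inv_inv, ← h1]
    exact n.2
  have h3 := hg x⁻¹ h2
  apply Subtype.ext
  rw [h1, Subgroup.coe_one]
  calc x * g⁻¹ * x⁻¹ * g = x * g⁻¹ * (x⁻¹ * g) := by group
    _ = x * g⁻¹ * (g * x⁻¹) := by rw [h3]
    _ = 1 := by group

open scoped Classical in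
theorem nonspecial_sum (hN : N ≤ Subgroup.center G) (φ : N →* ℂˣ)
    (hφ : ∀ n : N, φ n = 1 → n = 1) (g : G) (hg : ¬ Special N g) (c : ℂ) :
    ∑ n : N, conj ((φ n : ℂˣ) : ℂ) * (if IsConj (g * (n : G)) g then c else 0) = 0 := by
  unfold Special at hg
  push Not at hg
  obtain ⟨x, hxN, hxg⟩ := hg
  set n₀ : N := ⟨x⁻¹ * g⁻¹ * x * g, hxN⟩ with hn₀
  have hn₀1 : n₀ ≠ 1 := by
    intro h
    apply hxg
    have h1 : x⁻¹ * g⁻¹ * x * g = 1 := congrArg (fun y : N => (y : G)) h
    calc x * g = g * x * (x⁻¹ * g⁻¹ * x * g) := by group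
      _ = g * x := by rw [h1, mul_one]
  have hcomm : ∀ (n : N) (y : G), y * (n : G) = (n : G) * y := fun n y =>
    (Subgroup.mem_center_iff.mp (hN n.2) y)
  -- the set D is stable under multiplication by n₀
  have hD : ∀ n : N, IsConj (g * ((n₀ * n : N) : G)) g ↔ IsConj (g * (n : G)) g := by
    intro n
    have h0 : IsConj (g * (n₀ : G)) g := by
      rw [isConj_iff]
      refine ⟨x⁻¹, ?_⟩
      rw [inv_inv]
      calc x⁻¹ * (g * (n₀ : G)) * x = x⁻¹ * g * ((n₀ : G) * x) := by group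
        _ = x⁻¹ * g * (x * (n₀ : G)) := by rw [← hcomm n₀ x]
        _ = x⁻¹ * g * (x * (x⁻¹ * g⁻¹ * x * g)) := by rw [hn₀]
        _ = g := by group
    have key : ∀ a b : N, IsConj (g * (a : G)) g → IsConj (g * (b : G)) g →
        IsConj (g * ((a * b : N) : G)) g := by
      intro a b ha hb
      obtain ⟨y, hy⟩ := isConj_iff.mp ha
      have : IsConj (g * ((a * b : N) : G)) (g * (b : G)) := by
        rw [isConj_iff]
        refine ⟨y, ?_⟩
        rw [Subgroup.coe_mul]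
        calc y * (g * ((a : G) * (b : G))) * y⁻¹ = y * (g * (a : G)) * ((b : G) * y⁻¹) := by group
          _ = y * (g * (a : G)) * (y⁻¹ * (b : G)) := by rw [hcomm b y⁻¹]
          _ = (y * (g * (a : G)) * y⁻¹) * (b : G) := by group
          _ = g * (b : G) := by rw [hy]
      exact this.trans hb
    have hinv : ∀ a : N, IsConj (g * (a : G)) g → IsConj (g * ((a⁻¹ : N) : G)) g := by
      intro a ha
      obtain ⟨y, hy⟩ := isConj_iff.mp ha
      rw [isConj_iff]
      refine ⟨y⁻¹, ?_⟩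
      rw [Subgroup.coe_inv, inv_inv]
      have h1 : y⁻¹ * g * y = g * (a : G) := by
        calc y⁻¹ * g * y = y⁻¹ * (y * (g * (a : G)) * y⁻¹) * y := by rw [hy]
          _ = g * (a : G) := by group
      calc y⁻¹ * (g * (a : G)⁻¹) * y = y⁻¹ * g * ((a : G)⁻¹ * y) := by group
        _ = y⁻¹ * g * (y * (a : G)⁻¹) := by
            have := hcomm a⁻¹ y
            rw [Subgroup.coe_inv] at this
            rw [this]
        _ = (y⁻¹ * g * y) * (a : G)⁻¹ := by group
        _ = g := by rw [h1]; group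
    constructor
    · intro h
      have := key n₀⁻¹ (n₀ * n) (hinv n₀ h0) h
      rwa [inv_mul_cancel_left] at this
    · intro h
      exact key n₀ n h0 h
  set T := ∑ n : N, conj ((φ n : ℂˣ) : ℂ) * (if IsConj (g * (n : G)) g then c else 0) with hT
  have h1 : T = conj ((φ n₀ : ℂˣ) : ℂ) * T := by
    rw [hT, Finset.mul_sum]
    rw [← Equiv.sum_comp (Equiv.mulLeft n₀)]
    refine Finset.sum_congr rfl fun n _ => ?_
    simp only [Equiv.coe_mulLeft]
    rw [map_mul, Units.val_mul, map_mul]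
    simp only [hD n]
    ring
  have h2 : conj ((φ n₀ : ℂˣ) : ℂ) ≠ 1 := by
    intro h
    apply hn₀1
    apply hφ
    apply Units.ext
    have := congrArg conj h
    simpa using this
  have h3 : (1 - conj ((φ n₀ : ℂˣ) : ℂ)) * T = 0 := by linear_combination h1
  rcases mul_eq_zero.mp h3 with h | h
  · exact absurd (sub_eq_zero.mp h).symm h2
  · exact h

open scoped Classical in
theorem eval (hN : N ≤ Subgroup.center G) (φ : N →* ℂˣ) (hφ : ∀ n : N, φ n = 1 → n = 1)
    [Fintype (Cfsg.IrrCharacter G)] (g : G) :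
    ∑ χ : Cfsg.IrrCharacter G, coef N φ χ * ((χ : G → ℂ) g * conj ((χ : G → ℂ) g)) =
      if Special N g then (Nat.card (Subgroup.centralizer ({g} : Set G)) : ℂ) / (Nat.card N : ℂ)
      else 0 := by
  rw [sum_coef_normSq N hN φ g]
  have hrew : ∀ n : N, (if IsConj (g * (n : G)) g then
      (Nat.card (Subgroup.centralizer ({g * (n : G)} : Set G)) : ℂ) else 0) =
      (if IsConj (g * (n : G)) g then
        (Nat.card (Subgroup.centralizer ({g} : Set G)) : ℂ) else 0) := by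
    intro n
    by_cases h : IsConj (g * (n : G)) g
    · rw [if_pos h, if_pos h, card_centralizer_of_isConj h]
    · rw [if_neg h, if_neg h]
  simp only [hrew]
  by_cases hg : Special N g
  · rw [if_pos hg]
    have : ∀ n : N, conj ((φ n : ℂˣ) : ℂ) * (if IsConj (g * (n : G)) g then
        (Nat.card (Subgroup.centralizer ({g} : Set G)) : ℂ) else 0) =
        if n = 1 then (Nat.card (Subgroup.centralizer ({g} : Set G)) : ℂ) else 0 := by
      intro n
      by_cases hn : n = 1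
      · subst hn
        rw [if_pos rfl, map_one, Units.val_one, map_one, one_mul, if_pos]
        rw [Subgroup.coe_one, mul_one]
      · rw [if_neg hn, if_neg, mul_zero]
        intro hc
        exact hn (special_unique N g hg n (hN n.2) hc)
    simp only [this]
    rw [Finset.sum_ite_eq' Finset.univ (1 : N)]
    simp only [Finset.mem_univ, if_true]
    rw [div_eq_inv_mul]
  · rw [if_neg hg, nonspecial_sum N hN φ hφ g hg, mul_zero]

end B

section C

variable {G : Type*} [Group G] [Fintype G] (N : Subgroup G) [Fintype N]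

theorem coef_ne_zero_iff (φ : N →* ℂˣ) (χ : Cfsg.IrrCharacter G) :
    classInner (fun n : N => (χ : G → ℂ) n) (fun n : N => ((φ n : ℂˣ) : ℂ)) ≠ 0 ↔
      coef N φ χ ≠ 0 := by
  unfold coef
  rw [div_ne_zero_iff]
  exact ⟨fun h => ⟨h, char_one_ne_zero χ⟩, fun h => h.1⟩

open scoped Classical in
theorem card_eq_sum_coef (hN : N ≤ Subgroup.center G) (φ : N →* ℂˣ)
    [Fintype (Cfsg.IrrCharacter G)] :
    (Nat.card {χ : Cfsg.IrrCharacter G //
      classInner (fun n : N => (χ : G → ℂ) n) (fun n : N => ((φ n : ℂˣ) : ℂ)) ≠ 0} : ℂ) =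
      ∑ χ : Cfsg.IrrCharacter G, coef N φ χ := by
  rw [Nat.card_eq_fintype_card, Fintype.card_subtype, Finset.card_filter]
  push_cast
  refine Finset.sum_congr rfl fun χ _ => ?_
  rcases coef_idem N hN φ χ with h | h
  · rw [if_neg, h]
    rw [coef_ne_zero_iff, h]
    simp
  · rw [if_pos, h]
    rw [coef_ne_zero_iff, h]
    simp

theorem sum_coef_eq (φ : N →* ℂˣ) [Fintype (Cfsg.IrrCharacter G)] :
    ∑ χ : Cfsg.IrrCharacter G, coef N φ χ =
      (Nat.card G : ℂ)⁻¹ * ∑ g : G, ∑ χ : Cfsg.IrrCharacter G,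
        coef N φ χ * ((χ : G → ℂ) g * conj ((χ : G → ℂ) g)) := by
  rw [Finset.sum_comm, Finset.mul_sum]
  refine Finset.sum_congr rfl fun χ _ => ?_
  rw [← Finset.mul_sum, mul_left_comm]
  have h := Cfsg.Agent.Lib.Helper26.classInner_irr χ.2 χ.2
  rw [if_pos rfl] at h
  unfold classInner at h
  rw [h, mul_one]

end C

section D

variable {G : Type*} [Group G] [Fintype G] (N : Subgroup G) [N.Normal] [Fintype N]

open scoped Classical in
theorem sum_comp_mk [Fintype (G ⧸ N)] (F : G ⧸ N → ℂ) :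
    ∑ g : G, F (g : G ⧸ N) = (Nat.card N : ℂ) * ∑ q : G ⧸ N, F q := by
  rw [← Finset.sum_fiberwise Finset.univ (fun g : G => (g : G ⧸ N)) (fun g => F (g : G ⧸ N)),
    Finset.mul_sum]
  refine Finset.sum_congr rfl fun q _ => ?_
  have h1 : ∀ g ∈ Finset.univ.filter (fun g : G => (g : G ⧸ N) = q), F (g : G ⧸ N) = F q := by
    intro g hg
    rw [(Finset.mem_filter.mp hg).2]
  rw [Finset.sum_congr rfl h1, Finset.sum_const, nsmul_eq_mul]
  congr 1
  have h2 := QuotientGroup.card_preimage_mk N ({q} : Set (G ⧸ N))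
  have h3 : Nat.card (({q} : Set (G ⧸ N))) = 1 := by simp
  rw [h3, mul_one] at h2
  rw [← h2, Nat.card_eq_fintype_card, Fintype.card_subtype]
  have h4 : (Finset.univ.filter (fun g : G => (g : G ⧸ N) = q)) =
      Finset.univ.filter (fun x => x ∈ QuotientGroup.mk ⁻¹' ({q} : Set (G ⧸ N))) := by
    ext g
    simp
  rw [h4]

omit [Fintype G] [Fintype N] in
theorem special_conj (g y : G) (hg : Special N g) : Special N (y * g * y⁻¹) := by
  intro x hx
  have h1 : (y⁻¹ * x * y)⁻¹ * g⁻¹ * (y⁻¹ * x * y) * g ∈ N := by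
    have : (y⁻¹ * x * y)⁻¹ * g⁻¹ * (y⁻¹ * x * y) * g =
        y⁻¹ * (x⁻¹ * (y * g * y⁻¹)⁻¹ * x * (y * g * y⁻¹)) * y⁻¹⁻¹ := by group
    rw [this]
    exact ‹N.Normal›.conj_mem _ hx _
  have h2 := hg _ h1
  calc x * (y * g * y⁻¹) = y * ((y⁻¹ * x * y) * g) * y⁻¹ := by group
    _ = y * (g * (y⁻¹ * x * y)) * y⁻¹ := by rw [h2]
    _ = y * g * y⁻¹ * x := by group

omit [Fintype G] [Fintype N] [N.Normal] in
theorem special_mul (hN : N ≤ Subgroup.center G) (g n : G) (hn : n ∈ N) (hg : Special N g) :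
    Special N (g * n) := by
  have hc : ∀ y : G, y * n = n * y := fun y => Subgroup.mem_center_iff.mp (hN hn) y
  intro x hx
  have h1 : x⁻¹ * g⁻¹ * x * g ∈ N := by
    have : x⁻¹ * (g * n)⁻¹ * x * (g * n) = x⁻¹ * g⁻¹ * x * g := by
      calc x⁻¹ * (g * n)⁻¹ * x * (g * n) = x⁻¹ * n⁻¹ * g⁻¹ * x * g * n := by group
        _ = x⁻¹ * n⁻¹ * (g⁻¹ * x * g * n) := by group
        _ = x⁻¹ * n⁻¹ * (n * (g⁻¹ * x * g)) := by rw [hc]
        _ = x⁻¹ * g⁻¹ * x * g := by group
    rwa [this] at hx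
  have h2 := hg x h1
  calc x * (g * n) = (x * g) * n := by group
    _ = (g * x) * n := by rw [h2]
    _ = g * (x * n) := by group
    _ = g * (n * x) := by rw [hc]
    _ = g * n * x := by group

omit [Fintype G] [Fintype N] in
theorem exists_special_iff (hN : N ≤ Subgroup.center G) (g : G) :
    (∃ g' : G, ConjClasses.mk (g' : G ⧸ N) = ConjClasses.mk (g : G ⧸ N) ∧ Special N g') ↔
      Special N g := by
  constructor
  · rintro ⟨g', hc, hg'⟩
    rw [ConjClasses.mk_eq_mk_iff_isConj, isConj_iff] at hc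
    obtain ⟨c, hc⟩ := hc
    obtain ⟨y, rfl⟩ := QuotientGroup.mk_surjective c
    have h1 : ((y * g' * y⁻¹ : G) : G ⧸ N) = (g : G ⧸ N) := by
      rw [← hc]
      simp
    rw [QuotientGroup.eq] at h1
    have h2 : g = (y * g' * y⁻¹) * ((y * g' * y⁻¹)⁻¹ * g) := by group
    rw [h2]
    exact special_mul N hN _ _ h1 (special_conj N g' y hg')
  · intro hg
    exact ⟨g, rfl, hg⟩

omit [Fintype G] [Fintype N] in
theorem centralizer_eq_comap (g : G) (hg : Special N g) :
    Subgroup.centralizer ({g} : Set G) =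
      (Subgroup.centralizer ({(g : G ⧸ N)} : Set (G ⧸ N))).comap (QuotientGroup.mk' N) := by
  ext x
  rw [Subgroup.mem_comap, Subgroup.mem_centralizer_singleton_iff,
    Subgroup.mem_centralizer_singleton_iff, QuotientGroup.mk'_apply]
  constructor
  · intro h
    rw [← QuotientGroup.mk_mul, ← QuotientGroup.mk_mul, h]
  · intro h
    rw [← QuotientGroup.mk_mul, ← QuotientGroup.mk_mul, QuotientGroup.eq] at h
    have h1 : x⁻¹ * g⁻¹ * x * g ∈ N := by
      have : x⁻¹ * g⁻¹ * x * g = ((x * g)⁻¹ * (g * x))⁻¹ := by group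
      rw [this]
      exact N.inv_mem h
    exact hg x h1

theorem card_centralizer_special (g : G) (hg : Special N g) :
    Nat.card (Subgroup.centralizer ({g} : Set G)) =
      Nat.card N * Nat.card (Subgroup.centralizer ({(g : G ⧸ N)} : Set (G ⧸ N))) := by
  rw [centralizer_eq_comap N g hg]
  have := QuotientGroup.card_preimage_mk N
    ((Subgroup.centralizer ({(g : G ⧸ N)} : Set (G ⧸ N)) : Subgroup (G ⧸ N)) : Set (G ⧸ N))
  exact this

end D

/-- Let N be a central subgroup of the finite group G and ψ a faithful irreducible (hence degree-one) character of N. Call a coset g N special when every x ∈ G whose commutator x⁻¹ g⁻¹ x g lies in N actually commutes with g (this depends only on the coset). Then the number of irreducible characters of G whose restriction to N contains ψ equals the number of conjugacy classes of G/N consisting of special cosets. -/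
theorem result {G : Type*} [Group G] [Fintype G] (N : Subgroup G) [N.Normal] [Fintype N] (hN : N ≤ Subgroup.center G) (ψ : Cfsg.IrrCharacter ↥N) (hfaith : ∀ n : ↥N, (ψ : ↥N → ℂ) n = (ψ : ↥N → ℂ) 1 → n = 1) : Nat.card {χ : Cfsg.IrrCharacter G // Cfsg.classInner (fun n : ↥N => (χ : G → ℂ) n) (ψ : ↥N → ℂ) ≠ 0} = Nat.card {C : ConjClasses (G ⧸ N) // ∃ g : G, ConjClasses.mk (g : G ⧸ N) = C ∧ ∀ x : G, x⁻¹ * g⁻¹ * x * g ∈ N → x * g = g * x} := by
  classical
  have : Fintype (Cfsg.IrrCharacter G) := Fintype.ofFinite _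
  have : Fintype (G ⧸ N) := Fintype.ofFinite _
  have hNcomm : ∀ a b : N, a * b = b * a := by
    intro a b
    apply Subtype.ext
    rw [Subgroup.coe_mul, Subgroup.coe_mul]
    exact (Subgroup.mem_center_iff.mp (hN a.2) b).symm
  have hψ1 : (ψ : N → ℂ) 1 = 1 := (Cfsg.Agent.S0187.result.mp hNcomm) ψ
  obtain ⟨φ, hφ⟩ := Cfsg.Agent.S0154.toLin_bijective.2 ⟨ψ, hψ1⟩
  have hψφ : (ψ : N → ℂ) = fun n : N => ((φ n : ℂˣ) : ℂ) := by
    have := congrArg
      (fun χ : {χ : Cfsg.IrrCharacter N // (χ : N → ℂ) 1 = 1} => (χ.1 : N → ℂ)) hφ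
    exact this.symm
  have hφf : ∀ n : N, φ n = 1 → n = 1 := by
    intro n hn
    apply hfaith
    rw [hψφ]
    simp only
    rw [hn, map_one]
  have hL : (Nat.card {χ : Cfsg.IrrCharacter G //
      Cfsg.classInner (fun n : ↥N => (χ : G → ℂ) n) (ψ : ↥N → ℂ) ≠ 0} : ℂ) =
      (Nat.card G : ℂ)⁻¹ * ∑ g : G, (if Special N g then
        (Nat.card (Subgroup.centralizer ({g} : Set G)) : ℂ) / (Nat.card N : ℂ) else 0) := by
    rw [hψφ, card_eq_sum_coef N hN φ, sum_coef_eq N φ]
    congr 1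
    refine Finset.sum_congr rfl fun g _ => ?_
    exact eval N hN φ hφf g
  set Q : ConjClasses (G ⧸ N) → Prop :=
    fun C => ∃ g : G, ConjClasses.mk (g : G ⧸ N) = C ∧ Special N g with hQ
  have hR : (Nat.card G : ℂ)⁻¹ * ∑ g : G, (if Special N g then
      (Nat.card (Subgroup.centralizer ({g} : Set G)) : ℂ) / (Nat.card N : ℂ) else 0) =
      (Nat.card {C : ConjClasses (G ⧸ N) // Q C} : ℂ) := by
    have hNne : (Nat.card N : ℂ) ≠ 0 := Nat.cast_ne_zero.mpr Nat.card_pos.ne'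
    have hQne : (Nat.card (G ⧸ N) : ℂ) ≠ 0 := Nat.cast_ne_zero.mpr Nat.card_pos.ne'
    have h1 : ∀ g : G, (if Special N g then
        (Nat.card (Subgroup.centralizer ({g} : Set G)) : ℂ) / (Nat.card N : ℂ) else 0) =
        (fun q : G ⧸ N => if Q (ConjClasses.mk q) then
          (Nat.card (Subgroup.centralizer ({q} : Set (G ⧸ N))) : ℂ) else 0) (g : G ⧸ N) := by
      intro g
      simp only [hQ]
      by_cases hg : Special N g
      · rw [if_pos hg, if_pos ((exists_special_iff N hN g).mpr hg),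
          card_centralizer_special N g hg]
        push_cast
        field_simp
      · rw [if_neg hg, if_neg]
        rw [exists_special_iff N hN g]
        exact hg
    have h2 := sum_comp_mk N (fun q : G ⧸ N => if Q (ConjClasses.mk q) then
          (Nat.card (Subgroup.centralizer ({q} : Set (G ⧸ N))) : ℂ) else 0)
    have h3 := sum_card_centralizer_eq (G := G ⧸ N) Q
    rw [Finset.sum_congr rfl (fun g _ => h1 g), h2]
    have h4 : (∑ q : G ⧸ N, if Q (ConjClasses.mk q) then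
        (Nat.card (Subgroup.centralizer ({q} : Set (G ⧸ N))) : ℂ) else 0) =
        (Nat.card (G ⧸ N) : ℂ) * (Nat.card {C : ConjClasses (G ⧸ N) // Q C} : ℂ) := by
      rw [← h3]
      refine Finset.sum_congr rfl fun q _ => ?_
      congr
    rw [h4]
    have hcard : (Nat.card G : ℂ) = (Nat.card (G ⧸ N) : ℂ) * (Nat.card N : ℂ) := by
      rw [← Nat.cast_mul, ← Subgroup.card_eq_card_quotient_mul_card_subgroup]
    rw [hcard]
    field_simp
  have hfin := hL.trans hR
  exact Nat.cast_injective (R := ℂ) hfin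

end Cfsg.Agent.S4567
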