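import Cfsg.Statements.S0967
import Cfsg.Agent.Lib.Helper4.BlockIdem
import Cfsg.Agent.Lib.Helper4.Deflate
import Cfsg.Agent.Lib.Helper4.BurnsideClass
import Cfsg.Agent.Lib.Helper26.Clifford
import Cfsg.Agent.S4567
import Cfsg.Agent.S0868

set_option autoImplicit false
open Cfsg

namespace Cfsg.Agent.S0967

open Cfsg.Agent.Lib.Helper26 Cfsg.Agent.Lib.Helper4 Cfsg.Agent.Lib.Helper28
open scoped ComplexConjugate

section

variable {G : Type*} [Group G] [Fintype G] (N : Subgroup G) [hNn : N.Normal] [Fintype N]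
  [Fintype (G ⧸ N)]

/-- a weight function on `G` defined through the quotient `G ⧸ N` -/
noncomputable def wt (P : G ⧸ N → Prop) [DecidablePred P] (g : G) : ℂ :=
  if P (g : G ⧸ N) then (Nat.card N : ℂ)⁻¹ else 0

/-- the weighted sum of an inflated function is a sum over the quotient -/
theorem sum_wt_inflate (P : G ⧸ N → Prop) [DecidablePred P] (F : G ⧸ N → ℂ) :
    ∑ g : G, wt N P g * F (g : G ⧸ N) = ∑ q : G ⧸ N, if P q then F q else 0 := by
  have hN0 : (Nat.card N : ℂ) ≠ 0 := Nat.cast_ne_zero.mpr Nat.card_pos.ne'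
  have h1 := Cfsg.Agent.S4567.sum_comp_mk N
    (fun q : G ⧸ N => (if P q then (Nat.card N : ℂ)⁻¹ else 0) * F q)
  unfold wt
  rw [h1, Finset.mul_sum]
  refine Finset.sum_congr rfl fun q _ => ?_
  split_ifs
  · rw [← mul_assoc, mul_inv_cancel₀ hN0, one_mul]
  · rw [zero_mul, mul_zero]

/-- same block implies congruent weighted sums -/
theorem key (p : ℕ) (M : Ideal Cfsg.AlgInt) (hM : Cfsg.IsPModular p M)
    (hN : (Nat.card N).Coprime p) (α β : G → ℂ) (hα : IsClassFunction G α)
    (hβ : IsClassFunction G β) (h : SameBlock M α β)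
    (P : G ⧸ N → Prop) [DecidablePred P] (hP : ∀ q k : G ⧸ N, P (k * q * k⁻¹) ↔ P q) :
    MemLocalIdeal M (∑ g, wt N P g * (α g / α 1) - ∑ g, wt N P g * (β g / β 1)) := by
  have hN0 : (Nat.card N : ℂ) ≠ 0 := Nat.cast_ne_zero.mpr Nat.card_pos.ne'
  apply sameBlock_weighted p M hM α β hα hβ h (wt N P) _ (Nat.card N) hN
  · intro g
    unfold wt
    split_ifs
    · rw [mul_inv_cancel₀ hN0]
      exact isIntegral_one
    · rw [mul_zero]
      exact isIntegral_zero
  · intro g k
    unfold wt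
    have h1 : ((k * g * k⁻¹ : G) : G ⧸ N) = (k : G ⧸ N) * (g : G ⧸ N) * (k : G ⧸ N)⁻¹ := by
      rw [QuotientGroup.mk_mul, QuotientGroup.mk_mul, QuotientGroup.mk_inv]
    rw [h1]
    simp only [hP]

end

/-- Let N be a normal subgroup of the finite group G of order prime to p and fix a maximal ideal M of the algebraic integers containing p. If χ is an irreducible character of G ⧸ N and ψ lies in the block of its inflation χ ∘ (quotient map), then ψ is itself inflated from an irreducible character ψ' of G ⧸ N lying in the block of χ. (Over a normal p'-subgroup, blocks of the quotient are whole blocks of G.) -/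
theorem result {G : Type*} [Group G] [Finite G] (p : ℕ) [Fact p.Prime] (M : Ideal Cfsg.AlgInt) (hM : Cfsg.IsPModular p M) (N : Subgroup G) [N.Normal] (hN : ¬ p ∣ Nat.card N) (χ : Cfsg.IrrCharacter (G ⧸ N)) (ψ : Cfsg.IrrCharacter G) (hψ : ψ ∈ Cfsg.blockOf M ((χ : G ⧸ N → ℂ) ∘ QuotientGroup.mk)) : ∃ ψ' : Cfsg.IrrCharacter (G ⧸ N), (ψ : G → ℂ) = (ψ' : G ⧸ N → ℂ) ∘ QuotientGroup.mk ∧ Cfsg.SameBlock M (χ : G ⧸ N → ℂ) (ψ' : G ⧸ N → ℂ) := by
  classical
  have : Fintype G := Fintype.ofFinite G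
  have : Fintype N := Fintype.ofFinite N
  have : Fintype (G ⧸ N) := Fintype.ofFinite _
  have hp : p.Prime := Fact.out
  have hcopN : (Nat.card N).Coprime p := ((Nat.Prime.coprime_iff_not_dvd hp).mpr hN).symm
  have hN0 : (Nat.card N : ℂ) ≠ 0 := Nat.cast_ne_zero.mpr Nat.card_pos.ne'
  have hsb : SameBlock M ((χ : G ⧸ N → ℂ) ∘ QuotientGroup.mk) (ψ : G → ℂ) := hψ
  have hχcf : IsClassFunction (G ⧸ N) (χ : G ⧸ N → ℂ) :=
    Cfsg.Agent.Lib.Helper26.isClassFunction_of_isIrrCharacter χ.2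
  have hχtcf : IsClassFunction G ((χ : G ⧸ N → ℂ) ∘ QuotientGroup.mk) := by
    intro g k
    show (χ : G ⧸ N → ℂ) ((k * g * k⁻¹ : G) : G ⧸ N) = (χ : G ⧸ N → ℂ) (g : G ⧸ N)
    rw [QuotientGroup.mk_mul, QuotientGroup.mk_mul, QuotientGroup.mk_inv]
    exact hχcf _ _
  have hψcf := Cfsg.Agent.Lib.Helper26.isClassFunction_of_isIrrCharacter ψ.2
  obtain ⟨d, hd0, hd⟩ := irr_degree χ.2
  obtain ⟨e, he0, he⟩ := irr_degree ψ.2
  have hd0' : (χ : G ⧸ N → ℂ) 1 ≠ 0 := by
    rw [hd]
    exact_mod_cast hd0.ne'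
  have he0' : (ψ : G → ℂ) 1 ≠ 0 := by
    rw [he]
    exact_mod_cast he0.ne'
  have hχt1 : ((χ : G ⧸ N → ℂ) ∘ QuotientGroup.mk) (1 : G) = (χ : G ⧸ N → ℂ) 1 := rfl
  -- Step A: N lies in the kernel of ψ
  have hker : ∀ n ∈ N, (ψ : G → ℂ) n = (ψ : G → ℂ) 1 := by
    have hA := key N p M hM hcopN _ _ hχtcf hψcf hsb (fun q => q = 1) (by
      intro q k
      constructor
      · intro h
        have : q = k⁻¹ * (k * q * k⁻¹) * k := by group
        rw [this, h]
        group
      · intro h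
        rw [h]
        group)
    have h1 : ∑ g : G, wt N (fun q => q = 1) g *
        (((χ : G ⧸ N → ℂ) ∘ QuotientGroup.mk) g / ((χ : G ⧸ N → ℂ) ∘ QuotientGroup.mk) 1) = 1 := by
      have := sum_wt_inflate N (fun q => q = 1)
        (fun q => (χ : G ⧸ N → ℂ) q / (χ : G ⧸ N → ℂ) 1)
      rw [hχt1]
      show ∑ g : G, wt N (fun q => q = 1) g *
        ((χ : G ⧸ N → ℂ) (g : G ⧸ N) / (χ : G ⧸ N → ℂ) 1) = 1
      rw [this, Finset.sum_ite_eq' Finset.univ (1 : G ⧸ N), if_pos (Finset.mem_univ _),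
        div_self hd0']
    set r := classInner ((ψ : G → ℂ) ∘ N.subtype) (fun _ => (1 : ℂ)) with hr
    have h2 : ∑ g : G, wt N (fun q => q = 1) g * ((ψ : G → ℂ) g / (ψ : G → ℂ) 1) =
        r / (ψ : G → ℂ) 1 := by
      rw [hr]
      unfold classInner
      have h5 : ∑ n : N, ((ψ : G → ℂ) ∘ N.subtype) n * conj ((fun _ : N => (1 : ℂ)) n) =
          ∑ g : G, if g ∈ N then (ψ : G → ℂ) g else 0 := by
        rw [← Cfsg.Agent.S0868.sum_subtype_eq_sum_ite N (fun g => (ψ : G → ℂ) g)]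
        refine Finset.sum_congr rfl fun n _ => ?_
        simp
      rw [h5, Finset.mul_sum, Finset.sum_div]
      refine Finset.sum_congr rfl fun g _ => ?_
      unfold wt
      have hiff : ((g : G ⧸ N) = 1) ↔ g ∈ N := QuotientGroup.eq_one_iff g
      by_cases hg : g ∈ N
      · rw [if_pos (hiff.mpr hg), if_pos hg]
        field_simp
      · rw [if_neg (fun h => hg (hiff.mp h)), if_neg hg, zero_mul, mul_zero, zero_div]
    rw [h1, h2] at hA
    by_cases hr0 : r = 0
    · exfalso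
      rw [hr0, zero_div, sub_zero] at hA
      exact one_not_memLocalIdeal hM hA
    · have hcl := clifford_restrict N ψ.2 (isIrrCharacter_one (G := N)) hr0
      have himg : Finset.univ.image (conjFunN N (fun _ : N => (1 : ℂ))) =
          {fun _ : N => (1 : ℂ)} := by
        ext φ
        simp only [Finset.mem_image, Finset.mem_univ, true_and, Finset.mem_singleton]
        constructor
        · rintro ⟨g, rfl⟩
          rfl
        · rintro rfl
          exact ⟨1, rfl⟩
      rw [himg, Finset.sum_singleton] at hcl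
      have hval : ∀ n : N, (ψ : G → ℂ) n = r := by
        intro n
        have := congrFun hcl n
        simp only [Function.comp_apply, Pi.smul_apply, smul_eq_mul, mul_one] at this
        exact this
      intro n hn
      have h3 := hval ⟨n, hn⟩
      have h4 := hval 1
      rw [h3]
      exact h4.symm
  -- Step B: deflate
  obtain ⟨ψ', hψ'⟩ := exists_deflate_irr N ψ hker
  refine ⟨ψ', ?_, ?_⟩
  · funext g
    exact (hψ' g).symm
  -- Step C: same block in the quotient
  intro x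
  have hψ'cf : IsClassFunction (G ⧸ N) (ψ' : G ⧸ N → ℂ) :=
    Cfsg.Agent.Lib.Helper26.isClassFunction_of_isIrrCharacter ψ'.2
  have hC := key N p M hM hcopN _ _ hχtcf hψcf hsb (fun q => IsConj x q) (by
    intro q k
    have h1 : IsConj q (k * q * k⁻¹) := isConj_iff.mpr ⟨k, rfl⟩
    constructor
    · intro h
      exact h.trans h1.symm
    · intro h
      exact h.trans h1)
  have hgen : ∀ φ : G ⧸ N → ℂ, IsClassFunction (G ⧸ N) φ →
      ∑ g : G, wt N (fun q => IsConj x q) g * (φ (g : G ⧸ N) / φ 1) = centralChar φ x := by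
    intro φ hφ
    rw [sum_wt_inflate N (fun q => IsConj x q) (fun q => φ q / φ 1)]
    have h1 : ∀ q : G ⧸ N, (if IsConj x q then φ q / φ 1 else 0) =
        if IsConj x q then φ x / φ 1 else 0 := by
      intro q
      split_ifs with h
      · rw [Cfsg.Agent.Lib.Helper4.char_eq_of_isConj hφ h]
      · rfl
    rw [Finset.sum_congr rfl (fun q _ => h1 q), ← Finset.sum_filter, Finset.sum_const,
      nsmul_eq_mul]
    unfold centralChar
    rw [← ncard_conj_eq_index, Set.ncard_eq_toFinset_card']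
    rw [mul_div_assoc]
    congr 2
    congr 1
    ext q
    simp
  have h1 := hgen (χ : G ⧸ N → ℂ) hχcf
  have h2 := hgen (ψ' : G ⧸ N → ℂ) hψ'cf
  have h3 : ∑ g : G, wt N (fun q => IsConj x q) g * ((ψ : G → ℂ) g / (ψ : G → ℂ) 1) =
      centralChar (ψ' : G ⧸ N → ℂ) x := by
    rw [← h2]
    refine Finset.sum_congr rfl fun g _ => ?_
    rw [hψ' g, ← hψ' 1]
    rfl
  have h4 : ∑ g : G, wt N (fun q => IsConj x q) g *
      (((χ : G ⧸ N → ℂ) ∘ QuotientGroup.mk) g / ((χ : G ⧸ N → ℂ) ∘ QuotientGroup.mk) 1) =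
      centralChar (χ : G ⧸ N → ℂ) x := by
    rw [← h1]
    rfl
  rw [h3, h4] at hC
  exact hC

end Cfsg.Agent.S0967
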