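import Cfsg.Statements.S0985
import Cfsg.Agent.Lib.Helper9.OrbitCount

set_option autoImplicit false
open Cfsg

namespace Cfsg.Agent.S0985

open Cfsg.Agent.Lib.Helper9

/-- stabiliser of a Sylow subgroup `R` under the conjugation action of a Sylow subgroup `P`. -/
theorem stabilizer_eq {G : Type*} [Group G] (p : ℕ) [Fact p.Prime] (P R : Sylow p G) :
    MulAction.stabilizer (P : Subgroup G) R = (R : Subgroup G).subgroupOf (P : Subgroup G) := by
  ext ⟨g, hg⟩
  rw [MulAction.mem_stabilizer_iff, Subgroup.mem_subgroupOf]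
  show g • R = R ↔ g ∈ (R : Subgroup G)
  rw [Sylow.smul_eq_iff_mem_normalizer]
  have h := P.2.inf_normalizer_sylow R
  constructor
  · intro hn
    exact (h.le ⟨hg, hn⟩).2
  · intro hr
    exact (h.ge ⟨hg, hr⟩).2

/-- If the number of Sylow p-subgroups of a finite group is not congruent to 1 modulo p^k, then there are two distinct Sylow p-subgroups P and R such that the index of P ∩ R in P is at most p^(k-1). -/
theorem result {G : Type*} [Group G] [Finite G] (p k : ℕ) [Fact p.Prime] (h : ¬ Nat.card (Sylow p G) ≡ 1 [MOD p ^ k]) : ∃ P R : Sylow p G, P ≠ R ∧ ((R : Subgroup G).subgroupOf (P : Subgroup G)).index ≤ p ^ (k - 1) := by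
  classical
  have hp : p.Prime := Fact.out
  obtain ⟨P⟩ : Nonempty (Sylow p G) := inferInstance
  by_contra hcon
  push Not at hcon
  apply h
  have hk : k ≠ 0 := by
    rintro rfl
    apply h
    rw [pow_zero]; exact Nat.modEq_one
  -- fixed points of P acting on Sylow p G are exactly {P}
  have hfix : ∀ Q : Sylow p G, Q ∈ MulAction.fixedPoints (P : Subgroup G) (Sylow p G) ↔ Q = P := by
    intro Q
    rw [P.2.sylow_mem_fixedPoints_iff]
    constructor
    · intro hle
      exact Sylow.ext (P.3 Q.2 hle)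
    · rintro rfl; exact le_rfl
  have hcardfix : Nat.card (MulAction.fixedPoints (P : Subgroup G) (Sylow p G)) = 1 := by
    rw [Nat.card_eq_one_iff_unique]
    refine ⟨⟨?_⟩, ⟨⟨P, (hfix P).mpr rfl⟩⟩⟩
    rintro ⟨a, ha⟩ ⟨b, hb⟩
    apply Subtype.ext
    exact ((hfix a).mp ha).trans ((hfix b).mp hb).symm
  have key := card_modEq_card_fixedPoints_of_dvd (H := (P : Subgroup G)) (α := Sylow p G) (p ^ k) ?_
  · rw [hcardfix] at key
    exact key
  intro R hR
  have hRP : P ≠ R := fun hPR => hR ((hfix R).mpr hPR.symm)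
  have hlt := hcon P R hRP
  -- orbit size = index of stabiliser
  have hidx : Nat.card (MulAction.orbit (P : Subgroup G) R) =
      ((R : Subgroup G).subgroupOf (P : Subgroup G)).index := by
    rw [← stabilizer_eq, MulAction.index_stabilizer, Nat.card_coe_set_eq]
  rw [hidx]
  obtain ⟨n, hn⟩ := P.2.index ((R : Subgroup G).subgroupOf (P : Subgroup G))
  rw [hn] at hlt ⊢
  have hkn : k - 1 < n := (Nat.pow_lt_pow_iff_right hp.one_lt).mp hlt
  exact pow_dvd_pow p (by omega)

end Cfsg.Agent.S0985
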