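import Cfsg.Statements.S0986
import Mathlib
-- import your own Cfsg.Agent.* helpers here

set_option autoImplicit false
open Cfsg

namespace Cfsg.Agent.S0986

/-- Normalizers grow in Sylow subgroups: a proper subgroup `D` of a Sylow subgroup `P`
is properly contained in `N_P(D)`. -/
theorem exists_mem_normalizer_not_mem {G : Type*} [Group G] [Finite G] (p : ℕ) [Fact p.Prime]
    (P : Sylow p G) (D : Subgroup G) (hDP : D ≤ (P : Subgroup G)) (hne : D ≠ (P : Subgroup G)) :
    ∃ x ∈ (P : Subgroup G), x ∈ Subgroup.normalizer (D : Set G) ∧ x ∉ D := by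
  have hnil : Group.IsNilpotent (P : Subgroup G) := IsPGroup.isNilpotent P.2
  have hnc : NormalizerCondition (P : Subgroup G) := Group.normalizerCondition_of_isNilpotent
  have hlt : D.subgroupOf (P : Subgroup G) < ⊤ := by
    rw [lt_top_iff_ne_top]
    intro h
    rw [Subgroup.subgroupOf_eq_top] at h
    exact hne (le_antisymm hDP h)
  have h2 := hnc _ hlt
  obtain ⟨x, hxn, hxd⟩ := SetLike.exists_of_lt h2
  refine ⟨x.1, x.2, ?_, ?_⟩
  · rw [Subgroup.mem_normalizer_iff] at hxn ⊢
    intro g
    constructor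
    · intro hg
      have := (hxn ⟨g, hDP hg⟩).mp (by rw [Subgroup.mem_subgroupOf]; exact hg)
      rw [Subgroup.mem_subgroupOf] at this
      exact this
    · intro hg
      have hgP : g ∈ (P : Subgroup G) := by
        have h1 : (x : G) * g * (x : G)⁻¹ ∈ (P : Subgroup G) := hDP hg
        have : g = (x : G)⁻¹ * ((x : G) * g * (x : G)⁻¹) * (x : G) := by group
        rw [this]
        exact Subgroup.mul_mem _ (Subgroup.mul_mem _ (Subgroup.inv_mem _ x.2) h1) x.2
      have := (hxn ⟨g, hgP⟩).mpr (by rw [Subgroup.mem_subgroupOf]; exact hg)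
      rw [Subgroup.mem_subgroupOf] at this
      exact this
  · intro h
    apply hxd
    rw [Subgroup.mem_subgroupOf]
    exact h

theorem aux {G : Type*} [Group G] [Finite G] (p : ℕ) [Fact p.Prime] (P Q : Sylow p G)
    (hPQ : P ≠ Q) (D N : Subgroup G) (hD : D = (P : Subgroup G) ⊓ (Q : Subgroup G))
    (hN : N = Subgroup.normalizer (D : Set G))
    (hmax : ∀ P' Q' : Sylow p G, P' ≠ Q' →
      Nat.card ↥((P' : Subgroup G) ⊓ (Q' : Subgroup G)) ≤ Nat.card ↥D) :
    1 < Nat.card (Sylow p ↥N) ∧
    (∀ S T : Sylow p ↥N, S ≠ T → (S : Subgroup N) ⊓ (T : Subgroup N) = D.subgroupOf N) ∧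
    ∀ S : Sylow p ↥N, ∃! T : Sylow p G, (S : Subgroup N).map N.subtype ≤ (T : Subgroup G) := by
  have hDP : D ≤ (P : Subgroup G) := hD ▸ inf_le_left
  have hDQ : D ≤ (Q : Subgroup G) := hD ▸ inf_le_right
  have hDN : D ≤ N := hN ▸ Subgroup.le_normalizer
  have hDneP : D ≠ (P : Subgroup G) := by
    intro h
    apply hPQ
    have hle : (P : Subgroup G) ≤ (Q : Subgroup G) := h ▸ hDQ
    exact Sylow.ext (P.3 Q.2 hle).symm
  have hDneQ : D ≠ (Q : Subgroup G) := by
    intro h
    apply hPQ
    have hle : (Q : Subgroup G) ≤ (P : Subgroup G) := h ▸ hDP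
    exact Sylow.ext (Q.3 P.2 hle)
  -- common cardinality of the Sylow subgroups of N
  set c := p ^ (Nat.card N).factorization p with hc
  have hcard : ∀ S : Sylow p ↥N, Nat.card (S : Subgroup N) = c := fun S => S.card_eq_multiplicity
  -- key: for a Sylow R of G with D < R ⊓ N ... we get card D < c
  have hgrow : ∀ R : Sylow p G, D ≤ (R : Subgroup G) → D ≠ (R : Subgroup G) →
      ∃ S : Sylow p ↥N, ((R : Subgroup G) ⊓ N).subgroupOf N ≤ (S : Subgroup N) ∧
        Nat.card D < Nat.card ((R : Subgroup G) ⊓ N : Subgroup G) := by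
    intro R hDR hne
    obtain ⟨x, hxR, hxN, hxD⟩ := exists_mem_normalizer_not_mem p R D hDR hne
    have hK : IsPGroup p (((R : Subgroup G) ⊓ N).subgroupOf N) := by
      have : IsPGroup p ((R : Subgroup G) ⊓ N : Subgroup G) := R.2.to_le inf_le_left
      exact this.comap_of_injective N.subtype N.subtype_injective
    obtain ⟨S, hS⟩ := hK.exists_le_sylow
    refine ⟨S, hS, ?_⟩
    have hle : D ≤ (R : Subgroup G) ⊓ N := le_inf hDR hDN
    by_contra hnot
    push Not at hnot
    have heq := Subgroup.eq_of_le_of_card_ge hle hnot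
    apply hxD
    rw [heq]
    exact ⟨hxR, hN ▸ hxN⟩
  have hcD : Nat.card D < c := by
    obtain ⟨S, hS, hlt⟩ := hgrow P hDP hDneP
    have h1 : Nat.card (((P : Subgroup G) ⊓ N).subgroupOf N) ≤ Nat.card (S : Subgroup N) :=
      Subgroup.card_le_of_le hS
    have h2 : Nat.card (((P : Subgroup G) ⊓ N).subgroupOf N) =
        Nat.card ((P : Subgroup G) ⊓ N : Subgroup G) :=
      Nat.card_congr (Subgroup.subgroupOfEquivOfLe inf_le_right).toEquiv
    rw [hcard S] at h1
    omega
  -- (c) uniqueness of the Sylow of G above a Sylow of N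
  have hmapcard : ∀ S : Sylow p ↥N, Nat.card ((S : Subgroup N).map N.subtype) = c := by
    intro S
    rw [← hcard S]
    exact (Nat.card_congr ((S : Subgroup N).equivMapOfInjective N.subtype
      N.subtype_injective).toEquiv).symm
  have huniq : ∀ S : Sylow p ↥N, ∀ T T' : Sylow p G,
      (S : Subgroup N).map N.subtype ≤ (T : Subgroup G) →
      (S : Subgroup N).map N.subtype ≤ (T' : Subgroup G) → T = T' := by
    intro S T T' hT hT'
    by_contra hne
    have h1 := hmax T T' hne
    have h2 : Nat.card ((S : Subgroup N).map N.subtype) ≤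
        Nat.card ((T : Subgroup G) ⊓ (T' : Subgroup G) : Subgroup G) :=
      Subgroup.card_le_of_le (le_inf hT hT')
    rw [hmapcard S] at h2
    omega
  have hex : ∀ S : Sylow p ↥N, ∃ T : Sylow p G, (S : Subgroup N).map N.subtype ≤ (T : Subgroup G) := by
    intro S
    have : IsPGroup p ((S : Subgroup N).map N.subtype) := S.2.map N.subtype
    exact this.exists_le_sylow
  have hc3 : ∀ S : Sylow p ↥N, ∃! T : Sylow p G, (S : Subgroup N).map N.subtype ≤ (T : Subgroup G) := by
    intro S
    obtain ⟨T, hT⟩ := hex S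
    exact ⟨T, hT, fun T' hT' => huniq S T' T hT' hT⟩
  -- D.subgroupOf N lies in every Sylow of N
  have hDnormal : (D.subgroupOf N).Normal := by
    rw [hN]; exact Subgroup.normal_in_normalizer
  have hDp : IsPGroup p (D.subgroupOf N) := by
    have : IsPGroup p D := P.2.to_le hDP
    exact this.comap_of_injective N.subtype N.subtype_injective
  have hDS : ∀ S : Sylow p ↥N, D.subgroupOf N ≤ (S : Subgroup N) := fun S =>
    hDp.le_sylow_of_normal S
  -- a Sylow of N is determined by the Sylow of G above it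
  have hdet : ∀ S T : Sylow p ↥N, ∀ R : Sylow p G,
      (S : Subgroup N).map N.subtype ≤ (R : Subgroup G) →
      (T : Subgroup N).map N.subtype ≤ (R : Subgroup G) → S = T := by
    intro S T R hS hT
    have hRp : IsPGroup p ((R : Subgroup G).subgroupOf N) :=
      R.2.comap_of_injective N.subtype N.subtype_injective
    have hS' : (S : Subgroup N) ≤ (R : Subgroup G).subgroupOf N := by
      intro y hy
      rw [Subgroup.mem_subgroupOf]
      exact hS ⟨y, hy, rfl⟩
    have hT' : (T : Subgroup N) ≤ (R : Subgroup G).subgroupOf N := by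
      intro y hy
      rw [Subgroup.mem_subgroupOf]
      exact hT ⟨y, hy, rfl⟩
    have e1 := S.3 hRp hS'
    have e2 := T.3 hRp hT'
    exact Sylow.ext (e1.symm.trans e2).symm |>.symm
  refine ⟨?_, ?_, hc3⟩
  · -- more than one Sylow
    by_contra hle
    push Not at hle
    have hsub : Subsingleton (Sylow p ↥N) := by
      have hpos : 0 < Nat.card (Sylow p ↥N) := Nat.card_pos
      have : Nat.card (Sylow p ↥N) = 1 := by omega
      exact (Nat.card_eq_one_iff_unique.mp this).1
    obtain ⟨S, hS, hltP⟩ := hgrow P hDP hDneP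
    obtain ⟨S₁, hS₁, hltQ⟩ := hgrow Q hDQ hDneQ
    have hSS : S₁ = S := Subsingleton.elim _ _
    subst hSS
    obtain ⟨R, hR⟩ := hex S₁
    have hPR : P = R := by
      by_contra hne
      have h1 := hmax P R hne
      have h2 : (P : Subgroup G) ⊓ N ≤ (P : Subgroup G) ⊓ (R : Subgroup G) := by
        intro y hy
        refine ⟨hy.1, ?_⟩
        apply hR
        exact ⟨⟨y, hy.2⟩, hS (by rw [Subgroup.mem_subgroupOf]; exact hy), rfl⟩
      have h3 := Subgroup.card_le_of_le h2
      omega
    have hQR : Q = R := by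
      by_contra hne
      have h1 := hmax Q R hne
      have h2 : (Q : Subgroup G) ⊓ N ≤ (Q : Subgroup G) ⊓ (R : Subgroup G) := by
        intro y hy
        refine ⟨hy.1, ?_⟩
        apply hR
        exact ⟨⟨y, hy.2⟩, hS₁ (by rw [Subgroup.mem_subgroupOf]; exact hy), rfl⟩
      have h3 := Subgroup.card_le_of_le h2
      omega
    exact hPQ (hPR.trans hQR.symm)
  · intro S T hST
    obtain ⟨S', hS'⟩ := hex S
    obtain ⟨T', hT'⟩ := hex T
    have hne : S' ≠ T' := by
      intro h
      subst h
      exact hST (hdet S T S' hS' hT')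
    apply le_antisymm
    · intro y hy
      rw [Subgroup.mem_subgroupOf]
      have hy' : (y : G) ∈ (S' : Subgroup G) ⊓ (T' : Subgroup G) :=
        ⟨hS' ⟨y, hy.1, rfl⟩, hT' ⟨y, hy.2, rfl⟩⟩
      have hDle : D ≤ (S' : Subgroup G) ⊓ (T' : Subgroup G) := by
        intro d hd
        have hdN : d ∈ N := hDN hd
        have hm : (⟨d, hdN⟩ : N) ∈ D.subgroupOf N := by rw [Subgroup.mem_subgroupOf]; exact hd
        exact ⟨hS' ⟨⟨d, hdN⟩, hDS S hm, rfl⟩, hT' ⟨⟨d, hdN⟩, hDS T hm, rfl⟩⟩
      have heq := Subgroup.eq_of_le_of_card_ge hDle (hmax S' T' hne)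
      rw [heq]
      exact hy'
    · exact le_inf (hDS S) (hDS T)

/-- Let P and Q be distinct Sylow p-subgroups of a finite group G chosen so that the order of P ∩ Q is as large as possible among intersections of two distinct Sylow p-subgroups, and let N be the normalizer of P ∩ Q. Then N has more than one Sylow p-subgroup, any two distinct Sylow p-subgroups of N intersect exactly in P ∩ Q, and each Sylow p-subgroup of N lies in exactly one Sylow p-subgroup of G. -/
theorem result {G : Type*} [Group G] [Finite G] (p : ℕ) [Fact p.Prime] (P Q : Sylow p G) (hPQ : P ≠ Q) (hmax : ∀ P' Q' : Sylow p G, P' ≠ Q' → Nat.card ↥((P' : Subgroup G) ⊓ (Q' : Subgroup G)) ≤ Nat.card ↥((P : Subgroup G) ⊓ (Q : Subgroup G))) : 1 < Nat.card (Sylow p ↥(Subgroup.normalizer (((P : Subgroup G) ⊓ (Q : Subgroup G) : Subgroup G) : Set G))) ∧ (∀ S T : Sylow p ↥(Subgroup.normalizer (((P : Subgroup G) ⊓ (Q : Subgroup G) : Subgroup G) : Set G)), S ≠ T → (S : Subgroup _) ⊓ (T : Subgroup _) = ((P : Subgroup G) ⊓ (Q : Subgroup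 G)).subgroupOf (Subgroup.normalizer (((P : Subgroup G) ⊓ (Q : Subgroup G) : Subgroup G) : Set G))) ∧ ∀ S : Sylow p ↥(Subgroup.normalizer (((P : Subgroup G) ⊓ (Q : Subgroup G) : Subgroup G) : Set G)), ∃! T : Sylow p G, (S : Subgroup _).map (Subgroup.normalizer (((P : Subgroup G) ⊓ (Q : Subgroup G) : Subgroup G) : Set G)).subtype ≤ (T : Subgroup G) :=
  aux p P Q hPQ _ _ rfl rfl hmax

end Cfsg.Agent.S0986
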