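import Cfsg.Statements.S0987
import Cfsg.Agent.Lib.Helper9.SylowBasic

set_option autoImplicit false
open Cfsg

namespace Cfsg.Agent.S0987

open Cfsg.Agent.Lib.Helper9

theorem factorization_three {a b c : ℕ} (ha : a.Prime) (hb : b.Prime) (hc : c.Prime)
    (hab : a ≠ c) (hbc : b ≠ c) : (a * b * c).factorization c = 1 := by
  rw [Nat.factorization_mul (Nat.mul_ne_zero ha.ne_zero hb.ne_zero) hc.ne_zero,
    Nat.factorization_mul ha.ne_zero hb.ne_zero]
  simp only [Finsupp.coe_add, Pi.add_apply]
  rw [hc.factorization_self, Nat.factorization_eq_zero_of_not_dvd, Nat.factorization_eq_zero_of_not_dvd]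
  · intro h
    exact hbc ((Nat.prime_dvd_prime_iff_eq hc hb).mp h).symm
  · intro h
    exact hab ((Nat.prime_dvd_prime_iff_eq hc ha).mp h).symm

/-- If a finite group has order pqr for primes p < q < r, then its Sylow r-subgroups are normal. -/
theorem result {G : Type*} [Group G] [Finite G] (p q r : ℕ) (hp : p.Prime) (hq : q.Prime) [Fact r.Prime] (hpq : p < q) (hqr : q < r) (hG : Nat.card G = p * q * r) (R : Sylow r G) : (R : Subgroup G).Normal := by
  have hr : r.Prime := Fact.out
  haveI : Fact p.Prime := ⟨hp⟩
  -- the smallest prime factor is p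
  have hmin : (Nat.card G).minFac = p := by
    have h1 : (Nat.card G).minFac ∣ p * q * r := hG ▸ Nat.minFac_dvd _
    have hpr : ((Nat.card G).minFac).Prime := Nat.minFac_prime (by
      rw [hG]; intro h
      have : p ∣ 1 := h ▸ Dvd.intro _ (by ring : p * (q * r) = p * q * r)
      exact hp.one_lt.ne' (Nat.dvd_one.mp this))
    have hle : (Nat.card G).minFac ≤ p := Nat.minFac_le_of_dvd hp.two_le (hG ▸ Dvd.intro _ (by ring : p * (q * r) = p * q * r))
    rcases (Nat.Prime.dvd_mul hpr).mp h1 with h | h
    · rcases (Nat.Prime.dvd_mul hpr).mp h with h | h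
      · exact (Nat.prime_dvd_prime_iff_eq hpr hp).mp h
      · have := (Nat.prime_dvd_prime_iff_eq hpr hq).mp h
        omega
    · have := (Nat.prime_dvd_prime_iff_eq hpr hr).mp h
      omega
  obtain ⟨P⟩ : Nonempty (Sylow p G) := inferInstance
  have hPcard : Nat.card (P : Subgroup G) = p := by
    rw [P.card_eq_multiplicity, hG]
    have : (p * q * r).factorization p = 1 := by
      have := factorization_three hq hr hp (by omega) (by omega)
      rwa [show q * r * p = p * q * r by ring] at this
    rw [this, pow_one]
  have hcyc : IsCyclic (P : Subgroup G) := isCyclic_of_prime_card hPcard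
  have hcompl := IsCyclic.isComplement' hmin hcyc
  set K := (MonoidHom.transferSylow P (hcyc.normalizer_le_centralizer hmin)).ker with hK
  have hKn : K.Normal := MonoidHom.normal_ker _
  have hKcard : Nat.card K = q * r := by
    have h := hcompl.card_mul_card
    rw [hPcard, hG] at h
    have hp0 : 0 < p := hp.pos
    have : Nat.card K * p = (q * r) * p := by rw [h]; ring
    exact Nat.eq_of_mul_eq_mul_right hp0 this
  -- the Sylow r-subgroup of K
  obtain ⟨RK⟩ : Nonempty (Sylow r K) := inferInstance
  have hsub : Subsingleton (Sylow r K) := by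
    have := card_sylow_eq_one_of_lt (G := K) (r := r) (m := q) (k := 1) (by rw [hKcard, pow_one])
      hq.pos hqr
    exact (Nat.card_eq_one_iff_unique.mp this).1
  have hchar : (RK : Subgroup K).Characteristic := Sylow.characteristic_of_subsingleton RK
  have hnorm : ((RK : Subgroup K).map K.subtype).Normal :=
    ConjAct.normal_of_characteristic_of_normal
  have hRKcard : Nat.card ((RK : Subgroup K).map K.subtype) = r := by
    rw [← Nat.card_congr ((RK : Subgroup K).equivMapOfInjective K.subtype
      K.subtype_injective).toEquiv, RK.card_eq_multiplicity, hKcard]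
    have : (q * r).factorization r = 1 := by
      rw [Nat.factorization_mul hq.ne_zero hr.ne_zero]
      simp only [Finsupp.coe_add, Pi.add_apply]
      rw [hr.factorization_self, Nat.factorization_eq_zero_of_not_dvd]
      intro h
      have := (Nat.prime_dvd_prime_iff_eq hr hq).mp h
      omega
    rw [this, pow_one]
  have hfac : (Nat.card G).factorization r = 1 := by
    rw [hG]; exact factorization_three hp hq hr (by omega) (by omega)
  let R₀ : Sylow r G := Sylow.ofCard ((RK : Subgroup K).map K.subtype) (by rw [hRKcard, hfac, pow_one])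
  have hR₀ : (R₀ : Subgroup G).Normal := hnorm
  have := sylow_eq_of_normal R₀ R hR₀
  rw [this]
  exact hR₀

end Cfsg.Agent.S0987
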