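import Cfsg.Statements.S0992
import Cfsg.Agent.Lib.Helper9.SimpleTools
import Cfsg.Agent.Lib.Helper9.AutBound

set_option autoImplicit false
open Cfsg

namespace Cfsg.Agent.S0992

open Cfsg.Agent.Lib.Helper9 Subgroup

/-- Let G be a non-abelian finite simple group of even order not divisible by 8, and T a Sylow 2-subgroup. Then T is a Klein four-group and the centralizer of T has index 3 in the normalizer of T. -/
theorem result {G : Type*} [Group G] [Finite G] [IsSimpleGroup G] (hG : ¬ IsMulCommutative G) (h2 : Even (Nat.card G)) (h8 : ¬ 8 ∣ Nat.card G) (T : Sylow 2 G) : IsKleinFour ↥(T : Subgroup G) ∧ (Subgroup.centralizer ((T : Subgroup G) : Set G)).relIndex (Subgroup.normalizer ((T : Subgroup G) : Set G)) = 3 := by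
  have h2' : 2 ∣ Nat.card G := even_iff_two_dvd.mp h2
  have hpos : Nat.card G ≠ 0 := Nat.card_pos.ne'
  -- G is not a 2-group
  have hnp : ∀ k : ℕ, Nat.card G ≠ 2 ^ k := by
    intro k hk
    apply hG
    have hp : IsPGroup 2 G := IsPGroup.of_card hk
    have hnil : Group.IsNilpotent G := hp.isNilpotent
    have hsol : Group.IsSolvable G := inferInstance
    have := IsSimpleGroup.comm_iff_isSolvable.mpr hsol
    exact ⟨⟨this⟩⟩
  -- order of T
  set k := (Nat.card G).factorization 2 with hk
  have hTcard : Nat.card (T : Subgroup G) = 2 ^ k := T.card_eq_multiplicity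
  have hk1 : 1 ≤ k := by
    have := (Nat.Prime.pow_dvd_iff_le_factorization Nat.prime_two hpos (k := 1)).mp (by simpa using h2')
    exact this
  have hk2 : k ≤ 2 := by
    by_contra hlt
    push Not at hlt
    apply h8
    have := (Nat.Prime.pow_dvd_iff_le_factorization Nat.prime_two hpos (k := 3)).mpr (by omega)
    simpa using this
  -- T is not cyclic
  have hncyc : ¬ IsCyclic (T : Subgroup G) := by
    intro hcyc
    have hmin : (Nat.card G).minFac = 2 := (Nat.minFac_eq_two_iff _).mpr h2'
    exact false_of_simple_of_normalizer_le_centralizer T h2' hnp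
      (hcyc.normalizer_le_centralizer hmin)
  have hk2' : k = 2 := by
    by_contra hne
    have : k = 1 := by omega
    apply hncyc
    rw [this, pow_one] at hTcard
    exact isCyclic_of_prime_card hTcard
  rw [hk2'] at hTcard
  have hexp : Monoid.exponent (T : Subgroup G) = 2 :=
    (not_isCyclic_iff_exponent_eq_prime Nat.prime_two hTcard).mp hncyc
  have hK4 : IsKleinFour (T : Subgroup G) := ⟨by rw [hTcard]; norm_num, hexp⟩
  refine ⟨hK4, ?_⟩
  -- the index |N : C|
  have hcomm : IsMulCommutative (T : Subgroup G) := IsKleinFour.isMulCommutative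
  have key := card_dvd_of_injective _
    (QuotientGroup.kerLift_injective (T : Subgroup G).normalizerMonoidHom)
  rw [normalizerMonoidHom_ker, ← index, ← relIndex] at key
  have h6 : (centralizer ((T : Subgroup G) : Set G)).relIndex (normalizer ((T : Subgroup G) : Set G)) ∣ 6 := by
    have := card_mulAut_dvd_factorial (T : Subgroup G)
    rw [hTcard] at this
    exact key.trans this
  have hle : (T : Subgroup G) ≤ centralizer ((T : Subgroup G) : Set G) :=
    (T : Subgroup G).le_centralizer
  have hodd : ¬ 2 ∣ (centralizer ((T : Subgroup G) : Set G)).relIndex (normalizer ((T : Subgroup G) : Set G)) := by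
    intro hd
    have h1 : (centralizer ((T : Subgroup G) : Set G)).relIndex (normalizer ((T : Subgroup G) : Set G)) ∣
        (T : Subgroup G).relIndex (normalizer ((T : Subgroup G) : Set G)) :=
      relIndex_dvd_of_le_left _ hle
    have h3 : (T : Subgroup G).relIndex (normalizer ((T : Subgroup G) : Set G)) ∣ (T : Subgroup G).index :=
      relIndex_dvd_index_of_le le_normalizer
    exact T.not_dvd_index (hd.trans (h1.trans h3))
  have hne1 : (centralizer ((T : Subgroup G) : Set G)).relIndex (normalizer ((T : Subgroup G) : Set G)) ≠ 1 := by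
    intro h1
    exact false_of_simple_of_normalizer_le_centralizer T h2' hnp (relIndex_eq_one.mp h1)
  have : ∀ n ∈ Nat.divisors 6, ¬ 2 ∣ n → n ≠ 1 → n = 3 := by decide
  exact this _ (Nat.mem_divisors.mpr ⟨h6, by norm_num⟩) hodd hne1

end Cfsg.Agent.S0992
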