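import Cfsg.Statements.S0994
import Cfsg.Agent.Lib.Helper9.SimpleTools

set_option autoImplicit false
open Cfsg

namespace Cfsg.Agent.S0994

open Cfsg.Agent.Lib.Helper9

/-- No finite simple group has order 1188 = 2^2 * 3^3 * 11. -/
theorem result {G : Type*} [Group G] [Finite G] [IsSimpleGroup G] : Nat.card G ≠ 1188 := by
  intro hG
  haveI : Fact (Nat.Prime 11) := ⟨by norm_num⟩
  have hcard : Nat.card G = 108 * 11 ^ 1 := by rw [hG]; norm_num
  have h11 : ¬ 11 ∣ 108 := by norm_num
  have hdvd : Nat.card (Sylow 11 G) ∣ 108 := card_sylow_dvd_of_card_eq hcard h11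
  have hmod : Nat.card (Sylow 11 G) ≡ 1 [MOD 11] := card_sylow_modEq_one 11 G
  have hne1 : Nat.card (Sylow 11 G) ≠ 1 :=
    card_sylow_ne_one_of_simple (by rw [hG]; norm_num)
      (ne_pow_of_prime_dvd (by norm_num) (by norm_num : Nat.Prime 2) (by norm_num)
        (by rw [hG]; norm_num))
  have hn : Nat.card (Sylow 11 G) = 12 := by
    have key : ∀ n ∈ Nat.divisors 108, n % 11 = 1 → n ≠ 1 → n = 12 := by decide
    exact key _ (Nat.mem_divisors.mpr ⟨hdvd, by norm_num⟩) hmod hne1
  obtain ⟨P⟩ : Nonempty (Sylow 11 G) := inferInstance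
  have hPcard : Nat.card (P : Subgroup G) = 11 := by
    have := card_sylow_subgroup_of_card_eq hcard h11 P
    simpa using this
  have hN : Nat.card (Subgroup.normalizer ((P : Subgroup G) : Set G)) = 99 := by
    have := card_normalizer_of_card_sylow hcard P hn
    omega
  have hrel : (P : Subgroup G).relIndex (Subgroup.normalizer ((P : Subgroup G) : Set G)) = 9 := by
    have := relIndex_normalizer_mul_card P
    rw [hPcard, hN] at this
    omega
  have hcyc : IsCyclic (P : Subgroup G) := isCyclic_of_prime_card hPcard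
  have hle := normalizer_le_centralizer_of_coprime P hcyc (by
    rw [hrel, hPcard, Nat.totient_prime (by norm_num)]; norm_num)
  exact false_of_simple_of_normalizer_le_centralizer P (by rw [hG]; norm_num)
    (ne_pow_of_prime_dvd (by norm_num) (by norm_num : Nat.Prime 2) (by norm_num)
      (by rw [hG]; norm_num)) hle

end Cfsg.Agent.S0994
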