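import Cfsg.Statements.S0995
import Cfsg.Agent.Lib.Helper9.SimpleTools
import Cfsg.Agent.Lib.Helper9.OrderCount
import Cfsg.Agent.Lib.Helper9.ClassSize

set_option autoImplicit false
open Cfsg

namespace Cfsg.Agent.S0995

open Cfsg.Agent.Lib.Helper9

/-- a non-identity element of a group of prime order `zpowers z` generates it -/
theorem mem_zpowers_of_mem_of_ne_one {G : Type*} [Group G] {p : ℕ} [hp : Fact p.Prime] {z w : G}
    (hz : orderOf z = p) (hw : w ∈ Subgroup.zpowers z) (hw1 : w ≠ 1) :
    z ∈ Subgroup.zpowers w := by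
  have hle : Subgroup.zpowers w ≤ Subgroup.zpowers z := by
    rw [Subgroup.zpowers_le]; exact hw
  haveI : Finite (Subgroup.zpowers z) := by
    apply Nat.finite_of_card_ne_zero
    rw [Nat.card_zpowers, hz]; exact hp.out.ne_zero
  have hd : orderOf w ∣ p := by
    have := orderOf_dvd_natCard (⟨w, hw⟩ : Subgroup.zpowers z)
    rwa [Subgroup.orderOf_mk, Nat.card_zpowers, hz] at this
  have hwp : orderOf w = p := by
    rcases (Nat.dvd_prime hp.out).mp hd with h1 | h1
    · exact absurd (orderOf_eq_one_iff.mp h1) hw1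
    · exact h1
  have heq := Subgroup.eq_of_le_of_card_ge hle (by rw [Nat.card_zpowers, Nat.card_zpowers, hz, hwp])
  rw [heq]
  exact Subgroup.mem_zpowers z

theorem result {G : Type*} [Group G] [Finite G] (hperf : commutator G = ⊤) (p : ℕ) [Fact p.Prime] (z : G) (hz : orderOf z = p) (hC : Subgroup.centralizer ({z} : Set G) = Subgroup.zpowers z) : ∃ n t : ℕ, t = Nat.card {c : ConjClasses G // ∃ g : G, ConjClasses.mk g = c ∧ orderOf g = p} ∧ t ∣ p - 1 ∧ Nat.card (Sylow p G) = 1 + n * p ∧ Nat.card G * t = (p - 1) * p * (1 + n * p) := by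
  classical
  have hp : p.Prime := Fact.out
  have hz1 : z ≠ 1 := by
    intro h; rw [h, orderOf_one] at hz; exact hp.one_lt.ne hz
  have hPcard : Nat.card (Subgroup.zpowers z) = p := by rw [Nat.card_zpowers, hz]
  -- a Sylow subgroup containing z equals zpowers z
  have hsyl : ∀ S : Sylow p G, Nat.card (S : Subgroup G) = p := by
    have hPp : IsPGroup p (Subgroup.zpowers z) := IsPGroup.of_card (n := 1) (by rw [hPcard, pow_one])
    obtain ⟨S, hS⟩ := hPp.exists_le_sylow
    have hzS : z ∈ (S : Subgroup G) := hS (Subgroup.mem_zpowers z)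
    haveI : Nontrivial (S : Subgroup G) := ⟨⟨⟨z, hzS⟩, 1, fun h => hz1 (congrArg Subtype.val h)⟩⟩
    have hcn : Nontrivial (Subgroup.center (S : Subgroup G)) := S.2.center_nontrivial
    obtain ⟨c, hc1⟩ := exists_ne (1 : Subgroup.center (S : Subgroup G))
    have hcc : (c : (S : Subgroup G)) ∈ Subgroup.center (S : Subgroup G) := c.2
    rw [Subgroup.mem_center_iff] at hcc
    have hcG1 : ((c : (S : Subgroup G)) : G) ≠ 1 := by
      intro h
      apply hc1
      apply Subtype.ext
      apply Subtype.ext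
      exact h
    have hcz : ((c : (S : Subgroup G)) : G) ∈ Subgroup.zpowers z := by
      rw [← hC, Subgroup.mem_centralizer_singleton_iff]
      have := hcc ⟨z, hzS⟩
      exact (congrArg Subtype.val this).symm
    have hzc := mem_zpowers_of_mem_of_ne_one hz hcz hcG1
    have hcent := centralizer_singleton_eq_of_mem_zpowers hcz hzc
    have hSle : (S : Subgroup G) ≤ Subgroup.zpowers z := by
      intro s hs
      rw [← hC, ← hcent, Subgroup.mem_centralizer_singleton_iff]
      have := hcc ⟨s, hs⟩
      exact congrArg Subtype.val this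
    have hSeq : (S : Subgroup G) = Subgroup.zpowers z := le_antisymm hSle hS
    intro S'
    rw [S'.card_eq_multiplicity, ← S.card_eq_multiplicity, hSeq, hPcard]
  have hmult : p = p ^ (Nat.card G).factorization p := by
    obtain ⟨P⟩ : Nonempty (Sylow p G) := inferInstance
    rw [← P.card_eq_multiplicity, hsyl P]
  -- class sizes of elements of order p
  have hclass : ∀ g : G, orderOf g = p → Nat.card (ConjClasses.mk g).carrier * p = Nat.card G := by
    intro g hg
    let Q : Sylow p G := Sylow.ofCard (Subgroup.zpowers g) (by rw [Nat.card_zpowers, hg]; exact hmult)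
    let P₀ : Sylow p G := Sylow.ofCard (Subgroup.zpowers z) (by rw [hPcard]; exact hmult)
    obtain ⟨x, hx⟩ := MulAction.exists_smul_eq G P₀ Q
    have hgQ : g ∈ (Q : Subgroup G) := by
      rw [Sylow.coe_ofCard]; exact Subgroup.mem_zpowers g
    rw [← hx, Sylow.coe_subgroup_smul, Subgroup.mem_pointwise_smul_iff_inv_smul_mem] at hgQ
    have hw : x⁻¹ * g * x ∈ Subgroup.zpowers z := by
      have : (MulAut.conj x)⁻¹ • g = x⁻¹ * g * x := by
        rw [← map_inv, MulAut.smul_def, MulAut.conj_apply, inv_inv]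
      rw [this, Sylow.coe_ofCard] at hgQ
      exact hgQ
    have hw1 : x⁻¹ * g * x ≠ 1 := by
      intro h
      have : g = x * (x⁻¹ * g * x) * x⁻¹ := by group
      rw [h] at this
      have hg1 : g = 1 := by rw [this]; group
      rw [hg1, orderOf_one] at hg
      exact hp.one_lt.ne hg
    have hzw := mem_zpowers_of_mem_of_ne_one hz hw hw1
    have hcent := centralizer_singleton_eq_of_mem_zpowers hw hzw
    have hconj : ConjClasses.mk g = ConjClasses.mk (x⁻¹ * g * x) := by
      rw [ConjClasses.mk_eq_mk_iff_isConj, isConj_iff]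
      exact ⟨x⁻¹, by group⟩
    have h1 := card_carrier_mul_card_centralizer (x⁻¹ * g * x)
    rw [hcent, hC, hPcard, ← hconj] at h1
    exact h1
  -- counting
  have hcount := card_orderOf_eq_prime_of_sylow_card hsyl
  let T := {c : ConjClasses G // ∃ g : G, ConjClasses.mk g = c ∧ orderOf g = p}
  have hordconj : ∀ (c : T) (g : G), g ∈ c.1.carrier → orderOf g = p := by
    rintro ⟨c, g₀, hg₀, hg₀p⟩ g hg
    rw [ConjClasses.mem_carrier_iff_mk_eq] at hg
    have : IsConj g g₀ := ConjClasses.mk_eq_mk_iff_isConj.mp (hg.trans hg₀.symm)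
    obtain ⟨u, hu⟩ := isConj_iff.mp this
    rw [← hg₀p, ← hu]
    exact ((MulAut.conj u).orderOf_eq g).symm
  let e : {g : G // orderOf g = p} ≃ Σ c : T, c.1.carrier :=
    { toFun := fun g => ⟨⟨ConjClasses.mk g.1, g.1, rfl, g.2⟩, g.1, ConjClasses.mem_carrier_mk⟩
      invFun := fun x => ⟨x.2.1, hordconj x.1 x.2.1 x.2.2⟩
      left_inv := fun g => rfl
      right_inv := by
        rintro ⟨⟨c, hc⟩, g, hg⟩
        have hgc : ConjClasses.mk g = c := ConjClasses.mem_carrier_iff_mk_eq.mp hg
        subst hgc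
        rfl }
  have hsum : Nat.card {g : G // orderOf g = p} * p = Nat.card T * Nat.card G := by
    have := Fintype.ofFinite T
    rw [Nat.card_congr e, Nat.card_sigma, Finset.sum_mul]
    have : ∀ c : T, Nat.card c.1.carrier * p = Nat.card G := by
      rintro ⟨c, g₀, hg₀, hg₀p⟩
      subst hg₀
      exact hclass g₀ hg₀p
    simp only [this]
    rw [Finset.sum_const, Finset.card_univ, smul_eq_mul, Nat.card_eq_fintype_card (α := T)]
  -- arithmetic
  obtain ⟨P⟩ : Nonempty (Sylow p G) := inferInstance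
  have hmod : Nat.card (Sylow p G) ≡ 1 [MOD p] := card_sylow_modEq_one p G
  have hnpos : 0 < Nat.card (Sylow p G) := Nat.card_pos
  obtain ⟨n, hn⟩ : ∃ n, Nat.card (Sylow p G) = 1 + n * p := by
    have h1 : 1 ≤ Nat.card (Sylow p G) := hnpos
    have := (Nat.modEq_iff_dvd' h1).mp hmod.symm
    obtain ⟨n, hn⟩ := this
    exact ⟨n, by rw [mul_comm n p]; omega⟩
  refine ⟨n, Nat.card T, rfl, ?_, hn, ?_⟩
  · -- t ∣ p - 1
    have hN := card_sylow_mul_card_normalizer P
    have hr := relIndex_normalizer_mul_card P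
    rw [hsyl P] at hr
    rw [hcount] at hsum
    -- n_p * (p-1) * p = t * (n_p * (r * p))
    rw [← hN, ← hr] at hsum
    have h3 : Nat.card (Sylow p G) * p * (p - 1) = Nat.card (Sylow p G) * p *
        (Nat.card T * (P : Subgroup G).relIndex (Subgroup.normalizer ((P : Subgroup G) : Set G))) := by
      calc Nat.card (Sylow p G) * p * (p - 1) = Nat.card (Sylow p G) * (p - 1) * p := by ring
        _ = _ := hsum
        _ = _ := by ring
    have h4 := Nat.eq_of_mul_eq_mul_left (Nat.mul_pos hnpos hp.pos) h3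
    exact Dvd.intro _ h4.symm
  · rw [← hn, mul_comm (Nat.card G), ← hsum, hcount]; ring

end Cfsg.Agent.S0995
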