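import Mathlib
import Cfsg.Statements.S1002
import Cfsg.Agent.Lib.Helper9.SimpleTools
import Cfsg.Agent.Lib.Helper9.OrderCount
import Cfsg.Agent.Lib.Helper2.Order168

set_option autoImplicit false
open Cfsg

namespace Cfsg.Agent.S1002

open Cfsg.Agent.Lib.Helper9

section general

variable {G : Type*} [Group G]

/-- A subgroup of prime order is generated by any of its nontrivial elements. -/
theorem eq_zpowers_of_mem {p : ℕ} (hp : p.Prime) {K : Subgroup G} (hK : Nat.card K = p) {c : G}
    (hc : c ∈ K) (hc1 : c ≠ 1) : K = Subgroup.zpowers c := by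
  haveI : Finite K := Nat.finite_of_card_ne_zero (by rw [hK]; exact hp.ne_zero)
  have hle : Subgroup.zpowers c ≤ K := (Subgroup.zpowers_le).mpr hc
  have hd : orderOf c ∣ p := by
    have := orderOf_dvd_natCard (⟨c, hc⟩ : K)
    rwa [Subgroup.orderOf_mk, hK] at this
  have ho : orderOf c = p := by
    rcases (Nat.dvd_prime hp).mp hd with h | h
    · exact absurd (orderOf_eq_one_iff.mp h) hc1
    · exact h
  symm
  apply Subgroup.eq_of_le_of_card_ge hle
  rw [Nat.card_zpowers, ho, hK]

end general

section main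

variable {G : Type*} [Group G] [Finite G]

instance fact409 : Fact (Nat.Prime 409) := ⟨by norm_num⟩
instance fact13 : Fact (Nat.Prime 13) := ⟨by norm_num⟩
instance fact7 : Fact (Nat.Prime 7) := ⟨by norm_num⟩
instance fact3 : Fact (Nat.Prime 3) := ⟨by norm_num⟩

theorem hnp (hG : Nat.card G = 1004913) (p : ℕ) (hp : p.Prime) (h3 : p ≠ 3) :
    ∀ k : ℕ, Nat.card G ≠ p ^ k :=
  ne_pow_of_prime_dvd hp (by norm_num : Nat.Prime 3) h3 (by rw [hG]; norm_num)

variable [IsSimpleGroup G]

theorem sylow409_card (hG : Nat.card G = 1004913) (Q : Sylow 409 G) :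
    Nat.card (Q : Subgroup G) = 409 := by
  have hcard : Nat.card G = 2457 * 409 ^ 1 := by rw [hG]; norm_num
  have := card_sylow_subgroup_of_card_eq hcard (by norm_num) Q
  simpa using this

theorem n409 (hG : Nat.card G = 1004913) : Nat.card (Sylow 409 G) = 819 := by
  have hcard : Nat.card G = 2457 * 409 ^ 1 := by rw [hG]; norm_num
  have hdvd : Nat.card (Sylow 409 G) ∣ 2457 := card_sylow_dvd_of_card_eq hcard (by norm_num)
  have hmod : Nat.card (Sylow 409 G) ≡ 1 [MOD 409] := card_sylow_modEq_one 409 G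
  have hne1 : Nat.card (Sylow 409 G) ≠ 1 :=
    card_sylow_ne_one_of_simple (by rw [hG]; norm_num) (hnp hG 409 (by norm_num) (by norm_num))
  have hmod' : Nat.card (Sylow 409 G) % 409 = 1 := hmod
  generalize Nat.card (Sylow 409 G) = n at hdvd hmod' hne1
  have hle : n ≤ 2457 := Nat.le_of_dvd (by norm_num) hdvd
  have h1 : n = 409 * (n / 409) + 1 := by have := Nat.div_add_mod n 409; omega
  have h2 : n / 409 ≤ 6 := by omega
  generalize n / 409 = k at h1 h2
  subst h1
  interval_cases k <;> first | rfl | (exfalso; revert hdvd; norm_num; done) | (exfalso; exact hne1 (by norm_num))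

theorem normalizer409_card (hG : Nat.card G = 1004913) (Q : Sylow 409 G) :
    Nat.card (Subgroup.normalizer ((Q : Subgroup G) : Set G)) = 1227 := by
  have h := card_sylow_mul_card_normalizer Q
  rw [n409 hG, hG] at h
  omega

/-- An element of order 409 normalizing a Sylow 409-subgroup lies in it. -/
theorem mem_of_order409 (Q : Sylow 409 G) {g : G} (hg : g ∈ Subgroup.normalizer ((Q : Subgroup G) : Set G))
    (ho : orderOf g = 409) : g ∈ (Q : Subgroup G) := by
  have hP : IsPGroup 409 (Subgroup.zpowers g) := by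
    apply IsPGroup.of_card (n := 1)
    rw [Nat.card_zpowers, ho, pow_one]
  have h := hP.inf_normalizer_sylow Q
  have h1 : g ∈ Subgroup.zpowers g ⊓ Subgroup.normalizer (Q : Set G) :=
    ⟨Subgroup.mem_zpowers g, hg⟩
  rw [h] at h1
  exact h1.2

/-- `C_G(Q) ≤ Q` for a Sylow 409-subgroup (by Burnside's transfer theorem). -/
theorem centralizer409_le (hG : Nat.card G = 1004913) (Q : Sylow 409 G) :
    Subgroup.centralizer ((Q : Subgroup G) : Set G) ≤ (Q : Subgroup G) := by
  by_contra hcon
  apply false_of_simple_of_normalizer_le_centralizer Q (by rw [hG]; norm_num)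
    (hnp hG 409 (by norm_num) (by norm_num))
  -- the centralizer has order 1227
  set C := Subgroup.centralizer ((Q : Subgroup G) : Set G) with hC
  set N := Subgroup.normalizer ((Q : Subgroup G) : Set G) with hN
  have hCN : C ≤ N := Subgroup.centralizer_le_normalizer _
  have hQcomm : IsMulCommutative (Q : Subgroup G) := by
    haveI : Fact (Nat.Prime 409) := fact409
    have hcyc : IsCyclic (Q : Subgroup G) := isCyclic_of_prime_card (sylow409_card hG Q)
    exact hcyc.commutative
  have hQC : (Q : Subgroup G) ≤ C := by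
    intro a ha
    rw [hC, Subgroup.mem_centralizer_iff]
    intro b hb
    have := hQcomm.is_comm.comm (⟨b, hb⟩ : (Q : Subgroup G)) ⟨a, ha⟩
    exact congrArg Subtype.val this
  have h1 : Nat.card C ∣ 1227 := by
    rw [← normalizer409_card hG Q]; exact Subgroup.card_dvd_of_le hCN
  have h2 : 409 ∣ Nat.card C := by
    rw [← sylow409_card hG Q]; exact Subgroup.card_dvd_of_le hQC
  have h3 : Nat.card C ≠ 409 := by
    intro h
    apply hcon
    have : (Q : Subgroup G) = C := Subgroup.eq_of_le_of_card_ge hQC (by rw [h, sylow409_card hG Q])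
    rw [← this]
  have h4 : Nat.card C = 1227 := by
    obtain ⟨k, hk⟩ := h2
    rw [hk] at h1 h3 ⊢
    have hk3 : k ∣ 3 := by
      have : 409 * k ∣ 409 * 3 := by simpa using h1
      exact (Nat.mul_dvd_mul_iff_left (by norm_num)).mp this
    have : k = 1 ∨ k = 3 := (Nat.dvd_prime (by norm_num)).mp hk3
    rcases this with rfl | rfl
    · exact absurd rfl h3
    · norm_num
  have : C = N := Subgroup.eq_of_le_of_card_ge hCN (by rw [h4, hN, normalizer409_card hG Q])
  rw [← this]

/-- Distinct Sylow 409-subgroups: `Q ∩ N(Q') = 1`. -/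
theorem inf_normalizer_eq_bot (hG : Nat.card G = 1004913) (Q Q' : Sylow 409 G) (hne : Q ≠ Q') :
    (Q : Subgroup G) ⊓ Subgroup.normalizer ((Q' : Subgroup G) : Set G) = ⊥ := by
  have h0 : (Q : Subgroup G) ⊓ Subgroup.normalizer ((Q' : Subgroup G) : Set G) =
      (Q : Subgroup G) ⊓ (Q' : Subgroup G) := Q.2.inf_normalizer_sylow Q'
  rw [h0, eq_bot_iff]
  intro c hc
  rw [Subgroup.mem_bot]
  by_contra hc1
  apply hne
  have e1 := eq_zpowers_of_mem (by norm_num : Nat.Prime 409) (sylow409_card hG Q) hc.1 hc1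
  have e2 := eq_zpowers_of_mem (by norm_num : Nat.Prime 409) (sylow409_card hG Q') hc.2 hc1
  exact Sylow.ext (e1.trans e2.symm)

/-- Elements of `N(Q)` outside `Q` have order 3. -/
theorem orderOf_eq_three (hG : Nat.card G = 1004913) (Q : Sylow 409 G) {g : G}
    (hg : g ∈ Subgroup.normalizer ((Q : Subgroup G) : Set G)) (hgQ : g ∉ (Q : Subgroup G)) :
    orderOf g = 3 := by
  set N := Subgroup.normalizer ((Q : Subgroup G) : Set G) with hN
  have hd : orderOf g ∣ 1227 := by
    have := orderOf_dvd_natCard (⟨g, hg⟩ : N)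
    rwa [Subgroup.orderOf_mk, normalizer409_card hG Q] at this
  have hdiv : orderOf g = 1 ∨ orderOf g = 3 ∨ orderOf g = 409 ∨ orderOf g = 1227 := by
    have h1227 : (1227 : ℕ) = 3 * 409 := by norm_num
    rw [h1227] at hd
    obtain ⟨a, b, ha, hb, hab⟩ := (Nat.dvd_mul).mp hd
    rcases (Nat.dvd_prime (by norm_num)).mp ha with rfl | rfl <;>
    rcases (Nat.dvd_prime (by norm_num)).mp hb with rfl | rfl <;> omega
  rcases hdiv with h | h | h | h
  · exfalso; apply hgQ; rw [orderOf_eq_one_iff.mp h]; exact Subgroup.one_mem _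
  · exact h
  · exfalso; exact hgQ (mem_of_order409 Q hg h)
  · exfalso
    apply hgQ
    apply centralizer409_le hG Q
    -- N = zpowers g, so g centralizes Q
    have hle : Subgroup.zpowers g ≤ N := Subgroup.zpowers_le.mpr hg
    have heq : Subgroup.zpowers g = N :=
      Subgroup.eq_of_le_of_card_ge hle (by rw [Nat.card_zpowers, h, hN, normalizer409_card hG Q])
    rw [Subgroup.mem_centralizer_iff]
    intro b hb
    have hbN : b ∈ Subgroup.zpowers g := by rw [heq]; exact Subgroup.le_normalizer hb
    obtain ⟨j, rfl⟩ := Subgroup.mem_zpowers_iff.mp hbN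
    exact (Commute.zpow_left (Commute.refl g) j).eq

/-- An element of order 3 of `N(Q)` normalizes at most 3 Sylow 409-subgroups. -/
theorem card_fixed_le (hG : Nat.card G = 1004913) (Q : Sylow 409 G) (x : G) (hx3 : orderOf x = 3)
    (hxQ : x ∈ Subgroup.normalizer ((Q : Subgroup G) : Set G)) :
    Nat.card {Q' : Sylow 409 G // x ∈ Subgroup.normalizer ((Q' : Subgroup G) : Set G)} ≤ 3 := by
  classical
  -- `x` does not lie in `Q`
  have hxnQ : x ∉ (Q : Subgroup G) := by
    intro h
    have := orderOf_dvd_natCard (⟨x, h⟩ : (Q : Subgroup G))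
    rw [Subgroup.orderOf_mk, hx3, sylow409_card hG Q] at this
    norm_num at this
  let F₀ := {Q' : Sylow 409 G //
    x ∈ Subgroup.normalizer ((Q' : Subgroup G) : Set G) ∧ Q' ≠ Q}
  let φ : F₀ × ↥(Q : Subgroup G) → Sylow 409 G := fun a => (a.2 : G) • a.1.1
  have hφ : Function.Injective φ := by
    rintro ⟨⟨Q₁, hx₁, hne₁⟩, y₁⟩ ⟨⟨Q₂, hx₂, hne₂⟩, y₂⟩ h
    have h' : (y₁ : G) • Q₁ = (y₂ : G) • Q₂ := h
    set z : G := (y₂ : G)⁻¹ * (y₁ : G) with hz
    have hzQ : z ∈ (Q : Subgroup G) := Subgroup.mul_mem _ (Subgroup.inv_mem _ y₂.2) y₁.2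
    have hz12 : z • Q₁ = Q₂ := by
      rw [hz, mul_smul, h', ← mul_smul, inv_mul_cancel, one_smul]
    have hconj : z * x * z⁻¹ ∈ Subgroup.normalizer ((Q₂ : Subgroup G) : Set G) := by
      refine (Sylow.smul_eq_iff_mem_normalizer (g := z * x * z⁻¹) (P := Q₂)).mp ?_
      have hx1' : x • Q₁ = Q₁ := Sylow.smul_eq_iff_mem_normalizer.mpr hx₁
      rw [← hz12, ← mul_smul, mul_assoc, inv_mul_cancel, mul_one, mul_smul, hx1']
    have hcN : z * x * z⁻¹ * x⁻¹ ∈ Subgroup.normalizer ((Q₂ : Subgroup G) : Set G) :=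
      Subgroup.mul_mem _ hconj (Subgroup.inv_mem _ hx₂)
    have hcQ : z * x * z⁻¹ * x⁻¹ ∈ (Q : Subgroup G) := by
      have h1 : x * z⁻¹ * x⁻¹ ∈ (Q : Subgroup G) :=
        (Subgroup.mem_normalizer_iff.mp hxQ z⁻¹).mp (Subgroup.inv_mem _ hzQ)
      have : z * x * z⁻¹ * x⁻¹ = z * (x * z⁻¹ * x⁻¹) := by group
      rw [this]
      exact Subgroup.mul_mem _ hzQ h1
    have hc1 : z * x * z⁻¹ * x⁻¹ = 1 := by
      have := inf_normalizer_eq_bot hG Q Q₂ (Ne.symm hne₂)
      have hmem : z * x * z⁻¹ * x⁻¹ ∈
          (Q : Subgroup G) ⊓ Subgroup.normalizer ((Q₂ : Subgroup G) : Set G) := ⟨hcQ, hcN⟩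
      rw [this] at hmem
      exact Subgroup.mem_bot.mp hmem
    have hcomm : z * x = x * z := by
      have : z * x * z⁻¹ = x := by
        have := congrArg (· * x) hc1
        simpa using this
      calc z * x = z * x * z⁻¹ * z := by group
        _ = x * z := by rw [this]
    have hz1 : z = 1 := by
      by_contra hz1
      apply hxnQ
      apply centralizer409_le hG Q
      have e := eq_zpowers_of_mem (by norm_num : Nat.Prime 409) (sylow409_card hG Q) hzQ hz1
      rw [Subgroup.mem_centralizer_iff]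
      intro b hb
      rw [e] at hb
      obtain ⟨j, rfl⟩ := Subgroup.mem_zpowers_iff.mp hb
      have hc : Commute z x := hcomm
      exact (hc.zpow_left j).eq
    have hy : (y₁ : G) = (y₂ : G) := by
      have : (y₂ : G) * z = (y₁ : G) := by rw [hz]; group
      rw [← this, hz1, mul_one]
    have hQ12 : Q₁ = Q₂ := by rw [← hz12, hz1, one_smul]
    subst hQ12
    have : y₁ = y₂ := Subtype.ext hy
    subst this
    rfl
  have h1 : Nat.card (F₀ × ↥(Q : Subgroup G)) ≤ Nat.card (Sylow 409 G) :=
    Nat.card_le_card_of_injective φ hφ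
  rw [Nat.card_prod, sylow409_card hG Q, n409 hG] at h1
  have hF₀ : Nat.card F₀ ≤ 2 := by omega
  -- from F to Option F₀
  let ψ : {Q' : Sylow 409 G // x ∈ Subgroup.normalizer ((Q' : Subgroup G) : Set G)} → Option F₀ :=
    fun a => if h : a.1 = Q then none else some ⟨a.1, a.2, h⟩
  have hψ : Function.Injective ψ := by
    rintro ⟨a, ha⟩ ⟨b, hb⟩ hab
    by_cases h1 : a = Q <;> by_cases h2 : b = Q
    · exact Subtype.ext (h1.trans h2.symm)
    · simp [ψ, h1, h2] at hab
    · simp [ψ, h1, h2] at hab
    · simp only [ψ, h1, h2, dite_false, Option.some.injEq] at hab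
      have hab' : a = b := by
        have := congrArg (fun t : F₀ => t.1) hab
        exact this
      exact Subtype.ext hab'
  have h2 := Nat.card_le_card_of_injective ψ hψ
  rw [Finite.card_option] at h2
  omega

theorem card_order3_ge (hG : Nat.card G = 1004913) :
    223314 ≤ Nat.card {g : G // orderOf g = 3} := by
  classical
  haveI : Fintype G := Fintype.ofFinite G
  haveI : Fintype (Sylow 409 G) := Fintype.ofFinite _
  have hA : ∀ Q : Sylow 409 G, 818 ≤ (Finset.univ.filter (fun g : G => orderOf g = 3 ∧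
      g ∈ Subgroup.normalizer ((Q : Subgroup G) : Set G))).card := by
    intro Q
    set SN := Finset.univ.filter (fun g : G => g ∈ Subgroup.normalizer ((Q : Subgroup G) : Set G))
      with hSN
    set SQ := Finset.univ.filter (fun g : G => g ∈ (Q : Subgroup G)) with hSQ
    have hsub : SQ ⊆ SN := by
      intro g hg
      rw [hSQ, Finset.mem_filter] at hg
      rw [hSN, Finset.mem_filter]
      exact ⟨Finset.mem_univ _, Subgroup.le_normalizer hg.2⟩
    have hcN : SN.card = 1227 := by
      rw [← normalizer409_card hG Q, Nat.card_eq_fintype_card, Fintype.card_subtype]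
    have hcQ : SQ.card = 409 := by
      rw [← sylow409_card hG Q, Nat.card_eq_fintype_card, Fintype.card_subtype]
    have hsd : (SN \ SQ).card = 818 := by
      rw [Finset.card_sdiff_of_subset hsub, hcN, hcQ]
    rw [← hsd]
    apply Finset.card_le_card
    intro g hg
    rw [Finset.mem_sdiff, hSN, hSQ, Finset.mem_filter, Finset.mem_filter] at hg
    rw [Finset.mem_filter]
    refine ⟨Finset.mem_univ _, orderOf_eq_three hG Q hg.1.2 (fun h => hg.2 ⟨Finset.mem_univ _, h⟩),
      hg.1.2⟩
  have hB : ∀ g : G, orderOf g = 3 → (Finset.univ.filter (fun Q : Sylow 409 G =>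
      g ∈ Subgroup.normalizer ((Q : Subgroup G) : Set G))).card ≤ 3 := by
    intro g hg
    by_cases hex : ∃ Q : Sylow 409 G, g ∈ Subgroup.normalizer ((Q : Subgroup G) : Set G)
    · obtain ⟨Q, hQ⟩ := hex
      have := card_fixed_le hG Q g hg hQ
      rwa [Nat.card_eq_fintype_card, Fintype.card_subtype] at this
    · push Not at hex
      have : Finset.univ.filter (fun Q : Sylow 409 G =>
          g ∈ Subgroup.normalizer ((Q : Subgroup G) : Set G)) = ∅ := by
        apply Finset.filter_false_of_mem
        intro Q _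
        exact hex Q
      rw [this]; simp
  have h1 : ∑ Q : Sylow 409 G, (Finset.univ.filter (fun g : G => orderOf g = 3 ∧
      g ∈ Subgroup.normalizer ((Q : Subgroup G) : Set G))).card =
      ∑ g ∈ Finset.univ.filter (fun g : G => orderOf g = 3), (Finset.univ.filter
        (fun Q : Sylow 409 G => g ∈ Subgroup.normalizer ((Q : Subgroup G) : Set G))).card := by
    simp only [Finset.card_filter]
    rw [Finset.sum_comm, Finset.sum_filter]
    apply Finset.sum_congr rfl
    intro g _
    by_cases hg : orderOf g = 3 <;> simp [hg]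
  have h2 : 819 * 818 ≤ ∑ Q : Sylow 409 G, (Finset.univ.filter (fun g : G => orderOf g = 3 ∧
      g ∈ Subgroup.normalizer ((Q : Subgroup G) : Set G))).card := by
    have : ∑ _Q : Sylow 409 G, 818 = 819 * 818 := by
      rw [Finset.sum_const, Finset.card_univ, ← Nat.card_eq_fintype_card, n409 hG, smul_eq_mul]
    rw [← this]
    exact Finset.sum_le_sum (fun Q _ => hA Q)
  have h3 : ∑ g ∈ Finset.univ.filter (fun g : G => orderOf g = 3), (Finset.univ.filter
      (fun Q : Sylow 409 G => g ∈ Subgroup.normalizer ((Q : Subgroup G) : Set G))).card ≤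
      (Finset.univ.filter (fun g : G => orderOf g = 3)).card * 3 := by
    rw [← smul_eq_mul, ← Finset.sum_const]
    apply Finset.sum_le_sum
    intro g hg
    rw [Finset.mem_filter] at hg
    exact hB g hg.2
  have h4 : Nat.card {g : G // orderOf g = 3} =
      (Finset.univ.filter (fun g : G => orderOf g = 3)).card := by
    rw [Nat.card_eq_fintype_card, Fintype.card_subtype]
  rw [h4]
  rw [h1] at h2
  omega

theorem le_sylow_card (hG : Nat.card G = 1004913) (p : ℕ) [Fact p.Prime]
    (hne : Nat.card (Sylow p G) ≠ 1) : 409 ≤ Nat.card (Sylow p G) := by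
  have h1 := Cfsg.Agent.Lib.Helper2.Order168.card_dvd_factorial (G := G) p hne
  have h2 : 409 ∣ (Nat.card (Sylow p G)).factorial := by
    refine dvd_trans ?_ h1
    rw [hG]; norm_num
  exact (Nat.Prime.dvd_factorial (by norm_num)).mp h2

theorem n13 (hG : Nat.card G = 1004913) : Nat.card (Sylow 13 G) = 25767 := by
  have hcard : Nat.card G = 77301 * 13 ^ 1 := by rw [hG]; norm_num
  have hdvd : Nat.card (Sylow 13 G) ∣ 77301 := card_sylow_dvd_of_card_eq hcard (by norm_num)
  have hmod : Nat.card (Sylow 13 G) ≡ 1 [MOD 13] := card_sylow_modEq_one 13 G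
  have hne1 : Nat.card (Sylow 13 G) ≠ 1 :=
    card_sylow_ne_one_of_simple (by rw [hG]; norm_num) (hnp hG 13 (by norm_num) (by norm_num))
  have hge := le_sylow_card hG 13 hne1
  have hmod' : Nat.card (Sylow 13 G) % 13 = 1 := hmod
  generalize Nat.card (Sylow 13 G) = n at hdvd hmod' hge
  have h77301 : (77301 : ℕ) = 189 * 409 := by norm_num
  rw [h77301] at hdvd
  obtain ⟨a, c, ha, hc, rfl⟩ := (Nat.dvd_mul).mp hdvd
  have hd : Nat.divisors 189 = {1, 3, 7, 9, 21, 27, 63, 189} := by decide
  have ha' : a ∈ Nat.divisors 189 := Nat.mem_divisors.mpr ⟨ha, by norm_num⟩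
  rw [hd] at ha'
  simp only [Finset.mem_insert, Finset.mem_singleton] at ha'
  rcases (Nat.dvd_prime (by norm_num)).mp hc with rfl | rfl
  · rcases ha' with rfl | rfl | rfl | rfl | rfl | rfl | rfl | rfl <;> omega
  · rcases ha' with rfl | rfl | rfl | rfl | rfl | rfl | rfl | rfl <;> omega

theorem n7 (hG : Nat.card G = 1004913) : Nat.card (Sylow 7 G) = 47853 := by
  have hcard : Nat.card G = 143559 * 7 ^ 1 := by rw [hG]; norm_num
  have hdvd : Nat.card (Sylow 7 G) ∣ 143559 := card_sylow_dvd_of_card_eq hcard (by norm_num)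
  have hmod : Nat.card (Sylow 7 G) ≡ 1 [MOD 7] := card_sylow_modEq_one 7 G
  have hne1 : Nat.card (Sylow 7 G) ≠ 1 :=
    card_sylow_ne_one_of_simple (by rw [hG]; norm_num) (hnp hG 7 (by norm_num) (by norm_num))
  have hge := le_sylow_card hG 7 hne1
  have hmod' : Nat.card (Sylow 7 G) % 7 = 1 := hmod
  generalize Nat.card (Sylow 7 G) = n at hdvd hmod' hge
  have h143559 : (143559 : ℕ) = 351 * 409 := by norm_num
  rw [h143559] at hdvd
  obtain ⟨a, c, ha, hc, rfl⟩ := (Nat.dvd_mul).mp hdvd
  have h351 : (351 : ℕ) = 27 * 13 := by norm_num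
  rw [h351] at ha
  obtain ⟨a₁, a₂, ha₁, ha₂, rfl⟩ := (Nat.dvd_mul).mp ha
  have hd : Nat.divisors 27 = {1, 3, 9, 27} := by decide
  have ha' : a₁ ∈ Nat.divisors 27 := Nat.mem_divisors.mpr ⟨ha₁, by norm_num⟩
  rw [hd] at ha'
  simp only [Finset.mem_insert, Finset.mem_singleton] at ha'
  rcases (Nat.dvd_prime (by norm_num)).mp hc with rfl | rfl <;>
  rcases (Nat.dvd_prime (by norm_num)).mp ha₂ with rfl | rfl <;>
  rcases ha' with rfl | rfl | rfl | rfl <;> omega

theorem result {G : Type*} [Group G] [Finite G] [IsSimpleGroup G] : Nat.card G ≠ 1004913 := by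
  intro hG
  classical
  haveI : Fintype G := Fintype.ofFinite G
  have c3 := card_order3_ge hG
  have c409 : Nat.card {g : G // orderOf g = 409} = 819 * 408 := by
    rw [card_orderOf_eq_prime_of_sylow_card (fun Q => sylow409_card hG Q), n409 hG]
  have c13 : Nat.card {g : G // orderOf g = 13} = 25767 * 12 := by
    rw [card_orderOf_eq_prime_of_sylow_card (p := 13) (fun R => by
      have hcard : Nat.card G = 77301 * 13 ^ 1 := by rw [hG]; norm_num
      have := card_sylow_subgroup_of_card_eq hcard (by norm_num) R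
      simpa using this), n13 hG]
  have c7 : Nat.card {g : G // orderOf g = 7} = 47853 * 6 := by
    rw [card_orderOf_eq_prime_of_sylow_card (p := 7) (fun R => by
      have hcard : Nat.card G = 143559 * 7 ^ 1 := by rw [hG]; norm_num
      have := card_sylow_subgroup_of_card_eq hcard (by norm_num) R
      simpa using this), n7 hG]
  have conv : ∀ k : ℕ, Nat.card {g : G // orderOf g = k} =
      ∑ g : G, if orderOf g = k then 1 else 0 := by
    intro k
    rw [Nat.card_eq_fintype_card, Fintype.card_subtype, Finset.card_filter]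
  rw [conv] at c3 c409 c13 c7
  have htot : (∑ g : G, if orderOf g = 3 then 1 else 0) + (∑ g : G, if orderOf g = 7 then 1 else 0) +
      (∑ g : G, if orderOf g = 13 then 1 else 0) + (∑ g : G, if orderOf g = 409 then 1 else 0) ≤
      Nat.card G := by
    rw [← Finset.sum_add_distrib, ← Finset.sum_add_distrib, ← Finset.sum_add_distrib,
      Nat.card_eq_fintype_card, ← Finset.card_univ, Finset.card_eq_sum_ones]
    apply Finset.sum_le_sum
    intro g _
    by_cases h3 : orderOf g = 3
    · simp [h3]
    · by_cases h7 : orderOf g = 7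
      · simp [h7]
      · by_cases h13 : orderOf g = 13
        · simp [h13]
        · simp only [h3, h7, h13, if_false]
          split_ifs <;> omega
  rw [hG] at htot
  omega

end main

end Cfsg.Agent.S1002
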