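import Cfsg.Statements.S1006
import Mathlib
import Cfsg.Agent.Lib.Helper2.Order168d

set_option autoImplicit false
set_option maxHeartbeats 800000
open Cfsg

namespace Cfsg.Agent.S1006

open Cfsg.Agent.Lib.Helper2.Order168

/-- In a simple group of order 168 there are 56 elements of order 3, all conjugate; 42 elements of order 4, all conjugate; and 48 elements of order 7 falling into two conjugacy classes of size 24, an element of order 7 not being conjugate to its inverse. -/
theorem result {G : Type*} [Group G] [Finite G] [IsSimpleGroup G] (h : Nat.card G = 168) : Nat.card {g : G // orderOf g = 3} = 56 ∧ (∀ s t : G, orderOf s = 3 → orderOf t = 3 → IsConj s t) ∧ Nat.card {g : G // orderOf g = 4} = 42 ∧ (∀ s t : G, orderOf s = 4 → orderOf t = 4 → IsConj s t) ∧ Nat.card {g : G // orderOf g = 7} = 48 ∧ ∀ x : G, orderOf x = 7 → Nat.card {g : G // IsConj x g} = 24 ∧ ¬ IsConj x x⁻¹ := by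
  haveI : Fact (Nat.Prime 2) := ⟨by norm_num⟩
  haveI : Fact (Nat.Prime 3) := ⟨by norm_num⟩
  haveI : Fact (Nat.Prime 7) := ⟨by norm_num⟩
  obtain ⟨t, ht⟩ := exists_prime_orderOf_dvd_card' (G := G) 3 (by rw [h]; norm_num)
  obtain ⟨x, hx⟩ := exists_prime_orderOf_dvd_card' (G := G) 7 (by rw [h]; norm_num)
  obtain ⟨T⟩ : Nonempty (Sylow 2 G) := inferInstance
  obtain ⟨a, -, ha⟩ := exists_orderOf_four h T
  have ct : (MulAction.orbit (ConjAct G) t).ncard = 56 := by
    have := card_conj_class t
    rw [card_centralizer_three h ht, h] at this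
    omega
  have ca : (MulAction.orbit (ConjAct G) a).ncard = 42 := by
    have := card_conj_class a
    rw [card_centralizer_four h ha, h] at this
    omega
  have hclass7 : ∀ y : G, orderOf y = 7 → (MulAction.orbit (ConjAct G) y).ncard = 24 := by
    intro y hy
    have := card_conj_class y
    rw [card_centralizer_seven h hy, h] at this
    omega
  have b3 := card_order_ge t
  rw [ht, ct] at b3
  have b4 := card_order_ge a
  rw [ha, ca] at b4
  have b7 : 48 ≤ Nat.card {g : G // orderOf g = 7} := by
    rw [card_order_eq_ncard]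
    have hxi : orderOf x⁻¹ = 7 := by rw [orderOf_inv, hx]
    have hsub : MulAction.orbit (ConjAct G) x ∪ MulAction.orbit (ConjAct G) x⁻¹ ⊆
        {g : G | orderOf g = 7} := by
      apply Set.union_subset
      · have := orbit_subset_order x
        rwa [hx] at this
      · have := orbit_subset_order x⁻¹
        rwa [hxi] at this
    have hdisj : Disjoint (MulAction.orbit (ConjAct G) x) (MulAction.orbit (ConjAct G) x⁻¹) := by
      rw [Set.disjoint_left]
      intro g hg1 hg2
      rw [ConjAct.mem_orbit_conjAct] at hg1 hg2
      exact not_isConj_inv_seven h hx (hg1.symm.trans hg2)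
    have hu := Set.ncard_union_eq hdisj (Set.toFinite _) (Set.toFinite _)
    rw [hclass7 x hx, hclass7 x⁻¹ hxi] at hu
    have := Set.ncard_le_ncard hsub (Set.toFinite _)
    omega
  have hsum := card_by_orders h
  have h2 := card_involutions h
  have n3 : Nat.card {g : G // orderOf g = 3} = 56 := by omega
  have n4 : Nat.card {g : G // orderOf g = 4} = 42 := by omega
  have n7 : Nat.card {g : G // orderOf g = 7} = 48 := by omega
  refine ⟨n3, ?_, n4, ?_, n7, ?_⟩
  · intro s s' hs hs'
    have key := all_conj_of_card (t := t) (le_of_eq (by rw [ht, n3, ct]))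
    exact (key s (by rw [hs, ht])).trans (key s' (by rw [hs', ht])).symm
  · intro s s' hs hs'
    have key := all_conj_of_card (t := a) (le_of_eq (by rw [ha, n4, ca]))
    exact (key s (by rw [hs, ha])).trans (key s' (by rw [hs', ha])).symm
  · intro y hy
    refine ⟨?_, not_isConj_inv_seven h hy⟩
    rw [card_isConj_eq, hclass7 y hy]

end Cfsg.Agent.S1006
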