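import Cfsg.Statements.S1008
import Mathlib
import Cfsg.Agent.Lib.Helper2.Order168h

set_option autoImplicit false
set_option maxHeartbeats 800000
open Cfsg
open scoped Pointwise

namespace Cfsg.Agent.S1008

open Cfsg.Agent.Lib.Helper2.Order168

/-- In a simple group of order 168 every maximal subgroup is either isomorphic to the symmetric group of degree 4 or non-abelian of order 21; the maximal subgroups of order 21 form one conjugacy class and those isomorphic to the symmetric group of degree 4 form exactly two conjugacy classes. -/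
theorem result {G : Type*} [Group G] [Finite G] [IsSimpleGroup G] (h : Nat.card G = 168) : (∀ M : Subgroup G, IsCoatom M → Nonempty (↥M ≃* Equiv.Perm (Fin 4)) ∨ (Nat.card ↥M = 21 ∧ ¬ IsMulCommutative ↥M)) ∧ (∀ M M' : Subgroup G, IsCoatom M → IsCoatom M' → Nat.card ↥M = 21 → Nat.card ↥M' = 21 → ∃ g : G, M' = M.map (MulAut.conj g).toMonoidHom) ∧ ∃ M₁ M₂ : Subgroup G, IsCoatom M₁ ∧ IsCoatom M₂ ∧ Nonempty (↥M₁ ≃* Equiv.Perm (Fin 4)) ∧ Nonempty (↥M₂ ≃* Equiv.Perm (Fin 4)) ∧ (∀ g : G, M₂ ≠ M₁.map (MulAut.conj g).toMonoidHom) ∧ ∀ M : Subgroup G, IsCoatom M → Nonempty (↥M ≃* Equiv.Perm (Fin 4)) → ∃ g : G, M = M₁.map (MulAut.conj g).toMonoidHom ∨ M = M₂.map (MulAut.conj g).toMonoidHom := by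
  haveI : Fact (Nat.Prime 2) := ⟨by norm_num⟩
  refine ⟨?_, ?_, ?_⟩
  · intro M hM
    rcases coatom_card h hM with h21 | h24
    · right
      exact ⟨h21, not_comm_of_card_21 h M h21⟩
    · left
      exact subgroup_card_24_equiv h M h24
  · intro M M' _ _ hc hc'
    exact conj_of_card_21 h M M' hc hc'
  · obtain ⟨T⟩ : Nonempty (Sylow 2 G) := inferInstance
    obtain ⟨⟨U1, hU1T, hU1⟩, ⟨U2, hU2T, hU2⟩, hne, huniv⟩ :=
      Nat.card_eq_two_iff.mp (Cfsg.Agent.S1007.result h T).1
    have hne' : U1 ≠ U2 := fun heq => hne (Subtype.ext heq)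
    have hN1 := card_normalizer_klein h hU1
    have hN2 := card_normalizer_klein h hU2
    refine ⟨Subgroup.normalizer (U1 : Set G), Subgroup.normalizer (U2 : Set G),
      coatom_of_card_24 h _ hN1, coatom_of_card_24 h _ hN2, subgroup_card_24_equiv h _ hN1,
      subgroup_card_24_equiv h _ hN2, ?_, ?_⟩
    · intro g hg
      rw [← normalizer_map_conj] at hg
      have hV := isKleinFour_map hU1 (MulAut.conj g).toMonoidHom (MulAut.conj g).injective
      have := klein_unique_of_normalizer_le h hU2 hV (le_of_eq hg)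
      exact hne' (klein_not_conj h T hU1T hU2T hU1 hU2 g this.symm)
    · intro M hM he
      obtain ⟨e⟩ := he
      obtain ⟨V, hV, hMV⟩ := exists_klein_normalized M e
      have hNV := card_normalizer_klein h hV
      have hM24 : Nat.card M = 24 := by
        rw [Nat.card_congr e.toEquiv, Nat.card_perm, Nat.card_fin]; rfl
      have hMeq : M = Subgroup.normalizer (V : Set G) :=
        Subgroup.eq_of_le_of_card_ge hMV (by rw [hNV, hM24])
      have hpV : IsPGroup 2 V := IsPGroup.of_card (n := 2) (by rw [klein_card hV]; norm_num)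
      obtain ⟨T', hVT'⟩ := hpV.exists_le_sylow
      obtain ⟨g, hg⟩ := MulAction.exists_smul_eq G T T'
      have hV0T : V.map (MulAut.conj g⁻¹).toMonoidHom ≤ (T : Subgroup G) := by
        rintro y ⟨v, hv, rfl⟩
        have hvT' := hVT' hv
        rw [← hg, Sylow.coe_subgroup_smul, Subgroup.mem_pointwise_smul_iff_inv_smul_mem,
          MulAut.smul_def, MulAut.conj_inv_apply] at hvT'
        simpa using hvT'
      have hV0 := isKleinFour_map hV (MulAut.conj g⁻¹).toMonoidHom (MulAut.conj g⁻¹).injective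
      have hmem : (⟨V.map (MulAut.conj g⁻¹).toMonoidHom, hV0T, hV0⟩ :
          {U : Subgroup G // U ≤ (T : Subgroup G) ∧ IsKleinFour ↥U}) ∈
          ({⟨U1, hU1T, hU1⟩, ⟨U2, hU2T, hU2⟩} : Set _) := by
        rw [huniv]; exact Set.mem_univ _
      refine ⟨g, ?_⟩
      have hVeq : V = (V.map (MulAut.conj g⁻¹).toMonoidHom).map (MulAut.conj g).toMonoidHom :=
        (map_conj_map_conj_inv V g).symm
      rcases hmem with h1 | h1
      · left
        have h1' : V.map (MulAut.conj g⁻¹).toMonoidHom = U1 := congrArg Subtype.val h1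
        rw [hMeq, hVeq, h1', normalizer_map_conj]
      · right
        rw [Set.mem_singleton_iff] at h1
        have h1' : V.map (MulAut.conj g⁻¹).toMonoidHom = U2 := congrArg Subtype.val h1
        rw [hMeq, hVeq, h1', normalizer_map_conj]

end Cfsg.Agent.S1008
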