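import Cfsg.Statements.S1009
import Cfsg.Agent.Lib.Helper24.SylowTools

set_option autoImplicit false
open Cfsg

namespace Cfsg.Agent.S1009

/-- Brodkey's Theorem: if a finite group has abelian Sylow p-subgroups, then there are two Sylow p-subgroups whose intersection equals the intersection of all Sylow p-subgroups. -/
theorem result {G : Type*} [Group G] [Finite G] (p : ℕ) [Fact p.Prime] (hab : ∀ P : Sylow p G, IsMulCommutative ↥(P : Subgroup G)) : ∃ P Q : Sylow p G, (P : Subgroup G) ⊓ (Q : Subgroup G) = ⨅ R : Sylow p G, (R : Subgroup G) := by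
  classical
  obtain ⟨⟨P, Q⟩, hmin⟩ := Finite.exists_min
    (fun PQ : Sylow p G × Sylow p G => Nat.card ↥((PQ.1 : Subgroup G) ⊓ (PQ.2 : Subgroup G)))
  refine ⟨P, Q, ?_⟩
  obtain ⟨D, hD⟩ : ∃ D : Subgroup G, D = (P : Subgroup G) ⊓ (Q : Subgroup G) := ⟨_, rfl⟩
  rw [← hD]
  have hDP : D ≤ P := hD ▸ inf_le_left
  have hDQ : D ≤ Q := hD ▸ inf_le_right
  -- abelian Sylow subgroups normalize D
  have hnorm : ∀ S : Sylow p G, D ≤ S → (S : Subgroup G) ≤ Subgroup.normalizer (D : Set G) := by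
    intro S hDS x hx
    rw [Subgroup.mem_normalizer_iff]
    intro d
    have hcomm : ∀ d ∈ D, x * d * x⁻¹ = d := by
      intro d hd
      have := hab S
      have h1 : (⟨x, hx⟩ : (S : Subgroup G)) * ⟨d, hDS hd⟩ = ⟨d, hDS hd⟩ * ⟨x, hx⟩ :=
        mul_comm' _ _
      have h2 : x * d = d * x := congrArg Subtype.val h1
      rw [h2, mul_inv_cancel_right]
    constructor
    · intro hd
      rw [hcomm d hd]; exact hd
    · intro hd
      have := hcomm _ hd
      -- x * (x d x⁻¹) * x⁻¹ = x d x⁻¹ → x d x⁻¹ = d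
      have h3 : x * d * x⁻¹ = d := by
        have h4 : x * (x * d * x⁻¹) * x⁻¹ = x * d * x⁻¹ := this
        have h5 := mul_right_cancel h4
        have h6 := mul_left_cancel h5
        exact h6
      rw [← h3]; exact hd
  have hPN := hnorm P hDP
  have hQN := hnorm Q hDQ
  have hDR : ∀ R : Sylow p G, D ≤ R := by
    intro R
    obtain ⟨n, hnN, hconj⟩ := Lib.Helper24.exists_conj_le_sylow_of_subgroup
      (Subgroup.normalizer (D : Set G)) (P.subtype hPN)
      ((R : Subgroup G) ⊓ Subgroup.normalizer (D : Set G)) (R.2.to_le inf_le_left) inf_le_right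
    -- R' = n • R
    have hle : ((n • R : Sylow p G) : Subgroup G) ⊓ (Q : Subgroup G) ≤ D := by
      intro x hx
      have hxR' : x ∈ ((n • R : Sylow p G) : Subgroup G) := hx.1
      have hxQ : x ∈ (Q : Subgroup G) := hx.2
      rw [hD]
      refine ⟨?_, hxQ⟩
      have hr : n⁻¹ * x * n ∈ (R : Subgroup G) := (Lib.Helper24.mem_smul_sylow_iff R n x).mp hxR'
      have hrN : n⁻¹ * x * n ∈ Subgroup.normalizer (D : Set G) :=
        Subgroup.mul_mem _ (Subgroup.mul_mem _ (Subgroup.inv_mem _ hnN) (hQN hxQ)) hnN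
      have := hconj _ ⟨hr, hrN⟩
      obtain ⟨y, hy, hye⟩ := this
      have e : n * (n⁻¹ * x * n) * n⁻¹ = x := by group
      rw [e] at hye
      rw [← hye]
      exact (Subgroup.mem_subgroupOf.mp hy)
    have hcard := hmin (n • R, Q)
    simp only at hcard
    rw [← hD] at hcard
    have heq : ((n • R : Sylow p G) : Subgroup G) ⊓ (Q : Subgroup G) = D :=
      Subgroup.eq_of_le_of_card_ge hle hcard
    have hDnR : D ≤ ((n • R : Sylow p G) : Subgroup G) := heq ▸ inf_le_left
    intro d hd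
    -- n d n⁻¹ ∈ D ≤ n • R, so d ∈ R
    have h1 : n * d * n⁻¹ ∈ D := (Subgroup.mem_normalizer_iff.mp hnN d).mp hd
    have h2 := hDnR h1
    have h3 : n⁻¹ * (n * d * n⁻¹) * n ∈ (R : Subgroup G) :=
      (Lib.Helper24.mem_smul_sylow_iff R n _).mp h2
    have e : n⁻¹ * (n * d * n⁻¹) * n = d := by group
    rwa [e] at h3
  apply le_antisymm
  · exact le_iInf hDR
  · rw [hD]
    exact le_inf (iInf_le _ P) (iInf_le _ Q)

end Cfsg.Agent.S1009
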