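import Cfsg.Statements.S1014
import Cfsg.Agent.Lib.Helper9.SymEmbed

set_option autoImplicit false
open Cfsg

namespace Cfsg.Agent.S1014

open Cfsg.Agent.Lib.Helper9

theorem result {G : Type*} [Group G] [Finite G] [IsSimpleGroup G] : Nat.card G ≠ 1104 := by
  intro hG
  haveI : Fact (Nat.Prime 23) := ⟨by norm_num⟩
  have hcard : Nat.card G = 48 * 23 ^ 1 := by rw [hG]; norm_num
  have h23 : ¬ 23 ∣ 48 := by norm_num
  have hnc : ¬ IsMulCommutative G :=
    not_isMulCommutative_of_simple_of_not_prime (by rw [hG]; norm_num)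
  have hdvd : Nat.card (Sylow 23 G) ∣ 48 := card_sylow_dvd_of_card_eq hcard h23
  have hmod : Nat.card (Sylow 23 G) ≡ 1 [MOD 23] := card_sylow_modEq_one 23 G
  have hne1 : Nat.card (Sylow 23 G) ≠ 1 :=
    card_sylow_ne_one_of_simple (by rw [hG]; norm_num)
      (ne_pow_of_prime_dvd (by norm_num) (by norm_num : Nat.Prime 2) (by norm_num)
        (by rw [hG]; norm_num))
  have hn : Nat.card (Sylow 23 G) = 24 := by
    have key : ∀ n ∈ Nat.divisors 48, n % 23 = 1 → n ≠ 1 → n = 24 := by decide
    exact key _ (Nat.mem_divisors.mpr ⟨hdvd, by norm_num⟩) hmod hne1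
  obtain ⟨P⟩ : Nonempty (Sylow 23 G) := inferInstance
  have hPcard : Nat.card (P : Subgroup G) = 23 := by
    have := card_sylow_subgroup_of_card_eq hcard h23 P
    simpa using this
  have hN : Nat.card (Subgroup.normalizer ((P : Subgroup G) : Set G)) = 46 := by
    have := card_normalizer_of_card_sylow hcard P hn
    omega
  have h := two_mul_card_normalizer_dvd hnc (by norm_num) P hPcard hn
  rw [hN] at h
  norm_num at h

end Cfsg.Agent.S1014
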