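import Cfsg.Statements.S1015
import Cfsg.Agent.Lib.Helper9.SymEmbed
import Cfsg.Agent.S0985

set_option autoImplicit false
open Cfsg

namespace Cfsg.Agent.S1015

open Cfsg.Agent.Lib.Helper9 Subgroup

/-- A Sylow subgroup of order `p^2` normalizes each of its subgroups. -/
theorem le_normalizer_of_card_sq {G : Type*} [Group G] {p : ℕ} [Fact p.Prime] (P : Sylow p G)
    (hP : Nat.card (P : Subgroup G) = p ^ 2) (D : Subgroup G) (hD : D ≤ (P : Subgroup G)) :
    (P : Subgroup G) ≤ normalizer (D : Set G) := by
  have hcomm := IsPGroup.commutative_of_card_eq_prime_sq hP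
  intro x hx
  rw [mem_normalizer_iff]
  intro d
  constructor
  · intro hd
    have := hcomm ⟨x, hx⟩ ⟨d, hD hd⟩
    have h2 : x * d = d * x := congrArg Subtype.val this
    have : x * d * x⁻¹ = d := by rw [h2]; group
    rw [this]; exact hd
  · intro hd
    have hdP : d ∈ (P : Subgroup G) := by
      have h1 := hD hd
      have : d = x⁻¹ * (x * d * x⁻¹) * x := by group
      rw [this]
      exact Subgroup.mul_mem _ (Subgroup.mul_mem _ (Subgroup.inv_mem _ hx) h1) hx
    have := hcomm ⟨x, hx⟩ ⟨d, hdP⟩
    have h2 : x * d = d * x := congrArg Subtype.val this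
    have h3 : x * d * x⁻¹ = d := by rw [h2]; group
    rw [h3] at hd; exact hd

theorem result {G : Type*} [Group G] [Finite G] [IsSimpleGroup G] : Nat.card G ≠ 1200 := by
  intro hG
  haveI : Fact (Nat.Prime 5) := ⟨by norm_num⟩
  have hcard : Nat.card G = 48 * 5 ^ 2 := by rw [hG]; norm_num
  have h5 : ¬ 5 ∣ 48 := by norm_num
  have hnc : ¬ IsMulCommutative G :=
    not_isMulCommutative_of_simple_of_not_prime (by rw [hG]; norm_num)
  have hdvd : Nat.card (Sylow 5 G) ∣ 48 := card_sylow_dvd_of_card_eq hcard h5
  have hmod : Nat.card (Sylow 5 G) ≡ 1 [MOD 5] := card_sylow_modEq_one 5 G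
  have hne1 : Nat.card (Sylow 5 G) ≠ 1 :=
    card_sylow_ne_one_of_simple (by rw [hG]; norm_num)
      (ne_pow_of_prime_dvd (by norm_num) (by norm_num : Nat.Prime 2) (by norm_num)
        (by rw [hG]; norm_num))
  have hn : Nat.card (Sylow 5 G) = 6 ∨ Nat.card (Sylow 5 G) = 16 := by
    have key : ∀ n ∈ Nat.divisors 48, n % 5 = 1 → n ≠ 1 → n = 6 ∨ n = 16 := by decide
    exact key _ (Nat.mem_divisors.mpr ⟨hdvd, by norm_num⟩) hmod hne1
  rcases hn with hn | hn
  · obtain ⟨P⟩ : Nonempty (Sylow 5 G) := inferInstance
    have hidx : (normalizer ((P : Subgroup G) : Set G)).index = 6 := by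
      have := Sylow.card_eq_index_normalizer P
      rw [hn] at this
      exact this.symm
    have hne : normalizer ((P : Subgroup G) : Set G) ≠ ⊤ := by
      intro h
      rw [h, index_top] at hidx
      omega
    have := card_dvd_factorial_index hnc _ hne
    rw [hidx, hG] at this
    revert this
    decide
  · have h25 : ¬ Nat.card (Sylow 5 G) ≡ 1 [MOD 5 ^ 2] := by rw [hn]; decide
    obtain ⟨P, R, hPR, hidx⟩ := Cfsg.Agent.S0985.result 5 2 h25
    have hPcard : Nat.card (P : Subgroup G) = 5 ^ 2 := card_sylow_subgroup_of_card_eq hcard h5 P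
    have hRcard : Nat.card (R : Subgroup G) = 5 ^ 2 := card_sylow_subgroup_of_card_eq hcard h5 R
    set D : Subgroup G := (P : Subgroup G) ⊓ (R : Subgroup G) with hD
    have hPN : (P : Subgroup G) ≤ normalizer (D : Set G) :=
      le_normalizer_of_card_sq P hPcard D inf_le_left
    have hRN : (R : Subgroup G) ≤ normalizer (D : Set G) :=
      le_normalizer_of_card_sq R hRcard D inf_le_right
    -- D is non-trivial
    have hDcard : 5 ≤ Nat.card D := by
      have h1 := card_mul_index ((R : Subgroup G).subgroupOf (P : Subgroup G))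
      rw [hPcard] at h1
      have h2 : Nat.card ((R : Subgroup G).subgroupOf (P : Subgroup G)) = Nat.card D := by
        rw [hD, inf_comm, ← inf_subgroupOf_right]
        exact Nat.card_congr (subgroupOfEquivOfLe inf_le_right).toEquiv
      rw [h2] at h1
      norm_num at hidx
      by_contra hlt
      push Not at hlt
      have : Nat.card D * ((R : Subgroup G).subgroupOf (P : Subgroup G)).index ≤ 4 * 5 :=
        Nat.mul_le_mul (by omega) hidx
      omega
    have hDle : Nat.card D ≤ 25 := by
      have := Subgroup.card_le_of_le (inf_le_left : D ≤ (P : Subgroup G))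
      rw [hPcard] at this
      norm_num at this
      exact this
    have hNtop : normalizer (D : Set G) ≠ ⊤ := by
      intro h
      have hDn : D.Normal := normalizer_eq_top_iff.mp h
      rcases hDn.eq_bot_or_eq_top with h1 | h1
      · rw [h1, Subgroup.card_bot] at hDcard
        omega
      · rw [h1, Subgroup.card_top, hG] at hDle
        omega
    have hfact := card_dvd_factorial_index hnc _ hNtop
    rw [hG] at hfact
    have hNcard := card_mul_index (normalizer (D : Set G))
    rw [hG] at hNcard
    have h25N : 25 ∣ Nat.card (normalizer (D : Set G)) := by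
      have := Subgroup.card_dvd_of_le hPN
      rw [hPcard] at this
      norm_num at this
      exact this
    obtain ⟨m, hm⟩ := h25N
    have hk : m * (normalizer (D : Set G)).index = 48 := by
      rw [hm] at hNcard
      have : 25 * (m * (normalizer (D : Set G)).index) = 25 * 48 := by rw [← mul_assoc, hNcard]
      exact Nat.eq_of_mul_eq_mul_left (by norm_num) this
    have hkd : (normalizer (D : Set G)).index ∣ 48 := Dvd.intro_left _ hk
    have key : ∀ k ∈ Nat.divisors 48, 1200 ∣ k.factorial → 48 / k < 5 := by
      decide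
    have hm5 : m < 5 := by
      have h1 := key _ (Nat.mem_divisors.mpr ⟨hkd, by norm_num⟩) hfact
      have hkpos : 0 < (normalizer (D : Set G)).index := Nat.pos_of_dvd_of_pos hkd (by norm_num)
      have : 48 / (normalizer (D : Set G)).index = m := Nat.div_eq_of_eq_mul_left hkpos hk.symm
      omega
    have hm0 : 0 < m := by
      rcases Nat.eq_zero_or_pos m with h | h
      · rw [h, zero_mul] at hk; omega
      · exact h
    have hone := card_sylow_eq_one_of_lt (G := normalizer (D : Set G)) (r := 5) (m := m) (k := 2)
      (by rw [hm]; ring) hm0 hm5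
    have hsub : Subsingleton (Sylow 5 (normalizer (D : Set G))) :=
      (Nat.card_eq_one_iff_unique.mp hone).1
    have := Subsingleton.elim (P.subtype hPN) (R.subtype hRN)
    exact hPR (Sylow.subtype_injective this)

end Cfsg.Agent.S1015
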