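import Cfsg.Statements.S1021
import Mathlib
import Cfsg.Agent.Lib.Helper2.ZassB

set_option autoImplicit false
open Cfsg

namespace Cfsg.Agent.S1021

open Cfsg.Agent.Lib.Helper2.Zass

instance fact19 : Fact (Nat.Prime 19) := ⟨by norm_num⟩

set_option maxRecDepth 100000 in
theorem good19 : Good 19 9 ((2 : ZMod 19) ^ 2) 10 := by
  unfold Good
  decide +kernel

set_option maxRecDepth 100000 in
theorem cover19 : Cover 19 9 ((2 : ZMod 19) ^ 2) 2 := by
  unfold Cover
  decide +kernel

set_option maxRecDepth 100000 in
theorem order19 : orderOf ((2 : ZMod 19) ^ 2) = 9 := by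
  rw [orderOf_eq_iff (by norm_num)]
  decide +kernel

set_option maxRecDepth 100000 in
theorem div19 : ∀ n : ℕ, n ∣ (19 + 1) * 9 → n % 19 = 1 → n = 1 ∨ n = 19 + 1 := by
  intro n hn hmod
  have hle : n ≤ (19 + 1) * 9 := Nat.le_of_dvd (by norm_num) hn
  have key : ∀ n < 181, n ∣ (19 + 1) * 9 → n % 19 = 1 → n = 1 ∨ n = 19 + 1 := by
    decide +kernel
  exact key n (by omega) hn hmod

theorem main19 {G : Type*} [Group G] [Finite G] [IsSimpleGroup G]
    (hG : Nat.card G = (19 + 1) * 19 * 9) {F : Type*} [Field F] [Fintype F]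
    (hF : Fintype.card F = 19) :
    Nonempty (G ≃* Matrix.ProjectiveSpecialLinearGroup (Fin 2) F) := by
  have hn := card_sylow_eq (p := 19) 9 (by norm_num) (by norm_num) hG div19
  exact main (p := 19) 9 (by norm_num) (by norm_num) hG hn 2 2 10 order19
    (by decide) (by decide) cover19 good19 hF


/-- A simple group of order 3420 is isomorphic to the projective special linear group of dimension 2 over the field with 19 elements. -/
theorem result {G : Type*} [Group G] [Finite G] [IsSimpleGroup G] (h : Nat.card G = 3420) {F : Type*} [Field F] [Fintype F] (hF : Fintype.card F = 19) : Nonempty (G ≃* Matrix.ProjectiveSpecialLinearGroup (Fin 2) F) := by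
  exact main19 (h.trans (by norm_num)) hF

end Cfsg.Agent.S1021
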