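-- Statement S1025: Chevalley's commutator formula as a matrix identity.
-- Proof (helper6): the formula is checked column by column by kernel computation for one pair
-- of roots in each orbit of the Weyl group on pairs, and transported to all other pairs by
-- conjugation with the n_p (S1031, with signs read off the tables and verified), the transported
-- constants being compared with the tabulated ones by an integer table check
-- (Lib/Helper6/ChevCommOrbit, ChevComm/*).
import Cfsg.Statements.S1025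
import Mathlib
import Cfsg.Agent.Lib.Helper6.ChevCommOrbit
import Cfsg.Agent.Lib.Helper6.ChevComm.Small
import Cfsg.Agent.Lib.Helper6.ChevComm.E6
import Cfsg.Agent.Lib.Helper6.ChevComm.E7_0
import Cfsg.Agent.Lib.Helper6.ChevComm.E7_1
import Cfsg.Agent.Lib.Helper6.ChevComm.E7_2
import Cfsg.Agent.Lib.Helper6.ChevComm.E7_3
import Cfsg.Agent.Lib.Helper6.ChevComm.E8_0
import Cfsg.Agent.Lib.Helper6.ChevComm.E8_1
import Cfsg.Agent.Lib.Helper6.ChevComm.E8_2
import Cfsg.Agent.Lib.Helper6.ChevComm.E8_3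
import Cfsg.Agent.Lib.Helper6.ChevComm.E8_4
import Cfsg.Agent.Lib.Helper6.ChevComm.E8_5
import Cfsg.Agent.Lib.Helper6.ChevComm.E8_6
import Cfsg.Agent.Lib.Helper6.ChevComm.E8_7
import Cfsg.Agent.Lib.Helper6.ChevN.E7_0
import Cfsg.Agent.Lib.Helper6.ChevN.E7_1
import Cfsg.Agent.Lib.Helper6.ChevN.E7_2
import Cfsg.Agent.Lib.Helper6.ChevN.E7_3
import Cfsg.Agent.Lib.Helper6.ChevN.E7_4
import Cfsg.Agent.Lib.Helper6.ChevN.E7_5
import Cfsg.Agent.Lib.Helper6.ChevN.E7_6
import Cfsg.Agent.Lib.Helper6.ChevN.E8_0a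
import Cfsg.Agent.Lib.Helper6.ChevN.E8_0b
import Cfsg.Agent.Lib.Helper6.ChevN.E8_1a
import Cfsg.Agent.Lib.Helper6.ChevN.E8_1b
import Cfsg.Agent.Lib.Helper6.ChevN.E8_2a
import Cfsg.Agent.Lib.Helper6.ChevN.E8_2b
import Cfsg.Agent.Lib.Helper6.ChevN.E8_3a
import Cfsg.Agent.Lib.Helper6.ChevN.E8_3b
import Cfsg.Agent.Lib.Helper6.ChevN.E8_4a
import Cfsg.Agent.Lib.Helper6.ChevN.E8_4b
import Cfsg.Agent.Lib.Helper6.ChevN.E8_5a
import Cfsg.Agent.Lib.Helper6.ChevN.E8_5b
import Cfsg.Agent.Lib.Helper6.ChevN.E8_6a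
import Cfsg.Agent.Lib.Helper6.ChevN.E8_6b
import Cfsg.Agent.Lib.Helper6.ChevN.E8_7a
import Cfsg.Agent.Lib.Helper6.ChevN.E8_7b
import Cfsg.Agent.S1053

set_option autoImplicit false
open Cfsg

namespace Cfsg.Agent.S1025

open Cfsg.Lie Cfsg.Agent.Lib.Helper6.ChevWeyl Cfsg.Agent.Lib.Helper6.ChevConj
  Cfsg.Agent.Lib.Helper6.ChevCommOrbit Cfsg.Agent.Lib.Helper6.ChevN Cfsg.Agent.Lib.Helper6.ChevComm

theorem rel_G2 {F : Type*} [Field F] (i : ℕ) (hi : i < 2) :
    ConjRel chevG2 F i (etasG2.getD i []) := by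
  interval_cases i
  · exact conjRel_of_checks chevG2 tabG2_0 0 _ tabCheckG2_0 (fun s hs => conjG2_0 s (Nat.zero_le _) hs)
      (fun s hs => signG2_0 s (List.mem_range.mpr hs))
  · exact conjRel_of_checks chevG2 tabG2_1 1 _ tabCheckG2_1 (fun s hs => conjG2_1 s (Nat.zero_le _) hs)
      (fun s hs => signG2_1 s (List.mem_range.mpr hs))

theorem ent_G2 (r : ℕ) (hr : r < 12) (s : ℕ) (hs : s < 12) :
    entryOK chevG2 etasG2 parG2 depG2 r s := by
  exact entG2 r (Nat.zero_le _) hr s hs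

theorem rel_B2 {F : Type*} [Field F] (i : ℕ) (hi : i < 2) :
    ConjRel chevB2 F i (etasB2.getD i []) := by
  interval_cases i
  · exact conjRel_of_checks chevB2 tabB2_0 0 _ tabCheckB2_0 (fun s hs => conjB2_0 s (Nat.zero_le _) hs)
      (fun s hs => signB2_0 s (List.mem_range.mpr hs))
  · exact conjRel_of_checks chevB2 tabB2_1 1 _ tabCheckB2_1 (fun s hs => conjB2_1 s (Nat.zero_le _) hs)
      (fun s hs => signB2_1 s (List.mem_range.mpr hs))

theorem ent_B2 (r : ℕ) (hr : r < 8) (s : ℕ) (hs : s < 8) :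
    entryOK chevB2 etasB2 parB2 depB2 r s := by
  exact entB2 r (Nat.zero_le _) hr s hs

theorem rel_D4 {F : Type*} [Field F] (i : ℕ) (hi : i < 4) :
    ConjRel chevD4 F i (etasD4.getD i []) := by
  interval_cases i
  · exact conjRel_of_checks chevD4 tabD4_0 0 _ tabCheckD4_0 (fun s hs => conjD4_0 s (Nat.zero_le _) hs)
      (fun s hs => signD4_0 s (List.mem_range.mpr hs))
  · exact conjRel_of_checks chevD4 tabD4_1 1 _ tabCheckD4_1 (fun s hs => conjD4_1 s (Nat.zero_le _) hs)
      (fun s hs => signD4_1 s (List.mem_range.mpr hs))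
  · exact conjRel_of_checks chevD4 tabD4_2 2 _ tabCheckD4_2 (fun s hs => conjD4_2 s (Nat.zero_le _) hs)
      (fun s hs => signD4_2 s (List.mem_range.mpr hs))
  · exact conjRel_of_checks chevD4 tabD4_3 3 _ tabCheckD4_3 (fun s hs => conjD4_3 s (Nat.zero_le _) hs)
      (fun s hs => signD4_3 s (List.mem_range.mpr hs))

theorem ent_D4 (r : ℕ) (hr : r < 24) (s : ℕ) (hs : s < 24) :
    entryOK chevD4 etasD4 parD4 depD4 r s := by
  exact entD4 r (Nat.zero_le _) hr s hs

theorem rel_F4 {F : Type*} [Field F] (i : ℕ) (hi : i < 4) :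
    ConjRel chevF4 F i (etasF4.getD i []) := by
  interval_cases i
  · exact conjRel_of_checks chevF4 tabF4_0 0 _ tabCheckF4_0 (fun s hs => conjF4_0 s (Nat.zero_le _) hs)
      (fun s hs => signF4_0 s (List.mem_range.mpr hs))
  · exact conjRel_of_checks chevF4 tabF4_1 1 _ tabCheckF4_1 (fun s hs => conjF4_1 s (Nat.zero_le _) hs)
      (fun s hs => signF4_1 s (List.mem_range.mpr hs))
  · exact conjRel_of_checks chevF4 tabF4_2 2 _ tabCheckF4_2 (fun s hs => conjF4_2 s (Nat.zero_le _) hs)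
      (fun s hs => signF4_2 s (List.mem_range.mpr hs))
  · exact conjRel_of_checks chevF4 tabF4_3 3 _ tabCheckF4_3 (fun s hs => conjF4_3 s (Nat.zero_le _) hs)
      (fun s hs => signF4_3 s (List.mem_range.mpr hs))

theorem ent_F4 (r : ℕ) (hr : r < 48) (s : ℕ) (hs : s < 48) :
    entryOK chevF4 etasF4 parF4 depF4 r s := by
  exact entF4 r (Nat.zero_le _) hr s hs

theorem rel_E6 {F : Type*} [Field F] (i : ℕ) (hi : i < 6) :
    ConjRel chevE6 F i (etasE6.getD i []) := by
  interval_cases i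
  · exact conjRel_of_checks chevE6 tabE6_0 0 _ tabCheckE6_0 (fun s hs => conjE6_0 s (Nat.zero_le _) hs)
      (fun s hs => signE6_0 s (List.mem_range.mpr hs))
  · exact conjRel_of_checks chevE6 tabE6_1 1 _ tabCheckE6_1 (fun s hs => conjE6_1 s (Nat.zero_le _) hs)
      (fun s hs => signE6_1 s (List.mem_range.mpr hs))
  · exact conjRel_of_checks chevE6 tabE6_2 2 _ tabCheckE6_2 (fun s hs => conjE6_2 s (Nat.zero_le _) hs)
      (fun s hs => signE6_2 s (List.mem_range.mpr hs))
  · exact conjRel_of_checks chevE6 tabE6_3 3 _ tabCheckE6_3 (fun s hs => conjE6_3 s (Nat.zero_le _) hs)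
      (fun s hs => signE6_3 s (List.mem_range.mpr hs))
  · exact conjRel_of_checks chevE6 tabE6_4 4 _ tabCheckE6_4 (fun s hs => conjE6_4 s (Nat.zero_le _) hs)
      (fun s hs => signE6_4 s (List.mem_range.mpr hs))
  · exact conjRel_of_checks chevE6 tabE6_5 5 _ tabCheckE6_5 (fun s hs => conjE6_5 s (Nat.zero_le _) hs)
      (fun s hs => signE6_5 s (List.mem_range.mpr hs))

theorem ent_E6 (r : ℕ) (hr : r < 72) (s : ℕ) (hs : s < 72) :
    entryOK chevE6 etasE6 parE6 depE6 r s := by
  exact entE6 r (Nat.zero_le _) hr s hs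

theorem rel_E7 {F : Type*} [Field F] (i : ℕ) (hi : i < 7) :
    ConjRel chevE7 F i (etasE7.getD i []) := by
  interval_cases i
  · exact conjRel_of_checks chevE7 tabE7_0 0 _ tabCheckE7_0 (fun s hs => conjE7_0 s (Nat.zero_le _) hs)
      (fun s hs => signE7_0 s (List.mem_range.mpr hs))
  · exact conjRel_of_checks chevE7 tabE7_1 1 _ tabCheckE7_1 (fun s hs => conjE7_1 s (Nat.zero_le _) hs)
      (fun s hs => signE7_1 s (List.mem_range.mpr hs))
  · exact conjRel_of_checks chevE7 tabE7_2 2 _ tabCheckE7_2 (fun s hs => conjE7_2 s (Nat.zero_le _) hs)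
      (fun s hs => signE7_2 s (List.mem_range.mpr hs))
  · exact conjRel_of_checks chevE7 tabE7_3 3 _ tabCheckE7_3 (fun s hs => conjE7_3 s (Nat.zero_le _) hs)
      (fun s hs => signE7_3 s (List.mem_range.mpr hs))
  · exact conjRel_of_checks chevE7 tabE7_4 4 _ tabCheckE7_4 (fun s hs => conjE7_4 s (Nat.zero_le _) hs)
      (fun s hs => signE7_4 s (List.mem_range.mpr hs))
  · exact conjRel_of_checks chevE7 tabE7_5 5 _ tabCheckE7_5 (fun s hs => conjE7_5 s (Nat.zero_le _) hs)
      (fun s hs => signE7_5 s (List.mem_range.mpr hs))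
  · exact conjRel_of_checks chevE7 tabE7_6 6 _ tabCheckE7_6 (fun s hs => conjE7_6 s (Nat.zero_le _) hs)
      (fun s hs => signE7_6 s (List.mem_range.mpr hs))

theorem ent_E7 (r : ℕ) (hr : r < 126) (s : ℕ) (hs : s < 126) :
    entryOK chevE7 etasE7 parE7 depE7 r s := by
  by_cases h32 : r < 32
  · exact entE7p0 r (by omega) h32 s hs
  by_cases h64 : r < 64
  · exact entE7p1 r (by omega) h64 s hs
  by_cases h96 : r < 96
  · exact entE7p2 r (by omega) h96 s hs
  exact entE7p3 r (by omega) hr s hs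

theorem rel_E8 {F : Type*} [Field F] (i : ℕ) (hi : i < 8) :
    ConjRel chevE8 F i (etasE8.getD i []) := by
  interval_cases i
  · exact conjRel_of_checks chevE8 tabE8_0 0 _ tabCheckE8_0 (fun s hs => if h : s < 120 then conjE8_0a s (Nat.zero_le _) h else conjE8_0b s (by omega) hs)
      (fun s hs => signE8_0 s (List.mem_range.mpr hs))
  · exact conjRel_of_checks chevE8 tabE8_1 1 _ tabCheckE8_1 (fun s hs => if h : s < 120 then conjE8_1a s (Nat.zero_le _) h else conjE8_1b s (by omega) hs)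
      (fun s hs => signE8_1 s (List.mem_range.mpr hs))
  · exact conjRel_of_checks chevE8 tabE8_2 2 _ tabCheckE8_2 (fun s hs => if h : s < 120 then conjE8_2a s (Nat.zero_le _) h else conjE8_2b s (by omega) hs)
      (fun s hs => signE8_2 s (List.mem_range.mpr hs))
  · exact conjRel_of_checks chevE8 tabE8_3 3 _ tabCheckE8_3 (fun s hs => if h : s < 120 then conjE8_3a s (Nat.zero_le _) h else conjE8_3b s (by omega) hs)
      (fun s hs => signE8_3 s (List.mem_range.mpr hs))
  · exact conjRel_of_checks chevE8 tabE8_4 4 _ tabCheckE8_4 (fun s hs => if h : s < 120 then conjE8_4a s (Nat.zero_le _) h else conjE8_4b s (by omega) hs)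
      (fun s hs => signE8_4 s (List.mem_range.mpr hs))
  · exact conjRel_of_checks chevE8 tabE8_5 5 _ tabCheckE8_5 (fun s hs => if h : s < 120 then conjE8_5a s (Nat.zero_le _) h else conjE8_5b s (by omega) hs)
      (fun s hs => signE8_5 s (List.mem_range.mpr hs))
  · exact conjRel_of_checks chevE8 tabE8_6 6 _ tabCheckE8_6 (fun s hs => if h : s < 120 then conjE8_6a s (Nat.zero_le _) h else conjE8_6b s (by omega) hs)
      (fun s hs => signE8_6 s (List.mem_range.mpr hs))
  · exact conjRel_of_checks chevE8 tabE8_7 7 _ tabCheckE8_7 (fun s hs => if h : s < 120 then conjE8_7a s (Nat.zero_le _) h else conjE8_7b s (by omega) hs)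
      (fun s hs => signE8_7 s (List.mem_range.mpr hs))

theorem ent_E8 (r : ℕ) (hr : r < 240) (s : ℕ) (hs : s < 240) :
    entryOK chevE8 etasE8 parE8 depE8 r s := by
  by_cases h30 : r < 30
  · exact entE8p0 r (by omega) h30 s hs
  by_cases h60 : r < 60
  · exact entE8p1 r (by omega) h60 s hs
  by_cases h90 : r < 90
  · exact entE8p2 r (by omega) h90 s hs
  by_cases h120 : r < 120
  · exact entE8p3 r (by omega) h120 s hs
  by_cases h150 : r < 150
  · exact entE8p4 r (by omega) h150 s hs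
  by_cases h180 : r < 180
  · exact entE8p5 r (by omega) h180 s hs
  by_cases h210 : r < 210
  · exact entE8p6 r (by omega) h210 s hs
  exact entE8p7 r (by omega) hr s hs

/-- the commutator formula in the general linear group, for every datum of the list -/
theorem commF_of_mem {F : Type*} [Field F] (D : Cfsg.Lie.ChevalleyDatum) (hD : D ∈ [Cfsg.Lie.chevG2, Cfsg.Lie.chevB2, Cfsg.Lie.chevD4, Cfsg.Lie.chevF4, Cfsg.Lie.chevE6, Cfsg.Lie.chevE7, Cfsg.Lie.chevE8])
    (h : Hyp D F) (r s : ℕ) (hr : r < D.nroots) (hs : s < D.nroots) (hrs : s ≠ r)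
    (hneg : s ≠ D.neg r) : CommF h r s := by
  have hD' := hD
  simp only [List.mem_cons, List.not_mem_nil, or_false] at hD'
  rcases hD' with rfl | rfl | rfl | rfl | rfl | rfl | rfl
  · exact commF_all h etasG2 (fun i hi => rel_G2 i hi) parG2 depG2
      (fun r hr s hs => ent_G2 r hr s hs) _ r s rfl hr hs hrs hneg
  · exact commF_all h etasB2 (fun i hi => rel_B2 i hi) parB2 depB2
      (fun r hr s hs => ent_B2 r hr s hs) _ r s rfl hr hs hrs hneg
  · exact commF_all h etasD4 (fun i hi => rel_D4 i hi) parD4 depD4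
      (fun r hr s hs => ent_D4 r hr s hs) _ r s rfl hr hs hrs hneg
  · exact commF_all h etasF4 (fun i hi => rel_F4 i hi) parF4 depF4
      (fun r hr s hs => ent_F4 r hr s hs) _ r s rfl hr hs hrs hneg
  · exact commF_all h etasE6 (fun i hi => rel_E6 i hi) parE6 depE6
      (fun r hr s hs => ent_E6 r hr s hs) _ r s rfl hr hs hrs hneg
  · exact commF_all h etasE7 (fun i hi => rel_E7 i hi) parE7 depE7
      (fun r hr s hs => ent_E7 r hr s hs) _ r s rfl hr hs hrs hneg
  · exact commF_all h etasE8 (fun i hi => rel_E8 i hi) parE8 depE8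
      (fun r hr s hs => ent_E8 r hr s hs) _ r s rfl hr hs hrs hneg

/-- Chevalley's commutator formula: for roots `s ≠ ±r`, `x_s(u) x_r(t) = x_r(t) x_s(u) · ∏_{i,j>0} x_{ir+js}(C_{ijrs} (-t)^i u^j)`, the product (in order of increasing `i + j`) and the constants being those of `commWord`. -/
theorem result {F : Type*} [Field F] (D : Cfsg.Lie.ChevalleyDatum) (hD : D ∈ [Cfsg.Lie.chevG2, Cfsg.Lie.chevB2, Cfsg.Lie.chevD4, Cfsg.Lie.chevF4, Cfsg.Lie.chevE6, Cfsg.Lie.chevE7, Cfsg.Lie.chevE8]) (r s : ℕ) (hr : r < D.nroots) (hs : s < D.nroots)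
    (hrs : s ≠ r) (hneg : s ≠ D.neg r) (t u : F) :
    D.x F s u * D.x F r t = D.x F r t * D.x F s u * D.wordMat F (D.commWord F r s t u) :=
  commF_val (Cfsg.Agent.S1053.hyp_all D hD) r s
    (commF_of_mem D hD (Cfsg.Agent.S1053.hyp_all D hD) r s hr hs hrs hneg) t u

end Cfsg.Agent.S1025
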