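-- Statement S1026: unique expression of the elements of U as ordered products of root elements.
-- Proof (helper6): from the commutator formula (S1025) the subgroups T_m generated by the X_r,
-- r positive of index at least m, are normalised by the positive root elements, so T_m = X_m T_(m+1);
-- uniqueness by reading the coefficient off matrix entries (Lib/Helper6/ChevUnip, ChevUnipData).
import Cfsg.Statements.S1026
import Mathlib
import Cfsg.Agent.Lib.Helper6.ChevUnip
import Cfsg.Agent.Lib.Helper6.ChevUnipData.Small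
import Cfsg.Agent.Lib.Helper6.ChevUnipData.E7
import Cfsg.Agent.Lib.Helper6.ChevUnipData.E8
import Cfsg.Agent.S1025
import Cfsg.Agent.S1053

set_option autoImplicit false
open Cfsg

namespace Cfsg.Agent.S1026

open Cfsg.Lie Cfsg.Agent.Lib.Helper6.ChevWeyl Cfsg.Agent.Lib.Helper6.ChevUnip
  Cfsg.Agent.Lib.Helper6.ChevUnipData

theorem allComm {F : Type*} [Field F] (D : Cfsg.Lie.ChevalleyDatum) (hD : D ∈ [Cfsg.Lie.chevG2, Cfsg.Lie.chevB2, Cfsg.Lie.chevD4, Cfsg.Lie.chevF4, Cfsg.Lie.chevE6, Cfsg.Lie.chevE7, Cfsg.Lie.chevE8])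
    (h : Hyp D F) : AllComm h :=
  fun r s hr hs hrs hneg => Cfsg.Agent.S1025.commF_of_mem D hD h r s hr hs hrs hneg

/-- the table facts, for every datum of the list -/
theorem utabs (D : Cfsg.Lie.ChevalleyDatum) (hD : D ∈ [Cfsg.Lie.chevG2, Cfsg.Lie.chevB2, Cfsg.Lie.chevD4, Cfsg.Lie.chevF4, Cfsg.Lie.chevE6, Cfsg.Lie.chevE7, Cfsg.Lie.chevE8]) :
    ∃ bez : List (List ℤ), UTabs D bez ∧ D.posRoots.length = D.nroots / 2 := by
  simp only [List.mem_cons, List.not_mem_nil, or_false] at hD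
  rcases hD with rfl | rfl | rfl | rfl | rfl | rfl | rfl
  · exact ⟨bezG2, utabsG2, lenG2⟩
  · exact ⟨bezB2, utabsB2, lenB2⟩
  · exact ⟨bezD4, utabsD4, lenD4⟩
  · exact ⟨bezF4, utabsF4, lenF4⟩
  · exact ⟨bezE6, utabsE6, lenE6⟩
  · exact ⟨bezE7, utabsE7, lenE7⟩
  · exact ⟨bezE8, utabsE8, lenE8⟩

/-- Every element of `U` has a unique expression `∏_{r ∈ Φ⁺} x_r(t_r)`, the product over the positive roots in increasing index order (the coefficient family `t`, supported on the positive roots, exists and is unique); and conversely every such ordered product is the matrix of an element of `U`. -/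
theorem result {F : Type*} [Field F] (D : Cfsg.Lie.ChevalleyDatum) (hD : D ∈ [Cfsg.Lie.chevG2, Cfsg.Lie.chevB2, Cfsg.Lie.chevD4, Cfsg.Lie.chevF4, Cfsg.Lie.chevE6, Cfsg.Lie.chevE7, Cfsg.Lie.chevE8]) :
    (∀ g : GL D.Idx F, g ∈ D.posUnipotent F →
      ∃! t : ℕ → F, (∀ r, ¬ D.IsPosRoot r → t r = 0) ∧
        (g : Matrix D.Idx D.Idx F) = D.wordMat F (D.posRoots.map fun r => (r, t r))) ∧
    (∀ t : ℕ → F, ∃ g : GL D.Idx F, g ∈ D.posUnipotent F ∧
      (g : Matrix D.Idx D.Idx F) = D.wordMat F (D.posRoots.map fun r => (r, t r))) := by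
  obtain ⟨bez, tabs, _⟩ := utabs D hD
  have h : Hyp D F := Cfsg.Agent.S1053.hyp_all D hD
  exact unique_product h (allComm D hD h) bez tabs

end Cfsg.Agent.S1026
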