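-- Statement S1027: |U| = q^N over a field with q elements.
-- Proof (helper6): by the unique expression of the elements of U as ordered products (S1026,
-- Lib/Helper6/ChevUnip.card_posUnipotent).
import Cfsg.Statements.S1027
import Mathlib
import Cfsg.Agent.Lib.Helper6.ChevUnip
import Cfsg.Agent.S1026
import Cfsg.Agent.S1053

set_option autoImplicit false
open Cfsg

namespace Cfsg.Agent.S1027

open Cfsg.Lie Cfsg.Agent.Lib.Helper6.ChevWeyl Cfsg.Agent.Lib.Helper6.ChevUnip

/-- For the subgroup `U` generated by the root elements `x_r(t)` of the positive roots `r`: `|U| = q^N` over a field with `q` elements, where `N` is the number of positive roots (half the number of roots). -/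
theorem result {F : Type*} [Field F] [Fintype F] (D : Cfsg.Lie.ChevalleyDatum) (hD : D ∈ [Cfsg.Lie.chevG2, Cfsg.Lie.chevB2, Cfsg.Lie.chevD4, Cfsg.Lie.chevF4, Cfsg.Lie.chevE6, Cfsg.Lie.chevE7, Cfsg.Lie.chevE8]) :
    Nat.card (D.posUnipotent F) = Fintype.card F ^ (D.nroots / 2) := by
  obtain ⟨bez, tabs, hlen⟩ := Cfsg.Agent.S1026.utabs D hD
  have h : Hyp D F := Cfsg.Agent.S1053.hyp_all D hD
  exact card_posUnipotent h (Cfsg.Agent.S1026.allComm D hD h) bez tabs hlen

end Cfsg.Agent.S1027
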