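import Cfsg.Statements.S1039
import Mathlib
import Cfsg.Agent.Lib.Helper5.ChevTitsJ
import Cfsg.Agent.Lib.Helper5.ChevTitsU
import Cfsg.Agent.S1031
import Cfsg.Agent.S1045

set_option autoImplicit false
open Cfsg

namespace Cfsg.Agent.S1039

/-- `N/H ≅ W`: there is a surjective homomorphism from `N` onto the Coxeter group of the type (Mathlib's Coxeter matrix G₂, B₂, F₄, E₆, E₇, E₈, nodes numbered as the fundamental roots) with kernel `H`, mapping each `n_{p_i}` to the `i`-th simple reflection. -/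
theorem result {F : Type*} [Field F]
    (p : Cfsg.Lie.ChevalleyDatum × (Σ n : ℕ, CoxeterMatrix (Fin n)))
    (hp : p ∈ [(Cfsg.Lie.chevG2, ⟨2, CoxeterMatrix.G₂⟩), (Cfsg.Lie.chevB2, ⟨2, CoxeterMatrix.B 2⟩), (Cfsg.Lie.chevD4, ⟨4, Cfsg.Lie.coxeterD4⟩), (Cfsg.Lie.chevF4, ⟨4, CoxeterMatrix.F₄⟩),
      (Cfsg.Lie.chevE6, ⟨6, CoxeterMatrix.E₆⟩), (Cfsg.Lie.chevE7, ⟨7, CoxeterMatrix.E₇⟩), (Cfsg.Lie.chevE8, ⟨8, CoxeterMatrix.E₈⟩)]) :
    ∃ φ : ↥(p.1.monomialSubgroup F) →* p.2.2.Group, Function.Surjective φ ∧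
      φ.ker = (p.1.diagonalSubgroup F).subgroupOf (p.1.monomialSubgroup F) ∧
      ∀ (i : Fin p.2.1) (g : ↥(p.1.monomialSubgroup F)),
        ((g : GL p.1.Idx F) : Matrix p.1.Idx p.1.Idx F) = p.1.nMat F (p.1.simple i) 1 → φ g = p.2.2.simple i := by
  have key : ∀ (D : Cfsg.Lie.ChevalleyDatum)
      (hD : D ∈ [Cfsg.Lie.chevG2, Cfsg.Lie.chevB2, Cfsg.Lie.chevD4, Cfsg.Lie.chevF4,
        Cfsg.Lie.chevE6, Cfsg.Lie.chevE7, Cfsg.Lie.chevE8])
      (_ : Cfsg.Agent.Lib.Helper5.ChevTits.BraidOK D)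
      (Mx : CoxeterMatrix (Fin D.rank))
      (_ : ∀ i j : Fin D.rank, Mx.M i j =
        if i = j then 1 else Cfsg.Agent.Lib.Helper5.ChevTits.braidLen D i j),
      ∃ φ : ↥(D.monomialSubgroup F) →* Mx.Group, Function.Surjective φ ∧
        φ.ker = (D.diagonalSubgroup F).subgroupOf (D.monomialSubgroup F) ∧
        ∀ (i : Fin D.rank) (g : ↥(D.monomialSubgroup F)),
          ((g : GL D.Idx F) : Matrix D.Idx D.Idx F) = D.nMat F (D.simple i) 1 →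
            φ g = Mx.simple i := by
    intro D hD hB Mx hMx
    have H : Cfsg.Agent.Lib.Helper5.ChevTits.Hyp D F :=
      Cfsg.Agent.Lib.Helper5.ChevTits.hyp_of D hD
        (fun i s hi hs => Cfsg.Agent.S1031.result D hD i s hi hs)
    have hdec : Cfsg.Agent.Lib.Helper5.ChevTits.Decomp D F :=
      Cfsg.Agent.Lib.Helper5.ChevTits.decomp_of D hD H.simple
        (fun i hi => Cfsg.Agent.S1045.result D hD i hi)
    exact Cfsg.Agent.Lib.Helper5.ChevTits.weyl_coxeter D H hdec hB Mx hMx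
  simp only [List.mem_cons, List.not_mem_nil, or_false] at hp
  rcases hp with rfl | rfl | rfl | rfl | rfl | rfl | rfl
  · exact key Cfsg.Lie.chevG2 (by simp) Cfsg.Agent.Lib.Helper5.ChevTits.braidOK_G2
      CoxeterMatrix.G₂ Cfsg.Agent.Lib.Helper5.ChevTits.coxeter_G2
  · exact key Cfsg.Lie.chevB2 (by simp) Cfsg.Agent.Lib.Helper5.ChevTits.braidOK_B2
      (CoxeterMatrix.B 2) Cfsg.Agent.Lib.Helper5.ChevTits.coxeter_B2
  · exact key Cfsg.Lie.chevD4 (by simp) Cfsg.Agent.Lib.Helper5.ChevTits.braidOK_D4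
      Cfsg.Lie.coxeterD4 Cfsg.Agent.Lib.Helper5.ChevTits.coxeter_D4
  · exact key Cfsg.Lie.chevF4 (by simp) Cfsg.Agent.Lib.Helper5.ChevTits.braidOK_F4
      CoxeterMatrix.F₄ Cfsg.Agent.Lib.Helper5.ChevTits.coxeter_F4
  · exact key Cfsg.Lie.chevE6 (by simp) Cfsg.Agent.Lib.Helper5.ChevTits.braidOK_E6
      CoxeterMatrix.E₆ Cfsg.Agent.Lib.Helper5.ChevTits.coxeter_E6
  · exact key Cfsg.Lie.chevE7 (by simp) Cfsg.Agent.Lib.Helper5.ChevTits.braidOK_E7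
      CoxeterMatrix.E₇ Cfsg.Agent.Lib.Helper5.ChevTits.coxeter_E7
  · exact key Cfsg.Lie.chevE8 (by simp) Cfsg.Agent.Lib.Helper5.ChevTits.braidOK_E8
      CoxeterMatrix.E₈ Cfsg.Agent.Lib.Helper5.ChevTits.coxeter_E8

end Cfsg.Agent.S1039
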