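-- Statement S1043: B <= G, N <= G and B sup N = G.
-- Proof (helper6): h_r(t) and n_r are words in root elements; G = U sup V (S1041) and V is a
-- conjugate of U under an element of N (S1053).
import Cfsg.Statements.S1043
import Mathlib
import Cfsg.Agent.Lib.Helper6.ChevWeyl
import Cfsg.Agent.S1041
import Cfsg.Agent.S1053

set_option autoImplicit false
open Cfsg

namespace Cfsg.Agent.S1043

open Cfsg.Lie Cfsg.Agent.Lib.Helper6.ChevWeyl

/-- `B ≤ G`, `N ≤ G` and `B ⊔ N = G` for the Chevalley group `G` generated by all root elements. -/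
theorem result {F : Type*} [Field F] (D : Cfsg.Lie.ChevalleyDatum) (hD : D ∈ [Cfsg.Lie.chevG2, Cfsg.Lie.chevB2, Cfsg.Lie.chevD4, Cfsg.Lie.chevF4, Cfsg.Lie.chevE6, Cfsg.Lie.chevE7, Cfsg.Lie.chevE8]) :
    D.borelSubgroup F ≤ D.group F ∧ D.monomialSubgroup F ≤ D.group F ∧ D.borelSubgroup F ⊔ D.monomialSubgroup F = D.group F := by
  have h : Hyp D F := Cfsg.Agent.S1053.hyp_all D hD
  exact ⟨borel_le_group h, monomial_le_group h,
    borel_sup_monomial h (Cfsg.Agent.S1041.result D hD) (Cfsg.Agent.S1053.result D hD)⟩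

end Cfsg.Agent.S1043
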