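import Cfsg.Statements.S1046
import Mathlib
import Cfsg.Agent.Lib.Helper5.ChevTitsJ
import Cfsg.Agent.Lib.Helper5.ChevTitsQ
import Cfsg.Agent.S1031
import Cfsg.Agent.S1045
import Cfsg.Agent.S0308

set_option autoImplicit false
open Cfsg

namespace Cfsg.Agent.S1046

/-- Two elements of `H` conjugate in the Chevalley group are conjugate by an element of `N`. -/
theorem result {F : Type*} [Field F] (D : Cfsg.Lie.ChevalleyDatum) (hD : D ∈ [Cfsg.Lie.chevG2, Cfsg.Lie.chevB2, Cfsg.Lie.chevD4, Cfsg.Lie.chevF4, Cfsg.Lie.chevE6, Cfsg.Lie.chevE7, Cfsg.Lie.chevE8]) (h₁ h₂ g : GL D.Idx F) (h1 : h₁ ∈ D.diagonalSubgroup F) (h2 : h₂ ∈ D.diagonalSubgroup F)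
    (hg : g ∈ D.group F) (hc : g * h₁ * g⁻¹ = h₂) :
    ∃ n ∈ D.monomialSubgroup F, n * h₁ * n⁻¹ = h₂ := by
  have H : Cfsg.Agent.Lib.Helper5.ChevTits.Hyp D F :=
    Cfsg.Agent.Lib.Helper5.ChevTits.hyp_of D hD
      (fun i s hi hs => Cfsg.Agent.S1031.result D hD i s hi hs)
  have hdec : Cfsg.Agent.Lib.Helper5.ChevTits.Decomp D F :=
    Cfsg.Agent.Lib.Helper5.ChevTits.decomp_of D hD H.simple
      (fun i hi => Cfsg.Agent.S1045.result D hD i hi)
  exact Cfsg.Agent.Lib.Helper5.ChevTits.diagonal_conj D H hdec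
    (fun g => Cfsg.Agent.S0308.result (Cfsg.Agent.Lib.Helper5.ChevTits.bnPair D H hdec) g)
    h₁ h₂ g h1 h2 hg hc

end Cfsg.Agent.S1046
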