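-- Statement S1047: P_J is generated by H and the root subgroups X_r, r in Phi^+ or in Phi_J.
-- Proof (helper6): the negative roots of Phi_J are reached from fundamental roots of J by
-- reflections in fundamental roots of J (certificate table, kernel-checked) and conjugation by
-- the n_p (S1031) (Lib/Helper6/ChevParab, ChevParabData).
import Cfsg.Statements.S1047
import Mathlib
import Cfsg.Agent.Lib.Helper6.ChevParab
import Cfsg.Agent.Lib.Helper6.ChevParabData
import Cfsg.Agent.S1053

set_option autoImplicit false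
open Cfsg

namespace Cfsg.Agent.S1047

open Cfsg.Lie Cfsg.Agent.Lib.Helper6.ChevWeyl Cfsg.Agent.Lib.Helper6.ChevParab
  Cfsg.Agent.Lib.Helper6.ChevParabData

/-- `P_J = ⟨H, X_r : r ∈ Φ⁺ ∪ Φ_J⟩`. -/
theorem result {F : Type*} [Field F] (D : Cfsg.Lie.ChevalleyDatum) (hD : D ∈ [Cfsg.Lie.chevG2, Cfsg.Lie.chevB2, Cfsg.Lie.chevD4, Cfsg.Lie.chevF4, Cfsg.Lie.chevE6, Cfsg.Lie.chevE7, Cfsg.Lie.chevE8]) (J : Set ℕ) :
    D.parabolicSubgroup F J = D.diagonalSubgroup F ⊔
      Subgroup.closure {g : GL D.Idx F | ∃ (r : ℕ) (t : F), (D.IsPosRoot r ∨ D.InRootSub J r) ∧ (g : Matrix D.Idx D.Idx F) = D.x F r t} := by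
  have h : Hyp D F := Cfsg.Agent.S1053.hyp_all D hD
  have hD' := hD
  simp only [List.mem_cons, List.not_mem_nil, or_false] at hD'
  rcases hD' with rfl | rfl | rfl | rfl | rfl | rfl | rfl
  · exact parabolic_eq h genG2 levG2 (fun s hs => levOKG2 s (List.mem_range.mpr hs)) J
  · exact parabolic_eq h genB2 levB2 (fun s hs => levOKB2 s (List.mem_range.mpr hs)) J
  · exact parabolic_eq h genD4 levD4 (fun s hs => levOKD4 s (List.mem_range.mpr hs)) J
  · exact parabolic_eq h genF4 levF4 (fun s hs => levOKF4 s (List.mem_range.mpr hs)) J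
  · exact parabolic_eq h genE6 levE6 (fun s hs => levOKE6 s (List.mem_range.mpr hs)) J
  · exact parabolic_eq h genE7 levE7 (fun s hs => levOKE7 s (List.mem_range.mpr hs)) J
  · exact parabolic_eq h genE8 levE8 (fun s hs => levOKE8 s (List.mem_range.mpr hs)) J

end Cfsg.Agent.S1047
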