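-- Statement S1048 (Cfsg.chevalley_levi_decomposition): the Levi decomposition of the standard
-- parabolic subgroups.  Proof: the commutator formula (S1025) and a sign table give that `P_J`,
-- generated by `H` and root subgroups (S1047), normalises `U_J`; the grading of the adjoint
-- module by the root coefficients outside `J` gives `U_J ∩ L_J = 1`.
import Cfsg.Statements.S1048
import Mathlib
import Cfsg.Agent.S1025
import Cfsg.Agent.S1047
import Cfsg.Agent.Lib.Helper5.ChevSymS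
import Cfsg.Agent.Lib.Helper6.ChevLevi
import Cfsg.Agent.Lib.Helper6.ChevLeviData.All

set_option autoImplicit false
open Cfsg

namespace Cfsg.Agent.S1048

open Cfsg.Lie Cfsg.Agent.Lib.Helper6.ChevWeyl Cfsg.Agent.Lib.Helper6.ChevLevi

/-- `U_J ⊴ P_J`, `P_J = U_J L_J` and `U_J ∩ L_J = 1` (Levi decomposition of the standard parabolic subgroup). -/
theorem result {F : Type*} [Field F] (D : Cfsg.Lie.ChevalleyDatum) (hD : D ∈ [Cfsg.Lie.chevG2, Cfsg.Lie.chevB2, Cfsg.Lie.chevD4, Cfsg.Lie.chevF4, Cfsg.Lie.chevE6, Cfsg.Lie.chevE7, Cfsg.Lie.chevE8]) (J : Set ℕ) :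
    D.parabolicSubgroup F J ≤ Subgroup.normalizer (D.unipotentRadical F J : Set (GL D.Idx F)) ∧
      D.unipotentRadical F J ⊔ D.leviSubgroup F J = D.parabolicSubgroup F J ∧
      D.unipotentRadical F J ⊓ D.leviSubgroup F J = ⊥ := by
  have h : Hyp D F := Cfsg.Agent.S1053.hyp_all D hD
  have hall : AllCommF h := fun r s hr hs hsr hsn =>
    Cfsg.Agent.S1025.commF_of_mem D hD h r s hr hs hsr hsn
  have hH1 : ∀ g ∈ D.diagonalSubgroup F, ∀ r, r < D.nroots → ∀ t : F,
      ∃ t' : F, g * xGL h r t * g⁻¹ = xGL h r t' := by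
    intro g hg r hr t
    obtain ⟨t', ht'⟩ := Cfsg.Agent.Lib.Helper5.ChevSym.conj_root D hD g hg (xGL h r t) r hr t
      (xGL_val h r t)
    exact ⟨t', Units.ext (by rw [ht', xGL_val])⟩
  have hH2 : ∀ g ∈ D.diagonalSubgroup F, ∃ d : D.Idx → F,
      (g : Matrix D.Idx D.Idx F) = Matrix.diagonal d := by
    intro g hg
    obtain ⟨c, hc⟩ := Cfsg.Agent.Lib.Helper5.ChevSym.mem_diagonalSubgroup D hD g hg
    exact ⟨_, hc⟩
  have hpar := Cfsg.Agent.S1047.result (F := F) D hD J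
  have hD' := hD
  simp only [List.mem_cons, List.not_mem_nil, or_false] at hD'
  rcases hD' with rfl | rfl | rfl | rfl | rfl | rfl | rfl
  · exact levi_decomposition h hall pn_G2 sgn_G2 rcG2 rc_G2 grad_G2 hH1 hH2 J hpar
  · exact levi_decomposition h hall pn_B2 sgn_B2 rcB2 rc_B2 grad_B2 hH1 hH2 J hpar
  · exact levi_decomposition h hall pn_D4 sgn_D4 rcD4 rc_D4 grad_D4 hH1 hH2 J hpar
  · exact levi_decomposition h hall pn_F4 sgn_F4 rcF4 rc_F4 grad_F4 hH1 hH2 J hpar
  · exact levi_decomposition h hall pn_E6 sgn_E6 rcE6 rc_E6 grad_E6 hH1 hH2 J hpar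
  · exact levi_decomposition h hall pn_E7 sgn_E7 rcE7 rc_E7 grad_E7 hH1 hH2 J hpar
  · exact levi_decomposition h hall pn_E8 sgn_E8 rcE8 rc_E8 grad_E8 hH1 hH2 J hpar

end Cfsg.Agent.S1048
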