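import Cfsg.Statements.S1049
import Mathlib
import Cfsg.Agent.Lib.Helper5.ChevTitsJ
import Cfsg.Agent.Lib.Helper5.ChevTitsP
import Cfsg.Agent.S1031
import Cfsg.Agent.S1045
import Cfsg.Agent.S0311
import Cfsg.Agent.S1048

set_option autoImplicit false
open Cfsg

namespace Cfsg.Agent.S1049

/-- `N_G(U_J) = P_J`: the normaliser of `U_J` inside the Chevalley group is the standard parabolic subgroup. -/
theorem result {F : Type*} [Field F] (D : Cfsg.Lie.ChevalleyDatum) (hD : D ∈ [Cfsg.Lie.chevG2, Cfsg.Lie.chevB2, Cfsg.Lie.chevD4, Cfsg.Lie.chevF4, Cfsg.Lie.chevE6, Cfsg.Lie.chevE7, Cfsg.Lie.chevE8]) (J : Set ℕ) (hJ : ∀ j ∈ J, j < D.rank) :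
    Subgroup.normalizer (D.unipotentRadical F J : Set (GL D.Idx F)) ⊓ D.group F = D.parabolicSubgroup F J := by
  have H : Cfsg.Agent.Lib.Helper5.ChevTits.Hyp D F :=
    Cfsg.Agent.Lib.Helper5.ChevTits.hyp_of D hD
      (fun i s hi hs => Cfsg.Agent.S1031.result D hD i s hi hs)
  have hdec : Cfsg.Agent.Lib.Helper5.ChevTits.Decomp D F :=
    Cfsg.Agent.Lib.Helper5.ChevTits.decomp_of D hD H.simple
      (fun i hi => Cfsg.Agent.S1045.result D hD i hi)
  exact Cfsg.Agent.Lib.Helper5.ChevTits.normalizer_unipotentRadical D H hdec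
    (Cfsg.Agent.Lib.Helper5.ChevTits.simpleCoroot_of_mem D hD) J
    (fun M hM => Cfsg.Agent.S0311.result (Cfsg.Agent.Lib.Helper5.ChevTits.bnPair D H hdec) M hM)
    (Cfsg.Agent.S1048.result D hD J).1

end Cfsg.Agent.S1049
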