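import Cfsg.Statements.S1060
import Mathlib
import Cfsg.Agent.Lib.Helper5.ChevTitsJ
import Cfsg.Agent.Lib.Helper5.ChevOrdB2
import Cfsg.Agent.S1031
import Cfsg.Agent.S1045
import Cfsg.Agent.S0308
import Cfsg.Agent.S0311
import Cfsg.Agent.S1035

set_option autoImplicit false
open Cfsg

namespace Cfsg.Agent.S1060

/-- `gcd(2, q-1) · |B₂(q)| = q⁴ (q² - 1)(q⁴ - 1)`. -/
theorem result {F : Type*} [Field F] [Fintype F] {q : ℕ} (hq : Fintype.card F = q) : Nat.gcd 2 (q - 1) * Nat.card ↥(Cfsg.Lie.chevB2.group F) = q ^ 4 * (q ^ 2 - 1) * (q ^ 4 - 1) := by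
  have hD : Cfsg.Lie.chevB2 ∈ [Cfsg.Lie.chevG2, Cfsg.Lie.chevB2, Cfsg.Lie.chevD4, Cfsg.Lie.chevF4,
      Cfsg.Lie.chevE6, Cfsg.Lie.chevE7, Cfsg.Lie.chevE8] := by simp
  have H : Cfsg.Agent.Lib.Helper5.ChevTits.Hyp Cfsg.Lie.chevB2 F :=
    Cfsg.Agent.Lib.Helper5.ChevTits.hyp_of _ hD
      (fun i s hi hs => Cfsg.Agent.S1031.result _ hD i s hi hs)
  have hdec : Cfsg.Agent.Lib.Helper5.ChevTits.Decomp Cfsg.Lie.chevB2 F :=
    Cfsg.Agent.Lib.Helper5.ChevTits.decomp_of _ hD H.simple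
      (fun i hi => Cfsg.Agent.S1045.result _ hD i hi)
  have hcard := Cfsg.Agent.Lib.Helper5.ChevTits.card_group_formula Cfsg.Lie.chevB2 H hdec
    (fun M hM => Cfsg.Agent.S0311.result (Cfsg.Agent.Lib.Helper5.ChevTits.bnPair _ H hdec) M hM)
    (fun g => Cfsg.Agent.S0308.result (Cfsg.Agent.Lib.Helper5.ChevTits.bnPair _ H hdec) g)
    Cfsg.Agent.Lib.Helper5.ChevTits.repsB2 Cfsg.Agent.Lib.Helper5.ChevTits.actsB2
    Cfsg.Agent.Lib.Helper5.ChevTits.coverB2 Cfsg.Agent.Lib.Helper5.ChevTits.longB2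
    Cfsg.Agent.Lib.Helper5.ChevTits.longOKB2
  have hH := Cfsg.Agent.S1035.result hq (Cfsg.Lie.chevB2, Nat.gcd 2 (q - 1)) (by simp)
  have hN : Cfsg.Lie.chevB2.nroots / 2 = 4 := by decide
  have hr : Cfsg.Lie.chevB2.rank = 2 := by decide
  simp only [hr] at hH
  rw [hcard, Cfsg.Agent.Lib.Helper5.ChevTits.poincareB2, Nat.card_eq_fintype_card, hq, hN]
  have hmul : ∀ W : ℕ, Nat.gcd 2 (q - 1) *
      (q ^ 4 * Nat.card ↥(Cfsg.Lie.chevB2.diagonalSubgroup F) * W) = q ^ 4 * (q - 1) ^ 2 * W := by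
    intro W
    rw [← hH]; ring
  rw [hmul]
  have hq1 : 1 ≤ q := by rw [← hq]; exact Fintype.card_pos
  have h2 : 1 ≤ q ^ 2 := Nat.one_le_pow _ _ hq1
  have h4 : 1 ≤ q ^ 4 := Nat.one_le_pow _ _ hq1
  zify [hq1, h2, h4]
  ring

end Cfsg.Agent.S1060
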