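-- Statement S1058 (Cfsg.chevalley_b2_two_equiv_symmetric_six): B₂(2) ≅ S₆.
-- Proof: the group permutes six linear forms on the adjoint module (an orbit found by computer and
-- checked in the kernel over ZMod 2), the induced permutations contain a 6-cycle and an adjacent
-- transposition, and |B₂(2)| = 720 by the order formula S1060.
import Cfsg.Statements.S1058
import Mathlib
import Cfsg.Agent.S1053
import Cfsg.Agent.S1060
import Cfsg.Agent.Lib.Helper6.B2S6

set_option autoImplicit false
open Cfsg

namespace Cfsg.Agent.S1058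

open Cfsg.Lie Cfsg.Agent.Lib.Helper6.ChevWeyl

/-- B₂(2) ≅ S₆. -/
theorem result {F : Type*} [Field F] [Fintype F] (hF : Fintype.card F = 2) :
    Nonempty (↥(Cfsg.Lie.chevB2.group F) ≃* Equiv.Perm (Fin 6)) := by
  have h : Hyp chevB2 F := Cfsg.Agent.S1053.hyp_all chevB2 (by simp)
  have hcard : Nat.card ↥(chevB2.group F) = 720 := by
    have := Cfsg.Agent.S1060.result (F := F) (q := 2) hF
    norm_num at this
    exact this
  exact Cfsg.Agent.Lib.Helper6.B2S6.nonempty_mulEquiv hF h hcard

end Cfsg.Agent.S1058
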