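import Cfsg.Statements.S1059
import Mathlib
import Cfsg.Agent.Lib.Helper5.ChevTitsJ
import Cfsg.Agent.Lib.Helper5.ChevOrdG2
import Cfsg.Agent.S1031
import Cfsg.Agent.S1045
import Cfsg.Agent.S0308
import Cfsg.Agent.S0311
import Cfsg.Agent.S1035

set_option autoImplicit false
open Cfsg

namespace Cfsg.Agent.S1059

/-- `|G₂(q)| = q⁶ (q² - 1)(q⁶ - 1)`. -/
theorem result {F : Type*} [Field F] [Fintype F] {q : ℕ} (hq : Fintype.card F = q) : Nat.card ↥(Cfsg.Lie.chevG2.group F) = q ^ 6 * (q ^ 2 - 1) * (q ^ 6 - 1) := by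
  have hD : Cfsg.Lie.chevG2 ∈ [Cfsg.Lie.chevG2, Cfsg.Lie.chevB2, Cfsg.Lie.chevD4, Cfsg.Lie.chevF4,
      Cfsg.Lie.chevE6, Cfsg.Lie.chevE7, Cfsg.Lie.chevE8] := by simp
  have H : Cfsg.Agent.Lib.Helper5.ChevTits.Hyp Cfsg.Lie.chevG2 F :=
    Cfsg.Agent.Lib.Helper5.ChevTits.hyp_of _ hD
      (fun i s hi hs => Cfsg.Agent.S1031.result _ hD i s hi hs)
  have hdec : Cfsg.Agent.Lib.Helper5.ChevTits.Decomp Cfsg.Lie.chevG2 F :=
    Cfsg.Agent.Lib.Helper5.ChevTits.decomp_of _ hD H.simple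
      (fun i hi => Cfsg.Agent.S1045.result _ hD i hi)
  have hcard := Cfsg.Agent.Lib.Helper5.ChevTits.card_group_formula Cfsg.Lie.chevG2 H hdec
    (fun M hM => Cfsg.Agent.S0311.result (Cfsg.Agent.Lib.Helper5.ChevTits.bnPair _ H hdec) M hM)
    (fun g => Cfsg.Agent.S0308.result (Cfsg.Agent.Lib.Helper5.ChevTits.bnPair _ H hdec) g)
    Cfsg.Agent.Lib.Helper5.ChevTits.repsG2 Cfsg.Agent.Lib.Helper5.ChevTits.actsG2
    Cfsg.Agent.Lib.Helper5.ChevTits.coverG2 Cfsg.Agent.Lib.Helper5.ChevTits.longG2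
    Cfsg.Agent.Lib.Helper5.ChevTits.longOKG2
  have hH := Cfsg.Agent.S1035.result hq (Cfsg.Lie.chevG2, 1) (by simp)
  have hN : Cfsg.Lie.chevG2.nroots / 2 = 6 := by decide
  have hr : Cfsg.Lie.chevG2.rank = 2 := by decide
  simp only [hr, one_mul] at hH
  rw [hcard, Cfsg.Agent.Lib.Helper5.ChevTits.poincareG2, Nat.card_eq_fintype_card, hq, hN, hH]
  have hq1 : 1 ≤ q := by rw [← hq]; exact Fintype.card_pos
  have h2 : 1 ≤ q ^ 2 := Nat.one_le_pow _ _ hq1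
  have h6 : 1 ≤ q ^ 6 := Nat.one_le_pow _ _ hq1
  zify [hq1, h2, h6]
  ring

end Cfsg.Agent.S1059
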