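import Cfsg.Statements.S1075
import Cfsg.Agent.Lib.Helper1.Ree3I
import Cfsg.Agent.Lib.Helper1.Ree3L

set_option autoImplicit false
open Cfsg

namespace Cfsg.Agent.S1075

/-- The derived subgroup of ²G₂(3) (θ = identity over the field with three elements) has order 504 = 1512/3 and is isomorphic to PSL₂ over the field with eight elements. -/
theorem result {L : Type*} [Field L] [Fintype L] (hL : Fintype.card L = 8) :
    Nat.card ↥(commutator ↥(Cfsg.Lie.twistedG2 (ZMod 3) 1)) = 504 ∧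
      Nonempty (↥(commutator ↥(Cfsg.Lie.twistedG2 (ZMod 3) 1)) ≃* Matrix.ProjectiveSpecialLinearGroup (Fin 2) L) := by
  classical
  letI : MulAction (commutator Cfsg.Agent.Lib.Helper1.Ree3.Dl) (Fin 9) :=
    MulAction.compHom (Fin 9) (Cfsg.Agent.Lib.Helper1.Ree3.psi9.comp
      (commutator Cfsg.Agent.Lib.Helper1.Ree3.Dl).subtype)
  obtain ⟨e⟩ := Cfsg.Agent.Lib.Helper1.Ree3.psl_of_sharp
    (D := commutator Cfsg.Agent.Lib.Helper1.Ree3.Dl) (α := Fin 9) (by simp)
    Cfsg.Agent.Lib.Helper1.Ree3.card_comm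
    (fun g a b c hab hac hbc ha hb hc =>
      Subtype.ext (Cfsg.Agent.Lib.Helper1.Ree3.free9 g.1 g.2 a b c hab hac hbc ha hb hc)) hL
  let eC := Cfsg.Agent.Lib.Helper1.Ree3.commEquiv Cfsg.Agent.Lib.Helper1.Ree3.eG
  refine ⟨?_, ⟨eC.symm.trans e⟩⟩
  rw [← Nat.card_congr eC.toEquiv]
  exact Cfsg.Agent.Lib.Helper1.Ree3.card_comm

end Cfsg.Agent.S1075
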