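-- Statement S1081: graph automorphisms of the Chevalley groups of types E6 and D4.
-- Proof (helper6): conjugation by an explicit signed permutation matrix; the relations
-- P x_r(t) = x_{rho r}(sigma_r t) P are checked column by column by kernel computation
-- (engine: Lib/Helper6/ChevSparse, ChevFast, ChevCols).
import Cfsg.Statements.S1081
import Mathlib
import Cfsg.Agent.Lib.Helper6.ChevCols
import Cfsg.Prelude.Def_ChevE6
import Cfsg.Prelude.Def_ChevD4

set_option autoImplicit false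
open Cfsg

namespace Cfsg.Agent.S1081

open Cfsg.Lie Cfsg.Agent.Lib.Helper6.ChevSparse Cfsg.Agent.Lib.Helper6.ChevFast
  Cfsg.Agent.Lib.Helper6.ChevCols

/-- a signed permutation of the coded indices together with its inverse -/
structure GData where
  perm : List ℕ
  sgn : List ℤ
  perm' : List ℕ
  sgn' : List ℤ

/-- the induced map on root indices -/
def rootMap (D : ChevalleyDatum) (perm : List ℕ) (r : ℕ) : ℕ := perm.getD (D.rank + r) 0 - D.rank

/-- the sign attached to a root -/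
def rootSgn (D : ChevalleyDatum) (sgn : List ℤ) (r : ℕ) : ℤ := sgn.getD (D.rank + r) 0

/-- the two signed permutation matrices are mutually inverse -/
def invCheck (D : ChevalleyDatum) (g : GData) : Prop :=
  ∀ col ∈ List.range (D.rank + D.nroots),
    svecEq (applyCols (D.rank + D.nroots) (pCol g.perm g.sgn) (pCol g.perm' g.sgn' col))
        [(col, pone)] = true ∧
      svecEq (applyCols (D.rank + D.nroots) (pCol g.perm' g.sgn') (pCol g.perm g.sgn col))
        [(col, pone)] = true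

instance (D : ChevalleyDatum) (g : GData) : Decidable (invCheck D g) := by
  unfold invCheck; infer_instance

/-- `P x_r(X₁) = x_{ρ r}(σ_r X₁) P`, for one root -/
def conjCheckR (D : ChevalleyDatum) (perm : List ℕ) (sgn : List ℤ) (r : ℕ) : Prop :=
  rootMap D perm r < D.nroots ∧
    ∀ col ∈ List.range (D.rank + D.nroots),
      svecEq (applyCols (D.rank + D.nroots) (pCol perm sgn) (xColF (mkFD D) r pX1 col))
        (applyCols (D.rank + D.nroots)
          (xColF (mkFD D) (rootMap D perm r) (psmul (rootSgn D sgn r) pX1)) (pCol perm sgn col))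
        = true

instance (D : ChevalleyDatum) (perm : List ℕ) (sgn : List ℤ) (r : ℕ) :
    Decidable (conjCheckR D perm sgn r) := by
  unfold conjCheckR; infer_instance

/-- the conjugation check for a list of roots -/
def conjCheckL (D : ChevalleyDatum) (perm : List ℕ) (sgn : List ℤ) (l : List ℕ) : Prop :=
  ∀ r ∈ l, conjCheckR D perm sgn r

instance (D : ChevalleyDatum) (perm : List ℕ) (sgn : List ℤ) (l : List ℕ) :
    Decidable (conjCheckL D perm sgn l) := by
  unfold conjCheckL; infer_instance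

/-- the behaviour on the fundamental roots and their negatives -/
def simpleCheck (D : ChevalleyDatum) (ρ : List ℕ) (g : GData) : Prop :=
  ∀ i ∈ List.range D.rank,
    D.simple i < D.nroots ∧ D.neg (D.simple i) < D.nroots ∧
    rootMap D g.perm (D.simple i) = D.simple (ρ.getD i 0) ∧ rootSgn D g.sgn (D.simple i) = 1 ∧
    rootMap D g.perm (D.neg (D.simple i)) = D.neg (D.simple (ρ.getD i 0)) ∧
    rootSgn D g.sgn (D.neg (D.simple i)) = 1

instance (D : ChevalleyDatum) (ρ : List ℕ) (g : GData) : Decidable (simpleCheck D ρ g) := by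
  unfold simpleCheck; infer_instance

section generic

variable {F : Type*} [Field F]

theorem conj_of_check (D : ChevalleyDatum) (perm : List ℕ) (sgn : List ℤ) (r : ℕ)
    (hr : r < D.nroots) (h : conjCheckR D perm sgn r) (t : F) :
    PMat D perm sgn * D.x F r t
      = D.x F (rootMap D perm r) ((rootSgn D sgn r : F) * t) * PMat D perm sgn := by
  obtain ⟨h1, h3⟩ := h
  have hx1 := hasCols_x D ((t, (0 : F), (0 : F)) : F × F × F) r hr pX1
  rw [pev_X1] at hx1
  have hx2 := hasCols_x D ((t, (0 : F), (0 : F)) : F × F × F) (rootMap D perm r) h1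
    (psmul (rootSgn D sgn r) pX1)
  rw [pev_smul, pev_X1] at hx2
  exact eq_of_cols ((hasCols_P D _ perm sgn).mul hx1) (hx2.mul (hasCols_P D _ perm sgn)) h3

theorem P_mul_P' (D : ChevalleyDatum) (g : GData) (h : invCheck D g) :
    (PMat D g.perm g.sgn : Matrix D.Idx D.Idx F) * PMat D g.perm' g.sgn' = 1 :=
  eq_of_cols ((hasCols_P D ((0, 0, 0) : F × F × F) g.perm g.sgn).mul (hasCols_P D _ g.perm' g.sgn'))
    (hasCols_one D _) (fun col hcol => (h col hcol).1)

theorem P'_mul_P (D : ChevalleyDatum) (g : GData) (h : invCheck D g) :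
    (PMat D g.perm' g.sgn' : Matrix D.Idx D.Idx F) * PMat D g.perm g.sgn = 1 :=
  eq_of_cols ((hasCols_P D ((0, 0, 0) : F × F × F) g.perm' g.sgn').mul (hasCols_P D _ g.perm g.sgn))
    (hasCols_one D _) (fun col hcol => (h col hcol).2)

/-- the signed permutation matrix as an element of the general linear group -/
def Pgl (D : ChevalleyDatum) (g : GData) (h : invCheck D g) : GL D.Idx F :=
  ⟨PMat D g.perm g.sgn, PMat D g.perm' g.sgn', P_mul_P' D g h, P'_mul_P D g h⟩

theorem conj_val {n : Type*} [Fintype n] [DecidableEq n] (P x : GL n F) (X' : Matrix n n F)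
    (h : (P : Matrix n n F) * (x : Matrix n n F) = X' * (P : Matrix n n F)) :
    ((P * x * P⁻¹ : GL n F) : Matrix n n F) = X' := by
  rw [Units.val_mul, Units.val_mul, h, mul_assoc, ← Units.val_mul, mul_inv_cancel, Units.val_one,
    mul_one]

theorem gen_mem (D : ChevalleyDatum) (r : ℕ) (hr : r < D.nroots) (t : F) (x : GL D.Idx F)
    (hx : (x : Matrix D.Idx D.Idx F) = D.x F r t) : x ∈ D.group F := by
  apply Subgroup.subset_closure
  refine ⟨⟨r, hr⟩, t, ?_⟩
  rw [hx]
  unfold ChevalleyDatum.x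
  rw [dif_pos hr]

theorem conj_mem (D : ChevalleyDatum) (perm : List ℕ) (sgn : List ℤ)
    (hc : conjCheckL D perm sgn (List.range D.nroots)) (Q : GL D.Idx F)
    (hQ : (Q : Matrix D.Idx D.Idx F) = PMat D perm sgn) :
    ∀ x ∈ D.group F, Q * x * Q⁻¹ ∈ D.group F := by
  intro x hx
  unfold ChevalleyDatum.group at hx
  induction hx using Subgroup.closure_induction with
  | mem y hy =>
    obtain ⟨r, t, hy⟩ := hy
    have hr := r.isLt
    have hyx : (y : Matrix D.Idx D.Idx F) = D.x F r.val t := by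
      rw [hy]; unfold ChevalleyDatum.x; rw [dif_pos hr]
    have hcr := hc r.val (List.mem_range.mpr hr)
    have h1 := conj_of_check D perm sgn r.val hr hcr t
    rw [← hQ, ← hyx] at h1
    exact gen_mem D _ hcr.1 _ _ (conj_val Q y _ h1)
  | one =>
    have : Q * 1 * Q⁻¹ = 1 := by group
    rw [this]; exact one_mem _
  | mul y z _ _ hy hz =>
    have : Q * (y * z) * Q⁻¹ = (Q * y * Q⁻¹) * (Q * z * Q⁻¹) := by group
    rw [this]; exact mul_mem hy hz
  | inv y _ hy =>
    have : Q * y⁻¹ * Q⁻¹ = (Q * y * Q⁻¹)⁻¹ := by group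
    rw [this]; exact inv_mem hy

/-- conjugation by an element normalising a subgroup in both directions -/
def conjEquiv {G : Type*} [Group G] (H : Subgroup G) (Q : G) (h1 : ∀ x ∈ H, Q * x * Q⁻¹ ∈ H)
    (h2 : ∀ x ∈ H, Q⁻¹ * x * Q⁻¹⁻¹ ∈ H) : H ≃* H where
  toFun x := ⟨Q * x * Q⁻¹, h1 x x.2⟩
  invFun x := ⟨Q⁻¹ * x * Q⁻¹⁻¹, h2 x x.2⟩
  left_inv x := by
    apply Subtype.ext
    simp only
    group
  right_inv x := by
    apply Subtype.ext
    simp only
    group
  map_mul' x y := by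
    apply Subtype.ext
    simp only [Subgroup.coe_mul]
    group

theorem main (D : ChevalleyDatum) (ρ : List ℕ) (g : GData) (hinv : invCheck D g)
    (hc : conjCheckL D g.perm g.sgn (List.range D.nroots))
    (hc' : conjCheckL D g.perm' g.sgn' (List.range D.nroots)) (hs : simpleCheck D ρ g) :
    ∃ α : ↥(D.group F) ≃* ↥(D.group F), ∀ (x : ↥(D.group F)) (i : ℕ) (t : F), i < D.rank →
      (((x : GL D.Idx F) : Matrix D.Idx D.Idx F) = D.x F (D.simple i) t →
        ((α x : GL D.Idx F) : Matrix D.Idx D.Idx F) = D.x F (D.simple (ρ.getD i 0)) t) ∧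
      (((x : GL D.Idx F) : Matrix D.Idx D.Idx F) = D.x F (D.neg (D.simple i)) t →
        ((α x : GL D.Idx F) : Matrix D.Idx D.Idx F) = D.x F (D.neg (D.simple (ρ.getD i 0))) t) := by
  let Q : GL D.Idx F := Pgl D g hinv
  have hQ : (Q : Matrix D.Idx D.Idx F) = PMat D g.perm g.sgn := rfl
  have hQ' : ((Q⁻¹ : GL D.Idx F) : Matrix D.Idx D.Idx F) = PMat D g.perm' g.sgn' := rfl
  refine ⟨conjEquiv (D.group F) Q (conj_mem D _ _ hc Q hQ) (conj_mem D _ _ hc' Q⁻¹ hQ'), ?_⟩
  intro x i t hi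
  obtain ⟨h1, h2, h3, h4, h5, h6⟩ := hs i (List.mem_range.mpr hi)
  have hval : ((conjEquiv (D.group F) Q (conj_mem D _ _ hc Q hQ) (conj_mem D _ _ hc' Q⁻¹ hQ') x
      : GL D.Idx F)) = Q * (x : GL D.Idx F) * Q⁻¹ := rfl
  constructor
  · intro hx
    rw [hval]
    have hcr := hc (D.simple i) (List.mem_range.mpr h1)
    have e := conj_of_check D g.perm g.sgn (D.simple i) h1 hcr t
    rw [← hQ, ← hx, h3, h4] at e
    rw [conj_val Q _ _ e]
    simp
  · intro hx
    rw [hval]
    have hcr := hc (D.neg (D.simple i)) (List.mem_range.mpr h2)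
    have e := conj_of_check D g.perm g.sgn (D.neg (D.simple i)) h2 hcr t
    rw [← hQ, ← hx, h5, h6] at e
    rw [conj_val Q _ _ e]
    simp

end generic

/-! ### The data -/

/-- the data of the graph automorphism E6 -/
def gE6 : GData where
  perm := [5, 1, 4, 3, 2, 0, 6, 7, 8, 11, 22, 9, 12, 23, 14, 25, 28, 17, 32, 36, 39, 41, 10, 13, 24, 15, 26, 29, 16, 27, 30, 31, 18, 33, 37, 40, 19, 34, 38, 20, 35, 21, 62, 48, 63, 45, 49, 64, 43, 46, 50, 65, 52, 53, 56, 67, 54, 57, 68, 59, 70, 73, 42, 44, 47, 51, 66, 55, 58, 69, 60, 71, 74, 61, 72, 75, 76, 77]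
  sgn := [1, 1, 1, 1, 1, 1, 1, 1, 1, 1, -1, 1, 1, -1, 1, -1, -1, 1, -1, 1, -1, 1, -1, -1, 1, -1, 1, 1, -1, 1, 1, 1, -1, 1, -1, 1, 1, -1, 1, -1, 1, 1, 1, 1, -1, 1, -1, 1, 1, -1, 1, -1, 1, 1, 1, -1, 1, 1, -1, 1, -1, -1, 1, -1, 1, -1, 1, -1, -1, 1, -1, 1, 1, -1, 1, 1, 1, 1]
  perm' := [5, 1, 4, 3, 2, 0, 6, 7, 8, 11, 22, 9, 12, 23, 14, 25, 28, 17, 32, 36, 39, 41, 10, 13, 24, 15, 26, 29, 16, 27, 30, 31, 18, 33, 37, 40, 19, 34, 38, 20, 35, 21, 62, 48, 63, 45, 49, 64, 43, 46, 50, 65, 52, 53, 56, 67, 54, 57, 68, 59, 70, 73, 42, 44, 47, 51, 66, 55, 58, 69, 60, 71, 74, 61, 72, 75, 76, 77]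
  sgn' := [1, 1, 1, 1, 1, 1, 1, 1, 1, 1, -1, 1, 1, -1, 1, -1, -1, 1, -1, 1, -1, 1, -1, -1, 1, -1, 1, 1, -1, 1, 1, 1, -1, 1, -1, 1, 1, -1, 1, -1, 1, 1, 1, 1, -1, 1, -1, 1, 1, -1, 1, -1, 1, 1, 1, -1, 1, 1, -1, 1, -1, -1, 1, -1, 1, -1, 1, -1, -1, 1, -1, 1, 1, -1, 1, 1, 1, 1]

/-- the data of the graph automorphism D4a -/
def gD4a : GData where
  perm := [2, 1, 3, 0, 4, 5, 10, 6, 11, 14, 7, 12, 8, 13, 15, 9, 22, 16, 18, 23, 19, 24, 17, 20, 25, 21, 26, 27]
  sgn := [1, 1, 1, 1, 1, 1, -1, 1, -1, 1, -1, 1, -1, 1, 1, 1, 1, 1, 1, -1, 1, -1, 1, -1, 1, -1, 1, 1]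
  perm' := [3, 1, 0, 2, 4, 5, 7, 10, 12, 15, 6, 8, 11, 13, 9, 14, 17, 22, 18, 20, 23, 25, 16, 19, 21, 24, 26, 27]
  sgn' := [1, 1, 1, 1, 1, 1, 1, -1, -1, 1, -1, -1, 1, 1, 1, 1, 1, 1, 1, 1, -1, -1, 1, -1, -1, 1, 1, 1]

/-- the data of the graph automorphism D4b -/
def gD4b : GData where
  perm := [3, 1, 0, 2, 4, 5, 7, 10, 12, 15, 6, 8, 11, 13, 9, 14, 17, 22, 18, 20, 23, 25, 16, 19, 21, 24, 26, 27]
  sgn := [1, 1, 1, 1, 1, 1, 1, -1, -1, 1, -1, -1, 1, 1, 1, 1, 1, 1, 1, 1, -1, -1, 1, -1, -1, 1, 1, 1]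
  perm' := [2, 1, 3, 0, 4, 5, 10, 6, 11, 14, 7, 12, 8, 13, 15, 9, 22, 16, 18, 23, 19, 24, 17, 20, 25, 21, 26, 27]
  sgn' := [1, 1, 1, 1, 1, 1, -1, 1, -1, 1, -1, 1, -1, 1, 1, 1, 1, 1, 1, -1, 1, -1, 1, -1, 1, -1, 1, 1]


/-! ### Kernel checks, D4 -/

set_option maxHeartbeats 0 in
set_option maxRecDepth 100000 in
theorem inv_D4a : invCheck chevD4 gD4a := by decide +kernel

set_option maxHeartbeats 0 in
set_option maxRecDepth 100000 in
theorem inv_D4b : invCheck chevD4 gD4b := by decide +kernel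

set_option maxHeartbeats 0 in
set_option maxRecDepth 100000 in
theorem conj_D4a : conjCheckL chevD4 gD4a.perm gD4a.sgn (List.range chevD4.nroots) := by
  decide +kernel

set_option maxHeartbeats 0 in
set_option maxRecDepth 100000 in
theorem conj_D4b : conjCheckL chevD4 gD4b.perm gD4b.sgn (List.range chevD4.nroots) := by
  decide +kernel

set_option maxHeartbeats 0 in
set_option maxRecDepth 100000 in
theorem simple_D4a : simpleCheck chevD4 [2, 1, 3, 0] gD4a := by decide +kernel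

set_option maxHeartbeats 0 in
set_option maxRecDepth 100000 in
theorem simple_D4b : simpleCheck chevD4 [3, 1, 0, 2] gD4b := by decide +kernel

/-! ### Kernel checks, E6 -/

set_option maxHeartbeats 0 in
set_option maxRecDepth 100000 in
theorem inv_E6 : invCheck chevE6 gE6 := by decide +kernel

set_option maxHeartbeats 0 in
set_option maxRecDepth 100000 in
theorem simple_E6 : simpleCheck chevE6 [5, 1, 4, 3, 2, 0] gE6 := by decide +kernel

set_option maxHeartbeats 0 in
set_option maxRecDepth 100000 in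
theorem conj_E6_0 : conjCheckL chevE6 gE6.perm gE6.sgn (List.range' 0 12) := by
  decide +kernel

set_option maxHeartbeats 0 in
set_option maxRecDepth 100000 in
theorem conj_E6_1 : conjCheckL chevE6 gE6.perm gE6.sgn (List.range' 12 12) := by
  decide +kernel

set_option maxHeartbeats 0 in
set_option maxRecDepth 100000 in
theorem conj_E6_2 : conjCheckL chevE6 gE6.perm gE6.sgn (List.range' 24 12) := by
  decide +kernel

set_option maxHeartbeats 0 in
set_option maxRecDepth 100000 in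
theorem conj_E6_3 : conjCheckL chevE6 gE6.perm gE6.sgn (List.range' 36 12) := by
  decide +kernel

set_option maxHeartbeats 0 in
set_option maxRecDepth 100000 in
theorem conj_E6_4 : conjCheckL chevE6 gE6.perm gE6.sgn (List.range' 48 12) := by
  decide +kernel

set_option maxHeartbeats 0 in
set_option maxRecDepth 100000 in
theorem conj_E6_5 : conjCheckL chevE6 gE6.perm gE6.sgn (List.range' 60 12) := by
  decide +kernel

theorem conj_E6 : conjCheckL chevE6 gE6.perm gE6.sgn (List.range chevE6.nroots) := by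
  intro r hr
  have hr' : r < 72 := List.mem_range.mp hr
  by_cases h0 : r < 12
  · exact conj_E6_0 r (List.mem_range'_1.mpr ⟨by omega, by omega⟩)
  by_cases h1 : r < 24
  · exact conj_E6_1 r (List.mem_range'_1.mpr ⟨by omega, by omega⟩)
  by_cases h2 : r < 36
  · exact conj_E6_2 r (List.mem_range'_1.mpr ⟨by omega, by omega⟩)
  by_cases h3 : r < 48
  · exact conj_E6_3 r (List.mem_range'_1.mpr ⟨by omega, by omega⟩)
  by_cases h4 : r < 60
  · exact conj_E6_4 r (List.mem_range'_1.mpr ⟨by omega, by omega⟩)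
  · exact conj_E6_5 r (List.mem_range'_1.mpr ⟨by omega, by omega⟩)

/-- Graph automorphisms: for E₆ with ρ = (p₁ p₆)(p₃ p₅) and for D₄ with ρ the 3-cycle on the outer nodes there is a group automorphism sending `x_p(t) ↦ x_{ρ(p)}(t)` and `x_{-p}(t) ↦ x_{-ρ(p)}(t)` for every fundamental root `p`. -/
theorem result {F : Type*} [Field F] (p : Cfsg.Lie.ChevalleyDatum × List ℕ)
    (hp : p ∈ [(Cfsg.Lie.chevE6, [5, 1, 4, 3, 2, 0]), (Cfsg.Lie.chevD4, [2, 1, 3, 0]), (Cfsg.Lie.chevD4, [3, 1, 0, 2])]) :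
    ∃ α : ↥(p.1.group F) ≃* ↥(p.1.group F), ∀ (g : ↥(p.1.group F)) (i : ℕ) (t : F), i < p.1.rank →
      (((g : GL p.1.Idx F) : Matrix p.1.Idx p.1.Idx F) = p.1.x F (p.1.simple i) t →
        ((α g : GL p.1.Idx F) : Matrix p.1.Idx p.1.Idx F) = p.1.x F (p.1.simple (p.2.getD i 0)) t) ∧
      (((g : GL p.1.Idx F) : Matrix p.1.Idx p.1.Idx F) = p.1.x F (p.1.neg (p.1.simple i)) t →
        ((α g : GL p.1.Idx F) : Matrix p.1.Idx p.1.Idx F) = p.1.x F (p.1.neg (p.1.simple (p.2.getD i 0))) t) := by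
  simp only [List.mem_cons, List.not_mem_nil, or_false] at hp
  rcases hp with rfl | rfl | rfl
  · exact main chevE6 [5, 1, 4, 3, 2, 0] gE6 inv_E6 conj_E6 conj_E6 simple_E6
  · exact main chevD4 [2, 1, 3, 0] gD4a inv_D4a conj_D4a conj_D4b simple_D4a
  · exact main chevD4 [3, 1, 0, 2] gD4b inv_D4b conj_D4b conj_D4a simple_D4b

end Cfsg.Agent.S1081
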