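import Cfsg.Statements.S1118
import Mathlib
import Cfsg.Agent.Lib.Helper27.RankOneInv

set_option autoImplicit false
open Cfsg
open Cfsg.Agent.Lib.Helper28 Cfsg.Agent.Lib.Helper27.RankOne

namespace Cfsg.Agent.S1118

variable {G Ω : Type*} [Group G] [MulAction G Ω] {a : Ω} {t : G} {Q : Subgroup G}

theorem normalizer_le (hS : Cfsg.IsRankOneSetup G Ω a t Q) (X : Set G) (hX : X ⊆ (Q : Set G))
    (hne : ∃ x ∈ X, x ≠ 1) : Subgroup.normalizer X ≤ MulAction.stabilizer G a := by
  intro g hg
  obtain ⟨x, hxX, hx1⟩ := hne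
  have hmem : g * x * g⁻¹ ∈ X := (hg x).1 hxX
  have hQ : g * x * g⁻¹ ∈ Q := hX hmem
  have hne1 : g * x * g⁻¹ ≠ 1 := by
    intro h
    apply hx1
    have : x = g⁻¹ * (g * x * g⁻¹) * g := by group
    rw [this, h]; group
  have hxa : x • a = a := MulAction.mem_stabilizer_iff.mp (hS.le (hX hxX))
  have hfix : (g * x * g⁻¹) • (g • a) = g • a := by
    simp only [← mul_smul]
    rw [show g * x * g⁻¹ * g = g * x by group, mul_smul, hxa]
  exact MulAction.mem_stabilizer_iff.mpr (Q_fix_only hS hQ hne1 hfix)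

theorem exists_ne_one (hS : Cfsg.IsRankOneSetup G Ω a t Q) : ∃ x ∈ (Q : Set G), x ≠ 1 := by
  by_contra hcon
  push Not at hcon
  have hbot : Q = ⊥ := by
    rw [Subgroup.eq_bot_iff_forall]
    exact fun x hx => hcon x hx
  have := hS.even_card
  rw [hbot, Subgroup.card_bot] at this
  exact (by decide : ¬ Even 1) this

theorem result {G Ω : Type*} [Group G] [Finite G] [MulAction G Ω] {a : Ω} {t : G} {Q : Subgroup G}
    (hS : Cfsg.IsRankOneSetup G Ω a t Q) :
    (∀ X : Set G, X ⊆ (Q : Set G) → (∃ x ∈ X, x ≠ 1) → Subgroup.normalizer X ≤ MulAction.stabilizer G a) ∧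
      Subgroup.normalizer (Q : Set G) = MulAction.stabilizer G a ∧
      Subgroup.normalizer (MulAction.stabilizer G a : Set G) = MulAction.stabilizer G a := by
  refine ⟨fun X hX hne => normalizer_le hS X hX hne, ?_, ?_⟩
  · apply le_antisymm
    · exact normalizer_le hS _ (le_refl _) (exists_ne_one hS)
    · exact rk1_stab_le_normalizer hS
  · apply le_antisymm
    · intro g hg
      rw [Subgroup.mem_normalizer_iff] at hg
      obtain ⟨x, hxQ, hx1⟩ := exists_ne_one hS
      have hmem : g * x * g⁻¹ ∈ MulAction.stabilizer G a := (hg x).1 (hS.le hxQ)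
      by_contra hga
      have hga' : g⁻¹ • a ≠ a := by
        intro h
        apply hga
        rw [MulAction.mem_stabilizer_iff]
        conv_lhs => rw [← h]
        rw [smul_inv_smul]
      have hfix : x • (g⁻¹ • a) = g⁻¹ • a := by
        have h1 := MulAction.mem_stabilizer_iff.mp hmem
        calc x • g⁻¹ • a = g⁻¹ • (g * x * g⁻¹) • a := by
              simp only [← mul_smul]; congr 1; group
          _ = g⁻¹ • a := by rw [h1]
      exact hga' (Q_fix_only hS hxQ hx1 hfix)
    · exact Subgroup.le_normalizer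

end Cfsg.Agent.S1118
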