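import Cfsg.Statements.S1119
import Mathlib
import Cfsg.Agent.Lib.Helper27.RankOneCount

set_option autoImplicit false
open Cfsg
open Cfsg.Agent.Lib.Helper28 Cfsg.Agent.Lib.Helper27.RankOne

namespace Cfsg.Agent.S1119

theorem result {G Ω : Type*} [Group G] [Finite G] [MulAction G Ω] {a : Ω} {t : G} {Q : Subgroup G}
    (hS : Cfsg.IsRankOneSetup G Ω a t Q) :
    (∀ b c : Ω, b ≠ a → c ≠ a → ∃! x : Q, (x : G) • b = c) ∧
      Nat.card Ω = Nat.card Q + 1 ∧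
      Nat.card G = Nat.card Q * Nat.card ↥(MulAction.stabilizer G a ⊓ MulAction.stabilizer G (t • a)) * (Nat.card Q + 1) ∧
      (∃ P : Sylow 2 G, (P : Subgroup G) ≤ Q) ∧
      ∀ g : G, g ∉ MulAction.stabilizer G a → ∃! p : G × G, p.1 ∈ MulAction.stabilizer G a ∧ p.2 ∈ Q ∧ g = p.1 * t * p.2 := by
  refine ⟨?_, card_Omega hS, card_G hS, exists_sylow_le hS, ?_⟩
  · intro b c hb hc
    obtain ⟨q₁, hq₁, hq₁b⟩ := rk1_exists_Q_smul hS hb
    obtain ⟨q₂, hq₂, hq₂c⟩ := rk1_exists_Q_smul hS hc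
    refine ⟨⟨q₂ * q₁⁻¹, mul_mem hq₂ (inv_mem hq₁)⟩, ?_, ?_⟩
    · show (q₂ * q₁⁻¹) • b = c
      rw [mul_smul, ← hq₁b, inv_smul_smul, hq₂c]
    · rintro ⟨y, hy⟩ hyb
      apply Subtype.ext
      show y = q₂ * q₁⁻¹
      apply rk1_Q_unique hS hb hy (mul_mem hq₂ (inv_mem hq₁))
      have : y • b = c := hyb
      rw [this, mul_smul, ← hq₁b, inv_smul_smul, hq₂c]
  · intro g hg
    have htinv : t⁻¹ = t := rk1_t_inv hS
    have hne : g⁻¹ • a ≠ a := by
      intro h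
      apply hg
      rw [MulAction.mem_stabilizer_iff]
      conv_lhs => rw [← h]
      rw [smul_inv_smul]
    obtain ⟨y', hy', hy'a⟩ := rk1_exists_Q_smul hS hne
    refine ⟨(g * y' * t, y'⁻¹), ⟨?_, inv_mem hy', ?_⟩, ?_⟩
    · rw [MulAction.mem_stabilizer_iff, mul_smul, mul_smul, hy'a, smul_inv_smul]
    · show g = g * y' * t * t * y'⁻¹
      rw [mul_assoc (g * y'), hS.mul_self, mul_one, mul_assoc, mul_inv_cancel, mul_one]
    · rintro ⟨x₁, y₁⟩ ⟨hx₁, hy₁, hgeq⟩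
      simp only at hx₁ hy₁ hgeq
      have hx₁a : x₁⁻¹ • a = a := by
        have := MulAction.mem_stabilizer_iff.mp hx₁
        conv_lhs => rw [← this]
        rw [inv_smul_smul]
      have h1 : y₁⁻¹ • t • a = g⁻¹ • a := by
        rw [hgeq, mul_inv_rev, mul_inv_rev, htinv, mul_smul, mul_smul, hx₁a]
      have h2 : y₁⁻¹ = y' := by
        apply rk1_Q_unique hS (rk1_ta_ne hS) (inv_mem hy₁) hy'
        rw [h1, hy'a]
      have hy₁' : y₁ = y'⁻¹ := by rw [← h2, inv_inv]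
      have hx₁' : x₁ = g * y' * t := by
        rw [hgeq, hy₁']
        rw [mul_assoc (x₁ * t), inv_mul_cancel, mul_one, mul_assoc, hS.mul_self, mul_one]
      rw [hx₁', hy₁']

end Cfsg.Agent.S1119
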