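import Cfsg.Statements.S1120
import Mathlib
import Cfsg.Agent.Lib.Helper27.RankOneInv
import Cfsg.Agent.Lib.Helper27.KleinFourGen
import Cfsg.Agent.Lib.Helper2.Cores

set_option autoImplicit false
open Cfsg
open Cfsg.Agent.Lib.Helper28 Cfsg.Agent.Lib.Helper27.RankOne Cfsg.Agent.Lib.Helper27.KleinFour
open Cfsg.Agent.Lib.Helper2

namespace Cfsg.Agent.S1120

variable {G Ω : Type*} [Group G] [MulAction G Ω] {a : Ω} {t : G} {Q : Subgroup G}

/-- An element commuting with an involution fixes the involution's fixed point. -/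
theorem fix_of_commute [Finite G] (hS : Cfsg.IsRankOneSetup G Ω a t Q) {u n : G}
    (hu1 : u ≠ 1) (hu2 : u * u = 1) {b : Ω} (hb : u • b = b) (hcomm : u * n = n * u) :
    n • b = b := by
  obtain ⟨c, -, hc⟩ := involution_fix_unique hS hu1 hu2
  have h1 : u • (n • b) = n • b := by
    rw [← mul_smul, hcomm, mul_smul, hb]
  rw [hc _ h1, hc _ hb]

theorem result {G Ω : Type*} [Group G] [Finite G] [MulAction G Ω] {a : Ω} {t : G} {Q : Subgroup G}
    (hS : Cfsg.IsRankOneSetup G Ω a t Q)
    (h2 : ∃ x y : G, x ≠ 1 ∧ y ≠ 1 ∧ x ≠ y ∧ x * x = 1 ∧ y * y = 1 ∧ x * y = y * x) :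
    Cfsg.pPrimeCore 2 G = (MulAction.stabilizer G a).normalCore := by
  apply le_antisymm
  · -- O_{2'}(G) ≤ core
    have hNn : (pPrimeCore 2 G).Normal := pPrimeCore_normal 2
    have hNodd : Odd (Nat.card (pPrimeCore 2 G)) := Nat.coprime_two_right.mp (pPrimeCore_coprime 2)
    obtain ⟨x, y, hx1, hy1, hxy, hx2, hy2, hc⟩ := h2
    obtain ⟨b, hb, -⟩ := involution_fix_unique hS hx1 hx2
    have hyb : y • b = b :=
      fix_of_commute hS hx1 hx2 hb hc
    have hz1 : x * y ≠ 1 := by
      intro h
      apply hxy
      have : y = x⁻¹ := (eq_inv_of_mul_eq_one_right h)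
      rw [this, inv_eq_of_mul_eq_one_left hx2]
    have hz2 : (x * y) * (x * y) = 1 := by
      calc x * y * (x * y) = x * (y * x) * y := by group
        _ = x * (x * y) * y := by rw [hc]
        _ = (x * x) * (y * y) := by group
        _ = 1 := by rw [hx2, hy2, one_mul]
    have hzb : (x * y) • b = b := by rw [mul_smul, hyb, hb]
    -- the automorphisms
    let X : ↥(pPrimeCore 2 G) ≃* ↥(pPrimeCore 2 G) := MulAut.conjNormal x
    let Y : ↥(pPrimeCore 2 G) ≃* ↥(pPrimeCore 2 G) := MulAut.conjNormal y
    have hXv : ∀ n : ↥(pPrimeCore 2 G), ((X n : ↥(pPrimeCore 2 G)) : G) = x * n * x⁻¹ :=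
      fun n => MulAut.conjNormal_apply x n
    have hYv : ∀ n : ↥(pPrimeCore 2 G), ((Y n : ↥(pPrimeCore 2 G)) : G) = y * n * y⁻¹ :=
      fun n => MulAut.conjNormal_apply y n
    have hxinv : x⁻¹ = x := inv_eq_of_mul_eq_one_left hx2
    have hyinv : y⁻¹ = y := inv_eq_of_mul_eq_one_left hy2
    have hK : KleinAct X Y := by
      refine ⟨?_, ?_, ?_⟩
      · intro n
        apply Subtype.ext
        rw [hXv, hXv, hxinv]
        calc x * (x * n * x) * x = (x * x) * n * (x * x) := by group
          _ = n := by rw [hx2, one_mul, mul_one]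
      · intro n
        apply Subtype.ext
        rw [hYv, hYv, hyinv]
        calc y * (y * n * y) * y = (y * y) * n * (y * y) := by group
          _ = n := by rw [hy2, one_mul, mul_one]
      · intro n
        apply Subtype.ext
        rw [hXv, hYv, hYv, hXv]
        calc x * (y * n * y⁻¹) * x⁻¹ = (x * y) * n * (x * y)⁻¹ := by group
          _ = (y * x) * n * (y * x)⁻¹ := by rw [hc]
          _ = y * (x * n * x⁻¹) * y⁻¹ := by group
    have htop := fixClosure_eq_top hNodd hK
    -- every element of N fixes b
    have hfixb : ∀ n : ↥(pPrimeCore 2 G), (n : G) • b = b := by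
      have hle : fixClosure X Y ≤ (MulAction.stabilizer G b).comap (pPrimeCore 2 G).subtype := by
        unfold fixClosure
        rw [Subgroup.closure_le]
        intro n hn
        show (n : G) ∈ MulAction.stabilizer G b
        rw [MulAction.mem_stabilizer_iff]
        rcases hn with (hn | hn) | hn
        · have h1 : x * (n : G) * x⁻¹ = n := by rw [← hXv]; exact congrArg Subtype.val hn
          apply fix_of_commute hS hx1 hx2 hb
          calc x * (n : G) = (x * n * x⁻¹) * x := by group
            _ = n * x := by rw [h1]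
        · have h1 : y * (n : G) * y⁻¹ = n := by rw [← hYv]; exact congrArg Subtype.val hn
          apply fix_of_commute hS hy1 hy2 hyb
          calc y * (n : G) = (y * n * y⁻¹) * y := by group
            _ = n * y := by rw [h1]
        · have h1 : x * (y * (n : G) * y⁻¹) * x⁻¹ = n := by
            rw [← hYv, ← hXv]; exact congrArg Subtype.val hn
          apply fix_of_commute hS hz1 hz2 hzb
          calc x * y * (n : G) = (x * (y * n * y⁻¹) * x⁻¹) * (x * y) := by group
            _ = n * (x * y) := by rw [h1]
      intro n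
      have : n ∈ fixClosure X Y := by rw [htop]; trivial
      exact MulAction.mem_stabilizer_iff.mp (hle this)
    rw [Subgroup.normal_le_normalCore]
    intro n hn
    have := pretransitive hS
    obtain ⟨g, hg⟩ := MulAction.exists_smul_eq G b a
    have hconj : g⁻¹ * n * g ∈ pPrimeCore 2 G := by
      have := hNn.conj_mem n hn g⁻¹
      rwa [inv_inv] at this
    have h1 := hfixb ⟨_, hconj⟩
    simp only at h1
    rw [MulAction.mem_stabilizer_iff, ← hg]
    calc n • g • b = g • (g⁻¹ * n * g) • b := by
          simp only [← mul_smul]; congr 1; group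
      _ = g • b := by rw [h1]
  · -- core ≤ O_{2'}(G)
    apply le_pPrimeCore (Subgroup.normalCore_normal _)
    rw [Nat.coprime_two_right]
    have hle : (MulAction.stabilizer G a).normalCore ≤
        MulAction.stabilizer G a ⊓ MulAction.stabilizer G (t • a) := by
      intro k hk
      refine Subgroup.mem_inf.mpr ⟨Subgroup.normalCore_le _ hk, ?_⟩
      have h1 : t⁻¹ * k * t ∈ (MulAction.stabilizer G a).normalCore := by
        have := (Subgroup.normalCore_normal (MulAction.stabilizer G a)).conj_mem k hk t⁻¹
        rwa [inv_inv] at this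
      have h2 := MulAction.mem_stabilizer_iff.mp (Subgroup.normalCore_le _ h1)
      rw [MulAction.mem_stabilizer_iff]
      calc k • t • a = t • (t⁻¹ * k * t) • a := by
            simp only [← mul_smul]; congr 1; group
        _ = t • a := by rw [h2]
    exact Odd.of_dvd_nat hS.odd_card (Subgroup.card_dvd_of_le hle)

end Cfsg.Agent.S1120
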