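import Cfsg.Statements.S1121
import Mathlib
import Cfsg.Agent.Lib.Helper27.RankOneInv

set_option autoImplicit false
open Cfsg
open Cfsg.Agent.Lib.Helper28 Cfsg.Agent.Lib.Helper27.RankOne

namespace Cfsg.Agent.S1121

variable {G Ω : Type*} [Group G] [MulAction G Ω] {a : Ω} {t : G} {Q : Subgroup G}

theorem conj_ne_one {u g : G} (hu : u ≠ 1) : g * u * g⁻¹ ≠ 1 := by
  intro h
  apply hu
  have : u = g⁻¹ * (g * u * g⁻¹) * g := by group
  rw [this, h]; group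

theorem conj_sq {u g : G} (hu : u * u = 1) : (g * u * g⁻¹) * (g * u * g⁻¹) = 1 := by
  calc g * u * g⁻¹ * (g * u * g⁻¹) = g * (u * u) * g⁻¹ := by group
    _ = 1 := by rw [hu]; group

/-- Involutions with distinct fixed points are conjugate. -/
theorem conj_of_fix_ne [Finite G] (hS : Cfsg.IsRankOneSetup G Ω a t Q) {u v : G}
    (hu1 : u ≠ 1) (hu2 : u * u = 1) (hv1 : v ≠ 1) (hv2 : v * v = 1) {c d : Ω}
    (hc : u • c = c) (hd : v • d = d) (hcd : c ≠ d) : ∃ g : G, g * u * g⁻¹ = v := by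
  have := pretransitive hS
  obtain ⟨g, hg⟩ := MulAction.exists_smul_eq G d a
  -- v' = g v g⁻¹ ∈ G_a, u' = g u g⁻¹ ∉ G_a
  have hv' : g * v * g⁻¹ ∈ MulAction.stabilizer G a := by
    rw [MulAction.mem_stabilizer_iff, ← hg]
    simp only [← mul_smul]
    rw [show g * v * g⁻¹ * g = g * v by group, mul_smul, hd]
  have hu' : g * u * g⁻¹ ∉ MulAction.stabilizer G a := by
    intro h
    rw [MulAction.mem_stabilizer_iff] at h
    have h1 : u • (g⁻¹ • a) = g⁻¹ • a := by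
      calc u • g⁻¹ • a = g⁻¹ • (g * u * g⁻¹) • a := by
            simp only [← mul_smul]; congr 1; group
        _ = g⁻¹ • a := by rw [h]
    obtain ⟨e, -, he⟩ := involution_fix_unique hS hu1 hu2
    have h2 : g⁻¹ • a = c := by rw [he _ h1, he _ hc]
    apply hcd
    rw [← h2, ← hg, inv_smul_smul]
  have hodd := odd_orderOf_mul hS hv' (conj_ne_one hv1) (conj_sq hv2) hu' (conj_sq hu2)
  obtain ⟨w, hw2, hw⟩ := exists_conj_of_odd (conj_sq hv2) (conj_sq hu2) hodd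
  have hwinv : w⁻¹ = w := inv_eq_of_mul_eq_one_left hw2
  refine ⟨g⁻¹ * w * g, ?_⟩
  calc g⁻¹ * w * g * u * (g⁻¹ * w * g)⁻¹ = g⁻¹ * (w * (g * u * g⁻¹) * w⁻¹) * g := by group
    _ = g⁻¹ * (g * v * g⁻¹) * g := by rw [hwinv, hw]
    _ = v := by group

theorem result {G Ω : Type*} [Group G] [Finite G] [MulAction G Ω] {a : Ω} {t : G} {Q : Subgroup G}
    (hS : Cfsg.IsRankOneSetup G Ω a t Q) :
    (∀ s u : G, s ∈ MulAction.stabilizer G a → s ≠ 1 → s * s = 1 → u ∉ MulAction.stabilizer G a → u ≠ 1 → u * u = 1 → Odd (orderOf (s * u))) ∧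
      ∀ u v : G, u ≠ 1 → u * u = 1 → v ≠ 1 → v * v = 1 → ∃ g : G, g * u * g⁻¹ = v := by
  refine ⟨fun s u hs hs1 hs2 hu _ hu2 => odd_orderOf_mul hS hs hs1 hs2 hu hu2, ?_⟩
  intro u v hu1 hu2 hv1 hv2
  obtain ⟨c, hc, -⟩ := involution_fix_unique hS hu1 hu2
  obtain ⟨d, hd, hdu⟩ := involution_fix_unique hS hv1 hv2
  by_cases hcd : c = d
  · -- move v away
    have := pretransitive hS
    -- a point different from d
    have hex : ∃ e : Ω, e ≠ d := by
      by_cases hda : d = a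
      · exact ⟨t • a, by rw [hda]; exact rk1_ta_ne hS⟩
      · exact ⟨a, Ne.symm hda⟩
    obtain ⟨e, he⟩ := hex
    obtain ⟨w, hw⟩ := MulAction.exists_smul_eq G d e
    have hfix : (w * v * w⁻¹) • e = e := by
      rw [← hw]
      simp only [← mul_smul]
      rw [show w * v * w⁻¹ * w = w * v by group, mul_smul, hd]
    have hce : c ≠ e := by rw [hcd]; exact Ne.symm he
    obtain ⟨g₁, hg₁⟩ := conj_of_fix_ne hS hu1 hu2 (conj_ne_one hv1) (conj_sq hv2) hc hfix hce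
    refine ⟨w⁻¹ * g₁, ?_⟩
    calc w⁻¹ * g₁ * u * (w⁻¹ * g₁)⁻¹ = w⁻¹ * (g₁ * u * g₁⁻¹) * w := by group
      _ = w⁻¹ * (w * v * w⁻¹) * w := by rw [hg₁]
      _ = v := by group
  · exact conj_of_fix_ne hS hu1 hu2 hv1 hv2 hc hd hcd

end Cfsg.Agent.S1121
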