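import Cfsg.Statements.S1123
import Mathlib
import Cfsg.Agent.Lib.Helper27.RankOneInv

set_option autoImplicit false
open Cfsg
open Cfsg.Agent.Lib.Helper28 Cfsg.Agent.Lib.Helper27.RankOne

namespace Cfsg.Agent.S1123

theorem result {G Ω : Type*} [Group G] [Finite G] [MulAction G Ω] {a : Ω} {t : G} {Q : Subgroup G}
    (hS : Cfsg.IsRankOneSetup G Ω a t Q) :
    ∃! p : G × G, p.1 ∈ Cfsg.involutionsIn (MulAction.stabilizer G a : Set G) ∧ p.2 ∈ Q ∧
      t * p.1 * t = p.2⁻¹ * t * p.2 := by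
  have ht2 := hS.mul_self
  have ht1 := hS.ne_one
  obtain ⟨c, hc, hcu⟩ := involution_fix_unique hS ht1 ht2
  have hca : c ≠ a := by
    intro h
    apply hS.not_mem
    rw [MulAction.mem_stabilizer_iff, ← h]
    exact hc
  obtain ⟨r, hr, hrc⟩ := rk1_exists_Q_smul hS hca
  have hrc' : r⁻¹ • c = t • a := by rw [← hrc, inv_smul_smul]
  have hconj2 : (r⁻¹ * t * r) * (r⁻¹ * t * r) = 1 := by
    calc r⁻¹ * t * r * (r⁻¹ * t * r) = r⁻¹ * (t * t) * r := by group
      _ = 1 := by rw [ht2]; group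
  refine ⟨(t * (r⁻¹ * t * r) * t, r), ⟨⟨?_, ?_, ?_⟩, hr, ?_⟩, ?_⟩
  · show t * (r⁻¹ * t * r) * t ∈ MulAction.stabilizer G a
    rw [MulAction.mem_stabilizer_iff]
    simp only [mul_smul]
    rw [hrc, hc, hrc', rk1_tta hS]
  · show t * (r⁻¹ * t * r) * t ≠ 1
    intro h
    apply ht1
    have : t = r * (t * (t * (r⁻¹ * t * r) * t) * t) * r⁻¹ := by
      calc t = r * (r⁻¹ * t * r) * r⁻¹ := by group
        _ = r * ((t * t) * (r⁻¹ * t * r) * (t * t)) * r⁻¹ := by rw [ht2, one_mul, mul_one]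
        _ = r * (t * (t * (r⁻¹ * t * r) * t) * t) * r⁻¹ := by group
    rw [this, h, mul_one, ht2, mul_one, mul_inv_cancel]
  · show t * (r⁻¹ * t * r) * t * (t * (r⁻¹ * t * r) * t) = 1
    calc t * (r⁻¹ * t * r) * t * (t * (r⁻¹ * t * r) * t)
        = t * (r⁻¹ * t * r) * (t * t) * (r⁻¹ * t * r) * t := by group
      _ = t * ((r⁻¹ * t * r) * (r⁻¹ * t * r)) * t := by rw [ht2, mul_one]; group
      _ = 1 := by rw [hconj2, mul_one, ht2]
  · show t * (t * (r⁻¹ * t * r) * t) * t = r⁻¹ * t * r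
    calc t * (t * (r⁻¹ * t * r) * t) * t = (t * t) * (r⁻¹ * t * r) * (t * t) := by group
      _ = r⁻¹ * t * r := by rw [ht2, one_mul, mul_one]
  · rintro ⟨s₁, r₁⟩ ⟨⟨hs₁, hs₁1, hs₁2⟩, hr₁, heq⟩
    simp only at hs₁ hs₁1 hs₁2 hr₁ heq
    have hs₁a : s₁ • a = a := MulAction.mem_stabilizer_iff.mp hs₁
    -- the involution t s₁ t = r₁⁻¹ t r₁ fixes t • a and r₁⁻¹ • c
    have hw1 : t * s₁ * t ≠ 1 := by
      intro h
      apply hs₁1
      have : s₁ = t * (t * s₁ * t) * t := by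
        calc s₁ = (t * t) * s₁ * (t * t) := by rw [ht2, one_mul, mul_one]
          _ = t * (t * s₁ * t) * t := by group
      rw [this, h, mul_one, ht2]
    have hw2 : (t * s₁ * t) * (t * s₁ * t) = 1 := by
      calc t * s₁ * t * (t * s₁ * t) = t * s₁ * (t * t) * s₁ * t := by group
        _ = t * (s₁ * s₁) * t := by rw [ht2, mul_one]; group
        _ = 1 := by rw [hs₁2, mul_one, ht2]
    obtain ⟨e, -, heu⟩ := involution_fix_unique hS hw1 hw2
    have hf1 : (t * s₁ * t) • (t • a) = t • a := by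
      simp only [mul_smul]
      rw [rk1_tta hS, hs₁a]
    have hf2 : (t * s₁ * t) • (r₁⁻¹ • c) = r₁⁻¹ • c := by
      rw [heq]
      simp only [mul_smul]
      rw [smul_inv_smul, hc]
    have h3 : r₁⁻¹ • c = t • a := by rw [heu _ hf1, heu _ hf2]
    have h4 : r₁ • t • a = c := by rw [← h3, smul_inv_smul]
    have hr₁r : r₁ = r := rk1_Q_unique hS (rk1_ta_ne hS) hr₁ hr (by rw [h4, hrc])
    have hs₁s : s₁ = t * (r⁻¹ * t * r) * t := by
      rw [← hr₁r, ← heq]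
      calc s₁ = (t * t) * s₁ * (t * t) := by rw [ht2, one_mul, mul_one]
        _ = t * (t * s₁ * t) * t := by group
    rw [hs₁s, hr₁r]

end Cfsg.Agent.S1123
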