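import Cfsg.Statements.S1124
import Mathlib

set_option autoImplicit false
open Cfsg
open scoped Pointwise

namespace Cfsg.Agent.S1124

variable {M : Type*} [Group M]

theorem pow_card_X (X : Subgroup M) (m : ℕ) (hcard : Nat.card X = 2 * m + 1)
    {x : M} (hx : x ∈ X) : x ^ (2 * m + 1) = 1 := by
  have : (⟨x, hx⟩ : X) ^ Nat.card X = 1 := pow_card_eq_one'
  rw [hcard] at this
  exact congrArg Subtype.val this

theorem sq_inj (X : Subgroup M) (m : ℕ) (hcard : Nat.card X = 2 * m + 1)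
    {z z' : M} (hz : z ∈ X) (hz' : z' ∈ X) (h : z * z = z' * z') : z = z' := by
  have h1 : z = (z * z) ^ (m + 1) := by
    rw [← pow_two, ← pow_mul, show 2 * (m + 1) = (2 * m + 1) + 1 by ring, pow_succ,
      pow_card_X X m hcard hz, one_mul]
  have h2 : z' = (z' * z') ^ (m + 1) := by
    rw [← pow_two, ← pow_mul, show 2 * (m + 1) = (2 * m + 1) + 1 by ring, pow_succ,
      pow_card_X X m hcard hz', one_mul]
  rw [h1, h2, h]

theorem tinv (t : M) (ht2 : t * t = 1) : t⁻¹ = t := inv_eq_of_mul_eq_one_left ht2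

/-- Existence of the decomposition. -/
theorem exists_decomp (t : M) (ht2 : t * t = 1) (X : Subgroup M) (m : ℕ)
    (hcard : Nat.card X = 2 * m + 1) (hnorm : ∀ x ∈ X, t * x * t⁻¹ ∈ X) {x : M} (hx : x ∈ X) :
    ∃ y z : M, y ∈ X ⊓ Subgroup.centralizer {t} ∧ z ∈ Cfsg.invertedBy X t ∧ x = y * z := by
  have hti := tinv t ht2
  set w := x⁻¹ * (t * x * t⁻¹) with hw
  have hwX : w ∈ X := mul_mem (inv_mem hx) (hnorm x hx)
  have hφw : t * w * t⁻¹ = w⁻¹ := by
    rw [hw, hti]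
    calc t * (x⁻¹ * (t * x * t)) * t = t * x⁻¹ * t * x * (t * t) := by group
      _ = t * x⁻¹ * t * x := by rw [ht2, mul_one]
      _ = t⁻¹ * x⁻¹ * t⁻¹ * x := by rw [hti]
      _ = (x⁻¹ * (t * x * t))⁻¹ := by group
  set i := w ^ (m + 1) with hi
  have hiX : i ∈ X := pow_mem hwX _
  have hi2 : i * i = w := by
    rw [hi, ← pow_add, show m + 1 + (m + 1) = (2 * m + 1) + 1 by ring, pow_succ,
      pow_card_X X m hcard hwX, one_mul]
  have hφi : t * i * t⁻¹ = i⁻¹ := by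
    rw [hi, ← conj_pow, hφw, inv_pow]
  refine ⟨x * i, i⁻¹, Subgroup.mem_inf.mpr ⟨mul_mem hx hiX, ?_⟩, ⟨inv_mem hiX, ?_⟩, by group⟩
  · rw [Subgroup.mem_centralizer_iff]
    intro h hh
    rw [Set.mem_singleton_iff] at hh
    subst hh
    have h1 : h * (x * i) * h⁻¹ = x * i := by
      calc h * (x * i) * h⁻¹ = (h * x * h⁻¹) * (h * i * h⁻¹) := by group
        _ = (x * w) * i⁻¹ := by rw [hφi, hw]; group
        _ = x * i := by rw [← hi2]; group
    calc h * (x * i) = (h * (x * i) * h⁻¹) * h := by group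
      _ = x * i * h := by rw [h1]
  · calc t * i⁻¹ * t⁻¹ = (t * i * t⁻¹)⁻¹ := by group
      _ = (i⁻¹)⁻¹ := by rw [hφi]

/-- Uniqueness of the decomposition. -/
theorem unique_decomp (t : M) (ht2 : t * t = 1) (X : Subgroup M) (m : ℕ)
    (hcard : Nat.card X = 2 * m + 1) {y z y' z' : M} (hy : y ∈ X ⊓ Subgroup.centralizer {t})
    (hz : z ∈ Cfsg.invertedBy X t) (hy' : y' ∈ X ⊓ Subgroup.centralizer {t})
    (hz' : z' ∈ Cfsg.invertedBy X t) (h : y * z = y' * z') : y = y' ∧ z = z' := by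
  have hti := tinv t ht2
  have cy : t * y * t⁻¹ = y := by
    have := Subgroup.mem_centralizer_iff.mp (Subgroup.mem_inf.mp hy).2 t rfl
    rw [this]; group
  have cy' : t * y' * t⁻¹ = y' := by
    have := Subgroup.mem_centralizer_iff.mp (Subgroup.mem_inf.mp hy').2 t rfl
    rw [this]; group
  have h2 : y * z⁻¹ = y' * z'⁻¹ := by
    have this : t * (y * z) * t⁻¹ = t * (y' * z') * t⁻¹ := by rw [h]
    calc y * z⁻¹ = (t * y * t⁻¹) * (t * z * t⁻¹) := by rw [cy, hz.2]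
      _ = t * (y * z) * t⁻¹ := by group
      _ = t * (y' * z') * t⁻¹ := this
      _ = (t * y' * t⁻¹) * (t * z' * t⁻¹) := by group
      _ = y' * z'⁻¹ := by rw [cy', hz'.2]
  have h3 : z * z = z' * z' := by
    have e1 : z * z = (y * z⁻¹)⁻¹ * (y * z) := by group
    have e2 : z' * z' = (y' * z'⁻¹)⁻¹ * (y' * z') := by group
    rw [e1, e2, h, h2]
  have hzz : z = z' := sq_inj X m hcard hz.1 hz'.1 h3
  refine ⟨?_, hzz⟩
  rw [hzz] at h
  exact mul_right_cancel h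

/-- Conjugation by elements of `X` preserves the closure of the inverted set. -/
theorem conj_mem_closure (t : M) (ht2 : t * t = 1) (X : Subgroup M) (m : ℕ)
    (hcard : Nat.card X = 2 * m + 1) (hnorm : ∀ x ∈ X, t * x * t⁻¹ ∈ X) {x : M} (hx : x ∈ X) {n : M}
    (hn : n ∈ Subgroup.closure (Cfsg.invertedBy X t)) :
    x * n * x⁻¹ ∈ Subgroup.closure (Cfsg.invertedBy X t) := by
  obtain ⟨y, z₁, hy, hz₁, rfl⟩ := exists_decomp t ht2 X m hcard hnorm hx
  have hz₁N : z₁ ∈ Subgroup.closure (Cfsg.invertedBy X t) := Subgroup.subset_closure hz₁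
  have hn' : z₁ * n * z₁⁻¹ ∈ Subgroup.closure (Cfsg.invertedBy X t) :=
    mul_mem (mul_mem hz₁N hn) (inv_mem hz₁N)
  have cy : t * y = y * t := Subgroup.mem_centralizer_iff.mp (Subgroup.mem_inf.mp hy).2 t rfl
  have hyX : y ∈ X := (Subgroup.mem_inf.mp hy).1
  have key : ∀ n' ∈ Subgroup.closure (Cfsg.invertedBy X t),
      y * n' * y⁻¹ ∈ Subgroup.closure (Cfsg.invertedBy X t) := by
    intro n' hn'
    induction hn' using Subgroup.closure_induction with
    | mem z hz =>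
      apply Subgroup.subset_closure
      refine ⟨mul_mem (mul_mem hyX hz.1) (inv_mem hyX), ?_⟩
      calc t * (y * z * y⁻¹) * t⁻¹ = (t * y) * z * (t * y)⁻¹ := by group
        _ = (y * t) * z * (y * t)⁻¹ := by rw [cy]
        _ = y * (t * z * t⁻¹) * y⁻¹ := by group
        _ = (y * z * y⁻¹)⁻¹ := by rw [hz.2]; group
    | one => simp
    | mul a b _ _ ha hb =>
      have : y * (a * b) * y⁻¹ = (y * a * y⁻¹) * (y * b * y⁻¹) := by group
      rw [this]; exact mul_mem ha hb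
    | inv a _ ha =>
      have : y * a⁻¹ * y⁻¹ = (y * a * y⁻¹)⁻¹ := by group
      rw [this]; exact inv_mem ha
  have : y * z₁ * n * (y * z₁)⁻¹ = y * (z₁ * n * z₁⁻¹) * y⁻¹ := by group
  rw [this]
  exact key _ hn'

theorem result {M : Type*} [Group M] [Finite M]
    (t : M) (ht : orderOf t = 2) (X : Subgroup M) (hodd : Odd (Nat.card X))
    (hnorm : ∀ x ∈ X, t * x * t⁻¹ ∈ X) :
    (∀ x ∈ X, ∃! p : M × M, p.1 ∈ X ⊓ Subgroup.centralizer {t} ∧ p.2 ∈ Cfsg.invertedBy X t ∧ x = p.1 * p.2) ∧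
      Nat.card X = Nat.card ↥(X ⊓ Subgroup.centralizer {t}) * Nat.card (Cfsg.invertedBy X t) ∧
      ∀ x ∈ X, MulAut.conj x • Subgroup.closure (Cfsg.invertedBy X t) = Subgroup.closure (Cfsg.invertedBy X t) := by
  have ht2 : t * t = 1 := by
    rw [← pow_two, ← ht]; exact pow_orderOf_eq_one t
  obtain ⟨m, hm⟩ := hodd
  have huniq : ∀ x ∈ X, ∃! p : M × M, p.1 ∈ X ⊓ Subgroup.centralizer {t} ∧
      p.2 ∈ Cfsg.invertedBy X t ∧ x = p.1 * p.2 := by
    intro x hx
    obtain ⟨y, z, hy, hz, hxyz⟩ := exists_decomp t ht2 X m hm hnorm hx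
    refine ⟨(y, z), ⟨hy, hz, hxyz⟩, ?_⟩
    rintro ⟨y', z'⟩ ⟨hy', hz', hxyz'⟩
    simp only at hy' hz' hxyz'
    obtain ⟨h1, h2⟩ := unique_decomp t ht2 X m hm hy' hz' hy hz (hxyz'.symm.trans hxyz)
    rw [h1, h2]
  refine ⟨huniq, ?_, ?_⟩
  · rw [← Nat.card_prod]
    symm
    apply Nat.card_congr
    refine Equiv.ofBijective
      (fun p : ↥(X ⊓ Subgroup.centralizer {t}) × ↥(Cfsg.invertedBy X t) =>
        (⟨(p.1 : M) * (p.2 : M), mul_mem (Subgroup.mem_inf.mp p.1.2).1 p.2.2.1⟩ : X)) ⟨?_, ?_⟩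
    · rintro ⟨y, z⟩ ⟨y', z'⟩ h
      have h' : (y : M) * (z : M) = (y' : M) * (z' : M) := congrArg Subtype.val h
      obtain ⟨h1, h2⟩ := unique_decomp t ht2 X m hm y.2 z.2 y'.2 z'.2 h'
      exact Prod.ext (Subtype.ext h1) (Subtype.ext h2)
    · rintro ⟨x, hx⟩
      obtain ⟨y, z, hy, hz, hxyz⟩ := exists_decomp t ht2 X m hm hnorm hx
      exact ⟨(⟨y, hy⟩, ⟨z, hz⟩), Subtype.ext hxyz.symm⟩
  · intro x hx
    ext g
    rw [Subgroup.mem_pointwise_smul_iff_inv_smul_mem]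
    have e : (MulAut.conj x)⁻¹ • g = x⁻¹ * g * x := by
      rw [← map_inv, MulAut.smul_def, MulAut.conj_apply, inv_inv]
    rw [e]
    constructor
    · intro h
      have := conj_mem_closure t ht2 X m hm hnorm hx h
      have e2 : x * (x⁻¹ * g * x) * x⁻¹ = g := by group
      rwa [e2] at this
    · intro h
      have := conj_mem_closure t ht2 X m hm hnorm (inv_mem hx) h
      rwa [inv_inv] at this

end Cfsg.Agent.S1124
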