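-- Statement S1137 (Higman's theorem on Suzuki 2-groups, first part); proof by helper6.
-- The template's placeholder is replaced by a full proof.
import Cfsg.Statements.S1137
import Mathlib

set_option autoImplicit false
open Cfsg

namespace Cfsg.Agent.S1137

universe u

section basic

variable {P : Type u} [Group P]

/-- automorphisms preserve the centre -/
theorem aut_mem_center (k : MulAut P) {z : P} (hz : z ∈ Subgroup.center P) :
    k z ∈ Subgroup.center P := by
  rw [Subgroup.mem_center_iff] at hz ⊢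
  intro g
  have h1 := hz (k⁻¹ g)
  have h2 := congrArg k h1
  rw [map_mul, map_mul] at h2
  have h3 : k (k⁻¹ g) = g := by
    change k (k.symm g) = g
    exact k.apply_symm_apply g
  rw [h3] at h2
  exact h2

/-- in a 2-group every nonidentity element has a power which is an involution -/
theorem exists_invol_pow (h2 : IsPGroup 2 P) {g : P} (hg : g ≠ 1) :
    ∃ j : ℕ, g ^ (2 ^ j) ≠ 1 ∧ g ^ (2 ^ j) * g ^ (2 ^ j) = 1 := by
  obtain ⟨m, hm⟩ := h2 g
  -- minimal m
  classical
  let m0 := Nat.find (⟨m, hm⟩ : ∃ m, g ^ 2 ^ m = 1)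
  have hm0 : g ^ 2 ^ m0 = 1 := Nat.find_spec (⟨m, hm⟩ : ∃ m, g ^ 2 ^ m = 1)
  have hpos : m0 ≠ 0 := by
    intro h
    rw [h] at hm0
    simp at hm0
    exact hg hm0
  obtain ⟨j, hj⟩ := Nat.exists_eq_succ_of_ne_zero hpos
  refine ⟨j, ?_, ?_⟩
  · intro h
    have : m0 ≤ j := Nat.find_min' (⟨m, hm⟩ : ∃ m, g ^ 2 ^ m = 1) h
    omega
  · rw [← pow_two, ← pow_mul, ← pow_succ]
    have : j + 1 = m0 := by omega
    rw [this]
    exact hm0

/-- in a 2-group every element whose square is not 1 has a power of order 4 -/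
theorem exists_order_four_pow (h2 : IsPGroup 2 P) {g : P} (hg : g * g ≠ 1) :
    ∃ j : ℕ, (g ^ (2 ^ j)) * (g ^ (2 ^ j)) ≠ 1 ∧ (g ^ (2 ^ j)) ^ 4 = 1 := by
  obtain ⟨j, hj1, hj2⟩ := exists_invol_pow h2 hg
  refine ⟨j, ?_, ?_⟩
  · intro h
    apply hj1
    have : (g * g) ^ 2 ^ j = g ^ 2 ^ j * g ^ 2 ^ j := by
      rw [← pow_two, ← pow_two, ← pow_mul, ← pow_mul, mul_comm]
    rw [this, h]
  · have : (g * g) ^ 2 ^ j * (g * g) ^ 2 ^ j = (g ^ 2 ^ j) ^ 4 := by
      rw [← pow_two g, ← pow_mul, ← pow_two, ← pow_mul, ← pow_mul]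
      congr 1
      ring
    rw [← this, hj2]

end basic

/-- the commutator `x⁻¹ g⁻¹ x g` -/
def cm {P : Type u} [Group P] (x g : P) : P := x⁻¹ * g⁻¹ * x * g

section cmlemmas

variable {P : Type u} [Group P]

theorem cm_eq_one_iff (x g : P) : cm x g = 1 ↔ x * g = g * x := by
  unfold cm
  constructor
  · intro h
    have : x⁻¹ * g⁻¹ * x * g = (g * x)⁻¹ * (x * g) := by group
    rw [this, inv_mul_eq_one] at h
    exact h.symm
  · intro h
    have : x⁻¹ * g⁻¹ * x * g = (g * x)⁻¹ * (x * g) := by group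
    rw [this, h, inv_mul_cancel]

theorem cm_self (x : P) : cm x x = 1 := by
  rw [cm_eq_one_iff]

theorem cm_aut (k : MulAut P) (x g : P) : k (cm x g) = cm (k x) (k g) := by
  unfold cm
  simp [map_mul, map_inv]

theorem cm_mul_left {x₁ x₂ g : P} (h : cm x₁ g ∈ Subgroup.center P) :
    cm (x₁ * x₂) g = cm x₁ g * cm x₂ g := by
  have hc := (Subgroup.mem_center_iff.mp h) x₂⁻¹
  have e1 : cm (x₁ * x₂) g = x₂⁻¹ * cm x₁ g * (g⁻¹ * x₂ * g) := by unfold cm; group
  rw [e1, hc]
  unfold cm; group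

theorem cm_mul_right {x g₁ g₂ : P} (h : cm x g₁ ∈ Subgroup.center P) :
    cm x (g₁ * g₂) = cm x g₁ * cm x g₂ := by
  have hc := (Subgroup.mem_center_iff.mp h) (x⁻¹ * g₂⁻¹ * x)
  have e1 : cm x (g₁ * g₂) = (x⁻¹ * g₂⁻¹ * x) * cm x g₁ * g₂ := by unfold cm; group
  rw [e1, hc]
  unfold cm; group

theorem cm_central_left {z x g : P} (hz : z ∈ Subgroup.center P) : cm (z * x) g = cm x g := by
  have h1 : cm z g = 1 := by
    rw [cm_eq_one_iff]
    exact ((Subgroup.mem_center_iff.mp hz) g).symm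
  rw [cm_mul_left (by rw [h1]; exact Subgroup.one_mem _), h1, one_mul]

theorem cm_central_right {z x g : P} (hz : z ∈ Subgroup.center P) : cm x (z * g) = cm x g := by
  have h1 : cm x z = 1 := by
    rw [cm_eq_one_iff]
    exact ((Subgroup.mem_center_iff.mp hz) x)
  rw [cm_mul_right (by rw [h1]; exact Subgroup.one_mem _), h1, one_mul]

end cmlemmas

/-- the central elements of square 1 -/
def Om (P : Type u) [Group P] : Subgroup P where
  carrier := {x | x * x = 1 ∧ x ∈ Subgroup.center P}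
  one_mem' := ⟨by simp, Subgroup.one_mem _⟩
  mul_mem' := by
    rintro a b ⟨ha, hac⟩ ⟨hb, hbc⟩
    refine ⟨?_, Subgroup.mul_mem _ hac hbc⟩
    have := (Subgroup.mem_center_iff.mp hac) b
    calc a * b * (a * b) = a * (b * a) * b := by group
      _ = a * (a * b) * b := by rw [this]
      _ = (a * a) * (b * b) := by group
      _ = 1 := by rw [ha, hb, one_mul]
  inv_mem' := by
    rintro a ⟨ha, hac⟩
    refine ⟨?_, Subgroup.inv_mem _ hac⟩
    rw [← mul_inv_rev, ha, inv_one]

theorem mem_Om {P : Type u} [Group P] {x : P} : x ∈ Om P ↔ x * x = 1 ∧ x ∈ Subgroup.center P :=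
  Iff.rfl

theorem Om_le_center (P : Type u) [Group P] : Om P ≤ Subgroup.center P := fun _ hx => hx.2

instance Om_normal (P : Type u) [Group P] : (Om P).Normal := by
  constructor
  intro n hn g
  have := (Subgroup.mem_center_iff.mp hn.2) g
  have e : g * n * g⁻¹ = n := by rw [this, mul_inv_cancel_right]
  rw [e]; exact hn

/-- The bundled hypotheses of a Suzuki 2-group with its cyclic group of automorphisms. -/
structure Suz (P : Type u) [Group P] (K : Subgroup (MulAut P)) : Prop where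
  fin : Finite P
  pg : IsPGroup 2 P
  cyc : IsCyclic K
  reg : ∀ x y : P, x ≠ 1 → x * x = 1 → y ≠ 1 → y * y = 1 → ∃! k : K, (k : MulAut P) x = y
  nonab : ∃ x y : P, x * y ≠ y * x
  two : ∃ x y : P, x ≠ y ∧ x ≠ 1 ∧ x * x = 1 ∧ y ≠ 1 ∧ y * y = 1

section suz

variable {P : Type u} [Group P] {K : Subgroup (MulAut P)} (S : Suz P K)
include S

theorem Suz.exists_k {x y : P} (hx1 : x ≠ 1) (hx2 : x * x = 1) (hy1 : y ≠ 1) (hy2 : y * y = 1) :
    ∃ k ∈ K, k x = y := by
  obtain ⟨k, hk, -⟩ := S.reg x y hx1 hx2 hy1 hy2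
  exact ⟨k.1, k.2, hk⟩

theorem Suz.k_unique {x : P} (hx1 : x ≠ 1) (hx2 : x * x = 1) {a b : MulAut P} (ha : a ∈ K)
    (hb : b ∈ K) (h : a x = b x) : a = b := by
  have hy1 : b x ≠ 1 := by
    intro h1
    apply hx1
    have := congrArg b.symm h1
    simpa using this
  have hy2 : b x * b x = 1 := by rw [← map_mul, hx2, map_one]
  obtain ⟨k, -, hk⟩ := S.reg x (b x) hx1 hx2 hy1 hy2
  have h1 := hk ⟨a, ha⟩ h
  have h2 := hk ⟨b, hb⟩ rfl
  have := h1.trans h2.symm
  exact congrArg Subtype.val this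

theorem Suz.K_comm {a b : MulAut P} (ha : a ∈ K) (hb : b ∈ K) : a * b = b * a := by
  haveI := S.cyc
  obtain ⟨g, hg⟩ := IsCyclic.exists_generator (α := K)
  obtain ⟨i, hi⟩ := Subgroup.mem_zpowers_iff.mp (hg ⟨a, ha⟩)
  obtain ⟨j, hj⟩ := Subgroup.mem_zpowers_iff.mp (hg ⟨b, hb⟩)
  have h := (Commute.refl g).zpow_zpow i j
  rw [hi, hj] at h
  have := congrArg Subtype.val h.eq
  simpa using this

theorem Suz.sq_one_central {y : P} (hy2 : y * y = 1) : y ∈ Subgroup.center P := by
  by_cases hy1 : y = 1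
  · rw [hy1]; exact Subgroup.one_mem _
  haveI := S.fin
  obtain ⟨x0, _, _, hx0, _⟩ := S.two
  haveI : Nontrivial P := ⟨⟨x0, 1, hx0⟩⟩
  haveI := S.pg.center_nontrivial
  obtain ⟨z, hz⟩ := exists_ne (1 : Subgroup.center P)
  have hz1 : (z : P) ≠ 1 := fun h => hz (Subtype.ext h)
  obtain ⟨j, hj1, hj2⟩ := exists_invol_pow S.pg hz1
  obtain ⟨k, -, hk⟩ := S.exists_k hj1 hj2 hy1 hy2
  rw [← hk]
  exact aut_mem_center k (Subgroup.pow_mem _ z.2 _)

theorem Suz.mem_Om_iff {x : P} : x ∈ Om P ↔ x * x = 1 :=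
  ⟨fun h => h.1, fun h => ⟨h, S.sq_one_central h⟩⟩

/-- `K` has no involution. -/
theorem Suz.K_no_invol {k : MulAut P} (hk : k ∈ K) (hk2 : k * k = 1) : k = 1 := by
  obtain ⟨x0, _, _, hx1, hx2, _⟩ := S.two
  have hkx2 : k x0 * k x0 = 1 := by rw [← map_mul, hx2, map_one]
  by_cases h : x0 * k x0 = 1
  · have : k x0 = x0 := by
      have h1 : k x0 = x0⁻¹ := by rw [eq_inv_iff_mul_eq_one, ← h]; 
                                   exact ((Subgroup.mem_center_iff.mp (S.sq_one_central hx2)) _)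
      rw [h1, inv_eq_iff_mul_eq_one, hx2]
    exact S.k_unique hx1 hx2 hk K.one_mem (by simpa using this)
  · have hc := (Subgroup.mem_center_iff.mp (S.sq_one_central hx2)) (k x0)
    have h2 : (x0 * k x0) * (x0 * k x0) = 1 := by
      calc (x0 * k x0) * (x0 * k x0) = x0 * (k x0 * x0) * k x0 := by group
        _ = x0 * (x0 * k x0) * k x0 := by rw [hc]
        _ = (x0 * x0) * (k x0 * k x0) := by group
        _ = 1 := by rw [hx2, hkx2, one_mul]
    have h3 : k (x0 * k x0) = x0 * k x0 := by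
      rw [map_mul]
      have : k (k x0) = x0 := by
        have := congrArg (fun f : MulAut P => f x0) hk2
        simpa using this
      rw [this, hc]
    exact S.k_unique h h2 hk K.one_mem (by simpa using h3)

end suz

section quot

variable {P : Type u} [Group P]

theorem Om_map (k : MulAut P) : (Om P).map (k : P ≃* P).toMonoidHom = Om P := by
  ext y
  rw [Subgroup.mem_map]
  constructor
  · rintro ⟨x, hx, rfl⟩
    refine ⟨?_, aut_mem_center k hx.2⟩
    change k x * k x = 1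
    rw [← map_mul, hx.1, map_one]
  · intro hy
    refine ⟨k.symm y, ⟨?_, aut_mem_center k.symm hy.2⟩, k.apply_symm_apply y⟩
    rw [← map_mul, hy.1, map_one]

/-- the automorphism induced on `P ⧸ Ω` -/
noncomputable def quotAut (k : MulAut P) : MulAut (P ⧸ Om P) :=
  QuotientGroup.congr (Om P) (Om P) k (Om_map k)

theorem quotAut_mk (k : MulAut P) (x : P) :
    quotAut k (QuotientGroup.mk x : P ⧸ Om P) = QuotientGroup.mk (k x) :=
  QuotientGroup.congr_mk _ _ _ _ _

noncomputable def quotAutHom : MulAut P →* MulAut (P ⧸ Om P) where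
  toFun := quotAut
  map_one' := by
    ext x
    induction x using QuotientGroup.induction_on with
    | H x => rw [quotAut_mk]; rfl
  map_mul' := by
    intro a b
    ext x
    induction x using QuotientGroup.induction_on with
    | H x =>
      rw [quotAut_mk]
      have h1 : (quotAut a * quotAut b) (QuotientGroup.mk x : P ⧸ Om P)
          = quotAut a (quotAut b (QuotientGroup.mk x)) := rfl
      rw [h1, quotAut_mk, quotAut_mk]
      rfl

theorem quotAutHom_mk (k : MulAut P) (x : P) :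
    quotAutHom k (QuotientGroup.mk x : P ⧸ Om P) = QuotientGroup.mk (k x) :=
  quotAut_mk k x

end quot

section suz2

variable {P : Type u} [Group P] {K : Subgroup (MulAut P)} (S : Suz P K)
include S

theorem Suz.exists_sqrt {k : MulAut P} (hk : k ∈ K) : ∃ a ∈ K, a * a = k := by
  haveI := S.fin
  haveI : Finite (MulAut P) :=
    Finite.of_injective (fun e : MulAut P => (e : P → P)) DFunLike.coe_injective
  have hpos : 0 < orderOf k := orderOf_pos k
  rcases Nat.even_or_odd (orderOf k) with ⟨m, hm⟩ | ⟨m, hm⟩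
  · exfalso
    have h1 : k ^ m * k ^ m = 1 := by rw [← pow_add, ← hm, pow_orderOf_eq_one]
    have h2 := S.K_no_invol (K.pow_mem hk m) h1
    have h3 : orderOf k ∣ m := orderOf_dvd_of_pow_eq_one h2
    have h4 := Nat.le_of_dvd (by omega) h3
    omega
  · refine ⟨k ^ (m + 1), K.pow_mem hk _, ?_⟩
    rw [← pow_add]
    have : m + 1 + (m + 1) = orderOf k + 1 := by omega
    rw [this, pow_succ, pow_orderOf_eq_one, one_mul]

theorem Suz.add_closure {a b : MulAut P} (ha : a ∈ K) (hb : b ∈ K) (hab : a ≠ b) :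
    ∃ c ∈ K, ∀ ω : P, ω * ω = 1 → a ω * b ω = c ω := by
  obtain ⟨x0, _, _, hx1, hx2, _⟩ := S.two
  have hax : a x0 * a x0 = 1 := by rw [← map_mul, hx2, map_one]
  have hbx : b x0 * b x0 = 1 := by rw [← map_mul, hx2, map_one]
  have h1 : a x0 * b x0 ≠ 1 := by
    intro h
    apply hab
    apply S.k_unique hx1 hx2 ha hb
    have : a x0 = (b x0)⁻¹ := eq_inv_of_mul_eq_one_left h
    rw [this, inv_eq_iff_mul_eq_one, hbx]
  have h2 : (a x0 * b x0) * (a x0 * b x0) = 1 :=
    ((Om P).mul_mem (S.mem_Om_iff.mpr hax) (S.mem_Om_iff.mpr hbx)).1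
  obtain ⟨c, hc, hcx⟩ := S.exists_k hx1 hx2 h1 h2
  refine ⟨c, hc, ?_⟩
  intro ω hω
  by_cases hω1 : ω = 1
  · rw [hω1]; simp
  obtain ⟨k, hk, hkx⟩ := S.exists_k hx1 hx2 hω1 hω
  rw [← hkx]
  have e1 : a (k x0) = k (a x0) := by
    have := congrArg (fun f : MulAut P => f x0) (S.K_comm ha hk)
    simpa using this
  have e2 : b (k x0) = k (b x0) := by
    have := congrArg (fun f : MulAut P => f x0) (S.K_comm hb hk)
    simpa using this
  have e3 : c (k x0) = k (c x0) := by
    have := congrArg (fun f : MulAut P => f x0) (S.K_comm hc hk)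
    simpa using this
  rw [e1, e2, e3, ← map_mul, hcx]

/-- Case A: `P' ≤ Ω` is impossible when the centre has exponent `2^e ≥ 4`. -/
theorem Suz.caseA (hcm : ∀ x g : P, cm x g * cm x g = 1) (e : ℕ) (he : 2 ≤ e)
    (hexp : ∀ z ∈ Subgroup.center P, z ^ (2 ^ e) = 1)
    (hker : ∀ z ∈ Subgroup.center P, z ^ (2 ^ (e - 1)) = 1 → ∃ v ∈ Subgroup.center P, z = v * v) :
    False := by
  have hcc : ∀ x g : P, cm x g ∈ Subgroup.center P := fun x g => S.sq_one_central (hcm x g)
  have hcomm : ∀ {c : P}, c ∈ Subgroup.center P → ∀ g : P, g * c = c * g :=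
    fun hc g => (Subgroup.mem_center_iff.mp hc) g
  -- squares are central
  have hsq : ∀ x : P, x * x ∈ Subgroup.center P := by
    intro x
    rw [Subgroup.mem_center_iff]
    intro g
    have : cm (x * x) g = 1 := by rw [cm_mul_left (hcc x g), hcm]
    exact ((cm_eq_one_iff _ _).mp this).symm
  -- π is a homomorphism
  have hpi_mul : ∀ x g : P, (x * g) ^ (2 ^ e) = x ^ (2 ^ e) * g ^ (2 ^ e) := by
    intro x g
    have h1 : (x * g) * (x * g) = (x * x) * (g * g) * cm g x := by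
      have : (x * g) * (x * g) = (x * x) * (g * g) * (g⁻¹ * cm g x * g) := by unfold cm; group
      rw [this]
      congr 1
      rw [mul_assoc, ← hcomm (hcc g x) g, inv_mul_cancel_left]
    obtain ⟨d, hd⟩ : ∃ d, e = d + 2 := ⟨e - 2, by omega⟩
    have h2 : (x * g) ^ (2 ^ e) = ((x * g) * (x * g)) ^ (2 ^ (d + 1)) := by
      rw [← pow_two, ← pow_mul, hd]; congr 1; ring
    have c1 : Commute (x * x) (g * g) := (hcomm (hsq g) (x * x))
    have c2 : Commute ((x * x) * (g * g)) (cm g x) := (hcomm (hcc g x) _)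
    rw [h2, h1, c2.mul_pow, c1.mul_pow]
    have h3 : cm g x ^ 2 ^ (d + 1) = 1 := by
      rw [pow_succ, mul_comm, pow_mul, pow_two, hcm, one_pow]
    rw [h3, mul_one, ← pow_two, ← pow_two, ← pow_mul, ← pow_mul, hd]
    congr 2 <;> ring
  -- π x ∈ Ω
  have hpi_sq : ∀ x : P, x ^ (2 ^ e) * x ^ (2 ^ e) = 1 := by
    intro x
    have := hexp (x * x) (hsq x)
    rw [← pow_two x, ← pow_mul] at this
    rw [← pow_add, ← two_mul]; exact this
  -- kernel
  have hpi_ker : ∀ x : P, x ^ (2 ^ e) = 1 → x ∈ Subgroup.center P := by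
    intro x hx
    have h1 : (x * x) ^ (2 ^ (e - 1)) = 1 := by
      rw [← pow_two, ← pow_mul]
      have : 2 * 2 ^ (e - 1) = 2 ^ e := by
        obtain ⟨d, hd⟩ : ∃ d, e = d + 1 := ⟨e - 1, by omega⟩
        rw [hd]; simp; ring
      rw [this]; exact hx
    obtain ⟨v, hv, hxv⟩ := hker (x * x) (hsq x) h1
    have h2 : (x * v⁻¹) * (x * v⁻¹) = 1 := by
      have hvc := hcomm (Subgroup.inv_mem _ hv) x
      calc (x * v⁻¹) * (x * v⁻¹) = x * (v⁻¹ * x) * v⁻¹ := by group
        _ = x * (x * v⁻¹) * v⁻¹ := by rw [← hvc]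
        _ = (x * x) * (v * v)⁻¹ := by group
        _ = 1 := by rw [hxv, mul_inv_cancel]
    have h3 := S.sq_one_central h2
    have : x = (x * v⁻¹) * v := by group
    rw [this]; exact Subgroup.mul_mem _ h3 hv
  have hpi_aut : ∀ (k : MulAut P) (x : P), (k x) ^ (2 ^ e) = k (x ^ (2 ^ e)) :=
    fun k x => (map_pow k x _).symm
  -- transfer of additive closure
  have htrans : ∀ {a b c : MulAut P}, (∀ ω : P, ω * ω = 1 → a ω * b ω = c ω) →
      ∀ x : P, ∃ z ∈ Subgroup.center P, a x * b x = z * c x := by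
    intro a b c h x
    refine ⟨a x * b x * (c x)⁻¹, ?_, by group⟩
    apply hpi_ker
    rw [hpi_mul, hpi_mul, inv_pow, hpi_aut, hpi_aut, hpi_aut, h _ (hpi_sq x), mul_inv_cancel]
  -- polarization
  have hpol : ∀ {a b : MulAut P}, a ∈ K → b ∈ K → ∀ x y : P,
      cm (a x) (b y) = cm (b x) (a y) := by
    intro a b ha hb x y
    by_cases hab : a = b
    · rw [hab]
    obtain ⟨c, hc, hcω⟩ := S.add_closure ha hb hab
    obtain ⟨z, hz, hzx⟩ := htrans hcω x
    obtain ⟨z', hz', hzy⟩ := htrans hcω y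
    have e1 : cm (a x * b x) (a y * b y) = a (cm x y) * b (cm x y) := by
      rw [hzx, hzy, cm_central_left hz, cm_central_right hz', ← cm_aut, hcω _ (hcm x y)]
    have e2 : cm (a x * b x) (a y * b y)
        = a (cm x y) * cm (a x) (b y) * (cm (b x) (a y) * b (cm x y)) := by
      rw [cm_mul_left (hcc _ _), cm_mul_right (hcc _ _), cm_mul_right (hcc _ _), cm_aut, cm_aut]
    rw [e2] at e1
    have e3 : cm (a x) (b y) * cm (b x) (a y) = 1 := by
      have h1 : a (cm x y) * (cm (a x) (b y) * cm (b x) (a y) * b (cm x y))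
          = a (cm x y) * b (cm x y) := by
        rw [← e1]; group
      have h2 := mul_left_cancel h1
      exact mul_right_cancel (h2.trans (one_mul _).symm)
    have e4 : cm (a x) (b y) = (cm (b x) (a y))⁻¹ := eq_inv_of_mul_eq_one_left e3
    rw [e4, inv_eq_iff_mul_eq_one, hcm]
  have hsym : ∀ {a : MulAut P}, a ∈ K → ∀ x y : P, cm (a x) y = cm x (a y) := by
    intro a ha x y
    have := hpol ha K.one_mem x y
    simpa using this
  have hsq2 : ∀ {a : MulAut P}, a ∈ K → ∀ x y : P, cm x ((a * a) y) = a (cm x y) := by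
    intro a ha x y
    have h1 : (a * a) y = a (a y) := rfl
    rw [h1, ← hsym ha x (a y), ← cm_aut]
  -- final
  have hab : ∀ x g : P, cm x g = 1 := by
    intro x g
    by_cases hx : x ^ (2 ^ e) = 1
    · rw [cm_eq_one_iff]; exact (hcomm (hpi_ker x hx) g).symm
    by_cases hg : g ^ (2 ^ e) = 1
    · rw [cm_eq_one_iff]; exact (hcomm (hpi_ker g hg) x)
    obtain ⟨k, hk, hkx⟩ := S.exists_k hx (hpi_sq x) hg (hpi_sq g)
    obtain ⟨a, ha, haa⟩ := S.exists_sqrt hk
    have hz : g * (k x)⁻¹ ∈ Subgroup.center P := by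
      apply hpi_ker
      rw [hpi_mul, inv_pow, hpi_aut, hkx, mul_inv_cancel]
    have : g = (g * (k x)⁻¹) * (k x) := by group
    rw [this, cm_central_right hz, ← haa, hsq2 ha, cm_self, map_one]
  obtain ⟨x, y, hxy⟩ := S.nonab
  exact hxy ((cm_eq_one_iff x y).mp (hab x y))

omit S in
/-- the `n`-th power endomorphism of the centre -/
def powHom (P : Type u) [Group P] (n : ℕ) : Subgroup.center P →* Subgroup.center P where
  toFun := fun u => u ^ n
  map_one' := one_pow _
  map_mul' := fun a b => by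
    have hc : Commute a b := Subtype.ext ((Subgroup.mem_center_iff.mp b.2) a)
    exact hc.mul_pow n

theorem Suz.ker_pow (e : ℕ) (he : 1 ≤ e) (hexp : ∀ z ∈ Subgroup.center P, z ^ (2 ^ e) = 1)
    (z₁ : P) (hz₁ : z₁ ∈ Subgroup.center P) (hz₁' : z₁ ^ (2 ^ (e - 1)) ≠ 1) :
    ∀ z ∈ Subgroup.center P, z ^ (2 ^ (e - 1)) = 1 → ∃ v ∈ Subgroup.center P, z = v * v := by
  haveI := S.fin
  have h2e : 2 ^ (e - 1) * 2 = 2 ^ e := by
    obtain ⟨d, hd⟩ : ∃ d, e = d + 1 := ⟨e - 1, by omega⟩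
    rw [hd]; simp; ring
  let sq : Subgroup.center P →* Subgroup.center P := powHom P 2
  let ψ : Subgroup.center P →* Subgroup.center P := powHom P (2 ^ (e - 1))
  have hsq : ∀ u : Subgroup.center P, sq u = u ^ 2 := fun u => rfl
  have hψ : ∀ u : Subgroup.center P, ψ u = u ^ (2 ^ (e - 1)) := fun u => rfl
  have h_range_eq : ψ.range = sq.ker := by
    ext u
    rw [MonoidHom.mem_range, MonoidHom.mem_ker, hsq]
    constructor
    · rintro ⟨z, rfl⟩
      rw [hψ, ← pow_mul, h2e]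
      apply Subtype.ext
      rw [Subgroup.coe_pow]
      exact hexp z z.2
    · intro hu
      by_cases hu1 : u = 1
      · exact ⟨1, by rw [hu1, map_one]⟩
      have hu1' : (u : P) ≠ 1 := fun h => hu1 (Subtype.ext h)
      have hu2 : (u : P) * (u : P) = 1 := by
        have := congrArg Subtype.val hu
        rw [Subgroup.coe_pow, pow_two] at this
        exact this
      have hω2 : z₁ ^ (2 ^ (e - 1)) * z₁ ^ (2 ^ (e - 1)) = 1 := by
        rw [← pow_two, ← pow_mul, h2e]; exact hexp z₁ hz₁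
      obtain ⟨k, -, hk⟩ := S.exists_k hz₁' hω2 hu1' hu2
      refine ⟨⟨k z₁, aut_mem_center k hz₁⟩, ?_⟩
      rw [hψ]
      apply Subtype.ext
      rw [Subgroup.coe_pow]
      change (k z₁) ^ (2 ^ (e - 1)) = (u : P)
      rw [← map_pow, hk]
  have h_le : sq.range ≤ ψ.ker := by
    rintro _ ⟨v, rfl⟩
    rw [MonoidHom.mem_ker, hψ, hsq, ← pow_mul, mul_comm, h2e]
    apply Subtype.ext
    rw [Subgroup.coe_pow]
    exact hexp v v.2
  have c1 : Nat.card ψ.ker * Nat.card ψ.range = Nat.card (Subgroup.center P) := by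
    rw [← Subgroup.index_ker]; exact Subgroup.card_mul_index _
  have c2 : Nat.card sq.ker * Nat.card sq.range = Nat.card (Subgroup.center P) := by
    rw [← Subgroup.index_ker]; exact Subgroup.card_mul_index _
  have c3 : Nat.card ψ.ker = Nat.card sq.range := by
    rw [h_range_eq, ← c2, mul_comm] at c1
    exact Nat.eq_of_mul_eq_mul_left Nat.card_pos c1
  have h_eq : sq.range = ψ.ker := Subgroup.eq_of_le_of_card_ge h_le (le_of_eq c3)
  intro z hz hz2
  have hmem : (⟨z, hz⟩ : Subgroup.center P) ∈ ψ.ker := by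
    rw [MonoidHom.mem_ker, hψ]
    apply Subtype.ext
    rw [Subgroup.coe_pow]
    exact hz2
  rw [← h_eq] at hmem
  obtain ⟨v, hv⟩ := hmem
  refine ⟨v, v.2, ?_⟩
  have := congrArg Subtype.val hv
  rw [hsq, Subgroup.coe_pow, pow_two] at this
  exact this.symm

omit S in
theorem mk_eq_one_iff' {x : P} : (QuotientGroup.mk x : P ⧸ Om P) = 1 ↔ x ∈ Om P :=
  QuotientGroup.eq_one_iff x

theorem Suz.quot (ha : ∀ ω : P, ω ≠ 1 → ω * ω = 1 → ∃ v ∈ Subgroup.center P, v * v = ω)
    (hb : ∀ x : P, (x * x) * (x * x) = 1 → x ∈ Subgroup.center P)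
    (hnonab : ∃ x y : P ⧸ Om P, x * y ≠ y * x) :
    Suz (P ⧸ Om P) (K.map quotAutHom) := by
  haveI := S.fin
  have hcomm : ∀ {c : P}, c ∈ Subgroup.center P → ∀ g : P, g * c = c * g :=
    fun hc g => (Subgroup.mem_center_iff.mp hc) g
  -- involutions of the quotient
  have hinv : ∀ x : P, (QuotientGroup.mk x : P ⧸ Om P) ≠ 1 →
      (QuotientGroup.mk x : P ⧸ Om P) * QuotientGroup.mk x = 1 →
      x * x ≠ 1 ∧ (x * x) * (x * x) = 1 ∧ x ∈ Subgroup.center P := by
    intro x h1 h2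
    have h3 : x * x ≠ 1 := fun h => h1 (mk_eq_one_iff'.mpr (S.mem_Om_iff.mpr h))
    have h4 : (x * x) * (x * x) = 1 := by
      rw [← QuotientGroup.mk_mul, mk_eq_one_iff'] at h2
      exact h2.1
    exact ⟨h3, h4, hb x h4⟩
  refine ⟨inferInstance, S.pg.to_quotient _, ?_, ?_, hnonab, ?_⟩
  · haveI := S.cyc
    exact isCyclic_of_surjective (quotAutHom.subgroupMap K) (MonoidHom.subgroupMap_surjective _ _)
  · intro X Y hX1 hX2 hY1 hY2
    induction X using QuotientGroup.induction_on with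
    | H x =>
    induction Y using QuotientGroup.induction_on with
    | H y =>
    obtain ⟨hx1, hx2, hxc⟩ := hinv x hX1 hX2
    obtain ⟨hy1, hy2, hyc⟩ := hinv y hY1 hY2
    obtain ⟨k, hk, hkx⟩ := S.exists_k hx1 hx2 hy1 hy2
    have key : ∀ k' : MulAut P, (QuotientGroup.mk (k' x) : P ⧸ Om P) = QuotientGroup.mk y ↔
        k' (x * x) = y * y := by
      intro k'
      rw [QuotientGroup.eq, S.mem_Om_iff]
      have e1 : ((k' x)⁻¹ * y) * ((k' x)⁻¹ * y) = (k' (x * x))⁻¹ * (y * y) := by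
        have := hcomm hyc (k' x)⁻¹
        rw [map_mul]
        calc ((k' x)⁻¹ * y) * ((k' x)⁻¹ * y) = (k' x)⁻¹ * (y * (k' x)⁻¹) * y := by group
          _ = (k' x)⁻¹ * ((k' x)⁻¹ * y) * y := by rw [← this]
          _ = (k' x * k' x)⁻¹ * (y * y) := by group
      rw [e1, inv_mul_eq_one]
    refine ⟨⟨quotAutHom k, Subgroup.mem_map_of_mem _ hk⟩, ?_, ?_⟩
    · change quotAutHom k (QuotientGroup.mk x) = QuotientGroup.mk y
      rw [quotAutHom_mk, key]
      exact hkx
    · rintro ⟨kb, hkb⟩ hkb2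
      obtain ⟨k', hk', rfl⟩ := Subgroup.mem_map.mp hkb
      apply Subtype.ext
      change quotAutHom k' = quotAutHom k
      have h1 : quotAutHom k' (QuotientGroup.mk x : P ⧸ Om P) = QuotientGroup.mk y := hkb2
      rw [quotAutHom_mk, key] at h1
      rw [S.k_unique hx1 hx2 hk' hk (h1.trans hkx.symm)]
  · obtain ⟨ω₁, ω₂, hne, h11, h12, h21, h22⟩ := S.two
    obtain ⟨v₁, hv₁, hvω₁⟩ := ha ω₁ h11 h12
    obtain ⟨v₂, hv₂, hvω₂⟩ := ha ω₂ h21 h22
    have hmk : ∀ v ω : P, ω ≠ 1 → ω * ω = 1 → v * v = ω →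
        (QuotientGroup.mk v : P ⧸ Om P) ≠ 1 ∧
        (QuotientGroup.mk v : P ⧸ Om P) * QuotientGroup.mk v = 1 := by
      intro v ω h1 h2 hv
      constructor
      · rw [Ne, mk_eq_one_iff', S.mem_Om_iff, hv]; exact h1
      · rw [← QuotientGroup.mk_mul, mk_eq_one_iff', S.mem_Om_iff, hv]; exact h2
    refine ⟨QuotientGroup.mk v₁, QuotientGroup.mk v₂, ?_, (hmk v₁ ω₁ h11 h12 hvω₁).1,
      (hmk v₁ ω₁ h11 h12 hvω₁).2, (hmk v₂ ω₂ h21 h22 hvω₂).1, (hmk v₂ ω₂ h21 h22 hvω₂).2⟩
    intro h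
    apply hne
    rw [QuotientGroup.eq, S.mem_Om_iff] at h
    have e1 : (v₁⁻¹ * v₂) * (v₁⁻¹ * v₂) = (v₁ * v₁)⁻¹ * (v₂ * v₂) := by
      have := hcomm hv₂ v₁⁻¹
      calc (v₁⁻¹ * v₂) * (v₁⁻¹ * v₂) = v₁⁻¹ * (v₂ * v₁⁻¹) * v₂ := by group
        _ = v₁⁻¹ * (v₁⁻¹ * v₂) * v₂ := by rw [← this]
        _ = (v₁ * v₁)⁻¹ * (v₂ * v₂) := by group
    rw [e1, inv_mul_eq_one, hvω₁, hvω₂] at h
    exact h

end suz2

theorem main (n : ℕ) : ∀ (P : Type u) [Group P] (K : Subgroup (MulAut P)), Suz P K →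
    Nat.card P = n → ∀ z ∈ Subgroup.center P, z * z = 1 := by
  induction n using Nat.strong_induction_on with
  | _ n ih =>
  intro P _ K S hn z hz
  by_contra hz2
  haveI := S.fin
  have hcomm : ∀ {c : P}, c ∈ Subgroup.center P → ∀ g : P, g * c = c * g :=
    fun hc g => (Subgroup.mem_center_iff.mp hc) g
  -- w central of order 4
  obtain ⟨j, hj1, hj2⟩ := exists_order_four_pow S.pg hz2
  have hwc : z ^ 2 ^ j ∈ Subgroup.center P := Subgroup.pow_mem _ hz _
  have hw2 : ((z ^ 2 ^ j) * (z ^ 2 ^ j)) * ((z ^ 2 ^ j) * (z ^ 2 ^ j)) = 1 := by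
    rw [← hj2]; simp only [pow_succ, pow_zero, one_mul, mul_assoc]
  -- (a)
  have ha : ∀ ω : P, ω ≠ 1 → ω * ω = 1 → ∃ v ∈ Subgroup.center P, v * v = ω := by
    intro ω h1 h2
    obtain ⟨k, -, hk⟩ := S.exists_k hj1 hw2 h1 h2
    exact ⟨k (z ^ 2 ^ j), aut_mem_center k hwc, by rw [← map_mul, hk]⟩
  -- (b)
  have hb : ∀ x : P, (x * x) * (x * x) = 1 → x ∈ Subgroup.center P := by
    intro x hx
    by_cases hx1 : x * x = 1
    · exact S.sq_one_central hx1
    obtain ⟨v, hv, hvx⟩ := ha (x * x) hx1 hx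
    have hvc := hcomm (Subgroup.inv_mem _ hv) x
    have h2 : (x * v⁻¹) * (x * v⁻¹) = 1 := by
      calc (x * v⁻¹) * (x * v⁻¹) = x * (v⁻¹ * x) * v⁻¹ := by group
        _ = x * (x * v⁻¹) * v⁻¹ := by rw [← hvc]
        _ = (x * x) * (v * v)⁻¹ := by group
        _ = 1 := by rw [hvx, mul_inv_cancel]
    have h3 := S.sq_one_central h2
    have : x = (x * v⁻¹) * v := by group
    rw [this]; exact Subgroup.mul_mem _ h3 hv
  -- an element y outside the centre, central modulo the centre, with central square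
  obtain ⟨y, hyZ, hy2, hycm⟩ : ∃ y : P, y ∉ Subgroup.center P ∧ y * y ∈ Subgroup.center P ∧
      ∀ g : P, cm y g ∈ Subgroup.center P := by
    obtain ⟨x0, y0, hxy0⟩ := S.nonab
    have hx0 : x0 ∉ Subgroup.center P := fun h => hxy0 (hcomm h y0).symm
    haveI : Nontrivial (P ⧸ Subgroup.center P) := by
      refine ⟨⟨QuotientGroup.mk x0, 1, ?_⟩⟩
      rw [Ne, QuotientGroup.eq_one_iff]; exact hx0
    have hpq : IsPGroup 2 (P ⧸ Subgroup.center P) := S.pg.to_quotient _
    haveI := hpq.center_nontrivial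
    obtain ⟨ub, hub⟩ := exists_ne (1 : Subgroup.center (P ⧸ Subgroup.center P))
    obtain ⟨u, hu⟩ := QuotientGroup.mk_surjective (ub : P ⧸ Subgroup.center P)
    have huZ : u ∉ Subgroup.center P := by
      intro h
      apply hub
      apply Subtype.ext
      rw [← hu]
      exact (QuotientGroup.eq_one_iff u).mpr h
    let Z2 : Subgroup P := (Subgroup.center (P ⧸ Subgroup.center P)).comap
      (QuotientGroup.mk' (Subgroup.center P))
    have huZ2 : u ∈ Z2 := by
      change (QuotientGroup.mk u : P ⧸ Subgroup.center P) ∈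
        Subgroup.center (P ⧸ Subgroup.center P)
      rw [hu]; exact ub.2
    have hZ2 : ∀ t ∈ Z2, ∀ g : P, cm t g ∈ Subgroup.center P := by
      intro t ht g
      have h1 : (QuotientGroup.mk t : P ⧸ Subgroup.center P) ∈ Subgroup.center _ := ht
      have h2 := (Subgroup.mem_center_iff.mp h1) (QuotientGroup.mk g)
      rw [← QuotientGroup.mk_mul, ← QuotientGroup.mk_mul, QuotientGroup.eq] at h2
      have : cm t g = (g * t)⁻¹ * (t * g) := by unfold cm; group
      rw [this]; exact h2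
    classical
    obtain ⟨m, hm⟩ := S.pg u
    have hex : ∃ m, u ^ 2 ^ m ∈ Subgroup.center P := ⟨m, by rw [hm]; exact Subgroup.one_mem _⟩
    have hj0 : Nat.find hex ≠ 0 := by
      intro h
      have := Nat.find_spec hex
      rw [h] at this
      simp at this
      exact huZ this
    obtain ⟨i, hi⟩ := Nat.exists_eq_succ_of_ne_zero hj0
    refine ⟨u ^ 2 ^ i, ?_, ?_, hZ2 _ (Subgroup.pow_mem _ huZ2 _)⟩
    · intro h
      have : Nat.find hex ≤ i := Nat.find_min' hex h
      omega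
    · rw [← pow_two, ← pow_mul, ← pow_succ]
      have : i + 1 = Nat.find hex := by omega
      rw [this]
      exact Nat.find_spec hex
  have hycm2 : ∀ g : P, cm y g * cm y g = 1 := by
    intro g
    rw [← cm_mul_left (hycm g), cm_eq_one_iff]
    exact (hcomm hy2 g).symm
  by_cases hq : ∃ X Y : P ⧸ Om P, X * Y ≠ Y * X
  · -- Case B
    have S' := S.quot ha hb hq
    have hlt : Nat.card (P ⧸ Om P) < n := by
      rw [← hn, Subgroup.card_eq_card_quotient_mul_card_subgroup (Om P)]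
      have h1 : 1 < Nat.card (Om P) := by
        rw [Finite.one_lt_card_iff_nontrivial]
        refine ⟨⟨⟨_, S.mem_Om_iff.mpr hw2⟩, 1, ?_⟩⟩
        intro h
        exact hj1 (congrArg Subtype.val h)
      have h2 : 0 < Nat.card (P ⧸ Om P) := Nat.card_pos
      nlinarith
    have hyc : (QuotientGroup.mk y : P ⧸ Om P) ∈ Subgroup.center (P ⧸ Om P) := by
      rw [Subgroup.mem_center_iff]
      intro X
      induction X using QuotientGroup.induction_on with
      | H g =>
        rw [← QuotientGroup.mk_mul, ← QuotientGroup.mk_mul, QuotientGroup.eq]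
        have : (g * y)⁻¹ * (y * g) = cm y g := by unfold cm; group
        rw [this, S.mem_Om_iff]
        exact hycm2 g
    have h1 := ih _ hlt (P ⧸ Om P) _ S' rfl _ hyc
    rw [← QuotientGroup.mk_mul, mk_eq_one_iff', S.mem_Om_iff] at h1
    exact hyZ (hb y h1)
  · -- Case A
    push Not at hq
    have hcm : ∀ x g : P, cm x g * cm x g = 1 := by
      intro x g
      have h1 := hq (QuotientGroup.mk x) (QuotientGroup.mk g)
      rw [← QuotientGroup.mk_mul, ← QuotientGroup.mk_mul, eq_comm, QuotientGroup.eq] at h1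
      have : (g * x)⁻¹ * (x * g) = cm x g := by unfold cm; group
      rw [this, S.mem_Om_iff] at h1
      exact h1
    classical
    obtain ⟨a, hPa⟩ := IsPGroup.iff_card.mp S.pg
    have hex : ∃ m, ∀ t ∈ Subgroup.center P, t ^ 2 ^ m = 1 :=
      ⟨a, fun t _ => by rw [← hPa]; exact pow_card_eq_one'⟩
    have hexp := Nat.find_spec hex
    have he2 : 2 ≤ Nat.find hex := by
      by_contra hlt
      have h01 : Nat.find hex = 0 ∨ Nat.find hex = 1 := by omega
      have hh := hexp z hz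
      rcases h01 with h0 | h0
      · rw [h0] at hh
        simp at hh
        rw [hh] at hz2
        simp at hz2
      · rw [h0] at hh
        simp at hh
        rw [pow_two] at hh
        exact hz2 hh
    have hmin : ¬ ∀ t ∈ Subgroup.center P, t ^ 2 ^ (Nat.find hex - 1) = 1 :=
      Nat.find_min hex (by omega)
    push Not at hmin
    obtain ⟨z₁, hz₁, hz₁'⟩ := hmin
    exact S.caseA hcm _ he2 hexp (S.ker_pow _ (by omega) hexp z₁ hz₁ hz₁')

/-- In a Suzuki 2-group `P` (a finite non-abelian 2-group with more than one involution admitting a cyclic group of automorphisms regular on its involutions) the involutions are exactly the non-identity central elements, and `Z(P)` is elementary abelian. -/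
theorem result {P : Type*} [Group P] (hP : Cfsg.IsSuzukiTwoGroup P) :
    (∀ x : P, (x ≠ 1 ∧ x * x = 1) ↔ (x ∈ Subgroup.center P ∧ x ≠ 1)) ∧
      ∀ z ∈ Subgroup.center P, z * z = 1 := by
  obtain ⟨hfin, hpg, hnonab, htwo, K, hKc, hreg⟩ := hP
  have S : Suz P K := ⟨hfin, hpg, hKc, hreg, hnonab, htwo⟩
  have h2 := main (Nat.card P) P K S rfl
  refine ⟨?_, h2⟩
  intro x
  constructor
  · rintro ⟨hx1, hx2⟩
    exact ⟨S.sq_one_central hx2, hx1⟩
  · rintro ⟨hxc, hx1⟩
    exact ⟨hx1, h2 x hxc⟩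

end Cfsg.Agent.S1137
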