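import Cfsg.Statements.S1140

set_option autoImplicit false
open Cfsg

namespace Cfsg.Agent.S1140

section
variable {F : Type*} [Field F] [Fintype F] [CharP F 2]

theorem part1 : LinearIndependent F (fun σ : F ≃+* F => ((σ : F →+* F) : F → F)) := by
  have h := linearIndependent_monoidHom F F
  have hinj : Function.Injective (fun σ : F ≃+* F => ((σ : F →+* F) : F →* F)) := by
    intro σ τ h
    ext x
    exact DFunLike.congr_fun h x
  exact h.comp _ hinj

@[reducible] noncomputable def algZ : Algebra (ZMod 2) F := ZMod.algebra F 2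

attribute [local instance] algZ

noncomputable def vmap (σ : F ≃+* F) : F →ₗ[ZMod 2] F :=
  (σ : F →+* F).toAddMonoidHom.toZModLinearMap 2

theorem vmap_apply (σ : F ≃+* F) (x : F) : vmap σ x = σ x := rfl

theorem vmap_li : LinearIndependent F (vmap : (F ≃+* F) → F →ₗ[ZMod 2] F) := by
  apply LinearIndependent.of_comp (LinearMap.ltoFun (ZMod 2) F F F)
  exact part1

noncomputable def toAlgEquiv (σ : F ≃+* F) : F ≃ₐ[ZMod 2] F :=
  AlgEquiv.ofRingEquiv (f := σ) (fun x => by
    have : (σ : F →+* F).comp (algebraMap (ZMod 2) F) = algebraMap (ZMod 2) F :=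
      Subsingleton.elim _ _
    exact DFunLike.congr_fun this x)

noncomputable def equivAlg : (F ≃+* F) ≃ (F ≃ₐ[ZMod 2] F) where
  toFun := toAlgEquiv
  invFun := fun e => e.toRingEquiv
  left_inv := fun σ => by ext x; rfl
  right_inv := fun e => by ext x; rfl

theorem finiteAut : Finite (F ≃+* F) :=
  Finite.of_injective (fun σ => (σ : F → F)) DFunLike.coe_injective

attribute [local instance] finiteAut

@[reducible] noncomputable def fintypeAut : Fintype (F ≃+* F) := Fintype.ofFinite _

attribute [local instance] fintypeAut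

theorem card_aut : Fintype.card (F ≃+* F) = Module.finrank F (F →ₗ[ZMod 2] F) := by
  rw [Module.finrank_linearMap_self, Fintype.card_eq_nat_card, Nat.card_congr equivAlg,
    IsGalois.card_aut_eq_finrank]

noncomputable def bas : Module.Basis (F ≃+* F) F (F →ₗ[ZMod 2] F) :=
  basisOfLinearIndependentOfCardEqFinrank vmap_li card_aut

theorem bas_apply (σ : F ≃+* F) : bas σ = vmap σ := by
  unfold bas
  rw [coe_basisOfLinearIndependentOfCardEqFinrank]

theorem expand (g : F →ₗ[ZMod 2] F) (x : F) :
    g x = ∑ σ : F ≃+* F, bas.repr g σ * σ x := by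
  have h := bas.sum_repr g
  conv_lhs => rw [← h]
  rw [LinearMap.sum_apply]
  refine Finset.sum_congr rfl fun σ _ => ?_
  rw [LinearMap.smul_apply, bas_apply, vmap_apply, smul_eq_mul]

/-- the coefficient of `τ` in `B x`, additive in `x` -/
noncomputable def coef (B : F →+ F →+ F) (τ : F ≃+* F) : F →+ F where
  toFun := fun x => bas.repr ((B x).toZModLinearMap 2) τ
  map_zero' := by
    have : (B 0).toZModLinearMap 2 = 0 := by
      rw [map_zero]; rfl
    rw [this, map_zero]; rfl
  map_add' := fun x y => by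
    have : (B (x + y)).toZModLinearMap 2 = (B x).toZModLinearMap 2 + (B y).toZModLinearMap 2 := by
      rw [map_add]; rfl
    rw [this, map_add]; rfl

end

attribute [local instance] algZ finiteAut fintypeAut

theorem result {F : Type*} [Field F] [Fintype F] [CharP F 2] :
    LinearIndependent F (fun σ : F ≃+* F => ((σ : F →+* F) : F → F)) ∧
      (∀ f : F →+ F, ∃ (s : Finset (F ≃+* F)) (c : (F ≃+* F) → F), ∀ x : F, f x = ∑ σ ∈ s, c σ * σ x) ∧
      ∀ B : F →+ F →+ F, ∃ (s : Finset ((F ≃+* F) × (F ≃+* F))) (c : (F ≃+* F) × (F ≃+* F) → F),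
        ∀ x y : F, B x y = ∑ p ∈ s, c p * (p.1 x * p.2 y) := by
  refine ⟨part1, ?_, ?_⟩
  · intro f
    refine ⟨Finset.univ, fun σ => bas.repr (f.toZModLinearMap 2) σ, fun x => ?_⟩
    exact expand (f.toZModLinearMap 2) x
  · intro B
    refine ⟨Finset.univ, fun p => bas.repr ((coef B p.2).toZModLinearMap 2) p.1, fun x y => ?_⟩
    have h1 := expand ((B x).toZModLinearMap 2) y
    rw [AddMonoidHom.coe_toZModLinearMap] at h1
    rw [h1, Fintype.sum_prod_type, Finset.sum_comm]
    refine Finset.sum_congr rfl fun τ _ => ?_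
    have h2 := expand ((coef B τ).toZModLinearMap 2) x
    rw [AddMonoidHom.coe_toZModLinearMap] at h2
    have h3 : coef B τ x = bas.repr ((B x).toZModLinearMap 2) τ := rfl
    rw [← h3, h2, Finset.sum_mul]
    refine Finset.sum_congr rfl fun σ _ => ?_
    ring

end Cfsg.Agent.S1140
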