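import Cfsg.Statements.S1176
import Cfsg.Agent.Lib.Helper18.Dihedral
import Mathlib.GroupTheory.Commutator.Basic
import Mathlib.Tactic.IntervalCases

set_option autoImplicit false
open Cfsg
open Cfsg.Agent.Lib.Helper18
open scoped commutatorElement

namespace Cfsg.Agent.S1176

theorem conj_invol {G : Type*} [Group G] {x₀ x : G} (hx₀ : orderOf x₀ = 2) (hx : IsConj x₀ x) :
    x * x = 1 := by
  obtain ⟨c, hc⟩ := isConj_iff.mp hx
  have h0 := mul_self_of_orderOf_two hx₀
  rw [← hc]
  calc c * x₀ * c⁻¹ * (c * x₀ * c⁻¹) = c * (x₀ * x₀) * c⁻¹ := by group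
    _ = 1 := by rw [h0]; group

/-- Let x₀ be an involution of the finite group G and D its conjugacy class. Assume (a) for each x ∈ D the subgroup W(x) generated by the members of D commuting with x is a 2-group of nilpotency class at most 2, and (b) the product of two distinct commuting members of D again lies in D. Then for all x, y ∈ D, if xy has even order greater than 2, its order is 4. -/
theorem result {G : Type*} [Group G] [Finite G] (x₀ : G) (hx₀ : orderOf x₀ = 2) (ha : ∀ x : G, IsConj x₀ x → IsPGroup 2 ↥(Subgroup.closure {y : G | IsConj x₀ y ∧ Commute y x}) ∧ ⁅⁅Subgroup.closure {y : G | IsConj x₀ y ∧ Commute y x}, Subgroup.closure {y : G | IsConj x₀ y ∧ Commute y x}⁆, Subgroup.closure {y : G | IsConj x₀ y ∧ Commute y x}⁆ = ⊥) (hb : ∀ x y : G, IsConj x₀ x → IsConj x₀ y → x ≠ y → Commute x y → IsConj x₀ (x * y)) (x y : G) (hx : IsConj x₀ x) (hy : IsConj x₀ y) (heven : Even (orderOf (x * y))) (hgt : 2 < orderOf (x * y)) : orderOf (x * y) = 4 := by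
  have hxx := conj_invol hx₀ hx
  have hyy := conj_invol hx₀ hy
  obtain ⟨m, hm⟩ := heven
  have hm' : orderOf (x * y) = 2 * m := by omega
  have hm0 : 0 < m := by omega
  obtain ⟨hw2, hw1, hcx, hcy, hconj⟩ := central_involution hxx hyy m hm' hm0
  set w := (x * y) ^ m with hw
  -- x * w is in the class
  have hxw : IsConj x₀ (x * w) := by
    rcases hconj with ⟨a, ha'⟩ | ⟨a, ha'⟩
    · exact hx.trans (isConj_iff.mpr ⟨a, ha'⟩)
    · exact hy.trans (isConj_iff.mpr ⟨a, ha'⟩)
  have hne : x ≠ x * w := by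
    intro h
    apply hw1
    have : x * 1 = x * w := by rw [mul_one]; exact h
    exact (mul_left_cancel this).symm
  have hcomm : Commute x (x * w) := (Commute.refl x).mul_right hcx
  have hwD : IsConj x₀ w := by
    have := hb x (x * w) hx hxw hne hcomm
    rwa [← mul_assoc, hxx, one_mul] at this
  obtain ⟨_, hcl⟩ := ha w hwD
  set W := Subgroup.closure {y : G | IsConj x₀ y ∧ Commute y w} with hW
  have hxW : x ∈ W := Subgroup.subset_closure ⟨hx, hcx⟩
  have hyW : y ∈ W := Subgroup.subset_closure ⟨hy, hcy⟩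
  have h1 : ⁅⁅x, y⁆, y⁆ ∈ ⁅⁅W, W⁆, W⁆ :=
    Subgroup.commutator_mem_commutator (Subgroup.commutator_mem_commutator hxW hyW) hyW
  rw [hcl, Subgroup.mem_bot] at h1
  -- compute the commutator
  have hxinv : x⁻¹ = x := inv_eq_self_of_mul_self hxx
  have hyinv : y⁻¹ = y := inv_eq_self_of_mul_self hyy
  have h2 : ⁅x, y⁆ = (x * y) ^ 2 := by
    rw [commutatorElement_def, hxinv, hyinv, pow_two]; group
  have h3 : y * ((x * y) ^ 2)⁻¹ * y⁻¹ = (x * y) ^ 2 := by
    have := conj_pow_right hxx hyy 2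
    have h4 : y * ((x * y) ^ 2)⁻¹ * y⁻¹ = (y * (x * y) ^ 2 * y⁻¹)⁻¹ := by group
    rw [h4, this, inv_inv]
  have h5 : (x * y) ^ 4 = 1 := by
    rw [← h1, commutatorElement_def, h2]
    calc (x * y) ^ 4 = (x * y) ^ 2 * (x * y) ^ 2 := by rw [← pow_add]
      _ = (x * y) ^ 2 * (y * ((x * y) ^ 2)⁻¹ * y⁻¹) := by rw [h3]
      _ = (x * y) ^ 2 * y * ((x * y) ^ 2)⁻¹ * y⁻¹ := by group
  have hdvd : orderOf (x * y) ∣ 4 := orderOf_dvd_of_pow_eq_one h5
  have hle : orderOf (x * y) ≤ 4 := Nat.le_of_dvd (by norm_num) hdvd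
  interval_cases h : orderOf (x * y)
  · omega
  · rfl

end Cfsg.Agent.S1176
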