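import Cfsg.Statements.S1177
import Mathlib.GroupTheory.Sylow
import Mathlib.Tactic.Group

set_option autoImplicit false
open Cfsg

namespace Cfsg.Agent.S1177

theorem mem_map_conj' {G : Type*} [Group G] (K : Subgroup G) (g y : G) :
    y ∈ K.map (MulAut.conj g).toMonoidHom ↔ g⁻¹ * y * g ∈ K := by
  constructor
  · rintro ⟨k, hk, rfl⟩
    have : g⁻¹ * ((MulAut.conj g).toMonoidHom k) * g = k := by
      simp [MulAut.conj_apply, mul_assoc]
    rw [this]
    exact hk
  · intro h
    refine ⟨g⁻¹ * y * g, h, ?_⟩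
    simp [MulAut.conj_apply, mul_assoc]

theorem conj_mem_map {G : Type*} [Group G] (K : Subgroup G) (g y : G) (hy : y ∈ K) :
    g * y * g⁻¹ ∈ K.map (MulAut.conj g).toMonoidHom := ⟨y, hy, by simp [MulAut.conj_apply]⟩

/-- elementwise TI property -/
theorem ti_elementwise {G : Type*} [Group G] (A : Subgroup G)
    (hTI : ∀ g : G, A.map (MulAut.conj g).toMonoidHom ⊓ A = ⊥ ∨ A.map (MulAut.conj g).toMonoidHom = A)
    (c : G) (y₀ : G) (hy₀ : y₀ ∈ A) (hne : y₀ ≠ 1) (hc : c * y₀ * c⁻¹ ∈ A) :
    ∀ y ∈ A, c * y * c⁻¹ ∈ A := by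
  intro y hy
  rcases hTI c with h | h
  · exfalso
    have hmem : c * y₀ * c⁻¹ ∈ A.map (MulAut.conj c).toMonoidHom ⊓ A :=
      ⟨conj_mem_map A c y₀ hy₀, hc⟩
    rw [h, Subgroup.mem_bot] at hmem
    apply hne
    have : y₀ = c⁻¹ * (c * y₀ * c⁻¹) * c := by group
    rw [this, hmem]; group
  · rw [← h]
    exact conj_mem_map A c y hy

/-- Let A be a nontrivial elementary abelian 2-subgroup of a finite group G which is a T.I. set (each conjugate of A meets A trivially or equals A) and which does not commute elementwise with any conjugate of A other than A itself. Then for every a ∈ A, a ≠ 1, every conjugate of A contained in C_G(a) is equal to A (A is weakly closed in C_G(a)). -/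
theorem result {G : Type*} [Group G] [Finite G] (A : Subgroup G) (hA : Cfsg.IsElementaryAbelian 2 A) (hA1 : A ≠ ⊥) (hTI : ∀ g : G, A.map (MulAut.conj g).toMonoidHom ⊓ A = ⊥ ∨ A.map (MulAut.conj g).toMonoidHom = A) (hb : ∀ g : G, (∀ a ∈ A, ∀ b ∈ A.map (MulAut.conj g).toMonoidHom, a * b = b * a) → A.map (MulAut.conj g).toMonoidHom = A) (a : G) (ha : a ∈ A) (ha1 : a ≠ 1) (g : G) (hg : A.map (MulAut.conj g).toMonoidHom ≤ Subgroup.centralizer ({a} : Set G)) : A.map (MulAut.conj g).toMonoidHom = A := by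
  classical
  set B := A.map (MulAut.conj g).toMonoidHom with hB
  -- Step 1: B normalizes A
  have step1 : ∀ b ∈ B, ∀ y ∈ A, b * y * b⁻¹ ∈ A := by
    intro b hbB
    have hcomm : a * b = b * a := by
      have := hg hbB
      rw [Subgroup.mem_centralizer_iff] at this
      exact this a (Set.mem_singleton a)
    apply ti_elementwise A hTI b a ha ha1
    have : b * a * b⁻¹ = a := by rw [← hcomm]; group
    rw [this]; exact ha
  -- cardinalities
  have hcard : Nat.card B = Nat.card A := by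
    rw [hB]
    exact Subgroup.card_map_of_injective (MulAut.conj g).injective
  -- Step 2: every x ∈ A is centralized by a nontrivial element of B
  have step2 : ∀ x ∈ A, ∃ b ∈ B, b ≠ 1 ∧ b * x * b⁻¹ = x := by
    intro x hx
    by_cases hx1 : x = 1
    · obtain ⟨y, hy, hy1⟩ : ∃ y ∈ A, y ≠ 1 := by
        by_contra hcon
        push Not at hcon
        apply hA1
        rw [eq_bot_iff]
        intro y hy
        rw [Subgroup.mem_bot]
        exact hcon y hy
      refine ⟨g * y * g⁻¹, conj_mem_map A g y hy, ?_, ?_⟩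
      · intro h
        apply hy1
        have : y = g⁻¹ * (g * y * g⁻¹) * g := by group
        rw [this, h]; group
      · rw [hx1]; group
    · -- the map b ↦ b x b⁻¹ from B to A is not injective
      let f : B → A := fun b => ⟨(b : G) * x * (b : G)⁻¹, step1 b b.2 x hx⟩
      have hninj : ¬ Function.Injective f := by
        intro hinj
        have hbij : Function.Bijective f :=
          (Nat.bijective_iff_injective_and_card f).mpr ⟨hinj, hcard⟩
        obtain ⟨b, hb1⟩ := hbij.2 1
        have : (b : G) * x * (b : G)⁻¹ = 1 := congrArg Subtype.val hb1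
        apply hx1
        have h2 : x = (b : G)⁻¹ * ((b : G) * x * (b : G)⁻¹) * (b : G) := by group
        rw [h2, this]; group
      unfold Function.Injective at hninj
      push Not at hninj
      obtain ⟨b₁, b₂, hf, hne⟩ := hninj
      have hf' : (b₁ : G) * x * (b₁ : G)⁻¹ = (b₂ : G) * x * (b₂ : G)⁻¹ := congrArg Subtype.val hf
      refine ⟨(b₂ : G)⁻¹ * (b₁ : G), B.mul_mem (B.inv_mem b₂.2) b₁.2, ?_, ?_⟩
      · intro h
        apply hne
        apply Subtype.ext
        have : (b₁ : G) = (b₂ : G) * ((b₂ : G)⁻¹ * (b₁ : G)) := by group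
        rw [this, h, mul_one]
      · calc (b₂ : G)⁻¹ * (b₁ : G) * x * ((b₂ : G)⁻¹ * (b₁ : G))⁻¹
            = (b₂ : G)⁻¹ * ((b₁ : G) * x * (b₁ : G)⁻¹) * (b₂ : G) := by group
          _ = (b₂ : G)⁻¹ * ((b₂ : G) * x * (b₂ : G)⁻¹) * (b₂ : G) := by rw [hf']
          _ = x := by group
  -- Step 3: A normalizes B
  have step3 : ∀ x ∈ A, ∀ b ∈ B, x * b * x⁻¹ ∈ B := by
    intro x hx b hbB
    obtain ⟨b₀, hb₀B, hb₀1, hb₀x⟩ := step2 x hx
    rw [hB, mem_map_conj'] at hbB hb₀B ⊢
    set c := g⁻¹ * x * g with hc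
    have e : g⁻¹ * (x * b * x⁻¹) * g = c * (g⁻¹ * b * g) * c⁻¹ := by rw [hc]; group
    rw [e]
    apply ti_elementwise A hTI c (g⁻¹ * b₀ * g) hb₀B
    · intro h
      apply hb₀1
      have : b₀ = g * (g⁻¹ * b₀ * g) * g⁻¹ := by group
      rw [this, h]; group
    · have hxb : x * b₀ * x⁻¹ = b₀ := by
        have : x * b₀ = b₀ * x := by
          calc x * b₀ = (b₀ * x * b₀⁻¹) * b₀ := by rw [hb₀x]
            _ = b₀ * x := by group
        rw [this]; group
      have e2 : c * (g⁻¹ * b₀ * g) * c⁻¹ = g⁻¹ * (x * b₀ * x⁻¹) * g := by rw [hc]; group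
      rw [e2, hxb]; exact hb₀B
    · exact hbB
  -- Step 4
  rcases hTI g with h | h
  · apply hb g
    intro x hx b hbB
    have hmem : x * b * x⁻¹ * b⁻¹ ∈ B ⊓ A := by
      constructor
      · exact B.mul_mem (step3 x hx b hbB) (B.inv_mem hbB)
      · have : x * b * x⁻¹ * b⁻¹ = x * (b * x⁻¹ * b⁻¹) := by group
        rw [this]
        exact A.mul_mem hx (step1 b hbB x⁻¹ (A.inv_mem hx))
    rw [h, Subgroup.mem_bot] at hmem
    calc x * b = (x * b * x⁻¹ * b⁻¹) * (b * x) := by group
      _ = b * x := by rw [hmem, one_mul]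
  · exact h

end Cfsg.Agent.S1177
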