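import Cfsg.Statements.S1178
import Mathlib.GroupTheory.Sylow
import Mathlib.Tactic.Group

set_option autoImplicit false
open Cfsg

namespace Cfsg.Agent.S1178

open scoped Pointwise in
/-- Let A be a subgroup of a Sylow 2-subgroup S of the finite group G which is weakly closed in S. If a conjugate g A g⁻¹ commutes elementwise with A, then g A g⁻¹ = A. -/
theorem result {G : Type*} [Group G] [Finite G] (S : Sylow 2 G) (A : Subgroup G) (hW : Cfsg.IsWeaklyClosed A (S : Subgroup G)) (g : G) (hc : ∀ a ∈ A, ∀ b ∈ A.map (MulAut.conj g).toMonoidHom, a * b = b * a) : A.map (MulAut.conj g).toMonoidHom = A := by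
  obtain ⟨hAS, hwc⟩ := hW
  have hA2 : IsPGroup 2 A := S.isPGroup'.to_le hAS
  have hB2 : IsPGroup 2 (A.map (MulAut.conj g).toMonoidHom) := hA2.map _
  have hnorm : A ≤ Subgroup.normalizer ((A.map (MulAut.conj g).toMonoidHom : Subgroup G) : Set G) := by
    refine le_trans ?_ (Subgroup.centralizer_le_normalizer _)
    intro a ha
    rw [Subgroup.mem_centralizer_iff]
    intro b hb
    exact (hc a ha b hb).symm
  have hsup : IsPGroup 2 (A ⊔ A.map (MulAut.conj g).toMonoidHom : Subgroup G) :=
    IsPGroup.to_sup_of_normal_right' hA2 hB2 hnorm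
  obtain ⟨Q, hQ⟩ := hsup.exists_le_sylow
  obtain ⟨c, hcQ⟩ := MulAction.exists_smul_eq G Q S
  -- conjugation by c maps Q into S
  have hcS : ∀ x ∈ (Q : Subgroup G), c * x * c⁻¹ ∈ (S : Subgroup G) := by
    intro x hx
    rw [← hcQ, Sylow.coe_subgroup_smul]
    have := Subgroup.smul_mem_pointwise_smul x (MulAut.conj c) (Q : Subgroup G) hx
    simpa [MulAut.smul_def] using this
  have h1 : A.map (MulAut.conj c).toMonoidHom = A := by
    apply hwc c
    rintro _ ⟨a, ha, rfl⟩
    exact hcS a (hQ (Subgroup.mem_sup_left ha))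
  have h2 : A.map (MulAut.conj (c * g)).toMonoidHom = A := by
    apply hwc (c * g)
    rintro _ ⟨a, ha, rfl⟩
    have hb : g * a * g⁻¹ ∈ A.map (MulAut.conj g).toMonoidHom := ⟨a, ha, rfl⟩
    have := hcS _ (hQ (Subgroup.mem_sup_right hb))
    have e : (MulAut.conj (c * g)).toMonoidHom a = c * (g * a * g⁻¹) * c⁻¹ := by
      simp [MulAut.conj_apply, mul_assoc]
    rw [e]; exact this
  have h3 : (A.map (MulAut.conj g).toMonoidHom).map (MulAut.conj c).toMonoidHom = A := by
    rw [Subgroup.map_map]
    have : (MulAut.conj c).toMonoidHom.comp (MulAut.conj g).toMonoidHom = (MulAut.conj (c * g)).toMonoidHom := by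
      ext x; simp [MulAut.conj_apply]
    rw [this, h2]
  have hinj : Function.Injective (MulAut.conj c).toMonoidHom := (MulAut.conj c).injective
  apply Subgroup.map_injective hinj
  rw [h3, h1]

end Cfsg.Agent.S1178
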