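import Cfsg.Statements.S1181
import Cfsg.Agent.Lib.Helper18.IsolatedInvolution
import Mathlib.GroupTheory.QuotientGroup.Basic

set_option autoImplicit false
open Cfsg
open Cfsg.Agent.Lib.Helper18

namespace Cfsg.Agent.S1181

/-- If the images of `z` and `u = g z g⁻¹` commute modulo `N`, then `z * u ∈ N`. -/
theorem mul_conj_mem {G : Type*} [Group G] [Finite G] (z : G) (hz : Cfsg.IsIsolatedInvolution z)
    (N : Subgroup G) [N.Normal] (g : G)
    (hc : Commute (QuotientGroup.mk z : G ⧸ N) (QuotientGroup.mk (g * z * g⁻¹) : G ⧸ N)) :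
    z * (g * z * g⁻¹) ∈ N := by
  have hzz := isolated_mul_self hz
  have huu := conj_mul_self hzz g
  obtain ⟨k, hk⟩ := isolated_odd_order hz g
  set t := z * (g * z * g⁻¹) with ht
  have h1 : ((QuotientGroup.mk (t * t) : G ⧸ N)) = 1 := by
    have hz1 : (QuotientGroup.mk z : G ⧸ N) * QuotientGroup.mk z = 1 := by
      rw [← QuotientGroup.mk_mul, hzz, QuotientGroup.mk_one]
    have hu1 : (QuotientGroup.mk (g * z * g⁻¹) : G ⧸ N) * QuotientGroup.mk (g * z * g⁻¹) = 1 := by
      rw [← QuotientGroup.mk_mul, huu, QuotientGroup.mk_one]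
    rw [ht, QuotientGroup.mk_mul, QuotientGroup.mk_mul]
    set a := (QuotientGroup.mk z : G ⧸ N)
    set b := (QuotientGroup.mk (g * z * g⁻¹) : G ⧸ N)
    calc a * b * (a * b) = a * (b * a) * b := by group
      _ = a * (a * b) * b := by rw [hc.eq]
      _ = (a * a) * (b * b) := by group
      _ = 1 := by rw [hz1, hu1, one_mul]
  have h2 : t * t ∈ N := (QuotientGroup.eq_one_iff _).mp h1
  have h3 : t = (t * t) ^ (k + 1) := by
    rw [← pow_two, ← pow_mul]
    have : 2 * (k + 1) = (2 * k + 1) + 1 := by ring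
    rw [this, pow_succ, ← hk, pow_orderOf_eq_one, one_mul]
  rw [h3]
  exact N.pow_mem h2 _

/-- Let z be an isolated involution of the finite group G and N a normal subgroup with z ∉ N. Then the centralizer of zN in G/N is the image of C_G(z), and zN is an isolated involution of G/N. -/
theorem result {G : Type*} [Group G] [Finite G] (z : G) (hz : Cfsg.IsIsolatedInvolution z) (N : Subgroup G) [N.Normal] (hzN : z ∉ N) : Subgroup.centralizer ({(QuotientGroup.mk z : G ⧸ N)} : Set (G ⧸ N)) = (Subgroup.centralizer ({z} : Set G)).map (QuotientGroup.mk' N) ∧ Cfsg.IsIsolatedInvolution (QuotientGroup.mk z : G ⧸ N) := by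
  have hzz := isolated_mul_self hz
  have hzinv : z⁻¹ = z := inv_eq_self_of_mul_self hzz
  constructor
  · apply le_antisymm
    · intro x hx
      obtain ⟨g, rfl⟩ := QuotientGroup.mk_surjective x
      rw [Subgroup.mem_centralizer_iff] at hx
      have hx1 := hx _ (Set.mem_singleton _)
      have hconj : (QuotientGroup.mk (g * z * g⁻¹) : G ⧸ N) = QuotientGroup.mk z := by
        rw [QuotientGroup.mk_mul, QuotientGroup.mk_mul, ← hx1, QuotientGroup.mk_inv]
        group
      have hc : Commute (QuotientGroup.mk z : G ⧸ N) (QuotientGroup.mk (g * z * g⁻¹) : G ⧸ N) := by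
        rw [hconj]
      have hmem := mul_conj_mem z hz N g hc
      obtain ⟨k, _, hk⟩ := isolated_conj_pow hz g
      set m := (z * (g * z * g⁻¹)) ^ k with hm
      have hmN : m ∈ N := N.pow_mem hmem k
      refine ⟨m⁻¹ * g, ?_, ?_⟩
      · rw [SetLike.mem_coe, Subgroup.mem_centralizer_iff]
        intro y hy
        rw [Set.mem_singleton_iff] at hy
        rw [hy]
        calc z * (m⁻¹ * g) = m⁻¹ * (m * z * m⁻¹) * g := by group
          _ = m⁻¹ * (g * z * g⁻¹) * g := by rw [hk]
          _ = m⁻¹ * g * z := by group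
      · rw [QuotientGroup.mk'_apply, QuotientGroup.mk_mul, QuotientGroup.mk_inv,
          (QuotientGroup.eq_one_iff m).mpr hmN, inv_one, one_mul]
    · rintro x ⟨c, hc, rfl⟩
      rw [SetLike.mem_coe, Subgroup.mem_centralizer_iff] at hc
      have h1 := hc z (Set.mem_singleton z)
      rw [Subgroup.mem_centralizer_iff]
      intro y hy
      rw [Set.mem_singleton_iff] at hy
      rw [hy, QuotientGroup.mk'_apply, ← QuotientGroup.mk_mul, ← QuotientGroup.mk_mul, h1]
  · refine ⟨?_, ?_⟩
    · apply orderOf_eq_prime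
      · rw [pow_two, ← QuotientGroup.mk_mul, hzz, QuotientGroup.mk_one]
      · intro h
        exact hzN ((QuotientGroup.eq_one_iff z).mp h)
    · intro x hx
      obtain ⟨g, rfl⟩ := QuotientGroup.mk_surjective x
      have e : (QuotientGroup.mk g : G ⧸ N) * QuotientGroup.mk z * (QuotientGroup.mk g)⁻¹
          = QuotientGroup.mk (g * z * g⁻¹) := by
        rw [QuotientGroup.mk_mul, QuotientGroup.mk_mul, QuotientGroup.mk_inv]
      rw [e] at hx ⊢
      have hmem := mul_conj_mem z hz N g hx
      have h1 : (QuotientGroup.mk z : G ⧸ N) * QuotientGroup.mk (g * z * g⁻¹) = 1 := by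
        rw [← QuotientGroup.mk_mul]
        exact (QuotientGroup.eq_one_iff _).mpr hmem
      have h2 : (QuotientGroup.mk (g * z * g⁻¹) : G ⧸ N) = (QuotientGroup.mk z)⁻¹ :=
        eq_inv_of_mul_eq_one_right h1
      rw [h2, ← QuotientGroup.mk_inv, hzinv]

end Cfsg.Agent.S1181
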