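import Cfsg.Statements.S1185
import Cfsg.Agent.Lib.Helper18.IsolatedInvolution

set_option autoImplicit false
open Cfsg
open Cfsg.Agent.Lib.Helper18

namespace Cfsg.Agent.S1185

theorem mem_cent_iff {G : Type*} [Group G] (z g k : G) :
    g⁻¹ * k ∈ Subgroup.centralizer ({z} : Set G) ↔ k * z * k⁻¹ = g * z * g⁻¹ := by
  rw [Subgroup.mem_centralizer_iff]
  constructor
  · intro h
    have h1 := h z (Set.mem_singleton z)
    calc k * z * k⁻¹ = g * ((g⁻¹ * k) * z) * k⁻¹ := by group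
      _ = g * (z * (g⁻¹ * k)) * k⁻¹ := by rw [h1]
      _ = g * z * g⁻¹ := by group
  · intro h y hy
    rw [Set.mem_singleton_iff] at hy
    rw [hy]
    calc z * (g⁻¹ * k) = g⁻¹ * (g * z * g⁻¹) * k := by group
      _ = g⁻¹ * (k * z * k⁻¹) * k := by rw [h]
      _ = g⁻¹ * k * z := by group

/-- Let z be an isolated involution of the finite group G with centralizer C. Then for every g ∈ G there is exactly one element k in the coset gC that has odd order and is inverted by z. -/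
theorem result {G : Type*} [Group G] [Finite G] (z : G) (hz : Cfsg.IsIsolatedInvolution z) (g : G) : ∃! k : G, (Odd (orderOf k) ∧ z * k * z⁻¹ = k⁻¹) ∧ g⁻¹ * k ∈ Subgroup.centralizer ({z} : Set G) := by
  have hzz := isolated_mul_self hz
  have hzinv : z⁻¹ = z := inv_eq_self_of_mul_self hzz
  have huu := conj_mul_self hzz g
  obtain ⟨k, hord, hk⟩ := isolated_conj_pow hz g
  refine ⟨(z * (g * z * g⁻¹)) ^ k, ⟨⟨?_, ?_⟩, ?_⟩, ?_⟩
  · have hodd : Odd (orderOf (z * (g * z * g⁻¹))) := ⟨k, hord⟩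
    exact Odd.of_dvd_nat hodd (orderOf_pow_dvd k)
  · exact conj_pow_left hzz huu k
  · rw [mem_cent_iff]; exact hk
  · rintro y ⟨⟨hyodd, hyinv⟩, hymem⟩
    rw [mem_cent_iff] at hymem
    -- squares: y * y = u * z
    have sq : ∀ w : G, z * w * z⁻¹ = w⁻¹ → w * z * w⁻¹ = g * z * g⁻¹ → w * w = g * z * g⁻¹ * z := by
      intro w hw1 hw2
      have h1 : z * w⁻¹ * z⁻¹ = w := by
        have : z * w⁻¹ * z⁻¹ = (z * w * z⁻¹)⁻¹ := by group
        rw [this, hw1, inv_inv]
      rw [← hw2]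
      calc w * w = w * (z * w⁻¹ * z⁻¹) := by rw [h1]
        _ = w * z * w⁻¹ * z := by rw [hzinv]; group
    have h1 := sq y hyinv hymem
    have h2 := sq ((z * (g * z * g⁻¹)) ^ k) (conj_pow_left hzz huu k) hk
    apply eq_of_sq_eq_of_odd hyodd
    · have hodd : Odd (orderOf (z * (g * z * g⁻¹))) := ⟨k, hord⟩
      exact Odd.of_dvd_nat hodd (orderOf_pow_dvd k)
    · rw [h1, h2]

end Cfsg.Agent.S1185
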