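import Cfsg.Statements.S1183
import Cfsg.Agent.S1182
import Cfsg.Agent.S1185
import Mathlib.GroupTheory.Transfer
import Mathlib.GroupTheory.Nilpotent
import Mathlib.GroupTheory.Solvable
import Mathlib.GroupTheory.Abelianization.Defs

set_option autoImplicit false
open Cfsg
open Cfsg.Agent.Lib.Helper18

namespace Cfsg.Agent.S1183

/-- The index of the centralizer of an isolated involution is odd. -/
theorem odd_index {G : Type*} [Group G] [Finite G] (z : G) (hz : Cfsg.IsIsolatedInvolution z) :
    Odd (Subgroup.centralizer ({z} : Set G)).index := by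
  classical
  set C := Subgroup.centralizer ({z} : Set G) with hC
  have hzz := isolated_mul_self hz
  have hP : IsPGroup 2 (Subgroup.zpowers z) := by
    apply IsPGroup.of_card (n := 1)
    rw [Nat.card_zpowers, hz.1, pow_one]
  have hfix : MulAction.fixedPoints (Subgroup.zpowers z) (G ⧸ C) = {(QuotientGroup.mk 1 : G ⧸ C)} := by
    ext q
    obtain ⟨g, rfl⟩ := QuotientGroup.mk_surjective q
    rw [MulAction.mem_fixedPoints, Set.mem_singleton_iff]
    constructor
    · intro h
      have h1 := h ⟨z, Subgroup.mem_zpowers z⟩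
      have h2 : (QuotientGroup.mk (z * g) : G ⧸ C) = QuotientGroup.mk g := h1
      rw [QuotientGroup.eq] at h2
      -- (z g)⁻¹ * g ∈ C
      have h3 : g⁻¹ * z * g ∈ C := by
        have : (z * g)⁻¹ * g = (g⁻¹ * z * g)⁻¹ := by
          rw [inv_eq_self_of_mul_self (show (g⁻¹ * z * g) * (g⁻¹ * z * g) = 1 by
            have := conj_mul_self hzz g⁻¹; simpa using this)]
          rw [mul_inv_rev, inv_eq_self_of_mul_self hzz]
        rw [this] at h2
        exact (Subgroup.inv_mem_iff C).mp h2
      rw [hC, Subgroup.mem_centralizer_iff] at h3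
      have h4 := h3 z (Set.mem_singleton z)
      have h5 : Commute z (g⁻¹ * z * g⁻¹⁻¹) := by rw [inv_inv]; exact h4
      have h6 := hz.2 g⁻¹ h5
      rw [inv_inv] at h6
      rw [QuotientGroup.eq, mul_one, Subgroup.inv_mem_iff, hC, Subgroup.mem_centralizer_iff]
      intro y hy
      rw [Set.mem_singleton_iff] at hy
      rw [hy]
      calc z * g = g * (g⁻¹ * z * g) := by group
        _ = g * z := by rw [h6]
    · intro h
      rintro ⟨y, hy⟩
      have h1 : g ∈ C := by
        have := QuotientGroup.eq.mp h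
        have h2 : g⁻¹ ∈ C := by simpa using this
        exact (Subgroup.inv_mem_iff C).mp h2
      have hyC : y ∈ C := by
        obtain ⟨k, rfl⟩ := Subgroup.mem_zpowers_iff.mp hy
        apply C.zpow_mem
        rw [hC, Subgroup.mem_centralizer_iff]
        intro w hw
        rw [Set.mem_singleton_iff] at hw
        rw [hw]
      show (QuotientGroup.mk (y * g) : G ⧸ C) = QuotientGroup.mk g
      rw [QuotientGroup.eq]
      have : (y * g)⁻¹ * g = g⁻¹ * y⁻¹ * g := by group
      rw [this]
      exact C.mul_mem (C.mul_mem (C.inv_mem h1) (C.inv_mem hyC)) h1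
  have hmod := hP.card_modEq_card_fixedPoints (G ⧸ C)
  rw [hfix, Nat.card_coe_set_eq, Set.ncard_singleton] at hmod
  rw [Subgroup.index, Nat.odd_iff]
  exact hmod

/-- Transfer into a commutative group from the centralizer of an isolated involution. -/
theorem transfer_eq_pow_index {G : Type*} [Group G] [Finite G] (z : G)
    (hz : Cfsg.IsIsolatedInvolution z) (C : Subgroup G)
    (hC : C = Subgroup.centralizer ({z} : Set G)) {A : Type*} [CommGroup A]
    (ϕ : C →* A) (c : C) :
    MonoidHom.transfer ϕ (c : G) = ϕ c ^ C.index := by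
  classical
  have : Fintype (Quotient (MulAction.orbitRel (Subgroup.zpowers (c : G)) (G ⧸ C))) :=
    Fintype.ofFinite _
  rw [Subgroup.index_eq_sum_minimalPeriod C (c : G), ← Finset.prod_pow_eq_pow_sum,
    MonoidHom.transfer_eq_prod_quotient_orbitRel_zpowers_quot]
  apply Finset.prod_congr rfl
  intro q _
  set m := Function.minimalPeriod (fun x : G ⧸ C => (c : G) • x) q.out with hm
  set g₀ := q.out.out with hg₀
  have hmem : g₀⁻¹ * (c : G) ^ m * g₀ ∈ C := QuotientGroup.out_conj_pow_minimalPeriod_mem C (c : G) q.out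
  have hcm : (c : G) ^ m ∈ C := C.pow_mem c.2 m
  have comm_of_mem : ∀ x ∈ C, Commute x z := by
    intro x hx
    rw [hC, Subgroup.mem_centralizer_iff] at hx
    exact (hx z (Set.mem_singleton z)).symm
  obtain ⟨c', _, hc'z, hc'⟩ := Cfsg.Agent.S1182.result z hz ⊤ (by rw [Subgroup.normalizer_eq_top]; exact Subgroup.mem_top z) ((c : G) ^ m)
    (g₀⁻¹ * (c : G) ^ m * g₀) (Subgroup.mem_top _) (Subgroup.mem_top _) (comm_of_mem _ hcm)
    (comm_of_mem _ hmem) g₀⁻¹ (Subgroup.mem_top _) (by rw [inv_inv])
  have hc'C : c' ∈ C := by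
    rw [hC, Subgroup.mem_centralizer_iff]
    intro y hy
    rw [Set.mem_singleton_iff] at hy
    rw [hy]; exact hc'z.eq.symm
  have e : (⟨g₀⁻¹ * (c : G) ^ m * g₀, hmem⟩ : C) = ⟨c', hc'C⟩ * c ^ m * ⟨c', hc'C⟩⁻¹ := by
    apply Subtype.ext
    simp only [Subgroup.coe_mul, Subgroup.coe_pow, Subgroup.coe_inv]
    exact hc'.symm
  rw [e, map_mul, map_mul, map_inv, map_pow]
  rw [mul_comm, ← mul_assoc, inv_mul_cancel, one_mul]

/-- Let z be an isolated involution of the finite group G and C = C_G(z). Then the subgroup of G generated by its elements of odd order is all of G if and only if the subgroup of C generated by its elements of odd order is all of C. -/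
theorem result {G : Type*} [Group G] [Finite G] (z : G) (hz : Cfsg.IsIsolatedInvolution z) : Cfsg.pResidual 2 G = ⊤ ↔ Cfsg.pResidual 2 ↥(Subgroup.centralizer ({z} : Set G)) = ⊤ := by
  classical
  set C := Subgroup.centralizer ({z} : Set G) with hC
  constructor
  · intro hG
    by_contra hCne
    set R := Cfsg.pResidual 2 C with hR
    -- R is normal
    haveI hRn : R.Normal := by
      rw [hR, Cfsg.pResidual]
      apply Subgroup.Normal.mk
      intro n hn g
      have : (MulAut.conj g) n ∈ Subgroup.closure {g : C | Nat.Coprime (orderOf g) 2} := by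
        have hmap : (Subgroup.closure {g : C | Nat.Coprime (orderOf g) 2}).map (MulAut.conj g).toMonoidHom
            ≤ Subgroup.closure {g : C | Nat.Coprime (orderOf g) 2} := by
          rw [MonoidHom.map_closure, Subgroup.closure_le]
          rintro _ ⟨x, hx, rfl⟩
          apply Subgroup.subset_closure
          show Nat.Coprime (orderOf ((MulAut.conj g) x)) 2
          rw [MulEquiv.orderOf_eq]
          exact hx
        exact hmap ⟨n, hn, rfl⟩
      simpa [MulAut.conj_apply] using this
    -- odd order elements of C lie in R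
    have hodd_mem : ∀ x : C, Nat.Coprime (orderOf x) 2 → x ∈ R := fun x hx =>
      Subgroup.subset_closure hx
    -- the quotient is a 2-group
    have hQ2 : IsPGroup 2 (C ⧸ R) := by
      intro q
      obtain ⟨x, rfl⟩ := QuotientGroup.mk_surjective q
      obtain ⟨k, m, hm, hkm⟩ := Nat.exists_eq_two_pow_mul_odd (orderOf_pos x).ne'
      refine ⟨k, ?_⟩
      rw [← QuotientGroup.mk_pow, QuotientGroup.eq_one_iff]
      apply hodd_mem
      have h1 : orderOf (x ^ 2 ^ k) = m := by
        rw [orderOf_pow' x (pow_ne_zero k two_ne_zero), hkm]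
        have : Nat.gcd (2 ^ k * m) (2 ^ k) = 2 ^ k := Nat.gcd_eq_right (dvd_mul_right _ _)
        rw [this, Nat.mul_div_cancel_left _ (pow_pos two_pos k)]
      rw [h1]
      exact (Nat.coprime_two_right).mpr hm  
    haveI : Nontrivial (C ⧸ R) := by
      rw [QuotientGroup.nontrivial_iff]
      exact hCne
    haveI : Fact (Nat.Prime 2) := ⟨Nat.prime_two⟩
    haveI : Group.IsNilpotent (C ⧸ R) := hQ2.isNilpotent
    have hcomm_lt : commutator (C ⧸ R) < ⊤ := Group.IsSolvable.commutator_lt_top_of_nontrivial (C ⧸ R)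
    -- the map ϕ
    let ϕ : C →* Abelianization (C ⧸ R) := (Abelianization.of).comp (QuotientGroup.mk' R)
    have hϕsurj : Function.Surjective ϕ := by
      intro a
      obtain ⟨q, rfl⟩ := QuotientGroup.mk_surjective a
      obtain ⟨x, rfl⟩ := QuotientGroup.mk_surjective q
      exact ⟨x, rfl⟩
    have hϕ2 : ∀ a : Abelianization (C ⧸ R), ∃ k : ℕ, a ^ 2 ^ k = 1 := by
      intro a
      obtain ⟨x, rfl⟩ := hϕsurj a
      obtain ⟨k, hk⟩ := hQ2 (QuotientGroup.mk x)
      refine ⟨k, ?_⟩
      rw [← map_pow]
      show Abelianization.of (QuotientGroup.mk' R (x ^ 2 ^ k)) = 1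
      rw [map_pow, QuotientGroup.mk'_apply, hk, map_one]
    -- nontrivial element of the abelianization
    obtain ⟨q₀, hq₀⟩ : ∃ q : C ⧸ R, q ∉ commutator (C ⧸ R) := by
      by_contra hcon
      push Not at hcon
      exact hcomm_lt.ne (eq_top_iff.mpr fun q _ => hcon q)
    obtain ⟨c, rfl⟩ := QuotientGroup.mk_surjective q₀
    have hϕc : ϕ c ≠ 1 := by
      intro h
      apply hq₀
      have : (QuotientGroup.mk (QuotientGroup.mk c : C ⧸ R) : Abelianization (C ⧸ R)) = 1 := h
      exact (QuotientGroup.eq_one_iff _).mp this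
    -- transfer
    set V : G →* Abelianization (C ⧸ R) := MonoidHom.transfer ϕ with hV
    have hVc : V (c : G) = ϕ c ^ C.index := transfer_eq_pow_index z hz C hC ϕ c
    have hVc1 : V (c : G) ≠ 1 := by
      intro h
      rw [hVc] at h
      obtain ⟨k, hk⟩ := hϕ2 (ϕ c)
      have hodd := odd_index z hz
      have hcop : Nat.Coprime (C.index) (2 ^ k) := by
        apply Nat.Coprime.pow_right
        exact (Nat.coprime_two_right).mpr hodd
      have h1 : orderOf (ϕ c) ∣ C.index := orderOf_dvd_of_pow_eq_one h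
      have h2 : orderOf (ϕ c) ∣ 2 ^ k := orderOf_dvd_of_pow_eq_one hk
      have h3 : orderOf (ϕ c) = 1 := Nat.eq_one_of_dvd_coprimes hcop h1 h2
      exact hϕc (orderOf_eq_one_iff.mp h3)
    -- but V kills every element of odd order, hence everything
    have hker : Cfsg.pResidual 2 G ≤ V.ker := by
      rw [Cfsg.pResidual, Subgroup.closure_le]
      intro g hg
      rw [SetLike.mem_coe, MonoidHom.mem_ker]
      obtain ⟨k, hk⟩ := hϕ2 (V g)
      have h1 : orderOf (V g) ∣ orderOf g := orderOf_map_dvd V g
      have h2 : orderOf (V g) ∣ 2 ^ k := orderOf_dvd_of_pow_eq_one hk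
      have hcop : Nat.Coprime (orderOf g) (2 ^ k) := Nat.Coprime.pow_right k hg
      exact orderOf_eq_one_iff.mp (Nat.eq_one_of_dvd_coprimes hcop h1 h2)
    rw [hG] at hker
    exact hVc1 (MonoidHom.mem_ker.mp (hker (Subgroup.mem_top _)))
  · intro hCtop
    rw [eq_top_iff]
    intro g _
    -- C ≤ pResidual 2 G
    have hCle : C ≤ Cfsg.pResidual 2 G := by
      have h1 : (Cfsg.pResidual 2 C).map C.subtype ≤ Cfsg.pResidual 2 G := by
        rw [Cfsg.pResidual, MonoidHom.map_closure, Subgroup.closure_le]
        rintro _ ⟨x, hx, rfl⟩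
        apply Subgroup.subset_closure
        show Nat.Coprime (orderOf (C.subtype x)) 2
        rw [Subgroup.coe_subtype, Subgroup.orderOf_coe]
        exact hx
      rw [hCtop] at h1
      intro x hx
      exact h1 ⟨⟨x, hx⟩, Subgroup.mem_top _, rfl⟩
    obtain ⟨k, ⟨⟨hkodd, _⟩, hkmem⟩, _⟩ := Cfsg.Agent.S1185.result z hz g
    have hk : k ∈ Cfsg.pResidual 2 G :=
      Subgroup.subset_closure ((Nat.coprime_two_right).mpr hkodd)
    have : g = k * (g⁻¹ * k)⁻¹ := by group
    rw [this]
    exact Subgroup.mul_mem _ hk (Subgroup.inv_mem _ (hCle hkmem))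

end Cfsg.Agent.S1183
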