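import Cfsg.Statements.S1184
import Cfsg.Agent.Lib.Helper18.IsolatedInvolution

set_option autoImplicit false
open Cfsg
open Cfsg.Agent.Lib.Helper18

namespace Cfsg.Agent.S1184

theorem comm_aux {G : Type*} [Group G] {s t : G} (hss : s * s = 1) (h : s * (s * t) = (s * t) * s) :
    s * t = t * s := by
  have h1 : t = s * t * s := by rw [← h, ← mul_assoc, hss, one_mul]
  have h2 : s * t = s * (s * t * s) := congrArg (fun y => s * y) h1
  calc s * t = s * (s * t * s) := h2
    _ = (s * s) * t * s := by simp only [mul_assoc]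
    _ = t * s := by rw [hss, one_mul]

/-- Let z be an isolated involution of the finite group G. If s and t are distinct conjugates of z, then st does not commute with z. -/
theorem result {G : Type*} [Group G] [Finite G] (z : G) (hz : Cfsg.IsIsolatedInvolution z) (g h : G) (hne : g * z * g⁻¹ ≠ h * z * h⁻¹) : ¬ Commute (g * z * g⁻¹ * (h * z * h⁻¹)) z := by
  intro hcomm
  have hzz := isolated_mul_self hz
  set s := g * z * g⁻¹ with hs
  set t := h * z * h⁻¹ with ht
  have hss : s * s = 1 := conj_mul_self hzz g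
  have htt : t * t = 1 := conj_mul_self hzz h
  have hsiso : Cfsg.IsIsolatedInvolution s := isolated_conj hz g
  -- s * t has odd order
  have hodd : Odd (orderOf (s * t)) := by
    have h1 := isolated_odd_order hsiso (h * g⁻¹)
    have h2 : (h * g⁻¹) * s * (h * g⁻¹)⁻¹ = t := by rw [hs, ht]; group
    rw [h2] at h1
    exact h1
  -- s inverts r = s * t
  have hsinv : s * (s * t) * s⁻¹ = (s * t)⁻¹ := conj_mul_left hss htt
  -- z * s inverts r
  have hzs : (z * s) * (s * t) * (z * s)⁻¹ = (s * t)⁻¹ := by
    calc (z * s) * (s * t) * (z * s)⁻¹ = z * (s * (s * t) * s⁻¹) * z⁻¹ := by group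
      _ = z * (s * t)⁻¹ * z⁻¹ := by rw [hsinv]
      _ = (z * (s * t) * z⁻¹)⁻¹ := by group
      _ = (s * t)⁻¹ := by
        have : z * (s * t) * z⁻¹ = s * t := by
          rw [← hcomm.eq]; group
        rw [this]
  obtain ⟨k, _, hk⟩ := isolated_conj_pow hz g
  -- x = (z s)^k conjugates z to s and r to r or r⁻¹
  have hx := pow_conj_of_inverts hzs k
  set x := (z * s) ^ k with hxdef
  -- s commutes with x r x⁻¹
  have hsc : Commute s (x * (s * t) * x⁻¹) := by
    have h1 : s = x * z * x⁻¹ := hk.symm
    have h2 : Commute (x * z * x⁻¹) (x * (s * t) * x⁻¹) := by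
      show x * z * x⁻¹ * (x * (s * t) * x⁻¹) = x * (s * t) * x⁻¹ * (x * z * x⁻¹)
      calc x * z * x⁻¹ * (x * (s * t) * x⁻¹) = x * (z * (s * t)) * x⁻¹ := by group
        _ = x * ((s * t) * z) * x⁻¹ := by rw [hcomm.eq]
        _ = x * (s * t) * x⁻¹ * (x * z * x⁻¹) := by group
    rw [← h1] at h2
    exact h2
  have hsr : Commute s (s * t) := by
    rcases hx with hx | hx
    · rw [hx] at hsc; exact hsc
    · rw [hx] at hsc; exact (Commute.inv_right_iff).mp hsc
  -- then s t = t s
  have hst : s * t = t * s := comm_aux hss hsr.eq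
  have hsq : (s * t) ^ 2 = 1 := by
    rw [pow_two]
    calc s * t * (s * t) = s * (t * s) * t := by group
      _ = s * (s * t) * t := by rw [hst]
      _ = (s * s) * (t * t) := by group
      _ = 1 := by rw [hss, htt, one_mul]
  have hdvd : orderOf (s * t) ∣ 2 := orderOf_dvd_of_pow_eq_one hsq
  have h1 : orderOf (s * t) = 1 := by
    rcases (Nat.dvd_prime Nat.prime_two).mp hdvd with h | h
    · exact h
    · rw [h] at hodd; exact absurd hodd (by decide)
  rw [orderOf_eq_one_iff] at h1
  apply hne
  -- s = t⁻¹ = t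
  have : s = t⁻¹ := eq_inv_of_mul_eq_one_left h1
  rw [this, inv_eq_self_of_mul_self htt]

end Cfsg.Agent.S1184
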