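import Cfsg.Statements.S1186
import Cfsg.Agent.S1180
import Cfsg.Agent.S1184
import Cfsg.Agent.S1185
import Mathlib.GroupTheory.Coset.Card
import Mathlib.SetTheory.Cardinal.Finite

set_option autoImplicit false
open Cfsg
open Cfsg.Agent.Lib.Helper18

namespace Cfsg.Agent.S1186

variable {G : Type*} [Group G]

theorem midpoint_aux {p q : G} (hpp : p * p = 1) (hqq : q * q = 1) (k : ℕ)
    (hconj : (p * q) ^ k * p * ((p * q) ^ k)⁻¹ = q) :
    ((∃ c, c * p * c⁻¹ = (p * q) ^ k * p) ∨ (∃ c, c * q * c⁻¹ = (p * q) ^ k * p)) ∧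
      ((p * q) ^ k * p) * p * ((p * q) ^ k * p)⁻¹ = q := by
  constructor
  · rcases Nat.even_or_odd' k with ⟨j, hj | hj⟩
    · left
      refine ⟨(p * q) ^ j, ?_⟩
      rw [pow_conj_left hpp hqq j, hj]
    · right
      refine ⟨(p * q) ^ (j + 1), ?_⟩
      rw [pow_conj_right hpp hqq (j + 1)]
      have h2 : p = (p * q) * q := by rw [mul_assoc, hqq, mul_one]
      have : 2 * (j + 1) = k + 1 := by omega
      rw [this, pow_succ, mul_assoc, ← h2]
  · calc (p * q) ^ k * p * p * ((p * q) ^ k * p)⁻¹ = (p * q) ^ k * p * ((p * q) ^ k)⁻¹ := by group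
      _ = q := hconj

/-- existence of midpoints in the class of an isolated involution -/
theorem midpoint_exists [Finite G] {z : G} (hz : Cfsg.IsIsolatedInvolution z) (p q : G)
    (hp : ∃ g, g * z * g⁻¹ = p) (hq : ∃ g, g * z * g⁻¹ = q) :
    ∃ m, (∃ g, g * z * g⁻¹ = m) ∧ m * p * m⁻¹ = q := by
  obtain ⟨a, rfl⟩ := hp
  obtain ⟨b, rfl⟩ := hq
  have hpiso := isolated_conj hz a
  have hpp := isolated_mul_self hpiso
  have hqq : (b * z * b⁻¹) * (b * z * b⁻¹) = 1 := conj_mul_self (isolated_mul_self hz) b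
  have hq' : (b * a⁻¹) * (a * z * a⁻¹) * (b * a⁻¹)⁻¹ = b * z * b⁻¹ := by group
  obtain ⟨k, hk, hconj⟩ := isolated_conj_pow hpiso (b * a⁻¹)
  rw [hq'] at hk hconj
  obtain ⟨hcases, hmid⟩ := midpoint_aux hpp hqq k hconj
  refine ⟨_, ?_, hmid⟩
  rcases hcases with ⟨c, hc⟩ | ⟨c, hc⟩
  · exact ⟨c * a, by rw [← hc]; group⟩
  · exact ⟨c * b, by rw [← hc]; group⟩

theorem comm_aux {p m m' : G} (hmm : m * m = 1) (hmm' : m' * m' = 1)
    (h : m * p * m = m' * p * m') : m * m' * p = p * (m * m') := by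
  have e1 : m * (m' * p * m') * m' = m * m' * p := by
    simp only [mul_assoc]; rw [hmm', mul_one]
  have e2 : m * (m * p * m) * m' = p * (m * m') := by
    simp only [mul_assoc]; rw [← mul_assoc m m, hmm, one_mul]
  rw [← e1, ← h, e2]

/-- uniqueness of midpoints -/
theorem midpoint_unique [Finite G] {z : G} (hz : Cfsg.IsIsolatedInvolution z) (p m m' : G)
    (hp : ∃ g, g * z * g⁻¹ = p) (hm : ∃ g, g * z * g⁻¹ = m) (hm' : ∃ g, g * z * g⁻¹ = m')
    (h : m * p * m⁻¹ = m' * p * m'⁻¹) : m = m' := by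
  obtain ⟨a, rfl⟩ := hp
  obtain ⟨g, rfl⟩ := hm
  obtain ⟨g', rfl⟩ := hm'
  by_contra hne
  have hpiso := isolated_conj hz a
  have e1 : (g * a⁻¹) * (a * z * a⁻¹) * (g * a⁻¹)⁻¹ = g * z * g⁻¹ := by group
  have e2 : (g' * a⁻¹) * (a * z * a⁻¹) * (g' * a⁻¹)⁻¹ = g' * z * g'⁻¹ := by group
  have hne' : (g * a⁻¹) * (a * z * a⁻¹) * (g * a⁻¹)⁻¹ ≠ (g' * a⁻¹) * (a * z * a⁻¹) * (g' * a⁻¹)⁻¹ := by
    rw [e1, e2]; exact hne
  have h1 := Cfsg.Agent.S1184.result (a * z * a⁻¹) hpiso (g * a⁻¹) (g' * a⁻¹) hne'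
  rw [e1, e2] at h1
  apply h1
  have hmm : (g * z * g⁻¹) * (g * z * g⁻¹) = 1 := conj_mul_self (isolated_mul_self hz) g
  have hmm' : (g' * z * g'⁻¹) * (g' * z * g'⁻¹) = 1 := conj_mul_self (isolated_mul_self hz) g'
  rw [inv_eq_self_of_mul_self hmm, inv_eq_self_of_mul_self hmm'] at h
  exact comm_aux hmm hmm' h

/-- The map `k ↦ k z k⁻¹` from `K` to the class of `z` is a bijection compatible with commuting
with an element `t` of `C(z)`. -/
theorem card_K_eq [Finite G] {z : G} (hz : Cfsg.IsIsolatedInvolution z) (t : G) (htz : Commute t z) :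
    Nat.card {k : G // Odd (orderOf k) ∧ z * k * z⁻¹ = k⁻¹ ∧ Commute k t}
      = Nat.card {u : G // (∃ g, g * z * g⁻¹ = u) ∧ Commute u t} := by
  have hzz := isolated_mul_self hz
  have hzinv : z⁻¹ = z := inv_eq_self_of_mul_self hzz
  -- k z k⁻¹ = k * k * z for k inverted by z
  have hsq : ∀ k : G, z * k * z⁻¹ = k⁻¹ → k * z * k⁻¹ = k * k * z := by
    intro k hk
    have h1 : z * k⁻¹ * z⁻¹ = k := by
      have : z * k⁻¹ * z⁻¹ = (z * k * z⁻¹)⁻¹ := by group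
      rw [this, hk, inv_inv]
    calc k * z * k⁻¹ = k * (z * k⁻¹ * z⁻¹) * z := by group
      _ = k * k * z := by rw [h1]
  let f : {k : G // Odd (orderOf k) ∧ z * k * z⁻¹ = k⁻¹ ∧ Commute k t} →
      {u : G // (∃ g, g * z * g⁻¹ = u) ∧ Commute u t} := fun k =>
    ⟨k.1 * z * k.1⁻¹, ⟨k.1, rfl⟩, by
      have h1 : Commute k.1 t := k.2.2.2
      exact (h1.mul_left htz.symm).mul_left h1.inv_left⟩
  apply Nat.card_congr (Equiv.ofBijective f ⟨?_, ?_⟩)
  · rintro ⟨k₁, hk₁o, hk₁i, hk₁c⟩ ⟨k₂, hk₂o, hk₂i, hk₂c⟩ hf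
    have hf' : k₁ * z * k₁⁻¹ = k₂ * z * k₂⁻¹ := congrArg Subtype.val hf
    apply Subtype.ext
    show k₁ = k₂
    obtain ⟨k, _, huniq⟩ := Cfsg.Agent.S1185.result z hz k₁
    have h1 := huniq k₁ ⟨⟨hk₁o, hk₁i⟩, by
      rw [Cfsg.Agent.S1185.mem_cent_iff]⟩
    have h2 := huniq k₂ ⟨⟨hk₂o, hk₂i⟩, by
      rw [Cfsg.Agent.S1185.mem_cent_iff]; exact hf'.symm⟩
    rw [h1, h2]
  · rintro ⟨u, ⟨g, hg⟩, hut⟩
    obtain ⟨k, ⟨⟨hko, hki⟩, hkmem⟩, _⟩ := Cfsg.Agent.S1185.result z hz g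
    rw [Cfsg.Agent.S1185.mem_cent_iff] at hkmem
    have hku : k * z * k⁻¹ = u := by rw [hkmem, hg]
    -- k commutes with t
    have hkk : Commute (k * k) t := by
      have h1 : k * k = u * z := by
        rw [← hku, hsq k hki, mul_assoc, hzz, mul_one]
      rw [h1]
      exact hut.mul_left htz.symm
    have hkt : Commute k t := by
      obtain ⟨n, hn⟩ := hko
      have h2 : k = (k * k) ^ (n + 1) := by
        rw [← pow_two, ← pow_mul]
        have : 2 * (n + 1) = (2 * n + 1) + 1 := by ring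
        rw [this, pow_succ, ← hn, pow_orderOf_eq_one, one_mul]
      rw [h2]
      exact hkk.pow_left _
    refine ⟨⟨k, hko, hki, hkt⟩, ?_⟩
    apply Subtype.ext
    exact hku

/-- `|G : C| = |K|`. -/
theorem card_quot_eq [Finite G] {z : G} (hz : Cfsg.IsIsolatedInvolution z) :
    Nat.card (G ⧸ Subgroup.centralizer ({z} : Set G))
      = Nat.card {k : G // Odd (orderOf k) ∧ z * k * z⁻¹ = k⁻¹} := by
  symm
  let f : {k : G // Odd (orderOf k) ∧ z * k * z⁻¹ = k⁻¹} → G ⧸ Subgroup.centralizer ({z} : Set G) :=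
    fun k => QuotientGroup.mk k.1
  apply Nat.card_congr (Equiv.ofBijective f ⟨?_, ?_⟩)
  · rintro ⟨k₁, hk₁⟩ ⟨k₂, hk₂⟩ hf
    have hf' : (QuotientGroup.mk k₁ : G ⧸ Subgroup.centralizer ({z} : Set G)) = QuotientGroup.mk k₂ := hf
    rw [QuotientGroup.eq] at hf'
    apply Subtype.ext
    show k₁ = k₂
    obtain ⟨k, _, huniq⟩ := Cfsg.Agent.S1185.result z hz k₁
    have h1 := huniq k₁ ⟨hk₁, by simp⟩
    have h2 := huniq k₂ ⟨hk₂, hf'⟩
    rw [h1, h2]
  · intro q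
    obtain ⟨g, rfl⟩ := QuotientGroup.mk_surjective q
    obtain ⟨k, ⟨hk, hkmem⟩, _⟩ := Cfsg.Agent.S1185.result z hz g
    refine ⟨⟨k, hk⟩, ?_⟩
    show (QuotientGroup.mk k : G ⧸ Subgroup.centralizer ({z} : Set G)) = QuotientGroup.mk g
    rw [QuotientGroup.eq]
    have : k⁻¹ * g = (g⁻¹ * k)⁻¹ := by group
    rw [this]
    exact Subgroup.inv_mem _ hkmem

/-- The class of `z` is in bijection with `Fix(s) × Fix(s z)`. -/
theorem card_class_eq [Finite G] {z : G} (hz : Cfsg.IsIsolatedInvolution z) (s : G)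
    (hss : s * s = 1) (hsz : Commute s z) :
    Nat.card {u : G // ∃ g, g * z * g⁻¹ = u}
      = Nat.card {u : G // (∃ g, g * z * g⁻¹ = u) ∧ Commute u s} *
        Nat.card {u : G // (∃ g, g * z * g⁻¹ = u) ∧ Commute u (s * z)} := by
  classical
  have hzz := isolated_mul_self hz
  have hzinv : z⁻¹ = z := inv_eq_self_of_mul_self hzz
  have hsinv : s⁻¹ = s := inv_eq_self_of_mul_self hss
  -- choice of conjugating elements in C(s)
  have hchoice : ∀ m : {u : G // (∃ g, g * z * g⁻¹ = u) ∧ Commute u s},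
      ∃ h : G, Commute h s ∧ h * z * h⁻¹ = m.1 := by
    rintro ⟨m, ⟨g, hg⟩, hms⟩
    have hzC : z ∈ Subgroup.centralizer ({s} : Set G) := by
      rw [Subgroup.mem_centralizer_iff]
      intro y hy; rw [Set.mem_singleton_iff] at hy; rw [hy]; exact hsz.eq
    have hmC : g * z * g⁻¹ ∈ Subgroup.centralizer ({s} : Set G) := by
      rw [Subgroup.mem_centralizer_iff]
      intro y hy; rw [Set.mem_singleton_iff] at hy; rw [hy, hg]; exact hms.eq.symm
    obtain ⟨h, hh, hconj⟩ := Cfsg.Agent.S1180.result z hz _ hzC g hmC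
    refine ⟨h, ?_, by rw [hconj, hg]⟩
    rw [Subgroup.mem_centralizer_iff] at hh
    exact (hh s (Set.mem_singleton s)).symm
  choose H hHs hHm using hchoice
  -- z v z⁻¹ = s v s⁻¹ iff v commutes with s z
  have hzv : ∀ v : G, Commute v (s * z) → z * v * z⁻¹ = s * v * s⁻¹ := by
    intro v hv
    have h1 : v * (s * z) = (s * z) * v := hv.eq
    calc z * v * z⁻¹ = s⁻¹ * ((s * z) * v) * z⁻¹ := by group
      _ = s⁻¹ * (v * (s * z)) * z⁻¹ := by rw [h1]
      _ = s⁻¹ * v * s := by group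
      _ = s * v * s⁻¹ := by rw [hsinv]
  have hzv' : ∀ v : G, z * v * z⁻¹ = s * v * s⁻¹ → Commute v (s * z) := by
    intro v hv
    show v * (s * z) = (s * z) * v
    calc v * (s * z) = s * (s⁻¹ * v * s) * z := by group
      _ = s * (s * v * s⁻¹) * z := by rw [hsinv]
      _ = s * (z * v * z⁻¹) * z := by rw [hv]
      _ = s * z * v := by group
  -- key fact
  have KF : ∀ (h m v : G), Commute h s → h * z * h⁻¹ = m → z * v * z⁻¹ = s * v * s⁻¹ →
      m * (h * v * h⁻¹) * m⁻¹ = s * (h * v * h⁻¹) * s⁻¹ := by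
    intro h m v hhs hm hv
    have h1 : h * s = s * h := hhs.eq
    have h2 : s⁻¹ * h⁻¹ = h⁻¹ * s⁻¹ := by
      have := congrArg (fun x => x⁻¹) h1
      simpa [mul_inv_rev] using this
    calc m * (h * v * h⁻¹) * m⁻¹ = h * (z * v * z⁻¹) * h⁻¹ := by rw [← hm]; group
      _ = h * (s * v * s⁻¹) * h⁻¹ := by rw [hv]
      _ = (h * s) * v * (s⁻¹ * h⁻¹) := by group
      _ = (s * h) * v * (h⁻¹ * s⁻¹) := by rw [h1, h2]
      _ = s * (h * v * h⁻¹) * s⁻¹ := by group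
  let Φ : {u : G // (∃ g, g * z * g⁻¹ = u) ∧ Commute u s} ×
      {u : G // (∃ g, g * z * g⁻¹ = u) ∧ Commute u (s * z)} → {u : G // ∃ g, g * z * g⁻¹ = u} :=
    fun mv => ⟨H mv.1 * mv.2.1 * (H mv.1)⁻¹, by
      obtain ⟨g, hg⟩ := mv.2.2.1
      exact ⟨H mv.1 * g, by rw [← hg]; group⟩⟩
  rw [← Nat.card_prod]
  symm
  apply Nat.card_congr (Equiv.ofBijective Φ ⟨?_, ?_⟩)
  · rintro ⟨m, v⟩ ⟨m', v'⟩ hΦ
    have hΦ' : H m * v.1 * (H m)⁻¹ = H m' * v'.1 * (H m')⁻¹ := congrArg Subtype.val hΦ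
    have k1 := KF (H m) m.1 v.1 (hHs m) (hHm m) (hzv v.1 v.2.2)
    have k2 := KF (H m') m'.1 v'.1 (hHs m') (hHm m') (hzv v'.1 v'.2.2)
    rw [← hΦ'] at k2
    have hmm' : m.1 = m'.1 := by
      apply midpoint_unique hz (H m * v.1 * (H m)⁻¹) m.1 m'.1 ?_ m.2.1 m'.2.1 (k1.trans k2.symm)
      obtain ⟨g, hg⟩ := v.2.1
      exact ⟨H m * g, by rw [← hg]; group⟩
    have hmeq : m = m' := Subtype.ext hmm'
    subst hmeq
    have hv : v.1 = v'.1 := by
      have := congrArg (fun x => (H m)⁻¹ * x * H m) hΦ'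
      simpa [mul_assoc] using this
    rw [Subtype.ext hv]
  · rintro ⟨ω, hω⟩
    have hω' : ∃ g, g * z * g⁻¹ = s * ω * s⁻¹ := by
      obtain ⟨g, hg⟩ := hω
      exact ⟨s * g, by rw [← hg]; group⟩
    obtain ⟨m, hmΩ, hmid⟩ := midpoint_exists hz ω (s * ω * s⁻¹) hω hω'
    have hmm : m * m = 1 := by
      obtain ⟨g, hg⟩ := hmΩ
      rw [← hg]; exact conj_mul_self hzz g
    have hminv : m⁻¹ = m := inv_eq_self_of_mul_self hmm
    -- s m s⁻¹ is also a midpoint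
    have hms : Commute m s := by
      have hsm : ∃ g, g * z * g⁻¹ = s * m * s⁻¹ := by
        obtain ⟨g, hg⟩ := hmΩ
        exact ⟨s * g, by rw [← hg]; group⟩
      have h2 : (s * m * s⁻¹) * ω * (s * m * s⁻¹)⁻¹ = m * ω * m⁻¹ := by
        have e1 : s⁻¹ * ω * s = m * ω * m⁻¹ := by rw [hmid, hsinv]
        calc (s * m * s⁻¹) * ω * (s * m * s⁻¹)⁻¹ = s * m * (s⁻¹ * ω * s) * m⁻¹ * s⁻¹ := by group
          _ = s * m * (m * ω * m⁻¹) * m⁻¹ * s⁻¹ := by rw [e1]
          _ = s * (m * m) * ω * (m * m)⁻¹ * s⁻¹ := by group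
          _ = s * ω * s⁻¹ := by rw [hmm]; group
          _ = m * ω * m⁻¹ := hmid.symm
      have h3 := midpoint_unique hz ω (s * m * s⁻¹) m hω hsm hmΩ h2
      show m * s = s * m
      calc m * s = (s * m * s⁻¹) * s := by rw [h3]
        _ = s * m := by group
    let m' : {u : G // (∃ g, g * z * g⁻¹ = u) ∧ Commute u s} := ⟨m, hmΩ, hms⟩
    have hh1 : Commute (H m') s := hHs m'
    have hh2 : H m' * z * (H m')⁻¹ = m := hHm m'
    have hvΩ : ∃ g, g * z * g⁻¹ = (H m')⁻¹ * ω * H m' := by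
      obtain ⟨g, hg⟩ := hω
      exact ⟨(H m')⁻¹ * g, by rw [← hg]; group⟩
    have hvc : Commute ((H m')⁻¹ * ω * H m') (s * z) := by
      apply hzv'
      have h1 : H m' * s = s * H m' := hh1.eq
      have h2 : s⁻¹ * (H m')⁻¹ = (H m')⁻¹ * s⁻¹ := by
        have := congrArg (fun x => x⁻¹) h1
        simpa [mul_inv_rev] using this
      have h3 : (H m')⁻¹ * s = s * (H m')⁻¹ := by
        calc (H m')⁻¹ * s = (H m')⁻¹ * (s * H m') * (H m')⁻¹ := by group
          _ = (H m')⁻¹ * (H m' * s) * (H m')⁻¹ := by rw [h1]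
          _ = s * (H m')⁻¹ := by group
      calc z * ((H m')⁻¹ * ω * H m') * z⁻¹
          = (H m')⁻¹ * ((H m' * z * (H m')⁻¹) * ω * (H m' * z * (H m')⁻¹)⁻¹) * H m' := by group
        _ = (H m')⁻¹ * (m * ω * m⁻¹) * H m' := by rw [hh2]
        _ = (H m')⁻¹ * (s * ω * s⁻¹) * H m' := by rw [hmid]
        _ = ((H m')⁻¹ * s) * ω * (s⁻¹ * H m') := by group
        _ = (s * (H m')⁻¹) * ω * (s⁻¹ * H m') := by rw [h3]
        _ = s * (H m')⁻¹ * ω * (s⁻¹ * H m') := by group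
        _ = s * ((H m')⁻¹ * ω * H m') * s⁻¹ := by
          have h4 : s⁻¹ * H m' = H m' * s⁻¹ := by
            rw [hsinv]; exact h1.symm
          rw [h4]; group
    refine ⟨(m', ⟨(H m')⁻¹ * ω * H m', hvΩ, hvc⟩), ?_⟩
    apply Subtype.ext
    show H m' * ((H m')⁻¹ * ω * H m') * (H m')⁻¹ = ω
    group

/-- Let z be an isolated involution of the finite group G, C = C_G(z), K the set of elements of odd order inverted by z, and s an involution of C. Then |G| = |C| · |C_K(sz)| · |C_K(s)|. -/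
theorem result {G : Type*} [Group G] [Finite G] (z : G) (hz : Cfsg.IsIsolatedInvolution z) (s : G) (hs : orderOf s = 2) (hsz : Commute s z) : Nat.card G = Nat.card (Subgroup.centralizer ({z} : Set G)) * Nat.card {k : G // Odd (orderOf k) ∧ z * k * z⁻¹ = k⁻¹ ∧ Commute k (s * z)} * Nat.card {k : G // Odd (orderOf k) ∧ z * k * z⁻¹ = k⁻¹ ∧ Commute k s} := by
  have hss := mul_self_of_orderOf_two hs
  have hzz := isolated_mul_self hz
  have h1 := Subgroup.card_eq_card_quotient_mul_card_subgroup (Subgroup.centralizer ({z} : Set G))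
  have h2 := card_quot_eq hz
  have h3 : Nat.card {k : G // Odd (orderOf k) ∧ z * k * z⁻¹ = k⁻¹}
      = Nat.card {k : G // Odd (orderOf k) ∧ z * k * z⁻¹ = k⁻¹ ∧ Commute k 1} :=
    Nat.card_congr (Equiv.subtypeEquivRight (fun k => by simp))
  have h4 := card_K_eq hz 1 (Commute.one_left z)
  have h5 : Nat.card {u : G // (∃ g, g * z * g⁻¹ = u) ∧ Commute u 1}
      = Nat.card {u : G // ∃ g, g * z * g⁻¹ = u} :=
    Nat.card_congr (Equiv.subtypeEquivRight (fun k => by simp))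
  have h6 := card_class_eq hz s hss hsz
  have h7 := card_K_eq hz s hsz
  have h8 := card_K_eq hz (s * z) (by
    show s * z * z = z * (s * z)
    rw [← mul_assoc, hsz.eq])
  rw [h1, h2, h3, h4, h5, h6, h7, h8]
  ring

end Cfsg.Agent.S1186
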