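import Mathlib
import Cfsg.Statements.S1192
import Cfsg.Agent.Lib.Helper12.QD
-- import your own Cfsg.Agent.* helpers here

set_option autoImplicit false
open Cfsg

namespace Cfsg.Agent.S1192

open Cfsg.Agent.Lib.Helper12.QD

/-- A quasi-dihedral group S of order 2^(n+1) has exactly three maximal subgroups; one is cyclic, one is isomorphic to the generalized quaternion group of order 2^n and one to the dihedral group of order 2^n. -/
theorem result {S : Type*} [Group S] [Finite S] (hS : Cfsg.IsQuasiDihedral S) (n : ℕ) (hn : Nat.card S = 2 ^ (n + 1)) : ∃ M₁ M₂ M₃ : Subgroup S, IsCoatom M₁ ∧ IsCoatom M₂ ∧ IsCoatom M₃ ∧ M₁ ≠ M₂ ∧ M₁ ≠ M₃ ∧ M₂ ≠ M₃ ∧ (∀ M : Subgroup S, IsCoatom M → M = M₁ ∨ M = M₂ ∨ M = M₃) ∧ IsCyclic M₁ ∧ Nonempty (M₂ ≃* QuaternionGroup (2 ^ (n - 2))) ∧ Nonempty (M₃ ≃* DihedralGroup (2 ^ (n - 1))) := by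
  obtain ⟨D⟩ := exists_data hS
  have hnD : n = D.n := by
    have := D.card
    rw [hn] at this
    have := Nat.pow_right_injective (le_refl 2) this
    omega
  subst hnD
  have hx_dih : D.x ∉ D.dih := by
    rw [D.x_eq, D.px_mem_dih, map_one]
    decide
  have hx_quat : D.x ∉ D.quat := by
    rw [D.x_eq, D.px_mem_quat, map_one]
    decide
  have hy_dih : D.y ∈ D.dih := by
    have := (D.pxy_mem_dih 0).mpr (map_zero _)
    rwa [D.px_zero, one_mul] at this
  have hy_quat : D.y ∉ D.quat := by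
    have := (D.pxy_mem_quat 0)
    rw [D.px_zero, one_mul, map_zero] at this
    rw [this]
    decide
  refine ⟨Subgroup.zpowers D.x, D.quat, D.dih,
    Cfsg.Agent.Lib.Helper2.isCoatom_of_index_eq_prime Nat.prime_two D.index_zpowers,
    Cfsg.Agent.Lib.Helper2.isCoatom_of_index_eq_prime Nat.prime_two D.index_quat,
    Cfsg.Agent.Lib.Helper2.isCoatom_of_index_eq_prime Nat.prime_two D.index_dih,
    ?_, ?_, ?_, D.coatom_cases, inferInstance, D.quat_iso, D.dih_iso⟩
  · intro h
    apply hx_quat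
    rw [← h]
    exact Subgroup.mem_zpowers _
  · intro h
    apply hx_dih
    rw [← h]
    exact Subgroup.mem_zpowers _
  · intro h
    apply hy_quat
    rw [h]
    exact hy_dih

end Cfsg.Agent.S1192
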