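import Mathlib
import Cfsg.Statements.S1194
import Cfsg.Agent.Lib.Helper18.QuasiDihedral

set_option autoImplicit false
open Cfsg

namespace Cfsg.Agent.S1194

open Cfsg.Agent.Lib.Helper18

/-- In a quasi-dihedral 2-group S, every proper normal subgroup is either a maximal subgroup or a cyclic subgroup contained in the derived subgroup S'. -/
theorem result {S : Type*} [Group S] [Finite S] (hS : Cfsg.IsQuasiDihedral S) (N : Subgroup S) [N.Normal] (hN : N ≠ ⊤) : IsCoatom N ∨ (IsCyclic N ∧ N ≤ commutator S) := by
  obtain ⟨n, x, y, h⟩ := isQuasiDihedral_iff.mp hS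
  by_cases hle : N ≤ Subgroup.zpowers x
  · -- N is cyclic
    by_cases hxN : x ∈ N
    · left
      have : N = Subgroup.zpowers x := le_antisymm hle (by rw [Subgroup.zpowers_le]; exact hxN)
      rw [this]
      exact QD.isCoatom_of_index_two h.index_zpowers
    · right
      constructor
      · have : IsCyclic (N.subgroupOf (Subgroup.zpowers x)) := inferInstance
        exact (Subgroup.subgroupOfEquivOfLe hle).isCyclic.mp this
      · rw [h.commutator_eq]
        intro g hg
        obtain ⟨i, rfl⟩ := Subgroup.mem_zpowers_iff.mp (hle hg)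
        rw [QD.mem_A_iff]
        rcases Int.even_or_odd i with ⟨k, hk⟩ | ⟨k, hk⟩
        · exact ⟨k, by rw [hk]; congr 1; ring⟩
        · exfalso
          apply hxN
          -- x = (x^i)^m for suitable m since i odd is invertible mod 2^n
          have hcop : IsCoprime i ((2 : ℤ) ^ n) := by
            apply IsCoprime.pow_right
            rw [hk]
            exact ⟨1, -k, by ring⟩
          obtain ⟨a, b, hab⟩ := hcop
          have : x = (x ^ i) ^ a := by
            rw [← zpow_mul]
            have h1 : x = x ^ (1 : ℤ) := (zpow_one x).symm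
            nth_rewrite 1 [h1]
            rw [h.zpow_eq_iff]
            exact ⟨b, by linarith⟩
          rw [this]
          exact N.zpow_mem hg a
  · left
    -- N contains some x^i y
    have hex : ∃ i : ℤ, x ^ i * y ∈ N := by
      by_contra hcon
      push Not at hcon
      apply hle
      intro g hg
      rcases h.cases g with ⟨i, rfl⟩ | ⟨i, rfl⟩
      · exact Subgroup.zpow_mem_zpowers x i
      · exact absurd hg (hcon i)
    obtain ⟨i, hi⟩ := hex
    -- the commutator [x, x^i y] = x^(1-u) lies in N
    have hc : x ^ (1 - QD.u n) ∈ N := by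
      have h1 : x * (x ^ i * y) * x⁻¹ ∈ N := ‹N.Normal›.conj_mem _ hi x
      have h2 : x * (x ^ i * y) * x⁻¹ * (x ^ i * y)⁻¹ ∈ N := N.mul_mem h1 (N.inv_mem hi)
      have h3 : x * (x ^ i * y) * x⁻¹ * (x ^ i * y)⁻¹ = x ^ (1 - QD.u n) := by
        have e1 : x * (x ^ i * y) * x⁻¹ = x ^ (1 + i - QD.u n) * y := by
          have : x * (x ^ i * y) * x⁻¹ = x ^ (1 : ℤ) * ((x ^ i * y) * x ^ (-1 : ℤ)) := by
            rw [zpow_one, zpow_neg_one]; group
          rw [this, h.xy_mul_x, QD.x_mul_xy]
          congr 2; ring
        rw [e1, h.xy_inv, h.xy_mul_xy, h.zpow_eq_iff]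
        obtain ⟨c, hc⟩ := h.u_sq
        refine ⟨-(c * i), ?_⟩
        have : 1 + i - QD.u n + QD.u n * -(QD.u n * i) - (1 - QD.u n) = -((QD.u n * QD.u n - 1) * i) := by ring
        rw [this, hc]; ring
      rw [h3] at h2; exact h2
    have hx2 : x ^ (2 : ℤ) ∈ N := by
      have h3 : x ^ (2 : ℤ) = (x ^ (1 - QD.u n)) ^ (1 + (2 : ℤ) ^ (n - 2)) := by
        rw [← zpow_mul, h.zpow_eq_iff]
        have e1 := h.two_pow_pred
        have e2 := h.two_pow_pred2
        have e3 := h.two_pow_pred3
        refine ⟨2 ^ (n - 3), ?_⟩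
        rw [QD.u, e1, e2, e3]
        ring
      rw [h3]
      exact N.zpow_mem hc _
    have hA : QD.A x ≤ N := by
      rw [QD.A, Subgroup.zpowers_le]; exact hx2
    -- index of N
    have h1 := Subgroup.relIndex_mul_index hA
    rw [h.index_A] at h1
    have h2 : N.index ≠ 1 := by
      rw [Ne, Subgroup.index_eq_one]; exact hN
    have h3 : (QD.A x).relIndex N ≠ 1 := by
      rw [Ne, Subgroup.relIndex_eq_one]
      intro h4
      exact h.xy_not_mem_A i (h4 hi)
    have h4 : N.index ∣ 4 := ⟨_, by rw [mul_comm]; exact h1.symm⟩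
    have h5 : N.index ≤ 4 := Nat.le_of_dvd (by norm_num) h4
    have h6 : N.index = 2 := by
      interval_cases hk : N.index
      · omega
      · omega
      · rfl
      · omega
      · exfalso; apply h3; omega
    exact QD.isCoatom_of_index_two h6

end Cfsg.Agent.S1194
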