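import Cfsg.Statements.S1202
import Cfsg.Agent.Lib.Helper23.WreathedAut

set_option autoImplicit false
open Cfsg

namespace Cfsg.Agent.S1202

/-- Let S be a wreathed 2-group of order 2^(2n+1) and X a subgroup with C_S(X) ≤ X such that Aut(X) is not a 2-group. Then |N_S(X) : X| = 2, and either X is the commutative subgroup of order 2^(2n), or X = Q·Z(S) for some subgroup Q ≅ Q₈; in the latter case any two such subgroups are conjugate in S. -/
theorem result {S : Type*} [Group S] [Finite S] (hS : Cfsg.IsWreathed S) (n : ℕ) (hn : Nat.card S = 2 ^ (2 * n + 1)) (X : Subgroup S) (hC : Subgroup.centralizer (X : Set S) ≤ X) (hA : ¬ IsPGroup 2 (MulAut X)) : X.relIndex (Subgroup.normalizer (X : Set S)) = 2 ∧ ((IsMulCommutative X ∧ Nat.card X = 2 ^ (2 * n)) ∨ ∃ Q : Subgroup S, Nonempty (Q ≃* QuaternionGroup 2) ∧ X = Q ⊔ Subgroup.center S) ∧ ∀ X' : Subgroup S, Subgroup.centralizer (X' : Set S) ≤ X' → ¬ IsPGroup 2 (MulAut X') → ¬ IsMulCommutative X → ¬ IsMulCommutative X' → ∃ s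 : S, X.map (MulAut.conj s).toMonoidHom = X' := by
  obtain ⟨D⟩ := Cfsg.Agent.Lib.Helper12.Wr.exists_data hS
  have hnD : n = D.n := by
    have h1 := D.card
    rw [hn] at h1
    have := Nat.pow_right_injective (le_refl 2) h1
    omega
  subst hnD
  have hcl := Cfsg.Agent.Lib.Helper23.WrAut.classify D X hC hA
  have key : ∀ X' : Subgroup S, Subgroup.centralizer (X' : Set S) ≤ X' → ¬ IsPGroup 2 (MulAut X') →
      ¬ IsMulCommutative X' → ∃ r, X' = Cfsg.Agent.Lib.Helper23.WrAut.Vr D r := by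
    intro X' hC' hA' hnc
    rcases Cfsg.Agent.Lib.Helper23.WrAut.classify D X' hC' hA' with h | h
    · exfalso
      apply hnc
      rw [h]
      exact Cfsg.Agent.Lib.Helper23.WrAut.A_isMulCommutative D
    · exact h
  refine ⟨?_, ?_, ?_⟩
  · rcases hcl with h | ⟨r, h⟩
    · rw [h]
      haveI := D.A_normal
      rw [Subgroup.normalizer_eq_top, Subgroup.relIndex_top_right]
      exact D.index_A
    · rw [h]
      exact Cfsg.Agent.Lib.Helper23.WrAut.relIndex_normalizer_Vr D r
  · rcases hcl with h | ⟨r, h⟩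
    · left
      rw [h]
      exact ⟨Cfsg.Agent.Lib.Helper23.WrAut.A_isMulCommutative D, D.card_A⟩
    · right
      rw [h]
      exact Cfsg.Agent.Lib.Helper23.WrAut.exists_quat_of_Vr D r
  · intro X' hC' hA' hnc hnc'
    obtain ⟨r, hr⟩ := key X hC hA hnc
    obtain ⟨r', hr'⟩ := key X' hC' hA' hnc'
    rw [hr, hr']
    exact Cfsg.Agent.Lib.Helper23.WrAut.Vr_conj D r r'

end Cfsg.Agent.S1202
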