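import Mathlib
import Cfsg.Statements.S1204
import Cfsg.Agent.Lib.Helper23.QDFusion

set_option autoImplicit false
open Cfsg

namespace Cfsg.Agent.S1204

open Cfsg.Agent.Lib.Helper23.QDFusion Cfsg.Agent.Lib.Helper23.FusionTools
  Cfsg.Agent.Lib.Helper12.QD

/-- Let G be a finite group with quasi-dihedral Sylow 2-subgroup S, T a Klein four-subgroup and Q a quaternion subgroup of order 8 of S, with |N_G(T) : C_G(T)| = 6 and |N_G(Q) : Q C_G(Q)| = 6. Then G has no subgroup of index 2, exactly one conjugacy class of involutions and exactly one conjugacy class of elements of order 4. -/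
theorem result {G : Type*} [Group G] [Finite G] (S : Sylow 2 G) (hS : Cfsg.IsQuasiDihedral (S : Subgroup G)) (T : Subgroup G) (hT : IsKleinFour T) (hTS : T ≤ S) (Q : Subgroup G) (hQS : Q ≤ S) (eQ : Q ≃* QuaternionGroup 2) (h₁ : (Subgroup.centralizer (T : Set G)).relIndex (Subgroup.normalizer (T : Set G)) = 6) (h₂ : (Q ⊔ Subgroup.centralizer (Q : Set G)).relIndex (Subgroup.normalizer (Q : Set G)) = 6) : (∀ H : Subgroup G, H.index ≠ 2) ∧ Nat.card {C : ConjClasses G // ∃ t : G, orderOf t = 2 ∧ ConjClasses.mk t = C} = 1 ∧ Nat.card {C : ConjClasses G // ∃ t : G, orderOf t = 4 ∧ ConjClasses.mk t = C} = 1 := by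
  obtain ⟨D⟩ := exists_data hS
  obtain ⟨g₁, hg₁⟩ := fuse_z S D hS T hTS h₁
  obtain ⟨g₂, hg₂⟩ := fuse_v S D Q hQS eQ h₂
  refine ⟨?_, ?_, ?_⟩
  · intro H hH
    have e1 := index_two_of_fuse_z S D H hH g₁ hg₁
    have e2 := index_two_of_fuse_v S D H hH g₂ hg₂
    exact dih_ne_quat S D (e1.symm.trans e2)
  · apply card_classes_eq_one 2 (zG D) (orderOf_zG D)
    intro t ht
    rcases invol_conj S D t ht with h | h
    · exact h
    · exact h.trans (isConj_iff.mpr ⟨g₁, hg₁⟩).symm
  · apply card_classes_eq_one 4 (vG D) (orderOf_vG D)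
    intro t ht
    rcases order4_conj S D t ht with h | h
    · exact h
    · exact h.trans (isConj_iff.mpr ⟨g₂, hg₂⟩).symm

end Cfsg.Agent.S1204
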