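import Mathlib
import Cfsg.Statements.S1205
import Cfsg.Agent.Lib.Helper23.QDFusion
import Cfsg.Agent.Lib.Helper16.SylowNormal

set_option autoImplicit false
open Cfsg

namespace Cfsg.Agent.S1205

open Cfsg.Agent.Lib.Helper23.QDFusion Cfsg.Agent.Lib.Helper23.FusionTools
  Cfsg.Agent.Lib.Helper12.QD Cfsg.Agent.Lib.Helper23.ThreePoint

/-- Let G be a finite group with quasi-dihedral Sylow 2-subgroup S, T a Klein four-subgroup and Q a quaternion subgroup of order 8 of S, with |N_G(T) : C_G(T)| = 2 and |N_G(Q) : Q C_G(Q)| = 6. Then G has a normal subgroup K of index 2 whose Sylow 2-subgroups are generalized quaternion and which has no subgroup of index 2; the centre of S is weakly closed in S; and G has exactly two classes of involutions and one class of elements of order 4. -/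
theorem result {G : Type*} [Group G] [Finite G] (S : Sylow 2 G) (hS : Cfsg.IsQuasiDihedral (S : Subgroup G)) (T : Subgroup G) (hT : IsKleinFour T) (hTS : T ≤ S) (Q : Subgroup G) (hQS : Q ≤ S) (eQ : Q ≃* QuaternionGroup 2) (h₁ : (Subgroup.centralizer (T : Set G)).relIndex (Subgroup.normalizer (T : Set G)) = 2) (h₂ : (Q ⊔ Subgroup.centralizer (Q : Set G)).relIndex (Subgroup.normalizer (Q : Set G)) = 6) : (∃ K : Subgroup G, K.Normal ∧ K.index = 2 ∧ (∀ P : Sylow 2 ↥K, ∃ m : ℕ, 1 ≤ m ∧ Nonempty ((P : Subgroup ↥K) ≃* QuaternionGroup (2 ^ m))) ∧ (∀ H : Subgroup ↥K, H.index ≠ 2)) ∧ Cfsg.IsWeaklyClosed ((Subgroup.center (S : Subgroup G)).map (S : Subgroup G).subtype) (S : Subgroup G) ∧ Nat.card {C : ConjClasses G // ∃ t : G, orderOf t = 2 ∧ ConjClasses.mk t = C} = 2 ∧ Nat.card {C : ConjClasses G // ∃ t : G, orderOf t = 4 ∧ ConjClasses.mk t = C} = 1 := by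
  have : Fact (Nat.Prime 2) := ⟨Nat.prime_two⟩
  obtain ⟨D⟩ := exists_data hS
  obtain ⟨g₂, hg₂⟩ := fuse_v S D Q hQS eQ h₂
  refine ⟨?_, ?_, ?_, ?_⟩
  · obtain ⟨K, hKn, hKi, hyK⟩ := exists_K_of_klein_two S D hS T hTS h₁
    have hKS : K.subgroupOf (S : Subgroup G) = D.quat := index_two_of_fuse_v S D K hKi g₂ hg₂
    obtain ⟨P₀, hP₀⟩ := Cfsg.Agent.Lib.Helper16.exists_sylow_subgroupOf_normal S K
    refine ⟨K, hKn, hKi, ?_, ?_⟩
    · intro P
      obtain ⟨e⟩ := D.quat_iso
      refine ⟨D.n - 2, by have := D.hn; omega, ⟨?_⟩⟩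
      exact (Sylow.equiv P P₀).trans ((MulEquiv.subgroupCongr hP₀).trans
        ((subgroupOfSwap (S : Subgroup G) K).trans ((MulEquiv.subgroupCongr hKS).trans e)))
    · intro H hH
      obtain ⟨a, b, hab⟩ := exists_q8Data Q eQ
      have hSK : ((S : Subgroup G) ⊓ K : Subgroup G) ≤ quatG D := by
        intro g hg
        have : (⟨g, hg.1⟩ : ↥(S : Subgroup G)) ∈ K.subgroupOf (S : Subgroup G) := by
          rw [Subgroup.mem_subgroupOf]; exact hg.2
        rw [hKS] at this
        rw [quatG, mem_map_subtype_iff _ _ hg.1]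
        exact this
      have hquatK : quatG D ≤ K := by
        intro g hg
        have hgS := quatG_le D hg
        rw [quatG, mem_map_subtype_iff _ _ hgS, ← hKS, Subgroup.mem_subgroupOf] at hg
        exact hg
      have hQK : Q ≤ K := (quat_le_quatG D hQS hab).trans hquatK
      have hL := odd_closed_of_index_two K hKi H hH
      have hle : quatG D ≤ H.map K.subtype := by
        rcases one_of_three_mem K H hH (hQK hab.ha) (hQK hab.hb) with h | h | h
        · exact quatG_le_of_odd_closed S D Q hQS eQ h₂ _ hL a hab.ha h hab.orderOf_a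
        · exact quatG_le_of_odd_closed S D Q hQS eQ h₂ _ hL b hab.hb h hab.orderOf_b
        · exact quatG_le_of_odd_closed S D Q hQS eQ h₂ _ hL (a * b) (Q.mul_mem hab.ha hab.hb) h
            hab.orderOf_ab
      exact no_index_two_of_le S K H hH (hSK.trans hle) P₀ hP₀
  · exact center_weaklyClosed S D hS (not_fuse_z S D hS T hTS h₁)
  · apply card_classes_eq_two 2 (zG D) (yG D) (orderOf_zG D) (orderOf_yG D)
    · intro h
      obtain ⟨g, hg⟩ := isConj_iff.mp h
      exact not_fuse_z S D hS T hTS h₁ g hg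
    · exact invol_conj S D
  · apply card_classes_eq_one 4 (vG D) (orderOf_vG D)
    intro t ht
    rcases order4_conj S D t ht with h | h
    · exact h
    · exact h.trans (isConj_iff.mpr ⟨g₂, hg₂⟩).symm

end Cfsg.Agent.S1205
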