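import Mathlib
import Cfsg.Statements.S1206
import Cfsg.Agent.Lib.Helper23.QDFusion
import Cfsg.Agent.Lib.Helper16.SylowNormal

set_option autoImplicit false
open Cfsg

namespace Cfsg.Agent.S1206

open Cfsg.Agent.Lib.Helper23.QDFusion Cfsg.Agent.Lib.Helper23.FusionTools
  Cfsg.Agent.Lib.Helper12.QD Cfsg.Agent.Lib.Helper23.ThreePoint

/-- Let G be a finite group with quasi-dihedral Sylow 2-subgroup S, T a Klein four-subgroup and Q a quaternion subgroup of order 8 of S, with |N_G(T) : C_G(T)| = 6 and |N_G(Q) : Q C_G(Q)| = 2. Then G has a normal subgroup K of index 2 whose Sylow 2-subgroups are dihedral and which has no subgroup of index 2, and G has exactly one class of involutions and two classes of elements of order 4. -/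
theorem result {G : Type*} [Group G] [Finite G] (S : Sylow 2 G) (hS : Cfsg.IsQuasiDihedral (S : Subgroup G)) (T : Subgroup G) (hT : IsKleinFour T) (hTS : T ≤ S) (Q : Subgroup G) (hQS : Q ≤ S) (eQ : Q ≃* QuaternionGroup 2) (h₁ : (Subgroup.centralizer (T : Set G)).relIndex (Subgroup.normalizer (T : Set G)) = 6) (h₂ : (Q ⊔ Subgroup.centralizer (Q : Set G)).relIndex (Subgroup.normalizer (Q : Set G)) = 2) : (∃ K : Subgroup G, K.Normal ∧ K.index = 2 ∧ (∀ P : Sylow 2 ↥K, ∃ m : ℕ, Nonempty ((P : Subgroup ↥K) ≃* DihedralGroup m)) ∧ (∀ H : Subgroup ↥K, H.index ≠ 2)) ∧ Nat.card {C : ConjClasses G // ∃ t : G, orderOf t = 2 ∧ ConjClasses.mk t = C} = 1 ∧ Nat.card {C : ConjClasses G // ∃ t : G, orderOf t = 4 ∧ ConjClasses.mk t = C} = 2 := by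
  have : Fact (Nat.Prime 2) := ⟨Nat.prime_two⟩
  obtain ⟨D⟩ := exists_data hS
  obtain ⟨g₁, hg₁⟩ := fuse_z S D hS T hTS h₁
  refine ⟨?_, ?_, ?_⟩
  · obtain ⟨K, hKn, hKi, huK⟩ := exists_K_of_quat_two S D hS Q hQS eQ h₂
    have hKS : K.subgroupOf (S : Subgroup G) = D.dih := index_two_of_fuse_z S D K hKi g₁ hg₁
    obtain ⟨P₀, hP₀⟩ := Cfsg.Agent.Lib.Helper16.exists_sylow_subgroupOf_normal S K
    refine ⟨K, hKn, hKi, ?_, ?_⟩
    · intro P
      obtain ⟨e⟩ := D.dih_iso
      refine ⟨2 ^ (D.n - 1), ⟨?_⟩⟩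
      exact (Sylow.equiv P P₀).trans ((MulEquiv.subgroupCongr hP₀).trans
        ((subgroupOfSwap (S : Subgroup G) K).trans ((MulEquiv.subgroupCongr hKS).trans e)))
    · intro H hH
      have hSK : ((S : Subgroup G) ⊓ K : Subgroup G) ≤ dihG D := by
        intro g hg
        have : (⟨g, hg.1⟩ : ↥(S : Subgroup G)) ∈ K.subgroupOf (S : Subgroup G) := by
          rw [Subgroup.mem_subgroupOf]; exact hg.2
        rw [hKS] at this
        rw [dihG, mem_map_subtype_iff _ _ hg.1]
        exact this
      have hdihK : dihG D ≤ K := by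
        intro g hg
        have hgS := dihG_le D hg
        rw [dihG, mem_map_subtype_iff _ _ hgS, ← hKS, Subgroup.mem_subgroupOf] at hg
        exact hg
      have hTK : T ≤ K := (klein_le_dihG D T hTS).trans hdihK
      have hL := odd_closed_of_index_two K hKi H hH
      have hzT : zG D ∈ T := klein_zG_mem D hS T hTS
      obtain ⟨t₀, ht₀T, ht₀1, ht₀z⟩ := klein_exists_third T (zG D)
      have hzne1 : zG D ≠ 1 := by
        intro h
        have := orderOf_zG D
        rw [h, orderOf_one] at this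
        omega
      have hzt₀ : zG D * t₀ ≠ 1 := by
        intro h
        apply ht₀z
        have h2 : zG D * zG D = 1 := by
          have := pow_orderOf_eq_one (zG D)
          rwa [orderOf_zG D, pow_two] at this
        have : t₀ = (zG D)⁻¹ * (zG D * t₀) := by group
        rw [this, h, mul_one]
        exact inv_eq_of_mul_eq_one_left h2
      have hle : dihG D ≤ H.map K.subtype := by
        rcases one_of_three_mem K H hH (hTK hzT) (hTK ht₀T) with h | h | h
        · exact dihG_le_of_odd_closed S D hS T hTS h₁ _ hL (zG D) hzT h hzne1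
        · exact dihG_le_of_odd_closed S D hS T hTS h₁ _ hL t₀ ht₀T h ht₀1
        · exact dihG_le_of_odd_closed S D hS T hTS h₁ _ hL (zG D * t₀) (T.mul_mem hzT ht₀T) h hzt₀
      exact no_index_two_of_le S K H hH (hSK.trans hle) P₀ hP₀
  · apply card_classes_eq_one 2 (zG D) (orderOf_zG D)
    intro t ht
    rcases invol_conj S D t ht with h | h
    · exact h
    · exact h.trans (isConj_iff.mpr ⟨g₁, hg₁⟩).symm
  · apply card_classes_eq_two 4 (vG D) (uG D) (orderOf_vG D) (orderOf_uG D)
    · intro h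
      obtain ⟨g, hg⟩ := isConj_iff.mp h
      exact not_fuse_v S D hS Q hQS eQ h₂ g 1 (by rw [map_one]) hg
    · exact order4_conj S D

end Cfsg.Agent.S1206
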