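import Mathlib
import Cfsg.Statements.S1207
import Cfsg.Agent.Lib.Helper23.QDFusion
import Cfsg.Agent.Lib.Helper23.NPCTools
import Cfsg.Agent.Lib.Helper16.SylowNormal

set_option autoImplicit false
open Cfsg

namespace Cfsg.Agent.S1207

open Cfsg.Agent.Lib.Helper23.QDFusion Cfsg.Agent.Lib.Helper23.FusionTools
  Cfsg.Agent.Lib.Helper12.QD Cfsg.Agent.Lib.Helper23.NPCTools Cfsg.Agent.Lib.Helper13

theorem quat_inf_dih_le {R : Type*} [Group R] (D : Data R) :
    D.quat ⊓ D.dih ≤ Subgroup.zpowers D.x := by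
  intro s hs
  obtain ⟨i, rfl | rfl⟩ := D.normal_form s
  · exact (D.mem_zpowers_iff _).mpr ⟨i, rfl⟩
  · exfalso
    have h1 := (D.pxy_mem_quat i).mp hs.1
    have h2 := (D.pxy_mem_dih i).mp hs.2
    rw [h1] at h2
    exact one_ne_zero h2

/-- Let G be a finite group with quasi-dihedral Sylow 2-subgroup S, T a Klein four-subgroup and Q a quaternion subgroup of order 8 of S, with |N_G(T) : C_G(T)| = 2 and |N_G(Q) : Q C_G(Q)| = 2. Then G has a normal 2-complement, exactly two classes of involutions and exactly two classes of elements of order 4. -/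
theorem result {G : Type*} [Group G] [Finite G] (S : Sylow 2 G) (hS : Cfsg.IsQuasiDihedral (S : Subgroup G)) (T : Subgroup G) (hT : IsKleinFour T) (hTS : T ≤ S) (Q : Subgroup G) (hQS : Q ≤ S) (eQ : Q ≃* QuaternionGroup 2) (h₁ : (Subgroup.centralizer (T : Set G)).relIndex (Subgroup.normalizer (T : Set G)) = 2) (h₂ : (Q ⊔ Subgroup.centralizer (Q : Set G)).relIndex (Subgroup.normalizer (Q : Set G)) = 2) : Cfsg.HasNormalPComplement 2 G ∧ Nat.card {C : ConjClasses G // ∃ t : G, orderOf t = 2 ∧ ConjClasses.mk t = C} = 2 ∧ Nat.card {C : ConjClasses G // ∃ t : G, orderOf t = 4 ∧ ConjClasses.mk t = C} = 2 := by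
  have : Fact (Nat.Prime 2) := ⟨Nat.prime_two⟩
  obtain ⟨D⟩ := exists_data hS
  refine ⟨?_, ?_, ?_⟩
  · rw [npc_iff]
    obtain ⟨K1, hK1n, hK1i, hyK1⟩ := exists_K_of_klein_two S D hS T hTS h₁
    obtain ⟨K2, hK2n, hK2i, huK2⟩ := exists_K_of_quat_two S D hS Q hQS eQ h₂
    have hKn : (K1 ⊓ K2).Normal := inferInstance
    -- the index of K1 ⊓ K2 is a power of two
    have hidx : ∃ a : ℕ, (K1 ⊓ K2).index = 2 ^ a := by
      have h1 := Subgroup.relIndex_mul_index (inf_le_left : K1 ⊓ K2 ≤ K1)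
      have h2 : (K1 ⊓ K2).relIndex K1 ∣ 2 := by
        rw [inf_comm, Subgroup.inf_relIndex_right, ← hK2i]
        exact Subgroup.relIndex_dvd_index_of_normal K2 K1
      rw [hK1i] at h1
      have h3 : (K1 ⊓ K2).relIndex K1 ≤ 2 := Nat.le_of_dvd (by norm_num) h2
      have h4 : (K1 ⊓ K2).relIndex K1 ≠ 0 := fun h => by rw [h] at h2; omega
      interval_cases hr : (K1 ⊓ K2).relIndex K1
      · omega
      · exact ⟨1, by omega⟩
      · exact ⟨2, by omega⟩
    obtain ⟨a, ha⟩ := hidx
    apply npc_of_normal_of_index_pow (K1 ⊓ K2) a ha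
    -- the Sylow 2-subgroup of K1 ⊓ K2 is cyclic
    obtain ⟨P, hP⟩ := Cfsg.Agent.Lib.Helper16.exists_sylow_subgroupOf_normal S (K1 ⊓ K2)
    apply npc_two_of_cyclic_sylow P
    have hle : (K1 ⊓ K2).subgroupOf (S : Subgroup G) ≤ Subgroup.zpowers D.x := by
      intro s hs
      rw [Subgroup.mem_subgroupOf] at hs
      have hs1 : s ∈ K1.subgroupOf (S : Subgroup G) := by
        rw [Subgroup.mem_subgroupOf]; exact hs.1
      have hs2 : s ∈ K2.subgroupOf (S : Subgroup G) := by
        rw [Subgroup.mem_subgroupOf]; exact hs.2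
      rcases subgroupOf_cases_of_yG_notMem S D K1 hK1i hyK1 with e1 | e1
      · rw [e1] at hs1; exact hs1
      · rcases subgroupOf_cases_of_uG_notMem S D K2 hK2i huK2 with e2 | e2
        · rw [e2] at hs2; exact hs2
        · rw [e1] at hs1
          rw [e2] at hs2
          exact quat_inf_dih_le D ⟨hs1, hs2⟩
    rw [hP]
    have hmemS : ∀ r : ↥((S : Subgroup G).subgroupOf (K1 ⊓ K2)), ((r : ↥(K1 ⊓ K2)) : G) ∈
        (S : Subgroup G) := fun r => by
      have := r.2
      rwa [Subgroup.mem_subgroupOf] at this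
    let φ : ↥((S : Subgroup G).subgroupOf (K1 ⊓ K2)) →* ↥(S : Subgroup G) :=
      { toFun := fun r => ⟨((r : ↥(K1 ⊓ K2)) : G), hmemS r⟩
        map_one' := rfl
        map_mul' := fun _ _ => rfl }
    have hφ : ∀ r, φ r ∈ Subgroup.zpowers D.x := by
      intro r
      apply hle
      rw [Subgroup.mem_subgroupOf]
      exact (r : ↥(K1 ⊓ K2)).2
    have hinj : Function.Injective (φ.codRestrict (Subgroup.zpowers D.x) hφ) := by
      intro r r' hrr'
      have h1 := congrArg (fun t : ↥(Subgroup.zpowers D.x) => ((t : ↥(S : Subgroup G)) : G)) hrr'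
      apply Subtype.ext
      apply Subtype.ext
      exact h1
    exact isCyclic_of_injective _ hinj
  · apply card_classes_eq_two 2 (zG D) (yG D) (orderOf_zG D) (orderOf_yG D)
    · intro h
      obtain ⟨g, hg⟩ := isConj_iff.mp h
      exact not_fuse_z S D hS T hTS h₁ g hg
    · exact invol_conj S D
  · apply card_classes_eq_two 4 (vG D) (uG D) (orderOf_vG D) (orderOf_uG D)
    · intro h
      obtain ⟨g, hg⟩ := isConj_iff.mp h
      exact not_fuse_v S D hS Q hQS eQ h₂ g 1 (by rw [map_one]) hg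
    · exact order4_conj S D

end Cfsg.Agent.S1207
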