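import Cfsg.Statements.S1217
import Mathlib
import Cfsg.Agent.Lib.Helper12.GL2

set_option autoImplicit false
open scoped MatrixGroups
open Cfsg

namespace Cfsg.Agent.S1217

open Cfsg.Agent.Lib.Helper12.GL2

theorem isQuasiDihedral_of_mulEquiv {S T : Type*} [Group S] [Group T] (e : S ≃* T)
    (h : Cfsg.IsQuasiDihedral S) : Cfsg.IsQuasiDihedral T := by
  obtain ⟨n, hn, hcard, x, y, hx, hy, hrel⟩ := h
  refine ⟨n, hn, by rw [← Nat.card_congr e.toEquiv]; exact hcard, e x, e y, ?_, ?_, ?_⟩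
  · rw [MulEquiv.orderOf_eq]; exact hx
  · rw [MulEquiv.orderOf_eq]; exact hy
  · rw [← map_inv, ← map_mul, ← map_mul, hrel, map_pow]

theorem isWreathed_of_mulEquiv {S T : Type*} [Group S] [Group T] (e : S ≃* T)
    (h : Cfsg.IsWreathed S) : Cfsg.IsWreathed T := by
  obtain ⟨n, hn, hcard, x, y, z, hx, hxy, hinf, hz, hrel⟩ := h
  refine ⟨n, hn, by rw [← Nat.card_congr e.toEquiv]; exact hcard, e x, e y, e z, ?_, ?_, ?_, ?_, ?_⟩
  · rw [MulEquiv.orderOf_eq]; exact hx
  · rw [← map_mul, ← map_mul, hxy]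
  · have h1 : Subgroup.zpowers (e x) = (Subgroup.zpowers x).map e.toMonoidHom :=
      (MonoidHom.map_zpowers e.toMonoidHom x).symm
    have h2 : Subgroup.zpowers (e y) = (Subgroup.zpowers y).map e.toMonoidHom :=
      (MonoidHom.map_zpowers e.toMonoidHom y).symm
    rw [h1, h2, ← Subgroup.map_inf _ _ _ e.injective, hinf, Subgroup.map_bot]
  · rw [MulEquiv.orderOf_eq]; exact hz
  · rw [← map_inv, ← map_mul, ← map_mul, hrel]

theorem fact_two_of_mod_four {n : ℕ} (h : n % 4 = 2) : n.factorization 2 = 1 := by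
  obtain ⟨m, rfl⟩ : ∃ m, n = 2 * m := ⟨n / 2, by omega⟩
  have hm : ¬ 2 ∣ m := by omega
  have hm0 : m ≠ 0 := by rintro rfl; omega
  rw [Nat.factorization_mul (by norm_num) hm0, Finsupp.add_apply,
    Nat.Prime.factorization_self Nat.prime_two, Nat.factorization_eq_zero_of_not_dvd hm]

theorem fact_card {q : ℕ} (hq : q % 2 = 1) (hq3 : 3 ≤ q) :
    ((q ^ 2 - 1) * (q ^ 2 - q)).factorization 2 =
      2 * (q - 1).factorization 2 + (q + 1).factorization 2 := by
  have e1 : q ^ 2 - 1 = (q - 1) * (q + 1) := by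
    obtain ⟨m, rfl⟩ : ∃ m, q = m + 1 := ⟨q - 1, by omega⟩
    have : (m + 1) ^ 2 = (m + 1 - 1) * (m + 1 + 1) + 1 := by
      simp only [Nat.add_sub_cancel]; ring
    omega
  have e2 : q ^ 2 - q = q * (q - 1) := by
    rw [pow_two, Nat.mul_sub, mul_one]
  have h1 : q - 1 ≠ 0 := by omega
  have h2 : q + 1 ≠ 0 := by omega
  have h3 : q ≠ 0 := by omega
  have hq2 : ¬ 2 ∣ q := by omega
  rw [e1, e2, Nat.factorization_mul (mul_ne_zero h1 h2) (mul_ne_zero h3 h1),
    Nat.factorization_mul h1 h2, Nat.factorization_mul h3 h1]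
  simp only [Finsupp.add_apply]
  rw [Nat.factorization_eq_zero_of_not_dvd hq2]
  ring


variable {F : Type*} [Field F]

local notation "GL2" => Matrix.GeneralLinearGroup (Fin 2)

/-- `u ↦ diag(u, 1)` -/
noncomputable def d1 : Fˣ →* GL2 F where
  toFun u := mk u 0 0 1 (by simp)
  map_one' := by apply ext4 <;> simp [one_apply']
  map_mul' u v := by apply ext4 <;> simp [mul_apply']

/-- `u ↦ diag(1, u)` -/
noncomputable def d2 : Fˣ →* GL2 F where
  toFun u := mk 1 0 0 u (by simp)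
  map_one' := by apply ext4 <;> simp [one_apply']
  map_mul' u v := by apply ext4 <;> simp [mul_apply']

theorem d1_injective : Function.Injective (d1 : Fˣ →* GL2 F) := by
  intro u v h
  have := congrArg (fun g : GL2 F => g 0 0) h
  exact Units.ext this

/-- the antidiagonal element -/
noncomputable def wz : GL2 F := mk 0 1 1 0 (by simp)

theorem wz_mul_self : (wz : GL2 F) * wz = 1 := by
  apply ext4 <;> simp [mul_apply', one_apply', wz]

theorem wz_ne_one : (wz : GL2 F) ≠ 1 := by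
  intro h
  have := congrArg (fun g : GL2 F => g 0 0) h
  simp [wz, one_apply'] at this

theorem wz_inv : (wz : GL2 F)⁻¹ = wz := inv_eq_of_mul_eq_one_left wz_mul_self

theorem wz_conj_d1 (u : Fˣ) : (wz : GL2 F) * d1 u * wz⁻¹ = d2 u := by
  rw [mul_inv_eq_iff_eq_mul]
  apply ext4 <;> simp [mul_apply', wz, d1, d2]

theorem wz_conj_d2 (u : Fˣ) : (wz : GL2 F) * d2 u * wz⁻¹ = d1 u := by
  rw [mul_inv_eq_iff_eq_mul]
  apply ext4 <;> simp [mul_apply', wz, d1, d2]

theorem d1_d2_comm (u v : Fˣ) : (d1 u : GL2 F) * d2 v = d2 v * d1 u := by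
  apply ext4 <;> simp [mul_apply', d1, d2]

theorem zpowers_d1_inf_d2 (u v : Fˣ) :
    Subgroup.zpowers (d1 u : GL2 F) ⊓ Subgroup.zpowers (d2 v) = ⊥ := by
  rw [eq_bot_iff]
  intro g hg
  obtain ⟨h1, h2⟩ := Subgroup.mem_inf.mp hg
  rw [← MonoidHom.map_zpowers, Subgroup.mem_map] at h1 h2
  obtain ⟨a, -, rfl⟩ := h1
  obtain ⟨b, -, hb⟩ := h2
  have := congrArg (fun g : GL2 F => g 0 0) hb
  simp only [d1, d2, MonoidHom.coe_mk, OneHom.coe_mk, mk_00] at this
  have ha : a = 1 := Units.ext this.symm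
  rw [ha, map_one]
  exact Subgroup.mem_bot.mpr rfl

/-- normalizing cyclic groups: `y` commutes with `x`. -/
theorem zpowers_le_normalizer_of_commute {G : Type*} [Group G] (x y : G) (h : x * y = y * x) :
    Subgroup.zpowers y ≤ Subgroup.normalizer (Subgroup.zpowers x : Set G) := by
  rw [Subgroup.zpowers_le, Subgroup.mem_normalizer_iff]
  intro g
  have hc : ∀ g ∈ Subgroup.zpowers x, y * g * y⁻¹ = g := by
    intro g hg
    obtain ⟨k, rfl⟩ := Subgroup.mem_zpowers_iff.mp hg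
    have : Commute y (x ^ k) := (Commute.zpow_right (show Commute y x from h.symm) k)
    rw [this.eq, mul_inv_cancel_right]
  constructor
  · intro hg
    rw [hc g hg]; exact hg
  · intro hg
    have := hc _ hg
    have e : g = y⁻¹ * (y * g * y⁻¹) * y := by group
    rw [e]
    have hc' : y⁻¹ * (y * g * y⁻¹) * y = y * g * y⁻¹ := by
      have h2 : Commute y (y * g * y⁻¹) := by
        have := hc _ hg
        rw [Commute, SemiconjBy]
        calc y * (y * g * y⁻¹) = (y * (y * g * y⁻¹) * y⁻¹) * y := by group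
          _ = (y * g * y⁻¹) * y := by rw [this]
      rw [mul_assoc, ← h2.eq, inv_mul_cancel_left]
    rw [hc']
    exact hg


theorem d2_injective : Function.Injective (d2 : Fˣ →* GL2 F) := by
  intro u v h
  have := congrArg (fun g : GL2 F => g 1 1) h
  exact Units.ext this

theorem exists_unit_orderOf [Fintype F] (d : ℕ) (hd : d ∣ Fintype.card F - 1) :
    ∃ u : Fˣ, orderOf u = d := by
  obtain ⟨g, hg⟩ := IsCyclic.exists_ofOrder_eq_natCard (α := Fˣ)
  rw [Nat.card_units, Nat.card_eq_fintype_card] at hg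
  have hq : 2 ≤ Fintype.card F := Fintype.one_lt_card
  refine ⟨g ^ (orderOf g / d), orderOf_pow_orderOf_div ?_ ?_⟩
  · rw [hg]; omega
  · rw [hg]; exact hd

/-- a subgroup normalized by an involution-like element whose conjugation preserves it -/
theorem mem_normalizer_of_map_conj {G : Type*} [Group G] (M : Subgroup G) (z : G) (hz : z * z = 1)
    (hmap : M.map (MulAut.conj z).toMonoidHom = M) :
    Subgroup.zpowers z ≤ Subgroup.normalizer (M : Set G) := by
  rw [Subgroup.zpowers_le, Subgroup.mem_normalizer_iff]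
  have hzinv : z⁻¹ = z := inv_eq_of_mul_eq_one_left hz
  have h1 : ∀ h ∈ M, z * h * z⁻¹ ∈ M := by
    intro h hh
    have : (MulAut.conj z).toMonoidHom h ∈ M.map (MulAut.conj z).toMonoidHom :=
      Subgroup.mem_map_of_mem _ hh
    rw [hmap] at this
    exact this
  intro h
  constructor
  · exact h1 h
  · intro hh
    have := h1 _ hh
    have e : z * (z * h * z⁻¹) * z⁻¹ = h := by
      rw [hzinv]
      calc z * (z * h * z) * z = (z * z) * h * (z * z) := by group
        _ = h := by rw [hz, one_mul, mul_one]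
    rwa [e] at this

theorem wreathed_case [Fintype F] (hq : Fintype.card F % 4 = 1) (P : Sylow 2 (GL2 F)) :
    Cfsg.IsWreathed (P : Subgroup (GL2 F)) := by
  haveI : Fact (Nat.Prime 2) := ⟨Nat.prime_two⟩
  have hq2 : 2 ≤ Fintype.card F := Fintype.one_lt_card
  have hq5 : 5 ≤ Fintype.card F := by omega
  set q := Fintype.card F with hqdef
  set a := (q - 1).factorization 2 with hadef
  have hq1 : q - 1 ≠ 0 := by omega
  have ha2 : 2 ≤ a := by
    have h4 : 2 ^ 2 ∣ q - 1 := by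
      norm_num
      omega
    exact (Nat.Prime.pow_dvd_iff_le_factorization Nat.prime_two hq1).mp h4
  have hdiv : 2 ^ a ∣ q - 1 := Nat.ordProj_dvd (q - 1) 2
  obtain ⟨ζ, hζ⟩ := exists_unit_orderOf (F := F) (2 ^ a) hdiv
  have hX : orderOf (d1 ζ : GL2 F) = 2 ^ a := by
    rw [orderOf_injective d1 d1_injective]; exact hζ
  have hY : orderOf (d2 ζ : GL2 F) = 2 ^ a := by
    rw [orderOf_injective d2 d2_injective]; exact hζ
  have hZ : orderOf (wz : GL2 F) = 2 := orderOf_eq_prime (by rw [pow_two]; exact wz_mul_self) wz_ne_one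
  have pX : IsPGroup 2 (Subgroup.zpowers (d1 ζ : GL2 F)) :=
    IsPGroup.of_card (n := a) (by rw [Nat.card_zpowers, hX])
  have pY : IsPGroup 2 (Subgroup.zpowers (d2 ζ : GL2 F)) :=
    IsPGroup.of_card (n := a) (by rw [Nat.card_zpowers, hY])
  have pZ : IsPGroup 2 (Subgroup.zpowers (wz : GL2 F)) :=
    IsPGroup.of_card (n := 1) (by rw [Nat.card_zpowers, hZ, pow_one])
  have pM1 : IsPGroup 2 (Subgroup.zpowers (d2 ζ : GL2 F) ⊔ Subgroup.zpowers (d1 ζ : GL2 F) :
      Subgroup (GL2 F)) :=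
    IsPGroup.to_sup_of_normal_right' pY pX
      (zpowers_le_normalizer_of_commute _ _ (d1_d2_comm ζ ζ))
  have hmap : (Subgroup.zpowers (d2 ζ : GL2 F) ⊔ Subgroup.zpowers (d1 ζ : GL2 F)).map
      (MulAut.conj (wz : GL2 F)).toMonoidHom =
      Subgroup.zpowers (d2 ζ : GL2 F) ⊔ Subgroup.zpowers (d1 ζ : GL2 F) := by
    rw [Subgroup.map_sup, MonoidHom.map_zpowers, MonoidHom.map_zpowers]
    have e1 : (MulAut.conj (wz : GL2 F)).toMonoidHom (d2 ζ) = d1 ζ := wz_conj_d2 ζ
    have e2 : (MulAut.conj (wz : GL2 F)).toMonoidHom (d1 ζ) = d2 ζ := wz_conj_d1 ζ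
    rw [e1, e2, sup_comm]
  have pM0 : IsPGroup 2 (Subgroup.zpowers (wz : GL2 F) ⊔
      (Subgroup.zpowers (d2 ζ : GL2 F) ⊔ Subgroup.zpowers (d1 ζ : GL2 F)) : Subgroup (GL2 F)) :=
    IsPGroup.to_sup_of_normal_right' pZ pM1 (mem_normalizer_of_map_conj _ _ wz_mul_self hmap)
  obtain ⟨P₀, hP₀⟩ := pM0.exists_le_sylow
  have hXm : (d1 ζ : GL2 F) ∈ (P₀ : Subgroup (GL2 F)) :=
    hP₀ (Subgroup.mem_sup_right (Subgroup.mem_sup_right (Subgroup.mem_zpowers _)))
  have hYm : (d2 ζ : GL2 F) ∈ (P₀ : Subgroup (GL2 F)) :=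
    hP₀ (Subgroup.mem_sup_right (Subgroup.mem_sup_left (Subgroup.mem_zpowers _)))
  have hZm : (wz : GL2 F) ∈ (P₀ : Subgroup (GL2 F)) :=
    hP₀ (Subgroup.mem_sup_left (Subgroup.mem_zpowers _))
  have hcard : Nat.card (P₀ : Subgroup (GL2 F)) = 2 ^ (2 * a + 1) := by
    rw [Sylow.card_eq_multiplicity, card_GL2, fact_card (by omega) (by omega),
      fact_two_of_mod_four (n := q + 1) (by omega)]
  have hW : Cfsg.IsWreathed (P₀ : Subgroup (GL2 F)) := by
    refine ⟨a, ha2, hcard, ⟨_, hXm⟩, ⟨_, hYm⟩, ⟨_, hZm⟩, ?_, ?_, ?_, ?_, ?_⟩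
    · rw [Subgroup.orderOf_mk]; exact hX
    · exact Subtype.ext (d1_d2_comm ζ ζ)
    · rw [eq_bot_iff]
      intro g hg
      obtain ⟨h1, h2⟩ := Subgroup.mem_inf.mp hg
      obtain ⟨k, hk⟩ := Subgroup.mem_zpowers_iff.mp h1
      obtain ⟨l, hl⟩ := Subgroup.mem_zpowers_iff.mp h2
      have hk' : (d1 ζ : GL2 F) ^ k = g.1 := by rw [← hk]; simp
      have hl' : (d2 ζ : GL2 F) ^ l = g.1 := by rw [← hl]; simp
      have hmem : g.1 ∈ Subgroup.zpowers (d1 ζ : GL2 F) ⊓ Subgroup.zpowers (d2 ζ : GL2 F) :=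
        Subgroup.mem_inf.mpr ⟨Subgroup.mem_zpowers_iff.mpr ⟨k, hk'⟩,
          Subgroup.mem_zpowers_iff.mpr ⟨l, hl'⟩⟩
      rw [zpowers_d1_inf_d2, Subgroup.mem_bot] at hmem
      exact Subgroup.mem_bot.mpr (Subtype.ext hmem)
    · rw [Subgroup.orderOf_mk]; exact hZ
    · exact Subtype.ext (wz_conj_d1 ζ)
  exact isWreathed_of_mulEquiv (Sylow.equiv P₀ P) hW






/-- the rotation-like matrix `[[s, -t], [t, s]]` -/
noncomputable def rot (s t : F) (h : s * s - (-t) * t ≠ 0) : GL2 F := mk s (-t) t s h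

theorem rot_coe (s t : F) (h : s * s - (-t) * t ≠ 0) :
    ((rot s t h : GL2 F) : Matrix (Fin 2) (Fin 2) F) =
      s • (1 : Matrix (Fin 2) (Fin 2) F) + t • !![0, -1; 1, 0] := by
  ext i j
  fin_cases i <;> fin_cases j <;> simp [rot, mk]

theorem J_pow_card [Fintype F] (hq : Fintype.card F % 4 = 3) :
    (!![0, -1; 1, 0] : Matrix (Fin 2) (Fin 2) F) ^ (Fintype.card F) = - !![0, -1; 1, 0] := by
  have hJ2 : (!![0, -1; 1, 0] : Matrix (Fin 2) (Fin 2) F) ^ 2 = -1 := by
    rw [pow_two]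
    ext i j
    fin_cases i <;> fin_cases j <;> simp [Matrix.mul_apply, Fin.sum_univ_two]
  obtain ⟨m, hm⟩ : ∃ m, Fintype.card F = 2 * m + 1 := ⟨Fintype.card F / 2, by omega⟩
  have hmodd : Odd m := by
    rw [Nat.odd_iff]; omega
  rw [hm, pow_succ, pow_mul, hJ2, hmodd.neg_one_pow]
  simp

theorem rot_pow_card [Fintype F] (hq : Fintype.card F % 4 = 3) (s t : F) (h : s * s - (-t) * t ≠ 0)
    (h' : s * s - t * (-t) ≠ 0) :
    (rot s t h : GL2 F) ^ (Fintype.card F) = mk s t (-t) s h' := by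
  obtain ⟨p, hp⟩ := CharP.exists F
  haveI := hp
  obtain ⟨n, hpp, hcard⟩ := FiniteField.card F p
  haveI : Fact p.Prime := ⟨hpp⟩
  apply Units.ext
  rw [Units.val_pow_eq_pow_val, rot_coe]
  have hcomm : Commute (s • (1 : Matrix (Fin 2) (Fin 2) F)) (t • !![0, -1; 1, 0]) := by
    apply Commute.smul_left
    apply Commute.smul_right
    exact Commute.one_left _
  conv_lhs => rw [hcard]
  rw [add_pow_char_pow_of_commute p n hcomm, ← hcard, smul_pow, smul_pow, one_pow,
    FiniteField.pow_card, FiniteField.pow_card, J_pow_card hq]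
  ext i j
  fin_cases i <;> fin_cases j <;> simp [mk]


theorem zpowers_le_normalizer_of_forall {G : Type*} [Group G] (M : Subgroup G) (z : G)
    (hz : z * z = 1) (h1 : ∀ h ∈ M, z * h * z⁻¹ ∈ M) :
    Subgroup.zpowers z ≤ Subgroup.normalizer (M : Set G) := by
  rw [Subgroup.zpowers_le, Subgroup.mem_normalizer_iff]
  have hzinv : z⁻¹ = z := inv_eq_of_mul_eq_one_left hz
  intro h
  constructor
  · exact h1 h
  · intro hh
    have := h1 _ hh
    have e : z * (z * h * z⁻¹) * z⁻¹ = h := by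
      rw [hzinv]
      calc z * (z * h * z) * z = (z * z) * h * (z * z) := by group
        _ = h := by rw [hz, one_mul, mul_one]
    rwa [e] at this

theorem qd_case [Fintype F] (hq : Fintype.card F % 4 = 3) (P : Sylow 2 (GL2 F)) :
    Cfsg.IsQuasiDihedral (P : Subgroup (GL2 F)) := by
  classical
  haveI : Fact (Nat.Prime 2) := ⟨Nat.prime_two⟩
  have hq3 : 3 ≤ Fintype.card F := by omega
  set q := Fintype.card F with hqdef
  set b := (q + 1).factorization 2 with hbdef
  have hb2 : 2 ≤ b := by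
    have h4 : 2 ^ 2 ∣ q + 1 := by
      norm_num
      omega
    exact (Nat.Prime.pow_dvd_iff_le_factorization Nat.prime_two (by omega)).mp h4
  have hns : ¬ IsSquare (-1 : F) := by
    rw [FiniteField.isSquare_neg_one_iff]
    simp [← hqdef, hq]
  haveI hfact : Fact (∀ r : F, r ^ 2 ≠ -1 + 0 * r) :=
    ⟨fun r h => hns ⟨r, by rw [← pow_two, h]; ring⟩⟩
  letI : Fintype (QuadraticAlgebra F (-1) 0) :=
    Fintype.ofEquiv _ (QuadraticAlgebra.equivProd (-1 : F) 0).symm
  have hcardK : Fintype.card (QuadraticAlgebra F (-1) 0) = q ^ 2 := by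
    rw [Fintype.card_congr (QuadraticAlgebra.equivProd (-1 : F) 0), Fintype.card_prod, pow_two]
  have hdiv : 2 ^ (b + 1) ∣ Fintype.card (QuadraticAlgebra F (-1) 0) - 1 := by
    rw [hcardK]
    have e1 : q ^ 2 - 1 = (q + 1) * (q - 1) := by
      obtain ⟨m, hm⟩ : ∃ m, q = m + 1 := ⟨q - 1, by omega⟩
      rw [hm]
      have : (m + 1) ^ 2 = (m + 1 + 1) * (m + 1 - 1) + 1 := by
        simp only [Nat.add_sub_cancel]; ring
      omega
    rw [e1, pow_succ]
    exact mul_dvd_mul (Nat.ordProj_dvd (q + 1) 2) (by omega)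
  obtain ⟨ξ, hξ⟩ := exists_unit_orderOf (F := QuadraticAlgebra F (-1) 0) (2 ^ (b + 1)) hdiv
  have nz : ∀ u : (QuadraticAlgebra F (-1) 0)ˣ, u.1.re * u.1.re - (-u.1.im) * u.1.im ≠ 0 := by
    intro u h
    by_cases him : u.1.im = 0
    · rw [him] at h
      have hre : u.1.re = 0 := by
        have : u.1.re * u.1.re = 0 := by linear_combination h
        exact mul_self_eq_zero.mp this
      apply u.ne_zero
      ext
      · exact hre
      · exact him
    · apply hfact.out (u.1.re / u.1.im)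
      field_simp
      linear_combination h
  let ρ : (QuadraticAlgebra F (-1) 0)ˣ →* GL2 F :=
    { toFun := fun u => rot u.1.re u.1.im (nz u)
      map_one' := by
        apply ext4 <;> simp [rot, one_apply', QuadraticAlgebra.re_one, QuadraticAlgebra.im_one]
      map_mul' := fun u v => by
        apply ext4 <;> simp [rot, mul_apply'] <;> ring }
  have hρinj : Function.Injective ρ := by
    intro u v h
    have h00 := congrArg (fun g : GL2 F => g 0 0) h
    have h10 := congrArg (fun g : GL2 F => g 1 0) h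
    simp only [ρ, rot, MonoidHom.coe_mk, OneHom.coe_mk, mk_00, mk_10] at h00 h10
    apply Units.ext
    ext
    · exact h00
    · exact h10
  have hX : orderOf (ρ ξ) = 2 ^ (b + 1) := by
    rw [orderOf_injective ρ hρinj]; exact hξ
  have hchar : (-1 : F) ≠ 1 := by
    intro h
    apply hns
    rw [h]
    exact ⟨1, by ring⟩
  obtain ⟨Y, hY⟩ : ∃ Y : GL2 F, Y = mk 1 0 0 (-1) (by simp) := ⟨_, rfl⟩
  have hYY : Y * Y = 1 := by
    rw [hY]
    apply ext4 <;> simp [mul_apply', one_apply']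
  have hY1 : Y ≠ 1 := by
    intro h
    have := congrArg (fun g : GL2 F => g 1 1) h
    rw [hY] at this
    simp [one_apply'] at this
    exact hchar this
  have hYo : orderOf Y = 2 := orderOf_eq_prime (by rw [pow_two]; exact hYY) hY1
  have hconj : Y * ρ ξ * Y⁻¹ = ρ ξ ^ q := by
    rw [show ρ ξ = rot ξ.1.re ξ.1.im (nz ξ) from rfl,
      rot_pow_card hq _ _ _ (by have := nz ξ; intro h; apply this; linear_combination h),
      mul_inv_eq_iff_eq_mul, hY]
    apply ext4 <;> simp [rot, mul_apply']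
  have hpow : ρ ξ ^ q = ρ ξ ^ (2 ^ b - 1) := by
    rw [pow_eq_pow_iff_modEq, hX]
    have hm : ¬ 2 ∣ (q + 1) / 2 ^ b := Nat.not_dvd_ordCompl Nat.prime_two (by omega)
    have hqb : q + 1 = 2 ^ b * ((q + 1) / 2 ^ b) := (Nat.mul_div_cancel' (Nat.ordProj_dvd (q + 1) 2)).symm
    obtain ⟨k, hk⟩ : ∃ k, (q + 1) / 2 ^ b = 2 * k + 1 := ⟨(q + 1) / 2 ^ b / 2, by omega⟩
    rw [hk] at hqb
    have hpos : 1 ≤ 2 ^ b := Nat.one_le_two_pow
    have hq' : q = 2 ^ (b + 1) * k + (2 ^ b - 1) := by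
      have : 2 ^ b * (2 * k + 1) = 2 ^ (b + 1) * k + 2 ^ b := by ring
      omega
    rw [Nat.ModEq, hq', Nat.mul_add_mod]
  have hrel : Y * ρ ξ * Y⁻¹ = ρ ξ ^ (2 ^ b - 1) := hconj.trans hpow
  have pX : IsPGroup 2 (Subgroup.zpowers (ρ ξ)) :=
    IsPGroup.of_card (n := b + 1) (by rw [Nat.card_zpowers, hX])
  have pY : IsPGroup 2 (Subgroup.zpowers Y) :=
    IsPGroup.of_card (n := 1) (by rw [Nat.card_zpowers, hYo, pow_one])
  have hnorm : Subgroup.zpowers Y ≤ Subgroup.normalizer (Subgroup.zpowers (ρ ξ) : Set (GL2 F)) := by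
    apply zpowers_le_normalizer_of_forall _ _ hYY
    intro h hh
    obtain ⟨k, rfl⟩ := Subgroup.mem_zpowers_iff.mp hh
    have : Y * ρ ξ ^ k * Y⁻¹ = (Y * ρ ξ * Y⁻¹) ^ k := by
      rw [conj_zpow]
    rw [this, hrel]
    exact Subgroup.zpow_mem _ (Subgroup.pow_mem _ (Subgroup.mem_zpowers _) _) _
  have pM0 : IsPGroup 2 (Subgroup.zpowers Y ⊔ Subgroup.zpowers (ρ ξ) : Subgroup (GL2 F)) :=
    IsPGroup.to_sup_of_normal_right' pY pX hnorm
  obtain ⟨P₀, hP₀⟩ := pM0.exists_le_sylow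
  have hXm : ρ ξ ∈ (P₀ : Subgroup (GL2 F)) :=
    hP₀ (Subgroup.mem_sup_right (Subgroup.mem_zpowers _))
  have hYm : Y ∈ (P₀ : Subgroup (GL2 F)) :=
    hP₀ (Subgroup.mem_sup_left (Subgroup.mem_zpowers _))
  have hcard : Nat.card (P₀ : Subgroup (GL2 F)) = 2 ^ (b + 1 + 1) := by
    rw [Sylow.card_eq_multiplicity, card_GL2, fact_card (by omega) (by omega),
      fact_two_of_mod_four (n := q - 1) (by omega)]
    congr 1
    ring
  have hQ : Cfsg.IsQuasiDihedral (P₀ : Subgroup (GL2 F)) := by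
    refine ⟨b + 1, by omega, hcard, ⟨_, hXm⟩, ⟨_, hYm⟩, ?_, ?_, ?_⟩
    · rw [Subgroup.orderOf_mk]; exact hX
    · rw [Subgroup.orderOf_mk]; exact hYo
    · apply Subtype.ext
      rw [Nat.add_sub_cancel]
      exact hrel
  exact isQuasiDihedral_of_mulEquiv (Sylow.equiv P₀ P) hQ




/-- Let F be a finite field with q elements, q odd, and P a Sylow 2-subgroup of GL(2,F). If q ≡ 3 (mod 4) then P is quasi-dihedral; if q ≡ 1 (mod 4) then P is wreathed. -/
theorem result {F : Type*} [Field F] [Fintype F] (P : Sylow 2 (GL (Fin 2) F)) : (Fintype.card F % 4 = 3 → Cfsg.IsQuasiDihedral (P : Subgroup (GL (Fin 2) F))) ∧ (Fintype.card F % 4 = 1 → Cfsg.IsWreathed (P : Subgroup (GL (Fin 2) F))) := by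
  exact ⟨fun h => qd_case h P, fun h => wreathed_case h P⟩

end Cfsg.Agent.S1217
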