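import Cfsg.Statements.S1218
import Mathlib
import Cfsg.Agent.S1217
import Cfsg.Agent.S0284
import Cfsg.Agent.S0754
import Cfsg.Agent.Lib.Helper12.Herm

set_option autoImplicit false
open scoped MatrixGroups
open Cfsg

namespace Cfsg.Agent.S1218

open Cfsg.Agent.Lib.Helper12.GL2 Cfsg.Agent.S1217

theorem isWreathed_sylow {G : Type*} [Group G] [Finite G] (P : Sylow 2 G) (n : ℕ) (hn : 2 ≤ n)
    (hcard : (Nat.card G).factorization 2 = 2 * n + 1) (x y z : G) (hx : orderOf x = 2 ^ n)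
    (hy : orderOf y = 2 ^ n) (hxy : x * y = y * x)
    (hinf : Subgroup.zpowers x ⊓ Subgroup.zpowers y = ⊥) (hz : orderOf z = 2)
    (hzx : z * x * z⁻¹ = y) : Cfsg.IsWreathed (P : Subgroup G) := by
  haveI : Fact (Nat.Prime 2) := ⟨Nat.prime_two⟩
  have hzz : z * z = 1 := by
    have := pow_orderOf_eq_one z
    rwa [hz, pow_two] at this
  have hzinv : z⁻¹ = z := inv_eq_of_mul_eq_one_left hzz
  have hzy : z * y * z⁻¹ = x := by
    rw [← hzx, hzinv]
    calc z * (z * x * z) * z = (z * z) * x * (z * z) := by group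
      _ = x := by rw [hzz, one_mul, mul_one]
  have pX : IsPGroup 2 (Subgroup.zpowers x) :=
    IsPGroup.of_card (n := n) (by rw [Nat.card_zpowers, hx])
  have pY : IsPGroup 2 (Subgroup.zpowers y) :=
    IsPGroup.of_card (n := n) (by rw [Nat.card_zpowers, hy])
  have pZ : IsPGroup 2 (Subgroup.zpowers z) :=
    IsPGroup.of_card (n := 1) (by rw [Nat.card_zpowers, hz, pow_one])
  have pM1 : IsPGroup 2 (Subgroup.zpowers y ⊔ Subgroup.zpowers x : Subgroup G) :=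
    IsPGroup.to_sup_of_normal_right' pY pX (zpowers_le_normalizer_of_commute _ _ hxy)
  have hmap : (Subgroup.zpowers y ⊔ Subgroup.zpowers x).map (MulAut.conj z).toMonoidHom =
      Subgroup.zpowers y ⊔ Subgroup.zpowers x := by
    rw [Subgroup.map_sup, MonoidHom.map_zpowers, MonoidHom.map_zpowers]
    have e1 : (MulAut.conj z).toMonoidHom y = x := hzy
    have e2 : (MulAut.conj z).toMonoidHom x = y := hzx
    rw [e1, e2, sup_comm]
  have pM0 : IsPGroup 2 (Subgroup.zpowers z ⊔ (Subgroup.zpowers y ⊔ Subgroup.zpowers x) :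
      Subgroup G) :=
    IsPGroup.to_sup_of_normal_right' pZ pM1 (mem_normalizer_of_map_conj _ _ hzz hmap)
  obtain ⟨P₀, hP₀⟩ := pM0.exists_le_sylow
  have hXm : x ∈ (P₀ : Subgroup G) :=
    hP₀ (Subgroup.mem_sup_right (Subgroup.mem_sup_right (Subgroup.mem_zpowers _)))
  have hYm : y ∈ (P₀ : Subgroup G) :=
    hP₀ (Subgroup.mem_sup_right (Subgroup.mem_sup_left (Subgroup.mem_zpowers _)))
  have hZm : z ∈ (P₀ : Subgroup G) :=
    hP₀ (Subgroup.mem_sup_left (Subgroup.mem_zpowers _))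
  have hcardP : Nat.card (P₀ : Subgroup G) = 2 ^ (2 * n + 1) := by
    rw [Sylow.card_eq_multiplicity, hcard]
  have hW : Cfsg.IsWreathed (P₀ : Subgroup G) := by
    refine ⟨n, hn, hcardP, ⟨_, hXm⟩, ⟨_, hYm⟩, ⟨_, hZm⟩, ?_, ?_, ?_, ?_, ?_⟩
    · rw [Subgroup.orderOf_mk]; exact hx
    · exact Subtype.ext hxy
    · rw [eq_bot_iff]
      intro g hg
      obtain ⟨h1, h2⟩ := Subgroup.mem_inf.mp hg
      obtain ⟨k, hk⟩ := Subgroup.mem_zpowers_iff.mp h1
      obtain ⟨l, hl⟩ := Subgroup.mem_zpowers_iff.mp h2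
      have hk' : x ^ k = g.1 := by rw [← hk]; simp
      have hl' : y ^ l = g.1 := by rw [← hl]; simp
      have hmem : g.1 ∈ Subgroup.zpowers x ⊓ Subgroup.zpowers y :=
        Subgroup.mem_inf.mpr ⟨Subgroup.mem_zpowers_iff.mpr ⟨k, hk'⟩,
          Subgroup.mem_zpowers_iff.mpr ⟨l, hl'⟩⟩
      rw [hinf, Subgroup.mem_bot] at hmem
      exact Subgroup.mem_bot.mpr (Subtype.ext hmem)
    · rw [Subgroup.orderOf_mk]; exact hz
    · exact Subtype.ext hzx
  exact isWreathed_of_mulEquiv (Sylow.equiv P₀ P) hW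

theorem isQuasiDihedral_sylow {G : Type*} [Group G] [Finite G] (P : Sylow 2 G) (n : ℕ) (hn : 3 ≤ n)
    (hcard : (Nat.card G).factorization 2 = n + 1) (x y : G) (hx : orderOf x = 2 ^ n)
    (hy : orderOf y = 2) (hrel : y * x * y⁻¹ = x ^ (2 ^ (n - 1) - 1)) :
    Cfsg.IsQuasiDihedral (P : Subgroup G) := by
  haveI : Fact (Nat.Prime 2) := ⟨Nat.prime_two⟩
  have hyy : y * y = 1 := by
    have := pow_orderOf_eq_one y
    rwa [hy, pow_two] at this
  have pX : IsPGroup 2 (Subgroup.zpowers x) :=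
    IsPGroup.of_card (n := n) (by rw [Nat.card_zpowers, hx])
  have pY : IsPGroup 2 (Subgroup.zpowers y) :=
    IsPGroup.of_card (n := 1) (by rw [Nat.card_zpowers, hy, pow_one])
  have hnorm : Subgroup.zpowers y ≤ Subgroup.normalizer (Subgroup.zpowers x : Set G) := by
    apply zpowers_le_normalizer_of_forall _ _ hyy
    intro h hh
    obtain ⟨k, rfl⟩ := Subgroup.mem_zpowers_iff.mp hh
    have : y * x ^ k * y⁻¹ = (y * x * y⁻¹) ^ k := by
      rw [conj_zpow]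
    rw [this, hrel]
    exact Subgroup.zpow_mem _ (Subgroup.pow_mem _ (Subgroup.mem_zpowers _) _) _
  have pM0 : IsPGroup 2 (Subgroup.zpowers y ⊔ Subgroup.zpowers x : Subgroup G) :=
    IsPGroup.to_sup_of_normal_right' pY pX hnorm
  obtain ⟨P₀, hP₀⟩ := pM0.exists_le_sylow
  have hXm : x ∈ (P₀ : Subgroup G) := hP₀ (Subgroup.mem_sup_right (Subgroup.mem_zpowers _))
  have hYm : y ∈ (P₀ : Subgroup G) := hP₀ (Subgroup.mem_sup_left (Subgroup.mem_zpowers _))
  have hcardP : Nat.card (P₀ : Subgroup G) = 2 ^ (n + 1) := by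
    rw [Sylow.card_eq_multiplicity, hcard]
  have hQ : Cfsg.IsQuasiDihedral (P₀ : Subgroup G) := by
    refine ⟨n, hn, hcardP, ⟨_, hXm⟩, ⟨_, hYm⟩, ?_, ?_, ?_⟩
    · rw [Subgroup.orderOf_mk]; exact hx
    · rw [Subgroup.orderOf_mk]; exact hy
    · exact Subtype.ext hrel
  exact isQuasiDihedral_of_mulEquiv (Sylow.equiv P₀ P) hQ


variable {F : Type*} [Field F] [Fintype F] {q : ℕ}

local notation "GL2" => Matrix.GeneralLinearGroup (Fin 2)

/-- the group `GU₂(q)` as in the statement -/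
abbrev GU2 (F : Type*) [Field F] (q : ℕ) : Subgroup (GL2 F) :=
  Cfsg.preserving (Units.coeHom (Matrix (Fin 2) (Fin 2) F)) (Cfsg.hermForm 2 F q)

theorem herm2 (u v : Fin 2 → F) : Cfsg.hermForm 2 F q u v = u 0 * v 0 ^ q + u 1 * v 1 ^ q := by
  unfold Cfsg.hermForm
  rw [Fin.sum_univ_two]

theorem mulVec2 (g : GL2 F) (u : Fin 2 → F) (i : Fin 2) :
    ((Units.coeHom (Matrix (Fin 2) (Fin 2) F) g).mulVec u) i = g i 0 * u 0 + g i 1 * u 1 := by
  simp [Matrix.mulVec, dotProduct, Fin.sum_univ_two]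

theorem mem_GU2_iff (hF : Fintype.card F = q ^ 2) (g : GL2 F) :
    g ∈ GU2 F q ↔ (g 0 0 * g 0 0 ^ q + g 1 0 * g 1 0 ^ q = 1 ∧
      g 0 0 * g 0 1 ^ q + g 1 0 * g 1 1 ^ q = 0 ∧
      g 0 1 * g 0 0 ^ q + g 1 1 * g 1 0 ^ q = 0 ∧
      g 0 1 * g 0 1 ^ q + g 1 1 * g 1 1 ^ q = 1) := by
  constructor
  · intro h
    have h00 := h ![1, 0] ![1, 0]
    have h01 := h ![1, 0] ![0, 1]
    have h10 := h ![0, 1] ![1, 0]
    have h11 := h ![0, 1] ![0, 1]
    simp only [herm2, mulVec2] at h00 h01 h10 h11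
    have hq0 : q ≠ 0 := by
      rintro rfl
      have := Fintype.one_lt_card (α := F)
      rw [hF] at this
      simp at this
    simp [hq0] at h00 h01 h10 h11
    exact ⟨h00, h01, h10, h11⟩
  · rintro ⟨h00, h01, h10, h11⟩ u v
    simp only [herm2, mulVec2]
    rw [Cfsg.Agent.Lib.Helper12.add_pow_of_card hF, Cfsg.Agent.Lib.Helper12.add_pow_of_card hF,
      mul_pow, mul_pow, mul_pow, mul_pow]
    linear_combination (u 0 * v 0 ^ q) * h00 + (u 0 * v 1 ^ q) * h01 + (u 1 * v 0 ^ q) * h10 +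
      (u 1 * v 1 ^ q) * h11


theorem q_ne_zero (hF : Fintype.card F = q ^ 2) : q ≠ 0 := by
  rintro rfl
  have := Fintype.one_lt_card (α := F)
  rw [hF] at this
  simp at this

theorem neg_pow_of_card (hF : Fintype.card F = q ^ 2) (a : F) : (-a) ^ q = -(a ^ q) := by
  have h := Cfsg.Agent.Lib.Helper12.add_pow_of_card hF (-a) a
  rw [neg_add_cancel, zero_pow (q_ne_zero hF)] at h
  linear_combination (-1 : F) * h

theorem sub_pow_of_card (hF : Fintype.card F = q ^ 2) (a b : F) : (a - b) ^ q = a ^ q - b ^ q := by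
  rw [sub_eq_add_neg, Cfsg.Agent.Lib.Helper12.add_pow_of_card hF, neg_pow_of_card hF]
  ring

theorem det_norm (hF : Fintype.card F = q ^ 2) {g : GL2 F} (hg : g ∈ GU2 F q) :
    (g 0 0 * g 1 1 - g 0 1 * g 1 0) ^ (q + 1) = 1 := by
  obtain ⟨h00, h01, h10, h11⟩ := (mem_GU2_iff hF g).mp hg
  rw [pow_succ, sub_pow_of_card hF, mul_pow, mul_pow]
  linear_combination (g 0 1 * g 0 1 ^ q + g 1 1 * g 1 1 ^ q) * h00 + h11 -
    (g 0 1 * g 0 0 ^ q + g 1 1 * g 1 0 ^ q) * h01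

theorem unit_ne_zero {δ : F} (hδ : δ ^ (q + 1) = 1) : δ ≠ 0 := by
  rintro rfl
  rw [zero_pow (by omega)] at hδ
  exact zero_ne_one hδ

/-- the element of `GU₂` with first column `v` and determinant `δ` -/
noncomputable def ofPair (v : Fin 2 → F) (δ : F) (hv : v 0 * v 0 ^ q + v 1 * v 1 ^ q = 1)
    (hδ : δ ^ (q + 1) = 1) : GL2 F :=
  mk (v 0) (-(δ * v 1 ^ q)) (v 1) (δ * v 0 ^ q) (by
    have : v 0 * (δ * v 0 ^ q) - -(δ * v 1 ^ q) * v 1 = δ := by
      linear_combination δ * hv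
    rw [this]
    exact unit_ne_zero hδ)

theorem ofPair_mem (hF : Fintype.card F = q ^ 2) (v : Fin 2 → F) (δ : F)
    (hv : v 0 * v 0 ^ q + v 1 * v 1 ^ q = 1) (hδ : δ ^ (q + 1) = 1) :
    ofPair v δ hv hδ ∈ GU2 F q := by
  rw [mem_GU2_iff hF]
  have hδ' : δ * δ ^ q = 1 := by rw [← hδ, pow_succ]; ring
  simp only [ofPair, mk_00, mk_01, mk_10, mk_11]
  refine ⟨hv, ?_, ?_, ?_⟩
  · rw [neg_pow_of_card hF, mul_pow, mul_pow, Cfsg.Agent.Lib.Helper12.pow_pow_of_card hF,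
      Cfsg.Agent.Lib.Helper12.pow_pow_of_card hF]
    ring
  · ring
  · rw [neg_pow_of_card hF, mul_pow, mul_pow, Cfsg.Agent.Lib.Helper12.pow_pow_of_card hF,
      Cfsg.Agent.Lib.Helper12.pow_pow_of_card hF]
    linear_combination (δ * δ ^ q) * hv + hδ'

theorem card_GU2 (hF : Fintype.card F = q ^ 2) :
    Nat.card (GU2 F q) = q * (q ^ 2 - 1) * (q + 1) := by
  have h1 := Cfsg.Agent.S0284.result hF 2
  have h2 := Cfsg.Agent.S0754.result hF (1 : F) one_ne_zero (one_pow q)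
  rw [if_pos (by decide)] at h1
  have hprod : Nat.card ({v : Fin 2 → F // Cfsg.hermForm 2 F q v v = 1} × {x : F // x ^ (q + 1) = 1})
      = q * (q ^ 2 - 1) * (q + 1) := by
    rw [Nat.card_prod, h1, h2]
    norm_num
  rw [← hprod]
  refine Nat.card_congr (Equiv.ofBijective
    (fun g : GU2 F q => ((⟨![g.1 0 0, g.1 1 0], by
        rw [herm2]
        exact ((mem_GU2_iff hF g.1).mp g.2).1⟩,
      ⟨g.1 0 0 * g.1 1 1 - g.1 0 1 * g.1 1 0, det_norm hF g.2⟩) :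
      {v : Fin 2 → F // Cfsg.hermForm 2 F q v v = 1} × {x : F // x ^ (q + 1) = 1})) ⟨?_, ?_⟩)
  · intro g g' h
    rw [Prod.mk.injEq, Subtype.mk.injEq, Subtype.mk.injEq] at h
    obtain ⟨hv, hd⟩ := h
    have e00 : g.1 0 0 = g'.1 0 0 := by
      have := congrFun hv 0
      simpa using this
    have e10 : g.1 1 0 = g'.1 1 0 := by
      have := congrFun hv 1
      simpa using this
    obtain ⟨h00, h01, h10, h11⟩ := (mem_GU2_iff hF g.1).mp g.2
    obtain ⟨k00, k01, k10, k11⟩ := (mem_GU2_iff hF g'.1).mp g'.2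
    have e11 : ∀ x : GU2 F q, x.1 1 1 = (x.1 0 0 * x.1 1 1 - x.1 0 1 * x.1 1 0) * x.1 0 0 ^ q := by
      intro x
      obtain ⟨x00, x01, x10, x11⟩ := (mem_GU2_iff hF x.1).mp x.2
      linear_combination (-(x.1 1 1)) * x00 + x.1 1 0 * x10
    have e01 : ∀ x : GU2 F q, x.1 0 1 = -((x.1 0 0 * x.1 1 1 - x.1 0 1 * x.1 1 0) * x.1 1 0 ^ q) := by
      intro x
      obtain ⟨x00, x01, x10, x11⟩ := (mem_GU2_iff hF x.1).mp x.2
      linear_combination (x.1 0 0) * x10 - x.1 0 1 * x00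
    apply Subtype.ext
    apply ext4
    · exact e00
    · rw [e01 g, e01 g', hd, e10]
    · exact e10
    · rw [e11 g, e11 g', hd, e00]
  · rintro ⟨⟨v, hv⟩, ⟨δ, hδ⟩⟩
    have hv' : v 0 * v 0 ^ q + v 1 * v 1 ^ q = 1 := by rw [← herm2]; exact hv
    refine ⟨⟨ofPair v δ hv' hδ, ofPair_mem hF v δ hv' hδ⟩, ?_⟩
    rw [Prod.mk.injEq, Subtype.mk.injEq, Subtype.mk.injEq]
    constructor
    · ext i
      fin_cases i <;> simp [ofPair]
    · simp only [ofPair, mk_00, mk_01, mk_10, mk_11]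
      linear_combination δ * hv'


theorem fact_card_GU {q : ℕ} (hq : q % 2 = 1) (hq3 : 3 ≤ q) :
    (q * (q ^ 2 - 1) * (q + 1)).factorization 2 =
      (q - 1).factorization 2 + 2 * (q + 1).factorization 2 := by
  have e1 : q ^ 2 - 1 = (q - 1) * (q + 1) := by
    obtain ⟨m, rfl⟩ : ∃ m, q = m + 1 := ⟨q - 1, by omega⟩
    have : (m + 1) ^ 2 = (m + 1 - 1) * (m + 1 + 1) + 1 := by
      simp only [Nat.add_sub_cancel]; ring
    omega
  have h1 : q - 1 ≠ 0 := by omega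
  have h2 : q + 1 ≠ 0 := by omega
  have h3 : q ≠ 0 := by omega
  have hq2 : ¬ 2 ∣ q := by omega
  rw [e1, Nat.factorization_mul (mul_ne_zero h3 (mul_ne_zero h1 h2)) h2,
    Nat.factorization_mul h3 (mul_ne_zero h1 h2), Nat.factorization_mul h1 h2]
  simp only [Finsupp.add_apply]
  rw [Nat.factorization_eq_zero_of_not_dvd hq2]
  ring

theorem zpowers_inf_subtype {G : Type*} [Group G] (H : Subgroup G) (x y : G) (hx : x ∈ H)
    (hy : y ∈ H) (h : Subgroup.zpowers x ⊓ Subgroup.zpowers y = ⊥) :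
    Subgroup.zpowers (⟨x, hx⟩ : H) ⊓ Subgroup.zpowers (⟨y, hy⟩ : H) = ⊥ := by
  rw [eq_bot_iff]
  intro g hg
  obtain ⟨h1, h2⟩ := Subgroup.mem_inf.mp hg
  obtain ⟨k, hk⟩ := Subgroup.mem_zpowers_iff.mp h1
  obtain ⟨l, hl⟩ := Subgroup.mem_zpowers_iff.mp h2
  have hk' : x ^ k = g.1 := by rw [← hk]; simp
  have hl' : y ^ l = g.1 := by rw [← hl]; simp
  have hmem : g.1 ∈ Subgroup.zpowers x ⊓ Subgroup.zpowers y :=
    Subgroup.mem_inf.mpr ⟨Subgroup.mem_zpowers_iff.mpr ⟨k, hk'⟩,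
      Subgroup.mem_zpowers_iff.mpr ⟨l, hl'⟩⟩
  rw [h, Subgroup.mem_bot] at hmem
  exact Subgroup.mem_bot.mpr (Subtype.ext hmem)

theorem d1_mem (hF : Fintype.card F = q ^ 2) (u : Fˣ) (hu : (u : F) ^ (q + 1) = 1) :
    (d1 u : GL2 F) ∈ GU2 F q := by
  rw [mem_GU2_iff hF]
  have hq0 := q_ne_zero hF
  have hu' : (u : F) * (u : F) ^ q = 1 := by rw [← hu, pow_succ]; ring
  simp [d1, hq0, hu']

theorem d2_mem (hF : Fintype.card F = q ^ 2) (u : Fˣ) (hu : (u : F) ^ (q + 1) = 1) :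
    (d2 u : GL2 F) ∈ GU2 F q := by
  rw [mem_GU2_iff hF]
  have hq0 := q_ne_zero hF
  have hu' : (u : F) * (u : F) ^ q = 1 := by rw [← hu, pow_succ]; ring
  simp [d2, hq0, hu']

theorem wz_mem (hF : Fintype.card F = q ^ 2) : (wz : GL2 F) ∈ GU2 F q := by
  rw [mem_GU2_iff hF]
  have hq0 := q_ne_zero hF
  simp [wz, hq0]

theorem wreathed_case (hF : Fintype.card F = q ^ 2) (hq : q % 4 = 3)
    (P : Sylow 2 (GU2 F q)) : Cfsg.IsWreathed (P : Subgroup (GU2 F q)) := by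
  set a := (q + 1).factorization 2 with hadef
  have ha2 : 2 ≤ a := by
    have h4 : 2 ^ 2 ∣ q + 1 := by
      norm_num
      omega
    exact (Nat.Prime.pow_dvd_iff_le_factorization Nat.prime_two (by omega)).mp h4
  have hdiv0 : 2 ^ a ∣ q + 1 := Nat.ordProj_dvd (q + 1) 2
  have hdiv : 2 ^ a ∣ Fintype.card F - 1 := by
    rw [hF]
    have e1 : q ^ 2 - 1 = (q + 1) * (q - 1) := by
      obtain ⟨m, hm⟩ : ∃ m, q = m + 1 := ⟨q - 1, by omega⟩
      rw [hm]
      have : (m + 1) ^ 2 = (m + 1 + 1) * (m + 1 - 1) + 1 := by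
        simp only [Nat.add_sub_cancel]; ring
      omega
    rw [e1]
    exact Dvd.dvd.mul_right hdiv0 _
  obtain ⟨ζ, hζ⟩ := exists_unit_orderOf (F := F) (2 ^ a) hdiv
  have hζ1 : (ζ : F) ^ (q + 1) = 1 := by
    have : ζ ^ (q + 1) = 1 := orderOf_dvd_iff_pow_eq_one.mp (hζ ▸ hdiv0)
    have := congrArg Units.val this
    simpa using this
  have hcard : (Nat.card (GU2 F q)).factorization 2 = 2 * a + 1 := by
    rw [card_GU2 hF, fact_card_GU (by omega) (by omega),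
      fact_two_of_mod_four (n := q - 1) (by omega)]
    ring
  refine isWreathed_sylow P a ha2 hcard ⟨d1 ζ, d1_mem hF ζ hζ1⟩ ⟨d2 ζ, d2_mem hF ζ hζ1⟩
    ⟨wz, wz_mem hF⟩ ?_ ?_ ?_ ?_ ?_ ?_
  · rw [Subgroup.orderOf_mk, orderOf_injective d1 d1_injective]; exact hζ
  · rw [Subgroup.orderOf_mk, orderOf_injective d2 d2_injective]; exact hζ
  · exact Subtype.ext (d1_d2_comm ζ ζ)
  · exact zpowers_inf_subtype _ _ _ _ _ (zpowers_d1_inf_d2 ζ ζ)
  · rw [Subgroup.orderOf_mk]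
    exact orderOf_eq_prime (by rw [pow_two]; exact wz_mul_self) wz_ne_one
  · exact Subtype.ext (wz_conj_d1 ζ)


theorem two_pow_card (hF : Fintype.card F = q ^ 2) : (2 : F) ^ q = 2 := by
  have h := Cfsg.Agent.Lib.Helper12.add_pow_of_card hF (1 : F) 1
  rw [one_pow] at h
  rw [← one_add_one_eq_two]
  exact h

/-- the split torus of `GU₂`: `α ↦ α E₊ + (α^q)⁻¹ E₋` where `E±` are the idempotents attached to
an isotropic pair determined by `μ` with `μ^(q+1) = -1`. -/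
noncomputable def tor (μ : F) (hμ : μ ≠ 0) (h2 : (2 : F) ≠ 0) : Fˣ →* GL2 F where
  toFun α := mk (((α : F) + ((α : F) ^ q)⁻¹) / 2) (((α : F) - ((α : F) ^ q)⁻¹) / 2 / μ)
    (μ * (((α : F) - ((α : F) ^ q)⁻¹) / 2)) (((α : F) + ((α : F) ^ q)⁻¹) / 2) (by
      have hα : (α : F) ≠ 0 := α.ne_zero
      have hαq : (α : F) ^ q ≠ 0 := pow_ne_zero _ hα
      have : ((α : F) + ((α : F) ^ q)⁻¹) / 2 * ((α + ((α : F) ^ q)⁻¹) / 2) -
          (α - ((α : F) ^ q)⁻¹) / 2 / μ * (μ * ((α - ((α : F) ^ q)⁻¹) / 2)) =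
          α * ((α : F) ^ q)⁻¹ := by
        field_simp
        ring
      rw [this]
      exact mul_ne_zero hα (inv_ne_zero hαq))
  map_one' := by
    apply ext4 <;> simp [one_apply'] <;> field_simp <;> ring
  map_mul' α β := by
    have hα : (α : F) ≠ 0 := α.ne_zero
    have hβ : (β : F) ≠ 0 := β.ne_zero
    have hαq : (α : F) ^ q ≠ 0 := pow_ne_zero _ hα
    have hβq : (β : F) ^ q ≠ 0 := pow_ne_zero _ hβ
    apply ext4 <;> simp only [mul_apply', mk_00, mk_01, mk_10, mk_11, Units.val_mul, mul_pow] <;>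
      field_simp <;> ring

theorem tor_injective (μ : F) (hμ : μ ≠ 0) (h2 : (2 : F) ≠ 0) :
    Function.Injective (tor (q := q) μ hμ h2) := by
  intro α β h
  have h00 := congrArg (fun g : GL2 F => g 0 0) h
  have h10 := congrArg (fun g : GL2 F => g 1 0) h
  simp only [tor, MonoidHom.coe_mk, OneHom.coe_mk, mk_00, mk_10] at h00 h10
  have h10' := mul_left_cancel₀ hμ h10
  apply Units.ext
  have e : ∀ x y : F, x = (x + y) / 2 + (x - y) / 2 := by
    intro x y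
    field_simp
    ring
  rw [e (α : F) ((α : F) ^ q)⁻¹, e (β : F) ((β : F) ^ q)⁻¹, h00, h10']

theorem tor_mem (hF : Fintype.card F = q ^ 2) (μ : F) (hμ : μ ≠ 0) (h2 : (2 : F) ≠ 0)
    (hμ1 : μ ^ (q + 1) = -1) (α : Fˣ) : tor (q := q) μ hμ h2 α ∈ GU2 F q := by
  rw [mem_GU2_iff hF]
  have hα : (α : F) ≠ 0 := α.ne_zero
  have hαq : (α : F) ^ q ≠ 0 := pow_ne_zero _ hα
  have hμq : μ ^ q = -μ⁻¹ := by
    have : μ ^ q * μ = -1 := by rw [← hμ1, pow_succ]
    field_simp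
    linear_combination this
  have hcc : ((α : F) ^ q) ^ q = α := Cfsg.Agent.Lib.Helper12.pow_pow_of_card hF _
  have hA : ((((α : F) + ((α : F) ^ q)⁻¹) / 2) ^ q) = ((α : F) ^ q + (α : F)⁻¹) / 2 := by
    rw [div_pow, Cfsg.Agent.Lib.Helper12.add_pow_of_card hF, inv_pow, hcc, two_pow_card hF]
  have hB : ((((α : F) - ((α : F) ^ q)⁻¹) / 2) ^ q) = ((α : F) ^ q - (α : F)⁻¹) / 2 := by
    rw [div_pow, sub_pow_of_card hF, inv_pow, hcc, two_pow_card hF]
  simp only [tor, MonoidHom.coe_mk, OneHom.coe_mk, mk_00, mk_01, mk_10, mk_11]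
  refine ⟨?_, ?_, ?_, ?_⟩
  · rw [mul_pow, hA, hB, hμq]
    field_simp
    ring
  · rw [div_pow, hA, hB, hμq]
    field_simp
    ring
  · rw [mul_pow, hA, hB, hμq]
    field_simp
    ring
  · rw [div_pow, hA, hB, hμq]
    field_simp
    ring


theorem qd_case (hF : Fintype.card F = q ^ 2) (hq : q % 4 = 1)
    (P : Sylow 2 (GU2 F q)) : Cfsg.IsQuasiDihedral (P : Subgroup (GU2 F q)) := by
  have hq0 := q_ne_zero hF
  have hq5 : 5 ≤ q := by
    have : q ≠ 1 := by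
      rintro rfl
      have := Fintype.one_lt_card (α := F)
      rw [hF] at this
      simp at this
    omega
  set b := (q - 1).factorization 2 with hbdef
  have hb2 : 2 ≤ b := by
    have h4 : 2 ^ 2 ∣ q - 1 := by
      norm_num
      omega
    exact (Nat.Prime.pow_dvd_iff_le_factorization Nat.prime_two (by omega)).mp h4
  have hdiv0 : 2 ^ b ∣ q - 1 := Nat.ordProj_dvd (q - 1) 2
  have e1 : q ^ 2 - 1 = (q - 1) * (q + 1) := by
    obtain ⟨m, hm⟩ : ∃ m, q = m + 1 := ⟨q - 1, by omega⟩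
    rw [hm]
    have : (m + 1) ^ 2 = (m + 1 - 1) * (m + 1 + 1) + 1 := by
      simp only [Nat.add_sub_cancel]; ring
    omega
  have hdiv : 2 ^ (b + 1) ∣ Fintype.card F - 1 := by
    rw [hF, e1, pow_succ]
    exact mul_dvd_mul hdiv0 (by omega)
  obtain ⟨l, hl⟩ := exists_unit_orderOf (F := F) (2 ^ (b + 1)) hdiv
  -- characteristic is odd
  have h2 : (2 : F) ≠ 0 := by
    apply Ring.two_ne_zero
    intro hchar
    have := (FiniteField.even_card_iff_char_two (F := F)).mp hchar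
    rw [hF] at this
    have h3 : q ^ 2 % 2 = 1 := by
      rw [Nat.pow_mod]
      have : q % 2 = 1 := by omega
      rw [this]
    omega
  -- μ with μ^(q+1) = -1
  have hneg : (-1 : F) ^ q = -1 := by
    rw [neg_pow_of_card hF, one_pow]
  have hcardμ := Cfsg.Agent.S0754.result hF (-1 : F) (neg_ne_zero.mpr one_ne_zero) hneg
  have hne : Nonempty {x : F // x ^ (q + 1) = -1} := by
    by_contra hempty
    rw [not_nonempty_iff] at hempty
    rw [Nat.card_of_isEmpty] at hcardμ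
    omega
  obtain ⟨⟨μ, hμ1⟩⟩ := hne
  have hμ : μ ≠ 0 := by
    rintro rfl
    rw [zero_pow (by omega)] at hμ1
    exact (neg_ne_zero.mpr one_ne_zero) hμ1.symm
  -- the involution
  obtain ⟨Y, hY⟩ : ∃ Y : GL2 F, Y = mk 1 0 0 (-1) (by simp) := ⟨_, rfl⟩
  have hYmem : Y ∈ GU2 F q := by
    rw [mem_GU2_iff hF, hY]
    simp [hq0, hneg]
  have hchar : (-1 : F) ≠ 1 := by
    intro h
    apply h2
    linear_combination (-1 : F) * h
  have hYY : Y * Y = 1 := by
    rw [hY]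
    apply ext4 <;> simp [mul_apply', one_apply']
  have hY1 : Y ≠ 1 := by
    intro h
    have := congrArg (fun g : GL2 F => g 1 1) h
    rw [hY] at this
    simp [one_apply'] at this
    exact hchar this
  have hYo : orderOf Y = 2 := orderOf_eq_prime (by rw [pow_two]; exact hYY) hY1
  -- conjugation by Y
  set N := q ^ 2 - 1 - q with hN
  have hlN : ((l ^ N : Fˣ) : F) = ((l : F) ^ q)⁻¹ := by
    have h1 : (l : F) ^ (q ^ 2 - 1) = 1 := by
      rw [← hF]
      exact FiniteField.pow_card_sub_one_eq_one _ l.ne_zero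
    have h3 : q ^ 2 - 1 = N + q := by
      have : q + 1 ≤ q ^ 2 := by nlinarith [hq5]
      omega
    rw [h3, pow_add] at h1
    rw [Units.val_pow_eq_pow_val]
    exact eq_inv_of_mul_eq_one_left h1
  have hconj : Y * tor (q := q) μ hμ h2 l * Y⁻¹ = (tor (q := q) μ hμ h2 l) ^ N := by
    rw [← map_pow, mul_inv_eq_iff_eq_mul, hY]
    have hcc : (((l : F) ^ q)⁻¹ ^ q)⁻¹ = (l : F) := by
      rw [inv_pow, Cfsg.Agent.Lib.Helper12.pow_pow_of_card hF, inv_inv]
    apply ext4 <;>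
      simp only [tor, MonoidHom.coe_mk, OneHom.coe_mk, mul_apply', mk_00, mk_01, mk_10, mk_11,
        hlN, hcc] <;> ring
  have hX : orderOf (tor (q := q) μ hμ h2 l) = 2 ^ (b + 1) := by
    rw [orderOf_injective _ (tor_injective μ hμ h2)]; exact hl
  have hpow : (tor (q := q) μ hμ h2 l) ^ N = (tor (q := q) μ hμ h2 l) ^ (2 ^ b - 1) := by
    rw [pow_eq_pow_iff_modEq, hX]
    have hm : ¬ 2 ∣ (q - 1) / 2 ^ b := Nat.not_dvd_ordCompl Nat.prime_two (by omega)
    have hqb : q - 1 = 2 ^ b * ((q - 1) / 2 ^ b) := (Nat.mul_div_cancel' hdiv0).symm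
    have hodd : ¬ 2 ∣ q * ((q - 1) / 2 ^ b) := by
      rw [Nat.Prime.dvd_mul Nat.prime_two]
      rintro (h | h)
      · omega
      · exact hm h
    obtain ⟨k, hk⟩ : ∃ k, q * ((q - 1) / 2 ^ b) = 2 * k + 1 :=
      ⟨q * ((q - 1) / 2 ^ b) / 2, by omega⟩
    have hpos : 1 ≤ 2 ^ b := Nat.one_le_two_pow
    have hqq : q ^ 2 - q = 2 ^ b * (q * ((q - 1) / 2 ^ b)) := by
      have : q ^ 2 - q = q * (q - 1) := by rw [pow_two, Nat.mul_sub, mul_one]
      rw [this]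
      conv_lhs => rw [hqb]
      ring
    have hN' : N = 2 ^ (b + 1) * k + (2 ^ b - 1) := by
      have h5 : N = q ^ 2 - q - 1 := by omega
      rw [h5, hqq, hk]
      have : 2 ^ b * (2 * k + 1) = 2 ^ (b + 1) * k + 2 ^ b := by ring
      omega
    rw [Nat.ModEq, hN', Nat.mul_add_mod]
  have hcard : (Nat.card (GU2 F q)).factorization 2 = b + 1 + 1 := by
    rw [card_GU2 hF, fact_card_GU (by omega) (by omega),
      fact_two_of_mod_four (n := q + 1) (by omega)]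
  refine isQuasiDihedral_sylow P (b + 1) (by omega) hcard
    ⟨tor (q := q) μ hμ h2 l, tor_mem hF μ hμ h2 hμ1 l⟩ ⟨Y, hYmem⟩ ?_ ?_ ?_
  · rw [Subgroup.orderOf_mk]; exact hX
  · rw [Subgroup.orderOf_mk]; exact hYo
  · apply Subtype.ext
    rw [Nat.add_sub_cancel]
    exact hconj.trans hpow


/-- Let F be a finite field with q² elements, q odd, let GU be the subgroup of GL(2,F) preserving the Hermitian form u₁v₁^q + u₂v₂^q, and P a Sylow 2-subgroup of GU. If q ≡ 1 (mod 4) then P is quasi-dihedral; if q ≡ 3 (mod 4) then P is wreathed. -/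
theorem result {F : Type*} [Field F] [Fintype F] (q : ℕ) (hF : Fintype.card F = q ^ 2) (hq : Odd q) (P : Sylow 2 ↥(Cfsg.preserving (Units.coeHom (Matrix (Fin 2) (Fin 2) F)) (Cfsg.hermForm 2 F q))) : (q % 4 = 1 → Cfsg.IsQuasiDihedral (P : Subgroup ↥(Cfsg.preserving (Units.coeHom (Matrix (Fin 2) (Fin 2) F)) (Cfsg.hermForm 2 F q)))) ∧ (q % 4 = 3 → Cfsg.IsWreathed (P : Subgroup ↥(Cfsg.preserving (Units.coeHom (Matrix (Fin 2) (Fin 2) F)) (Cfsg.hermForm 2 F q)))) := by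
  exact ⟨fun h => qd_case hF h P, fun h => wreathed_case hF h P⟩

end Cfsg.Agent.S1218
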