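import Cfsg.Statements.S1227
import Cfsg.Agent.Lib.Helper24.BSW

set_option autoImplicit false
open Cfsg

namespace Cfsg.Agent.S1227

/-- Let G be a finite group with a Sylow 2-subgroup T that is neither cyclic nor normal, such that the centralizer of every involution is an elementary abelian 2-group; put H = N_G(T), let u be an involution outside H and D = H ∩ uHu⁻¹. Then u inverts every element of D, |H| = |T|·(|T| − 1), and D is a complement to T in H. -/
theorem result {G : Type*} [Group G] [Finite G] (T : Sylow 2 G) (hnc : ¬ IsCyclic (T : Subgroup G)) (hnn : ¬ (T : Subgroup G).Normal) (hC : ∀ t : G, orderOf t = 2 → IsMulCommutative (Subgroup.centralizer ({t} : Set G)) ∧ ∀ c ∈ Subgroup.centralizer ({t} : Set G), c ^ 2 = 1) (u : G) (hu : orderOf u = 2) (huH : u ∉ Subgroup.normalizer ((T : Subgroup G) : Set G)) : (∀ d ∈ Subgroup.normalizer ((T : Subgroup G) : Set G) ⊓ (Subgroup.normalizer ((T : Subgroup G) : Set G)).map (MulAut.conj u).toMonoidHom, u * d * u⁻¹ = d⁻¹) ∧ Nat.card (Subgroup.normalizer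 ((T : Subgroup G) : Set G)) = Nat.card T * (Nat.card T - 1) ∧ Subgroup.IsComplement' ((Subgroup.normalizer ((T : Subgroup G) : Set G) ⊓ (Subgroup.normalizer ((T : Subgroup G) : Set G)).map (MulAut.conj u).toMonoidHom).subgroupOf (Subgroup.normalizer ((T : Subgroup G) : Set G))) ((T : Subgroup G).subgroupOf (Subgroup.normalizer ((T : Subgroup G) : Set G))) := by
  have h : Lib.Helper24.BSWHyp T := ⟨hnc, hnn, hC⟩
  have hcompl : Subgroup.IsComplement'
      ((Lib.Helper24.bswD T u).subgroupOf (Lib.Helper24.bswH T))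
      ((T : Subgroup G).subgroupOf (Lib.Helper24.bswH T)) := by
    apply Subgroup.isComplement'_of_disjoint_and_mul_eq_univ
    · rw [Subgroup.disjoint_def]
      intro x hx hxT
      rw [Subgroup.mem_subgroupOf] at hx hxT
      exact Subtype.ext (Lib.Helper24.bsw_D_inf_T h huH hx hxT)
    · rw [Set.eq_univ_iff_forall]
      intro g
      obtain ⟨d, hd, t, ht, hg⟩ := Lib.Helper24.bsw_H_eq h hu huH g.2
      rw [Set.mem_mul]
      refine ⟨⟨d, Lib.Helper24.bsw_D_le T u hd⟩, ?_, ⟨t, Lib.Helper24.bsw_T_le T ht⟩, ?_, ?_⟩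
      · exact Subgroup.mem_subgroupOf.mpr hd
      · exact Subgroup.mem_subgroupOf.mpr ht
      · exact Subtype.ext hg.symm
  refine ⟨fun d hd => Lib.Helper24.bsw_inverts h hu huH hd, ?_, hcompl⟩
  have h1 := hcompl.card_mul_card
  rw [Nat.card_congr (Subgroup.subgroupOfEquivOfLe (Lib.Helper24.bsw_D_le T u)).toEquiv,
    Nat.card_congr (Subgroup.subgroupOfEquivOfLe (Lib.Helper24.bsw_T_le T)).toEquiv] at h1
  have h2 := Lib.Helper24.bsw_card_D h hu huH
  have h3 : Nat.card (Lib.Helper24.bswD T u) = Nat.card (T : Subgroup G) - 1 := by omega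
  rw [← h3, mul_comm]
  exact h1.symm

end Cfsg.Agent.S1227
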