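import Cfsg.Statements.S1228
import Cfsg.Agent.Lib.Helper24.BSW

set_option autoImplicit false
open Cfsg

namespace Cfsg.Agent.S1228

/-- Let G be a finite group with a Sylow 2-subgroup T that is neither cyclic nor normal, such that the centralizer of every involution is an elementary abelian 2-group; put H = N_G(T), let u be an involution outside H and D = H ∩ uHu⁻¹. Then N_G(D) = D ⊔ ⟨u⟩, and a coset gH is fixed by every element of D exactly when gH = H or gH = uH. -/
theorem result {G : Type*} [Group G] [Finite G] (T : Sylow 2 G) (hnc : ¬ IsCyclic (T : Subgroup G)) (hnn : ¬ (T : Subgroup G).Normal) (hC : ∀ t : G, orderOf t = 2 → IsMulCommutative (Subgroup.centralizer ({t} : Set G)) ∧ ∀ c ∈ Subgroup.centralizer ({t} : Set G), c ^ 2 = 1) (u : G) (hu : orderOf u = 2) (huH : u ∉ Subgroup.normalizer ((T : Subgroup G) : Set G)) : Subgroup.normalizer ((Subgroup.normalizer ((T : Subgroup G) : Set G) ⊓ (Subgroup.normalizer ((T : Subgroup G) : Set G)).map (MulAut.conj u).toMonoidHom : Subgroup G) : Set G) = (Subgroup.normalizer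 ((T : Subgroup G) : Set G) ⊓ (Subgroup.normalizer ((T : Subgroup G) : Set G)).map (MulAut.conj u).toMonoidHom) ⊔ Subgroup.zpowers u ∧ ∀ g : G, ((∀ d ∈ Subgroup.normalizer ((T : Subgroup G) : Set G) ⊓ (Subgroup.normalizer ((T : Subgroup G) : Set G)).map (MulAut.conj u).toMonoidHom, d • (QuotientGroup.mk g : G ⧸ Subgroup.normalizer ((T : Subgroup G) : Set G)) = QuotientGroup.mk g) ↔ (QuotientGroup.mk g : G ⧸ Subgroup.normalizer ((T : Subgroup G) : Set G)) = QuotientGroup.mk 1 ∨ (QuotientGroup.mk g : G ⧸ Subgroup.normalizer ((T : Subgroup G) : Set G)) = QuotientGroup.mk u) := by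
  have h : Lib.Helper24.BSWHyp T := ⟨hnc, hnn, hC⟩
  have hfixiff : ∀ b : G ⧸ Lib.Helper24.bswH T, (∀ d ∈ Lib.Helper24.bswD T u, d • b = b) ↔
      b = Lib.Helper24.bswX T ∨ b = u • Lib.Helper24.bswX T := by
    intro b
    constructor
    · exact Lib.Helper24.bsw_fix_D h hu huH
    · rintro (rfl | rfl) d hd
      · exact ((Lib.Helper24.bsw_mem_D_iff T u d).mp hd).1
      · exact ((Lib.Helper24.bsw_mem_D_iff T u d).mp hd).2
  constructor
  · apply le_antisymm
    · intro g hg
      have hb : ∀ d ∈ Lib.Helper24.bswD T u,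
          d • (g • Lib.Helper24.bswX T) = g • Lib.Helper24.bswX T := by
        intro d hd
        have h1 : g⁻¹ * d * g ∈ Lib.Helper24.bswD T u := by
          have := (Subgroup.mem_normalizer_iff.mp (Subgroup.inv_mem _ hg) d).mp hd
          rwa [inv_inv] at this
        rw [← mul_smul]
        have : d * g = g * (g⁻¹ * d * g) := by group
        rw [this, mul_smul, ((Lib.Helper24.bsw_mem_D_iff T u _).mp h1).1]
      rcases (hfixiff _).mp hb with h1 | h1
      · have hgH := (Lib.Helper24.bsw_smul_X_eq_iff T g).mp h1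
        exact Subgroup.mem_sup_left (Lib.Helper24.bsw_normalizer_inf h hu huH hgH hg)
      · have hgH : u⁻¹ * g ∈ Lib.Helper24.bswH T := by
          rw [← Lib.Helper24.bsw_smul_X_eq_iff, mul_smul, h1, ← mul_smul, inv_mul_cancel, one_smul]
        have hgn := Subgroup.mul_mem _
          (Subgroup.inv_mem _ (Lib.Helper24.bsw_u_mem_normalizer h hu huH)) hg
        have hgD := Lib.Helper24.bsw_normalizer_inf h hu huH hgH hgn
        have : g = u * (u⁻¹ * g) := by group
        rw [this]
        exact Subgroup.mul_mem _ (Subgroup.mem_sup_right (Subgroup.mem_zpowers u))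
          (Subgroup.mem_sup_left hgD)
    · apply sup_le
      · exact Subgroup.le_normalizer
      · rw [Subgroup.zpowers_le]; exact Lib.Helper24.bsw_u_mem_normalizer h hu huH
  · intro g
    have := hfixiff (QuotientGroup.mk g)
    rw [Lib.Helper24.bsw_smul_X] at this
    exact this

end Cfsg.Agent.S1228
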