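import Cfsg.Statements.S1231
import Mathlib
-- import your own Cfsg.Agent.* helpers here

set_option autoImplicit false
open Cfsg

namespace Cfsg.Agent.S1231

/-- p-rank bounds pull back along injective homomorphisms. -/
theorem pRankLE_of_injective {X Y : Type*} [Group X] [Group Y] (p r : ℕ) (f : X →* Y)
    (hf : Function.Injective f) (h : Cfsg.PRankLE p r Y) : Cfsg.PRankLE p r X := by
  intro A hA hexp
  have h1 : IsMulCommutative (A.map f) := inferInstance
  have h2 : ∀ a ∈ A.map f, a ^ p = 1 := by
    intro a ha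
    obtain ⟨b, hb, rfl⟩ := Subgroup.mem_map.1 ha
    rw [← map_pow, hexp b hb, map_one]
  have h3 := h (A.map f) h1 h2
  have h4 : Nat.card (A.map f) = Nat.card A :=
    Nat.card_congr (A.equivMapOfInjective f hf).symm.toEquiv
  rw [h4] at h3
  exact h3

/-- Monotonicity of "large p-rank" for subgroups. -/
theorem big_mono {G : Type*} [Group G] (p r : ℕ) {X Y : Subgroup G} (hXY : X ≤ Y)
    (h : ¬ Cfsg.PRankLE p r ↥X) : ¬ Cfsg.PRankLE p r ↥Y := fun hY =>
  h (pRankLE_of_injective p r (Subgroup.inclusion hXY) (Subgroup.inclusion_injective hXY) hY)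

/-- Conjugation invariance of "large p-rank". -/
theorem big_conj {G : Type*} [Group G] (p r : ℕ) {X : Subgroup G} (c : G)
    (h : ¬ Cfsg.PRankLE p r ↥X) : ¬ Cfsg.PRankLE p r ↥(X.map (MulAut.conj c).toMonoidHom) := fun hY =>
  h (pRankLE_of_injective p r
    (X.equivMapOfInjective (MulAut.conj c).toMonoidHom (MulAut.conj c).injective).toMonoidHom
    (X.equivMapOfInjective (MulAut.conj c).toMonoidHom (MulAut.conj c).injective).injective hY)

/-- Let H be a subgroup of the finite group G, p a prime, k ≥ 1, and P a Sylow p-subgroup of H whose p-rank is at least k. Then N_G(X) ≤ H for every subgroup X of P of p-rank at least k if and only if H ∩ gHg⁻¹ has p-rank less than k for every g ∉ H. -/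
theorem result {G : Type*} [Group G] [Finite G] {p : ℕ} [Fact p.Prime] (k : ℕ) (hk : 1 ≤ k) (H : Subgroup G) (P : Sylow p ↥H) (hP : ¬ Cfsg.PRankLE p (k - 1) ↥(P : Subgroup ↥H)) : (∀ X : Subgroup G, X ≤ (P : Subgroup ↥H).map H.subtype → ¬ Cfsg.PRankLE p (k - 1) ↥X → Subgroup.normalizer (X : Set G) ≤ H) ↔ (∀ g : G, g ∉ H → Cfsg.PRankLE p (k - 1) ↥(H ⊓ H.map (MulAut.conj g).toMonoidHom)) := by
  classical
  set r := k - 1 with hr
  set P' : Subgroup G := (P : Subgroup ↥H).map H.subtype with hP'
  have hP'H : P' ≤ H := Subgroup.map_subtype_le _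
  have hP'p : IsPGroup p P' := P.isPGroup'.map _
  have hP'big : ¬ Cfsg.PRankLE p r ↥P' := fun h =>
    hP (pRankLE_of_injective p r
      ((P : Subgroup ↥H).equivMapOfInjective H.subtype H.subtype_injective).toMonoidHom
      ((P : Subgroup ↥H).equivMapOfInjective H.subtype H.subtype_injective).injective h)
  -- Sylow conjugation inside H
  have hsyl : ∀ E : Subgroup G, E ≤ H → IsPGroup p E → ∃ h ∈ H, E.map (MulAut.conj h).toMonoidHom ≤ P' := by
    intro E hEH hEp
    obtain ⟨Q, hQ⟩ := (hEp.comap_subtype (K := H)).exists_le_sylow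
    obtain ⟨h, hh⟩ := MulAction.exists_smul_eq ↥H Q P
    refine ⟨h, h.2, ?_⟩
    intro y hy
    obtain ⟨x, hx, rfl⟩ := Subgroup.mem_map.1 hy
    simp only [MulEquiv.coe_toMonoidHom, MulAut.conj_apply]
    have hxQ : (⟨x, hEH hx⟩ : H) ∈ (Q : Subgroup ↥H) := hQ (by
      rw [Subgroup.mem_comap]; exact hx)
    have h1 : h * ⟨x, hEH hx⟩ * h⁻¹ ∈ (P : Subgroup ↥H) := by
      rw [← hh, Sylow.coe_subgroup_smul, Subgroup.mem_pointwise_smul_iff_inv_smul_mem]
      simp only [MulAut.smul_def, MulAut.conj_inv_apply]
      have : h⁻¹ * (h * ⟨x, hEH hx⟩ * h⁻¹) * h = ⟨x, hEH hx⟩ := by group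
      rw [this]; exact hxQ
    exact Subgroup.mem_map.2 ⟨_, h1, by simp⟩
  constructor
  · -- (⟹)
    intro hN
    -- control of fusion
    have hctrl : ∀ n : ℕ, ∀ X₁ : Subgroup G, X₁ ≤ P' → ¬ Cfsg.PRankLE p r ↥X₁ →
        Nat.card P' - Nat.card X₁ ≤ n → ∀ c : G, X₁.map (MulAut.conj c).toMonoidHom ≤ P' → c ∈ H := by
      intro n
      induction n with
      | zero =>
        intro X₁ hX₁ hbig hcard c hc
        have hle : Nat.card P' ≤ Nat.card X₁ := Nat.le_of_sub_eq_zero (Nat.le_zero.1 hcard)
        have hXP : X₁ = P' := Subgroup.eq_of_le_of_card_ge hX₁ hle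
        apply hN X₁ hX₁ hbig
        -- c normalizes X₁
        have hmapeq : X₁.map (MulAut.conj c).toMonoidHom = X₁ := by
          have hc' : X₁.map (MulAut.conj c).toMonoidHom ≤ X₁ := by rw [hXP] at hc ⊢; exact hc
          apply Subgroup.eq_of_le_of_card_ge hc'
          have : Nat.card (X₁.map (MulAut.conj c).toMonoidHom) = Nat.card X₁ :=
            Nat.card_congr (X₁.equivMapOfInjective _ (MulAut.conj c).injective).symm.toEquiv
          exact this.ge
        rw [Subgroup.mem_normalizer_iff]
        intro h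
        constructor
        · intro hh
          rw [← hmapeq]
          exact Subgroup.mem_map.2 ⟨h, hh, rfl⟩
        · intro hh
          have hh' : c * h * c⁻¹ ∈ X₁.map (MulAut.conj c).toMonoidHom := by rw [hmapeq]; exact hh
          obtain ⟨w, hw, hwe⟩ := Subgroup.mem_map.1 hh'
          simp only [MulEquiv.coe_toMonoidHom, MulAut.conj_apply] at hwe
          have : w = h := by
            have := congrArg (fun z => c⁻¹ * z * c) hwe
            simpa [mul_assoc] using this
          rw [← this]; exact hw
      | succ n ih =>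
        intro X₁ hX₁ hbig hcard c hc
        by_cases hXP : X₁ = P'
        · apply ih X₁ hX₁ hbig _ c hc
          rw [hXP]; simp
        · have hlt : X₁ < P' := lt_of_le_of_ne hX₁ hXP
          -- normalizer grows
          haveI : Group.IsNilpotent ↥P' := hP'p.isNilpotent
          have hnc := Group.normalizerCondition_of_isNilpotent (G := ↥P') (X₁.subgroupOf P') (by
            rw [lt_top_iff_ne_top]
            intro htop
            rw [Subgroup.subgroupOf_eq_top] at htop
            exact hXP (le_antisymm hX₁ htop))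
          obtain ⟨y, hyN, hyX⟩ := SetLike.exists_of_lt hnc
          have hyX' : (y : G) ∉ X₁ := fun h => hyX (by rw [Subgroup.mem_subgroupOf]; exact h)
          have hynorm : (y : G) ∈ Subgroup.normalizer (X₁ : Set G) := by
            rw [Subgroup.mem_normalizer_iff] at hyN ⊢
            intro h
            constructor
            · intro hh
              have := (hyN ⟨h, hX₁ hh⟩).1 (by rw [Subgroup.mem_subgroupOf]; exact hh)
              rw [Subgroup.mem_subgroupOf] at this
              simpa using this
            · intro hh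
              have hhP : h ∈ P' := by
                have h1 : (y : G) * h * (y : G)⁻¹ ∈ P' := hX₁ hh
                have h2 : h = (y : G)⁻¹ * ((y : G) * h * (y : G)⁻¹) * (y : G) := by group
                rw [h2]
                exact P'.mul_mem (P'.mul_mem (P'.inv_mem y.2) h1) y.2
              have := (hyN ⟨h, hhP⟩).2 (by rw [Subgroup.mem_subgroupOf]; simpa using hh)
              rw [Subgroup.mem_subgroupOf] at this
              exact this
          set Y₁ : Subgroup G := P' ⊓ Subgroup.normalizer (X₁ : Set G) with hY₁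
          have hXY : X₁ ≤ Y₁ := le_inf hX₁ Subgroup.le_normalizer
          have hYP : Y₁ ≤ P' := inf_le_left
          have hXYlt : X₁ < Y₁ := by
            refine lt_of_le_of_ne hXY ?_
            intro heq
            apply hyX'
            rw [heq]
            exact ⟨y.2, hynorm⟩
          have hYbig : ¬ Cfsg.PRankLE p r ↥Y₁ := big_mono p r hXY hbig
          -- X₂ and its normalizer
          set X₂ : Subgroup G := X₁.map (MulAut.conj c).toMonoidHom with hX₂
          have hX₂big : ¬ Cfsg.PRankLE p r ↥X₂ := big_conj p r c hbig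
          have hNX₂ : Subgroup.normalizer (X₂ : Set G) ≤ H := hN X₂ hc hX₂big
          set Y₂ : Subgroup G := Y₁.map (MulAut.conj c).toMonoidHom with hY₂
          have hY₂N : Y₂ ≤ Subgroup.normalizer (X₂ : Set G) := by
            intro z hz
            obtain ⟨y', hy', rfl⟩ := Subgroup.mem_map.1 hz
            have hy'n : y' ∈ Subgroup.normalizer (X₁ : Set G) := hy'.2
            rw [Subgroup.mem_normalizer_iff] at hy'n ⊢
            simp only [MulEquiv.coe_toMonoidHom, MulAut.conj_apply]
            intro h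
            constructor
            · intro hh
              obtain ⟨x, hx, rfl⟩ := Subgroup.mem_map.1 hh
              simp only [MulEquiv.coe_toMonoidHom, MulAut.conj_apply]
              refine Subgroup.mem_map.2 ⟨y' * x * y'⁻¹, (hy'n x).1 hx, ?_⟩
              simp only [MulEquiv.coe_toMonoidHom, MulAut.conj_apply]
              group
            · intro hh
              obtain ⟨x, hx, hxe⟩ := Subgroup.mem_map.1 hh
              simp only [MulEquiv.coe_toMonoidHom, MulAut.conj_apply] at hxe
              have hx' : y'⁻¹ * x * y' ∈ X₁ := by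
                apply (hy'n _).2
                have : y' * (y'⁻¹ * x * y') * y'⁻¹ = x := by group
                rw [this]; exact hx
              refine Subgroup.mem_map.2 ⟨y'⁻¹ * x * y', hx', ?_⟩
              simp only [MulEquiv.coe_toMonoidHom, MulAut.conj_apply]
              have h3 : h = (c * y' * c⁻¹)⁻¹ * (c * x * c⁻¹) * (c * y' * c⁻¹) := by
                rw [hxe]; group
              rw [h3]; group
          have hY₂H : Y₂ ≤ H := hY₂N.trans hNX₂
          have hY₂p : IsPGroup p Y₂ := (hP'p.to_le hYP).map _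
          obtain ⟨h, hhH, hh⟩ := hsyl Y₂ hY₂H hY₂p
          have hcard' : Nat.card P' - Nat.card Y₁ ≤ n := by
            have h1 : Nat.card X₁ < Nat.card Y₁ := by
              by_contra hcon
              exact hXYlt.ne (Subgroup.eq_of_le_of_card_ge hXY (not_lt.1 hcon))
            have h0 : Nat.card Y₁ ≤ Nat.card P' := Subgroup.card_le_of_le hYP
            omega
          have hmap : Y₁.map (MulAut.conj (h * c)).toMonoidHom ≤ P' := by
            intro z hz
            obtain ⟨y', hy', rfl⟩ := Subgroup.mem_map.1 hz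
            simp only [MulEquiv.coe_toMonoidHom, MulAut.conj_apply]
            have : c * y' * c⁻¹ ∈ Y₂ := Subgroup.mem_map.2 ⟨y', hy', rfl⟩
            have h2 := hh (Subgroup.mem_map.2 ⟨_, this, rfl⟩)
            simp only [MulEquiv.coe_toMonoidHom, MulAut.conj_apply] at h2
            have h3 : h * c * y' * (h * c)⁻¹ = h * (c * y' * c⁻¹) * h⁻¹ := by group
            rw [h3]; exact h2
          have hhc := ih Y₁ hYP hYbig hcard' (h * c) hmap
          have : c = h⁻¹ * (h * c) := by group
          rw [this]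
          exact H.mul_mem (H.inv_mem hhH) hhc
    intro g hg
    by_contra hbig
    -- an elementary abelian p-subgroup of H ⊓ H^g
    have hex : ∃ E : Subgroup G, E ≤ H ⊓ H.map (MulAut.conj g).toMonoidHom ∧ IsPGroup p E ∧
        ¬ Cfsg.PRankLE p r ↥E := by
      unfold Cfsg.PRankLE at hbig
      push Not at hbig
      obtain ⟨A, hAc, hAe, hAcard⟩ := hbig
      refine ⟨A.map (H ⊓ H.map (MulAut.conj g).toMonoidHom).subtype, Subgroup.map_subtype_le _, ?_, ?_⟩
      · have hAp : IsPGroup p A := by
          intro a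
          refine ⟨1, ?_⟩
          rw [pow_one]
          apply Subtype.ext
          simp only [Subgroup.coe_pow, Subgroup.coe_one]
          exact hAe a a.2
        exact hAp.map _
      · intro hle
        have h1 := pRankLE_of_injective p r
          (A.equivMapOfInjective (H ⊓ H.map (MulAut.conj g).toMonoidHom).subtype
            (Subgroup.subtype_injective _)).toMonoidHom
          (A.equivMapOfInjective (H ⊓ H.map (MulAut.conj g).toMonoidHom).subtype
            (Subgroup.subtype_injective _)).injective hle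
        have h2 := h1 ⊤ inferInstance (fun a _ => by
          apply Subtype.ext
          simp only [Subgroup.coe_pow, Subgroup.coe_one]
          exact hAe a a.2)
        rw [Subgroup.card_top] at h2
        omega
    obtain ⟨E, hE, hEp, hEbig⟩ := hex
    have hEH : E ≤ H := hE.trans inf_le_left
    have hEHg : E ≤ H.map (MulAut.conj g).toMonoidHom := hE.trans inf_le_right
    -- g⁻¹ E g ≤ H
    set E' : Subgroup G := E.map (MulAut.conj g⁻¹).toMonoidHom with hE'
    have hE'H : E' ≤ H := by
      intro z hz
      obtain ⟨x, hx, rfl⟩ := Subgroup.mem_map.1 hz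
      obtain ⟨w, hw, hwe⟩ := Subgroup.mem_map.1 (hEHg hx)
      simp only [MulEquiv.coe_toMonoidHom, MulAut.conj_apply] at hwe ⊢
      rw [← hwe]
      have : g⁻¹ * (g * w * g⁻¹) * g⁻¹⁻¹ = w := by group
      rw [this]; exact hw
    obtain ⟨h₁, hh₁H, hh₁⟩ := hsyl E hEH hEp
    obtain ⟨h₂, hh₂H, hh₂⟩ := hsyl E' hE'H (hEp.map _)
    set X₁ : Subgroup G := E.map (MulAut.conj h₁).toMonoidHom with hX₁
    have hX₁big : ¬ Cfsg.PRankLE p r ↥X₁ := big_conj p r h₁ hEbig
    have hcmap : X₁.map (MulAut.conj (h₂ * g⁻¹ * h₁⁻¹)).toMonoidHom ≤ P' := by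
      intro z hz
      obtain ⟨x₁, hx₁, rfl⟩ := Subgroup.mem_map.1 hz
      obtain ⟨x, hx, rfl⟩ := Subgroup.mem_map.1 hx₁
      simp only [MulEquiv.coe_toMonoidHom, MulAut.conj_apply]
      have h1 : g⁻¹ * x * g⁻¹⁻¹ ∈ E' := Subgroup.mem_map.2 ⟨x, hx, rfl⟩
      have h2 := hh₂ (Subgroup.mem_map.2 ⟨_, h1, rfl⟩)
      simp only [MulEquiv.coe_toMonoidHom, MulAut.conj_apply] at h2
      have h3 : h₂ * g⁻¹ * h₁⁻¹ * (h₁ * x * h₁⁻¹) * (h₂ * g⁻¹ * h₁⁻¹)⁻¹ = h₂ * (g⁻¹ * x * g⁻¹⁻¹) * h₂⁻¹ := by
        group
      rw [h3]; exact h2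
    have hc := hctrl (Nat.card P' - Nat.card X₁) X₁ hh₁ hX₁big le_rfl _ hcmap
    apply hg
    have h4 : g = h₁⁻¹ * (h₂ * g⁻¹ * h₁⁻¹)⁻¹ * h₂ := by group
    rw [h4]
    exact H.mul_mem (H.mul_mem (H.inv_mem hh₁H) (H.inv_mem hc)) hh₂H
  · -- (⟸)
    intro hR X hX hbig g hgN
    by_contra hgH
    have hXle : X ≤ H ⊓ H.map (MulAut.conj g).toMonoidHom := by
      intro x hx
      refine ⟨hP'H (hX hx), ?_⟩
      rw [Subgroup.mem_normalizer_iff] at hgN
      have h1 : g⁻¹ * x * g ∈ X := by
        apply (hgN _).2
        have : g * (g⁻¹ * x * g) * g⁻¹ = x := by group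
        rw [this]; exact hx
      refine Subgroup.mem_map.2 ⟨g⁻¹ * x * g, hP'H (hX h1), ?_⟩
      simp only [MulEquiv.coe_toMonoidHom, MulAut.conj_apply]
      group
    exact big_mono p r hXle hbig (hR g hgH)

end Cfsg.Agent.S1231
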