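import Cfsg.Statements.S1236
import Mathlib
import Cfsg.Agent.Lib.Lead.NormalChain

set_option autoImplicit false
open Cfsg

namespace Cfsg.Agent.S1236

/-- in a finite cyclic group there are at most two elements of square one -/
theorem sq_eq_one_cases {C : Type*} [Group C] [Finite C] [IsCyclic C] (z g : C) (hz : z ≠ 1)
    (hz2 : z ^ 2 = 1) (hg2 : g ^ 2 = 1) : g = 1 ∨ g = z := by
  classical
  haveI := Fintype.ofFinite C
  by_contra hcon
  push Not at hcon
  have h1 := IsCyclic.card_pow_eq_one_le (α := C) (n := 2) (by norm_num)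
  have hsub : ({1, z, g} : Finset C) ⊆ Finset.univ.filter (fun a : C => a ^ 2 = 1) := by
    intro a ha
    simp only [Finset.mem_insert, Finset.mem_singleton] at ha
    rw [Finset.mem_filter]
    refine ⟨Finset.mem_univ _, ?_⟩
    rcases ha with rfl | rfl | rfl
    · exact one_pow 2
    · exact hz2
    · exact hg2
  have hcard : ({1, z, g} : Finset C).card = 3 := by
    rw [Finset.card_insert_of_notMem, Finset.card_insert_of_notMem, Finset.card_singleton]
    · rw [Finset.mem_singleton]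
      exact fun h => hcon.2 h.symm
    · rw [Finset.mem_insert, Finset.mem_singleton]
      rintro (h | h)
      · exact hz h.symm
      · exact hcon.1 h.symm
  have := (Finset.card_le_card hsub).trans h1
  omega

/-- a four-group in a group with a cyclic subgroup of "index two" acting suitably is
self-centralizing -/
theorem centralizer_four {Q : Type*} [Group Q] [Finite Q] (c0 : Q)
    (hmul : ∀ a b : Q, a ∉ Subgroup.zpowers c0 → b ∉ Subgroup.zpowers c0 →
      a * b ∈ Subgroup.zpowers c0)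
    (hcomm : ∀ w c : Q, w ∉ Subgroup.zpowers c0 → c ∈ Subgroup.zpowers c0 → w * c = c * w →
      c ^ 2 = 1)
    (V : Subgroup Q) (hVc : ∀ a ∈ V, ∀ b ∈ V, a * b = b * a) (hV2 : ∀ a ∈ V, a ^ 2 = 1)
    (hV4 : Nat.card V = 4) (g : Q) (hg : ∀ v ∈ V, v * g = g * v) : g ∈ V := by
  classical
  set C := Subgroup.zpowers c0 with hC
  -- two elements of `C` of square one
  have hcyc : ∀ z g : Q, z ∈ C → g ∈ C → z ≠ 1 → z ^ 2 = 1 → g ^ 2 = 1 → g = 1 ∨ g = z := by
    intro z g hz hg hz1 hz2 hg2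
    have := sq_eq_one_cases (C := ↥C) ⟨z, hz⟩ ⟨g, hg⟩
      (fun h => hz1 (congrArg Subtype.val h)) (Subtype.ext hz2) (Subtype.ext hg2)
    rcases this with h | h
    · exact Or.inl (congrArg Subtype.val h)
    · exact Or.inr (congrArg Subtype.val h)
  -- two distinct nonidentity elements of `V`
  obtain ⟨a, b, haV, hbV, ha1, hb1, hab⟩ : ∃ a b : Q, a ∈ V ∧ b ∈ V ∧ a ≠ 1 ∧ b ≠ 1 ∧ a ≠ b := by
    haveI : Fintype ↥V := Fintype.ofFinite _
    have h3 : 2 < Fintype.card ↥V := by
      rw [← Nat.card_eq_fintype_card, hV4]; norm_num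
    obtain ⟨x, y, z, hxy, hxz, hyz⟩ := Fintype.two_lt_card_iff.mp h3
    by_cases hx : x = 1
    · refine ⟨y, z, y.2, z.2, ?_, ?_, fun h => hyz (Subtype.ext h)⟩
      · intro h; exact hxy (hx.trans (Subtype.ext h).symm)
      · intro h; exact hxz (hx.trans (Subtype.ext h).symm)
    by_cases hy : y = 1
    · refine ⟨x, z, x.2, z.2, fun h => hx (Subtype.ext h), ?_, fun h => hxz (Subtype.ext h)⟩
      intro h; exact hyz (hy.trans (Subtype.ext h).symm)
    · exact ⟨x, y, x.2, y.2, fun h => hx (Subtype.ext h), fun h => hy (Subtype.ext h),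
        fun h => hxy (Subtype.ext h)⟩
  -- an element of `V` outside `C`
  obtain ⟨w, hwV, hwC⟩ : ∃ w ∈ V, w ∉ C := by
    by_contra hcon
    push Not at hcon
    rcases hcyc a b (hcon a haV) (hcon b hbV) ha1 (hV2 a haV) (hV2 b hbV) with h | h
    · exact hb1 h
    · exact hab h.symm
  have hw2 : w ^ 2 = 1 := hV2 w hwV
  have hwinv : w⁻¹ = w := by
    rw [inv_eq_iff_mul_eq_one, ← pow_two]; exact hw2
  -- a nonidentity element of `V ∩ C`
  obtain ⟨z, hzV, hzC, hz1⟩ : ∃ z ∈ V, z ∈ C ∧ z ≠ 1 := by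
    obtain ⟨v, hvV, hv1, hvw⟩ : ∃ v ∈ V, v ≠ 1 ∧ v ≠ w := by
      by_cases haw : a = w
      · exact ⟨b, hbV, hb1, fun h => hab (haw.trans h.symm)⟩
      · exact ⟨a, haV, ha1, haw⟩
    by_cases hvC : v ∈ C
    · exact ⟨v, hvV, hvC, hv1⟩
    · refine ⟨v * w, V.mul_mem hvV hwV, hmul v w hvC hwC, ?_⟩
      intro h
      apply hvw
      rw [← hwinv]
      exact eq_inv_of_mul_eq_one_left h
  -- centralizing elements inside `C`
  have key : ∀ g : Q, g ∈ C → (∀ v ∈ V, v * g = g * v) → g ∈ V := by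
    intro g hgC hg
    have h2 : g ^ 2 = 1 := hcomm w g hwC hgC (hg w hwV)
    rcases hcyc z g hzC hgC hz1 (hV2 z hzV) h2 with h | h
    · rw [h]; exact V.one_mem
    · rw [h]; exact hzV
  by_cases hgC : g ∈ C
  · exact key g hgC hg
  · have h1 : g * w ∈ V := by
      apply key (g * w) (hmul g w hgC hwC)
      intro v hv
      calc v * (g * w) = (v * g) * w := by rw [mul_assoc]
        _ = g * (v * w) := by rw [hg v hv, mul_assoc]
        _ = g * w * v := by rw [hVc v hv w hwV, mul_assoc]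
    have := V.mul_mem h1 (V.inv_mem hwV)
    rwa [mul_inv_cancel_right] at this

/-- the dihedral case -/
theorem dihedral_four (m : ℕ) (hm : 2 ≤ m) (V : Subgroup (DihedralGroup m))
    (hVc : ∀ a ∈ V, ∀ b ∈ V, a * b = b * a) (hV2 : ∀ a ∈ V, a ^ 2 = 1)
    (hV4 : Nat.card V = 4) (g : DihedralGroup m) (hg : ∀ v ∈ V, v * g = g * v) : g ∈ V := by
  haveI : NeZero m := ⟨by omega⟩
  have hmem : ∀ x : DihedralGroup m, x ∈ Subgroup.zpowers (DihedralGroup.r (1 : ZMod m)) ↔
      ∃ i, x = DihedralGroup.r i := by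
    intro x
    constructor
    · rintro ⟨k, rfl⟩
      exact ⟨_, DihedralGroup.r_one_zpow k⟩
    · rintro ⟨i, rfl⟩
      refine ⟨(i.val : ℤ), ?_⟩
      show (DihedralGroup.r (1 : ZMod m)) ^ ((i.val : ℕ) : ℤ) = DihedralGroup.r i
      rw [zpow_natCast, DihedralGroup.r_one_pow, ZMod.natCast_zmod_val]
  refine centralizer_four (DihedralGroup.r (1 : ZMod m)) ?_ ?_ V hVc hV2 hV4 g hg
  · intro a b ha hb
    rw [hmem] at ha hb ⊢
    cases a with
    | r i => exact absurd ⟨i, rfl⟩ ha
    | sr i =>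
      cases b with
      | r j => exact absurd ⟨j, rfl⟩ hb
      | sr j => exact ⟨j - i, DihedralGroup.sr_mul_sr i j⟩
  · intro w c hw hc hwc
    rw [hmem] at hw hc
    obtain ⟨j, rfl⟩ := hc
    cases w with
    | r i => exact absurd ⟨i, rfl⟩ hw
    | sr i =>
      rw [DihedralGroup.sr_mul_r, DihedralGroup.r_mul_sr] at hwc
      have h1 : i + j = i - j := by
        injection hwc
      have h2 : j + j = 0 := by
        have : i + j + j = i := by rw [h1]; ring
        calc j + j = (i + j + j) - i := by ring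
          _ = 0 := by rw [this]; ring
      rw [pow_two, DihedralGroup.r_mul_r, h2]
      rfl

/-- the quasi-dihedral case -/
theorem quasidihedral_four {Q : Type*} [Group Q] [Finite Q] (hQ : Cfsg.IsQuasiDihedral Q)
    (V : Subgroup Q) (hVc : ∀ a ∈ V, ∀ b ∈ V, a * b = b * a) (hV2 : ∀ a ∈ V, a ^ 2 = 1)
    (hV4 : Nat.card V = 4) (g : Q) (hg : ∀ v ∈ V, v * g = g * v) : g ∈ V := by
  obtain ⟨n, hn, hcard, x, y, hx, hy, hyx⟩ := hQ
  set C := Subgroup.zpowers x with hC
  set e := 2 ^ (n - 1) - 1 with he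
  have hpow : (2 : ℕ) ^ (n - 1) = 2 * 2 ^ (n - 2) := by
    rw [← pow_succ']; congr 1; omega
  have hpow2 : (2 : ℕ) ^ n = 4 * 2 ^ (n - 2) := by
    have : n = (n - 2) + 2 := by omega
    conv_lhs => rw [this]
    rw [pow_add]; ring
  have hpos : 2 ≤ 2 ^ (n - 2) := by
    calc 2 = 2 ^ 1 := (pow_one 2).symm
      _ ≤ 2 ^ (n - 2) := Nat.pow_le_pow_right (by norm_num) (by omega)
  have he1 : e = 2 * (2 ^ (n - 2) - 1) + 1 := by
    rw [he, hpow]; omega
  have hidx : C.index = 2 := by
    have h1 := C.card_mul_index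
    rw [hC, Nat.card_zpowers, hx, hcard, pow_succ] at h1
    exact Nat.eq_of_mul_eq_mul_left (pow_pos (by norm_num) n) h1
  have hcommC : ∀ a ∈ C, ∀ b ∈ C, a * b = b * a := by
    rintro _ ⟨i, rfl⟩ _ ⟨j, rfl⟩
    exact zpow_mul_comm x i j
  -- conjugation by `y` raises elements of `C` to the power `e`
  have hconj : ∀ c ∈ C, y * c * y⁻¹ = c ^ e := by
    rintro _ ⟨k, rfl⟩
    show y * x ^ k * y⁻¹ = (x ^ k) ^ e
    rw [← conj_zpow, hyx, ← zpow_natCast, ← zpow_natCast, ← zpow_mul, ← zpow_mul, mul_comm]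
  -- `c ^ e = c` forces `c ^ 2 = 1` for `c ∈ C`
  have hsq : ∀ c ∈ C, c ^ e = c → c ^ 2 = 1 := by
    intro c hc hce
    have h1 : c ^ (2 * (2 ^ (n - 2) - 1)) = 1 := by
      rw [he1, pow_succ] at hce
      exact mul_eq_right.mp hce
    have h2 : orderOf c ∣ 2 ^ n := by
      rw [← hx]; exact orderOf_dvd_of_mem_zpowers hc
    obtain ⟨k, hk, hk2⟩ := (Nat.dvd_prime_pow Nat.prime_two).mp h2
    have h3 : orderOf c ∣ 2 * (2 ^ (n - 2) - 1) := orderOf_dvd_of_pow_eq_one h1
    have hk1 : k ≤ 1 := by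
      by_contra hcon
      push Not at hcon
      have h4 : 2 ^ 2 ∣ 2 * (2 ^ (n - 2) - 1) := by
        refine (pow_dvd_pow 2 hcon).trans ?_
        rw [← hk2]; exact h3
      have h5 : 2 ∣ 2 ^ (n - 2) - 1 := by
        have : (2 : ℕ) * 2 ∣ 2 * (2 ^ (n - 2) - 1) := by simpa [pow_two] using h4
        exact Nat.dvd_of_mul_dvd_mul_left (by norm_num) this
      have h6 : 2 ∣ 2 ^ (n - 2) := dvd_pow_self 2 (by omega)
      omega
    apply orderOf_dvd_iff_pow_eq_one.mp
    rw [hk2]
    calc 2 ^ k ∣ 2 ^ 1 := pow_dvd_pow 2 hk1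
      _ = 2 := pow_one 2
  -- `y ∉ C`
  have hyC : y ∉ C := by
    intro hyC
    have h1 : y * x * y⁻¹ = x := by
      rw [hcommC y hyC x (Subgroup.mem_zpowers x), mul_inv_cancel_right]
    have h2 : x ^ e = x := by rw [← hyx, h1]
    have h3 := hsq x (Subgroup.mem_zpowers x) h2
    have h4 : orderOf x ∣ 2 := orderOf_dvd_of_pow_eq_one h3
    rw [hx, hpow2] at h4
    have := Nat.le_of_dvd (by norm_num) h4
    omega
  have hyinvC : y⁻¹ ∉ C := fun h => hyC (by simpa using C.inv_mem h)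
  refine centralizer_four x ?_ ?_ V hVc hV2 hV4 g hg
  · intro a b ha hb
    exact (Subgroup.mul_mem_iff_of_index_two hidx).mpr ⟨fun h => absurd h ha, fun h => absurd h hb⟩
  · intro w c hw hc hwc
    have h1 : y⁻¹ * w ∈ C :=
      (Subgroup.mul_mem_iff_of_index_two hidx).mpr ⟨fun h => absurd h hyinvC, fun h => absurd h hw⟩
    set c' := y⁻¹ * w with hc'
    have hw' : w = y * c' := by rw [hc', mul_inv_cancel_left]
    have h2 : y * c * y⁻¹ = c := by
      have h3 : y * c' * c = c * (y * c') := by rw [← hw']; exact hwc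
      have h4 : y * c * c' = c * y * c' := by
        calc y * c * c' = y * (c * c') := mul_assoc _ _ _
          _ = y * (c' * c) := by rw [hcommC c hc c' h1]
          _ = y * c' * c := (mul_assoc _ _ _).symm
          _ = c * (y * c') := h3
          _ = c * y * c' := (mul_assoc _ _ _).symm
      have h5 : y * c = c * y := mul_right_cancel h4
      rw [h5, mul_inv_cancel_right]
    apply hsq c hc
    rw [← hconj c hc, h2]

/-- Let R be a finite group, t a central involution of R such that R ⧸ ⟨t⟩ is dihedral (of order ≥ 4) or quasi-dihedral, and A ≤ R an elementary abelian subgroup of order 8 containing t. Then C_R(A) = A. -/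
theorem result {R : Type*} [Group R] [Finite R] (t : R) (ht : orderOf t = 2) (htz : t ∈ Subgroup.center R) [(Subgroup.zpowers t).Normal] (hq : (∃ m : ℕ, 2 ≤ m ∧ Nonempty (R ⧸ Subgroup.zpowers t ≃* DihedralGroup m)) ∨ Cfsg.IsQuasiDihedral (R ⧸ Subgroup.zpowers t)) (A : Subgroup R) (hA : Cfsg.IsElementaryAbelian 2 A) (hA8 : Nat.card A = 8) (htA : t ∈ A) : Subgroup.centralizer (A : Set R) = A := by
  set N := Subgroup.zpowers t with hN
  set π := QuotientGroup.mk' N with hπ
  set V : Subgroup (R ⧸ N) := A.map π with hV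
  have hNA : N ≤ A := by rw [hN, Subgroup.zpowers_le]; exact htA
  have hAcomm : ∀ a ∈ A, ∀ b ∈ A, a * b = b * a := fun a ha b hb =>
    congrArg Subtype.val (hA.1.is_comm.comm ⟨a, ha⟩ ⟨b, hb⟩)
  have hVc : ∀ a ∈ V, ∀ b ∈ V, a * b = b * a := by
    rintro _ ⟨a, ha, rfl⟩ _ ⟨b, hb, rfl⟩
    rw [← map_mul, ← map_mul, hAcomm a ha b hb]
  have hV2 : ∀ a ∈ V, a ^ 2 = 1 := by
    rintro _ ⟨a, ha, rfl⟩
    rw [← map_pow, hA.2 a ha, map_one]
  have hV4 : Nat.card V = 4 := by
    have h1 : V.comap π = A := by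
      rw [hV, Subgroup.comap_map_eq_self]
      rw [hπ, QuotientGroup.ker_mk']; exact hNA
    have h2 := Cfsg.Agent.Lib.Lead.NormalChain.card_comap_mk' N V
    have h3 : Nat.card ↥N = 2 := by rw [hN, Nat.card_zpowers, ht]
    rw [← hπ, h1, hA8, h3] at h2
    omega
  have hcent : ∀ g : R ⧸ N, (∀ v ∈ V, v * g = g * v) → g ∈ V := by
    intro g hg
    rcases hq with ⟨m, hm, ⟨e⟩⟩ | hqd
    · have h1 : e g ∈ V.map e.toMonoidHom := by
        apply dihedral_four m hm (V.map e.toMonoidHom)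
        · rintro _ ⟨a, ha, rfl⟩ _ ⟨b, hb, rfl⟩
          show e a * e b = e b * e a
          rw [← map_mul, ← map_mul, hVc a ha b hb]
        · rintro _ ⟨a, ha, rfl⟩
          show e a ^ 2 = 1
          rw [← map_pow, hV2 a ha, map_one]
        · rw [Subgroup.card_map_of_injective e.injective]; exact hV4
        · rintro _ ⟨v, hv, rfl⟩
          show e v * e g = e g * e v
          rw [← map_mul, ← map_mul, hg v hv]
      obtain ⟨a, ha, hae⟩ := h1
      have : a = g := e.injective hae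
      rw [← this]; exact ha
    · exact quasidihedral_four hqd V hVc hV2 hV4 g hg
  apply le_antisymm
  · intro g hg
    have h1 : π g ∈ V := by
      apply hcent
      rintro _ ⟨a, ha, rfl⟩
      rw [← map_mul, ← map_mul, Subgroup.mem_centralizer_iff.mp hg a ha]
    obtain ⟨a, ha, hag⟩ := h1
    have h2 : a⁻¹ * g ∈ N := by
      have := QuotientGroup.eq.mp hag
      exact this
    have := A.mul_mem ha (hNA h2)
    rwa [mul_inv_cancel_left] at this
  · intro a ha
    rw [Subgroup.mem_centralizer_iff]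
    intro b hb
    exact hAcomm b hb a ha

end Cfsg.Agent.S1236
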