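import Cfsg.Statements.S1239
import Cfsg.Agent.S0215
import Cfsg.Agent.Lib.Helper12.ZsD
import Cfsg.Agent.Lib.Helper23.CentFusion
import Cfsg.Agent.Lib.Helper18.QuasiDihedral

set_option autoImplicit false
open Cfsg

namespace Cfsg.Agent.S1239

open Cfsg.Agent.Lib.Helper12.Wr Cfsg.Agent.Lib.Helper23.WrAut Cfsg.Agent.Lib.Helper23.WrFus
open Cfsg.Agent.Lib.Helper23.AlperinCentric Cfsg.Agent.Lib.Helper29 Cfsg.Agent.Lib.Helper1

universe u

theorem central_of_wc {X : Type u} [Group X] (S : Subgroup X) (z : X) (hzS : z ∈ S)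
    (hwc : ∀ g : X, g * z * g⁻¹ ∈ S → g * z * g⁻¹ = z) :
    (⟨z, hzS⟩ : ↥S) ∈ Subgroup.center ↥S := by
  rw [Subgroup.mem_center_iff]
  intro r
  apply Subtype.ext
  show (r : X) * z = z * (r : X)
  have := hwc r (S.mul_mem (S.mul_mem r.2 hzS) (S.inv_mem r.2))
  calc (r : X) * z = ((r : X) * z * (r : X)⁻¹) * r := by group
    _ = z * r := by rw [this]

/-- wreathed case: all elements of `Z(S)` are isolated in `S` -/
theorem allIso_wr {X : Type u} [Group X] [Finite X] (S : Sylow 2 X)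
    (hS : Cfsg.IsWreathed (S : Subgroup X)) (z : X) (hzS : z ∈ S) (hz2 : orderOf z = 2)
    (hwc : ∀ g : X, g * z * g⁻¹ ∈ S → g * z * g⁻¹ = z) :
    ∀ x ∈ (Subgroup.center ↥(S : Subgroup X)).map (S : Subgroup X).subtype, ∀ g : X,
      g * x * g⁻¹ ∈ (S : Subgroup X) → g * x * g⁻¹ = x := by
  obtain ⟨D⟩ := exists_data hS
  have hzz : z * z = 1 := by
    have := pow_orderOf_eq_one z
    rwa [hz2, pow_two] at this
  have hz1 : z ≠ 1 := by
    intro h; rw [h, orderOf_one] at hz2; omega
  have hcS : cG S D = z := by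
    have hcen := central_of_wc (S : Subgroup X) z hzS hwc
    have := Cfsg.Agent.Lib.Helper23.CentFus.eq_cc_of_central D _ hcen
      (fun h => hz1 (congrArg (fun a : ↥(S : Subgroup X) => (a : X)) h))
      (by apply Subtype.ext; exact hzz)
    exact (congrArg (fun a : ↥(S : Subgroup X) => (a : X)) this).symm
  have hZS : ∀ a ∈ ZG S, ∀ s ∈ (S : Subgroup X), s * a = a * s := by
    intro a ha s hs
    exact Subgroup.mem_centralizer_iff.mp
      (ZG_le_centralizer_of_le (S := S) (le_refl (S : Subgroup X)) ha) s hs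
  have hstep : ∀ T ∈ fam S D, ∀ n ∈ Subgroup.normalizer (T : Set X), ∀ a ∈ T,
      (a ∈ ZG S → n⁻¹ * a * n = a) := by
    rintro T (rfl | rfl | ⟨r, rfl⟩) n hn a haT haZ
    · obtain ⟨c, hc, s, hs, rfl⟩ := normalizer_S_decomp S D n hn
      have h1 := Subgroup.mem_centralizer_iff.mp hc a (im_le S _ haZ)
      have h2 := hZS a haZ s hs
      calc (c * s)⁻¹ * a * (c * s) = s⁻¹ * (c⁻¹ * (a * c)) * s := by group
        _ = s⁻¹ * (c⁻¹ * (c * a)) * s := by rw [h1]
        _ = s⁻¹ * (a * s) := by group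
        _ = s⁻¹ * (s * a) := by rw [h2]
        _ = a := by group
    · rcases index_AG S D with h₁ | h₁
      · obtain ⟨s, hs, h⟩ := local_AG_two S D h₁ n hn
        rw [h a haT]
        have h2 := hZS a haZ s hs
        calc s⁻¹ * a * s = s⁻¹ * (a * s) := by group
          _ = s⁻¹ * (s * a) := by rw [h2]
          _ = a := by group
      · exfalso
        obtain ⟨g, hg⟩ := isConj_iff.mp (isConj_aG_cG S D h₁)
        rw [hcS] at hg
        have h3 : g * z * g⁻¹ = z := hwc g (by rw [hg]; exact (aa D : ↥(S : Subgroup X)).2)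
        have : aa D = cc D := by
          apply Subtype.ext
          show aG S D = cG S D
          rw [hcS, ← hg, h3]
        exact aa_ne_cc D this
    · obtain ⟨Q'', w', ⟨e⟩, hq', rfl⟩ := exists_qDat_r (S := S) (D := D) r
      have hnC := normalizer_VG_le_centralizer_ZG hq' e hn
      have h1 := Subgroup.mem_centralizer_iff.mp hnC a haZ
      calc n⁻¹ * a * n = n⁻¹ * (a * n) := by group
        _ = n⁻¹ * (n * a) := by rw [h1]
        _ = a := by group
  intro x hx g hg
  have hxS : x ∈ (S : Subgroup X) := Subgroup.map_subtype_le _ hx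
  have hfus := fus_wreathed S D ({x} : Set X) (Set.singleton_subset_iff.mpr hxS) g⁻¹ (by
    rw [rcs_singleton]
    simp only [inv_inv]
    exact Set.singleton_subset_iff.mpr hg)
  have key := Fus.elem (𝓕 := fam S D) (R := fun a b => a ∈ ZG S → b = a)
    (fun a _ => rfl)
    (fun a b c h1 h2 ha => by
      have hb := h1 ha
      have hc := h2 (by rw [hb]; exact ha)
      rw [hc, hb])
    hstep hfus
  have := key hx
  simpa using this

/-- quasi-dihedral case: all elements of `Z(S)` are isolated in `S` -/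
theorem allIso_qd {X : Type u} [Group X] [Finite X] (S : Sylow 2 X)
    (hS : Cfsg.IsQuasiDihedral (S : Subgroup X)) (z : X) (hzS : z ∈ S) (hz2 : orderOf z = 2)
    (hwc : ∀ g : X, g * z * g⁻¹ ∈ S → g * z * g⁻¹ = z) :
    ∀ x ∈ (Subgroup.center ↥(S : Subgroup X)).map (S : Subgroup X).subtype, ∀ g : X,
      g * x * g⁻¹ ∈ (S : Subgroup X) → g * x * g⁻¹ = x := by
  obtain ⟨n, x₀, y₀, hQD⟩ := Cfsg.Agent.Lib.Helper18.isQuasiDihedral_iff.mp hS
  have hz1 : z ≠ 1 := by
    intro h; rw [h, orderOf_one] at hz2; omega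
  have hcen := central_of_wc (S : Subgroup X) z hzS hwc
  have hzq : (⟨z, hzS⟩ : ↥(S : Subgroup X)) = Cfsg.Agent.Lib.Helper18.QD.z n x₀ := by
    rcases (hQD.mem_center_iff _).mp hcen with h | h
    · exact absurd (congrArg Subtype.val h) hz1
    · exact h
  rintro x ⟨s, hs, rfl⟩ g hg
  rcases (hQD.mem_center_iff s).mp hs with h | h
  · subst h; simp
  · have hsz : ((S : Subgroup X).subtype s) = z := by rw [h, ← hzq]; rfl
    rw [hsz] at hg ⊢
    exact hwc g hg

/-- Let X be a finite group whose Sylow 2-subgroup S is quasi-dihedral or wreathed, and suppose some involution of S is isolated in X. Then the product of the largest normal odd-order subgroup O(X) with the centre of S is normal in X. -/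
theorem result {X : Type*} [Group X] [Finite X] (S : Sylow 2 X) (hS : Cfsg.IsQuasiDihedral (S : Subgroup X) ∨ Cfsg.IsWreathed (S : Subgroup X)) (z : X) (hzS : z ∈ S) (hz : Cfsg.IsIsolatedInvolution z) : (Cfsg.oddCore X ⊔ (Subgroup.center (S : Subgroup X)).map (S : Subgroup X).subtype).Normal := by
  have hwc := Cfsg.Agent.Lib.Helper12.ZsA.weakly_closed z hz S hzS
  have hall : ∀ x ∈ (Subgroup.center ↥(S : Subgroup X)).map (S : Subgroup X).subtype, ∀ g : X,
      g * x * g⁻¹ ∈ (S : Subgroup X) → g * x * g⁻¹ = x := by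
    rcases hS with hS | hS
    · exact allIso_qd S hS z hzS hz.1 hwc
    · exact allIso_wr S hS z hzS hz.1 hwc
  have hiso : Cfsg.Agent.Lib.Helper13.ZStarIso.AllIso S
      ((Subgroup.center ↥(S : Subgroup X)).map (S : Subgroup X).subtype) :=
    ⟨Subgroup.map_subtype_le _, hall⟩
  have hcomm : ∀ y ∈ (Subgroup.center ↥(S : Subgroup X)).map (S : Subgroup X).subtype, ∀ g : X,
      y * g * y⁻¹ * g⁻¹ ∈ Cfsg.pPrimeCore 2 X :=
    fun y hy g => Cfsg.Agent.Lib.Helper13.ZStarIso.comm_mem_oddCore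
      (fun G _ _ P t ht htP hiso => Cfsg.Agent.S0215.result P t ht htP hiso) S _ hiso y hy g
  constructor
  intro n hn g
  have hle : Cfsg.oddCore X ⊔ (Subgroup.center ↥(S : Subgroup X)).map (S : Subgroup X).subtype ≤
      (Cfsg.oddCore X ⊔ (Subgroup.center ↥(S : Subgroup X)).map (S : Subgroup X).subtype).comap
        (MulAut.conj g).toMonoidHom := by
    apply sup_le
    · intro o ho
      rw [Subgroup.mem_comap]
      apply Subgroup.mem_sup_left
      show g * o * g⁻¹ ∈ _
      exact (inferInstance : (Cfsg.pPrimeCore 2 X).Normal).conj_mem o ho g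
    · intro ζ hζ
      rw [Subgroup.mem_comap]
      show g * ζ * g⁻¹ ∈ _
      have hk := hcomm ζ hζ g⁻¹
      have hk' : g * (ζ * g⁻¹ * ζ⁻¹ * g⁻¹⁻¹) * g⁻¹ ∈ Cfsg.pPrimeCore 2 X :=
        (inferInstance : (Cfsg.pPrimeCore 2 X).Normal).conj_mem _ hk g
      have e : g * ζ * g⁻¹ = (g * (ζ * g⁻¹ * ζ⁻¹ * g⁻¹⁻¹) * g⁻¹) * ζ := by group
      rw [e]
      exact Subgroup.mul_mem _ (Subgroup.mem_sup_left hk') (Subgroup.mem_sup_right hζ)
  exact hle hn

end Cfsg.Agent.S1239
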