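import Cfsg.Statements.S1241
import Mathlib
-- import your own Cfsg.Agent.* helpers here

set_option autoImplicit false
open Cfsg

namespace Cfsg.Agent.S1241

/-- Let G be a finite group, p a prime, H a subgroup of index prime to p, K a subgroup of H normal in H with H/K commutative, and g ∈ H ∖ K an element of p-power order such that for all integers m and all a ∈ G with a g^m a⁻¹ ∈ H one has a g^m a⁻¹ ∈ g^m K. Then g ∉ G'. -/
theorem result {G : Type*} [Group G] [Finite G] {p : ℕ} [Fact p.Prime] (H K : Subgroup G) (hHK : K ≤ H) (hKn : (K.subgroupOf H).Normal) (hab : ∀ x ∈ H, ∀ y ∈ H, x * y * x⁻¹ * y⁻¹ ∈ K) (hidx : Nat.Coprime p H.index) (g : G) (hgH : g ∈ H) (hgK : g ∉ K) (hgp : ∃ k : ℕ, orderOf g = p ^ k) (hctrl : ∀ (m : ℤ) (a : G), a * g ^ m * a⁻¹ ∈ H → (a * g ^ m * a⁻¹) * (g ^ m)⁻¹ ∈ K) : g ∉ commutator G := by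
  classical
  haveI := hKn
  letI instA : CommGroup (↥H ⧸ K.subgroupOf H) :=
    { (inferInstance : Group (↥H ⧸ K.subgroupOf H)) with
      mul_comm := by
        intro a b
        obtain ⟨x, rfl⟩ := QuotientGroup.mk_surjective a
        obtain ⟨y, rfl⟩ := QuotientGroup.mk_surjective b
        rw [← QuotientGroup.mk_mul, ← QuotientGroup.mk_mul, QuotientGroup.eq]
        rw [Subgroup.mem_subgroupOf]
        have := hab ((y : G)⁻¹) (H.inv_mem y.2) ((x : G)⁻¹) (H.inv_mem x.2)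
        simpa [mul_assoc] using this }
  let ϕ : ↥H →* (↥H ⧸ K.subgroupOf H) := QuotientGroup.mk' (K.subgroupOf H)
  let V : G →* (↥H ⧸ K.subgroupOf H) := MonoidHom.transfer ϕ
  intro hgcomm
  have hV1 : V g = 1 := by
    have h1 : commutator G ≤ V.ker := Abelianization.commutator_subset_ker V
    exact h1 hgcomm
  haveI : Fintype (Quotient (MulAction.orbitRel (Subgroup.zpowers g) (G ⧸ H))) := Fintype.ofFinite _
  have hV2 : V g = (ϕ ⟨g, hgH⟩) ^ H.index := by
    rw [show V g = MonoidHom.transfer ϕ g from rfl,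
      MonoidHom.transfer_eq_prod_quotient_orbitRel_zpowers_quot,
      Subgroup.index_eq_sum_minimalPeriod H g, ← Finset.prod_pow_eq_pow_sum]
    apply Finset.prod_congr rfl
    intro q _
    set n := Function.minimalPeriod (g • ·) q.out with hn
    set a : G := (q.out.out : G) with ha
    have hmem : a⁻¹ * g ^ n * a ∈ H := QuotientGroup.out_conj_pow_minimalPeriod_mem H g q.out
    have h2 := hctrl (n : ℤ) a⁻¹ (by simpa using hmem)
    rw [zpow_natCast, inv_inv] at h2
    -- ϕ of both agree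
    rw [← map_pow]
    show (QuotientGroup.mk' (K.subgroupOf H)) _ = (QuotientGroup.mk' (K.subgroupOf H)) _
    rw [← mul_inv_eq_one, ← map_inv, ← map_mul]
    rw [QuotientGroup.mk'_apply, QuotientGroup.eq_one_iff, Subgroup.mem_subgroupOf]
    simpa using h2
  rw [hV2] at hV1
  obtain ⟨k, hk⟩ := hgp
  have h3 : (ϕ ⟨g, hgH⟩) ^ (p ^ k) = 1 := by
    rw [← map_pow]
    have : (⟨g, hgH⟩ : H) ^ (p ^ k) = 1 := by
      apply Subtype.ext
      simp only [Subgroup.coe_pow, Subgroup.coe_one]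
      rw [← hk]; exact pow_orderOf_eq_one g
    rw [this, map_one]
  have h4 : orderOf (ϕ ⟨g, hgH⟩) ∣ H.index := orderOf_dvd_of_pow_eq_one hV1
  have h5 : orderOf (ϕ ⟨g, hgH⟩) ∣ p ^ k := orderOf_dvd_of_pow_eq_one h3
  have h6 : Nat.Coprime (p ^ k) H.index := Nat.Coprime.pow_left k hidx
  have h7 : orderOf (ϕ ⟨g, hgH⟩) ∣ 1 := by
    rw [← Nat.Coprime.gcd_eq_one h6]; exact Nat.dvd_gcd h5 h4
  have h8 : ϕ ⟨g, hgH⟩ = 1 := orderOf_eq_one_iff.1 (Nat.dvd_one.1 h7)
  apply hgK
  have h9 : (⟨g, hgH⟩ : H) ∈ K.subgroupOf H := (QuotientGroup.eq_one_iff _).1 h8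
  exact h9

end Cfsg.Agent.S1241
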