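import Cfsg.Statements.S1242
import Mathlib
-- import your own Cfsg.Agent.* helpers here

set_option autoImplicit false
open Cfsg

namespace Cfsg.Agent.S1242

/-- Let G be a finite group, p a prime and H a subgroup of index prime to p such that any two elements of H of p-power order that are conjugate in G are conjugate in H. Then (O^p(G)·G') ∩ H = O^p(H)·H', where O^p denotes the subgroup generated by the elements of order prime to p. -/
theorem result {G : Type*} [Group G] [Finite G] {p : ℕ} [Fact p.Prime] (H : Subgroup G) (hidx : Nat.Coprime p H.index) (hfus : ∀ g ∈ H, (∃ k : ℕ, orderOf g = p ^ k) → ∀ a : G, a * g * a⁻¹ ∈ H → ∃ h ∈ H, h * g * h⁻¹ = a * g * a⁻¹) : (Cfsg.pResidual p G ⊔ commutator G) ⊓ H = (Cfsg.pResidual p ↥H ⊔ commutator ↥H).map H.subtype := by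
  classical
  have hp : p.Prime := Fact.out
  set K' : Subgroup ↥H := Cfsg.pResidual p ↥H ⊔ commutator ↥H with hK'
  have hcomK : commutator ↥H ≤ K' := le_sup_right
  have hresK : Cfsg.pResidual p ↥H ≤ K' := le_sup_left
  have hcomm_mem : ∀ x y : ↥H, x * y * x⁻¹ * y⁻¹ ∈ K' := by
    intro x y
    apply hcomK
    rw [commutator_def]
    have := Subgroup.commutator_mem_commutator (Subgroup.mem_top x) (Subgroup.mem_top y)
    rwa [commutatorElement_def] at this
  haveI hK'n : K'.Normal := by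
    constructor
    intro k hk h
    have : h * k * h⁻¹ = (h * k * h⁻¹ * k⁻¹) * k := by group
    rw [this]
    exact K'.mul_mem (hcomm_mem h k) hk
  letI instA : CommGroup (↥H ⧸ K') :=
    { (inferInstance : Group (↥H ⧸ K')) with
      mul_comm := by
        intro a b
        obtain ⟨x, rfl⟩ := QuotientGroup.mk_surjective a
        obtain ⟨y, rfl⟩ := QuotientGroup.mk_surjective b
        rw [← QuotientGroup.mk_mul, ← QuotientGroup.mk_mul, QuotientGroup.eq]
        have := hcomm_mem y⁻¹ x⁻¹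
        simpa [mul_assoc] using this }
  let ϕ : ↥H →* (↥H ⧸ K') := QuotientGroup.mk' K'
  let V : G →* (↥H ⧸ K') := MonoidHom.transfer ϕ
  -- elements of H of order prime to p are killed by ϕ
  have hϕres : ∀ h : ↥H, Nat.Coprime (orderOf h) p → ϕ h = 1 := by
    intro h hh
    apply (QuotientGroup.eq_one_iff h).2
    apply hresK
    exact Subgroup.subset_closure hh
  -- the quotient is a p-group
  have hAp : ∀ a : ↥H ⧸ K', ∃ j : ℕ, a ^ (p ^ j) = 1 := by
    intro a
    obtain ⟨h, rfl⟩ := QuotientGroup.mk_surjective a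
    obtain ⟨j, m, hpm, hjm⟩ := Nat.exists_eq_pow_mul_and_not_dvd (orderOf_pos h).ne' p hp.one_lt.ne'
    refine ⟨j, ?_⟩
    have h1 : orderOf (h ^ (p ^ j)) = m := by
      rw [orderOf_pow' h (pow_pos hp.pos j).ne', hjm, Nat.gcd_eq_right (Dvd.intro _ rfl)]
      exact Nat.mul_div_cancel_left m (pow_pos hp.pos j)
    have h2 : ϕ (h ^ (p ^ j)) = 1 := by
      apply hϕres
      rw [h1]
      exact ((Nat.Prime.coprime_iff_not_dvd hp).2 hpm).symm
    rw [map_pow] at h2
    exact h2
  have hcoprime_one : ∀ (a : ↥H ⧸ K') (n : ℕ), Nat.Coprime n p → a ^ n = 1 → a = 1 := by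
    intro a n hn han
    obtain ⟨j, hj⟩ := hAp a
    have h4 : orderOf a ∣ n := orderOf_dvd_of_pow_eq_one han
    have h5 : orderOf a ∣ p ^ j := orderOf_dvd_of_pow_eq_one hj
    have h6 : Nat.Coprime n (p ^ j) := Nat.Coprime.pow_right j hn
    have h7 : orderOf a ∣ 1 := by
      rw [← Nat.Coprime.gcd_eq_one h6]; exact Nat.dvd_gcd h4 h5
    exact orderOf_eq_one_iff.1 (Nat.dvd_one.1 h7)
  -- V kills O^p(G) G'
  have hVker : Cfsg.pResidual p G ⊔ commutator G ≤ V.ker := by
    apply sup_le
    · unfold Cfsg.pResidual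
      rw [Subgroup.closure_le]
      intro y hy
      have hy' : Nat.Coprime (orderOf y) p := hy
      rw [SetLike.mem_coe, MonoidHom.mem_ker]
      apply hcoprime_one (V y) (orderOf y) hy'
      rw [← map_pow, pow_orderOf_eq_one, map_one]
    · exact Abelianization.commutator_subset_ker V
  -- V on p-elements of H
  have hVp : ∀ (y : G) (hy : y ∈ H), (∃ k : ℕ, orderOf y = p ^ k) → V y = (ϕ ⟨y, hy⟩) ^ H.index := by
    intro y hy ⟨k, hk⟩
    haveI : Fintype (Quotient (MulAction.orbitRel (Subgroup.zpowers y) (G ⧸ H))) := Fintype.ofFinite _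
    rw [show V y = MonoidHom.transfer ϕ y from rfl,
      MonoidHom.transfer_eq_prod_quotient_orbitRel_zpowers_quot,
      Subgroup.index_eq_sum_minimalPeriod H y, ← Finset.prod_pow_eq_pow_sum]
    apply Finset.prod_congr rfl
    intro q _
    set n := Function.minimalPeriod (y • ·) q.out with hn
    set a : G := (q.out.out : G) with ha
    have hmem : a⁻¹ * y ^ n * a ∈ H := QuotientGroup.out_conj_pow_minimalPeriod_mem H y q.out
    have hynH : y ^ n ∈ H := H.pow_mem hy n
    have hynp : ∃ k' : ℕ, orderOf (y ^ n) = p ^ k' := by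
      have h1 : orderOf (y ^ n) ∣ p ^ k := by rw [← hk]; exact orderOf_pow_dvd n
      obtain ⟨k', _, hk'⟩ := (Nat.dvd_prime_pow hp).1 h1
      exact ⟨k', hk'⟩
    obtain ⟨h, hh, hconj⟩ := hfus (y ^ n) hynH hynp a⁻¹ (by simpa using hmem)
    rw [inv_inv] at hconj
    rw [← map_pow]
    have heq : (⟨a⁻¹ * y ^ n * a, hmem⟩ : H) = ⟨h, hh⟩ * (⟨y, hy⟩ ^ n) * ⟨h, hh⟩⁻¹ := by
      apply Subtype.ext
      simp only [Subgroup.coe_mul, Subgroup.coe_pow, Subgroup.coe_inv]
      exact hconj.symm
    rw [heq, map_mul, map_mul, map_inv, mul_comm, ← mul_assoc, inv_mul_cancel, one_mul]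
  apply le_antisymm
  · intro x hx
    obtain ⟨hx1, hx2⟩ := Subgroup.mem_inf.1 hx
    have hVx : V x = 1 := hVker hx1
    obtain ⟨k, m, hpm, hkm⟩ := Nat.exists_eq_pow_mul_and_not_dvd (orderOf_pos x).ne' p hp.one_lt.ne'
    have hm0 : m ≠ 0 := by
      rintro rfl
      rw [mul_zero] at hkm
      exact (orderOf_pos x).ne' hkm
    -- y = x^m is a p-element
    have hy_ord : orderOf (x ^ m) = p ^ k := by
      rw [orderOf_pow' x hm0, hkm, Nat.gcd_eq_right (Dvd.intro_left _ rfl)]
      exact Nat.mul_div_cancel _ (Nat.pos_of_ne_zero hm0)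
    have hyH : x ^ m ∈ H := H.pow_mem hx2 m
    have hVy : V (x ^ m) = 1 := by rw [map_pow, hVx, one_pow]
    have h1 := hVp (x ^ m) hyH ⟨k, hy_ord⟩
    rw [hVy] at h1
    have h2 : ϕ ⟨x ^ m, hyH⟩ = 1 := hcoprime_one _ H.index hidx.symm h1.symm
    have h3 : (ϕ ⟨x, hx2⟩) ^ m = 1 := by
      rw [← map_pow]
      have : (⟨x, hx2⟩ : H) ^ m = ⟨x ^ m, hyH⟩ := by
        apply Subtype.ext; simp
      rw [this]; exact h2
    have hmp : Nat.Coprime m p := ((Nat.Prime.coprime_iff_not_dvd hp).2 hpm).symm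
    have h4 : ϕ ⟨x, hx2⟩ = 1 := hcoprime_one _ m hmp h3
    have h5 : (⟨x, hx2⟩ : H) ∈ K' := (QuotientGroup.eq_one_iff _).1 h4
    exact Subgroup.mem_map.2 ⟨⟨x, hx2⟩, h5, rfl⟩
  · apply le_inf _ (Subgroup.map_subtype_le _)
    rw [Subgroup.map_sup]
    apply sup_le_sup
    · rw [Subgroup.map_le_iff_le_comap]
      unfold Cfsg.pResidual
      rw [Subgroup.closure_le]
      intro h hh
      have hh' : Nat.Coprime (orderOf h) p := hh
      rw [SetLike.mem_coe, Subgroup.mem_comap]
      apply Subgroup.subset_closure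
      show Nat.Coprime (orderOf (H.subtype h)) p
      rw [Subgroup.coe_subtype, Subgroup.orderOf_coe]
      exact hh'
    · rw [commutator_def, Subgroup.map_commutator, commutator_def]
      exact Subgroup.commutator_mono le_top le_top

end Cfsg.Agent.S1242
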