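import Cfsg.Statements.S1243
-- import your own Cfsg.Agent.* helpers here

set_option autoImplicit false
open Cfsg

namespace Cfsg.Agent.S1243

/-- Let T be a Sylow p-subgroup of the finite group G and W ≤ T a subgroup weakly closed in T. If d and g d g⁻¹ both centralize W, then g d g⁻¹ = h d h⁻¹ for some h ∈ N_G(W). -/
theorem result {G : Type*} [Group G] [Finite G] {p : ℕ} [Fact p.Prime] (T : Sylow p G) (W : Subgroup G) (hW : Cfsg.IsWeaklyClosed W (T : Subgroup G)) (d g : G) (hd : d ∈ Subgroup.centralizer (W : Set G)) (hgd : g * d * g⁻¹ ∈ Subgroup.centralizer (W : Set G)) : ∃ h ∈ Subgroup.normalizer (W : Set G), h * d * h⁻¹ = g * d * g⁻¹ := by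
  obtain ⟨hWT, hwc⟩ := hW
  set e : G := g * d * g⁻¹ with he
  set C : Subgroup G := Subgroup.centralizer ({e} : Set G) with hC
  have hCmem : ∀ y : G, y ∈ C ↔ e * y = y * e := by
    intro y
    rw [hC, Subgroup.mem_centralizer_iff]
    constructor
    · intro h; exact h e (Set.mem_singleton e)
    · intro h z hz
      rw [Set.mem_singleton_iff] at hz
      rw [hz]; exact h
  rw [Subgroup.mem_centralizer_iff] at hd hgd
  have hWC : W ≤ C := by
    intro w hw
    rw [hCmem]
    exact (hgd w hw).symm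
  have hW'C : ∀ w ∈ W, g * w * g⁻¹ ∈ C := by
    intro w hw
    rw [hCmem, he]
    have h1 : w * d = d * w := hd w hw
    calc g * d * g⁻¹ * (g * w * g⁻¹) = g * (d * w) * g⁻¹ := by group
      _ = g * (w * d) * g⁻¹ := by rw [h1]
      _ = g * w * g⁻¹ * (g * d * g⁻¹) := by group
  -- normalizer criterion
  have hN : ∀ a : G, W.map (MulAut.conj a).toMonoidHom = W → a ∈ Subgroup.normalizer (W : Set G) := by
    intro a ha
    rw [Subgroup.mem_normalizer_iff]
    intro h
    constructor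
    · intro hh
      rw [← ha]
      exact Subgroup.mem_map.2 ⟨h, hh, rfl⟩
    · intro hh
      have hh' : a * h * a⁻¹ ∈ W.map (MulAut.conj a).toMonoidHom := by rw [ha]; exact hh
      obtain ⟨w, hw, hwe⟩ := Subgroup.mem_map.1 hh'
      simp only [MulEquiv.coe_toMonoidHom, MulAut.conj_apply] at hwe
      have : w = h := by
        have := congrArg (fun z => a⁻¹ * z * a) hwe
        simpa [mul_assoc] using this
      rw [← this]; exact hw
  have hWp : IsPGroup p W := T.isPGroup'.to_le hWT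
  obtain ⟨R, hR⟩ := (hWp.comap_subtype (K := C)).exists_le_sylow
  set W' : Subgroup G := W.map (MulAut.conj g).toMonoidHom with hW'
  have hW'p : IsPGroup p W' := hWp.map _
  obtain ⟨R', hR'⟩ := (hW'p.comap_subtype (K := C)).exists_le_sylow
  obtain ⟨c, hc⟩ := MulAction.exists_smul_eq C R' R
  -- elements c (g w g⁻¹) c⁻¹ lie in R
  have h7 : ∀ w (hw : w ∈ W), c * ⟨g * w * g⁻¹, hW'C w hw⟩ * c⁻¹ ∈ (R : Subgroup C) := by
    intro w hw
    have h1 : (⟨g * w * g⁻¹, hW'C w hw⟩ : C) ∈ (R' : Subgroup C) := by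
      apply hR'
      rw [Subgroup.mem_comap]
      exact Subgroup.mem_map.2 ⟨w, hw, rfl⟩
    rw [← hc, Sylow.coe_subgroup_smul, Subgroup.mem_pointwise_smul_iff_inv_smul_mem]
    simp only [MulAut.smul_def, MulAut.conj_inv_apply]
    have : c⁻¹ * (c * ⟨g * w * g⁻¹, hW'C w hw⟩ * c⁻¹) * c = ⟨g * w * g⁻¹, hW'C w hw⟩ := by group
    rw [this]; exact h1
  set RG : Subgroup G := (R : Subgroup C).map C.subtype with hRG
  have hRGp : IsPGroup p RG := R.isPGroup'.map _
  obtain ⟨T', hT'⟩ := hRGp.exists_le_sylow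
  obtain ⟨u, hu⟩ := MulAction.exists_smul_eq G T T'
  have hT'mem : ∀ y : G, y ∈ (T' : Subgroup G) ↔ u⁻¹ * y * u ∈ (T : Subgroup G) := by
    intro y
    rw [← hu, Sylow.coe_subgroup_smul, Subgroup.mem_pointwise_smul_iff_inv_smul_mem]
    simp only [MulAut.smul_def, MulAut.conj_inv_apply]
  -- u⁻¹ normalizes W
  have h10 : u⁻¹ ∈ Subgroup.normalizer (W : Set G) := by
    apply hN
    apply hwc
    intro y hy
    obtain ⟨w, hw, rfl⟩ := Subgroup.mem_map.1 hy
    simp only [MulEquiv.coe_toMonoidHom, MulAut.conj_apply, inv_inv]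
    rw [← hT'mem]
    apply hT'
    refine Subgroup.mem_map.2 ⟨⟨w, hWC hw⟩, hR ?_, rfl⟩
    rw [Subgroup.mem_comap]; exact hw
  have h11 : u⁻¹ * ((c : G) * g) ∈ Subgroup.normalizer (W : Set G) := by
    apply hN
    apply hwc
    intro y hy
    obtain ⟨w, hw, rfl⟩ := Subgroup.mem_map.1 hy
    simp only [MulEquiv.coe_toMonoidHom, MulAut.conj_apply]
    have h1 : (c : G) * (g * w * g⁻¹) * (c : G)⁻¹ ∈ (T' : Subgroup G) := by
      apply hT'
      exact Subgroup.mem_map.2 ⟨_, h7 w hw, by simp⟩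
    have h2 := (hT'mem _).1 h1
    have h3 : u⁻¹ * ((c : G) * g) * w * (u⁻¹ * ((c : G) * g))⁻¹ = u⁻¹ * ((c : G) * (g * w * g⁻¹) * (c : G)⁻¹) * u := by
      group
    rw [h3]; exact h2
  refine ⟨(c : G) * g, ?_, ?_⟩
  · have h12 : u ∈ Subgroup.normalizer (W : Set G) := by
      have := (Subgroup.normalizer (W : Set G)).inv_mem h10
      simpa using this
    have := (Subgroup.normalizer (W : Set G)).mul_mem h12 h11
    simpa [mul_assoc] using this
  · have hce : e * (c : G) = (c : G) * e := (hCmem c).1 c.2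
    calc (c : G) * g * d * ((c : G) * g)⁻¹ = (c : G) * (g * d * g⁻¹) * (c : G)⁻¹ := by group
      _ = (c : G) * e * (c : G)⁻¹ := by rw [he]
      _ = e * (c : G) * (c : G)⁻¹ := by rw [hce]
      _ = e := by group

end Cfsg.Agent.S1243
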