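import Cfsg.Statements.S1244
import Mathlib
import Cfsg.Agent.S1231
-- import your own Cfsg.Agent.* helpers here

set_option autoImplicit false
open Cfsg

namespace Cfsg.Agent.S1244

open scoped IsMulCommutative in
/-- Step B: an abelian Sylow 2-subgroup of a group without subgroups of index 2 contains no
involution fixed by the normalizer. -/
theorem no_invariant_involution {G : Type*} [Group G] [Finite G] (hG : ∀ H : Subgroup G, H.index ≠ 2)
    (S : Sylow 2 G) [hS : IsMulCommutative (S : Subgroup G)] (z : G) (hzS : z ∈ (S : Subgroup G))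
    (hz1 : z ≠ 1) (hz2 : z ^ 2 = 1)
    (hinv : ∀ n ∈ Subgroup.normalizer ((S : Subgroup G) : Set G), n * z * n⁻¹ = z) : False := by
  classical
  have key : ∀ (k : ℕ) (g₀ : G), g₀⁻¹ * z ^ k * g₀ ∈ (S : Subgroup G) → g₀⁻¹ * z ^ k * g₀ = z ^ k := by
    intro k g₀ hmem
    obtain ⟨n, hn, hne⟩ := S.conj_eq_normalizer_conj_of_mem (z ^ k) g₀ ((S : Subgroup G).pow_mem hzS k) hmem
    rw [hne]
    have hn' : n⁻¹ ∈ Subgroup.normalizer ((S : Subgroup G) : Set G) := Subgroup.inv_mem _ hn
    have h1 := hinv n⁻¹ hn'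
    rw [inv_inv] at h1
    calc n⁻¹ * z ^ k * n = (n⁻¹ * z * n) ^ k := by
          have := map_pow (MulAut.conj n⁻¹) z k
          simp only [MulAut.conj_apply, inv_inv] at this
          exact this
      _ = z ^ k := by rw [h1]
  let V : G →* ↥(S : Subgroup G) := MonoidHom.transfer (MonoidHom.id ↥(S : Subgroup G))
  have hV : V z = ⟨z ^ (S : Subgroup G).index, _⟩ := MonoidHom.transfer_eq_pow (MonoidHom.id _) z key
  have hodd : ¬ 2 ∣ (S : Subgroup G).index := S.not_dvd_index
  have hVz : V z ≠ 1 := by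
    intro h
    rw [hV] at h
    have h1 : z ^ (S : Subgroup G).index = 1 := congrArg Subtype.val h
    have h2 : orderOf z ∣ (S : Subgroup G).index := orderOf_dvd_of_pow_eq_one h1
    have h3 : orderOf z = 2 := orderOf_eq_prime hz2 hz1
    rw [h3] at h2
    exact hodd h2
  -- the range of V is a nontrivial 2-group, so it has a subgroup of index 2
  have hrange : IsPGroup 2 V.range := S.isPGroup'.to_subgroup V.range
  obtain ⟨m, hm⟩ := IsPGroup.iff_card.1 hrange
  have hm0 : m ≠ 0 := by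
    rintro rfl
    rw [pow_zero] at hm
    have : V.range = ⊥ := Subgroup.card_eq_one.1 hm
    apply hVz
    have h1 : V z ∈ V.range := ⟨z, rfl⟩
    rw [this] at h1
    exact Subgroup.mem_bot.1 h1
  obtain ⟨J, hJ⟩ := Sylow.exists_subgroup_card_pow_prime (G := V.range) 2 (n := m - 1)
    (by rw [hm]; exact pow_dvd_pow 2 (Nat.sub_le m 1))
  have hJidx : J.index = 2 := by
    have h1 := J.card_mul_index
    rw [hJ, hm] at h1
    have h2 : 2 ^ m = 2 ^ (m - 1) * 2 := by
      rw [← pow_succ]; congr 1; omega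
    rw [h2] at h1
    exact Nat.eq_of_mul_eq_mul_left (pow_pos (by norm_num) _) h1
  have hsurj : Function.Surjective V.rangeRestrict := V.rangeRestrict_surjective
  have := Subgroup.index_comap_of_surjective J hsurj
  exact hG _ (this.trans hJidx)

/-- Parity lemma: a product of elements outside a subgroup `V₀` of index two (inside `V`) lies in
`V₀` exactly when the number of factors is even. -/
theorem prod_mem_iff_even {A ι : Type*} [CommGroup A] (V V₀ : Subgroup A)
    (hidx : ∀ a ∈ V, ∀ b ∈ V, (a * b ∈ V₀ ↔ (a ∈ V₀ ↔ b ∈ V₀)))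
    (f : ι → A) (hfV : ∀ q, f q ∈ V) (hf : ∀ q, f q ∉ V₀) (s : Finset ι) :
    (∏ q ∈ s, f q ∈ V₀ ↔ Even s.card) := by
  classical
  induction s using Finset.induction_on with
  | empty => simp [V₀.one_mem]
  | insert a s ha ih =>
    rw [Finset.prod_insert ha, Finset.card_insert_of_notMem ha]
    rw [hidx (f a) (hfV a) _ (V.prod_mem (fun q _ => hfV q)), ih, Nat.even_add_one]
    constructor
    · intro h1 h2
      exact hf a (h1.2 h2)
    · intro h1
      exact ⟨fun h => absurd h (hf a), fun h => absurd h h1⟩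

open scoped IsMulCommutative in
/-- Let G be a finite group with no subgroup of index 2 whose Sylow 2-subgroup S is commutative, and let R ≤ S be a subgroup whose 2-rank is exactly one less than the 2-rank r of S. Then every involution of S is conjugate, by an element of N_G(S), to an element of R. -/
theorem result {G : Type*} [Group G] [Finite G] (hG : ∀ H : Subgroup G, H.index ≠ 2) (S : Sylow 2 G) (hS : IsMulCommutative (S : Subgroup G)) (r : ℕ) (hr1 : 1 ≤ r) (hSr : Cfsg.PRankLE 2 r (S : Subgroup G) ∧ ¬ Cfsg.PRankLE 2 (r - 1) (S : Subgroup G)) (R : Subgroup G) (hRS : R ≤ S) (hRr : Cfsg.PRankLE 2 (r - 1) R ∧ (r = 1 ∨ ¬ Cfsg.PRankLE 2 (r - 2) R)) (t : G) (ht : orderOf t = 2) (htS : t ∈ S) : ∃ n ∈ Subgroup.normalizer ((S : Subgroup G) : Set G), n * t * n⁻¹ ∈ R := by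
  classical
  by_contra hcon
  push Not at hcon
  haveI := hS
  set N : Subgroup G := Subgroup.normalizer ((S : Subgroup G) : Set G) with hN
  have hSN : (S : Subgroup G) ≤ N := Subgroup.le_normalizer
  have ht2 : t ^ 2 = 1 := by rw [← ht]; exact pow_orderOf_eq_one t
  have ht1 : t ≠ 1 := by
    intro h; rw [h, orderOf_one] at ht; omega
  -- conjugation by elements of N preserves S
  have hNS : ∀ n ∈ N, ∀ x ∈ (S : Subgroup G), n * x * n⁻¹ ∈ (S : Subgroup G) := by
    intro n hn x hx
    exact ((Subgroup.mem_normalizer_iff).1 hn x).1 hx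
  -- the 2-torsion subgroup V of S and V₀ = V ⊓ R
  set V : Subgroup ↥(S : Subgroup G) := (powMonoidHom 2 : ↥(S : Subgroup G) →* ↥(S : Subgroup G)).ker with hV
  have hVmem : ∀ x : ↥(S : Subgroup G), x ∈ V ↔ x ^ 2 = 1 := by
    intro x; rw [hV, MonoidHom.mem_ker, powMonoidHom_apply]
  set R' : Subgroup ↥(S : Subgroup G) := R.subgroupOf (S : Subgroup G) with hR'
  set V₀ : Subgroup ↥(S : Subgroup G) := V ⊓ R' with hV₀
  have hV₀V : V₀ ≤ V := inf_le_left
  have hSp : IsPGroup 2 ↥(S : Subgroup G) := S.isPGroup'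
  -- cardinality of V
  have hVcard : Nat.card V = 2 ^ r := by
    have hVc : IsMulCommutative ↥V := ⟨⟨fun a b => Subtype.ext (mul_comm (a : ↥(S : Subgroup G)) b)⟩⟩
    have h1 : Nat.card V ≤ 2 ^ r := hSr.1 V hVc (fun a ha => (hVmem a).1 ha)
    obtain ⟨a, ha⟩ := IsPGroup.iff_card.1 (hSp.to_subgroup V)
    have h2 : 2 ^ (r - 1) < Nat.card V := by
      have h3 := hSr.2
      unfold Cfsg.PRankLE at h3
      push Not at h3
      obtain ⟨B, hBc, hBe, hBcard⟩ := h3
      have hBV : B ≤ V := fun b hb => (hVmem b).2 (hBe b hb)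
      exact lt_of_lt_of_le hBcard (Subgroup.card_le_of_le hBV)
    rw [ha] at h1 h2 ⊢
    have h4 : a ≤ r := (Nat.pow_le_pow_iff_right (by norm_num)).1 h1
    have h5 : r - 1 < a := (Nat.pow_lt_pow_iff_right (by norm_num)).1 h2
    congr 1; omega
  -- cardinality of V₀
  have hV₀card : Nat.card V₀ = 2 ^ (r - 1) := by
    -- injective hom V₀ → R
    let ι₁ : ↥V₀ →* ↥R' := Subgroup.inclusion (inf_le_right : V₀ ≤ R')
    let e : ↥R' ≃* ↥R := Subgroup.subgroupOfEquivOfLe hRS
    let ι : ↥V₀ →* ↥R := e.toMonoidHom.comp ι₁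
    have hι : Function.Injective ι := e.injective.comp (Subgroup.inclusion_injective _)
    have hle := Cfsg.Agent.S1231.pRankLE_of_injective 2 (r - 1) ι hι hRr.1
    have hV₀c : IsMulCommutative ↥(⊤ : Subgroup ↥V₀) :=
      ⟨⟨fun a b => Subtype.ext (Subtype.ext (mul_comm ((a : ↥V₀) : ↥(S : Subgroup G)) b))⟩⟩
    have h1 := hle ⊤ hV₀c (fun a _ => by
      apply Subtype.ext
      simp only [Subgroup.coe_pow, Subgroup.coe_one]
      exact (hVmem a).1 (hV₀V a.2))
    rw [Subgroup.card_top] at h1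
    obtain ⟨b, hb⟩ := IsPGroup.iff_card.1 (hSp.to_subgroup V₀)
    rcases hRr.2 with hr | hbig
    · subst hr
      have : Nat.card V₀ = 1 := by
        have hpos : 0 < Nat.card V₀ := Nat.card_pos
        simp at h1
        omega
      rw [this]; simp
    · unfold Cfsg.PRankLE at hbig
      push Not at hbig
      obtain ⟨B, hBc, hBe, hBcard⟩ := hbig
      set BA : Subgroup ↥(S : Subgroup G) := B.map (Subgroup.inclusion hRS) with hBA
      have hBAcard : Nat.card BA = Nat.card B :=
        Nat.card_congr (B.equivMapOfInjective _ (Subgroup.inclusion_injective hRS)).symm.toEquiv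
      have hBAV₀ : BA ≤ V₀ := by
        intro x hx
        obtain ⟨b', hb', rfl⟩ := Subgroup.mem_map.1 hx
        refine ⟨(hVmem _).2 ?_, ?_⟩
        · rw [← map_pow, hBe b' hb', map_one]
        · show (Subgroup.inclusion hRS) b' ∈ R.subgroupOf (S : Subgroup G)
          rw [Subgroup.mem_subgroupOf]
          exact b'.2
      have h2 : 2 ^ (r - 2) < Nat.card V₀ := by
        rw [← hBAcard] at hBcard
        exact lt_of_lt_of_le hBcard (Subgroup.card_le_of_le hBAV₀)
      rw [hb] at h1 h2 ⊢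
      have h4 : b ≤ r - 1 := (Nat.pow_le_pow_iff_right (by norm_num)).1 h1
      have h5 : r - 2 < b := (Nat.pow_lt_pow_iff_right (by norm_num)).1 h2
      congr 1; omega
  -- index two
  have hidx2 : (V₀.subgroupOf V).index = 2 := by
    have h1 := (V₀.subgroupOf V).card_mul_index
    have h2 : Nat.card (V₀.subgroupOf V) = Nat.card V₀ :=
      Nat.card_congr (Subgroup.subgroupOfEquivOfLe hV₀V).toEquiv
    rw [h2, hV₀card, hVcard] at h1
    have h3 : 2 ^ r = 2 ^ (r - 1) * 2 := by
      rw [← pow_succ]; congr 1; omega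
    rw [h3] at h1
    exact Nat.eq_of_mul_eq_mul_left (pow_pos (by norm_num) _) h1
  have hidx : ∀ a ∈ V, ∀ b ∈ V, (a * b ∈ V₀ ↔ (a ∈ V₀ ↔ b ∈ V₀)) := by
    intro a ha b hb
    have := Subgroup.mul_mem_iff_of_index_two hidx2 (a := (⟨a, ha⟩ : V)) (b := ⟨b, hb⟩)
    simpa [Subgroup.mem_subgroupOf] using this
  -- the family of conjugates of t indexed by N ⧸ S
  set S' : Subgroup ↥N := (S : Subgroup G).subgroupOf N with hS'
  let f : ↥N ⧸ S' → ↥(S : Subgroup G) := fun q =>
    ⟨((q.out : ↥N) : G) * t * ((q.out : ↥N) : G)⁻¹, hNS _ (q.out : ↥N).2 t htS⟩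
  have hfmk : ∀ n : ↥N, ((f (QuotientGroup.mk n) : ↥(S : Subgroup G)) : G) = (n : G) * t * (n : G)⁻¹ := by
    intro n
    obtain ⟨s, hs⟩ := QuotientGroup.mk_out_eq_mul S' n
    have hsS : ((s : ↥N) : G) ∈ (S : Subgroup G) := s.2
    show (((QuotientGroup.mk n : ↥N ⧸ S').out : ↥N) : G) * t * (((QuotientGroup.mk n : ↥N ⧸ S').out : ↥N) : G)⁻¹ = _
    rw [hs]
    have hcomm : ((s : ↥N) : G) * t = t * ((s : ↥N) : G) := by
      have := mul_comm (⟨((s : ↥N) : G), hsS⟩ : ↥(S : Subgroup G)) ⟨t, htS⟩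
      exact congrArg Subtype.val this
    simp only [Subgroup.coe_mul]
    calc (n : G) * ((s : ↥N) : G) * t * ((n : G) * ((s : ↥N) : G))⁻¹
        = (n : G) * (((s : ↥N) : G) * t) * ((s : ↥N) : G)⁻¹ * (n : G)⁻¹ := by group
      _ = (n : G) * (t * ((s : ↥N) : G)) * ((s : ↥N) : G)⁻¹ * (n : G)⁻¹ := by rw [hcomm]
      _ = (n : G) * t * (n : G)⁻¹ := by group
  have hfV : ∀ q, f q ∈ V := by
    intro q
    rw [hVmem]
    apply Subtype.ext
    simp only [Subgroup.coe_pow, Subgroup.coe_one]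
    show (((q.out : ↥N) : G) * t * ((q.out : ↥N) : G)⁻¹) ^ 2 = 1
    have := map_pow (MulAut.conj ((q.out : ↥N) : G)) t 2
    simp only [MulAut.conj_apply] at this
    rw [← this, ht2]; group
  have hfV₀ : ∀ q, f q ∉ V₀ := by
    intro q hq
    have h1 : f q ∈ R' := hq.2
    rw [hR', Subgroup.mem_subgroupOf] at h1
    exact hcon _ (q.out : ↥N).2 h1
  haveI : Fintype (↥N ⧸ S') := Fintype.ofFinite _
  set zA : ↥(S : Subgroup G) := ∏ q : ↥N ⧸ S', f q with hzA
  -- parity
  have hcardodd : ¬ Even (Finset.univ : Finset (↥N ⧸ S')).card := by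
    rw [Finset.card_univ, ← Nat.card_eq_fintype_card, ← Subgroup.index_eq_card]
    have h1 : S'.index = (S : Subgroup G).relIndex N := rfl
    rw [h1]
    intro heven
    have h2 : 2 ∣ (S : Subgroup G).relIndex N := even_iff_two_dvd.1 heven
    have h3 : (S : Subgroup G).relIndex N ∣ (S : Subgroup G).index :=
      Dvd.intro _ (Subgroup.relIndex_mul_index hSN)
    exact S.not_dvd_index (h2.trans h3)
  have hzV₀ : zA ∉ V₀ := fun h =>
    hcardodd ((prod_mem_iff_even V V₀ hidx f hfV hfV₀ Finset.univ).1 h)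
  have hzV : zA ∈ V := V.prod_mem (fun q _ => hfV q)
  have hz1 : (zA : G) ≠ 1 := by
    intro h
    apply hzV₀
    have : zA = 1 := Subtype.ext h
    rw [this]; exact V₀.one_mem
  have hz2 : (zA : G) ^ 2 = 1 := by
    have := (hVmem zA).1 hzV
    have h2 := congrArg Subtype.val this
    simpa using h2
  -- invariance
  have hzinv : ∀ m ∈ N, m * (zA : G) * m⁻¹ = (zA : G) := by
    intro m hm
    -- conjugation by m as a hom of S
    let cj : ↥(S : Subgroup G) →* ↥(S : Subgroup G) :=
      { toFun := fun x => ⟨m * x * m⁻¹, hNS m hm x x.2⟩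
        map_one' := by apply Subtype.ext; simp
        map_mul' := by
          intro x y; apply Subtype.ext
          simp only [Subgroup.coe_mul]; group }
    have h1 : cj zA = ∏ q : ↥N ⧸ S', cj (f q) := map_prod cj f Finset.univ
    have h2 : ∀ q : ↥N ⧸ S', cj (f q) = f ((⟨m, hm⟩ : ↥N) • q) := by
      intro q
      obtain ⟨n, rfl⟩ := QuotientGroup.mk_surjective q
      apply Subtype.ext
      have h3 : ((⟨m, hm⟩ : ↥N) • (QuotientGroup.mk n : ↥N ⧸ S')) = QuotientGroup.mk (⟨m, hm⟩ * n) := rfl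
      rw [h3, hfmk]
      show m * ((f (QuotientGroup.mk n) : ↥(S : Subgroup G)) : G) * m⁻¹ = _
      rw [hfmk]
      simp only [Subgroup.coe_mul]
      group
    have h4 : ∏ q : ↥N ⧸ S', f ((⟨m, hm⟩ : ↥N) • q) = ∏ q : ↥N ⧸ S', f q :=
      Equiv.prod_comp (MulAction.toPerm (⟨m, hm⟩ : ↥N)) f
    have h5 : cj zA = zA := by
      rw [h1, Finset.prod_congr rfl (fun q _ => h2 q), h4]
    exact congrArg Subtype.val h5
  exact no_invariant_involution hG S (zA : G) zA.2 hz1 hz2 hzinv

end Cfsg.Agent.S1244
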