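import Mathlib
import Cfsg.Statements.S1247
import Cfsg.Agent.Lib.Helper20.Fitting
import Cfsg.Agent.Lib.Helper20.Components
import Cfsg.Agent.Lib.Helper20.Layer
import Cfsg.Agent.Lib.Helper20.Bender
import Cfsg.Agent.Lib.Helper20.FstarSub
import Cfsg.Agent.Lib.Helper20.AxB
import Cfsg.Agent.Lib.Helper20.PrimitivePair
import Cfsg.Agent.Lib.Helper20.PLocal
import Cfsg.Agent.Lib.Helper20.Cores
import Cfsg.Agent.Lib.Helper20.FactorialBound
import Cfsg.Agent.Lib.Helper16.PCore
import Cfsg.Agent.Lib.Helper16.Residual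
import Cfsg.Agent.Lib.Helper16.ResidualQuot
import Cfsg.Agent.Lib.Helper16.Subnormal
import Cfsg.Agent.Lib.Helper16.SubnormalResidual

set_option autoImplicit false
open Cfsg
open scoped commutatorElement

namespace Cfsg.Agent.S1247

open Cfsg.Agent.Lib.Helper20 Cfsg.Agent.Lib.Helper16

section internal

variable {H : Type*} [Group H] [Finite H]

/-- `E(H) ≤ S` for `S` subnormal containing its centralizer in `F*(H)`. -/
theorem layer_le (S : Subgroup H) (hsn : S.IsSubnormal)
    (hC : generalizedFittingSubgroup H ⊓ Subgroup.centralizer (S : Set H) ≤ S) :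
    layer H ≤ S := by
  apply sSup_le
  intro K hK
  rcases component_le_or_commutes K S hK hsn with h | h
  · exact h
  · rw [Subgroup.commutator_eq_bot_iff_le_centralizer] at h
    refine le_trans (le_inf ?_ h) hC
    exact (component_le_layer K hK).trans le_sup_left

theorem pCore_comm {r t : ℕ} [Fact r.Prime] [Fact t.Prime] (hrt : r ≠ t) :
    pCore r H ≤ Subgroup.centralizer (pCore t H : Set H) := by
  haveI := Cfsg.Agent.Lib.Helper16.pCore_normal r H
  haveI := Cfsg.Agent.Lib.Helper16.pCore_normal t H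
  rw [← Subgroup.commutator_eq_bot_iff_le_centralizer, eq_bot_iff]
  refine (Subgroup.commutator_le_inf _ _).trans ?_
  have := IsPGroup.disjoint_of_ne r t hrt _ _ (Cfsg.Agent.Lib.Helper16.pCore_isPGroup r H)
    (Cfsg.Agent.Lib.Helper16.pCore_isPGroup t H)
  exact this.le_bot

theorem cent_pCore_inf_le (S : Subgroup H) (hS : S ≤ generalizedFittingSubgroup H)
    (hsn : S.IsSubnormal)
    (hC : generalizedFittingSubgroup H ⊓ Subgroup.centralizer (S : Set H) ≤ S) (r : ℕ)
    [Fact r.Prime] :
    pCore r H ⊓ Subgroup.centralizer ((S ⊓ pCore r H : Subgroup H) : Set H) ≤ S := by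
  intro c hc
  obtain ⟨hc1, hc2⟩ := hc
  apply hC
  refine ⟨?_, ?_⟩
  · exact (le_sup_right : fittingSubgroup H ≤ generalizedFittingSubgroup H)
      ((pCore_le_fitting' r) hc1)
  · have htop := fitting_sup_layer_subnormal_eq_top S hS hsn
    have hSeq : S = (fittingSubgroup ↥S ⊔ layer ↥S).map S.subtype := by
      rw [htop, ← MonoidHom.range_eq_map, Subgroup.range_subtype]
    have key : S ≤ Subgroup.centralizer ({c} : Set H) := by
      rw [hSeq, Subgroup.map_sup]
      apply sup_le
      · rw [fittingSubgroup_eq_iSup_pCore' (G := ↥S), Subgroup.map_iSup]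
        apply iSup_le
        intro t
        haveI : Fact (t:ℕ).Prime := ⟨t.2⟩
        rw [map_pCore_eq_opDown]
        intro y hy
        rw [Subgroup.mem_centralizer_singleton_iff]
        by_cases htr : (t:ℕ) = r
        · have hy1 : y ∈ S := opDown_le _ S hy
          have hy2 : y ∈ pCore (t:ℕ) H := opDown_le_pCore_of_isSubnormal _ hsn hy
          rw [htr] at hy2
          exact hc2 y ⟨hy1, hy2⟩
        · have hy2 : y ∈ pCore (t:ℕ) H := opDown_le_pCore_of_isSubnormal _ hsn hy
          have := pCore_comm (H := H) (r := r) (t := (t:ℕ)) (fun h => htr h.symm) hc1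
          exact this y hy2
      · intro y hy
        rw [Subgroup.mem_centralizer_singleton_iff]
        have hy2 : y ∈ layer H := map_layer_subnormal_le S hsn hy
        have := layer_le_centralizer_fitting (G := H) hy2
        exact (this c ((pCore_le_fitting' r) hc1)).symm
    intro s hs
    have := key hs
    rw [Subgroup.mem_centralizer_singleton_iff] at this
    exact this

/-- A finite perfect group is generated by its `p'`-elements. -/
theorem pResidual_eq_top_of_perfect (K : Type*) [Group K] [Finite K] [Group.IsPerfect K]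
    (p : ℕ) [Fact p.Prime] : pResidual p K = ⊤ := by
  haveI := pResidual_normal (G := K) p
  have hq : IsPGroup p (K ⧸ pResidual p K) := quotient_pResidual_isPGroup p
  haveI : Group.IsPerfect (K ⧸ pResidual p K) :=
    Group.IsPerfect.ofSurjective (f := QuotientGroup.mk' (pResidual p K))
      (QuotientGroup.mk'_surjective _)
  by_contra hne
  haveI : Nontrivial (K ⧸ pResidual p K) := by
    rw [← not_subsingleton_iff_nontrivial]
    intro hsub
    exact hne (QuotientGroup.subgroup_eq_top_of_subsingleton _ hsub)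
  have hnil : Group.IsNilpotent (K ⧸ pResidual p K) := hq.isNilpotent
  exact Group.IsPerfect.not_isNilpotent (G := K ⧸ pResidual p K) hnil

theorem component_le_opUp (K : Subgroup H) (hK : IsComponent K) (p : ℕ) [Fact p.Prime] :
    K ≤ opUp p K := by
  haveI : Group.IsPerfect ↥K := hK.2.1
  rw [← map_pResidual_eq_opUp, pResidual_eq_top_of_perfect ↥K p, ← MonoidHom.range_eq_map,
    Subgroup.range_subtype]

theorem conj_mem_of_mem_normalizer {K : Subgroup H} {x g : H}
    (hx : x ∈ Subgroup.normalizer (K : Set H)) (hg : g ∈ K) : x * g * x⁻¹ ∈ K :=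
  (Subgroup.mem_normalizer_iff.mp hx g).mp hg

theorem star (S D : Subgroup H) (hsn : S.IsSubnormal) (q : ℕ) [Fact q.Prime] (hD : IsPGroup q D)
    (hSD : S ≤ Subgroup.normalizer (D : Set H)) :
    D ≤ Subgroup.normalizer ((opUp q S : Subgroup H) : Set H) ∧
    ⁅opUp q S, D⁆ ≤ (pCore q H ⊓ S) ⊓ D := by
  set X := S ⊔ D with hX
  have hSX : S ≤ X := le_sup_left
  have hDX : D ≤ X := le_sup_right
  have hsnX : (S.subgroupOf X).IsSubnormal := hsn.comap X.subtype
  have hXN : X ≤ Subgroup.normalizer (D : Set H) := sup_le hSD Subgroup.le_normalizer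
  have hDn : (D.subgroupOf X).Normal := (Subgroup.normal_subgroupOf_iff_le_normalizer hDX).mpr hXN
  have hDp : IsPGroup q (D.subgroupOf X) := hD.comap_subtype
  have hDle : D.subgroupOf X ≤ pCore q ↥X := le_pCore' hDn hDp
  have hnorm := pCore_le_normalizer_opUp q hsnX
  have hmap : (opUp q (S.subgroupOf X)).map X.subtype = opUp q S := by
    rw [map_opUp_subtype, Subgroup.map_subgroupOf_eq_of_le hSX]
  have hconj : ∀ d ∈ D, ∀ g ∈ opUp q S, d * g * d⁻¹ ∈ opUp q S := by
    intro d hd g hg
    rw [← hmap] at hg ⊢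
    obtain ⟨g', hg', rfl⟩ := hg
    have hd' : (⟨d, hDX hd⟩ : ↥X) ∈ Subgroup.normalizer
        ((opUp q (S.subgroupOf X) : Subgroup ↥X) : Set ↥X) := hnorm (hDle hd)
    have := conj_mem_of_mem_normalizer hd' hg'
    exact ⟨_, this, rfl⟩
  have h1 : D ≤ Subgroup.normalizer ((opUp q S : Subgroup H) : Set H) := by
    intro d hd
    apply mem_normalizer_of_conj_mem
    · exact hconj d hd
    · intro g hg
      have := hconj d⁻¹ (D.inv_mem hd) g hg
      simpa using this
  refine ⟨h1, ?_⟩
  have hS0 : S ≤ Subgroup.normalizer ((opUp q S : Subgroup H) : Set H) :=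
    Subgroup.le_normalizer.trans (normalizer_le_normalizer_opUp q S)
  have hinf : opUp q S ⊓ D ≤ opDown q S := by
    apply le_opDown q (inf_le_left.trans (opUp_le q S))
    · intro x hx
      apply mem_normalizer_of_conj_mem
      · intro g hg
        exact ⟨conj_mem_of_mem_normalizer (hS0 hx) hg.1, conj_mem_of_mem_normalizer (hSD hx) hg.2⟩
      · intro g hg
        have h1 := conj_mem_of_mem_normalizer (hS0 (S.inv_mem hx)) hg.1
        have h2 := conj_mem_of_mem_normalizer (hSD (S.inv_mem hx)) hg.2
        simp only [inv_inv] at h1 h2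
        exact ⟨h1, h2⟩
    · exact hD.to_le inf_le_right
  rw [Subgroup.commutator_le]
  intro s hs d hd
  have hmem : ⁅s, d⁆ ∈ opUp q S ⊓ D := by
    constructor
    · have : ⁅s, d⁆ = s * (d * s⁻¹ * d⁻¹) := by simp [commutatorElement_def, mul_assoc]
      rw [this]
      exact Subgroup.mul_mem _ hs (conj_mem_of_mem_normalizer (h1 hd) (Subgroup.inv_mem _ hs))
    · have : ⁅s, d⁆ = (s * d * s⁻¹) * d⁻¹ := by simp [commutatorElement_def, mul_assoc]
      rw [this]
      exact Subgroup.mul_mem _ (conj_mem_of_mem_normalizer (hSD (opUp_le q S hs)) hd)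
        (Subgroup.inv_mem _ hd)
  have h2 := hinf hmem
  exact ⟨⟨opDown_le_pCore_of_isSubnormal q hsn h2, opDown_le q S h2⟩, hmem.2⟩

theorem orderOf_coprime_of_mem_pCore {r q : ℕ} [hr : Fact r.Prime] [hq : Fact q.Prime] (hrq : r ≠ q)
    {y : H} (hy : y ∈ pCore r H) : (orderOf y).Coprime q := by
  obtain ⟨k, hk⟩ := (Cfsg.Agent.Lib.Helper16.pCore_isPGroup r H) ⟨y, hy⟩
  have h1 : y ^ (r ^ k) = 1 := by simpa using congrArg Subtype.val hk
  have h2 : orderOf y ∣ r ^ k := orderOf_dvd_of_pow_eq_one h1
  exact Nat.Coprime.coprime_dvd_left h2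
    (Nat.Coprime.pow_left k ((Nat.coprime_primes hr.out hq.out).mpr hrq))

theorem card_coprime_of_isPGroup {q r : ℕ} [hq : Fact q.Prime] [hr : Fact r.Prime] (hqr : q ≠ r)
    {D : Subgroup H} (hD : IsPGroup q D) : (Nat.card D).Coprime r := by
  obtain ⟨k, hk⟩ := IsPGroup.iff_card.mp hD
  rw [hk]
  exact Nat.Coprime.pow_left k ((Nat.coprime_primes hq.out hr.out).mpr hqr)

theorem genFitting_le_centralizer_of (D : Set H)
    (hlay : layer H ≤ Subgroup.centralizer D)
    (hcore : ∀ r : Nat.Primes, pCore (r:ℕ) H ≤ Subgroup.centralizer D) :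
    generalizedFittingSubgroup H ≤ Subgroup.centralizer D := by
  unfold generalizedFittingSubgroup
  apply sup_le hlay
  rw [fittingSubgroup_eq_iSup_pCore']
  exact iSup_le hcore

theorem partA (S D : Subgroup H) (hS : S ≤ generalizedFittingSubgroup H) (hsn : S.IsSubnormal)
    (hC : generalizedFittingSubgroup H ⊓ Subgroup.centralizer (S : Set H) ≤ S)
    (q : ℕ) [hqf : Fact q.Prime] (hq : pCore q H = ⊥) (hD : IsPGroup q D)
    (hSD : S ≤ Subgroup.normalizer (D : Set H)) : D = ⊥ := by
  obtain ⟨hDn, hcomm⟩ := star S D hsn q hD hSD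
  have h0 : opUp q S ≤ Subgroup.centralizer (D : Set H) := by
    rw [← Subgroup.commutator_eq_bot_iff_le_centralizer, eq_bot_iff]
    refine hcomm.trans ?_
    rw [hq]
    simp
  have hlayS := layer_le S hsn hC
  have hlay : layer H ≤ Subgroup.centralizer (D : Set H) := by
    apply sSup_le
    intro K hK
    have hKS : K ≤ S := (component_le_layer K hK).trans hlayS
    exact (component_le_opUp K hK q).trans ((opUp_mono q hKS).trans h0)
  have hTr : ∀ r : ℕ, [Fact r.Prime] → r ≠ q → S ⊓ pCore r H ≤ opUp q S := by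
    intro r _ hrq y hy
    exact mem_opUp_of_coprime q hy.1 (orderOf_coprime_of_mem_pCore hrq hy.2)
  have hcore : ∀ r : Nat.Primes, pCore (r:ℕ) H ≤ Subgroup.centralizer (D : Set H) := by
    intro r
    haveI : Fact (r:ℕ).Prime := ⟨r.2⟩
    by_cases hrq : (r:ℕ) = q
    · rw [hrq, hq]; exact bot_le
    · rw [← Subgroup.commutator_eq_bot_iff_le_centralizer]
      haveI := Cfsg.Agent.Lib.Helper16.pCore_normal (r:ℕ) H
      apply thompson_AxB (r:ℕ) (pCore (r:ℕ) H) D (S ⊓ pCore (r:ℕ) H)
        (Cfsg.Agent.Lib.Helper16.pCore_isPGroup (r:ℕ) H)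
        ((Cfsg.Agent.Lib.Helper16.pCore_isPGroup (r:ℕ) H).to_le inf_le_right)
        (card_coprime_of_isPGroup (fun h => hrq h.symm) hD)
      · rw [Subgroup.commutator_comm, Subgroup.commutator_eq_bot_iff_le_centralizer]
        exact (hTr (r:ℕ) hrq).trans h0
      · rw [Subgroup.normalizer_eq_top]; exact le_top
      · rw [Subgroup.normalizer_eq_top]; exact le_top
      · intro c hc
        have hcS := cent_pCore_inf_le S hS hsn hC (r:ℕ) hc
        exact h0 (hTr (r:ℕ) hrq ⟨hcS, hc.1⟩)
  have hF := genFitting_le_centralizer_of (D : Set H) hlay hcore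
  have hDc : D ≤ Subgroup.centralizer (generalizedFittingSubgroup H : Set H) :=
    Subgroup.le_centralizer_iff.mp hF
  have hDF : D ≤ generalizedFittingSubgroup H := hDc.trans centralizer_genFitting_le
  set Z := generalizedFittingSubgroup H ⊓ Subgroup.centralizer (generalizedFittingSubgroup H : Set H)
    with hZ
  have hZn : Z.Normal := inferInstance
  have hDZ : D ≤ Z := le_inf hDF hDc
  have hN : (D.subgroupOf Z).Normal := by
    constructor
    intro n hn g
    have hcomm : (g : H) * (n : H) = (n : H) * (g : H) := by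
      have h1 : (g : H) ∈ Subgroup.centralizer (generalizedFittingSubgroup H : Set H) := g.2.2
      exact (h1 (n : H) n.2.1).symm
    have : g * n * g⁻¹ = n := by
      apply Subtype.ext
      simp only [Subgroup.coe_mul, Subgroup.coe_inv]
      rw [hcomm, mul_assoc, mul_inv_cancel, mul_one]
    rw [this]; exact hn
  have hDsn : D.IsSubnormal := Subgroup.IsSubnormal.step D Z hDZ hZn.isSubnormal hN
  have := le_pCore_of_isSubnormal_of_isPGroup q hDsn hD
  rw [hq] at this
  exact le_bot_iff.mp this

theorem central_part (S : Subgroup H) (hS : S ≤ generalizedFittingSubgroup H)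
    (hC : generalizedFittingSubgroup H ⊓ Subgroup.centralizer (S : Set H) ≤ S)
    (r : ℕ) [Fact r.Prime] (hne : pCore r H ≠ ⊥) :
    pCore r H ⊓ Subgroup.centralizer (generalizedFittingSubgroup H : Set H) ≠ ⊥ ∧
    pCore r H ⊓ Subgroup.centralizer (generalizedFittingSubgroup H : Set H) ≤ S ⊓ pCore r H := by
  constructor
  · haveI : Nontrivial ↥(pCore r H) := (Subgroup.nontrivial_iff_ne_bot _).mpr hne
    haveI := (Cfsg.Agent.Lib.Helper16.pCore_isPGroup r H).center_nontrivial
    obtain ⟨z, hz⟩ := exists_ne (1 : ↥(Subgroup.center ↥(pCore r H)))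
    intro hbot
    apply hz
    have hzc : ((z : ↥(pCore r H)) : H) ∈
        Subgroup.centralizer (generalizedFittingSubgroup H : Set H) := by
      have hzF : ((z : ↥(pCore r H)) : H) ∈ fittingSubgroup H :=
        (pCore_le_fitting' r) (z : ↥(pCore r H)).2
      have h1 : generalizedFittingSubgroup H ≤
          Subgroup.centralizer ({((z : ↥(pCore r H)) : H)} : Set H) := by
        apply genFitting_le_centralizer_of
        · intro y hy
          rw [Subgroup.mem_centralizer_singleton_iff]
          have := layer_le_centralizer_fitting (G := H) hy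
          exact (this _ hzF).symm
        · intro t
          haveI : Fact (t:ℕ).Prime := ⟨t.2⟩
          intro y hy
          rw [Subgroup.mem_centralizer_singleton_iff]
          by_cases htr : (t:ℕ) = r
          · rw [htr] at hy
            have hzcen := z.2
            rw [Subgroup.mem_center_iff] at hzcen
            have := hzcen ⟨y, hy⟩
            have h2 := congrArg Subtype.val this
            simpa using h2
          · have := pCore_comm (H := H) (r := r) (t := (t:ℕ)) (fun h => htr h.symm)
              (z : ↥(pCore r H)).2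
            exact this y hy
      intro y hy
      have := h1 hy
      rw [Subgroup.mem_centralizer_singleton_iff] at this
      exact this
    have hmem : ((z : ↥(pCore r H)) : H) ∈
        pCore r H ⊓ Subgroup.centralizer (generalizedFittingSubgroup H : Set H) :=
      ⟨(z : ↥(pCore r H)).2, hzc⟩
    rw [hbot, Subgroup.mem_bot] at hmem
    apply Subtype.ext
    apply Subtype.ext
    simpa using hmem
  · intro w hw
    refine ⟨?_, hw.1⟩
    apply hC
    refine ⟨(le_sup_right : fittingSubgroup H ≤ generalizedFittingSubgroup H)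
      ((pCore_le_fitting' r) hw.1), ?_⟩
    exact Subgroup.centralizer_le hS hw.2

theorem opUp_genFitting_le (p : ℕ) [Fact p.Prime] :
    opUp p (generalizedFittingSubgroup H) ≤
      layer H ⊔ ⨆ r : {r : Nat.Primes // (r:ℕ) ≠ p}, pCore ((r:Nat.Primes):ℕ) H := by
  haveI : ∀ r : {r : Nat.Primes // (r:ℕ) ≠ p}, (pCore ((r:Nat.Primes):ℕ) H).Normal :=
    fun r => Cfsg.Agent.Lib.Helper16.pCore_normal _ _
  set B := layer H ⊔ ⨆ r : {r : Nat.Primes // (r:ℕ) ≠ p}, pCore ((r:Nat.Primes):ℕ) H with hB
  have hBn : B.Normal := inferInstance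
  have h1 : generalizedFittingSubgroup H ≤ B ⊔ pCore p H := by
    unfold generalizedFittingSubgroup
    apply sup_le
    · exact le_sup_left.trans le_sup_left
    · rw [fittingSubgroup_eq_iSup_pCore']
      apply iSup_le
      intro r
      by_cases hr : (r:ℕ) = p
      · rw [hr]; exact le_sup_right
      · refine le_trans ?_ le_sup_left
        refine le_trans ?_ le_sup_right
        exact le_iSup (fun r : {r : Nat.Primes // (r:ℕ) ≠ p} => pCore ((r:Nat.Primes):ℕ) H) ⟨r, hr⟩
  refine (opUp_mono p h1).trans ?_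
  apply opUp_sup_le_of_isPGroup p B (pCore p H) (Cfsg.Agent.Lib.Helper16.pCore_isPGroup p H)
  rw [Subgroup.normalizer_eq_top]
  exact le_top

end internal

section ambient

variable {G : Type*} [Group G] [Finite G]

theorem le_normalizer_map_subtype (B : Subgroup G) (N : Subgroup ↥B) [hN : N.Normal] :
    B ≤ Subgroup.normalizer ((N.map B.subtype : Subgroup G) : Set G) := by
  have key : ∀ b ∈ B, ∀ g ∈ N.map B.subtype, b * g * b⁻¹ ∈ N.map B.subtype := by
    intro b hb g hg
    obtain ⟨n, hn, rfl⟩ := hg
    exact ⟨⟨b, hb⟩ * n * ⟨b, hb⟩⁻¹, hN.conj_mem n hn ⟨b, hb⟩, by simp⟩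
  intro b hb
  apply mem_normalizer_of_conj_mem
  · exact key b hb
  · intro g hg
    have := key b⁻¹ (B.inv_mem hb) g hg
    simpa using this

theorem le_normalizer_inf' {S X Y : Subgroup G} (hX : S ≤ Subgroup.normalizer (X : Set G))
    (hY : S ≤ Subgroup.normalizer (Y : Set G)) :
    S ≤ Subgroup.normalizer ((X ⊓ Y : Subgroup G) : Set G) := by
  intro x hx
  apply mem_normalizer_of_conj_mem
  · intro g hg
    exact ⟨conj_mem_of_mem_normalizer (hX hx) hg.1, conj_mem_of_mem_normalizer (hY hx) hg.2⟩
  · intro g hg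
    have h1 := conj_mem_of_mem_normalizer (hX (S.inv_mem hx)) hg.1
    have h2 := conj_mem_of_mem_normalizer (hY (S.inv_mem hx)) hg.2
    simp only [inv_inv] at h1 h2
    exact ⟨h1, h2⟩

theorem normalizer_le_normalizer_centralizer' (T : Subgroup G) :
    Subgroup.normalizer (T : Set G) ≤
      Subgroup.normalizer ((Subgroup.centralizer (T : Set G) : Subgroup G) : Set G) := by
  have key : ∀ x ∈ Subgroup.normalizer (T : Set G), ∀ c ∈ Subgroup.centralizer (T : Set G),
      x * c * x⁻¹ ∈ Subgroup.centralizer (T : Set G) := by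
    intro x hx c hc t ht
    have h1 : x⁻¹ * t * x ∈ T := by
      have := conj_mem_of_mem_normalizer (Subgroup.inv_mem _ hx) ht
      simpa using this
    have h2 := hc _ h1
    calc t * (x * c * x⁻¹) = x * ((x⁻¹ * t * x) * c) * x⁻¹ := by group
      _ = x * (c * (x⁻¹ * t * x)) * x⁻¹ := by rw [h2]
      _ = x * c * x⁻¹ * t := by group
  intro x hx
  apply mem_normalizer_of_conj_mem
  · exact key x hx
  · intro g hg
    have := key x⁻¹ (Subgroup.inv_mem _ hx) g hg
    simpa using this

theorem subgroupOf_le_normalizer_subgroupOf {A S D : Subgroup G}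
    (h : S ≤ Subgroup.normalizer (D : Set G)) :
    S.subgroupOf A ≤ Subgroup.normalizer ((D.subgroupOf A : Subgroup ↥A) : Set ↥A) := by
  intro x hx
  rw [Subgroup.mem_normalizer_iff]
  intro g
  have := Subgroup.mem_normalizer_iff.mp (h hx) (g : G)
  simpa [Subgroup.mem_subgroupOf] using this

theorem centralizer_le_of_coatom [IsSimpleGroup G] {A : Subgroup G} (hA : IsCoatom A)
    (W : Subgroup G) (hW : W ≠ ⊥) (hWA : W ≤ A)
    (hAW : A ≤ Subgroup.normalizer (W : Set G)) : Subgroup.centralizer (W : Set G) ≤ A := by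
  rcases hA.le_iff.mp hAW with h | h
  · exfalso
    have hn : W.Normal := Subgroup.normalizer_eq_top_iff.mp h
    rcases hn.eq_bot_or_eq_top with h1 | h1
    · exact hW h1
    · apply hA.1
      rw [eq_top_iff, ← h1]
      exact hWA
  · rw [← h]
    exact Subgroup.centralizer_le_normalizer _

end ambient

open Cfsg.Agent.Lib.Helper20 Cfsg.Agent.Lib.Helper16 in
theorem result {G : Type*} [Group G] [Finite G] [IsSimpleGroup G] (hna : ¬ IsMulCommutative G) (A : Subgroup G) (hA : IsCoatom A) (S : Subgroup G) (hSF : S ≤ (Cfsg.generalizedFittingSubgroup ↥A).map A.subtype) (hSsn : (S.subgroupOf ((Cfsg.generalizedFittingSubgroup ↥A).map A.subtype)).IsSubnormal) (hSC : (Cfsg.generalizedFittingSubgroup ↥A).map A.subtype ⊓ Subgroup.centralizer (S : Set G) ≤ S) (B : Subgroup G) (hSB : S ≤ B) : (∀ q : ℕ, q.Prime → ¬ q ∣ Nat.card (Cfsg.fittingSubgroup ↥A) → (Cfsg.pCore q ↥B).map B.subtype ⊓ A = ⊥) ∧ (∀ p : ℕ, p.Prime → p ∣ Nat.card (Cfsg.fittingSubgroup ↥A) → ∀ x ∈ (Cfsg.pCore p ↥B).map B.subtype, ∀ y ∈ (Cfsg.pResidual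 p ↥(Cfsg.generalizedFittingSubgroup ↥A)).map ((Cfsg.generalizedFittingSubgroup ↥A).subtype) , x * (A.subtype y) = (A.subtype y) * x) := by
  classical
  set Fs : Subgroup ↥A := generalizedFittingSubgroup ↥A with hFs
  set S' : Subgroup ↥A := S.subgroupOf A with hS'
  have hFA : Fs.map A.subtype ≤ A := Subgroup.map_subtype_le _
  have hSA : S ≤ A := hSF.trans hFA
  have hS'map : S'.map A.subtype = S := Subgroup.map_subgroupOf_eq_of_le hSA
  have hS'F : S' ≤ Fs := by
    intro x hx
    obtain ⟨y, hy, hxy⟩ := hSF (show (x : G) ∈ S from hx)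
    have : y = x := Subtype.ext hxy
    rwa [← this]
  have hS'sn : S'.IsSubnormal := by
    have h2 : ((Fs.map A.subtype).subgroupOf A).IsSubnormal := by
      have : (Fs.map A.subtype).subgroupOf A = Fs :=
        Subgroup.comap_map_eq_self_of_injective A.subtype_injective Fs
      rw [this]
      exact (inferInstance : Fs.Normal).isSubnormal
    have h3 := isSubnormal_subgroupOf_trans hFA hSsn h2
    rwa [inf_eq_left.mpr hSF] at h3
  have hS'C : Fs ⊓ Subgroup.centralizer (S' : Set ↥A) ≤ S' := by
    intro x hx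
    show (x : G) ∈ S
    apply hSC
    refine ⟨⟨x, hx.1, rfl⟩, ?_⟩
    intro s hs
    have := hx.2 ⟨s, hSA hs⟩ (show ((⟨s, hSA hs⟩ : ↥A) : G) ∈ S from hs)
    exact congrArg Subtype.val this
  -- S normalizes O_q(B) in G
  have hSNP : ∀ q : ℕ, S ≤ Subgroup.normalizer (((Cfsg.pCore q ↥B).map B.subtype : Subgroup G) : Set G) := by
    intro q
    haveI := Cfsg.Agent.Lib.Helper16.pCore_normal q ↥B
    exact hSB.trans (le_normalizer_map_subtype B (Cfsg.pCore q ↥B))
  constructor
  · intro q hq hqF
    haveI : Fact q.Prime := ⟨hq⟩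
    have hqcore : pCore q ↥A = ⊥ := by
      apply eq_bot_of_isPGroup_of_coprime q _ (Cfsg.Agent.Lib.Helper16.pCore_isPGroup q ↥A)
      have h1 : Nat.card (pCore q ↥A) ∣ Nat.card (fittingSubgroup ↥A) :=
        Subgroup.card_dvd_of_le (pCore_le_fitting' q)
      have h2 : (Nat.card (fittingSubgroup ↥A)).Coprime q :=
        ((Nat.Prime.coprime_iff_not_dvd hq).mpr hqF).symm
      exact Nat.Coprime.coprime_dvd_left h1 h2
    set D := (Cfsg.pCore q ↥B).map B.subtype ⊓ A with hD
    have hDA : D ≤ A := inf_le_right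
    have hDp : IsPGroup q D :=
      ((Cfsg.Agent.Lib.Helper16.pCore_isPGroup q ↥B).map B.subtype).to_le inf_le_left
    have hSND : S ≤ Subgroup.normalizer (D : Set G) :=
      le_normalizer_inf' (hSNP q) (hSA.trans Subgroup.le_normalizer)
    have hD'p : IsPGroup q (D.subgroupOf A) := hDp.comap_subtype
    have hSD' : S' ≤ Subgroup.normalizer ((D.subgroupOf A : Subgroup ↥A) : Set ↥A) :=
      subgroupOf_le_normalizer_subgroupOf hSND
    have := partA S' (D.subgroupOf A) hS'F hS'sn hS'C q hqcore hD'p hSD'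
    rw [← Subgroup.map_subgroupOf_eq_of_le hDA, this, Subgroup.map_bot]
  · intro p hp hpF
    haveI : Fact p.Prime := ⟨hp⟩
    set P := (Cfsg.pCore p ↥B).map B.subtype with hP
    have hPp : IsPGroup p P := (Cfsg.Agent.Lib.Helper16.pCore_isPGroup p ↥B).map B.subtype
    have hOpne : pCore p ↥A ≠ ⊥ := by
      intro h0
      have hle : fittingSubgroup ↥A ≤ pPrimeCore p ↥A := by
        rw [fittingSubgroup_eq_iSup_pCore']
        apply iSup_le
        intro r
        haveI : Fact (r:ℕ).Prime := ⟨r.2⟩
        by_cases hr : (r:ℕ) = p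
        · rw [hr, h0]; exact bot_le
        · exact le_pPrimeCore' (Cfsg.Agent.Lib.Helper16.pCore_normal _ _)
            (card_coprime_of_isPGroup hr (Cfsg.Agent.Lib.Helper16.pCore_isPGroup (r:ℕ) ↥A))
      have h1 : Nat.card (fittingSubgroup ↥A) ∣ Nat.card (pPrimeCore p ↥A) :=
        Subgroup.card_dvd_of_le hle
      have h2 := pPrimeCore_coprime' (G := ↥A) p
      have h3 : p ∣ Nat.gcd (Nat.card (pPrimeCore p ↥A)) p :=
        Nat.dvd_gcd (hpF.trans h1) dvd_rfl
      rw [h2] at h3
      exact hp.one_lt.ne' (Nat.dvd_one.mp h3)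
    -- maximality
    have hmax : ∀ W' : Subgroup ↥A, W'.Normal → W' ≠ ⊥ →
        Subgroup.centralizer ((W'.map A.subtype : Subgroup G) : Set G) ≤ A := by
      intro W' hW'n hW'ne
      apply centralizer_le_of_coatom hA
      · intro h
        apply hW'ne
        rw [← (Subgroup.map_eq_bot_iff_of_injective W' A.subtype_injective)]
        exact h
      · exact Subgroup.map_subtype_le _
      · exact le_normalizer_map_subtype A W'
    set Op := (pCore p ↥A).map A.subtype with hOp
    set T := S ⊓ Op with hT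
    have hTp : IsPGroup p T :=
      ((Cfsg.Agent.Lib.Helper16.pCore_isPGroup p ↥A).map A.subtype).to_le inf_le_right
    have hCTA : Subgroup.centralizer (T : Set G) ≤ A := by
      obtain ⟨hne, hle⟩ := central_part S' hS'F hS'C p hOpne
      haveI := Cfsg.Agent.Lib.Helper16.pCore_normal p ↥A
      have hWn : (pCore p ↥A ⊓ Subgroup.centralizer (Fs : Set ↥A)).Normal := inferInstance
      refine le_trans ?_ (hmax _ hWn hne)
      apply Subgroup.centralizer_le
      intro w hw
      obtain ⟨w', hw', rfl⟩ := hw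
      have := hle hw'
      exact ⟨this.1, ⟨w', this.2, rfl⟩⟩
    have hSNT : S ≤ Subgroup.normalizer (T : Set G) := by
      haveI := Cfsg.Agent.Lib.Helper16.pCore_normal p ↥A
      exact le_normalizer_inf' Subgroup.le_normalizer
        (hSA.trans (le_normalizer_map_subtype A (pCore p ↥A)))
    -- key step
    have key : ∀ x ∈ S, (orderOf x).Coprime p → x ∈ Subgroup.centralizer (T : Set G) →
        x ∈ Subgroup.centralizer (P : Set G) := by
      intro x hxS hxo hxT
      set D := P ⊓ Subgroup.centralizer (T : Set G) with hD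
      have hDA : D ≤ A := inf_le_right.trans hCTA
      have hDp : IsPGroup p D := hPp.to_le inf_le_left
      have hSND : S ≤ Subgroup.normalizer (D : Set G) :=
        le_normalizer_inf' (hSNP p) (hSNT.trans (normalizer_le_normalizer_centralizer' T))
      have hD'p : IsPGroup p (D.subgroupOf A) := hDp.comap_subtype
      have hSD' : S' ≤ Subgroup.normalizer ((D.subgroupOf A : Subgroup ↥A) : Set ↥A) :=
        subgroupOf_le_normalizer_subgroupOf hSND
      obtain ⟨-, hcomm⟩ := star S' (D.subgroupOf A) hS'sn p hD'p hSD'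
      have hzS : Subgroup.zpowers x ≤ S := (Subgroup.zpowers_le).mpr hxS
      have hzT : Subgroup.zpowers x ≤ Subgroup.centralizer (T : Set G) :=
        (Subgroup.zpowers_le).mpr hxT
      have hcard : (Nat.card (Subgroup.zpowers x)).Coprime p := by
        rw [Nat.card_zpowers]; exact hxo
      have hTz : ⁅T, Subgroup.zpowers x⁆ = ⊥ := by
        rw [Subgroup.commutator_eq_bot_iff_le_centralizer]
        exact Subgroup.le_centralizer_iff.mp hzT
      have h1 : ⁅D, Subgroup.zpowers x⁆ ≤ T := by
        rw [Subgroup.commutator_le]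
        intro d hd z hz
        have hzo : (orderOf z).Coprime p := by
          obtain ⟨k, rfl⟩ := Subgroup.mem_zpowers_iff.mp hz
          exact Nat.Coprime.coprime_dvd_left (orderOf_dvd_of_pow_eq_one
            (by rw [← zpow_natCast, ← zpow_mul, mul_comm, zpow_mul, zpow_natCast, pow_orderOf_eq_one,
              one_zpow])) hxo
        have hzS' : (⟨z, hSA (hzS hz)⟩ : ↥A) ∈ opUp p S' := by
          apply mem_opUp_of_coprime p (show (⟨z, hSA (hzS hz)⟩ : ↥A) ∈ S' from hzS hz)
          rw [← Subgroup.orderOf_coe]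
          exact hzo
        have hd' : (⟨d, hDA hd⟩ : ↥A) ∈ D.subgroupOf A := hd
        have hmem := hcomm (Subgroup.commutator_mem_commutator hzS' hd')
        have h2 : ⁅z, d⁆ ∈ T := by
          refine ⟨hmem.1.2, ⟨_, hmem.1.1, ?_⟩⟩
          simp [commutatorElement_def]
        have h3 : ⁅d, z⁆ = ⁅z, d⁆⁻¹ := (commutatorElement_inv z d).symm
        rw [h3]
        exact T.inv_mem h2
      have hD1 : ⁅D, Subgroup.zpowers x⁆ = ⊥ := by
        apply commutator_eq_bot_of_commutator_commutator_eq_bot p D (Subgroup.zpowers x) hDp hcard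
          (hzS.trans hSND)
        rw [eq_bot_iff, ← hTz]
        exact Subgroup.commutator_mono h1 le_rfl
      have hfin : ⁅P, Subgroup.zpowers x⁆ = ⊥ := by
        apply thompson_AxB p P (Subgroup.zpowers x) T hPp hTp hcard
        · rw [Subgroup.commutator_comm]; exact hTz
        · exact hzS.trans (hSNP p)
        · exact (inf_le_left : T ≤ S).trans (hSNP p)
        · rw [Subgroup.commutator_eq_bot_iff_le_centralizer] at hD1
          exact hD1
      rw [Subgroup.commutator_eq_bot_iff_le_centralizer] at hfin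
      have := Subgroup.le_centralizer_iff.mp hfin
      exact this (Subgroup.mem_zpowers x)
    have helem : ∀ r : ℕ, [Fact r.Prime] → r ≠ p → ∀ w' : ↥A, w' ∈ S' → w' ∈ pCore r ↥A →
        (w' : G) ∈ Subgroup.centralizer (P : Set G) := by
      intro r _ hrp w' hw1 hw2
      apply key (w' : G) hw1
      · rw [Subgroup.orderOf_coe]
        exact orderOf_coprime_of_mem_pCore hrp hw2
      · intro t ht
        obtain ⟨t', ht', rfl⟩ := ht.2
        have := pCore_comm (H := ↥A) (r := r) (t := p) hrp hw2 t' ht'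
        exact congrArg Subtype.val this
    have hlay : (layer ↥A).map A.subtype ≤ Subgroup.centralizer (P : Set G) := by
      rw [Subgroup.map_le_iff_le_comap]
      apply sSup_le
      intro K hK
      have hKS : K ≤ S' := (component_le_layer K hK).trans (layer_le S' hS'sn hS'C)
      refine (component_le_opUp K hK p).trans ?_
      rw [opUp_le_iff]
      intro g hg hgo
      show (g : G) ∈ Subgroup.centralizer (P : Set G)
      apply key (g:G) (hKS hg)
      · rw [Subgroup.orderOf_coe]; exact hgo
      · intro t ht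
        obtain ⟨t', ht', rfl⟩ := ht.2
        have hgl : g ∈ layer ↥A := component_le_layer K hK hg
        have := layer_le_centralizer_fitting (G := ↥A) hgl t' ((pCore_le_fitting' p) ht')
        exact congrArg Subtype.val this
    have hcore : ∀ r : {r : Nat.Primes // (r:ℕ) ≠ p},
        (pCore ((r:Nat.Primes):ℕ) ↥A).map A.subtype ≤ Subgroup.centralizer (P : Set G) := by
      rintro ⟨r, hrp⟩
      haveI : Fact (r:ℕ).Prime := ⟨r.2⟩
      show (pCore (r:ℕ) ↥A).map A.subtype ≤ _
      by_cases hr0 : pCore (r:ℕ) ↥A = ⊥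
      · rw [hr0, Subgroup.map_bot]; exact bot_le
      · haveI := Cfsg.Agent.Lib.Helper16.pCore_normal (r:ℕ) ↥A
        obtain ⟨hne, hle⟩ := central_part S' hS'F hS'C (r:ℕ) hr0
        have hWn : (pCore (r:ℕ) ↥A ⊓ Subgroup.centralizer (Fs : Set ↥A)).Normal := inferInstance
        have hPA : P ≤ A := by
          refine le_trans ?_ (hmax _ hWn hne)
          rw [Subgroup.le_centralizer_iff]
          intro w hw
          obtain ⟨w', hw', rfl⟩ := hw
          have := hle hw'
          exact helem (r:ℕ) hrp w' this.1 this.2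
        rw [← Subgroup.commutator_eq_bot_iff_le_centralizer]
        apply thompson_AxB (r:ℕ) ((pCore (r:ℕ) ↥A).map A.subtype) P
          (S ⊓ (pCore (r:ℕ) ↥A).map A.subtype)
          ((Cfsg.Agent.Lib.Helper16.pCore_isPGroup (r:ℕ) ↥A).map A.subtype)
          (((Cfsg.Agent.Lib.Helper16.pCore_isPGroup (r:ℕ) ↥A).map A.subtype).to_le inf_le_right)
          (card_coprime_of_isPGroup (fun h => hrp h.symm) hPp)
        · rw [Subgroup.commutator_comm, Subgroup.commutator_eq_bot_iff_le_centralizer]
          intro w hw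
          obtain ⟨w', hw', rfl⟩ := hw.2
          exact helem (r:ℕ) hrp w' hw.1 hw'
        · exact hPA.trans (le_normalizer_map_subtype A _)
        · exact inf_le_right.trans Subgroup.le_normalizer
        · intro c hc
          obtain ⟨c', hc', rfl⟩ := hc.1
          have hc2 : c' ∈ pCore (r:ℕ) ↥A ⊓
              Subgroup.centralizer ((S' ⊓ pCore (r:ℕ) ↥A : Subgroup ↥A) : Set ↥A) := by
            refine ⟨hc', ?_⟩
            intro y hy
            have := hc.2 (y:G) ⟨hy.1, ⟨y, hy.2, rfl⟩⟩
            exact Subtype.ext this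
          have := cent_pCore_inf_le S' hS'F hS'sn hS'C (r:ℕ) hc2
          exact helem (r:ℕ) hrp c' this hc'
    intro x hx y hy
    have hy' : y ∈ opUp p Fs := by rw [← map_pResidual_eq_opUp]; exact hy
    have hy2 := opUp_genFitting_le (H := ↥A) p hy'
    have hall : (layer ↥A ⊔ ⨆ r : {r : Nat.Primes // (r:ℕ) ≠ p},
        pCore ((r:Nat.Primes):ℕ) ↥A).map A.subtype ≤ Subgroup.centralizer (P : Set G) := by
      rw [Subgroup.map_sup, Subgroup.map_iSup]
      exact sup_le hlay (iSup_le hcore)
    exact hall ⟨y, hy2, rfl⟩ x hx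

end Cfsg.Agent.S1247
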