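-- Statement S1248 (structure of a Sylow 2-subgroup of PSU_3(4)); proof by helper6.
-- The template's placeholder is replaced by a full proof.
import Cfsg.Statements.S1248
import Mathlib
import Cfsg.Agent.Lib.Helper6.SU3Sylow
import Cfsg.Agent.S1137

set_option autoImplicit false
open Cfsg

namespace Cfsg.Agent.S1248

open Cfsg.Agent.Lib.Helper6.SuzTransport
open scoped commutatorElement

/-- consequences of the package for an abstract group -/
theorem of_pack {G : Type*} [Group G] (h : Pack G 4) :
    Nat.card G = 64 ∧ IsKleinFour (Subgroup.center G) ∧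
      Subgroup.center G = Subgroup.closure {x : G | orderOf x = 2} ∧
      Subgroup.center G = commutator G ∧ Nat.card (G ⧸ Subgroup.center G) = 16 ∧
      ∀ x : G ⧸ Subgroup.center G, x ^ 2 = 1 := by
  obtain ⟨h1137a, h1137b⟩ := Cfsg.Agent.S1137.result h.suz
  have hcard : Nat.card G = 64 := by rw [h.card]; norm_num
  haveI : Finite G := Nat.finite_of_card_ne_zero (by rw [hcard]; norm_num)
  refine ⟨hcard, ?_, ?_, ?_, ?_, ?_⟩
  · refine ⟨h.cardZ, ?_⟩
    have hdvd : Monoid.exponent (Subgroup.center G) ∣ 2 := by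
      apply Monoid.exponent_dvd_of_forall_pow_eq_one
      intro z
      apply Subtype.ext
      rw [Subgroup.coe_pow, pow_two]
      exact h1137b z.1 z.2
    rcases (Nat.dvd_prime Nat.prime_two).mp hdvd with h1 | h1
    · exfalso
      have := Monoid.exp_eq_one_iff.mp h1
      have h4 := h.cardZ
      rw [Nat.card_eq_one_iff_unique.mpr ⟨this, ⟨1⟩⟩] at h4
      norm_num at h4
    · exact h1
  · apply le_antisymm
    · intro z hz
      by_cases hz1 : z = 1
      · rw [hz1]; exact Subgroup.one_mem _
      apply Subgroup.subset_closure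
      have h2 := h1137b z hz
      rw [Set.mem_setOf_eq, orderOf_eq_iff (by norm_num)]
      refine ⟨by rw [pow_two]; exact h2, ?_⟩
      intro m hm hm0
      have : m = 1 := by omega
      rw [this, pow_one]; exact hz1
    · rw [Subgroup.closure_le]
      intro x hx
      have hx2 : orderOf x = 2 := hx
      have h1 : x ≠ 1 := by
        intro h; rw [h, orderOf_one] at hx2; norm_num at hx2
      have h2 : x * x = 1 := by rw [← pow_two, ← hx2]; exact pow_orderOf_eq_one x
      exact ((h1137a x).mp ⟨h1, h2⟩).1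
  · apply le_antisymm
    · intro z hz
      obtain ⟨x, y, hxy⟩ := h.zcomm z hz
      have : z = ⁅x⁻¹, y⁻¹⁆ := by rw [hxy, commutatorElement_def]; group
      rw [this, commutator_def]
      exact Subgroup.commutator_mem_commutator (Subgroup.mem_top _) (Subgroup.mem_top _)
    · rw [commutator_def, Subgroup.commutator_le]
      intro g₁ _ g₂ _
      have := h.comm g₁⁻¹ g₂⁻¹
      have e : ⁅g₁, g₂⁆ = g₁⁻¹⁻¹ * g₂⁻¹⁻¹ * g₁⁻¹ * g₂⁻¹ := by
        rw [commutatorElement_def]; group
      rw [e]; exact this
  · have := Subgroup.card_eq_card_quotient_mul_card_subgroup (Subgroup.center G)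
    rw [hcard, h.cardZ] at this
    omega
  · intro x
    induction x using QuotientGroup.induction_on with
    | H g =>
      rw [← QuotientGroup.mk_pow, QuotientGroup.eq_one_iff, pow_two]
      exact h.sq g

/-- Let F be a field with 16 elements and S a Sylow 2-subgroup of PSU(3) over F (the unitary group U₃(4)). Then |S| = 64; the centre Z(S) is a Klein four-group and coincides with the subgroup generated by the involutions of S and with the derived subgroup; and every element of S ⧸ Z(S) squares to the identity, S ⧸ Z(S) having order 16. -/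
theorem result {F : Type*} [Field F] [Fintype F] (hF : Fintype.card F = 16) (S : Sylow 2 (Cfsg.PSU 3 F 4)) : Nat.card S = 64 ∧ IsKleinFour (Subgroup.center (S : Subgroup (Cfsg.PSU 3 F 4))) ∧ Subgroup.center (S : Subgroup (Cfsg.PSU 3 F 4)) = Subgroup.closure {x : (S : Subgroup (Cfsg.PSU 3 F 4)) | orderOf x = 2} ∧ Subgroup.center (S : Subgroup (Cfsg.PSU 3 F 4)) = commutator (S : Subgroup (Cfsg.PSU 3 F 4)) ∧ Nat.card ((S : Subgroup (Cfsg.PSU 3 F 4)) ⧸ Subgroup.center (S : Subgroup (Cfsg.PSU 3 F 4))) = 16 ∧ ∀ x : (S : Subgroup (Cfsg.PSU 3 F 4)) ⧸ Subgroup.center (S : Subgroup (Cfsg.PSU 3 F 4)), x ^ 2 = 1 := by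
  have hF' : Fintype.card F = (2 ^ 2) ^ 2 := by rw [hF]; norm_num
  have h : Pack (S : Subgroup (Cfsg.PSU 3 F 4)) 4 :=
    Cfsg.Agent.Lib.Helper6.SU3Sylow.pack_sylow_PSU (F := F) 2 le_rfl hF' S
  exact of_pack h

end Cfsg.Agent.S1248
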