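import Cfsg.Statements.S1249
-- import your own Cfsg.Agent.* helpers here

set_option autoImplicit false
open Cfsg

namespace Cfsg.Agent.S1249

/-- Let P and Q be Sylow p-subgroups of the finite group G both containing the subgroup A. If A is strongly closed in P, then A is strongly closed in Q. -/
theorem result {G : Type*} [Group G] [Finite G] {p : ℕ} [Fact p.Prime] (P Q : Sylow p G) (A : Subgroup G) (hAQ : A ≤ Q) (hA : Cfsg.IsStronglyClosed A (P : Subgroup G)) : Cfsg.IsStronglyClosed A (Q : Subgroup G) := by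
  obtain ⟨hAP, hcl⟩ := hA
  obtain ⟨c, hc⟩ := MulAction.exists_smul_eq G P Q
  -- membership in Q = c • P
  have hQ : ∀ y : G, y ∈ (Q : Subgroup G) ↔ c⁻¹ * y * c ∈ (P : Subgroup G) := by
    intro y
    rw [← hc, Sylow.coe_subgroup_smul, Subgroup.mem_pointwise_smul_iff_inv_smul_mem]
    simp only [MulAut.smul_def, MulAut.conj_inv_apply]
  -- conjugation by c⁻¹ maps A into A
  have hmap : ∀ a ∈ A, c⁻¹ * a * c ∈ A := by
    intro a ha
    have h1 : c⁻¹ * a * c ∈ (P : Subgroup G) := (hQ a).1 (hAQ ha)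
    have h2 := hcl a ha c⁻¹ (by simpa using h1)
    simpa using h2
  -- hence it is a bijection of A
  let φ : A → A := fun a => ⟨c⁻¹ * a * c, hmap a a.2⟩
  have hinj : Function.Injective φ := by
    intro a b hab
    have h : c⁻¹ * (a : G) * c = c⁻¹ * (b : G) * c := congrArg Subtype.val hab
    apply Subtype.ext
    have := congrArg (fun z => c * z * c⁻¹) h
    simpa [mul_assoc] using this
  have hsurj : Function.Surjective φ := Finite.injective_iff_surjective.1 hinj
  refine ⟨hAQ, ?_⟩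
  intro x hx g hgx
  have h1 : c⁻¹ * (g * x * g⁻¹) * c ∈ (P : Subgroup G) := (hQ _).1 hgx
  have h2 : (c⁻¹ * g) * x * (c⁻¹ * g)⁻¹ ∈ A := by
    apply hcl x hx
    have : (c⁻¹ * g) * x * (c⁻¹ * g)⁻¹ = c⁻¹ * (g * x * g⁻¹) * c := by group
    rw [this]; exact h1
  obtain ⟨b, hb⟩ := hsurj ⟨_, h2⟩
  have hb' : c⁻¹ * (b : G) * c = (c⁻¹ * g) * x * (c⁻¹ * g)⁻¹ := congrArg Subtype.val hb
  have : g * x * g⁻¹ = b := by
    have h3 : g * x * g⁻¹ = c * ((c⁻¹ * g) * x * (c⁻¹ * g)⁻¹) * c⁻¹ := by group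
    rw [h3, ← hb']; group
  rw [this]; exact b.2

end Cfsg.Agent.S1249
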