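import Cfsg.Statements.S1250
-- import your own Cfsg.Agent.* helpers here

set_option autoImplicit false
open Cfsg

namespace Cfsg.Agent.S1250

/-- Let S be a Sylow p-subgroup of the finite group G, A ≤ S strongly closed in S, and N a normal subgroup. Then the image of A in G ⧸ N is strongly closed in the image of S (which is a Sylow p-subgroup of G ⧸ N). -/
theorem result {G : Type*} [Group G] [Finite G] {p : ℕ} [Fact p.Prime] (S : Sylow p G) (A : Subgroup G) (hA : Cfsg.IsStronglyClosed A (S : Subgroup G)) (N : Subgroup G) [N.Normal] : Cfsg.IsStronglyClosed (A.map (QuotientGroup.mk' N)) ((S : Subgroup G).map (QuotientGroup.mk' N)) := by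
  obtain ⟨hAS, hcl⟩ := hA
  refine ⟨Subgroup.map_mono hAS, ?_⟩
  intro xbar hxbar gbar hmem
  obtain ⟨x, hx, rfl⟩ := Subgroup.mem_map.1 hxbar
  obtain ⟨g, rfl⟩ := QuotientGroup.mk'_surjective N gbar
  obtain ⟨s, hs, hsy⟩ := Subgroup.mem_map.1 hmem
  set y : G := g * x * g⁻¹ with hy
  have hsy' : (QuotientGroup.mk' N) s = (QuotientGroup.mk' N) y := by
    rw [hsy, hy]; simp
  set K : Subgroup G := (S : Subgroup G) ⊔ N with hK
  have hSK : (S : Subgroup G) ≤ K := le_sup_left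
  have hyK : y ∈ K := by
    have h1 : s⁻¹ * y ∈ N := by
      have := (QuotientGroup.eq (s := N) (a := s) (b := y)).1 hsy'
      exact this
    have : y = s * (s⁻¹ * y) := by group
    rw [this]
    exact K.mul_mem (hSK hs) ((le_sup_right : N ≤ K) h1)
  -- y is a p-element
  have hyp : IsPGroup p (Subgroup.zpowers y) := by
    have h1 : IsPGroup p (Subgroup.zpowers x) :=
      S.isPGroup'.to_le ((Subgroup.zpowers_le).2 (hAS hx))
    have h2 : Subgroup.zpowers y = (Subgroup.zpowers x).map (MulAut.conj g).toMonoidHom := by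
      rw [MonoidHom.map_zpowers]; rfl
    rw [h2]; exact h1.map _
  let S' : Sylow p K := S.subtype hSK
  have hR : IsPGroup p ((Subgroup.zpowers y).subgroupOf K) := hyp.comap_subtype
  obtain ⟨Q', hQ'⟩ := hR.exists_le_sylow
  obtain ⟨k, hk⟩ := MulAction.exists_smul_eq K Q' S'
  have hyQ : (⟨y, hyK⟩ : K) ∈ (Q' : Subgroup K) := hQ' (by
    rw [Subgroup.mem_subgroupOf]; exact Subgroup.mem_zpowers y)
  have hkS : k * ⟨y, hyK⟩ * k⁻¹ ∈ (S' : Subgroup K) := by
    rw [← hk, Sylow.coe_subgroup_smul, Subgroup.mem_pointwise_smul_iff_inv_smul_mem]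
    simp only [MulAut.smul_def, MulAut.conj_inv_apply]
    have : k⁻¹ * (k * ⟨y, hyK⟩ * k⁻¹) * k = ⟨y, hyK⟩ := by group
    rw [this]; exact hyQ
  have hkS' : (k : G) * y * (k : G)⁻¹ ∈ (S : Subgroup G) := by
    have h0 : k * ⟨y, hyK⟩ * k⁻¹ ∈ (S : Subgroup G).subgroupOf K := by
      have := hkS
      rw [Sylow.coe_subtype] at this
      exact this
    rw [Subgroup.mem_subgroupOf] at h0
    simpa using h0
  -- decompose k = s₁ * n₁
  have hkmem : (k : G) ∈ ((S : Subgroup G) ⊔ N : Subgroup G) := k.2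
  have hkmem' : (k : G) ∈ ((((S : Subgroup G) ⊔ N : Subgroup G)) : Set G) := hkmem
  rw [Subgroup.mul_normal] at hkmem'
  obtain ⟨s₁, hs₁, n₁, hn₁, hkeq⟩ := hkmem'
  have hn₁S : n₁ * y * n₁⁻¹ ∈ (S : Subgroup G) := by
    have : n₁ * y * n₁⁻¹ = s₁⁻¹ * ((k : G) * y * (k : G)⁻¹) * s₁ := by
      rw [← hkeq]; group
    rw [this]
    exact (S : Subgroup G).mul_mem ((S : Subgroup G).mul_mem ((S : Subgroup G).inv_mem hs₁) hkS') hs₁
  have hnA : (n₁ * g) * x * (n₁ * g)⁻¹ ∈ A := by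
    apply hcl x hx
    have : (n₁ * g) * x * (n₁ * g)⁻¹ = n₁ * y * n₁⁻¹ := by rw [hy]; group
    rw [this]; exact hn₁S
  refine Subgroup.mem_map.2 ⟨_, hnA, ?_⟩
  have hn1 : (QuotientGroup.mk' N) n₁ = 1 := (QuotientGroup.eq_one_iff n₁).2 hn₁
  simp only [map_mul, map_inv, hn1, one_mul, inv_one, mul_one]

end Cfsg.Agent.S1250
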