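import Cfsg.Statements.S1254
import Cfsg.Agent.Lib.Helper11.DihLocal
import Cfsg.Agent.Lib.Helper11.FrobeniusLocal

set_option autoImplicit false
open Cfsg

namespace Cfsg.Agent.S1254

open Subgroup Cfsg.Agent.Lib.Helper11

/-- If `N(Q) = C(Q) ⊔ (S ∩ N(Q))` for a 2-group `S`, odd-order elements of `N(Q)` centralise `Q`. -/
theorem mem_centralizer_of_normalizer_eq {X : Type*} [Group X] [Finite X] (S Q : Subgroup X)
    (hS : IsPGroup 2 S)
    (hN : normalizer (Q : Set X) = centralizer (Q : Set X) ⊔ (S ⊓ normalizer (Q : Set X)))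
    (g : X) (hg : g ∈ normalizer (Q : Set X)) (hodd : (orderOf g).Coprime 2) :
    g ∈ centralizer (Q : Set X) := by
  set φ := Q.normalizerMonoidHom with hφ
  have hker : ∀ n : normalizer (Q : Set X), φ n = 1 ↔ (n : X) ∈ centralizer (Q : Set X) := by
    intro n
    rw [← MonoidHom.mem_ker, hφ, Subgroup.normalizerMonoidHom_ker, mem_subgroupOf]
  set Sn : Subgroup (normalizer (Q : Set X)) := (S ⊓ normalizer (Q : Set X)).subgroupOf _ with hSn
  set M : Subgroup X := (Subgroup.comap φ (Subgroup.map φ Sn)).map (normalizer (Q : Set X)).subtype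
    with hM
  have h1 : centralizer (Q : Set X) ≤ M := by
    intro c hc
    have hcN : c ∈ normalizer (Q : Set X) := centralizer_le_normalizer _ hc
    refine ⟨⟨c, hcN⟩, ?_, rfl⟩
    change φ ⟨c, hcN⟩ ∈ Subgroup.map φ Sn
    have : φ ⟨c, hcN⟩ = 1 := (hker ⟨c, hcN⟩).2 hc
    rw [this]
    exact one_mem _
  have h2 : S ⊓ normalizer (Q : Set X) ≤ M := by
    intro s hs
    have hs2 : s ∈ normalizer (Q : Set X) := (Subgroup.mem_inf.1 hs).2
    refine ⟨⟨s, hs2⟩, ?_, rfl⟩
    change φ ⟨s, hs2⟩ ∈ Subgroup.map φ Sn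
    exact Subgroup.mem_map_of_mem φ (by rw [hSn, mem_subgroupOf]; exact hs)
  have h3 : g ∈ M := by
    have : g ∈ centralizer (Q : Set X) ⊔ (S ⊓ normalizer (Q : Set X)) := hN ▸ hg
    exact (sup_le h1 h2) this
  obtain ⟨g', hg', hgg'⟩ := h3
  have hg'' : φ g' ∈ Subgroup.map φ Sn := hg'
  obtain ⟨s', hs', hss'⟩ := hg''
  have hg'eq : g' = ⟨g, hg⟩ := Subtype.ext hgg'
  rw [hg'eq] at hss'
  -- orders
  have ho1 : orderOf (φ ⟨g, hg⟩) ∣ orderOf g := by
    have := orderOf_map_dvd φ (⟨g, hg⟩ : normalizer (Q : Set X))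
    rwa [Subgroup.orderOf_mk] at this
  have hs'S : (s' : X) ∈ S := by
    have h5 : s' ∈ (S ⊓ normalizer (Q : Set X)).subgroupOf (normalizer (Q : Set X)) := hs'
    rw [mem_subgroupOf] at h5
    exact (Subgroup.mem_inf.1 h5).1
  obtain ⟨k, hk⟩ := hS ⟨(s' : X), hs'S⟩
  have hk' : s' ^ 2 ^ k = 1 := by
    apply Subtype.ext
    have := congrArg Subtype.val hk
    simpa using this
  have ho2 : orderOf (φ ⟨g, hg⟩) ∣ 2 ^ k := by
    rw [← hss']
    apply orderOf_dvd_of_pow_eq_one
    rw [← map_pow, hk', map_one]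
  have ho3 : orderOf (φ ⟨g, hg⟩) = 1 :=
    Nat.eq_one_of_dvd_coprimes (Nat.Coprime.pow_right k hodd) ho1 ho2
  rw [orderOf_eq_one_iff, hker] at ho3
  exact ho3

/-- Let X be a finite group whose Sylow 2-subgroup S is dihedral (of order at least 4). Then X has a normal 2-complement if and only if, for every Klein four-subgroup U ≤ S, the normalizer N_X(U) is generated by C_X(U) and N_S(U). -/
theorem result {X : Type*} [Group X] [Finite X] (S : Sylow 2 X) (m : ℕ) (hm : 2 ≤ m) (eS : (S : Subgroup X) ≃* DihedralGroup m) : Cfsg.HasNormalPComplement 2 X ↔ ∀ U : Subgroup X, U ≤ S → IsKleinFour U → Subgroup.normalizer (U : Set X) = Subgroup.centralizer (U : Set X) ⊔ ((S : Subgroup X) ⊓ Subgroup.normalizer (U : Set X)) := by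
  classical
  constructor
  · rintro ⟨P, K, hKn, hK⟩ U hUS -
    -- K is a complement to S as well
    have hKS : K.IsComplement' (S : Subgroup X) := by
      obtain ⟨a, ha⟩ := P.2.exists_card_eq
      have hidx : K.index = 2 ^ a := by rw [hK.symm.index_eq_card, ha]
      have hKc : ¬ 2 ∣ Nat.card K := by
        rw [← hK.index_eq_card]
        exact P.not_dvd_index
      exact isComplement'_sylow_of_coprime_of_index S K hKc a hidx
    have hdisj : ∀ y, y ∈ K → y ∈ (S : Subgroup X) → y = 1 := by
      intro y hyK hyS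
      have := hKS.disjoint.le_bot ⟨hyK, hyS⟩
      simpa using this
    apply le_antisymm
    · intro n hn
      obtain ⟨⟨⟨k, hk⟩, ⟨s, hs⟩⟩, hks, -⟩ := (Subgroup.isComplement'_def.mp hKS).existsUnique n
      simp only at hks
      -- key: for u ∈ U with n u n⁻¹ ∈ U, s u s⁻¹ = n u n⁻¹ and k centralises it
      have key : ∀ (k s : X), k ∈ K → s ∈ (S : Subgroup X) → ∀ u ∈ U, k * s * u * (k * s)⁻¹ ∈ U →
          s * u * s⁻¹ = k * s * u * (k * s)⁻¹ := by
        intro k s hk hs u hu hu'
        set v := s * u * s⁻¹ with hv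
        have hvS : v ∈ (S : Subgroup X) :=
          (S : Subgroup X).mul_mem ((S : Subgroup X).mul_mem hs (hUS hu)) ((S : Subgroup X).inv_mem hs)
        have e1 : k * s * u * (k * s)⁻¹ = k * v * k⁻¹ := by rw [hv]; group
        have h1 : k * v * k⁻¹ * v⁻¹ ∈ K := by
          have : k * v * k⁻¹ * v⁻¹ = k * (v * k⁻¹ * v⁻¹) := by group
          rw [this]
          exact K.mul_mem hk (hKn.conj_mem _ (K.inv_mem hk) v)
        have h2 : k * v * k⁻¹ * v⁻¹ ∈ (S : Subgroup X) := by
          rw [← e1]
          exact (S : Subgroup X).mul_mem (hUS hu') ((S : Subgroup X).inv_mem hvS)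
        have h3 := hdisj _ h1 h2
        rw [e1]
        have : k * v * k⁻¹ = (k * v * k⁻¹ * v⁻¹) * v := by group
        rw [this, h3, one_mul]
      have hn' : ∀ u, u ∈ U ↔ n * u * n⁻¹ ∈ U := mem_normalizer_iff.1 hn
      have hsN : s ∈ normalizer (U : Set X) := by
        rw [mem_normalizer_iff]
        intro u
        constructor
        · intro hu
          have hu' : k * s * u * (k * s)⁻¹ ∈ U := by rw [hks]; exact (hn' u).1 hu
          rw [key k s hk hs u hu hu']
          exact hu'
        · intro hu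
          -- apply key to n⁻¹ = (s⁻¹ k⁻¹ s) s⁻¹
          set w := s * u * s⁻¹ with hw
          have hninv : n⁻¹ = (s⁻¹ * k⁻¹ * s) * s⁻¹ := by rw [← hks]; group
          have hk' : s⁻¹ * k⁻¹ * s ∈ K := by
            have := hKn.conj_mem _ (K.inv_mem hk) s⁻¹
            simpa using this
          have hw' : (s⁻¹ * k⁻¹ * s) * s⁻¹ * w * ((s⁻¹ * k⁻¹ * s) * s⁻¹)⁻¹ ∈ U := by
            rw [← hninv]
            have := (mem_normalizer_iff.1 (inv_mem hn) w).1 hu
            simpa using this
          have h4 := key (s⁻¹ * k⁻¹ * s) s⁻¹ hk' ((S : Subgroup X).inv_mem hs) w hu hw'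
          have h5 : s⁻¹ * w * s⁻¹⁻¹ = u := by rw [hw]; group
          rw [h5] at h4
          rw [h4]
          exact hw'
      have hkC : k ∈ centralizer (U : Set X) := by
        rw [mem_centralizer_iff]
        intro v hv
        -- v = s u s⁻¹ with u = s⁻¹ v s ∈ U
        have hu : s⁻¹ * v * s ∈ U := by
          have := (mem_normalizer_iff.1 (inv_mem hsN) v).1 hv
          simpa using this
        have hu' : k * s * (s⁻¹ * v * s) * (k * s)⁻¹ ∈ U := by
          rw [hks]; exact (hn' _).1 hu
        have h4 := key k s hk hs _ hu hu'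
        have e1 : s * (s⁻¹ * v * s) * s⁻¹ = v := by group
        have e2 : k * s * (s⁻¹ * v * s) * (k * s)⁻¹ = k * v * k⁻¹ := by group
        rw [e1, e2] at h4
        have : v * k = k * v * k⁻¹ * k := by rw [← h4]
        rw [this]; group
      rw [← hks]
      exact mul_mem_sup hkC ⟨hs, hsN⟩
    · exact sup_le (centralizer_le_normalizer _) inf_le_right
  · intro hU
    obtain ⟨C0, hdih⟩ := dihData_of_equiv (S : Subgroup X) m eS
    have hloc : LocalPNilpotent 2 X := by
      apply localPNilpotent_of_sylow S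
      intro Q hQS g hg hodd
      rcases centralizes_of_dihData hdih S.2 Q hQS g hg hodd with h1 | ⟨h4, hsq⟩
      · exact h1
      · have hK4 : IsKleinFour Q := by
          refine ⟨h4, ?_⟩
          have hdvd : Monoid.exponent Q ∣ 2 := by
            apply Monoid.exponent_dvd_of_forall_pow_eq_one
            intro q
            apply Subtype.ext
            have := hsq q.1 q.2
            simpa [pow_two] using this
          rcases (Nat.dvd_prime Nat.prime_two).1 hdvd with h1 | h1
          · exfalso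
            rw [Monoid.exp_eq_one_iff] at h1
            have : Nat.card Q ≤ 1 := Finite.card_le_one_iff_subsingleton.2 h1
            omega
          · exact h1
        exact mem_centralizer_of_normalizer_eq (S : Subgroup X) Q S.2 (hU Q hQS hK4) g hg hodd
    obtain ⟨K, hKn, hK⟩ := exists_normal_complement_of_local hloc S
    exact ⟨S, K, hKn, hK⟩

end Cfsg.Agent.S1254
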