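import Cfsg.Statements.S1255
import Cfsg.Agent.S0111
import Cfsg.Agent.Lib.Helper11.FourGroup
import Cfsg.Agent.Lib.Helper24.IndexTwo
import Cfsg.Agent.Lib.Helper24.KleinClasses
import Cfsg.Agent.Lib.Helper18.IsolatedInvolution

set_option autoImplicit false
open Cfsg

namespace Cfsg.Agent.S1255

open Subgroup Cfsg.Agent.Lib.Helper11

/-- Thompson transfer for dihedral Sylow 2-subgroups: without normal subgroups of index two all
involutions are conjugate. -/
theorem exists_conj_of_no_index_two {G : Type*} [Group G] [Finite G] (T : Sylow 2 G) (m : ℕ)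
    (hm : 2 ≤ m) (e : (T : Subgroup G) ≃* DihedralGroup m)
    (hno : ∀ M : Subgroup G, M.Normal → M.index ≠ 2) :
    ∃ z : G, ∀ u : G, orderOf u = 2 → ∃ g : G, g * u * g⁻¹ = z := by
  classical
  set c0 : (T : Subgroup G) := e.symm (DihedralGroup.r 1) with hc0
  have hc0ord : orderOf c0 = m := by
    rw [hc0, MulEquiv.orderOf_eq, DihedralGroup.orderOf_r_one]
  set Q : Subgroup G := (zpowers c0).map (T : Subgroup G).subtype with hQ
  have hQT : Q ≤ (T : Subgroup G) := map_subtype_le _
  have hQcard : Nat.card Q = m := by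
    rw [hQ, Subgroup.card_map_of_injective (subtype_injective _), Nat.card_zpowers, hc0ord]
  have hTcard : Nat.card (T : Subgroup G) = 2 * m := by
    rw [Nat.card_congr e.toEquiv, DihedralGroup.nat_card]
  have hQi : Q.relIndex (T : Subgroup G) = 2 := by
    have h1 := Subgroup.relIndex_mul_relIndex (⊥ : Subgroup G) Q (T : Subgroup G) bot_le hQT
    rw [relIndex_bot_left, relIndex_bot_left, hQcard, hTcard] at h1
    have hpos : 0 < m := by omega
    have : m * Q.relIndex (T : Subgroup G) = m * 2 := by rw [h1]; ring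
    exact Nat.eq_of_mul_eq_mul_left hpos this
  have hQcyc : IsCyclic Q := by
    have h1 : Q = zpowers (c0 : G) := by
      rw [hQ, MonoidHom.map_zpowers]; rfl
    rw [h1]
    infer_instance
  have huniq : ∀ a b : G, a ∈ Q → b ∈ Q → orderOf a = 2 → orderOf b = 2 → a = b := by
    intro a b ha hb hao hbo
    have := Cfsg.Agent.Lib.Helper24.involution_unique_of_isCyclic (C := Q) (a := ⟨a, ha⟩)
      (b := ⟨b, hb⟩)
      (by rw [Subgroup.orderOf_mk]; exact hao) (by rw [Subgroup.orderOf_mk]; exact hbo)
    exact congrArg Subtype.val this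
  have h2m : 2 ∣ m := by
    obtain ⟨k, hk⟩ := T.2.exists_card_eq
    rw [hTcard] at hk
    cases k with
    | zero => omega
    | succ k =>
      rw [pow_succ'] at hk
      have hmk : m = 2 ^ k := Nat.eq_of_mul_eq_mul_left (by norm_num) hk
      rw [hmk]
      apply dvd_pow_self
      intro h0
      rw [h0, pow_zero] at hmk
      omega
  obtain ⟨z, hzQ, hzo⟩ : ∃ z ∈ Q, orderOf z = 2 := by
    have h2 : 2 ∣ Nat.card Q := by rw [hQcard]; exact h2m
    obtain ⟨z', hz'⟩ := exists_prime_orderOf_dvd_card' 2 h2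
    exact ⟨z'.1, z'.2, by rw [Subgroup.orderOf_coe]; exact hz'⟩
  have hTz : ∀ u ∈ (T : Subgroup G), orderOf u = 2 → ∃ g : G, g * u * g⁻¹ = z := by
    intro u huT huo
    by_cases huQ : u ∈ Q
    · exact ⟨1, by rw [one_mul, inv_one, mul_one]; exact huniq u z huQ hzQ huo hzo⟩
    · rcases Cfsg.Agent.S0111.result T Q hQT hQi u huo huT huQ with ⟨M, hMn, hMi, -⟩ | ⟨g, hg⟩
      · exact absurd hMi (hno M hMn)
      · refine ⟨g, huniq _ z hg hzQ ?_ hzo⟩
        rw [← MulAut.conj_apply, MulEquiv.orderOf_eq, huo]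
  refine ⟨z, ?_⟩
  intro u huo
  obtain ⟨g, hg⟩ := Cfsg.Agent.Lib.Helper24.exists_conj_mem_sylow_of_involution T u huo
  have ho : orderOf (g⁻¹ * u * g) = 2 := by
    have : g⁻¹ * u * g = MulAut.conj g⁻¹ u := by rw [MulAut.conj_apply, inv_inv]
    rw [this, MulEquiv.orderOf_eq, huo]
  obtain ⟨h, hh⟩ := hTz _ hg ho
  exact ⟨h * g⁻¹, by rw [← hh]; group⟩

/-- A nontrivial 2-subgroup has a central involution. -/
theorem exists_central_involution {G : Type*} [Group G] [Finite G] (S : Subgroup G)
    (hS : IsPGroup 2 S) (hne : S ≠ ⊥) :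
    ∃ z ∈ S, orderOf z = 2 ∧ ∀ s ∈ S, s * z = z * s := by
  haveI : Nontrivial S := (Subgroup.nontrivial_iff_ne_bot S).2 hne
  haveI := hS.center_nontrivial
  have hZ : IsPGroup 2 (Subgroup.center S) := hS.to_subgroup _
  obtain ⟨k, hk⟩ := hZ.exists_card_eq
  have hk0 : k ≠ 0 := by
    intro h0
    rw [h0, pow_zero] at hk
    have := (Finite.one_lt_card_iff_nontrivial (α := Subgroup.center S)).2 inferInstance
    omega
  have h2 : 2 ∣ Nat.card (Subgroup.center S) := by rw [hk]; exact dvd_pow_self 2 hk0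
  obtain ⟨z, hz⟩ := exists_prime_orderOf_dvd_card' 2 h2
  refine ⟨((z : S) : G), (z : S).2, ?_, ?_⟩
  · rw [Subgroup.orderOf_coe, Subgroup.orderOf_coe]; exact hz
  · intro s hs
    have := (Subgroup.mem_center_iff.1 z.2) ⟨s, hs⟩
    exact congrArg Subtype.val this

/-- Generators: a dihedral group is generated by two distinct involutions. -/
theorem exists_generating_involutions {G : Type*} [Group G] (S : Subgroup G) (m : ℕ)
    (hm : 2 ≤ m) (e : S ≃* DihedralGroup m) :
    ∃ a b : G, a ∈ S ∧ b ∈ S ∧ orderOf a = 2 ∧ orderOf b = 2 ∧ a ≠ b ∧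
      ∀ H : Subgroup G, a ∈ H → b ∈ H → S ≤ H := by
  set a : S := e.symm (DihedralGroup.sr 0) with ha
  set b : S := e.symm (DihedralGroup.sr 1) with hb
  have hao : orderOf a = 2 := by rw [ha, MulEquiv.orderOf_eq, DihedralGroup.orderOf_sr]
  have hbo : orderOf b = 2 := by rw [hb, MulEquiv.orderOf_eq, DihedralGroup.orderOf_sr]
  haveI : Fact (1 < m) := ⟨by omega⟩
  have hne : a ≠ b := by
    intro h
    have h1 := e.symm.injective h
    have h2 : (0 : ZMod m) = 1 := by injection h1
    exact zero_ne_one h2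
  refine ⟨a, b, a.2, b.2, by rw [Subgroup.orderOf_coe]; exact hao,
    by rw [Subgroup.orderOf_coe]; exact hbo, fun h => hne (Subtype.ext h), ?_⟩
  intro H haH hbH x hx
  have hab : a * b = e.symm (DihedralGroup.r 1) := by
    rw [ha, hb, ← map_mul, DihedralGroup.sr_mul_sr, sub_zero]
  have hrot : ∀ i : ZMod m, ((e.symm (DihedralGroup.r i) : S) : G) ∈ H := by
    intro i
    have h1 : (e.symm (DihedralGroup.r i) : S) = (a * b) ^ (ZMod.cast i : ℤ) := by
      rw [hab, ← map_zpow, DihedralGroup.r_one_zpow, ZMod.intCast_cast, ZMod.cast_id', id]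
    rw [h1]
    have : (((a * b) ^ (ZMod.cast i : ℤ) : S) : G) = ((a : G) * (b : G)) ^ (ZMod.cast i : ℤ) := by
      simp
    rw [this]
    exact H.zpow_mem (H.mul_mem haH hbH) _
  have hx' : (⟨x, hx⟩ : S) = e.symm (e ⟨x, hx⟩) := (e.symm_apply_apply _).symm
  rcases hex : e ⟨x, hx⟩ with i | i
  · have := hrot i
    rw [← hex, ← hx'] at this
    exact this
  · have h1 : (DihedralGroup.sr i : DihedralGroup m) = DihedralGroup.sr 0 * DihedralGroup.r i := by
      rw [DihedralGroup.sr_mul_r, zero_add]
    have h2 : (⟨x, hx⟩ : S) = a * e.symm (DihedralGroup.r i) := by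
      rw [hx', hex, h1, map_mul]
    have h3 : x = (a : G) * ((e.symm (DihedralGroup.r i) : S) : G) := by
      have := congrArg Subtype.val h2
      simpa using this
    rw [h3]
    exact H.mul_mem haH (hrot i)

theorem result {X : Type*} [Group X] [Finite X] (S : Sylow 2 X) (m : ℕ) (hm : 2 ≤ m) (eS : (S : Subgroup X) ≃* DihedralGroup m) : ((∀ H : Subgroup X, H.index ≠ 2) ∧ (∀ z : X, ¬ Cfsg.IsIsolatedInvolution z)) ↔ ((∀ a b : X, orderOf a = 2 → orderOf b = 2 → IsConj a b) ∨ (∀ U : Subgroup X, U ≤ S → IsKleinFour U → (Subgroup.centralizer (U : Set X)).relIndex (Subgroup.normalizer (U : Set X)) = (if Nat.card S = 4 then 3 else 6))) := by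
  classical
  constructor
  · rintro ⟨hidx, -⟩
    left
    obtain ⟨z, hz⟩ := exists_conj_of_no_index_two S m hm eS (fun M _ => hidx M)
    intro a b ha hb
    obtain ⟨g1, hg1⟩ := hz a ha
    obtain ⟨g2, hg2⟩ := hz b hb
    rw [isConj_iff]
    refine ⟨g2⁻¹ * g1, ?_⟩
    have : g2⁻¹ * g1 * a * (g2⁻¹ * g1)⁻¹ = g2⁻¹ * (g1 * a * g1⁻¹) * g2 := by group
    rw [this, hg1, ← hg2]; group
  · intro h
    obtain ⟨a, b, haS, hbS, hao, hbo, hab, hgen⟩ :=
      exists_generating_involutions (S : Subgroup X) m hm eS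
    have hSne : (S : Subgroup X) ≠ ⊥ := by
      intro h0
      rw [h0, Subgroup.mem_bot] at haS
      rw [haS, orderOf_one] at hao
      omega
    obtain ⟨z0, hz0S, hz0o, hz0c⟩ := exists_central_involution (S : Subgroup X) S.2 hSne
    have hz0sq : z0 * z0 = 1 := by rw [← pow_two, ← hz0o, pow_orderOf_eq_one]
    have hz01 : z0 ≠ 1 := by
      intro h1
      rw [h1, orderOf_one] at hz0o
      omega
    -- all involutions are conjugate to `z0`
    have hall : ∀ u : X, orderOf u = 2 → ∃ g : X, g * u * g⁻¹ = z0 := by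
      rcases h with h | h
      · intro u hu
        exact isConj_iff.1 (h u z0 hu hz0o)
      · have hS : ∀ u ∈ (S : Subgroup X), orderOf u = 2 → ∃ g : X, g * u * g⁻¹ = z0 := by
          intro u huS huo
          by_cases huz : u = z0
          · exact ⟨1, by rw [huz]; group⟩
          have husq : u * u = 1 := by rw [← pow_two, ← huo, pow_orderOf_eq_one]
          have hu1 : u ≠ 1 := by
            intro h1
            rw [h1, orderOf_one] at huo
            omega
          have hcomm : u * z0 = z0 * u := hz0c u huS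
          have hK := isKleinFour_fourSubgroup (ha := husq) (hb := hz0sq) (hab := hcomm) hu1 hz01 huz
          have hle : fourSubgroup u z0 husq hz0sq hcomm ≤ (S : Subgroup X) :=
            fourSubgroup_le huS hz0S
          have h3 : 3 ∣ (centralizer ((fourSubgroup u z0 husq hz0sq hcomm : Subgroup X) : Set X)).relIndex
              (normalizer ((fourSubgroup u z0 husq hz0sq hcomm : Subgroup X) : Set X)) := by
            rw [h _ hle hK]
            split_ifs <;> norm_num
          exact fourGroup_conj_of_three_dvd _ hK h3 u left_mem_fourSubgroup z0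
            right_mem_fourSubgroup hu1 hz01
        intro u huo
        obtain ⟨g, hg⟩ := Cfsg.Agent.Lib.Helper24.exists_conj_mem_sylow_of_involution S u huo
        have ho : orderOf (g⁻¹ * u * g) = 2 := by
          have : g⁻¹ * u * g = MulAut.conj g⁻¹ u := by rw [MulAut.conj_apply, inv_inv]
          rw [this, MulEquiv.orderOf_eq, huo]
        obtain ⟨k, hk⟩ := hS _ hg ho
        exact ⟨k * g⁻¹, by rw [← hk]; group⟩
    -- an involution of `S` other than `z0`
    obtain ⟨w, hwS, hwo, hwz⟩ : ∃ w ∈ (S : Subgroup X), orderOf w = 2 ∧ w ≠ z0 := by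
      by_cases haz : a = z0
      · exact ⟨b, hbS, hbo, fun hb' => hab (haz.trans hb'.symm)⟩
      · exact ⟨a, haS, hao, haz⟩
    constructor
    · intro H hH
      haveI : H.Normal := Subgroup.normal_of_index_eq_two hH
      -- membership of involutions in `H` is uniform
      have huni : ∀ u : X, orderOf u = 2 → (u ∈ H ↔ z0 ∈ H) := by
        intro u hu
        obtain ⟨g, hg⟩ := hall u hu
        rw [← hg]
        constructor
        · intro huH
          exact (inferInstance : H.Normal).conj_mem u huH g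
        · intro huH
          have := (inferInstance : H.Normal).conj_mem _ huH g⁻¹
          have e1 : g⁻¹ * (g * u * g⁻¹) * g⁻¹⁻¹ = u := by group
          rwa [e1] at this
      by_cases hzH : z0 ∈ H
      · have hSH : (S : Subgroup X) ≤ H := hgen H ((huni a hao).2 hzH) ((huni b hbo).2 hzH)
        have h1 : H.index ∣ (S : Subgroup X).index := Subgroup.index_dvd_of_le hSH
        rw [hH] at h1
        exact S.not_dvd_index h1
      · have hwH : w ∉ H := fun hw => hzH ((huni w hwo).1 hw)
        have hzw : z0 * w ∈ H := (mul_mem_iff_of_index_two hH).2 (iff_of_false hzH hwH)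
        have hwsq : w * w = 1 := by rw [← pow_two, ← hwo, pow_orderOf_eq_one]
        have hcomm : w * z0 = z0 * w := hz0c w hwS
        have hzwo : orderOf (z0 * w) = 2 := by
          apply orderOf_eq_prime
          · rw [pow_two, mul_assoc, ← mul_assoc w, hcomm, mul_assoc, hwsq, mul_one, hz0sq]
          · intro h1
            apply hwz
            have : w = z0 * (z0 * w) := by rw [← mul_assoc, hz0sq, one_mul]
            rw [this, h1, mul_one]
        exact hzH ((huni _ hzwo).1 hzw)
    · intro z hz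
      obtain ⟨g, hg⟩ := hall z hz.1
      have hz0iso : Cfsg.IsIsolatedInvolution z0 := by
        rw [← hg]
        exact Cfsg.Agent.Lib.Helper18.isolated_conj hz g
      obtain ⟨k, hk⟩ := hall w hwo
      -- `w = k⁻¹ z0 k` commutes with `z0`
      have hw' : w = k⁻¹ * z0 * k⁻¹⁻¹ := by rw [← hk]; group
      have hcomm : Commute z0 (k⁻¹ * z0 * k⁻¹⁻¹) := by
        rw [← hw']
        exact (hz0c w hwS).symm
      have := hz0iso.2 k⁻¹ hcomm
      rw [← hw'] at this
      exact hwz this

end Cfsg.Agent.S1255
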