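import Cfsg.Statements.S1256
import Cfsg.Agent.S0520
import Cfsg.Agent.Lib.Helper11.DihGen
import Cfsg.Agent.Lib.Helper11.AlperinTame

set_option autoImplicit false
open Cfsg

namespace Cfsg.Agent.S1256

open Subgroup Cfsg.Agent.Lib.Helper11 Cfsg.Agent.S0520

section

variable {G : Type*} [Group G]

/-- If all `p'`-elements of `N` lie in `C`, then `N / C` is a `p`-group. -/
theorem isPGroup_quotient_of_pprime_le [Finite G] {p : ℕ} [Fact p.Prime] (N C : Subgroup G)
    [hn : (C.subgroupOf N).Normal]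
    (h : ∀ g ∈ N, Nat.Coprime (orderOf g) p → g ∈ C) : IsPGroup p (N ⧸ C.subgroupOf N) := by
  have hp : p.Prime := Fact.out
  intro q
  obtain ⟨n, rfl⟩ := QuotientGroup.mk_surjective q
  have ho : orderOf (n : G) ≠ 0 := (orderOf_pos (n : G)).ne'
  obtain ⟨a, b, hb, hab⟩ := Nat.exists_eq_pow_mul_and_not_dvd ho p hp.ne_one
  refine ⟨a, ?_⟩
  rw [← QuotientGroup.mk_pow, QuotientGroup.eq_one_iff, mem_subgroupOf]
  apply h _ (pow_mem n.2 _)
  · have h1 : ((n : G) ^ p ^ a) ^ b = 1 := by
      rw [← pow_mul, ← hab, pow_orderOf_eq_one]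
    have h2 : orderOf ((n : G) ^ p ^ a) ∣ b := orderOf_dvd_of_pow_eq_one h1
    exact Nat.Coprime.coprime_dvd_left h2 ((Nat.Prime.coprime_iff_not_dvd hp).2 hb).symm

variable {P : Subgroup G} {r s : G} {m : ℕ}

/-- A four-subgroup of a dihedral group of order at least 8 contains the central involution
and a reflection. -/
theorem four_group_data (h : DihGen P r s m) (hm : 2 ∣ m) {Q : Subgroup G}
    (hQ : Q ≤ P) (hQ4 : Nat.card Q = 4) (hQsq : ∀ d ∈ Q, d * d = 1) :
    r ^ (m / 2) ∈ Q ∧ ∃ t ∈ Q, t ∉ zpowers r := by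
  set z := r ^ (m / 2) with hz
  have hex : ∃ a ∈ Q, a ∉ zpowers r := by
    by_contra hcon
    push_neg at hcon
    have hsub : (Q : Set G) ⊆ {1, z} := by
      intro x hx
      by_cases hx1 : x = 1
      · simp [hx1]
      · have := h.eq_z_of_rot hm (hcon x hx) (hQsq x hx) hx1
        simp [this, hz]
    have h1 := Set.ncard_le_ncard hsub (Set.toFinite _)
    have h2 : ({1, z} : Set G).ncard ≤ 2 := by
      have := Set.ncard_insert_le 1 ({z} : Set G)
      rw [Set.ncard_singleton] at this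
      exact this
    have h3 : (Q : Set G).ncard = Nat.card Q := (Nat.card_coe_set_eq _).symm
    rw [h3, hQ4] at h1
    omega
  refine ⟨?_, hex⟩
  obtain ⟨a, haQ, haC⟩ := hex
  have hex2 : ∃ b ∈ Q, b ≠ 1 ∧ b ≠ a := by
    by_contra hcon
    push_neg at hcon
    have hsub : (Q : Set G) ⊆ {1, a} := by
      intro x hx
      by_cases hx1 : x = 1
      · simp [hx1]
      · simp [hcon x hx hx1]
    have h1 := Set.ncard_le_ncard hsub (Set.toFinite _)
    have h2 : ({1, a} : Set G).ncard ≤ 2 := by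
      have := Set.ncard_insert_le 1 ({a} : Set G)
      rw [Set.ncard_singleton] at this
      exact this
    have h3 : (Q : Set G).ncard = Nat.card Q := (Nat.card_coe_set_eq _).symm
    rw [h3, hQ4] at h1
    omega
  obtain ⟨b, hbQ, hb1, hba⟩ := hex2
  by_cases hbC : b ∈ zpowers r
  · have := h.eq_z_of_rot hm hbC (hQsq b hbQ) hb1
    rw [hz, ← this]; exact hbQ
  · have habC : a * b ∈ zpowers r := h.toDihData.mul a (hQ haQ) b (hQ hbQ) haC hbC
    have hab1 : a * b ≠ 1 := by
      intro h0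
      apply hba
      have : b = a⁻¹ := (inv_eq_of_mul_eq_one_right h0).symm
      rw [this]
      exact inv_eq_of_mul_eq_one_right (hQsq a haQ)
    have := h.eq_z_of_rot hm habC (hQsq _ (mul_mem haQ hbQ)) hab1
    rw [hz, ← this]; exact mul_mem haQ hbQ

/-- `z` is central in `P`. -/
theorem z_central (h : DihGen P r s m) (hm : 2 ∣ m) (hm0 : 0 < m) {x : G} (hx : x ∈ P) :
    x * r ^ (m / 2) * x⁻¹ = r ^ (m / 2) := by
  apply h.eq_z_of_rot hm (h.conj_rot hx (pow_mem (mem_zpowers r) _))
  · have : x * r ^ (m / 2) * x⁻¹ * (x * r ^ (m / 2) * x⁻¹) =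
        x * (r ^ (m / 2) * r ^ (m / 2)) * x⁻¹ := by group
    rw [this, h.z_mul_self hm]; group
  · intro h0
    apply h.z_ne_one hm hm0
    have : r ^ (m / 2) = x⁻¹ * (x * r ^ (m / 2) * x⁻¹) * x := by group
    rw [this, h0]; group

theorem cj_eq_of_mem_normalizer {D : Subgroup G} {x : G} (hx : x ∈ normalizer (D : Set G)) :
    cj x D = D := by
  ext y
  rw [mem_cj]
  constructor
  · intro hy
    have := conj_mem_of_mem_normalizer D hx hy
    have e : x * (x⁻¹ * y * x) * x⁻¹ = y := by group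
    rwa [e] at this
  · intro hy
    exact conj_inv_mem_of_mem_normalizer D hx hy

theorem cj_eq_of_mem_centralizer {D W : Subgroup G} (hWD : W ≤ D) {c : G}
    (hc : c ∈ centralizer (D : Set G)) : cj c W = W := by
  ext y
  rw [mem_cj]
  have hci : c⁻¹ ∈ centralizer (D : Set G) := inv_mem hc
  constructor
  · intro hy
    have := conj_eq_of_mem_centralizer D hc (hWD hy)
    have e : c * (c⁻¹ * y * c) * c⁻¹ = y := by group
    rw [e] at this
    rw [this]; exact hy
  · intro hy
    have := conj_eq_of_mem_centralizer D hci (hWD hy)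
    rw [inv_inv] at this
    rw [this]; exact hy

theorem coe_cj_inv (x : G) (W : Subgroup G) :
    ((cj x⁻¹ W : Subgroup G) : Set G) = Cfsg.Agent.S0116.cs x (W : Set G) := by
  ext y
  rw [SetLike.mem_coe, mem_cj, inv_inv, Cfsg.Agent.S0116.mem_cs]
  rfl

theorem cj_le_of_mem {S W : Subgroup G} (hW : W ≤ S) {p : G} (hp : p ∈ S) : cj p W ≤ S := by
  intro y hy
  rw [mem_cj] at hy
  have : y = p * (p⁻¹ * y * p) * p⁻¹ := by group
  rw [this]
  exact mul_mem (mul_mem hp (hW hy)) (inv_mem hp)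

variable [Finite G] (S : Sylow 2 G)

/-- One step of Alperin's theorem moves a four-group to an `S`-conjugate. -/
theorem step (h : DihGen (S : Subgroup G) r s m) {D W : Subgroup G} (hD : D ≤ (S : Subgroup G))
    (hWD : W ≤ D) (hW : IsKleinFour W) {x : G} (hx : x ∈ normalizer (D : Set G))
    (htame : ¬ 2 ∣ ((S : Subgroup G) ⊓ normalizer (D : Set G)).relIndex (normalizer (D : Set G))) :
    ∃ p ∈ (S : Subgroup G), cj x W = cj p W := by
  haveI : Fact (Nat.Prime 2) := ⟨Nat.prime_two⟩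
  by_cases hD4 : Nat.card D = 4
  · have hWeq : W = D := by
      apply Subgroup.eq_of_le_of_card_ge hWD
      rw [hD4, hW.card_four]
    refine ⟨1, one_mem _, ?_⟩
    rw [hWeq, cj_eq_of_mem_normalizer hx, cj_one]
  · have hall : ∀ g ∈ normalizer (D : Set G), Nat.Coprime (orderOf g) 2 →
        g ∈ centralizer (D : Set G) := by
      intro g hg hodd
      rcases centralizes_of_dihData h.toDihData S.2 D hD g hg hodd with h1 | ⟨h1, -⟩
      · exact h1
      · exact absurd h1 hD4
    have hq := isPGroup_quotient_of_pprime_le (p := 2) (normalizer (D : Set G))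
      (centralizer (D : Set G)) hall
    obtain ⟨u, hu, c, hc, hxuc⟩ := exists_mul_of_isPGroup_quotient (normalizer (D : Set G))
      (centralizer (D : Set G)) ((S : Subgroup G) ⊓ normalizer (D : Set G))
      (centralizer_le_normalizer _) inf_le_right hq htame x hx
    refine ⟨u, hu.1, ?_⟩
    rw [hxuc, cj_mul, cj_eq_of_mem_centralizer hWD hc]

/-- Alperin: a chain moves a four-group of `S` to an `S`-conjugate. -/
theorem chain_conj (h : DihGen (S : Subgroup G) r s m) :
    ∀ (l : List (Sylow 2 G × G)) (W : Subgroup G), W ≤ (S : Subgroup G) → IsKleinFour W →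
      Cfsg.Agent.S0116.IsChain S (W : Set G) l →
      ∃ p ∈ (S : Subgroup G), cj (Cfsg.Agent.S0116.lprod l)⁻¹ W = cj p W
  | [], W, _, _, _ => ⟨1, one_mem _, by rw [Cfsg.Agent.S0116.lprod_nil, inv_one]⟩
  | qx :: l, W, hWS, hW, hc => by
    obtain ⟨h1, h2, h3, h4⟩ := hc
    have hWD : W ≤ (S : Subgroup G) ⊓ (qx.1 : Subgroup G) := h3
    obtain ⟨p1, hp1, hp1e⟩ := step S h inf_le_left hWD hW (inv_mem h2) h1.1
    have hW'S : cj qx.2⁻¹ W ≤ (S : Subgroup G) := by rw [hp1e]; exact cj_le_of_mem hWS hp1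
    have hW' : IsKleinFour (cj qx.2⁻¹ W) := isKleinFour_cj _ hW
    have h4' : Cfsg.Agent.S0116.IsChain S ((cj qx.2⁻¹ W : Subgroup G) : Set G) l := by
      rw [coe_cj_inv]; exact h4
    obtain ⟨p2, hp2, hp2e⟩ := chain_conj h l _ hW'S hW' h4'
    refine ⟨p2 * p1, mul_mem hp2 hp1, ?_⟩
    rw [Cfsg.Agent.S0116.lprod_cons, mul_inv_rev, cj_mul, hp2e, hp1e, ← cj_mul]

end

theorem result {X : Type*} [Group X] [Finite X] (S : Sylow 2 X) (m : ℕ) (hm : 2 ≤ m) (eS : (S : Subgroup X) ≃* DihedralGroup m) : (Nat.card S = 4 → ∀ U V : Subgroup X, IsKleinFour U → IsKleinFour V → (∃ x : X, U.map (MulAut.conj x).toMonoidHom = V)) ∧ (4 < Nat.card S → ∃ U₁ U₂ : Subgroup X, IsKleinFour U₁ ∧ IsKleinFour U₂ ∧ ¬ (∃ x : X, U₁.map (MulAut.conj x).toMonoidHom = U₂) ∧ ∀ V : Subgroup X, IsKleinFour V → (∃ x : X, V.map (MulAut.conj x).toMonoidHom = U₁) ∨ (∃ x : X, V.map (MulAut.conj x).toMonoidHom = U₂)) := by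
  haveI : Fact (Nat.Prime 2) := ⟨Nat.prime_two⟩
  constructor
  · intro h4 U V hU hV
    obtain ⟨x, hx⟩ := exists_cj_le_sylow S hU
    obtain ⟨y, hy⟩ := exists_cj_le_sylow S hV
    have hxe : cj x U = (S : Subgroup X) := by
      apply Subgroup.eq_of_le_of_card_ge hx
      rw [card_cj, hU.card_four]
      exact h4.le
    have hye : cj y V = (S : Subgroup X) := by
      apply Subgroup.eq_of_le_of_card_ge hy
      rw [card_cj, hV.card_four]
      exact h4.le
    refine ⟨y⁻¹ * x, ?_⟩
    show cj (y⁻¹ * x) U = V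
    rw [cj_mul, hxe, ← hye, cj_inv_cj]
  · intro h4
    have hcard : Nat.card (S : Subgroup X) = 2 * m := by
      rw [Nat.card_congr eS.toEquiv, DihedralGroup.nat_card]
    obtain ⟨k, hk⟩ := S.2.exists_card_eq
    have hk3 : 3 ≤ k := by
      by_contra hlt
      have hk2 : k ≤ 2 := by omega
      have : 2 ^ k ≤ 2 ^ 2 := Nat.pow_le_pow_right (by norm_num) hk2
      have h5 : 4 < 2 ^ k := by rw [← hk]; exact h4
      omega
    have hm4 : 4 ∣ m := by
      obtain ⟨j, hj⟩ : ∃ j, k = j + 3 := ⟨k - 3, by omega⟩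
      refine ⟨2 ^ j, ?_⟩
      have h5 : 2 * m = 2 ^ (j + 3) := by rw [← hj, ← hk, hcard]
      rw [pow_add] at h5
      omega
    have hm2 : 2 ∣ m := dvd_trans (by norm_num) hm4
    have hm0 : 0 < m := by omega
    have h := dihGen_of_equiv (S : Subgroup X) m eS
    set r : X := ((eS.symm (DihedralGroup.r 1) : (S : Subgroup X)) : X) with hr
    set s : X := ((eS.symm (DihedralGroup.sr 0) : (S : Subgroup X)) : X) with hs
    set z : X := r ^ (m / 2) with hz
    have hzz : z * z = 1 := h.z_mul_self hm2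
    have hz1 : z ≠ 1 := h.z_ne_one hm2 hm0
    have hzS : z ∈ (S : Subgroup X) := h.z_mem
    have hzc : ∀ x ∈ (S : Subgroup X), z * x = x * z := by
      intro x hx
      have := z_central h hm2 hm0 hx
      calc z * x = (x * z * x⁻¹) * x := by rw [this]
        _ = x * z := by group
    have hss : s * s = 1 := h.ss
    have hs1 : s ≠ 1 := fun h0 => h.hsr (h0 ▸ one_mem _)
    have hsrsr : (s * r) * (s * r) = 1 := h.swap.ss
    have hsr1 : s * r ≠ 1 := fun h0 => h.swap.hsr (h0 ▸ one_mem _)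
    have hzs : z ≠ s := fun h0 => h.hsr (h0 ▸ pow_mem (mem_zpowers r) _)
    have hzsr : z ≠ s * r := fun h0 => h.swap.hsr (h0 ▸ pow_mem (mem_zpowers r) _)
    set U₁ := fourSubgroup z s hzz hss (hzc s h.hs) with hU₁
    set U₂ := fourSubgroup z (s * r) hzz hsrsr (hzc _ h.swap.hs) with hU₂
    have hK1 : IsKleinFour U₁ := isKleinFour_fourSubgroup hz1 hs1 hzs
    have hK2 : IsKleinFour U₂ := isKleinFour_fourSubgroup hz1 hsr1 hzsr
    have hU1S : U₁ ≤ (S : Subgroup X) := fourSubgroup_le hzS h.hs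
    refine ⟨U₁, U₂, hK1, hK2, ?_, ?_⟩
    · rintro ⟨x, hx⟩
      have hx' : cj x U₁ = U₂ := hx
      have hA : (U₁ : Set X) ⊆ ((S : Subgroup X) : Set X) := hU1S
      have hAg : Cfsg.Agent.S0116.cs x⁻¹ (U₁ : Set X) ⊆ ((S : Subgroup X) : Set X) := by
        rw [← coe_cj_inv, inv_inv, hx']
        exact fourSubgroup_le hzS h.swap.hs
      obtain ⟨l, hl, hlg⟩ := Cfsg.Agent.S0116.exists_chain_set S (U₁ : Set X) x⁻¹ hA hAg
      obtain ⟨p, hp, hpe⟩ := chain_conj S h l U₁ hU1S hK1 hl
      rw [hlg, inv_inv, hx'] at hpe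
      have hmem : p * s * p⁻¹ ∈ U₂ := by
        rw [hpe]
        exact conj_mem_cj right_mem_fourSubgroup
      obtain ⟨j, hj⟩ := h.conj_s hp
      rcases mem_fourSubgroup.1 hmem with h0 | h0 | h0 | h0
      · apply hs1
        have : s = p⁻¹ * (p * s * p⁻¹) * p := by group
        rw [this, h0]; group
      · rw [hj] at h0
        exact h.z_ne_refl (zpow_mem (mem_zpowers r) _) h0.symm
      · exact h.not_conj_s_sr hm2 hp h0
      · rw [hj, hzc _ h.swap.hs, mul_assoc] at h0
        have h1 : r ^ (2 * j) = r * z := mul_left_cancel h0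
        have h2 : r ^ (2 * j - 1 - (m / 2 : ℕ)) = 1 := by
          have hrz : r * z = z * r := by rw [hz, ← pow_succ', ← pow_succ]
          rw [zpow_sub, zpow_sub, h1, zpow_one, zpow_natCast, ← hz, hrz]
          group
        have h3 : (orderOf r : ℤ) ∣ 2 * j - 1 - (m / 2 : ℕ) := orderOf_dvd_iff_zpow_eq_one.2 h2
        rw [h.ord] at h3
        obtain ⟨q, hq⟩ := hm4
        have h4' : (2 : ℤ) ∣ 2 * j - 1 - (m / 2 : ℕ) := by
          refine dvd_trans ?_ h3
          exact ⟨2 * q, by rw [hq]; push_cast; ring⟩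
        have h5 : ((m / 2 : ℕ) : ℤ) = 2 * q := by
          have : m / 2 = 2 * q := by omega
          rw [this]; push_cast; ring
        rw [h5] at h4'
        omega
    · intro V hV
      obtain ⟨x, hx⟩ := exists_cj_le_sylow S hV
      have hV' : IsKleinFour (cj x V) := isKleinFour_cj x hV
      obtain ⟨hzV, t, htV, htC⟩ := four_group_data h hm2 hx hV'.card_four
        (fun d hd => klein_sq' hV' hd)
      obtain ⟨p, hpS, hp⟩ := h.refl_conj (hx htV) htC
      have hzmem : z ∈ cj p (cj x V) := by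
        have := conj_mem_cj (g := p) hzV
        rwa [z_central h hm2 hm0 hpS] at this
      have hcard4 : Nat.card (cj p (cj x V)) = 4 := by rw [card_cj]; exact hV'.card_four
      have : Finite (cj p (cj x V)) := Nat.finite_of_card_ne_zero (by rw [hcard4]; norm_num)
      rcases hp with hp | hp
      · left
        refine ⟨p * x, ?_⟩
        show cj (p * x) V = U₁
        rw [cj_mul]
        symm
        apply Subgroup.eq_of_le_of_card_ge
        · apply fourSubgroup_le hzmem
          rw [← hp]; exact conj_mem_cj htV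
        · rw [hcard4, hK1.card_four]
      · right
        refine ⟨p * x, ?_⟩
        show cj (p * x) V = U₂
        rw [cj_mul]
        symm
        apply Subgroup.eq_of_le_of_card_ge
        · apply fourSubgroup_le hzmem
          rw [← hp]; exact conj_mem_cj htV
        · rw [hcard4, hK2.card_four]

end Cfsg.Agent.S1256
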