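import Mathlib
import Cfsg.Statements.S1284
import Cfsg.Agent.Lib.Helper10.SignalizerTransitivity

set_option autoImplicit false
open Cfsg

namespace Cfsg.Agent.S1284

open scoped Pointwise

open Cfsg.Agent.Lib.Helper10.Signalizer in
theorem part_a {G : Type*} [Group G] [Finite G] (p : ℕ) [Fact p.Prime] (A : Subgroup G)
    (hA : Cfsg.IsElementaryAbelian p A) (hA3 : p ^ 3 ≤ Nat.card ↥A) (θ : G → Subgroup G)
    (hθ : Cfsg.IsSolvableSignalizerFunctor p A θ) (q : ℕ) [Fact q.Prime] (Q : Subgroup G)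
    (hQ : IsMaxQ p A θ q Q) (H : Subgroup G) (hH : H ∈ Cfsg.signalizerFamily p A θ) :
    ∃ c ∈ Cfsg.signalizerInf A θ, ∃ S : Sylow q ↥H,
      (S : Subgroup ↥H).map H.subtype = Q.map (MulAut.conj c).toMonoidHom ⊓ H := by
  have hAH : A ≤ Subgroup.normalizer (H : Set G) := le_normalizer_of_conj_mem A H hH.2.2.1
  have hcop : (Nat.card A).Coprime (Nat.card H) := coprime_card_family hA hH
  have hsolv : Group.IsSolvable A ∨ Group.IsSolvable H := Or.inr hH.1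
  obtain ⟨P, hAP⟩ := Cfsg.Agent.Lib.Helper13.exists_invariant_sylow A H hAH hcop hsolv q
  have hSfam : (P : Subgroup H).map H.subtype ∈ Cfsg.signalizerFamily p A θ :=
    family_of_le hH (Subgroup.map_subtype_le _) (conj_mem_of_le_normalizer hAP)
  have hSq : IsPGroup q ((P : Subgroup H).map H.subtype) := P.isPGroup'.map H.subtype
  obtain ⟨Q', hQ'max, hSQ'⟩ := exists_isMaxQ hSfam hSq
  obtain ⟨c, hc, hcQ⟩ := transitivity hA hA3 hθ q hQ hQ'max
  refine ⟨c, hc, P, ?_⟩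
  have hcQ' : Q.map (MulAut.conj c).toMonoidHom = Q' := hcQ
  rw [hcQ']
  have hle : (P : Subgroup H).map H.subtype ≤ Q' ⊓ H := le_inf hSQ' (Subgroup.map_subtype_le _)
  have hXq : IsPGroup q ((Q' ⊓ H).subgroupOf H) := by
    have h1 : IsPGroup q ↥(Q' ⊓ H) := hQ'max.2.1.to_le inf_le_left
    exact h1.comap_subtype
  have hPX : (P : Subgroup H) ≤ (Q' ⊓ H).subgroupOf H := by
    intro x hx
    rw [Subgroup.mem_subgroupOf]
    exact hle ⟨x, hx, rfl⟩
  have hXP := P.is_maximal' hXq hPX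
  rw [← hXP, Subgroup.map_subgroupOf_eq_of_le inf_le_right]


/-- Let θ be a solvable A-signalizer functor on the finite group G, A elementary abelian of rank at least 3, q a prime dividing some |θ a|, and Q maximal among the q-subgroups in the family of θ. Then (a) for every member H of the family, some c in the intersection of the θ a (a ∈ A non-identity) makes c Q c⁻¹ ∩ H a Sylow q-subgroup of H; and (b) for every nontrivial subgroup B ≤ A, C_Q(B) is a Sylow q-subgroup of the intersection of the θ b over the non-identity b ∈ B. -/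
theorem result {G : Type*} [Group G] [Finite G] (p : ℕ) [Fact p.Prime] (A : Subgroup G) (hA : Cfsg.IsElementaryAbelian p A) (hA3 : p ^ 3 ≤ Nat.card ↥A) (θ : G → Subgroup G) (hθ : Cfsg.IsSolvableSignalizerFunctor p A θ) (q : ℕ) [Fact q.Prime] (hq : ∃ a ∈ A, a ≠ 1 ∧ q ∣ Nat.card ↥(θ a)) (Q : Subgroup G) (hQW : Q ∈ Cfsg.signalizerFamily p A θ) (hQq : IsPGroup q ↥Q) (hQmax : ∀ R ∈ Cfsg.signalizerFamily p A θ, IsPGroup q ↥R → Q ≤ R → R = Q) : (∀ H : Subgroup G, H ∈ Cfsg.signalizerFamily p A θ → ∃ c ∈ Cfsg.signalizerInf A θ, ∃ S : Sylow q ↥H, (S : Subgroup ↥H).map H.subtype = Q.map (MulAut.conj c).toMonoidHom ⊓ H) ∧ (∀ B : Subgroup G, B ≤ A → B ≠ ⊥ → ∃ S : Sylow q ↥(Cfsg.signalizerInf B θ), (S : Subgroup ↥(Cfsg.signalizerInf B θ)).map (Cfsg.signalizerInf B θ).subtype = Q ⊓ Subgroup.centralizer (B : Set G)) := by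
  have hQ : Cfsg.Agent.Lib.Helper10.Signalizer.IsMaxQ p A θ q Q := ⟨hQW, hQq, hQmax⟩
  refine ⟨fun H hH => part_a p A hA hA3 θ hθ q Q hQ H hH, ?_⟩
  intro B hBA hB
  obtain ⟨b₀, hb₀1⟩ := (Subgroup.ne_bot_iff_exists_ne_one.mp hB)
  have hb₀1' : (b₀ : G) ≠ 1 := fun h => hb₀1 (Subtype.ext h)
  set HB : Subgroup G := Cfsg.signalizerInf B θ with hHB
  have hmemHB : ∀ x : G, x ∈ HB ↔ ∀ b ∈ B, b ≠ 1 → x ∈ θ b := by
    intro x
    rw [hHB]
    unfold Cfsg.signalizerInf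
    rw [Subgroup.mem_iInf]
    constructor
    · intro h b hb hb1
      exact h ⟨b, hb, hb1⟩
    · rintro h ⟨b, hb, hb1⟩
      exact h b hb hb1
  have hθ' := hθ.1
  have hHBle : HB ≤ θ b₀ := fun x hx => (hmemHB x).mp hx b₀ b₀.2 hb₀1'
  have hHBinv : ∀ a ∈ A, ∀ u ∈ HB, a * u * a⁻¹ ∈ HB := by
    intro a ha u hu
    rw [hmemHB] at hu ⊢
    intro b hb hb1
    exact hθ'.2.2.1 b (hBA hb) hb1 a ha u (hu b hb hb1)
  have hHBfam : HB ∈ Cfsg.signalizerFamily p A θ :=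
    Cfsg.Agent.Lib.Helper10.Signalizer.family_of_le
      (Cfsg.Agent.Lib.Helper10.Signalizer.theta_mem_family hθ (hBA b₀.2) hb₀1') hHBle hHBinv
  obtain ⟨c, hc, S, hS⟩ := part_a p A hA hA3 θ hθ q Q hQ HB hHBfam
  have hcHB : c ∈ HB := by
    rw [hmemHB]
    intro b hb hb1
    exact Cfsg.Agent.Lib.Helper10.Signalizer.mem_theta_of_mem_inf hc (hBA hb) hb1
  -- `Q ⊓ C(B) = Q ⊓ HB`
  have hQC : Q ⊓ Subgroup.centralizer (B : Set G) = Q ⊓ HB := by
    apply le_antisymm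
    · rintro x ⟨hxQ, hxC⟩
      refine ⟨hxQ, ?_⟩
      show x ∈ HB
      rw [hmemHB]
      intro b hb hb1
      apply hQW.2.2.2 b (hBA hb) hb1
      refine ⟨hxQ, ?_⟩
      show x ∈ Subgroup.centralizer ({b} : Set G)
      have hxC' : x ∈ Subgroup.centralizer (B : Set G) := hxC
      rw [Subgroup.mem_centralizer_iff] at hxC' ⊢
      intro y hy
      rw [Set.mem_singleton_iff] at hy
      rw [hy]
      exact hxC' b hb
    · rintro x ⟨hxQ, hxH⟩
      refine ⟨hxQ, ?_⟩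
      show x ∈ Subgroup.centralizer (B : Set G)
      rw [Subgroup.mem_centralizer_iff]
      intro b hb
      by_cases hb1 : b = 1
      · rw [hb1, one_mul, mul_one]
      · have h1 : x ∈ θ b := (hmemHB x).mp hxH b hb hb1
        have h2 := hθ'.1 b (hBA hb) hb1 h1
        rw [Subgroup.mem_centralizer_iff] at h2
        exact h2 b rfl
  rw [hQC]
  -- conjugate the Sylow subgroup back by `c⁻¹ ∈ HB`
  let d : ↥HB := ⟨c⁻¹, HB.inv_mem hcHB⟩
  refine ⟨MulAut.conj d • S, ?_⟩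
  have h1 : ((MulAut.conj d • S : Sylow q ↥HB) : Subgroup ↥HB) =
      MulAut.conj d • (S : Subgroup ↥HB) := rfl
  rw [h1, Cfsg.Agent.Lib.Helper13.map_cj, hS]
  show Cfsg.Agent.Lib.Helper10.Signalizer.cjs (c⁻¹)
    (Cfsg.Agent.Lib.Helper10.Signalizer.cjs c Q ⊓ HB) = Q ⊓ HB
  ext x
  rw [Cfsg.Agent.Lib.Helper10.Signalizer.mem_cjs]
  constructor
  · rintro ⟨h2, h3⟩
    have h2 : c⁻¹⁻¹ * x * c⁻¹ ∈ Cfsg.Agent.Lib.Helper10.Signalizer.cjs c Q := h2
    rw [Cfsg.Agent.Lib.Helper10.Signalizer.mem_cjs] at h2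
    have e : c⁻¹ * (c⁻¹⁻¹ * x * c⁻¹) * c = x := by group
    rw [e] at h2
    refine ⟨h2, ?_⟩
    have : x = c⁻¹ * (c⁻¹⁻¹ * x * c⁻¹) * c⁻¹⁻¹ := by group
    rw [this]
    exact HB.mul_mem (HB.mul_mem (HB.inv_mem hcHB) h3) (HB.inv_mem (HB.inv_mem hcHB))
  · rintro ⟨h2, h3⟩
    refine ⟨?_, ?_⟩
    · show c⁻¹⁻¹ * x * c⁻¹ ∈ Cfsg.Agent.Lib.Helper10.Signalizer.cjs c Q
      rw [Cfsg.Agent.Lib.Helper10.Signalizer.mem_cjs]
      have e : c⁻¹ * (c⁻¹⁻¹ * x * c⁻¹) * c = x := by group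
      rw [e]
      exact h2
    · exact HB.mul_mem (HB.mul_mem (HB.inv_mem (HB.inv_mem hcHB)) h3) (HB.inv_mem hcHB)

end Cfsg.Agent.S1284
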