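import Mathlib
import Cfsg.Statements.S1285
import Cfsg.Agent.Lib.Helper10.SignalizerTransitivity

set_option autoImplicit false
open Cfsg

namespace Cfsg.Agent.S1285


/-- Let θ be a solvable A-signalizer functor on the finite group G with A elementary abelian of rank at least 3, and suppose that for some prime q every θ a (a ∈ A non-identity) is a q-group. Then θ is complete. -/
theorem result {G : Type*} [Group G] [Finite G] (p : ℕ) [Fact p.Prime] (A : Subgroup G) (hA : Cfsg.IsElementaryAbelian p A) (hA3 : p ^ 3 ≤ Nat.card ↥A) (θ : G → Subgroup G) (hθ : Cfsg.IsSolvableSignalizerFunctor p A θ) (q : ℕ) [Fact q.Prime] (hq : ∀ a ∈ A, a ≠ 1 → IsPGroup q ↥(θ a)) : Cfsg.IsCompleteSignalizerFunctor p A θ := by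
  have hθ' := hθ.1
  refine ⟨hθ', ?_⟩
  have hbot : (⊥ : Subgroup G) ∈ Cfsg.signalizerFamily p A θ := by
    refine ⟨inferInstance, ?_, ?_, ?_⟩
    · rw [Subgroup.card_bot]
      exact (Fact.out : p.Prime).one_lt.not_ge ∘ Nat.le_of_dvd Nat.one_pos
    · intro b _ u hu
      rw [Subgroup.mem_bot] at hu ⊢
      rw [hu]; group
    · intro a _ _
      exact inf_le_left.trans bot_le
  have hbotq : IsPGroup q (⊥ : Subgroup G) := IsPGroup.of_bot
  obtain ⟨Q, hQmax, -⟩ := Cfsg.Agent.Lib.Helper10.Signalizer.exists_isMaxQ hbot hbotq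
  refine ⟨Q, hQmax.1.2.2.1, hQmax.1.2.1, ?_⟩
  intro a ha ha1
  apply le_antisymm (hQmax.1.2.2.2 a ha ha1)
  refine le_inf ?_ (hθ'.1 a ha ha1)
  have hfam := Cfsg.Agent.Lib.Helper10.Signalizer.theta_mem_family hθ ha ha1
  obtain ⟨Q', hQ'max, hle⟩ := Cfsg.Agent.Lib.Helper10.Signalizer.exists_isMaxQ hfam (hq a ha ha1)
  obtain ⟨c, hc, hcQ⟩ := Cfsg.Agent.Lib.Helper10.Signalizer.transitivity hA hA3 hθ q hQmax hQ'max
  have hca : c ∈ θ a := Cfsg.Agent.Lib.Helper10.Signalizer.mem_theta_of_mem_inf hc ha ha1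
  intro x hx
  have h1 : c * x * c⁻¹ ∈ θ a := (θ a).mul_mem ((θ a).mul_mem hca hx) ((θ a).inv_mem hca)
  have h2 : c * x * c⁻¹ ∈ Cfsg.Agent.Lib.Helper10.Signalizer.cjs c Q := by
    rw [hcQ]; exact hle h1
  rw [Cfsg.Agent.Lib.Helper10.Signalizer.mem_cjs] at h2
  have e : c⁻¹ * (c * x * c⁻¹) * c = x := by group
  rwa [e] at h2

end Cfsg.Agent.S1285
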