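import Mathlib
import Cfsg.Statements.S1287
import Cfsg.Agent.Lib.Helper10.BrauerWielandtAmbient
import Cfsg.Agent.Lib.Helper15.ProdFormula

set_option autoImplicit false
open scoped Pointwise
open Cfsg

namespace Cfsg.Agent.S1287

open Cfsg.Agent.Lib.Helper10.BW


/-- Let A be a noncyclic elementary abelian p-subgroup of a finite group H normalizing a subgroup K of order prime to p, and X, Y ≤ K subgroups normalized by A with C_K(a) = C_X(a) C_Y(a) (as sets) for every non-identity a ∈ A, where X is also normalized by C_K(A). Then K = XY as sets. -/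
theorem result {H : Type*} [Group H] [Finite H] (p : ℕ) [Fact p.Prime] (A K X Y : Subgroup H) (hA : Cfsg.IsElementaryAbelian p A) (hA2 : p ^ 2 ≤ Nat.card ↥A) (hK : ¬ p ∣ Nat.card ↥K) (hAK : A ≤ Subgroup.normalizer (K : Set H)) (hX : X ≤ K) (hY : Y ≤ K) (hAX : A ≤ Subgroup.normalizer (X : Set H)) (hAY : A ≤ Subgroup.normalizer (Y : Set H)) (hCX : K ⊓ Subgroup.centralizer (A : Set H) ≤ Subgroup.normalizer (X : Set H)) (hfac : ∀ a ∈ A, a ≠ 1 → ((K ⊓ Subgroup.centralizer {a} : Subgroup H) : Set H) = ((X ⊓ Subgroup.centralizer {a} : Subgroup H) : Set H) * ((Y ⊓ Subgroup.centralizer {a} : Subgroup H) : Set H)) : (K : Set H) = (X : Set H) * (Y : Set H) := by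
  classical
  have hp : p.Prime := Fact.out
  have hcomm : ∀ x ∈ A, ∀ y ∈ A, x * y = y * x := by
    intro x hx y hy
    have := hA.1.is_comm.comm ⟨x, hx⟩ ⟨y, hy⟩
    exact congrArg Subtype.val this
  have hApg : IsPGroup p A := by
    intro x
    exact ⟨1, by rw [pow_one]; exact Subtype.ext (by simpa using hA.2 x x.2)⟩
  obtain ⟨b, hbA, hb1⟩ : ∃ b ∈ A, b ≠ 1 := by
    have hne : A ≠ ⊥ := by
      intro h
      rw [h, Subgroup.card_bot] at hA2
      have := hp.two_le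
      nlinarith
    obtain ⟨⟨b, hb⟩, hne'⟩ := Subgroup.ne_bot_iff_exists_ne_one.mp hne
    exact ⟨b, hb, fun h => hne' (Subtype.ext h)⟩
  obtain ⟨a, haA, hab⟩ : ∃ a ∈ A, a ∉ Subgroup.zpowers b := by
    by_contra hcon
    have hle : A ≤ Subgroup.zpowers b := by
      intro x hx
      by_contra hx'
      exact hcon ⟨x, hx, hx'⟩
    have h1 : Nat.card A ≤ Nat.card (Subgroup.zpowers b) := Subgroup.card_le_of_le hle
    have h2 : Nat.card (Subgroup.zpowers b) = orderOf b := Nat.card_zpowers b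
    have h3 : orderOf b ∣ p := orderOf_dvd_of_pow_eq_one (hA.2 b hbA)
    have h4 : orderOf b ≤ p := Nat.le_of_dvd hp.pos h3
    have h5 : p ^ 2 ≤ p := by omega
    nlinarith [hp.two_le]
  have hne : ∀ i : ℕ, a * b ^ i ≠ 1 := by
    intro i h
    apply hab
    have : a = (b ^ i)⁻¹ := eq_inv_of_mul_eq_one_left h
    rw [this]
    exact Subgroup.inv_mem _ (Subgroup.pow_mem _ (Subgroup.mem_zpowers b) i)
  have hpowA : ∀ i : ℕ, a * b ^ i ∈ A := fun i => A.mul_mem haA (A.pow_mem hbA i)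
  have hKcop : (Nat.card K).Coprime p := ((Nat.Prime.coprime_iff_not_dvd hp).mpr hK).symm
  have hcopOf : ∀ L : Subgroup H, L ≤ K → (Nat.card L).Coprime p := fun L hL =>
    Nat.Coprime.coprime_dvd_left (Subgroup.card_dvd_of_le hL) hKcop
  have hAZ : A ≤ Subgroup.normalizer ((X ⊓ Y : Subgroup H) : Set H) := by
    intro x hx
    rw [Subgroup.mem_normalizer_iff]
    intro y
    rw [Subgroup.mem_inf, Subgroup.mem_inf,
      ← Subgroup.mem_normalizer_iff.mp (hAX hx) y, ← Subgroup.mem_normalizer_iff.mp (hAY hx) y]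
  have bwK := bw_ambient p A K hApg hcomm hAK hKcop a b haA hbA (hA.2 a haA) (hA.2 b hbA)
  have bwX := bw_ambient p A X hApg hcomm hAX (hcopOf X hX) a b haA hbA (hA.2 a haA) (hA.2 b hbA)
  have bwY := bw_ambient p A Y hApg hcomm hAY (hcopOf Y hY) a b haA hbA (hA.2 a haA) (hA.2 b hbA)
  have bwZ := bw_ambient p A (X ⊓ Y) hApg hcomm hAZ (hcopOf _ (inf_le_left.trans hX)) a b haA hbA
    (hA.2 a haA) (hA.2 b hbA)
  -- relations from the factorization hypothesis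
  have hrel : ∀ g ∈ A, g ≠ 1 → Nat.card ↥(Cn K g g) * Nat.card ↥(Cn (X ⊓ Y) g g) =
      Nat.card ↥(Cn X g g) * Nat.card ↥(Cn Y g g) := by
    intro g hg hg1
    have h1 := Cfsg.Agent.Lib.Helper15.card_mul_set_mul_card_inf
      (X ⊓ Subgroup.centralizer {g}) (Y ⊓ Subgroup.centralizer {g})
    rw [← hfac g hg hg1, ← inf_inf_distrib_right] at h1
    rw [Cn_self, Cn_self, Cn_self, Cn_self]
    exact h1
  have hineq : Nat.card ↥(Cn X a b) * Nat.card ↥(Cn Y a b) ≤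
      Nat.card ↥(Cn K a b) * Nat.card ↥(Cn (X ⊓ Y) a b) := by
    have h1 := Cfsg.Agent.Lib.Helper15.card_mul_set_mul_card_inf (Cn X a b) (Cn Y a b)
    have h2 : Cn X a b ⊓ Cn Y a b = Cn (X ⊓ Y) a b := by
      ext x
      rw [Subgroup.mem_inf, mem_Cn, mem_Cn, mem_Cn, Subgroup.mem_inf]
      tauto
    have h3 : ((Cn X a b : Subgroup H) : Set H) * ((Cn Y a b : Subgroup H) : Set H) ⊆
        ((Cn K a b : Subgroup H) : Set H) := by
      rintro _ ⟨x, hx, y, hy, rfl⟩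
      have hx' := mem_Cn.mp hx
      have hy' := mem_Cn.mp hy
      have hxK : x ∈ Cn K a b := mem_Cn.mpr ⟨hX hx'.1, hx'.2⟩
      have hyK : y ∈ Cn K a b := mem_Cn.mpr ⟨hY hy'.1, hy'.2⟩
      exact (Cn K a b).mul_mem hxK hyK
    have h4 : Nat.card ↥(((Cn X a b : Subgroup H) : Set H) * ((Cn Y a b : Subgroup H) : Set H)) ≤
        Nat.card ↥(Cn K a b) := Nat.card_mono (Set.toFinite _) h3
    rw [← h1, h2]
    exact Nat.mul_le_mul_right _ h4
  -- abbreviations
  have rb := hrel b hbA hb1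
  have ri : ∀ i ∈ Finset.range p, Nat.card ↥(Cn K (a * b ^ i) (a * b ^ i)) *
      Nat.card ↥(Cn (X ⊓ Y) (a * b ^ i) (a * b ^ i)) =
      Nat.card ↥(Cn X (a * b ^ i) (a * b ^ i)) * Nat.card ↥(Cn Y (a * b ^ i) (a * b ^ i)) :=
    fun i _ => hrel _ (hpowA i) (hne i)
  have rprod : (∏ i ∈ Finset.range p, Nat.card ↥(Cn K (a * b ^ i) (a * b ^ i))) *
      (∏ i ∈ Finset.range p, Nat.card ↥(Cn (X ⊓ Y) (a * b ^ i) (a * b ^ i))) =
      (∏ i ∈ Finset.range p, Nat.card ↥(Cn X (a * b ^ i) (a * b ^ i))) *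
      (∏ i ∈ Finset.range p, Nat.card ↥(Cn Y (a * b ^ i) (a * b ^ i))) := by
    rw [← Finset.prod_mul_distrib, ← Finset.prod_mul_distrib]
    exact Finset.prod_congr rfl ri
  have hmain : Nat.card K * Nat.card ↥(X ⊓ Y) ≤ Nat.card X * Nat.card Y := by
    have hpos : 0 < (Nat.card ↥(Cn K a b) * Nat.card ↥(Cn (X ⊓ Y) a b)) ^ p :=
      pow_pos (Nat.mul_pos Nat.card_pos Nat.card_pos) p
    apply Nat.le_of_mul_le_mul_right _ hpos
    calc Nat.card K * Nat.card ↥(X ⊓ Y) * (Nat.card ↥(Cn K a b) * Nat.card ↥(Cn (X ⊓ Y) a b)) ^ p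
        = (Nat.card K * Nat.card ↥(Cn K a b) ^ p) *
          (Nat.card ↥(X ⊓ Y) * Nat.card ↥(Cn (X ⊓ Y) a b) ^ p) := by ring
      _ = (Nat.card ↥(Cn K b b) * Nat.card ↥(Cn (X ⊓ Y) b b)) *
          ((∏ i ∈ Finset.range p, Nat.card ↥(Cn K (a * b ^ i) (a * b ^ i))) *
          (∏ i ∈ Finset.range p, Nat.card ↥(Cn (X ⊓ Y) (a * b ^ i) (a * b ^ i)))) := by
          rw [bwK, bwZ]; ring
      _ = (Nat.card ↥(Cn X b b) * Nat.card ↥(Cn Y b b)) *
          ((∏ i ∈ Finset.range p, Nat.card ↥(Cn X (a * b ^ i) (a * b ^ i))) *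
          (∏ i ∈ Finset.range p, Nat.card ↥(Cn Y (a * b ^ i) (a * b ^ i)))) := by
          rw [rb, rprod]
      _ = (Nat.card X * Nat.card ↥(Cn X a b) ^ p) * (Nat.card Y * Nat.card ↥(Cn Y a b) ^ p) := by
          rw [bwX, bwY]; ring
      _ = Nat.card X * Nat.card Y * (Nat.card ↥(Cn X a b) * Nat.card ↥(Cn Y a b)) ^ p := by ring
      _ ≤ Nat.card X * Nat.card Y * (Nat.card ↥(Cn K a b) * Nat.card ↥(Cn (X ⊓ Y) a b)) ^ p :=
          Nat.mul_le_mul_left _ (Nat.pow_le_pow_left hineq p)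
  have hXY := Cfsg.Agent.Lib.Helper15.card_mul_set_mul_card_inf X Y
  have hcardle : Nat.card K ≤ Nat.card ↥((X : Set H) * (Y : Set H)) := by
    have hz : 0 < Nat.card ↥(X ⊓ Y) := Nat.card_pos
    apply Nat.le_of_mul_le_mul_right _ hz
    rw [hXY]
    exact hmain
  have hsub : (X : Set H) * (Y : Set H) ⊆ (K : Set H) := by
    rintro _ ⟨x, hx, y, hy, rfl⟩
    exact K.mul_mem (hX hx) (hY hy)
  symm
  apply Set.eq_of_subset_of_ncard_le hsub _ (Set.toFinite _)
  rw [← Nat.card_coe_set_eq, ← Nat.card_coe_set_eq]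
  exact hcardle

end Cfsg.Agent.S1287
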