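import Mathlib
import Cfsg.Statements.S1288
import Cfsg.Agent.S1324
import Cfsg.Agent.Lib.Helper1.OmegaOne
import Cfsg.Agent.Lib.Helper20.CharPLocal
import Cfsg.Agent.Lib.Helper20.Bender
import Cfsg.Agent.Lib.Helper20.PLocal
import Cfsg.Agent.Lib.Helper2.Cores

set_option autoImplicit false
open Cfsg

namespace Cfsg.Agent.S1288

/-- The preimage of a characteristic subgroup of `G ⧸ N`, `N` characteristic, is characteristic. -/
theorem comap_mk'_characteristic {G : Type*} [Group G] (N : Subgroup G) [hN : N.Characteristic]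
    (C : Subgroup (G ⧸ N)) [hC : C.Characteristic] :
    (C.comap (QuotientGroup.mk' N)).Characteristic := by
  rw [Subgroup.characteristic_iff_le_comap]
  intro φ x hx
  rw [Subgroup.mem_comap] at hx ⊢
  have hmap : N.map φ.toMonoidHom = N := Subgroup.characteristic_iff_map_eq.mp hN φ
  let ψ : G ⧸ N ≃* G ⧸ N := QuotientGroup.congr N N φ hmap
  have h1 := hC.fixed ψ
  have h2 : QuotientGroup.mk' N x ∈ C.comap ψ.toMonoidHom := by rw [h1]; exact hx
  rw [Subgroup.mem_comap] at h2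
  have h3 : ψ.toMonoidHom (QuotientGroup.mk' N x) = QuotientGroup.mk' N (φ.toMonoidHom x) :=
    QuotientGroup.congr_mk N N φ hmap x
  rw [h3] at h2
  exact h2

/-- A `p`-group of order at least `p ^ 2`... more generally a nontrivial `p`-subgroup has a
subgroup of relative index `p`. -/
theorem exists_relIndex_eq_prime {H : Type*} [Group H] [Finite H] (p : ℕ) [hp : Fact p.Prime]
    (A : Subgroup H) (hA : IsPGroup p A) (hA1 : A ≠ ⊥) :
    ∃ B : Subgroup H, B ≤ A ∧ B.relIndex A = p := by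
  obtain ⟨n, hn⟩ := IsPGroup.iff_card.mp hA
  have hn0 : n ≠ 0 := by
    intro h0
    rw [h0, pow_zero] at hn
    exact hA1 ((Subgroup.card_eq_one).mp hn)
  obtain ⟨m, rfl⟩ := Nat.exists_eq_succ_of_ne_zero hn0
  obtain ⟨B0, hB0⟩ := Sylow.exists_subgroup_card_pow_prime (G := ↥A) p
    (show p ^ m ∣ Nat.card ↥A by rw [hn]; exact pow_dvd_pow p (Nat.le_succ m))
  refine ⟨B0.map A.subtype, Subgroup.map_subtype_le B0, ?_⟩
  have h1 : (B0.map A.subtype).subgroupOf A = B0 :=
    Subgroup.comap_map_eq_self_of_injective (Subgroup.subtype_injective A) B0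
  rw [Subgroup.relIndex, h1]
  have h2 := B0.card_mul_index
  rw [hB0, hn, pow_succ] at h2
  exact Nat.eq_of_mul_eq_mul_left (pow_pos hp.out.pos m) h2

open scoped commutatorElement in
theorem comm_mem {H : Type*} [Group H] (U V : Subgroup H) {u x : H} (hu : u ∈ U) (hx : x ∈ V) :
    u * x * u⁻¹ * x⁻¹ ∈ ⁅U, V⁆ := by
  have := Subgroup.commutator_mem_commutator hu hx
  rwa [commutatorElement_def] at this

/-- Let A be a noncyclic elementary abelian p-subgroup of a finite group H normalizing a solvable subgroup K of order prime to p, q a prime dividing |K|, and U ≤ K a subgroup of order prime to q such that ⁅U, C_K(B)⁆ has order prime to q for every subgroup B of index p in A. Then U ≤ O_{q'}(K). -/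
theorem result {H : Type*} [Group H] [Finite H] (p : ℕ) [Fact p.Prime] (A K : Subgroup H) (hA : Cfsg.IsElementaryAbelian p A) (hA2 : p ^ 2 ≤ Nat.card ↥A) (hK : ¬ p ∣ Nat.card ↥K) (hKs : Group.IsSolvable ↥K) (hAK : A ≤ Subgroup.normalizer (K : Set H)) (q : ℕ) [Fact q.Prime] (hqK : q ∣ Nat.card ↥K) (U : Subgroup H) (hU : U ≤ K) (hUq : ¬ q ∣ Nat.card ↥U) (hcomm : ∀ B : Subgroup H, B ≤ A → B.relIndex A = p → ¬ q ∣ Nat.card ↥⁅U, K ⊓ Subgroup.centralizer (B : Set H)⁆) : U ≤ (Cfsg.pPrimeCore q ↥K).map K.subtype := by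
  classical
  have hp : p.Prime := Fact.out
  have hq : q.Prime := Fact.out
  haveI : Finite ↥K := inferInstance
  -- notation
  haveI hM0n : (Cfsg.pPrimeCore q ↥K).Normal := Cfsg.Agent.Lib.Helper20.pPrimeCore_normal' q
  haveI hM0c : (Cfsg.pPrimeCore q ↥K).Characteristic :=
    Cfsg.Agent.Lib.Helper20.pPrimeCore_characteristic q
  set M0 := Cfsg.pPrimeCore q ↥K with hM0
  let π : ↥K →* ↥K ⧸ M0 := QuotientGroup.mk' M0
  have hπs : Function.Surjective π := QuotientGroup.mk'_surjective M0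
  haveI := hKs
  haveI : Group.IsSolvable (↥K ⧸ M0) := inferInstance
  have hO : Cfsg.pPrimeCore q (↥K ⧸ M0) = ⊥ := Cfsg.Agent.Lib.Helper20.pPrimeCore_quotient_eq_bot q
  have hF : Cfsg.fittingSubgroup (↥K ⧸ M0) = Cfsg.pCore q (↥K ⧸ M0) :=
    Cfsg.Agent.Lib.Helper20.fitting_eq_pCore_of_pPrimeCore_eq_bot q hO
  have hC : Subgroup.centralizer ((Cfsg.pCore q (↥K ⧸ M0) : Subgroup (↥K ⧸ M0)) : Set (↥K ⧸ M0)) ≤
      Cfsg.pCore q (↥K ⧸ M0) := by
    rw [← hF]
    exact Cfsg.Agent.Lib.Helper20.centralizer_fitting_le_iff_layer_eq_bot.mpr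
      (Cfsg.Agent.Lib.Helper20.layer_eq_bot_of_isSolvable inferInstance)
  have hPq : IsPGroup q ↥(Cfsg.pCore q (↥K ⧸ M0)) := Cfsg.Agent.Lib.Helper2.pCore_isPGroup q
  haveI hPn : (Cfsg.pCore q (↥K ⧸ M0)).Normal := Cfsg.Agent.Lib.Helper20.pCore_normal' q
  haveI hPc : (Cfsg.pCore q (↥K ⧸ M0)).Characteristic :=
    Cfsg.Agent.Lib.Helper20.pCore_characteristic q
  -- `R0 = O_{q',q}(K)`
  set R0 : Subgroup ↥K := (Cfsg.pCore q (↥K ⧸ M0)).comap π with hR0
  haveI hR0c : R0.Characteristic := comap_mk'_characteristic M0 _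
  set R : Subgroup H := R0.map K.subtype with hR
  have hRK : R ≤ K := Subgroup.map_subtype_le R0
  have hAR : A ≤ Subgroup.normalizer (R : Set H) := fun a ha =>
    Cfsg.Agent.Lib.Helper1.mem_normalizer_map_of_characteristic K R0 a (hAK ha)
  have hpR : ¬ p ∣ Nat.card ↥R := fun h => hK (h.trans (Subgroup.card_dvd_of_le hRK))
  have hgen := Cfsg.Agent.S1324.result p A R hA hA2 hpR hAR
  -- a `q`-element of order prime to `q` is trivial
  have hqtriv : ∀ (y : ↥K ⧸ M0) (n : ℕ), y ∈ Cfsg.pCore q (↥K ⧸ M0) → orderOf y ∣ n → ¬ q ∣ n →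
      y = 1 := by
    intro y n hy hyn hqn
    obtain ⟨k, hk⟩ := hPq ⟨y, hy⟩
    have hk' : y ^ q ^ k = 1 := by
      have := congrArg Subtype.val hk
      simpa using this
    have h1 : orderOf y ∣ q ^ k := orderOf_dvd_of_pow_eq_one hk'
    have h2 : (q ^ k).Coprime n := Nat.Coprime.pow_left k ((Nat.Prime.coprime_iff_not_dvd hq).mpr hqn)
    have h3 : orderOf y = 1 := Nat.eq_one_of_dvd_coprimes h2 h1 hyn
    exact orderOf_eq_one_iff.mp h3
  -- `A` is a nontrivial `p`-group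
  have hAp : IsPGroup p ↥A := by
    intro a
    refine ⟨1, ?_⟩
    apply Subtype.ext
    simpa using hA.2 a a.2
  have hA1 : A ≠ ⊥ := by
    intro h
    rw [h, Subgroup.card_bot] at hA2
    have : 1 < p ^ 2 := Nat.one_lt_pow (by norm_num) hp.one_lt
    omega
  obtain ⟨B1, hB1A, hB1i⟩ := exists_relIndex_eq_prime p A hAp hA1
  -- for each member of the generating family pick a hyperplane inside it
  have hyp : ∀ B : Subgroup H, B ≤ A → B.relIndex A ≤ p →
      ∃ B' : Subgroup H, B' ≤ A ∧ B'.relIndex A = p ∧ B' ≤ B := by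
    intro B hBA hBi
    obtain ⟨n, hn⟩ := IsPGroup.iff_card.mp hAp
    have hdvd : B.relIndex A ∣ p ^ n := hn ▸ Subgroup.relIndex_dvd_card B A
    obtain ⟨j, hj, hji⟩ := (Nat.dvd_prime_pow hp).mp hdvd
    rcases Nat.eq_zero_or_pos j with h0 | hpos
    · rw [h0, pow_zero] at hji
      have hAB : A ≤ B := Subgroup.relIndex_eq_one.mp hji
      exact ⟨B1, hB1A, hB1i, hB1A.trans hAB⟩
    · have hj1 : j = 1 := by
        by_contra hne
        have h2 : 2 ≤ j := by omega
        have : p ^ 2 ≤ p ^ j := Nat.pow_le_pow_right hp.pos h2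
        have h3 : p < p ^ 2 := by
          calc p = p ^ 1 := (pow_one p).symm
            _ < p ^ 2 := Nat.pow_lt_pow_right hp.one_lt (by norm_num)
        rw [hji] at hBi
        omega
      rw [hj1, pow_one] at hji
      exact ⟨B, hBA, hji, le_rfl⟩
  intro u hu
  have huK : u ∈ K := hU hu
  set u0 : ↥K := ⟨u, huK⟩ with hu0
  -- `π u0` centralizes `O_q(K/M0)`
  have hcent : π u0 ∈ Subgroup.centralizer ((Cfsg.pCore q (↥K ⧸ M0) : Subgroup (↥K ⧸ M0)) : Set (↥K ⧸ M0)) := by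
    rw [Subgroup.mem_centralizer_iff]
    intro y hy
    obtain ⟨r0, rfl⟩ := hπs y
    have hr0 : r0 ∈ R0 := hy
    let S : Subgroup H := ((Subgroup.centralizer ({π u0} : Set (↥K ⧸ M0))).comap π).map K.subtype
    have hRS : R ≤ S := by
      rw [hgen]
      apply iSup_le
      rintro ⟨B, hBA, hBi⟩
      obtain ⟨B', hB'A, hB'i, hB'B⟩ := hyp B hBA hBi
      rintro x ⟨hxR, hxB⟩
      obtain ⟨x0, hx0, rfl⟩ := hxR
      refine ⟨x0, ?_, rfl⟩
      show π x0 ∈ Subgroup.centralizer ({π u0} : Set (↥K ⧸ M0))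
      rw [Subgroup.mem_centralizer_iff]
      intro h hh
      rw [Set.mem_singleton_iff.mp hh]
      -- the commutator
      have hcK : ((u0 : H) * (x0 : H) * (u0 : H)⁻¹ * (x0 : H)⁻¹ : H) ∈
          ⁅U, K ⊓ Subgroup.centralizer (B' : Set H)⁆ := by
        apply comm_mem _ _ hu
        refine ⟨x0.2, ?_⟩
        exact Subgroup.centralizer_le (show (B' : Set H) ⊆ B from hB'B) hxB
      have hord : orderOf (u0 * x0 * u0⁻¹ * x0⁻¹ : ↥K) ∣
          Nat.card ↥⁅U, K ⊓ Subgroup.centralizer (B' : Set H)⁆ := by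
        have h1 : orderOf (u0 * x0 * u0⁻¹ * x0⁻¹ : ↥K) =
            orderOf ((u0 : H) * (x0 : H) * (u0 : H)⁻¹ * (x0 : H)⁻¹ : H) := by
          rw [← Subgroup.orderOf_coe]
          rfl
        rw [h1]
        have := orderOf_dvd_natCard (⟨_, hcK⟩ : ↥⁅U, K ⊓ Subgroup.centralizer (B' : Set H)⁆)
        rwa [Subgroup.orderOf_mk] at this
      have hmem : π (u0 * x0 * u0⁻¹ * x0⁻¹) ∈ Cfsg.pCore q (↥K ⧸ M0) := by
        have hx : π x0 ∈ Cfsg.pCore q (↥K ⧸ M0) := hx0
        have : π (u0 * x0 * u0⁻¹ * x0⁻¹) = (π u0 * π x0 * (π u0)⁻¹) * (π x0)⁻¹ := by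
          simp
        rw [this]
        exact Subgroup.mul_mem _ (hPn.conj_mem _ hx _) (Subgroup.inv_mem _ hx)
      have h1 := hqtriv _ _ hmem ((orderOf_map_dvd π _).trans hord) (hcomm B' hB'A hB'i)
      have h2 : π u0 * π x0 * (π u0)⁻¹ * (π x0)⁻¹ = 1 := by
        rw [← h1]; simp
      calc π u0 * π x0 = (π u0 * π x0 * (π u0)⁻¹ * (π x0)⁻¹) * (π x0 * π u0) := by group
        _ = π x0 * π u0 := by rw [h2, one_mul]
    have hrS : (r0 : H) ∈ S := hRS ⟨r0, hr0, rfl⟩
    obtain ⟨r1, hr1, hr1e⟩ := hrS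
    have : r1 = r0 := Subtype.ext hr1e
    rw [this] at hr1
    have hr2 : π r0 ∈ Subgroup.centralizer ({π u0} : Set (↥K ⧸ M0)) := hr1
    rw [Subgroup.mem_centralizer_iff] at hr2
    exact (hr2 _ rfl).symm
  have hmem := hC hcent
  have hord : orderOf (π u0) ∣ Nat.card ↥U := by
    have h1 : orderOf u0 = orderOf u := by
      rw [← Subgroup.orderOf_coe]
    have := orderOf_dvd_natCard (⟨u, hu⟩ : ↥U)
    rw [Subgroup.orderOf_mk] at this
    exact (orderOf_map_dvd π u0).trans (h1 ▸ this)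
  have h1 := hqtriv _ _ hmem hord hUq
  have hu0M : u0 ∈ M0 := (QuotientGroup.eq_one_iff u0).mp h1
  exact ⟨u0, hu0M, rfl⟩

end Cfsg.Agent.S1288
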