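import Mathlib
import Cfsg.Statements.S1302
import Cfsg.Agent.S0093
import Cfsg.Agent.Lib.Helper10.PQStrong
import Cfsg.Agent.Lib.Helper1.OmegaOne
import Cfsg.Agent.Lib.Helper1.CoprimeAction
import Cfsg.Agent.Lib.Helper11.PGroupFrattini
import Cfsg.Agent.Lib.Helper11.FibreFix
import Cfsg.Agent.Lib.Helper13.Coprime
import Cfsg.Agent.Lib.Helper2.Cores
import Cfsg.Agent.Lib.Helper20.PConstrained

set_option autoImplicit false
open Cfsg

namespace Cfsg.Agent.S1302

open scoped commutatorElement in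
/-- Key lemma: in a finite group `Y` with a normal `p`-subgroup `R ⊇ C_Y(R)` (`p` odd), if the
`p`-subgroup `A` contains every element `x ∈ C_R(A)` with `x ^ p = 1`, then the only `A`-invariant
`p'`-subgroup is trivial. -/
theorem invariant_pPrime_eq_bot {Y : Type*} [Group Y] [Finite Y] (p : ℕ) [hp : Fact p.Prime]
    (hp2 : p ≠ 2) (R : Subgroup Y) [hRn : R.Normal] (hR : IsPGroup p R)
    (hCR : Subgroup.centralizer (R : Set Y) ≤ R) (A : Subgroup Y) (hA : IsPGroup p A)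
    (hΩ : ∀ x ∈ R, x ∈ Subgroup.centralizer (A : Set Y) → x ^ p = 1 → x ∈ A)
    (Q : Subgroup Y) (hQ : (Nat.card Q).Coprime p)
    (hAQ : A ≤ Subgroup.normalizer (Q : Set Y)) : Q = ⊥ := by
  classical
  obtain ⟨H0, hH0c, hΦ, hcomm, hcent⟩ := Cfsg.Agent.S0093.result (P := ↥R) hR
  haveI := hH0c
  set H : Subgroup Y := H0.map R.subtype with hH
  have hHR : H ≤ R := Subgroup.map_subtype_le H0
  have hRtop : ∀ y : Y, y ∈ Subgroup.normalizer (R : Set Y) := fun y => by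
    rw [Subgroup.normalizer_eq_top]; exact Subgroup.mem_top y
  have hHn : ∀ y : Y, y ∈ Subgroup.normalizer (H : Set Y) := fun y =>
    Cfsg.Agent.Lib.Helper1.mem_normalizer_map_of_characteristic R H0 y (hRtop y)
  have hHconj : ∀ y x : Y, x ∈ H → y * x * y⁻¹ ∈ H := fun y x hx =>
    (Subgroup.mem_normalizer_iff.mp (hHn y) x).mp hx
  have hcopQR : (Nat.card ↥Q).Coprime (Nat.card ↥R) := by
    obtain ⟨k, hk⟩ := IsPGroup.iff_card.mp hR
    rw [hk]; exact Nat.Coprime.pow_right k hQ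
  have hQRbot : Q ⊓ R = ⊥ := Subgroup.inf_eq_bot_of_coprime hcopQR
  -- the `p`-th power map is multiplicative on `H`
  have hH0p : IsPGroup p ↥H0 := hR.to_subgroup H0
  have hcen' : ∀ a b : ↥H0, ⁅a, b⁆ ∈ Subgroup.center ↥H0 := by
    intro a b
    rw [Subgroup.mem_center_iff]
    intro g
    have h1 : ⁅(a : ↥R), (b : ↥R)⁆ ∈ ⁅H0, (⊤ : Subgroup ↥R)⁆ :=
      Subgroup.commutator_mem_commutator a.2 (Subgroup.mem_top _)
    have h2 : ⁅(a : ↥R), (b : ↥R)⁆ ∈ Subgroup.centralizer (H0 : Set ↥R) := (hcomm h1).2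
    rw [Subgroup.mem_centralizer_iff] at h2
    apply Subtype.ext
    have := h2 g g.2
    have e : ((⁅a, b⁆ : ↥H0) : ↥R) = ⁅(a : ↥R), (b : ↥R)⁆ := rfl
    show (g : ↥R) * ((⁅a, b⁆ : ↥H0) : ↥R) = ((⁅a, b⁆ : ↥H0) : ↥R) * (g : ↥R)
    rw [e]; exact this
  have hpow' : ∀ a : ↥H0, a ^ p ∈ Subgroup.center ↥H0 := by
    intro a
    rw [Subgroup.mem_center_iff]
    intro g
    have h1 : a ^ p ∈ frattini ↥H0 := Cfsg.Agent.Lib.Helper11.pow_mem_frattini_of_isPGroup hH0p a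
    have h2 : ((a ^ p : ↥H0) : ↥R) ∈ (frattini ↥H0).map H0.subtype := ⟨_, h1, rfl⟩
    have h3 := hΦ h2
    rw [Subgroup.mem_centralizer_iff] at h3
    apply Subtype.ext
    have := h3 g g.2
    simpa using this
  have hmulpow0 : ∀ x y : ↥H0, (x * y) ^ p = x ^ p * y ^ p :=
    Cfsg.Agent.Lib.Helper1.mul_pow_prime_of_central hp.out hp2 hcen' hpow'
  have hmulpow : ∀ x ∈ H, ∀ y ∈ H, (x * y) ^ p = x ^ p * y ^ p := by
    rintro _ ⟨x0, hx0, rfl⟩ _ ⟨y0, hy0, rfl⟩
    have := hmulpow0 ⟨x0, hx0⟩ ⟨y0, hy0⟩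
    have h2 := congrArg (fun z : ↥H0 => ((z : ↥R) : Y)) this
    simpa using h2
  -- `E = Ω₁(H)`
  let E : Subgroup Y :=
    { carrier := {x | x ∈ H ∧ x ^ p = 1}
      mul_mem' := by
        rintro a b ⟨ha, hap⟩ ⟨hb, hbp⟩
        exact ⟨H.mul_mem ha hb, by rw [hmulpow a ha b hb, hap, hbp, one_mul]⟩
      one_mem' := ⟨H.one_mem, one_pow p⟩
      inv_mem' := by
        rintro a ⟨ha, hap⟩
        exact ⟨H.inv_mem ha, by rw [inv_pow, hap, inv_one]⟩ }
  have hEmem : ∀ x, x ∈ E ↔ x ∈ H ∧ x ^ p = 1 := fun x => Iff.rfl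
  have hEH : E ≤ H := fun x hx => hx.1
  have hER : E ≤ R := hEH.trans hHR
  have hE : IsPGroup p ↥E := hR.to_le hER
  have hEconj : ∀ y x : Y, x ∈ E → y * x * y⁻¹ ∈ E := by
    intro y x hx
    refine ⟨hHconj y x hx.1, ?_⟩
    rw [conj_pow, hx.2]; group
  have hEn : ∀ y : Y, y ∈ Subgroup.normalizer (E : Set Y) := by
    intro y
    rw [Subgroup.mem_normalizer_iff]
    intro x
    refine ⟨hEconj y x, fun h => ?_⟩
    have := hEconj y⁻¹ _ h
    have e : y⁻¹ * (y * x * y⁻¹) * y⁻¹⁻¹ = x := by group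
    rwa [e] at this
  -- fixed points of `A` on `E` are centralized by `Q`
  have hCE : E ⊓ Subgroup.centralizer (A : Set Y) ≤ Subgroup.centralizer (Q : Set Y) := by
    rintro x ⟨hxE, hxA⟩
    have hxAm : x ∈ A := hΩ x (hER hxE) hxA hxE.2
    rw [Subgroup.mem_centralizer_iff]
    intro q hq
    have h1 : x * q * x⁻¹ * q⁻¹ ∈ Q :=
      Q.mul_mem ((Subgroup.mem_normalizer_iff.mp (hAQ hxAm) q).mp hq) (Q.inv_mem hq)
    have h2 : x * q * x⁻¹ * q⁻¹ ∈ R := by
      have : x * q * x⁻¹ * q⁻¹ = x * (q * x⁻¹ * q⁻¹) := by group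
      rw [this]
      exact R.mul_mem (hER hxE) (hRn.conj_mem _ (R.inv_mem (hER hxE)) q)
    have h3 : x * q * x⁻¹ * q⁻¹ ∈ Q ⊓ R := ⟨h1, h2⟩
    rw [hQRbot, Subgroup.mem_bot] at h3
    calc q * x = (x * q * x⁻¹ * q⁻¹)⁻¹ * (x * q) := by group
      _ = x * q := by rw [h3, inv_one, one_mul]
  have hQE : Q ≤ Subgroup.centralizer (E : Set Y) :=
    Cfsg.Agent.Lib.Helper10.pq_strong hp2 A Q E hA hQ hAQ hE (fun a _ => hEn a) (fun q _ => hEn q) hCE
  have hQH : Q ≤ Subgroup.centralizer (H : Set Y) := by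
    apply Cfsg.Agent.Lib.Helper1.centralizes_of_centralizes_omega_one p hp2 Q hQ _ H rfl
      (hR.to_le hHR) (fun q _ => hHn q)
    intro x hx hxp q hq
    have := hQE hq
    rw [Subgroup.mem_centralizer_iff] at this ⊢
    intro y hy
    rw [Set.mem_singleton_iff.mp hy]
    exact this x ⟨hx, hxp⟩
  have hHQ : ⁅H, Q⁆ = ⊥ := by
    rw [Subgroup.commutator_comm, Subgroup.commutator_eq_bot_iff_le_centralizer]
    exact hQH
  -- `Q` centralizes `R`
  have h1 : ⁅⁅R, H⁆, Q⁆ = ⊥ := by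
    have hle : ⁅R, H⁆ ≤ H := by
      rw [Subgroup.commutator_comm]
      exact Cfsg.Agent.Lib.Helper13.commutator_le_of_le_normalizer H R (fun y _ => hHn y)
    rw [eq_bot_iff, ← hHQ]
    exact Subgroup.commutator_mono hle le_rfl
  have h2 : ⁅⁅H, Q⁆, R⁆ = ⊥ := by
    rw [hHQ]; exact Subgroup.commutator_bot_left R
  have h3 : ⁅⁅Q, R⁆, H⁆ = ⊥ := Subgroup.commutator_commutator_eq_bot_of_rotate h1 h2
  have hQRH : ⁅Q, R⁆ ≤ H := by
    intro z hz
    have hzR : z ∈ R := by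
      have : ⁅Q, R⁆ ≤ R := by
        rw [Subgroup.commutator_comm]
        exact Cfsg.Agent.Lib.Helper13.commutator_le_of_le_normalizer R Q (fun y _ => hRtop y)
      exact this hz
    rw [Subgroup.commutator_eq_bot_iff_le_centralizer] at h3
    have hzC := h3 hz
    rw [Subgroup.mem_centralizer_iff] at hzC
    have hz0 : (⟨z, hzR⟩ : ↥R) ∈ Subgroup.centralizer (H0 : Set ↥R) := by
      rw [Subgroup.mem_centralizer_iff]
      intro g hg
      apply Subtype.ext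
      exact hzC (g : Y) ⟨g, hg, rfl⟩
    exact ⟨⟨z, hzR⟩, hcent hz0, rfl⟩
  have h4 : ⁅⁅R, Q⁆, Q⁆ = ⊥ := by
    rw [eq_bot_iff, ← hHQ, Subgroup.commutator_comm R Q]
    exact Subgroup.commutator_mono hQRH le_rfl
  have h5 : ⁅R, Q⁆ = ⊥ :=
    Cfsg.Agent.Lib.Helper1.commutator_eq_bot_of_commutator_commutator_eq_bot R Q
      (fun y _ => hRtop y) hcopQR h4
  have hQR : Q ≤ Subgroup.centralizer (R : Set Y) := by
    rw [Subgroup.commutator_comm, Subgroup.commutator_eq_bot_iff_le_centralizer] at h5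
    exact h5
  rw [eq_bot_iff, ← hQRbot]
  exact le_inf le_rfl (hQR.trans hCR)

/-- Let X be a finite p-constrained group, p an odd prime, and A an abelian p-subgroup of X containing every element of order p of C_X(A). Then every subgroup of X of order prime to p that is normalized by A lies in O_{p'}(X). -/
theorem result {X : Type*} [Group X] [Finite X] (p : ℕ) [Fact p.Prime] (hp : p ≠ 2) (hX : Cfsg.IsPConstrained p X) (A : Subgroup X) (hA : IsMulCommutative ↥A) (hAp : IsPGroup p ↥A) (hΩ : ∀ x ∈ Subgroup.centralizer (A : Set X), orderOf x = p → x ∈ A) (Q : Subgroup X) (hQ : ¬ p ∣ Nat.card ↥Q) (hAQ : A ≤ Subgroup.normalizer (Q : Set X)) : Q ≤ Cfsg.pPrimeCore p X := by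
  classical
  have hpp : p.Prime := Fact.out
  set M := Cfsg.pPrimeCore p X with hM
  let π : X →* X ⧸ M := QuotientGroup.mk' M
  have hMcop : (Nat.card ↥M).Coprime p := Cfsg.Agent.Lib.Helper2.pPrimeCore_coprime p
  have hMndvd : ¬ p ∣ Nat.card ↥M := by
    rw [Nat.coprime_comm, Nat.Prime.coprime_iff_not_dvd hpp] at hMcop
    exact hMcop
  have hCR := (Cfsg.Agent.Lib.Helper20.isPConstrained_iff_centralizer_pCore_le p).mp hX
  have hRp : IsPGroup p ↥(Cfsg.pCore p (X ⧸ M)) := Cfsg.Agent.Lib.Helper2.pCore_isPGroup p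
  have hA' : IsPGroup p ↥(A.map π) := hAp.map π
  have hQ' : (Nat.card ↥(Q.map π)).Coprime p := by
    have h1 : Nat.card ↥(Q.map π) ∣ Nat.card ↥Q := Subgroup.card_map_dvd _ _
    have h2 : (Nat.card ↥Q).Coprime p := by
      rw [Nat.coprime_comm, Nat.Prime.coprime_iff_not_dvd hpp]; exact hQ
    exact Nat.Coprime.coprime_dvd_left h1 h2
  have hAQ' : A.map π ≤ Subgroup.normalizer ((Q.map π : Subgroup (X ⧸ M)) : Set (X ⧸ M)) :=
    (Subgroup.map_mono hAQ).trans (Subgroup.le_normalizer_map π)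
  have hΩ' : ∀ x ∈ Cfsg.pCore p (X ⧸ M),
      x ∈ Subgroup.centralizer ((A.map π : Subgroup (X ⧸ M)) : Set (X ⧸ M)) → x ^ p = 1 →
      x ∈ A.map π := by
    intro x _ hxC hxp
    by_cases hx1 : x = 1
    · rw [hx1]; exact Subgroup.one_mem _
    rw [Subgroup.mem_centralizer_iff] at hxC
    obtain ⟨g, hg, hgA⟩ := Cfsg.Agent.Lib.Helper11.exists_commute_in_fibre M hMndvd A hAp x
      (fun k hk => hxC _ ⟨k, hk, rfl⟩)
    have hp1 : 1 < p := hpp.one_lt
    obtain ⟨t, -, ht⟩ := Nat.exists_mul_mod_eq_one_of_coprime hMcop hp1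
    set s := Nat.card ↥M with hs
    set y := g ^ (s * t) with hy
    have hπg : π g = x := hg
    have hπy : π y = x := by
      rw [hy, map_pow, hπg, pow_eq_pow_mod (s * t) hxp, ht, pow_one]
    have hgpM : g ^ p ∈ M := by
      rw [← QuotientGroup.eq_one_iff, QuotientGroup.mk_pow]
      have : (QuotientGroup.mk g : X ⧸ M) = x := hg
      rw [this, hxp]
    have hyp : y ^ p = 1 := by
      have h1 : (g ^ p) ^ s = 1 := by
        have h0 : (⟨g ^ p, hgpM⟩ : ↥M) ^ s = 1 := pow_card_eq_one'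
        have h2 : (((⟨g ^ p, hgpM⟩ : ↥M) ^ s : ↥M) : X) = ((1 : ↥M) : X) := congrArg Subtype.val h0
        rw [Subgroup.coe_pow, Subgroup.coe_one] at h2
        exact h2
      rw [hy, ← pow_mul, mul_comm (s * t) p, ← mul_assoc, pow_mul, pow_mul, h1, one_pow]
    have hy1 : y ≠ 1 := by
      intro h
      apply hx1
      rw [← hπy, h, map_one]
    have hord : orderOf y = p := orderOf_eq_prime hyp hy1
    have hyC : y ∈ Subgroup.centralizer (A : Set X) := by
      rw [Subgroup.mem_centralizer_iff]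
      intro k hk
      have : Commute k g := hgA k hk
      exact (this.pow_right (s * t)).eq
    exact ⟨y, hΩ y hyC hord, hπy⟩
  have hbot := invariant_pPrime_eq_bot p hp (Cfsg.pCore p (X ⧸ M)) hRp hCR (A.map π) hA' hΩ'
    (Q.map π) hQ' hAQ'
  intro q hq
  have h1 : π q ∈ Q.map π := ⟨q, hq, rfl⟩
  rw [hbot, Subgroup.mem_bot] at h1
  exact (QuotientGroup.eq_one_iff q).mp h1

end Cfsg.Agent.S1302
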