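import Cfsg.Statements.S1303
import Cfsg.Agent.Lib.Helper9.SL23Structure
import Cfsg.Agent.Lib.Helper20.PConstrained2

set_option autoImplicit false
open Cfsg

namespace Cfsg.Agent.S1303

/-- The group X = SL(2, 3): it is 2-constrained, O_{2'}(X) = 1, its centre A = Z(X) contains every involution of X = C_X(A), and X has a subgroup of order 3 (normalized by A) not contained in O_{2'}(X). -/
theorem result : Cfsg.IsPConstrained 2 (Matrix.SpecialLinearGroup (Fin 2) (ZMod 3)) ∧ Cfsg.pPrimeCore 2 (Matrix.SpecialLinearGroup (Fin 2) (ZMod 3)) = ⊥ ∧ (∀ t : Matrix.SpecialLinearGroup (Fin 2) (ZMod 3), orderOf t = 2 → t ∈ Subgroup.center (Matrix.SpecialLinearGroup (Fin 2) (ZMod 3))) ∧ ∃ Q : Subgroup (Matrix.SpecialLinearGroup (Fin 2) (ZMod 3)), Nat.card ↥Q = 3 ∧ ¬ (Q ≤ Cfsg.pPrimeCore 2 (Matrix.SpecialLinearGroup (Fin 2) (ZMod 3))) := by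
  haveI : Fact (Nat.Prime 2) := ⟨Nat.prime_two⟩
  have hcore : Cfsg.pPrimeCore 2 (Matrix.SpecialLinearGroup (Fin 2) (ZMod 3)) = ⊥ := by
    unfold Cfsg.pPrimeCore
    rw [sSup_eq_bot]
    rintro N ⟨hN, hodd⟩
    haveI := hN
    rcases Cfsg.Agent.Lib.Helper9.SLTwoThree.normal_classification N with h | h | h | h
    · exact h
    · exfalso
      rw [h, Subgroup.card_top] at hodd
      have h24 : Nat.card (Matrix.SpecialLinearGroup (Fin 2) (ZMod 3)) = 24 :=
        Cfsg.Agent.Lib.Helper9.SLTwoThree.card_SL23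
      rw [h24] at hodd
      norm_num at hodd
    · exfalso
      rw [h, Cfsg.Agent.Lib.Helper9.SLTwoThree.card_center] at hodd
      norm_num at hodd
    · exfalso
      rw [h, Cfsg.Agent.Lib.Helper9.SLTwoThree.card_quat8] at hodd
      norm_num at hodd
  refine ⟨?_, hcore, ?_, ?_⟩
  · rw [Cfsg.Agent.Lib.Helper20.isPConstrained_iff_layer_quotient_eq_bot,
      Cfsg.Agent.Lib.Helper20.layer_eq_bot_iff']
    intro K hK
    have hsol : Group.IsSolvable (Matrix.SpecialLinearGroup (Fin 2) (ZMod 3)) :=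
      Cfsg.Agent.Lib.Helper9.SLTwoThree.isSolvable_SL23
    exact Cfsg.Agent.Lib.Helper20.isQuasisimple_not_isSolvable hK.2 inferInstance
  · intro t ht
    rw [Subgroup.mem_center_iff]
    have h2 : t ^ 2 = 1 := by
      have := pow_orderOf_eq_one t
      rwa [ht] at this
    have h1 : t ≠ 1 := by
      intro h
      rw [h, orderOf_one] at ht
      norm_num at ht
    exact Cfsg.Agent.Lib.Helper9.SLTwoThree.dec_involution_central t h2 h1
  · refine ⟨Subgroup.zpowers Cfsg.Agent.Lib.Helper9.SLTwoThree.matW, ?_, ?_⟩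
    · rw [Nat.card_zpowers, Cfsg.Agent.Lib.Helper9.SLTwoThree.orderOf_matW]
    · rw [hcore]
      intro h
      have := h (Subgroup.mem_zpowers Cfsg.Agent.Lib.Helper9.SLTwoThree.matW)
      rw [Subgroup.mem_bot] at this
      exact Cfsg.Agent.Lib.Helper9.SLTwoThree.matW_ne this

end Cfsg.Agent.S1303
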