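import Cfsg.Statements.S1304
import Mathlib.Tactic.Group
import Mathlib.GroupTheory.Abelianization.Defs

set_option autoImplicit false
open Cfsg

namespace Cfsg.Agent.S1304

open scoped IsMulCommutative in
/-- Let X be a perfect group and α an automorphism of X with α(x) x⁻¹ central for every x. Then α is the identity. -/
theorem result {X : Type*} [Group X] (hperf : commutator X = ⊤) (α : X ≃* X) (h : ∀ x : X, α x * x⁻¹ ∈ Subgroup.center X) : ∀ x : X, α x = x := by
  -- the map x ↦ α x * x⁻¹ is a homomorphism into the centre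
  have hmul : ∀ x y : X, α (x * y) * (x * y)⁻¹ = α x * x⁻¹ * (α y * y⁻¹) := by
    intro x y
    have hy := Subgroup.mem_center_iff.mp (h y)
    rw [map_mul, mul_inv_rev]
    have e1 : α x * α y * (y⁻¹ * x⁻¹) = α x * ((α y * y⁻¹) * x⁻¹) := by group
    have e2 : α x * (x⁻¹ * (α y * y⁻¹)) = α x * x⁻¹ * (α y * y⁻¹) := by group
    rw [e1, ← hy x⁻¹, e2]
  let φ : X →* Subgroup.center X :=
    { toFun := fun x => ⟨α x * x⁻¹, h x⟩
      map_one' := Subtype.ext (by simp)
      map_mul' := fun x y => Subtype.ext (hmul x y) }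
  have h1 : commutator X ≤ φ.ker := Abelianization.commutator_subset_ker φ
  rw [hperf] at h1
  intro x
  have h2 : x ∈ φ.ker := h1 (Subgroup.mem_top x)
  rw [MonoidHom.mem_ker] at h2
  have h3 : α x * x⁻¹ = 1 := congrArg Subtype.val h2
  exact mul_inv_eq_one.mp h3

end Cfsg.Agent.S1304
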