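import Cfsg.Statements.S1306
import Mathlib
import Cfsg.Agent.Lib.Helper20.Fitting
import Cfsg.Agent.Lib.Helper20.Layer

set_option autoImplicit false
open Cfsg

namespace Cfsg.Agent.S1306

open Cfsg.Agent.Lib.Helper20
open scoped commutatorElement

variable {G : Type*} [Group G]

/-- conjugation transport of "component of a subgroup" -/
lemma comp_conj (g : G) (H N : Subgroup G) (h : Cfsg.IsComponent (N.subgroupOf H)) :
    Cfsg.IsComponent ((N.map (MulAut.conj g).toMonoidHom).subgroupOf
      (H.map (MulAut.conj g).toMonoidHom)) := by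
  have h1 := isComponent_map_mulEquiv ((MulAut.conj g).subgroupMap H) (N.subgroupOf H) h
  show Cfsg.IsComponent ((N.map ((MulAut.conj g : G ≃* G) : G →* G)).subgroupOf
      (H.map ((MulAut.conj g : G ≃* G) : G →* G)))
  convert h1 using 1
  ext ⟨z, hz⟩
  constructor
  · intro hz'
    rw [Subgroup.mem_subgroupOf] at hz'
    obtain ⟨n, hn, hnz⟩ := hz'
    obtain ⟨h', hh', hhz⟩ := hz
    have hnz' : (MulAut.conj g) n = z := hnz
    have hhz' : (MulAut.conj g) h' = z := hhz
    have hnh : n = h' := (MulAut.conj g).injective (hnz'.trans hhz'.symm)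
    refine ⟨⟨n, hnh ▸ hh'⟩, ?_, ?_⟩
    · exact hn
    · apply Subtype.ext; exact hnz'
  · rintro ⟨⟨w, hw⟩, hwN, hwz⟩
    have hwN' : w ∈ N := hwN
    rw [Subgroup.mem_subgroupOf]
    have : (MulAut.conj g) w = z := congrArg Subtype.val hwz
    exact ⟨w, hwN', this⟩

lemma centralizer_conj (g y : G) :
    (Subgroup.centralizer ({y} : Set G)).map (MulAut.conj g).toMonoidHom =
      Subgroup.centralizer ({g * y * g⁻¹} : Set G) := by
  ext z
  constructor
  · rintro ⟨c, hc0, rfl⟩
    have hc : c ∈ Subgroup.centralizer ({y} : Set G) := hc0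
    rw [Subgroup.mem_centralizer_singleton_iff] at hc ⊢
    show g * c * g⁻¹ * (g * y * g⁻¹) = g * y * g⁻¹ * (g * c * g⁻¹)
    calc g * c * g⁻¹ * (g * y * g⁻¹) = g * (c * y) * g⁻¹ := by group
      _ = g * (y * c) * g⁻¹ := by rw [hc]
      _ = g * y * g⁻¹ * (g * c * g⁻¹) := by group
  · intro hz
    rw [Subgroup.mem_centralizer_singleton_iff] at hz
    refine ⟨g⁻¹ * z * g, ?_, ?_⟩
    · show g⁻¹ * z * g ∈ Subgroup.centralizer ({y} : Set G)
      rw [Subgroup.mem_centralizer_singleton_iff]
      calc g⁻¹ * z * g * y = g⁻¹ * (z * (g * y * g⁻¹)) * g := by group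
        _ = g⁻¹ * ((g * y * g⁻¹) * z) * g := by rw [hz]
        _ = y * (g⁻¹ * z * g) := by group
    · show g * (g⁻¹ * z * g) * g⁻¹ = z
      group

lemma orderOf_conj_inv {y : G} (g : G) : orderOf (g⁻¹ * y * g) = orderOf y := by
  have h : SemiconjBy g⁻¹ y (g⁻¹ * y * g) := by
    unfold SemiconjBy; group
  exact (h.orderOf_eq).symm

lemma orderOf_conj' {y : G} (g : G) : orderOf (g * y * g⁻¹) = orderOf y := by
  have h : SemiconjBy g y (g * y * g⁻¹) := by
    unfold SemiconjBy; group
  exact (h.orderOf_eq).symm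

lemma core [Finite G] (L : Subgroup G)
    (hne : ∀ y : G, orderOf y = 2 → y ∈ Subgroup.centralizer (L : Set G) →
      L ≤ Subgroup.centralizer ({y} : Set G) ∧
      Cfsg.IsComponent (L.subgroupOf (Subgroup.centralizer ({y} : Set G))))
    (hnc : ∀ g : G, L.map (MulAut.conj g).toMonoidHom ≠ L →
      ⁅L, L.map (MulAut.conj g).toMonoidHom⁆ ≠ ⊥)
    (y g : G) (hy : orderOf y = 2) (hyL : y ∈ Subgroup.centralizer (L : Set G))
    (hyg : g⁻¹ * y * g ∈ Subgroup.centralizer (L : Set G)) :
    L.map (MulAut.conj g).toMonoidHom = L := by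
  by_contra hcon
  apply hnc g hcon
  obtain ⟨hL1, hC1⟩ := hne y hy hyL
  have hy'2 : orderOf (g⁻¹ * y * g) = 2 := by rw [orderOf_conj_inv]; exact hy
  obtain ⟨hL2, hC2⟩ := hne _ hy'2 hyg
  have hgy : g * (g⁻¹ * y * g) * g⁻¹ = y := by group
  have hC3 := comp_conj g _ L hC2
  rw [centralizer_conj, hgy] at hC3
  have hLg : L.map (MulAut.conj g).toMonoidHom ≤ Subgroup.centralizer ({y} : Set G) := by
    have := Subgroup.map_mono (f := (MulAut.conj g).toMonoidHom) hL2
    rw [centralizer_conj, hgy] at this; exact this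
  have hneq : L.subgroupOf (Subgroup.centralizer ({y} : Set G)) ≠
      (L.map (MulAut.conj g).toMonoidHom).subgroupOf (Subgroup.centralizer ({y} : Set G)) := by
    intro heq
    apply hcon
    ext z; constructor
    · intro hz
      have hzC := hLg hz
      have h1 : (⟨z, hzC⟩ : Subgroup.centralizer ({y} : Set G)) ∈
          (L.map (MulAut.conj g).toMonoidHom).subgroupOf (Subgroup.centralizer ({y} : Set G)) := hz
      rw [← heq] at h1; exact h1
    · intro hz
      have hzC := hL1 hz
      have h1 : (⟨z, hzC⟩ : Subgroup.centralizer ({y} : Set G)) ∈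
          L.subgroupOf (Subgroup.centralizer ({y} : Set G)) := hz
      rw [heq] at h1; exact h1
  have hbot := components_commute _ _ hC1 hC3 hneq
  rw [Subgroup.commutator_eq_bot_iff_le_centralizer]
  intro a ha
  rw [Subgroup.mem_centralizer_iff]
  intro b hb
  have := commutes_of_commutator_eq_bot hbot
    (a := (⟨a, hL1 ha⟩ : Subgroup.centralizer ({y} : Set G)))
    (b := (⟨b, hLg hb⟩ : Subgroup.centralizer ({y} : Set G))) ha hb
  exact (congrArg Subtype.val this).symm

lemma mem_normalizer_of_map_eq (L : Subgroup G) (g : G)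
    (h : L.map (MulAut.conj g).toMonoidHom = L) : g ∈ Subgroup.normalizer (L : Set G) := by
  rw [Subgroup.mem_normalizer_iff]
  intro l
  constructor
  · intro hl
    rw [← h]
    exact ⟨l, hl, rfl⟩
  · intro hl
    rw [← h] at hl
    obtain ⟨l', hl', hll⟩ := hl
    have h1 : g * l' * g⁻¹ = g * l * g⁻¹ := hll
    have h2 : l' = l := by
      have := congrArg (fun t => g⁻¹ * t * g) h1
      simpa [mul_assoc] using this
    rw [← h2]; exact hl'

lemma normalizer_le_normalizer_centralizer (L : Subgroup G) (g : G)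
    (hg : g ∈ Subgroup.normalizer (L : Set G)) :
    g ∈ Subgroup.normalizer ((Subgroup.centralizer (L : Set G) : Subgroup G) : Set G) := by
  rw [Subgroup.mem_normalizer_iff] at hg ⊢
  intro k
  constructor
  · intro hk
    rw [Subgroup.mem_centralizer_iff] at hk ⊢
    intro l hl
    have hl' : g⁻¹ * l * g ∈ L := by
      rw [hg (g⁻¹ * l * g)]
      have : g * (g⁻¹ * l * g) * g⁻¹ = l := by group
      rw [this]; exact hl
    have := hk _ hl'
    calc l * (g * k * g⁻¹) = g * ((g⁻¹ * l * g) * k) * g⁻¹ := by group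
      _ = g * (k * (g⁻¹ * l * g)) * g⁻¹ := by rw [this]
      _ = g * k * g⁻¹ * l := by group
  · intro hk
    rw [Subgroup.mem_centralizer_iff] at hk ⊢
    intro l hl
    have hl' : g * l * g⁻¹ ∈ L := (hg l).mp hl
    have := hk _ hl'
    calc l * k = g⁻¹ * ((g * l * g⁻¹) * (g * k * g⁻¹)) * g := by group
      _ = g⁻¹ * ((g * k * g⁻¹) * (g * l * g⁻¹)) * g := by rw [this]
      _ = k * l := by group

end Cfsg.Agent.S1306

namespace Cfsg.Agent.S1306

open Cfsg.Agent.Lib.Helper20
open scoped commutatorElement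

/-- Let G be finite, x an involution and L ≤ C_G(x) a component of C_G(x). Suppose L is a component of C_G(y) for every involution y ∈ C_G(L), and ⁅L, g L g⁻¹⁆ ≠ 1 whenever g L g⁻¹ ≠ L. Then L is a standard subgroup of G. -/
theorem result {G : Type*} [Group G] [Finite G] (x : G) (hx : orderOf x = 2) (L : Subgroup G) (hLx : L ≤ Subgroup.centralizer ({x} : Set G)) (hL : Cfsg.IsComponent (L.subgroupOf (Subgroup.centralizer ({x} : Set G)))) (hne : ∀ y : G, orderOf y = 2 → y ∈ Subgroup.centralizer (L : Set G) → L ≤ Subgroup.centralizer ({y} : Set G) ∧ Cfsg.IsComponent (L.subgroupOf (Subgroup.centralizer ({y} : Set G)))) (hnc : ∀ g : G, L.map (MulAut.conj g).toMonoidHom ≠ L → ⁅L, L.map (MulAut.conj g).toMonoidHom⁆ ≠ ⊥) : Cfsg.IsStandardSubgroup L := by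
  haveI : Fact (Nat.Prime 2) := ⟨Nat.prime_two⟩
  have hxK : x ∈ Subgroup.centralizer (L : Set G) := by
    rw [Subgroup.mem_centralizer_iff]
    intro l hl
    have := hLx hl
    rw [Subgroup.mem_centralizer_singleton_iff] at this
    exact this
  refine ⟨?_, ⟨?_, ?_⟩, hnc, ?_⟩
  · exact isQuasisimple_of_mulEquiv (Subgroup.subgroupOfEquivOfLe hLx) hL.2
  · have h2 : orderOf (⟨x, hxK⟩ : Subgroup.centralizer (L : Set G)) = 2 := by
      rw [← hx]; exact Subgroup.orderOf_mk x hxK
    exact even_iff_two_dvd.mpr (h2 ▸ orderOf_dvd_natCard _)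
  · intro g hg
    by_contra hodd
    have hev := Nat.not_odd_iff_even.mp hodd
    obtain ⟨y, hy⟩ := exists_prime_orderOf_dvd_card'
      (G := ↥(Subgroup.centralizer (L : Set G) ⊓
        (Subgroup.centralizer (L : Set G)).map (MulAut.conj g).toMonoidHom)) 2
      (even_iff_two_dvd.mp hev)
    have hy2 : orderOf (y : G) = 2 := by rw [Subgroup.orderOf_coe]; exact hy
    have hyK : (y : G) ∈ Subgroup.centralizer (L : Set G) := y.2.1
    obtain ⟨k, hk, hky⟩ := y.2.2
    have hky' : g * k * g⁻¹ = (y : G) := hky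
    have hyg : g⁻¹ * (y : G) * g ∈ Subgroup.centralizer (L : Set G) := by
      rw [← hky']
      have : g⁻¹ * (g * k * g⁻¹) * g = k := by group
      rw [this]; exact hk
    have h1 := core L hne hnc (y : G) g hy2 hyK hyg
    exact hg (normalizer_le_normalizer_centralizer L g (mem_normalizer_of_map_eq L g h1))
  · apply le_antisymm
    · intro g hg; exact normalizer_le_normalizer_centralizer L g hg
    · intro g hg
      have hy : g * x * g⁻¹ ∈ Subgroup.centralizer (L : Set G) :=
        (Subgroup.mem_normalizer_iff.mp hg x).mp hxK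
      have h1 : g⁻¹ * (g * x * g⁻¹) * g = x := by group
      have h2 : orderOf (g * x * g⁻¹) = 2 := by rw [orderOf_conj']; exact hx
      exact mem_normalizer_of_map_eq L g
        (core L hne hnc (g * x * g⁻¹) g h2 hy (by rw [h1]; exact hxK))

end Cfsg.Agent.S1306
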