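import Mathlib
import Cfsg.Statements.S1331
import Cfsg.Agent.S1324

set_option autoImplicit false
open Cfsg

namespace Cfsg.Agent.S1331

/-- Let θ be a solvable A-signalizer functor on the finite group G for the prime p, A elementary abelian of rank at least 3, X a member of the family of θ, and B ≤ A with |B| ≥ p². Then X is generated by the subgroups X ∩ ⋂_{d ∈ D, d ≠ 1} θ d, D ranging over the subgroups of index p in B. -/
theorem result {G : Type*} [Group G] [Finite G] (p : ℕ) [Fact p.Prime] (A : Subgroup G) (hA : Cfsg.IsElementaryAbelian p A) (hA3 : p ^ 3 ≤ Nat.card ↥A) (θ : G → Subgroup G) (hθ : Cfsg.IsSolvableSignalizerFunctor p A θ) (X : Subgroup G) (hX : X ∈ Cfsg.signalizerFamily p A θ) (B : Subgroup G) (hB : B ≤ A) (hB2 : p ^ 2 ≤ Nat.card ↥B) : X = ⨆ D : {D : Subgroup G // D ≤ B ∧ D.relIndex B = p}, X ⊓ Cfsg.signalizerInf (D : Subgroup G) θ := by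
  have hp : p.Prime := Fact.out
  obtain ⟨hXs, hXp, hXA, hXθ⟩ := hX
  apply le_antisymm
  · have hBc : IsMulCommutative B := by
      rw [isMulCommutative_iff]
      rintro ⟨a, ha⟩ ⟨c, hc⟩
      haveI := hA.1
      have := mul_comm' (⟨a, hB ha⟩ : A) ⟨c, hB hc⟩
      have h2 : a * c = c * a := congrArg Subtype.val this
      exact Subtype.ext h2
    have hBe : ∀ a ∈ B, a ^ p = 1 := fun a ha => hA.2 a (hB ha)
    have hBX : B ≤ Subgroup.normalizer (X : Set G) := by
      intro b hb
      apply Subgroup.mem_normalizer_fintype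
      intro u hu
      exact hXA b (hB hb) u hu
    have hcop : (Nat.card X).Coprime p := by
      rw [Nat.coprime_comm, Nat.Prime.coprime_iff_not_dvd hp]; exact hXp
    have hgen := Cfsg.Agent.S1324.main p _ B X rfl hBc hBe hB2 hcop hBX
    refine hgen.trans ?_
    apply iSup_le
    rintro ⟨D', hD'B, hD'rel⟩
    -- the key inclusion for hyperplanes
    have key : ∀ D : Subgroup G, D ≤ B →
        X ⊓ Subgroup.centralizer ((D : Subgroup G) : Set G) ≤ X ⊓ Cfsg.signalizerInf D θ := by
      intro D hDB
      refine le_inf inf_le_left ?_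
      unfold Cfsg.signalizerInf
      apply le_iInf
      rintro ⟨d, hdD, hd1⟩
      refine le_trans ?_ (hXθ d (hB (hDB hdD)) hd1)
      exact inf_le_inf_left _ (Subgroup.centralizer_le (Set.singleton_subset_iff.mpr hdD))
    have hBp : IsPGroup p B := by
      rintro ⟨a, ha⟩
      refine ⟨1, Subtype.ext ?_⟩
      simpa using hBe a ha
    have hmul := Cfsg.Agent.S1324.relIndex_mul_card hD'B
    obtain ⟨k, hk⟩ := IsPGroup.iff_card.mp hBp
    have hdvd : D'.relIndex B ∣ p ^ k := by rw [← hk, ← hmul]; exact dvd_mul_left _ _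
    obtain ⟨j, hjk, hj⟩ := (Nat.dvd_prime_pow hp).mp hdvd
    have hj1 : j ≤ 1 := by
      by_contra hj1
      push Not at hj1
      have : p ^ 2 ≤ p ^ j := Nat.pow_le_pow_right hp.pos hj1
      have hlt : p < p ^ 2 := by
        have := hp.one_lt
        nlinarith
      rw [hj] at hD'rel
      omega
    rcases Nat.le_one_iff_eq_zero_or_eq_one.mp hj1 with h0 | h1
    · -- D' = B; pick any hyperplane below
      rw [h0, pow_zero] at hj
      have hBD' : B ≤ D' := Subgroup.relIndex_eq_one.mp hj
      -- a nontrivial element of B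
      have hBne : B ≠ ⊥ := by
        intro h
        rw [h, Subgroup.card_bot] at hB2
        have : 1 < p ^ 2 := Nat.one_lt_pow (by norm_num) hp.one_lt
        omega
      obtain ⟨b, hb1⟩ := (Subgroup.ne_bot_iff_exists_ne_one).mp hBne
      letI : CommGroup B :=
        { (inferInstance : Group B) with mul_comm := fun a c => mul_comm' a c }
      obtain ⟨E', -, hE'i⟩ := Cfsg.Agent.S1324.exists_hyperplane_not_mem (E := B) (p := p)
        (fun a => Subtype.ext (by simpa using hBe a a.2)) b hb1
      set D : Subgroup G := E'.map B.subtype with hD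
      have hDB : D ≤ B := Subgroup.map_subtype_le _
      have hDcard : Nat.card D = Nat.card E' := Subgroup.card_map_of_injective B.subtype_injective
      have hDrel : D.relIndex B = p := by
        have h1 := Cfsg.Agent.S1324.relIndex_mul_card hDB
        have h2 := Subgroup.card_mul_index E'
        rw [hE'i] at h2
        rw [hDcard, ← h2] at h1
        exact Nat.eq_of_mul_eq_mul_left Nat.card_pos h1
      refine le_trans ?_ (le_iSup_of_le ⟨D, hDB, hDrel⟩ (key D hDB))
      exact inf_le_inf_left _ (Subgroup.centralizer_le (hDB.trans hBD'))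
    · rw [h1, pow_one] at hj
      exact le_iSup_of_le ⟨D', hD'B, hj⟩ (key D' hD'B)
  · exact iSup_le (fun D => inf_le_left)

end Cfsg.Agent.S1331
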