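import Mathlib
import Cfsg.Statements.S1335
import Cfsg.Agent.S3981

set_option autoImplicit false
open Cfsg

namespace Cfsg.Agent.S1335

/-- `PRankLE` is invariant under isomorphism. -/
theorem pRankLE_of_mulEquiv {G G' : Type*} [Group G] [Group G'] (p k : ℕ) (e : G ≃* G')
    (h : Cfsg.PRankLE p k G) : Cfsg.PRankLE p k G' := by
  intro A' hA'c hA'e
  have := h (A'.map e.symm.toMonoidHom) (by
    rw [isMulCommutative_iff] at hA'c ⊢
    rintro ⟨_, ⟨a, ha, rfl⟩⟩ ⟨_, ⟨b, hb, rfl⟩⟩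
    have := hA'c ⟨a, ha⟩ ⟨b, hb⟩
    apply Subtype.ext
    have h2 : a * b = b * a := congrArg Subtype.val this
    simp only [MulEquiv.coe_toMonoidHom, Subgroup.coe_mul]
    rw [← map_mul, ← map_mul, h2]) (by
    rintro _ ⟨a, ha, rfl⟩
    simp only [MulEquiv.coe_toMonoidHom]
    rw [← map_pow, hA'e a ha, map_one])
  rwa [Subgroup.card_map_of_injective e.symm.injective] at this

/-- Let H be a subgroup of the finite group G, p a prime, k ≥ 1, P a Sylow p-subgroup of H of p-rank at least k, and suppose N_G(X) ≤ H for every subgroup X ≤ P of p-rank at least k. Then P is a Sylow p-subgroup of G. -/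
theorem result {G : Type*} [Group G] [Finite G] {p : ℕ} [Fact p.Prime] (k : ℕ) (hk : 1 ≤ k) (H : Subgroup G) (P : Sylow p ↥H) (hP : ¬ Cfsg.PRankLE p (k - 1) ↥(P : Subgroup ↥H)) (hΓ : (∀ X : Subgroup G, X ≤ (P : Subgroup ↥H).map H.subtype → ¬ Cfsg.PRankLE p (k - 1) ↥X → Subgroup.normalizer (X : Set G) ≤ H)) : ∃ Q : Sylow p G, (Q : Subgroup G) = (P : Subgroup ↥H).map H.subtype := by
  set P' : Subgroup G := (P : Subgroup ↥H).map H.subtype with hP'
  have hP'p : IsPGroup p P' := P.2.map _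
  have hP'H : P' ≤ H := Subgroup.map_subtype_le _
  have hrank : ¬ Cfsg.PRankLE p (k - 1) ↥P' := by
    intro h
    apply hP
    exact pRankLE_of_mulEquiv p (k - 1)
      ((P : Subgroup ↥H).equivMapOfInjective H.subtype H.subtype_injective).symm h
  have hN : Subgroup.normalizer (P' : Set G) ≤ H := hΓ P' le_rfl hrank
  obtain ⟨Q, hQ⟩ := hP'p.exists_le_sylow
  refine ⟨Q, ?_⟩
  by_contra hne
  have hne' : P' ≠ (Q : Subgroup G) := fun h => hne h.symm
  have hgrow := Cfsg.Agent.S3981.ne_inf_normalizer P' (Q : Subgroup G) Q.2 hQ hne'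
  apply hgrow
  -- R = Q ⊓ N(P') is a p-subgroup of H containing P'
  set R : Subgroup G := (Q : Subgroup G) ⊓ Subgroup.normalizer (P' : Set G) with hR
  have hRH : R ≤ H := inf_le_right.trans hN
  have hRp : IsPGroup p (R.subgroupOf H) :=
    (Q.2.to_le inf_le_left).comap_of_injective H.subtype H.subtype_injective
  have hle : (P : Subgroup ↥H) ≤ R.subgroupOf H := by
    intro x hx
    rw [Subgroup.mem_subgroupOf]
    have hx' : (x : G) ∈ P' := ⟨x, hx, rfl⟩
    exact ⟨hQ hx', Subgroup.le_normalizer hx'⟩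
  have hEq : R.subgroupOf H = (P : Subgroup ↥H) := P.3 hRp hle
  apply le_antisymm (le_inf hQ Subgroup.le_normalizer)
  intro r hr
  have : (⟨r, hRH hr⟩ : H) ∈ R.subgroupOf H := by rw [Subgroup.mem_subgroupOf]; exact hr
  rw [hEq] at this
  exact ⟨⟨r, hRH hr⟩, this, rfl⟩

end Cfsg.Agent.S1335
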