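import Cfsg.Statements.S1336
import Cfsg.Agent.Lib.Helper12.StronglyEmbedded

set_option autoImplicit false
open Cfsg

namespace Cfsg.Agent.S1336

open Subgroup Cfsg.Agent.Lib.Helper12 Relation

section Aux

variable {G : Type*} [Group G]

/-- the edge relation of the commuting graph -/
def Rel (p : ℕ) (A B : Subgroup G) : Prop :=
  Cfsg.IsElementaryAbelian p A ∧ p ^ 1 ≤ Nat.card ↥A ∧ Cfsg.IsElementaryAbelian p B ∧
    p ^ 1 ≤ Nat.card ↥B ∧ ∀ a ∈ A, ∀ b ∈ B, a * b = b * a

theorem ea_comm {p : ℕ} {A : Subgroup G} (h : Cfsg.IsElementaryAbelian p A) {a b : G} (ha : a ∈ A)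
    (hb : b ∈ A) : a * b = b * a := by
  haveI := h.1
  have := mul_comm' (⟨a, ha⟩ : A) ⟨b, hb⟩
  exact congrArg Subtype.val this

theorem ea_of {p : ℕ} {A : Subgroup G} (hc : ∀ a ∈ A, ∀ b ∈ A, a * b = b * a)
    (hp : ∀ a ∈ A, a ^ p = 1) : Cfsg.IsElementaryAbelian p A :=
  ⟨⟨⟨fun a b => Subtype.ext (hc a a.2 b b.2)⟩⟩, hp⟩

theorem ea_conj {p : ℕ} (g : G) {A : Subgroup G} (h : Cfsg.IsElementaryAbelian p A) :
    Cfsg.IsElementaryAbelian p (conjSub g A) := by
  apply ea_of
  · intro x hx y hy
    rw [mem_conjSub_iff] at hx hy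
    have := ea_comm h hx hy
    have e1 : x * y = g * ((g⁻¹ * x * g) * (g⁻¹ * y * g)) * g⁻¹ := by group
    have e2 : y * x = g * ((g⁻¹ * y * g) * (g⁻¹ * x * g)) * g⁻¹ := by group
    rw [e1, e2, this]
  · intro x hx
    rw [mem_conjSub_iff] at hx
    have := h.2 _ hx
    have e : g⁻¹ * x * g = g⁻¹ * x * g⁻¹⁻¹ := by rw [inv_inv]
    rw [e, conj_pow] at this
    have e2 : x ^ p = g * (g⁻¹ * x ^ p * g⁻¹⁻¹) * g⁻¹ := by group
    rw [e2, this]; group

theorem card_conjSub (g : G) (A : Subgroup G) : Nat.card (conjSub g A) = Nat.card A :=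
  Subgroup.card_map_of_injective (MulAut.conj g).injective

theorem rel_symm {p : ℕ} {A B : Subgroup G} (h : Rel p A B) : Rel p B A :=
  ⟨h.2.2.1, h.2.2.2.1, h.1, h.2.1, fun b hb a ha => (h.2.2.2.2 a ha b hb).symm⟩

theorem rel_conj {p : ℕ} (g : G) {A B : Subgroup G} (h : Rel p A B) :
    Rel p (conjSub g A) (conjSub g B) := by
  refine ⟨ea_conj g h.1, by rw [card_conjSub]; exact h.2.1, ea_conj g h.2.2.1,
    by rw [card_conjSub]; exact h.2.2.2.1, ?_⟩
  intro x hx y hy
  rw [mem_conjSub_iff] at hx hy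
  have := h.2.2.2.2 _ hx _ hy
  have e1 : x * y = g * ((g⁻¹ * x * g) * (g⁻¹ * y * g)) * g⁻¹ := by group
  have e2 : y * x = g * ((g⁻¹ * y * g) * (g⁻¹ * x * g)) * g⁻¹ := by group
  rw [e1, e2, this]

theorem conn_symm {p : ℕ} {A B : Subgroup G} (h : ReflTransGen (Rel p) A B) :
    ReflTransGen (Rel p) B A := by
  induction h with
  | refl => exact ReflTransGen.refl
  | tail _ hbc ih => exact ReflTransGen.head (rel_symm hbc) ih

theorem conn_conj {p : ℕ} (g : G) {A B : Subgroup G} (h : ReflTransGen (Rel p) A B) :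
    ReflTransGen (Rel p) (conjSub g A) (conjSub g B) := by
  induction h with
  | refl => exact ReflTransGen.refl
  | tail _ hbc ih => exact ReflTransGen.tail ih (rel_conj g hbc)

theorem conjSub_mul (g h : G) (A : Subgroup G) : conjSub (g * h) A = conjSub g (conjSub h A) := by
  ext x
  rw [mem_conjSub_iff, mem_conjSub_iff, mem_conjSub_iff]
  have : (g * h)⁻¹ * x * (g * h) = h⁻¹ * (g⁻¹ * x * g) * h := by group
  rw [this]

theorem conjSub_one (A : Subgroup G) : conjSub 1 A = A := by
  ext x
  rw [mem_conjSub_iff]; simp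

theorem isPGroup_of_ea {p : ℕ} {A : Subgroup G} (h : Cfsg.IsElementaryAbelian p A) :
    IsPGroup p A := by
  intro a
  refine ⟨1, ?_⟩
  apply Subtype.ext
  rw [pow_one]
  simpa using h.2 a a.2

/-- two vertices inside a common `p`-subgroup are connected -/
theorem conn_of_le [Finite G] {p : ℕ} [Fact p.Prime] {S A B : Subgroup G} (hS : IsPGroup p S)
    (hA : Cfsg.IsElementaryAbelian p A) (hA1 : p ^ 1 ≤ Nat.card ↥A) (hAS : A ≤ S)
    (hB : Cfsg.IsElementaryAbelian p B) (hB1 : p ^ 1 ≤ Nat.card ↥B) (hBS : B ≤ S) :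
    ReflTransGen (Rel p) A B := by
  classical
  have hp : p.Prime := Fact.out
  haveI : Nontrivial ↥S := by
    rw [Subgroup.nontrivial_iff_ne_bot]
    rintro rfl
    have : A = ⊥ := le_bot_iff.1 hAS
    rw [this, Subgroup.card_bot, pow_one] at hA1
    exact absurd hA1 (not_le.2 hp.one_lt)
  haveI := hS.center_nontrivial
  have hcp : IsPGroup p (center ↥S) := hS.to_subgroup _
  obtain ⟨k, hk⟩ := IsPGroup.iff_card.mp hcp
  have hk0 : k ≠ 0 := by
    rintro rfl
    rw [pow_zero] at hk
    have := (Subgroup.card_eq_one (H := center ↥S)).1 hk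
    exact (Subgroup.nontrivial_iff_ne_bot _).1 inferInstance this
  have hdvd : p ∣ Nat.card ↥(center ↥S) := by rw [hk]; exact dvd_pow_self p hk0
  obtain ⟨z, hz⟩ := exists_prime_orderOf_dvd_card' p hdvd
  have hzo : orderOf ((z : ↥S) : G) = p := by
    rw [Subgroup.orderOf_coe, Subgroup.orderOf_coe, hz]
  have hzc : ∀ s ∈ S, s * ((z : ↥S) : G) = ((z : ↥S) : G) * s := by
    intro s hs
    have := (mem_center_iff.1 z.2) ⟨s, hs⟩
    exact congrArg Subtype.val this
  have hZ : Cfsg.IsElementaryAbelian p (zpowers ((z : ↥S) : G)) := by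
    apply ea_of
    · intro a ha b hb
      rw [mem_zpowers_iff] at ha hb
      obtain ⟨m, rfl⟩ := ha
      obtain ⟨n, rfl⟩ := hb
      rw [← zpow_add, ← zpow_add, add_comm]
    · intro a ha
      rw [mem_zpowers_iff] at ha
      obtain ⟨m, rfl⟩ := ha
      rw [← zpow_natCast, ← zpow_mul, mul_comm, zpow_mul, zpow_natCast, ← hzo, pow_orderOf_eq_one,
        one_zpow]
  have hZ1 : p ^ 1 ≤ Nat.card ↥(zpowers ((z : ↥S) : G)) := by
    rw [Nat.card_zpowers, hzo, pow_one]
  have hcomm : ∀ s ∈ S, ∀ b ∈ zpowers ((z : ↥S) : G), s * b = b * s := by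
    intro s hs b hb
    rw [mem_zpowers_iff] at hb
    obtain ⟨m, rfl⟩ := hb
    exact ((Commute.zpow_right (hzc s hs) m)).eq
  have h1 : Rel p A (zpowers ((z : ↥S) : G)) :=
    ⟨hA, hA1, hZ, hZ1, fun a ha b hb => hcomm a (hAS ha) b hb⟩
  have h2 : Rel p (zpowers ((z : ↥S) : G)) B :=
    ⟨hZ, hZ1, hB, hB1, fun b hb a ha => (hcomm a (hBS ha) b hb).symm⟩
  exact ReflTransGen.tail (ReflTransGen.single h1) h2

end Aux

/-- Let G be finite and p prime. Then G has a proper subgroup H with p ∣ |H| and p ∤ |H ∩ gHg⁻¹| for every g ∉ H (a strongly p-embedded subgroup) if and only if G is not 1-connected for p. -/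
theorem result {G : Type*} [Group G] [Finite G] (p : ℕ) [Fact p.Prime] : (∃ H : Subgroup G, H ≠ ⊤ ∧ p ∣ Nat.card ↥H ∧ ∀ g : G, g ∉ H → ¬ p ∣ Nat.card ↥(H ⊓ H.map (MulAut.conj g).toMonoidHom)) ↔ ¬ Cfsg.IsKConnected p 1 G := by
  classical
  have hp : p.Prime := Fact.out
  constructor
  · rintro ⟨H, hHtop, hdvd, hH⟩ hconn
    have hN : NormalizersIn p H := normalizersIn_of_classical hH
    obtain ⟨x, hx⟩ := exists_prime_orderOf_dvd_card' (G := ↥H) p hdvd
    have hxo : orderOf (x : G) = p := by rw [Subgroup.orderOf_coe, hx]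
    have hx1 : (x : G) ≠ 1 := by
      intro h
      rw [h, orderOf_one] at hxo
      exact hp.one_lt.ne hxo
    obtain ⟨g, hg⟩ : ∃ g : G, g ∉ H := by
      by_contra h
      push_neg at h
      exact hHtop (eq_top_iff.2 (fun x _ => h x))
    have hE : Cfsg.IsElementaryAbelian p (zpowers (x : G)) := by
      apply ea_of
      · intro a ha b hb
        rw [mem_zpowers_iff] at ha hb
        obtain ⟨m, rfl⟩ := ha
        obtain ⟨n, rfl⟩ := hb
        rw [← zpow_add, ← zpow_add, add_comm]
      · intro a ha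
        rw [mem_zpowers_iff] at ha
        obtain ⟨m, rfl⟩ := ha
        have h1 : (x : G) ^ p = 1 := by
          have := pow_orderOf_eq_one (x : G)
          rwa [hxo] at this
        rw [← zpow_natCast, ← zpow_mul, mul_comm, zpow_mul, zpow_natCast, h1, one_zpow]
    have hE1 : p ^ 1 ≤ Nat.card ↥(zpowers (x : G)) := by
      rw [Nat.card_zpowers, hxo, pow_one]
    have hEH : zpowers (x : G) ≤ H := by rw [zpowers_le]; exact x.2
    have hchain := hconn (zpowers (x : G)) (conjSub g (zpowers (x : G))) hE hE1 (ea_conj g hE)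
      (by rw [card_conjSub]; exact hE1)
    -- every vertex connected to `E` lies in `H`
    have key : ∀ B : Subgroup G, ReflTransGen (Rel p) (zpowers (x : G)) B → B ≤ H := by
      intro B hB
      induction hB with
      | refl => exact hEH
      | @tail C D _ hbc ih =>
        intro d hd
        have hC1 : C ≠ ⊥ := by
          rintro rfl
          have := hbc.2.1
          rw [Subgroup.card_bot, pow_one] at this
          exact absurd this (not_le.2 hp.one_lt)
        apply hN C ih (isPGroup_of_ea hbc.1) hC1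
        apply centralizer_le_normalizer
        rw [mem_centralizer_iff]
        intro c hc
        exact hbc.2.2.2.2 c hc d hd
    have hle := key _ hchain
    have hgx : g * (x : G) * g⁻¹ ∈ H := hle (conj_mem_conjSub g _ (mem_zpowers _))
    apply hg
    have hxp : ∃ k : ℕ, (x : G) ^ p ^ k = 1 := ⟨1, by
      have := pow_orderOf_eq_one (x : G)
      rwa [hxo, ← pow_one p] at this⟩
    have := mem_of_normalizersIn_of_conj_mem hN g⁻¹ (x : G) x.2 hx1 hxp (by simpa using hgx)
    simpa using this
  · intro hnc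
    unfold Cfsg.IsKConnected at hnc
    push_neg at hnc
    obtain ⟨E, E', hE, hE1, hE', hE'1, hnot⟩ := hnc
    have hnot' : ¬ ReflTransGen (Rel p) E E' := hnot
    -- the stabilizer of the component of `E`
    let H : Subgroup G :=
      { carrier := {g | ReflTransGen (Rel p) E (conjSub g E)}
        one_mem' := by
          show ReflTransGen (Rel p) E (conjSub 1 E)
          rw [conjSub_one]
        mul_mem' := by
          intro a b ha hb
          show ReflTransGen (Rel p) E (conjSub (a * b) E)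
          rw [conjSub_mul]
          exact ReflTransGen.trans ha (conn_conj a hb)
        inv_mem' := by
          intro a ha
          show ReflTransGen (Rel p) E (conjSub a⁻¹ E)
          have := conn_conj a⁻¹ (conn_symm ha)
          rwa [conjSub_inv_conjSub] at this }
    have hmemH : ∀ g : G, g ∈ H ↔ ReflTransGen (Rel p) E (conjSub g E) := fun g => Iff.rfl
    obtain ⟨S, hES⟩ := (isPGroup_of_ea hE).exists_le_sylow
    have hSH : (S : Subgroup G) ≤ H := by
      intro s hs
      rw [hmemH]
      have hle : conjSub s E ≤ (S : Subgroup G) := by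
        intro y hy
        rw [mem_conjSub_iff] at hy
        have := (S : Subgroup G).mul_mem ((S : Subgroup G).mul_mem hs (hES hy))
          ((S : Subgroup G).inv_mem hs)
        have e : s * (s⁻¹ * y * s) * s⁻¹ = y := by group
        rwa [e] at this
      exact conn_of_le S.2 hE hE1 hES (ea_conj s hE) (by rw [card_conjSub]; exact hE1) hle
    -- every vertex inside `H` is connected to `E`
    have hvert : ∀ D : Subgroup G, Cfsg.IsElementaryAbelian p D → p ^ 1 ≤ Nat.card ↥D → D ≤ H →
        ReflTransGen (Rel p) E D := by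
      intro D hD hD1 hDH
      obtain ⟨y, hyH, hyD⟩ := exists_conj_le_sylow_of_le S H hSH D hDH (isPGroup_of_ea hD)
      have h1 : ReflTransGen (Rel p) E (conjSub y D) :=
        conn_of_le S.2 hE hE1 hES (ea_conj y hD) (by rw [card_conjSub]; exact hD1) hyD
      have h2 := conn_conj y⁻¹ h1
      rw [conjSub_inv_conjSub] at h2
      have h3 : ReflTransGen (Rel p) E (conjSub y⁻¹ E) := (hmemH _).1 (H.inv_mem hyH)
      exact ReflTransGen.trans h3 h2
    refine ⟨H, ?_, ?_, ?_⟩
    · intro htop
      apply hnot'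
      apply hvert E' hE' hE'1
      rw [htop]; exact le_top
    · have hEH : E ≤ H := hES.trans hSH
      have h1 : p ∣ Nat.card ↥E := by
        obtain ⟨k, hk⟩ := IsPGroup.iff_card.mp (isPGroup_of_ea hE)
        have hk0 : k ≠ 0 := by
          rintro rfl
          rw [hk, pow_zero, pow_one] at hE1
          exact absurd hE1 (not_le.2 hp.one_lt)
        rw [hk]; exact dvd_pow_self p hk0
      exact h1.trans (Subgroup.card_dvd_of_le hEH)
    · intro g hg hdvd
      apply hg
      obtain ⟨x, hx⟩ := exists_prime_orderOf_dvd_card'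
        (G := ↥(H ⊓ H.map (MulAut.conj g).toMonoidHom)) p hdvd
      have hxo : orderOf (x : G) = p := by rw [Subgroup.orderOf_coe, hx]
      have hxH : (x : G) ∈ H := x.2.1
      have hxg : g⁻¹ * (x : G) * g ∈ H := (mem_conjSub_iff g H _).mp x.2.2
      have hD : Cfsg.IsElementaryAbelian p (zpowers (x : G)) := by
        apply ea_of
        · intro a ha b hb
          rw [mem_zpowers_iff] at ha hb
          obtain ⟨m, rfl⟩ := ha
          obtain ⟨n, rfl⟩ := hb
          rw [← zpow_add, ← zpow_add, add_comm]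
        · intro a ha
          rw [mem_zpowers_iff] at ha
          obtain ⟨m, rfl⟩ := ha
          have h1 : (x : G) ^ p = 1 := by
            have := pow_orderOf_eq_one (x : G)
            rwa [hxo] at this
          rw [← zpow_natCast, ← zpow_mul, mul_comm, zpow_mul, zpow_natCast, h1, one_zpow]
      have hD1 : p ^ 1 ≤ Nat.card ↥(zpowers (x : G)) := by
        rw [Nat.card_zpowers, hxo, pow_one]
      have hDH : zpowers (x : G) ≤ H := by rw [zpowers_le]; exact hxH
      have hDgH : conjSub g⁻¹ (zpowers (x : G)) ≤ H := by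
        intro y hy
        rw [mem_conjSub_iff, inv_inv] at hy
        rw [mem_zpowers_iff] at hy
        obtain ⟨m, hm⟩ := hy
        have e : y = (g⁻¹ * (x : G) * g) ^ m := by
          have e1 : g⁻¹ * (x : G) * g = g⁻¹ * (x : G) * g⁻¹⁻¹ := by rw [inv_inv]
          rw [e1, conj_zpow, hm]; group
        rw [e]
        exact H.zpow_mem hxg m
      have c1 := hvert _ hD hD1 hDH
      have c2 := hvert _ (ea_conj g⁻¹ hD) (by rw [card_conjSub]; exact hD1) hDgH
      -- E ~ D, E ~ D^{g⁻¹}; conjugate the second by g: E^g ~ D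
      have c3 := conn_conj g c2
      rw [conjSub_conjSub_inv] at c3
      rw [hmemH]
      exact ReflTransGen.trans c1 (conn_symm c3)

end Cfsg.Agent.S1336
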