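import Cfsg.Statements.S1337
import Mathlib
import Cfsg.Agent.Lib.Lead.NormalAbelianCyclic
import Cfsg.Agent.Lib.Lead.MaxNormalAbelian
import Cfsg.Agent.Lib.Lead.NormalChain
import Cfsg.Agent.Lib.Lead.UniqueOrderP

set_option autoImplicit false
open Cfsg

namespace Cfsg.Agent.S1337

universe u

theorem card_le_card_inf_mul_index {G : Type*} [Group G] [Finite G] (A C : Subgroup G) :
    Nat.card A ≤ Nat.card ↥(C ⊓ A) * C.index := by
  have h1 : Nat.card (C.subgroupOf A) = Nat.card ↥(C ⊓ A) := by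
    rw [← Subgroup.subgroupOf_map_subtype, Subgroup.card_map_of_injective A.subtype_injective]
  have h2 := Subgroup.card_mul_index (C.subgroupOf A)
  have h3 : (C.subgroupOf A).index ≤ C.index := by
    have := Subgroup.relIndex_le_of_le_right (H := C) (K := A) (L := ⊤) le_top (by
      rw [Subgroup.relIndex_top_right]; exact Subgroup.index_ne_zero_of_finite)
    rwa [Subgroup.relIndex_top_right] at this
  rw [← h2, h1]
  exact Nat.mul_le_mul_left _ h3

theorem isEA_mono {G : Type*} [Group G] {p : ℕ} {A B : Subgroup G} (hAB : A ≤ B)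
    (hB : IsElementaryAbelian p B) : IsElementaryAbelian p A := by
  refine ⟨IsMulCommutative.of_setLike_mul_comm ?_, fun a ha => hB.2 a (hAB ha)⟩
  intro a ha b hb
  haveI := hB.1
  exact Subgroup.mul_comm_of_mem_isMulCommutative B (hAB ha) (hAB hb)

theorem isEA_comm {G : Type*} [Group G] {p : ℕ} {A : Subgroup G} (hA : IsElementaryAbelian p A)
    {a b : G} (ha : a ∈ A) (hb : b ∈ A) : a * b = b * a := by
  haveI := hA.1
  exact Subgroup.mul_comm_of_mem_isMulCommutative A ha hb

theorem isEA_sup {G : Type*} [Group G] {p : ℕ} {A B : Subgroup G} (hA : IsElementaryAbelian p A)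
    (hB : IsElementaryAbelian p B) (hcomm : ∀ a ∈ A, ∀ b ∈ B, a * b = b * a) :
    IsElementaryAbelian p (A ⊔ B) := by
  have hsup : A ⊔ B = Subgroup.closure ((A : Set G) ∪ B) := by
    rw [Subgroup.closure_union, Subgroup.closure_eq, Subgroup.closure_eq]
  have hc : IsMulCommutative ↥(Subgroup.closure ((A : Set G) ∪ B)) := by
    apply Subgroup.isMulCommutative_closure
    rintro x (hx | hx) y (hy | hy)
    · exact isEA_comm hA hx hy
    · exact hcomm x hx y hy
    · exact (hcomm y hy x hx).symm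
    · exact isEA_comm hB hx hy
  rw [hsup]
  refine ⟨hc, ?_⟩
  intro x hx
  induction hx using Subgroup.closure_induction with
  | mem x hx =>
    rcases hx with hx | hx
    · exact hA.2 x hx
    · exact hB.2 x hx
  | one => exact one_pow p
  | mul x y hx hy hx1 hy1 =>
    have : x * y = y * x := Subgroup.mul_comm_of_mem_isMulCommutative _ hx hy
    rw [(show Commute x y from this).mul_pow, hx1, hy1, mul_one]
  | inv x _ hx1 => rw [inv_pow, hx1, inv_one]

theorem not_prankLE_of_le {G : Type*} [Group G] {p : ℕ} (C E : Subgroup G) (hEC : E ≤ C)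
    (hE : IsElementaryAbelian p E) (hcard : p ^ 2 < Nat.card E) : ¬ PRankLE p 2 ↥C := by
  intro h
  have h1 := h (E.subgroupOf C) (by
    refine IsMulCommutative.of_setLike_mul_comm ?_
    intro a ha b hb
    apply Subtype.ext
    exact isEA_comm hE (Subgroup.mem_subgroupOf.mp ha) (Subgroup.mem_subgroupOf.mp hb)) (by
    intro a ha
    apply Subtype.ext
    have := hE.2 (a : G) (Subgroup.mem_subgroupOf.mp ha)
    simpa using this)
  have h2 : Nat.card (E.subgroupOf C) = Nat.card E := by
    rw [← Subgroup.card_map_of_injective C.subtype_injective, Subgroup.subgroupOf_map_subtype,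
      inf_eq_left.mpr hEC]
  omega

theorem exists_of_not_prankLE {G : Type*} [Group G] {p : ℕ} (C : Subgroup G)
    (h : ¬ PRankLE p 2 ↥C) :
    ∃ E : Subgroup G, E ≤ C ∧ IsElementaryAbelian p E ∧ p ^ 2 < Nat.card E := by
  unfold PRankLE at h
  push Not at h
  obtain ⟨A, hAc, hAe, hAcard⟩ := h
  refine ⟨A.map C.subtype, ?_, ⟨?_, ?_⟩, ?_⟩
  · rintro _ ⟨a, -, rfl⟩
    exact a.2
  · refine IsMulCommutative.of_setLike_mul_comm ?_
    rintro _ ⟨a, ha, rfl⟩ _ ⟨b, hb, rfl⟩
    have h1 : a * b = b * a := Subgroup.mul_comm_of_mem_isMulCommutative A ha hb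
    exact congrArg (fun w : ↥C => (w : G)) h1
  · rintro _ ⟨a, ha, rfl⟩
    have := hAe a ha
    rw [← map_pow, this, map_one]
  · rw [Subgroup.card_map_of_injective C.subtype_injective]
    exact hAcard


theorem exists_normal_EA {P : Type u} [Group P] [Finite P] (p : ℕ) [hp : Fact p.Prime]
    (hP : IsPGroup p P) (hrk : ¬ PRankLE p 2 P) :
    ∃ U : Subgroup P, U.Normal ∧ IsElementaryAbelian p U ∧ Nat.card U = p ^ 2 := by
  classical
  by_contra hno
  push Not at hno
  have hn : ∀ A : Subgroup P, A.Normal → (∀ x ∈ A, ∀ y ∈ A, x * y = y * x) → IsCyclic A := by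
    intro A hAn hAc
    let Ω : Subgroup P :=
      { carrier := {x | x ∈ A ∧ x ^ p = 1}
        mul_mem' := fun {a b} ha hb => ⟨A.mul_mem ha.1 hb.1, by
          rw [(show Commute a b from hAc a ha.1 b hb.1).mul_pow, ha.2, hb.2, mul_one]⟩
        one_mem' := ⟨A.one_mem, one_pow p⟩
        inv_mem' := fun {a} ha => ⟨A.inv_mem ha.1, by
          show (a⁻¹) ^ p = 1
          rw [inv_pow, ha.2, inv_one]⟩ }
    have hΩmem : ∀ x, x ∈ Ω ↔ x ∈ A ∧ x ^ p = 1 := fun x => Iff.rfl
    haveI hΩn : Ω.Normal := ⟨fun x hx g => ⟨hAn.conj_mem x hx.1 g, by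
      rw [conj_pow, hx.2, mul_one, mul_inv_cancel]⟩⟩
    have hΩea : IsElementaryAbelian p Ω :=
      ⟨IsMulCommutative.of_setLike_mul_comm (fun a ha b hb => hAc a ha.1 b hb.1),
        fun a ha => ha.2⟩
    obtain ⟨k, hk⟩ := (hP.to_subgroup Ω).exists_card_eq
    have hk1 : k ≤ 1 := by
      by_contra hk2
      push Not at hk2
      obtain ⟨M, hMΩ, hMn, hMc⟩ := Cfsg.Agent.Lib.Lead.NormalChain.exists_normal_le_card hP Ω 2
        (by rw [hk]; exact pow_dvd_pow p hk2)
      exact hno M hMn (isEA_mono hMΩ hΩea) hMc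
    have hΩcard : Nat.card Ω ≤ p := by
      rw [hk]
      calc p ^ k ≤ p ^ 1 := Nat.pow_le_pow_right hp.out.pos hk1
        _ = p := pow_one p
    have huniq : Cfsg.Agent.Lib.Lead.UniqueOrderP.UniqueOrderP p ↥A := by
      intro H K hH hK
      have key : ∀ L : Subgroup ↥A, Nat.card L = p → L.map A.subtype = Ω := by
        intro L hL
        have hle : L.map A.subtype ≤ Ω := by
          rintro _ ⟨l, hl, rfl⟩
          refine ⟨l.2, ?_⟩
          have h1 : (⟨l, hl⟩ : ↥L) ^ p = 1 := by rw [← hL]; exact pow_card_eq_one'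
          have h2 := congrArg (fun w : ↥L => ((w : ↥A) : P)) h1
          simpa using h2
        apply Subgroup.eq_of_le_of_card_ge hle
        rw [Subgroup.card_map_of_injective A.subtype_injective, hL]
        exact hΩcard
      exact Subgroup.map_injective A.subtype_injective ((key H hH).trans (key K hK).symm)
    exact Cfsg.Agent.Lib.Lead.UniqueOrderP.abelian_cyclic (hP.to_subgroup A)
      (fun x y => Subtype.ext (hAc x x.2 y y.2)) huniq
  by_cases hcyc : IsCyclic P
  · apply hrk
    intro A hAc hAe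
    haveI : IsCyclic ↥A := Subgroup.isCyclic A
    obtain ⟨g, hg⟩ := IsCyclic.exists_generator (α := ↥A)
    rw [← orderOf_eq_card_of_forall_mem_zpowers hg]
    have h1 : orderOf g ∣ p :=
      orderOf_dvd_of_pow_eq_one (Subtype.ext (by simpa using hAe g.1 g.2))
    calc orderOf g ≤ p := Nat.le_of_dvd hp.out.pos h1
      _ ≤ p ^ 2 := by nlinarith [hp.out.two_le]
  · obtain ⟨hp2, n, a, b, hn3, hcard, hoa, hb, hidx, -⟩ :=
      Cfsg.Agent.Lib.Lead.NormalAbelianCyclic.structure_of_normal_abelian_cyclic p hP hn hcyc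
    apply hrk
    intro A hAc hAe
    subst hp2
    have h1 := card_le_card_inf_mul_index A (Subgroup.zpowers a)
    rw [hidx] at h1
    have h2 : Nat.card ↥(Subgroup.zpowers a ⊓ A) ≤ 2 := by
      haveI : IsCyclic ↥(Subgroup.zpowers a ⊓ A) :=
        Subgroup.isCyclic_of_le (inf_le_left : Subgroup.zpowers a ⊓ A ≤ Subgroup.zpowers a)
      obtain ⟨g, hg⟩ := IsCyclic.exists_generator (α := ↥(Subgroup.zpowers a ⊓ A))
      rw [← orderOf_eq_card_of_forall_mem_zpowers hg]
      have h1 : orderOf g ∣ 2 :=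
        orderOf_dvd_of_pow_eq_one (Subtype.ext (by simpa using hAe g.1 g.2.2))
      exact Nat.le_of_dvd (by norm_num) h1
    calc Nat.card A ≤ _ * 2 := h1
      _ ≤ 2 * 2 := Nat.mul_le_mul_right _ h2
      _ = 2 ^ 2 := by norm_num


/-- Let P be a finite p-group of p-rank greater than 2. Then P has a normal elementary abelian subgroup U of order p², and for every elementary abelian X ≤ P with |X| ≥ p²: X is joined to U by a chain of pairwise commuting elementary abelian subgroups of order ≥ p² if and only if C_P(X) has p-rank greater than 2. -/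
theorem result {P : Type*} [Group P] [Finite P] (p : ℕ) [Fact p.Prime] (hP : IsPGroup p P) (hrk : ¬ Cfsg.PRankLE p 2 P) : ∃ U : Subgroup P, U.Normal ∧ Cfsg.IsElementaryAbelian p U ∧ Nat.card ↥U = p ^ 2 ∧ ∀ X : Subgroup P, Cfsg.IsElementaryAbelian p X → p ^ 2 ≤ Nat.card ↥X → (Relation.ReflTransGen (fun A B : Subgroup P => Cfsg.IsElementaryAbelian p A ∧ p ^ 2 ≤ Nat.card ↥A ∧ Cfsg.IsElementaryAbelian p B ∧ p ^ 2 ≤ Nat.card ↥B ∧ ∀ a ∈ A, ∀ b ∈ B, a * b = b * a) X U ↔ ¬ Cfsg.PRankLE p 2 ↥(Subgroup.centralizer (X : Set P))) := by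
  classical
  have hp : Fact p.Prime := inferInstance
  obtain ⟨U, hUn, hUea, hUcard⟩ := exists_normal_EA p hP hrk
  refine ⟨U, hUn, hUea, hUcard, ?_⟩
  haveI := hUn
  set C := Subgroup.centralizer (U : Set P) with hC
  have hCidx : C.index ≤ p := by
    have := Cfsg.Agent.Lib.Lead.MaxNormalAbelian.index_centralizer_le hP 2 U hUn
      (fun x hx y hy => isEA_comm hUea hx hy) hUcard
    simpa using this
  have hUC : U ≤ C := by
    intro u hu
    rw [hC, Subgroup.mem_centralizer_iff]
    intro v hv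
    exact isEA_comm hUea hv hu
  have hcut : ∀ E : Subgroup P, p ^ 2 < Nat.card E → p ^ 2 ≤ Nat.card ↥(C ⊓ E) := by
    intro E hcard
    have h1 := card_le_card_inf_mul_index E C
    obtain ⟨k, hk⟩ := (hP.to_subgroup E).exists_card_eq
    have hk3 : 3 ≤ k := by
      by_contra h
      push Not at h
      have : p ^ k ≤ p ^ 2 := Nat.pow_le_pow_right hp.out.pos (by omega)
      omega
    have h2 : p ^ 3 ≤ Nat.card E := by rw [hk]; exact Nat.pow_le_pow_right hp.out.pos hk3
    have h3 : p ^ 3 ≤ Nat.card ↥(C ⊓ E) * p :=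
      h2.trans (h1.trans (Nat.mul_le_mul_left _ hCidx))
    have h4 : p ^ 2 * p ≤ Nat.card ↥(C ⊓ E) * p := by rw [← pow_succ]; exact h3
    exact Nat.le_of_mul_le_mul_right h4 hp.out.pos
  have hfwd : ∀ X : Subgroup P, Relation.ReflTransGen (fun A B : Subgroup P =>
      Cfsg.IsElementaryAbelian p A ∧ p ^ 2 ≤ Nat.card ↥A ∧ Cfsg.IsElementaryAbelian p B ∧
      p ^ 2 ≤ Nat.card ↥B ∧ ∀ a ∈ A, ∀ b ∈ B, a * b = b * a) X U →
      ¬ Cfsg.PRankLE p 2 ↥(Subgroup.centralizer (X : Set P)) := by
    intro X hchain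
    induction hchain using Relation.ReflTransGen.head_induction_on with
    | refl =>
      have hrk' := hrk
      unfold PRankLE at hrk'
      push Not at hrk'
      obtain ⟨A, hAc, hAe, hAcard⟩ := hrk'
      have hAea : IsElementaryAbelian p A := ⟨hAc, hAe⟩
      have hB : p ^ 2 ≤ Nat.card ↥(C ⊓ A) := hcut A hAcard
      have hBea : IsElementaryAbelian p (C ⊓ A) := isEA_mono inf_le_right hAea
      have hBU : ∀ b ∈ C ⊓ A, ∀ u ∈ U, b * u = u * b := fun b hb u hu =>
        ((Subgroup.mem_centralizer_iff.mp hb.1) u hu).symm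
      have hEea := isEA_sup hBea hUea hBU
      apply not_prankLE_of_le C ((C ⊓ A) ⊔ U) (sup_le inf_le_left hUC) hEea
      by_contra hle
      push Not at hle
      have h1 : U = (C ⊓ A) ⊔ U :=
        Subgroup.eq_of_le_of_card_ge le_sup_right (by rw [hUcard]; exact hle)
      have h2 : C ⊓ A ≤ U := by rw [h1]; exact le_sup_left
      have h3 : C ⊓ A = U := Subgroup.eq_of_le_of_card_ge h2 (by rw [hUcard]; exact hB)
      have h4 : U ≤ A := by rw [← h3]; exact inf_le_right
      have h5 : A ≤ C := by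
        intro a ha
        rw [hC, Subgroup.mem_centralizer_iff]
        intro u hu
        exact isEA_comm hAea (h4 hu) ha
      have h6 : C ⊓ A = A := inf_eq_right.mpr h5
      rw [h6] at h3
      rw [h3, hUcard] at hAcard
      omega
    | head h' hchain ih =>
      rename_i X' Y'
      obtain ⟨hXea, hXc, hYea, hYc, hcomm⟩ := h'
      have hEea := isEA_sup hXea hYea hcomm
      have hEle : X' ⊔ Y' ≤ Subgroup.centralizer (X' : Set P) := by
        intro e he
        rw [Subgroup.mem_centralizer_iff]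
        intro x hx
        exact isEA_comm hEea (le_sup_left (a := X') (b := Y') hx) he
      by_cases hbig : p ^ 2 < Nat.card ↥(X' ⊔ Y')
      · exact not_prankLE_of_le _ _ hEle hEea hbig
      · push Not at hbig
        have h1 : X' = X' ⊔ Y' := Subgroup.eq_of_le_of_card_ge le_sup_left (hbig.trans hXc)
        have h2 : Y' = X' ⊔ Y' := Subgroup.eq_of_le_of_card_ge le_sup_right (hbig.trans hYc)
        have h3 : X' = Y' := h1.trans h2.symm
        rw [h3]
        exact ih
  intro X hX hXcard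
  refine ⟨hfwd X, ?_⟩
  intro hcent
  obtain ⟨E, hEC, hEea, hEcard⟩ := exists_of_not_prankLE _ hcent
  have hXE : ∀ x ∈ X, ∀ e ∈ E, x * e = e * x := fun x hx e he =>
    (Subgroup.mem_centralizer_iff.mp (hEC he)) x hx
  have hXEea := isEA_sup hX hEea hXE
  have hXEcard : p ^ 2 < Nat.card ↥(X ⊔ E) :=
    lt_of_lt_of_le hEcard (Subgroup.card_le_of_le le_sup_right)
  have hBcard : p ^ 2 ≤ Nat.card ↥(C ⊓ (X ⊔ E)) := hcut _ hXEcard
  have hBea : IsElementaryAbelian p (C ⊓ (X ⊔ E)) := isEA_mono inf_le_right hXEea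
  refine Relation.ReflTransGen.head ⟨hX, hXcard, hXEea, hXEcard.le, fun a ha b hb =>
    isEA_comm hXEea (le_sup_left (a := X) (b := E) ha) hb⟩ ?_
  refine Relation.ReflTransGen.head ⟨hXEea, hXEcard.le, hBea, hBcard, fun a ha b hb =>
    isEA_comm hXEea ha hb.2⟩ ?_
  exact Relation.ReflTransGen.single ⟨hBea, hBcard, hUea, hUcard.ge, fun a ha b hb =>
    ((Subgroup.mem_centralizer_iff.mp ha.1) b hb).symm⟩

end Cfsg.Agent.S1337
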