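import Cfsg.Statements.S1339
import Mathlib
import Cfsg.Agent.Lib.Helper27.SLTransv4

set_option autoImplicit false
open Cfsg

namespace Cfsg.Agent.S1339

/-- Let F be a field with 2 elements, n ≥ 3, and t ∈ SL(n, F) a transvection (t = 1 + E_{ij}, i ≠ j). Then the generalized Fitting subgroup of C(t) is O_2(C(t)). -/
theorem result {F : Type*} [Field F] [Fintype F] [DecidableEq F] (hF : Fintype.card F = 2) (n : ℕ) (hn : 3 ≤ n) (i j : Fin n) (hij : i ≠ j) (t : Matrix.SpecialLinearGroup (Fin n) F) (ht : (t : Matrix (Fin n) (Fin n) F) = Matrix.transvection i j 1) : Cfsg.generalizedFittingSubgroup ↥(Subgroup.centralizer ({t} : Set (Matrix.SpecialLinearGroup (Fin n) F))) = Cfsg.pCore 2 ↥(Subgroup.centralizer ({t} : Set (Matrix.SpecialLinearGroup (Fin n) F))) := by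
  have hone : ∀ l : F, l ≠ 0 → l = 1 := by
    intro l hl
    have := FiniteField.pow_card_sub_one_eq_one l hl
    rwa [hF, show 2 - 1 = 1 from rfl, pow_one] at this
  have h2 : (2 : F) = 0 := by
    have := FiniteField.cast_card_eq_zero F
    rw [hF] at this
    exact_mod_cast this
  have hi : Cfsg.Agent.Lib.Helper27.SLTransv.Inc
      (Cfsg.Agent.Lib.Helper27.SLTransv.ev i : Fin n → F)
      (Cfsg.Agent.Lib.Helper27.SLTransv.ev j) := Cfsg.Agent.Lib.Helper27.SLTransv.inc_ev hij
  have ht' : t = Cfsg.Agent.Lib.Helper27.SLTransv.tvl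
      (Cfsg.Agent.Lib.Helper27.SLTransv.ev i) (Cfsg.Agent.Lib.Helper27.SLTransv.ev j) 1 :=
    Subtype.ext (by rw [ht, Cfsg.Agent.Lib.Helper27.SLTransv.tvl_ev_coe hij])
  subst ht'
  exact Cfsg.Agent.Lib.Helper27.SLTransv.genFitting_centralizer_tvl hone h2 hi

end Cfsg.Agent.S1339
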