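import Cfsg.Statements.S1340
-- import your own Cfsg.Agent.* helpers here
import Mathlib
import Cfsg.Agent.S0248
import Cfsg.Agent.S0249
import Cfsg.Agent.Lib.Helper20.LayerQuotient
import Cfsg.Agent.Lib.Helper9.Quasisimple
import Cfsg.Agent.Lib.Helper2.Cores

set_option autoImplicit false
open Cfsg

namespace Cfsg.Agent.S1340

open Matrix

section mat
variable {F : Type*} [Field F] {m : ℕ}

/-- block diagonal matrix `diag(a, s)` -/
def blk2 (a : F) (s : Matrix (Fin m) (Fin m) F) : Matrix (Fin (m + 1)) (Fin (m + 1)) F :=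
  Matrix.of fun i j =>
    Fin.cases (Fin.cases a (fun _ => 0) j) (fun i' => Fin.cases 0 (fun j' => s i' j') j) i

@[simp] theorem blk2_zero_zero (a : F) (s : Matrix (Fin m) (Fin m) F) : blk2 a s 0 0 = a := rfl
@[simp] theorem blk2_zero_succ (a : F) (s : Matrix (Fin m) (Fin m) F) (j : Fin m) :
    blk2 a s 0 j.succ = 0 := rfl
@[simp] theorem blk2_succ_zero (a : F) (s : Matrix (Fin m) (Fin m) F) (i : Fin m) :
    blk2 a s i.succ 0 = 0 := rfl
@[simp] theorem blk2_succ_succ (a : F) (s : Matrix (Fin m) (Fin m) F) (i j : Fin m) :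
    blk2 a s i.succ j.succ = s i j := rfl

theorem blk2_mul (a b : F) (s s' : Matrix (Fin m) (Fin m) F) :
    blk2 a s * blk2 b s' = blk2 (a * b) (s * s') := by
  ext i j
  refine Fin.cases ?_ (fun i' => ?_) i <;> refine Fin.cases ?_ (fun j' => ?_) j
  · simp [Matrix.mul_apply, Fin.sum_univ_succ]
  · simp [Matrix.mul_apply, Fin.sum_univ_succ]
  · simp [Matrix.mul_apply, Fin.sum_univ_succ]
  · simp [Matrix.mul_apply, Fin.sum_univ_succ]

theorem blk2_one : blk2 (1 : F) (1 : Matrix (Fin m) (Fin m) F) = 1 := by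
  ext i j
  refine Fin.cases ?_ (fun i' => ?_) i <;> refine Fin.cases ?_ (fun j' => ?_) j
  · simp
  · simp [Matrix.one_apply, (Fin.succ_ne_zero _).symm]
  · simp [Matrix.one_apply, Fin.succ_ne_zero]
  · simp [Matrix.one_apply]

theorem blk2_inj {a : F} {s s' : Matrix (Fin m) (Fin m) F} (h : blk2 a s = blk2 a s') : s = s' := by
  ext i j
  have := congrFun (congrFun h i.succ) j.succ
  simpa using this

theorem det_blk2 (a : F) (s : Matrix (Fin m) (Fin m) F) : (blk2 a s).det = a * s.det := by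
  rw [Matrix.det_succ_row_zero, Fin.sum_univ_succ]
  have hsub : (blk2 a s).submatrix Fin.succ (Fin.succAbove 0) = s := by
    ext i j
    simp
  rw [hsub]
  simp

/-- the diagonal vector `(-1, 1, …, 1)` -/
def dvec (F : Type*) [Field F] (m : ℕ) : Fin (m + 1) → F := Fin.cons (-1) (fun _ => 1)

/-- the involution as a matrix -/
def tMat (F : Type*) [Field F] (m : ℕ) : Matrix (Fin (m + 1)) (Fin (m + 1)) F :=
  Matrix.diagonal (dvec F m)

theorem tMat_mul_self : tMat F m * tMat F m = 1 := by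
  rw [tMat, Matrix.diagonal_mul_diagonal, ← Matrix.diagonal_one]
  congr 1
  funext i
  refine Fin.cases ?_ (fun i' => ?_) i <;> simp [dvec]

theorem tMat_zero_zero : tMat F m 0 0 = -1 := by
  simp [tMat, dvec]

theorem eq_blk2_of_comm (h2 : (2 : F) ≠ 0) (A : Matrix (Fin (m + 1)) (Fin (m + 1)) F)
    (h : A * tMat F m = tMat F m * A) :
    A = blk2 (A 0 0) (A.submatrix Fin.succ Fin.succ) := by
  ext i j
  refine Fin.cases ?_ (fun i' => ?_) i <;> refine Fin.cases ?_ (fun j' => ?_) j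
  · rfl
  · have h3 := congrFun (congrFun h 0) j'.succ
    rw [tMat, Matrix.mul_diagonal, Matrix.diagonal_mul] at h3
    simp only [dvec, Fin.cons_succ, Fin.cons_zero] at h3
    have h4 : (2 : F) * A 0 j'.succ = 0 := by linear_combination h3
    rcases mul_eq_zero.mp h4 with h5 | h5
    · exact absurd h5 h2
    · rw [h5]; rfl
  · have h3 := congrFun (congrFun h i'.succ) 0
    rw [tMat, Matrix.mul_diagonal, Matrix.diagonal_mul] at h3
    simp only [dvec, Fin.cons_succ, Fin.cons_zero] at h3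
    have h4 : (2 : F) * A i'.succ 0 = 0 := by linear_combination -h3
    rcases mul_eq_zero.mp h4 with h5 | h5
    · exact absurd h5 h2
    · rw [h5]; rfl
  · rfl

theorem zero_succ_of_comm (h2 : (2 : F) ≠ 0) (A : Matrix (Fin (m + 1)) (Fin (m + 1)) F)
    (h : A * tMat F m = tMat F m * A) (j : Fin m) : A 0 j.succ = 0 := by
  have := eq_blk2_of_comm h2 A h
  rw [this]; rfl

theorem mul_zero_zero (A B : Matrix (Fin (m + 1)) (Fin (m + 1)) F) (hA : ∀ j : Fin m, A 0 j.succ = 0) :
    (A * B) 0 0 = A 0 0 * B 0 0 := by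
  rw [Matrix.mul_apply, Fin.sum_univ_succ]
  simp [hA]

theorem blk2_comm (s : Matrix (Fin m) (Fin m) F) : blk2 1 s * tMat F m = tMat F m * blk2 1 s := by
  ext i j
  rw [tMat, Matrix.mul_diagonal, Matrix.diagonal_mul]
  refine Fin.cases ?_ (fun i' => ?_) i <;> refine Fin.cases ?_ (fun j' => ?_) j <;> simp [dvec]

theorem key (h2 : (2 : F) ≠ 0) (Y : Matrix (Fin (m + 1)) (Fin (m + 1)) F)
    (hY : Y * tMat F m = tMat F m * Y) (h00 : Y 0 0 = 1) (hdet : Y.det = 1) :
    ∃ s : Matrix.SpecialLinearGroup (Fin m) F, blk2 1 (s : Matrix (Fin m) (Fin m) F) = Y := by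
  have hY' := eq_blk2_of_comm h2 Y hY
  rw [h00] at hY'
  have hd : (Y.submatrix Fin.succ Fin.succ).det = 1 := by
    have := det_blk2 (1 : F) (Y.submatrix Fin.succ Fin.succ)
    rw [← hY', hdet, one_mul] at this
    exact this.symm
  exact ⟨⟨_, hd⟩, hY'.symm⟩

end mat

section grp
variable {F : Type*} [Field F] [Fintype F] [DecidableEq F] {m : ℕ}

theorem two_ne_zero_of_odd (hF : Odd (Fintype.card F)) : (2 : F) ≠ 0 := by
  intro h
  have h1 : ringChar F = 2 := CharP.ringChar_of_prime_eq_zero Nat.prime_two (by exact_mod_cast h)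
  have h2 := FiniteField.even_card_iff_char_two.mp h1
  rcases hF with ⟨k, hk⟩
  omega

/-- the involution `diag(-1, 1, …, 1)` -/
def tGL (F : Type*) [Field F] [Fintype F] [DecidableEq F] (m : ℕ) :
    Matrix.GeneralLinearGroup (Fin (m + 1)) F :=
  ⟨tMat F m, tMat F m, tMat_mul_self, tMat_mul_self⟩

theorem tGL_val : ((tGL F m : Matrix.GeneralLinearGroup (Fin (m + 1)) F) :
    Matrix (Fin (m + 1)) (Fin (m + 1)) F) = tMat F m := rfl

theorem orderOf_tGL (h2 : (2 : F) ≠ 0) : orderOf (tGL F m) = 2 := by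
  haveI : Fact (Nat.Prime 2) := ⟨Nat.prime_two⟩
  apply orderOf_eq_prime
  · apply Units.ext
    rw [pow_two, Units.val_mul, tGL_val, tMat_mul_self, Units.val_one]
  · intro h
    have h1 := congrArg (fun g : Matrix.GeneralLinearGroup (Fin (m + 1)) F =>
      (g : Matrix (Fin (m + 1)) (Fin (m + 1)) F) 0 0) h
    simp only [tGL_val, tMat_zero_zero, Units.val_one, Matrix.one_apply_eq] at h1
    apply h2
    linear_combination -h1

theorem mem_cent_iff (c : Matrix.GeneralLinearGroup (Fin (m + 1)) F) :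
    c ∈ Subgroup.centralizer ({tGL F m} : Set (Matrix.GeneralLinearGroup (Fin (m + 1)) F)) ↔
      (c : Matrix (Fin (m + 1)) (Fin (m + 1)) F) * tMat F m = tMat F m * c := by
  rw [Subgroup.mem_centralizer_iff]
  constructor
  · intro h
    have := h (tGL F m) rfl
    have h1 := congrArg (fun g : Matrix.GeneralLinearGroup (Fin (m + 1)) F =>
      (g : Matrix (Fin (m + 1)) (Fin (m + 1)) F)) this
    simp only [Units.val_mul, tGL_val] at h1
    exact h1.symm
  · intro h g hg
    rw [Set.mem_singleton_iff] at hg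
    subst hg
    apply Units.ext
    rw [Units.val_mul, Units.val_mul, tGL_val]
    exact h.symm

theorem tGL_not_central (h2 : (2 : F) ≠ 0) (hm : 1 ≤ m) :
    tGL F m ∉ Subgroup.center (Matrix.GeneralLinearGroup (Fin (m + 1)) F) := by
  intro h
  obtain ⟨m', rfl⟩ : ∃ m', m = m' + 1 := ⟨m - 1, by omega⟩
  -- the transvection 1 + E_{0,1}
  have hdet : (Matrix.transvection (0 : Fin (m' + 1 + 1)) (Fin.succ 0) (1 : F)).det ≠ 0 := by
    rw [Matrix.det_transvection_of_ne _ _ (Fin.succ_ne_zero _).symm]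
    exact one_ne_zero
  set g := Matrix.GeneralLinearGroup.mkOfDetNeZero _ hdet with hg
  have hc : g ∈ Subgroup.centralizer ({tGL F (m' + 1)} : Set (Matrix.GeneralLinearGroup (Fin (m' + 1 + 1)) F)) := by
    rw [Subgroup.mem_centralizer_iff]
    intro x hx
    rw [Set.mem_singleton_iff] at hx
    subst hx
    exact ((Subgroup.mem_center_iff.mp h) g).symm
  rw [mem_cent_iff] at hc
  have h3 := zero_succ_of_comm h2 _ hc (0 : Fin (m' + 1))
  have h4 : (g : Matrix (Fin (m' + 1 + 1)) (Fin (m' + 1 + 1)) F) =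
      Matrix.transvection (0 : Fin (m' + 1 + 1)) (Fin.succ 0) (1 : F) := rfl
  rw [h4, Matrix.transvection, Matrix.add_apply, Matrix.one_apply_ne (Fin.succ_ne_zero _).symm,
    zero_add] at h3
  simp at h3

/-- the monoid hom `s ↦ diag(1, s)` -/
def blkHom (F : Type*) [Field F] (m : ℕ) :
    Matrix (Fin m) (Fin m) F →* Matrix (Fin (m + 1)) (Fin (m + 1)) F where
  toFun := blk2 1
  map_one' := blk2_one
  map_mul' s s' := by rw [blk2_mul, one_mul]

/-- embedding of `SL_m` into `GL_{m+1}` -/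
def psi0 (F : Type*) [Field F] [Fintype F] [DecidableEq F] (m : ℕ) :
    Matrix.SpecialLinearGroup (Fin m) F →* Matrix.GeneralLinearGroup (Fin (m + 1)) F :=
  (Units.map (blkHom F m)).comp Matrix.SpecialLinearGroup.toGL

theorem psi0_val (s : Matrix.SpecialLinearGroup (Fin m) F) :
    ((psi0 F m s : Matrix.GeneralLinearGroup (Fin (m + 1)) F) :
      Matrix (Fin (m + 1)) (Fin (m + 1)) F) = blk2 1 (s : Matrix (Fin m) (Fin m) F) := rfl

theorem psi0_mem (s : Matrix.SpecialLinearGroup (Fin m) F) :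
    psi0 F m s ∈ Subgroup.centralizer ({tGL F m} : Set (Matrix.GeneralLinearGroup (Fin (m + 1)) F)) := by
  rw [mem_cent_iff, psi0_val]
  exact blk2_comm _

/-- embedding of `SL_m` into the centralizer of the involution -/
def psi (F : Type*) [Field F] [Fintype F] [DecidableEq F] (m : ℕ) :
    Matrix.SpecialLinearGroup (Fin m) F →*
      ↥(Subgroup.centralizer ({tGL F m} : Set (Matrix.GeneralLinearGroup (Fin (m + 1)) F))) :=
  (psi0 F m).codRestrict _ psi0_mem

theorem psi_val (s : Matrix.SpecialLinearGroup (Fin m) F) :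
    (((psi F m s : ↥(Subgroup.centralizer ({tGL F m} : Set (Matrix.GeneralLinearGroup (Fin (m + 1)) F)))) :
      Matrix.GeneralLinearGroup (Fin (m + 1)) F) :
      Matrix (Fin (m + 1)) (Fin (m + 1)) F) = blk2 1 (s : Matrix (Fin m) (Fin m) F) := rfl

theorem psi_injective : Function.Injective (psi F m) := by
  intro s s' h
  have h1 := congrArg (fun c : ↥(Subgroup.centralizer ({tGL F m} : Set (Matrix.GeneralLinearGroup (Fin (m + 1)) F))) =>
    ((c : Matrix.GeneralLinearGroup (Fin (m + 1)) F) : Matrix (Fin (m + 1)) (Fin (m + 1)) F)) h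
  simp only [psi_val] at h1
  exact Subtype.ext (blk2_inj h1)

theorem psi_range_normal (h2 : (2 : F) ≠ 0) : (psi F m).range.Normal := by
  constructor
  rintro _ ⟨s, rfl⟩ c
  -- matrices
  set Mc : Matrix (Fin (m + 1)) (Fin (m + 1)) F :=
    ((c : Matrix.GeneralLinearGroup (Fin (m + 1)) F) : Matrix (Fin (m + 1)) (Fin (m + 1)) F) with hMc
  set Md : Matrix (Fin (m + 1)) (Fin (m + 1)) F :=
    (((c⁻¹ : ↥(Subgroup.centralizer ({tGL F m} : Set (Matrix.GeneralLinearGroup (Fin (m + 1)) F)))) :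
      Matrix.GeneralLinearGroup (Fin (m + 1)) F) : Matrix (Fin (m + 1)) (Fin (m + 1)) F) with hMd
  have hcd : Mc * Md = 1 := by
    rw [hMc, hMd, Subgroup.coe_inv]
    exact Units.mul_inv _
  have hc : Mc * tMat F m = tMat F m * Mc := (mem_cent_iff _).mp c.2
  have hd : Md * tMat F m = tMat F m * Md := (mem_cent_iff _).mp (c⁻¹).2
  set B : Matrix (Fin (m + 1)) (Fin (m + 1)) F := blk2 1 (s : Matrix (Fin m) (Fin m) F) with hB
  have hb : B * tMat F m = tMat F m * B := blk2_comm _
  have hYval : (((c * psi F m s * c⁻¹ : ↥(Subgroup.centralizer ({tGL F m} : Set (Matrix.GeneralLinearGroup (Fin (m + 1)) F)))) :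
      Matrix.GeneralLinearGroup (Fin (m + 1)) F) : Matrix (Fin (m + 1)) (Fin (m + 1)) F) = Mc * B * Md := by
    rw [Subgroup.coe_mul, Subgroup.coe_mul, Units.val_mul, Units.val_mul, psi_val]
  have hY : (Mc * B * Md) * tMat F m = tMat F m * (Mc * B * Md) := by
    rw [Matrix.mul_assoc, hd, ← Matrix.mul_assoc, Matrix.mul_assoc Mc, hb, ← Matrix.mul_assoc, hc,
      Matrix.mul_assoc, Matrix.mul_assoc, Matrix.mul_assoc]
  have h00 : (Mc * B * Md) 0 0 = 1 := by
    rw [Matrix.mul_assoc, mul_zero_zero Mc _ (zero_succ_of_comm h2 Mc hc),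
      mul_zero_zero B _ (fun j => rfl), hB, blk2_zero_zero, one_mul,
      ← mul_zero_zero Mc _ (zero_succ_of_comm h2 Mc hc), hcd, Matrix.one_apply_eq]
  have hdet : (Mc * B * Md).det = 1 := by
    rw [Matrix.det_mul, Matrix.det_mul, hB, det_blk2, one_mul, (s.2 : (s : Matrix (Fin m) (Fin m) F).det = 1),
      mul_one, ← Matrix.det_mul, hcd, Matrix.det_one]
  obtain ⟨s', hs'⟩ := key h2 _ hY h00 hdet
  refine ⟨s', ?_⟩
  apply Subtype.ext
  apply Units.ext
  rw [hYval, psi_val, hs']

end grp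

section fin
variable {F : Type*} [Field F] [Fintype F] [DecidableEq F] {m : ℕ}

theorem sl_quasisimple (hm : 2 ≤ m) (h : ¬ (m = 2 ∧ Fintype.card F = 3)) (hF : Odd (Fintype.card F)) :
    Cfsg.IsQuasisimple (Matrix.SpecialLinearGroup (Fin m) F) := by
  rcases Nat.lt_or_ge m 3 with hlt | hge
  · have hm2 : m = 2 := by omega
    subst hm2
    have hcard : 4 ≤ Nat.card F := by
      rw [Nat.card_eq_fintype_card]
      have h1 : 1 < Fintype.card F := Fintype.one_lt_card
      rcases hF with ⟨k, hk⟩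
      by_contra hlt4
      apply h
      refine ⟨rfl, ?_⟩
      omega
    have hsimple := Matrix.ProjectiveSpecialLinearGroup.rank_two_simple (F := F) hcard
    have hperf : commutator (Matrix.SpecialLinearGroup (Fin 2) F) = ⊤ := by
      obtain ⟨x, hx⟩ : IsCyclic Fˣ := by infer_instance
      have hx2 : (x : F) ^ 2 ≠ 1 := by
        intro h'
        have h5 : Nat.card F = Nat.card Fˣ + 1 := Nat.card_eq_card_units_add_one F
        have h6 : orderOf x = Nat.card Fˣ := orderOf_eq_card_of_forall_mem_zpowers hx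
        have h7 : orderOf x ≤ 2 := orderOf_le_of_pow_eq_one zero_lt_two
          (Units.ext <| by simpa using h')
        omega
      exact Matrix.SL2.commutator_eq_top (Units.ne_zero x) hx2
    exact ⟨⟨hperf⟩, hsimple⟩
  · exact ⟨⟨Cfsg.Agent.S0248.result m hge⟩, Cfsg.Agent.S0249.result m hge⟩

/-- an involution of `SL_{m+2}` -/
def s0 (F : Type*) [Field F] (m' : ℕ) : Matrix.SpecialLinearGroup (Fin (m' + 2)) F :=
  ⟨Matrix.diagonal (Fin.cons (-1) (Fin.cons (-1) (fun _ => 1))), by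
    rw [Matrix.det_diagonal, Fin.prod_univ_succ, Fin.prod_univ_succ]
    simp⟩

theorem s0_mul_self (m' : ℕ) : s0 F m' * s0 F m' = 1 := by
  apply Subtype.ext
  rw [Matrix.SpecialLinearGroup.coe_mul, Matrix.SpecialLinearGroup.coe_one]
  show Matrix.diagonal _ * Matrix.diagonal _ = 1
  rw [Matrix.diagonal_mul_diagonal, ← Matrix.diagonal_one]
  congr 1
  funext i
  refine Fin.cases ?_ (fun i' => ?_) i
  · simp
  · refine Fin.cases ?_ (fun i'' => ?_) i' <;> simp

theorem s0_ne_one (h2 : (2 : F) ≠ 0) (m' : ℕ) : s0 F m' ≠ 1 := by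
  intro h
  have h1 := congrArg (fun s : Matrix.SpecialLinearGroup (Fin (m' + 2)) F =>
    (s : Matrix (Fin (m' + 2)) (Fin (m' + 2)) F) 0 0) h
  simp only [Matrix.SpecialLinearGroup.coe_one, Matrix.one_apply_eq] at h1
  have h3 : ((s0 F m' : Matrix.SpecialLinearGroup (Fin (m' + 2)) F) :
      Matrix (Fin (m' + 2)) (Fin (m' + 2)) F) 0 0 = -1 := by
    show Matrix.diagonal _ 0 0 = -1
    simp
  rw [h3] at h1
  apply h2
  linear_combination -h1

theorem main (hF : Odd (Fintype.card F)) (hm : 2 ≤ m) (h33 : ¬ (m = 2 ∧ Fintype.card F = 3)) :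
    Cfsg.HasComponent (↥(Subgroup.centralizer ({tGL F m} : Set (Matrix.GeneralLinearGroup (Fin (m + 1)) F))) ⧸
      Cfsg.oddCore ↥(Subgroup.centralizer ({tGL F m} : Set (Matrix.GeneralLinearGroup (Fin (m + 1)) F)))) := by
  have h2 : (2 : F) ≠ 0 := two_ne_zero_of_odd hF
  have hq := sl_quasisimple hm h33 hF
  haveI := psi_range_normal (F := F) (m := m) h2
  have hK : Cfsg.IsComponent (psi F m).range :=
    ⟨Subgroup.Normal.isSubnormal inferInstance,
      Cfsg.Agent.Lib.Helper9.isQuasisimple_of_mulEquiv (MonoidHom.ofInjective psi_injective) hq⟩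
  rcases Cfsg.Agent.Lib.Helper20.isComponent_map_or_eq_bot
    (QuotientGroup.mk' (Cfsg.oddCore ↥(Subgroup.centralizer ({tGL F m} : Set (Matrix.GeneralLinearGroup (Fin (m + 1)) F)))))
    (QuotientGroup.mk'_surjective _) _ hK with h | h
  · exfalso
    rw [Subgroup.map_eq_bot_iff, QuotientGroup.ker_mk'] at h
    obtain ⟨m', rfl⟩ : ∃ m', m = m' + 2 := ⟨m - 2, by omega⟩
    have hw : psi F (m' + 2) (s0 F m') ∈ Cfsg.oddCore ↥(Subgroup.centralizer ({tGL F (m' + 2)} : Set (Matrix.GeneralLinearGroup (Fin (m' + 2 + 1)) F))) :=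
      h ⟨_, rfl⟩
    have hord : orderOf (psi F (m' + 2) (s0 F m')) = 2 := by
      haveI : Fact (Nat.Prime 2) := ⟨Nat.prime_two⟩
      apply orderOf_eq_prime
      · rw [pow_two, ← map_mul, s0_mul_self, map_one]
      · intro h1
        apply s0_ne_one h2 m'
        apply psi_injective
        rw [h1, map_one]
    have hdvd := Subgroup.orderOf_dvd_natCard _ hw
    rw [hord] at hdvd
    have hcop := Cfsg.Agent.Lib.Helper2.pPrimeCore_coprime (G := ↥(Subgroup.centralizer ({tGL F (m' + 2)} : Set (Matrix.GeneralLinearGroup (Fin (m' + 2 + 1)) F)))) 2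
    have : (2 : ℕ) ∣ 1 := by
      have := Nat.dvd_gcd hdvd (dvd_refl 2)
      rwa [hcop] at this
    omega
  · exact ⟨_, h.1, h.2⟩

end fin


/-- Let F be a finite field of odd order and n ≥ 3 with (n, |F|) ≠ (3, 3). Then GL(n, F) has a non-central involution t such that C(t) / O(C(t)) has a component. -/
theorem result {F : Type*} [Field F] [Fintype F] [DecidableEq F] (hF : Odd (Fintype.card F)) (n : ℕ) (hn : 3 ≤ n) (h33 : ¬ (n = 3 ∧ Fintype.card F = 3)) : ∃ t : Matrix.GeneralLinearGroup (Fin n) F, orderOf t = 2 ∧ t ∉ Subgroup.center (Matrix.GeneralLinearGroup (Fin n) F) ∧ Cfsg.HasComponent (↥(Subgroup.centralizer ({t} : Set (Matrix.GeneralLinearGroup (Fin n) F))) ⧸ Cfsg.oddCore ↥(Subgroup.centralizer ({t} : Set (Matrix.GeneralLinearGroup (Fin n) F)))) := by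
  obtain ⟨m, rfl⟩ : ∃ m, n = m + 1 := ⟨n - 1, by omega⟩
  have h2 := two_ne_zero_of_odd hF
  refine ⟨tGL F m, orderOf_tGL h2, tGL_not_central h2 (by omega), main hF (by omega) ?_⟩
  rintro ⟨rfl, h3⟩
  exact h33 ⟨rfl, h3⟩

end Cfsg.Agent.S1340
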