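import Mathlib
import Cfsg.Statements.S1349
import Cfsg.Agent.Lib.Helper10.FaithfulSolvable
import Cfsg.Agent.Lib.Helper10.DihedralAbelian
import Cfsg.Agent.Lib.Helper24.DihIso

set_option autoImplicit false
open Cfsg

namespace Cfsg.Agent.S1349

theorem sup_zpowers_commute {G : Type*} [Group G] (a x b y : G) (h1 : a * b = b * a)
    (h2 : a * y = y * a) (h3 : x * b = b * x) (h4 : x * y = y * x) :
    ∀ u ∈ Subgroup.zpowers a ⊔ Subgroup.zpowers x, ∀ v ∈ Subgroup.zpowers b ⊔ Subgroup.zpowers y,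
      u * v = v * u := by
  intro u hu v hv
  have hle : Subgroup.zpowers a ⊔ Subgroup.zpowers x ≤ Subgroup.centralizer ({b, y} : Set G) := by
    apply sup_le
    · rw [Subgroup.zpowers_le, Subgroup.mem_centralizer_iff]
      intro h hh
      rcases hh with rfl | rfl
      · exact h1.symm
      · exact h2.symm
    · rw [Subgroup.zpowers_le, Subgroup.mem_centralizer_iff]
      intro h hh
      rcases hh with rfl | rfl
      · exact h3.symm
      · exact h4.symm
  have hu' := hle hu
  rw [Subgroup.mem_centralizer_iff] at hu'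
  have hle2 : Subgroup.zpowers b ⊔ Subgroup.zpowers y ≤ Subgroup.centralizer ({u} : Set G) := by
    apply sup_le
    · rw [Subgroup.zpowers_le, Subgroup.mem_centralizer_iff]
      intro h hh
      rw [Set.mem_singleton_iff] at hh
      rw [hh]
      exact (hu' b (by simp)).symm
    · rw [Subgroup.zpowers_le, Subgroup.mem_centralizer_iff]
      intro h hh
      rw [Set.mem_singleton_iff] at hh
      rw [hh]
      exact (hu' y (by simp)).symm
  have hv' := hle2 hv
  rw [Subgroup.mem_centralizer_iff] at hv'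
  exact hv' u rfl

theorem dihedral_sup_zpowers {G : Type*} [Group G] [Finite G] (a x : G) (ha2 : a * a = 1)
    (hinv : a * x * a⁻¹ = x⁻¹) (hxodd : Odd (orderOf x)) (hx1 : x ≠ 1) :
    orderOf a = 2 ∧
    Nonempty (↥(Subgroup.zpowers a ⊔ Subgroup.zpowers x) ≃* DihedralGroup (orderOf x)) := by
  have hainv : a⁻¹ = a := inv_eq_of_mul_eq_one_left ha2
  have hxx : x * x ≠ 1 := by
    intro h
    have h1 : orderOf x ∣ 2 := orderOf_dvd_of_pow_eq_one (by rw [pow_two]; exact h)
    have h2 : orderOf x = 1 := by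
      rcases (Nat.dvd_prime Nat.prime_two).mp h1 with h | h
      · exact h
      · rw [h] at hxodd
        exact absurd hxodd (by decide)
    exact hx1 (orderOf_eq_one_iff.mp h2)
  have ha1 : a ≠ 1 := by
    intro h
    rw [h] at hinv
    apply hxx
    have : x = x⁻¹ := by simpa using hinv
    calc x * x = x⁻¹ * x := by rw [← this]
      _ = 1 := inv_mul_cancel x
  have hoa : orderOf a = 2 := orderOf_eq_prime (by rw [pow_two]; exact ha2) ha1
  refine ⟨hoa, ?_⟩
  have haxax : (a * x) * (a * x) = 1 := by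
    have : a * x * a = x⁻¹ := by rw [← hinv, hainv]
    calc (a * x) * (a * x) = (a * x * a) * x := by group
      _ = 1 := by rw [this]; group
  have hax1 : a * x ≠ 1 := by
    intro h
    apply hxx
    have hx : x = a⁻¹ := eq_inv_of_mul_eq_one_right h
    rw [hx, hainv]
    exact ha2
  have hoax : orderOf (a * x) = 2 := orderOf_eq_prime (by rw [pow_two]; exact haxax) hax1
  obtain ⟨e⟩ := Cfsg.Agent.Lib.Helper24.closure_pair_equiv_dihedral hoa hoax
  have e1 : a * (a * x) = x := by rw [← mul_assoc, ha2, one_mul]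
  rw [e1] at e
  have hcl : Subgroup.closure ({a, a * x} : Set G) = Subgroup.zpowers a ⊔ Subgroup.zpowers x := by
    apply le_antisymm
    · rw [Subgroup.closure_le]
      intro g hg
      have ha : a ∈ Subgroup.zpowers a ⊔ Subgroup.zpowers x :=
        (le_sup_left : Subgroup.zpowers a ≤ _) (Subgroup.mem_zpowers a)
      have hx : x ∈ Subgroup.zpowers a ⊔ Subgroup.zpowers x :=
        (le_sup_right : Subgroup.zpowers x ≤ _) (Subgroup.mem_zpowers x)
      rcases hg with rfl | hg
      · exact ha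
      · rw [Set.mem_singleton_iff] at hg
        rw [hg]
        exact Subgroup.mul_mem _ ha hx
    · have ha : a ∈ Subgroup.closure ({a, a * x} : Set G) := Subgroup.subset_closure (by simp)
      have hax : a * x ∈ Subgroup.closure ({a, a * x} : Set G) := Subgroup.subset_closure (by simp)
      apply sup_le
      · rw [Subgroup.zpowers_le]; exact ha
      · rw [Subgroup.zpowers_le]
        have : a⁻¹ * (a * x) = x := by group
        have hxm := Subgroup.mul_mem _ (Subgroup.inv_mem _ ha) hax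
        rwa [this] at hxm
  exact ⟨(MulEquiv.subgroupCongr hcl).symm.trans e⟩


/-- Let G be finite, L ≤ G solvable of odd order, and A an elementary abelian 2-subgroup of order 2^d (d ≥ 1) normalizing L with C_A(L) = 1. Then there are subgroups A_1, …, A_d of A of order 2 generating A and subgroups L_1, …, L_d of L such that each A_i ⊔ L_i is dihedral of order 2 n_i with n_i odd and at least 3, and A_i ⊔ L_i commutes elementwise with A_j ⊔ L_j for i ≠ j. -/
theorem result {G : Type*} [Group G] [Finite G] (L A : Subgroup G) (hLs : Group.IsSolvable ↥L) (hLodd : Odd (Nat.card ↥L)) (hA : Cfsg.IsElementaryAbelian 2 A) (d : ℕ) (hd : 1 ≤ d) (hAd : Nat.card ↥A = 2 ^ d) (hAL : A ≤ Subgroup.normalizer (L : Set G)) (hfaith : A ⊓ Subgroup.centralizer (L : Set G) = ⊥) : ∃ (Ai : Fin d → Subgroup G) (Li : Fin d → Subgroup G) (n : Fin d → ℕ), (∀ i, Ai i ≤ A ∧ Nat.card ↥(Ai i) = 2 ∧ Li i ≤ L ∧ Odd (n i) ∧ 3 ≤ n i ∧ Nonempty (↥(Ai i ⊔ Li i) ≃* DihedralGroup (n i))) ∧ (⨆ i, Ai i) = A ∧ ∀ i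 j, i ≠ j → ∀ x ∈ Ai i ⊔ Li i, ∀ y ∈ Ai j ⊔ Li j, x * y = y * x := by
  classical
  obtain ⟨hAcomm, hA2'⟩ := hA
  have hA2 : ∀ a ∈ A, a * a = 1 := fun a ha => by rw [← pow_two]; exact hA2' a ha
  have hAc : ∀ a ∈ A, ∀ b ∈ A, a * b = b * a := by
    intro a ha b hb
    have := hAcomm.is_comm.comm ⟨a, ha⟩ ⟨b, hb⟩
    exact congrArg Subtype.val this
  obtain ⟨V, hVL, hVc, hAV, hVfaith⟩ :=
    Cfsg.Agent.Lib.Helper10.exists_faithful_abelian L A hLs hLodd hA2 hAc hAL hfaith
  have hVodd : Odd (Nat.card V) := Odd.of_dvd_nat hLodd (Subgroup.card_dvd_of_le hVL)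
  obtain ⟨a, x, haA, hxV, hx1, hinv, hcomm, -, hgen, -⟩ :=
    Cfsg.Agent.Lib.Helper10.abelian_dihedral d A V ∅ hVc hVodd hAc hA2 hAd hAV hVfaith
      (by simp) (by simp) (by simp) (by simp)
  have hxodd : ∀ i, Odd (orderOf (x i)) := fun i =>
    Odd.of_dvd_nat hVodd (Subgroup.orderOf_dvd_natCard V (hxV i))
  refine ⟨fun i => Subgroup.zpowers (a i), fun i => Subgroup.zpowers (x i),
    fun i => orderOf (x i), ?_, ?_, ?_⟩
  · intro i
    obtain ⟨hoa, hdih⟩ := dihedral_sup_zpowers (a i) (x i) (hA2 _ (haA i)) (hinv i) (hxodd i) (hx1 i)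
    refine ⟨Subgroup.zpowers_le.mpr (haA i), ?_, Subgroup.zpowers_le.mpr (hVL (hxV i)), hxodd i,
      ?_, hdih⟩
    · rw [Nat.card_zpowers, hoa]
    · show 3 ≤ orderOf (x i)
      have h0 : 0 < orderOf (x i) := orderOf_pos (x i)
      have h1 : orderOf (x i) ≠ 1 := fun h => hx1 i (orderOf_eq_one_iff.mp h)
      obtain ⟨k, hk⟩ := hxodd i
      omega
  · apply le_antisymm
    · exact iSup_le fun i => Subgroup.zpowers_le.mpr (haA i)
    · rw [← hgen, Subgroup.closure_le]
      rintro _ ⟨i, rfl⟩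
      exact (le_iSup (fun i => Subgroup.zpowers (a i)) i) (Subgroup.mem_zpowers _)
  · intro i j hij
    exact sup_zpowers_commute (a i) (x i) (a j) (x j) (hAc _ (haA i) _ (haA j))
      (hcomm j i (Ne.symm hij)) (hcomm i j hij).symm (hVc _ (hxV i) _ (hxV j))

end Cfsg.Agent.S1349
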