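import Cfsg.Statements.S1386
import Cfsg.Agent.Lib.Helper26.TIInd

set_option autoImplicit false
open Cfsg

namespace Cfsg.Agent.S1386

/-- Let G be a finite group, W₁, W₂ subgroups forming a self-normalizing cyclic pair, S a subgroup with W₂ ≤ S and W₁ a complement to S' in S, and (W₁, U, W₂') type-P data for S. Then W₂' = W₂ (that is, C_{S'}(W₁) = W₂). -/
theorem result {G : Type*} [Group G] [Finite G] (W₁ W₂ S U W₂' : Subgroup G) (hW : Cfsg.IsSelfNormalizingCyclic W₁ W₂)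
    (hSW : Cfsg.IsComplIn ⁅S, S⁆ W₁ S) (hW₂S : W₂ ≤ S) (hP : Cfsg.IsTypePWith S W₁ U W₂') :
    W₂' = W₂ := by
  classical
  obtain ⟨hW1ne, hW2ne, hW12, hcomm, hcyc, hnorm⟩ := hW
  obtain ⟨hS'S, hW1S, hS'W1, hSprod⟩ := hSW
  have hP2 := hP.W₂_centralizer
  obtain ⟨-, hW2'ne, hW12', hcomm', hcyc', -⟩ := hP.selfNormalizing
  -- commutativity inside the two cyclic groups
  have hcW : ∀ g ∈ W₁ ⊔ W₂, ∀ h ∈ W₁ ⊔ W₂, g * h = h * g := by
    intro g hg h hh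
    have := (IsCyclic.isMulCommutative (α := ↥(W₁ ⊔ W₂))).is_comm.comm ⟨g, hg⟩ ⟨h, hh⟩
    exact congrArg Subtype.val this
  have hcW' : ∀ g ∈ W₁ ⊔ W₂', ∀ h ∈ W₁ ⊔ W₂', g * h = h * g := by
    intro g hg h hh
    have := (IsCyclic.isMulCommutative (α := ↥(W₁ ⊔ W₂'))).is_comm.comm ⟨g, hg⟩ ⟨h, hh⟩
    exact congrArg Subtype.val this
  -- nontrivial elements
  obtain ⟨⟨x, hx⟩, hx1⟩ := (Subgroup.ne_bot_iff_exists_ne_one).mp hW1ne
  have hx1' : x ≠ 1 := fun h => hx1 (Subtype.ext h)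
  obtain ⟨⟨y, hy⟩, hy1⟩ := (Subgroup.ne_bot_iff_exists_ne_one).mp hW2ne
  have hy1' : y ≠ 1 := fun h => hy1 (Subtype.ext h)
  -- Step A: every b ∈ W₂ is s * w with s ∈ W₂', w ∈ W₁
  have hA : ∀ b ∈ W₂, ∃ s ∈ W₂', ∃ w ∈ W₁, b = s * w := by
    intro b hb
    obtain ⟨s, hs, w, hw, hbs⟩ := hSprod b (hW₂S hb)
    refine ⟨s, ?_, w, hw, hbs⟩
    rw [← hP2 x hx hx1']
    refine ⟨hs, ?_⟩
    show s ∈ Subgroup.centralizer ({x} : Set G)
    rw [Subgroup.mem_centralizer_iff]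
    intro k hk
    rw [Set.mem_singleton_iff] at hk
    subst hk
    -- s = b * w⁻¹ commutes with k ∈ W₁
    have hsb : s = b * w⁻¹ := by rw [hbs]; group
    have h1 : k * b = b * k := hcomm k hx b hb
    have h2 : k * w⁻¹ = w⁻¹ * k :=
      hcW k (Subgroup.mem_sup_left hx) w⁻¹ (Subgroup.mem_sup_left (W₁.inv_mem hw))
    rw [hsb]
    calc k * (b * w⁻¹) = (k * b) * w⁻¹ := by group
      _ = b * (k * w⁻¹) := by rw [h1]; group
      _ = b * w⁻¹ * k := by rw [h2]; group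
  have hW2le : W₂ ≤ W₁ ⊔ W₂' := by
    intro b hb
    obtain ⟨s, hs, w, hw, rfl⟩ := hA b hb
    exact Subgroup.mul_mem _ (Subgroup.mem_sup_right hs) (Subgroup.mem_sup_left hw)
  -- Step B: W₁ ⊔ W₂' ≤ W₁ ⊔ W₂ via the normalizer condition
  have hxy_mem : x * y ∈ W₁ ⊔ W₂ :=
    Subgroup.mul_mem _ (Subgroup.mem_sup_left hx) (Subgroup.mem_sup_right hy)
  have hX : ({x * y} : Set G) ⊆ (↑(W₁ ⊔ W₂) : Set G) \ (↑W₁ ∪ ↑W₂) := by
    intro z hz
    rw [Set.mem_singleton_iff] at hz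
    subst hz
    refine ⟨hxy_mem, ?_⟩
    rintro (h | h)
    · have : y ∈ W₁ := by
        have := W₁.mul_mem (W₁.inv_mem hx) h
        simpa using this
      have : y ∈ W₁ ⊓ W₂ := ⟨this, hy⟩
      rw [hW12, Subgroup.mem_bot] at this
      exact hy1' this
    · have : x ∈ W₂ := by
        have := W₂.mul_mem h (W₂.inv_mem hy)
        simpa using this
      have : x ∈ W₁ ⊓ W₂ := ⟨hx, this⟩
      rw [hW12, Subgroup.mem_bot] at this
      exact hx1' this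
  have hN := hnorm {x * y} hX (Set.singleton_nonempty _)
  have hW'le : W₁ ⊔ W₂' ≤ W₁ ⊔ W₂ := by
    intro g hg
    rw [← hN]
    show ∀ n, n ∈ ({x * y} : Set G) ↔ g * n * g⁻¹ ∈ ({x * y} : Set G)
    have hxy' : x * y ∈ W₁ ⊔ W₂' :=
      Subgroup.mul_mem _ (Subgroup.mem_sup_left hx) (hW2le hy)
    have hc : g * (x * y) = (x * y) * g := hcW' g hg (x * y) hxy'
    intro h
    simp only [Set.mem_singleton_iff]
    constructor
    · intro hh
      rw [hh, hc]; group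
    · intro hh
      have : h = g⁻¹ * (x * y) * g := by rw [← hh]; group
      rw [this, mul_assoc, ← hc]; group
  -- decomposition of elements of a join of commuting subgroups
  have hdec : ∀ z ∈ W₁ ⊔ W₂, ∃ w ∈ W₁, ∃ b ∈ W₂, z = w * b := by
    intro z hz
    rw [Subgroup.sup_eq_closure] at hz
    refine Subgroup.closure_induction (p := fun z _ => ∃ w ∈ W₁, ∃ b ∈ W₂, z = w * b) ?_ ?_ ?_ ?_ hz
    · rintro z (hz | hz)
      · exact ⟨z, hz, 1, W₂.one_mem, by simp⟩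
      · exact ⟨1, W₁.one_mem, z, hz, by simp⟩
    · exact ⟨1, W₁.one_mem, 1, W₂.one_mem, by simp⟩
    · rintro _ _ _ _ ⟨w, hw, b, hb, rfl⟩ ⟨w', hw', b', hb', rfl⟩
      refine ⟨w * w', W₁.mul_mem hw hw', b * b', W₂.mul_mem hb hb', ?_⟩
      have := hcomm w' hw' b hb
      calc w * b * (w' * b') = w * (b * w') * b' := by group
        _ = w * (w' * b) * b' := by rw [this]
        _ = w * w' * (b * b') := by group
    · rintro _ _ ⟨w, hw, b, hb, rfl⟩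
      refine ⟨w⁻¹, W₁.inv_mem hw, b⁻¹, W₂.inv_mem hb, ?_⟩
      have := hcomm w⁻¹ (W₁.inv_mem hw) b⁻¹ (W₂.inv_mem hb)
      rw [mul_inv_rev, this]
  apply le_antisymm
  · -- W₂' ≤ W₂
    intro s hs
    obtain ⟨w, hw, b, hb, hswb⟩ := hdec s (hW'le (Subgroup.mem_sup_right hs))
    have hpow : s ^ Nat.card W₂' = 1 := Cfsg.Agent.Lib.Helper26.pow_card_sub_eq_one W₂' hs
    have hwb : w * b = b * w := hcomm w hw b hb
    rw [hswb, (show Commute w b from hwb).mul_pow] at hpow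
    have hwn : w ^ Nat.card W₂' ∈ W₁ ⊓ W₂ := by
      refine ⟨W₁.pow_mem hw _, ?_⟩
      have : w ^ Nat.card W₂' = (b ^ Nat.card W₂')⁻¹ := eq_inv_of_mul_eq_one_left hpow
      rw [this]
      exact W₂.inv_mem (W₂.pow_mem hb _)
    rw [hW12, Subgroup.mem_bot] at hwn
    have hw2' : w ∈ W₂' :=
      Cfsg.Agent.Lib.Helper26.mem_of_pow_card_of_isCyclic_sub W₂' (W₁ ⊔ W₂') le_sup_right w
        (Subgroup.mem_sup_left hw) hwn
    have hw1 : w ∈ W₁ ⊓ W₂' := ⟨hw, hw2'⟩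
    rw [hW12', Subgroup.mem_bot] at hw1
    rw [hswb, hw1, one_mul]
    exact hb
  · -- W₂ ≤ W₂'
    intro b hb
    obtain ⟨s, hs, w, hw, hbsw⟩ := hA b hb
    have hpow : b ^ Nat.card W₂ = 1 := Cfsg.Agent.Lib.Helper26.pow_card_sub_eq_one W₂ hb
    have hsw : s * w = w * s := (hcomm' w hw s hs).symm
    rw [hbsw, (show Commute s w from hsw).mul_pow] at hpow
    have hwn : w ^ Nat.card W₂ ∈ W₁ ⊓ W₂' := by
      refine ⟨W₁.pow_mem hw _, ?_⟩
      have : w ^ Nat.card W₂ = (s ^ Nat.card W₂)⁻¹ := eq_inv_of_mul_eq_one_right hpow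
      rw [this]
      exact W₂'.inv_mem (W₂'.pow_mem hs _)
    rw [hW12', Subgroup.mem_bot] at hwn
    have hw2 : w ∈ W₂ :=
      Cfsg.Agent.Lib.Helper26.mem_of_pow_card_of_isCyclic_sub W₂ (W₁ ⊔ W₂) le_sup_right w
        (Subgroup.mem_sup_left hw) hwn
    have hw1 : w ∈ W₁ ⊓ W₂ := ⟨hw, hw2⟩
    rw [hW12, Subgroup.mem_bot] at hw1
    rw [hbsw, hw1, mul_one]
    exact hs

end Cfsg.Agent.S1386
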