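import Mathlib
import Cfsg.Statements.S1387
import Cfsg.Agent.Lib.Helper10.TypeP

set_option autoImplicit false
open Cfsg

namespace Cfsg.Agent.S1387


/-- Let M be a subgroup of a finite group G with type-P data (W₁, U, W₂) and H = M_F. Then the Fitting subgroup F(M) is generated by H and the centralizer of H in U. -/
theorem result {G : Type*} [Group G] [Finite G] (M W₁ U W₂ : Subgroup G) (hP : Cfsg.IsTypePWith M W₁ U W₂) :
    Cfsg.fittingOf M = Cfsg.fittingHallOf M ⊔ (U ⊓ Subgroup.centralizer (Cfsg.fittingHallOf M : Set G)) := by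
  apply le_antisymm
  · intro x hx
    obtain ⟨h, hh, u, hu, rfl⟩ := Cfsg.Agent.Lib.Helper10.typeP_fittingOf_decomp hP hx
    refine Subgroup.mul_mem _ ((le_sup_left : Cfsg.fittingHallOf M ≤ _) hh) ?_
    refine (le_sup_right : U ⊓ Subgroup.centralizer (Cfsg.fittingHallOf M : Set G) ≤ _) ?_
    exact ⟨hu.2, Cfsg.Agent.Lib.Helper10.typeP_fittingOf_inf_le_centralizer hP hu⟩
  · apply sup_le (Cfsg.Agent.Lib.Helper10.fittingHallOf_le_fittingOf M)
    rw [← hP.fitting_eq]
    have hUM : U ≤ M := hP.U_compl.2.1.trans hP.W₁_compl.1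
    exact (inf_le_inf_right _ hUM).trans le_sup_right

end Cfsg.Agent.S1387
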