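import Mathlib
import Cfsg.Statements.S1388
import Cfsg.Agent.Lib.Helper10.TypeP

set_option autoImplicit false
open Cfsg

namespace Cfsg.Agent.S1388


/-- Let M be a subgroup of a finite group G with type-P data (W₁, U, W₂) and H = M_F. Then the derived subgroup of U centralizes H, and if U ≠ 1 then U does not centralize H. -/
theorem result {G : Type*} [Group G] [Finite G] (M W₁ U W₂ : Subgroup G) (hP : Cfsg.IsTypePWith M W₁ U W₂) :
    ⁅U, U⁆ ≤ Subgroup.centralizer (Cfsg.fittingHallOf M : Set G) ∧ (U ≠ ⊥ → ¬ U ≤ Subgroup.centralizer (Cfsg.fittingHallOf M : Set G)) := by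
  classical
  have hH := hP.U_compl
  have hUM' : U ≤ ⁅M, M⁆ := hH.2.1
  have hM'M : ⁅M, M⁆ ≤ M := hP.W₁_compl.1
  have hUM : U ≤ M := hUM'.trans hM'M
  constructor
  · intro x hx
    have hxU : x ∈ U := by
      have : ⁅U, U⁆ ≤ U := by
        rw [Subgroup.commutator_le]
        intro a ha b hb
        exact U.mul_mem (U.mul_mem (U.mul_mem ha hb) (U.inv_mem ha)) (U.inv_mem hb)
      exact this hx
    have hxF : x ∈ Cfsg.fittingOf M := by
      rw [← hP.fitting_eq]
      exact hP.derived_two_le (Subgroup.commutator_mono hUM' hUM' hx)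
    exact Cfsg.Agent.Lib.Helper10.typeP_fittingOf_inf_le_centralizer hP ⟨hxF, hxU⟩
  · intro hU1 hUC
    apply hU1
    -- `M` normalizes `U`
    have hHN : Cfsg.fittingHallOf M ≤ Subgroup.normalizer (U : Set G) := by
      intro h hh
      have hcen : h ∈ Subgroup.centralizer (U : Set G) := by
        rw [Subgroup.mem_centralizer_iff]
        intro u hu
        have := hUC hu
        rw [Subgroup.mem_centralizer_iff] at this
        exact (this h hh).symm
      exact Subgroup.centralizer_le_normalizer (U : Set G) hcen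
    have hMN : M ≤ Subgroup.normalizer (U : Set G) := by
      intro m hm
      obtain ⟨m', hm', w, hw, rfl⟩ := hP.W₁_compl.2.2.2 m hm
      obtain ⟨h, hh, u, hu, rfl⟩ := hH.2.2.2 m' hm'
      exact Subgroup.mul_mem _ (Subgroup.mul_mem _ (hHN hh) (Subgroup.le_normalizer hu))
        (hP.U_normal hw)
    haveI hUn : (U.subgroupOf M).Normal :=
      (Subgroup.normal_subgroupOf_iff_le_normalizer hUM).mpr hMN
    haveI hUnil : Group.IsNilpotent ↥(U.subgroupOf M) := by
      haveI := hP.U_nilpotent
      exact Group.nilpotent_of_mulEquiv (Subgroup.subgroupOfEquivOfLe hUM).symm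
    have hcardU : Nat.card (U.subgroupOf M) = Nat.card U :=
      Nat.card_congr (Subgroup.subgroupOfEquivOfLe hUM).toEquiv
    have hcop : (Nat.card (U.subgroupOf M)).Coprime (U.subgroupOf M).index := by
      have h1 := Subgroup.card_mul_index (U.subgroupOf M)
      have h2 := Cfsg.Agent.Lib.Helper10.typeP_card hP
      rw [hcardU] at h1 ⊢
      have hpos : 0 < Nat.card U := Nat.card_pos
      have h3 : (U.subgroupOf M).index = Nat.card (Cfsg.fittingHallOf M) * Nat.card W₁ := by
        have : Nat.card U * (U.subgroupOf M).index =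
            Nat.card U * (Nat.card (Cfsg.fittingHallOf M) * Nat.card W₁) := by
          rw [h1, h2]; ring
        exact Nat.eq_of_mul_eq_mul_left hpos this
      rw [h3]
      apply Nat.Coprime.mul_right
      · exact (Cfsg.Agent.Lib.Helper10.typeP_coprime_H_U hP).symm
      · -- `W₁` is a Hall subgroup of `M`
        have h4 := hP.W₁_hall
        have hW1M : W₁ ≤ M := hP.W₁_compl.2.1
        have h5 : Nat.card (W₁.subgroupOf M) * (W₁.subgroupOf M).index = Nat.card M :=
          Subgroup.card_mul_index (W₁.subgroupOf M)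
        have h6 : Nat.card (W₁.subgroupOf M) = Nat.card W₁ :=
          Nat.card_congr (Subgroup.subgroupOfEquivOfLe hW1M).toEquiv
        have hposW : 0 < Nat.card W₁ := Nat.card_pos
        have h7 : W₁.relIndex M = Nat.card (Cfsg.fittingHallOf M) * Nat.card U := by
          have : Nat.card W₁ * W₁.relIndex M =
              Nat.card W₁ * (Nat.card (Cfsg.fittingHallOf M) * Nat.card U) := by
            rw [← h6]
            show Nat.card (W₁.subgroupOf M) * (W₁.subgroupOf M).index = _
            rw [h5, h2, h6]; ring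
          exact Nat.eq_of_mul_eq_mul_left hposW this
        rw [h7] at h4
        exact (Nat.Coprime.coprime_dvd_right (Dvd.intro_left _ rfl) h4).symm
    have hle : U.subgroupOf M ≤ Cfsg.fittingHall ↥M :=
      Cfsg.Agent.Lib.Helper6.le_fittingHall hUn hUnil hcop
    have hUH : U ≤ Cfsg.fittingHallOf M := by
      intro u hu
      exact ⟨⟨u, hUM hu⟩, hle (Subgroup.mem_subgroupOf.mpr hu), rfl⟩
    rw [eq_bot_iff, ← hH.2.2.1]
    exact le_inf hUH le_rfl

end Cfsg.Agent.S1388
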