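import Mathlib
import Cfsg.Statements.S1441

set_option autoImplicit false
open Cfsg

namespace Cfsg.Agent.S1441

open scoped commutatorElement

/-- If `x` has `p`-power order, `z` commutes with `x`, `h x h⁻¹ = z x` and `z` has order prime
to `p`, then `z = 1`. -/
theorem z_eq_one {G : Type*} [Group G] (p e : ℕ) (x h z : G) (hx : x ^ (p ^ e) = 1)
    (hzx : Commute z x) (hconj : h * x * h⁻¹ = z * x) (hz : (orderOf z).Coprime p) : z = 1 := by
  have h1 : (z * x) ^ (p ^ e) = 1 := by
    rw [← hconj, conj_pow, hx, mul_one, mul_inv_cancel]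
  rw [hzx.mul_pow, hx, mul_one] at h1
  have h2 : orderOf z ∣ p ^ e := orderOf_dvd_of_pow_eq_one h1
  have h3 : (orderOf z).Coprime (p ^ e) := hz.pow_right e
  have h4 : orderOf z = 1 := Nat.Coprime.eq_one_of_dvd h3 h2
  exact orderOf_eq_one_iff.mp h4

theorem result {G : Type*} [Group G] [Finite G] (H A : Subgroup G) (hH : Group.IsSolvable H) (hA : (A ≤ Subgroup.normalizer (H : Set G)))
    (n : ℕ) (c : Fin (n + 1) → Subgroup G) (hc0 : c 0 = H) (hcn : c (Fin.last n) = ⊥) (hanti : Antitone c)
    (hcN : ∀ i, H ≤ Subgroup.normalizer ((c i : Subgroup G) : Set G)) (hcA : ∀ i, A ≤ Subgroup.normalizer ((c i : Subgroup G) : Set G))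
    (htriv : ∀ i : Fin n, ⁅c i.castSucc, A⁆ ≤ c i.succ) :
    ∀ p : ℕ, p.Prime → p ∣ (A ⊓ Subgroup.centralizer (H : Set G)).relIndex A → p ∣ Nat.card H := by
  intro p hp hdvd
  by_contra hpH
  have : Fact p.Prime := ⟨hp⟩
  set K := (A ⊓ Subgroup.centralizer (H : Set G)).subgroupOf A with hK
  -- a Sylow p-subgroup of A not inside K
  obtain ⟨P⟩ : Nonempty (Sylow p A) := inferInstance
  have hPK : ¬ (P : Subgroup A) ≤ K := by
    intro hle
    have h1 : K.index ∣ (P : Subgroup A).index := Subgroup.index_dvd_of_le hle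
    exact P.not_dvd_index (dvd_trans hdvd h1)
  obtain ⟨x, hxP, hxK⟩ := SetLike.not_le_iff_exists.mp hPK
  obtain ⟨e, he⟩ := (P.isPGroup' ) ⟨x, hxP⟩
  have hxe : (x : G) ^ (p ^ e) = 1 := by
    have := congrArg (fun y : P => ((y : A) : G)) he
    simpa using this
  apply hxK
  rw [hK, Subgroup.mem_subgroupOf]
  refine ⟨x.2, ?_⟩
  change (x : G) ∈ Subgroup.centralizer (H : Set G)
  rw [Subgroup.mem_centralizer_iff]
  have key : ∀ i : Fin (n + 1), ∀ h ∈ c i, h * (x : G) = (x : G) * h := by
    intro i
    induction i using Fin.reverseInduction with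
    | last =>
      intro h hh
      rw [hcn, Subgroup.mem_bot] at hh
      rw [hh, one_mul, mul_one]
    | cast i ih =>
      intro h hh
      have hz : ⁅h, (x : G)⁆ ∈ c i.succ := htriv i (Subgroup.commutator_mem_commutator hh x.2)
      set z := ⁅h, (x : G)⁆ with hzdef
      have hzx : Commute z (x : G) := ih z hz
      have hconj : h * (x : G) * h⁻¹ = z * (x : G) := by
        rw [hzdef, commutatorElement_def]; group
      have hzH : z ∈ H := by
        rw [← hc0]; exact hanti (Fin.zero_le _) hz
      have hzord : (orderOf z).Coprime p := by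
        have h1 : orderOf z ∣ Nat.card H := by
          have := orderOf_dvd_natCard (⟨z, hzH⟩ : H)
          rwa [Subgroup.orderOf_mk] at this
        have h2 : (Nat.card H).Coprime p := ((Nat.Prime.coprime_iff_not_dvd hp).mpr hpH).symm
        exact Nat.Coprime.coprime_dvd_left h1 h2
      have hz1 := z_eq_one p e (x : G) h z hxe hzx hconj hzord
      rw [hz1, one_mul] at hconj
      have : h * (x : G) = (h * (x : G) * h⁻¹) * h := by group
      rw [this, hconj]
  intro h hh
  have hh' : h ∈ c 0 := by rw [hc0]; exact hh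
  exact key 0 h hh'

end Cfsg.Agent.S1441
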