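import Mathlib
import Cfsg.Statements.S1442
import Cfsg.Agent.Lib.Helper1.CoprimeStab

set_option autoImplicit false
open Cfsg

namespace Cfsg.Agent.S1442

open Cfsg.Agent.Lib.Helper1

theorem result {G : Type*} [Group G] [Finite G] (H A : Subgroup G) (hH : Group.IsNilpotent H) (hA : (A ≤ Subgroup.normalizer (H : Set G))) (hcop : (Nat.card A).Coprime (Nat.card H))
    (hC : H ⊓ Subgroup.centralizer (((H ⊓ Subgroup.centralizer (A : Set G)) : Subgroup G) : Set G) ≤ (H ⊓ Subgroup.centralizer (A : Set G))) :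
    A ≤ Subgroup.centralizer (H : Set G) := by
  set C := H ⊓ Subgroup.centralizer (A : Set G) with hCdef
  by_cases htop : C.subgroupOf H = ⊤
  · -- H ≤ C
    have hHC : H ≤ C := Subgroup.subgroupOf_eq_top.mp htop
    intro a ha
    rw [Subgroup.mem_centralizer_iff]
    intro h hh
    have h1 : h ∈ Subgroup.centralizer (A : Set G) := (hHC hh).2
    rw [Subgroup.mem_centralizer_iff] at h1
    exact (h1 a ha).symm
  · exfalso
    have hlt : C.subgroupOf H < ⊤ := lt_top_iff_ne_top.mpr htop
    have hnc := Group.normalizerCondition_of_isNilpotent (G := H) _ hlt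
    obtain ⟨y, hyN, hyC⟩ := SetLike.exists_of_lt hnc
    apply hyC
    rw [Subgroup.mem_subgroupOf]
    refine ⟨y.2, ?_⟩
    change (y : G) ∈ Subgroup.centralizer (A : Set G)
    rw [Subgroup.mem_centralizer_iff]
    intro a ha
    -- z = y a y⁻¹ a⁻¹
    set z : G := (y : G) * a * (y : G)⁻¹ * a⁻¹ with hz
    have hzH : z ∈ H := by
      have h1 : a * (y : G)⁻¹ * a⁻¹ ∈ H := by
        have := (Subgroup.mem_normalizer_iff.mp (hA ha)) ((y : G)⁻¹)
        exact this.mp (inv_mem y.2)
      have : z = (y : G) * (a * (y : G)⁻¹ * a⁻¹) := by rw [hz]; group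
      rw [this]
      exact mul_mem y.2 h1
    have hzC : z ∈ Subgroup.centralizer (C : Set G) := by
      rw [Subgroup.mem_centralizer_iff]
      intro c hc
      -- y⁻¹ c y ∈ C
      have hcH : c ∈ H := hc.1
      have h1 : (⟨c, hcH⟩ : H) ∈ C.subgroupOf H := by
        rw [Subgroup.mem_subgroupOf]; exact hc
      have h2 : y⁻¹ * (⟨c, hcH⟩ : H) * y⁻¹⁻¹ ∈ C.subgroupOf H :=
        (Subgroup.mem_normalizer_iff.mp (inv_mem hyN) _).mp h1
      rw [Subgroup.mem_subgroupOf] at h2
      have h2' : (y : G)⁻¹ * c * (y : G) ∈ C := by simpa using h2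
      have hca : ∀ c' ∈ C, c' * a = a * c' := by
        intro c' hc'
        have : c' ∈ Subgroup.centralizer (A : Set G) := hc'.2
        rw [Subgroup.mem_centralizer_iff] at this
        exact (this a ha).symm
      have e1 := hca c hc
      have e2 := hca _ h2'
      -- z c = c z
      have e3 : a⁻¹ * c = c * a⁻¹ := by
        have : a⁻¹ * (c * a) * a⁻¹ = a⁻¹ * (a * c) * a⁻¹ := by rw [e1]
        simpa [mul_assoc] using this
      calc c * z = c * ((y : G) * a * (y : G)⁻¹ * a⁻¹) := rfl
        _ = (y : G) * (((y : G)⁻¹ * c * (y : G)) * a) * (y : G)⁻¹ * a⁻¹ := by group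
        _ = (y : G) * (a * ((y : G)⁻¹ * c * (y : G))) * (y : G)⁻¹ * a⁻¹ := by rw [e2]
        _ = (y : G) * a * (y : G)⁻¹ * (c * a⁻¹) := by group
        _ = (y : G) * a * (y : G)⁻¹ * (a⁻¹ * c) := by rw [e3]
        _ = z * c := by rw [hz]; group
    have hzmem : z ∈ C := hC ⟨hzH, hzC⟩
    have hza : Commute z a := by
      have : z ∈ Subgroup.centralizer (A : Set G) := hzmem.2
      rw [Subgroup.mem_centralizer_iff] at this
      exact (this a ha).symm
    have hconj : (y : G) * a * (y : G)⁻¹ = z * a := by rw [hz]; group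
    have hz1 := eq_one_of_conj_eq_mul (orderOf a) a (y : G) z (pow_orderOf_eq_one a) hza hconj
      (orderOf_coprime_of_mem H A hcop hzH ha)
    rw [hz1, one_mul] at hconj
    have : (y : G) * a = ((y : G) * a * (y : G)⁻¹) * (y : G) := by group
    rw [this, hconj]

end Cfsg.Agent.S1442
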