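import Mathlib
import Cfsg.Statements.S1443
import Cfsg.Agent.Lib.Helper1.OmegaOne

set_option autoImplicit false
open Cfsg

namespace Cfsg.Agent.S1443

open Cfsg.Agent.Lib.Helper1

theorem result {G : Type*} [Group G] [Finite G] (p : ℕ) [Fact p.Prime] (hp : p ≠ 2) (H E A : Subgroup G) (hH : IsPGroup p H) (hE : E ≤ H) (hEe : Cfsg.IsElementaryAbelian p E)
    (hA : (A ≤ Subgroup.normalizer (H : Set G))) (hcop : (Nat.card A).Coprime p)
    (hfix : ∀ x ∈ (H ⊓ Subgroup.centralizer (E : Set G)), orderOf x = p → A ≤ Subgroup.centralizer ({x} : Set G)) :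
    A ≤ Subgroup.centralizer (H : Set G) := by
  obtain ⟨hEab, hEexp⟩ := hEe
  -- strengthened hypothesis: `x ^ p = 1` suffices
  have hfix' : ∀ x ∈ (H ⊓ Subgroup.centralizer (E : Set G)), x ^ p = 1 →
      A ≤ Subgroup.centralizer ({x} : Set G) := by
    intro x hx hxp
    have hdvd : orderOf x ∣ p := orderOf_dvd_of_pow_eq_one hxp
    rcases (Nat.dvd_prime (Fact.out : p.Prime)).mp hdvd with h1 | h1
    · rw [orderOf_eq_one_iff] at h1
      rw [h1]
      intro a _
      rw [Subgroup.mem_centralizer_iff]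
      intro h hh
      rw [Set.mem_singleton_iff] at hh
      rw [hh, one_mul, mul_one]
    · exact hfix x hx h1
  -- E is abelian, so E ≤ C(E)
  have hEC : E ≤ Subgroup.centralizer (E : Set G) := by
    intro e he
    rw [Subgroup.mem_centralizer_iff]
    intro f hf
    have := hEab.is_comm.comm (⟨f, hf⟩ : E) ⟨e, he⟩
    exact congrArg Subtype.val this
  -- A centralizes E
  have hAE : A ≤ Subgroup.centralizer (E : Set G) := by
    intro a ha
    rw [Subgroup.mem_centralizer_iff]
    intro e he
    have h1 := hfix' e ⟨hE he, hEC he⟩ (hEexp e he) ha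
    rw [Subgroup.mem_centralizer_iff] at h1
    exact h1 e rfl
  -- A normalizes H ⊓ C(E)
  have hAN : A ≤ Subgroup.normalizer ((H ⊓ Subgroup.centralizer (E : Set G) : Subgroup G) : Set G) := by
    intro a ha
    have h1 : a ∈ Subgroup.normalizer (H : Set G) := hA ha
    have h2 : a ∈ Subgroup.normalizer ((Subgroup.centralizer (E : Set G) : Subgroup G) : Set G) := by
      have h3 : a ∈ Subgroup.normalizer (E : Set G) :=
        Subgroup.centralizer_le_normalizer (E : Set G) (hAE ha)
      rw [Subgroup.mem_normalizer_iff]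
      intro x
      have hainv : a⁻¹ ∈ Subgroup.centralizer (E : Set G) := inv_mem (hAE ha)
      constructor
      · intro hx
        exact mul_mem (mul_mem (hAE ha) hx) hainv
      · intro hx
        have := mul_mem (mul_mem hainv hx) (hAE ha)
        have e : a⁻¹ * (a * x * a⁻¹) * a = x := by group
        rwa [e] at this
    rw [Subgroup.mem_normalizer_iff] at h1 h2 ⊢
    intro x
    constructor
    · rintro ⟨hx1, hx2⟩
      exact ⟨(h1 x).mp hx1, (h2 x).mp hx2⟩
    · rintro ⟨hx1, hx2⟩
      exact ⟨(h1 x).mpr hx1, (h2 x).mpr hx2⟩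
  have hP1 : IsPGroup p (H ⊓ Subgroup.centralizer (E : Set G) : Subgroup G) := hH.to_le inf_le_left
  have hAC : A ≤ Subgroup.centralizer ((H ⊓ Subgroup.centralizer (E : Set G) : Subgroup G) : Set G) :=
    centralizes_of_centralizes_omega_one p hp A hcop _ _ rfl hP1 hAN hfix'
  exact thompson_AxB p A E (hH.to_le hE) hcop hAE _ H rfl hH hA (hE.trans Subgroup.le_normalizer) hAC

end Cfsg.Agent.S1443
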