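import Cfsg.Statements.S1445
import Cfsg.Agent.Lib.Helper4.PrimeActB

set_option autoImplicit false
open Cfsg

namespace Cfsg.Agent.S1445

/-- Let G be a solvable group of odd order, K a normal subgroup and R a subgroup with G = KR and the orders of K and R coprime. Suppose K ∩ C_G(x) = K ∩ C_G(R) for every non-identity x ∈ R, and F(K) ∩ C_G(R) = 1. Then [K, R] is contained in the Fitting subgroup of K. -/
theorem result {G : Type*} [Group G] [Finite G] [Group.IsSolvable G] (hodd : Odd (Nat.card G)) (K R : Subgroup G) [K.Normal] (hKR : K ⊔ R = ⊤) (hcop : (Nat.card K).Coprime (Nat.card R))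
    (hprime : ∀ x ∈ R, x ≠ 1 → K ⊓ Subgroup.centralizer ({x} : Set G) = (K ⊓ Subgroup.centralizer (R : Set G)))
    (hF : Cfsg.fittingOf K ⊓ Subgroup.centralizer (R : Set G) = ⊥) :
    ⁅K, R⁆ ≤ Cfsg.fittingOf K := by
  classical
  haveI hFn : (Cfsg.fittingOf K).Normal := by
    constructor
    intro n hn g
    have h1 : g ∈ Subgroup.normalizer ((Cfsg.fittingOf K : Subgroup G) : Set G) := by
      apply Cfsg.Agent.Lib.Helper13.CoreControl.normalizer_le_normalizer_map_char K
        (Cfsg.fittingSubgroup ↥K) Cfsg.Agent.Lib.Helper20.fittingSubgroup_characteristic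
      rw [Subgroup.normalizer_eq_top]; trivial
    exact (Subgroup.mem_normalizer_iff.mp h1 n).mp hn
  have hFK : Cfsg.fittingOf K ≤ K := Cfsg.Agent.Lib.Helper13.BenderB.fittingOf_le K
  obtain ⟨π, hπ⟩ : ∃ π : G →* G ⧸ Cfsg.fittingOf K, π = QuotientGroup.mk' (Cfsg.fittingOf K) :=
    ⟨_, rfl⟩
  have hπker : ∀ g : G, π g = 1 ↔ g ∈ Cfsg.fittingOf K := by
    intro g; rw [hπ]; exact QuotientGroup.eq_one_iff g
  have key : ∀ x ∈ R, ∀ k ∈ K, x * k * x⁻¹ * k⁻¹ ∈ Cfsg.fittingOf K := by
    intro x hx k hk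
    by_cases hx1 : x = 1
    · rw [hx1]; simp
    have hord0 : orderOf x ≠ 0 := (isOfFinOrder_of_finite x).orderOf_pos.ne'
    have hord1 : orderOf x ≠ 1 := fun h => hx1 (orderOf_eq_one_iff.mp h)
    obtain ⟨r, hr, hrdvd⟩ := Nat.exists_prime_and_dvd hord1
    obtain ⟨y, hydef⟩ : ∃ y, y = x ^ (orderOf x / r) := ⟨_, rfl⟩
    have hyord : orderOf y = r := by rw [hydef]; exact orderOf_pow_orderOf_div hord0 hrdvd
    have hyR : y ∈ R := by rw [hydef]; exact R.pow_mem hx _
    have hy1 : y ≠ 1 := by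
      intro h
      rw [h, orderOf_one] at hyord
      exact hr.one_lt.ne hyord
    have hyr : y ^ r = 1 := by rw [← hyord]; exact pow_orderOf_eq_one y
    have hrR : r ∣ Nat.card R := hrdvd.trans (Subgroup.orderOf_dvd_natCard R hx)
    have hrK : ¬ r ∣ Nat.card K := by
      intro h
      have := Nat.dvd_gcd h hrR
      rw [hcop.gcd_eq_one] at this
      exact hr.one_lt.ne' (Nat.dvd_one.mp this)
    have hKy : K ⊓ Subgroup.centralizer ({y} : Set G) = K ⊓ Subgroup.centralizer (R : Set G) :=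
      hprime y hyR hy1
    have hfpf : ∀ w ∈ Cfsg.fittingOf K, y * w * y⁻¹ = w → w = 1 := by
      intro w hw hyw
      have h1 : w ∈ K ⊓ Subgroup.centralizer ({y} : Set G) := by
        refine Subgroup.mem_inf.mpr ⟨hFK hw, ?_⟩
        rw [Subgroup.mem_centralizer_iff]
        intro h hh
        rw [Set.mem_singleton_iff] at hh
        rw [hh]
        calc y * w = (y * w * y⁻¹) * y := by group
          _ = w * y := by rw [hyw]
      rw [hKy] at h1
      have h2 : w ∈ Cfsg.fittingOf K ⊓ Subgroup.centralizer (R : Set G) :=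
        Subgroup.mem_inf.mpr ⟨hw, (Subgroup.mem_inf.mp h1).2⟩
      rw [hF, Subgroup.mem_bot] at h2
      exact h2
    have hy := Cfsg.Agent.Lib.Helper4.PrimeActB.prime_elt K hodd y r hr hyr hrK hfpf
    rw [← hπ] at hy
    -- fixed point in the coset
    have hAK : Subgroup.zpowers y ≤ Subgroup.normalizer (K : Set G) := by
      rw [Subgroup.normalizer_eq_top]; exact le_top
    have hcopA : (Nat.card (Subgroup.zpowers y)).Coprime (Nat.card K) := by
      rw [Nat.card_zpowers, hyord]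
      exact (Nat.Prime.coprime_iff_not_dvd hr).mpr hrK
    obtain ⟨c, hc, hkc⟩ := Cfsg.Agent.Lib.Helper13.coprime_fixed_point_in_coset
      (Subgroup.zpowers y) K hAK hcopA (Or.inr inferInstance) (Cfsg.fittingOf K) hFK
      (by rw [Subgroup.normalizer_eq_top]; exact le_top)
      (by rw [Subgroup.normalizer_eq_top]; exact le_top) k hk
      (by
        intro a ha
        obtain ⟨i, rfl⟩ := Subgroup.mem_zpowers_iff.mp ha
        rw [← hπker, map_mul, map_mul, map_mul, map_inv, map_inv, map_zpow]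
        have hc : Commute (π y) (π k) := hy k hk
        have := (hc.zpow_left i).eq
        rw [this]; group)
    obtain ⟨hcK, hcy⟩ := Subgroup.mem_inf.mp hc
    have hc2 : c ∈ K ⊓ Subgroup.centralizer ({y} : Set G) := by
      refine Subgroup.mem_inf.mpr ⟨hcK, ?_⟩
      rw [Subgroup.mem_centralizer_iff]
      intro h hh
      rw [Set.mem_singleton_iff] at hh
      rw [hh]
      exact Subgroup.mem_centralizer_iff.mp hcy y (Subgroup.mem_zpowers y)
    rw [hKy] at hc2
    have hcx : x * c = c * x := Subgroup.mem_centralizer_iff.mp (Subgroup.mem_inf.mp hc2).2 x hx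
    have hxcx : x * c * x⁻¹ = c := by rw [hcx]; group
    obtain ⟨f', hf'def⟩ : ∃ f', f' = k⁻¹ * c := ⟨_, rfl⟩
    rw [← hf'def] at hkc
    have e : x * k * x⁻¹ * k⁻¹ = (x * c * x⁻¹) * ((x * f'⁻¹ * x⁻¹) * f') * c⁻¹ := by
      rw [hf'def]; group
    rw [e, hxcx]
    apply hFn.conj_mem
    exact Subgroup.mul_mem _ (hFn.conj_mem _ (Subgroup.inv_mem _ hkc) x) hkc
  rw [Subgroup.commutator_le]
  intro k hk x hx
  have h1 := key x hx k⁻¹ (K.inv_mem hk)
  have h2 := hFn.conj_mem _ h1 k
  rw [commutatorElement_def]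
  have e : k * (x * k⁻¹ * x⁻¹ * k⁻¹⁻¹) * k⁻¹ = k * x * k⁻¹ * x⁻¹ := by group
  rwa [e] at h2

end Cfsg.Agent.S1445
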