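import Cfsg.Statements.S1446
import Cfsg.Agent.Lib.Helper23.FrobG

set_option autoImplicit false
open Cfsg

namespace Cfsg.Agent.S1446

/-- Let X be a finite group with subgroups K, R, M such that: K and R are nontrivial, K ∩ R = 1, R normalizes K, no non-identity element of R centralizes a non-identity element of K, K ⊔ R is solvable of odd order; M is nilpotent and nontrivial, normalized by K and by R, with order coprime to that of K ⊔ R, M ∩ C(K) = 1, and M ∩ C(x) = M ∩ C(R) for all non-identity x ∈ R. Then R has prime order p, #M = #(M ∩ C(R)) ^ p, and if M ∩ C(R) is cyclic then [K, K] centralizes M. -/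
theorem result {X : Type*} [Group X] [Finite X] (K R M : Subgroup X) (hK1 : K ≠ ⊥) (hR1 : R ≠ ⊥) (hKR : K ⊓ R = ⊥)
    (hRK : R ≤ Subgroup.normalizer (K : Set X)) (hfrob : ∀ r ∈ R, r ≠ 1 → K ⊓ Subgroup.centralizer ({r} : Set X) = ⊥)
    (hsolv : Group.IsSolvable ↥(K ⊔ R)) (hodd : Odd (Nat.card ↥(K ⊔ R)))
    (hM1 : M ≠ ⊥) (hMn : Group.IsNilpotent M) (hKM : K ≤ Subgroup.normalizer (M : Set X)) (hRM : R ≤ Subgroup.normalizer (M : Set X))
    (hcop : (Nat.card ↥(K ⊔ R)).Coprime (Nat.card M)) (hCK : M ⊓ Subgroup.centralizer (K : Set X) = ⊥)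
    (hpr : ∀ x ∈ R, x ≠ 1 → M ⊓ Subgroup.centralizer ({x} : Set X) = M ⊓ Subgroup.centralizer (R : Set X)) :
    (Nat.card R).Prime ∧ Nat.card M = Nat.card ↥(M ⊓ Subgroup.centralizer (R : Set X)) ^ Nat.card R ∧
      (IsCyclic ↥(M ⊓ Subgroup.centralizer (R : Set X)) → ⁅K, K⁆ ≤ Subgroup.centralizer (M : Set X)) := by
  classical
  have hUn : ∀ e ∈ R, ∀ u ∈ K, e * u * e⁻¹ ∈ K := by
    intro e he u hu
    exact (Subgroup.mem_normalizer_iff.1 (hRK he) u).1 hu
  have hfpf : ∀ e ∈ R, e ≠ 1 → ∀ u ∈ K, e * u = u * e → u = 1 := by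
    intro e he he1 u hu hc
    have : u ∈ K ⊓ Subgroup.centralizer ({e} : Set X) := by
      refine Subgroup.mem_inf.2 ⟨hu, ?_⟩
      rw [Subgroup.mem_centralizer_iff]
      intro g hg
      rw [Set.mem_singleton_iff.1 hg]
      exact hc
    rw [hfrob e he he1] at this
    exact Subgroup.mem_bot.1 this
  have hMn' : K ⊔ R ≤ Subgroup.normalizer (M : Set X) := sup_le hKM hRM
  haveI := hMn
  have hMsolv : Group.IsSolvable M := inferInstance
  have hform := Cfsg.Agent.Lib.Helper23.FrobF.formula K R M hR1 hUn hfpf hMn' hMsolv hcop.symm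
  have hCKR : M ⊓ Subgroup.centralizer ((K ⊔ R : Subgroup X) : Set X) = ⊥ := by
    rw [eq_bot_iff, ← hCK]
    exact inf_le_inf_left _ (Subgroup.centralizer_le (le_sup_left : K ≤ K ⊔ R))
  rw [hCKR, hCK, Subgroup.card_bot, one_pow, one_mul, mul_one] at hform
  have hRcard : 1 < Nat.card R := by
    haveI : Nontrivial R := (Subgroup.nontrivial_iff_ne_bot R).2 hR1
    exact Finite.one_lt_card
  have hMcard : 1 < Nat.card M := by
    haveI : Nontrivial M := (Subgroup.nontrivial_iff_ne_bot M).2 hM1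
    exact Finite.one_lt_card
  refine ⟨?_, hform, ?_⟩
  · obtain ⟨p, hp, hpd⟩ := Nat.exists_prime_and_dvd (Nat.ne_of_gt hRcard)
    haveI : Fact p.Prime := ⟨hp⟩
    obtain ⟨x, hx⟩ := exists_prime_orderOf_dvd_card' (G := R) p hpd
    have hx1 : (x : X) ≠ 1 := by
      intro h
      have : x = 1 := Subtype.ext h
      rw [this, orderOf_one] at hx
      exact hp.one_lt.ne hx
    have hE₁R : Subgroup.zpowers (x : X) ≤ R := (Subgroup.zpowers_le).2 x.2
    have hE₁1 : Subgroup.zpowers (x : X) ≠ ⊥ := by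
      intro h
      apply hx1
      have : (x : X) ∈ Subgroup.zpowers (x : X) := Subgroup.mem_zpowers _
      rw [h] at this
      exact Subgroup.mem_bot.1 this
    have hle : K ⊔ Subgroup.zpowers (x : X) ≤ K ⊔ R := sup_le_sup_left hE₁R K
    have hform₁ := Cfsg.Agent.Lib.Helper23.FrobF.formula K (Subgroup.zpowers (x : X)) M hE₁1
      (fun e he => hUn e (hE₁R he)) (fun e he => hfpf e (hE₁R he))
      (hle.trans hMn') hMsolv
      (Nat.Coprime.coprime_dvd_right (Subgroup.card_dvd_of_le hle) hcop.symm)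
    have hCK1 : M ⊓ Subgroup.centralizer ((K ⊔ Subgroup.zpowers (x : X) : Subgroup X) : Set X) = ⊥ := by
      rw [eq_bot_iff, ← hCK]
      exact inf_le_inf_left _ (Subgroup.centralizer_le
        (le_sup_left : K ≤ K ⊔ Subgroup.zpowers (x : X)))
    have hC₁ : M ⊓ Subgroup.centralizer ((Subgroup.zpowers (x : X) : Subgroup X) : Set X) =
        M ⊓ Subgroup.centralizer (R : Set X) := by
      rw [← hpr x x.2 hx1]
      congr 1
      ext y
      rw [Subgroup.mem_centralizer_iff, Subgroup.mem_centralizer_iff]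
      constructor
      · intro h g hg
        rw [Set.mem_singleton_iff.1 hg]
        exact h _ (Subgroup.mem_zpowers _)
      · intro h g hg
        obtain ⟨n, rfl⟩ := Subgroup.mem_zpowers_iff.1 hg
        have hc : Commute (x : X) y := h _ (Set.mem_singleton _)
        exact (hc.zpow_left n).eq
    rw [hCK1, hCK, hC₁, Subgroup.card_bot, one_pow, one_mul, mul_one, Nat.card_zpowers,
      Subgroup.orderOf_coe, hx] at hform₁
    have hc2 : 2 ≤ Nat.card ↥(M ⊓ Subgroup.centralizer (R : Set X)) := by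
      by_contra hcon
      have hpos : 0 < Nat.card ↥(M ⊓ Subgroup.centralizer (R : Set X)) := Nat.card_pos
      have h1 : Nat.card ↥(M ⊓ Subgroup.centralizer (R : Set X)) = 1 := by omega
      rw [h1, one_pow] at hform
      omega
    have := Nat.pow_right_injective hc2 (hform₁.symm.trans hform)
    rw [← this]
    exact hp
  · intro hcyc
    rw [Subgroup.le_centralizer_iff]
    have key : ∀ q : ℕ, q.Prime → ∃ P : Subgroup X,
        P ≤ M ⊓ Subgroup.centralizer ((⁅K, K⁆ : Subgroup X) : Set X) ∧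
        Nat.card P = q ^ (Nat.card M).factorization q := by
      intro q hq
      haveI : Fact q.Prime := ⟨hq⟩
      let Q : Sylow q M := default
      have hnorm : ∀ (p : ℕ) [Fact p.Prime] (P : Sylow p M), (P : Subgroup M).Normal :=
        ((Group.isNilpotent_of_finite_tfae (G := M)).out 0 3).mp hMn
      have hQn : (Q : Subgroup M).Normal := hnorm q Q
      have hQc : (Q : Subgroup M).Characteristic := Sylow.characteristic_of_normal Q hQn
      have hPM : (Q : Subgroup M).map M.subtype ≤ M := Subgroup.map_subtype_le _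
      have hPn : K ⊔ R ≤ Subgroup.normalizer (((Q : Subgroup M).map M.subtype : Subgroup X) : Set X) := by
        apply Cfsg.Agent.Lib.Helper23.FrobE.le_normalizer_of_conj_mem
        rintro a ha _ ⟨y, hy, rfl⟩
        have h1 := (Subgroup.characteristic_iff_map_eq.1 hQc)
          (Cfsg.Agent.Lib.Helper23.FrobF.theta (K ⊔ R) M hMn' ⟨a, ha⟩)
        have h2 : Cfsg.Agent.Lib.Helper23.FrobF.theta (K ⊔ R) M hMn' ⟨a, ha⟩ y ∈ (Q : Subgroup M) := by
          rw [← h1]
          exact Subgroup.mem_map_of_mem _ hy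
        exact ⟨_, h2, rfl⟩
      have hPq : IsPGroup q ↥((Q : Subgroup M).map M.subtype) := Q.isPGroup'.map M.subtype
      have hcopP : (Nat.card ↥((Q : Subgroup M).map M.subtype)).Coprime (Nat.card ↥(K ⊔ R)) :=
        Nat.Coprime.coprime_dvd_left (Subgroup.card_dvd_of_le hPM) hcop.symm
      have hCU : (Q : Subgroup M).map M.subtype ⊓ Subgroup.centralizer (K : Set X) = ⊥ := by
        rw [eq_bot_iff, ← hCK]
        exact inf_le_inf_right _ hPM
      have hCE : IsCyclic ↥((Q : Subgroup M).map M.subtype ⊓ Subgroup.centralizer (R : Set X)) :=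
        Subgroup.isCyclic_of_le (inf_le_inf_right _ hPM)
      have h3 := Cfsg.Agent.Lib.Helper23.FrobG.fine_pgroup_ambient K R _ hR1 hUn hfpf hPn q hPq
        hcopP hCU hCE
      refine ⟨(Q : Subgroup M).map M.subtype, le_inf hPM ((Subgroup.le_centralizer_iff).1 h3), ?_⟩
      rw [Subgroup.card_map_of_injective M.subtype_injective]
      exact Q.card_eq_multiplicity
    have hne : Nat.card M ≠ 0 := Nat.card_pos.ne'
    have hne' : Nat.card ↥(M ⊓ Subgroup.centralizer ((⁅K, K⁆ : Subgroup X) : Set X)) ≠ 0 :=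
      Nat.card_pos.ne'
    have hdvd : Nat.card M ∣ Nat.card ↥(M ⊓ Subgroup.centralizer ((⁅K, K⁆ : Subgroup X) : Set X)) := by
      rw [← Nat.factorization_prime_le_iff_dvd hne hne']
      intro q hq
      obtain ⟨P, hP, hPc⟩ := key q hq
      have := Subgroup.card_dvd_of_le hP
      rw [hPc] at this
      exact (hq.pow_dvd_iff_le_factorization hne').1 this
    have heq : M ⊓ Subgroup.centralizer ((⁅K, K⁆ : Subgroup X) : Set X) = M :=
      Subgroup.eq_of_le_of_card_ge inf_le_left (Nat.le_of_dvd Nat.card_pos hdvd)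
    rw [← heq]
    exact inf_le_right

end Cfsg.Agent.S1446
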