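import Cfsg.Statements.S1447
import Mathlib
import Cfsg.Agent.Lib.Helper14.CoprimeMeta
import Cfsg.Agent.Lib.Helper14.OmegaCount
import Cfsg.Agent.Lib.Helper13.Coprime

set_option autoImplicit false
set_option maxHeartbeats 1000000
open Cfsg

namespace Cfsg.Agent.S1447

open Cfsg.Agent.Lib.Helper14 Cfsg.Agent.Lib.Helper13
open scoped commutatorElement

/-- the conjugation action of a normalizing subgroup -/
@[reducible] def conjAct {G : Type*} [Group G] (B A : Subgroup G)
    (hAB : A ≤ Subgroup.normalizer (B : Set G)) : MulDistribMulAction A B :=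
  MulDistribMulAction.compHom B (B.normalizerMonoidHom.comp (Subgroup.inclusion hAB))

theorem conjAct_coe {G : Type*} [Group G] (B A : Subgroup G)
    (hAB : A ≤ Subgroup.normalizer (B : Set G)) (a : A) (b : B) :
    letI := conjAct B A hAB
    ((a • b : B) : G) = (a : G) * b * (a : G)⁻¹ := rfl

theorem actComm_conjAct_eq_top {G : Type*} [Group G] (B A : Subgroup G)
    (hAB : A ≤ Subgroup.normalizer (B : Set G)) (hBA : ⁅B, A⁆ = B) :
    letI := conjAct B A hAB
    actComm A B = ⊤ := by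
  letI := conjAct B A hAB
  rw [eq_top_iff]
  have h1 : B ≤ (actComm A B).map B.subtype := by
    have h0 : ⁅B, A⁆ ≤ (actComm A B).map B.subtype := by
      rw [Subgroup.commutator_le]
      intro b hb a ha
      refine ⟨((⟨a, ha⟩ : A) • (⟨b, hb⟩ : B) * (⟨b, hb⟩ : B)⁻¹)⁻¹,
        Subgroup.inv_mem _ (smul_mul_inv_mem_actComm _ _), ?_⟩
      simp only [Subgroup.coe_subtype, Subgroup.coe_inv, Subgroup.coe_mul, conjAct_coe]
      rw [commutatorElement_def]
      group
    rwa [hBA] at h0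
  intro x _
  obtain ⟨y, hy, hyx⟩ := h1 x.2
  have : y = x := Subtype.ext hyx
  rw [← this]; exact hy

/-- Let G be a finite group, p an odd prime, R a metacyclic p-subgroup and A a subgroup of order coprime to p normalizing R. Then [R, A] is abelian; R is generated by [R, A] and R ∩ C_G(A), which meet trivially; and if R is non-abelian and A does not centralize R, then [R, A] and R ∩ C_G(A) are nontrivial cyclic groups and [R, R] ≤ [R, A]. -/
theorem result {G : Type*} [Group G] [Finite G] (p : ℕ) [Fact p.Prime] (hp : p ≠ 2) (R A : Subgroup G) (hR : IsPGroup p R) (hRm : Cfsg.IsMetacyclic R)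
    (hA : (A ≤ Subgroup.normalizer (R : Set G))) (hcop : (Nat.card A).Coprime p) :
    IsMulCommutative ↥⁅R, A⁆ ∧ ⁅R, A⁆ ⊔ (R ⊓ Subgroup.centralizer (A : Set G)) = R ∧ ⁅R, A⁆ ⊓ (R ⊓ Subgroup.centralizer (A : Set G)) = ⊥ ∧
      (¬ IsMulCommutative R → ¬ A ≤ Subgroup.centralizer (R : Set G) →
        ⁅R, A⁆ ≠ ⊥ ∧ IsCyclic ↥⁅R, A⁆ ∧ (R ⊓ Subgroup.centralizer (A : Set G)) ≠ ⊥ ∧ IsCyclic ↥(R ⊓ Subgroup.centralizer (A : Set G)) ∧ ⁅R, R⁆ ≤ ⁅R, A⁆) := by
  classical
  have hpp : p.Prime := Fact.out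
  obtain ⟨n, hn⟩ := IsPGroup.iff_card.mp hR
  have hcop' : (Nat.card A).Coprime (Nat.card R) := by rw [hn]; exact hcop.pow_right n
  have hsolv : Group.IsSolvable A ∨ Group.IsSolvable R := by
    right
    haveI := hR.isNilpotent
    infer_instance
  set B : Subgroup G := ⁅R, A⁆ with hBdef
  set C : Subgroup G := R ⊓ Subgroup.centralizer (A : Set G) with hCdef
  have hBR : B ≤ R := commutator_le_of_le_normalizer R A hA
  have hsup : B ⊔ C = R := coprime_commutator_sup_centralizer A R hA hcop' hsolv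
  have hstab : ⁅B, A⁆ = B := coprime_commutator_stable A R hA hcop' hsolv
  have hnorm := le_normalizer_commutator R A
  have hAB : A ≤ Subgroup.normalizer (B : Set G) := le_sup_right.trans hnorm
  have hRB : R ≤ Subgroup.normalizer (B : Set G) := le_sup_left.trans hnorm
  have hBp : IsPGroup p B := hR.to_le hBR
  have hBm : IsMetacyclic B := isMetacyclic_of_le hBR hRm
  letI instB := conjAct B A hAB
  have hactB : actComm A B = ⊤ := actComm_conjAct_eq_top B A hAB hstab
  have hBcomm : ∀ x y : B, x * y = y * x := core hp hBp hBm hcop hactB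
  have h1 : IsMulCommutative B := ⟨⟨hBcomm⟩⟩
  have h3 : B ⊓ C = ⊥ := by
    rw [eq_bot_iff]
    rintro x ⟨hxB, hxR, hxC⟩
    rw [Subgroup.mem_bot]
    have hfix : ∀ a : A, a • (⟨x, hxB⟩ : B) = ⟨x, hxB⟩ := by
      intro a
      apply Subtype.ext
      rw [conjAct_coe]
      have := (Subgroup.mem_centralizer_iff.mp hxC) a a.2
      rw [this, mul_inv_cancel_right]
    have h4 := pow_card_eq_one_of_mem_actComm_of_fixed' (A := A) hBcomm
      (v := (⟨x, hxB⟩ : B)) (by rw [hactB]; trivial) hfix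
    have h5 : orderOf (⟨x, hxB⟩ : B) ∣ Nat.card A := orderOf_dvd_of_pow_eq_one h4
    obtain ⟨k, hk⟩ := (IsPGroup.iff_orderOf.mp hBp) ⟨x, hxB⟩
    have h6 : orderOf (⟨x, hxB⟩ : B) ∣ p ^ k := by rw [hk]
    have h7 := Nat.eq_one_of_dvd_coprimes (hcop.pow_right k) h5 h6
    have := orderOf_eq_one_iff.mp h7
    exact congrArg Subtype.val this
  refine ⟨h1, hsup, h3, ?_⟩
  intro hRnc hAnc
  have hBne : B ≠ ⊥ := by
    intro h
    apply hAnc
    rw [hBdef, Subgroup.commutator_eq_bot_iff_le_centralizer] at h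
    exact Subgroup.le_centralizer_iff.mp h
  have hCne : C ≠ ⊥ := by
    intro h
    apply hRnc
    rw [h, sup_bot_eq] at hsup
    rw [← hsup]
    exact h1
  have hCR : C ≤ R := inf_le_left
  have hBcyc : IsCyclic B :=
    isCyclic_of_inf_eq_bot_of_isMetacyclic hp R B C hR hRm hBR hCR h3 hCne
  have hCcyc : IsCyclic C :=
    isCyclic_of_inf_eq_bot_of_isMetacyclic hp R C B hR hRm hCR hBR (by rw [inf_comm]; exact h3) hBne
  refine ⟨hBne, hBcyc, hCne, hCcyc, ?_⟩
  -- R' ≤ B
  haveI hBsn : (B.subgroupOf R).Normal := (Subgroup.normal_subgroupOf_iff_le_normalizer hBR).mpr hRB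
  have hsup' : B.subgroupOf R ⊔ C.subgroupOf R = ⊤ := by
    rw [← Subgroup.subgroupOf_sup hBR hCR, hsup, Subgroup.subgroupOf_self]
  have hCcomm : ∀ x y : G, x ∈ C → y ∈ C → x * y = y * x := by
    intro x y hx hy
    haveI := hCcyc
    have := (IsCyclic.isMulCommutative (α := C)).is_comm.comm ⟨x, hx⟩ ⟨y, hy⟩
    exact congrArg Subtype.val this
  have hquot : ∀ x y : R ⧸ B.subgroupOf R, x * y = y * x := by
    intro x y
    obtain ⟨x, rfl⟩ := QuotientGroup.mk_surjective x
    obtain ⟨y, rfl⟩ := QuotientGroup.mk_surjective y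
    have hx : x ∈ B.subgroupOf R ⊔ C.subgroupOf R := by rw [hsup']; trivial
    have hy : y ∈ B.subgroupOf R ⊔ C.subgroupOf R := by rw [hsup']; trivial
    obtain ⟨b₁, hb₁, c₁, hc₁, rfl⟩ := Subgroup.mem_sup_of_normal_left.mp hx
    obtain ⟨b₂, hb₂, c₂, hc₂, rfl⟩ := Subgroup.mem_sup_of_normal_left.mp hy
    have e1 : (QuotientGroup.mk (b₁ * c₁) : R ⧸ B.subgroupOf R) = QuotientGroup.mk c₁ := by
      rw [QuotientGroup.mk_mul, (QuotientGroup.eq_one_iff b₁).mpr hb₁, one_mul]
    have e2 : (QuotientGroup.mk (b₂ * c₂) : R ⧸ B.subgroupOf R) = QuotientGroup.mk c₂ := by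
      rw [QuotientGroup.mk_mul, (QuotientGroup.eq_one_iff b₂).mpr hb₂, one_mul]
    rw [e1, e2, ← QuotientGroup.mk_mul, ← QuotientGroup.mk_mul]
    congr 1
    apply Subtype.ext
    rw [Subgroup.coe_mul, Subgroup.coe_mul]
    exact hCcomm _ _ (Subgroup.mem_subgroupOf.mp hc₁) (Subgroup.mem_subgroupOf.mp hc₂)
  have hqc : IsMulCommutative (R ⧸ B.subgroupOf R) := ⟨⟨hquot⟩⟩
  have hle := Subgroup.Normal.quotient_commutative_iff_commutator_le.mp hqc
  have h5 : ⁅R, R⁆ = (commutator R).map R.subtype := (Subgroup.map_subtype_commutator R).symm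
  rw [h5]
  intro x hx
  obtain ⟨y, hy, rfl⟩ := hx
  exact Subgroup.mem_subgroupOf.mp (hle hy)

end Cfsg.Agent.S1447
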