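import Mathlib
import Cfsg.Agent.Lib.Helper13.RankTwoAct
import Cfsg.Agent.Lib.Helper14.LinRep
import Cfsg.Statements.S1449
-- import your own Cfsg.Agent.* helpers here

set_option autoImplicit false
open Cfsg

namespace Cfsg.Agent.S1449

/-- Let G be a finite group, p an odd prime, R a p-subgroup with no elementary abelian subgroup of order p ^ 3, and A a solvable subgroup of odd order normalizing R with A ∩ C_G(R) = 1. Then the derived subgroup [A, A] is a p-group. -/
theorem result {G : Type*} [Group G] [Finite G] (p : ℕ) [Fact p.Prime] (hp : p ≠ 2) (R A : Subgroup G) (hR : IsPGroup p R) (hr : Cfsg.PRankLE p 2 R)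
    (hA : (A ≤ Subgroup.normalizer (R : Set G))) (hAs : Group.IsSolvable A) (hAodd : Odd (Nat.card A)) (hfaith : A ⊓ Subgroup.centralizer (R : Set G) = ⊥) :
    IsPGroup p ↥⁅A, A⁆ := by
  classical
  have hpp : p.Prime := Fact.out
  haveI : Group.IsSolvable ↥A := hAs
  let φ : ↥A →* MulAut ↥R := (Cfsg.Agent.Lib.Helper14.LinRep.conjAut R).comp (Subgroup.inclusion hA)
  have hφ : ∀ (a : ↥A) (r : ↥R), ((φ a r : ↥R) : G) = (a : G) * r * (a : G)⁻¹ := fun _ _ => rfl
  have key : ∀ x : ↥A, x ∈ commutator ↥A → (orderOf x).Coprime p → x = 1 := by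
    intro x hx hxo
    have h1 : φ x = 1 :=
      Cfsg.Agent.Lib.Helper13.RankTwoAct.act_trivial hp hR hr hAodd hAs φ x hx hxo
    have h2 : (x : G) ∈ A ⊓ Subgroup.centralizer (R : Set G) := by
      refine Subgroup.mem_inf.mpr ⟨x.2, ?_⟩
      rw [Subgroup.mem_centralizer_iff]
      intro r hr'
      have h3 := congrArg (fun f : MulAut ↥R => ((f ⟨r, hr'⟩ : ↥R) : G)) h1
      have h4 : (x : G) * r * (x : G)⁻¹ = r := h3
      calc r * (x : G) = ((x : G) * r * (x : G)⁻¹) * (x : G) := by rw [h4]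
        _ = (x : G) * r := by group
    rw [hfaith, Subgroup.mem_bot] at h2
    exact Subtype.ext h2
  have hmap : (commutator ↥A).map A.subtype = ⁅A, A⁆ := Subgroup.map_subtype_commutator A
  intro g
  obtain ⟨k, m, hm, hkm⟩ := Nat.exists_eq_pow_mul_and_not_dvd (orderOf_pos g).ne' p hpp.ne_one
  refine ⟨k, ?_⟩
  have h0 : (g : G) ∈ (commutator ↥A).map A.subtype := by rw [hmap]; exact g.2
  obtain ⟨a, ha, hag⟩ := h0
  have hgA : (g : G) ∈ A := by rw [← hag]; exact a.2
  have hgc : (⟨(g : G), hgA⟩ : ↥A) ∈ commutator ↥A := by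
    have : a = ⟨(g : G), hgA⟩ := Subtype.ext hag
    rw [← this]; exact ha
  have hpow : (⟨(g : G), hgA⟩ : ↥A) ^ (p ^ k) ∈ commutator ↥A := Subgroup.pow_mem _ hgc _
  have hord : orderOf ((⟨(g : G), hgA⟩ : ↥A) ^ (p ^ k)) = m := by
    have h1 : orderOf (⟨(g : G), hgA⟩ : ↥A) = orderOf g := by
      rw [← Subgroup.orderOf_coe, ← Subgroup.orderOf_coe g]
    rw [orderOf_pow_of_dvd (pow_ne_zero k hpp.ne_zero) (by rw [h1, hkm]; exact Dvd.intro _ rfl), h1, hkm]
    exact Nat.mul_div_cancel_left m (pow_pos hpp.pos k)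
  have h1 := key _ hpow (by
    rw [hord, Nat.coprime_comm, Nat.Prime.coprime_iff_not_dvd hpp]; exact hm)
  apply Subtype.ext
  have h2 := congrArg (fun a : ↥A => (a : G)) h1
  simpa using h2

end Cfsg.Agent.S1449
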