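import Mathlib
import Cfsg.Agent.Lib.Helper13.PRankQuot
import Cfsg.Agent.Lib.Helper13.RankTwoTower
import Cfsg.Statements.S1450
-- import your own Cfsg.Agent.* helpers here

set_option autoImplicit false
set_option maxHeartbeats 1000000
open Cfsg
open Cfsg.Agent.Lib.Helper20 Cfsg.Agent.Lib.Helper13.PRankQuot Cfsg.Agent.Lib.Helper13.RankTwoDerived Cfsg.Agent.Lib.Helper13.RankTwoTower Cfsg.Agent.Lib.Helper13.DerivedFitting Cfsg.Agent.Lib.Helper16

namespace Cfsg.Agent.S1450

/-- Let G be a solvable group of odd order, p a prime dividing its order with G having no elementary abelian subgroup of order p ^ 3. Then every prime dividing the index of O_{p'}(G) is at most p; if p = 3 or p is the smallest prime divisor of #G then G has a normal p-complement; the derived subgroup G' has a normal p-complement; every subgroup of G' of order coprime to p lies in O_{p'}(G'); and G/O_{p',p}(G) is abelian of order coprime to p. -/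
theorem result {G : Type*} [Group G] [Finite G] [Group.IsSolvable G] (hodd : Odd (Nat.card G)) (p : ℕ) [Fact p.Prime] (hpG : p ∣ Nat.card G) (hr : Cfsg.PRankLE p 2 G) :
    (∀ q : ℕ, q.Prime → q ∣ (Cfsg.pPrimeCore p G).index → q ≤ p) ∧
      ((p = 3 ∨ ∀ q : ℕ, q.Prime → q ∣ Nat.card G → p ≤ q) → Cfsg.HasNormalPComplement p G) ∧
      Cfsg.HasNormalPComplement p ↥(commutator G) ∧
      (∀ L : Subgroup ↥(commutator G), (Nat.card L).Coprime p → L ≤ Cfsg.pPrimeCore p ↥(commutator G)) ∧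
      commutator G ≤ Cfsg.pPrimePCore p G ∧ ((Cfsg.pPrimePCore p G).index).Coprime p := by
  classical
  haveI hsG : Group.IsSolvable G := inferInstance
  have hpp : p.Prime := Fact.out
  have hNp : (Nat.card (Cfsg.pPrimeCore p G)).Coprime p := pPrimeCore_coprime' p
  -- the quotient
  have hQs : Group.IsSolvable (G ⧸ (Cfsg.pPrimeCore p G)) := inferInstance
  have hQodd : Odd (Nat.card (G ⧸ (Cfsg.pPrimeCore p G))) := Odd.of_dvd_nat hodd (Subgroup.card_quotient_dvd_card (Cfsg.pPrimeCore p G))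
  have hQr : Cfsg.PRankLE p 2 (G ⧸ (Cfsg.pPrimeCore p G)) := prankLE_quotient_of_coprime (Cfsg.pPrimeCore p G) hNp hr
  have hQbot : Cfsg.pPrimeCore p (G ⧸ (Cfsg.pPrimeCore p G)) = ⊥ := by
    exact pPrimeCore_quotient_eq_bot p
  have hRr : Cfsg.PRankLE p 2 ↥(Cfsg.pCore p (G ⧸ (Cfsg.pPrimeCore p G))) :=
    prankLE_of_injective (Cfsg.pCore p (G ⧸ (Cfsg.pPrimeCore p G))).subtype (Subgroup.subtype_injective _) hQr
  have hFit : Cfsg.fittingSubgroup (G ⧸ (Cfsg.pPrimeCore p G)) = Cfsg.pCore p (G ⧸ (Cfsg.pPrimeCore p G)) :=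
    fitting_eq_pCore_of_pPrimeCore_eq_bot p hQbot
  have hRp : IsPGroup p ↥(Cfsg.pCore p (G ⧸ (Cfsg.pPrimeCore p G))) := pCore_isPGroup' p
  have hDR : commutator (G ⧸ (Cfsg.pPrimeCore p G)) ≤ Cfsg.pCore p (G ⧸ (Cfsg.pPrimeCore p G)) := by
    rw [← hFit]
    apply commutator_le_fitting hQs
    intro q hq y hy hyo
    by_cases hqp : q = p
    · subst hqp
      exact mem_centralizer_pCore_of_prankLE hQs hQodd q hq hRr y hy hyo
    · haveI : Fact q.Prime := ⟨hq⟩
      have hle : Cfsg.pCore q (G ⧸ (Cfsg.pPrimeCore p G)) ≤ Cfsg.pPrimeCore p (G ⧸ (Cfsg.pPrimeCore p G)) := by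
        apply le_pPrimeCore' (Cfsg.pCore_normal q (G ⧸ (Cfsg.pPrimeCore p G)))
        obtain ⟨n, hn⟩ := IsPGroup.iff_card.mp (pCore_isPGroup' (G := G ⧸ (Cfsg.pPrimeCore p G)) q)
        rw [hn]
        exact Nat.Coprime.pow_left n ((Nat.coprime_primes hq hpp).mpr hqp)
      rw [hQbot] at hle
      rw [Subgroup.mem_centralizer_iff]
      intro h hh
      have := hle hh
      rw [Subgroup.mem_bot] at this
      rw [this, one_mul, mul_one]
  have hCR : Subgroup.centralizer (Cfsg.pCore p (G ⧸ (Cfsg.pPrimeCore p G)) : Set (G ⧸ (Cfsg.pPrimeCore p G))) ≤ Cfsg.pCore p (G ⧸ (Cfsg.pPrimeCore p G)) :=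
    solvable_centralizer_pCore_le p hQbot
  have hmapD : ∀ x : G, x ∈ commutator G → (QuotientGroup.mk' (Cfsg.pPrimeCore p G) x) ∈ commutator (G ⧸ (Cfsg.pPrimeCore p G)) := by
    intro x hx
    have h1 : (commutator G).map (QuotientGroup.mk' (Cfsg.pPrimeCore p G)) ≤ commutator (G ⧸ (Cfsg.pPrimeCore p G)) := by
      rw [commutator_def, Subgroup.map_commutator, commutator_def]
      exact Subgroup.commutator_mono le_top le_top
    exact h1 ⟨x, hx, rfl⟩
  -- part (1)
  have h1 : ∀ q : ℕ, q.Prime → q ∣ (Cfsg.pPrimeCore p G).index → q ≤ p := by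
    intro q hq hqd
    by_contra hlt
    rw [not_le] at hlt
    haveI : Fact q.Prime := ⟨hq⟩
    rw [Subgroup.index_eq_card] at hqd
    obtain ⟨y, hy⟩ := exists_prime_orderOf_dvd_card' q hqd
    have hyc : y ∈ Subgroup.centralizer (Cfsg.pCore p (G ⧸ (Cfsg.pPrimeCore p G)) : Set (G ⧸ (Cfsg.pPrimeCore p G))) :=
      mem_centralizer_pCore_of_lt hQodd p q hpp hq hlt hRr y 1 (by rw [pow_one, ← hy, pow_orderOf_eq_one])
    have hyR := hCR hyc
    obtain ⟨k, hk⟩ := hRp ⟨y, hyR⟩
    have hk' : y ^ (p ^ k) = 1 := by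
      have := congrArg Subtype.val hk
      simpa using this
    have hdvd : q ∣ p ^ k := by rw [← hy]; exact orderOf_dvd_of_pow_eq_one hk'
    have := (Nat.prime_dvd_prime_iff_eq hq hpp).mp (hq.dvd_of_dvd_pow hdvd)
    omega
  -- the derived group
  obtain ⟨f, hf⟩ : ∃ f : ↥(commutator G) →* (G ⧸ (Cfsg.pPrimeCore p G)),
      f = (QuotientGroup.mk' (Cfsg.pPrimeCore p G)).comp (commutator G).subtype := ⟨_, rfl⟩
  have hfR : ∀ x : ↥(commutator G), f x ∈ Cfsg.pCore p (G ⧸ (Cfsg.pPrimeCore p G)) := by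
    intro x
    rw [hf]
    exact hDR (hmapD x x.2)
  have hker : f.ker = (Cfsg.pPrimeCore p G).subgroupOf (commutator G) := by
    ext x
    rw [MonoidHom.mem_ker, Subgroup.mem_subgroupOf, hf]
    exact QuotientGroup.eq_one_iff _
  have hkerp : (Nat.card f.ker).Coprime p := by
    rw [hker]
    have : Nat.card ((Cfsg.pPrimeCore p G).subgroupOf (commutator G)) ∣ Nat.card (Cfsg.pPrimeCore p G) := by
      rw [← Subgroup.card_map_of_injective (Subgroup.subtype_injective (commutator G)),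
        Subgroup.subgroupOf_map_subtype]
      exact Subgroup.card_dvd_of_le inf_le_left
    exact Nat.Coprime.coprime_dvd_left this hNp
  have hkeridx : ∃ n : ℕ, f.ker.index = p ^ n := by
    rw [Subgroup.index_ker]
    have hle : f.range ≤ Cfsg.pCore p (G ⧸ (Cfsg.pPrimeCore p G)) := by
      rintro _ ⟨x, rfl⟩
      exact hfR x
    have : IsPGroup p ↥f.range := hRp.to_le hle
    exact IsPGroup.iff_card.mp this
  have hkerle : f.ker ≤ Cfsg.pPrimeCore p ↥(commutator G) :=
    le_pPrimeCore' (MonoidHom.normal_ker f) hkerp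
  refine ⟨?_, ?_, ?_, ?_, ?_, ?_⟩
  · exact h1
  · intro hcase
    have hall : ∀ {d : ℕ}, d.Prime → d ∣ (Cfsg.pPrimeCore p G).index → d = p := by
      intro d hd hdd
      have hle := h1 d hd hdd
      have hdG : d ∣ Nat.card G := hdd.trans (Subgroup.index_dvd_card (Cfsg.pPrimeCore p G))
      rcases hcase with h3 | hmin
      · have hd2 : d ≠ 2 := by
          rintro rfl
          exact (Nat.not_even_iff_odd.mpr hodd) (even_iff_two_dvd.mpr hdG)
        have := hd.two_le
        omega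
      · have := hmin d hd hdG
        omega
    have hidx := Nat.eq_prime_pow_of_unique_prime_dvd (Subgroup.index_ne_zero_of_finite (H := (Cfsg.pPrimeCore p G))) hall
    exact hasNormalPComplement_of_coprime_of_index (Cfsg.pPrimeCore p G) hNp _ hidx
  · obtain ⟨n, hn⟩ := hkeridx
    haveI := MonoidHom.normal_ker f
    exact hasNormalPComplement_of_coprime_of_index f.ker hkerp n hn
  · intro L hL
    refine le_trans ?_ hkerle
    intro l hl
    rw [MonoidHom.mem_ker]
    obtain ⟨k, hk⟩ := hRp ⟨f l, hfR l⟩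
    have hk' : (f l) ^ (p ^ k) = 1 := by
      have := congrArg Subtype.val hk
      simpa using this
    have ho1 : orderOf (f l) ∣ p ^ k := orderOf_dvd_of_pow_eq_one hk'
    have ho2 : orderOf (f l) ∣ Nat.card L := by
      have h2 : orderOf l ∣ Nat.card L := by
        have := orderOf_dvd_natCard (⟨l, hl⟩ : ↥L)
        rwa [Subgroup.orderOf_mk] at this
      exact (orderOf_map_dvd f l).trans h2
    have hcop : (Nat.card L).Coprime (p ^ k) := Nat.Coprime.pow_right k hL
    have := Nat.eq_one_of_dvd_coprimes hcop ho2 ho1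
    exact orderOf_eq_one_iff.mp this
  · intro x hx
    unfold Cfsg.pPrimePCore
    rw [Subgroup.mem_comap]
    exact hDR (hmapD x hx)
  · unfold Cfsg.pPrimePCore
    rw [Subgroup.index_comap_of_surjective _ (QuotientGroup.mk'_surjective (Cfsg.pPrimeCore p G))]
    obtain ⟨P⟩ : Nonempty (Sylow p (G ⧸ (Cfsg.pPrimeCore p G))) := inferInstance
    have hRP : Cfsg.pCore p (G ⧸ (Cfsg.pPrimeCore p G)) ≤ (P : Subgroup (G ⧸ (Cfsg.pPrimeCore p G))) := pCore_le_sylow P
    have hPn : (P : Subgroup (G ⧸ (Cfsg.pPrimeCore p G))).Normal := normal_of_commutator_le _ (hDR.trans hRP)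
    have hPR : (P : Subgroup (G ⧸ (Cfsg.pPrimeCore p G))) ≤ Cfsg.pCore p (G ⧸ (Cfsg.pPrimeCore p G)) := le_pCore' hPn P.2
    rw [le_antisymm hRP hPR]
    exact ((Nat.Prime.coprime_iff_not_dvd hpp).mpr P.not_dvd_index).symm

end Cfsg.Agent.S1450
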