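import Mathlib
import Cfsg.Statements.S1453
import Cfsg.Agent.S0100
import Cfsg.Agent.Lib.Helper10.PGroupCentral

set_option autoImplicit false
open Cfsg

namespace Cfsg.Agent.S1453

open scoped commutatorElement
open Cfsg.Agent.Lib.Helper10

/-- Let p be an odd prime and R a finite p-group with an elementary abelian subgroup of order p ^ 3 and an elementary abelian subgroup E of order p ^ 2 contained in no larger elementary abelian subgroup. Let Z₂ be the second centre of R, W the subgroup generated by the elements of Z₂ of order dividing p, and T = C_R(W). Then E is not contained in T; the elements of order dividing p of the centre of R generate a group of order p; W is elementary abelian of order p ^ 2; and T is characteristic in R of index p. -/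
theorem result {R : Type*} [Group R] [Finite R] (p : ℕ) [Fact p.Prime] (hp : p ≠ 2) (hR : IsPGroup p R) (hr : ¬ Cfsg.PRankLE p 2 R)
    (E : Subgroup R) (hE : Cfsg.IsElementaryAbelian p E) (hE2 : Nat.card E = p ^ 2)
    (hEmax : ∀ B : Subgroup R, Cfsg.IsElementaryAbelian p B → E ≤ B → B = E) :
    ¬ E ≤ Subgroup.centralizer ((Subgroup.closure {x : R | x ∈ Subgroup.upperCentralSeries R 2 ∧ x ^ p = 1} : Subgroup R) : Set R) ∧
      Nat.card ↥(Subgroup.closure {x : R | x ∈ Subgroup.center R ∧ x ^ p = 1}) = p ∧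
      (Cfsg.IsElementaryAbelian p (Subgroup.closure {x : R | x ∈ Subgroup.upperCentralSeries R 2 ∧ x ^ p = 1}) ∧
        Nat.card ↥(Subgroup.closure {x : R | x ∈ Subgroup.upperCentralSeries R 2 ∧ x ^ p = 1}) = p ^ 2) ∧
      (Subgroup.centralizer ((Subgroup.closure {x : R | x ∈ Subgroup.upperCentralSeries R 2 ∧ x ^ p = 1} : Subgroup R) : Set R)).Characteristic ∧
      (Subgroup.centralizer ((Subgroup.closure {x : R | x ∈ Subgroup.upperCentralSeries R 2 ∧ x ^ p = 1} : Subgroup R) : Set R)).index = p := by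
  classical
  have hpp : p.Prime := Fact.out
  obtain ⟨hEc, hEe⟩ := hE
  have hEcomm : ∀ a ∈ E, ∀ b ∈ E, a * b = b * a := by
    intro a ha b hb
    have := hEc.is_comm.comm (⟨a, ha⟩ : E) ⟨b, hb⟩
    exact congrArg Subtype.val this
  have mkEA : ∀ B : Subgroup R, (∀ a ∈ B, ∀ b ∈ B, a * b = b * a) → (∀ a ∈ B, a ^ p = 1) →
      Cfsg.IsElementaryAbelian p B := by
    intro B h1 h2
    exact ⟨⟨⟨fun u v => Subtype.ext (h1 u.1 u.2 v.1 v.2)⟩⟩, h2⟩
  -- an elementary abelian subgroup of order more than `p ^ 2`
  obtain ⟨F, hFc, hFe, hFcard⟩ : ∃ F : Subgroup R, IsMulCommutative F ∧ (∀ a ∈ F, a ^ p = 1) ∧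
      p ^ 2 < Nat.card F := by
    unfold Cfsg.PRankLE at hr
    push Not at hr
    exact hr
  have hFcomm : ∀ a ∈ F, ∀ b ∈ F, a * b = b * a := by
    intro a ha b hb
    have := hFc.is_comm.comm (⟨a, ha⟩ : F) ⟨b, hb⟩
    exact congrArg Subtype.val this
  -- absorption
  have absorb : ∀ f : R, f ∈ Subgroup.centralizer (E : Set R) → f ^ p = 1 → f ∈ E := by
    intro f hf hfp
    obtain ⟨h1, h2⟩ := elemAb_sup_zpowers E hEcomm hEe f hf hfp
    have := hEmax _ (mkEA _ h1 h2) le_sup_left
    rw [← this]
    exact Subgroup.mem_sup_right (Subgroup.mem_zpowers f)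
  -- key: the centralizer of `E` has index more than `p`
  have key : (Subgroup.centralizer (E : Set R)).index ≤ p → False := by
    intro hidx
    have hrel : (Subgroup.centralizer (E : Set R)).relIndex F ≤ p := by
      have h1 := Subgroup.relIndex_le_of_le_right (H := Subgroup.centralizer (E : Set R))
        (K := F) (L := ⊤) le_top (by
          rw [Subgroup.relIndex_top_right]; exact Subgroup.index_ne_zero_of_finite)
      rw [Subgroup.relIndex_top_right] at h1
      exact h1.trans hidx
    have hmul : Nat.card ↥(F ⊓ Subgroup.centralizer (E : Set R)) *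
        (Subgroup.centralizer (E : Set R)).relIndex F = Nat.card F := by
      have h1 := Subgroup.relIndex_mul_relIndex (H := (⊥ : Subgroup R))
        (K := F ⊓ Subgroup.centralizer (E : Set R)) (L := F) bot_le inf_le_left
      rw [Subgroup.relIndex_bot_left, Subgroup.relIndex_bot_left, inf_comm,
        Subgroup.inf_relIndex_right] at h1
      rw [inf_comm]
      exact h1
    have hFE : F ⊓ Subgroup.centralizer (E : Set R) ≤ E := by
      intro f hf
      exact absorb f (Subgroup.mem_inf.mp hf).2 (hFe f (Subgroup.mem_inf.mp hf).1)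
    obtain ⟨i, hi⟩ := (hR.to_subgroup (F ⊓ Subgroup.centralizer (E : Set R))).exists_card_eq
    obtain ⟨j, hj⟩ := (hR.to_subgroup F).exists_card_eq
    have hj3 : 3 ≤ j := by
      by_contra hcon
      rw [hj] at hFcard
      have : p ^ j ≤ p ^ 2 := Nat.pow_le_pow_right hpp.pos (by omega)
      omega
    have hi2 : 2 ≤ i := by
      by_contra hcon
      have h1 : p ^ i ≤ p ^ 1 := Nat.pow_le_pow_right hpp.pos (by omega)
      have h2 : p ^ 3 ≤ p ^ j := Nat.pow_le_pow_right hpp.pos hj3
      rw [hi, hj] at hmul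
      have h3 : p ^ i * (Subgroup.centralizer (E : Set R)).relIndex F ≤ p ^ 1 * p :=
        Nat.mul_le_mul h1 hrel
      have h4 : p ^ 1 * p = p ^ 2 := by ring
      have h5 : p ^ 2 < p ^ 3 := Nat.pow_lt_pow_right hpp.one_lt (by omega)
      omega
    have hge : Nat.card E ≤ Nat.card ↥(F ⊓ Subgroup.centralizer (E : Set R)) := by
      rw [hE2, hi]; exact Nat.pow_le_pow_right hpp.pos hi2
    have heq : F ⊓ Subgroup.centralizer (E : Set R) = E := Subgroup.eq_of_le_of_card_ge hFE hge
    have hEF : E ≤ F := by rw [← heq]; exact inf_le_left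
    have hFC : F ≤ Subgroup.centralizer (E : Set R) := by
      intro f hf
      rw [Subgroup.mem_centralizer_iff]
      intro e he
      exact hFcomm e (hEF he) f hf
    have hFE' : F ≤ E := by rw [← heq]; exact le_inf le_rfl hFC
    have := Subgroup.card_le_of_le hFE'
    omega
  -- the subgroup `Zc = Ω₁(Z(R))`
  set Zc : Subgroup R := Subgroup.closure {x : R | x ∈ Subgroup.center R ∧ x ^ p = 1} with hZc
  have hZcprop : ∀ z ∈ Zc, z ∈ Subgroup.center R ∧ z ^ p = 1 := by
    intro z hz
    refine ⟨?_, ?_⟩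
    · have hle : Zc ≤ Subgroup.center R := by
        rw [hZc, Subgroup.closure_le]
        intro x hx
        exact hx.1
      exact hle hz
    · refine (closure_elemAb _ ?_ ?_).2 z hz
      · intro x hx y _
        exact (Subgroup.mem_center_iff.mp hx.1 y).symm
      · intro x hx
        exact hx.2
  have hZcmem : ∀ z : R, z ∈ Subgroup.center R → z ^ p = 1 → z ∈ Zc := fun z h1 h2 =>
    Subgroup.subset_closure ⟨h1, h2⟩
  have hZcE : Zc ≤ E := by
    intro z hz
    obtain ⟨h1, h2⟩ := hZcprop z hz
    apply absorb z _ h2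
    rw [Subgroup.mem_centralizer_iff]
    intro e _
    exact (Subgroup.mem_center_iff.mp h1 e)
  have hZcne : Zc ≠ ⊥ := by
    have hnt : ¬ (⊤ : Subgroup R) ≤ ⊥ := by
      intro h
      have h1 : E = ⊥ := eq_bot_iff.mpr (le_top.trans h)
      rw [h1, Subgroup.card_bot] at hE2
      have : 1 < p ^ 2 := Nat.one_lt_pow (by norm_num) hpp.one_lt
      omega
    obtain ⟨x, _, hx1, hx2, hx3⟩ := exists_central_mod hR ⊥ ⊤ hnt
    intro hbot
    apply hx1
    have hxZ : x ∈ Zc := by
      apply hZcmem
      · rw [Subgroup.mem_center_iff]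
        intro g
        have := hx3 g
        rw [Subgroup.mem_bot] at this
        exact ((commutatorElement_eq_one_iff_commute.mp this).eq).symm
      · exact Subgroup.mem_bot.mp hx2
    rw [hbot] at hxZ
    exact hxZ
  have hZcneE : Zc ≠ E := by
    intro h
    apply key
    have : Subgroup.centralizer (E : Set R) = ⊤ := by
      rw [Subgroup.centralizer_eq_top_iff_subset]
      intro e he
      rw [← h] at he
      exact (hZcprop e he).1
    rw [this, Subgroup.index_top]
    exact hpp.one_lt.le
  have hZccard : Nat.card Zc = p := by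
    obtain ⟨i, hi⟩ := (hR.to_subgroup Zc).exists_card_eq
    have hlt : Zc < E := lt_of_le_of_ne hZcE hZcneE
    have h1 : Nat.card Zc < Nat.card E :=
      Set.ncard_lt_ncard (s := (Zc : Set R)) (t := (E : Set R)) hlt
    rw [hi, hE2] at h1
    have hi2 : i < 2 := (Nat.pow_lt_pow_iff_right hpp.one_lt).mp h1
    have hi0 : i ≠ 0 := by
      intro h0
      rw [h0, pow_zero] at hi
      exact hZcne (Subgroup.card_eq_one.mp hi)
    have : i = 1 := by omega
    rw [hi, this, pow_one]
  have hZcn : Zc.Normal := by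
    constructor
    intro z hz g
    have := Subgroup.mem_center_iff.mp (hZcprop z hz).1 g
    rw [this]
    simpa using hz
  -- membership in the second centre
  have hZ2 : ∀ x : R, x ∈ Subgroup.upperCentralSeries R 2 ↔ ∀ y : R, ⁅x, y⁆ ∈ Subgroup.center R := by
    intro x
    rw [Subgroup.mem_upperCentralSeries_succ_iff, Subgroup.upperCentralSeries_one]
  have hdvd : p ∣ (p ^ 1).choose 2 := hpp.dvd_choose_pow (by norm_num) (by
    rw [pow_one]; exact Ne.symm hp)
  rw [pow_one] at hdvd
  -- the subgroup `W`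
  let Wsub : Subgroup R :=
    { carrier := {x : R | x ∈ Subgroup.upperCentralSeries R 2 ∧ x ^ p = 1}
      one_mem' := ⟨Subgroup.one_mem _, one_pow p⟩
      mul_mem' := by
        rintro x y ⟨hx1, hx2⟩ ⟨hy1, hy2⟩
        refine ⟨Subgroup.mul_mem _ hx1 hy1, ?_⟩
        have hc : ⁅y, x⁆ ∈ Subgroup.center R := (hZ2 y).mp hy1 x
        have hca : Commute ⁅y, x⁆ x := (Subgroup.mem_center_iff.mp hc x).symm
        have hcb : Commute ⁅y, x⁆ y := (Subgroup.mem_center_iff.mp hc y).symm
        have hcp : ⁅y, x⁆ ^ p = 1 := by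
          rw [← commElt_pow_left_of_central hc, hy2, commutatorElement_one_left]
        rw [mul_pow_class_two rfl hca hcb p, hx2, hy2, one_mul, one_mul]
        obtain ⟨t, ht⟩ := hdvd
        rw [ht, pow_mul, hcp, one_pow]
      inv_mem' := by
        rintro x ⟨hx1, hx2⟩
        exact ⟨Subgroup.inv_mem _ hx1, by rw [inv_pow, hx2, inv_one]⟩ }
  set W : Subgroup R :=
    Subgroup.closure {x : R | x ∈ Subgroup.upperCentralSeries R 2 ∧ x ^ p = 1} with hW
  have hWeq : W = Wsub := Subgroup.closure_eq Wsub
  have hWprop : ∀ w ∈ W, (∀ y : R, ⁅w, y⁆ ∈ Subgroup.center R) ∧ w ^ p = 1 := by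
    intro w hw
    rw [hWeq] at hw
    exact ⟨(hZ2 w).mp hw.1, hw.2⟩
  have hWmem : ∀ w : R, (∀ y : R, ⁅w, y⁆ ∈ Subgroup.center R) → w ^ p = 1 → w ∈ W := fun w h1 h2 =>
    Subgroup.subset_closure ⟨(hZ2 w).mpr h1, h2⟩
  have hZcW : Zc ≤ W := by
    intro z hz
    obtain ⟨h1, h2⟩ := hZcprop z hz
    apply hWmem z _ h2
    intro y
    rw [commutatorElement_eq_one_iff_commute.mpr (Subgroup.mem_center_iff.mp h1 y).symm]
    exact Subgroup.one_mem _
  have hWchar : W.Characteristic := by
    rw [Subgroup.characteristic_iff_map_le]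
    intro φ
    rw [hW, MonoidHom.map_closure, Subgroup.closure_le]
    rintro _ ⟨x, ⟨hx1, hx2⟩, rfl⟩
    apply Subgroup.subset_closure
    refine ⟨?_, ?_⟩
    · have := Subgroup.characteristic_iff_map_le.mp
        (inferInstance : (Subgroup.upperCentralSeries R 2).Characteristic) φ
      exact this ⟨x, hx1, rfl⟩
    · show (φ x) ^ p = 1
      rw [← map_pow, hx2, map_one]
  haveI := hWchar
  have hWn : W.Normal := inferInstance
  -- `W` is strictly larger than `Zc`
  have hWcard2 : p ^ 2 ≤ Nat.card W := by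
    obtain ⟨B, hBn, hBc, hBe, hBcard⟩ : ∃ B : Subgroup R, B.Normal ∧ IsMulCommutative B ∧
        (∀ b ∈ B, b ^ p = 1) ∧ Nat.card B = p ^ 3 := by
      by_contra hcon
      push Not at hcon
      apply hr
      intro E' hE'c hE'e
      exact Cfsg.Agent.S0100.result hp hR (fun A hAn hAc hAe => hcon A hAn hAc hAe) E' hE'c hE'e
    haveI := hBn
    have hBZ : ¬ B ≤ Subgroup.center R := by
      intro hle
      have hBZc : B ≤ Zc := fun b hb => hZcmem b (hle hb) (hBe b hb)
      have := Subgroup.card_le_of_le hBZc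
      rw [hBcard, hZccard] at this
      have h3 : p ^ 1 < p ^ 3 := Nat.pow_lt_pow_right hpp.one_lt (by norm_num)
      rw [pow_one] at h3
      omega
    obtain ⟨x, hxB, hxZ, _, hxc⟩ := exists_central_mod hR (Subgroup.center R) B hBZ
    have hxW : x ∈ W := hWmem x hxc (hBe x hxB)
    have hlt : Zc < W := by
      refine lt_of_le_of_ne hZcW (fun h => hxZ ?_)
      rw [← h] at hxW
      exact (hZcprop x hxW).1
    have h1 : Nat.card Zc < Nat.card W :=
      Set.ncard_lt_ncard (s := (Zc : Set R)) (t := (W : Set R)) hlt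
    obtain ⟨j, hj⟩ := (hR.to_subgroup W).exists_card_eq
    rw [hZccard, hj] at h1
    rw [hj]
    have : 1 < j := by
      have h2 : p ^ 1 < p ^ j := by rw [pow_one]; exact h1
      exact (Nat.pow_lt_pow_iff_right hpp.one_lt).mp h2
    exact Nat.pow_le_pow_right hpp.pos this
  -- `E` does not centralize `W`
  have hET : ¬ E ≤ Subgroup.centralizer (W : Set R) := by
    intro hle
    have hWE : W ≤ E := by
      intro w hw
      apply absorb w _ (hWprop w hw).2
      exact (Subgroup.le_centralizer_iff.mp hle) hw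
    have heq : W = E := Subgroup.eq_of_le_of_card_ge hWE (by rw [hE2]; exact hWcard2)
    apply key
    haveI : E.Normal := heq ▸ hWn
    exact index_centralizer_le_of_card_le_sq hR E (le_of_eq hE2)
  obtain ⟨x, hxE, hxT⟩ := SetLike.not_le_iff_exists.mp hET
  have hxZc : x ∉ Zc := by
    intro h
    apply hxT
    rw [Subgroup.mem_centralizer_iff]
    intro w _
    exact (Subgroup.mem_center_iff.mp (hZcprop x h).1 w)
  have hEeq : Zc ⊔ Subgroup.zpowers x = E := by
    have hle : Zc ⊔ Subgroup.zpowers x ≤ E :=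
      sup_le hZcE (by rw [Subgroup.zpowers_le]; exact hxE)
    have hlt' : Zc < Zc ⊔ Subgroup.zpowers x := by
      refine lt_of_le_of_ne le_sup_left (fun h => hxZc ?_)
      rw [h]
      exact Subgroup.mem_sup_right (Subgroup.mem_zpowers x)
    have h1 : Nat.card Zc < Nat.card ↥(Zc ⊔ Subgroup.zpowers x) :=
      Set.ncard_lt_ncard (s := (Zc : Set R))
        (t := ((Zc ⊔ Subgroup.zpowers x : Subgroup R) : Set R)) hlt'
    obtain ⟨j, hj⟩ := (hR.to_subgroup (Zc ⊔ Subgroup.zpowers x)).exists_card_eq
    rw [hZccard, hj] at h1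
    have : 1 < j := by
      have h2 : p ^ 1 < p ^ j := by rw [pow_one]; exact h1
      exact (Nat.pow_lt_pow_iff_right hpp.one_lt).mp h2
    apply Subgroup.eq_of_le_of_card_ge hle
    rw [hj, hE2]
    exact Nat.pow_le_pow_right hpp.pos this
  have hcenE : ∀ g : R, g * x = x * g → g ∈ Subgroup.centralizer (E : Set R) := by
    intro g hg
    have hsub : E ≤ Subgroup.centralizer ({g} : Set R) := by
      rw [← hEeq]
      refine sup_le ?_ ?_
      · intro z hz
        rw [Subgroup.mem_centralizer_iff]
        intro y hy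
        rw [Set.mem_singleton_iff.mp hy]
        exact (Subgroup.mem_center_iff.mp (hZcprop z hz).1 g)
      · rw [Subgroup.zpowers_le, Subgroup.mem_centralizer_iff]
        intro y hy
        rw [Set.mem_singleton_iff.mp hy]
        exact hg
    rw [Subgroup.mem_centralizer_iff]
    intro e he
    exact (Subgroup.mem_centralizer_iff.mp (hsub he) g rfl).symm
  -- `x` is not in `W`
  have hxW : x ∉ W := by
    intro h
    apply key
    have hxc : ∀ g : R, ⁅x, g⁆ ∈ Zc := by
      intro g
      have hc := (hWprop x h).1 g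
      apply hZcmem _ hc
      rw [← commElt_pow_left_of_central hc, hxE |> hEe x, commutatorElement_one_left]
    haveI := hZcn
    haveI : E.Normal := hEeq ▸ sup_zpowers_normal Zc x hxc
    exact index_centralizer_le_of_card_le_sq hR E (le_of_eq hE2)
  -- the order of `W`
  have hWcard : Nat.card W = p ^ 2 := by
    apply le_antisymm _ hWcard2
    -- the homomorphism `w ↦ ⁅w, x⁆`
    have hval : ∀ w : W, ⁅(w : R), x⁆ ∈ Zc := by
      intro w
      have hc := (hWprop w.1 w.2).1 x
      apply hZcmem _ hc
      rw [← commElt_pow_left_of_central hc, (hWprop w.1 w.2).2, commutatorElement_one_left]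
    let ψ : W →* Zc :=
      { toFun := fun w => ⟨⁅(w : R), x⁆, hval w⟩
        map_one' := by
          apply Subtype.ext
          simp
        map_mul' := by
          intro u v
          apply Subtype.ext
          show ⁅(u : R) * v, x⁆ = ⁅(u : R), x⁆ * ⁅(v : R), x⁆
          exact commElt_mul_left_of_central ((hWprop v.1 v.2).1 x) }
    have hker : ψ.ker.map W.subtype ≤ W ⊓ E := by
      rintro _ ⟨w, hw, rfl⟩
      refine Subgroup.mem_inf.mpr ⟨w.2, ?_⟩
      rw [SetLike.mem_coe, MonoidHom.mem_ker] at hw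
      have h1 : ⁅(w : R), x⁆ = 1 := congrArg Subtype.val hw
      apply absorb _ _ (hWprop w.1 w.2).2
      apply hcenE
      exact (commutatorElement_eq_one_iff_commute.mp h1).eq
    have hWE : Nat.card ↥(W ⊓ E) ≤ p := by
      have hlt : W ⊓ E < E := by
        refine lt_of_le_of_ne inf_le_right (fun h => hxW ?_)
        have : x ∈ W ⊓ E := by rw [h]; exact hxE
        exact (Subgroup.mem_inf.mp this).1
      have h1 : Nat.card ↥(W ⊓ E) < Nat.card E :=
        Set.ncard_lt_ncard (s := ((W ⊓ E : Subgroup R) : Set R)) (t := (E : Set R)) hlt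
      obtain ⟨j, hj⟩ := (hR.to_subgroup (W ⊓ E)).exists_card_eq
      rw [hj, hE2] at h1
      have hj2 : j < 2 := (Nat.pow_lt_pow_iff_right hpp.one_lt).mp h1
      rw [hj]
      calc p ^ j ≤ p ^ 1 := Nat.pow_le_pow_right hpp.pos (by omega)
        _ = p := pow_one p
    have h1 : Nat.card ψ.ker * ψ.ker.index = Nat.card W := Subgroup.card_mul_index ψ.ker
    have h2 : ψ.ker.index = Nat.card ψ.range := Subgroup.index_ker ψ
    have h3 : Nat.card ψ.range ≤ Nat.card Zc :=
      Nat.card_le_card_of_injective _ Subtype.val_injective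
    have h4 : Nat.card ψ.ker = Nat.card ↥(ψ.ker.map W.subtype) :=
      (Nat.card_congr (ψ.ker.equivMapOfInjective W.subtype W.subtype_injective).toEquiv)
    have h5 : Nat.card ↥(ψ.ker.map W.subtype) ≤ Nat.card ↥(W ⊓ E) := Subgroup.card_le_of_le hker
    rw [hZccard] at h3
    calc Nat.card W = Nat.card ψ.ker * ψ.ker.index := h1.symm
      _ ≤ p * p := Nat.mul_le_mul (by omega) (by omega)
      _ = p ^ 2 := (sq p).symm
  -- the index of `T`
  have hTidx : (Subgroup.centralizer (W : Set R)).index = p := by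
    have h1 := index_centralizer_le_of_card_le_sq hR W (le_of_eq hWcard)
    obtain ⟨k, hk⟩ := hR.index (Subgroup.centralizer (W : Set R))
    have hk0 : k ≠ 0 := by
      intro h0
      rw [h0, pow_zero, Subgroup.index_eq_one] at hk
      apply hET
      rw [hk]
      exact le_top
    rw [hk] at h1 ⊢
    have : p ^ 1 ≤ p ^ k := Nat.pow_le_pow_right hpp.pos (by omega)
    rw [pow_one] at this
    omega
  refine ⟨hET, hZccard, ⟨mkEA W ?_ (fun w hw => (hWprop w hw).2), hWcard⟩, inferInstance, hTidx⟩
  intro a ha b hb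
  have := IsPGroup.commutative_of_card_eq_prime_sq hWcard (⟨a, ha⟩ : W) ⟨b, hb⟩
  exact congrArg Subtype.val this

end Cfsg.Agent.S1453
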