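import Cfsg.Statements.S1454
import Cfsg.Agent.Lib.Helper23.XSw
import Cfsg.Agent.Lib.Helper23.FrobF

set_option autoImplicit false
open Cfsg

namespace Cfsg.Agent.S1454

/-- Let G be a finite group, p an odd prime, R a narrow p-subgroup and A a solvable subgroup of odd order normalizing R with A ∩ C_G(R) = 1. Then [A, A] ≤ O_p(A) and the index of O_p(A) in A is coprime to p; if R has an elementary abelian subgroup of order p ^ 3 then the order of every element of A of order coprime to p divides p − 1; and if the order of A is a prime not dividing p(p − 1), then 2·#A divides p + 1, and if in addition [R, A] = R and R is non-abelian then #R = p ^ 3. -/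
theorem result {G : Type*} [Group G] [Finite G] (p : ℕ) [Fact p.Prime] (hp : p ≠ 2) (R A : Subgroup G) (hR : IsPGroup p R) (hRn : Cfsg.IsNarrow p R)
    (hA : (A ≤ Subgroup.normalizer (R : Set G))) (hAs : Group.IsSolvable A) (hAodd : Odd (Nat.card A)) (hfaith : A ⊓ Subgroup.centralizer (R : Set G) = ⊥) :
    (commutator ↥A ≤ Cfsg.pCore p ↥A ∧ ((Cfsg.pCore p ↥A).index).Coprime p) ∧
      (¬ Cfsg.PRankLE p 2 R → ∀ a ∈ A, (orderOf a).Coprime p → orderOf a ∣ p - 1) ∧
      ((Nat.card A).Prime → ¬ Nat.card A ∣ p * (p - 1) →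
        2 * Nat.card A ∣ p + 1 ∧ (⁅R, A⁆ = R → ¬ IsMulCommutative R → Nat.card R = p ^ 3)) := by
  classical
  have hpp : p.Prime := Fact.out
  let φ : ↥A →* MulAut ↥R := Cfsg.Agent.Lib.Helper23.FrobF.theta A R hA
  have hφ : ∀ (a : ↥A) (h : ↥R), ((φ a h : ↥R) : G) = (a : G) * h * (a : G)⁻¹ := fun a h => rfl
  have hfaithful : ∀ x : ↥A, φ x = 1 → x = 1 := by
    intro x hx
    have hxc : (x : G) ∈ Subgroup.centralizer (R : Set G) := by
      rw [Subgroup.mem_centralizer_iff]
      intro h hh
      have h1 := congrArg (fun β : MulAut ↥R => ((β ⟨h, hh⟩ : ↥R) : G)) hx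
      have h2 : (x : G) * h * (x : G)⁻¹ = h := h1
      calc h * (x : G) = ((x : G) * h * (x : G)⁻¹) * (x : G) := by rw [h2]
        _ = (x : G) * h := by group
    have hmem : (x : G) ∈ A ⊓ Subgroup.centralizer (R : Set G) := ⟨x.2, hxc⟩
    rw [hfaith, Subgroup.mem_bot] at hmem
    exact Subtype.ext hmem
  refine ⟨?_, ?_, ?_⟩
  · exact Cfsg.Agent.Lib.Helper23.XSr.partA hp hR hRn hAodd hAs φ hfaithful
  · intro hrk a ha hao
    have h1 := Cfsg.Agent.Lib.Helper23.XSr.partB hp hR hRn hrk φ ⟨a, ha⟩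
      (by rw [Subgroup.orderOf_mk]; exact hao)
    have h2 := hfaithful _ h1
    have h3 : a ^ (p - 1) = 1 := by
      have := congrArg Subtype.val h2
      simpa using this
    exact orderOf_dvd_of_pow_eq_one h3
  · intro hprime hndvd
    haveI : Nontrivial ↥A := Finite.one_lt_card_iff_nontrivial.mp hprime.one_lt
    obtain ⟨a, ha1⟩ := exists_ne (1 : ↥A)
    have har : a ^ (Nat.card A) = 1 := pow_card_eq_one'
    have hφa : φ a ≠ 1 := fun h => ha1 (hfaithful a h)
    obtain ⟨hrk, hdvd⟩ := Cfsg.Agent.Lib.Helper23.XSr.partC1 hp hR hRn (Nat.card A) hprime hndvd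
      φ a har hφa
    have hrnp : Nat.card A ≠ p := by
      intro h
      apply hndvd
      rw [h]
      exact Dvd.intro _ rfl
    have hrp1 : ¬ Nat.card A ∣ p - 1 := fun h => hndvd (Dvd.dvd.mul_left h p)
    refine ⟨?_, ?_⟩
    · have h2 : 2 ∣ p + 1 := by
        rcases hpp.eq_two_or_odd' with h | h
        · exact absurd h hp
        · obtain ⟨k, hk⟩ := h
          exact ⟨k + 1, by omega⟩
      have hc : Nat.Coprime 2 (Nat.card A) := Nat.coprime_two_left.mpr hAodd
      exact Nat.Coprime.mul_dvd_of_dvd_of_dvd hc h2 hdvd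
    · intro hRA hnab
      have hαr : (φ a) ^ (Nat.card A) = 1 := by rw [← map_pow, har, map_one]
      refine Cfsg.Agent.Lib.Helper23.XSw.partC2 hp hR hrk (Nat.card A) hprime hrnp hrp1 (φ a) hαr
        ?_ ?_
      · intro N hNinv hall
        have hpow : ∀ k : ℕ, (∀ n ∈ N, φ (a ^ k) n ∈ N) ∧ ∀ y : ↥R, φ (a ^ k) y * y⁻¹ ∈ N := by
          intro k
          induction k with
          | zero =>
            refine ⟨fun n hn => ?_, fun y => ?_⟩
            · rw [pow_zero, map_one]; exact hn
            · rw [pow_zero, map_one, MulAut.one_apply, mul_inv_cancel]; exact N.one_mem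
          | succ k ih =>
            refine ⟨fun n hn => ?_, fun y => ?_⟩
            · rw [pow_succ, map_mul, MulAut.mul_apply]
              exact ih.1 _ (hNinv n hn)
            · rw [pow_succ, map_mul, MulAut.mul_apply]
              have h1 : φ (a ^ k) (φ a y) * y⁻¹ =
                  φ (a ^ k) (φ a y * y⁻¹) * (φ (a ^ k) y * y⁻¹) := by
                rw [map_mul, map_inv]; group
              rw [h1]
              exact N.mul_mem (ih.1 _ (hall y)) (ih.2 y)
        haveI : Fact (Nat.card ↥A).Prime := ⟨hprime⟩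
        have hztop : Subgroup.zpowers a = ⊤ := zpowers_eq_top_of_prime_card rfl ha1
        have hle : ⁅R, A⁆ ≤ N.map R.subtype := by
          rw [Subgroup.commutator_le]
          intro x hx b hb
          have hbz : (⟨b, hb⟩ : ↥A) ∈ Subgroup.zpowers a := by rw [hztop]; exact Subgroup.mem_top _
          rw [← mem_powers_iff_mem_zpowers, Submonoid.mem_powers_iff] at hbz
          obtain ⟨k, hk⟩ := hbz
          have h1 := (hpow k).2 ⟨x, hx⟩
          rw [hk] at h1
          refine ⟨(φ ⟨b, hb⟩ ⟨x, hx⟩ * (⟨x, hx⟩ : ↥R)⁻¹)⁻¹, N.inv_mem h1, ?_⟩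
          show (b * x * b⁻¹ * x⁻¹)⁻¹ = x * b * x⁻¹ * b⁻¹
          group
        rw [eq_top_iff]
        intro x _
        have hxR : (x : G) ∈ ⁅R, A⁆ := by rw [hRA]; exact x.2
        obtain ⟨n, hn, hnx⟩ := hle hxR
        have : n = x := Subtype.ext hnx
        rw [← this]; exact hn
      · intro h
        exact hnab ⟨⟨fun x y => h x y⟩⟩

end Cfsg.Agent.S1454
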