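import Cfsg.Statements.S1456
import Cfsg.Agent.Lib.Helper23.XSl

set_option autoImplicit false
open Cfsg

namespace Cfsg.Agent.S1456

/-- Let G be a solvable group of odd order, p a prime, and E an elementary abelian p-subgroup of the Fitting subgroup F(G) such that F(G) ∩ C_G(E) has no elementary abelian subgroup of order q ^ 3 for any prime q. Then the derived subgroup of G is contained in F(G). -/
theorem result {G : Type*} [Group G] [Finite G] [Group.IsSolvable G] (hodd : Odd (Nat.card G)) (p : ℕ) [Fact p.Prime] (E : Subgroup G) (hE : E ≤ Cfsg.fittingSubgroup G) (hEe : Cfsg.IsElementaryAbelian p E)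
    (hr : Cfsg.RankLE 2 ↥(Cfsg.fittingSubgroup G ⊓ Subgroup.centralizer (E : Set G))) :
    commutator G ≤ Cfsg.fittingSubgroup G := by
  classical
  have hs : Group.IsSolvable G := inferInstance
  have hpp : p.Prime := Fact.out
  have hEp : E ≤ Cfsg.pCore p G := by
    haveI hn : Group.IsNilpotent ↥(Cfsg.fittingSubgroup G) :=
      Cfsg.Agent.Lib.Helper20.fittingSubgroup_isNilpotent'
    haveI hFn : (Cfsg.fittingSubgroup G).Normal := Cfsg.Agent.Lib.Helper20.fittingSubgroup_normal'
    have hE'p : IsPGroup p (E.subgroupOf (Cfsg.fittingSubgroup G)) := by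
      intro g
      refine ⟨1, ?_⟩
      apply Subtype.ext
      apply Subtype.ext
      have := hEe.2 _ (Subgroup.mem_subgroupOf.mp g.2)
      simpa using this
    obtain ⟨P, hP⟩ := hE'p.exists_le_sylow
    have hPn : (P : Subgroup ↥(Cfsg.fittingSubgroup G)).Normal := inferInstance
    have hPc : (P : Subgroup ↥(Cfsg.fittingSubgroup G)).Characteristic :=
      P.characteristic_of_normal hPn
    have h1 : (P : Subgroup ↥(Cfsg.fittingSubgroup G)).map (Cfsg.fittingSubgroup G).subtype ≤
        Cfsg.pCore p G := by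
      apply Cfsg.Agent.Lib.Helper20.le_pCore'
      · exact ConjAct.normal_of_characteristic_of_normal
      · exact P.isPGroup'.map _
    intro a ha
    apply h1
    exact ⟨⟨a, hE ha⟩, hP (Subgroup.mem_subgroupOf.mpr ha), rfl⟩
  apply Cfsg.Agent.Lib.Helper13.DerivedFitting.commutator_le_fitting hs
  intro q hq y hy hyo
  by_cases hqp : q = p
  · rw [hqp] at hyo ⊢
    apply Cfsg.Agent.Lib.Helper23.XSl.mem_centralizer_pCore_of_narrow hs hodd p hpp E hEp
      (fun a ha b hb => congrArg Subtype.val (hEe.1.is_comm.comm ⟨a, ha⟩ ⟨b, hb⟩)) hEe.2 ?_ y hy hyo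
    intro A hAR hAE hAc hAe
    have hAT : A ≤ Cfsg.fittingSubgroup G ⊓ Subgroup.centralizer (E : Set G) := by
      apply le_inf
      · exact hAR.trans (Cfsg.Agent.Lib.Helper20.le_fittingSubgroup'
          (Cfsg.pCore_normal p G)
          (Cfsg.Agent.Lib.Helper20.pCore_isPGroup' (G := G) p).isNilpotent)
      · intro a ha
        rw [Subgroup.mem_centralizer_iff]
        intro b hb
        exact (hAE a ha b hb).symm
    have h1 : Cfsg.PRankLE p 2 ↥A :=
      Cfsg.Agent.Lib.Helper13.RankTwoDerived.prankLE_of_injective (Subgroup.inclusion hAT)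
        (Subgroup.inclusion_injective hAT) (hr p hpp)
    have hc : IsMulCommutative (⊤ : Subgroup ↥A) := by
      refine ⟨⟨fun a b => ?_⟩⟩
      apply Subtype.ext
      apply Subtype.ext
      exact hAc _ a.1.2 _ b.1.2
    have h2 := h1 ⊤ hc (fun a _ => Subtype.ext (by simpa using hAe a.1 a.2))
    rwa [Subgroup.card_top] at h2
  · haveI : Fact q.Prime := ⟨hq⟩
    apply Cfsg.Agent.Lib.Helper13.RankTwoDerived.mem_centralizer_pCore_of_prankLE hs hodd q hq ?_
      y hy hyo
    have hle : Cfsg.pCore q G ≤ Cfsg.fittingSubgroup G ⊓ Subgroup.centralizer (E : Set G) := by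
      apply le_inf
      · exact Cfsg.Agent.Lib.Helper20.le_fittingSubgroup'
          (Cfsg.pCore_normal q G)
          (Cfsg.Agent.Lib.Helper20.pCore_isPGroup' (G := G) q).isNilpotent
      · refine (Cfsg.Agent.Lib.Helper13.DerivedFitting.pCore_le_centralizer_pCore (G := G)
          (q := p) (r := q) (fun h => hqp h.symm)).trans ?_
        exact Subgroup.centralizer_le hEp
    exact (Cfsg.Agent.Lib.Helper13.RankTwoDerived.rankLE_of_le hle hr) q hq

end Cfsg.Agent.S1456
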