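import Cfsg.Statements.S1464
import Mathlib
import Cfsg.Agent.Lib.Helper15.QuadInternal

set_option autoImplicit false
open Cfsg

namespace Cfsg.Agent.S1464

open Subgroup Cfsg.Agent.Lib.Helper15.QuadInternal Cfsg.Agent.Lib.Helper15.QuadCore

theorem sylow2_comm_of_odd {G : Type*} [Group G] [Finite G] (hodd : Odd (Nat.card G))
    (T : Sylow 2 G) : IsMulCommutative T := by
  have h1 : Nat.card T ∣ Nat.card G := Subgroup.card_subgroup_dvd_card _
  obtain ⟨k, hk⟩ := (IsPGroup.iff_card).1 T.2
  have h2 : Nat.card T = 1 := by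
    rcases Nat.eq_zero_or_pos k with rfl | hkpos
    · simpa using hk
    · exfalso
      have h3 : 2 ∣ Nat.card G := by
        refine Dvd.dvd.trans ?_ h1
        rw [hk]
        exact dvd_pow_self 2 hkpos.ne'
      exact (Nat.not_even_iff_odd.2 hodd) (even_iff_two_dvd.2 h3)
  haveI : Subsingleton T := (Nat.card_eq_one_iff_unique.1 h2).1
  exact ⟨⟨fun x y => Subsingleton.elim _ _⟩⟩

/-- normalizer form of the `p`-stability theorem: `G` with abelian Sylow 2-subgroups, `P` a
`p`-subgroup, `a ∈ N_G(P)` quadratic on `P`: the image of `a` in `N_G(P) / C_G(P)` lies in `O_p`. -/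
theorem normalizer_form {G : Type*} [Group G] [Finite G] (p : ℕ) [Fact p.Prime] (hp : p ≠ 2)
    (hab2 : ∀ T : Sylow 2 G, IsMulCommutative T) (P : Subgroup G) (hP : IsPGroup p P) (a : G)
    (haN : a ∈ normalizer (P : Set G)) (hq : ⁅⁅P, zpowers a⁆, zpowers a⁆ = ⊥) :
    QuotientGroup.mk' ((centralizer (P : Set G)).subgroupOf (normalizer (P : Set G))) ⟨a, haN⟩
      ∈ Cfsg.pCore p _ := by
  set N := normalizer (P : Set G) with hN
  have hab2' : ∀ T : Sylow 2 N, IsMulCommutative T := fun T => sylow2_comm_of_le hab2 N T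
  set P' : Subgroup N := P.subgroupOf N with hP'
  haveI : P'.Normal := Subgroup.normal_in_normalizer
  have hP'p : IsPGroup p P' := by
    have e : P' ≃* P := Subgroup.subgroupOfEquivOfLe Subgroup.le_normalizer
    exact hP.of_equiv e.symm
  have hmapP : P'.map N.subtype = P := by
    rw [hP', Subgroup.subgroupOf_map_subtype, inf_eq_left]
    exact Subgroup.le_normalizer
  have hq' : ⁅⁅P', zpowers (⟨a, haN⟩ : N)⁆, zpowers (⟨a, haN⟩ : N)⁆ = ⊥ := by
    apply (Subgroup.map_eq_bot_iff_of_injective _ N.subtype_injective).1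
    rw [Subgroup.map_commutator, Subgroup.map_commutator, hmapP, MonoidHom.map_zpowers]
    exact hq
  obtain ⟨D, hDn, hD1, hD2, hD3⟩ := core_pgroup p hp P' hP'p hab2' ⟨a, haN⟩ hq'
  have hcent : centralizer (P' : Set N) = (centralizer (P : Set G)).subgroupOf N := by
    ext g
    rw [mem_centralizer_iff, mem_subgroupOf, mem_centralizer_iff]
    constructor
    · intro h x hx
      have := h ⟨x, Subgroup.le_normalizer hx⟩ (by rw [SetLike.mem_coe, hP', mem_subgroupOf]; exact hx)
      exact congrArg Subtype.val this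
    · intro h x hx
      apply Subtype.ext
      rw [SetLike.mem_coe, hP', mem_subgroupOf] at hx
      exact h x hx
  have hDbar_n : (D.map (QuotientGroup.mk' ((centralizer (P : Set G)).subgroupOf N))).Normal :=
    hDn.map _ (QuotientGroup.mk'_surjective _)
  have hDbar_p : IsPGroup p (D.map (QuotientGroup.mk' ((centralizer (P : Set G)).subgroupOf N))) := by
    rintro ⟨_, d, hd, rfl⟩
    obtain ⟨k, hk⟩ := hD3 d hd
    refine ⟨k, Subtype.ext ?_⟩
    rw [Subgroup.coe_pow, Subgroup.coe_one]
    change (QuotientGroup.mk' _ d) ^ p ^ k = 1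
    rw [← map_pow]
    apply (QuotientGroup.eq_one_iff _).2
    rw [← hcent]
    exact hk
  exact (le_sSup ⟨hDbar_n, hDbar_p⟩ : _ ≤ Cfsg.pCore p _) ⟨⟨a, haN⟩, hD2, rfl⟩

/-- Let p be an odd prime and G a solvable group of odd order, P a p-subgroup with O_{p'}(G)P normal in G, and A a p-subgroup of N_G(P) with [[P, A], A] = 1. Then the image of A in the quotient N_G(P)/C_G(P) is contained in the p-core of that quotient. -/
theorem result {G : Type*} [Group G] [Finite G] [Group.IsSolvable G] (hodd : Odd (Nat.card G)) (p : ℕ) [Fact p.Prime] (hp : p ≠ 2) (P A : Subgroup G) (hP : IsPGroup p P) (hPn : (Cfsg.pPrimeCore p G ⊔ P).Normal)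
    (hA : IsPGroup p A) (hAN : A ≤ Subgroup.normalizer (P : Set G)) (hquad : ⁅⁅P, A⁆, A⁆ = ⊥) :
    (A.subgroupOf (Subgroup.normalizer (P : Set G))).map
        (QuotientGroup.mk' ((Subgroup.centralizer (P : Set G)).subgroupOf (Subgroup.normalizer (P : Set G))))
      ≤ Cfsg.pCore p _ := by
  rintro _ ⟨x, hx, rfl⟩
  rw [SetLike.mem_coe, mem_subgroupOf] at hx
  have h := normalizer_form p hp (fun T => sylow2_comm_of_odd hodd T) P hP (x : G) x.2
    (quad_of_le P A hquad _ hx)
  exact h

end Cfsg.Agent.S1464
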