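import Cfsg.Statements.S1465
import Mathlib
import Cfsg.Agent.Lib.Helper15.QuadInternal
import Cfsg.Agent.S1464
import Cfsg.Agent.Lib.Helper20.Bender
import Cfsg.Agent.Lib.Helper20.Cores
import Cfsg.Agent.Lib.Helper16.PCore

set_option autoImplicit false
open Cfsg

namespace Cfsg.Agent.S1465

open Subgroup Cfsg.Agent.Lib.Helper15.QuadInternal Cfsg.Agent.Lib.Helper15.QuadCore
open scoped commutatorElement

/-- an abelian subgroup `B` normalized by `P` acts quadratically on `P` (elementwise). -/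
theorem quad_of_normalized {G : Type*} [Group G] (P B : Subgroup G) (hBc : IsMulCommutative B)
    (hPB : P ≤ normalizer (B : Set G)) (b : G) (hb : b ∈ B) :
    ⁅⁅P, zpowers b⁆, zpowers b⁆ = ⊥ := by
  have hz : zpowers b ≤ B := zpowers_le.2 hb
  have h1 : ⁅P, zpowers b⁆ ≤ B := by
    rw [Subgroup.commutator_le]
    intro x hx y hy
    rw [commutatorElement_def]
    have h2 : x * y * x⁻¹ ∈ B := (mem_normalizer_iff.1 (hPB hx) y).1 (hz hy)
    exact B.mul_mem h2 (B.inv_mem (hz hy))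
  rw [eq_bot_iff]
  calc ⁅⁅P, zpowers b⁆, zpowers b⁆ ≤ ⁅B, B⁆ := Subgroup.commutator_mono h1 hz
    _ = ⊥ := by
      rw [Subgroup.commutator_eq_bot_iff_le_centralizer]
      intro x hx y hy
      exact setLike_mul_comm hy hx

/-- `P ⊴ G` a `p`-group, Sylow 2-subgroups abelian, `b` quadratic on `P`: the image of `b` in
`G / C_G(P)` lies in `O_p`. -/
theorem mk_mem_pCore {G : Type*} [Group G] [Finite G] (p : ℕ) [Fact p.Prime] (hp : p ≠ 2)
    (hab2 : ∀ T : Sylow 2 G, IsMulCommutative T) (P : Subgroup G) [P.Normal] (hP : IsPGroup p P)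
    (b : G) (hq : ⁅⁅P, zpowers b⁆, zpowers b⁆ = ⊥) :
    QuotientGroup.mk' (centralizer (P : Set G)) b ∈ Cfsg.pCore p (G ⧸ centralizer (P : Set G)) := by
  obtain ⟨D, hDn, hD1, hD2, hD3⟩ := core_pgroup p hp P hP hab2 b hq
  have hn : (D.map (QuotientGroup.mk' (centralizer (P : Set G)))).Normal :=
    hDn.map _ (QuotientGroup.mk'_surjective _)
  have hpg : IsPGroup p (D.map (QuotientGroup.mk' (centralizer (P : Set G)))) := by
    rintro ⟨_, d, hd, rfl⟩
    obtain ⟨k, hk⟩ := hD3 d hd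
    refine ⟨k, Subtype.ext ?_⟩
    rw [Subgroup.coe_pow, Subgroup.coe_one]
    change (QuotientGroup.mk' _ d) ^ p ^ k = 1
    rw [← map_pow]
    exact (QuotientGroup.eq_one_iff _).2 hk
  exact (le_sSup ⟨hn, hpg⟩ : _ ≤ Cfsg.pCore p _) ⟨b, hD2, rfl⟩

/-- Let p be an odd prime, G a solvable group of odd order, P a normal p-subgroup of G, and X the subgroup generated by a family of abelian p-subgroups of G each normalized by P. Then the image of X in G/C_G(P) lies in O_p(G/C_G(P)); and if O_{p'}(G) = 1 and O_p(G) ∩ C_G(P) ≤ P then X ≤ O_p(G). -/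
theorem result {G : Type*} [Group G] [Finite G] [Group.IsSolvable G] (hodd : Odd (Nat.card G)) (p : ℕ) [Fact p.Prime] (hp : p ≠ 2) (P : Subgroup G) [P.Normal] (hP : IsPGroup p P)
    (S : Set (Subgroup G)) (hS : ∀ B ∈ S, IsMulCommutative B ∧ IsPGroup p B ∧ P ≤ Subgroup.normalizer (B : Set G)) :
    (sSup S).map (QuotientGroup.mk' (Subgroup.centralizer (P : Set G))) ≤ Cfsg.pCore p (G ⧸ Subgroup.centralizer (P : Set G)) ∧
      (Cfsg.pPrimeCore p G = ⊥ → Cfsg.pCore p G ⊓ Subgroup.centralizer (P : Set G) ≤ P → sSup S ≤ Cfsg.pCore p G) := by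
  have hab2 : ∀ T : Sylow 2 G, IsMulCommutative T :=
    fun T => Cfsg.Agent.S1464.sylow2_comm_of_odd hodd T
  have part1 : (sSup S).map (QuotientGroup.mk' (centralizer (P : Set G))) ≤
      Cfsg.pCore p (G ⧸ centralizer (P : Set G)) := by
    rw [Subgroup.map_le_iff_le_comap]
    apply sSup_le
    intro B hB b hb
    rw [mem_comap]
    exact mk_mem_pCore p hp hab2 P hP b (quad_of_normalized P B (hS B hB).1 (hS B hB).2.2 b hb)
  refine ⟨part1, ?_⟩
  intro hO hle
  set C := centralizer (P : Set G) with hC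
  -- `C` is a `p`-group
  have hO' : Cfsg.pPrimeCore p ↥C = ⊥ := by
    haveI := Cfsg.Agent.Lib.Helper20.pPrimeCore_characteristic (G := ↥C) p
    have hn : ((Cfsg.pPrimeCore p ↥C).map C.subtype).Normal :=
      ConjAct.normal_of_characteristic_of_normal
    have hc : (Nat.card ((Cfsg.pPrimeCore p ↥C).map C.subtype)).Coprime p := by
      rw [Nat.card_congr ((Cfsg.pPrimeCore p ↥C).equivMapOfInjective _ C.subtype_injective).symm.toEquiv]
      exact Cfsg.Agent.Lib.Helper20.pPrimeCore_coprime' p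
    have h1 : (Cfsg.pPrimeCore p ↥C).map C.subtype ≤ Cfsg.pPrimeCore p G := le_sSup ⟨hn, hc⟩
    rw [hO, le_bot_iff] at h1
    exact (Subgroup.map_eq_bot_iff_of_injective _ C.subtype_injective).1 h1
  have hcen := Cfsg.Agent.Lib.Helper20.solvable_centralizer_pCore_le (G := ↥C) p hO'
  have hsub : (Cfsg.pCore p ↥C).map C.subtype ≤ P := by
    haveI := Cfsg.Agent.Lib.Helper20.pCore_characteristic (G := ↥C) p
    have hn : ((Cfsg.pCore p ↥C).map C.subtype).Normal :=
      ConjAct.normal_of_characteristic_of_normal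
    have hpg : IsPGroup p ((Cfsg.pCore p ↥C).map C.subtype) :=
      (Cfsg.Agent.Lib.Helper16.pCore_isPGroup p ↥C).map _
    have h1 : (Cfsg.pCore p ↥C).map C.subtype ≤ Cfsg.pCore p G := le_sSup ⟨hn, hpg⟩
    have h2 : (Cfsg.pCore p ↥C).map C.subtype ≤ C := Subgroup.map_subtype_le _
    exact (le_inf h1 h2).trans hle
  have htop : Cfsg.pCore p ↥C = ⊤ := by
    rw [eq_top_iff]
    refine le_trans ?_ hcen
    intro c _
    rw [mem_centralizer_iff]
    intro y hy
    have hyP : ((y : ↥C) : G) ∈ P := hsub ⟨y, hy, rfl⟩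
    have := mem_centralizer_iff.1 c.2 _ hyP
    exact Subtype.ext this
  have hCp : IsPGroup p ↥C := by
    have h1 := Cfsg.Agent.Lib.Helper16.pCore_isPGroup p ↥C
    rw [htop] at h1
    exact h1.of_equiv Subgroup.topEquiv
  -- the preimage of `O_p(G/C)` is a normal `p`-subgroup
  set Y := (Cfsg.pCore p (G ⧸ C)).comap (QuotientGroup.mk' C) with hY
  have hYn : Y.Normal := by
    haveI := Cfsg.Agent.Lib.Helper16.pCore_normal p (G ⧸ C)
    exact Subgroup.Normal.comap inferInstance _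
  have hYp : IsPGroup p Y := by
    intro y
    have hy : QuotientGroup.mk' C (y : G) ∈ Cfsg.pCore p (G ⧸ C) := y.2
    obtain ⟨k, hk⟩ := Cfsg.Agent.Lib.Helper16.pCore_isPGroup p (G ⧸ C) ⟨_, hy⟩
    have hk' : (QuotientGroup.mk' C (y : G)) ^ p ^ k = 1 := by
      have := congrArg Subtype.val hk
      simpa using this
    rw [← map_pow] at hk'
    have hyC : (y : G) ^ p ^ k ∈ C := (QuotientGroup.eq_one_iff _).1 hk'
    obtain ⟨j, hj⟩ := hCp ⟨_, hyC⟩
    refine ⟨k + j, Subtype.ext ?_⟩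
    have := congrArg Subtype.val hj
    rw [Subgroup.coe_pow, Subgroup.coe_one] at this ⊢
    rw [pow_add, pow_mul]
    simpa using this
  have hYle : Y ≤ Cfsg.pCore p G := le_sSup ⟨hYn, hYp⟩
  exact (Subgroup.map_le_iff_le_comap.1 part1).trans hYle

end Cfsg.Agent.S1465
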