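import Cfsg.Statements.S1457
import Mathlib
import Cfsg.Agent.Lib.Helper15.QuadInternal
import Cfsg.Agent.S1464
import Cfsg.Agent.S1465
import Cfsg.Agent.Lib.Helper20.Bender
import Cfsg.Agent.Lib.Helper20.Cores
import Cfsg.Agent.Lib.Helper16.PCore

set_option autoImplicit false
open Cfsg

namespace Cfsg.Agent.S1457

open Subgroup Cfsg.Agent.Lib.Helper15.QuadInternal Cfsg.Agent.Lib.Helper15.QuadCore

/-- the preimage of `O_p(G/C)` for a normal `p`-subgroup `C` lies in `O_p(G)`. -/
theorem comap_pCore_le {G : Type*} [Group G] [Finite G] (p : ℕ) [Fact p.Prime]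
    (C : Subgroup G) [C.Normal] (hCp : IsPGroup p C) :
    (Cfsg.pCore p (G ⧸ C)).comap (QuotientGroup.mk' C) ≤ Cfsg.pCore p G := by
  set Y := (Cfsg.pCore p (G ⧸ C)).comap (QuotientGroup.mk' C) with hY
  have hYn : Y.Normal := by
    haveI := Cfsg.Agent.Lib.Helper16.pCore_normal p (G ⧸ C)
    exact Subgroup.Normal.comap inferInstance _
  have hYp : IsPGroup p Y := by
    intro y
    have hy : QuotientGroup.mk' C (y : G) ∈ Cfsg.pCore p (G ⧸ C) := y.2
    obtain ⟨k, hk⟩ := Cfsg.Agent.Lib.Helper16.pCore_isPGroup p (G ⧸ C) ⟨_, hy⟩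
    have hk' : (QuotientGroup.mk' C (y : G)) ^ p ^ k = 1 := by
      have := congrArg Subtype.val hk
      simpa using this
    rw [← map_pow] at hk'
    have hyC : (y : G) ^ p ^ k ∈ C := (QuotientGroup.eq_one_iff _).1 hk'
    obtain ⟨j, hj⟩ := hCp ⟨_, hyC⟩
    refine ⟨k + j, Subtype.ext ?_⟩
    have := congrArg Subtype.val hj
    rw [Subgroup.coe_pow, Subgroup.coe_one] at this ⊢
    rw [pow_add, pow_mul]
    simpa using this
  exact le_sSup ⟨hYn, hYp⟩

/-- Let G be a solvable group of odd order, p a prime, S a Sylow p-subgroup of G and A an abelian subgroup of S normal in S. Then A ≤ O_{p',p}(G). -/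
theorem result {G : Type*} [Group G] [Finite G] [Group.IsSolvable G] (hodd : Odd (Nat.card G)) (p : ℕ) [Fact p.Prime] (S : Sylow p G) (A : Subgroup G) (hA : A ≤ (S : Subgroup G)) (hAc : IsMulCommutative A)
    (hAn : (S : Subgroup G) ≤ Subgroup.normalizer (A : Set G)) :
    A ≤ Cfsg.pPrimePCore p G := by
  by_cases hp : p = 2
  · -- `S` is trivial
    subst hp
    have h1 : Nat.card (S : Subgroup G) ∣ Nat.card G := Subgroup.card_subgroup_dvd_card _
    obtain ⟨k, hk⟩ := (IsPGroup.iff_card).1 S.2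
    have h2 : Nat.card (S : Subgroup G) = 1 := by
      rcases Nat.eq_zero_or_pos k with rfl | hkpos
      · simpa using hk
      · exfalso
        have h3 : 2 ∣ Nat.card G := by
          refine Dvd.dvd.trans ?_ h1
          rw [hk]
          exact dvd_pow_self 2 hkpos.ne'
        exact (Nat.not_even_iff_odd.2 hodd) (even_iff_two_dvd.2 h3)
    have h3 : (S : Subgroup G) = ⊥ := Subgroup.card_eq_one.1 h2
    rw [h3] at hA
    exact hA.trans bot_le
  · set O := Cfsg.pPrimeCore p G with hO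
    haveI hOn : O.Normal := (Cfsg.Agent.Lib.Helper20.pPrimeCore_mem' (G := G) p).1
    let π := QuotientGroup.mk' O
    have hπ : Function.Surjective π := QuotientGroup.mk'_surjective O
    have hoddq : Odd (Nat.card (G ⧸ O)) := by
      have h1 : Nat.card (G ⧸ O) ∣ Nat.card G := by
        rw [← Subgroup.index_eq_card]
        exact Subgroup.index_dvd_card O
      exact Odd.of_dvd_nat hodd h1
    have hab2 : ∀ T : Sylow 2 (G ⧸ O), IsMulCommutative T :=
      fun T => Cfsg.Agent.S1464.sylow2_comm_of_odd hoddq T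
    set Pb := Cfsg.pCore p (G ⧸ O) with hPb
    haveI hPbn : Pb.Normal := Cfsg.Agent.Lib.Helper16.pCore_normal p (G ⧸ O)
    have hPbp : IsPGroup p Pb := Cfsg.Agent.Lib.Helper16.pCore_isPGroup p (G ⧸ O)
    have hObot : Cfsg.pPrimeCore p (G ⧸ O) = ⊥ :=
      Cfsg.Agent.Lib.Helper20.pPrimeCore_quotient_eq_bot p
    have hcen : centralizer (Pb : Set (G ⧸ O)) ≤ Pb :=
      Cfsg.Agent.Lib.Helper20.solvable_centralizer_pCore_le p hObot
    have hCp : IsPGroup p (centralizer (Pb : Set (G ⧸ O))) := hPbp.to_le hcen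
    -- image of `A`
    set Ab := A.map π with hAb
    have hAbc : IsMulCommutative Ab := by rw [hAb]; infer_instance
    have hPbS : Pb ≤ ((S.mapSurjective hπ : Sylow p (G ⧸ O)) : Subgroup (G ⧸ O)) :=
      Cfsg.Agent.Lib.Helper16.normal_pgroup_le_sylow hPbn hPbp _
    have hSN : ((S.mapSurjective hπ : Sylow p (G ⧸ O)) : Subgroup (G ⧸ O)) ≤
        normalizer (Ab : Set (G ⧸ O)) := by
      rw [Sylow.coe_mapSurjective]
      exact (Subgroup.map_mono hAn).trans (Subgroup.le_normalizer_map π)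
    have hPbN : Pb ≤ normalizer (Ab : Set (G ⧸ O)) := hPbS.trans hSN
    intro a ha
    change π a ∈ Pb
    have hab : π a ∈ Ab := ⟨a, ha, rfl⟩
    have h1 := Cfsg.Agent.S1465.mk_mem_pCore p hp hab2 Pb hPbp (π a)
      (Cfsg.Agent.S1465.quad_of_normalized Pb Ab hAbc hPbN (π a) hab)
    exact comap_pCore_le p (centralizer (Pb : Set (G ⧸ O))) hCp h1

end Cfsg.Agent.S1457
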