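import Cfsg.Statements.S1458
import Mathlib
import Cfsg.Agent.Lib.Helper15.ZJE6
import Cfsg.Agent.Lib.Helper3.PSolvable
import Cfsg.Agent.Lib.Lead.PSolvOfSolv

set_option autoImplicit false
open Cfsg

namespace Cfsg.Agent.S1458

open Cfsg.Agent.Lib.Helper15.ZJE Cfsg.Agent.Lib.Helper11.QuadFree

/-- an odd-order group is `SL₂(p)`-free (`p` odd) -/
theorem sl2Free_of_odd {Y : Type*} [Group Y] [Finite Y] {p : ℕ} [hp : Fact p.Prime] (hp2 : p ≠ 2)
    (hodd : Odd (Nat.card Y)) : SL2Free p Y := by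
  rintro ⟨K, R, hR, ⟨e⟩⟩
  have h1 : Nat.card (↥K ⧸ R.subgroupOf K) ∣ Nat.card Y :=
    (Subgroup.card_quotient_dvd_card (R.subgroupOf K)).trans (Subgroup.card_subgroup_dvd_card K)
  have h2 : Nat.card (↥K ⧸ R.subgroupOf K) =
      Nat.card (Matrix.SpecialLinearGroup (Fin 2) (ZMod p)) := Nat.card_congr e.toEquiv
  have h3 : orderOf (-1 : Matrix.SpecialLinearGroup (Fin 2) (ZMod p)) = 2 := by
    apply orderOf_eq_prime
    · ext i j
      simp
    · exact Cfsg.Agent.Lib.Helper15.QdSection.neg_one_ne_one hp2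
  have h4 : 2 ∣ Nat.card (Matrix.SpecialLinearGroup (Fin 2) (ZMod p)) := by
    have h0 := orderOf_dvd_natCard (-1 : Matrix.SpecialLinearGroup (Fin 2) (ZMod p))
    rw [h3] at h0
    exact h0
  rw [← h2] at h4
  have h5 : 2 ∣ Nat.card Y := h4.trans h1
  exact (Nat.not_even_iff_odd.mpr hodd) (even_iff_two_dvd.mpr h5)

/-- Let G be a solvable group of odd order, p a prime and S a Sylow p-subgroup of G. Then the subgroup generated by the centre of the Thompson subgroup of S and O_{p'}(G) is normal in G. -/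
theorem result {G : Type*} [Group G] [Finite G] [Group.IsSolvable G] (hodd : Odd (Nat.card G)) (p : ℕ) [Fact p.Prime] (S : Sylow p G) :
    (Cfsg.centerThompsonOf p (S : Subgroup G) ⊔ Cfsg.pPrimeCore p G).Normal := by
  rw [centerThompsonOf_eq_ZE]
  set K := Cfsg.pPrimeCore p G with hK
  have hKn : K.Normal := Cfsg.Agent.Lib.Helper2.pPrimeCore_normal p
  have hKc : (Nat.card K).Coprime p := Cfsg.Agent.Lib.Helper2.pPrimeCore_coprime p
  by_cases hp2 : p = 2
  · -- `S` is trivial
    have hS : (S : Subgroup G) = ⊥ := by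
      obtain ⟨k, hk⟩ := IsPGroup.iff_card.mp S.isPGroup'
      have h1 : Nat.card (S : Subgroup G) ∣ Nat.card G := Subgroup.card_subgroup_dvd_card _
      have hk0 : k = 0 := by
        by_contra hne
        have : 2 ∣ Nat.card G := by
          refine dvd_trans ?_ h1
          rw [hk, hp2]
          exact dvd_pow_self 2 hne
        exact (Nat.not_even_iff_odd.mpr hodd) (even_iff_two_dvd.mpr this)
      rw [hk0, pow_zero] at hk
      exact Subgroup.card_eq_one.mp hk
    have h2 : ZE p (S : Subgroup G) = ⊥ := by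
      have := ZE_le p (S : Subgroup G)
      rw [hS] at this ⊢
      exact le_bot_iff.mp this
    rw [h2, bot_sup_eq]
    exact hKn
  · set π := QuotientGroup.mk' K with hπ
    have hsurj : Function.Surjective π := QuotientGroup.mk'_surjective K
    have hinj : ∀ x ∈ (S : Subgroup G), π x = 1 → x = 1 :=
      Cfsg.Agent.Lib.Helper11.SFS.inj_on_of_coprime K hKc (S : Subgroup G) S.isPGroup'
    have hoddq : Odd (Nat.card (G ⧸ K)) := by
      have h1 : Nat.card (G ⧸ K) ∣ Nat.card G := Subgroup.card_quotient_dvd_card K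
      exact Odd.of_dvd_nat hodd h1
    have hfree : SL2Free p (G ⧸ K) := sl2Free_of_odd hp2 hoddq
    have hnps : Cfsg.IsNormalizerPStable p (G ⧸ K) := nps_of_sl2Free hp2 hfree
    have hsolq : Cfsg.IsPSolvable p (G ⧸ K) :=
      Cfsg.Agent.Lib.Lead.PSolvOfSolv.isPSolvable_of_isSolvable p inferInstance
    have hc : Subgroup.centralizer (Cfsg.pCore p (G ⧸ K) : Set (G ⧸ K)) ≤ Cfsg.pCore p (G ⧸ K) :=
      Cfsg.Agent.Lib.Helper3.centralizer_pCore_le hsolq
        (Cfsg.Agent.Lib.Helper3.pPrimeCore_quotient_pPrimeCore p)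
    have hn := ZE_normal_gen hp2 hc
      (fun P _ hP => Cfsg.Agent.Lib.Lead.GlaubermanZJD.isPStableOn_of_normalizerPStable hnps P hP)
      (S.mapSurjective hsurj)
    rw [Sylow.coe_mapSurjective, ZE_map_of_injOn π hinj] at hn
    have h3 : ((ZE p (S : Subgroup G)).map π).comap π = ZE p (S : Subgroup G) ⊔ K := by
      rw [Subgroup.comap_map_eq, hπ, QuotientGroup.ker_mk']
    rw [← h3]
    exact hn.comap π

end Cfsg.Agent.S1458
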