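import Cfsg.Statements.S3736
import Mathlib
import Cfsg.Agent.Lib.Helper1.OmegaOne
import Cfsg.Agent.Lib.Helper2.PGroupFrattini

set_option autoImplicit false
open Cfsg

namespace Cfsg.Agent.S3736

open Cfsg.Agent.Lib.Helper1
open scoped commutatorElement

/-- If `[P, A] = P` under coprime action then `C_P(A) ≤ [P, P]` (norm map into the
abelianization). -/
theorem centralizer_le_commutator {G : Type*} [Group G] [Finite G] (P A : Subgroup G)
    (hAP : A ≤ Subgroup.normalizer (P : Set G)) (hcop : (Nat.card A).Coprime (Nat.card P))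
    (hPA : ⁅P, A⁆ = P) : P ⊓ Subgroup.centralizer (A : Set G) ≤ ⁅P, P⁆ := by
  classical
  haveI : Fintype A := Fintype.ofFinite A
  let φ : A → (P ≃* P) := fun a => conjNormalizer P a (hAP a.2)
  let ν : P →* Abelianization P := ∏ a : A, (Abelianization.of.comp (φ a).toMonoidHom)
  have hν : ∀ x : P, ν x = ∏ a : A, Abelianization.of (φ a x) := by
    intro x
    simp [ν, MonoidHom.finsetProd_apply]
  have hinv : ∀ (b : A) (x : P), ν (φ b x) = ν x := by
    intro b x
    rw [hν, hν]
    refine Finset.prod_equiv (Equiv.mulRight b) (by simp) ?_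
    intro a _
    congr 1
    apply Subtype.ext
    simp [φ, conjNormalizer_coe, mul_assoc]
  have hker : ∀ y : P, ν y = 1 := by
    have h1 : ⁅P, A⁆ ≤ (ν.ker).map P.subtype := by
      rw [Subgroup.commutator_le]
      intro x hx a ha
      refine ⟨⟨x, hx⟩ * φ ⟨a, ha⟩ (⟨x, hx⟩ : P)⁻¹, ?_, ?_⟩
      · rw [SetLike.mem_coe, MonoidHom.mem_ker, map_mul, hinv, map_inv, mul_inv_cancel]
      · simp [commutatorElement_def, φ, mul_assoc]
    intro y
    have hy : (y : G) ∈ (ν.ker).map P.subtype := h1 (by rw [hPA]; exact y.2)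
    obtain ⟨z, hz, hzy⟩ := hy
    have hzy' : z = y := Subtype.ext hzy
    rw [← hzy']; exact hz
  rintro c ⟨hcP, hcA⟩
  have hfix : ∀ a : A, φ a ⟨c, hcP⟩ = ⟨c, hcP⟩ := by
    intro a
    apply Subtype.ext
    have h := (Subgroup.mem_centralizer_iff.mp hcA) a a.2
    show (a : G) * c * (a : G)⁻¹ = c
    rw [h, mul_inv_cancel_right]
  have h2 : Abelianization.of (⟨c, hcP⟩ : P) ^ (Nat.card A) = 1 := by
    have h := hker ⟨c, hcP⟩
    rw [hν] at h
    simp only [hfix, Finset.prod_const, Finset.card_univ] at h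
    rwa [← Nat.card_eq_fintype_card] at h
  have h3 : (⟨c, hcP⟩ : P) ^ (Nat.card A) ∈ commutator P := by
    rw [← Abelianization.ker_of, MonoidHom.mem_ker, map_pow]; exact h2
  have hcop' : (Nat.card A).Coprime (orderOf (⟨c, hcP⟩ : P)) :=
    Nat.Coprime.of_dvd_right (orderOf_dvd_natCard _) hcop
  obtain ⟨m, hm⟩ := exists_pow_eq_self_of_coprime hcop'
  have h4 : (⟨c, hcP⟩ : P) ∈ commutator P := by rw [← hm]; exact Subgroup.pow_mem _ h3 m
  rw [← Subgroup.map_subtype_commutator]
  exact ⟨⟨c, hcP⟩, h4, rfl⟩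

/-- The Hall–Higman reduction for a minimal non-trivial action. Let B, A and P be subgroups of a finite group with P a p-group, B normalizing P, and A a normal subgroup of B of order prime to p. Suppose A does not centralize P but centralizes every proper B-invariant subgroup of P. Then [P, A] = P; P is elementary abelian or special; B acts irreducibly on P/Φ(P), that is, the only B-invariant subgroups of P containing Φ(P) are Φ(P) and P; and if p is odd then every element of P has order dividing p. -/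
theorem result {X : Type*} [Group X] [Finite X] {p : ℕ} [Fact p.Prime] (B A P : Subgroup X) (hP : IsPGroup p P) (hBP : B ≤ Subgroup.normalizer (P : Set X)) (hAB : A ≤ B) (hAn : B ≤ Subgroup.normalizer (A : Set X)) (hAp : (Nat.card A).Coprime p) (hnt : ⁅P, A⁆ ≠ ⊥) (hmin : ∀ U : Subgroup X, U < P → B ≤ Subgroup.normalizer (U : Set X) → ⁅U, A⁆ = ⊥) : ⁅P, A⁆ = P ∧ (Cfsg.IsElementaryAbelian p P ∨ Cfsg.IsSpecial p ↥P) ∧ (∀ U : Subgroup X, (frattini ↥P).map P.subtype ≤ U → U ≤ P → B ≤ Subgroup.normalizer (U : Set X) → U = (frattini ↥P).map P.subtype ∨ U = P) ∧ (p ≠ 2 → ∀ x ∈ P, x ^ p = 1) := by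
  have hpp := (Fact.out : p.Prime)
  have hAP : A ≤ Subgroup.normalizer (P : Set X) := hAB.trans hBP
  have hcopP := coprime_card_of_isPGroup p A P hP hAp
  have hne : P ≠ ⊥ := by
    intro h
    apply hnt
    rw [h, Subgroup.commutator_bot_left]
  have hPAle : ⁅P, A⁆ ≤ P := Subgroup.le_normalizer_iff_commutator_le_left.mp hAP
  -- (1)
  have hPA : ⁅P, A⁆ = P := by
    rcases lt_or_eq_of_le hPAle with hlt | heq
    · exfalso
      have h1 := hmin ⁅P, A⁆ hlt
        (fun b hb => mem_normalizer_commutator P A b (hBP hb) (hAn hb))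
      exact hnt (commutator_eq_bot_of_commutator_commutator_eq_bot P A hAP hcopP h1)
    · exact heq
  -- the subgroups
  obtain ⟨Φ, hΦdef⟩ : ∃ Φ : Subgroup X, Φ = (frattini ↥P).map P.subtype := ⟨_, rfl⟩
  obtain ⟨C, hCdef⟩ : ∃ C : Subgroup X, C = P ⊓ Subgroup.centralizer (A : Set X) := ⟨_, rfl⟩
  rw [← hΦdef]
  have hCP : C ≤ P := hCdef ▸ inf_le_left
  -- every B-invariant proper subgroup lies in C
  have hleC : ∀ U : Subgroup X, U < P → B ≤ Subgroup.normalizer (U : Set X) → U ≤ C := by
    intro U hU hBU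
    have h1 := hmin U hU hBU
    rw [Subgroup.commutator_eq_bot_iff_le_centralizer] at h1
    rw [hCdef]
    exact le_inf hU.le h1
  have hΦlt : Φ < P := hΦdef ▸ map_frattini_lt P hne
  have hΦB : B ≤ Subgroup.normalizer (Φ : Set X) := fun b hb =>
    hΦdef ▸ mem_normalizer_map_of_characteristic P (frattini P) b (hBP hb)
  have hΦC : Φ ≤ C := hleC Φ hΦlt hΦB
  have hCD : C ≤ ⁅P, P⁆ := hCdef ▸ centralizer_le_commutator P A hAP hcopP hPA
  have hDΦ : ⁅P, P⁆ ≤ Φ := by
    rw [hΦdef, ← Subgroup.map_subtype_commutator]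
    exact Subgroup.map_mono (Cfsg.Agent.Lib.Helper2.commutator_le_frattini_of_isPGroup hP)
  have hCΦ : C = Φ := le_antisymm (hCD.trans hDΦ) hΦC
  have hDeq : ⁅P, P⁆ = Φ := le_antisymm hDΦ (hΦC.trans hCD)
  -- p-th powers lie in Φ
  have hpowΦ : ∀ a : P, ((a ^ p : P) : X) ∈ Φ := fun a =>
    hΦdef ▸ ⟨a ^ p, Cfsg.Agent.Lib.Helper2.pow_mem_frattini_of_isPGroup hP a, rfl⟩
  -- (3)
  have h3 : ∀ U : Subgroup X, Φ ≤ U → U ≤ P → B ≤ Subgroup.normalizer (U : Set X) →
      U = Φ ∨ U = P := by
    intro U hΦU hUP hBU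
    rcases lt_or_eq_of_le hUP with hlt | heq
    · left
      exact le_antisymm (hCΦ ▸ hleC U hlt hBU) hΦU
    · right; exact heq
  by_cases hD : ⁅P, P⁆ = ⊥
  · -- abelian case
    have hΦbot : Φ = ⊥ := hDeq ▸ hD
    have hexp : ∀ x ∈ P, x ^ p = 1 := by
      intro x hx
      have := hpowΦ ⟨x, hx⟩
      rw [hΦbot, Subgroup.mem_bot] at this
      simpa using this
    have hcomm : IsMulCommutative ↥P := by
      constructor
      constructor
      intro a b
      have h1 : ⁅(a : X), (b : X)⁆ ∈ ⁅P, P⁆ := Subgroup.commutator_mem_commutator a.2 b.2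
      rw [hD, Subgroup.mem_bot, commutatorElement_eq_one_iff_mul_comm] at h1
      exact Subtype.ext h1
    exact ⟨hPA, Or.inl ⟨hcomm, hexp⟩, h3, fun _ => hexp⟩
  · -- special case
    obtain ⟨Z, hZdef⟩ : ∃ Z : Subgroup X, Z = (Subgroup.center ↥P).map P.subtype := ⟨_, rfl⟩
    have hZP : Z ≤ P := hZdef ▸ Subgroup.map_subtype_le _
    have hZne : Z ≠ P := by
      intro h
      apply hD
      rw [Subgroup.commutator_eq_bot_iff_le_centralizer]
      intro x hx
      rw [← h, hZdef] at hx
      obtain ⟨z, hz, rfl⟩ := hx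
      rw [Subgroup.mem_centralizer_iff]
      intro y hy
      have := (Subgroup.mem_center_iff.mp hz) ⟨y, hy⟩
      exact congrArg Subtype.val this
    have hZB : B ≤ Subgroup.normalizer (Z : Set X) := fun b hb =>
      hZdef ▸ mem_normalizer_map_of_characteristic P (Subgroup.center ↥P) b (hBP hb)
    have hZC : Z ≤ C := hleC Z (lt_of_le_of_ne hZP hZne) hZB
    have hAC : A ≤ Subgroup.centralizer (C : Set X) := by
      rw [Subgroup.le_centralizer_iff, hCdef]
      exact inf_le_right
    have hPC : P ≤ Subgroup.normalizer (C : Set X) := by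
      rw [hCΦ]
      intro x hx
      exact hΦdef ▸ mem_normalizer_map_of_characteristic P (frattini P) x
        (Subgroup.le_normalizer hx)
    have hCcent : C ≤ Subgroup.centralizer (P : Set X) :=
      le_centralizer_of_commutator_eq P A C hPC hAC hPA
    have hCZ : C ≤ Z := by
      intro c hc
      rw [hZdef]
      refine ⟨⟨c, hCP hc⟩, ?_, rfl⟩
      rw [SetLike.mem_coe, Subgroup.mem_center_iff]
      intro g
      apply Subtype.ext
      have := (Subgroup.mem_centralizer_iff.mp (hCcent hc)) g g.2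
      exact this
    have hZeq : Z = Φ := hCΦ ▸ le_antisymm hZC hCZ
    have hfc : frattini ↥P = Subgroup.center ↥P := by
      apply Subgroup.map_injective P.subtype_injective
      rw [← hΦdef, ← hZdef, hZeq]
    have hcc : commutator ↥P = Subgroup.center ↥P := by
      apply Subgroup.map_injective P.subtype_injective
      rw [Subgroup.map_subtype_commutator, ← hZdef, hZeq, hDeq]
    refine ⟨hPA, Or.inr ⟨hP, hfc, hcc⟩, h3, ?_⟩
    intro hp2
    have hcen : ∀ a b : P, ⁅a, b⁆ ∈ Subgroup.center P := by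
      intro a b
      rw [← hcc, commutator_def]
      exact Subgroup.commutator_mem_commutator (Subgroup.mem_top a) (Subgroup.mem_top b)
    have hpow : ∀ a : P, a ^ p ∈ Subgroup.center P := by
      intro a
      rw [← hfc]
      exact Cfsg.Agent.Lib.Helper2.pow_mem_frattini_of_isPGroup hP a
    have hmul := mul_pow_prime_of_central (P := P) hpp hp2 hcen hpow
    -- the subgroup of elements with x^p = 1
    let πp : P →* P :=
      { toFun := fun x => x ^ p
        map_one' := one_pow p
        map_mul' := hmul }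
    have hle : ⁅P, A⁆ ≤ (πp.ker).map P.subtype := by
      rw [Subgroup.commutator_le]
      intro x hx a ha
      set φ := conjNormalizer P a (hAP ha) with hφ
      set x' : P := ⟨x, hx⟩ with hx'
      have hw : ⁅x, a⁆ = ((x' * φ x'⁻¹ : P) : X) := by
        simp [commutatorElement_def, hφ, hx', mul_assoc]
      have hwp : (x' * φ x'⁻¹) ^ p = 1 := by
        rw [hmul, ← map_pow, inv_pow]
        have hfix' : φ ((x' ^ p)⁻¹) = (x' ^ p)⁻¹ := by
          apply Subtype.ext
          rw [conjNormalizer_coe]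
          have hxC : ((x' ^ p : P) : X) ∈ C := hCΦ ▸ hpowΦ x'
          have h2 : a ∈ Subgroup.centralizer (C : Set X) := hAC ha
          rw [Subgroup.mem_centralizer_iff] at h2
          have h3' := h2 _ (inv_mem hxC)
          have h4 : (((x' ^ p)⁻¹ : P) : X) = ((x' ^ p : P) : X)⁻¹ := rfl
          rw [h4, ← h3', mul_inv_cancel_right]
        rw [hfix', mul_inv_cancel]
      rw [hw]
      exact ⟨x' * φ x'⁻¹, hwp, rfl⟩
    intro x hx
    have hx1 : x ∈ (πp.ker).map P.subtype := hle (by rw [hPA]; exact hx)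
    obtain ⟨z, hz, rfl⟩ := hx1
    have : z ^ p = 1 := hz
    have := congrArg (fun y : P => (y : X)) this
    simpa using this

end Cfsg.Agent.S3736
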