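import Cfsg.Statements.S1459
import Mathlib
import Cfsg.Agent.S3736
import Cfsg.Agent.Lib.Helper2.Cores
import Cfsg.Agent.Lib.Helper1.OmegaOne
import Cfsg.Agent.Lib.Helper13.Coprime

set_option autoImplicit false
open Cfsg

namespace Cfsg.Agent.S1459

open scoped commutatorElement Pointwise

/-- A subgroup of a solvable group contained in its own derived subgroup is trivial. -/
theorem eq_bot_of_perfect {Q : Type*} [Group Q] [Group.IsSolvable Q] (L : Subgroup Q)
    (h : L ≤ ⁅L, L⁆) : L = ⊥ := by
  obtain ⟨n, hn⟩ := Group.IsSolvable.solvable (G := Q)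
  have key : ∀ k, L ≤ derivedSeries Q k := by
    intro k
    induction k with
    | zero => simp
    | succ k ih =>
      rw [derivedSeries_succ]
      exact h.trans (Subgroup.commutator_mono ih ih)
  rw [eq_bot_iff, ← hn]; exact key n

theorem comm_central {Q : Type*} [Group Q] (z x b : Q) (h : ∀ q, z * q = q * z) :
    ⁅z * x, b⁆ = ⁅x, b⁆ := by
  have e : z * x * b * (z * x)⁻¹ * b⁻¹ = z * (x * b * x⁻¹) * z⁻¹ * b⁻¹ := by group
  rw [commutatorElement_def, commutatorElement_def, e, h, mul_inv_cancel_right]

theorem lemmaA {Q : Type*} [Group Q] (H K : Subgroup Q) [H.Normal] (hsup : H ⊔ K = ⊤)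
    (hHH : ⁅H, H⁆ = ⊥) (hHK : ⁅H, K⁆ = ⊥) (hdisj : H ⊓ K = ⊥) (hle : H ≤ commutator Q) :
    H = ⊥ := by
  have hdecomp : ∀ q : Q, ∃ h ∈ H, ∃ k ∈ K, q = h * k := by
    intro q
    have h1 : q ∈ ((H ⊔ K : Subgroup Q) : Set Q) := by rw [hsup]; trivial
    rw [Subgroup.normal_mul, Set.mem_mul] at h1
    obtain ⟨h, hh, k, hk, rfl⟩ := h1
    exact ⟨h, hh, k, hk, rfl⟩
  have hcomm1 : ∀ h ∈ H, ∀ h' ∈ H, h * h' = h' * h := by
    intro h hh h' hh'
    have := Subgroup.commutator_mem_commutator hh hh'
    rw [hHH, Subgroup.mem_bot, commutatorElement_eq_one_iff_mul_comm] at this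
    exact this
  have hcomm2 : ∀ h ∈ H, ∀ k ∈ K, h * k = k * h := by
    intro h hh k hk
    have := Subgroup.commutator_mem_commutator hh hk
    rw [hHK, Subgroup.mem_bot, commutatorElement_eq_one_iff_mul_comm] at this
    exact this
  have hcent : ∀ h ∈ H, ∀ q : Q, h * q = q * h := by
    intro h hh q
    obtain ⟨h', hh', k, hk, rfl⟩ := hdecomp q
    rw [← mul_assoc, hcomm1 h hh h' hh', mul_assoc, hcomm2 h hh k hk, mul_assoc]
  have hcK : commutator Q ≤ K := by
    rw [commutator_def, Subgroup.commutator_le]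
    intro g1 _ g2 _
    obtain ⟨h1, hh1, k1, hk1, rfl⟩ := hdecomp g1
    obtain ⟨h2, hh2, k2, hk2, rfl⟩ := hdecomp g2
    rw [comm_central h1 k1 _ (hcent h1 hh1), ← commutatorElement_inv,
      comm_central h2 k2 _ (hcent h2 hh2), commutatorElement_inv, commutatorElement_def]
    exact K.mul_mem (K.mul_mem (K.mul_mem hk1 hk2) (K.inv_mem hk1)) (K.inv_mem hk2)
  rw [eq_bot_iff, ← hdisj]
  exact le_inf le_rfl (hle.trans hcK)

theorem partA {G : Type*} [Group G] [Finite G] [Group.IsSolvable G] (H K : Subgroup G)
    (hHn : H.Normal) (hcop : (Nat.card H).Coprime H.index) (hc : Subgroup.IsComplement' H K)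
    (hle : H ≤ commutator G) : H = ⁅H, K⁆ := by
  have hsup : H ⊔ K = ⊤ := hc.sup_eq_top
  have hcardK : H.index = Nat.card K := hc.symm.index_eq_card
  have hNn : (⁅H, K⁆).Normal := by
    rw [← Subgroup.normalizer_eq_top_iff, eq_top_iff, ← hsup]
    exact Cfsg.Agent.Lib.Helper13.le_normalizer_commutator H K
  have hHHn : (⁅H, H⁆).Normal := inferInstance
  have hNH : ⁅H, K⁆ ≤ H := Subgroup.commutator_le_left H K
  -- step 1 : H ≤ ⁅H,H⁆ ⊔ ⁅H,K⁆
  have step1 : H ≤ ⁅H, H⁆ ⊔ ⁅H, K⁆ := by
    obtain ⟨M, hM⟩ : ∃ M : Subgroup G, M = ⁅H, H⁆ ⊔ ⁅H, K⁆ := ⟨_, rfl⟩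
    have hMn : M.Normal := hM ▸ Subgroup.sup_normal _ _
    rw [← hM]
    have hπ : Function.Surjective (QuotientGroup.mk' M) := QuotientGroup.mk'_surjective M
    haveI : (H.map (QuotientGroup.mk' M)).Normal := hHn.map _ hπ
    have h1 : H.map (QuotientGroup.mk' M) = ⊥ := by
      apply lemmaA (H.map (QuotientGroup.mk' M)) (K.map (QuotientGroup.mk' M))
      · rw [← Subgroup.map_sup, hsup, Subgroup.map_top_of_surjective _ hπ]
      · rw [← Subgroup.map_commutator, Subgroup.map_eq_bot_iff, QuotientGroup.ker_mk', hM]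
        exact le_sup_left
      · rw [← Subgroup.map_commutator, Subgroup.map_eq_bot_iff, QuotientGroup.ker_mk', hM]
        exact le_sup_right
      · apply Subgroup.inf_eq_bot_of_coprime
        have d1 := Subgroup.card_map_dvd H (QuotientGroup.mk' M)
        have d2 := Subgroup.card_map_dvd K (QuotientGroup.mk' M)
        rw [hcardK] at hcop
        exact Nat.Coprime.of_dvd d1 d2 hcop
      · have : commutator (G ⧸ M) = (commutator G).map (QuotientGroup.mk' M) := by
          rw [commutator_def, commutator_def, Subgroup.map_commutator,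
            Subgroup.map_top_of_surjective _ hπ]
        rw [this]
        exact Subgroup.map_mono hle
    rw [Subgroup.map_eq_bot_iff, QuotientGroup.ker_mk'] at h1
    exact h1
  -- step 2
  have hπ : Function.Surjective (QuotientGroup.mk' ⁅H, K⁆) := QuotientGroup.mk'_surjective _
  have h2 : H.map (QuotientGroup.mk' ⁅H, K⁆) = ⊥ := by
    apply eq_bot_of_perfect
    rw [← Subgroup.map_commutator]
    have : (⁅H, H⁆ ⊔ ⁅H, K⁆).map (QuotientGroup.mk' ⁅H, K⁆) =
        (⁅H, H⁆).map (QuotientGroup.mk' ⁅H, K⁆) := by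
      rw [Subgroup.map_sup]
      have : (⁅H, K⁆).map (QuotientGroup.mk' ⁅H, K⁆) = ⊥ := by
        rw [Subgroup.map_eq_bot_iff, QuotientGroup.ker_mk']
      rw [this, sup_bot_eq]
    rw [← this]
    exact Subgroup.map_mono step1
  rw [Subgroup.map_eq_bot_iff, QuotientGroup.ker_mk'] at h2
  exact le_antisymm h2 hNH

/-- A nilpotent group generated by one element modulo its derived subgroup is abelian. -/
theorem comm_of_cyclic_mod_commutator (T : Type*) [Group T] [Group.IsNilpotent T] :
    (∃ g : T, Subgroup.zpowers g ⊔ commutator T = ⊤) → ∀ a b : T, a * b = b * a := by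
  refine Group.nilpotent_center_quotient_ind
    (P := fun T _ _ => (∃ g : T, Subgroup.zpowers g ⊔ commutator T = ⊤) →
      ∀ a b : T, a * b = b * a) T ?_ ?_
  · intro T _ _ _ a b
    exact Subsingleton.elim _ _
  · intro T _ _ ih hcyc
    obtain ⟨g, hg⟩ := hcyc
    have hπ : Function.Surjective (QuotientGroup.mk' (Subgroup.center T)) :=
      QuotientGroup.mk'_surjective _
    have hcQ : commutator (T ⧸ Subgroup.center T) =
        (commutator T).map (QuotientGroup.mk' (Subgroup.center T)) := by
      rw [commutator_def, commutator_def, Subgroup.map_commutator,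
        Subgroup.map_top_of_surjective _ hπ]
    have hg' : Subgroup.zpowers (QuotientGroup.mk' (Subgroup.center T) g) ⊔
        commutator (T ⧸ Subgroup.center T) = ⊤ := by
      rw [hcQ, ← MonoidHom.map_zpowers, ← Subgroup.map_sup, hg,
        Subgroup.map_top_of_surjective _ hπ]
    have hcomm := ih ⟨_, hg'⟩
    have hbot : commutator (T ⧸ Subgroup.center T) = ⊥ := by
      rw [commutator_def, Subgroup.commutator_eq_bot_iff_le_centralizer]
      intro x _
      rw [Subgroup.mem_centralizer_iff]
      intro y _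
      exact hcomm y x
    rw [hbot, sup_bot_eq] at hg'
    haveI : IsCyclic (T ⧸ Subgroup.center T) :=
      isCyclic_iff_exists_zpowers_eq_top.mpr ⟨_, hg'⟩
    intro a b
    exact commutative_of_cyclic_center_quotient (QuotientGroup.mk' (Subgroup.center T))
      (by rw [QuotientGroup.ker_mk']) a b

theorem exists_zpowers_sup {G : Type*} [Group G] [Finite G] (D : Subgroup G)
    (hr : D.index.Prime) : ∃ g : G, Subgroup.zpowers g ⊔ D = ⊤ := by
  have hne : D ≠ ⊤ := by
    intro h
    rw [h, Subgroup.index_top] at hr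
    exact Nat.not_prime_one hr
  obtain ⟨g, -, hg⟩ := SetLike.exists_of_lt (lt_top_iff_ne_top.mpr hne)
  refine ⟨g, ?_⟩
  have hle : D ≤ Subgroup.zpowers g ⊔ D := le_sup_right
  have hdvd : (Subgroup.zpowers g ⊔ D).index ∣ D.index := Subgroup.index_dvd_of_le hle
  rcases (Nat.dvd_prime hr).mp hdvd with h1 | h1
  · exact Subgroup.index_eq_one.mp h1
  · exfalso
    have h2 := Subgroup.relIndex_mul_index hle
    rw [h1] at h2
    have h3 : D.relIndex (Subgroup.zpowers g ⊔ D) = 1 := by
      have hpos : 0 < D.index := hr.pos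
      exact Nat.eq_of_mul_eq_mul_right hpos (by rw [h2, one_mul])
    rw [Subgroup.relIndex_eq_one] at h3
    exact hg (h3 (Subgroup.mem_sup_left (Subgroup.mem_zpowers g)))

theorem partB {G : Type*} [Group G] [Finite G]
    (hnil : Group.IsNilpotent ↥(commutator G)) (hr : (commutator G).index.Prime) :
    (Nat.card ↥(commutator G)).Coprime (commutator G).index := by
  obtain ⟨D, hD⟩ : ∃ D : Subgroup G, D = commutator G := ⟨_, rfl⟩
  obtain ⟨r, hrdef⟩ : ∃ r : ℕ, r = (commutator G).index := ⟨_, rfl⟩
  rw [← hrdef] at hr ⊢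
  haveI : Fact r.Prime := ⟨hr⟩
  have hRn : (pPrimeCore r G).Normal := Cfsg.Agent.Lib.Helper2.pPrimeCore_normal r
  have hRcop : (Nat.card (pPrimeCore r G)).Coprime r :=
    Cfsg.Agent.Lib.Helper2.pPrimeCore_coprime r
  have hsyl := ((Group.isNilpotent_of_finite_tfae (G := ↥(commutator G))).out 0 3).mp hnil
  -- the index of R is a power of r
  have hprimes : ∀ {q : ℕ}, q.Prime → q ∣ (pPrimeCore r G).index → q = r := by
    intro q hq hdvd
    by_contra hne
    haveI : Fact q.Prime := ⟨hq⟩
    let Q : Sylow q ↥(commutator G) := default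
    have hQn : (Q : Subgroup ↥(commutator G)).Normal := hsyl q inferInstance Q
    haveI hQc : (Q : Subgroup ↥(commutator G)).Characteristic := Q.characteristic_of_normal hQn
    have hQmn : ((Q : Subgroup ↥(commutator G)).map (commutator G).subtype).Normal := by
      rw [← Subgroup.normalizer_eq_top_iff, eq_top_iff]
      intro g _
      apply Cfsg.Agent.Lib.Helper1.mem_normalizer_map_of_characteristic
      rw [Subgroup.normalizer_eq_top (commutator G)]
      trivial
    have hcard : Nat.card ((Q : Subgroup ↥(commutator G)).map (commutator G).subtype) =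
        Nat.card (Q : Subgroup ↥(commutator G)) :=
      Subgroup.card_map_of_injective (Subgroup.subtype_injective _)
    have hcop : (Nat.card ((Q : Subgroup ↥(commutator G)).map (commutator G).subtype)).Coprime r := by
      rw [hcard, Sylow.card_eq_multiplicity]
      exact Nat.Coprime.pow_left _ ((Nat.coprime_primes hq hr).mpr hne)
    have hle := Cfsg.Agent.Lib.Helper2.le_pPrimeCore hQmn hcop
    have hd2 := Subgroup.index_dvd_of_le hle
    rw [Subgroup.index_map_subtype, ← hrdef] at hd2
    rcases (Nat.Prime.dvd_mul hq).mp (hdvd.trans hd2) with h | h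
    · exact Q.not_dvd_index h
    · exact hne ((Nat.prime_dvd_prime_iff_eq hq hr).mp h)
  have hpow := Nat.eq_prime_pow_of_unique_prime_dvd
    (Subgroup.index_ne_zero_of_finite (H := pPrimeCore r G)) hprimes
  have hPG : IsPGroup r (G ⧸ pPrimeCore r G) := by
    apply IsPGroup.of_card (n := (pPrimeCore r G).index.primeFactorsList.length)
    rw [← Subgroup.index_eq_card]
    exact hpow
  haveI : Group.IsNilpotent (G ⧸ pPrimeCore r G) := hPG.isNilpotent
  have hπ : Function.Surjective (QuotientGroup.mk' (pPrimeCore r G)) :=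
    QuotientGroup.mk'_surjective _
  have hcQ : commutator (G ⧸ pPrimeCore r G) =
      (commutator G).map (QuotientGroup.mk' (pPrimeCore r G)) := by
    rw [commutator_def, commutator_def, Subgroup.map_commutator,
      Subgroup.map_top_of_surjective _ hπ]
  obtain ⟨g, hg⟩ := exists_zpowers_sup (commutator G) (hrdef ▸ hr)
  have hg' : Subgroup.zpowers (QuotientGroup.mk' (pPrimeCore r G) g) ⊔
      commutator (G ⧸ pPrimeCore r G) = ⊤ := by
    rw [hcQ, ← MonoidHom.map_zpowers, ← Subgroup.map_sup, hg,
      Subgroup.map_top_of_surjective _ hπ]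
  have hcomm := comm_of_cyclic_mod_commutator (G ⧸ pPrimeCore r G) ⟨_, hg'⟩
  have hbot : commutator (G ⧸ pPrimeCore r G) = ⊥ := by
    rw [commutator_def, Subgroup.commutator_eq_bot_iff_le_centralizer]
    intro x _
    rw [Subgroup.mem_centralizer_iff]
    intro y _
    exact hcomm y x
  rw [hcQ, Subgroup.map_eq_bot_iff, QuotientGroup.ker_mk'] at hbot
  exact Nat.Coprime.coprime_dvd_left (Subgroup.card_dvd_of_le hbot) hRcop

/-- Let G be a finite solvable group. (a) If H is a normal subgroup of order coprime to its index, K is a complement to H, and H ≤ G', then H = [H, K] and H ∩ C_G(K) ≤ [H, H]. (b) If G' is nilpotent and has prime index in G, then the order of G' is coprime to its index and G' = [G, K] (the subgroup generated by commutators of elements of G with elements of K) for every complement K of G'. -/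
theorem result {G : Type*} [Group G] [Finite G] [Group.IsSolvable G] :
    (∀ (H K : Subgroup G), H.Normal → (Nat.card H).Coprime H.index → Subgroup.IsComplement' H K → H ≤ commutator G →
        H = ⁅H, K⁆ ∧ H ⊓ Subgroup.centralizer (K : Set G) ≤ ⁅H, H⁆) ∧
      (Group.IsNilpotent ↥(commutator G) → (commutator G).index.Prime →
        (Nat.card ↥(commutator G)).Coprime (commutator G).index ∧
        ∀ K : Subgroup G, Subgroup.IsComplement' (commutator G) K → commutator G = ⁅(⊤ : Subgroup G), K⁆) := by
  refine ⟨?_, ?_⟩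
  · intro H K hHn hcop hc hle
    have h1 := partA H K hHn hcop hc hle
    refine ⟨h1, ?_⟩
    have hKN : K ≤ Subgroup.normalizer (H : Set G) := by
      rw [Subgroup.normalizer_eq_top H]; exact le_top
    have hcop' : (Nat.card K).Coprime (Nat.card H) := by
      rw [← hc.symm.index_eq_card]; exact hcop.symm
    exact Cfsg.Agent.S3736.centralizer_le_commutator H K hKN hcop' h1.symm
  · intro hnil hr
    have hcop := partB hnil hr
    refine ⟨hcop, ?_⟩
    intro K hc
    have h1 := partA (commutator G) K inferInstance hcop hc le_rfl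
    apply le_antisymm
    · rw [h1]
      exact Subgroup.commutator_mono le_top le_rfl
    · rw [commutator_def]
      exact Subgroup.commutator_mono le_rfl le_top

end Cfsg.Agent.S1459
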