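import Cfsg.Statements.S1460
import Mathlib
import Cfsg.Agent.Lib.Helper13.Coprime

set_option autoImplicit false
open Cfsg

namespace Cfsg.Agent.S1460

open scoped Pointwise

universe u

/-- part (3): conjugates of `H` inside `U`. -/
theorem part3 {G : Type u} [Group G] [Finite G] [Group.IsSolvable G] (K U H : Subgroup G) [K.Normal]
    (hKU : K ⊔ U = ⊤) (hH : H ≤ U) (hcop : (Nat.card H).Coprime (Nat.card K)) :
    ∀ g : G, H.map (MulAut.conj g).toMonoidHom ≤ U →
      ∃ u ∈ U, ∃ c ∈ K ⊓ Subgroup.centralizer (H : Set G), g = u * c := by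
  intro g hg
  have hg1 : g ∈ ((U ⊔ K : Subgroup G) : Set G) := by rw [sup_comm, hKU]; trivial
  rw [Subgroup.mul_normal, Set.mem_mul] at hg1
  obtain ⟨u, hu, k, hk, rfl⟩ := hg1
  have hu : u ∈ U := hu
  have hk : k ∈ K := hk
  set B : Subgroup G := H.map (MulAut.conj k).toMonoidHom with hB
  have hBU : B ≤ U := by
    rintro _ ⟨h, hh, rfl⟩
    have h1 : u * k * h * (u * k)⁻¹ ∈ U := hg ⟨h, hh, rfl⟩
    have h2 : k * h * k⁻¹ = u⁻¹ * (u * k * h * (u * k)⁻¹) * u := by group
    show k * h * k⁻¹ ∈ U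
    rw [h2]
    exact U.mul_mem (U.mul_mem (U.inv_mem hu) h1) hu
  have hBle : B ≤ (K ⊓ U) ⊔ H := by
    rintro _ ⟨h, hh, rfl⟩
    have h1 : k * h * k⁻¹ ∈ U := hBU ⟨h, hh, rfl⟩
    have h2 : k * h * k⁻¹ * h⁻¹ ∈ K := by
      have : k * h * k⁻¹ * h⁻¹ = k * (h * k⁻¹ * h⁻¹) := by group
      rw [this]
      exact K.mul_mem hk (Subgroup.Normal.conj_mem inferInstance _ (K.inv_mem hk) h)
    have h3 : k * h * k⁻¹ * h⁻¹ ∈ U := U.mul_mem h1 (U.inv_mem (hH hh))
    have h4 : k * h * k⁻¹ = (k * h * k⁻¹ * h⁻¹) * h := by group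
    show k * h * k⁻¹ ∈ _
    rw [h4]
    exact Subgroup.mul_mem_sup ⟨h2, h3⟩ hh
  have hHN : H ≤ Subgroup.normalizer ((K ⊓ U : Subgroup G) : Set G) := by
    intro h hh
    rw [Subgroup.mem_normalizer_iff]
    intro x
    constructor
    · rintro ⟨hx1, hx2⟩
      exact ⟨Subgroup.Normal.conj_mem inferInstance _ hx1 h,
        U.mul_mem (U.mul_mem (hH hh) hx2) (U.inv_mem (hH hh))⟩
    · rintro ⟨hx1, hx2⟩
      refine ⟨?_, ?_⟩
      · have := Subgroup.Normal.conj_mem (inferInstance : K.Normal) _ hx1 h⁻¹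
        have e : h⁻¹ * (h * x * h⁻¹) * h⁻¹⁻¹ = x := by group
        rwa [e] at this
      · have := U.mul_mem (U.mul_mem (U.inv_mem (hH hh)) hx2) (hH hh)
        have e : h⁻¹ * (h * x * h⁻¹) * h = x := by group
        rwa [e] at this
  have hcardB : Nat.card B = Nat.card H :=
    Subgroup.card_map_of_injective (MulAut.conj k).injective
  have hcop' : (Nat.card (K ⊓ U : Subgroup G)).Coprime (Nat.card H) :=
    (Nat.Coprime.coprime_dvd_right (Subgroup.card_dvd_of_le inf_le_left) hcop).symm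
  have hsolvH : Group.IsSolvable H := inferInstance
  obtain ⟨n, hn, hnB⟩ := Cfsg.Agent.Lib.Helper13.rel_sz_conj (K ⊓ U) H B hHN hBle hcardB hcop'
    (Or.inr hsolvH)
  -- c := n⁻¹ k normalizes H
  set c : G := n⁻¹ * k with hc
  have hcK : c ∈ K := K.mul_mem (K.inv_mem hn.1) hk
  have hcH : ∀ h ∈ H, c * h * c⁻¹ ∈ H := by
    intro h hh
    have h1 : k * h * k⁻¹ ∈ B := ⟨h, hh, rfl⟩
    rw [← hnB] at h1
    obtain ⟨h', hh', he⟩ := h1
    have he' : n * h' * n⁻¹ = k * h * k⁻¹ := he
    have : c * h * c⁻¹ = n⁻¹ * (k * h * k⁻¹) * n := by rw [hc]; group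
    rw [this, ← he']
    have e : n⁻¹ * (n * h' * n⁻¹) * n = h' := by group
    rw [e]; exact hh'
  have hKH : K ⊓ H = ⊥ := (Subgroup.disjoint_of_coprime_natCard hcop.symm).eq_bot
  have hcC : c ∈ Subgroup.centralizer (H : Set G) := by
    rw [Subgroup.mem_centralizer_iff]
    intro h hh
    have h1 : c * h * c⁻¹ * h⁻¹ ∈ K := by
      have : c * h * c⁻¹ * h⁻¹ = c * (h * c⁻¹ * h⁻¹) := by group
      rw [this]
      exact K.mul_mem hcK (Subgroup.Normal.conj_mem inferInstance _ (K.inv_mem hcK) h)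
    have h2 : c * h * c⁻¹ * h⁻¹ ∈ H := H.mul_mem (hcH h hh) (H.inv_mem hh)
    have h3 : c * h * c⁻¹ * h⁻¹ ∈ K ⊓ H := ⟨h1, h2⟩
    rw [hKH, Subgroup.mem_bot] at h3
    calc h * c = (c * h * c⁻¹ * h⁻¹)⁻¹ * (c * h) := by group
      _ = c * h := by rw [h3]; group
  refine ⟨u * n, U.mul_mem hu hn.2, c, ⟨hcK, hcC⟩, ?_⟩
  rw [hc]; group

/-- Let G be a finite solvable group, K a normal subgroup and U a subgroup with G = KU, and H ≤ U a subgroup whose order is coprime to that of K. Then H ∩ G' = H ∩ U'; N_G(H) is generated by K ∩ C_G(H) and U ∩ N_G(H); and if gHg⁻¹ ≤ U for some g ∈ G then g = u c with u ∈ U and c ∈ K ∩ C_G(H). -/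
theorem result {G : Type*} [Group G] [Finite G] [Group.IsSolvable G] (K U H : Subgroup G) [K.Normal] (hKU : K ⊔ U = ⊤) (hH : H ≤ U) (hcop : (Nat.card H).Coprime (Nat.card K)) :
    H ⊓ commutator G = H ⊓ ⁅U, U⁆ ∧
      Subgroup.normalizer (H : Set G) = (K ⊓ Subgroup.centralizer (H : Set G)) ⊔ (U ⊓ Subgroup.normalizer (H : Set G)) ∧
      ∀ g : G, H.map (MulAut.conj g).toMonoidHom ≤ U → ∃ u ∈ U, ∃ c ∈ K ⊓ Subgroup.centralizer (H : Set G), g = u * c := by
  have h3 := part3 K U H hKU hH hcop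
  refine ⟨?_, ?_, h3⟩
  · apply le_antisymm
    · -- `G' ≤ K ⊔ U'`
      have hG' : commutator G ≤ K ⊔ ⁅U, U⁆ := by
        have hsurj : U.map (QuotientGroup.mk' K) = ⊤ := by
          rw [eq_top_iff]
          rintro x -
          obtain ⟨g, rfl⟩ := QuotientGroup.mk'_surjective K x
          have hg1 : g ∈ ((U ⊔ K : Subgroup G) : Set G) := by rw [sup_comm, hKU]; trivial
          rw [Subgroup.mul_normal, Set.mem_mul] at hg1
          obtain ⟨u, hu, k, hk, rfl⟩ := hg1
          refine ⟨u, hu, ?_⟩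
          rw [map_mul]
          have : QuotientGroup.mk' K k = 1 := (QuotientGroup.eq_one_iff k).mpr hk
          rw [this, mul_one]
        have h1 : (commutator G).map (QuotientGroup.mk' K) ≤ (⁅U, U⁆).map (QuotientGroup.mk' K) := by
          rw [Subgroup.map_commutator, hsurj, commutator_def, Subgroup.map_commutator]
          exact Subgroup.commutator_mono le_top le_top
        have h2 := Subgroup.comap_mono (f := QuotientGroup.mk' K) h1
        rw [Subgroup.comap_map_eq, Subgroup.comap_map_eq, QuotientGroup.ker_mk'] at h2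
        exact (le_sup_left.trans h2).trans (by rw [sup_comm])
      rintro h ⟨hhH, hhG⟩
      refine ⟨hhH, ?_⟩
      have hmem : h ∈ ((K ⊔ ⁅U, U⁆ : Subgroup G) : Set G) := hG' hhG
      rw [Subgroup.normal_mul, Set.mem_mul] at hmem
      obtain ⟨k, hk, w, hw, hkw⟩ := hmem
      have hk : k ∈ K := hk
      have hw : w ∈ ⁅U, U⁆ := hw
      have hwU : w ∈ U := Subgroup.commutator_le_self U hw
      have hkU : k ∈ U := by
        have : k = h * w⁻¹ := by rw [← hkw]; group
        rw [this]; exact U.mul_mem (hH hhH) (U.inv_mem hwU)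
      -- pass to the abelianization of `U`
      let φ : ↥U →* Abelianization ↥U := Abelianization.of
      have hφw : φ ⟨w, hwU⟩ = 1 := by
        rw [← MonoidHom.mem_ker, Abelianization.ker_of]
        have : w ∈ (commutator ↥U).map U.subtype := by
          rw [Subgroup.map_subtype_commutator]; exact hw
        obtain ⟨w', hw', he⟩ := this
        have : w' = ⟨w, hwU⟩ := Subtype.ext he
        rw [← this]; exact hw'
      have hφh : φ ⟨h, hH hhH⟩ = φ ⟨k, hkU⟩ := by
        have : (⟨h, hH hhH⟩ : ↥U) = ⟨k, hkU⟩ * ⟨w, hwU⟩ := Subtype.ext hkw.symm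
        rw [this, map_mul, hφw, mul_one]
      have hkm : k ^ Nat.card K = 1 := by
        have := pow_card_eq_one' (G := K) (x := ⟨k, hk⟩)
        simpa only [Subgroup.coe_pow, Subgroup.coe_one] using congrArg Subtype.val this
      have hφhm : φ (⟨h, hH hhH⟩ ^ Nat.card K) = 1 := by
        rw [map_pow, hφh, ← map_pow]
        have : (⟨k, hkU⟩ : ↥U) ^ Nat.card K = 1 := Subtype.ext (by simpa using hkm)
        rw [this, map_one]
      have hhm : h ^ Nat.card K ∈ ⁅U, U⁆ := by
        rw [← MonoidHom.mem_ker, Abelianization.ker_of] at hφhm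
        rw [← Subgroup.map_subtype_commutator]
        exact ⟨_, hφhm, by simp⟩
      have hhH' : h ^ Nat.card H = 1 := by
        have := pow_card_eq_one' (G := H) (x := ⟨h, hhH⟩)
        simpa only [Subgroup.coe_pow, Subgroup.coe_one] using congrArg Subtype.val this
      have hco : (Nat.card K).Coprime (orderOf h) :=
        Nat.Coprime.coprime_dvd_right (orderOf_dvd_of_pow_eq_one hhH') hcop.symm
      obtain ⟨m, hm⟩ := exists_pow_eq_self_of_coprime hco
      rw [← hm]
      exact Subgroup.pow_mem _ hhm m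
    · refine inf_le_inf_left _ ?_
      rw [commutator_def]
      exact Subgroup.commutator_mono le_top le_top
  · apply le_antisymm
    · intro g hg
      have hgH : H.map (MulAut.conj g).toMonoidHom ≤ U := by
        rintro _ ⟨h, hh, rfl⟩
        exact hH ((Subgroup.mem_normalizer_iff.mp hg h).mp hh)
      obtain ⟨u, hu, c, hc, rfl⟩ := h3 g hgH
      have hcN : c ∈ Subgroup.normalizer (H : Set G) := Subgroup.centralizer_le_normalizer _ hc.2
      have huN : u ∈ Subgroup.normalizer (H : Set G) := by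
        have : u = (u * c) * c⁻¹ := by group
        rw [this]
        exact Subgroup.mul_mem _ hg (Subgroup.inv_mem _ hcN)
      rw [sup_comm]
      exact Subgroup.mul_mem_sup ⟨hu, huN⟩ hc
    · exact sup_le (inf_le_right.trans (Subgroup.centralizer_le_normalizer _)) inf_le_right

end Cfsg.Agent.S1460
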