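import Cfsg.Statements.S1461
import Mathlib
import Cfsg.Agent.Lib.Helper6.PLengthOne
import Cfsg.Agent.S1460
import Cfsg.Agent.Lib.Helper29.GroupFusion

set_option autoImplicit false
open Cfsg

namespace Cfsg.Agent.S1461

/-- Let G be a finite solvable group, p a prime with G = O_{p',p,p'}(G), and S a Sylow p-subgroup. Then: if S ≤ G' then S ≤ [N_G(S), N_G(S)]; if Y ⊆ S and xYx⁻¹ ⊆ S then x = g c for some g ∈ N_G(S) and c centralizing Y; and for every p-subgroup Q there is x ∈ C_G(Q ∩ S) with xQx⁻¹ ≤ S. -/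
theorem result {G : Type*} [Group G] [Finite G] [Group.IsSolvable G] (p : ℕ) [Fact p.Prime] (hpl : Cfsg.PLengthLE p 1 G) (S : Sylow p G) :
    ((S : Subgroup G) ≤ commutator G → (S : Subgroup G) ≤ ⁅Subgroup.normalizer ((S : Subgroup G) : Set G), Subgroup.normalizer ((S : Subgroup G) : Set G)⁆) ∧
      (∀ (Y : Set G) (x : G), Y ⊆ (S : Subgroup G) → (fun y => x * y * x⁻¹) '' Y ⊆ (S : Subgroup G) →
        ∃ g ∈ Subgroup.normalizer ((S : Subgroup G) : Set G), ∃ c ∈ Subgroup.centralizer Y, g * c = x) ∧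
      ∀ Q : Subgroup G, IsPGroup p Q → ∃ x ∈ Subgroup.centralizer ((Q ⊓ (S : Subgroup G) : Subgroup G) : Set G), Q.map (MulAut.conj x).toMonoidHom ≤ (S : Subgroup G) := by
  obtain ⟨K, hKn, hKcop, hKU⟩ := Cfsg.Agent.Lib.Helper6.plength_one_frattini hpl S
  haveI := hKn
  set U : Subgroup G := Subgroup.normalizer ((S : Subgroup G) : Set G) with hU
  have hSU : (S : Subgroup G) ≤ U := Subgroup.le_normalizer
  have hcopH : ∀ H : Subgroup G, H ≤ (S : Subgroup G) → (Nat.card H).Coprime (Nat.card K) := by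
    intro H hH
    obtain ⟨k, hk⟩ := IsPGroup.iff_card.mp (S.isPGroup'.to_le hH)
    rw [hk]
    exact (Nat.Coprime.pow_right k hKcop).symm
  have part2 : ∀ (Y : Set G) (x : G), Y ⊆ (S : Subgroup G) →
      (fun y => x * y * x⁻¹) '' Y ⊆ (S : Subgroup G) →
      ∃ g ∈ U, ∃ c ∈ Subgroup.centralizer Y, g * c = x := by
    intro Y x hY hxY
    set H : Subgroup G := Subgroup.closure Y with hH
    have hHS : H ≤ (S : Subgroup G) := (Subgroup.closure_le _).mpr hY
    have hxH : H.map (MulAut.conj x).toMonoidHom ≤ U := by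
      rw [hH, MonoidHom.map_closure, Subgroup.closure_le]
      rintro _ ⟨y, hy, rfl⟩
      exact hSU (hxY ⟨y, hy, rfl⟩)
    obtain ⟨u, hu, c, hc, rfl⟩ := Cfsg.Agent.S1460.part3 K U H hKU (hHS.trans hSU) (hcopH H hHS) x hxH
    refine ⟨u, hu, c, ?_, rfl⟩
    exact Subgroup.centralizer_le Subgroup.subset_closure hc.2
  refine ⟨?_, part2, ?_⟩
  · intro hSG
    have h1 := (Cfsg.Agent.S1460.result K U (S : Subgroup G) hKU hSU (hcopH _ le_rfl)).1
    have h2 : (S : Subgroup G) ⊓ commutator G = (S : Subgroup G) := inf_eq_left.mpr hSG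
    rw [h2] at h1
    rw [h1]
    exact inf_le_right
  · intro Q hQ
    obtain ⟨y, hy⟩ := Cfsg.Agent.Lib.Helper29.exists_cj_le_sylow S hQ
    have hyQ : ∀ q ∈ Q, y * q * y⁻¹ ∈ (S : Subgroup G) := fun q hq =>
      hy (Cfsg.Agent.Lib.Helper29.conj_mem_cj hq)
    obtain ⟨g, hg, c, hc, hgc⟩ := part2 ((Q ⊓ (S : Subgroup G) : Subgroup G) : Set G) y
      (fun z hz => hz.2) (by
        rintro _ ⟨z, hz, rfl⟩
        exact hyQ z hz.1)
    refine ⟨c, hc, ?_⟩
    rintro _ ⟨q, hq, rfl⟩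
    show c * q * c⁻¹ ∈ (S : Subgroup G)
    have hc' : c = g⁻¹ * y := by rw [← hgc]; group
    have h1 : y * q * y⁻¹ ∈ (S : Subgroup G) := hyQ q hq
    have h2 := (Subgroup.mem_normalizer_iff.mp (Subgroup.inv_mem _ hg) (y * q * y⁻¹)).mp h1
    have : c * q * c⁻¹ = g⁻¹ * (y * q * y⁻¹) * g⁻¹⁻¹ := by rw [hc']; group
    rw [this]; exact h2

end Cfsg.Agent.S1461
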