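import Cfsg.Statements.S1462
import Mathlib
import Cfsg.Agent.Lib.Helper6.PLengthOne
import Cfsg.Agent.Lib.Helper17.Thompson
import Cfsg.Agent.Lib.Helper1.OmegaOne
import Cfsg.Agent.Lib.Helper1.ThompsonAxB
import Cfsg.Agent.Lib.Helper20.Bender
import Cfsg.Agent.Lib.Helper29.SylowSub
import Cfsg.Agent.Lib.Helper13.Coprime

set_option autoImplicit false
open Cfsg

namespace Cfsg.Agent.S1462

open Cfsg.Agent.Lib.Helper17 Cfsg.Agent.Lib.Helper29

/-- Lifting a maximal elementary abelian `p`-subgroup modulo a normal `p'`-subgroup: elements of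
order `p` in the quotient centralizing the image of `E` lie in the image of `E`. -/
theorem lift_max_ea {G : Type*} [Group G] [Finite G] (p : ℕ) [Fact p.Prime] (K : Subgroup G)
    [K.Normal] (hKcop : (Nat.card K).Coprime p) (E : Subgroup G)
    (hE : Cfsg.IsElementaryAbelian p E)
    (hEmax : ∀ B : Subgroup G, Cfsg.IsElementaryAbelian p B → E ≤ B → B = E)
    (x : G ⧸ K) (hxc : x ∈ Subgroup.centralizer ((E.map (QuotientGroup.mk' K) : Subgroup (G ⧸ K)) : Set (G ⧸ K)))
    (hxp : x ^ p = 1) : x ∈ E.map (QuotientGroup.mk' K) := by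
  have hp : p.Prime := Fact.out
  set π := QuotientGroup.mk' K with hπ
  set E' : Subgroup (G ⧸ K) := E.map π with hE'
  have hE'ea : Cfsg.IsElementaryAbelian p E' := by
    rw [ea_iff]
    refine ⟨?_, ?_⟩
    · rintro _ ⟨e, he, rfl⟩
      rw [Subgroup.mem_centralizer_iff]
      rintro _ ⟨e', he', rfl⟩
      rw [← map_mul, ← map_mul, ea_comm hE he' he]
    · rintro _ ⟨e, he, rfl⟩
      rw [← map_pow, hE.2 e he, map_one]
  set B' : Subgroup (G ⧸ K) := E' ⊔ Subgroup.zpowers x with hB'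
  have hB'ea : Cfsg.IsElementaryAbelian p B' := by
    apply ea_sup hE'ea (ea_zpowers hxp)
    rw [Subgroup.le_centralizer_iff, Subgroup.zpowers_le]
    exact hxc
  have hB'p : IsPGroup p B' := ea_isPGroup hB'ea
  obtain ⟨j, hj⟩ := IsPGroup.iff_card.mp hB'p
  set W : Subgroup G := B'.comap π with hW
  have hEW : E ≤ W := by
    intro e he
    exact (le_sup_left : E' ≤ B') ⟨e, he, rfl⟩
  have hEp : IsPGroup p E := ea_isPGroup hE
  obtain ⟨R, hR⟩ := ((isPGroup_subgroupOf_iff_of_le hEW).2 hEp).exists_le_sylow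
  set B : Subgroup G := (R : Subgroup ↥W).map W.subtype with hB
  have hBW : B ≤ W := Subgroup.map_subtype_le _
  have hBp : IsPGroup p B := R.isPGroup'.map _
  have hEB : E ≤ B := by
    intro q hq
    exact ⟨⟨q, hEW hq⟩, hR (Subgroup.mem_subgroupOf.mpr hq), rfl⟩
  have hWcard : Nat.card W = Nat.card K * p ^ j := by
    rw [hW, Cfsg.Agent.Lib.Helper3.card_comap_mk'_eq K B', hj]
  have hKnd : ¬ p ∣ Nat.card K := (Nat.Prime.coprime_iff_not_dvd hp).mp hKcop.symm
  have hfac : (Nat.card K * p ^ j).factorization p = j := by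
    rw [Nat.factorization_mul Nat.card_pos.ne' (pow_ne_zero j hp.ne_zero), Finsupp.add_apply,
      Nat.factorization_eq_zero_of_not_dvd hKnd, hp.factorization_pow, Finsupp.single_eq_same,
      zero_add]
  have hBcard : Nat.card B = p ^ j := by
    rw [hB, Subgroup.card_map_of_injective (Subgroup.subtype_injective _), R.card_eq_multiplicity,
      hWcard, hfac]
  have hKB : K ⊓ B = ⊥ := by
    apply (Subgroup.disjoint_of_coprime_natCard _).eq_bot
    rw [hBcard]
    exact Nat.Coprime.pow_right j hKcop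
  have hmapcard : Nat.card (B.map π) = p ^ j := by
    rw [← Subgroup.relIndex_ker, hπ, QuotientGroup.ker_mk', ← Subgroup.inf_relIndex_right, hKB,
      Subgroup.relIndex_bot_left, hBcard]
  have hmapB : B.map π = B' := by
    apply Subgroup.eq_of_le_of_card_ge
    · rw [Subgroup.map_le_iff_le_comap]; exact hBW
    · rw [hmapcard, hj]
  have hinj : ∀ b ∈ B, π b = 1 → b = 1 := by
    intro b hb hb1
    have hbK : b ∈ K := (QuotientGroup.eq_one_iff b).mp hb1
    have : b ∈ K ⊓ B := ⟨hbK, hb⟩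
    rwa [hKB, Subgroup.mem_bot] at this
  have hBea : Cfsg.IsElementaryAbelian p B := by
    rw [ea_iff]
    refine ⟨?_, ?_⟩
    · intro b₁ hb₁
      rw [Subgroup.mem_centralizer_iff]
      intro b₂ hb₂
      have h1 : π b₁ ∈ B' := by rw [← hmapB]; exact ⟨b₁, hb₁, rfl⟩
      have h2 : π b₂ ∈ B' := by rw [← hmapB]; exact ⟨b₂, hb₂, rfl⟩
      have h3 := ea_comm hB'ea h2 h1
      have h4 : π ((b₂ * b₁) * (b₁ * b₂)⁻¹) = 1 := by
        rw [map_mul, map_inv, map_mul, map_mul, h3, mul_inv_cancel]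
      have h5 := hinj _ (B.mul_mem (B.mul_mem hb₂ hb₁) (B.inv_mem (B.mul_mem hb₁ hb₂))) h4
      exact mul_inv_eq_one.mp h5
    · intro b hb
      apply hinj _ (B.pow_mem hb p)
      rw [map_pow]
      have h1 : π b ∈ B' := by rw [← hmapB]; exact ⟨b, hb, rfl⟩
      exact hB'ea.2 _ h1
  have hBE : B = E := hEmax B hBea hEB
  have : B' = E' := by rw [← hmapB, hBE]
  rw [← this]
  exact (le_sup_right : Subgroup.zpowers x ≤ B') (Subgroup.mem_zpowers x)

/-- Let G be a finite solvable group, p an odd prime with G = O_{p',p,p'}(G), E an elementary abelian p-subgroup contained in no larger elementary abelian p-subgroup of G, and L a subgroup of order coprime to p normalized by E. Then L ≤ O_{p'}(G). -/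
theorem result {G : Type*} [Group G] [Finite G] [Group.IsSolvable G] (p : ℕ) [Fact p.Prime] (hp : p ≠ 2) (hpl : Cfsg.PLengthLE p 1 G) (E L : Subgroup G) (hE : Cfsg.IsElementaryAbelian p E)
    (hEmax : ∀ B : Subgroup G, Cfsg.IsElementaryAbelian p B → E ≤ B → B = E) (hL : (Nat.card L).Coprime p) (hEL : E ≤ Subgroup.normalizer (L : Set G)) :
    L ≤ Cfsg.pPrimeCore p G := by
  have hpp : p.Prime := Fact.out
  obtain ⟨K, hKn, hKcop, hO, hidx⟩ := Cfsg.Agent.Lib.Helper6.plength_one_quot hpl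
  haveI := hKn
  suffices h : L ≤ K from h.trans (Cfsg.Agent.Lib.Helper2.le_pPrimeCore hKn hKcop)
  set π := QuotientGroup.mk' K with hπ
  set P' : Subgroup (G ⧸ K) := pCore p (G ⧸ K) with hP'
  haveI hP'n : P'.Normal := Cfsg.Agent.Lib.Helper2.pCore_normal p
  have hP'p : IsPGroup p P' := Cfsg.Agent.Lib.Helper2.pCore_isPGroup p
  set E' : Subgroup (G ⧸ K) := E.map π with hE'
  set L' : Subgroup (G ⧸ K) := L.map π with hL'
  have hE'p : IsPGroup p E' := (ea_isPGroup hE).map π
  have hE'P' : E' ≤ P' := Cfsg.Agent.Lib.Helper6.le_of_normal_of_not_dvd_index P' hidx E' hE'p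
  have hL'cop : (Nat.card L').Coprime p :=
    Nat.Coprime.coprime_dvd_left (Subgroup.card_map_dvd L π) hL
  have hE'L' : E' ≤ Subgroup.normalizer (L' : Set (G ⧸ K)) :=
    (Subgroup.map_mono hEL).trans (Subgroup.le_normalizer_map π)
  have hL'P' : L' ⊓ P' = ⊥ := by
    apply (Subgroup.disjoint_of_coprime_natCard _).eq_bot
    obtain ⟨k, hk⟩ := IsPGroup.iff_card.mp hP'p
    rw [hk]; exact Nat.Coprime.pow_right k hL'cop
  have hcomm : ⁅L', E'⁆ = ⊥ := by
    rw [eq_bot_iff, ← hL'P']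
    refine le_inf (Cfsg.Agent.Lib.Helper13.commutator_le_of_le_normalizer L' E' hE'L') ?_
    exact (Subgroup.commutator_mono le_top hE'P').trans (Subgroup.commutator_le_right ⊤ P')
  have hL'E' : L' ≤ Subgroup.centralizer (E' : Set (G ⧸ K)) :=
    Subgroup.commutator_eq_bot_iff_le_centralizer.mp hcomm
  set T' : Subgroup (G ⧸ K) := P' ⊓ Subgroup.centralizer (E' : Set (G ⧸ K)) with hT'
  have hL'T' : L' ≤ Subgroup.normalizer (T' : Set (G ⧸ K)) := by
    intro l hl
    have key : ∀ l ∈ L', ∀ t ∈ T', l * t * l⁻¹ ∈ T' := by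
      intro l hl t ht
      refine ⟨hP'n.conj_mem t ht.1 l, ?_⟩
      exact Subgroup.mul_mem _ (Subgroup.mul_mem _ (hL'E' hl) ht.2) (Subgroup.inv_mem _ (hL'E' hl))
    rw [Subgroup.mem_normalizer_iff]
    intro t
    refine ⟨key l hl t, fun h => ?_⟩
    have := key l⁻¹ (L'.inv_mem hl) _ h
    have e : l⁻¹ * (l * t * l⁻¹) * l⁻¹⁻¹ = t := by group
    rwa [e] at this
  have hΩ : ∀ x ∈ T', x ^ p = 1 → x ∈ E' := fun x hx hxp =>
    lift_max_ea p K hKcop E hE hEmax x hx.2 hxp
  have hd : L' ≤ Subgroup.centralizer (T' : Set (G ⧸ K)) :=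
    Cfsg.Agent.Lib.Helper1.centralizes_of_centralizes_omega_one p hp L' hL'cop _ T' rfl
      (hP'p.to_le inf_le_left) hL'T' (fun x hx hxp =>
        hL'E'.trans (Subgroup.centralizer_le (Set.singleton_subset_iff.mpr (hΩ x hx hxp))))
  have hNtop : Subgroup.normalizer (P' : Set (G ⧸ K)) = ⊤ := Subgroup.normalizer_eq_top P'
  have he : L' ≤ Subgroup.centralizer (P' : Set (G ⧸ K)) :=
    Cfsg.Agent.Lib.Helper1.thompson_AxB p L' E' hE'p hL'cop hL'E' _ P' rfl hP'p
      (by rw [hNtop]; exact le_top) (by rw [hNtop]; exact le_top) hd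
  have hCP : Subgroup.centralizer (P' : Set (G ⧸ K)) ≤ P' := by
    have hF : fittingSubgroup (G ⧸ K) = P' :=
      Cfsg.Agent.Lib.Helper20.fitting_eq_pCore_of_pPrimeCore_eq_bot p hO
    haveI : (fittingSubgroup (G ⧸ K)).Normal := Cfsg.Agent.Lib.Helper2.fittingSubgroup_normal
    have h1 := Cfsg.Agent.Lib.Helper20.subnormal_solvable_le_fitting_of_le_centralizer
      (Subgroup.centralizer (fittingSubgroup (G ⧸ K) : Set (G ⧸ K)))
      (Subgroup.Normal.isSubnormal inferInstance) inferInstance le_rfl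
    rwa [hF] at h1
  have hL'bot : L' = ⊥ := by
    rw [eq_bot_iff, ← hL'P']
    exact le_inf le_rfl (he.trans hCP)
  intro l hl
  have h1 : π l ∈ L' := ⟨l, hl, rfl⟩
  rw [hL'bot, Subgroup.mem_bot] at h1
  exact (QuotientGroup.eq_one_iff l).mp h1

end Cfsg.Agent.S1462
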