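import Cfsg.Statements.S1466
import Mathlib

set_option autoImplicit false
open Cfsg

namespace Cfsg.Agent.S1466

/-- a nontrivial normal subgroup of a finite `p`-group meets the centre nontrivially. -/
theorem exists_central_in_normal {G : Type*} [Group G] [Finite G] {p : ℕ} [Fact p.Prime]
    (hG : IsPGroup p G) (N : Subgroup G) [N.Normal] (hN : N ≠ ⊥) :
    ∃ z ∈ N, z ∈ Subgroup.center G ∧ z ≠ 1 := by
  have hp : p ∣ Nat.card N := by
    obtain ⟨n, hn⟩ := (hG.to_subgroup N).exists_card_eq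
    have hn0 : n ≠ 0 := by
      rintro rfl
      rw [pow_zero] at hn
      exact hN (Subgroup.card_eq_one.1 hn)
    rw [hn]; exact dvd_pow_self p hn0
  have h1 : (1 : N) ∈ MulAction.fixedPoints (ConjAct G) N := by
    intro g; exact smul_one g
  obtain ⟨b, hb, hne⟩ :=
    (hG.of_equiv ConjAct.toConjAct).exists_fixed_point_of_prime_dvd_card_of_fixed_point N hp h1
  refine ⟨b, b.2, ?_, ?_⟩
  · rw [Subgroup.mem_center_iff]
    intro g
    have := hb (ConjAct.toConjAct g)
    have h2 : g * (b : G) * g⁻¹ = b := by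
      have h3 := congrArg Subtype.val this
      rwa [ConjAct.Subgroup.val_conj_smul, ConjAct.toConjAct_smul] at h3
    calc g * (b : G) = g * b * g⁻¹ * g := by group
    _ = b * g := by rw [h2]
  · intro h
    apply hne
    exact Subtype.ext h.symm

/-- the set of normal abelian subgroups. -/
def nab (R : Type*) [Group R] : Set (Subgroup R) := {A | A.Normal ∧ IsMulCommutative A}

theorem centralizer_le_of_maximal {R : Type*} [Group R] [Finite R] {p : ℕ} [Fact p.Prime]
    (hR : IsPGroup p R) {A : Subgroup R} (hA : Maximal (· ∈ nab R) A) :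
    Subgroup.centralizer (A : Set R) ≤ A := by
  have hAn : A.Normal := hA.1.1
  have hAc : IsMulCommutative A := hA.1.2
  by_contra hle
  have hNbot : (Subgroup.centralizer (A : Set R)).map (QuotientGroup.mk' A) ≠ ⊥ := by
    intro h
    rw [Subgroup.map_eq_bot_iff, QuotientGroup.ker_mk'] at h
    exact hle h
  have hNn : ((Subgroup.centralizer (A : Set R)).map (QuotientGroup.mk' A)).Normal :=
    Subgroup.Normal.map inferInstance _ (QuotientGroup.mk'_surjective A)
  obtain ⟨z, hzN, hzc, hz1⟩ := exists_central_in_normal (hR.to_quotient A) _ hNbot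
  obtain ⟨x, hxC, rfl⟩ := hzN
  have hxA : x ∉ A := by
    intro h
    apply hz1
    rw [QuotientGroup.mk'_apply, QuotientGroup.eq_one_iff]
    exact h
  -- the bigger subgroup
  have hZn : (Subgroup.zpowers (QuotientGroup.mk' A x)).Normal :=
    ⟨fun n hn g => by
      obtain ⟨i, rfl⟩ := Subgroup.mem_zpowers_iff.1 hn
      have hc := Subgroup.mem_center_iff.1 (Subgroup.zpow_mem _ hzc i) g
      rw [hc, mul_inv_cancel_right]
      exact Subgroup.zpow_mem _ (Subgroup.mem_zpowers _) i⟩
  set B := (Subgroup.zpowers (QuotientGroup.mk' A x)).comap (QuotientGroup.mk' A) with hB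
  have hBn : B.Normal := Subgroup.Normal.comap hZn _
  have hAB : A ≤ B := by
    intro a ha
    rw [hB, Subgroup.mem_comap]
    have : (QuotientGroup.mk' A) a = 1 := (QuotientGroup.eq_one_iff a).2 ha
    rw [this]
    exact Subgroup.one_mem _
  have hxB : x ∈ B := by
    rw [hB, Subgroup.mem_comap]
    exact Subgroup.mem_zpowers _
  have hdecomp : ∀ u ∈ B, ∃ i : ℤ, ∃ a ∈ A, u = x ^ i * a := by
    intro u hu
    rw [hB, Subgroup.mem_comap] at hu
    obtain ⟨i, hi⟩ := Subgroup.mem_zpowers_iff.1 hu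
    refine ⟨i, (x ^ i)⁻¹ * u, ?_, by group⟩
    rw [← QuotientGroup.eq_one_iff, QuotientGroup.mk_mul, QuotientGroup.mk_inv]
    rw [QuotientGroup.mk_zpow]
    erw [hi]
    exact inv_mul_cancel _
  have hxcomm : ∀ a ∈ A, Commute x a := by
    intro a ha
    exact (Subgroup.mem_centralizer_iff.1 hxC a ha).symm
  have hBc : IsMulCommutative B := by
    refine ⟨⟨fun u v => ?_⟩⟩
    obtain ⟨i, a, ha, hu⟩ := hdecomp u u.2
    obtain ⟨j, b, hb, hv⟩ := hdecomp v v.2
    apply Subtype.ext
    rw [Subgroup.coe_mul, Subgroup.coe_mul, hu, hv]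
    have hab : Commute a b := congrArg Subtype.val (hAc.is_comm.comm ⟨a, ha⟩ ⟨b, hb⟩)
    have h1 : Commute (x ^ i) (x ^ j) := (Commute.refl x).zpow_zpow i j
    have h2 : Commute (x ^ i) b := (hxcomm b hb).zpow_left i
    have h3 : Commute a (x ^ j) := ((hxcomm a ha).zpow_left j).symm
    exact ((h1.mul_right h2).mul_left (h3.mul_right hab)).eq
  have := hA.2 (show B ∈ nab R from ⟨hBn, hBc⟩) hAB
  exact hxA (this hxB)

theorem le_puigStep {R : Type*} [Group R] {A : Subgroup R} (hA : A ∈ nab R) (X : Subgroup R) :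
    A ≤ Cfsg.puigStep X := by
  have := hA.1
  apply le_sSup
  refine ⟨hA.2, ?_⟩
  rw [Subgroup.normalizer_eq_top]
  exact le_top

/-- Let p be a prime and R a nontrivial finite p-group. Then for every i > 0, Z(R) ≤ C_R(L_i(R)) ≤ L_i(R); likewise Z(R) ≤ C_R(L_*(R)) ≤ L_*(R) and Z(R) ≤ C_R(L(R)) ≤ L(R); and L(R) ≠ 1, L_*(R) ≠ 1. -/
theorem result {R : Type*} [Group R] [Finite R] (p : ℕ) [Fact p.Prime] (hR : IsPGroup p R) [Nontrivial R] :
    (∀ i : ℕ, 0 < i → Subgroup.center R ≤ Subgroup.centralizer ((Cfsg.puigSeq R i : Subgroup R) : Set R) ∧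
        Subgroup.centralizer ((Cfsg.puigSeq R i : Subgroup R) : Set R) ≤ Cfsg.puigSeq R i) ∧
      (Subgroup.center R ≤ Subgroup.centralizer ((Cfsg.puigLower R : Subgroup R) : Set R) ∧ Subgroup.centralizer ((Cfsg.puigLower R : Subgroup R) : Set R) ≤ Cfsg.puigLower R) ∧
      (Subgroup.center R ≤ Subgroup.centralizer ((Cfsg.puigSubgroup R : Subgroup R) : Set R) ∧ Subgroup.centralizer ((Cfsg.puigSubgroup R : Subgroup R) : Set R) ≤ Cfsg.puigSubgroup R) ∧
      Cfsg.puigSubgroup R ≠ ⊥ ∧ Cfsg.puigLower R ≠ ⊥ := by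
  have hfin : (nab R).Finite := Set.toFinite _
  have hne : (nab R).Nonempty := ⟨⊥, inferInstance, inferInstance⟩
  obtain ⟨A, hA⟩ := hfin.exists_maximal hne
  have hCA := centralizer_le_of_maximal hR hA
  have hseq : ∀ i : ℕ, 0 < i → A ≤ Cfsg.puigSeq R i := by
    intro i hi
    obtain ⟨n, rfl⟩ := Nat.exists_eq_succ_of_ne_zero hi.ne'
    exact le_puigStep hA.1 _
  have hlow : A ≤ Cfsg.puigLower R :=
    (hseq 2 (by norm_num)).trans (le_iSup (fun n => Cfsg.puigSeq R (2 * n)) 1)
  have hup : A ≤ Cfsg.puigSubgroup R := le_iInf (fun n => hseq _ (by omega))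
  have key : ∀ L : Subgroup R, A ≤ L → Subgroup.center R ≤ Subgroup.centralizer (L : Set R) ∧
      Subgroup.centralizer (L : Set R) ≤ L := by
    intro L hL
    refine ⟨Subgroup.center_le_centralizer _, ?_⟩
    exact ((Subgroup.centralizer_le (show (A : Set R) ⊆ L from hL)).trans hCA).trans hL
  have hAbot : A ≠ ⊥ := by
    intro h
    have h1 : Subgroup.center R ≤ A := (Subgroup.center_le_centralizer _).trans hCA
    rw [h] at h1
    exact (not_le_of_gt hR.bot_lt_center) h1
  refine ⟨fun i hi => key _ (hseq i hi), key _ hlow, key _ hup, ?_, ?_⟩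
  · intro h; rw [h] at hup; exact hAbot (le_bot_iff.1 hup)
  · intro h; rw [h] at hlow; exact hAbot (le_bot_iff.1 hlow)

end Cfsg.Agent.S1466
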