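import Cfsg.Statements.S1468
import Mathlib
import Cfsg.Agent.Lib.Helper15.PuigInternal
import Cfsg.Agent.S1465
import Cfsg.Agent.S1466
import Cfsg.Agent.S1467
import Cfsg.Agent.Lib.Helper16.PCore
import Cfsg.Agent.Lib.Helper20.Cores

set_option autoImplicit false
open Cfsg

namespace Cfsg.Agent.S1468

open Subgroup Cfsg.Agent.Lib.Helper15.PuigInternal

/-- the terms `L_i(T)`, `i > 0`, of a `p`-subgroup `T` contain their centralizers in `T`. -/
theorem centralizer_seqK_le {G : Type*} [Group G] [Finite G] (p : ℕ) [Fact p.Prime]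
    (T : Subgroup G) (hT : IsPGroup p T) (i : ℕ) (hi : 0 < i) :
    T ⊓ centralizer (seqK T i : Set G) ≤ seqK T i := by
  by_cases hbot : T = ⊥
  · rw [hbot, bot_inf_eq]; exact bot_le
  haveI : Nontrivial T := by
    rw [Subgroup.nontrivial_iff_ne_bot]
    exact hbot
  obtain ⟨h1, -⟩ := Cfsg.Agent.S1466.result (R := ↥T) p hT
  obtain ⟨-, h2⟩ := h1 i hi
  intro x hx0
  have hxT : x ∈ T := (Subgroup.mem_inf.1 hx0).1
  have hxC : x ∈ centralizer (seqK T i : Set G) := (Subgroup.mem_inf.1 hx0).2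
  have hx : (⟨x, hxT⟩ : T) ∈ centralizer ((Cfsg.puigSeq ↥T i : Subgroup T) : Set T) := by
    rw [mem_centralizer_iff]
    intro y hy
    apply Subtype.ext
    have hy' : (y : G) ∈ seqK T i := by
      rw [← map_puigSeq]
      exact ⟨y, hy, rfl⟩
    rw [mem_centralizer_iff] at hxC
    exact hxC y hy'
  have := h2 hx
  rw [← map_puigSeq]
  exact ⟨⟨x, hxT⟩, this, rfl⟩

/-- Let p be an odd prime, G a solvable group of odd order with O_{p'}(G) = 1, S a Sylow p-subgroup and T = O_p(G). Then, viewing the Puig subgroups of S and of T inside G, L_*(S) ≤ L_*(T) ≤ L(T) ≤ L(S). -/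
theorem result {G : Type*} [Group G] [Finite G] [Group.IsSolvable G] (hodd : Odd (Nat.card G)) (p : ℕ) [Fact p.Prime] (hp : p ≠ 2) (hO : Cfsg.pPrimeCore p G = ⊥) (S : Sylow p G) :
    (Cfsg.puigLower ↥(S : Subgroup G)).map (S : Subgroup G).subtype ≤ (Cfsg.puigLower ↥(Cfsg.pCore p G)).map (Cfsg.pCore p G).subtype ∧
      (Cfsg.puigLower ↥(Cfsg.pCore p G)).map (Cfsg.pCore p G).subtype ≤ (Cfsg.puigSubgroup ↥(Cfsg.pCore p G)).map (Cfsg.pCore p G).subtype ∧
      (Cfsg.puigSubgroup ↥(Cfsg.pCore p G)).map (Cfsg.pCore p G).subtype ≤ (Cfsg.puigSubgroup ↥(S : Subgroup G)).map (S : Subgroup G).subtype := by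
  set T := Cfsg.pCore p G with hT
  haveI hTn : T.Normal := Cfsg.Agent.Lib.Helper16.pCore_normal p G
  haveI hTc : T.Characteristic := Cfsg.Agent.Lib.Helper20.pCore_characteristic p
  have hTp : IsPGroup p T := Cfsg.Agent.Lib.Helper16.pCore_isPGroup p G
  have hTS : T ≤ (S : Subgroup G) := Cfsg.Agent.Lib.Helper16.normal_pgroup_le_sylow hTn hTp S
  have hSp : IsPGroup p (S : Subgroup G) := S.isPGroup'
  -- the key step
  have key : ∀ i : ℕ, 0 < i → LK (S : Subgroup G) (seqK T i) ≤ LK T (seqK T i) := by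
    intro i hi
    set P' := seqK T i with hP'
    haveI hP'c : P'.Characteristic := seqK_characteristic T i
    haveI hP'n : P'.Normal := Subgroup.normal_of_characteristic P'
    have hP'T : P' ≤ T := seqK_le T i
    have hP'p : IsPGroup p P' := hTp.to_le hP'T
    have hcen : Cfsg.pCore p G ⊓ centralizer (P' : Set G) ≤ P' :=
      centralizer_seqK_le p T hTp i hi
    have h1 := (Cfsg.Agent.S1465.result hodd p hp P' hP'p
      {A : Subgroup G | A ≤ (S : Subgroup G) ∧ IsMulCommutative A ∧ P' ≤ normalizer (A : Set G)}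
      (fun B hB => ⟨hB.2.1, hSp.to_le hB.1, hB.2.2⟩)).2 hO hcen
    apply sSup_le
    intro A hA
    exact le_LK ((le_sSup hA).trans h1) hA.2.1 hA.2.2
  have main : ∀ n : ℕ, seqK (S : Subgroup G) (2 * n) ≤ seqK T (2 * n) ∧
      seqK T (2 * n + 1) ≤ seqK (S : Subgroup G) (2 * n + 1) := by
    intro n
    induction n with
    | zero =>
      refine ⟨?_, ?_⟩
      · show (⊥ : Subgroup G) ≤ _
        exact bot_le
      · show LK T (seqK T 0) ≤ LK (S : Subgroup G) (seqK (S : Subgroup G) 0)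
        exact LK_mono hTS le_rfl
    | succ n ih =>
      obtain ⟨ih1, ih2⟩ := ih
      have e1 : 2 * (n + 1) = (2 * n + 1) + 1 := by ring
      have e2 : 2 * (n + 1) + 1 = (2 * n + 1) + 1 + 1 := by ring
      have h1 : seqK (S : Subgroup G) (2 * n + 1 + 1) ≤ seqK T (2 * n + 1 + 1) := by
        rw [seqK_succ, seqK_succ]
        exact (LK_mono le_rfl ih2).trans (key (2 * n + 1) (by omega))
      refine ⟨?_, ?_⟩
      · rw [e1]; exact h1
      · rw [e2, seqK_succ, seqK_succ T]
        exact LK_mono hTS h1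
  refine ⟨?_, ?_, ?_⟩
  · rw [map_puigLower, map_puigLower]
    exact iSup_mono (fun n => (main n).1)
  · apply Subgroup.map_mono
    exact (Cfsg.Agent.S1467.result (G := ↥T)).2.2.2.2.1
  · rw [map_puigSubgroup, map_puigSubgroup]
    exact iInf_mono (fun n => (main n).2)

end Cfsg.Agent.S1468
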