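import Cfsg.Statements.S1469
import Mathlib
import Cfsg.Agent.Lib.Helper15.PuigInternal
import Cfsg.Agent.Lib.Helper15.PuigControl
import Cfsg.Agent.S1465
import Cfsg.Agent.S1468
import Cfsg.Agent.Lib.Helper16.PCore
import Cfsg.Agent.Lib.Helper16.SylowNormal
import Cfsg.Agent.Lib.Helper20.Cores

set_option autoImplicit false
open Cfsg

namespace Cfsg.Agent.S1469

open Subgroup Cfsg.Agent.Lib.Helper15.PuigInternal Cfsg.Agent.Lib.Helper15.PuigControl

/-- `Z(L(S))` is normal in a solvable group of odd order with `O_{p'} = 1`. -/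
theorem ZL_normal {G : Type*} [Group G] [Finite G] [Group.IsSolvable G] (hodd : Odd (Nat.card G))
    (p : ℕ) [Fact p.Prime] (hp : p ≠ 2) (hO : Cfsg.pPrimeCore p G = ⊥) (S : Sylow p G) :
    (ZL (S : Subgroup G)).Normal := by
  set T := Cfsg.pCore p G with hT
  haveI hTn : T.Normal := Cfsg.Agent.Lib.Helper16.pCore_normal p G
  have hTp : IsPGroup p T := Cfsg.Agent.Lib.Helper16.pCore_isPGroup p G
  have hTS : T ≤ (S : Subgroup G) := Cfsg.Agent.Lib.Helper16.normal_pgroup_le_sylow hTn hTp S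
  have hSp : IsPGroup p (S : Subgroup G) := S.isPGroup'
  obtain ⟨c1, c2, c3⟩ := Cfsg.Agent.S1468.result hodd p hp hO S
  rw [map_puigLower', map_puigLower'] at c1
  rw [map_puigSubgroup', map_puigSubgroup'] at c3
  -- Y = Z(L(T))
  set Y := ZL T with hY
  have hTtop : normalizer (T : Set G) = ⊤ := Subgroup.normalizer_eq_top_iff.2 hTn
  haveI hYn : Y.Normal := by
    rw [← Subgroup.normalizer_eq_top_iff, eq_top_iff, ← hTtop]
    exact normalizer_le_normalizer_ZL T
  have hYT : Y ≤ T := ZL_le T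
  have hYp : IsPGroup p Y := hTp.to_le hYT
  have hYtop : normalizer (Y : Set G) = ⊤ := Subgroup.normalizer_eq_top_iff.2 hYn
  have hYstar : Y ≤ Lstar (S : Subgroup G) :=
    le_Lstar (hYT.trans hTS) (ZL_comm T) (by rw [hYtop]; exact le_top)
  -- the family generating L(S)
  set F : Set (Subgroup G) := {A : Subgroup G | A ≤ (S : Subgroup G) ∧ IsMulCommutative A ∧
    Lstar (S : Subgroup G) ≤ normalizer (A : Set G)} with hF
  have hFsup : sSup F = Lsub (S : Subgroup G) := LK_Lstar (S : Subgroup G)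
  have h1465 := (Cfsg.Agent.S1465.result hodd p hp Y hYp F
    (fun B hB => ⟨hB.2.1, hSp.to_le hB.1, hYstar.trans hB.2.2⟩)).1
  rw [hFsup] at h1465
  set C := centralizer (Y : Set G) with hC
  set π := QuotientGroup.mk' C with hπ
  have hπs : Function.Surjective π := QuotientGroup.mk'_surjective C
  haveI hQn : (Cfsg.pCore p (G ⧸ C)).Normal := Cfsg.Agent.Lib.Helper16.pCore_normal p _
  have hQp : IsPGroup p (Cfsg.pCore p (G ⧸ C)) := Cfsg.Agent.Lib.Helper16.pCore_isPGroup p _
  set D := (Cfsg.pCore p (G ⧸ C)).comap π with hD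
  haveI hDn : D.Normal := inferInstance
  have hLD : Lsub (S : Subgroup G) ≤ D := by
    rw [hD, ← Subgroup.map_le_iff_le_comap]
    exact h1465
  have hCD : C ≤ D := by
    intro x hx
    rw [hD, Subgroup.mem_comap]
    have : π x = 1 := by
      rw [hπ, QuotientGroup.mk'_apply, QuotientGroup.eq_one_iff]; exact hx
    rw [this]; exact Subgroup.one_mem _
  set S₁ := (S : Subgroup G) ⊓ D with hS₁
  have hS₁S : S₁ ≤ (S : Subgroup G) := inf_le_left
  have hLS₁ : Lsub (S : Subgroup G) ≤ S₁ := le_inf (Lsub_le _) hLD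
  have hP : Lsub S₁ = Lsub (S : Subgroup G) := Lsub_eq_of_le hS₁S hLS₁
  have hZ₁ : ZL S₁ = ZL (S : Subgroup G) := by
    unfold ZL; rw [hP]
  set Z := ZL (S : Subgroup G) with hZ
  have hN₁ : normalizer (S₁ : Set G) ≤ normalizer (Z : Set G) := by
    rw [← hZ₁]; exact normalizer_le_normalizer_ZL S₁
  -- Z ≤ Y
  have hZY : Z ≤ Y := by
    apply le_inf
    · exact ((ZL_le_Lstar (S : Subgroup G)).trans c1).trans (Lstar_le_Lsub T)
    · exact (inf_le_right : Z ≤ centralizer (Lsub (S : Subgroup G) : Set G)).trans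
        (Subgroup.centralizer_le (by exact_mod_cast c3))
  have hCN : C ≤ normalizer (Z : Set G) :=
    (Subgroup.centralizer_le (by exact_mod_cast hZY)).trans (Subgroup.centralizer_le_normalizer _)
  -- Frattini
  obtain ⟨Q, hQ⟩ := Cfsg.Agent.Lib.Helper16.exists_sylow_subgroupOf_normal S D
  have hfr := Sylow.normalizer_sup_eq_top Q
  have hQmap : (Q : Subgroup D).map D.subtype = S₁ := by
    rw [hQ, Subgroup.subgroupOf_map_subtype]
  rw [hQmap] at hfr
  -- D ≤ S₁ ⊔ C
  have hDle : D ≤ S₁ ⊔ C := by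
    rw [← Subgroup.relIndex_eq_one]
    have hd1 : (S₁ ⊔ C).relIndex D ∣ S₁.relIndex D :=
      Subgroup.relIndex_dvd_of_le_left D le_sup_left
    have hd2 : (S₁ ⊔ C).relIndex D ∣ C.relIndex D :=
      Subgroup.relIndex_dvd_of_le_left D le_sup_right
    have hnd : ¬ p ∣ S₁.relIndex D := by
      have h1 := Q.not_dvd_index
      rw [hQ] at h1
      have h2 : ((S : Subgroup G).subgroupOf D).index = (S : Subgroup G).relIndex D := rfl
      rw [h2] at h1
      rw [hS₁, Subgroup.inf_relIndex_right]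
      exact h1
    have hpow : ∃ k : ℕ, C.relIndex D = p ^ k := by
      have hCker : C = Subgroup.comap π (⊥ : Subgroup (G ⧸ C)) := by
        rw [MonoidHom.comap_bot, hπ, QuotientGroup.ker_mk']
      have h1 : C.relIndex D = (⊥ : Subgroup (G ⧸ C)).relIndex (D.map π) := by
        conv_lhs => rw [hCker]
        exact Subgroup.relIndex_comap (⊥ : Subgroup (G ⧸ C)) π D
      rw [h1, Subgroup.relIndex_bot_left, hD, Subgroup.map_comap_eq_self_of_surjective hπs]
      exact hQp.exists_card_eq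
    obtain ⟨k, hk⟩ := hpow
    rw [hk] at hd2
    obtain ⟨j, -, hj⟩ := (Nat.dvd_prime_pow (Fact.out : p.Prime)).1 hd2
    rcases Nat.eq_zero_or_pos j with h0 | hpos
    · rw [hj, h0, pow_zero]
    · exfalso
      apply hnd
      refine dvd_trans ?_ hd1
      rw [hj]
      exact dvd_pow_self p (by omega)
  rw [← Subgroup.normalizer_eq_top_iff, eq_top_iff, ← hfr]
  apply sup_le hN₁
  refine hDle.trans (sup_le ?_ hCN)
  exact Subgroup.le_normalizer.trans hN₁

/-- Let p be an odd prime, G a solvable group of odd order and S a Sylow p-subgroup, and let Z be the centre of the Puig subgroup L(S), viewed inside G. Then G is generated by O_{p'}(G) and N_G(Z); and if O_{p'}(G) = 1 then Z is normal in G. -/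
theorem result {G : Type*} [Group G] [Finite G] [Group.IsSolvable G] (hodd : Odd (Nat.card G)) (p : ℕ) [Fact p.Prime] (hp : p ≠ 2) (S : Sylow p G) :
    Cfsg.pPrimeCore p G ⊔ Subgroup.normalizer ((((Subgroup.center ↥(Cfsg.puigSubgroup ↥(S : Subgroup G))).map (Cfsg.puigSubgroup ↥(S : Subgroup G)).subtype).map (S : Subgroup G).subtype : Subgroup G) : Set G) = ⊤ ∧
      (Cfsg.pPrimeCore p G = ⊥ → (((Subgroup.center ↥(Cfsg.puigSubgroup ↥(S : Subgroup G))).map (Cfsg.puigSubgroup ↥(S : Subgroup G)).subtype).map (S : Subgroup G).subtype).Normal) := by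
  rw [map_center_puig]
  refine ⟨?_, fun hO => ZL_normal hodd p hp hO S⟩
  set K := Cfsg.pPrimeCore p G with hK
  haveI hKn : K.Normal := (Cfsg.Agent.Lib.Helper20.pPrimeCore_mem' p).1
  have hKc : (Nat.card K).Coprime p := Cfsg.Agent.Lib.Helper20.pPrimeCore_coprime' p
  set π := QuotientGroup.mk' K with hπ
  have hπs : Function.Surjective π := QuotientGroup.mk'_surjective K
  have hSp : IsPGroup p (S : Subgroup G) := S.isPGroup'
  -- π is injective on S
  have hSK : ∀ x ∈ (S : Subgroup G), x ∈ K → x = 1 := by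
    intro x hxS hxK
    have h1 : orderOf x ∣ Nat.card K := by
      have := orderOf_dvd_natCard (⟨x, hxK⟩ : K)
      rwa [Subgroup.orderOf_mk] at this
    obtain ⟨k, hk⟩ := (IsPGroup.iff_orderOf.1 hSp) ⟨x, hxS⟩
    rw [Subgroup.orderOf_mk] at hk
    have h2 : (orderOf x).Coprime p := Nat.Coprime.coprime_dvd_left h1 hKc
    rw [hk] at h2
    rcases Nat.eq_zero_or_pos k with h0 | hpos
    · rw [h0, pow_zero] at hk
      exact orderOf_eq_one_iff.1 hk
    · exfalso
      have h3 : p ∣ Nat.gcd (p ^ k) p := Nat.dvd_gcd (dvd_pow_self p (by omega)) dvd_rfl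
      rw [Nat.Coprime] at h2
      rw [h2] at h3
      exact (Fact.out : p.Prime).one_lt.ne' (Nat.dvd_one.1 h3)
  have hinj : Set.InjOn π ((S : Subgroup G) : Set G) := by
    intro x hx y hy hxy
    have h1 : x⁻¹ * y ∈ K := by
      rw [hπ, QuotientGroup.mk'_apply, QuotientGroup.mk'_apply] at hxy
      exact QuotientGroup.eq.1 hxy
    have h2 := hSK _ ((S : Subgroup G).mul_mem ((S : Subgroup G).inv_mem hx) hy) h1
    exact (inv_mul_eq_one.1 h2)
  -- the quotient
  haveI : Group.IsSolvable (G ⧸ K) := inferInstance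
  have hodd' : Odd (Nat.card (G ⧸ K)) := by
    have h1 : Nat.card (G ⧸ K) ∣ Nat.card G := by
      rw [Subgroup.card_eq_card_quotient_mul_card_subgroup K]
      exact dvd_mul_right _ _
    exact Odd.of_dvd_nat hodd h1
  have hO' : Cfsg.pPrimeCore p (G ⧸ K) = ⊥ := Cfsg.Agent.Lib.Helper20.pPrimeCore_quotient_eq_bot p
  set Sbar : Sylow p (G ⧸ K) := S.mapSurjective hπs with hSbar
  have hSbar_coe : (Sbar : Subgroup (G ⧸ K)) = (S : Subgroup G).map π := Sylow.coe_mapSurjective hπs S
  have hn := ZL_normal hodd' p hp hO' Sbar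
  rw [hSbar_coe, ZL_map_of_injOn π (S : Subgroup G) hinj] at hn
  set Z := ZL (S : Subgroup G) with hZ
  -- M = Z K is normal
  set M := (Z.map π).comap π with hM
  haveI hMn : M.Normal := inferInstance
  have hZM : Z ≤ M := Subgroup.le_comap_map π Z
  have hMeq : M = Z ⊔ K := by
    rw [hM, Subgroup.comap_map_eq, hπ, QuotientGroup.ker_mk']
  -- Z is a Sylow p-subgroup of M
  have hZp : IsPGroup p (Z.subgroupOf M) := (hSp.to_le (ZL_le _)).comap_subtype
  have hidx : ¬ p ∣ (Z.subgroupOf M).index := by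
    intro hdvd
    have h1 : (Z.subgroupOf M).index = Z.relIndex M := rfl
    rw [h1, hMeq] at hdvd
    have h2 : Z.relIndex (Z ⊔ K) ∣ Nat.card K := by
      have e1 : (⊥ : Subgroup G).relIndex Z * Z.relIndex (Z ⊔ K) = (⊥ : Subgroup G).relIndex (Z ⊔ K) :=
        Subgroup.relIndex_mul_relIndex _ _ _ bot_le le_sup_left
      rw [Subgroup.relIndex_bot_left, Subgroup.relIndex_bot_left] at e1
      have e2 := Cfsg.Agent.Lib.Helper20.card_sup_dvd_mul Z K
      rw [← e1] at e2
      exact (Nat.mul_dvd_mul_iff_left Nat.card_pos).1 e2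
    have h4 : p ∣ Nat.card K := dvd_trans hdvd h2
    have h5 : p ∣ Nat.gcd (Nat.card K) p := Nat.dvd_gcd h4 dvd_rfl
    rw [Nat.Coprime] at hKc
    rw [hKc] at h5
    exact (Fact.out : p.Prime).one_lt.ne' (Nat.dvd_one.1 h5)
  set Q : Sylow p M := hZp.toSylow hidx with hQ
  have hfr := Sylow.normalizer_sup_eq_top Q
  have hQmap : (Q : Subgroup M).map M.subtype = Z := by
    show (Z.subgroupOf M).map M.subtype = Z
    rw [Subgroup.subgroupOf_map_subtype, inf_eq_left]
    exact hZM
  rw [hQmap, hMeq] at hfr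
  rw [eq_top_iff, ← hfr]
  apply sup_le le_sup_right
  apply sup_le (Subgroup.le_normalizer.trans le_sup_right) le_sup_left

end Cfsg.Agent.S1469
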