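import Cfsg.Statements.S1471
import Mathlib
import Cfsg.Agent.Lib.Helper5.CubicD
import Cfsg.Agent.Lib.Helper5.JacobiBoundE

set_option autoImplicit false
open Cfsg

namespace Cfsg.Agent.S1471

/-- Let p and q be odd primes with (p^q − 1)/(p − 1) coprime to p − 1. Then there are at least two elements a of the field with p ^ q elements such that both a and 2 − a have norm 1 to the prime field. -/
theorem result (p q : ℕ) [Fact p.Prime] [Fact q.Prime] (hp : p ≠ 2) (hq : q ≠ 2) (hA : Nat.Coprime ((p ^ q - 1) / (p - 1)) (p - 1)) :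
    2 ≤ Set.ncard {a : GaloisField p q | Algebra.norm (ZMod p) a = 1 ∧ Algebra.norm (ZMod p) (2 - a) = 1} := by
  classical
  have hqp : q.Prime := Fact.out
  have hq3 : q = 3 ∨ 5 ≤ q := by
    have h2 := hqp.two_le
    rcases Nat.lt_or_ge q 5 with h | h
    · left
      interval_cases q
      · exact absurd rfl hq
      · rfl
      · exact absurd hqp (by decide)
    · exact Or.inr h
  rcases hq3 with rfl | hq5
  · obtain ⟨a, ha1, haN, haN2⟩ := Cfsg.Agent.Lib.Helper5.Cubic.exists_norm_one_three p
    have hfin : ({a : GaloisField p 3 | Algebra.norm (ZMod p) a = 1 ∧ Algebra.norm (ZMod p) (2 - a) = 1}).Finite :=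
      Set.toFinite _
    have : 1 < Set.ncard {a : GaloisField p 3 | Algebra.norm (ZMod p) a = 1 ∧ Algebra.norm (ZMod p) (2 - a) = 1} := by
      rw [Set.one_lt_ncard_iff hfin]
      refine ⟨a, 1, ⟨haN, haN2⟩, ⟨by simp, by norm_num⟩, ha1⟩
    exact this
  · have := Fintype.ofFinite (GaloisField p q)
    have hmain := Cfsg.Agent.Lib.Helper5.JacobiBound.two_le_of_five_le p q hp hq5
    have hset : {a : GaloisField p q | Algebra.norm (ZMod p) a = 1 ∧ Algebra.norm (ZMod p) (2 - a) = 1} =
        ((Finset.univ.filter (fun a : GaloisField p q =>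
          Algebra.norm (ZMod p) a = 1 ∧ Algebra.norm (ZMod p) (2 - a) = 1) : Finset (GaloisField p q)) : Set (GaloisField p q)) := by
      ext a; simp
    rw [hset, Set.ncard_coe_finset]
    exact hmain

end Cfsg.Agent.S1471
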