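import Cfsg.Statements.S1475
import Mathlib
import Cfsg.Agent.S0666
import Cfsg.Agent.S0039
import Cfsg.Agent.S0034
import Cfsg.Agent.S1473
import Cfsg.Agent.Lib.Helper13.Coprime
import Cfsg.Agent.Lib.Helper13.CoprimeSylow
import Cfsg.Agent.Lib.Helper3.PSolvable
import Cfsg.Agent.Lib.Helper29.SylowSub

set_option autoImplicit false
open Cfsg

namespace Cfsg.Agent.S1475

open scoped Pointwise

universe u

/-- Commuting nontrivial elements of coprime orders contradict the prime-power-order hypothesis. -/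
theorem noComm {G : Type*} [Group G] [Finite G] (h : ∀ g : G, IsPrimePow (orderOf g) ∨ g = 1)
    (a b : G) (hab : a * b = b * a) (hco : (orderOf a).Coprime (orderOf b)) (ha : a ≠ 1)
    (hb : b ≠ 1) : False := by
  have ho := Commute.orderOf_mul_eq_mul_orderOf_of_coprime (show Commute a b from hab) hco
  have hoa : orderOf a ≠ 1 := by rwa [Ne, orderOf_eq_one_iff]
  have hob : orderOf b ≠ 1 := by rwa [Ne, orderOf_eq_one_iff]
  have hpa : 0 < orderOf a := orderOf_pos a
  have hpb : 0 < orderOf b := orderOf_pos b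
  rcases h (a * b) with hpp | h1
  · rw [ho] at hpp
    rcases (hco.isPrimePow_dvd_mul hpp).mp dvd_rfl with hd | hd
    · have := Nat.le_of_dvd hpa hd
      have : orderOf b = 1 := by nlinarith
      exact hob this
    · have := Nat.le_of_dvd hpb hd
      have : orderOf a = 1 := by nlinarith
      exact hoa this
  · rw [← orderOf_eq_one_iff, ho] at h1
    exact hoa (Nat.eq_one_of_mul_eq_one_right h1)

theorem orderOf_of_isPGroup {G : Type*} [Group G] {p : ℕ} [Fact p.Prime] (Q : Subgroup G) (hQ : IsPGroup p Q)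
    (u : G) (hu : u ∈ Q) : ∃ k : ℕ, orderOf u = p ^ k := by
  obtain ⟨k, hk⟩ := IsPGroup.iff_orderOf.mp hQ ⟨u, hu⟩
  exact ⟨k, by rwa [Subgroup.orderOf_mk] at hk⟩

theorem core {G : Type u} [Group G] [Finite G] (h : ∀ g : G, IsPrimePow (orderOf g) ∨ g = 1)
    {p s t : ℕ} [Fact p.Prime] [Fact s.Prime] [Fact t.Prime] (hps : p ≠ s) (hpt : p ≠ t)
    (hst : s ≠ t) (N : Subgroup G) [hNn : N.Normal] (hNab : ∀ a ∈ N, ∀ b ∈ N, a * b = b * a)
    (hNp : IsPGroup p N) (hN1 : N ≠ ⊥) (Q : Subgroup G) (hQs : IsPGroup s Q) (hQ1 : Q ≠ ⊥)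
    (x : G) (hx : orderOf x = t) (hxQ : Subgroup.zpowers x ≤ Subgroup.normalizer (Q : Set G)) :
    False := by
  have hpP := (Fact.out : p.Prime)
  have hsP := (Fact.out : s.Prime)
  have htP := (Fact.out : t.Prime)
  have hx1 : x ≠ 1 := by
    intro h1
    rw [h1, orderOf_one] at hx
    exact htP.one_lt.ne hx
  have hcardA : Nat.card (Subgroup.zpowers x) = t := by rw [Nat.card_zpowers, hx]
  obtain ⟨b, hb⟩ := IsPGroup.iff_card.mp hQs
  obtain ⟨a, ha⟩ := IsPGroup.iff_card.mp hNp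
  -- orders in A
  have hordA : ∀ y ∈ Subgroup.zpowers x, y ≠ 1 → orderOf y = t := by
    intro y hy hy1
    have h1 : orderOf y ∣ t := by
      have := orderOf_dvd_natCard (⟨y, hy⟩ : Subgroup.zpowers x)
      rwa [Subgroup.orderOf_mk, hcardA] at this
    rcases (Nat.dvd_prime htP).mp h1 with h2 | h2
    · exact absurd (orderOf_eq_one_iff.mp h2) hy1
    · exact h2
  have hQA : Q ⊓ Subgroup.zpowers x = ⊥ := (Subgroup.disjoint_of_coprime_natCard (by
    rw [hb, hcardA]
    exact Nat.Coprime.pow_left _ ((Nat.coprime_primes hsP htP).mpr hst))).eq_bot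
  obtain ⟨F, hF⟩ : ∃ F : Subgroup G, F = Q ⊔ Subgroup.zpowers x := ⟨_, rfl⟩
  have hQF : Q ≤ F := hF ▸ le_sup_left
  have hAF : Subgroup.zpowers x ≤ F := hF ▸ le_sup_right
  have hFQ : F ≤ Subgroup.normalizer (Q : Set G) := hF ▸ sup_le Subgroup.le_normalizer hxQ
  have hc := Cfsg.Agent.Lib.Helper13.isComplement'_subgroupOf_of_le_normalizer hQF hAF hFQ hQA hF.symm
  haveI hKn : (Q.subgroupOf F).Normal := (Subgroup.normal_subgroupOf_iff_le_normalizer hQF).mpr hFQ
  have hK1 : Q.subgroupOf F ≠ ⊥ := by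
    rw [Ne, Subgroup.subgroupOf_eq_bot, disjoint_iff, inf_eq_left.mpr hQF]
    exact hQ1
  have hH1 : (Subgroup.zpowers x).subgroupOf F ≠ ⊥ := by
    rw [Ne, Subgroup.subgroupOf_eq_bot, disjoint_iff, inf_eq_left.mpr hAF]
    intro h0
    have := Subgroup.mem_zpowers x
    rw [h0, Subgroup.mem_bot] at this
    exact hx1 this
  have hfpf : ∀ y ∈ (Subgroup.zpowers x).subgroupOf F, y ≠ 1 →
      Q.subgroupOf F ⊓ Subgroup.centralizer {y} = ⊥ := by
    intro y hy hy1
    rw [eq_bot_iff]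
    rintro u ⟨huQ, huc⟩
    rw [Subgroup.mem_bot]
    by_contra hu1
    have hyG : (y : G) ≠ 1 := fun h0 => hy1 (Subtype.ext h0)
    have huG : (u : G) ≠ 1 := fun h0 => hu1 (Subtype.ext h0)
    have hoy : orderOf (y : G) = t := hordA y (Subgroup.mem_subgroupOf.mp hy) hyG
    obtain ⟨k, hk⟩ := orderOf_of_isPGroup Q hQs u (Subgroup.mem_subgroupOf.mp huQ)
    have hcomm : (u : G) * (y : G) = (y : G) * (u : G) := by
      have := Subgroup.mem_centralizer_singleton_iff.mp huc
      exact congrArg Subtype.val this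
    apply noComm h (u : G) (y : G) hcomm _ huG hyG
    rw [hk, hoy]
    exact Nat.Coprime.pow_left _ ((Nat.coprime_primes hsP htP).mpr hst)
  have hFrob : IsFrobeniusComplement ((Subgroup.zpowers x).subgroupOf F) :=
    (Cfsg.Agent.S0039.result (Q.subgroupOf F) ((Subgroup.zpowers x).subgroupOf F) hc hK1 hH1).mpr hfpf
  have hcardK : Nat.card (frobeniusKernel ((Subgroup.zpowers x).subgroupOf F)) = s ^ b := by
    rw [(Cfsg.Agent.S0034.result _ hFrob).1, hc.index_eq_card,
      Cfsg.Agent.Lib.Helper29.card_subgroupOf_of_le hQF, hb]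
  haveI : IsMulCommutative N := ⟨⟨fun a b => Subtype.ext (hNab a a.2 b b.2)⟩⟩
  have hFN : F ≤ Subgroup.normalizer (N : Set G) := by
    rw [Subgroup.normalizer_eq_top N]; exact le_top
  -- a nontrivial element of Q in the kernel
  obtain ⟨u0, hu0Q, hu01⟩ : ∃ u0 ∈ Q, u0 ≠ 1 := by
    by_contra hall
    push Not at hall
    exact hQ1 ((Subgroup.eq_bot_iff_forall Q).mpr hall)
  have hu0K : (⟨u0, hQF hu0Q⟩ : F) ∈ frobeniusKernel ((Subgroup.zpowers x).subgroupOf F) := by
    right
    intro g hg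
    have hg2 : (⟨u0, hQF hu0Q⟩ : F) ∈
        MulAut.conj g • (Subgroup.zpowers x).subgroupOf F := hg
    rw [Subgroup.mem_pointwise_smul_iff_inv_smul_mem] at hg2
    have h1 : ((MulAut.conj g)⁻¹ • (⟨u0, hQF hu0Q⟩ : F)) ∈ Q.subgroupOf F := by
      have := hKn.conj_mem ⟨u0, hQF hu0Q⟩ (Subgroup.mem_subgroupOf.mpr hu0Q) g⁻¹
      simpa [MulAut.smul_def] using this
    have h2 : ((MulAut.conj g)⁻¹ • (⟨u0, hQF hu0Q⟩ : F)) ∈
        Q.subgroupOf F ⊓ (Subgroup.zpowers x).subgroupOf F := ⟨h1, hg2⟩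
    rw [hc.disjoint.eq_bot, Subgroup.mem_bot] at h2
    rw [smul_eq_iff_eq_inv_smul, smul_one] at h2
    exact hu01 (congrArg Subtype.val h2)
  have hCK : N ⊓ Subgroup.centralizer (Subtype.val ''
      frobeniusKernel ((Subgroup.zpowers x).subgroupOf F) : Set G) = ⊥ := by
    rw [eq_bot_iff]
    rintro v ⟨hvN, hvc⟩
    rw [Subgroup.mem_bot]
    by_contra hv1
    have hcomm : u0 * v = v * u0 :=
      (Subgroup.mem_centralizer_iff.mp hvc) u0 ⟨⟨u0, hQF hu0Q⟩, hu0K, rfl⟩
    obtain ⟨k, hk⟩ := orderOf_of_isPGroup Q hQs u0 hu0Q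
    obtain ⟨j, hj⟩ := orderOf_of_isPGroup N hNp v hvN
    apply noComm h u0 v hcomm _ hu01 hv1
    rw [hk, hj]
    exact Nat.Coprime.pow _ _ ((Nat.coprime_primes hsP hpP).mpr (Ne.symm hps))
  have hres := Cfsg.Agent.S0666.result N F inferInstance hN1 hFN
    ((Subgroup.zpowers x).subgroupOf F) hFrob
    (by rw [hcardK, ha]; exact Nat.Coprime.pow _ _ ((Nat.coprime_primes hpP hsP).mpr hps)) hCK
  obtain ⟨⟨v, hv⟩, hv1⟩ := (Subgroup.ne_bot_iff_exists_ne_one).mp hres
  have hvG : v ≠ 1 := fun h0 => hv1 (Subtype.ext h0)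
  have hxmem : x ∈ (((Subgroup.zpowers x).subgroupOf F).map F.subtype : Subgroup G) := by
    rw [Subgroup.map_subgroupOf_eq_of_le hAF]
    exact Subgroup.mem_zpowers x
  have hcomm : x * v = v * x := (Subgroup.mem_centralizer_iff.mp hv.2) x hxmem
  obtain ⟨j, hj⟩ := orderOf_of_isPGroup N hNp v hv.1
  apply noComm h x v hcomm _ hx1 hvG
  rw [hx, hj]
  exact Nat.Coprime.pow_right _ ((Nat.coprime_primes htP hpP).mpr (Ne.symm hpt))

open Cfsg.Agent.S1473 (omegaSub mem_omegaSub)

theorem exists_normal_elementary {G : Type*} [Group G] [Finite G] [Group.IsSolvable G]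
    [Nontrivial G] :
    ∃ p : ℕ, p.Prime ∧ ∃ A : Subgroup G, A.Normal ∧ A ≠ ⊥ ∧
      (∀ a ∈ A, ∀ b ∈ A, a * b = b * a) ∧ ∀ a ∈ A, a ^ p = 1 := by
  classical
  have hex : ∃ n, derivedSeries G n = ⊥ := Group.IsSolvable.solvable (G := G)
  have hm : derivedSeries G (Nat.find hex) = ⊥ := Nat.find_spec hex
  have hm0 : Nat.find hex ≠ 0 := by
    intro h0
    rw [h0, derivedSeries_zero] at hm
    exact top_ne_bot hm
  obtain ⟨k, hk⟩ := Nat.exists_eq_succ_of_ne_zero hm0
  have hk1 : derivedSeries G k ≠ ⊥ := Nat.find_min hex (by omega)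
  have hDn : (derivedSeries G k).Normal := derivedSeries_normal G k
  have hcomm : ∀ a ∈ derivedSeries G k, ∀ b ∈ derivedSeries G k, a * b = b * a := by
    intro a ha b hb
    have := Subgroup.commutator_mem_commutator ha hb
    rw [← derivedSeries_succ, ← Nat.succ_eq_add_one, ← hk, hm, Subgroup.mem_bot,
      commutatorElement_eq_one_iff_mul_comm] at this
    exact this
  have hc1 : Nat.card (derivedSeries G k) ≠ 1 := fun h => hk1 (Subgroup.card_eq_one.mp h)
  obtain ⟨p, hp, hpdvd⟩ := Nat.exists_prime_and_dvd hc1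
  haveI : Fact p.Prime := ⟨hp⟩
  refine ⟨p, hp, omegaSub (derivedSeries G k) hcomm p, ?_, ?_, ?_, ?_⟩
  · constructor
    intro a ha g
    rw [mem_omegaSub] at ha ⊢
    exact ⟨hDn.conj_mem a ha.1 g, by rw [conj_pow, ha.2, mul_one, mul_inv_cancel]⟩
  · obtain ⟨x, hx⟩ := exists_prime_orderOf_dvd_card' (G := derivedSeries G k) p hpdvd
    intro h
    have hxm : (x : G) ∈ omegaSub (derivedSeries G k) hcomm p := by
      rw [mem_omegaSub]
      refine ⟨x.2, ?_⟩
      have := pow_orderOf_eq_one x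
      rw [hx] at this
      simpa only [Subgroup.coe_pow, Subgroup.coe_one] using congrArg Subtype.val this
    rw [h, Subgroup.mem_bot] at hxm
    have hx1 : x = 1 := Subtype.ext hxm
    rw [hx1, orderOf_one] at hx
    exact hp.one_lt.ne hx
  · intro a ha b hb
    exact hcomm a ha.1 b hb.1
  · intro a ha
    exact ha.2

theorem eppo_quotient {G : Type*} [Group G] [Finite G]
    (h : ∀ g : G, IsPrimePow (orderOf g) ∨ g = 1) (N : Subgroup G) [N.Normal] :
    ∀ g : G ⧸ N, IsPrimePow (orderOf g) ∨ g = 1 := by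
  intro gb
  obtain ⟨g, rfl⟩ := QuotientGroup.mk'_surjective N gb
  rcases h g with hpp | h1
  · obtain ⟨p, k, hp, hk, hpk⟩ := (isPrimePow_nat_iff _).mp hpp
    have hdvd : orderOf (QuotientGroup.mk' N g) ∣ p ^ k := hpk ▸ orderOf_map_dvd _ g
    obtain ⟨j, -, hj⟩ := (Nat.dvd_prime_pow hp).mp hdvd
    rcases Nat.eq_zero_or_pos j with h0 | hpos
    · right
      rw [← orderOf_eq_one_iff, hj, h0, pow_zero]
    · left
      rw [hj]
      exact (isPrimePow_nat_iff _).mpr ⟨p, j, hp, hpos, rfl⟩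
  · right
    rw [h1, map_one]

theorem general (n : ℕ) : ∀ (G : Type u) [Group G] [Finite G] [Group.IsSolvable G],
    (∀ g : G, IsPrimePow (orderOf g) ∨ g = 1) → Nat.card G = n →
    (Nat.card G).primeFactors.card ≤ 2 := by
  induction n using Nat.strong_induction_on with
  | _ n ih =>
    intro G _ _ _ h hcard
    by_cases htriv : Subsingleton G
    · rw [Nat.card_eq_one_iff_unique.mpr ⟨htriv, ⟨1⟩⟩]
      simp
    haveI : Nontrivial G := not_subsingleton_iff_nontrivial.mp htriv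
    obtain ⟨p, hp, N, hNn, hN1, hNab, hNexp⟩ := exists_normal_elementary (G := G)
    haveI := hNn
    haveI : Fact p.Prime := ⟨hp⟩
    have hNp : IsPGroup p N := fun a => ⟨1, Subtype.ext (by simpa using hNexp a a.2)⟩
    obtain ⟨a, ha⟩ := IsPGroup.iff_card.mp hNp
    have hcardG : Nat.card G = Nat.card (G ⧸ N) * Nat.card N :=
      Subgroup.card_eq_card_quotient_mul_card_subgroup N
    have hN2 : 2 ≤ Nat.card N := by
      have h0 : Nat.card N ≠ 1 := fun h => hN1 (Subgroup.card_eq_one.mp h)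
      have := Nat.card_pos (α := N)
      omega
    have ha0 : a ≠ 0 := by
      intro h0
      rw [h0, pow_zero] at ha
      omega
    have hmpos : 0 < Nat.card (G ⧸ N) := Nat.card_pos
    have hlt : Nat.card (G ⧸ N) < n := by
      rw [← hcard, hcardG]
      nlinarith
    have hq := eppo_quotient h N
    have ih' := ih _ hlt (G ⧸ N) hq rfl
    obtain ⟨m, hm⟩ : ∃ m : ℕ, m = Nat.card (G ⧸ N) := ⟨_, rfl⟩
    rw [← hm] at ih' hcardG hmpos
    have hpf : (Nat.card G).primeFactors = m.primeFactors ∪ {p} := by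
      rw [hcardG, ha, Nat.primeFactors_mul hmpos.ne' (pow_ne_zero _ hp.ne_zero),
        Nat.primeFactors_prime_pow ha0 hp]
    by_cases hpm : p ∈ m.primeFactors
    · rw [hpf, Finset.union_eq_left.mpr (Finset.singleton_subset_iff.mpr hpm)]
      exact ih'
    by_cases h1 : m.primeFactors.card ≤ 1
    · rw [hpf]
      calc (m.primeFactors ∪ {p}).card ≤ m.primeFactors.card + ({p} : Finset ℕ).card :=
            Finset.card_union_le _ _
        _ ≤ 2 := by rw [Finset.card_singleton]; omega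
    exfalso
    have h2 : 1 < m.primeFactors.card := by omega
    haveI : Nontrivial (G ⧸ N) := by
      rw [← Finite.one_lt_card_iff_nontrivial, ← hm]
      by_contra hle
      have hm1 : m = 1 := by omega
      rw [hm1] at h2
      simp at h2
    obtain ⟨s, hs, Mb, hMbn, hMb1, hMbab, hMbexp⟩ := exists_normal_elementary (G := G ⧸ N)
    haveI : Fact s.Prime := ⟨hs⟩
    have hMbp : IsPGroup s Mb := fun a => ⟨1, Subtype.ext (by simpa using hMbexp a a.2)⟩
    obtain ⟨b, hb⟩ := IsPGroup.iff_card.mp hMbp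
    have hb0 : b ≠ 0 := by
      intro h0
      rw [h0, pow_zero] at hb
      exact hMb1 (Subgroup.card_eq_one.mp hb)
    have hsm : s ∈ m.primeFactors := by
      rw [Nat.mem_primeFactors]
      refine ⟨hs, ?_, hmpos.ne'⟩
      rw [hm]
      exact (dvd_pow_self s hb0).trans (hb ▸ Subgroup.card_subgroup_dvd_card Mb)
    obtain ⟨t, htm, hts⟩ := Finset.exists_mem_ne h2 s
    have htP : t.Prime := Nat.prime_of_mem_primeFactors htm
    have htd : t ∣ m := Nat.dvd_of_mem_primeFactors htm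
    haveI : Fact t.Prime := ⟨htP⟩
    have hps : p ≠ s := fun e => hpm (e ▸ hsm)
    have hpt : p ≠ t := fun e => hpm (e ▸ htm)
    obtain ⟨x, hx⟩ := exists_prime_orderOf_dvd_card' (G := G) t
      (htd.trans (hcardG ▸ dvd_mul_right _ _))
    obtain ⟨M, hM⟩ : ∃ M : Subgroup G, M = Mb.comap (QuotientGroup.mk' N) := ⟨_, rfl⟩
    haveI hMn : M.Normal := hM ▸ hMbn.comap _
    have hcardM : Nat.card M = p ^ a * s ^ b := by
      rw [hM, Cfsg.Agent.Lib.Helper3.card_comap_mk'_eq, ha, hb]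
    have hcardA : Nat.card (Subgroup.zpowers x) = t := by rw [Nat.card_zpowers, hx]
    have hcop : (Nat.card (Subgroup.zpowers x)).Coprime (Nat.card M) := by
      rw [hcardA, hcardM]
      exact Nat.Coprime.mul_right
        (Nat.Coprime.pow_right _ ((Nat.coprime_primes htP hp).mpr (Ne.symm hpt)))
        (Nat.Coprime.pow_right _ ((Nat.coprime_primes htP hs).mpr hts))
    obtain ⟨Q', hQ'⟩ := Cfsg.Agent.Lib.Helper13.exists_invariant_sylow (Subgroup.zpowers x) M
      (by rw [Subgroup.normalizer_eq_top M]; exact le_top) hcop (Or.inr inferInstance) s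
    have hQs : IsPGroup s ((Q' : Subgroup M).map M.subtype) := Q'.isPGroup'.map _
    have hQ1 : (Q' : Subgroup M).map M.subtype ≠ ⊥ := by
      rw [Ne, Subgroup.map_eq_bot_iff_of_injective _ M.subtype_injective]
      exact Q'.ne_bot_of_dvd_card (by
        rw [hcardM]; exact dvd_mul_of_dvd_right (dvd_pow_self s hb0) _)
    exact core h hps hpt hts.symm N hNab hNp hN1 _ hQs hQ1 x hx hQ'

/-- Let G be a finite solvable group such that the order of every element is a prime power (1 included). Then at most two distinct primes divide the order of G. -/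
theorem result {G : Type*} [Group G] [Finite G] [Group.IsSolvable G] (h : ∀ g : G, IsPrimePow (orderOf g) ∨ g = 1) :
    (Nat.card G).primeFactors.card ≤ 2 :=
  general _ G h rfl

end Cfsg.Agent.S1475
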