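import Mathlib
import Cfsg.Agent.Lib.Helper13.CNMax
import Cfsg.Statements.S1478
-- import your own Cfsg.Agent.* helpers here

set_option autoImplicit false
open Cfsg

namespace Cfsg.Agent.S1478

/-- Let G be a minimal simple group of odd order in which every non-identity element has nilpotent centralizer. Then no subgroup of G is a three-step group with respect to any prime. -/
theorem result {G : Type*} [Group G] [Finite G] (hG : Cfsg.IsMinSimpleOddOrder G) (hCN : Cfsg.IsCNGroup G) :
    ∀ (H : Subgroup G) (p : ℕ), ¬ Cfsg.IsThreeStepGroup p ↥H := by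
  intro H p h3
  obtain ⟨hK, A, hA1, -, -, -, hTn, hTtop, -, -, hlast⟩ := id h3
  by_cases hHtop : H = ⊤
  · subst hHtop
    haveI := hG.2.1
    haveI : Nontrivial ↥(⊤ : Subgroup G) := by
      haveI := Cfsg.Agent.Lib.Helper13.CNMin.nontrivial hG
      exact (Subgroup.topEquiv (G := G)).toEquiv.nontrivial
    haveI : IsSimpleGroup ↥(⊤ : Subgroup G) := (Subgroup.topEquiv (G := G)).isSimpleGroup
    rcases hTn.eq_bot_or_eq_top with h | h
    · apply hK
      rw [eq_bot_iff, ← h]
      exact le_sup_left
    · exact hTtop h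
  · obtain ⟨M, hM, hHM⟩ := Cfsg.Agent.Lib.Helper13.CNMin.exists_coatom_ge hHtop
    obtain ⟨E, hFD⟩ := Cfsg.Agent.Lib.Helper13.CNMax.coatom_frobData hG hCN M hM
    have hNn : ((fittingHallOf M).subgroupOf H).Normal :=
      Subgroup.normal_subgroupOf_of_le_normalizer (hHM.trans hFD.norm)
    have hNnil : Group.IsNilpotent ↥((fittingHallOf M).subgroupOf H) := by
      let f : ↥((fittingHallOf M).subgroupOf H) →* ↥(fittingHallOf M) :=
        MonoidHom.codRestrict (H.subtype.comp ((fittingHallOf M).subgroupOf H).subtype)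
          (fittingHallOf M) (fun x => Subgroup.mem_subgroupOf.mp x.2)
      apply Cfsg.Agent.Lib.Helper6.inj_isNilpotent f _ hFD.nil
      intro x y hxy
      apply Subtype.ext
      apply Subtype.ext
      have h1 : ((f x : fittingHallOf M) : G) = (f y : fittingHallOf M) := congrArg Subtype.val hxy
      exact h1
    have hNle : (fittingHallOf M).subgroupOf H ≤ pCore p ↥H :=
      (Cfsg.Agent.Lib.Helper2.le_fittingSubgroup hNn hNnil).trans
        (Cfsg.Agent.Lib.Helper13.CNThree.fittingSubgroup_le_pCore h3)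
    obtain ⟨x, hx⟩ : ∃ x : ↥H, x ∉ pCore p ↥H ⊔ A := by
      by_contra hcon
      push Not at hcon
      exact hTtop (eq_top_iff.mpr (fun x _ => hcon x))
    obtain ⟨⟨a, ha⟩, ha1⟩ := (Subgroup.ne_bot_iff_exists_ne_one).mp hA1
    have ha1' : a ≠ 1 := fun h => ha1 (Subtype.ext h)
    apply hlast x hx a ha ha1'
    apply hNle
    rw [Subgroup.mem_subgroupOf]
    have := Cfsg.Agent.Lib.Helper13.CNFrob.commutator_mem hFD.compl hFD.norm hFD.comm
      (x : G) (a : G) (hHM x.2) (hHM a.2)
    simpa using this

end Cfsg.Agent.S1478
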