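import Mathlib
import Cfsg.Statements.S1480
import Cfsg.Agent.Lib.Helper13.Transitivity2
import Cfsg.Agent.Lib.Helper13.InvPrime2
-- import your own Cfsg.Agent.* helpers here

set_option autoImplicit false
set_option linter.style.haveILetI false
open Cfsg

namespace Cfsg.Agent.S1480

open Cfsg.Agent.Lib Cfsg.Agent.Lib.Helper13 Subgroup
open scoped Pointwise commutatorElement

universe u

theorem comm_comm_eq_one_of_class_le_two {S : Type*} [Group S] (hn : Group.IsNilpotent S)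
    (h : Group.nilpotencyClass S ≤ 2) (x y z : S) : ⁅⁅x, y⁆, z⁆ = 1 := by
  haveI := hn
  have h1 : (⊤ : Subgroup S).lowerCentralSeries 2 = ⊥ :=
    Subgroup.lowerCentralSeries_eq_bot_iff_nilpotencyClass_le.mpr h
  have h2 : ⁅⁅x, y⁆, z⁆ ∈ (⊤ : Subgroup S).lowerCentralSeries 2 := by
    rw [Subgroup.lowerCentralSeries_succ, Subgroup.lowerCentralSeries_succ,
      Subgroup.lowerCentralSeries_zero]
    exact Subgroup.commutator_mem_commutator
      (Subgroup.commutator_mem_commutator (Subgroup.mem_top x) (Subgroup.mem_top y))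
      (Subgroup.mem_top z)
  rw [h1] at h2
  exact Subgroup.mem_bot.mp h2

theorem isPGroup_iff_primes {G : Type*} [Group G] [Finite G] (q : ℕ) [hq : Fact q.Prime]
    (R : Subgroup G) :
    IsPGroup q R ↔ ∀ r : ℕ, r.Prime → r ∣ Nat.card R → r ∈ ({q} : Set ℕ) := by
  constructor
  · intro h r hr hrd
    obtain ⟨k, hk⟩ := h.exists_card_eq
    rw [hk] at hrd
    exact Nat.prime_eq_prime_of_dvd_pow hr hq.out hrd
  · intro h
    have h1 := Nat.eq_prime_pow_of_unique_prime_dvd (n := Nat.card R) (p := q)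
      Nat.card_pos.ne' (fun {d} hd hdd => h d hd hdd)
    exact IsPGroup.of_card h1

theorem isMaxInv_of_mem {G : Type*} [Group G] [Finite G] (q : ℕ) [hq : Fact q.Prime]
    (E Q : Subgroup G) (h : Q ∈ Cfsg.maxInvSubgroups ⊤ E {q}) : IsMaxInv E q Q := by
  obtain ⟨⟨-, hQq, hEQ⟩, hmax⟩ := h
  refine ⟨(isPGroup_iff_primes q Q).mpr hQq, hEQ, ?_⟩
  intro R hR hER hQR
  exact hmax R ⟨le_top, (isPGroup_iff_primes q R).mp hR, hER⟩ hQR

theorem mem_piCoreOf_of_coprime {G : Type*} [Group G] [Finite G] (p : ℕ) [hp : Fact p.Prime]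
    (E : Subgroup G) (hEp : IsPGroup p E) (hEab : ∀ x ∈ E, ∀ y ∈ E, x * y = y * x)
    (hEfull : ∀ x ∈ centralizer (E : Set G), IsPGroup p (zpowers x) → x ∈ E)
    (c : G) (hc : c ∈ centralizer (E : Set G)) (hcop : (orderOf c).Coprime p) :
    c ∈ Cfsg.piCoreOf (Cfsg.primesNotDvd p) (centralizer (E : Set G)) := by
  obtain ⟨C, hCdef⟩ : ∃ C : Subgroup G, C = centralizer (E : Set G) := ⟨_, rfl⟩
  rw [← hCdef] at hc ⊢
  have hEC : E ≤ C := by
    rw [hCdef]; intro x hx
    rw [Subgroup.mem_centralizer_iff]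
    intro y hy; exact hEab y hy x hx
  have hmax : ∀ {Q : Subgroup ↥C}, IsPGroup p Q → E.subgroupOf C ≤ Q → Q = E.subgroupOf C := by
    intro Q hQ hle
    apply le_antisymm _ hle
    intro x hx
    rw [Subgroup.mem_subgroupOf]
    apply hEfull
    · rw [← hCdef]; exact x.2
    · have h3 : zpowers (x : G) = (zpowers x).map C.subtype := by
        rw [MonoidHom.map_zpowers]; rfl
      rw [h3]
      exact (hQ.to_le (by rw [Subgroup.zpowers_le]; exact hx)).map _
  obtain ⟨P, hP⟩ : ∃ P : Sylow p C, (P : Subgroup C) = E.subgroupOf C :=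
    ⟨⟨E.subgroupOf C, hEp.comap_subtype, hmax⟩, rfl⟩
  have hPc : normalizer ((P : Subgroup C) : Set C) ≤ centralizer ((P : Subgroup C) : Set C) := by
    intro g _
    rw [Subgroup.mem_centralizer_iff]
    intro x hx
    rw [SetLike.mem_coe, hP, Subgroup.mem_subgroupOf] at hx
    have hg : (g : G) ∈ centralizer (E : Set G) := by rw [← hCdef]; exact g.2
    exact Subtype.ext (Subgroup.mem_centralizer_iff.mp hg _ hx)
  obtain ⟨N, hNdef⟩ : ∃ N : Subgroup C, N = (MonoidHom.transferSylow P hPc).ker := ⟨_, rfl⟩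
  haveI hNn : N.Normal := by rw [hNdef]; infer_instance
  have hcompl : N.IsComplement' P := by
    rw [hNdef]; exact MonoidHom.ker_transferSylow_isComplement' P hPc
  have hNp : ¬ p ∣ Nat.card N := by
    rw [← hcompl.index_eq_card]; exact P.not_dvd_index
  have hNcore : N ≤ Cfsg.piCore (Cfsg.primesNotDvd p) C := by
    apply le_sSup
    refine ⟨hNn, ?_⟩
    intro r hr hrd
    refine ⟨hr, ?_⟩
    intro hrp
    have : r = p := (Nat.prime_dvd_prime_iff_eq hr hp.out).mp hrp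
    rw [this] at hrd
    exact hNp hrd
  have hcN : (⟨c, hc⟩ : C) ∈ N := by
    rw [hNdef, MonoidHom.mem_ker]
    obtain ⟨t, htdef⟩ : ∃ t : ↥(P : Subgroup C), t = MonoidHom.transferSylow P hPc ⟨c, hc⟩ :=
      ⟨_, rfl⟩
    rw [← htdef]
    have h1 : orderOf t ∣ orderOf (⟨c, hc⟩ : C) := by
      rw [htdef]; exact orderOf_map_dvd _ _
    have h2 : orderOf (⟨c, hc⟩ : C) = orderOf c := Subgroup.orderOf_mk c hc
    obtain ⟨j, hj⟩ := P.2 t
    have h3 : orderOf t ∣ p ^ j := orderOf_dvd_of_pow_eq_one hj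
    rw [h2] at h1
    have h4 : orderOf t = 1 := Nat.eq_one_of_dvd_coprimes (hcop.pow_right j) h1 h3
    exact orderOf_eq_one_iff.mp h4
  exact ⟨⟨c, hc⟩, hNcore hcN, rfl⟩

theorem exists_M {G : Type u} [Group G] [Finite G] (p : ℕ) [hp : Fact p.Prime]
    (hloc : ∀ T : Subgroup G, IsPGroup p T → T ≠ ⊥ →
      Cfsg.IsPConstrained p ↥(Subgroup.normalizer (T : Set G)))
    (hcl : p = 2 → ∀ S : Sylow p G, ∀ x ∈ S, ∀ y ∈ S, ∀ z ∈ S, ⁅⁅x, y⁆, z⁆ = 1)
    (E : Subgroup G) (hEp : IsPGroup p E) (hEab : ∀ x ∈ E, ∀ y ∈ E, x * y = y * x)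
    (hEfull : ∀ x ∈ centralizer (E : Set G), IsPGroup p (zpowers x) → x ∈ E)
    (b : G) (hbE : b ∈ E) (hb1 : b ≠ 1) :
    ∃ M : Subgroup G, (Nat.card M).Coprime p ∧ E ≤ normalizer (M : Set G) ∧
      ∀ K : Subgroup G, K ≤ centralizer ({b} : Set G) → (Nat.card K).Coprime p →
        E ≤ normalizer (K : Set G) → K ≤ M := by
  obtain ⟨L, hLdef⟩ : ∃ L : Subgroup G, L = normalizer ((zpowers b : Subgroup G) : Set G) :=
    ⟨_, rfl⟩
  have hzp : IsPGroup p (zpowers b) := hEp.to_le (by rw [Subgroup.zpowers_le]; exact hbE)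
  have hzne : zpowers b ≠ ⊥ := by
    intro h
    apply hb1
    rw [← Subgroup.mem_bot, ← h]; exact Subgroup.mem_zpowers b
  have hcon : Cfsg.IsPConstrained p ↥L := by rw [hLdef]; exact hloc _ hzp hzne
  have hcbL : centralizer ({b} : Set G) ≤ L := by
    rw [hLdef]; exact centralizer_singleton_le_normalizer_zpowers b
  have hEcb : E ≤ centralizer ({b} : Set G) := by
    intro x hx
    rw [Subgroup.mem_centralizer_iff]
    intro y hy
    rw [Set.mem_singleton_iff] at hy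
    rw [hy]; exact hEab b hbE x hx
  have hEL : E ≤ L := hEcb.trans hcbL
  have hcase : p ≠ 2 ∨ ∀ T : Subgroup ↥L, IsPGroup p T → ∀ x ∈ T, ∀ y ∈ T, ∀ z ∈ T,
      ⁅⁅x, y⁆, z⁆ = 1 := by
    by_cases hp2 : p = 2
    · right
      intro T hT x hx y hy z hz
      obtain ⟨S, hS⟩ := (hT.map L.subtype).exists_le_sylow
      have h1 := hcl hp2 S (x : G) (hS ⟨x, hx, rfl⟩) (y : G) (hS ⟨y, hy, rfl⟩) (z : G)
        (hS ⟨z, hz, rfl⟩)
      apply Subtype.ext
      have h2 : ((⁅⁅x, y⁆, z⁆ : ↥L) : G) = ⁅⁅(x : G), (y : G)⁆, (z : G)⁆ := by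
        simp [commutatorElement_def]
      rw [h2, h1]; rfl
    · left; exact hp2
  obtain ⟨M, hMdef⟩ : ∃ M : Subgroup G, M = (Cfsg.pPrimeCore p L).map L.subtype := ⟨_, rfl⟩
  have hLM : L ≤ normalizer (M : Set G) := by
    haveI : (Cfsg.pPrimeCore p L).Normal := Helper2.pPrimeCore_normal p
    have h1 := Subgroup.le_normalizer_map (H := Cfsg.pPrimeCore p L) L.subtype
    rw [Subgroup.normalizer_eq_top, ← MonoidHom.range_eq_map, Subgroup.range_subtype] at h1
    rw [hMdef]; exact h1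
  have hMcop : (Nat.card M).Coprime p := by
    rw [hMdef, Subgroup.card_map_of_injective L.subtype_injective]
    exact Helper2.pPrimeCore_coprime p
  refine ⟨M, hMcop, hEL.trans hLM, ?_⟩
  intro K hKcb hKcop hEK
  have hKL : K ≤ L := hKcb.trans hcbL
  have hcore : K.subgroupOf L ≤ Cfsg.pPrimeCore p L := by
    apply invariant_le_pPrimeCore_of_constrained p hcon hcase (E.subgroupOf L) (K.subgroupOf L)
    · exact hEp.comap_subtype
    · intro y hy hyp
      rw [Subgroup.mem_subgroupOf]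
      apply hEfull
      · rw [Subgroup.mem_centralizer_iff]
        intro h hh
        have h1 : (⟨h, hEL hh⟩ : L) ∈ ((E.subgroupOf L : Subgroup L) : Set L) := by
          rw [SetLike.mem_coe, Subgroup.mem_subgroupOf]; exact hh
        have h2 := Subgroup.mem_centralizer_iff.mp hy _ h1
        exact congrArg Subtype.val h2
      · have h3 : zpowers (y : G) = (zpowers y).map L.subtype := by
          rw [MonoidHom.map_zpowers]; rfl
        rw [h3]; exact hyp.map _
    · rw [card_subgroupOf_of_le hKL]; exact hKcop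
    · intro x hx
      rw [Subgroup.mem_subgroupOf] at hx
      rw [Subgroup.mem_normalizer_iff]
      intro y
      rw [Subgroup.mem_subgroupOf, Subgroup.mem_subgroupOf]
      have := Subgroup.mem_normalizer_iff.mp (hEK hx) (y : G)
      simpa using this
  intro x hx
  rw [hMdef]
  refine ⟨⟨x, hKL hx⟩, ?_, rfl⟩
  apply hcore
  rw [Subgroup.mem_subgroupOf]; exact hx

theorem exists_E₀ {G : Type*} [Group G] [Finite G] (p : ℕ) [hp : Fact p.Prime] (E : Subgroup G)
    (hEp : IsPGroup p E) (hE3 : ¬ Cfsg.PRankLE p 2 E) :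
    ∃ E₀ : Subgroup G, E₀ ≤ E ∧ (∀ x ∈ E₀, x ^ p = 1) ∧ Nat.card E₀ = p ^ 3 := by
  unfold Cfsg.PRankLE at hE3
  push Not at hE3
  obtain ⟨A, -, hAexp, hAcard⟩ := hE3
  have hAp : IsPGroup p A := hEp.to_subgroup A
  obtain ⟨k, hk⟩ := hAp.exists_card_eq
  have hk3 : 3 ≤ k := by
    by_contra h
    have h1 : k ≤ 2 := by omega
    have := Nat.pow_le_pow_right hp.out.pos h1
    rw [hk] at hAcard
    omega
  have hdvd : p ^ 3 ∣ Nat.card A := by
    rw [hk]; exact pow_dvd_pow p hk3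
  obtain ⟨K, hK⟩ := Sylow.exists_subgroup_card_pow_prime p hdvd
  refine ⟨(K.map A.subtype).map E.subtype, Subgroup.map_subtype_le _, ?_, ?_⟩
  · rintro _ ⟨_, ⟨a, -, rfl⟩, rfl⟩
    have h1 := hAexp a.1 a.2
    have h2 := congrArg Subtype.val h1
    simpa using h2
  · rw [Subgroup.card_map_of_injective E.subtype_injective,
      Subgroup.card_map_of_injective A.subtype_injective, hK]

theorem main {G : Type u} [Group G] [Finite G] (p : ℕ) [hp : Fact p.Prime]
    (hloc : ∀ T : Subgroup G, IsPGroup p T → T ≠ ⊥ →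
      Cfsg.IsPConstrained p ↥(Subgroup.normalizer (T : Set G)))
    (h2 : p = 2 → ∀ S : Sylow p G, Group.IsNilpotent (S : Subgroup G) ∧
      Group.nilpotencyClass (S : Subgroup G) ≤ 2)
    (E : Subgroup G) (hEp : IsPGroup p E) (hEc : IsMulCommutative E)
    (hE3 : ¬ Cfsg.PRankLE p 2 E)
    (hEfull : ∀ x ∈ Subgroup.centralizer (E : Set G), IsPGroup p (Subgroup.zpowers x) → x ∈ E)
    (q : ℕ) [Fact q.Prime] (hqp : q ≠ p) :
    ∀ Q₁ ∈ Cfsg.maxInvSubgroups ⊤ E {q}, ∀ Q₂ ∈ Cfsg.maxInvSubgroups ⊤ E {q},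
        ∃ k ∈ Cfsg.piCoreOf (Cfsg.primesNotDvd p) (Subgroup.centralizer (E : Set G)),
          Q₂ = Q₁.map (MulAut.conj k).toMonoidHom := by
  intro Q₁ hQ₁ Q₂ hQ₂
  have hEab : ∀ x ∈ E, ∀ y ∈ E, x * y = y * x := by
    intro x hx y hy
    exact congrArg Subtype.val (hEc.is_comm.comm (⟨x, hx⟩ : E) ⟨y, hy⟩)
  have hcl : p = 2 → ∀ S : Sylow p G, ∀ x ∈ S, ∀ y ∈ S, ∀ z ∈ S, ⁅⁅x, y⁆, z⁆ = 1 := by
    intro hp2 S x hx y hy z hz
    obtain ⟨hn, hc⟩ := h2 hp2 S
    have h1 := comm_comm_eq_one_of_class_le_two hn hc ⟨x, hx⟩ ⟨y, hy⟩ ⟨z, hz⟩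
    have h3 := congrArg Subtype.val h1
    simpa [commutatorElement_def] using h3
  obtain ⟨E₀, hE₀E, hexp, hcard⟩ := exists_E₀ p E hEp hE3
  obtain ⟨c, hc, hcQ⟩ := transitivity_abstract p E hEp hEab E₀ hE₀E hexp hcard
    (Cfsg.piCoreOf (Cfsg.primesNotDvd p) (Subgroup.centralizer (E : Set G)))
    (fun c hc hcop => mem_piCoreOf_of_coprime p E hEp hEab hEfull c hc hcop)
    (fun b hbE hb1 => exists_M p hloc hcl E hEp hEab hEfull b (hE₀E hbE) hb1)
    q hqp Q₁ Q₂ (isMaxInv_of_mem q E Q₁ hQ₁) (isMaxInv_of_mem q E Q₂ hQ₂)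
  exact ⟨c, hc, hcQ⟩

end Cfsg.Agent.S1480

namespace Cfsg.Agent.S1480

/-- Let G be a finite group and p a prime such that the normalizer of every nontrivial p-subgroup of G is p-constrained; if p = 2 assume also that the Sylow 2-subgroups of G have nilpotency class at most 2. Let E be an abelian p-subgroup containing an elementary abelian subgroup of order p ^ 3 and containing every element of p-power order of C_G(E). Then for every prime q ≠ p, any two maximal E-invariant q-subgroups of G are conjugate by an element of O_{p'}(C_G(E)). -/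
theorem result {G : Type*} [Group G] [Finite G] (p : ℕ) [Fact p.Prime]
    (hloc : ∀ T : Subgroup G, IsPGroup p T → T ≠ ⊥ → Cfsg.IsPConstrained p ↥(Subgroup.normalizer (T : Set G)))
    (h2 : p = 2 → ∀ S : Sylow p G, Group.IsNilpotent (S : Subgroup G) ∧ Group.nilpotencyClass (S : Subgroup G) ≤ 2)
    (E : Subgroup G) (hEp : IsPGroup p E) (hEc : IsMulCommutative E) (hE3 : ¬ Cfsg.PRankLE p 2 E)
    (hEfull : ∀ x ∈ Subgroup.centralizer (E : Set G), IsPGroup p (Subgroup.zpowers x) → x ∈ E)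
    (q : ℕ) [Fact q.Prime] (hqp : q ≠ p) :
    ∀ Q₁ ∈ Cfsg.maxInvSubgroups ⊤ E {q}, ∀ Q₂ ∈ Cfsg.maxInvSubgroups ⊤ E {q},
        ∃ k ∈ Cfsg.piCoreOf (Cfsg.primesNotDvd p) (Subgroup.centralizer (E : Set G)), Q₂ = Q₁.map (MulAut.conj k).toMonoidHom := by
  exact main p hloc h2 E hEp hEc hE3 hEfull q hqp

end Cfsg.Agent.S1480
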