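import Mathlib
import Cfsg.Agent.Lib.Helper13.MaxLocal
import Cfsg.Statements.S1481
-- import your own Cfsg.Agent.* helpers here

set_option autoImplicit false
open Cfsg
open Cfsg.Agent.Lib.Helper13

namespace Cfsg.Agent.S1481

/-- Let G be a finite group and H a local subgroup (the normalizer of a nontrivial subgroup of prime-power order) not properly contained in any local subgroup; let F = F(H), suppose at least two primes divide #F, put X = H ∩ C_G(F), let M ≤ F with F ∩ C_G(M) ≤ M, and let R be a solvable subgroup normalized by M and by X. Then for every prime q not dividing #F there is exactly one maximal M-invariant q-subgroup of R, and it is a Sylow q-subgroup of the largest normal subgroup of R of order coprime to #F. -/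
theorem result {G : Type*} [Group G] [Finite G] (H : Subgroup G) (hH : Cfsg.IsLocalSubgroup H) (hHmax : ∀ L : Subgroup G, Cfsg.IsLocalSubgroup L → H ≤ L → L = H)
    (hF2 : 2 ≤ (Nat.card (Cfsg.fittingOf H)).primeFactors.card)
    (M : Subgroup G) (hM : M ≤ Cfsg.fittingOf H) (hCM : Cfsg.fittingOf H ⊓ Subgroup.centralizer (M : Set G) ≤ M)
    (R : Subgroup G) (hR : Group.IsSolvable R) (hMR : M ≤ Subgroup.normalizer (R : Set G))
    (hXR : H ⊓ Subgroup.centralizer (Cfsg.fittingOf H : Set G) ≤ Subgroup.normalizer (R : Set G))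
    (q : ℕ) [Fact q.Prime] (hq : ¬ q ∣ Nat.card (Cfsg.fittingOf H)) :
    ∃! Q : Subgroup G, Q ∈ Cfsg.maxInvSubgroups R M {q} ∧
      (∀ Q' : Subgroup G, Q' ∈ Cfsg.maxInvSubgroups R M {q} →
        Q' ≤ Cfsg.piCoreOf (Cfsg.primesNotDvd (Nat.card (Cfsg.fittingOf H))) R ∧
        ¬ q ∣ Q'.relIndex (Cfsg.piCoreOf (Cfsg.primesNotDvd (Nat.card (Cfsg.fittingOf H))) R)) := by
  classical
  obtain ⟨F, hFdef⟩ : ∃ F : Subgroup G, F = Cfsg.fittingOf H := ⟨_, rfl⟩
  obtain ⟨W, hWdef⟩ : ∃ W : Subgroup G,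
      W = Cfsg.piCoreOf (Cfsg.primesNotDvd (Nat.card (Cfsg.fittingOf H))) R := ⟨_, rfl⟩
  rw [← hWdef]
  have hWR : W ≤ R := hWdef ▸ piCoreOf_le _ R
  have hWcop : (Nat.card (Cfsg.fittingOf H)).Coprime (Nat.card W) :=
    coprime_of_primesNotDvd _ W (hWdef ▸ piCoreOf_primes _ R)
  have hMW : M ≤ Subgroup.normalizer (W : Set G) :=
    hMR.trans (hWdef ▸ normalizer_le_normalizer_piCoreOf _ R)
  have hMWcop : (Nat.card M).Coprime (Nat.card W) :=
    Nat.Coprime.of_dvd_left (Subgroup.card_dvd_of_le hM) hWcop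
  have hWsolv : Group.IsSolvable ↥W := isSolvable_of_le hWR hR
  -- `C_W(M) = 1`
  obtain ⟨p₀, hp₀⟩ : ∃ p₀, p₀ ∈ (Nat.card (Cfsg.fittingOf H)).primeFactors := by
    apply Finset.card_pos.mp
    omega
  haveI : Fact p₀.Prime := ⟨Nat.prime_of_mem_primeFactors hp₀⟩
  have hCW : W ⊓ Subgroup.centralizer (M : Set G) = ⊥ := by
    apply MaxLocal.eq_bot_of_le_centralizer_zOf H hHmax M hM hCM R hR hXR p₀
      (Nat.dvd_of_mem_primeFactors hp₀) _ (inf_le_left.trans hWR)
    · exact Nat.Coprime.of_dvd_left (Subgroup.card_dvd_of_le inf_le_left) hWcop.symm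
    · intro m hm
      exact CoreControl.mem_normalizer_inf (hMW hm)
        (normalizer_le_normalizer_centralizer _ (Subgroup.le_normalizer hm))
    · exact inf_le_right.trans (Subgroup.centralizer_le
        (MaxLocal.zOf_le_of_self_centralizing H M hM hCM p₀ (Nat.prime_of_mem_primeFactors hp₀)))
  -- the invariant Sylow subgroup
  obtain ⟨P, hP⟩ := exists_invariant_sylow M W hMW hMWcop (Or.inr hWsolv) q
  obtain ⟨S, hS⟩ : ∃ S : Subgroup G, S = (P : Subgroup W).map W.subtype := ⟨_, rfl⟩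
  have hSW : S ≤ W := hS ▸ Subgroup.map_subtype_le _
  have hSq : IsPGroup q S := hS ▸ P.isPGroup'.map _
  have hMS : M ≤ Subgroup.normalizer (S : Set G) := hS ▸ hP
  have hSinv : S ∈ Cfsg.invSubgroups R M {q} :=
    ⟨hSW.trans hWR, (isPGroup_iff_primes_mem q S).mp hSq, hMS⟩
  have hA : ∀ Q' : Subgroup G, Q' ∈ Cfsg.invSubgroups R M {q} → Q' ≤ S := by
    rintro Q' ⟨hQ'R, hQ'primes, hMQ'⟩
    have hQ'q : IsPGroup q Q' := (isPGroup_iff_primes_mem q Q').mpr hQ'primes
    have hQ'cop : (Nat.card Q').Coprime (Nat.card (Cfsg.fittingOf H)) := by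
      obtain ⟨k, hk⟩ := IsPGroup.iff_card.mp hQ'q
      rw [hk]
      exact Nat.Coprime.pow_left k ((Nat.Prime.coprime_iff_not_dvd Fact.out).mpr hq)
    have hQ'W : Q' ≤ W := by
      rw [hWdef]
      exact MaxLocal.le_piCoreOf_of_invariant H hHmax hF2 M hM hCM R hR hXR hMR Q' hQ'R hQ'cop hMQ'
    obtain ⟨P', hQ'P', hMP'⟩ := invariant_psubgroup_le_invariant_sylow M W hMW hMWcop
      (Or.inr hWsolv) q Q' hQ'W hQ'q hMQ'
    obtain ⟨c, hcM, hcP⟩ := invariant_sylow_conj M W hMW hMWcop (Or.inr hWsolv) q P' P hMP' hP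
    have hc1 : (c : G) ∈ W ⊓ Subgroup.centralizer (M : Set G) := ⟨c.2, hcM⟩
    rw [hCW, Subgroup.mem_bot] at hc1
    have hc1' : c = 1 := Subtype.ext hc1
    rw [hc1', map_one, one_smul] at hcP
    rw [hS, ← hcP]
    exact hQ'P'
  have hSmax : S ∈ Cfsg.maxInvSubgroups R M {q} :=
    ⟨hSinv, fun R' hR' hSR' => le_antisymm (hA R' hR') hSR'⟩
  have hB : ∀ Q' : Subgroup G, Q' ∈ Cfsg.maxInvSubgroups R M {q} → Q' = S := by
    rintro Q' ⟨hQ'inv, hQ'max⟩
    exact (hQ'max S hSinv (hA Q' hQ'inv)).symm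
  have hidx : ¬ q ∣ S.relIndex W := by
    have h1 : S.subgroupOf W = (P : Subgroup W) := by
      rw [hS]
      exact Subgroup.comap_map_eq_self_of_injective W.subtype_injective _
    rw [Subgroup.relIndex, h1]
    exact P.not_dvd_index
  refine ⟨S, ⟨hSmax, ?_⟩, ?_⟩
  · intro Q' hQ'
    rw [hB Q' hQ']
    exact ⟨hSW, hidx⟩
  · rintro Q₂ ⟨hQ₂, -⟩
    exact hB Q₂ hQ₂

end Cfsg.Agent.S1481
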