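import Mathlib
import Cfsg.Agent.Lib.Helper13.CNBasic
import Cfsg.Statements.S1483
-- import your own Cfsg.Agent.* helpers here

set_option autoImplicit false
open Cfsg

namespace Cfsg.Agent.S1483

/-- Let G be a minimal simple group of odd order in which every non-identity element has nilpotent centralizer. Then any two nilpotent subgroups each contained in no larger nilpotent subgroup are either conjugate or of coprime orders; and for primes p, q, r: if some elements x, y ≠ 1 of p-power and q-power order commute, and some elements y', z ≠ 1 of q-power and r-power order commute, then some elements of p-power and r-power order, both ≠ 1, commute. -/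
theorem result {G : Type*} [Group G] [Finite G] (hG : Cfsg.IsMinSimpleOddOrder G) (hCN : Cfsg.IsCNGroup G) :
    (∀ H₁ H₂ : Subgroup G, (Group.IsNilpotent ↥H₁ ∧ ∀ L : Subgroup G, Group.IsNilpotent L → H₁ ≤ L → L = H₁) → (Group.IsNilpotent ↥H₂ ∧ ∀ L : Subgroup G, Group.IsNilpotent L → H₂ ≤ L → L = H₂) → (∃ g : G, H₂ = H₁.map (MulAut.conj g).toMonoidHom) ∨ (Nat.card H₁).Coprime (Nat.card H₂)) ∧
      ∀ (p q r : ℕ), p.Prime → q.Prime → r.Prime → ∀ (x y y' z : G), x ≠ 1 → y ≠ 1 → y' ≠ 1 → z ≠ 1 →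
        IsPGroup p (Subgroup.zpowers x) → IsPGroup q (Subgroup.zpowers y) → IsPGroup q (Subgroup.zpowers y') → IsPGroup r (Subgroup.zpowers z) →
        x * y = y * x → y' * z = z * y' →
        ∃ x' z' : G, x' ≠ 1 ∧ z' ≠ 1 ∧ IsPGroup p (Subgroup.zpowers x') ∧ IsPGroup r (Subgroup.zpowers z') ∧ x' * z' = z' * x' := by
  refine ⟨fun H₁ H₂ h1 h2 =>
    Cfsg.Agent.Lib.Helper13.CNBasic.conj_or_coprime hCN H₁ H₂ h1.1 h1.2 h2.1 h2.2, ?_⟩
  intro p q r hp hq hr x y y' z hx1 hy1 hy'1 hz1 hx hy hy' hz hxy hyz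
  haveI : Fact p.Prime := ⟨hp⟩
  haveI : Fact q.Prime := ⟨hq⟩
  haveI : Fact r.Prime := ⟨hr⟩
  by_cases hpq : p = q
  · subst hpq
    exact ⟨y', z, hy'1, hz1, hy', hz, hyz⟩
  by_cases hrq : r = q
  · subst hrq
    exact ⟨x, y, hx1, hy1, hx, hy, hxy⟩
  by_cases hpr : p = r
  · subst hpr
    exact ⟨x, x, hx1, hx1, hx, hx, rfl⟩
  obtain ⟨Q, hQ⟩ := hy.exists_le_sylow
  obtain ⟨Q', hQ'⟩ := hy'.exists_le_sylow
  obtain ⟨g, hg⟩ := MulAction.exists_smul_eq G Q' Q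
  have hyQ : y ∈ (Q : Subgroup G) := hQ (Subgroup.mem_zpowers y)
  have hy₁Q : g * y' * g⁻¹ ∈ (Q : Subgroup G) := by
    rw [← hg]
    exact Cfsg.Agent.Lib.Helper17.conj_mem_smul_sylow g Q' (hQ' (Subgroup.mem_zpowers y'))
  obtain ⟨c, hcQ, hc1, hcc⟩ := Cfsg.Agent.S1474.exists_central (Q : Subgroup G) Q.isPGroup' y hyQ hy1
  have hxp := Cfsg.Agent.Lib.Helper13.CNBasic.pow_of_isPGroup_zpowers hx
  have hzr := Cfsg.Agent.Lib.Helper13.CNBasic.pow_of_isPGroup_zpowers hz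
  have hcq := Cfsg.Agent.Lib.Helper13.CNBasic.pow_of_mem_isPGroup Q.isPGroup' hcQ
  have hz₁r : ∃ k : ℕ, (g * z * g⁻¹) ^ (r ^ k) = 1 := by
    obtain ⟨k, hk⟩ := hzr
    exact ⟨k, by rw [conj_pow, hk]; group⟩
  have hy₁1 : g * y' * g⁻¹ ≠ 1 := by
    intro h
    apply hy'1
    have : y' = g⁻¹ * (g * y' * g⁻¹) * g := by group
    rw [this, h]; group
  have hz₁1 : g * z * g⁻¹ ≠ 1 := by
    intro h
    apply hz1
    have : z = g⁻¹ * (g * z * g⁻¹) * g := by group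
    rw [this, h]; group
  have hzy₁ : (g * z * g⁻¹) * (g * y' * g⁻¹) = (g * y' * g⁻¹) * (g * z * g⁻¹) := by
    calc (g * z * g⁻¹) * (g * y' * g⁻¹) = g * (z * y') * g⁻¹ := by group
      _ = g * (y' * z) * g⁻¹ := by rw [hyz]
      _ = (g * y' * g⁻¹) * (g * z * g⁻¹) := by group
  have h1 : x * c = c * x :=
    Cfsg.Agent.S1476.cn_key hCN hpq y hy1 x c hxy (hcc y hyQ).symm hxp hcq
  have h2 : (g * z * g⁻¹) * c = c * (g * z * g⁻¹) :=
    Cfsg.Agent.S1476.cn_key hCN hrq (g * y' * g⁻¹) hy₁1 (g * z * g⁻¹) c hzy₁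
      (hcc _ hy₁Q).symm hz₁r hcq
  have h3 : x * (g * z * g⁻¹) = (g * z * g⁻¹) * x :=
    Cfsg.Agent.S1476.cn_key hCN hpr c hc1 x (g * z * g⁻¹) h1 h2 hxp hz₁r
  exact ⟨x, g * z * g⁻¹, hx1, hz₁1, hx, Cfsg.Agent.S1473.isPGroup_zpowers _ hz₁r, h3⟩

end Cfsg.Agent.S1483
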