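import Mathlib
import Cfsg.Agent.Lib.Helper13.CNConj
import Cfsg.Statements.S1484
-- import your own Cfsg.Agent.* helpers here

set_option autoImplicit false
open Cfsg

namespace Cfsg.Agent.S1484

/-- Let G be a minimal simple group of odd order in which every non-identity element has nilpotent centralizer, and M₁, …, M_k maximal subgroups, pairwise non-conjugate, such that every maximal subgroup is conjugate to some M_i. Let H_i be the largest normal nilpotent Hall subgroup of M_i. Then the orders of the H_i are pairwise coprime, their product is the order of G, and every element of G is conjugate to an element of some H_i. -/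
theorem result {G : Type*} [Group G] [Finite G] (hG : Cfsg.IsMinSimpleOddOrder G) (hCN : Cfsg.IsCNGroup G) (k : ℕ) (Mrep : Fin k → Subgroup G) (hmax : ∀ i, IsCoatom (Mrep i))
    (hnc : ∀ i j, i ≠ j → ∀ g : G, Mrep j ≠ (Mrep i).map (MulAut.conj g).toMonoidHom) (hall : ∀ M : Subgroup G, IsCoatom M → ∃ i, ∃ g : G, M = (Mrep i).map (MulAut.conj g).toMonoidHom) :
    (∀ i j, i ≠ j → (Nat.card (Cfsg.fittingHallOf (Mrep i))).Coprime (Nat.card (Cfsg.fittingHallOf (Mrep j)))) ∧
      ∏ i, Nat.card (Cfsg.fittingHallOf (Mrep i)) = Nat.card G ∧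
      ∀ x : G, ∃ i, ∃ g : G, g * x * g⁻¹ ∈ Cfsg.fittingHallOf (Mrep i) := by
  classical
  have hFD : ∀ i, ∃ E : Subgroup G,
      Cfsg.Agent.Lib.Helper13.CNMax.FrobData (Mrep i) (fittingHallOf (Mrep i)) E :=
    fun i => Cfsg.Agent.Lib.Helper13.CNMax.coatom_frobData hG hCN (Mrep i) (hmax i)
  have hcop : ∀ i j, i ≠ j → (Nat.card (Cfsg.fittingHallOf (Mrep i))).Coprime
      (Nat.card (Cfsg.fittingHallOf (Mrep j))) := by
    intro i j hij
    obtain ⟨Ei, hi⟩ := hFD i
    obtain ⟨Ej, hj⟩ := hFD j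
    rcases Cfsg.Agent.Lib.Helper13.CNBasic.conj_or_coprime hCN _ _ hi.nil hi.max hj.nil hj.max with
      ⟨g, hg⟩ | h
    · exfalso
      apply hnc i j hij g
      rw [← hi.normalizer_eq hG (hmax i), ← hj.normalizer_eq hG (hmax j), hg,
        Subgroup.map_equiv_normalizer_eq]
    · exact h
  have hrep := Cfsg.Agent.Lib.Helper13.CNConj.exists_rep hG hCN Mrep hmax hall
  have hconj : ∀ L : Subgroup G, Group.IsNilpotent L →
      ∃ i, ∃ g : G, L ≤ (fittingHallOf (Mrep i)).map (MulAut.conj g).toMonoidHom := by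
    intro L hL
    obtain ⟨H₀, hH₀, hm₀, hLH⟩ := Cfsg.Agent.Lib.Helper13.CNConj.exists_max_nilpotent_ge L hL
    obtain ⟨i, g, h⟩ := hrep H₀ hH₀ hm₀
    exact ⟨i, g, h ▸ hLH⟩
  refine ⟨hcop, ?_, ?_⟩
  · apply Nat.dvd_antisymm
    · apply Fintype.prod_dvd_of_isRelPrime
      · intro i j hij
        exact Nat.coprime_iff_isRelPrime.mp (hcop i j hij)
      · intro i
        exact Subgroup.card_subgroup_dvd_card _
    · have hprod0 : (∏ i, Nat.card (Cfsg.fittingHallOf (Mrep i))) ≠ 0 :=
        Finset.prod_ne_zero_iff.mpr (fun i _ => Nat.card_pos.ne')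
      rw [← Nat.factorization_prime_le_iff_dvd Nat.card_pos.ne' hprod0]
      intro q hq
      haveI : Fact q.Prime := ⟨hq⟩
      obtain ⟨Q⟩ : Nonempty (Sylow q G) := inferInstance
      obtain ⟨i, g, hle⟩ := hconj (Q : Subgroup G) Q.isPGroup'.isNilpotent
      have h1 : Nat.card (Q : Subgroup G) ∣ Nat.card (Cfsg.fittingHallOf (Mrep i)) := by
        have := Subgroup.card_dvd_of_le hle
        rwa [Subgroup.card_map_of_injective (MulAut.conj g).injective] at this
      have h2 : q ^ (Nat.card G).factorization q ∣ ∏ i, Nat.card (Cfsg.fittingHallOf (Mrep i)) := by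
        rw [← Q.card_eq_multiplicity]
        exact h1.trans (Finset.dvd_prod_of_mem _ (Finset.mem_univ i))
      exact (hq.pow_dvd_iff_le_factorization hprod0).mp h2
  · intro x
    have hLn : Group.IsNilpotent ↥(Subgroup.zpowers x) := by
      let _ : CommGroup ↥(Subgroup.zpowers x) := (Subgroup.isCyclic_zpowers x).commGroup
      exact CommGroup.isNilpotent
    obtain ⟨i, g, hle⟩ := hconj (Subgroup.zpowers x) hLn
    obtain ⟨y, hy, hyx⟩ := hle (Subgroup.mem_zpowers x)
    refine ⟨i, g⁻¹, ?_⟩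
    have : g⁻¹ * x * g⁻¹⁻¹ = y := by
      have h1 : g * y * g⁻¹ = x := by simpa [MulAut.conj_apply] using hyx
      rw [← h1]; group
    rw [this]
    exact hy

end Cfsg.Agent.S1484
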