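import Mathlib
import Cfsg.Statements.S1485

set_option autoImplicit false

namespace Cfsg.Agent.S1485

theorem extendByZero_mem {G : Type*} [Group G] (H : Subgroup G) (θ : H → ℂ) (g : G) (hg : g ∈ H) :
    Cfsg.extendByZero H θ g = θ ⟨g, hg⟩ := by
  unfold Cfsg.extendByZero
  exact Subtype.val_injective.extend_apply θ 0 ⟨g, hg⟩

/-- Let H be a normal subgroup of the finite group G and θ an irreducible character of H. On H, the function induced from θ equals r times the sum of the distinct G-conjugates of θ, where r is the number of elements of G fixing θ under conjugation divided by the order of H (the index of H in the inertia group). -/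
theorem result {G : Type*} [Group G] [Fintype G] (H : Subgroup G) [hN : H.Normal] (θ : H → ℂ) (hθ : Cfsg.IsIrrCharacter H θ) : (fun h : H => Cfsg.indFun H θ h) = ((Nat.card {g : G // ∀ h : H, θ ⟨g * h * g⁻¹, hN.conj_mem h h.2 g⟩ = θ h} : ℂ) / (Nat.card H : ℂ)) • ∑ᶠ ψ ∈ {ψ : H → ℂ | ∃ g : G, ψ = fun h : H => θ ⟨g * h * g⁻¹, hN.conj_mem h h.2 g⟩}, ψ := by
  classical
  set conjF : G → (H → ℂ) := fun g h => θ ⟨g * h * g⁻¹, hN.conj_mem h h.2 g⟩ with hconjF
  -- Step 1: the induced function on H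
  have h1 : ∀ h : H, Cfsg.indFun H θ h = (Nat.card H : ℂ)⁻¹ * ∑ x : G, conjF x h := by
    intro h
    unfold Cfsg.indFun
    congr 1
    rw [← Equiv.sum_comp (Equiv.inv G)]
    apply Finset.sum_congr rfl
    intro x _
    simp only [Equiv.inv_apply, inv_inv]
    exact extendByZero_mem H θ _ (hN.conj_mem h h.2 x)
  -- Step 2: fibers of conjF all have the size of the inertia group
  have hiff : ∀ g x : G, conjF x = conjF g ↔ ∀ h : H, conjF (x * g⁻¹) h = θ h := by
    intro g x
    constructor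
    · intro hx h
      have h' : g⁻¹ * (h : G) * g ∈ H := by
        have := hN.conj_mem h h.2 g⁻¹
        simpa using this
      have e1 := congrFun hx ⟨g⁻¹ * (h : G) * g, h'⟩
      simp only [hconjF] at e1 ⊢
      have a1 : x * g⁻¹ * (h : G) * (x * g⁻¹)⁻¹ = x * (g⁻¹ * (h : G) * g) * x⁻¹ := by group
      have a2 : g * (g⁻¹ * (h : G) * g) * g⁻¹ = (h : G) := by group
      calc θ ⟨x * g⁻¹ * (h : G) * (x * g⁻¹)⁻¹, _⟩ = θ ⟨x * (g⁻¹ * (h : G) * g) * x⁻¹, _⟩ :=
            congrArg θ (Subtype.ext a1)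
        _ = θ ⟨g * (g⁻¹ * (h : G) * g) * g⁻¹, _⟩ := e1
        _ = θ h := congrArg θ (Subtype.ext a2)
    · intro hx
      funext k
      have e1 := hx ⟨g * (k : G) * g⁻¹, hN.conj_mem k k.2 g⟩
      simp only [hconjF] at e1 ⊢
      have a1 : x * g⁻¹ * (g * (k : G) * g⁻¹) * (x * g⁻¹)⁻¹ = x * (k : G) * x⁻¹ := by group
      calc θ ⟨x * (k : G) * x⁻¹, _⟩ = θ ⟨x * g⁻¹ * (g * (k : G) * g⁻¹) * (x * g⁻¹)⁻¹, _⟩ :=
            congrArg θ (Subtype.ext a1.symm)
        _ = θ ⟨g * (k : G) * g⁻¹, _⟩ := e1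
  have hfib : ∀ g : G, (Finset.univ.filter (fun x => conjF x = conjF g)).card =
      Nat.card {g : G // ∀ h : H, conjF g h = θ h} := by
    intro g
    rw [Nat.card_eq_fintype_card, Fintype.card_subtype]
    apply Finset.card_bij (fun x _ => x * g⁻¹)
    · intro x hx
      rw [Finset.mem_filter] at hx ⊢
      exact ⟨Finset.mem_univ _, (hiff g x).mp hx.2⟩
    · intro x _ y _ hxy
      exact mul_right_cancel hxy
    · intro t ht
      rw [Finset.mem_filter] at ht
      refine ⟨t * g, ?_, by group⟩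
      rw [Finset.mem_filter]
      refine ⟨Finset.mem_univ _, (hiff g (t * g)).mpr ?_⟩
      intro h
      have : t * g * g⁻¹ = t := by group
      rw [this]
      exact ht.2 h
  -- Step 3: sum over G as a sum over the orbit
  have h3 : ∑ x : G, conjF x = (Nat.card {g : G // ∀ h : H, conjF g h = θ h}) •
      ∑ ψ ∈ Finset.univ.image conjF, ψ := by
    have := Finset.sum_comp (s := (Finset.univ : Finset G)) (fun ψ : H → ℂ => ψ) conjF
    rw [this, Finset.smul_sum]
    apply Finset.sum_congr rfl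
    intro ψ hψ
    obtain ⟨g, _, rfl⟩ := Finset.mem_image.mp hψ
    rw [hfib g]
  -- Step 4: the finsum is the sum over the image
  have h4 : ∑ᶠ ψ ∈ {ψ : H → ℂ | ∃ g : G, ψ = conjF g}, ψ = ∑ ψ ∈ Finset.univ.image conjF, ψ := by
    have hset : {ψ : H → ℂ | ∃ g : G, ψ = conjF g} = ↑(Finset.univ.image conjF) := by
      ext ψ
      simp only [Finset.coe_image, Finset.coe_univ, Set.image_univ, Set.mem_range]
      constructor
      · rintro ⟨g, rfl⟩; exact ⟨g, rfl⟩
      · rintro ⟨g, rfl⟩; exact ⟨g, rfl⟩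
    rw [hset, finsum_mem_coe_finset]
  change (fun h : H => Cfsg.indFun H θ h) =
    ((Nat.card {g : G // ∀ h : H, conjF g h = θ h} : ℂ) / (Nat.card H : ℂ)) •
      ∑ᶠ ψ ∈ {ψ : H → ℂ | ∃ g : G, ψ = conjF g}, ψ
  rw [h4]
  funext h
  rw [h1 h]
  have h3' := congrFun h3 h
  rw [Finset.sum_apply] at h3'
  rw [h3']
  simp only [Pi.smul_apply, smul_eq_mul, nsmul_eq_mul, Finset.sum_apply]
  ring

end Cfsg.Agent.S1485
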