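import Mathlib
import Cfsg.Statements.S1486
import Cfsg.Agent.Lib.Helper2.CharConj
import Cfsg.Agent.Lib.Helper26.CharBasic
import Cfsg.Agent.Lib.Helper26.TIInd

set_option autoImplicit false

namespace Cfsg.Agent.S1486

open Cfsg.Agent.Lib.Helper2 Cfsg.Agent.Lib.Helper26
open scoped ComplexConjugate

/-- Let H be a normal subgroup of the finite group G and θ, φ irreducible characters of H. If φ is a G-conjugate of θ then the functions induced from θ and φ coincide; if φ is not a G-conjugate of θ then the induced functions are orthogonal. -/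
theorem result {G : Type*} [Group G] [Fintype G] (H : Subgroup G) [hN : H.Normal] (θ φ : H → ℂ) (hθ : Cfsg.IsIrrCharacter H θ) (hφ : Cfsg.IsIrrCharacter H φ) : ((∃ g : G, φ = fun h : H => θ ⟨g * h * g⁻¹, hN.conj_mem h h.2 g⟩) → Cfsg.indFun H φ = Cfsg.indFun H θ) ∧ ((¬ ∃ g : G, φ = fun h : H => θ ⟨g * h * g⁻¹, hN.conj_mem h h.2 g⟩) → Cfsg.classInner (Cfsg.indFun H φ) (Cfsg.indFun H θ) = 0) := by
  classical
  constructor
  · rintro ⟨g, rfl⟩
    exact indFun_conj_of_normal H θ g
  · intro hnc
    have : Fintype H := Fintype.ofFinite H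
    rw [classInner_indFun_right H (Cfsg.indFun H φ) (isClassFunction_indFun H φ) θ]
    have hzero : ∀ x : G, ∑ h : H, φ ⟨x * h * x⁻¹, hN.conj_mem h h.2 x⟩ * conj (θ h) = 0 := by
      intro x
      have hirr := isIrrCharacter_conj_of_normal H hφ x
      have hne : (fun h : H => φ ⟨x * h * x⁻¹, hN.conj_mem h h.2 x⟩) ≠ θ := by
        intro heq
        apply hnc
        refine ⟨x⁻¹, ?_⟩
        funext k
        have := congrFun heq ⟨x⁻¹ * k * x⁻¹⁻¹, hN.conj_mem k k.2 x⁻¹⟩
        simp only at this
        rw [← this]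
        congr 1
        apply Subtype.ext
        simp only
        group
      have h0 := classInner_irr hirr hθ
      rw [if_neg hne] at h0
      unfold Cfsg.classInner at h0
      have hcard : (Nat.card H : ℂ)⁻¹ ≠ 0 := by
        rw [Nat.card_eq_fintype_card]
        simp
      exact (mul_eq_zero.mp h0).resolve_left hcard
    have : ∑ h : H, Cfsg.indFun H φ h * conj (θ h) = 0 := by
      calc ∑ h : H, Cfsg.indFun H φ h * conj (θ h)
          = ∑ h : H, (Nat.card H : ℂ)⁻¹ *
              ∑ x : G, φ ⟨x * h * x⁻¹, hN.conj_mem h h.2 x⟩ * conj (θ h) := by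
            apply Finset.sum_congr rfl
            intro h _
            rw [indFun_coe_of_normal H φ h, mul_assoc, Finset.sum_mul]
        _ = (Nat.card H : ℂ)⁻¹ *
              ∑ x : G, ∑ h : H, φ ⟨x * h * x⁻¹, hN.conj_mem h h.2 x⟩ * conj (θ h) := by
            rw [← Finset.mul_sum, Finset.sum_comm]
        _ = 0 := by
            rw [Finset.sum_eq_zero (fun x _ => hzero x), mul_zero]
    rw [this, mul_zero]

end Cfsg.Agent.S1486
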