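import Mathlib
import Cfsg.Statements.S1487
import Cfsg.Agent.Lib.Helper2.CharConj
import Cfsg.Agent.Lib.Helper4.RepEigen

set_option autoImplicit false

namespace Cfsg.Agent.S1487

open Cfsg.Agent.Lib.Helper2

theorem eq_of_re_eq_of_norm_le (z : ℂ) (n : ℝ) (h1 : z.re = n) (h2 : ‖z‖ ≤ n) : z = (n : ℂ) := by
  have hn : 0 ≤ n := le_trans (norm_nonneg z) h2
  have h3 : ‖z‖ ^ 2 ≤ n ^ 2 := pow_le_pow_left₀ (norm_nonneg z) h2 2
  rw [Complex.sq_norm, Complex.normSq_apply, h1] at h3
  have h4 : z.im = 0 := by nlinarith [mul_self_nonneg z.im]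
  apply Complex.ext
  · simp [h1]
  · simp [h4]

/-- Let A ≤ H be normal subgroups of the finite group G and θ an irreducible character of H. Then θ takes the value θ 1 on all of A if and only if the function induced from θ to G takes its value at 1 on all of A. -/
theorem result {G : Type*} [Group G] [Fintype G] (A H : Subgroup G) [A.Normal] [H.Normal] (hAH : A ≤ H) (θ : H → ℂ) (hθ : Cfsg.IsIrrCharacter H θ) : (∀ a : H, (a : G) ∈ A → θ a = θ 1) ↔ (∀ a : G, a ∈ A → Cfsg.indFun H θ a = Cfsg.indFun H θ 1) := by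
  classical
  have hNA : A.Normal := inferInstance
  have hNH : H.Normal := inferInstance
  have hone : ∀ x : G, (⟨x * ((1 : H) : G) * x⁻¹, hNH.conj_mem _ (1 : H).2 x⟩ : H) = 1 := by
    intro x
    apply Subtype.ext
    simp
  have hind1 : Cfsg.indFun H θ ((1 : H) : G) = (Nat.card H : ℂ)⁻¹ * ∑ _x : G, θ 1 := by
    rw [indFun_coe_of_normal H θ 1]
    congr 1
    apply Finset.sum_congr rfl
    intro x _
    rw [hone x]
  constructor
  · intro h a ha
    have haH : a ∈ H := hAH ha
    have e1 := indFun_coe_of_normal H θ ⟨a, haH⟩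
    simp only at e1
    rw [e1]
    have e2 : Cfsg.indFun H θ 1 = (Nat.card H : ℂ)⁻¹ * ∑ _x : G, θ 1 := hind1
    rw [e2]
    congr 1
    apply Finset.sum_congr rfl
    intro x _
    apply h
    exact hNA.conj_mem a ha x
  · intro h a ha
    obtain ⟨n, ρ, hρ, rfl⟩ := hθ
    have hfin : Module.finrank ℂ (Fin n → ℂ) = n := by simp
    have hnorm : ∀ k : H, ‖ρ.character k‖ ≤ (n : ℝ) := by
      intro k
      have := Cfsg.Agent.Lib.Helper4.norm_character_le ρ k
      rwa [hfin] at this
    have hchar1 : ρ.character 1 = (n : ℂ) := by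
      rw [Representation.char_one, hfin]
    have hsum : ∑ x : G, ρ.character ⟨x * (a : G) * x⁻¹, hNH.conj_mem a a.2 x⟩ =
        ∑ _x : G, ρ.character 1 := by
      have e1 := indFun_coe_of_normal H ρ.character a
      have e2 := h a ha
      rw [e1] at e2
      have e3 : Cfsg.indFun H ρ.character 1 = (Nat.card H : ℂ)⁻¹ * ∑ _x : G, ρ.character 1 :=
        hind1
      rw [e3] at e2
      have hcard : (Nat.card H : ℂ)⁻¹ ≠ 0 := by
        simp [Nat.card_pos.ne']
      exact mul_left_cancel₀ hcard e2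
    have hre : ∑ x : G, ((n : ℝ) - (ρ.character ⟨x * (a : G) * x⁻¹, hNH.conj_mem a a.2 x⟩).re) = 0 := by
      rw [Finset.sum_sub_distrib]
      have := congrArg Complex.re hsum
      rw [Complex.re_sum, Complex.re_sum] at this
      rw [this, hchar1]
      simp
    have hnonneg : ∀ x ∈ (Finset.univ : Finset G),
        0 ≤ (n : ℝ) - (ρ.character ⟨x * (a : G) * x⁻¹, hNH.conj_mem a a.2 x⟩).re := by
      intro x _
      have := hnorm ⟨x * (a : G) * x⁻¹, hNH.conj_mem a a.2 x⟩
      have := Complex.re_le_norm (ρ.character ⟨x * (a : G) * x⁻¹, hNH.conj_mem a a.2 x⟩)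
      linarith
    have hall := (Finset.sum_eq_zero_iff_of_nonneg hnonneg).mp hre 1 (Finset.mem_univ _)
    have ha1 : (⟨1 * (a : G) * 1⁻¹, hNH.conj_mem a a.2 1⟩ : H) = a := by
      apply Subtype.ext; simp
    rw [ha1] at hall
    rw [hchar1]
    apply eq_of_re_eq_of_norm_le _ _ _ (hnorm a)
    linarith

end Cfsg.Agent.S1487
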