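import Mathlib
import Cfsg.Statements.S1488
import Cfsg.Agent.Lib.Helper2.CharConj

set_option autoImplicit false

namespace Cfsg.Agent.S1488

open Cfsg.Agent.Lib.Helper2

/-- Let A be a normal subgroup of the finite group G contained in the subgroup H, let θ be a function on H and θ₁ a function on the image of H in G ⧸ A whose composite with the projection is θ. Then the function induced from θ₁ to G ⧸ A, composed with the projection G → G ⧸ A, equals the function induced from θ to G. -/
theorem result {G : Type*} [Group G] [Fintype G] (A H : Subgroup G) [A.Normal] (hAH : A ≤ H) [Fintype (G ⧸ A)] [Fintype ↥(H.map (QuotientGroup.mk' A))] (θ : H → ℂ) (θ₁ : ↥(H.map (QuotientGroup.mk' A)) → ℂ) (hθ : ∀ x : H, θ₁ ⟨QuotientGroup.mk' A x, Subgroup.mem_map_of_mem _ x.2⟩ = θ x) (g : G) : Cfsg.indFun (H.map (QuotientGroup.mk' A)) θ₁ (QuotientGroup.mk' A g) = Cfsg.indFun H θ g := by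
  classical
  -- extension by zero is compatible with the projection
  have hext : ∀ z : G, Cfsg.extendByZero H θ z = Cfsg.extendByZero (H.map (QuotientGroup.mk' A)) θ₁ (QuotientGroup.mk' A z) := by
    intro z
    by_cases hz : z ∈ H
    · rw [extendByZero_of_mem H θ z hz,
        extendByZero_of_mem (H.map (QuotientGroup.mk' A)) θ₁ (QuotientGroup.mk' A z) (Subgroup.mem_map_of_mem _ hz)]
      exact (hθ ⟨z, hz⟩).symm
    · have hz' : QuotientGroup.mk' A z ∉ H.map (QuotientGroup.mk' A) := by
        intro hmem
        apply hz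
        obtain ⟨h, hh, hhz⟩ := Subgroup.mem_map.mp hmem
        have : h⁻¹ * z ∈ A := by
          rw [← QuotientGroup.eq]
          exact hhz
        have := H.mul_mem hh (hAH this)
        simpa using this
      rw [extendByZero_of_not_mem H θ z hz, extendByZero_of_not_mem (H.map (QuotientGroup.mk' A)) θ₁ (QuotientGroup.mk' A z) hz']
  -- cardinalities
  have hcard : (Nat.card H : ℂ) = (Nat.card A : ℂ) * (Nat.card ↥(H.map (QuotientGroup.mk' A)) : ℂ) := by
    have h1 : A.relIndex H = Nat.card ↥(H.map (QuotientGroup.mk' A)) := by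
      have := Subgroup.relIndex_ker (K := H) (QuotientGroup.mk' A)
      rwa [QuotientGroup.ker_mk'] at this
    have h2 : (A.subgroupOf H).index * Nat.card (A.subgroupOf H) = Nat.card H :=
      Subgroup.index_mul_card _
    have h3 : Nat.card (A.subgroupOf H) = Nat.card A :=
      Nat.card_congr (Subgroup.subgroupOfEquivOfLe hAH).toEquiv
    rw [h3] at h2
    have h4 : A.relIndex H = (A.subgroupOf H).index := rfl
    rw [← h2, ← h4, h1]
    push_cast
    ring
  -- fibers of the projection
  have hfib : ∀ F : G ⧸ A → ℂ, ∑ x : G, F (QuotientGroup.mk' A x) = (Nat.card A : ℂ) * ∑ y : G ⧸ A, F y := by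
    intro F
    rw [Finset.sum_comp F (QuotientGroup.mk' A), Finset.mul_sum]
    have himg : Finset.univ.image (QuotientGroup.mk' A) = Finset.univ := by
      apply Finset.eq_univ_of_forall
      intro y
      obtain ⟨x, rfl⟩ := QuotientGroup.mk'_surjective A y
      exact Finset.mem_image_of_mem _ (Finset.mem_univ x)
    rw [himg]
    apply Finset.sum_congr rfl
    intro y _
    have hc : (Finset.univ.filter (fun x : G => QuotientGroup.mk' A x = y)).card = Nat.card A := by
      have := QuotientGroup.card_preimage_mk A ({y} : Set (G ⧸ A))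
      rw [Nat.card_eq_fintype_card (α := ({y} : Set (G ⧸ A)))] at this
      simp only [Fintype.card_unique, mul_one] at this
      rw [← this, Nat.card_eq_fintype_card, ← Set.toFinset_card]
      congr 1
      ext x
      simp only [Finset.mem_filter, Finset.mem_univ, true_and, Set.mem_toFinset, Set.mem_preimage,
        Set.mem_singleton_iff]
      rfl
    rw [hc, nsmul_eq_mul]
  unfold Cfsg.indFun
  simp_rw [hext]
  have key : ∑ x : G, Cfsg.extendByZero (H.map (QuotientGroup.mk' A)) θ₁ (QuotientGroup.mk' A (x⁻¹ * g * x)) =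
      (Nat.card A : ℂ) * ∑ y : G ⧸ A, Cfsg.extendByZero (H.map (QuotientGroup.mk' A)) θ₁ (y⁻¹ * QuotientGroup.mk' A g * y) := by
    rw [← hfib (fun y => Cfsg.extendByZero (H.map (QuotientGroup.mk' A)) θ₁ (y⁻¹ * QuotientGroup.mk' A g * y))]
    apply Finset.sum_congr rfl
    intro x _
    simp only [map_mul, map_inv]
  rw [key, hcard]
  have hA : (Nat.card A : ℂ) ≠ 0 := by
    simp [Nat.card_pos.ne']
  by_cases hH : (Nat.card ↥(H.map (QuotientGroup.mk' A)) : ℂ) = 0
  · rw [hH]; simp
  · field_simp

end Cfsg.Agent.S1488
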