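import Cfsg.Statements.S1489
import Cfsg.Agent.Lib.Helper7.CliffordCorr

set_option autoImplicit false
open Cfsg
open scoped ComplexConjugate

namespace Cfsg.Agent.S1489

open Cfsg.Agent.Lib.Helper26 Cfsg.Agent.Lib.Helper2 Cfsg.Agent.Lib.Helper7

/-- Let H be a normal subgroup of the finite group G, θ an irreducible character of H, and T the inertia group of θ (the elements g with θ(g h g⁻¹) = θ(h) for all h ∈ H). If ψ and ψ' are irreducible characters of T having nonzero inner product with the function induced from θ to T, then the function induced from ψ to G is an irreducible character of G, and it equals the one induced from ψ' only if ψ = ψ'. -/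
theorem result {G : Type*} [Group G] [Fintype G] (H T : Subgroup G) [hN : H.Normal] [Fintype T] (θ : H → ℂ) (hθ : Cfsg.IsIrrCharacter H θ) (hT : ∀ g : G, g ∈ T ↔ ∀ h : H, θ ⟨g * h * g⁻¹, hN.conj_mem h h.2 g⟩ = θ h) (hHT : H ≤ T) (ψ ψ' : T → ℂ) (hψ : Cfsg.IsIrrCharacter T ψ) (hψ' : Cfsg.IsIrrCharacter T ψ') (hc : Cfsg.classInner (Cfsg.indFun (H.subgroupOf T) (fun x => θ ⟨(x : T), Subgroup.mem_subgroupOf.mp x.2⟩)) ψ ≠ 0) (hc' : Cfsg.classInner (Cfsg.indFun (H.subgroupOf T) (fun x => θ ⟨(x : T), Subgroup.mem_subgroupOf.mp x.2⟩)) ψ' ≠ 0) : Cfsg.IsIrrCharacter G (Cfsg.indFun T ψ) ∧ (Cfsg.indFun T ψ = Cfsg.indFun T ψ' → ψ = ψ') := by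
  classical
  have : Fintype H := Fintype.ofFinite _
  have : Fintype (IrrCharacter G) := Fintype.ofFinite _
  -- convert the hypotheses
  have conv : ∀ ξ : T → ℂ, IsIrrCharacter T ξ →
      classInner (indFun (H.subgroupOf T)
        (fun x => θ ⟨(x : T), Subgroup.mem_subgroupOf.mp x.2⟩)) ξ ≠ 0 →
      classInner (fun n : H => ξ ⟨(n : G), hHT n.2⟩) θ ≠ 0 := by
    intro ξ hξ h
    have hξcl := isClassFunction_of_isIrrCharacter hξ
    rw [classInner_indFun_left' (H.subgroupOf T) _ ξ hξcl] at h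
    have h2 := classInner_subgroupOf H T hHT θ ξ
    have h3 : classInner (fun x : H.subgroupOf T => θ ⟨((x : T) : G), Subgroup.mem_subgroupOf.mp x.2⟩)
        (ξ ∘ (H.subgroupOf T).subtype) = classInner θ (fun n : H => ξ ⟨(n : G), hHT n.2⟩) := h2
    rw [h3] at h
    intro h0
    apply h
    rw [← classInner_conj_symm, h0, map_zero]
  have hcon := conv ψ hψ hc
  have hcon' := conv ψ' hψ' hc'
  have hψc := isCharacter_of_isIrrCharacter hψ
  -- Ind ψ has a constituent
  have hIc : IsCharacter G (indFun T ψ) := isCharacter_indFun T hψc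
  have hI1 : indFun T ψ 1 ≠ 0 := by
    obtain ⟨d, hd, hd1⟩ := irr_degree hψ
    rw [indFun_one, hd1]
    have h1 : (Nat.card T : ℂ) ≠ 0 := Nat.cast_ne_zero.mpr Nat.card_pos.ne'
    have h2 : (Fintype.card G : ℂ) ≠ 0 := Nat.cast_ne_zero.mpr Fintype.card_ne_zero
    have h3 : (d : ℂ) ≠ 0 := Nat.cast_ne_zero.mpr hd.ne'
    exact mul_ne_zero (inv_ne_zero h1) (mul_ne_zero h2 h3)
  obtain ⟨χ, hχ⟩ := exists_constituent hIc hI1
  obtain ⟨h1, -, h3⟩ := corr_main H T hHT θ hθ hT ψ hψ hcon (χ : G → ℂ) χ.2 hχ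
  have hirr : IsIrrCharacter G (indFun T ψ) := h1 ▸ χ.2
  refine ⟨hirr, fun heq => ?_⟩
  by_contra hne
  have hne' : ψ' ≠ ψ := fun h => hne h.symm
  apply hcon'
  apply h3 ψ' hψ' hne'
  -- ⟨χ_T, ψ'⟩ ≠ 0
  have hχcl := isClassFunction_of_isIrrCharacter χ.2
  have h4 : classInner (indFun T ψ') (χ : G → ℂ) = 1 := by
    rw [← heq, ← h1, classInner_irr χ.2 χ.2, if_pos rfl]
  rw [classInner_indFun_left' T ψ' _ hχcl] at h4
  intro h0
  have h5 : classInner ((χ : G → ℂ) ∘ T.subtype) ψ' = 0 := h0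
  rw [← classInner_conj_symm, h5, map_zero] at h4
  exact zero_ne_one h4

end Cfsg.Agent.S1489
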