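import Cfsg.Statements.S1491
import Cfsg.Agent.Lib.Helper7.ExtDet
import Cfsg.Agent.S1489
import Cfsg.Agent.S1490
import Cfsg.Agent.Lib.Helper7.CliffordCorr

set_option autoImplicit false
open Cfsg

namespace Cfsg.Agent.S1491

open Cfsg.Agent.Lib.Helper26 Cfsg.Agent.Lib.Helper2 Cfsg.Agent.Lib.Helper7

/-- Let H be a normal subgroup of the finite group G and θ an irreducible character of H with inertia group T, where T/H is abelian (commutators of T lie in H) and the index of H in T is coprime to the order of H. Then the function induced from θ is the sum of a set of exactly [T:H] irreducible characters of G, each of degree [G:T] * θ(1). -/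
theorem result {G : Type*} [Group G] [Fintype G] (H T : Subgroup G) [hN : H.Normal] (θ : H → ℂ) (hθ : Cfsg.IsIrrCharacter H θ) (hT : ∀ g : G, g ∈ T ↔ ∀ h : H, θ ⟨g * h * g⁻¹, hN.conj_mem h h.2 g⟩ = θ h) (hab : ∀ x ∈ T, ∀ y ∈ T, x * y * x⁻¹ * y⁻¹ ∈ H) (hcop : Nat.Coprime (Nat.card H) (H.relIndex T)) : ∃ C : Finset (G → ℂ), (∀ χ ∈ C, Cfsg.IsIrrCharacter G χ) ∧ C.card = H.relIndex T ∧ Cfsg.indFun H θ = ∑ χ ∈ C, χ ∧ ∀ χ ∈ C, χ 1 = (T.index : ℂ) * θ 1 := by
  classical
  haveI : Fintype H := Fintype.ofFinite _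
  haveI : Fintype T := Fintype.ofFinite _
  have hθc := isCharacter_of_isIrrCharacter hθ
  have hθcf := isClassFunction_of_isCharacter hθc
  have hHT : H ≤ T := by
    intro h hh
    exact (hT h).mpr ((Cfsg.Agent.S0169.mem_inertia H θ h).mp
      (Cfsg.Agent.S0169.le_inertia H θ hθcf hh))
  obtain ⟨e, C, he, hC, hcard, hind, hdeg⟩ := Cfsg.Agent.S1490.result H T θ hθ hT hab
  -- extension to T
  haveI hH'n : (H.subgroupOf T).Normal := Subgroup.normal_subgroupOf
  let eH : H.subgroupOf T ≃* H := Subgroup.subgroupOfEquivOfLe hHT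
  let θ' : H.subgroupOf T → ℂ := fun x => θ ⟨(x : T), Subgroup.mem_subgroupOf.mp x.2⟩
  have hθ' : IsIrrCharacter (H.subgroupOf T) θ' := isIrrCharacter_comp_mulEquiv hθ eH
  have hθ'c := isCharacter_of_isIrrCharacter hθ'
  have hinv' : ∀ (t : T) (x : H.subgroupOf T),
      θ' ⟨t * x * t⁻¹, hH'n.conj_mem (x : T) x.2 t⟩ = θ' x := by
    intro t x
    exact (hT t).mp t.2 (eH x)
  have hsolvT : Group.IsSolvable (T ⧸ H.subgroupOf T) := by
    apply isSolvable_of_comm
    intro a b
    induction a using QuotientGroup.induction_on with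
    | H x =>
      induction b using QuotientGroup.induction_on with
      | H y =>
        rw [← QuotientGroup.mk_mul, ← QuotientGroup.mk_mul, QuotientGroup.eq]
        show (((x * y)⁻¹ * (y * x) : T) : G) ∈ H
        have := hab (y : G)⁻¹ (T.inv_mem y.2) (x : G)⁻¹ (T.inv_mem x.2)
        simp only [inv_inv] at this
        simpa [mul_assoc] using this
  obtain ⟨d, hdpos, hd1⟩ := irr_degree hθ
  have hd' : θ' 1 = d := by
    show θ ⟨((1 : H.subgroupOf T) : T), _⟩ = d
    rw [← hd1]; congr 1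
  have hcardH' : Nat.card (H.subgroupOf T) = Nat.card H := Nat.card_congr eH.toEquiv
  have hcop' : Nat.Coprime (H.subgroupOf T).index (detOrder θ' * d) := by
    have hc : Nat.Coprime (H.relIndex T) (Nat.card H) := hcop.symm
    apply Nat.Coprime.mul_right
    · have := detOrder_dvd_card hθ'c
      rw [hcardH'] at this
      exact Nat.Coprime.coprime_dvd_right this hc
    · exact Nat.Coprime.coprime_dvd_right (irr_degree_dvd_card hθ d hd1) hc
  obtain ⟨ψ, hψ, hψe, -⟩ := ext_coprime_solvable (H.subgroupOf T) hsolvT θ' hθ' hinv' d hd' hcop'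
  have hψc := isCharacter_of_isIrrCharacter hψ
  have hc : classInner (indFun (H.subgroupOf T) θ') ψ ≠ 0 := by
    obtain ⟨m, hm1, hm2⟩ := Cfsg.Agent.S0900.ind_coeff (H.subgroupOf T) θ' hθ'c ψ hψc
    have : (fun n : H.subgroupOf T => ψ n) = θ' := funext hψe
    rw [this, classInner_irr hθ' hθ', if_pos rfl] at hm2
    rw [hm1, ← hm2]; exact one_ne_zero
  obtain ⟨hX, -⟩ := Cfsg.Agent.S1489.result H T θ hθ hT hHT ψ ψ hψ hψ hc hc
  have hXc := isCharacter_of_isIrrCharacter hX
  have hψH : (fun n : H => ψ ⟨(n : G), hHT n.2⟩) = θ := by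
    funext n
    have hmem : (⟨(n : G), hHT n.2⟩ : T) ∈ H.subgroupOf T := n.2
    exact hψe ⟨_, hmem⟩
  have hconψ : classInner (fun n : H => ψ ⟨(n : G), hHT n.2⟩) θ ≠ 0 := by
    rw [hψH, classInner_irr hθ hθ, if_pos rfl]; exact one_ne_zero
  have hXX : classInner (indFun T ψ) (indFun T ψ) ≠ 0 := by
    rw [classInner_irr hX hX, if_pos rfl]; exact one_ne_zero
  obtain ⟨-, hres, -⟩ := corr_main H T hHT θ hθ hT ψ hψ hconψ (indFun T ψ) hX hXX
  obtain ⟨m, hm1, hm2⟩ := Cfsg.Agent.S0900.ind_coeff H θ hθc (indFun T ψ) hXc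
  have hm : (m : ℂ) = 1 := by
    rw [← hm2, hres, hψH, classInner_irr hθ hθ, if_pos rfl]
  have h2 : classInner (indFun H θ) (indFun T ψ) =
      (e : ℂ) * (if indFun T ψ ∈ C then 1 else 0) := by
    rw [hind, classInner_smul_left, classInner_sum_left]
    congr 1
    rw [Finset.sum_congr rfl (fun χ hχ => classInner_irr (hC χ hχ) hX)]
    rw [Finset.sum_ite_eq' C (indFun T ψ) (fun _ => (1 : ℂ))]
  rw [hm1, hm] at h2
  have he1 : e = 1 := by
    by_cases hmem : indFun T ψ ∈ C
    · rw [if_pos hmem, mul_one] at h2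
      exact_mod_cast h2.symm
    · rw [if_neg hmem, mul_zero] at h2
      exact absurd h2 one_ne_zero
  subst he1
  refine ⟨C, hC, ?_, ?_, ?_⟩
  · have h3 : (H.subgroupOf T).index * Nat.card (H.subgroupOf T) = Nat.card T :=
      Subgroup.index_mul_card _
    rw [hcardH'] at h3
    have h4 : C.card * Nat.card H = H.relIndex T * Nat.card H := by
      rw [show H.relIndex T = (H.subgroupOf T).index from rfl, h3, ← hcard]; ring
    exact Nat.eq_of_mul_eq_mul_right Nat.card_pos h4
  · rw [hind]; simp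
  · intro χ hχ
    rw [hdeg χ hχ]; simp

end Cfsg.Agent.S1491
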