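import Mathlib
import Cfsg.Statements.S1494
import Cfsg.Agent.Lib.Helper4.RepEigen

set_option autoImplicit false
open Cfsg

namespace Cfsg.Agent.S1494

open Cfsg.Agent.Lib.Helper4

section General

variable {W : Type*} [AddCommGroup W] [Module ℂ W] [FiniteDimensional ℂ W]

theorem iSup_eigenspace_of_pow_eq_one (f : Module.End ℂ W) (n : ℕ) (hn : n ≠ 0) (hf : f ^ n = 1) :
    ⨆ μ : ℂ, f.eigenspace μ = ⊤ := by
  have hss : f.IsSemisimple := by
    apply Module.End.isSemisimple_of_squarefree_aeval_eq_zero (p := Polynomial.X ^ n - 1)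
    · exact (Polynomial.X_pow_sub_one_separable_iff.mpr (by exact_mod_cast hn)).squarefree
    · simp [hf]
  exact hss.iSup_eigenspace_eq_top

theorem isIntegral_trace_of_pow_eq_one (f : Module.End ℂ W) (n : ℕ) (hn : n ≠ 0)
    (hf : f ^ n = 1) : IsIntegral ℤ (LinearMap.trace ℂ W f) := by
  have h1 := trace_eq_sum_of_eigen f f (iSup_eigenspace_of_pow_eq_one f n hn hf) (fun μ => μ)
    (fun μ v hv => Module.End.mem_eigenspace_iff.mp hv)
  rw [h1]
  refine IsIntegral.sum _ fun μ hμ => ?_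
  refine IsIntegral.mul ?_ (isIntegral_natCast _)
  have hμ' : f.eigenspace μ ≠ ⊥ := by simpa using hμ
  obtain ⟨v, hv, hv0⟩ := (Submodule.ne_bot_iff _).mp hμ'
  have hev : Module.End.HasEigenvector f μ v := ⟨hv, hv0⟩
  have h2 := hev.pow_apply n
  rw [hf, Module.End.one_apply] at h2
  have h3 : μ ^ n = 1 := by
    have h4 : (μ ^ n - 1) • v = 0 := by rw [sub_smul, one_smul, ← h2, sub_self]
    rcases smul_eq_zero.mp h4 with h | h
    · exact sub_eq_zero.mp h
    · exact absurd h hv0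
  exact IsIntegral.of_pow (Nat.pos_of_ne_zero hn) (by rw [h3]; exact isIntegral_one)

end General

theorem char_case {G : Type*} [Group G] [Finite G] {V : Type*} [AddCommGroup V] [Module ℂ V]
    [FiniteDimensional ℂ V] (ρ : Representation ℂ G V) (p : ℕ) (hp : p.Prime) (x y : G)
    (hx : orderOf x = p) (hxy : x * y = y * x) :
    ∃ ω : ℂ, IsIntegral ℤ ω ∧ ρ.character (x * y) - ρ.character y =
      (1 - Complex.exp (2 * Real.pi * Complex.I / p)) * ω := by
  classical
  have hεprim : IsPrimitiveRoot (Complex.exp (2 * Real.pi * Complex.I / p)) p :=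
    Complex.isPrimitiveRoot_exp p hp.ne_zero
  have hpne : NeZero p := ⟨hp.ne_zero⟩
  have hsup := rho_iSup_eigenspace ρ x
  have hds := DirectSum.isInternal_submodule_of_iSupIndep_of_iSup_eq_top
    (Module.End.eigenspaces_iSupIndep (ρ x)) hsup
  have hcomm : ∀ v : V, ρ x (ρ y v) = ρ y (ρ x v) := by
    intro v
    have h1 : ρ x * ρ y = ρ y * ρ x := by rw [← map_mul, ← map_mul, hxy]
    have h2 := congrArg (fun f : Module.End ℂ V => f v) h1
    simpa using h2
  have hmapsY : ∀ μ, Set.MapsTo (ρ y) (Module.End.eigenspace (ρ x) μ) (Module.End.eigenspace (ρ x) μ) := by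
    intro μ v hv
    rw [SetLike.mem_coe, Module.End.mem_eigenspace_iff] at hv ⊢
    rw [hcomm, hv, map_smul]
  have hmapsXY : ∀ μ, Set.MapsTo (ρ (x * y)) (Module.End.eigenspace (ρ x) μ) (Module.End.eigenspace (ρ x) μ) := by
    intro μ v hv
    have h1 := hmapsY μ hv
    rw [SetLike.mem_coe] at h1 ⊢
    rw [map_mul, Module.End.mul_apply, Module.End.mem_eigenspace_iff.mp h1]
    exact Submodule.smul_mem _ _ h1
  have trY := LinearMap.trace_eq_sum_trace_restrict' hds (finite_eigen (ρ x)) hmapsY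
  have trXY := LinearMap.trace_eq_sum_trace_restrict' hds (finite_eigen (ρ x)) hmapsXY
  have hrestr : ∀ μ, (ρ (x * y)).restrict (hmapsXY μ) = μ • (ρ y).restrict (hmapsY μ) := by
    intro μ
    ext ⟨v, hv⟩
    show ρ (x * y) v = μ • ρ y v
    rw [map_mul, Module.End.mul_apply]
    exact Module.End.mem_eigenspace_iff.mp (hmapsY μ hv)
  have hint : ∀ μ, IsIntegral ℤ
      (LinearMap.trace ℂ (Module.End.eigenspace (ρ x) μ) ((ρ y).restrict (hmapsY μ))) := by
    intro μ
    apply isIntegral_trace_of_pow_eq_one _ (orderOf y) (orderOf_pos y).ne'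
    have h1 := Module.End.pow_restrict (f' := ρ y) (orderOf y)
      (fun v hv => hmapsY μ hv)
    have h2 : (ρ y).restrict (hmapsY μ) ^ orderOf y =
        (ρ y).restrict (fun v hv => hmapsY μ hv) ^ orderOf y := rfl
    rw [h2, h1]
    ext ⟨v, hv⟩
    simp [rho_pow_orderOf]
  -- coefficients
  have hc : ∀ μ : ℂ, ∃ c : ℂ, μ ∈ (finite_eigen (ρ x)).toFinset →
      (IsIntegral ℤ c ∧ μ - 1 = (1 - Complex.exp (2 * Real.pi * Complex.I / p)) * c) := by
    intro μ
    by_cases hμ : μ ∈ (finite_eigen (ρ x)).toFinset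
    · have hμ' : Module.End.eigenspace (ρ x) μ ≠ ⊥ := by simpa using hμ
      have hpow : μ ^ p = 1 := by
        have := eigenvalue_pow_orderOf ρ x μ hμ'
        rwa [hx] at this
      obtain ⟨i, -, hi⟩ := hεprim.eq_pow_of_pow_eq_one hpow
      refine ⟨-(∑ j ∈ Finset.range i, Complex.exp (2 * Real.pi * Complex.I / p) ^ j), fun _ => ⟨?_, ?_⟩⟩
      · apply IsIntegral.neg
        refine IsIntegral.sum _ fun j _ => ?_
        apply IsIntegral.pow
        exact IsIntegral.of_pow hp.pos (by rw [hεprim.pow_eq_one]; exact isIntegral_one)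
      · rw [← hi, ← geom_sum_mul]
        ring
    · exact ⟨0, fun h => absurd h hμ⟩
  choose c hc using hc
  refine ⟨∑ μ ∈ (finite_eigen (ρ x)).toFinset,
    c μ * LinearMap.trace ℂ (Module.End.eigenspace (ρ x) μ) ((ρ y).restrict (hmapsY μ)), ?_, ?_⟩
  · refine IsIntegral.sum _ fun μ hμ => ?_
    exact IsIntegral.mul (hc μ hμ).1 (hint μ)
  · have e1 : ρ.character (x * y) = LinearMap.trace ℂ V (ρ (x * y)) := rfl
    have e2 : ρ.character y = LinearMap.trace ℂ V (ρ y) := rfl
    rw [e1, e2, trXY, trY, ← Finset.sum_sub_distrib, Finset.mul_sum]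
    refine Finset.sum_congr rfl fun μ hμ => ?_
    rw [hrestr μ, map_smul, smul_eq_mul, ← mul_assoc, ← (hc μ hμ).2]
    ring

/-- Let χ be a generalized character of the finite group G, p a prime, x an element of order p and y an element commuting with x. Then χ(x * y) − χ(y) = (1 − ε) * ω for some algebraic integer ω, where ε = exp(2πi/p). -/
theorem result {G : Type*} [Group G] [Finite G] (χ : G → ℂ) (hχ : Cfsg.IsGeneralizedCharacter G χ) (p : ℕ) (hp : p.Prime) (x y : G) (hx : orderOf x = p) (hxy : x * y = y * x) : ∃ ω : ℂ, IsIntegral ℤ ω ∧ χ (x * y) - χ y = (1 - Complex.exp (2 * Real.pi * Complex.I / p)) * ω := by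
  obtain ⟨χ₁, χ₂, ⟨n₁, ρ₁, rfl⟩, ⟨n₂, ρ₂, rfl⟩, rfl⟩ := hχ
  obtain ⟨ω₁, hω₁, e₁⟩ := char_case ρ₁ p hp x y hx hxy
  obtain ⟨ω₂, hω₂, e₂⟩ := char_case ρ₂ p hp x y hx hxy
  refine ⟨ω₁ - ω₂, IsIntegral.sub hω₁ hω₂, ?_⟩
  simp only [Pi.sub_apply]
  rw [mul_sub, ← e₁, ← e₂]
  ring

end Cfsg.Agent.S1494
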