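import Mathlib
import Cfsg.Statements.S1495

set_option autoImplicit false

namespace Cfsg.Agent.S1495

open Finset in
/-- `1 - ε` is not a unit among the algebraic integers, for `ε` a primitive `p`-th root of unity, `p` prime. -/
theorem not_unit_one_sub {p : ℕ} (hp : p.Prime) {ε : ℂ} (hprim : IsPrimitiveRoot ε p) (δ : ℂ)
    (hδ : IsIntegral ℤ δ) (h : (1 - ε) * δ = 1) : False := by
  have hεint : IsIntegral ℤ ε := hprim.isIntegral hp.pos
  obtain ⟨m, rfl⟩ : ∃ m, p = m + 1 := ⟨p - 1, by have := hp.pos; omega⟩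
  have hprod := hprim.prod_one_sub_pow_eq_order
  have hεp : ε ^ (m + 1) = 1 := hprim.pow_eq_one
  have key : ∀ k, ∃ v : ℂ, k ∈ range m → (IsIntegral ℤ v ∧ (1 - ε ^ (k + 1)) * v = 1) := by
    intro k
    by_cases hk : k ∈ range m
    · have hklt : k + 1 < m + 1 := by rw [mem_range] at hk; omega
      have hcop : Nat.Coprime (k + 1) (m + 1) :=
        (Nat.coprime_of_lt_prime (Nat.succ_ne_zero k) hklt hp).symm
      obtain ⟨j, -, hj⟩ := Nat.exists_mul_mod_eq_one_of_coprime hcop hp.one_lt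
      have hpow : (ε ^ (k + 1)) ^ j = ε := by
        rw [← pow_mul, ← Nat.div_add_mod ((k + 1) * j) (m + 1), hj, pow_add, pow_mul, hεp,
          one_pow, one_mul, pow_one]
      have hgeom := geom_sum_mul (ε ^ (k + 1)) j
      rw [hpow] at hgeom
      refine ⟨(∑ i ∈ range j, (ε ^ (k + 1)) ^ i) * δ, fun _ => ⟨?_, ?_⟩⟩
      · refine IsIntegral.mul (IsIntegral.sum _ fun i _ => ?_) hδ
        exact (hεint.pow _).pow _
      · calc (1 - ε ^ (k + 1)) * ((∑ i ∈ range j, (ε ^ (k + 1)) ^ i) * δ)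
            = -((∑ i ∈ range j, (ε ^ (k + 1)) ^ i) * (ε ^ (k + 1) - 1)) * δ := by ring
          _ = (1 - ε) * δ := by rw [hgeom]; ring
          _ = 1 := h
    · exact ⟨0, fun h => absurd h hk⟩
  choose v hv using key
  have hV : IsIntegral ℤ (∏ k ∈ range m, v k) := IsIntegral.prod _ fun k hk => (hv k hk).1
  have hone : ((m : ℂ) + 1) * ∏ k ∈ range m, v k = 1 := by
    rw [← hprod, ← prod_mul_distrib]
    exact prod_eq_one fun k hk => (hv k hk).2
  have hinv : (∏ k ∈ range m, v k) = algebraMap ℚ ℂ (((m : ℚ) + 1)⁻¹) := by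
    have hne : ((m : ℂ) + 1) ≠ 0 := by exact_mod_cast Nat.succ_ne_zero m
    rw [eq_comm, map_inv₀, inv_eq_iff_eq_inv, ← one_div, eq_div_iff (by
      intro h0
      rw [h0, mul_zero] at hone
      exact zero_ne_one hone)]
    simpa using hone
  rw [hinv, isIntegral_algebraMap_iff (algebraMap ℚ ℂ).injective,
    IsIntegrallyClosed.isIntegral_iff] at hV
  obtain ⟨y, hy⟩ := hV
  have hy' : (y : ℚ) * ((m : ℚ) + 1) = 1 := by
    have hne : ((m : ℚ) + 1) ≠ 0 := by exact_mod_cast Nat.succ_ne_zero m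
    rw [show (algebraMap ℤ ℚ y) = (y : ℚ) from rfl] at hy
    rw [hy, inv_mul_cancel₀ hne]
  have hy'' : y * ((m : ℤ) + 1) = 1 := by exact_mod_cast hy'
  have hdvd : ((m : ℤ) + 1) ∣ 1 := ⟨y, by rw [mul_comm]; exact hy''.symm⟩
  have hle : (m : ℤ) + 1 ≤ 1 := Int.le_of_dvd one_pos hdvd
  have : m + 1 ≥ 2 := hp.two_le
  omega

/-- Let p be a prime, ε = exp(2πi/p), and n an integer such that n = (1 − ε) * ω for some algebraic integer ω. Then p divides n. -/
theorem result (p : ℕ) (hp : p.Prime) (n : ℤ) (ω : ℂ) (hω : IsIntegral ℤ ω) (h : (n : ℂ) = (1 - Complex.exp (2 * Real.pi * Complex.I / p)) * ω) : (p : ℤ) ∣ n := by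
  set ε := Complex.exp (2 * Real.pi * Complex.I / p) with hε
  have hprim : IsPrimitiveRoot ε p := Complex.isPrimitiveRoot_exp p hp.ne_zero
  have hεint : IsIntegral ℤ ε := hprim.isIntegral hp.pos
  by_contra hdvd
  have hcop : IsCoprime n (p : ℤ) := by
    rw [isCoprime_comm]
    exact (Nat.prime_iff_prime_int.mp hp).coprime_iff_not_dvd.mpr hdvd
  obtain ⟨s, t, hst⟩ := hcop
  -- p = (1 - ε) * β with β integral
  obtain ⟨m, hm⟩ : ∃ m, p = m + 2 := ⟨p - 2, by have := hp.two_le; omega⟩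
  have hprim' : IsPrimitiveRoot ε (m + 1 + 1) := by rw [← hm]; exact hprim
  have hprod := hprim'.prod_one_sub_pow_eq_order
  rw [Finset.prod_range_succ'] at hprod
  set β := ∏ k ∈ Finset.range m, (1 - ε ^ (k + 1 + 1)) with hβ
  have hβint : IsIntegral ℤ β := IsIntegral.prod _ fun k _ =>
    IsIntegral.sub isIntegral_one (hεint.pow _)
  have hpβ : (p : ℂ) = (1 - ε) * β := by
    rw [hm, mul_comm]
    have h2 : ((m + 2 : ℕ) : ℂ) = ((m + 1 : ℕ) : ℂ) + 1 := by push_cast; ring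
    rw [h2, ← hprod]
    simp
  apply not_unit_one_sub hp hprim ((s : ℂ) * ω + (t : ℂ) * β)
  · exact IsIntegral.add (IsIntegral.mul isIntegral_algebraMap hω)
      (IsIntegral.mul isIntegral_algebraMap hβint)
  · have hst' : (s : ℂ) * (n : ℂ) + (t : ℂ) * (p : ℂ) = 1 := by exact_mod_cast hst
    calc (1 - ε) * ((s : ℂ) * ω + (t : ℂ) * β)
        = (s : ℂ) * ((1 - ε) * ω) + (t : ℂ) * ((1 - ε) * β) := by ring
      _ = 1 := by rw [← h, ← hpβ, hst']

end Cfsg.Agent.S1495
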