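import Mathlib
import Cfsg.Statements.S1497

set_option autoImplicit false

namespace Cfsg.Agent.S1497

/-- Let A be a nonempty subset of the finite group G not containing 1 and L a subgroup. Then A is a TI-subset whose normaliser is L if and only if the Dade hypothesis holds for A, L and the constant choice H(a) = ⊥. -/
theorem result {G : Type*} [Group G] [Finite G] (A : Set G) (hA : A.Nonempty) (h1 : (1 : G) ∉ A) (L : Subgroup G) : (Cfsg.IsTISubset A ∧ Subgroup.normalizer A = L) ↔ Cfsg.DadeHypothesis A L (fun _ => ⊥) := by
  constructor
  · rintro ⟨hTI, hN⟩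
    -- centralizers of elements of A lie in the normalizer
    have hcent : ∀ a ∈ A, ∀ c : G, c * a * c⁻¹ ∈ A → c ∈ L := by
      intro a ha c hc
      rw [← hN]
      by_contra hcN
      have := hTI c hcN a ha hc
      exact h1 (this ▸ ha)
    refine ⟨h1, ?_, ?_, ?_, ?_, ?_, ?_, ?_, ?_⟩
    · intro a ha
      apply hcent a ha a
      simpa using ha
    · intro x hx a ha
      rw [← hN] at hx
      exact (Subgroup.mem_set_normalizer_iff.mp hx a).mp ha
    · intro a ha g hg
      exact ⟨g, hcent a ha g hg, rfl⟩
    · intro a _
      exact bot_le
    · intro a _ c _ u hu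
      rw [Subgroup.mem_bot] at hu ⊢
      rw [hu]; group
    · intro a _
      exact bot_inf_eq _
    · intro a ha
      rw [bot_sup_eq]
      apply le_antisymm inf_le_right
      intro c hc
      refine Subgroup.mem_inf.mpr ⟨?_, hc⟩
      apply hcent a ha c
      have : c * a * c⁻¹ = a := by
        rw [Subgroup.mem_centralizer_iff] at hc
        have := hc a (Set.mem_singleton a)
        rw [← this, mul_inv_cancel_right]
      rwa [this]
    · intro a _ b _
      simp
  · intro hD
    have hcentL : ∀ a ∈ A, Subgroup.centralizer ({a} : Set G) ≤ L := by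
      intro a ha
      have := hD.sup_eq a ha
      rw [bot_sup_eq] at this
      rw [← this]
      exact inf_le_left
    have hfus : ∀ a ∈ A, ∀ g : G, g * a * g⁻¹ ∈ A → g ∈ L := by
      intro a ha g hg
      obtain ⟨x, hxL, hx⟩ := hD.fusion a ha g hg
      have hc : x⁻¹ * g ∈ Subgroup.centralizer ({a} : Set G) := by
        rw [Subgroup.mem_centralizer_iff]
        intro y hy
        rw [Set.mem_singleton_iff] at hy
        subst hy
        have : x⁻¹ * (g * y * g⁻¹) * x = y := by rw [← hx]; group
        calc y * (x⁻¹ * g) = (x⁻¹ * (g * y * g⁻¹) * x) * (x⁻¹ * g) := by rw [this]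
          _ = x⁻¹ * g * y := by group
      have := L.mul_mem hxL (hcentL a ha hc)
      simpa using this
    have hN : Subgroup.normalizer A = L := by
      apply le_antisymm
      · intro g hg
        obtain ⟨a, ha⟩ := hA
        exact hfus a ha g ((Subgroup.mem_set_normalizer_iff.mp hg a).mp ha)
      · intro x hx
        rw [Subgroup.mem_set_normalizer_iff]
        intro n
        constructor
        · intro hn
          exact hD.conj_mem x hx n hn
        · intro hn
          have := hD.conj_mem x⁻¹ (L.inv_mem hx) _ hn
          simpa [mul_assoc] using this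
    refine ⟨?_, hN⟩
    intro g hg x hx hgx
    exfalso
    rw [hN] at hg
    exact hg (hfus x hx g hgx)

end Cfsg.Agent.S1497
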