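import Cfsg.Statements.S1503
import Cfsg.Agent.Lib.Helper26.CharBasic
import Cfsg.Agent.Lib.Helper26.Fourier

set_option autoImplicit false
open Cfsg

namespace Cfsg.Agent.S1503

open Cfsg.Agent.Lib.Helper26
open scoped ComplexConjugate

/-- Let W₁, W₂ ≤ G with W = W₁ ⊔ W₂ and let χ an orthonormal family of irreducible characters of G up to sign, indexed by the linear characters ω of W, with χ_1 = 1, χ_ω = ω on W outside W₁ ∪ W₂, and the induction identity for (1 − φ)(1 − ψ). If θ is an irreducible character of G orthogonal to χ ω for every linear character ω of W, then θ vanishes at every element of W lying outside W₁ ∪ W₂. -/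
theorem result {G : Type*} [Group G] [Fintype G] (W₁ W₂ : Subgroup G) (hW : Cfsg.IsSelfNormalizingCyclic W₁ W₂) (χ : (↥(W₁ ⊔ W₂) →* ℂˣ) → (G → ℂ)) (hχ : Cfsg.IsCyclicTIFamily W₁ W₂ χ) (θ : G → ℂ) (hθ : Cfsg.IsIrrCharacter G θ) (horth : ∀ ω, Cfsg.classInner θ (χ ω) = 0) (w : ↥(W₁ ⊔ W₂)) (hw₁ : (w : G) ∉ W₁) (hw₂ : (w : G) ∉ W₂) : θ w = 0 := by
  classical
  let _ : Fintype ↥(W₁ ⊔ W₂) := Fintype.ofFinite _
  obtain ⟨_, _, hdisj, _, hcyc, _⟩ := hW
  have hθc : Cfsg.IsClassFunction G θ := isClassFunction_of_isIrrCharacter hθ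
  have hc : ∀ a b : ↥(W₁ ⊔ W₂), a * b = b * a := by
    intro a b
    exact (IsCyclic.commGroup (α := ↥(W₁ ⊔ W₂))).mul_comm a b
  have hd : W₁.subgroupOf (W₁ ⊔ W₂) ⊓ W₂.subgroupOf (W₁ ⊔ W₂) = ⊥ := by
    rw [eq_bot_iff]
    intro x hx
    rw [Subgroup.mem_bot]
    have hx' : (x : G) ∈ W₁ ⊓ W₂ := ⟨hx.1, hx.2⟩
    rw [hdisj, Subgroup.mem_bot] at hx'
    exact Subtype.ext hx'
  refine fourier_vanish hc (W₁.subgroupOf (W₁ ⊔ W₂)) (W₂.subgroupOf (W₁ ⊔ W₂)) hd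
    (fun v => θ v) ?_ w hw₁ hw₂
  intro φ ψ hφ₂ hψ₁
  by_cases hφ : φ = 1
  · subst hφ
    apply Finset.sum_eq_zero
    intro v _
    simp
  by_cases hψ : ψ = 1
  · subst hψ
    apply Finset.sum_eq_zero
    intro v _
    simp
  have hind := hχ.induced_eq φ ψ hφ hψ (fun v hv => hφ₂ v hv) (fun v hv => hψ₁ v hv)
  have hfr := classInner_indFun_right (W₁ ⊔ W₂) θ hθc
    (fun w => 1 - (φ w : ℂ) - (ψ w : ℂ) + (φ w : ℂ) * (ψ w : ℂ))
  have hsplit : (fun g => 1 - χ φ g - χ ψ g + χ (φ * ψ) g) = χ 1 - χ φ - χ ψ + χ (φ * ψ) := by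
    funext g
    simp [hχ.map_one]
  rw [hind, hsplit, classInner_add_right, classInner_sub_right, classInner_sub_right,
    horth, horth, horth, horth] at hfr
  have hne : (Nat.card ↥(W₁ ⊔ W₂) : ℂ) ≠ 0 := by
    have : Nat.card ↥(W₁ ⊔ W₂) ≠ 0 := Nat.card_pos.ne'
    exact_mod_cast this
  have h0 : (Nat.card ↥(W₁ ⊔ W₂) : ℂ)⁻¹ ≠ 0 := inv_ne_zero hne
  have hfr' := hfr.symm
  simp only [sub_zero, add_zero] at hfr'
  rcases mul_eq_zero.1 hfr' with h | h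
  · exact absurd h h0
  · simpa using h

end Cfsg.Agent.S1503
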