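import Cfsg.Statements.S1505
import Cfsg.Agent.Lib.Helper26.TIInd
import Cfsg.Agent.Lib.Helper26.LinCharOrtho

set_option autoImplicit false
open Cfsg

namespace Cfsg.Agent.S1505

open Cfsg.Agent.Lib.Helper26
open scoped ComplexConjugate

open Classical in
/-- Let W₁, W₂ ≤ G form a self-normalising cyclic subgroup W = W₁ ⊔ W₂. For nontrivial linear characters φ, φ' of W trivial on W₂ and ψ, ψ' trivial on W₁, put α = (1 − φ)(1 − ψ) and α' = (1 − φ')(1 − ψ'). Then the function induced from α to G has inner product 1 with the principal character, and the inner product of the functions induced from α and α' is 1 + a + b + ab where a = 1 if φ = φ' (else 0) and b = 1 if ψ = ψ' (else 0). -/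
theorem result {G : Type*} [Group G] [Fintype G] (W₁ W₂ : Subgroup G) (hW : Cfsg.IsSelfNormalizingCyclic W₁ W₂) (φ φ' ψ ψ' : ↥(W₁ ⊔ W₂) →* ℂˣ) (hφ : φ ≠ 1) (hφ' : φ' ≠ 1) (hψ : ψ ≠ 1) (hψ' : ψ' ≠ 1) (hφ₂ : ∀ w : ↥(W₁ ⊔ W₂), (w : G) ∈ W₂ → φ w = 1 ∧ φ' w = 1) (hψ₁ : ∀ w : ↥(W₁ ⊔ W₂), (w : G) ∈ W₁ → ψ w = 1 ∧ ψ' w = 1) : Cfsg.classInner (Cfsg.indFun (W₁ ⊔ W₂) (fun w => 1 - (φ w : ℂ) - (ψ w : ℂ) + (φ w : ℂ) * (ψ w : ℂ))) (fun _ => 1) = 1 ∧ Cfsg.classInner (Cfsg.indFun (W₁ ⊔ W₂) (fun w => 1 - (φ w : ℂ) - (ψ w : ℂ) + (φ w : ℂ) * (ψ w : ℂ))) (Cfsg.indFun (W₁ ⊔ W₂) (fun w => 1 - (φ' w : ℂ) - (ψ' w : ℂ) + (φ' w : ℂ) * (ψ' w : ℂ))) = 1 + (if φ = φ' then 1 else 0) + (if ψ = ψ' then 1 else 0) + (if φ = φ' then 1 else 0) * (if ψ = ψ' then 1 else 0) := by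
  have hφa : ∀ w : ↥(W₁ ⊔ W₂), (w : G) ∈ W₂ → φ w = 1 := fun w h => (hφ₂ w h).1
  have hφb : ∀ w : ↥(W₁ ⊔ W₂), (w : G) ∈ W₂ → φ' w = 1 := fun w h => (hφ₂ w h).2
  have hψa : ∀ w : ↥(W₁ ⊔ W₂), (w : G) ∈ W₁ → ψ w = 1 := fun w h => (hψ₁ w h).1
  have hψb : ∀ w : ↥(W₁ ⊔ W₂), (w : G) ∈ W₁ → ψ' w = 1 := fun w h => (hψ₁ w h).2
  have hcyc : IsCyclic ↥(W₁ ⊔ W₂) := hW.2.2.2.2.1
  have hcomm : ∀ a b : ↥(W₁ ⊔ W₂), a * b = b * a := fun a b =>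
    (IsCyclic.commGroup (α := ↥(W₁ ⊔ W₂))).mul_comm a b
  -- class function on W
  have hclass : ∀ f : ↥(W₁ ⊔ W₂) → ℂ, Cfsg.IsClassFunction ↥(W₁ ⊔ W₂) f := by
    intro f g h
    rw [hcomm h g, mul_inv_cancel_right]
  -- the TI set
  set T : Set G := {g | g ∈ W₁ ⊔ W₂ ∧ g ∉ W₁ ∧ g ∉ W₂} with hT
  have hTI : ∀ g : G, g ∉ W₁ ⊔ W₂ → ∀ t ∈ T, g * t * g⁻¹ ∈ T → t = 1 := by
    intro g hg t ht hgt
    exfalso
    exact hg (selfNormalizingCyclic_ti W₁ W₂ hW g t ht.1 ht.2.1 ht.2.2 hgt.1 hgt.2.1 hgt.2.2)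
  have hvan : ∀ (a b : ↥(W₁ ⊔ W₂) →* ℂˣ), (∀ w : ↥(W₁ ⊔ W₂), (w : G) ∈ W₂ → a w = 1) →
      (∀ w : ↥(W₁ ⊔ W₂), (w : G) ∈ W₁ → b w = 1) → ∀ x : ↥(W₁ ⊔ W₂), (x : G) ∉ T →
      (1 - ((a x : ℂˣ) : ℂ) - ((b x : ℂˣ) : ℂ) + ((a x : ℂˣ) : ℂ) * ((b x : ℂˣ) : ℂ)) = 0 := by
    intro a b ha hb x hx
    have hx' : (x : G) ∈ W₁ ∨ (x : G) ∈ W₂ := by
      by_contra hcon
      rw [not_or] at hcon
      exact hx ⟨x.2, hcon.1, hcon.2⟩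
    rcases hx' with h | h
    · rw [hb x h]; simp
    · rw [ha x h]; simp
  constructor
  · rw [← classInner_conj_symm, classInner_indFun_right (W₁ ⊔ W₂) (fun _ => 1) (fun _ _ => rfl)]
    have := classInner_one_one_sub_mul W₁ W₂ φ ψ hφ hψ hφa hψa
    unfold Cfsg.classInner at this
    rw [this, map_one]
  · rw [classInner_indFun_indFun_ti T (W₁ ⊔ W₂) hTI _ _ (hclass _) (hvan φ ψ hφa hψa)
      (hvan φ' ψ' hφb hψb) (by simp)]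
    exact classInner_one_sub_mul W₁ W₂ φ φ' ψ ψ' hφ hφ' hψ hψ' hφa hφb hψa hψb

end Cfsg.Agent.S1505
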