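import Cfsg.Statements.S1507
import Cfsg.Agent.S1506
import Cfsg.Agent.Lib.Helper26.RectCount
import Cfsg.Agent.Lib.Helper26.DualSplit

set_option autoImplicit false
open Cfsg

namespace Cfsg.Agent.S1507

open Cfsg.Agent.Lib.Helper26

open Classical in
/-- Let W₁, W₂ ≤ G form a self-normalising cyclic subgroup W = W₁ ⊔ W₂ of odd order with Nat.card W₁ < Nat.card W₂, and χ an orthonormal family of irreducible characters of G up to sign, indexed by the linear characters ω of W, with χ_1 = 1, χ_ω = ω on W outside W₁ ∪ W₂, and the induction identity for (1 − φ)(1 − ψ). Let θ be a class function of G vanishing on W outside W₁ ∪ W₂, and suppose fewer than 2 · Nat.card W₁ linear characters ω of W have ⟨θ, χ ω⟩ ≠ 0. Then one of: all ⟨θ, χ ω⟩ vanish; or there are ψ₀ and a with ⟨θ, χ ω⟩ = a when ω ψ₀⁻¹ is trivial on W₂ and 0 otherwise; or there are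 φ₀ and a with ⟨θ, χ ω⟩ = a when ω φ₀⁻¹ is trivial on W₁ and 0 otherwise. -/
theorem result {G : Type*} [Group G] [Fintype G] (W₁ W₂ : Subgroup G) (hW : Cfsg.IsSelfNormalizingCyclic W₁ W₂) (hodd : Odd (Nat.card ↥(W₁ ⊔ W₂))) (χ : (↥(W₁ ⊔ W₂) →* ℂˣ) → (G → ℂ)) (hχ : Cfsg.IsCyclicTIFamily W₁ W₂ χ) (hlt : Nat.card W₁ < Nat.card W₂) (θ : G → ℂ) (hθ : Cfsg.IsClassFunction G θ) (hθV : ∀ w : ↥(W₁ ⊔ W₂), (w : G) ∉ W₁ → (w : G) ∉ W₂ → θ w = 0) (hfew : Nat.card {ω : ↥(W₁ ⊔ W₂) →* ℂˣ // Cfsg.classInner θ (χ ω) ≠ 0} < 2 * Nat.card W₁) : (∀ ω, Cfsg.classInner θ (χ ω) = 0) ∨ (∃ (ψ₀ : ↥(W₁ ⊔ W₂) →* ℂˣ) (a : ℂ), ∀ ω, Cfsg.classInner θ (χ ω) = if (∀ w : ↥(W₁ ⊔ W₂), (w : G) ∈ W₂ → (ω * ψ₀⁻¹) w = 1) then a else 0) ∨ (∃ (φ₀ : ↥(W₁ ⊔ W₂) →* ℂˣ) (a : ℂ), ∀ ω, Cfsg.classInner θ (χ ω) = if (∀ w : ↥(W₁ ⊔ W₂), (w : G) ∈ W₁ → (ω * φ₀⁻¹) w = 1) then a else 0) := by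
  have hdisj : W₁ ⊓ W₂ = ⊥ := hW.2.2.1
  have hcomm : ∀ a ∈ W₁, ∀ b ∈ W₂, a * b = b * a := hW.2.2.2.1
  have hcyc : IsCyclic ↥(W₁ ⊔ W₂) := hW.2.2.2.2.1
  have hWcomm : ∀ x ∈ W₁ ⊔ W₂, ∀ y ∈ W₁ ⊔ W₂, x * y = y * x := by
    intro x hx y hy
    have := (IsCyclic.commGroup (α := ↥(W₁ ⊔ W₂))).mul_comm ⟨x, hx⟩ ⟨y, hy⟩
    exact congrArg Subtype.val this
  have hc₁ : ∀ a b : ↥W₁, a * b = b * a := fun a b =>
    Subtype.ext (hWcomm a (Subgroup.mem_sup_left a.2) b (Subgroup.mem_sup_left b.2))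
  have hc₂ : ∀ a b : ↥W₂, a * b = b * a := fun a b =>
    Subtype.ext (hWcomm a (Subgroup.mem_sup_right a.2) b (Subgroup.mem_sup_right b.2))
  -- parity
  have hm_odd : Odd (Nat.card W₁) :=
    Odd.of_dvd_nat hodd (Subgroup.card_dvd_of_le (le_sup_left : W₁ ≤ W₁ ⊔ W₂))
  have hn_odd : Odd (Nat.card W₂) :=
    Odd.of_dvd_nat hodd (Subgroup.card_dvd_of_le (le_sup_right : W₂ ≤ W₁ ⊔ W₂))
  have hmn : Nat.card W₁ + 2 ≤ Nat.card W₂ := by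
    obtain ⟨k, hk⟩ := hm_odd
    obtain ⟨l, hl⟩ := hn_odd
    omega
  -- the index types
  let P := {φ : ↥(W₁ ⊔ W₂) →* ℂˣ // ∀ w : ↥(W₁ ⊔ W₂), (w : G) ∈ W₂ → φ w = 1}
  let Q := {ψ : ↥(W₁ ⊔ W₂) →* ℂˣ // ∀ w : ↥(W₁ ⊔ W₂), (w : G) ∈ W₁ → ψ w = 1}
  let _ : Fintype P := Fintype.ofFinite P
  let _ : Fintype Q := Fintype.ofFinite Q
  let a : (↥(W₁ ⊔ W₂) →* ℂˣ) → ℂ := fun ω => Cfsg.classInner θ (χ ω)
  let r : P → ℂ := fun φ => a φ.1 - a 1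
  let c : Q → ℂ := fun ψ => a ψ.1
  have hkey : ∀ (φ : P) (ψ : Q), a (φ.1 * ψ.1) = r φ + c ψ := by
    intro φ ψ
    have := Cfsg.Agent.S1506.key W₁ W₂ χ hχ θ hθ hθV φ.1 ψ.1 φ.2 ψ.2
    show Cfsg.classInner θ (χ (φ.1 * ψ.1)) =
      (Cfsg.classInner θ (χ φ.1) - Cfsg.classInner θ (χ 1)) + Cfsg.classInner θ (χ ψ.1)
    rw [this]; ring
  let E : P × Q → (↥(W₁ ⊔ W₂) →* ℂˣ) := fun p => p.1.1 * p.2.1
  have hEinj : Function.Injective E := by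
    rintro ⟨φ, ψ⟩ ⟨φ', ψ'⟩ h
    obtain ⟨h1, h2⟩ := mul_eq_mul_imp W₁ W₂ φ.1 φ'.1 ψ.1 ψ'.1 φ.2 φ'.2 ψ.2 ψ'.2 h
    exact Prod.ext (Subtype.ext h1) (Subtype.ext h2)
  have hEsurj : Function.Surjective E := by
    intro ω
    obtain ⟨φ, ψ, h1, h2, h3⟩ := exists_factor W₁ W₂ hdisj hcomm ω
    exact ⟨(⟨φ, h1⟩, ⟨ψ, h2⟩), h3.symm⟩
  have hcount : Nat.card {p : P × Q // r p.1 + c p.2 ≠ 0} =
      Nat.card {ω : ↥(W₁ ⊔ W₂) →* ℂˣ // Cfsg.classInner θ (χ ω) ≠ 0} := by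
    apply Nat.card_congr
    refine (Equiv.ofBijective E ⟨hEinj, hEsurj⟩).subtypeEquiv ?_
    intro p
    show r p.1 + c p.2 ≠ 0 ↔ a (p.1.1 * p.2.1) ≠ 0
    rw [hkey]
  have hP : Nat.card W₁ ≤ Nat.card P := card_le_card_trivial_on_right W₁ W₂ hdisj hcomm hc₁
  have hQ : Nat.card W₁ + 2 ≤ Nat.card Q :=
    hmn.trans (card_le_card_trivial_on_left W₁ W₂ hdisj hcomm hc₂)
  have htri := rect_trichotomy r c (Nat.card W₁) hP hQ (by rw [hcount]; exact hfew)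
  rcases htri with h | ⟨ψ₀, a₀, h⟩ | ⟨φ₀, a₀, h⟩
  · left
    intro ω
    obtain ⟨⟨φ, ψ⟩, rfl⟩ := hEsurj ω
    show a (φ.1 * ψ.1) = 0
    rw [hkey]; exact h φ ψ
  · right; left
    refine ⟨ψ₀.1, a₀, ?_⟩
    intro ω
    obtain ⟨⟨φ, ψ⟩, rfl⟩ := hEsurj ω
    show a (φ.1 * ψ.1) = _
    rw [hkey, h φ ψ]
    have hiff : (ψ = ψ₀) ↔
        (∀ w : ↥(W₁ ⊔ W₂), (w : G) ∈ W₂ → (φ.1 * ψ.1 * ψ₀.1⁻¹) w = 1) := by
      constructor
      · intro hψ w hw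
        rw [hψ, MonoidHom.mul_apply, MonoidHom.mul_apply, MonoidHom.inv_apply, φ.2 w hw, one_mul,
          mul_inv_cancel]
      · intro hall
        apply Subtype.ext
        apply hom_ext_sup
        · intro w hw
          rw [ψ.2 w hw, ψ₀.2 w hw]
        · intro w hw
          have := hall w hw
          rw [MonoidHom.mul_apply, MonoidHom.mul_apply, MonoidHom.inv_apply, φ.2 w hw, one_mul]
            at this
          exact mul_inv_eq_one.1 this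
    by_cases hψ : ψ = ψ₀
    · rw [if_pos hψ, if_pos (hiff.1 hψ)]
    · rw [if_neg hψ, if_neg (fun hh => hψ (hiff.2 hh))]
  · right; right
    refine ⟨φ₀.1, a₀, ?_⟩
    intro ω
    obtain ⟨⟨φ, ψ⟩, rfl⟩ := hEsurj ω
    show a (φ.1 * ψ.1) = _
    rw [hkey, h φ ψ]
    have hiff : (φ = φ₀) ↔
        (∀ w : ↥(W₁ ⊔ W₂), (w : G) ∈ W₁ → (φ.1 * ψ.1 * φ₀.1⁻¹) w = 1) := by
      constructor
      · intro hφ w hw
        rw [hφ, MonoidHom.mul_apply, MonoidHom.mul_apply, MonoidHom.inv_apply, ψ.2 w hw, mul_one,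
          mul_inv_cancel]
      · intro hall
        apply Subtype.ext
        apply hom_ext_sup
        · intro w hw
          have := hall w hw
          rw [MonoidHom.mul_apply, MonoidHom.mul_apply, MonoidHom.inv_apply, ψ.2 w hw, mul_one]
            at this
          exact mul_inv_eq_one.1 this
        · intro w hw
          rw [φ.2 w hw, φ₀.2 w hw]
    by_cases hφ : φ = φ₀
    · rw [if_pos hφ, if_pos (hiff.1 hφ)]
    · rw [if_neg hφ, if_neg (fun hh => hφ (hiff.2 hh))]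

end Cfsg.Agent.S1507
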