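import Cfsg.Statements.S1508
import Cfsg.Agent.Lib.Helper4.GaloisConj
import Cfsg.Agent.Lib.Helper4.GaloisChar
import Cfsg.Agent.Lib.Helper26.CharBasic
import Cfsg.Agent.Lib.Helper26.LinChar

set_option autoImplicit false
open Cfsg

namespace Cfsg.Agent.S1508

open Cfsg
open scoped ComplexConjugate

section SI

variable {G : Type*} [Group G] [Fintype G]

/-- irreducible up to sign -/
def SI (f : G → ℂ) : Prop := IsIrrCharacter G f ∨ IsIrrCharacter G (-f)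

theorem SI.eq_or_eq_neg {f h : G → ℂ} (hf : SI f) (hh : SI h) (hne : classInner f h ≠ 0) :
    f = h ∨ f = -h := by
  classical
  rcases hf with hf | hf <;> rcases hh with hh | hh
  · left
    by_contra hcon
    rw [Cfsg.Agent.Lib.Helper26.classInner_irr hf hh, if_neg hcon] at hne
    exact hne rfl
  · right
    by_contra hcon
    have h1 : classInner f h = -classInner f (-h) := by
      rw [Cfsg.Agent.Lib.Helper26.classInner_neg_right, neg_neg]
    rw [h1, Cfsg.Agent.Lib.Helper26.classInner_irr hf hh, if_neg hcon] at hne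
    simp at hne
  · right
    by_contra hcon
    have h1 : classInner f h = -classInner (-f) h := by
      rw [Cfsg.Agent.Lib.Helper26.classInner_neg_left, neg_neg]
    have hcon' : ¬ (-f = h) := fun h2 => hcon (by rw [← h2, neg_neg])
    rw [h1, Cfsg.Agent.Lib.Helper26.classInner_irr hf hh, if_neg hcon'] at hne
    simp at hne
  · left
    by_contra hcon
    have h1 : classInner f h = classInner (-f) (-h) := by
      rw [Cfsg.Agent.Lib.Helper26.classInner_neg_left,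
        Cfsg.Agent.Lib.Helper26.classInner_neg_right, neg_neg]
    have hcon' : ¬ (-f = -h) := fun h2 => hcon (neg_injective h2)
    rw [h1, Cfsg.Agent.Lib.Helper26.classInner_irr hf hh, if_neg hcon'] at hne
    exact hne rfl

theorem SI.pow {f : G → ℂ} (hf : SI f) (m : ℕ) (hm : m.Coprime (Nat.card G)) :
    SI (fun g => f (g ^ m)) := by
  rcases hf with hf | hf
  · left
    exact Cfsg.Agent.Lib.Helper4.isIrrCharacter_pow f hf m hm
  · right
    exact Cfsg.Agent.Lib.Helper4.isIrrCharacter_pow (-f) hf m hm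

/-- a character value fixed by all coprime powers is an integer -/
theorem int_of_pow_fixed_rep {n : ℕ} (ρ : Representation ℂ G (Fin n → ℂ)) (g : G)
    (hfix : ∀ m : ℕ, m.Coprime (Nat.card G) → ρ.character (g ^ m) = ρ.character g) :
    ∃ z : ℤ, ρ.character g = z := by
  classical
  have hN : 0 < Nat.card G := Nat.card_pos
  set x : Cfsg.Agent.Lib.Helper4.cycK (Nat.card G) := Cfsg.Agent.Lib.Helper4.charK ρ g with hx
  have hxc : ((x : Cfsg.Agent.Lib.Helper4.cycK (Nat.card G)) : ℂ) = ρ.character g := rfl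
  have hfix' : ∀ σ : Cfsg.Agent.Lib.Helper4.cycK (Nat.card G) →ₐ[ℚ] ℂ,
      σ x = ((x : Cfsg.Agent.Lib.Helper4.cycK (Nat.card G)) : ℂ) := by
    intro σ
    obtain ⟨m, hm, hσ⟩ := Cfsg.Agent.Lib.Helper4.embedding_pow (Nat.card G) hN σ
    rw [hxc, hx, Cfsg.Agent.Lib.Helper4.embedding_charK ρ σ m hσ g]
    exact hfix m hm
  obtain ⟨q, hq⟩ := Cfsg.Agent.Lib.Helper4.rational_of_fixed (Nat.card G) hN x hfix'
  have hint : IsIntegral ℤ x := Cfsg.Agent.Lib.Helper4.charK_isIntegral ρ g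
  have hint2 : IsIntegral ℤ (algebraMap (Cfsg.Agent.Lib.Helper4.cycK (Nat.card G)) ℂ x) :=
    hint.map (IsScalarTower.toAlgHom ℤ (Cfsg.Agent.Lib.Helper4.cycK (Nat.card G)) ℂ)
  have hint3 : IsIntegral ℤ (algebraMap ℚ ℂ q) := by
    have : algebraMap (Cfsg.Agent.Lib.Helper4.cycK (Nat.card G)) ℂ x = algebraMap ℚ ℂ q := by
      show ((x : Cfsg.Agent.Lib.Helper4.cycK (Nat.card G)) : ℂ) = _
      rw [hq]
      rfl
    rwa [this] at hint2
  rw [isIntegral_algebraMap_iff (algebraMap ℚ ℂ).injective] at hint3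
  obtain ⟨z, hz⟩ := IsIntegrallyClosed.isIntegral_iff.mp hint3
  refine ⟨z, ?_⟩
  rw [← hxc, hq, ← hz]
  simp

theorem int_of_pow_fixed {f : G → ℂ} (hf : SI f) (g : G)
    (hfix : ∀ m : ℕ, m.Coprime (Nat.card G) → f (g ^ m) = f g) : ∃ z : ℤ, f g = z := by
  rcases hf with hf | hf
  · obtain ⟨n, ρ, _, rfl⟩ := hf
    exact int_of_pow_fixed_rep ρ g hfix
  · obtain ⟨n, ρ, _, hρ⟩ := hf
    have hfρ : ∀ x, f x = -ρ.character x := by
      intro x
      have := congrFun hρ x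
      simp only [Pi.neg_apply] at this
      rw [this, neg_neg]
    obtain ⟨z, hz⟩ := int_of_pow_fixed_rep ρ g (by
      intro m hm
      have := hfix m hm
      rw [hfρ, hfρ] at this
      exact neg_injective this)
    refine ⟨-z, ?_⟩
    rw [hfρ, hz]
    push_cast
    rfl

/-- induction commutes with coprime power maps -/
theorem indFun_pow (H : Subgroup G) (F : H → ℂ) (m : ℕ) (hm : m.Coprime (Nat.card G)) :
    indFun H (fun w => F (w ^ m)) = fun g => indFun H F (g ^ m) := by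
  obtain ⟨m', hm', hinv⟩ := Cfsg.Agent.Lib.Helper4.exists_inv_pow (G := G) m hm
  funext g
  unfold indFun
  congr 1
  refine Finset.sum_congr rfl fun x _ => ?_
  have h1 : x⁻¹ * g ^ m * x = (x⁻¹ * g * x) ^ m := by
    have := conj_pow (a := x⁻¹) (b := g) (i := m)
    simpa using this.symm
  rw [h1]
  set y := x⁻¹ * g * x with hy
  by_cases hyH : y ∈ H
  · rw [Cfsg.Agent.Lib.Helper26.extendByZero_apply_mem H _ y hyH,
      Cfsg.Agent.Lib.Helper26.extendByZero_apply_mem H _ (y ^ m) (H.pow_mem hyH m)]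
    rfl
  · have hyH' : y ^ m ∉ H := by
      intro h
      apply hyH
      rw [← (hinv y).2]
      exact H.pow_mem h m'
    rw [Cfsg.Agent.Lib.Helper26.extendByZero_apply_not_mem H _ y hyH,
      Cfsg.Agent.Lib.Helper26.extendByZero_apply_not_mem H _ (y ^ m) hyH']

end SI

section Main

variable {G : Type*} [Group G] [Fintype G] (W₁ W₂ : Subgroup G)
  (χ : (↥(W₁ ⊔ W₂) →* ℂˣ) → (G → ℂ))

theorem twist_eq (hχ : IsCyclicTIFamily W₁ W₂ χ) (m : ℕ) (hm : m.Coprime (Nat.card G))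
    (hinj : ∀ ω ω' : ↥(W₁ ⊔ W₂) →* ℂˣ, ω ^ m = ω' ^ m → ω = ω')
    (a b : ↥(W₁ ⊔ W₂) →* ℂˣ)
    (E1 : (fun g => χ a (g ^ m)) + (fun g => χ b (g ^ m)) - (fun g => χ (a * b) (g ^ m)) =
      χ (a ^ m) + χ (b ^ m) - χ ((a * b) ^ m))
    (E2 : (fun g => χ a (g ^ m)) + (fun g => χ b⁻¹ (g ^ m)) - (fun g => χ (a * b⁻¹) (g ^ m)) =
      χ (a ^ m) + χ (b⁻¹ ^ m) - χ ((a * b⁻¹) ^ m))
    (h1 : a ≠ b) (h2 : a ≠ a * b) (h3 : a ≠ b⁻¹) (h4 : a ≠ a * b⁻¹) (h5 : b ≠ b⁻¹)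
    (h6 : b ≠ a * b⁻¹) (h7 : a * b ≠ b⁻¹) (h8 : a * b ≠ a * b⁻¹) :
    (fun g => χ a (g ^ m)) = χ (a ^ m) := by
  classical
  set α : G → ℂ := fun g => χ a (g ^ m) with hα
  have hSI : ∀ ω, SI (χ ω) := fun ω => hχ.irr_or_neg ω
  have hαSI : SI α := (hSI a).pow m hm
  have hαα : classInner α α = 1 := Cfsg.Agent.Lib.Helper26.classInner_self_of_irr_or_neg hαSI
  have horth : ∀ ω ω' : ↥(W₁ ⊔ W₂) →* ℂˣ, ω ≠ ω' →
      classInner (fun g => χ ω (g ^ m)) (fun g => χ ω' (g ^ m)) = 0 := by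
    intro ω ω' hne
    rw [Cfsg.Agent.Lib.Helper4.classInner_pow_pow _ _ m hm, hχ.orthonormal, if_neg hne]
  -- the coefficient function
  set c : (↥(W₁ ⊔ W₂) →* ℂˣ) → ℂ := fun ω => classInner (χ ω) α with hc
  have F2 : ∀ ω ω', c ω ≠ 0 → c ω' ≠ 0 → ω = ω' := by
    intro ω ω' hω hω'
    by_contra hne
    have h0 : classInner (χ ω) (χ ω') = 0 := by rw [hχ.orthonormal, if_neg hne]
    rcases (hSI ω).eq_or_eq_neg hαSI hω with e1 | e1 <;>
      rcases (hSI ω').eq_or_eq_neg hαSI hω' with e2 | e2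
    · rw [e1, e2, hαα] at h0; exact one_ne_zero h0
    · rw [e1, e2, Cfsg.Agent.Lib.Helper26.classInner_neg_right, hαα] at h0
      simp at h0
    · rw [e1, e2, Cfsg.Agent.Lib.Helper26.classInner_neg_left, hαα] at h0
      simp at h0
    · rw [e1, e2, Cfsg.Agent.Lib.Helper26.classInner_neg_left,
        Cfsg.Agent.Lib.Helper26.classInner_neg_right, hαα] at h0
      simp at h0
  have F3 : ∀ ω, c ω = 1 → χ ω = α := by
    intro ω hω
    have hne : c ω ≠ 0 := by rw [hω]; exact one_ne_zero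
    rcases (hSI ω).eq_or_eq_neg hαSI hne with e1 | e1
    · exact e1
    · exfalso
      have : c ω = -1 := by
        show classInner (χ ω) α = -1
        rw [e1, Cfsg.Agent.Lib.Helper26.classInner_neg_left, hαα]
      rw [this] at hω
      norm_num at hω
  -- the two equations
  have Q1 : c (a ^ m) + c (b ^ m) - c ((a * b) ^ m) = 1 := by
    have := congrArg (fun F : G → ℂ => classInner F α) E1
    simp only [Cfsg.Agent.Lib.Helper26.classInner_add_left,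
      Cfsg.Agent.Lib.Helper26.classInner_sub_left] at this
    rw [← this]
    have e1 : classInner (fun g => χ b (g ^ m)) α = 0 := horth b a (Ne.symm h1)
    have e2 : classInner (fun g => χ (a * b) (g ^ m)) α = 0 := horth (a * b) a (Ne.symm h2)
    rw [e1, e2, hαα]
    ring
  have Q2 : c (a ^ m) + c (b⁻¹ ^ m) - c ((a * b⁻¹) ^ m) = 1 := by
    have := congrArg (fun F : G → ℂ => classInner F α) E2
    simp only [Cfsg.Agent.Lib.Helper26.classInner_add_left,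
      Cfsg.Agent.Lib.Helper26.classInner_sub_left] at this
    rw [← this]
    have e1 : classInner (fun g => χ b⁻¹ (g ^ m)) α = 0 := horth b⁻¹ a (Ne.symm h3)
    have e2 : classInner (fun g => χ (a * b⁻¹) (g ^ m)) α = 0 := horth (a * b⁻¹) a (Ne.symm h4)
    rw [e1, e2, hαα]
    ring
  by_cases ca : c (a ^ m) = 0
  · exfalso
    rw [ca, zero_add] at Q1 Q2
    by_cases cb : c (b ^ m) = 0
    · have cab : c ((a * b) ^ m) ≠ 0 := by
        intro h
        rw [cb, h] at Q1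
        norm_num at Q1
      have e1 : c (b⁻¹ ^ m) = 0 := by
        by_contra h
        exact h7 (hinj _ _ (F2 _ _ cab h))
      have e2 : c ((a * b⁻¹) ^ m) = 0 := by
        by_contra h
        exact h8 (hinj _ _ (F2 _ _ cab h))
      rw [e1, e2] at Q2
      norm_num at Q2
    · have e1 : c (b⁻¹ ^ m) = 0 := by
        by_contra h
        exact h5 (hinj _ _ (F2 _ _ cb h))
      have e2 : c ((a * b⁻¹) ^ m) = 0 := by
        by_contra h
        exact h6 (hinj _ _ (F2 _ _ cb h))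
      rw [e1, e2] at Q2
      norm_num at Q2
  · have e1 : c (b ^ m) = 0 := by
      by_contra h
      exact h1 (hinj _ _ (F2 _ _ ca h))
    have e2 : c ((a * b) ^ m) = 0 := by
      by_contra h
      exact h2 (hinj _ _ (F2 _ _ ca h))
    rw [e1, e2, add_zero, sub_zero] at Q1
    exact (F3 _ Q1).symm

end Main

section Arith

/-- lifting a residue coprime to `n` to one coprime to `m` -/
theorem exists_add_mul_coprime (n m x : ℕ) (hm : m ≠ 0) (hx : x.Coprime n) :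
    ∃ k : ℕ, (x + k * n).Coprime m := by
  let ps : Finset ℕ := {p ∈ m.primeFactors | ¬p ∣ x}
  use ps.prod id
  apply Nat.coprime_of_dvd
  intro p pp hp hpn
  by_cases hpx : p ∣ x
  · have h := Nat.dvd_sub hp hpx
    rw [add_comm, Nat.add_sub_cancel] at h
    rcases pp.dvd_mul.mp h with h | h
    · have ⟨q, hq, hq'⟩ := (pp.prime.dvd_finsetProd_iff id).mp h
      rw [Finset.mem_filter, Nat.mem_primeFactors,
        ← (Nat.prime_dvd_prime_iff_eq pp hq.1.1).mp hq'] at hq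
      exact hq.2 hpx
    · exact Nat.Prime.not_coprime_iff_dvd.mpr ⟨p, pp, hpx, h⟩ hx
  · have pps : p ∈ ps := Finset.mem_filter.mpr ⟨Nat.mem_primeFactors.mpr ⟨pp, hpn, hm⟩, hpx⟩
    have h := Nat.dvd_sub hp ((Finset.dvd_prod_of_mem id pps).mul_right n)
    rw [Nat.add_sub_cancel] at h
    contradiction

/-- Chinese remainder with coprimality to a big modulus -/
theorem exists_crt (k l n m : ℕ) (hn : n ≠ 0) (hkl : k.Coprime l) (hmk : m.Coprime k) :
    ∃ m' : ℕ, m'.Coprime n ∧ m' ≡ m [MOD k] ∧ m' ≡ 1 [MOD l] := by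
  obtain ⟨x, hx1, hx2⟩ := Nat.chineseRemainder hkl m 1
  have hxk : x.Coprime k := by
    unfold Nat.Coprime
    rw [hx1.gcd_eq]
    exact hmk
  have hxl : x.Coprime l := by
    unfold Nat.Coprime
    rw [hx2.gcd_eq]
    exact Nat.gcd_one_left l
  have hxkl : x.Coprime (k * l) := Nat.Coprime.mul_right hxk hxl
  obtain ⟨t, ht⟩ := exists_add_mul_coprime (k * l) n x hn hxkl
  refine ⟨x + t * (k * l), ht, ?_, ?_⟩
  · have : x + t * (k * l) ≡ x [MOD k] := by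
      have h0 : t * (k * l) ≡ 0 [MOD k] := by
        apply Nat.modEq_zero_iff_dvd.mpr
        exact Dvd.intro_left (t * l) (by ring)
      simpa using (Nat.ModEq.refl x).add h0
    exact this.trans hx1
  · have : x + t * (k * l) ≡ x [MOD l] := by
      have h0 : t * (k * l) ≡ 0 [MOD l] := by
        apply Nat.modEq_zero_iff_dvd.mpr
        exact Dvd.intro_left (t * k) (by ring)
      simpa using (Nat.ModEq.refl x).add h0
    exact this.trans hx2

end Arith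

section Dual

variable {G : Type*} [Group G] (W : Subgroup G) [Finite W]

/-- a character killed by `B` obtained as a power -/
theorem zpow_trivial_on (B : Subgroup G) [Finite B] (ω : ↥W →* ℂˣ) (v : ℤ)
    (w : ↥W) (hw : (w : G) ∈ B) : (ω ^ ((Nat.card B : ℤ) * v)) w = 1 := by
  rw [MonoidHom.zpow_apply, zpow_mul, zpow_natCast, ← map_pow]
  have h1 : w ^ Nat.card B = 1 := by
    apply Subtype.ext
    have h2 : (⟨(w : G), hw⟩ : B) ^ Nat.card B = 1 := pow_card_eq_one'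
    have h3 := congrArg (fun y : B => (y : G)) h2
    simp only [Subgroup.coe_pow, Subgroup.coe_one] at h3
    rw [Subgroup.coe_pow, Subgroup.coe_one]
    exact h3
  rw [h1, map_one, one_zpow]

/-- decomposition of a linear character along two subgroups of coprime orders -/
theorem exists_decomp (A B : Subgroup G) [Finite A] [Finite B]
    (hcop : (Nat.card A).Coprime (Nat.card B)) (ω : ↥W →* ℂˣ) :
    ∃ φ ψ : ↥W →* ℂˣ, (∀ w : ↥W, (w : G) ∈ B → φ w = 1) ∧ (∀ w : ↥W, (w : G) ∈ A → ψ w = 1) ∧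
      ω = φ * ψ ∧ (∀ w : ↥W, (w : G) ∈ A → φ w = ω w) := by
  have hbez := Nat.gcd_eq_gcd_ab (Nat.card A) (Nat.card B)
  rw [hcop.gcd_eq_one] at hbez
  set u := Nat.gcdA (Nat.card A) (Nat.card B)
  set v := Nat.gcdB (Nat.card A) (Nat.card B)
  have hsum : ω = ω ^ ((Nat.card B : ℤ) * v) * ω ^ ((Nat.card A : ℤ) * u) := by
    have h0 := zpow_add ω ((Nat.card B : ℤ) * v) ((Nat.card A : ℤ) * u)
    have : (Nat.card B : ℤ) * v + (Nat.card A : ℤ) * u = 1 := by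
      rw [add_comm]; exact_mod_cast hbez.symm
    rw [this, zpow_one] at h0
    exact h0
  refine ⟨ω ^ ((Nat.card B : ℤ) * v), ω ^ ((Nat.card A : ℤ) * u),
    fun w hw => zpow_trivial_on W B ω v w hw, fun w hw => zpow_trivial_on W A ω u w hw, hsum, ?_⟩
  intro w hw
  have h1 := DFunLike.congr_fun hsum w
  rw [MonoidHom.mul_apply, zpow_trivial_on W A ω u w hw, mul_one] at h1
  exact h1.symm

end Dual

section Final

variable {G : Type*} [Group G] [Fintype G] (W₁ W₂ : Subgroup G)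

theorem hom_one_pow {W : Type*} [Group W] (m : ℕ) : (1 : W →* ℂˣ) ^ m = 1 := by
  ext w; simp

theorem hom_inv_eq_one {W : Type*} [Group W] (a : W →* ℂˣ) (h : a⁻¹ = 1) : a = 1 := by
  ext w
  have := DFunLike.congr_fun h w
  simpa using this

theorem hom_mul_pow {W : Type*} [Group W] (a b : W →* ℂˣ) (m : ℕ) :
    (a * b) ^ m = a ^ m * b ^ m := by
  ext w; simp [mul_pow]

theorem coprime_card (hW : IsSelfNormalizingCyclic W₁ W₂) :
    (Nat.card W₁).Coprime (Nat.card W₂) := by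
  obtain ⟨_, _, hinf, hcomm, hcyc, _⟩ := hW
  let f : W₁ × W₂ →* ↥(W₁ ⊔ W₂) :=
    MonoidHom.noncommCoprod (Subgroup.inclusion (le_sup_left : W₁ ≤ W₁ ⊔ W₂))
      (Subgroup.inclusion (le_sup_right : W₂ ≤ W₁ ⊔ W₂))
      (fun a b => Subtype.ext (hcomm a a.2 b b.2))
  have hf : Function.Injective f := by
    rw [injective_iff_map_eq_one]
    rintro ⟨a, b⟩ hab
    have h1 : (a : G) * (b : G) = 1 := congrArg (fun y : ↥(W₁ ⊔ W₂) => (y : G)) hab
    have h2 : (a : G) = (b : G)⁻¹ := eq_inv_of_mul_eq_one_left h1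
    have h3 : (a : G) ∈ W₁ ⊓ W₂ := ⟨a.2, by rw [h2]; exact W₂.inv_mem b.2⟩
    rw [hinf, Subgroup.mem_bot] at h3
    have h4 : (b : G) = 1 := by rw [h3, one_mul] at h1; exact h1
    exact Prod.ext (Subtype.ext h3) (Subtype.ext h4)
  haveI : IsCyclic (W₁ × W₂) := isCyclic_of_injective f hf
  exact coprime_card_of_isCyclic_prod W₁ W₂

theorem exists_nontrivial (hW : IsSelfNormalizingCyclic W₁ W₂) :
    (∃ φ : ↥(W₁ ⊔ W₂) →* ℂˣ, (∀ w : ↥(W₁ ⊔ W₂), (w : G) ∈ W₂ → φ w = 1) ∧ φ ≠ 1) ∧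
    (∃ ψ : ↥(W₁ ⊔ W₂) →* ℂˣ, (∀ w : ↥(W₁ ⊔ W₂), (w : G) ∈ W₁ → ψ w = 1) ∧ ψ ≠ 1) := by
  have hcop := coprime_card W₁ W₂ hW
  obtain ⟨h1, h2, _, _, hcyc, _⟩ := hW
  letI : CommGroup ↥(W₁ ⊔ W₂) := IsCyclic.commGroup
  have : NeZero ((Monoid.exponent ↥(W₁ ⊔ W₂) : ℕ) : ℂ) :=
    ⟨Nat.cast_ne_zero.mpr Monoid.exponent_ne_zero_of_finite⟩
  constructor
  · obtain ⟨x, hx⟩ := (Subgroup.ne_bot_iff_exists_ne_one).mp h1
    set x' : ↥(W₁ ⊔ W₂) := ⟨(x : G), (le_sup_left : W₁ ≤ W₁ ⊔ W₂) x.2⟩ with hx'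
    have hx1 : x' ≠ 1 := by
      intro h
      apply hx
      apply Subtype.ext
      exact congrArg (fun y : ↥(W₁ ⊔ W₂) => (y : G)) h
    obtain ⟨lam, hlam⟩ := CommGroup.exists_apply_ne_one_of_hasEnoughRootsOfUnity ↥(W₁ ⊔ W₂) ℂ hx1
    obtain ⟨φ, _, hφ, _, _, hφlam⟩ := exists_decomp (W₁ ⊔ W₂) W₁ W₂ hcop lam
    refine ⟨φ, hφ, ?_⟩
    intro h
    apply hlam
    rw [← hφlam x' x.2, h]
    rfl
  · obtain ⟨x, hx⟩ := (Subgroup.ne_bot_iff_exists_ne_one).mp h2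
    set x' : ↥(W₁ ⊔ W₂) := ⟨(x : G), (le_sup_right : W₂ ≤ W₁ ⊔ W₂) x.2⟩ with hx'
    have hx1 : x' ≠ 1 := by
      intro h
      apply hx
      apply Subtype.ext
      exact congrArg (fun y : ↥(W₁ ⊔ W₂) => (y : G)) h
    obtain ⟨lam, hlam⟩ := CommGroup.exists_apply_ne_one_of_hasEnoughRootsOfUnity ↥(W₁ ⊔ W₂) ℂ hx1
    obtain ⟨ψ, _, hψ, _, _, hψlam⟩ := exists_decomp (W₁ ⊔ W₂) W₂ W₁ hcop.symm lam
    refine ⟨ψ, hψ, ?_⟩
    intro h
    apply hlam
    rw [← hψlam x' x.2, h]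
    rfl

/-- distinctness bookkeeping in an abelian group with two subgroups meeting trivially -/
theorem distinct {Λ : Type*} [CommGroup Λ] (A B : Subgroup Λ) (hAB : ∀ x, x ∈ A → x ∈ B → x = 1)
    (a b : Λ) (ha : a ∈ A) (hb : b ∈ B) (ha1 : a ≠ 1) (hb1 : b ≠ 1) (hbb : b ≠ b⁻¹) :
    a ≠ b ∧ a ≠ a * b ∧ a ≠ b⁻¹ ∧ a ≠ a * b⁻¹ ∧ b ≠ a * b⁻¹ ∧ a * b ≠ b⁻¹ ∧ a * b ≠ a * b⁻¹ := by
  refine ⟨?_, ?_, ?_, ?_, ?_, ?_, ?_⟩
  · intro h
    exact ha1 (hAB a ha (h ▸ hb))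
  · intro h
    apply hb1
    have : a * 1 = a * b := by rw [mul_one]; exact h
    exact (mul_left_cancel this).symm
  · intro h
    exact ha1 (hAB a ha (h ▸ B.inv_mem hb))
  · intro h
    apply hb1
    have : a * 1 = a * b⁻¹ := by rw [mul_one]; exact h
    have h2 := (mul_left_cancel this).symm
    exact inv_eq_one.mp h2
  · intro h
    have h2 : a = b * b := by
      have h3 : b * b = (a * b⁻¹) * b := by rw [← h]
      rw [h3]; group
    exact ha1 (hAB a ha (h2 ▸ B.mul_mem hb hb))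
  · intro h
    have h2 : a = b⁻¹ * b⁻¹ := by
      have : a = (a * b) * b⁻¹ := by group
      rw [this, h]
    exact ha1 (hAB a ha (h2 ▸ B.mul_mem (B.inv_mem hb) (B.inv_mem hb)))
  · intro h
    exact hbb (mul_left_cancel h)

theorem main_claim (hW : IsSelfNormalizingCyclic W₁ W₂) (hodd : Odd (Nat.card ↥(W₁ ⊔ W₂)))
    (χ : (↥(W₁ ⊔ W₂) →* ℂˣ) → (G → ℂ)) (hχ : IsCyclicTIFamily W₁ W₂ χ) (m : ℕ)
    (hm : m.Coprime (Nat.card G)) (ω : ↥(W₁ ⊔ W₂) →* ℂˣ) :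
    (fun g => χ ω (g ^ m)) = χ (ω ^ m) := by
  classical
  obtain ⟨m', hm', hinv⟩ := Cfsg.Agent.Lib.Helper4.exists_inv_pow (G := G) m hm
  -- injectivity of the m-th power on the dual
  have hinj : ∀ a b : ↥(W₁ ⊔ W₂) →* ℂˣ, a ^ m = b ^ m → a = b := by
    intro a b hab
    ext w
    have hw : (w ^ m) ^ m' = w := Subtype.ext (by
      rw [Subgroup.coe_pow, Subgroup.coe_pow]; exact (hinv (w : G)).2)
    have h1 : ∀ c : ↥(W₁ ⊔ W₂) →* ℂˣ, c w = ((c ^ m) w) ^ m' := by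
      intro c
      rw [MonoidHom.pow_apply, ← map_pow, ← map_pow, hw]
    rw [h1 a, h1 b, hab]
  -- the two subgroups of the dual
  let A : Subgroup (↥(W₁ ⊔ W₂) →* ℂˣ) :=
    { carrier := {φ | ∀ w : ↥(W₁ ⊔ W₂), (w : G) ∈ W₂ → φ w = 1}
      mul_mem' := by
        intro a b ha hb w hw
        rw [MonoidHom.mul_apply, ha w hw, hb w hw, one_mul]
      one_mem' := fun w _ => rfl
      inv_mem' := by
        intro a ha w hw
        rw [MonoidHom.inv_apply, ha w hw, inv_one] }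
  let B : Subgroup (↥(W₁ ⊔ W₂) →* ℂˣ) :=
    { carrier := {φ | ∀ w : ↥(W₁ ⊔ W₂), (w : G) ∈ W₁ → φ w = 1}
      mul_mem' := by
        intro a b ha hb w hw
        rw [MonoidHom.mul_apply, ha w hw, hb w hw, one_mul]
      one_mem' := fun w _ => rfl
      inv_mem' := by
        intro a ha w hw
        rw [MonoidHom.inv_apply, ha w hw, inv_one] }
  have hAB : ∀ x, x ∈ A → x ∈ B → x = 1 := by
    intro x hxA hxB
    exact Cfsg.Agent.Lib.Helper26.hom_ext_sup W₁ W₂ x 1 (fun w hw => hxB w hw) (fun w hw => hxA w hw)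
  -- odd order: no involutions in the dual
  have hnoinv : ∀ b : ↥(W₁ ⊔ W₂) →* ℂˣ, b ≠ 1 → b ≠ b⁻¹ := by
    intro b hb1 h
    apply hb1
    have h2 : b ^ 2 = 1 := by
      rw [pow_two]
      nth_rewrite 2 [h]
      exact mul_inv_cancel b
    have hn : b ^ Nat.card ↥(W₁ ⊔ W₂) = 1 := by
      ext w
      rw [MonoidHom.pow_apply, ← map_pow, pow_card_eq_one', map_one]
      rfl
    have h3 := (pow_gcd_eq_one (a := b)).mpr ⟨h2, hn⟩
    have h4 : Nat.gcd 2 (Nat.card ↥(W₁ ⊔ W₂)) = 1 := Nat.coprime_two_left.mpr hodd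
    rw [h4, pow_one] at h3
    exact h3
  -- the twisted induction identity
  have step1 : ∀ φ ψ : ↥(W₁ ⊔ W₂) →* ℂˣ, φ ∈ A → ψ ∈ B → φ ≠ 1 → ψ ≠ 1 →
      (fun g => χ φ (g ^ m)) + (fun g => χ ψ (g ^ m)) - (fun g => χ (φ * ψ) (g ^ m)) =
        χ (φ ^ m) + χ (ψ ^ m) - χ ((φ * ψ) ^ m) := by
    intro φ ψ hφA hψB hφ1 hψ1
    have hφm1 : φ ^ m ≠ 1 := fun h => hφ1 (hinj φ 1 (by rw [h, hom_one_pow]))
    have hψm1 : ψ ^ m ≠ 1 := fun h => hψ1 (hinj ψ 1 (by rw [h, hom_one_pow]))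
    have E0 := hχ.induced_eq φ ψ hφ1 hψ1 hφA hψB
    have E1 := hχ.induced_eq (φ ^ m) (ψ ^ m) hφm1 hψm1 (A.pow_mem hφA m) (B.pow_mem hψB m)
    have E2 := indFun_pow (W₁ ⊔ W₂)
      (fun w => 1 - (φ w : ℂ) - (ψ w : ℂ) + (φ w : ℂ) * (ψ w : ℂ)) m hm
    have E3 : (fun w : ↥(W₁ ⊔ W₂) => (fun w => 1 - (φ w : ℂ) - (ψ w : ℂ) + (φ w : ℂ) * (ψ w : ℂ))
        (w ^ m)) = fun w => 1 - ((φ ^ m) w : ℂ) - ((ψ ^ m) w : ℂ) +
          ((φ ^ m) w : ℂ) * ((ψ ^ m) w : ℂ) := by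
      funext w
      simp only [map_pow, MonoidHom.pow_apply, Units.val_pow_eq_pow_val]
    rw [E3, E1, E0] at E2
    funext g
    have := congrFun E2 g
    simp only [Pi.add_apply, Pi.sub_apply] at this ⊢
    rw [hom_mul_pow]
    linear_combination this
  obtain ⟨⟨φ₀, hφ₀A, hφ₀1⟩, ⟨ψ₀, hψ₀B, hψ₀1⟩⟩ := exists_nontrivial W₁ W₂ hW
  -- type A
  have claimA : ∀ φ : ↥(W₁ ⊔ W₂) →* ℂˣ, φ ∈ A → φ ≠ 1 → (fun g => χ φ (g ^ m)) = χ (φ ^ m) := by
    intro φ hφA hφ1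
    have hψinv1 : ψ₀⁻¹ ≠ 1 := fun h => hψ₀1 (hom_inv_eq_one ψ₀ h)
    obtain ⟨d1, d2, d3, d4, d6, d7, d8⟩ :=
      distinct A B hAB φ ψ₀ hφA hψ₀B hφ1 hψ₀1 (hnoinv ψ₀ hψ₀1)
    exact twist_eq W₁ W₂ χ hχ m hm hinj φ ψ₀ (step1 φ ψ₀ hφA hψ₀B hφ1 hψ₀1)
      (step1 φ ψ₀⁻¹ hφA (B.inv_mem hψ₀B) hφ1 hψinv1) d1 d2 d3 d4 (hnoinv ψ₀ hψ₀1) d6 d7 d8
  -- type B
  have claimB : ∀ ψ : ↥(W₁ ⊔ W₂) →* ℂˣ, ψ ∈ B → ψ ≠ 1 → (fun g => χ ψ (g ^ m)) = χ (ψ ^ m) := by
    intro ψ hψB hψ1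
    have hφinv1 : φ₀⁻¹ ≠ 1 := fun h => hφ₀1 (hom_inv_eq_one φ₀ h)
    obtain ⟨d1, d2, d3, d4, d6, d7, d8⟩ :=
      distinct B A (fun x hB hA => hAB x hA hB) ψ φ₀ hψB hφ₀A hψ1 hφ₀1 (hnoinv φ₀ hφ₀1)
    have e1 := step1 φ₀ ψ hφ₀A hψB hφ₀1 hψ1
    have e2 := step1 φ₀⁻¹ ψ (A.inv_mem hφ₀A) hψB hφinv1 hψ1
    refine twist_eq W₁ W₂ χ hχ m hm hinj ψ φ₀ ?_ ?_ d1 d2 d3 d4 (hnoinv φ₀ hφ₀1) d6 d7 d8
    · rw [mul_comm ψ φ₀, add_comm (fun g => χ ψ (g ^ m)), add_comm (χ (ψ ^ m))]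
      exact e1
    · rw [mul_comm ψ φ₀⁻¹, add_comm (fun g => χ ψ (g ^ m)), add_comm (χ (ψ ^ m))]
      exact e2
  -- decomposition
  obtain ⟨φ, ψ, hφA, hψB, hω, _⟩ := exists_decomp (W₁ ⊔ W₂) W₁ W₂ (coprime_card W₁ W₂ hW) ω
  have h1case : (fun g => χ (1 : ↥(W₁ ⊔ W₂) →* ℂˣ) (g ^ m)) = χ ((1 : ↥(W₁ ⊔ W₂) →* ℂˣ) ^ m) := by
    rw [hom_one_pow, hχ.map_one]
  by_cases hφ1 : φ = 1
  · by_cases hψ1 : ψ = 1
    · rw [hω, hφ1, hψ1, Cfsg.Agent.Lib.Helper26.hom_mul_one]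
      exact h1case
    · rw [hω, hφ1, Cfsg.Agent.Lib.Helper26.hom_one_mul]
      exact claimB ψ hψB hψ1
  · by_cases hψ1 : ψ = 1
    · rw [hω, hψ1, Cfsg.Agent.Lib.Helper26.hom_mul_one]
      exact claimA φ hφA hφ1
    · have e := step1 φ ψ hφA hψB hφ1 hψ1
      rw [claimA φ hφA hφ1, claimB ψ hψB hψ1] at e
      rw [hω]
      funext g
      have := congrFun e g
      simp only [Pi.add_apply, Pi.sub_apply] at this
      linear_combination -this

end Final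

/-- Let W₁, W₂ ≤ G form a self-normalising cyclic subgroup W = W₁ ⊔ W₂ of odd order and χ an orthonormal family of irreducible characters of G up to sign, indexed by the linear characters ω of W, with χ_1 = 1, χ_ω = ω on W outside W₁ ∪ W₂, and the induction identity for (1 − φ)(1 − ψ). Let ω be a linear character of W and g an element of G whose order is coprime to the order of ω. Then χ ω g is an integer. -/
theorem result {G : Type*} [Group G] [Fintype G] (W₁ W₂ : Subgroup G) (hW : Cfsg.IsSelfNormalizingCyclic W₁ W₂) (hodd : Odd (Nat.card ↥(W₁ ⊔ W₂))) (χ : (↥(W₁ ⊔ W₂) →* ℂˣ) → (G → ℂ)) (hχ : Cfsg.IsCyclicTIFamily W₁ W₂ χ) (ω : ↥(W₁ ⊔ W₂) →* ℂˣ) (g : G) (hg : Nat.Coprime (orderOf g) (orderOf ω)) : ∃ n : ℤ, χ ω g = n := by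
  classical
  apply int_of_pow_fixed (hχ.irr_or_neg ω) g
  intro m hm
  have hmk : m.Coprime (orderOf g) := Nat.Coprime.coprime_dvd_right (orderOf_dvd_natCard g) hm
  obtain ⟨m', hm'n, hm'k, hm'l⟩ := exists_crt (orderOf g) (orderOf ω) (Nat.card G) m
    Nat.card_pos.ne' hg hmk
  have h1 : g ^ m' = g ^ m := pow_eq_pow_iff_modEq.mpr hm'k
  have h2 : ω ^ m' = ω := by
    have e1 : m' % orderOf ω = 1 % orderOf ω := hm'l
    rw [← pow_mod_orderOf ω m', e1, pow_mod_orderOf, pow_one]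
  have h3 := congrFun (main_claim W₁ W₂ hW hodd χ hχ m' hm'n ω) g
  rw [← h1]
  show χ ω (g ^ m') = χ ω g
  have h4 : χ ω (g ^ m') = χ (ω ^ m') g := h3
  rw [h4, h2]

end Cfsg.Agent.S1508
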