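import Cfsg.Statements.S1509
import Cfsg.Agent.Lib.Helper26.CharBasic
-- import your own Cfsg.Agent.* helpers here

set_option autoImplicit false
open Cfsg

namespace Cfsg.Agent.S1509

open Cfsg.Agent.Lib.Helper26
open scoped ComplexConjugate

/-- A signed irreducible character is `ε • χ` with `ε = ±1` and `χ` irreducible. -/
theorem signed_form {X : Type*} [Group X] (α : X → ℂ)
    (hα : Cfsg.IsIrrCharacter X α ∨ Cfsg.IsIrrCharacter X (-α)) :
    ∃ (ε : ℂ) (χ : X → ℂ), (ε = 1 ∨ ε = -1) ∧ Cfsg.IsIrrCharacter X χ ∧ α = ε • χ := by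
  rcases hα with h | h
  · exact ⟨1, α, Or.inl rfl, h, by simp⟩
  · exact ⟨-1, -α, Or.inr rfl, h, by simp⟩

/-- For signed irreducibles `x, y`: either `⟨x, y⟩ = 0`, or `x = ⟨x, y⟩ • y`. -/
theorem signed_inner {X : Type*} [Group X] [Fintype X] (x y : X → ℂ)
    (hx : Cfsg.IsIrrCharacter X x ∨ Cfsg.IsIrrCharacter X (-x))
    (hy : Cfsg.IsIrrCharacter X y ∨ Cfsg.IsIrrCharacter X (-y)) :
    Cfsg.classInner x y = 0 ∨ x = Cfsg.classInner x y • y := by
  obtain ⟨ε, χ, hε, hχ, rfl⟩ := signed_form x hx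
  obtain ⟨ε', χ', hε', hχ', rfl⟩ := signed_form y hy
  rw [classInner_smul_left, classInner_smul_right, classInner_irr hχ hχ']
  by_cases h : χ = χ'
  · subst h
    right
    rw [if_pos rfl]
    rcases hε with rfl | rfl <;> rcases hε' with rfl | rfl <;> simp
  · left
    rw [if_neg h]; simp

theorem signed_one_ne_zero {X : Type*} [Group X] (x : X → ℂ)
    (hx : Cfsg.IsIrrCharacter X x ∨ Cfsg.IsIrrCharacter X (-x)) : x 1 ≠ 0 := by
  obtain ⟨ε, χ, hε, hχ, rfl⟩ := signed_form x hx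
  obtain ⟨n, hn, h1⟩ := irr_degree hχ
  have : (n : ℂ) ≠ 0 := by exact_mod_cast hn.ne'
  rcases hε with rfl | rfl <;> simp [h1, this]

theorem main {X : Type*} [Group X] [Fintype X] (α β γ δ : X → ℂ)
    (hα : Cfsg.IsIrrCharacter X α ∨ Cfsg.IsIrrCharacter X (-α))
    (hβ : Cfsg.IsIrrCharacter X β ∨ Cfsg.IsIrrCharacter X (-β))
    (hγ : Cfsg.IsIrrCharacter X γ ∨ Cfsg.IsIrrCharacter X (-γ))
    (hδ : Cfsg.IsIrrCharacter X δ ∨ Cfsg.IsIrrCharacter X (-δ))
    (u v : ℝ) (hu : u ≠ 0) (hv : v ≠ 0)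
    (hab : Cfsg.classInner α β = 0) (hcd : Cfsg.classInner γ δ = 0)
    (hmix : Cfsg.classInner (α - β) ((u : ℂ) • γ - (v : ℂ) • δ) = 0)
    (h1 : α 1 = β 1) (h2 : (u : ℂ) * γ 1 = (v : ℂ) * δ 1) :
    Cfsg.classInner α γ = 0 := by
  by_contra hp
  set p := Cfsg.classInner α γ with hpdef
  have hαγ : α = p • γ := (signed_inner α γ hα hγ).resolve_left hp
  -- q = 0
  have hq : Cfsg.classInner α δ = 0 := by
    rw [hαγ, classInner_smul_left, hcd, mul_zero]
  -- r = 0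
  have hr : Cfsg.classInner β γ = 0 := by
    have hba : Cfsg.classInner β α = 0 := by
      rw [← classInner_conj_symm, hab, map_zero]
    rw [hαγ, classInner_smul_right] at hba
    rcases mul_eq_zero.1 hba with h | h
    · exfalso; apply hp
      simpa using h
    · exact h
  -- expand hmix
  have hmix' : (u : ℂ) * p + (v : ℂ) * Cfsg.classInner β δ = 0 := by
    have := hmix
    rw [classInner_sub_left, classInner_sub_right, classInner_sub_right,
      classInner_smul_right, classInner_smul_right, classInner_smul_right, classInner_smul_right,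
      hq, hr, Complex.conj_ofReal, Complex.conj_ofReal] at this
    rw [← this, ← hpdef]; ring
  have huC : (u : ℂ) ≠ 0 := by exact_mod_cast hu
  have hvC : (v : ℂ) ≠ 0 := by exact_mod_cast hv
  have hs : Cfsg.classInner β δ ≠ 0 := by
    intro hs
    rw [hs, mul_zero, add_zero] at hmix'
    rcases mul_eq_zero.1 hmix' with h | h
    · exact huC h
    · exact hp h
  set s := Cfsg.classInner β δ with hsdef
  have hβδ : β = s • δ := (signed_inner β δ hβ hδ).resolve_left hs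
  have e1 : p * γ 1 = s * δ 1 := by
    have := h1
    rw [hαγ, hβδ] at this
    simpa using this
  have hγ1 : γ 1 ≠ 0 := signed_one_ne_zero γ hγ
  -- derive (u^2+v^2) γ 1 = 0
  have e2 : (v : ℂ) * γ 1 + (u : ℂ) * δ 1 = 0 := by
    have : p * ((v : ℂ) * γ 1 + (u : ℂ) * δ 1) = 0 := by
      have hvs : (v : ℂ) * s = -((u : ℂ) * p) := by linear_combination hmix'
      calc p * ((v : ℂ) * γ 1 + (u : ℂ) * δ 1)
          = (v : ℂ) * (p * γ 1) + (u : ℂ) * p * δ 1 := by ring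
        _ = (v : ℂ) * (s * δ 1) + (u : ℂ) * p * δ 1 := by rw [e1]
        _ = ((v : ℂ) * s) * δ 1 + (u : ℂ) * p * δ 1 := by ring
        _ = 0 := by rw [hvs]; ring
    rcases mul_eq_zero.1 this with h | h
    · exact absurd h hp
    · exact h
  have e3 : ((u : ℂ) ^ 2 + (v : ℂ) ^ 2) * γ 1 = 0 := by
    linear_combination (u : ℂ) * h2 + (v : ℂ) * e2
  have e4 : ((u : ℂ) ^ 2 + (v : ℂ) ^ 2) ≠ 0 := by
    have : (0 : ℝ) < u ^ 2 + v ^ 2 := by positivity
    have h' : ((u ^ 2 + v ^ 2 : ℝ) : ℂ) ≠ 0 := by exact_mod_cast this.ne'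
    simpa using h'
  rcases mul_eq_zero.1 e3 with h | h
  · exact e4 h
  · exact hγ1 h

/-- Let α, β, γ, δ be functions on a finite group X each of which is an irreducible character or the negative of one, and u, v nonzero real numbers. Suppose ⟨α, β⟩ = ⟨γ, δ⟩ = 0, ⟨α − β, uγ − vδ⟩ = 0, α 1 = β 1 and u γ 1 = v δ 1. Then also ⟨α, γ⟩ = ⟨α, δ⟩ = ⟨β, γ⟩ = ⟨β, δ⟩ = 0. -/
theorem result {X : Type*} [Group X] [Fintype X] (α β γ δ : X → ℂ) (hα : Cfsg.IsIrrCharacter X α ∨ Cfsg.IsIrrCharacter X (-α)) (hβ : Cfsg.IsIrrCharacter X β ∨ Cfsg.IsIrrCharacter X (-β)) (hγ : Cfsg.IsIrrCharacter X γ ∨ Cfsg.IsIrrCharacter X (-γ)) (hδ : Cfsg.IsIrrCharacter X δ ∨ Cfsg.IsIrrCharacter X (-δ)) (u v : ℝ) (hu : u ≠ 0) (hv : v ≠ 0) (hab : Cfsg.classInner α β = 0) (hcd : Cfsg.classInner γ δ = 0) (hmix : Cfsg.classInner (α - β) ((u : ℂ) • γ - (v : ℂ) • δ) = 0) (h1 : α 1 = β 1) (h2 : (u : ℂ) * γ 1 = (v : ℂ) * δ 1) : Cfsg.classInner α γ = 0 ∧ Cfsg.classInner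 α δ = 0 ∧ Cfsg.classInner β γ = 0 ∧ Cfsg.classInner β δ = 0 := by
  have hba : Cfsg.classInner β α = 0 := by rw [← classInner_conj_symm, hab, map_zero]
  have hdc : Cfsg.classInner δ γ = 0 := by rw [← classInner_conj_symm, hcd, map_zero]
  have hmix2 : Cfsg.classInner (α - β) ((v : ℂ) • δ - (u : ℂ) • γ) = 0 := by
    have : ((v : ℂ) • δ - (u : ℂ) • γ) = -((u : ℂ) • γ - (v : ℂ) • δ) := by ring
    rw [this, classInner_neg_right, hmix, neg_zero]
  have hmix3 : Cfsg.classInner (β - α) ((u : ℂ) • γ - (v : ℂ) • δ) = 0 := by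
    have : β - α = -(α - β) := by ring
    rw [this, classInner_neg_left, hmix, neg_zero]
  have hmix4 : Cfsg.classInner (β - α) ((v : ℂ) • δ - (u : ℂ) • γ) = 0 := by
    have : β - α = -(α - β) := by ring
    rw [this, classInner_neg_left, hmix2, neg_zero]
  refine ⟨main α β γ δ hα hβ hγ hδ u v hu hv hab hcd hmix h1 h2,
    main α β δ γ hα hβ hδ hγ v u hv hu hab hdc hmix2 h1 h2.symm,
    main β α γ δ hβ hα hγ hδ u v hu hv hba hcd hmix3 h1.symm h2,
    main β α δ γ hβ hα hδ hγ v u hv hu hba hdc hmix4 h1.symm h2.symm⟩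

end Cfsg.Agent.S1509
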