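import Cfsg.Statements.S1510
import Mathlib
import Cfsg.Agent.Lib.Helper26.TIInd

set_option autoImplicit false
open Cfsg

namespace Cfsg.Agent.S1510

open Cfsg.Agent.Lib.Helper26

/-- Elements of the join of two elementwise commuting subgroups are products. -/
theorem mem_sup_of_commute {G : Type*} [Group G] (A B : Subgroup G)
    (hcomm : ∀ a ∈ A, ∀ b ∈ B, a * b = b * a) {t : G} (ht : t ∈ A ⊔ B) :
    ∃ a ∈ A, ∃ b ∈ B, t = a * b := by
  let S : Subgroup G :=
    { carrier := {t | ∃ a ∈ A, ∃ b ∈ B, t = a * b}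
      mul_mem' := by
        rintro x y ⟨a, ha, b, hb, rfl⟩ ⟨a', ha', b', hb', rfl⟩
        refine ⟨a * a', A.mul_mem ha ha', b * b', B.mul_mem hb hb', ?_⟩
        have h := hcomm a' ha' b hb
        calc a * b * (a' * b') = a * (b * a') * b' := by group
          _ = a * (a' * b) * b' := by rw [h]
          _ = a * a' * (b * b') := by group
      one_mem' := ⟨1, A.one_mem, 1, B.one_mem, by simp⟩
      inv_mem' := by
        rintro x ⟨a, ha, b, hb, rfl⟩
        refine ⟨a⁻¹, A.inv_mem ha, b⁻¹, B.inv_mem hb, ?_⟩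
        have h := hcomm a⁻¹ (A.inv_mem ha) b⁻¹ (B.inv_mem hb)
        rw [mul_inv_rev, h] }
  have hle : A ⊔ B ≤ S := by
    apply sup_le
    · intro a ha
      exact ⟨a, ha, 1, B.one_mem, by simp⟩
    · intro b hb
      exact ⟨1, A.one_mem, b, hb, by simp⟩
  exact hle ht

/-- If `t = a * b` with commuting `a ∈ A`, `b ∈ B`, then `t ^ |B| = a ^ |B|`. -/
theorem pow_card_right {G : Type*} [Group G] (B : Subgroup G) [Finite B] {a b : G}
    (hb : b ∈ B) (hab : a * b = b * a) : (a * b) ^ Nat.card B = a ^ Nat.card B := by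
  rw [(show Commute a b from hab).mul_pow, pow_card_sub_eq_one B hb, mul_one]

/-- An element of `A` killed by the (coprime) order of `B` is trivial. -/
theorem eq_one_of_pow_coprime {G : Type*} [Group G] (A : Subgroup G) {a : G} (ha : a ∈ A) {n : ℕ}
    (hcop : Nat.Coprime (Nat.card A) n) (hpow : a ^ n = 1) : a = 1 := by
  have h1 : orderOf a ∣ Nat.card A := Subgroup.orderOf_dvd_natCard A ha
  have h2 : orderOf a ∣ n := orderOf_dvd_of_pow_eq_one hpow
  have h3 : orderOf a ∣ Nat.gcd (Nat.card A) n := Nat.dvd_gcd h1 h2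
  rw [Nat.Coprime] at hcop
  rw [hcop, Nat.dvd_one] at h3
  exact orderOf_eq_one_iff.1 h3

/-- A generator of `A` lies in the cyclic group generated by `a * b` when orders are coprime. -/
theorem mem_zpowers_mul {G : Type*} [Group G] (A B : Subgroup G) [Finite A] [Finite B] {a b : G}
    (ha : a ∈ A) (hb : b ∈ B) (hab : a * b = b * a)
    (hcop : Nat.Coprime (Nat.card A) (Nat.card B)) : a ∈ Subgroup.zpowers (a * b) := by
  obtain ⟨u, v, huv⟩ := Nat.isCoprime_iff_coprime.2 hcop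
  -- u * |A| + v * |B| = 1
  have h1 : a = (a ^ (Nat.card B)) ^ v := by
    have hA : a ^ ((Nat.card A : ℕ) : ℤ) = 1 := by
      rw [zpow_natCast]; exact pow_card_sub_eq_one A ha
    calc a = a ^ (1 : ℤ) := (zpow_one a).symm
      _ = a ^ (u * (Nat.card A : ℤ) + v * (Nat.card B : ℤ)) := by rw [huv]
      _ = (a ^ ((Nat.card A : ℕ) : ℤ)) ^ u * (a ^ ((Nat.card B : ℕ) : ℤ)) ^ v := by
          rw [zpow_add, mul_comm u, mul_comm v, zpow_mul, zpow_mul]
      _ = (a ^ (Nat.card B)) ^ v := by rw [hA, one_zpow, one_mul, zpow_natCast]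
  rw [Subgroup.mem_zpowers_iff]
  refine ⟨(Nat.card B : ℤ) * v, ?_⟩
  rw [zpow_mul, zpow_natCast, pow_card_right B hb hab]
  exact h1.symm

/-- Let L be a finite group with a normal subgroup K and a nontrivial cyclic subgroup W₁ of order coprime to its index, K ⊓ W₁ = ⊥ and K ⊔ W₁ = ⊤; let W₂ ≠ ⊥ be a cyclic subgroup of K with K ⊓ C_L(x) = W₂ for every non-identity x ∈ W₁, and suppose W₁ ⊔ W₂ has odd order. Then (W₁, W₂) is a self-normalising cyclic pair in L. -/
theorem result {L : Type*} [Group L] [Fintype L] (K W₁ W₂ : Subgroup L) [hK : K.Normal] (hKW₁ : K ⊓ W₁ = ⊥) (hKW₁' : K ⊔ W₁ = ⊤) (hW₁ : W₁ ≠ ⊥) (hW₁c : IsCyclic W₁) (hHall : Nat.Coprime (Nat.card W₁) W₁.index) (hW₂ : W₂ ≠ ⊥) (hW₂c : IsCyclic W₂) (hW₂K : W₂ ≤ K) (hC : ∀ x ∈ W₁, x ≠ 1 → K ⊓ Subgroup.centralizer ({x} : Set L) = W₂) (hodd : Odd (Nat.card ↥(W₁ ⊔ W₂))) : Cfsg.IsSelfNormalizingCyclic W₁ W₂ := by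
  classical
  have hW₁W₂ : W₁ ⊓ W₂ = ⊥ := by
    rw [eq_bot_iff, ← hKW₁]
    exact le_inf (inf_le_right.trans hW₂K) inf_le_left
  have hcomm : ∀ a ∈ W₁, ∀ b ∈ W₂, a * b = b * a := by
    intro a ha b hb
    by_cases ha1 : a = 1
    · rw [ha1]; simp
    · have hb' : b ∈ K ⊓ Subgroup.centralizer ({a} : Set L) := by rw [hC a ha ha1]; exact hb
      exact (Subgroup.mem_centralizer_iff.1 hb'.2 a (Set.mem_singleton a))
  -- orders are coprime
  have hcompl : K.IsComplement' W₁ := by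
    apply Subgroup.isComplement'_of_disjoint_and_mul_eq_univ (disjoint_iff.2 hKW₁)
    rw [← Subgroup.normal_mul K W₁, hKW₁']
    rfl
  have hidx : W₁.index = Nat.card K := hcompl.index_eq_card
  have hcop : Nat.Coprime (Nat.card W₁) (Nat.card W₂) := by
    rw [hidx] at hHall
    exact Nat.Coprime.coprime_dvd_right (Subgroup.card_dvd_of_le hW₂K) hHall
  -- W is cyclic, generated by a * b
  obtain ⟨a', ha'⟩ := (isCyclic_iff_exists_zpowers_eq_top (α := W₁)).1 hW₁c
  obtain ⟨b', hb'⟩ := (isCyclic_iff_exists_zpowers_eq_top (α := W₂)).1 hW₂c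
  have hWa : W₁ = Subgroup.zpowers (a' : L) := by
    have := congrArg (Subgroup.map W₁.subtype) ha'
    rw [MonoidHom.map_zpowers, ← MonoidHom.range_eq_map, Subgroup.range_subtype] at this
    exact this.symm
  have hWb : W₂ = Subgroup.zpowers (b' : L) := by
    have := congrArg (Subgroup.map W₂.subtype) hb'
    rw [MonoidHom.map_zpowers, ← MonoidHom.range_eq_map, Subgroup.range_subtype] at this
    exact this.symm
  have hab : (a' : L) * (b' : L) = (b' : L) * (a' : L) := hcomm _ a'.2 _ b'.2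
  have hWeq : W₁ ⊔ W₂ = Subgroup.zpowers ((a' : L) * (b' : L)) := by
    apply le_antisymm
    · apply sup_le
      · exact hWa.le.trans (Subgroup.zpowers_le.2 (mem_zpowers_mul W₁ W₂ a'.2 b'.2 hab hcop))
      · have := mem_zpowers_mul W₂ W₁ b'.2 a'.2 hab.symm hcop.symm
        rw [← hab] at this
        exact hWb.le.trans (Subgroup.zpowers_le.2 this)
    · rw [Subgroup.zpowers_le]
      exact Subgroup.mul_mem _ (Subgroup.mem_sup_left a'.2) (Subgroup.mem_sup_right b'.2)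
  have hWcyc : IsCyclic ↥(W₁ ⊔ W₂) := by
    rw [hWeq]; infer_instance
  have hWcomm : ∀ x ∈ W₁ ⊔ W₂, ∀ y ∈ W₁ ⊔ W₂, x * y = y * x := by
    intro x hx y hy
    have := (IsCyclic.commGroup (α := ↥(W₁ ⊔ W₂))).mul_comm ⟨x, hx⟩ ⟨y, hy⟩
    exact congrArg Subtype.val this
  have hW₁comm : ∀ x ∈ W₁, ∀ y ∈ W₁, x * y = y * x := fun x hx y hy =>
    hWcomm x (Subgroup.mem_sup_left hx) y (Subgroup.mem_sup_left hy)
  -- key facts on n-th powers, n = |W₂|
  have hA : ∀ t ∈ W₁ ⊔ W₂, t ^ Nat.card W₂ ∈ W₁ := by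
    intro t ht
    obtain ⟨a, ha, b, hb, rfl⟩ := mem_sup_of_commute W₁ W₂ hcomm ht
    rw [pow_card_right W₂ hb (hcomm a ha b hb)]
    exact Subgroup.pow_mem _ ha _
  have hB : ∀ t ∈ W₁ ⊔ W₂, t ∉ W₂ → t ^ Nat.card W₂ ≠ 1 := by
    intro t ht htW₂ hpow
    obtain ⟨a, ha, b, hb, rfl⟩ := mem_sup_of_commute W₁ W₂ hcomm ht
    rw [pow_card_right W₂ hb (hcomm a ha b hb)] at hpow
    have : a = 1 := eq_one_of_pow_coprime W₁ ha hcop hpow
    apply htW₂
    rw [this, one_mul]; exact hb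
  refine ⟨hW₁, hW₂, hW₁W₂, hcomm, hWcyc, ?_⟩
  intro X hX hXne
  have hXW : ∀ t ∈ X, t ∈ W₁ ⊔ W₂ := fun t ht => (hX ht).1
  have hXW₂ : ∀ t ∈ X, t ∉ W₂ := fun t ht h => (hX ht).2 (Or.inr h)
  apply le_antisymm
  · -- normalizer ≤ W
    intro g hg
    obtain ⟨t, htX⟩ := hXne
    rw [Subgroup.mem_set_normalizer_iff] at hg
    have ht'X : g * t * g⁻¹ ∈ X := (hg t).1 htX
    set s := t ^ Nat.card W₂ with hs
    have hsW₁ : s ∈ W₁ := hA t (hXW t htX)
    have hs1 : s ≠ 1 := hB t (hXW t htX) (hXW₂ t htX)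
    have hs'W₁ : g * s * g⁻¹ ∈ W₁ := by
      have := hA _ (hXW _ ht'X)
      rwa [conj_pow] at this
    -- decompose g
    have hgtop : g ∈ K ⊔ W₁ := by rw [hKW₁']; trivial
    obtain ⟨k, hk, w, hw, rfl⟩ := Subgroup.mem_sup_of_normal_left.1 hgtop
    have hws : w * s * w⁻¹ = s := by
      rw [hW₁comm w hw s hsW₁, mul_inv_cancel_right]
    have hconj : k * w * s * (k * w)⁻¹ = k * s * k⁻¹ := by
      calc k * w * s * (k * w)⁻¹ = k * (w * s * w⁻¹) * k⁻¹ := by group
        _ = k * s * k⁻¹ := by rw [hws]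
    rw [hconj] at hs'W₁
    have hc : k * s * k⁻¹ * s⁻¹ ∈ K ⊓ W₁ := by
      constructor
      · have : k * s * k⁻¹ * s⁻¹ = k * (s * k⁻¹ * s⁻¹) := by group
        rw [this]
        exact K.mul_mem hk (hK.conj_mem _ (K.inv_mem hk) s)
      · exact W₁.mul_mem hs'W₁ (W₁.inv_mem hsW₁)
    rw [hKW₁, Subgroup.mem_bot] at hc
    have hks : s * k = k * s := by
      have h1 : k * s * k⁻¹ = s := by
        have := mul_inv_eq_one.1 hc
        exact this
      calc s * k = (k * s * k⁻¹) * k := by rw [h1]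
        _ = k * s := by group
    have hkW₂ : k ∈ W₂ := by
      rw [← hC s hsW₁ hs1]
      refine ⟨hk, ?_⟩
      show k ∈ Subgroup.centralizer ({s} : Set L)
      rw [Subgroup.mem_centralizer_iff]
      intro h hh
      rw [Set.mem_singleton_iff] at hh
      rw [hh]; exact hks
    exact Subgroup.mul_mem _ (Subgroup.mem_sup_right hkW₂) (Subgroup.mem_sup_left hw)
  · -- W ≤ normalizer
    intro w hw
    rw [Subgroup.mem_set_normalizer_iff]
    intro h
    constructor
    · intro hh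
      have : w * h * w⁻¹ = h := by
        rw [hWcomm w hw h (hXW h hh), mul_inv_cancel_right]
      rw [this]; exact hh
    · intro hh
      have h1 : w * (w * h * w⁻¹) = (w * h * w⁻¹) * w := hWcomm w hw _ (hXW _ hh)
      have : h = w * h * w⁻¹ := by
        have h2 : w * h = w * h * w⁻¹ * w := by group
        have h3 : w * h = w * (w * h * w⁻¹) := by rw [h1]; exact h2
        exact mul_left_cancel h3
      rw [this]; exact hh

end Cfsg.Agent.S1510
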