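import Cfsg.Statements.S1512
import Cfsg.Agent.Lib.Helper13.Glauberman

set_option autoImplicit false
open Cfsg

namespace Cfsg.Agent.S1512

/-- Let K be a normal subgroup of the finite group L and x a non-identity element whose order is coprime to the order of K, such that K ⊓ C_L(y) = W₂ for every non-identity element y of the cyclic group generated by x. Then the number of conjugacy classes of K mapped to themselves by conjugation by x is at most Nat.card W₂. -/
theorem result {L : Type*} [Group L] [Finite L] (K W₂ : Subgroup L) [hK : K.Normal] (x : L) (hx1 : x ≠ 1) (hx : Nat.Coprime (orderOf x) (Nat.card K)) (hC : ∀ y ∈ Subgroup.zpowers x, y ≠ 1 → K ⊓ Subgroup.centralizer ({y} : Set L) = W₂) : Nat.card {C : ConjClasses K // ConjClasses.map (MulEquiv.toMonoidHom ((MulAut.conjNormal x : MulAut K))) C = C} ≤ Nat.card W₂ := by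
  classical
  obtain ⟨A, hA⟩ : ∃ A : Subgroup L, A = Subgroup.zpowers x := ⟨_, rfl⟩
  have hxA : x ∈ A := by rw [hA]; exact Subgroup.mem_zpowers x
  have hAK : A ≤ Subgroup.normalizer (K : Set L) := by
    rw [Subgroup.normalizer_eq_top]; exact le_top
  have hcop : (Nat.card A).Coprime (Nat.card K) := by
    rw [hA, Nat.card_zpowers]; exact hx
  have hsolv : Group.IsSolvable A := by
    rw [hA]
    apply Group.isSolvable_of_comm
    rintro ⟨a, ha⟩ ⟨b, hb⟩
    obtain ⟨m, rfl⟩ := Subgroup.mem_zpowers_iff.mp ha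
    obtain ⟨n, rfl⟩ := Subgroup.mem_zpowers_iff.mp hb
    apply Subtype.ext
    show x ^ m * x ^ n = x ^ n * x ^ m
    rw [← zpow_add, ← zpow_add, add_comm]
  have claim : ∀ C : {C : ConjClasses K //
      ConjClasses.map (MulEquiv.toMonoidHom ((MulAut.conjNormal x : MulAut K))) C = C},
      ∃ w : W₂, ∃ h : (w : L) ∈ K, ConjClasses.mk (⟨(w : L), h⟩ : K) = C.val := by
    rintro ⟨C, hCinv⟩
    obtain ⟨S, hSdef⟩ : ∃ S : Set L,
        S = {l : L | ∃ h : l ∈ K, ConjClasses.mk (⟨l, h⟩ : K) = C} := ⟨_, rfl⟩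
    have hS : S.Nonempty := by
      obtain ⟨k, hk⟩ := ConjClasses.mk_surjective C
      exact ⟨(k : L), by rw [hSdef]; exact ⟨k.2, hk⟩⟩
    have htrans : ∀ a ∈ S, ∀ b ∈ S, ∃ k ∈ K, k * a * k⁻¹ = b := by
      intro a ha b hb
      rw [hSdef] at ha hb
      obtain ⟨ha1, ha2⟩ := ha
      obtain ⟨hb1, hb2⟩ := hb
      have hconj : IsConj (⟨a, ha1⟩ : K) ⟨b, hb1⟩ :=
        ConjClasses.mk_eq_mk_iff_isConj.mp (ha2.trans hb2.symm)
      obtain ⟨c, hc⟩ := isConj_iff.mp hconj
      refine ⟨(c : L), c.2, ?_⟩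
      have h2 := congrArg Subtype.val hc
      simpa using h2
    have hKS : ∀ k ∈ K, ∀ a ∈ S, k * a * k⁻¹ ∈ S := by
      intro k hk a ha
      rw [hSdef] at ha ⊢
      obtain ⟨ha1, ha2⟩ := ha
      refine ⟨K.mul_mem (K.mul_mem hk ha1) (K.inv_mem hk), ?_⟩
      rw [← ha2]
      apply ConjClasses.mk_eq_mk_iff_isConj.mpr
      apply isConj_iff.mpr
      refine ⟨(⟨k, hk⟩ : K)⁻¹, ?_⟩
      apply Subtype.ext
      simp [mul_assoc]
    have hxS : ∀ a ∈ S, x * a * x⁻¹ ∈ S := by
      intro a ha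
      rw [hSdef] at ha ⊢
      obtain ⟨ha1, ha2⟩ := ha
      refine ⟨hK.conj_mem a ha1 x, ?_⟩
      have h1 : ConjClasses.map (MulEquiv.toMonoidHom ((MulAut.conjNormal x : MulAut K)))
          (ConjClasses.mk (⟨a, ha1⟩ : K)) =
          ConjClasses.mk (⟨x * a * x⁻¹, hK.conj_mem a ha1 x⟩ : K) := by
        show ConjClasses.mk _ = ConjClasses.mk _
        exact congrArg ConjClasses.mk (Subtype.ext (by simp [MulAut.conjNormal_apply]))
      rw [← h1, ha2, hCinv]
    have hAS : ∀ a' ∈ A, ∀ a ∈ S, a' * a * a'⁻¹ ∈ S := by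
      intro a' ha' a ha
      rw [hA, ← mem_powers_iff_mem_zpowers] at ha'
      obtain ⟨n, rfl⟩ := (Submonoid.mem_powers_iff _ _).mp ha'
      clear ha'
      induction n generalizing a with
      | zero => simpa using ha
      | succ n ih =>
        have h3 : x ^ (n + 1) * a * (x ^ (n + 1))⁻¹ = x ^ n * (x * a * x⁻¹) * (x ^ n)⁻¹ := by
          rw [pow_succ]; group
        rw [h3]
        exact ih _ (hxS a ha)
    obtain ⟨s, hsS, hsfix⟩ := @Cfsg.Agent.Lib.Helper13.glauberman_exists L _ _ L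
      (MulAction.compHom L (MulAut.conj (G := L))) A K hAK hcop (Or.inl hsolv) S hS htrans hKS hAS
    rw [hSdef] at hsS
    obtain ⟨hsK, hsC⟩ := hsS
    have hfix : x * s * x⁻¹ = s := hsfix x hxA
    have hsW : s ∈ W₂ := by
      rw [← hC x (Subgroup.mem_zpowers x) hx1, Subgroup.mem_inf]
      refine ⟨hsK, ?_⟩
      rw [Subgroup.mem_centralizer_iff]
      intro y hy
      rw [Set.mem_singleton_iff] at hy
      rw [hy]
      calc x * s = x * s * x⁻¹ * x := by group
        _ = s * x := by rw [hfix]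
    exact ⟨⟨s, hsW⟩, hsK, hsC⟩
  choose f hfK hfC using claim
  have hinj : Function.Injective f := by
    intro C C' h
    apply Subtype.ext
    rw [← hfC C, ← hfC C']
    have h4 : (⟨(f C : L), hfK C⟩ : K) = ⟨(f C' : L), hfK C'⟩ := Subtype.ext (by show (f C : L) = (f C' : L); rw [h])
    rw [h4]
  exact Nat.card_le_card_of_injective f hinj

end Cfsg.Agent.S1512
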