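import Cfsg.Statements.S1514
import Cfsg.Agent.Lib.Helper26.GenChar

set_option autoImplicit false
open Cfsg

namespace Cfsg.Agent.S1514
open Cfsg.Agent.Lib.Helper26

/-- Let S be a nonempty set of irreducible characters of the finite group L, closed under complex conjugation and containing no real-valued member, and τ a linear isometry on the integer combinations of S vanishing at 1, with values virtual characters of G vanishing at 1. Then there is a choice R making (S, τ, R) a coherence system. -/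
theorem result {L : Type*} [Group L] [Fintype L] {G : Type*} [Group G] [Fintype G] (S : Set (L → ℂ)) (hS : S.Nonempty) (hirr : ∀ χ ∈ S, Cfsg.IsIrrCharacter L χ) (hconj : ∀ χ ∈ S, Cfsg.conjFun χ ∈ S ∧ Cfsg.conjFun χ ≠ χ) (τ : (L → ℂ) → (G → ℂ)) (hτ : Cfsg.IsLinearIsometryOn (Cfsg.zspanOn S {1}ᶜ) τ) (hτ1 : ∀ α ∈ Cfsg.zspanOn S {1}ᶜ, τ α 1 = 0) : ∃ R : (L → ℂ) → Finset (G → ℂ), Cfsg.IsCoherenceSystem S τ R := by
  classical
  have hmem : ∀ χ ∈ S, χ - conjFun χ ∈ zspanOn S {1}ᶜ := by
    intro χ hχ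
    refine ⟨Submodule.sub_mem _ (Submodule.subset_span hχ)
      (Submodule.subset_span (hconj χ hχ).1), ?_⟩
    intro x hx
    have hx1 : x = 1 := by simpa using hx
    subst hx1
    obtain ⟨n, -, hn⟩ := irr_degree (hirr χ hχ)
    simp [conjFun, hn]
  have hnorm : ∀ χ ∈ S, classInner (χ - conjFun χ) (χ - conjFun χ) = 2 := by
    intro χ hχ
    have h1 := hirr χ hχ
    have h2 := hirr _ (hconj χ hχ).1
    have hne := (hconj χ hχ).2
    rw [classInner_sub_left, classInner_sub_right, classInner_sub_right, classInner_irr h1 h1,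
      classInner_irr h1 h2, classInner_irr h2 h1, classInner_irr h2 h2]
    simp only [if_true, if_neg hne, if_neg (Ne.symm hne)]
    norm_num
  have key : ∀ χ : L → ℂ, ∃ μ₁ μ₂ : G → ℂ, χ ∈ S → (IsIrrCharacter G μ₁ ∧ IsIrrCharacter G μ₂ ∧
      μ₁ ≠ μ₂ ∧ τ (χ - conjFun χ) = μ₁ - μ₂) := by
    intro χ
    by_cases hχ : χ ∈ S
    · have hm := hmem χ hχ
      have hn : classInner (τ (χ - conjFun χ)) (τ (χ - conjFun χ)) = 2 := by
        rw [hτ.2.2.1 _ hm _ hm, hnorm χ hχ]
      obtain ⟨μ₁, μ₂, h1, h2, h3, h4⟩ := genChar_norm_two (hτ.2.2.2 _ hm) hn (hτ1 _ hm)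
      exact ⟨μ₁, μ₂, fun _ => ⟨h1, h2, h3, h4⟩⟩
    · exact ⟨0, 0, fun h => absurd h hχ⟩
  choose m₁ m₂ hm using key
  have hne' : ∀ χ ∈ S, m₁ χ ≠ -m₂ χ := fun χ hχ => irr_ne_neg_irr (hm χ hχ).1 (hm χ hχ).2.1
  refine ⟨fun χ => {m₁ χ, -m₂ χ}, ?_⟩
  refine
    { nonempty := hS
      isCharacter := fun χ hχ => isCharacter_of_isIrrCharacter (hirr χ hχ)
      conj_mem := fun χ hχ => (hconj χ hχ).1
      conj_ne := fun χ hχ => (hconj χ hχ).2
      isometry := hτ
      map_one := hτ1
      orthogonal := ?_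
      orthonormal := ?_
      virtual := ?_
      sum_eq := ?_
      disjoint := ?_ }
  · intro χ hχ φ hφ hne
    rw [classInner_irr (hirr χ hχ) (hirr φ hφ), if_neg hne]
  · intro χ hχ α hα β hβ
    obtain ⟨h1, h2, h3, h4⟩ := hm χ hχ
    simp only [Finset.mem_insert, Finset.mem_singleton] at hα hβ
    have e11 : classInner (m₁ χ) (m₁ χ) = 1 := by rw [classInner_irr h1 h1, if_pos rfl]
    have e22 : classInner (m₂ χ) (m₂ χ) = 1 := by rw [classInner_irr h2 h2, if_pos rfl]
    have e12 : classInner (m₁ χ) (m₂ χ) = 0 := by rw [classInner_irr h1 h2, if_neg h3]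
    have e21 : classInner (m₂ χ) (m₁ χ) = 0 := by rw [classInner_irr h2 h1, if_neg (Ne.symm h3)]
    rcases hα with rfl | rfl <;> rcases hβ with rfl | rfl
    · rw [if_pos rfl, e11]
    · rw [if_neg (hne' χ hχ), classInner_neg_right, e12, neg_zero]
    · rw [if_neg (Ne.symm (hne' χ hχ)), classInner_neg_left, e21, neg_zero]
    · rw [if_pos rfl, classInner_neg_left, classInner_neg_right, e22, neg_neg]
  · intro χ hχ α hα
    obtain ⟨h1, h2, h3, h4⟩ := hm χ hχ
    simp only [Finset.mem_insert, Finset.mem_singleton] at hα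
    rcases hα with rfl | rfl
    · exact isGeneralizedCharacter_of_isCharacter (isCharacter_of_isIrrCharacter h1)
    · exact isGeneralizedCharacter_neg_of_isCharacter (isCharacter_of_isIrrCharacter h2)
  · intro χ hχ
    obtain ⟨h1, h2, h3, h4⟩ := hm χ hχ
    rw [Finset.sum_pair (hne' χ hχ), h4, sub_eq_add_neg]
  · intro χ hχ φ hφ h0 h0' α hα β hβ
    obtain ⟨a1, a2, a3, a4⟩ := hm χ hχ
    obtain ⟨b1, b2, b3, b4⟩ := hm φ hφ
    have hcross : classInner (m₁ φ - m₂ φ) (m₁ χ - m₂ χ) = 0 := by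
      rw [← b4, ← a4, hτ.2.2.1 _ (hmem φ hφ) _ (hmem χ hχ)]
      rw [classInner_sub_left, classInner_sub_right, classInner_sub_right, h0, h0']
      have e1 : classInner (conjFun φ) χ = 0 := by
        have := classInner_conjFun_conjFun φ (conjFun χ)
        rw [conjFun_conjFun, h0', map_zero] at this
        exact this
      have e2 : classInner (conjFun φ) (conjFun χ) = 0 := by
        rw [classInner_conjFun_conjFun, h0, map_zero]
      rw [e1, e2]
      norm_num
    obtain ⟨c1, c2, c3, c4⟩ := cross_zero b1 b2 a1 a2 b3 a3 hcross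
    simp only [Finset.mem_insert, Finset.mem_singleton] at hα hβ
    rcases hα with rfl | rfl <;> rcases hβ with rfl | rfl
    · exact c1
    · rw [classInner_neg_right, c2, neg_zero]
    · rw [classInner_neg_left, c3, neg_zero]
    · rw [classInner_neg_left, classInner_neg_right, c4, neg_zero, neg_zero]

end Cfsg.Agent.S1514
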