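import Cfsg.Statements.S1515
import Cfsg.Agent.Lib.Helper26.CharInt

set_option autoImplicit false
open Cfsg

namespace Cfsg.Agent.S1515

open Cfsg.Agent.Lib.Helper26
open scoped ComplexConjugate

/-- Let (S, τ, R) be a coherence system from L to G, χ ∈ S, and ψ an integer combination of S with ⟨χ, ψ⟩ = ⟨conj χ, ψ⟩ = 0. Let τ₁ be a linear isometry on the integer combinations of χ − ψ and χ − conj χ, with virtual-character values, agreeing with τ on integer multiples of χ − conj χ. Then the sum over α ∈ R χ of the squared absolute values of ⟨τ₁(χ − ψ), α⟩ is at least ⟨χ, χ⟩; and if ⟨τ₁(χ − ψ), τ₁(χ − ψ)⟩ minus that sum is at least ⟨ψ, ψ⟩, then the sum equals ⟨χ, χ⟩ and every ⟨τ₁(χ − ψ), α⟩ with α ∈ R χ is 0 or 1. -/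
theorem result {L : Type*} [Group L] [Fintype L] {G : Type*} [Group G] [Fintype G] (S : Set (L → ℂ)) (τ : (L → ℂ) → (G → ℂ)) (R : (L → ℂ) → Finset (G → ℂ)) (hS : Cfsg.IsCoherenceSystem S τ R) (χ : L → ℂ) (hχ : χ ∈ S) (ψ : L → ℂ) (hψ : ψ ∈ Cfsg.zspan S) (h1 : Cfsg.classInner χ ψ = 0) (h2 : Cfsg.classInner (Cfsg.conjFun χ) ψ = 0) (τ₁ : (L → ℂ) → (G → ℂ)) (hτ₁ : Cfsg.IsLinearIsometryOn (Cfsg.zspan {χ - ψ, χ - Cfsg.conjFun χ}) τ₁) (hagree : ∀ n : ℤ, τ₁ (n • (χ - Cfsg.conjFun χ)) = τ (n • (χ - Cfsg.conjFun χ))) : (Cfsg.classInner χ χ).re ≤ ∑ α ∈ R χ, ‖Cfsg.classInner (τ₁ (χ - ψ)) α‖ ^ 2 ∧ ((Cfsg.classInner ψ ψ).re ≤ (Cfsg.classInner (τ₁ (χ - ψ)) (τ₁ (χ - ψ))).re - ∑ α ∈ R χ, ‖Cfsg.classInner (τ₁ (χ - ψ)) α‖ ^ 2 → (∑ α ∈ R χ, ‖Cfsg.classInner (τ₁ (χ - ψ)) α‖ ^ 2 = (Cfsg.classInner χ χ).re ∧ ∀ α ∈ R χ, Cfsg.classInner (τ₁ (χ - ψ)) α = 0 ∨ Cfsg.classInner (τ₁ (χ - ψ)) α = 1)) := by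
  classical
  obtain ⟨_, _, hiso, hvirt⟩ := hτ₁
  have hmem1 : χ - ψ ∈ Cfsg.zspan {χ - ψ, χ - Cfsg.conjFun χ} :=
    Submodule.subset_span (by simp)
  have hmem2 : χ - Cfsg.conjFun χ ∈ Cfsg.zspan {χ - ψ, χ - Cfsg.conjFun χ} :=
    Submodule.subset_span (by simp)
  have hY : τ₁ (χ - Cfsg.conjFun χ) = ∑ α ∈ R χ, α := by
    have := hagree 1
    rw [one_smul] at this
    rw [this, hS.sum_eq χ hχ]
  have hχc : Cfsg.classInner χ (Cfsg.conjFun χ) = 0 :=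
    hS.orthogonal χ hχ (Cfsg.conjFun χ) (hS.conj_mem χ hχ) (Ne.symm (hS.conj_ne χ hχ))
  have hψχ : Cfsg.classInner ψ χ = 0 := by rw [← classInner_conj_symm, h1, map_zero]
  have hψχc : Cfsg.classInner ψ (Cfsg.conjFun χ) = 0 := by
    rw [← classInner_conj_symm, h2, map_zero]
  have hXY : Cfsg.classInner (τ₁ (χ - ψ)) (τ₁ (χ - Cfsg.conjFun χ)) = Cfsg.classInner χ χ := by
    rw [hiso _ hmem1 _ hmem2, classInner_sub_left, classInner_sub_right, classInner_sub_right,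
      hχc, hψχ, hψχc]
    ring
  have hXX : Cfsg.classInner (τ₁ (χ - ψ)) (τ₁ (χ - ψ)) =
      Cfsg.classInner χ χ + Cfsg.classInner ψ ψ := by
    rw [hiso _ hmem1 _ hmem1, classInner_sub_left, classInner_sub_right, classInner_sub_right,
      h1, hψχ]
    ring
  have hsum : ∑ α ∈ R χ, Cfsg.classInner (τ₁ (χ - ψ)) α = Cfsg.classInner χ χ := by
    rw [← hXY, hY, classInner_sum_right]
  have hint : ∀ α ∈ R χ, ∃ k : ℤ, Cfsg.classInner (τ₁ (χ - ψ)) α = k := fun α hα =>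
    classInner_generalized_int (hvirt _ hmem1) (hS.virtual χ hχ α hα)
  choose! k hk using hint
  have hnorm : ∀ α ∈ R χ, ‖Cfsg.classInner (τ₁ (χ - ψ)) α‖ ^ 2 = ((k α : ℤ) : ℝ) ^ 2 := by
    intro α hα
    rw [hk α hα, Complex.norm_intCast, sq_abs]
  have hsumZ : Cfsg.classInner χ χ = ((∑ α ∈ R χ, k α : ℤ) : ℂ) := by
    rw [← hsum]
    push_cast
    exact Finset.sum_congr rfl hk
  have hre : (Cfsg.classInner χ χ).re = ((∑ α ∈ R χ, k α : ℤ) : ℝ) := by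
    rw [hsumZ, Complex.intCast_re]
  have hsq : ∑ α ∈ R χ, ‖Cfsg.classInner (τ₁ (χ - ψ)) α‖ ^ 2 =
      ((∑ α ∈ R χ, (k α) ^ 2 : ℤ) : ℝ) := by
    rw [Finset.sum_congr rfl hnorm]
    push_cast
    rfl
  have hle : ∀ α ∈ R χ, k α ≤ (k α) ^ 2 := fun α _ => Int.le_self_sq (k α)
  have hZ : ∑ α ∈ R χ, k α ≤ ∑ α ∈ R χ, (k α) ^ 2 := Finset.sum_le_sum hle
  constructor
  · rw [hre, hsq]
    exact_mod_cast hZ
  · intro hyp
    have hXXre : (Cfsg.classInner (τ₁ (χ - ψ)) (τ₁ (χ - ψ))).re =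
        (Cfsg.classInner χ χ).re + (Cfsg.classInner ψ ψ).re := by
      rw [hXX, Complex.add_re]
    have hge : ∑ α ∈ R χ, ‖Cfsg.classInner (τ₁ (χ - ψ)) α‖ ^ 2 ≤ (Cfsg.classInner χ χ).re := by
      linarith
    have heqZ : ∑ α ∈ R χ, k α = ∑ α ∈ R χ, (k α) ^ 2 := by
      rw [hre, hsq] at hge
      have : (∑ α ∈ R χ, (k α) ^ 2 : ℤ) ≤ ∑ α ∈ R χ, k α := by exact_mod_cast hge
      exact le_antisymm hZ this
    constructor
    · rw [hre, hsq]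
      exact_mod_cast heqZ.symm
    · intro α hα
      have hterm : k α = (k α) ^ 2 := (Finset.sum_eq_sum_iff_of_le hle).1 heqZ α hα
      have h01 : k α = 0 ∨ k α = 1 := by
        have h' : k α * (k α - 1) = 0 := by
          have : k α * (k α - 1) = (k α) ^ 2 - k α := by ring
          rw [this, ← hterm, sub_self]
        rcases mul_eq_zero.1 h' with h | h
        · left; exact h
        · right; omega
      rcases h01 with h | h
      · left; rw [hk α hα, h]; simp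
      · right; rw [hk α hα, h]; simp

end Cfsg.Agent.S1515
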