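import Cfsg.Statements.S1516
import Cfsg.Agent.Lib.Helper26.CohExt

set_option autoImplicit false
open Cfsg

namespace Cfsg.Agent.S1516
open Cfsg.Agent.Lib.Helper26

/-- Let (S, τ, R) be a coherence system from L to G with degrees φ 1 = d φ and squared norms ⟨φ, φ⟩ = n φ for φ ∈ S. Let S₁ ⊆ S be a finite subset closed under complex conjugation such that (S₁, L minus 1, τ) is coherent, let χ ∈ S with χ ∉ S₁ and conj χ ∉ S₁, and let χ₁ ∈ S₁ with d χ₁ dividing d χ and 2 d χ d χ₁ < Σ_{φ ∈ S₁} (d φ)² / n φ. Then S₁ together with χ and conj χ is coherent. -/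
theorem result {L : Type*} [Group L] [Fintype L] {G : Type*} [Group G] [Fintype G] (S : Set (L → ℂ)) (τ : (L → ℂ) → (G → ℂ)) (R : (L → ℂ) → Finset (G → ℂ)) (hS : Cfsg.IsCoherenceSystem S τ R) (d n : (L → ℂ) → ℕ) (hd : ∀ φ ∈ S, φ 1 = (d φ : ℂ)) (hn : ∀ φ ∈ S, Cfsg.classInner φ φ = (n φ : ℂ)) (S₁ : Finset (L → ℂ)) (hS₁ : ↑S₁ ⊆ S) (hS₁c : ∀ φ ∈ S₁, Cfsg.conjFun φ ∈ S₁) (hcoh : Cfsg.IsCoherent (↑S₁ : Set (L → ℂ)) {1}ᶜ τ) (χ : L → ℂ) (hχ : χ ∈ S) (hχ₁ : χ ∉ S₁) (hχ₂ : Cfsg.conjFun χ ∉ S₁) (χ₁ : L → ℂ) (hχ₁S : χ₁ ∈ S₁) (hdvd : d χ₁ ∣ d χ) (hineq : (2 * d χ * d χ₁ : ℝ) < ∑ φ ∈ S₁, ((d φ : ℝ) ^ 2 / (n φ : ℝ))) : Cfsg.IsCoherent (↑S₁ ∪ {χ, Cfsg.conjFun χ} : Set (L → ℂ)) {1}ᶜ τ := by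
  classical
  obtain ⟨_, τ₁, hτ₁, hagree⟩ := hcoh
  obtain ⟨h1add, h1smul, h1inner, h1gen⟩ := hτ₁
  obtain ⟨hadd, hsmul, hinner, hgen⟩ := hS.isometry
  obtain ⟨a, ha⟩ := hdvd
  have hχ₁mem : χ₁ ∈ S := hS₁ (Finset.mem_coe.mpr hχ₁S)
  have hχc : conjFun χ ∈ S := hS.conj_mem χ hχ
  have hmemS : ∀ φ ∈ S₁, φ ∈ S := fun φ hφ => hS₁ (Finset.mem_coe.mpr hφ)
  have hsp : ∀ φ ∈ S₁, φ ∈ zspan (↑S₁ : Set (L → ℂ)) :=
    fun φ hφ => Submodule.subset_span (Finset.mem_coe.mpr hφ)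
  have hne1 : ∀ φ ∈ S₁, φ ≠ χ := fun φ hφ h => hχ₁ (h ▸ hφ)
  have hne2 : ∀ φ ∈ S₁, φ ≠ conjFun χ := fun φ hφ h => hχ₂ (h ▸ hφ)
  have oφχ : ∀ φ ∈ S₁, classInner φ χ = 0 :=
    fun φ hφ => hS.orthogonal φ (hmemS φ hφ) χ hχ (hne1 φ hφ)
  have oχφ : ∀ φ ∈ S₁, classInner χ φ = 0 :=
    fun φ hφ => hS.orthogonal χ hχ φ (hmemS φ hφ) (Ne.symm (hne1 φ hφ))
  have oφχc : ∀ φ ∈ S₁, classInner φ (conjFun χ) = 0 :=
    fun φ hφ => hS.orthogonal φ (hmemS φ hφ) _ hχc (hne2 φ hφ)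
  have oχcφ : ∀ φ ∈ S₁, classInner (conjFun χ) φ = 0 :=
    fun φ hφ => hS.orthogonal _ hχc φ (hmemS φ hφ) (Ne.symm (hne2 φ hφ))
  have oχχc : classInner χ (conjFun χ) = 0 :=
    hS.orthogonal χ hχ _ hχc (Ne.symm (hS.conj_ne χ hχ))
  have oχcχ : classInner (conjFun χ) χ = 0 := hS.orthogonal _ hχc χ hχ (hS.conj_ne χ hχ)
  have Rorth : ∀ φ ∈ S₁, ∀ i ∈ R φ, ∀ α ∈ R χ, classInner i α = 0 :=
    fun φ hφ => hS.disjoint χ hχ φ (hmemS φ hφ) (oφχ φ hφ) (oφχc φ hφ)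
  have h1sub : ∀ x ∈ zspan (↑S₁ : Set (L → ℂ)), ∀ y ∈ zspan (↑S₁ : Set (L → ℂ)),
      τ₁ (x - y) = τ₁ x - τ₁ y := by
    intro x hx y hy
    have e : x - y = x + (-1 : ℤ) • y := by module
    rw [e, h1add x hx _ (zsmul_mem_zspan (-1) hy), h1smul y hy]
    module
  -- (A): τ₁ φ lies in the span of R φ, hence is orthogonal to R χ
  have hA : ∀ φ ∈ S₁, ∀ α ∈ R χ, classInner (τ₁ φ) α = 0 := by
    intro φ hφ α hα
    have hφc := hS₁c φ hφ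
    have mφ : φ - conjFun φ ∈ zspanOn (↑S₁ : Set (L → ℂ)) ({1}ᶜ : Set L) :=
      sub_conj_mem_zspanOn (Finset.mem_coe.mpr hφ) (Finset.mem_coe.mpr hφc)
        (hS.isCharacter φ (hmemS φ hφ))
    have hUV : τ₁ φ - τ₁ (conjFun φ) = ∑ i ∈ R φ, i := by
      rw [← h1sub φ (hsp φ hφ) _ (hsp _ hφc), hagree _ mφ, hS.sum_eq φ (hmemS φ hφ)]
    have hUV0 : classInner (τ₁ φ) (τ₁ (conjFun φ)) = 0 := by
      rw [h1inner φ (hsp φ hφ) _ (hsp _ hφc)]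
      exact hS.orthogonal φ (hmemS φ hφ) _ (hmemS _ hφc) (Ne.symm (hS.conj_ne φ (hmemS φ hφ)))
    exact cs_span_R hS (hmemS φ hφ) (τ₁ φ) (τ₁ (conjFun φ)) (h1gen φ (hsp φ hφ)) hUV
      (h1inner φ (hsp φ hφ) φ (hsp φ hφ)) hUV0 α (fun i hi => Rorth φ hφ i hi α hα)
  have hA' : ∀ φ ∈ S₁, ∀ α ∈ R χ, classInner α (τ₁ φ) = 0 := by
    intro φ hφ α hα
    rw [← classInner_conj_symm, hA φ hφ α hα, map_zero]
  have hdχ : χ 1 = (d χ₁ : ℂ) * (a : ℂ) := by rw [hd χ hχ, ha, Nat.cast_mul]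
  have hdχ₁ne : (d χ₁ : ℂ) ≠ 0 := by
    rw [← hd χ₁ hχ₁mem]
    exact isCharacter_one_ne_zero (hS.isCharacter χ₁ hχ₁mem) (cs_ne_zero hS hχ₁mem)
  have mβ : χ - (a : ℤ) • χ₁ ∈ zspanOn S ({1}ᶜ : Set L) := by
    rw [mem_zspanOn_compl_one]
    refine ⟨Submodule.sub_mem _ (Submodule.subset_span hχ)
      (Submodule.smul_mem _ _ (Submodule.subset_span hχ₁mem)), ?_⟩
    show χ 1 - (a : ℤ) • χ₁ 1 = 0
    rw [hdχ, hd χ₁ hχ₁mem, zsmul_eq_mul]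
    push_cast
    ring
  have mχχc : χ - conjFun χ ∈ zspanOn S ({1}ᶜ : Set L) :=
    sub_conj_mem_zspanOn hχ hχc (hS.isCharacter χ hχ)
  obtain ⟨X, hXdef⟩ : ∃ X, X = τ (χ - (a : ℤ) • χ₁) + (a : ℤ) • τ₁ χ₁ := ⟨_, rfl⟩
  have hβ : τ (χ - (a : ℤ) • χ₁) = X - (a : ℤ) • τ₁ χ₁ := by rw [hXdef]; abel
  have hXgen : IsGeneralizedCharacter G X := by
    rw [hXdef]
    exact isGeneralizedCharacter_add (hgen _ mβ)
      (isGeneralizedCharacter_zsmul (h1gen χ₁ (hsp χ₁ hχ₁S)) _)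
  obtain ⟨k, hk⟩ := classInner_generalized_int hXgen (h1gen χ₁ (hsp χ₁ hχ₁S))
  have hk' : classInner (τ₁ χ₁) X = (k : ℂ) := by
    rw [← classInner_conj_symm, hk, map_intCast]
  have key2 : ∀ φ ∈ S₁, (d χ₁ : ℂ) * classInner X (τ₁ φ) = (d φ : ℂ) * (k : ℂ) := by
    intro φ hφ
    obtain ⟨δ, hδdef⟩ : ∃ δ, δ = ((d χ₁ : ℕ) : ℤ) • φ + (-((d φ : ℕ) : ℤ)) • χ₁ := ⟨_, rfl⟩
    have hδsp : δ ∈ zspan (↑S₁ : Set (L → ℂ)) := by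
      rw [hδdef]
      exact add_mem_zspan (zsmul_mem_zspan _ (hsp φ hφ)) (zsmul_mem_zspan _ (hsp χ₁ hχ₁S))
    have hδ : δ ∈ zspanOn (↑S₁ : Set (L → ℂ)) ({1}ᶜ : Set L) := by
      rw [mem_zspanOn_compl_one]
      refine ⟨hδsp, ?_⟩
      rw [hδdef]
      show ((d χ₁ : ℕ) : ℤ) • φ 1 + (-((d φ : ℕ) : ℤ)) • χ₁ 1 = 0
      rw [hd φ (hmemS φ hφ), hd χ₁ hχ₁mem, zsmul_eq_mul, zsmul_eq_mul]
      push_cast
      ring
    have hδE : δ ∈ zspanOn S ({1}ᶜ : Set L) := ⟨zspan_mono hS₁ hδ.1, hδ.2⟩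
    have hτ₁δ : τ₁ δ = ((d χ₁ : ℕ) : ℤ) • τ₁ φ + (-((d φ : ℕ) : ℤ)) • τ₁ χ₁ := by
      rw [hδdef, h1add _ (zsmul_mem_zspan _ (hsp φ hφ)) _ (zsmul_mem_zspan _ (hsp χ₁ hχ₁S)),
        h1smul φ (hsp φ hφ), h1smul χ₁ (hsp χ₁ hχ₁S)]
    have t3 : classInner χ δ = 0 := by
      rw [hδdef, classInner_add_right, classInner_zsmul_right, classInner_zsmul_right,
        oχφ φ hφ, oχφ χ₁ hχ₁S, mul_zero, mul_zero, add_zero]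
    have t1 : classInner (τ (χ - (a : ℤ) • χ₁)) (τ₁ δ) = - (a : ℂ) * classInner χ₁ δ := by
      rw [hagree δ hδ, hinner _ mβ _ hδE, classInner_sub_left, classInner_zsmul_left, t3]
      push_cast
      ring
    have t2 : classInner (τ₁ χ₁) (τ₁ δ) = classInner χ₁ δ := h1inner _ (hsp χ₁ hχ₁S) _ hδsp
    have e1 : classInner X (τ₁ δ) = 0 := by
      rw [hXdef, classInner_add_left, classInner_zsmul_left, t1, t2]
      push_cast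
      ring
    rw [hτ₁δ, classInner_add_right, classInner_zsmul_right, classInner_zsmul_right, hk] at e1
    push_cast at e1
    linear_combination e1
  have hXX : classInner X X = (n χ : ℂ) + 2 * (a : ℂ) * (k : ℂ) := by
    have e2 := hinner _ mβ _ mβ
    rw [hβ] at e2
    simp only [classInner_sub_left, classInner_sub_right, classInner_zsmul_left,
      classInner_zsmul_right, hk, hk', h1inner χ₁ (hsp χ₁ hχ₁S) χ₁ (hsp χ₁ hχ₁S), hn χ₁ hχ₁mem,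
      hn χ hχ, oχφ χ₁ hχ₁S, oφχ χ₁ hχ₁S] at e2
    push_cast at e2
    linear_combination e2
  have hR1 : classInner (τ₁ χ₁) (∑ α ∈ R χ, α) = 0 := by
    rw [classInner_sum_right]
    exact Finset.sum_eq_zero (fun α hα => hA χ₁ hχ₁S α hα)
  have hR2 : classInner (τ (χ - (a : ℤ) • χ₁)) (∑ α ∈ R χ, α) = (n χ : ℂ) := by
    rw [← hS.sum_eq χ hχ, hinner _ mβ _ mχχc]
    simp only [classInner_sub_left, classInner_sub_right, classInner_zsmul_left]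
    rw [hn χ hχ, oχχc, oφχ χ₁ hχ₁S, oφχc χ₁ hχ₁S]
    ring
  have hXR : classInner X (∑ α ∈ R χ, α) = (n χ : ℂ) := by
    rw [hXdef, classInner_add_left, classInner_zsmul_left, hR1, hR2]; ring
  have hRX : classInner (∑ α ∈ R χ, α) X = (n χ : ℂ) := by
    rw [← classInner_conj_symm, hXR, Complex.conj_natCast]
  have hex : ∀ i : G → ℂ, ∃ m : ℤ, i ∈ R χ → classInner X i = m := by
    intro i
    by_cases hi : i ∈ R χ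
    · obtain ⟨m, hm⟩ := classInner_generalized_int hXgen (hS.virtual χ hχ i hi)
      exact ⟨m, fun _ => hm⟩
    · exact ⟨0, fun h => absurd h hi⟩
  choose e he using hex
  have hsumE : ∑ i ∈ R χ, e i = ((n χ : ℕ) : ℤ) := by
    have h : ((∑ i ∈ R χ, e i : ℤ) : ℂ) = (((n χ : ℕ) : ℤ) : ℂ) := by
      rw [Int.cast_sum, Int.cast_natCast, ← hXR, classInner_sum_right]
      exact (Finset.sum_congr rfl (fun i hi => he i hi)).symm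
    exact_mod_cast h
  obtain ⟨hB1, -⟩ := norm_sub_proj (R χ) (fun i => i) (hS.orthonormal χ hχ) X e he
  obtain ⟨Y, hY⟩ : ∃ Y, Y = X - ∑ i ∈ R χ, e i • i := ⟨_, rfl⟩
  have hYY : classInner Y Y = classInner X X - ∑ i ∈ R χ, ((e i : ℂ)) ^ 2 := by
    rw [hY]; exact hB1
  have hYφ : ∀ φ ∈ S₁, classInner Y (τ₁ φ) = classInner X (τ₁ φ) := by
    intro φ hφ
    rw [hY, classInner_sub_left, classInner_sum_left]
    have h0 : ∑ i ∈ R χ, classInner (e i • i) (τ₁ φ) = 0 := by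
      apply Finset.sum_eq_zero
      intro i hi
      rw [classInner_zsmul_left, hA' φ hφ i hi, mul_zero]
    rw [h0, sub_zero]
  have hE2 : ((n χ : ℕ) : ℤ) ≤ ∑ i ∈ R χ, (e i) ^ 2 := by
    rw [← hsumE]
    exact Finset.sum_le_sum (fun i _ => Int.le_self_sq (e i))
  have hnre : ∀ φ ∈ S₁, ((n φ : ℕ) : ℝ) ≠ 0 := by
    intro φ hφ
    have h := cs_norm_ne_zero hS (hmemS φ hφ)
    rw [hn φ (hmemS φ hφ)] at h
    exact_mod_cast h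
  have hdre : ((d χ₁ : ℕ) : ℝ) ≠ 0 := by exact_mod_cast hdχ₁ne
  have hv : ∀ φ ∈ S₁, ∀ θ ∈ S₁, classInner (τ₁ φ) (τ₁ θ) =
      if φ = θ then (((n φ : ℕ) : ℝ) : ℂ) else 0 := by
    intro φ hφ θ hθ
    rw [h1inner φ (hsp φ hφ) θ (hsp θ hθ)]
    split_ifs with h
    · subst h; rw [hn φ (hmemS φ hφ)]; simp
    · exact hS.orthogonal φ (hmemS φ hφ) θ (hmemS θ hθ) h
  have hY' : classInner Y Y =
      (((((n χ : ℕ) : ℤ) + 2 * ((a : ℕ) : ℤ) * k - ∑ i ∈ R χ, (e i) ^ 2 : ℤ) : ℝ) : ℂ) := by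
    rw [hYY, hXX]; push_cast; ring
  have hc : ∀ φ ∈ S₁, classInner Y (τ₁ φ) = (((k : ℝ) * (d φ : ℝ) / (d χ₁ : ℝ) : ℝ) : ℂ) := by
    intro φ hφ
    rw [hYφ φ hφ]
    push_cast
    rw [eq_div_iff hdχ₁ne]
    linear_combination key2 φ hφ
  have hbes : ∑ φ ∈ S₁, ((k : ℝ) * (d φ : ℝ) / (d χ₁ : ℝ)) ^ 2 / ((n φ : ℕ) : ℝ) ≤
      ((((n χ : ℕ) : ℤ) + 2 * ((a : ℕ) : ℤ) * k - ∑ i ∈ R χ, (e i) ^ 2 : ℤ) : ℝ) :=
    bessel_orth S₁ τ₁ (fun φ => ((n φ : ℕ) : ℝ))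
      (fun φ => (k : ℝ) * (d φ : ℝ) / (d χ₁ : ℝ)) _ hnre hv Y hY' hc
  have hfac : ∑ φ ∈ S₁, ((k : ℝ) * (d φ : ℝ) / (d χ₁ : ℝ)) ^ 2 / ((n φ : ℕ) : ℝ) =
      ((k : ℝ) ^ 2 / (d χ₁ : ℝ) ^ 2) * ∑ φ ∈ S₁, ((d φ : ℝ) ^ 2 / (n φ : ℝ)) := by
    rw [Finset.mul_sum]
    apply Finset.sum_congr rfl
    intro φ hφ
    have h := hnre φ hφ
    field_simp
  obtain ⟨Sr, hSr⟩ : ∃ Sr : ℝ, Sr = ∑ φ ∈ S₁, ((d φ : ℝ) ^ 2 / (n φ : ℝ)) := ⟨_, rfl⟩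
  rw [← hSr] at hfac hineq
  have hle : ((k : ℝ) ^ 2 / (d χ₁ : ℝ) ^ 2) * Sr ≤ 2 * (a : ℝ) * (k : ℝ) := by
    rw [← hfac]
    have h : ((((n χ : ℕ) : ℤ) + 2 * ((a : ℕ) : ℤ) * k - ∑ i ∈ R χ, (e i) ^ 2 : ℤ)) ≤
        2 * ((a : ℕ) : ℤ) * k := by linarith
    have h' : ((((n χ : ℕ) : ℤ) + 2 * ((a : ℕ) : ℤ) * k - ∑ i ∈ R χ, (e i) ^ 2 : ℤ) : ℝ) ≤
        ((2 * ((a : ℕ) : ℤ) * k : ℤ) : ℝ) := by exact_mod_cast h
    have h'' : ((2 * ((a : ℕ) : ℤ) * k : ℤ) : ℝ) = 2 * (a : ℝ) * (k : ℝ) := by push_cast; ring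
    rw [h''] at h'
    exact le_trans hbes h'
  have hdχr : ((d χ : ℕ) : ℝ) = (d χ₁ : ℝ) * (a : ℝ) := by rw [ha, Nat.cast_mul]
  have hle2 : (k : ℝ) ^ 2 * Sr ≤ (k : ℝ) * (2 * (d χ : ℝ) * (d χ₁ : ℝ)) := by
    have h1 : (k : ℝ) ^ 2 / (d χ₁ : ℝ) ^ 2 * Sr * (d χ₁ : ℝ) ^ 2 ≤
        2 * (a : ℝ) * (k : ℝ) * (d χ₁ : ℝ) ^ 2 :=
      mul_le_mul_of_nonneg_right hle (sq_nonneg _)
    have h2 : (k : ℝ) ^ 2 / (d χ₁ : ℝ) ^ 2 * Sr * (d χ₁ : ℝ) ^ 2 = (k : ℝ) ^ 2 * Sr := by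
      field_simp
    rw [h2] at h1
    calc (k : ℝ) ^ 2 * Sr ≤ 2 * (a : ℝ) * (k : ℝ) * (d χ₁ : ℝ) ^ 2 := h1
      _ = (k : ℝ) * (2 * (d χ : ℝ) * (d χ₁ : ℝ)) := by rw [hdχr]; ring
  have hm0 : (0 : ℝ) ≤ 2 * (d χ : ℝ) * (d χ₁ : ℝ) := by positivity
  have hk0 : k = 0 := by
    by_contra hk0
    rcases lt_or_gt_of_ne hk0 with hneg | hpos
    · have h1 : (k : ℝ) ≤ -1 := by exact_mod_cast (by omega : k ≤ -1)
      have h2 : (k : ℝ) * (2 * (d χ : ℝ) * (d χ₁ : ℝ)) ≤ 0 :=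
        mul_nonpos_of_nonpos_of_nonneg (by linarith) hm0
      have h3 : 0 < (k : ℝ) ^ 2 * Sr := by
        apply mul_pos
        · nlinarith
        · linarith
      linarith
    · have h1 : (1 : ℝ) ≤ (k : ℝ) := by exact_mod_cast (by omega : 1 ≤ k)
      have h2 : (k : ℝ) * Sr ≤ (k : ℝ) ^ 2 * Sr := by
        have h4 : (k : ℝ) ≤ (k : ℝ) ^ 2 := by nlinarith
        exact mul_le_mul_of_nonneg_right h4 (by linarith)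
      have h3 : (k : ℝ) * (2 * (d χ : ℝ) * (d χ₁ : ℝ)) < (k : ℝ) * Sr :=
        mul_lt_mul_of_pos_left hineq (by linarith)
      linarith
  have hXφ : ∀ φ ∈ S₁, classInner X (τ₁ φ) = 0 := by
    intro φ hφ
    have h := key2 φ hφ
    rw [hk0, Int.cast_zero, mul_zero] at h
    exact (mul_eq_zero.mp h).resolve_left hdχ₁ne
  have hφX : ∀ φ ∈ S₁, classInner (τ₁ φ) X = 0 := by
    intro φ hφ
    rw [← classInner_conj_symm, hXφ φ hφ, map_zero]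
  have hXX' : classInner X X = classInner χ χ := by
    rw [hXX, hk0, hn χ hχ]; simp
  obtain ⟨X', hX'def⟩ : ∃ X', X' = X - ∑ α ∈ R χ, α := ⟨_, rfl⟩
  have hRR : classInner (∑ α ∈ R χ, α) (∑ α ∈ R χ, α) = 2 * (n χ : ℂ) := by
    rw [classInner_sum_sum_orthonormal (R χ) (R χ) subset_rfl (hS.orthonormal χ hχ),
      cs_card_R' hS hχ, hn χ hχ]
  have hXX'0 : classInner X X' = 0 := by
    rw [hX'def, classInner_sub_right, hXR, hXX', hn χ hχ, sub_self]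
  have hX'X0 : classInner X' X = 0 := by
    rw [← classInner_conj_symm, hXX'0, map_zero]
  have hX'X' : classInner X' X' = classInner (conjFun χ) (conjFun χ) := by
    rw [classInner_conjFun_conjFun, hn χ hχ, Complex.conj_natCast, hX'def]
    simp only [classInner_sub_left, classInner_sub_right]
    rw [hXX', hXR, hRX, hRR, hn χ hχ]
    ring
  have hX'φ : ∀ φ ∈ S₁, classInner X' (τ₁ φ) = 0 := by
    intro φ hφ
    rw [hX'def, classInner_sub_left, hXφ φ hφ, classInner_sum_left,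
      Finset.sum_eq_zero (fun α hα => hA' φ hφ α hα), sub_zero]
  have hφX' : ∀ φ ∈ S₁, classInner (τ₁ φ) X' = 0 := by
    intro φ hφ
    rw [← classInner_conj_symm, hX'φ φ hφ, map_zero]
  have hX'gen : IsGeneralizedCharacter G X' := by
    rw [hX'def]
    exact isGeneralizedCharacter_sub hXgen
      (isGeneralizedCharacter_sum _ _ (fun i hi => hS.virtual χ hχ i hi))
  obtain ⟨Z, hZdef⟩ : ∃ Z : Set (L → ℂ), Z = (↑S₁ ∪ {χ, conjFun χ} : Set (L → ℂ)) := ⟨_, rfl⟩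
  rw [← hZdef]
  have hmemZ : ∀ ψ, ψ ∈ Z ↔ ψ ∈ S₁ ∨ ψ = χ ∨ ψ = conjFun χ := by
    intro ψ
    rw [hZdef, Set.mem_union, Finset.mem_coe, Set.mem_insert_iff, Set.mem_singleton_iff]
  have hZS : Z ⊆ S := by
    intro ψ hψ
    rcases (hmemZ ψ).mp hψ with h | h | h
    · exact hmemS ψ h
    · rw [h]; exact hχ
    · rw [h]; exact hχc
  obtain ⟨T, hTdef⟩ : ∃ T : (L → ℂ) → (G → ℂ),
      T = fun ψ => if ψ = χ then X else if ψ = conjFun χ then X' else τ₁ ψ := ⟨_, rfl⟩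
  have hTχ : T χ = X := by rw [hTdef]; exact if_pos rfl
  have hTχc : T (conjFun χ) = X' := by
    rw [hTdef]
    show (if conjFun χ = χ then X else if conjFun χ = conjFun χ then X' else τ₁ (conjFun χ)) = X'
    rw [if_neg (hS.conj_ne χ hχ), if_pos rfl]
  have hTφ : ∀ φ ∈ S₁, T φ = τ₁ φ := by
    intro φ hφ
    rw [hTdef]
    show (if φ = χ then X else if φ = conjFun χ then X' else τ₁ φ) = τ₁ φ
    rw [if_neg (hne1 φ hφ), if_neg (hne2 φ hφ)]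
  have hTgen : ∀ ψ ∈ Z, IsGeneralizedCharacter G (T ψ) := by
    intro ψ hψ
    rcases (hmemZ ψ).mp hψ with h | h | h
    · rw [hTφ ψ h]; exact h1gen ψ (hsp ψ h)
    · rw [h, hTχ]; exact hXgen
    · rw [h, hTχc]; exact hX'gen
  have hTinner : ∀ ψ ∈ Z, ∀ ψ' ∈ Z, classInner (T ψ) (T ψ') = classInner ψ ψ' := by
    intro ψ hψ ψ' hψ'
    rcases (hmemZ ψ).mp hψ with h | h | h <;> rcases (hmemZ ψ').mp hψ' with h' | h' | h'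
    · rw [hTφ ψ h, hTφ ψ' h']; exact h1inner ψ (hsp ψ h) ψ' (hsp ψ' h')
    · rw [hTφ ψ h, h', hTχ, hφX ψ h, oφχ ψ h]
    · rw [hTφ ψ h, h', hTχc, hφX' ψ h, oφχc ψ h]
    · rw [h, hTχ, hTφ ψ' h', hXφ ψ' h', oχφ ψ' h']
    · rw [h, h', hTχ, hXX']
    · rw [h, h', hTχ, hTχc, hXX'0, oχχc]
    · rw [h, hTχc, hTφ ψ' h', hX'φ ψ' h', oχcφ ψ' h']
    · rw [h, h', hTχ, hTχc, hX'X0, oχcχ]
    · rw [h, h', hTχc, hX'X']
  obtain ⟨τ₂, h2add, h2smul, h2Z, h2iso⟩ := exists_orth_glue Z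
    (fun ψ hψ φ hφ hne => hS.orthogonal ψ (hZS hψ) φ (hZS hφ) hne)
    (fun ψ hψ => cs_norm_ne_zero hS (hZS hψ)) T hTgen hTinner
  have hχZ : χ ∈ Z := (hmemZ χ).mpr (Or.inr (Or.inl rfl))
  have hχcZ : conjFun χ ∈ Z := (hmemZ _).mpr (Or.inr (Or.inr rfl))
  have hφZ : ∀ φ ∈ S₁, φ ∈ Z := fun φ hφ => (hmemZ φ).mpr (Or.inl hφ)
  refine ⟨⟨χ - conjFun χ, sub_conj_mem_zspanOn hχZ hχcZ (hS.isCharacter χ hχ), ?_⟩,
    τ₂, h2iso, ?_⟩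
  · intro h
    exact hS.conj_ne χ hχ (sub_eq_zero.mp h).symm
  have hdec : ∀ α ∈ zspan Z, ∃ γ ∈ zspan (↑S₁ : Set (L → ℂ)), ∃ p q : ℤ,
      α = γ + p • χ + q • conjFun χ := by
    intro α hα
    induction hα using Submodule.span_induction with
    | mem ψ hψ =>
      rcases (hmemZ ψ).mp hψ with h | h | h
      · exact ⟨ψ, hsp ψ h, 0, 0, by simp⟩
      · exact ⟨0, zero_mem_zspan _, 1, 0, by rw [h]; simp⟩
      · exact ⟨0, zero_mem_zspan _, 0, 1, by rw [h]; simp⟩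
    | zero => exact ⟨0, zero_mem_zspan _, 0, 0, by simp⟩
    | add x y _ _ ihx ihy =>
      obtain ⟨γ₁, hγ₁, p₁, q₁, e₁⟩ := ihx
      obtain ⟨γ₂, hγ₂, p₂, q₂, e₂⟩ := ihy
      exact ⟨γ₁ + γ₂, add_mem_zspan hγ₁ hγ₂, p₁ + p₂, q₁ + q₂, by rw [e₁, e₂]; module⟩
    | smul m x _ ih =>
      obtain ⟨γ₁, hγ₁, p₁, q₁, e₁⟩ := ih
      exact ⟨m • γ₁, zsmul_mem_zspan m hγ₁, m * p₁, m * q₁, by rw [e₁]; module⟩
  intro α hα
  obtain ⟨hαZ, hα1⟩ := mem_zspanOn_compl_one.mp hα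
  obtain ⟨γ, hγ, p, q, eq1⟩ := hdec α hαZ
  have hχc1 : conjFun χ 1 = (d χ₁ : ℂ) * (a : ℂ) := by
    show (starRingEnd ℂ) (χ 1) = _
    rw [hdχ, map_mul, Complex.conj_natCast, Complex.conj_natCast]
  obtain ⟨γ', hγ'def⟩ : ∃ γ', γ' = γ + ((p + q) * (a : ℤ)) • χ₁ := ⟨_, rfl⟩
  have hγ'sp : γ' ∈ zspan (↑S₁ : Set (L → ℂ)) := by
    rw [hγ'def]; exact add_mem_zspan hγ (zsmul_mem_zspan _ (hsp χ₁ hχ₁S))
  have hγ'On : γ' ∈ zspanOn (↑S₁ : Set (L → ℂ)) ({1}ᶜ : Set L) := by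
    rw [mem_zspanOn_compl_one]
    refine ⟨hγ'sp, ?_⟩
    have h1 : α 1 = γ 1 + (p : ℂ) * χ 1 + (q : ℂ) * conjFun χ 1 := by
      rw [eq1]; simp [Pi.add_apply, zsmul_eq_mul]
    rw [hα1, hdχ, hχc1] at h1
    rw [hγ'def]
    show γ 1 + ((p + q) * (a : ℤ)) • χ₁ 1 = 0
    rw [hd χ₁ hχ₁mem, zsmul_eq_mul]
    push_cast
    linear_combination (-1 : ℂ) * h1
  have hγ'E : γ' ∈ zspanOn S ({1}ᶜ : Set L) := ⟨zspan_mono hS₁ hγ'On.1, hγ'On.2⟩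
  have mβc : conjFun χ - (a : ℤ) • χ₁ ∈ zspanOn S ({1}ᶜ : Set L) := by
    rw [mem_zspanOn_compl_one]
    refine ⟨Submodule.sub_mem _ (Submodule.subset_span hχc)
      (Submodule.smul_mem _ _ (Submodule.subset_span hχ₁mem)), ?_⟩
    show conjFun χ 1 - (a : ℤ) • χ₁ 1 = 0
    rw [hχc1, hd χ₁ hχ₁mem, zsmul_eq_mul]
    push_cast
    ring
  have hβc : τ (conjFun χ - (a : ℤ) • χ₁) = X' - (a : ℤ) • τ₁ χ₁ := by
    have e3 : conjFun χ - (a : ℤ) • χ₁ = (χ - (a : ℤ) • χ₁) + (-1 : ℤ) • (χ - conjFun χ) := by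
      module
    rw [e3, hadd _ mβ _ (zsmul_mem_zspanOn_one (-1) mχχc), hsmul _ mχχc, hS.sum_eq χ hχ, hβ,
      hX'def]
    module
  have eα : α = γ' + p • (χ - (a : ℤ) • χ₁) + q • (conjFun χ - (a : ℤ) • χ₁) := by
    rw [eq1, hγ'def]; module
  have hτα : τ α = τ₁ γ' + p • (X - (a : ℤ) • τ₁ χ₁) + q • (X' - (a : ℤ) • τ₁ χ₁) := by
    rw [eα, hadd _ (add_mem_zspanOn_one hγ'E (zsmul_mem_zspanOn_one p mβ)) _
      (zsmul_mem_zspanOn_one q mβc), hadd _ hγ'E _ (zsmul_mem_zspanOn_one p mβ), hsmul _ mβ,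
      hsmul _ mβc, hβ, hβc, ← hagree γ' hγ'On]
  have hτ₁γ' : τ₁ γ' = τ₁ γ + ((p + q) * (a : ℤ)) • τ₁ χ₁ := by
    rw [hγ'def, h1add γ hγ _ (zsmul_mem_zspan _ (hsp χ₁ hχ₁S)), h1smul χ₁ (hsp χ₁ hχ₁S)]
  have hτ₂γ : τ₂ γ = τ₁ γ :=
    eq_on_zspan (↑S₁ : Set (L → ℂ)) τ₂ τ₁ (fun x _ y _ => h2add x y) (fun x _ m => h2smul m x)
      h1add h1smul
      (fun φ hφ => by
        rw [h2Z φ (hφZ φ (Finset.mem_coe.mp hφ)), hTφ φ (Finset.mem_coe.mp hφ)]) γ hγ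
  have hτ₂α : τ₂ α = τ₁ γ + p • X + q • X' := by
    rw [eq1, h2add, h2add, h2smul, h2smul, h2Z χ hχZ, h2Z _ hχcZ, hTχ, hTχc, hτ₂γ]
  rw [hτ₂α, hτα, hτ₁γ']
  module

end Cfsg.Agent.S1516
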