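import Mathlib
import Cfsg.Prelude
import Cfsg.Statements.S1518
import Cfsg.Agent.Lib.Helper7.DadeVF
import Cfsg.Agent.Lib.Helper28.DualRep
import Cfsg.Agent.Lib.Helper4.BurnsideClass
import Cfsg.Agent.Lib.Helper26.GenChar
import Cfsg.Agent.Lib.Helper26.CharBasic

set_option autoImplicit false
open Cfsg

namespace Cfsg.Agent.S1518

open scoped ComplexConjugate

section Aux
variable {G : Type*} [Group G] {A : Set G} {L : Subgroup G} {H : G → Subgroup G}

theorem dade_zero : dadeIsometry A L H (0 : L → ℂ) = 0 := by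
  funext g
  unfold dadeIsometry
  split_ifs <;> rfl

theorem dade_neg (α : L → ℂ) : dadeIsometry A L H (-α) = - dadeIsometry A L H α := by
  funext g
  unfold dadeIsometry
  rw [Pi.neg_apply]
  split_ifs
  · rfl
  · simp

theorem dade_conjFun (α : L → ℂ) :
    dadeIsometry A L H (conjFun α) = conjFun (dadeIsometry A L H α) := by
  funext g
  show dadeIsometry A L H (conjFun α) g = conj (dadeIsometry A L H α g)
  unfold dadeIsometry
  split_ifs
  · rfl
  · simp

theorem dade_one (hD : DadeHypothesis A L H) (α : L → ℂ) : dadeIsometry A L H α 1 = 0 := by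
  apply Cfsg.Agent.S1500.dade_apply_of_not
  rintro ⟨a, ha, x, u, hu, hx⟩
  have h1 : (a : G) * u = 1 := by rw [← hx]; group
  have h2 : (a : G) = u⁻¹ := eq_inv_of_mul_eq_one_left h1
  have h3 : (a : G) ∈ H (a : G) := by
    have := (H (a : G)).inv_mem hu
    rwa [← h2] at this
  have h4 : (a : G) ∈ H (a : G) ⊓ (L ⊓ Subgroup.centralizer ({(a : G)} : Set G)) := by
    refine Subgroup.mem_inf.mpr ⟨h3, Subgroup.mem_inf.mpr ⟨a.2, ?_⟩⟩
    rw [Subgroup.mem_centralizer_iff]
    intro y hy
    rw [Set.mem_singleton_iff] at hy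
    rw [hy]
  rw [hD.inf_eq_bot _ ha, Subgroup.mem_bot] at h4
  rw [h4] at ha
  exact hD.one_not_mem ha

end Aux

/-- Under the Dade hypothesis for (A, L, H): if χ is an irreducible character of L vanishing at every non-identity element of L outside A, then the Dade image of χ − conj χ equals μ − conj μ for some irreducible character μ of G. -/
theorem result {G : Type*} [Group G] [Fintype G] (A : Set G) (L : Subgroup G) [Fintype L] (H : G → Subgroup G) (hD : Cfsg.DadeHypothesis A L H) (χ : L → ℂ) (hχ : Cfsg.IsIrrCharacter L χ) (hsupp : ∀ x : L, x ≠ 1 → (x : G) ∉ A → χ x = 0) : ∃ μ : G → ℂ, Cfsg.IsIrrCharacter G μ ∧ Cfsg.dadeIsometry A L H (χ - Cfsg.conjFun χ) = μ - Cfsg.conjFun μ := by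
  classical
  have hχc : IsCharacter L χ := Cfsg.Agent.Lib.Helper26.isCharacter_of_isIrrCharacter hχ
  have hχbar : IsIrrCharacter L (conjFun χ) := Cfsg.Agent.Lib.Helper28.isIrrCharacter_conj hχ
  have hχbarc : IsCharacter L (conjFun χ) :=
    Cfsg.Agent.Lib.Helper26.isCharacter_of_isIrrCharacter hχbar
  by_cases hreal : χ = conjFun χ
  · refine ⟨fun _ => 1, Cfsg.Agent.Lib.Helper4.isIrrCharacter_one, ?_⟩
    have h0 : χ - conjFun χ = 0 := by rw [← hreal, sub_self]
    rw [h0, dade_zero]
    funext g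
    simp [conjFun]
  · -- β = χ - conj χ
    have hβ : IsGeneralizedCharacter L (χ - conjFun χ) := ⟨χ, conjFun χ, hχc, hχbarc, rfl⟩
    have hβcf : IsClassFunction L (χ - conjFun χ) :=
      Cfsg.Agent.Lib.Helper26.isClassFunction_of_isGeneralizedCharacter hβ
    have hβA : ∀ x : L, (x : G) ∉ A → (χ - conjFun χ) x = 0 := by
      intro x hx
      by_cases h1 : x = 1
      · obtain ⟨n, _, hn⟩ := Cfsg.Agent.Lib.Helper26.irr_degree hχ
        rw [h1]
        show χ 1 - conj (χ 1) = 0
        rw [hn, Complex.conj_natCast, sub_self]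
      · show χ x - conj (χ x) = 0
        rw [hsupp x h1 hx, map_zero, sub_zero]
    have hX : IsGeneralizedCharacter G (dadeIsometry A L H (χ - conjFun χ)) :=
      Cfsg.Agent.Lib.Helper7.DadeV.dade_virtual hD _ hβ hβA
    have hnorm : classInner (dadeIsometry A L H (χ - conjFun χ))
        (dadeIsometry A L H (χ - conjFun χ)) = 2 := by
      rw [(Cfsg.Agent.S1500.result A L H hD _ hβcf hβA).1 _ hβcf hβA]
      rw [Cfsg.Agent.Lib.Helper26.classInner_sub_left, Cfsg.Agent.Lib.Helper26.classInner_sub_right,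
        Cfsg.Agent.Lib.Helper26.classInner_sub_right,
        Cfsg.Agent.Lib.Helper26.classInner_irr hχ hχ,
        Cfsg.Agent.Lib.Helper26.classInner_irr hχ hχbar,
        Cfsg.Agent.Lib.Helper26.classInner_irr hχbar hχ,
        Cfsg.Agent.Lib.Helper26.classInner_irr hχbar hχbar,
        if_pos rfl, if_neg hreal, if_neg (fun h => hreal h.symm), if_pos rfl]
      norm_num
    obtain ⟨μ₁, μ₂, hμ₁, hμ₂, hne, hX12⟩ :=
      Cfsg.Agent.Lib.Helper26.genChar_norm_two hX hnorm (dade_one hD _)
    -- conjugation symmetry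
    have hconj : conjFun (dadeIsometry A L H (χ - conjFun χ))
        = - dadeIsometry A L H (χ - conjFun χ) := by
      rw [← dade_conjFun, ← dade_neg]
      congr 1
      funext x
      show conj (χ x - conj (χ x)) = -(χ x - conj (χ x))
      rw [map_sub, Complex.conj_conj]
      ring
    have hμ₁bar : IsIrrCharacter G (conjFun μ₁) := Cfsg.Agent.Lib.Helper28.isIrrCharacter_conj hμ₁
    have hμ₂bar : IsIrrCharacter G (conjFun μ₂) := Cfsg.Agent.Lib.Helper28.isIrrCharacter_conj hμ₂
    have hsum : conjFun μ₁ + μ₁ = conjFun μ₂ + μ₂ := by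
      rw [hX12] at hconj
      have h1 : conjFun (μ₁ - μ₂) = conjFun μ₁ - conjFun μ₂ := by
        funext g
        show conj (μ₁ g - μ₂ g) = conj (μ₁ g) - conj (μ₂ g)
        rw [map_sub]
      rw [h1] at hconj
      have h2 : conjFun μ₁ + μ₁ - (conjFun μ₂ + μ₂) = 0 := by
        have : conjFun μ₁ + μ₁ - (conjFun μ₂ + μ₂) = (conjFun μ₁ - conjFun μ₂) + (μ₁ - μ₂) := by
          ring
        rw [this, hconj]
        ring
      exact sub_eq_zero.mp h2
    have hinner : classInner (conjFun μ₁ + μ₁) μ₁ = classInner (conjFun μ₂ + μ₂) μ₁ := by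
      rw [hsum]
    rw [Cfsg.Agent.Lib.Helper26.classInner_add_left, Cfsg.Agent.Lib.Helper26.classInner_add_left,
      Cfsg.Agent.Lib.Helper26.classInner_irr hμ₁bar hμ₁,
      Cfsg.Agent.Lib.Helper26.classInner_irr hμ₁ hμ₁,
      Cfsg.Agent.Lib.Helper26.classInner_irr hμ₂bar hμ₁,
      Cfsg.Agent.Lib.Helper26.classInner_irr hμ₂ hμ₁] at hinner
    have e4 : (if μ₂ = μ₁ then (1 : ℂ) else 0) = 0 := if_neg (fun h => hne h.symm)
    have e2 : (if μ₁ = μ₁ then (1 : ℂ) else 0) = 1 := if_pos rfl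
    rw [e4, e2] at hinner
    have h21 : conjFun μ₂ = μ₁ := by
      by_contra h
      rw [if_neg h] at hinner
      split_ifs at hinner <;> norm_num at hinner
    have h12 : μ₂ = conjFun μ₁ := by
      rw [← h21, Cfsg.Agent.Lib.Helper26.conjFun_conjFun]
    exact ⟨μ₁, hμ₁, by rw [hX12, h12]⟩


end Cfsg.Agent.S1518
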