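import Cfsg.Statements.S1519
import Cfsg.Agent.Lib.Helper26.CohDescent
import Cfsg.Agent.S1516

set_option autoImplicit false
open Cfsg

namespace Cfsg.Agent.S1519
open Cfsg.Agent.Lib.Helper26

/-- Let K be a solvable normal subgroup of the finite group L and (S, τ, R) a coherence system from L to G where S is the set of functions induced from non-principal irreducible characters of K; write S(A) for those induced from characters whose kernel contains A. Let A, B, C, D be normal subgroups of L with A < K, B < K, B ≤ D ≤ C ≤ K and every commutator of D with C in B. If S(A) is coherent and 4 * [L:C]^2 * [C:D] < ([K:A] − 1)^2, then S(B) is coherent. -/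
theorem result {L : Type*} [Group L] [Fintype L] {G : Type*} [Group G] [Fintype G] (K : Subgroup L) [hK : K.Normal] (hsolv : Group.IsSolvable K) (τ : (L → ℂ) → (G → ℂ)) (R : (L → ℂ) → Finset (G → ℂ)) (hS : Cfsg.IsCoherenceSystem (Cfsg.inducedIrrAbove K ⊥) τ R) (A B C D : Subgroup L) [A.Normal] [B.Normal] [C.Normal] [D.Normal] (hAK : A < K) (hBK : B < K) (hBD : B ≤ D) (hDC : D ≤ C) (hCK : C ≤ K) (hcent : ∀ x ∈ D, ∀ y ∈ C, x * y * x⁻¹ * y⁻¹ ∈ B) (hA : Cfsg.IsCoherent (Cfsg.inducedIrrAbove K A) {1}ᶜ τ) (hlt : 4 * C.index ^ 2 * D.relIndex C < (A.relIndex K - 1) ^ 2) : Cfsg.IsCoherent (Cfsg.inducedIrrAbove K B) {1}ᶜ τ := by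
  classical
  obtain ⟨S, hSdef⟩ : ∃ S : Set (L → ℂ), S = inducedIrrAbove K (⊥ : Subgroup L) := ⟨_, rfl⟩
  rw [← hSdef] at hS
  have hsubA : inducedIrrAbove K A ⊆ S := by
    rw [hSdef]; exact inducedIrrAbove_subset_bot K A
  have hsubB : inducedIrrAbove K B ⊆ S := by
    rw [hSdef]; exact inducedIrrAbove_subset_bot K B
  have hSfin : S.Finite :=
    finite_of_orthogonal S hS.orthogonal (fun χ hχ => cs_norm_ne_zero hS hχ)
  obtain ⟨d, hd⟩ : ∃ d : (L → ℂ) → ℕ, ∀ φ ∈ S, φ 1 = (d φ : ℂ) := by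
    refine ⟨fun φ => if h : ∃ j : ℕ, φ 1 = (j : ℂ) then h.choose else 0, ?_⟩
    intro φ hφ
    have h := isCharacter_degree_nat (hS.isCharacter φ hφ)
    show φ 1 = ((if h : ∃ j : ℕ, φ 1 = (j : ℂ) then h.choose else 0 : ℕ) : ℂ)
    rw [dif_pos h]
    exact h.choose_spec
  obtain ⟨n, hn, hn0⟩ : ∃ n : (L → ℂ) → ℕ, (∀ φ ∈ S, classInner φ φ = (n φ : ℂ)) ∧
      ∀ φ ∈ S, n φ ≠ 0 := by
    refine ⟨fun φ => if h : ∃ j : ℕ, 0 < j ∧ classInner φ φ = (j : ℂ) then h.choose else 0,
      ?_, ?_⟩
    · intro φ hφ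
      have h := cs_norm hS hφ
      show classInner φ φ =
        ((if h : ∃ j : ℕ, 0 < j ∧ classInner φ φ = (j : ℂ) then h.choose else 0 : ℕ) : ℂ)
      rw [dif_pos h]
      exact h.choose_spec.2
    · intro φ hφ
      have h := cs_norm hS hφ
      show (if h : ∃ j : ℕ, 0 < j ∧ classInner φ φ = (j : ℂ) then h.choose else 0 : ℕ) ≠ 0
      rw [dif_pos h]
      exact h.choose_spec.1.ne'
  obtain ⟨ωA, hωA⟩ := exists_linear_inducedIrrAbove K A hsolv hAK
  obtain ⟨ωB, hωB⟩ := exists_linear_inducedIrrAbove K B hsolv hBK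
  obtain ⟨Sf, hSf⟩ : ∃ Sf : Finset (L → ℂ), (↑Sf : Set (L → ℂ)) = S :=
    ⟨hSfin.toFinset, hSfin.coe_toFinset⟩
  obtain ⟨SAf, hSAf⟩ : ∃ SAf : Finset (L → ℂ), (↑SAf : Set (L → ℂ)) = inducedIrrAbove K A :=
    ⟨(hSfin.subset hsubA).toFinset, (hSfin.subset hsubA).coe_toFinset⟩
  have hSAmem : ∀ φ ∈ SAf, φ ∈ S := by
    intro φ hφ
    apply hsubA
    rw [← hSAf]
    exact Finset.mem_coe.mpr hφ
  have hsumA : ∑ φ ∈ SAf, ((d φ : ℝ) ^ 2 / (n φ : ℝ)) =
      (K.index : ℝ) * ((A.relIndex K : ℝ) - 1) :=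
    sum_sq_div_norm_inducedIrrAbove K A SAf hSAf
      (fun χ hχ φ hφ hne => hS.orthogonal χ (hSAmem χ hχ) φ (hSAmem φ hφ) hne) d n
      (fun φ hφ => hd φ (hSAmem φ hφ)) (fun φ hφ => hn φ (hSAmem φ hφ))
      (fun φ hφ => hn0 φ (hSAmem φ hφ))
  have hχ₁S : indFun K (linFun ωA) ∈ S := hsubA hωA
  have hdχ₁ : d (indFun K (linFun ωA)) = K.index := by
    have h1 := hd _ hχ₁S
    rw [indFun_one_eq_index, linFun_one_apply, mul_one] at h1
    exact_mod_cast h1.symm
  have hCidx : C.relIndex K * K.index = C.index := Subgroup.relIndex_mul_index hCK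
  have key : ∀ m : ℕ, ∀ T : Finset (L → ℂ), (Sf \ T).card ≤ m → (↑T : Set (L → ℂ)) ⊆ S →
      SAf ⊆ T → (∀ φ ∈ T, conjFun φ ∈ T) → IsCoherent (↑T : Set (L → ℂ)) {1}ᶜ τ →
      ∃ T' : Finset (L → ℂ), inducedIrrAbove K B ⊆ ↑T' ∧
        IsCoherent (↑T' : Set (L → ℂ)) {1}ᶜ τ := by
    intro m
    induction m with
    | zero =>
      intro T hcard hTS hAT hTc hTcoh
      refine ⟨T, ?_, hTcoh⟩
      intro φ hφ
      have h1 : φ ∈ Sf := by
        rw [← Finset.mem_coe, hSf]
        exact hsubB hφ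
      by_contra h2
      have h3 : φ ∈ Sf \ T := Finset.mem_sdiff.mpr ⟨h1, fun h => h2 (Finset.mem_coe.mpr h)⟩
      have h4 : 0 < (Sf \ T).card := Finset.card_pos.mpr ⟨φ, h3⟩
      omega
    | succ m ih =>
      intro T hcard hTS hAT hTc hTcoh
      by_cases hBT : inducedIrrAbove K B ⊆ ↑T
      · exact ⟨T, hBT, hTcoh⟩
      · obtain ⟨χ, hχB, hχT⟩ := Set.not_subset.mp hBT
        have hχT' : χ ∉ T := fun h => hχT (Finset.mem_coe.mpr h)
        have hχS : χ ∈ S := hsubB hχB
        have hχcT : conjFun χ ∉ T := by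
          intro h
          apply hχT'
          have h2 := hTc _ h
          rwa [conjFun_conjFun] at h2
        obtain ⟨θ, hθirr, hθne, hθker, hχdef⟩ := hχB
        subst hχdef
        obtain ⟨mθ, hmθ, hmθle⟩ :=
          irr_degree_sq_le_of_central_section K B C D hDC hCK hcent θ hθirr hθker
        have hχ₁T : indFun K (linFun ωA) ∈ T :=
          hAT (by rw [← Finset.mem_coe, hSAf]; exact hωA)
        have hdχ : d (indFun K θ) = K.index * mθ := by
          have h1 := hd _ hχS
          rw [indFun_one_eq_index, hmθ] at h1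
          exact_mod_cast h1.symm
        -- numeric inequality
        have hnum : 2 * K.index * mθ < A.relIndex K - 1 := by
          have h1 : (2 * K.index * mθ) ^ 2 < (A.relIndex K - 1) ^ 2 := by
            calc (2 * K.index * mθ) ^ 2 = 4 * K.index ^ 2 * mθ ^ 2 := by ring
              _ ≤ 4 * K.index ^ 2 * ((C.relIndex K) ^ 2 * D.relIndex C) :=
                  Nat.mul_le_mul_left _ hmθle
              _ = 4 * (C.relIndex K * K.index) ^ 2 * D.relIndex C := by ring
              _ = 4 * C.index ^ 2 * D.relIndex C := by rw [hCidx]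
              _ < (A.relIndex K - 1) ^ 2 := hlt
          exact (Nat.pow_lt_pow_iff_left (by norm_num : 2 ≠ 0)).mp h1
        obtain ⟨a', ha'⟩ : ∃ a', A.relIndex K = a' + 1 := by
          refine ⟨A.relIndex K - 1, ?_⟩
          omega
        have hreal : (2 * (K.index : ℝ) * (mθ : ℝ)) < (A.relIndex K : ℝ) - 1 := by
          rw [ha'] at hnum ⊢
          rw [Nat.add_sub_cancel] at hnum
          push_cast
          have : ((2 * K.index * mθ : ℕ) : ℝ) < (a' : ℝ) := by exact_mod_cast hnum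
          push_cast at this
          linarith
        have hKpos : (0 : ℝ) < (K.index : ℝ) := by
          have : 0 < K.index := Nat.pos_of_ne_zero Subgroup.index_ne_zero_of_finite
          exact_mod_cast this
        have hineq : (2 * d (indFun K θ) * d (indFun K (linFun ωA)) : ℝ) <
            ∑ φ ∈ T, ((d φ : ℝ) ^ 2 / (n φ : ℝ)) := by
          have hle : ∑ φ ∈ SAf, ((d φ : ℝ) ^ 2 / (n φ : ℝ)) ≤
              ∑ φ ∈ T, ((d φ : ℝ) ^ 2 / (n φ : ℝ)) :=
            Finset.sum_le_sum_of_subset_of_nonneg hAT (fun φ _ _ => by positivity)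
          rw [hsumA] at hle
          rw [hdχ, hdχ₁]
          push_cast
          have h5 := mul_lt_mul_of_pos_left hreal hKpos
          nlinarith
        have hcoh' := Cfsg.Agent.S1516.result S τ R hS d n hd hn T hTS hTc hTcoh (indFun K θ) hχS
          hχT' hχcT (indFun K (linFun ωA)) hχ₁T (by rw [hdχ₁, hdχ]; exact Dvd.intro _ rfl) hineq
        obtain ⟨T₂, hT₂⟩ : ∃ T₂ : Finset (L → ℂ),
            T₂ = insert (indFun K θ) (insert (conjFun (indFun K θ)) T) := ⟨_, rfl⟩
        have hT₂coe : (↑T₂ : Set (L → ℂ)) = ↑T ∪ {indFun K θ, conjFun (indFun K θ)} := by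
          rw [hT₂]
          ext φ
          simp only [Finset.coe_insert, Set.mem_insert_iff, Finset.mem_coe, Set.mem_union,
            Set.mem_singleton_iff]
          tauto
        have hTT₂ : T ⊆ T₂ := by
          rw [hT₂]
          intro φ hφ
          exact Finset.mem_insert_of_mem (Finset.mem_insert_of_mem hφ)
        have hχT₂ : indFun K θ ∈ T₂ := by
          rw [hT₂]; exact Finset.mem_insert_self _ _
        have hχcT₂ : conjFun (indFun K θ) ∈ T₂ := by
          rw [hT₂]; exact Finset.mem_insert_of_mem (Finset.mem_insert_self _ _)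
        apply ih T₂
        · have hss : Sf \ T₂ ⊂ Sf \ T := by
            rw [Finset.ssubset_iff_of_subset (Finset.sdiff_subset_sdiff (Finset.Subset.refl _) hTT₂)]
            refine ⟨indFun K θ, Finset.mem_sdiff.mpr ⟨?_, hχT'⟩, ?_⟩
            · rw [← Finset.mem_coe, hSf]; exact hχS
            · intro h
              exact (Finset.mem_sdiff.mp h).2 hχT₂
          have := Finset.card_lt_card hss
          omega
        · rw [hT₂coe]
          apply Set.union_subset hTS
          intro φ hφ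
          rcases hφ with rfl | hφ
          · exact hχS
          · rw [Set.mem_singleton_iff] at hφ
            rw [hφ]
            exact hS.conj_mem _ hχS
        · exact hAT.trans hTT₂
        · intro φ hφ
          rw [hT₂] at hφ
          rcases Finset.mem_insert.mp hφ with rfl | hφ
          · exact hχcT₂
          · rcases Finset.mem_insert.mp hφ with rfl | hφ
            · rw [conjFun_conjFun]; exact hχT₂
            · exact hTT₂ (hTc φ hφ)
        · rw [hT₂coe]
          exact hcoh'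
  have hSAc : ∀ φ ∈ SAf, conjFun φ ∈ SAf := by
    intro φ hφ
    rw [← Finset.mem_coe, hSAf] at hφ ⊢
    exact conjFun_mem_inducedIrrAbove K A hφ
  obtain ⟨T', hBT', hT'coh⟩ := key _ SAf le_rfl (by rw [hSAf]; exact hsubA)
    (Finset.Subset.refl _) hSAc (by rw [hSAf]; exact hA)
  apply isCoherent_of_subset hBT' hT'coh
  refine ⟨indFun K (linFun ωB) - conjFun (indFun K (linFun ωB)),
    sub_conj_mem_zspanOn hωB (conjFun_mem_inducedIrrAbove K B hωB)
      (hS.isCharacter _ (hsubB hωB)), ?_⟩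
  intro h
  exact hS.conj_ne _ (hsubB hωB) (sub_eq_zero.mp h).symm

end Cfsg.Agent.S1519
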