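import Cfsg.Statements.S1520
import Cfsg.Agent.Lib.Helper26.CohDescent2
import Cfsg.Agent.S1519

set_option autoImplicit false
open Cfsg

namespace Cfsg.Agent.S1520
open Cfsg.Agent.Lib.Helper26

/-- Let K be a solvable normal subgroup of the finite group L and (S, τ, R) a coherence system from L to G with S the functions induced from non-principal irreducible characters of K; S(A) the members of S induced from characters whose kernel contains A. Let M ≤ H₁ ≤ H ≤ K be normal subgroups of L such that every term of the lower central series of H eventually lies in M (H/M nilpotent), S(H₁) is coherent and [H:H₁] > 4 * [L:K]^2 + 1. Then S(M) is coherent. -/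
theorem result {L : Type*} [Group L] [Fintype L] {G : Type*} [Group G] [Fintype G] (K : Subgroup L) [hK : K.Normal] (hsolv : Group.IsSolvable K) (τ : (L → ℂ) → (G → ℂ)) (R : (L → ℂ) → Finset (G → ℂ)) (hS : Cfsg.IsCoherenceSystem (Cfsg.inducedIrrAbove K ⊥) τ R) (M H₁ H : Subgroup L) [M.Normal] [H₁.Normal] [H.Normal] (hMH₁ : M ≤ H₁) (hH₁H : H₁ ≤ H) (hHK : H ≤ K) [(M.subgroupOf H).Normal] (hnil : Group.IsNilpotent (↥H ⧸ M.subgroupOf H)) (hcoh : Cfsg.IsCoherent (Cfsg.inducedIrrAbove K H₁) {1}ᶜ τ) (hbig : 4 * K.index ^ 2 + 1 < H₁.relIndex H) : Cfsg.IsCoherent (Cfsg.inducedIrrAbove K M) {1}ᶜ τ := by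
  classical
  have hH₁lt : H₁ < H := by
    refine lt_of_le_of_ne hH₁H (fun h => ?_)
    rw [h, Subgroup.relIndex_self] at hbig
    omega
  have hcohD : ∀ i, IsCoherent (inducedIrrAbove K (descentChain H₁ H M i)) {1}ᶜ τ := by
    intro i
    induction i with
    | zero => exact hcoh
    | succ i ih =>
      haveI := descentChain_normal H₁ H M i
      haveI := descentChain_normal H₁ H M (i + 1)
      have hDH₁ : descentChain H₁ H M i ≤ H₁ := descentChain_le H₁ H M hMH₁ i
      have hDH : descentChain H₁ H M i ≤ H := hDH₁.trans hH₁H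
      have hAK : descentChain H₁ H M i < K := lt_of_le_of_lt hDH₁ (lt_of_lt_of_le hH₁lt hHK)
      have hBD : descentChain H₁ H M (i + 1) ≤ descentChain H₁ H M i :=
        descentChain_succ_le H₁ H M hMH₁ i
      have hBK : descentChain H₁ H M (i + 1) < K := lt_of_le_of_lt hBD hAK
      refine Cfsg.Agent.S1519.result K hsolv τ R hS (descentChain H₁ H M i)
        (descentChain H₁ H M (i + 1)) H (descentChain H₁ H M i) hAK hBK hBD hDH hHK
        (descentChain_comm_mem H₁ H M i) ih ?_
      have e1 : H.index = H.relIndex K * K.index := (Subgroup.relIndex_mul_index hHK).symm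
      have e2 : (descentChain H₁ H M i).relIndex K =
          (descentChain H₁ H M i).relIndex H * H.relIndex K :=
        (Subgroup.relIndex_mul_relIndex (descentChain H₁ H M i) H K hDH hHK).symm
      have e3 : (descentChain H₁ H M i).relIndex H =
          (descentChain H₁ H M i).relIndex H₁ * H₁.relIndex H :=
        (Subgroup.relIndex_mul_relIndex (descentChain H₁ H M i) H₁ H hDH₁ hH₁H).symm
      have hpos : 0 < (descentChain H₁ H M i).relIndex H₁ :=
        Nat.pos_of_ne_zero Subgroup.index_ne_zero_of_finite
      have hk : 0 < H.relIndex K := Nat.pos_of_ne_zero Subgroup.index_ne_zero_of_finite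
      have hge : 4 * K.index ^ 2 + 2 ≤ (descentChain H₁ H M i).relIndex H := by
        rw [e3]
        have := Nat.le_mul_of_pos_left (H₁.relIndex H) hpos
        omega
      rw [e1, e2]
      exact arith_descent K.index (H.relIndex K) _ hk hge
  obtain ⟨n, hn⟩ := descentChain_eq H₁ H M hMH₁ hH₁H hnil
  have := hcohD n
  rwa [hn] at this

end Cfsg.Agent.S1520
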