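import Cfsg.Statements.S1521
import Cfsg.Agent.Lib.Helper26.CohFrobA
import Cfsg.Agent.Lib.Helper26.CohFrobB
import Cfsg.Agent.Lib.Helper26.CohFrobC
import Cfsg.Agent.S1520

set_option autoImplicit false
open Cfsg

namespace Cfsg.Agent.S1521
open Cfsg.Agent.Lib.Helper26

/-- Let K be a solvable normal subgroup of the finite group L of odd order and (S, τ, R) a coherence system from L to G with S the functions induced from non-principal irreducible characters of K; S(A) as before. Let M ≤ K be normal in L with K/M nilpotent, H₁ = [K, K] ⊔ M, H₁ < K < L, and suppose every element of K outside H₁ is centralised modulo H₁ only from inside K (L/H₁ is a Frobenius group with kernel K/H₁). Suppose one of the following: some normal subgroup of L lies strictly between H₁ and K; or [K:H₁] > 4[L:K]^2 + 1; or [K:M] is not a prime power; or [K,K] ≤ M; or [K:M] is a power of a prime p with [L:K] dividing p − 1. Then S(M) is coherent.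 -/
theorem result {L : Type*} [Group L] [Fintype L] {G : Type*} [Group G] [Fintype G] (K : Subgroup L) [hK : K.Normal] (hsolv : Group.IsSolvable K) (τ : (L → ℂ) → (G → ℂ)) (R : (L → ℂ) → Finset (G → ℂ)) (hS : Cfsg.IsCoherenceSystem (Cfsg.inducedIrrAbove K ⊥) τ R) (hodd : Odd (Nat.card L)) (M : Subgroup L) [M.Normal] (hMK : M ≤ K) [(M.subgroupOf K).Normal] (hnil : Group.IsNilpotent (↥K ⧸ M.subgroupOf K)) (H₁ : Subgroup L) (hH₁ : H₁ = ⁅K, K⁆ ⊔ M) (hH₁K : H₁ < K) (hKL : K < ⊤) (hfrob : ∀ k ∈ K, k ∉ H₁ → ∀ x : L, x * k * x⁻¹ * k⁻¹ ∈ H₁ → x ∈ K) (hgood : (∃ N : Subgroup L, N.Normal ∧ H₁ < N ∧ N < K) ∨ 4 * K.index ^ 2 + 1 < H₁.relIndex K ∨ (¬ ∃ p m : ℕ, p.Prime ∧ M.relIndex K = p ^ m) ∨ ⁅K, K⁆ ≤ M ∨ (∃ p m : ℕ, p.Prime ∧ M.relIndex K = p ^ m ∧ K.index ∣ p - 1)) : Cfsg.IsCoherent (Cfsg.inducedIrrAbove K M) {1}ᶜ τ := by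
  classical
  subst hH₁
  have hcommle : ⁅K, K⁆ ≤ ⁅K, K⁆ ⊔ M := le_sup_left
  have hMH₁ : M ≤ ⁅K, K⁆ ⊔ M := le_sup_right
  have hcoh1 : Cfsg.IsCoherent (Cfsg.inducedIrrAbove K (⁅K, K⁆ ⊔ M)) {1}ᶜ τ :=
    coherent_above_commutator K hsolv τ R hS (⁅K, K⁆ ⊔ M) hcommle hH₁K
  have caseB : 4 * K.index ^ 2 + 1 < (⁅K, K⁆ ⊔ M).relIndex K →
      Cfsg.IsCoherent (Cfsg.inducedIrrAbove K M) {1}ᶜ τ := by
    intro hbig
    exact Cfsg.Agent.S1520.result K hsolv τ R hS M (⁅K, K⁆ ⊔ M) K hMH₁ hH₁K.le le_rfl hnil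
      hcoh1 hbig
  have caseD : ⁅K, K⁆ ≤ M → Cfsg.IsCoherent (Cfsg.inducedIrrAbove K M) {1}ᶜ τ := by
    intro h
    have h1 : ⁅K, K⁆ ⊔ M = M := sup_eq_right.mpr h
    rw [h1] at hcoh1
    exact hcoh1
  have caseA : (∃ N : Subgroup L, N.Normal ∧ ⁅K, K⁆ ⊔ M < N ∧ N < K) →
      Cfsg.IsCoherent (Cfsg.inducedIrrAbove K M) {1}ᶜ τ := by
    rintro ⟨N, hNn, h1, h2⟩
    haveI := hNn
    exact caseB (frob_bound_of_between K (⁅K, K⁆ ⊔ M) N hodd h1 h2 hcommle hfrob)
  rcases hgood with h | h | h | h | h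
  · exact caseA h
  · exact caseB h
  · exact caseA (exists_between_of_not_prime_power K M hMK hnil hH₁K h)
  · exact caseD h
  · obtain ⟨p, m, hp, hpm, hdvd⟩ := h
    have hdiv : (⁅K, K⁆ ⊔ M).relIndex K ∣ M.relIndex K :=
      Subgroup.relIndex_dvd_of_le_left K hMH₁
    rw [hpm] at hdiv
    obtain ⟨r, hr, hreq⟩ := (Nat.dvd_prime_pow hp).mp hdiv
    have hr0 : r ≠ 0 := by
      rintro rfl
      rw [pow_zero] at hreq
      exact hH₁K.not_ge (Subgroup.relIndex_eq_one.mp hreq)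
    by_cases hr2 : 2 ≤ r
    · apply caseB
      have hp_dvd_L : p ∣ Nat.card L := by
        have h1 : p ∣ (⁅K, K⁆ ⊔ M).relIndex K := by
          rw [hreq]
          exact dvd_pow_self p hr0
        exact h1.trans ((Subgroup.relIndex_dvd_card (⁅K, K⁆ ⊔ M) K).trans
          (Subgroup.card_subgroup_dvd_card K))
      have hpbound : 2 * K.index + 1 ≤ p :=
        two_mul_add_one_le_of_dvd hodd (Subgroup.index_dvd_card K) hp_dvd_L hp.one_lt hdvd
      rw [hreq]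
      have h2 : p ^ 2 ≤ p ^ r := Nat.pow_le_pow_right hp.pos hr2
      have he1 : 1 ≤ K.index := Nat.one_le_iff_ne_zero.mpr Subgroup.index_ne_zero_of_finite
      have h3 : (2 * K.index + 1) ^ 2 ≤ p ^ 2 := Nat.pow_le_pow_left hpbound 2
      have h4 : 4 * K.index ^ 2 + 4 * K.index + 1 ≤ p ^ r :=
        calc 4 * K.index ^ 2 + 4 * K.index + 1 = (2 * K.index + 1) ^ 2 := by ring
          _ ≤ p ^ 2 := h3
          _ ≤ p ^ r := h2
      linarith
    · have hr1 : r = 1 := by omega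
      rw [hr1, pow_one] at hreq
      exact caseD (commutator_le_of_relIndex_prime K M hMK hnil hp hreq)

end Cfsg.Agent.S1521
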