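import Mathlib
import Cfsg.Statements.S1525
import Cfsg.Agent.S1500

set_option autoImplicit false
open Cfsg

namespace Cfsg.Agent.S1525

open Classical

theorem finsum_mem_eq_sum_ite' {α : Type*} [Fintype α] (S : Set α) (f : α → ℝ) :
    ∑ᶠ u ∈ S, f u = ∑ u : α, if u ∈ S then f u else 0 := by
  rw [finsum_mem_def, finsum_eq_sum_of_fintype]
  refine Finset.sum_congr rfl fun u _ => ?_
  simp [Set.indicator_apply]

theorem norm_sq_sum_le {ι : Type*} (s : Finset ι) (z : ι → ℂ) :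
    ‖∑ u ∈ s, z u‖ ^ 2 ≤ (s.card : ℝ) * ∑ u ∈ s, ‖z u‖ ^ 2 := by
  have h1 : ‖∑ u ∈ s, z u‖ ≤ ∑ u ∈ s, ‖z u‖ := norm_sum_le _ _
  have h2 : ‖∑ u ∈ s, z u‖ ^ 2 ≤ (∑ u ∈ s, ‖z u‖) ^ 2 := pow_le_pow_left₀ (norm_nonneg _) h1 2
  exact h2.trans sq_sum_le_card_mul_sum_sq

/-- Under the Dade hypothesis for (A, L, H), let χ be a class function of G and let ψ be a function on L whose value at each a ∈ A is the average of χ over the coset a·H(a). Then (1/|G|) Σ |χ g|² over the elements g of G conjugate into some coset a·H(a) with a ∈ A is at least (1/|L|) Σ_{a ∈ A ∩ L} |ψ a|². -/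
theorem result {G : Type*} [Group G] [Fintype G] (A : Set G) (L : Subgroup G) [Fintype L] (H : G → Subgroup G) (hD : Cfsg.DadeHypothesis A L H) (χ : G → ℂ) (hχ : Cfsg.IsClassFunction G χ) (ψ : L → ℂ) (hψ : ∀ a : L, (a : G) ∈ A → ψ a = (Nat.card (H a) : ℂ)⁻¹ * ∑ᶠ u ∈ (H a : Set G), χ (a * u)) : (Nat.card L : ℝ)⁻¹ * ∑ᶠ a ∈ {a : L | (a : G) ∈ A}, ‖ψ a‖ ^ 2 ≤ (Nat.card G : ℝ)⁻¹ * ∑ᶠ g ∈ {g : G | ∃ a ∈ A, ∃ u ∈ H a, ∃ x : G, x * g * x⁻¹ = a * u}, ‖χ g‖ ^ 2 := by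
  -- the real weight function
  set R : G → ℝ := fun g =>
    if (∃ a ∈ A, ∃ x : G, ∃ u ∈ H a, x * g * x⁻¹ = a * u) then ‖χ g‖ ^ 2 else 0 with hR
  have hRc : ∀ g h : G, R (h * g * h⁻¹) = R g := by
    intro g h
    simp only [hR]
    have hiff : (∃ a ∈ A, ∃ x : G, ∃ u ∈ H a, x * (h * g * h⁻¹) * x⁻¹ = a * u) ↔
        (∃ a ∈ A, ∃ x : G, ∃ u ∈ H a, x * g * x⁻¹ = a * u) := by
      constructor
      · rintro ⟨a, ha, x, u, hu, hx⟩
        exact ⟨a, ha, x * h, u, hu, by rw [← hx]; group⟩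
      · rintro ⟨a, ha, x, u, hu, hx⟩
        exact ⟨a, ha, x * h⁻¹, u, hu, by rw [← hx]; group⟩
    rw [hχ g h]
    by_cases hP : ∃ a ∈ A, ∃ x : G, ∃ u ∈ H a, x * g * x⁻¹ = a * u
    · rw [if_pos hP, if_pos (hiff.mpr hP)]
    · rw [if_neg hP, if_neg (fun h' => hP (hiff.mp h'))]
  have hmain := Cfsg.Agent.S1500.main_count hD (fun g => ((R g : ℝ) : ℂ))
    (fun g h => by
      show ((R (h * g * h⁻¹) : ℝ) : ℂ) = ((R g : ℝ) : ℂ)
      rw [hRc g h])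
    (fun g hg => by
      show ((R g : ℝ) : ℂ) = 0
      simp only [hR]; rw [if_neg hg]; simp)
  have hmainR : (Nat.card L : ℝ) * ∑ g : G, R g = (Nat.card G : ℝ) *
      ∑ a : G, ∑ u : G, if a ∈ A ∧ u ∈ H a then (Nat.card (H a) : ℝ)⁻¹ * R (a * u) else 0 := by
    apply Complex.ofReal_injective
    rw [Complex.ofReal_mul, Complex.ofReal_mul, Complex.ofReal_sum, Complex.ofReal_sum,
      Complex.ofReal_natCast, Complex.ofReal_natCast, hmain]
    congr 1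
    refine Finset.sum_congr rfl fun a _ => ?_
    rw [Complex.ofReal_sum]
    refine Finset.sum_congr rfl fun u _ => ?_
    by_cases h : a ∈ A ∧ u ∈ H a
    · rw [if_pos h, if_pos h]; push_cast; rfl
    · rw [if_neg h, if_neg h]; simp
  -- termwise estimate
  have hterm : ∀ a : L, (if (a : G) ∈ A then ‖ψ a‖ ^ 2 else 0) ≤
      ∑ u : G, if (a : G) ∈ A ∧ u ∈ H (a : G) then
        (Nat.card (H (a : G)) : ℝ)⁻¹ * R ((a : G) * u) else 0 := by
    intro a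
    by_cases ha : (a : G) ∈ A
    · rw [if_pos ha, hψ a ha, Cfsg.Agent.S1500.finsum_mem_eq_sum_ite]
      have hcard : (Finset.univ.filter (fun u : G => u ∈ H (a : G))).card
          = Nat.card (H (a : G)) := by
        rw [Nat.card_eq_fintype_card, Fintype.card_subtype]
      have hpos : (0 : ℝ) < (Nat.card (H (a : G)) : ℝ) := Nat.cast_pos.mpr Nat.card_pos
      have hsum1 : (∑ u : G, if u ∈ ((H (a : G) : Subgroup G) : Set G) then χ ((a : G) * u) else 0)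
          = ∑ u ∈ Finset.univ.filter (fun u : G => u ∈ H (a : G)), χ ((a : G) * u) := by
        rw [Finset.sum_filter]
        rfl
      have hsum2 : (∑ u : G, if (a : G) ∈ A ∧ u ∈ H (a : G) then
          (Nat.card (H (a : G)) : ℝ)⁻¹ * R ((a : G) * u) else 0)
          = (Nat.card (H (a : G)) : ℝ)⁻¹ *
            ∑ u ∈ Finset.univ.filter (fun u : G => u ∈ H (a : G)), ‖χ ((a : G) * u)‖ ^ 2 := by
        rw [Finset.mul_sum, Finset.sum_filter]
        refine Finset.sum_congr rfl fun u _ => ?_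
        by_cases hu : u ∈ H (a : G)
        · rw [if_pos ⟨ha, hu⟩, if_pos hu]
          simp only [hR]
          rw [if_pos ⟨(a : G), ha, 1, u, hu, by group⟩]
        · rw [if_neg (fun h => hu h.2), if_neg hu]
      rw [hsum1, hsum2, norm_mul, mul_pow, norm_inv, Complex.norm_natCast]
      have hCS := norm_sq_sum_le (Finset.univ.filter (fun u : G => u ∈ H (a : G)))
        (fun u => χ ((a : G) * u))
      rw [hcard] at hCS
      calc ((Nat.card (H (a : G)) : ℝ)⁻¹) ^ 2 *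
            ‖∑ u ∈ Finset.univ.filter (fun u : G => u ∈ H (a : G)), χ ((a : G) * u)‖ ^ 2
          ≤ ((Nat.card (H (a : G)) : ℝ)⁻¹) ^ 2 * ((Nat.card (H (a : G)) : ℝ) *
            ∑ u ∈ Finset.univ.filter (fun u : G => u ∈ H (a : G)), ‖χ ((a : G) * u)‖ ^ 2) :=
            mul_le_mul_of_nonneg_left hCS (sq_nonneg _)
        _ = (Nat.card (H (a : G)) : ℝ)⁻¹ *
            ∑ u ∈ Finset.univ.filter (fun u : G => u ∈ H (a : G)), ‖χ ((a : G) * u)‖ ^ 2 := by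
            field_simp
    · rw [if_neg ha]
      apply Finset.sum_nonneg
      intro u _
      rw [if_neg (fun h => ha h.1)]
  have hLsum : ∑ a : L, ∑ u : G, (if (a : G) ∈ A ∧ u ∈ H (a : G) then
        (Nat.card (H (a : G)) : ℝ)⁻¹ * R ((a : G) * u) else 0) =
      ∑ a : G, ∑ u : G, if a ∈ A ∧ u ∈ H a then (Nat.card (H a) : ℝ)⁻¹ * R (a * u) else 0 := by
    apply Finset.sum_of_injOn (fun l : L => (l : G))
    · exact fun _ _ _ _ h => Subtype.ext h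
    · intro _ _; exact Finset.mem_coe.mpr (Finset.mem_univ _)
    · intro a _ ha
      apply Finset.sum_eq_zero
      intro u _
      rw [if_neg]
      rintro ⟨haA, _⟩
      apply ha
      exact ⟨⟨a, hD.subset haA⟩, Finset.mem_coe.mpr (Finset.mem_univ _), rfl⟩
    · intro l _; rfl
  have hG : (0 : ℝ) < (Nat.card G : ℝ) := Nat.cast_pos.mpr Nat.card_pos
  have hLpos : (0 : ℝ) < (Nat.card L : ℝ) := Nat.cast_pos.mpr Nat.card_pos
  have hRsum : ∑ᶠ g ∈ {g : G | ∃ a ∈ A, ∃ u ∈ H a, ∃ x : G, x * g * x⁻¹ = a * u}, ‖χ g‖ ^ 2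
      = ∑ g : G, R g := by
    rw [finsum_mem_eq_sum_ite']
    refine Finset.sum_congr rfl fun g _ => ?_
    simp only [hR]
    have hiff : (g ∈ {g : G | ∃ a ∈ A, ∃ u ∈ H a, ∃ x : G, x * g * x⁻¹ = a * u}) ↔
        (∃ a ∈ A, ∃ x : G, ∃ u ∈ H a, x * g * x⁻¹ = a * u) := by
      constructor
      · rintro ⟨a, ha, u, hu, x, hx⟩; exact ⟨a, ha, x, u, hu, hx⟩
      · rintro ⟨a, ha, x, u, hu, hx⟩; exact ⟨a, ha, u, hu, x, hx⟩
    by_cases hP : ∃ a ∈ A, ∃ x : G, ∃ u ∈ H a, x * g * x⁻¹ = a * u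
    · rw [if_pos hP, if_pos (hiff.mpr hP)]
    · rw [if_neg hP, if_neg (fun h' => hP (hiff.mp h'))]
  have hAsum : ∑ᶠ a ∈ {a : L | (a : G) ∈ A}, ‖ψ a‖ ^ 2
      = ∑ a : L, if (a : G) ∈ A then ‖ψ a‖ ^ 2 else 0 := by
    rw [finsum_mem_eq_sum_ite']
    refine Finset.sum_congr rfl fun a _ => ?_
    by_cases ha : (a : G) ∈ A
    · rw [if_pos ha, if_pos (show a ∈ {a : L | (a : G) ∈ A} from ha)]
    · rw [if_neg ha, if_neg (show a ∉ {a : L | (a : G) ∈ A} from ha)]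
  rw [hRsum, hAsum]
  have h1 : (∑ a : L, if (a : G) ∈ A then ‖ψ a‖ ^ 2 else 0) ≤
      ∑ a : G, ∑ u : G, if a ∈ A ∧ u ∈ H a then (Nat.card (H a) : ℝ)⁻¹ * R (a * u) else 0 := by
    rw [← hLsum]
    exact Finset.sum_le_sum fun a _ => hterm a
  have h2 : (Nat.card G : ℝ)⁻¹ * ∑ g : G, R g = (Nat.card L : ℝ)⁻¹ *
      ∑ a : G, ∑ u : G, if a ∈ A ∧ u ∈ H a then (Nat.card (H a) : ℝ)⁻¹ * R (a * u) else 0 := by
    generalize (∑ g : G, R g) = X at hmainR ⊢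
    generalize (∑ a : G, ∑ u : G,
      if a ∈ A ∧ u ∈ H a then (Nat.card (H a) : ℝ)⁻¹ * R (a * u) else 0) = Y at hmainR ⊢
    calc (Nat.card G : ℝ)⁻¹ * X
        = (Nat.card G : ℝ)⁻¹ * ((Nat.card L : ℝ)⁻¹ * ((Nat.card L : ℝ) * X)) := by
          field_simp
      _ = (Nat.card G : ℝ)⁻¹ * ((Nat.card L : ℝ)⁻¹ * ((Nat.card G : ℝ) * Y)) := by rw [hmainR]
      _ = (Nat.card L : ℝ)⁻¹ * Y := by field_simp
  rw [h2]
  exact mul_le_mul_of_nonneg_left h1 (inv_nonneg.mpr hLpos.le)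

end Cfsg.Agent.S1525
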