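import Cfsg.Statements.S1527
import Mathlib

set_option autoImplicit false
open Cfsg

namespace Cfsg.Agent.S1527

/-- Let G be a finite group and H i (i in a finite index type) subgroups of pairwise coprime orders, each of whose underlying sets is a TI-subset of G, such that every non-identity element of G is conjugate to an element of some H i. Then Nat.card G − 1 = Σ_i [G : N_G(H i)] · (Nat.card (H i) − 1). -/
theorem result {G : Type*} [Group G] [Finite G] {ι : Type*} [Fintype ι] (H : ι → Subgroup G) (hcop : ∀ i j, i ≠ j → Nat.Coprime (Nat.card (H i)) (Nat.card (H j))) (hTI : ∀ i, Cfsg.IsTISubset (H i : Set G)) (hcover : ∀ g : G, g ≠ 1 → ∃ i, ∃ x : G, x * g * x⁻¹ ∈ H i) : Nat.card G - 1 = ∑ i, (Subgroup.normalizer (H i : Set G)).index * (Nat.card (H i) - 1) := by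
  classical
  haveI : Fintype G := Fintype.ofFinite G
  obtain ⟨U, hU⟩ : ∃ U : ι → Finset G, U = fun i =>
      Finset.univ.filter (fun g : G => g ≠ 1 ∧ ∃ x : G, x * g * x⁻¹ ∈ H i) := ⟨_, rfl⟩
  have hUmem : ∀ i g, g ∈ U i ↔ g ≠ 1 ∧ ∃ x : G, x * g * x⁻¹ ∈ H i := by
    intro i g
    rw [hU]
    simp only [Finset.mem_filter, Finset.mem_univ, true_and]
  have hcardsub : ∀ K : Subgroup G, (Finset.univ.filter (fun g : G => g ∈ K)).card = Nat.card K := by
    intro K
    rw [Nat.card_eq_fintype_card, Fintype.card_subtype]
  have hUcard : ∀ i, (U i).card =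
      (Subgroup.normalizer (H i : Set G)).index * (Nat.card (H i) - 1) := by
    intro i
    obtain ⟨N, hN⟩ : ∃ N : Subgroup G, N = Subgroup.normalizer (H i : Set G) := ⟨_, rfl⟩
    rw [← hN]
    have h1 : ∀ x : G, (Finset.univ.filter (fun g : G => g ≠ 1 ∧ x * g * x⁻¹ ∈ H i)).card =
        Nat.card (H i) - 1 := by
      intro x
      have himg : Finset.univ.filter (fun g : G => g ≠ 1 ∧ x * g * x⁻¹ ∈ H i) =
          ((Finset.univ.filter (fun g : G => g ∈ H i)).erase 1).image (fun h => x⁻¹ * h * x) := by
        ext g
        simp only [Finset.mem_filter, Finset.mem_univ, true_and, Finset.mem_image,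
          Finset.mem_erase]
        constructor
        · rintro ⟨hg1, hgH⟩
          refine ⟨x * g * x⁻¹, ⟨?_, hgH⟩, by group⟩
          intro h
          apply hg1
          have h2 : g = x⁻¹ * (x * g * x⁻¹) * x := by group
          rw [h2, h]; group
        · rintro ⟨h, ⟨hh1, hhH⟩, rfl⟩
          refine ⟨?_, ?_⟩
          · intro h2
            apply hh1
            have h3 : h = x * (x⁻¹ * h * x) * x⁻¹ := by group
            rw [h3, h2]; group
          · have h3 : x * (x⁻¹ * h * x) * x⁻¹ = h := by group
            rw [h3]; exact hhH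
      rw [himg, Finset.card_image_of_injective, Finset.card_erase_of_mem, hcardsub]
      · simp only [Finset.mem_filter, Finset.mem_univ, true_and]
        exact (H i).one_mem
      · intro a b hab
        have h4 : x⁻¹ * a * x = x⁻¹ * b * x := hab
        have h5 := congrArg (fun t => x * t * x⁻¹) h4
        simpa [mul_assoc] using h5
    have h2 : ∀ g ∈ U i, (Finset.univ.filter (fun x : G => x * g * x⁻¹ ∈ H i)).card =
        Nat.card N := by
      intro g hg
      obtain ⟨hg1, x₀, hx₀⟩ := (hUmem i g).mp hg
      have himg : Finset.univ.filter (fun x : G => x * g * x⁻¹ ∈ H i) =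
          (Finset.univ.filter (fun n : G => n ∈ N)).image (fun n => n * x₀) := by
        ext x
        simp only [Finset.mem_filter, Finset.mem_univ, true_and, Finset.mem_image]
        constructor
        · intro hx
          refine ⟨x * x₀⁻¹, ?_, by group⟩
          by_contra hn
          rw [hN] at hn
          have h3 : x * x₀⁻¹ * (x₀ * g * x₀⁻¹) * (x * x₀⁻¹)⁻¹ = x * g * x⁻¹ := by group
          have h4 := hTI i (x * x₀⁻¹) hn (x₀ * g * x₀⁻¹) hx₀ (by rw [h3]; exact hx)
          apply hg1
          have h5 : g = x₀⁻¹ * (x₀ * g * x₀⁻¹) * x₀ := by group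
          rw [h5, h4]; group
        · rintro ⟨n, hn, rfl⟩
          rw [hN, Subgroup.mem_normalizer_iff] at hn
          have h3 : n * x₀ * g * (n * x₀)⁻¹ = n * (x₀ * g * x₀⁻¹) * n⁻¹ := by group
          rw [h3]
          exact (hn _).mp hx₀
      rw [himg, Finset.card_image_of_injective _ (mul_left_injective x₀), hcardsub]
    have h3 : ∀ g : G, g ≠ 1 → g ∉ U i →
        (Finset.univ.filter (fun x : G => x * g * x⁻¹ ∈ H i)).card = 0 := by
      intro g hg1 hgU
      rw [Finset.card_eq_zero, Finset.filter_eq_empty_iff]
      intro x _ hx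
      exact hgU ((hUmem i g).mpr ⟨hg1, x, hx⟩)
    have key : (U i).card * Nat.card N = Nat.card G * (Nat.card (H i) - 1) := by
      symm
      calc Nat.card G * (Nat.card (H i) - 1)
          = ∑ _x : G, (Nat.card (H i) - 1) := by
            rw [Finset.sum_const, Finset.card_univ, smul_eq_mul, Nat.card_eq_fintype_card]
        _ = ∑ x : G, ∑ g : G, (if g ≠ 1 ∧ x * g * x⁻¹ ∈ H i then 1 else 0) := by
            apply Finset.sum_congr rfl
            intro x _
            rw [← h1 x, Finset.card_filter]
        _ = ∑ g : G, ∑ x : G, (if g ≠ 1 ∧ x * g * x⁻¹ ∈ H i then 1 else 0) := Finset.sum_comm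
        _ = ∑ g : G, (if g ∈ U i then Nat.card N else 0) := by
            apply Finset.sum_congr rfl
            intro g _
            by_cases hg1 : g = 1
            · have hgU : g ∉ U i := fun h => ((hUmem i g).mp h).1 hg1
              rw [if_neg hgU]
              apply Finset.sum_eq_zero
              intro x _
              rw [if_neg]
              intro h
              exact h.1 hg1
            · by_cases hgU : g ∈ U i
              · rw [if_pos hgU, ← h2 g hgU, Finset.card_filter]
                apply Finset.sum_congr rfl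
                intro x _
                simp [hg1]
              · rw [if_neg hgU]
                have h4 := h3 g hg1 hgU
                rw [Finset.card_filter] at h4
                have h5 : ∀ x : G, (if g ≠ 1 ∧ x * g * x⁻¹ ∈ H i then 1 else 0) =
                    (if x * g * x⁻¹ ∈ H i then 1 else 0) := by
                  intro x; simp [hg1]
                rw [Finset.sum_congr rfl (fun x _ => h5 x)]
                exact h4
        _ = (U i).card * Nat.card N := by
            rw [← Finset.sum_filter, Finset.sum_const, smul_eq_mul, Finset.filter_mem_eq_inter,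
              Finset.univ_inter]
    have hNpos : 0 < Nat.card N := Nat.card_pos
    have h5 : (U i).card * Nat.card N = (N.index * (Nat.card (H i) - 1)) * Nat.card N := by
      rw [key, ← Subgroup.index_mul_card N]
      ring
    exact Nat.eq_of_mul_eq_mul_right hNpos h5
  have hpart : Finset.univ.filter (fun g : G => g ≠ 1) = Finset.univ.biUnion U := by
    ext g
    simp only [Finset.mem_filter, Finset.mem_univ, true_and, Finset.mem_biUnion]
    constructor
    · intro hg1
      obtain ⟨i, x, hx⟩ := hcover g hg1
      exact ⟨i, (hUmem i g).mpr ⟨hg1, x, hx⟩⟩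
    · rintro ⟨i, hi⟩
      exact ((hUmem i g).mp hi).1
  have hdisj : ∀ i ∈ (Finset.univ : Finset ι), ∀ j ∈ (Finset.univ : Finset ι), i ≠ j →
      Disjoint (U i) (U j) := by
    intro i _ j _ hij
    rw [Finset.disjoint_left]
    intro g hgi hgj
    obtain ⟨hg1, x, hx⟩ := (hUmem i g).mp hgi
    obtain ⟨-, y, hy⟩ := (hUmem j g).mp hgj
    have hpow : ∀ (K : Subgroup G) (z : G), z * g * z⁻¹ ∈ K → g ^ Nat.card K = 1 := by
      intro K z hz
      have h6 : (⟨z * g * z⁻¹, hz⟩ : K) ^ Nat.card K = 1 := pow_card_eq_one'
      have h7 := congrArg Subtype.val h6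
      simp only [Subgroup.coe_pow, Subgroup.coe_one, conj_pow] at h7
      have h8 : g ^ Nat.card K = z⁻¹ * (z * g ^ Nat.card K * z⁻¹) * z := by group
      rw [h8, h7]; group
    have d1 := orderOf_dvd_of_pow_eq_one (hpow (H i) x hx)
    have d2 := orderOf_dvd_of_pow_eq_one (hpow (H j) y hy)
    have d3 := Nat.dvd_gcd d1 d2
    rw [(hcop i j hij).gcd_eq_one, Nat.dvd_one, orderOf_eq_one_iff] at d3
    exact hg1 d3
  have hcardG : (Finset.univ.filter (fun g : G => g ≠ 1)).card = Nat.card G - 1 := by
    rw [Finset.filter_ne' Finset.univ (1 : G), Finset.card_erase_of_mem (Finset.mem_univ _),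
      Finset.card_univ, Nat.card_eq_fintype_card]
  rw [← hcardG, hpart, Finset.card_biUnion hdisj]
  exact Finset.sum_congr rfl (fun i _ => hUcard i)

end Cfsg.Agent.S1527
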