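import Cfsg.Statements.S1528
import Cfsg.Agent.Lib.Helper26.IndIrr

set_option autoImplicit false
open Cfsg

namespace Cfsg.Agent.S1528
open Cfsg.Agent.Lib.Helper26

/-- Let N be a normal subgroup of the finite group G such that every element of G commuting with a non-identity element of N lies in N. If χ is an irreducible character of G with χ n ≠ χ 1 for some n ∈ N, then χ is the function induced from some irreducible character of N. -/
theorem result {G : Type*} [Group G] [Fintype G] (N : Subgroup G) [N.Normal] (hC : ∀ n ∈ N, n ≠ 1 → Subgroup.centralizer ({n} : Set G) ≤ N) (χ : G → ℂ) (hχ : Cfsg.IsIrrCharacter G χ) (hker : ∃ n ∈ N, χ n ≠ χ 1) : ∃ φ : N → ℂ, Cfsg.IsIrrCharacter N φ ∧ χ = Cfsg.indFun N φ := by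
  classical
  haveI : Fintype N := Fintype.ofFinite _
  have hχcf := isClassFunction_of_isIrrCharacter hχ
  have hresC : IsCharacter N (χ ∘ N.subtype) :=
    isCharacter_restrict N (isCharacter_of_isIrrCharacter hχ)
  have hrescf : IsClassFunction N (χ ∘ N.subtype) := isClassFunction_of_isCharacter hresC
  obtain ⟨n, hn, hne⟩ := hker
  obtain ⟨φ, hφ, hφ1, hφc⟩ := exists_nonprincipal_constituent (χ ∘ N.subtype) hrescf
    ⟨⟨n, hn⟩, by simpa using hne⟩
  refine ⟨φ, hφ, ?_⟩
  have hfpf : ∀ x : G, x ∉ N → ∀ k ∈ N, x * k = k * x → k = 1 := by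
    intro x hx k hk hcomm
    by_contra hk1
    apply hx
    apply hC k hk hk1
    rw [Subgroup.mem_centralizer_iff]
    intro z hz
    rw [Set.mem_singleton_iff] at hz
    rw [hz]
    exact hcomm.symm
  have hind := isIrrCharacter_indFun_of_fpf N hfpf φ hφ hφ1
  apply eq_of_classInner_ne_zero hχ hind
  rw [classInner_indFun_right' N χ hχcf φ]
  exact hφc

end Cfsg.Agent.S1528
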