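import Cfsg.Statements.S1529
import Cfsg.Agent.Lib.Helper26.IndChar

set_option autoImplicit false
open Cfsg

namespace Cfsg.Agent.S1529
open Cfsg.Agent.Lib.Helper26

/-- Let N be a subgroup of the finite group G, S a set of irreducible characters of N with at least two members, and τ₁ a linear isometry on the integer combinations of S with virtual-character values such that τ₁ α vanishes at 1 whenever α ∈ ℤ[S] does. Then there is ε ∈ {1, −1} such that ε • τ₁ χ is an irreducible character of G for every χ ∈ S, and distinct members of S give distinct characters. -/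
theorem result {G : Type*} [Group G] [Fintype G] (N : Subgroup G) [Fintype N] (S : Set (N → ℂ)) (hirr : ∀ χ ∈ S, Cfsg.IsIrrCharacter N χ) (htwo : ∃ χ ∈ S, ∃ ψ ∈ S, χ ≠ ψ) (τ₁ : (N → ℂ) → (G → ℂ)) (hτ₁ : Cfsg.IsLinearIsometryOn (Cfsg.zspan S) τ₁) (h0 : ∀ α ∈ Cfsg.zspan S, α 1 = 0 → τ₁ α 1 = 0) : ∃ ε : ℂ, (ε = 1 ∨ ε = -1) ∧ (∀ χ ∈ S, Cfsg.IsIrrCharacter G (ε • τ₁ χ)) ∧ (∀ χ ∈ S, ∀ ψ ∈ S, τ₁ χ = τ₁ ψ → χ = ψ) := by
  classical
  obtain ⟨hadd, hsmul, hiso, hgen⟩ := hτ₁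
  have hmem : ∀ χ ∈ S, χ ∈ zspan S := fun χ hχ => Submodule.subset_span hχ
  have hPQ : ∀ χ ∈ S, IsIrrCharacter G (τ₁ χ) ∨ IsIrrCharacter G (-τ₁ χ) := by
    intro χ hχ
    have hn : classInner (τ₁ χ) (τ₁ χ) = 1 := by
      rw [hiso χ (hmem χ hχ) χ (hmem χ hχ), classInner_irr (hirr χ hχ) (hirr χ hχ), if_pos rfl]
    obtain ⟨μ, hμ, h | h⟩ := genChar_norm_one (hgen χ (hmem χ hχ)) hn
    · left; rw [h]; exact hμ
    · right; rw [h, neg_neg]; exact hμ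
  have hclaim : ∀ χ ∈ S, ∀ ψ ∈ S, IsIrrCharacter G (τ₁ χ) → IsIrrCharacter G (-τ₁ ψ) → False := by
    intro χ hχ ψ hψ hP hQ
    obtain ⟨a, ha, ha1⟩ := irr_degree (hirr χ hχ)
    obtain ⟨b, hb, hb1⟩ := irr_degree (hirr ψ hψ)
    obtain ⟨m, hm, hm1⟩ := irr_degree hP
    obtain ⟨k, hk, hk1⟩ := irr_degree hQ
    have h1 : ((b : ℤ) • χ) ∈ zspan S := by
      show ((b : ℤ) • χ) ∈ Submodule.span ℤ S
      exact Submodule.smul_mem _ _ (Submodule.subset_span hχ)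
    have h2 : ((-(a : ℤ)) • ψ) ∈ zspan S := by
      show ((-(a : ℤ)) • ψ) ∈ Submodule.span ℤ S
      exact Submodule.smul_mem _ _ (Submodule.subset_span hψ)
    have h3 : ((b : ℤ) • χ + (-(a : ℤ)) • ψ) ∈ zspan S := by
      show ((b : ℤ) • χ + (-(a : ℤ)) • ψ) ∈ Submodule.span ℤ S
      exact Submodule.add_mem _ h1 h2
    have hα1 : ((b : ℤ) • χ + (-(a : ℤ)) • ψ) 1 = 0 := by
      show (b : ℤ) • χ 1 + (-(a : ℤ)) • ψ 1 = 0
      rw [ha1, hb1, zsmul_eq_mul, zsmul_eq_mul]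
      push_cast; ring
    have h4 := h0 _ h3 hα1
    rw [hadd _ h1 _ h2, hsmul _ (hmem χ hχ), hsmul _ (hmem ψ hψ)] at h4
    have hk1' : τ₁ ψ 1 = -(k : ℂ) := by
      have : (-τ₁ ψ) 1 = (k : ℂ) := hk1
      rw [Pi.neg_apply] at this
      rw [← this, neg_neg]
    have h4' : (b : ℤ) • τ₁ χ 1 + (-(a : ℤ)) • τ₁ ψ 1 = 0 := h4
    rw [hm1, hk1', zsmul_eq_mul, zsmul_eq_mul] at h4'
    have h5 : ((b * m + a * k : ℕ) : ℂ) = 0 := by
      push_cast at h4' ⊢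
      linear_combination h4'
    have h6 : b * m + a * k = 0 := by exact_mod_cast h5
    have : 0 < b * m := Nat.mul_pos hb hm
    omega
  have hinj : ∀ χ ∈ S, ∀ ψ ∈ S, τ₁ χ = τ₁ ψ → χ = ψ := by
    intro χ hχ ψ hψ h
    by_contra hne
    have h1 := hiso χ (hmem χ hχ) ψ (hmem ψ hψ)
    have h2 := hiso χ (hmem χ hχ) χ (hmem χ hχ)
    rw [← h, h2, classInner_irr (hirr χ hχ) (hirr χ hχ), if_pos rfl,
      classInner_irr (hirr χ hχ) (hirr ψ hψ), if_neg hne] at h1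
    exact one_ne_zero h1
  by_cases hex : ∃ χ₀ ∈ S, IsIrrCharacter G (τ₁ χ₀)
  · obtain ⟨χ₀, hχ₀, hP⟩ := hex
    refine ⟨1, Or.inl rfl, ?_, hinj⟩
    intro ψ hψ
    rw [one_smul]
    rcases hPQ ψ hψ with h | h
    · exact h
    · exact (hclaim χ₀ hχ₀ ψ hψ hP h).elim
  · push Not at hex
    refine ⟨-1, Or.inr rfl, ?_, hinj⟩
    intro ψ hψ
    rw [neg_one_smul]
    rcases hPQ ψ hψ with h | h
    · exact (hex ψ hψ h).elim
    · exact h

end Cfsg.Agent.S1529
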