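import Cfsg.Statements.S1530
import Cfsg.Agent.Lib.Helper26.Coherence

set_option autoImplicit false
open Cfsg

namespace Cfsg.Agent.S1530
open Cfsg.Agent.Lib.Helper26

/-- Let N be a subgroup of the finite group G and S₀ a finite set of irreducible characters of N, χ an irreducible character of N not in S₀, with degrees ξ 1 = d ξ. Let τ be a linear isometry on the integer combinations of S₀ ∪ {χ} vanishing at 1, with values virtual characters of G vanishing at 1, such that (S₀, N minus 1, τ) is coherent. If some ψ ∈ S₀ has d ψ dividing d χ and 2 · d ψ · d χ < Σ_{ξ ∈ S₀} (d ξ)², then (S₀ ∪ {χ}, N minus 1, τ) is coherent. -/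
theorem result {G : Type*} [Group G] [Fintype G] (N : Subgroup G) [Fintype N] (S₀ : Finset (N → ℂ)) (χ : N → ℂ) (hirr : ∀ ξ ∈ S₀, Cfsg.IsIrrCharacter N ξ) (hχ : Cfsg.IsIrrCharacter N χ) (hχS : χ ∉ S₀) (d : (N → ℂ) → ℕ) (hd : ∀ ξ ∈ insert χ S₀, ξ 1 = (d ξ : ℂ)) (τ : (N → ℂ) → (G → ℂ)) (hτ : Cfsg.IsLinearIsometryOn (Cfsg.zspanOn (↑(insert χ S₀) : Set (N → ℂ)) {1}ᶜ) τ) (hτ1 : ∀ α ∈ Cfsg.zspanOn (↑(insert χ S₀) : Set (N → ℂ)) {1}ᶜ, τ α 1 = 0) (hcoh : Cfsg.IsCoherent (↑S₀ : Set (N → ℂ)) {1}ᶜ τ) (ψ : N → ℂ) (hψ : ψ ∈ S₀) (hdvd : d ψ ∣ d χ) (hlt : 2 * d ψ * d χ < ∑ ξ ∈ S₀, d ξ ^ 2) : Cfsg.IsCoherent (↑(insert χ S₀) : Set (N → ℂ)) {1}ᶜ τ := by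
  classical
  obtain ⟨_, τ₀, hτ₀, hτ₀eq⟩ := hcoh
  obtain ⟨h0add, h0smul, h0iso, h0gen⟩ := hτ₀
  obtain ⟨hτadd, hτsmul, hτiso, hτgen⟩ := hτ
  obtain ⟨Z, hZdef⟩ : ∃ Z : Set (N → ℂ), Z = ↑(insert χ S₀) := ⟨_, rfl⟩
  rw [← hZdef] at hτadd hτsmul hτiso hτgen hτ1 ⊢
  have hZmem : ∀ ξ, ξ ∈ Z ↔ ξ = χ ∨ ξ ∈ S₀ := by
    intro ξ
    rw [hZdef, Finset.mem_coe, Finset.mem_insert]
  have hS₀Z : (↑S₀ : Set (N → ℂ)) ⊆ Z := fun x hx => (hZmem x).mpr (Or.inr (Finset.mem_coe.mp hx))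
  have hχZ : χ ∈ Z := (hZmem χ).mpr (Or.inl rfl)
  have hzS₀Z := zspan_mono hS₀Z
  have hZirr : ∀ ξ ∈ Z, IsIrrCharacter N ξ := by
    intro ξ hξ
    rcases (hZmem ξ).mp hξ with rfl | h
    · exact hχ
    · exact hirr ξ h
  have hmemS : ∀ ξ ∈ S₀, ξ ∈ zspan (↑S₀ : Set (N → ℂ)) :=
    fun ξ h => subset_zspan _ (Finset.mem_coe.mpr h)
  have hdχ : χ 1 = d χ := hd χ (Finset.mem_insert_self _ _)
  have hdS : ∀ ξ ∈ S₀, ξ 1 = d ξ := fun ξ h => hd ξ (Finset.mem_insert_of_mem h)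
  have hdpos : ∀ ξ ∈ S₀, 0 < d ξ := by
    intro ξ h
    obtain ⟨k, hk, hk'⟩ := irr_degree (hirr ξ h)
    have h1 := hdS ξ h
    rw [hk'] at h1
    have : k = d ξ := by exact_mod_cast h1
    omega
  have hdχpos : 0 < d χ := by
    obtain ⟨k, hk, hk'⟩ := irr_degree hχ
    rw [hk'] at hdχ
    have : k = d χ := by exact_mod_cast hdχ
    omega
  obtain ⟨a, ha⟩ := hdvd
  have hapos : 0 < a := by
    rcases Nat.eq_zero_or_pos a with h | h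
    · rw [h, mul_zero] at ha; omega
    · exact h
  have hppos : 0 < d ψ := hdpos ψ hψ
  have hχψ : χ ≠ ψ := fun h => hχS (h ▸ hψ)
  have hχξ : ∀ ξ ∈ S₀, χ ≠ ξ := fun ξ h h' => hχS (h' ▸ h)
  have hψm := hmemS ψ hψ
  have hχm : χ ∈ zspan Z := subset_zspan _ hχZ
  obtain ⟨β, hβ⟩ : ∃ β : N → ℂ, β = χ + (-(a : ℤ)) • ψ := ⟨_, rfl⟩
  have hβm : β ∈ zspan Z := by
    rw [hβ]; exact add_mem_zspan hχm (zsmul_mem_zspan _ (hzS₀Z hψm))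
  have hβ1 : β 1 = 0 := by
    rw [hβ]
    show χ 1 + (-(a : ℤ)) • ψ 1 = 0
    rw [hdχ, hdS ψ hψ, zsmul_eq_mul, ha]
    push_cast; ring
  have hβE : β ∈ zspanOn Z {1}ᶜ := mem_zspanOn_compl_one.mpr ⟨hβm, hβ1⟩
  obtain ⟨Δ, hΔ⟩ : ∃ Δ, Δ = τ β := ⟨_, rfl⟩
  have hΔgen : IsGeneralizedCharacter G Δ := hΔ ▸ hτgen β hβE
  have hΔ1 : Δ 1 = 0 := hΔ ▸ hτ1 β hβE
  have hψψ : classInner ψ ψ = 1 := by rw [classInner_irr (hirr ψ hψ) (hirr ψ hψ), if_pos rfl]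
  have hχχ : classInner χ χ = 1 := by rw [classInner_irr hχ hχ, if_pos rfl]
  have hχψ0 : classInner χ ψ = 0 := by rw [classInner_irr hχ (hirr ψ hψ), if_neg hχψ]
  have hψχ0 : classInner ψ χ = 0 := by rw [classInner_irr (hirr ψ hψ) hχ, if_neg (Ne.symm hχψ)]
  have hΔnorm : classInner Δ Δ = 1 + (a : ℂ) ^ 2 := by
    rw [hΔ, hτiso β hβE β hβE, hβ]
    simp only [classInner_add_left, classInner_add_right, classInner_zsmul_left,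
      classInner_zsmul_right, hψψ, hχχ, hχψ0, hψχ0]
    push_cast; ring
  have hbint : ∀ ξ ∈ S₀, ∃ b : ℤ, classInner Δ (τ₀ ξ) = b :=
    fun ξ h => classInner_generalized_int hΔgen (h0gen ξ (hmemS ξ h))
  choose! B hB using hbint
  -- γ_ξ
  have hγ : ∀ ξ ∈ S₀, ((d ψ : ℤ) • ξ + (-(d ξ : ℤ)) • ψ) ∈ zspan (↑S₀ : Set (N → ℂ)) ∧
      ((d ψ : ℤ) • ξ + (-(d ξ : ℤ)) • ψ) 1 = 0 := by
    intro ξ hξ
    refine ⟨add_mem_zspan (zsmul_mem_zspan _ (hmemS ξ hξ)) (zsmul_mem_zspan _ hψm), ?_⟩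
    show (d ψ : ℤ) • ξ 1 + (-(d ξ : ℤ)) • ψ 1 = 0
    rw [hdS ξ hξ, hdS ψ hψ, zsmul_eq_mul, zsmul_eq_mul]
    push_cast; ring
  have hτγ : ∀ ξ ∈ S₀, τ ((d ψ : ℤ) • ξ + (-(d ξ : ℤ)) • ψ) =
      (d ψ : ℤ) • τ₀ ξ + (-(d ξ : ℤ)) • τ₀ ψ := by
    intro ξ hξ
    obtain ⟨h1, h2⟩ := hγ ξ hξ
    rw [← hτ₀eq _ (mem_zspanOn_compl_one.mpr ⟨h1, h2⟩),
      h0add _ (zsmul_mem_zspan _ (hmemS ξ hξ)) _ (zsmul_mem_zspan _ hψm),
      h0smul ξ (hmemS ξ hξ), h0smul ψ hψm]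
  have hrel : ∀ ξ ∈ S₀, (d ψ : ℤ) * B ξ =
      (d ξ : ℤ) * (B ψ + a) - (if ξ = ψ then (a : ℤ) * d ψ else 0) := by
    intro ξ hξ
    obtain ⟨h1, h2⟩ := hγ ξ hξ
    have hγE : ((d ψ : ℤ) • ξ + (-(d ξ : ℤ)) • ψ) ∈ zspanOn Z {1}ᶜ :=
      mem_zspanOn_compl_one.mpr ⟨hzS₀Z h1, h2⟩
    have h3 := hτiso β hβE _ hγE
    rw [← hΔ, hτγ ξ hξ, hβ] at h3
    have hχξ0 : classInner χ ξ = 0 := by
      rw [classInner_irr hχ (hirr ξ hξ), if_neg (hχξ ξ hξ)]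
    simp only [classInner_add_left, classInner_add_right, classInner_zsmul_left,
      classInner_zsmul_right, hB ξ hξ, hB ψ hψ, hψψ, hχψ0, hχξ0] at h3
    by_cases hξψ : ξ = ψ
    · rw [if_pos hξψ, hξψ]; ring
    · rw [if_neg hξψ, sub_zero]
      have hψξ0 : classInner ψ ξ = 0 := by
        rw [classInner_irr (hirr ψ hψ) (hirr ξ hξ), if_neg (Ne.symm hξψ)]
      rw [hψξ0] at h3
      have h4 : (((d ψ : ℤ) * B ξ : ℤ) : ℂ) = (((d ξ : ℤ) * (B ψ + a) : ℤ) : ℂ) := by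
        push_cast at h3 ⊢
        linear_combination h3
      exact_mod_cast h4
  -- orthonormality of τ₀ on S₀
  have h0ortho : ∀ ξ ∈ S₀, ∀ ξ' ∈ S₀, classInner (τ₀ ξ) (τ₀ ξ') = if ξ = ξ' then 1 else 0 := by
    intro ξ hξ ξ' hξ'
    rw [h0iso ξ (hmemS ξ hξ) ξ' (hmemS ξ' hξ'), classInner_irr (hirr ξ hξ) (hirr ξ' hξ')]
  obtain ⟨hproj, hperp⟩ := norm_sub_proj S₀ τ₀ h0ortho Δ B hB
  have hΔ'gen : IsGeneralizedCharacter G (Δ - ∑ ξ ∈ S₀, B ξ • τ₀ ξ) :=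
    isGeneralizedCharacter_sub hΔgen (isGeneralizedCharacter_sum _ _
      (fun ξ hξ => isGeneralizedCharacter_zsmul (h0gen ξ (hmemS ξ hξ)) _))
  obtain ⟨n, hn, hn0⟩ := genChar_norm_nat hΔ'gen
  rw [hproj, hΔnorm] at hn
  have hnZ : (n : ℤ) = 1 + (a : ℤ) ^ 2 - ∑ ξ ∈ S₀, (B ξ) ^ 2 := by
    have : ((n : ℤ) : ℂ) = ((1 + (a : ℤ) ^ 2 - ∑ ξ ∈ S₀, (B ξ) ^ 2 : ℤ) : ℂ) := by
      push_cast
      rw [← hn]
    exact_mod_cast this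
  -- Fact 1
  have hF1 : (d ψ : ℤ) ^ 2 * ∑ ξ ∈ S₀, (B ξ) ^ 2 =
      (B ψ + a) ^ 2 * ∑ ξ ∈ S₀, (d ξ : ℤ) ^ 2 - 2 * a * (B ψ + a) * (d ψ : ℤ) ^ 2
        + (a : ℤ) ^ 2 * (d ψ : ℤ) ^ 2 := by
    rw [Finset.mul_sum, Finset.mul_sum]
    have hterm : ∀ ξ ∈ S₀, (d ψ : ℤ) ^ 2 * (B ξ) ^ 2 = (B ψ + a) ^ 2 * (d ξ : ℤ) ^ 2 -
        (if ξ = ψ then 2 * a * (B ψ + a) * (d ψ : ℤ) ^ 2 - (a : ℤ) ^ 2 * (d ψ : ℤ) ^ 2 else 0) := by
      intro ξ hξ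
      have h := hrel ξ hξ
      have h' : (d ψ : ℤ) ^ 2 * (B ξ) ^ 2 = ((d ψ : ℤ) * B ξ) ^ 2 := by ring
      rw [h', h]
      by_cases hξψ : ξ = ψ
      · rw [if_pos hξψ, if_pos hξψ, hξψ]; ring
      · rw [if_neg hξψ, if_neg hξψ]; ring
    rw [Finset.sum_congr rfl hterm, Finset.sum_sub_distrib, Finset.sum_ite_eq' S₀ ψ, if_pos hψ]
    ring
  have hF3 : 2 * (a : ℤ) * (d ψ : ℤ) ^ 2 < ∑ ξ ∈ S₀, (d ξ : ℤ) ^ 2 := by
    have : ((2 * d ψ * d χ : ℕ) : ℤ) < ((∑ ξ ∈ S₀, d ξ ^ 2 : ℕ) : ℤ) := by exact_mod_cast hlt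
    rw [ha] at this
    push_cast at this
    nlinarith [this]
  have hpZ : (0 : ℤ) < d ψ := by exact_mod_cast hppos
  have haZ : (1 : ℤ) ≤ a := by exact_mod_cast hapos
  have hnn : (0 : ℤ) ≤ n := Int.natCast_nonneg n
  -- key: t = 0
  have ht0 : B ψ + a = 0 := by
    by_contra htne
    obtain ⟨t, ht⟩ : ∃ t : ℤ, t = B ψ + a := ⟨_, rfl⟩
    rw [← ht] at hF1 htne
    obtain ⟨D, hD⟩ : ∃ D : ℤ, D = ∑ ξ ∈ S₀, (d ξ : ℤ) ^ 2 := ⟨_, rfl⟩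
    rw [← hD] at hF1 hF3
    obtain ⟨p, hp⟩ : ∃ p : ℤ, p = d ψ := ⟨_, rfl⟩
    rw [← hp] at hF1 hF3 hpZ
    obtain ⟨A, hA⟩ : ∃ A : ℤ, A = a := ⟨_, rfl⟩
    rw [← hA] at hF1 hF3 haZ hnZ
    -- p² n = p²(1+2At) - t² D
    have hpn : p ^ 2 * n = p ^ 2 * (1 + 2 * A * t) - t ^ 2 * D := by
      rw [hnZ, mul_sub, hF1]; ring
    have hp2 : 0 < p ^ 2 := by positivity
    have ht2 : 0 < t ^ 2 := by positivity
    have h2 : 2 * A * p ^ 2 * t ^ 2 < t ^ 2 * D := by nlinarith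
    have h3 : p ^ 2 * (2 * A * t ^ 2) < p ^ 2 * (1 + 2 * A * t) := by nlinarith
    have h4 : 2 * A * t ^ 2 < 1 + 2 * A * t := lt_of_mul_lt_mul_left h3 hp2.le
    have ht1 : t = 1 := by
      by_contra hne
      have : t ≤ -1 ∨ 2 ≤ t := by omega
      rcases this with h | h
      · nlinarith
      · have h5 : 2 ≤ A * t := by nlinarith
        nlinarith [mul_le_mul_of_nonneg_left h (by linarith : (0 : ℤ) ≤ A * t)]
    rw [ht1] at hpn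
    have h5 : p ^ 2 * n < p ^ 2 * 1 := by nlinarith
    have h6 : (n : ℤ) < 1 := lt_of_mul_lt_mul_left h5 hp2.le
    have hn0' : n = 0 := by omega
    have hΔeq : Δ = ∑ ξ ∈ S₀, B ξ • τ₀ ξ := sub_eq_zero.mp (hn0 hn0')
    have hDval : D = p ^ 2 * (1 + 2 * A) := by
      rw [hn0'] at hpn
      push_cast at hpn
      linarith
    -- evaluate at 1
    have hτ₀1 : ∀ ξ ∈ S₀, (p : ℂ) * τ₀ ξ 1 = (d ξ : ℂ) * τ₀ ψ 1 := by
      intro ξ hξ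
      obtain ⟨h1, h2⟩ := hγ ξ hξ
      have h7 := hτ1 _ (mem_zspanOn_compl_one.mpr ⟨hzS₀Z h1, h2⟩)
      rw [hτγ ξ hξ] at h7
      have h8 : (d ψ : ℤ) • τ₀ ξ 1 + (-(d ξ : ℤ)) • τ₀ ψ 1 = 0 := h7
      rw [zsmul_eq_mul, zsmul_eq_mul] at h8
      rw [hp]
      push_cast at h8 ⊢
      linear_combination h8
    have hm : τ₀ ψ 1 ≠ 0 := by
      have hnorm : classInner (τ₀ ψ) (τ₀ ψ) = 1 := by rw [h0ortho ψ hψ ψ hψ, if_pos rfl]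
      obtain ⟨μ, hμ, h | h⟩ := genChar_norm_one (h0gen ψ hψm) hnorm
      · obtain ⟨k, hk, hk'⟩ := irr_degree hμ
        rw [h, hk']
        exact_mod_cast hk.ne'
      · obtain ⟨k, hk, hk'⟩ := irr_degree hμ
        rw [h, Pi.neg_apply, hk', neg_ne_zero]
        exact_mod_cast hk.ne'
    have h9 : ∑ ξ ∈ S₀, (B ξ : ℂ) * τ₀ ξ 1 = 0 := by
      have := congrFun hΔeq 1
      rw [hΔ1, Finset.sum_apply] at this
      rw [this]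
      apply Finset.sum_congr rfl
      intro ξ _
      show (B ξ : ℂ) * τ₀ ξ 1 = B ξ • τ₀ ξ 1
      rw [zsmul_eq_mul]
    have h10 : ∑ ξ ∈ S₀, ((p : ℂ) * (B ξ : ℂ)) * ((p : ℂ) * τ₀ ξ 1) = 0 := by
      have : ∑ ξ ∈ S₀, ((p : ℂ) * (B ξ : ℂ)) * ((p : ℂ) * τ₀ ξ 1) =
          (p : ℂ) ^ 2 * ∑ ξ ∈ S₀, (B ξ : ℂ) * τ₀ ξ 1 := by
        rw [Finset.mul_sum]
        apply Finset.sum_congr rfl
        intro ξ _; ring
      rw [this, h9, mul_zero]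
    have hterm2 : ∀ ξ ∈ S₀, ((p : ℂ) * (B ξ : ℂ)) * ((p : ℂ) * τ₀ ξ 1) =
        τ₀ ψ 1 * ((d ξ : ℂ) ^ 2) - (if ξ = ψ then τ₀ ψ 1 * ((A : ℂ) * p * p) else 0) := by
      intro ξ hξ
      have h := hrel ξ hξ
      rw [← ht, ht1, ← hp, ← hA] at h
      have hc : (p : ℂ) * (B ξ : ℂ) = (d ξ : ℂ) - (if ξ = ψ then (A : ℂ) * p else 0) := by
        have : ((p * B ξ : ℤ) : ℂ) = (((d ξ : ℤ) * 1 - (if ξ = ψ then A * p else 0) : ℤ) : ℂ) := by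
          rw [h]
        push_cast at this
        rw [this]
        split_ifs <;> simp
      rw [hc, hτ₀1 ξ hξ]
      by_cases hξψ : ξ = ψ
      · have hpc : (p : ℂ) = (d ψ : ℂ) := by rw [hp]; simp
        rw [if_pos hξψ, if_pos hξψ, hξψ, hpc]; ring
      · rw [if_neg hξψ, if_neg hξψ]; ring
    rw [Finset.sum_congr rfl hterm2, Finset.sum_sub_distrib, Finset.sum_ite_eq' S₀ ψ, if_pos hψ,
      ← Finset.mul_sum, ← mul_sub] at h10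
    rcases mul_eq_zero.mp h10 with h | h
    · exact hm h
    · have h11 : ((D - A * p * p : ℤ) : ℂ) = 0 := by
        rw [hD]; push_cast; exact h
      have h12 : D - A * p * p = 0 := by exact_mod_cast h11
      rw [hDval] at h12
      nlinarith
  -- Now t = 0: build the extension
  have hBψ : B ψ = -(a : ℤ) := by linarith
  have hBξ : ∀ ξ ∈ S₀, B ξ = -(if ξ = ψ then (a : ℤ) else 0) := by
    intro ξ hξ
    have h := hrel ξ hξ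
    rw [ht0, mul_zero, zero_sub] at h
    by_cases hξψ : ξ = ψ
    · rw [if_pos hξψ, hξψ, hBψ]
    · rw [if_neg hξψ] at h ⊢
      rw [neg_zero] at h ⊢
      rcases mul_eq_zero.mp h with h' | h'
      · omega
      · exact h'
  obtain ⟨χs, hχs⟩ : ∃ χs : G → ℂ, χs = Δ + (a : ℤ) • τ₀ ψ := ⟨_, rfl⟩
  have hχsgen : IsGeneralizedCharacter G χs := by
    rw [hχs]; exact isGeneralizedCharacter_add hΔgen (isGeneralizedCharacter_zsmul (h0gen ψ hψm) _)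
  have hχsξ : ∀ ξ ∈ S₀, classInner χs (τ₀ ξ) = 0 := by
    intro ξ hξ
    rw [hχs, classInner_add_left, classInner_zsmul_left, hB ξ hξ, h0ortho ψ hψ ξ hξ, hBξ ξ hξ]
    by_cases hξψ : ξ = ψ
    · rw [if_pos hξψ, if_pos hξψ.symm]; push_cast; ring
    · rw [if_neg hξψ, if_neg (Ne.symm hξψ)]; push_cast; ring
  have hχsnorm : classInner χs χs = 1 := by
    have h1 : classInner χs χs = classInner χs (Δ + (a : ℤ) • τ₀ ψ) := by rw [← hχs]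
    have h2 : classInner χs Δ = classInner (Δ + (a : ℤ) • τ₀ ψ) Δ := by rw [← hχs]
    rw [h1, classInner_add_right, classInner_zsmul_right, hχsξ ψ hψ, mul_zero, add_zero, h2,
      classInner_add_left, classInner_zsmul_left, hΔnorm, ← classInner_conj_symm, hB ψ hψ, hBψ]
    simp only [map_intCast]
    push_cast; ring
  obtain ⟨F, hF⟩ : ∃ F : (N → ℂ) → (G → ℂ), F = fun ξ => if ξ = χ then χs else τ₀ ξ := ⟨_, rfl⟩
  have hFχ : F χ = χs := by rw [hF]; exact if_pos rfl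
  have hFS : ∀ ξ ∈ S₀, F ξ = τ₀ ξ := by
    intro ξ hξ
    rw [hF]; exact if_neg (fun h => hχξ ξ hξ h.symm)
  have hFgen : ∀ ξ ∈ Z, IsGeneralizedCharacter G (F ξ) := by
    intro ξ hξ
    rcases (hZmem ξ).mp hξ with rfl | h
    · rw [hFχ]; exact hχsgen
    · rw [hFS ξ h]; exact h0gen ξ (hmemS ξ h)
  have hFortho : ∀ ξ ∈ Z, ∀ ξ' ∈ Z, classInner (F ξ) (F ξ') = classInner ξ ξ' := by
    intro ξ hξ ξ' hξ'
    rcases (hZmem ξ).mp hξ with rfl | h <;> rcases (hZmem ξ').mp hξ' with rfl | h'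
    · rw [hFχ, hχsnorm, hχχ]
    · rw [hFχ, hFS ξ' h', hχsξ ξ' h', classInner_irr hχ (hirr ξ' h'), if_neg (hχξ ξ' h')]
    · rw [hFχ, hFS ξ h, ← classInner_conj_symm, hχsξ ξ h, map_zero,
        classInner_irr (hirr ξ h) hχ, if_neg (Ne.symm (hχξ ξ h))]
    · rw [hFS ξ h, hFS ξ' h', h0iso ξ (hmemS ξ h) ξ' (hmemS ξ' h')]
  obtain ⟨T, hTadd, hTsmul, hTirr, hTiso⟩ := exists_glue Z hZirr F hFgen hFortho
  have hTS : ∀ θ ∈ zspan (↑S₀ : Set (N → ℂ)), T θ = τ₀ θ :=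
    eq_on_zspan _ T τ₀ (fun a _ b _ => hTadd a b) (fun a _ n => hTsmul n a) h0add h0smul
      (fun ξ hξ => by
        rw [hTirr ξ (hirr ξ (Finset.mem_coe.mp hξ)), hFS ξ (Finset.mem_coe.mp hξ)])
  refine ⟨⟨β, hβE, ?_⟩, T, hTiso, ?_⟩
  · intro h0
    have h1 : classInner β χ = 0 := by rw [h0, classInner_zero_left]
    rw [hβ, classInner_add_left, classInner_zsmul_left, hχχ, hψχ0, mul_zero, add_zero] at h1
    exact one_ne_zero h1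
  · intro θ hθ
    obtain ⟨hθm, hθ1⟩ := mem_zspanOn_compl_one.mp hθ
    have hθm' : θ ∈ Submodule.span ℤ (insert χ (↑S₀ : Set (N → ℂ))) := by
      have : θ ∈ Submodule.span ℤ Z := hθm
      rwa [hZdef, Finset.coe_insert] at this
    obtain ⟨k, θ₀, hθ₀, hθeq⟩ := Submodule.mem_span_insert.mp hθm'
    have hθ₀' : θ₀ ∈ zspan (↑S₀ : Set (N → ℂ)) := hθ₀
    obtain ⟨θ₁, hθ₁⟩ : ∃ θ₁ : N → ℂ, θ₁ = θ₀ + (k * a) • ψ := ⟨_, rfl⟩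
    have hθ₁m : θ₁ ∈ zspan (↑S₀ : Set (N → ℂ)) := by
      rw [hθ₁]; exact add_mem_zspan hθ₀' (zsmul_mem_zspan _ hψm)
    have hsplit : θ = k • β + θ₁ := by
      rw [hθeq, hβ, hθ₁]; module
    have hkβ1 : (k • β) 1 = 0 := by rw [Pi.smul_apply, hβ1, smul_zero]
    have hθ₁1 : θ₁ 1 = 0 := by
      have : θ 1 = (k • β) 1 + θ₁ 1 := by rw [hsplit]; rfl
      rw [hθ1, hkβ1, zero_add] at this
      exact this.symm
    have hkβE : k • β ∈ zspanOn Z {1}ᶜ :=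
      mem_zspanOn_compl_one.mpr ⟨zsmul_mem_zspan _ hβm, hkβ1⟩
    have hθ₁E : θ₁ ∈ zspanOn Z {1}ᶜ := mem_zspanOn_compl_one.mpr ⟨hzS₀Z hθ₁m, hθ₁1⟩
    have hτθ : τ θ = k • Δ + τ₀ θ₁ := by
      rw [hsplit, hτadd _ hkβE _ hθ₁E, hτsmul β hβE, ← hΔ,
        ← hτ₀eq θ₁ (mem_zspanOn_compl_one.mpr ⟨hθ₁m, hθ₁1⟩)]
    have hTθ : T θ = k • χs + τ₀ θ₀ := by
      rw [hθeq, hTadd, hTsmul, hTirr χ hχ, hFχ, hTS θ₀ hθ₀']
    rw [hτθ, hTθ, hθ₁, h0add _ hθ₀' _ (zsmul_mem_zspan _ hψm), h0smul ψ hψm, hχs]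
    module

end Cfsg.Agent.S1530
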