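import Cfsg.Statements.S1531
import Cfsg.Agent.Lib.Helper26.ZSpan
import Cfsg.Agent.S1529

set_option autoImplicit false
open Cfsg

namespace Cfsg.Agent.S1531
open Cfsg.Agent.Lib.Helper26

open scoped ComplexConjugate

theorem part1 {G : Type*} [Group G] [Fintype G] (N : Subgroup G) [Fintype N] (S X Y : Set (N → ℂ))
    (hirr : ∀ ξ ∈ S, Cfsg.IsIrrCharacter N ξ) (hXS : X ⊆ S) (hYS : Y ⊆ S) (hXY : Disjoint X Y)
    (hX2 : ∃ a ∈ X, ∃ b ∈ X, a ≠ b) (hY2 : ∃ a ∈ Y, ∃ b ∈ Y, a ≠ b) (α : (N → ℂ) → (G → ℂ))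
    (hα : Cfsg.IsLinearIsometryOn (Cfsg.zspanOn S {1}ᶜ) α)
    (hα1 : ∀ θ ∈ Cfsg.zspanOn S {1}ᶜ, α θ 1 = 0) (σ τ : (N → ℂ) → (G → ℂ))
    (hσ : Cfsg.IsLinearIsometryOn (Cfsg.zspan X) σ) (hσα : ∀ θ ∈ Cfsg.zspanOn X {1}ᶜ, σ θ = α θ)
    (hτ : Cfsg.IsLinearIsometryOn (Cfsg.zspan Y) τ) (hτα : ∀ θ ∈ Cfsg.zspanOn Y {1}ᶜ, τ θ = α θ) :
    ∀ χ ∈ X, ∀ η ∈ Y, Cfsg.classInner (σ χ) (τ η) = 0 := by
  classical
  have hzXS : zspan X ⊆ zspan S := zspan_mono hXS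
  have hzYS : zspan Y ⊆ zspan S := zspan_mono hYS
  have h0σ : ∀ θ ∈ zspan X, θ 1 = 0 → σ θ 1 = 0 := by
    intro θ hθ h1
    have hon : θ ∈ zspanOn X {1}ᶜ := mem_zspanOn_compl_one.mpr ⟨hθ, h1⟩
    rw [hσα θ hon]
    exact hα1 θ (mem_zspanOn_compl_one.mpr ⟨hzXS hθ, h1⟩)
  have h0τ : ∀ θ ∈ zspan Y, θ 1 = 0 → τ θ 1 = 0 := by
    intro θ hθ h1
    have hon : θ ∈ zspanOn Y {1}ᶜ := mem_zspanOn_compl_one.mpr ⟨hθ, h1⟩
    rw [hτα θ hon]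
    exact hα1 θ (mem_zspanOn_compl_one.mpr ⟨hzYS hθ, h1⟩)
  obtain ⟨ε, hε, hεirr, hεinj⟩ :=
    Cfsg.Agent.S1529.result N X (fun χ h => hirr χ (hXS h)) hX2 σ hσ h0σ
  obtain ⟨ε', hε', hε'irr, hε'inj⟩ :=
    Cfsg.Agent.S1529.result N Y (fun χ h => hirr χ (hYS h)) hY2 τ hτ h0τ
  obtain ⟨hσadd, hσsmul, hσiso, hσgen⟩ := hσ
  obtain ⟨hτadd, hτsmul, hτiso, hτgen⟩ := hτ
  intro χ₁ hχ₁ η₁ hη₁
  by_contra hne
  obtain ⟨χ₂, hχ₂, hχ₁₂⟩ : ∃ χ₂ ∈ X, χ₂ ≠ χ₁ := by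
    obtain ⟨a, ha, b, hb, hab⟩ := hX2
    by_cases h : a = χ₁
    · exact ⟨b, hb, fun hb' => hab (h.trans hb'.symm)⟩
    · exact ⟨a, ha, h⟩
  obtain ⟨η₂, hη₂, hη₁₂⟩ : ∃ η₂ ∈ Y, η₂ ≠ η₁ := by
    obtain ⟨a, ha, b, hb, hab⟩ := hY2
    by_cases h : a = η₁
    · exact ⟨b, hb, fun hb' => hab (h.trans hb'.symm)⟩
    · exact ⟨a, ha, h⟩
  have hεε : ε * ε = 1 := by rcases hε with rfl | rfl <;> norm_num
  have hε'ε' : ε' * ε' = 1 := by rcases hε' with rfl | rfl <;> norm_num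
  have hε0 : ε ≠ 0 := by rcases hε with rfl | rfl <;> norm_num
  have hε'0 : ε' ≠ 0 := by rcases hε' with rfl | rfl <;> norm_num
  have hcε' : conj ε' = ε' := by rcases hε' with rfl | rfl <;> simp
  obtain ⟨μ₁, hμ₁def⟩ : ∃ m, m = ε • σ χ₁ := ⟨_, rfl⟩
  obtain ⟨μ₂, hμ₂def⟩ : ∃ m, m = ε • σ χ₂ := ⟨_, rfl⟩
  obtain ⟨ν₁, hν₁def⟩ : ∃ m, m = ε' • τ η₁ := ⟨_, rfl⟩
  obtain ⟨ν₂, hν₂def⟩ : ∃ m, m = ε' • τ η₂ := ⟨_, rfl⟩
  have hμ₁ : IsIrrCharacter G μ₁ := hμ₁def ▸ hεirr χ₁ hχ₁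
  have hμ₂ : IsIrrCharacter G μ₂ := hμ₂def ▸ hεirr χ₂ hχ₂
  have hν₁ : IsIrrCharacter G ν₁ := hν₁def ▸ hε'irr η₁ hη₁
  have hν₂ : IsIrrCharacter G ν₂ := hν₂def ▸ hε'irr η₂ hη₂
  have hs₁ : σ χ₁ = ε • μ₁ := by rw [hμ₁def, smul_smul, hεε, one_smul]
  have hs₂ : σ χ₂ = ε • μ₂ := by rw [hμ₂def, smul_smul, hεε, one_smul]
  have ht₁ : τ η₁ = ε' • ν₁ := by rw [hν₁def, smul_smul, hε'ε', one_smul]
  have ht₂ : τ η₂ = ε' • ν₂ := by rw [hν₂def, smul_smul, hε'ε', one_smul]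
  have hμν : μ₁ = ν₁ := by
    apply eq_of_classInner_ne_zero hμ₁ hν₁
    rw [hμ₁def, hν₁def, classInner_smul_left, classInner_smul_right]
    exact mul_ne_zero hε0 (mul_ne_zero (by rw [hcε']; exact hε'0) hne)
  have hμ₁₂ : μ₂ ≠ μ₁ := by
    intro h
    apply hχ₁₂
    apply hεinj χ₂ hχ₂ χ₁ hχ₁
    rw [hs₁, hs₂, h]
  have hν₁₂ : ν₂ ≠ ν₁ := by
    intro h
    apply hη₁₂
    apply hε'inj η₂ hη₂ η₁ hη₁
    rw [ht₁, ht₂, h]
  have h11 : classInner μ₁ ν₁ = 1 := by rw [classInner_irr hμ₁ hν₁, if_pos hμν]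
  have h12 : classInner μ₁ ν₂ = 0 := by
    rw [classInner_irr hμ₁ hν₂, if_neg]
    intro h; exact hν₁₂ (h.symm.trans hμν)
  have h21 : classInner μ₂ ν₁ = 0 := by
    rw [classInner_irr hμ₂ hν₁, if_neg]
    intro h; exact hμ₁₂ (h.trans hμν.symm)
  obtain ⟨d₁, hd₁, hd₁'⟩ := irr_degree (hirr χ₁ (hXS hχ₁))
  obtain ⟨d₂, hd₂, hd₂'⟩ := irr_degree (hirr χ₂ (hXS hχ₂))
  obtain ⟨e₁, he₁, he₁'⟩ := irr_degree (hirr η₁ (hYS hη₁))
  obtain ⟨e₂, he₂, he₂'⟩ := irr_degree (hirr η₂ (hYS hη₂))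
  have hχ₁m : χ₁ ∈ zspan X := subset_zspan X hχ₁
  have hχ₂m : χ₂ ∈ zspan X := subset_zspan X hχ₂
  have hη₁m : η₁ ∈ zspan Y := subset_zspan Y hη₁
  have hη₂m : η₂ ∈ zspan Y := subset_zspan Y hη₂
  have ha1 : ((d₂ : ℤ) • χ₁) ∈ zspan X := zsmul_mem_zspan _ hχ₁m
  have ha2 : ((-(d₁ : ℤ)) • χ₂) ∈ zspan X := zsmul_mem_zspan _ hχ₂m
  have ha : ((d₂ : ℤ) • χ₁ + (-(d₁ : ℤ)) • χ₂) ∈ zspan X := add_mem_zspan ha1 ha2
  have hb1 : ((e₂ : ℤ) • η₁) ∈ zspan Y := zsmul_mem_zspan _ hη₁m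
  have hb2 : ((-(e₁ : ℤ)) • η₂) ∈ zspan Y := zsmul_mem_zspan _ hη₂m
  have hb : ((e₂ : ℤ) • η₁ + (-(e₁ : ℤ)) • η₂) ∈ zspan Y := add_mem_zspan hb1 hb2
  have ha0 : ((d₂ : ℤ) • χ₁ + (-(d₁ : ℤ)) • χ₂) 1 = 0 := by
    show (d₂ : ℤ) • χ₁ 1 + (-(d₁ : ℤ)) • χ₂ 1 = 0
    rw [hd₁', hd₂', zsmul_eq_mul, zsmul_eq_mul]
    push_cast; ring
  have hb0 : ((e₂ : ℤ) • η₁ + (-(e₁ : ℤ)) • η₂) 1 = 0 := by
    show (e₂ : ℤ) • η₁ 1 + (-(e₁ : ℤ)) • η₂ 1 = 0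
    rw [he₁', he₂', zsmul_eq_mul, zsmul_eq_mul]
    push_cast; ring
  have hiso := hα.2.2.1 _ (mem_zspanOn_compl_one.mpr ⟨hzXS ha, ha0⟩) _
    (mem_zspanOn_compl_one.mpr ⟨hzYS hb, hb0⟩)
  rw [← hσα _ (mem_zspanOn_compl_one.mpr ⟨ha, ha0⟩),
    ← hτα _ (mem_zspanOn_compl_one.mpr ⟨hb, hb0⟩),
    hσadd _ ha1 _ ha2, hσsmul _ hχ₁m, hσsmul _ hχ₂m,
    hτadd _ hb1 _ hb2, hτsmul _ hη₁m, hτsmul _ hη₂m, hs₁, hs₂, ht₁, ht₂] at hiso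
  have hXYne : ∀ χ ∈ X, ∀ η ∈ Y, classInner χ η = 0 := by
    intro χ hχ η hη
    rw [classInner_irr (hirr χ (hXS hχ)) (hirr η (hYS hη)), if_neg]
    intro h
    exact (Set.disjoint_left.mp hXY hχ) (h ▸ hη)
  simp only [classInner_add_left, classInner_add_right, classInner_zsmul_left,
    classInner_zsmul_right, classInner_smul_left, classInner_smul_right, h11, h12, h21,
    hXYne χ₁ hχ₁ η₁ hη₁, hXYne χ₁ hχ₁ η₂ hη₂, hXYne χ₂ hχ₂ η₁ hη₁, hXYne χ₂ hχ₂ η₂ hη₂,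
    hcε'] at hiso
  rw [classInner_irr hμ₂ hν₂] at hiso
  have hc : ε * ε' ≠ 0 := mul_ne_zero hε0 hε'0
  by_cases h22 : μ₂ = ν₂
  · rw [if_pos h22] at hiso
    have h5 : (ε * ε') * ((d₂ * e₂ + d₁ * e₁ : ℕ) : ℂ) = 0 := by
      push_cast at hiso ⊢
      linear_combination hiso
    rcases mul_eq_zero.mp h5 with h | h
    · exact hc h
    · have h6 : d₂ * e₂ + d₁ * e₁ = 0 := by exact_mod_cast h
      have : 0 < d₂ * e₂ := Nat.mul_pos hd₂ he₂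
      omega
  · rw [if_neg h22] at hiso
    have h5 : (ε * ε') * ((d₂ * e₂ : ℕ) : ℂ) = 0 := by
      push_cast at hiso ⊢
      linear_combination hiso
    rcases mul_eq_zero.mp h5 with h | h
    · exact hc h
    · have h6 : d₂ * e₂ = 0 := by exact_mod_cast h
      have : 0 < d₂ * e₂ := Nat.mul_pos hd₂ he₂
      omega

theorem part2 {G : Type*} [Group G] [Fintype G] (N : Subgroup G) [Fintype N] (S X Y : Set (N → ℂ))
    (hirr : ∀ ξ ∈ S, Cfsg.IsIrrCharacter N ξ) (hXS : X ⊆ S) (hYS : Y ⊆ S) (hXY : Disjoint X Y)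
    (hX2 : ∃ a ∈ X, ∃ b ∈ X, a ≠ b) (hY2 : ∃ a ∈ Y, ∃ b ∈ Y, a ≠ b) (α : (N → ℂ) → (G → ℂ))
    (hα : Cfsg.IsLinearIsometryOn (Cfsg.zspanOn S {1}ᶜ) α)
    (hα1 : ∀ θ ∈ Cfsg.zspanOn S {1}ᶜ, α θ 1 = 0) (σ τ : (N → ℂ) → (G → ℂ))
    (hσ : Cfsg.IsLinearIsometryOn (Cfsg.zspan X) σ) (hσα : ∀ θ ∈ Cfsg.zspanOn X {1}ᶜ, σ θ = α θ)
    (hτ : Cfsg.IsLinearIsometryOn (Cfsg.zspan Y) τ) (hτα : ∀ θ ∈ Cfsg.zspanOn Y {1}ᶜ, τ θ = α θ)
    (hlink : ∃ χ₀ ∈ X, ∃ η₀ ∈ Y, α (χ₀ 1 • η₀ - η₀ 1 • χ₀) = χ₀ 1 • τ η₀ - η₀ 1 • σ χ₀) :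
    Cfsg.IsCoherent (X ∪ Y) {1}ᶜ α := by
  classical
  haveI : Fintype (IrrCharacter N) := Fintype.ofFinite _
  have hp1 := part1 N S X Y hirr hXS hYS hXY hX2 hY2 α hα hα1 σ τ hσ hσα hτ hτα
  obtain ⟨hσadd, hσsmul, hσiso, hσgen⟩ := hσ
  obtain ⟨hτadd, hτsmul, hτiso, hτgen⟩ := hτ
  obtain ⟨hαadd, hαsmul, hαiso, hαgen⟩ := hα
  have hzXS : zspan X ⊆ zspan S := zspan_mono hXS
  have hzYS : zspan Y ⊆ zspan S := zspan_mono hYS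
  have hzXU : zspan X ⊆ zspan (X ∪ Y) := zspan_mono Set.subset_union_left
  have hzYU : zspan Y ⊆ zspan (X ∪ Y) := zspan_mono Set.subset_union_right
  have hzUS : zspan (X ∪ Y) ⊆ zspan S := zspan_mono (Set.union_subset hXS hYS)
  have hXYirr : ∀ ξ ∈ X ∪ Y, IsIrrCharacter N ξ := by
    intro ξ hξ
    rcases hξ with h | h
    · exact hirr ξ (hXS h)
    · exact hirr ξ (hYS h)
  have hXYne : ∀ χ ∈ X, ∀ η ∈ Y, classInner χ η = 0 := by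
    intro χ hχ η hη
    rw [classInner_irr (hirr χ (hXS hχ)) (hirr η (hYS hη)), if_neg]
    intro h
    exact (Set.disjoint_left.mp hXY hχ) (h ▸ hη)
  obtain ⟨F, hF⟩ : ∃ F : (N → ℂ) → (G → ℂ),
      F = fun ξ => if ξ ∈ X then σ ξ else if ξ ∈ Y then τ ξ else 0 := ⟨_, rfl⟩
  obtain ⟨T, hT⟩ : ∃ T : (N → ℂ) → (G → ℂ),
      T = fun θ => ∑ ξ : IrrCharacter N, classInner θ (ξ : N → ℂ) • F ξ := ⟨_, rfl⟩
  have hFX : ∀ χ ∈ X, F χ = σ χ := by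
    intro χ hχ
    rw [hF]; exact if_pos hχ
  have hFY : ∀ η ∈ Y, F η = τ η := by
    intro η hη
    rw [hF]
    show (if η ∈ X then σ η else if η ∈ Y then τ η else 0) = τ η
    rw [if_neg (fun h => Set.disjoint_left.mp hXY h hη), if_pos hη]
  have hTadd : ∀ a b, T (a + b) = T a + T b := by
    intro a b
    rw [hT]
    show ∑ ξ : IrrCharacter N, classInner (a + b) (ξ : N → ℂ) • F ξ =
      ∑ ξ : IrrCharacter N, classInner a (ξ : N → ℂ) • F ξ +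
      ∑ ξ : IrrCharacter N, classInner b (ξ : N → ℂ) • F ξ
    rw [← Finset.sum_add_distrib]
    apply Finset.sum_congr rfl
    intro ξ _
    rw [classInner_add_left, add_smul]
  have hTsmul : ∀ (n : ℤ) a, T (n • a) = n • T a := by
    intro n a
    rw [hT]
    show ∑ ξ : IrrCharacter N, classInner (n • a) (ξ : N → ℂ) • F ξ =
      n • ∑ ξ : IrrCharacter N, classInner a (ξ : N → ℂ) • F ξ
    rw [Finset.smul_sum]
    apply Finset.sum_congr rfl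
    intro ξ _
    rw [classInner_zsmul_left, mul_smul, Int.cast_smul_eq_zsmul]
  have hT0 : T 0 = 0 := by
    have h := hTsmul 0 0
    simpa using h
  have hTirr : ∀ ξ₀ : N → ℂ, IsIrrCharacter N ξ₀ → T ξ₀ = F ξ₀ := by
    intro ξ₀ h
    rw [hT]
    show ∑ ξ : IrrCharacter N, classInner ξ₀ (ξ : N → ℂ) • F ξ = F ξ₀
    rw [Finset.sum_eq_single (⟨ξ₀, h⟩ : IrrCharacter N)]
    · rw [classInner_irr h h, if_pos rfl, one_smul]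
    · intro ξ _ hne
      rw [classInner_irr h ξ.2, if_neg, zero_smul]
      intro heq; exact hne (Subtype.ext heq.symm)
    · intro h'; exact absurd (Finset.mem_univ _) h'
  have hTX : ∀ a ∈ zspan X, T a = σ a :=
    eq_on_zspan X T σ (fun a _ b _ => hTadd a b) (fun a _ n => hTsmul n a) hσadd hσsmul
      (fun t ht => by rw [hTirr t (hirr t (hXS ht)), hFX t ht])
  have hTY : ∀ a ∈ zspan Y, T a = τ a :=
    eq_on_zspan Y T τ (fun a _ b _ => hTadd a b) (fun a _ n => hTsmul n a) hτadd hτsmul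
      (fun t ht => by rw [hTirr t (hirr t (hYS ht)), hFY t ht])
  have hFortho : ∀ ξ ∈ X ∪ Y, ∀ ξ' ∈ X ∪ Y, classInner (F ξ) (F ξ') = classInner ξ ξ' := by
    intro ξ hξ ξ' hξ'
    rcases hξ with h | h <;> rcases hξ' with h' | h'
    · rw [hFX ξ h, hFX ξ' h', hσiso ξ (subset_zspan X h) ξ' (subset_zspan X h')]
    · rw [hFX ξ h, hFY ξ' h', hp1 ξ h ξ' h', hXYne ξ h ξ' h']
    · rw [hFY ξ h, hFX ξ' h', ← classInner_conj_symm, hp1 ξ' h' ξ h, map_zero,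
        ← classInner_conj_symm, hXYne ξ' h' ξ h, map_zero]
    · rw [hFY ξ h, hFY ξ' h', hτiso ξ (subset_zspan Y h) ξ' (subset_zspan Y h')]
  have hTiso : ∀ a ∈ zspan (X ∪ Y), ∀ b ∈ zspan (X ∪ Y),
      classInner (T a) (T b) = classInner a b := by
    intro a ha
    induction ha using Submodule.span_induction with
    | mem x hx =>
      intro b hb
      induction hb using Submodule.span_induction with
      | mem y hy =>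
        rw [hTirr x (hXYirr x hx), hTirr y (hXYirr y hy)]
        exact hFortho x hx y hy
      | zero => rw [hT0, classInner_zero_right, classInner_zero_right]
      | add y z hy hz ihy ihz =>
        rw [hTadd, classInner_add_right, classInner_add_right, ihy, ihz]
      | smul n y hy ih =>
        rw [hTsmul, classInner_zsmul_right, classInner_zsmul_right, ih]
    | zero =>
      intro b hb
      rw [hT0, classInner_zero_left, classInner_zero_left]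
    | add x y hx hy ihx ihy =>
      intro b hb
      rw [hTadd, classInner_add_left, classInner_add_left, ihx b hb, ihy b hb]
    | smul n x hx ih =>
      intro b hb
      rw [hTsmul, classInner_zsmul_left, classInner_zsmul_left, ih b hb]
  have hTgen : ∀ a ∈ zspan (X ∪ Y), IsGeneralizedCharacter G (T a) := by
    intro a ha
    induction ha using Submodule.span_induction with
    | mem x hx =>
      rw [hTirr x (hXYirr x hx)]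
      rcases hx with h | h
      · rw [hFX x h]; exact hσgen x (subset_zspan X h)
      · rw [hFY x h]; exact hτgen x (subset_zspan Y h)
    | zero => rw [hT0]; exact isGeneralizedCharacter_zero
    | add x y _ _ ihx ihy => rw [hTadd]; exact isGeneralizedCharacter_add ihx ihy
    | smul n x _ ih => rw [hTsmul]; exact isGeneralizedCharacter_zsmul ih n
  have hint : ∀ a ∈ zspan X, ∃ k : ℤ, a 1 = k := by
    intro a ha
    induction ha using Submodule.span_induction with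
    | mem z hz =>
      obtain ⟨d, _, hd⟩ := irr_degree (hirr z (hXS hz))
      exact ⟨d, by rw [hd]; simp⟩
    | zero => exact ⟨0, by simp⟩
    | add z w _ _ ihz ihw =>
      obtain ⟨k1, h1⟩ := ihz
      obtain ⟨k2, h2⟩ := ihw
      exact ⟨k1 + k2, by rw [Pi.add_apply, h1, h2]; push_cast; rfl⟩
    | smul n z _ ih =>
      obtain ⟨k1, h1⟩ := ih
      exact ⟨n * k1, by rw [Pi.smul_apply, h1, zsmul_eq_mul]; push_cast; rfl⟩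
  have hagree : ∀ θ ∈ zspanOn (X ∪ Y) {1}ᶜ, T θ = α θ := by
    intro θ hθ
    obtain ⟨hθm, hθ1⟩ := mem_zspanOn_compl_one.mp hθ
    obtain ⟨χ₀, hχ₀, η₀, hη₀, hlink'⟩ := hlink
    have hsup : θ ∈ Submodule.span ℤ X ⊔ Submodule.span ℤ Y := by
      rw [← Submodule.span_union]; exact hθm
    obtain ⟨x, hx, y, hy, hxy⟩ := Submodule.mem_sup.mp hsup
    have hx' : x ∈ zspan X := hx
    have hy' : y ∈ zspan Y := hy
    obtain ⟨k, hk⟩ := hint x hx'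
    have hyk : y 1 = -(k : ℂ) := by
      have : x 1 + y 1 = 0 := by rw [← Pi.add_apply, hxy, hθ1]
      rw [hk] at this
      linear_combination this
    obtain ⟨c, hc, hc'⟩ := irr_degree (hirr χ₀ (hXS hχ₀))
    obtain ⟨e, he, he'⟩ := irr_degree (hirr η₀ (hYS hη₀))
    have hχ₀m : χ₀ ∈ zspan X := subset_zspan X hχ₀
    have hη₀m : η₀ ∈ zspan Y := subset_zspan Y hη₀
    obtain ⟨A, hA⟩ : ∃ A : N → ℂ, A = ((e : ℤ) * c) • x + (-(k * e)) • χ₀ := ⟨_, rfl⟩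
    obtain ⟨B, hB⟩ : ∃ B : N → ℂ, B = ((e : ℤ) * c) • y + (k * c) • η₀ := ⟨_, rfl⟩
    obtain ⟨ℓ, hℓ⟩ : ∃ ℓ : N → ℂ, ℓ = (c : ℤ) • η₀ + (-(e : ℤ)) • χ₀ := ⟨_, rfl⟩
    have hAm : A ∈ zspan X := by
      rw [hA]; exact add_mem_zspan (zsmul_mem_zspan _ hx') (zsmul_mem_zspan _ hχ₀m)
    have hBm : B ∈ zspan Y := by
      rw [hB]; exact add_mem_zspan (zsmul_mem_zspan _ hy') (zsmul_mem_zspan _ hη₀m)
    have hℓm : ℓ ∈ zspan (X ∪ Y) := by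
      rw [hℓ]
      exact add_mem_zspan (zsmul_mem_zspan _ (hzYU hη₀m)) (zsmul_mem_zspan _ (hzXU hχ₀m))
    have hA1 : A 1 = 0 := by
      rw [hA]
      show ((e : ℤ) * c) • x 1 + (-(k * e)) • χ₀ 1 = 0
      rw [hk, hc', zsmul_eq_mul, zsmul_eq_mul]
      push_cast; ring
    have hB1 : B 1 = 0 := by
      rw [hB]
      show ((e : ℤ) * c) • y 1 + (k * c) • η₀ 1 = 0
      rw [hyk, he', zsmul_eq_mul, zsmul_eq_mul]
      push_cast; ring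
    have hℓ1 : ℓ 1 = 0 := by
      rw [hℓ]
      show (c : ℤ) • η₀ 1 + (-(e : ℤ)) • χ₀ 1 = 0
      rw [hc', he', zsmul_eq_mul, zsmul_eq_mul]
      push_cast; ring
    have hident : ((e : ℤ) * c) • θ = A + B + (-k) • ℓ := by
      rw [hA, hB, hℓ, ← hxy]
      module
    have hℓeq : χ₀ 1 • η₀ - η₀ 1 • χ₀ = ℓ := by
      rw [hℓ]
      funext g
      show χ₀ 1 * η₀ g - η₀ 1 * χ₀ g = (c : ℤ) • η₀ g + (-(e : ℤ)) • χ₀ g
      rw [hc', he', zsmul_eq_mul, zsmul_eq_mul]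
      push_cast; ring
    -- memberships in zspanOn S
    have mS : ∀ f, f ∈ zspan S → f 1 = 0 → f ∈ zspanOn S {1}ᶜ :=
      fun f h1 h2 => mem_zspanOn_compl_one.mpr ⟨h1, h2⟩
    have hAS := mS A (hzXS hAm) hA1
    have hBS := mS B (hzYS hBm) hB1
    have hℓS := mS ℓ (hzUS hℓm) hℓ1
    have hABS : A + B ∈ zspanOn S {1}ᶜ :=
      mS _ (add_mem_zspan (hzXS hAm) (hzYS hBm)) (by rw [Pi.add_apply, hA1, hB1, add_zero])
    have hkℓS : (-k) • ℓ ∈ zspanOn S {1}ᶜ :=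
      mS _ (zsmul_mem_zspan _ (hzUS hℓm)) (by rw [Pi.smul_apply, hℓ1, smul_zero])
    have hθS : θ ∈ zspanOn S {1}ᶜ := mS θ (hzUS hθm) hθ1
    have hαℓ : α ℓ = (c : ℤ) • τ η₀ + (-(e : ℤ)) • σ χ₀ := by
      rw [← hℓeq, hlink']
      funext g
      show χ₀ 1 * τ η₀ g - η₀ 1 * σ χ₀ g = (c : ℤ) • τ η₀ g + (-(e : ℤ)) • σ χ₀ g
      rw [hc', he', zsmul_eq_mul, zsmul_eq_mul]
      push_cast; ring
    have hTℓ : T ℓ = (c : ℤ) • τ η₀ + (-(e : ℤ)) • σ χ₀ := by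
      rw [hℓ, hTadd, hTsmul, hTsmul, hTY η₀ hη₀m, hTX χ₀ hχ₀m]
    have h1 : ((e : ℤ) * c) • α θ = ((e : ℤ) * c) • T θ := by
      rw [← hαsmul θ hθS, ← hTsmul, hident, hαadd _ hABS _ hkℓS, hαadd _ hAS _ hBS,
        hαsmul ℓ hℓS, hTadd, hTadd, hTsmul, hTX A hAm, hTY B hBm, hTℓ, hαℓ,
        ← hσα A (mem_zspanOn_compl_one.mpr ⟨hAm, hA1⟩),
        ← hτα B (mem_zspanOn_compl_one.mpr ⟨hBm, hB1⟩)]
    funext g
    have h2 := congrFun h1 g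
    have h3 : (((e : ℤ) * c : ℤ) : ℂ) * α θ g = (((e : ℤ) * c : ℤ) : ℂ) * T θ g := by
      have : ((e : ℤ) * c) • α θ g = ((e : ℤ) * c) • T θ g := h2
      rwa [zsmul_eq_mul, zsmul_eq_mul] at this
    have hne : (((e : ℤ) * c : ℤ) : ℂ) ≠ 0 := by
      have : (e : ℤ) * c ≠ 0 := by positivity
      exact_mod_cast this
    exact (mul_left_cancel₀ hne h3).symm
  refine ⟨?_, T, ⟨fun a _ b _ => hTadd a b, fun a _ n => hTsmul n a, hTiso, hTgen⟩, hagree⟩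
  -- nonzero element
  obtain ⟨χ₁, hχ₁, χ₂, hχ₂, hne⟩ := hX2
  obtain ⟨d₁, hd₁, hd₁'⟩ := irr_degree (hirr χ₁ (hXS hχ₁))
  obtain ⟨d₂, hd₂, hd₂'⟩ := irr_degree (hirr χ₂ (hXS hχ₂))
  refine ⟨(d₂ : ℤ) • χ₁ + (-(d₁ : ℤ)) • χ₂, mem_zspanOn_compl_one.mpr ⟨?_, ?_⟩, ?_⟩
  · exact add_mem_zspan (zsmul_mem_zspan _ (hzXU (subset_zspan X hχ₁)))
      (zsmul_mem_zspan _ (hzXU (subset_zspan X hχ₂)))
  · show (d₂ : ℤ) • χ₁ 1 + (-(d₁ : ℤ)) • χ₂ 1 = 0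
    rw [hd₁', hd₂', zsmul_eq_mul, zsmul_eq_mul]
    push_cast; ring
  · intro h0
    have h1 : classInner ((d₂ : ℤ) • χ₁ + (-(d₁ : ℤ)) • χ₂) χ₁ = 0 := by
      rw [h0, classInner_zero_left]
    rw [classInner_add_left, classInner_zsmul_left, classInner_zsmul_left,
      classInner_irr (hirr χ₁ (hXS hχ₁)) (hirr χ₁ (hXS hχ₁)), if_pos rfl,
      classInner_irr (hirr χ₂ (hXS hχ₂)) (hirr χ₁ (hXS hχ₁)), if_neg (fun h => hne h.symm)] at h1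
    have h2 : (d₂ : ℂ) = 0 := by
      push_cast at h1
      linear_combination h1
    have : d₂ = 0 := by exact_mod_cast h2
    omega


/-- Let N be a subgroup of the finite group G, S a set of irreducible characters of N, and α a linear isometry on the integer combinations of S vanishing at 1 with values virtual characters of G vanishing at 1. Let X, Y ⊆ S be disjoint, each with at least two members, and σ, τ linear isometries on ℤ[X], ℤ[Y] into virtual characters agreeing with α on the members vanishing at 1. Then ⟨σ χ, τ η⟩ = 0 for χ ∈ X, η ∈ Y; and if for some χ₀ ∈ X, η₀ ∈ Y with degrees c = χ₀ 1, e = η₀ 1 one has α (c • η₀ − e • χ₀) = c • τ η₀ − e • σ χ₀, then (X ∪ Y, N minus 1, α) is coherent. -/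
theorem result {G : Type*} [Group G] [Fintype G] (N : Subgroup G) [Fintype N] (S X Y : Set (N → ℂ)) (hirr : ∀ ξ ∈ S, Cfsg.IsIrrCharacter N ξ) (hXS : X ⊆ S) (hYS : Y ⊆ S) (hXY : Disjoint X Y) (hX2 : ∃ a ∈ X, ∃ b ∈ X, a ≠ b) (hY2 : ∃ a ∈ Y, ∃ b ∈ Y, a ≠ b) (α : (N → ℂ) → (G → ℂ)) (hα : Cfsg.IsLinearIsometryOn (Cfsg.zspanOn S {1}ᶜ) α) (hα1 : ∀ θ ∈ Cfsg.zspanOn S {1}ᶜ, α θ 1 = 0) (σ τ : (N → ℂ) → (G → ℂ)) (hσ : Cfsg.IsLinearIsometryOn (Cfsg.zspan X) σ) (hσα : ∀ θ ∈ Cfsg.zspanOn X {1}ᶜ, σ θ = α θ) (hτ : Cfsg.IsLinearIsometryOn (Cfsg.zspan Y) τ) (hτα : ∀ θ ∈ Cfsg.zspanOn Y {1}ᶜ, τ θ = α θ) : (∀ χ ∈ X, ∀ η ∈ Y, Cfsg.classInner (σ χ) (τ η) = 0) ∧ ((∃ χ₀ ∈ X, ∃ η₀ ∈ Y, α (χ₀ 1 • η₀ - η₀ 1 • χ₀) = χ₀ 1 • τ η₀ - η₀ 1 • σ χ₀) → Cfsg.IsCoherent (X ∪ Y) {1}ᶜ α) := by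
  exact ⟨part1 N S X Y hirr hXS hYS hXY hX2 hY2 α hα hα1 σ τ hσ hσα hτ hτα,
    part2 N S X Y hirr hXS hYS hXY hX2 hY2 α hα hα1 σ τ hσ hσα hτ hτα⟩

end Cfsg.Agent.S1531
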