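import Cfsg.Statements.S1536
import Cfsg.Agent.Lib.Helper26.GlaubClass
import Cfsg.Agent.S0173
import Cfsg.Agent.Lib.Helper4.BurnsideClass

set_option autoImplicit false
open Cfsg

namespace Cfsg.Agent.S1536
open Cfsg.Agent.Lib.Helper26

/-- Let H be a normal subgroup of the finite group M whose order is coprime to its index. For x ∈ M: some non-principal irreducible character of H is unchanged under h ↦ θ(x h x⁻¹) if and only if some non-identity element of H commutes with x. -/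
theorem result {M : Type*} [Group M] [Finite M] (H : Subgroup M) [hN : H.Normal] (hHall : Nat.Coprime (Nat.card H) H.index) (x : M) : (∃ θ : H → ℂ, Cfsg.IsIrrCharacter H θ ∧ θ ≠ (fun _ => 1) ∧ (fun h : H => θ ⟨x * h * x⁻¹, hN.conj_mem h h.2 x⟩) = θ) ↔ ∃ h ∈ H, h ≠ 1 ∧ x * h = h * x := by
  classical
  haveI : Fintype H := Fintype.ofFinite H
  obtain ⟨α, hα⟩ : ∃ α : H ≃* H, α = (MulAut.conjNormal x : MulAut H) := ⟨_, rfl⟩
  have hαapp : ∀ h : H, α h = ⟨x * h * x⁻¹, hN.conj_mem h h.2 x⟩ := by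
    intro h; rw [hα]; apply Subtype.ext; simp [MulAut.conjNormal_apply]
  have hbr := Cfsg.Agent.S0173.result α
  have hfixchar : ∀ θ : H → ℂ,
      (fun h : H => θ ⟨x * h * x⁻¹, hN.conj_mem h h.2 x⟩) = θ ↔ θ ∘ α = θ := by
    intro θ
    have h0 : θ ∘ α = fun h : H => θ ⟨x * h * x⁻¹, hN.conj_mem h h.2 x⟩ := by
      funext h; show θ (α h) = _; rw [hαapp]
    rw [h0]
  constructor
  · rintro ⟨θ, hθ, hθ1, hθx⟩
    have h1 : 1 < Nat.card {χ : Cfsg.IrrCharacter H // (χ : H → ℂ) ∘ α = (χ : H → ℂ)} := by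
      rw [Finite.one_lt_card_iff_nontrivial]
      refine ⟨⟨⟨⟨θ, hθ⟩, (hfixchar θ).mp hθx⟩,
        ⟨⟨fun _ => 1, Cfsg.Agent.Lib.Helper4.isIrrCharacter_one⟩, by funext h; rfl⟩, ?_⟩⟩
      intro h
      apply hθ1
      exact congrArg (fun z => (z.1.1 : H → ℂ)) h
    rw [← hbr, Finite.one_lt_card_iff_nontrivial] at h1
    obtain ⟨C₁, C₂, hne⟩ := h1
    obtain ⟨C, hCinv, hC1⟩ : ∃ C : ConjClasses H, ConjClasses.map α.toMonoidHom C = C ∧
        C ≠ ConjClasses.mk 1 := by
      by_cases hc : C₁.1 = ConjClasses.mk 1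
      · refine ⟨C₂.1, C₂.2, ?_⟩
        intro h2
        exact hne (Subtype.ext (hc.trans h2.symm))
      · exact ⟨C₁.1, C₁.2, hc⟩
    by_cases hx' : x ^ H.index = 1
    · have hcop : Nat.Coprime (orderOf x) (Nat.card H) :=
        Nat.Coprime.coprime_dvd_left (orderOf_dvd_of_pow_eq_one hx') hHall.symm
      rw [hα] at hCinv
      obtain ⟨s, hsK, hsC, hfix⟩ := exists_fixed_of_invariant_class H x hcop C hCinv
      refine ⟨s, hsK, ?_, ?_⟩
      · intro hs1
        apply hC1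
        rw [← hsC]
        congr 1
        exact Subtype.ext hs1
      · calc x * s = x * s * x⁻¹ * x := by group
          _ = s * x := by rw [hfix]
    · exact ⟨x ^ H.index, Subgroup.pow_index_mem H x, hx', (pow_mul_comm' x H.index).symm⟩
  · rintro ⟨h, hhH, hh1, hcomm⟩
    have h1 : 1 < Nat.card {C : ConjClasses H // ConjClasses.map α.toMonoidHom C = C} := by
      rw [Finite.one_lt_card_iff_nontrivial]
      refine ⟨⟨⟨ConjClasses.mk (⟨h, hhH⟩ : H), ?_⟩, ⟨ConjClasses.mk (1 : H), ?_⟩, ?_⟩⟩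
      · show ConjClasses.mk (α ⟨h, hhH⟩) = _
        rw [hαapp]
        congr 1
        apply Subtype.ext
        show x * h * x⁻¹ = h
        rw [hcomm]; group
      · show ConjClasses.mk (α 1) = _
        rw [map_one]
      · intro heq
        have h2 := congrArg Subtype.val heq
        simp only at h2
        rw [ConjClasses.mk_eq_mk_iff_isConj, isConj_one_left] at h2
        exact hh1 (congrArg Subtype.val h2)
    rw [hbr, Finite.one_lt_card_iff_nontrivial] at h1
    obtain ⟨χ₁, χ₂, hne⟩ := h1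
    by_cases hc : (χ₁.1.1 : H → ℂ) = fun _ => 1
    · refine ⟨χ₂.1.1, χ₂.1.2, ?_, (hfixchar _).mpr χ₂.2⟩
      intro h2
      exact hne (Subtype.ext (Subtype.ext (hc.trans h2.symm)))
    · exact ⟨χ₁.1.1, χ₁.1.2, hc, (hfixchar _).mpr χ₁.2⟩

end Cfsg.Agent.S1536
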