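import Cfsg.Statements.S1546
import Mathlib

set_option autoImplicit false
open Cfsg

namespace Cfsg.Agent.S1546

theorem geom_modEq (p q m : ℕ) (h : p ≡ 1 [MOD m]) : ∑ k ∈ Finset.range q, p ^ k ≡ q [MOD m] := by
  rw [← ZMod.natCast_eq_natCast_iff] at h ⊢
  push_cast
  rw [h]
  simp

/-- Let p and q be odd primes and N = (p ^ q − 1) / (p − 1) = 1 + p + ⋯ + p^(q−1). Then N is odd; if p ≡ 1 (mod q) then q ∣ N; and if p is not ≡ 1 (mod q) then N is coprime to p − 1 and every divisor of N is ≡ 1 (mod q). -/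
theorem result (p q : ℕ) (hp : p.Prime) (hq : q.Prime) (hp2 : p ≠ 2) (hq2 : q ≠ 2) : Odd ((p ^ q - 1) / (p - 1)) ∧ (p % q = 1 → q ∣ (p ^ q - 1) / (p - 1)) ∧ (p % q ≠ 1 → Nat.Coprime ((p ^ q - 1) / (p - 1)) (p - 1) ∧ ∀ x : ℕ, x ∣ (p ^ q - 1) / (p - 1) → x % q = 1) := by
  have hN : (p ^ q - 1) / (p - 1) = ∑ k ∈ Finset.range q, p ^ k := (Nat.geomSum_eq hp.two_le q).symm
  rw [hN]
  have hpodd : Odd p := hp.odd_of_ne_two hp2
  have hqodd : Odd q := hq.odd_of_ne_two hq2
  have hodd : Odd (∑ k ∈ Finset.range q, p ^ k) := by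
    have h1 : p ≡ 1 [MOD 2] := by
      rw [Nat.ModEq, Nat.odd_iff.mp hpodd]
    have h2 := geom_modEq p q 2 h1
    rw [Nat.odd_iff, h2, ← Nat.odd_iff]
    exact hqodd
  refine ⟨hodd, ?_, ?_⟩
  · intro h
    have h1 : p ≡ 1 [MOD q] := by
      rw [Nat.ModEq, h, Nat.one_mod_eq_one.mpr hq.one_lt.ne']
    have h2 := geom_modEq p q q h1
    rw [Nat.dvd_iff_mod_eq_zero, h2, Nat.mod_self]
  · intro hne
    have hp1 : 1 ≤ p := hp.one_lt.le
    have h1 : p ≡ 1 [MOD (p - 1)] := by
      rw [Nat.ModEq.comm, Nat.modEq_iff_dvd' hp1]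
    have h2 := geom_modEq p q (p - 1) h1
    have hqp : ¬ q ∣ p - 1 := by
      intro hd
      apply hne
      obtain ⟨t, ht⟩ := hd
      have : p = q * t + 1 := by omega
      rw [this, Nat.mul_add_mod, Nat.one_mod_eq_one.mpr hq.one_lt.ne']
    have hcop : Nat.Coprime (∑ k ∈ Finset.range q, p ^ k) (p - 1) := by
      rw [Nat.Coprime, Nat.ModEq.gcd_eq h2]
      exact (Nat.Prime.coprime_iff_not_dvd hq).mpr hqp
    refine ⟨hcop, ?_⟩
    have key : ∀ x : ℕ, x ∣ ∑ k ∈ Finset.range q, p ^ k → x ≡ 1 [MOD q] := by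
      intro x
      induction x using Nat.recOnMul with
      | zero =>
        intro h0
        rw [zero_dvd_iff] at h0
        rw [h0] at hodd
        exact absurd hodd (by decide)
      | one => intro _; rfl
      | prime r hr =>
        intro hrN
        haveI : Fact r.Prime := ⟨hr⟩
        have hgeom : (∑ k ∈ Finset.range q, ((p : ZMod r)) ^ k) * ((p : ZMod r) - 1) = (p : ZMod r) ^ q - 1 :=
          geom_sum_mul _ _
        have hz : (∑ k ∈ Finset.range q, ((p : ZMod r)) ^ k) = 0 := by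
          have := (ZMod.natCast_eq_zero_iff _ r).mpr hrN
          push_cast at this
          exact this
        rw [hz, zero_mul] at hgeom
        have hpow : (p : ZMod r) ^ q = 1 := by
          have := hgeom.symm
          rwa [sub_eq_zero] at this
        have hne1 : (p : ZMod r) ≠ 1 := by
          intro h1'
          have hr1 : r ∣ p - 1 := by
            rw [← ZMod.natCast_eq_zero_iff, Nat.cast_sub hp1, h1']
            simp
          have hg : r ∣ Nat.gcd (∑ k ∈ Finset.range q, p ^ k) (p - 1) := Nat.dvd_gcd hrN hr1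
          rw [Nat.Coprime] at hcop
          rw [hcop] at hg
          exact hr.one_lt.ne' (Nat.dvd_one.mp hg)
        haveI : Fact q.Prime := ⟨hq⟩
        have hord : orderOf (p : ZMod r) = q := orderOf_eq_prime hpow hne1
        have hp0 : (p : ZMod r) ≠ 0 := by
          intro h0
          rw [h0, zero_pow hq.ne_zero] at hpow
          exact zero_ne_one hpow
        have hdvd : q ∣ r - 1 := by
          rw [← hord]
          exact ZMod.orderOf_dvd_card_sub_one hp0
        exact ((Nat.modEq_iff_dvd' hr.one_lt.le).mpr hdvd).symm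
      | mul a b iha ihb =>
        intro hab
        have ha := iha (Dvd.dvd.trans (Dvd.intro _ rfl) hab)
        have hb := ihb (Dvd.dvd.trans (Dvd.intro_left _ rfl) hab)
        simpa using ha.mul hb
    intro x hx
    have := key x hx
    rw [Nat.ModEq, Nat.one_mod_eq_one.mpr hq.one_lt.ne'] at this
    exact this

end Cfsg.Agent.S1546
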