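import Cfsg.Statements.S1568
import Mathlib
import Cfsg.Agent.Lib.Helper3.LeechNorm48Count
-- import your own Cfsg.Agent.* helpers here

set_option autoImplicit false
open Cfsg

namespace Cfsg.Agent.S1568

open Cfsg.Agent.Lib.Helper3

theorem set1 : {x : Cfsg.GolayPt → ℤ | x ∈ Cfsg.leechLattice ∧ Cfsg.sqNorm x = 48 ∧
    ∀ i, x i = 0 ∨ x i = 2 ∨ x i = -2} = famD := by
  ext x
  constructor
  · rintro ⟨h1, h2, h3⟩
    have hx : x ∈ {x : GolayPt → ℤ | x ∈ leechLattice ∧ sqNorm x = 48} := ⟨h1, h2⟩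
    rw [norm48_eq_union] at hx
    have habs : |x none| = 0 ∨ |x none| = 2 := by
      rcases h3 none with h | h | h <;> rw [h] <;> norm_num
    rcases hx with ((hx | hx) | hx) | hx
    · exact hx
    · exfalso
      obtain ⟨j, hj⟩ := (famE_abs hx).2
      rcases h3 j with h | h | h <;> rw [h] at hj <;> norm_num at hj
    · exfalso
      rcases (famF_abs hx).1 none with h | h <;> omega
    · exfalso
      rcases (famG_abs hx).1 none with h | h <;> omega
  · intro hx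
    have h : x ∈ {x : GolayPt → ℤ | x ∈ leechLattice ∧ sqNorm x = 48} := by
      rw [norm48_eq_union]; exact Or.inl (Or.inl (Or.inl hx))
    exact ⟨h.1, h.2, famD_vals hx⟩

theorem set2 : {x : Cfsg.GolayPt → ℤ | x ∈ Cfsg.leechLattice ∧ Cfsg.sqNorm x = 48 ∧
    ∃ i j k, i ≠ j ∧ j ≠ k ∧ i ≠ k ∧ |x i| = 3 ∧ |x j| = 3 ∧ |x k| = 3} = famF := by
  ext x
  constructor
  · rintro ⟨h1, h2, i, j, k, -, -, -, h3, -, -⟩
    have hx : x ∈ {x : GolayPt → ℤ | x ∈ leechLattice ∧ sqNorm x = 48} := ⟨h1, h2⟩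
    rw [norm48_eq_union] at hx
    rcases hx with ((hx | hx) | hx) | hx
    · exfalso
      rcases famD_abs hx i with h | h <;> omega
    · exfalso
      rcases (famE_abs hx).1 i with h | h | h <;> omega
    · exact hx
    · exfalso
      rcases (famG_abs hx).1 i with h | h <;> omega
  · intro hx
    have h : x ∈ {x : GolayPt → ℤ | x ∈ leechLattice ∧ sqNorm x = 48} := by
      rw [norm48_eq_union]; exact Or.inl (Or.inr hx)
    exact ⟨h.1, h.2, (famF_abs hx).2⟩

theorem set3 : {x : Cfsg.GolayPt → ℤ | x ∈ Cfsg.leechLattice ∧ Cfsg.sqNorm x = 48 ∧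
    ∃ i, |x i| = 4} = famE := by
  ext x
  constructor
  · rintro ⟨h1, h2, i, h3⟩
    have hx : x ∈ {x : GolayPt → ℤ | x ∈ leechLattice ∧ sqNorm x = 48} := ⟨h1, h2⟩
    rw [norm48_eq_union] at hx
    rcases hx with ((hx | hx) | hx) | hx
    · exfalso
      rcases famD_abs hx i with h | h <;> omega
    · exact hx
    · exfalso
      rcases (famF_abs hx).1 i with h | h <;> omega
    · exfalso
      rcases (famG_abs hx).1 i with h | h <;> omega
  · intro hx
    have h : x ∈ {x : GolayPt → ℤ | x ∈ leechLattice ∧ sqNorm x = 48} := by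
      rw [norm48_eq_union]; exact Or.inl (Or.inl (Or.inr hx))
    exact ⟨h.1, h.2, (famE_abs hx).2⟩

theorem set4 : {x : Cfsg.GolayPt → ℤ | x ∈ Cfsg.leechLattice ∧ Cfsg.sqNorm x = 48 ∧
    ∃ i, |x i| = 5} = famG := by
  ext x
  constructor
  · rintro ⟨h1, h2, i, h3⟩
    have hx : x ∈ {x : GolayPt → ℤ | x ∈ leechLattice ∧ sqNorm x = 48} := ⟨h1, h2⟩
    rw [norm48_eq_union] at hx
    rcases hx with ((hx | hx) | hx) | hx
    · exfalso
      rcases famD_abs hx i with h | h <;> omega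
    · exfalso
      rcases (famE_abs hx).1 i with h | h | h <;> omega
    · exfalso
      rcases (famF_abs hx).1 i with h | h <;> omega
    · exact hx
  · intro hx
    have h : x ∈ {x : GolayPt → ℤ | x ∈ leechLattice ∧ sqNorm x = 48} := by
      rw [norm48_eq_union]; exact Or.inr hx
    exact ⟨h.1, h.2, (famG_abs hx).2⟩

/-- Shape census of the lattice vectors of sum of squares 48 (customary norm 6): the four families (2^12, 0^12), (±3^3, ±1^21), (±4, ±2^8, 0^15) and (±5, ±1^23) have 5275648, 8290304, 3108864 and 98304 members. -/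
theorem result : {x : Cfsg.GolayPt → ℤ | x ∈ Cfsg.leechLattice ∧ Cfsg.sqNorm x = 48 ∧ ∀ i, x i = 0 ∨ x i = 2 ∨ x i = -2}.ncard = 5275648 ∧ {x : Cfsg.GolayPt → ℤ | x ∈ Cfsg.leechLattice ∧ Cfsg.sqNorm x = 48 ∧ ∃ i j k, i ≠ j ∧ j ≠ k ∧ i ≠ k ∧ |x i| = 3 ∧ |x j| = 3 ∧ |x k| = 3}.ncard = 8290304 ∧ {x : Cfsg.GolayPt → ℤ | x ∈ Cfsg.leechLattice ∧ Cfsg.sqNorm x = 48 ∧ ∃ i, |x i| = 4}.ncard = 3108864 ∧ {x : Cfsg.GolayPt → ℤ | x ∈ Cfsg.leechLattice ∧ Cfsg.sqNorm x = 48 ∧ ∃ i, |x i| = 5}.ncard = 98304 := by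
  rw [set1, set2, set3, set4]
  exact ⟨ncard_famD, ncard_famF, ncard_famE, ncard_famG⟩

end Cfsg.Agent.S1568
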