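import Cfsg.Statements.S1572
import Mathlib
import Cfsg.Agent.Lib.Helper3.Mx1572H
-- import your own Cfsg.Agent.* helpers here

set_option autoImplicit false
open scoped Pointwise
open Cfsg

namespace Cfsg.Agent.S1572

open Cfsg.Agent.Lib.Helper3 Cfsg.Agent.Lib.Helper3.Mx Cfsg.Agent.Lib.Helper21

theorem finite_co0 : Finite ↥Co0 :=
  Nat.finite_of_card_ne_zero (by rw [Cfsg.Agent.S0397.result]; norm_num)

/-- the joint stabiliser of `xS`, `mS` lies in the cross stabiliser -/
theorem stab2_le {g : ↥Co0} (h1 : g • xS = xS) (h2 : g • mS = mS) : g ∈ NN := by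
  apply Cfsg.Agent.S0397.stab_le
  rw [MulAction.mem_stabilizer_iff]
  show g • (e8 none) = e8 none
  rw [← mS_add_xS, co0_add, h1, h2]

theorem djA : Disjoint LA (LB ∪ LC) :=
  Set.disjoint_union_right.2 ⟨LA_LB, LAB_LC.mono_left Set.subset_union_left⟩

theorem djB : Disjoint LB LC := LAB_LC.mono_left Set.subset_union_right

theorem coatom_NN : IsCoatom NN := by
  have := finite_co0
  refine ⟨?_, ?_⟩
  · intro htop
    have h1 := Cfsg.Agent.S0397.card_stabH
    have h2 : Nat.card ↥NN = Nat.card ↥Co0 := by rw [htop]; exact Subgroup.card_top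
    rw [h1, Cfsg.Agent.S0397.result] at h2
    norm_num at h2
  · intro K hK
    have hle : NN ≤ K := hK.le
    obtain ⟨K1, hK1⟩ : ∃ K1 : Subgroup ↥Co0, K1 = K ⊓ MulAction.stabilizer ↥Co0 xS := ⟨_, rfl⟩
    have hN1K1 : N1 ≤ K1 := by rw [hK1]; exact inf_le_inf_right _ hle
    -- the second level stabilisers coincide
    have hK2 : K1 ⊓ MulAction.stabilizer ↥Co0 mS = N1 ⊓ MulAction.stabilizer ↥Co0 mS := by
      apply le_antisymm
      · intro g hg
        obtain ⟨hg1, hg2⟩ := Subgroup.mem_inf.1 hg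
        rw [hK1] at hg1
        obtain ⟨hg3, hg4⟩ := Subgroup.mem_inf.1 hg1
        refine Subgroup.mem_inf.2 ⟨Subgroup.mem_inf.2 ⟨?_, hg4⟩, hg2⟩
        exact stab2_le (MulAction.mem_stabilizer_iff.1 hg4) (MulAction.mem_stabilizer_iff.1 hg2)
      · exact inf_le_inf_right _ hN1K1
    -- orbit-stabiliser
    have c1 := card_eq_orbit_mul K xS
    have c2 := card_eq_orbit_mul K1 mS
    have c3 := card_eq_orbit_mul NN xS
    have c4 := card_eq_orbit_mul N1 mS
    rw [orbit_NN_xS, ncard_lift LA_sub, ncard_LA] at c3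
    rw [orbit_N1_mS, ncard_lift T0_sub, ncard_T0] at c4
    rw [hK2] at c2
    rw [← hK1] at c1
    have c3' : Nat.card ↥NN = 1104 * Nat.card ↥N1 := c3
    have hn2 : Nat.card ↥(N1 ⊓ MulAction.stabilizer ↥Co0 mS) = 454164480 := by
      have := Cfsg.Agent.S0397.card_stabH
      rw [c3', c4] at this
      omega
    rw [hn2] at c2
    have d1 := Subgroup.card_subgroup_dvd_card K
    have d2 := Subgroup.card_dvd_of_le hle
    rw [c1, c2, Cfsg.Agent.S0397.result] at d1
    rw [c1, c2, Cfsg.Agent.S0397.card_stabH] at d2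
    -- transfer of transitivity
    have trK : ∀ {F : Set leechLattice}, (∀ y ∈ F, ∀ y' ∈ F, ∃ m ∈ NN, m • y = y') →
        ∀ y ∈ F, ∀ y' ∈ F, ∃ m ∈ K, m • y = y' := by
      intro F h y hy y' hy'
      obtain ⟨m, hm, e⟩ := h y hy y' hy'
      exact ⟨m, hle hm, e⟩
    have trK1 : ∀ {F : Set leechLattice}, (∀ y ∈ F, ∀ y' ∈ F, ∃ m ∈ N1, m • y = y') →
        ∀ y ∈ F, ∀ y' ∈ F, ∃ m ∈ K1, m • y = y' := by
      intro F h y hy y' hy'
      obtain ⟨m, hm, e⟩ := h y hy y' hy'
      exact ⟨m, hN1K1 hm, e⟩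
    -- level 1
    have fin1 : (MulAction.orbit K xS).Finite := Set.finite_range _
    have cov1 : MulAction.orbit K xS ⊆ lift (LA ∪ (LB ∪ LC)) := by
      intro y hy
      obtain ⟨k, hk, rfl⟩ := (mem_orbit_sub K xS y).1 hy
      have : k • xS ∈ L2s := by
        show sqNorm (k.1 xS).1 = 32
        rw [k.2.2]
        exact sqNorm_LA xS_mem_LA
      rw [L2s_eq] at this
      exact this
    have s1 : (MulAction.orbit K xS).ncard = (MulAction.orbit K xS ∩ lift LA).ncard +
        ((MulAction.orbit K xS ∩ lift LB).ncard + (MulAction.orbit K xS ∩ lift LC).ncard) := by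
      conv_lhs => rw [← Set.inter_eq_left.2 cov1]
      rw [split_lift _ _ _ fin1 djA, split_lift _ _ _ fin1 djB]
    have hxS : xS ∈ MulAction.orbit K xS ∩ lift LA := ⟨MulAction.mem_orbit_self _, xS_mem_LA⟩
    have a1 : MulAction.orbit K xS ∩ lift LA = lift LA := by
      rcases orbit_inter_family K xS (lift LA) (trK LA_trans) with h | h
      · rw [h] at hxS; exact absurd hxS (Set.notMem_empty _)
      · exact h
    have b1 := ncard_inter_family K xS (lift LB) (trK LB_trans)
    have b2 := ncard_inter_family K xS (lift LC) (trK LC_trans)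
    rw [ncard_lift LB_sub, ncard_LB] at b1
    rw [ncard_lift LC_sub, ncard_LC] at b2
    rw [a1, ncard_lift LA_sub, ncard_LA] at s1
    -- level 2
    have fin2 : (MulAction.orbit K1 mS).Finite := Set.finite_range _
    have cov2 : MulAction.orbit K1 mS ⊆
        lift (T0 ∪ (T1 ∪ (T2 ∪ (T3a ∪ (T3b ∪ (T4a ∪ T4b)))))) := by
      intro y hy
      obtain ⟨k, hk, rfl⟩ := (mem_orbit_sub K1 mS y).1 hy
      rw [hK1] at hk
      obtain ⟨hk1, hk2⟩ := Subgroup.mem_inf.1 hk
      rw [MulAction.mem_stabilizer_iff] at hk2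
      show (k • mS).1 ∈ T0 ∪ (T1 ∪ (T2 ∪ (T3a ∪ (T3b ∪ (T4a ∪ T4b)))))
      apply TT_cover (k • mS).2
      · show sqNorm (k.1 mS).1 = 32
        rw [k.2.2]
        exact sqNorm_LA (D44_mem_LA hpq0)
      · have h2 := co0_dot k.2 xS mS
        have h3 : k.1 xS = xS := hk2
        rw [h3, dot_xS, dot_xS] at h2
        have h4 : mS.1 none + mS.1 (some 0) = 0 := by
          show D44 none (some 0) none + D44 none (some 0) (some 0) = 0
          unfold D44
          simp [hqp0]
        show (k.1 mS).1 none + (k.1 mS).1 (some 0) = 0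
        omega
    have s2 : (MulAction.orbit K1 mS).ncard = (MulAction.orbit K1 mS ∩ lift T0).ncard +
        ((MulAction.orbit K1 mS ∩ lift T1).ncard + ((MulAction.orbit K1 mS ∩ lift T2).ncard +
        ((MulAction.orbit K1 mS ∩ lift T3a).ncard + ((MulAction.orbit K1 mS ∩ lift T3b).ncard +
        ((MulAction.orbit K1 mS ∩ lift T4a).ncard +
          (MulAction.orbit K1 mS ∩ lift T4b).ncard))))) := by
      conv_lhs => rw [← Set.inter_eq_left.2 cov2]
      rw [split_lift _ _ _ fin2 dj0, split_lift _ _ _ fin2 dj1, split_lift _ _ _ fin2 dj2,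
        split_lift _ _ _ fin2 dj3, split_lift _ _ _ fin2 dj4, split_lift _ _ _ fin2 dj5]
    have hmS : mS ∈ MulAction.orbit K1 mS ∩ lift T0 := ⟨MulAction.mem_orbit_self _, mS_mem_T0⟩
    have t0 : MulAction.orbit K1 mS ∩ lift T0 = lift T0 := by
      rcases orbit_inter_family K1 mS (lift T0) (trK1 T0_trans) with h | h
      · rw [h] at hmS; exact absurd hmS (Set.notMem_empty _)
      · exact h
    have t1 := ncard_inter_family K1 mS (lift T1) (trK1 T1_trans)
    have t2 := ncard_inter_family K1 mS (lift T2) (trK1 T2_trans)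
    have t3 := ncard_inter_family K1 mS (lift T3a) (trK1 T3a_trans)
    have t3' := ncard_inter_family K1 mS (lift T3b) (trK1 T3b_trans)
    have t4 := ncard_inter_family K1 mS (lift T4a) (trK1 T4a_trans)
    have t4' := ncard_inter_family K1 mS (lift T4b) (trK1 T4b_trans)
    rw [ncard_lift (fun x hx => LA_sub x (T1_LA hx)), ncard_T1] at t1
    rw [ncard_lift (fun x hx => LB_sub x (T2_LB hx)), ncard_T2] at t2
    rw [ncard_lift (fun x hx => LB_sub x (T3a_LB hx)), ncard_T3a] at t3
    rw [ncard_lift (fun x hx => LB_sub x (T3b_LB hx)), ncard_T3b] at t3'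
    rw [ncard_lift (fun x hx => LC_sub x (T4a_LC hx)), ncard_T4a] at t4
    rw [ncard_lift (fun x hx => LC_sub x (T4b_LC hx)), ncard_T4b] at t4'
    rw [t0, ncard_lift T0_sub, ncard_T0] at s2
    -- the arithmetic
    rcases arith_main _ _ _ _ _ _ _ _ _ _ b1 b2 t1 t2 t3 t3' t4 t4' s1 s2 d1 d2 with h | h
    · -- `K` preserves the shape `(4,4,0,…)`, hence lies in the cross stabiliser
      exfalso
      have sub : lift LA ⊆ MulAction.orbit K xS := by
        rw [← a1]; exact Set.inter_subset_left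
      have heq : lift LA = MulAction.orbit K xS :=
        Set.eq_of_subset_of_ncard_le sub (by rw [h, ncard_lift LA_sub, ncard_LA]) fin1
      have hKle : K ≤ NN := by
        intro k hk
        apply mem_NN_of_pres
        intro y hy
        rw [heq] at hy ⊢
        obtain ⟨k', hk', rfl⟩ := (mem_orbit_sub K xS y).1 hy
        rw [mem_orbit_sub]
        exact ⟨k⁻¹ * k', K.mul_mem (K.inv_mem hk) hk', mul_smul _ _ _⟩
      exact absurd hKle (not_le_of_gt hK)
    · apply Subgroup.eq_top_of_card_eq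
      rw [c1, c2, h, Cfsg.Agent.S0397.result]

/-- The stabiliser of the standard cross is a maximal proper subgroup of the lattice's automorphism group. -/
theorem result (H : Subgroup ↥Cfsg.Co0) (hH : (H : Set ↥Cfsg.Co0) = {g : ↥Cfsg.Co0 | (∀ v : ↥Cfsg.leechLattice, (v : Cfsg.GolayPt → ℤ) ∈ Cfsg.stdCross → ((g • v : ↥Cfsg.leechLattice) : Cfsg.GolayPt → ℤ) ∈ Cfsg.stdCross)}) : IsCoatom H := by
  have : H = NN := SetLike.coe_injective hH
  rw [this]
  exact coatom_NN

end Cfsg.Agent.S1572
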