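import Cfsg.Statements.S1581
import Mathlib
import Cfsg.Agent.Lib.Helper3.McL275C
-- import your own Cfsg.Agent.* helpers here

set_option autoImplicit false
open Cfsg

namespace Cfsg.Agent.S1581

open Cfsg.Agent.Lib.Helper3

theorem ncard_pred' {g : Equiv.Perm ↥leechLattice} (P Q : ↥leechLattice → Prop)
    (h : ∀ y, P y ↔ Q (g y)) : {y | P y}.ncard = {y | Q y}.ncard := by
  rw [← Set.ncard_image_of_injective _ g.injective]
  congr 1
  ext w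
  constructor
  · rintro ⟨y, hy, rfl⟩
    exact (h y).1 hy
  · intro hw
    refine ⟨g.symm w, (h _).2 ?_, by simp⟩
    rw [Equiv.apply_symm_apply]; exact hw

/-- The McLaughlin group acts with rank 3 and subdegrees 1, 112, 162 on its 275 points: the point stabiliser has two orbits on the remaining points, distinguished by customary inner product 1 or 2 with the fixed point. -/
theorem result (u v x : ↥Cfsg.leechLattice) (hu : Cfsg.sqNorm (u : Cfsg.GolayPt → ℤ) = 48) (hv : Cfsg.sqNorm (v : Cfsg.GolayPt → ℤ) = 32 ∧ Cfsg.sqNorm ((u - v) : Cfsg.GolayPt → ℤ) = 32) (hx : x ∈ {x : ↥Cfsg.leechLattice | Cfsg.sqNorm (x : Cfsg.GolayPt → ℤ) = 32 ∧ Cfsg.sqNorm ((u - x) : Cfsg.GolayPt → ℤ) = 32 ∧ Cfsg.dotInt (v : Cfsg.GolayPt → ℤ) (x : Cfsg.GolayPt → ℤ) = 16}) : {y : ↥Cfsg.leechLattice | y ∈ {x : ↥Cfsg.leechLattice | Cfsg.sqNorm (x : Cfsg.GolayPt → ℤ) = 32 ∧ Cfsg.sqNorm ((u - x) : Cfsg.GolayPt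 → ℤ) = 32 ∧ Cfsg.dotInt (v : Cfsg.GolayPt → ℤ) (x : Cfsg.GolayPt → ℤ) = 16} ∧ Cfsg.dotInt (x : Cfsg.GolayPt → ℤ) (y : Cfsg.GolayPt → ℤ) = 8}.ncard = 112 ∧ {y : ↥Cfsg.leechLattice | y ∈ {x : ↥Cfsg.leechLattice | Cfsg.sqNorm (x : Cfsg.GolayPt → ℤ) = 32 ∧ Cfsg.sqNorm ((u - x) : Cfsg.GolayPt → ℤ) = 32 ∧ Cfsg.dotInt (v : Cfsg.GolayPt → ℤ) (x : Cfsg.GolayPt → ℤ) = 16} ∧ y ≠ x ∧ Cfsg.dotInt (x : Cfsg.GolayPt → ℤ) (y : Cfsg.GolayPt → ℤ) = 16}.ncard = 162 ∧ ∀ y ∈ {x : ↥Cfsg.leechLattice | Cfsg.sqNorm (x : Cfsg.GolayPt → ℤ) = 32 ∧ Cfsg.sqNorm ((u - x) : Cfsg.GolayPt → ℤ) = 32 ∧ Cfsg.dotInt (v : Cfsg.GolayPt → ℤ) (x : Cfsg.GolayPt → ℤ) = 16}, ∀ y' ∈ {x : ↥Cfsg.leechLattice | Cfsg.sqNorm (x : Cfsg.GolayPt → ℤ) = 32 ∧ Cfsg.sqNorm ((u - x) : Cfsg.GolayPt → ℤ) = 32 ∧ Cfsg.dotInt (v : Cfsg.GolayPt → ℤ) (x : Cfsg.GolayPt → ℤ) = 16}, y ≠ x → y' ≠ x → Cfsg.dotInt (x : Cfsg.GolayPt → ℤ) (y :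 Cfsg.GolayPt → ℤ) = Cfsg.dotInt (x : Cfsg.GolayPt → ℤ) (y' : Cfsg.GolayPt → ℤ) → ∃ g : ↥Cfsg.Co0, g • u = u ∧ g • v = v ∧ g • x = x ∧ g • y = y' := by
  obtain ⟨G, Gu, Gv, Gx⟩ := to_std_275 hu hv hx
  -- transfer of membership
  have tr : ∀ y : ↥leechLattice, (sqNorm (y : GolayPt → ℤ) = 32 ∧
      sqNorm ((u : GolayPt → ℤ) - (y : GolayPt → ℤ)) = 32 ∧
      dotInt (v : GolayPt → ℤ) (y : GolayPt → ℤ) = 16) ↔ (G • y : ↥leechLattice).1 ∈ Xstd := by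
    intro y
    have a1 : sqNorm (G • y : ↥leechLattice).1 = sqNorm y.1 := G.2.2 y
    have a2 : sqNorm ((G • u - G • y : ↥leechLattice) : GolayPt → ℤ) =
        sqNorm ((u : GolayPt → ℤ) - (y : GolayPt → ℤ)) := by
      rw [← co0_sub]; exact G.2.2 (u - y)
    have a3 : dotInt (G • v : ↥leechLattice).1 (G • y : ↥leechLattice).1 = dotInt v.1 y.1 :=
      co0_dot G.2 v y
    rw [← mem_stmt_iff, ← Gu, ← Gv, a1, a2, a3]
  have trd : ∀ y : ↥leechLattice, dotInt (x : GolayPt → ℤ) (y : GolayPt → ℤ) =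
      dotInt x0f (G • y : ↥leechLattice).1 := by
    intro y
    have a := co0_dot G.2 x y
    have Gx' : G.1 x = x0 := Gx
    rw [Gx'] at a
    exact a.symm
  have trne : ∀ y : ↥leechLattice, y ≠ x ↔ (G • y : ↥leechLattice).1 ≠ x0f := by
    intro y
    constructor
    · intro h1 h2
      apply h1
      have : G • y = x0 := Subtype.ext h2
      rw [← Gx] at this
      exact smul_left_cancel G this
    · intro h1 h2
      apply h1
      rw [h2, Gx]; rfl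
  refine ⟨?_, ?_, ?_⟩
  · rw [ncard_pred' (g := (G : Equiv.Perm ↥leechLattice)) _
      (fun z : ↥leechLattice => z.1 ∈ Xstd ∧ dotInt x0f z.1 = 8)
      (fun y => by
        show (_ ∧ _) ↔ _
        rw [trd y]
        exact and_congr (tr y) Iff.rfl)]
    rw [ncard_subtype (fun f => f ∈ Xstd ∧ dotInt x0f f = 8)]
    have e : {f : GolayPt → ℤ | f ∈ leechLattice ∧ (f ∈ Xstd ∧ dotInt x0f f = 8)} =
        {f | f ∈ Xstd ∧ dotInt x0f f = 8} := by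
      ext f
      constructor
      · rintro ⟨-, h⟩; exact h
      · intro h; exact ⟨h.1.1, h⟩
    rw [e]
    exact ncard_Zstd
  · rw [ncard_pred' (g := (G : Equiv.Perm ↥leechLattice)) _
      (fun z : ↥leechLattice => z.1 ∈ Xstd ∧ z.1 ≠ x0f ∧ dotInt x0f z.1 = 16)
      (fun y => by
        show (_ ∧ _ ∧ _) ↔ _
        rw [trd y]
        exact and_congr (tr y) (and_congr (trne y) Iff.rfl))]
    rw [ncard_subtype (fun f => f ∈ Xstd ∧ f ≠ x0f ∧ dotInt x0f f = 16)]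
    have e : {f : GolayPt → ℤ | f ∈ leechLattice ∧ (f ∈ Xstd ∧ f ≠ x0f ∧ dotInt x0f f = 16)} =
        {f | f ∈ Xstd ∧ f ≠ x0f ∧ dotInt x0f f = 16} := by
      ext f
      constructor
      · rintro ⟨-, h⟩; exact h
      · intro h; exact ⟨h.1.1, h⟩
    rw [e]
    exact ncard_Ystd
  · intro y hy y' hy' hne hne' hdd
    have hyX := (tr y).1 hy
    have hyX' := (tr y').1 hy'
    rcases dot_x0f_cases hyX ((trne y).1 hne) with h8 | h16
    · -- the suborbit of length 112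
      have h8' : dotInt x0f (G • y' : ↥leechLattice).1 = 8 := by
        rw [← trd y', ← hdd, trd y]; exact h8
      obtain ⟨h, hU, hv0, hx0, hyy⟩ := Zstd_trans hyX h8 hyX' h8'
      refine ⟨G⁻¹ * h * G, ?_, ?_, ?_, ?_⟩
      · rw [mul_smul, mul_smul, Gu, hU, inv_smul_eq_iff, Gu]
      · rw [mul_smul, mul_smul, Gv, hv0, inv_smul_eq_iff, Gv]
      · rw [mul_smul, mul_smul, Gx, hx0, inv_smul_eq_iff, Gx]
      · rw [mul_smul, mul_smul, hyy, inv_smul_smul]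
    · -- the suborbit of length 162
      have key : ∀ z : ↥leechLattice, sqNorm (z : GolayPt → ℤ) = 32 →
          (sqNorm ((u : GolayPt → ℤ) - (z : GolayPt → ℤ)) = 32 ↔
            dotInt (u : GolayPt → ℤ) (z : GolayPt → ℤ) = 24) := by
        intro z hz
        rw [sqNorm_sub, hu, hz]
        constructor <;> intro h <;> linarith
      have huv : dotInt (u : GolayPt → ℤ) (v : GolayPt → ℤ) = 24 := (key v hv.1).1 hv.2
      have d1 : dotInt (x : GolayPt → ℤ) (y : GolayPt → ℤ) = 16 := by rw [trd y]; exact h16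
      have d2 : dotInt (x : GolayPt → ℤ) (y' : GolayPt → ℤ) = 16 := by rw [← hdd]; exact d1
      exact trans_162_gen hu hv.1 huv ⟨hx.1, (key x hx.1).1 hx.2.1, hx.2.2⟩
        ⟨hy.1, (key y hy.1).1 hy.2.1, hy.2.2⟩ ⟨hy'.1, (key y' hy'.1).1 hy'.2.1, hy'.2.2⟩ d1 d2

end Cfsg.Agent.S1581
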