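import Cfsg.Statements.S1585
import Mathlib
import Cfsg.Agent.Lib.Helper3.Co0PairK2
-- import your own Cfsg.Agent.* helpers here

set_option autoImplicit false
open Cfsg

namespace Cfsg.Agent.S1585

/-- Two vectors of customary norm 6 with inner product −4 are exchanged by some automorphism of the lattice. -/
theorem result (v w : ↥Cfsg.leechLattice) (hv : Cfsg.sqNorm (v : Cfsg.GolayPt → ℤ) = 48) (hw : Cfsg.sqNorm (w : Cfsg.GolayPt → ℤ) = 48) (hvw : Cfsg.dotInt (v : Cfsg.GolayPt → ℤ) (w : Cfsg.GolayPt → ℤ) = -32) : ∃ g : ↥Cfsg.Co0, g • v = w ∧ g • w = v := by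
  have hx : ((v + w : ↥Cfsg.leechLattice) : Cfsg.GolayPt → ℤ) = (v : Cfsg.GolayPt → ℤ) + (w : Cfsg.GolayPt → ℤ) := rfl
  have hself : ∀ y : Cfsg.GolayPt → ℤ, Cfsg.dotInt y y = Cfsg.sqNorm y := by
    intro y
    unfold Cfsg.dotInt Cfsg.sqNorm
    apply Finset.sum_congr rfl
    intro i _
    ring
  have hadd : ∀ a b c : Cfsg.GolayPt → ℤ, Cfsg.dotInt (a + b) c = Cfsg.dotInt a c + Cfsg.dotInt b c := by
    intro a b c
    unfold Cfsg.dotInt
    rw [← Finset.sum_add_distrib]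
    apply Finset.sum_congr rfl
    intro i _
    simp only [Pi.add_apply]; ring
  have hcomm : ∀ a b : Cfsg.GolayPt → ℤ, Cfsg.dotInt a b = Cfsg.dotInt b a := by
    intro a b
    unfold Cfsg.dotInt
    apply Finset.sum_congr rfl
    intro i _
    ring
  have hxn : Cfsg.sqNorm ((v + w : ↥Cfsg.leechLattice) : Cfsg.GolayPt → ℤ) = 32 := by
    rw [hx, Cfsg.Agent.Lib.Helper3.sqNorm_add, hv, hw, hvw]; norm_num
  have hd1 : Cfsg.dotInt ((v + w : ↥Cfsg.leechLattice) : Cfsg.GolayPt → ℤ) (v : Cfsg.GolayPt → ℤ) = 16 := by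
    rw [hx, hadd, hself, hv, hcomm, hvw]; norm_num
  have hd2 : Cfsg.dotInt ((v + w : ↥Cfsg.leechLattice) : Cfsg.GolayPt → ℤ) (w : Cfsg.GolayPt → ℤ) = 16 := by
    rw [hx, hadd, hself, hw, hvw]; norm_num
  have h1 := Cfsg.Agent.Lib.Helper3.connP_k2 (v + w).2 hxn v.2 hv hd1
  have h2 := Cfsg.Agent.Lib.Helper3.connP_k2 (v + w).2 hxn w.2 hw hd2
  obtain ⟨g, hg1, hg2⟩ := (h1.trans h2.symm).exists_co0
  refine ⟨g, hg2, ?_⟩
  have h3 : g • (v + w) = g • v + g • w := g.2.1 v w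
  rw [hg1, hg2] at h3
  have h4 : g • w = v + w - w := by rw [h3]; abel
  rw [h4]; abel

end Cfsg.Agent.S1585
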