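import Cfsg.Statements.S1588
import Mathlib

set_option autoImplicit false
open Matrix
open Cfsg

namespace Cfsg.Agent.S1588

section General

variable {n : ℕ} (B : Matrix (Fin n) (Fin n) ℤ)

/-- the linear functional `w ↦ B(u, w)` -/
def bilinLeft (u : Fin n → ℤ) : (Fin n → ℤ) →ₗ[ℤ] ℤ where
  toFun w := u ⬝ᵥ (B *ᵥ w)
  map_add' w w' := by rw [Matrix.mulVec_add, dotProduct_add]
  map_smul' c w := by
    rw [Matrix.mulVec_smul, dotProduct_smul]
    rfl

theorem bilinLeft_apply (u w : Fin n → ℤ) : bilinLeft B u w = u ⬝ᵥ (B *ᵥ w) := rfl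

/-- reduction modulo 2 -/
def red2 (y : Fin n → ℤ) : Fin n → ZMod 2 := fun i => (y i : ZMod 2)

theorem red2_eq_iff (u v : Fin n → ℤ) : red2 u = red2 v ↔ ∀ i, (2 : ℤ) ∣ (u - v) i := by
  unfold red2
  rw [funext_iff]
  refine forall_congr' fun i => ?_
  rw [Pi.sub_apply, ZMod.intCast_eq_intCast_iff_dvd_sub]
  have h : v i - u i = -(u i - v i) := by ring
  rw [h, dvd_neg]
  simp only [Nat.cast_ofNat]

/-- an orthogonal family of non-isotropic vectors is linearly independent -/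
theorem linearIndependent_of_orthogonal {ι : Type*} (v : ι → Fin n → ℤ)
    (hne : ∀ i, v i ⬝ᵥ (B *ᵥ v i) ≠ 0)
    (horth : ∀ i j, i ≠ j → v i ⬝ᵥ (B *ᵥ v j) = 0) : LinearIndependent ℤ v := by
  classical
  rw [linearIndependent_iff']
  intro s c hc j hj
  have h1 := congrArg (bilinLeft B (v j)) hc
  rw [map_sum, map_zero] at h1
  simp only [map_smul, bilinLeft_apply, smul_eq_mul] at h1
  rw [Finset.sum_eq_single j] at h1
  · rcases mul_eq_zero.mp h1 with h | h
    · exact h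
    · exact absurd h (hne j)
  · intro i _ hij
    rw [horth j i (Ne.symm hij), mul_zero]
  · intro h; exact absurd hj h

/-- a finite set of non-isotropic vectors which are pairwise equal, opposite or orthogonal has
at most `2 n` elements -/
theorem card_le_of_pm_orthogonal (F : Finset (Fin n → ℤ))
    (hne : ∀ u ∈ F, u ⬝ᵥ (B *ᵥ u) ≠ 0)
    (h : ∀ u ∈ F, ∀ v ∈ F, v = u ∨ v = -u ∨ u ⬝ᵥ (B *ᵥ v) = 0) : F.card ≤ 2 * n := by
  classical
  let f : (Fin n → ℤ) → Sym2 (Fin n → ℤ) := fun y => s(y, -y)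
  have hf : ∀ u y : Fin n → ℤ, f y = f u → y = u ∨ y = -u := by
    intro u y hy
    simp only [f, Sym2.eq_iff] at hy
    rcases hy with ⟨h1, _⟩ | ⟨h1, _⟩
    · left; exact h1
    · right; exact h1
  have h1 : F.card ≤ 2 * (F.image f).card := by
    apply Finset.card_le_mul_card_image
    intro p hp
    obtain ⟨u, _, rfl⟩ := Finset.mem_image.mp hp
    have hsub : F.filter (fun y => f y = f u) ⊆ {u, -u} := by
      intro y hy
      rw [Finset.mem_filter] at hy
      rw [Finset.mem_insert, Finset.mem_singleton]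
      exact hf u y hy.2
    exact (Finset.card_le_card hsub).trans Finset.card_le_two
  have h2 : (F.image f).card ≤ n := by
    -- choose representatives
    have hex : ∀ p : {p // p ∈ F.image f}, ∃ u ∈ F, f u = p.1 := by
      intro p
      obtain ⟨u, hu, hup⟩ := Finset.mem_image.mp p.2
      exact ⟨u, hu, hup⟩
    choose g hgF hgp using hex
    have hli : LinearIndependent ℤ g := by
      apply linearIndependent_of_orthogonal B g (fun p => hne _ (hgF p))
      intro p p' hpp'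
      rcases h (g p) (hgF p) (g p') (hgF p') with h3 | h3 | h3
      · exfalso; apply hpp'
        apply Subtype.ext
        rw [← hgp p, ← hgp p', h3]
      · exfalso; apply hpp'
        apply Subtype.ext
        rw [← hgp p, ← hgp p', h3]
        simp only [f, neg_neg]
        exact Sym2.eq_swap
      · exact h3
    have h3 := hli.fintype_card_le_finrank
    rw [Module.finrank_fin_fun, Fintype.card_coe] at h3
    exact h3
  omega

end General

section Main

variable (B : Matrix (Fin 24) (Fin 24) ℤ)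

/-- congruent short vectors are equal, opposite, or both of norm 8 and orthogonal -/
theorem cong_cases (hsymm : B.IsSymm)
    (hpos : ∀ x : Fin 24 → ℤ, x ≠ 0 → 0 < x ⬝ᵥ (B *ᵥ x))
    (heven : ∀ x : Fin 24 → ℤ, (2 : ℤ) ∣ x ⬝ᵥ (B *ᵥ x))
    (h2 : ∀ x : Fin 24 → ℤ, x ⬝ᵥ (B *ᵥ x) ≠ 2) (x y : Fin 24 → ℤ)
    (hx : x ⬝ᵥ (B *ᵥ x) ≤ 8) (hy : y ⬝ᵥ (B *ᵥ y) ≤ 8)
    (hc : ∀ i, (2 : ℤ) ∣ (x - y) i) :
    y = x ∨ y = -x ∨
      (x ⬝ᵥ (B *ᵥ x) = 8 ∧ y ⬝ᵥ (B *ᵥ y) = 8 ∧ x ⬝ᵥ (B *ᵥ y) = 0) := by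
  have hsym : ∀ u v : Fin 24 → ℤ, u ⬝ᵥ (B *ᵥ v) = v ⬝ᵥ (B *ᵥ u) := by
    intro u v
    rw [Matrix.dotProduct_mulVec, ← Matrix.mulVec_transpose, hsymm.eq, dotProduct_comm]
  obtain ⟨z, hz⟩ : ∃ z : Fin 24 → ℤ, x - y = (2 : ℤ) • z := by
    choose k hk using hc
    exact ⟨k, by ext i; simpa using hk i⟩
  have hxz : x = y + (2 : ℤ) • z := by rw [← hz]; abel
  have hw : x + y = (2 : ℤ) • (z + y) := by rw [hxz]; ext i; simp; ring
  have h4 : ∀ u : Fin 24 → ℤ, ((2 : ℤ) • u) ⬝ᵥ (B *ᵥ ((2 : ℤ) • u)) = 4 * (u ⬝ᵥ (B *ᵥ u)) := by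
    intro u
    rw [Matrix.mulVec_smul, smul_dotProduct, dotProduct_smul]
    simp only [smul_eq_mul]; ring
  have e1 : (x - y) ⬝ᵥ (B *ᵥ (x - y)) =
      x ⬝ᵥ (B *ᵥ x) + y ⬝ᵥ (B *ᵥ y) - 2 * (x ⬝ᵥ (B *ᵥ y)) := by
    rw [Matrix.mulVec_sub, sub_dotProduct, dotProduct_sub, dotProduct_sub, hsym y x]
    ring
  have e2 : (x + y) ⬝ᵥ (B *ᵥ (x + y)) =
      x ⬝ᵥ (B *ᵥ x) + y ⬝ᵥ (B *ᵥ y) + 2 * (x ⬝ᵥ (B *ᵥ y)) := by
    rw [Matrix.mulVec_add, add_dotProduct, dotProduct_add, dotProduct_add, hsym y x]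
    ring
  rw [hz, h4] at e1
  rw [hw, h4] at e2
  by_cases hz0 : z = 0
  · left
    rw [hxz, hz0]; simp
  by_cases hw0 : z + y = 0
  · right; left
    have : x + y = 0 := by rw [hw, hw0]; simp
    exact (eq_neg_of_add_eq_zero_right this)
  right; right
  have p1 := hpos z hz0
  have p2 := hpos _ hw0
  have d1 := heven z
  have d2 := heven (z + y)
  have n1 := h2 z
  have n2 := h2 (z + y)
  omega

end Main

/-- Second step of the characterisation: under the vector counts of the rank-24 lattice, the norm-8 vectors fall into congruence classes of exactly 48 modulo twice the lattice. -/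
theorem result (B : Matrix (Fin 24) (Fin 24) ℤ) (hsymm : B.IsSymm) (hpos : ∀ x : Fin 24 → ℤ, x ≠ 0 → 0 < x ⬝ᵥ (B *ᵥ x)) (heven : ∀ x : Fin 24 → ℤ, (2 : ℤ) ∣ x ⬝ᵥ (B *ᵥ x)) (h2 : ∀ x : Fin 24 → ℤ, x ⬝ᵥ (B *ᵥ x) ≠ 2) (h4 : {x : Fin 24 → ℤ | x ⬝ᵥ (B *ᵥ x) = 4}.ncard = 196560) (h6 : {x : Fin 24 → ℤ | x ⬝ᵥ (B *ᵥ x) = 6}.ncard = 16773120) (h8 : {x : Fin 24 → ℤ | x ⬝ᵥ (B *ᵥ x) = 8}.ncard = 398034000) (x : Fin 24 → ℤ) (hx : x ⬝ᵥ (B *ᵥ x) = 8) : {y : Fin 24 → ℤ | y ⬝ᵥ (B *ᵥ y) = 8 ∧ ∀ i, (2 : ℤ) ∣ (x - y) i}.ncard = 48 := by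
  classical
  have hcc := cong_cases B hsymm hpos heven h2
  -- finite sets of short vectors
  have hfin4 : {x : Fin 24 → ℤ | x ⬝ᵥ (B *ᵥ x) = 4}.Finite :=
    Set.finite_of_ncard_ne_zero (by rw [h4]; norm_num)
  have hfin6 : {x : Fin 24 → ℤ | x ⬝ᵥ (B *ᵥ x) = 6}.Finite :=
    Set.finite_of_ncard_ne_zero (by rw [h6]; norm_num)
  have hfin8 : {x : Fin 24 → ℤ | x ⬝ᵥ (B *ᵥ x) = 8}.Finite :=
    Set.finite_of_ncard_ne_zero (by rw [h8]; norm_num)
  set F4 := hfin4.toFinset with hF4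
  set F6 := hfin6.toFinset with hF6
  set F8 := hfin8.toFinset with hF8
  have hm4 : ∀ y, y ∈ F4 ↔ y ⬝ᵥ (B *ᵥ y) = 4 := fun y => by simp [F4]
  have hm6 : ∀ y, y ∈ F6 ↔ y ⬝ᵥ (B *ᵥ y) = 6 := fun y => by simp [F6]
  have hm8 : ∀ y, y ∈ F8 ↔ y ⬝ᵥ (B *ᵥ y) = 8 := fun y => by simp [F8]
  have hc4 : F4.card = 196560 := by rw [← h4, Set.ncard_eq_toFinset_card _ hfin4]
  have hc6 : F6.card = 16773120 := by rw [← h6, Set.ncard_eq_toFinset_card _ hfin6]
  have hc8 : F8.card = 398034000 := by rw [← h8, Set.ncard_eq_toFinset_card _ hfin8]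
  -- q (-u) = q u
  have hqneg : ∀ u : Fin 24 → ℤ, (-u) ⬝ᵥ (B *ᵥ (-u)) = u ⬝ᵥ (B *ᵥ u) := by
    intro u
    rw [Matrix.mulVec_neg, neg_dotProduct, dotProduct_neg, neg_neg]
  have hq0 : (0 : Fin 24 → ℤ) ⬝ᵥ (B *ᵥ (0 : Fin 24 → ℤ)) = 0 := by simp
  -- fibres
  let φ : (Fin 24 → ℤ) → (Fin 24 → ZMod 2) := red2
  have hφ : ∀ u v, φ u = φ v ↔ ∀ i, (2 : ℤ) ∣ (u - v) i := red2_eq_iff
  have hφneg : ∀ u : Fin 24 → ℤ, φ (-u) = φ u := by
    intro u
    rw [hφ]
    intro i
    simp only [Pi.sub_apply, Pi.neg_apply]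
    exact ⟨-u i, by ring⟩
  -- fibre of size exactly two for norm 4, 6
  have hfib2 : ∀ (F : Finset (Fin 24 → ℤ)) (k : ℤ), (∀ y, y ∈ F ↔ y ⬝ᵥ (B *ᵥ y) = k) → 0 < k → k < 8 →
      F.card = 2 * (F.image φ).card := by
    intro F k hm hk0 hk8
    rw [Finset.card_eq_sum_card_fiberwise (f := φ) (t := F.image φ)
      (fun y hy => Finset.mem_image_of_mem φ hy)]
    rw [Finset.sum_const_nat (m := 2), mul_comm]
    intro c hc
    obtain ⟨u, hu, rfl⟩ := Finset.mem_image.mp hc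
    have hqu := (hm u).mp hu
    have hune : u ≠ -u := by
      intro h
      have h0 : u = 0 := by
        ext i
        have := congrFun h i
        simp only [Pi.neg_apply] at this
        simp only [Pi.zero_apply]
        omega
      rw [h0, hq0] at hqu
      omega
    have hfibeq : F.filter (fun y => φ y = φ u) = {u, -u} := by
      ext y
      rw [Finset.mem_filter, Finset.mem_insert, Finset.mem_singleton]
      constructor
      · rintro ⟨hy, hyu⟩
        have hqy := (hm y).mp hy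
        rcases hcc u y (by omega) (by omega) ((hφ u y).mp hyu.symm) with h | h | h
        · left; exact h
        · right; exact h
        · omega
      · rintro (rfl | rfl)
        · exact ⟨hu, rfl⟩
        · exact ⟨(hm _).mpr (by rw [hqneg]; exact hqu), hφneg u⟩
    rw [hfibeq, Finset.card_pair hune]
  have hi4 := hfib2 F4 4 hm4 (by norm_num) (by norm_num)
  have hi6 := hfib2 F6 6 hm6 (by norm_num) (by norm_num)
  -- fibres of norm 8 have at most 48 elements
  have hfib8 : ∀ c, (F8.filter (fun y => φ y = c)).card ≤ 48 := by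
    intro c
    have := card_le_of_pm_orthogonal B (F8.filter (fun y => φ y = c))
      (fun u hu => by
        rw [Finset.mem_filter, hm8] at hu
        rw [hu.1]; norm_num)
      (fun u hu v hv => by
        rw [Finset.mem_filter, hm8] at hu hv
        rcases hcc u v (by omega) (by omega) ((hφ u v).mp (hu.2.trans hv.2.symm)) with h | h | h
        · left; exact h
        · right; left; exact h
        · right; right; exact h.2.2)
    omega
  -- disjointness of images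
  have hdisj : ∀ (F F' : Finset (Fin 24 → ℤ)) (k k' : ℤ), (∀ y ∈ F, y ⬝ᵥ (B *ᵥ y) = k) →
      (∀ y ∈ F', y ⬝ᵥ (B *ᵥ y) = k') → k ≤ 8 → k' ≤ 8 → k ≠ k' →
      Disjoint (F.image φ) (F'.image φ) := by
    intro F F' k k' hm hm' hk hk' hne
    rw [Finset.disjoint_left]
    intro c hc hc'
    obtain ⟨u, hu, rfl⟩ := Finset.mem_image.mp hc
    obtain ⟨v, hv, hvu⟩ := Finset.mem_image.mp hc'
    have hqu := hm u hu
    have hqv := hm' v hv
    rcases hcc u v (by omega) (by omega) ((hφ u v).mp hvu.symm) with h | h | h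
    · rw [h] at hqv; omega
    · rw [h, hqneg] at hqv; omega
    · omega
  have hF0 : ∀ y ∈ ({0} : Finset (Fin 24 → ℤ)), y ⬝ᵥ (B *ᵥ y) = 0 := by
    intro y hy
    rw [Finset.mem_singleton] at hy
    rw [hy, hq0]
  have hF4' : ∀ y ∈ F4, y ⬝ᵥ (B *ᵥ y) = 4 := fun y hy => (hm4 y).mp hy
  have hF6' : ∀ y ∈ F6, y ⬝ᵥ (B *ᵥ y) = 6 := fun y hy => (hm6 y).mp hy
  have hF8' : ∀ y ∈ F8, y ⬝ᵥ (B *ᵥ y) = 8 := fun y hy => (hm8 y).mp hy
  have d04 := hdisj {0} F4 0 4 hF0 hF4' (by norm_num) (by norm_num) (by norm_num)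
  have d06 := hdisj {0} F6 0 6 hF0 hF6' (by norm_num) (by norm_num) (by norm_num)
  have d08 := hdisj {0} F8 0 8 hF0 hF8' (by norm_num) (by norm_num) (by norm_num)
  have d46 := hdisj F4 F6 4 6 hF4' hF6' (by norm_num) (by norm_num) (by norm_num)
  have d48 := hdisj F4 F8 4 8 hF4' hF8' (by norm_num) (by norm_num) (by norm_num)
  have d68 := hdisj F6 F8 6 8 hF6' hF8' (by norm_num) (by norm_num) (by norm_num)
  -- total count
  have htotal : (({0} : Finset (Fin 24 → ℤ)).image φ).card + (F4.image φ).card +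
      (F6.image φ).card + (F8.image φ).card ≤ 2 ^ 24 := by
    have hU : ((({0} : Finset (Fin 24 → ℤ)).image φ ∪ F4.image φ) ∪ F6.image φ ∪ F8.image φ).card =
        (({0} : Finset (Fin 24 → ℤ)).image φ).card + (F4.image φ).card +
        (F6.image φ).card + (F8.image φ).card := by
      rw [Finset.card_union_of_disjoint, Finset.card_union_of_disjoint,
        Finset.card_union_of_disjoint d04]
      · rw [Finset.disjoint_union_left]; exact ⟨d06, d46⟩
      · rw [Finset.disjoint_union_left, Finset.disjoint_union_left]; exact ⟨⟨d08, d48⟩, d68⟩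
    rw [← hU]
    have := Finset.card_le_univ
      ((({0} : Finset (Fin 24 → ℤ)).image φ ∪ F4.image φ) ∪ F6.image φ ∪ F8.image φ)
    have hcard : Fintype.card (Fin 24 → ZMod 2) = 2 ^ 24 := by
      rw [Fintype.card_fun, ZMod.card, Fintype.card_fin]
    rw [hcard] at this
    exact this
  have h0card : (({0} : Finset (Fin 24 → ℤ)).image φ).card = 1 := by
    rw [Finset.image_singleton, Finset.card_singleton]
  have hC8 : (F8.image φ).card ≤ 8292375 := by
    rw [h0card] at htotal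
    rw [hc4] at hi4
    rw [hc6] at hi6
    have : (2 : ℕ) ^ 24 = 16777216 := by norm_num
    omega
  -- sum over fibres
  have hsum : F8.card = ∑ c ∈ F8.image φ, (F8.filter (fun y => φ y = c)).card :=
    Finset.card_eq_sum_card_fiberwise (fun y hy => Finset.mem_image_of_mem φ hy)
  have hsum2 : ∑ c ∈ F8.image φ, (48 - (F8.filter (fun y => φ y = c)).card) +
      ∑ c ∈ F8.image φ, (F8.filter (fun y => φ y = c)).card = 48 * (F8.image φ).card := by
    rw [← Finset.sum_add_distrib]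
    rw [Finset.sum_congr rfl (fun c _ => Nat.sub_add_cancel (hfib8 c))]
    rw [Finset.sum_const, smul_eq_mul, mul_comm]
  have hzero : ∑ c ∈ F8.image φ, (48 - (F8.filter (fun y => φ y = c)).card) = 0 := by
    rw [← hsum, hc8] at hsum2
    omega
  have hx8 : x ∈ F8 := (hm8 x).mpr hx
  have hxc : φ x ∈ F8.image φ := Finset.mem_image_of_mem φ hx8
  have h48 := (Finset.sum_eq_zero_iff.mp hzero) (φ x) hxc
  have hfx : (F8.filter (fun y => φ y = φ x)).card = 48 := by
    have := hfib8 (φ x)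
    omega
  -- identify the set
  have hset : {y : Fin 24 → ℤ | y ⬝ᵥ (B *ᵥ y) = 8 ∧ ∀ i, (2 : ℤ) ∣ (x - y) i} =
      ↑(F8.filter (fun y => φ y = φ x)) := by
    ext y
    simp only [Set.mem_ofPred_eq, Finset.coe_filter]
    rw [hm8, hφ y x]
    constructor
    · rintro ⟨h1, h2'⟩
      refine ⟨h1, fun i => ?_⟩
      have := h2' i
      simp only [Pi.sub_apply] at this ⊢
      have h3 : y i - x i = -(x i - y i) := by ring
      rw [h3]; exact (dvd_neg).mpr this
    · rintro ⟨h1, h2'⟩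
      refine ⟨h1, fun i => ?_⟩
      have := h2' i
      simp only [Pi.sub_apply] at this ⊢
      have h3 : x i - y i = -(y i - x i) := by ring
      rw [h3]; exact (dvd_neg).mpr this
  rw [hset, Set.ncard_coe_finset, hfx]

end Cfsg.Agent.S1588
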