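import Cfsg.Statements.S1595
import Cfsg.Agent.Lib.Helper21.SteinerCounts

set_option autoImplicit false
open Cfsg

namespace Cfsg.Agent.S1595

open Finset Cfsg.Agent.Lib.Helper21

variable {α : Type*} [Fintype α] [DecidableEq α]

/-- the blocks other than `b` through `S` -/
noncomputable def through (B : Set (Finset α)) (b S : Finset α) : Finset (Finset α) :=
  ((blocksFinset B).filter (S ⊆ ·)).erase b

theorem mem_through {B : Set (Finset α)} {b S c : Finset α} :
    c ∈ through B b S ↔ c ≠ b ∧ c ∈ B ∧ S ⊆ c := by
  simp only [through, mem_erase, mem_filter, mem_blocksFinset]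

theorem card_through {B : Set (Finset α)} {b S : Finset α} (hb : b ∈ B) (hS : S ⊆ b) :
    (through B b S).card = ((blocksFinset B).filter (S ⊆ ·)).card - 1 := by
  rw [through, card_erase_of_mem]
  rw [mem_filter, mem_blocksFinset]
  exact ⟨hb, hS⟩

/-- the members of `through` meeting `b` in exactly `|S|` points are those meeting it in `S`. -/
theorem through_filter_eq {B : Set (Finset α)} (hB : IsSteinerSystem 5 6 B) {b S : Finset α}
    (hS : S ⊆ b) (hlt : S.card < 6) :
    (through B b S).filter (fun c => (b ∩ c).card = S.card)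
      = (blocksFinset B).filter (fun c => b ∩ c = S) := by
  ext c
  simp only [mem_filter, mem_through, mem_blocksFinset]
  constructor
  · rintro ⟨⟨_, hc, hSc⟩, hcard⟩
    refine ⟨hc, ?_⟩
    symm
    apply eq_of_subset_of_card_le (subset_inter hS hSc)
    omega
  · rintro ⟨hc, hbc⟩
    refine ⟨⟨?_, hc, ?_⟩, ?_⟩
    · rintro rfl
      rw [inter_self] at hbc
      have := hB.1 c hc
      rw [hbc] at this
      omega
    · rw [← hbc]; exact inter_subset_right
    · rw [hbc]

/-- fibrewise count of the members of `through` meeting `b` in `j` points. -/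
theorem through_filter_card {B : Set (Finset α)} (hB : IsSteinerSystem 5 6 B) {b S : Finset α}
    (hb : b ∈ B) (hS : S ⊆ b) (j ν : ℕ) (hj : S.card ≤ j) (hj6 : j < 6)
    (hν : ∀ T ⊆ b, T.card = j → ((blocksFinset B).filter (fun c => b ∩ c = T)).card = ν) :
    ((through B b S).filter (fun c => (b ∩ c).card = j)).card
      = (6 - S.card).choose (j - S.card) * ν := by
  have hmaps : ∀ c ∈ (through B b S).filter (fun c => (b ∩ c).card = j),
      b ∩ c ∈ (b.powersetCard j).filter (S ⊆ ·) := by
    intro c hc
    rw [mem_filter, mem_through] at hc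
    rw [mem_filter, mem_powersetCard]
    exact ⟨⟨inter_subset_left, hc.2⟩, subset_inter hS hc.1.2.2⟩
  rw [card_eq_sum_card_fiberwise hmaps]
  rw [sum_congr rfl (g := fun _ => ν)]
  · rw [sum_const, card_filter_powersetCard_subset S b j hS hj, hB.1 b hb, smul_eq_mul]
  · intro T hT
    rw [mem_filter, mem_powersetCard] at hT
    have e := hν T hT.1.1 hT.1.2
    have hset : ((through B b S).filter (fun c => (b ∩ c).card = j)).filter (fun c => b ∩ c = T)
        = (blocksFinset B).filter (fun c => b ∩ c = T) := by
      ext c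
      simp only [mem_filter, mem_through, mem_blocksFinset]
      constructor
      · rintro ⟨⟨⟨_, hc, _⟩, _⟩, hbc⟩
        exact ⟨hc, hbc⟩
      · rintro ⟨hc, hbc⟩
        refine ⟨⟨⟨?_, hc, ?_⟩, ?_⟩, hbc⟩
        · rintro rfl
          rw [inter_self] at hbc
          have := hB.1 c hc
          rw [hbc, hT.1.2] at this
          omega
        · rw [← hbc] at hT
          exact hT.2.trans inter_subset_right
        · rw [hbc, hT.1.2]
    rw [hset, e]

theorem inter_cases (hα : Fintype.card α = 12) {B : Set (Finset α)} (hB : IsSteinerSystem 5 6 B)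
    {b c : Finset α} (hb : b ∈ B) (hc : c ∈ B) (hbc : b ≠ c) :
    (b ∩ c).card = 0 ∨ (b ∩ c).card = 2 ∨ (b ∩ c).card = 3 ∨ (b ∩ c).card = 4 := by
  have hlt := inter_card_lt hB hb hc hbc
  obtain ⟨_, h1, _, _, _⟩ := interCounts_5_6_12 hα hB hb
  have n1 := interCount_eq_zero b 1 h1 hc hbc
  omega

theorem exact_four (hα : Fintype.card α = 12) {B : Set (Finset α)} (hB : IsSteinerSystem 5 6 B)
    {b : Finset α} (hb : b ∈ B) {S : Finset α} (hS : S ⊆ b) (h4 : S.card = 4) :
    ((blocksFinset B).filter (fun c => b ∩ c = S)).card = 3 := by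
  have l4 := (lam_5_6_12 hα hB S).2.2.2.2 h4
  have hcard := card_through hb hS
  rw [l4] at hcard
  rw [← through_filter_eq hB hS (by omega)]
  have : (through B b S).filter (fun c => (b ∩ c).card = S.card) = through B b S := by
    apply filter_true_of_mem
    intro c hc
    rw [mem_through] at hc
    have h1 := inter_card_lt hB hb hc.2.1 (Ne.symm hc.1)
    have h2 : S.card ≤ (b ∩ c).card := card_le_card (subset_inter hS hc.2.2)
    omega
  rw [this, hcard]

theorem exact_three (hα : Fintype.card α = 12) {B : Set (Finset α)} (hB : IsSteinerSystem 5 6 B)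
    {b : Finset α} (hb : b ∈ B) {S : Finset α} (hS : S ⊆ b) (h3 : S.card = 3) :
    ((blocksFinset B).filter (fun c => b ∩ c = S)).card = 2 := by
  have l3 := (lam_5_6_12 hα hB S).2.2.2.1 h3
  have hcard := card_through hb hS
  rw [l3] at hcard
  have hc4 := through_filter_card hB hb hS 4 3 (by omega) (by omega)
    (fun T hT h => exact_four hα hB hb hT h)
  rw [h3] at hc4
  have hc3 := through_filter_eq hB hS (by omega)
  have hsplit : (through B b S).card = ((through B b S).filter (fun c => (b ∩ c).card = S.card)).card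
      + ((through B b S).filter (fun c => (b ∩ c).card = 4)).card := by
    rw [← card_union_of_disjoint]
    · congr 1
      ext c
      simp only [mem_union, mem_filter]
      constructor
      · intro hc
        have hc' := mem_through.mp hc
        have h1 := inter_card_lt hB hb hc'.2.1 (Ne.symm hc'.1)
        have h2 : S.card ≤ (b ∩ c).card := card_le_card (subset_inter hS hc'.2.2)
        have : (b ∩ c).card = S.card ∨ (b ∩ c).card = 4 := by omega
        rcases this with h | h
        · exact Or.inl ⟨hc, h⟩
        · exact Or.inr ⟨hc, h⟩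
      · rintro (h | h) <;> exact h.1
    · rw [disjoint_left]
      intro c h1 h2'
      rw [mem_filter] at h1 h2'
      omega
  rw [← hc3]
  have : (3 : ℕ).choose 1 = 3 := by decide
  simp only [show (6 - 3 : ℕ) = 3 from rfl, show (4 - 3 : ℕ) = 1 from rfl, this] at hc4
  omega

theorem exact_two (hα : Fintype.card α = 12) {B : Set (Finset α)} (hB : IsSteinerSystem 5 6 B)
    {b : Finset α} (hb : b ∈ B) {S : Finset α} (hS : S ⊆ b) (h2 : S.card = 2) :
    ((blocksFinset B).filter (fun c => b ∩ c = S)).card = 3 := by
  have l2 := (lam_5_6_12 hα hB S).2.2.1 h2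
  have hcard := card_through hb hS
  rw [l2] at hcard
  have hc4 := through_filter_card hB hb hS 4 3 (by omega) (by omega)
    (fun T hT h => exact_four hα hB hb hT h)
  have hc3' := through_filter_card hB hb hS 3 2 (by omega) (by omega)
    (fun T hT h => exact_three hα hB hb hT h)
  rw [h2] at hc4 hc3'
  have hc2 := through_filter_eq hB hS (by omega)
  have hsplit : (through B b S).card = ((through B b S).filter (fun c => (b ∩ c).card = S.card)).card
      + (((through B b S).filter (fun c => (b ∩ c).card = 3)).card
      + ((through B b S).filter (fun c => (b ∩ c).card = 4)).card) := by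
    rw [← card_union_of_disjoint, ← card_union_of_disjoint]
    · congr 1
      ext c
      simp only [mem_union, mem_filter]
      constructor
      · intro hc
        have hc' := mem_through.mp hc
        have h1 := inter_card_lt hB hb hc'.2.1 (Ne.symm hc'.1)
        have h2' : S.card ≤ (b ∩ c).card := card_le_card (subset_inter hS hc'.2.2)
        have : (b ∩ c).card = S.card ∨ (b ∩ c).card = 3 ∨ (b ∩ c).card = 4 := by omega
        rcases this with h | h | h
        · exact Or.inl ⟨hc, h⟩
        · exact Or.inr (Or.inl ⟨hc, h⟩)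
        · exact Or.inr (Or.inr ⟨hc, h⟩)
      · rintro (h | h | h) <;> exact h.1
    · rw [disjoint_left]
      intro c h1 h2'
      rw [mem_filter] at h1
      rw [mem_union, mem_filter, mem_filter] at h2'
      omega
    · rw [disjoint_left]
      intro c h1 h2'
      rw [mem_filter] at h1 h2'
      omega
  rw [← hc2]
  have e1 : (4 : ℕ).choose 2 = 6 := by decide
  have e2 : (4 : ℕ).choose 1 = 4 := by decide
  simp only [show (6 - 2 : ℕ) = 4 from rfl, show (4 - 2 : ℕ) = 2 from rfl,
    show (3 - 2 : ℕ) = 1 from rfl, e1, e2] at hc4 hc3'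
  omega

/-- Leech triangle of S(5, 6, 12): blocks meet in 0, 2, 3 or 4 points, and a block is met exactly in a given 2-, 3- or 4-subset by 3, 2, 3 blocks respectively. -/
theorem result {α : Type*} [Fintype α] [DecidableEq α] (hα : Fintype.card α = 12) {B : Set (Finset α)} (hB : Cfsg.IsSteinerSystem 5 6 B) (b : Finset α) (hb : b ∈ B) : (∀ c ∈ B, c ≠ b → (b ∩ c).card = 0 ∨ (b ∩ c).card = 2 ∨ (b ∩ c).card = 3 ∨ (b ∩ c).card = 4) ∧ ∀ s ⊆ b, (s.card = 2 → {c : Finset α | c ∈ B ∧ b ∩ c = s}.ncard = 3) ∧ (s.card = 3 → {c : Finset α | c ∈ B ∧ b ∩ c = s}.ncard = 2) ∧ (s.card = 4 → {c : Finset α | c ∈ B ∧ b ∩ c = s}.ncard = 3) := by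
  refine ⟨fun c hc hne => inter_cases hα hB hb hc (Ne.symm hne), fun s hs => ⟨?_, ?_, ?_⟩⟩
  · intro h
    rw [ncard_blocks_filter]
    exact exact_two hα hB hb hs h
  · intro h
    rw [ncard_blocks_filter]
    exact exact_three hα hB hb hs h
  · intro h
    rw [ncard_blocks_filter]
    exact exact_four hα hB hb hs h

end Cfsg.Agent.S1595
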