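import Cfsg.Statements.S1600
import Cfsg.Agent.Lib.Helper21.GolayFlag

set_option autoImplicit false
open scoped Pointwise
open Cfsg

namespace Cfsg.Agent.S1600

open Cfsg.Agent.Lib.Helper21

/-- Words of the base group mapping position `5` to the positions outside the dodecad of squares. -/
def m9Words : List ℕ := [1, 1547635175, 68910545278, 1702875094, 5851260684, 7530183927, 69534679664, 1232073, 32154992480, 31906954838, 4885478627, 6354690]

theorem m9_ok : levelOkC 32 [dsq] (m12Fs 3) 5 m9Words [(0, dsq, false)] 0xFACCA0 = true := by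
  decide +kernel

theorem card_m9 : Nat.card (conSub [dsq] (m12Fs 3)) = 72 := by
  have h0 := m12_card 0 (by norm_num)
  have h1 := m12_card 1 (by norm_num)
  have h2 := m12_card 2 (by norm_num)
  rw [popc_m12E.1] at h0
  rw [popc_m12E.2.1] at h1
  rw [popc_m12E.2.2.1] at h2
  have hc : Nat.card (conSub [dsq] (m12Fs 0)) = 95040 := by
    show Nat.card (conSub [dsq] []) = 95040
    rw [conSub_dsq_nil]
    exact card_M12
  simp only [Nat.reduceAdd] at h0 h1 h2
  rw [h0, h1, h2] at hc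
  omega


/-- The pointwise stabiliser of three points of a dodecad inside the dodecad stabiliser (order 72) is transitive on the complementary dodecad. -/
theorem result (d : Finset Cfsg.GolayPt) (hd : d ∈ Cfsg.dodecads) (p q r : Cfsg.GolayPt) (hp : p ∈ d) (hq : q ∈ d) (hr : r ∈ d) (hpq : p ≠ q) (hpr : p ≠ r) (hqr : q ≠ r) : Nat.card ↥(MulAction.stabilizer Cfsg.M24 d ⊓ MulAction.stabilizer Cfsg.M24 p ⊓ MulAction.stabilizer Cfsg.M24 q ⊓ MulAction.stabilizer Cfsg.M24 r) = 72 ∧ ∀ x ∉ d, ∀ y ∉ d, ∃ g ∈ (MulAction.stabilizer Cfsg.M24 d ⊓ MulAction.stabilizer Cfsg.M24 p ⊓ MulAction.stabilizer Cfsg.M24 q ⊓ MulAction.stabilizer Cfsg.M24 r), ((g : ↥Cfsg.M24) : Equiv.Perm Cfsg.GolayPt) x = y := by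
  classical
  -- move the base configuration to the given one
  obtain ⟨k, hk, hkd, hk0, hk1, hk2⟩ : ∃ k ∈ M24, k • maskFS dsq = d ∧ k (ptN 0) = p ∧
      k (ptN 1) = q ∧ k (ptN 2) = r := by
    obtain ⟨k₁, hk₁, hk₁d⟩ := exists_map_squareDodecad d hd
    let y : Fin 3 ↪ GolayPt := ⟨![p, q, r], by
      intro i j h
      fin_cases i <;> fin_cases j <;> simp_all⟩
    obtain ⟨g, hg, hgx⟩ := M12_map_embedding (n := 3) (by norm_num)
      (y.trans (k₁⁻¹ : Equiv.Perm GolayPt).toEmbedding) (fun i => by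
        rw [Function.Embedding.trans_apply]
        show k₁⁻¹ (y i) ∈ Spor.squareDodecad
        rw [smul_finset_mem_iff, hk₁d]
        fin_cases i
        · exact hp
        · exact hq
        · exact hr)
    rw [mem_M12_iff] at hg
    have hkp : ∀ i : Fin 3, (k₁ * g) (ptN i) = y i := by
      intro i
      have := hgx i
      rw [Function.Embedding.trans_apply] at this
      rw [Equiv.Perm.mul_apply, this]
      exact perm_apply_inv k₁ (y i)
    refine ⟨k₁ * g, M24.mul_mem hk₁ hg.1, ?_, hkp 0, hkp 1, hkp 2⟩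
    rw [maskFS_dsq, mul_smul, hg.2, hk₁d]
  have hK : ∀ x : ↥M24, x ∈ (MulAction.stabilizer Cfsg.M24 d ⊓ MulAction.stabilizer Cfsg.M24 p ⊓
      MulAction.stabilizer Cfsg.M24 q ⊓ MulAction.stabilizer Cfsg.M24 r) ↔
      (∀ D ∈ [dsq], (x : Equiv.Perm GolayPt) • (k • maskFS D) = k • maskFS D) ∧
        ∀ i ∈ m12Fs 3, (x : Equiv.Perm GolayPt) (k (ptN i)) = k (ptN i) := by
    intro x
    simp only [Subgroup.mem_inf, MulAction.mem_stabilizer_iff, forall_eq,
      m12Fs, List.mem_cons, List.not_mem_nil, or_false, forall_eq_or_imp, hkd, hk0, hk1, hk2]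
    constructor
    · rintro ⟨⟨⟨h1, h2⟩, h3⟩, h4⟩
      exact ⟨h1, h4, h3, h2⟩
    · rintro ⟨h1, h4, h3, h2⟩
      exact ⟨⟨⟨h1, h2⟩, h3⟩, h4⟩
  refine ⟨?_, ?_⟩
  · rw [card_eq_card_conSub hk _ hK, card_m9]
  · intro a ha b hb
    have ha' : k⁻¹ a ∈ maskFS 0xFACCA0 := by
      have h2 : (0xFACCA0 : ℕ) = dsq ^^^ 0xFFFFFF := by decide
      rw [h2, maskFS_compl, Finset.mem_compl, smul_finset_mem_iff, hkd]
      exact ha
    have hb' : k⁻¹ b ∈ maskFS 0xFACCA0 := by
      have h2 : (0xFACCA0 : ℕ) = dsq ^^^ 0xFFFFFF := by decide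
      rw [h2, maskFS_compl, Finset.mem_compl, smul_finset_mem_iff, hkd]
      exact hb
    obtain ⟨u, hu, hu5⟩ := level_transC 32 _ _ _ _ _ _ m9_ok _ ha'
    obtain ⟨v, hv, hv5⟩ := level_transC 32 _ _ _ _ _ _ m9_ok _ hb'
    have hvu : v * u⁻¹ ∈ conSub [dsq] (m12Fs 3) :=
      (conSub [dsq] (m12Fs 3)).mul_mem hv ((conSub [dsq] (m12Fs 3)).inv_mem hu)
    obtain ⟨x, hx, hxe⟩ := exists_mem_of_conSub hk _ hK hvu
    refine ⟨x, hx, ?_⟩
    rw [hxe, Equiv.Perm.mul_apply, Equiv.Perm.mul_apply, Equiv.Perm.mul_apply, ← hu5,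
      perm_inv_apply, hv5, perm_apply_inv]

end Cfsg.Agent.S1600
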