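import Cfsg.Statements.S1601
import Cfsg.Agent.Lib.Helper9.RestrictSimple
import Cfsg.Agent.Lib.Helper9.PairEmb
import Cfsg.Agent.Lib.Helper21.GolayM12Gen
import Cfsg.Agent.Lib.Helper21.GolayDodecads
import Cfsg.Agent.S0387
import Cfsg.Agent.S0498
import Cfsg.Agent.S1600

set_option autoImplicit false
open scoped Pointwise
open Cfsg

namespace Cfsg.Agent.S1601

/-- In the 3-transitive action of the smallest Mathieu group on the complementary dodecad, a point stabiliser is isomorphic to PSL(2, 11). -/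
theorem result (d : Finset Cfsg.GolayPt) (hd : d ∈ Cfsg.dodecads) (p q : Cfsg.GolayPt) (hp : p ∈ d) (hq : q ∉ d) : Nonempty (↥(MulAction.stabilizer Cfsg.M24 d ⊓ MulAction.stabilizer Cfsg.M24 p ⊓ MulAction.stabilizer Cfsg.M24 q) ≃* Matrix.ProjectiveSpecialLinearGroup (Fin 2) (ZMod 11)) := by
  classical
  have : Fact (Nat.Prime 11) := ⟨by norm_num⟩
  set K := MulAction.stabilizer Cfsg.M24 d ⊓ MulAction.stabilizer Cfsg.M24 p ⊓
    MulAction.stabilizer Cfsg.M24 q with hK
  set H : Subgroup (Equiv.Perm Cfsg.GolayPt) := K.map Cfsg.M24.subtype with hHdef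
  let e : K ≃* H := K.equivMapOfInjective Cfsg.M24.subtype Cfsg.M24.subtype_injective
  have hH : ∀ g : Equiv.Perm Cfsg.GolayPt, g ∈ H ↔ g ∈ Cfsg.M24 ∧ g • d = d ∧ g p = p ∧ g q = q := by
    intro g
    constructor
    · rintro ⟨k, hk, rfl⟩
      exact ⟨k.2, MulAction.mem_stabilizer_iff.1 hk.1.1, MulAction.mem_stabilizer_iff.1 hk.1.2,
        MulAction.mem_stabilizer_iff.1 hk.2⟩
    · rintro ⟨hg, hgd, hgp, hgq⟩
      exact ⟨⟨g, hg⟩, ⟨⟨MulAction.mem_stabilizer_iff.2 hgd, MulAction.mem_stabilizer_iff.2 hgp⟩,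
        MulAction.mem_stabilizer_iff.2 hgq⟩, rfl⟩
  have hdcard : d.card = 12 := by
    obtain ⟨v, _, _, hc⟩ := (Cfsg.Agent.Lib.Helper21.mem_dodecads_iff d).1 hd
    exact hc
  have hmemd : ∀ g : Equiv.Perm Cfsg.GolayPt, g • d = d → ∀ x, g x ∈ d ↔ x ∈ d :=
    fun g hg x => Cfsg.Agent.Lib.Helper21.apply_mem_iff_of_smul_finset_eq hg x
  -- the order
  have hcardK : Nat.card K = 660 := by
    have h1 := Cfsg.Agent.Lib.Helper21.card_eq_orbit_mul_card_inf_stabilizer
      (MulAction.stabilizer Cfsg.M24 d ⊓ MulAction.stabilizer Cfsg.M24 p) q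
    rw [Cfsg.Agent.S0387.result d hd p hp] at h1
    have horb : MulAction.orbit ↥(MulAction.stabilizer Cfsg.M24 d ⊓ MulAction.stabilizer Cfsg.M24 p) q
        = ↑(dᶜ) := by
      ext r
      rw [Cfsg.Agent.Lib.Helper21.mem_orbit_subgroup_iff', Finset.mem_coe, Finset.mem_compl]
      constructor
      · rintro ⟨g, hg, rfl⟩
        have hgd : ((g : Cfsg.M24) : Equiv.Perm Cfsg.GolayPt) • d = d :=
          MulAction.mem_stabilizer_iff.1 hg.1
        intro h
        exact hq ((hmemd _ hgd q).1 h)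
      · intro hr
        obtain ⟨g, hg, hgd, hgp, hgq⟩ := Cfsg.Agent.Lib.Helper21.dodecad_pt_stab_trans (n := 1)
          (by norm_num) d hd p hp
          ⟨fun _ => q, fun _ _ _ => Subsingleton.elim _ _⟩
          ⟨fun _ => r, fun _ _ _ => Subsingleton.elim _ _⟩ (fun _ => hq) (fun _ => hr)
        exact ⟨⟨g, hg⟩, ⟨MulAction.mem_stabilizer_iff.2 hgd, MulAction.mem_stabilizer_iff.2 hgp⟩,
          hgq 0⟩
    rw [horb, Set.ncard_coe_finset, Finset.card_compl, hdcard,
      Cfsg.Agent.Lib.Helper21.card_golayPt] at h1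
    have h2 : Nat.card K = Nat.card ↥(MulAction.stabilizer Cfsg.M24 d ⊓
        MulAction.stabilizer Cfsg.M24 p ⊓ MulAction.stabilizer Cfsg.M24 q) := rfl
    omega
  have hcardH : Nat.card H = 11 * 60 := by
    rw [← Nat.card_congr e.toEquiv, hcardK]
  have hEcard : (d.erase p).card = 11 := by
    rw [Finset.card_erase_of_mem hp, hdcard]
  have : IsSimpleGroup H := by
    apply Cfsg.Agent.Lib.Helper9.RestrictSimple.simple_of_restrict (p := 11) H
      (d.erase p) hEcard ?_ ?_ ?_ 5 60 (by norm_num) hcardH ?_ (by norm_num)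
    · -- invariance
      intro g hg
      obtain ⟨-, hgd, hgp, -⟩ := (hH g).1 hg
      ext x
      rw [Finset.mem_smul_finset]
      constructor
      · rintro ⟨y, hy, rfl⟩
        rw [Finset.mem_erase] at hy ⊢
        refine ⟨fun h => hy.1 ?_, (hmemd g hgd y).2 hy.2⟩
        apply g.injective
        rw [hgp]
        exact h
      · intro hx
        rw [Finset.mem_erase] at hx
        refine ⟨g⁻¹ x, ?_, Cfsg.Agent.Lib.Helper21.perm_apply_inv g x⟩
        rw [Finset.mem_erase]
        refine ⟨fun h => hx.1 ?_, ?_⟩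
        · rw [← Cfsg.Agent.Lib.Helper21.perm_apply_inv g x, h, hgp]
        · rw [← hmemd g hgd, Cfsg.Agent.Lib.Helper21.perm_apply_inv]
          exact hx.2
    · -- faithful
      intro g hg hfix
      obtain ⟨hgM, hgd, hgp, -⟩ := (hH g).1 hg
      have hfixd : ∀ x ∈ d, g x = x := by
        intro x hx
        by_cases hxp : x = p
        · rw [hxp, hgp]
        · exact hfix x (Finset.mem_erase.2 ⟨hxp, hx⟩)
      obtain ⟨f⟩ : Nonempty (Fin 5 ↪ ↥d) := by
        apply Function.Embedding.nonempty_of_card_le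
        rw [Fintype.card_fin, Fintype.card_coe, hdcard]
        norm_num
      exact Cfsg.Agent.Lib.Helper21.dodecad_stab_unique d hd
        (f.trans (Function.Embedding.subtype _)) (fun i => (f i).2) g hgM hgd
        (fun i => hfixd _ (f i).2)
    · -- transitive
      intro x hx y hy
      rw [Finset.mem_erase] at hx hy
      obtain ⟨g, hgM, hgd, hg⟩ := Cfsg.Agent.Lib.Helper21.dodecad_stab_trans (n := 2) (by norm_num)
        d hd
        (Cfsg.Agent.Lib.Helper9.PairEmb.pairEmb p x (Ne.symm hx.1))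
        (Cfsg.Agent.Lib.Helper9.PairEmb.pairEmb p y (Ne.symm hy.1))
        (Cfsg.Agent.Lib.Helper9.PairEmb.pairEmb_mem p x _ (· ∈ d) hp hx.2)
        (Cfsg.Agent.Lib.Helper9.PairEmb.pairEmb_mem p y _ (· ∈ d) hp hy.2)
      have hg0 : g p = p := hg 0
      have hg1 : g x = y := hg 1
      -- a third point of d
      obtain ⟨r, hrd, hrp, hry⟩ : ∃ r ∈ d, p ≠ r ∧ y ≠ r := by
        have h3 : 2 < d.card := by rw [hdcard]; norm_num
        have : (({p, y} : Finset Cfsg.GolayPt)).card < d.card :=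
          lt_of_le_of_lt (Finset.card_insert_le _ _) (by rw [Finset.card_singleton]; exact h3)
        obtain ⟨r, hrd, hr⟩ := Finset.exists_mem_notMem_of_card_lt_card this
        refine ⟨r, hrd, fun h => hr ?_, fun h => hr ?_⟩
        · rw [← h]; exact Finset.mem_insert_self _ _
        · rw [← h]; exact Finset.mem_insert_of_mem (Finset.mem_singleton_self _)
      have hgq : g q ∉ d := fun h => hq ((hmemd g hgd q).1 h)
      obtain ⟨h, hh, hhq⟩ := (Cfsg.Agent.S1600.result d hd p y r hp hy.2 hrd (Ne.symm hy.1) hrp hry).2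
        (g q) hgq q hq
      have hh' := hh
      obtain ⟨⟨⟨hhd, hhp⟩, hhy⟩, hhr⟩ := hh'
      have hhd' : ((h : Cfsg.M24) : Equiv.Perm Cfsg.GolayPt) • d = d :=
        MulAction.mem_stabilizer_iff.1 hhd
      have hhp' : ((h : Cfsg.M24) : Equiv.Perm Cfsg.GolayPt) p = p :=
        MulAction.mem_stabilizer_iff.1 hhp
      have hhy' : ((h : Cfsg.M24) : Equiv.Perm Cfsg.GolayPt) y = y :=
        MulAction.mem_stabilizer_iff.1 hhy
      refine ⟨((h : Cfsg.M24) : Equiv.Perm Cfsg.GolayPt) * g, (hH _).2 ⟨?_, ?_, ?_, ?_⟩, ?_⟩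
      · exact Cfsg.M24.mul_mem h.2 hgM
      · rw [mul_smul, hgd, hhd']
      · rw [Equiv.Perm.mul_apply, hg0, hhp']
      · rw [Equiv.Perm.mul_apply, hhq]
      · rw [Equiv.Perm.mul_apply, hg1, hhy']
    · -- arithmetic
      intro k hk1 _ hk3
      have hk10 : k ∣ 10 := hk1
      have hle : k ≤ 10 := Nat.le_of_dvd (by norm_num) hk10
      interval_cases k <;> simp_all <;> omega
  haveI : IsSimpleGroup K := e.isSimpleGroup
  haveI : Finite K := Nat.finite_of_card_ne_zero (by rw [hcardK]; norm_num)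
  exact Cfsg.Agent.S0498.result (G := K) 11 (Or.inl rfl) (by rw [hcardK]; norm_num) (F := ZMod 11)
    (by rw [ZMod.card])
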