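import Cfsg.Statements.S1602
import Cfsg.Agent.Lib.Helper21.GolayFlag
import Cfsg.Agent.Lib.Helper21.PermRestrict

set_option autoImplicit false
open scoped Pointwise
open Cfsg

namespace Cfsg.Agent.S1602

open Cfsg.Agent.Lib.Helper21

/-- Mask of the base pair of outside points (positions `5` and `7`). -/
def pm : ℕ := 0xA0

/-- Mask of the octad through the positions `0, 5, 7` meeting the dodecad of squares in six
points. -/
def ostar : ℕ := 0x401ed

def sFs : ℕ → List ℕ
  | 0 => [0]
  | 1 => [2, 0]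
  | 2 => [3, 2, 0]
  | 3 => [6, 3, 2, 0]
  | _ => [8, 6, 3, 2, 0]

def sB : ℕ → ℕ
  | 0 => 2
  | 1 => 3
  | 2 => 6
  | _ => 8

def sWords : ℕ → List ℕ
  | 0 => [1, 416120590, 1925445693, 425659614, 5086477797]
  | 1 => [1, 21331568480, 7503445814, 26809963968]
  | 2 => [1, 83086348, 6674051894]
  | _ => [1, 100343859679]

def sE : ℕ → ℕ
  | 0 => 0x4014c
  | 1 => 0x40148
  | 2 => 0x40140
  | _ => 0x40100

theorem s_ok : ∀ k, k < 4 → levelOkC 32 [dsq, pm, ostar] (sFs k) (sB k) (sWords k)
    [(0, ostar, true), (0, dsq, true)] (sE k) = true := by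
  decide +kernel

theorem popc_sE : popc 24 (sE 0) = 5 ∧ popc 24 (sE 1) = 4 ∧ popc 24 (sE 2) = 3 ∧
    popc 24 (sE 3) = 2 := by decide +kernel

theorem s_card (k : ℕ) (hk : k < 4) :
    Nat.card (conSub [dsq, pm, ostar] (sFs k)) =
      popc 24 (sE k) * Nat.card (conSub [dsq, pm, ostar] (sFs (k + 1))) := by
  have e : ∀ k, k < 4 → sB k :: sFs k = sFs (k + 1) := by decide
  have h := level_cardC 32 _ _ _ _ _ _ (s_ok k hk)
  rw [e k hk] at h
  exact h

/-- Five points of the dodecad of squares. -/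
def x5 : Fin 5 ↪ GolayPt := ⟨fun i => ptN (![0, 2, 3, 6, 8] i), by decide⟩

theorem conSub_four : conSub [dsq, pm, ostar] (sFs 4) = ⊥ := by
  rw [eq_bot_iff]
  intro g hg
  rw [Subgroup.mem_bot]
  apply dodecad_stab_unique Spor.squareDodecad squareDodecad_mem x5 _ g hg.1
  · exact (stabM_dsq_iff g).1 (hg.2.1 dsq (by simp))
  · intro i
    apply hg.2.2
    fin_cases i <;> simp [sFs]
  · intro i
    rw [← maskFS_dsq, mem_maskFS]
    fin_cases i <;> decide

theorem card_base : Nat.card (conSub [dsq, pm, ostar] (sFs 0)) = 120 := by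
  have h0 := s_card 0 (by norm_num)
  have h1 := s_card 1 (by norm_num)
  have h2 := s_card 2 (by norm_num)
  have h3 := s_card 3 (by norm_num)
  rw [popc_sE.1] at h0
  rw [popc_sE.2.1] at h1
  rw [popc_sE.2.2.1] at h2
  rw [popc_sE.2.2.2] at h3
  simp only [Nat.reduceAdd] at h0 h1 h2 h3
  have h4 : Nat.card (conSub [dsq, pm, ostar] (sFs 4)) = 1 := by
    rw [conSub_four]
    exact Subgroup.card_bot
  rw [h0, h1, h2, h3, h4]

theorem ostar_unique : ∀ c < 4096, (popc 24 (encMask c) = 8 ∧ (encMask c).testBit 0 = true ∧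
    pm &&& encMask c = pm ∧ popc 24 (dsq &&& encMask c) = 6) → encMask c = ostar := by
  apply forall_lt_4096
  decide +kernel

theorem ostar_mem : maskFS ostar ∈ octads := by
  have h : ostar = encMask 0x1ed := by decide +kernel
  rw [h]
  exact maskFS_encMask_mem_octads _ (by norm_num) (by decide +kernel)

theorem maskFS_pm : maskFS pm = {ptN 5, ptN 7} := by
  have h : pm = 1 <<< 5 ||| 1 <<< 7 := by decide
  rw [h, maskFS_or, maskFS_bit 5 (by norm_num), maskFS_bit 7 (by norm_num)]
  rfl

/-- The octad `ostar` is mapped to itself by the base group. -/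
theorem stabM_ostar {g : Equiv.Perm GolayPt} (hg : g ∈ conSub [dsq, pm] [0]) : StabM g ostar := by
  unfold StabM
  obtain ⟨c, hc, hp, e⟩ := exists_code_of_smul_octad hg.1 ostar_mem
  have hd : g • maskFS dsq = maskFS dsq := hg.2.1 dsq (by simp)
  have hpm : g • maskFS pm = maskFS pm := hg.2.1 pm (by simp)
  have h0 : g (ptN 0) = ptN 0 := hg.2.2 0 (by simp)
  have hlt : ostar < 2 ^ 24 := by decide
  have key : encMask c = ostar := by
    apply ostar_unique c hc
    refine ⟨hp, ?_, ?_, ?_⟩
    · rw [← e, ← ptN_mem_iff_testBit 0 (by norm_num), ← h0, apply_mem_smul_iff, mem_maskFS,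
        gEquiv_ptN_val 0 (by norm_num)]
      decide
    · rw [← e]
      have hsub : maskFS pm ⊆ g • maskFS ostar := by
        rw [← hpm]
        apply Finset.smul_finset_subset_smul_finset
        intro x hx
        rw [mem_maskFS] at hx ⊢
        have h2 : pm &&& ostar = pm := by decide
        rw [← h2, Nat.testBit_and, Bool.and_eq_true] at hx
        exact hx.2
      have : maskFS pm ∩ g • maskFS ostar = maskFS pm := Finset.inter_eq_left.2 hsub
      have h3 := congrArg fsMask this
      rw [fsMask_inter, fsMask_maskFS pm (by decide)] at h3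
      exact h3
    · rw [← e, ← card_maskFS_inter dsq (by decide), ← hd, card_smul_inter,
        card_maskFS_inter dsq (by decide), fsMask_maskFS ostar hlt]
      decide +kernel
  apply fsMask_injective
  rw [e, key, fsMask_maskFS ostar hlt]

theorem conSub_eq : conSub [dsq, pm] [0] = conSub [dsq, pm, ostar] (sFs 0) := by
  ext g
  constructor
  · intro hg
    refine ⟨hg.1, fun D hD => ?_, hg.2.2⟩
    simp only [List.mem_cons, List.not_mem_nil, or_false] at hD
    rcases hD with rfl | rfl | rfl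
    · exact hg.2.1 dsq (by simp)
    · exact hg.2.1 pm (by simp)
    · exact stabM_ostar hg
  · intro hg
    exact ⟨hg.1, fun D hD => hg.2.1 D (by
      simp only [List.mem_cons, List.not_mem_nil, or_false] at hD ⊢
      rcases hD with rfl | rfl
      · exact Or.inl rfl
      · exact Or.inr (Or.inl rfl)), hg.2.2⟩


/-- In the 12-point action of the smallest Mathieu group the setwise stabiliser of a pair is isomorphic to the symmetric group of degree 5. -/
theorem result (d : Finset Cfsg.GolayPt) (hd : d ∈ Cfsg.dodecads) (p q q' : Cfsg.GolayPt) (hp : p ∈ d) (hq : q ∉ d) (hq' : q' ∉ d) (hqq' : q ≠ q') : Nonempty (↥(MulAction.stabilizer Cfsg.M24 d ⊓ MulAction.stabilizer Cfsg.M24 p ⊓ MulAction.stabilizer Cfsg.M24 ({q, q'} : Finset Cfsg.GolayPt)) ≃* Equiv.Perm (Fin 5)) := by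
  classical
  have h5 : ptN 5 ∉ Spor.squareDodecad := by
    rw [← maskFS_dsq, mem_maskFS, gEquiv_ptN_val 5 (by norm_num)]
    decide
  have h7 : ptN 7 ∉ Spor.squareDodecad := by
    rw [← maskFS_dsq, mem_maskFS, gEquiv_ptN_val 7 (by norm_num)]
    decide
  have h57 : ptN 5 ≠ ptN 7 := by decide
  -- move the base configuration to the given one
  obtain ⟨k, hk, hkd, hk0, hk5, hk7⟩ : ∃ k ∈ M24, k • maskFS dsq = d ∧ k (ptN 0) = p ∧
      k (ptN 5) = q ∧ k (ptN 7) = q' := by
    obtain ⟨k₁, hk₁, hk₁d, hk₁p⟩ := exists_map_dsq_in d hd p hp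
    have hx5 : k₁ (ptN 5) ∉ d := by
      rw [← hk₁d, apply_mem_smul_iff]
      exact h5
    have hx7 : k₁ (ptN 7) ∉ d := by
      rw [← hk₁d, apply_mem_smul_iff]
      exact h7
    obtain ⟨g, hg, hgd, hgp, hgx⟩ := dodecad_pt_stab_trans (n := 2) (by norm_num) d hd p hp
      ⟨![k₁ (ptN 5), k₁ (ptN 7)], by
        intro i j h
        fin_cases i <;> fin_cases j <;> simp at h ⊢
        · exact absurd h h57
        · exact absurd h.symm h57⟩
      ⟨![q, q'], by
        intro i j h
        fin_cases i <;> fin_cases j <;> simp at h ⊢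
        · exact absurd h hqq'
        · exact absurd h.symm hqq'⟩
      (fun i => by fin_cases i <;> simp <;> assumption)
      (fun i => by fin_cases i <;> simp <;> assumption)
    refine ⟨g * k₁, M24.mul_mem hg hk₁, ?_, ?_, hgx 0, hgx 1⟩
    · rw [maskFS_dsq, mul_smul, hk₁d, hgd]
    · rw [Equiv.Perm.mul_apply, hk₁p, hgp]
  have hkpm : k • maskFS pm = {q, q'} := by
    rw [maskFS_pm, Finset.smul_finset_insert, Finset.smul_finset_singleton, smul_perm_point,
      smul_perm_point, hk5, hk7]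
  have hK : ∀ x : ↥M24, x ∈ (MulAction.stabilizer Cfsg.M24 d ⊓ MulAction.stabilizer Cfsg.M24 p ⊓
      MulAction.stabilizer Cfsg.M24 ({q, q'} : Finset Cfsg.GolayPt)) ↔
      (∀ D ∈ [dsq, pm], (x : Equiv.Perm GolayPt) • (k • maskFS D) = k • maskFS D) ∧
        ∀ i ∈ [0], (x : Equiv.Perm GolayPt) (k (ptN i)) = k (ptN i) := by
    intro x
    simp only [Subgroup.mem_inf, MulAction.mem_stabilizer_iff, List.mem_cons, List.not_mem_nil,
      or_false, forall_eq_or_imp, forall_eq, hkd, hkpm, hk0]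
    constructor
    · rintro ⟨⟨h1, h2⟩, h3⟩
      exact ⟨⟨h1, h3⟩, h2⟩
    · rintro ⟨⟨h1, h3⟩, h2⟩
      exact ⟨⟨h1, h2⟩, h3⟩
  let φ := conSubMulEquiv hk _ hK
  have hiso : Nonempty (↥(conSub [dsq, pm, ostar] (sFs 0)) ≃* Equiv.Perm (Fin 5)) := by
    apply nonempty_mulEquiv_perm_of_card (conSub [dsq, pm, ostar] (sFs 0))
      (maskFS (ostar &&& dsq &&& (1 <<< 0 ^^^ 0xFFFFFF))) 5
    · rw [card_maskFS _ (by decide)]
      decide +kernel
    · intro g hg
      exact ((hg.2.1 ostar (by simp)).and (hg.2.1 dsq (by simp))).and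
        (stabM_bit_of_fixed (by norm_num) (hg.2.2 0 (by simp [sFs]))).compl
    · intro g hg hfix
      have : g ∈ conSub [dsq, pm, ostar] (sFs 4) :=
        conSub_fixes_of_forall' (E := ostar &&& dsq &&& (1 <<< 0 ^^^ 0xFFFFFF)) hg (by decide) hfix
      rw [conSub_four, Subgroup.mem_bot] at this
      exact this
    · rw [card_base]
      rfl
  obtain ⟨ψ⟩ := hiso
  exact ⟨(φ.trans (MulEquiv.subgroupCongr conSub_eq)).trans ψ⟩

end Cfsg.Agent.S1602
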