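import Cfsg.Statements.S1603
import Cfsg.Agent.Lib.Helper21.M11Cent

set_option autoImplicit false
open scoped Pointwise
open Cfsg

namespace Cfsg.Agent.S1603

open Cfsg.Agent.Lib.Helper21 Cfsg.Agent.Lib.Helper21.M11Cent

/-- Involution centralisers in the smallest Mathieu group are isomorphic to GL(2, 3). -/
theorem result (d : Finset Cfsg.GolayPt) (hd : d ∈ Cfsg.dodecads) (p : Cfsg.GolayPt) (hp : p ∈ d) (x : ↥(MulAction.stabilizer Cfsg.M24 d ⊓ MulAction.stabilizer Cfsg.M24 p)) (hx : orderOf x = 2) : Nonempty (↥(Subgroup.centralizer ({x} : Set ↥(MulAction.stabilizer Cfsg.M24 d ⊓ MulAction.stabilizer Cfsg.M24 p))) ≃* GL (Fin 2) (ZMod 3)) := by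
  classical
  obtain ⟨k, hk, hkd, hk0⟩ := exists_map_dsq_in d hd p hp
  have hK : ∀ g : ↥M24, g ∈ (MulAction.stabilizer Cfsg.M24 d ⊓ MulAction.stabilizer Cfsg.M24 p) ↔
      (∀ D ∈ [dsq], (g : Equiv.Perm GolayPt) • (k • maskFS D) = k • maskFS D) ∧
        ∀ i ∈ [0], (g : Equiv.Perm GolayPt) (k (ptN i)) = k (ptN i) := by
    intro g
    simp only [Subgroup.mem_inf, MulAction.mem_stabilizer_iff, List.mem_cons, List.not_mem_nil,
      or_false, forall_eq, maskFS_dsq, hkd, hk0]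
    rfl
  let φ := conSubMulEquiv hk _ hK
  have hx' : orderOf (φ x) = 2 := by
    rw [MulEquiv.orderOf_eq]
    exact hx
  obtain ⟨ψ⟩ := main (φ x) hx'
  exact ⟨(centralizerCongr φ x).trans ψ⟩

end Cfsg.Agent.S1603
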