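import Cfsg.Statements.S1618
import Cfsg.Agent.S5560
import Cfsg.Agent.Lib.Helper20.Cores
import Cfsg.Agent.Lib.Helper20.PLocal
import Cfsg.Agent.Lib.Helper20.Fitting

set_option autoImplicit false
open Cfsg
open scoped commutatorElement

namespace Cfsg.Agent.S1618

/-- A group generated by a class of involutions whose pairwise products (of distinct members) have p-power order for a fixed odd prime p has nilpotent derived subgroup. -/
theorem result {G : Type*} [Group G] [Finite G] (p : ℕ) (hp : p.Prime) (hodd : p ≠ 2) {D : Set G} (hinv : ∀ d ∈ D, orderOf d = 2) (hconj : ∃ d ∈ D, D = conjugatesOf d) (hgen : Subgroup.closure D = ⊤) (hprod : ∀ x ∈ D, ∀ y ∈ D, x ≠ y → ∃ k : ℕ, orderOf (x * y) = p ^ k) : Group.IsNilpotent ↥(commutator G) := by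
  haveI : Fact p.Prime := ⟨hp⟩
  obtain ⟨d, hd, hD⟩ := hconj
  have hdo := hinv d hd
  have hprod' : ∀ a ∈ conjugatesOf d, ∀ b ∈ conjugatesOf d, ∃ k : ℕ, orderOf (a * b) = p ^ k := by
    intro a ha b hb
    rw [← hD] at ha hb
    by_cases hab : a = b
    · refine ⟨0, ?_⟩
      rw [hab, pow_zero, orderOf_eq_one_iff]
      have h1 := hinv b hb
      rw [← pow_two, ← h1, pow_orderOf_eq_one]
    · exact hprod a ha b hb hab
  have hcore := Cfsg.Agent.S5560.result hp hodd d hdo hprod'
  have hNn : (Cfsg.pCore p G).Normal := Cfsg.Agent.Lib.Helper20.pCore_normal' p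
  have hdd : d ∈ conjugatesOf d := mem_conjugatesOf_self
  -- the group is generated by the core and d
  have htop : Cfsg.pCore p G ⊔ Subgroup.zpowers d = ⊤ := by
    rw [eq_top_iff, ← hgen, Subgroup.closure_le]
    intro a ha
    rw [hD] at ha
    have h1 : a * d ∈ Cfsg.pCore p G := hcore a ha d hdd
    have h2 : a = (a * d) * d⁻¹ := by group
    rw [SetLike.mem_coe, h2]
    exact Subgroup.mul_mem _ (Subgroup.mem_sup_left h1)
      (Subgroup.mem_sup_right (Subgroup.inv_mem _ (Subgroup.mem_zpowers d)))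
  have hzp : ∀ g : G, ∃ i : ℤ, (QuotientGroup.mk' (Cfsg.pCore p G)) g =
      ((QuotientGroup.mk' (Cfsg.pCore p G)) d) ^ i := by
    intro g
    have hg : g ∈ Cfsg.pCore p G ⊔ Subgroup.zpowers d := by rw [htop]; trivial
    rw [Subgroup.mem_sup_of_normal_left] at hg
    obtain ⟨n, hn, z, hz, rfl⟩ := hg
    obtain ⟨i, rfl⟩ := Subgroup.mem_zpowers_iff.mp hz
    refine ⟨i, ?_⟩
    have h1 : (QuotientGroup.mk' (Cfsg.pCore p G)) n = 1 := by
      rw [QuotientGroup.mk'_apply, QuotientGroup.eq_one_iff]; exact hn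
    rw [map_mul, h1, one_mul, map_zpow]
  have hle : commutator G ≤ Cfsg.pCore p G := by
    rw [commutator_def, Subgroup.commutator_le]
    intro g _ h _
    obtain ⟨i, hi⟩ := hzp g
    obtain ⟨j, hj⟩ := hzp h
    have h1 : (QuotientGroup.mk' (Cfsg.pCore p G)) ⁅g, h⁆ = 1 := by
      rw [map_commutatorElement, hi, hj, commutatorElement_eq_one_iff_commute]
      exact (Commute.refl _).zpow_zpow i j
    rw [QuotientGroup.mk'_apply, QuotientGroup.eq_one_iff] at h1
    exact h1
  have hpg : IsPGroup p ↥(commutator G) :=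
    (Cfsg.Agent.Lib.Helper20.pCore_isPGroup' p).to_le hle
  exact hpg.isNilpotent

end Cfsg.Agent.S1618
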