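import Cfsg.Statements.S2644
import Mathlib
import Cfsg.Agent.Lib.Helper27.UIso
import Cfsg.Agent.S0780

set_option autoImplicit false
open Cfsg

namespace Cfsg.Agent.S2644

open Cfsg.Agent.Lib.Helper27.Unitary Cfsg.Agent.S0780 Matrix

variable {F : Type*} [Field F] [Fintype F] {q n : ℕ}

/-- A unitary matrix which is a transvection is a unitary transvection. -/
theorem exists_tv (hF : Fintype.card F = q ^ 2) (g : GL (Fin n) F) (hg : g ∈ GU n F q)
    (htr : Cfsg.IsTransvection (g : Matrix (Fin n) (Fin n) F)) :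
    ∃ (a : Fin n → F) (c : F), a ≠ 0 ∧ hermForm n F q a a = 0 ∧ c ≠ 0 ∧ c + c ^ q = 0 ∧
      g = tv q a c := by
  obtain ⟨hrank, hsq⟩ := htr
  obtain ⟨N, hN⟩ : ∃ N : Matrix (Fin n) (Fin n) F, N = (g : Matrix (Fin n) (Fin n) F) - 1 :=
    ⟨_, rfl⟩
  rw [← hN] at hrank hsq
  have hNx : ∀ x, N *ᵥ x = gact g x - x := by
    intro x
    rw [hN, Matrix.sub_mulVec, Matrix.one_mulVec]
    rfl
  have hgx : ∀ x, gact g x = x + N *ᵥ x := by
    intro x
    rw [hNx]; abel
  have hNN : ∀ x, N *ᵥ (N *ᵥ x) = 0 := by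
    intro x
    rw [Matrix.mulVec_mulVec, hsq, Matrix.zero_mulVec]
  -- unitarity
  have huni : ∀ x y, hermForm n F q (N *ᵥ x) y + hermForm n F q x (N *ᵥ y) +
      hermForm n F q (N *ᵥ x) (N *ᵥ y) = 0 := by
    intro x y
    have h := GU_preserves hg x y
    rw [hgx, hgx, hf_add_left, hf_add_right hF, hf_add_right hF] at h
    linear_combination h
  -- the range is a line
  unfold Matrix.rank at hrank
  obtain ⟨⟨a, haR⟩, ha0, hspan⟩ := finrank_eq_one_iff'.mp hrank
  have ha0' : a ≠ 0 := fun h => ha0 (Subtype.ext h)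
  obtain ⟨x₀, hx₀⟩ := LinearMap.mem_range.mp haR
  have hx₀' : N *ᵥ x₀ = a := hx₀
  have hNa : N *ᵥ a = 0 := by rw [← hx₀', hNN]
  have hline : ∀ x, ∃ r : F, N *ᵥ x = r • a := by
    intro x
    obtain ⟨r, hr⟩ := hspan ⟨N *ᵥ x, LinearMap.mem_range.mpr ⟨x, rfl⟩⟩
    exact ⟨r, (congrArg Subtype.val hr).symm⟩
  -- the kernel is the orthogonal complement of `a`
  have hker_le : LinearMap.ker N.mulVecLin ≤ uperp q (Submodule.span F {a}) := by
    intro y hy
    have hy0 : N *ᵥ y = 0 := LinearMap.mem_ker.mp hy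
    have h := huni x₀ y
    rw [hy0, hf_zero_right hF, hf_zero_right hF, add_zero, add_zero, hx₀'] at h
    rw [mem_uperp]
    intro w hw
    obtain ⟨r, rfl⟩ := Submodule.mem_span_singleton.mp hw
    rw [hf_smul_right, hf_eq_zero_swap hF h, mul_zero]
  have hker_dim : Module.finrank F (LinearMap.ker N.mulVecLin) = n - 1 := by
    have h := LinearMap.finrank_range_add_finrank_ker N.mulVecLin
    rw [hrank, Module.finrank_fin_fun] at h
    omega
  have hker : LinearMap.ker N.mulVecLin = uperp q (Submodule.span F {a}) := by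
    apply Submodule.eq_of_le_of_finrank_eq hker_le
    rw [hker_dim, finrank_uperp hF, finrank_span_singleton ha0']
  have haa : hermForm n F q a a = 0 := by
    have : a ∈ uperp q (Submodule.span F {a}) := by
      rw [← hker]
      exact LinearMap.mem_ker.mpr hNa
    exact this a (Submodule.mem_span_singleton_self a)
  obtain ⟨f, hp⟩ := exists_hyp hF a ha0' haa
  obtain ⟨c, hc⟩ := hline f
  have hNform : ∀ x, N *ᵥ x = (c * hermForm n F q x a) • a := by
    intro x
    have hx' : x - hermForm n F q x a • f ∈ LinearMap.ker N.mulVecLin := by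
      rw [hker, mem_uperp]
      intro w hw
      obtain ⟨r, rfl⟩ := Submodule.mem_span_singleton.mp hw
      rw [hf_smul_right, hf_sub_left, hf_smul_left, hp.fe hF, mul_one, sub_self, mul_zero]
    have h1 : N *ᵥ (x - hermForm n F q x a • f) = 0 := LinearMap.mem_ker.mp hx'
    rw [Matrix.mulVec_sub, Matrix.mulVec_smul, hc, sub_eq_zero] at h1
    rw [h1, smul_smul, mul_comm]
  have hc0 : c ≠ 0 := by
    rintro rfl
    apply ha0'
    rw [← hx₀', hNform, zero_mul, zero_smul]
  have hcc : c + c ^ q = 0 := by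
    have h := huni f f
    rw [hc, hf_smul_left, hf_smul_right, hf_smul_left, hf_smul_right, hp.ef, hp.fe hF, haa] at h
    linear_combination h
  refine ⟨a, c, ha0', haa, hc0, hcc, ?_⟩
  apply gact_ext
  intro x
  rw [hgx, hNform, tv_gact haa]

/-- In the special unitary group SU_n(q) with n ≥ 3 (isometries of Σ u_i v_i^q of determinant one over the field with q² elements), any two transvections (elements t with t − 1 of rank one and square zero) are conjugate. -/
theorem result {K : Type*} [Field K] [Fintype K] {q n : ℕ} (hK : Fintype.card K = q ^ 2) (hn : 3 ≤ n) (s t : ↥(Cfsg.SU n K q)) (hs : Cfsg.IsTransvection (((s : GL (Fin n) K) : Matrix (Fin n) (Fin n) K))) (ht : Cfsg.IsTransvection (((t : GL (Fin n) K) : Matrix (Fin n) (Fin n) K))) : IsConj s t := by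
  have hsU : phi n K q s ∈ GU n K q := ((mem_SUg_iff _).mp (phi_mem s)).1
  have htU : phi n K q t ∈ GU n K q := ((mem_SUg_iff _).mp (phi_mem t)).1
  obtain ⟨a, c, ha0, haa, hc0, hcc, hsa⟩ := exists_tv hK (phi n K q s) hsU hs
  obtain ⟨b, d, hb0, hbb, hd0, hdd, htb⟩ := exists_tv hK (phi n K q t) htU ht
  have hfix : (d / c) ^ q = d / c := by
    have h1 : c ^ q = -c := by linear_combination hcc
    have h2 : d ^ q = -d := by linear_combination hdd
    rw [cj_div, h1, h2, neg_div_neg_eq]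
  obtain ⟨β, hβ⟩ := nm_surj hK (d / c) hfix
  have hβ0 : β ≠ 0 := by
    rintro rfl
    rw [zero_mul] at hβ
    exact div_ne_zero hd0 hc0 hβ.symm
  obtain ⟨g, hg, hga⟩ := su_trans1 hK hn a (β • b) ha0 haa (smul_ne_zero hβ0 hb0)
    (by rw [hf_smul_self, hbb, mul_zero])
  obtain ⟨A, hA⟩ := exists_lift hg
  rw [isConj_iff]
  refine ⟨A, ?_⟩
  apply phi_injective
  rw [map_mul, map_mul, map_inv, hA, hsa, htb, conj_tv hK ((mem_SUg_iff _).mp hg).1 haa, hga,
    tv_smul hK hbb, hβ, div_mul_cancel₀ d hc0]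

end Cfsg.Agent.S2644
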