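import Cfsg.Statements.S1631
import Mathlib
import Cfsg.Agent.S2644
import Cfsg.Agent.S0780
import Cfsg.Agent.Lib.Helper27.UGen2
import Cfsg.Agent.Lib.Helper27.UIso
import Cfsg.Agent.Lib.Helper27.UIwasawa
import Cfsg.Agent.Lib.Helper27.SympRankOne

set_option autoImplicit false
open scoped MatrixGroups
open Cfsg

namespace Cfsg.Agent.S1631

open Cfsg.Agent.Lib.Helper27.Unitary Cfsg.Agent.S0780 Matrix

variable {F : Type} [Field F] [Fintype F] [DecidableEq F] {n : ℕ}

/-! ### The field with four elements -/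

theorem two_eq_zero (hF4 : Fintype.card F = 4) : (2 : F) = 0 := by
  have h1 : Fintype.card F • (1 : F) = 0 := card_nsmul_eq_zero
  rw [hF4, nsmul_eq_mul, mul_one] at h1
  have h2 : (2 : F) * 2 = 0 := by
    have : ((4 : ℕ) : F) = 2 * 2 := by norm_num
    rw [← this]
    exact h1
  exact mul_self_eq_zero.mp h2

theorem add_self_zero (hF4 : Fintype.card F = 4) (x : F) : x + x = 0 := by
  rw [← two_mul, two_eq_zero hF4, zero_mul]

theorem cube_eq_one (hF4 : Fintype.card F = 4) (β : F) (hβ : β ≠ 0) : β * β ^ 2 = 1 := by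
  have h := FiniteField.pow_card_sub_one_eq_one β hβ
  rw [hF4] at h
  rw [← pow_succ']
  exact h

theorem hF2 (hF4 : Fintype.card F = 4) : Fintype.card F = 2 ^ 2 := by
  rw [hF4]
  norm_num

theorem c_eq_one (hF4 : Fintype.card F = 4) (c : F) (hc0 : c ≠ 0) (hc : c + c ^ 2 = 0) :
    c = 1 := by
  have h1 : c * (1 + c) = 0 := by linear_combination hc
  have h2 : 1 + c = 0 := by
    rcases mul_eq_zero.mp h1 with h | h
    · exact absurd h hc0
    · exact h
  have h3 := add_self_zero hF4 (1 : F)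
  linear_combination h2 - h3

/-! ### Transvections -/

theorem tv_ne_one (hF4 : Fintype.card F = 4) (a : Fin n → F) (ha0 : a ≠ 0)
    (ha : hermForm n F 2 a a = 0) : tv 2 a (1 : F) ≠ 1 := by
  intro h
  apply ha0
  apply hf_nondeg' (hF2 hF4)
  intro x
  have h1 : gact (tv 2 a (1 : F)) x = x := by rw [h, gact_one]
  rw [tv_gact ha, one_mul] at h1
  have h2 : hermForm n F 2 x a • a = 0 := by
    have := h1
    rwa [add_eq_left] at this
  rcases smul_eq_zero.mp h2 with h3 | h3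
  · exact h3
  · exact absurd h3 ha0

theorem tv_sq (hF4 : Fintype.card F = 4) (a : Fin n → F) (ha : hermForm n F 2 a a = 0) :
    tv 2 a (1 : F) * tv 2 a 1 = 1 := by
  rw [tv_mul (hF2 hF4) ha, add_self_zero hF4, tv_zero_right]

theorem rank_tv (hF4 : Fintype.card F = 4) (a : Fin n → F) (ha0 : a ≠ 0)
    (ha : hermForm n F 2 a a = 0) :
    ((tv 2 a (1 : F) : Matrix (Fin n) (Fin n) F) - 1).rank = 1 := by
  apply le_antisymm
  · rw [tv_coe ha]
    unfold unitaryTransvection
    rw [add_sub_cancel_left, one_smul]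
    exact Matrix.rank_vecMulVec_le _ _
  · rw [Nat.one_le_iff_ne_zero]
    intro h0
    unfold Matrix.rank at h0
    rw [Submodule.finrank_eq_zero, LinearMap.range_eq_bot] at h0
    have h1 : (tv 2 a (1 : F) : Matrix (Fin n) (Fin n) F) - 1 = 0 := by
      ext i j
      have := congrFun (LinearMap.congr_fun h0 (Pi.single j 1)) i
      rw [Matrix.mulVecLin_apply, Matrix.mulVec_single_one] at this
      exact this
    apply tv_ne_one hF4 a ha0 ha
    apply Units.ext
    exact sub_eq_zero.mp h1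

/-- An element of `SU` with `g - 1` of rank one is a transvection. -/
theorem exists_tv_of_rank (hF4 : Fintype.card F = 4) (g : GL (Fin n) F)
    (hg : g ∈ GU n F 2 ⊓ Cfsg.Geo.specialLinear (Fin n) F)
    (h : ((g : Matrix (Fin n) (Fin n) F) - 1).rank = 1) :
    ∃ a : Fin n → F, a ≠ 0 ∧ hermForm n F 2 a a = 0 ∧ g = tv 2 a 1 := by
  rw [mem_SUg_iff] at hg
  obtain ⟨a, b, ha0, hb0, hM⟩ :=
    Cfsg.Agent.Lib.Helper27.SympTransv.exists_vecMulVec_of_rank_one _ h
  have hgm : (g : Matrix (Fin n) (Fin n) F) = 1 + Matrix.vecMulVec a b := by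
    rw [← hM]
    abel
  have hdet := hg.2
  rw [hgm, Matrix.vecMulVec_eq Unit, Matrix.det_one_add_replicateCol_mul_replicateRow] at hdet
  have hba : b ⬝ᵥ a = 0 := by linear_combination hdet
  have hsq : ((g : Matrix (Fin n) (Fin n) F) - 1) * ((g : Matrix (Fin n) (Fin n) F) - 1) = 0 := by
    rw [hM, Matrix.vecMulVec_mul_vecMulVec, hba, zero_smul]
    ext i j
    simp [Matrix.vecMulVec_apply]
  obtain ⟨v, c, hv0, hv, hc0, hc, hgv⟩ :=
    Cfsg.Agent.S2644.exists_tv (hF2 hF4) g hg.1 ⟨h, hsq⟩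
  refine ⟨v, hv0, hv, ?_⟩
  rw [hgv, c_eq_one hF4 c hc0 hc]

theorem tv_comm (hF4 : Fintype.card F = 4) (a b : Fin n → F)
    (ha : hermForm n F 2 a a = 0) (hb : hermForm n F 2 b b = 0)
    (hab : hermForm n F 2 b a = 0) :
    tv 2 a (1 : F) * tv 2 b 1 = tv 2 b 1 * tv 2 a 1 := by
  have hF := hF2 hF4
  have h1 := conj_tv hF (tv_mem_GU hF a (c := 1) (by rw [one_pow]; exact add_self_zero hF4 1)) hb
    (1 : F)
  rw [tv_gact ha, hab, mul_zero, zero_smul, add_zero] at h1
  calc tv 2 a (1 : F) * tv 2 b 1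
      = (tv 2 a (1 : F) * tv 2 b 1 * (tv 2 a (1 : F))⁻¹) * tv 2 a 1 := by group
    _ = tv 2 b 1 * tv 2 a 1 := by rw [h1]

theorem tv_braid (hF4 : Fintype.card F = 4) (a b : Fin n → F)
    (ha : hermForm n F 2 a a = 0) (hb : hermForm n F 2 b b = 0)
    (hab : hermForm n F 2 b a ≠ 0) :
    tv 2 a (1 : F) * tv 2 b 1 * tv 2 a 1 = tv 2 b 1 * tv 2 a 1 * tv 2 b 1 := by
  have hF := hF2 hF4
  have h11 : (1 : F) + 1 ^ 2 = 0 := by rw [one_pow]; exact add_self_zero hF4 1
  have hda := tv_mem_GU hF a (c := 1) h11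
  have hdb := tv_mem_GU hF b (c := 1) h11
  have hainv : (tv 2 a (1 : F))⁻¹ = tv 2 a 1 := inv_eq_of_mul_eq_one_left (tv_sq hF4 a ha)
  have hbinv : (tv 2 b (1 : F))⁻¹ = tv 2 b 1 := inv_eq_of_mul_eq_one_left (tv_sq hF4 b hb)
  have h1 := conj_tv hF hda hb (1 : F)
  have h3 := conj_tv hF hdb ha (1 : F)
  rw [hainv] at h1
  rw [hbinv] at h3
  rw [h1, h3]
  obtain ⟨β, hβ⟩ : ∃ β, β = hermForm n F 2 b a := ⟨_, rfl⟩
  have hβ0 : β ≠ 0 := by rw [hβ]; exact hab
  have hβ' : hermForm n F 2 a b = β ^ 2 := by rw [hβ, ← hf_swap hF]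
  have hiso : hermForm n F 2 (gact (tv 2 b (1 : F)) a) (gact (tv 2 b (1 : F)) a) = 0 := by
    rw [GU_preserves hdb, ha]
  have hvec : gact (tv 2 a (1 : F)) b = β • gact (tv 2 b (1 : F)) a := by
    rw [tv_gact ha, tv_gact hb, one_mul, one_mul, ← hβ, hβ', smul_add, smul_smul,
      cube_eq_one hF4 β hβ0, one_smul, add_comm]
  have hiso' : hermForm n F 2 (gact (tv 2 a (1 : F)) b) (gact (tv 2 a (1 : F)) b) = 0 := by
    rw [GU_preserves hda, hb]
  have key : tv 2 (gact (tv 2 a (1 : F)) b) (1 : F) = tv 2 (β • gact (tv 2 b (1 : F)) a) 1 := by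
    rw [hvec]
  rw [key, tv_smul hF hiso, cube_eq_one hF4 β hβ0, one_mul]

/-- The products of two transvections have order dividing 2 or 3. -/
theorem tv_three (hF4 : Fintype.card F = 4) (a b : Fin n → F)
    (ha : hermForm n F 2 a a = 0) (hb : hermForm n F 2 b b = 0) :
    (tv 2 a (1 : F) * tv 2 b 1) ^ 2 = 1 ∨ (tv 2 a (1 : F) * tv 2 b 1) ^ 3 = 1 := by
  obtain ⟨d, hd⟩ : ∃ d, d = tv 2 a (1 : F) := ⟨_, rfl⟩
  obtain ⟨e, he⟩ : ∃ e, e = tv 2 b (1 : F) := ⟨_, rfl⟩
  have hdd : d * d = 1 := by rw [hd]; exact tv_sq hF4 a ha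
  have hee : e * e = 1 := by rw [he]; exact tv_sq hF4 b hb
  rw [← hd, ← he]
  by_cases hab : hermForm n F 2 b a = 0
  · left
    have hc : d * e = e * d := by rw [hd, he]; exact tv_comm hF4 a b ha hb hab
    calc (d * e) ^ 2 = d * (e * d) * e := by rw [pow_two]; simp only [mul_assoc]
      _ = d * (d * e) * e := by rw [hc]
      _ = (d * d) * (e * e) := by simp only [mul_assoc]
      _ = 1 := by rw [hdd, hee, one_mul]
  · right
    have hbr : d * e * d = e * d * e := by rw [hd, he]; exact tv_braid hF4 a b ha hb hab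
    calc (d * e) ^ 3 = (d * e * d) * (e * d * e) := by
          rw [pow_succ, pow_two]; simp only [mul_assoc]
      _ = (e * d * e) * (e * d * e) := by rw [hbr]
      _ = e * d * (e * e) * d * e := by simp only [mul_assoc]
      _ = e * (d * d) * e := by rw [hee, mul_one]; simp only [mul_assoc]
      _ = 1 := by rw [hdd, mul_one, hee]

/-- Membership in the class. -/
theorem mem_D_iff (hF4 : Fintype.card F = 4) (x : ↥(Cfsg.SU n F 2)) :
    (((x : Matrix.SpecialLinearGroup (Fin n) F) : Matrix (Fin n) (Fin n) F) - 1).rank = 1 ↔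
      ∃ a : Fin n → F, a ≠ 0 ∧ hermForm n F 2 a a = 0 ∧ phi n F 2 x = tv 2 a 1 := by
  constructor
  · intro h
    exact exists_tv_of_rank hF4 (phi n F 2 x) (phi_mem x) h
  · rintro ⟨a, ha0, ha, hx⟩
    have := rank_tv hF4 a ha0 ha
    rw [← hx] at this
    exact this

/-- The unitary transvections of SU(n, 2), n ≥ 4, form a generating conjugacy class of 3-transpositions. -/
theorem result (F : Type) [Field F] [Fintype F] [DecidableEq F] (hF : Fintype.card F = 4) (n : ℕ) (hn : 4 ≤ n) : Cfsg.IsThreeTranspositionClass {g : ↥(Cfsg.SU n F 2) | (((g : Matrix.SpecialLinearGroup (Fin n) F) : Matrix (Fin n) (Fin n) F) - 1).rank = 1} := by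
  have hF4 := hF
  have hF := hF2 hF4
  have h11 : (1 : F) + 1 ^ 2 = 0 := by rw [one_pow]; exact add_self_zero hF4 1
  refine ⟨⟨?_, ?_⟩, ?_, ?_⟩
  · intro d hd
    obtain ⟨a, ha0, ha, hda⟩ := (mem_D_iff hF4 d).mp hd
    apply orderOf_eq_prime
    · apply phi_injective
      rw [map_pow, hda, pow_two, tv_sq hF4 a ha, map_one]
    · intro h1
      apply tv_ne_one hF4 a ha0 ha
      rw [← hda, h1, map_one]
  · intro d hd e he
    obtain ⟨a, ha0, ha, hda⟩ := (mem_D_iff hF4 d).mp hd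
    obtain ⟨b, hb0, hb, heb⟩ := (mem_D_iff hF4 e).mp he
    rcases tv_three hF4 a b ha hb with h | h
    · left
      apply phi_injective
      rw [map_pow, map_mul, hda, heb, h, map_one]
    · right
      apply phi_injective
      rw [map_pow, map_mul, hda, heb, h, map_one]
  · obtain ⟨v0, hv00, hv0⟩ := exists_isotropic hF (by omega : 2 ≤ n)
    obtain ⟨d0, hd0⟩ := exists_lift (tv_mem_SUg hF v0 (c := 1) h11)
    refine ⟨d0, (mem_D_iff hF4 d0).mpr ⟨v0, hv00, hv0, hd0⟩, ?_⟩
    ext x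
    show _ ↔ IsConj d0 x
    rw [isConj_iff]
    constructor
    · intro hx
      obtain ⟨a, ha0, ha, hxa⟩ := (mem_D_iff hF4 x).mp hx
      obtain ⟨g, hg, hgv⟩ := su_trans1 hF (by omega) v0 a hv00 hv0 ha0 ha
      obtain ⟨s, hs⟩ := exists_lift hg
      refine ⟨s, ?_⟩
      apply phi_injective
      rw [map_mul, map_mul, map_inv, hs, hd0, conj_tv hF ((mem_SUg_iff g).mp hg).1 hv0, hgv, hxa]
    · rintro ⟨s, rfl⟩
      apply (mem_D_iff hF4 _).mpr
      have hsm := (mem_SUg_iff _).mp (phi_mem s)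
      refine ⟨gact (phi n F 2 s) v0, ?_, ?_, ?_⟩
      · intro h0
        apply hv00
        have hz : gact (phi n F 2 s) 0 = 0 := by
          unfold gact
          exact Matrix.mulVec_zero _
        exact gact_injective (phi n F 2 s) (h0.trans hz.symm)
      · rw [GU_preserves hsm.1, hv0]
      · rw [map_mul, map_mul, map_inv, hd0, conj_tv hF hsm.1 hv0]
  · rw [eq_top_iff]
    intro x _
    have hx : phi n F 2 x ∈ TW 2 (⊤ : Submodule F (Fin n → F)) := by
      rw [← SUg_eq_TW hF (by omega)]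
      exact phi_mem x
    have hle : TW 2 (⊤ : Submodule F (Fin n → F)) ≤
        (Subgroup.closure {g : ↥(Cfsg.SU n F 2) | (((g : Matrix.SpecialLinearGroup (Fin n) F) :
          Matrix (Fin n) (Fin n) F) - 1).rank = 1}).map (phi n F 2) := by
      unfold TW
      rw [Subgroup.closure_le]
      rintro g ⟨v, -, c, hv, hc, rfl⟩
      by_cases hc0 : c = 0
      · rw [hc0, tv_zero_right]
        exact one_mem _
      by_cases hv0 : v = 0
      · have h1 : tv 2 v c = 1 := by
          apply gact_ext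
          intro x
          rw [tv_gact hv, gact_one, hv0, smul_zero, add_zero]
        rw [h1]
        exact one_mem _
      rw [c_eq_one hF4 c hc0 hc]
      obtain ⟨y, hy⟩ := exists_lift (tv_mem_SUg hF v (c := 1) h11)
      exact ⟨y, Subgroup.subset_closure ((mem_D_iff hF4 y).mpr ⟨v, hv0, hv, hy⟩), hy⟩
    obtain ⟨y, hy, hyx⟩ := hle hx
    rw [← phi_injective hyx]
    exact hy

end Cfsg.Agent.S1631
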