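import Cfsg.Statements.S1634
import Mathlib
import Cfsg.Agent.Lib.Helper3.McLOrbit
-- import your own Cfsg.Agent.* helpers here

set_option autoImplicit false
open Cfsg

namespace Cfsg.Agent.S1634

open Cfsg.Agent.Lib.Helper3 Cfsg.Agent.Lib.Helper21 MulAction

/-- The McLaughlin group acts on 2025 points (minimal vectors orthogonal to v with customary inner product 2 with w) transitively with rank 4 and subdegrees 1, 330, 462, 1232. -/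
theorem result (v w : ↥Cfsg.leechLattice) (hv : Cfsg.sqNorm (v : Cfsg.GolayPt → ℤ) = 32) (hw : Cfsg.sqNorm (w : Cfsg.GolayPt → ℤ) = 32) (hvw : Cfsg.dotInt (v : Cfsg.GolayPt → ℤ) (w : Cfsg.GolayPt → ℤ) = -8) : {x : ↥Cfsg.leechLattice | Cfsg.sqNorm (x : Cfsg.GolayPt → ℤ) = 32 ∧ Cfsg.dotInt (v : Cfsg.GolayPt → ℤ) (x : Cfsg.GolayPt → ℤ) = 0 ∧ Cfsg.dotInt (w : Cfsg.GolayPt → ℤ) (x : Cfsg.GolayPt → ℤ) = 16}.ncard = 2025 ∧ (∀ x ∈ {x : ↥Cfsg.leechLattice | Cfsg.sqNorm (x : Cfsg.GolayPt → ℤ) = 32 ∧ Cfsg.dotInt (v : Cfsg.GolayPt → ℤ) (x : Cfsg.GolayPt → ℤ) = 0 ∧ Cfsg.dotInt (w : Cfsg.GolayPt → ℤ) (x : Cfsg.GolayPt → ℤ) = 16}, ∀ x' ∈ {x : ↥Cfsg.leechLattice | Cfsg.sqNorm (x : Cfsg.GolayPt → ℤ) = 32 ∧ Cfsg.dotInt (v : Cfsg.GolayPt → ℤ) (x : Cfsg.GolayPt → ℤ)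 = 0 ∧ Cfsg.dotInt (w : Cfsg.GolayPt → ℤ) (x : Cfsg.GolayPt → ℤ) = 16}, ∃ g : ↥Cfsg.Co0, g • v = v ∧ g • w = w ∧ g • x = x') ∧ ∀ x ∈ {x : ↥Cfsg.leechLattice | Cfsg.sqNorm (x : Cfsg.GolayPt → ℤ) = 32 ∧ Cfsg.dotInt (v : Cfsg.GolayPt → ℤ) (x : Cfsg.GolayPt → ℤ) = 0 ∧ Cfsg.dotInt (w : Cfsg.GolayPt → ℤ) (x : Cfsg.GolayPt → ℤ) = 16}, ∃ y₁ ∈ {x : ↥Cfsg.leechLattice | Cfsg.sqNorm (x : Cfsg.GolayPt → ℤ) = 32 ∧ Cfsg.dotInt (v : Cfsg.GolayPt → ℤ) (x : Cfsg.GolayPt → ℤ) = 0 ∧ Cfsg.dotInt (w : Cfsg.GolayPt → ℤ) (x : Cfsg.GolayPt → ℤ) = 16}, ∃ y₂ ∈ {x : ↥Cfsg.leechLattice | Cfsg.sqNorm (x : Cfsg.GolayPt → ℤ) = 32 ∧ Cfsg.dotInt (v : Cfsg.GolayPt → ℤ) (x : Cfsg.GolayPt → ℤ) = 0 ∧ Cfsg.dotInt (w : Cfsg.GolayPt → ℤ) (x : Cfsg.GolayPt → ℤ) = 16}, ∃ y₃ ∈ {x : ↥Cfsg.leechLattice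 | Cfsg.sqNorm (x : Cfsg.GolayPt → ℤ) = 32 ∧ Cfsg.dotInt (v : Cfsg.GolayPt → ℤ) (x : Cfsg.GolayPt → ℤ) = 0 ∧ Cfsg.dotInt (w : Cfsg.GolayPt → ℤ) (x : Cfsg.GolayPt → ℤ) = 16}, (MulAction.orbit ↥(MulAction.stabilizer ↥Cfsg.Co0 v ⊓ MulAction.stabilizer ↥Cfsg.Co0 w ⊓ MulAction.stabilizer ↥Cfsg.Co0 x) y₁).ncard = 330 ∧ (MulAction.orbit ↥(MulAction.stabilizer ↥Cfsg.Co0 v ⊓ MulAction.stabilizer ↥Cfsg.Co0 w ⊓ MulAction.stabilizer ↥Cfsg.Co0 x) y₂).ncard = 462 ∧ (MulAction.orbit ↥(MulAction.stabilizer ↥Cfsg.Co0 v ⊓ MulAction.stabilizer ↥Cfsg.Co0 w ⊓ MulAction.stabilizer ↥Cfsg.Co0 x) y₃).ncard = 1232 := by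
  refine ⟨Om_ncard v w hv hw hvw, Om_trans v w hv hw hvw, ?_⟩
  intro x hx
  obtain ⟨g0, g0v, g0w, g0x⟩ := to_std_mcl v w x hv hw hvw hx
  obtain ⟨z1, hz1⟩ : Y1.Nonempty := Set.nonempty_of_ncard_ne_zero (by rw [Y1_ncard]; norm_num)
  obtain ⟨z2, hz2⟩ : Y2.Nonempty := Set.nonempty_of_ncard_ne_zero (by rw [Y2_ncard]; norm_num)
  obtain ⟨z3, hz3⟩ : Y3.Nonempty := Set.nonempty_of_ncard_ne_zero (by rw [Y3_ncard]; norm_num)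
  have m1 : g0⁻¹ • z1 ∈ Dl g0 Y1 := ⟨z1, hz1, rfl⟩
  have m2 : g0⁻¹ • z2 ∈ Dl g0 Y2 := ⟨z2, hz2, rfl⟩
  have m3 : g0⁻¹ • z3 ∈ Dl g0 Y3 := ⟨z3, hz3, rfl⟩
  refine ⟨g0⁻¹ • z1, Dl_sub v w g0 g0v g0w Y1_sub m1, g0⁻¹ • z2, Dl_sub v w g0 g0v g0w Y2_sub m2,
    g0⁻¹ • z3, Dl_sub v w g0 g0v g0w Y3_sub m3, ?_, ?_, ?_⟩
  · rw [orbit_Dl v w x g0 g0v g0w g0x Y1_inv Y1_trans m1, Dl_ncard, Y1_ncard]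
  · rw [orbit_Dl v w x g0 g0v g0w g0x Y2_inv Y2_trans m2, Dl_ncard, Y2_ncard]
  · rw [orbit_Dl v w x g0 g0v g0w g0x Y3_inv Y3_trans m3, Dl_ncard, Y3_ncard]

end Cfsg.Agent.S1634
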