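import Cfsg.Statements.S1635
import Cfsg.Agent.Lib.Helper21.GolayCoset

set_option autoImplicit false
open scoped Pointwise
open Cfsg

namespace Cfsg.Agent.S1635

open Cfsg.Agent.Lib.Helper21

/-- Coset leaders of the length-24 code: a coset contains a unique word of weight ≤ 3, or else exactly six words of weight 4 and none lighter. -/
theorem result (w : Cfsg.GolayPt → ZMod 2) : ({v : Cfsg.GolayPt → ZMod 2 | hammingNorm v ≤ 4 ∧ w - v ∈ Cfsg.golayCode}.ncard = 1 ∧ ∃ v : Cfsg.GolayPt → ZMod 2, hammingNorm v ≤ 3 ∧ w - v ∈ Cfsg.golayCode) ∨ ({v : Cfsg.GolayPt → ZMod 2 | hammingNorm v ≤ 4 ∧ w - v ∈ Cfsg.golayCode}.ncard = 6 ∧ ∀ v : Cfsg.GolayPt → ZMod 2, w - v ∈ Cfsg.golayCode → hammingNorm v ≤ 4 → hammingNorm v = 4) := by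
  classical
  obtain ⟨v0, hv0, hv0C⟩ := exists_leader w
  have hdiff : ∀ v v' : GolayPt → ZMod 2, w - v ∈ golayCode → w - v' ∈ golayCode →
      v - v' ∈ golayCode := by
    intro v v' h h'
    have : v - v' = (w - v') - (w - v) := by abel
    rw [this]
    exact golayCode.sub_mem h' h
  by_cases h3 : ∃ v : GolayPt → ZMod 2, hammingNorm v ≤ 3 ∧ w - v ∈ golayCode
  · left
    refine ⟨?_, h3⟩
    obtain ⟨v, hv3, hvC⟩ := h3
    have : {v : GolayPt → ZMod 2 | hammingNorm v ≤ 4 ∧ w - v ∈ golayCode} = {v} := by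
      ext v'
      rw [Set.mem_ofPred_eq, Set.mem_singleton_iff]
      constructor
      · rintro ⟨h4, hC⟩
        rcases leader_pair v v' (by omega) h4 (hdiff v v' hvC hC) with h | ⟨h, -, -⟩
        · exact h.symm
        · omega
      · rintro rfl
        exact ⟨by omega, hvC⟩
    rw [this, Set.ncard_singleton]
  · right
    push_neg at h3
    have h4 : hammingNorm v0 = 4 := by
      by_contra hne
      exact h3 v0 (by omega) hv0C
    constructor
    · have : {v : GolayPt → ZMod 2 | hammingNorm v ≤ 4 ∧ w - v ∈ golayCode} =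
          indW '' ↑(sextetOf (support₂ v0)) := by
        ext v'
        rw [Set.mem_ofPred_eq, Set.mem_image]
        constructor
        · rintro ⟨h4', hC⟩
          rcases leader_pair v0 v' hv0 h4' (hdiff v0 v' hv0C hC) with h | ⟨-, -, h⟩
          · exact ⟨support₂ v0, Finset.mem_coe.2 (self_mem_sextetOf _), by rw [indW_support₂, h]⟩
          · exact ⟨support₂ v', Finset.mem_coe.2 h, indW_support₂ v'⟩
        · rintro ⟨u, hu, rfl⟩
          obtain ⟨hn, hC⟩ := sextet_leader v0 h4 u (Finset.mem_coe.1 hu)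
          refine ⟨by omega, ?_⟩
          have : w - indW u = (w - v0) + (v0 - indW u) := by abel
          rw [this]
          exact golayCode.add_mem hv0C hC
      rw [this, Set.ncard_image_of_injective _ indW_injective, Set.ncard_coe_finset,
        card_sextetOf (by rw [card_support₂, h4])]
    · intro v hvC hv4
      by_contra hne
      exact h3 v (by omega) hvC

end Cfsg.Agent.S1635
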