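import Cfsg.Statements.S1637
import Cfsg.Agent.Lib.Helper21.GolayCoset

set_option autoImplicit false
open Cfsg

namespace Cfsg.Agent.S1637

open Cfsg.Agent.Lib.Helper21

theorem hammingNorm_option' {α : Type*} [Fintype α] (v : Option α → ZMod 2) :
    hammingNorm v = (if v none ≠ 0 then 1 else 0) + hammingNorm (fun x => v (some x)) := by
  classical
  unfold hammingNorm
  rw [Finset.card_filter, Finset.card_filter, Fintype.sum_option]

theorem dist_eq_norm_sub' (x y : ZMod 23 → ZMod 2) :
    hammingDist x y = hammingNorm (x - y) := by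
  classical
  unfold hammingDist hammingNorm
  refine congrArg Finset.card (Finset.filter_congr ?_)
  intro i _
  rw [Pi.sub_apply, sub_ne_zero]

/-- Restriction of a word to the `23` finite coordinates. -/
def res23 (w : GolayPt → ZMod 2) : ZMod 23 → ZMod 2 := fun x => w (some x)

/-- Extension of a word of length `23` by zero. -/
def ext23 (u : ZMod 23 → ZMod 2) : GolayPt → ZMod 2 := fun p => p.elim 0 u

theorem res23_ext23 (u : ZMod 23 → ZMod 2) : res23 (ext23 u) = u := rfl

theorem res23_sub (v w : GolayPt → ZMod 2) : res23 (v - w) = res23 v - res23 w := rfl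

theorem exists_good_leader (w : GolayPt → ZMod 2) :
    ∃ v : GolayPt → ZMod 2, w - v ∈ golayCode ∧ hammingNorm (res23 v) ≤ 3 := by
  classical
  obtain ⟨v, hv, hc⟩ := exists_leader w
  by_cases h4 : hammingNorm v = 4
  · have hcard : (support₂ v).card = 4 := by rw [card_support₂, h4]
    obtain ⟨t, ht, hnone⟩ := sextet_cover (sextetOf_mem hcard) none
    obtain ⟨hw4, hcode⟩ := sextet_leader v h4 t ht
    refine ⟨indW t, ?_, ?_⟩
    · have e : w - indW t = (w - v) + (v - indW t) := by abel
      rw [e]
      exact golayCode.add_mem hc hcode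
    · have h := hammingNorm_option' (indW t)
      have h1 : indW t none ≠ 0 := by
        unfold indW
        rw [if_pos hnone]
        exact one_ne_zero
      rw [if_pos h1, hw4] at h
      show hammingNorm (fun x => indW t (some x)) ≤ 3
      omega
  · refine ⟨v, hc, ?_⟩
    have h := hammingNorm_option' v
    have h' : hammingNorm (res23 v) ≤ hammingNorm v := by
      show hammingNorm (fun x => v (some x)) ≤ hammingNorm v
      omega
    omega

/-- The punctured length-23 code is a perfect 3-error-correcting code: each word of length 23 is within distance 3 of exactly one codeword. -/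
theorem result (u : ZMod 23 → ZMod 2) : ∃! c : ZMod 23 → ZMod 2, c ∈ {u : ZMod 23 → ZMod 2 | ∃ w ∈ Cfsg.golayCode, ∀ x : ZMod 23, u x = w (some x)} ∧ hammingDist u c ≤ 3 := by
  classical
  obtain ⟨v, hvc, hv3⟩ := exists_good_leader (ext23 u)
  refine ⟨res23 (ext23 u - v), ⟨⟨ext23 u - v, hvc, fun x => rfl⟩, ?_⟩, ?_⟩
  · rw [dist_eq_norm_sub', res23_sub, res23_ext23, sub_sub_cancel]
    exact hv3
  · rintro c ⟨⟨w, hw, hcw⟩, hd⟩
    have hcres : c = res23 w := funext hcw
    have hd' : hammingDist u (res23 (ext23 u - v)) ≤ 3 := by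
      rw [dist_eq_norm_sub', res23_sub, res23_ext23, sub_sub_cancel]
      exact hv3
    have htri : hammingDist c (res23 (ext23 u - v)) ≤ 6 := by
      have h1 := hammingDist_triangle c u (res23 (ext23 u - v))
      rw [hammingDist_comm c u] at h1
      omega
    rw [dist_eq_norm_sub', hcres, ← res23_sub] at htri
    have hmem : w - (ext23 u - v) ∈ golayCode := golayCode.sub_mem hw hvc
    have hopt := hammingNorm_option' (w - (ext23 u - v))
    have hlt : hammingNorm (w - (ext23 u - v)) < 8 := by
      have h2 : hammingNorm (fun x => (w - (ext23 u - v)) (some x)) ≤ 6 := htri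
      split_ifs at hopt <;> omega
    have hz := eq_zero_of_weight_lt _ hmem hlt
    rw [hcres, sub_eq_zero.1 hz]

end Cfsg.Agent.S1637
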