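import Cfsg.Statements.S1636
import Cfsg.Agent.S1637
import Cfsg.Agent.Lib.Helper21.GolayCount

set_option autoImplicit false
open Cfsg

namespace Cfsg.Agent.S1636

open Cfsg.Agent.Lib.Helper21
open Cfsg.Agent.S1637 (res23 hammingNorm_option')

theorem gEquiv_none' : ((gEquiv (none : GolayPt) : Fin 24) : ℕ) = 23 := rfl

theorem popc_succ' (m : ℕ) : popc 24 m = popc 23 m + (m.testBit 23).toNat := by
  rw [popc_eq_sum, popc_eq_sum, Finset.sum_range_succ]

theorem norm_res23 (w : GolayPt → ZMod 2) : hammingNorm (res23 w) = popc 23 (toMask w) := by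
  have h1 := hammingNorm_option' w
  have h2 := hammingNorm_eq_popc w
  rw [popc_succ'] at h2
  have h3 : ((toMask w).testBit 23).toNat = if w none ≠ 0 then 1 else 0 := by
    have h := testBit_toMask w none
    rw [gEquiv_none'] at h
    rw [h]
    rcases zmod2_cases (w none) with h0 | h0 <;> simp [h0]
  change hammingNorm w = (if w none ≠ 0 then 1 else 0) + hammingNorm (res23 w) at h1
  omega

theorem res23_injOn : Set.InjOn res23 (golayCode : Set (GolayPt → ZMod 2)) := by
  intro a ha b hb h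
  have hmem : a - b ∈ golayCode := golayCode.sub_mem ha hb
  have hz : res23 (a - b) = 0 := by
    show res23 a - res23 b = 0
    rw [h, sub_self]
  have hn := hammingNorm_option' (a - b)
  change hammingNorm (a - b) = (if (a - b) none ≠ 0 then 1 else 0) + hammingNorm (res23 (a - b))
    at hn
  rw [hz, hammingNorm_zero] at hn
  have hlt : hammingNorm (a - b) < 8 := by
    split_ifs at hn <;> omega
  exact sub_eq_zero.1 (eq_zero_of_weight_lt _ hmem hlt)

/-- The punctured code. -/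
def punct : Set (ZMod 23 → ZMod 2) :=
  {u : ZMod 23 → ZMod 2 | ∃ w ∈ Cfsg.golayCode, ∀ x : ZMod 23, u x = w (some x)}

theorem punct_eq : punct = res23 '' (golayCode : Set (GolayPt → ZMod 2)) := by
  ext u
  constructor
  · rintro ⟨w, hw, h⟩
    exact ⟨w, hw, (funext h).symm⟩
  · rintro ⟨w, hw, rfl⟩
    exact ⟨w, hw, fun x => rfl⟩

theorem punct_weight (k : ℕ) : {u : ZMod 23 → ZMod 2 | u ∈ punct ∧ hammingNorm u = k}.ncard =
    ((Finset.range 4096).filter (fun c => popc 23 (encMask c) = k)).card := by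
  rw [← ncard_code_filter (fun m => popc 23 m = k)]
  have e : {u : ZMod 23 → ZMod 2 | u ∈ punct ∧ hammingNorm u = k} =
      res23 '' {w : GolayPt → ZMod 2 | w ∈ golayCode ∧ popc 23 (toMask w) = k} := by
    ext u
    constructor
    · rintro ⟨⟨w, hw, h⟩, hk⟩
      have hu : u = res23 w := funext h
      refine ⟨w, ⟨hw, ?_⟩, hu.symm⟩
      rw [← norm_res23, ← hu]
      exact hk
    · rintro ⟨w, ⟨hw, hk⟩, rfl⟩
      exact ⟨⟨w, hw, fun x => rfl⟩, by rw [norm_res23]; exact hk⟩
  rw [e]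
  apply Set.InjOn.ncard_image
  exact res23_injOn.mono (fun w hw => hw.1)

theorem cnt7 : ((Finset.range 4096).filter (fun c => popc 23 (encMask c) = 7)).card = 253 := by
  decide +kernel
theorem cnt8 : ((Finset.range 4096).filter (fun c => popc 23 (encMask c) = 8)).card = 506 := by
  decide +kernel
theorem cnt11 : ((Finset.range 4096).filter (fun c => popc 23 (encMask c) = 11)).card = 1288 := by
  decide +kernel
theorem cnt12 : ((Finset.range 4096).filter (fun c => popc 23 (encMask c) = 12)).card = 1288 := by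
  decide +kernel
theorem cnt15 : ((Finset.range 4096).filter (fun c => popc 23 (encMask c) = 15)).card = 506 := by
  decide +kernel
theorem cnt16 : ((Finset.range 4096).filter (fun c => popc 23 (encMask c) = 16)).card = 253 := by
  decide +kernel

/-- The punctured length-23 code has weight distribution 0^1 7^253 8^506 11^1288 12^1288 15^506 16^253 23^1. -/
theorem result : {u : ZMod 23 → ZMod 2 | ∃ w ∈ Cfsg.golayCode, ∀ x : ZMod 23, u x = w (some x)}.ncard = 4096 ∧ {u : ZMod 23 → ZMod 2 | u ∈ {u : ZMod 23 → ZMod 2 | ∃ w ∈ Cfsg.golayCode, ∀ x : ZMod 23, u x = w (some x)} ∧ hammingNorm u = 7}.ncard = 253 ∧ {u : ZMod 23 → ZMod 2 | u ∈ {u : ZMod 23 → ZMod 2 | ∃ w ∈ Cfsg.golayCode, ∀ x : ZMod 23, u x = w (some x)} ∧ hammingNorm u = 8}.ncard = 506 ∧ {u : ZMod 23 → ZMod 2 | u ∈ {u : ZMod 23 → ZMod 2 | ∃ w ∈ Cfsg.golayCode, ∀ x : ZMod 23, u x = w (some x)} ∧ hammingNorm u = 11}.ncard = 1288 ∧ {u : ZMod 23 → ZMod 2 | u ∈ {u : ZMod 23 → ZMod 2 | ∃ w ∈ Cfsg.golayCode,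 ∀ x : ZMod 23, u x = w (some x)} ∧ hammingNorm u = 12}.ncard = 1288 ∧ {u : ZMod 23 → ZMod 2 | u ∈ {u : ZMod 23 → ZMod 2 | ∃ w ∈ Cfsg.golayCode, ∀ x : ZMod 23, u x = w (some x)} ∧ hammingNorm u = 15}.ncard = 506 ∧ {u : ZMod 23 → ZMod 2 | u ∈ {u : ZMod 23 → ZMod 2 | ∃ w ∈ Cfsg.golayCode, ∀ x : ZMod 23, u x = w (some x)} ∧ hammingNorm u = 16}.ncard = 253 ∧ ∀ u ∈ {u : ZMod 23 → ZMod 2 | ∃ w ∈ Cfsg.golayCode, ∀ x : ZMod 23, u x = w (some x)}, u ≠ 0 → 7 ≤ hammingNorm u := by
  refine ⟨?_, ?_, ?_, ?_, ?_, ?_, ?_, ?_⟩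
  · show punct.ncard = 4096
    rw [punct_eq, Set.InjOn.ncard_image res23_injOn, ncard_golayCode]
  · exact (punct_weight 7).trans cnt7
  · exact (punct_weight 8).trans cnt8
  · exact (punct_weight 11).trans cnt11
  · exact (punct_weight 12).trans cnt12
  · exact (punct_weight 15).trans cnt15
  · exact (punct_weight 16).trans cnt16
  · rintro u ⟨w, hw, h⟩ hu0
    have hu : u = res23 w := funext h
    have hw0 : w ≠ 0 := by
      rintro rfl
      exact hu0 (by rw [hu]; rfl)
    have h8 : 8 ≤ hammingNorm w := by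
      by_contra hlt
      exact hw0 (eq_zero_of_weight_lt _ hw (not_le.1 hlt))
    have hn := hammingNorm_option' w
    change hammingNorm w = (if w none ≠ 0 then 1 else 0) + hammingNorm (res23 w) at hn
    rw [hu]
    split_ifs at hn <;> omega

end Cfsg.Agent.S1636
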