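import Cfsg.Statements.S1638
import Cfsg.Agent.Lib.Helper21.GolaySix
import Cfsg.Agent.Lib.Helper21.GolaySteiner

set_option autoImplicit false
open scoped Pointwise
open Cfsg

namespace Cfsg.Agent.S1638

open Cfsg.Agent.Lib.Helper21

/-- Counting part: the pairs `t` outside a four-point set `R` such that `R ∪ t` lies in an octad
number `30`, the others `160`. -/
theorem count_pairs (R : Finset GolayPt) (hR : R.card = 4) :
    {t : Finset GolayPt | (t.card = 2 ∧ Disjoint R t) ∧ ∃ o ∈ octads, R ∪ t ⊆ o}.ncard = 30 ∧
    {t : Finset GolayPt | (t.card = 2 ∧ Disjoint R t) ∧ ¬ ∃ o ∈ octads, R ∪ t ⊆ o}.ncard = 160 := by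
  classical
  set U : Finset (Finset GolayPt) := (Rᶜ).powersetCard 2 with hU
  have hUcard : U.card = 190 := by
    rw [hU, Finset.card_powersetCard, Finset.card_compl, hR, card_golayPt]
    decide
  have hmemU : ∀ t : Finset GolayPt, t ∈ U ↔ (t.card = 2 ∧ Disjoint R t) := by
    intro t
    rw [hU, Finset.mem_powersetCard, Finset.subset_compl_iff_disjoint_left, and_comm]
  set F : Finset (Finset GolayPt) := (blocksFinset octads).filter (R ⊆ ·) with hF
  have hFcard : F.card = 5 := (lam_5_8_24 card_golayPt octads_steiner R).2.2.2.2 hR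
  have hspec : U.filter (fun t => ∃ o ∈ octads, R ∪ t ⊆ o) =
      F.biUnion (fun o => (o \ R).powersetCard 2) := by
    ext t
    rw [Finset.mem_filter, hmemU, Finset.mem_biUnion]
    constructor
    · rintro ⟨⟨h2, hd⟩, o, ho, hsub⟩
      refine ⟨o, ?_, ?_⟩
      · rw [hF, Finset.mem_filter, mem_blocksFinset]
        exact ⟨ho, Finset.union_subset_left hsub⟩
      · rw [Finset.mem_powersetCard]
        refine ⟨?_, h2⟩
        intro x hx
        rw [Finset.mem_sdiff]
        exact ⟨hsub (Finset.mem_union_right _ hx), fun hxR => Finset.disjoint_left.1 hd hxR hx⟩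
    · rintro ⟨o, ho, ht⟩
      rw [hF, Finset.mem_filter, mem_blocksFinset] at ho
      rw [Finset.mem_powersetCard] at ht
      refine ⟨⟨ht.2, ?_⟩, o, ho.1, ?_⟩
      · rw [Finset.disjoint_left]
        intro x hxR hxt
        exact (Finset.mem_sdiff.1 (ht.1 hxt)).2 hxR
      · exact Finset.union_subset ho.2 (fun x hx => (Finset.mem_sdiff.1 (ht.1 hx)).1)
  have hcard30 : (U.filter (fun t => ∃ o ∈ octads, R ∪ t ⊆ o)).card = 30 := by
    rw [hspec, Finset.card_biUnion]
    · have : ∀ o ∈ F, ((o \ R).powersetCard 2).card = 6 := by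
        intro o ho
        rw [hF, Finset.mem_filter, mem_blocksFinset] at ho
        have h8 : o.card = 8 := ho.1.2
        rw [Finset.card_powersetCard, Finset.card_sdiff_of_subset ho.2, h8, hR]
        decide
      rw [Finset.sum_congr rfl this, Finset.sum_const, hFcard]
      rfl
    · intro o ho o' ho' hne
      rw [Function.onFun, Finset.disjoint_left]
      intro t ht ht'
      apply hne
      rw [Finset.mem_coe, hF, Finset.mem_filter, mem_blocksFinset] at ho ho'
      rw [Finset.mem_powersetCard] at ht ht'
      apply octad_unique o o' ho.1 ho'.1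
      have hsub : R ∪ t ⊆ o ∩ o' := by
        intro x hx
        rw [Finset.mem_inter]
        rcases Finset.mem_union.1 hx with h | h
        · exact ⟨ho.2 h, ho'.2 h⟩
        · exact ⟨(Finset.mem_sdiff.1 (ht.1 h)).1, (Finset.mem_sdiff.1 (ht'.1 h)).1⟩
      have hdis : Disjoint R t := by
        rw [Finset.disjoint_left]
        intro x hxR hxt
        exact (Finset.mem_sdiff.1 (ht.1 hxt)).2 hxR
      have h6 : (R ∪ t).card = 6 := by
        rw [Finset.card_union_of_disjoint hdis, hR, ht.2]
      have := Finset.card_le_card hsub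
      omega
  have hsum := Finset.card_filter_add_card_filter_not (s := U)
    (fun t => ∃ o ∈ octads, R ∪ t ⊆ o)
  rw [hcard30, hUcard] at hsum
  constructor
  · rw [← hcard30, ← Set.ncard_coe_finset]
    congr 1
    ext t
    simp only [Set.mem_ofPred_eq, Finset.coe_filter, hmemU]
  · have h160 : (U.filter (fun t => ¬ ∃ o ∈ octads, R ∪ t ⊆ o)).card = 160 := by omega
    rw [← h160, ← Set.ncard_coe_finset]
    congr 1
    ext t
    simp only [Set.mem_ofPred_eq, Finset.coe_filter, hmemU]


/-- Fix two points p ≠ q and a pair s of two further points. Among the pairs avoiding p, q and disjoint from s, exactly 30 lie in an octad together with p, q and s and exactly 160 do not; and any two pairs other than s that meet s in equally many points and agree on that octad property are carried to one another by an element of the group of the length-24 code fixing p, q and s. -/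
theorem result (p q : Cfsg.GolayPt) (hpq : p ≠ q) (s : Finset Cfsg.GolayPt) (hs : (s.card = 2 ∧ p ∉ s ∧ q ∉ s)) : {t : Finset Cfsg.GolayPt | (t.card = 2 ∧ p ∉ t ∧ q ∉ t) ∧ Disjoint s t ∧ (∃ o ∈ Cfsg.octads, p ∈ o ∧ q ∈ o ∧ s ∪ t ⊆ o)}.ncard = 30 ∧ {t : Finset Cfsg.GolayPt | (t.card = 2 ∧ p ∉ t ∧ q ∉ t) ∧ Disjoint s t ∧ ¬ (∃ o ∈ Cfsg.octads, p ∈ o ∧ q ∈ o ∧ s ∪ t ⊆ o)}.ncard = 160 ∧ ∀ t t' : Finset Cfsg.GolayPt, (t.card = 2 ∧ p ∉ t ∧ q ∉ t) → (t'.card = 2 ∧ p ∉ t' ∧ q ∉ t') → t ≠ s → t' ≠ s → (s ∩ t).card = (s ∩ t').card → ((∃ o ∈ Cfsg.octads, p ∈ o ∧ q ∈ o ∧ s ∪ t ⊆ o) ↔ (∃ o ∈ Cfsg.octads, p ∈ o ∧ q ∈ o ∧ s ∪ t' ⊆ o)) → ∃ g : Equiv.Perm Cfsg.GolayPt, g ∈ Cfsg.M24 ∧ g p = p ∧ g q = q ∧ g • s = s ∧ g • t = t' := by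
  classical
  obtain ⟨hs2, hps, hqs⟩ := hs
  set R : Finset GolayPt := insert p (insert q s) with hRdef
  have hR : R.card = 4 := by
    rw [hRdef, Finset.card_insert_of_notMem, Finset.card_insert_of_notMem hqs, hs2]
    rw [Finset.mem_insert]
    rintro (h | h)
    · exact hpq h
    · exact hps h
  -- reformulation of the conditions in terms of `R`
  have hcond : ∀ t : Finset GolayPt, ((t.card = 2 ∧ p ∉ t ∧ q ∉ t) ∧ Disjoint s t) ↔
      (t.card = 2 ∧ Disjoint R t) := by
    intro t
    rw [hRdef, Finset.disjoint_insert_left, Finset.disjoint_insert_left]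
    tauto
  have hoct : ∀ t : Finset GolayPt, (∃ o ∈ octads, p ∈ o ∧ q ∈ o ∧ s ∪ t ⊆ o) ↔
      ∃ o ∈ octads, R ∪ t ⊆ o := by
    intro t
    constructor
    · rintro ⟨o, ho, hp, hq, hsub⟩
      refine ⟨o, ho, ?_⟩
      intro x hx
      rw [hRdef, Finset.mem_union, Finset.mem_insert, Finset.mem_insert] at hx
      rcases hx with (rfl | rfl | hx) | hx
      · exact hp
      · exact hq
      · exact hsub (Finset.mem_union_left _ hx)
      · exact hsub (Finset.mem_union_right _ hx)
    · rintro ⟨o, ho, hsub⟩
      refine ⟨o, ho, ?_, ?_, ?_⟩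
      · exact hsub (Finset.mem_union_left _ (Finset.mem_insert_self _ _))
      · exact hsub (Finset.mem_union_left _ (Finset.mem_insert_of_mem (Finset.mem_insert_self _ _)))
      · intro x hx
        rcases Finset.mem_union.1 hx with h | h
        · exact hsub (Finset.mem_union_left _
            (Finset.mem_insert_of_mem (Finset.mem_insert_of_mem h)))
        · exact hsub (Finset.mem_union_right _ h)
  have hcount := count_pairs R hR
  refine ⟨?_, ?_, ?_⟩
  · rw [← hcount.1]
    congr 1
    ext t
    simp only [Set.mem_ofPred_eq]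
    rw [← and_assoc, hcond, hoct]
  · rw [← hcount.2]
    congr 1
    ext t
    simp only [Set.mem_ofPred_eq]
    rw [← and_assoc, hcond, hoct]
  · intro t t' ht ht' hts ht's hc hiff
    -- a map on the points involved
    obtain ⟨f₀, hinj₀, hf₀s, hf₀t⟩ := exists_injOn_two_sets s t s t' rfl (ht.1.trans ht'.1.symm) hc
    let f : GolayPt → GolayPt := fun x => if x = p then p else if x = q then q else f₀ x
    have hfp : f p = p := by simp [f]
    have hfq : f q = q := by
      show (if q = p then p else if q = q then q else f₀ q) = q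
      rw [if_neg (Ne.symm hpq), if_pos rfl]
    have hf_st : ∀ x ∈ s ∪ t, f x = f₀ x := by
      intro x hx
      have hxp : x ≠ p := by
        rintro rfl
        rcases Finset.mem_union.1 hx with h | h
        · exact hps h
        · exact ht.2.1 h
      have hxq : x ≠ q := by
        rintro rfl
        rcases Finset.mem_union.1 hx with h | h
        · exact hqs h
        · exact ht.2.2 h
      show (if x = p then p else if x = q then q else f₀ x) = f₀ x
      rw [if_neg hxp, if_neg hxq]
    have hf₀_mem : ∀ x ∈ s ∪ t, f₀ x ∈ s ∪ t' := by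
      intro x hx
      rcases Finset.mem_union.1 hx with h | h
      · exact Finset.mem_union_left _ (hf₀s x h)
      · exact Finset.mem_union_right _ (hf₀t x h)
    have hp_st' : p ∉ s ∪ t' := by
      rw [Finset.mem_union]
      rintro (h | h)
      · exact hps h
      · exact ht'.2.1 h
    have hq_st' : q ∉ s ∪ t' := by
      rw [Finset.mem_union]
      rintro (h | h)
      · exact hqs h
      · exact ht'.2.2 h
    set S : Finset GolayPt := insert p (insert q (s ∪ t)) with hSdef
    have hfS : ∀ x ∈ S, x = p ∨ x = q ∨ x ∈ s ∪ t := by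
      intro x hx
      rw [hSdef, Finset.mem_insert, Finset.mem_insert] at hx
      exact hx
    have hinj : Set.InjOn f (S : Set GolayPt) := by
      intro x hx y hy hxy
      rcases hfS x hx with rfl | rfl | hx' <;> rcases hfS y hy with rfl | rfl | hy'
      · rfl
      · rw [hfp, hfq] at hxy; exact absurd hxy hpq
      · rw [hfp, hf_st y hy'] at hxy
        exact absurd (hxy ▸ hf₀_mem y hy') hp_st'
      · rw [hfp, hfq] at hxy; exact absurd hxy.symm hpq
      · rfl
      · rw [hfq, hf_st y hy'] at hxy
        exact absurd (hxy ▸ hf₀_mem y hy') hq_st'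
      · rw [hfp, hf_st x hx'] at hxy
        exact absurd (hxy.symm ▸ hf₀_mem x hx') hp_st'
      · rw [hfq, hf_st x hx'] at hxy
        exact absurd (hxy.symm ▸ hf₀_mem x hx') hq_st'
      · rw [hf_st x hx', hf_st y hy'] at hxy
        exact hinj₀ (by exact_mod_cast hx') (by exact_mod_cast hy') hxy
    -- size of `S`
    have hst_card : (s ∪ t).card + (s ∩ t).card = 4 := by
      rw [Finset.card_union_add_card_inter, hs2, ht.1]
    have hp_st : p ∉ s ∪ t := by
      rw [Finset.mem_union]
      rintro (h | h)
      · exact hps h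
      · exact ht.2.1 h
    have hq_st : q ∉ s ∪ t := by
      rw [Finset.mem_union]
      rintro (h | h)
      · exact hqs h
      · exact ht.2.2 h
    have hScard : S.card = (s ∪ t).card + 2 := by
      rw [hSdef, Finset.card_insert_of_notMem, Finset.card_insert_of_notMem hq_st]
      rw [Finset.mem_insert]
      rintro (h | h)
      · exact hpq h
      · exact hp_st h
    have hint_le : (s ∩ t).card ≤ 1 := by
      by_contra hgt
      have h2 : (s ∩ t).card = 2 := by
        have := Finset.card_le_card (Finset.inter_subset_left : s ∩ t ⊆ s)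
        omega
      apply hts
      have e1 : s ∩ t = s := Finset.eq_of_subset_of_card_le Finset.inter_subset_left (by omega)
      have e2 : s ∩ t = t := Finset.eq_of_subset_of_card_le Finset.inter_subset_right
        (by rw [h2, ht.1])
      rw [← e2, e1]
    -- image of `S`
    have himg : S.image f = insert p (insert q (s ∪ t')) := by
      apply Finset.eq_of_subset_of_card_le
      · intro y hy
        obtain ⟨x, hx, rfl⟩ := Finset.mem_image.1 hy
        rcases hfS x hx with rfl | rfl | hx'
        · rw [hfp]; exact Finset.mem_insert_self _ _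
        · rw [hfq]; exact Finset.mem_insert_of_mem (Finset.mem_insert_self _ _)
        · rw [hf_st x hx']
          exact Finset.mem_insert_of_mem (Finset.mem_insert_of_mem (hf₀_mem x hx'))
      · rw [Finset.card_image_of_injOn hinj, hScard, Finset.card_insert_of_notMem,
          Finset.card_insert_of_notMem hq_st']
        · have := Finset.card_union_add_card_inter s t'
          rw [hs2, ht'.1] at this
          omega
        · rw [Finset.mem_insert]
          rintro (h | h)
          · exact hpq h
          · exact hp_st' h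
    have hgex : ∃ g ∈ M24, ∀ x ∈ S, g x = f x := by
      by_cases h0 : (s ∩ t).card = 0
      · have h6 : S.card = 6 := by omega
        apply M24_eqOn_six S h6 f hinj
        rw [himg]
        have e1 : ∀ u : Finset GolayPt, (∃ o ∈ octads, insert p (insert q (s ∪ u)) ⊆ o) ↔
            ∃ o ∈ octads, p ∈ o ∧ q ∈ o ∧ s ∪ u ⊆ o := by
          intro u
          constructor
          · rintro ⟨o, ho, hsub⟩
            exact ⟨o, ho, hsub (Finset.mem_insert_self _ _),
              hsub (Finset.mem_insert_of_mem (Finset.mem_insert_self _ _)),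
              fun x hx => hsub (Finset.mem_insert_of_mem (Finset.mem_insert_of_mem hx))⟩
          · rintro ⟨o, ho, hp, hq, hsub⟩
            refine ⟨o, ho, ?_⟩
            intro x hx
            rw [Finset.mem_insert, Finset.mem_insert] at hx
            rcases hx with rfl | rfl | hx
            · exact hp
            · exact hq
            · exact hsub hx
        rw [hSdef, e1, e1]
        exact hiff
      · exact exists_perm_eqOn M24 5 M24_tuples S (by omega) f hinj
    obtain ⟨g, hg, hgf⟩ := hgex
    have hpS : p ∈ S := Finset.mem_insert_self _ _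
    have hqS : q ∈ S := Finset.mem_insert_of_mem (Finset.mem_insert_self _ _)
    have hstS : ∀ x ∈ s ∪ t, x ∈ S := fun x hx =>
      Finset.mem_insert_of_mem (Finset.mem_insert_of_mem hx)
    refine ⟨g, hg, ?_, ?_, ?_, ?_⟩
    · rw [hgf p hpS, hfp]
    · rw [hgf q hqS, hfq]
    · exact smul_finset_eq_of_eqOn g f₀ s s
        (fun x hx => by
          rw [hgf x (hstS x (Finset.mem_union_left _ hx)), hf_st x (Finset.mem_union_left _ hx)])
        hf₀s rfl
    · exact smul_finset_eq_of_eqOn g f₀ t t'
        (fun x hx => by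
          rw [hgf x (hstS x (Finset.mem_union_right _ hx)), hf_st x (Finset.mem_union_right _ hx)])
        hf₀t (ht.1.trans ht'.1.symm)

end Cfsg.Agent.S1638
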