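import Cfsg.Statements.S1641
import Mathlib
import Cfsg.Agent.Lib.Helper3.HS11178D
-- import your own Cfsg.Agent.* helpers here

set_option autoImplicit false
open Cfsg

namespace Cfsg.Agent.S1641

open Cfsg.Agent.Lib.Helper3 MulAction

/-- the class of `y` in the `11178`-set of `u` with prescribed dot product with `x` -/
def Cl (u x : leechLattice) (c : ℤ) : Set leechLattice :=
  {y | sqNorm y.1 = 32 ∧ dotInt u.1 y.1 = -16 ∧ dotInt x.1 y.1 = c}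

section
variable (u x : leechLattice) (g0 : ↥Co0) (g0u : g0 • u = uS) (g0x : g0 • x = mS)
include g0u g0x

theorem Cl_ncard (c : ℤ) : (Cl u x c).ncard = (ClS c).ncard := by
  have h := ncard_co0_2 g0.2 u x 32 (-16) c
  have e1 : g0.1 u = uS := g0u
  have e2 : g0.1 x = mS := g0x
  rw [e1, e2] at h
  exact h

theorem smul_mem_ClS {c : ℤ} {y : leechLattice} (hy : y ∈ Cl u x c) : g0 • y ∈ ClS c := by
  obtain ⟨h1, h2, h3⟩ := hy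
  have e1 : g0.1 u = uS := g0u
  have e2 : g0.1 x = mS := g0x
  refine ⟨?_, ?_, ?_⟩
  · show sqNorm (g0.1 y).1 = 32
    rw [g0.2.2, h1]
  · have := co0_dot g0.2 u y
    rw [e1] at this
    show dotInt uS.1 (g0.1 y).1 = -16
    rw [this, h2]
  · have := co0_dot g0.2 x y
    rw [e2] at this
    show dotInt mS.1 (g0.1 y).1 = c
    rw [this, h3]

theorem Cl_trans {c : ℤ} (hS : ∀ y ∈ ClS c, ∀ y' ∈ ClS c,
    ∃ g : ↥Co0, g • vS = vS ∧ g • mS = mS ∧ g • y = y') :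
    ∀ y ∈ Cl u x c, ∀ y' ∈ Cl u x c, ∃ g : ↥Co0, g • u = u ∧ g • x = x ∧ g • y = y' := by
  intro y hy y' hy'
  obtain ⟨h, h1, h2, h3⟩ := hS _ (smul_mem_ClS u x g0 g0u g0x hy) _
    (smul_mem_ClS u x g0 g0u g0x hy')
  have hu : h • uS = uS := by unfold uS; rw [co0_neg, h1]
  refine ⟨g0⁻¹ * h * g0, ?_, ?_, ?_⟩
  · rw [mul_smul, mul_smul, g0u, hu, inv_smul_eq_iff, g0u]
  · rw [mul_smul, mul_smul, g0x, h2, inv_smul_eq_iff, g0x]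
  · rw [mul_smul, mul_smul, h3, inv_smul_eq_iff]

theorem Cl_cover (y : leechLattice) (h1 : sqNorm y.1 = 32) (h2 : dotInt u.1 y.1 = -16) :
    y = x ∨ y ∈ Cl u x (-8) ∨ y ∈ Cl u x 16 ∨ y ∈ Cl u x 0 ∨ y ∈ Cl u x 8 := by
  have e1 : g0.1 u = uS := g0u
  have e2 : g0.1 x = mS := g0x
  have k1 : sqNorm (g0 • y).1 = 32 := by
    show sqNorm (g0.1 y).1 = 32
    rw [g0.2.2, h1]
  have k2 : dotInt uS.1 (g0 • y).1 = -16 := by
    have := co0_dot g0.2 u y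
    rw [e1] at this
    show dotInt uS.1 (g0.1 y).1 = -16
    rw [this, h2]
  have k3 : dotInt mS.1 (g0 • y).1 = dotInt x.1 y.1 := by
    have := co0_dot g0.2 x y
    rw [e2] at this
    exact this
  rcases ClS_cover (g0 • y) k1 k2 with h | h | h | h | h
  · left
    rw [← g0x] at h
    exact smul_left_cancel g0 h
  · right; left; exact ⟨h1, h2, by rw [← k3]; exact h.2.2⟩
  · right; right; left; exact ⟨h1, h2, by rw [← k3]; exact h.2.2⟩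
  · right; right; right; left; exact ⟨h1, h2, by rw [← k3]; exact h.2.2⟩
  · right; right; right; right; exact ⟨h1, h2, by rw [← k3]; exact h.2.2⟩

end

theorem Cl_inv (u x : leechLattice) (c : ℤ) (g : ↥Co0) (gu : g • u = u) (gx : g • x = x) :
    ∀ y ∈ Cl u x c, g • y ∈ Cl u x c := by
  rintro y ⟨h1, h2, h3⟩
  have e1 : g.1 u = u := gu
  have e2 : g.1 x = x := gx
  refine ⟨?_, ?_, ?_⟩
  · show sqNorm (g.1 y).1 = 32
    rw [g.2.2, h1]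
  · have := co0_dot g.2 u y
    rw [e1] at this
    show dotInt u.1 (g.1 y).1 = -16
    rw [this, h2]
  · have := co0_dot g.2 x y
    rw [e2] at this
    show dotInt x.1 (g.1 y).1 = c
    rw [this, h3]

theorem orbit_Cl (u x : leechLattice) (c : ℤ)
    (htr : ∀ y ∈ Cl u x c, ∀ y' ∈ Cl u x c, ∃ g : ↥Co0, g • u = u ∧ g • x = x ∧ g • y = y')
    {y : leechLattice} (hy : y ∈ Cl u x c) :
    orbit ↥(stabilizer ↥Co0 u ⊓ stabilizer ↥Co0 x) y = Cl u x c := by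
  ext y'
  constructor
  · rintro ⟨t, rfl⟩
    exact Cl_inv u x c t.1 (mem_stabilizer_iff.1 t.2.1) (mem_stabilizer_iff.1 t.2.2) y hy
  · intro hy'
    obtain ⟨t, tu, tx, e⟩ := htr y hy y' hy'
    exact ⟨⟨t, Subgroup.mem_inf.2 ⟨mem_stabilizer_iff.2 tu, mem_stabilizer_iff.2 tx⟩⟩, e⟩

/-- The third Conway group acts on the 11178 cosets of the Higman–Sims group with rank 5 and subdegrees 1, 352, 1100, 4125, 5600. -/
theorem result (u x : ↥Cfsg.leechLattice) (hu : Cfsg.sqNorm (u : Cfsg.GolayPt → ℤ) = 48) (hx : x ∈ {x : ↥Cfsg.leechLattice | Cfsg.sqNorm (x : Cfsg.GolayPt → ℤ) = 32 ∧ Cfsg.dotInt (u : Cfsg.GolayPt → ℤ) (x : Cfsg.GolayPt → ℤ) = -16}) : ∃ y₁ ∈ {x : ↥Cfsg.leechLattice | Cfsg.sqNorm (x : Cfsg.GolayPt → ℤ) = 32 ∧ Cfsg.dotInt (u : Cfsg.GolayPt → ℤ) (x : Cfsg.GolayPt → ℤ) = -16}, ∃ y₂ ∈ {x : ↥Cfsg.leechLattice | Cfsg.sqNorm (x : Cfsg.GolayPt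 → ℤ) = 32 ∧ Cfsg.dotInt (u : Cfsg.GolayPt → ℤ) (x : Cfsg.GolayPt → ℤ) = -16}, ∃ y₃ ∈ {x : ↥Cfsg.leechLattice | Cfsg.sqNorm (x : Cfsg.GolayPt → ℤ) = 32 ∧ Cfsg.dotInt (u : Cfsg.GolayPt → ℤ) (x : Cfsg.GolayPt → ℤ) = -16}, ∃ y₄ ∈ {x : ↥Cfsg.leechLattice | Cfsg.sqNorm (x : Cfsg.GolayPt → ℤ) = 32 ∧ Cfsg.dotInt (u : Cfsg.GolayPt → ℤ) (x : Cfsg.GolayPt → ℤ) = -16}, (MulAction.orbit ↥(MulAction.stabilizer ↥Cfsg.Co0 u ⊓ MulAction.stabilizer ↥Cfsg.Co0 x) y₁).ncard = 352 ∧ (MulAction.orbit ↥(MulAction.stabilizer ↥Cfsg.Co0 u ⊓ MulAction.stabilizer ↥Cfsg.Co0 x) y₂).ncard = 1100 ∧ (MulAction.orbit ↥(MulAction.stabilizer ↥Cfsg.Co0 u ⊓ MulAction.stabilizer ↥Cfsg.Co0 x) y₃).ncard = 4125 ∧ (MulAction.orbit ↥(MulAction.stabilizer ↥Cfsg.Co0 u ⊓ MulAction.stabilizer ↥Cfsg.Co0 x) y₄).ncard = 5600 ∧ {x : ↥Cfsg.leechLattice | Cfsg.sqNorm (x : Cfsg.GolayPt → ℤ) = 32 ∧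 Cfsg.dotInt (u : Cfsg.GolayPt → ℤ) (x : Cfsg.GolayPt → ℤ) = -16} = {x} ∪ MulAction.orbit ↥(MulAction.stabilizer ↥Cfsg.Co0 u ⊓ MulAction.stabilizer ↥Cfsg.Co0 x) y₁ ∪ MulAction.orbit ↥(MulAction.stabilizer ↥Cfsg.Co0 u ⊓ MulAction.stabilizer ↥Cfsg.Co0 x) y₂ ∪ MulAction.orbit ↥(MulAction.stabilizer ↥Cfsg.Co0 u ⊓ MulAction.stabilizer ↥Cfsg.Co0 x) y₃ ∪ MulAction.orbit ↥(MulAction.stabilizer ↥Cfsg.Co0 u ⊓ MulAction.stabilizer ↥Cfsg.Co0 x) y₄ := by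
  obtain ⟨hx1, hx2⟩ := hx
  have e1 : ((-u : ↥leechLattice) : GolayPt → ℤ) = -(u : GolayPt → ℤ) := rfl
  have hc := connP_k2 x.2 hx1 (-u).2 (by rw [e1, sqNorm_neg]; exact hu)
    (by rw [e1, dotInt_neg_right, dotInt_comm, hx2]; norm_num)
  obtain ⟨g0, g0x, g0nu⟩ := ConnP.exists_co0 (v := x) (w := -u) (v' := mS) (w' := vS) hc
  have g0u : g0 • u = uS := by
    unfold uS
    rw [co0_neg] at g0nu
    rw [← g0nu, neg_neg]
  have n1 := Cl_ncard u x g0 g0u g0x (-8)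
  rw [ncard_ClS_m8] at n1
  have n2 := Cl_ncard u x g0 g0u g0x 16
  rw [ncard_ClS_16] at n2
  have n3 := Cl_ncard u x g0 g0u g0x 0
  rw [ncard_ClS_0] at n3
  have n4 := Cl_ncard u x g0 g0u g0x 8
  rw [ncard_ClS_8] at n4
  have t1 := Cl_trans u x g0 g0u g0x ClS_trans_m8
  have t2 := Cl_trans u x g0 g0u g0x ClS_trans_16
  have t3 := Cl_trans u x g0 g0u g0x ClS_trans_0
  have t4 := Cl_trans u x g0 g0u g0x ClS_trans_8
  obtain ⟨y1, hy1⟩ : (Cl u x (-8)).Nonempty :=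
    Set.nonempty_of_ncard_ne_zero (by rw [n1]; norm_num)
  obtain ⟨y2, hy2⟩ : (Cl u x 16).Nonempty :=
    Set.nonempty_of_ncard_ne_zero (by rw [n2]; norm_num)
  obtain ⟨y3, hy3⟩ : (Cl u x 0).Nonempty :=
    Set.nonempty_of_ncard_ne_zero (by rw [n3]; norm_num)
  obtain ⟨y4, hy4⟩ : (Cl u x 8).Nonempty :=
    Set.nonempty_of_ncard_ne_zero (by rw [n4]; norm_num)
  have o1 := orbit_Cl u x (-8) t1 hy1
  have o2 := orbit_Cl u x 16 t2 hy2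
  have o3 := orbit_Cl u x 0 t3 hy3
  have o4 := orbit_Cl u x 8 t4 hy4
  refine ⟨y1, ⟨hy1.1, hy1.2.1⟩, y2, ⟨hy2.1, hy2.2.1⟩, y3, ⟨hy3.1, hy3.2.1⟩, y4,
    ⟨hy4.1, hy4.2.1⟩, ?_, ?_, ?_, ?_, ?_⟩
  · rw [o1, n1]
  · rw [o2, n2]
  · rw [o3, n3]
  · rw [o4, n4]
  · rw [o1, o2, o3, o4]
    ext y
    constructor
    · rintro ⟨h1, h2⟩
      rcases Cl_cover u x g0 g0u g0x y h1 h2 with h | h | h | h | h
      · exact Or.inl (Or.inl (Or.inl (Or.inl (Set.mem_singleton_iff.2 h))))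
      · exact Or.inl (Or.inl (Or.inl (Or.inr h)))
      · exact Or.inl (Or.inl (Or.inr h))
      · exact Or.inl (Or.inr h)
      · exact Or.inr h
    · rintro ((((h | h) | h) | h) | h)
      · rw [Set.mem_singleton_iff.1 h]
        exact ⟨hx1, hx2⟩
      · exact ⟨h.1, h.2.1⟩
      · exact ⟨h.1, h.2.1⟩
      · exact ⟨h.1, h.2.1⟩
      · exact ⟨h.1, h.2.1⟩

end Cfsg.Agent.S1641
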