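import Cfsg.Statements.S1642
import Mathlib
import Cfsg.Agent.Lib.Helper3.Co0Triple
import Cfsg.Agent.S1583
-- import your own Cfsg.Agent.* helpers here

set_option autoImplicit false
open Cfsg

namespace Cfsg.Agent.S1642

open Cfsg.Agent.Lib.Helper3

theorem sv_apply (c : ℤ) (s T : Finset GolayPt) (i : GolayPt) :
    sv c s T i = if i ∈ T then -c else if i ∈ s then c else 0 := rfl

theorem exists_dodecad : ∃ D, D ∈ dodecads := by
  by_contra h
  push Not at h
  have : dodecads = ∅ := Set.eq_empty_of_forall_notMem h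
  have h2 := Cfsg.Agent.Lib.Helper21.ncard_dodecads
  rw [this, Set.ncard_empty] at h2
  norm_num at h2

theorem octad_not_subset_dodecad {O D : Finset GolayPt} (hO : O ∈ octads) (hD : D ∈ dodecads) :
    ¬ O ⊆ D := by
  intro h
  have h1 := supports_symmDiff hD.1 hO.1
  have h2 : O \ D = ∅ := Finset.sdiff_eq_empty_iff_subset.2 h
  rw [h2, Finset.union_empty] at h1
  have h3 := supports_card_cases h1
  rw [Finset.card_sdiff_of_subset h, hD.2, hO.2] at h3
  omega

theorem dot_sv2D (D : Finset GolayPt) (y : GolayPt → ℤ) :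
    dotInt (sv 2 D ∅) y = 2 * ∑ i ∈ D, y i := by
  classical
  unfold dotInt
  have h : ∀ i, sv 2 D ∅ i * y i = if i ∈ D then 2 * y i else 0 := by
    intro i
    rw [sv_apply, if_neg (Finset.notMem_empty _)]
    by_cases hi : i ∈ D
    · rw [if_pos hi, if_pos hi]
    · rw [if_neg hi, if_neg hi, zero_mul]
  rw [Finset.sum_congr rfl (fun i _ => h i), Finset.sum_ite_mem, Finset.univ_inter,
    Finset.mul_sum]

theorem no_fixed {D : Finset GolayPt} (hD : D ∈ dodecads) {y : GolayPt → ℤ}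
    (hy : y ∈ leechLattice) (hn : sqNorm y = 32) (hd : dotInt (sv 2 D ∅) y = 24)
    (hfix : sgnVec Dᶜ y = y) : False := by
  classical
  have hzero : ∀ i, i ∉ D → y i = 0 := by
    intro i hi
    have := congrFun hfix i
    unfold sgnVec at this
    rw [if_pos (Finset.mem_compl.2 hi)] at this
    omega
  rw [dot_sv2D] at hd
  have hsum : ∑ i, y i = ∑ i ∈ D, y i := by
    symm
    apply Finset.sum_subset (Finset.subset_univ _)
    intro i _ hi
    exact hzero i hi
  have hcard : D.card < 24 := by rw [hD.2]; norm_num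
  obtain ⟨k, hk⟩ := exists_notMem_of_card_lt hcard
  rcases (leech_minimal_iff y).1 ⟨hy, hn⟩ with ⟨s, T, hs, hT, rfl⟩ | ⟨s, T, hs, hT, hev, rfl⟩ |
    ⟨C, j, hC, rfl⟩
  · rw [sum_sv 4 hT, hs] at hsum
    omega
  · apply octad_not_subset_dodecad hs hD
    intro i hi
    by_contra hiD
    exact (sv_mem_s (by norm_num : (2:ℤ) ≠ 0) hT i).1 hi (hzero i hiD)
  · have := ov_odd C j k
    rw [hzero k hk] at this
    norm_num at this

/-- Some involution of the Higman–Sims group acts without fixed points on its 100 points. -/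
theorem result (v w : ↥Cfsg.leechLattice) (hv : Cfsg.sqNorm (v : Cfsg.GolayPt → ℤ) = 48) (hw : Cfsg.sqNorm (w : Cfsg.GolayPt → ℤ) = 48) (hvw : Cfsg.dotInt (v : Cfsg.GolayPt → ℤ) (w : Cfsg.GolayPt → ℤ) = -32) : ∃ g : ↥Cfsg.Co0, g • v = v ∧ g • w = w ∧ orderOf g = 2 ∧ ∀ x ∈ {x : ↥Cfsg.leechLattice | Cfsg.sqNorm (x : Cfsg.GolayPt → ℤ) = 32 ∧ Cfsg.dotInt (v : Cfsg.GolayPt → ℤ) (x : Cfsg.GolayPt → ℤ) = 24 ∧ Cfsg.dotInt (w : Cfsg.GolayPt → ℤ) (x : Cfsg.GolayPt → ℤ) = -24}, g • x ≠ x := by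
  classical
  obtain ⟨D, hD⟩ := exists_dodecad
  have hcard2 : 1 < D.card := by rw [hD.2]; norm_num
  obtain ⟨a, ha, b, hb, hab⟩ := Finset.one_lt_card.1 hcard2
  have hvD : sv 2 D ∅ ∈ leechLattice := sv2_dod_mem hD (Finset.empty_subset _) (by simp)
  have hvDn : sqNorm (sv 2 D ∅) = 48 := by
    rw [sqNorm_sv 2 (Finset.empty_subset _), hD.2]; norm_num
  have hmD : P44 a b ∈ leechLattice := P44_mem hab
  have hmDn : sqNorm (P44 a b) = 32 := sqNorm_P44 hab
  have hmvD : dotInt (P44 a b) (sv 2 D ∅) = 16 := by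
    rw [dot_P44 hab, sv_apply, sv_apply]
    simp [ha, hb]
  have hm : ((v + w : ↥leechLattice) : GolayPt → ℤ) = (v : GolayPt → ℤ) + (w : GolayPt → ℤ) := rfl
  have hmn : sqNorm ((v + w : ↥leechLattice) : GolayPt → ℤ) = 32 := by
    rw [hm, sqNorm_add, hv, hw, hvw]; norm_num
  have hmv : dotInt ((v + w : ↥leechLattice) : GolayPt → ℤ) (v : GolayPt → ℤ) = 16 := by
    rw [hm, dotInt_add_left, dotInt_self, hv, dotInt_comm, hvw]; norm_num
  have c1 := connP_k2 (v + w).2 hmn v.2 hv hmv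
  have c2 := connP_k2 hmD hmDn hvD hvDn hmvD
  obtain ⟨G, hG1, hG2⟩ := ConnP.exists_co0 (v := v + w) (w := v) (v' := ⟨P44 a b, hmD⟩)
    (w' := ⟨sv 2 D ∅, hvD⟩) (c1.trans c2.symm)
  have hDc := compl_mem_supports hD.1
  let h : ↥Co0 := ⟨sgnL Dᶜ hDc, sgnL_mem Dᶜ hDc⟩
  have hact : ∀ z : ↥leechLattice, ((h • z : ↥leechLattice) : GolayPt → ℤ) =
      sgnVec Dᶜ (z : GolayPt → ℤ) := fun z => rfl
  have f1 : h • (G • (v + w)) = G • (v + w) := by
    apply Subtype.ext
    rw [hact, hG1]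
    apply sgnVec_eq_self
    intro i hi
    have hiD := Finset.mem_compl.1 hi
    show P44 a b i = 0
    have hia : ¬ (i = a ∨ i = b) := by
      rintro (h | h)
      · exact hiD (h ▸ ha)
      · exact hiD (h ▸ hb)
    unfold P44
    rw [if_neg hia]
  have f2 : h • (G • v) = G • v := by
    apply Subtype.ext
    rw [hact, hG2]
    apply sgnVec_eq_self
    intro i hi
    have hiD := Finset.mem_compl.1 hi
    show sv 2 D ∅ i = 0
    rw [sv_apply, if_neg (Finset.notMem_empty _), if_neg hiD]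
  have hh2 : h * h = 1 := by
    apply Subtype.ext
    apply Equiv.ext
    intro z
    apply Subtype.ext
    show sgnVec Dᶜ (sgnVec Dᶜ z.1) = z.1
    exact sgnVec_sgnVec _ _
  have hg1 : (G⁻¹ * h * G) • v = v := by
    rw [mul_smul, mul_smul, f2, inv_smul_smul]
  have hg0 : (G⁻¹ * h * G) • (v + w) = v + w := by
    rw [mul_smul, mul_smul, f1, inv_smul_smul]
  have hnofix : ∀ x ∈ {x : ↥leechLattice | sqNorm (x : GolayPt → ℤ) = 32 ∧
      dotInt (v : GolayPt → ℤ) (x : GolayPt → ℤ) = 24 ∧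
      dotInt (w : GolayPt → ℤ) (x : GolayPt → ℤ) = -24}, (G⁻¹ * h * G) • x ≠ x := by
    rintro x ⟨hx1, hx2, hx3⟩ hfix
    rw [mul_smul, mul_smul, inv_smul_eq_iff] at hfix
    have hfix' : sgnVec Dᶜ ((G • x : ↥leechLattice) : GolayPt → ℤ) =
        ((G • x : ↥leechLattice) : GolayPt → ℤ) := by
      rw [← hact, hfix]
    have hGmem : (G : Equiv.Perm ↥leechLattice) ∈ Co0 := G.2
    have hd : dotInt (sv 2 D ∅) ((G • x : ↥leechLattice) : GolayPt → ℤ) = 24 := by
      have := co0_dot hGmem v x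
      have e : ((G • v : ↥leechLattice) : GolayPt → ℤ) = sv 2 D ∅ := by rw [hG2]
      rw [← e]
      exact this.trans hx2
    exact no_fixed hD (G • x).2 ((hGmem.2 x).trans hx1) hd hfix'
  refine ⟨G⁻¹ * h * G, hg1, ?_, ?_, hnofix⟩
  · have hw' : w = (v + w) - v := by abel
    rw [hw', co0_sub, hg0, hg1]
  · have hne : G⁻¹ * h * G ≠ 1 := by
      intro h1
      -- the set of the 100 points is nonempty
      have hcount := (Cfsg.Agent.S1583.result v w hv hw hvw).1
      have hne' : {x : ↥leechLattice | sqNorm (x : GolayPt → ℤ) = 32 ∧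
          dotInt (v : GolayPt → ℤ) (x : GolayPt → ℤ) = 24 ∧
          dotInt (w : GolayPt → ℤ) (x : GolayPt → ℤ) = -24}.Nonempty := by
        rw [← Set.ncard_pos (Set.finite_of_ncard_ne_zero (by rw [hcount]; norm_num)), hcount]
        norm_num
      obtain ⟨x, hx⟩ := hne'
      exact hnofix x hx (by rw [h1, one_smul])
    have hsq : (G⁻¹ * h * G) ^ 2 = 1 := by
      rw [pow_two]
      calc G⁻¹ * h * G * (G⁻¹ * h * G) = G⁻¹ * (h * h) * G := by group
        _ = 1 := by rw [hh2]; group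
    exact orderOf_eq_prime hsq hne

end Cfsg.Agent.S1642
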