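import Cfsg.Statements.S1643
import Cfsg.Agent.Lib.Helper9.M24Max.Main
import Cfsg.Agent.Lib.Helper9.M24Max.Coatom

set_option autoImplicit false
open scoped Pointwise
open Cfsg

namespace Cfsg.Agent.S1643

/-- PSL(2, 23) = ⟨t ↦ t+1, t ↦ u t (u square), t ↦ −1/t⟩ is maximal of order 6072 in the group of the length-24 code, and its point stabiliser 23:11 (order 253) is maximal in the Mathieu group of degree 23. -/
theorem result : (Subgroup.closure ({Equiv.optionCongr (Equiv.addRight (1 : ZMod 23)), Cfsg.projInv} ∪ {g : Equiv.Perm Cfsg.GolayPt | ∃ u : (ZMod 23)ˣ, IsSquare u ∧ g = Equiv.optionCongr (Units.mulLeft u)}) ≤ Cfsg.M24 ∧ Nat.card ↥(Subgroup.closure ({Equiv.optionCongr (Equiv.addRight (1 : ZMod 23)), Cfsg.projInv} ∪ {g : Equiv.Perm Cfsg.GolayPt | ∃ u : (ZMod 23)ˣ, IsSquare u ∧ g = Equiv.optionCongr (Units.mulLeft u)})) = 6072 ∧ IsCoatom ((Subgroup.closure ({Equiv.optionCongr (Equiv.addRight (1 : ZMod 23)), Cfsg.projInv} ∪ {g : Equiv.Perm Cfsg.GolayPt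 | ∃ u : (ZMod 23)ˣ, IsSquare u ∧ g = Equiv.optionCongr (Units.mulLeft u)})).subgroupOf Cfsg.M24)) ∧ (Subgroup.closure ({Equiv.optionCongr (Equiv.addRight (1 : ZMod 23))} ∪ {g : Equiv.Perm Cfsg.GolayPt | ∃ u : (ZMod 23)ˣ, IsSquare u ∧ g = Equiv.optionCongr (Units.mulLeft u)}) ≤ Cfsg.M24 ⊓ MulAction.stabilizer (Equiv.Perm Cfsg.GolayPt) (none : Cfsg.GolayPt) ∧ Nat.card ↥(Subgroup.closure ({Equiv.optionCongr (Equiv.addRight (1 : ZMod 23))} ∪ {g : Equiv.Perm Cfsg.GolayPt | ∃ u : (ZMod 23)ˣ, IsSquare u ∧ g = Equiv.optionCongr (Units.mulLeft u)})) = 253 ∧ IsCoatom (((Subgroup.closure ({Equiv.optionCongr (Equiv.addRight (1 : ZMod 23))} ∪ {g : Equiv.Perm Cfsg.GolayPt | ∃ u : (ZMod 23)ˣ, IsSquare u ∧ g = Equiv.optionCongr (Units.mulLeft u)})).subgroupOf Cfsg.M24).subgroupOf (MulAction.stabilizer Cfsg.M24 (none : Cfsg.GolayPt)))) := by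
  open Cfsg.Agent.Lib.Helper9.M24Max Cfsg.Agent.Lib.Helper21 in
  refine ⟨⟨grpL_le_M24, card_grpL, ?_⟩, ⟨grpF_le_gInf, card_grpF, ?_⟩⟩
  · apply isCoatom_subgroupOf grpL M24 grpL_le_M24 _ max_L
    intro h
    have := Subgroup.card_le_of_le h
    rw [card_M24, card_grpL] at this
    omega
  · apply isCoatom_subgroupOf (grpF.subgroupOf M24) (MulAction.stabilizer (↥M24) (none : GolayPt))
    · intro x hx
      have hx' : (x : Equiv.Perm GolayPt) ∈ grpF := hx
      show (x : Equiv.Perm GolayPt) none = none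
      exact grpF_fix_none hx'
    · intro h
      have hle : gInf ≤ grpF := by
        intro g hg
        have h1 : (⟨g, hg.1⟩ : ↥M24) ∈ MulAction.stabilizer (↥M24) (none : GolayPt) := hg.2
        exact h h1
      have := Subgroup.card_le_of_le hle
      rw [card_gInf, card_grpF] at this
      omega
    · intro H' hA hB
      have hFK : grpF ≤ H'.map M24.subtype := by
        intro x hx
        exact ⟨⟨x, grpF_le_M24 hx⟩, hA hx, rfl⟩
      have hKG : H'.map M24.subtype ≤ gInf := by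
        rintro y ⟨z, hz, rfl⟩
        exact ⟨z.2, hB hz⟩
      rcases max_F _ hFK hKG with h | h
      · left
        ext z
        rw [← mem_map_subtype_iff H' z, h]
        rfl
      · right
        ext z
        rw [← mem_map_subtype_iff H' z, h]
        constructor
        · intro hz; exact hz.2
        · intro hz; exact ⟨z.2, hz⟩

end Cfsg.Agent.S1643
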