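import Cfsg.Statements.S1691
import Mathlib
-- import your own Cfsg.Agent.* helpers here

set_option autoImplicit false
open Cfsg

namespace Cfsg.Agent.S1691

open Cfsg.Spor

/-- the relators of the presentation -/
abbrev Rels : Set (FreeGroup Fi24.Gen) := coxRelators Fi24.edges ∪ {r | r ∈ Fi24.extra}

/-- the nontrivial element of the group of order two -/
def tt : Multiplicative (ZMod 2) := Multiplicative.ofAdd 1

theorem tt_mul : tt * tt = 1 := by decide

theorem tt_ne : tt ≠ 1 := by decide

theorem sign_rel : ∀ r ∈ Rels, FreeGroup.lift (fun _ : Fi24.Gen => tt) r = 1 := by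
  intro r hr
  rcases hr with ⟨x, -, y, -, rfl⟩ | hr
  · simp only [map_pow, map_mul, FreeGroup.lift_apply_of]
    rw [tt_mul, one_pow]
  · simp only [Set.mem_ofPred_eq, Fi24.extra, List.mem_cons, List.not_mem_nil, or_false] at hr
    rcases hr with rfl | rfl
    · simp only [map_pow, map_mul, map_inv, FreeGroup.lift_apply_of]
      decide
    · simp only [map_pow, map_mul, map_inv, FreeGroup.lift_apply_of]
      decide

/-- the sign homomorphism -/
noncomputable def sgn : Fi24 →* Multiplicative (ZMod 2) := PresentedGroup.toGroup sign_rel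

theorem sgn_of (x : Fi24.Gen) : sgn (PresentedGroup.of x) = tt := PresentedGroup.toGroup.of sign_rel

/-- generator in the abelianization -/
noncomputable def gen (x : Fi24.Gen) : Abelianization Fi24 :=
  Abelianization.of (PresentedGroup.of (rels := Rels) x)

theorem gen_sq (x : Fi24.Gen) (hx : x ∈ coxNodes Fi24.edges) : gen x * gen x = 1 := by
  have h : (FreeGroup.of x * FreeGroup.of x) ^ coxLabel Fi24.edges x x ∈ Rels :=
    Or.inl ⟨x, hx, x, hx, rfl⟩
  have h1 := PresentedGroup.one_of_mem h
  have h2 : coxLabel Fi24.edges x x = 1 := by simp [coxLabel]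
  rw [h2, pow_one] at h1
  have h3 := congrArg (Abelianization.of (G := Fi24)) h1
  rw [map_one] at h3
  rw [← h3]
  rfl

theorem gen_edge (x y : Fi24.Gen) (hx : x ∈ coxNodes Fi24.edges) (hy : y ∈ coxNodes Fi24.edges)
    (hl : coxLabel Fi24.edges x y = 3) : gen x = gen y := by
  have h : (FreeGroup.of x * FreeGroup.of y) ^ coxLabel Fi24.edges x y ∈ Rels :=
    Or.inl ⟨x, hx, y, hy, rfl⟩
  have h1 := PresentedGroup.one_of_mem h
  rw [hl] at h1
  have h3 := congrArg (Abelianization.of (G := Fi24)) h1
  rw [map_one] at h3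
  have h4 : (gen x * gen y) ^ 3 = 1 := by
    rw [← h3]
    rfl
  rw [mul_pow] at h4
  have hx2 := gen_sq x hx
  have hy2 := gen_sq y hy
  have e1 : gen x ^ 3 = gen x := by
    rw [pow_succ, pow_two, hx2, one_mul]
  have e2 : gen y ^ 3 = gen y := by
    rw [pow_succ, pow_two, hy2, one_mul]
  rw [e1, e2] at h4
  calc gen x = gen x * (gen y * gen y) := by rw [hy2, mul_one]
    _ = (gen x * gen y) * gen y := by rw [mul_assoc]
    _ = gen y := by rw [h4, one_mul]

theorem nodes (x : Fi24.Gen) : x ∈ coxNodes Fi24.edges := by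
  cases x <;> decide

theorem gen_eq (x : Fi24.Gen) : gen x = gen Fi24.Gen.d := by
  have hlk := gen_edge .l .k (nodes _) (nodes _) (by decide)
  have hka := gen_edge .k .a (nodes _) (nodes _) (by decide)
  have hab := gen_edge .a .b (nodes _) (nodes _) (by decide)
  have hbc := gen_edge .b .c (nodes _) (nodes _) (by decide)
  have hcd := gen_edge .c .d (nodes _) (nodes _) (by decide)
  have hde := gen_edge .d .e (nodes _) (nodes _) (by decide)
  have hdh := gen_edge .d .h (nodes _) (nodes _) (by decide)
  have hef := gen_edge .e .f (nodes _) (nodes _) (by decide)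
  have hfg := gen_edge .f .g (nodes _) (nodes _) (by decide)
  have hgj := gen_edge .g .j (nodes _) (nodes _) (by decide)
  have hhi := gen_edge .h .i (nodes _) (nodes _) (by decide)
  cases x
  · rw [hlk, hka, hab, hbc, hcd]
  · rw [hka, hab, hbc, hcd]
  · rw [hab, hbc, hcd]
  · rw [hbc, hcd]
  · rw [hcd]
  · rfl
  · rw [← hde]
  · rw [← hef, ← hde]
  · rw [← hfg, ← hef, ← hde]
  · rw [← hgj, ← hfg, ← hef, ← hde]
  · rw [← hdh]
  · rw [← hhi, ← hdh]

theorem top_eq : (⊤ : Subgroup (Abelianization Fi24)) = Subgroup.zpowers (gen Fi24.Gen.d) := by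
  symm
  rw [eq_top_iff]
  intro y hy
  clear hy
  obtain ⟨g, rfl⟩ := QuotientGroup.mk_surjective y
  change Abelianization.of g ∈ _
  have hg : g ∈ Subgroup.closure (Set.range (PresentedGroup.of (rels := Rels))) := by
    rw [PresentedGroup.closure_range_of]; trivial
  induction hg using Subgroup.closure_induction with
  | mem z hz =>
    obtain ⟨x, rfl⟩ := hz
    have := gen_eq x
    unfold gen at this
    rw [this]
    exact Subgroup.mem_zpowers _
  | one => rw [map_one]; exact Subgroup.one_mem _
  | mul a b _ _ iha ihb => rw [map_mul]; exact Subgroup.mul_mem _ iha ihb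
  | inv a _ iha => rw [map_inv]; exact Subgroup.inv_mem _ iha

/-- The commutator subgroup of the presented group Fi₂₄ has index 2 (the presented group is Fi₂₄′:2 with Fi₂₄′ its derived subgroup). -/
theorem result : (commutator Cfsg.Spor.Fi24).index = 2 := by
  have h1 : (commutator Fi24).index = Nat.card (Abelianization Fi24) := rfl
  rw [h1, ← Nat.card_congr (Subgroup.topEquiv (G := Abelianization Fi24)).toEquiv, top_eq,
    Nat.card_zpowers]
  have hd : orderOf (gen Fi24.Gen.d) ∣ 2 := by
    apply orderOf_dvd_of_pow_eq_one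
    rw [pow_two]
    exact gen_sq _ (nodes _)
  have hne : gen Fi24.Gen.d ≠ 1 := by
    intro h
    have h2 := congrArg (Abelianization.lift sgn) h
    unfold gen at h2
    rw [Abelianization.lift_apply_of, sgn_of, map_one] at h2
    exact tt_ne h2
  have h3 : orderOf (gen Fi24.Gen.d) ≠ 1 := by
    rwa [Ne, orderOf_eq_one_iff]
  rcases (Nat.dvd_prime Nat.prime_two).mp hd with h | h
  · exact absurd h h3
  · exact h

end Cfsg.Agent.S1691
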