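import Mathlib
import Cfsg.Statements.S1717

set_option autoImplicit false
open Cfsg

namespace Cfsg.Agent.S1717

open Matrix

theorem sylow_step {G : Type*} [Group G] [Finite G] (z : G) (hz : orderOf z = 2)
    (C : Subgroup G) (hC : C = Subgroup.centralizer ({z} : Set G))
    (T : Sylow 2 C)
    (hZ : ∀ x : C, x ∈ T → (∀ y ∈ T, x * y = y * x) →
      x = 1 ∨ (x : G) = z) :
    ¬ 2 ∣ ((T : Subgroup C).map C.subtype).index := by
  classical
  haveI : Fact (Nat.Prime 2) := ⟨Nat.prime_two⟩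
  have hz1 : z ≠ 1 := by
    intro h; rw [h, orderOf_one] at hz; omega
  set P := (T : Subgroup C).map C.subtype with hP
  have hPp : IsPGroup 2 P := T.isPGroup'.map _
  obtain ⟨K, hPK⟩ := hPp.exists_le_sylow
  have hmemC : ∀ g : G, g ∈ C ↔ g * z = z * g := by
    intro g
    rw [hC, Subgroup.mem_centralizer_iff]
    constructor
    · intro h; exact (h z rfl).symm
    · intro h y hy; rw [Set.mem_singleton_iff.1 hy]; exact h.symm
  have hzC : z ∈ C := (hmemC z).2 rfl
  have hzT : (⟨z, hzC⟩ : C) ∈ T := by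
    have hn : (Subgroup.zpowers (⟨z, hzC⟩ : C)).Normal := by
      refine ⟨fun n hn g => ?_⟩
      obtain ⟨k, rfl⟩ := Subgroup.mem_zpowers_iff.1 hn
      have hc : Commute g (⟨z, hzC⟩ : C) := Subtype.ext ((hmemC g.1).1 g.2)
      rw [(hc.zpow_right k).eq, mul_inv_cancel_right]
      exact Subgroup.zpow_mem_zpowers _ _
    have hp : IsPGroup 2 (Subgroup.zpowers (⟨z, hzC⟩ : C)) := by
      apply IsPGroup.of_card (n := 1)
      rw [Nat.card_zpowers, pow_one, ← hz]
      exact (Subgroup.orderOf_coe (⟨z, hzC⟩ : C)).symm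
    exact (hp.le_sylow_of_normal T) (Subgroup.mem_zpowers _)
  have hzP : z ∈ P := ⟨⟨z, hzC⟩, hzT, rfl⟩
  by_cases hPK' : P = K
  · rw [hPK']; exact K.not_dvd_index
  · exfalso
    have hlt : P < K := lt_of_le_of_ne hPK hPK'
    haveI : Group.IsNilpotent K := K.isPGroup'.isNilpotent
    have hnc := normalizerCondition_of_isNilpotent (G := K) (P.subgroupOf K) (by
      rw [lt_top_iff_ne_top, Ne, Subgroup.subgroupOf_eq_top]; exact not_le_of_gt hlt)
    obtain ⟨y, hyN, hyP⟩ := SetLike.exists_of_lt hnc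
    have hyP' : (y : G) ∉ P := fun h => hyP (Subgroup.mem_subgroupOf.2 h)
    have hnorm1 : ∀ x ∈ P, (y : G) * x * (y : G)⁻¹ ∈ P := by
      intro x hx
      have hxK : x ∈ (K : Subgroup G) := hPK hx
      have h1 := (Subgroup.mem_normalizer_iff.1 hyN ⟨x, hxK⟩).1 (Subgroup.mem_subgroupOf.2 hx)
      exact Subgroup.mem_subgroupOf.1 h1
    have hnorm2 : ∀ x ∈ P, (y : G)⁻¹ * x * (y : G) ∈ P := by
      intro x hx
      have hxK : x ∈ (K : Subgroup G) := hPK hx
      have h1 := (Subgroup.mem_normalizer_iff''.1 hyN ⟨x, hxK⟩).1 (Subgroup.mem_subgroupOf.2 hx)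
      exact Subgroup.mem_subgroupOf.1 h1
    obtain ⟨w', hw'T, hw'⟩ := hnorm1 z hzP
    have hw'' : (w' : G) = (y : G) * z * (y : G)⁻¹ := hw'
    have hcomm : ∀ t ∈ T, w' * t = t * w' := by
      intro t ht
      apply Subtype.ext
      rw [Subgroup.coe_mul, Subgroup.coe_mul, hw'']
      have htP : (t : G) ∈ P := ⟨t, ht, rfl⟩
      obtain ⟨u, huT, hu⟩ := hnorm2 (t : G) htP
      have hu' : (u : G) = (y : G)⁻¹ * t * (y : G) := hu
      have huz : (u : G) * z = z * (u : G) := (hmemC u.1).1 u.2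
      have ht' : (t : G) = (y : G) * u * (y : G)⁻¹ := by rw [hu']; group
      rw [ht']
      calc (y : G) * z * (y : G)⁻¹ * ((y : G) * u * (y : G)⁻¹)
          = (y : G) * (z * (u : G)) * (y : G)⁻¹ := by group
        _ = (y : G) * ((u : G) * z) * (y : G)⁻¹ := by rw [huz]
        _ = (y : G) * u * (y : G)⁻¹ * ((y : G) * z * (y : G)⁻¹) := by group
    have hyC : (y : G) ∈ C := by
      rcases hZ w' hw'T hcomm with h | h
      · exfalso
        rw [h] at hw''
        apply hz1
        have : z = (y : G)⁻¹ * ((y : G) * z * (y : G)⁻¹) * (y : G) := by group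
        rw [this, ← hw'']; simp
      · rw [hmemC]
        rw [hw''] at h
        calc (y : G) * z = ((y : G) * z * (y : G)⁻¹) * (y : G) := by group
          _ = z * (y : G) := by rw [h]
    have hQ2 : IsPGroup 2 ((K : Subgroup G).subgroupOf C) :=
      K.isPGroup'.comap_of_injective C.subtype C.subtype_injective
    have hTQ2 : (T : Subgroup C) ≤ (K : Subgroup G).subgroupOf C := by
      intro t ht
      exact Subgroup.mem_subgroupOf.2 (hPK ⟨t, ht, rfl⟩)
    have hQ2T := T.is_maximal' hQ2 hTQ2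
    have : (⟨(y : G), hyC⟩ : C) ∈ (T : Subgroup C) := by
      rw [← hQ2T]; exact Subgroup.mem_subgroupOf.2 y.2
    exact hyP' ⟨⟨(y : G), hyC⟩, this, rfl⟩

theorem center_of_normal {C : Type*} [Group C] (Q : Subgroup C) [Q.Normal]
    (hQ : IsPGroup 2 Q) (s' : C) (hcent : ∀ g : C, (∀ x ∈ Q, g * x = x * g) → g = 1 ∨ g = s')
    (T : Sylow 2 C) : ∀ x ∈ T, (∀ y ∈ T, x * y = y * x) → x = 1 ∨ x = s' := by
  intro x _ hx
  exact hcent x (fun y hy => hx y (hQ.le_sylow_of_normal T hy))

theorem comm_single {n R : Type*} [Fintype n] [DecidableEq n] [CommRing R] (g : Matrix n n R)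
    (a b : n) (h : g * Matrix.single a b 1 = Matrix.single a b 1 * g) :
    (∀ i, i ≠ a → g i a = 0) ∧ (∀ j, j ≠ b → g b j = 0) ∧ g a a = g b b := by
  refine ⟨fun i hi => ?_, fun j hj => ?_, ?_⟩
  · have := congrFun (congrFun h i) b
    rw [Matrix.mul_single_apply_same, Matrix.single_mul_apply_of_ne (h := hi), mul_one] at this
    exact this
  · have := congrFun (congrFun h a) j
    rw [Matrix.mul_single_apply_of_ne (hbj := hj), Matrix.single_mul_apply_same, one_mul] at this
    exact this.symm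
  · have := congrFun (congrFun h a) b
    rw [Matrix.mul_single_apply_same, Matrix.single_mul_apply_same, mul_one, one_mul] at this
    exact this

theorem comm_transvection {n R : Type*} [Fintype n] [DecidableEq n] [CommRing R]
    (g : Matrix n n R) (a b : n)
    (h : g * Matrix.transvection a b 1 = Matrix.transvection a b 1 * g) :
    g * Matrix.single a b 1 = Matrix.single a b 1 * g := by
  unfold Matrix.transvection at h
  rw [mul_add, add_mul, mul_one, one_mul] at h
  exact add_left_cancel h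

abbrev M5 := Matrix (Fin 5) (Fin 5) (ZMod 2)
abbrev SL5 := Matrix.SpecialLinearGroup (Fin 5) (ZMod 2)

def tv (a b : Fin 5) (h : a ≠ b) : SL5 :=
  ⟨Matrix.transvection a b 1, Matrix.det_transvection_of_ne a b h 1⟩

/-- the lower right 3x3 block -/
def β (g : M5) : Matrix (Fin 3) (Fin 3) (ZMod 2) := g.submatrix ![2, 3, 4] ![2, 3, 4]

theorem β_one : β 1 = 1 := by decide

theorem β_mul (g h : M5) (hg : ∀ i : Fin 3, g (![2, 3, 4] i) 0 = 0)
    (hh : ∀ j : Fin 3, h 1 (![2, 3, 4] j) = 0) : β (g * h) = β g * β h := by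
  ext i j
  simp only [β, Matrix.submatrix_apply, Matrix.mul_apply, Fin.sum_univ_five, Fin.sum_univ_three]
  rw [hg i, hh j]
  simp

theorem zmod2_eq_one : ∀ x : ZMod 2, x ≠ 0 → x = 1 := by decide

/-- entry pattern of elements commuting with the transvection `s` -/
structure InC (g : M5) : Prop where
  col0 : ∀ i, i ≠ 0 → g i 0 = 0
  row1 : ∀ j, j ≠ 1 → g 1 j = 0
  diag : g 0 0 = g 1 1

theorem inC_of_comm (g : M5)
    (h : g * Matrix.transvection 0 1 1 = Matrix.transvection 0 1 1 * g) : InC g := by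
  obtain ⟨h1, h2, h3⟩ := comm_single g 0 1 (comm_transvection g 0 1 h)
  exact ⟨h1, h2, h3⟩

theorem g00_eq_one (g : SL5) (hg : InC g.1) : g.1 0 0 = 1 := by
  apply zmod2_eq_one
  intro h0
  have : g.1.det = 0 := by
    apply Matrix.det_eq_zero_of_column_eq_zero 0
    intro i
    by_cases hi : i = 0
    · rw [hi]; exact h0
    · exact hg.col0 i hi
  rw [g.2] at this
  exact one_ne_zero this

theorem InC.hg {g : M5} (h : InC g) (i : Fin 3) : g (![2, 3, 4] i) 0 = 0 :=
  h.col0 _ (by fin_cases i <;> decide)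

theorem InC.hh {g : M5} (h : InC g) (j : Fin 3) : g 1 (![2, 3, 4] j) = 0 :=
  h.row1 _ (by fin_cases j <;> decide)

theorem shape (x : M5) (h : InC x) (h00 : x 0 0 = 1) (hβ : β x = 1) :
    x = !![1, x 0 1, x 0 2, x 0 3, x 0 4; 0, 1, 0, 0, 0; 0, x 2 1, 1, 0, 0;
      0, x 3 1, 0, 1, 0; 0, x 4 1, 0, 0, 1] := by
  have h11 : x 1 1 = 1 := by rw [← h.diag, h00]
  have b00 : x 2 2 = 1 := by have := congrFun (congrFun hβ 0) 0; simpa [β] using this
  have b01 : x 2 3 = 0 := by have := congrFun (congrFun hβ 0) 1; simpa [β] using this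
  have b02 : x 2 4 = 0 := by have := congrFun (congrFun hβ 0) 2; simpa [β] using this
  have b10 : x 3 2 = 0 := by have := congrFun (congrFun hβ 1) 0; simpa [β] using this
  have b11 : x 3 3 = 1 := by have := congrFun (congrFun hβ 1) 1; simpa [β] using this
  have b12 : x 3 4 = 0 := by have := congrFun (congrFun hβ 1) 2; simpa [β] using this
  have b20 : x 4 2 = 0 := by have := congrFun (congrFun hβ 2) 0; simpa [β] using this
  have b21 : x 4 3 = 0 := by have := congrFun (congrFun hβ 2) 1; simpa [β] using this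
  have b22 : x 4 4 = 1 := by have := congrFun (congrFun hβ 2) 2; simpa [β] using this
  have c1 := h.col0 1 (by decide)
  have c2 := h.col0 2 (by decide)
  have c3 := h.col0 3 (by decide)
  have c4 := h.col0 4 (by decide)
  have r0 := h.row1 0 (by decide)
  have r2 := h.row1 2 (by decide)
  have r3 := h.row1 3 (by decide)
  have r4 := h.row1 4 (by decide)
  ext i j
  fin_cases i <;> fin_cases j <;> simp [*]

theorem pow4 : ∀ a b2 b3 b4 c2 c3 c4 : ZMod 2,
    (!![1, a, b2, b3, b4; 0, 1, 0, 0, 0; 0, c2, 1, 0, 0; 0, c3, 0, 1, 0; 0, c4, 0, 0, 1] : M5) ^ 4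
      = 1 := by decide

theorem tv_comm : ∀ a b : Fin 5, b ≠ 0 → a ≠ 1 →
    (Matrix.transvection 0 1 1 : M5) * Matrix.transvection a b 1 =
      Matrix.transvection a b 1 * Matrix.transvection 0 1 1 := by decide

theorem tv_β : ∀ a b : Fin 5, (a = 0 ∨ b = 1) → β (Matrix.transvection a b 1) = 1 := by decide

section QCsec
variable (s : SL5) (hs : (s : M5) = Matrix.transvection 0 1 1)
include hs

theorem inC_mem (g : SL5) (hg : g ∈ Subgroup.centralizer ({s} : Set SL5)) : InC g.1 := by
  apply inC_of_comm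
  have := Subgroup.mem_centralizer_iff.1 hg s rfl
  have h2 := congrArg Subtype.val this
  rw [Matrix.SpecialLinearGroup.coe_mul, Matrix.SpecialLinearGroup.coe_mul, hs] at h2
  exact h2.symm

theorem β_mul_C (g h : Subgroup.centralizer ({s} : Set SL5)) :
    β ((g * h).1.1) = β g.1.1 * β h.1.1 := by
  rw [Subgroup.coe_mul, Matrix.SpecialLinearGroup.coe_mul]
  exact β_mul _ _ (inC_mem s hs g.1 g.2).hg (inC_mem s hs h.1 h.2).hh

theorem β_inv_C (g : Subgroup.centralizer ({s} : Set SL5)) (hg : β g.1.1 = 1) :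
    β (g⁻¹).1.1 = 1 := by
  have h1 := β_mul_C s hs g g⁻¹
  rw [mul_inv_cancel, hg, one_mul] at h1
  rw [← h1]
  exact β_one

def QC : Subgroup (Subgroup.centralizer ({s} : Set SL5)) where
  carrier := {g | β g.1.1 = 1}
  one_mem' := β_one
  mul_mem' := by
    intro a b ha hb
    show β ((a * b).1.1) = 1
    rw [β_mul_C s hs, ha, hb, one_mul]
  inv_mem' := by
    intro a ha
    exact β_inv_C s hs a ha

theorem mem_QC (g : Subgroup.centralizer ({s} : Set SL5)) : g ∈ QC s hs ↔ β g.1.1 = 1 := Iff.rfl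

theorem QC_normal : (QC s hs).Normal := by
  refine ⟨fun n hn g => ?_⟩
  rw [mem_QC] at hn ⊢
  rw [β_mul_C s hs, β_mul_C s hs, hn, mul_one, ← β_mul_C s hs, mul_inv_cancel]
  exact β_one

theorem QC_pgroup : IsPGroup 2 (QC s hs) := by
  intro x
  refine ⟨2, ?_⟩
  apply Subtype.ext
  apply Subtype.ext
  apply Subtype.ext
  have hx : β x.1.1.1 = 1 := x.2
  have hin := inC_mem s hs x.1.1 x.1.2
  have h00 := g00_eq_one x.1.1 hin
  have hsh := shape x.1.1.1 hin h00 hx
  show ((x ^ 2 ^ 2 : QC s hs) : Subgroup.centralizer ({s} : Set SL5)).1.1 = 1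
  rw [Subgroup.coe_pow, Subgroup.coe_pow, Matrix.SpecialLinearGroup.coe_pow, hsh]
  exact pow4 _ _ _ _ _ _ _

theorem tv_mem_C (a b : Fin 5) (h : a ≠ b) (hb : b ≠ 0) (ha : a ≠ 1) :
    tv a b h ∈ Subgroup.centralizer ({s} : Set SL5) := by
  rw [Subgroup.mem_centralizer_iff]
  intro y hy
  rw [Set.mem_singleton_iff.1 hy]
  apply Subtype.ext
  rw [Matrix.SpecialLinearGroup.coe_mul, Matrix.SpecialLinearGroup.coe_mul, hs]
  exact tv_comm a b hb ha

theorem QC_cent (g : Subgroup.centralizer ({s} : Set SL5))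
    (hg : ∀ x ∈ QC s hs, g * x = x * g) :
    g = 1 ∨ g = ⟨s, Subgroup.mem_centralizer_iff.2
      (fun y hy => by rw [Set.mem_singleton_iff.1 hy])⟩ := by
  have hin := inC_mem s hs g.1 g.2
  have h00 := g00_eq_one g.1 hin
  have key : ∀ (a b : Fin 5) (h : a ≠ b), b ≠ 0 → a ≠ 1 → (a = 0 ∨ b = 1) →
      (∀ i, i ≠ a → g.1.1 i a = 0) ∧ (∀ j, j ≠ b → g.1.1 b j = 0) ∧ g.1.1 a a = g.1.1 b b := by
    intro a b h hb ha hab
    have hmem : (⟨tv a b h, tv_mem_C s hs a b h hb ha⟩ : Subgroup.centralizer ({s} : Set SL5))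
        ∈ QC s hs := tv_β a b hab
    have h1 := hg _ hmem
    have h2 := congrArg (fun t : Subgroup.centralizer ({s} : Set SL5) => t.1.1) h1
    simp only [Subgroup.coe_mul, Matrix.SpecialLinearGroup.coe_mul] at h2
    exact comm_single _ a b (comm_transvection _ a b h2)
  obtain ⟨_, r2, d2⟩ := key 0 2 (by decide) (by decide) (by decide) (Or.inl rfl)
  obtain ⟨_, r3, d3⟩ := key 0 3 (by decide) (by decide) (by decide) (Or.inl rfl)
  obtain ⟨_, r4, d4⟩ := key 0 4 (by decide) (by decide) (by decide) (Or.inl rfl)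
  obtain ⟨c2, _, _⟩ := key 2 1 (by decide) (by decide) (by decide) (Or.inr rfl)
  obtain ⟨c3, _, _⟩ := key 3 1 (by decide) (by decide) (by decide) (Or.inr rfl)
  obtain ⟨c4, _, _⟩ := key 4 1 (by decide) (by decide) (by decide) (Or.inr rfl)
  have c0 := hin.col0
  have r1 := hin.row1
  have h11 : g.1.1 1 1 = 1 := by rw [← hin.diag, h00]
  have h22 : g.1.1 2 2 = 1 := by rw [← d2, h00]
  have h33 : g.1.1 3 3 = 1 := by rw [← d3, h00]
  have h44 : g.1.1 4 4 = 1 := by rw [← d4, h00]
  by_cases h01 : g.1.1 0 1 = 0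
  · left
    apply Subtype.ext
    apply Subtype.ext
    ext i j
    fin_cases i <;> fin_cases j <;> simp [*]
  · right
    have h01' := zmod2_eq_one _ h01
    apply Subtype.ext
    apply Subtype.ext
    show g.1.1 = s.1
    rw [hs]
    ext i j
    fin_cases i <;> fin_cases j <;> simp [Matrix.transvection, Matrix.single, *]

end QCsec

/-- Let G be a finite group with an involution z whose centraliser C is isomorphic to the centraliser of a transvection of SL(5, 2). Then a Sylow 2-subgroup of C, viewed in G, is a Sylow 2-subgroup of G (its index in G is odd). -/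
theorem result {G : Type*} [Group G] [Finite G] (s : Matrix.SpecialLinearGroup (Fin 5) (ZMod 2)) (hs : (s : Matrix (Fin 5) (Fin 5) (ZMod 2)) = Matrix.transvection 0 1 1) (z : G) (hz : orderOf z = 2) (e : (Subgroup.centralizer ({z} : Set G)) ≃* Subgroup.centralizer ({s} : Set (Matrix.SpecialLinearGroup (Fin 5) (ZMod 2)))) (T : Sylow 2 (Subgroup.centralizer ({z} : Set G))) : ¬ 2 ∣ ((T : Subgroup (Subgroup.centralizer ({z} : Set G))).map (Subgroup.subtype (Subgroup.centralizer ({z} : Set G)))).index := by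
  classical
  haveI : Fact (Nat.Prime 2) := ⟨Nat.prime_two⟩
  have hz1 : z ≠ 1 := by
    intro h; rw [h, orderOf_one] at hz; omega
  let s' : Subgroup.centralizer ({s} : Set (Matrix.SpecialLinearGroup (Fin 5) (ZMod 2))) :=
    ⟨s, Subgroup.mem_centralizer_iff.2 (fun y hy => by rw [Set.mem_singleton_iff.1 hy])⟩
  let Q1 : Subgroup (Subgroup.centralizer ({z} : Set G)) := (QC s hs).comap e.toMonoidHom
  haveI hQCn : (QC s hs).Normal := QC_normal s hs
  haveI : Q1.Normal := hQCn.comap _
  have hQ1 : IsPGroup 2 Q1 := (QC_pgroup s hs).comap_of_injective _ e.injective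
  have hcent1 : ∀ g : Subgroup.centralizer ({z} : Set G), (∀ x ∈ Q1, g * x = x * g) →
      g = 1 ∨ g = e.symm s' := by
    intro g hg
    have h1 := QC_cent s hs (e g) (fun x hx => by
      have hx' : e.symm x ∈ Q1 := by
        show e (e.symm x) ∈ QC s hs
        rw [e.apply_symm_apply]; exact hx
      have h2 := congrArg e (hg _ hx')
      rwa [map_mul, map_mul, e.apply_symm_apply] at h2)
    rcases h1 with h | h
    · left; exact e.injective (by rw [h, map_one])
    · right; rw [← e.symm_apply_apply g, h]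
  have hmemC : ∀ g : G, g ∈ Subgroup.centralizer ({z} : Set G) ↔ g * z = z * g := by
    intro g
    rw [Subgroup.mem_centralizer_iff]
    constructor
    · intro h; exact (h z rfl).symm
    · intro h y hy; rw [Set.mem_singleton_iff.1 hy]; exact h.symm
  have hzC : z ∈ Subgroup.centralizer ({z} : Set G) := (hmemC z).2 rfl
  have hz' : (⟨z, hzC⟩ : Subgroup.centralizer ({z} : Set G)) = e.symm s' := by
    rcases hcent1 ⟨z, hzC⟩ (fun x _ => Subtype.ext ((hmemC x.1).1 x.2).symm) with h | h
    · exfalso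
      exact hz1 (congrArg Subtype.val h)
    · exact h
  apply sylow_step z hz _ rfl T
  intro x hxT hx
  rcases center_of_normal Q1 hQ1 (e.symm s') hcent1 T x hxT hx with h | h
  · left; exact h
  · right; rw [h, ← hz']

end Cfsg.Agent.S1717
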