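import Cfsg.Statements.S1753
-- import your own Cfsg.Agent.* helpers here

set_option autoImplicit false
universe u
open Cfsg

namespace Cfsg.Agent.S1753

theorem part1 (K : ∀ (X : Type u) [Group X], Prop) :
    ∀ (G : Type u) [Group G], Cfsg.IsMinCounterexampleWith K G → Cfsg.IsKProperWith K G := by
  intro G _ hmin
  obtain ⟨hfin, _hs, _hna, _hK, hsm⟩ := hmin
  intro H hH H' N _ hsimp hnc
  have : Finite G := hfin
  apply hsm (H' ⧸ N) hsimp hnc
  have h1 : Nat.card (H' ⧸ N) ≤ Nat.card H' := by
    have := Subgroup.card_eq_card_quotient_mul_card_subgroup N
    have hpos : 0 < Nat.card N := Nat.card_pos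
    rw [this]
    exact Nat.le_mul_of_pos_right _ hpos
  have h2 : Nat.card H' ≤ Nat.card H := Subgroup.card_le_card_group H'
  have h3 : Nat.card H < Nat.card G := by
    have h1 : 1 < H.index := Subgroup.one_lt_index_of_ne_top hH
    have h2 := Subgroup.card_mul_index H
    have hpos : 0 < Nat.card H := Nat.card_pos
    nlinarith
  omega

/-- Let K be any property of groups. (1) If G is a minimal counterexample relative to K — a finite non-abelian simple group not satisfying K such that every finite non-abelian simple group of smaller order satisfies K — then every proper subgroup of G is a K-group (all its non-abelian simple sections satisfy K), since such sections have smaller order than G. (2) Consequently (induction on the order), if every finite non-abelian simple group all of whose proper subgroups are K-groups satisfies K, then every finite non-abelian simple group satisfies K. -/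
theorem result (K : ∀ (X : Type u) [Group X], Prop) :
    (∀ (G : Type u) [Group G], Cfsg.IsMinCounterexampleWith K G → Cfsg.IsKProperWith K G) ∧
      ((∀ (X : Type u) [Group X] [Finite X], IsSimpleGroup X → ¬ IsMulCommutative X → Cfsg.IsKProperWith K X → K X) →
        ∀ (G : Type u) [Group G] [Finite G], IsSimpleGroup G → ¬ IsMulCommutative G → K G) := by
  refine ⟨part1 K, ?_⟩
  intro hstep
  have key : ∀ n : ℕ, ∀ (G : Type u) [Group G] [Finite G], Nat.card G = n →
      IsSimpleGroup G → ¬ IsMulCommutative G → K G := by
    intro n
    induction n using Nat.strong_induction_on with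
    | _ n ih =>
      intro G _ _ hn hs hna
      by_contra hK
      apply hK
      apply hstep G hs hna
      apply part1 K G
      refine ⟨inferInstance, hs, hna, hK, ?_⟩
      intro X _ _ hXs hXna hlt
      exact ih (Nat.card X) (hn ▸ hlt) X rfl hXs hXna
  intro G _ _ hs hna
  exact key (Nat.card G) G rfl hs hna

end Cfsg.Agent.S1753
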