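import Cfsg.Statements.S1755
import Cfsg.Agent.Lib.Helper9.Fitting
import Cfsg.Agent.Lib.Helper9.Involutions

set_option autoImplicit false
open Cfsg

namespace Cfsg.Agent.S1755

open Cfsg.Agent.Lib.Helper9

/-- conjugating the image of a subgroup of `C` by an element of `C`. -/
theorem map_subtype_map_conj {G : Type*} [Group G] (C : Subgroup G) (H : Subgroup C) (c : C) :
    (H.map C.subtype).map (MulAut.conj (c : G)).toMonoidHom =
      (H.map (MulAut.conj c).toMonoidHom).map C.subtype := by
  rw [Subgroup.map_map, Subgroup.map_map]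
  rfl

theorem aux {G : Type*} [Group G] [Finite G] (z : G) (hz : orderOf z = 2)
    (C : Subgroup G) (hC : C = Subgroup.centralizer ({z} : Set G))
    (Q : Subgroup C) (hQn : Q.Normal) (hzC : z ∈ C) (hzQ : (⟨z, hzC⟩ : C) ∈ Q)
    (hQ : Cfsg.IsOfSymplecticType ↥Q)
    (B : Subgroup ↥Q) (hBc : B.Characteristic) (hBa : IsMulCommutative ↥B) (g : G) :
    ((B.map Q.subtype).map C.subtype).map (MulAut.conj g).toMonoidHom =
        (B.map Q.subtype).map C.subtype ∨
      ((B.map Q.subtype).map C.subtype).map (MulAut.conj g).toMonoidHom ⊓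
        (B.map Q.subtype).map C.subtype = ⊥ := by
  obtain ⟨hQ2, hQsymp⟩ := hQ
  have hzCc : (⟨z, hzC⟩ : C) ∈ Subgroup.center C := by
    rw [Subgroup.mem_center_iff]
    intro c
    apply Subtype.ext
    have hc : (c : G) ∈ Subgroup.centralizer ({z} : Set G) := hC ▸ c.2
    rw [Subgroup.mem_centralizer_singleton_iff] at hc
    exact hc
  have hzQc : (⟨⟨z, hzC⟩, hzQ⟩ : Q) ∈ Subgroup.center Q := by
    rw [Subgroup.mem_center_iff]
    intro q
    apply Subtype.ext
    rw [Subgroup.mem_center_iff] at hzCc
    exact hzCc q.1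
  have hzQo : orderOf (⟨⟨z, hzC⟩, hzQ⟩ : Q) = 2 := by
    rw [Subgroup.orderOf_mk, Subgroup.orderOf_mk]; exact hz
  have hBcyc : IsCyclic B := hQsymp B hBc hBa
  -- every involution of B is z
  have hinv : ∀ b : Q, b ∈ B → orderOf b = 2 → ((b : C) : G) = z := by
    intro b hb hb2
    have hbc := involution_mem_center_of_characteristic_cyclic B hBc hBcyc hb hb2
    have := central_involution_unique hQsymp hbc hzQc hb2 hzQo
    rw [this]
  have hB'mem : ∀ x ∈ (B.map Q.subtype).map C.subtype, ∃ b : Q, b ∈ B ∧ ((b : C) : G) = x := by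
    rintro x ⟨c, ⟨b, hb, rfl⟩, rfl⟩
    exact ⟨b, hb, rfl⟩
  have hinv' : ∀ x ∈ (B.map Q.subtype).map C.subtype, orderOf x = 2 → x = z := by
    intro x hx hx2
    obtain ⟨b, hb, rfl⟩ := hB'mem x hx
    apply hinv b hb
    rw [← hx2, Subgroup.orderOf_coe, Subgroup.orderOf_coe]
  rcases eq_or_ne (((B.map Q.subtype).map C.subtype).map (MulAut.conj g).toMonoidHom ⊓
      (B.map Q.subtype).map C.subtype) ⊥ with h | h
  · right; exact h
  left
  obtain ⟨⟨x, hxmem⟩, hx1⟩ := (Subgroup.ne_bot_iff_exists_ne_one).mp h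
  have hx1' : x ≠ 1 := fun h => hx1 (Subtype.ext h)
  -- x has 2-power order
  obtain ⟨b, hb, hbx⟩ := hB'mem x hxmem.2
  obtain ⟨k, hk⟩ := (IsPGroup.iff_orderOf.mp hQ2) b
  have hxk : orderOf x = 2 ^ k := by
    rw [← hbx, Subgroup.orderOf_coe, Subgroup.orderOf_coe, hk]
  obtain ⟨m, hm⟩ := exists_pow_orderOf_eq_two hx1' hxk
  have hum : x ^ m ∈ ((B.map Q.subtype).map C.subtype).map (MulAut.conj g).toMonoidHom ⊓
      (B.map Q.subtype).map C.subtype := Subgroup.pow_mem _ hxmem m
  have hu1 : x ^ m = z := hinv' _ hum.2 hm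
  obtain ⟨y, hy, hyx⟩ := hum.1
  have hy2 : orderOf y = 2 := by
    rw [← hm, ← hyx]
    exact ((MulAut.conj g).orderOf_eq y).symm
  have hyz : y = z := hinv' y hy hy2
  have hgz : g * z * g⁻¹ = z := by
    have h1 : (MulAut.conj g) y = x ^ m := hyx
    rw [hyz, hu1, MulAut.conj_apply] at h1
    exact h1
  have hgC : g ∈ C := by
    rw [hC, Subgroup.mem_centralizer_singleton_iff]
    calc g * z = (g * z * g⁻¹) * g := by group
      _ = z * g := by rw [hgz]
  -- B.map Q.subtype is normal in C
  have hn : (B.map Q.subtype).Normal := ConjAct.normal_of_characteristic_of_normal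
  have := map_subtype_map_conj C (B.map Q.subtype) ⟨g, hgC⟩
  rw [this]
  congr 1
  exact Subgroup.Normal.conj_smul_eq_self (⟨g, hgC⟩ : C) (B.map Q.subtype)

/-- Let G be a finite group and let z be an involution of G such that Q, the generalized Fitting subgroup of the centralizer C of z, is a 2-group of symplectic type (every characteristic abelian subgroup of Q is cyclic). Let B be a characteristic abelian subgroup of Q, viewed as a subgroup of G. Then for every g in G, the conjugate of B by g either equals B or meets B trivially. -/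
theorem result {G : Type*} [Group G] [Finite G] (z : G) (hz : orderOf z = 2) (hQ : Cfsg.IsOfSymplecticType ↥(Cfsg.generalizedFittingSubgroup ↥(Subgroup.centralizer ({z} : Set G))))
    (B : Subgroup ↥(Cfsg.generalizedFittingSubgroup ↥(Subgroup.centralizer ({z} : Set G)))) (hBc : B.Characteristic) (hBa : IsMulCommutative ↥B) (g : G) :
    ((B.map (Cfsg.generalizedFittingSubgroup ↥(Subgroup.centralizer ({z} : Set G))).subtype).map (Subgroup.centralizer ({z} : Set G)).subtype).map (MulAut.conj g).toMonoidHom =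
        (B.map (Cfsg.generalizedFittingSubgroup ↥(Subgroup.centralizer ({z} : Set G))).subtype).map (Subgroup.centralizer ({z} : Set G)).subtype ∨
      ((B.map (Cfsg.generalizedFittingSubgroup ↥(Subgroup.centralizer ({z} : Set G))).subtype).map (Subgroup.centralizer ({z} : Set G)).subtype).map (MulAut.conj g).toMonoidHom ⊓
        (B.map (Cfsg.generalizedFittingSubgroup ↥(Subgroup.centralizer ({z} : Set G))).subtype).map (Subgroup.centralizer ({z} : Set G)).subtype = ⊥ := by
  have hzC : z ∈ Subgroup.centralizer ({z} : Set G) := Subgroup.mem_centralizer_singleton_iff.mpr rfl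
  have hzCc : (⟨z, hzC⟩ : Subgroup.centralizer ({z} : Set G)) ∈
      Subgroup.center (Subgroup.centralizer ({z} : Set G)) := by
    rw [Subgroup.mem_center_iff]
    intro c
    apply Subtype.ext
    have := c.2
    rw [Subgroup.mem_centralizer_singleton_iff] at this
    exact this
  exact aux z hz _ rfl _ (generalizedFittingSubgroup_normal _) hzC
    (fittingSubgroup_le_generalizedFittingSubgroup _ (mem_fittingSubgroup_of_mem_center hzCc))
    hQ B hBc hBa g

end Cfsg.Agent.S1755
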