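import Cfsg.Statements.S1756
import Cfsg.Agent.Lib.Helper17.ClassTwo
import Cfsg.Agent.Lib.Helper11.PGroupFrattini
open Cfsg.Agent.Lib.Helper17
open scoped commutatorElement

set_option autoImplicit false
open Cfsg

namespace Cfsg.Agent.S1756

/-- Let Q be an extraspecial 2-subgroup of the finite group G (special with centre of order 2) and t an involution of G normalizing Q such that the centralizer of t in Q has index at most 2 in Q. Then t lies in the product of Q with the centralizer of Q. -/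
theorem result {G : Type*} [Group G] [Finite G] (Q : Subgroup G)
    (hQ : Cfsg.IsExtraspecial 2 ↥Q) (t : G) (ht : orderOf t = 2) (htN : t ∈ Subgroup.normalizer (Q : Set G))
    (hi : (Subgroup.centralizer ({t} : Set G) ⊓ Q).relIndex Q ≤ 2) :
    t ∈ Q ⊔ Subgroup.centralizer (Q : Set G) := by
  classical
  obtain ⟨⟨hP, hfr, hco⟩, hZ⟩ := hQ
  have htt : t * t = 1 := by rw [← sq, ← ht, pow_orderOf_eq_one]
  have htinv : t⁻¹ = t := inv_eq_of_mul_eq_one_left htt
  have hconj : ∀ q ∈ Q, t * q * t⁻¹ ∈ Q := fun q hq => (Subgroup.mem_normalizer_iff.mp htN q).mp hq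
  by_cases hCQ : Q ≤ Subgroup.centralizer ({t} : Set G)
  · apply Subgroup.mem_sup_right
    rw [Subgroup.mem_centralizer_iff]
    intro q hq
    have := hCQ hq
    rw [Subgroup.mem_centralizer_singleton_iff] at this
    exact this
  -- E-level facts
  have hcommE : ∀ a b : Q, ⁅a, b⁆ ∈ Subgroup.center Q := by
    intro a b
    rw [← hco, commutator_def]
    exact Subgroup.commutator_mem_commutator (Subgroup.mem_top a) (Subgroup.mem_top b)
  have hsqE : ∀ a : Q, a ^ 2 ∈ Subgroup.center Q := by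
    intro a
    rw [← hfr]
    exact Cfsg.Agent.Lib.Helper11.pow_mem_frattini_of_isPGroup hP a
  -- the automorphism induced by t
  let τ : Q →* Q :=
    { toFun := fun q => ⟨t * q * t⁻¹, hconj q q.2⟩
      map_one' := by
        apply Subtype.ext
        show t * ((1 : Q) : G) * t⁻¹ = 1
        rw [Subgroup.coe_one, mul_one, mul_inv_cancel]
      map_mul' := by
        intro a b
        apply Subtype.ext
        show t * ((a * b : Q) : G) * t⁻¹ = (t * a * t⁻¹) * (t * b * t⁻¹)
        rw [Subgroup.coe_mul]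
        group }
  have hτ : ∀ q : Q, ((τ q : Q) : G) = t * q * t⁻¹ := fun q => rfl
  have hτ2 : ∀ q : Q, τ (τ q) = q := by
    intro q
    apply Subtype.ext
    rw [hτ, hτ, htinv]
    calc t * (t * (q : G) * t) * t = (t * t) * q * (t * t) := by group
      _ = q := by rw [htt, one_mul, mul_one]
  -- the fixed subgroup
  have hidx : ((Subgroup.centralizer ({t} : Set G) ⊓ Q).subgroupOf Q).index = 2 := by
    have h0 : (Subgroup.centralizer ({t} : Set G) ⊓ Q).relIndex Q ≠ 0 :=
      Subgroup.index_ne_zero_of_finite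
    have h1 : (Subgroup.centralizer ({t} : Set G) ⊓ Q).relIndex Q ≠ 1 := by
      rw [Ne, Subgroup.relIndex_eq_one]
      intro h
      exact hCQ (h.trans inf_le_left)
    have h2 : (Subgroup.centralizer ({t} : Set G) ⊓ Q).relIndex Q = 2 := by omega
    exact h2
  set M₀ : Subgroup Q := (Subgroup.centralizer ({t} : Set G) ⊓ Q).subgroupOf Q with hM₀
  have hMn : M₀.Normal := Subgroup.normal_of_index_eq_two hidx
  have hM : ∀ a : Q, a ∈ M₀ ↔ τ a = a := by
    intro a
    rw [hM₀, Subgroup.mem_subgroupOf, Subgroup.mem_inf, Subgroup.mem_centralizer_singleton_iff]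
    constructor
    · rintro ⟨h, -⟩
      apply Subtype.ext
      rw [hτ, ← h, mul_inv_cancel_right]
    · intro h
      refine ⟨?_, a.2⟩
      have h' : t * (a : G) * t⁻¹ = a := by rw [← hτ, h]
      calc (a : G) * t = (t * a * t⁻¹) * t := by rw [h']
        _ = t * a := by group
  have hmul : ∀ a b : Q, a * b ∈ M₀ ↔ (a ∈ M₀ ↔ b ∈ M₀) :=
    fun a b => Subgroup.mul_mem_iff_of_index_two hidx
  -- centre lies in M₀
  obtain ⟨zc, hzc1, hzcu⟩ := (Nat.card_eq_two_iff' (1 : Subgroup.center Q)).mp hZ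
  have hcen_eq : ∀ w : Q, w ∈ Subgroup.center Q → w ≠ 1 → w = (zc : Q) := by
    intro w hw hw1
    have := hzcu ⟨w, hw⟩ (fun h => hw1 (congrArg Subtype.val h))
    exact congrArg Subtype.val this
  have hτcen : ∀ w : Q, w ∈ Subgroup.center Q → τ w ∈ Subgroup.center Q := by
    intro w hw
    rw [Subgroup.mem_center_iff] at hw ⊢
    intro g
    have := hw (τ g)
    have h2 := congrArg τ this
    rw [map_mul, map_mul, hτ2] at h2
    exact h2
  have hcenM : Subgroup.center Q ≤ M₀ := by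
    intro w hw
    rw [hM]
    by_cases hw1 : w = 1
    · rw [hw1, map_one]
    · have h1 : τ w ≠ 1 := by
        intro h
        apply hw1
        have := congrArg τ h
        rwa [hτ2, map_one] at this
      exact (hcen_eq (τ w) (hτcen w hw) h1).trans (hcen_eq w hw hw1).symm
  -- an element outside M₀
  have hMtop : M₀ ≠ ⊤ := by
    intro h
    rw [← Subgroup.index_eq_one, hidx] at h
    norm_num at h
  obtain ⟨x, hx⟩ : ∃ x : Q, x ∉ M₀ := by
    by_contra hcon
    push_neg at hcon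
    exact hMtop (eq_top_iff.mpr (fun a _ => hcon a))
  have hc1 : ∀ m ∈ M₀, (x⁻¹ * τ x) * m = m * (x⁻¹ * τ x) := by
    intro m hm
    have h1 : x * m * x⁻¹ ∈ M₀ := hMn.conj_mem m hm x
    have h2 := (hM _).mp h1
    rw [map_mul, map_mul, map_inv, (hM m).mp hm] at h2
    calc (x⁻¹ * τ x) * m = x⁻¹ * (τ x * m * (τ x)⁻¹) * τ x := by group
      _ = x⁻¹ * (x * m * x⁻¹) * τ x := by rw [h2]
      _ = m * (x⁻¹ * τ x) := by group
  have hcall_of : ∀ c : Q, (∀ m ∈ M₀, c * m = m * c) → ∀ y : Q, y ∉ M₀ → c * y = y * c →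
      c ∈ Subgroup.center Q := by
    intro c hcm y hy hcy
    rw [Subgroup.mem_center_iff]
    intro q
    by_cases hq : q ∈ M₀
    · exact (hcm q hq).symm
    · have h1 : y⁻¹ * q ∈ M₀ := by
        rw [hmul, inv_mem_iff]
        exact ⟨fun h => absurd h hy, fun h => absurd h hq⟩
      have h2 := hcm _ h1
      have hcy' : c * y⁻¹ = y⁻¹ * c := by
        calc c * y⁻¹ = y⁻¹ * (y * c) * y⁻¹ := by group
          _ = y⁻¹ * (c * y) * y⁻¹ := by rw [hcy]
          _ = y⁻¹ * c := by group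
      calc q * c = y * ((y⁻¹ * q) * c) := by group
        _ = y * (c * (y⁻¹ * q)) := by rw [h2]
        _ = (y * c) * (y⁻¹ * q) := by group
        _ = (c * y) * (y⁻¹ * q) := by rw [hcy]
        _ = c * q := by group
  have hcM : x⁻¹ * τ x ∈ M₀ := by
    by_contra hnot
    have hcen : x⁻¹ * τ x ∈ Subgroup.center Q := hcall_of _ hc1 _ hnot rfl
    exact hnot (hcenM hcen)
  have hτc : τ (x⁻¹ * τ x) = x⁻¹ * τ x := (hM _).mp hcM
  have hcc : (x⁻¹ * τ x) * (x⁻¹ * τ x) = 1 := by
    have h1 : τ (τ x) = τ x * (x⁻¹ * τ x) := by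
      have : τ x = x * (x⁻¹ * τ x) := by group
      conv_lhs => rw [this, map_mul, hτc]
    rw [hτ2] at h1
    calc (x⁻¹ * τ x) * (x⁻¹ * τ x) = x⁻¹ * (τ x * (x⁻¹ * τ x)) := by group
      _ = x⁻¹ * x := by rw [← h1]
      _ = 1 := inv_mul_cancel x
  have hcx : (x⁻¹ * τ x) * x = x * (x⁻¹ * τ x) := by
    have h1 : x ^ 2 ∈ M₀ := hcenM (hsqE x)
    have h2 := (hM _).mp h1
    rw [map_pow, sq, sq] at h2
    -- τ x * τ x = x * x
    have h3 : (x⁻¹ * τ x) * x * (x⁻¹ * τ x) = x := by
      calc (x⁻¹ * τ x) * x * (x⁻¹ * τ x) = x⁻¹ * (τ x * τ x) := by group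
        _ = x⁻¹ * (x * x) := by rw [h2]
        _ = x := by group
    calc (x⁻¹ * τ x) * x = (x⁻¹ * τ x) * x * ((x⁻¹ * τ x) * (x⁻¹ * τ x)) := by rw [hcc, mul_one]
      _ = ((x⁻¹ * τ x) * x * (x⁻¹ * τ x)) * (x⁻¹ * τ x) := by group
      _ = x * (x⁻¹ * τ x) := by rw [h3]
  have hccen : x⁻¹ * τ x ∈ Subgroup.center Q := hcall_of _ hc1 x hx hcx
  have hcne : x⁻¹ * τ x ≠ 1 := by
    intro h
    apply hx
    rw [hM]
    calc τ x = x * (x⁻¹ * τ x) := by group
      _ = x := by rw [h, mul_one]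
  -- an element centralizing M₀ but not central
  haveI : Fintype Q := Fintype.ofFinite Q
  have hcount := card_centralizer_mul_card hZ hcommE M₀ hcenM
  have hcardE : Nat.card M₀ * 2 = Nat.card Q := by
    rw [← hidx]
    exact Subgroup.card_mul_index M₀
  have hM0pos : 0 < Nat.card M₀ := Nat.card_pos
  have h4 : Nat.card (Subgroup.centralizer (M₀ : Set Q)) = 4 := by
    rw [← hcardE] at hcount
    have : Nat.card (Subgroup.centralizer (M₀ : Set Q)) * Nat.card M₀ = 4 * Nat.card M₀ := by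
      rw [hcount]; ring
    exact Nat.eq_of_mul_eq_mul_right hM0pos this
  obtain ⟨u, huM, hucen⟩ : ∃ u : Q, u ∈ Subgroup.centralizer (M₀ : Set Q) ∧
      u ∉ Subgroup.center Q := by
    by_contra hcon
    push_neg at hcon
    have hle : Subgroup.centralizer (M₀ : Set Q) ≤ Subgroup.center Q := fun u hu => hcon u hu
    have := Subgroup.card_le_of_le hle
    rw [h4, hZ] at this
    omega
  have hum : ∀ m ∈ M₀, u * m = m * u := by
    intro m hm
    exact (Subgroup.mem_centralizer_iff.mp huM m hm).symm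
  have hux : u * x ≠ x * u := by
    intro h
    exact hucen (hcall_of u hum x hx h)
  have hcomm_ux : ⁅u, x⁆ = x⁻¹ * τ x := by
    have h1 : ⁅u, x⁆ ≠ 1 := by
      rw [Ne, commutatorElement_eq_one_iff_mul_comm]
      exact hux
    rw [hcen_eq _ (hcommE u x) h1, hcen_eq _ hccen hcne]
  -- τ is conjugation by u
  have hτu : ∀ q : Q, τ q = u * q * u⁻¹ := by
    have hxx : τ x = u * x * u⁻¹ := by
      have h1 : u * x * u⁻¹ = ⁅u, x⁆ * x := by
        rw [commutatorElement_def]; group
      rw [h1, hcomm_ux]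
      have h2 := Subgroup.mem_center_iff.mp hccen x
      rw [← h2]
      group
    intro q
    by_cases hq : q ∈ M₀
    · rw [(hM q).mp hq, hum q hq, mul_inv_cancel_right]
    · have h1 : x⁻¹ * q ∈ M₀ := by
        rw [hmul, inv_mem_iff]
        exact ⟨fun h => absurd h hx, fun h => absurd h hq⟩
      have h2 : q = x * (x⁻¹ * q) := by group
      conv_lhs => rw [h2, map_mul, (hM _).mp h1, hxx]
      calc u * x * u⁻¹ * (x⁻¹ * q) = u * x * (u⁻¹ * (x⁻¹ * q)) := by group
        _ = u * x * ((x⁻¹ * q) * u⁻¹) := by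
            have h3 := hum _ h1
            have h4 : u⁻¹ * (x⁻¹ * q) = (x⁻¹ * q) * u⁻¹ := by
              calc u⁻¹ * (x⁻¹ * q) = u⁻¹ * ((x⁻¹ * q) * u) * u⁻¹ := by group
                _ = u⁻¹ * (u * (x⁻¹ * q)) * u⁻¹ := by rw [h3]
                _ = (x⁻¹ * q) * u⁻¹ := by group
            rw [h4]
        _ = u * q * u⁻¹ := by group
  -- conclude
  have hdec : t = (u : G) * ((u : G)⁻¹ * t) := by group
  rw [hdec]
  apply Subgroup.mul_mem_sup u.2
  rw [Subgroup.mem_centralizer_iff]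
  intro q hq
  have h1 := congrArg Subtype.val (hτu ⟨q, hq⟩)
  rw [hτ] at h1
  have h2 : t * q * t⁻¹ = (u : G) * q * (u : G)⁻¹ := h1
  calc q * ((u : G)⁻¹ * t) = (u : G)⁻¹ * ((u : G) * q * (u : G)⁻¹) * t := by group
    _ = (u : G)⁻¹ * (t * q * t⁻¹) * t := by rw [h2]
    _ = (u : G)⁻¹ * t * q := by group

end Cfsg.Agent.S1756
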