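import Cfsg.Statements.S1757
-- import your own Cfsg.Agent.* helpers here

set_option autoImplicit false
open Cfsg

namespace Cfsg.Agent.S1757

/-- Let p be a prime and A, B p-subgroups of the finite group G, each of which meets every conjugate of itself other than itself trivially. Suppose the order of A is at most that of B, A and B intersect trivially, and B normalizes A. Then A and B commute elementwise. -/
theorem result {G : Type*} [Group G] [Finite G] (p : ℕ) [Fact p.Prime] (A B : Subgroup G)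
    (hA : IsPGroup p ↥A) (hB : IsPGroup p ↥B)
    (hAti : ∀ g : G, A.map (MulAut.conj g).toMonoidHom = A ∨ A.map (MulAut.conj g).toMonoidHom ⊓ A = ⊥)
    (hBti : ∀ g : G, B.map (MulAut.conj g).toMonoidHom = B ∨ B.map (MulAut.conj g).toMonoidHom ⊓ B = ⊥)
    (hle : Nat.card ↥A ≤ Nat.card ↥B) (hAB : A ⊓ B = ⊥) (hN : B ≤ Subgroup.normalizer (A : Set G)) : ⁅A, B⁆ = ⊥ := by
  classical
  rw [Subgroup.commutator_eq_bot_iff_le_centralizer]
  intro a ha
  rw [Subgroup.mem_centralizer_iff]
  -- key: b * a * b⁻¹ ∈ A for b ∈ B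
  have hconj : ∀ b ∈ B, ∀ x ∈ A, b * x * b⁻¹ ∈ A := by
    intro b hb x hx
    have := hN hb
    rw [Subgroup.mem_normalizer_iff] at this
    exact (this x).mp hx
  by_cases ha1 : a = 1
  · intro b _; simp [ha1]
  -- there is a nontrivial element of B commuting with a
  have hex : ∃ b ∈ B, b ≠ 1 ∧ b * a = a * b := by
    by_contra hcon
    push_neg at hcon
    -- the map B → A \ {1}, b ↦ b a b⁻¹ is injective
    let f : B → {x : A // x ≠ 1} := fun b =>
      ⟨⟨(b : G) * a * (b : G)⁻¹, hconj b b.2 a ha⟩, by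
        intro h
        apply ha1
        have h' : (b : G) * a * (b : G)⁻¹ = 1 := congrArg Subtype.val h
        have : a = (b : G)⁻¹ * ((b : G) * a * (b : G)⁻¹) * (b : G) := by group
        rw [this, h']; group⟩
    have hf : Function.Injective f := by
      intro b b' h
      have h' : (b : G) * a * (b : G)⁻¹ = (b' : G) * a * (b' : G)⁻¹ := by
        have := congrArg (fun x => ((x : {x : A // x ≠ 1}) : A).1) h
        exact this
      have hmem : (b' : G)⁻¹ * (b : G) ∈ B := B.mul_mem (B.inv_mem b'.2) b.2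
      have hcomm : ((b' : G)⁻¹ * (b : G)) * a = a * ((b' : G)⁻¹ * (b : G)) := by
        have : (b : G) * a = (b' : G) * a * (b' : G)⁻¹ * (b : G) := by
          rw [← h']; group
        calc ((b' : G)⁻¹ * (b : G)) * a = (b' : G)⁻¹ * ((b : G) * a) := by group
          _ = (b' : G)⁻¹ * ((b' : G) * a * (b' : G)⁻¹ * (b : G)) := by rw [this]
          _ = a * ((b' : G)⁻¹ * (b : G)) := by group
      have hone : (b' : G)⁻¹ * (b : G) = 1 := by
        by_contra hne
        exact hcon _ hmem hne hcomm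
      apply Subtype.ext
      have : (b : G) = (b' : G) * ((b' : G)⁻¹ * (b : G)) := by group
      rw [this, hone, mul_one]
    have hcard : Nat.card B ≤ Nat.card {x : A // x ≠ 1} := Nat.card_le_card_of_injective f hf
    have hlt : Nat.card {x : A // x ≠ 1} < Nat.card A :=
      Finite.card_subtype_lt (x := (1 : A)) (by simp)
    omega
  obtain ⟨b0, hb0, hb01, hb0c⟩ := hex
  -- conj a • B meets B nontrivially, so conj a • B = B
  have hBa : B.map (MulAut.conj a).toMonoidHom = B := by
    rcases hBti a with h | h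
    · exact h
    · exfalso
      apply hb01
      have hmem : b0 ∈ B.map (MulAut.conj a).toMonoidHom ⊓ B := by
        refine ⟨?_, hb0⟩
        refine ⟨b0, hb0, ?_⟩
        show a * b0 * a⁻¹ = b0
        rw [← hb0c]; group
      rw [h] at hmem
      exact (Subgroup.mem_bot).mp hmem
  intro b hb
  -- a b a⁻¹ ∈ B, and a b a⁻¹ b⁻¹ ∈ A
  have h1 : a * b * a⁻¹ ∈ B := by
    rw [← hBa]
    exact ⟨b, hb, rfl⟩
  have h2 : a * b * a⁻¹ * b⁻¹ ∈ B := B.mul_mem h1 (B.inv_mem hb)
  have h3 : a * b * a⁻¹ * b⁻¹ ∈ A := by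
    have : a * b * a⁻¹ * b⁻¹ = a * (b * a⁻¹ * b⁻¹) := by group
    rw [this]
    exact A.mul_mem ha (hconj b hb a⁻¹ (A.inv_mem ha))
  have h4 : a * b * a⁻¹ * b⁻¹ ∈ A ⊓ B := ⟨h3, h2⟩
  rw [hAB, Subgroup.mem_bot] at h4
  have : b * a = (a * b * a⁻¹ * b⁻¹)⁻¹ * (a * b) := by group
  rw [this, h4]; group

end Cfsg.Agent.S1757
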