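import Cfsg.Statements.S1774
import Cfsg.Agent.Lib.Helper20.SympType3

set_option autoImplicit false
open Cfsg

namespace Cfsg.Agent.S1774

/-- Let G be a finite group and let z be an involution of G such that Q, the generalized Fitting subgroup of the centralizer C of z, is a 2-group of symplectic type (every characteristic abelian subgroup of Q is cyclic); suppose every element of Q has order dividing 4. Let g ∈ G with z' = g z g⁻¹ ≠ z and z' ∈ Q. Then z lies in the conjugate g Q g⁻¹, and the subgroup X generated by Q and g Q g⁻¹ induces every automorphism of the four-group generated by z and z': for any two distinct non-identity elements u, v of that four-group there is x ∈ X with x z x⁻¹ = u and x z' x⁻¹ = v. -/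
theorem result {G : Type*} [Group G] [Finite G] (z : G) (hz : orderOf z = 2) (hQ : Cfsg.IsOfSymplecticType ↥(Cfsg.generalizedFittingSubgroup ↥(Subgroup.centralizer ({z} : Set G))))
    (h4 : ∀ q ∈ (Cfsg.generalizedFittingSubgroup ↥(Subgroup.centralizer ({z} : Set G))).map (Subgroup.centralizer ({z} : Set G)).subtype, q ^ 4 = 1) (g : G) (hne : g * z * g⁻¹ ≠ z) (hin : g * z * g⁻¹ ∈ (Cfsg.generalizedFittingSubgroup ↥(Subgroup.centralizer ({z} : Set G))).map (Subgroup.centralizer ({z} : Set G)).subtype) :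
    z ∈ ((Cfsg.generalizedFittingSubgroup ↥(Subgroup.centralizer ({z} : Set G))).map (Subgroup.centralizer ({z} : Set G)).subtype).map (MulAut.conj g).toMonoidHom ∧
      ∀ u ∈ Subgroup.closure ({z, g * z * g⁻¹} : Set G), ∀ v ∈ Subgroup.closure ({z, g * z * g⁻¹} : Set G),
        u ≠ 1 → v ≠ 1 → u ≠ v →
          ∃ x ∈ (Cfsg.generalizedFittingSubgroup ↥(Subgroup.centralizer ({z} : Set G))).map (Subgroup.centralizer ({z} : Set G)).subtype ⊔ ((Cfsg.generalizedFittingSubgroup ↥(Subgroup.centralizer ({z} : Set G))).map (Subgroup.centralizer ({z} : Set G)).subtype).map (MulAut.conj g).toMonoidHom, x * z * x⁻¹ = u ∧ x * (g * z * g⁻¹) * x⁻¹ = v := by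
  classical
  obtain ⟨hF2, hFchar⟩ := hQ
  have hFn := Cfsg.Agent.Lib.Helper9.generalizedFittingSubgroup_normal
    ↥(Subgroup.centralizer ({z} : Set G))
  have hFle := Cfsg.Agent.Lib.Helper20.centralizer_genFitting_le
    (G := ↥(Subgroup.centralizer ({z} : Set G)))
  have hP := Cfsg.Agent.Lib.Helper20.st_pair_of z hz _ hFn hFle hF2 hFchar h4
  obtain ⟨h1, ⟨q0, hq0, hq0z, hq0w⟩, ⟨r0, hr0, hr0z, hr0w⟩⟩ :=
    Cfsg.Agent.Lib.Helper20.st_main hP g hne hin
  refine ⟨h1, ?_⟩
  exact Cfsg.Agent.Lib.Helper20.st_S3 z (g * z * g⁻¹) _ _ hP.z2 (hP.conj g).z2 (hP.le _ hin)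
    q0 hq0 hq0z hq0w r0 hr0 hr0z hr0w

end Cfsg.Agent.S1774
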