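import Cfsg.Statements.S1780
import Mathlib
-- import your own Cfsg.Agent.* helpers here

set_option autoImplicit false
open Cfsg

namespace Cfsg.Agent.S1780

/-- Let A be a finite abelian 2-group and t an automorphism of A whose order is a power of 2. If every element of A fixed by t² is fixed by t, then t fixes every element of A. -/
theorem result {A : Type*} [CommGroup A] [Finite A]
    (hA : IsPGroup 2 A) (t : MulAut A) (ht : ∃ k : ℕ, orderOf t = 2 ^ k) (hC : ∀ a : A, t (t a) = a → t a = a) :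
    ∀ a : A, t a = a := by
  classical
  obtain ⟨k, hk⟩ := ht
  by_contra hne
  push_neg at hne
  obtain ⟨a₀, ha₀⟩ := hne
  -- N : a ↦ a⁻¹ * t a
  let N : A →* A :=
    { toFun := fun a => a⁻¹ * t a
      map_one' := by simp
      map_mul' := by
        intro a b
        simp only [map_mul, mul_inv_rev]
        rw [mul_comm b⁻¹ a⁻¹, mul_mul_mul_comm] }
  have hN : ∀ a, N a = a⁻¹ * t a := fun _ => rfl
  let B : Subgroup A := N.range
  have hB1 : ∃ b ∈ B, b ≠ 1 := by
    refine ⟨N a₀, ⟨a₀, rfl⟩, ?_⟩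
    rw [hN]
    intro h
    apply ha₀
    have := inv_mul_eq_one.mp h
    exact this.symm
  let Γ : Subgroup (MulAut A) := Subgroup.zpowers t
  have hΓ : IsPGroup 2 Γ := by
    apply IsPGroup.of_card (n := k)
    rw [Nat.card_zpowers, hk]
  have hinv : ∀ s : Γ, ∀ b ∈ B, (s : MulAut A) b ∈ B := by
    rintro ⟨s, hs⟩ _ ⟨a, rfl⟩
    refine ⟨s a, ?_⟩
    obtain ⟨n, rfl⟩ := Subgroup.mem_zpowers_iff.mp hs
    have hcomm : t * t ^ n = t ^ n * t := (Commute.zpow_right (Commute.refl t) n).eq
    have h2 : t ((t ^ n) a) = (t ^ n) (t a) := by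
      have := congrArg (fun f : MulAut A => f a) hcomm
      simpa [MulAut.mul_apply] using this
    show N ((t ^ n) a) = (t ^ n) (N a)
    rw [hN, hN, h2, map_mul, map_inv]
  let S : SubMulAction Γ A :=
    { carrier := B
      smul_mem' := fun s b hb => hinv s b hb }
  have hSB : ∀ x : A, x ∈ S ↔ x ∈ B := fun _ => Iff.rfl
  haveI : Finite S := Finite.of_injective (fun x : S => (x : A)) Subtype.val_injective
  have hcardS : Nat.card S = Nat.card B := rfl
  have h2S : 2 ∣ Nat.card S := by
    rw [hcardS]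
    have hBp : IsPGroup 2 B := hA.to_subgroup B
    obtain ⟨m, hm⟩ := IsPGroup.iff_card.mp hBp
    rcases Nat.eq_zero_or_pos m with rfl | hmpos
    · exfalso
      obtain ⟨b, hb, hb1⟩ := hB1
      have : B = ⊥ := by
        rw [← Subgroup.card_eq_one]; simpa using hm
      rw [this, Subgroup.mem_bot] at hb
      exact hb1 hb
    · rw [hm]; exact dvd_pow_self 2 hmpos.ne'
  let one : S := ⟨1, B.one_mem⟩
  have hone : one ∈ MulAction.fixedPoints Γ S := by
    intro s
    apply Subtype.ext
    show (s : MulAut A) • (1 : A) = 1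
    simp
  obtain ⟨b, hbfix, hb1⟩ := hΓ.exists_fixed_point_of_prime_dvd_card_of_fixed_point S h2S hone
  have hbB : (b : A) ∈ B := b.2
  have hbne : (b : A) ≠ 1 := by
    intro h
    apply hb1
    apply Subtype.ext
    exact h.symm
  have htb : t (b : A) = b := by
    have := hbfix ⟨t, Subgroup.mem_zpowers t⟩
    have := congrArg Subtype.val this
    simpa using this
  -- an element of order 2
  obtain ⟨j, hj⟩ := (IsPGroup.iff_orderOf.mp hA) (b : A)
  have hjpos : 0 < j := by
    rcases Nat.eq_zero_or_pos j with rfl | h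
    · exfalso; apply hbne; rw [pow_zero] at hj; exact orderOf_eq_one_iff.mp hj
    · exact h
  set b' : A := (b : A) ^ (2 ^ (j - 1)) with hb'
  have hb'B : b' ∈ B := B.pow_mem hbB _
  have hb'ne : b' ≠ 1 := by
    apply pow_ne_one_of_lt_orderOf (by positivity)
    rw [hj]
    exact Nat.pow_lt_pow_right (by norm_num) (by omega)
  have hb'2 : b' * b' = 1 := by
    rw [hb', ← pow_add, ← two_mul, ← pow_succ']
    have : j - 1 + 1 = j := by omega
    rw [this, ← hj, pow_orderOf_eq_one]
  have htb' : t b' = b' := by rw [hb', map_pow, htb]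
  obtain ⟨a, ha⟩ := hb'B
  rw [hN] at ha
  -- a⁻¹ * t (t a) = b' * t b' = 1
  have h3 : a⁻¹ * t (t a) = 1 := by
    have h4 : t b' = (t a)⁻¹ * t (t a) := by rw [← ha, map_mul, map_inv]
    calc a⁻¹ * t (t a) = (a⁻¹ * t a) * ((t a)⁻¹ * t (t a)) := by group
      _ = b' * t b' := by rw [ha, ← h4]
      _ = 1 := by rw [htb', hb'2]
  have h5 : t (t a) = a := (inv_mul_eq_one.mp h3).symm
  have h6 := hC a h5
  apply hb'ne
  rw [← ha, h6]; simp

end Cfsg.Agent.S1780
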