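import Cfsg.Statements.S1781
import Mathlib
import Cfsg.Agent.S1780
-- import your own Cfsg.Agent.* helpers here

set_option autoImplicit false
open Cfsg

namespace Cfsg.Agent.S1781

open IsMulCommutative in
/-- Key lemma: an element `d ∈ A₁ ∩ N(B₁)` with `d² ≠ 1` centralizes `B₁`. -/
theorem keyL {G : Type*} [Group G] [Finite G] (A₁ B₁ : Subgroup G)
    (hB2 : IsPGroup 2 ↥B₁) (hBa : IsMulCommutative ↥B₁)
    (hti : ∀ h : G, A₁.map (MulAut.conj h).toMonoidHom = A₁ ∨ A₁.map (MulAut.conj h).toMonoidHom ⊓ A₁ = ⊥)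
    (hAB : A₁ ⊓ B₁ = ⊥) (d : G) (hdA : d ∈ A₁) (hdN : d ∈ Subgroup.normalizer (B₁ : Set G))
    (hd2 : d ^ 2 ≠ 1) (hdord : ∃ k : ℕ, orderOf d = 2 ^ k) :
    ∀ b ∈ B₁, d * b * d⁻¹ = b := by
  classical
  have hmap : B₁.map (MulAut.conj d).toMonoidHom = B₁ := Subgroup.mem_normalizer_iff_map_conj_eq.mp hdN
  let t : MulAut ↥B₁ := ((MulAut.conj d).subgroupMap B₁).trans (MulEquiv.subgroupCongr hmap)
  have ht : ∀ b : ↥B₁, ((t b : ↥B₁) : G) = d * b * d⁻¹ := fun b => rfl
  have htpow : ∀ (n : ℕ) (b : ↥B₁), (((t ^ n) b : ↥B₁) : G) = d ^ n * b * (d ^ n)⁻¹ := by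
    intro n
    induction n with
    | zero => intro b; simp
    | succ n ih =>
      intro b
      rw [pow_succ', MulAut.mul_apply, ht, ih, pow_succ']
      group
  obtain ⟨k, hk⟩ := hdord
  have htk : t ^ (2 ^ k) = 1 := by
    ext b
    rw [htpow, ← hk, pow_orderOf_eq_one]
    simp
  have htord : ∃ j : ℕ, orderOf t = 2 ^ j := by
    have hdvd : orderOf t ∣ 2 ^ k := orderOf_dvd_of_pow_eq_one htk
    obtain ⟨j, -, hj⟩ := (Nat.dvd_prime_pow Nat.prime_two).mp hdvd
    exact ⟨j, hj⟩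
  have hC : ∀ b : ↥B₁, t (t b) = b → t b = b := by
    intro b hb
    have hb' : d * (d * b * d⁻¹) * d⁻¹ = (b : G) := by
      have := congrArg Subtype.val hb
      rw [ht, ht] at this
      exact this
    -- b centralizes d²
    have hbd : (b : G) * d ^ 2 * (b : G)⁻¹ = d ^ 2 := by
      have : d ^ 2 * (b : G) = (b : G) * d ^ 2 := by
        calc d ^ 2 * (b : G) = d * (d * b * d⁻¹) * d⁻¹ * d ^ 2 := by
              simp [pow_two, mul_assoc]
          _ = (b : G) * d ^ 2 := by rw [hb']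
      rw [← this]; group
    have hd2A : d ^ 2 ∈ A₁ := A₁.pow_mem hdA 2
    -- so A₁^b = A₁
    have hAb : A₁.map (MulAut.conj (b : G)).toMonoidHom = A₁ := by
      rcases hti (b : G) with h | h
      · exact h
      · exfalso
        apply hd2
        have : d ^ 2 ∈ A₁.map (MulAut.conj (b : G)).toMonoidHom ⊓ A₁ := by
          refine ⟨⟨d ^ 2, hd2A, ?_⟩, hd2A⟩
          show (b : G) * d ^ 2 * (b : G)⁻¹ = d ^ 2
          exact hbd
        rw [h, Subgroup.mem_bot] at this
        exact this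
    -- commutator in A₁ ⊓ B₁
    have hc : d * b * d⁻¹ * (b : G)⁻¹ ∈ A₁ ⊓ B₁ := by
      constructor
      · have h1 : (b : G) * d⁻¹ * (b : G)⁻¹ ∈ A₁ := by
          rw [← hAb]
          exact ⟨d⁻¹, A₁.inv_mem hdA, rfl⟩
        have : d * b * d⁻¹ * (b : G)⁻¹ = d * ((b : G) * d⁻¹ * (b : G)⁻¹) := by group
        rw [this]
        exact A₁.mul_mem hdA h1
      · have h1 : d * b * d⁻¹ ∈ B₁ := by
          rw [← ht]; exact (t b).2
        exact B₁.mul_mem h1 (B₁.inv_mem b.2)
    rw [hAB, Subgroup.mem_bot] at hc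
    apply Subtype.ext
    rw [ht]
    exact mul_inv_eq_one.mp hc
  have hall := Cfsg.Agent.S1780.result (A := ↥B₁) hB2 t htord hC
  intro b hb
  have := congrArg Subtype.val (hall ⟨b, hb⟩)
  rw [ht] at this
  exact this

/-- Let A be an abelian 2-subgroup of the finite group G such that every conjugate of A equals A or meets A trivially, and let g ∈ G with g A g⁻¹ ≠ A. Then either the subgroup of those elements of A that normalize g A g⁻¹ is an elementary abelian 2-group, or A and g A g⁻¹ commute elementwise. -/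
theorem result {G : Type*} [Group G] [Finite G] (A : Subgroup G)
    (hA2 : IsPGroup 2 ↥A) (hAa : IsMulCommutative ↥A)
    (hti : ∀ h : G, A.map (MulAut.conj h).toMonoidHom = A ∨ A.map (MulAut.conj h).toMonoidHom ⊓ A = ⊥)
    (g : G) (hg : A.map (MulAut.conj g).toMonoidHom ≠ A) :
    Cfsg.IsElementaryAbelian 2 (A ⊓ Subgroup.normalizer ((A.map (MulAut.conj g).toMonoidHom : Subgroup G) : Set G)) ∨
      ⁅A, A.map (MulAut.conj g).toMonoidHom⁆ = ⊥ := by
  classical
  set B := A.map (MulAut.conj g).toMonoidHom with hBdef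
  have hAB : A ⊓ B = ⊥ := by
    rcases hti g with h | h
    · exact absurd h hg
    · rw [inf_comm]; exact h
  have hBA : B ⊓ A = ⊥ := by rw [inf_comm]; exact hAB
  by_cases hel : ∀ d ∈ A ⊓ Subgroup.normalizer (B : Set G), d ^ 2 = 1
  · left
    refine ⟨?_, hel⟩
    have : IsMulCommutative ↥A := hAa
    exact ⟨⟨fun x y => Subtype.ext (by
      have := congrArg Subtype.val (hAa.is_comm.comm ⟨x.1, x.2.1⟩ ⟨y.1, y.2.1⟩)
      simpa using this)⟩⟩
  · right
    push Not at hel
    obtain ⟨d₀, hd₀, hd₀2⟩ := hel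
    have hord : ∀ x ∈ A, ∃ k : ℕ, orderOf x = 2 ^ k := by
      intro x hx
      obtain ⟨k, hk⟩ := (IsPGroup.iff_orderOf.mp hA2) ⟨x, hx⟩
      exact ⟨k, by rw [← hk]; exact (Subgroup.orderOf_mk x hx).symm⟩
    -- B is a 2-group, abelian, TI
    have hB2 : IsPGroup 2 ↥B := hA2.map _
    have hBa : IsMulCommutative ↥B := Subgroup.map_isMulCommutative A _
    have hBord : ∀ x ∈ B, ∃ k : ℕ, orderOf x = 2 ^ k := by
      intro x hx
      obtain ⟨k, hk⟩ := (IsPGroup.iff_orderOf.mp hB2) ⟨x, hx⟩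
      exact ⟨k, by rw [← hk]; exact (Subgroup.orderOf_mk x hx).symm⟩
    have hconjcomp : ∀ x y : G, (MulAut.conj (x * y)).toMonoidHom = (MulAut.conj x).toMonoidHom.comp (MulAut.conj y).toMonoidHom := by
      intro x y; ext z; simp [MulAut.conj_apply, mul_assoc]
    have htiB : ∀ h : G, B.map (MulAut.conj h).toMonoidHom = B ∨ B.map (MulAut.conj h).toMonoidHom ⊓ B = ⊥ := by
      intro h
      have e1 : B.map (MulAut.conj h).toMonoidHom = (A.map (MulAut.conj (g⁻¹ * h * g)).toMonoidHom).map (MulAut.conj g).toMonoidHom := by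
        rw [hBdef, Subgroup.map_map, Subgroup.map_map, ← hconjcomp, ← hconjcomp]
        congr 3; group
      rcases hti (g⁻¹ * h * g) with h1 | h1
      · left; rw [e1, h1]
      · right
        rw [e1, hBdef, ← Subgroup.map_inf_eq _ _ _ (MulAut.conj g).injective, h1, Subgroup.map_bot]
    -- Step 1: d₀ centralizes B
    have h1 := keyL A B hB2 hBa hti hAB d₀ hd₀.1 hd₀.2 hd₀2 (hord d₀ hd₀.1)
    have hd₀1 : d₀ ≠ 1 := by
      intro h; apply hd₀2; rw [h]; simp
    -- Step 2: B ≤ N(A)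
    have hBN : ∀ b ∈ B, b ∈ Subgroup.normalizer (A : Set G) := by
      intro b hb
      rw [Subgroup.mem_normalizer_iff_map_conj_eq]
      rcases hti b with h | h
      · exact h
      · exfalso
        apply hd₀1
        have : d₀ ∈ A.map (MulAut.conj b).toMonoidHom ⊓ A := by
          refine ⟨⟨d₀, hd₀.1, ?_⟩, hd₀.1⟩
          show b * d₀ * b⁻¹ = d₀
          have := h1 b hb
          calc b * d₀ * b⁻¹ = (d₀ * b * d₀⁻¹) * d₀ * b⁻¹ := by rw [this]
            _ = d₀ := by group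
        rw [h, Subgroup.mem_bot] at this
        exact this
    -- Step 3: e₀ = g d₀ g⁻¹ ∈ B with e₀² ≠ 1
    set e₀ := g * d₀ * g⁻¹ with he₀
    have he₀B : e₀ ∈ B := ⟨d₀, hd₀.1, rfl⟩
    have he₀2 : e₀ ^ 2 ≠ 1 := by
      intro h
      apply hd₀2
      have : e₀ ^ 2 = g * d₀ ^ 2 * g⁻¹ := by rw [he₀, conj_pow]
      rw [this] at h
      have := congrArg (fun x => g⁻¹ * x * g) h
      simpa [mul_assoc] using this
    -- every b ∈ B with b² ≠ 1 centralizes A
    have hcent1 : ∀ b ∈ B, b ^ 2 ≠ 1 → ∀ a ∈ A, b * a * b⁻¹ = a := fun b hb hb2 =>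
      keyL B A hA2 hAa htiB hBA b hb (hBN b hb) hb2 (hBord b hb)
    have hcent : ∀ b ∈ B, ∀ a ∈ A, b * a * b⁻¹ = a := by
      intro b hb a ha
      by_cases hb2 : b ^ 2 = 1
      · -- use e₀ * b
        have hcomm : e₀ * b = b * e₀ := by
          have := hBa.is_comm.comm ⟨e₀, he₀B⟩ ⟨b, hb⟩
          exact congrArg Subtype.val this
        have heb2 : (e₀ * b) ^ 2 ≠ 1 := by
          have : (e₀ * b) ^ 2 = e₀ ^ 2 * b ^ 2 := by
            rw [pow_two, pow_two, pow_two]
            calc e₀ * b * (e₀ * b) = e₀ * (b * e₀) * b := by group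
              _ = e₀ * (e₀ * b) * b := by rw [hcomm]
              _ = e₀ * e₀ * (b * b) := by group
          rw [this, hb2, mul_one]; exact he₀2
        have h2 := hcent1 (e₀ * b) (B.mul_mem he₀B hb) heb2 a ha
        have h3 := hcent1 e₀ he₀B he₀2 a ha
        -- b = e₀⁻¹ (e₀ b)
        calc b * a * b⁻¹ = e₀⁻¹ * ((e₀ * b) * a * (e₀ * b)⁻¹) * e₀ := by group
          _ = e₀⁻¹ * a * e₀ := by rw [h2]
          _ = e₀⁻¹ * (e₀ * a * e₀⁻¹) * e₀ := by rw [h3]
          _ = a := by group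
      · exact hcent1 b hb hb2 a ha
    rw [Subgroup.commutator_eq_bot_iff_le_centralizer]
    intro a ha
    rw [Subgroup.mem_centralizer_iff]
    intro b hb
    have := hcent b hb a ha
    calc b * a = (b * a * b⁻¹) * b := by group
      _ = a * b := by rw [this]

end Cfsg.Agent.S1781
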