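import Cfsg.Statements.S1782
import Mathlib
import Cfsg.Agent.Lib.Helper5.TIFamilyD
import Cfsg.Agent.Lib.Helper16.Frattini2

set_option autoImplicit false
open Cfsg

namespace Cfsg.Agent.S1782

open Cfsg.Agent.Lib.Helper5.TIFamily

/-- Let S be a finite 2-group and Δ a set of subgroups of S closed under conjugation by S, all of the same order, each with nontrivial Frattini subgroup, and such that two distinct members of Δ meet trivially. Then any two distinct members of Δ commute elementwise. -/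
theorem result {S : Type*} [Group S] [Finite S] (hS : IsPGroup 2 S)
    (Δ : Set (Subgroup S)) (hinv : ∀ s : S, ∀ R ∈ Δ, R.map (MulAut.conj s).toMonoidHom ∈ Δ)
    (hΦ : ∀ R ∈ Δ, frattini ↥R ≠ ⊥) (hord : ∀ R ∈ Δ, ∀ T ∈ Δ, Nat.card ↥R = Nat.card ↥T)
    (hti : ∀ R ∈ Δ, ∀ T ∈ Δ, R = T ∨ R ⊓ T = ⊥) :
    ∀ R ∈ Δ, ∀ T ∈ Δ, R ≠ T → ⁅R, T⁆ = ⊥ := by
  intro R hR T hT hne
  have hsq : ∀ X ∈ Δ, ∃ x ∈ X, x * x ≠ 1 := by
    intro X hX
    by_contra hcon
    push Not at hcon
    apply hΦ X hX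
    rw [eq_bot_iff]
    have hsq' : ∀ x : X, x * x = 1 := by
      intro x
      exact Subtype.ext (hcon x.1 x.2)
    apply Cfsg.Agent.Lib.Helper16.frattini_le_of_forall (p := 2) (⊥ : Subgroup X)
    · intro x y
      rw [Subgroup.mem_bot, commutatorElement_def]
      have hx : x⁻¹ = x := inv_eq_of_mul_eq_one_left (hsq' x)
      have hy : y⁻¹ = y := inv_eq_of_mul_eq_one_left (hsq' y)
      rw [hx, hy]
      have := hsq' (x * y)
      calc x * y * x * y = (x * y) * (x * y) := by group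
        _ = 1 := this
    · intro x
      rw [Subgroup.mem_bot, pow_two]
      exact hsq' x
  have hyp : Hyp (⊤ : Subgroup S) Δ :=
    ⟨fun _ _ => le_top, fun s _ X hX => hinv s X hX, hsq, hord, hti⟩
  have hcomm := main (Nat.card (⊤ : Subgroup S)) ⊤ rfl (hS.to_subgroup _) Δ hyp R hR T hT hne
  rw [Subgroup.commutator_eq_bot_iff_le_centralizer]
  intro r hr
  rw [Subgroup.mem_centralizer_iff]
  intro t ht
  exact (hcomm r hr t ht).symm

end Cfsg.Agent.S1782
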