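import Cfsg.Statements.S1783
import Mathlib
import Cfsg.Agent.Lib.Helper5.TISquaresC
import Cfsg.Agent.Lib.Helper20.Bender

set_option autoImplicit false
open Cfsg

namespace Cfsg.Agent.S1783

open Subgroup Cfsg.Agent.Lib.Helper5.TIFamily Cfsg.Agent.Lib.Helper5.TISquares

/-- Let X be a finite group whose generalized Fitting subgroup equals its largest normal 2-subgroup Q, and let A be an abelian 2-subgroup of X such that every conjugate of A equals A or meets A trivially. Let B be the subgroup generated by the squares of the elements of A. Then B lies in Q, and if B is not an elementary abelian 2-group then the normal closure of B in X is commutative. -/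
theorem result {X : Type*} [Group X] [Finite X]
    (hX : Cfsg.generalizedFittingSubgroup X = Cfsg.pCore 2 X) (A : Subgroup X) (hA2 : IsPGroup 2 ↥A) (hAa : IsMulCommutative ↥A)
    (hti : ∀ h : X, A.map (MulAut.conj h).toMonoidHom = A ∨ A.map (MulAut.conj h).toMonoidHom ⊓ A = ⊥) :
    Subgroup.closure ((fun a : X => a ^ 2) '' (A : Set X)) ≤ Cfsg.pCore 2 X ∧
      (¬ Cfsg.IsElementaryAbelian 2 (Subgroup.closure ((fun a : X => a ^ 2) '' (A : Set X))) →
        IsMulCommutative ↥(Subgroup.normalClosure ((fun a : X => a ^ 2) '' (A : Set X)))) := by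
  have hC : centralizer (Cfsg.pCore 2 X : Set X) ≤ Cfsg.pCore 2 X := by
    have := Cfsg.Agent.Lib.Helper20.centralizer_genFitting_le (G := X)
    rwa [hX] at this
  have hAa' : ∀ a ∈ A, ∀ b ∈ A, a * b = b * a := by
    intro a ha b hb
    have := hAa.is_comm.comm (⟨a, ha⟩ : A) ⟨b, hb⟩
    exact congrArg Subtype.val this
  have hti' : ∀ h : X, cj h A = A ∨ cj h A ⊓ A = ⊥ := hti
  have hQn : (Cfsg.pCore 2 X).Normal := Cfsg.Agent.Lib.Helper16.pCore_normal 2 X
  have hQp : IsPGroup 2 (Cfsg.pCore 2 X) := Cfsg.Agent.Lib.Helper20.pCore_isPGroup' 2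
  have hBQ : Subgroup.closure ((fun a : X => a ^ 2) '' (A : Set X)) ≤ Cfsg.pCore 2 X := by
    rw [closure_le]
    rintro _ ⟨a, ha, rfl⟩
    exact sq_mem_pCore hC A hA2 hAa' hti' ha
  refine ⟨hBQ, ?_⟩
  intro hne
  set B := Subgroup.closure ((fun a : X => a ^ 2) '' (A : Set X)) with hBdef
  have hBA : B ≤ A := by
    rw [hBdef, closure_le]
    rintro _ ⟨a, ha, rfl⟩
    exact A.pow_mem ha 2
  have hBcomm : ∀ a ∈ B, ∀ b ∈ B, a * b = b * a := fun a ha b hb => hAa' a (hBA ha) b (hBA hb)
  have hBc : IsMulCommutative B := ⟨⟨fun a b => Subtype.ext (hBcomm a a.2 b b.2)⟩⟩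
  -- an element of B with nontrivial square
  have hsq : ∃ x ∈ B, x * x ≠ 1 := by
    by_contra hcon
    push Not at hcon
    apply hne
    refine ⟨hBc, ?_⟩
    intro a ha
    rw [pow_two]; exact hcon a ha
  -- B is TI
  have hBti : ∀ h : X, cj h B = B ∨ cj h B ⊓ B = ⊥ := by
    intro h
    rcases hti' h with h1 | h1
    · left
      apply cj_eq_of_le
      show B.map (MulAut.conj h).toMonoidHom ≤ B
      rw [hBdef, MonoidHom.map_closure, closure_le]
      rintro _ ⟨_, ⟨a, ha, rfl⟩, rfl⟩
      apply Subgroup.subset_closure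
      refine ⟨h * a * h⁻¹, ?_, ?_⟩
      · rw [← h1]; exact conj_mem_cj ha
      · simp only [MulEquiv.coe_toMonoidHom, MulAut.conj_apply]
        rw [pow_two, pow_two]; group
    · right
      rw [eq_bot_iff, ← h1]
      exact inf_le_inf (cj_mono hBA) hBA
  have hcomm := comm_of_ti (Cfsg.pCore 2 X) hQp B hBti hsq Set.univ (fun _ _ _ _ => Set.mem_univ _)
    (fun i _ => by
      intro y hy
      rw [mem_cj] at hy
      have := hQn.conj_mem _ (hBQ hy) i
      have e : i * (i⁻¹ * y * i) * i⁻¹ = y := by group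
      rwa [e] at this)
  show IsMulCommutative (Subgroup.closure (Group.conjugatesOfSet ((fun a : X => a ^ 2) '' (A : Set X))))
  apply Subgroup.isMulCommutative_closure
  have hmem : ∀ x ∈ Group.conjugatesOfSet ((fun a : X => a ^ 2) '' (A : Set X)), ∃ g : X, x ∈ cj g B := by
    intro x hx
    obtain ⟨b, hb, hconj⟩ := Group.mem_conjugatesOfSet_iff.mp hx
    obtain ⟨g, hg⟩ := isConj_iff.mp hconj
    refine ⟨g, ?_⟩
    rw [← hg]
    exact conj_mem_cj (Subgroup.subset_closure hb)
  intro x hx y hy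
  obtain ⟨g, hxg⟩ := hmem x hx
  obtain ⟨g', hyg⟩ := hmem y hy
  by_cases heq : cj g B = cj g' B
  · rw [← heq] at hyg
    rw [mem_cj] at hxg hyg
    have := hBcomm _ hxg _ hyg
    calc x * y = g * ((g⁻¹ * x * g) * (g⁻¹ * y * g)) * g⁻¹ := by group
      _ = g * ((g⁻¹ * y * g) * (g⁻¹ * x * g)) * g⁻¹ := by rw [this]
      _ = y * x := by group
  · exact hcomm g (Set.mem_univ _) g' (Set.mem_univ _) heq x hxg y hyg

end Cfsg.Agent.S1783
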