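import Cfsg.Statements.S1784
import Mathlib
import Cfsg.Agent.Lib.Helper3.ExtraspecialInv
import Cfsg.Agent.Lib.Helper2.PGroupFrattini
import Cfsg.Agent.Lib.Helper9.Fitting
import Cfsg.Agent.Lib.Helper20.Bender
-- import your own Cfsg.Agent.* helpers here

set_option autoImplicit false
open Cfsg

namespace Cfsg.Agent.S1784

open scoped commutatorElement

/-- Let G be a finite group and let z be an involution of G such that Q, the generalized Fitting subgroup of the centralizer C of z, is a 2-group of symplectic type (every characteristic abelian subgroup of Q is cyclic); suppose Q is extraspecial, and view Q inside G. Let α be an involution of C that is not in Q, and let Q₀ be the subgroup of those q ∈ Q whose commutator with α lies in the subgroup generated by z. Then (a) the subgroup generated by the commutators α q α⁻¹ q⁻¹, q ∈ Q, equals the centre of Q₀; and (b) if Q₀ is not contained in the product of the centralizer of α in Q with the subgroup generated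 by z, then some element of Q conjugates α to α z. -/
theorem result {G : Type*} [Group G] [Finite G] (z : G) (hz : orderOf z = 2) (hQ : Cfsg.IsOfSymplecticType ↥(Cfsg.generalizedFittingSubgroup ↥(Subgroup.centralizer ({z} : Set G)))) (hE : Cfsg.IsExtraspecial 2 ↥(Cfsg.generalizedFittingSubgroup ↥(Subgroup.centralizer ({z} : Set G))))
    (α : G) (hα : orderOf α = 2) (hαC : α ∈ Subgroup.centralizer ({z} : Set G)) (hαQ : α ∉ (Cfsg.generalizedFittingSubgroup ↥(Subgroup.centralizer ({z} : Set G))).map (Subgroup.centralizer ({z} : Set G)).subtype)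
    (Q₀ : Subgroup G) (hQ₀ : ∀ q : G, q ∈ Q₀ ↔ (q ∈ (Cfsg.generalizedFittingSubgroup ↥(Subgroup.centralizer ({z} : Set G))).map (Subgroup.centralizer ({z} : Set G)).subtype ∧ α * q * α⁻¹ * q⁻¹ ∈ Subgroup.zpowers z)) :
    Subgroup.closure ((fun q : G => α * q * α⁻¹ * q⁻¹) '' ((Cfsg.generalizedFittingSubgroup ↥(Subgroup.centralizer ({z} : Set G))).map (Subgroup.centralizer ({z} : Set G)).subtype : Set G)) = (Subgroup.center ↥Q₀).map Q₀.subtype ∧
      (¬ Q₀ ≤ ((Cfsg.generalizedFittingSubgroup ↥(Subgroup.centralizer ({z} : Set G))).map (Subgroup.centralizer ({z} : Set G)).subtype ⊓ Subgroup.centralizer ({α} : Set G)) ⊔ Subgroup.zpowers z →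
        ∃ q ∈ (Cfsg.generalizedFittingSubgroup ↥(Subgroup.centralizer ({z} : Set G))).map (Subgroup.centralizer ({z} : Set G)).subtype, q * α * q⁻¹ = α * z) := by
  classical
  haveI : Fact (Nat.Prime 2) := ⟨Nat.prime_two⟩
  obtain ⟨⟨hF2, hFfr, hFcm⟩, hFcard⟩ := hE
  haveI hFn : (Cfsg.generalizedFittingSubgroup
      ↥(Subgroup.centralizer ({z} : Set G))).Normal :=
    Cfsg.Agent.Lib.Helper9.generalizedFittingSubgroup_normal _
  have hFle := Cfsg.Agent.Lib.Helper20.centralizer_genFitting_le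
    (G := ↥(Subgroup.centralizer ({z} : Set G)))
  generalize Cfsg.generalizedFittingSubgroup ↥(Subgroup.centralizer ({z} : Set G)) = F at *
  have hz2 : z * z = 1 := by rw [← pow_two, ← hz]; exact pow_orderOf_eq_one z
  have hz1 : z ≠ 1 := by intro h; rw [h, orderOf_one] at hz; norm_num at hz
  have hzinv : z⁻¹ = z := inv_eq_of_mul_eq_one_right hz2
  have hα2 : α * α = 1 := by rw [← pow_two, ← hα]; exact pow_orderOf_eq_one α
  have hαinv : α⁻¹ = α := inv_eq_of_mul_eq_one_right hα2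
  have hzα : z * α = α * z := Subgroup.mem_centralizer_iff.mp hαC z rfl
  have hzC : z ∈ Subgroup.centralizer ({z} : Set G) := by
    rw [Subgroup.mem_centralizer_iff]; intro h hh; rw [Set.mem_singleton_iff.mp hh]
  have hzcen : ∀ c : ↥(Subgroup.centralizer ({z} : Set G)),
      (⟨z, hzC⟩ : ↥(Subgroup.centralizer ({z} : Set G))) * c = c * ⟨z, hzC⟩ := by
    intro c; apply Subtype.ext
    exact Subgroup.mem_centralizer_iff.mp c.2 z rfl
  have hzF : (⟨z, hzC⟩ : ↥(Subgroup.centralizer ({z} : Set G))) ∈ F := by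
    apply hFle
    rw [Subgroup.mem_centralizer_iff]
    intro h _
    exact (hzcen h).symm
  obtain ⟨zF, hzFdef⟩ : ∃ zF : ↥F, zF = ⟨⟨z, hzC⟩, hzF⟩ := ⟨_, rfl⟩
  have hzFval : ((zF : ↥(Subgroup.centralizer ({z} : Set G))) : G) = z := by rw [hzFdef]
  have hzF2 : zF * zF = 1 := by rw [hzFdef]; exact Subtype.ext (Subtype.ext hz2)
  have hzF1 : zF ≠ 1 := by
    intro h
    apply hz1
    rw [← hzFval, h]; rfl
  have hzFc : ∀ y : ↥F, zF * y = y * zF := by
    intro y; rw [hzFdef]; exact Subtype.ext (hzcen y.1)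
  have hzFcen : zF ∈ Subgroup.center ↥F :=
    Subgroup.mem_center_iff.mpr (fun y => (hzFc y).symm)
  have hcenEq : Subgroup.zpowers zF = Subgroup.center ↥F := by
    apply Subgroup.eq_of_le_of_card_ge (Subgroup.zpowers_le.mpr hzFcen)
    rw [hFcard, Nat.card_zpowers]
    exact (orderOf_eq_prime (by rw [pow_two]; exact hzF2) hzF1).ge
  have hcenF : ∀ x : ↥F, x ∈ Subgroup.center ↥F → x = 1 ∨ x = zF := by
    intro x hx
    rw [← hcenEq] at hx
    exact (Cfsg.Agent.Lib.Helper3.mem_zpowers_iff_of_sq zF hzF2 x).mp hx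
  have hcomm : ∀ x y : ↥F, ⁅x, y⁆ = 1 ∨ ⁅x, y⁆ = zF := by
    intro x y
    apply hcenF
    rw [← hFcm, commutator_def]
    exact Subgroup.commutator_mem_commutator (Subgroup.mem_top x) (Subgroup.mem_top y)
  have hsq : ∀ x : ↥F, x * x = 1 ∨ x * x = zF := by
    intro x
    apply hcenF
    rw [← hFfr, ← pow_two]
    exact Cfsg.Agent.Lib.Helper2.pow_mem_frattini_of_isPGroup hF2 x
  have hcen : ∀ x : ↥F, (∀ y, x * y = y * x) → x = 1 ∨ x = zF := by
    intro x hx
    apply hcenF
    exact Subgroup.mem_center_iff.mpr (fun y => (hx y).symm)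
  obtain ⟨α', hα'def⟩ : ∃ α' : ↥(Subgroup.centralizer ({z} : Set G)), α' = ⟨α, hαC⟩ := ⟨_, rfl⟩
  have hα'val : (α' : G) = α := by rw [hα'def]
  let σ : ↥F →* ↥F := MonoidHom.mk' (fun x => ⟨α' * x * α'⁻¹, hFn.conj_mem x x.2 α'⟩) (by
    intro a b; apply Subtype.ext; simp only [Subgroup.coe_mul]; group)
  have hσ_apply : ∀ x : ↥F, (((σ x : ↥F) : ↥(Subgroup.centralizer ({z} : Set G))) : G) =
      α * x * α⁻¹ := by
    intro x
    show ((α' * (x : ↥(Subgroup.centralizer ({z} : Set G))) * α'⁻¹ :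
      ↥(Subgroup.centralizer ({z} : Set G))) : G) = _
    rw [hα'def]; rfl
  have hext : ∀ a b : ↥F, ((a : ↥(Subgroup.centralizer ({z} : Set G))) : G) = b → a = b :=
    fun a b h => Subtype.ext (Subtype.ext h)
  have hσ2 : ∀ x, σ (σ x) = x := by
    intro x
    apply hext
    rw [hσ_apply, hσ_apply, hαinv]
    calc α * (α * ((x : ↥(Subgroup.centralizer ({z} : Set G))) : G) * α) * α
        = (α * α) * x * (α * α) := by group
      _ = x := by rw [hα2]; group
  have hσz : σ zF = zF := by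
    apply hext
    rw [hσ_apply, hzFval]
    calc α * z * α⁻¹ = (z * α) * α⁻¹ := by rw [hzα]
      _ = z := by group
  have hσnc : ∃ q, σ q ≠ q := by
    by_contra hne
    push_neg at hne
    apply hαQ
    have : α' ∈ F := by
      apply hFle
      rw [Subgroup.mem_centralizer_iff]
      intro h hh
      have h1 := hne ⟨h, hh⟩
      have h2 : α' * h * α'⁻¹ = h := congrArg Subtype.val h1
      calc h * α' = (α' * h * α'⁻¹) * α' := by rw [h2]
        _ = α' * h := by group
    exact ⟨α', this, hα'val⟩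
  -- the subgroup P₀
  have hP₀ : ∀ q : ↥F, q ∈ Q₀.comap ((Subgroup.centralizer ({z} : Set G)).subtype.comp F.subtype) ↔
      (σ q * q⁻¹ = 1 ∨ σ q * q⁻¹ = zF) := by
    intro q
    rw [Subgroup.mem_comap, hQ₀]
    have hmem : ((Subgroup.centralizer ({z} : Set G)).subtype.comp F.subtype) q ∈
        F.map (Subgroup.centralizer ({z} : Set G)).subtype := ⟨q.1, q.2, rfl⟩
    have hval : ((Subgroup.centralizer ({z} : Set G)).subtype.comp F.subtype) q =
        ((q : ↥(Subgroup.centralizer ({z} : Set G))) : G) := rfl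
    rw [Cfsg.Agent.Lib.Helper3.mem_zpowers_iff_of_sq z hz2, hval]
    have hcoe : (((σ q * q⁻¹ : ↥F) : ↥(Subgroup.centralizer ({z} : Set G))) : G) =
        α * ((q : ↥(Subgroup.centralizer ({z} : Set G))) : G) * α⁻¹ *
          (((q : ↥(Subgroup.centralizer ({z} : Set G))) : G))⁻¹ := by
      rw [Subgroup.coe_mul, Subgroup.coe_mul, hσ_apply]; rfl
    constructor
    · rintro ⟨-, h | h⟩
      · left; apply hext; rw [hcoe, h]; rfl
      · right; apply hext; rw [hcoe, h, hzFval]
    · intro h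
      refine ⟨hmem, ?_⟩
      rcases h with h | h
      · left; rw [← hcoe, h]; rfl
      · right; rw [← hcoe, h, hzFval]
  have key := Cfsg.Agent.Lib.Helper3.closure_comm_eq_center zF hzF2 hzF1 hzFc hcomm hsq hcen σ
    hσ2 hσz hσnc _ hP₀
  refine ⟨?_, ?_⟩
  · have himg : (fun q : G => α * q * α⁻¹ * q⁻¹) ''
        (F.map (Subgroup.centralizer ({z} : Set G)).subtype : Set G) =
        ((Subgroup.centralizer ({z} : Set G)).subtype.comp F.subtype) ''
          (Set.range fun q : ↥F => σ q * q⁻¹) := by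
      ext g
      constructor
      · rintro ⟨_, ⟨c, hc, rfl⟩, rfl⟩
        refine ⟨σ ⟨c, hc⟩ * (⟨c, hc⟩ : ↥F)⁻¹, ⟨⟨c, hc⟩, rfl⟩, ?_⟩
        show (((σ ⟨c, hc⟩ * (⟨c, hc⟩ : ↥F)⁻¹ : ↥F) : ↥(Subgroup.centralizer ({z} : Set G))) : G) = _
        rw [Subgroup.coe_mul, Subgroup.coe_mul, hσ_apply]; rfl
      · rintro ⟨_, ⟨q, rfl⟩, rfl⟩
        refine ⟨((q : ↥(Subgroup.centralizer ({z} : Set G))) : G), ⟨q.1, q.2, rfl⟩, ?_⟩
        show _ = (((σ q * q⁻¹ : ↥F) : ↥(Subgroup.centralizer ({z} : Set G))) : G)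
        rw [Subgroup.coe_mul, Subgroup.coe_mul, hσ_apply]; rfl
    rw [himg, ← MonoidHom.map_closure, key]
    ext x
    rw [Cfsg.Agent.Lib.Helper3.mem_center_map_subtype]
    constructor
    · rintro ⟨y, hy, rfl⟩
      rw [SetLike.mem_coe, Cfsg.Agent.Lib.Helper3.mem_center_map_subtype] at hy
      obtain ⟨hyP, hyc⟩ := hy
      refine ⟨hyP, fun w hw => ?_⟩
      obtain ⟨hwF, -⟩ := (hQ₀ w).mp hw
      obtain ⟨c, hc, rfl⟩ := hwF
      have h1 := hyc ⟨c, hc⟩ hw
      have h2 := congrArg (fun t : ↥F => ((t : ↥(Subgroup.centralizer ({z} : Set G))) : G)) h1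
      exact h2
    · rintro ⟨hx, hxc⟩
      obtain ⟨hxF, -⟩ := (hQ₀ x).mp hx
      obtain ⟨c, hc, rfl⟩ := hxF
      refine ⟨⟨c, hc⟩, ?_, rfl⟩
      rw [SetLike.mem_coe, Cfsg.Agent.Lib.Helper3.mem_center_map_subtype]
      refine ⟨hx, fun w hw => ?_⟩
      have h1 := hxc _ hw
      exact hext _ _ h1
  · intro hnot
    obtain ⟨q, hqQ₀, hqn⟩ := SetLike.not_le_iff_exists.mp hnot
    obtain ⟨hqF, hqz⟩ := (hQ₀ q).mp hqQ₀
    rw [Cfsg.Agent.Lib.Helper3.mem_zpowers_iff_of_sq z hz2] at hqz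
    refine ⟨q, hqF, ?_⟩
    rcases hqz with h | h
    · exfalso
      apply hqn
      apply Subgroup.mem_sup_left
      refine Subgroup.mem_inf.mpr ⟨hqF, ?_⟩
      rw [Subgroup.mem_centralizer_iff]
      intro w hw
      rw [Set.mem_singleton_iff.mp hw]
      calc α * q = (α * q * α⁻¹ * q⁻¹) * (q * α) := by group
        _ = q * α := by rw [h, one_mul]
    · calc q * α * q⁻¹ = (α⁻¹ * (α * q * α⁻¹ * q⁻¹))⁻¹ := by group
        _ = (α⁻¹ * z)⁻¹ := by rw [h]
        _ = z⁻¹ * α := by group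
        _ = z * α := by rw [hzinv]
        _ = α * z := hzα

end Cfsg.Agent.S1784
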