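import Cfsg.Statements.S1785
import Mathlib
import Cfsg.Agent.Lib.Helper3.ElemAb2
-- import your own Cfsg.Agent.* helpers here

set_option autoImplicit false
open Cfsg

namespace Cfsg.Agent.S1785

open Cfsg.Agent.Lib.Helper3

/-- one step: an `E₈` not inside `E` commutes with an `E₈` meeting `E` in a larger subgroup -/
theorem step {X : Type*} [Group X] [Finite X] (E : Subgroup X) [hEn : E.Normal] (hE : EA2 E)
    (hE32 : 32 ≤ Nat.card ↥E) (D : Subgroup X) (hD : EA2 D) (hD8 : Nat.card ↥D = 8)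
    (hDE : ¬ D ≤ E) :
    ∃ D' : Subgroup X, EA2 D' ∧ Nat.card ↥D' = 8 ∧ ⁅D, D'⁆ = ⊥ ∧
      Nat.card ↥(D ⊓ E) < Nat.card ↥(D' ⊓ E) := by
  have hlt : D ⊓ E < D := lt_of_le_of_ne inf_le_left (fun h => hDE (h ▸ inf_le_right))
  obtain ⟨D₂, h02, h2D, hc2⟩ := exists_index_two_between (D ⊓ E) D hD.isPGroup hlt
  obtain ⟨e, heE, heC, heD⟩ := exists_mem_cent_not_mem E hE hE32 D hD (by rw [hD8])
  have he2 : e ^ 2 = 1 := hE.2 e heE
  have heD₂ : e ∉ D₂ := fun h => heD (h2D h)
  have heC₂ : e ∈ Subgroup.centralizer (D₂ : Set X) := by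
    rw [Subgroup.mem_centralizer_iff]
    intro u hu
    exact Subgroup.mem_centralizer_iff.mp heC u (h2D hu)
  obtain ⟨hea, hcard⟩ := ea2_sup_zpowers D₂ (hD.mono h2D) e he2 heD₂ heC₂
  refine ⟨D₂ ⊔ Subgroup.zpowers e, hea, by omega, ?_, ?_⟩
  · rw [Subgroup.commutator_comm, Subgroup.commutator_eq_bot_iff_le_centralizer]
    apply sup_le
    · intro u hu
      rw [Subgroup.mem_centralizer_iff]
      intro v hv
      exact hD.1 v hv u (h2D hu)
    · exact Subgroup.zpowers_le.mpr heC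
  · have hle : D ⊓ E ≤ (D₂ ⊔ Subgroup.zpowers e) ⊓ E :=
      le_inf (h02.trans le_sup_left) inf_le_right
    by_contra hcon
    have heq := Subgroup.eq_of_le_of_card_ge hle (not_lt.mp hcon)
    apply heD
    have hmem : e ∈ (D₂ ⊔ Subgroup.zpowers e) ⊓ E :=
      Subgroup.mem_inf.mpr ⟨(le_sup_right : Subgroup.zpowers e ≤ _) (Subgroup.mem_zpowers e), heE⟩
    rw [← heq] at hmem
    exact (Subgroup.mem_inf.mp hmem).1

/-- the relation of the statement, in `EA2` form -/
def Rel {X : Type*} [Group X] (C D : Subgroup X) : Prop :=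
  Cfsg.IsElementaryAbelian 2 C ∧ Nat.card ↥C = 8 ∧ Cfsg.IsElementaryAbelian 2 D ∧
    Nat.card ↥D = 8 ∧ ⁅C, D⁆ = ⊥

theorem reach {X : Type*} [Group X] [Finite X] (E : Subgroup X) [hEn : E.Normal] (hE : EA2 E)
    (hE32 : 32 ≤ Nat.card ↥E) :
    ∀ (k : ℕ) (D : Subgroup X), EA2 D → Nat.card ↥D = 8 → 8 - Nat.card ↥(D ⊓ E) ≤ k →
      ∃ Ds : Subgroup X, EA2 Ds ∧ Nat.card ↥Ds = 8 ∧ Ds ≤ E ∧ Relation.ReflTransGen Rel D Ds := by
  intro k
  induction k with
  | zero =>
    intro D hD hD8 hk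
    have h1 : Nat.card ↥D ≤ Nat.card ↥(D ⊓ E) := by omega
    have h2 : D ⊓ E = D := Subgroup.eq_of_le_of_card_ge inf_le_left h1
    exact ⟨D, hD, hD8, h2 ▸ inf_le_right, Relation.ReflTransGen.refl⟩
  | succ k ih =>
    intro D hD hD8 hk
    by_cases hDE : D ≤ E
    · exact ⟨D, hD, hD8, hDE, Relation.ReflTransGen.refl⟩
    · obtain ⟨D', hD', hD'8, hcomm, hlt⟩ := step E hE hE32 D hD hD8 hDE
      have hle8 : Nat.card ↥(D' ⊓ E) ≤ 8 := by
        rw [← hD'8]; exact Subgroup.card_le_of_le inf_le_left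
      obtain ⟨Ds, h1, h2, h3, h4⟩ := ih D' hD' hD'8 (by omega)
      refine ⟨Ds, h1, h2, h3, Relation.ReflTransGen.head ?_ h4⟩
      exact ⟨(ea2_iff D).mpr hD, hD8, (ea2_iff D').mpr hD', hD'8, hcomm⟩

theorem rtg_symm {α : Type*} {r : α → α → Prop} (hs : Symmetric r) {a b : α}
    (h : Relation.ReflTransGen r a b) : Relation.ReflTransGen r b a := by
  induction h with
  | refl => exact Relation.ReflTransGen.refl
  | tail _ hcd ih => exact Relation.ReflTransGen.head (hs hcd) ih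

/-- Let X be a finite 2-group having a normal elementary abelian subgroup of order at least 32. Then (a) for any two elementary abelian subgroups A, B of X of order 8 there is a chain A = A₁, A₂, …, Aₙ = B of elementary abelian subgroups of order 8 in which consecutive members commute elementwise; and (b) every elementary abelian subgroup of X of order 4 is contained in an elementary abelian subgroup of order 8. -/
theorem result {X : Type*} [Group X] [Finite X]
    (hX : IsPGroup 2 X) (E : Subgroup X) [E.Normal] (hE : Cfsg.IsElementaryAbelian 2 E) (hE32 : 32 ≤ Nat.card ↥E) :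
    (∀ A B : Subgroup X, Cfsg.IsElementaryAbelian 2 A → Nat.card ↥A = 8 → Cfsg.IsElementaryAbelian 2 B → Nat.card ↥B = 8 →
        Relation.ReflTransGen
          (fun C D : Subgroup X => Cfsg.IsElementaryAbelian 2 C ∧ Nat.card ↥C = 8 ∧ Cfsg.IsElementaryAbelian 2 D ∧ Nat.card ↥D = 8 ∧ ⁅C, D⁆ = ⊥)
          A B) ∧
      (∀ V : Subgroup X, Cfsg.IsElementaryAbelian 2 V → Nat.card ↥V = 4 →
        ∃ A : Subgroup X, V ≤ A ∧ Cfsg.IsElementaryAbelian 2 A ∧ Nat.card ↥A = 8) := by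
  classical
  have hE' : EA2 E := (ea2_iff E).mp hE
  constructor
  · intro A B hA hA8 hB hB8
    obtain ⟨As, hAs, hAs8, hAsE, hA1⟩ := reach E hE' hE32 8 A ((ea2_iff A).mp hA) hA8 (by omega)
    obtain ⟨Bs, hBs, hBs8, hBsE, hB1⟩ := reach E hE' hE32 8 B ((ea2_iff B).mp hB) hB8 (by omega)
    have hsymm : Symmetric (Rel (X := X)) := by
      rintro C D ⟨h1, h2, h3, h4, h5⟩
      exact ⟨h3, h4, h1, h2, by rw [Subgroup.commutator_comm]; exact h5⟩
    have hmid : Rel As Bs := by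
      refine ⟨(ea2_iff As).mpr hAs, hAs8, (ea2_iff Bs).mpr hBs, hBs8, ?_⟩
      rw [Subgroup.commutator_eq_bot_iff_le_centralizer]
      intro u hu
      rw [Subgroup.mem_centralizer_iff]
      intro v hv
      exact hE'.1 v (hBsE hv) u (hAsE hu)
    have hB2 : Relation.ReflTransGen Rel Bs B := rtg_symm hsymm hB1
    exact (hA1.tail hmid).trans hB2
  · intro V hV hV4
    have hV' : EA2 V := (ea2_iff V).mp hV
    obtain ⟨e, heE, heC, heV⟩ := exists_mem_cent_not_mem E hE' hE32 V hV' (by rw [hV4]; norm_num)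
    obtain ⟨hea, hcard⟩ := ea2_sup_zpowers V hV' e (hE'.2 e heE) heV heC
    exact ⟨V ⊔ Subgroup.zpowers e, le_sup_left, (ea2_iff _).mpr hea, by omega⟩

end Cfsg.Agent.S1785
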