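import Mathlib
import Cfsg.Statements.S1850
import Cfsg.Agent.Lib.Helper16.CharPBridge

set_option autoImplicit false
set_option maxHeartbeats 1000000
open Cfsg Cfsg.Agent.Lib.Helper16
open scoped Pointwise

namespace Cfsg.Agent.S1850

/-- Let G be a non-abelian finite simple QTKE-group and T a Sylow 2-subgroup of G. If U is a nontrivial 2-subgroup of G with U ∩ Z(T) ≠ 1, then F*(N_G(U)) = O₂(N_G(U)). -/
theorem result {G : Type*} [Group G] [Finite G] [IsSimpleGroup G]
    (hG : ¬ IsMulCommutative G) (hQ : Cfsg.IsQTKE G) (T : Sylow 2 G) (U : Subgroup G)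
    (hU : IsPGroup 2 ↥U) (hZ : U ⊓ ((T : Subgroup G) ⊓ Subgroup.centralizer ((T : Subgroup G) : Set G)) ≠ ⊥) :
    Subgroup.normalizer (U : Set G) ∈ Cfsg.calHe G := by
  have hp2 : Fact (Nat.Prime 2) := ⟨Nat.prime_two⟩
  have hZp : IsPGroup 2 ↥(U ⊓ ((T : Subgroup G) ⊓ Subgroup.centralizer ((T : Subgroup G) : Set G))) :=
    hU.to_le inf_le_left
  obtain ⟨z, hz, hz2, -⟩ :=
    Cfsg.Agent.Lib.Helper20.exists_central_orderOf_eq_prime_of_isPGroup 2 _ hZp hZ
  have hzU : z ∈ U := (Subgroup.mem_inf.mp hz).1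
  have hzC : z ∈ Subgroup.centralizer ((T : Subgroup G) : Set G) :=
    (Subgroup.mem_inf.mp (Subgroup.mem_inf.mp hz).2).2
  have hz1 : z ≠ 1 := by
    intro h
    rw [h, orderOf_one] at hz2
    norm_num at hz2
  set Zz : Subgroup G := Subgroup.zpowers z with hZz
  have hZzU : Zz ≤ U := Subgroup.zpowers_le.mpr hzU
  have hZzp : IsPGroup 2 ↥Zz := hU.to_le hZzU
  have hZz1 : Zz ≠ ⊥ := Subgroup.zpowers_ne_bot.mpr hz1
  set M : Subgroup G := Subgroup.normalizer (Zz : Set G) with hM
  have hZzC : Zz ≤ Subgroup.centralizer ((T : Subgroup G) : Set G) := Subgroup.zpowers_le.mpr hzC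
  have hTC : (T : Subgroup G) ≤ Subgroup.centralizer (Zz : Set G) := by
    intro t ht
    rw [Subgroup.mem_centralizer_iff]
    intro y hy
    exact (Subgroup.mem_centralizer_iff.mp (hZzC hy) t ht).symm
  have hTM : (T : Subgroup G) ≤ M := hTC.trans (Subgroup.centralizer_le_normalizer _)
  have hMloc : Cfsg.IsTwoLocal M := ⟨Zz, hZzp, hZz1, rfl⟩
  have hMchar : Cfsg.IsOfCharacteristicTwo ↥M := hQ.2.2 M hMloc ⟨T, hTM⟩
  have hMc : IsCharPSub 2 M := isCharPSub_of_type 2 M hMchar
  have hC0 : IsCharPSub 2 (Subgroup.centralizer (Zz : Set G)) :=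
    isCharPSub_of_normal M _ (Subgroup.centralizer_le_normalizer _)
      (normalizer_le_normalizer_centralizer Zz) hMc
  have hCU : IsCharPSub 2 (Subgroup.centralizer (U : Set G)) :=
    isCharPSub_centralizer_of_le U hU (Nat.card U - Nat.card Zz) Zz hZzU le_rfl hC0
  set X : Subgroup G := Subgroup.normalizer (U : Set G) with hX
  set Q : Subgroup G := opDown 2 X with hQdef
  have hUQ : U ≤ Q := le_opDown 2 Subgroup.le_normalizer le_rfl hU
  set C : Subgroup G := X ⊓ Subgroup.centralizer ((Q : Subgroup G) : Set G) with hCdef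
  have hXQ : X ≤ Subgroup.normalizer ((Q : Subgroup G) : Set G) := le_normalizer_opDown 2 X
  have hXC : X ≤ Subgroup.normalizer ((C : Subgroup G) : Set G) := by
    refine le_trans ?_ (inf_normalizer_le_normalizer_inf _ _)
    exact le_inf Subgroup.le_normalizer (hXQ.trans (normalizer_le_normalizer_centralizer _))
  have hCK : C ≤ Subgroup.centralizer (U : Set G) :=
    inf_le_right.trans (Subgroup.centralizer_le hUQ)
  have hKX : Subgroup.centralizer (U : Set G) ≤ X := Subgroup.centralizer_le_normalizer _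
  have hCc : IsCharPSub 2 C := isCharPSub_of_normal _ C hCK (hKX.trans hXC) hCU
  have hOC : opDown 2 C ≤ Q := opDown_le_opDown_of_normal 2 inf_le_left hXC
  have hXc : IsCharPSub 2 X := by
    intro x hx
    apply hOC
    apply hCc
    exact ⟨hx, Subgroup.centralizer_le hOC hx.2⟩
  exact (genFitting_eq_pCore_iff_isCharPSub (p := 2) X).mpr hXc

end Cfsg.Agent.S1850
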