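import Cfsg.Statements.S3743
import Mathlib
import Cfsg.Agent.Lib.Helper2.Cores
import Cfsg.Agent.Lib.Helper9.Fitting
-- import your own Cfsg.Agent.* helpers here

set_option autoImplicit false
open Cfsg

namespace Cfsg.Agent.S3743

universe u

theorem piCore_mem {G : Type*} [Group G] [Finite G] (π : Set ℕ) :
    piCore π G ∈ {N : Subgroup G | N.Normal ∧ ∀ p : ℕ, p.Prime → p ∣ Nat.card N → p ∈ π} := by
  apply SupClosed.sSup_mem _ (Set.toFinite _) _ (le_refl _)
  · rintro H ⟨hHn, hHc⟩ K ⟨hKn, hKc⟩
    refine ⟨inferInstance, ?_⟩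
    intro p hp hpd
    have h1 := hpd.trans (Cfsg.Agent.Lib.Helper2.card_sup_dvd_of_normal H K)
    rcases (Nat.Prime.dvd_mul hp).1 h1 with h | h
    · exact hHc p hp h
    · exact hKc p hp h
  · refine ⟨inferInstance, ?_⟩
    intro p hp hpd
    rw [Subgroup.card_bot] at hpd
    exact absurd (Nat.dvd_one.1 hpd) hp.one_lt.ne'

theorem piCore_characteristic {G : Type*} [Group G] (π : Set ℕ) : (piCore π G).Characteristic := by
  unfold piCore
  apply Cfsg.Agent.Lib.Helper9.characteristic_sSup_of_map_mem
  rintro φ N ⟨hn, hπ⟩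
  refine ⟨hn.map φ.toMonoidHom φ.surjective, ?_⟩
  have hcard : Nat.card (N.map φ.toMonoidHom) = Nat.card N :=
    Nat.card_congr (N.equivMapOfInjective φ.toMonoidHom φ.injective).symm.toEquiv
  rw [hcard]; exact hπ

theorem aux (n : ℕ) : ∀ (G : Type u) [Group G] [Finite G], Nat.card G = n → ∀ A : Subgroup G,
    A.IsSubnormal → (Group.IsNilpotent A → A ≤ Cfsg.fittingSubgroup G) ∧
      ∀ π : Set ℕ, (∀ p : ℕ, p.Prime → p ∣ Nat.card A → p ∈ π) → A ≤ Cfsg.piCore π G := by
  induction n using Nat.strong_induction_on with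
  | _ n ih =>
    intro G _ _ hcard A hA
    rcases hA.lt_normal with rfl | ⟨K, hKn, hAK, hKlt⟩
    · refine ⟨fun h => le_sSup ⟨inferInstance, h⟩, fun π h => le_sSup ⟨inferInstance, h⟩⟩
    · haveI := hKn
      have hKcard : Nat.card K < n := by
        rw [← hcard]
        refine lt_of_le_of_ne (Subgroup.card_le_card_group K) ?_
        intro h
        exact hKlt.ne ((Subgroup.card_eq_iff_eq_top K).1 h)
      have hA' : (A.subgroupOf K).IsSubnormal := hA.subgroupOf
      obtain ⟨ih1, ih2⟩ := ih (Nat.card K) hKcard ↥K rfl (A.subgroupOf K) hA'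
      have e : ↥(A.subgroupOf K) ≃* ↥A := Subgroup.subgroupOfEquivOfLe hAK
      constructor
      · intro hnil
        haveI := hnil
        have hnil' : Group.IsNilpotent ↥(A.subgroupOf K) := Group.nilpotent_of_mulEquiv e.symm
        have h1 := ih1 hnil'
        haveI := Cfsg.Agent.Lib.Helper9.fittingSubgroup_characteristic ↥K
        have hFKn : ((Cfsg.fittingSubgroup ↥K).map K.subtype).Normal := inferInstance
        have hFKnil : Group.IsNilpotent ↥((Cfsg.fittingSubgroup ↥K).map K.subtype) := by
          haveI := Cfsg.Agent.Lib.Helper2.fittingSubgroup_isNilpotent (G := ↥K)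
          exact Group.nilpotent_of_mulEquiv
            ((Cfsg.fittingSubgroup ↥K).equivMapOfInjective K.subtype K.subtype_injective)
        have h2 : (Cfsg.fittingSubgroup ↥K).map K.subtype ≤ Cfsg.fittingSubgroup G :=
          le_sSup ⟨hFKn, hFKnil⟩
        intro x hx
        apply h2
        exact Subgroup.mem_map.2 ⟨⟨x, hAK hx⟩, h1 (by rw [Subgroup.mem_subgroupOf]; exact hx), rfl⟩
      · intro π hπ
        have hcardA' : Nat.card ↥(A.subgroupOf K) = Nat.card A := Nat.card_congr e.toEquiv
        have h1 := ih2 π (by rw [hcardA']; exact hπ)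
        haveI := piCore_characteristic (G := ↥K) π
        have hPn : ((Cfsg.piCore π ↥K).map K.subtype).Normal := inferInstance
        have hPπ : ∀ p : ℕ, p.Prime → p ∣ Nat.card ↥((Cfsg.piCore π ↥K).map K.subtype) → p ∈ π := by
          have hc : Nat.card ↥((Cfsg.piCore π ↥K).map K.subtype) = Nat.card (Cfsg.piCore π ↥K) :=
            Nat.card_congr ((Cfsg.piCore π ↥K).equivMapOfInjective K.subtype
              K.subtype_injective).symm.toEquiv
          rw [hc]
          exact (piCore_mem (G := ↥K) π).2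
        have h2 : (Cfsg.piCore π ↥K).map K.subtype ≤ Cfsg.piCore π G := le_sSup ⟨hPn, hPπ⟩
        intro x hx
        apply h2
        exact Subgroup.mem_map.2 ⟨⟨x, hAK hx⟩, h1 (by rw [Subgroup.mem_subgroupOf]; exact hx), rfl⟩

/-- In a finite group G, every subnormal nilpotent subgroup lies in the Fitting subgroup F(G), and, for a set of primes π, every subnormal subgroup all of whose prime divisors lie in π lies in O_π(G). -/
theorem result {G : Type*} [Group G] [Finite G] (A : Subgroup G) (hA : A.IsSubnormal) : (Group.IsNilpotent A → A ≤ Cfsg.fittingSubgroup G) ∧ ∀ π : Set ℕ, (∀ p : ℕ, p.Prime → p ∣ Nat.card A → p ∈ π) → A ≤ Cfsg.piCore π G :=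
  aux (Nat.card G) G rfl A hA

end Cfsg.Agent.S3743
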