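import Cfsg.Statements.S1892
import Mathlib
import Cfsg.Agent.Lib.Helper20.PSolvable
import Cfsg.Agent.Lib.Helper2.Cores

set_option autoImplicit false
open Cfsg

namespace Cfsg.Agent.S1892

open scoped commutatorElement

/-- The subgroup of elements normalizing `C` and fixing every coset `xC`, `x ∈ P`. -/
def cosetKernel {S : Type*} [Group S] (P C : Subgroup S) [P.Normal] : Subgroup S where
  carrier := {g | g ∈ Subgroup.normalizer (C : Set S) ∧ ∀ x ∈ P, x⁻¹ * (g * x * g⁻¹) ∈ C}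
  one_mem' := ⟨Subgroup.one_mem _, fun x _ => by simp⟩
  mul_mem' := by
    rintro g h ⟨hg, hg'⟩ ⟨hh, hh'⟩
    refine ⟨Subgroup.mul_mem _ hg hh, fun x hx => ?_⟩
    have h1 := hg' x hx
    have h2 := (Subgroup.mem_normalizer_iff.mp hg _).mp (hh' x hx)
    have h3 := C.mul_mem h1 h2
    have e : x⁻¹ * (g * x * g⁻¹) * (g * (x⁻¹ * (h * x * h⁻¹)) * g⁻¹) =
        x⁻¹ * (g * h * x * (g * h)⁻¹) := by group
    rw [e] at h3
    exact h3
  inv_mem' := by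
    rintro g ⟨hg, hg'⟩
    refine ⟨Subgroup.inv_mem _ hg, fun x hx => ?_⟩
    have hy : g⁻¹ * x * g ∈ P := by
      have := ‹P.Normal›.conj_mem x hx g⁻¹
      simpa using this
    have h1 := hg' _ hy
    have h2 := C.inv_mem h1
    have e : (( g⁻¹ * x * g)⁻¹ * (g * (g⁻¹ * x * g) * g⁻¹))⁻¹ = x⁻¹ * (g⁻¹ * x * g⁻¹⁻¹) := by
      group
    rw [e] at h2
    exact h2

theorem result {S : Type*} [Group S] [Finite S] {p : ℕ} [Fact p.Prime]
    (hS : Cfsg.IsPSolvable p S) (hred : Cfsg.pPrimeCore p S = ⊥)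
    (A Q : Subgroup S) (hA : IsPGroup p A) (hQ : ¬ p ∣ Nat.card Q) (hQ1 : Q ≠ ⊥)
    (hinv : ∀ a ∈ A, ∀ x ∈ Q, a * x * a⁻¹ ∈ Q) (hAQ : ⁅A, Q⁆ = Q) :
    ⁅⁅Cfsg.pCore p S, A⁆, Q⁆ ≠ ⊥ := by
  intro hbot
  haveI hPn : (pCore p S).Normal := Cfsg.Agent.Lib.Helper2.pCore_normal p
  have hPp : IsPGroup p (pCore p S) := Cfsg.Agent.Lib.Helper2.pCore_isPGroup p
  have hCP := Cfsg.Agent.Lib.Helper20.centralizer_pCore_le_of_isPSolvable hS hred
  have hcomm : ∀ w ∈ ⁅pCore p S, A⁆, ∀ q ∈ Q, q * w = w * q := by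
    intro w hw q hq
    have h1 : ⁅w, q⁆ ∈ ⁅⁅pCore p S, A⁆, Q⁆ := Subgroup.commutator_mem_commutator hw hq
    rw [hbot, Subgroup.mem_bot, commutatorElement_def] at h1
    have h2 := mul_inv_eq_one.mp h1
    have h3 := mul_inv_eq_iff_eq_mul.mp h2
    exact h3.symm
  obtain ⟨C, hC⟩ : ∃ C : Subgroup S, C = pCore p S ⊓ Subgroup.centralizer (Q : Set S) := ⟨_, rfl⟩
  have hCmem : ∀ c, c ∈ C ↔ c ∈ pCore p S ∧ ∀ q ∈ Q, q * c = c * q := by
    intro c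
    rw [hC, Subgroup.mem_inf, Subgroup.mem_centralizer_iff]
    rfl
  have hPAC : ⁅pCore p S, A⁆ ≤ C := by
    intro w hw
    rw [hCmem]
    exact ⟨(Subgroup.commutator_le_left (pCore p S) A) hw, hcomm w hw⟩
  have hinv' : ∀ a ∈ A, ∀ x ∈ Q, a⁻¹ * x * a ∈ Q := by
    intro a ha x hx
    have := hinv a⁻¹ (A.inv_mem ha) x hx
    simpa using this
  -- elements of A and Q normalize C
  have hconjC : ∀ g : S, (∀ x ∈ Q, g⁻¹ * x * g ∈ Q) → ∀ c ∈ C, g * c * g⁻¹ ∈ C := by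
    intro g hg c hc
    rw [hCmem] at hc ⊢
    refine ⟨hPn.conj_mem c hc.1 g, fun q hq => ?_⟩
    have h1 := hc.2 _ (hg q hq)
    calc q * (g * c * g⁻¹) = g * ((g⁻¹ * q * g) * c) * g⁻¹ := by group
      _ = g * (c * (g⁻¹ * q * g)) * g⁻¹ := by rw [h1]
      _ = g * c * g⁻¹ * q := by group
  have hnormC : ∀ g : S, (∀ x ∈ Q, g⁻¹ * x * g ∈ Q) → (∀ x ∈ Q, g * x * g⁻¹ ∈ Q) →
      g ∈ Subgroup.normalizer (C : Set S) := by
    intro g hg hg'
    rw [Subgroup.mem_normalizer_iff]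
    intro c
    refine ⟨hconjC g hg c, fun h => ?_⟩
    have := hconjC g⁻¹ (fun x hx => by simpa using hg' x hx) _ h
    simpa [mul_assoc] using this
  have hAT : A ≤ cosetKernel (pCore p S) C := by
    intro a ha
    refine ⟨hnormC a (hinv' a ha) (hinv a ha), fun x hx => ?_⟩
    apply hPAC
    have h1 : ⁅x⁻¹, a⁆ ∈ ⁅pCore p S, A⁆ :=
      Subgroup.commutator_mem_commutator ((pCore p S).inv_mem hx) ha
    rw [commutatorElement_def, inv_inv] at h1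
    have e : x⁻¹ * (a * x * a⁻¹) = x⁻¹ * a * x * a⁻¹ := by group
    rw [e]; exact h1
  have hQN : Q ≤ Subgroup.normalizer (C : Set S) := by
    intro q hq
    exact hnormC q (fun x hx => Q.mul_mem (Q.mul_mem (Q.inv_mem hq) hx) hq)
      (fun x hx => Q.mul_mem (Q.mul_mem hq hx) (Q.inv_mem hq))
  -- the coset kernel is normalized by the normalizer of C
  have hTnorm : ∀ h ∈ Subgroup.normalizer (C : Set S), ∀ g ∈ cosetKernel (pCore p S) C,
      h * g * h⁻¹ ∈ cosetKernel (pCore p S) C := by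
    rintro h hh g ⟨hg, hg'⟩
    refine ⟨Subgroup.mul_mem _ (Subgroup.mul_mem _ hh hg) (Subgroup.inv_mem _ hh), fun x hx => ?_⟩
    have hy : h⁻¹ * x * h ∈ pCore p S := by
      have := hPn.conj_mem x hx h⁻¹
      simpa using this
    have h1 := hg' _ hy
    have h2 := (Subgroup.mem_normalizer_iff.mp hh _).mp h1
    have e : h * ((h⁻¹ * x * h)⁻¹ * (g * (h⁻¹ * x * h) * g⁻¹)) * h⁻¹ =
        x⁻¹ * (h * g * h⁻¹ * x * (h * g * h⁻¹)⁻¹) := by group
    rw [e] at h2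
    exact h2
  have hQT : Q ≤ cosetKernel (pCore p S) C := by
    rw [← hAQ, Subgroup.commutator_le]
    intro a ha q hq
    rw [commutatorElement_def]
    have h1 := hTnorm q (hQN hq) a⁻¹ (Subgroup.inv_mem _ (hAT ha))
    have h2 := Subgroup.mul_mem _ (hAT ha) h1
    have e : a * (q * a⁻¹ * q⁻¹) = a * q * a⁻¹ * q⁻¹ := by group
    rw [e] at h2
    exact h2
  -- Q centralizes P
  have hQP : Q ≤ Subgroup.centralizer (pCore p S : Set S) := by
    intro q hq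
    rw [Subgroup.mem_centralizer_iff]
    intro x hx
    have hfC : ∀ r ∈ Q, x⁻¹ * (r * x * r⁻¹) ∈ C := fun r hr => (hQT hr).2 x hx
    obtain ⟨f, hf⟩ : ∃ f : Q →* S, ∀ r : Q, f r = x⁻¹ * ((r : S) * x * (r : S)⁻¹) := by
      refine ⟨MonoidHom.mk' (fun r : Q => x⁻¹ * ((r : S) * x * (r : S)⁻¹)) ?_, fun r => rfl⟩
      intro r₁ r₂
      have h2 := ((hCmem _).mp (hfC r₂ r₂.2)).2 r₁ r₁.2
      show x⁻¹ * (((r₁ * r₂ : Q) : S) * x * ((r₁ * r₂ : Q) : S)⁻¹) = _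
      rw [Subgroup.coe_mul]
      calc x⁻¹ * ((r₁ : S) * (r₂ : S) * x * ((r₁ : S) * (r₂ : S))⁻¹)
          = x⁻¹ * (r₁ : S) * x * ((r₁ : S)⁻¹ * ((r₁ : S) *
              (x⁻¹ * ((r₂ : S) * x * (r₂ : S)⁻¹)))) * (r₁ : S)⁻¹ := by group
        _ = x⁻¹ * (r₁ : S) * x * ((r₁ : S)⁻¹ * ((x⁻¹ * ((r₂ : S) * x * (r₂ : S)⁻¹)) *
              (r₁ : S))) * (r₁ : S)⁻¹ := by rw [h2]
        _ = x⁻¹ * ((r₁ : S) * x * (r₁ : S)⁻¹) * (x⁻¹ * ((r₂ : S) * x * (r₂ : S)⁻¹)) := by group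
    have h1 : orderOf (f ⟨q, hq⟩) ∣ Nat.card Q :=
      (orderOf_map_dvd f (⟨q, hq⟩ : Q)).trans (orderOf_dvd_natCard _)
    have h2 : f ⟨q, hq⟩ ∈ pCore p S := by
      rw [hf]; exact ((hCmem _).mp (hfC q hq)).1
    obtain ⟨k, hk⟩ := hPp ⟨_, h2⟩
    have hk' : f ⟨q, hq⟩ ^ p ^ k = 1 := by
      have := congrArg Subtype.val hk
      simpa using this
    have h3 : orderOf (f ⟨q, hq⟩) ∣ p ^ k := orderOf_dvd_of_pow_eq_one hk'
    obtain ⟨j, -, hj⟩ := (Nat.dvd_prime_pow Fact.out).mp h3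
    have hj0 : j = 0 := by
      by_contra hne
      apply hQ
      exact (dvd_pow_self p hne).trans (hj ▸ h1)
    rw [hj0, pow_zero, orderOf_eq_one_iff, hf] at hj
    -- x⁻¹ * (q x q⁻¹) = 1
    have h4 : q * x * q⁻¹ = x := by
      have := inv_mul_eq_one.mp hj
      exact this.symm
    calc x * q = q * x * q⁻¹ * q := by rw [h4]
      _ = q * x := by group
  have hQle : Q ≤ pCore p S := hQP.trans hCP
  apply hQ1
  rw [eq_bot_iff]
  intro q hq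
  rw [Subgroup.mem_bot]
  obtain ⟨k, hk⟩ := hPp ⟨q, hQle hq⟩
  have hk' : q ^ p ^ k = 1 := by
    have := congrArg Subtype.val hk
    simpa using this
  have h1 : orderOf q ∣ p ^ k := orderOf_dvd_of_pow_eq_one hk'
  have h2 : orderOf q ∣ Nat.card Q := by
    have := orderOf_dvd_natCard (⟨q, hq⟩ : Q)
    rwa [Subgroup.orderOf_mk] at this
  obtain ⟨j, -, hj⟩ := (Nat.dvd_prime_pow Fact.out).mp h1
  have hj0 : j = 0 := by
    by_contra hne
    apply hQ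
    exact (dvd_pow_self p hne).trans (hj ▸ h2)
  rw [hj0, pow_zero, orderOf_eq_one_iff] at hj
  exact hj

end Cfsg.Agent.S1892
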