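import Cfsg.Statements.S1894
import Cfsg.Agent.Lib.Helper2.NilpotentBasic
import Mathlib

set_option autoImplicit false
open Cfsg

namespace Cfsg.Agent.S1894

theorem result {P : Type*} [Group P] [Finite P] {p : ℕ} [Fact p.Prime] (hP : IsPGroup p P)
    (A : Subgroup P) [A.Normal] (B : Subgroup P) [B.Normal] (hBA : B ≤ A) (hB : IsMulCommutative B) :
    ∃ C : Subgroup P, C.Normal ∧ B ≤ C ∧ Cfsg.IsSCN A C := by
  classical
  set 𝒮 : Set (Subgroup P) := {C | C.Normal ∧ C ≤ A ∧ B ≤ C ∧ ∀ x ∈ C, ∀ y ∈ C, x * y = y * x} with h𝒮
  have hBmem : B ∈ 𝒮 := by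
    refine ⟨inferInstance, hBA, le_rfl, ?_⟩
    intro x hx y hy
    exact congrArg Subtype.val (hB.is_comm.comm ⟨x, hx⟩ ⟨y, hy⟩)
  obtain ⟨C, hC𝒮, hCmax⟩ := Set.exists_max_image 𝒮 (fun C : Subgroup P => Nat.card C)
    (Set.toFinite _) ⟨B, hBmem⟩
  obtain ⟨hCn, hCA, hBC, hCab⟩ := hC𝒮
  refine ⟨C, hCn, hBC, hCA, ?_, ?_⟩
  · intro a _
    have : Subgroup.normalizer (C : Set P) = ⊤ := Subgroup.normalizer_eq_top_iff.mpr hCn
    rw [this]; trivial
  · -- A ⊓ C_P(C) = C
    set K : Subgroup P := A ⊓ Subgroup.centralizer (C : Set P) with hK
    have hCK : C ≤ K := by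
      refine le_inf hCA ?_
      intro c hc
      rw [Subgroup.mem_centralizer_iff]
      intro y hy
      exact hCab y hy c hc
    by_contra hne
    have hlt : C < K := lt_of_le_of_ne hCK (fun h => hne h.symm)
    -- K is normal
    have hcentN : (Subgroup.centralizer (C : Set P)).Normal := by
      constructor
      intro n hn g
      rw [Subgroup.mem_centralizer_iff] at hn ⊢
      intro c hc
      have hc' : g⁻¹ * c * g ∈ C := by
        have := hCn.conj_mem c hc g⁻¹
        simpa using this
      have := hn _ hc'
      calc c * (g * n * g⁻¹) = g * ((g⁻¹ * c * g) * n) * g⁻¹ := by group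
        _ = g * (n * (g⁻¹ * c * g)) * g⁻¹ := by rw [this]
        _ = g * n * g⁻¹ * c := by group
    have hKn : K.Normal := by rw [hK]; infer_instance
    have hnil : Group.IsNilpotent (P ⧸ C) := (hP.to_quotient C).isNilpotent
    set π := QuotientGroup.mk' C with hπ
    have hK'n : (K.map π).Normal := Subgroup.Normal.map hKn π (QuotientGroup.mk'_surjective C)
    have hK'ne : K.map π ≠ ⊥ := by
      intro h
      rw [Subgroup.map_eq_bot_iff, hπ, QuotientGroup.ker_mk'] at h
      exact (not_le_of_gt hlt) h
    have hmeet := Cfsg.Agent.Lib.Helper2.normal_inf_center_ne_bot (K.map π) hK'ne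
    obtain ⟨⟨q, hq⟩, hq1⟩ := (Subgroup.ne_bot_iff_exists_ne_one).mp hmeet
    have hq1' : q ≠ 1 := fun h => hq1 (Subtype.ext h)
    obtain ⟨hqK, hqZ⟩ := Subgroup.mem_inf.mp hq
    obtain ⟨x, hxK, hxq⟩ := hqK
    have hxA : x ∈ A := (Subgroup.mem_inf.mp hxK).1
    have hxcent : x ∈ Subgroup.centralizer (C : Set P) := (Subgroup.mem_inf.mp hxK).2
    have hxC : x ∉ C := by
      intro h
      apply hq1'
      rw [← hxq, hπ, QuotientGroup.mk'_apply, QuotientGroup.eq_one_iff]
      exact h
    set D : Subgroup P := C ⊔ Subgroup.zpowers x with hD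
    have hCD : C ≤ D := le_sup_left
    have hxD : x ∈ D := (le_sup_right : Subgroup.zpowers x ≤ D) (Subgroup.mem_zpowers x)
    have hCltD : C < D := lt_of_le_of_ne hCD (fun h => hxC (by rw [h]; exact hxD))
    have hD𝒮 : D ∈ 𝒮 := by
      refine ⟨?_, ?_, hBC.trans hCD, ?_⟩
      · -- normal
        have hmap : D.map π = Subgroup.zpowers q := by
          rw [hD, Subgroup.map_sup, MonoidHom.map_zpowers, hxq]
          have : C.map π = ⊥ := by
            rw [Subgroup.map_eq_bot_iff, hπ, QuotientGroup.ker_mk']
          rw [this, bot_sup_eq]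
        have hzn : (Subgroup.zpowers q).Normal := by
          constructor
          intro n hn g
          have hnZ : n ∈ Subgroup.center (P ⧸ C) := by
            rw [Subgroup.mem_zpowers_iff] at hn
            obtain ⟨k, rfl⟩ := hn
            exact zpow_mem hqZ k
          have : g * n * g⁻¹ = n := by
            rw [Subgroup.mem_center_iff] at hnZ
            rw [hnZ g]; group
          rw [this]; exact hn
        have hcomap : D = (Subgroup.zpowers q).comap π := by
          rw [← hmap, Subgroup.comap_map_eq_self]
          rw [hπ, QuotientGroup.ker_mk']; exact hCD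
        rw [hcomap]
        exact Subgroup.Normal.comap hzn π
      · exact sup_le hCA (by rw [Subgroup.zpowers_le]; exact hxA)
      · have hxcomm : ∀ c ∈ C, c * x = x * c := by
          intro c hc
          rw [Subgroup.mem_centralizer_iff] at hxcent
          exact hxcent c hc
        have h1 : D ≤ Subgroup.centralizer (C : Set P) ⊓ Subgroup.centralizer ({x} : Set P) := by
          apply sup_le
          · apply le_inf
            · intro c hc
              rw [Subgroup.mem_centralizer_iff]
              intro y hy
              exact hCab y hy c hc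
            · intro c hc
              rw [Subgroup.mem_centralizer_iff]
              intro y hy
              rw [Set.mem_singleton_iff] at hy
              subst hy
              exact (hxcomm c hc).symm
          · rw [Subgroup.zpowers_le]
            refine Subgroup.mem_inf.mpr ⟨hxcent, ?_⟩
            rw [Subgroup.mem_centralizer_iff]
            intro y hy
            rw [Set.mem_singleton_iff] at hy
            subst hy
            rfl
        intro d₁ hd₁ d₂ hd₂
        obtain ⟨h1C, h1x⟩ := Subgroup.mem_inf.mp (h1 hd₁)
        have h2 : D ≤ Subgroup.centralizer ({d₁} : Set P) := by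
          apply sup_le
          · intro c hc
            rw [Subgroup.mem_centralizer_iff]
            intro y hy
            rw [Set.mem_singleton_iff] at hy
            subst hy
            rw [Subgroup.mem_centralizer_iff] at h1C
            exact (h1C c hc).symm
          · rw [Subgroup.zpowers_le, Subgroup.mem_centralizer_iff]
            intro y hy
            rw [Set.mem_singleton_iff] at hy
            subst hy
            rw [Subgroup.mem_centralizer_iff] at h1x
            exact (h1x x rfl).symm
        have := h2 hd₂
        rw [Subgroup.mem_centralizer_iff] at this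
        exact this d₁ rfl
    have hle := hCmax D hD𝒮
    have hlt' : Nat.card C < Nat.card D := by
      have h1 : (C : Set P) ⊂ (D : Set P) := SetLike.coe_ssubset_coe.mpr hCltD
      have h2 := Set.ncard_lt_ncard h1 (Set.toFinite _)
      rwa [← Nat.card_coe_set_eq, ← Nat.card_coe_set_eq] at h2
    omega

end Cfsg.Agent.S1894
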