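import Mathlib
import Cfsg.Statements.S1896
import Cfsg.Agent.Lib.Helper14.Meta2Aut3

set_option autoImplicit false
open Cfsg

namespace Cfsg.Agent.S1896

/-- A finite metacyclic 2-group whose automorphism group is not a 2-group is isomorphic to the quaternion group of order 8 or to a homocyclic abelian group Z_{2^n} × Z_{2^n}. -/
theorem result {X : Type*} [Group X] [Finite X] (hX : IsPGroup 2 X)
    (hm : Cfsg.IsMetacyclic X) (hA : ¬ IsPGroup 2 (MulAut X)) :
    Nonempty (X ≃* QuaternionGroup 2) ∨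
      ∃ n : ℕ, Nonempty (X ≃* Multiplicative (ZMod (2 ^ n)) × Multiplicative (ZMod (2 ^ n))) := by
  classical
  haveI : Fact (Nat.Prime 2) := ⟨Nat.prime_two⟩
  haveI : Fact (Nat.Prime 3) := ⟨Nat.prime_three⟩
  have h1 : ∃ q : ℕ, q.Prime ∧ q ≠ 2 ∧ q ∣ Nat.card (MulAut X) := by
    by_contra hno
    push Not at hno
    apply hA
    have hpos : Nat.card (MulAut X) ≠ 0 := Nat.card_pos.ne'
    have := Nat.eq_prime_pow_of_unique_prime_dvd hpos (p := 2) (fun {d} hd hdvd => by
      by_contra hne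
      exact hno d hd hne hdvd)
    exact IsPGroup.of_card this
  obtain ⟨q, hq, hq2, hqd⟩ := h1
  have hq3 : q ∣ 2 ^ 2 - 1 :=
    Cfsg.Agent.Lib.Helper14.prime_dvd_sq_sub_one_of_isMetacyclic hX hm ⊤ hq hq2
      (by rwa [Subgroup.card_top])
  have hq3' : q = 3 := by
    have : q ∣ 3 := by simpa using hq3
    exact (Nat.prime_dvd_prime_iff_eq hq Nat.prime_three).mp this
  subst hq3'
  obtain ⟨α, hα⟩ := exists_prime_orderOf_dvd_card' 3 hqd
  set A : Subgroup (MulAut X) := Subgroup.zpowers α with hAdef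
  have hAcard : Nat.card A = 3 := by rw [hAdef, Nat.card_zpowers, hα]
  obtain ⟨r, hr2, hr⟩ := Cfsg.Agent.Lib.Helper14.exists_index_frattini_le_two_of_isMetacyclic hX hm
  have hact : Cfsg.Agent.Lib.Helper14.actComm A X = ⊤ :=
    Cfsg.Agent.Lib.Helper14.actComm_eq_top_of_card_three hX hr hr2 A hAcard
  by_cases hc : ∀ x y : X, x * y = y * x
  · right
    let Ω : Subgroup X :=
      { carrier := {x | x ^ 2 = 1}
        one_mem' := one_pow 2
        mul_mem' := fun {x y} hx hy => by
          show (x * y) ^ 2 = 1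
          rw [(show Commute x y from hc x y).mul_pow, show x ^ 2 = 1 from hx, show y ^ 2 = 1 from hy,
            one_mul]
        inv_mem' := fun {x} hx => by
          show (x⁻¹) ^ 2 = 1
          rw [inv_pow, show x ^ 2 = 1 from hx, inv_one] }
    have hΩ : Nat.card {x : X // x ^ 2 = 1} ≤ 4 := by
      have := Cfsg.Agent.Lib.Helper14.card_le_sq_of_exponent hm Ω 2 (by norm_num) (fun x hx => hx)
      exact this
    obtain ⟨n, hn, hexp⟩ := Cfsg.Agent.Lib.Helper14.card_eq_four_pow hc hX hΩ hAcard hact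
    obtain ⟨N, hN, hNc, hQc⟩ := hm
    obtain ⟨a, b, hab⟩ := Cfsg.Agent.Lib.Helper14.exists_isMetaPair N
    exact ⟨n, Cfsg.Agent.Lib.Helper14.nonempty_mulEquiv_homocyclic hc n hn hexp a b hab.closure_eq_top⟩
  · left
    rcases Cfsg.Agent.Lib.Helper14.meta2_main hX hm hAcard hact with
      hc' | ⟨h8, z₀, hz1, hz2, hzc, hcomm, hsq, hfix⟩
    · exact absurd hc' hc
    · exact Cfsg.Agent.Lib.Helper14.nonempty_mulEquiv_quaternion_of_data hX hAcard hact h8 z₀ hz1 hz2
        hzc hcomm hsq hfix hc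

end Cfsg.Agent.S1896
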