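import Cfsg.Statements.S1898
import Mathlib

set_option autoImplicit false
open Cfsg

namespace Cfsg.Agent.S1898

open scoped commutatorElement

section
variable {X : Type*} [Group X]

/-- If `d = ⁅y, x⁆` is central of square one then `y` commutes with `x ^ 2`. -/
theorem commute_sq (x y : X) (hc : ⁅y, x⁆ ∈ Subgroup.center X) (h2 : ⁅y, x⁆ ^ 2 = 1) :
    y * x ^ 2 = x ^ 2 * y := by
  set d := ⁅y, x⁆ with hd
  have hyx : y * x = d * x * y := by rw [hd, commutatorElement_def]; group
  have hdc : ∀ g : X, g * d = d * g := fun g => Subgroup.mem_center_iff.mp hc g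
  calc y * x ^ 2 = (y * x) * x := by rw [pow_two]; group
    _ = d * x * y * x := by rw [hyx]
    _ = d * x * (y * x) := by group
    _ = d * x * (d * x * y) := by rw [hyx]
    _ = d * (x * d) * x * y := by group
    _ = d * (d * x) * x * y := by rw [hdc x]
    _ = (d * d) * (x * x) * y := by group
    _ = x ^ 2 * y := by rw [← pow_two d, h2, one_mul, pow_two]

/-- `(x y)^2 = d x^2 y^2` with `d = ⁅y, x⁆` central. -/
theorem mul_sq (x y : X) (hc : ⁅y, x⁆ ∈ Subgroup.center X) :
    (x * y) ^ 2 = ⁅y, x⁆ * (x ^ 2 * y ^ 2) := by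
  set d := ⁅y, x⁆ with hd
  have hyx : y * x = d * x * y := by rw [hd, commutatorElement_def]; group
  have hdc : ∀ g : X, g * d = d * g := fun g => Subgroup.mem_center_iff.mp hc g
  calc (x * y) ^ 2 = x * (y * x) * y := by rw [pow_two]; group
    _ = x * (d * x * y) * y := by rw [hyx]
    _ = (x * d) * x * y * y := by group
    _ = (d * x) * x * y * y := by rw [hdc x]
    _ = d * (x ^ 2 * y ^ 2) := by rw [pow_two, pow_two]; group

/-- `(x y)^4 = x^4 y^4` when `⁅y, x⁆` is central of square one. -/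
theorem mul_pow_four (x y : X) (hc : ⁅y, x⁆ ∈ Subgroup.center X) (h2 : ⁅y, x⁆ ^ 2 = 1) :
    (x * y) ^ 4 = x ^ 4 * y ^ 4 := by
  have hdc : ∀ g : X, g * ⁅y, x⁆ = ⁅y, x⁆ * g := fun g => Subgroup.mem_center_iff.mp hc g
  have h1 : Commute y (x ^ 2) := commute_sq x y hc h2
  have h3 : Commute (x ^ 2) (y ^ 2) := (h1.pow_left 2).symm
  have h4 : Commute ⁅y, x⁆ (x ^ 2 * y ^ 2) := (hdc _).symm
  calc (x * y) ^ 4 = ((x * y) ^ 2) ^ 2 := by rw [← pow_mul]
    _ = (⁅y, x⁆ * (x ^ 2 * y ^ 2)) ^ 2 := by rw [mul_sq x y hc]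
    _ = ⁅y, x⁆ ^ 2 * (x ^ 2 * y ^ 2) ^ 2 := h4.mul_pow 2
    _ = (x ^ 2) ^ 2 * (y ^ 2) ^ 2 := by rw [h2, one_mul, h3.mul_pow]
    _ = x ^ 4 * y ^ 4 := by rw [← pow_mul, ← pow_mul]

end

theorem result {X : Type*} [Group X] [Finite X] (hX : IsPGroup 2 X)
    (hel : Cfsg.IsElementaryAbelian 2 (commutator X)) (hcen : commutator X ≤ Subgroup.center X) :
    (∀ x ∈ Subgroup.closure {g : X | g ^ 4 = 1}, x ^ 4 = 1) ∧
      ∀ φ : MulAut X, (∀ g : X, g ^ 4 = 1 → φ g = g) → ∃ k : ℕ, φ ^ (2 ^ k) = 1 := by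
  have hcomm_mem : ∀ a b : X, ⁅a, b⁆ ∈ commutator X := by
    intro a b
    rw [commutator_def]
    exact Subgroup.commutator_mem_commutator (Subgroup.mem_top a) (Subgroup.mem_top b)
  have hc : ∀ a b : X, ⁅a, b⁆ ∈ Subgroup.center X := fun a b => hcen (hcomm_mem a b)
  have h2 : ∀ a b : X, ⁅a, b⁆ ^ 2 = 1 := fun a b => hel.2 _ (hcomm_mem a b)
  constructor
  · intro x hx
    induction hx using Subgroup.closure_induction with
    | mem x hx => exact hx
    | one => exact one_pow 4
    | mul x y _ _ hx hy => rw [mul_pow_four x y (hc y x) (h2 y x), hx, hy, one_mul]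
    | inv x _ hx => rw [inv_pow, hx, inv_one]
  · intro φ hφ
    obtain ⟨a, m, hmodd, ham⟩ := Nat.exists_eq_two_pow_mul_odd (orderOf_pos φ).ne'
    refine ⟨a, ?_⟩
    set ψ : MulAut X := φ ^ (2 ^ a) with hψ
    have hψm : ψ ^ m = 1 := by
      rw [hψ, ← pow_mul, ← ham]; exact pow_orderOf_eq_one φ
    have hφpow : ∀ i : ℕ, ∀ g : X, g ^ 4 = 1 → (φ ^ i) g = g := by
      intro i
      induction i with
      | zero => intro g _; simp
      | succ i ih =>
        intro g hg
        rw [pow_succ, MulAut.mul_apply, hφ g hg, ih g hg]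
    have hψfix : ∀ g : X, g ^ 4 = 1 → ψ g = g := fun g hg => hφpow _ g hg
    have key : ∀ j : ℕ, 2 ≤ j → ∀ x : X, x ^ (2 ^ j) = 1 → ψ x = x := by
      intro j hj
      induction j, hj using Nat.le_induction with
      | base => intro x hx; exact hψfix x (by simpa using hx)
      | succ j hj ih =>
        intro x hx
        have hy : ψ (x ^ 2) = x ^ 2 := by
          apply ih
          rw [← pow_mul, ← pow_succ']; exact hx
        set w : X := ψ x * x⁻¹ with hw
        have hψx : ψ x = w * x := by rw [hw]; group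
        have hsq : (w * x) ^ 2 = x ^ 2 := by rw [← hψx, ← map_pow]; exact hy
        rw [mul_sq w x (hc x w)] at hsq
        have hw2 : ⁅x, w⁆ * w ^ 2 = 1 := by
          have : ⁅x, w⁆ * w ^ 2 * x ^ 2 = 1 * x ^ 2 := by rw [one_mul, mul_assoc]; exact hsq
          exact mul_right_cancel this
        have hw4 : w ^ 4 = 1 := by
          have h3 : w ^ 2 = ⁅x, w⁆⁻¹ := by
            rw [eq_inv_iff_mul_eq_one, Subgroup.mem_center_iff.mp (hc x w) (w ^ 2)]
            exact hw2
          calc w ^ 4 = (w ^ 2) ^ 2 := by rw [← pow_mul]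
            _ = 1 := by rw [h3, inv_pow, h2, inv_one]
        have hψw : ψ w = w := hψfix w hw4
        have hiter : ∀ i : ℕ, (ψ ^ i) x = w ^ i * x := by
          intro i
          induction i with
          | zero => simp
          | succ i ihi =>
            rw [pow_succ', MulAut.mul_apply, ihi, map_mul, map_pow, hψw, hψx, pow_succ]
            group
        have h5 := hiter m
        rw [hψm, MulAut.one_apply] at h5
        have hwm : w ^ m = 1 := by
          have : 1 * x = w ^ m * x := by rw [one_mul]; exact h5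
          exact (mul_right_cancel this).symm
        have hw1 : w = 1 := by
          have h6 : orderOf w ∣ m := orderOf_dvd_of_pow_eq_one hwm
          have h7 : orderOf w ∣ 4 := orderOf_dvd_of_pow_eq_one hw4
          have h8 : Nat.Coprime m 4 := by
            have : Nat.Coprime m (2 ^ 2) := Nat.Coprime.pow_right 2 (Nat.coprime_two_right.mpr hmodd)
            simpa using this
          have h9 : orderOf w ∣ 1 := by
            rw [← h8]; exact Nat.dvd_gcd h6 h7
          exact orderOf_eq_one_iff.mp (Nat.dvd_one.mp h9)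
        rw [hψx, hw1, one_mul]
    ext x
    rw [MulAut.one_apply]
    obtain ⟨j, hj⟩ := hX x
    apply key (max j 2) (le_max_right _ _) x
    have : 2 ^ j ∣ 2 ^ (max j 2) := pow_dvd_pow 2 (le_max_left _ _)
    obtain ⟨c, hc'⟩ := this
    rw [hc', pow_mul, hj, one_pow]

end Cfsg.Agent.S1898
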