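import Cfsg.Statements.S1899
import Mathlib

set_option autoImplicit false
open Cfsg

namespace Cfsg.Agent.S1899

variable {A : Type*} [CommGroup A]

/-- fixed points of an automorphism, as a subgroup -/
abbrev fixSub (s : MulAut A) : Subgroup A := (MulEquiv.toMonoidHom s).eqLocus (MonoidHom.id A)

theorem mem_fixSub (s : MulAut A) (a : A) : a ∈ fixSub s ↔ s a = a := Iff.rfl

/-- Part 1 in general form. -/
theorem disjoint_fix {n : ℕ} (hn : Odd n) (d s : MulAut A) (hd : d ^ n = 1) (hs : s ^ 2 = 1)
    (hds : s * d * s⁻¹ = d⁻¹) (hfix : ∀ a : A, d a = a → a = 1) :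
    Disjoint (fixSub s) ((fixSub s).map d.toMonoidHom) := by
  rw [Subgroup.disjoint_def]
  intro a ha hda
  obtain ⟨c, hc, rfl⟩ := hda
  replace hc : s c = c := hc
  have ha' : s (d c) = d c := ha
  -- s d = d⁻¹ s
  have h1 : s * d = d⁻¹ * s := by
    have := congrArg (· * s) hds
    simpa [mul_assoc] using this
  have h2 : s (d c) = d⁻¹ c := by
    have := congrArg (fun f : MulAut A => f c) h1
    simp only [MulAut.mul_apply] at this
    rw [this, hc]
  have h3 : d (d c) = c := by
    have : d⁻¹ c = d c := h2.symm.trans ha'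
    have h4 := congrArg d this
    simp only [MulAut.apply_inv_self] at h4
    exact h4.symm
  -- d = (d^2)^((n+1)/2)
  obtain ⟨k, hk⟩ := hn
  have h5 : ∀ m : ℕ, (d ^ (2 * m)) c = c := by
    intro m
    induction m with
    | zero => simp
    | succ m ih =>
      have : d ^ (2 * (m + 1)) = d ^ (2 * m) * d ^ 2 := by rw [← pow_add]; ring_nf
      rw [this, MulAut.mul_apply]
      have : (d ^ 2) c = c := by
        rw [pow_two, MulAut.mul_apply]; exact h3
      rw [this, ih]
  have h6 : d c = c := by
    have h7 : d ^ (2 * (k + 1)) = d := by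
      have : 2 * (k + 1) = n + 1 := by omega
      rw [this, pow_succ, hd, one_mul]
    have := h5 (k + 1)
    rwa [h7] at this
  have hc1 : c = 1 := hfix c h6
  show (d.toMonoidHom) c = 1
  rw [hc1, map_one]

/-- the "twisted" automorphism a ↦ (t a)⁻¹ -/
def twist (t : MulAut A) : MulAut A := t.trans (MulEquiv.inv A)

theorem twist_apply (t : MulAut A) (a : A) : twist t a = (t a)⁻¹ := rfl

theorem twist_sq (t : MulAut A) (ht : t ^ 2 = 1) : twist t ^ 2 = 1 := by
  ext a
  rw [pow_two, MulAut.mul_apply, twist_apply, twist_apply, map_inv, inv_inv]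
  have := congrArg (fun f : MulAut A => f a) ht
  simpa [pow_two, MulAut.mul_apply] using this

theorem twist_conj (d t : MulAut A) (ht : t ^ 2 = 1) (hdt : t * d * t⁻¹ = d⁻¹) :
    twist t * d * (twist t)⁻¹ = d⁻¹ := by
  have hinv : (twist t)⁻¹ = twist t := by
    rw [inv_eq_iff_mul_eq_one, ← pow_two]; exact twist_sq t ht
  have htinv : t⁻¹ = t := by
    rw [inv_eq_iff_mul_eq_one, ← pow_two]; exact ht
  rw [hinv]
  ext a
  have h := congrArg (fun f : MulAut A => f a) hdt
  simp only [MulAut.mul_apply, htinv] at h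
  simp only [MulAut.mul_apply, twist_apply, map_inv, inv_inv]
  exact h

theorem result {A : Type*} [CommGroup A] [Finite A] (hA : IsPGroup 2 A)
    {n : ℕ} (hn : Odd n) (hn1 : 1 < n) (d t : MulAut A) (hd : d ^ n = 1) (ht : t ^ 2 = 1) (hdt : t * d * t⁻¹ = d⁻¹)
    (hfix : ∀ a : A, d a = a → a = 1) :
    (MulEquiv.toMonoidHom t).eqLocus (MonoidHom.id A) ⊓ ((MulEquiv.toMonoidHom t).eqLocus (MonoidHom.id A)).map d.toMonoidHom = ⊥ ∧
      (MulEquiv.toMonoidHom t).eqLocus (MonoidHom.id A) ⊔ ((MulEquiv.toMonoidHom t).eqLocus (MonoidHom.id A)).map d.toMonoidHom = ⊤ := by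
  have hdisjC := disjoint_fix hn d t hd ht hdt hfix
  have hdisjI := disjoint_fix hn d (twist t) hd (twist_sq t ht) (twist_conj d t ht hdt) hfix
  refine ⟨disjoint_iff.mp hdisjC, ?_⟩
  -- notation
  set C := fixSub t with hC
  set I := fixSub (twist t) with hI
  -- cardinalities
  have cardmap : ∀ H : Subgroup A, Nat.card (H.map d.toMonoidHom) = Nat.card H := by
    intro H
    exact Subgroup.card_map_of_injective (f := d.toMonoidHom) d.injective
  have hinjC := Subgroup.mul_injective_of_disjoint hdisjC
  have hinjI := Subgroup.mul_injective_of_disjoint hdisjI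
  have hC2 : Nat.card C * Nat.card C ≤ Nat.card A := by
    have := Nat.card_le_card_of_injective _ hinjC
    rwa [Nat.card_prod, cardmap] at this
  have hI2 : Nat.card I * Nat.card I ≤ Nat.card A := by
    have := Nat.card_le_card_of_injective _ hinjI
    rwa [Nat.card_prod, cardmap] at this
  -- the norm map φ a = a * t a
  let φ : A →* A :=
    { toFun := fun a => a * t a
      map_one' := by simp
      map_mul' := fun a b => by simp only [map_mul]; exact mul_mul_mul_comm a b (t a) (t b) }
  have hker : φ.ker = I := by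
    ext a
    rw [MonoidHom.mem_ker, hI, mem_fixSub, twist_apply]
    show a * t a = 1 ↔ (t a)⁻¹ = a
    constructor
    · intro h; exact inv_eq_of_mul_eq_one_left h
    · intro h
      have h' : a * t a = (t a)⁻¹ * t a := congrArg (· * t a) h.symm
      rw [h']; exact inv_mul_cancel _
  have hrange : φ.range ≤ C := by
    rintro _ ⟨a, rfl⟩
    rw [hC, mem_fixSub]
    show t (a * t a) = a * t a
    have htt : t (t a) = a := by
      have := congrArg (fun f : MulAut A => f a) ht
      simpa [pow_two, MulAut.mul_apply] using this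
    rw [map_mul, htt, mul_comm]
  have hAIC : Nat.card A ≤ Nat.card I * Nat.card C := by
    have h1 : Nat.card A = Nat.card φ.ker * Nat.card φ.range := by
      rw [← Subgroup.card_mul_index φ.ker, Subgroup.index_ker]
    rw [h1, hker]
    exact Nat.mul_le_mul_left _ (Subgroup.card_le_of_le hrange)
  have hCpos : 0 < Nat.card C := Nat.card_pos
  have hIpos : 0 < Nat.card I := Nat.card_pos
  have hCI : Nat.card C ≤ Nat.card I := by
    have : Nat.card C * Nat.card C ≤ Nat.card I * Nat.card C := hC2.trans hAIC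
    exact Nat.le_of_mul_le_mul_right this hCpos
  have hIC : Nat.card I ≤ Nat.card C := by
    have : Nat.card I * Nat.card I ≤ Nat.card I * Nat.card C := hI2.trans hAIC
    exact Nat.le_of_mul_le_mul_left this hIpos
  have hAeq : Nat.card A = Nat.card C * Nat.card C := by
    apply le_antisymm _ hC2
    calc Nat.card A ≤ Nat.card I * Nat.card C := hAIC
      _ ≤ Nat.card C * Nat.card C := Nat.mul_le_mul_right _ hIC
  -- the injective map C × dC → A is bijective
  have hbij : Function.Bijective (fun g : C × (C.map d.toMonoidHom) => (g.1 * g.2 : A)) := by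
    rw [Nat.bijective_iff_injective_and_card]
    refine ⟨hinjC, ?_⟩
    rw [Nat.card_prod, cardmap, hAeq]
  rw [eq_top_iff]
  intro a _
  obtain ⟨⟨x, y⟩, hxy⟩ := hbij.2 a
  rw [← hxy]
  exact Subgroup.mul_mem _ (Subgroup.mem_sup_left x.2) (Subgroup.mem_sup_right y.2)

end Cfsg.Agent.S1899
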