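import Mathlib
import Cfsg.Statements.S1900
import Cfsg.Agent.Lib.Helper12.Generation
import Cfsg.Agent.Lib.Helper1.FusionLift

set_option autoImplicit false
open Cfsg

namespace Cfsg.Agent.S1900

open Cfsg.Agent.Lib.Helper1 Cfsg.Agent.Lib.Helper12 Cfsg.Agent.Lib.Helper29

universe u

theorem mem_cs {G : Type*} [Group G] {g x : G} :
    g ∈ Subgroup.centralizer ({x} : Set G) ↔ x * g = g * x := by
  simp [Subgroup.mem_centralizer_iff]

theorem comm_conj {G : Type*} [Group G] {x y u : G} (hxy : x * y = y * x) (huy : u * y = y * u) :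
    (x * u * x⁻¹) * y = y * (x * u * x⁻¹) := by
  have h1 : Commute x y := hxy
  have h2 : Commute u y := huy
  exact ((h1.mul_left h2).mul_left h1.inv_left).eq

/-- fixed point in an invariant coset -/
theorem coset_fixed_point {G : Type*} [Group G] [Finite G] {r : ℕ} [Fact r.Prime] (C : Subgroup G)
    (y d : G) (hy : y ∈ Subgroup.normalizer (C : Set G)) (hyr : IsPGroup r (Subgroup.zpowers y))
    (hC : ¬ r ∣ Nat.card C) (hw : d⁻¹ * y * d * y⁻¹ ∈ C) :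
    ∃ c ∈ C, y * (d * c) * y⁻¹ = d * c := by
  set S : Set G := {z | d⁻¹ * z ∈ C} with hS
  have hyS : y ∈ Subgroup.normalizer S := by
    rw [Subgroup.mem_set_normalizer_iff]
    intro z
    show d⁻¹ * z ∈ C ↔ d⁻¹ * (y * z * y⁻¹) ∈ C
    have e' : d⁻¹ * (y * z * y⁻¹) = (d⁻¹ * y * d * y⁻¹) * (y * (d⁻¹ * z) * y⁻¹) := by group
    rw [e', Subgroup.mul_mem_cancel_left _ hw]
    exact Subgroup.mem_normalizer_iff.mp hy _
  have hle : Subgroup.zpowers y ≤ Subgroup.normalizer S := by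
    rw [Subgroup.zpowers_le]; exact hyS
  letI act : MulAction (Subgroup.zpowers y) S :=
    { smul := fun g z => ⟨g * z * g⁻¹, (Subgroup.mem_set_normalizer_iff.mp (hle g.2) z).mp z.2⟩
      one_smul := fun z => Subtype.ext (by show (1 : G) * z * (1 : G)⁻¹ = z; simp)
      mul_smul := fun g g' z => Subtype.ext (by
        show ((g * g' : Subgroup.zpowers y) : G) * z * ((g * g' : Subgroup.zpowers y) : G)⁻¹
          = g * (g' * z * (g' : G)⁻¹) * (g : G)⁻¹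
        simp [mul_assoc]) }
  have hcard : Nat.card S = Nat.card C := by
    apply Nat.card_congr
    exact
      { toFun := fun z => ⟨d⁻¹ * z, z.2⟩
        invFun := fun c => ⟨d * c, by show d⁻¹ * (d * c) ∈ C; simpa using c.2⟩
        left_inv := fun z => Subtype.ext (by simp)
        right_inv := fun c => Subtype.ext (by simp) }
  have hnd : ¬ r ∣ Nat.card S := by rw [hcard]; exact hC
  obtain ⟨z, hz⟩ := hyr.nonempty_fixed_point_of_prime_not_dvd_card S hnd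
  have hzy : y * z * y⁻¹ = z := by
    have := hz ⟨y, Subgroup.mem_zpowers y⟩
    exact congrArg Subtype.val this
  refine ⟨d⁻¹ * z, z.2, ?_⟩
  have : d * (d⁻¹ * (z : G)) = z := by group
  rw [this]; exact hzy

/-- a fixed-point-free automorphism: every element is a "commutator" -/
theorem fpf_surj {G : Type*} [Group G] [Finite G] (R : Subgroup G) (x : G)
    (hx : x ∈ Subgroup.normalizer (R : Set G))
    (hfix : R ⊓ Subgroup.centralizer ({x} : Set G) = ⊥) :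
    ∀ b ∈ R, ∃ b₀ ∈ R, b = b₀ * (x * b₀ * x⁻¹)⁻¹ := by
  have hmem : ∀ b₀ : R, (b₀ : G) * (x * b₀ * x⁻¹)⁻¹ ∈ R := fun b₀ =>
    R.mul_mem b₀.2 (R.inv_mem ((Subgroup.mem_normalizer_iff.mp hx _).mp b₀.2))
  let φ : R → R := fun b₀ => ⟨_, hmem b₀⟩
  have e : ∀ u : G, u * (x * u * x⁻¹)⁻¹ * x = u * x * u⁻¹ := by intro u; group
  have hinj : Function.Injective φ := by
    intro b₀ b₁ h
    have h' : (b₀ : G) * (x * b₀ * x⁻¹)⁻¹ = b₁ * (x * b₁ * x⁻¹)⁻¹ := congrArg Subtype.val h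
    have h1 : (b₀ : G) * x * (b₀ : G)⁻¹ = b₁ * x * (b₁ : G)⁻¹ := by rw [← e, ← e, h']
    have hc : (b₁ : G)⁻¹ * b₀ ∈ R ⊓ Subgroup.centralizer ({x} : Set G) := by
      refine Subgroup.mem_inf.mpr ⟨R.mul_mem (R.inv_mem b₁.2) b₀.2, ?_⟩
      rw [mem_cs]
      calc x * ((b₁ : G)⁻¹ * b₀) = (b₁ : G)⁻¹ * (b₁ * x * (b₁ : G)⁻¹) * b₀ := by group
        _ = (b₁ : G)⁻¹ * (b₀ * x * (b₀ : G)⁻¹) * b₀ := by rw [h1]
        _ = (b₁ : G)⁻¹ * b₀ * x := by group
    rw [hfix, Subgroup.mem_bot, inv_mul_eq_one] at hc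
    exact Subtype.ext hc.symm
  have hsurj := Finite.injective_iff_surjective.mp hinj
  intro b hb
  obtain ⟨b₀, h⟩ := hsurj ⟨b, hb⟩
  exact ⟨b₀, b₀.2, (congrArg Subtype.val h).symm⟩

theorem mem_normalizer_inf_cs {G : Type*} [Group G] (P : Subgroup G) [hP : P.Normal] (x y : G)
    (hxy : x * y = y * x) :
    x ∈ Subgroup.normalizer ((P ⊓ Subgroup.centralizer ({y} : Set G) : Subgroup G) : Set G) := by
  have key : ∀ t : G, t * y = y * t → ∀ u, u ∈ P ⊓ Subgroup.centralizer ({y} : Set G) →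
      t * u * t⁻¹ ∈ P ⊓ Subgroup.centralizer ({y} : Set G) := by
    intro t ht u hu
    obtain ⟨hu1, hu2⟩ := Subgroup.mem_inf.mp hu
    refine Subgroup.mem_inf.mpr ⟨hP.conj_mem u hu1 t, ?_⟩
    rw [mem_cs] at hu2 ⊢
    exact (comm_conj ht hu2.symm).symm
  rw [Subgroup.mem_normalizer_iff]
  intro u
  constructor
  · exact key x hxy u
  · intro h
    have hx' : x⁻¹ * y = y * x⁻¹ := by
      have : Commute x y := hxy
      exact this.inv_left.eq
    have := key x⁻¹ hx' _ h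
    have e : x⁻¹ * (x * u * x⁻¹) * x⁻¹⁻¹ = u := by group
    rwa [e] at this

theorem half {G : Type*} [Group G] [Finite G] (P Z : Subgroup G) [hP : P.Normal] (x₁ x₂ : G)
    (hx : x₁ * x₂ = x₂ * x₁) (hZP : Z ≤ P) (hZc : ∀ z ∈ Z, ∀ u ∈ P, z * u = u * z)
    (hgen : Z ≤ (Z ⊓ Subgroup.centralizer ({x₁} : Set G)) ⊔ (Z ⊓ Subgroup.centralizer ({x₂} : Set G)))
    (hfix : (P ⊓ Subgroup.centralizer ({x₂} : Set G)) ⊓ Subgroup.centralizer ({x₁} : Set G) = ⊥)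
    (hcomm : ∀ a' ∈ P ⊓ Subgroup.centralizer ({x₁} : Set G),
      ∀ b' ∈ P ⊓ Subgroup.centralizer ({x₂} : Set G), a' * b' * a'⁻¹ * b'⁻¹ ∈ Z)
    (a b : G) (ha : a ∈ P ⊓ Subgroup.centralizer ({x₁} : Set G))
    (hb : b ∈ P ⊓ Subgroup.centralizer ({x₂} : Set G)) :
    x₂ * (a * b * a⁻¹ * b⁻¹) = (a * b * a⁻¹ * b⁻¹) * x₂ := by
  have hx₁N := mem_normalizer_inf_cs P x₁ x₂ hx
  obtain ⟨b₀, hb₀, hbb₀⟩ := fpf_surj _ x₁ hx₁N hfix b hb
  have hb₁ : x₁ * b₀ * x₁⁻¹ ∈ P ⊓ Subgroup.centralizer ({x₂} : Set G) :=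
    (Subgroup.mem_normalizer_iff.mp hx₁N b₀).mp hb₀
  set b₁ := x₁ * b₀ * x₁⁻¹ with hb₁def
  have hax₁ : x₁ * a = a * x₁ := mem_cs.mp (Subgroup.mem_inf.mp ha).2
  set z := a * b₀ * a⁻¹ * b₀⁻¹ with hz
  set z' := a * b₁ * a⁻¹ * b₁⁻¹ with hz'
  have hzZ : z ∈ Z := hcomm a ha b₀ hb₀
  have hz'Z : z' ∈ Z := hcomm a ha b₁ hb₁
  have hz'eq : z' = x₁ * z * x₁⁻¹ := by
    have hax₁' : x₁ * a⁻¹ = a⁻¹ * x₁ := by
      have : Commute x₁ a := hax₁
      exact this.inv_right.eq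
    rw [hz', hz, hb₁def]
    calc a * (x₁ * b₀ * x₁⁻¹) * a⁻¹ * (x₁ * b₀ * x₁⁻¹)⁻¹
        = (a * x₁) * b₀ * (x₁⁻¹ * a⁻¹ * x₁) * b₀⁻¹ * x₁⁻¹ := by group
      _ = (x₁ * a) * b₀ * (x₁⁻¹ * (x₁ * a⁻¹)) * b₀⁻¹ * x₁⁻¹ := by rw [hax₁, hax₁']; simp only [mul_assoc]
      _ = x₁ * (a * b₀ * a⁻¹ * b₀⁻¹) * x₁⁻¹ := by group
  have hb₀P : b₀ ∈ P := (Subgroup.mem_inf.mp hb₀).1
  have hb₁P : b₁ ∈ P := (Subgroup.mem_inf.mp hb₁).1
  have hc1 : Commute z'⁻¹ b₁ := (show Commute z' b₁ from hZc z' hz'Z b₁ hb₁P).inv_left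
  have hc2 : Commute z'⁻¹ b₀⁻¹ := ((show Commute z' b₀ from hZc z' hz'Z b₀ hb₀P).inv_left).inv_right
  have hceq : a * b * a⁻¹ * b⁻¹ = z * z'⁻¹ := by
    have e1 : a * b₀ * a⁻¹ = z * b₀ := by rw [hz]; group
    have e2 : a * b₁⁻¹ * a⁻¹ = b₁⁻¹ * z'⁻¹ := by rw [hz']; group
    rw [hbb₀]
    calc a * (b₀ * b₁⁻¹) * a⁻¹ * (b₀ * b₁⁻¹)⁻¹
        = (a * b₀ * a⁻¹) * (a * b₁⁻¹ * a⁻¹) * b₁ * b₀⁻¹ := by group
      _ = z * b₀ * (b₁⁻¹ * z'⁻¹) * b₁ * b₀⁻¹ := by rw [e1, e2]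
      _ = z * b₀ * b₁⁻¹ * (z'⁻¹ * b₁) * b₀⁻¹ := by group
      _ = z * b₀ * b₁⁻¹ * (b₁ * z'⁻¹) * b₀⁻¹ := by rw [hc1.eq]
      _ = z * b₀ * (z'⁻¹ * b₀⁻¹) := by group
      _ = z * b₀ * (b₀⁻¹ * z'⁻¹) := by rw [hc2.eq]
      _ = z * z'⁻¹ := by group
  -- decompose z
  have hnorm : Z ⊓ Subgroup.centralizer ({x₁} : Set G) ≤
      Subgroup.normalizer ((Z ⊓ Subgroup.centralizer ({x₂} : Set G) : Subgroup G) : Set G) := by
    refine le_trans ?_ (Subgroup.centralizer_le_normalizer _)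
    intro g hg
    rw [Subgroup.mem_centralizer_iff]
    intro u hu
    exact (hZc g (Subgroup.mem_inf.mp hg).1 u (hZP (Subgroup.mem_inf.mp hu).1)).symm
  obtain ⟨z₁, hz₁, z₂, hz₂, hzz⟩ := mem_sup_of_le_normalizer hnorm (hgen hzZ)
  have hz₁x : x₁ * z₁ = z₁ * x₁ := mem_cs.mp (Subgroup.mem_inf.mp hz₁).2
  have hz₂x : x₂ * z₂ = z₂ * x₂ := mem_cs.mp (Subgroup.mem_inf.mp hz₂).2
  have hz₁Z : z₁ ∈ Z := (Subgroup.mem_inf.mp hz₁).1
  have hz₂P : z₂ ∈ P := hZP (Subgroup.mem_inf.mp hz₂).1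
  set z₂' := x₁ * z₂ * x₁⁻¹ with hz₂'
  have hz₂'P : z₂' ∈ P := hP.conj_mem z₂ hz₂P x₁
  have hz₂'x : x₂ * z₂' = z₂' * x₂ := (comm_conj hx hz₂x.symm).symm
  have hc3 : Commute z₁ (z₂ * z₂'⁻¹) :=
    hZc z₁ hz₁Z _ (P.mul_mem hz₂P (P.inv_mem hz₂'P))
  have hcfin : a * b * a⁻¹ * b⁻¹ = z₂ * z₂'⁻¹ := by
    rw [hceq, hz'eq, hzz]
    have e3 : x₁ * (z₁ * z₂) * x₁⁻¹ = z₁ * z₂' := by
      rw [hz₂']
      calc x₁ * (z₁ * z₂) * x₁⁻¹ = (x₁ * z₁) * z₂ * x₁⁻¹ := by group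
        _ = (z₁ * x₁) * z₂ * x₁⁻¹ := by rw [hz₁x]
        _ = z₁ * (x₁ * z₂ * x₁⁻¹) := by group
    rw [e3]
    calc z₁ * z₂ * (z₁ * z₂')⁻¹ = z₁ * (z₂ * z₂'⁻¹) * z₁⁻¹ := by group
      _ = (z₂ * z₂'⁻¹) * z₁ * z₁⁻¹ := by rw [hc3.eq]
      _ = z₂ * z₂'⁻¹ := by group
  rw [hcfin]
  have h1 : Commute x₂ z₂ := hz₂x
  have h2 : Commute x₂ z₂' := hz₂'x
  exact (h1.mul_right h2.inv_right).eq

theorem main {p q : ℕ} [hp : Fact p.Prime] [hq : Fact q.Prime] (hpq : p ≠ q) :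
    ∀ (n : ℕ) (S : Type u) [Group S] [Finite S], Nat.card S = n →
    ∀ (P : Subgroup S) [P.Normal], IsPGroup p P → ∀ x₁ x₂ : S, x₁ * x₂ = x₂ * x₁ →
    x₁ ^ q = 1 → x₂ ^ q = 1 →
    (∀ i : ZMod q, i ≠ 0 → P ⊓ Subgroup.centralizer ({x₁ ^ i.val * x₂} : Set S) = ⊥) →
    ∀ a ∈ P ⊓ Subgroup.centralizer ({x₁} : Set S),
    ∀ b ∈ P ⊓ Subgroup.centralizer ({x₂} : Set S), a * b = b * a := by
  intro n
  induction n using Nat.strong_induction_on with
  | _ n ih =>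
  intro S _ _ hn P hPn hP x₁ x₂ hx hx₁ hx₂ hfpf a ha b hb
  haveI : Fact (1 < q) := ⟨hq.out.one_lt⟩
  by_cases hPbot : P = ⊥
  · have : a ∈ P := (Subgroup.mem_inf.mp ha).1
    rw [hPbot, Subgroup.mem_bot] at this
    rw [this, one_mul, mul_one]
  · haveI : Nontrivial P := (Subgroup.nontrivial_iff_ne_bot P).mpr hPbot
    have hcen : Nontrivial (Subgroup.center P) := hP.center_nontrivial
    set Z : Subgroup S := (Subgroup.center P).map P.subtype with hZ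
    have hZP : Z ≤ P := Subgroup.map_subtype_le _
    have hZc : ∀ z ∈ Z, ∀ u ∈ P, z * u = u * z := by
      rintro _ ⟨z, hz, rfl⟩ u hu
      have := Subgroup.mem_center_iff.mp hz ⟨u, hu⟩
      exact (congrArg Subtype.val this).symm
    haveI hZn : Z.Normal := ConjAct.normal_of_characteristic_of_normal
    have hZne : Z ≠ ⊥ := by
      rw [hZ, Ne, Subgroup.map_eq_bot_iff_of_injective _ P.subtype_injective]
      exact (Subgroup.nontrivial_iff_ne_bot _).mp hcen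
    have hcard_lt : Nat.card (S ⧸ Z) < n := by
      have h1 := Subgroup.card_eq_card_quotient_mul_card_subgroup Z
      have h2 : 1 < Nat.card Z := (Subgroup.one_lt_card_iff_ne_bot Z).mpr hZne
      have h3 : 0 < Nat.card (S ⧸ Z) := Nat.card_pos
      rw [← hn, h1]
      nlinarith
    have hZp : IsPGroup p Z := hP.to_le hZP
    have hqZ : ¬ q ∣ Nat.card Z := by
      obtain ⟨k, hk⟩ := hZp.exists_card_eq
      rw [hk]
      intro h
      have := hq.out.dvd_of_dvd_pow h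
      exact hpq ((Nat.prime_dvd_prime_iff_eq hq.out hp.out).mp this).symm
    have hcopZ : (Nat.card Z).Coprime q := ((Nat.Prime.coprime_iff_not_dvd hq.out).mpr hqZ).symm
    have hfix0 : (P ⊓ Subgroup.centralizer ({x₂} : Set S)) ⊓ Subgroup.centralizer ({x₁} : Set S) = ⊥ := by
      rw [eq_bot_iff]
      intro g hg
      obtain ⟨hg12, hg1⟩ := Subgroup.mem_inf.mp hg
      obtain ⟨hgP, hg2⟩ := Subgroup.mem_inf.mp hg12
      rw [mem_cs] at hg1 hg2
      have h1 := hfpf 1 one_ne_zero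
      rw [← h1]
      refine Subgroup.mem_inf.mpr ⟨hgP, ?_⟩
      rw [mem_cs, ZMod.val_one, pow_one]
      have c1 : Commute x₁ g := hg1
      have c2 : Commute x₂ g := hg2
      exact (c1.mul_left c2).eq
    have hNtop : ∀ y : S, y ∈ Subgroup.normalizer (Z : Set S) := by
      intro y; rw [Subgroup.normalizer_eq_top]; exact Subgroup.mem_top y
    have hcomm : ∀ a' ∈ P ⊓ Subgroup.centralizer ({x₁} : Set S),
        ∀ b' ∈ P ⊓ Subgroup.centralizer ({x₂} : Set S), a' * b' * a'⁻¹ * b'⁻¹ ∈ Z := by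
      intro a' ha' b' hb'
      haveI : (P.map (QuotientGroup.mk' Z)).Normal :=
        hPn.map (QuotientGroup.mk' Z) (QuotientGroup.mk'_surjective Z)
      have hfpf' : ∀ i : ZMod q, i ≠ 0 → P.map (QuotientGroup.mk' Z) ⊓
          Subgroup.centralizer ({(QuotientGroup.mk' Z) x₁ ^ i.val * (QuotientGroup.mk' Z) x₂} : Set (S ⧸ Z)) = ⊥ := by
        intro i hi
        rw [eq_bot_iff]
        intro ū hū
        obtain ⟨⟨u, hu, rfl⟩, hū2⟩ := Subgroup.mem_inf.mp hū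
        rw [mem_cs] at hū2
        set y := x₁ ^ i.val * x₂ with hy
        have hπy : (QuotientGroup.mk' Z) y = (QuotientGroup.mk' Z) x₁ ^ i.val * (QuotientGroup.mk' Z) x₂ := by
          rw [hy, map_mul, map_pow]
        rw [← hπy] at hū2
        have h1 : y * u * y⁻¹ * u⁻¹ ∈ Z := by
          rw [← QuotientGroup.ker_mk' Z, MonoidHom.mem_ker, map_mul, map_mul, map_mul, hū2,
            map_inv, map_inv]
          group
        have hw : u⁻¹ * y * u * y⁻¹ ∈ Z := by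
          have := hZn.conj_mem _ h1 u⁻¹
          have e : u⁻¹ * (y * u * y⁻¹ * u⁻¹) * u⁻¹⁻¹ = u⁻¹ * y * u * y⁻¹ := by group
          rwa [e] at this
        have hyq : y ^ q = 1 := by
          have c : Commute (x₁ ^ i.val) x₂ := (show Commute x₁ x₂ from hx).pow_left _
          rw [hy, c.mul_pow, hx₂, ← pow_mul, mul_comm, pow_mul, hx₁, one_pow, one_mul]
        have hyq' : IsPGroup q (Subgroup.zpowers y) := by
          obtain ⟨j, -, hj⟩ := (Nat.dvd_prime_pow hq.out).mp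
            (orderOf_dvd_of_pow_eq_one (n := q ^ 1) (by rw [pow_one]; exact hyq))
          exact IsPGroup.of_card (n := j) (by rw [Nat.card_zpowers, hj])
        obtain ⟨c, hc, hfixed⟩ := coset_fixed_point (r := q) Z y u (hNtop y) hyq' hqZ hw
        have huc : u * c ∈ P ⊓ Subgroup.centralizer ({y} : Set S) := by
          refine Subgroup.mem_inf.mpr ⟨P.mul_mem hu (hZP hc), ?_⟩
          rw [mem_cs]
          have := congrArg (fun t => t * y) hfixed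
          simpa [mul_assoc] using this
        rw [hfpf i hi, Subgroup.mem_bot] at huc
        rw [Subgroup.mem_bot]
        have hu' : u = c⁻¹ := eq_inv_of_mul_eq_one_left huc
        rw [hu']
        exact (QuotientGroup.eq_one_iff _).mpr (Z.inv_mem hc)
      have key := ih _ hcard_lt (S ⧸ Z) rfl (P.map (QuotientGroup.mk' Z)) (hP.map _)
        ((QuotientGroup.mk' Z) x₁) ((QuotientGroup.mk' Z) x₂)
        (by rw [← map_mul, hx, map_mul]) (by rw [← map_pow, hx₁, map_one])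
        (by rw [← map_pow, hx₂, map_one]) hfpf'
        ((QuotientGroup.mk' Z) a')
        (Subgroup.mem_inf.mpr ⟨Subgroup.mem_map_of_mem _ (Subgroup.mem_inf.mp ha').1, by
          rw [mem_cs, ← map_mul, ← map_mul, mem_cs.mp (Subgroup.mem_inf.mp ha').2]⟩)
        ((QuotientGroup.mk' Z) b')
        (Subgroup.mem_inf.mpr ⟨Subgroup.mem_map_of_mem _ (Subgroup.mem_inf.mp hb').1, by
          rw [mem_cs, ← map_mul, ← map_mul, mem_cs.mp (Subgroup.mem_inf.mp hb').2]⟩)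
      rw [← QuotientGroup.ker_mk' Z, MonoidHom.mem_ker, map_mul, map_mul, map_mul, key, map_inv,
        map_inv]
      group
    have hgen : Z ≤ (Z ⊓ Subgroup.centralizer ({x₁} : Set S)) ⊔
        (Z ⊓ Subgroup.centralizer ({x₂} : Set S)) := by
      apply le_gen_of_coprime (p := q) Z hcopZ x₁ x₂ (hNtop x₁) (hNtop x₂) hx hx₁ hx₂ _ le_sup_left
      intro i
      by_cases hi : i = 0
      · subst hi
        rw [ZMod.val_zero, pow_zero, one_mul]
        exact le_sup_right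
      · have h1 : Z ⊓ Subgroup.centralizer ({x₁ ^ i.val * x₂} : Set S) ≤
            P ⊓ Subgroup.centralizer ({x₁ ^ i.val * x₂} : Set S) := inf_le_inf_right _ hZP
        rw [hfpf i hi] at h1
        exact h1.trans bot_le
    have h2 := half P Z x₁ x₂ hx hZP hZc hgen hfix0 hcomm a b ha hb
    have hfix0' : (P ⊓ Subgroup.centralizer ({x₁} : Set S)) ⊓ Subgroup.centralizer ({x₂} : Set S) = ⊥ := by
      rw [inf_right_comm]; exact hfix0
    have hcomm' : ∀ a' ∈ P ⊓ Subgroup.centralizer ({x₂} : Set S),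
        ∀ b' ∈ P ⊓ Subgroup.centralizer ({x₁} : Set S), a' * b' * a'⁻¹ * b'⁻¹ ∈ Z := by
      intro a' ha' b' hb'
      have := Z.inv_mem (hcomm b' hb' a' ha')
      have e : (b' * a' * b'⁻¹ * a'⁻¹)⁻¹ = a' * b' * a'⁻¹ * b'⁻¹ := by group
      rwa [e] at this
    have h1 := half P Z x₂ x₁ hx.symm hZP hZc (by rw [sup_comm]; exact hgen) hfix0' hcomm' b a hb ha
    set c := a * b * a⁻¹ * b⁻¹ with hc
    have hcP : c ∈ P := by
      have haP := (Subgroup.mem_inf.mp ha).1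
      have hbP := (Subgroup.mem_inf.mp hb).1
      exact P.mul_mem (P.mul_mem (P.mul_mem haP hbP) (P.inv_mem haP)) (P.inv_mem hbP)
    have hc1 : x₁ * c = c * x₁ := by
      have e : c = (b * a * b⁻¹ * a⁻¹)⁻¹ := by rw [hc]; group
      have cc : Commute x₁ (b * a * b⁻¹ * a⁻¹) := h1
      rw [e]
      exact cc.inv_right.eq
    have hcbot : c ∈ (P ⊓ Subgroup.centralizer ({x₂} : Set S)) ⊓ Subgroup.centralizer ({x₁} : Set S) :=
      Subgroup.mem_inf.mpr ⟨Subgroup.mem_inf.mpr ⟨hcP, mem_cs.mpr h2⟩, mem_cs.mpr hc1⟩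
    rw [hfix0, Subgroup.mem_bot] at hcbot
    have := congrArg (fun t => t * b * a) hcbot
    simpa [hc, mul_assoc] using this

theorem centralizer_zpowers_eq {G : Type*} [Group G] (y : G) :
    Subgroup.centralizer ((Subgroup.zpowers y : Subgroup G) : Set G) =
      Subgroup.centralizer ({y} : Set G) := by
  apply le_antisymm
  · apply Subgroup.centralizer_le
    intro t ht
    rw [Set.mem_singleton_iff] at ht
    rw [ht]; exact Subgroup.mem_zpowers y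
  · intro g hg
    rw [mem_cs] at hg
    rw [Subgroup.mem_centralizer_iff]
    intro h hh
    obtain ⟨k, rfl⟩ := Subgroup.mem_zpowers_iff.mp hh
    have c : Commute y g := hg
    exact (c.zpow_left k).eq

theorem zpowers_eq_of_mem {G : Type*} [Group G] [Finite G] {q : ℕ} [hq : Fact q.Prime]
    (X : Subgroup G) (hX : Nat.card X = q) (x : G) (hx : x ∈ X) (hx1 : x ≠ 1) :
    Subgroup.zpowers x = X := by
  have hle : Subgroup.zpowers x ≤ X := (Subgroup.zpowers_le).mpr hx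
  apply Subgroup.eq_of_le_of_card_ge hle
  rw [Nat.card_zpowers, hX]
  have h1 : orderOf x ∣ q := by
    rw [← hX]; exact Subgroup.orderOf_dvd_natCard X hx
  rcases (Nat.dvd_prime hq.out).mp h1 with h | h
  · exact absurd (orderOf_eq_one_iff.mp h) hx1
  · exact h.ge

/-- Let S = PQ be a finite group with P a normal Sylow p-subgroup and Q elementary abelian of order q², q a prime different from p. If exactly two subgroups X₁, X₂ of order q in Q have a nontrivial centralizer in P, then P is the internal direct product of C_P(X₁) and C_P(X₂): they commute elementwise, meet trivially and generate P. -/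
theorem result {S : Type*} [Group S] [Finite S] {p q : ℕ} [Fact p.Prime] [Fact q.Prime] (hpq : p ≠ q)
    (P : Sylow p S) [(P : Subgroup S).Normal] (Q : Subgroup S) (hQ : Cfsg.IsElementaryAbelian q Q) (hQc : Nat.card Q = q ^ 2)
    (hS : (P : Subgroup S) ⊔ Q = ⊤)
    (X₁ X₂ : Subgroup S) (h₁ : X₁ ≤ Q) (h₂ : X₂ ≤ Q) (h₁₂ : X₁ ≠ X₂) (hc₁ : Nat.card X₁ = q) (hc₂ : Nat.card X₂ = q)
    (hf₁ : (P : Subgroup S) ⊓ Subgroup.centralizer (X₁ : Set S) ≠ ⊥)
    (hf₂ : (P : Subgroup S) ⊓ Subgroup.centralizer (X₂ : Set S) ≠ ⊥)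
    (honly : ∀ X : Subgroup S, X ≤ Q → Nat.card X = q →
      (P : Subgroup S) ⊓ Subgroup.centralizer (X : Set S) ≠ ⊥ → X = X₁ ∨ X = X₂) :
    ⁅(P : Subgroup S) ⊓ Subgroup.centralizer (X₁ : Set S), (P : Subgroup S) ⊓ Subgroup.centralizer (X₂ : Set S)⁆ = ⊥ ∧
      ((P : Subgroup S) ⊓ Subgroup.centralizer (X₁ : Set S)) ⊓ ((P : Subgroup S) ⊓ Subgroup.centralizer (X₂ : Set S)) = ⊥ ∧
      ((P : Subgroup S) ⊓ Subgroup.centralizer (X₁ : Set S)) ⊔ ((P : Subgroup S) ⊓ Subgroup.centralizer (X₂ : Set S)) = P := by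
  have hp : p.Prime := Fact.out
  have hq : q.Prime := Fact.out
  haveI : Fact (1 < q) := ⟨hq.one_lt⟩
  -- generators
  have hX₁ne : X₁ ≠ ⊥ := (Subgroup.one_lt_card_iff_ne_bot X₁).mp (by rw [hc₁]; exact hq.one_lt)
  have hX₂ne : X₂ ≠ ⊥ := (Subgroup.one_lt_card_iff_ne_bot X₂).mp (by rw [hc₂]; exact hq.one_lt)
  obtain ⟨⟨x₁, hx₁X⟩, hx₁ne⟩ := (Subgroup.ne_bot_iff_exists_ne_one).mp hX₁ne
  obtain ⟨⟨x₂, hx₂X⟩, hx₂ne⟩ := (Subgroup.ne_bot_iff_exists_ne_one).mp hX₂ne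
  have hx₁1 : x₁ ≠ 1 := fun h => hx₁ne (Subtype.ext h)
  have hx₂1 : x₂ ≠ 1 := fun h => hx₂ne (Subtype.ext h)
  have hzX₁ : Subgroup.zpowers x₁ = X₁ := zpowers_eq_of_mem X₁ hc₁ x₁ hx₁X hx₁1
  have hzX₂ : Subgroup.zpowers x₂ = X₂ := zpowers_eq_of_mem X₂ hc₂ x₂ hx₂X hx₂1
  have hx₁q : x₁ ^ q = 1 := hQ.2 x₁ (h₁ hx₁X)
  have hx₂q : x₂ ^ q = 1 := hQ.2 x₂ (h₂ hx₂X)
  have hx : x₁ * x₂ = x₂ * x₁ := by
    have := hQ.1.is_comm.comm ⟨x₁, h₁ hx₁X⟩ ⟨x₂, h₂ hx₂X⟩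
    exact congrArg Subtype.val this
  have hC₁ : Subgroup.centralizer (X₁ : Set S) = Subgroup.centralizer ({x₁} : Set S) := by
    rw [← hzX₁]; exact centralizer_zpowers_eq x₁
  have hC₂ : Subgroup.centralizer (X₂ : Set S) = Subgroup.centralizer ({x₂} : Set S) := by
    rw [← hzX₂]; exact centralizer_zpowers_eq x₂
  rw [hC₁, hC₂]
  have hx₂notX₁ : x₂ ∉ X₁ := by
    intro h
    apply h₁₂
    have hle : X₂ ≤ X₁ := by rw [← hzX₂]; exact (Subgroup.zpowers_le).mpr h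
    exact (Subgroup.eq_of_le_of_card_ge hle (by rw [hc₁, hc₂])).symm
  have hx₁notX₂ : x₁ ∉ X₂ := by
    intro h
    apply h₁₂
    have hle : X₁ ≤ X₂ := by rw [← hzX₁]; exact (Subgroup.zpowers_le).mpr h
    exact Subgroup.eq_of_le_of_card_ge hle (by rw [hc₁, hc₂])
  have hfpf : ∀ i : ZMod q, i ≠ 0 →
      (P : Subgroup S) ⊓ Subgroup.centralizer ({x₁ ^ i.val * x₂} : Set S) = ⊥ := by
    intro i hi
    by_contra hne
    set y := x₁ ^ i.val * x₂ with hy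
    have hyQ : y ∈ Q := Q.mul_mem (Q.pow_mem (h₁ hx₁X) _) (h₂ hx₂X)
    have hx₂eq : x₂ = (x₁ ^ i.val)⁻¹ * y := by rw [hy]; group
    have hy1 : y ≠ 1 := by
      intro h
      apply hx₂notX₁
      rw [hx₂eq, h, mul_one]
      exact X₁.inv_mem (X₁.pow_mem hx₁X _)
    have hYc : Nat.card (Subgroup.zpowers y) = q := by
      rw [Nat.card_zpowers]
      exact orderOf_eq_prime (hQ.2 y hyQ) hy1
    have hYQ : Subgroup.zpowers y ≤ Q := (Subgroup.zpowers_le).mpr hyQ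
    have hYne : (P : Subgroup S) ⊓ Subgroup.centralizer ((Subgroup.zpowers y : Subgroup S) : Set S) ≠ ⊥ := by
      rw [centralizer_zpowers_eq]; exact hne
    rcases honly _ hYQ hYc hYne with h | h
    · apply hx₂notX₁
      rw [hx₂eq]
      refine X₁.mul_mem (X₁.inv_mem (X₁.pow_mem hx₁X _)) ?_
      rw [← h]; exact Subgroup.mem_zpowers y
    · apply hx₁notX₂
      have h3 : x₁ ^ i.val ∈ X₂ := by
        have e : x₁ ^ i.val = y * x₂⁻¹ := by rw [hy]; group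
        rw [e]
        refine X₂.mul_mem ?_ (X₂.inv_mem hx₂X)
        rw [← h]; exact Subgroup.mem_zpowers y
      have h4 : (x₁ ^ i.val) ^ (i⁻¹).val = x₁ := by
        rw [← pow_val_mul x₁ hx₁q, mul_inv_cancel₀ hi, ZMod.val_one, pow_one]
      rw [← h4]
      exact X₂.pow_mem h3 _
  have hPp : IsPGroup p (P : Subgroup S) := P.isPGroup'
  have hmain := main (p := p) (q := q) hpq (Nat.card S) S rfl (P : Subgroup S) hPp x₁ x₂ hx hx₁q hx₂q hfpf
  have hNtop : ∀ y : S, y ∈ Subgroup.normalizer ((P : Subgroup S) : Set S) := by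
    intro y; rw [Subgroup.normalizer_eq_top]; exact Subgroup.mem_top y
  have hcop : (Nat.card (P : Subgroup S)).Coprime q := by
    obtain ⟨k, hk⟩ := hPp.exists_card_eq
    rw [hk]
    exact Nat.Coprime.pow_left k ((Nat.coprime_primes hp hq).mpr hpq)
  refine ⟨?_, ?_, ?_⟩
  · rw [Subgroup.commutator_eq_bot_iff_le_centralizer]
    intro a ha
    rw [Subgroup.mem_centralizer_iff]
    intro b hb
    exact (hmain a ha b hb).symm
  · rw [eq_bot_iff]
    intro g hg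
    obtain ⟨hg1, hg2⟩ := Subgroup.mem_inf.mp hg
    obtain ⟨hgP, hg1'⟩ := Subgroup.mem_inf.mp hg1
    have hg2' := (Subgroup.mem_inf.mp hg2).2
    rw [mem_cs] at hg1' hg2'
    have h1 := hfpf 1 one_ne_zero
    rw [← h1]
    refine Subgroup.mem_inf.mpr ⟨hgP, ?_⟩
    rw [mem_cs, ZMod.val_one, pow_one]
    have c1 : Commute x₁ g := hg1'
    have c2 : Commute x₂ g := hg2'
    exact (c1.mul_left c2).eq
  · apply le_antisymm (sup_le inf_le_left inf_le_left)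
    apply le_gen_of_coprime (p := q) (P : Subgroup S) hcop x₁ x₂ (hNtop x₁) (hNtop x₂) hx hx₁q hx₂q _
      le_sup_left
    intro i
    by_cases hi : i = 0
    · subst hi
      rw [ZMod.val_zero, pow_zero, one_mul]
      exact le_sup_right
    · rw [hfpf i hi]; exact bot_le

end Cfsg.Agent.S1900
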