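import Mathlib
import Cfsg.Statements.S1907
import Cfsg.Agent.Lib.Helper2.Cores
import Cfsg.Agent.Lib.Helper1.FusionLift

set_option autoImplicit false
open Cfsg

namespace Cfsg.Agent.S1907

open Cfsg.Agent.Lib.Helper2 Cfsg.Agent.Lib.Helper1 Cfsg.Agent.Lib.Helper29

/-- `N_G(H) ∩ D ≤ C_G(H)` for a `p`-group `H` and a normal `p'`-group `D`. -/
theorem norm_inf_le_centralizer {G : Type*} [Group G] [Finite G] {p : ℕ} [Fact p.Prime]
    (D H : Subgroup G) [D.Normal] (hD : (Nat.card D).Coprime p) (hH : IsPGroup p H)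
    (e : G) (heN : e ∈ Subgroup.normalizer (H : Set G)) (heD : e ∈ D) :
    e ∈ Subgroup.centralizer (H : Set G) := by
  rw [Subgroup.mem_centralizer_iff]
  intro h hh
  have h1 : e * h * e⁻¹ ∈ H := (Subgroup.mem_normalizer_iff.mp heN h).mp hh
  have h2 : e * h * e⁻¹ * h⁻¹ ∈ H := H.mul_mem h1 (H.inv_mem hh)
  have h3 : e * h * e⁻¹ * h⁻¹ ∈ D := by
    have : h * e⁻¹ * h⁻¹ ∈ D := (inferInstance : D.Normal).conj_mem _ (D.inv_mem heD) h
    have e' : e * h * e⁻¹ * h⁻¹ = e * (h * e⁻¹ * h⁻¹) := by group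
    rw [e']; exact D.mul_mem heD this
  have hbot : H ⊓ D = ⊥ := by
    apply Subgroup.inf_eq_bot_of_coprime
    obtain ⟨n, hn⟩ := hH.exists_card_eq
    rw [hn]
    exact (Nat.Coprime.pow_right n hD).symm
  have h4 : e * h * e⁻¹ * h⁻¹ ∈ H ⊓ D := Subgroup.mem_inf.mpr ⟨h2, h3⟩
  rw [hbot, Subgroup.mem_bot] at h4
  -- e h e⁻¹ h⁻¹ = 1 → h * e = e * h
  have : e * h = h * e := by
    have := congrArg (fun t => t * h * e) h4
    simpa [mul_assoc] using this
  exact this.symm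

theorem partA {G : Type*} [Group G] [Finite G] {p : ℕ} [Fact p.Prime]
    (D H : Subgroup G) [D.Normal] (hD : (Nat.card D).Coprime p) (hH : IsPGroup p H)
    (y : G) (hy : y ∈ Subgroup.normalizer (H : Set G)) (hyp : ∃ k : ℕ, orderOf y = p ^ k)
    (d : G) (hd : d ∈ D) (hdy : d⁻¹ * y * d ∈ Subgroup.normalizer (H : Set G)) :
    ∃ d₁ ∈ D ⊓ Subgroup.centralizer ({y} : Set G),
      ∃ d₂ ∈ D ⊓ Subgroup.centralizer (H : Set G), d = d₁ * d₂ := by
  set C₀ : Subgroup G := D ⊓ Subgroup.centralizer (H : Set G) with hC₀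
  -- y normalizes C₀
  have hyC₀ : y ∈ Subgroup.normalizer (C₀ : Set G) := by
    apply mem_normalizer_of_cj_eq
    rw [hC₀, cj_inf, cj_normal, cj_centralizer, cj_eq_of_mem_normalizer hy]
  -- w := d⁻¹ y d y⁻¹ ∈ C₀
  have hw : d⁻¹ * y * d * y⁻¹ ∈ C₀ := by
    have hwN : d⁻¹ * y * d * y⁻¹ ∈ Subgroup.normalizer (H : Set G) :=
      Subgroup.mul_mem _ hdy (Subgroup.inv_mem _ hy)
    have hwD : d⁻¹ * y * d * y⁻¹ ∈ D := by
      have : y * d * y⁻¹ ∈ D := (inferInstance : D.Normal).conj_mem _ hd y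
      have e' : d⁻¹ * y * d * y⁻¹ = d⁻¹ * (y * d * y⁻¹) := by group
      rw [e']; exact D.mul_mem (D.inv_mem hd) this
    exact Subgroup.mem_inf.mpr ⟨hwD, norm_inf_le_centralizer D H hD hH _ hwN hwD⟩
  set S : Set G := {z | d⁻¹ * z ∈ C₀} with hS
  have hyS : y ∈ Subgroup.normalizer S := by
    rw [Subgroup.mem_set_normalizer_iff]
    intro z
    show d⁻¹ * z ∈ C₀ ↔ d⁻¹ * (y * z * y⁻¹) ∈ C₀
    have e' : d⁻¹ * (y * z * y⁻¹) = (d⁻¹ * y * d * y⁻¹) * (y * (d⁻¹ * z) * y⁻¹) := by group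
    rw [e', Subgroup.mul_mem_cancel_left _ hw]
    exact Subgroup.mem_normalizer_iff.mp hyC₀ _
  have hle : Subgroup.zpowers y ≤ Subgroup.normalizer S := by
    rw [Subgroup.zpowers_le]; exact hyS
  letI act : MulAction (Subgroup.zpowers y) S :=
    { smul := fun g z => ⟨g * z * g⁻¹, (Subgroup.mem_set_normalizer_iff.mp (hle g.2) z).mp z.2⟩
      one_smul := fun z => Subtype.ext (by show (1 : G) * z * (1 : G)⁻¹ = z; simp)
      mul_smul := fun g g' z => Subtype.ext (by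
        show ((g * g' : Subgroup.zpowers y) : G) * z * ((g * g' : Subgroup.zpowers y) : G)⁻¹
          = g * (g' * z * (g' : G)⁻¹) * (g : G)⁻¹
        simp [mul_assoc]) }
  have hYp : IsPGroup p (Subgroup.zpowers y) := by
    obtain ⟨k, hk⟩ := hyp
    exact IsPGroup.of_card (n := k) (by rw [Nat.card_zpowers, hk])
  have hcard : Nat.card S = Nat.card C₀ := by
    apply Nat.card_congr
    exact
      { toFun := fun z => ⟨d⁻¹ * z, z.2⟩
        invFun := fun c => ⟨d * c, by show d⁻¹ * (d * c) ∈ C₀; simpa using c.2⟩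
        left_inv := fun z => Subtype.ext (by simp)
        right_inv := fun c => Subtype.ext (by simp) }
  have hnd : ¬ p ∣ Nat.card S := by
    rw [hcard]
    intro hdvd
    have h1 : p ∣ Nat.card D := hdvd.trans (Subgroup.card_dvd_of_le inf_le_left)
    have := Nat.Coprime.eq_one_of_dvd hD.symm h1
    exact (Fact.out : p.Prime).ne_one this
  obtain ⟨z, hz⟩ := hYp.nonempty_fixed_point_of_prime_not_dvd_card S hnd
  have hzy : y * z * y⁻¹ = z := by
    have := hz ⟨y, Subgroup.mem_zpowers y⟩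
    exact congrArg Subtype.val this
  have hzC₀ : d⁻¹ * (z : G) ∈ C₀ := z.2
  have hzD : (z : G) ∈ D := by
    have : (z : G) = d * (d⁻¹ * z) := by group
    rw [this]; exact D.mul_mem hd (Subgroup.mem_inf.mp hzC₀).1
  refine ⟨z, Subgroup.mem_inf.mpr ⟨hzD, ?_⟩, (z : G)⁻¹ * d, ?_, by group⟩
  · rw [Subgroup.mem_centralizer_iff]
    intro t ht
    rw [Set.mem_singleton_iff] at ht
    subst ht
    have := congrArg (fun u => u * t) hzy
    simpa [mul_assoc] using this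
  · have : (z : G)⁻¹ * d = (d⁻¹ * z)⁻¹ := by group
    rw [this]; exact C₀.inv_mem hzC₀

/-- Let P be a Sylow p-subgroup of a finite group G, H = P ∩ O_{p',p}(G), N = N_G(H) and D = O_{p'}(G). (a) If y is an element of p-power order of N and d ∈ D with d⁻¹ y d ∈ N, then d = d₁ d₂ with d₁ ∈ C_D(y) and d₂ ∈ C_D(H). (b) Two elements of P that are conjugate in G are conjugate in N. -/
theorem result {G : Type*} [Group G] [Finite G] {p : ℕ} [Fact p.Prime] (P : Sylow p G) :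
    (∀ y ∈ Subgroup.normalizer (((P : Subgroup G) ⊓ Cfsg.pPrimePCore p G : Subgroup G) : Set G), (∃ k : ℕ, orderOf y = p ^ k) →
      ∀ d ∈ Cfsg.pPrimeCore p G, d⁻¹ * y * d ∈ Subgroup.normalizer (((P : Subgroup G) ⊓ Cfsg.pPrimePCore p G : Subgroup G) : Set G) →
        ∃ d₁ ∈ Cfsg.pPrimeCore p G ⊓ Subgroup.centralizer ({y} : Set G),
          ∃ d₂ ∈ Cfsg.pPrimeCore p G ⊓ Subgroup.centralizer (((P : Subgroup G) ⊓ Cfsg.pPrimePCore p G : Subgroup G) : Set G), d = d₁ * d₂) ∧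
    ∀ x y : G, x ∈ (P : Subgroup G) → y ∈ (P : Subgroup G) → IsConj x y →
      ∃ n ∈ Subgroup.normalizer (((P : Subgroup G) ⊓ Cfsg.pPrimePCore p G : Subgroup G) : Set G), n * x * n⁻¹ = y := by
  haveI hDn : (pPrimeCore p G).Normal := Cfsg.pPrimeCore_normal p G
  have hDc : (Nat.card (pPrimeCore p G)).Coprime p := pPrimeCore_coprime p
  haveI hKn : (pPrimePCore p G).Normal := by
    unfold pPrimePCore
    haveI : (pCore p (G ⧸ pPrimeCore p G)).Normal := Cfsg.pCore_normal p _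
    exact Subgroup.Normal.comap inferInstance _
  set D := pPrimeCore p G with hD
  set K := pPrimePCore p G with hK
  set H : Subgroup G := (P : Subgroup G) ⊓ K with hH
  have hHp : IsPGroup p H := P.isPGroup'.to_le inf_le_left
  have hA := fun y hy hyp d hd hdy => partA D H hDc hHp y hy hyp d hd hdy
  refine ⟨hA, ?_⟩
  intro x y hx hy hxy
  obtain ⟨g, hg⟩ := isConj_iff.mp hxy
  -- P ≤ N_G(H)
  have hPN : (P : Subgroup G) ≤ Subgroup.normalizer (H : Set G) := by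
    have h1 : (P : Subgroup G) ≤ Subgroup.normalizer ((P : Subgroup G) : Set G) :=
      Subgroup.le_normalizer
    have h2 : (P : Subgroup G) ≤ Subgroup.normalizer (K : Set G) := by
      rw [Subgroup.normalizer_eq_top]; exact le_top
    exact le_normalizer_inf h1 h2
  -- Frattini: G = D N
  have hpow : ∀ k ∈ K, ∃ a : ℕ, k ^ (p ^ a) ∈ D := by
    intro k hk
    have hk' : (QuotientGroup.mk' D) k ∈ pCore p (G ⧸ D) := hk
    obtain ⟨a, ha⟩ := (pCore_isPGroup (G := G ⧸ D) p) ⟨_, hk'⟩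
    refine ⟨a, ?_⟩
    have := congrArg Subtype.val ha
    simp only [SubmonoidClass.coe_pow, OneMemClass.coe_one] at this
    rw [← map_pow, ← MonoidHom.mem_ker, QuotientGroup.ker_mk'] at this
    exact this
  have hfr := frattini_split (L := ⊤) (P₁ := (P : Subgroup G)) (D₀ := K) (C := D)
    (isSylowSub_top P) le_top le_top
    (by rw [Subgroup.normalizer_eq_top])
    (by rw [Subgroup.normalizer_eq_top]) hpow g (Subgroup.mem_top g)
  obtain ⟨c, hc, n, hn, hgcn⟩ := hfr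
  have hcD : c ∈ D := (Subgroup.mem_inf.mp hc).1
  have hnN : n ∈ Subgroup.normalizer (H : Set G) := (Subgroup.mem_inf.mp hn).2
  -- c⁻¹ y c = n x n⁻¹ ∈ N
  have h1 : c⁻¹ * y * c = n * x * n⁻¹ := by
    rw [← hg, hgcn]; group
  have h1N : c⁻¹ * y * c ∈ Subgroup.normalizer (H : Set G) := by
    rw [h1]
    exact Subgroup.mul_mem _ (Subgroup.mul_mem _ hnN (hPN hx)) (Subgroup.inv_mem _ hnN)
  have hyp : ∃ k : ℕ, orderOf y = p ^ k := by
    obtain ⟨k, hk⟩ := P.isPGroup' ⟨y, hy⟩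
    have : y ^ p ^ k = 1 := by
      have := congrArg Subtype.val hk
      simpa using this
    obtain ⟨j, -, hj⟩ := (Nat.dvd_prime_pow (Fact.out : p.Prime)).mp (orderOf_dvd_of_pow_eq_one this)
    exact ⟨j, hj⟩
  obtain ⟨d₁, hd₁, d₂, hd₂, hcd⟩ := hA y (hPN hy) hyp c hcD h1N
  have hd₁y : d₁ * y = y * d₁ := by
    have := Subgroup.mem_centralizer_iff.mp (Subgroup.mem_inf.mp hd₁).2 y (Set.mem_singleton y)
    exact this.symm
  have hd₂N : d₂ ∈ Subgroup.normalizer (H : Set G) :=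
    Subgroup.centralizer_le_normalizer _ (Subgroup.mem_inf.mp hd₂).2
  refine ⟨d₂ * n, Subgroup.mul_mem _ hd₂N hnN, ?_⟩
  -- y = d₂ n x n⁻¹ d₂⁻¹
  have h2 : d₂⁻¹ * y * d₂ = n * x * n⁻¹ := by
    rw [← h1, hcd]
    have : (d₁ * d₂)⁻¹ * y * (d₁ * d₂) = d₂⁻¹ * (d₁⁻¹ * (y * d₁)) * d₂ := by group
    rw [this, ← hd₁y]; group
  have : d₂ * n * x * (d₂ * n)⁻¹ = d₂ * (n * x * n⁻¹) * d₂⁻¹ := by group
  rw [this, ← h2]; group

end Cfsg.Agent.S1907
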