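import Mathlib
import Cfsg.Statements.S1901
import Cfsg.Agent.S1907
import Cfsg.Agent.Lib.Helper3.PSolvable
import Cfsg.Agent.Lib.Helper1.FusionLift

set_option autoImplicit false
open Cfsg

namespace Cfsg.Agent.S1901

open Cfsg.Agent.Lib.Helper3 Cfsg.Agent.Lib.Helper1 Cfsg.Agent.Lib.Helper29

universe u

theorem map_mem_normalizer {G K : Type*} [Group G] [Group K] (f : G →* K) (H : Subgroup G) (x : G)
    (hx : x ∈ Subgroup.normalizer (H : Set G)) :
    f x ∈ Subgroup.normalizer ((H.map f : Subgroup K) : Set K) := by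
  rw [Subgroup.mem_normalizer_iff]
  intro h
  constructor
  · rintro ⟨q, hq, rfl⟩
    exact ⟨x * q * x⁻¹, (Subgroup.mem_normalizer_iff.mp hx q).mp hq, by simp⟩
  · rintro ⟨q', hq', e⟩
    refine ⟨x⁻¹ * q' * x, ?_, ?_⟩
    · have := (Subgroup.mem_normalizer_iff.mp (Subgroup.inv_mem _ hx) q').mp hq'
      simpa using this
    · rw [map_mul, map_mul, e, map_inv]; group

theorem key {p : ℕ} [hp : Fact p.Prime] : ∀ (n : ℕ) (G : Type u) [Group G] [Finite G],
    Nat.card G = n → IsPSolvable p G → ∀ (Q P : Subgroup G) (x : G), (Nat.card Q).Coprime p →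
    IsPGroup p P → ¬ p ∣ P.index → x ∈ Subgroup.normalizer (Q : Set G) → (∃ k : ℕ, x ^ (p ^ k) = 1) →
    Q ≤ Subgroup.normalizer (P : Set G) → x ∈ Subgroup.centralizer (Q : Set G) := by
  intro n
  induction n using Nat.strong_induction_on with
  | _ n ih =>
  intro G _ _ hn hsol Q P x hQ hP hPi hxN hxp hQP
  by_cases htriv : (⊥ : Subgroup G) < ⊤
  · obtain ⟨M, hMn, hM0, -, hMp⟩ := exists_normal_between hp.out hsol
      (inferInstance : (⊥ : Subgroup G).Normal) (inferInstance : (⊤ : Subgroup G).Normal) htriv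
    unfold IsPOrP' at hMp
    rw [Subgroup.relIndex_bot_left] at hMp
    haveI := hMn
    have hcard_lt : Nat.card (G ⧸ M) < n := by
      have h1 := Subgroup.card_eq_card_quotient_mul_card_subgroup M
      have h2 : 1 < Nat.card M := (Subgroup.one_lt_card_iff_ne_bot M).mpr (ne_of_gt hM0)
      have h3 : 0 < Nat.card (G ⧸ M) := Nat.card_pos
      rw [← hn, h1]
      nlinarith
    obtain ⟨k, hk⟩ := hxp
    have IH := ih _ hcard_lt (G ⧸ M) rfl (isPSolvable_quotient hp.out hsol M)
      (Q.map (QuotientGroup.mk' M)) (P.map (QuotientGroup.mk' M)) ((QuotientGroup.mk' M) x)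
      (Nat.Coprime.coprime_dvd_left (Subgroup.card_map_dvd _ _) hQ)
      (hP.map _)
      (fun h => hPi (h.trans (Subgroup.index_map_dvd _ (QuotientGroup.mk'_surjective M))))
      (map_mem_normalizer _ Q x hxN)
      ⟨k, by rw [← map_pow, hk, map_one]⟩
      (by
        rintro _ ⟨q, hq, rfl⟩
        exact map_mem_normalizer _ P q (hQP hq))
    have hcomm : ∀ q ∈ Q, x * q * x⁻¹ * q⁻¹ ∈ Q ⊓ M := by
      intro q hq
      refine Subgroup.mem_inf.mpr ⟨Q.mul_mem ((Subgroup.mem_normalizer_iff.mp hxN q).mp hq) (Q.inv_mem hq), ?_⟩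
      have h1 := Subgroup.mem_centralizer_iff.mp IH ((QuotientGroup.mk' M) q) ⟨q, hq, rfl⟩
      rw [← QuotientGroup.eq_one_iff]
      have : ((x * q * x⁻¹ * q⁻¹ : G) : G ⧸ M) = (QuotientGroup.mk' M) x * (QuotientGroup.mk' M) q *
          ((QuotientGroup.mk' M) x)⁻¹ * ((QuotientGroup.mk' M) q)⁻¹ := by
        simp
      rw [this, ← h1]; group
    have hxQ₀ : ∀ c ∈ Q ⊓ M, x * c = c * x := by
      rcases hMp with ⟨m, hm⟩ | hcop
      · have hbot : Q ⊓ M = ⊥ := by
          apply Subgroup.inf_eq_bot_of_coprime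
          rw [hm]; exact Nat.Coprime.pow_right m hQ
        intro c hc
        rw [hbot, Subgroup.mem_bot] at hc
        subst hc; simp
      · set Q₀ : Subgroup G := Q ⊓ M with hQ₀
        have h1 : Q₀ ≤ Subgroup.centralizer (P : Set G) := by
          intro c hc
          exact Cfsg.Agent.S1907.norm_inf_le_centralizer M P hcop hP c
            (hQP (Subgroup.mem_inf.mp hc).1) (Subgroup.mem_inf.mp hc).2
        have h2 : P ≤ Subgroup.centralizer (Q₀ : Set G) := Subgroup.le_centralizer_iff.mp h1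
        have hxN₀ : x ∈ Subgroup.normalizer (Q₀ : Set G) := by
          apply mem_normalizer_of_cj_eq
          rw [hQ₀, cj_inf, cj_eq_of_mem_normalizer hxN, cj_normal]
        have hPN₀ : P ≤ Subgroup.normalizer (Q₀ : Set G) :=
          h2.trans (Subgroup.centralizer_le_normalizer _)
        have hSyl : IsSylowSub p P (Subgroup.normalizer (Q₀ : Set G)) :=
          isSylowSub_of_not_dvd_relIndex hPN₀ hP
            (fun h => hPi (h.trans (Subgroup.relIndex_dvd_index_of_le hPN₀)))
        have hxpg : IsPGroup p (Subgroup.zpowers x) := by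
          obtain ⟨j, -, hj⟩ := (Nat.dvd_prime_pow hp.out).mp (orderOf_dvd_of_pow_eq_one hk)
          exact IsPGroup.of_card (n := j) (by rw [Nat.card_zpowers, hj])
        obtain ⟨l, hl, hle⟩ := exists_cj_le_of_isSylowSub hSyl
          ((Subgroup.zpowers_le).mpr hxN₀) hxpg
        have h3 : l * x * l⁻¹ ∈ Subgroup.centralizer (Q₀ : Set G) := by
          apply h2
          apply hle
          rw [mem_cj]
          have : l⁻¹ * (l * x * l⁻¹) * l = x := by group
          rw [this]; exact Subgroup.mem_zpowers x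
        have h4 : x ∈ Subgroup.centralizer (Q₀ : Set G) := by
          have h5 : x ∈ cj l⁻¹ (Subgroup.centralizer (Q₀ : Set G)) := by
            rw [mem_cj, inv_inv]; exact h3
          rwa [cj_centralizer, cj_eq_of_mem_normalizer (Subgroup.inv_mem _ hl)] at h5
        intro c hc
        exact (Subgroup.mem_centralizer_iff.mp h4 c hc).symm
    rw [Subgroup.mem_centralizer_iff]
    intro q hq
    set c := x * q * x⁻¹ * q⁻¹ with hc
    have hcQ₀ := hcomm q hq
    have hxc := hxQ₀ c hcQ₀
    have hpow : ∀ m : ℕ, x ^ m * q * (x ^ m)⁻¹ = c ^ m * q := by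
      intro m
      induction m with
      | zero => simp
      | succ m ihm =>
        have hxcm : x * c ^ m = c ^ m * x := by
          have : Commute x c := hxc
          exact (this.pow_right m).eq
        calc x ^ (m + 1) * q * (x ^ (m + 1))⁻¹ = x * (x ^ m * q * (x ^ m)⁻¹) * x⁻¹ := by
              rw [pow_succ']; group
          _ = x * (c ^ m * q) * x⁻¹ := by rw [ihm]
          _ = (x * c ^ m) * (q * x⁻¹) := by group
          _ = (c ^ m * x) * (q * x⁻¹) := by rw [hxcm]
          _ = c ^ m * (x * q * x⁻¹ * q⁻¹) * q := by group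
          _ = c ^ (m + 1) * q := by rw [← hc, pow_succ]
    have h6 := hpow (p ^ k)
    rw [hk] at h6
    have h7 : c ^ (p ^ k) = 1 := by
      have : q = c ^ (p ^ k) * q := by simpa using h6
      exact (mul_eq_right (a := c ^ (p ^ k)) (b := q)).mp this.symm
    have h8 : orderOf c ∣ p ^ k := orderOf_dvd_of_pow_eq_one h7
    have h9 : orderOf c ∣ Nat.card Q := Subgroup.orderOf_dvd_natCard Q (Subgroup.mem_inf.mp hcQ₀).1
    have h10 : orderOf c = 1 :=
      Nat.Coprime.eq_one_of_dvd (Nat.Coprime.coprime_dvd_left h9 (Nat.Coprime.pow_right k hQ)) h8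
    have h11 : c = 1 := orderOf_eq_one_iff.mp h10
    rw [hc] at h11
    have : x * q = q * x := by
      have := congrArg (fun t => t * q * x) h11
      simpa [mul_assoc] using this
    exact this.symm
  · have htop : (⊤ : Subgroup G) = ⊥ := by
      by_contra hne
      exact htriv (bot_lt_iff_ne_bot.mpr hne)
    have hx1 : x = 1 := by
      have : x ∈ (⊤ : Subgroup G) := Subgroup.mem_top x
      rwa [htop, Subgroup.mem_bot] at this
    rw [hx1]; exact Subgroup.one_mem _

/-- Let G be a finite p-solvable group and Q a subgroup of order prime to p such that p divides the index of C_G(Q) in N_G(Q). Then Q normalizes no Sylow p-subgroup of G. -/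
theorem result {G : Type*} [Group G] [Finite G] {p : ℕ} [Fact p.Prime]
    (hG : Cfsg.IsPSolvable p G) (Q : Subgroup G) (hQ : ¬ p ∣ Nat.card Q)
    (hA : p ∣ (Subgroup.centralizer (Q : Set G)).relIndex (Subgroup.normalizer (Q : Set G)))
    (P : Sylow p G) : ¬ Q ≤ Subgroup.normalizer ((P : Subgroup G) : Set G) := by
  intro hQP
  have hp : p.Prime := Fact.out
  obtain ⟨S₁, -, hS₁N, hS₁⟩ := exists_isSylowSub_ge (p := p)
    (bot_le : (⊥ : Subgroup G) ≤ Subgroup.normalizer (Q : Set G)) IsPGroup.of_bot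
  have hnd := not_dvd_relIndex_of_isSylowSub hS₁
  have hnot : ¬ S₁ ≤ Subgroup.centralizer (Q : Set G) := by
    intro hle
    exact hnd (hA.trans (Subgroup.relIndex_dvd_of_le_left _ hle))
  obtain ⟨x, hx, hxC⟩ := SetLike.not_le_iff_exists.mp hnot
  apply hxC
  obtain ⟨k, hk⟩ := (hS₁.isPGroup hS₁N) ⟨x, hx⟩
  have hk' : x ^ (p ^ k) = 1 := by
    have := congrArg Subtype.val hk
    simpa using this
  exact key (Nat.card G) G rfl hG Q (P : Subgroup G) x
    ((Nat.Prime.coprime_iff_not_dvd hp).mpr hQ).symm P.isPGroup' P.not_dvd_index (hS₁N hx)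
    ⟨k, hk'⟩ hQP

end Cfsg.Agent.S1901
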