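import Cfsg.Statements.S1905
import Mathlib

set_option autoImplicit false
open Cfsg

namespace Cfsg.Agent.S1905

variable {S : Type*} [Group S]

lemma mul_self_of_order_two {a : S} (ha : orderOf a = 2) : a * a = 1 := by
  have h : a ^ 2 = 1 := by rw [← ha]; exact pow_orderOf_eq_one a
  rw [← sq]; exact h

lemma inv_of_order_two {a : S} (ha : orderOf a = 2) : a⁻¹ = a :=
  inv_eq_of_mul_eq_one_left (mul_self_of_order_two ha)

lemma orderOf_conj_two {a : S} (ha : orderOf a = 2) (g : S) : orderOf (g * a * g⁻¹) = 2 := by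
  rw [← ha]
  have h : SemiconjBy g a (g * a * g⁻¹) := by
    unfold SemiconjBy; group
  exact (h.orderOf_eq).symm

/-- Two involutions: either conjugate by a square root of the product, or commute with a common involution. -/
lemma dihedral [Finite S] {a b : S} (ha : orderOf a = 2) (hb : orderOf b = 2) :
    (∃ y : S, y⁻¹ * a * y = b ∧ y * y = a * b) ∨
    (∃ w : S, orderOf w = 2 ∧ w * a = a * w ∧ w * b = b * w) := by
  have haa : a * a = 1 := mul_self_of_order_two ha
  have hbb : b * b = 1 := mul_self_of_order_two hb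
  have hai : a⁻¹ = a := inv_of_order_two ha
  have hbi : b⁻¹ = b := inv_of_order_two hb
  have hinv : a * (a * b) * a = (a * b)⁻¹ := by
    rw [mul_inv_rev, hai, hbi, ← mul_assoc a a b, haa, one_mul]
  have hpow : ∀ k : ℕ, a * (a * b) ^ k * a = ((a * b) ^ k)⁻¹ := by
    intro k
    induction k with
    | zero => simp [haa]
    | succ k ih =>
      have : a * (a * b) ^ (k + 1) * a = (a * (a * b) ^ k * a) * (a * (a * b) * a) := by
        rw [pow_succ]
        have : a * ((a * b) ^ k * (a * b)) * a = a * (a * b) ^ k * (a * a) * (a * b) * a := by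
          rw [haa, mul_one]; group
        rw [this]; group
      rw [this, ih, hinv, ← mul_inv_rev, ← pow_succ']
  obtain ⟨k, hk | hk⟩ := Nat.even_or_odd' (orderOf (a * b))
  · have hpos : 0 < orderOf (a * b) := orderOf_pos (a * b)
    have hk0 : 0 < k := by omega
    have hw2 : (a * b) ^ k * (a * b) ^ k = 1 := by
      rw [← pow_add, ← two_mul, ← hk]; exact pow_orderOf_eq_one _
    have hwi : ((a * b) ^ k)⁻¹ = (a * b) ^ k := inv_eq_of_mul_eq_one_left hw2
    have hwa : (a * b) ^ k * a = a * (a * b) ^ k := by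
      have h1 := hpow k
      rw [hwi] at h1
      calc (a * b) ^ k * a = (a * (a * b) ^ k * a) * a := by rw [h1]
        _ = a * (a * b) ^ k * (a * a) := by group
        _ = a * (a * b) ^ k := by rw [haa, mul_one]
    refine Or.inr ⟨(a * b) ^ k, ?_, hwa, ?_⟩
    · apply orderOf_eq_prime
      · rw [sq]; exact hw2
      · exact pow_ne_one_of_lt_orderOf hk0.ne' (by omega)
    · have hb' : b = a * (a * b) := by rw [← mul_assoc, haa, one_mul]
      have hc : (a * b) ^ k * (a * b) = (a * b) * (a * b) ^ k := by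
        rw [← pow_succ, ← pow_succ']
      calc (a * b) ^ k * b = (a * b) ^ k * (a * (a * b)) := by rw [← hb']
        _ = ((a * b) ^ k * a) * (a * b) := by group
        _ = (a * (a * b) ^ k) * (a * b) := by rw [hwa]
        _ = a * ((a * b) ^ k * (a * b)) := by group
        _ = a * ((a * b) * (a * b) ^ k) := by rw [hc]
        _ = (a * (a * b)) * (a * b) ^ k := by rw [mul_assoc a (a * b)]
        _ = b * (a * b) ^ k := by rw [← hb']
  · refine Or.inl ⟨(a * b) ^ (k + 1), ?_, ?_⟩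
    · have h1 := hpow (k + 1)
      have hyy : (a * b) ^ (k + 1) * (a * b) ^ (k + 1) = a * b := by
        rw [← pow_add]
        have : k + 1 + (k + 1) = orderOf (a * b) + 1 := by omega
        rw [this, pow_succ, pow_orderOf_eq_one, one_mul]
      -- y⁻¹ a y = a (a y⁻¹ a) y = a y y
      have h2 : ((a * b) ^ (k + 1))⁻¹ * a = a * (a * b) ^ (k + 1) := by
        have : ((a * b) ^ (k + 1))⁻¹ = a * (a * b) ^ (k + 1) * a := h1.symm
        rw [this]
        calc a * (a * b) ^ (k + 1) * a * a = a * (a * b) ^ (k + 1) * (a * a) := by group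
          _ = a * (a * b) ^ (k + 1) := by rw [haa, mul_one]
      calc ((a * b) ^ (k + 1))⁻¹ * a * (a * b) ^ (k + 1)
          = a * ((a * b) ^ (k + 1) * (a * b) ^ (k + 1)) := by rw [h2]; group
        _ = a * (a * b) := by rw [hyy]
        _ = b := by rw [← mul_assoc, haa, one_mul]
    · rw [← pow_add]
      have : k + 1 + (k + 1) = orderOf (a * b) + 1 := by omega
      rw [this, pow_succ, pow_orderOf_eq_one, one_mul]

lemma conj_or_mem [Finite S] (M : Subgroup S)
    (hC : ∀ i ∈ M, orderOf i = 2 → Subgroup.centralizer ({i} : Set S) ≤ M)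
    {i j : S} (hi : i ∈ M) (hi2 : orderOf i = 2) (hj2 : orderOf j = 2) :
    (∃ y : S, y⁻¹ * i * y = j ∧ y * y = i * j) ∨ j ∈ M := by
  rcases dihedral hi2 hj2 with h | ⟨w, hw2, hwi, hwj⟩
  · exact Or.inl h
  · right
    have hwM : w ∈ M := hC i hi hi2 (Subgroup.mem_centralizer_singleton_iff.mpr hwi)
    exact hC w hwM hw2 (Subgroup.mem_centralizer_singleton_iff.mpr hwj.symm)

lemma exists_invol_mem [Finite S] (M : Subgroup S) (hM : Even (Nat.card M)) :
    ∃ i ∈ M, orderOf i = 2 := by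
  haveI : Fact (Nat.Prime 2) := ⟨Nat.prime_two⟩
  obtain ⟨x, hx⟩ := exists_prime_orderOf_dvd_card' (G := M) 2 (even_iff_two_dvd.mp hM)
  exact ⟨x, x.2, by rw [Subgroup.orderOf_coe]; exact hx⟩

lemma not_all_conj_mem [Finite S] (M : Subgroup S) (hcore : Odd (Nat.card M.normalCore))
    {x : S} (hx : orderOf x = 2) : ¬ (∀ b : S, b * x * b⁻¹ ∈ M) := by
  intro h
  have hx' : x ∈ M.normalCore := h
  have h2 : orderOf (⟨x, hx'⟩ : M.normalCore) = 2 := by
    rw [← hx]; exact Subgroup.orderOf_mk x hx'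
  have hdvd : 2 ∣ Nat.card M.normalCore := h2 ▸ orderOf_dvd_natCard _
  exact (Nat.not_even_iff_odd.mpr hcore) (even_iff_two_dvd.mpr hdvd)

lemma all_conj_to [Finite S] (M : Subgroup S)
    (hC : ∀ i ∈ M, orderOf i = 2 → Subgroup.centralizer ({i} : Set S) ≤ M)
    (hcore : Odd (Nat.card M.normalCore))
    {i : S} (hi : i ∈ M) (hi2 : orderOf i = 2) {x : S} (hx : orderOf x = 2) :
    ∃ g : S, g * i * g⁻¹ = x := by
  by_contra hne
  push Not at hne
  apply not_all_conj_mem M hcore hx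
  intro b
  rcases conj_or_mem M hC hi hi2 (orderOf_conj_two hx b) with ⟨y, hy, _⟩ | h
  · exfalso
    apply hne (b⁻¹ * y⁻¹)
    rw [mul_inv_rev, inv_inv, inv_inv]
    calc b⁻¹ * y⁻¹ * i * (y * b) = b⁻¹ * (y⁻¹ * i * y) * b := by group
      _ = b⁻¹ * (b * x * b⁻¹) * b := by rw [hy]
      _ = x := by group
  · exact h

lemma part_one [Finite S] (M : Subgroup S) (hM : Even (Nat.card M))
    (hC : ∀ i ∈ M, orderOf i = 2 → Subgroup.centralizer ({i} : Set S) ≤ M)
    (hcore : Odd (Nat.card M.normalCore)) :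
    ∀ x y : S, orderOf x = 2 → orderOf y = 2 → IsConj x y := by
  intro x y hx hy
  obtain ⟨i, hi, hi2⟩ := exists_invol_mem M hM
  obtain ⟨g, hg⟩ := all_conj_to M hC hcore hi hi2 hx
  obtain ⟨h, hh⟩ := all_conj_to M hC hcore hi hi2 hy
  rw [isConj_iff]
  refine ⟨h * g⁻¹, ?_⟩
  rw [← hg, ← hh]; group

lemma orderOf_conj_two' {a : S} (ha : orderOf a = 2) (g : S) : orderOf (g⁻¹ * a * g) = 2 := by
  have := orderOf_conj_two ha g⁻¹
  rwa [inv_inv] at this

/-- finite one-sided normalizer criterion -/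
lemma mem_normalizer_of_forall [Finite S] (H : Subgroup S) (n : S)
    (h : ∀ s ∈ H, n * s * n⁻¹ ∈ H) : n ∈ Subgroup.normalizer (H : Set S) := by
  rw [Subgroup.mem_normalizer_iff]
  intro x
  refine ⟨h x, fun hx => ?_⟩
  let f : H → H := fun s => ⟨n * s * n⁻¹, h s s.2⟩
  have hinj : Function.Injective f := by
    intro s t hst
    have : n * (s : S) * n⁻¹ = n * (t : S) * n⁻¹ := congrArg Subtype.val hst
    apply Subtype.ext
    have h2 : n⁻¹ * (n * (s : S) * n⁻¹) * n = n⁻¹ * (n * (t : S) * n⁻¹) * n := by rw [this]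
    simpa [mul_assoc] using h2
  obtain ⟨s, hs⟩ := (Finite.injective_iff_surjective.mp hinj) ⟨n * x * n⁻¹, hx⟩
  have : n * (s : S) * n⁻¹ = n * x * n⁻¹ := congrArg Subtype.val hs
  have h2 : n⁻¹ * (n * (s : S) * n⁻¹) * n = n⁻¹ * (n * x * n⁻¹) * n := by rw [this]
  have h3 : (s : S) = x := by simpa [mul_assoc] using h2
  rw [← h3]; exact s.2

lemma se_aux [Finite S] (M : Subgroup S)
    (hC : ∀ i ∈ M, orderOf i = 2 → Subgroup.centralizer ({i} : Set S) ≤ M)
    (X : Sylow 2 M) (I : M)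
    (hIc : I ∈ (Subgroup.center ↥(X : Subgroup ↥M)).map (X : Subgroup ↥M).subtype)
    (hI2 : orderOf I = 2)
    (hN : Subgroup.normalizer (((X : Subgroup M).map M.subtype : Subgroup S) : Set S) ≤ M)
    (w : M) (hwX : w ∈ (X : Subgroup M)) (hw2 : orderOf w = 2) (g : S)
    (hg : g⁻¹ * (w : S) * g ∈ M) : g ∈ M := by
  haveI : Fact (Nat.Prime 2) := ⟨Nat.prime_two⟩
  obtain ⟨z, hz, hzI⟩ := hIc
  have hcomm : ∀ x : M, x ∈ (X : Subgroup M) → (I : S) * x = x * I := by
    intro x hx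
    have h1 := (Subgroup.mem_center_iff.mp hz) ⟨x, hx⟩
    have h2 : (x : M) * (z : M) = (z : M) * x := congrArg Subtype.val h1
    have h3 : (z : M) = I := hzI
    rw [h3] at h2
    have h4 : ((x * I : M) : S) = ((I * x : M) : S) := congrArg Subtype.val h2
    simpa using h4.symm
  have hI2S : orderOf (I : S) = 2 := by rw [Subgroup.orderOf_coe]; exact hI2
  have hw2S : orderOf (w : S) = 2 := by rw [Subgroup.orderOf_coe]; exact hw2
  have hv2 : orderOf (g⁻¹ * (w : S) * g) = 2 := orderOf_conj_two' hw2S g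
  have hIz2 : orderOf (g⁻¹ * (I : S) * g) = 2 := orderOf_conj_two' hI2S g
  have hIzM : g⁻¹ * (I : S) * g ∈ M := by
    apply hC _ hg hv2
    rw [Subgroup.mem_centralizer_singleton_iff]
    have := hcomm w hwX
    calc g⁻¹ * (I : S) * g * (g⁻¹ * (w : S) * g) = g⁻¹ * ((I : S) * w) * g := by group
      _ = g⁻¹ * ((w : S) * I) * g := by rw [this]
      _ = g⁻¹ * (w : S) * g * (g⁻¹ * (I : S) * g) := by group
  have hXM : ∀ x : M, x ∈ (X : Subgroup M) → g⁻¹ * (x : S) * g ∈ M := by
    intro x hx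
    apply hC _ hIzM hIz2
    rw [Subgroup.mem_centralizer_singleton_iff]
    have := hcomm x hx
    calc g⁻¹ * (x : S) * g * (g⁻¹ * (I : S) * g) = g⁻¹ * ((x : S) * I) * g := by group
      _ = g⁻¹ * ((I : S) * x) * g := by rw [this]
      _ = g⁻¹ * (I : S) * g * (g⁻¹ * (x : S) * g) := by group
  set Xs : Subgroup S := (X : Subgroup M).map M.subtype with hXs
  set K : Subgroup S := Xs.map (MulAut.conj g⁻¹).toMonoidHom with hK
  have hKM : K ≤ M := by
    rintro k ⟨s, ⟨x, hx, rfl⟩, rfl⟩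
    have := hXM x hx
    simpa [MulAut.conj_apply] using this
  have hcardY : Nat.card (K.subgroupOf M) = 2 ^ (Nat.card M).factorization 2 := by
    rw [Nat.card_congr (Subgroup.subgroupOfEquivOfLe hKM).toEquiv, hK,
      Subgroup.card_map_of_injective (MulAut.conj g⁻¹).injective, hXs,
      Subgroup.card_map_of_injective M.subtype_injective]
    exact X.card_eq_multiplicity
  obtain ⟨m, hm⟩ := MulAction.exists_smul_eq M X (Sylow.ofCard (K.subgroupOf M) hcardY)
  have hmem : ∀ x : M, x ∈ (X : Subgroup M) → ∃ x₂ : M, x₂ ∈ (X : Subgroup M) ∧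
      ((m * x * m⁻¹ : M) : S) = g⁻¹ * (x₂ : S) * g := by
    intro x hx
    have h1 : m * x * m⁻¹ ∈ ((m • X : Sylow 2 M) : Subgroup M) := by
      rw [Sylow.coe_subgroup_smul]
      have := Subgroup.smul_mem_pointwise_smul x (MulAut.conj m) (X : Subgroup M) hx
      simpa [MulAut.smul_def, MulAut.conj_apply] using this
    rw [hm, Sylow.coe_ofCard, Subgroup.mem_subgroupOf] at h1
    obtain ⟨s, ⟨x₂, hx₂, rfl⟩, hs⟩ := h1
    refine ⟨x₂, hx₂, ?_⟩
    rw [← hs]
    simp [MulAut.conj_apply]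
  have hn : g * (m : S) ∈ Subgroup.normalizer (Xs : Set S) := by
    apply mem_normalizer_of_forall
    rintro s ⟨x, hx, rfl⟩
    obtain ⟨x₂, hx₂, hxx⟩ := hmem x hx
    have h1 : g * (m : S) * (M.subtype x) * (g * (m : S))⁻¹ = g * ((m * x * m⁻¹ : M) : S) * g⁻¹ := by
      simp only [Subgroup.coe_subtype, Subgroup.coe_mul, Subgroup.coe_inv]; group
    rw [h1, hxx]
    have : g * (g⁻¹ * (x₂ : S) * g) * g⁻¹ = (x₂ : S) := by group
    rw [this]
    exact ⟨x₂, hx₂, rfl⟩
  have h2 : g * (m : S) ∈ M := hN hn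
  have : g = g * (m : S) * (m : S)⁻¹ := by group
  rw [this]
  exact M.mul_mem h2 (M.inv_mem m.2)

lemma se [Finite S] (M : Subgroup S)
    (hC : ∀ i ∈ M, orderOf i = 2 → Subgroup.centralizer ({i} : Set S) ≤ M)
    (X : Sylow 2 M) (I : M)
    (hIc : I ∈ (Subgroup.center ↥(X : Subgroup ↥M)).map (X : Subgroup ↥M).subtype)
    (hI2 : orderOf I = 2)
    (hN : Subgroup.normalizer (((X : Subgroup M).map M.subtype : Subgroup S) : Set S) ≤ M)
    (w : S) (hw : w ∈ M) (hw2 : orderOf w = 2) (g : S) (hg : g⁻¹ * w * g ∈ M) : g ∈ M := by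
  haveI : Fact (Nat.Prime 2) := ⟨Nat.prime_two⟩
  have hwM2 : orderOf (⟨w, hw⟩ : M) = 2 := by rw [← hw2]; exact Subgroup.orderOf_mk w hw
  have hp : IsPGroup 2 (Subgroup.zpowers (⟨w, hw⟩ : M)) := by
    apply IsPGroup.of_card (n := 1)
    rw [Nat.card_zpowers, hwM2, pow_one]
  obtain ⟨Q, hQ⟩ := hp.exists_le_sylow
  obtain ⟨m, hm⟩ := MulAction.exists_smul_eq M Q X
  have h1 : m * (⟨w, hw⟩ : M) * m⁻¹ ∈ (X : Subgroup M) := by
    rw [← hm, Sylow.coe_subgroup_smul]
    have := Subgroup.smul_mem_pointwise_smul (⟨w, hw⟩ : M) (MulAut.conj m) (Q : Subgroup M)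
      (hQ (Subgroup.mem_zpowers _))
    simpa [MulAut.smul_def, MulAut.conj_apply] using this
  have h2 : orderOf (m * (⟨w, hw⟩ : M) * m⁻¹) = 2 := orderOf_conj_two hwM2 m
  have h3 : ((m : S) * g) ∈ M := by
    apply se_aux M hC X I hIc hI2 hN (m * (⟨w, hw⟩ : M) * m⁻¹) h1 h2
    have : ((m : S) * g)⁻¹ * ((m * (⟨w, hw⟩ : M) * m⁻¹ : M) : S) * ((m : S) * g) = g⁻¹ * w * g := by
      simp only [Subgroup.coe_mul, Subgroup.coe_inv]; group
    rw [this]; exact hg
  have : g = (m : S)⁻¹ * ((m : S) * g) := by group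
  rw [this]; exact M.mul_mem (M.inv_mem m.2) h3

lemma part_two [Finite S] (M : Subgroup S)
    (hC : ∀ i ∈ M, orderOf i = 2 → Subgroup.centralizer ({i} : Set S) ≤ M)
    (hcore : Odd (Nat.card M.normalCore))
    (X : Sylow 2 M) (I : M)
    (hIc : I ∈ (Subgroup.center ↥(X : Subgroup ↥M)).map (X : Subgroup ↥M).subtype)
    (hI2 : orderOf I = 2)
    (hN : Subgroup.normalizer (((X : Subgroup M).map M.subtype : Subgroup S) : Set S) ≤ M) :
    (∀ x y : M, orderOf x = 2 → orderOf y = 2 → IsConj x y) ∧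
      ∃ M₀ : Subgroup M, Odd (Nat.card M₀) ∧
        ∀ m : M, ∃ a ∈ M₀, ∃ c ∈ Subgroup.centralizer ({I} : Set M), m = a * c := by
  haveI : Fact (Nat.Prime 2) := ⟨Nat.prime_two⟩
  have hI2S : orderOf (I : S) = 2 := by rw [Subgroup.orderOf_coe]; exact hI2
  have ht : ∃ t : S, orderOf t = 2 ∧ t ∉ M := by
    by_contra hno
    push Not at hno
    exact not_all_conj_mem M hcore hI2S (fun b => hno _ (orderOf_conj_two hI2S b))
  obtain ⟨t, ht2, htM⟩ := ht
  have htt : t * t = 1 := mul_self_of_order_two ht2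
  have hy : ∀ u : S, u ∈ M → orderOf u = 2 → ∃ y : S, y⁻¹ * u * y = t ∧ y * y = u * t := by
    intro u hu hu2
    rcases conj_or_mem M hC hu hu2 ht2 with h | h
    · exact h
    · exact absurd h htM
  obtain ⟨yI, hyI, hyI2⟩ := hy I I.2 hI2S
  have key : ∀ u : S, u ∈ M → orderOf u = 2 →
      ∃ e : S, e ∈ M ∧ yI * e * yI⁻¹ ∈ M ∧ e⁻¹ * (I : S) * e = u := by
    intro u hu hu2
    obtain ⟨y, hyu, hy2⟩ := hy u hu hu2
    have hconj : (yI * y⁻¹)⁻¹ * (I : S) * (yI * y⁻¹) = u := by
      have h1 : (yI * y⁻¹)⁻¹ * (I : S) * (yI * y⁻¹) = y * (yI⁻¹ * (I : S) * yI) * y⁻¹ := by group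
      rw [h1, hyI, ← hyu]; group
    have heM : yI * y⁻¹ ∈ M :=
      se M hC X I hIc hI2 hN (I : S) I.2 hI2S _ (by rw [hconj]; exact hu)
    refine ⟨yI * y⁻¹, heM, ?_, hconj⟩
    have e0 : y⁻¹ * u = y * t := by
      calc y⁻¹ * u = y⁻¹ * (u * t) * t := by rw [mul_assoc, mul_assoc, htt, mul_one]
        _ = y⁻¹ * (y * y) * t := by rw [hy2]
        _ = y * t := by group
    have e1 : t * y⁻¹ = y * t := by
      calc t * y⁻¹ = (y⁻¹ * u * y) * y⁻¹ := by rw [hyu]
        _ = y⁻¹ * u := by group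
        _ = y * t := e0
    have e2 : t * yI⁻¹ = yI⁻¹ * (I : S) := by
      calc t * yI⁻¹ = (yI⁻¹ * (I : S) * yI) * yI⁻¹ := by rw [hyI]
        _ = yI⁻¹ * (I : S) := by group
    have hid : yI * (yI * y⁻¹) * yI⁻¹ = (I : S) * (yI * y⁻¹)⁻¹ * I := by
      calc yI * (yI * y⁻¹) * yI⁻¹ = (yI * yI) * y⁻¹ * yI⁻¹ := by group
        _ = (I : S) * t * y⁻¹ * yI⁻¹ := by rw [hyI2]
        _ = (I : S) * (t * y⁻¹) * yI⁻¹ := by group
        _ = (I : S) * (y * t) * yI⁻¹ := by rw [e1]
        _ = (I : S) * y * (t * yI⁻¹) := by group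
        _ = (I : S) * y * (yI⁻¹ * (I : S)) := by rw [e2]
        _ = (I : S) * (yI * y⁻¹)⁻¹ * I := by group
    rw [hid]
    exact M.mul_mem (M.mul_mem I.2 (M.inv_mem heM)) I.2
  refine ⟨?_, ?_⟩
  · intro x y hx hy'
    have hxS : orderOf (x : S) = 2 := by rw [Subgroup.orderOf_coe]; exact hx
    have hyS : orderOf (y : S) = 2 := by rw [Subgroup.orderOf_coe]; exact hy'
    obtain ⟨e, he, _, hex⟩ := key x x.2 hxS
    obtain ⟨f, hf, _, hfy⟩ := key y y.2 hyS
    rw [isConj_iff]
    refine ⟨⟨f⁻¹ * e, M.mul_mem (M.inv_mem hf) he⟩, ?_⟩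
    apply Subtype.ext
    simp only [Subgroup.coe_mul, Subgroup.coe_inv]
    rw [← hex, ← hfy]; group
  · refine ⟨(M.comap (MulAut.conj yI).toMonoidHom).subgroupOf M, ?_, ?_⟩
    · by_contra hodd
      have hev : Even (Nat.card ((M.comap (MulAut.conj yI).toMonoidHom).subgroupOf M)) :=
        Nat.not_odd_iff_even.mp hodd
      obtain ⟨x, hx⟩ := exists_prime_orderOf_dvd_card'
        (G := ((M.comap (MulAut.conj yI).toMonoidHom).subgroupOf M)) 2 (even_iff_two_dvd.mp hev)
      have hxM : orderOf ((x : M) : S) = 2 := by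
        rw [Subgroup.orderOf_coe, Subgroup.orderOf_coe]; exact hx
      have hmem : yI * ((x : M) : S) * yI⁻¹ ∈ M := by
        have := x.2
        rw [Subgroup.mem_subgroupOf, Subgroup.mem_comap] at this
        simpa [MulAut.conj_apply] using this
      have h1 : yI⁻¹ ∈ M := by
        apply se M hC X I hIc hI2 hN ((x : M) : S) (x : M).2 hxM
        rw [inv_inv]; exact hmem
      have h2 : yI ∈ M := by simpa using M.inv_mem h1
      apply htM
      rw [← hyI]
      exact M.mul_mem (M.mul_mem h1 I.2) h2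
    · intro m
      have hu2 : orderOf ((m * I * m⁻¹ : M) : S) = 2 := by
        rw [Subgroup.orderOf_coe]; exact orderOf_conj_two hI2 m
      obtain ⟨e, he, heM, hex⟩ := key _ (m * I * m⁻¹ : M).2 hu2
      refine ⟨⟨e, he⟩⁻¹, ?_, ⟨e, he⟩ * m, ?_, by group⟩
      · rw [Subgroup.mem_subgroupOf, Subgroup.mem_comap]
        have : yI * e⁻¹ * yI⁻¹ ∈ M := by
          have h1 := M.inv_mem heM
          have h2 : (yI * e * yI⁻¹)⁻¹ = yI * e⁻¹ * yI⁻¹ := by group
          rwa [h2] at h1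
        simpa [MulAut.conj_apply] using this
      · rw [Subgroup.mem_centralizer_singleton_iff]
        apply Subtype.ext
        simp only [Subgroup.coe_mul, Subgroup.coe_inv] at hex ⊢
        -- hex : e⁻¹ * I * e = m * I * m⁻¹ ;  goal: e * m * I = I * (e * m)
        calc e * (m : S) * (I : S) = e * ((m : S) * I * (m : S)⁻¹) * m := by group
          _ = e * (e⁻¹ * (I : S) * e) * m := by rw [hex]
          _ = (I : S) * (e * m) := by group

/-- Let M be a subgroup of even order of a finite group S such that M contains the centralizer in S of each of its involutions and the normal core of M in S has odd order. Then all involutions of S are conjugate. If moreover N_S(X) ≤ M for a Sylow 2-subgroup X of M and I is an involution in the centre of X, then all involutions of M are conjugate in M and M = M₀ C_M(I) for some subgroup M₀ of M of odd order. -/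
theorem result {S : Type*} [Group S] [Finite S] (M : Subgroup S) (hM : Even (Nat.card M))
    (hC : ∀ i ∈ M, orderOf i = 2 → Subgroup.centralizer ({i} : Set S) ≤ M) (hcore : Odd (Nat.card M.normalCore)) :
    (∀ x y : S, orderOf x = 2 → orderOf y = 2 → IsConj x y) ∧
      ∀ (X : Sylow 2 M) (I : M), I ∈ (Subgroup.center ↥(X : Subgroup ↥M)).map (X : Subgroup ↥M).subtype → orderOf I = 2 →
        Subgroup.normalizer (((X : Subgroup M).map M.subtype : Subgroup S) : Set S) ≤ M →
        (∀ x y : M, orderOf x = 2 → orderOf y = 2 → IsConj x y) ∧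
          ∃ M₀ : Subgroup M, Odd (Nat.card M₀) ∧
            ∀ m : M, ∃ a ∈ M₀, ∃ c ∈ Subgroup.centralizer ({I} : Set M), m = a * c := by
  refine ⟨part_one M hM hC hcore, ?_⟩
  intro X I hIc hI2 hN
  exact part_two M hC hcore X I hIc hI2 hN

end Cfsg.Agent.S1905
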