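import Cfsg.Statements.S1922
import Mathlib

set_option autoImplicit false
open Cfsg

namespace Cfsg.Agent.S1922

variable {G : Type*} [Group G]

/-- `a` fixes exactly the coset `gH`. -/
def U (H : Subgroup G) (a g : G) : Prop := ∀ k : G, k⁻¹ * a * k ∈ H ↔ g⁻¹ * k ∈ H

theorem mem_map_conj_iff (H : Subgroup G) (a g : G) :
    a ∈ H.map (MulAut.conj g).toMonoidHom ↔ g⁻¹ * a * g ∈ H := by
  rw [Subgroup.mem_map_equiv, MulAut.conj_symm_apply]

theorem U.conj {H : Subgroup G} {a g : G} (h : U H a g) (x : G) :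
    U H (x * a * x⁻¹) (x * g) := by
  intro k
  have e1 : k⁻¹ * (x * a * x⁻¹) * k = (x⁻¹ * k)⁻¹ * a * (x⁻¹ * k) := by group
  have e2 : (x * g)⁻¹ * k = g⁻¹ * (x⁻¹ * k) := by group
  rw [e1, e2]; exact h _

theorem U.coset {H : Subgroup G} {a g g' : G} (h : U H a g) (hg : g⁻¹ * g' ∈ H) :
    U H a g' := by
  intro k
  rw [h k]
  have e : g'⁻¹ * k = (g⁻¹ * g')⁻¹ * (g⁻¹ * k) := by group
  rw [e]
  constructor
  · intro hk; exact H.mul_mem (H.inv_mem hg) hk
  · intro hk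
    have := H.mul_mem hg hk
    have e2 : g⁻¹ * g' * ((g⁻¹ * g')⁻¹ * (g⁻¹ * k)) = g⁻¹ * k := by group
    rwa [e2] at this

theorem U.fix_self {H : Subgroup G} {a g : G} (h : U H a g) : g⁻¹ * a * g ∈ H :=
  (h g).mpr (by rw [inv_mul_cancel]; exact H.one_mem)

theorem U.unique {H : Subgroup G} {a g g' : G} (h : U H a g) (h' : U H a g') :
    g⁻¹ * g' ∈ H := (h g').mp h'.fix_self

theorem U.of_commute {H : Subgroup G} {a g x : G} (h : U H a g) (hx : x * a = a * x) :
    g⁻¹ * x * g ∈ H := by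
  have h1 : (x * g)⁻¹ * a * (x * g) ∈ H := by
    have e : (x * g)⁻¹ * a * (x * g) = g⁻¹ * a * g := by
      have : x⁻¹ * a * x = a := by rw [mul_assoc, ← hx, ← mul_assoc, inv_mul_cancel, one_mul]
      calc (x * g)⁻¹ * a * (x * g) = g⁻¹ * (x⁻¹ * a * x) * g := by group
        _ = g⁻¹ * a * g := by rw [this]
    rw [e]; exact h.fix_self
  have := (h (x * g)).mp h1
  rwa [← mul_assoc] at this

/-- two fixed cosets of an element with a unique fixed coset coincide -/
theorem U.eq_of_fix {H : Subgroup G} {a g k k' : G} (h : U H a g)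
    (hk : k⁻¹ * a * k ∈ H) (hk' : k'⁻¹ * a * k' ∈ H) : k⁻¹ * k' ∈ H := by
  have h1 := (h k).mp hk
  have h2 := (h k').mp hk'
  have e : k⁻¹ * k' = (g⁻¹ * k)⁻¹ * (g⁻¹ * k') := by group
  rw [e]; exact H.mul_mem (H.inv_mem h1) h2

section dihedral

variable {a c : G}

theorem conj_pow_inv (ha : a * a = 1) (hc : c * c = 1) (i : ℕ) :
    a * (a * c) ^ i * a = ((a * c) ^ i)⁻¹ := by
  have ha' : a⁻¹ = a := inv_eq_of_mul_eq_one_left ha
  have hc' : c⁻¹ = c := inv_eq_of_mul_eq_one_left hc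
  have h1 : a * (a * c) * a⁻¹ = (a * c)⁻¹ := by
    rw [mul_inv_rev, ha', hc', ← mul_assoc, ha, one_mul]
  have h2 := conj_pow (a := a) (b := a * c) (i := i)
  rw [h1, inv_pow, ha'] at h2
  exact h2.symm

theorem ca_eq (ha : a * a = 1) (hc : c * c = 1) : c * a = (a * c)⁻¹ := by
  have ha' : a⁻¹ = a := inv_eq_of_mul_eq_one_left ha
  have hc' : c⁻¹ = c := inv_eq_of_mul_eq_one_left hc
  rw [mul_inv_rev, ha', hc']

end dihedral


theorem ncard_modEq_of_involution {X : Type*} [Finite X] (S : Set X) (σ : X → X)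
    (hS : ∀ x ∈ S, σ x ∈ S) (hσ : ∀ x ∈ S, σ (σ x) = x) :
    S.ncard ≡ {x ∈ S | σ x = x}.ncard [MOD 2] := by
  classical
  haveI : Fintype X := Fintype.ofFinite X
  let f : Function.End S := fun x => ⟨σ x.1, hS x.1 x.2⟩
  have hf : f ^ 2 ^ 1 = 1 := by
    have h2 : (2 : ℕ) ^ 1 = 2 := by norm_num
    rw [h2, pow_two]
    funext x
    exact Subtype.ext (hσ x.1 x.2)
  have h := Equiv.Perm.card_fixedPoints_modEq (p := 2) (n := 1) hf
  have e1 : Fintype.card S = S.ncard := by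
    rw [← Nat.card_eq_fintype_card, Nat.card_coe_set_eq]
  have e2 : Fintype.card (Function.fixedPoints f) = {x ∈ S | σ x = x}.ncard := by
    rw [← Nat.card_eq_fintype_card, Nat.card_coe_set_eq]
    have : {x ∈ S | σ x = x} = (fun x : S => (x : X)) '' Function.fixedPoints f := by
      ext x
      constructor
      · rintro ⟨hxS, hx⟩
        exact ⟨⟨x, hxS⟩, Subtype.ext hx, rfl⟩
      · rintro ⟨y, hy, rfl⟩
        exact ⟨y.2, congrArg Subtype.val hy⟩
    rw [this, Set.ncard_image_of_injective _ Subtype.val_injective]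
  rw [e1, e2] at h
  exact h

section main

variable [Finite G] {z : G} {H : Subgroup G}

theorem zz (hz : orderOf z = 2) : z * z = 1 := by
  have := pow_orderOf_eq_one z
  rwa [hz, pow_two] at this

theorem inv2_of_isConj (hz : orderOf z = 2) {a : G} (ha : IsConj z a) : a * a = 1 := by
  obtain ⟨g, rfl⟩ := isConj_iff.mp ha
  have : g * z * g⁻¹ * (g * z * g⁻¹) = g * (z * z) * g⁻¹ := by group
  rw [this, zz hz, mul_one, mul_inv_cancel]

theorem ne_one_of_isConj (hz : orderOf z = 2) {a : G} (ha : IsConj z a) : a ≠ 1 := by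
  intro h
  obtain ⟨g, hg⟩ := isConj_iff.mp ha
  rw [h] at hg
  have : z = 1 := by
    have e : z = g⁻¹ * (g * z * g⁻¹) * g := by group
    rw [e, hg]; group
  rw [this, orderOf_one] at hz
  norm_num at hz

theorem hU0 (h0 : ∀ g : G, z ∈ H.map (MulAut.conj g).toMonoidHom ↔ g ∈ H) : U H z 1 := by
  intro k
  rw [← mem_map_conj_iff, h0, inv_one, one_mul]

theorem exists_U (h0 : ∀ g : G, z ∈ H.map (MulAut.conj g).toMonoidHom ↔ g ∈ H)
    {a : G} (ha : IsConj z a) : ∃ g, g * z * g⁻¹ = a ∧ U H a g := by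
  obtain ⟨g, rfl⟩ := isConj_iff.mp ha
  refine ⟨g, rfl, ?_⟩
  have := (hU0 h0).conj g
  rwa [mul_one] at this

/-- Hypothesis (1) transported to an arbitrary conjugate. -/
theorem key2 (h0 : ∀ g : G, z ∈ H.map (MulAut.conj g).toMonoidHom ↔ g ∈ H)
    (h1 : ∀ t : G, IsConj z t → t ≠ z → t * z = z * t →
      ∀ g : G, z * t ∈ H.map (MulAut.conj g).toMonoidHom ↔ g ∈ H)
    {a a' g : G} (hag : U H a g) (ha : IsConj z a) (ha' : IsConj z a') (hne : a' ≠ a)
    (hcomm : a * a' = a' * a) : U H (a * a') g := by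
  obtain ⟨x, hx, hUx⟩ := exists_U h0 ha
  obtain ⟨y, hy⟩ := isConj_iff.mp ha'
  have ht : IsConj z (x⁻¹ * a' * x) := isConj_iff.mpr ⟨x⁻¹ * y, by rw [← hy]; group⟩
  have htne : x⁻¹ * a' * x ≠ z := by
    intro h
    apply hne
    rw [← hx, ← h]; group
  have htc : x⁻¹ * a' * x * z = z * (x⁻¹ * a' * x) := by
    have e1 : x⁻¹ * a' * x * z = x⁻¹ * (a' * (x * z * x⁻¹)) * x := by group
    have e2 : z * (x⁻¹ * a' * x) = x⁻¹ * ((x * z * x⁻¹) * a') * x := by group
    rw [e1, e2, hx, hcomm]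
  have hU1 : U H (z * (x⁻¹ * a' * x)) 1 := by
    intro k
    rw [← mem_map_conj_iff, h1 _ ht htne htc, inv_one, one_mul]
  have hU2 := hU1.conj x
  rw [mul_one] at hU2
  have e : x * (z * (x⁻¹ * a' * x)) * x⁻¹ = a * a' := by
    rw [← hx]; group
  rw [e] at hU2
  exact hU2.coset (hUx.unique hag)

variable {a c : G}

/-- every `r^i a` is a conjugate of `z` -/
theorem pow_mul_isConj (hz : orderOf z = 2) (ha : IsConj z a) (hc : IsConj z c) :
    ∀ i : ℕ, IsConj z ((a * c) ^ i * a) ∧ IsConj z ((a * c) ^ (i + 1) * a) := by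
  have haa := inv2_of_isConj hz ha
  have hcc := inv2_of_isConj hz hc
  have ha' : a⁻¹ = a := inv_eq_of_mul_eq_one_left haa
  intro i
  induction i with
  | zero =>
    refine ⟨by rw [pow_zero, one_mul]; exact ha, ?_⟩
    rw [zero_add, pow_one]
    have : a * c * a = a * c * a⁻¹ := by rw [ha']
    rw [this]
    exact hc.trans (isConj_iff.mpr ⟨a, rfl⟩)
  | succ i ih =>
    refine ⟨ih.2, ?_⟩
    have e : (a * c) ^ (i + 1 + 1) * a = (a * c) * ((a * c) ^ i * a) * (a * c)⁻¹ := by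
      have h1 := conj_pow_inv haa hcc 1
      rw [pow_one] at h1
      -- a * (a*c) * a = (a*c)⁻¹, so a * (a*c)⁻¹ = (a * c) * a
      have h2 : a * (a * c)⁻¹ = (a * c) * a := by
        rw [← h1]
        have : a * (a * (a * c) * a) = (a * a) * (a * c) * a := by group
        rw [this, haa, one_mul]
      calc (a * c) ^ (i + 1 + 1) * a = (a * c) * (a * c) ^ i * ((a * c) * a) := by
            rw [pow_succ, pow_succ']; simp only [mul_assoc]
        _ = (a * c) * (a * c) ^ i * (a * (a * c)⁻¹) := by rw [h2]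
        _ = (a * c) * ((a * c) ^ i * a) * (a * c)⁻¹ := by group
    rw [e]
    exact ih.1.trans (isConj_iff.mpr ⟨a * c, rfl⟩)

end main


section main2

variable [Finite G] {z : G} {H : Subgroup G}

theorem pow_half_U (hz : orderOf z = 2)
    (h0 : ∀ g : G, z ∈ H.map (MulAut.conj g).toMonoidHom ↔ g ∈ H)
    (h1 : ∀ t : G, IsConj z t → t ≠ z → t * z = z * t →
      ∀ g : G, z * t ∈ H.map (MulAut.conj g).toMonoidHom ↔ g ∈ H)
    {a c g : G} {m : ℕ} (ha : IsConj z a) (hc : IsConj z c) (hag : U H a g)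
    (hm : 0 < m) (hord : orderOf (a * c) = 2 * m) : U H ((a * c) ^ m) g := by
  have haa := inv2_of_isConj hz ha
  have hcc := inv2_of_isConj hz hc
  have hmem := (pow_mul_isConj hz ha hc m).1
  have hww : (a * c) ^ m * (a * c) ^ m = 1 := by
    rw [← pow_add, ← two_mul, ← hord, pow_orderOf_eq_one]
  have hwinv : ((a * c) ^ m)⁻¹ = (a * c) ^ m := inv_eq_of_mul_eq_one_left hww
  have e1 : a * ((a * c) ^ m * a) = (a * c) ^ m := by
    rw [← mul_assoc, conj_pow_inv haa hcc m, hwinv]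
  have e2 : (a * c) ^ m * a * a = (a * c) ^ m := by rw [mul_assoc, haa, mul_one]
  have hne : (a * c) ^ m * a ≠ a := by
    intro h
    have h' : (a * c) ^ m = 1 := by
      have h3 : (a * c) ^ m * a * a = a * a := by rw [h]
      rw [e2, haa] at h3; exact h3
    have hdvd := orderOf_dvd_of_pow_eq_one h'
    rw [hord] at hdvd
    have := Nat.le_of_dvd hm hdvd
    omega
  have hk := key2 h0 h1 hag ha hmem hne (by rw [e1, e2])
  rwa [e1] at hk

theorem odd_order (hz : orderOf z = 2)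
    (h0 : ∀ g : G, z ∈ H.map (MulAut.conj g).toMonoidHom ↔ g ∈ H)
    (h1 : ∀ t : G, IsConj z t → t ≠ z → t * z = z * t →
      ∀ g : G, z * t ∈ H.map (MulAut.conj g).toMonoidHom ↔ g ∈ H)
    {a c g g' : G} (ha : IsConj z a) (hc : IsConj z c) (hag : U H a g) (hcg : U H c g')
    (hne : ¬ g⁻¹ * g' ∈ H) : Odd (orderOf (a * c)) := by
  by_contra hodd
  rw [Nat.not_odd_iff_even] at hodd
  obtain ⟨m, hm⟩ := hodd
  have hpos : 0 < orderOf (a * c) := orderOf_pos _
  have hm0 : 0 < m := by omega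
  have hord : orderOf (a * c) = 2 * m := by omega
  have haa := inv2_of_isConj hz ha
  have hcc := inv2_of_isConj hz hc
  have h3 := pow_half_U hz h0 h1 ha hc hag hm0 hord
  have hord' : orderOf (c * a) = 2 * m := by rw [ca_eq haa hcc, orderOf_inv, hord]
  have h4 := pow_half_U hz h0 h1 hc ha hcg hm0 hord'
  have e : (c * a) ^ m = (a * c) ^ m := by
    rw [ca_eq haa hcc, inv_pow]
    apply inv_eq_of_mul_eq_one_left
    rw [← pow_add, ← two_mul, ← hord, pow_orderOf_eq_one]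
  rw [e] at h4
  exact hne (h3.unique h4)

theorem conj_elt (hz : orderOf z = 2) {a c : G} (ha : IsConj z a) (hc : IsConj z c) {j : ℕ}
    (hord : orderOf (a * c) = 2 * j + 1) :
    IsConj z ((a * c) ^ j * a) ∧ ((a * c) ^ j * a) * a * ((a * c) ^ j * a)⁻¹ = c := by
  have haa := inv2_of_isConj hz ha
  have hcc := inv2_of_isConj hz hc
  have hb := (pow_mul_isConj hz ha hc j).1
  refine ⟨hb, ?_⟩
  have hbb := inv2_of_isConj hz hb
  have hbinv : ((a * c) ^ j * a)⁻¹ = (a * c) ^ j * a := inv_eq_of_mul_eq_one_left hbb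
  rw [hbinv]
  have e1 : (a * c) ^ j * a * a * ((a * c) ^ j * a) = (a * c) ^ (2 * j) * a := by
    rw [mul_assoc ((a * c) ^ j) a a, haa, mul_one, ← mul_assoc, ← pow_add, two_mul]
  rw [e1]
  have e2 : (a * c) ^ (2 * j) = (a * c)⁻¹ := by
    apply eq_inv_of_mul_eq_one_left
    rw [← pow_succ, ← hord, pow_orderOf_eq_one]
  rw [e2, ← ca_eq haa hcc, mul_assoc, haa, mul_one]

theorem conj_elt_unique (hz : orderOf z = 2)
    (h0 : ∀ g : G, z ∈ H.map (MulAut.conj g).toMonoidHom ↔ g ∈ H)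
    (h1 : ∀ t : G, IsConj z t → t ≠ z → t * z = z * t →
      ∀ g : G, z * t ∈ H.map (MulAut.conj g).toMonoidHom ↔ g ∈ H)
    {a c g g' b : G} (ha : IsConj z a) (hc : IsConj z c) (hag : U H a g) (hcg : U H c g')
    (hne : ¬ g⁻¹ * g' ∈ H) {j : ℕ} (hord : orderOf (a * c) = 2 * j + 1)
    (hb : IsConj z b) (hbc : b * a * b⁻¹ = c) : b = (a * c) ^ j * a := by
  obtain ⟨b₀, hb₀def⟩ : ∃ b₀, b₀ = (a * c) ^ j * a := ⟨_, rfl⟩
  obtain ⟨hb₀, hb₀c⟩ := conj_elt hz ha hc hord
  rw [← hb₀def] at hb₀ hb₀c ⊢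
  by_contra hbne
  have hbb := inv2_of_isConj hz hb
  have hb₀b₀ := inv2_of_isConj hz hb₀
  have h1' : b * c * b⁻¹ = a := by
    rw [← hbc]
    calc b * (b * a * b⁻¹) * b⁻¹ = (b * b) * a * (b * b)⁻¹ := by group
      _ = a := by rw [hbb]; group
  have h2' : b₀ * c * b₀⁻¹ = a := by
    rw [← hb₀c]
    calc b₀ * (b₀ * a * b₀⁻¹) * b₀⁻¹ = (b₀ * b₀) * a * (b₀ * b₀)⁻¹ := by group
      _ = a := by rw [hb₀b₀]; group
  have hxa : (b * b₀) * a = a * (b * b₀) := by
    calc b * b₀ * a = b * (b₀ * a * b₀⁻¹) * b₀ := by group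
      _ = b * c * b₀ := by rw [hb₀c]
      _ = (b * c * b⁻¹) * (b * b₀) := by group
      _ = a * (b * b₀) := by rw [h1']
  have hxc : (b * b₀) * c = c * (b * b₀) := by
    calc b * b₀ * c = b * (b₀ * c * b₀⁻¹) * b₀ := by group
      _ = b * a * b₀ := by rw [h2']
      _ = (b * a * b⁻¹) * (b * b₀) := by group
      _ = c * (b * b₀) := by rw [hbc]
  have hxb₀ : (b * b₀) * b₀ = b₀ * (b * b₀) := by
    have hxr : Commute (b * b₀) (a * c) := by
      show (b * b₀) * (a * c) = (a * c) * (b * b₀)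
      rw [← mul_assoc, hxa, mul_assoc, hxc, ← mul_assoc]
    have hxa' : Commute (b * b₀) a := hxa
    have h5 : Commute (b * b₀) ((a * c) ^ j * a) := (hxr.pow_right j).mul_right hxa'
    rw [← hb₀def] at h5
    exact h5.eq
  have hcomm : b * b₀ = b₀ * b := by
    have h3 : b * b₀ * b₀ = b := by rw [mul_assoc, hb₀b₀, mul_one]
    rw [h3] at hxb₀
    calc b * b₀ = (b₀ * b₀) * (b * b₀) := by rw [hb₀b₀, one_mul]
      _ = b₀ * (b₀ * (b * b₀)) := by group
      _ = b₀ * b := by rw [← hxb₀]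
  obtain ⟨gb, -, hUb⟩ := exists_U h0 hb
  have hk := key2 h0 h1 hUb hb hb₀ (fun h => hbne h.symm) hcomm
  have f1 := hag.of_commute hxa
  have f2 := hcg.of_commute hxc
  exact hne (hk.eq_of_fix f1 f2)

end main2


section main3

variable [Finite G] {z : G} {H : Subgroup G}

theorem odd_ncard_conj (hz : orderOf z = 2) (hH : H ≠ ⊤)
    (h0 : ∀ g : G, z ∈ H.map (MulAut.conj g).toMonoidHom ↔ g ∈ H)
    (h1 : ∀ t : G, IsConj z t → t ≠ z → t * z = z * t →
      ∀ g : G, z * t ∈ H.map (MulAut.conj g).toMonoidHom ↔ g ∈ H) :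
    Odd {a : G | IsConj z a}.ncard := by
  obtain ⟨g, hg⟩ : ∃ g : G, g ∉ H := by
    by_contra h; push_neg at h; exact hH (eq_top_iff.mpr fun x _ => h x)
  have hzz := zz hz
  have hzinv : z⁻¹ = z := inv_eq_of_mul_eq_one_left hzz
  have hzH : z ∈ H := by simpa using (hU0 h0).fix_self
  have hzI : IsConj z z := IsConj.refl z
  obtain ⟨a₀, ha₀⟩ : ∃ a₀, a₀ = g * z * g⁻¹ := ⟨_, rfl⟩
  have ha₀I : IsConj z a₀ := isConj_iff.mpr ⟨g, ha₀.symm⟩
  have hUa₀ : U H a₀ g := by
    have := (hU0 h0).conj g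
    rwa [mul_one, ← ha₀] at this
  have hg1 : ¬ g⁻¹ * 1 ∈ H := by
    rw [mul_one]; intro h; exact hg (by simpa using H.inv_mem h)
  have hΔU : ∀ c, IsConj z c → c ∈ H → U H c 1 := by
    intro c hc hcH
    obtain ⟨y, -, hUy⟩ := exists_U h0 hc
    have h3 : (1 : G)⁻¹ * c * 1 ∈ H := by simpa using hcH
    exact hUy.coset ((hUy 1).mp h3)
  have hmapH : ∀ b, b * g ∈ H → b * a₀ * b⁻¹ ∈ H := by
    intro b hbg
    have e : b * a₀ * b⁻¹ = (b * g) * z * (b * g)⁻¹ := by rw [ha₀]; group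
    rw [e]
    exact H.mul_mem (H.mul_mem hbg hzH) (H.inv_mem hbg)
  have hpre : ∀ c, IsConj z c → c ∈ H → ∃ b, (IsConj z b ∧ b * g ∈ H) ∧ b * a₀ * b⁻¹ = c := by
    intro c hc hcH
    have hUc := hΔU c hc hcH
    obtain ⟨j, hj⟩ := odd_order hz h0 h1 ha₀I hc hUa₀ hUc hg1
    obtain ⟨hbI, hbc⟩ := conj_elt hz ha₀I hc hj
    refine ⟨(a₀ * c) ^ j * a₀, ⟨hbI, ?_⟩, hbc⟩
    have hU' := hUa₀.conj ((a₀ * c) ^ j * a₀)
    rw [hbc] at hU'
    simpa using hUc.unique hU'
  have hcard : {b : G | IsConj z b ∧ b * g ∈ H}.ncard = {c : G | IsConj z c ∧ c ∈ H}.ncard := by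
    apply Set.ncard_congr (fun b _ => b * a₀ * b⁻¹)
    · rintro b ⟨hb, hbg⟩
      exact ⟨ha₀I.trans (isConj_iff.mpr ⟨b, rfl⟩), hmapH b hbg⟩
    · rintro b b' ⟨hb, hbg⟩ ⟨hb', hb'g⟩ heq
      have hcI : IsConj z (b * a₀ * b⁻¹) := ha₀I.trans (isConj_iff.mpr ⟨b, rfl⟩)
      have hUc := hΔU _ hcI (hmapH b hbg)
      obtain ⟨j, hj⟩ := odd_order hz h0 h1 ha₀I hcI hUa₀ hUc hg1
      have e1 := conj_elt_unique hz h0 h1 ha₀I hcI hUa₀ hUc hg1 hj hb rfl
      have e2 := conj_elt_unique hz h0 h1 ha₀I hcI hUa₀ hUc hg1 hj hb' heq.symm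
      rw [e1, e2]
    · rintro c ⟨hc, hcH⟩
      obtain ⟨b, hbX, hbc⟩ := hpre c hc hcH
      exact ⟨b, hbX, hbc⟩
  obtain ⟨b₁, ⟨hb₁I, hb₁g⟩, -⟩ := hpre z hzI hzH
  have hb₁b₁ := inv2_of_isConj hz hb₁I
  have hb₁inv : b₁⁻¹ = b₁ := inv_eq_of_mul_eq_one_left hb₁b₁
  have hX : {b : G | IsConj z b ∧ b * g ∈ H}.ncard ≡ 1 [MOD 2] := by
    have h := ncard_modEq_of_involution {b : G | IsConj z b ∧ b * g ∈ H}
      (fun b => b₁ * b * b₁⁻¹) ?_ ?_
    · have hfix : {x ∈ {b : G | IsConj z b ∧ b * g ∈ H} | (fun b => b₁ * b * b₁⁻¹) x = x}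
          = {b₁} := by
        ext b
        simp only [Set.mem_setOf_eq, Set.mem_singleton_iff]
        constructor
        · rintro ⟨⟨hbI, hbg⟩, hfix⟩
          by_contra hne
          have hbb := inv2_of_isConj hz hbI
          have hbinv : b⁻¹ = b := inv_eq_of_mul_eq_one_left hbb
          have hcomm : b * b₁ = b₁ * b := by
            have h3 : b₁ * b * b₁⁻¹ * b₁ = b * b₁ := by rw [hfix]
            rw [inv_mul_cancel_right] at h3
            exact h3.symm
          obtain ⟨gb, -, hUb⟩ := exists_U h0 hbI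
          have hk := key2 h0 h1 hUb hbI hb₁I (fun h => hne h.symm) hcomm
          have f1 : (1 : G)⁻¹ * (b * b₁) * 1 ∈ H := by
            have e : (1 : G)⁻¹ * (b * b₁) * 1 = (b * g) * (b₁ * g)⁻¹ := by
              rw [mul_inv_rev, hb₁inv]; group
            rw [e]; exact H.mul_mem hbg (H.inv_mem hb₁g)
          have f2 : g⁻¹ * (b * b₁) * g ∈ H := by
            have e : g⁻¹ * (b * b₁) * g = (b * g)⁻¹ * (b₁ * g) := by
              rw [mul_inv_rev, hbinv]; group
            rw [e]; exact H.mul_mem (H.inv_mem hbg) hb₁g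
          have h4 := hk.eq_of_fix f1 f2
          exact hg (by simpa using h4)
        · intro hb
          rw [hb]
          exact ⟨⟨hb₁I, hb₁g⟩, by group⟩
      rw [hfix, Set.ncard_singleton] at h
      exact h
    · rintro b ⟨hbI, hbg⟩
      have hbb := inv2_of_isConj hz hbI
      have hbinv : b⁻¹ = b := inv_eq_of_mul_eq_one_left hbb
      refine ⟨hbI.trans (isConj_iff.mpr ⟨b₁, rfl⟩), ?_⟩
      have e : b₁ * b * b₁⁻¹ * g = (b₁ * g) * (b * g)⁻¹ * (b₁ * g) := by
        rw [mul_inv_rev, hbinv, hb₁inv]; group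
      rw [e]
      exact H.mul_mem (H.mul_mem hb₁g (H.inv_mem hbg)) hb₁g
    · intro b _
      show b₁ * (b₁ * b * b₁⁻¹) * b₁⁻¹ = b
      rw [hb₁inv]
      calc b₁ * (b₁ * b * b₁) * b₁ = (b₁ * b₁) * b * (b₁ * b₁) := by group
        _ = b := by rw [hb₁b₁, one_mul, mul_one]
  have hinvz : ∀ c : G, z * (z * c * z⁻¹) * z⁻¹ = c := by
    intro c
    rw [hzinv]
    calc z * (z * c * z) * z = (z * z) * c * (z * z) := by group
      _ = c := by rw [hzz, one_mul, mul_one]
  have hΔ : {c : G | IsConj z c ∧ c ∈ H}.ncard ≡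
      {x ∈ {c : G | IsConj z c ∧ c ∈ H} | z * x * z⁻¹ = x}.ncard [MOD 2] :=
    ncard_modEq_of_involution _ (fun x => z * x * z⁻¹) (by
      rintro c ⟨hc, hcH⟩
      exact ⟨hc.trans (isConj_iff.mpr ⟨z, rfl⟩),
        H.mul_mem (H.mul_mem hzH hcH) (H.inv_mem hzH)⟩) (fun c _ => hinvz c)
  have hI : {a : G | IsConj z a}.ncard ≡
      {x ∈ {a : G | IsConj z a} | z * x * z⁻¹ = x}.ncard [MOD 2] :=
    ncard_modEq_of_involution _ (fun x => z * x * z⁻¹) (by
      intro c hc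
      exact IsConj.trans hc (isConj_iff.mpr ⟨z, rfl⟩)) (fun c _ => hinvz c)
  have hF : {x ∈ {a : G | IsConj z a} | z * x * z⁻¹ = x} =
      {x ∈ {c : G | IsConj z c ∧ c ∈ H} | z * x * z⁻¹ = x} := by
    ext x
    simp only [Set.mem_setOf_eq]
    constructor
    · rintro ⟨hx, hfix⟩
      refine ⟨⟨hx, ?_⟩, hfix⟩
      have hcomm : x * z = z * x := by
        have h3 : z * x * z⁻¹ * z = x * z := by rw [hfix]
        rw [inv_mul_cancel_right] at h3
        exact h3.symm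
      simpa using (hU0 h0).of_commute hcomm
    · rintro ⟨⟨hx, _⟩, hfix⟩
      exact ⟨hx, hfix⟩
  rw [hF] at hI
  have hfin : {a : G | IsConj z a}.ncard ≡ 1 [MOD 2] :=
    (hI.trans hΔ.symm).trans (by rw [← hcard]; exact hX)
  exact Nat.odd_iff.mpr hfin

theorem exists_sylow_center (hz : orderOf z = 2) (hodd : Odd {a : G | IsConj z a}.ncard) :
    ∃ P : Sylow 2 G, z ∈ (Subgroup.center ↥(P : Subgroup G)).map (P : Subgroup G).subtype := by
  obtain ⟨C, hC⟩ : ∃ C : Subgroup G, C = Subgroup.centralizer ({z} : Set G) := ⟨_, rfl⟩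
  have hidx : C.index = {a : G | IsConj z a}.ncard := by
    have h1 : C = (MulAction.stabilizer (ConjAct G) z).comap
        (ConjAct.toConjAct (G := G)).toMonoidHom := by
      rw [hC]; exact Subgroup.centralizer_eq_comap_stabilizer z
    have hs : Function.Surjective ((ConjAct.toConjAct (G := G)).toMonoidHom) :=
      (ConjAct.toConjAct (G := G)).surjective
    have h2 : C.index = (MulAction.stabilizer (ConjAct G) z).index := by
      rw [h1]; exact Subgroup.index_comap_of_surjective _ hs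
    rw [h2, MulAction.index_stabilizer]
    congr 1
    ext a
    rw [ConjAct.mem_orbit_conjAct, Set.mem_setOf_eq, isConj_comm]
  have hzC : z ∈ C := by
    rw [hC, Subgroup.mem_centralizer_iff]
    intro h hh
    rw [Set.mem_singleton_iff.mp hh]
  have h2 : IsPGroup 2 (Subgroup.zpowers (⟨z, hzC⟩ : C)) := by
    apply IsPGroup.of_card (n := 1)
    rw [Nat.card_zpowers, Subgroup.orderOf_mk, hz, pow_one]
  obtain ⟨Q, hQ⟩ := h2.exists_le_sylow
  have hcard : Nat.card ((Q : Subgroup C).map C.subtype) = 2 ^ (Nat.card G).factorization 2 := by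
    rw [Subgroup.card_subtype, Sylow.card_eq_multiplicity]
    have h0' : C.index ≠ 0 := Subgroup.index_ne_zero_of_finite
    have hf : (Nat.card G).factorization 2 = (Nat.card C).factorization 2 := by
      rw [← Subgroup.card_mul_index C, Nat.factorization_mul Nat.card_pos.ne' h0',
        Finsupp.add_apply,
        Nat.factorization_eq_zero_of_not_dvd (n := C.index) (p := 2)
          (by rw [hidx]; exact hodd.not_two_dvd_nat),
        add_zero]
    rw [hf]
  have hzP : z ∈ ((Sylow.ofCard _ hcard : Sylow 2 G) : Subgroup G) := by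
    rw [Sylow.coe_ofCard]
    exact ⟨⟨z, hzC⟩, hQ (Subgroup.mem_zpowers _), rfl⟩
  refine ⟨Sylow.ofCard _ hcard, ?_⟩
  rw [Subgroup.mem_map]
  refine ⟨⟨z, hzP⟩, ?_, rfl⟩
  rw [Subgroup.mem_center_iff]
  rintro ⟨x, hx⟩
  apply Subtype.ext
  show x * z = z * x
  rw [Sylow.coe_ofCard] at hx
  obtain ⟨y, -, rfl⟩ := hx
  have hy : (y : G) ∈ Subgroup.centralizer ({z} : Set G) := by rw [← hC]; exact y.2
  rw [Subgroup.mem_centralizer_iff] at hy
  exact (hy z rfl).symm

end main3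


theorem isPGroup_zpowers_of_sq {K : Type*} [Group K] (y : K) (h : y * y = 1) :
    IsPGroup 2 (Subgroup.zpowers y) := by
  rintro ⟨u, hu⟩
  obtain ⟨i, hi⟩ := Subgroup.mem_zpowers_iff.mp hu
  refine ⟨1, ?_⟩
  apply Subtype.ext
  simp only [pow_one, Subgroup.coe_pow, Subgroup.coe_one]
  rw [← hi, ← zpow_natCast, ← zpow_mul, mul_comm, zpow_mul, zpow_natCast, pow_two, h, one_zpow]

open Pointwise in
theorem two_to_one [Finite G] {z : G} {H : Subgroup G} (hz : orderOf z = 2)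
    (h0 : ∀ g : G, z ∈ H.map (MulAut.conj g).toMonoidHom ↔ g ∈ H)
    (P : Sylow 2 G)
    (hzP : z ∈ (Subgroup.center ↥(P : Subgroup G)).map (P : Subgroup G).subtype)
    (hC : ∀ t : G, IsConj z t → t ≠ z → t * z = z * t →
      Subgroup.centralizer ({z * t} : Set G) ≤ H)
    (t : G) (ht : IsConj z t) (htne : t ≠ z) (htc : t * z = z * t) (g : G) :
    z * t ∈ H.map (MulAut.conj g).toMonoidHom ↔ g ∈ H := by
  have hzz := zz hz
  have htt := inv2_of_isConj hz ht
  have hzH : z ∈ H := by simpa using (hU0 h0).fix_self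
  have hCzH : ∀ x, x * z = z * x → x ∈ H := fun x hx => by
    simpa using (hU0 h0).of_commute hx
  have htH : t ∈ H := hCzH t htc
  rw [mem_map_conj_iff]
  constructor
  · intro hy
    obtain ⟨w, hwc, hwz⟩ := Subgroup.mem_map.mp hzP
    have hwz' : (w : G) = z := hwz
    have hPz : ∀ x ∈ (P : Subgroup G), x * z = z * x := by
      intro x hx
      have h3 := Subgroup.mem_center_iff.mp hwc ⟨x, hx⟩
      have h4 : x * (w : G) = (w : G) * x := congrArg Subtype.val h3
      rwa [hwz'] at h4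
    have hPH : (P : Subgroup G) ≤ H := fun x hx => hCzH x (hPz x hx)
    have hsq : (⟨g⁻¹ * (z * t) * g, hy⟩ : H) * ⟨g⁻¹ * (z * t) * g, hy⟩ = 1 := by
      apply Subtype.ext
      show g⁻¹ * (z * t) * g * (g⁻¹ * (z * t) * g) = 1
      have e : g⁻¹ * (z * t) * g * (g⁻¹ * (z * t) * g) = g⁻¹ * (z * (t * z) * t) * g := by group
      rw [e, htc]
      have e2 : z * (z * t) * t = (z * z) * (t * t) := by group
      rw [e2, hzz, htt]; group
    obtain ⟨Q, hQ⟩ := (isPGroup_zpowers_of_sq _ hsq).exists_le_sylow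
    obtain ⟨h, hh⟩ := MulAction.exists_smul_eq H (P.subtype hPH) Q
    have hmem : (⟨g⁻¹ * (z * t) * g, hy⟩ : H) ∈ ((h • P.subtype hPH : Sylow 2 H) : Subgroup H) := by
      rw [hh]; exact hQ (Subgroup.mem_zpowers _)
    rw [Sylow.coe_subgroup_smul, Subgroup.mem_pointwise_smul_iff_inv_smul_mem] at hmem
    have hmem2 : ((h⁻¹ * ⟨g⁻¹ * (z * t) * g, hy⟩ * h : H) : G) ∈ (P : Subgroup G) := by
      have h5 : (MulAut.conj h)⁻¹ • (⟨g⁻¹ * (z * t) * g, hy⟩ : H) =
          h⁻¹ * ⟨g⁻¹ * (z * t) * g, hy⟩ * h := by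
        rw [MulAut.smul_def, MulAut.conj_inv_apply]
      rw [h5, Sylow.coe_subtype, Subgroup.mem_subgroupOf] at hmem
      exact hmem
    have h6 := hPz _ hmem2
    -- k := g * h
    have hk : (g * (h : G)) * z * (g * (h : G))⁻¹ ∈ Subgroup.centralizer ({z * t} : Set G) := by
      rw [Subgroup.mem_centralizer_iff]
      intro m hm
      rw [Set.mem_singleton_iff.mp hm]
      have e1 : ((h⁻¹ * ⟨g⁻¹ * (z * t) * g, hy⟩ * h : H) : G) =
          (g * (h : G))⁻¹ * (z * t) * (g * (h : G)) := by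
        show (h : G)⁻¹ * (g⁻¹ * (z * t) * g) * (h : G) = _
        group
      rw [e1] at h6
      -- h6 : k⁻¹ (zt) k * z = z * (k⁻¹ (zt) k)
      calc z * t * (g * (h : G) * z * (g * (h : G))⁻¹)
          = (g * (h : G)) * ((g * (h : G))⁻¹ * (z * t) * (g * (h : G)) * z) * (g * (h : G))⁻¹ := by
            group
        _ = (g * (h : G)) * (z * ((g * (h : G))⁻¹ * (z * t) * (g * (h : G)))) * (g * (h : G))⁻¹ := by
            rw [h6]
        _ = g * (h : G) * z * (g * (h : G))⁻¹ * (z * t) := by group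
    have hkH := hC t ht htne htc hk
    have h7 : ((g * (h : G))⁻¹)⁻¹ * z * (g * (h : G))⁻¹ ∈ H := by rwa [inv_inv]
    have h8 := ((hU0 h0) _).mp h7
    have h9 : g * (h : G) ∈ H := by
      have := H.inv_mem h8
      simpa using this
    have := H.mul_mem h9 (H.inv_mem h.2)
    simpa using this
  · intro hg
    exact H.mul_mem (H.mul_mem (H.inv_mem hg) (H.mul_mem hzH htH)) hg

theorem result {G : Type*} [Group G] [Finite G] (z : G) (hz : orderOf z = 2) (H : Subgroup G) (hH : H ≠ ⊤)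
    (h0 : ∀ g : G, z ∈ H.map (MulAut.conj g).toMonoidHom ↔ g ∈ H) :
    (∀ t : G, IsConj z t → t ≠ z → t * z = z * t → ∀ g : G, z * t ∈ H.map (MulAut.conj g).toMonoidHom ↔ g ∈ H) ↔
      ((∃ P : Sylow 2 G, z ∈ (Subgroup.center ↥(P : Subgroup G)).map (P : Subgroup G).subtype) ∧
        ∀ t : G, IsConj z t → t ≠ z → t * z = z * t → Subgroup.centralizer ({z * t} : Set G) ≤ H) := by
  constructor
  · intro h1
    refine ⟨exists_sylow_center hz (odd_ncard_conj hz hH h0 h1), ?_⟩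
    intro t ht htne htc x hx
    have h1t := h1 t ht htne htc
    have hztH : z * t ∈ H := by
      have h3 := (h1t 1).mpr H.one_mem
      rw [mem_map_conj_iff] at h3
      simpa using h3
    rw [← h1t x, mem_map_conj_iff]
    have hcomm := (Subgroup.mem_centralizer_iff.mp hx) (z * t) rfl
    have e : x⁻¹ * (z * t) * x = z * t := by
      rw [mul_assoc, hcomm, ← mul_assoc, inv_mul_cancel, one_mul]
    rw [e]; exact hztH
  · rintro ⟨⟨P, hzP⟩, hC⟩ t ht htne htc g
    exact two_to_one hz h0 P hzP hC t ht htne htc g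

end Cfsg.Agent.S1922
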