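import Cfsg.Statements.S1924
import Cfsg.Agent.Lib.Helper29.SignTransfer

set_option autoImplicit false
open Cfsg

namespace Cfsg.Agent.S1924

/-- A consequence of Thompson's transfer lemma. Let G be a finite group, L a subgroup with O²(L) = L, T a Sylow 2-subgroup of L and S a Sylow 2-subgroup of G containing T. Suppose D ≤ S is a dihedral subgroup of order at least 4 (the four-group counts) with D ∩ T = 1 and S = TD as a set of products (so |S| = |T|·|D|), and C ≤ D is cyclic of index 2 in D. If no involution of D outside C is G-conjugate to an involution of the subgroup generated by T and C, and the involution of C is not G-conjugate to any involution of T, then G has a normal subgroup K, containing every Sylow 2-subgroup of L as a Sylow 2-subgroup, with G = KD. -/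
theorem result {G : Type*} [Group G] [Finite G] (L T S D C : Subgroup G) (hL : Cfsg.pResidual 2 ↥L = ⊤)
    (hTL : T ≤ L) (hT2 : IsPGroup 2 T) (hTsyl : ¬ 2 ∣ T.relIndex L)
    (hS2 : IsPGroup 2 S) (hSsyl : ¬ 2 ∣ S.index) (hTS : T ≤ S)
    (hDS : D ≤ S) (hDih : ∃ n : ℕ, 2 ≤ n ∧ Nonempty (↥D ≃* DihedralGroup n)) (hDT : D ⊓ T = ⊥) (hTD : T ⊔ D = S) (hTDc : Nat.card T * Nat.card D = Nat.card S)
    (hCD : C ≤ D) (hC : IsCyclic ↥C) (hCi : C.relIndex D = 2)
    (h1 : ∀ x ∈ D, x ∉ C → orderOf x = 2 → ∀ g : G, g * x * g⁻¹ ∈ T ⊔ C → False)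
    (h2 : ∀ c ∈ C, orderOf c = 2 → ∀ g : G, g * c * g⁻¹ ∈ T → False) :
    ∃ K : Subgroup G, K.Normal ∧ K ⊔ D = ⊤ ∧
      ∀ T' : Subgroup G, T' ≤ L → IsPGroup 2 T' → ¬ 2 ∣ T'.relIndex L → T' ≤ K ∧ ¬ 2 ∣ T'.relIndex K := by
  open Cfsg.Agent.Lib.Helper29 in
  classical
  haveI : Fact (Nat.Prime 2) := ⟨Nat.prime_two⟩
  have hLK : L ≤ Cfsg.pResidual 2 G := by
    intro l hl
    have h3 : (⟨l, hl⟩ : L) ∈ Cfsg.pResidual 2 ↥L := by
      rw [hL]
      exact Subgroup.mem_top _
    exact map_mem_pResidual 2 L.subtype h3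
  have hTK : T ≤ Cfsg.pResidual 2 G := hTL.trans hLK
  have hodd := thompson_dihedral_residual T S D C hTK hS2 hSsyl hTS hDS hDih hDT hTDc hCD hC hCi h1 h2
  refine ⟨Cfsg.pResidual 2 G, pResidual_normal' 2, ?_, ?_⟩
  · have h3 := pResidual_sup_sylow 2 (hS2.toSylow hSsyl)
    have h4 : ((hS2.toSylow hSsyl : Sylow 2 G) : Subgroup G) = S := rfl
    rw [h4, ← hTD, ← sup_assoc, sup_eq_left.2 hTK] at h3
    exact h3
  · intro T' hT'L hT'2 hT'syl
    refine ⟨hT'L.trans hLK, ?_⟩
    -- `T'` and `T` have the same order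
    have hcard : Nat.card T' = Nat.card T := by
      have hP1 : IsPGroup 2 (T.subgroupOf L) := hT2.comap_subtype
      have hP2 : IsPGroup 2 (T'.subgroupOf L) := hT'2.comap_subtype
      have e1 := (hP1.toSylow hTsyl).card_eq_multiplicity
      have e2 := (hP2.toSylow hT'syl).card_eq_multiplicity
      have e3 : Nat.card (T.subgroupOf L) = Nat.card (T'.subgroupOf L) := e1.trans e2.symm
      rw [Nat.card_congr (Subgroup.subgroupOfEquivOfLe hTL).toEquiv,
        Nat.card_congr (Subgroup.subgroupOfEquivOfLe hT'L).toEquiv] at e3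
      exact e3.symm
    have e4 := (T.subgroupOf (Cfsg.pResidual 2 G)).card_mul_index
    have e5 := (T'.subgroupOf (Cfsg.pResidual 2 G)).card_mul_index
    rw [Nat.card_congr (Subgroup.subgroupOfEquivOfLe hTK).toEquiv] at e4
    rw [Nat.card_congr (Subgroup.subgroupOfEquivOfLe (hT'L.trans hLK)).toEquiv, hcard, ← e4] at e5
    have hTpos : 0 < Nat.card T := Nat.card_pos
    have e6 : T'.relIndex (Cfsg.pResidual 2 G) = T.relIndex (Cfsg.pResidual 2 G) :=
      Nat.eq_of_mul_eq_mul_left hTpos e5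
    rw [e6]
    exact hodd

end Cfsg.Agent.S1924
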