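import Cfsg.Statements.S1939
-- import your own Cfsg.Agent.* helpers here

set_option autoImplicit false
open Cfsg

namespace Cfsg.Agent.S1939

/-- Let S be a Sylow p-subgroup of the finite group G and a an element of S that is the only G-conjugate of a lying in S. Then every power of a has the same property: for every n, the only G-conjugate of a^n lying in S is a^n. -/
theorem result {G : Type*} [Group G] [Finite G] {p : ℕ} [Fact p.Prime] (S : Sylow p G) (a : G)
    (haS : a ∈ (S : Subgroup G)) (hwc : ∀ g : G, g * a * g⁻¹ ∈ (S : Subgroup G) → g * a * g⁻¹ = a) (n : ℕ) :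
    ∀ g : G, g * a ^ n * g⁻¹ ∈ (S : Subgroup G) → g * a ^ n * g⁻¹ = a ^ n := by
  classical
  intro g hy
  -- a is central in S
  have haZ : ∀ s ∈ (S : Subgroup G), s * a = a * s := by
    intro s hs
    have h1 := hwc s ((S : Subgroup G).mul_mem ((S : Subgroup G).mul_mem hs haS)
      ((S : Subgroup G).inv_mem hs))
    calc s * a = (s * a * s⁻¹) * s := by group
      _ = a * s := by rw [h1]
  obtain ⟨y, hydef⟩ : ∃ y : G, y = g * a ^ n * g⁻¹ := ⟨_, rfl⟩
  rw [← hydef] at hy ⊢
  -- S commutes with a ^ n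
  have hapow : ∀ s ∈ (S : Subgroup G), s * a ^ n = a ^ n * s := by
    intro s hs
    exact ((show Commute s a from haZ s hs).pow_right n).eq
  -- the conjugate Sylow subgroup lies in the centralizer of y
  have h2 : ((g • S : Sylow p G) : Subgroup G) ≤ Subgroup.centralizer ({y} : Set G) := by
    intro z hz
    rw [Sylow.coe_subgroup_smul, Subgroup.mem_pointwise_smul_iff_inv_smul_mem] at hz
    rw [MulAut.smul_def, MulAut.conj_inv_apply] at hz
    rw [Subgroup.mem_centralizer_iff]
    intro k hk
    rw [Set.mem_singleton_iff] at hk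
    subst hk
    have := hapow _ hz
    rw [hydef]
    calc g * a ^ n * g⁻¹ * z = g * (a ^ n * (g⁻¹ * z * g)) * g⁻¹ := by group
      _ = g * ((g⁻¹ * z * g) * a ^ n) * g⁻¹ := by rw [this]
      _ = z * (g * a ^ n * g⁻¹) := by group
  -- a centralizes y
  have haC : a ∈ Subgroup.centralizer ({y} : Set G) := by
    rw [Subgroup.mem_centralizer_iff]
    intro k hk
    rw [Set.mem_singleton_iff] at hk
    subst hk
    exact haZ k hy
  -- the p-subgroup ⟨a⟩ of the centralizer lies in a Sylow p-subgroup of the centralizer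
  have hQ : IsPGroup p ((Subgroup.zpowers a).subgroupOf (Subgroup.centralizer ({y} : Set G))) := by
    have h1 : IsPGroup p (Subgroup.zpowers a) :=
      S.isPGroup'.to_le ((Subgroup.zpowers_le).mpr haS)
    exact h1.comap_subtype
  obtain ⟨R, hR⟩ := hQ.exists_le_sylow
  obtain ⟨c, hc⟩ := MulAction.exists_smul_eq (Subgroup.centralizer ({y} : Set G))
    ((g • S).subtype h2) R
  rw [Sylow.smul_subtype] at hc
  have haR : (⟨a, haC⟩ : Subgroup.centralizer ({y} : Set G)) ∈ R :=
    hR (by rw [Subgroup.mem_subgroupOf]; exact Subgroup.mem_zpowers a)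
  rw [← hc] at haR
  have haR' : a ∈ ((c • g • S : Sylow p G) : Subgroup G) := haR
  simp only [Subgroup.smul_def, smul_smul] at haR'
  -- so (c g)⁻¹ a (c g) ∈ S
  rw [Sylow.coe_subgroup_smul, Subgroup.mem_pointwise_smul_iff_inv_smul_mem] at haR'
  rw [MulAut.smul_def, MulAut.conj_inv_apply] at haR'
  have h3 := hwc ((c : G) * g)⁻¹ (by rw [inv_inv]; exact haR')
  -- hence c g commutes with a
  have h4 : ((c : G) * g) * a = a * ((c : G) * g) := by
    calc ((c : G) * g) * a = ((c : G) * g) * (((c : G) * g)⁻¹ * a * ((c : G) * g)⁻¹⁻¹) := by rw [h3]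
      _ = a * ((c : G) * g) := by group
  have h5 : ((c : G) * g) * a ^ n = a ^ n * ((c : G) * g) :=
    ((show Commute ((c : G) * g) a from h4).pow_right n).eq
  have h6 : (c : G) * y = y * (c : G) :=
    (Subgroup.mem_centralizer_iff.mp c.2 y (Set.mem_singleton y)).symm
  calc y = (c : G) * y * (c : G)⁻¹ := by rw [h6]; group
    _ = (c : G) * (g * a ^ n * g⁻¹) * (c : G)⁻¹ :=
        congrArg (fun t => (c : G) * t * (c : G)⁻¹) hydef
    _ = ((c : G) * g) * a ^ n * ((c : G) * g)⁻¹ := by group
    _ = a ^ n := by rw [h5]; group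

end Cfsg.Agent.S1939
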