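import Cfsg.Statements.S1940
-- import your own Cfsg.Agent.* helpers here

set_option autoImplicit false
open Cfsg

namespace Cfsg.Agent.S1940

/-- Let the finite group L act by automorphisms on the finite abelian group M, and let N be an L-invariant subgroup of M such that M/N is a p-group on which L acts trivially (every l • m lies in the coset mN). If every element of M is a product of an element of N and an element fixed by a Sylow p-subgroup T of L, then every element of M is a product of an element of N and an element fixed by all of L. -/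
theorem result {L : Type*} [Group L] [Finite L] {M : Type*} [CommGroup M] [Finite M] [MulDistribMulAction L M]
    {p : ℕ} [Fact p.Prime] (N : Subgroup M) (hN : ∀ (l : L) (m : M), m ∈ N → l • m ∈ N)
    (hquot : IsPGroup p (M ⧸ N)) (htriv : ∀ (l : L) (m : M), (l • m) * m⁻¹ ∈ N) (T : Sylow p L)
    (hT : ∀ m : M, ∃ n ∈ N, ∃ c : M, (∀ t ∈ (T : Subgroup L), t • c = c) ∧ m = n * c) :
    ∀ m : M, ∃ n ∈ N, ∃ c : M, (∀ l : L, l • c = c) ∧ m = n * c := by
  classical
  intro m
  obtain ⟨n, hn, c, hcT, hm⟩ := hT m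
  -- the orbit of c under L and its product
  have : Fintype (MulAction.orbit L c) := Fintype.ofFinite _
  obtain ⟨cs, hcs⟩ : ∃ cs : M, cs = ∏ x : MulAction.orbit L c, (x : M) := ⟨_, rfl⟩
  -- cs is fixed by L
  have hfix : ∀ l : L, l • cs = cs := by
    intro l
    rw [hcs, Finset.smul_prod']
    exact Equiv.prod_comp (MulAction.toPerm l : Equiv.Perm (MulAction.orbit L c))
      (fun x => (x : M))
  -- every element of the orbit is congruent to c modulo N
  have hcong : ∀ x : MulAction.orbit L c, (QuotientGroup.mk (x : M) : M ⧸ N) = QuotientGroup.mk c := by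
    intro x
    obtain ⟨l, hl⟩ := x.2
    rw [QuotientGroup.eq]
    have h1 := htriv l c
    have h2 : (x : M)⁻¹ * c = ((l • c) * c⁻¹)⁻¹ := by
      rw [← hl]; simp [mul_comm]
    rw [h2]
    exact N.inv_mem h1
  obtain ⟨j, hj⟩ : ∃ j : ℕ, j = Fintype.card (MulAction.orbit L c) := ⟨_, rfl⟩
  have hmk : (QuotientGroup.mk cs : M ⧸ N) = (QuotientGroup.mk c) ^ j := by
    rw [hcs, ← QuotientGroup.mk'_apply, map_prod]
    simp only [QuotientGroup.mk'_apply, hcong]
    rw [Finset.prod_const, Finset.card_univ, hj]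
  -- j is coprime to p
  have hjp : Nat.Coprime j p := by
    have h1 : j = (MulAction.stabilizer L c).index := by
      rw [MulAction.index_stabilizer, hj, ← Nat.card_eq_fintype_card, Nat.card_coe_set_eq]
    have h2 : (T : Subgroup L) ≤ MulAction.stabilizer L c := fun t ht => hcT t ht
    have h3 : (MulAction.stabilizer L c).index ∣ (T : Subgroup L).index :=
      Subgroup.index_dvd_of_le h2
    have h4 : ¬ p ∣ (T : Subgroup L).index := T.not_dvd_index
    rw [h1]
    refine Nat.Coprime.symm ((Nat.Prime.coprime_iff_not_dvd Fact.out).mpr ?_)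
    exact fun h => h4 (h.trans h3)
  -- Bezout
  obtain ⟨k, hk⟩ := hquot (QuotientGroup.mk c : M ⧸ N)
  have hcop : Nat.Coprime j (p ^ k) := hjp.pow_right k
  have hbez := Nat.gcd_eq_gcd_ab j (p ^ k)
  rw [hcop.gcd_eq_one] at hbez
  have hc1 : (QuotientGroup.mk c : M ⧸ N) = (QuotientGroup.mk cs) ^ (Nat.gcdA j (p ^ k)) := by
    have h1 : (QuotientGroup.mk c : M ⧸ N) = (QuotientGroup.mk c) ^ ((1 : ℕ) : ℤ) := by simp
    rw [h1, hbez, zpow_add, zpow_mul, zpow_mul, zpow_natCast, zpow_natCast, hk, one_zpow, mul_one,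
      hmk]
  -- conclude
  refine ⟨n * (c * (cs ^ (Nat.gcdA j (p ^ k)))⁻¹), ?_, cs ^ (Nat.gcdA j (p ^ k)), ?_, ?_⟩
  · refine N.mul_mem hn ?_
    have h2 : (QuotientGroup.mk (cs ^ (Nat.gcdA j (p ^ k))) : M ⧸ N) = QuotientGroup.mk c := by
      rw [hc1, QuotientGroup.mk_zpow]
    rw [QuotientGroup.eq] at h2
    have h3 : c * (cs ^ (Nat.gcdA j (p ^ k)))⁻¹ = (cs ^ (Nat.gcdA j (p ^ k)))⁻¹ * c := mul_comm _ _
    rw [h3]; exact h2
  · intro l
    rw [smul_zpow', hfix l]
  · rw [hm]
    simp [mul_assoc]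

end Cfsg.Agent.S1940
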