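import Cfsg.Statements.S1941
import Mathlib
import Cfsg.Agent.Lib.Helper20.Bender
import Cfsg.Agent.Lib.Helper16.PCore

set_option autoImplicit false
open Cfsg

namespace Cfsg.Agent.S1941

open Cfsg.Agent.Lib.Helper20 Cfsg.Agent.Lib.Helper16

section avg
open scoped IsMulCommutative

/-- Averaging lemma (restriction to a subgroup of coprime index is injective on `H¹`). -/
lemma averaging {G : Type*} [Group G] [Finite G] (Z T : Subgroup G) [hZn : Z.Normal]
    (hZc : ∀ a ∈ Z, ∀ b ∈ Z, a * b = b * a)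
    (hcop : (Nat.card Z).Coprime T.index)
    (c : G → G) (hcZ : ∀ g, c g ∈ Z)
    (hmul : ∀ h g, c (h * g) = c h * (h * c g * h⁻¹))
    (hT : ∀ g, ∀ t ∈ T, c (g * t) = c g) :
    ∃ z ∈ Z, ∀ h : G, c h = z * h * z⁻¹ * h⁻¹ := by
  classical
  haveI : IsMulCommutative ↥Z := ⟨⟨fun a b => Subtype.ext (hZc a a.2 b b.2)⟩⟩
  haveI : Fintype (G ⧸ T) := Fintype.ofFinite _
  let cZ : G → ↥Z := fun g => ⟨c g, hcZ g⟩
  let conjZ : G → (↥Z →* ↥Z) := fun h =>
    { toFun := fun z => ⟨h * z * h⁻¹, hZn.conj_mem z z.2 h⟩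
      map_one' := by apply Subtype.ext; simp
      map_mul' := by intro a b; apply Subtype.ext; simp }
  let W : ↥Z := ∏ q : G ⧸ T, cZ q.out
  have h1 : ∀ h : G, W = cZ h ^ (Fintype.card (G ⧸ T)) * conjZ h W := by
    intro h
    have e1 : ∏ q : G ⧸ T, cZ (h * q.out) = cZ h ^ (Fintype.card (G ⧸ T)) * conjZ h W := by
      have hq : ∀ q : G ⧸ T, cZ (h * q.out) = cZ h * conjZ h (cZ q.out) := by
        intro q; apply Subtype.ext; exact hmul h q.out
      simp only [hq]
      rw [Finset.prod_mul_distrib, Finset.prod_const, Finset.card_univ, map_prod]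
    have e2 : ∏ q : G ⧸ T, cZ (h * q.out) = W := by
      have hq : ∀ q : G ⧸ T, cZ (h * q.out) = cZ ((h • q).out) := by
        intro q
        have hq' : h • q = (QuotientGroup.mk (h * q.out) : G ⧸ T) := by
          conv_lhs => rw [← QuotientGroup.out_eq' q]
          rfl
        obtain ⟨t, ht⟩ := QuotientGroup.mk_out_eq_mul T (h * q.out)
        apply Subtype.ext
        show c (h * q.out) = c ((h • q).out)
        rw [hq', ht, hT _ t t.2]
      simp only [hq]
      exact Equiv.prod_comp (MulAction.toPerm h) (fun q : G ⧸ T => cZ q.out)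
    exact e2.symm.trans e1
  have hcop' : (Nat.card ↥Z).Coprime (Fintype.card (G ⧸ T)) := by
    rw [← Nat.card_eq_fintype_card, ← Subgroup.index_eq_card]; exact hcop
  obtain ⟨z, hzn⟩ : ∃ z : ↥Z, z ^ (Fintype.card (G ⧸ T)) = W :=
    ⟨(powCoprime hcop').symm W, (powCoprime hcop').apply_symm_apply W⟩
  have key : ∀ h : G, cZ h = z * (conjZ h z)⁻¹ := by
    intro h
    apply hcop'.pow_left_bijective.injective
    show cZ h ^ (Fintype.card (G ⧸ T)) = (z * (conjZ h z)⁻¹) ^ (Fintype.card (G ⧸ T))
    rw [mul_pow, inv_pow, ← map_pow, hzn]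
    exact eq_mul_inv_of_mul_eq (h1 h).symm
  refine ⟨z, z.2, fun h => ?_⟩
  have := congrArg Subtype.val (key h)
  have h2 : c h = (z : G) * (h * (z : G) * h⁻¹)⁻¹ := this
  rw [h2]; group

end avg

open scoped IsMulCommutative in
lemma isNilpotent_of_comm (K : Type*) [Group K] [IsMulCommutative K] : Group.IsNilpotent K :=
  inferInstance

end Cfsg.Agent.S1941

namespace Cfsg.Agent.S1941

open Cfsg.Agent.Lib.Helper20 Cfsg.Agent.Lib.Helper16

/-- Let G be a finite group with no nontrivial normal subgroup of order prime to p, T a Sylow p-subgroup of G and E(G) the layer of G (the subgroup generated by its components). An automorphism of G of p-power order that fixes T and E(G) elementwise is inner. -/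
theorem result {G : Type*} [Group G] [Finite G] {p : ℕ} [Fact p.Prime] (hcore : Cfsg.pPrimeCore p G = ⊥)
    (T : Sylow p G) (α : MulAut G) (hα : ∃ j : ℕ, orderOf α = p ^ j) (hfixT : ∀ x ∈ (T : Subgroup G), α x = x)
    (hfixE : ∀ x ∈ Cfsg.layer G, α x = x) : ∃ g : G, ∀ x : G, α x = g * x * g⁻¹ := by
  set Fs := Cfsg.generalizedFittingSubgroup G with hFs
  have hFn : (fittingSubgroup G).Normal := fittingSubgroup_normal'
  have hFsn : Fs.Normal := by rw [hFs]; unfold Cfsg.generalizedFittingSubgroup; infer_instance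
  have hZn : (Subgroup.centralizer (Fs : Set G)).Normal := by infer_instance
  have hZle : Subgroup.centralizer (Fs : Set G) ≤ Fs := centralizer_genFitting_le
  have hFit : fittingSubgroup G = pCore p G := fitting_eq_pCore_of_pPrimeCore_eq_bot p hcore
  -- α fixes F*(G)
  have hfixFs : ∀ x ∈ Fs, α x = x := by
    have hle : Fs ≤ α.toMonoidHom.eqLocus (MonoidHom.id G) := by
      rw [hFs]; unfold Cfsg.generalizedFittingSubgroup
      apply sup_le
      · intro x hx; exact hfixE x hx
      · intro x hx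
        rw [hFit] at hx
        exact hfixT x (pCore_le_sylow T hx)
    intro x hx; exact hle hx
  -- Z is abelian
  have hZc : ∀ a ∈ Subgroup.centralizer (Fs : Set G), ∀ b ∈ Subgroup.centralizer (Fs : Set G),
      a * b = b * a := by
    intro a ha b hb
    exact ((Subgroup.mem_centralizer_iff.mp ha) b (hZle hb)).symm
  -- Z is a p-group
  have hZp : IsPGroup p (Subgroup.centralizer (Fs : Set G)) := by
    have hnil : Group.IsNilpotent (Subgroup.centralizer (Fs : Set G)) := by
      haveI : IsMulCommutative ↥(Subgroup.centralizer (Fs : Set G)) :=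
        ⟨⟨fun a b => Subtype.ext (hZc a a.2 b b.2)⟩⟩
      exact isNilpotent_of_comm _
    have hle : Subgroup.centralizer (Fs : Set G) ≤ pCore p G := by
      rw [← hFit]; exact le_fittingSubgroup' hZn hnil
    exact (pCore_isPGroup p G).to_le hle
  have hcop : (Nat.card (Subgroup.centralizer (Fs : Set G))).Coprime (T : Subgroup G).index := by
    obtain ⟨k, hk⟩ := IsPGroup.iff_card.mp hZp
    rw [hk]
    apply Nat.Coprime.pow_left
    exact (Nat.Prime.coprime_iff_not_dvd Fact.out).mpr T.not_dvd_index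
  -- the cocycle
  have hcZ : ∀ g : G, α g * g⁻¹ ∈ Subgroup.centralizer (Fs : Set G) := by
    intro g
    rw [Subgroup.mem_centralizer_iff]
    intro f hf
    have h1 : g⁻¹ * f * g ∈ Fs := by
      have := hFsn.conj_mem f hf g⁻¹
      simpa using this
    have h2 : α (g⁻¹ * f * g) = g⁻¹ * f * g := hfixFs _ h1
    rw [map_mul, map_mul, map_inv, hfixFs f hf] at h2
    -- h2 : (α g)⁻¹ * f * α g = g⁻¹ * f * g
    calc f * (α g * g⁻¹) = α g * ((α g)⁻¹ * f * α g) * g⁻¹ := by group
      _ = α g * (g⁻¹ * f * g) * g⁻¹ := by rw [h2]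
      _ = α g * g⁻¹ * f := by group
  obtain ⟨z, _, hz⟩ := averaging (Subgroup.centralizer (Fs : Set G)) (T : Subgroup G) hZc hcop
    (fun g => α g * g⁻¹) hcZ
    (by intro h g; simp only [map_mul]; group)
    (by intro g t ht; simp only [map_mul, hfixT t ht]; group)
  refine ⟨z, fun x => ?_⟩
  have := hz x
  calc α x = (α x * x⁻¹) * x := by group
    _ = (z * x * z⁻¹ * x⁻¹) * x := by rw [this]
    _ = z * x * z⁻¹ := by group

end Cfsg.Agent.S1941
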