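import Mathlib
import Cfsg.Statements.S1944
import Cfsg.Agent.Lib.Helper2.Cores
import Cfsg.Agent.Lib.Helper20.PConstrainedFusion
import Cfsg.Agent.Lib.Helper1.AlperinGoldschmidt
-- import your own Cfsg.Agent.* helpers here

set_option autoImplicit false
open Cfsg

namespace Cfsg.Agent.S1944

open Cfsg.Agent.Lib
open scoped Pointwise

theorem exists_trace {H : Type*} [Group H] [Finite H] (A S : Subgroup H) [hA : A.Normal]
    (hab : ∀ a ∈ A, ∀ b ∈ A, a * b = b * a) :
    ∃ Tr : ↥A →* ↥A,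
      (∀ a : ↥A, (∀ s ∈ S, s * (a : H) = (a : H) * s) →
        ∀ h : H, h * ((Tr a : ↥A) : H) * h⁻¹ = ((Tr a : ↥A) : H)) ∧
      (∀ a : ↥A, (∀ h : H, h * (a : H) * h⁻¹ = (a : H)) → Tr a = a ^ S.index) := by
  classical
  let _i1 : CommGroup ↥A :=
    { (inferInstance : Group ↥A) with mul_comm := fun a b => Subtype.ext (hab a a.2 b b.2) }
  have _i2 : Fintype (H ⧸ S) := Fintype.ofFinite _
  let c : H → ↥A →* ↥A := fun h => (MulAut.conjNormal h : MulAut ↥A).toMonoidHom
  have hc : ∀ (h : H) (a : ↥A), ((c h a : ↥A) : H) = h * (a : H) * h⁻¹ := fun h a => rfl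
  have hcmul : ∀ (h g : H) (a : ↥A), c (h * g) a = c h (c g a) := by
    intro h g a
    apply Subtype.ext
    rw [hc, hc, hc]
    group
  let Tr : ↥A →* ↥A := ∏ q : H ⧸ S, c (Quotient.out q)
  have hTr : ∀ a, Tr a = ∏ q : H ⧸ S, c (Quotient.out q) a :=
    fun a => MonoidHom.finsetProd_apply _ _ _
  refine ⟨Tr, ?_, ?_⟩
  · intro a ha h
    rw [← hc h (Tr a)]
    congr 1
    rw [hTr, map_prod]
    have h1 : ∀ q : H ⧸ S, c h (c (Quotient.out q) a) = c (Quotient.out (h • q)) a := by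
      intro q
      rw [← hcmul]
      obtain ⟨s, hs⟩ := QuotientGroup.mk_out_eq_mul S (h * Quotient.out q)
      have h2 : (QuotientGroup.mk (h * Quotient.out q) : H ⧸ S) = h • q := by
        conv_rhs => rw [← QuotientGroup.out_eq' q]
        rfl
      rw [h2] at hs
      rw [hs]
      have h3 : c (s : H) a = a := by
        apply Subtype.ext
        rw [hc, ha s s.2]
        group
      rw [hcmul (h * Quotient.out q) (s : H) a, h3]
    rw [Finset.prod_congr rfl (fun q _ => h1 q)]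
    exact Fintype.prod_equiv (MulAction.toPerm h) _ _ (fun q => rfl)
  · intro a ha
    rw [hTr]
    have h1 : ∀ q : H ⧸ S, c (Quotient.out q) a = a := by
      intro q
      apply Subtype.ext
      rw [hc]
      exact ha _
    rw [Finset.prod_congr rfl (fun q _ => h1 q), Finset.prod_const, Finset.card_univ,
      Subgroup.index_eq_card, Nat.card_eq_fintype_card]


/-- Let S be a Sylow p-subgroup of the finite group G and suppose that the centre Z(S) lies in O_{p',p}(G). The elements of S each of which is its only G-conjugate in S form a subgroup W of Z(S); W is then a direct factor of Z(S): there is a subgroup K of Z(S) with W ∩ K = 1 and WK = Z(S). -/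
theorem result {G : Type*} [Group G] [Finite G] {p : ℕ} [Fact p.Prime] (S : Sylow p G)
    (hZ : ((S : Subgroup G) ⊓ Subgroup.centralizer ((S : Subgroup G) : Set G)) ≤ Cfsg.pPrimePCore p G) :
    ∃ W K : Subgroup G, (∀ x : G, x ∈ W ↔ (x ∈ (S : Subgroup G) ∧ ∀ g : G, g * x * g⁻¹ ∈ (S : Subgroup G) → g * x * g⁻¹ = x)) ∧
      K ≤ ((S : Subgroup G) ⊓ Subgroup.centralizer ((S : Subgroup G) : Set G)) ∧ W ⊓ K = ⊥ ∧ W ⊔ K = ((S : Subgroup G) ⊓ Subgroup.centralizer ((S : Subgroup G) : Set G)) := by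
  have hp : p.Prime := Fact.out
  have hNn : (pPrimeCore p G).Normal := Helper2.pPrimeCore_normal p
  have hπs : Function.Surjective (QuotientGroup.mk' (pPrimeCore p G)) :=
    QuotientGroup.mk'_surjective _
  set Z := (S : Subgroup G) ⊓ Subgroup.centralizer ((S : Subgroup G) : Set G) with hZdef
  have hSN : (S : Subgroup G) ⊓ pPrimeCore p G = ⊥ := Helper20.sylow_inf_pPrimeCore_eq_bot S
  have hinj : ∀ a ∈ (S : Subgroup G), ∀ b ∈ (S : Subgroup G),
      QuotientGroup.mk' (pPrimeCore p G) a = QuotientGroup.mk' (pPrimeCore p G) b → a = b := by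
    intro a ha b hb hab
    have h1 : a⁻¹ * b ∈ pPrimeCore p G := QuotientGroup.eq.1 hab
    have h2 : a⁻¹ * b ∈ (S : Subgroup G) ⊓ pPrimeCore p G :=
      ⟨(S : Subgroup G).mul_mem (inv_mem ha) hb, h1⟩
    rw [hSN, Subgroup.mem_bot] at h2
    exact (inv_mul_eq_one.1 h2)
  have hPbn : (pCore p (G ⧸ pPrimeCore p G)).Normal := Helper2.pCore_normal p
  have hPbSb : pCore p (G ⧸ pPrimeCore p G) ≤ (S : Subgroup G).map (QuotientGroup.mk' (pPrimeCore p G)) :=
    Helper2.pCore_le_sylow p (S.mapSurjective hπs)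
  have hAn : (pCore p (G ⧸ pPrimeCore p G) ⊓
      Subgroup.centralizer ((pCore p (G ⧸ pPrimeCore p G) : Subgroup _) : Set (G ⧸ pPrimeCore p G))).Normal :=
    Subgroup.normal_inf_normal _ _
  have hab : ∀ a ∈ (pCore p (G ⧸ pPrimeCore p G) ⊓
      Subgroup.centralizer ((pCore p (G ⧸ pPrimeCore p G) : Subgroup _) : Set (G ⧸ pPrimeCore p G))),
      ∀ b ∈ (pCore p (G ⧸ pPrimeCore p G) ⊓
      Subgroup.centralizer ((pCore p (G ⧸ pPrimeCore p G) : Subgroup _) : Set (G ⧸ pPrimeCore p G))),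
      a * b = b * a := fun a ha b hb => Subgroup.mem_centralizer_iff.1 hb.2 a ha.1
  obtain ⟨Tr, hTr1, hTr2⟩ := exists_trace _ ((S : Subgroup G).map (QuotientGroup.mk' (pPrimeCore p G))) hab
  have hZA : ∀ z ∈ Z, QuotientGroup.mk' (pPrimeCore p G) z ∈ (pCore p (G ⧸ pPrimeCore p G) ⊓
      Subgroup.centralizer ((pCore p (G ⧸ pPrimeCore p G) : Subgroup _) : Set (G ⧸ pPrimeCore p G))) := by
    intro z hz
    refine ⟨hZ hz, ?_⟩
    refine Subgroup.mem_centralizer_iff.2 ?_
    intro x hx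
    obtain ⟨s, hs, rfl⟩ := hPbSb hx
    rw [← map_mul, ← map_mul, Subgroup.mem_centralizer_iff.1 (Subgroup.mem_inf.1 hz).2 s hs]
  let ρ : ↥Z →* ↥(pCore p (G ⧸ pPrimeCore p G) ⊓
      Subgroup.centralizer ((pCore p (G ⧸ pPrimeCore p G) : Subgroup _) : Set (G ⧸ pPrimeCore p G))) :=
    ((QuotientGroup.mk' (pPrimeCore p G)).comp Z.subtype).codRestrict _ (fun z => hZA z z.2)
  have hρ : ∀ z : ↥Z, ((ρ z).1 : G ⧸ pPrimeCore p G) = QuotientGroup.mk' (pPrimeCore p G) (z : G) :=
    fun z => rfl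
  let W : Subgroup G := Z ⊓ (Subgroup.center (G ⧸ pPrimeCore p G)).comap (QuotientGroup.mk' (pPrimeCore p G))
  have hWZ : ∀ x ∈ W, x ∈ Z := fun x hx => (Subgroup.mem_inf.1 hx).1
  have hWS : ∀ x ∈ W, x ∈ (S : Subgroup G) := fun x hx => (Subgroup.mem_inf.1 (hWZ x hx)).1
  have hWc : ∀ x ∈ W, QuotientGroup.mk' (pPrimeCore p G) x ∈ Subgroup.center (G ⧸ pPrimeCore p G) :=
    fun x hx => (Subgroup.mem_inf.1 hx).2
  have hcen : ∀ x ∈ W, ∀ g : G, QuotientGroup.mk' (pPrimeCore p G) (g * x * g⁻¹)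
      = QuotientGroup.mk' (pPrimeCore p G) x := by
    intro x hx g
    have h1 := Subgroup.mem_center_iff.1 (hWc x hx) (QuotientGroup.mk' (pPrimeCore p G) g)
    rw [map_mul, map_mul, map_inv, h1, mul_inv_cancel_right]
  have hWmem : ∀ s ∈ (S : Subgroup G),
      (∀ g : G, QuotientGroup.mk' (pPrimeCore p G) (g * s * g⁻¹) = QuotientGroup.mk' (pPrimeCore p G) s) →
      s ∈ W := by
    intro s hs hc
    refine Subgroup.mem_inf.2 ⟨Subgroup.mem_inf.2 ⟨hs, ?_⟩, ?_⟩
    · refine Subgroup.mem_centralizer_iff.2 ?_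
      intro s' hs'
      have h1 := hc s'
      have h2 := hinj _ ((S : Subgroup G).mul_mem ((S : Subgroup G).mul_mem hs' hs) (inv_mem hs')) _ hs h1
      rw [mul_inv_eq_iff_eq_mul] at h2
      exact h2
    · refine Subgroup.mem_comap.2 (Subgroup.mem_center_iff.2 ?_)
      intro gb
      obtain ⟨g, rfl⟩ := hπs gb
      have h1 := hc g
      rw [map_mul, map_mul, map_inv, mul_inv_eq_iff_eq_mul] at h1
      exact h1
  have hW : ∀ x : G, x ∈ W ↔ (x ∈ (S : Subgroup G) ∧
      ∀ g : G, g * x * g⁻¹ ∈ (S : Subgroup G) → g * x * g⁻¹ = x) := by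
    intro x
    constructor
    · intro hx
      refine ⟨hWS x hx, fun g hg => hinj _ hg _ (hWS x hx) (hcen x hx g)⟩
    · rintro ⟨hxS, hwc⟩
      have hxC : x ∈ Subgroup.centralizer ((S : Subgroup G) : Set G) := by
        refine Subgroup.mem_centralizer_iff.2 ?_
        intro s hs
        have := hwc s ((S : Subgroup G).mul_mem ((S : Subgroup G).mul_mem hs hxS) (inv_mem hs))
        rw [mul_inv_eq_iff_eq_mul] at this
        exact this
      have hxZ : x ∈ Z := Subgroup.mem_inf.2 ⟨hxS, hxC⟩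
      apply hWmem x hxS
      intro g
      set y := g * x * g⁻¹ with hy
      have hyPb : QuotientGroup.mk' (pPrimeCore p G) y ∈ pCore p (G ⧸ pPrimeCore p G) := by
        rw [hy, map_mul, map_mul, map_inv]
        exact hPbn.conj_mem _ (hZ hxZ) _
      obtain ⟨s, hs, hsy⟩ := hPbSb hyPb
      have hyH : y ∈ (S : Subgroup G) ⊔ pPrimeCore p G := by
        have h1 : s⁻¹ * y ∈ pPrimeCore p G := QuotientGroup.eq.1 hsy
        have h2 : y = s * (s⁻¹ * y) := by group
        rw [h2]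
        exact Subgroup.mul_mem _ (Subgroup.mem_sup_left hs) (Subgroup.mem_sup_right h1)
      have hsyl : Lib.Helper29.IsSylowSub p (S : Subgroup G) ((S : Subgroup G) ⊔ pPrimeCore p G) :=
        Lib.Helper1.isSylowSub_of_not_dvd_relIndex le_sup_left S.isPGroup'
          (fun h => S.not_dvd_index (h.trans (Subgroup.relIndex_dvd_index_of_le le_sup_left)))
      have hyp : IsPGroup p (Subgroup.zpowers y) := by
        have h1 : IsPGroup p (Subgroup.zpowers x) :=
          S.isPGroup'.to_le (Subgroup.zpowers_le.2 hxS)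
        have h2 : Subgroup.zpowers y = (Subgroup.zpowers x).map (MulAut.conj g).toMonoidHom := by
          rw [MonoidHom.map_zpowers]; rfl
        rw [h2]
        exact h1.map _
      obtain ⟨m, hm, hmQ⟩ := Lib.Helper29.exists_cj_le_of_isSylowSub hsyl
        (Subgroup.zpowers_le.2 hyH) hyp
      have hmy : m * y * m⁻¹ ∈ (S : Subgroup G) := by
        apply hmQ
        rw [Lib.Helper29.mem_cj]
        have : m⁻¹ * (m * y * m⁻¹) * m = y := by group
        rw [this]
        exact Subgroup.mem_zpowers y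
      have h3 : m * y * m⁻¹ = (m * g) * x * (m * g)⁻¹ := by rw [hy]; group
      rw [h3] at hmy
      have h4 := hwc _ hmy
      have h5 : y = m⁻¹ * x * m := by
        rw [hy]
        have : g * x * g⁻¹ = m⁻¹ * ((m * g) * x * (m * g)⁻¹) * m := by group
        rw [this, h4]
      have hm' : m ∈ ((S : Subgroup G) : Set G) * ((pPrimeCore p G : Subgroup G) : Set G) := by
        rw [← Subgroup.mul_normal]; exact hm
      obtain ⟨s₁, hs₁, n₁, hn₁, hmn⟩ := Set.mem_mul.1 hm'
      have h6 : QuotientGroup.mk' (pPrimeCore p G) m = QuotientGroup.mk' (pPrimeCore p G) s₁ := by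
        have hn1 : QuotientGroup.mk' (pPrimeCore p G) n₁ = 1 := (QuotientGroup.eq_one_iff n₁).2 hn₁
        rw [← hmn, map_mul, hn1, mul_one]
      rw [h5, map_mul, map_mul, map_inv, h6, ← map_inv, ← map_mul, ← map_mul]
      congr 1
      have := Subgroup.mem_centralizer_iff.1 hxC s₁ hs₁
      rw [mul_assoc, ← this, inv_mul_cancel_left]
  let T : ↥Z →* ↥(pCore p (G ⧸ pPrimeCore p G) ⊓
      Subgroup.centralizer ((pCore p (G ⧸ pPrimeCore p G) : Subgroup _) : Set (G ⧸ pPrimeCore p G))) :=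
    Tr.comp ρ
  have hidx : ¬ p ∣ ((S : Subgroup G).map (QuotientGroup.mk' (pPrimeCore p G))).index :=
    fun h => S.not_dvd_index (h.trans (Subgroup.index_map_dvd _ hπs))
  -- for `z ∈ W`, `T z = (ρ z) ^ m`
  have hTW : ∀ z : ↥Z, (z : G) ∈ W → T z = (ρ z) ^
      ((S : Subgroup G).map (QuotientGroup.mk' (pPrimeCore p G))).index := by
    intro z hz
    apply hTr2
    intro h
    obtain ⟨g, rfl⟩ := hπs h
    rw [hρ, ← map_inv, ← map_mul, ← map_mul]
    exact hcen _ hz g
  refine ⟨W, T.ker.map Z.subtype, hW, Subgroup.map_subtype_le _, ?_, ?_⟩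
  · rw [Subgroup.eq_bot_iff_forall]
    rintro x ⟨hxW, z, hzK, rfl⟩
    have h1 : T z = 1 := hzK
    rw [hTW z hxW] at h1
    obtain ⟨k, hk⟩ := S.isPGroup' ⟨(z : G), (Subgroup.mem_inf.1 z.2).1⟩
    have h2 : (ρ z) ^ (p ^ k) = 1 := by
      apply Subtype.ext
      rw [Subgroup.coe_pow, hρ, ← map_pow]
      have : ((z : G)) ^ (p ^ k) = 1 := by simpa using congrArg Subtype.val hk
      rw [this, map_one]; rfl
    have h3 : orderOf (ρ z) ∣ Nat.gcd (((S : Subgroup G).map (QuotientGroup.mk' (pPrimeCore p G))).index) (p ^ k) :=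
      Nat.dvd_gcd (orderOf_dvd_of_pow_eq_one h1) (orderOf_dvd_of_pow_eq_one h2)
    have h4 : Nat.gcd (((S : Subgroup G).map (QuotientGroup.mk' (pPrimeCore p G))).index) (p ^ k) = 1 :=
      Nat.Coprime.pow_right k ((Nat.Prime.coprime_iff_not_dvd hp).2 hidx).symm
    rw [h4, Nat.dvd_one, orderOf_eq_one_iff] at h3
    have h5 : QuotientGroup.mk' (pPrimeCore p G) (z : G) = 1 := by
      rw [← hρ, h3]; rfl
    have h6 : (z : G) ∈ (S : Subgroup G) ⊓ pPrimeCore p G :=
      Subgroup.mem_inf.2 ⟨(Subgroup.mem_inf.1 z.2).1, (QuotientGroup.eq_one_iff _).1 h5⟩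
    rw [hSN, Subgroup.mem_bot] at h6
    exact h6
  · apply le_antisymm
    · exact sup_le inf_le_left (Subgroup.map_subtype_le _)
    · intro z hz
      set t := T ⟨z, hz⟩ with ht
      have htfix : ∀ h : G ⧸ pPrimeCore p G, h * (t : G ⧸ pPrimeCore p G) * h⁻¹ = (t : G ⧸ pPrimeCore p G) := by
        apply hTr1
        rintro _ ⟨s, hs, rfl⟩
        rw [hρ, ← map_mul, ← map_mul]
        congr 1
        exact Subgroup.mem_centralizer_iff.1 (Subgroup.mem_inf.1 hz).2 s hs
      obtain ⟨s, hs, hst⟩ := hPbSb (Subgroup.mem_inf.1 t.2).1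
      have hsW : s ∈ W := by
        apply hWmem s hs
        intro g
        rw [map_mul, map_mul, map_inv, hst]
        exact htfix _
      obtain ⟨k, hk⟩ := S.isPGroup' ⟨s, hs⟩
      have hos : orderOf s ∣ p ^ k := by
        apply orderOf_dvd_of_pow_eq_one
        simpa using congrArg Subtype.val hk
      have hcop : (((S : Subgroup G).map (QuotientGroup.mk' (pPrimeCore p G))).index).Coprime (orderOf s) :=
        Nat.Coprime.coprime_dvd_right hos
          (Nat.Coprime.pow_right k ((Nat.Prime.coprime_iff_not_dvd hp).2 hidx).symm)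
      obtain ⟨u, hu⟩ := exists_pow_eq_self_of_coprime hcop
      have hwW : s ^ u ∈ W := W.pow_mem hsW u
      have hTw : T ⟨s ^ u, hWZ _ hwW⟩ = t := by
        rw [hTW _ hwW]
        apply Subtype.ext
        rw [Subgroup.coe_pow, hρ]
        show (QuotientGroup.mk' (pPrimeCore p G) (s ^ u)) ^ _ = _
        rw [← map_pow, ← pow_mul, mul_comm, pow_mul, hu, hst]
      have hk' : z * (s ^ u)⁻¹ ∈ T.ker.map Z.subtype := by
        refine ⟨⟨z, hz⟩ * (⟨s ^ u, hWZ _ hwW⟩ : ↥Z)⁻¹, ?_, rfl⟩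
        refine MonoidHom.mem_ker.2 ?_
        rw [map_mul, map_inv, hTw, ← ht, mul_inv_cancel]
      have : z = (s ^ u) * (z * (s ^ u)⁻¹) := by
        have hcomm : s ^ u * z = z * s ^ u := Subgroup.mem_centralizer_iff.1 (Subgroup.mem_inf.1 hz).2 _ (hWS _ hwW)
        rw [← mul_assoc, hcomm, mul_inv_cancel_right]
      rw [this]
      exact Subgroup.mul_mem _ (Subgroup.mem_sup_left hwW) (Subgroup.mem_sup_right hk')

end Cfsg.Agent.S1944
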