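import Cfsg.Statements.S1947
import Cfsg.Agent.Lib.Helper24.OmegaTwo
import Cfsg.Agent.Lib.Helper11.FrobeniusLocal
import Cfsg.Agent.Lib.Helper1.OmegaOne

set_option autoImplicit false
open Cfsg

namespace Cfsg.Agent.S1947

/-- Let G be a finite group and p a prime. If every element of G of order dividing p (dividing 4 when p = 2) lies in some fixed term Z_n(G) of the upper central series, then G has a normal p-complement. -/
theorem result {G : Type*} [Group G] [Finite G] {p : ℕ} [Fact p.Prime] (n : ℕ)
    (h : ∀ a : G, (a ^ p = 1 ∨ (p = 2 ∧ a ^ 4 = 1)) → a ∈ Subgroup.upperCentralSeries G n) : Cfsg.HasNormalPComplement p G := by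
  classical
  have hp : p.Prime := Fact.out
  have hloc : Cfsg.Agent.Lib.Helper11.LocalPNilpotent p G := by
    intro D hD g hg hcop
    have hnorm : ∀ x ∈ D, g * x * g⁻¹ ∈ D := fun x hx => (Subgroup.mem_normalizer_iff.1 hg x).1 hx
    -- orders in `D`
    have hord : ∀ x ∈ D, ∃ j : ℕ, orderOf x = p ^ j := by
      intro x hx
      obtain ⟨j, hj⟩ := (IsPGroup.iff_orderOf.1 hD) ⟨x, hx⟩
      exact ⟨j, by rw [← hj]; exact (Subgroup.orderOf_mk x hx).symm⟩
    have hcopx : ∀ x ∈ D, Nat.Coprime (orderOf g) (orderOf x) := by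
      intro x hx
      obtain ⟨j, hj⟩ := hord x hx
      rw [hj]
      exact Nat.Coprime.pow_right j hcop
    -- `g` centralizes `D ⊓ Z_i(G)`
    have hZ : ∀ i : ℕ, ∀ a ∈ D, a ∈ Subgroup.upperCentralSeries G i → g * a * g⁻¹ = a := by
      intro i
      induction i with
      | zero =>
        intro a _ ha
        rw [Subgroup.upperCentralSeries_zero, Subgroup.mem_bot] at ha
        rw [ha]; group
      | succ i ih =>
        intro a haD ha
        have hainv : a⁻¹ ∈ Subgroup.upperCentralSeries G (i + 1) := Subgroup.inv_mem _ ha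
        have hc : a⁻¹ * (g * a * g⁻¹) ∈ Subgroup.upperCentralSeries G i := by
          have := Subgroup.mem_upperCentralSeries_succ_iff.1 hainv g
          rw [commutatorElement_def, inv_inv] at this
          have e : a⁻¹ * (g * a * g⁻¹) = a⁻¹ * g * a * g⁻¹ := by group
          rw [e]; exact this
        have hcD : a⁻¹ * (g * a * g⁻¹) ∈ D := D.mul_mem (D.inv_mem haD) (hnorm a haD)
        have hgc := ih _ hcD hc
        have hxu : g * a * g⁻¹ = a * (a⁻¹ * (g * a * g⁻¹)) := by group
        have hc1 := Cfsg.Agent.Lib.Helper24.eq_one_of_coprime_stab hxu hgc (hcopx _ hcD)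
        rw [hxu, hc1, mul_one]
    have hsmall : ∀ a ∈ D, (a ^ p = 1 ∨ (p = 2 ∧ a ^ 4 = 1)) → g * a * g⁻¹ = a :=
      fun a haD hsm => hZ n a haD (h a hsm)
    rw [Subgroup.mem_centralizer_iff]
    have hcent : ∀ x ∈ D, g * x * g⁻¹ = x := by
      by_cases hp2 : p = 2
      · subst hp2
        have hodd : Odd (orderOf g) := Nat.coprime_two_right.1 hcop
        exact Cfsg.Agent.Lib.Helper24.odd_centralizes_of_omega_two hodd _ D rfl hD hnorm
          (fun x hx hx4 => hsmall x hx (Or.inr ⟨rfl, hx4⟩))
      · -- odd `p`: helper1's lemma with `A = ⟨g⟩`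
        have hAcop : (Nat.card (Subgroup.zpowers g)).Coprime p := by
          rw [Nat.card_zpowers]; exact hcop
        have hAN : Subgroup.zpowers g ≤ Subgroup.normalizer (D : Set G) := by
          rw [Subgroup.zpowers_le]; exact hg
        have hAfix : ∀ x ∈ D, x ^ p = 1 →
            Subgroup.zpowers g ≤ Subgroup.centralizer ({x} : Set G) := by
          intro x hx hxp
          rw [Subgroup.zpowers_le, Subgroup.mem_centralizer_iff]
          intro y hy
          rw [Set.mem_singleton_iff] at hy
          rw [hy]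
          have := hsmall x hx (Or.inl hxp)
          calc x * g = (g * x * g⁻¹) * g := by rw [this]
            _ = g * x := by group
        have hres := Cfsg.Agent.Lib.Helper1.centralizes_of_centralizes_omega_one p hp2
          (Subgroup.zpowers g) hAcop _ D rfl hD hAN hAfix
        have hgC : g ∈ Subgroup.centralizer (D : Set G) := hres (Subgroup.mem_zpowers g)
        intro x hx
        have := Subgroup.mem_centralizer_iff.1 hgC x hx
        rw [← this]; group
    intro x hx
    have := hcent x hx
    calc x * g = (g * x * g⁻¹) * g := by rw [this]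
      _ = g * x := by group
  obtain ⟨P⟩ : Nonempty (Sylow p G) := inferInstance
  obtain ⟨K, hKn, hK⟩ := Cfsg.Agent.Lib.Helper11.exists_normal_complement_of_local hloc P
  exact ⟨P, K, hKn, hK⟩

end Cfsg.Agent.S1947
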