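import Cfsg.Statements.S1949
import Mathlib
import Cfsg.Agent.Lib.Helper25.ConjSmallFix
import Cfsg.Agent.Lib.Helper2.NilpotentBasic

set_option autoImplicit false
open Cfsg

namespace Cfsg.Agent.S1949

open Cfsg.Agent.Lib.Helper25
open scoped commutatorElement

/-- a nontrivial normal section `X / W` of a finite `p`-group contains a central element of order `p` -/
theorem exists_central_mod {P : Type*} [Group P] [Finite P] {p : ℕ} [Fact p.Prime] (hP : IsPGroup p P)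
    (W X : Subgroup P) [hW : W.Normal] [hX : X.Normal] (hWX : W ≤ X) (hne : W ≠ X) :
    ∃ y ∈ X, y ∉ W ∧ y ^ p ∈ W ∧ ∀ g : P, g * y * g⁻¹ * y⁻¹ ∈ W := by
  have hp : p.Prime := Fact.out
  obtain ⟨Xb, hXbdef⟩ : ∃ Xb : Subgroup (P ⧸ W), Xb = X.map (QuotientGroup.mk' W) := ⟨_, rfl⟩
  haveI hXbn : Xb.Normal := by
    rw [hXbdef]
    exact Subgroup.Normal.map hX _ (QuotientGroup.mk'_surjective W)
  have hXbne : Xb ≠ ⊥ := by
    intro h
    apply hne
    apply le_antisymm hWX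
    intro x hx
    have h1 : QuotientGroup.mk' W x ∈ Xb := by
      rw [hXbdef]
      exact Subgroup.mem_map_of_mem _ hx
    rw [h, Subgroup.mem_bot] at h1
    exact (QuotientGroup.eq_one_iff x).1 h1
  have hQ : IsPGroup p (P ⧸ W) := hP.to_quotient W
  haveI : Group.IsNilpotent (P ⧸ W) := hQ.isNilpotent
  have hZne := Cfsg.Agent.Lib.Helper2.normal_inf_center_ne_bot Xb hXbne
  obtain ⟨Zb, hZbdef⟩ : ∃ Zb : Subgroup (P ⧸ W), Zb = Xb ⊓ Subgroup.center (P ⧸ W) := ⟨_, rfl⟩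
  rw [← hZbdef] at hZne
  obtain ⟨n, hn⟩ := (hQ.to_subgroup Zb).exists_card_eq
  have hn0 : n ≠ 0 := by
    rintro rfl
    rw [pow_zero] at hn
    exact hZne (Subgroup.eq_bot_of_card_eq Zb hn)
  have hdvd : p ∣ Nat.card Zb := by
    rw [hn]
    exact dvd_pow_self p hn0
  obtain ⟨yb, hyb⟩ := exists_prime_orderOf_dvd_card' p hdvd
  have hybZ : (yb : P ⧸ W) ∈ Xb ⊓ Subgroup.center (P ⧸ W) := hZbdef ▸ yb.2
  obtain ⟨hybX, hybC⟩ := hybZ
  rw [hXbdef] at hybX
  obtain ⟨y, hyX, hy⟩ := hybX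
  have hyb1 : (yb : P ⧸ W) ≠ 1 := by
    intro h
    have h1 : yb = 1 := Subtype.ext h
    rw [h1, orderOf_one] at hyb
    exact hp.one_lt.ne hyb
  have hybp : (yb : P ⧸ W) ^ p = 1 := by
    have h1 : yb ^ p = 1 := by
      rw [← hyb]
      exact pow_orderOf_eq_one yb
    have h2 := congrArg Subtype.val h1
    simpa using h2
  refine ⟨y, hyX, ?_, ?_, ?_⟩
  · intro hyW
    apply hyb1
    rw [← hy]
    exact (QuotientGroup.eq_one_iff y).2 hyW
  · rw [← QuotientGroup.eq_one_iff]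
    have h1 : ((y ^ p : P) : P ⧸ W) = (QuotientGroup.mk' W y) ^ p := rfl
    rw [h1, hy, hybp]
  · intro g
    rw [← QuotientGroup.eq_one_iff]
    have h1 : ((g * y * g⁻¹ * y⁻¹ : P) : P ⧸ W) =
        (g : P ⧸ W) * (QuotientGroup.mk' W y) * (g : P ⧸ W)⁻¹ * (QuotientGroup.mk' W y)⁻¹ := rfl
    rw [h1, hy]
    have h2 := Subgroup.mem_center_iff.1 hybC (g : P ⧸ W)
    rw [h2]
    group

/-- pairwise commuting generators generate a commutative subgroup -/
theorem comm_of_closure {P : Type*} [Group P] (S : Set P) (h : ∀ a ∈ S, ∀ b ∈ S, a * b = b * a) :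
    ∀ a ∈ Subgroup.closure S, ∀ b ∈ Subgroup.closure S, a * b = b * a := by
  have h1 : Subgroup.closure S ≤ Subgroup.centralizer S := by
    rw [Subgroup.closure_le]
    intro a ha
    rw [SetLike.mem_coe, Subgroup.mem_centralizer_iff]
    intro b hb
    exact h b hb a ha
  have h2 : Subgroup.closure S ≤ Subgroup.centralizer (Subgroup.closure S : Set P) := by
    rw [Subgroup.closure_le]
    intro a ha
    rw [SetLike.mem_coe, Subgroup.mem_centralizer_iff]
    intro b hb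
    have h3 := h1 hb
    rw [Subgroup.mem_centralizer_iff] at h3
    exact (h3 a ha).symm
  intro a ha b hb
  have h3 := h2 hb
  rw [Subgroup.mem_centralizer_iff] at h3
  exact h3 a ha

/-- Let P be a finite p-group and G a group of automorphisms of P containing the inner automorphisms. Then there is a G-invariant subgroup D of P, contained in the subgroup generated by the elements x⁻¹α(x) with x in P and α in O^p(G), of exponent dividing p when p is odd and dividing 4 when p = 2, with [D, P] ≤ Z(D), such that every automorphism in G of order prime to p that fixes D elementwise is the identity; moreover every maximal abelian subgroup A of D is normal in P and every automorphism in G fixing A elementwise has p-power order. -/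
theorem result {P : Type*} [Group P] [Finite P] {p : ℕ} [Fact p.Prime] (hP : IsPGroup p P)
    (G : Subgroup (MulAut P)) (hG : Cfsg.Inn P ≤ G) :
    ∃ D : Subgroup P,
      (∀ α ∈ G, D.map α.toMonoidHom = D) ∧
      D ≤ Subgroup.closure {y : P | ∃ α ∈ Cfsg.pResidual p ↥G, ∃ x : P, y = x⁻¹ * (α : MulAut P) x} ∧
      (∀ d ∈ D, d ^ p = 1 ∨ (p = 2 ∧ d ^ 4 = 1)) ∧
      ⁅D, (⊤ : Subgroup P)⁆ ≤ D ⊓ Subgroup.centralizer (D : Set P) ∧
      (∀ α ∈ G, (orderOf α).Coprime p → (∀ d ∈ D, α d = d) → α = 1) ∧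
      ∀ A : Subgroup P, A ≤ D → IsMulCommutative ↥A →
        (∀ B : Subgroup P, A ≤ B → B ≤ D → IsMulCommutative ↥B → B = A) →
        A.Normal ∧ ∀ α ∈ G, (∀ a ∈ A, α a = a) → ∃ k : ℕ, orderOf α = p ^ k := by
  have hp : p.Prime := Fact.out
  obtain ⟨PP, hPPdef⟩ : ∃ PP : Set (MulAut P),
      PP = {α | α ∈ G ∧ ∃ m : ℕ, m.Coprime p ∧ α ^ m = 1} := ⟨_, rfl⟩
  have hPPG : ∀ α ∈ PP, α ∈ G := fun α hα => by
    rw [hPPdef] at hα
    exact hα.1
  have hfixtool : ∀ α ∈ PP, ∀ y : P, α (y⁻¹ * α y) = y⁻¹ * α y → α y = y := by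
    intro α hα y hfix
    rw [hPPdef] at hα
    obtain ⟨_, m, hm, hαm⟩ := hα
    obtain ⟨k, hk⟩ := hP (y⁻¹ * α y)
    have h1 := eq_one_of_fixed_comm α hαm hm (y := y) (n := y⁻¹ * α y) (by group) hfix hk
    have h2 : y * (y⁻¹ * α y) = y * 1 := by rw [h1]
    rw [mul_inv_cancel_left, mul_one] at h2
    exact h2
  have hinvG : ∀ α ∈ G, α⁻¹ ∈ G := fun α hα => G.inv_mem hα
  have hconjG : ∀ g : P, MulAut.conj g ∈ G := fun g => hG ⟨g, rfl⟩
  have hnormal_of_inv : ∀ X : Subgroup P, (∀ α ∈ G, ∀ x ∈ X, α x ∈ X) →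
      ∀ g : P, ∀ x ∈ X, g * x * g⁻¹ ∈ X := by
    intro X hX g x hx
    have h1 := hX _ (hconjG g) x hx
    rwa [MulAut.conj_apply] at h1
  have hinv_cent : ∀ X : Subgroup P, (∀ α ∈ G, ∀ x ∈ X, α x ∈ X) → ∀ α ∈ G,
      ∀ z ∈ Subgroup.centralizer (X : Set P), α z ∈ Subgroup.centralizer (X : Set P) := by
    intro X hX α hα z hz
    rw [Subgroup.mem_centralizer_iff] at hz ⊢
    intro x hx
    have h1 := hz (α⁻¹ x) (hX _ (hinvG α hα) x hx)
    have h2 := congrArg α h1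
    rw [map_mul, map_mul, MulAut.apply_inv_self] at h2
    exact h2
  -- the subgroup `V = [P, p'-elements of G]`
  obtain ⟨V, hVdef⟩ : ∃ V : Subgroup P,
      V = Subgroup.closure {y | ∃ α ∈ PP, ∃ x : P, y = x⁻¹ * α x} := ⟨_, rfl⟩
  have hVle : V ≤ Subgroup.closure {y : P | ∃ α ∈ Cfsg.pResidual p ↥G, ∃ x : P,
      y = x⁻¹ * (α : MulAut P) x} := by
    rw [hVdef]
    apply Subgroup.closure_mono
    rintro _ ⟨α, hα, x, rfl⟩
    rw [hPPdef] at hα
    obtain ⟨hαG, m, hm, hαm⟩ := hα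
    refine ⟨⟨α, hαG⟩, ?_, x, rfl⟩
    apply Subgroup.subset_closure
    have h1 : (⟨α, hαG⟩ : G) ^ m = 1 := Subtype.ext (by simpa using hαm)
    exact Nat.Coprime.coprime_dvd_left (orderOf_dvd_of_pow_eq_one h1) hm
  have hVinv : ∀ α ∈ G, ∀ x ∈ V, α x ∈ V := by
    intro γ hγ x hx
    have h1 : V ≤ V.comap γ.toMonoidHom := by
      conv_lhs => rw [hVdef]
      rw [Subgroup.closure_le]
      rintro _ ⟨α, hα, x, rfl⟩
      show γ (x⁻¹ * α x) ∈ V
      have e : γ (x⁻¹ * α x) = (γ x)⁻¹ * (γ * α * γ⁻¹) (γ x) := by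
        simp [MulAut.mul_apply]
      rw [e, hVdef]
      apply Subgroup.subset_closure
      refine ⟨γ * α * γ⁻¹, ?_, γ x, rfl⟩
      rw [hPPdef] at hα ⊢
      obtain ⟨hαG, m, hm, hαm⟩ := hα
      exact ⟨G.mul_mem (G.mul_mem hγ hαG) (G.inv_mem hγ), m, hm, by
        rw [conj_pow, hαm, mul_one, mul_inv_cancel]⟩
    exact h1 hx
  -- a maximal `G`-invariant abelian subgroup `W` of `V`
  obtain ⟨Sab, hSabdef⟩ : ∃ Sab : Set (Subgroup P), Sab = {X | X ≤ V ∧
      (∀ α ∈ G, ∀ x ∈ X, α x ∈ X) ∧ ∀ a ∈ X, ∀ b ∈ X, a * b = b * a} := ⟨_, rfl⟩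
  have hSabne : Sab.Nonempty := by
    refine ⟨⊥, ?_⟩
    rw [hSabdef]
    refine ⟨bot_le, ?_, ?_⟩
    · intro α _ x hx
      rw [Subgroup.mem_bot] at hx ⊢
      rw [hx, map_one]
    · intro a ha b hb
      rw [Subgroup.mem_bot] at ha hb
      rw [ha, hb]
  obtain ⟨W, hWS, hWmax⟩ := Set.exists_max_image Sab (fun X => Nat.card X) (Set.toFinite _) hSabne
  rw [hSabdef] at hWS
  obtain ⟨hWV, hWinv, hWab⟩ := hWS
  have hWmax' : ∀ X : Subgroup P, X ≤ V → (∀ α ∈ G, ∀ x ∈ X, α x ∈ X) →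
      (∀ a ∈ X, ∀ b ∈ X, a * b = b * a) → W ≤ X → X = W := by
    intro X h1 h2 h3 h4
    have h5 : Nat.card X ≤ Nat.card W := hWmax X (by rw [hSabdef]; exact ⟨h1, h2, h3⟩)
    exact (Subgroup.eq_of_le_of_card_ge h4 h5).symm
  have hWconj := hnormal_of_inv W hWinv
  -- `T = C_V(W)`
  obtain ⟨T, hTdef⟩ : ∃ T : Subgroup P, T = V ⊓ Subgroup.centralizer (W : Set P) := ⟨_, rfl⟩
  have hTinv : ∀ α ∈ G, ∀ x ∈ T, α x ∈ T := by
    intro α hα x hx
    rw [hTdef] at hx ⊢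
    exact ⟨hVinv α hα x hx.1, hinv_cent W hWinv α hα x hx.2⟩
  have hTW : ∀ x ∈ T, ∀ w ∈ W, w * x = x * w := by
    intro x hx w hw
    rw [hTdef] at hx
    exact (Subgroup.mem_centralizer_iff.1 hx.2) w hw
  have hWT : W ≤ T := by
    intro w hw
    rw [hTdef]
    refine ⟨hWV hw, ?_⟩
    refine Subgroup.mem_centralizer_iff.2 ?_
    intro w' hw'
    exact hWab w' hw' w hw
  -- the critical subgroup `C`
  obtain ⟨C, hCdef⟩ : ∃ C : Subgroup P, ∀ x, x ∈ C ↔
      (x ∈ T ∧ x ^ p ∈ W ∧ ∀ g : P, g * x * g⁻¹ * x⁻¹ ∈ W) := by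
    refine ⟨{ carrier := {x | x ∈ T ∧ x ^ p ∈ W ∧ ∀ g : P, g * x * g⁻¹ * x⁻¹ ∈ W}
              mul_mem' := ?_
              one_mem' := ?_
              inv_mem' := ?_ }, fun x => Iff.rfl⟩
    · rintro x y ⟨hxT, hxp, hxc⟩ ⟨hyT, hyp, hyc⟩
      refine ⟨T.mul_mem hxT hyT, ?_, ?_⟩
      · obtain ⟨z, hzdef⟩ : ∃ z : P, z = y⁻¹ * x⁻¹ * y * x := ⟨_, rfl⟩
        have hzW : z ∈ W := by
          have h1 : x⁻¹ * y * x⁻¹⁻¹ * y⁻¹ ∈ W := hyc x⁻¹
          have h2 := hWconj y⁻¹ _ h1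
          have e : y⁻¹ * (x⁻¹ * y * x⁻¹⁻¹ * y⁻¹) * y⁻¹⁻¹ = z := by
            rw [hzdef]
            group
          rwa [e] at h2
        have hz1 : y * x = x * y * z := by
          rw [hzdef]
          group
        have hzx : Commute z x := hTW x hxT z hzW
        have hzy : Commute z y := hTW y hyT z hzW
        rw [mul_pow_of_central hz1 hzx hzy p]
        exact W.mul_mem (W.mul_mem hxp hyp) (W.pow_mem hzW _)
      · intro g
        have e : g * (x * y) * g⁻¹ * (x * y)⁻¹ =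
            (g * x * g⁻¹ * x⁻¹) * (x * (g * y * g⁻¹ * y⁻¹) * x⁻¹) := by group
        rw [e]
        exact W.mul_mem (hxc g) (hWconj x _ (hyc g))
    · refine ⟨T.one_mem, ?_, ?_⟩
      · rw [one_pow]
        exact W.one_mem
      · intro g
        have e : g * 1 * g⁻¹ * (1 : P)⁻¹ = 1 := by group
        rw [e]
        exact W.one_mem
    · rintro x ⟨hxT, hxp, hxc⟩
      refine ⟨T.inv_mem hxT, ?_, ?_⟩
      · rw [inv_pow]
        exact W.inv_mem hxp
      · intro g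
        have h1 := W.inv_mem (hxc g)
        have h2 := hWconj x⁻¹ _ h1
        have e : x⁻¹ * (g * x * g⁻¹ * x⁻¹)⁻¹ * x⁻¹⁻¹ = g * x⁻¹ * g⁻¹ * x⁻¹⁻¹ := by group
        rwa [e] at h2
  have hCT : C ≤ T := fun x hx => ((hCdef x).1 hx).1
  have hCV : C ≤ V := fun x hx => by
    have h1 := hCT hx
    rw [hTdef] at h1
    exact h1.1
  have hWC : W ≤ C := by
    intro w hw
    rw [hCdef]
    refine ⟨hWT hw, W.pow_mem hw p, fun g => ?_⟩
    exact W.mul_mem (hWconj g w hw) (W.inv_mem hw)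
  have hCinv : ∀ α ∈ G, ∀ x ∈ C, α x ∈ C := by
    intro α hα x hx
    rw [hCdef] at hx ⊢
    obtain ⟨hxT, hxp, hxc⟩ := hx
    refine ⟨hTinv α hα x hxT, ?_, fun g => ?_⟩
    · rw [← map_pow]
      exact hWinv α hα _ hxp
    · have h1 := hWinv α hα _ (hxc (α⁻¹ g))
      have e : α (α⁻¹ g * x * (α⁻¹ g)⁻¹ * x⁻¹) = g * α x * g⁻¹ * (α x)⁻¹ := by
        simp
      rwa [e] at h1
  have hCconj := hnormal_of_inv C hCinv
  have hCW : ∀ c ∈ C, ∀ w ∈ W, w * c = c * w := fun c hc w hw => hTW c (hCT hc) w hw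
  -- `Z(C) = W`
  have hZC : ∀ z ∈ C, (∀ c ∈ C, c * z = z * c) → z ∈ W := by
    intro z hz hzc
    obtain ⟨ZC, hZCdef⟩ : ∃ ZC : Subgroup P, ZC = C ⊓ Subgroup.centralizer (C : Set P) := ⟨_, rfl⟩
    have h1 : ZC = W := by
      apply hWmax' ZC
      · rw [hZCdef]
        exact inf_le_left.trans hCV
      · intro α hα x hx
        rw [hZCdef] at hx ⊢
        exact ⟨hCinv α hα x hx.1, hinv_cent C hCinv α hα x hx.2⟩
      · intro a ha b hb
        rw [hZCdef] at ha hb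
        exact (Subgroup.mem_centralizer_iff.1 hb.2) a ha.1
      · intro w hw
        rw [hZCdef]
        refine ⟨hWC hw, ?_⟩
        refine Subgroup.mem_centralizer_iff.2 ?_
        intro c hc
        exact (hCW c hc w hw).symm
    rw [← h1, hZCdef]
    exact ⟨hz, Subgroup.mem_centralizer_iff.2 hzc⟩
  -- `C_V(C) ≤ C`
  have hCVC : ∀ x ∈ V, (∀ c ∈ C, c * x = x * c) → x ∈ C := by
    obtain ⟨X, hXdef⟩ : ∃ X : Subgroup P, X = V ⊓ Subgroup.centralizer (C : Set P) := ⟨_, rfl⟩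
    have hXinv : ∀ α ∈ G, ∀ x ∈ X, α x ∈ X := by
      intro α hα x hx
      rw [hXdef] at hx ⊢
      exact ⟨hVinv α hα x hx.1, hinv_cent C hCinv α hα x hx.2⟩
    have hWX : W ≤ X := by
      intro w hw
      rw [hXdef]
      refine ⟨hWV hw, ?_⟩
      refine Subgroup.mem_centralizer_iff.2 ?_
      intro c hc
      exact (hCW c hc w hw).symm
    have hXW : X = W := by
      by_contra hne
      haveI : W.Normal := ⟨fun w hw g => hWconj g w hw⟩
      haveI : X.Normal := ⟨fun x hx g => hnormal_of_inv X hXinv g x hx⟩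
      obtain ⟨y, hyX, hyW, hyp, hyc⟩ := exists_central_mod hP W X hWX (fun h => hne h.symm)
      rw [hXdef] at hyX
      have hycent := Subgroup.mem_centralizer_iff.1 hyX.2
      have hyC : y ∈ C := by
        rw [hCdef]
        refine ⟨?_, hyp, hyc⟩
        rw [hTdef]
        refine ⟨hyX.1, ?_⟩
        refine Subgroup.mem_centralizer_iff.2 ?_
        intro w hw
        exact hycent w (hWC hw)
      exact hyW (hZC y hyC hycent)
    intro x hxV hxc
    apply hWC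
    rw [← hXW, hXdef]
    exact ⟨hxV, Subgroup.mem_centralizer_iff.2 hxc⟩
  -- `p'`-automorphisms
  have hfixV_of_fixC : ∀ α ∈ PP, (∀ c ∈ C, α c = c) → ∀ v ∈ V, α v = v := by
    intro α hα hfixC v hv
    apply hfixtool α hα
    have hαG := hPPG α hα
    have hnV : v⁻¹ * α v ∈ V := V.mul_mem (V.inv_mem hv) (hVinv α hαG v hv)
    apply hfixC
    apply hCVC _ hnV
    intro c hc
    have h1 : v * c * v⁻¹ ∈ C := hCconj v c hc
    have h4 := hfixC _ h1
    rw [map_mul, map_mul, map_inv, hfixC c hc] at h4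
    calc c * (v⁻¹ * α v) = v⁻¹ * (v * c * v⁻¹) * α v := by group
      _ = v⁻¹ * (α v * c * (α v)⁻¹) * α v := by rw [h4]
      _ = v⁻¹ * α v * c := by group
  have hone_of_fixV : ∀ α ∈ PP, (∀ v ∈ V, α v = v) → α = 1 := by
    intro α hα hfixV
    apply MulEquiv.ext
    intro y
    show α y = y
    apply hfixtool α hα
    apply hfixV
    rw [hVdef]
    exact Subgroup.subset_closure ⟨α, hα, y, rfl⟩
  -- the subgroup `D = Ω(C)`
  obtain ⟨q, hqdef⟩ : ∃ q : ℕ, q = qExp p := ⟨_, rfl⟩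
  have hcommW : ∀ a ∈ C, ∀ b ∈ C, b⁻¹ * a⁻¹ * b * a ∈ W := by
    intro a ha b hb
    have h1 : a⁻¹ * b * a⁻¹⁻¹ * b⁻¹ ∈ W := ((hCdef b).1 hb).2.2 a⁻¹
    have h2 := hWconj b⁻¹ _ h1
    have e : b⁻¹ * (a⁻¹ * b * a⁻¹⁻¹ * b⁻¹) * b⁻¹⁻¹ = b⁻¹ * a⁻¹ * b * a := by group
    rwa [e] at h2
  have hzpow : ∀ a ∈ C, ∀ b ∈ C, (b⁻¹ * a⁻¹ * b * a) ^ p = 1 := by
    intro a ha b hb
    obtain ⟨zc, hzcdef⟩ : ∃ zc : P, zc = b⁻¹ * a⁻¹ * b * a := ⟨_, rfl⟩
    have hzcW : zc ∈ W := hzcdef ▸ hcommW a ha b hb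
    rw [← hzcdef]
    have hzcb : Commute zc b := hCW b hb zc hzcW
    have hbpW : b ^ p ∈ W := ((hCdef b).1 hb).2.1
    have h1 : a⁻¹ * b * a = b * zc := by
      rw [hzcdef]
      group
    have h2 : (a⁻¹ * b * a) ^ p = b ^ p := by
      have h3 : a⁻¹ * b * a = a⁻¹ * b * (a⁻¹)⁻¹ := by rw [inv_inv]
      rw [h3, conj_pow, inv_inv]
      have h4 : b ^ p * a = a * b ^ p := hCW a ha _ hbpW
      rw [mul_assoc, h4, inv_mul_cancel_left]
    rw [h1, (hzcb.symm).mul_pow] at h2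
    exact mul_left_cancel (a := b ^ p) (by rw [h2, mul_one])
  have hmulq : ∀ a ∈ C, ∀ b ∈ C, a ^ q = 1 → b ^ q = 1 → (a * b) ^ q = 1 := by
    intro a ha b hb haq hbq
    obtain ⟨zc, hzcdef⟩ : ∃ zc : P, zc = b⁻¹ * a⁻¹ * b * a := ⟨_, rfl⟩
    have hzcW : zc ∈ W := hzcdef ▸ hcommW a ha b hb
    have hz1 : b * a = a * b * zc := by
      rw [hzcdef]
      group
    have hza : Commute zc a := hCW a ha zc hzcW
    have hzb : Commute zc b := hCW b hb zc hzcW
    have hzp : zc ^ p = 1 := by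
      rw [hzcdef]
      exact hzpow a ha b hb
    have hzq : zc ^ (q.choose 2) = 1 := by
      rw [hqdef]
      exact pow_choose_qExp hp hzp
    rw [mul_pow_of_central hz1 hza hzb q, haq, hbq, hzq, mul_one, mul_one]
  obtain ⟨D, hDdef⟩ : ∃ D : Subgroup P, ∀ y, y ∈ D ↔ (y ∈ C ∧ y ^ q = 1) := by
    refine ⟨{ carrier := {y | y ∈ C ∧ y ^ q = 1}
              one_mem' := ⟨C.one_mem, one_pow q⟩
              mul_mem' := fun {a b} ha hb => ⟨C.mul_mem ha.1 hb.1, hmulq a ha.1 b hb.1 ha.2 hb.2⟩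
              inv_mem' := fun {a} ha => ⟨C.inv_mem ha.1, by rw [inv_pow, ha.2, inv_one]⟩ },
      fun y => Iff.rfl⟩
  have hDC : D ≤ C := fun y hy => ((hDdef y).1 hy).1
  have hDinv : ∀ α ∈ G, ∀ y ∈ D, α y ∈ D := by
    intro α hα y hy
    obtain ⟨h1, h2⟩ := (hDdef y).1 hy
    exact (hDdef _).2 ⟨hCinv α hα y h1, by rw [← map_pow, h2, map_one]⟩
  have hDconj := hnormal_of_inv D hDinv
  have hmain5 : ∀ α ∈ PP, (∀ d ∈ D, α d = d) → α = 1 := by
    intro α hα hfixD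
    have hα' := hα
    rw [hPPdef] at hα'
    obtain ⟨hαG, m, hm, hαm⟩ := hα'
    have hfixC : ∀ c ∈ C, α c = c :=
      fix_of_fix_small α hαm hm (Nat.card C) C rfl inferInstance (hP.to_subgroup C) (hCinv α hαG)
        (fun y hy hs => hfixD y ((hDdef y).2 ⟨hy, by rw [hqdef]; exact (pow_qExp_iff p y).2 hs⟩))
    exact hone_of_fixV α hα (hfixV_of_fixC α hα hfixC)
  refine ⟨D, ?_, ?_, ?_, ?_, ?_, ?_⟩
  · intro α hα
    apply le_antisymm
    · rintro _ ⟨x, hx, rfl⟩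
      exact hDinv α hα x hx
    · intro x hx
      refine ⟨α⁻¹ x, hDinv _ (hinvG α hα) x hx, ?_⟩
      show α (α⁻¹ x) = x
      exact MulAut.apply_inv_self _ _ _
  · exact fun x hx => hVle (hCV (hDC hx))
  · intro d hd
    have h2 := ((hDdef d).1 hd).2
    rw [hqdef] at h2
    exact (pow_qExp_iff p d).1 h2
  · rw [Subgroup.commutator_le]
    intro d hd g _
    rw [commutatorElement_def]
    have hdC := hDC hd
    have hW' : d * g * d⁻¹ * g⁻¹ ∈ W := by
      have h1 := W.inv_mem (((hCdef d).1 hdC).2.2 g)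
      have e : (g * d * g⁻¹ * d⁻¹)⁻¹ = d * g * d⁻¹ * g⁻¹ := by group
      rwa [e] at h1
    refine ⟨?_, ?_⟩
    · have h1 : g * d⁻¹ * g⁻¹ ∈ D := hDconj g _ (D.inv_mem hd)
      have e : d * g * d⁻¹ * g⁻¹ = d * (g * d⁻¹ * g⁻¹) := by group
      rw [e]
      exact D.mul_mem hd h1
    · refine Subgroup.mem_centralizer_iff.2 ?_
      intro d' hd'
      exact (hCW d' (hDC hd') _ hW').symm
  · intro α hα hcop hfixD
    have hαPP : α ∈ PP := by
      rw [hPPdef]
      exact ⟨hα, orderOf α, hcop, pow_orderOf_eq_one α⟩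
    exact hmain5 α hαPP hfixD
  · intro A hAD hAab hAmax
    have hAcomm : ∀ a ∈ A, ∀ b ∈ A, a * b = b * a := by
      intro a ha b hb
      have h1 := hAab.is_comm.comm (⟨a, ha⟩ : A) ⟨b, hb⟩
      exact congrArg Subtype.val h1
    have hCDA : ∀ n ∈ D, (∀ a ∈ A, a * n = n * a) → n ∈ A := by
      intro n hn hna
      obtain ⟨B, hBdef⟩ : ∃ B : Subgroup P, B = Subgroup.closure ((A : Set P) ∪ {n}) := ⟨_, rfl⟩
      have hAB : A ≤ B := by
        rw [hBdef]
        intro a ha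
        exact Subgroup.subset_closure (Or.inl ha)
      have hBD : B ≤ D := by
        rw [hBdef, Subgroup.closure_le]
        rintro x (hx | hx)
        · exact hAD hx
        · rw [Set.mem_singleton_iff] at hx
          rw [hx]
          exact hn
      have hBcomm : ∀ a ∈ B, ∀ b ∈ B, a * b = b * a := by
        rw [hBdef]
        apply comm_of_closure
        rintro a (ha | ha) b (hb | hb)
        · exact hAcomm a ha b hb
        · rw [Set.mem_singleton_iff] at hb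
          rw [hb]
          exact hna a ha
        · rw [Set.mem_singleton_iff] at ha
          rw [ha]
          exact (hna b hb).symm
        · rw [Set.mem_singleton_iff] at ha hb
          rw [ha, hb]
      have hBab : IsMulCommutative ↥B := ⟨⟨fun a b => Subtype.ext (hBcomm a.1 a.2 b.1 b.2)⟩⟩
      have hBA := hAmax B hAB hBD hBab
      rw [← hBA, hBdef]
      exact Subgroup.subset_closure (Or.inr rfl)
    have hAnormal : ∀ g : P, ∀ a ∈ A, g * a * g⁻¹ ∈ A := by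
      intro g a ha
      have haD := hAD ha
      have haC := hDC haD
      have hw : g * a * g⁻¹ * a⁻¹ ∈ W := ((hCdef a).1 haC).2.2 g
      have hwD : g * a * g⁻¹ * a⁻¹ ∈ D := D.mul_mem (hDconj g a haD) (D.inv_mem haD)
      have hwA : g * a * g⁻¹ * a⁻¹ ∈ A := by
        apply hCDA _ hwD
        intro a' ha'
        exact (hCW a' (hDC (hAD ha')) _ hw).symm
      have e : g * a * g⁻¹ = (g * a * g⁻¹ * a⁻¹) * a := by group
      rw [e]
      exact A.mul_mem hwA ha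
    refine ⟨⟨fun a ha g => hAnormal g a ha⟩, ?_⟩
    intro α hα hfixA
    have ho : orderOf α ≠ 0 := (orderOf_pos α).ne'
    obtain ⟨e, m, hm, hom⟩ := Nat.exists_eq_pow_mul_and_not_dvd ho p hp.ne_one
    have hmcop : m.Coprime p := Nat.Coprime.symm ((Nat.Prime.coprime_iff_not_dvd hp).2 hm)
    obtain ⟨β, hβdef⟩ : ∃ β : MulAut P, β = α ^ (p ^ e) := ⟨_, rfl⟩
    have hβG : β ∈ G := hβdef ▸ G.pow_mem hα _
    have hβm : β ^ m = 1 := by
      rw [hβdef, ← pow_mul, ← hom]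
      exact pow_orderOf_eq_one α
    have hβPP : β ∈ PP := by
      rw [hPPdef]
      exact ⟨hβG, m, hmcop, hβm⟩
    have hβA : ∀ a ∈ A, β a = a := by
      intro a ha
      rw [hβdef]
      have h1 : ∀ k : ℕ, (α ^ k) a = a := by
        intro k
        induction k with
        | zero => simp
        | succ k ih => rw [pow_succ, MulAut.mul_apply, hfixA a ha, ih]
      exact h1 _
    have hβD : ∀ d ∈ D, β d = d := by
      intro d hd
      apply hfixtool β hβPP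
      have hnD : d⁻¹ * β d ∈ D := D.mul_mem (D.inv_mem hd) (hDinv β hβG d hd)
      apply hβA
      apply hCDA _ hnD
      intro a ha
      have h1 : d * a * d⁻¹ ∈ A := hAnormal d a ha
      have h4 := hβA _ h1
      rw [map_mul, map_mul, map_inv, hβA a ha] at h4
      calc a * (d⁻¹ * β d) = d⁻¹ * (d * a * d⁻¹) * β d := by group
        _ = d⁻¹ * (β d * a * (β d)⁻¹) * β d := by rw [h4]
        _ = d⁻¹ * β d * a := by group
    have hβ1 := hmain5 β hβPP hβD
    rw [hβdef] at hβ1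
    have hdvd : orderOf α ∣ p ^ e := orderOf_dvd_of_pow_eq_one hβ1
    obtain ⟨k, _, hk⟩ := (Nat.dvd_prime_pow hp).1 hdvd
    exact ⟨k, hk⟩

end Cfsg.Agent.S1949
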