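import Mathlib
import Cfsg.Statements.S1954
import Cfsg.Agent.Lib.Helper1.FusionLift

set_option autoImplicit false
open Cfsg

namespace Cfsg.Agent.S1954

open Cfsg.Agent.Lib.Helper1 Cfsg.Agent.Lib.Helper29

/-- Let N be a normal subgroup of the finite group G, P a Sylow p-subgroup of G, and V a subgroup of P ∩ N normal in P ∩ N such that N_N(V) controls strong fusion in P ∩ N with respect to N (whenever a subgroup A of P ∩ N has n A n⁻¹ ≤ P ∩ N for some n in N, then n = h c with h in N_N(V) and c in C_N(A)). Let W be the subgroup generated by the conjugates of V under N_G(P ∩ N). Then N_G(W) controls strong fusion in P with respect to G. -/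
theorem result {G : Type*} [Group G] [Finite G] {p : ℕ} [Fact p.Prime] (N : Subgroup G) [N.Normal] (P : Sylow p G) (V : Subgroup G)
    (hV : V ≤ (P : Subgroup G) ⊓ N) (hVn : ∀ x ∈ (P : Subgroup G) ⊓ N, V.map (MulAut.conj x).toMonoidHom = V)
    (hctrl : ∀ A : Subgroup G, A ≤ (P : Subgroup G) ⊓ N → ∀ n ∈ N, A.map (MulAut.conj n).toMonoidHom ≤ (P : Subgroup G) ⊓ N →
      ∃ h ∈ N ⊓ Subgroup.normalizer (V : Set G), ∃ c ∈ N ⊓ Subgroup.centralizer (A : Set G), n = h * c)
    (W : Subgroup G) (hW : W = Subgroup.closure (⋃ x ∈ Subgroup.normalizer (((P : Subgroup G) ⊓ N : Subgroup G) : Set G),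
      ((V.map (MulAut.conj x).toMonoidHom : Subgroup G) : Set G))) :
    ∀ A : Subgroup G, A ≤ (P : Subgroup G) → ∀ g : G, A.map (MulAut.conj g).toMonoidHom ≤ (P : Subgroup G) →
        ∃ h ∈ Subgroup.normalizer (W : Set G), ∃ c ∈ Subgroup.centralizer (A : Set G), g = h * c := by
  intro A hA g hg
  have hW' := closure_iUnion_cj_eq _ V W hW
  have hch := alperin_goldschmidt_chain P (sylFamily p (P : Subgroup G)) (fun U hU => hU.1)
    (sylFamily_criterion P) _ A hA rfl g⁻¹ (by rw [inv_inv]; exact hg)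
  have hSt : ∀ T' ∈ sylFamily p (P : Subgroup G), 0 ≤ Nat.card T' →
      ∀ x ∈ Subgroup.normalizer (T' : Set G), ∃ c ∈ Subgroup.centralizer (T' : Set G),
        ∃ h ∈ Subgroup.normalizer (W : Set G), x = c * h :=
    fun T' hT' _ => lift_main N P V W hV hctrl hW' _ T' hT' rfl
  obtain ⟨c, hc, h, hh, e⟩ := chain_split _ _ 0 hSt _ _ hch (Nat.zero_le _)
  refine ⟨h⁻¹, inv_mem hh, c⁻¹, inv_mem hc, ?_⟩
  have e2 : g = (g⁻¹)⁻¹ := (inv_inv g).symm
  rw [e2, e]; group

end Cfsg.Agent.S1954
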