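import Mathlib
import Cfsg.Statements.S1965
import Cfsg.Agent.Lib.Helper1.AlperinGoldschmidt

set_option autoImplicit false
open Cfsg

namespace Cfsg.Agent.S1965

open Cfsg.Agent.Lib.Helper1 Cfsg.Agent.Lib.Helper29

theorem result {G : Type*} [Group G] [Finite G] {p : ℕ} [Fact p.Prime] (S : Sylow p G) (𝓕 : Set (Subgroup G)) (h𝓕 : ∀ U ∈ 𝓕, U ≤ (S : Subgroup G)) (h : ∀ T : Subgroup G, T ≤ (S : Subgroup G) → ∃ U ∈ 𝓕, (∃ g : G, T.map (MulAut.conj g).toMonoidHom = U) ∧ ¬ p ∣ ((S : Subgroup G) ⊓ Subgroup.normalizer ((U : Subgroup G) : Set G)).relIndex (Subgroup.normalizer ((U : Subgroup G) : Set G))) : Cfsg.IsConjugationFamily 𝓕 (S : Subgroup G) := by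
  refine ⟨h𝓕, ?_⟩
  intro A g _ hAS hAg
  set T := Subgroup.closure A with hT
  have hTS : T ≤ (S : Subgroup G) := (Subgroup.closure_le _).mpr hAS
  have hTg : cj g⁻¹ T ≤ (S : Subgroup G) := by
    rw [hT]
    change (Subgroup.closure A).map (MulAut.conj g⁻¹).toMonoidHom ≤ _
    rw [MonoidHom.map_closure, Subgroup.closure_le]
    rintro _ ⟨a, ha, rfl⟩
    have := hAg ⟨a, ha, rfl⟩
    simpa using this
  have hch := alperin_goldschmidt_chain S 𝓕 h𝓕 h _ T hTS rfl g hTg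
  have hch' := hch.mono A Subgroup.subset_closure
  exact hch'.exists_data

end Cfsg.Agent.S1965
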