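import Mathlib
import Cfsg.Statements.S1966
import Cfsg.Agent.Lib.Helper16.PCore

set_option autoImplicit false
open Cfsg

namespace Cfsg.Agent.S1966

theorem result {G : Type*} [Group G] [Finite G] {p : ℕ} [Fact p.Prime] (S : Sylow p G) (𝓕 : Set (Subgroup G)) (h : Cfsg.IsConjugationFamily 𝓕 (S : Subgroup G)) : Cfsg.IsConjugationFamily {T : Subgroup G | T ∈ 𝓕 ∧ Cfsg.pCore p G ≤ T} (S : Subgroup G) := by
  obtain ⟨h1, h2⟩ := h
  refine ⟨fun T hT => h1 T hT.1, ?_⟩
  intro A g hAne hAS hAg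
  have hOS : Cfsg.pCore p G ≤ (S : Subgroup G) := Cfsg.Agent.Lib.Helper16.pCore_le_sylow S
  have hOn : (Cfsg.pCore p G).Normal := Cfsg.Agent.Lib.Helper16.pCore_normal p G
  have hconj : ∀ (c o : G), o ∈ Cfsg.pCore p G → c⁻¹ * o * c ∈ Cfsg.pCore p G := by
    intro c o ho
    have := hOn.conj_mem o ho c⁻¹
    simpa using this
  have hA' : (fun a => g⁻¹ * a * g) '' (A ∪ (Cfsg.pCore p G : Set G)) ⊆ (S : Subgroup G) := by
    rw [Set.image_union]
    refine Set.union_subset hAg ?_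
    rintro _ ⟨o, ho, rfl⟩
    exact hOS (hconj g o ho)
  obtain ⟨n, T, x, hprod, hT, hx, h0, hstep⟩ :=
    h2 (A ∪ (Cfsg.pCore p G : Set G)) g (hAne.mono Set.subset_union_left)
      (Set.union_subset hAS hOS) hA'
  refine ⟨n, T, x, hprod, ?_, hx, fun h => Set.subset_union_left.trans (h0 h),
    fun i h => (Set.image_mono Set.subset_union_left).trans (hstep i h)⟩
  intro i
  refine ⟨hT i, ?_⟩
  obtain ⟨iv, hi⟩ := i
  rcases Nat.eq_zero_or_pos iv with rfl | hpos
  · intro o ho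
    exact h0 hi (Set.mem_union_right _ ho)
  · obtain ⟨j, rfl⟩ : ∃ j, iv = j + 1 := ⟨iv - 1, by omega⟩
    intro o ho
    have hj : j < n := by omega
    have := hstep ⟨j, hj⟩ hi
    apply this
    set c := ((List.ofFn x).take (j + 1)).prod with hc
    refine ⟨c * o * c⁻¹, Set.mem_union_right _ ?_, by group⟩
    have := hconj c⁻¹ o ho
    simpa using this

end Cfsg.Agent.S1966
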