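import Mathlib
import Cfsg.Statements.S1967

set_option autoImplicit false
open Cfsg

namespace Cfsg.Agent.S1967

lemma mem_map_conj {G : Type*} [Group G] (H : Subgroup G) (k z : G) :
    z ∈ H.map (MulAut.conj k).toMonoidHom ↔ k⁻¹ * z * k ∈ H := by
  constructor
  · rintro ⟨y, hy, rfl⟩
    simpa [mul_assoc] using hy
  · intro h
    exact ⟨k⁻¹ * z * k, h, by simp [mul_assoc]⟩

open scoped Pointwise in
theorem result {G : Type*} [Group G] [Finite G] {p : ℕ} [Fact p.Prime] (S : Sylow p G) (W : Subgroup G → Subgroup G) (hW : Cfsg.IsConjugacyFunctor p W) : Cfsg.ControlsStrongFusionIn p W ⊤ ↔ ∀ (T : Subgroup G) (g : G), T ≤ (S : Subgroup G) → T.map (MulAut.conj g).toMonoidHom ≤ (S : Subgroup G) → ∃ n ∈ Subgroup.normalizer ((W (S : Subgroup G) : Subgroup G) : Set G), ∃ c ∈ Subgroup.centralizer (T : Set G), g = n * c := by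
  constructor
  · rintro ⟨T₀, -, hT₀p, hT₀i, hT₀⟩ T g hTS hTg
    rw [Subgroup.relIndex_top_right] at hT₀i
    obtain ⟨k, hk⟩ := MulAction.exists_smul_eq G S (hT₀p.toSylow hT₀i)
    have hk' : (S : Subgroup G).map (MulAut.conj k).toMonoidHom = T₀ := by
      have := congrArg (fun Q : Sylow p G => (Q : Subgroup G)) hk
      simp only [IsPGroup.toSylow_coe] at this
      rw [← this, Sylow.coe_subgroup_smul, Subgroup.pointwise_smul_def]
      rfl
    have hWT₀ : W T₀ = (W (S : Subgroup G)).map (MulAut.conj k).toMonoidHom := by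
      rw [← hk']
      exact (hW (S : Subgroup G) S.isPGroup').2.2 k
    have hmemT₀ : ∀ z, z ∈ T₀ ↔ k⁻¹ * z * k ∈ (S : Subgroup G) := by
      intro z; rw [← hk']; exact mem_map_conj _ k z
    -- A := k T k⁻¹, h := k g k⁻¹
    have hA : ((fun t => k * t * k⁻¹) '' (T : Set G)) ⊆ (T₀ : Set G) := by
      rintro _ ⟨t, ht, rfl⟩
      rw [SetLike.mem_coe, hmemT₀]
      have : k⁻¹ * (k * t * k⁻¹) * k = t := by group
      rw [this]; exact hTS ht
    have hAh : (fun a => (k * g * k⁻¹) * a * (k * g * k⁻¹)⁻¹) ''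
        ((fun t => k * t * k⁻¹) '' (T : Set G)) ⊆ (T₀ : Set G) := by
      rintro _ ⟨_, ⟨t, ht, rfl⟩, rfl⟩
      rw [SetLike.mem_coe, hmemT₀]
      have : k⁻¹ * ((k * g * k⁻¹) * (k * t * k⁻¹) * (k * g * k⁻¹)⁻¹) * k = g * t * g⁻¹ := by group
      rw [this]
      apply hTg
      exact ⟨t, ht, by simp⟩
    obtain ⟨x, ⟨-, hxN⟩, hx⟩ := hT₀ _ (k * g * k⁻¹) (Subgroup.mem_top _) hA hAh
    refine ⟨k⁻¹ * x * k, ?_, (k⁻¹ * x * k)⁻¹ * g, ?_, by group⟩
    · -- normalizer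
      have hxN' : x ∈ Subgroup.normalizer ((W T₀ : Subgroup G) : Set G) := hxN
      rw [hWT₀] at hxN'
      rw [Subgroup.mem_set_normalizer_iff] at hxN' ⊢
      intro y
      have h1 := hxN' (k * y * k⁻¹)
      simp only [SetLike.mem_coe, mem_map_conj] at h1
      have e1 : k⁻¹ * (k * y * k⁻¹) * k = y := by group
      have e2 : k⁻¹ * (x * (k * y * k⁻¹) * x⁻¹) * k = k⁻¹ * x * k * y * (k⁻¹ * x * k)⁻¹ := by group
      rw [e1, e2] at h1
      exact h1
    · -- centralizer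
      rw [Subgroup.mem_centralizer_iff]
      intro t ht
      have h2 := hx (k * t * k⁻¹) ⟨t, ht, rfl⟩
      -- x (k t k⁻¹) x⁻¹ = (k g k⁻¹) (k t k⁻¹) (k g k⁻¹)⁻¹
      have h3 : (k⁻¹ * x * k) * t * (k⁻¹ * x * k)⁻¹ = g * t * g⁻¹ := by
        have : (k⁻¹ * x * k) * t * (k⁻¹ * x * k)⁻¹ = k⁻¹ * (x * (k * t * k⁻¹) * x⁻¹) * k := by group
        rw [this, h2]; group
      calc t * ((k⁻¹ * x * k)⁻¹ * g)
          = (k⁻¹ * x * k)⁻¹ * ((k⁻¹ * x * k) * t * (k⁻¹ * x * k)⁻¹) * (k⁻¹ * x * k) *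
              ((k⁻¹ * x * k)⁻¹ * g) := by group
        _ = (k⁻¹ * x * k)⁻¹ * (g * t * g⁻¹) * (k⁻¹ * x * k) * ((k⁻¹ * x * k)⁻¹ * g) := by rw [h3]
        _ = (k⁻¹ * x * k)⁻¹ * g * t := by group
  · intro H
    refine ⟨S, le_top, S.isPGroup', ?_, ?_⟩
    · rw [Subgroup.relIndex_top_right]; exact S.not_dvd_index
    · intro A h _ hA hAh
      have hcl : Subgroup.closure A ≤ (S : Subgroup G) := (Subgroup.closure_le _).mpr hA
      have hclh : (Subgroup.closure A).map (MulAut.conj h).toMonoidHom ≤ (S : Subgroup G) := by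
        rw [Subgroup.map_le_iff_le_comap, Subgroup.closure_le]
        intro a ha
        have : h * a * h⁻¹ ∈ (S : Subgroup G) := hAh ⟨a, ha, rfl⟩
        change h * a * h⁻¹ ∈ (S : Subgroup G)
        exact this
      obtain ⟨n, hn, c, hc, rfl⟩ := H (Subgroup.closure A) h hcl hclh
      refine ⟨n, ⟨Subgroup.mem_top _, hn⟩, fun a ha => ?_⟩
      have hca : a * c = c * a := (Subgroup.mem_centralizer_iff.mp hc) a (Subgroup.subset_closure ha)
      calc n * a * n⁻¹ = n * (a * c) * c⁻¹ * n⁻¹ := by group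
        _ = n * (c * a) * c⁻¹ * n⁻¹ := by rw [hca]
        _ = n * c * a * (n * c)⁻¹ := by group

end Cfsg.Agent.S1967
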