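import Mathlib
import Cfsg.Statements.S1968
import Cfsg.Agent.Lib.Helper1.LocalToGlobal

set_option autoImplicit false
open Cfsg

namespace Cfsg.Agent.S1968

open Cfsg.Agent.Lib.Helper1 Cfsg.Agent.Lib.Helper29

/-- A chain moving `B` to a different set has a step, inside the normalizer of a member of the
family containing `B`, which moves `B`. -/
theorem exists_moving_step {G : Type*} [Group G] {𝓕 : Set (Subgroup G)} {B : Set G} {g : G}
    (h : FChain 𝓕 B g) : rcs g B ≠ B →
    ∃ T ∈ 𝓕, ∃ x ∈ Subgroup.normalizer (T : Set G), B ⊆ (T : Set G) ∧ rcs x B ≠ B := by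
  induction h with
  | nil B => intro hne; exact absurd (rcs_one B) hne
  | cons B T x g' hT hx hB _ ih =>
    intro hne
    by_cases hxB : rcs x B = B
    · rw [rcs_mul] at hne
      have hne' : rcs g' (rcs x B) ≠ rcs x B := by rw [hxB] at hne ⊢; exact hne
      obtain ⟨T', hT', x', hx', hsub, hmove⟩ := ih hne'
      rw [hxB] at hsub hmove
      exact ⟨T', hT', x', hx', hsub, hmove⟩
    · exact ⟨T, hT, x, hx, hB, hxB⟩

theorem result {G : Type*} [Group G] [Finite G] {p : ℕ} [Fact p.Prime] (S : Sylow p G) (W : Subgroup G → Subgroup G) (hW : Cfsg.IsConjugacyFunctor p W) (hWZ : ∀ P : Subgroup G, IsPGroup p ↥P → P ⊓ Subgroup.centralizer (P : Set G) ≤ W P) (A : Subgroup G) (hAZ : A ≤ (S : Subgroup G) ⊓ Subgroup.centralizer ((S : Subgroup G) : Set G)) (hAN : Subgroup.normalizer ((W (S : Subgroup G) : Subgroup G) : Set G) ≤ Subgroup.normalizer ((A : Subgroup G) : Set G)) (hnwc : ¬ Cfsg.IsWeaklyClosed A (S : Subgroup G)) : ∃ T : Subgroup G, Cfsg.IsWellPlaced p W (S : Subgroup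 G) T ∧ A ≤ T ∧ Subgroup.normalizer ((W ((S : Subgroup G) ⊓ Subgroup.normalizer ((T : Subgroup G) : Set G)) : Subgroup G) : Set G) ≤ Subgroup.normalizer ((A : Subgroup G) : Set G) ∧ ¬ p ∣ ((S : Subgroup G) ⊓ Subgroup.normalizer ((T : Subgroup G) : Set G)).relIndex (Subgroup.normalizer ((T : Subgroup G) : Set G)) ∧ A ≤ Subgroup.centralizer (((S : Subgroup G) ⊓ Subgroup.normalizer ((T : Subgroup G) : Set G) : Subgroup G) : Set G) ∧ ∃ g ∈ Subgroup.normalizer ((T : Subgroup G) : Set G), A.map (MulAut.conj g).toMonoidHom ≤ (S : Subgroup G) ⊓ Subgroup.normalizer ((T : Subgroup G) : Set G) ∧ A.map (MulAut.conj g).toMonoidHom ≠ A := by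
  have hAS : A ≤ (S : Subgroup G) := hAZ.trans inf_le_left
  have hAC : A ≤ Subgroup.centralizer ((S : Subgroup G) : Set G) := hAZ.trans inf_le_right
  -- an element moving `A` inside `S`
  obtain ⟨g, hgS, hgne⟩ : ∃ g : G, cj g A ≤ (S : Subgroup G) ∧ cj g A ≠ A := by
    by_contra hcon
    push Not at hcon
    exact hnwc ⟨hAS, hcon⟩
  -- candidates
  set Cand : Set (Subgroup G) := {T | IsWellPlaced p W (S : Subgroup G) T ∧ A ≤ T ∧
    ∃ x ∈ Subgroup.normalizer (T : Set G), cj x A ≠ A} with hCand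
  have hfam : ∀ T : Subgroup G, T ≤ (S : Subgroup G) →
      ∃ U ∈ {T : Subgroup G | IsWellPlaced p W (S : Subgroup G) T},
        (∃ g : G, T.map (MulAut.conj g).toMonoidHom = U) ∧
        ¬ p ∣ ((S : Subgroup G) ⊓ Subgroup.normalizer ((U : Subgroup G) : Set G)).relIndex
          (Subgroup.normalizer ((U : Subgroup G) : Set G)) := by
    intro T hT
    obtain ⟨g, hg⟩ := exists_wellPlaced_cj S W hW T hT
    exact ⟨cj g T, hg, ⟨g, rfl⟩, hg.2 0⟩
  have hne : Cand.Nonempty := by
    have hch := alperin_goldschmidt_chain S _ (fun U hU => hU.1) hfam _ A hAS rfl g⁻¹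
      (by rw [inv_inv]; exact hgS)
    have hmove : rcs g⁻¹ (A : Set G) ≠ (A : Set G) := by
      rw [rcs_coe, inv_inv]
      intro h
      exact hgne (SetLike.coe_injective h)
    obtain ⟨T, hT, x, hx, hsub, hxmove⟩ := exists_moving_step hch hmove
    refine ⟨T, hT, SetLike.coe_subset_coe.mp hsub, x⁻¹, inv_mem hx, ?_⟩
    intro h
    apply hxmove
    rw [rcs_coe, h]
  obtain ⟨T, hTC, hTmax⟩ := WellFounded.has_min
    (measure (fun T : Subgroup G => Nat.card S - Nat.card (nS (S : Subgroup G) T))).wf Cand hne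
  obtain ⟨hTwp, hAT, x, hxN, hxA⟩ := hTC
  set P := nS (S : Subgroup G) T with hP
  have hPp : IsPGroup p P := S.isPGroup'.to_le inf_le_left
  have hTP : T ≤ P := le_inf hTwp.1 Subgroup.le_normalizer
  have hACP : A ≤ Subgroup.centralizer (P : Set G) :=
    hAC.trans (Subgroup.centralizer_le (SetLike.coe_subset_coe.mpr inf_le_left))
  refine ⟨T, hTwp, hAT, ?_, hTwp.2 0, hACP, x, hxN, ?_, hxA⟩
  · -- `N_G(W(N_S(T))) ≤ N_G(A)`
    by_contra hcon
    obtain ⟨x', hx'N, hx'A⟩ := SetLike.not_le_iff_exists.mp hcon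
    set U := functorTower W (S : Subgroup G) T 1 with hU
    have hUeq : U = W P := rfl
    have hUwp := isWellPlaced_tower_one S W hW T hTwp
    have hAU : A ≤ U := by
      rw [hUeq]
      exact (le_inf (hAT.trans hTP) hACP).trans (hWZ P hPp)
    have hx'A' : cj x' A ≠ A := fun h => hx'A (mem_normalizer_of_cj_eq h)
    have hUC : U ∈ Cand := ⟨hUwp, hAU, x', hx'N, hx'A'⟩
    have h1 := hTmax U hUC
    have h2 : ¬ (Nat.card S - Nat.card (nS (S : Subgroup G) U) <
        Nat.card S - Nat.card P) := h1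
    have hPU : P ≤ nS (S : Subgroup G) U := nS_tower_le_succ S W hW T 0
    have hcardS : Nat.card (nS (S : Subgroup G) U) ≤ Nat.card S := Subgroup.card_le_of_le inf_le_left
    have hcardP : Nat.card P ≤ Nat.card (nS (S : Subgroup G) U) := Subgroup.card_le_of_le hPU
    have hcardeq : Nat.card (nS (S : Subgroup G) U) ≤ Nat.card P := by omega
    have hPUeq : P = nS (S : Subgroup G) U := Subgroup.eq_of_le_of_card_ge hPU hcardeq
    by_cases hPS : P = (S : Subgroup G)
    · apply hx'A
      apply hAN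
      have : W (S : Subgroup G) = W P := by rw [hPS]
      rw [this]
      exact hx'N
    · have hPlt : P < (S : Subgroup G) := lt_of_le_of_ne inf_le_left hPS
      have hgrow := lt_inf_normalizer_of_lt S.isPGroup' hPlt
      have hle : (S : Subgroup G) ⊓ Subgroup.normalizer (P : Set G) ≤ nS (S : Subgroup G) U :=
        inf_le_inf_left _ (normalizer_le_normalizer_functor W hW P hPp)
      rw [← hPUeq] at hle
      exact hgrow.not_ge hle
  · -- `A^x ≤ N_S(T)`
    have h1 : cj x A ≤ cj x T := cj_mono hAT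
    rw [cj_eq_of_mem_normalizer hxN] at h1
    exact h1.trans hTP

end Cfsg.Agent.S1968
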