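import Cfsg.Statements.S1972
import Cfsg.Agent.Lib.Helper1.WeakClosureTransfer

set_option autoImplicit false
universe u
open Cfsg

namespace Cfsg.Agent.S1972

/-- Let p be a prime, G a finite group and W an isomorphism-invariant p-group functor (W assigns to every group Q a subgroup W(Q), nontrivial whenever Q is a nontrivial finite p-group, and every isomorphism from a finite p-group Q onto a group R carries W(Q) onto W(R)). Suppose that whenever G* = K/R is a section of G with C_{G*}(O_p(G*)) ≤ O_p(G*) and S* is a Sylow p-subgroup of G* with W(S*) not normal in G*, there is an element g of S* outside O_p(G*) such that [X, g, …, g] ≤ Y with p − 1 entries g, for every chief factor X/Y of G* with X ≤ O_p(G*). Then W controls transfer in every section of G. -/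
theorem result {G : Type u} [Group G] [Finite G] {p : ℕ} [Fact p.Prime] (W : ∀ (Q : Type u) [Group Q], Subgroup Q) (hW : Cfsg.IsCharPFunctor.{u} p W) (hloc : ∀ (K R : Subgroup G) [hR : (R.subgroupOf K).Normal], Subgroup.centralizer ((Cfsg.pCore p (↥K ⧸ R.subgroupOf K) : Subgroup (↥K ⧸ R.subgroupOf K)) : Set (↥K ⧸ R.subgroupOf K)) ≤ Cfsg.pCore p (↥K ⧸ R.subgroupOf K) → ∀ T : Sylow p (↥K ⧸ R.subgroupOf K), ¬ (Cfsg.inducedFunctor (G := (↥K ⧸ R.subgroupOf K)) W ((T : Subgroup (↥K ⧸ R.subgroupOf K)))).Normal → ∃ g : (↥K ⧸ R.subgroupOf K), g ∈ (T : Subgroup (↥K ⧸ R.subgroupOf K)) ∧ g ∉ Cfsg.pCore p (↥K ⧸ R.subgroupOf K) ∧ ∀ U V : Subgroup (↥K ⧸ R.subgroupOf K), Cfsg.IsChiefFactor U V → U ≤ Cfsg.pCore p (↥K ⧸ R.subgroupOf K) → Cfsg.iterCommutator U (Subgroup.zpowers g) (p - 1) ≤ V) : ∀ (K R : Subgroup G) [hR : (R.subgroupOf K).Normal], Cfsg.ControlsTransferIn p (Cfsg.inducedFunctor (G := (↥K ⧸ R.subgroupOf K)) W) ⊤ := by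
  have hloc' : ∀ (X : Type u) [Group X] [Finite X], Cfsg.Agent.Lib.Helper1.SecT.IsSec G X →
      (∀ (Y : Type u) [Group Y] [Finite Y], Nat.card Y < Nat.card X →
        Cfsg.Agent.Lib.Helper1.SecT.IsSec G Y → Cfsg.Agent.Lib.Helper1.SecT.Ctl p W Y) →
      Cfsg.Agent.Lib.Helper1.SecT.Hloc p W X := by
    intro X _ _ hsec hIH
    obtain ⟨K, R, hR, ⟨e⟩⟩ := hsec
    apply Cfsg.Agent.Lib.Helper1.SecT.hloc_transport W hW e
    intro hc T
    have hcard : Nat.card (↥K ⧸ R.subgroupOf K) = Nat.card X := (Nat.card_congr e.toEquiv).symm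
    apply Cfsg.Agent.Lib.Helper1.WCT.hloc_of_engel W hW _ T (hloc K R hc T)
    intro M hM
    apply hIH
    · rw [← hcard]
      exact Cfsg.Agent.Lib.Helper1.SecT.card_lt_of_ne_top M hM
    · exact (Cfsg.Agent.Lib.Helper1.SecT.IsSec.self K R).sub M
  intro K R hR
  exact Cfsg.Agent.Lib.Helper1.SecT.controls_of_ctl W
    (Cfsg.Agent.Lib.Helper1.WCT.main_ctl' W hW hloc' _ _ rfl
      (Cfsg.Agent.Lib.Helper1.SecT.IsSec.self K R))

end Cfsg.Agent.S1972
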