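import Cfsg.Statements.S1976
import Mathlib

set_option autoImplicit false
open Cfsg

namespace Cfsg.Agent.S1976

theorem lower_antitone {P : Type*} [Group P] {Q Q' : Subgroup P} (h : Q' ≤ Q) :
    Cfsg.kLowerStarFamily Q ⊆ Cfsg.kLowerStarFamily Q' := by
  rintro B ⟨h2, hn, hA⟩
  exact ⟨h2, h.trans hn, fun A hA2 hAQ hBA h1 h3 => hA A hA2 (hAQ.trans h) hBA h1 h3⟩

theorem upper_antitone {P : Type*} [Group P] {Q Q' : Subgroup P} (h : Q' ≤ Q) :
    Cfsg.kUpperStarFamily Q ⊆ Cfsg.kUpperStarFamily Q' := by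
  rintro B ⟨h2, hc⟩
  exact ⟨h2, (Subgroup.commutator_mono le_rfl h).trans hc⟩

theorem step_mono {P : Type*} [Group P] {Q Q' : Subgroup P} (h : Q' ≤ Q) :
    sSup (Cfsg.kUpperStarFamily (sSup (Cfsg.kLowerStarFamily Q'))) ≤
      sSup (Cfsg.kUpperStarFamily (sSup (Cfsg.kLowerStarFamily Q))) := by
  apply sSup_le_sSup
  apply upper_antitone
  apply sSup_le_sSup
  exact lower_antitone h

theorem odd_succ_le {P : Type*} [Group P] (n : ℕ) : Cfsg.kSeqOdd P (n + 1) ≤ Cfsg.kSeqOdd P n := by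
  induction n with
  | zero => exact le_top
  | succ n ih => exact step_mono ih

theorem odd_antitone {P : Type*} [Group P] : Antitone (Cfsg.kSeqOdd P) :=
  antitone_nat_of_succ_le odd_succ_le

theorem even_monotone {P : Type*} [Group P] : Monotone (Cfsg.kSeqEven P) := by
  intro n m hnm
  apply sSup_le_sSup
  exact lower_antitone (odd_antitone hnm)

theorem result {P : Type*} [Group P] [Finite P] {p : ℕ} [Fact p.Prime] (hP : IsPGroup p P) : ∃ n : ℕ, ∀ m : ℕ, n ≤ m → Cfsg.kSeqEven P m = Cfsg.kInfLower P ∧ Cfsg.kSeqOdd P m = Cfsg.kInfUpper P := by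
  obtain ⟨n₁, h₁⟩ := WellFoundedGT.monotone_chain_condition ⟨Cfsg.kSeqEven P, even_monotone⟩
  obtain ⟨n₂, h₂⟩ := WellFoundedLT.antitone_chain_condition (odd_antitone (P := P))
  simp only [OrderHom.coe_mk] at h₁
  have hL : Cfsg.kInfLower P = Cfsg.kSeqEven P n₁ := by
    apply le_antisymm
    · apply iSup_le
      intro k
      rcases le_total k n₁ with hk | hk
      · exact even_monotone hk
      · exact (h₁ k hk).ge
    · exact le_iSup (Cfsg.kSeqEven P) n₁
  have hU : Cfsg.kInfUpper P = Cfsg.kSeqOdd P n₂ := by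
    apply le_antisymm
    · exact iInf_le (Cfsg.kSeqOdd P) n₂
    · apply le_iInf
      intro k
      rcases le_total k n₂ with hk | hk
      · exact odd_antitone hk
      · exact (h₂ k hk).le
  refine ⟨max n₁ n₂, fun m hm => ⟨?_, ?_⟩⟩
  · rw [hL]; exact (h₁ m (le_trans (le_max_left _ _) hm)).symm
  · rw [hU]; exact (h₂ m (le_trans (le_max_right _ _) hm)).symm

end Cfsg.Agent.S1976
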