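import Cfsg.Statements.S2872
import Cfsg.Agent.Lib.Helper8.ThompsonTransfer
import Cfsg.Agent.Lib.Helper2.PGroupFrattini
import Mathlib

set_option autoImplicit false
open Cfsg

namespace Cfsg.Agent.S2872

/-- If `O^p(G) = G`, every homomorphism to a finite `p`-group is trivial. -/
theorem hom_trivial_of_pResidual_eq_top {G A : Type*} [Group G] [Group A] [Finite A] {p : ℕ}
    (hp : p.Prime) (hres : Cfsg.pResidual p G = ⊤) (hA : IsPGroup p A) (f : G →* A) (g : G) :
    f g = 1 := by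
  have hle : Cfsg.pResidual p G ≤ f.ker := by
    unfold Cfsg.pResidual
    rw [Subgroup.closure_le]
    intro x hx
    rw [Set.mem_setOf_eq] at hx
    rw [SetLike.mem_coe, MonoidHom.mem_ker]
    obtain ⟨k, hk⟩ := hA (f x)
    have h1 : orderOf (f x) ∣ orderOf x := orderOf_map_dvd f x
    have h2 : orderOf (f x) ∣ p ^ k := orderOf_dvd_of_pow_eq_one hk
    have h3 : (orderOf (f x)).Coprime (p ^ k) :=
      Nat.Coprime.coprime_dvd_left h1 (Nat.Coprime.pow_right k hx)
    have h4 : orderOf (f x) = 1 := Nat.Coprime.eq_one_of_dvd h3 h2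
    exact orderOf_eq_one_iff.mp h4
  have : g ∈ Cfsg.pResidual p G := by rw [hres]; trivial
  exact hle this

/-- In a finite group, `g S g⁻¹ ≤ S` implies `g ∈ N(S)`. -/
theorem mem_normalizer_of_map_conj_le {G : Type*} [Group G] [Finite G] (S : Subgroup G) (g : G)
    (h : S.map (MulAut.conj g).toMonoidHom ≤ S) : g ∈ Subgroup.normalizer (S : Set G) := by
  have heq : S.map (MulAut.conj g).toMonoidHom = S := by
    apply Subgroup.eq_of_le_of_card_ge h
    rw [Subgroup.card_map_of_injective (MulAut.conj g).injective]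
  rw [Subgroup.mem_normalizer_iff]
  intro x
  constructor
  · intro hx
    exact h ⟨x, hx, rfl⟩
  · intro hx
    rw [← heq] at hx
    obtain ⟨s, hs, hsx⟩ := hx
    have : s = x := (MulAut.conj g).injective hsx
    rwa [← this]

theorem result {G : Type*} [Group G] [Finite G] (S : Sylow 2 G) : Cfsg.pResidual 2 G ≠ ⊤ ∨ Cfsg.omegaOne 2 ((S : Subgroup G) ⊓ Subgroup.centralizer ((S : Subgroup G) : Set G)) ≤ (frattini ↥(S : Subgroup G)).map (S : Subgroup G).subtype ∨ ∃ g ∈ Subgroup.normalizer ((S : Subgroup G) : Set G), ∃ z ∈ Cfsg.omegaOne 2 ((S : Subgroup G) ⊓ Subgroup.centralizer ((S : Subgroup G) : Set G)), g * z * g⁻¹ ≠ z := by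
  classical
  have : Fact (Nat.Prime 2) := ⟨Nat.prime_two⟩
  by_cases hres : Cfsg.pResidual 2 G = ⊤
  swap
  · exact Or.inl hres
  right
  by_cases hact : ∃ g ∈ Subgroup.normalizer ((S : Subgroup G) : Set G), ∃ z ∈ Cfsg.omegaOne 2 ((S : Subgroup G) ⊓ Subgroup.centralizer ((S : Subgroup G) : Set G)), g * z * g⁻¹ ≠ z
  · exact Or.inr hact
  left
  have hact' : ∀ g ∈ Subgroup.normalizer ((S : Subgroup G) : Set G), ∀ z ∈ Cfsg.omegaOne 2 ((S : Subgroup G) ⊓ Subgroup.centralizer ((S : Subgroup G) : Set G)), g * z * g⁻¹ = z := by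
    intro g hg z hz
    by_contra hne
    exact hact ⟨g, hg, z, hz, hne⟩
  unfold Cfsg.omegaOne
  rw [Subgroup.closure_le]
  rintro x ⟨hxZ, hx2⟩
  by_contra hxΦ
  have hxS : x ∈ (S : Subgroup G) := hxZ.1
  have hx' : (⟨x, hxS⟩ : (S : Subgroup G)) ∉ frattini (S : Subgroup G) := fun h => hxΦ ⟨_, h, rfl⟩
  have hx1 : x ≠ 1 := by
    intro h
    apply hxΦ
    rw [h]; exact Subgroup.one_mem _
  have hxord : orderOf x = 2 := orderOf_eq_prime hx2 hx1
  -- a maximal subgroup not containing x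
  obtain ⟨M, hM, hxM⟩ : ∃ M : Subgroup (S : Subgroup G), IsCoatom M ∧ (⟨x, hxS⟩ : (S : Subgroup G)) ∉ M := by
    by_contra hno
    apply hx'
    unfold frattini Order.radical
    rw [Subgroup.mem_iInf]
    intro M
    rw [Subgroup.mem_iInf]
    intro hM
    by_contra hxM
    exact hno ⟨M, hM, hxM⟩
  have hMn : M.Normal := Cfsg.Agent.Lib.Helper2.normal_of_isCoatom_of_isPGroup S.isPGroup' hM
  have hMidx : M.index = 2 := Cfsg.Agent.Lib.Helper2.index_of_isCoatom_of_isPGroup S.isPGroup' hM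
  set T : Subgroup G := M.map (S : Subgroup G).subtype with hT
  have hTS : T ≤ (S : Subgroup G) := Subgroup.map_subtype_le M
  have hTsub : T.subgroupOf (S : Subgroup G) = M := by
    rw [hT, Subgroup.subgroupOf, Subgroup.comap_map_eq_self_of_injective (Subgroup.subtype_injective _)]
  have hTn : (T.subgroupOf (S : Subgroup G)).Normal := by rw [hTsub]; exact hMn
  have hcard2 : Nat.card (↥(S : Subgroup G) ⧸ T.subgroupOf (S : Subgroup G)) = 2 := by
    rw [hTsub]; exact hMidx
  have hcyc : IsCyclic (↥(S : Subgroup G) ⧸ T.subgroupOf (S : Subgroup G)) :=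
    isCyclic_of_prime_card hcard2
  have hA2 : IsPGroup 2 (↥(S : Subgroup G) ⧸ T.subgroupOf (S : Subgroup G)) :=
    IsPGroup.of_card (n := 1) (by rw [hcard2, pow_one])
  have htriv : ∀ f : G →* (↥(S : Subgroup G) ⧸ T.subgroupOf (S : Subgroup G)), ∀ g, f g = 1 :=
    fun f g => hom_trivial_of_pResidual_eq_top Nat.prime_two hres hA2 f g
  have hxT : x ∉ T := by
    rintro ⟨m, hm, hmx⟩
    apply hxM
    have : m = ⟨x, hxS⟩ := Subtype.ext hmx
    rwa [← this]
  obtain ⟨g, hgT, -, hmap⟩ := Cfsg.Agent.Lib.Helper8.extremal_transfer S T hTS hcyc htriv x hxord hxS hxT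
  -- C_S(x) = S
  have hCS : (S : Subgroup G) ⊓ Subgroup.centralizer {x} = (S : Subgroup G) := by
    apply le_antisymm inf_le_left
    intro s hs
    refine Subgroup.mem_inf.mpr ⟨hs, ?_⟩
    rw [Subgroup.mem_centralizer_iff]
    intro h hh
    rw [Set.mem_singleton_iff] at hh
    subst hh
    have := (Subgroup.mem_inf.mp hxZ).2
    rw [Subgroup.mem_centralizer_iff] at this
    exact (this s hs).symm
  rw [hCS] at hmap
  have hgN : g ∈ Subgroup.normalizer ((S : Subgroup G) : Set G) :=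
    mem_normalizer_of_map_conj_le _ g (hmap.trans inf_le_left)
  have hfix := hact' g hgN x (Subgroup.subset_closure ⟨hxZ, hx2⟩)
  rw [hfix] at hgT
  exact hxT hgT

end Cfsg.Agent.S2872
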