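import Cfsg.Statements.S1977
import Cfsg.Agent.S2872
import Mathlib

set_option autoImplicit false
open Cfsg

namespace Cfsg.Agent.S1977

open scoped commutatorElement

section
variable {P : Type*} [Group P]

/-- An element commuting with `B` and with `x` centralizes `B ⊔ zpowers x`. -/
theorem mem_centralizer_sup_zpowers (B : Subgroup P) (x g : P)
    (hB : ∀ b ∈ B, b * g = g * b) (hx : x * g = g * x) :
    g ∈ Subgroup.centralizer ((B ⊔ Subgroup.zpowers x : Subgroup P) : Set P) := by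
  have h1 : B ⊔ Subgroup.zpowers x ≤ Subgroup.centralizer ({g} : Set P) := by
    apply sup_le
    · intro b hb
      rw [Subgroup.mem_centralizer_iff]
      intro h hh
      rw [Set.mem_singleton_iff] at hh
      subst hh
      exact (hB b hb).symm
    · rw [Subgroup.zpowers_le, Subgroup.mem_centralizer_iff]
      intro h hh
      rw [Set.mem_singleton_iff] at hh
      subst hh
      exact hx.symm
  rw [Subgroup.mem_centralizer_iff]
  intro h hh
  have := h1 hh
  rw [Subgroup.mem_centralizer_iff] at this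
  exact (this g rfl).symm

/-- Elements of `B ⊔ zpowers x` are of the form `b * x ^ k` when `x` centralizes `B`. -/
theorem exists_mul_zpow_of_mem_sup (B : Subgroup P) (x : P)
    (hx : ∀ b ∈ B, b * x = x * b) (g : P) (hg : g ∈ B ⊔ Subgroup.zpowers x) :
    ∃ b ∈ B, ∃ k : ℤ, g = b * x ^ k := by
  have hcomm : ∀ (b : B) (k : Multiplicative ℤ), Commute (B.subtype b) (zpowersHom P x k) := by
    intro b k
    have h1 : Commute (b : P) x := hx b b.2
    exact h1.zpow_right _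
  have hrange := MonoidHom.noncommCoprod_range B.subtype (zpowersHom P x) hcomm
  have h2 : (zpowersHom P x).range = Subgroup.zpowers x := by
    ext y
    constructor
    · rintro ⟨k, rfl⟩
      exact ⟨Multiplicative.toAdd k, rfl⟩
    · rintro ⟨k, rfl⟩
      exact ⟨Multiplicative.ofAdd k, rfl⟩
  rw [Subgroup.range_subtype, h2] at hrange
  rw [← hrange] at hg
  obtain ⟨⟨b, k⟩, rfl⟩ := hg
  exact ⟨b, b.2, Multiplicative.toAdd k, rfl⟩

/-- Commutator of products with "central" factors. -/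
theorem commutatorElement_mul_central (a b u v : P) (hub : u * b = b * u) (huv : u * v = v * u)
    (hva : v * a = a * v) (hua : u * a = a * u) : ⁅a * u, b * v⁆ = ⁅a, b⁆ := by
  have hva' : v * a⁻¹ = a⁻¹ * v := by
    have : a⁻¹ * (v * a) * a⁻¹ = a⁻¹ * (a * v) * a⁻¹ := by rw [hva]
    calc v * a⁻¹ = a⁻¹ * (a * v) * a⁻¹ := by group
      _ = a⁻¹ * (v * a) * a⁻¹ := by rw [hva]
      _ = a⁻¹ * v := by group
  rw [commutatorElement_def, commutatorElement_def]
  calc a * u * (b * v) * (a * u)⁻¹ * (b * v)⁻¹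
      = a * (u * b) * v * u⁻¹ * a⁻¹ * v⁻¹ * b⁻¹ := by group
    _ = a * (b * u) * v * u⁻¹ * a⁻¹ * v⁻¹ * b⁻¹ := by rw [hub]
    _ = a * b * (u * v) * u⁻¹ * a⁻¹ * v⁻¹ * b⁻¹ := by group
    _ = a * b * (v * u) * u⁻¹ * a⁻¹ * v⁻¹ * b⁻¹ := by rw [huv]
    _ = a * b * (v * a⁻¹) * v⁻¹ * b⁻¹ := by group
    _ = a * b * (a⁻¹ * v) * v⁻¹ * b⁻¹ := by rw [hva']
    _ = a * b * a⁻¹ * b⁻¹ := by group

/-- Core step: if `Q` normalizes the class-two subgroup `B` and `C_P(B) ⊄ B` in a nilpotent group,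
then `B` can be enlarged by an element of `C_P(B)` whose commutators with `Q` lie in `Z(B)`. -/
theorem core (hnil : Group.IsNilpotent P) (B Q : Subgroup P) [Finite P]
    (hB2 : ⁅B, B⁆ ≤ Subgroup.centralizer (B : Set P))
    (hQB : Q ≤ Subgroup.normalizer (B : Set P))
    (hC : ¬ Subgroup.centralizer (B : Set P) ≤ B) :
    ∃ B' : Subgroup P, B < B' ∧ ⁅B', B'⁆ ≤ Subgroup.centralizer (B' : Set P) ∧
      (B ⊓ Subgroup.centralizer (B : Set P) ≤ B' ⊓ Subgroup.centralizer (B' : Set P)) ∧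
      Q ≤ Subgroup.normalizer (B' : Set P) ∧
      ∀ A : Subgroup P, A ≤ Q → ⁅B, A⁆ ≤ B ⊓ Subgroup.centralizer (B : Set P) →
        ⁅B', A⁆ ≤ B ⊓ Subgroup.centralizer (B : Set P) := by
  classical
  set C := Subgroup.centralizer (B : Set P) with hCdef
  set Z := B ⊓ C with hZ
  have hCmem : ∀ c ∈ C, ∀ b ∈ B, b * c = c * b := by
    intro c hc b hb
    rw [hCdef, Subgroup.mem_centralizer_iff] at hc
    exact hc b hb
  -- (1) Q normalizes C
  have hQC : ∀ c ∈ C, ∀ q ∈ Q, ⁅c, q⁆ ∈ C := by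
    intro c hc q hq
    have hconj : q * c⁻¹ * q⁻¹ ∈ C := by
      rw [hCdef, Subgroup.mem_centralizer_iff]
      intro b hb
      have hb' : q⁻¹ * b * q ∈ B := by
        have := (Subgroup.mem_normalizer_iff.mp (inv_mem (hQB hq)) b).mp hb
        simpa using this
      have h1 := hCmem c⁻¹ (inv_mem hc) _ hb'
      calc b * (q * c⁻¹ * q⁻¹) = q * ((q⁻¹ * b * q) * c⁻¹) * q⁻¹ := by group
        _ = q * (c⁻¹ * (q⁻¹ * b * q)) * q⁻¹ := by rw [h1]
        _ = q * c⁻¹ * q⁻¹ * b := by group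
    have : ⁅c, q⁆ = c * (q * c⁻¹ * q⁻¹) := by rw [commutatorElement_def]; group
    rw [this]
    exact mul_mem hc hconj
  -- (2) the chain
  let Cs : ℕ → Subgroup P := fun i => Nat.rec C (fun _ D => ⁅D, Q⁆) i
  have hCs0 : Cs 0 = C := rfl
  have hCsS : ∀ i, Cs (i + 1) = ⁅Cs i, Q⁆ := fun i => rfl
  have hCsC : ∀ i, Cs i ≤ C := by
    intro i
    induction i with
    | zero => exact le_rfl
    | succ i ih =>
      rw [hCsS, Subgroup.commutator_le]
      intro c hc q hq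
      exact hQC c (ih hc) q hq
  have hCslcs : ∀ i, Cs i ≤ Subgroup.lowerCentralSeries (⊤ : Subgroup P) i := by
    intro i
    induction i with
    | zero => exact le_top
    | succ i ih =>
      rw [hCsS, Subgroup.lowerCentralSeries_succ]
      exact Subgroup.commutator_mono ih le_top
  obtain ⟨n, hn⟩ := Subgroup.nilpotent_iff_lowerCentralSeries.mp hnil
  have hex : ∃ i, Cs i ≤ B := ⟨n, by
    have := hCslcs n
    rw [hn] at this
    exact this.trans bot_le⟩
  obtain ⟨i₀, hi₀, hmin⟩ : ∃ i₀, Cs i₀ ≤ B ∧ ∀ m < i₀, ¬ Cs m ≤ B := by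
    have hdec : DecidablePred fun n => Cs n ≤ B := Classical.decPred _
    exact ⟨Nat.find hex, Nat.find_spec hex, fun m hm => Nat.find_min hex hm⟩
  have hi0 : i₀ ≠ 0 := by
    intro h0
    rw [h0, hCs0] at hi₀
    exact hC hi₀
  obtain ⟨j, hj⟩ : ∃ j, i₀ = j + 1 := ⟨i₀ - 1, by omega⟩
  have hjnot : ¬ Cs j ≤ B := hmin j (by omega)
  have hj1 : Cs (j + 1) ≤ B := by rw [← hj]; exact hi₀
  obtain ⟨x, hxCs, hxB⟩ := SetLike.not_le_iff_exists.mp hjnot
  have hxC : x ∈ C := hCsC j hxCs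
  have hxQ : ∀ q ∈ Q, ⁅x, q⁆ ∈ Z := by
    intro q hq
    have h1 : ⁅x, q⁆ ∈ Cs (j + 1) := by
      rw [hCsS]; exact Subgroup.commutator_mem_commutator hxCs hq
    exact Subgroup.mem_inf.mpr ⟨hj1 h1, hCsC (j + 1) h1⟩
  have hxcomm : ∀ b ∈ B, b * x = x * b := fun b hb => hCmem x hxC b hb
  -- the subgroup U
  let U : Subgroup P :=
    { carrier := {u | u ∈ C ∧ ∀ q ∈ Q, ⁅u, q⁆ ∈ Z}
      one_mem' := by
        refine ⟨C.one_mem, fun q _ => ?_⟩
        rw [commutatorElement_one_left]; exact Z.one_mem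
      mul_mem' := by
        rintro u v ⟨huC, hu⟩ ⟨hvC, hv⟩
        refine ⟨mul_mem huC hvC, fun q hq => ?_⟩
        have hvq := hv q hq
        have hvqB : ⁅v, q⁆ ∈ B := (Subgroup.mem_inf.mp hvq).1
        have h1 := hCmem u huC _ hvqB
        have : ⁅u * v, q⁆ = ⁅v, q⁆ * ⁅u, q⁆ := by
          have e : ⁅u * v, q⁆ = u * ⁅v, q⁆ * u⁻¹ * ⁅u, q⁆ := by
            simp only [commutatorElement_def]; group
          rw [e, ← h1]; group
        rw [this]
        exact mul_mem hvq (hu q hq)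
      inv_mem' := by
        rintro u ⟨huC, hu⟩
        refine ⟨inv_mem huC, fun q hq => ?_⟩
        have huq := hu q hq
        have huqB : ⁅u, q⁆⁻¹ ∈ B := inv_mem (Subgroup.mem_inf.mp huq).1
        have h1 := hCmem u⁻¹ (inv_mem huC) _ huqB
        have : ⁅u⁻¹, q⁆ = ⁅u, q⁆⁻¹ := by
          have e : ⁅u⁻¹, q⁆ = u⁻¹ * ⁅u, q⁆⁻¹ * u := by
            simp only [commutatorElement_def]; group
          rw [e, ← h1]; group
        rw [this]
        exact inv_mem huq }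
  have hxU : x ∈ U := ⟨hxC, hxQ⟩
  have hpowU : ∀ k : ℤ, x ^ k ∈ U := fun k => zpow_mem hxU k
  set B' : Subgroup P := B ⊔ Subgroup.zpowers x with hB'
  have hBB' : B ≤ B' := le_sup_left
  have hxB' : x ∈ B' := (le_sup_right : Subgroup.zpowers x ≤ B') (Subgroup.mem_zpowers x)
  have hdecomp := exists_mul_zpow_of_mem_sup B x hxcomm
  have hZB' : Z ≤ B' ⊓ Subgroup.centralizer (B' : Set P) := by
    intro z hz
    obtain ⟨hzB, hzC⟩ := Subgroup.mem_inf.mp hz
    refine Subgroup.mem_inf.mpr ⟨hBB' hzB, ?_⟩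
    apply mem_centralizer_sup_zpowers
    · intro b hb; exact hCmem z hzC b hb
    · exact (hxcomm z hzB).symm
  refine ⟨B', ?_, ?_, hZB', ?_, ?_⟩
  · exact lt_of_le_of_ne hBB' (fun h => hxB (by rw [h]; exact hxB'))
  · rw [Subgroup.commutator_le]
    intro g₁ hg₁ g₂ hg₂
    obtain ⟨b₁, hb₁, k, rfl⟩ := hdecomp g₁ hg₁
    obtain ⟨b₂, hb₂, l, rfl⟩ := hdecomp g₂ hg₂
    have hxk : ∀ (k : ℤ) (b : P), b ∈ B → x ^ k * b = b * x ^ k := by
      intro k b hb
      have : Commute b x := hxcomm b hb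
      exact (this.zpow_right k).symm
    rw [commutatorElement_mul_central b₁ b₂ (x ^ k) (x ^ l) (hxk k b₂ hb₂)
      ((Commute.refl x).zpow_zpow k l) (hxk l b₁ hb₁) (hxk k b₁ hb₁)]
    have hcB : ⁅b₁, b₂⁆ ∈ ⁅B, B⁆ := Subgroup.commutator_mem_commutator hb₁ hb₂
    have hcC : ⁅b₁, b₂⁆ ∈ C := hB2 hcB
    have hcB' : ⁅b₁, b₂⁆ ∈ B := by
      rw [commutatorElement_def]
      exact mul_mem (mul_mem (mul_mem hb₁ hb₂) (inv_mem hb₁)) (inv_mem hb₂)
    apply mem_centralizer_sup_zpowers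
    · intro b hb; exact hCmem _ hcC b hb
    · exact (hxcomm _ hcB').symm
  · intro q hq
    apply Cfsg.Agent.S2872.mem_normalizer_of_map_conj_le
    rw [hB', Subgroup.map_sup]
    apply sup_le
    · rintro _ ⟨b, hb, rfl⟩
      apply hBB'
      exact (Subgroup.mem_normalizer_iff.mp (hQB hq) b).mp hb
    · rw [MonoidHom.map_zpowers, Subgroup.zpowers_le]
      have e : (MulAut.conj q).toMonoidHom x = ⁅x, q⁆⁻¹ * x := by
        simp only [MulEquiv.coe_toMonoidHom, MulAut.conj_apply, commutatorElement_def]; group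
      rw [e]
      exact mul_mem (hBB' (inv_mem (Subgroup.mem_inf.mp (hxQ q hq)).1)) hxB'
  · intro A hAQ hBA
    rw [Subgroup.commutator_le]
    intro g hg a ha
    obtain ⟨b, hb, k, rfl⟩ := hdecomp g hg
    have huU := hpowU k
    have hua : ⁅x ^ k, a⁆ ∈ Z := huU.2 a (hAQ ha)
    have hba : ⁅b, a⁆ ∈ Z := hBA (Subgroup.commutator_mem_commutator hb ha)
    have h1 := hCmem _ (Subgroup.mem_inf.mp hua).2 b hb
    have : ⁅b * x ^ k, a⁆ = ⁅x ^ k, a⁆ * ⁅b, a⁆ := by
      have e : ⁅b * x ^ k, a⁆ = b * ⁅x ^ k, a⁆ * b⁻¹ * ⁅b, a⁆ := by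
        simp only [commutatorElement_def]; group
      rw [e, h1]; group
    rw [this]
    exact mul_mem hua hba

end

theorem result {P : Type*} [Group P] [Finite P] {p : ℕ} [Fact p.Prime] (hP : IsPGroup p P) (B : Subgroup P) (𝒦 : Set (Subgroup P)) (h𝒦 : 𝒦 = Cfsg.classTwoSubgroups P ∨ (∃ n, 𝒦 = Cfsg.kLowerStarFamily (Cfsg.kSeqOdd P n)) ∨ ∃ n, 𝒦 = Cfsg.kUpperStarFamily (Cfsg.kSeqEven P n)) (hB : B ∈ 𝒦) (hmax : ∀ C ∈ 𝒦, B ≤ C → C = B) : Subgroup.centralizer (B : Set P) ≤ B := by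
  by_contra hC
  have hnil : Group.IsNilpotent P := hP.isNilpotent
  rcases h𝒦 with h | ⟨n, h⟩ | ⟨n, h⟩
  · -- class two family
    subst h
    have hB2 : ⁅B, B⁆ ≤ Subgroup.centralizer (B : Set P) := hB
    obtain ⟨B', hlt, hB'2, -, -, -⟩ := core hnil B ⊥ hB2 bot_le hC
    have := hmax B' hB'2 hlt.le
    exact hlt.ne this.symm
  · -- lower star family
    subst h
    set Q := Cfsg.kSeqOdd P n with hQ
    obtain ⟨hB2, hQB, hcond⟩ := hB
    obtain ⟨B', hlt, hB'2, hZZ, hQB', hA⟩ := core hnil B Q hB2 hQB hC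
    have hB'mem : B' ∈ Cfsg.kLowerStarFamily Q := by
      refine ⟨hB'2, hQB', ?_⟩
      intro A hA2 hAQ hB'A hc1 hc2
      have h1 : ⁅B, A⁆ ≤ B ⊓ Subgroup.centralizer (B : Set P) := by
        apply hcond A hA2 hAQ (hlt.le.trans hB'A)
        · rw [eq_bot_iff, ← hc1]
          exact Subgroup.commutator_mono hlt.le le_rfl
        · rw [eq_bot_iff, ← hc2]
          exact Subgroup.commutator_mono (Subgroup.commutator_mono hZZ le_rfl) le_rfl
      exact (hA A hAQ h1).trans hZZ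
    have := hmax B' hB'mem hlt.le
    exact hlt.ne this.symm
  · -- upper star family
    subst h
    set Q := Cfsg.kSeqEven P n with hQ
    obtain ⟨hB2, hBQ⟩ := hB
    have hQB : Q ≤ Subgroup.normalizer (B : Set P) :=
      Subgroup.le_normalizer_iff_commutator_le_left.mpr (hBQ.trans inf_le_left)
    obtain ⟨B', hlt, hB'2, hZZ, hQB', hA⟩ := core hnil B Q hB2 hQB hC
    have hB'mem : B' ∈ Cfsg.kUpperStarFamily Q := ⟨hB'2, (hA Q le_rfl hBQ).trans hZZ⟩
    have := hmax B' hB'mem hlt.le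
    exact hlt.ne this.symm

end Cfsg.Agent.S1977
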