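import Cfsg.Statements.S1981
import Cfsg.Agent.S1980

set_option autoImplicit false
open Cfsg

namespace Cfsg.Agent.S1981

theorem result {P : Type*} [Group P] [Finite P] {p : ℕ} [Fact p.Prime] (hP : IsPGroup p P) (hgen : ⨆ A ∈ {A : Subgroup P | A.Normal ∧ IsMulCommutative ↥A}, A = ⊤) : Cfsg.kInfLower P = ⊤ ∧ Cfsg.kInfUpper P = ⊤ := by
  have hEven : ∀ n, Cfsg.kSeqEven P n = ⊤ := by
    intro n
    rw [eq_top_iff, ← hgen]
    apply iSup₂_le
    intro A hA
    obtain ⟨hAn, hAc⟩ := hA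
    exact le_sSup (Cfsg.Agent.S1980.abelian_normal_mem_lower A hAc _)
  have hOdd : ∀ n, Cfsg.kSeqOdd P n = ⊤ := by
    intro n
    cases n with
    | zero => rfl
    | succ n =>
      rw [eq_top_iff, ← hgen]
      apply iSup₂_le
      intro A hA
      obtain ⟨hAn, hAc⟩ := hA
      show A ≤ sSup (Cfsg.kUpperStarFamily (sSup (Cfsg.kLowerStarFamily (Cfsg.kSeqOdd P n))))
      exact le_sSup (Cfsg.Agent.S1980.abelian_normal_mem_upper A hAc _)
  constructor
  · unfold Cfsg.kInfLower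
    rw [eq_top_iff]
    exact le_iSup_of_le 0 (hEven 0).ge
  · unfold Cfsg.kInfUpper
    rw [eq_top_iff]
    exact le_iInf fun n => (hOdd n).ge

end Cfsg.Agent.S1981
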