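import Cfsg.Statements.S1983
import Cfsg.Agent.Lib.Helper1.KInfQuarticZ

set_option autoImplicit false
universe u
open Cfsg

namespace Cfsg.Agent.S1983

/-- Let p be a prime, G a finite group with Sylow p-subgroup S and T = O_p(G). Suppose that the lower or the upper K-infinity subgroup of S is not normal in G. Then there is an element g of S outside T such that [X, g, g, g, g] ≤ Y for every chief factor X/Y of G with X ≤ T, and [Z(T), g, g] = 1; and if moreover C_G(T) ≤ T then some quotient group of G is not p-stable (in the normalizer form: some quadratically acting element of a normalizer fails to map into O_p of the automizer). -/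
theorem result {G : Type u} [Group G] [Finite G] {p : ℕ} [Fact p.Prime] (S : Sylow p G) (hK : ¬ (Cfsg.inducedFunctor Cfsg.kInfLower (S : Subgroup G)).Normal ∨ ¬ (Cfsg.inducedFunctor Cfsg.kInfUpper (S : Subgroup G)).Normal) : ∃ g : G, g ∈ (S : Subgroup G) ∧ g ∉ (Cfsg.pCore p G) ∧ (∀ U V : Subgroup G, Cfsg.IsChiefFactor U V → U ≤ (Cfsg.pCore p G) → Cfsg.iterCommutator U (Subgroup.zpowers g) 4 ≤ V) ∧ ⁅⁅((Cfsg.pCore p G) ⊓ Subgroup.centralizer (((Cfsg.pCore p G) : Subgroup G) : Set G)), (Subgroup.zpowers g)⁆, (Subgroup.zpowers g)⁆ = ⊥ ∧ (Subgroup.centralizer (((Cfsg.pCore p G) : Subgroup G) : Set G) ≤ (Cfsg.pCore p G) → ∃ (N : Subgroup G) (_ : N.Normal), ¬ Cfsg.IsNormalizerPStable p (G ⧸ N)) := by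
  have hWl := Cfsg.Agent.Lib.Helper1.KInfC.isCharPFunctor_kInfLower.{u} (p := p)
  have hWu := Cfsg.Agent.Lib.Helper1.KInfC.isCharPFunctor_kInfUpper.{u} (p := p)
  have hsl : ∀ (P : Type u) [Group P] [Finite P], IsPGroup p P → ∀ Q : Subgroup P,
      (∀ n : ℕ, kSeqEven P n ≤ Q ∧ kSeqOdd P (n + 1) ≤ Q) →
      (kInfLower ↥Q).map Q.subtype = kInfLower P :=
    fun P _ _ hP Q hQ => Cfsg.Agent.Lib.Helper1.KInfC.hsub_lower P hP Q hQ
  have hsu : ∀ (P : Type u) [Group P] [Finite P], IsPGroup p P → ∀ Q : Subgroup P,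
      (∀ n : ℕ, kSeqEven P n ≤ Q ∧ kSeqOdd P (n + 1) ≤ Q) →
      (kInfUpper ↥Q).map Q.subtype = kInfUpper P :=
    fun P _ _ hP Q hQ => Cfsg.Agent.Lib.Helper1.KInfC.hsub_upper P hP Q hQ
  by_cases hc : Subgroup.centralizer (((Cfsg.pCore p G) : Subgroup G) : Set G) ≤ (Cfsg.pCore p G) ∧
      ∀ (N : Subgroup G) (_ : N.Normal), Cfsg.IsNormalizerPStable p (G ⧸ N)
  · exfalso
    rcases hK with h | h
    · exact h (Cfsg.Agent.Lib.Helper1.KStab.kc_normal kInfLower hWl hsl
        (fun N _ => hc.2 N inferInstance) hc.1 S)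
    · exact h (Cfsg.Agent.Lib.Helper1.KStab.kc_normal kInfUpper hWu hsu
        (fun N _ => hc.2 N inferInstance) hc.1 S)
  · have hc' : Subgroup.centralizer (((Cfsg.pCore p G) : Subgroup G) : Set G) ≤ (Cfsg.pCore p G) →
        ∃ (N : Subgroup G) (_ : N.Normal), ¬ Cfsg.IsNormalizerPStable p (G ⧸ N) := by
      intro h1
      by_contra h2
      apply hc
      refine ⟨h1, fun N hN => ?_⟩
      by_contra h3
      exact h2 ⟨N, hN, h3⟩
    rcases hK with h | h
    · obtain ⟨g, hgS, hgT, hq, hz⟩ :=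
        Cfsg.Agent.Lib.Helper1.KInfQ2.exists_quartic_of_not_normal' kInfLower hWl hsl S h
      exact ⟨g, hgS, hgT, hq, hz, hc'⟩
    · obtain ⟨g, hgS, hgT, hq, hz⟩ :=
        Cfsg.Agent.Lib.Helper1.KInfQ2.exists_quartic_of_not_normal' kInfUpper hWu hsu S h
      exact ⟨g, hgS, hgT, hq, hz, hc'⟩

end Cfsg.Agent.S1983
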