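import Cfsg.Statements.S1985
import Cfsg.Agent.Lib.Helper1.KInfControl
import Cfsg.Agent.S1973
import Cfsg.Agent.S1974

set_option autoImplicit false
universe u
open Cfsg

namespace Cfsg.Agent.S1985

/-- Let p be an odd prime and G a finite group. Then the lower K-infinity subgroup controls weak closure of elements in G: the lower K-infinity subgroup of every p-subgroup P of G contains Z(P), and for some (equivalently, every) Sylow p-subgroup S of G, with K the lower K-infinity subgroup of S, every element of S commuting with all of N_G(K) is weakly closed in S with respect to G (every G-conjugate of it lying in S equals it). -/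
theorem result {G : Type u} [Group G] [Finite G] {p : ℕ} [Fact p.Prime] (hp : p ≠ 2) : Cfsg.ControlsWeakClosureOfElementsIn p (Cfsg.inducedFunctor (G := G) Cfsg.kInfLower) ⊤ := by
  have hp' : p.Prime := Fact.out
  have hp3 : 2 ≤ p - 1 := by
    have := hp'.two_le
    omega
  have hW₀ := Cfsg.Agent.Lib.Helper1.KInfC.isCharPFunctor_kInfLower.{u} (p := p)
  have hW := Cfsg.Agent.Lib.Helper1.SecT.isConjugacyFunctor_induced (X := G) Cfsg.kInfLower hW₀
  have hWZ : ∀ P : Subgroup G, IsPGroup p ↥P →
      P ⊓ Subgroup.centralizer ((P : Subgroup G) : Set G) ≤ Cfsg.inducedFunctor Cfsg.kInfLower P :=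
    fun P hP => Cfsg.Agent.Lib.Helper1.KInfC.center_le_induced Cfsg.kInfLower
      (fun P' _ _ hP' => Cfsg.Agent.Lib.Helper1.KInfC.center_le_kInfLower hP') P hP
  refine Cfsg.Agent.S1973.result (Cfsg.inducedFunctor (G := G) Cfsg.kInfLower) hW hWZ ?_ ⊤
  intro H T hTH hTp hTs hnot
  obtain ⟨g, hgT, hgP, hq⟩ := Cfsg.Agent.Lib.Helper1.KInfC.hloc_quadratic Cfsg.kInfLower hW₀
    (fun P _ _ hP Q hQ => Cfsg.Agent.Lib.Helper1.KInfC.hsub_lower P hP Q hQ) H T hTH hTp hTs hnot
  refine ⟨g, hgT, hgP, ?_⟩
  intro U V _ hU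
  have h1 : ⁅⁅U.map H.subtype, Subgroup.zpowers g⁆, Subgroup.zpowers g⁆ = ⊥ := by
    rw [eq_bot_iff, ← hq]
    exact Subgroup.commutator_mono (Subgroup.commutator_mono hU le_rfl) le_rfl
  rw [Cfsg.Agent.Lib.Helper1.KInfC.iterCommutator_eq_bot_of_two _ _ h1 (p - 1) hp3]
  exact bot_le

end Cfsg.Agent.S1985
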