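import Cfsg.Statements.S1990
import Cfsg.Agent.S2005
import Cfsg.Agent.Lib.Lead.QuadStable

set_option autoImplicit false
set_option linter.unusedSectionVars false
universe u
open Cfsg

namespace Cfsg.Agent.S1990

open Subgroup Cfsg.Agent.Lib.Helper13
open scoped commutatorElement

section Cfg

variable {p : ℕ} [hp : Fact p.Prime]

/-- the class of groups `X` with normal subgroups `Q ≤ T`-like data: `Q` a `p`-group, `T / Q` abelian of
exponent prime to `p`, `X / T` a `p`-group -/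
def Cfg (p : ℕ) (X : Type u) [Group X] : Prop :=
  ∃ (T Q : Subgroup X) (m : ℕ), T.Normal ∧ Q.Normal ∧ IsPGroup p Q ∧ (∃ k : ℕ, T.index = p ^ k) ∧
    (∀ a ∈ T, ∀ b ∈ T, (b * a)⁻¹ * (a * b) ∈ Q) ∧ m.Coprime p ∧ ∀ y ∈ T, y ^ m ∈ Q

theorem Cfg.subgroup {X : Type u} [Group X] (h : Cfg p X) (H : Subgroup X) : Cfg p ↥H := by
  obtain ⟨T, Q, m, hTn, hQn, hQp, ⟨k, hk⟩, hab, hm, hexp⟩ := h
  refine ⟨T.subgroupOf H, Q.subgroupOf H, m, hTn.subgroupOf H, hQn.subgroupOf H,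
    hQp.comap_subtype, ?_, ?_, hm, ?_⟩
  · haveI := hTn
    have h1 : (T.subgroupOf H).index ∣ p ^ k := by
      rw [← hk]
      exact Subgroup.relIndex_dvd_index_of_normal T H
    obtain ⟨j, -, hj⟩ := (Nat.dvd_prime_pow hp.out).1 h1
    exact ⟨j, hj⟩
  · intro a ha b hb
    rw [mem_subgroupOf] at ha hb ⊢
    exact hab _ ha _ hb
  · intro y hy
    rw [mem_subgroupOf] at hy ⊢
    exact hexp _ hy

theorem Cfg.quotient {X : Type u} [Group X] (h : Cfg p X) (N : Subgroup X) [N.Normal] :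
    Cfg p (X ⧸ N) := by
  obtain ⟨T, Q, m, hTn, hQn, hQp, ⟨k, hk⟩, hab, hm, hexp⟩ := h
  have hsurj := QuotientGroup.mk'_surjective N
  refine ⟨T.map (QuotientGroup.mk' N), Q.map (QuotientGroup.mk' N), m, hTn.map _ hsurj,
    hQn.map _ hsurj, hQp.map _, ?_, ?_, hm, ?_⟩
  · have h1 : (T.map (QuotientGroup.mk' N)).index ∣ p ^ k := by
      rw [← hk]
      exact Subgroup.index_map_dvd T hsurj
    obtain ⟨j, -, hj⟩ := (Nat.dvd_prime_pow hp.out).1 h1
    exact ⟨j, hj⟩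
  · rintro _ ⟨a, ha, rfl⟩ _ ⟨b, hb, rfl⟩
    exact ⟨(b * a)⁻¹ * (a * b), hab a ha b hb, by simp⟩
  · rintro _ ⟨y, hy, rfl⟩
    exact ⟨y ^ m, hexp y hy, by simp⟩

theorem sup_sylow_eq_top {X : Type u} [Group X] [Finite X] (T : Subgroup X) (k : ℕ)
    (hk : T.index = p ^ k) (P : Sylow p X) : T ⊔ (P : Subgroup X) = ⊤ := by
  rw [← Subgroup.index_eq_one]
  have h1 : (T ⊔ (P : Subgroup X)).index ∣ p ^ k := by
    rw [← hk]; exact Subgroup.index_dvd_of_le le_sup_left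
  have h2 : (T ⊔ (P : Subgroup X)).index ∣ (P : Subgroup X).index :=
    Subgroup.index_dvd_of_le le_sup_right
  obtain ⟨i, -, hi⟩ := (Nat.dvd_prime_pow hp.out).1 h1
  rcases i with _ | i
  · simpa using hi
  · exfalso
    apply P.not_dvd_index
    refine dvd_trans ?_ h2
    rw [hi]
    exact dvd_pow_self p (Nat.succ_ne_zero i)

theorem mem_pCore_congr {Y : Type u} [Group Y] (C₁ C₂ : Subgroup Y) [h₁ : C₁.Normal]
    [h₂ : C₂.Normal] (h : C₁ = C₂) (a : Y)
    (ha : (QuotientGroup.mk a : Y ⧸ C₁) ∈ Cfsg.pCore p (Y ⧸ C₁)) :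
    (QuotientGroup.mk a : Y ⧸ C₂) ∈ Cfsg.pCore p (Y ⧸ C₂) := by
  subst h
  exact ha

theorem Cfg.nps {X : Type u} [Group X] [Finite X] (hp2 : p ≠ 2) (h : Cfg p X) :
    Cfsg.IsNormalizerPStable p X := by
  intro P hP g hg hquad
  obtain ⟨T', Q', m, hTn, hQn, hQp, ⟨k, hk⟩, hab, hm, hexp⟩ :=
    h.subgroup (normalizer (P : Set X))
  haveI := hTn
  haveI := hQn
  obtain ⟨P', hP'⟩ : ∃ P' : Subgroup ↥(normalizer (P : Set X)),
      P' = P.subgroupOf (normalizer (P : Set X)) := ⟨_, rfl⟩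
  haveI hP'n : P'.Normal := by rw [hP']; exact Subgroup.normal_in_normalizer
  have hP'p : IsPGroup p P' := by rw [hP']; exact hP.comap_subtype
  have hQ''p : IsPGroup p (Q' ⊔ P' : Subgroup ↥(normalizer (P : Set X))) :=
    IsPGroup.to_sup_of_normal_right hQp hP'p
  have hker : (QuotientGroup.mk' (Q' ⊔ P')).ker = Q' ⊔ P' := QuotientGroup.ker_mk' _
  have hlift : ∀ a ∈ T' ⊔ P', ∃ t ∈ T', (QuotientGroup.mk' (Q' ⊔ P')) t
      = (QuotientGroup.mk' (Q' ⊔ P')) a := by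
    intro a ha
    have h1 : (QuotientGroup.mk' (Q' ⊔ P')) a ∈ (T' ⊔ P').map (QuotientGroup.mk' (Q' ⊔ P')) :=
      mem_map_of_mem _ ha
    have h2 : P'.map (QuotientGroup.mk' (Q' ⊔ P')) = ⊥ := by
      rw [← le_bot_iff]
      rintro _ ⟨x, hx, rfl⟩
      rw [mem_bot, ← MonoidHom.mem_ker, hker]
      exact (le_sup_right : P' ≤ Q' ⊔ P') hx
    rw [Subgroup.map_sup, h2, sup_bot_eq] at h1
    obtain ⟨t, ht, hta⟩ := h1
    exact ⟨t, ht, hta⟩
  have hab'' : ∀ a ∈ T' ⊔ P', ∀ b ∈ T' ⊔ P', (b * a)⁻¹ * (a * b) ∈ Q' ⊔ P' := by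
    intro a ha b hb
    obtain ⟨t₁, ht₁, h₁⟩ := hlift a ha
    obtain ⟨t₂, ht₂, h₂⟩ := hlift b hb
    rw [← hker, MonoidHom.mem_ker]
    have h3 : (QuotientGroup.mk' (Q' ⊔ P')) ((t₂ * t₁)⁻¹ * (t₁ * t₂)) = 1 := by
      rw [← MonoidHom.mem_ker, hker]
      exact (le_sup_left : Q' ≤ Q' ⊔ P') (hab t₁ ht₁ t₂ ht₂)
    rw [map_mul, map_inv, map_mul, map_mul] at h3 ⊢
    rw [← h₁, ← h₂]
    exact h3
  have hexp'' : ∀ y ∈ T' ⊔ P', y ^ m ∈ Q' ⊔ P' := by
    intro y hy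
    obtain ⟨t, ht, h₁⟩ := hlift y hy
    rw [← hker, MonoidHom.mem_ker, map_pow, ← h₁, ← map_pow, ← MonoidHom.mem_ker, hker]
    exact (le_sup_left : Q' ≤ Q' ⊔ P') (hexp t ht)
  have hidx : ∃ j : ℕ, (T' ⊔ P' : Subgroup ↥(normalizer (P : Set X))).index = p ^ j := by
    have h1 : (T' ⊔ P' : Subgroup ↥(normalizer (P : Set X))).index ∣ p ^ k := by
      rw [← hk]; exact Subgroup.index_dvd_of_le le_sup_left
    obtain ⟨j, -, hj⟩ := (Nat.dvd_prime_pow hp.out).1 h1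
    exact ⟨j, hj⟩
  obtain ⟨j, hj⟩ := hidx
  let P₀ : Sylow p ↥(normalizer (P : Set X)) := default
  have hsup := sup_sylow_eq_top (T' ⊔ P') j hj P₀
  have hst := Cfsg.Agent.Lib.Lead.QuadStable.isPStableOn_of_config hp2 P₀ hQ''p hsup hab'' hm hexp''
    P' le_sup_right
  -- the quadratic hypothesis inside the normalizer
  have hquad' : ⁅⁅P', zpowers (⟨g, hg⟩ : ↥(normalizer (P : Set X)))⁆,
      zpowers (⟨g, hg⟩ : ↥(normalizer (P : Set X)))⁆ = ⊥ := by
    rw [← Subgroup.map_eq_bot_iff_of_injective _ (normalizer (P : Set X)).subtype_injective,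
      Subgroup.map_commutator, Subgroup.map_commutator, MonoidHom.map_zpowers, hP',
      Subgroup.subgroupOf_map_subtype, inf_of_le_left le_normalizer]
    exact hquad
  have h1 := hst ⟨g, hg⟩ hquad'
  have hceq : centralizer ((P' : Subgroup ↥(normalizer (P : Set X))) :
      Set ↥(normalizer (P : Set X))) = (centralizer (P : Set X)).subgroupOf (normalizer (P : Set X)) := by
    ext x
    rw [mem_subgroupOf, mem_centralizer_iff, mem_centralizer_iff, hP']
    constructor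
    · intro h y hy
      have := h ⟨y, le_normalizer hy⟩ (by rw [SetLike.mem_coe, mem_subgroupOf]; exact hy)
      exact congrArg Subtype.val this
    · intro h y hy
      rw [SetLike.mem_coe, mem_subgroupOf] at hy
      exact Subtype.ext (h _ hy)
  exact mem_pCore_congr _ _ hceq _ h1

theorem cfg_of_coatom {X : Type u} [Group X] [Finite X] (T : Sylow p X)
    (hT : IsCoatom (T : Subgroup X))
    (hC : centralizer (Cfsg.pCore p X : Set X) ≤ Cfsg.pCore p X)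
    (hNPC : Cfsg.HasNormalPComplement p (X ⧸ Cfsg.pCore p X)) : Cfg p X := by
  have hQT : Cfsg.pCore p X ≤ (T : Subgroup X) := Cfsg.Agent.Lib.Helper16.pCore_le_sylow T
  have hquot : NPC p (X ⧸ Cfsg.pCore p X) := npc_iff.1 hNPC
  have hG : ¬ NPC p X := by
    intro h
    have h1 := eq_sylow_of_le_of_npc T (Cfsg.pCore p X) hQT hC ⊤ le_top (NPC.to_top h)
    exact hT.1 h1.symm
  have hmax : ∀ M : Subgroup X, (T : Subgroup X) ≤ M → M ≠ ⊤ → M = T := by
    intro M hTM hM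
    by_contra hne
    exact hM (hT.2 M (lt_of_le_of_ne hTM (fun h => hne h.symm)))
  obtain ⟨T₁, hT₁n, hQT₁, hsup, hab, m, hm, hexp⟩ :=
    exists_T T (Cfsg.pCore p X) hQT hquot hG hmax
  refine ⟨T₁, Cfsg.pCore p X, m, hT₁n, inferInstance,
    Cfsg.Agent.Lib.Helper16.pCore_isPGroup p X, ?_, hab, hm, hexp⟩
  haveI := hT₁n
  have h1 : T₁.index = T₁.relIndex (T : Subgroup X) := by
    rw [← Subgroup.relIndex_top_right, ← hsup, Subgroup.relIndex_sup_left]
  obtain ⟨n, hn⟩ := IsPGroup.iff_card.mp T.2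
  have h2 : T₁.index ∣ p ^ n := by
    rw [h1, ← hn]; exact Subgroup.relIndex_dvd_card _ _
  obtain ⟨j, -, hj⟩ := (Nat.dvd_prime_pow hp.out).1 h2
  exact ⟨j, hj⟩

end Cfg

/-- Let p be an odd prime, G a finite group with Sylow p-subgroup S, and W an isomorphism-invariant p-group functor (W assigns to every group Q a subgroup W(Q), nontrivial whenever Q is a nontrivial finite p-group, and every isomorphism from a finite p-group Q onto a group R carries W(Q) onto W(R)). Suppose N_G(W(S)) has a normal p-complement, and W(T) controls strong fusion in every section G* = K/R of G all of whose sections are p-stable in the normalizer form, for every Sylow p-subgroup T of G*. Then G has a normal p-complement. -/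
theorem result {G : Type u} [Group G] [Finite G] {p : ℕ} [Fact p.Prime] (hp : p ≠ 2) (W : ∀ (Q : Type u) [Group Q], Subgroup Q) (hW : Cfsg.IsCharPFunctor.{u} p W) (S : Sylow p G) (hN : Cfsg.HasNormalPComplement p ↥(Subgroup.normalizer ((Cfsg.inducedFunctor (G := G) W (S : Subgroup G) : Subgroup G) : Set G))) (hctl : ∀ (K R : Subgroup G) [hR : (R.subgroupOf K).Normal], (∀ (K' R' : Subgroup (↥K ⧸ R.subgroupOf K)) [hR' : (R'.subgroupOf K').Normal], Cfsg.IsNormalizerPStable p (↥K' ⧸ R'.subgroupOf K')) → ∀ T : Sylow p (↥K ⧸ R.subgroupOf K), Cfsg.ControlsStrongFusion p (Cfsg.inducedFunctor (G := (↥K ⧸ R.subgroupOf K)) W (T : Subgroup (↥K ⧸ R.subgroupOf K)))) : Cfsg.HasNormalPComplement p G := by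
  apply Cfsg.Agent.S2005.result W hW S hN
  intro K R hR hC hNPC T hT
  have hcfg : Cfg p (↥K ⧸ R.subgroupOf K) := cfg_of_coatom T hT hC hNPC
  obtain ⟨T', hUT', hctlA⟩ := hctl K R
    (fun K' R' hR' => ((hcfg.subgroup K').quotient (R'.subgroupOf K')).nps hp) T
  rw [← Subgroup.normalizer_eq_top_iff, eq_top_iff]
  intro y _
  have hOT' : Cfsg.pCore p (↥K ⧸ R.subgroupOf K) ≤ (T' : Subgroup (↥K ⧸ R.subgroupOf K)) :=
    Cfsg.Agent.Lib.Helper16.pCore_le_sylow T'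
  have hOT : Cfsg.pCore p (↥K ⧸ R.subgroupOf K) ≤ (T : Subgroup (↥K ⧸ R.subgroupOf K)) :=
    Cfsg.Agent.Lib.Helper16.pCore_le_sylow T
  have hOn : (Cfsg.pCore p (↥K ⧸ R.subgroupOf K)).Normal := inferInstance
  obtain ⟨-, hctlO⟩ := hctlA (Cfsg.pCore p (↥K ⧸ R.subgroupOf K) : Set (↥K ⧸ R.subgroupOf K)) hOT'
  obtain ⟨x, hx, hxa⟩ := hctlO y (by
    rintro _ ⟨a, ha, rfl⟩
    exact hOT' (hOn.conj_mem a ha y))
  have hTN : (T : Subgroup (↥K ⧸ R.subgroupOf K)) ≤ normalizer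
      ((Cfsg.inducedFunctor (G := (↥K ⧸ R.subgroupOf K)) W
        (T : Subgroup (↥K ⧸ R.subgroupOf K)) : Subgroup (↥K ⧸ R.subgroupOf K)) :
          Set (↥K ⧸ R.subgroupOf K)) :=
    le_normalizer.trans (Cfsg.Agent.S2005.normalizer_le_normalizer_induced hW _ T.2)
  have hc : x⁻¹ * y ∈ centralizer (Cfsg.pCore p (↥K ⧸ R.subgroupOf K) : Set (↥K ⧸ R.subgroupOf K)) := by
    rw [mem_centralizer_iff]
    intro a ha
    have := hxa a ha
    calc a * (x⁻¹ * y) = x⁻¹ * (x * a * x⁻¹) * y := by group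
      _ = x⁻¹ * (y * a * y⁻¹) * y := by rw [this]
      _ = x⁻¹ * y * a := by group
  have hy : y = x * (x⁻¹ * y) := by group
  rw [hy]
  exact mul_mem hx (hTN (hOT (hC hc)))

end Cfsg.Agent.S1990
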