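import Cfsg.Statements.S2007
import Cfsg.Agent.Lib.Helper17.NormalHall
open Cfsg.Agent.Lib.Helper17

set_option autoImplicit false
open Cfsg

namespace Cfsg.Agent.S2007

/-- Let p be a prime, G a finite group with Sylow p-subgroup S, and T a normal subgroup of S containing C_S(T). If N_G(T)/C_G(T) is a p-group (every element of N_G(T) of order prime to p centralizes T), then N_G(T) has a normal p-complement. -/
theorem result {G : Type*} [Group G] [Finite G] {p : ℕ} [Fact p.Prime] (S : Sylow p G) (T : Subgroup G) (hTS : T ≤ (S : Subgroup G)) (hTn : (S : Subgroup G) ≤ Subgroup.normalizer ((T : Subgroup G) : Set G)) (hC : (S : Subgroup G) ⊓ Subgroup.centralizer ((T : Subgroup G) : Set G) ≤ T) (hN : ∀ g ∈ Subgroup.normalizer ((T : Subgroup G) : Set G), (orderOf g).Coprime p → g ∈ Subgroup.centralizer ((T : Subgroup G) : Set G)) : Cfsg.HasNormalPComplement p ↥(Subgroup.normalizer ((T : Subgroup G) : Set G)) := by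
  classical
  haveI hCn : ((Subgroup.centralizer (T : Set G)).subgroupOf
      (Subgroup.normalizer (T : Set G))).Normal :=
    Subgroup.normal_subgroupOf_centralizer_normalizer (T : Set G)
  apply hasNormalPComplement_of_central_sylow_of_normal (S.subtype hTn)
    ((Subgroup.centralizer (T : Set G)).subgroupOf (Subgroup.normalizer (T : Set G)))
  · apply isPGroup_quotient_of_forall_coprime
    intro g hg
    have h1 : orderOf (g : G) = orderOf g := Subgroup.orderOf_coe g
    have h2 := hN (g : G) g.2 (by rw [h1]; exact hg)
    exact h2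
  · intro q hq hqC c hc
    apply Subtype.ext
    have hqS : (q : G) ∈ (S : Subgroup G) := by
      have : q ∈ ((S.subtype hTn : Sylow p _) : Subgroup _) := hq
      rw [Sylow.coe_subtype] at this
      exact this
    have hqC' : (q : G) ∈ Subgroup.centralizer (T : Set G) := hqC
    have hqT : (q : G) ∈ T := hC (Subgroup.mem_inf.mpr ⟨hqS, hqC'⟩)
    have hcc : (c : G) ∈ Subgroup.centralizer (T : Set G) := hc
    exact (Subgroup.mem_centralizer_iff.mp hcc (q : G) hqT)

end Cfsg.Agent.S2007
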