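import Cfsg.Statements.S1996
import Cfsg.Agent.Lib.Helper11.FSF5

set_option autoImplicit false
universe u
open Cfsg

namespace Cfsg.Agent.S1996

open Cfsg.Agent.Lib.Helper11.FSF
open Cfsg.Agent.Lib.Helper29 Cfsg.Agent.Lib.Helper1
open Cfsg.Agent.Lib.Helper11.SFS (sylow_le_normalizer_induced not_dvd_relIndex_sylow cj_closure_le)

/-- a factorization `Y = N(W₁(T)) N(W₂(T))` gives control of strong fusion by the pair -/
theorem fctl_of_fac {p : ℕ} [Fact p.Prime] {Y : Type u} [Group Y] [Finite Y]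
    (W₁ W₂ : ∀ (Q : Type u) [Group Q], Subgroup Q) (hW₁ : Cfsg.IsCharPFunctor.{u} p W₁)
    (hW₂ : Cfsg.IsCharPFunctor.{u} p W₂)
    (hfac : ∀ T : Sylow p Y, ∀ x : Y, ∃ a ∈ Subgroup.normalizer
      ((Cfsg.inducedFunctor (G := Y) W₁ (T : Subgroup Y) : Subgroup Y) : Set Y),
      ∃ b ∈ Subgroup.normalizer
        ((Cfsg.inducedFunctor (G := Y) W₂ (T : Subgroup Y) : Subgroup Y) : Set Y), x = a * b) :
    FCtl p ({W₁, W₂} : Set (∀ (Q : Type u) [Group Q], Subgroup Q)) Y := by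
  classical
  intro T A g hA hAg
  obtain ⟨a, ha, b, hb, rfl⟩ := hfac T g
  set N₁ : Subgroup Y := Subgroup.normalizer
    ((Cfsg.inducedFunctor (G := Y) W₁ (T : Subgroup Y) : Subgroup Y) : Set Y) with hN₁
  set N₂ : Subgroup Y := Subgroup.normalizer
    ((Cfsg.inducedFunctor (G := Y) W₂ (T : Subgroup Y) : Subgroup Y) : Set Y) with hN₂
  have hT₁ : (T : Subgroup Y) ≤ N₁ := sylow_le_normalizer_induced hW₁ _ T.isPGroup'
  have hT₂ : (T : Subgroup Y) ≤ N₂ := sylow_le_normalizer_induced hW₂ _ T.isPGroup'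
  have hT₁₂ : (T : Subgroup Y) ≤ N₁ ⊓ N₂ := le_inf hT₁ hT₂
  set B : Subgroup Y := Subgroup.closure A with hB
  have hBT : B ≤ (T : Subgroup Y) := (Subgroup.closure_le _).mpr hA
  have hPle : cj b B ≤ N₁ ⊓ N₂ := by
    apply cj_closure_le
    intro x hx
    refine ⟨?_, N₂.mul_mem (N₂.mul_mem hb (hT₂ (hA hx))) (N₂.inv_mem hb)⟩
    have h1 : (a * b) * x * (a * b)⁻¹ ∈ (T : Subgroup Y) := hAg ⟨x, hx, rfl⟩
    have e : b * x * b⁻¹ = a⁻¹ * ((a * b) * x * (a * b)⁻¹) * a := by group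
    rw [e]
    exact N₁.mul_mem (N₁.mul_mem (N₁.inv_mem ha) (hT₁ h1)) ha
  have hPp : IsPGroup p (cj b B) := isPGroup_cj (T.isPGroup'.to_le hBT)
  have hsyl : IsSylowSub p (T : Subgroup Y) (N₁ ⊓ N₂) :=
    isSylowSub_of_not_dvd_relIndex hT₁₂ T.isPGroup' (not_dvd_relIndex_sylow T hT₁₂)
  obtain ⟨d, hd, hdP⟩ := exists_cj_le_of_isSylowSub hsyl hPle hPp
  have h1 : lcs (d * b) A ⊆ ((T : Subgroup Y) : Set Y) := by
    rintro _ ⟨x, hx, rfl⟩
    have h2 : b * x * b⁻¹ ∈ cj b B := conj_mem_cj (Subgroup.subset_closure hx)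
    have h3 := hdP (conj_mem_cj (g := d) h2)
    have e : (d * b) * x * (d * b)⁻¹ = d * (b * x * b⁻¹) * d⁻¹ := by group
    show (d * b) * x * (d * b)⁻¹ ∈ (T : Subgroup Y)
    rw [e]; exact h3
  have hch1 : LChain (ind ({W₁, W₂} : Set (∀ (Q : Type u) [Group Q], Subgroup Q)) Y) ⊤
      (T : Subgroup Y) A (d * b) :=
    LChain.single (W := Cfsg.inducedFunctor (G := Y) W₂) ⟨W₂, by simp, rfl⟩
      ⟨Subgroup.mem_top _, N₂.mul_mem hd.2 hb⟩ hA h1
  have e2 : (a * d⁻¹) * (d * b) = a * b := by group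
  have hch2 := LChain.step A (d * b) (a * d⁻¹) (Cfsg.inducedFunctor (G := Y) W₁)
    (⟨W₁, by simp, rfl⟩ : Cfsg.inducedFunctor (G := Y) W₁ ∈
      ind ({W₁, W₂} : Set (∀ (Q : Type u) [Group Q], Subgroup Q)) Y)
    ⟨Subgroup.mem_top _, N₁.mul_mem ha (N₁.inv_mem hd.1)⟩ hch1 (by rw [e2]; exact hAg)
  rw [e2] at hch2
  exact ⟨a * b, hch2, fun _ _ => rfl⟩

/-- Let p be a prime, G a finite group and W₁, W₂ two isomorphism-invariant p-group functors (W assigns to every group Q a subgroup W(Q), nontrivial whenever Q is a nontrivial finite p-group, and every isomorphism from a finite p-group Q onto a group R carries W(Q) onto W(R)). Suppose that G* = N_{G*}(W₁(S*)) N_{G*}(W₂(S*)) whenever G* = K/R is a section of G with C_{G*}(O_p(G*)) ≤ O_p(G*) and S* is a Sylow p-subgroup of G*. Then the pair {W₁, W₂} controls strong fusion in G. -/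
theorem result {G : Type u} [Group G] [Finite G] {p : ℕ} [Fact p.Prime] (W₁ W₂ : ∀ (Q : Type u) [Group Q], Subgroup Q) (hW₁ : Cfsg.IsCharPFunctor.{u} p W₁) (hW₂ : Cfsg.IsCharPFunctor.{u} p W₂) (hfac : ∀ (K R : Subgroup G) [hR : (R.subgroupOf K).Normal], Subgroup.centralizer ((Cfsg.pCore p (↥K ⧸ R.subgroupOf K) : Subgroup (↥K ⧸ R.subgroupOf K)) : Set (↥K ⧸ R.subgroupOf K)) ≤ Cfsg.pCore p (↥K ⧸ R.subgroupOf K) → ∀ T : Sylow p (↥K ⧸ R.subgroupOf K), ∀ x : (↥K ⧸ R.subgroupOf K), ∃ a ∈ Subgroup.normalizer ((Cfsg.inducedFunctor (G := (↥K ⧸ R.subgroupOf K)) W₁ (T : Subgroup (↥K ⧸ R.subgroupOf K)) : Subgroup (↥K ⧸ R.subgroupOf K)) : Set (↥K ⧸ R.subgroupOf K)), ∃ b ∈ Subgroup.normalizer ((Cfsg.inducedFunctor (G := (↥K ⧸ R.subgroupOf K)) W₂ (T : Subgroup (↥K ⧸ R.subgroupOf K)) : Subgroup (↥K ⧸ R.subgroupOf K)) : Set (↥K ⧸ R.subgroupOf K)), x = a * b) : Cfsg.FamilyControlsStrongFusionIn p {Cfsg.inducedFunctor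 (G := G) W₁, Cfsg.inducedFunctor (G := G) W₂} ⊤ := by
  classical
  set 𝓦 : Set (∀ (Q : Type u) [Group Q], Subgroup Q) := {W₁, W₂} with h𝓦def
  have h𝓦 : ∀ W ∈ 𝓦, Cfsg.IsCharPFunctor.{u} p W := by
    intro W hW
    rcases hW with rfl | rfl
    · exact hW₁
    · exact hW₂
  have hsec : SecLocF p 𝓦 G := by
    apply secLocF_of_hloc h𝓦
    intro K R hR hcon
    exact fctl_of_fac W₁ W₂ hW₁ hW₂ (hfac K R hcon)
  have hmain := main h𝓦 (Nat.card G) G le_rfl hsec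
  obtain ⟨S⟩ : Nonempty (Sylow p G) := inferInstance
  have := ctlIn_of_fctlAt S (hmain S)
  have e : ind 𝓦 G = {Cfsg.inducedFunctor (G := G) W₁, Cfsg.inducedFunctor (G := G) W₂} := by
    unfold ind
    rw [h𝓦def, Set.image_pair]
  rw [e] at this
  exact this

end Cfsg.Agent.S1996
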