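import Cfsg.Statements.S1997
import Cfsg.Agent.Lib.Helper11.TF2
import Cfsg.Agent.S1996

set_option autoImplicit false
universe u
open Cfsg

namespace Cfsg.Agent.S1997

open Cfsg.Agent.Lib.Helper11.FSF Cfsg.Agent.Lib.Helper11.TF
open Cfsg.Agent.Lib.Helper29 Cfsg.Agent.Lib.Helper1
open Cfsg.Agent.Lib.Helper11.SFS (sylow_le_normalizer_induced)
open Cfsg.Agent.S2005 (induced_le)

/-- Let p be a prime, G a finite group with Sylow p-subgroup S, and W₁, W₂ two isomorphism-invariant p-group functors (W assigns to every group Q a subgroup W(Q), nontrivial whenever Q is a nontrivial finite p-group, and every isomorphism from a finite p-group Q onto a group R carries W(Q) onto W(R)). Suppose that G* = C_{G*}(Ω₁Z(S*)) N_{G*}(W₁(S*)) = C_{G*}(Ω₁Z(S*)) N_{G*}(W₂(S*)) = N_{G*}(W₁(S*)) N_{G*}(W₂(S*)) whenever G* = K/R is a section of G with C_{G*}(O_p(G*)) ≤ O_p(G*) and S* is a Sylow p-subgroup of G*, where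 Ω₁Z denotes the subgroup generated by the elements of order dividing p in the centre. Suppose also Ω₁Z(S) ≤ W₁(S) ∩ W₂(S), and let A be the normal closure of Ω₁Z(S) in N_G(W₁(S)). Then A is an elementary abelian subgroup of S, strongly closed in S with respect to G, and A controls strong fusion in G. -/
theorem result {G : Type u} [Group G] [Finite G] {p : ℕ} [Fact p.Prime] (S : Sylow p G) (W₁ W₂ : ∀ (Q : Type u) [Group Q], Subgroup Q) (hW₁ : Cfsg.IsCharPFunctor.{u} p W₁) (hW₂ : Cfsg.IsCharPFunctor.{u} p W₂) (hfac : ∀ (K R : Subgroup G) [hR : (R.subgroupOf K).Normal], Subgroup.centralizer ((Cfsg.pCore p (↥K ⧸ R.subgroupOf K) : Subgroup (↥K ⧸ R.subgroupOf K)) : Set (↥K ⧸ R.subgroupOf K)) ≤ Cfsg.pCore p (↥K ⧸ R.subgroupOf K) → ∀ T : Sylow p (↥K ⧸ R.subgroupOf K), (∀ x : (↥K ⧸ R.subgroupOf K), ∃ a ∈ Subgroup.centralizer ((Cfsg.omegaOne p ((T : Subgroup (↥K ⧸ R.subgroupOf K)) ⊓ Subgroup.centralizer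 (((T : Subgroup (↥K ⧸ R.subgroupOf K)) : Subgroup (↥K ⧸ R.subgroupOf K)) : Set (↥K ⧸ R.subgroupOf K))) : Subgroup (↥K ⧸ R.subgroupOf K)) : Set (↥K ⧸ R.subgroupOf K)), ∃ b ∈ Subgroup.normalizer ((Cfsg.inducedFunctor (G := (↥K ⧸ R.subgroupOf K)) W₁ (T : Subgroup (↥K ⧸ R.subgroupOf K)) : Subgroup (↥K ⧸ R.subgroupOf K)) : Set (↥K ⧸ R.subgroupOf K)), x = a * b) ∧ (∀ x : (↥K ⧸ R.subgroupOf K), ∃ a ∈ Subgroup.centralizer ((Cfsg.omegaOne p ((T : Subgroup (↥K ⧸ R.subgroupOf K)) ⊓ Subgroup.centralizer (((T : Subgroup (↥K ⧸ R.subgroupOf K)) : Subgroup (↥K ⧸ R.subgroupOf K)) : Set (↥K ⧸ R.subgroupOf K))) : Subgroup (↥K ⧸ R.subgroupOf K)) : Set (↥K ⧸ R.subgroupOf K)), ∃ b ∈ Subgroup.normalizer ((Cfsg.inducedFunctor (G := (↥K ⧸ R.subgroupOf K)) W₂ (T : Subgroup (↥K ⧸ R.subgroupOf K)) : Subgroup (↥K ⧸ R.subgroupOf K)) : Set (↥K ⧸ R.subgroupOf K)), x = a * b) ∧ (∀ x : (↥K ⧸ R.subgroupOf K), ∃ a ∈ Subgroup.normalizer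 ((Cfsg.inducedFunctor (G := (↥K ⧸ R.subgroupOf K)) W₁ (T : Subgroup (↥K ⧸ R.subgroupOf K)) : Subgroup (↥K ⧸ R.subgroupOf K)) : Set (↥K ⧸ R.subgroupOf K)), ∃ b ∈ Subgroup.normalizer ((Cfsg.inducedFunctor (G := (↥K ⧸ R.subgroupOf K)) W₂ (T : Subgroup (↥K ⧸ R.subgroupOf K)) : Subgroup (↥K ⧸ R.subgroupOf K)) : Set (↥K ⧸ R.subgroupOf K)), x = a * b)) (hZ : Cfsg.omegaOne p ((S : Subgroup G) ⊓ Subgroup.centralizer (((S : Subgroup G) : Subgroup G) : Set G)) ≤ Cfsg.inducedFunctor (G := G) W₁ (S : Subgroup G) ⊓ Cfsg.inducedFunctor (G := G) W₂ (S : Subgroup G)) (N₁ : Subgroup G) (hN₁ : N₁ = Subgroup.normalizer ((Cfsg.inducedFunctor (G := G) W₁ (S : Subgroup G) : Subgroup G) : Set G)) (A : Subgroup G) (hA : A = (Subgroup.normalClosure (((Cfsg.omegaOne p ((S : Subgroup G) ⊓ Subgroup.centralizer (((S : Subgroup G) : Subgroup G) : Set G))).subgroupOf N₁ : Subgroup ↥N₁) : Set ↥N₁)).map N₁.subtype) : A ≤ (S :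 Subgroup G) ∧ Cfsg.IsElementaryAbelian p A ∧ Cfsg.IsStronglyClosed A (S : Subgroup G) ∧ Cfsg.ControlsStrongFusion p A := by
  classical
  set Z : Subgroup G := Cfsg.omegaOne p ((S : Subgroup G) ⊓
    Subgroup.centralizer (((S : Subgroup G) : Subgroup G) : Set G)) with hZdef
  set P₁ : Subgroup G := Cfsg.inducedFunctor (G := G) W₁ (S : Subgroup G) with hP₁
  set P₂ : Subgroup G := Cfsg.inducedFunctor (G := G) W₂ (S : Subgroup G) with hP₂
  set N₂ : Subgroup G := Subgroup.normalizer (P₂ : Set G) with hN₂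
  have hZ₁ : Z ≤ P₁ := hZ.trans inf_le_left
  have hZ₂ : Z ≤ P₂ := hZ.trans inf_le_right
  have hP₁S : P₁ ≤ (S : Subgroup G) := induced_le _
  have hSN₁ : (S : Subgroup G) ≤ N₁ := by
    rw [hN₁]; exact sylow_le_normalizer_induced hW₁ _ S.isPGroup'
  have hZS : Z ≤ (S : Subgroup G) ⊓ Subgroup.centralizer ((S : Subgroup G) : Set G) := by
    rw [hZdef]
    unfold Cfsg.omegaOne
    rw [Subgroup.closure_le]
    intro x hx
    exact hx.1
  have hZN₁ : Z ≤ N₁ := (hZS.trans inf_le_left).trans hSN₁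
  -- the hypotheses in section form
  have hyp₁ : HypCN p W₁ G := hypCN_of W₁ (fun K R hR hcon T x => (hfac K R hcon T).1 x)
  have hyp₂ : HypCN p W₂ G := hypCN_of W₂ (fun K R hR hcon T x => (hfac K R hcon T).2.1 x)
  -- A is the closure of the N₁-conjugates
  have hAcl : A = cl N₁ Z := by
    apply le_antisymm
    · rw [hA, Subgroup.map_le_iff_le_comap]
      show Subgroup.closure (Group.conjugatesOfSet _) ≤ _
      rw [Subgroup.closure_le]
      intro x hx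
      obtain ⟨a, ha, hax⟩ := Group.mem_conjugatesOfSet_iff.mp hx
      obtain ⟨c, hc⟩ := isConj_iff.mp hax
      show (x : G) ∈ cl N₁ Z
      have ha' : (a : G) ∈ Z := Subgroup.mem_subgroupOf.mp ha
      have e : (x : G) = (c : G) * (a : G) * (c : G)⁻¹ := by
        rw [← hc]; simp
      rw [e]
      exact mem_cl c.2 ha'
    · apply cl_le_of
      intro n hn z hz
      rw [hA]
      refine ⟨(⟨n, hn⟩ : ↥N₁) * ⟨z, hZN₁ hz⟩ * (⟨n, hn⟩ : ↥N₁)⁻¹, ?_, by simp⟩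
      exact Subgroup.normalClosure_normal.conj_mem _
        (Subgroup.subset_normalClosure (Subgroup.mem_subgroupOf.mpr hz)) _
  have hcleq : cl N₁ Z = cl N₂ Z := by
    have h := cl_eq hW₁ hW₂ hyp₁ hyp₂ S Z hZdef hZ₁ hZ₂ (Nat.card (⊤ : Subgroup G)) ⊤ le_rfl le_top
    rw [top_inf_eq, top_inf_eq] at h
    rw [hN₁]
    exact h
  have hN₁A : N₁ ≤ Subgroup.normalizer (A : Set G) := by
    rw [hAcl]; exact le_normalizer_cl N₁ Z
  have hN₂A : N₂ ≤ Subgroup.normalizer (A : Set G) := by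
    rw [hAcl, hcleq]; exact le_normalizer_cl N₂ Z
  -- A ≤ P₁ ⊓ C(P₁)
  have hAP : A ≤ P₁ ⊓ Subgroup.centralizer (P₁ : Set G) := by
    rw [hAcl]
    apply cl_le_of
    intro n hn z hz
    rw [hN₁] at hn
    have hnz : n * z * n⁻¹ ∈ P₁ := (Subgroup.mem_normalizer_iff.mp hn z).mp (hZ₁ hz)
    refine Subgroup.mem_inf.mpr ⟨hnz, ?_⟩
    rw [Subgroup.mem_centralizer_iff]
    intro q hq
    have hq' : n⁻¹ * q * n⁻¹⁻¹ ∈ P₁ :=
      (Subgroup.mem_normalizer_iff.mp (Subgroup.inv_mem _ hn) q).mp hq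
    have hcomm : (n⁻¹ * q * n⁻¹⁻¹) * z = z * (n⁻¹ * q * n⁻¹⁻¹) :=
      Subgroup.mem_centralizer_iff.mp (hZS hz).2 _ (hP₁S hq')
    calc q * (n * z * n⁻¹) = n * ((n⁻¹ * q * n⁻¹⁻¹) * z) * n⁻¹ := by group
      _ = n * (z * (n⁻¹ * q * n⁻¹⁻¹)) * n⁻¹ := by rw [hcomm]
      _ = n * z * n⁻¹ * q := by group
  have hAS : A ≤ (S : Subgroup G) := (hAP.trans inf_le_left).trans hP₁S
  have hAcomm : ∀ x ∈ A, ∀ y ∈ A, x * y = y * x := by
    intro x hx y hy
    exact Subgroup.mem_centralizer_iff.mp (hAP hy).2 x (hAP hx).1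
  -- exponent p
  have hZpow : ∀ z ∈ Z, z ^ p = 1 := by
    intro z hz
    rw [hZdef] at hz
    unfold Cfsg.omegaOne at hz
    refine pow_eq_one_of_closure _ (fun x hx => hx.2) ?_ z hz
    intro x hx y hy
    have hx' : x ∈ Z := by rw [hZdef]; exact hx
    have hy' : y ∈ Z := by rw [hZdef]; exact hy
    exact Subgroup.mem_centralizer_iff.mp (hZS hy').2 x (hZS hx').1
  have hApow : ∀ a ∈ A, a ^ p = 1 := by
    intro a ha
    rw [hAcl] at ha
    unfold cl at ha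
    refine pow_eq_one_of_closure _ ?_ ?_ a ha
    · rintro _ ⟨n, -, z, hz, rfl⟩
      rw [conj_pow, hZpow z hz, mul_one, mul_inv_cancel]
    · intro x hx y hy
      have hx' : x ∈ A := by rw [hAcl]; exact hx
      have hy' : y ∈ A := by rw [hAcl]; exact hy
      exact hAcomm x hx' y hy'
  -- control of strong fusion by the pair
  set 𝓦 : Set (∀ (Q : Type u) [Group Q], Subgroup Q) := {W₁, W₂} with h𝓦def
  have h𝓦 : ∀ W ∈ 𝓦, Cfsg.IsCharPFunctor.{u} p W := by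
    intro W hW
    rcases hW with rfl | rfl
    · exact hW₁
    · exact hW₂
  have hsec : SecLocF p 𝓦 G := by
    apply secLocF_of_hloc h𝓦
    intro K R hR hcon
    exact Cfsg.Agent.S1996.fctl_of_fac W₁ W₂ hW₁ hW₂ (fun T => (hfac K R hcon T).2.2)
  have hmain := main h𝓦 (Nat.card G) G le_rfl hsec
  have hX : ∀ W ∈ ind 𝓦 G, (⊤ : Subgroup G) ⊓
      Subgroup.normalizer ((W (S : Subgroup G) : Subgroup G) : Set G) ≤
      Subgroup.normalizer (A : Set G) := by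
    rintro _ ⟨W₀, hW₀, rfl⟩
    rcases hW₀ with rfl | rfl
    · refine inf_le_right.trans ?_
      rw [← hN₁]; exact hN₁A
    · exact inf_le_right.trans hN₂A
  have hctl : ∀ (A' : Set G) (g : G), A' ⊆ ((S : Subgroup G) : Set G) →
      (fun a => g * a * g⁻¹) '' A' ⊆ ((S : Subgroup G) : Set G) →
      ∃ x ∈ Subgroup.normalizer (A : Set G), ∀ a ∈ A', g * a * g⁻¹ = x * a * x⁻¹ := by
    intro A' g hA' hg
    obtain ⟨u, hu, hag⟩ := hmain S A' g hA' hg
    exact ⟨u, lchain_mem hX hu, fun a ha => (hag a ha).symm⟩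
  refine ⟨hAS, ⟨⟨⟨fun a b => Subtype.ext (hAcomm a a.2 b b.2)⟩⟩, hApow⟩, ⟨hAS, ?_⟩, ?_⟩
  · intro x hx g hg
    obtain ⟨u, hu, hua⟩ := hctl {x} g
      (by intro y hy; rw [Set.mem_singleton_iff] at hy; rw [hy]; exact hAS hx)
      (by rintro _ ⟨y, hy, rfl⟩; rw [Set.mem_singleton_iff] at hy; rw [hy]; exact hg)
    rw [hua x rfl]
    exact (Subgroup.mem_normalizer_iff.mp hu x).mp hx
  · exact ⟨S, hAS, fun A' hA' => ⟨hA', fun g hg => hctl A' g hA' hg⟩⟩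

end Cfsg.Agent.S1997
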