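import Cfsg.Statements.S1998
import Cfsg.Agent.Lib.Helper1.FamilySectionTransfer
import Cfsg.Agent.Lib.Helper1.WeakClosureTransfer

set_option autoImplicit false
universe u
open Cfsg

namespace Cfsg.Agent.S1998

open Cfsg.Agent.Lib.Helper1 Cfsg.Agent.Lib.Helper29 Cfsg.Agent.Lib.Helper2
  Cfsg.Agent.Lib.Helper1.SecT Cfsg.Agent.Lib.Helper1.FST Cfsg.Agent.S1971
open scoped commutatorElement

theorem controls_of_le {p : ℕ} [Fact p.Prime] {X : Type u} [Group X] [Finite X]
    {𝓦 : Set (∀ (Q : Type u) [Group Q], Subgroup Q)} (S : Sylow p X)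
    (h : (S : Subgroup X) ⊓ commutator X ≤ FT 𝓦 (S : Subgroup X)) :
    FamilyControlsTransferIn p (ind 𝓦 X) ⊤ := by
  refine ⟨S, le_top, S.isPGroup', ?_, ?_⟩
  · rw [Subgroup.relIndex_top_right]; exact S.not_dvd_index
  · rw [iSup_ind (fun W' => (S : Subgroup X) ⊓ ⁅(⊤ : Subgroup X) ⊓ Subgroup.normalizer ((W' (S : Subgroup X) : Subgroup X) : Set X),
      (⊤ : Subgroup X) ⊓ Subgroup.normalizer ((W' (S : Subgroup X) : Subgroup X) : Set X)⁆)]
    simp only [top_inf_eq]
    apply le_antisymm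
    · rw [commutator_def] at h
      exact h
    · exact iSup₂_le fun W _ => inf_le_inf_left _ (Subgroup.commutator_mono le_top le_top)

/-- If `[P, H] ≤ P₀ ≤ P` then `H` normalizes `P₀`. -/
theorem le_normalizer_of_commutator_le {X : Type*} [Group X] [Finite X] (P P₀ H : Subgroup X)
    (hP₀ : P₀ ≤ P) (h : ⁅P, H⁆ ≤ P₀) : H ≤ Subgroup.normalizer (P₀ : Set X) := by
  intro g hg
  apply Subgroup.mem_normalizer_fintype
  intro x hx
  have h1 : ⁅x, g⁆ ∈ P₀ := h (Subgroup.commutator_mem_commutator (hP₀ hx) hg)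
  have e : g * x * g⁻¹ = (⁅x, g⁆)⁻¹ * x := by
    simp only [commutatorElement_def]; group
  rw [e]
  exact mul_mem (inv_mem h1) hx


/-- Let p be a prime, G a finite group with Sylow p-subgroup S, and 𝓦 a nonempty set of isomorphism-invariant p-group functors (W assigns to every group Q a subgroup W(Q), nontrivial whenever Q is a nontrivial finite p-group, and every isomorphism from a finite p-group Q onto a group R carries W(Q) onto W(R)). Suppose the induced conjugacy functors control transfer in every section of G other than G itself, but not in G. Let T be the subgroup generated by the S ∩ (N_G(W(S)))', W ∈ 𝓦, and M = N_G(T ∩ O_p(G)). Then: C_G(O_p(G)) ≤ O_p(G); M is a proper subgroup of G containing every proper subgroup of G that contains S (the unique maximal subgroup over S); [O_p(G), M] ≤ O_p(G) ∩ M' ≤ O_p(G) ∩ T; and every element u of S outside O_p(G) satisfies [X, u, …, u] ≰ Y with p − 1 entries u, for some chief factor X/Y of G with X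 ≤ O_p(G). -/
theorem result {G : Type u} [Group G] [Finite G] {p : ℕ} [Fact p.Prime] (S : Sylow p G) (𝓦 : Set (∀ (Q : Type u) [Group Q], Subgroup Q)) (h𝓦 : ∀ W ∈ 𝓦, Cfsg.IsCharPFunctor.{u} p W) (hne : 𝓦.Nonempty) (hsec : ∀ (K R : Subgroup G) [hR : (R.subgroupOf K).Normal], (K = ⊤ → R ≠ ⊥) → Cfsg.FamilyControlsTransferIn p ((fun W => Cfsg.inducedFunctor (G := (↥K ⧸ R.subgroupOf K)) W) '' 𝓦) ⊤) (hG : ¬ Cfsg.FamilyControlsTransferIn p ((fun W => Cfsg.inducedFunctor (G := G) W) '' 𝓦) ⊤) (T M : Subgroup G) (hT : T = (⨆ W ∈ 𝓦, (S : Subgroup G) ⊓ ⁅Subgroup.normalizer ((Cfsg.inducedFunctor (G := G) W (S : Subgroup G) : Subgroup G) : Set G), Subgroup.normalizer ((Cfsg.inducedFunctor (G := G) W (S : Subgroup G) : Subgroup G) : Set G)⁆)) (hM : M = Subgroup.normalizer ((T ⊓ Cfsg.pCore p G : Subgroup G) : Set G)) : Subgroup.centralizer ((Cfsg.pCore p G : Subgroup G) : Set G) ≤ Cfsg.pCore p G ∧ (M ≠ ⊤ ∧ ∀ H : Subgroup G, (S : Subgroup G) ≤ H → H ≠ ⊤ → H ≤ M) ∧ (⁅Cfsg.pCore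 p G, M⁆ ≤ Cfsg.pCore p G ⊓ ⁅M, M⁆ ∧ Cfsg.pCore p G ⊓ ⁅M, M⁆ ≤ Cfsg.pCore p G ⊓ T) ∧ ∀ u : G, u ∈ (S : Subgroup G) → u ∉ Cfsg.pCore p G → ∃ U V : Subgroup G, Cfsg.IsChiefFactor U V ∧ U ≤ Cfsg.pCore p G ∧ ¬ Cfsg.iterCommutator U (Subgroup.zpowers u) (p - 1) ≤ V := by
  have hp : p.Prime := Fact.out
  haveI hPn : (pCore p G).Normal := Cfsg.Agent.Lib.Helper2.pCore_normal p
  set P := pCore p G with hPdef
  have hPS : P ≤ (S : Subgroup G) := pCore_le_sylow p S
  have hTFT : T = FT 𝓦 (S : Subgroup G) := hT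
  -- proper sections control transfer
  have hsmall : ∀ (X : Type u) [Group X] [Finite X], IsSec G X → Nat.card X < Nat.card G →
      FCtl p 𝓦 X := by
    intro X _ _ hsecX hlt
    obtain ⟨K, R, hR, ⟨e⟩⟩ := hsecX
    haveI : Finite (↥K ⧸ R.subgroupOf K) := Finite.of_equiv X e.toEquiv
    have hcond : K = ⊤ → R ≠ ⊥ := by
      intro hK hRb
      subst hK
      subst hRb
      obtain ⟨K', R', hR', ⟨e'⟩⟩ := isSec_refl G
      have h1 : Nat.card X = Nat.card (↥(⊤ : Subgroup G) ⧸ (⊥ : Subgroup G).subgroupOf ⊤) :=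
        Nat.card_congr e.toEquiv
      have h2 : Nat.card (↥(⊤ : Subgroup G) ⧸ (⊥ : Subgroup G).subgroupOf ⊤) = Nat.card G := by
        have hb : (⊥ : Subgroup G).subgroupOf ⊤ = ⊥ := Subgroup.bot_subgroupOf _
        rw [← Subgroup.index_eq_card, hb, Subgroup.index_bot]
        exact Nat.card_congr Subgroup.topEquiv.toEquiv
      omega
    have h1 := fctl_of_controls h𝓦 (hsec K R hcond)
    exact fctl_transport h𝓦 e h1
  have hM' : ∀ H : Subgroup G, H ≠ ⊤ → FCtl p 𝓦 ↥H := fun H hH =>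
    hsmall ↥H ((isSec_refl G).sub H) (card_lt_of_ne_top H hH)
  have hQ' : ∀ (N : Subgroup G) [N.Normal], N ≠ ⊥ → FCtl p 𝓦 (G ⧸ N) := fun N _ hN =>
    hsmall (G ⧸ N) ((isSec_refl G).quot N) (card_quot_lt_of_ne_bot N hN)
  have hfail : ¬ (S : Subgroup G) ⊓ commutator G ≤ FT 𝓦 (S : Subgroup G) := fun h =>
    hG (controls_of_le S h)
  -- `O_{p'}(G) = 1`
  haveI hOn : (pPrimeCore p G).Normal := Cfsg.Agent.Lib.Helper2.pPrimeCore_normal p
  have hO : pPrimeCore p G = ⊥ := by
    by_contra hO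
    exact hfail (fctl_of_quot_coprime h𝓦 _ (pPrimeCore_coprime p) (hQ' _ hO) S)
  -- `O_p(G) ≠ 1`
  have hPne : P ≠ ⊥ := by
    intro hPb
    apply hG
    have hl : ∀ T' : Subgroup G, T' ≤ (S : Subgroup G) → T' ≠ ⊥ →
        ¬ p ∣ ((S : Subgroup G) ⊓ Subgroup.normalizer ((T' : Subgroup G) : Set G)).relIndex
          (Subgroup.normalizer ((T' : Subgroup G) : Set G)) →
        FamilyControlsTransferIn p (ind 𝓦 G) (Subgroup.normalizer ((T' : Subgroup G) : Set G)) := by
      intro T' hTS hTne _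
      apply fcontrols_sub h𝓦
      apply hM'
      intro htop
      have hTn : T'.Normal := Subgroup.normalizer_eq_top_iff.1 htop
      have : T' ≤ pCore p G := le_pCore hTn (S.isPGroup'.to_le hTS)
      rw [← hPdef, hPb] at this
      exact hTne (le_bot_iff.1 this)
    exact Cfsg.Agent.S1960.result S (ind 𝓦 G) (ind_conj h𝓦 G) hl
  have hPT : ¬ P ⊓ commutator G ≤ FT 𝓦 (S : Subgroup G) := fun h =>
    hfail (fctl_of_quot_pCore h𝓦 (hQ' _ hPne) hM' S h)
  -- (1)
  have hcon : Subgroup.centralizer ((P : Subgroup G) : Set G) ≤ P := by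
    by_contra hc
    exact hPT (pCore_inf_commutator_le_of_not_constrained h𝓦 hO hc hM' S)
  -- commutators of `S`
  obtain ⟨W₀, hW₀⟩ := hne
  have hSS : ⁅(S : Subgroup G), (S : Subgroup G)⁆ ≤ FT 𝓦 (S : Subgroup G) := by
    refine le_trans ?_ (le_FT hW₀ _)
    have hSN := sylow_le_NW W₀ (h𝓦 W₀ hW₀) S
    refine le_inf ?_ (Subgroup.commutator_mono hSN hSN)
    rw [Subgroup.commutator_le]
    intro a ha b hb
    exact mul_mem (mul_mem (mul_mem ha hb) (inv_mem ha)) (inv_mem hb)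
  set P₀ := T ⊓ P with hP₀
  have hP₀P : P₀ ≤ P := inf_le_right
  -- overgroups of `S`
  have hover : ∀ H : Subgroup G, (S : Subgroup G) ≤ H → H ≠ ⊤ → ⁅P, H⁆ ≤ P₀ := by
    intro H hSH hH
    have h1 := fctl_sub_le h𝓦 H (hM' H hH) S hSH
    refine le_inf ?_ (Subgroup.commutator_le_left P H)
    rw [hTFT]
    refine le_trans (le_inf ?_ ?_) h1
    · exact (Subgroup.commutator_le_left P H).trans hPS
    · exact Subgroup.commutator_mono (hPS.trans hSH) le_rfl
  have hSM : (S : Subgroup G) ≤ M := by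
    rw [hM]
    apply le_normalizer_of_commutator_le P P₀ _ hP₀P
    refine le_inf ?_ (Subgroup.commutator_le_left P _)
    rw [hTFT]
    exact (Subgroup.commutator_mono hPS le_rfl).trans hSS
  have hNS : Subgroup.normalizer (((S : Subgroup G) : Subgroup G) : Set G) ≠ ⊤ := by
    intro htop
    apply hfail
    refine le_trans ?_ (le_FT hW₀ _)
    have : NW W₀ (S : Subgroup G) = ⊤ := by
      rw [eq_top_iff, ← htop]
      exact W_normalizer W₀ (h𝓦 W₀ hW₀) (S : Subgroup G) S.isPGroup'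
    rw [this, ← commutator_def]
  have hMtop : M ≠ ⊤ := by
    intro hMt
    have hP₀n : P₀.Normal := Subgroup.normalizer_eq_top_iff.1 (hM ▸ hMt)
    apply hPT
    -- the centralizer of `P / P₀`
    set π := QuotientGroup.mk' P₀ with hπ
    have hπs : Function.Surjective π := QuotientGroup.mk'_surjective P₀
    haveI hPbn : (P.map π).Normal := hPn.map π hπs
    haveI hCn : (Subgroup.centralizer ((P.map π : Subgroup (G ⧸ P₀)) : Set (G ⧸ P₀))).Normal :=
      Subgroup.normal_centralizer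
    set D := (Subgroup.centralizer ((P.map π : Subgroup (G ⧸ P₀)) : Set (G ⧸ P₀))).comap π with hD
    haveI hDn : D.Normal := hCn.comap π
    have hHD : ∀ H : Subgroup G, ⁅P, H⁆ ≤ P₀ → H ≤ D := by
      intro H hH g hg
      show π g ∈ Subgroup.centralizer ((P.map π : Subgroup (G ⧸ P₀)) : Set (G ⧸ P₀))
      rw [Subgroup.mem_centralizer_iff]
      rintro _ ⟨x, hx, rfl⟩
      rw [← map_mul, ← map_mul]
      apply (QuotientGroup.eq).2
      have h1 : ⁅x⁻¹, g⁻¹⁆ ∈ P₀ := hH (Subgroup.commutator_mem_commutator (inv_mem hx) (inv_mem hg))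
      have e : (x * g)⁻¹ * (g * x) = ⁅x⁻¹, g⁻¹⁆⁻¹ := by
        simp only [commutatorElement_def]; group
      rw [e]
      exact inv_mem h1
    have hSD : (S : Subgroup G) ≤ D := by
      apply hHD
      refine le_inf ?_ (Subgroup.commutator_le_left P _)
      rw [hTFT]
      exact (Subgroup.commutator_mono hPS le_rfl).trans hSS
    have hND : Subgroup.normalizer (((S : Subgroup G) : Subgroup G) : Set G) ≤ D :=
      hHD _ (hover _ Subgroup.le_normalizer hNS)
    have hDtop : D = ⊤ := by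
      have := Sylow.normalizer_sup_eq_top' S hSD
      apply top_le_iff.1
      rw [← this]
      exact sup_le hND le_rfl
    -- `P / P₀` is central
    have hcent : ∀ y : G ⧸ P₀, y ∈ Subgroup.centralizer ((P.map π : Subgroup (G ⧸ P₀)) : Set (G ⧸ P₀)) := by
      intro y
      obtain ⟨g, rfl⟩ := hπs y
      have : g ∈ D := by rw [hDtop]; trivial
      exact this
    let Sb : Sylow p (G ⧸ P₀) := S.mapSurjective hπs
    have hSb : (Sb : Subgroup (G ⧸ P₀)) = (S : Subgroup G).map π := rfl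
    have h1 := inf_commutator_le_of_decomp (P.map π) (Sb : Subgroup (G ⧸ P₀))
      ((pCore_isPGroup p).map π) (by rw [hSb]; exact Subgroup.map_mono hPS) Sb.not_dvd_index
      (fun y => ⟨y, hcent y, 1, one_mem _, (mul_one y).symm⟩)
    rintro x ⟨hxP, hxc⟩
    have h2 : π x ∈ P.map π ⊓ commutator (G ⧸ P₀) := by
      refine ⟨Subgroup.mem_map_of_mem _ hxP, ?_⟩
      rw [commutator_def] at hxc ⊢
      have := Subgroup.mem_map_of_mem π hxc
      rw [Subgroup.map_commutator] at this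
      exact Subgroup.commutator_mono le_top le_top this
    have h3 := h1 h2
    rw [hSb, ← Subgroup.map_commutator] at h3
    obtain ⟨s', hs', hsx⟩ := h3
    have hy : s'⁻¹ * x ∈ P₀ := by
      rw [← QuotientGroup.eq]
      exact hsx
    have : x = s' * (s'⁻¹ * x) := by group
    rw [this]
    refine mul_mem (hSS hs') ?_
    rw [← hTFT]
    exact hy.1
  refine ⟨hcon, ⟨hMtop, ?_⟩, ⟨?_, ?_⟩, ?_⟩
  · intro H hSH hH
    rw [hM]
    exact le_normalizer_of_commutator_le P P₀ H hP₀P (hover H hSH hH)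
  · exact le_inf (Subgroup.commutator_le_left P M)
      (Subgroup.commutator_mono (hPS.trans hSM) le_rfl)
  · have h1 := fctl_sub_le h𝓦 M (hM' M hMtop) S hSM
    refine le_inf inf_le_left ?_
    rw [hTFT]
    exact le_trans (inf_le_inf_right _ hPS) h1
  · intro u huS huP
    by_contra hcon'
    push Not at hcon'
    apply hPT
    set H := Subgroup.normalizer ((Cfsg.Agent.Lib.Helper1.WCT.weakCl (S : Subgroup G) u : Subgroup G) : Set G) with hH
    have hSH : (S : Subgroup G) ≤ H := Cfsg.Agent.Lib.Helper1.WCT.sylow_le_normalizer_weakCl _ u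
    have huw : u ∈ Cfsg.Agent.Lib.Helper1.WCT.weakCl (S : Subgroup G) u :=
      Subgroup.subset_closure ⟨huS, 1, by simp⟩
    have hHtop : H ≠ ⊤ := by
      intro htop
      have hn' : (Cfsg.Agent.Lib.Helper1.WCT.weakCl (S : Subgroup G) u).Normal :=
        Subgroup.normalizer_eq_top_iff.1 htop
      have : Cfsg.Agent.Lib.Helper1.WCT.weakCl (S : Subgroup G) u ≤ pCore p G :=
        Cfsg.Agent.Lib.Helper2.le_pCore hn' (S.isPGroup'.to_le (Cfsg.Agent.Lib.Helper1.WCT.weakCl_le _ u))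
      exact huP (this huw)
    have h1 := fctl_sub_le h𝓦 H (hM' H hHtop) S hSH
    have h2 := Cfsg.Agent.Lib.Helper1.WCT.pCore_inf_commutator_le_weakCl S u
      (fun U V hch hU => hcon' U V hch hU) H hH
    exact (le_inf (inf_le_left.trans hPS) h2).trans h1

end Cfsg.Agent.S1998
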