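import Cfsg.Statements.S2002
import Cfsg.Agent.Lib.Helper11.LG2

set_option autoImplicit false
open Cfsg
open Cfsg.Agent.Lib.Helper11.AG Cfsg.Agent.Lib.Helper11.LG Cfsg.Agent.Lib.Helper1
  Cfsg.Agent.Lib.Helper29

namespace Cfsg.Agent.S2002

/-- Let p be a prime dividing the order of the finite group G, P a Sylow p-subgroup, W a conjugacy functor for p on G with Z(H) ≤ W(H) for every nontrivial p-subgroup H, and V a central functor (a conjugacy functor with V(H) ≤ Z(H), and V(H) ≤ V(K) whenever Z(H) ≤ Z(K)). Say that W with V controls strong fusion in a subgroup L when some Sylow p-subgroup Q of L has the property: whenever X ⊆ Q and a ∈ L with a⁻¹Xa ⊆ Q, then a = c b with c ∈ C_L(X) and b = b₁ ⋯ bₙ a product of elements each in N_L(W(Q)) or in C_L(V(Q)) such that every partial conjugate (b₁ ⋯ bₖ)⁻¹ X (b₁ ⋯ bₖ) lies in Q. If W with V controls strong fusion in N_G(H) for every subgroup H with Z(P) ≤ H ≤ P, then W with V controls strong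 fusion in G. -/
theorem result {G : Type*} [Group G] [Finite G] {p : ℕ} [Fact p.Prime] (hdiv : p ∣ Nat.card G) (P : Sylow p G) (W V : Subgroup G → Subgroup G) (hW : Cfsg.IsConjugacyFunctor p W) (hV : Cfsg.IsConjugacyFunctor p V) (hWZ : ∀ H : Subgroup G, IsPGroup p ↥H → H ⊓ Subgroup.centralizer ((H : Subgroup G) : Set G) ≤ W H) (hVZ : ∀ H : Subgroup G, IsPGroup p ↥H → V H ≤ H ⊓ Subgroup.centralizer ((H : Subgroup G) : Set G)) (hVmono : ∀ H K : Subgroup G, IsPGroup p ↥H → IsPGroup p ↥K → H ≠ ⊥ → K ≠ ⊥ → H ⊓ Subgroup.centralizer ((H : Subgroup G) : Set G) ≤ K ⊓ Subgroup.centralizer ((K : Subgroup G) : Set G) → V H ≤ V K) (hloc : ∀ H : Subgroup G, (P : Subgroup G) ⊓ Subgroup.centralizer (((P : Subgroup G) : Subgroup G) : Set G) ≤ H → H ≤ (P : Subgroup G) → ∃ Q : Subgroup G, Q ≤ Subgroup.normalizer ((H : Subgroup G) : Set G) ∧ IsPGroup p ↥Q ∧ ¬ p ∣ (Q).relIndex (Subgroup.normalizer ((H : Subgroup G) : Set G)) ∧ ∀ (X : Set G) (a : G), X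 ⊆ Q → a ∈ Subgroup.normalizer ((H : Subgroup G) : Set G) → (fun x => a⁻¹ * x * a) '' X ⊆ Q → ∃ c ∈ Subgroup.normalizer ((H : Subgroup G) : Set G) ⊓ Subgroup.centralizer X, ∃ (n : ℕ) (b : Fin n → G), (∀ i, b i ∈ Subgroup.normalizer ((H : Subgroup G) : Set G) ⊓ Subgroup.normalizer ((W Q : Subgroup G) : Set G) ∨ b i ∈ Subgroup.normalizer ((H : Subgroup G) : Set G) ⊓ Subgroup.centralizer ((V Q : Subgroup G) : Set G)) ∧ a = c * (List.ofFn b).prod ∧ ∀ k : ℕ, k ≤ n → (fun x => (((List.ofFn b).take k).prod)⁻¹ * x * ((List.ofFn b).take k).prod) '' ((fun x => c⁻¹ * x * c) '' X) ⊆ Q) : ∃ Q : Subgroup G, IsPGroup p ↥Q ∧ ¬ p ∣ Q.index ∧ ∀ (X : Set G) (a : G), X ⊆ Q → (fun x => a⁻¹ * x * a) '' X ⊆ Q → ∃ c ∈ Subgroup.centralizer X, ∃ (n : ℕ) (b : Fin n → G), (∀ i, b i ∈ ⊤ ⊓ Subgroup.normalizer ((W Q : Subgroup G) : Set G) ∨ b i ∈ ⊤ ⊓ Subgroup.centralizer ((V Q : Subgroup G) : Set G)) ∧ a = c * (List.ofFn b).prod ∧ ∀ k : ℕ, k ≤ n → (fun x => (((List.ofFn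 b).take k).prod)⁻¹ * x * ((List.ofFn b).take k).prod) '' ((fun x => c⁻¹ * x * c) '' X) ⊆ Q := by
  classical
  -- extra steps: centralizers of `V Q`
  set E : Subgroup G → Set G := fun Q => ((Subgroup.centralizer ((V Q : Subgroup G) : Set G) :
    Subgroup G) : Set G) with hE
  have hEconj : ∀ (Q : Subgroup G) (g e : G), IsPGroup p Q → e ∈ E Q →
      g * e * g⁻¹ ∈ E (cj g Q) := by
    intro Q g e hQ he
    have h1 : g * e * g⁻¹ ∈ cj g (Subgroup.centralizer ((V Q : Subgroup G) : Set G)) :=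
      conj_mem_cj he
    rw [cj_centralizer] at h1
    have h2 : V (cj g Q) = cj g (V Q) := (hV Q hQ).2.2 g
    show g * e * g⁻¹ ∈ Subgroup.centralizer ((V (cj g Q) : Subgroup G) : Set G)
    rw [h2]
    exact h1
  have hEmono : ∀ R : Subgroup G, R ≤ (P : Subgroup G) → zz (P : Subgroup G) ≤ zz R →
      E R ⊆ E (P : Subgroup G) := by
    intro R hRP hZ e he
    have hRp : IsPGroup p R := P.isPGroup'.to_le hRP
    show e ∈ Subgroup.centralizer ((V (P : Subgroup G) : Subgroup G) : Set G)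
    by_cases hR : R = ⊥
    · have hVP : V (P : Subgroup G) = ⊥ := by
        rw [eq_bot_iff]
        calc V (P : Subgroup G) ≤ zz (P : Subgroup G) := hVZ _ P.isPGroup'
          _ ≤ zz R := hZ
          _ ≤ R := inf_le_left
          _ = ⊥ := hR
      rw [hVP, Subgroup.mem_centralizer_iff]
      intro h hh
      have : h = 1 := by simpa using hh
      rw [this, one_mul, mul_one]
    · have hPne : (P : Subgroup G) ≠ ⊥ := fun h => hR (le_bot_iff.mp (h ▸ hRP))
      have hle : V (P : Subgroup G) ≤ V R := hVmono _ _ P.isPGroup' hRp hPne hR hZ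
      exact Subgroup.centralizer_le (SetLike.coe_subset_coe.mpr hle) he
  have hloc' : ∀ H : Subgroup G, zz (P : Subgroup G) ≤ H → H ≤ (P : Subgroup G) →
      ∃ Q : Subgroup G, Q ≤ Subgroup.normalizer (H : Set G) ∧ IsPGroup p Q ∧
        ¬ p ∣ Q.relIndex (Subgroup.normalizer (H : Set G)) ∧
        ∀ (X : Set G) (a : G), X ⊆ (Q : Set G) → a ∈ Subgroup.normalizer (H : Set G) →
          rcs a X ⊆ (Q : Set G) → WS (St W E Q) (Q : Set G) X a := by
    intro H hZH hHP
    obtain ⟨Q, hQN, hQp, hQs, hctl⟩ := hloc H hZH hHP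
    refine ⟨Q, hQN, hQp, hQs, ?_⟩
    intro X a hX ha hXa
    obtain ⟨c, hc, n, b, hb, hab, hk⟩ := hctl X a hX ha hXa
    have hcX : rcs c X = X := rcs_eq_of_mem_centralizer hc.2
    refine ⟨c, hc.2, (List.ofFn b).prod, ?_, hab⟩
    apply SChain.of_list
    · intro x hx
      obtain ⟨i, rfl⟩ := (List.mem_ofFn' _ _).mp hx
      rcases hb i with h | h
      · exact Or.inl h.2
      · exact Or.inr h.2
    · intro k hk'
      rw [List.length_ofFn] at hk'
      have := hk k hk'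
      change rcs _ (rcs c X) ⊆ _ at this
      rwa [hcX] at this
  refine ⟨(P : Subgroup G), P.isPGroup', P.not_dvd_index, ?_⟩
  intro X a hX hXa
  obtain ⟨c, hc, y, hy, rfl⟩ :=
    restricted_local_to_global P W hW hWZ E hEconj hEmono hloc' X a hX hXa
  obtain ⟨l, hl, hprod, hk⟩ := hy.exists_list
  have hcX : rcs c X = X := rcs_eq_of_mem_centralizer hc
  refine ⟨c, hc, l.length, fun i => l.get i, ?_, ?_, ?_⟩
  · intro i
    rcases hl (l.get i) (List.get_mem l i) with h | h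
    · exact Or.inl ⟨Subgroup.mem_top _, h⟩
    · exact Or.inr ⟨Subgroup.mem_top _, h⟩
  · rw [List.ofFn_get, hprod]
  · intro k hk'
    rw [List.ofFn_get]
    change rcs _ (rcs c X) ⊆ _
    rw [hcX]
    exact hk k hk'

end Cfsg.Agent.S2002
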