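import Cfsg.Statements.S2004
import Cfsg.Agent.Lib.Helper11.QuadFree3

set_option autoImplicit false
open Cfsg

namespace Cfsg.Agent.S2004

open Cfsg.Agent.Lib.Helper11.QuadFree

/-- Let p be an odd prime and G a finite group such that SL₂(p) is not involved in N_G(P) for any nonidentity p-subgroup P of G. Then every section of G is p-stable in the normalizer form: in each section, whenever an element of the normalizer of a p-subgroup Q acts quadratically on Q, its image in N(Q)/C(Q) lies in O_p(N(Q)/C(Q)). -/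
theorem result {G : Type*} [Group G] [Finite G] {p : ℕ} [Fact p.Prime] (hp : p ≠ 2) (h : ∀ P : Subgroup G, IsPGroup p ↥P → P ≠ ⊥ → ¬ Cfsg.Involves (Matrix.SpecialLinearGroup (Fin 2) (ZMod p)) ↥(Subgroup.normalizer ((P : Subgroup G) : Set G))) : ∀ (K R : Subgroup G) [hR : (R.subgroupOf K).Normal], Cfsg.IsNormalizerPStable p (↥K ⧸ R.subgroupOf K) := by
  intro K R hR
  intro Pb hPb g hg hq
  by_cases hbot : Pb = ⊥
  · subst hbot
    have h1 : (QuotientGroup.mk (s := (Subgroup.centralizer ((⊥ : Subgroup (↥K ⧸ R.subgroupOf K)) : Set (↥K ⧸ R.subgroupOf K))).subgroupOf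
        (Subgroup.normalizer ((⊥ : Subgroup (↥K ⧸ R.subgroupOf K)) : Set (↥K ⧸ R.subgroupOf K))))
        (⟨g, hg⟩ : ↥(Subgroup.normalizer ((⊥ : Subgroup (↥K ⧸ R.subgroupOf K)) : Set (↥K ⧸ R.subgroupOf K))))) = 1 := by
      rw [QuotientGroup.eq_one_iff, Subgroup.mem_subgroupOf]
      show g ∈ Subgroup.centralizer (((⊥ : Subgroup (↥K ⧸ R.subgroupOf K)) : Set (↥K ⧸ R.subgroupOf K)))
      rw [Subgroup.mem_centralizer_iff]
      intro x hx
      have hx1 : x = 1 := Subgroup.mem_bot.1 hx
      rw [hx1]; simp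
    rw [h1]; exact one_mem _
  · apply mem_pCore_of_quad hp Pb hPb ?_ g hg hq
    obtain ⟨Q, hQp, hmap, hN⟩ := exists_lift_psubgroup (R.subgroupOf K) Pb hPb
    have hQne : Q ≠ ⊥ := by
      rintro rfl
      apply hbot
      rw [← hmap, Subgroup.map_bot]
    have hQGp : IsPGroup p ↥(Q.map K.subtype) := hQp.map _
    have hQGne : Q.map K.subtype ≠ ⊥ := by
      intro h0
      apply hQne
      exact (Subgroup.map_eq_bot_iff_of_injective _ K.subtype_injective).1 h0
    have h1 : SL2Free p ↥(Subgroup.normalizer ((Q.map K.subtype : Subgroup G) : Set G)) :=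
      h (Q.map K.subtype) hQGp hQGne
    have h2 : SL2Free p ↥(Subgroup.normalizer (Q : Set ↥K)) := by
      have hle : (Subgroup.normalizer (Q : Set ↥K)).map K.subtype ≤
          Subgroup.normalizer ((Q.map K.subtype : Subgroup G) : Set G) := Subgroup.le_normalizer_map _
      have h3 : SL2Free p ↥((Subgroup.normalizer (Q : Set ↥K)).map K.subtype) := sl2Free_of_le hle h1
      let e := (Subgroup.equivMapOfInjective (Subgroup.normalizer (Q : Set ↥K)) K.subtype
        K.subtype_injective).symm
      exact sl2Free_of_surjective e.toMonoidHom e.surjective h3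
    have h4 : SL2Free p ↥((Subgroup.normalizer (Q : Set ↥K)).map (QuotientGroup.mk' (R.subgroupOf K))) :=
      sl2Free_of_surjective ((QuotientGroup.mk' (R.subgroupOf K)).subgroupMap _)
        ((QuotientGroup.mk' (R.subgroupOf K)).subgroupMap_surjective _) h2
    exact sl2Free_of_le hN h4

end Cfsg.Agent.S2004
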