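import Cfsg.Statements.S2006
import Cfsg.Agent.S2005
import Cfsg.Agent.Lib.Helper11.BabyHallHigman
import Cfsg.Agent.Lib.Helper11.ChiefModule
import Cfsg.Agent.Lib.Helper11.MinNormalP
import Cfsg.Agent.Lib.Helper11.CoprimeMinimal

set_option autoImplicit false
set_option linter.unusedSectionVars false
universe u
open Cfsg

namespace Cfsg.Agent.S2006

open Subgroup Cfsg.Agent.Lib.Helper13 Cfsg.Agent.Lib.Helper11
open scoped commutatorElement

section Cseq

variable {Y : Type*} [Group Y]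

/-- the iterated commutators `[g, [g, ... [g, x]]]` -/
def cseq (g x : Y) : ℕ → Y
  | 0 => x
  | k + 1 => g * cseq g x k * g⁻¹ * (cseq g x k)⁻¹

theorem cseq_mem_iter (N : Subgroup Y) (g x : Y) (hx : x ∈ N) (k : ℕ) :
    cseq g x k ∈ Cfsg.iterCommutator N (zpowers g) k := by
  induction k with
  | zero => exact hx
  | succ k ih =>
    show _ ∈ ⁅Cfsg.iterCommutator N (zpowers g) k, zpowers g⁆
    rw [Subgroup.commutator_comm]
    have := Subgroup.commutator_mem_commutator (mem_zpowers g) ih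
    rwa [commutatorElement_def] at this

theorem map_cseq {Z : Type*} [Group Z] (f : Y →* Z) (g x : Y) (k : ℕ) :
    f (cseq g x k) = cseq (f g) (f x) k := by
  induction k with
  | zero => rfl
  | succ k ih =>
    show f (g * cseq g x k * g⁻¹ * (cseq g x k)⁻¹) = _
    rw [map_mul, map_mul, map_mul, map_inv, map_inv, ih]
    rfl

end Cseq

section Structure

variable {Y : Type u} [Group Y] [Finite Y] {p : ℕ} [Fact p.Prime]

theorem ker_pi : (QuotientGroup.mk' (pCore p Y)).ker = pCore p Y := QuotientGroup.ker_mk' _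

theorem inf_le_O (T : Sylow p Y) (Nb : Subgroup (Y ⧸ pCore p Y))
    (hcop : (Nat.card Nb).Coprime p) :
    Nb.comap (QuotientGroup.mk' (pCore p Y)) ⊓ T ≤ pCore p Y := by
  intro x hx
  obtain ⟨hxK, hxT⟩ := mem_inf.1 hx
  rw [mem_comap] at hxK
  have h1 : orderOf ((QuotientGroup.mk' (pCore p Y)) x) ∣ Nat.card Nb :=
    Subgroup.orderOf_dvd_natCard _ hxK
  obtain ⟨j, hj⟩ := T.2 ⟨x, hxT⟩
  have hj' : x ^ (p ^ j) = 1 := by
    have := congrArg Subtype.val hj
    simpa using this
  have h2 : orderOf ((QuotientGroup.mk' (pCore p Y)) x) ∣ p ^ j := by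
    apply orderOf_dvd_of_pow_eq_one
    rw [← map_pow, hj', map_one]
  have h3 : orderOf ((QuotientGroup.mk' (pCore p Y)) x) = 1 :=
    Nat.eq_one_of_dvd_coprimes (Nat.Coprime.pow_right j hcop) h1 h2
  rw [orderOf_eq_one_iff] at h3
  rw [← ker_pi (p := p) (Y := Y), MonoidHom.mem_ker]
  exact h3

theorem sup_eq_top (T : Sylow p Y) (Nb : Subgroup (Y ⧸ pCore p Y)) (k : ℕ)
    (hk : Nb.index = p ^ k) :
    Nb.comap (QuotientGroup.mk' (pCore p Y)) ⊔ T = ⊤ := by
  have hp : p.Prime := Fact.out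
  rw [← Subgroup.index_eq_one]
  have h1 : (Nb.comap (QuotientGroup.mk' (pCore p Y)) ⊔ T).index ∣ p ^ k := by
    rw [← hk, ← Subgroup.index_comap_of_surjective _ (QuotientGroup.mk'_surjective (pCore p Y))]
    exact Subgroup.index_dvd_of_le le_sup_left
  have h2 : (Nb.comap (QuotientGroup.mk' (pCore p Y)) ⊔ T).index ∣ (T : Subgroup Y).index :=
    Subgroup.index_dvd_of_le le_sup_right
  obtain ⟨i, -, hi⟩ := (Nat.dvd_prime_pow hp).1 h1
  rcases i with _ | i
  · simpa using hi
  · exfalso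
    apply T.not_dvd_index
    refine dvd_trans ?_ h2
    rw [hi]
    exact dvd_pow_self p (Nat.succ_ne_zero i)

theorem claimA (T : Sylow p Y) (hT : IsCoatom (T : Subgroup Y)) (K : Subgroup Y)
    (hKT : K ⊓ T ≤ pCore p Y) (X : Subgroup Y) (hOX : pCore p Y ≤ X) (hXK : X ≤ K)
    (hTX : (T : Subgroup Y) ≤ normalizer (X : Set Y)) : X = pCore p Y ∨ X = K := by
  rcases eq_or_lt_of_le (le_sup_right : (T : Subgroup Y) ≤ X ⊔ T) with h | h
  · left
    apply le_antisymm _ hOX
    intro x hx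
    apply hKT
    refine mem_inf.2 ⟨hXK hx, ?_⟩
    rw [h]
    exact (le_sup_left : X ≤ X ⊔ T) hx
  · right
    have htop : X ⊔ T = ⊤ := hT.2 _ h
    apply le_antisymm hXK
    intro k hk
    have hk' : k ∈ (T : Subgroup Y) ⊔ X := by rw [sup_comm, htop]; exact mem_top _
    obtain ⟨t, ht, x, hx, rfl⟩ := Cfsg.Agent.S5255.exists_mul_of_mem_sup (T : Subgroup Y) X
      (fun a ha b hb => (mem_normalizer_iff.1 (hTX ha) b).1 hb) hk'
    have htK : t ∈ K := by
      have := K.mul_mem hk (K.inv_mem (hXK hx))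
      simpa using this
    have htO : t ∈ pCore p Y := hKT (mem_inf.2 ⟨htK, ht⟩)
    exact X.mul_mem (hOX htO) hx

theorem claimB (T : Sylow p Y) (hT : IsCoatom (T : Subgroup Y))
    (Nb : Subgroup (Y ⧸ pCore p Y)) [hNn : Nb.Normal] (hcop : (Nat.card Nb).Coprime p) :
    ∀ a ∈ Nb, ∀ b ∈ Nb, a * b = b * a := by
  have hsurj := QuotientGroup.mk'_surjective (pCore p Y)
  apply CoprimeMinimal.comm_of_invariant_min Nb ((T : Subgroup Y).map (QuotientGroup.mk' (pCore p Y)))
    hcop (T.2.map _)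
  intro Xb hXb hTXb
  have hTX : (T : Subgroup Y) ≤ normalizer ((Xb.comap (QuotientGroup.mk' (pCore p Y)) : Subgroup Y) : Set Y) := by
    intro t ht
    apply Subgroup.le_normalizer_comap
    rw [mem_comap]
    exact hTXb (mem_map_of_mem _ ht)
  have hOX : pCore p Y ≤ Xb.comap (QuotientGroup.mk' (pCore p Y)) := by
    intro o ho
    rw [mem_comap]
    have : (QuotientGroup.mk' (pCore p Y)) o = 1 := by
      rw [← MonoidHom.mem_ker, ker_pi]; exact ho
    rw [this]; exact one_mem _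
  rcases claimA T hT _ (inf_le_O T Nb hcop) _ hOX (comap_mono hXb) hTX with h | h
  · left
    have := congrArg (Subgroup.map (QuotientGroup.mk' (pCore p Y))) h
    rw [Subgroup.map_comap_eq_self_of_surjective hsurj, QuotientGroup.map_mk'_self] at this
    exact this
  · right
    have := congrArg (Subgroup.map (QuotientGroup.mk' (pCore p Y))) h
    rw [Subgroup.map_comap_eq_self_of_surjective hsurj,
      Subgroup.map_comap_eq_self_of_surjective hsurj] at this
    exact this

theorem claimE (T : Sylow p Y) (Nb : Subgroup (Y ⧸ pCore p Y)) [hNn : Nb.Normal]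
    (hsup : Nb.comap (QuotientGroup.mk' (pCore p Y)) ⊔ T = ⊤)
    (g : Y) (hgT : g ∈ (T : Subgroup Y))
    (hg : ∀ k ∈ Nb.comap (QuotientGroup.mk' (pCore p Y)), ⁅g, k⁆ ∈ pCore p Y) :
    g ∈ pCore p Y := by
  have hsurj := QuotientGroup.mk'_surjective (pCore p Y)
  obtain ⟨E, hE⟩ : ∃ E : Subgroup Y, E = (T : Subgroup Y) ⊓
      (centralizer (Nb : Set (Y ⧸ pCore p Y))).comap (QuotientGroup.mk' (pCore p Y)) := ⟨_, rfl⟩
  have hCn : ((centralizer (Nb : Set (Y ⧸ pCore p Y))).comap
      (QuotientGroup.mk' (pCore p Y))).Normal := Subgroup.Normal.comap inferInstance _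
  have hmemC : ∀ y : Y, y ∈ (centralizer (Nb : Set (Y ⧸ pCore p Y))).comap
      (QuotientGroup.mk' (pCore p Y)) ↔ ∀ k ∈ Nb.comap (QuotientGroup.mk' (pCore p Y)),
        ⁅y, k⁆ ∈ pCore p Y := by
    intro y
    rw [mem_comap, mem_centralizer_iff]
    constructor
    · intro h k hk
      rw [mem_comap] at hk
      have h1 := h _ hk
      rw [← ker_pi (p := p) (Y := Y), MonoidHom.mem_ker, commutatorElement_def, map_mul, map_mul,
        map_mul, map_inv, map_inv, ← h1]
      group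
    · intro h kb hkb
      obtain ⟨k, rfl⟩ := hsurj kb
      have h1 := h k (mem_comap.2 hkb)
      rw [← ker_pi (p := p) (Y := Y), MonoidHom.mem_ker, commutatorElement_def, map_mul, map_mul,
        map_mul, map_inv, map_inv] at h1
      have h2 := congrArg (fun z => z * ((QuotientGroup.mk' (pCore p Y)) k) *
        ((QuotientGroup.mk' (pCore p Y)) y)) h1
      simp only [one_mul] at h2
      rw [← h2]
      group
  have hgE : g ∈ E := by
    rw [hE]
    exact mem_inf.2 ⟨hgT, (hmemC g).2 hg⟩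
  have hEp : IsPGroup p E := T.2.to_le (by rw [hE]; exact inf_le_left)
  have hOT : pCore p Y ≤ (T : Subgroup Y) := Cfsg.Agent.Lib.Helper16.pCore_le_sylow T
  have hEn : E.Normal := by
    rw [← Subgroup.normalizer_eq_top_iff, eq_top_iff, ← hsup]
    refine sup_le ?_ ?_
    · intro k hk
      apply Cfsg.Agent.S1910.mem_normalizer_of_cj_le
      intro x hx
      rw [Cfsg.Agent.S0520.mem_cj] at hx
      rw [hE] at hx ⊢
      obtain ⟨hxT, hxC⟩ := mem_inf.1 hx
      have hxC' : x ∈ (centralizer (Nb : Set (Y ⧸ pCore p Y))).comap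
          (QuotientGroup.mk' (pCore p Y)) := by
        have := hCn.conj_mem _ hxC k
        have h2 : k * (k⁻¹ * x * k) * k⁻¹ = x := by group
        rwa [h2] at this
      refine mem_inf.2 ⟨?_, hxC'⟩
      have h3 : ⁅k⁻¹ * x * k, k⁆ ∈ pCore p Y := (hmemC _).1 hxC k hk
      have h4 : x = (⁅k⁻¹ * x * k, k⁆)⁻¹ * (k⁻¹ * x * k) := by
        rw [commutatorElement_def]; group
      rw [h4]
      exact (T : Subgroup Y).mul_mem (hOT (inv_mem h3)) hxT
    · intro t ht
      apply Cfsg.Agent.S1910.mem_normalizer_of_cj_le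
      intro x hx
      rw [Cfsg.Agent.S0520.mem_cj] at hx
      rw [hE] at hx ⊢
      obtain ⟨hxT, hxC⟩ := mem_inf.1 hx
      refine mem_inf.2 ⟨?_, ?_⟩
      · have := (T : Subgroup Y).mul_mem ((T : Subgroup Y).mul_mem ht hxT) ((T : Subgroup Y).inv_mem ht)
        have h2 : t * (t⁻¹ * x * t) * t⁻¹ = x := by group
        rwa [h2] at this
      · have := hCn.conj_mem _ hxC t
        have h2 : t * (t⁻¹ * x * t) * t⁻¹ = x := by group
        rwa [h2] at this
  exact Cfsg.Agent.Lib.Helper16.le_pCore hEn hEp hgE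

end Structure

section Main

theorem val_pow_sub_one {Z : Type*} [Group Z] {M : Subgroup Z}
    {hM : ∀ a ∈ M, ∀ b ∈ M, a * b = b * a} (hn : M.Normal) (z : Z)
    (a : ChiefModule.Mod M hM) (k : ℕ) :
    ChiefModule.val (((((ChiefModule.rho hn z : (AddMonoid.End (ChiefModule.Mod M hM))ˣ) :
      AddMonoid.End (ChiefModule.Mod M hM)) - 1) ^ k) a) = cseq z (ChiefModule.val a) k := by
  induction k with
  | zero => rfl
  | succ k ih =>
    rw [pow_succ']
    show ChiefModule.val ((((ChiefModule.rho hn z : (AddMonoid.End (ChiefModule.Mod M hM))ˣ) :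
      AddMonoid.End (ChiefModule.Mod M hM)) - 1) (((((ChiefModule.rho hn z :
      (AddMonoid.End (ChiefModule.Mod M hM))ˣ) :
      AddMonoid.End (ChiefModule.Mod M hM)) - 1) ^ k) a)) = _
    rw [ChiefModule.val_rho_sub_one, ih]
    rfl

variable {Y : Type u} [Group Y] [Finite Y] {p : ℕ} [Fact p.Prime]

theorem lemmaL (hNPC : Cfsg.HasNormalPComplement p (Y ⧸ pCore p Y)) (T : Sylow p Y)
    (hT : IsCoatom (T : Subgroup Y)) (g : Y) (hgT : g ∈ (T : Subgroup Y)) (U V : Subgroup Y)
    (hUV : Cfsg.IsChiefFactor U V) (hUO : U ≤ pCore p Y)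
    (hiter : Cfsg.iterCommutator U (zpowers g) (p - 1) ≤ V) : ⁅U, zpowers g⁆ ≤ V := by
  classical
  have hp : p.Prime := Fact.out
  obtain ⟨hVU, hUn, hVn, hchief⟩ := hUV
  haveI := hVn
  obtain ⟨Nb, hNn, hcop, k, hk⟩ := npc_iff.1 hNPC
  haveI := hNn
  have hsurjO := QuotientGroup.mk'_surjective (pCore p Y)
  have hsurjV := QuotientGroup.mk'_surjective V
  have hkerV : (QuotientGroup.mk' V).ker = V := QuotientGroup.ker_mk' V
  -- the subgroup K
  obtain ⟨K, hK⟩ : ∃ K : Subgroup Y, K = Nb.comap (QuotientGroup.mk' (pCore p Y)) := ⟨_, rfl⟩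
  have hKn : K.Normal := by rw [hK]; exact hNn.comap _
  have hOK : pCore p Y ≤ K := by
    intro o ho
    rw [hK, mem_comap]
    have : (QuotientGroup.mk' (pCore p Y)) o = 1 := by
      rw [← MonoidHom.mem_ker, ker_pi]; exact ho
    rw [this]; exact one_mem _
  have hKT : K ⊓ T ≤ pCore p Y := by rw [hK]; exact inf_le_O T Nb hcop
  have hsup : K ⊔ T = ⊤ := by rw [hK]; exact sup_eq_top T Nb k hk
  have hKK : ∀ k₁ ∈ K, ∀ k₂ ∈ K, ⁅k₁, k₂⁆ ∈ pCore p Y := by
    intro k₁ h₁ k₂ h₂
    rw [hK, mem_comap] at h₁ h₂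
    have := claimB T hT Nb hcop _ h₁ _ h₂
    rw [← ker_pi (p := p) (Y := Y), MonoidHom.mem_ker, map_commutatorElement,
      commutatorElement_eq_one_iff_mul_comm]
    exact this
  -- the quotient by `V`
  obtain ⟨M, hM⟩ : ∃ M : Subgroup (Y ⧸ V), M = U.map (QuotientGroup.mk' V) := ⟨_, rfl⟩
  have hMn : M.Normal := by rw [hM]; exact hUn.map _ hsurjV
  have hMp : IsPGroup p M := by
    rw [hM]; exact ((Cfsg.Agent.Lib.Helper16.pCore_isPGroup p Y).to_le hUO).map _
  have hMmin : ∀ N : Subgroup (Y ⧸ V), N.Normal → N ≤ M → N = ⊥ ∨ N = M := by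
    intro N hN hNM
    have h1 : V ≤ N.comap (QuotientGroup.mk' V) := by
      intro v hv
      rw [mem_comap]
      have : (QuotientGroup.mk' V) v = 1 := by
        rw [← MonoidHom.mem_ker, hkerV]; exact hv
      rw [this]; exact one_mem _
    have h2 : N.comap (QuotientGroup.mk' V) ≤ U := by
      have := comap_mono (f := QuotientGroup.mk' V) hNM
      rw [hM, Subgroup.comap_map_eq, hkerV, sup_of_le_left hVU.le] at this
      exact this
    rcases hchief _ (hN.comap _) h1 h2 with h | h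
    · left
      have := congrArg (Subgroup.map (QuotientGroup.mk' V)) h
      rw [Subgroup.map_comap_eq_self_of_surjective hsurjV, QuotientGroup.map_mk'_self] at this
      exact this
    · right
      have := congrArg (Subgroup.map (QuotientGroup.mk' V)) h
      rw [Subgroup.map_comap_eq_self_of_surjective hsurjV] at this
      rw [hM]; exact this
  have hcomm := MinNormalP.comm_of_min hMn hMp hMmin
  have hexp := MinNormalP.pow_eq_one_of_min hMn hMp hMmin
  -- the representation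
  obtain ⟨ρ, hρ⟩ : ∃ ρ : Y →* (AddMonoid.End (ChiefModule.Mod M hcomm))ˣ,
      ρ = (ChiefModule.rho hMn).comp (QuotientGroup.mk' V) := ⟨_, rfl⟩
  have hρker : ∀ y : Y, y ∈ ρ.ker ↔ (QuotientGroup.mk' V) y ∈ centralizer (M : Set (Y ⧸ V)) := by
    intro y
    rw [MonoidHom.mem_ker, hρ, MonoidHom.comp_apply, ChiefModule.rho_eq_one_iff,
      mem_centralizer_iff]
    constructor
    · intro h m hm
      exact (mul_inv_eq_iff_eq_mul.1 (h m hm)).symm
    · intro h m hm
      exact mul_inv_eq_iff_eq_mul.2 (h m hm).symm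
  have hker : ∀ P : Subgroup Y, IsPGroup p P → ∀ Q : Subgroup Y, Q ≤ ρ.ker → (Q ⊔ P).Normal →
      P ≤ ρ.ker := by
    intro P hP Q hQ hQP x hx
    rw [hρker]
    refine MinNormalP.le_centralizer_of_min hMn hMp hMmin (P := P.map (QuotientGroup.mk' V))
      (Q := Q.map (QuotientGroup.mk' V)) (hP.map _) ?_ ?_ (mem_map_of_mem _ hx)
    · rintro _ ⟨q, hq, rfl⟩
      exact (hρker q).1 (hQ hq)
    · rw [← Subgroup.map_sup]
      exact hQP.map _ hsurjV
  have hOker : pCore p Y ≤ ρ.ker :=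
    hker _ (Cfsg.Agent.Lib.Helper16.pCore_isPGroup p Y) ⊥ bot_le
      (by rw [bot_sup_eq]; exact Cfsg.pCore_normal p Y)
  have hpR : ((p : ℕ) : AddMonoid.End (ChiefModule.Mod M hcomm)) = 0 :=
    ChiefModule.natCast_eq_zero p hexp
  have hγ : (((ρ g : (AddMonoid.End (ChiefModule.Mod M hcomm))ˣ) :
      AddMonoid.End (ChiefModule.Mod M hcomm)) - 1) ^ (p - 1) = 0 := by
    ext a
    apply ChiefModule.val_injective
    rw [hρ, MonoidHom.comp_apply, val_pow_sub_one]
    obtain ⟨u, hu, hua⟩ : ∃ u ∈ U, (QuotientGroup.mk' V) u = ChiefModule.val a := by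
      have h0 := ChiefModule.val_mem a
      have h1 : ChiefModule.val a ∈ U.map (QuotientGroup.mk' V) := by
        rw [← hM]; exact h0
      exact h1
    rw [← hua, ← map_cseq]
    have h1 : cseq g u (p - 1) ∈ V := hiter (cseq_mem_iter U g u hu (p - 1))
    rw [← hkerV, MonoidHom.mem_ker] at h1
    rw [h1]
    rfl
  -- the image of `K`
  have hcommB : ∀ a ∈ K.map ρ, ∀ b ∈ K.map ρ, a * b = b * a := by
    rintro _ ⟨k₁, h₁, rfl⟩ _ ⟨k₂, h₂, rfl⟩
    have := hOker (hKK k₁ h₁ k₂ h₂)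
    rw [MonoidHom.mem_ker, map_commutatorElement, commutatorElement_eq_one_iff_mul_comm] at this
    exact this
  have hcopB : (Nat.card (K.map ρ)).Coprime p := by
    have h1 : K.map ρ = Nb.map (QuotientGroup.lift (pCore p Y) ρ hOker) := by
      have h2 : ρ = (QuotientGroup.lift (pCore p Y) ρ hOker).comp
          (QuotientGroup.mk' (pCore p Y)) := by
        ext y
        rfl
      conv_lhs => rw [h2, ← Subgroup.map_map, hK,
        Subgroup.map_comap_eq_self_of_surjective hsurjO]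
    rw [h1]
    exact Nat.Coprime.coprime_dvd_left (Subgroup.card_map_dvd _ _) hcop
  have hnormB : ∀ b ∈ K.map ρ, (ρ g)⁻¹ * b * ρ g ∈ K.map ρ := by
    rintro _ ⟨k₁, h₁, rfl⟩
    refine ⟨g⁻¹ * k₁ * g, ?_, ?_⟩
    · have := hKn.conj_mem k₁ h₁ g⁻¹
      simpa using this
    · rw [map_mul, map_mul, map_inv]
  haveI : Finite ↥(K.map ρ) :=
    Finite.of_surjective (fun k : K => (⟨ρ k, mem_map_of_mem _ k.2⟩ : ↥(K.map ρ)))
      (by rintro ⟨_, k, hk, rfl⟩; exact ⟨⟨k, hk⟩, rfl⟩)
  have hcent := BHH.centralizes hp hpR (ρ g) hγ (K.map ρ) hcommB hcopB hnormB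
  have hgK : ∀ k₁ ∈ K, ⁅g, k₁⁆ ∈ ρ.ker ⊓ K := by
    intro k₁ h₁
    refine mem_inf.2 ⟨?_, ?_⟩
    · rw [MonoidHom.mem_ker, map_commutatorElement, commutatorElement_eq_one_iff_mul_comm]
      exact hcent _ (mem_map_of_mem _ h₁)
    · rw [commutatorElement_def]
      exact K.mul_mem (hKn.conj_mem k₁ h₁ g) (K.inv_mem h₁)
  have hXn : (ρ.ker ⊓ K).Normal := by
    haveI := hKn
    exact inferInstance
  have hTX : (T : Subgroup Y) ≤ normalizer ((ρ.ker ⊓ K : Subgroup Y) : Set Y) := by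
    rw [Subgroup.normalizer_eq_top]; exact le_top
  have hgker : g ∈ ρ.ker := by
    rcases claimA T hT K hKT (ρ.ker ⊓ K) (le_inf hOker hOK) inf_le_right hTX with h | h
    · apply hOker
      apply claimE T Nb (by rw [← hK]; exact hsup) g hgT
      intro k₁ h₁
      rw [← hK] at h₁
      rw [← h]
      exact hgK k₁ h₁
    · have hKker : K ≤ ρ.ker := by
        rw [← h]; exact inf_le_left
      exact hker (T : Subgroup Y) T.2 K hKker (by rw [hsup]; exact Subgroup.normal_top) hgT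
  -- conclusion
  rw [Subgroup.commutator_le]
  intro u hu h hh
  have hhker : h ∈ ρ.ker := (zpowers_le.2 hgker) hh
  have h1 := (mem_centralizer_iff.1 ((hρker h).1 hhker)) ((QuotientGroup.mk' V) u)
    (by rw [hM]; exact mem_map_of_mem _ hu)
  rw [← hkerV, MonoidHom.mem_ker, map_commutatorElement, commutatorElement_eq_one_iff_mul_comm]
  exact h1

end Main

/-- Let p be a prime, G a finite group with Sylow p-subgroup S, and W an isomorphism-invariant p-group functor (W assigns to every group Q a subgroup W(Q), nontrivial whenever Q is a nontrivial finite p-group, and every isomorphism from a finite p-group Q onto a group R carries W(Q) onto W(R)). Suppose N_G(W(S)) has a normal p-complement, and that whenever G* = K/R is a section of G with C_{G*}(O_p(G*)) ≤ O_p(G*) and S* is a Sylow p-subgroup of G* with W(S*) not normal in G*, there are an element g of S* outside O_p(G*) and a chief factor X/Y of G* with X ≤ O_p(G*) such that [X, g, …, g] ≤ Y with p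 − 1 entries g but [X, g] ≰ Y. Then G has a normal p-complement. -/
theorem result {G : Type u} [Group G] [Finite G] {p : ℕ} [Fact p.Prime] (W : ∀ (Q : Type u) [Group Q], Subgroup Q) (hW : Cfsg.IsCharPFunctor.{u} p W) (S : Sylow p G) (hN : Cfsg.HasNormalPComplement p ↥(Subgroup.normalizer ((Cfsg.inducedFunctor (G := G) W (S : Subgroup G) : Subgroup G) : Set G))) (hloc : ∀ (K R : Subgroup G) [hR : (R.subgroupOf K).Normal], Subgroup.centralizer ((Cfsg.pCore p (↥K ⧸ R.subgroupOf K) : Subgroup (↥K ⧸ R.subgroupOf K)) : Set (↥K ⧸ R.subgroupOf K)) ≤ Cfsg.pCore p (↥K ⧸ R.subgroupOf K) → ∀ T : Sylow p (↥K ⧸ R.subgroupOf K), ¬ (Cfsg.inducedFunctor (G := (↥K ⧸ R.subgroupOf K)) W ((T : Subgroup (↥K ⧸ R.subgroupOf K)))).Normal → ∃ g : (↥K ⧸ R.subgroupOf K), g ∈ (T : Subgroup (↥K ⧸ R.subgroupOf K)) ∧ g ∉ Cfsg.pCore p (↥K ⧸ R.subgroupOf K) ∧ ∃ U V : Subgroup (↥K ⧸ R.subgroupOf K), Cfsg.IsChiefFactor U V ∧ U ≤ Cfsg.pCore p (↥K ⧸ R.subgroupOf K) ∧ Cfsg.iterCommutator U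 (Subgroup.zpowers g) (p - 1) ≤ V ∧ ¬ ⁅U, Subgroup.zpowers g⁆ ≤ V) : Cfsg.HasNormalPComplement p G := by
  apply Cfsg.Agent.S2005.result W hW S hN
  intro K R hR hC hNPC T hT
  by_contra hnot
  obtain ⟨g, hgT, -, U, V, hUV, hUO, hiter, hnot'⟩ := hloc K R hC T hnot
  exact hnot' (lemmaL hNPC T hT g hgT U V hUV hUO hiter)

end Cfsg.Agent.S2006
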