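import Cfsg.Statements.S2008
import Cfsg.Agent.Lib.Helper4.KleinInvert

set_option autoImplicit false
open Cfsg

namespace Cfsg.Agent.S2008

/-- Let H be a finite group and z an involution such that every proper normal subgroup of H meets the centralizer of z trivially, and suppose z lies in a Klein four-subgroup E of H all three of whose involutions are conjugate to z in H. Then H has no non-trivial abelian normal subgroup. -/
theorem result {H : Type*} [Group H] [Finite H] (z : H) (hz : orderOf z = 2) (hN : ∀ N : Subgroup H, N.Normal → N ≠ ⊤ → N ⊓ Subgroup.centralizer ({z} : Set H) = ⊥) (E : Subgroup H) (hE : IsKleinFour ↥E) (hzE : z ∈ E) (hc : ∀ e ∈ E, e ≠ 1 → IsConj z e) (N : Subgroup H) [N.Normal] (hab : IsMulCommutative ↥N) : N = ⊥ := by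
  have hz1 : z ≠ 1 := by
    intro h
    rw [h, orderOf_one] at hz
    omega
  by_cases hNtop : N = ⊤
  · exfalso
    -- H is commutative, so every involution of E equals z; but E has 4 elements
    have hcomm : ∀ a b : H, a * b = b * a := by
      intro a b
      have ha : a ∈ N := by rw [hNtop]; exact Subgroup.mem_top a
      have hb : b ∈ N := by rw [hNtop]; exact Subgroup.mem_top b
      have := hab.is_comm.comm (⟨a, ha⟩ : N) ⟨b, hb⟩
      exact congrArg Subtype.val this
    have hall : ∀ e ∈ E, e ≠ 1 → e = z := by
      intro e he he1
      obtain ⟨c, hc'⟩ := isConj_iff.mp (hc e he he1)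
      rw [← hc', hcomm c z]; group
    have hcard : Nat.card E = 4 := hE.card_four
    classical
    let f : E → Bool := fun b => decide (b = 1)
    have hf : Function.Injective f := by
      intro b1 b2 h12
      by_cases hb1 : b1 = 1
      · have h4 : f b2 = true := by rw [← h12]; simp [f, hb1]
        have h5 : b2 = 1 := by simpa [f] using h4
        rw [hb1, h5]
      · have hb2 : b2 ≠ 1 := by
          intro hb2
          have h4 : f b1 = true := by rw [h12]; simp [f, hb2]
          exact hb1 (by simpa [f] using h4)
        have hb1' : (b1 : H) ≠ 1 := fun h => hb1 (Subtype.ext h)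
        have hb2' : (b2 : H) ≠ 1 := fun h => hb2 (Subtype.ext h)
        exact Subtype.ext ((hall b1 b1.2 hb1').trans (hall b2 b2.2 hb2').symm)
    have hfin : Finite E := Subtype.finite
    have := Nat.card_le_card_of_injective f hf
    rw [hcard] at this
    simp at this
  · exact Cfsg.Agent.Lib.Helper4.normal_eq_bot_of_klein z E hE hzE hz1 hc N (hN N inferInstance hNtop)

end Cfsg.Agent.S2008
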