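import Cfsg.Statements.S2010
import Mathlib
import Cfsg.Agent.Lib.Helper15.S4F4
import Cfsg.Agent.Lib.Helper15.ZJE1
import Cfsg.Agent.Lib.Lead.ZJFunctorD
import Cfsg.Agent.Lib.Lead.PSolvOfSolv
import Cfsg.Agent.Lib.Helper3.PSolvable
import Cfsg.Agent.Lib.Helper11.SFS2
import Cfsg.Agent.Lib.Helper11.QuadFree2
import Cfsg.Agent.Lib.Helper23.FusionTools
import Cfsg.Agent.Lib.Helper16.SylowNormal

set_option autoImplicit false
open Cfsg

namespace Cfsg.Agent.S2010

open Subgroup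
open scoped commutatorElement
open Cfsg.Agent.Lib.Lead.GlaubermanReplE (maxEIn maxEIn_nonempty)
open Cfsg.Agent.Lib.Lead.GlaubermanZJE (JE le_JE JE_le maxEIn_mono thompsonSubgroupOf_eq_JE)
open Cfsg.Agent.Lib.Helper15.S4F

/-- an elementary abelian subgroup of maximal order in a Sylow `2`-subgroup has maximal order in
the group -/
theorem maxEIn_top_of_sylow {G : Type*} [Group G] [Finite G] (P : Sylow 2 G) {A : Subgroup G}
    (hA : A ∈ maxEIn 2 (P : Subgroup G)) : A ∈ maxEIn 2 (⊤ : Subgroup G) := by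
  haveI : Fact (Nat.Prime 2) := ⟨Nat.prime_two⟩
  refine ⟨le_top, hA.2.1, hA.2.2.1, fun B _ hBc hBe => ?_⟩
  have hBp : IsPGroup 2 B := by
    intro g
    refine ⟨1, Subtype.ext ?_⟩
    have := hBe g g.2
    simpa using this
  obtain ⟨c, -, hc⟩ :=
    Cfsg.Agent.Lib.Helper23.FusionTools.exists_conj_mem_sylow P ⊤ le_top B hBp le_top
  have h1 : Nat.card ↥(B.map (MulAut.conj c).toMonoidHom) = Nat.card B :=
    Subgroup.card_map_of_injective (MulAut.conj c).injective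
  rw [← h1]
  apply hA.2.2.2
  · rintro _ ⟨b, hb, rfl⟩
    exact hc b hb
  · rintro _ ⟨x, hx, rfl⟩ _ ⟨y, hy, rfl⟩
    rw [← map_mul, ← map_mul, hBc x hx y hy]
  · rintro _ ⟨x, hx, rfl⟩
    rw [← map_pow, hBe x hx, map_one]

/-- class two passes from a Sylow `2`-subgroup to all `2`-subgroups -/
theorem cl2_of_sylow {G : Type*} [Group G] [Finite G] (P : Sylow 2 G)
    (h : ∀ x ∈ (P : Subgroup G), ∀ y ∈ (P : Subgroup G), ∀ z ∈ (P : Subgroup G),
      ⁅⁅x, y⁆, z⁆ = 1) : Cl2 G := by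
  haveI : Fact (Nat.Prime 2) := ⟨Nat.prime_two⟩
  intro T hT x hx y hy z hz
  obtain ⟨c, -, hc⟩ :=
    Cfsg.Agent.Lib.Helper23.FusionTools.exists_conj_mem_sylow P ⊤ le_top T hT le_top
  have h1 := h _ (hc x hx) _ (hc y hy) _ (hc z hz)
  have h2 : ⁅⁅c * x * c⁻¹, c * y * c⁻¹⁆, c * z * c⁻¹⁆ = c * ⁅⁅x, y⁆, z⁆ * c⁻¹ := by
    simp only [commutatorElement_def]; group
  rw [h2] at h1
  exact conj_eq_one_iff.mp h1

/-- Let G be a finite solvable group with no section isomorphic to the symmetric group of degree 4, whose Sylow 2-subgroup S has nilpotency class at most 2. Then G = N_G(J_e(S)) · O_{2'}(G), where J_e(S) is the subgroup generated by the elementary abelian subgroups of S of largest order. -/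
theorem result {G : Type*} [Group G] [Finite G]
    [Group.IsSolvable G] (hS4 : ¬ Cfsg.Involves (Equiv.Perm (Fin 4)) G) (S : Sylow 2 G)
    (hcl : Subgroup.lowerCentralSeries (S : Subgroup G) 2 = ⊥) :
    Subgroup.normalizer ((Cfsg.thompsonSubgroupOf 2 (S : Subgroup G)) : Set G) ⊔ Cfsg.pPrimeCore 2 G = ⊤ := by
  haveI : Fact (Nat.Prime 2) := ⟨Nat.prime_two⟩
  rw [thompsonSubgroupOf_eq_JE]
  set K := Cfsg.pPrimeCore 2 G with hK
  have hKn : K.Normal := Cfsg.Agent.Lib.Helper2.pPrimeCore_normal 2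
  have hKc : (Nat.card K).Coprime 2 := Cfsg.Agent.Lib.Helper2.pPrimeCore_coprime 2
  set π := QuotientGroup.mk' K with hπ
  have hsurj : Function.Surjective π := QuotientGroup.mk'_surjective K
  have hinj : ∀ x ∈ (S : Subgroup G), π x = 1 → x = 1 :=
    Cfsg.Agent.Lib.Helper11.SFS.inj_on_of_coprime K hKc (S : Subgroup G) S.isPGroup'
  have hsolq : Cfsg.IsPSolvable 2 (G ⧸ K) :=
    Cfsg.Agent.Lib.Lead.PSolvOfSolv.isPSolvable_of_isSolvable 2 inferInstance
  have hc : Subgroup.centralizer (Cfsg.pCore 2 (G ⧸ K) : Set (G ⧸ K)) ≤ Cfsg.pCore 2 (G ⧸ K) :=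
    Cfsg.Agent.Lib.Helper3.centralizer_pCore_le hsolq
      (Cfsg.Agent.Lib.Helper3.pPrimeCore_quotient_pPrimeCore 2)
  have hfreeq : ¬ Cfsg.Involves (Equiv.Perm (Fin 4)) (G ⧸ K) :=
    fun h => hS4 (Cfsg.Agent.Lib.Helper11.QuadFree.involves_of_surjective_hom π hsurj h)
  -- class two
  have hclS : ∀ x ∈ (S : Subgroup G), ∀ y ∈ (S : Subgroup G), ∀ z ∈ (S : Subgroup G),
      ⁅⁅x, y⁆, z⁆ = 1 := by
    intro x hx y hy z hz
    have h2 : Subgroup.lowerCentralSeries (S : Subgroup G) 2 =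
        ⁅⁅(S : Subgroup G), (S : Subgroup G)⁆, (S : Subgroup G)⁆ := by
      have e2 := Subgroup.lowerCentralSeries_succ (S : Subgroup G) 1
      have e1 := Subgroup.lowerCentralSeries_succ (S : Subgroup G) 0
      have e0 := Subgroup.lowerCentralSeries_zero (S : Subgroup G)
      rw [e0] at e1
      rw [e1] at e2
      exact e2
    have h1 : ⁅⁅x, y⁆, z⁆ ∈ Subgroup.lowerCentralSeries (S : Subgroup G) 2 := by
      rw [h2]
      exact Subgroup.commutator_mem_commutator (Subgroup.commutator_mem_commutator hx hy) hz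
    rw [hcl, Subgroup.mem_bot] at h1
    exact h1
  obtain ⟨Sb, hSbdef⟩ : ∃ Sb : Sylow 2 (G ⧸ K), Sb = S.mapSurjective hsurj := ⟨_, rfl⟩
  have hSbcoe : (Sb : Subgroup (G ⧸ K)) = (S : Subgroup G).map π := by
    rw [hSbdef, Sylow.coe_mapSurjective]
  have hclq : Cl2 (G ⧸ K) := by
    apply cl2_of_sylow Sb
    rw [hSbcoe]
    rintro _ ⟨x, hx, rfl⟩ _ ⟨y, hy, rfl⟩ _ ⟨z, hz, rfl⟩
    rw [← map_commutatorElement, ← map_commutatorElement, hclS x hx y hy z hz, map_one]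
  obtain ⟨Qb, hQbdef⟩ : ∃ Qb : Subgroup (G ⧸ K), Qb = Cfsg.pCore 2 (G ⧸ K) := ⟨_, rfl⟩
  haveI hQbn : Qb.Normal := by rw [hQbdef]; exact Cfsg.Agent.Lib.Helper2.pCore_normal 2
  have hQbS : Qb ≤ (S : Subgroup G).map π := by
    rw [← hSbcoe, hQbdef]; exact Cfsg.Agent.Lib.Helper2.pCore_le_sylow 2 Sb
  have hall : ∀ A ∈ maxEIn 2 ((S : Subgroup G).map π), A ≤ Qb := by
    intro A hA
    rw [← hSbcoe] at hA
    rw [hQbdef]
    exact main inferInstance hclq hfreeq hc A (maxEIn_top_of_sylow Sb hA)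
  have hJeq : JE 2 ((S : Subgroup G).map π) = JE 2 Qb := by
    apply le_antisymm
    · apply sSup_le; intro A hA
      exact le_JE (maxEIn_mono hA (hall A hA) hQbS).1
    · obtain ⟨A₀, hA₀⟩ := maxEIn_nonempty (p := 2) ((S : Subgroup G).map π)
      apply sSup_le; intro A hA
      exact le_JE ((maxEIn_mono hA₀ (hall A₀ hA₀) hQbS).2 hA)
  have hJn : (JE 2 ((S : Subgroup G).map π)).Normal := by
    rw [hJeq]; exact Cfsg.Agent.Lib.Helper15.ZJE.JE_normal_of_normal Qb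
  rw [Cfsg.Agent.Lib.Lead.ZJFunctorD.JE_map_of_injOn π hinj] at hJn
  obtain ⟨J, hJdef⟩ : ∃ J : Subgroup G, J = JE 2 (S : Subgroup G) := ⟨_, rfl⟩
  rw [← hJdef] at hJn ⊢
  haveI hMn : (J ⊔ K).Normal := by
    have h3 : (J.map π).comap π = J ⊔ K := by
      rw [Subgroup.comap_map_eq, hπ, QuotientGroup.ker_mk']
    rw [← h3]; exact hJn.comap π
  have hJS : J ≤ (S : Subgroup G) := by rw [hJdef]; exact JE_le 2 _
  have hSM : (S : Subgroup G) ⊓ (J ⊔ K) = J := by
    apply le_antisymm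
    · intro x hx
      obtain ⟨hxS, hxM⟩ := Subgroup.mem_inf.mp hx
      obtain ⟨j, hj, k', hk', rfl⟩ := Subgroup.mem_sup_of_normal_right.mp hxM
      have hk'S : k' ∈ (S : Subgroup G) := by
        have : k' = j⁻¹ * (j * k') := by group
        rw [this]; exact mul_mem (inv_mem (hJS hj)) hxS
      have hk'1 : k' = 1 := hinj k' hk'S ((QuotientGroup.eq_one_iff k').mpr hk')
      rw [hk'1, mul_one]; exact hj
    · exact le_inf hJS le_sup_left
  obtain ⟨P, hP⟩ := Cfsg.Agent.Lib.Helper16.exists_sylow_subgroupOf_normal S (J ⊔ K)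
  have hfr := Sylow.normalizer_sup_eq_top P
  have hPmap : (P : Subgroup ↥(J ⊔ K)).map (J ⊔ K).subtype = J := by
    rw [hP, Subgroup.subgroupOf_map_subtype, hSM]
  rw [hPmap] at hfr
  rw [eq_top_iff, ← hfr]
  apply sup_le le_sup_left (sup_le _ le_sup_right)
  exact (Subgroup.le_normalizer).trans le_sup_left

end Cfsg.Agent.S2010
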