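import Cfsg.Statements.S4145
import Cfsg.Agent.Lib.Helper11.Burnside
import Cfsg.Agent.Lib.Helper16.SylowNormal
import Cfsg.Agent.Lib.Helper23.CyclicAut
import Cfsg.Agent.Lib.Helper24.SylowPrime

set_option autoImplicit false
open Cfsg

namespace Cfsg.Agent.S4145

open Subgroup
open scoped Pointwise

/-- Two Sylow subgroups contained in a subgroup `M` are conjugate by an element of `M`. -/
theorem exists_mem_smul_eq {G : Type*} [Group G] [Finite G] {p : ℕ} [Fact p.Prime]
    (M : Subgroup G) (P P' : Sylow p G) (hP : (P : Subgroup G) ≤ M)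
    (hP' : (P' : Subgroup G) ≤ M) : ∃ m ∈ M, m • P' = P := by
  obtain ⟨m, hm⟩ := MulAction.exists_smul_eq M (P'.subtype hP') (P.subtype hP)
  refine ⟨m, m.2, ?_⟩
  rw [Sylow.smul_subtype] at hm
  exact Sylow.subtype_injective hm

/-- An element normalising a cyclic Sylow `p`-subgroup and centralising a nontrivial element of it
centralises it. -/
theorem mem_centralizer_of_fixes {G : Type*} [Group G] [Finite G] {p : ℕ} [Fact p.Prime]
    (P : Sylow p G) (hP : IsCyclic (P : Subgroup G)) (y : G)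
    (hy : y ∈ normalizer ((P : Subgroup G) : Set G)) (z : G) (hzP : z ∈ (P : Subgroup G))
    (hz1 : z ≠ 1) (hfix : y * z * y⁻¹ = z) : y ∈ centralizer ((P : Subgroup G) : Set G) := by
  haveI := hP
  have hp := (Fact.out : p.Prime)
  set φ := (P : Subgroup G).normalizerMonoidHom with hφ
  set σ := φ ⟨y, hy⟩ with hσ
  have hσz : σ ⟨z, hzP⟩ = ⟨z, hzP⟩ := Subtype.ext hfix
  obtain ⟨e, m, hm, ho⟩ := Nat.exists_eq_pow_mul_and_not_dvd (orderOf_pos y).ne' p hp.ne_one
  have hym : (y ^ m) ^ p ^ e = 1 := by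
    rw [← pow_mul, mul_comm, ← ho, pow_orderOf_eq_one]
  have hpg : IsPGroup p (zpowers (y ^ m)) := by
    obtain ⟨j, -, hj⟩ := (Nat.dvd_prime_pow hp).1 (orderOf_dvd_of_pow_eq_one hym)
    apply IsPGroup.of_card (n := j)
    rw [Nat.card_zpowers, hj]
  have hymN : y ^ m ∈ normalizer ((P : Subgroup G) : Set G) := pow_mem hy m
  have hymP : y ^ m ∈ (P : Subgroup G) :=
    Cfsg.Agent.Lib.Helper24.mem_sylow_of_mem_normalizer_of_isPGroup P _ hymN hpg
  have hcomm : ∀ a ∈ (P : Subgroup G), ∀ b ∈ (P : Subgroup G), a * b = b * a := by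
    intro a ha b hb
    haveI : IsMulCommutative (P : Subgroup G) := IsCyclic.commutative
    have := mul_comm' (⟨a, ha⟩ : (P : Subgroup G)) ⟨b, hb⟩
    exact congrArg Subtype.val this
  have hker : ∀ n : normalizer ((P : Subgroup G) : Set G),
      φ n = 1 ↔ (n : G) ∈ centralizer ((P : Subgroup G) : Set G) := by
    intro n
    rw [← MonoidHom.mem_ker, hφ, Subgroup.normalizerMonoidHom_ker, mem_subgroupOf]
  have hσm : σ ^ m = 1 := by
    rw [hσ, ← map_pow, hker]
    rw [mem_centralizer_iff]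
    intro b hb
    exact hcomm _ hb _ hymP
  have hcop : m.Coprime p := ((Nat.Prime.coprime_iff_not_dvd hp).2 hm).symm
  have h1 := Cfsg.Agent.Lib.Helper23.aut_cyclic_pgroup_eq_one P.2 σ ⟨z, hzP⟩
    (fun h => hz1 (congrArg Subtype.val h)) hσz m hσm hcop
  exact (hker ⟨y, hy⟩).1 h1

/-- Commutativity inside a cyclic subgroup. -/
theorem comm_of_isCyclic {G : Type*} [Group G] (P : Subgroup G) (hP : IsCyclic P) :
    ∀ a ∈ P, ∀ b ∈ P, a * b = b * a := by
  intro a ha b hb
  haveI := hP
  haveI : IsMulCommutative P := IsCyclic.commutative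
  have := mul_comm' (⟨a, ha⟩ : P) ⟨b, hb⟩
  exact congrArg Subtype.val this

/-- Elements of a normal subgroup `H` normalising the cyclic Sylow subgroup `P ⊄ H` centralise
`P`. -/
theorem mem_centralizer_of_mem_normal {G : Type*} [Group G] [Finite G] {p : ℕ} [Fact p.Prime]
    (P : Sylow p G) (hP : IsCyclic (P : Subgroup G)) (H : Subgroup G) [H.Normal]
    (hPH : ¬ (P : Subgroup G) ≤ H) (y : G) (hyH : y ∈ H)
    (hy : y ∈ normalizer ((P : Subgroup G) : Set G)) :
    y ∈ centralizer ((P : Subgroup G) : Set G) := by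
  have hp := (Fact.out : p.Prime)
  haveI := hP
  obtain ⟨⟨g, hgP⟩, hgen⟩ := IsCyclic.exists_generator (α := (P : Subgroup G))
  have hord : orderOf g = Nat.card (P : Subgroup G) := by
    rw [← Subgroup.orderOf_mk g hgP]
    exact orderOf_eq_card_of_forall_mem_zpowers hgen
  obtain ⟨n, hn⟩ := P.2.exists_card_eq
  have hgenG : ∀ u ∈ (P : Subgroup G), u ∈ zpowers g := by
    intro u hu
    obtain ⟨k, hk⟩ := mem_zpowers_iff.1 (hgen ⟨u, hu⟩)
    rw [mem_zpowers_iff]
    refine ⟨k, ?_⟩
    have := congrArg Subtype.val hk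
    simpa using this
  -- `Q = P ⊓ H` is a proper subgroup of `P`
  set Q : Subgroup G := (P : Subgroup G) ⊓ H with hQ
  have hQP : Q ≤ (P : Subgroup G) := inf_le_left
  have hQne : Q ≠ (P : Subgroup G) := by
    intro h
    apply hPH
    rw [← h]
    exact inf_le_right
  have hn0 : n ≠ 0 := by
    intro h0
    rw [h0, pow_zero] at hn
    apply hQne
    apply le_antisymm hQP
    intro u hu
    have : Subsingleton (P : Subgroup G) := (Nat.card_eq_one_iff_unique.mp hn).1
    have h1 : (⟨u, hu⟩ : (P : Subgroup G)) = 1 := Subsingleton.elim _ _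
    have h2 : u = 1 := congrArg Subtype.val h1
    rw [h2]; exact one_mem _
  obtain ⟨n', rfl⟩ := Nat.exists_eq_succ_of_ne_zero hn0
  have hQcard : Nat.card Q ∣ p ^ n' := by
    have h1 : Nat.card Q ∣ p ^ (n' + 1) := by
      rw [← hn]; exact Subgroup.card_dvd_of_le hQP
    obtain ⟨j, hj, hjc⟩ := (Nat.dvd_prime_pow hp).1 h1
    have hjn : j ≠ n' + 1 := by
      intro h
      apply hQne
      apply Subgroup.eq_of_le_of_card_ge hQP
      rw [hjc, h, hn]
    rw [hjc]
    exact pow_dvd_pow p (by omega)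
  set z := g ^ p ^ n' with hz
  have hzP : z ∈ (P : Subgroup G) := pow_mem hgP _
  have hz1 : z ≠ 1 := by
    apply pow_ne_one_of_lt_orderOf (pow_pos hp.pos _).ne'
    rw [hord, hn]
    exact Nat.pow_lt_pow_right hp.one_lt (Nat.lt_succ_self _)
  apply mem_centralizer_of_fixes P hP y hy z hzP hz1
  -- `y g y⁻¹ = g q` with `q ∈ Q`
  set q := g⁻¹ * (y * g * y⁻¹) with hq
  have hygP : y * g * y⁻¹ ∈ (P : Subgroup G) := (mem_normalizer_iff.1 hy g).1 hgP
  have hqP : q ∈ (P : Subgroup G) := mul_mem (inv_mem hgP) hygP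
  have hqH : q ∈ H := by
    have h1 : g⁻¹ * y * g⁻¹⁻¹ ∈ H := (inferInstance : H.Normal).conj_mem y hyH g⁻¹
    have h2 : q = (g⁻¹ * y * g⁻¹⁻¹) * y⁻¹ := by rw [hq]; group
    rw [h2]
    exact mul_mem h1 (inv_mem hyH)
  have hqQ : q ∈ Q := ⟨hqP, hqH⟩
  have hqpow : q ^ p ^ n' = 1 := by
    have h1 : (⟨q, hqQ⟩ : Q) ^ Nat.card Q = 1 := pow_card_eq_one'
    obtain ⟨c, hc⟩ := hQcard
    have h2 : (⟨q, hqQ⟩ : Q) ^ p ^ n' = 1 := by rw [hc, pow_mul, h1, one_pow]
    have := congrArg Subtype.val h2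
    simpa using this
  have hyg : y * g * y⁻¹ = g * q := by rw [hq]; group
  have hcomm : g * q = q * g := comm_of_isCyclic _ hP g hgP q hqP
  have e1 : y * z * y⁻¹ = (y * g * y⁻¹) ^ p ^ n' := by
    rw [hz, ← MulAut.conj_apply, map_pow, MulAut.conj_apply]
  rw [e1, hyg, (Commute.mul_pow hcomm), hqpow, mul_one]

/-- **Key lemma**: `N_H(Q) ≤ C_H(Q)` for `Q = P ⊓ H`. -/
theorem mem_centralizer_inf {G : Type*} [Group G] [Finite G] {p : ℕ} [Fact p.Prime]
    (P : Sylow p G) (hP : IsCyclic (P : Subgroup G)) (H : Subgroup G) [H.Normal]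
    (hPH : ¬ (P : Subgroup G) ≤ H) (x : G) (hxH : x ∈ H)
    (hx : x ∈ normalizer (((P : Subgroup G) ⊓ H : Subgroup G) : Set G)) :
    x ∈ centralizer (((P : Subgroup G) ⊓ H : Subgroup G) : Set G) := by
  set Q : Subgroup G := (P : Subgroup G) ⊓ H with hQ
  have hQP : Q ≤ (P : Subgroup G) := inf_le_left
  have hcommP := comm_of_isCyclic _ hP
  -- `P ≤ C(Q)`
  have hPC : (P : Subgroup G) ≤ centralizer (Q : Set G) := by
    intro u hu
    rw [mem_centralizer_iff]
    intro q hq
    exact hcommP q (hQP hq) u hu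
  have hxPC : ((x • P : Sylow p G) : Subgroup G) ≤ centralizer (Q : Set G) := by
    intro v hv
    rw [Cfsg.Agent.Lib.Helper24.mem_smul_sylow_iff] at hv
    rw [mem_centralizer_iff]
    intro q hq
    have hq' : x⁻¹ * q * x ∈ Q := by
      have := (mem_normalizer_iff.1 (inv_mem hx) q).1 hq
      simpa using this
    have h1 := hcommP _ (hQP hq') _ hv
    -- (x⁻¹ q x)(x⁻¹ v x) = (x⁻¹ v x)(x⁻¹ q x)
    have h2 : q * v = x * ((x⁻¹ * q * x) * (x⁻¹ * v * x)) * x⁻¹ := by group
    have h3 : v * q = x * ((x⁻¹ * v * x) * (x⁻¹ * q * x)) * x⁻¹ := by group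
    rw [h2, h3, h1]
  set M : Subgroup G := centralizer (Q : Set G) ⊓ (H ⊔ (P : Subgroup G)) with hM
  have hPM : (P : Subgroup G) ≤ M := le_inf hPC le_sup_right
  have hxPM : ((x • P : Sylow p G) : Subgroup G) ≤ M := by
    apply le_inf hxPC
    intro v hv
    rw [Cfsg.Agent.Lib.Helper24.mem_smul_sylow_iff] at hv
    have h1 : v = x * (x⁻¹ * v * x) * x⁻¹ := by group
    rw [h1]
    exact mul_mem (mul_mem (le_sup_left (a := H) hxH) (le_sup_right (a := H) hv))
      (inv_mem (le_sup_left (a := H) hxH))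
  obtain ⟨m, hmM, hm⟩ := exists_mem_smul_eq M P (x • P) hPM hxPM
  -- decompose `m = u * h`
  have hm2 : m ∈ (P : Subgroup G) ⊔ H := by
    rw [sup_comm]; exact hmM.2
  have hm3 : m ∈ ((P : Subgroup G) : Set G) * (H : Set G) := by
    rw [← Subgroup.mul_normal]; exact hm2
  obtain ⟨u, hu, h, hh, rfl⟩ := Set.mem_mul.1 hm3
  set y := h * x with hy
  have hyH : y ∈ H := mul_mem hh hxH
  have hyP : y • P = P := by
    have h1 : (u * h) • x • P = u • (y • P) := by rw [hy, mul_smul, mul_smul]
    rw [h1] at hm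
    have h2 : u • P = P := Sylow.smul_eq_iff_mem_normalizer.2 (le_normalizer hu)
    have h3 : u⁻¹ • (u • (y • P)) = u⁻¹ • P := by rw [hm]
    rw [inv_smul_smul] at h3
    rw [h3, inv_smul_eq_iff, h2]
  have hyN : y ∈ normalizer ((P : Subgroup G) : Set G) := Sylow.smul_eq_iff_mem_normalizer.1 hyP
  have hyC := mem_centralizer_of_mem_normal P hP H hPH y hyH hyN
  have hyCQ : y ∈ centralizer (Q : Set G) := centralizer_le (by exact_mod_cast hQP) hyC
  have hhC : h ∈ centralizer (Q : Set G) := by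
    have h1 : h = u⁻¹ * (u * h) := by group
    rw [h1]
    exact mul_mem (inv_mem (hPC hu)) hmM.1
  have : x = h⁻¹ * y := by rw [hy]; group
  rw [this]
  exact mul_mem (inv_mem hhC) hyCQ

/-- Normalisers of `A.subgroupOf M`. -/
theorem coe_mem_normalizer_of_subgroupOf {G : Type*} [Group G] (M A : Subgroup G) (hAM : A ≤ M)
    (x : M) (hx : x ∈ normalizer ((A.subgroupOf M : Subgroup M) : Set M)) :
    (x : G) ∈ normalizer (A : Set G) := by
  have key : ∀ x : M, x ∈ normalizer ((A.subgroupOf M : Subgroup M) : Set M) →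
      ∀ u ∈ A, (x : G) * u * (x : G)⁻¹ ∈ A := by
    intro x hx u hu
    have h1 : (⟨u, hAM hu⟩ : M) ∈ A.subgroupOf M := by rw [mem_subgroupOf]; exact hu
    have h2 := (mem_normalizer_iff.1 hx _).1 h1
    rw [mem_subgroupOf] at h2
    simpa using h2
  rw [mem_normalizer_iff]
  intro u
  constructor
  · exact key x hx u
  · intro hu
    have := key x⁻¹ (inv_mem hx) _ hu
    have e1 : ((x⁻¹ : M) : G) * ((x : G) * u * (x : G)⁻¹) * ((x⁻¹ : M) : G)⁻¹ = u := by
      rw [Subgroup.coe_inv]; group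
    rwa [e1] at this

theorem mem_centralizer_subgroupOf {G : Type*} [Group G] (M A : Subgroup G)
    (x : M) (hx : (x : G) ∈ centralizer (A : Set G)) :
    x ∈ centralizer ((A.subgroupOf M : Subgroup M) : Set M) := by
  rw [mem_centralizer_iff]
  intro u hu
  have hu' : (u : G) ∈ A := by
    have : u ∈ A.subgroupOf M := hu
    rwa [mem_subgroupOf] at this
  exact Subtype.ext ((mem_centralizer_iff.1 hx) u hu')

/-- A three-step `p`-series. -/
theorem isPSolvable_of_chain {G : Type*} [Group G] (p : ℕ) (K M : Subgroup G) (hKn : K.Normal)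
    (hMn : M.Normal) (hKM : K ≤ M) (h1 : (Nat.card K).Coprime p) (h2 : ∃ m : ℕ, K.relIndex M = p ^ m)
    (h3 : M.index.Coprime p) : Cfsg.IsPSolvable p G := by
  refine ⟨3, ![⊥, K, M, ⊤], rfl, rfl, ?_, ?_, ?_⟩
  · rw [Fin.monotone_iff_le_succ]
    intro i
    fin_cases i
    · exact bot_le
    · exact hKM
    · exact le_top
  · intro i
    fin_cases i
    · exact (inferInstance : (⊥ : Subgroup G).Normal)
    · exact hKn
    · exact hMn
    · exact (inferInstance : (⊤ : Subgroup G).Normal)
  · intro i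
    fin_cases i
    · right
      change ((⊥ : Subgroup G).relIndex K).Coprime p
      rw [relIndex_bot_left]; exact h1
    · left
      exact h2
    · right
      change (M.relIndex ⊤).Coprime p
      rw [relIndex_top_right]; exact h3

/-- Elements of order prime to `p` lie in every normal subgroup of `p`-power index. -/
theorem mem_of_coprime_of_index_pow {M : Type*} [Group M] [Finite M] (K : Subgroup M) [K.Normal]
    (p n : ℕ) (hidx : K.index = p ^ n) (x : M) (hx : (orderOf x).Coprime p) : x ∈ K := by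
  have h1 : (QuotientGroup.mk' K x) ^ p ^ n = 1 := by
    have hc : Nat.card (M ⧸ K) = p ^ n := by rw [← Subgroup.index_eq_card, hidx]
    rw [← hc]
    exact pow_card_eq_one'
  have h2 : (QuotientGroup.mk' K x) ^ orderOf x = 1 := by
    rw [← map_pow, pow_orderOf_eq_one, map_one]
  have h3 : orderOf (QuotientGroup.mk' K x) = 1 :=
    Nat.eq_one_of_dvd_coprimes (Nat.Coprime.pow_right n hx) (orderOf_dvd_of_pow_eq_one h2)
      (orderOf_dvd_of_pow_eq_one h1)
  rw [orderOf_eq_one_iff] at h3
  rw [← QuotientGroup.ker_mk' K]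
  exact h3

theorem result {G : Type*} [Group G] [Finite G] (p : ℕ) [Fact p.Prime]
    (P : Sylow p G) (hP : IsCyclic (P : Subgroup G)) (H : Subgroup G) [H.Normal] (h1 : p ∣ Nat.card H) (h2 : p ∣ H.index) :
    Cfsg.HasNormalPComplement p H ∧ Cfsg.IsPSolvable p G := by
  classical
  have hp := (Fact.out : p.Prime)
  have hPH : ¬ (P : Subgroup G) ≤ H := by
    intro hle
    exact P.not_dvd_index (dvd_trans h2 (Subgroup.index_dvd_of_le hle))
  set Q : Subgroup G := (P : Subgroup G) ⊓ H with hQ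
  have hQP : Q ≤ (P : Subgroup G) := inf_le_left
  obtain ⟨QH, hQH⟩ := Cfsg.Agent.Lib.Helper16.exists_sylow_subgroupOf_normal P H
  have hQH' : (QH : Subgroup H) = Q.subgroupOf H := by
    rw [hQH, hQ, inf_subgroupOf_right]
  have hkey := mem_centralizer_inf P hP H hPH
  constructor
  · apply Cfsg.Agent.Lib.Helper11.hasNormalPComplement_of_normalizer_le_centralizer QH
    intro x hx
    rw [← Sylow.coe_coe, hQH']
    rw [hQH'] at hx
    have hx' := coe_mem_normalizer_of_subgroupOf H Q inf_le_right x hx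
    exact mem_centralizer_subgroupOf H Q x (hkey x x.2 hx')
  · -- a nontrivial element of `Q`
    obtain ⟨z, hzQ, hz1⟩ : ∃ z ∈ Q, z ≠ 1 := by
      have hne : (QH : Subgroup H) ≠ ⊥ := by
        intro h0
        have := QH.not_dvd_index
        rw [h0, Subgroup.index_bot] at this
        exact this h1
      obtain ⟨a, ha⟩ := (Subgroup.ne_bot_iff_exists_ne_one).1 hne
      have haQ : ((a : H) : G) ∈ Q := by
        have hall : ∀ b : H, b ∈ (QH : Subgroup H) → (b : G) ∈ Q := by
          intro b hb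
          rw [hQH', mem_subgroupOf] at hb
          exact hb
        exact hall a.1 a.2
      refine ⟨((a : H) : G), haQ, ?_⟩
      intro h
      apply ha
      apply Subtype.ext
      apply Subtype.ext
      exact h
    set C : Subgroup G := centralizer (Q : Set G) with hC
    set M : Subgroup G := H ⊔ C with hM
    have hcommP := comm_of_isCyclic _ hP
    have hPC : (P : Subgroup G) ≤ C := by
      intro u hu
      rw [hC, mem_centralizer_iff]
      intro q hq
      exact hcommP q (hQP hq) u hu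
    have hPM : (P : Subgroup G) ≤ M := le_trans hPC le_sup_right
    have hmemM : ∀ m ∈ M, ∃ h ∈ H, ∃ c ∈ C, h * c = m := by
      intro m hm
      have hm3 : m ∈ (H : Set G) * (C : Set G) := by
        rw [← Subgroup.normal_mul]; exact hm
      exact Set.mem_mul.1 hm3
    -- conjugates of `C` lie in `M`
    have hconjC : ∀ g : G, ∀ c ∈ C, g * c * g⁻¹ ∈ M := by
      intro g c hc
      obtain ⟨QH2, hQH2⟩ := Cfsg.Agent.Lib.Helper16.exists_sylow_subgroupOf_normal (g • P) H
      obtain ⟨h, hh⟩ := MulAction.exists_smul_eq H QH QH2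
      -- `h q h⁻¹ ∈ g • P` for `q ∈ Q`
      have hmap : ∀ q ∈ Q, g⁻¹ * ((h : G) * q * (h : G)⁻¹) * g ∈ Q := by
        intro q hq
        have hqH : q ∈ H := hq.2
        have h3 : (⟨q, hqH⟩ : H) ∈ (QH : Subgroup H) := by
          rw [hQH', mem_subgroupOf]; exact hq
        have h4 : h * ⟨q, hqH⟩ * h⁻¹ ∈ ((h • QH : Sylow p H) : Subgroup H) := by
          rw [Cfsg.Agent.Lib.Helper24.mem_smul_sylow_iff]
          have : h⁻¹ * (h * ⟨q, hqH⟩ * h⁻¹) * h = ⟨q, hqH⟩ := by group
          rw [this]; exact h3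
        rw [hh, hQH2, mem_subgroupOf, Cfsg.Agent.Lib.Helper24.mem_smul_sylow_iff] at h4
        have e0 : ((h * ⟨q, hqH⟩ * h⁻¹ : H) : G) = (h : G) * q * (h : G)⁻¹ := by simp
        rw [e0] at h4
        refine ⟨h4, ?_⟩
        have h5 : (h : G) * q * (h : G)⁻¹ ∈ H := (h * ⟨q, hqH⟩ * h⁻¹).2
        have := (inferInstance : H.Normal).conj_mem _ h5 g⁻¹
        simpa using this
      set c' := (h : G)⁻¹ * (g * c * g⁻¹) * (h : G) with hc'
      have hc'C : c' ∈ C := by
        rw [hC, mem_centralizer_iff]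
        intro q hq
        have h6 := (mem_centralizer_iff.1 hc) _ (hmap q hq)
        -- conjugate the relation by `h⁻¹ g`
        have e1 : q * c' = ((h : G)⁻¹ * g) * ((g⁻¹ * ((h : G) * q * (h : G)⁻¹) * g) * c) *
            ((h : G)⁻¹ * g)⁻¹ := by rw [hc']; group
        have e2 : c' * q = ((h : G)⁻¹ * g) * (c * (g⁻¹ * ((h : G) * q * (h : G)⁻¹) * g)) *
            ((h : G)⁻¹ * g)⁻¹ := by rw [hc']; group
        rw [e1, e2, h6]
      have e3 : g * c * g⁻¹ = (h : G) * c' * (h : G)⁻¹ := by rw [hc']; group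
      rw [e3]
      exact mul_mem (mul_mem (le_sup_left (a := H) h.2) (le_sup_right (a := H) hc'C))
        (inv_mem (le_sup_left (a := H) h.2))
    have hMn : M.Normal := by
      constructor
      intro m hm g
      obtain ⟨h, hh, c, hc, rfl⟩ := hmemM m hm
      have e : g * (h * c) * g⁻¹ = (g * h * g⁻¹) * (g * c * g⁻¹) := by group
      rw [e]
      exact mul_mem (le_sup_left (a := H) ((inferInstance : H.Normal).conj_mem h hh g))
        (hconjC g c hc)
    -- `N_M(P) ≤ C(P)`
    have hNC : ∀ y ∈ M, y ∈ normalizer ((P : Subgroup G) : Set G) →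
        y ∈ centralizer ((P : Subgroup G) : Set G) := by
      intro y hyM hyN
      obtain ⟨h, hh, c, hc, rfl⟩ := hmemM y hyM
      have hyQ : h * c ∈ normalizer (Q : Set G) := by
        have key : ∀ y : G, y ∈ normalizer ((P : Subgroup G) : Set G) → ∀ u ∈ Q,
            y * u * y⁻¹ ∈ Q := by
          intro y hy u hu
          exact ⟨(mem_normalizer_iff.1 hy u).1 hu.1, (inferInstance : H.Normal).conj_mem u hu.2 y⟩
        rw [mem_normalizer_iff]
        intro u
        constructor
        · exact key _ hyN u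
        · intro hu
          have := key _ (inv_mem hyN) _ hu
          have e1 : (h * c)⁻¹ * ((h * c) * u * (h * c)⁻¹) * (h * c)⁻¹⁻¹ = u := by group
          rwa [e1] at this
      have hcN : c ∈ normalizer (Q : Set G) := centralizer_le_normalizer _ hc
      have hhN : h ∈ normalizer (Q : Set G) := by
        have : h = (h * c) * c⁻¹ := by group
        rw [this]
        exact mul_mem hyQ (inv_mem hcN)
      have hhC : h ∈ C := hkey h hh hhN
      have hyC : h * c ∈ C := mul_mem hhC hc
      apply mem_centralizer_of_fixes P hP _ hyN z (hQP hzQ) hz1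
      have := (mem_centralizer_iff.1 hyC) z hzQ
      rw [← this]; group
    -- Burnside in `M`
    have hBurn : normalizer (((P.subtype hPM : Sylow p M) : Subgroup M) : Set M) ≤
        centralizer (((P.subtype hPM : Sylow p M) : Subgroup M) : Set M) := by
      intro x hx
      rw [Sylow.coe_subtype] at hx ⊢
      have hx' := coe_mem_normalizer_of_subgroupOf M (P : Subgroup G) hPM x hx
      exact mem_centralizer_subgroupOf M (P : Subgroup G) x (hNC x x.2 hx')
    obtain ⟨P', K, hKn, hK⟩ :=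
      Cfsg.Agent.Lib.Helper11.hasNormalPComplement_of_normalizer_le_centralizer (P.subtype hPM) hBurn
    haveI := hKn
    set K' : Subgroup G := K.map M.subtype with hK'
    have hK'M : K' ≤ M := map_subtype_le K
    obtain ⟨n, hn⟩ := P'.2.exists_card_eq
    have hidx : K.index = p ^ n := by rw [hK.symm.index_eq_card, hn]
    have hKcop : (Nat.card K).Coprime p := by
      rw [← hK.index_eq_card]
      exact ((Nat.Prime.coprime_iff_not_dvd hp).2 P'.not_dvd_index).symm
    have hK'n : K'.Normal := by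
      constructor
      intro k hk g
      obtain ⟨k0, hk0, rfl⟩ := hk
      have hgM : g * (k0 : G) * g⁻¹ ∈ M := hMn.conj_mem _ k0.2 g
      have hord : (orderOf (⟨g * (k0 : G) * g⁻¹, hgM⟩ : M)).Coprime p := by
        rw [Subgroup.orderOf_mk, ← MulAut.conj_apply, MulEquiv.orderOf_eq, Subgroup.orderOf_coe]
        have h3 : orderOf (⟨k0, hk0⟩ : K) ∣ Nat.card K := orderOf_dvd_natCard _
        rw [Subgroup.orderOf_mk] at h3
        exact Nat.Coprime.coprime_dvd_left h3 hKcop
      exact ⟨⟨_, hgM⟩, mem_of_coprime_of_index_pow K p n hidx _ hord, rfl⟩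
    apply isPSolvable_of_chain p K' M hK'n hMn hK'M
    · rw [hK', Subgroup.card_map_of_injective (subtype_injective M)]
      exact hKcop
    · refine ⟨n, ?_⟩
      have : K'.relIndex M = K.index := by
        have h5 : K'.subgroupOf M = K := by
          rw [hK']
          exact Subgroup.comap_map_eq_self_of_injective (subtype_injective M) K
        rw [Subgroup.relIndex, h5]
      rw [this, hidx]
    · have h6 : M.index ∣ (P : Subgroup G).index := Subgroup.index_dvd_of_le hPM
      have h7 : ¬ p ∣ M.index := fun h => P.not_dvd_index (dvd_trans h h6)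
      exact ((Nat.Prime.coprime_iff_not_dvd hp).2 h7).symm

end Cfsg.Agent.S4145
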