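import Cfsg.Statements.S2014
import Cfsg.Agent.Lib.Helper11.AlperinTame
import Cfsg.Agent.Lib.Helper16.ResidualQuot

set_option autoImplicit false
open Cfsg

namespace Cfsg.Agent.S2014

open Subgroup Cfsg.Agent.Lib.Helper11

theorem result {G : Type*} [Group G] [Finite G] (p : ℕ) [Fact p.Prime] (P : Sylow p G) (A C : Subgroup G) (hA : A ≤ P) (hC : C ≤ P) (hext : ¬ p ∣ ((P : Subgroup G) ⊓ Subgroup.normalizer ((C : Subgroup G) : Set G)).relIndex (Subgroup.normalizer ((C : Subgroup G) : Set G))) (h : G) (hh : A.map (MulAut.conj h).toMonoidHom = C) : ∃ g : G, A.map (MulAut.conj g).toMonoidHom = C ∧ ((P : Subgroup G) ⊓ Subgroup.normalizer ((A : Subgroup G) : Set G)).map (MulAut.conj g).toMonoidHom ≤ (P : Subgroup G) ⊓ Subgroup.normalizer ((C : Subgroup G) : Set G) ∧ h * g⁻¹ ∈ (Cfsg.pResidual p ↥(Subgroup.normalizer ((C : Subgroup G) : Set G))).map (Subgroup.normalizer ((C : Subgroup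 G) : Set G)).subtype := by
  set N : Subgroup G := normalizer (C : Set G) with hN
  have hmemC : ∀ z, z ∈ C ↔ ∃ a ∈ A, h * a * h⁻¹ = z := by
    intro z
    rw [← hh, Subgroup.mem_map]
    simp [MulAut.conj_apply]
  -- `R = h N_P(A) h⁻¹ ≤ N`
  have hRN : ∀ y ∈ (P : Subgroup G) ⊓ normalizer (A : Set G), h * y * h⁻¹ ∈ N := by
    intro y hy
    rw [hN, mem_normalizer_iff]
    have key : ∀ y ∈ normalizer (A : Set G), ∀ z ∈ C, (h * y * h⁻¹) * z * (h * y * h⁻¹)⁻¹ ∈ C := by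
      intro y hy z hz
      obtain ⟨a, ha, rfl⟩ := (hmemC z).1 hz
      rw [hmemC]
      refine ⟨y * a * y⁻¹, (mem_normalizer_iff.1 hy a).1 ha, by group⟩
    intro z
    constructor
    · exact key y hy.2 z
    · intro hz
      have := key y⁻¹ (inv_mem hy.2) _ hz
      have e : h * y⁻¹ * h⁻¹ * (h * y * h⁻¹ * z * (h * y * h⁻¹)⁻¹) * (h * y⁻¹ * h⁻¹)⁻¹ = z := by group
      rwa [e] at this
  set R : Subgroup G := ((P : Subgroup G) ⊓ normalizer (A : Set G)).map (MulAut.conj h).toMonoidHom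
    with hR
  have hRle : R ≤ N := by
    rintro _ ⟨y, hy, rfl⟩
    simpa [MulAut.conj_apply] using hRN y hy
  have hRp : IsPGroup p R := (P.2.to_le inf_le_left).map _
  -- Sylow subgroups of `N`
  have hpgP : IsPGroup p (((P : Subgroup G) ⊓ N).subgroupOf N) :=
    (P.2.to_le inf_le_left).comap_subtype
  set NPsyl : Sylow p N := hpgP.toSylow hext with hNPsyl
  have hcoe : (NPsyl : Subgroup N) = ((P : Subgroup G) ⊓ N).subgroupOf N :=
    IsPGroup.toSylow_coe hpgP hext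
  have hpgR : IsPGroup p (R.subgroupOf N) := hRp.comap_subtype
  obtain ⟨T1, hT1⟩ := hpgR.exists_le_sylow
  obtain ⟨n, hn⟩ := MulAction.exists_smul_eq N T1 NPsyl
  have hconj : ∀ y ∈ R, (n : G) * y * (n : G)⁻¹ ∈ (P : Subgroup G) ⊓ N := by
    intro y hy
    have hyN : y ∈ N := hRle hy
    have h1 : (⟨y, hyN⟩ : N) ∈ (T1 : Subgroup N) := hT1 (mem_subgroupOf.mpr hy)
    have h2 : n * ⟨y, hyN⟩ * n⁻¹ ∈ ((n • T1 : Sylow p N) : Subgroup N) := by
      rw [mem_smul_sylow_iff]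
      have : n⁻¹ * (n * ⟨y, hyN⟩ * n⁻¹) * n = ⟨y, hyN⟩ := by group
      rw [this]; exact h1
    rw [hn, hcoe, mem_subgroupOf] at h2
    simpa using h2
  -- decompose `n⁻¹ = c * y`
  obtain ⟨c, hc, y, hy, hcy⟩ := Cfsg.Agent.Lib.Helper16.exists_opUp_mul_sylow p N NPsyl
    (inv_mem n.2 : ((n : G))⁻¹ ∈ N)
  have hyPN : y ∈ (P : Subgroup G) ⊓ N := by
    obtain ⟨y', hy', rfl⟩ := hy
    have hy2 : y' ∈ (NPsyl : Subgroup N) := hy'
    rw [hcoe, mem_subgroupOf] at hy2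
    exact hy2
  have hcN : c ∈ N := by
    have : c = (n : G)⁻¹ * y⁻¹ := by rw [hcy]; group
    rw [this]
    exact mul_mem (inv_mem n.2) (inv_mem hyPN.2)
  have hnyc : (n : G) = y⁻¹ * c⁻¹ := by
    have : (n : G) = ((n : G)⁻¹)⁻¹ := by group
    rw [this, hcy]; group
  -- `w = c⁻¹`
  have hw : ∀ r ∈ R, c⁻¹ * r * c⁻¹⁻¹ ∈ (P : Subgroup G) ⊓ N := by
    intro r hr
    have h1 := hconj r hr
    rw [hnyc] at h1
    have h2 : y * ((y⁻¹ * c⁻¹) * r * (y⁻¹ * c⁻¹)⁻¹) * y⁻¹ ∈ (P : Subgroup G) ⊓ N :=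
      mul_mem (mul_mem hyPN h1) (inv_mem hyPN)
    have e : y * ((y⁻¹ * c⁻¹) * r * (y⁻¹ * c⁻¹)⁻¹) * y⁻¹ = c⁻¹ * r * c⁻¹⁻¹ := by group
    rwa [e] at h2
  refine ⟨c⁻¹ * h, ?_, ?_, ?_⟩
  · ext z
    rw [Subgroup.mem_map]
    constructor
    · rintro ⟨a, ha, rfl⟩
      have h1 : h * a * h⁻¹ ∈ C := (hmemC _).2 ⟨a, ha, rfl⟩
      have h2 := conj_mem_of_mem_normalizer C (inv_mem hcN) h1
      have e : (MulAut.conj (c⁻¹ * h)).toMonoidHom a = c⁻¹ * (h * a * h⁻¹) * c⁻¹⁻¹ := by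
        show (c⁻¹ * h) * a * (c⁻¹ * h)⁻¹ = _
        group
      rw [e]; exact h2
    · intro hz
      have h1 : c * z * c⁻¹ ∈ C := conj_mem_of_mem_normalizer C hcN hz
      obtain ⟨a, ha, hae⟩ := (hmemC _).1 h1
      refine ⟨a, ha, ?_⟩
      have e : (MulAut.conj (c⁻¹ * h)).toMonoidHom a = c⁻¹ * (h * a * h⁻¹) * c := by
        show (c⁻¹ * h) * a * (c⁻¹ * h)⁻¹ = _
        group
      rw [e, hae]; group
  · rintro _ ⟨y0, hy0, rfl⟩
    have hr : h * y0 * h⁻¹ ∈ R := ⟨y0, hy0, by simp [MulAut.conj_apply]⟩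
    have h1 := hw _ hr
    have e : (MulAut.conj (c⁻¹ * h)).toMonoidHom y0 = c⁻¹ * (h * y0 * h⁻¹) * c⁻¹⁻¹ := by
      show (c⁻¹ * h) * y0 * (c⁻¹ * h)⁻¹ = _
      group
    rw [e]; exact h1
  · rw [Cfsg.Agent.Lib.Helper16.map_pResidual_eq_opUp]
    have e : h * (c⁻¹ * h)⁻¹ = c := by group
    rw [e]; exact hc

end Cfsg.Agent.S2014
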