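import Cfsg.Statements.S2015
import Cfsg.Agent.Lib.Helper1.KInfQuartic

set_option autoImplicit false
universe u
open Cfsg

namespace Cfsg.Agent.S2015

/-- For p ≥ 5, every finite p-group P has a characteristic subgroup K containing Z(P), depending only on P, whose normalizer controls transfer wherever P is a Sylow subgroup: for every finite group G and every embedding ι of P onto a Sylow p-subgroup of G, the intersection of ι(P) with the derived subgroup of G equals its intersection with the derived subgroup of N_G(ι(K)). -/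
theorem result (p : ℕ) [Fact p.Prime] (hp : 5 ≤ p) (P : Type u) [Group P] [Finite P] (hP : IsPGroup p P) : ∃ K : Subgroup P, K.Characteristic ∧ Subgroup.center P ≤ K ∧ ∀ (G : Type u) [Group G] [Finite G] (ι : P →* G), Function.Injective ι → (∃ T : Sylow p G, (T : Subgroup G) = ι.range) → ι.range ⊓ commutator G = ι.range ⊓ (commutator ↥(Subgroup.normalizer ((K.map ι : Subgroup G) : Set G))).map (Subgroup.normalizer ((K.map ι : Subgroup G) : Set G)).subtype := by
  have hW₀ := Cfsg.Agent.Lib.Helper1.KInfC.isCharPFunctor_kInfLower.{u} (p := p)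
  refine ⟨Cfsg.kInfLower P, ?_, Cfsg.Agent.Lib.Helper1.KInfC.center_le_kInfLower hP, ?_⟩
  · rw [Subgroup.characteristic_iff_map_eq]
    intro φ
    exact Cfsg.Agent.Lib.Helper1.KInf.map_equiv_kInfLower φ
  · intro G _ _ ι hι hT
    obtain ⟨T, hTr⟩ := hT
    have hctl := Cfsg.Agent.Lib.Helper1.KInfQ.ctl_of_five_le (G := G) hp Cfsg.kInfLower hW₀
      (fun P _ _ hP Q hQ => Cfsg.Agent.Lib.Helper1.KInfC.hsub_lower P hP Q hQ) T
    -- identify the functor value
    have hK : Cfsg.inducedFunctor Cfsg.kInfLower (T : Subgroup G) = (Cfsg.kInfLower P).map ι := by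
      have h1 := Cfsg.Agent.Lib.Helper1.SecT.induced_map_inj Cfsg.kInfLower hW₀ ι hι (⊤ : Subgroup P)
        (hP.to_subgroup _)
      have h2 : (⊤ : Subgroup P).map ι = (T : Subgroup G) := by
        rw [hTr, MonoidHom.range_eq_map]
      rw [h2] at h1
      rw [← h1]
      unfold Cfsg.inducedFunctor
      rw [← hW₀.2 ↥(⊤ : Subgroup P) P (hP.to_subgroup _) Subgroup.topEquiv, Subgroup.map_map, Subgroup.map_map]
      congr 1
    unfold Cfsg.Agent.Lib.Helper1.SecT.NW at hctl
    rw [hK, hTr] at hctl
    set N := Subgroup.normalizer (((Cfsg.kInfLower P).map ι : Subgroup G) : Set G) with hN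
    have h2 : (commutator ↥N).map N.subtype = ⁅N, N⁆ := by
      rw [commutator_def, Subgroup.map_commutator, ← MonoidHom.range_eq_map, Subgroup.range_subtype]
    rw [h2]
    apply le_antisymm
    · exact le_inf inf_le_left hctl
    · apply inf_le_inf_left
      rw [commutator_def]
      exact Subgroup.commutator_mono le_top le_top

end Cfsg.Agent.S2015
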