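import Cfsg.Statements.S2034
import Cfsg.Agent.Lib.Helper1.MmC
import Cfsg.Agent.Lib.Helper1.SlMg

set_option autoImplicit false
open Cfsg

namespace Cfsg.Agent.S2034

/-- The Schur multiplier of the Mathieu group M₁₁ (the stabiliser of a dodecad and one of its points in the automorphism group of the length-24 binary code) is trivial; here the Schur multiplier is described through stem extensions, as in the definitions: surjective homomorphisms onto the group from a finite group, whose kernel is central in that finite group and contained in that finite group's commutator subgroup. -/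
theorem result : Cfsg.HasCyclicSchurMultiplier ↥Cfsg.Spor.M11 1 := by
  haveI : Finite ↥Cfsg.Spor.M11 :=
    Nat.finite_of_card_ne_zero (by rw [Cfsg.Agent.Lib.Helper21.card_M11]; norm_num)
  apply Cfsg.Agent.Lib.Helper1.SlMult.hasCyclic_one_of_stem_trivial
  intro Γ _ _ σ hσ
  obtain ⟨hsurj, hc, hd⟩ := hσ
  exact Cfsg.Agent.Lib.Helper1.MMult.stem_trivial_m11 σ Cfsg.Agent.Lib.Helper21.card_M11
    (Cfsg.Agent.Lib.Helper9.M11Aut.evalW Cfsg.Agent.Lib.Helper1.MMult.ws)
    (Cfsg.Agent.Lib.Helper9.M11Aut.evalW Cfsg.Agent.Lib.Helper1.MMult.wt)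
    (Cfsg.Agent.Lib.Helper9.M11Aut.evalW Cfsg.Agent.Lib.Helper1.MMult.wa)
    (Cfsg.Agent.Lib.Helper9.M11Aut.evalW Cfsg.Agent.Lib.Helper1.MMult.wb)
    (Cfsg.Agent.Lib.Helper9.M11Aut.evalW Cfsg.Agent.Lib.Helper1.MMult.wn)
    Cfsg.Agent.Lib.Helper1.MMult.rel_s8 Cfsg.Agent.Lib.Helper1.MMult.rel_s4
    Cfsg.Agent.Lib.Helper1.MMult.rel_t2 Cfsg.Agent.Lib.Helper1.MMult.rel_ts
    Cfsg.Agent.Lib.Helper1.MMult.rel_a3 Cfsg.Agent.Lib.Helper1.MMult.rel_a1
    Cfsg.Agent.Lib.Helper1.MMult.rel_b3 Cfsg.Agent.Lib.Helper1.MMult.rel_b1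
    Cfsg.Agent.Lib.Helper1.MMult.rel_ab Cfsg.Agent.Lib.Helper1.MMult.rel_na
    Cfsg.Agent.Lib.Helper1.MMult.rel_nb hsurj hc hd

end Cfsg.Agent.S2034
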