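import Cfsg.Statements.S2039
import Cfsg.Agent.Lib.Helper1.JmC
import Cfsg.Agent.Lib.Helper1.SlMg

set_option autoImplicit false
open Cfsg

namespace Cfsg.Agent.S2039

/-- The Schur multiplier of the Janko group J₁ (the group generated by two explicit 7 × 7 matrices over the integers modulo 11) is trivial; here the Schur multiplier is described through stem extensions, as in the definitions: surjective homomorphisms onto the group from a finite group, whose kernel is central in that finite group and contained in that finite group's commutator subgroup. -/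
theorem result : Cfsg.HasCyclicSchurMultiplier ↥Cfsg.Spor.J1 1 := by
  haveI : Finite ↥Cfsg.Spor.J1 :=
    Nat.finite_of_card_ne_zero (by rw [Cfsg.Agent.Lib.Helper9.J1.card_J1]; norm_num)
  apply Cfsg.Agent.Lib.Helper1.SlMult.hasCyclic_one_of_stem_trivial
  intro Γ _ _ σ hσ
  obtain ⟨hsurj, hc, hd⟩ := hσ
  exact Cfsg.Agent.Lib.Helper1.JMult.stem_trivial_frob Cfsg.Agent.Lib.Helper1.JMult.gJ
    Cfsg.Agent.Lib.Helper1.JMult.eJ σ Cfsg.Agent.Lib.Helper9.J1.card_J1
    Cfsg.Agent.Lib.Helper1.JMult.eJ_ne_one Cfsg.Agent.Lib.Helper1.JMult.eJ_sq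
    Cfsg.Agent.Lib.Helper1.JMult.gJ_pow Cfsg.Agent.Lib.Helper1.JMult.rel_J hsurj hc hd

end Cfsg.Agent.S2039
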