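import Cfsg.Statements.S2062
import Cfsg.Agent.Lib.Helper21.M22AutC

set_option autoImplicit false
open Cfsg

namespace Cfsg.Agent.S2062

open Cfsg.Agent.Lib.Helper21 Cfsg.Agent.Lib.Helper21.M24Aut

/-- The outer automorphism group of the Mathieu group M₂₂ (the permutations in the automorphism group of the length-24 binary code that fix each of two given points) has order 2. -/
theorem result : Nat.card (Cfsg.Out ↥Cfsg.Spor.M22) = 2 := by
  show Nat.card (MulAut ↥Cfsg.Spor.M22 ⧸ Cfsg.Inn ↥Cfsg.Spor.M22) = 2
  rw [← Subgroup.index_eq_card]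
  exact index_inn_M22

end Cfsg.Agent.S2062
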