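import Cfsg.Statements.S2063
import Cfsg.Agent.Lib.Helper21.M23AutB

set_option autoImplicit false
open Cfsg

namespace Cfsg.Agent.S2063

open Cfsg.Agent.Lib.Helper21 Cfsg.Agent.Lib.Helper21.M24Aut

/-- The outer automorphism group of the Mathieu group M₂₃ (the stabiliser of a point in the automorphism group of the length-24 binary code) is trivial: every automorphism is inner. -/
theorem result : Nat.card (Cfsg.Out ↥Cfsg.Spor.M23) = 1 := by
  have h : Cfsg.Inn ↥Cfsg.Spor.M23 = ⊤ := by
    rw [eq_top_iff]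
    intro α _
    obtain ⟨s, hs⟩ := aut_inner23 α
    exact ⟨s, hs.symm⟩
  show Nat.card (MulAut ↥Cfsg.Spor.M23 ⧸ Cfsg.Inn ↥Cfsg.Spor.M23) = 1
  rw [← Subgroup.index_eq_card, h, Subgroup.index_top]

end Cfsg.Agent.S2063
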