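import Cfsg.Statements.S2064
import Cfsg.Agent.Lib.Helper21.M24AutB

set_option autoImplicit false
open Cfsg

namespace Cfsg.Agent.S2064

open Cfsg.Agent.Lib.Helper21 Cfsg.Agent.Lib.Helper21.M24Aut

/-- The outer automorphism group of the Mathieu group M₂₄ (the automorphism group of the length-24 binary code) is trivial: every automorphism is inner. -/
theorem result : Nat.card (Cfsg.Out ↥Cfsg.M24) = 1 := by
  have h : Cfsg.Inn ↥Cfsg.M24 = ⊤ := by
    rw [eq_top_iff]
    intro α _
    obtain ⟨s, hs⟩ := aut_inner α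
    exact ⟨s, hs.symm⟩
  show Nat.card (MulAut ↥Cfsg.M24 ⧸ Cfsg.Inn ↥Cfsg.M24) = 1
  rw [← Subgroup.index_eq_card, h, Subgroup.index_top]

end Cfsg.Agent.S2064
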