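import Cfsg.Statements.S2111
import Cfsg.Agent.Lib.Helper1.SzPe
import Cfsg.Agent.Lib.Helper14.SzU

set_option autoImplicit false
open Cfsg

namespace Cfsg.Agent.S2111

/-- Schur multipliers of the Suzuki groups: for q = 2^(2m+1) with m ≥ 2 the Schur multiplier of Sz(q) is trivial (here the Schur multiplier is described through stem extensions, as in the definitions); q = 8 is exceptional. -/
theorem result {F : Type*} [Field F] [Fintype F] {m : ℕ} (hm : 2 ≤ m) (hF : Fintype.card F = 2 ^ (2 * m + 1)) : Cfsg.HasCyclicSchurMultiplier ↥(Cfsg.Lie.Sz F (2 ^ (m + 1))) 1 := by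
  haveI : CharP F 2 := Cfsg.Agent.Lib.Helper14.Sz.charP_two hF
  have hm1 : 1 ≤ m := by omega
  set e := Cfsg.Agent.Lib.Helper14.Sz.szEquiv hm1 hF with he
  haveI : Finite ↥(Cfsg.Lie.Sz F (2 ^ (m + 1))) := Finite.of_equiv _ e.toEquiv
  constructor
  · refine ⟨↥(Cfsg.Lie.Sz F (2 ^ (m + 1))), inferInstance, inferInstance, MonoidHom.id _,
      ⟨Function.surjective_id, ?_, ?_⟩, ?_⟩
    · rw [MonoidHom.ker_id]
      exact bot_le
    · rw [MonoidHom.ker_id]
      exact bot_le
    · haveI : Unique ↥(MonoidHom.id ↥(Cfsg.Lie.Sz F (2 ^ (m + 1)))).ker :=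
        ⟨⟨1⟩, fun x => Subtype.ext (by
          have := MonoidHom.mem_ker.mp x.2
          simpa using this)⟩
      haveI : Unique (Multiplicative (ZMod 1)) :=
        ⟨⟨1⟩, fun x => Subsingleton.elim (α := ZMod 1) _ _⟩
      exact ⟨MulEquiv.ofUnique⟩
  · intro Γ _ _ σ hσ
    obtain ⟨hsurj, hc, hd⟩ := hσ
    set τ : Γ →* ↥(Cfsg.Sz F m) := e.symm.toMonoidHom.comp σ with hτ
    have hker : τ.ker = σ.ker := by
      ext x
      rw [MonoidHom.mem_ker, MonoidHom.mem_ker, hτ, MonoidHom.comp_apply]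
      exact e.symm.map_eq_one_iff
    have hτsurj : Function.Surjective τ := e.symm.surjective.comp hsurj
    have hbot := Cfsg.Agent.Lib.Helper1.SzMult.stem_trivial τ hm hF hτsurj
      (by rw [hker]; exact hc) (by rw [hker]; exact hd)
    rw [hker] at hbot
    refine ⟨1, ?_⟩
    intro y
    refine ⟨1, ?_⟩
    have := Subgroup.mem_bot.mp (hbot.le y.2)
    exact (Subtype.ext this).symm

end Cfsg.Agent.S2111
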