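import Cfsg.Statements.S2133
import Mathlib
import Cfsg.Agent.Lib.Helper27.M24OctC

set_option autoImplicit false
open Cfsg

namespace Cfsg.Agent.S2133

/-- The Mathieu group M₂₄ (the automorphism group of the length-24 binary code) has an involution whose centraliser is isomorphic to the centraliser of a transvection in SL(5, 2) (a group of shape 2^{1+6}:GL(3, 2)). -/
theorem result (s : Matrix.SpecialLinearGroup (Fin 5) (ZMod 2)) (hs : (s : Matrix (Fin 5) (Fin 5) (ZMod 2)) = Matrix.transvection 0 1 1) : ∃ z : ↥Cfsg.M24, orderOf z = 2 ∧ Nonempty (↥(Subgroup.centralizer ({z} : Set ↥Cfsg.M24)) ≃* ↥(Subgroup.centralizer ({s} : Set (Matrix.SpecialLinearGroup (Fin 5) (ZMod 2))))) := by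
  classical
  have ho : Cfsg.Agent.Lib.Helper21.oct0 ∈ Cfsg.octads := Cfsg.Agent.Lib.Helper21.oct0_mem
  have hcard := (Cfsg.Agent.Lib.Helper21.octad_fixing _ ho).1
  have hsq := (Cfsg.Agent.Lib.Helper21.octad_fixing _ ho).2
  -- a nontrivial element of the pointwise stabilizer
  obtain ⟨u, hu1⟩ : ∃ u : ↥(Cfsg.M24 ⊓ fixingSubgroup (Equiv.Perm Cfsg.GolayPt)
      ((Cfsg.Agent.Lib.Helper21.oct0 : Finset Cfsg.GolayPt) : Set Cfsg.GolayPt)), u ≠ 1 := by
    by_contra hcon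
    push Not at hcon
    haveI : Subsingleton ↥(Cfsg.M24 ⊓ fixingSubgroup (Equiv.Perm Cfsg.GolayPt)
      ((Cfsg.Agent.Lib.Helper21.oct0 : Finset Cfsg.GolayPt) : Set Cfsg.GolayPt)) :=
      ⟨fun a b => (hcon a).trans (hcon b).symm⟩
    rw [Nat.card_unique] at hcard
    norm_num at hcard
  have huM : (u : Equiv.Perm Cfsg.GolayPt) ∈ Cfsg.M24 := (Subgroup.mem_inf.1 u.2).1
  have hufix : ∀ x ∈ Cfsg.Agent.Lib.Helper21.oct0, (u : Equiv.Perm Cfsg.GolayPt) x = x :=
    (Cfsg.Agent.Lib.Helper21.mem_fixing_iff _ _).1 (Subgroup.mem_inf.1 u.2).2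
  have hune : (u : Equiv.Perm Cfsg.GolayPt) ≠ 1 := fun h => hu1 (Subtype.ext h)
  set z : ↥Cfsg.M24 := ⟨(u : Equiv.Perm Cfsg.GolayPt), huM⟩ with hzdef
  have hzsq : z ^ 2 = 1 := by
    apply Subtype.ext
    rw [pow_two]
    exact hsq _ u.2
  have hzne : z ≠ 1 := fun h => hune (congrArg Subtype.val h)
  have hz : orderOf z = 2 := orderOf_eq_prime hzsq hzne
  have hfixeq : (Finset.univ.filter fun p : Cfsg.GolayPt => (z : Equiv.Perm Cfsg.GolayPt) p = p) =
      Cfsg.Agent.Lib.Helper21.oct0 := by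
    ext q
    simp only [Finset.mem_filter, Finset.mem_univ, true_and]
    constructor
    · intro hq
      by_contra hqo
      exact hune (Cfsg.Agent.Lib.Helper21.eq_one_of_fix_octad_pt _ ho q hqo _ huM hufix hq)
    · intro hq
      exact hufix q hq
  have hfix : (Finset.univ.filter fun p : Cfsg.GolayPt => (z : Equiv.Perm Cfsg.GolayPt) p = p) ∈
      Cfsg.octads := by
    rw [hfixeq]; exact ho
  obtain ⟨e⟩ := (Cfsg.Agent.Lib.Helper27.M24Oct.main z hz hfix _ rfl).2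
  have hs' : s = Cfsg.Agent.Lib.Helper27.TvCent.zz 3 := by
    apply Subtype.ext
    rw [Cfsg.Agent.Lib.Helper27.TvCent.coe_zz]
    exact hs
  subst hs'
  exact ⟨z, hz, ⟨e⟩⟩

end Cfsg.Agent.S2133
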