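import Cfsg.Statements.S2162
import Mathlib

set_option autoImplicit false
open Cfsg

namespace Cfsg.Agent.S2162

open Module

lemma exists_adapted_basis {F V : Type*} [Field F] [AddCommGroup V] [Module F V]
    [FiniteDimensional F V] (N : V →ₗ[F] V) (hN : ∀ v, N (N v) = 0) (ℓ m : ℕ)
    (hℓ : finrank F (LinearMap.range N) = ℓ) (hm : finrank F V = ℓ + (ℓ + m)) :
    ∃ z : Basis (Fin ℓ ⊕ (Fin ℓ ⊕ Fin m)) F V,
      (∀ i, N (z (Sum.inl i)) = z (Sum.inr (Sum.inl i))) ∧ (∀ k, N (z (Sum.inr k)) = 0) := by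
  classical
  set I := LinearMap.range N with hI
  set K := LinearMap.ker N with hK
  have hIK : I ≤ K := by
    rintro _ ⟨v, rfl⟩
    exact LinearMap.mem_ker.2 (hN v)
  let bI : Basis (Fin ℓ) F I := (Module.finBasis F I).reindex (finCongr hℓ)
  have hpre : ∀ i, ∃ v, N v = (bI i : V) := fun i => (bI i).2
  choose x hx using hpre
  set y : Fin ℓ → V := fun i => (bI i : V) with hy
  obtain ⟨C, hC⟩ := Submodule.exists_isCompl I
  set D := C ⊓ K with hD
  have hDI : D ⊓ I = ⊥ := by
    rw [hD, inf_comm, ← inf_assoc, hC.inf_eq_bot, bot_inf_eq]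
  have hDsupI : D ⊔ I = K := by
    rw [hD, sup_comm, ← sup_inf_assoc_of_le C hIK, hC.sup_eq_top, top_inf_eq]
  have hKrank : finrank F K = ℓ + m := by
    have hrn : finrank F I + finrank F K = finrank F V := LinearMap.finrank_range_add_finrank_ker N
    rw [hℓ, hm] at hrn
    omega
  have hDrank : finrank F D = m := by
    have := Submodule.finrank_sup_add_finrank_inf_eq D I
    rw [hDI, hDsupI, finrank_bot, hKrank, hℓ] at this
    omega
  let bD : Basis (Fin m) F D := (Module.finBasis F D).reindex (finCongr hDrank)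
  set d : Fin m → V := fun k => (bD k : V) with hd
  have hyLI : LinearIndependent F y :=
    bI.linearIndependent.map' I.subtype (Submodule.ker_subtype I)
  have hdLI : LinearIndependent F d :=
    bD.linearIndependent.map' D.subtype (Submodule.ker_subtype D)
  have hNx : N ∘ x = y := funext hx
  have hxLI : LinearIndependent F x := LinearIndependent.of_comp N (by rw [hNx]; exact hyLI)
  have hspany : Submodule.span F (Set.range y) = I := by
    have : Set.range y = I.subtype '' Set.range bI := by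
      rw [← Set.range_comp]; rfl
    rw [this, Submodule.span_image, bI.span_eq, Submodule.map_top, Submodule.range_subtype]
  have hspand : Submodule.span F (Set.range d) = D := by
    have : Set.range d = D.subtype '' Set.range bD := by
      rw [← Set.range_comp]; rfl
    rw [this, Submodule.span_image, bD.span_eq, Submodule.map_top, Submodule.range_subtype]
  have hydLI : LinearIndependent F (Sum.elim y d) := by
    apply hyLI.sum_type hdLI
    rw [hspany, hspand, disjoint_iff, inf_comm]
    exact hDI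
  have hspanyd : Submodule.span F (Set.range (Sum.elim y d)) = K := by
    rw [Set.Sum.elim_range, Submodule.span_union, hspany, hspand, sup_comm]
    exact hDsupI
  have hLI : LinearIndependent F (Sum.elim x (Sum.elim y d)) := by
    apply hxLI.sum_type hydLI
    rw [hspanyd, Submodule.disjoint_def]
    intro v hv hvK
    rw [Submodule.mem_span_range_iff_exists_fun] at hv
    obtain ⟨c, rfl⟩ := hv
    have h0 : N (∑ i, c i • x i) = 0 := LinearMap.mem_ker.1 hvK
    rw [map_sum] at h0
    simp only [map_smul, hx] at h0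
    have hc := (Fintype.linearIndependent_iff.1 hyLI) c h0
    simp [hc]
  have hcard : Fintype.card (Fin ℓ ⊕ (Fin ℓ ⊕ Fin m)) = finrank F V := by
    rw [hm]; simp
  refine ⟨basisOfLinearIndependentOfCardEqFinrank' _ hLI hcard, ?_, ?_⟩
  · intro i
    rw [coe_basisOfLinearIndependentOfCardEqFinrank']
    exact hx i
  · intro k
    rw [coe_basisOfLinearIndependentOfCardEqFinrank']
    have : Sum.elim x (Sum.elim y d) (Sum.inr k) ∈ K := by
      rw [← hspanyd]
      exact Submodule.subset_span ⟨k, rfl⟩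
    exact LinearMap.mem_ker.1 this


open Module

lemma two_mul_rank_le {F V : Type*} [Field F] [AddCommGroup V] [Module F V]
    [FiniteDimensional F V] (N : V →ₗ[F] V) (hN : ∀ v, N (N v) = 0) :
    2 * finrank F (LinearMap.range N) ≤ finrank F V := by
  have hIK : LinearMap.range N ≤ LinearMap.ker N := by
    rintro _ ⟨v, rfl⟩
    exact LinearMap.mem_ker.2 (hN v)
  have h1 := Submodule.finrank_mono hIK
  have h2 := LinearMap.finrank_range_add_finrank_ker N
  omega

lemma exists_intertwiner {F V : Type*} [Field F] [AddCommGroup V] [Module F V]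
    [FiniteDimensional F V] (N₁ N₂ : V →ₗ[F] V) (h1 : ∀ v, N₁ (N₁ v) = 0)
    (h2 : ∀ v, N₂ (N₂ v) = 0)
    (hr : finrank F (LinearMap.range N₁) = finrank F (LinearMap.range N₂))
    (hpos : 0 < finrank F (LinearMap.range N₁)) (hsq : ∀ e : F, ∃ μ : F, μ * μ = e) (d : F) :
    ∃ ψ : V →ₗ[F] V, (∀ v, ψ (N₁ v) = N₂ (ψ v)) ∧ LinearMap.det ψ = d := by
  classical
  set ℓ := finrank F (LinearMap.range N₁) with hℓ
  have hle := two_mul_rank_le N₁ h1
  obtain ⟨m, hm⟩ : ∃ m, finrank F V = ℓ + (ℓ + m) := ⟨finrank F V - 2 * ℓ, by omega⟩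
  obtain ⟨z₁, hz₁a, hz₁b⟩ := exists_adapted_basis N₁ h1 ℓ m rfl hm
  obtain ⟨z₂, hz₂a, hz₂b⟩ := exists_adapted_basis N₂ h2 ℓ m hr.symm hm
  set φ₀ : V ≃ₗ[F] V := z₁.equiv z₂ (Equiv.refl _) with hφ₀
  have hφ₀z : ∀ j, φ₀ (z₁ j) = z₂ j := fun j => by
    rw [hφ₀, Basis.equiv_apply]; rfl
  have hφ₀N : ∀ v, φ₀ (N₁ v) = N₂ (φ₀ v) := by
    intro v
    have : (φ₀ : V →ₗ[F] V) ∘ₗ N₁ = N₂ ∘ₗ (φ₀ : V →ₗ[F] V) := by
      apply z₁.ext
      intro j
      simp only [LinearMap.comp_apply, LinearEquiv.coe_coe]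
      rcases j with i | k
      · rw [hz₁a, hφ₀z, hφ₀z, hz₂a]
      · rw [hz₁b, hφ₀z, hz₂b, map_zero]
    exact LinearMap.congr_fun this v
  have hδ : IsUnit (LinearMap.det (φ₀ : V →ₗ[F] V)) := LinearEquiv.isUnit_det' φ₀
  set δ := LinearMap.det (φ₀ : V →ₗ[F] V) with hδdef
  have hδ0 : δ ≠ 0 := hδ.ne_zero
  obtain ⟨μ, hμ⟩ := hsq (d / δ)
  let i0 : Fin ℓ := ⟨0, hpos⟩
  set u : Fin ℓ → F := fun i => if i = i0 then μ else 1 with hu
  set w : Fin ℓ ⊕ (Fin ℓ ⊕ Fin m) → F := Sum.elim u (Sum.elim u (fun _ => 1)) with hw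
  set c : V →ₗ[F] V := Matrix.toLin z₂ z₂ (Matrix.diagonal w) with hc
  have hcz : ∀ j, c (z₂ j) = w j • z₂ j := by
    intro j
    rw [hc, Matrix.toLin_self]
    rw [Finset.sum_eq_single j]
    · rw [Matrix.diagonal_apply_eq]
    · intro k _ hk
      rw [Matrix.diagonal_apply_ne _ hk, zero_smul]
    · intro h; exact absurd (Finset.mem_univ j) h
  have hcN : ∀ v, c (N₂ v) = N₂ (c v) := by
    intro v
    have : c ∘ₗ N₂ = N₂ ∘ₗ c := by
      apply z₂.ext
      intro j
      simp only [LinearMap.comp_apply]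
      rcases j with i | k
      · rw [hz₂a, hcz, hcz, map_smul, hz₂a]
        simp [hw]
      · rw [hz₂b, hcz, map_smul, hz₂b, map_zero, smul_zero]
    exact LinearMap.congr_fun this v
  have hprodu : ∏ i, u i = μ := by
    rw [hu]
    simp [Finset.prod_ite_eq']
  have hdetc : LinearMap.det c = μ * μ := by
    rw [hc, LinearMap.det_toLin, Matrix.det_diagonal, Fintype.prod_sum_type, Fintype.prod_sum_type]
    simp only [hw, Sum.elim_inl, Sum.elim_inr, Finset.prod_const_one, mul_one]
    rw [hprodu]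
  refine ⟨c ∘ₗ (φ₀ : V →ₗ[F] V), ?_, ?_⟩
  · intro v
    simp only [LinearMap.comp_apply, LinearEquiv.coe_coe]
    rw [hφ₀N, hcN]
  · rw [LinearMap.det_comp, hdetc, hμ, ← hδdef, div_mul_cancel₀ _ hδ0]


open Module

lemma sq_zero_of_sq_one {F : Type*} [Field F] [CharP F 2] {n : ℕ}
    (A : Matrix (Fin n) (Fin n) F) (hA : A * A = 1) : (A - 1) * (A - 1) = 0 := by
  have hAA : A + A = 0 := by
    ext i j
    simp [CharTwo.add_self_eq_zero]
  have h11 : (1 : Matrix (Fin n) (Fin n) F) + 1 = 0 := by
    ext i j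
    simp [CharTwo.add_self_eq_zero]
  calc (A - 1) * (A - 1) = A * A - (A + A) + 1 := by
        rw [sub_mul, mul_sub, mul_one, one_mul]; abel
    _ = 0 := by rw [hA, hAA, sub_zero, h11]


/-- Conjugacy of involutions in the special linear group over a finite field of characteristic two, in dimension at least 3: two elements of order 2 of SL_n(F) are conjugate in SL_n(F) exactly when the matrices a − 1 and b − 1 have the same rank (the rank of a − 1 is the dimension of the commutator space [V, a]). -/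
theorem result {F : Type*} [Field F] [Fintype F] [CharP F 2] {n : ℕ} (hn : 3 ≤ n) (a b : Matrix.SpecialLinearGroup (Fin n) F) (ha : orderOf a = 2) (hb : orderOf b = 2) :
    IsConj a b ↔ ((a : Matrix (Fin n) (Fin n) F) - 1).rank = ((b : Matrix (Fin n) (Fin n) F) - 1).rank := by
  constructor
  · intro h
    obtain ⟨c, hc⟩ := isConj_iff.1 h
    have hcc : (c : Matrix (Fin n) (Fin n) F) * ((c⁻¹ : Matrix.SpecialLinearGroup (Fin n) F) : Matrix (Fin n) (Fin n) F) = 1 := by
      rw [← Matrix.SpecialLinearGroup.coe_mul, mul_inv_cancel, Matrix.SpecialLinearGroup.coe_one]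
    have hB : (b : Matrix (Fin n) (Fin n) F) - 1 = (c : Matrix (Fin n) (Fin n) F) * ((a : Matrix (Fin n) (Fin n) F) - 1) * ((c⁻¹ : Matrix.SpecialLinearGroup (Fin n) F) : Matrix (Fin n) (Fin n) F) := by
      rw [← hc, Matrix.SpecialLinearGroup.coe_mul, Matrix.SpecialLinearGroup.coe_mul, mul_sub, sub_mul, mul_one, hcc]
    rw [hB, Matrix.rank_mul_eq_left_of_isUnit_det _ _ (by rw [Matrix.SpecialLinearGroup.det_coe]; exact isUnit_one),
      Matrix.rank_mul_eq_right_of_isUnit_det _ _ (by rw [Matrix.SpecialLinearGroup.det_coe]; exact isUnit_one)]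
  · intro hr
    haveI : Fact (Nat.Prime 2) := ⟨Nat.prime_two⟩
    have hsq : ∀ e : F, ∃ μ : F, μ * μ = e := by
      intro e
      have hinj : Function.Injective (frobenius F 2) := frobenius_inj F 2
      obtain ⟨μ, hμ⟩ := (Finite.injective_iff_surjective.1 hinj) e
      refine ⟨μ, ?_⟩
      rw [← hμ, frobenius_def, sq]
    set A := (a : Matrix (Fin n) (Fin n) F) with hAdef
    set B := (b : Matrix (Fin n) (Fin n) F) with hBdef
    have hA2 : A * A = 1 := by
      have := pow_orderOf_eq_one a
      rw [ha, sq] at this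
      rw [hAdef, ← Matrix.SpecialLinearGroup.coe_mul, this, Matrix.SpecialLinearGroup.coe_one]
    have hB2 : B * B = 1 := by
      have := pow_orderOf_eq_one b
      rw [hb, sq] at this
      rw [hBdef, ← Matrix.SpecialLinearGroup.coe_mul, this, Matrix.SpecialLinearGroup.coe_one]
    have hNA := sq_zero_of_sq_one A hA2
    have hNB := sq_zero_of_sq_one B hB2
    have h1 : ∀ v, (A - 1).mulVecLin ((A - 1).mulVecLin v) = 0 := by
      intro v
      simp only [Matrix.mulVecLin_apply, Matrix.mulVec_mulVec, hNA, Matrix.zero_mulVec]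
    have h2 : ∀ v, (B - 1).mulVecLin ((B - 1).mulVecLin v) = 0 := by
      intro v
      simp only [Matrix.mulVecLin_apply, Matrix.mulVec_mulVec, hNB, Matrix.zero_mulVec]
    have hpos : 0 < finrank F (LinearMap.range (A - 1).mulVecLin) := by
      rw [Nat.pos_iff_ne_zero]
      intro h0
      have hbot : LinearMap.range (A - 1).mulVecLin = ⊥ := Submodule.finrank_eq_zero.1 h0
      have hz : (A - 1).mulVecLin = 0 := LinearMap.range_eq_bot.1 hbot
      have hA1 : A - 1 = 0 := by
        apply Matrix.toLin'.injective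
        rw [Matrix.toLin'_apply', hz, map_zero]
      have : a = 1 := by
        apply Subtype.ext
        rw [Matrix.SpecialLinearGroup.coe_one]
        exact sub_eq_zero.1 hA1
      rw [this, orderOf_one] at ha
      omega
    obtain ⟨ψ, hψ, hdet⟩ := exists_intertwiner (A - 1).mulVecLin (B - 1).mulVecLin h1 h2 hr hpos hsq 1
    set P := LinearMap.toMatrix' ψ with hP
    have hPdet : P.det = 1 := by rw [hP, LinearMap.det_toMatrix', hdet]
    have hPv : ∀ v, P.mulVec v = ψ v := fun v => LinearMap.toMatrix'_mulVec ψ v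
    have hcomm : P * (A - 1) = (B - 1) * P := by
      apply Matrix.toLin'.injective
      apply LinearMap.ext
      intro v
      simp only [Matrix.toLin'_apply, ← Matrix.mulVec_mulVec, hPv]
      exact hψ v
    have hcomm2 : P * A = B * P := by
      rw [mul_sub, sub_mul, mul_one, one_mul] at hcomm
      exact sub_left_injective hcomm
    rw [isConj_iff]
    set x : Matrix.SpecialLinearGroup (Fin n) F := ⟨P, hPdet⟩ with hx
    refine ⟨x, ?_⟩
    rw [mul_inv_eq_iff_eq_mul]
    apply Subtype.ext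
    rw [Matrix.SpecialLinearGroup.coe_mul, Matrix.SpecialLinearGroup.coe_mul]
    exact hcomm2

end Cfsg.Agent.S2162
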