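import Cfsg.Statements.S2163
-- no extra imports

set_option autoImplicit false
open Cfsg

namespace Cfsg.Agent.S2163

/-- Over a finite field of characteristic two and for n ≥ 3: for every ℓ with 1 ≤ ℓ and 2ℓ ≤ n, the matrix j_ℓ that is the identity plus the entries 1 in positions (n − ℓ + i, i) for i < ℓ (an identity block of size ℓ in the lower left corner) lies in SL_n(F), has order 2, and j_ℓ − 1 has rank ℓ. Together with the conjugacy criterion by rank, these matrices represent the conjugacy classes of involutions of SL_n(F). -/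
theorem result {F : Type*} [Field F] [Fintype F] [CharP F 2] {n : ℕ} (hn : 3 ≤ n) (ℓ : ℕ) (h1 : 1 ≤ ℓ) (h2 : 2 * ℓ ≤ n) :
    ∃ a : Matrix.SpecialLinearGroup (Fin n) F, (a : Matrix (Fin n) (Fin n) F) = 1 + Matrix.of (fun i j : Fin n => if j.val < ℓ ∧ i.val = j.val + (n - ℓ) then (1 : F) else 0) ∧ orderOf a = 2 ∧ ((a : Matrix (Fin n) (Fin n) F) - 1).rank = ℓ := by
  classical
  obtain ⟨N, hN⟩ : ∃ N : Matrix (Fin n) (Fin n) F, N = Matrix.of (fun i j : Fin n => if j.val < ℓ ∧ i.val = j.val + (n - ℓ) then (1 : F) else 0) := ⟨_, rfl⟩
  have hNapp : ∀ i j : Fin n, N i j = if j.val < ℓ ∧ i.val = j.val + (n - ℓ) then (1 : F) else 0 := by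
    intro i j; rw [hN]; rfl
  -- N * N = 0
  have hNN : N * N = 0 := by
    ext i j
    rw [Matrix.mul_apply, Matrix.zero_apply]
    apply Finset.sum_eq_zero
    intro k _
    rw [hNapp i k, hNapp k j]
    by_cases hk : k.val < ℓ ∧ i.val = k.val + (n - ℓ)
    · by_cases hj : j.val < ℓ ∧ k.val = j.val + (n - ℓ)
      · exfalso; omega
      · rw [if_neg hj, mul_zero]
    · rw [if_neg hk, zero_mul]
  -- det
  have hdet : (1 + N).det = 1 := by
    have htri : (1 + N).BlockTriangular ⇑OrderDual.toDual := by
      intro i j hij
      have hij' : i < j := hij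
      rw [Matrix.add_apply, Matrix.one_apply_ne (ne_of_lt hij'), zero_add, hNapp]
      rw [if_neg]
      intro h
      have : i.val < j.val := hij'
      omega
    rw [Matrix.det_of_isLowerTriangular _ htri]
    apply Finset.prod_eq_one
    intro i _
    rw [Matrix.add_apply, Matrix.one_apply_eq, hNapp, if_neg, add_zero]
    intro h; omega
  have h20 : (2 : F) = 0 := by
    have := CharP.cast_eq_zero F 2
    exact_mod_cast this
  have hsq : (1 + N) * (1 + N) = 1 := by
    rw [mul_add, add_mul, add_mul, hNN, one_mul, mul_one, one_mul, add_zero, add_assoc, ← two_smul F N]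
    rw [h20, zero_smul, add_zero]
  have hne : (1 + N) ≠ 1 := by
    intro h
    have hN0 : N = 0 := by
      have := congrArg (fun M => M - 1) h
      simpa using this
    have hn0 : 0 < n := by omega
    have := congrFun (congrFun hN0 ⟨n - ℓ, by omega⟩) ⟨0, hn0⟩
    rw [hNapp] at this
    simp at this
    omega
  obtain ⟨a, ha⟩ : ∃ a : Matrix.SpecialLinearGroup (Fin n) F, a = ⟨1 + N, hdet⟩ := ⟨_, rfl⟩
  have hacoe : (a : Matrix (Fin n) (Fin n) F) = 1 + N := by rw [ha]
  refine ⟨a, ?_, ?_, ?_⟩
  · rw [hacoe, hN]
  · have : Fact (Nat.Prime 2) := ⟨Nat.prime_two⟩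
    apply orderOf_eq_prime
    · rw [sq]
      apply Subtype.ext
      rw [Matrix.SpecialLinearGroup.coe_mul, hacoe]
      exact hsq
    · intro h
      apply hne
      rw [← hacoe, h]; rfl
  · rw [hacoe, add_sub_cancel_left]
    obtain ⟨w, hw⟩ : ∃ w : Fin n → F, w = fun j => if j.val < ℓ then (1:F) else 0 := ⟨_, rfl⟩
    have hwapp : ∀ i : Fin n, w i = if i.val < ℓ then (1:F) else 0 := by intro i; rw [hw]
    have hND : N * Matrix.diagonal w = N := by
      ext i j
      rw [Matrix.mul_diagonal, hNapp, hw]
      by_cases hj : j.val < ℓ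
      · simp [hj]
      · simp [hj]
    have hNtN : N.transpose * N = Matrix.diagonal w := by
      ext j k
      rw [Matrix.mul_apply]
      simp only [Matrix.transpose_apply]
      by_cases hjk : j = k
      · subst hjk
        rw [Matrix.diagonal_apply_eq, hw]
        by_cases hj : j.val < ℓ
        · simp only [hj, if_true]
          rw [Finset.sum_eq_single (⟨j.val + (n - ℓ), by omega⟩ : Fin n)]
          · rw [hNapp]; simp [hj]
          · intro i _ hi
            rw [hNapp, if_neg, zero_mul]
            intro h
            apply hi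
            apply Fin.ext
            exact h.2
          · intro h; exact absurd (Finset.mem_univ _) h
        · simp only [hj, if_false]
          apply Finset.sum_eq_zero
          intro i _
          rw [hNapp, if_neg, zero_mul]
          intro h; exact hj h.1
      · rw [Matrix.diagonal_apply_ne _ hjk]
        apply Finset.sum_eq_zero
        intro i _
        rw [hNapp i j, hNapp i k]
        by_cases h3 : j.val < ℓ ∧ i.val = j.val + (n - ℓ)
        · by_cases h4 : k.val < ℓ ∧ i.val = k.val + (n - ℓ)
          · exfalso
            apply hjk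
            apply Fin.ext
            omega
          · rw [if_neg h4, mul_zero]
        · rw [if_neg h3, zero_mul]
    have hle : N.rank ≤ (Matrix.diagonal w).rank := by
      have := Matrix.rank_mul_le_right N (Matrix.diagonal w)
      rwa [hND] at this
    have hge : (Matrix.diagonal w).rank ≤ N.rank := by
      have := Matrix.rank_mul_le_right N.transpose N
      rwa [hNtN] at this
    have hrk : (Matrix.diagonal w).rank = ℓ := by
      rw [Matrix.rank_diagonal]
      have hequiv : {i : Fin n // w i ≠ 0} ≃ Fin ℓ :=
        { toFun := fun i => ⟨i.1.val, by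
            have := i.2
            rw [hwapp] at this
            by_contra hlt
            simp [hlt] at this⟩
          invFun := fun k => ⟨⟨k.val, by omega⟩, by rw [hwapp]; simp [k.2]⟩
          left_inv := fun i => by apply Subtype.ext; apply Fin.ext; rfl
          right_inv := fun k => by apply Fin.ext; rfl }
      rw [Fintype.card_congr hequiv, Fintype.card_fin]
    omega

end Cfsg.Agent.S2163
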