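import Cfsg.Statements.S2164
import Mathlib
import Cfsg.Agent.Lib.Helper27.UInvol
import Cfsg.Agent.S0780

set_option autoImplicit false
open Cfsg

namespace Cfsg.Agent.S2164

open Cfsg.Agent.Lib.Helper27.Unitary Cfsg.Agent.S0780 Matrix

variable {F : Type*} [Field F] [Fintype F] {q n : ℕ}

/-- Conjugate elements of `SL_n` have `x - 1` of the same rank. -/
theorem rank_of_isConj (a b : Matrix.SpecialLinearGroup (Fin n) F) (h : IsConj a b) :
    ((a : Matrix (Fin n) (Fin n) F) - 1).rank = ((b : Matrix (Fin n) (Fin n) F) - 1).rank := by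
  rw [isConj_iff] at h
  obtain ⟨c, hc⟩ := h
  have h1 : c * a = b * c := by rw [← hc]; group
  have h2 : (c : Matrix (Fin n) (Fin n) F) * (a : Matrix (Fin n) (Fin n) F) =
      (b : Matrix (Fin n) (Fin n) F) * (c : Matrix (Fin n) (Fin n) F) := by
    have := congrArg (fun m : Matrix.SpecialLinearGroup (Fin n) F =>
      (m : Matrix (Fin n) (Fin n) F)) h1
    simpa using this
  have h3 : (c : Matrix (Fin n) (Fin n) F) * ((a : Matrix (Fin n) (Fin n) F) - 1) =
      ((b : Matrix (Fin n) (Fin n) F) - 1) * (c : Matrix (Fin n) (Fin n) F) := by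
    rw [mul_sub, sub_mul, h2, mul_one, one_mul]
  have hdet : IsUnit (c : Matrix (Fin n) (Fin n) F).det := by
    rw [c.2]; exact isUnit_one
  rw [← Matrix.rank_mul_eq_right_of_isUnit_det (c : Matrix (Fin n) (Fin n) F)
    ((a : Matrix (Fin n) (Fin n) F) - 1) hdet, h3,
    Matrix.rank_mul_eq_left_of_isUnit_det (c : Matrix (Fin n) (Fin n) F)
    ((b : Matrix (Fin n) (Fin n) F) - 1) hdet]

/-- Involutions of the same rank are conjugate in `SU_n(q)`, `q` even. -/
theorem conj_of_rank (hF : Fintype.card F = q ^ 2) [CharP F 2] (a b : ↥(Cfsg.SU n F q))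
    (ha : orderOf a = 2) (hb : orderOf b = 2)
    (hrank : (((a : Matrix.SpecialLinearGroup (Fin n) F) : Matrix (Fin n) (Fin n) F) - 1).rank =
      (((b : Matrix.SpecialLinearGroup (Fin n) F) : Matrix (Fin n) (Fin n) F) - 1).rank) :
    IsConj a b := by
  have haa : a * a = 1 := by
    have := pow_orderOf_eq_one a
    rwa [ha, pow_two] at this
  have hbb : b * b = 1 := by
    have := pow_orderOf_eq_one b
    rwa [hb, pow_two] at this
  have haU : phi n F q a ∈ GU n F q := ((mem_SUg_iff _).mp (phi_mem a)).1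
  have hbU : phi n F q b ∈ GU n F q := ((mem_SUg_iff _).mp (phi_mem b)).1
  obtain ⟨s, hs, hconj⟩ := invol_conj hF (phi n F q a) (phi n F q b) haU hbU
    (by rw [← map_mul, haa, map_one]) (by rw [← map_mul, hbb, map_one])
    (by rw [phi_coe, phi_coe]; exact hrank)
  obtain ⟨A, hA⟩ := exists_lift hs
  rw [isConj_iff]
  refine ⟨A, ?_⟩
  apply phi_injective
  rw [map_mul, map_mul, map_inv, hA, hconj]

/-- Conjugacy of involutions in the special unitary group SU_n(q), q even, n ≥ 3, realised over the field F with q² elements as the matrices of determinant 1 preserving the form Σ u_i v_i^q: for two elements of order 2 of SU_n(q) the following are equivalent — they are conjugate in SU_n(q); they are conjugate in SL_n(F); the matrices a − 1 and b − 1 have the same rank. -/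
theorem result {F : Type*} [Field F] [Fintype F] [CharP F 2] {n q : ℕ} (hF : Fintype.card F = q ^ 2) (hn : 3 ≤ n) (a b : ↥(Cfsg.SU n F q)) (ha : orderOf a = 2) (hb : orderOf b = 2) :
    (IsConj a b ↔ IsConj (a : Matrix.SpecialLinearGroup (Fin n) F) (b : Matrix.SpecialLinearGroup (Fin n) F)) ∧
    (IsConj a b ↔ (((a : Matrix.SpecialLinearGroup (Fin n) F) : Matrix (Fin n) (Fin n) F) - 1).rank = (((b : Matrix.SpecialLinearGroup (Fin n) F) : Matrix (Fin n) (Fin n) F) - 1).rank) := by
  have h12 : IsConj a b → IsConj (a : Matrix.SpecialLinearGroup (Fin n) F)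
      (b : Matrix.SpecialLinearGroup (Fin n) F) := by
    intro h
    exact (Cfsg.SU n F q).subtype.map_isConj h
  refine ⟨⟨h12, fun h => ?_⟩, ⟨fun h => ?_, fun h => ?_⟩⟩
  · exact conj_of_rank hF a b ha hb (rank_of_isConj _ _ h)
  · exact rank_of_isConj _ _ (h12 h)
  · exact conj_of_rank hF a b ha hb h

end Cfsg.Agent.S2164
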