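import Cfsg.Statements.S2165
import Cfsg.Agent.Lib.Helper24.BlockInvolution

set_option autoImplicit false
open Cfsg
open Cfsg.Agent.Lib.Helper24
open Matrix

namespace Cfsg.Agent.S2165

/-- In SU_n(q), q even, n ≥ 3 (matrices of determinant 1 over the field with q² elements preserving Σ u_i v_i^q): for every ℓ with 1 ≤ ℓ and 2ℓ ≤ n, the permutation matrix of the involution of {0, …, n−1} exchanging i and n − ℓ + i for each i < ℓ lies in SU_n(q), has order 2, and differs from the identity by a matrix of rank ℓ. So every rank between 1 and n/2 occurs for involutions of SU_n(q). -/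
theorem result {F : Type*} [Field F] [Fintype F] [CharP F 2] {n q : ℕ} (hF : Fintype.card F = q ^ 2) (hn : 3 ≤ n) (ℓ : ℕ) (h1 : 1 ≤ ℓ) (h2 : 2 * ℓ ≤ n) :
    ∃ a : ↥(Cfsg.SU n F q), (((a : Matrix.SpecialLinearGroup (Fin n) F) : Matrix (Fin n) (Fin n) F) = Matrix.of (fun i j : Fin n => if (j.val < ℓ ∧ i.val = j.val + (n - ℓ)) ∨ (i.val < ℓ ∧ j.val = i.val + (n - ℓ)) ∨ (i = j ∧ ℓ ≤ i.val ∧ i.val < n - ℓ) then (1 : F) else 0)) ∧ orderOf a = 2 ∧ ((((a : Matrix.SpecialLinearGroup (Fin n) F) : Matrix (Fin n) (Fin n) F)) - 1).rank = ℓ := by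
  classical
  have h20 : (2 : F) = 0 := by
    have := CharP.cast_eq_zero F 2
    exact_mod_cast this
  have h11 : (1:F) + 1 = 0 := by rw [one_add_one_eq_two]; exact h20
  obtain ⟨N, hN⟩ : ∃ N : Matrix (Fin n) (Fin n) F, N = blkN F n ℓ := ⟨_, rfl⟩
  obtain ⟨P, hP⟩ : ∃ P : Matrix (Fin n) (Fin n) F, P = Matrix.of (fun i j : Fin n => if (j.val < ℓ ∧ i.val = j.val + (n - ℓ)) ∨ (i.val < ℓ ∧ j.val = i.val + (n - ℓ)) ∨ (i = j ∧ ℓ ≤ i.val ∧ i.val < n - ℓ) then (1 : F) else 0) := ⟨_, rfl⟩
  have hPapp : ∀ i j : Fin n, P i j = if (j.val < ℓ ∧ i.val = j.val + (n - ℓ)) ∨ (i.val < ℓ ∧ j.val = i.val + (n - ℓ)) ∨ (i = j ∧ ℓ ≤ i.val ∧ i.val < n - ℓ) then (1 : F) else 0 := by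
    intro i j; rw [hP]; rfl
  -- the permutation
  obtain ⟨σ, hσ⟩ : ∃ σ : Fin n → Fin n, ∀ i, (σ i).val = if i.val < ℓ then i.val + (n - ℓ) else if n - ℓ ≤ i.val then i.val - (n - ℓ) else i.val := by
    refine ⟨fun i => if h : i.val < ℓ then ⟨i.val + (n - ℓ), by omega⟩ else if h' : n - ℓ ≤ i.val then ⟨i.val - (n - ℓ), by have := i.2; omega⟩ else i, ?_⟩
    intro i
    by_cases h : i.val < ℓ
    · simp [h]
    · by_cases h' : n - ℓ ≤ i.val
      · simp [h, h']
      · simp [h, h']
  have hσinv : ∀ i, σ (σ i) = i := by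
    intro i
    apply Fin.ext
    rw [hσ (σ i), hσ i]
    have := i.2
    split_ifs <;> omega
  have hcond : ∀ i j : Fin n, ((j.val < ℓ ∧ i.val = j.val + (n - ℓ)) ∨ (i.val < ℓ ∧ j.val = i.val + (n - ℓ)) ∨ (i = j ∧ ℓ ≤ i.val ∧ i.val < n - ℓ)) ↔ j = σ i := by
    intro i j
    rw [Fin.ext_iff (a := j), Fin.ext_iff (a := i), hσ]
    have := i.2
    have := j.2
    split_ifs <;> omega
  have hPσ : ∀ i j : Fin n, P i j = if j = σ i then (1:F) else 0 := by
    intro i j
    rw [hPapp]
    by_cases h : j = σ i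
    · rw [if_pos h, if_pos ((hcond i j).mpr h)]
    · rw [if_neg h, if_neg (fun h' => h ((hcond i j).mp h'))]
  have hPmul : ∀ (u : Fin n → F) (i : Fin n), (P *ᵥ u) i = u (σ i) := by
    intro u i
    rw [Matrix.mulVec, dotProduct]
    rw [Finset.sum_eq_single (σ i)]
    · rw [hPσ, if_pos rfl, one_mul]
    · intro j _ hj
      rw [hPσ, if_neg hj, zero_mul]
    · intro h; exact absurd (Finset.mem_univ _) h
  -- entrywise decomposition P - 1 = N + Nᵀ + D₁ + D₂
  have hdecomp : P - 1 = N + N.transpose + Matrix.diagonal (blkW1 F n ℓ) + Matrix.diagonal (blkW2 F n ℓ) := by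
    ext i j
    rw [Matrix.sub_apply, Matrix.add_apply, Matrix.add_apply, Matrix.add_apply, Matrix.transpose_apply,
      hN, blkN_apply, blkN_apply, hPapp]
    have h10 : (0:F) - 1 = 1 := by
      rw [zero_sub]
      exact (eq_neg_of_add_eq_zero_left h11).symm
    by_cases hij : i = j
    · subst hij
      rw [Matrix.one_apply_eq, Matrix.diagonal_apply_eq, Matrix.diagonal_apply_eq, blkW1, blkW2]
      have := i.2
      by_cases ha : i.val < ℓ
      · have hb : ¬ (n - ℓ ≤ i.val) := by omega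
        have hc : ¬ ((i.val < ℓ ∧ i.val = i.val + (n - ℓ)) ∨ (i.val < ℓ ∧ i.val = i.val + (n - ℓ)) ∨ (i = i ∧ ℓ ≤ i.val ∧ i.val < n - ℓ)) := by
          intro h; rcases h with h | h | h <;> omega
        have hd : ¬ (i.val < ℓ ∧ i.val = i.val + (n - ℓ)) := by intro h; omega
        rw [if_neg hc, if_neg hd, if_pos ha, if_neg hb]
        simp [h10]
      · by_cases hb : n - ℓ ≤ i.val
        · have hc : ¬ ((i.val < ℓ ∧ i.val = i.val + (n - ℓ)) ∨ (i.val < ℓ ∧ i.val = i.val + (n - ℓ)) ∨ (i = i ∧ ℓ ≤ i.val ∧ i.val < n - ℓ)) := by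
            intro h; rcases h with h | h | h <;> omega
          have hd : ¬ (i.val < ℓ ∧ i.val = i.val + (n - ℓ)) := by intro h; omega
          rw [if_neg hc, if_neg hd, if_neg ha, if_pos hb]
          simp [h10]
        · have hc : ((i.val < ℓ ∧ i.val = i.val + (n - ℓ)) ∨ (i.val < ℓ ∧ i.val = i.val + (n - ℓ)) ∨ (i = i ∧ ℓ ≤ i.val ∧ i.val < n - ℓ)) := by
            right; right; exact ⟨rfl, by omega, by omega⟩
          have hd : ¬ (i.val < ℓ ∧ i.val = i.val + (n - ℓ)) := by intro h; omega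
          rw [if_pos hc, if_neg hd, if_neg ha, if_neg hb]
          simp
    · rw [Matrix.one_apply_ne hij, Matrix.diagonal_apply_ne _ hij, Matrix.diagonal_apply_ne _ hij,
        add_zero, add_zero, sub_zero]
      have hij' : i.val ≠ j.val := fun h => hij (Fin.ext h)
      by_cases hA : j.val < ℓ ∧ i.val = j.val + (n - ℓ)
      · have hB : ¬ (i.val < ℓ ∧ j.val = i.val + (n - ℓ)) := by intro h; omega
        rw [if_pos (Or.inl hA), if_pos hA, if_neg hB, add_zero]
      · by_cases hB : i.val < ℓ ∧ j.val = i.val + (n - ℓ)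
        · rw [if_pos (Or.inr (Or.inl hB)), if_neg hA, if_pos hB, zero_add]
        · have hc : ¬ ((j.val < ℓ ∧ i.val = j.val + (n - ℓ)) ∨ (i.val < ℓ ∧ j.val = i.val + (n - ℓ)) ∨ (i = j ∧ ℓ ≤ i.val ∧ i.val < n - ℓ)) := by
            intro h
            rcases h with h | h | h
            · exact hA h
            · exact hB h
            · exact hij h.1
          rw [if_neg hc, if_neg hA, if_neg hB, add_zero]
  -- algebra
  have hNN : N * N = 0 := by rw [hN]; exact blkN_mul_self h2 h1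
  have hNtN : N.transpose * N = Matrix.diagonal (blkW1 F n ℓ) := by rw [hN]; exact blkN_transpose_mul h2
  have hNNt : N * N.transpose = Matrix.diagonal (blkW2 F n ℓ) := by rw [hN]; exact blkN_mul_transpose h2
  have hND : N * Matrix.diagonal (blkW1 F n ℓ) = N := by rw [hN]; exact blkN_mul_diag n ℓ
  have hNNtN : N * N.transpose * N = N := by
    rw [Matrix.mul_assoc, hNtN, hND]
  have hM : P - 1 = (1 + N) * N.transpose * (1 + N) := by
    rw [hdecomp, ← hNtN, ← hNNt]
    have h3 : (1 + N) * N.transpose * (1 + N)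
        = N.transpose + N.transpose * N + N * N.transpose + N * N.transpose * N := by
      noncomm_ring
    rw [h3, hNNtN]
    abel
  have hsq1 : (1 + N) * (1 + N) = 1 := by rw [hN]; exact one_add_blkN_sq h2 h1
  have hNtNt : N.transpose * N.transpose = 0 := by
    rw [← Matrix.transpose_mul, hNN, Matrix.transpose_zero]
  have hMM : (P - 1) * (P - 1) = 0 := by
    rw [hM]
    calc (1 + N) * N.transpose * (1 + N) * ((1 + N) * N.transpose * (1 + N))
        = (1 + N) * N.transpose * ((1 + N) * (1 + N)) * N.transpose * (1 + N) := by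
          simp only [Matrix.mul_assoc]
      _ = 0 := by
          rw [hsq1, Matrix.mul_one, Matrix.mul_assoc (1 + N), hNtNt, Matrix.mul_zero, Matrix.zero_mul]
  have hPP : P * P = 1 := by
    have h3 : P = 1 + (P - 1) := by abel
    rw [h3, mul_add, add_mul, add_mul, hMM, one_mul, mul_one, one_mul, add_zero, add_assoc,
      ← two_smul F (P - 1), h20, zero_smul, add_zero]
  have hdetP : P.det = 1 := by
    have h3 : P.det * P.det = 1 := by rw [← Matrix.det_mul, hPP, Matrix.det_one]
    have h4 : (P.det - 1) * (P.det - 1) = 0 := by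
      have : (P.det - 1) * (P.det - 1) = P.det * P.det - (2:F) * P.det + 1 := by ring
      rw [this, h3, h20, zero_mul, sub_zero, h11]
    have h5 := mul_self_eq_zero.mp h4
    exact sub_eq_zero.mp h5
  have hdetN : IsUnit (1 + N).det := by
    rw [hN, blkN_det h2 h1]; exact isUnit_one
  have hrank : (P - 1).rank = ℓ := by
    rw [hM, Matrix.rank_mul_eq_left_of_isUnit_det _ _ hdetN,
      Matrix.rank_mul_eq_right_of_isUnit_det _ _ hdetN, Matrix.rank_transpose, hN, blkN_rank h2]
  have hPne : P ≠ 1 := by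
    intro h
    have : (P - 1).rank = 0 := by rw [h, sub_self, Matrix.rank_zero]
    omega
  -- the element
  obtain ⟨a, ha⟩ : ∃ a : Matrix.SpecialLinearGroup (Fin n) F, a = ⟨P, hdetP⟩ := ⟨_, rfl⟩
  have hacoe : (a : Matrix (Fin n) (Fin n) F) = P := by rw [ha]
  have hmem : a ∈ Cfsg.SU n F q := by
    intro u v
    show hermForm n F q ((a : Matrix (Fin n) (Fin n) F) *ᵥ u) ((a : Matrix (Fin n) (Fin n) F) *ᵥ v) = hermForm n F q u v
    rw [hacoe]
    unfold hermForm
    have hbij : Function.Bijective σ := Function.Involutive.bijective hσinv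
    rw [← Function.Bijective.sum_comp hbij (fun i => u i * (v i) ^ q)]
    apply Finset.sum_congr rfl
    intro i _
    rw [hPmul, hPmul]
  refine ⟨⟨a, hmem⟩, ?_, ?_, ?_⟩
  · show (a : Matrix (Fin n) (Fin n) F) = _
    rw [hacoe, hP]
  · have : Fact (Nat.Prime 2) := ⟨Nat.prime_two⟩
    apply orderOf_eq_prime
    · rw [sq]
      apply Subtype.ext
      apply Subtype.ext
      show (a : Matrix (Fin n) (Fin n) F) * (a : Matrix (Fin n) (Fin n) F) = 1
      rw [hacoe]; exact hPP
    · intro h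
      apply hPne
      rw [← hacoe]
      have := congrArg (fun x : ↥(Cfsg.SU n F q) => ((x : Matrix.SpecialLinearGroup (Fin n) F) : Matrix (Fin n) (Fin n) F)) h
      exact this
  · show ((a : Matrix (Fin n) (Fin n) F) - 1).rank = ℓ
    rw [hacoe]; exact hrank

end Cfsg.Agent.S2165
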