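import Cfsg.Statements.S2167
import Mathlib
import Cfsg.Agent.Lib.Helper27.SympWitt
import Cfsg.Agent.S0752

set_option autoImplicit false
open Cfsg

namespace Cfsg.Agent.S2167


open Module Cfsg Cfsg.Agent.Lib.Helper27.SympTransv


/-- For an involution t of the symplectic group Sp_{2m}(F), m ≥ 2, F a finite field of characteristic two (matrices A with A J Aᵀ = J acting on column vectors, alternating form f(u, v) = u ⬝ (J v)): the set V(t) of vectors v with f(v, t v) = 0 has either q^{2m} or q^{2m−1} elements, q the order of F (it is a subspace of codimension at most 1), and if it is the whole space then t − 1 has even rank. -/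
theorem result {F : Type*} [Field F] [Fintype F] [CharP F 2] {m : ℕ} (hm : 2 ≤ m) (a : ↥(Matrix.symplecticGroup (Fin m) F)) (ha : orderOf a = 2) :
    (Nat.card {v : Fin m ⊕ Fin m → F // Cfsg.sympForm m F v (Matrix.mulVec ((a : ↥(Matrix.symplecticGroup (Fin m) F)) : Matrix (Fin m ⊕ Fin m) (Fin m ⊕ Fin m) F) v) = 0} = Fintype.card F ^ (2 * m) ∨ Nat.card {v : Fin m ⊕ Fin m → F // Cfsg.sympForm m F v (Matrix.mulVec ((a : ↥(Matrix.symplecticGroup (Fin m) F)) : Matrix (Fin m ⊕ Fin m) (Fin m ⊕ Fin m) F) v) = 0} * Fintype.card F = Fintype.card F ^ (2 * m)) ∧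
    ((∀ v : Fin m ⊕ Fin m → F, Cfsg.sympForm m F v (Matrix.mulVec ((a : ↥(Matrix.symplecticGroup (Fin m) F)) : Matrix (Fin m ⊕ Fin m) (Fin m ⊕ Fin m) F) v) = 0) → Even (((a : ↥(Matrix.symplecticGroup (Fin m) F)) : Matrix (Fin m ⊕ Fin m) (Fin m ⊕ Fin m) F) - 1).rank) := by
  classical
  haveI : Fact (Nat.Prime 2) := ⟨Nat.prime_two⟩
  set A := ((a : ↥(Matrix.symplecticGroup (Fin m) F)) : Matrix (Fin m ⊕ Fin m) (Fin m ⊕ Fin m) F) with hAdef
  have hact : ∀ v, A.mulVec v = act a v := fun v => rfl
  have haa : ∀ v, act a (act a v) = v := by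
    intro v
    rw [← act_mul, ← sq]
    have := pow_orderOf_eq_one a
    rw [ha] at this
    rw [this, act_one]
  set Q : (Fin m ⊕ Fin m → F) → F := fun v => sympForm m F v (A.mulVec v) with hQ
  have hQadd : ∀ u v, Q (u + v) = Q u + Q v := by
    intro u v
    simp only [hQ, hact, act_add, sf_add_left, sf_add_right]
    have h1 : sympForm m F v (act a u) = - sympForm m F u (act a v) := by
      rw [← act_preserves a v (act a u), haa, sf_swap]
    rw [h1]; ring
  have hQsmul : ∀ (c : F) v, Q (c • v) = c ^ 2 * Q v := by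
    intro c v
    simp only [hQ, hact, act_smul, sf_smul_left, sf_smul_right]
    ring
  set σ := (frobeniusEquiv F 2).symm with hσ
  have hσsq : ∀ c : F, σ (c ^ 2) = c := by
    intro c
    have : frobeniusEquiv F 2 c = c ^ 2 := by rw [frobeniusEquiv_apply, frobenius_def]
    rw [← this, hσ, RingEquiv.symm_apply_apply]
  let lam : (Fin m ⊕ Fin m → F) →ₗ[F] F :=
    { toFun := fun v => σ (Q v)
      map_add' := fun u v => by rw [hQadd, map_add]
      map_smul' := fun c v => by
        simp only [RingHom.id_apply, smul_eq_mul]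
        rw [hQsmul, map_mul, hσsq] }
  have hlam : ∀ v, lam v = 0 ↔ Q v = 0 := by
    intro v
    change σ (Q v) = 0 ↔ Q v = 0
    exact map_eq_zero_iff σ σ.injective
  have hcardV : Nat.card (Fin m ⊕ Fin m → F) = Fintype.card F ^ (2 * m) := by
    rw [Nat.card_eq_fintype_card, Fintype.card_fun, Fintype.card_sum, Fintype.card_fin, two_mul]
  have hker : Nat.card {v : Fin m ⊕ Fin m → F // Q v = 0} = Nat.card (LinearMap.ker lam) := by
    apply Nat.card_congr
    exact Equiv.subtypeEquivRight (fun v => by rw [LinearMap.mem_ker, hlam])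
  constructor
  · change Nat.card {v : Fin m ⊕ Fin m → F // Q v = 0} = _ ∨ Nat.card {v : Fin m ⊕ Fin m → F // Q v = 0} * _ = _
    rw [hker]
    by_cases h0 : lam = 0
    · left
      rw [h0, LinearMap.ker_zero, ← hcardV]
      exact Nat.card_congr (Equiv.Set.univ _)
    · right
      have hsurj : Function.Surjective lam := by
        obtain ⟨v₀, hv₀⟩ : ∃ v₀, lam v₀ ≠ 0 := by
          by_contra hcon
          push_neg at hcon
          exact h0 (LinearMap.ext hcon)
        intro c
        refine ⟨(c / lam v₀) • v₀, ?_⟩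
        rw [map_smul, smul_eq_mul, div_mul_cancel₀ _ hv₀]
      have h1 := Submodule.card_eq_card_quotient_mul_card (LinearMap.ker lam)
      have h2 : Nat.card ((Fin m ⊕ Fin m → F) ⧸ LinearMap.ker lam) = Fintype.card F := by
        rw [← Nat.card_eq_fintype_card]
        exact Nat.card_congr (lam.quotKerEquivOfSurjective hsurj).toEquiv
      rw [h2, hcardV] at h1
      rw [h1]
  · intro hall
    have hQ0 : ∀ v, Q v = 0 := hall
    set N : (Fin m ⊕ Fin m → F) →ₗ[F] (Fin m ⊕ Fin m → F) := (A - 1).mulVecLin with hN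
    have hNv : ∀ v, N v = act a v - v := by
      intro v
      rw [hN, Matrix.mulVecLin_apply, Matrix.sub_mulVec, Matrix.one_mulVec]
      rfl
    have hrank : (A - 1).rank = finrank F (LinearMap.range N) := rfl
    rw [hrank]
    obtain ⟨C, hC⟩ := Submodule.exists_isCompl (LinearMap.ker N)
    have hCrank : finrank F C = finrank F (LinearMap.range N) := by
      have h1 := Submodule.finrank_add_eq_of_isCompl hC
      have h2 := LinearMap.finrank_range_add_finrank_ker N
      omega
    rw [← hCrank]
    set B₀ : LinearMap.BilinForm F (Fin m ⊕ Fin m → F) := (sympB m F).compl₂ N with hB₀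
    have hB₀app : ∀ u v, B₀ u v = sympForm m F u (N v) := by
      intro u v
      rw [hB₀, LinearMap.compl₂_apply, sympB_apply]
    have hB₀alt : ∀ v, B₀ v v = 0 := by
      intro v
      rw [hB₀app, hNv]
      have : sympForm m F v (act a v - v) = sympForm m F v (act a v) - sympForm m F v v := by
        rw [sub_eq_add_neg, sf_add_right, sf_neg_right, ← sub_eq_add_neg]
      rw [this, sf_self, sub_zero]
      exact hQ0 v
    set B := B₀.restrict C with hB
    have hBapp : ∀ x y : C, B x y = B₀ x.1 y.1 := fun x y => rfl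
    have hA : B.IsAlt := fun x => by rw [hBapp]; exact hB₀alt _
    obtain ⟨m', k, b, r1, r2, r3, r4⟩ := Cfsg.Agent.S0752.result B hA
    have hk : k = 0 := by
      by_contra hne
      have hpos : 0 < k := Nat.pos_of_ne_zero hne
      set c₀ := b (Sum.inr ⟨0, hpos⟩) with hc₀
      have h0 := b.ne_zero (Sum.inr ⟨0, hpos⟩)
      apply h0
      have hker : (c₀ : Fin m ⊕ Fin m → F) ∈ LinearMap.ker N := by
        rw [LinearMap.mem_ker]
        apply (sympB_nondegenerate (F := F) (m := m)).2
        intro v
        rw [sympB_apply]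
        obtain ⟨kk, hkk, c, hc, rfl⟩ : ∃ kk ∈ LinearMap.ker N, ∃ c ∈ C, kk + c = v := by
          have : v ∈ LinearMap.ker N ⊔ C := by rw [hC.sup_eq_top]; exact Submodule.mem_top
          exact Submodule.mem_sup.1 this
        rw [sf_add_left]
        have e1 : sympForm m F kk (N c₀) = 0 := by
          have hp := act_preserves a kk (c₀ : Fin m ⊕ Fin m → F)
          have hNk : act a kk = kk := by
            have := LinearMap.mem_ker.1 hkk
            rw [hNv, sub_eq_zero] at this
            exact this
          rw [hNk] at hp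
          rw [hNv, sub_eq_add_neg, sf_add_right, sf_neg_right, hp, add_neg_cancel]
        have e2 : sympForm m F c (N c₀) = 0 := by
          have h1 : B ⟨c, hc⟩ c₀ = - B c₀ ⟨c, hc⟩ := (hA.neg_eq c₀ ⟨c, hc⟩).symm
          rw [r4 ⟨0, hpos⟩ ⟨c, hc⟩, neg_zero, hBapp, hB₀app] at h1
          exact h1
        rw [e1, e2, add_zero]
      have hmem : (c₀ : Fin m ⊕ Fin m → F) ∈ LinearMap.ker N ⊓ C := ⟨hker, c₀.2⟩
      rw [hC.inf_eq_bot, Submodule.mem_bot] at hmem
      exact Subtype.ext hmem
    subst hk
    have hcard := Module.finrank_eq_card_basis b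
    simp only [Fintype.card_sum, Fintype.card_fin] at hcard
    exact ⟨m', by omega⟩

end Cfsg.Agent.S2167
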