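import Cfsg.Statements.S2172
import Mathlib
import Cfsg.Agent.Lib.Helper19.OrthInvSplit
import Cfsg.Agent.Lib.Helper19.QuadStd


set_option autoImplicit false
open Cfsg

namespace Cfsg.Agent.S2172

open Cfsg.Agent.Lib.Helper19.OrthRefl Cfsg.Agent.Lib.Helper19.Parity in
theorem key {F : Type*} [Field F] [Fintype F] (h2 : (2 : F) = 0) {m : ℕ} (hm : 4 ≤ m)
    (Q : QuadraticForm F (Fin m ⊕ Fin m → F)) (hQ : (QuadraticMap.polarBilin Q).Nondegenerate)
    (t s : ↥(Cfsg.isometryGroup F ⇑Q)) (ht : orderOf t = 2)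
    (htO : t ∈ Cfsg.Omega F ⇑Q) (hconj : IsConj t s) :
    (¬ ((((t : GL (Fin m ⊕ Fin m) F) : Matrix (Fin m ⊕ Fin m) (Fin m ⊕ Fin m) F) - 1).rank = m ∧
        ∀ v : Fin m ⊕ Fin m → F, Q (v + Matrix.mulVec ((t : GL (Fin m ⊕ Fin m) F) :
          Matrix (Fin m ⊕ Fin m) (Fin m ⊕ Fin m) F) v) = 0) →
      ∃ g ∈ Cfsg.Omega F ⇑Q, g * t * g⁻¹ = s) ∧
    (((((t : GL (Fin m ⊕ Fin m) F) : Matrix (Fin m ⊕ Fin m) (Fin m ⊕ Fin m) F) - 1).rank = m ∧
        ∀ v : Fin m ⊕ Fin m → F, Q (v + Matrix.mulVec ((t : GL (Fin m ⊕ Fin m) F) :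
          Matrix (Fin m ⊕ Fin m) (Fin m ⊕ Fin m) F) v) = 0) →
      ((∃ g ∈ Cfsg.Omega F ⇑Q, g * t * g⁻¹ = s) ↔
        Even (Module.finrank F ↥(LinearMap.range (Matrix.toLin'
          (((t : GL (Fin m ⊕ Fin m) F) : Matrix (Fin m ⊕ Fin m) (Fin m ⊕ Fin m) F) - 1)) ⊓
          LinearMap.range (Matrix.toLin'
          (((s : GL (Fin m ⊕ Fin m) F) : Matrix (Fin m ⊕ Fin m) (Fin m ⊕ Fin m) F) - 1)))))) := by
  classical
  have hex : Fintype.card F ≠ 2 ∨ Fintype.card (Fin m ⊕ Fin m) ≠ 4 := by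
    right
    rw [Fintype.card_sum, Fintype.card_fin]
    omega
  have hV : Module.finrank F (Fin m ⊕ Fin m → F) = 2 * m := by
    rw [Module.finrank_fintype_fun_eq_card, Fintype.card_sum, Fintype.card_fin]; ring
  have ht2 : t * t = 1 := by
    have h3 : t ^ orderOf t = 1 := pow_orderOf_eq_one t
    rw [ht, pow_two] at h3
    exact h3
  have hsum : ∀ v : Fin m ⊕ Fin m → F, act t v - v = v + Matrix.mulVec ((t : GL (Fin m ⊕ Fin m) F) :
      Matrix (Fin m ⊕ Fin m) (Fin m ⊕ Fin m) F) v := by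
    intro v
    have h0 : (2 : F) • v = 0 := by rw [h2, zero_smul]
    rw [two_smul] at h0
    change act t v - v = v + act t v
    have : act t v - v = v + act t v - (v + v) := by abel
    rw [this, h0, sub_zero]
  obtain ⟨g, hg⟩ := isConj_iff.1 hconj
  constructor
  · intro hnot
    obtain ⟨w, hw, htw⟩ := exists_fixed_nonsing h2 Q hQ t ht2 (by
      by_cases hA : ∃ v, Q (act t v - v) ≠ 0
      · exact Or.inl hA
      · right
        push Not at hA
        have hTS := isTS_commSpace Q t hA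
        intro hTS'
        apply hnot
        refine ⟨?_, fun v => by rw [← hsum]; exact hA v⟩
        have h1 := hTS.finrank_le hQ
        have h3 := hTS'.finrank_le hQ
        rw [finrank_orth hQ, hV] at h3
        rw [hV] at h1
        rw [← finrank_commSpace]
        omega)
    exact conj_in_Omega_of_fixed h2 Q hQ hex t s g hg w hw htw
  · rintro ⟨hrank, hsing⟩
    have hA : ∀ v, Q (act t v - v) = 0 := fun v => by rw [hsum]; exact hsing v
    have hTS := isTS_commSpace Q t hA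
    have hfin : Module.finrank F (commSpace t) = m := by rw [finrank_commSpace]; exact hrank
    have hmeven : Even m := by
      have h1 := (mem_Omega_iff_c2 h2 Q hQ hex t).1 htO
      rw [dicksonChar_eq_rank, neg_one_pow_eq_one_iff_even', hrank] at h1
      exact h1
    have hiff : ∀ g' : ↥(Cfsg.isometryGroup F ⇑Q), g' * t * g'⁻¹ = s →
        (g' ∈ Cfsg.Omega F ⇑Q ↔ Even (Module.finrank F ↥(commSpace t ⊓ commSpace s))) := by
      intro g' hg'
      rw [mem_Omega_iff_c2 h2 Q hQ hex, ← parityChar_eq_dicksonChar h2 Q hQ hex hV _ hTS hfin,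
        parityChar_eq_one_iff, commSpace_conj t s g' hg']
      have hle : Module.finrank F ↥(commSpace t ⊓ commSpace s) ≤ m :=
        le_trans (Submodule.finrank_mono inf_le_left) (le_of_eq hfin)
      constructor
      · intro h
        have := hmeven
        rw [Nat.even_sub hle] at h
        exact h.1 this
      · intro h
        rw [Nat.even_sub hle]
        exact ⟨fun _ => h, fun _ => hmeven⟩
    have hrange : ∀ r : ↥(Cfsg.isometryGroup F ⇑Q), LinearMap.range (Matrix.toLin'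
        (((r : GL (Fin m ⊕ Fin m) F) : Matrix (Fin m ⊕ Fin m) (Fin m ⊕ Fin m) F) - 1))
        = commSpace r := fun r => rfl
    rw [hrange t, hrange s]
    constructor
    · rintro ⟨g', hg'O, hg'⟩
      exact (hiff g' hg').1 hg'O
    · intro h
      exact ⟨g, (hiff g hg).2 h, hg⟩


/-- Splitting of involution classes from O to Ω for the hyperbolic quadratic form Q = Σ x_i y_i in dimension 2m over a finite field F of characteristic two, m ≥ 4. Let t, s be involutions of the commutator subgroup Ω that are conjugate in the full isometry group O. If it is not the case that t − 1 has rank m and Q(v + t v) = 0 for every vector v, then t and s are conjugate by an element of Ω. If t − 1 has rank m and Q(v + t v) = 0 for all v, then t and s are conjugate by an element of Ω exactly when the intersection of the images of t − 1 and s − 1 has even dimension (so the class of t in O meets at most two classes of Ω). -/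
theorem result {F : Type*} [Field F] [Fintype F] [CharP F 2] {m : ℕ} (hm : 4 ≤ m) (t s : ↥(Cfsg.isometryGroup F (Cfsg.quadFormPlus m F))) (ht : orderOf t = 2) (hs : orderOf s = 2) (htO : t ∈ Cfsg.Omega F (Cfsg.quadFormPlus m F)) (hsO : s ∈ Cfsg.Omega F (Cfsg.quadFormPlus m F)) (hconj : IsConj t s) :
    (¬ (((((t : ↥(Cfsg.isometryGroup F (Cfsg.quadFormPlus m F))) : GL (Fin m ⊕ Fin m) F) : Matrix (Fin m ⊕ Fin m) (Fin m ⊕ Fin m) F) - 1).rank = m ∧ ∀ v : Fin m ⊕ Fin m → F, Cfsg.quadFormPlus m F (v + Matrix.mulVec (((t : ↥(Cfsg.isometryGroup F (Cfsg.quadFormPlus m F))) : GL (Fin m ⊕ Fin m) F) : Matrix (Fin m ⊕ Fin m) (Fin m ⊕ Fin m) F) v) = 0) →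
      ∃ g ∈ Cfsg.Omega F (Cfsg.quadFormPlus m F), g * t * g⁻¹ = s) ∧
    ((((((t : ↥(Cfsg.isometryGroup F (Cfsg.quadFormPlus m F))) : GL (Fin m ⊕ Fin m) F) : Matrix (Fin m ⊕ Fin m) (Fin m ⊕ Fin m) F) - 1).rank = m ∧ ∀ v : Fin m ⊕ Fin m → F, Cfsg.quadFormPlus m F (v + Matrix.mulVec (((t : ↥(Cfsg.isometryGroup F (Cfsg.quadFormPlus m F))) : GL (Fin m ⊕ Fin m) F) : Matrix (Fin m ⊕ Fin m) (Fin m ⊕ Fin m) F) v) = 0) →
      ((∃ g ∈ Cfsg.Omega F (Cfsg.quadFormPlus m F), g * t * g⁻¹ = s) ↔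
        Even (Module.finrank F ↥(LinearMap.range (Matrix.toLin' ((((t : ↥(Cfsg.isometryGroup F (Cfsg.quadFormPlus m F))) : GL (Fin m ⊕ Fin m) F) : Matrix (Fin m ⊕ Fin m) (Fin m ⊕ Fin m) F) - 1)) ⊓ LinearMap.range (Matrix.toLin' ((((s : ↥(Cfsg.isometryGroup F (Cfsg.quadFormPlus m F))) : GL (Fin m ⊕ Fin m) F) : Matrix (Fin m ⊕ Fin m) (Fin m ⊕ Fin m) F) - 1)))))) := by
  have h2 : (2 : F) = 0 := by
    have := CharP.cast_eq_zero F 2
    exact_mod_cast this
  have := fun t s => key h2 hm (Cfsg.Agent.Lib.Helper19.QuadStd.stdPlus m F)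
    (Cfsg.Agent.Lib.Helper19.QuadStd.stdPlus_nondeg m) t s
  rw [Cfsg.Agent.Lib.Helper19.QuadStd.coe_stdPlus] at this
  exact this t s ht htO hconj

end Cfsg.Agent.S2172
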