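import Cfsg.Statements.S2173
import Mathlib
import Cfsg.Agent.Lib.Helper19.OrthInvSplit
import Cfsg.Agent.Lib.Helper19.QuadMinusTS
import Cfsg.Agent.Lib.Helper19.QuadMinus


set_option autoImplicit false
open Cfsg

namespace Cfsg.Agent.S2173

/-- For the quadratic form Σ x_i y_i + (z₁² + c z₁ z₂ + d z₂²) in dimension 2m with anisotropic binary part over a finite field F of characteristic two, m ≥ 4 (minus type): two involutions of the commutator subgroup Ω that are conjugate in the full isometry group O are conjugate by an element of Ω (no class of involutions of O inside Ω splits). -/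
theorem result {F : Type*} [Field F] [Fintype F] [CharP F 2] {m : ℕ} (hm : 4 ≤ m) (c d : F) (hcd : ∀ z₁ z₂ : F, z₁ ^ 2 + c * z₁ * z₂ + d * z₂ ^ 2 = 0 → z₁ = 0 ∧ z₂ = 0) (t s : ↥(Cfsg.isometryGroup F (Cfsg.quadFormMinus (m - 1) F c d))) (ht : orderOf t = 2) (hs : orderOf s = 2) (htO : t ∈ Cfsg.Omega F (Cfsg.quadFormMinus (m - 1) F c d)) (hsO : s ∈ Cfsg.Omega F (Cfsg.quadFormMinus (m - 1) F c d)) (hconj : IsConj t s) :
    ∃ g ∈ Cfsg.Omega F (Cfsg.quadFormMinus (m - 1) F c d), g * t * g⁻¹ = s := by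
  classical
  have h2 : (2 : F) = 0 := by
    have := CharP.cast_eq_zero F 2
    exact_mod_cast this
  have hex : Fintype.card F ≠ 2 ∨ Fintype.card ((Fin (m - 1) ⊕ Fin (m - 1)) ⊕ Fin 2) ≠ 4 := by
    right
    simp only [Fintype.card_sum, Fintype.card_fin]
    omega
  have key : ∀ (t s : ↥(Cfsg.isometryGroup F ⇑(Cfsg.Agent.Lib.Helper19.QuadStd.stdMinus (m - 1) F c d))),
      orderOf t = 2 → IsConj t s →
      ∃ g ∈ Cfsg.Omega F ⇑(Cfsg.Agent.Lib.Helper19.QuadStd.stdMinus (m - 1) F c d), g * t * g⁻¹ = s := by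
    intro t s ht hconj
    have hQ := Cfsg.Agent.Lib.Helper19.QuadStd.stdMinus_nondeg (m - 1) hcd
    have ht2 : t * t = 1 := by
      have h3 : t ^ orderOf t = 1 := pow_orderOf_eq_one t
      rw [ht, pow_two] at h3
      exact h3
    obtain ⟨g, hg⟩ := isConj_iff.1 hconj
    obtain ⟨w, hw, htw⟩ := Cfsg.Agent.Lib.Helper19.OrthRefl.exists_fixed_nonsing h2 _ hQ t ht2 (by
      by_cases hA : ∃ v, Cfsg.Agent.Lib.Helper19.QuadStd.stdMinus (m - 1) F c d
          (Cfsg.Agent.Lib.Helper19.OrthRefl.act t v - v) ≠ 0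
      · exact Or.inl hA
      · right
        push Not at hA
        have hTS := Cfsg.Agent.Lib.Helper19.OrthRefl.isTS_commSpace _ t hA
        intro hTS'
        have h1 := Cfsg.Agent.Lib.Helper19.OrthRefl.isTS_minus_finrank_le (m - 1) hcd _ hTS
        have h3 := Cfsg.Agent.Lib.Helper19.OrthRefl.isTS_minus_finrank_le (m - 1) hcd _ hTS'
        rw [Cfsg.Agent.Lib.Helper19.Parity.finrank_orth hQ,
          Cfsg.Agent.Lib.Helper19.QuadMinus.finrank_minus] at h3
        omega)
    exact Cfsg.Agent.Lib.Helper19.OrthRefl.conj_in_Omega_of_fixed h2 _ hQ hex t s g hg w hw htw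
  rw [Cfsg.Agent.Lib.Helper19.QuadStd.coe_stdMinus] at key
  exact key t s ht hconj

end Cfsg.Agent.S2173
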