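-- Statement S3305: cyclic Sylow 2-intersections pass to quotients.
import Cfsg.Statements.S3305

set_option autoImplicit false
open Cfsg

namespace Cfsg.Agent.S3305

/-- Lifting of `p`-subgroups along a surjection: a `p`-subgroup `R` of `G` whose image lies in the
`p`-subgroup `Q` of `G'` extends to a `p`-subgroup of `G` whose image is exactly `Q`. -/
theorem exists_pgroup_lift {G G' : Type*} [Group G] [Group G'] [Finite G] (p : ℕ) [Fact p.Prime]
    (f : G →* G') (hf : Function.Surjective f) (Q : Subgroup G') (hQ : IsPGroup p Q)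
    (R : Subgroup G) (hR : IsPGroup p R) (hRQ : R.map f ≤ Q) :
    ∃ R' : Subgroup G, R ≤ R' ∧ IsPGroup p R' ∧ R'.map f = Q := by
  classical
  set K : Subgroup G := Q.comap f with hK
  have hRK : R ≤ K := Subgroup.map_le_iff_le_comap.mp hRQ
  -- `R` as a `p`-subgroup of `K`
  have hRK' : IsPGroup p (R.subgroupOf K) :=
    hR.comap_of_injective K.subtype (Subgroup.subtype_injective K)
  obtain ⟨S, hS⟩ := hRK'.exists_le_sylow
  -- the restriction of `f` to `K → Q` is surjective
  have hg : Function.Surjective (f.subgroupComap Q) :=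
    f.subgroupComap_surjective_of_surjective Q hf
  -- image of `S` is a Sylow subgroup of `Q`, hence all of `Q`
  have htop : ((S.mapSurjective hg : Sylow p Q) : Subgroup Q) = ⊤ := by
    have : IsPGroup p (⊤ : Subgroup Q) := hQ.of_equiv Subgroup.topEquiv.symm
    exact ((S.mapSurjective hg).3 this le_top).symm
  refine ⟨(S : Subgroup K).map K.subtype, ?_, S.2.map K.subtype, ?_⟩
  · intro x hx
    exact ⟨⟨x, hRK hx⟩, hS (by simpa [Subgroup.mem_subgroupOf] using hx), rfl⟩
  · apply le_antisymm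
    · rw [Subgroup.map_le_iff_le_comap]
      rintro _ ⟨y, -, rfl⟩
      exact y.2
    · intro q hq
      have : (⟨q, hq⟩ : Q) ∈ ((S.mapSurjective hg : Sylow p Q) : Subgroup Q) := by
        rw [htop]; trivial
      rw [Sylow.coe_mapSurjective] at this
      obtain ⟨y, hy, hyq⟩ := this
      refine ⟨y.1, ⟨y, hy, rfl⟩, ?_⟩
      exact congrArg Subtype.val hyq

/-- Lifting along a surjection to Sylow subgroups: a `p`-subgroup `R` whose image lies in the Sylow
subgroup `S̄` lies in a Sylow subgroup of `G` mapping onto `S̄`. -/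
theorem exists_sylow_lift {G G' : Type*} [Group G] [Group G'] [Finite G] (p : ℕ) [Fact p.Prime]
    (f : G →* G') (hf : Function.Surjective f) (Sbar : Sylow p G')
    (R : Subgroup G) (hR : IsPGroup p R) (hRS : R.map f ≤ Sbar) :
    ∃ S : Sylow p G, R ≤ S ∧ (S : Subgroup G).map f = Sbar := by
  obtain ⟨R', hRR', hR', hmap⟩ := exists_pgroup_lift p f hf Sbar Sbar.2 R hR hRS
  obtain ⟨S, hS⟩ := hR'.exists_le_sylow
  refine ⟨S, hRR'.trans hS, ?_⟩
  have h1 : (Sbar : Subgroup G') ≤ (S : Subgroup G).map f := by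
    rw [← hmap]; exact Subgroup.map_mono hS
  exact (Sbar.3 (S.2.map f) h1)

theorem result {G : Type*} [Group G] [Finite G]
    (hC : ∀ S T : Sylow 2 G, S ≠ T → IsCyclic ↥((S : Subgroup G) ⊓ (T : Subgroup G))) (H : Subgroup G) [H.Normal] :
    ∀ S T : Sylow 2 (G ⧸ H), S ≠ T → IsCyclic ↥((S : Subgroup (G ⧸ H)) ⊓ (T : Subgroup (G ⧸ H))) := by
  intro Sbar Tbar hne
  have hf : Function.Surjective (QuotientGroup.mk' H) := QuotientGroup.mk'_surjective H
  have hQ : IsPGroup 2 ↥((Sbar : Subgroup (G ⧸ H)) ⊓ (Tbar : Subgroup (G ⧸ H))) :=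
    Sbar.2.to_le inf_le_left
  obtain ⟨R, -, hR, hRmap⟩ := exists_pgroup_lift 2 (QuotientGroup.mk' H) hf _ hQ ⊥
    (IsPGroup.of_bot) (by simp)
  obtain ⟨S, hRS, hS⟩ := exists_sylow_lift 2 (QuotientGroup.mk' H) hf Sbar R hR
    (hRmap.le.trans inf_le_left)
  obtain ⟨T, hRT, hT⟩ := exists_sylow_lift 2 (QuotientGroup.mk' H) hf Tbar R hR
    (hRmap.le.trans inf_le_right)
  have hST : S ≠ T := by
    rintro rfl
    exact hne (Sylow.ext (hS.symm.trans hT))
  have hcyc : IsCyclic ↥((S : Subgroup G) ⊓ (T : Subgroup G)) := hC S T hST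
  have hRle : R ≤ (S : Subgroup G) ⊓ (T : Subgroup G) := le_inf hRS hRT
  have hRc : IsCyclic ↥R := by
    have : IsCyclic ↥(R.subgroupOf ((S : Subgroup G) ⊓ (T : Subgroup G))) := inferInstance
    exact isCyclic_of_surjective (Subgroup.subgroupOfEquivOfLe hRle)
      (Subgroup.subgroupOfEquivOfLe hRle).surjective
  rw [← hRmap]
  exact isCyclic_of_surjective ((QuotientGroup.mk' H).subgroupMap R)
    ((QuotientGroup.mk' H).subgroupMap_surjective R)

end Cfsg.Agent.S3305
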