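import Cfsg.Statements.S2231
import Cfsg.Agent.S3305
import Mathlib

set_option autoImplicit false
open Cfsg

namespace Cfsg.Agent.S2231

theorem key_field {K : Type*} [Field K] (a b c d x y : K) (hx : x ≠ 0) (h1 : a * x + b * y = x)
    (h2 : c * x + d * y = y) (h3 : a * d - b * c = 1) :
    a = 1 - b * (y / x) ∧ d = 1 + b * (y / x) ∧ c = -(b * (y / x) ^ 2) := by
  have hd : d * x = x + b * y := by linear_combination x * h3 - d * h1 + b * h2
  refine ⟨?_, ?_, ?_⟩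
  · field_simp
    linear_combination h1
  · field_simp
    linear_combination hd
  · field_simp
    linear_combination x * h2 - y * hd

theorem commute_of_common_fixed {K : Type*} [Field K] (A B : Matrix (Fin 2) (Fin 2) K)
    (hA : A.det = 1) (hB : B.det = 1) (v : Fin 2 → K) (hv : v ≠ 0)
    (hAv : A.mulVec v = v) (hBv : B.mulVec v = v) : A * B = B * A := by
  rw [Matrix.det_fin_two] at hA hB
  have hA0 := congrFun hAv 0
  have hA1 := congrFun hAv 1
  have hB0 := congrFun hBv 0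
  have hB1 := congrFun hBv 1
  simp only [Matrix.mulVec, dotProduct, Fin.sum_univ_two] at hA0 hA1 hB0 hB1
  by_cases hx : v 0 = 0
  · have hy : v 1 ≠ 0 := by
      intro hy
      apply hv
      ext i
      fin_cases i
      · exact hx
      · exact hy
    rw [hx] at hA0 hA1 hB0 hB1
    simp only [mul_zero, zero_add] at hA0 hA1 hB0 hB1
    have a01 : A 0 1 = 0 := by
      rcases mul_eq_zero.mp hA0 with h | h
      · exact h
      · exact absurd h hy
    have b01 : B 0 1 = 0 := by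
      rcases mul_eq_zero.mp hB0 with h | h
      · exact h
      · exact absurd h hy
    have a11 : A 1 1 = 1 := by
      have : (A 1 1 - 1) * v 1 = 0 := by linear_combination hA1
      rcases mul_eq_zero.mp this with h | h
      · exact sub_eq_zero.mp h
      · exact absurd h hy
    have b11 : B 1 1 = 1 := by
      have : (B 1 1 - 1) * v 1 = 0 := by linear_combination hB1
      rcases mul_eq_zero.mp this with h | h
      · exact sub_eq_zero.mp h
      · exact absurd h hy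
    rw [a01, a11] at hA
    rw [b01, b11] at hB
    simp only [mul_one, zero_mul, sub_zero] at hA hB
    ext i j
    fin_cases i <;> fin_cases j <;>
      simp [Matrix.mul_apply, Fin.sum_univ_two, a01, b01, a11, b11, hA, hB] <;> ring
  · obtain ⟨ea, ed, ec⟩ := key_field _ _ _ _ _ _ hx hA0 hA1 hA
    obtain ⟨fa, fd, fc⟩ := key_field _ _ _ _ _ _ hx hB0 hB1 hB
    ext i j
    fin_cases i <;> fin_cases j <;>
      simp only [Matrix.mul_apply, Fin.sum_univ_two, Fin.zero_eta, Fin.mk_one, Fin.isValue,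
        ea, ed, ec, fa, fd, fc] <;> ring

theorem pSubgroup_SL2_comm {p : ℕ} [Fact p.Prime] {K : Type*} [Field K] [Fintype K] [CharP K p]
    (T : Subgroup (Matrix.SpecialLinearGroup (Fin 2) K)) (hT : IsPGroup p T) :
    IsMulCommutative ↥T := by
  classical
  have hpK : p ∣ Fintype.card K :=
    (CharP.cast_eq_zero_iff K p (Fintype.card K)).mp (Nat.cast_card_eq_zero K)
  have hcard : p ∣ Nat.card (Fin 2 → K) := by
    rw [Nat.card_eq_fintype_card, Fintype.card_fun, Fintype.card_fin]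
    exact dvd_pow hpK (by norm_num)
  have h0 : (0 : Fin 2 → K) ∈ MulAction.fixedPoints T (Fin 2 → K) := fun g => smul_zero g
  obtain ⟨v, hv, hv0⟩ :=
    hT.exists_fixed_point_of_prime_dvd_card_of_fixed_point (Fin 2 → K) hcard h0
  refine ⟨⟨fun a b => ?_⟩⟩
  apply Subtype.ext
  apply Subtype.ext
  show (a : Matrix.SpecialLinearGroup (Fin 2) K).1 * (b : Matrix.SpecialLinearGroup (Fin 2) K).1 =
    (b : Matrix.SpecialLinearGroup (Fin 2) K).1 * (a : Matrix.SpecialLinearGroup (Fin 2) K).1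
  exact commute_of_common_fixed _ _ a.1.2 b.1.2 v (Ne.symm hv0) (hv a) (hv b)

theorem pSubgroup_PSL2_comm {p : ℕ} [Fact p.Prime] {K : Type*} [Field K] [Fintype K] [CharP K p]
    (T : Subgroup (Matrix.ProjectiveSpecialLinearGroup (Fin 2) K)) (hT : IsPGroup p T) :
    IsMulCommutative ↥T := by
  classical
  obtain ⟨R, -, hR, hmap⟩ := Cfsg.Agent.S3305.exists_pgroup_lift p
    (QuotientGroup.mk' (Subgroup.center (Matrix.SpecialLinearGroup (Fin 2) K)))
    (QuotientGroup.mk'_surjective _) T hT ⊥ IsPGroup.of_bot (by simp)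
  have := pSubgroup_SL2_comm R hR
  rw [← hmap]
  infer_instance

/-- upper unitriangular 3×3 matrices -/
def UT (p : ℕ) : Subgroup (Matrix.SpecialLinearGroup (Fin 3) (ZMod p)) where
  carrier := {M | M.1 1 0 = 0 ∧ M.1 2 0 = 0 ∧ M.1 2 1 = 0 ∧ M.1 0 0 = 1 ∧ M.1 1 1 = 1 ∧ M.1 2 2 = 1}
  mul_mem' := by
    rintro a b ⟨a1, a2, a3, a4, a5, a6⟩ ⟨b1, b2, b3, b4, b5, b6⟩
    simp only [Set.mem_ofPred_eq, Matrix.SpecialLinearGroup.coe_mul, Matrix.mul_apply,
      Fin.sum_univ_three]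
    simp [a1, a2, a3, a4, a5, a6, b1, b2, b3, b4, b5, b6]
  one_mem' := by
    simp
  inv_mem' := by
    rintro a ⟨a1, a2, a3, a4, a5, a6⟩
    simp only [Set.mem_ofPred_eq, Matrix.SpecialLinearGroup.coe_inv, Matrix.adjugate_fin_three]
    simp [a1, a2, a3, a4, a5, a6]

theorem UT_le_qd (p : ℕ) : UT p ≤ Cfsg.qd p := by
  intro M hM
  exact Subgroup.subset_closure ⟨hM.2.1, hM.2.2.1, hM.2.2.2.2.2⟩

theorem nilp_cube (p : ℕ) (N : Matrix (Fin 3) (Fin 3) (ZMod p))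
    (h00 : N 0 0 = 0) (h10 : N 1 0 = 0) (h11 : N 1 1 = 0) (h20 : N 2 0 = 0) (h21 : N 2 1 = 0)
    (h22 : N 2 2 = 0) : N * N * N = 0 := by
  ext i j
  fin_cases i <;> fin_cases j <;>
    simp [Matrix.mul_apply, Fin.sum_univ_three, h00, h10, h11, h20, h21, h22]

theorem UT_isPGroup (p : ℕ) [Fact p.Prime] (hp : p ≠ 2) : IsPGroup p (UT p) := by
  intro g
  refine ⟨1, ?_⟩
  rw [pow_one]
  obtain ⟨a1, a2, a3, a4, a5, a6⟩ := g.2
  have hp3 : 3 ≤ p := by
    have := (Fact.out : p.Prime).two_le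
    omega
  have key : (g.1.1) ^ p = 1 := by
    have hN : (g.1.1 - 1) * (g.1.1 - 1) * (g.1.1 - 1) = 0 := by
      apply nilp_cube <;> simp [a1, a2, a3, a4, a5, a6]
    have hA : g.1.1 = 1 + (g.1.1 - 1) := by abel
    rw [hA, add_pow_char_of_commute p (Commute.one_left _), one_pow]
    have : (g.1.1 - 1) ^ p = 0 := by
      have h3 : (g.1.1 - 1) ^ 3 = 0 := by rw [pow_succ, pow_two]; exact hN
      rw [← pow_mul_pow_sub _ hp3, h3, zero_mul]
    rw [this, add_zero]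
  apply Subtype.ext
  apply Subtype.ext
  rw [Subgroup.coe_pow, Matrix.SpecialLinearGroup.coe_pow]
  exact key

/-- the elementary matrix `1 + E₀₁` -/
def xEl (p : ℕ) : Matrix.SpecialLinearGroup (Fin 3) (ZMod p) :=
  ⟨!![1, 1, 0; 0, 1, 0; 0, 0, 1], by simp [Matrix.det_fin_three]⟩

/-- the elementary matrix `1 + E₁₂` -/
def yEl (p : ℕ) : Matrix.SpecialLinearGroup (Fin 3) (ZMod p) :=
  ⟨!![1, 0, 0; 0, 1, 1; 0, 0, 1], by simp [Matrix.det_fin_three]⟩

theorem xEl_mem (p : ℕ) : xEl p ∈ UT p := by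
  show (xEl p).1 1 0 = 0 ∧ (xEl p).1 2 0 = 0 ∧ (xEl p).1 2 1 = 0 ∧ (xEl p).1 0 0 = 1 ∧
    (xEl p).1 1 1 = 1 ∧ (xEl p).1 2 2 = 1
  refine ⟨?_, ?_, ?_, ?_, ?_, ?_⟩ <;> simp [xEl]

theorem yEl_mem (p : ℕ) : yEl p ∈ UT p := by
  show (yEl p).1 1 0 = 0 ∧ (yEl p).1 2 0 = 0 ∧ (yEl p).1 2 1 = 0 ∧ (yEl p).1 0 0 = 1 ∧
    (yEl p).1 1 1 = 1 ∧ (yEl p).1 2 2 = 1
  refine ⟨?_, ?_, ?_, ?_, ?_, ?_⟩ <;> simp [yEl]

theorem xy_ne_yx (p : ℕ) [Fact p.Prime] : xEl p * yEl p ≠ yEl p * xEl p := by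
  intro h
  have h1 : (xEl p * yEl p).1 0 2 = (yEl p * xEl p).1 0 2 := by rw [h]
  rw [Matrix.SpecialLinearGroup.coe_mul, Matrix.SpecialLinearGroup.coe_mul] at h1
  simp [xEl, yEl, Matrix.mul_apply, Fin.sum_univ_three] at h1

theorem qd_noncomm_pSubgroup (p : ℕ) [Fact p.Prime] (hp : p ≠ 2) :
    ∃ T : Subgroup ↥(Cfsg.qd p), IsPGroup p T ∧ ¬ IsMulCommutative ↥T := by
  refine ⟨(UT p).subgroupOf (Cfsg.qd p), ?_, ?_⟩
  · exact (UT_isPGroup p hp).comap_of_injective (Cfsg.qd p).subtype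
      (Subgroup.subtype_injective _)
  · intro hc
    have hx : (⟨xEl p, UT_le_qd p (xEl_mem p)⟩ : ↥(Cfsg.qd p)) ∈ (UT p).subgroupOf (Cfsg.qd p) :=
      Subgroup.mem_subgroupOf.mpr (xEl_mem p)
    have hy : (⟨yEl p, UT_le_qd p (yEl_mem p)⟩ : ↥(Cfsg.qd p)) ∈ (UT p).subgroupOf (Cfsg.qd p) :=
      Subgroup.mem_subgroupOf.mpr (yEl_mem p)
    have := hc.is_comm.comm ⟨_, hx⟩ ⟨_, hy⟩
    have h2 := congrArg (fun t : ↥((UT p).subgroupOf (Cfsg.qd p)) =>
      ((t : ↥(Cfsg.qd p)) : Matrix.SpecialLinearGroup (Fin 3) (ZMod p))) this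
    exact xy_ne_yx p h2

theorem result {p : ℕ} [Fact p.Prime] (hp : p ≠ 2) {K : Type*} [Field K] [Fintype K] [CharP K p] : ¬ Cfsg.Involves ↥(Cfsg.qd p) (Matrix.ProjectiveSpecialLinearGroup (Fin 2) K) := by
  classical
  rintro ⟨L, R, hn, ⟨φ⟩⟩
  obtain ⟨T, hT, hTnc⟩ := qd_noncomm_pSubgroup p hp
  let f : ↥L →* ↥(Cfsg.qd p) := φ.toMonoidHom.comp (QuotientGroup.mk' (R.subgroupOf L))
  have hf : Function.Surjective f := φ.surjective.comp (QuotientGroup.mk'_surjective _)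
  obtain ⟨R', -, hR', hmap⟩ := Cfsg.Agent.S3305.exists_pgroup_lift p f hf T hT ⊥
    IsPGroup.of_bot (by simp)
  apply hTnc
  have hcomm : IsMulCommutative ↥(R'.map L.subtype) :=
    pSubgroup_PSL2_comm (R'.map L.subtype) (hR'.map _)
  have hR'c : IsMulCommutative ↥R' := by
    refine ⟨⟨fun a b => ?_⟩⟩
    have ha : L.subtype (a : ↥L) ∈ R'.map L.subtype := Subgroup.mem_map_of_mem _ a.2
    have hb : L.subtype (b : ↥L) ∈ R'.map L.subtype := Subgroup.mem_map_of_mem _ b.2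
    have h1 := hcomm.is_comm.comm ⟨_, ha⟩ ⟨_, hb⟩
    have h2 := congrArg Subtype.val h1
    apply Subtype.ext
    apply Subtype.ext
    exact h2
  rw [← hmap]
  infer_instance

end Cfsg.Agent.S2231
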