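import Cfsg.Statements.S2238
import Cfsg.Agent.Lib.Helper1.SzTm

set_option autoImplicit false
open Cfsg

namespace Cfsg.Agent.S2238

/-- The partition of the Suzuki group: with q = 2^(2m+1), m ≥ 1, r = 2^m and the Suzuki group realised as the stabiliser in SL₄ of the Suzuki–Tits ovoid, every non-identity element lies in exactly one subgroup that is either a Sylow 2-subgroup or a cyclic subgroup of order q − 1, q + 2r + 1 or q − 2r + 1. -/
theorem result {F : Type*} [Field F] [Fintype F] {m : ℕ} (hm : 1 ≤ m) (hF : Fintype.card F = 2 ^ (2 * m + 1)) (g : ↥(Cfsg.Sz F m)) (hg : g ≠ 1) :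
    ∃! U : Subgroup ↥(Cfsg.Sz F m), ((∃ P : Sylow 2 ↥(Cfsg.Sz F m), U = (P : Subgroup ↥(Cfsg.Sz F m))) ∨
      (IsCyclic ↥U ∧ Nat.card ↥U ∈ ({2 ^ (2 * m + 1) - 1, 2 ^ (2 * m + 1) + 2 ^ (m + 1) + 1, 2 ^ (2 * m + 1) - 2 ^ (m + 1) + 1} : Set ℕ))) ∧ g ∈ U := by
  haveI : CharP F 2 := Cfsg.Agent.Lib.Helper14.Sz.charP_two hF
  obtain ⟨N, hN, hoN, hC, hS⟩ := Cfsg.Agent.Lib.Helper1.SzTori.type_of_ne_one hm hF g hg
  have ho1 : orderOf g ≠ 1 := fun e => hg (orderOf_eq_one_iff.mp e)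
  by_cases hsq : N = (2 ^ (2 * m + 1)) ^ 2
  · obtain ⟨P, hP⟩ := hS hsq
    refine ⟨P, ⟨Or.inl ⟨P, rfl⟩, hP⟩, ?_⟩
    rintro U ⟨hU | ⟨hUc, hUn⟩, hgU⟩
    · obtain ⟨P', rfl⟩ := hU
      exact (Cfsg.Agent.Lib.Helper1.SzTori.sylow_unique hm hF g hg P P' hP hgU).symm
    · exfalso
      simp only [Set.mem_insert_iff, Set.mem_singleton_iff] at hUn
      have hoU : orderOf g ∣ Nat.card U := Subgroup.orderOf_dvd_natCard _ hgU
      have := Cfsg.Agent.Lib.Helper1.SzTori.eq_of_common_dvd m _ _ _ ho1 hoN hoU hN (Or.inr hUn)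
      apply Cfsg.Agent.Lib.Helper1.SzTori.sq_ne_odd m _ hUn
      rw [← this, hsq]
  · obtain ⟨hcyc, hcard⟩ := hC hsq
    refine ⟨Subgroup.centralizer ({g} : Set (Cfsg.Sz F m)), ⟨Or.inr ⟨hcyc, ?_⟩,
      Cfsg.Agent.Lib.Helper1.SzTori.self_mem_centralizer g⟩, ?_⟩
    · rw [hcard]
      simp only [Set.mem_insert_iff, Set.mem_singleton_iff]
      rcases hN with h | h
      · exact absurd h hsq
      · exact h
    · rintro U ⟨hU | ⟨hUc, hUn⟩, hgU⟩
      · exfalso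
        obtain ⟨P', rfl⟩ := hU
        have hoU : orderOf g ∣ Nat.card (P' : Subgroup (Cfsg.Sz F m)) :=
          Subgroup.orderOf_dvd_natCard _ hgU
        have hcardP : Nat.card (P' : Subgroup (Cfsg.Sz F m)) = (2 ^ (2 * m + 1)) ^ 2 :=
          Cfsg.Agent.Lib.Helper14.Sz.card_sylow hm hF P'
        exact hsq (Cfsg.Agent.Lib.Helper1.SzTori.eq_of_common_dvd m _ _ _ ho1 hoN
          (by rw [← hcardP]; exact hoU) hN (Or.inl rfl))
      · haveI := hUc
        simp only [Set.mem_insert_iff, Set.mem_singleton_iff] at hUn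
        exact Cfsg.Agent.Lib.Helper1.SzTori.cyclic_unique hm hF g hg U hUn hgU

end Cfsg.Agent.S2238
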