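import Mathlib
import Cfsg.Statements.S2249
import Cfsg.Agent.Lib.Helper10.GLSylowP5

set_option autoImplicit false
open Cfsg

namespace Cfsg.Agent.S2249


/-- The normal 2-rank of the general linear group over a finite field of odd order q: for n ≥ 1 and S a Sylow 2-subgroup of GL_n(F), the largest rank of an elementary abelian subgroup of S that is normal in S equals n when q ≡ 1 (mod 4) and ⌊(n + 1)/2⌋ when q ≡ 3 (mod 4). -/
theorem result {F : Type*} [Field F] [Fintype F] {q : ℕ} (hF : Fintype.card F = q) (hodd : Odd q) (n : ℕ) (hn : 1 ≤ n) (S : Sylow 2 (Matrix.GeneralLinearGroup (Fin n) F)) :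
    (q % 4 = 1 → ((∃ E : Subgroup ↥(S : Subgroup (Matrix.GeneralLinearGroup (Fin n) F)), E.Normal ∧ Cfsg.IsElementaryAbelian 2 E ∧ 2 ^ (n) ≤ Nat.card ↥E) ∧
      ∀ E : Subgroup ↥(S : Subgroup (Matrix.GeneralLinearGroup (Fin n) F)), E.Normal → Cfsg.IsElementaryAbelian 2 E → Nat.card ↥E ≤ 2 ^ (n))) ∧
    (q % 4 = 3 → ((∃ E : Subgroup ↥(S : Subgroup (Matrix.GeneralLinearGroup (Fin n) F)), E.Normal ∧ Cfsg.IsElementaryAbelian 2 E ∧ 2 ^ ((n + 1) / 2) ≤ Nat.card ↥E) ∧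
      ∀ E : Subgroup ↥(S : Subgroup (Matrix.GeneralLinearGroup (Fin n) F)), E.Normal → Cfsg.IsElementaryAbelian 2 E → Nat.card ↥E ≤ 2 ^ ((n + 1) / 2))) := by
  classical
  open Cfsg.Agent.Lib.Helper10.SpSylowP Cfsg.Agent.Lib.Helper10.GLSylowP in
  subst hF
  constructor
  · intro h1
    obtain ⟨-, ⟨E, hEn, hE2, hEc⟩, hup, -⟩ := normal_rank_GL_one h1 n S
    refine ⟨⟨E, hEn, ⟨isMulCommutative_of_sq E hE2, hE2⟩, hEc⟩, ?_⟩
    intro E' hE'n hE'
    exact hup E' hE'n hE'.2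
  · intro h3
    rcases Nat.even_or_odd' n with ⟨m, rfl | rfl⟩
    · have hm : (2 * m + 1) / 2 = m := by omega
      rw [hm]
      obtain ⟨-, ⟨E, hEn, hE2, hEc⟩, hup, -⟩ := normal_rank_GL_three_even h3 m S
      refine ⟨⟨E, hEn, ⟨isMulCommutative_of_sq E hE2, hE2⟩, hEc⟩, ?_⟩
      intro E' hE'n hE'
      exact hup E' hE'n hE'.2
    · have hm : (2 * m + 1 + 1) / 2 = m + 1 := by omega
      rw [hm]
      obtain ⟨-, ⟨E, hEn, hE2, hEc⟩, hup⟩ := normal_rank_GL_three_odd h3 m S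
      refine ⟨⟨E, hEn, ⟨isMulCommutative_of_sq E hE2, hE2⟩, hEc⟩, ?_⟩
      intro E' hE'n hE'
      exact hup E' hE'n hE'.2

end Cfsg.Agent.S2249
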