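import Cfsg.Statements.S2255
import Cfsg.Agent.Lib.Helper23.NilpAlt

set_option autoImplicit false
open Cfsg

namespace Cfsg.Agent.S2255

/-- Let n be a natural number not congruent to 3 modulo 4, with n ∉ {5, 6, 9}. Then every nilpotent subgroup of the alternating group on n letters has order at most the order of a Sylow 2-subgroup of the alternating group (so the nilpotent subgroups of largest order are exactly the Sylow 2-subgroups). -/
theorem result  (n : ℕ) (hn : n % 4 ≠ 3)
    (h5 : n ≠ 5) (h6 : n ≠ 6) (h9 : n ≠ 9)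
    (N : Subgroup (alternatingGroup (Fin n))) (hN : Group.IsNilpotent N)
    (P : Sylow 2 (alternatingGroup (Fin n))) :
    Nat.card N ≤ Nat.card P := by
  classical
  by_cases hn1 : n ≤ 1
  · have h1 : Nat.card N ≤ Nat.card (alternatingGroup (Fin n)) := Subgroup.card_le_card_group N
    have h2 : Nat.card (alternatingGroup (Fin n)) ≤ Nat.card (Equiv.Perm (Fin n)) :=
      Subgroup.card_le_card_group _
    rw [Nat.card_perm, Nat.card_fin] at h2
    have h3 : n.factorial = 1 := by interval_cases n <;> rfl
    have h4 : 0 < Nat.card P := Nat.card_pos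
    omega
  · haveI : Nontrivial (Fin n) := Fin.nontrivial_iff_two_le.mpr (by omega)
    haveI := hN
    have hb := Cfsg.Agent.Lib.Helper23.NilpAlt.boundA n (Fin n) (by simp) N
      ((alternatingGroup (Fin n)).subtype.comp N.subtype)
      ((Subgroup.subtype_injective _).comp (Subgroup.subtype_injective _))
      (fun h => Equiv.Perm.mem_alternatingGroup.mp (h : alternatingGroup (Fin n)).2)
    have hE : Cfsg.Agent.Lib.Helper23.NilpAltArith.E4 n = Cfsg.Agent.Lib.Helper23.NilpBound.G2 n :=
      Cfsg.Agent.Lib.Helper23.NilpAltArith.E4_of_not_exc (by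
        unfold Cfsg.Agent.Lib.Helper23.NilpAltArith.Exc; omega)
    have hG : Cfsg.Agent.Lib.Helper23.NilpBound.G2 n =
        2 * 2 ^ Cfsg.Agent.Lib.Helper23.NilpBound.e n := by
      unfold Cfsg.Agent.Lib.Helper23.NilpBound.G2
      rcases Cfsg.Agent.Lib.Helper23.NilpBound.w_cases n with ⟨h, -⟩ | ⟨-, h⟩
      · exact absurd h hn
      · rw [h]
    have h2 : 2 * Nat.card (alternatingGroup (Fin n)) = n.factorial := by
      rw [two_mul_nat_card_alternatingGroup, Nat.card_perm, Nat.card_fin]
    have hev : Cfsg.Agent.Lib.Helper23.NilpBound.e n =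
        1 + padicValNat 2 (Nat.card (alternatingGroup (Fin n))) := by
      unfold Cfsg.Agent.Lib.Helper23.NilpBound.e
      rw [← h2, padicValNat.mul (by norm_num) (Nat.card_pos.ne')]
      simp
    have hP : Nat.card P = 2 ^ (Cfsg.Agent.Lib.Helper23.NilpBound.e n - 1) := by
      rw [P.card_eq_multiplicity, Nat.factorization_def _ Nat.prime_two]
      congr 1
      omega
    have hpow : 2 ^ Cfsg.Agent.Lib.Helper23.NilpBound.e n =
        2 * 2 ^ (Cfsg.Agent.Lib.Helper23.NilpBound.e n - 1) := by
      rw [← pow_succ']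
      congr 1
      omega
    rw [hP]
    rw [hE, hG, hpow] at hb
    omega

end Cfsg.Agent.S2255
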