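import Cfsg.Statements.S2256
import Cfsg.Agent.Lib.Helper23.NilpAltConj

set_option autoImplicit false
open Cfsg

namespace Cfsg.Agent.S2256

/-- Let n ≡ 3 (mod 4) with n ≥ 7. Then every nilpotent subgroup of the alternating group on n letters has order at most 3 times the order of a Sylow 2-subgroup of the alternating group on n − 3 letters; the bound is attained by a nilpotent subgroup isomorphic to the direct product of such a Sylow 2-subgroup with a cyclic group of order 3; and any two nilpotent subgroups of the alternating group attaining the bound are conjugate in it. -/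
theorem result  (n : ℕ) (hn : n % 4 = 3) (h7 : 7 ≤ n)
    (P : Sylow 2 (alternatingGroup (Fin (n - 3)))) :
    (∀ N : Subgroup (alternatingGroup (Fin n)), Group.IsNilpotent N → Nat.card N ≤ 3 * Nat.card P) ∧
    (∃ M : Subgroup (alternatingGroup (Fin n)), Group.IsNilpotent M ∧ Nat.card M = 3 * Nat.card P ∧
      Nonempty (M ≃* (↥(P : Subgroup (alternatingGroup (Fin (n - 3)))) × Multiplicative (ZMod 3)))) ∧
    (∀ N₁ N₂ : Subgroup (alternatingGroup (Fin n)), Group.IsNilpotent N₁ → Group.IsNilpotent N₂ →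
      Nat.card N₁ = 3 * Nat.card P → Nat.card N₂ = 3 * Nat.card P →
      ∃ g : alternatingGroup (Fin n), N₂ = N₁.map (MulAut.conj g).toMonoidHom) := by
  classical
  haveI : Nontrivial (Fin (n - 3)) := Fin.nontrivial_iff_two_le.mpr (by omega)
  have he1 : 1 ≤ Cfsg.Agent.Lib.Helper23.NilpBound.e (n - 3) := by
    have := Cfsg.Agent.Lib.Helper23.NilpExt.e_mono (show 2 ≤ n - 3 by omega)
    rwa [Cfsg.Agent.Lib.Helper23.NilpBound.e_two] at this
  have hpow : 2 ^ Cfsg.Agent.Lib.Helper23.NilpBound.e (n - 3) =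
      2 * 2 ^ (Cfsg.Agent.Lib.Helper23.NilpBound.e (n - 3) - 1) := by
    rw [← pow_succ']
    congr 1
    omega
  have h2 : 2 * Nat.card (alternatingGroup (Fin (n - 3))) = (n - 3).factorial := by
    rw [two_mul_nat_card_alternatingGroup, Nat.card_perm, Nat.card_fin]
  have hev : Cfsg.Agent.Lib.Helper23.NilpBound.e (n - 3) =
      1 + padicValNat 2 (Nat.card (alternatingGroup (Fin (n - 3)))) := by
    unfold Cfsg.Agent.Lib.Helper23.NilpBound.e
    rw [← h2, padicValNat.mul (by norm_num) (Nat.card_pos.ne')]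
    simp
  have hP : Nat.card P = 2 ^ (Cfsg.Agent.Lib.Helper23.NilpBound.e (n - 3) - 1) := by
    rw [P.card_eq_multiplicity, Nat.factorization_def _ Nat.prime_two]
    congr 1
    omega
  refine ⟨?_, ?_, ?_⟩
  · intro N hN
    haveI := hN
    have hb := Cfsg.Agent.Lib.Helper23.NilpAlt.boundA n (Fin n) (by simp) N
      ((alternatingGroup (Fin n)).subtype.comp N.subtype)
      ((Subgroup.subtype_injective _).comp (Subgroup.subtype_injective _))
      (fun h => Equiv.Perm.mem_alternatingGroup.mp (h : alternatingGroup (Fin n)).2)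
    have hE : Cfsg.Agent.Lib.Helper23.NilpAltArith.E4 n = Cfsg.Agent.Lib.Helper23.NilpBound.G2 n :=
      Cfsg.Agent.Lib.Helper23.NilpAltArith.E4_of_not_exc (by
        unfold Cfsg.Agent.Lib.Helper23.NilpAltArith.Exc; omega)
    rw [hE, Cfsg.Agent.Lib.Helper23.NilpExt.G2_mod4 hn, hpow] at hb
    rw [hP]
    omega
  · exact Cfsg.Agent.Lib.Helper23.NilpAltConj.exists_extremalA n (by omega) P
  · intro N₁ N₂ hN₁ hN₂ h1 h2
    haveI := hN₁
    haveI := hN₂
    rw [hP] at h1 h2
    exact Cfsg.Agent.Lib.Helper23.NilpAltConj.conj_extremalA hn h7 N₁ N₂ h1 h2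

end Cfsg.Agent.S2256
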