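import Cfsg.Statements.S2258
import Cfsg.Agent.Lib.Helper1.SolT9

set_option autoImplicit false
open Cfsg

namespace Cfsg.Agent.S2258

open Cfsg.Agent.Lib.Helper12.SL2 Cfsg.Agent.Lib.Helper1.SolZ1 Cfsg.Agent.Lib.Helper1.SolT4
  Cfsg.Agent.Lib.Helper1.SolT8 Cfsg.Agent.Lib.Helper1.SolT9

/-- Let G = PSL_2(F) with F a field of order q = 3^p, p an odd prime, and for x ∈ G call the solubilizer of x the set of y ∈ G such that x and y generate a solvable subgroup. Then the solubilizer of an involution has q(q + 1) elements; that of an element of order 3 has q(q + 5)/2 elements; that of an element of order neither 1 nor 2 dividing q − 1 has q(q − 1) elements; and that of an element of order neither 1 nor 2 dividing q + 1 has q + 1 elements. -/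
theorem result (p : ℕ) (hp : p.Prime) (hodd : Odd p) {F : Type*} [Field F] [Fintype F]
    (hF : Fintype.card F = 3 ^ p) (x : Matrix.ProjectiveSpecialLinearGroup (Fin 2) F) :
    (orderOf x = 2 → Nat.card {y : Matrix.ProjectiveSpecialLinearGroup (Fin 2) F // Group.IsSolvable ↥(Subgroup.closure ({x, y} : Set (Matrix.ProjectiveSpecialLinearGroup (Fin 2) F)))} = 3 ^ p * (3 ^ p + 1)) ∧
    (orderOf x = 3 → 2 * Nat.card {y : Matrix.ProjectiveSpecialLinearGroup (Fin 2) F // Group.IsSolvable ↥(Subgroup.closure ({x, y} : Set (Matrix.ProjectiveSpecialLinearGroup (Fin 2) F)))} = 3 ^ p * (3 ^ p + 5)) ∧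
    (x ≠ 1 → orderOf x ≠ 2 → orderOf x ∣ 3 ^ p - 1 → Nat.card {y : Matrix.ProjectiveSpecialLinearGroup (Fin 2) F // Group.IsSolvable ↥(Subgroup.closure ({x, y} : Set (Matrix.ProjectiveSpecialLinearGroup (Fin 2) F)))} = 3 ^ p * (3 ^ p - 1)) ∧
    (x ≠ 1 → orderOf x ≠ 2 → orderOf x ∣ 3 ^ p + 1 → Nat.card {y : Matrix.ProjectiveSpecialLinearGroup (Fin 2) F // Group.IsSolvable ↥(Subgroup.closure ({x, y} : Set (Matrix.ProjectiveSpecialLinearGroup (Fin 2) F)))} = 3 ^ p + 1) := by
  classical
  have h3 := three_eq_zero p hp hF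
  have h2 := two_ne_zero' h3
  have hq3 : 3 ∣ Fintype.card F := by rw [hF]; exact dvd_pow_self 3 hp.ne_zero
  have hqodd : Odd (Fintype.card F) := by rw [hF]; exact Odd.pow (by decide)
  have hqpos : 1 ≤ Fintype.card F := Fintype.card_pos
  obtain ⟨x', rfl⟩ := QuotientGroup.mk'_surjective
    (Subgroup.center (Matrix.SpecialLinearGroup (Fin 2) F)) x
  have hT := card_transfer hqodd x'
  obtain ⟨m0, m1, m2, m3⟩ := main3 p hp hodd hF x'
  -- the order of the image divides the order of the torus
  have hdiv := orderOf_pi_dvd x'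
  have hsmall : ∀ n : ℕ, n ∣ Fintype.card F - 1 → n ∣ Fintype.card F + 1 → n = 1 ∨ n = 2 := by
    intro n h1 h1'
    have := Nat.dvd_sub h1' h1
    have e : Fintype.card F + 1 - (Fintype.card F - 1) = 2 := by omega
    rw [e] at this
    exact (Nat.dvd_prime Nat.prime_two).mp this
  refine ⟨?_, ?_, ?_, ?_⟩
  · intro ho
    have := m0 (tr_of_order_two x' ho)
    rw [hT] at this
    have h' : 2 * Nat.card {y : Matrix.ProjectiveSpecialLinearGroup (Fin 2) F // Group.IsSolvable ↥(Subgroup.closure ({QuotientGroup.mk' (Subgroup.center (Matrix.SpecialLinearGroup (Fin 2) F)) x', y} : Set (Matrix.ProjectiveSpecialLinearGroup (Fin 2) F)))} = 2 * (3 ^ p * (3 ^ p + 1)) := by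
      rw [this]; ring
    exact Nat.eq_of_mul_eq_mul_left (by norm_num) h'
  · intro ho
    obtain ⟨hns, htr⟩ := tr_of_order_three x' ho
    have hcases : tr x' = 2 ∨ tr x' = 1 := by
      have : (tr x' - 2) * (tr x' - 1) = 0 := by
        linear_combination htr - tr x' * h3 + h3
      rcases mul_eq_zero.mp this with h | h
      · exact Or.inl (sub_eq_zero.mp h)
      · exact Or.inr (sub_eq_zero.mp h)
    rcases hcases with h | h
    · rw [← hT]
      exact m1 hns h
    · have hT' := card_transfer hqodd (ng x')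
      rw [pi_ng] at hT'
      rw [← hT']
      have hns' : Cfsg.Agent.Lib.Helper12.SL2.NonScalar (ng x') := by
        rw [← pi_ne_one_iff, pi_ng, pi_ne_one_iff]
        exact hns
      refine (main3 p hp hodd hF (ng x')).2.1 hns' ?_
      rw [tr_ng, h]
      linear_combination -h3
  · intro hx1 hx2 hdvd
    rw [← hF] at hdvd
    have hx3 : ¬ 3 ∣ orderOf (QuotientGroup.mk' (Subgroup.center (Matrix.SpecialLinearGroup (Fin 2) F)) x') := by
      intro h
      have := h.trans hdvd
      omega
    obtain ⟨hτ, hΔ⟩ := regular_of_order h3 x' hx1 hx2 hx3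
    have hev : ∃ v : Fin 2 → F, v ≠ 0 ∧ ∃ c : F, x' • v = c • v := by
      by_contra hno
      push Not at hno
      have hE : ∀ (c : F) (v : Fin 2 → F), v ≠ 0 →
          (x' : Matrix (Fin 2) (Fin 2) F).mulVec v ≠ c • v := fun c v hv => hno v hv c
      have hnsq := Cfsg.Agent.Lib.Helper12.SL2.not_isSquare_of_noeig h2 x' hE
      have hcard := (Cfsg.Agent.Lib.Helper12.SL2.card_Tor_of_not_isSquare h2 x' hnsq).1
      rw [hcard] at hdiv
      rcases hsmall _ hdvd hdiv with h | h
      · exact hx1 (orderOf_eq_one_iff.mp h)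
      · exact hx2 h
    have := m2 hΔ hτ hev
    rw [hT] at this
    have h' : 2 * Nat.card {y : Matrix.ProjectiveSpecialLinearGroup (Fin 2) F // Group.IsSolvable ↥(Subgroup.closure ({QuotientGroup.mk' (Subgroup.center (Matrix.SpecialLinearGroup (Fin 2) F)) x', y} : Set (Matrix.ProjectiveSpecialLinearGroup (Fin 2) F)))} = 2 * (3 ^ p * (3 ^ p - 1)) := by
      rw [this]; ring
    exact Nat.eq_of_mul_eq_mul_left (by norm_num) h'
  · intro hx1 hx2 hdvd
    rw [← hF] at hdvd
    have hx3 : ¬ 3 ∣ orderOf (QuotientGroup.mk' (Subgroup.center (Matrix.SpecialLinearGroup (Fin 2) F)) x') := by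
      intro h
      have := h.trans hdvd
      omega
    obtain ⟨hτ, hΔ⟩ := regular_of_order h3 x' hx1 hx2 hx3
    have hno : ∀ v : Fin 2 → F, v ≠ 0 → ∀ c : F, x' • v ≠ c • v := by
      intro v hv c hc
      have hcard := (Cfsg.Agent.Lib.Helper12.SL2.card_Tor_of_eigen h2 x' hΔ v hv c hc).1
      rw [hcard] at hdiv
      rcases hsmall _ hdiv hdvd with h | h
      · exact hx1 (orderOf_eq_one_iff.mp h)
      · exact hx2 h
    have := m3 hΔ hτ hno
    rw [hT] at this
    exact Nat.eq_of_mul_eq_mul_left (by norm_num) this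

end Cfsg.Agent.S2258
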