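import Mathlib
import Cfsg.Statements.S2260

set_option autoImplicit false
open Cfsg

namespace Cfsg.Agent.S2260

lemma nilp_pow_card {F : Type*} [Field F] {d : ℕ} (N : Matrix (Fin d) (Fin d) F)
    (hN : IsNilpotent N) : N ^ d = 0 := by
  have h1 := Matrix.isNilpotent_charpoly_sub_pow_of_isNilpotent hN
  have h2 : N.charpoly - Polynomial.X ^ (Fintype.card (Fin d)) = 0 := h1.eq_zero
  have h3 : N.charpoly = Polynomial.X ^ d := by simpa [sub_eq_zero] using h2
  have := Matrix.aeval_self_charpoly N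
  rw [h3] at this
  simpa using this

lemma pow_char_pow {F : Type*} [Field F] (p : ℕ) [Fact p.Prime] [CharP F p] {d : ℕ} (hd : 0 < d)
    (u : GL (Fin d) F) (j : ℕ) :
    ((u ^ (p ^ j) : GL (Fin d) F) : Matrix (Fin d) (Fin d) F) =
      1 + ((u : Matrix (Fin d) (Fin d) F) - 1) ^ (p ^ j) := by
  have : Nonempty (Fin d) := ⟨⟨0, hd⟩⟩
  have hc : Commute (1 : Matrix (Fin d) (Fin d) F) ((u : Matrix (Fin d) (Fin d) F) - 1) :=
    Commute.one_left _
  have := add_pow_char_pow_of_commute (p := p) (n := j) hc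
  rw [one_pow, add_sub_cancel] at this
  rw [← this]
  simp

/-- Let F be a finite field of prime characteristic p and u an invertible d × d matrix over F with u − 1 nilpotent (a unipotent element). Then the order of u is at most p^⌈log_p d⌉; and if moreover (u − 1)^(d−1) ≠ 0 (u is a single Jordan block) then the order of u is exactly p^⌈log_p d⌉. -/
theorem result {F : Type*} [Field F] [Finite F] (p : ℕ) [Fact p.Prime] [CharP F p] (d : ℕ)
    (u : GL (Fin d) F) (hu : IsNilpotent ((u : Matrix (Fin d) (Fin d) F) - 1)) :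
    orderOf u ≤ p ^ Nat.clog p d ∧
    (((u : Matrix (Fin d) (Fin d) F) - 1) ^ (d - 1) ≠ 0 → orderOf u = p ^ Nat.clog p d) := by
  have hp : p.Prime := Fact.out
  rcases Nat.eq_zero_or_pos d with rfl | hd
  · have hu1 : u = 1 := Subsingleton.elim _ _
    subst hu1
    simp
  have hNd := nilp_pow_card _ hu
  set N := (u : Matrix (Fin d) (Fin d) F) - 1 with hN
  have hle : d ≤ p ^ Nat.clog p d := Nat.le_pow_clog hp.one_lt d
  have hNk : N ^ (p ^ Nat.clog p d) = 0 := by
    rw [← Nat.sub_add_cancel hle, pow_add, hNd, mul_zero]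
  have hpow : u ^ (p ^ Nat.clog p d) = 1 := by
    apply Units.ext
    rw [pow_char_pow p hd u, ← hN, hNk]
    simp
  have hdvd : orderOf u ∣ p ^ Nat.clog p d := orderOf_dvd_of_pow_eq_one hpow
  refine ⟨Nat.le_of_dvd (pow_pos hp.pos _) hdvd, fun hne => ?_⟩
  obtain ⟨j, hj, hju⟩ := (Nat.dvd_prime_pow hp).1 hdvd
  rcases lt_or_eq_of_le hj with hlt | heq
  · exfalso
    have h1 : p ^ j < d := Nat.pow_lt_of_lt_clog hlt
    have h2 : u ^ (p ^ j) = 1 := by rw [← hju]; exact pow_orderOf_eq_one u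
    have h3 := pow_char_pow p hd u j
    rw [h2, ← hN] at h3
    have h4 : N ^ (p ^ j) = 0 := by
      have : (1 : Matrix (Fin d) (Fin d) F) = 1 + N ^ (p ^ j) := by simpa using h3
      simpa using this.symm
    apply hne
    have h5 : p ^ j ≤ d - 1 := by omega
    rw [← Nat.add_sub_cancel' h5, pow_add, h4, zero_mul]
  · rw [hju, heq]

end Cfsg.Agent.S2260
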