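import Mathlib
import Cfsg.Statements.S2268

set_option autoImplicit false
open Cfsg

namespace Cfsg.Agent.S2268

open Subgroup MulAction in
/-- Let G be a finite group with an abelian Sylow p-subgroup P and let Q ≤ P. Then N_G(Q) = (N_G(Q) ∩ N_G(P))·C_G(Q), so that N_G(Q)/C_G(Q) is a homomorphic image of the subgroup (N_G(Q) ∩ N_G(P))/C_G(P) of N_G(P)/C_G(P); in particular the order of N_G(Q)/C_G(Q) divides the order of N_G(P)/C_G(P). -/
theorem result {G : Type*} [Group G] [Finite G] {p : ℕ} [Fact p.Prime]
    (P : Sylow p G) (hP : IsMulCommutative (P : Subgroup G)) (Q : Subgroup G) (hQ : Q ≤ (P : Subgroup G)) :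
    Subgroup.normalizer (Q : Set G) =
      (Subgroup.normalizer (Q : Set G) ⊓ Subgroup.normalizer ((P : Subgroup G) : Set G)) ⊔ Subgroup.centralizer (Q : Set G) ∧
    ((Subgroup.centralizer (Q : Set G)).subgroupOf (Subgroup.normalizer (Q : Set G))).index ∣ ((Subgroup.centralizer ((P : Subgroup G) : Set G)).subgroupOf (Subgroup.normalizer ((P : Subgroup G) : Set G))).index := by
  have hcomm : ∀ x ∈ (P : Subgroup G), ∀ y ∈ (P : Subgroup G), x * y = y * x := by
    intro x hx y hy
    have := hP.is_comm.comm ⟨x, hx⟩ ⟨y, hy⟩
    exact congrArg Subtype.val this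
  have h1 : (P : Subgroup G) ≤ centralizer (Q : Set G) := by
    intro x hx q hq
    exact hcomm q (hQ hq) x hx
  have part1 : Subgroup.normalizer (Q : Set G) =
      (Subgroup.normalizer (Q : Set G) ⊓ Subgroup.normalizer ((P : Subgroup G) : Set G)) ⊔
        Subgroup.centralizer (Q : Set G) := by
    apply le_antisymm
    · intro g hg
      have h2 : ↑(g • P) ≤ centralizer (Q : Set G) := by
        rintro - ⟨z, hz, rfl⟩ q hq
        -- z ∈ P, element is g z g⁻¹
        have hq' : g⁻¹ * q * g ∈ Q := (mem_set_normalizer_iff''.mp hg q).mp hq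
        have := hcomm (g⁻¹ * q * g) (hQ hq') z hz
        simp only [MulDistribMulAction.toMonoidEnd_apply, MulDistribMulAction.toMonoidHom_apply,
          MulAut.smul_def, MulAut.conj_apply]
        calc q * (g * z * g⁻¹) = g * ((g⁻¹ * q * g) * z) * g⁻¹ := by group
          _ = g * (z * (g⁻¹ * q * g)) * g⁻¹ := by rw [this]
          _ = g * z * g⁻¹ * q := by group
      obtain ⟨h, hh⟩ :=
        exists_smul_eq (centralizer (Q : Set G)) ((g • P).subtype h2) (P.subtype h1)
      simp_rw [Sylow.smul_subtype, Subgroup.smul_def, smul_smul] at hh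
      have hn : (h : G) * g ∈ normalizer ((P : Subgroup G) : Set G) :=
        Sylow.smul_eq_iff_mem_normalizer.mp (Sylow.subtype_injective hh)
      have hnQ : (h : G) * g ∈ normalizer (Q : Set G) :=
        mul_mem (centralizer_le_normalizer _ h.2) hg
      have : g = (h : G)⁻¹ * ((h : G) * g) := by group
      rw [this, sup_comm]
      exact Subgroup.mul_mem_sup (inv_mem h.2) ⟨hnQ, hn⟩
    · exact sup_le inf_le_left (centralizer_le_normalizer _)
  refine ⟨part1, ?_⟩
  change (centralizer (Q : Set G)).relIndex (normalizer (Q : Set G)) ∣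
    (centralizer ((P : Subgroup G) : Set G)).relIndex (normalizer ((P : Subgroup G) : Set G))
  set A := Subgroup.normalizer (Q : Set G) ⊓ Subgroup.normalizer ((P : Subgroup G) : Set G) with hA
  have hNC : normalizer (Q : Set G) ≤ normalizer ((centralizer (Q : Set G) : Subgroup G) : Set G) :=
    (normal_subgroupOf_iff_le_normalizer (centralizer_le_normalizer _)).mp
      (normal_subgroupOf_centralizer_normalizer _)
  have hLE : A ≤ normalizer ((centralizer (Q : Set G) : Subgroup G) : Set G) :=
    inf_le_left.trans hNC
  have c1 : (centralizer (Q : Set G)).relIndex (normalizer (Q : Set G)) =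
      (centralizer (Q : Set G)).relIndex A := by
    conv_lhs => rw [part1]
    have := Subgroup.normal_subgroupOf_of_le_normalizer hLE
    have := Subgroup.normal_subgroupOf_sup_of_le_normalizer hLE
    exact Nat.card_congr
      (QuotientGroup.quotientInfEquivProdNormalizerQuotient A _ hLE).toEquiv.symm
  have hCP : centralizer ((P : Subgroup G) : Set G) ≤ centralizer (Q : Set G) :=
    centralizer_le hQ
  have c3 : centralizer ((P : Subgroup G) : Set G) ≤ centralizer (Q : Set G) ⊓ A := by
    refine le_inf hCP (le_inf ?_ (centralizer_le_normalizer _))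
    exact hCP.trans (centralizer_le_normalizer _)
  rw [c1, ← inf_relIndex_right]
  refine (relIndex_dvd_of_le_left A c3).trans ?_
  have hAN : A ≤ normalizer ((P : Subgroup G) : Set G) := inf_le_right
  have := relIndex_mul_relIndex (centralizer ((P : Subgroup G) : Set G)) A
    (normalizer ((P : Subgroup G) : Set G)) (c3.trans inf_le_right) hAN
  exact Dvd.intro _ this

end Cfsg.Agent.S2268
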