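import Cfsg.Statements.S2269
import Cfsg.Agent.Lib.Helper23.NCEven

set_option autoImplicit false
open Cfsg

namespace Cfsg.Agent.S2269

/-- Let n ≥ 5 and let P be an abelian Sylow p-subgroup of the alternating group A_n. Then N(P)/C(P) (taken in A_n) has even order, or P is cyclic, except when n = 5 and p = 2, where P is a four-group and N(P)/C(P) has order 3. -/
theorem result (n : ℕ) (hn : 5 ≤ n) {p : ℕ} [Fact p.Prime]
    (P : Sylow p (alternatingGroup (Fin n))) (hP : IsMulCommutative (P : Subgroup (alternatingGroup (Fin n)))) :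
    (¬ (n = 5 ∧ p = 2) → 2 ∣ ((Subgroup.centralizer ((P : Subgroup (alternatingGroup (Fin n))) : Set (alternatingGroup (Fin n)))).subgroupOf (Subgroup.normalizer ((P : Subgroup (alternatingGroup (Fin n))) : Set (alternatingGroup (Fin n))))).index ∨ IsCyclic (P : Subgroup (alternatingGroup (Fin n)))) ∧
    ((n = 5 ∧ p = 2) → ((Subgroup.centralizer ((P : Subgroup (alternatingGroup (Fin n))) : Set (alternatingGroup (Fin n)))).subgroupOf (Subgroup.normalizer ((P : Subgroup (alternatingGroup (Fin n))) : Set (alternatingGroup (Fin n))))).index = 3 ∧ IsKleinFour (P : Subgroup (alternatingGroup (Fin n)))) := by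
  haveI := hP
  constructor
  · intro hne
    by_cases h2p : n < 2 * p
    · right
      exact Cfsg.Agent.Lib.Helper23.NCEven.isCyclic_of_lt n h2p P
    · have h2p' : 2 * p ≤ n := Nat.le_of_not_lt h2p
      by_cases hp2 : p = 2
      · subst hp2
        exfalso
        have hn6 : 6 ≤ n := by
          have : n ≠ 5 := fun h => hne ⟨h, rfl⟩
          omega
        exact Cfsg.Agent.Lib.Helper23.NCEven.not_comm_two n hn6 P
      · left
        have hp2' : 2 ≤ p := (Fact.out : p.Prime).two_le
        exact Cfsg.Agent.Lib.Helper23.NCEven.two_dvd_index_alt n hp2 (by omega) P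
  · rintro ⟨rfl, rfl⟩
    exact Cfsg.Agent.Lib.Helper23.NCEven.a5_case P

end Cfsg.Agent.S2269
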