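import Cfsg.Statements.S2270

set_option autoImplicit false
open Cfsg

namespace Cfsg.Agent.S2270

/-- Let n ≥ 3, p an odd prime, and P an abelian Sylow p-subgroup of the symmetric group S_n (with p dividing n!, so that P ≠ 1). Then N(P)/C(P) has even order. -/
theorem result (n : ℕ) (hn : 3 ≤ n) {p : ℕ} [Fact p.Prime] (hp : p ≠ 2) (hpn : p ≤ n)
    (P : Sylow p (Equiv.Perm (Fin n))) (hP : IsMulCommutative (P : Subgroup (Equiv.Perm (Fin n)))) :
    2 ∣ ((Subgroup.centralizer ((P : Subgroup (Equiv.Perm (Fin n))) : Set (Equiv.Perm (Fin n)))).subgroupOf (Subgroup.normalizer ((P : Subgroup (Equiv.Perm (Fin n))) : Set (Equiv.Perm (Fin n))))).index := by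
  classical
  have hpp : p.Prime := Fact.out
  -- p ∣ |S_n|
  have hdvd : p ∣ Nat.card (Equiv.Perm (Fin n)) := by
    rw [Nat.card_eq_fintype_card, Fintype.card_perm, Fintype.card_fin]
    exact (Nat.Prime.dvd_factorial hpp).mpr hpn
  have hdvdP : p ∣ Nat.card (P : Subgroup (Equiv.Perm (Fin n))) := P.dvd_card_of_dvd_card hdvd
  obtain ⟨⟨x, hxP⟩, hx⟩ := exists_prime_orderOf_dvd_card' p hdvdP
  have hxo : orderOf x = p := by
    rw [← hx]; exact (Subgroup.orderOf_mk x hxP).symm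
  -- x is conjugate to x⁻¹
  have hconj : IsConj x x⁻¹ := by
    rw [Equiv.Perm.isConj_iff_cycleType_eq, Equiv.Perm.cycleType_inv]
  obtain ⟨g, hg⟩ := isConj_iff.mp hconj
  haveI := hP
  obtain ⟨m, hmN, hm⟩ := P.conj_eq_normalizer_conj_of_mem x g⁻¹ hxP
    (by rw [inv_inv, hg]; exact inv_mem hxP)
  have hmx : m⁻¹ * x * m = x⁻¹ := by rw [← hm, inv_inv, hg]
  -- m² commutes with x
  have hm2 : Commute (m ^ 2) x := by
    have h1 : m⁻¹ * x⁻¹ * m = x := by
      have := congrArg (fun y => y⁻¹) hmx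
      simpa [mul_assoc] using this
    have h2 : (m ^ 2)⁻¹ * x * m ^ 2 = x := by
      calc (m ^ 2)⁻¹ * x * m ^ 2 = m⁻¹ * (m⁻¹ * x * m) * m := by
            simp [pow_two, mul_assoc]
        _ = x := by rw [hmx, h1]
    unfold Commute SemiconjBy
    calc m ^ 2 * x = m ^ 2 * ((m ^ 2)⁻¹ * x * m ^ 2) := by rw [h2]
      _ = x * m ^ 2 := by simp [mul_assoc]
  set N := Subgroup.normalizer ((P : Subgroup (Equiv.Perm (Fin n))) : Set (Equiv.Perm (Fin n)))
    with hN
  set K := (Subgroup.centralizer ((P : Subgroup (Equiv.Perm (Fin n))) :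
    Set (Equiv.Perm (Fin n)))).subgroupOf N with hK
  haveI : K.Normal := Subgroup.normal_subgroupOf_centralizer_normalizer _
  have hidx : K.index = Nat.card (N ⧸ K) := Subgroup.index_eq_card K
  rw [hidx]
  let mbar : N ⧸ K := ((⟨m, hmN⟩ : N) : N ⧸ K)
  refine dvd_trans ?_ (orderOf_dvd_natCard mbar)
  by_contra h2
  have hodd : Odd (orderOf mbar) := by
    rcases Nat.even_or_odd (orderOf mbar) with he | ho
    · exact absurd (even_iff_two_dvd.mp he) h2
    · exact ho
  obtain ⟨j, hj⟩ := hodd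
  have hpow : mbar ^ (2 * j + 1) = 1 := by rw [← hj]; exact pow_orderOf_eq_one mbar
  have hmem : (⟨m, hmN⟩ : N) ^ (2 * j + 1) ∈ K := by
    rw [← QuotientGroup.eq_one_iff, QuotientGroup.mk_pow]
    exact hpow
  have hmem' : m ^ (2 * j + 1) ∈ Subgroup.centralizer
      ((P : Subgroup (Equiv.Perm (Fin n))) : Set (Equiv.Perm (Fin n))) := by
    have := Subgroup.mem_subgroupOf.mp hmem
    simpa using this
  have hc : Commute (m ^ (2 * j + 1)) x := by
    have := Subgroup.mem_centralizer_iff.mp hmem' x hxP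
    exact this.symm
  -- but m^(2j+1) = (m^2)^j * m
  have hc' : Commute m x := by
    have h3 : Commute ((m ^ 2) ^ j) x := hm2.pow_left j
    have h4 : m ^ (2 * j + 1) = (m ^ 2) ^ j * m := by rw [pow_succ, pow_mul]
    rw [h4] at hc
    -- (a * m) x = x (a * m), a x = x a ⇒ m x = x m
    unfold Commute SemiconjBy at hc h3 ⊢
    have : (m ^ 2) ^ j * (m * x) = (m ^ 2) ^ j * (x * m) := by
      rw [← mul_assoc, hc, ← mul_assoc, ← h3, mul_assoc]
    exact mul_left_cancel this
  have hxx : x = x⁻¹ := by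
    rw [← hmx]
    unfold Commute SemiconjBy at hc'
    rw [mul_assoc, ← hc']; simp
  have hx2 : x ^ 2 = 1 := by
    rw [pow_two]; nth_rewrite 1 [hxx]; simp
  have : p ∣ 2 := by rw [← hxo]; exact orderOf_dvd_of_pow_eq_one hx2
  exact hp ((Nat.prime_dvd_prime_iff_eq hpp Nat.prime_two).mp this)

end Cfsg.Agent.S2270
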