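import Cfsg.Statements.S2277
import Mathlib
import Cfsg.Agent.Lib.Helper13.Coprime
import Cfsg.Agent.Lib.Helper13.CoprimeSylow
import Cfsg.Agent.Lib.Helper2.Cores

set_option autoImplicit false
open Cfsg
open scoped commutatorElement

namespace Cfsg.Agent.S2277

universe u

/-- the general statement, for induction over all finite groups -/
def T (G : Type u) [Group G] : Prop :=
  ∀ (p : ℕ) [Fact p.Prime], 3 ≤ p → ∀ (P N : Subgroup G), IsPGroup p P → N.Normal →
  (Nat.card N).Coprime p →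
  ∀ (C D : Set G), Subgroup.closure C = P → Subgroup.closure D = P →
  (∀ x ∈ N, ∀ c ∈ C, ∀ d ∈ D, IsPGroup p ↥(Subgroup.closure ({x * c * x⁻¹, d} : Set G))) →
  ∀ g ∈ P, ∀ x ∈ N, g * x = x * g

theorem card_lt_of_ne_top {G : Type*} [Group G] [Finite G] {K : Subgroup G} (hK : K ≠ ⊤) :
    Nat.card K < Nat.card G := by
  by_contra hge
  exact hK (Subgroup.eq_top_of_le_card K (not_lt.mp hge))

theorem card_quot_lt {G : Type*} [Group G] [Finite G] {M : Subgroup G} [M.Normal] (hM : M ≠ ⊥) :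
    Nat.card (G ⧸ M) < Nat.card G := by
  have hMcard : 1 < Nat.card M := M.one_lt_card_iff_ne_bot.mpr hM
  rw [← Subgroup.card_mul_index M, ← Subgroup.index_eq_card]
  have : 0 < M.index := Nat.pos_of_ne_zero Subgroup.index_ne_zero_of_finite
  nlinarith

/-- transfer to a subgroup containing `P` -/
theorem TS {G : Type u} [Group G] [Finite G] (H : Subgroup G) (hT : T ↥H) {p : ℕ} [Fact p.Prime]
    (hp3 : 3 ≤ p) (P N : Subgroup G) (hP : IsPGroup p P) [hNn : N.Normal]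
    (hN : (Nat.card N).Coprime p) (C D : Set G) (hC : Subgroup.closure C = P)
    (hD : Subgroup.closure D = P)
    (hH : ∀ x ∈ N, ∀ c ∈ C, ∀ d ∈ D,
      IsPGroup p ↥(Subgroup.closure ({x * c * x⁻¹, d} : Set G)))
    (hPH : P ≤ H) : ∀ g ∈ P, ∀ x ∈ N, x ∈ H → g * x = x * g := by
  intro g hg x hx hxH
  have hCP : C ⊆ (H : Set G) := by
    intro c hc
    apply hPH
    rw [← hC]; exact Subgroup.subset_closure hc
  have hDP : D ⊆ (H : Set G) := by
    intro c hc
    apply hPH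
    rw [← hD]; exact Subgroup.subset_closure hc
  have hrange : Set.range (H.subtype) = (H : Set G) := by
    rw [Subgroup.coe_subtype]; exact Subtype.range_coe
  have hcl : ∀ E : Set G, E ⊆ (H : Set G) → Subgroup.closure E = P →
      Subgroup.closure (H.subtype ⁻¹' E) = P.subgroupOf H := by
    intro E hE hEP
    apply Subgroup.map_injective H.subtype_injective
    rw [MonoidHom.map_closure, Subgroup.subgroupOf_map_subtype,
      Set.image_preimage_eq_of_subset (by rw [hrange]; exact hE), hEP, inf_of_le_left hPH]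
  have hcop : (Nat.card (N.subgroupOf H)).Coprime p := by
    have h1 : Nat.card (N.subgroupOf H) = Nat.card (N ⊓ H : Subgroup G) := by
      rw [← Subgroup.subgroupOf_map_subtype,
        Subgroup.card_map_of_injective H.subtype_injective]
    rw [h1]
    exact Nat.Coprime.coprime_dvd_left (Subgroup.card_dvd_of_le inf_le_left) hN
  have key := hT p hp3 (P.subgroupOf H) (N.subgroupOf H) hP.comap_subtype inferInstance hcop
    (H.subtype ⁻¹' C) (H.subtype ⁻¹' D) (hcl C hCP hC) (hcl D hDP hD) ?_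
    ⟨g, hPH hg⟩ hg ⟨x, hxH⟩ hx
  · exact congrArg Subtype.val key
  · intro x' hx' c' hc' d' hd'
    have h1 : IsPGroup p ↥((Subgroup.closure ({x' * c' * x'⁻¹, d'} : Set ↥H)).map H.subtype) := by
      rw [MonoidHom.map_closure, Set.image_pair]
      exact hH x' hx' c' hc' d' hd'
    exact h1.of_equiv (Subgroup.equivMapOfInjective _ _ H.subtype_injective).symm

/-- transfer to a quotient -/
theorem TQ {G : Type u} [Group G] [Finite G] (M : Subgroup G) [M.Normal] (hT : T (G ⧸ M))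
    {p : ℕ} [Fact p.Prime]
    (hp3 : 3 ≤ p) (P N : Subgroup G) (hP : IsPGroup p P) [hNn : N.Normal]
    (hN : (Nat.card N).Coprime p) (C D : Set G) (hC : Subgroup.closure C = P)
    (hD : Subgroup.closure D = P)
    (hH : ∀ x ∈ N, ∀ c ∈ C, ∀ d ∈ D,
      IsPGroup p ↥(Subgroup.closure ({x * c * x⁻¹, d} : Set G))) :
    ∀ g ∈ P, ∀ x ∈ N, g * x * g⁻¹ * x⁻¹ ∈ M := by
  intro g hg x hx
  have hπs := QuotientGroup.mk'_surjective M
  have hcop : (Nat.card (N.map (QuotientGroup.mk' M))).Coprime p :=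
    Nat.Coprime.coprime_dvd_left (Subgroup.card_map_dvd _ _) hN
  have key := hT p hp3 (P.map (QuotientGroup.mk' M)) (N.map (QuotientGroup.mk' M))
    (hP.map _) (Subgroup.Normal.map hNn _ hπs) hcop
    ((QuotientGroup.mk' M) '' C) ((QuotientGroup.mk' M) '' D)
    (by rw [← MonoidHom.map_closure, hC]) (by rw [← MonoidHom.map_closure, hD]) ?_
    (QuotientGroup.mk' M g) (Subgroup.mem_map_of_mem _ hg)
    (QuotientGroup.mk' M x) (Subgroup.mem_map_of_mem _ hx)
  · rw [← QuotientGroup.eq_one_iff]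
    have h1 : ((g * x * g⁻¹ * x⁻¹ : G) : G ⧸ M) =
        (QuotientGroup.mk' M g) * (QuotientGroup.mk' M x) * (QuotientGroup.mk' M g)⁻¹ *
          (QuotientGroup.mk' M x)⁻¹ := by
      simp
    rw [h1, key]; group
  · rintro _ ⟨x', hx', rfl⟩ _ ⟨c', hc', rfl⟩ _ ⟨d', hd', rfl⟩
    have h1 := (hH x' hx' c' hc' d' hd').map (QuotientGroup.mk' M)
    rw [MonoidHom.map_closure, Set.image_pair, map_mul, map_mul, map_inv] at h1
    exact h1

/-- independence of three "eigenspaces" -/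
theorem indep3 {V : Type*} [CommGroup V] (c s : V →* V) (hcs : ∀ v, c (s v) = s (c v))
    (hinj : Function.Injective s)
    (hs1 : ∀ v, s v = v → v = 1) (hs2 : ∀ v, s (s v) = v → v = 1)
    (y0 y1 y2 : V) (h0 : c y0 = y0) (h1 : c y1 = s y1) (h2 : c y2 = s (s y2))
    (hrel : y0 * y1 * y2 = 1) : y0 = 1 ∧ y1 = 1 ∧ y2 = 1 := by
  have R1 : y0 * s y1 * s (s y2) = 1 := by
    have := congrArg c hrel
    rwa [map_mul, map_mul, map_one, h0, h1, h2] at this
  have E1 : y1 * y2 = s y1 * s (s y2) := by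
    have e1 : y1 * y2 = y0⁻¹ := eq_inv_of_mul_eq_one_right (by rw [← mul_assoc]; exact hrel)
    have e2 : s y1 * s (s y2) = y0⁻¹ := eq_inv_of_mul_eq_one_right (by rw [← mul_assoc]; exact R1)
    rw [e1, e2]
  have sE1 : s y1 * s y2 = s (s y1) * s (s (s y2)) := by
    have := congrArg s E1
    rwa [map_mul, map_mul] at this
  have E2 : s y1 * s (s y2) = s (s y1) * s (s (s (s y2))) := by
    have := congrArg c E1
    rw [map_mul, map_mul, h1, h2, hcs, h1, hcs, hcs, h2] at this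
    exact this
  have hkey : s (s (s y2)) * s (s y2) = s (s (s (s y2))) * s y2 := by
    have h : s (s y1) * (s (s (s y2)) * s (s y2)) = s (s y1) * (s (s (s (s y2))) * s y2) := by
      calc s (s y1) * (s (s (s y2)) * s (s y2))
          = (s (s y1) * s (s (s y2))) * s (s y2) := by rw [mul_assoc]
        _ = (s y1 * s y2) * s (s y2) := by rw [sE1]
        _ = (s y1 * s (s y2)) * s y2 := by rw [mul_right_comm]
        _ = (s (s y1) * s (s (s (s y2)))) * s y2 := by rw [E2]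
        _ = s (s y1) * (s (s (s (s y2))) * s y2) := by rw [mul_assoc]
    exact mul_left_cancel h
  have ht : s (s (s (s y2)) / s y2) = s (s (s y2)) / s y2 := by
    rw [map_div, div_eq_div_iff_mul_eq_mul]
    exact hkey.symm
  have ht1 := hs1 _ ht
  rw [div_eq_one] at ht1
  have hy2 : y2 = 1 := hs2 _ (hinj ht1)
  have hy1 : y1 = 1 := by
    apply hs1
    rw [hy2, map_one, map_one, mul_one, mul_one] at E1
    exact E1.symm
  refine ⟨?_, hy1, hy2⟩
  rw [hy1, hy2, mul_one, mul_one] at hrel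
  exact hrel

theorem indep3' {V : Type*} [inst : Group V] (hcomm : ∀ a b : V, a * b = b * a) (c s : V →* V)
    (hcs : ∀ v, c (s v) = s (c v))
    (hinj : Function.Injective s)
    (hs1 : ∀ v, s v = v → v = 1) (hs2 : ∀ v, s (s v) = v → v = 1)
    (y0 y1 y2 : V) (h0 : c y0 = y0) (h1 : c y1 = s y1) (h2 : c y2 = s (s y2))
    (hrel : y0 * y1 * y2 = 1) : y0 = 1 ∧ y1 = 1 ∧ y2 = 1 := by
  letI : CommGroup V := { inst with mul_comm := hcomm }
  exact indep3 c s hcs hinj hs1 hs2 y0 y1 y2 h0 h1 h2 hrel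

theorem rearr {V : Type*} [CommGroup V] (a b c d e f : V) (h : a * b * c = d * e * f) :
    (a * d⁻¹) * (b * e⁻¹) * (c * f⁻¹) = 1 := by
  have h1 : (a * d⁻¹) * (b * e⁻¹) * (c * f⁻¹) = (a * b * c) * (d * e * f)⁻¹ := by
    simp only [mul_inv]; ac_rfl
  rw [h1, h, mul_inv_cancel]

theorem rearr' {V : Type*} [inst : Group V] (hcomm : ∀ a b : V, a * b = b * a)
    (a b c d e f : V) (h : a * b * c = d * e * f) :
    (a * d⁻¹) * (b * e⁻¹) * (c * f⁻¹) = 1 := by
  letI : CommGroup V := { inst with mul_comm := hcomm }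
  exact rearr a b c d e f h

theorem bound3 {G : Type*} [Group G] [Finite G] (N : Subgroup G) [hNn : N.Normal]
    (hab : ∀ x ∈ N, ∀ y ∈ N, x * y = y * x) (a c z : G)
    (h1 : a * c * a⁻¹ = z * c) (h2 : z * c = c * z) (h3 : z * a = a * z)
    (f1 : ∀ v ∈ N, z * v = v * z → v = 1) (f2 : ∀ v ∈ N, z ^ 2 * v = v * z ^ 2 → v = 1) :
    (Nat.card ↥(N ⊓ Subgroup.centralizer ({c} : Set G))) ^ 3 ≤ Nat.card N := by
  classical
  have hcomm : ∀ x y : ↥N, x * y = y * x := fun x y => Subtype.ext (hab x x.2 y y.2)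
  let cj : G → (↥N →* ↥N) := fun g => (MulAut.conjNormal g : MulAut ↥N).toMonoidHom
  have hcj : ∀ (g : G) (v : ↥N), ((cj g v : ↥N) : G) = g * v * g⁻¹ :=
    fun g v => MulAut.conjNormal_apply g v
  have hcjinj : ∀ g, Function.Injective (cj g) :=
    fun g => (MulAut.conjNormal g : MulAut ↥N).injective
  have hcz : c * z⁻¹ = z⁻¹ * c := by
    calc c * z⁻¹ = z⁻¹ * (z * c) * z⁻¹ := by group
      _ = z⁻¹ * (c * z) * z⁻¹ := by rw [h2]
      _ = z⁻¹ * c := by group
  have hca : c * a = z⁻¹ * a * c := by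
    calc c * a = z⁻¹ * (z * c) * a := by group
      _ = z⁻¹ * (a * c * a⁻¹) * a := by rw [h1]
      _ = z⁻¹ * a * c := by group
  have hza : z⁻¹ * a = a * z⁻¹ := by
    calc z⁻¹ * a = z⁻¹ * (a * z) * z⁻¹ := by group
      _ = z⁻¹ * (z * a) * z⁻¹ := by rw [h3]
      _ = a * z⁻¹ := by group
  have R_cs : ∀ v, cj c (cj z⁻¹ v) = cj z⁻¹ (cj c v) := by
    intro v
    apply Subtype.ext
    rw [hcj, hcj, hcj, hcj]
    calc c * (z⁻¹ * ↑v * z⁻¹⁻¹) * c⁻¹ = (c * z⁻¹) * v * (c * z⁻¹)⁻¹ := by group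
      _ = (z⁻¹ * c) * v * (z⁻¹ * c)⁻¹ := by rw [hcz]
      _ = z⁻¹ * (c * ↑v * c⁻¹) * z⁻¹⁻¹ := by group
  have R_ca : ∀ v, cj c (cj a v) = cj z⁻¹ (cj a (cj c v)) := by
    intro v
    apply Subtype.ext
    rw [hcj, hcj, hcj, hcj, hcj]
    calc c * (a * ↑v * a⁻¹) * c⁻¹ = (c * a) * v * (c * a)⁻¹ := by group
      _ = (z⁻¹ * a * c) * v * (z⁻¹ * a * c)⁻¹ := by rw [hca]
      _ = z⁻¹ * (a * (c * ↑v * c⁻¹) * a⁻¹) * z⁻¹⁻¹ := by group
  have R_sa : ∀ v, cj z⁻¹ (cj a v) = cj a (cj z⁻¹ v) := by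
    intro v
    apply Subtype.ext
    rw [hcj, hcj, hcj, hcj]
    calc z⁻¹ * (a * ↑v * a⁻¹) * z⁻¹⁻¹ = (z⁻¹ * a) * v * (z⁻¹ * a)⁻¹ := by group
      _ = (a * z⁻¹) * v * (a * z⁻¹)⁻¹ := by rw [hza]
      _ = a * (z⁻¹ * ↑v * z⁻¹⁻¹) * a⁻¹ := by group
  have hs1 : ∀ v : ↥N, cj z⁻¹ v = v → v = 1 := by
    intro v hv
    have h4 := congrArg Subtype.val hv
    rw [hcj] at h4
    apply Subtype.ext
    apply f1 _ v.2
    calc z * ↑v = z * (z⁻¹ * ↑v * z⁻¹⁻¹) := by rw [h4]
      _ = ↑v * z := by group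
  have hs2 : ∀ v : ↥N, cj z⁻¹ (cj z⁻¹ v) = v → v = 1 := by
    intro v hv
    have h4 := congrArg Subtype.val hv
    rw [hcj, hcj] at h4
    apply Subtype.ext
    apply f2 _ v.2
    calc z ^ 2 * ↑v = z ^ 2 * (z⁻¹ * (z⁻¹ * ↑v * z⁻¹⁻¹) * z⁻¹⁻¹) := by rw [h4]
      _ = ↑v * z ^ 2 := by rw [pow_two]; group
  let ι : ↥(N ⊓ Subgroup.centralizer ({c} : Set G)) → ↥N := fun u => ⟨u.1, u.2.1⟩
  have hιinj : Function.Injective ι := by
    intro u v huv
    have h9 : ((ι u : ↥N) : G) = ((ι v : ↥N) : G) := congrArg Subtype.val huv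
    exact Subtype.ext h9
  have hιc : ∀ u, cj c (ι u) = ι u := by
    intro u
    apply Subtype.ext
    rw [hcj]
    have h5 : c * (u : G) = (u : G) * c :=
      (Subgroup.mem_centralizer_iff.mp u.2.2) c (Set.mem_singleton c)
    show c * (u : G) * c⁻¹ = (u : G)
    rw [h5]; group
  let F : ↥(N ⊓ Subgroup.centralizer ({c} : Set G)) × ↥(N ⊓ Subgroup.centralizer ({c} : Set G)) ×
      ↥(N ⊓ Subgroup.centralizer ({c} : Set G)) → ↥N :=
    fun t => ι t.1 * cj a (ι t.2.1) * cj a (cj a (ι t.2.2))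
  have hF : Function.Injective F := by
    rintro ⟨u0, u1, u2⟩ ⟨v0, v1, v2⟩ hEq
    have hEq' : ι u0 * cj a (ι u1) * cj a (cj a (ι u2)) =
        ι v0 * cj a (ι v1) * cj a (cj a (ι v2)) := hEq
    have hrel := rearr' hcomm _ _ _ _ _ _ hEq'
    have e1 : cj a (ι u1) * (cj a (ι v1))⁻¹ = cj a (ι u1 * (ι v1)⁻¹) := by
      rw [map_mul, map_inv]
    have e2 : cj a (cj a (ι u2)) * (cj a (cj a (ι v2)))⁻¹ = cj a (cj a (ι u2 * (ι v2)⁻¹)) := by
      simp only [map_mul, map_inv]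
    rw [e1, e2] at hrel
    have hfix : ∀ u v, cj c (ι u * (ι v)⁻¹) = ι u * (ι v)⁻¹ := by
      intro u v
      rw [map_mul, map_inv, hιc, hιc]
    have hw1 : cj c (cj a (ι u1 * (ι v1)⁻¹)) = cj z⁻¹ (cj a (ι u1 * (ι v1)⁻¹)) := by
      rw [R_ca, hfix]
    have hw2 : cj c (cj a (cj a (ι u2 * (ι v2)⁻¹))) =
        cj z⁻¹ (cj z⁻¹ (cj a (cj a (ι u2 * (ι v2)⁻¹)))) := by
      rw [R_ca, R_ca, hfix, ← R_sa]
    obtain ⟨k0, k1, k2⟩ := indep3' hcomm (cj c) (cj z⁻¹) R_cs (hcjinj _) hs1 hs2 _ _ _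
      (hfix u0 v0) hw1 hw2 hrel
    have k1' : ι u1 * (ι v1)⁻¹ = 1 := (map_eq_one_iff (cj a) (hcjinj a)).mp k1
    have k2' : ι u2 * (ι v2)⁻¹ = 1 :=
      (map_eq_one_iff (cj a) (hcjinj a)).mp ((map_eq_one_iff (cj a) (hcjinj a)).mp k2)
    have r0 : u0 = v0 := hιinj (mul_inv_eq_one.mp k0)
    have r1 : u1 = v1 := hιinj (mul_inv_eq_one.mp k1')
    have r2 : u2 = v2 := hιinj (mul_inv_eq_one.mp k2')
    rw [r0, r1, r2]
  have hle := Nat.card_le_card_of_injective F hF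
  rw [Nat.card_prod, Nat.card_prod] at hle
  calc (Nat.card ↥(N ⊓ Subgroup.centralizer ({c} : Set G))) ^ 3
      = Nat.card ↥(N ⊓ Subgroup.centralizer ({c} : Set G)) *
        (Nat.card ↥(N ⊓ Subgroup.centralizer ({c} : Set G)) *
          Nat.card ↥(N ⊓ Subgroup.centralizer ({c} : Set G))) := by ring
    _ ≤ Nat.card N := hle

theorem fpf_of_central {G : Type*} [Group G] (P N : Subgroup G) [hNn : N.Normal]
    (htop : N ⊔ P = ⊤) (hab : ∀ x ∈ N, ∀ y ∈ N, x * y = y * x)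
    (hmin : ∀ M : Subgroup G, M.Normal → M ≠ ⊥ → ¬ M < N)
    (hK : P ⊓ Subgroup.centralizer (N : Set G) = ⊥)
    (z : G) (hzP : z ∈ P) (hzc : ∀ g ∈ P, z * g = g * z) (hz1 : z ≠ 1) :
    ∀ v ∈ N, z * v = v * z → v = 1 := by
  intro v hv hzv
  set F : Subgroup G := N ⊓ Subgroup.centralizer ({z} : Set G) with hF
  have hmemF : ∀ w, w ∈ F ↔ w ∈ N ∧ z * w = w * z := by
    intro w
    rw [hF, Subgroup.mem_inf, Subgroup.mem_centralizer_iff]
    constructor
    · rintro ⟨h1, h2⟩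
      exact ⟨h1, h2 z (Set.mem_singleton z)⟩
    · rintro ⟨h1, h2⟩
      refine ⟨h1, ?_⟩
      intro y hy
      rw [Set.mem_singleton_iff] at hy
      rw [hy]; exact h2
  have hFn : F.Normal := by
    refine ⟨?_⟩
    intro w hw g
    rw [hmemF] at hw ⊢
    obtain ⟨hwN, hwz⟩ := hw
    have hg : g ∈ N ⊔ P := by rw [htop]; trivial
    rw [Subgroup.mem_sup_of_normal_left] at hg
    obtain ⟨n, hn, h, hh, rfl⟩ := hg
    have h1 : h * w * h⁻¹ ∈ N := hNn.conj_mem w hwN h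
    have h2 : n * h * w * (n * h)⁻¹ = h * w * h⁻¹ := by
      calc n * h * w * (n * h)⁻¹ = n * (h * w * h⁻¹) * n⁻¹ := by group
        _ = (h * w * h⁻¹) * n * n⁻¹ := by rw [hab n hn _ h1]
        _ = h * w * h⁻¹ := by group
    rw [h2]
    refine ⟨h1, ?_⟩
    have hzh : z * h = h * z := hzc h hh
    have hzh' : z * h⁻¹ = h⁻¹ * z := by
      calc z * h⁻¹ = h⁻¹ * (h * z) * h⁻¹ := by group
        _ = h⁻¹ * (z * h) * h⁻¹ := by rw [hzh]
        _ = h⁻¹ * z := by group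
    calc z * (h * w * h⁻¹) = (z * h) * w * h⁻¹ := by group
      _ = h * (z * w) * h⁻¹ := by rw [hzh]; group
      _ = h * w * (z * h⁻¹) := by rw [hwz]; group
      _ = h * w * h⁻¹ * z := by rw [hzh']; group
  by_cases hF0 : F = ⊥
  · have : v ∈ F := (hmemF v).mpr ⟨hv, hzv⟩
    rw [hF0, Subgroup.mem_bot] at this
    exact this
  · exfalso
    have hFN : F ≤ N := inf_le_left
    have hFeq : F = N := by
      by_contra hne
      exact hmin F hFn hF0 (lt_of_le_of_ne hFN hne)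
    apply hz1
    have hzK : z ∈ P ⊓ Subgroup.centralizer (N : Set G) := by
      refine Subgroup.mem_inf.mpr ⟨hzP, ?_⟩
      rw [Subgroup.mem_centralizer_iff]
      intro w hw
      have : w ∈ F := by rw [hFeq]; exact hw
      exact ((hmemF w).mp this).2.symm
    rw [hK, Subgroup.mem_bot] at hzK
    exact hzK

theorem star {G : Type*} [Group G] [Finite G] {p : ℕ} [Fact p.Prime] (P N : Subgroup G)
    (hP : IsPGroup p P) [hNn : N.Normal] (hN : (Nat.card N).Coprime p) (htop : N ⊔ P = ⊤)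
    (hPN : P ⊓ N = ⊥)
    (c d x : G) (hc : c ∈ P) (hd : d ∈ P) (hx : x ∈ N)
    (hQ : IsPGroup p ↥(Subgroup.closure ({x * c * x⁻¹, d} : Set G))) :
    ∃ u ∈ N, ∃ v ∈ N, d * u = u * d ∧ c * v = v * c ∧ x = u * v := by
  -- `P` is a Sylow subgroup
  have hidx : ¬ p ∣ P.index := by
    intro hdvd
    have h1 := Cfsg.Agent.Lib.Helper2.card_sup_dvd_of_normal P N
    rw [sup_comm, htop, Subgroup.card_top, ← Subgroup.card_mul_index P] at h1
    have h2 : P.index ∣ Nat.card N := Nat.dvd_of_mul_dvd_mul_left Nat.card_pos h1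
    have h3 : p ∣ Nat.card N := hdvd.trans h2
    have h4 : p ∣ Nat.gcd (Nat.card N) p := Nat.dvd_gcd h3 dvd_rfl
    rw [hN.gcd_eq_one] at h4
    exact (Fact.out : p.Prime).one_lt.ne' (Nat.dvd_one.mp h4)
  obtain ⟨S, hS⟩ := hQ.exists_le_sylow
  obtain ⟨g, hg⟩ := MulAction.exists_smul_eq G (hP.toSylow hidx) S
  have hgtop : g ∈ N ⊔ P := by rw [htop]; trivial
  rw [Subgroup.mem_sup_of_normal_left] at hgtop
  obtain ⟨y, hy, h, hh, rfl⟩ := hgtop
  have hmemS : ∀ s : G, s ∈ S → y⁻¹ * s * y ∈ P := by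
    intro s hs
    have h1 : s ∈ ((y * h) • (hP.toSylow hidx) : Sylow p G) := by rw [hg]; exact hs
    have h2 : s ∈ (((y * h) • (hP.toSylow hidx) : Sylow p G) : Subgroup G) := h1
    rw [Sylow.coe_subgroup_smul, Subgroup.mem_pointwise_smul_iff_inv_smul_mem] at h2
    have h3 : (MulAut.conj (y * h))⁻¹ • s = (y * h)⁻¹ * s * (y * h) := by
      rw [MulAut.smul_def, ← map_inv, MulAut.conj_apply, inv_inv]
    rw [h3] at h2
    have h4 : (y * h)⁻¹ * s * (y * h) ∈ P := h2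
    have h5 : y⁻¹ * s * y = h * ((y * h)⁻¹ * s * (y * h)) * h⁻¹ := by group
    rw [h5]
    exact P.mul_mem (P.mul_mem hh h4) (P.inv_mem hh)
  have hdS : d ∈ S := hS (Subgroup.subset_closure (by simp))
  have hcS : x * c * x⁻¹ ∈ S := hS (Subgroup.subset_closure (by simp))
  have hbot : ∀ e : G, e ∈ P → e ∈ N → e = 1 := by
    intro e h1 h2
    have : e ∈ P ⊓ N := ⟨h1, h2⟩
    rw [hPN, Subgroup.mem_bot] at this
    exact this
  have hyinv : y⁻¹ ∈ N := N.inv_mem hy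
  refine ⟨y, hy, y⁻¹ * x, N.mul_mem hyinv hx, ?_, ?_, by group⟩
  · have h1 : y⁻¹ * d * y * d⁻¹ ∈ P := P.mul_mem (hmemS d hdS) (P.inv_mem hd)
    have h2 : y⁻¹ * d * y * d⁻¹ ∈ N := by
      have : y⁻¹ * d * y * d⁻¹ = y⁻¹ * (d * y * d⁻¹) := by group
      rw [this]
      exact N.mul_mem hyinv (hNn.conj_mem y hy d)
    have h3 := hbot _ h1 h2
    calc d * y = y * (y⁻¹ * d * y * d⁻¹) * d := by group
      _ = y * d := by rw [h3, mul_one]
  · have hvN : y⁻¹ * x ∈ N := N.mul_mem hyinv hx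
    have h0 : (y⁻¹ * x) * c * (y⁻¹ * x)⁻¹ ∈ P := by
      have : (y⁻¹ * x) * c * (y⁻¹ * x)⁻¹ = y⁻¹ * (x * c * x⁻¹) * y := by group
      rw [this]; exact hmemS _ hcS
    have h1 : (y⁻¹ * x) * c * (y⁻¹ * x)⁻¹ * c⁻¹ ∈ P := P.mul_mem h0 (P.inv_mem hc)
    have h2 : (y⁻¹ * x) * c * (y⁻¹ * x)⁻¹ * c⁻¹ ∈ N := by
      have : (y⁻¹ * x) * c * (y⁻¹ * x)⁻¹ * c⁻¹ = (y⁻¹ * x) * (c * (y⁻¹ * x)⁻¹ * c⁻¹) := by group
      rw [this]
      exact N.mul_mem hvN (hNn.conj_mem _ (N.inv_mem hvN) c)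
    have h3 := hbot _ h1 h2
    calc c * (y⁻¹ * x) = ((y⁻¹ * x) * c * (y⁻¹ * x)⁻¹ * c⁻¹)⁻¹ * ((y⁻¹ * x) * c) := by group
      _ = (y⁻¹ * x) * c := by rw [h3, inv_one, one_mul]

theorem exists_second_center {G : Type*} [Group G] [Finite G] {p : ℕ} [Fact p.Prime]
    (P : Subgroup G) (hP : IsPGroup p P) (hna : ¬ ∀ g ∈ P, ∀ h ∈ P, g * h = h * g) :
    ∃ a ∈ P, (∃ g ∈ P, a * g ≠ g * a) ∧
      ∀ g ∈ P, ∀ h ∈ P, (a * g * a⁻¹ * g⁻¹) * h = h * (a * g * a⁻¹ * g⁻¹) := by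
  classical
  set Z := Subgroup.center ↥P with hZ
  have hZtop : ∃ g₀ : ↥P, g₀ ∉ Z := by
    by_contra hcon
    push Not at hcon
    apply hna
    intro g hg h hh
    have := (Subgroup.mem_center_iff.mp (hcon ⟨h, hh⟩)) ⟨g, hg⟩
    exact congrArg Subtype.val this
  obtain ⟨g₀, hg₀⟩ := hZtop
  have hnt : Nontrivial (↥P ⧸ Z) := by
    refine ⟨⟨(g₀ : ↥P ⧸ Z), 1, ?_⟩⟩
    intro h
    exact hg₀ ((QuotientGroup.eq_one_iff g₀).mp h)
  have hQ : IsPGroup p (↥P ⧸ Z) := hP.to_quotient Z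
  have hcn : Nontrivial (Subgroup.center (↥P ⧸ Z)) := hQ.center_nontrivial
  obtain ⟨⟨ab, hab⟩, hab1⟩ := exists_ne (1 : Subgroup.center (↥P ⧸ Z))
  obtain ⟨a, rfl⟩ := QuotientGroup.mk_surjective ab
  have haZ : a ∉ Z := by
    intro h
    apply hab1
    apply Subtype.ext
    exact (QuotientGroup.eq_one_iff a).mpr h
  refine ⟨a, a.2, ?_, ?_⟩
  · by_contra hcon
    push Not at hcon
    apply haZ
    rw [Subgroup.mem_center_iff]
    intro g
    apply Subtype.ext
    exact (hcon g g.2).symm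
  · intro g hg h hh
    have h1 : ((a * ⟨g, hg⟩ * a⁻¹ * (⟨g, hg⟩ : ↥P)⁻¹ : ↥P) : ↥P ⧸ Z) = 1 := by
      have h2 := (Subgroup.mem_center_iff.mp hab) ((⟨g, hg⟩ : ↥P) : ↥P ⧸ Z)
      calc ((a * ⟨g, hg⟩ * a⁻¹ * (⟨g, hg⟩ : ↥P)⁻¹ : ↥P) : ↥P ⧸ Z)
          = (a : ↥P ⧸ Z) * ((⟨g, hg⟩ : ↥P) : ↥P ⧸ Z) * (a : ↥P ⧸ Z)⁻¹ *
            ((⟨g, hg⟩ : ↥P) : ↥P ⧸ Z)⁻¹ := rfl
        _ = 1 := by rw [← h2]; group
    have h3 := (QuotientGroup.eq_one_iff _).mp h1
    have h4 := (Subgroup.mem_center_iff.mp h3) ⟨h, hh⟩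
    exact (congrArg Subtype.val h4).symm

theorem conj_pow_comm {G : Type*} [Group G] {a c w : G} (h : a * c * a⁻¹ = w * c)
    (hwa : w * a = a * w) (m : ℕ) : a ^ m * c * (a ^ m)⁻¹ = w ^ m * c := by
  induction m with
  | zero => simp
  | succ m ih =>
    have hwm : w ^ m * a = a * w ^ m := ((Commute.pow_left (show Commute w a from hwa) m)).eq
    calc a ^ (m + 1) * c * (a ^ (m + 1))⁻¹ = a * (a ^ m * c * (a ^ m)⁻¹) * a⁻¹ := by
          rw [pow_succ']; group
      _ = a * (w ^ m * c) * a⁻¹ := by rw [ih]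
      _ = (a * w ^ m) * c * a⁻¹ := by group
      _ = (w ^ m * a) * c * a⁻¹ := by rw [hwm]
      _ = w ^ m * (a * c * a⁻¹) := by group
      _ = w ^ m * (w * c) := by rw [h]
      _ = w ^ (m + 1) * c := by rw [pow_succ]; group

theorem exists_pow_orderOf_eq {G : Type*} [Group G] {p : ℕ} [hp : Fact p.Prime] {P : Subgroup G}
    (hP : IsPGroup p P) {w : G} (hw : w ∈ P) (hw1 : w ≠ 1) : ∃ m : ℕ, orderOf (w ^ m) = p := by
  obtain ⟨k, hk⟩ := (IsPGroup.iff_orderOf.mp hP) ⟨w, hw⟩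
  rw [Subgroup.orderOf_mk] at hk
  have hk0 : k ≠ 0 := by
    rintro rfl
    rw [pow_zero, orderOf_eq_one_iff] at hk
    exact hw1 hk
  refine ⟨p ^ (k - 1), ?_⟩
  have hdvd : p ^ (k - 1) ∣ orderOf w := by rw [hk]; exact pow_dvd_pow p (Nat.sub_le k 1)
  rw [orderOf_pow_of_dvd (pow_ne_zero _ hp.out.ne_zero) hdvd, hk,
    Nat.pow_div (Nat.sub_le k 1) hp.out.pos]
  have : k - (k - 1) = 1 := by omega
  rw [this, pow_one]

theorem main (n : ℕ) : ∀ (G : Type u) [Group G] [Finite G], Nat.card G = n → T G := by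
  induction n using Nat.strong_induction_on with
  | _ n ih =>
  intro G _ _ hn p _ hp3 P N hP hNn hN C D hC hD hH
  haveI := hNn
  have ihT : ∀ (G' : Type u) [Group G'] [Finite G'], Nat.card G' < n → T G' :=
    fun G' _ _ h => ih _ h G' rfl
  have hpp : p.Prime := Fact.out
  have hCP : ∀ c ∈ C, c ∈ P := fun c hc => by rw [← hC]; exact Subgroup.subset_closure hc
  have hDP : ∀ d ∈ D, d ∈ P := fun d hd => by rw [← hD]; exact Subgroup.subset_closure hd
  have hcop' : (Nat.card P).Coprime (Nat.card N) := by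
    obtain ⟨k, hk⟩ := IsPGroup.iff_card.mp hP
    rw [hk]; exact Nat.Coprime.pow_left k hN.symm
  have hPN : P ⊓ N = ⊥ := Subgroup.inf_eq_bot_of_coprime hcop'
  have hPnorm : P ≤ Subgroup.normalizer (N : Set G) := by
    rw [Subgroup.normalizer_eq_top_iff.mpr hNn]; exact le_top
  haveI : Group.IsNilpotent ↥P := hP.isNilpotent
  have hsolvP : Group.IsSolvable ↥P := inferInstance
  -- Step 1
  by_cases h1 : N ⊔ P = ⊤
  swap
  · intro g hg x hx
    exact TS (N ⊔ P) (ihT _ (by rw [← hn]; exact card_lt_of_ne_top h1)) hp3 P N hP hN C D hC hD hH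
      le_sup_right g hg x hx (Subgroup.mem_sup_left hx)
  -- Step 2
  have hKn : (P ⊓ Subgroup.centralizer (N : Set G)).Normal := by
    refine ⟨?_⟩
    intro k hk g
    have hg : g ∈ N ⊔ P := by rw [h1]; trivial
    rw [Subgroup.mem_sup_of_normal_left] at hg
    obtain ⟨n', hn', h, hh, rfl⟩ := hg
    obtain ⟨hkP, hkc⟩ := Subgroup.mem_inf.mp hk
    rw [Subgroup.mem_centralizer_iff] at hkc
    have hk'P : h * k * h⁻¹ ∈ P := P.mul_mem (P.mul_mem hh hkP) (P.inv_mem hh)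
    have hk'c : ∀ y ∈ N, y * (h * k * h⁻¹) = (h * k * h⁻¹) * y := by
      intro y hy
      have hy' : h⁻¹ * y * h ∈ N := by
        have := hNn.conj_mem y hy h⁻¹
        simpa using this
      have := hkc _ hy'
      calc y * (h * k * h⁻¹) = h * ((h⁻¹ * y * h) * k) * h⁻¹ := by group
        _ = h * (k * (h⁻¹ * y * h)) * h⁻¹ := by rw [this]
        _ = (h * k * h⁻¹) * y := by group
    have hconj : n' * h * k * (n' * h)⁻¹ = h * k * h⁻¹ := by
      calc n' * h * k * (n' * h)⁻¹ = (n' * (h * k * h⁻¹)) * n'⁻¹ := by group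
        _ = ((h * k * h⁻¹) * n') * n'⁻¹ := by rw [hk'c n' hn']
        _ = h * k * h⁻¹ := by group
    rw [hconj]
    exact Subgroup.mem_inf.mpr ⟨hk'P, Subgroup.mem_centralizer_iff.mpr hk'c⟩
  by_cases h2 : P ⊓ Subgroup.centralizer (N : Set G) = ⊥
  swap
  · intro g hg x hx
    have hq := TQ (P ⊓ Subgroup.centralizer (N : Set G))
      (ihT _ (by rw [← hn]; exact card_quot_lt h2)) hp3 P N hP hN C D hC hD hH g hg x hx
    have hqP : g * x * g⁻¹ * x⁻¹ ∈ P := (Subgroup.mem_inf.mp hq).1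
    have hqN : g * x * g⁻¹ * x⁻¹ ∈ N := N.mul_mem (hNn.conj_mem x hx g) (N.inv_mem hx)
    have hmem : g * x * g⁻¹ * x⁻¹ ∈ P ⊓ N := Subgroup.mem_inf.mpr ⟨hqP, hqN⟩
    rw [hPN, Subgroup.mem_bot] at hmem
    calc g * x = (g * x * g⁻¹ * x⁻¹) * (x * g) := by group
      _ = x * g := by rw [hmem, one_mul]
  -- Step 3
  by_cases h3 : ∃ M : Subgroup G, M.Normal ∧ M ≠ ⊥ ∧ M < N
  · obtain ⟨M, hMn, hM0, hMN⟩ := h3
    haveI := hMn
    have hq := TQ M (ihT _ (by rw [← hn]; exact card_quot_lt hM0)) hp3 P N hP hN C D hC hD hH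
    have hMP : M ⊔ P ≠ ⊤ := by
      intro htop
      apply not_le_of_gt hMN
      intro x hx
      have hx' : x ∈ M ⊔ P := by rw [htop]; trivial
      rw [Subgroup.mem_sup_of_normal_left] at hx'
      obtain ⟨m, hm, h, hh, rfl⟩ := hx'
      have hhN : h ∈ N := by
        have : h = m⁻¹ * (m * h) := by group
        rw [this]; exact N.mul_mem (N.inv_mem (hMN.le hm)) hx
      have hmem : h ∈ P ⊓ N := Subgroup.mem_inf.mpr ⟨hh, hhN⟩
      rw [hPN, Subgroup.mem_bot] at hmem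
      rw [hmem, mul_one]; exact hm
    have hs := TS (M ⊔ P) (ihT _ (by rw [← hn]; exact card_lt_of_ne_top hMP)) hp3 P N hP hN
      C D hC hD hH le_sup_right
    have hNP_M : ⁅N, P⁆ ≤ M := by
      rw [Subgroup.commutator_le]
      intro x hx g hg
      have h5 := M.inv_mem (hq g hg x hx)
      have e : ⁅x, g⁆ = (g * x * g⁻¹ * x⁻¹)⁻¹ := by rw [commutatorElement_def]; group
      rw [e]; exact h5
    have hMP_bot : ⁅M, P⁆ = ⊥ := by
      rw [eq_bot_iff, Subgroup.commutator_le]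
      intro x hx g hg
      rw [Subgroup.mem_bot, commutatorElement_def]
      have h5 := hs g hg x (hMN.le hx) (Subgroup.mem_sup_left hx)
      calc x * g * x⁻¹ * g⁻¹ = (x * g) * x⁻¹ * g⁻¹ := by group
        _ = (g * x) * x⁻¹ * g⁻¹ := by rw [h5]
        _ = 1 := by group
    have hstab := Cfsg.Agent.Lib.Helper13.coprime_commutator_stable P N hPnorm hcop'
      (Or.inl hsolvP)
    have hNPbot : ⁅N, P⁆ = ⊥ := by
      apply le_bot_iff.mp
      calc ⁅N, P⁆ = ⁅⁅N, P⁆, P⁆ := hstab.symm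
        _ ≤ ⁅M, P⁆ := Subgroup.commutator_mono hNP_M le_rfl
        _ = ⊥ := hMP_bot
    intro g hg x hx
    have h5 : ⁅x, g⁆ ∈ ⁅N, P⁆ := Subgroup.commutator_mem_commutator hx hg
    rw [hNPbot, Subgroup.mem_bot, commutatorElement_def] at h5
    calc g * x = (x * g * x⁻¹ * g⁻¹)⁻¹ * (x * g) := by group
      _ = x * g := by rw [h5, inv_one, one_mul]
  push Not at h3
  -- Step 4
  by_cases hN0 : N = ⊥
  · intro g hg x hx
    rw [hN0, Subgroup.mem_bot] at hx
    rw [hx, mul_one, one_mul]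
  -- Step 5
  have hq_alt : ∀ q : ℕ, q.Prime →
      (∃ Q : Subgroup G, Q ≤ N ⊓ Subgroup.centralizer (P : Set G) ∧
        Nat.card Q = q ^ (Nat.card N).factorization q) ∨ IsPGroup q ↥N := by
    intro q hq
    haveI : Fact q.Prime := ⟨hq⟩
    obtain ⟨Qs, hQs⟩ := Cfsg.Agent.Lib.Helper13.exists_invariant_sylow P N hPnorm hcop'
      (Or.inl hsolvP) q
    obtain ⟨Q, hQdef⟩ : ∃ Q : Subgroup G, Q = (Qs : Subgroup ↥N).map N.subtype := ⟨_, rfl⟩
    rw [← hQdef] at hQs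
    have hQN : Q ≤ N := by rw [hQdef]; exact Subgroup.map_subtype_le _
    have hQcard : Nat.card Q = q ^ (Nat.card N).factorization q := by
      rw [hQdef, Subgroup.card_map_of_injective N.subtype_injective]
      exact Qs.card_eq_multiplicity
    by_cases hQeq : Q = N
    · right
      apply IsPGroup.of_card (n := (Nat.card N).factorization q)
      rw [← hQcard, hQeq]
    · left
      refine ⟨Q, ?_, hQcard⟩
      by_cases hQ0 : Q = ⊥
      · rw [hQ0]; exact bot_le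
      have hnorm_ne : Subgroup.normalizer (Q : Set G) ≠ ⊤ := by
        intro htop
        have hQn : Q.Normal := Subgroup.normalizer_eq_top_iff.mp htop
        apply hQeq
        by_contra hne
        exact h3 Q hQn hQ0 (lt_of_le_of_ne hQN hne)
      have hs := TS (Subgroup.normalizer (Q : Set G))
        (ihT _ (by rw [← hn]; exact card_lt_of_ne_top hnorm_ne)) hp3 P N hP hN C D hC hD hH hQs
      intro x hx
      refine Subgroup.mem_inf.mpr ⟨hQN hx, ?_⟩
      rw [Subgroup.mem_centralizer_iff]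
      intro g hg
      exact hs g hg x (hQN hx) (Subgroup.le_normalizer hx)
  by_cases hex : ∃ q : ℕ, q.Prime ∧ IsPGroup q ↥N
  swap
  · push Not at hex
    have hdvd : Nat.card N ∣ Nat.card ↥(N ⊓ Subgroup.centralizer (P : Set G)) := by
      rw [← Nat.factorization_prime_le_iff_dvd Nat.card_pos.ne' Nat.card_pos.ne']
      intro q hq
      rcases hq_alt q hq with ⟨Q, hQle, hQcard⟩ | h
      · have h5 : Nat.card Q ∣ Nat.card ↥(N ⊓ Subgroup.centralizer (P : Set G)) :=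
          Subgroup.card_dvd_of_le hQle
        rw [hQcard] at h5
        exact (hq.pow_dvd_iff_le_factorization Nat.card_pos.ne').mp h5
      · exact (hex q hq h).elim
    have hEq : N ⊓ Subgroup.centralizer (P : Set G) = N :=
      Subgroup.eq_of_le_of_card_ge inf_le_left (Nat.le_of_dvd Nat.card_pos hdvd)
    intro g hg x hx
    have hxC : x ∈ N ⊓ Subgroup.centralizer (P : Set G) := by rw [hEq]; exact hx
    exact (Subgroup.mem_centralizer_iff.mp (Subgroup.mem_inf.mp hxC).2) g hg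
  -- Step 6
  obtain ⟨q, hq, hNq⟩ := hex
  haveI : Fact q.Prime := ⟨hq⟩
  have hab : ∀ x ∈ N, ∀ y ∈ N, x * y = y * x := by
    haveI : Nontrivial ↥N := (Subgroup.nontrivial_iff_ne_bot N).mpr hN0
    have hcn : Nontrivial (Subgroup.center ↥N) := hNq.center_nontrivial
    obtain ⟨Z, hZ⟩ : ∃ Z : Subgroup G, Z = (Subgroup.center ↥N).map N.subtype := ⟨_, rfl⟩
    have hZn : Z.Normal := by rw [hZ]; exact ConjAct.normal_of_characteristic_of_normal
    have hZ0 : Z ≠ ⊥ := by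
      intro h
      rw [hZ] at h
      have := (Subgroup.map_eq_bot_iff_of_injective _ N.subtype_injective).mp h
      exact (Subgroup.nontrivial_iff_ne_bot _).mp hcn this
    have hZN : Z ≤ N := by rw [hZ]; exact Subgroup.map_subtype_le _
    have hZeq : Z = N := by
      by_contra hne
      exact h3 Z hZn hZ0 (lt_of_le_of_ne hZN hne)
    intro x hx y hy
    have hxZ : x ∈ Z := by rw [hZeq]; exact hx
    rw [hZ] at hxZ
    obtain ⟨x', hx', rfl⟩ := hxZ
    have h5 := (Subgroup.mem_center_iff.mp hx') ⟨y, hy⟩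
    exact (congrArg Subtype.val h5).symm
  -- Step 7
  have hfpf : ∀ z ∈ P, (∀ g ∈ P, z * g = g * z) → z ≠ 1 → ∀ v ∈ N, z * v = v * z → v = 1 :=
    fun z hzP hzc hz1 => fpf_of_central P N h1 hab h3 h2 z hzP hzc hz1
  have hstar : ∀ c ∈ C, ∀ d ∈ D, ∀ x ∈ N,
      ∃ u ∈ N, ∃ v ∈ N, d * u = u * d ∧ c * v = v * c ∧ x = u * v :=
    fun c hc d hd x hx =>
      star P N hP hN h1 hPN c d x (hCP c hc) (hDP d hd) hx (hH x hx c hc d hd)
  by_cases hPab : ∀ g ∈ P, ∀ h ∈ P, g * h = h * g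
  · by_cases hP0 : P = ⊥
    · intro g hg x hx
      rw [hP0, Subgroup.mem_bot] at hg
      rw [hg, one_mul, mul_one]
    have hexC : ∀ E : Set G, Subgroup.closure E = P → ∃ e ∈ E, e ≠ 1 := by
      intro E hE
      by_contra hcon
      push Not at hcon
      apply hP0
      rw [← hE, Subgroup.closure_eq_bot_iff]
      intro e he
      exact hcon e he
    obtain ⟨c, hc, hc1⟩ := hexC C hC
    obtain ⟨d, hd, hd1⟩ := hexC D hD
    have hkill : ∀ e ∈ P, e ≠ 1 → ∀ v ∈ N, e * v = v * e → v = 1 := by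
      intro e he he1 v hv hev
      obtain ⟨m, hm⟩ := exists_pow_orderOf_eq hP he he1
      have hz1 : e ^ m ≠ 1 := by
        intro h
        rw [h, orderOf_one] at hm
        exact hpp.one_lt.ne hm
      have hzc : ∀ g ∈ P, e ^ m * g = g * e ^ m := fun g hg =>
        ((Commute.pow_left (show Commute e g from hPab e he g hg) m)).eq
      have hzv : e ^ m * v = v * e ^ m := ((Commute.pow_left (show Commute e v from hev) m)).eq
      exact hfpf (e ^ m) (P.pow_mem he m) hzc hz1 v hv hzv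
    intro g hg x hx
    obtain ⟨u, hu, v, hv, hdu, hcv, rfl⟩ := hstar c hc d hd x hx
    have hu1 := hkill d (hDP d hd) hd1 u hu hdu
    have hv1 := hkill c (hCP c hc) hc1 v hv hcv
    rw [hu1, hv1, mul_one, mul_one, one_mul]
  · exfalso
    obtain ⟨a, haP, ⟨g₀, hg₀P, hg₀⟩, hcen⟩ := exists_second_center P hP hPab
    have hexE : ∀ E : Set G, Subgroup.closure E = P → ∃ e ∈ E, a * e ≠ e * a := by
      intro E hE
      by_contra hcon
      push Not at hcon
      apply hg₀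
      have hle : Subgroup.closure E ≤ Subgroup.centralizer ({a} : Set G) := by
        rw [Subgroup.closure_le]
        intro e he
        rw [SetLike.mem_coe, Subgroup.mem_centralizer_iff]
        intro y hy
        rw [Set.mem_singleton_iff] at hy
        rw [hy]; exact hcon e he
      rw [hE] at hle
      exact (Subgroup.mem_centralizer_iff.mp (hle hg₀P)) a (Set.mem_singleton a)
    have hbound : ∀ e ∈ P, a * e ≠ e * a →
        (Nat.card ↥(N ⊓ Subgroup.centralizer ({e} : Set G))) ^ 3 ≤ Nat.card N := by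
      intro e he hne
      obtain ⟨w, hw⟩ : ∃ w, w = a * e * a⁻¹ * e⁻¹ := ⟨_, rfl⟩
      have hwP : w ∈ P := by
        rw [hw]
        exact P.mul_mem (P.mul_mem (P.mul_mem haP he) (P.inv_mem haP)) (P.inv_mem he)
      have hwc : ∀ h ∈ P, w * h = h * w := fun h hh => by rw [hw]; exact hcen e he h hh
      have hw1 : w ≠ 1 := by
        intro h
        apply hne
        calc a * e = (a * e * a⁻¹ * e⁻¹) * (e * a) := by group
          _ = e * a := by rw [← hw, h, one_mul]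
      have hrel : a * e * a⁻¹ = w * e := by rw [hw]; group
      obtain ⟨m, hm⟩ := exists_pow_orderOf_eq hP hwP hw1
      have hzc : ∀ h ∈ P, w ^ m * h = h * w ^ m := fun h hh =>
        ((Commute.pow_left (show Commute w h from hwc h hh) m)).eq
      have hz1 : w ^ m ≠ 1 := by
        intro h
        rw [h, orderOf_one] at hm
        exact hpp.one_lt.ne hm
      have hz2 : (w ^ m) ^ 2 ≠ 1 := by
        intro h
        have h5 := orderOf_dvd_of_pow_eq_one h
        rw [hm] at h5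
        have h6 := Nat.le_of_dvd (by norm_num) h5
        omega
      have hrel' := conj_pow_comm hrel (hwc a haP) m
      exact bound3 N hab (a ^ m) e (w ^ m) hrel' (hzc e he) (hzc (a ^ m) (P.pow_mem haP m))
        (hfpf (w ^ m) (P.pow_mem hwP m) hzc hz1)
        (hfpf ((w ^ m) ^ 2) (P.pow_mem (P.pow_mem hwP m) 2)
          (fun h hh => ((Commute.pow_left (show Commute (w ^ m) h from hzc h hh) 2)).eq) hz2)
    obtain ⟨c, hc, hca⟩ := hexE C hC
    obtain ⟨d, hd, hda⟩ := hexE D hD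
    have hbc := hbound c (hCP c hc) hca
    have hbd := hbound d (hDP d hd) hda
    have hsurj : Nat.card N ≤ Nat.card ↥(N ⊓ Subgroup.centralizer ({d} : Set G)) *
        Nat.card ↥(N ⊓ Subgroup.centralizer ({c} : Set G)) := by
      rw [← Nat.card_prod]
      let f : ↥(N ⊓ Subgroup.centralizer ({d} : Set G)) ×
          ↥(N ⊓ Subgroup.centralizer ({c} : Set G)) → ↥N :=
        fun t => ⟨t.1.1 * t.2.1, N.mul_mem t.1.2.1 t.2.2.1⟩
      apply Nat.card_le_card_of_surjective f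
      rintro ⟨x, hx⟩
      obtain ⟨u, hu, v, hv, hdu, hcv, rfl⟩ := hstar c hc d hd x hx
      have huC : u ∈ N ⊓ Subgroup.centralizer ({d} : Set G) := by
        refine Subgroup.mem_inf.mpr ⟨hu, ?_⟩
        rw [Subgroup.mem_centralizer_iff]
        intro y hy
        rw [Set.mem_singleton_iff] at hy
        rw [hy]; exact hdu
      have hvC : v ∈ N ⊓ Subgroup.centralizer ({c} : Set G) := by
        refine Subgroup.mem_inf.mpr ⟨hv, ?_⟩
        rw [Subgroup.mem_centralizer_iff]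
        intro y hy
        rw [Set.mem_singleton_iff] at hy
        rw [hy]; exact hcv
      exact ⟨(⟨u, huC⟩, ⟨v, hvC⟩), rfl⟩
    have hN1 : 1 < Nat.card N := N.one_lt_card_iff_ne_bot.mpr hN0
    obtain ⟨A, hA⟩ : ∃ A, A = Nat.card ↥(N ⊓ Subgroup.centralizer ({c} : Set G)) := ⟨_, rfl⟩
    obtain ⟨B, hB⟩ : ∃ B, B = Nat.card ↥(N ⊓ Subgroup.centralizer ({d} : Set G)) := ⟨_, rfl⟩
    obtain ⟨n', hn'⟩ : ∃ n', n' = Nat.card N := ⟨_, rfl⟩
    rw [← hA, ← hn'] at hbc
    rw [← hB, ← hn'] at hbd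
    rw [← hA, ← hB, ← hn'] at hsurj
    rw [← hn'] at hN1
    have h5 : n' ^ 3 ≤ (B * A) ^ 3 := Nat.pow_le_pow_left hsurj 3
    have h6 : (B * A) ^ 3 = B ^ 3 * A ^ 3 := mul_pow B A 3
    have h7 : B ^ 3 * A ^ 3 ≤ n' * n' := Nat.mul_le_mul hbd hbc
    have h8 : n' ^ 3 ≤ n' * n' := by rw [h6] at h5; exact h5.trans h7
    have h9 : n' * n' * 2 ≤ n' * n' * n' := Nat.mul_le_mul_left (n' * n') hN1
    have h10 : n' ^ 3 = n' * n' * n' := by ring
    rw [h10] at h8
    have h11 : 0 < n' * n' := by positivity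
    have h12 := h9.trans h8
    have h13 : n' * n' * 2 ≤ n' * n' * 1 := by rw [mul_one]; exact h12
    have h14 := Nat.le_of_mul_le_mul_left h13 h11
    omega

/-- Let p ≥ 3 be prime and G a finite group with a Sylow p-subgroup P and a normal p-complement N (N normal, of order prime to p, with NP = G). Suppose P is generated by a subset C and also by a subset D, and that ⟨x c x⁻¹, d⟩ is a p-group for all x ∈ N, c ∈ C, d ∈ D. Then P centralizes N, so that G = N × P. -/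
theorem result {G : Type*} [Group G] [Finite G] (p : ℕ) [Fact p.Prime] (hp3 : 3 ≤ p) (P : Sylow p G)
    (N : Subgroup G) [N.Normal] (hN : (Nat.card N).Coprime p) (hNP : N ⊔ (P : Subgroup G) = ⊤)
    (C D : Set G) (hC : Subgroup.closure C = (P : Subgroup G)) (hD : Subgroup.closure D = (P : Subgroup G))
    (h : ∀ x ∈ N, ∀ c ∈ C, ∀ d ∈ D, IsPGroup p ↥(Subgroup.closure ({x * c * x⁻¹, d} : Set G))) :
    ⁅(P : Subgroup G), N⁆ = ⊥ := by
  have hmain := main _ G rfl p hp3 (P : Subgroup G) N P.isPGroup' inferInstance hN C D hC hD h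
  rw [Subgroup.commutator_eq_bot_iff_le_centralizer]
  intro g hg
  rw [Subgroup.mem_centralizer_iff]
  intro x hx
  exact (hmain g hg x hx).symm

end Cfsg.Agent.S2277
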