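import Cfsg.Statements.S2302
import Mathlib
import Cfsg.Agent.Lib.Helper12.SL2b

set_option autoImplicit false
open Cfsg

namespace Cfsg.Agent.S2302

open Matrix Cfsg.Agent.Lib.Helper12.SL2

variable {F : Type*} [Field F]

local notation "SL2" => Matrix.SpecialLinearGroup (Fin 2)

theorem isConj_up_one [Fintype F] [CharP F 2] (g : SL2 F) (hg : orderOf g = 2) :
    IsConj g (up 1) := by
  haveI : Fact (Nat.Prime 2) := ⟨Nat.prime_two⟩
  obtain ⟨k, b, hb, hk⟩ := exists_conj_up_of_orderOf (p := 2) g hg
  have h1 : IsConj g (up b) := by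
    rw [isConj_iff]
    exact ⟨k⁻¹, by rw [inv_inv, hk]⟩
  obtain ⟨t, ht⟩ := FiniteField.isSquare_of_char_two (ringChar.eq F 2) b⁻¹
  have ht0 : t ≠ 0 := by
    rintro rfl
    rw [mul_zero] at ht
    exact inv_ne_zero hb ht
  have h2 := isConj_up_of_sq t ht0 b
  have e : t ^ 2 * b = 1 := by
    rw [pow_two, ← ht, inv_mul_cancel₀ hb]
  rw [e] at h2
  exact h1.trans h2

theorem centralizer_up_one [Fintype F] [CharP F 2] :
    Nat.card (Subgroup.centralizer ({up (1 : F)} : Set (SL2 F))) = Fintype.card F := by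
  rw [← Nat.card_eq_fintype_card]
  symm
  refine Nat.card_congr (Equiv.ofBijective
    (fun b : F => (⟨up b, (mem_centralizer_up one_ne_zero _).mpr ⟨rfl, rfl⟩⟩ :
      Subgroup.centralizer ({up (1 : F)} : Set (SL2 F)))) ⟨?_, ?_⟩)
  · intro a b hab
    exact up_injective (congrArg Subtype.val hab)
  · rintro ⟨x, hx⟩
    obtain ⟨hc, had⟩ := (mem_centralizer_up one_ne_zero x).mp hx
    have hd := det_eq x
    rw [hc, mul_zero, sub_zero, ← had] at hd
    have h2 : (2 : F) = 0 := by
      have := CharP.cast_eq_zero F 2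
      exact_mod_cast this
    have h00 : x 0 0 = 1 := by
      have : (x 0 0 - 1) ^ 2 = 0 := by linear_combination hd - x 0 0 * h2 + h2
      exact sub_eq_zero.mp (pow_eq_zero_iff (two_ne_zero) |>.mp this)
    refine ⟨x 0 1, Subtype.ext ?_⟩
    apply ext4 <;> simp [up, h00, hc, ← had]


/-- Over a finite field with q elements of characteristic 2, the involutions of SL₂ (the non-identity unipotent elements) form a single conjugacy class, of size q² − 1. -/
theorem result {F : Type*} [Field F] [Fintype F] [CharP F 2] (g h : Matrix.SpecialLinearGroup (Fin 2) F) (hg : orderOf g = 2) (hh : orderOf h = 2) :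
    IsConj g h ∧ Nat.card (ConjClasses.mk g).carrier = Fintype.card F ^ 2 - 1 := by
  have hc : IsConj g h := (isConj_up_one g hg).trans (isConj_up_one h hh).symm
  refine ⟨hc, ?_⟩
  have e : ConjClasses.mk g = ConjClasses.mk (up 1) :=
    ConjClasses.mk_eq_mk_iff_isConj.mpr (isConj_up_one g hg)
  rw [e]
  have h1 := Cfsg.Agent.Lib.Helper9.card_carrier_mul_card_centralizer (up (1 : F))
  rw [centralizer_up_one, card_SL2, mul_comm] at h1
  exact Nat.eq_of_mul_eq_mul_left Fintype.card_pos h1

end Cfsg.Agent.S2302
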