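import Cfsg.Statements.S2308
import Mathlib
import Cfsg.Agent.Lib.Helper12.GL2

set_option autoImplicit false
open Cfsg

namespace Cfsg.Agent.S2308

open Cfsg.Agent.Lib.Helper12.GL2

variable {F : Type*} [Field F]

local notation "GL2" => Matrix.GeneralLinearGroup (Fin 2)

theorem mem_B2 (g : GL2 F) : g ∈ Cfsg.upperTriangularGL 2 F ↔ g 1 0 = 0 := by
  show (g : Matrix (Fin 2) (Fin 2) F).BlockTriangular id ↔ _
  constructor
  · intro h
    exact h (by decide : (id (0 : Fin 2)) < id 1)
  · intro h i j hij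
    fin_cases i <;> fin_cases j <;> simp at hij
    · exact h

theorem B2_eq : Cfsg.upperTriangularGL 2 F = B F := by
  ext g
  rw [mem_B2, mem_B]

/-- the quadratic form whose zeros are the eigenvectors -/
def Phi (g x : GL2 F) : F :=
  g 1 0 * x 0 0 ^ 2 + (g 1 1 - g 0 0) * x 0 0 * x 1 0 - g 0 1 * x 1 0 ^ 2

theorem fixed_iff (g x : GL2 F) :
    (QuotientGroup.mk x : GL2 F ⧸ Cfsg.upperTriangularGL 2 F) ∈
      MulAction.fixedBy (GL2 F ⧸ Cfsg.upperTriangularGL 2 F) g ↔ Phi g x = 0 := by
  rw [MulAction.mem_fixedBy, MulAction.Quotient.smul_mk, smul_eq_mul, eq_comm, QuotientGroup.eq, mem_B2]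
  have hd := det_ne_zero x
  have : (x⁻¹ * (g * x)) 1 0 = (x : Matrix (Fin 2) (Fin 2) F).det⁻¹ * Phi g x := by
    simp only [mul_apply', inv_apply10, inv_apply11, Phi]
    ring
  rw [this, mul_eq_zero]
  constructor
  · rintro (h | h)
    · exact absurd (inv_eq_zero.mp h) hd
    · exact h
  · intro h
    exact Or.inr h

theorem mk_eq_one_iff (x : GL2 F) :
    (QuotientGroup.mk x : GL2 F ⧸ Cfsg.upperTriangularGL 2 F) = QuotientGroup.mk 1 ↔ x 1 0 = 0 := by
  rw [eq_comm, QuotientGroup.eq, inv_one, one_mul, mem_B2]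


theorem case_scalar [Fintype F] (g : GL2 F) (h10 : g 1 0 = 0) (h01 : g 0 1 = 0) (had : g 0 0 = g 1 1) :
    Nat.card (MulAction.fixedBy (GL2 F ⧸ Cfsg.upperTriangularGL 2 F) g) = Fintype.card F + 1 := by
  have huniv : MulAction.fixedBy (GL2 F ⧸ Cfsg.upperTriangularGL 2 F) g = Set.univ := by
    ext y
    induction y using QuotientGroup.induction_on with
    | H x =>
      simp only [Set.mem_univ, iff_true]
      rw [fixed_iff, Phi, h10, h01, had]
      ring
  rw [huniv, Nat.card_congr (Equiv.Set.univ _)]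
  have h1 := Subgroup.card_mul_index (Cfsg.upperTriangularGL 2 F)
  rw [B2_eq, card_B, card_GL2] at h1
  have hidx : Nat.card (GL2 F ⧸ B F) = (B F).index := rfl
  rw [B2_eq, hidx]
  have hq : 2 ≤ Fintype.card F := Fintype.one_lt_card
  obtain ⟨m, hm⟩ : ∃ m, Fintype.card F = m + 2 := ⟨Fintype.card F - 2, by omega⟩
  rw [hm] at h1 ⊢
  have e1 : (m + 2) ^ 2 - 1 = (m + 1) * (m + 3) := by
    have : (m + 2) ^ 2 = (m + 1) * (m + 3) + 1 := by ring
    omega
  have e2 : (m + 2) ^ 2 - (m + 2) = (m + 2) * (m + 1) := by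
    have : (m + 2) ^ 2 = (m + 2) * (m + 1) + (m + 2) := by ring
    omega
  have e3 : m + 2 - 1 = m + 1 := by omega
  rw [e1, e2, e3] at h1
  have hpos : 0 < (m + 1) ^ 2 * (m + 2) := by positivity
  apply Nat.eq_of_mul_eq_mul_left hpos
  rw [h1]
  ring

/-- the antidiagonal element -/
noncomputable def w : GL2 F := mk 0 1 1 0 (by simp)

theorem case_diag (g : GL2 F) (h01 : g 0 1 = 0) (h10 : g 1 0 = 0) (hne : g 0 0 ≠ g 1 1) :
    Nat.card (MulAction.fixedBy (GL2 F ⧸ Cfsg.upperTriangularGL 2 F) g) = 2 := by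
  have hphi : ∀ x : GL2 F, Phi g x = 0 ↔ x 0 0 = 0 ∨ x 1 0 = 0 := by
    intro x
    rw [Phi, h10, h01]
    have hsub : g 1 1 - g 0 0 ≠ 0 := sub_ne_zero.mpr (Ne.symm hne)
    constructor
    · intro h
      have : (g 1 1 - g 0 0) * (x 0 0 * x 1 0) = 0 := by linear_combination h
      exact mul_eq_zero.mp ((mul_eq_zero.mp this).resolve_left hsub)
    · rintro (h | h) <;> rw [h] <;> ring
  rw [Nat.card_eq_two_iff]
  refine ⟨⟨QuotientGroup.mk 1, (fixed_iff g 1).mpr ((hphi 1).mpr (Or.inr (by simp [one_apply'])))⟩,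
    ⟨QuotientGroup.mk w, (fixed_iff g w).mpr ((hphi w).mpr (Or.inl (by simp [w])))⟩, ?_, ?_⟩
  · intro h
    have h' := congrArg Subtype.val h
    simp only at h'
    rw [eq_comm, mk_eq_one_iff] at h'
    simp [w] at h'
  · ext ⟨y, hy⟩
    simp only [Set.mem_insert_iff, Set.mem_singleton_iff, Subtype.mk.injEq, Set.mem_univ, iff_true]
    induction y using QuotientGroup.induction_on with
    | H x =>
      rcases (hphi x).mp ((fixed_iff g x).mp hy) with h | h
      · right
        rw [eq_comm, QuotientGroup.eq, mem_B2]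
        simp [mul_apply', inv_apply10, inv_apply11, w, h]
      · left
        exact (mk_eq_one_iff x).mpr h

theorem case_noeig (g : GL2 F)
    (hE : ∀ (c : F) (v : Fin 2 → F), v ≠ 0 → (g : Matrix (Fin 2) (Fin 2) F).mulVec v ≠ c • v) :
    Nat.card (MulAction.fixedBy (GL2 F ⧸ Cfsg.upperTriangularGL 2 F) g) = 0 := by
  have hempty : IsEmpty (MulAction.fixedBy (GL2 F ⧸ Cfsg.upperTriangularGL 2 F) g) := by
    constructor
    rintro ⟨y, hy⟩
    induction y using QuotientGroup.induction_on with
    | H x =>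
      have hphi := (fixed_iff g x).mp hy
      rw [Phi] at hphi
      have hd := det_ne_zero x
      rw [det_eq] at hd
      have hv : (![x 0 0, x 1 0] : Fin 2 → F) ≠ 0 := by
        intro h
        have h0 := congrFun h 0
        have h1 := congrFun h 1
        simp at h0 h1
        apply hd
        rw [h0, h1]
        ring
      by_cases h00 : x 0 0 = 0
      · have h10 : x 1 0 ≠ 0 := by
          intro h10
          apply hd
          rw [h00, h10]
          ring
        rw [h00] at hphi
        have hb : g 0 1 = 0 := by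
          have : g 0 1 * x 1 0 ^ 2 = 0 := by linear_combination (-1 : F) * hphi
          exact (mul_eq_zero.mp this).resolve_right (pow_ne_zero 2 h10)
        apply hE (g 1 1) _ hv
        ext i
        fin_cases i <;> simp [Matrix.mulVec, dotProduct, Fin.sum_univ_two, h00, hb]
      · apply hE ((g 0 0 * x 0 0 + g 0 1 * x 1 0) / x 0 0) _ hv
        ext i
        fin_cases i
        · simp [Matrix.mulVec, dotProduct, Fin.sum_univ_two]
          field_simp
        · simp [Matrix.mulVec, dotProduct, Fin.sum_univ_two]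
          field_simp
          linear_combination hphi
  exact Nat.card_of_isEmpty

theorem case_unip (g : GL2 F) (h10 : g 1 0 = 0) (had : g 0 0 = g 1 1) (h01 : g 0 1 ≠ 0) :
    Nat.card (MulAction.fixedBy (GL2 F ⧸ Cfsg.upperTriangularGL 2 F) g) = 1 := by
  have hphi : ∀ x : GL2 F, Phi g x = 0 ↔ x 1 0 = 0 := by
    intro x
    rw [Phi, h10, had]
    constructor
    · intro h
      have : g 0 1 * x 1 0 ^ 2 = 0 := by linear_combination (-1 : F) * h
      exact pow_eq_zero_iff (two_ne_zero) |>.mp ((mul_eq_zero.mp this).resolve_left h01)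
    · intro h
      rw [h]
      ring
  rw [Nat.card_eq_one_iff_exists]
  refine ⟨⟨QuotientGroup.mk 1, (fixed_iff g 1).mpr ((hphi 1).mpr (by simp [one_apply']))⟩, ?_⟩
  rintro ⟨y, hy⟩
  rw [Subtype.mk.injEq]
  induction y using QuotientGroup.induction_on with
  | H x => exact (mk_eq_one_iff x).mpr ((hphi x).mp ((fixed_iff g x).mp hy))


/-- Values of the permutation character of GL₂ over a finite field F with q elements on the cosets of its upper triangular subgroup (equivalently, the number of lines of F² that an element maps to themselves): q + 1 at a scalar matrix, 2 at a diagonal matrix with two different diagonal entries, 0 at an element with no eigenvector in F², and 1 at an upper triangular matrix with equal diagonal entries and non-zero upper right entry. -/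
theorem result {F : Type*} [Field F] [Fintype F] (g : Matrix.GeneralLinearGroup (Fin 2) F) :
    ((∃ a : F, (g : Matrix (Fin 2) (Fin 2) F) = a • (1 : Matrix (Fin 2) (Fin 2) F)) → Cfsg.fixedPointCharacter (Cfsg.upperTriangularGL 2 F) g = Fintype.card F + 1) ∧
    ((g : Matrix (Fin 2) (Fin 2) F) 0 1 = 0 → (g : Matrix (Fin 2) (Fin 2) F) 1 0 = 0 → (g : Matrix (Fin 2) (Fin 2) F) 0 0 ≠ (g : Matrix (Fin 2) (Fin 2) F) 1 1 →
      Cfsg.fixedPointCharacter (Cfsg.upperTriangularGL 2 F) g = 2) ∧
    ((∀ (c : F) (v : Fin 2 → F), v ≠ 0 → (g : Matrix (Fin 2) (Fin 2) F).mulVec v ≠ c • v) → Cfsg.fixedPointCharacter (Cfsg.upperTriangularGL 2 F) g = 0) ∧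
    ((g : Matrix (Fin 2) (Fin 2) F) 1 0 = 0 → (g : Matrix (Fin 2) (Fin 2) F) 0 0 = (g : Matrix (Fin 2) (Fin 2) F) 1 1 → (g : Matrix (Fin 2) (Fin 2) F) 0 1 ≠ 0 →
      Cfsg.fixedPointCharacter (Cfsg.upperTriangularGL 2 F) g = 1) := by
  refine ⟨?_, ?_, ?_, ?_⟩
  · rintro ⟨a, ha⟩
    have h10 : g 1 0 = 0 := by
      have := congrFun (congrFun ha 1) 0
      simpa using this
    have h01 : g 0 1 = 0 := by
      have := congrFun (congrFun ha 0) 1
      simpa using this
    have h00 : g 0 0 = a := by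
      have := congrFun (congrFun ha 0) 0
      simpa using this
    have h11 : g 1 1 = a := by
      have := congrFun (congrFun ha 1) 1
      simpa using this
    show ((Nat.card (MulAction.fixedBy (Matrix.GeneralLinearGroup (Fin 2) F ⧸
      Cfsg.upperTriangularGL 2 F) g) : ℕ) : ℂ) = _
    rw [case_scalar g h10 h01 (h00.trans h11.symm)]
    push_cast
    rfl
  · intro h01 h10 hne
    show ((Nat.card (MulAction.fixedBy (Matrix.GeneralLinearGroup (Fin 2) F ⧸
      Cfsg.upperTriangularGL 2 F) g) : ℕ) : ℂ) = _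
    rw [case_diag g h01 h10 hne]
    norm_num
  · intro hE
    show ((Nat.card (MulAction.fixedBy (Matrix.GeneralLinearGroup (Fin 2) F ⧸
      Cfsg.upperTriangularGL 2 F) g) : ℕ) : ℂ) = _
    rw [case_noeig g hE]
    norm_num
  · intro h10 had h01
    show ((Nat.card (MulAction.fixedBy (Matrix.GeneralLinearGroup (Fin 2) F ⧸
      Cfsg.upperTriangularGL 2 F) g) : ℕ) : ℂ) = _
    rw [case_unip g h10 had h01]
    norm_num

end Cfsg.Agent.S2308
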