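import Cfsg.Statements.S2330
import Mathlib
import Cfsg.Agent.Lib.Helper12.GL2

set_option autoImplicit false
open Cfsg

namespace Cfsg.Agent.S2330

open Cfsg.Agent.Lib.Helper12.GL2

variable {F : Type*} [Field F]

local notation "GL2" => Matrix.GeneralLinearGroup (Fin 2)

/-- companion matrix of `X² - t X + d` -/
noncomputable def comp (t : F) (d : Fˣ) : GL2 F := mk 0 (-(d : F)) 1 t (by simp)

/-- scalar matrix -/
noncomputable def sc (a : Fˣ) : GL2 F := mk a 0 0 a (by simp)

theorem sc_central (a : Fˣ) (x : GL2 F) : x * sc a = sc a * x := by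
  apply ext4 <;> simp [mul_apply', sc] <;> ring

theorem tr_eq_of_isConj {g h : GL2 F} (hc : IsConj g h) : g 0 0 + g 1 1 = h 0 0 + h 1 1 := by
  rw [isConj_iff] at hc
  obtain ⟨x, rfl⟩ := hc
  have := Matrix.trace_units_conj x (g : Matrix (Fin 2) (Fin 2) F)
  rw [Matrix.trace_fin_two, Matrix.trace_fin_two] at this
  exact this.symm

theorem det_eq_of_isConj {g h : GL2 F} (hc : IsConj g h) :
    (g : Matrix (Fin 2) (Fin 2) F).det = (h : Matrix (Fin 2) (Fin 2) F).det := by
  rw [isConj_iff] at hc
  obtain ⟨x, rfl⟩ := hc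
  exact (Matrix.det_units_conj x (g : Matrix (Fin 2) (Fin 2) F)).symm

/-- `det [v | g v]` -/
def Phi (g : GL2 F) (v0 v1 : F) : F :=
  g 1 0 * v0 ^ 2 + (g 1 1 - g 0 0) * v0 * v1 - g 0 1 * v1 ^ 2

theorem isConj_comp_of_Phi (g : GL2 F) (v0 v1 : F) (hv : Phi g v0 v1 ≠ 0) :
    IsConj g (comp (g 0 0 + g 1 1) (Units.mk0 _ (det_ne_zero g))) := by
  have hdet : v0 * (g 1 0 * v0 + g 1 1 * v1) - (g 0 0 * v0 + g 0 1 * v1) * v1 ≠ 0 := by
    intro h
    apply hv
    rw [Phi]
    linear_combination h
  rw [isConj_comm, isConj_iff]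
  refine ⟨mk v0 (g 0 0 * v0 + g 0 1 * v1) v1 (g 1 0 * v0 + g 1 1 * v1) hdet, ?_⟩
  rw [mul_inv_eq_iff_eq_mul]
  apply ext4 <;> simp [mul_apply', comp, det_eq] <;> ring

theorem isConj_comp_of_not_scalar (g : GL2 F) (hg : ¬ (g 0 1 = 0 ∧ g 1 0 = 0 ∧ g 0 0 = g 1 1)) :
    IsConj g (comp (g 0 0 + g 1 1) (Units.mk0 _ (det_ne_zero g))) := by
  by_cases h10 : g 1 0 = 0
  · by_cases h01 : g 0 1 = 0
    · have hne : g 0 0 ≠ g 1 1 := fun h => hg ⟨h01, h10, h⟩
      apply isConj_comp_of_Phi g 1 1
      rw [Phi, h10, h01]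
      intro h
      apply hne
      linear_combination (-1 : F) * h
    · apply isConj_comp_of_Phi g 0 1
      rw [Phi]
      simpa using h01
  · apply isConj_comp_of_Phi g 1 0
    rw [Phi]
    simpa using h10

/-- the parametrization of the conjugacy classes -/
noncomputable def param : (F × Fˣ) ⊕ Fˣ → ConjClasses (GL2 F)
  | Sum.inl td => ConjClasses.mk (comp td.1 td.2)
  | Sum.inr a => ConjClasses.mk (sc a)

theorem param_bijective : Function.Bijective (param : (F × Fˣ) ⊕ Fˣ → ConjClasses (GL2 F)) := by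
  constructor
  · rintro (⟨t, d⟩ | a) (⟨t', d'⟩ | a') h
    · simp only [param, ConjClasses.mk_eq_mk_iff_isConj] at h
      have h1 := tr_eq_of_isConj h
      have h2 := det_eq_of_isConj h
      simp only [det_eq, comp, mk_00, mk_01, mk_10, mk_11] at h1 h2
      have ht : t = t' := by linear_combination h1
      have hd : d = d' := Units.ext (by linear_combination h2)
      rw [ht, hd]
    · exfalso
      simp only [param, ConjClasses.mk_eq_mk_iff_isConj] at h
      rw [isConj_comm, isConj_iff] at h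
      obtain ⟨x, hx⟩ := h
      rw [sc_central, mul_inv_cancel_right] at hx
      have := congrArg (fun y : GL2 F => y 1 0) hx
      simp [sc, comp] at this
    · exfalso
      simp only [param, ConjClasses.mk_eq_mk_iff_isConj] at h
      rw [isConj_iff] at h
      obtain ⟨x, hx⟩ := h
      rw [sc_central, mul_inv_cancel_right] at hx
      have := congrArg (fun y : GL2 F => y 1 0) hx
      simp [sc, comp] at this
    · simp only [param, ConjClasses.mk_eq_mk_iff_isConj] at h
      rw [isConj_iff] at h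
      obtain ⟨x, hx⟩ := h
      rw [sc_central, mul_inv_cancel_right] at hx
      have := congrArg (fun y : GL2 F => y 0 0) hx
      simp only [sc, mk_00] at this
      rw [Units.ext this]
  · intro C
    obtain ⟨g, rfl⟩ := ConjClasses.exists_rep C
    by_cases hg : g 0 1 = 0 ∧ g 1 0 = 0 ∧ g 0 0 = g 1 1
    · obtain ⟨h01, h10, h00⟩ := hg
      have hd := det_ne_zero g
      rw [det_eq, h01, zero_mul, sub_zero] at hd
      refine ⟨Sum.inr (Units.mk0 _ (left_ne_zero_of_mul hd)), ?_⟩
      simp only [param]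
      congr 1
      apply ext4 <;> simp [sc, h01, h10, h00]
    · refine ⟨Sum.inl (g 0 0 + g 1 1, Units.mk0 _ (det_ne_zero g)), ?_⟩
      simp only [param]
      exact (ConjClasses.mk_eq_mk_iff_isConj.mpr (isConj_comp_of_not_scalar g hg)).symm

theorem card_classes [Fintype F] :
    Nat.card (ConjClasses (GL2 F)) = Fintype.card F ^ 2 - 1 := by
  classical
  rw [← Nat.card_congr (Equiv.ofBijective _ (param_bijective (F := F))), Nat.card_sum,
    Nat.card_prod, Nat.card_units, Nat.card_eq_fintype_card]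
  have hq : 1 ≤ Fintype.card F := Fintype.card_pos
  obtain ⟨m, hm⟩ : ∃ m, Fintype.card F = m + 1 := ⟨Fintype.card F - 1, by omega⟩
  rw [hm]
  have : (m + 1) ^ 2 = (m + 1) * m + m + 1 := by ring
  rw [this]
  simp


/-- Over a finite field with q elements, the general linear group GL₂ has exactly q² − 1 conjugacy classes. -/
theorem result {F : Type*} [Field F] [Fintype F] :
    Nat.card (ConjClasses (Matrix.GeneralLinearGroup (Fin 2) F)) = Fintype.card F ^ 2 - 1 := by
  exact card_classes

end Cfsg.Agent.S2330
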