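import Cfsg.Statements.S2352
import Mathlib

set_option autoImplicit false
open Cfsg

namespace Cfsg.Agent.S2352

open Equiv

/-- for `w ≠ 1` there is a finite set carrying permutations on which `w` acts non-trivially -/
theorem exists_finite_action (w : FreeGroup ℕ) (hw : w ≠ 1) :
    ∃ (S : Finset (FreeGroup ℕ)) (σ : ℕ → Perm S), FreeGroup.lift σ w ≠ 1 := by
  classical
  obtain ⟨L, rfl⟩ := Quot.exists_rep w
  change FreeGroup.mk L ≠ 1 at hw
  let S : Finset (FreeGroup ℕ) := (L.tails.map FreeGroup.mk).toFinset
  have hS : ∀ L' : List (ℕ × Bool), L' <:+ L → FreeGroup.mk L' ∈ S := by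
    intro L' h
    simp only [S, List.mem_toFinset, List.mem_map, List.mem_tails]
    exact ⟨L', h, rfl⟩
  let e : ∀ x : ℕ, {u : S // FreeGroup.of x * u.1 ∈ S} ≃ {v : S // (FreeGroup.of x)⁻¹ * v.1 ∈ S} :=
    fun x =>
    { toFun := fun u => ⟨⟨FreeGroup.of x * u.1.1, u.2⟩, by simpa using u.1.2⟩
      invFun := fun v => ⟨⟨(FreeGroup.of x)⁻¹ * v.1.1, v.2⟩, by simpa using v.1.2⟩
      left_inv := fun u => by ext; simp
      right_inv := fun v => by ext; simp }
  let σ : ℕ → Perm S := fun x => (e x).extendSubtype
  refine ⟨S, σ, ?_⟩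
  have h1 : (1 : FreeGroup ℕ) ∈ S := by
    have := hS [] (List.nil_suffix)
    rwa [← FreeGroup.one_eq_mk] at this
  have key : ∀ L' : List (ℕ × Bool), L' <:+ L →
      (((FreeGroup.lift σ (FreeGroup.mk L')) ⟨1, h1⟩ : S) : FreeGroup ℕ) = FreeGroup.mk L' := by
    intro L'
    induction L' with
    | nil =>
      intro _
      simp [← FreeGroup.one_eq_mk]
    | cons l L'' ih =>
      intro hsuf
      have hsuf' : L'' <:+ L := (List.suffix_cons l L'').trans hsuf
      have hmul : FreeGroup.mk (l :: L'') = FreeGroup.mk [l] * FreeGroup.mk L'' := by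
        rw [FreeGroup.mul_mk]; rfl
      have hmem := hS _ hsuf
      rw [hmul] at hmem ⊢
      rw [map_mul, Perm.mul_apply]
      have ih' := ih hsuf'
      generalize (FreeGroup.lift σ (FreeGroup.mk L'')) ⟨1, h1⟩ = u at ih' ⊢
      rw [← ih'] at hmem ⊢
      obtain ⟨x, b⟩ := l
      cases b
      · -- negative letter
        have hx : FreeGroup.mk [(x, false)] = (FreeGroup.of x)⁻¹ := by
          rw [FreeGroup.of, FreeGroup.inv_mk]; rfl
        rw [hx] at hmem ⊢
        rw [map_inv, FreeGroup.lift_apply_of]
        have hp : FreeGroup.of x * ((FreeGroup.of x)⁻¹ * u.1) ∈ S := by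
          simpa using u.2
        have h3 := (e x).extendSubtype_apply_of_mem ⟨(FreeGroup.of x)⁻¹ * u.1, hmem⟩ hp
        have h4 : σ x ⟨(FreeGroup.of x)⁻¹ * u.1, hmem⟩ = u := by
          change (e x).extendSubtype _ = _
          rw [h3]
          ext
          simp [e]
        have h5 : (σ x)⁻¹ u = ⟨(FreeGroup.of x)⁻¹ * u.1, hmem⟩ := by
          rw [Perm.inv_eq_iff_eq, h4]
        rw [h5]
      · -- positive letter
        have hx : FreeGroup.mk [(x, true)] = FreeGroup.of x := rfl
        rw [hx] at hmem ⊢
        rw [FreeGroup.lift_apply_of]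
        have h3 := (e x).extendSubtype_apply_of_mem u hmem
        change ((e x).extendSubtype u : FreeGroup ℕ) = _
        rw [h3]
        rfl
  intro hcontra
  change FreeGroup.lift σ (FreeGroup.mk L) = 1 at hcontra
  have := key L (List.suffix_refl L)
  rw [hcontra] at this
  simp only [Perm.coe_one, id_eq] at this
  exact hw this.symm

/-- embedding the symmetric group on `T` into an alternating group of large degree -/
theorem exists_embedding_alternating (T : Type) [Fintype T] [DecidableEq T] (n : ℕ)
    (hn : 2 * Fintype.card T ≤ n) :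
    ∃ ψ : Perm T →* alternatingGroup (Fin n), Function.Injective ψ := by
  classical
  have hcard : Fintype.card (T ⊕ T) ≤ Fintype.card (Fin n) := by
    simp only [Fintype.card_sum, Fintype.card_fin]; omega
  obtain ⟨ι⟩ := Function.Embedding.nonempty_of_card_le hcard
  let φ : Perm T →* Perm (Fin n) :=
    (Perm.viaEmbeddingHom ι).comp ((Perm.sumCongrHom T T).comp
      (MonoidHom.prod (MonoidHom.id _) (MonoidHom.id _)))
  have hφ : ∀ s : Perm T, φ s ∈ alternatingGroup (Fin n) := by
    intro s
    rw [Perm.mem_alternatingGroup]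
    change Perm.sign (Perm.viaEmbedding (Perm.sumCongr s s) ι) = 1
    unfold Perm.viaEmbedding
    rw [Perm.sign_extendDomain, Perm.sign_sumCongr]
    exact Int.units_mul_self _
  refine ⟨φ.codRestrict _ hφ, ?_⟩
  intro a b hab
  have h1 : φ a = φ b := congrArg Subtype.val hab
  have h2 := Perm.viaEmbeddingHom_injective ι h1
  have h3 := Perm.sumCongrHom_injective h2
  exact congrArg Prod.fst h3

/-- A non-trivial law holds in only finitely many alternating groups: for every non-trivial element w of the free group on countably many generators there is N such that for all n ≥ N some substitution of elements of the alternating group of degree n into w is not the identity. -/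
theorem result (w : FreeGroup ℕ) (hw : w ≠ 1) :
    ∃ N : ℕ, ∀ n : ℕ, N ≤ n → ∃ f : ℕ → alternatingGroup (Fin n), FreeGroup.lift f w ≠ 1 := by
  classical
  obtain ⟨S, σ, hσ⟩ := exists_finite_action w hw
  refine ⟨2 * Fintype.card S, fun n hn => ?_⟩
  obtain ⟨ψ, hψ⟩ := exists_embedding_alternating S n hn
  refine ⟨fun x => ψ (σ x), ?_⟩
  have hcomp : FreeGroup.lift (fun x => ψ (σ x)) = ψ.comp (FreeGroup.lift σ) := by
    apply FreeGroup.ext_hom
    intro x
    simp
  rw [hcomp]
  intro h
  apply hσ
  apply hψ
  rw [map_one]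
  exact h

end Cfsg.Agent.S2352
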