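import Cfsg.Statements.S2353
import Mathlib

set_option autoImplicit false
open Cfsg

namespace Cfsg.Agent.S2353

open Polynomial

section deg

variable {K : Type*} [Field K]

/-- The basic degree step of the ping-pong argument. -/
lemma deg_step {a b f : K[X]} (h : a.degree ≤ b.degree) (hb : b ≠ 0) (hf : 0 < f.natDegree) :
    b.degree < (a + f * b).degree := by
  have hf0 : f ≠ 0 := by
    rintro rfl
    simp at hf
  have h1 : b.degree < (f * b).degree := by
    rw [degree_mul, degree_eq_natDegree hb, degree_eq_natDegree hf0]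
    exact_mod_cast (by omega)
  rw [degree_add_eq_right_of_degree_lt (lt_of_le_of_lt h h1)]
  exact h1

lemma ne_zero_of_deg_lt {a b : K[X]} (h : a.degree < b.degree) : b ≠ 0 := by
  rintro rfl
  simp at h

lemma natDegree_pow_sub_pow {i j : ℕ} (hij : i ≠ j) :
    0 < ((X : K[X]) ^ (i + 1) - X ^ (j + 1)).natDegree := by
  rcases lt_or_gt_of_ne hij with h | h
  · rw [natDegree_sub_eq_right_of_natDegree_lt (by simp; omega)]
    simp
  · rw [natDegree_sub_eq_left_of_natDegree_lt (by simp; omega)]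
    simp

end deg

section gens

variable {R : Type*} [CommRing R]

def gen (f : R) : Matrix.SpecialLinearGroup (Fin 2) R :=
  ⟨!![1 + f * f, f; f, 1], by rw [Matrix.det_fin_two_of]; ring⟩
def rs0 (M : Matrix (Fin 2) (Fin 2) R) : R := M 0 0 + M 0 1
def rs1 (M : Matrix (Fin 2) (Fin 2) R) : R := M 1 0 + M 1 1

lemma rs_gen_mul (f : R) (M : Matrix.SpecialLinearGroup (Fin 2) R) :
    rs0 (gen f * M).1 = rs0 M.1 + f * (rs1 M.1 + f * rs0 M.1) ∧
    rs1 (gen f * M).1 = rs1 M.1 + f * rs0 M.1 := by
  have e : (gen f * M).1 = !![1 + f * f, f; f, 1] * M.1 := rfl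
  rw [e]
  constructor
  · simp [rs0, rs1, Matrix.mul_apply, Fin.sum_univ_two]
    ring
  · simp [rs0, rs1, Matrix.mul_apply, Fin.sum_univ_two]
    ring

lemma rs_gen_inv_mul (f : R) (M : Matrix.SpecialLinearGroup (Fin 2) R) :
    rs0 ((gen f)⁻¹ * M).1 = rs0 M.1 - f * rs1 M.1 ∧
    rs1 ((gen f)⁻¹ * M).1 = rs1 M.1 - f * (rs0 M.1 - f * rs1 M.1) := by
  have e : ((gen f)⁻¹ * M).1 = !![1, -f; -f, 1 + f * f] * M.1 := by
    rw [Matrix.SpecialLinearGroup.coe_mul, Matrix.SpecialLinearGroup.coe_inv]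
    show Matrix.adjugate !![1 + f * f, f; f, 1] * _ = _
    rw [Matrix.adjugate_fin_two_of]
  rw [e]
  constructor
  · simp [rs0, rs1, Matrix.mul_apply, Fin.sum_univ_two]
    ring
  · simp [rs0, rs1, Matrix.mul_apply, Fin.sum_univ_two]
    ring

lemma map_gen {S : Type*} [CommRing S] (φ : R →+* S) (f : R) :
    Matrix.SpecialLinearGroup.map φ (gen f) = gen (φ f) := by
  apply Subtype.ext
  show (φ.mapMatrix !![1 + f * f, f; f, 1]) = !![1 + φ f * φ f, φ f; φ f, 1]
  ext a b
  fin_cases a <;> fin_cases b <;> simp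

lemma rs0_map {S : Type*} [CommRing S] (φ : R →+* S) (M : Matrix.SpecialLinearGroup (Fin 2) R) :
    rs0 (Matrix.SpecialLinearGroup.map φ M).1 = φ (rs0 M.1) := by
  show rs0 (φ.mapMatrix M.1) = _
  simp [rs0]

lemma rs1_map {S : Type*} [CommRing S] (φ : R →+* S) (M : Matrix.SpecialLinearGroup (Fin 2) R) :
    rs1 (Matrix.SpecialLinearGroup.map φ M).1 = φ (rs1 M.1) := by
  show rs1 (φ.mapMatrix M.1) = _
  simp [rs1]

lemma lift_map {S : Type*} [CommRing S] (φ : R →+* S) (a : ℕ → R) (w : FreeGroup ℕ) :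
    FreeGroup.lift (fun i => gen (φ (a i))) w =
      Matrix.SpecialLinearGroup.map φ (FreeGroup.lift (fun i => gen (a i)) w) := by
  have : FreeGroup.lift (fun i => gen (φ (a i))) =
      (Matrix.SpecialLinearGroup.map φ).comp (FreeGroup.lift (fun i => gen (a i))) := by
    ext i
    simp [map_gen]
  rw [this]
  rfl

end gens

section pingpong

variable {K : Type*} [Field K]

/-- The word product. -/
noncomputable def wp (L : List (ℕ × Bool)) : Matrix.SpecialLinearGroup (Fin 2) K[X] :=
  (L.map fun x => cond x.2 (gen ((X : K[X]) ^ (x.1 + 1))) (gen ((X : K[X]) ^ (x.1 + 1)))⁻¹).prod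

/-- The ping-pong invariant. -/
def Inv : List (ℕ × Bool) → K[X] → K[X] → Prop
  | [], x, y => x = 1 ∧ y = 1
  | (j, true) :: _, x, y => (x - X ^ (j + 1) * y).degree < y.degree
  | (j, false) :: _, x, y => (y + X ^ (j + 1) * x).degree < x.degree

lemma inv_true {j : ℕ} {L : List (ℕ × Bool)} {x y : K[X]} (h : Inv ((j, true) :: L) x y) :
    y.degree < x.degree := by
  have h2 : (x - X ^ (j + 1) * y).degree < y.degree := h
  have hy0 := ne_zero_of_deg_lt h2
  have := deg_step h2.le hy0 (f := (X : K[X]) ^ (j + 1)) (by simp)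
  rwa [sub_add_cancel] at this

lemma inv_false {j : ℕ} {L : List (ℕ × Bool)} {x y : K[X]} (h : Inv ((j, false) :: L) x y) :
    x.degree < y.degree := by
  have h2 : (y + X ^ (j + 1) * x).degree < x.degree := h
  have hx0 := ne_zero_of_deg_lt h2
  have := deg_step h2.le hx0 (f := -(X : K[X]) ^ (j + 1)) (by simp)
  have e4 : y + X ^ (j + 1) * x + -X ^ (j + 1) * x = y := by ring
  rwa [e4] at this

lemma step_true (i : ℕ) (L : List (ℕ × Bool)) (hL : FreeGroup.IsReduced ((i, true) :: L))
    (x y : K[X]) (h : Inv L x y) :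
    Inv ((i, true) :: L) (x + X ^ (i + 1) * (y + X ^ (i + 1) * x)) (y + X ^ (i + 1) * x) := by
  show ((x + X ^ (i + 1) * (y + X ^ (i + 1) * x)) - X ^ (i + 1) * (y + X ^ (i + 1) * x)).degree
    < (y + X ^ (i + 1) * x).degree
  have e1 : x + X ^ (i + 1) * (y + X ^ (i + 1) * x) - X ^ (i + 1) * (y + X ^ (i + 1) * x)
      = x := by ring
  rw [e1]
  have hpos : 0 < ((X : K[X]) ^ (i + 1)).natDegree := by simp
  match L, hL, h with
  | [], _, h =>
    obtain ⟨e0, e1'⟩ := h
    subst e0 e1'
    exact deg_step le_rfl one_ne_zero hpos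
  | (j, true) :: L', _, h =>
    have h3 := inv_true h
    exact deg_step h3.le (ne_zero_of_deg_lt h3) hpos
  | (j, false) :: L', hL, h =>
    have hij : i ≠ j := by
      intro hij
      have := (FreeGroup.isReduced_cons_cons.1 hL).1 hij
      simp at this
    have h2 : (y + X ^ (j + 1) * x).degree < x.degree := h
    have hx0 := ne_zero_of_deg_lt h2
    have := deg_step h2.le hx0 (natDegree_pow_sub_pow (K := K) hij)
    have e2 : y + X ^ (j + 1) * x + (X ^ (i + 1) - X ^ (j + 1)) * x
        = y + X ^ (i + 1) * x := by ring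
    rwa [e2] at this

lemma step_false (i : ℕ) (L : List (ℕ × Bool)) (hL : FreeGroup.IsReduced ((i, false) :: L))
    (x y : K[X]) (h : Inv L x y) :
    Inv ((i, false) :: L) (x - X ^ (i + 1) * y) (y - X ^ (i + 1) * (x - X ^ (i + 1) * y)) := by
  show ((y - X ^ (i + 1) * (x - X ^ (i + 1) * y)) + X ^ (i + 1) * (x - X ^ (i + 1) * y)).degree
    < (x - X ^ (i + 1) * y).degree
  have e1 : y - X ^ (i + 1) * (x - X ^ (i + 1) * y) + X ^ (i + 1) * (x - X ^ (i + 1) * y)
      = y := by ring
  rw [e1]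
  have e3 : x - X ^ (i + 1) * y = x + (-X ^ (i + 1)) * y := by ring
  have hposn : 0 < (-(X : K[X]) ^ (i + 1)).natDegree := by simp
  match L, hL, h with
  | [], _, h =>
    obtain ⟨e0, e1'⟩ := h
    subst e0 e1'
    rw [e3]
    exact deg_step le_rfl one_ne_zero hposn
  | (j, false) :: L', _, h =>
    have h3 := inv_false h
    rw [e3]
    exact deg_step h3.le (ne_zero_of_deg_lt h3) hposn
  | (j, true) :: L', hL, h =>
    have hij : i ≠ j := by
      intro hij
      have := (FreeGroup.isReduced_cons_cons.1 hL).1 hij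
      simp at this
    have h2 : (x - X ^ (j + 1) * y).degree < y.degree := h
    have hy0 := ne_zero_of_deg_lt h2
    have := deg_step h2.le hy0 (natDegree_pow_sub_pow (K := K) (Ne.symm hij))
    have e2 : x - X ^ (j + 1) * y + (X ^ (j + 1) - X ^ (i + 1)) * y
        = x - X ^ (i + 1) * y := by ring
    rwa [e2] at this

lemma inv_wp (L : List (ℕ × Bool)) (hL : FreeGroup.IsReduced L) :
    Inv L (rs0 (wp (K := K) L).1) (rs1 (wp (K := K) L).1) := by
  induction L with
  | nil =>
    show rs0 (1 : Matrix (Fin 2) (Fin 2) K[X]) = 1 ∧ rs1 (1 : Matrix (Fin 2) (Fin 2) K[X]) = 1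
    simp [rs0, rs1]
  | cons l L ih =>
    obtain ⟨i, b⟩ := l
    have hL' : FreeGroup.IsReduced L := by
      cases L with
      | nil => simp
      | cons l' L' => exact (FreeGroup.isReduced_cons_cons.1 hL).2
    have ih' := ih hL'
    cases b with
    | true =>
      have hwp : wp (K := K) ((i, true) :: L) = gen ((X : K[X]) ^ (i + 1)) * wp L := by
        simp [wp]
      obtain ⟨h0, h1⟩ := rs_gen_mul ((X : K[X]) ^ (i + 1)) (wp (K := K) L)
      rw [hwp, h0, h1]
      exact step_true i L hL _ _ ih'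
    | false =>
      have hwp : wp (K := K) ((i, false) :: L) = (gen ((X : K[X]) ^ (i + 1)))⁻¹ * wp L := by
        simp [wp]
      obtain ⟨h0, h1⟩ := rs_gen_inv_mul ((X : K[X]) ^ (i + 1)) (wp (K := K) L)
      rw [hwp, h0, h1]
      exact step_false i L hL _ _ ih'

lemma rs_ne (L : List (ℕ × Bool)) (hL : FreeGroup.IsReduced L) (hne : L ≠ []) :
    rs0 (wp (K := K) L).1 ≠ rs1 (wp (K := K) L).1 := by
  have h := inv_wp (K := K) L hL
  match L, hne, h with
  | [], hne, _ => exact absurd rfl hne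
  | (j, true) :: L', _, h =>
    have h3 := inv_true h
    intro e
    rw [e] at h3
    exact lt_irrefl _ h3
  | (j, false) :: L', _, h =>
    have h3 := inv_false h
    intro e
    rw [e] at h3
    exact lt_irrefl _ h3

lemma lift_eq_wp (w : FreeGroup ℕ) :
    FreeGroup.lift (fun i => gen ((X : K[X]) ^ (i + 1))) w = wp (K := K) w.toWord := by
  conv_lhs => rw [← FreeGroup.mk_toWord (x := w)]
  rw [FreeGroup.lift_mk]
  rfl

end pingpong

/-- A non-trivial law holds in PSL_2 over only finitely many finite fields: for every non-trivial element w of the free group on countably many generators there is N such that over every finite field with at least N elements some substitution of elements of PSL_2 into w is not the identity. -/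
theorem result (w : FreeGroup ℕ) (hw : w ≠ 1) :
    ∃ N : ℕ, ∀ (F : Type*) [Field F] [Fintype F], N ≤ Fintype.card F →
      ∃ f : ℕ → Matrix.ProjectiveSpecialLinearGroup (Fin 2) F, FreeGroup.lift f w ≠ 1 := by
  classical
  set MZ : Matrix.SpecialLinearGroup (Fin 2) ℤ[X] :=
    FreeGroup.lift (fun i => gen ((X : ℤ[X]) ^ (i + 1))) w with hMZ
  refine ⟨(rs0 MZ.1 - rs1 MZ.1).natDegree + 1, ?_⟩
  intro F _ _ hN
  set φ : ℤ[X] →+* F[X] := Polynomial.mapRingHom (Int.castRingHom F) with hφ
  set MF : Matrix.SpecialLinearGroup (Fin 2) F[X] :=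
    FreeGroup.lift (fun i => gen ((X : F[X]) ^ (i + 1))) w with hMF
  have hMFZ : MF = Matrix.SpecialLinearGroup.map φ MZ := by
    have := lift_map φ (fun i => (X : ℤ[X]) ^ (i + 1)) w
    rw [← hMZ] at this
    rw [← this, hMF]
    have e : (fun i => gen (φ ((X : ℤ[X]) ^ (i + 1)))) =
        fun i => gen ((X : F[X]) ^ (i + 1)) := by
      funext i
      simp [hφ]
    rw [e]
  set q : F[X] := rs0 MF.1 - rs1 MF.1 with hq
  have hqφ : q = φ (rs0 MZ.1 - rs1 MZ.1) := by
    rw [hq, hMFZ, rs0_map, rs1_map, map_sub]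
  have hqdeg : q.natDegree < Fintype.card F := by
    have : q.natDegree ≤ (rs0 MZ.1 - rs1 MZ.1).natDegree := by
      rw [hqφ, hφ]
      exact Polynomial.natDegree_map_le
    omega
  have hq0 : q ≠ 0 := by
    have hne : w.toWord ≠ [] := by
      intro h
      exact hw (FreeGroup.toWord_eq_nil_iff.1 h)
    have := rs_ne (K := F) w.toWord FreeGroup.isReduced_toWord hne
    rw [← lift_eq_wp] at this
    exact sub_ne_zero.2 this
  obtain ⟨τ, hτ⟩ : ∃ τ : F, q.eval τ ≠ 0 := by
    by_contra hcon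
    push Not at hcon
    exact hq0 (Polynomial.eq_zero_of_natDegree_lt_card_of_eval_eq_zero q
      (f := (id : F → F)) Function.injective_id hcon hqdeg)
  set ψ : F[X] →+* F := Polynomial.evalRingHom τ with hψ
  refine ⟨fun i => QuotientGroup.mk' _ (gen (ψ ((X : F[X]) ^ (i + 1)))), ?_⟩
  have hlift : FreeGroup.lift (fun i => QuotientGroup.mk'
      (Subgroup.center (Matrix.SpecialLinearGroup (Fin 2) F)) (gen (ψ ((X : F[X]) ^ (i + 1))))) w
      = QuotientGroup.mk' _ (Matrix.SpecialLinearGroup.map ψ MF) := by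
    rw [hMF, ← lift_map ψ (fun i => (X : F[X]) ^ (i + 1)) w]
    have : FreeGroup.lift (fun i => QuotientGroup.mk'
        (Subgroup.center (Matrix.SpecialLinearGroup (Fin 2) F))
        (gen (ψ ((X : F[X]) ^ (i + 1))))) =
        (QuotientGroup.mk' (Subgroup.center (Matrix.SpecialLinearGroup (Fin 2) F))).comp
          (FreeGroup.lift (fun i => gen (ψ ((X : F[X]) ^ (i + 1))))) := by
      ext i
      simp
    rw [this]
    rfl
  intro h1
  rw [hlift] at h1
  have hcen : Matrix.SpecialLinearGroup.map ψ MF ∈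
      Subgroup.center (Matrix.SpecialLinearGroup (Fin 2) F) := by
    rwa [QuotientGroup.mk'_apply, QuotientGroup.eq_one_iff] at h1
  obtain ⟨r, -, hr⟩ := Matrix.SpecialLinearGroup.mem_center_iff.1 hcen
  have e0 : rs0 (Matrix.SpecialLinearGroup.map ψ MF).1 = r := by
    rw [← hr]
    simp [rs0]
  have e1 : rs1 (Matrix.SpecialLinearGroup.map ψ MF).1 = r := by
    rw [← hr]
    simp [rs1]
  rw [rs0_map] at e0
  rw [rs1_map] at e1
  apply hτ
  have : ψ q = 0 := by
    rw [hq, map_sub, e0, e1, sub_self]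
  simpa [hψ] using this

end Cfsg.Agent.S2353
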