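import Cfsg.Statements.S2354
import Mathlib
import Cfsg.Agent.Lib.Helper14.SzWordE

set_option autoImplicit false
open Cfsg

namespace Cfsg.Agent.S2354

/-- A non-trivial law holds in only finitely many Suzuki groups: for every non-trivial element w of the free group on countably many generators there is N such that for q = 2^(2m+1) with m ≥ N some substitution of elements of the Suzuki group over the field with q elements into w is not the identity. -/
theorem result (w : FreeGroup ℕ) (hw : w ≠ 1) :
    ∃ N : ℕ, ∀ (F : Type*) [Field F] [Fintype F] (m : ℕ), 1 ≤ m → N ≤ m →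
      Fintype.card F = 2 ^ (2 * m + 1) →
      ∃ f : ℕ → ↥(Cfsg.Lie.Sz F (2 ^ (m + 1))), FreeGroup.lift f w ≠ 1 := by
  obtain ⟨N, hN⟩ := Cfsg.Agent.Lib.Helper14.SzWord.exists_subst_ne_one w hw
  refine ⟨N, ?_⟩
  intro F _ _ m hm hNm hF
  haveI : CharP F 2 := Cfsg.Agent.Lib.Helper14.Sz.charP_two hF
  obtain ⟨g, hg⟩ := hN F m hm hNm hF
  set e := Cfsg.Agent.Lib.Helper14.Sz.szEquiv hm hF with he
  refine ⟨fun i => e (g i), ?_⟩
  have key : FreeGroup.lift (fun i => e (g i)) = e.toMonoidHom.comp (FreeGroup.lift g) := by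
    apply FreeGroup.ext_hom
    intro a
    simp
  rw [key]
  intro h1
  apply hg
  have h2 : e (FreeGroup.lift g w) = 1 := h1
  exact (MulEquiv.map_eq_one_iff e).mp h2

end Cfsg.Agent.S2354
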