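import Cfsg.Statements.S2360
import Mathlib
import Cfsg.Agent.Lib.Helper27.UInvOdd
import Cfsg.Agent.Lib.Helper27.UOrder2
import Cfsg.Agent.S0780
import Cfsg.Agent.S0285

set_option autoImplicit false
open Cfsg

namespace Cfsg.Agent.S2360

open Cfsg.Agent.Lib.Helper27.Unitary Cfsg.Agent.S0780 Matrix

variable {F : Type*} [Field F] [Fintype F] {q : ℕ}

/-- Lifting an element of `GU_3 ∩ SL_3` to `SU_3`. -/
noncomputable def liftSU (g : GL (Fin 3) F)
    (hg : g ∈ GU 3 F q ⊓ Cfsg.Geo.specialLinear (Fin 3) F) : ↥(Cfsg.SU 3 F q) :=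
  Classical.choose (exists_lift hg)

theorem phi_liftSU (g : GL (Fin 3) F)
    (hg : g ∈ GU 3 F q ⊓ Cfsg.Geo.specialLinear (Fin 3) F) : phi 3 F q (liftSU g hg) = g :=
  Classical.choose_spec (exists_lift hg)

theorem xv_mem_SUg (hF : Fintype.card F = q ^ 2) (v : Fin 3 → F)
    (hv : hermForm 3 F q v v ≠ 0) :
    xv q v hv ∈ GU 3 F q ⊓ Cfsg.Geo.specialLinear (Fin 3) F := by
  rw [mem_SUg_iff]
  exact ⟨xv_mem_GU hF v hv, det_xv v hv⟩

theorem xv_congr {v v' : Fin 3 → F} (h : v = v') (hv : hermForm 3 F q v v ≠ 0)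
    (hv' : hermForm 3 F q v' v' ≠ 0) : xv q v hv = xv q v' hv' := by
  subst h
  rfl

theorem xv_ne_one (v : Fin 3 → F) (hv : hermForm 3 F q v v ≠ 0) (h2 : (2 : F) ≠ 0) :
    xv q v hv ≠ 1 := by
  intro h
  have hv0 : v ≠ 0 := by
    rintro rfl
    exact hv (hf_zero_left _)
  have hall : ∀ y : Fin 3 → F, y ∈ Submodule.span F {v} := by
    intro y
    have h1 : gact (xv q v hv) y = y := by rw [h, gact_one]
    rw [xv_gact] at h1
    have h3 : (2 : F) • y = (2 * hermForm 3 F q y v / hermForm 3 F q v v) • v := by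
      rw [two_smul]
      nth_rewrite 2 [← h1]
      abel
    have h4 : y = (2 : F)⁻¹ • ((2 * hermForm 3 F q y v / hermForm 3 F q v v) • v) := by
      rw [← h3, smul_smul, inv_mul_cancel₀ h2, one_smul]
    rw [h4]
    exact Submodule.smul_mem _ _ (Submodule.smul_mem _ _ (Submodule.mem_span_singleton_self v))
  have htop : Submodule.span F {v} = ⊤ := by
    rw [eq_top_iff]
    intro y _
    exact hall y
  have h1 := finrank_span_singleton (K := F) hv0
  rw [htop, finrank_top, Module.finrank_fin_fun] at h1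
  omega

/-- Every involution of `SU_3` is an `x_v`. -/
theorem exists_xv (hF : Fintype.card F = q ^ 2) (h2 : (2 : F) ≠ 0) (x : ↥(Cfsg.SU 3 F q))
    (hx1 : x ≠ 1) (hxx : x * x = 1) :
    ∃ (v : Fin 3 → F) (hv : hermForm 3 F q v v ≠ 0), phi 3 F q x = xv q v hv := by
  have hmem := (mem_SUg_iff _).mp (phi_mem x)
  apply invol_eq_xv hF h2 (phi 3 F q x) hmem.1 hmem.2
  · rw [← map_mul, hxx, map_one]
  · intro h
    apply hx1
    apply phi_injective
    rw [h, map_one]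

/-- All involutions of `SU_3(q)`, `q` odd, are conjugate. -/
theorem invol_conj (hF : Fintype.card F = q ^ 2) (h2 : (2 : F) ≠ 0) (t x : ↥(Cfsg.SU 3 F q))
    (ht1 : t ≠ 1) (htt : t * t = 1) (hx1 : x ≠ 1) (hxx : x * x = 1) :
    ∃ g : ↥(Cfsg.SU 3 F q), g * t * g⁻¹ = x := by
  obtain ⟨v, hv, htv⟩ := exists_xv hF h2 t ht1 htt
  obtain ⟨w, hw, hxw⟩ := exists_xv hF h2 x hx1 hxx
  obtain ⟨g, hg, c, hc, hgv⟩ := su_trans_aniso hF v w hv hw
  obtain ⟨A, hA⟩ := exists_lift hg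
  refine ⟨A, ?_⟩
  apply phi_injective
  have hcw : hermForm 3 F q (c • w) (c • w) ≠ 0 := by
    rw [← hgv, GU_preserves ((mem_SUg_iff g).mp hg).1]
    exact hv
  rw [map_mul, map_mul, map_inv, hA, htv, conj_xv hF ((mem_SUg_iff g).mp hg).1 v hv, hxw,
    xv_congr hgv _ hcw, xv_smul c hc w hw hcw]

/-- Anisotropic vectors. -/
abbrev Aniso (F : Type*) [Field F] (q : ℕ) : Type _ :=
  {v : Fin 3 → F // hermForm 3 F q v v ≠ 0}

/-- Involutions of `SU_3`. -/
abbrev Inv (F : Type*) [Field F] (q : ℕ) : Type _ :=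
  {x : ↥(Cfsg.SU 3 F q) // x ≠ 1 ∧ x * x = 1}

/-- The involution attached to an anisotropic vector. -/
noncomputable def rho (hF : Fintype.card F = q ^ 2) (h2 : (2 : F) ≠ 0) (v : Aniso F q) :
    Inv F q :=
  ⟨liftSU (xv q v.1 v.2) (xv_mem_SUg hF v.1 v.2), by
    intro h
    have := phi_liftSU (xv q v.1 v.2) (xv_mem_SUg hF v.1 v.2)
    rw [h, map_one] at this
    exact xv_ne_one v.1 v.2 h2 this.symm, by
    apply phi_injective
    rw [map_mul, phi_liftSU, xv_sq, map_one]⟩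

theorem phi_rho (hF : Fintype.card F = q ^ 2) (h2 : (2 : F) ≠ 0) (v : Aniso F q) :
    phi 3 F q (rho hF h2 v).1 = xv q v.1 v.2 :=
  phi_liftSU (xv q v.1 v.2) (xv_mem_SUg hF v.1 v.2)

theorem card_fibre (hF : Fintype.card F = q ^ 2) (h2 : (2 : F) ≠ 0) (x : Inv F q) :
    Nat.card {v : Aniso F q // rho hF h2 v = x} = q ^ 2 - 1 := by
  classical
  obtain ⟨v₀, hv₀, hx⟩ := exists_xv hF h2 x.1 x.2.1 x.2.2
  have hv₀0 : v₀ ≠ 0 := by
    rintro rfl
    exact hv₀ (hf_zero_left _)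
  have hcv : ∀ c : Fˣ, hermForm 3 F q ((c : F) • v₀) ((c : F) • v₀) ≠ 0 := by
    intro c
    rw [hf_smul_self]
    exact mul_ne_zero (mul_ne_zero c.ne_zero (pow_ne_zero _ c.ne_zero)) hv₀
  let e : Fˣ → {v : Aniso F q // rho hF h2 v = x} := fun c =>
    ⟨⟨(c : F) • v₀, hcv c⟩, by
      apply Subtype.ext
      apply phi_injective
      rw [phi_rho, hx]
      exact xv_smul (c : F) c.ne_zero v₀ hv₀ (hcv c)⟩
  have he : Function.Bijective e := by
    constructor
    · intro c c' h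
      have h1 : (c : F) • v₀ = (c' : F) • v₀ := congrArg (fun w => w.1.1) h
      apply Units.ext
      exact smul_left_injective F hv₀0 h1
    · rintro ⟨⟨v, hv⟩, hρ⟩
      have h1 : xv q v₀ hv₀ = xv q v hv := by
        rw [← hx, ← hρ, phi_rho]
      have h3 := xv_eq_imp h2 v₀ v hv₀ hv h1
      have hc0 : hermForm 3 F q v v₀ / hermForm 3 F q v₀ v₀ ≠ 0 := by
        intro h0
        rw [h0, zero_smul] at h3
        apply hv
        rw [h3, hf_zero_left]
      refine ⟨Units.mk0 _ hc0, ?_⟩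
      apply Subtype.ext
      apply Subtype.ext
      show ((Units.mk0 _ hc0 : Fˣ) : F) • v₀ = v
      rw [Units.val_mk0]
      exact h3.symm
  rw [← Nat.card_congr (Equiv.ofBijective e he), Nat.card_eq_fintype_card, Fintype.card_units, hF]

theorem card_aniso (hF : Fintype.card F = q ^ 2) :
    Nat.card (Aniso F q) = q ^ 6 - ((q ^ 3 + 1) * (q ^ 2 - 1) + 1) := by
  classical
  have h1 := Cfsg.Agent.S0285.result hF 3
  rw [if_neg (by decide)] at h1
  rw [Nat.card_eq_fintype_card] at h1 ⊢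
  rw [Fintype.card_subtype_compl, h1, Fintype.card_fun, Fintype.card_fin, hF, ← pow_mul]

theorem card_inv_mul (hF : Fintype.card F = q ^ 2) (h2 : (2 : F) ≠ 0) :
    Nat.card (Inv F q) * (q ^ 2 - 1) = q ^ 6 - ((q ^ 3 + 1) * (q ^ 2 - 1) + 1) := by
  classical
  haveI : Fintype (Inv F q) := Fintype.ofFinite _
  rw [← card_aniso hF, Nat.card_congr (Equiv.sigmaFiberEquiv (rho hF h2)).symm, Nat.card_sigma,
    Finset.sum_congr rfl (fun x _ => card_fibre hF h2 x), Finset.sum_const, Finset.card_univ,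
    smul_eq_mul, Nat.card_eq_fintype_card]

theorem arith1 (k N : ℕ) (hk : 1 ≤ k)
    (h : N * ((k + 1) ^ 2 - 1) = (k + 1) ^ 6 - (((k + 1) ^ 3 + 1) * ((k + 1) ^ 2 - 1) + 1)) :
    N = (k + 1) ^ 2 * ((k + 1) ^ 2 - (k + 1) + 1) := by
  have hD : (k + 1) ^ 2 - 1 = k ^ 2 + 2 * k := by
    apply Nat.sub_eq_of_eq_add
    ring
  have hE : (k + 1) ^ 2 - (k + 1) = k ^ 2 + k := by
    apply Nat.sub_eq_of_eq_add
    ring
  rw [hD] at h
  rw [hE]
  have h1 : (k + 1) ^ 6 - (((k + 1) ^ 3 + 1) * (k ^ 2 + 2 * k) + 1) =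
      (k + 1) ^ 2 * (k ^ 2 + k + 1) * (k ^ 2 + 2 * k) := by
    apply Nat.sub_eq_of_eq_add
    ring
  rw [h1] at h
  have hpos : 0 < k ^ 2 + 2 * k := by positivity
  exact Nat.eq_of_mul_eq_mul_right hpos h

theorem card_inv (hF : Fintype.card F = q ^ 2) (h2 : (2 : F) ≠ 0) :
    Nat.card (Inv F q) = q ^ 2 * (q ^ 2 - q + 1) := by
  have hq := two_le_q hF
  obtain ⟨k, rfl⟩ : ∃ k, q = k + 1 := ⟨q - 1, by omega⟩
  exact arith1 k _ (by omega) (card_inv_mul hF h2)

/-- Conjugation action of `SU_3` on its involutions. -/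
instance : MulAction ↥(Cfsg.SU 3 F q) (Inv F q) where
  smul g x := ⟨g * x.1 * g⁻¹, by
    intro h
    apply x.2.1
    have : x.1 = g⁻¹ * (g * x.1 * g⁻¹) * g := by group
    rw [this, h]
    group, by
    have : g * x.1 * g⁻¹ * (g * x.1 * g⁻¹) = g * (x.1 * x.1) * g⁻¹ := by group
    rw [this, x.2.2, mul_one, mul_inv_cancel]⟩
  one_smul x := by
    apply Subtype.ext
    show 1 * x.1 * 1⁻¹ = x.1
    rw [one_mul, inv_one, mul_one]
  mul_smul g h x := by
    apply Subtype.ext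
    show g * h * x.1 * (g * h)⁻¹ = g * (h * x.1 * h⁻¹) * g⁻¹
    group

theorem smul_coe (g : ↥(Cfsg.SU 3 F q)) (x : Inv F q) : (g • x).1 = g * x.1 * g⁻¹ := rfl

theorem card_SU3 (hF : Fintype.card F = q ^ 2) :
    (q + 1) * Nat.card ↥(Cfsg.SU 3 F q) = q ^ 3 * ((q + 1) * (q ^ 2 - 1) * (q ^ 3 + 1)) := by
  rw [card_SU_mul hF (by norm_num), card_GU hF 3]
  have e0 : Even 0 := by decide
  have e1 : ¬ Even 1 := by decide
  have e2 : Even 2 := by decide
  rw [Finset.prod_range_succ, Finset.prod_range_succ, Finset.prod_range_one, if_pos e0,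
    if_neg e1, if_pos e2]
  norm_num

theorem arith2 (k C S : ℕ) (hk : 1 ≤ k)
    (h1 : C * ((k + 1) ^ 2 * ((k + 1) ^ 2 - (k + 1) + 1)) = S)
    (h2 : (k + 1 + 1) * S = (k + 1) ^ 3 * ((k + 1 + 1) * ((k + 1) ^ 2 - 1) * ((k + 1) ^ 3 + 1))) :
    C = (k + 1) * (k + 1 + 1) * ((k + 1) ^ 2 - 1) := by
  have hD : (k + 1) ^ 2 - 1 = k ^ 2 + 2 * k := by
    apply Nat.sub_eq_of_eq_add
    ring
  have hE : (k + 1) ^ 2 - (k + 1) = k ^ 2 + k := by
    apply Nat.sub_eq_of_eq_add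
    ring
  rw [hD] at h2 ⊢
  rw [hE] at h1
  rw [← h1] at h2
  have hpos : 0 < (k + 1 + 1) * ((k + 1) ^ 2 * (k ^ 2 + k + 1)) := by positivity
  apply Nat.eq_of_mul_eq_mul_right hpos
  calc C * ((k + 1 + 1) * ((k + 1) ^ 2 * (k ^ 2 + k + 1)))
      = (k + 1 + 1) * (C * ((k + 1) ^ 2 * (k ^ 2 + k + 1))) := by ring
    _ = (k + 1) ^ 3 * ((k + 1 + 1) * (k ^ 2 + 2 * k) * ((k + 1) ^ 3 + 1)) := h2
    _ = (k + 1) * (k + 1 + 1) * (k ^ 2 + 2 * k) *
        ((k + 1 + 1) * ((k + 1) ^ 2 * (k ^ 2 + k + 1))) := by ring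

theorem card_centralizer (hF : Fintype.card F = q ^ 2) (h2 : (2 : F) ≠ 0)
    (t : ↥(Cfsg.SU 3 F q)) (ht : t ≠ 1) (ht2 : t * t = 1) :
    Nat.card ↥(Subgroup.centralizer ({t} : Set ↥(Cfsg.SU 3 F q))) =
      q * (q + 1) * (q ^ 2 - 1) := by
  have htrans : MulAction.IsPretransitive ↥(Cfsg.SU 3 F q) (Inv F q) := by
    constructor
    intro x y
    obtain ⟨g, hg⟩ := invol_conj hF h2 x.1 y.1 x.2.1 x.2.2 y.2.1 y.2.2
    exact ⟨g, Subtype.ext hg⟩
  have hstab : MulAction.stabilizer ↥(Cfsg.SU 3 F q) (⟨t, ht, ht2⟩ : Inv F q) =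
      Subgroup.centralizer ({t} : Set ↥(Cfsg.SU 3 F q)) := by
    ext g
    rw [MulAction.mem_stabilizer_iff, Subgroup.mem_centralizer_iff]
    constructor
    · intro h s hs
      rw [Set.mem_singleton_iff] at hs
      subst hs
      have h1 : g * s * g⁻¹ = s := congrArg Subtype.val h
      rw [mul_inv_eq_iff_eq_mul] at h1
      exact h1.symm
    · intro h
      apply Subtype.ext
      show g * t * g⁻¹ = t
      rw [mul_inv_eq_iff_eq_mul]
      exact (h t (Set.mem_singleton t)).symm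
  have h1 := Subgroup.card_mul_index
    (MulAction.stabilizer ↥(Cfsg.SU 3 F q) (⟨t, ht, ht2⟩ : Inv F q))
  rw [MulAction.index_stabilizer_of_transitive, hstab, card_inv hF h2] at h1
  have h3 := card_SU3 hF
  have hq := two_le_q hF
  obtain ⟨k, rfl⟩ : ∃ k, q = k + 1 := ⟨q - 1, by omega⟩
  exact arith2 k _ _ (by omega) h1 h3

/-- Commuting involutions `x_v`, `x_w` are equal or have `v ⊥ w`. -/
theorem comm_xv (hF : Fintype.card F = q ^ 2) (h2 : (2 : F) ≠ 0) (v w : Fin 3 → F)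
    (hv : hermForm 3 F q v v ≠ 0) (hw : hermForm 3 F q w w ≠ 0)
    (hc : xv q v hv * xv q w hw = xv q w hw * xv q v hv) :
    xv q v hv = xv q w hw ∨ hermForm 3 F q v w = 0 := by
  by_cases hvw : hermForm 3 F q w v = 0
  · right
    exact hf_eq_zero_swap hF hvw
  left
  have h1 : xv q v hv * xv q w hw * (xv q v hv)⁻¹ = xv q w hw := by
    rw [hc, mul_inv_cancel_right]
  rw [conj_xv hF (xv_mem_GU hF v hv) w hw] at h1
  have h3 := xv_eq_imp h2 w (gact (xv q v hv) w) hw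
    (by rw [GU_preserves (xv_mem_GU hF v hv)]; exact hw) h1.symm
  obtain ⟨c, hc'⟩ : ∃ c, c = hermForm 3 F q (gact (xv q v hv) w) w / hermForm 3 F q w w :=
    ⟨_, rfl⟩
  rw [← hc', xv_gact] at h3
  -- `v` is a multiple of `w`
  have hne : 2 * hermForm 3 F q w v / hermForm 3 F q v v ≠ 0 :=
    div_ne_zero (mul_ne_zero h2 hvw) hv
  have h4 : v = ((2 * hermForm 3 F q w v / hermForm 3 F q v v)⁻¹ * (c + 1)) • w := by
    have h5 : (2 * hermForm 3 F q w v / hermForm 3 F q v v) • v = (c + 1) • w := by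
      rw [add_smul, one_smul, ← h3]
      abel
    rw [← smul_smul, ← h5, smul_smul, inv_mul_cancel₀ hne, one_smul]
  have hd0 : (2 * hermForm 3 F q w v / hermForm 3 F q v v)⁻¹ * (c + 1) ≠ 0 := by
    intro h0
    rw [h0, zero_smul] at h4
    apply hv
    rw [h4, hf_zero_left]
  have hdw : hermForm 3 F q (((2 * hermForm 3 F q w v / hermForm 3 F q v v)⁻¹ * (c + 1)) • w)
      (((2 * hermForm 3 F q w v / hermForm 3 F q v v)⁻¹ * (c + 1)) • w) ≠ 0 := by
    rw [← h4]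
    exact hv
  rw [xv_congr h4 hv hdw, xv_smul _ hd0 w hw hdw]

/-- The involution orthogonal to two orthogonal ones is unique. -/
theorem xv_unique (hF : Fintype.card F = q ^ 2) (v w u u' : Fin 3 → F)
    (hv : hermForm 3 F q v v ≠ 0) (hw : hermForm 3 F q w w ≠ 0)
    (hu : hermForm 3 F q u u ≠ 0) (hu' : hermForm 3 F q u' u' ≠ 0)
    (hvw : hermForm 3 F q v w = 0) (hvu : hermForm 3 F q v u = 0)
    (hwu : hermForm 3 F q w u = 0) (hvu' : hermForm 3 F q v u' = 0)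
    (hwu' : hermForm 3 F q w u' = 0) : xv q u' hu' = xv q u hu := by
  have h := expand_three hF v w u hv hw hu hvw hvu hwu u'
  rw [hf_eq_zero_swap hF hvu', hf_eq_zero_swap hF hwu', zero_div, zero_div, zero_smul, zero_smul,
    zero_add, zero_add] at h
  have hc0 : hermForm 3 F q u' u / hermForm 3 F q u u ≠ 0 := by
    intro h0
    rw [h0, zero_smul] at h
    apply hu'
    rw [h, hf_zero_left]
  have hcu : hermForm 3 F q ((hermForm 3 F q u' u / hermForm 3 F q u u) • u)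
      ((hermForm 3 F q u' u / hermForm 3 F q u u) • u) ≠ 0 := by
    rw [← h]
    exact hu'
  rw [xv_congr h hu' hcu, xv_smul _ hc0 u hu hcu]

theorem third_involution (hF : Fintype.card F = q ^ 2) (h2 : (2 : F) ≠ 0)
    (t : ↥(Cfsg.SU 3 F q)) (ht : t ≠ 1) (ht2 : t * t = 1)
    (x : ↥(Cfsg.SU 3 F q)) (hx1 : x ≠ 1) (hxx : x * x = 1) (hxt : x ≠ t) (hcomm : Commute t x) :
    Nat.card {y : ↥(Cfsg.SU 3 F q) // y ≠ 1 ∧ y * y = 1 ∧ y ≠ t ∧ y ≠ x ∧ Commute t y ∧
      Commute x y} = 1 := by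
  rw [Nat.card_eq_one_iff_unique]
  obtain ⟨v, hv, htv⟩ := exists_xv hF h2 t ht ht2
  obtain ⟨w, hw, hxw⟩ := exists_xv hF h2 x hx1 hxx
  have hvw : hermForm 3 F q v w = 0 := by
    have hc : xv q v hv * xv q w hw = xv q w hw * xv q v hv := by
      rw [← htv, ← hxw, ← map_mul, ← map_mul, hcomm.eq]
    rcases comm_xv hF h2 v w hv hw hc with h | h
    · exfalso
      apply hxt
      apply phi_injective
      rw [hxw, htv, h]
    · exact h
  refine ⟨⟨?_⟩, ⟨⟨t * x, ?_, ?_, ?_, ?_, ?_, ?_⟩⟩⟩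
  · rintro ⟨y₁, h11, h12, h1t, h1x, hc1t, hc1x⟩ ⟨y₂, h21, h22, h2t, h2x, hc2t, hc2x⟩
    apply Subtype.ext
    show y₁ = y₂
    obtain ⟨u₁, hu₁, hy₁⟩ := exists_xv hF h2 y₁ h11 h12
    obtain ⟨u₂, hu₂, hy₂⟩ := exists_xv hF h2 y₂ h21 h22
    have key : ∀ (y : ↥(Cfsg.SU 3 F q)) (u : Fin 3 → F) (hu : hermForm 3 F q u u ≠ 0)
        (hy : phi 3 F q y = xv q u hu) (s : ↥(Cfsg.SU 3 F q)) (z : Fin 3 → F)
        (hz : hermForm 3 F q z z ≠ 0) (hs : phi 3 F q s = xv q z hz) (hys : y ≠ s)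
        (hc : Commute s y), hermForm 3 F q z u = 0 := by
      intro y u hu hy s z hz hs hys hc
      have hc' : xv q z hz * xv q u hu = xv q u hu * xv q z hz := by
        rw [← hs, ← hy, ← map_mul, ← map_mul, hc.eq]
      rcases comm_xv hF h2 z u hz hu hc' with h | h
      · exfalso
        apply hys
        apply phi_injective
        rw [hy, hs, h]
      · exact h
    have hvu₁ := key y₁ u₁ hu₁ hy₁ t v hv htv h1t hc1t
    have hwu₁ := key y₁ u₁ hu₁ hy₁ x w hw hxw h1x hc1x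
    have hvu₂ := key y₂ u₂ hu₂ hy₂ t v hv htv h2t hc2t
    have hwu₂ := key y₂ u₂ hu₂ hy₂ x w hw hxw h2x hc2x
    apply phi_injective
    rw [hy₁, hy₂]
    exact (xv_unique hF v w u₁ u₂ hv hw hu₁ hu₂ hvw hvu₁ hwu₁ hvu₂ hwu₂).symm
  · intro h
    apply hxt
    have : x = t⁻¹ := eq_inv_of_mul_eq_one_right h
    rw [this]
    exact inv_eq_of_mul_eq_one_left ht2
  · have : t * x * (t * x) = (t * t) * (x * x) := by
      rw [mul_assoc, ← mul_assoc x, ← hcomm.eq]
      group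
    rw [this, ht2, hxx, one_mul]
  · intro h
    apply hx1
    have : t * x = t * 1 := by rw [mul_one]; exact h
    exact mul_left_cancel this
  · intro h
    apply ht
    have : t * x = 1 * x := by rw [one_mul]; exact h
    exact mul_right_cancel this
  · show t * (t * x) = t * x * t
    rw [mul_assoc, hcomm.eq]
  · show x * (t * x) = t * x * x
    rw [← mul_assoc, hcomm.eq]

/-- Let q be odd, F the field with q² elements and S = SU_3(F) (determinant-one isometries of the standard Hermitian form). Then all involutions of S are conjugate; there are exactly q²(q²−q+1) of them; the centralizer of an involution has order q(q+1)(q²−1), the order of the full unitary group of degree 2; and for two distinct commuting involutions t and x there is exactly one further involution commuting with both. -/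
theorem result {F : Type*} [Field F] [Fintype F] {q : ℕ} (hq : Odd q)
    (hF : Fintype.card F = q ^ 2) (t : ↥(Cfsg.SU 3 F q)) (ht : t ≠ 1) (ht2 : t * t = 1) :
    (∀ x : ↥(Cfsg.SU 3 F q), x ≠ 1 → x * x = 1 → ∃ g : ↥(Cfsg.SU 3 F q), g * t * g⁻¹ = x) ∧
    Nat.card {x : ↥(Cfsg.SU 3 F q) // x ≠ 1 ∧ x * x = 1} = q ^ 2 * (q ^ 2 - q + 1) ∧
    Nat.card ↥(Subgroup.centralizer ({t} : Set ↥(Cfsg.SU 3 F q))) = q * (q + 1) * (q ^ 2 - 1) ∧
    ∀ x : ↥(Cfsg.SU 3 F q), x ≠ 1 → x * x = 1 → x ≠ t → Commute t x →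
      Nat.card {y : ↥(Cfsg.SU 3 F q) // y ≠ 1 ∧ y * y = 1 ∧ y ≠ t ∧ y ≠ x ∧ Commute t y ∧ Commute x y} = 1 := by
  have h2 : (2 : F) ≠ 0 := two_ne_zero_of_odd hF hq
  refine ⟨fun x hx1 hxx => invol_conj hF h2 t x ht ht2 hx1 hxx, card_inv hF h2,
    card_centralizer hF h2 t ht ht2, fun x hx1 hxx hxt hc => ?_⟩
  exact third_involution hF h2 t ht ht2 x hx1 hxx hxt hc

end Cfsg.Agent.S2360
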