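import Cfsg.Statements.S2356
import Mathlib
import Cfsg.Agent.S2360

set_option autoImplicit false
open Cfsg

namespace Cfsg.Agent.S2356

open Cfsg.Agent.Lib.Helper27.Unitary Cfsg.Agent.S0780 Cfsg.Agent.S2360 Matrix

variable {F : Type*} [Field F] [Fintype F] {q : ℕ}

/-! ### Generic counting -/

theorem card_split {α : Type*} [Finite α] (P : α → Prop) :
    Nat.card α = Nat.card {x // P x} + Nat.card {x // ¬ P x} := by
  classical
  haveI := Fintype.ofFinite α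
  rw [Nat.card_eq_fintype_card, Nat.card_eq_fintype_card, Nat.card_eq_fintype_card,
    Fintype.card_subtype_compl]
  have := Fintype.card_subtype_le P
  omega

theorem card_split2 {α : Type*} [Finite α] (P Q : α → Prop) :
    Nat.card {x // P x} = Nat.card {x // P x ∧ Q x} + Nat.card {x // P x ∧ ¬ Q x} := by
  rw [card_split (fun x : {x // P x} => Q x.1)]
  congr 1
  · exact Nat.card_congr (Equiv.subtypeSubtypeEquivSubtypeInter P Q)
  · exact Nat.card_congr (Equiv.subtypeSubtypeEquivSubtypeInter P (fun x => ¬ Q x))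

theorem card_fibres {α β : Type*} [Finite α] [Finite β] (f : α → β) (k : ℕ)
    (hk : ∀ b, Nat.card {a // f a = b} = k) : Nat.card α = Nat.card β * k := by
  classical
  haveI := Fintype.ofFinite β
  rw [Nat.card_congr (Equiv.sigmaFiberEquiv f).symm, Nat.card_sigma,
    Finset.sum_congr rfl (fun x _ => hk x), Finset.sum_const, Finset.card_univ, smul_eq_mul,
    Nat.card_eq_fintype_card]

/-! ### The parametrisation of involutions -/

/-- The parametrisation of involutions by anisotropic vectors, twisted by `h`. -/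
noncomputable def psi (hF : Fintype.card F = q ^ 2) (h2 : (2 : F) ≠ 0) (h : ↥(Cfsg.SU 3 F q))
    (a : Aniso F q) : Inv F q := h • rho hF h2 a

theorem rho_eq_iff (hF : Fintype.card F = q ^ 2) (h2 : (2 : F) ≠ 0) (a b : Aniso F q) :
    rho hF h2 a = rho hF h2 b ↔ ∃ c : F, b.1 = c • a.1 := by
  constructor
  · intro h
    have h1 : xv q a.1 a.2 = xv q b.1 b.2 := by
      rw [← phi_rho hF h2 a, ← phi_rho hF h2 b, h]
    exact ⟨_, xv_eq_imp h2 a.1 b.1 a.2 b.2 h1⟩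
  · rintro ⟨c, hc⟩
    apply Subtype.ext
    apply phi_injective
    rw [phi_rho, phi_rho]
    have hc0 : c ≠ 0 := by
      rintro rfl
      rw [zero_smul] at hc
      apply b.2
      rw [hc, hf_zero_left]
    have hcv : hermForm 3 F q (c • a.1) (c • a.1) ≠ 0 := by rw [← hc]; exact b.2
    rw [xv_congr hc b.2 hcv, xv_smul c hc0 a.1 a.2 hcv]

theorem xv_comm_of_perp (hF : Fintype.card F = q ^ 2) (v w : Fin 3 → F)
    (hv : hermForm 3 F q v v ≠ 0) (hw : hermForm 3 F q w w ≠ 0)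
    (hvw : hermForm 3 F q w v = 0) :
    xv q v hv * xv q w hw = xv q w hw * xv q v hv := by
  have h1 := conj_xv hF (xv_mem_GU hF v hv) w hw
  have h3 : gact (xv q v hv) w = (-1 : F) • w := by rw [xv_perp v hv hvw, neg_one_smul]
  have hw' : hermForm 3 F q ((-1 : F) • w) ((-1 : F) • w) ≠ 0 := by
    rw [← h3, GU_preserves (xv_mem_GU hF v hv)]
    exact hw
  rw [xv_congr h3 _ hw', xv_smul (-1) (neg_ne_zero.mpr one_ne_zero) w hw hw'] at h1
  calc xv q v hv * xv q w hw = (xv q v hv * xv q w hw * (xv q v hv)⁻¹) * xv q v hv := by group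
    _ = xv q w hw * xv q v hv := by rw [h1]

theorem rho_comm_iff (hF : Fintype.card F = q ^ 2) (h2 : (2 : F) ≠ 0) (a b : Aniso F q) :
    Commute (rho hF h2 a).1 (rho hF h2 b).1 ↔
      rho hF h2 a = rho hF h2 b ∨ hermForm 3 F q a.1 b.1 = 0 := by
  constructor
  · intro hc
    have hc' : xv q a.1 a.2 * xv q b.1 b.2 = xv q b.1 b.2 * xv q a.1 a.2 := by
      rw [← phi_rho hF h2 a, ← phi_rho hF h2 b, ← map_mul, ← map_mul, hc.eq]
    rcases comm_xv hF h2 a.1 b.1 a.2 b.2 hc' with h | h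
    · left
      apply Subtype.ext
      apply phi_injective
      rw [phi_rho, phi_rho, h]
    · right
      exact h
  · rintro (h | h)
    · rw [h]
    · rw [commute_iff_eq]
      apply phi_injective
      rw [map_mul, map_mul, phi_rho, phi_rho]
      exact xv_comm_of_perp hF a.1 b.1 a.2 b.2 (hf_eq_zero_swap hF h)

section Psi

variable (hF : Fintype.card F = q ^ 2) (h2 : (2 : F) ≠ 0) (h : ↥(Cfsg.SU 3 F q))

theorem psi_eq_iff (a b : Aniso F q) :
    psi hF h2 h a = psi hF h2 h b ↔ ∃ c : F, b.1 = c • a.1 := by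
  unfold psi
  rw [(MulAction.injective h).eq_iff]
  exact rho_eq_iff hF h2 a b

theorem psi_comm_iff (a b : Aniso F q) :
    Commute (psi hF h2 h a).1 (psi hF h2 h b).1 ↔
      psi hF h2 h a = psi hF h2 h b ∨ hermForm 3 F q a.1 b.1 = 0 := by
  have h1 : Commute (psi hF h2 h a).1 (psi hF h2 h b).1 ↔
      Commute (rho hF h2 a).1 (rho hF h2 b).1 := by
    unfold psi
    rw [smul_coe, smul_coe]
    exact Commute.conj_iff h
  rw [h1, rho_comm_iff, psi_eq_iff, rho_eq_iff]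

theorem psi_fibre (x : Inv F q) :
    Nat.card {a : Aniso F q // psi hF h2 h a = x} = q ^ 2 - 1 := by
  rw [← card_fibre hF h2 (h⁻¹ • x)]
  apply Nat.card_congr
  apply Equiv.subtypeEquivRight
  intro a
  unfold psi
  exact smul_eq_iff_eq_inv_smul h

theorem psi_surj (x : Inv F q) : ∃ a : Aniso F q, psi hF h2 h a = x := by
  obtain ⟨v, hv, hx⟩ := exists_xv hF h2 (h⁻¹ • x).1 (h⁻¹ • x).2.1 (h⁻¹ • x).2.2
  refine ⟨⟨v, hv⟩, ?_⟩
  unfold psi
  rw [smul_eq_iff_eq_inv_smul]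
  apply Subtype.ext
  apply phi_injective
  rw [phi_rho, hx]

theorem card_param (R : Inv F q → Prop) :
    Nat.card {a : Aniso F q // R (psi hF h2 h a)} =
      Nat.card {x : Inv F q // R x} * (q ^ 2 - 1) := by
  apply card_fibres (fun a : {a : Aniso F q // R (psi hF h2 h a)} =>
    (⟨psi hF h2 h a.1, a.2⟩ : {x : Inv F q // R x}))
  intro x
  rw [← psi_fibre hF h2 h x.1]
  apply Nat.card_congr
  exact
    { toFun := fun a => ⟨a.1.1, congrArg Subtype.val a.2⟩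
      invFun := fun a => ⟨⟨a.1, by rw [a.2]; exact x.2⟩, Subtype.ext a.2⟩
      left_inv := fun a => rfl
      right_inv := fun a => rfl }

theorem comm_of_perp (a b : Aniso F q) (hab : hermForm 3 F q a.1 b.1 = 0) :
    Commute (psi hF h2 h a).1 (psi hF h2 h b).1 :=
  (psi_comm_iff hF h2 h a b).mpr (Or.inr hab)

end Psi

/-! ### Coordinates -/

theorem hf3 (u v : Fin 3 → F) :
    hermForm 3 F q u v = u 0 * v 0 ^ q + u 1 * v 1 ^ q + u 2 * v 2 ^ q := by
  unfold hermForm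
  rw [Fin.sum_univ_three]

theorem hf2 (u v : Fin 2 → F) :
    hermForm 2 F q u v = u 0 * v 0 ^ q + u 1 * v 1 ^ q := by
  unfold hermForm
  rw [Fin.sum_univ_two]

theorem hf_succ {n : ℕ} (u v : Fin (n + 1) → F) :
    hermForm (n + 1) F q u v =
      u 0 * v 0 ^ q + hermForm n F q (Fin.tail u) (Fin.tail v) := by
  unfold hermForm
  rw [Fin.sum_univ_succ]
  rfl

/-- An anisotropic vector given by coordinates. -/
def mk3 (x y z : F) (hxyz : x * x ^ q + y * y ^ q + z * z ^ q ≠ 0) : Aniso F q :=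
  ⟨![x, y, z], by rw [hf3]; simpa using hxyz⟩

theorem hf_mk3_left (x y z : F) (hxyz : x * x ^ q + y * y ^ q + z * z ^ q ≠ 0)
    (b : Fin 3 → F) :
    hermForm 3 F q (mk3 x y z hxyz).1 b = x * b 0 ^ q + y * b 1 ^ q + z * b 2 ^ q := by
  rw [hf3]
  rfl

theorem hf_mk3_right (x y z : F) (hxyz : x * x ^ q + y * y ^ q + z * z ^ q ≠ 0)
    (b : Fin 3 → F) :
    hermForm 3 F q b (mk3 x y z hxyz).1 = b 0 * x ^ q + b 1 * y ^ q + b 2 * z ^ q := by
  rw [hf3]
  rfl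

/-- The base vector. -/
def e0 (F : Type*) [Field F] [Fintype F] (q : ℕ) : Aniso F q := mk3 1 0 0 (by simp)

theorem span_e0_iff (a : Fin 3 → F) :
    (∃ c : F, a = c • (e0 F q).1) ↔ a 1 = 0 ∧ a 2 = 0 := by
  constructor
  · rintro ⟨c, rfl⟩
    simp [e0, mk3]
  · rintro ⟨h1, h2⟩
    refine ⟨a 0, ?_⟩
    funext i
    fin_cases i
    · simp [e0, mk3]
    · simpa [e0, mk3] using h1
    · simpa [e0, mk3] using h2

theorem q_ne_zero (hF : Fintype.card F = q ^ 2) : q ≠ 0 := by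
  have := two_le_q hF
  omega

/-- Existence of a common neighbour. -/
def E (t x : ↥(Cfsg.SU 3 F q)) : Prop :=
  ∃ y : ↥(Cfsg.SU 3 F q), y ≠ 1 ∧ y * y = 1 ∧ Commute t y ∧ Commute y x

theorem iso_perp (hF : Fintype.card F = q ^ 2) (a1 a2 u1 u2 : F) (hN : a1 * a1 ^ q + a2 * a2 ^ q = 0)
    (hne : ¬ (a1 = 0 ∧ a2 = 0)) (hp : u1 * a1 ^ q + u2 * a2 ^ q = 0) :
    u1 * u1 ^ q + u2 * u2 ^ q = 0 := by
  have hq0 := q_ne_zero hF
  have ha1 : a1 ≠ 0 := by
    intro h0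
    apply hne
    refine ⟨h0, ?_⟩
    rw [h0, zero_pow hq0, mul_zero, zero_add] at hN
    rcases mul_eq_zero.mp hN with h' | h'
    · exact h'
    · exact (pow_eq_zero_iff hq0).mp h'
  have hXq : u1 ^ q * a1 + u2 ^ q * a2 = 0 := by
    have h3 : (u1 * a1 ^ q + u2 * a2 ^ q) ^ q = 0 ^ q := by rw [hp]
    rw [cj_add hF, mul_pow, mul_pow, cj_cj hF, cj_cj hF, cj_zero hF] at h3
    exact h3
  have h4 : (u1 * u1 ^ q + u2 * u2 ^ q) * (a1 * a1 ^ q) = 0 := by
    linear_combination (u1 ^ q * a1) * hp - (u2 * a2 ^ q) * hXq + (u2 * u2 ^ q) * hN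
  rcases mul_eq_zero.mp h4 with h5 | h5
  · exact h5
  · exfalso
    exact mul_ne_zero ha1 (pow_ne_zero _ ha1) h5

/-! ### Counting vectors -/

theorem card_iso2 (hF : Fintype.card F = q ^ 2) : Nat.card {b : Fin 2 → F // hermForm 2 F q b b = 0} =
    (q ^ 2 - 1) * (q + 1) + 1 := by
  have h1 := Cfsg.Agent.S0285.result hF 2
  rw [if_pos (by decide)] at h1
  rw [h1, show (2 - 1 : ℕ) = 1 from rfl, pow_one]

theorem card_iso2_nz (hF : Fintype.card F = q ^ 2) : Nat.card {b : Fin 2 → F // b ≠ 0 ∧ hermForm 2 F q b b = 0} =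
    (q ^ 2 - 1) * (q + 1) := by
  have h1 := card_split2 (fun b : Fin 2 → F => hermForm 2 F q b b = 0) (fun b => b = 0)
  rw [card_iso2 hF] at h1
  have h3 : Nat.card {b : Fin 2 → F // hermForm 2 F q b b = 0 ∧ b = 0} = 1 := by
    rw [Nat.card_eq_one_iff_unique]
    refine ⟨⟨?_⟩, ⟨⟨0, hf_zero_left _, rfl⟩⟩⟩
    rintro ⟨b, -, rfl⟩ ⟨b', -, rfl⟩
    rfl
  have h4 : Nat.card {b : Fin 2 → F // hermForm 2 F q b b = 0 ∧ ¬ b = 0} =
      Nat.card {b : Fin 2 → F // b ≠ 0 ∧ hermForm 2 F q b b = 0} :=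
    Nat.card_congr (Equiv.subtypeEquivRight (fun b => by rw [and_comm]))
  omega

theorem card_aniso2 (hF : Fintype.card F = q ^ 2) : Nat.card {b : Fin 2 → F // hermForm 2 F q b b ≠ 0} =
    q ^ 4 - ((q ^ 2 - 1) * (q + 1) + 1) := by
  classical
  have h1 := card_iso2 hF
  rw [Nat.card_eq_fintype_card] at h1 ⊢
  rw [Fintype.card_subtype_compl, h1, Fintype.card_fun, Fintype.card_fin, hF, ← pow_mul]

theorem card_setA (hF : Fintype.card F = q ^ 2) : Nat.card {a : Aniso F q // a.1 0 = 0} =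
    q ^ 4 - ((q ^ 2 - 1) * (q + 1) + 1) := by
  have hq0 := q_ne_zero hF
  rw [← card_aniso2 hF]
  apply Nat.card_congr
  exact
    { toFun := fun a => ⟨Fin.tail a.1.1, by
        have h1 := a.1.2
        rw [hf_succ, a.2, zero_mul, zero_add] at h1
        exact h1⟩
      invFun := fun b => ⟨⟨Fin.cons 0 b.1, by
        rw [hf_succ, Fin.cons_zero, Fin.tail_cons, zero_mul, zero_add]
        exact b.2⟩, by
        show (Fin.cons 0 b.1 : Fin 3 → F) 0 = 0
        exact Fin.cons_zero _ _⟩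
      left_inv := fun a => by
        apply Subtype.ext
        apply Subtype.ext
        have h0 : a.1.1 0 = 0 := a.2
        calc Fin.cons 0 (Fin.tail a.1.1) = Fin.cons (a.1.1 0) (Fin.tail a.1.1) := by rw [h0]
          _ = a.1.1 := Fin.cons_self_tail _
      right_inv := fun b => by
        apply Subtype.ext
        show Fin.tail (Fin.cons 0 b.1 : Fin 3 → F) = b.1
        exact Fin.tail_cons _ _ }

theorem card_setC (hF : Fintype.card F = q ^ 2) : Nat.card {a : Aniso F q // a.1 0 ≠ 0 ∧ Fin.tail a.1 ≠ 0 ∧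
      hermForm 2 F q (Fin.tail a.1) (Fin.tail a.1) = 0} =
    (q ^ 2 - 1) * ((q ^ 2 - 1) * (q + 1)) := by
  classical
  have hq0 := q_ne_zero hF
  have e : {a : Aniso F q // a.1 0 ≠ 0 ∧ Fin.tail a.1 ≠ 0 ∧
      hermForm 2 F q (Fin.tail a.1) (Fin.tail a.1) = 0} ≃
      Fˣ × {b : Fin 2 → F // b ≠ 0 ∧ hermForm 2 F q b b = 0} :=
    { toFun := fun a => (Units.mk0 (a.1.1 0) a.2.1, ⟨Fin.tail a.1.1, a.2.2.1, a.2.2.2⟩)
      invFun := fun p => ⟨⟨Fin.cons (p.1 : F) p.2.1, by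
        rw [hf_succ, Fin.cons_zero, Fin.tail_cons, p.2.2.2, add_zero]
        exact mul_ne_zero p.1.ne_zero (pow_ne_zero _ p.1.ne_zero)⟩, by
        refine ⟨?_, ?_, ?_⟩
        · show (Fin.cons (p.1 : F) p.2.1 : Fin 3 → F) 0 ≠ 0
          rw [Fin.cons_zero]
          exact p.1.ne_zero
        · show Fin.tail (Fin.cons (p.1 : F) p.2.1 : Fin 3 → F) ≠ 0
          rw [Fin.tail_cons]
          exact p.2.2.1
        · show hermForm 2 F q (Fin.tail (Fin.cons (p.1 : F) p.2.1 : Fin 3 → F))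
            (Fin.tail (Fin.cons (p.1 : F) p.2.1 : Fin 3 → F)) = 0
          rw [Fin.tail_cons]
          exact p.2.2.2⟩
      left_inv := fun a => by
        apply Subtype.ext
        apply Subtype.ext
        show Fin.cons (a.1.1 0) (Fin.tail a.1.1) = a.1.1
        exact Fin.cons_self_tail _
      right_inv := fun p => by
        apply Prod.ext
        · apply Units.ext
          show (Fin.cons (p.1 : F) p.2.1 : Fin 3 → F) 0 = p.1
          exact Fin.cons_zero _ _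
        · apply Subtype.ext
          show Fin.tail (Fin.cons (p.1 : F) p.2.1 : Fin 3 → F) = p.2.1
          exact Fin.tail_cons _ _ }
  rw [Nat.card_congr e, Nat.card_prod, card_iso2_nz hF, Nat.card_eq_fintype_card,
    Fintype.card_units, hF]

theorem tail_ne_zero_iff (a : Fin 3 → F) : Fin.tail a ≠ 0 ↔ ¬ (a 1 = 0 ∧ a 2 = 0) := by
  constructor
  · intro h1 h3
    apply h1
    funext i
    fin_cases i
    · exact h3.1
    · exact h3.2
  · intro h1 h3
    apply h1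
    exact ⟨congrFun h3 0, congrFun h3 1⟩

theorem hf2_tail (a : Fin 3 → F) :
    hermForm 2 F q (Fin.tail a) (Fin.tail a) = a 1 * a 1 ^ q + a 2 * a 2 ^ q := by
  rw [hf2]
  rfl


section Main

variable (hF : Fintype.card F = q ^ 2) (h2 : (2 : F) ≠ 0) (h : ↥(Cfsg.SU 3 F q))

theorem psi_e0_eq_iff (a : Aniso F q) :
    psi hF h2 h (e0 F q) = psi hF h2 h a ↔ a.1 1 = 0 ∧ a.1 2 = 0 := by
  rw [psi_eq_iff, span_e0_iff]

theorem comm_e0_iff (a : Aniso F q) :
    Commute (psi hF h2 h (e0 F q)).1 (psi hF h2 h a).1 ↔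
      (a.1 1 = 0 ∧ a.1 2 = 0) ∨ a.1 0 = 0 := by
  rw [psi_comm_iff, psi_e0_eq_iff]
  have h1 : hermForm 3 F q (e0 F q).1 a.1 = a.1 0 ^ q := by
    unfold e0
    rw [hf_mk3_left]
    ring
  rw [h1, pow_eq_zero_iff (q_ne_zero hF)]

theorem E_iff (a : Aniso F q) (ha0 : a.1 0 ≠ 0) (ha12 : ¬ (a.1 1 = 0 ∧ a.1 2 = 0)) :
    E (psi hF h2 h (e0 F q)).1 (psi hF h2 h a).1 ↔
      a.1 1 * a.1 1 ^ q + a.1 2 * a.1 2 ^ q ≠ 0 := by
  have hq0 := q_ne_zero hF
  constructor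
  · rintro ⟨y, hy1, hyy, hty, hyx⟩ hN
    obtain ⟨u, hu⟩ := psi_surj hF h2 h ⟨y, hy1, hyy⟩
    have hy : y = (psi hF h2 h u).1 := by rw [hu]
    subst hy
    rcases (comm_e0_iff hF h2 h u).mp hty with hu12 | hu0
    · -- `y = t`
      have heq := (psi_e0_eq_iff hF h2 h u).mpr hu12
      rw [← heq] at hyx
      rcases (comm_e0_iff hF h2 h a).mp hyx with h' | h'
      · exact ha12 h'
      · exact ha0 h'
    · rcases (psi_comm_iff hF h2 h u a).mp hyx with h' | h'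
      · obtain ⟨c, hc⟩ := (psi_eq_iff hF h2 h u a).mp h'
        apply ha0
        rw [hc, Pi.smul_apply, hu0, smul_zero]
      · rw [hf3, hu0, zero_mul, zero_add] at h'
        have h6 := iso_perp hF (a.1 1) (a.1 2) (u.1 1) (u.1 2) hN ha12 h'
        apply u.2
        rw [hf3, hu0, zero_mul, zero_add, h6]
  · intro hN
    have hu : (0 : F) * 0 ^ q + a.1 2 ^ q * (a.1 2 ^ q) ^ q + (-(a.1 1 ^ q)) * (-(a.1 1 ^ q)) ^ q ≠ 0 := by
      rw [cj_neg hF, cj_cj hF, cj_cj hF]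
      intro h0
      apply hN
      linear_combination h0
    refine ⟨(psi hF h2 h (mk3 0 (a.1 2 ^ q) (-(a.1 1 ^ q)) hu)).1,
      (psi hF h2 h _).2.1, (psi hF h2 h _).2.2, ?_, ?_⟩
    · apply comm_of_perp
      unfold e0
      rw [hf_mk3_left]
      simp [mk3, hq0]
    · apply comm_of_perp
      rw [hf_mk3_left]
      ring

end Main

/-! ### Assembly -/

/-- Subtype conversion. -/
def invSub (R : ↥(Cfsg.SU 3 F q) → Prop) :
    {x : ↥(Cfsg.SU 3 F q) // x ≠ 1 ∧ x * x = 1 ∧ R x} ≃ {x : Inv F q // R x.1} where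
  toFun x := ⟨⟨x.1, x.2.1, x.2.2.1⟩, x.2.2.2⟩
  invFun x := ⟨x.1.1, x.1.2.1, x.1.2.2, x.2⟩
  left_inv _ := rfl
  right_inv _ := rfl

theorem partition (t : ↥(Cfsg.SU 3 F q)) (ht : t ≠ 1) (ht2 : t * t = 1) :
    Nat.card (Inv F q) = 1 + Nat.card {x : Inv F q // x.1 ≠ t ∧ Commute t x.1} +
      Nat.card {x : Inv F q // ¬ Commute t x.1 ∧ E t x.1} +
      Nat.card {x : Inv F q // ¬ Commute t x.1 ∧ ¬ E t x.1} := by
  have h1 := card_split (fun x : Inv F q => Commute t x.1)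
  have h3 := card_split2 (fun x : Inv F q => Commute t x.1) (fun x => x.1 = t)
  have h4 := card_split2 (fun x : Inv F q => ¬ Commute t x.1) (fun x => E t x.1)
  have h5 : Nat.card {x : Inv F q // Commute t x.1 ∧ x.1 = t} = 1 := by
    rw [Nat.card_eq_one_iff_unique]
    refine ⟨⟨?_⟩, ⟨⟨⟨t, ht, ht2⟩, Commute.refl t, rfl⟩⟩⟩
    rintro ⟨x, -, hx⟩ ⟨y, -, hy⟩
    apply Subtype.ext
    apply Subtype.ext
    show x.1 = y.1
    rw [hx, hy]
  have h6 : Nat.card {x : Inv F q // Commute t x.1 ∧ ¬ x.1 = t} =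
      Nat.card {x : Inv F q // x.1 ≠ t ∧ Commute t x.1} :=
    Nat.card_congr (Equiv.subtypeEquivRight (fun b => by rw [and_comm]))
  omega

section Main2

variable (hF : Fintype.card F = q ^ 2) (h2 : (2 : F) ≠ 0) (h : ↥(Cfsg.SU 3 F q))

theorem countA_mul :
    Nat.card {x : Inv F q // x.1 ≠ (psi hF h2 h (e0 F q)).1 ∧
      Commute (psi hF h2 h (e0 F q)).1 x.1} * (q ^ 2 - 1) =
      q ^ 4 - ((q ^ 2 - 1) * (q + 1) + 1) := by
  rw [← card_param hF h2 h (fun x => x.1 ≠ (psi hF h2 h (e0 F q)).1 ∧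
    Commute (psi hF h2 h (e0 F q)).1 x.1), ← card_setA hF]
  apply Nat.card_congr
  apply Equiv.subtypeEquivRight
  intro a
  rw [comm_e0_iff]
  constructor
  · rintro ⟨hne, hc | hc⟩
    · exfalso
      apply hne
      rw [(psi_e0_eq_iff hF h2 h a).mpr hc]
    · exact hc
  · intro h0
    refine ⟨?_, Or.inr h0⟩
    intro heq
    have h12 := (psi_e0_eq_iff hF h2 h a).mp (Subtype.ext heq.symm)
    apply a.2
    rw [hf3, h0, h12.1, h12.2]
    simp

theorem countC_mul :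
    Nat.card {x : Inv F q // ¬ Commute (psi hF h2 h (e0 F q)).1 x.1 ∧
      ¬ E (psi hF h2 h (e0 F q)).1 x.1} * (q ^ 2 - 1) =
      (q ^ 2 - 1) * ((q ^ 2 - 1) * (q + 1)) := by
  rw [← card_param hF h2 h (fun x => ¬ Commute (psi hF h2 h (e0 F q)).1 x.1 ∧
    ¬ E (psi hF h2 h (e0 F q)).1 x.1), ← card_setC hF]
  apply Nat.card_congr
  apply Equiv.subtypeEquivRight
  intro a
  rw [comm_e0_iff, tail_ne_zero_iff, hf2_tail]
  constructor
  · rintro ⟨hnc, hnE⟩
    have ha0 : a.1 0 ≠ 0 := fun h0 => hnc (Or.inr h0)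
    have ha12 : ¬ (a.1 1 = 0 ∧ a.1 2 = 0) := fun h' => hnc (Or.inl h')
    refine ⟨ha0, ha12, ?_⟩
    by_contra hN
    exact hnE ((E_iff hF h2 h a ha0 ha12).mpr hN)
  · rintro ⟨ha0, ha12, hN⟩
    refine ⟨?_, ?_⟩
    · rintro (h' | h')
      · exact ha12 h'
      · exact ha0 h'
    · intro hE
      exact (E_iff hF h2 h a ha0 ha12).mp hE hN

theorem diam (x : Inv F q) :
    ∃ y z : ↥(Cfsg.SU 3 F q), y ≠ 1 ∧ y * y = 1 ∧ z ≠ 1 ∧ z * z = 1 ∧
      Commute (psi hF h2 h (e0 F q)).1 y ∧ Commute y z ∧ Commute z x.1 := by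
  have hq0 := q_ne_zero hF
  obtain ⟨a, rfl⟩ := psi_surj hF h2 h x
  by_cases hc : Commute (psi hF h2 h (e0 F q)).1 (psi hF h2 h a).1
  · exact ⟨_, _, (psi hF h2 h (e0 F q)).2.1, (psi hF h2 h (e0 F q)).2.2,
      (psi hF h2 h (e0 F q)).2.1, (psi hF h2 h (e0 F q)).2.2, Commute.refl _, Commute.refl _, hc⟩
  rw [comm_e0_iff] at hc
  have ha0 : a.1 0 ≠ 0 := fun h0 => hc (Or.inr h0)
  have ha12 : ¬ (a.1 1 = 0 ∧ a.1 2 = 0) := fun h' => hc (Or.inl h')
  by_cases hN : a.1 1 * a.1 1 ^ q + a.1 2 * a.1 2 ^ q ≠ 0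
  · obtain ⟨y, hy1, hyy, hty, hyx⟩ := (E_iff hF h2 h a ha0 ha12).mpr hN
    exact ⟨y, _, hy1, hyy, (psi hF h2 h a).2.1, (psi hF h2 h a).2.2, hty, hyx, Commute.refl _⟩
  rw [not_not] at hN
  by_cases hN02 : a.1 0 * a.1 0 ^ q + a.1 2 * a.1 2 ^ q ≠ 0
  · have hu : a.1 2 ^ q * (a.1 2 ^ q) ^ q + (0 : F) * 0 ^ q +
        (-(a.1 0 ^ q)) * (-(a.1 0 ^ q)) ^ q ≠ 0 := by
      rw [cj_neg hF, cj_cj hF, cj_cj hF]
      intro h0
      apply hN02
      linear_combination h0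
    have he1 : (0 : F) * 0 ^ q + 1 * 1 ^ q + 0 * 0 ^ q ≠ 0 := by simp
    refine ⟨(psi hF h2 h (mk3 0 1 0 he1)).1,
      (psi hF h2 h (mk3 (a.1 2 ^ q) 0 (-(a.1 0 ^ q)) hu)).1,
      (psi hF h2 h _).2.1, (psi hF h2 h _).2.2, (psi hF h2 h _).2.1, (psi hF h2 h _).2.2,
      ?_, ?_, ?_⟩
    · apply comm_of_perp
      unfold e0
      rw [hf_mk3_left]
      simp [mk3, hq0]
    · apply comm_of_perp
      rw [hf_mk3_left]
      simp [mk3, hq0]
    · apply comm_of_perp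
      rw [hf_mk3_left]
      ring
  · rw [not_not] at hN02
    have hN01 : a.1 0 * a.1 0 ^ q + a.1 1 * a.1 1 ^ q ≠ 0 := by
      intro h0
      have h3 : (2 : F) * (a.1 0 * a.1 0 ^ q) = 0 := by
        linear_combination hN02 + h0 - hN
      rcases mul_eq_zero.mp h3 with h' | h'
      · exact h2 h'
      · exact mul_ne_zero ha0 (pow_ne_zero _ ha0) h'
    have hu : a.1 1 ^ q * (a.1 1 ^ q) ^ q + (-(a.1 0 ^ q)) * (-(a.1 0 ^ q)) ^ q +
        (0 : F) * 0 ^ q ≠ 0 := by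
      rw [cj_neg hF, cj_cj hF, cj_cj hF]
      intro h0
      apply hN01
      linear_combination h0
    have he2 : (0 : F) * 0 ^ q + 0 * 0 ^ q + 1 * 1 ^ q ≠ 0 := by simp
    refine ⟨(psi hF h2 h (mk3 0 0 1 he2)).1,
      (psi hF h2 h (mk3 (a.1 1 ^ q) (-(a.1 0 ^ q)) 0 hu)).1,
      (psi hF h2 h _).2.1, (psi hF h2 h _).2.2, (psi hF h2 h _).2.1, (psi hF h2 h _).2.2,
      ?_, ?_, ?_⟩
    · apply comm_of_perp
      unfold e0
      rw [hf_mk3_left]
      simp [mk3, hq0]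
    · apply comm_of_perp
      rw [hf_mk3_left]
      simp [mk3, hq0]
    · apply comm_of_perp
      rw [hf_mk3_left]
      ring

end Main2

theorem arithA (k NA : ℕ) (hk : 1 ≤ k)
    (hA : NA * ((k + 1) ^ 2 - 1) = (k + 1) ^ 4 - (((k + 1) ^ 2 - 1) * (k + 1 + 1) + 1)) :
    NA = (k + 1) * (k + 1 - 1) := by
  have hD : (k + 1) ^ 2 - 1 = k ^ 2 + 2 * k := by
    apply Nat.sub_eq_of_eq_add
    ring
  rw [hD] at hA
  have h1 : (k + 1) ^ 4 - ((k ^ 2 + 2 * k) * (k + 1 + 1) + 1) = (k ^ 2 + k) * (k ^ 2 + 2 * k) := by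
    apply Nat.sub_eq_of_eq_add
    ring
  rw [h1] at hA
  have hpos : 0 < k ^ 2 + 2 * k := by positivity
  rw [Nat.add_sub_cancel]
  have := Nat.eq_of_mul_eq_mul_right hpos hA
  rw [this]
  ring

theorem arithC (k NC : ℕ) (hk : 1 ≤ k)
    (hC : NC * ((k + 1) ^ 2 - 1) = ((k + 1) ^ 2 - 1) * (((k + 1) ^ 2 - 1) * (k + 1 + 1))) :
    NC = (k + 1 + 1) * ((k + 1) ^ 2 - 1) := by
  have hD : (k + 1) ^ 2 - 1 = k ^ 2 + 2 * k := by
    apply Nat.sub_eq_of_eq_add
    ring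
  rw [hD] at hC ⊢
  have hpos : 0 < k ^ 2 + 2 * k := by positivity
  apply Nat.eq_of_mul_eq_mul_right hpos
  rw [hC]
  ring

theorem arithB (k N NA NB NC : ℕ) (hN : N = (k + 2) ^ 2 * ((k + 2) ^ 2 - (k + 2) + 1))
    (hA : NA = (k + 2) * (k + 2 - 1)) (hC : NC = (k + 2 + 1) * ((k + 2) ^ 2 - 1))
    (hsum : N = 1 + NA + NB + NC) : NB = (k + 2) * (k + 2 - 2) * ((k + 2) ^ 2 - 1) := by
  have hD : (k + 2) ^ 2 - 1 = k ^ 2 + 4 * k + 3 := by
    apply Nat.sub_eq_of_eq_add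
    ring
  have hE : (k + 2) ^ 2 - (k + 2) = k ^ 2 + 3 * k + 2 := by
    apply Nat.sub_eq_of_eq_add
    ring
  have h1 : k + 2 - 1 = k + 1 := by omega
  have h3 : k + 2 - 2 = k := by omega
  rw [hD] at hC ⊢
  rw [hE] at hN
  rw [h1] at hA
  rw [h3]
  have key : (k + 2) ^ 2 * (k ^ 2 + 3 * k + 2 + 1) =
      1 + (k + 2) * (k + 1) + (k + 2) * k * (k ^ 2 + 4 * k + 3) +
        (k + 2 + 1) * (k ^ 2 + 4 * k + 3) := by ring
  rw [hN, hA, hC] at hsum
  omega

theorem main_e0 (hF : Fintype.card F = q ^ 2) (h2 : (2 : F) ≠ 0) (h : ↥(Cfsg.SU 3 F q)) :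
    Nat.card {x : Inv F q // x.1 ≠ (psi hF h2 h (e0 F q)).1 ∧
      Commute (psi hF h2 h (e0 F q)).1 x.1} = q * (q - 1) ∧
    Nat.card {x : Inv F q // ¬ Commute (psi hF h2 h (e0 F q)).1 x.1 ∧
      E (psi hF h2 h (e0 F q)).1 x.1} = q * (q - 2) * (q ^ 2 - 1) ∧
    Nat.card {x : Inv F q // ¬ Commute (psi hF h2 h (e0 F q)).1 x.1 ∧
      ¬ E (psi hF h2 h (e0 F q)).1 x.1} = (q + 1) * (q ^ 2 - 1) := by
  have hq := two_le_q hF
  have hA := countA_mul hF h2 h
  have hC := countC_mul hF h2 h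
  have hP := partition (psi hF h2 h (e0 F q)).1 (psi hF h2 h (e0 F q)).2.1
    (psi hF h2 h (e0 F q)).2.2
  rw [card_inv hF h2] at hP
  obtain ⟨k, rfl⟩ : ∃ k, q = k + 2 := ⟨q - 2, by omega⟩
  have hA' := arithA (k + 1) _ (by omega) hA
  have hC' := arithC (k + 1) _ (by omega) hC
  refine ⟨hA', ?_, hC'⟩
  exact arithB k _ _ _ _ rfl hA' hC' hP

/-- Let q be odd, F the field with q² elements, S = SU_3(F) (determinant-one isometries of the standard Hermitian form) and t an involution of S. Then: exactly q(q−1) involutions other than t commute with t; exactly q(q−2)(q²−1) involutions do not commute with t but commute with some involution commuting with t; exactly (q+1)(q²−1) involutions x do not commute with t and admit no involution commuting with both t and x; and every involution can be reached from t in at most three steps, each step going to an involution that commutes with the previous one (the commuting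 involution graph is connected of diameter 3). -/
theorem result {F : Type*} [Field F] [Fintype F] {q : ℕ} (hq : Odd q)
    (hF : Fintype.card F = q ^ 2) (t : ↥(Cfsg.SU 3 F q)) (ht : t ≠ 1) (ht2 : t * t = 1) :
    Nat.card {x : ↥(Cfsg.SU 3 F q) // x ≠ 1 ∧ x * x = 1 ∧ x ≠ t ∧ Commute t x} = q * (q - 1) ∧
    Nat.card {x : ↥(Cfsg.SU 3 F q) // x ≠ 1 ∧ x * x = 1 ∧ ¬ Commute t x ∧
        ∃ y : ↥(Cfsg.SU 3 F q), y ≠ 1 ∧ y * y = 1 ∧ Commute t y ∧ Commute y x} = q * (q - 2) * (q ^ 2 - 1) ∧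
    Nat.card {x : ↥(Cfsg.SU 3 F q) // x ≠ 1 ∧ x * x = 1 ∧ ¬ Commute t x ∧
        ∀ y : ↥(Cfsg.SU 3 F q), y ≠ 1 → y * y = 1 → ¬ (Commute t y ∧ Commute y x)} = (q + 1) * (q ^ 2 - 1) ∧
    ∀ x : ↥(Cfsg.SU 3 F q), x ≠ 1 → x * x = 1 →
      ∃ y z : ↥(Cfsg.SU 3 F q), y ≠ 1 ∧ y * y = 1 ∧ z ≠ 1 ∧ z * z = 1 ∧
        Commute t y ∧ Commute y z ∧ Commute z x := by
  have h2 : (2 : F) ≠ 0 := two_ne_zero_of_odd hF hq
  obtain ⟨h, hh⟩ := invol_conj hF h2 (rho hF h2 (e0 F q)).1 t (rho hF h2 (e0 F q)).2.1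
    (rho hF h2 (e0 F q)).2.2 ht ht2
  have ht' : (psi hF h2 h (e0 F q)).1 = t := hh
  subst ht'
  obtain ⟨hA, hB, hC⟩ := main_e0 hF h2 h
  refine ⟨?_, ?_, ?_, ?_⟩
  · rw [Nat.card_congr (invSub (fun x => x ≠ (psi hF h2 h (e0 F q)).1 ∧
      Commute (psi hF h2 h (e0 F q)).1 x))]
    exact hA
  · rw [Nat.card_congr (invSub (fun x => ¬ Commute (psi hF h2 h (e0 F q)).1 x ∧
      ∃ y : ↥(Cfsg.SU 3 F q), y ≠ 1 ∧ y * y = 1 ∧ Commute (psi hF h2 h (e0 F q)).1 y ∧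
        Commute y x))]
    exact hB
  · rw [← hC]
    apply Nat.card_congr
    refine (invSub (fun x => ¬ Commute (psi hF h2 h (e0 F q)).1 x ∧
      ∀ y : ↥(Cfsg.SU 3 F q), y ≠ 1 → y * y = 1 →
        ¬ (Commute (psi hF h2 h (e0 F q)).1 y ∧ Commute y x))).trans ?_
    apply Equiv.subtypeEquivRight
    intro x
    unfold E
    constructor
    · rintro ⟨h1, h3⟩
      refine ⟨h1, ?_⟩
      rintro ⟨y, hy1, hyy, hty, hyx⟩
      exact h3 y hy1 hyy ⟨hty, hyx⟩
    · rintro ⟨h1, h3⟩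
      refine ⟨h1, ?_⟩
      intro y hy1 hyy ⟨hty, hyx⟩
      exact h3 ⟨y, hy1, hyy, hty, hyx⟩
  · intro x hx1 hxx
    exact diam hF h2 h ⟨x, hx1, hxx⟩

end Cfsg.Agent.S2356
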