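import Cfsg.Statements.S2366
import Mathlib
import Cfsg.Agent.Lib.Helper19.SpecThreeU5

set_option autoImplicit false
open Cfsg

namespace Cfsg.Agent.S2366

open Cfsg.Agent.Lib.Helper19.SpecThree

/-- The set of element orders of PSU(3, q) for an odd prime power q = p^n: writing d = gcd(3, q + 1), a positive integer is the order of some element exactly when it divides one of q + 1, p(q + 1)/d, (q² − 1)/d, (q² − q + 1)/d. -/
theorem result {F : Type*} [Field F] [Fintype F] (p : ℕ) [Fact p.Prime] [CharP F p] (hp : p ≠ 2) (q : ℕ) (hF : Fintype.card F = q ^ 2) :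
    Set.range (orderOf : Cfsg.PSU 3 F q → ℕ) =
      {s : ℕ | s ∣ q + 1} ∪ {s : ℕ | s ∣ p * (q + 1) / Nat.gcd 3 (q + 1)} ∪
        {s : ℕ | s ∣ (q ^ 2 - 1) / Nat.gcd 3 (q + 1)} ∪ {s : ℕ | s ∣ (q ^ 2 - q + 1) / Nat.gcd 3 (q + 1)} := by
  classical
  have hdq : Nat.gcd 3 (q + 1) ∣ q + 1 := Nat.gcd_dvd_right _ _
  haveI : Finite (Cfsg.PSU 3 F q) := by
    haveI : Finite ↥(Cfsg.SU 3 F q) := inferInstance
    infer_instance
  ext m
  simp only [Set.mem_range, Set.mem_union, Set.mem_setOf_eq]
  constructor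
  · rintro ⟨g, rfl⟩
    rcases psu_sub p hp q hF g with h | h | h | h
    · left; left; left; exact h
    · left; right; exact h
    · right; exact h
    · left; left; right
      rw [Nat.mul_div_assoc _ hdq]
      exact h
  · intro hm
    have key : ∀ M : ℕ, (∃ g : Cfsg.PSU 3 F q, orderOf g = M) → m ∣ M →
        ∃ g : Cfsg.PSU 3 F q, orderOf g = m := by
      rintro M ⟨g, hg⟩ hmM
      refine ⟨g ^ (M / m), ?_⟩
      have hM0 : orderOf g ≠ 0 := (orderOf_pos g).ne'
      rw [← hg] at hmM ⊢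
      exact orderOf_pow_orderOf_div hM0 hmM
    rcases hm with ((h | h) | h) | h
    · exact key _ (exists_Ua hF) h
    · exact key _ (exists_Ub p hF) h
    · exact key _ (exists_Uc hF) h
    · exact key _ (exists_Ud p hF) h

end Cfsg.Agent.S2366
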