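import Mathlib
import Cfsg.Statements.S2367

set_option autoImplicit false
open Cfsg

namespace Cfsg.Agent.S2367

set_option linter.unusedVariables false
set_option maxRecDepth 10000

theorem spor_IsM11 (p : ℕ) (hp : p.Prime) (hodd : p ≠ 2) (h3 : (7920 : ℕ).factorization p = 3) :
    p ^ 3 < 2 ^ (7920 : ℕ).factorization 2 := by
  have h2 : 4 ≤ (7920 : ℕ).factorization 2 :=
    (Nat.Prime.pow_dvd_iff_le_factorization Nat.prime_two (by norm_num)).1 (by norm_num)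
  have hlt : p ^ 3 < 2 ^ 4 → p ^ 3 < 2 ^ (7920 : ℕ).factorization 2 :=
    fun h => lt_of_lt_of_le h (Nat.pow_le_pow_right (by norm_num) h2)
  have hpd : p ^ 3 ∣ (7920 : ℕ) := by rw [← h3]; exact Nat.ordProj_dvd _ p
  have hp1 : p ∣ (7920 : ℕ) := dvd_trans (dvd_pow_self p (by norm_num)) hpd
  have hN : (7920 : ℕ) = 2 ^ 4 * (3 ^ 2 * (5 ^ 1 * (11 ^ 1))) := by norm_num
  rw [hN] at hp1
  rcases (Nat.Prime.dvd_mul hp).1 hp1 with hq | hp1
  · have hpq : p = 2 := (Nat.prime_dvd_prime_iff_eq hp (by norm_num)).1 (hp.dvd_of_dvd_pow hq)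
    subst hpq
    exact absurd rfl hodd
  rcases (Nat.Prime.dvd_mul hp).1 hp1 with hq | hp1
  · have hpq : p = 3 := (Nat.prime_dvd_prime_iff_eq hp (by norm_num)).1 (hp.dvd_of_dvd_pow hq)
    subst hpq
    exact absurd hpd (by norm_num)
  rcases (Nat.Prime.dvd_mul hp).1 hp1 with hq | hp1
  · have hpq : p = 5 := (Nat.prime_dvd_prime_iff_eq hp (by norm_num)).1 (hp.dvd_of_dvd_pow hq)
    subst hpq
    exact absurd hpd (by norm_num)
  have hq := hp1
  have hpq : p = 11 := (Nat.prime_dvd_prime_iff_eq hp (by norm_num)).1 (hp.dvd_of_dvd_pow hq)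
  subst hpq
  exact absurd hpd (by norm_num)

theorem spor_IsM12 (p : ℕ) (hp : p.Prime) (hodd : p ≠ 2) (h3 : (95040 : ℕ).factorization p = 3) :
    p ^ 3 < 2 ^ (95040 : ℕ).factorization 2 := by
  have h2 : 6 ≤ (95040 : ℕ).factorization 2 :=
    (Nat.Prime.pow_dvd_iff_le_factorization Nat.prime_two (by norm_num)).1 (by norm_num)
  have hlt : p ^ 3 < 2 ^ 6 → p ^ 3 < 2 ^ (95040 : ℕ).factorization 2 :=
    fun h => lt_of_lt_of_le h (Nat.pow_le_pow_right (by norm_num) h2)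
  have hpd : p ^ 3 ∣ (95040 : ℕ) := by rw [← h3]; exact Nat.ordProj_dvd _ p
  have hp1 : p ∣ (95040 : ℕ) := dvd_trans (dvd_pow_self p (by norm_num)) hpd
  have hN : (95040 : ℕ) = 2 ^ 6 * (3 ^ 3 * (5 ^ 1 * (11 ^ 1))) := by norm_num
  rw [hN] at hp1
  rcases (Nat.Prime.dvd_mul hp).1 hp1 with hq | hp1
  · have hpq : p = 2 := (Nat.prime_dvd_prime_iff_eq hp (by norm_num)).1 (hp.dvd_of_dvd_pow hq)
    subst hpq
    exact absurd rfl hodd
  rcases (Nat.Prime.dvd_mul hp).1 hp1 with hq | hp1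
  · have hpq : p = 3 := (Nat.prime_dvd_prime_iff_eq hp (by norm_num)).1 (hp.dvd_of_dvd_pow hq)
    subst hpq
    exact hlt (by norm_num)
  rcases (Nat.Prime.dvd_mul hp).1 hp1 with hq | hp1
  · have hpq : p = 5 := (Nat.prime_dvd_prime_iff_eq hp (by norm_num)).1 (hp.dvd_of_dvd_pow hq)
    subst hpq
    exact absurd hpd (by norm_num)
  have hq := hp1
  have hpq : p = 11 := (Nat.prime_dvd_prime_iff_eq hp (by norm_num)).1 (hp.dvd_of_dvd_pow hq)
  subst hpq
  exact absurd hpd (by norm_num)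

theorem spor_IsM22 (p : ℕ) (hp : p.Prime) (hodd : p ≠ 2) (h3 : (443520 : ℕ).factorization p = 3) :
    p ^ 3 < 2 ^ (443520 : ℕ).factorization 2 := by
  have h2 : 7 ≤ (443520 : ℕ).factorization 2 :=
    (Nat.Prime.pow_dvd_iff_le_factorization Nat.prime_two (by norm_num)).1 (by norm_num)
  have hlt : p ^ 3 < 2 ^ 7 → p ^ 3 < 2 ^ (443520 : ℕ).factorization 2 :=
    fun h => lt_of_lt_of_le h (Nat.pow_le_pow_right (by norm_num) h2)
  have hpd : p ^ 3 ∣ (443520 : ℕ) := by rw [← h3]; exact Nat.ordProj_dvd _ p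
  have hp1 : p ∣ (443520 : ℕ) := dvd_trans (dvd_pow_self p (by norm_num)) hpd
  have hN : (443520 : ℕ) = 2 ^ 7 * (3 ^ 2 * (5 ^ 1 * (7 ^ 1 * (11 ^ 1)))) := by norm_num
  rw [hN] at hp1
  rcases (Nat.Prime.dvd_mul hp).1 hp1 with hq | hp1
  · have hpq : p = 2 := (Nat.prime_dvd_prime_iff_eq hp (by norm_num)).1 (hp.dvd_of_dvd_pow hq)
    subst hpq
    exact absurd rfl hodd
  rcases (Nat.Prime.dvd_mul hp).1 hp1 with hq | hp1
  · have hpq : p = 3 := (Nat.prime_dvd_prime_iff_eq hp (by norm_num)).1 (hp.dvd_of_dvd_pow hq)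
    subst hpq
    exact hlt (by norm_num)
  rcases (Nat.Prime.dvd_mul hp).1 hp1 with hq | hp1
  · have hpq : p = 5 := (Nat.prime_dvd_prime_iff_eq hp (by norm_num)).1 (hp.dvd_of_dvd_pow hq)
    subst hpq
    exact hlt (by norm_num)
  rcases (Nat.Prime.dvd_mul hp).1 hp1 with hq | hp1
  · have hpq : p = 7 := (Nat.prime_dvd_prime_iff_eq hp (by norm_num)).1 (hp.dvd_of_dvd_pow hq)
    subst hpq
    exact absurd hpd (by norm_num)
  have hq := hp1
  have hpq : p = 11 := (Nat.prime_dvd_prime_iff_eq hp (by norm_num)).1 (hp.dvd_of_dvd_pow hq)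
  subst hpq
  exact absurd hpd (by norm_num)

theorem spor_IsM23 (p : ℕ) (hp : p.Prime) (hodd : p ≠ 2) (h3 : (10200960 : ℕ).factorization p = 3) :
    p ^ 3 < 2 ^ (10200960 : ℕ).factorization 2 := by
  have h2 : 7 ≤ (10200960 : ℕ).factorization 2 :=
    (Nat.Prime.pow_dvd_iff_le_factorization Nat.prime_two (by norm_num)).1 (by norm_num)
  have hlt : p ^ 3 < 2 ^ 7 → p ^ 3 < 2 ^ (10200960 : ℕ).factorization 2 :=
    fun h => lt_of_lt_of_le h (Nat.pow_le_pow_right (by norm_num) h2)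
  have hpd : p ^ 3 ∣ (10200960 : ℕ) := by rw [← h3]; exact Nat.ordProj_dvd _ p
  have hp1 : p ∣ (10200960 : ℕ) := dvd_trans (dvd_pow_self p (by norm_num)) hpd
  have hN : (10200960 : ℕ) = 2 ^ 7 * (3 ^ 2 * (5 ^ 1 * (7 ^ 1 * (11 ^ 1 * (23 ^ 1))))) := by norm_num
  rw [hN] at hp1
  rcases (Nat.Prime.dvd_mul hp).1 hp1 with hq | hp1
  · have hpq : p = 2 := (Nat.prime_dvd_prime_iff_eq hp (by norm_num)).1 (hp.dvd_of_dvd_pow hq)
    subst hpq
    exact absurd rfl hodd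
  rcases (Nat.Prime.dvd_mul hp).1 hp1 with hq | hp1
  · have hpq : p = 3 := (Nat.prime_dvd_prime_iff_eq hp (by norm_num)).1 (hp.dvd_of_dvd_pow hq)
    subst hpq
    exact hlt (by norm_num)
  rcases (Nat.Prime.dvd_mul hp).1 hp1 with hq | hp1
  · have hpq : p = 5 := (Nat.prime_dvd_prime_iff_eq hp (by norm_num)).1 (hp.dvd_of_dvd_pow hq)
    subst hpq
    exact hlt (by norm_num)
  rcases (Nat.Prime.dvd_mul hp).1 hp1 with hq | hp1
  · have hpq : p = 7 := (Nat.prime_dvd_prime_iff_eq hp (by norm_num)).1 (hp.dvd_of_dvd_pow hq)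
    subst hpq
    exact absurd hpd (by norm_num)
  rcases (Nat.Prime.dvd_mul hp).1 hp1 with hq | hp1
  · have hpq : p = 11 := (Nat.prime_dvd_prime_iff_eq hp (by norm_num)).1 (hp.dvd_of_dvd_pow hq)
    subst hpq
    exact absurd hpd (by norm_num)
  have hq := hp1
  have hpq : p = 23 := (Nat.prime_dvd_prime_iff_eq hp (by norm_num)).1 (hp.dvd_of_dvd_pow hq)
  subst hpq
  exact absurd hpd (by norm_num)

theorem spor_IsM24 (p : ℕ) (hp : p.Prime) (hodd : p ≠ 2) (h3 : (244823040 : ℕ).factorization p = 3) :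
    p ^ 3 < 2 ^ (244823040 : ℕ).factorization 2 := by
  have h2 : 10 ≤ (244823040 : ℕ).factorization 2 :=
    (Nat.Prime.pow_dvd_iff_le_factorization Nat.prime_two (by norm_num)).1 (by norm_num)
  have hlt : p ^ 3 < 2 ^ 10 → p ^ 3 < 2 ^ (244823040 : ℕ).factorization 2 :=
    fun h => lt_of_lt_of_le h (Nat.pow_le_pow_right (by norm_num) h2)
  have hpd : p ^ 3 ∣ (244823040 : ℕ) := by rw [← h3]; exact Nat.ordProj_dvd _ p
  have hp1 : p ∣ (244823040 : ℕ) := dvd_trans (dvd_pow_self p (by norm_num)) hpd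
  have hN : (244823040 : ℕ) = 2 ^ 10 * (3 ^ 3 * (5 ^ 1 * (7 ^ 1 * (11 ^ 1 * (23 ^ 1))))) := by norm_num
  rw [hN] at hp1
  rcases (Nat.Prime.dvd_mul hp).1 hp1 with hq | hp1
  · have hpq : p = 2 := (Nat.prime_dvd_prime_iff_eq hp (by norm_num)).1 (hp.dvd_of_dvd_pow hq)
    subst hpq
    exact absurd rfl hodd
  rcases (Nat.Prime.dvd_mul hp).1 hp1 with hq | hp1
  · have hpq : p = 3 := (Nat.prime_dvd_prime_iff_eq hp (by norm_num)).1 (hp.dvd_of_dvd_pow hq)
    subst hpq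
    exact hlt (by norm_num)
  rcases (Nat.Prime.dvd_mul hp).1 hp1 with hq | hp1
  · have hpq : p = 5 := (Nat.prime_dvd_prime_iff_eq hp (by norm_num)).1 (hp.dvd_of_dvd_pow hq)
    subst hpq
    exact hlt (by norm_num)
  rcases (Nat.Prime.dvd_mul hp).1 hp1 with hq | hp1
  · have hpq : p = 7 := (Nat.prime_dvd_prime_iff_eq hp (by norm_num)).1 (hp.dvd_of_dvd_pow hq)
    subst hpq
    exact hlt (by norm_num)
  rcases (Nat.Prime.dvd_mul hp).1 hp1 with hq | hp1
  · have hpq : p = 11 := (Nat.prime_dvd_prime_iff_eq hp (by norm_num)).1 (hp.dvd_of_dvd_pow hq)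
    subst hpq
    exact absurd hpd (by norm_num)
  have hq := hp1
  have hpq : p = 23 := (Nat.prime_dvd_prime_iff_eq hp (by norm_num)).1 (hp.dvd_of_dvd_pow hq)
  subst hpq
  exact absurd hpd (by norm_num)

theorem spor_IsJ1 (p : ℕ) (hp : p.Prime) (hodd : p ≠ 2) (h3 : (175560 : ℕ).factorization p = 3) :
    p ^ 3 < 2 ^ (175560 : ℕ).factorization 2 := by
  have h2 : 3 ≤ (175560 : ℕ).factorization 2 :=
    (Nat.Prime.pow_dvd_iff_le_factorization Nat.prime_two (by norm_num)).1 (by norm_num)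
  have hlt : p ^ 3 < 2 ^ 3 → p ^ 3 < 2 ^ (175560 : ℕ).factorization 2 :=
    fun h => lt_of_lt_of_le h (Nat.pow_le_pow_right (by norm_num) h2)
  have hpd : p ^ 3 ∣ (175560 : ℕ) := by rw [← h3]; exact Nat.ordProj_dvd _ p
  have hp1 : p ∣ (175560 : ℕ) := dvd_trans (dvd_pow_self p (by norm_num)) hpd
  have hN : (175560 : ℕ) = 2 ^ 3 * (3 ^ 1 * (5 ^ 1 * (7 ^ 1 * (11 ^ 1 * (19 ^ 1))))) := by norm_num
  rw [hN] at hp1
  rcases (Nat.Prime.dvd_mul hp).1 hp1 with hq | hp1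
  · have hpq : p = 2 := (Nat.prime_dvd_prime_iff_eq hp (by norm_num)).1 (hp.dvd_of_dvd_pow hq)
    subst hpq
    exact absurd rfl hodd
  rcases (Nat.Prime.dvd_mul hp).1 hp1 with hq | hp1
  · have hpq : p = 3 := (Nat.prime_dvd_prime_iff_eq hp (by norm_num)).1 (hp.dvd_of_dvd_pow hq)
    subst hpq
    exact absurd hpd (by norm_num)
  rcases (Nat.Prime.dvd_mul hp).1 hp1 with hq | hp1
  · have hpq : p = 5 := (Nat.prime_dvd_prime_iff_eq hp (by norm_num)).1 (hp.dvd_of_dvd_pow hq)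
    subst hpq
    exact absurd hpd (by norm_num)
  rcases (Nat.Prime.dvd_mul hp).1 hp1 with hq | hp1
  · have hpq : p = 7 := (Nat.prime_dvd_prime_iff_eq hp (by norm_num)).1 (hp.dvd_of_dvd_pow hq)
    subst hpq
    exact absurd hpd (by norm_num)
  rcases (Nat.Prime.dvd_mul hp).1 hp1 with hq | hp1
  · have hpq : p = 11 := (Nat.prime_dvd_prime_iff_eq hp (by norm_num)).1 (hp.dvd_of_dvd_pow hq)
    subst hpq
    exact absurd hpd (by norm_num)
  have hq := hp1
  have hpq : p = 19 := (Nat.prime_dvd_prime_iff_eq hp (by norm_num)).1 (hp.dvd_of_dvd_pow hq)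
  subst hpq
  exact absurd hpd (by norm_num)

theorem spor_IsJ2 (p : ℕ) (hp : p.Prime) (hodd : p ≠ 2) (h3 : (604800 : ℕ).factorization p = 3) :
    p ^ 3 < 2 ^ (604800 : ℕ).factorization 2 := by
  have h2 : 7 ≤ (604800 : ℕ).factorization 2 :=
    (Nat.Prime.pow_dvd_iff_le_factorization Nat.prime_two (by norm_num)).1 (by norm_num)
  have hlt : p ^ 3 < 2 ^ 7 → p ^ 3 < 2 ^ (604800 : ℕ).factorization 2 :=
    fun h => lt_of_lt_of_le h (Nat.pow_le_pow_right (by norm_num) h2)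
  have hpd : p ^ 3 ∣ (604800 : ℕ) := by rw [← h3]; exact Nat.ordProj_dvd _ p
  have hp1 : p ∣ (604800 : ℕ) := dvd_trans (dvd_pow_self p (by norm_num)) hpd
  have hN : (604800 : ℕ) = 2 ^ 7 * (3 ^ 3 * (5 ^ 2 * (7 ^ 1))) := by norm_num
  rw [hN] at hp1
  rcases (Nat.Prime.dvd_mul hp).1 hp1 with hq | hp1
  · have hpq : p = 2 := (Nat.prime_dvd_prime_iff_eq hp (by norm_num)).1 (hp.dvd_of_dvd_pow hq)
    subst hpq
    exact absurd rfl hodd
  rcases (Nat.Prime.dvd_mul hp).1 hp1 with hq | hp1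
  · have hpq : p = 3 := (Nat.prime_dvd_prime_iff_eq hp (by norm_num)).1 (hp.dvd_of_dvd_pow hq)
    subst hpq
    exact hlt (by norm_num)
  rcases (Nat.Prime.dvd_mul hp).1 hp1 with hq | hp1
  · have hpq : p = 5 := (Nat.prime_dvd_prime_iff_eq hp (by norm_num)).1 (hp.dvd_of_dvd_pow hq)
    subst hpq
    exact hlt (by norm_num)
  have hq := hp1
  have hpq : p = 7 := (Nat.prime_dvd_prime_iff_eq hp (by norm_num)).1 (hp.dvd_of_dvd_pow hq)
  subst hpq
  exact absurd hpd (by norm_num)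

theorem spor_IsJ3 (p : ℕ) (hp : p.Prime) (hodd : p ≠ 2) (h3 : (50232960 : ℕ).factorization p = 3) :
    p ^ 3 < 2 ^ (50232960 : ℕ).factorization 2 := by
  have h2 : 7 ≤ (50232960 : ℕ).factorization 2 :=
    (Nat.Prime.pow_dvd_iff_le_factorization Nat.prime_two (by norm_num)).1 (by norm_num)
  have hlt : p ^ 3 < 2 ^ 7 → p ^ 3 < 2 ^ (50232960 : ℕ).factorization 2 :=
    fun h => lt_of_lt_of_le h (Nat.pow_le_pow_right (by norm_num) h2)
  have hpd : p ^ 3 ∣ (50232960 : ℕ) := by rw [← h3]; exact Nat.ordProj_dvd _ p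
  have hp1 : p ∣ (50232960 : ℕ) := dvd_trans (dvd_pow_self p (by norm_num)) hpd
  have hN : (50232960 : ℕ) = 2 ^ 7 * (3 ^ 5 * (5 ^ 1 * (17 ^ 1 * (19 ^ 1)))) := by norm_num
  rw [hN] at hp1
  rcases (Nat.Prime.dvd_mul hp).1 hp1 with hq | hp1
  · have hpq : p = 2 := (Nat.prime_dvd_prime_iff_eq hp (by norm_num)).1 (hp.dvd_of_dvd_pow hq)
    subst hpq
    exact absurd rfl hodd
  rcases (Nat.Prime.dvd_mul hp).1 hp1 with hq | hp1
  · have hpq : p = 3 := (Nat.prime_dvd_prime_iff_eq hp (by norm_num)).1 (hp.dvd_of_dvd_pow hq)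
    subst hpq
    exact hlt (by norm_num)
  rcases (Nat.Prime.dvd_mul hp).1 hp1 with hq | hp1
  · have hpq : p = 5 := (Nat.prime_dvd_prime_iff_eq hp (by norm_num)).1 (hp.dvd_of_dvd_pow hq)
    subst hpq
    exact hlt (by norm_num)
  rcases (Nat.Prime.dvd_mul hp).1 hp1 with hq | hp1
  · have hpq : p = 17 := (Nat.prime_dvd_prime_iff_eq hp (by norm_num)).1 (hp.dvd_of_dvd_pow hq)
    subst hpq
    exact absurd hpd (by norm_num)
  have hq := hp1
  have hpq : p = 19 := (Nat.prime_dvd_prime_iff_eq hp (by norm_num)).1 (hp.dvd_of_dvd_pow hq)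
  subst hpq
  exact absurd hpd (by norm_num)

theorem spor_IsJ4 (p : ℕ) (hp : p.Prime) (hodd : p ≠ 2) (h3 : (86775571046077562880 : ℕ).factorization p = 3) :
    p ^ 3 < 2 ^ (86775571046077562880 : ℕ).factorization 2 := by
  have h2 : 21 ≤ (86775571046077562880 : ℕ).factorization 2 :=
    (Nat.Prime.pow_dvd_iff_le_factorization Nat.prime_two (by norm_num)).1 (by norm_num)
  have hlt : p ^ 3 < 2 ^ 21 → p ^ 3 < 2 ^ (86775571046077562880 : ℕ).factorization 2 :=
    fun h => lt_of_lt_of_le h (Nat.pow_le_pow_right (by norm_num) h2)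
  have hpd : p ^ 3 ∣ (86775571046077562880 : ℕ) := by rw [← h3]; exact Nat.ordProj_dvd _ p
  have hp1 : p ∣ (86775571046077562880 : ℕ) := dvd_trans (dvd_pow_self p (by norm_num)) hpd
  have hN : (86775571046077562880 : ℕ) = 2 ^ 21 * (3 ^ 3 * (5 ^ 1 * (7 ^ 1 * (11 ^ 3 * (23 ^ 1 * (29 ^ 1 * (31 ^ 1 * (37 ^ 1 * (43 ^ 1))))))))) := by norm_num
  rw [hN] at hp1
  rcases (Nat.Prime.dvd_mul hp).1 hp1 with hq | hp1
  · have hpq : p = 2 := (Nat.prime_dvd_prime_iff_eq hp (by norm_num)).1 (hp.dvd_of_dvd_pow hq)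
    subst hpq
    exact absurd rfl hodd
  rcases (Nat.Prime.dvd_mul hp).1 hp1 with hq | hp1
  · have hpq : p = 3 := (Nat.prime_dvd_prime_iff_eq hp (by norm_num)).1 (hp.dvd_of_dvd_pow hq)
    subst hpq
    exact hlt (by norm_num)
  rcases (Nat.Prime.dvd_mul hp).1 hp1 with hq | hp1
  · have hpq : p = 5 := (Nat.prime_dvd_prime_iff_eq hp (by norm_num)).1 (hp.dvd_of_dvd_pow hq)
    subst hpq
    exact hlt (by norm_num)
  rcases (Nat.Prime.dvd_mul hp).1 hp1 with hq | hp1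
  · have hpq : p = 7 := (Nat.prime_dvd_prime_iff_eq hp (by norm_num)).1 (hp.dvd_of_dvd_pow hq)
    subst hpq
    exact hlt (by norm_num)
  rcases (Nat.Prime.dvd_mul hp).1 hp1 with hq | hp1
  · have hpq : p = 11 := (Nat.prime_dvd_prime_iff_eq hp (by norm_num)).1 (hp.dvd_of_dvd_pow hq)
    subst hpq
    exact hlt (by norm_num)
  rcases (Nat.Prime.dvd_mul hp).1 hp1 with hq | hp1
  · have hpq : p = 23 := (Nat.prime_dvd_prime_iff_eq hp (by norm_num)).1 (hp.dvd_of_dvd_pow hq)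
    subst hpq
    exact hlt (by norm_num)
  rcases (Nat.Prime.dvd_mul hp).1 hp1 with hq | hp1
  · have hpq : p = 29 := (Nat.prime_dvd_prime_iff_eq hp (by norm_num)).1 (hp.dvd_of_dvd_pow hq)
    subst hpq
    exact hlt (by norm_num)
  rcases (Nat.Prime.dvd_mul hp).1 hp1 with hq | hp1
  · have hpq : p = 31 := (Nat.prime_dvd_prime_iff_eq hp (by norm_num)).1 (hp.dvd_of_dvd_pow hq)
    subst hpq
    exact hlt (by norm_num)
  rcases (Nat.Prime.dvd_mul hp).1 hp1 with hq | hp1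
  · have hpq : p = 37 := (Nat.prime_dvd_prime_iff_eq hp (by norm_num)).1 (hp.dvd_of_dvd_pow hq)
    subst hpq
    exact hlt (by norm_num)
  have hq := hp1
  have hpq : p = 43 := (Nat.prime_dvd_prime_iff_eq hp (by norm_num)).1 (hp.dvd_of_dvd_pow hq)
  subst hpq
  exact hlt (by norm_num)

theorem spor_IsCo1 (p : ℕ) (hp : p.Prime) (hodd : p ≠ 2) (h3 : (4157776806543360000 : ℕ).factorization p = 3) :
    p ^ 3 < 2 ^ (4157776806543360000 : ℕ).factorization 2 := by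
  have h2 : 21 ≤ (4157776806543360000 : ℕ).factorization 2 :=
    (Nat.Prime.pow_dvd_iff_le_factorization Nat.prime_two (by norm_num)).1 (by norm_num)
  have hlt : p ^ 3 < 2 ^ 21 → p ^ 3 < 2 ^ (4157776806543360000 : ℕ).factorization 2 :=
    fun h => lt_of_lt_of_le h (Nat.pow_le_pow_right (by norm_num) h2)
  have hpd : p ^ 3 ∣ (4157776806543360000 : ℕ) := by rw [← h3]; exact Nat.ordProj_dvd _ p
  have hp1 : p ∣ (4157776806543360000 : ℕ) := dvd_trans (dvd_pow_self p (by norm_num)) hpd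
  have hN : (4157776806543360000 : ℕ) = 2 ^ 21 * (3 ^ 9 * (5 ^ 4 * (7 ^ 2 * (11 ^ 1 * (13 ^ 1 * (23 ^ 1)))))) := by norm_num
  rw [hN] at hp1
  rcases (Nat.Prime.dvd_mul hp).1 hp1 with hq | hp1
  · have hpq : p = 2 := (Nat.prime_dvd_prime_iff_eq hp (by norm_num)).1 (hp.dvd_of_dvd_pow hq)
    subst hpq
    exact absurd rfl hodd
  rcases (Nat.Prime.dvd_mul hp).1 hp1 with hq | hp1
  · have hpq : p = 3 := (Nat.prime_dvd_prime_iff_eq hp (by norm_num)).1 (hp.dvd_of_dvd_pow hq)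
    subst hpq
    exact hlt (by norm_num)
  rcases (Nat.Prime.dvd_mul hp).1 hp1 with hq | hp1
  · have hpq : p = 5 := (Nat.prime_dvd_prime_iff_eq hp (by norm_num)).1 (hp.dvd_of_dvd_pow hq)
    subst hpq
    exact hlt (by norm_num)
  rcases (Nat.Prime.dvd_mul hp).1 hp1 with hq | hp1
  · have hpq : p = 7 := (Nat.prime_dvd_prime_iff_eq hp (by norm_num)).1 (hp.dvd_of_dvd_pow hq)
    subst hpq
    exact hlt (by norm_num)
  rcases (Nat.Prime.dvd_mul hp).1 hp1 with hq | hp1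
  · have hpq : p = 11 := (Nat.prime_dvd_prime_iff_eq hp (by norm_num)).1 (hp.dvd_of_dvd_pow hq)
    subst hpq
    exact hlt (by norm_num)
  rcases (Nat.Prime.dvd_mul hp).1 hp1 with hq | hp1
  · have hpq : p = 13 := (Nat.prime_dvd_prime_iff_eq hp (by norm_num)).1 (hp.dvd_of_dvd_pow hq)
    subst hpq
    exact hlt (by norm_num)
  have hq := hp1
  have hpq : p = 23 := (Nat.prime_dvd_prime_iff_eq hp (by norm_num)).1 (hp.dvd_of_dvd_pow hq)
  subst hpq
  exact hlt (by norm_num)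

theorem spor_IsCo2 (p : ℕ) (hp : p.Prime) (hodd : p ≠ 2) (h3 : (42305421312000 : ℕ).factorization p = 3) :
    p ^ 3 < 2 ^ (42305421312000 : ℕ).factorization 2 := by
  have h2 : 18 ≤ (42305421312000 : ℕ).factorization 2 :=
    (Nat.Prime.pow_dvd_iff_le_factorization Nat.prime_two (by norm_num)).1 (by norm_num)
  have hlt : p ^ 3 < 2 ^ 18 → p ^ 3 < 2 ^ (42305421312000 : ℕ).factorization 2 :=
    fun h => lt_of_lt_of_le h (Nat.pow_le_pow_right (by norm_num) h2)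
  have hpd : p ^ 3 ∣ (42305421312000 : ℕ) := by rw [← h3]; exact Nat.ordProj_dvd _ p
  have hp1 : p ∣ (42305421312000 : ℕ) := dvd_trans (dvd_pow_self p (by norm_num)) hpd
  have hN : (42305421312000 : ℕ) = 2 ^ 18 * (3 ^ 6 * (5 ^ 3 * (7 ^ 1 * (11 ^ 1 * (23 ^ 1))))) := by norm_num
  rw [hN] at hp1
  rcases (Nat.Prime.dvd_mul hp).1 hp1 with hq | hp1
  · have hpq : p = 2 := (Nat.prime_dvd_prime_iff_eq hp (by norm_num)).1 (hp.dvd_of_dvd_pow hq)
    subst hpq
    exact absurd rfl hodd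
  rcases (Nat.Prime.dvd_mul hp).1 hp1 with hq | hp1
  · have hpq : p = 3 := (Nat.prime_dvd_prime_iff_eq hp (by norm_num)).1 (hp.dvd_of_dvd_pow hq)
    subst hpq
    exact hlt (by norm_num)
  rcases (Nat.Prime.dvd_mul hp).1 hp1 with hq | hp1
  · have hpq : p = 5 := (Nat.prime_dvd_prime_iff_eq hp (by norm_num)).1 (hp.dvd_of_dvd_pow hq)
    subst hpq
    exact hlt (by norm_num)
  rcases (Nat.Prime.dvd_mul hp).1 hp1 with hq | hp1
  · have hpq : p = 7 := (Nat.prime_dvd_prime_iff_eq hp (by norm_num)).1 (hp.dvd_of_dvd_pow hq)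
    subst hpq
    exact hlt (by norm_num)
  rcases (Nat.Prime.dvd_mul hp).1 hp1 with hq | hp1
  · have hpq : p = 11 := (Nat.prime_dvd_prime_iff_eq hp (by norm_num)).1 (hp.dvd_of_dvd_pow hq)
    subst hpq
    exact hlt (by norm_num)
  have hq := hp1
  have hpq : p = 23 := (Nat.prime_dvd_prime_iff_eq hp (by norm_num)).1 (hp.dvd_of_dvd_pow hq)
  subst hpq
  exact hlt (by norm_num)

theorem spor_IsCo3 (p : ℕ) (hp : p.Prime) (hodd : p ≠ 2) (h3 : (495766656000 : ℕ).factorization p = 3) :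
    p ^ 3 < 2 ^ (495766656000 : ℕ).factorization 2 := by
  have h2 : 10 ≤ (495766656000 : ℕ).factorization 2 :=
    (Nat.Prime.pow_dvd_iff_le_factorization Nat.prime_two (by norm_num)).1 (by norm_num)
  have hlt : p ^ 3 < 2 ^ 10 → p ^ 3 < 2 ^ (495766656000 : ℕ).factorization 2 :=
    fun h => lt_of_lt_of_le h (Nat.pow_le_pow_right (by norm_num) h2)
  have hpd : p ^ 3 ∣ (495766656000 : ℕ) := by rw [← h3]; exact Nat.ordProj_dvd _ p
  have hp1 : p ∣ (495766656000 : ℕ) := dvd_trans (dvd_pow_self p (by norm_num)) hpd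
  have hN : (495766656000 : ℕ) = 2 ^ 10 * (3 ^ 7 * (5 ^ 3 * (7 ^ 1 * (11 ^ 1 * (23 ^ 1))))) := by norm_num
  rw [hN] at hp1
  rcases (Nat.Prime.dvd_mul hp).1 hp1 with hq | hp1
  · have hpq : p = 2 := (Nat.prime_dvd_prime_iff_eq hp (by norm_num)).1 (hp.dvd_of_dvd_pow hq)
    subst hpq
    exact absurd rfl hodd
  rcases (Nat.Prime.dvd_mul hp).1 hp1 with hq | hp1
  · have hpq : p = 3 := (Nat.prime_dvd_prime_iff_eq hp (by norm_num)).1 (hp.dvd_of_dvd_pow hq)
    subst hpq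
    exact hlt (by norm_num)
  rcases (Nat.Prime.dvd_mul hp).1 hp1 with hq | hp1
  · have hpq : p = 5 := (Nat.prime_dvd_prime_iff_eq hp (by norm_num)).1 (hp.dvd_of_dvd_pow hq)
    subst hpq
    exact hlt (by norm_num)
  rcases (Nat.Prime.dvd_mul hp).1 hp1 with hq | hp1
  · have hpq : p = 7 := (Nat.prime_dvd_prime_iff_eq hp (by norm_num)).1 (hp.dvd_of_dvd_pow hq)
    subst hpq
    exact hlt (by norm_num)
  rcases (Nat.Prime.dvd_mul hp).1 hp1 with hq | hp1
  · have hpq : p = 11 := (Nat.prime_dvd_prime_iff_eq hp (by norm_num)).1 (hp.dvd_of_dvd_pow hq)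
    subst hpq
    exact absurd hpd (by norm_num)
  have hq := hp1
  have hpq : p = 23 := (Nat.prime_dvd_prime_iff_eq hp (by norm_num)).1 (hp.dvd_of_dvd_pow hq)
  subst hpq
  exact absurd hpd (by norm_num)

theorem spor_IsFi22 (p : ℕ) (hp : p.Prime) (hodd : p ≠ 2) (h3 : (64561751654400 : ℕ).factorization p = 3) :
    p ^ 3 < 2 ^ (64561751654400 : ℕ).factorization 2 := by
  have h2 : 17 ≤ (64561751654400 : ℕ).factorization 2 :=
    (Nat.Prime.pow_dvd_iff_le_factorization Nat.prime_two (by norm_num)).1 (by norm_num)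
  have hlt : p ^ 3 < 2 ^ 17 → p ^ 3 < 2 ^ (64561751654400 : ℕ).factorization 2 :=
    fun h => lt_of_lt_of_le h (Nat.pow_le_pow_right (by norm_num) h2)
  have hpd : p ^ 3 ∣ (64561751654400 : ℕ) := by rw [← h3]; exact Nat.ordProj_dvd _ p
  have hp1 : p ∣ (64561751654400 : ℕ) := dvd_trans (dvd_pow_self p (by norm_num)) hpd
  have hN : (64561751654400 : ℕ) = 2 ^ 17 * (3 ^ 9 * (5 ^ 2 * (7 ^ 1 * (11 ^ 1 * (13 ^ 1))))) := by norm_num
  rw [hN] at hp1
  rcases (Nat.Prime.dvd_mul hp).1 hp1 with hq | hp1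
  · have hpq : p = 2 := (Nat.prime_dvd_prime_iff_eq hp (by norm_num)).1 (hp.dvd_of_dvd_pow hq)
    subst hpq
    exact absurd rfl hodd
  rcases (Nat.Prime.dvd_mul hp).1 hp1 with hq | hp1
  · have hpq : p = 3 := (Nat.prime_dvd_prime_iff_eq hp (by norm_num)).1 (hp.dvd_of_dvd_pow hq)
    subst hpq
    exact hlt (by norm_num)
  rcases (Nat.Prime.dvd_mul hp).1 hp1 with hq | hp1
  · have hpq : p = 5 := (Nat.prime_dvd_prime_iff_eq hp (by norm_num)).1 (hp.dvd_of_dvd_pow hq)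
    subst hpq
    exact hlt (by norm_num)
  rcases (Nat.Prime.dvd_mul hp).1 hp1 with hq | hp1
  · have hpq : p = 7 := (Nat.prime_dvd_prime_iff_eq hp (by norm_num)).1 (hp.dvd_of_dvd_pow hq)
    subst hpq
    exact hlt (by norm_num)
  rcases (Nat.Prime.dvd_mul hp).1 hp1 with hq | hp1
  · have hpq : p = 11 := (Nat.prime_dvd_prime_iff_eq hp (by norm_num)).1 (hp.dvd_of_dvd_pow hq)
    subst hpq
    exact hlt (by norm_num)
  have hq := hp1
  have hpq : p = 13 := (Nat.prime_dvd_prime_iff_eq hp (by norm_num)).1 (hp.dvd_of_dvd_pow hq)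
  subst hpq
  exact hlt (by norm_num)

theorem spor_IsFi23 (p : ℕ) (hp : p.Prime) (hodd : p ≠ 2) (h3 : (4089470473293004800 : ℕ).factorization p = 3) :
    p ^ 3 < 2 ^ (4089470473293004800 : ℕ).factorization 2 := by
  have h2 : 18 ≤ (4089470473293004800 : ℕ).factorization 2 :=
    (Nat.Prime.pow_dvd_iff_le_factorization Nat.prime_two (by norm_num)).1 (by norm_num)
  have hlt : p ^ 3 < 2 ^ 18 → p ^ 3 < 2 ^ (4089470473293004800 : ℕ).factorization 2 :=
    fun h => lt_of_lt_of_le h (Nat.pow_le_pow_right (by norm_num) h2)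
  have hpd : p ^ 3 ∣ (4089470473293004800 : ℕ) := by rw [← h3]; exact Nat.ordProj_dvd _ p
  have hp1 : p ∣ (4089470473293004800 : ℕ) := dvd_trans (dvd_pow_self p (by norm_num)) hpd
  have hN : (4089470473293004800 : ℕ) = 2 ^ 18 * (3 ^ 13 * (5 ^ 2 * (7 ^ 1 * (11 ^ 1 * (13 ^ 1 * (17 ^ 1 * (23 ^ 1))))))) := by norm_num
  rw [hN] at hp1
  rcases (Nat.Prime.dvd_mul hp).1 hp1 with hq | hp1
  · have hpq : p = 2 := (Nat.prime_dvd_prime_iff_eq hp (by norm_num)).1 (hp.dvd_of_dvd_pow hq)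
    subst hpq
    exact absurd rfl hodd
  rcases (Nat.Prime.dvd_mul hp).1 hp1 with hq | hp1
  · have hpq : p = 3 := (Nat.prime_dvd_prime_iff_eq hp (by norm_num)).1 (hp.dvd_of_dvd_pow hq)
    subst hpq
    exact hlt (by norm_num)
  rcases (Nat.Prime.dvd_mul hp).1 hp1 with hq | hp1
  · have hpq : p = 5 := (Nat.prime_dvd_prime_iff_eq hp (by norm_num)).1 (hp.dvd_of_dvd_pow hq)
    subst hpq
    exact hlt (by norm_num)
  rcases (Nat.Prime.dvd_mul hp).1 hp1 with hq | hp1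
  · have hpq : p = 7 := (Nat.prime_dvd_prime_iff_eq hp (by norm_num)).1 (hp.dvd_of_dvd_pow hq)
    subst hpq
    exact hlt (by norm_num)
  rcases (Nat.Prime.dvd_mul hp).1 hp1 with hq | hp1
  · have hpq : p = 11 := (Nat.prime_dvd_prime_iff_eq hp (by norm_num)).1 (hp.dvd_of_dvd_pow hq)
    subst hpq
    exact hlt (by norm_num)
  rcases (Nat.Prime.dvd_mul hp).1 hp1 with hq | hp1
  · have hpq : p = 13 := (Nat.prime_dvd_prime_iff_eq hp (by norm_num)).1 (hp.dvd_of_dvd_pow hq)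
    subst hpq
    exact hlt (by norm_num)
  rcases (Nat.Prime.dvd_mul hp).1 hp1 with hq | hp1
  · have hpq : p = 17 := (Nat.prime_dvd_prime_iff_eq hp (by norm_num)).1 (hp.dvd_of_dvd_pow hq)
    subst hpq
    exact hlt (by norm_num)
  have hq := hp1
  have hpq : p = 23 := (Nat.prime_dvd_prime_iff_eq hp (by norm_num)).1 (hp.dvd_of_dvd_pow hq)
  subst hpq
  exact hlt (by norm_num)

theorem spor_IsFi24p (p : ℕ) (hp : p.Prime) (hodd : p ≠ 2) (h3 : (1255205709190661721292800 : ℕ).factorization p = 3) :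
    p ^ 3 < 2 ^ (1255205709190661721292800 : ℕ).factorization 2 := by
  have h2 : 21 ≤ (1255205709190661721292800 : ℕ).factorization 2 :=
    (Nat.Prime.pow_dvd_iff_le_factorization Nat.prime_two (by norm_num)).1 (by norm_num)
  have hlt : p ^ 3 < 2 ^ 21 → p ^ 3 < 2 ^ (1255205709190661721292800 : ℕ).factorization 2 :=
    fun h => lt_of_lt_of_le h (Nat.pow_le_pow_right (by norm_num) h2)
  have hpd : p ^ 3 ∣ (1255205709190661721292800 : ℕ) := by rw [← h3]; exact Nat.ordProj_dvd _ p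
  have hp1 : p ∣ (1255205709190661721292800 : ℕ) := dvd_trans (dvd_pow_self p (by norm_num)) hpd
  have hN : (1255205709190661721292800 : ℕ) = 2 ^ 21 * (3 ^ 16 * (5 ^ 2 * (7 ^ 3 * (11 ^ 1 * (13 ^ 1 * (17 ^ 1 * (23 ^ 1 * (29 ^ 1)))))))) := by norm_num
  rw [hN] at hp1
  rcases (Nat.Prime.dvd_mul hp).1 hp1 with hq | hp1
  · have hpq : p = 2 := (Nat.prime_dvd_prime_iff_eq hp (by norm_num)).1 (hp.dvd_of_dvd_pow hq)
    subst hpq
    exact absurd rfl hodd
  rcases (Nat.Prime.dvd_mul hp).1 hp1 with hq | hp1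
  · have hpq : p = 3 := (Nat.prime_dvd_prime_iff_eq hp (by norm_num)).1 (hp.dvd_of_dvd_pow hq)
    subst hpq
    exact hlt (by norm_num)
  rcases (Nat.Prime.dvd_mul hp).1 hp1 with hq | hp1
  · have hpq : p = 5 := (Nat.prime_dvd_prime_iff_eq hp (by norm_num)).1 (hp.dvd_of_dvd_pow hq)
    subst hpq
    exact hlt (by norm_num)
  rcases (Nat.Prime.dvd_mul hp).1 hp1 with hq | hp1
  · have hpq : p = 7 := (Nat.prime_dvd_prime_iff_eq hp (by norm_num)).1 (hp.dvd_of_dvd_pow hq)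
    subst hpq
    exact hlt (by norm_num)
  rcases (Nat.Prime.dvd_mul hp).1 hp1 with hq | hp1
  · have hpq : p = 11 := (Nat.prime_dvd_prime_iff_eq hp (by norm_num)).1 (hp.dvd_of_dvd_pow hq)
    subst hpq
    exact hlt (by norm_num)
  rcases (Nat.Prime.dvd_mul hp).1 hp1 with hq | hp1
  · have hpq : p = 13 := (Nat.prime_dvd_prime_iff_eq hp (by norm_num)).1 (hp.dvd_of_dvd_pow hq)
    subst hpq
    exact hlt (by norm_num)
  rcases (Nat.Prime.dvd_mul hp).1 hp1 with hq | hp1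
  · have hpq : p = 17 := (Nat.prime_dvd_prime_iff_eq hp (by norm_num)).1 (hp.dvd_of_dvd_pow hq)
    subst hpq
    exact hlt (by norm_num)
  rcases (Nat.Prime.dvd_mul hp).1 hp1 with hq | hp1
  · have hpq : p = 23 := (Nat.prime_dvd_prime_iff_eq hp (by norm_num)).1 (hp.dvd_of_dvd_pow hq)
    subst hpq
    exact hlt (by norm_num)
  have hq := hp1
  have hpq : p = 29 := (Nat.prime_dvd_prime_iff_eq hp (by norm_num)).1 (hp.dvd_of_dvd_pow hq)
  subst hpq
  exact hlt (by norm_num)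

theorem spor_IsHS (p : ℕ) (hp : p.Prime) (hodd : p ≠ 2) (h3 : (44352000 : ℕ).factorization p = 3) :
    p ^ 3 < 2 ^ (44352000 : ℕ).factorization 2 := by
  have h2 : 9 ≤ (44352000 : ℕ).factorization 2 :=
    (Nat.Prime.pow_dvd_iff_le_factorization Nat.prime_two (by norm_num)).1 (by norm_num)
  have hlt : p ^ 3 < 2 ^ 9 → p ^ 3 < 2 ^ (44352000 : ℕ).factorization 2 :=
    fun h => lt_of_lt_of_le h (Nat.pow_le_pow_right (by norm_num) h2)
  have hpd : p ^ 3 ∣ (44352000 : ℕ) := by rw [← h3]; exact Nat.ordProj_dvd _ p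
  have hp1 : p ∣ (44352000 : ℕ) := dvd_trans (dvd_pow_self p (by norm_num)) hpd
  have hN : (44352000 : ℕ) = 2 ^ 9 * (3 ^ 2 * (5 ^ 3 * (7 ^ 1 * (11 ^ 1)))) := by norm_num
  rw [hN] at hp1
  rcases (Nat.Prime.dvd_mul hp).1 hp1 with hq | hp1
  · have hpq : p = 2 := (Nat.prime_dvd_prime_iff_eq hp (by norm_num)).1 (hp.dvd_of_dvd_pow hq)
    subst hpq
    exact absurd rfl hodd
  rcases (Nat.Prime.dvd_mul hp).1 hp1 with hq | hp1
  · have hpq : p = 3 := (Nat.prime_dvd_prime_iff_eq hp (by norm_num)).1 (hp.dvd_of_dvd_pow hq)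
    subst hpq
    exact hlt (by norm_num)
  rcases (Nat.Prime.dvd_mul hp).1 hp1 with hq | hp1
  · have hpq : p = 5 := (Nat.prime_dvd_prime_iff_eq hp (by norm_num)).1 (hp.dvd_of_dvd_pow hq)
    subst hpq
    exact hlt (by norm_num)
  rcases (Nat.Prime.dvd_mul hp).1 hp1 with hq | hp1
  · have hpq : p = 7 := (Nat.prime_dvd_prime_iff_eq hp (by norm_num)).1 (hp.dvd_of_dvd_pow hq)
    subst hpq
    exact hlt (by norm_num)
  have hq := hp1
  have hpq : p = 11 := (Nat.prime_dvd_prime_iff_eq hp (by norm_num)).1 (hp.dvd_of_dvd_pow hq)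
  subst hpq
  exact absurd hpd (by norm_num)

theorem spor_IsMcL (p : ℕ) (hp : p.Prime) (hodd : p ≠ 2) (h3 : (898128000 : ℕ).factorization p = 3) :
    p ^ 3 < 2 ^ (898128000 : ℕ).factorization 2 := by
  have h2 : 7 ≤ (898128000 : ℕ).factorization 2 :=
    (Nat.Prime.pow_dvd_iff_le_factorization Nat.prime_two (by norm_num)).1 (by norm_num)
  have hlt : p ^ 3 < 2 ^ 7 → p ^ 3 < 2 ^ (898128000 : ℕ).factorization 2 :=
    fun h => lt_of_lt_of_le h (Nat.pow_le_pow_right (by norm_num) h2)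
  have hpd : p ^ 3 ∣ (898128000 : ℕ) := by rw [← h3]; exact Nat.ordProj_dvd _ p
  have hp1 : p ∣ (898128000 : ℕ) := dvd_trans (dvd_pow_self p (by norm_num)) hpd
  have hN : (898128000 : ℕ) = 2 ^ 7 * (3 ^ 6 * (5 ^ 3 * (7 ^ 1 * (11 ^ 1)))) := by norm_num
  rw [hN] at hp1
  rcases (Nat.Prime.dvd_mul hp).1 hp1 with hq | hp1
  · have hpq : p = 2 := (Nat.prime_dvd_prime_iff_eq hp (by norm_num)).1 (hp.dvd_of_dvd_pow hq)
    subst hpq
    exact absurd rfl hodd
  rcases (Nat.Prime.dvd_mul hp).1 hp1 with hq | hp1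
  · have hpq : p = 3 := (Nat.prime_dvd_prime_iff_eq hp (by norm_num)).1 (hp.dvd_of_dvd_pow hq)
    subst hpq
    exact hlt (by norm_num)
  rcases (Nat.Prime.dvd_mul hp).1 hp1 with hq | hp1
  · have hpq : p = 5 := (Nat.prime_dvd_prime_iff_eq hp (by norm_num)).1 (hp.dvd_of_dvd_pow hq)
    subst hpq
    exact hlt (by norm_num)
  rcases (Nat.Prime.dvd_mul hp).1 hp1 with hq | hp1
  · have hpq : p = 7 := (Nat.prime_dvd_prime_iff_eq hp (by norm_num)).1 (hp.dvd_of_dvd_pow hq)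
    subst hpq
    exact absurd hpd (by norm_num)
  have hq := hp1
  have hpq : p = 11 := (Nat.prime_dvd_prime_iff_eq hp (by norm_num)).1 (hp.dvd_of_dvd_pow hq)
  subst hpq
  exact absurd hpd (by norm_num)

theorem spor_IsHe (p : ℕ) (hp : p.Prime) (hodd : p ≠ 2) (h3 : (4030387200 : ℕ).factorization p = 3) :
    p ^ 3 < 2 ^ (4030387200 : ℕ).factorization 2 := by
  have h2 : 10 ≤ (4030387200 : ℕ).factorization 2 :=
    (Nat.Prime.pow_dvd_iff_le_factorization Nat.prime_two (by norm_num)).1 (by norm_num)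
  have hlt : p ^ 3 < 2 ^ 10 → p ^ 3 < 2 ^ (4030387200 : ℕ).factorization 2 :=
    fun h => lt_of_lt_of_le h (Nat.pow_le_pow_right (by norm_num) h2)
  have hpd : p ^ 3 ∣ (4030387200 : ℕ) := by rw [← h3]; exact Nat.ordProj_dvd _ p
  have hp1 : p ∣ (4030387200 : ℕ) := dvd_trans (dvd_pow_self p (by norm_num)) hpd
  have hN : (4030387200 : ℕ) = 2 ^ 10 * (3 ^ 3 * (5 ^ 2 * (7 ^ 3 * (17 ^ 1)))) := by norm_num
  rw [hN] at hp1
  rcases (Nat.Prime.dvd_mul hp).1 hp1 with hq | hp1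
  · have hpq : p = 2 := (Nat.prime_dvd_prime_iff_eq hp (by norm_num)).1 (hp.dvd_of_dvd_pow hq)
    subst hpq
    exact absurd rfl hodd
  rcases (Nat.Prime.dvd_mul hp).1 hp1 with hq | hp1
  · have hpq : p = 3 := (Nat.prime_dvd_prime_iff_eq hp (by norm_num)).1 (hp.dvd_of_dvd_pow hq)
    subst hpq
    exact hlt (by norm_num)
  rcases (Nat.Prime.dvd_mul hp).1 hp1 with hq | hp1
  · have hpq : p = 5 := (Nat.prime_dvd_prime_iff_eq hp (by norm_num)).1 (hp.dvd_of_dvd_pow hq)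
    subst hpq
    exact hlt (by norm_num)
  rcases (Nat.Prime.dvd_mul hp).1 hp1 with hq | hp1
  · have hpq : p = 7 := (Nat.prime_dvd_prime_iff_eq hp (by norm_num)).1 (hp.dvd_of_dvd_pow hq)
    subst hpq
    exact hlt (by norm_num)
  have hq := hp1
  have hpq : p = 17 := (Nat.prime_dvd_prime_iff_eq hp (by norm_num)).1 (hp.dvd_of_dvd_pow hq)
  subst hpq
  exact absurd hpd (by norm_num)

theorem spor_IsRu (p : ℕ) (hp : p.Prime) (hodd : p ≠ 2) (h3 : (145926144000 : ℕ).factorization p = 3) :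
    p ^ 3 < 2 ^ (145926144000 : ℕ).factorization 2 := by
  have h2 : 14 ≤ (145926144000 : ℕ).factorization 2 :=
    (Nat.Prime.pow_dvd_iff_le_factorization Nat.prime_two (by norm_num)).1 (by norm_num)
  have hlt : p ^ 3 < 2 ^ 14 → p ^ 3 < 2 ^ (145926144000 : ℕ).factorization 2 :=
    fun h => lt_of_lt_of_le h (Nat.pow_le_pow_right (by norm_num) h2)
  have hpd : p ^ 3 ∣ (145926144000 : ℕ) := by rw [← h3]; exact Nat.ordProj_dvd _ p
  have hp1 : p ∣ (145926144000 : ℕ) := dvd_trans (dvd_pow_self p (by norm_num)) hpd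
  have hN : (145926144000 : ℕ) = 2 ^ 14 * (3 ^ 3 * (5 ^ 3 * (7 ^ 1 * (13 ^ 1 * (29 ^ 1))))) := by norm_num
  rw [hN] at hp1
  rcases (Nat.Prime.dvd_mul hp).1 hp1 with hq | hp1
  · have hpq : p = 2 := (Nat.prime_dvd_prime_iff_eq hp (by norm_num)).1 (hp.dvd_of_dvd_pow hq)
    subst hpq
    exact absurd rfl hodd
  rcases (Nat.Prime.dvd_mul hp).1 hp1 with hq | hp1
  · have hpq : p = 3 := (Nat.prime_dvd_prime_iff_eq hp (by norm_num)).1 (hp.dvd_of_dvd_pow hq)
    subst hpq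
    exact hlt (by norm_num)
  rcases (Nat.Prime.dvd_mul hp).1 hp1 with hq | hp1
  · have hpq : p = 5 := (Nat.prime_dvd_prime_iff_eq hp (by norm_num)).1 (hp.dvd_of_dvd_pow hq)
    subst hpq
    exact hlt (by norm_num)
  rcases (Nat.Prime.dvd_mul hp).1 hp1 with hq | hp1
  · have hpq : p = 7 := (Nat.prime_dvd_prime_iff_eq hp (by norm_num)).1 (hp.dvd_of_dvd_pow hq)
    subst hpq
    exact hlt (by norm_num)
  rcases (Nat.Prime.dvd_mul hp).1 hp1 with hq | hp1
  · have hpq : p = 13 := (Nat.prime_dvd_prime_iff_eq hp (by norm_num)).1 (hp.dvd_of_dvd_pow hq)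
    subst hpq
    exact hlt (by norm_num)
  have hq := hp1
  have hpq : p = 29 := (Nat.prime_dvd_prime_iff_eq hp (by norm_num)).1 (hp.dvd_of_dvd_pow hq)
  subst hpq
  exact absurd hpd (by norm_num)

theorem spor_IsSuz (p : ℕ) (hp : p.Prime) (hodd : p ≠ 2) (h3 : (448345497600 : ℕ).factorization p = 3) :
    p ^ 3 < 2 ^ (448345497600 : ℕ).factorization 2 := by
  have h2 : 13 ≤ (448345497600 : ℕ).factorization 2 :=
    (Nat.Prime.pow_dvd_iff_le_factorization Nat.prime_two (by norm_num)).1 (by norm_num)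
  have hlt : p ^ 3 < 2 ^ 13 → p ^ 3 < 2 ^ (448345497600 : ℕ).factorization 2 :=
    fun h => lt_of_lt_of_le h (Nat.pow_le_pow_right (by norm_num) h2)
  have hpd : p ^ 3 ∣ (448345497600 : ℕ) := by rw [← h3]; exact Nat.ordProj_dvd _ p
  have hp1 : p ∣ (448345497600 : ℕ) := dvd_trans (dvd_pow_self p (by norm_num)) hpd
  have hN : (448345497600 : ℕ) = 2 ^ 13 * (3 ^ 7 * (5 ^ 2 * (7 ^ 1 * (11 ^ 1 * (13 ^ 1))))) := by norm_num
  rw [hN] at hp1
  rcases (Nat.Prime.dvd_mul hp).1 hp1 with hq | hp1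
  · have hpq : p = 2 := (Nat.prime_dvd_prime_iff_eq hp (by norm_num)).1 (hp.dvd_of_dvd_pow hq)
    subst hpq
    exact absurd rfl hodd
  rcases (Nat.Prime.dvd_mul hp).1 hp1 with hq | hp1
  · have hpq : p = 3 := (Nat.prime_dvd_prime_iff_eq hp (by norm_num)).1 (hp.dvd_of_dvd_pow hq)
    subst hpq
    exact hlt (by norm_num)
  rcases (Nat.Prime.dvd_mul hp).1 hp1 with hq | hp1
  · have hpq : p = 5 := (Nat.prime_dvd_prime_iff_eq hp (by norm_num)).1 (hp.dvd_of_dvd_pow hq)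
    subst hpq
    exact hlt (by norm_num)
  rcases (Nat.Prime.dvd_mul hp).1 hp1 with hq | hp1
  · have hpq : p = 7 := (Nat.prime_dvd_prime_iff_eq hp (by norm_num)).1 (hp.dvd_of_dvd_pow hq)
    subst hpq
    exact hlt (by norm_num)
  rcases (Nat.Prime.dvd_mul hp).1 hp1 with hq | hp1
  · have hpq : p = 11 := (Nat.prime_dvd_prime_iff_eq hp (by norm_num)).1 (hp.dvd_of_dvd_pow hq)
    subst hpq
    exact hlt (by norm_num)
  have hq := hp1
  have hpq : p = 13 := (Nat.prime_dvd_prime_iff_eq hp (by norm_num)).1 (hp.dvd_of_dvd_pow hq)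
  subst hpq
  exact hlt (by norm_num)

theorem spor_IsON (p : ℕ) (hp : p.Prime) (hodd : p ≠ 2) (h3 : (460815505920 : ℕ).factorization p = 3) :
    p ^ 3 < 2 ^ (460815505920 : ℕ).factorization 2 := by
  have h2 : 9 ≤ (460815505920 : ℕ).factorization 2 :=
    (Nat.Prime.pow_dvd_iff_le_factorization Nat.prime_two (by norm_num)).1 (by norm_num)
  have hlt : p ^ 3 < 2 ^ 9 → p ^ 3 < 2 ^ (460815505920 : ℕ).factorization 2 :=
    fun h => lt_of_lt_of_le h (Nat.pow_le_pow_right (by norm_num) h2)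
  have hpd : p ^ 3 ∣ (460815505920 : ℕ) := by rw [← h3]; exact Nat.ordProj_dvd _ p
  have hp1 : p ∣ (460815505920 : ℕ) := dvd_trans (dvd_pow_self p (by norm_num)) hpd
  have hN : (460815505920 : ℕ) = 2 ^ 9 * (3 ^ 4 * (5 ^ 1 * (7 ^ 3 * (11 ^ 1 * (19 ^ 1 * (31 ^ 1)))))) := by norm_num
  rw [hN] at hp1
  rcases (Nat.Prime.dvd_mul hp).1 hp1 with hq | hp1
  · have hpq : p = 2 := (Nat.prime_dvd_prime_iff_eq hp (by norm_num)).1 (hp.dvd_of_dvd_pow hq)
    subst hpq
    exact absurd rfl hodd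
  rcases (Nat.Prime.dvd_mul hp).1 hp1 with hq | hp1
  · have hpq : p = 3 := (Nat.prime_dvd_prime_iff_eq hp (by norm_num)).1 (hp.dvd_of_dvd_pow hq)
    subst hpq
    exact hlt (by norm_num)
  rcases (Nat.Prime.dvd_mul hp).1 hp1 with hq | hp1
  · have hpq : p = 5 := (Nat.prime_dvd_prime_iff_eq hp (by norm_num)).1 (hp.dvd_of_dvd_pow hq)
    subst hpq
    exact hlt (by norm_num)
  rcases (Nat.Prime.dvd_mul hp).1 hp1 with hq | hp1
  · have hpq : p = 7 := (Nat.prime_dvd_prime_iff_eq hp (by norm_num)).1 (hp.dvd_of_dvd_pow hq)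
    subst hpq
    exact hlt (by norm_num)
  rcases (Nat.Prime.dvd_mul hp).1 hp1 with hq | hp1
  · have hpq : p = 11 := (Nat.prime_dvd_prime_iff_eq hp (by norm_num)).1 (hp.dvd_of_dvd_pow hq)
    subst hpq
    exact absurd hpd (by norm_num)
  rcases (Nat.Prime.dvd_mul hp).1 hp1 with hq | hp1
  · have hpq : p = 19 := (Nat.prime_dvd_prime_iff_eq hp (by norm_num)).1 (hp.dvd_of_dvd_pow hq)
    subst hpq
    exact absurd hpd (by norm_num)
  have hq := hp1
  have hpq : p = 31 := (Nat.prime_dvd_prime_iff_eq hp (by norm_num)).1 (hp.dvd_of_dvd_pow hq)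
  subst hpq
  exact absurd hpd (by norm_num)

theorem spor_IsHN (p : ℕ) (hp : p.Prime) (hodd : p ≠ 2) (h3 : (273030912000000 : ℕ).factorization p = 3) :
    p ^ 3 < 2 ^ (273030912000000 : ℕ).factorization 2 := by
  have h2 : 14 ≤ (273030912000000 : ℕ).factorization 2 :=
    (Nat.Prime.pow_dvd_iff_le_factorization Nat.prime_two (by norm_num)).1 (by norm_num)
  have hlt : p ^ 3 < 2 ^ 14 → p ^ 3 < 2 ^ (273030912000000 : ℕ).factorization 2 :=
    fun h => lt_of_lt_of_le h (Nat.pow_le_pow_right (by norm_num) h2)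
  have hpd : p ^ 3 ∣ (273030912000000 : ℕ) := by rw [← h3]; exact Nat.ordProj_dvd _ p
  have hp1 : p ∣ (273030912000000 : ℕ) := dvd_trans (dvd_pow_self p (by norm_num)) hpd
  have hN : (273030912000000 : ℕ) = 2 ^ 14 * (3 ^ 6 * (5 ^ 6 * (7 ^ 1 * (11 ^ 1 * (19 ^ 1))))) := by norm_num
  rw [hN] at hp1
  rcases (Nat.Prime.dvd_mul hp).1 hp1 with hq | hp1
  · have hpq : p = 2 := (Nat.prime_dvd_prime_iff_eq hp (by norm_num)).1 (hp.dvd_of_dvd_pow hq)
    subst hpq
    exact absurd rfl hodd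
  rcases (Nat.Prime.dvd_mul hp).1 hp1 with hq | hp1
  · have hpq : p = 3 := (Nat.prime_dvd_prime_iff_eq hp (by norm_num)).1 (hp.dvd_of_dvd_pow hq)
    subst hpq
    exact hlt (by norm_num)
  rcases (Nat.Prime.dvd_mul hp).1 hp1 with hq | hp1
  · have hpq : p = 5 := (Nat.prime_dvd_prime_iff_eq hp (by norm_num)).1 (hp.dvd_of_dvd_pow hq)
    subst hpq
    exact hlt (by norm_num)
  rcases (Nat.Prime.dvd_mul hp).1 hp1 with hq | hp1
  · have hpq : p = 7 := (Nat.prime_dvd_prime_iff_eq hp (by norm_num)).1 (hp.dvd_of_dvd_pow hq)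
    subst hpq
    exact hlt (by norm_num)
  rcases (Nat.Prime.dvd_mul hp).1 hp1 with hq | hp1
  · have hpq : p = 11 := (Nat.prime_dvd_prime_iff_eq hp (by norm_num)).1 (hp.dvd_of_dvd_pow hq)
    subst hpq
    exact hlt (by norm_num)
  have hq := hp1
  have hpq : p = 19 := (Nat.prime_dvd_prime_iff_eq hp (by norm_num)).1 (hp.dvd_of_dvd_pow hq)
  subst hpq
  exact hlt (by norm_num)

theorem spor_IsLy (p : ℕ) (hp : p.Prime) (hodd : p ≠ 2) (h3 : (51765179004000000 : ℕ).factorization p = 3) :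
    p ^ 3 < 2 ^ (51765179004000000 : ℕ).factorization 2 := by
  have h2 : 8 ≤ (51765179004000000 : ℕ).factorization 2 :=
    (Nat.Prime.pow_dvd_iff_le_factorization Nat.prime_two (by norm_num)).1 (by norm_num)
  have hlt : p ^ 3 < 2 ^ 8 → p ^ 3 < 2 ^ (51765179004000000 : ℕ).factorization 2 :=
    fun h => lt_of_lt_of_le h (Nat.pow_le_pow_right (by norm_num) h2)
  have hpd : p ^ 3 ∣ (51765179004000000 : ℕ) := by rw [← h3]; exact Nat.ordProj_dvd _ p
  have hp1 : p ∣ (51765179004000000 : ℕ) := dvd_trans (dvd_pow_self p (by norm_num)) hpd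
  have hN : (51765179004000000 : ℕ) = 2 ^ 8 * (3 ^ 7 * (5 ^ 6 * (7 ^ 1 * (11 ^ 1 * (31 ^ 1 * (37 ^ 1 * (67 ^ 1))))))) := by norm_num
  rw [hN] at hp1
  rcases (Nat.Prime.dvd_mul hp).1 hp1 with hq | hp1
  · have hpq : p = 2 := (Nat.prime_dvd_prime_iff_eq hp (by norm_num)).1 (hp.dvd_of_dvd_pow hq)
    subst hpq
    exact absurd rfl hodd
  rcases (Nat.Prime.dvd_mul hp).1 hp1 with hq | hp1
  · have hpq : p = 3 := (Nat.prime_dvd_prime_iff_eq hp (by norm_num)).1 (hp.dvd_of_dvd_pow hq)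
    subst hpq
    exact hlt (by norm_num)
  rcases (Nat.Prime.dvd_mul hp).1 hp1 with hq | hp1
  · have hpq : p = 5 := (Nat.prime_dvd_prime_iff_eq hp (by norm_num)).1 (hp.dvd_of_dvd_pow hq)
    subst hpq
    exact hlt (by norm_num)
  rcases (Nat.Prime.dvd_mul hp).1 hp1 with hq | hp1
  · have hpq : p = 7 := (Nat.prime_dvd_prime_iff_eq hp (by norm_num)).1 (hp.dvd_of_dvd_pow hq)
    subst hpq
    exact absurd hpd (by norm_num)
  rcases (Nat.Prime.dvd_mul hp).1 hp1 with hq | hp1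
  · have hpq : p = 11 := (Nat.prime_dvd_prime_iff_eq hp (by norm_num)).1 (hp.dvd_of_dvd_pow hq)
    subst hpq
    exact absurd hpd (by norm_num)
  rcases (Nat.Prime.dvd_mul hp).1 hp1 with hq | hp1
  · have hpq : p = 31 := (Nat.prime_dvd_prime_iff_eq hp (by norm_num)).1 (hp.dvd_of_dvd_pow hq)
    subst hpq
    exact absurd hpd (by norm_num)
  rcases (Nat.Prime.dvd_mul hp).1 hp1 with hq | hp1
  · have hpq : p = 37 := (Nat.prime_dvd_prime_iff_eq hp (by norm_num)).1 (hp.dvd_of_dvd_pow hq)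
    subst hpq
    exact absurd hpd (by norm_num)
  have hq := hp1
  have hpq : p = 67 := (Nat.prime_dvd_prime_iff_eq hp (by norm_num)).1 (hp.dvd_of_dvd_pow hq)
  subst hpq
  exact absurd hpd (by norm_num)

theorem spor_IsTh (p : ℕ) (hp : p.Prime) (hodd : p ≠ 2) (h3 : (90745943887872000 : ℕ).factorization p = 3) :
    p ^ 3 < 2 ^ (90745943887872000 : ℕ).factorization 2 := by
  have h2 : 15 ≤ (90745943887872000 : ℕ).factorization 2 :=
    (Nat.Prime.pow_dvd_iff_le_factorization Nat.prime_two (by norm_num)).1 (by norm_num)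
  have hlt : p ^ 3 < 2 ^ 15 → p ^ 3 < 2 ^ (90745943887872000 : ℕ).factorization 2 :=
    fun h => lt_of_lt_of_le h (Nat.pow_le_pow_right (by norm_num) h2)
  have hpd : p ^ 3 ∣ (90745943887872000 : ℕ) := by rw [← h3]; exact Nat.ordProj_dvd _ p
  have hp1 : p ∣ (90745943887872000 : ℕ) := dvd_trans (dvd_pow_self p (by norm_num)) hpd
  have hN : (90745943887872000 : ℕ) = 2 ^ 15 * (3 ^ 10 * (5 ^ 3 * (7 ^ 2 * (13 ^ 1 * (19 ^ 1 * (31 ^ 1)))))) := by norm_num
  rw [hN] at hp1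
  rcases (Nat.Prime.dvd_mul hp).1 hp1 with hq | hp1
  · have hpq : p = 2 := (Nat.prime_dvd_prime_iff_eq hp (by norm_num)).1 (hp.dvd_of_dvd_pow hq)
    subst hpq
    exact absurd rfl hodd
  rcases (Nat.Prime.dvd_mul hp).1 hp1 with hq | hp1
  · have hpq : p = 3 := (Nat.prime_dvd_prime_iff_eq hp (by norm_num)).1 (hp.dvd_of_dvd_pow hq)
    subst hpq
    exact hlt (by norm_num)
  rcases (Nat.Prime.dvd_mul hp).1 hp1 with hq | hp1
  · have hpq : p = 5 := (Nat.prime_dvd_prime_iff_eq hp (by norm_num)).1 (hp.dvd_of_dvd_pow hq)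
    subst hpq
    exact hlt (by norm_num)
  rcases (Nat.Prime.dvd_mul hp).1 hp1 with hq | hp1
  · have hpq : p = 7 := (Nat.prime_dvd_prime_iff_eq hp (by norm_num)).1 (hp.dvd_of_dvd_pow hq)
    subst hpq
    exact hlt (by norm_num)
  rcases (Nat.Prime.dvd_mul hp).1 hp1 with hq | hp1
  · have hpq : p = 13 := (Nat.prime_dvd_prime_iff_eq hp (by norm_num)).1 (hp.dvd_of_dvd_pow hq)
    subst hpq
    exact hlt (by norm_num)
  rcases (Nat.Prime.dvd_mul hp).1 hp1 with hq | hp1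
  · have hpq : p = 19 := (Nat.prime_dvd_prime_iff_eq hp (by norm_num)).1 (hp.dvd_of_dvd_pow hq)
    subst hpq
    exact hlt (by norm_num)
  have hq := hp1
  have hpq : p = 31 := (Nat.prime_dvd_prime_iff_eq hp (by norm_num)).1 (hp.dvd_of_dvd_pow hq)
  subst hpq
  exact hlt (by norm_num)

theorem spor_IsB (p : ℕ) (hp : p.Prime) (hodd : p ≠ 2) (h3 : (4154781481226426191177580544000000 : ℕ).factorization p = 3) :
    p ^ 3 < 2 ^ (4154781481226426191177580544000000 : ℕ).factorization 2 := by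
  have h2 : 41 ≤ (4154781481226426191177580544000000 : ℕ).factorization 2 :=
    (Nat.Prime.pow_dvd_iff_le_factorization Nat.prime_two (by norm_num)).1 (by norm_num)
  have hlt : p ^ 3 < 2 ^ 41 → p ^ 3 < 2 ^ (4154781481226426191177580544000000 : ℕ).factorization 2 :=
    fun h => lt_of_lt_of_le h (Nat.pow_le_pow_right (by norm_num) h2)
  have hpd : p ^ 3 ∣ (4154781481226426191177580544000000 : ℕ) := by rw [← h3]; exact Nat.ordProj_dvd _ p
  have hp1 : p ∣ (4154781481226426191177580544000000 : ℕ) := dvd_trans (dvd_pow_self p (by norm_num)) hpd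
  have hN : (4154781481226426191177580544000000 : ℕ) = 2 ^ 41 * (3 ^ 13 * (5 ^ 6 * (7 ^ 2 * (11 ^ 1 * (13 ^ 1 * (17 ^ 1 * (19 ^ 1 * (23 ^ 1 * (31 ^ 1 * (47 ^ 1)))))))))) := by norm_num
  rw [hN] at hp1
  rcases (Nat.Prime.dvd_mul hp).1 hp1 with hq | hp1
  · have hpq : p = 2 := (Nat.prime_dvd_prime_iff_eq hp (by norm_num)).1 (hp.dvd_of_dvd_pow hq)
    subst hpq
    exact absurd rfl hodd
  rcases (Nat.Prime.dvd_mul hp).1 hp1 with hq | hp1
  · have hpq : p = 3 := (Nat.prime_dvd_prime_iff_eq hp (by norm_num)).1 (hp.dvd_of_dvd_pow hq)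
    subst hpq
    exact hlt (by norm_num)
  rcases (Nat.Prime.dvd_mul hp).1 hp1 with hq | hp1
  · have hpq : p = 5 := (Nat.prime_dvd_prime_iff_eq hp (by norm_num)).1 (hp.dvd_of_dvd_pow hq)
    subst hpq
    exact hlt (by norm_num)
  rcases (Nat.Prime.dvd_mul hp).1 hp1 with hq | hp1
  · have hpq : p = 7 := (Nat.prime_dvd_prime_iff_eq hp (by norm_num)).1 (hp.dvd_of_dvd_pow hq)
    subst hpq
    exact hlt (by norm_num)
  rcases (Nat.Prime.dvd_mul hp).1 hp1 with hq | hp1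
  · have hpq : p = 11 := (Nat.prime_dvd_prime_iff_eq hp (by norm_num)).1 (hp.dvd_of_dvd_pow hq)
    subst hpq
    exact hlt (by norm_num)
  rcases (Nat.Prime.dvd_mul hp).1 hp1 with hq | hp1
  · have hpq : p = 13 := (Nat.prime_dvd_prime_iff_eq hp (by norm_num)).1 (hp.dvd_of_dvd_pow hq)
    subst hpq
    exact hlt (by norm_num)
  rcases (Nat.Prime.dvd_mul hp).1 hp1 with hq | hp1
  · have hpq : p = 17 := (Nat.prime_dvd_prime_iff_eq hp (by norm_num)).1 (hp.dvd_of_dvd_pow hq)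
    subst hpq
    exact hlt (by norm_num)
  rcases (Nat.Prime.dvd_mul hp).1 hp1 with hq | hp1
  · have hpq : p = 19 := (Nat.prime_dvd_prime_iff_eq hp (by norm_num)).1 (hp.dvd_of_dvd_pow hq)
    subst hpq
    exact hlt (by norm_num)
  rcases (Nat.Prime.dvd_mul hp).1 hp1 with hq | hp1
  · have hpq : p = 23 := (Nat.prime_dvd_prime_iff_eq hp (by norm_num)).1 (hp.dvd_of_dvd_pow hq)
    subst hpq
    exact hlt (by norm_num)
  rcases (Nat.Prime.dvd_mul hp).1 hp1 with hq | hp1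
  · have hpq : p = 31 := (Nat.prime_dvd_prime_iff_eq hp (by norm_num)).1 (hp.dvd_of_dvd_pow hq)
    subst hpq
    exact hlt (by norm_num)
  have hq := hp1
  have hpq : p = 47 := (Nat.prime_dvd_prime_iff_eq hp (by norm_num)).1 (hp.dvd_of_dvd_pow hq)
  subst hpq
  exact hlt (by norm_num)

theorem spor_IsM (p : ℕ) (hp : p.Prime) (hodd : p ≠ 2) (h3 : (808017424794512875886459904961710757005754368000000000 : ℕ).factorization p = 3) :
    p ^ 3 < 2 ^ (808017424794512875886459904961710757005754368000000000 : ℕ).factorization 2 := by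
  have h2 : 46 ≤ (808017424794512875886459904961710757005754368000000000 : ℕ).factorization 2 :=
    (Nat.Prime.pow_dvd_iff_le_factorization Nat.prime_two (by norm_num)).1 (by norm_num)
  have hlt : p ^ 3 < 2 ^ 46 → p ^ 3 < 2 ^ (808017424794512875886459904961710757005754368000000000 : ℕ).factorization 2 :=
    fun h => lt_of_lt_of_le h (Nat.pow_le_pow_right (by norm_num) h2)
  have hpd : p ^ 3 ∣ (808017424794512875886459904961710757005754368000000000 : ℕ) := by rw [← h3]; exact Nat.ordProj_dvd _ p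
  have hp1 : p ∣ (808017424794512875886459904961710757005754368000000000 : ℕ) := dvd_trans (dvd_pow_self p (by norm_num)) hpd
  have hN : (808017424794512875886459904961710757005754368000000000 : ℕ) = 2 ^ 46 * (3 ^ 20 * (5 ^ 9 * (7 ^ 6 * (11 ^ 2 * (13 ^ 3 * (17 ^ 1 * (19 ^ 1 * (23 ^ 1 * (29 ^ 1 * (31 ^ 1 * (41 ^ 1 * (47 ^ 1 * (59 ^ 1 * (71 ^ 1)))))))))))))) := by norm_num
  rw [hN] at hp1
  rcases (Nat.Prime.dvd_mul hp).1 hp1 with hq | hp1
  · have hpq : p = 2 := (Nat.prime_dvd_prime_iff_eq hp (by norm_num)).1 (hp.dvd_of_dvd_pow hq)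
    subst hpq
    exact absurd rfl hodd
  rcases (Nat.Prime.dvd_mul hp).1 hp1 with hq | hp1
  · have hpq : p = 3 := (Nat.prime_dvd_prime_iff_eq hp (by norm_num)).1 (hp.dvd_of_dvd_pow hq)
    subst hpq
    exact hlt (by norm_num)
  rcases (Nat.Prime.dvd_mul hp).1 hp1 with hq | hp1
  · have hpq : p = 5 := (Nat.prime_dvd_prime_iff_eq hp (by norm_num)).1 (hp.dvd_of_dvd_pow hq)
    subst hpq
    exact hlt (by norm_num)
  rcases (Nat.Prime.dvd_mul hp).1 hp1 with hq | hp1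
  · have hpq : p = 7 := (Nat.prime_dvd_prime_iff_eq hp (by norm_num)).1 (hp.dvd_of_dvd_pow hq)
    subst hpq
    exact hlt (by norm_num)
  rcases (Nat.Prime.dvd_mul hp).1 hp1 with hq | hp1
  · have hpq : p = 11 := (Nat.prime_dvd_prime_iff_eq hp (by norm_num)).1 (hp.dvd_of_dvd_pow hq)
    subst hpq
    exact hlt (by norm_num)
  rcases (Nat.Prime.dvd_mul hp).1 hp1 with hq | hp1
  · have hpq : p = 13 := (Nat.prime_dvd_prime_iff_eq hp (by norm_num)).1 (hp.dvd_of_dvd_pow hq)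
    subst hpq
    exact hlt (by norm_num)
  rcases (Nat.Prime.dvd_mul hp).1 hp1 with hq | hp1
  · have hpq : p = 17 := (Nat.prime_dvd_prime_iff_eq hp (by norm_num)).1 (hp.dvd_of_dvd_pow hq)
    subst hpq
    exact hlt (by norm_num)
  rcases (Nat.Prime.dvd_mul hp).1 hp1 with hq | hp1
  · have hpq : p = 19 := (Nat.prime_dvd_prime_iff_eq hp (by norm_num)).1 (hp.dvd_of_dvd_pow hq)
    subst hpq
    exact hlt (by norm_num)
  rcases (Nat.Prime.dvd_mul hp).1 hp1 with hq | hp1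
  · have hpq : p = 23 := (Nat.prime_dvd_prime_iff_eq hp (by norm_num)).1 (hp.dvd_of_dvd_pow hq)
    subst hpq
    exact hlt (by norm_num)
  rcases (Nat.Prime.dvd_mul hp).1 hp1 with hq | hp1
  · have hpq : p = 29 := (Nat.prime_dvd_prime_iff_eq hp (by norm_num)).1 (hp.dvd_of_dvd_pow hq)
    subst hpq
    exact hlt (by norm_num)
  rcases (Nat.Prime.dvd_mul hp).1 hp1 with hq | hp1
  · have hpq : p = 31 := (Nat.prime_dvd_prime_iff_eq hp (by norm_num)).1 (hp.dvd_of_dvd_pow hq)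
    subst hpq
    exact hlt (by norm_num)
  rcases (Nat.Prime.dvd_mul hp).1 hp1 with hq | hp1
  · have hpq : p = 41 := (Nat.prime_dvd_prime_iff_eq hp (by norm_num)).1 (hp.dvd_of_dvd_pow hq)
    subst hpq
    exact hlt (by norm_num)
  rcases (Nat.Prime.dvd_mul hp).1 hp1 with hq | hp1
  · have hpq : p = 47 := (Nat.prime_dvd_prime_iff_eq hp (by norm_num)).1 (hp.dvd_of_dvd_pow hq)
    subst hpq
    exact hlt (by norm_num)
  rcases (Nat.Prime.dvd_mul hp).1 hp1 with hq | hp1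
  · have hpq : p = 59 := (Nat.prime_dvd_prime_iff_eq hp (by norm_num)).1 (hp.dvd_of_dvd_pow hq)
    subst hpq
    exact hlt (by norm_num)
  have hq := hp1
  have hpq : p = 71 := (Nat.prime_dvd_prime_iff_eq hp (by norm_num)).1 (hp.dvd_of_dvd_pow hq)
  subst hpq
  exact hlt (by norm_num)


theorem cube_lt_pow : ∀ p : ℕ, 5 ≤ p → p ^ 3 < 2 ^ (2 * p - 1) := by
  intro p hp
  induction p, hp using Nat.le_induction with
  | base => norm_num
  | succ k hk ih =>
    have e : 2 * (k + 1) - 1 = (2 * k - 1) + 2 := by omega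
    rw [e, pow_add]
    have : (k + 1) ^ 3 ≤ 4 * k ^ 3 := by nlinarith [hk, sq_nonneg k, mul_pos (show 0 < k by omega) (show 0 < k by omega)]
    calc (k + 1) ^ 3 ≤ 4 * k ^ 3 := this
      _ < 4 * 2 ^ (2 * k - 1) := by omega
      _ = 2 ^ (2 * k - 1) * 2 ^ 2 := by ring

theorem sum_two_le (n p : ℕ) (hn : 5 ≤ n) (hp : p.Prime) :
    n / p + n / p ^ 2 ≤ (n.factorial).factorization p := by
  rw [Nat.factorization_factorial hp (b := n + 1) (Nat.lt_succ_of_le (Nat.log_le_self p n))]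
  have hsub : ({1, 2} : Finset ℕ) ⊆ Finset.Ico 1 (n + 1) := by
    intro i hi
    simp only [Finset.mem_insert, Finset.mem_singleton] at hi
    rw [Finset.mem_Ico]
    omega
  have := Finset.sum_le_sum_of_subset (f := fun i => n / p ^ i) hsub
  rw [Finset.sum_pair (by norm_num)] at this
  simpa using this

theorem fact_alt (n p : ℕ) (hn : 5 ≤ n) (hp : p.Prime) (hodd : p ≠ 2)
    (h3 : (n.factorial).factorization p = 3) : 5 ≤ p ∧ 3 * p ≤ n := by
  have hp2 : 2 ≤ p := hp.two_le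
  have hp3 : 3 ≤ p := by omega
  have hle := sum_two_le n p hn hp
  rw [h3] at hle
  have hppos : 0 < p := by omega
  -- n / p ≥ 3
  have h3le : 3 ≤ n / p := by
    by_contra hcon
    push Not at hcon
    have hn3 : n < 3 * p := by
      have := Nat.lt_of_div_lt_div (a := n) (b := 3 * p) (c := p) (by
        rw [Nat.mul_div_cancel _ hppos]; exact hcon)
      exact this
    have hnp2 : n < p ^ 2 := by nlinarith
    have hsum : (n.factorial).factorization p = n / p := by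
      rw [Nat.factorization_factorial hp (b := n + 1) (Nat.lt_succ_of_le (Nat.log_le_self p n))]
      rw [Finset.sum_eq_single 1]
      · rw [pow_one]
      · intro i hi hi1
        rw [Finset.mem_Ico] at hi
        apply Nat.div_eq_of_lt
        calc n < p ^ 2 := hnp2
          _ ≤ p ^ i := Nat.pow_le_pow_right hppos (by omega)
      · intro h
        exfalso; apply h
        rw [Finset.mem_Ico]; omega
    omega
  have h3p : 3 * p ≤ n := by
    have := Nat.div_mul_le_self n p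
    nlinarith
  refine ⟨?_, h3p⟩
  by_contra hcon
  push Not at hcon
  have hp34 : p = 3 ∨ p = 4 := by omega
  rcases hp34 with rfl | rfl
  · have h9 : 1 ≤ n / 3 ^ 2 := by
      rw [Nat.le_div_iff_mul_le (by norm_num)]; omega
    omega
  · exact absurd hp (by norm_num)

theorem two_part_alt (n p : ℕ) (hp5 : 5 ≤ p) (h3p : 3 * p ≤ n) :
    2 * p ≤ (n.factorial).factorization 2 := by
  have := sum_two_le n 2 (by omega) Nat.prime_two
  have h4 : n / 2 ^ 2 = n / 4 := by norm_num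
  rw [h4] at this
  omega

theorem alt_case (n : ℕ) (hn : 5 ≤ n) (p : ℕ) (hp : p.Prime) (hodd : p ≠ 2)
    (h3 : (n.factorial / 2).factorization p = 3) :
    p ^ 3 < 2 ^ (n.factorial / 2).factorization 2 := by
  have h2dvd : 2 ∣ n.factorial := Nat.dvd_factorial (by norm_num) (by omega)
  have hNpos : n.factorial / 2 ≠ 0 := by
    have := Nat.factorial_pos n
    intro h
    have h' := Nat.div_mul_cancel h2dvd
    rw [h, zero_mul] at h'
    omega
  have hfac : n.factorial = 2 * (n.factorial / 2) := (Nat.mul_div_cancel' h2dvd).symm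
  have hf : (n.factorial).factorization = (2 : ℕ).factorization + (n.factorial / 2).factorization := by
    conv_lhs => rw [hfac]
    exact Nat.factorization_mul (by norm_num) hNpos
  have hfp : (n.factorial).factorization p = (n.factorial / 2).factorization p := by
    rw [hf, Finsupp.add_apply, Nat.Prime.factorization Nat.prime_two,
      Finsupp.single_apply, if_neg (Ne.symm hodd), zero_add]
  have hf2 : (n.factorial).factorization 2 = 1 + (n.factorial / 2).factorization 2 := by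
    rw [hf, Finsupp.add_apply, Nat.Prime.factorization Nat.prime_two,
      Finsupp.single_apply, if_pos rfl]
  rw [← hfp] at h3
  obtain ⟨hp5, h3p⟩ := fact_alt n p hn hp hodd h3
  have h2p := two_part_alt n p hp5 h3p
  have hle : 2 * p - 1 ≤ (n.factorial / 2).factorization 2 := by omega
  exact lt_of_lt_of_le (cube_lt_pow p hp5) (Nat.pow_le_pow_right (by norm_num) hle)

/-- Let G be an alternating group of degree at least 5 or a simple group with the order of one of the 26 sporadic groups, and let p be an odd prime such that p³ is the exact power of p dividing the order of G. Then p³ is less than the 2-part of the order of G. -/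
theorem result {G : Type*} [Group G] [Finite G] (hG : Cfsg.IsAlternating G ∨ Cfsg.IsSporadic G)
    (p : ℕ) (hp : p.Prime) (hodd : p ≠ 2) (h3 : (Nat.card G).factorization p = 3) :
    p ^ 3 < 2 ^ (Nat.card G).factorization 2 := by
  rcases hG with ⟨n, hn, ⟨e⟩⟩ | hS
  · have hcard : Nat.card G = n.factorial / 2 := by
      rw [Nat.card_congr e.toEquiv]
      haveI : Nontrivial (Fin n) := Fin.nontrivial_iff_two_le.2 (by omega)
      rw [nat_card_alternatingGroup, Nat.card_fin]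
    rw [hcard] at h3 ⊢
    exact alt_case n hn p hp hodd h3
  · unfold Cfsg.IsSporadic at hS
    rcases hS with ⟨-, h⟩ | ⟨-, h⟩ | ⟨-, h⟩ | ⟨-, h⟩ | ⟨-, h⟩ | ⟨-, h⟩ | ⟨-, h⟩ | ⟨-, h⟩ | ⟨-, h⟩ | ⟨-, h⟩ | ⟨-, h⟩ | ⟨-, h⟩ | ⟨-, h⟩ | ⟨-, h⟩ | ⟨-, h⟩ | ⟨-, h⟩ | ⟨-, h⟩ | ⟨-, h⟩ | ⟨-, h⟩ | ⟨-, h⟩ | ⟨-, h⟩ | ⟨-, h⟩ | ⟨-, h⟩ | ⟨-, h⟩ | ⟨-, h⟩ | ⟨-, h⟩
    · rw [h] at h3 ⊢; exact spor_IsM11 p hp hodd h3
    · rw [h] at h3 ⊢; exact spor_IsM12 p hp hodd h3
    · rw [h] at h3 ⊢; exact spor_IsM22 p hp hodd h3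
    · rw [h] at h3 ⊢; exact spor_IsM23 p hp hodd h3
    · rw [h] at h3 ⊢; exact spor_IsM24 p hp hodd h3
    · rw [h] at h3 ⊢; exact spor_IsJ1 p hp hodd h3
    · rw [h] at h3 ⊢; exact spor_IsJ2 p hp hodd h3
    · rw [h] at h3 ⊢; exact spor_IsJ3 p hp hodd h3
    · rw [h] at h3 ⊢; exact spor_IsJ4 p hp hodd h3
    · rw [h] at h3 ⊢; exact spor_IsCo1 p hp hodd h3
    · rw [h] at h3 ⊢; exact spor_IsCo2 p hp hodd h3
    · rw [h] at h3 ⊢; exact spor_IsCo3 p hp hodd h3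
    · rw [h] at h3 ⊢; exact spor_IsFi22 p hp hodd h3
    · rw [h] at h3 ⊢; exact spor_IsFi23 p hp hodd h3
    · rw [h] at h3 ⊢; exact spor_IsFi24p p hp hodd h3
    · rw [h] at h3 ⊢; exact spor_IsHS p hp hodd h3
    · rw [h] at h3 ⊢; exact spor_IsMcL p hp hodd h3
    · rw [h] at h3 ⊢; exact spor_IsHe p hp hodd h3
    · rw [h] at h3 ⊢; exact spor_IsRu p hp hodd h3
    · rw [h] at h3 ⊢; exact spor_IsSuz p hp hodd h3
    · rw [h] at h3 ⊢; exact spor_IsON p hp hodd h3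
    · rw [h] at h3 ⊢; exact spor_IsHN p hp hodd h3
    · rw [h] at h3 ⊢; exact spor_IsLy p hp hodd h3
    · rw [h] at h3 ⊢; exact spor_IsTh p hp hodd h3
    · rw [h] at h3 ⊢; exact spor_IsB p hp hodd h3
    · rw [h] at h3 ⊢; exact spor_IsM p hp hodd h3

end Cfsg.Agent.S2367
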