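import Cfsg.Statements.S2379
-- import your own Cfsg.Agent.* helpers here
import Mathlib
import Cfsg.Agent.Lib.Helper25.GLSylow2
import Cfsg.Agent.Lib.Helper19.ExcIso

set_option autoImplicit false
open Cfsg

namespace Cfsg.Agent.S2379

section Diag

variable {F : Type*} [Field F]

/-- the diagonal vector -/
def dvec (k : ℕ) (c : Fin k → Fˣ) : Fin (k + 1) → F :=
  Fin.snoc (α := fun _ => F) (fun i => (c i : F)) ((∏ i, (c i : F))⁻¹)

theorem dvec_castSucc (k : ℕ) (c : Fin k → Fˣ) (i : Fin k) : dvec k c i.castSucc = (c i : F) := by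
  unfold dvec
  rw [Fin.snoc_castSucc]

theorem dvec_last (k : ℕ) (c : Fin k → Fˣ) : dvec k c (Fin.last k) = (∏ i, (c i : F))⁻¹ := by
  unfold dvec
  rw [Fin.snoc_last]

theorem dvec_prod (k : ℕ) (c : Fin k → Fˣ) : ∏ j, dvec k c j = 1 := by
  rw [Fin.prod_univ_castSucc, dvec_last]
  simp only [dvec_castSucc]
  apply mul_inv_cancel₀
  rw [Finset.prod_ne_zero_iff]
  intro i _
  exact (c i).ne_zero

theorem dvec_mul (k : ℕ) (c c' : Fin k → Fˣ) (j : Fin (k + 1)) :
    dvec k (c * c') j = dvec k c j * dvec k c' j := by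
  refine Fin.lastCases ?_ (fun i => ?_) j
  · rw [dvec_last, dvec_last, dvec_last, ← mul_inv, ← Finset.prod_mul_distrib]
    simp
  · rw [dvec_castSucc, dvec_castSucc, dvec_castSucc]
    simp

theorem dvec_one (k : ℕ) (j : Fin (k + 1)) : dvec (F := F) k 1 j = 1 := by
  refine Fin.lastCases ?_ (fun i => ?_) j
  · rw [dvec_last]
    simp
  · rw [dvec_castSucc]
    simp

variable (F) in
/-- the diagonal torus of `SL` -/
def diagSL [DecidableEq F] (k : ℕ) : (Fin k → Fˣ) →* Matrix.SpecialLinearGroup (Fin (k + 1)) F where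
  toFun c := ⟨Matrix.diagonal (dvec k c), by rw [Matrix.det_diagonal, dvec_prod]⟩
  map_one' := by
    apply Subtype.ext
    show Matrix.diagonal (dvec k 1) = 1
    rw [← Matrix.diagonal_one]
    congr 1
    funext j
    exact dvec_one k j
  map_mul' c c' := by
    apply Subtype.ext
    show Matrix.diagonal (dvec k (c * c')) = Matrix.diagonal (dvec k c) * Matrix.diagonal (dvec k c')
    rw [Matrix.diagonal_mul_diagonal]
    congr 1
    funext j
    exact dvec_mul k c c' j

theorem diagSL_injective [DecidableEq F] (k : ℕ) : Function.Injective (diagSL F k) := by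
  intro c c' h
  funext i
  have h1 : (Matrix.diagonal (dvec k c) : Matrix (Fin (k + 1)) (Fin (k + 1)) F) =
      Matrix.diagonal (dvec k c') := congrArg Subtype.val h
  have h2 := congrFun (Matrix.diagonal_injective h1) i.castSucc
  rw [dvec_castSucc, dvec_castSucc] at h2
  exact Units.ext h2

end Diag

section Main
open Cfsg.Agent.Lib.Helper25.GLSylow

variable {F : Type*} [Field F] [Fintype F]

theorem fact_SL (k r : ℕ) :
    (Nat.card (Matrix.SpecialLinearGroup (Fin (k + 1)) F)).factorization r +
      (Fintype.card F - 1).factorization r = (Nat.card (GL (Fin (k + 1)) F)).factorization r := by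
  have h := Cfsg.Agent.Lib.Helper19.ExcIso.card_GL_eq_card_SL (F := F) k
  have h1 : Fintype.card F - 1 ≠ 0 := by
    have := Fintype.one_lt_card (α := F)
    omega
  rw [h, Nat.factorization_mul (Nat.card_pos.ne') h1]
  rfl

theorem lift_SL (n : ℕ) {A : Type*} [Group A] [Finite A] (r : ℕ) [hr : Fact r.Prime]
    (hA : ∃ t, Nat.card A = r ^ t) (hr1 : ¬ r ∣ Fintype.card F - 1) (f : A →* GL (Fin n) F)
    (hf : Function.Injective f) :
    ∃ f' : A →* Matrix.SpecialLinearGroup (Fin n) F, Function.Injective f' := by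
  classical
  have hdet : ∀ x, Matrix.GeneralLinearGroup.det (f x) = 1 := by
    intro x
    obtain ⟨t, ht⟩ := hA
    have h1 : (Matrix.GeneralLinearGroup.det (f x)) ^ (r ^ t) = 1 := by
      rw [← map_pow, ← map_pow, ← ht, pow_card_eq_one', map_one, map_one]
    have h2 : (Matrix.GeneralLinearGroup.det (f x)) ^ (Fintype.card F - 1) = 1 := by
      have : Nat.card Fˣ = Fintype.card F - 1 := by rw [Nat.card_units, Nat.card_eq_fintype_card]
      rw [← this]
      exact pow_card_eq_one'
    have h3 : orderOf (Matrix.GeneralLinearGroup.det (f x)) ∣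
        Nat.gcd (r ^ t) (Fintype.card F - 1) :=
      Nat.dvd_gcd (orderOf_dvd_of_pow_eq_one h1) (orderOf_dvd_of_pow_eq_one h2)
    have h4 : Nat.gcd (r ^ t) (Fintype.card F - 1) = 1 :=
      Nat.Coprime.pow_left t ((Nat.Prime.coprime_iff_not_dvd hr.out).mpr hr1)
    rw [h4, Nat.dvd_one, orderOf_eq_one_iff] at h3
    exact h3
  have hdet' : ∀ x, ((f x : GL (Fin n) F) : Matrix (Fin n) (Fin n) F).det = 1 := by
    intro x
    have := congrArg Units.val (hdet x)
    simpa using this
  refine ⟨{ toFun := fun x => ⟨(f x : GL (Fin n) F), hdet' x⟩, map_one' := ?_, map_mul' := ?_ }, ?_⟩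
  · apply Subtype.ext
    simp
  · intro x y
    apply Subtype.ext
    show ((f (x * y) : GL (Fin n) F) : Matrix (Fin n) (Fin n) F) =
      ((f x : GL (Fin n) F) : Matrix (Fin n) (Fin n) F) *
        ((f y : GL (Fin n) F) : Matrix (Fin n) (Fin n) F)
    rw [map_mul]
    rfl
  · intro x y h
    apply hf
    apply Units.ext
    exact congrArg Subtype.val h

theorem card_mult_zmod (N : ℕ) [NeZero N] : Nat.card (Multiplicative (ZMod N)) = N := by
  rw [Nat.card_congr Multiplicative.toAdd, Nat.card_zmod]

theorem main_SL (n r : ℕ) [hr : Fact r.Prime] (hrn : n < r) (hrq : ¬ r ∣ Fintype.card F)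
    (P : Sylow r (Matrix.SpecialLinearGroup (Fin n) F)) :
    Nonempty (↥(P : Subgroup (Matrix.SpecialLinearGroup (Fin n) F)) ≃*
      (Fin ((Finset.Icc 2 n).filter
          (fun i => orderOf ((Fintype.card F : ℕ) : ZMod r) ∣ i)).card →
        Multiplicative (ZMod (r ^ padicValNat r
          (Fintype.card F ^ orderOf ((Fintype.card F : ℕ) : ZMod r) - 1))))) := by
  classical
  have hq2 : 2 ≤ Fintype.card F := Fintype.one_lt_card
  rcases n with _ | k
  · have hsub : Subsingleton (Matrix.SpecialLinearGroup (Fin 0) F) :=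
      ⟨fun a b => Subtype.ext (Subsingleton.elim _ _)⟩
    have : Unique ↥(P : Subgroup (Matrix.SpecialLinearGroup (Fin 0) F)) :=
      ⟨⟨1⟩, fun a => Subtype.ext (Subsingleton.elim _ _)⟩
    have h0 : ((Finset.Icc 2 0).filter
        (fun i => orderOf ((Fintype.card F : ℕ) : ZMod r) ∣ i)).card = 0 := by
      simp
    rw [h0]
    exact ⟨MulEquiv.ofUnique⟩
  · have hunit : IsUnit ((Fintype.card F : ℕ) : ZMod r) := by
      rw [ZMod.isUnit_iff_coprime]
      exact ((Nat.Prime.coprime_iff_not_dvd hr.out).mpr hrq).symm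
    have hd0 : 0 < orderOf ((Fintype.card F : ℕ) : ZMod r) := by
      rw [orderOf_pos_iff]
      exact hunit.isOfFinOrder
    have hGL := val_card_GL r (F := F) (k + 1) hrq hrn
    have hSL := fact_SL (F := F) k r
    have hrv : NeZero (r ^ padicValNat r
        (Fintype.card F ^ orderOf ((Fintype.card F : ℕ) : ZMod r) - 1)) :=
      ⟨(pow_pos hr.out.pos _).ne'⟩
    by_cases hd1 : orderOf ((Fintype.card F : ℕ) : ZMod r) = 1
    · -- the diagonal torus
      rw [hd1] at hGL ⊢
      rw [pow_one] at hGL ⊢
      rw [hd1, pow_one] at hrv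
      have hcnt : ((Finset.Icc 2 (k + 1)).filter (fun i => 1 ∣ i)).card = k := by
        simp
      rw [hcnt]
      rw [Nat.div_one] at hGL
      have e2 : (Fintype.card F - 1).factorization r = padicValNat r (Fintype.card F - 1) :=
        Nat.factorization_def _ hr.out
      have hfSL : (Nat.card (Matrix.SpecialLinearGroup (Fin (k + 1)) F)).factorization r =
          k * padicValNat r (Fintype.card F - 1) := by
        have h3 := hSL
        rw [hGL, e2, Nat.succ_mul] at h3
        omega
      let U : Sylow r Fˣ := default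
      have hUcard : Nat.card U = r ^ padicValNat r (Fintype.card F - 1) := by
        rw [Sylow.card_eq_multiplicity, Nat.card_units, Nat.card_eq_fintype_card,
          Nat.factorization_def _ hr.out]
      let ι : (Fin k → ↥(U : Subgroup Fˣ)) →* (Fin k → Fˣ) :=
        { toFun := fun c i => (c i).1
          map_one' := rfl
          map_mul' := fun _ _ => rfl }
      have hι : Function.Injective ι := by
        intro c c' h
        funext i
        exact Subtype.ext (congrFun h i)
      have hcardA : Nat.card (Fin k → ↥(U : Subgroup Fˣ)) =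
          r ^ (Nat.card (Matrix.SpecialLinearGroup (Fin (k + 1)) F)).factorization r := by
        rw [Nat.card_fun, Nat.card_fin, hUcard, hfSL, ← pow_mul, mul_comm]
      obtain ⟨φ⟩ := sylow_iso_of_embedding r ((diagSL F k).comp ι)
        ((diagSL_injective k).comp hι) hcardA P
      have hcyc : IsCyclic ↥(U : Subgroup Fˣ) := inferInstance
      have eU : Multiplicative (ZMod (r ^ padicValNat r (Fintype.card F - 1))) ≃*
          ↥(U : Subgroup Fˣ) := hUcard ▸ zmodCyclicMulEquiv hcyc
      exact ⟨φ.trans (MulEquiv.piCongrRight (fun _ => eU.symm))⟩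
    · -- the torus of `GL` lies in `SL`
      have hd2 : 2 ≤ orderOf ((Fintype.card F : ℕ) : ZMod r) := by omega
      have hr1 : ¬ r ∣ Fintype.card F - 1 := by
        intro h
        have h1 : r ∣ Fintype.card F ^ 1 - 1 := by rwa [pow_one]
        rw [dvd_pow_sub_one_iff r _ (by omega) 1, Nat.dvd_one] at h1
        exact hd1 h1
      have hz : (Fintype.card F - 1).factorization r = 0 := by
        rw [Nat.factorization_def _ hr.out]
        exact padicValNat.eq_zero_of_not_dvd hr1
      have hcnt : ((Finset.Icc 2 (k + 1)).filter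
          (fun i => orderOf ((Fintype.card F : ℕ) : ZMod r) ∣ i)).card =
          (k + 1) / orderOf ((Fintype.card F : ℕ) : ZMod r) := by
        rw [← Nat.Ioc_filter_dvd_card_eq_div]
        congr 1
        ext i
        simp only [Finset.mem_filter, Finset.mem_Icc, Finset.mem_Ioc]
        constructor
        · rintro ⟨⟨h1, h2⟩, h3⟩
          exact ⟨⟨by omega, h2⟩, h3⟩
        · rintro ⟨⟨h1, h2⟩, h3⟩
          have := Nat.le_of_dvd h1 h3
          exact ⟨⟨by omega, h2⟩, h3⟩
      rw [hcnt]
      obtain ⟨f, hf⟩ := exists_torus (F := F) (k + 1) r hrq _ _ rfl rfl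
      have hcardA : Nat.card (Fin ((k + 1) / orderOf ((Fintype.card F : ℕ) : ZMod r)) →
          Multiplicative (ZMod (r ^ padicValNat r
            (Fintype.card F ^ orderOf ((Fintype.card F : ℕ) : ZMod r) - 1)))) =
          r ^ (Nat.card (Matrix.SpecialLinearGroup (Fin (k + 1)) F)).factorization r := by
        rw [Nat.card_fun, Nat.card_fin, card_mult_zmod, ← pow_mul]
        congr 1
        rw [hz, add_zero] at hSL
        rw [hSL, hGL, mul_comm]
      obtain ⟨f', hf'⟩ := lift_SL (F := F) (k + 1) r ⟨_, hcardA⟩ hr1 f hf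
      exact sylow_iso_of_embedding r f' hf' hcardA P

end Main



/-- Sylow subgroups of `SL_n(q)` for large primes. Let `F` be a field with `q` elements and `r` a prime with `r > n` and `r ∤ q` (so `r` does not divide the order `n!` of the Weyl group). Let `d` be the multiplicative order of `q` modulo `r`, `a` the number of integers `i` with `2 ≤ i ≤ n` divisible by `d` (the degrees of the Weyl group are `2, …, n`), and `m` the `r`-part of the value at `q` of the `d`-th cyclotomic polynomial. Then every Sylow `r`-subgroup of `SL_n(q)` is a direct product of `a` cyclic groups of order `m`. -/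
theorem result {F : Type*} [Field F] [Fintype F] {q : ℕ} (hq : Fintype.card F = q) (n : ℕ)
    (r : ℕ) [Fact r.Prime] (hrn : n < r) (hrq : ¬ r ∣ q) (P : Sylow r (Matrix.SpecialLinearGroup (Fin n) F)) :
    Nonempty (↥(P : Subgroup (Matrix.SpecialLinearGroup (Fin n) F)) ≃*
      (Fin ((Finset.Icc 2 n).filter (fun i => orderOf (q : ZMod r) ∣ i)).card →
        Multiplicative (ZMod (r ^ padicValNat r ((Polynomial.cyclotomic (orderOf (q : ZMod r)) ℤ).eval (q : ℤ)).natAbs)))) := by
  subst hq
  have hq2 : 2 ≤ Fintype.card F := Fintype.one_lt_card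
  have hunit : IsUnit ((Fintype.card F : ℕ) : ZMod r) := by
    rw [ZMod.isUnit_iff_coprime]
    exact ((Nat.Prime.coprime_iff_not_dvd Fact.out).mpr hrq).symm
  have hd0 : 0 < orderOf ((Fintype.card F : ℕ) : ZMod r) := by
    rw [orderOf_pos_iff]
    exact hunit.isOfFinOrder
  rw [Cfsg.Agent.Lib.Helper25.GLSylow.val_cyclotomic r (Fintype.card F) hq2 _ hd0 rfl]
  exact main_SL n r hrn hrq P

end Cfsg.Agent.S2379
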