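import Cfsg.Statements.S2391
import Cfsg.Agent.Lib.Helper24.BorelTits

set_option autoImplicit false
open Cfsg
open Cfsg.Agent.Lib.Helper24

namespace Cfsg.Agent.S2391

/-- The Borel–Tits property of `SL_n(q)` in flag form: for a field `F` of characteristic `p` with finitely many elements and a non-trivial `p`-subgroup `U` of `SL_n(F)`, there is a flag `0 = V₀ < V₁ < ⋯ < V_{k+1} = F^n` with at least one proper non-zero member such that every element of the normaliser of `U` maps each `V_i` onto itself and every element of `U` acts trivially on each quotient `V_{i+1}/V_i` (so the normaliser lies in the parabolic subgroup of the flag and `U` in its unipotent radical). -/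
theorem result {F : Type*} [Field F] [Fintype F] (p : ℕ) [Fact p.Prime] [CharP F p] (n : ℕ)
    (U : Subgroup (Matrix.SpecialLinearGroup (Fin n) F)) (hU : IsPGroup p ↥U) (hne : U ≠ ⊥) :
    ∃ (k : ℕ) (V : Fin (k + 2) → Submodule F (Fin n → F)), 1 ≤ k ∧ StrictMono V ∧ V 0 = ⊥ ∧ V (Fin.last (k + 1)) = ⊤ ∧
      (∀ g ∈ Subgroup.normalizer (U : Set (Matrix.SpecialLinearGroup (Fin n) F)), ∀ i, (V i).map (Matrix.mulVecLin (g : Matrix (Fin n) (Fin n) F)) = V i) ∧
      (∀ u ∈ U, ∀ i : Fin (k + 1), ∀ v ∈ V i.succ, (u : Matrix (Fin n) (Fin n) F).mulVec v - v ∈ V (Fin.castSucc i)) := by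
  classical
  let ρ : U →* Module.End F (Fin n → F) :=
    { toFun := fun u => Matrix.mulVecLin (u.1 : Matrix (Fin n) (Fin n) F)
      map_one' := by simp; rfl
      map_mul' := by intro a b; simp [Matrix.mulVecLin_mul]; rfl }
  have hρ : ∀ u : U, ρ u = Matrix.mulVecLin (u.1 : Matrix (Fin n) (Fin n) F) := fun u => rfl
  have hinj : ∀ A B : Matrix (Fin n) (Fin n) F, Matrix.mulVecLin A = Matrix.mulVecLin B → A = B := by
    intro A B h
    have := Matrix.toLin'.injective (show Matrix.toLin' A = Matrix.toLin' B from h)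
    exact this
  have hnt : ∃ g, ρ g ≠ 1 := by
    obtain ⟨⟨u, hu⟩, hu1⟩ := Subgroup.ne_bot_iff_exists_ne_one.mp hne
    refine ⟨⟨u, hu⟩, ?_⟩
    intro h1
    apply hu1
    apply Subtype.ext
    apply Subtype.ext
    apply hinj
    rw [← hρ ⟨u, hu⟩, h1]
    simp; rfl
  obtain ⟨k, Vf, hk, hmono, h0, hlast, hVf⟩ := exists_flag p hU ρ hnt
  have hnorm : ∀ g ∈ Subgroup.normalizer (U : Set (Matrix.SpecialLinearGroup (Fin n) F)), ∀ i,
      (Vf i).map (Matrix.mulVecLin (g : Matrix (Fin n) (Fin n) F)) ≤ Vf i := by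
    intro g hg i
    rw [hVf]
    apply fixSeries_map_le ρ
    intro u
    have hu' : g⁻¹ * u.1 * g ∈ U := by
      have := (Subgroup.mem_normalizer_iff.mp (inv_mem hg) u.1).mp u.2
      simpa using this
    refine ⟨⟨g⁻¹ * u.1 * g, hu'⟩, ?_⟩
    rw [hρ, hρ]
    show Matrix.mulVecLin (u.1 : Matrix (Fin n) (Fin n) F) ∘ₗ Matrix.mulVecLin (g : Matrix (Fin n) (Fin n) F)
      = Matrix.mulVecLin (g : Matrix (Fin n) (Fin n) F) ∘ₗ Matrix.mulVecLin ((g⁻¹ * u.1 * g : Matrix.SpecialLinearGroup (Fin n) F) : Matrix (Fin n) (Fin n) F)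
    have hmul : (u.1 * g : Matrix.SpecialLinearGroup (Fin n) F) = g * (g⁻¹ * u.1 * g) := by group
    rw [← Matrix.mulVecLin_mul, ← Matrix.mulVecLin_mul, ← Matrix.SpecialLinearGroup.coe_mul,
      ← Matrix.SpecialLinearGroup.coe_mul, ← hmul]
  refine ⟨k, Vf, hk, hmono, h0, hlast, ?_, ?_⟩
  · intro g hg i
    apply le_antisymm (hnorm g hg i)
    have h1 := hnorm g⁻¹ (inv_mem hg) i
    intro v hv
    refine ⟨Matrix.mulVecLin ((g⁻¹ : Matrix.SpecialLinearGroup (Fin n) F) : Matrix (Fin n) (Fin n) F) v,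
      h1 (Submodule.mem_map_of_mem hv), ?_⟩
    rw [← LinearMap.comp_apply, ← Matrix.mulVecLin_mul, ← Matrix.SpecialLinearGroup.coe_mul,
      mul_inv_cancel]
    simp
  · intro u hu i v hv
    rw [hVf] at hv ⊢
    have hv' : v ∈ fixMod ρ (fixSeries ρ i.val) := hv
    exact (mem_fixMod ρ _ v).mp hv' ⟨u, hu⟩

end Cfsg.Agent.S2391
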