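import Cfsg.Statements.S2392
import Cfsg.Agent.Lib.Helper26.CrossChar

set_option autoImplicit false
open scoped MatrixGroups
open Cfsg

namespace Cfsg.Agent.S2392
open Cfsg.Agent.Lib.Helper26

/-- A lower bound for representations in cross characteristic: for `n ≥ 3` and a field `F` with `q` elements, every homomorphism from `SL_n(F)` to `GL_d(K)`, `K` a field of characteristic different from that of `F`, whose kernel is central has `d ≥ q^(n-1) - 1`. -/
theorem result {F : Type*} [Field F] [Fintype F] {q : ℕ} (hq : Fintype.card F = q) (n : ℕ) (hn : 3 ≤ n)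
    {K : Type*} [Field K] (hK : ringChar K ≠ ringChar F) {d : ℕ}
    (ρ : Matrix.SpecialLinearGroup (Fin n) F →* GL (Fin d) K) (hker : ρ.ker ≤ Subgroup.center (Matrix.SpecialLinearGroup (Fin n) F)) :
    q ^ (n - 1) - 1 ≤ d := by
  classical
  subst hq
  obtain ⟨m, rfl⟩ : ∃ m, n = m + 1 := ⟨n - 1, by omega⟩
  have hm : 2 ≤ m := by omega
  simp only [Nat.add_sub_cancel]
  have hp : (ringChar F).Prime := CharP.char_is_prime F _
  have hp₂ : ¬ringChar K ∣ ringChar F := by
    rcases CharP.char_is_prime_or_zero K (ringChar K) with hq | hq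
    · exact mt (Nat.Prime.dvd_iff_eq hp (Nat.Prime.ne_one hq)).mp hK.symm
    · rw [hq]
      exact fun hf => Nat.Prime.ne_zero hp (zero_dvd_iff.mp hf)
  let P := AddChar.FiniteField.primitiveChar F K hK
  let e : Fin m ⊕ Fin 1 ≃ Fin (m + 1) := finSumFinEquiv
  let ι : Matrix.SpecialLinearGroup (Fin m ⊕ Fin 1) F →* Matrix.SpecialLinearGroup (Fin (m+1)) F :=
    { toFun := fun A => ⟨(A : Matrix _ _ F).submatrix e.symm e.symm, by
        rw [Matrix.det_submatrix_equiv_self]; exact A.2⟩
      map_one' := by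
        apply Subtype.ext
        simp
      map_mul' := fun A B => by
        apply Subtype.ext
        show ((A * B : Matrix.SpecialLinearGroup (Fin m ⊕ Fin 1) F) : Matrix _ _ F).submatrix e.symm e.symm =
          (A : Matrix _ _ F).submatrix e.symm e.symm * (B : Matrix _ _ F).submatrix e.symm e.symm
        rw [Matrix.submatrix_mul_equiv, Matrix.SpecialLinearGroup.coe_mul] }
  let Mh : Matrix.SpecialLinearGroup (Fin m ⊕ Fin 1) F →* Matrix (Fin d) (Fin d) (CyclotomicField P.n K) :=
    ((algebraMap K (CyclotomicField P.n K)).mapMatrix.toMonoidHom.comp (Units.coeHom _)).comp (ρ.comp ι)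
  apply CrossChar.card_le P.char Mh hm P.prim
  · obtain ⟨k, -, hcard⟩ := FiniteField.card F (ringChar F)
    rw [hcard]
    push_cast
    apply pow_ne_zero
    intro h0
    have h0' : ((ringChar F : ℕ) : K) = 0 := by
      apply (algebraMap K (CyclotomicField P.n K)).injective
      rw [map_natCast, map_zero]; exact h0
    exact hp₂ (ringChar.dvd h0')
  · refine ⟨Pi.single ⟨0, by omega⟩ 1, fun h1 => ?_⟩
    set b : Fin m → F := Pi.single ⟨0, by omega⟩ 1 with hb
    have h2 : ρ (ι (CrossChar.S b)) = 1 := by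
      apply Units.ext
      have hinj := Matrix.map_injective (m := Fin d) (n := Fin d)
        (algebraMap K (CyclotomicField P.n K)).injective
      apply hinj
      show ((ρ (ι (CrossChar.S b)) : GL (Fin d) K) : Matrix (Fin d) (Fin d) K).map
          (algebraMap K (CyclotomicField P.n K)) =
        ((1 : GL (Fin d) K) : Matrix (Fin d) (Fin d) K).map (algebraMap K (CyclotomicField P.n K))
      rw [Units.val_one, Matrix.map_one _ (map_zero _) (map_one _)]
      exact h1
    have h3 : ι (CrossChar.S b) ∈ Subgroup.center (Matrix.SpecialLinearGroup (Fin (m+1)) F) :=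
      hker (MonoidHom.mem_ker.2 h2)
    rw [Matrix.SpecialLinearGroup.mem_center_iff] at h3
    obtain ⟨r, -, hr⟩ := h3
    have h4 := congrFun (congrFun hr (e (Sum.inr 0))) (e (Sum.inl ⟨0, by omega⟩))
    have hne : e (Sum.inr 0) ≠ e (Sum.inl ⟨0, by omega⟩) := fun h => by
      have := e.injective h; simp at this
    rw [Matrix.scalar_apply, Matrix.diagonal_apply_ne _ hne] at h4
    have h5 : ((ι (CrossChar.S b) : Matrix.SpecialLinearGroup (Fin (m+1)) F) :
        Matrix (Fin (m+1)) (Fin (m+1)) F) (e (Sum.inr 0)) (e (Sum.inl ⟨0, by omega⟩)) = 1 := by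
      show ((CrossChar.S b : Matrix.SpecialLinearGroup (Fin m ⊕ Fin 1) F) :
        Matrix (Fin m ⊕ Fin 1) (Fin m ⊕ Fin 1) F) (e.symm (e (Sum.inr 0)))
          (e.symm (e (Sum.inl ⟨0, by omega⟩))) = 1
      rw [Equiv.symm_apply_apply, Equiv.symm_apply_apply]
      show Matrix.fromBlocks 1 0 (Matrix.replicateRow (Fin 1) b) 1 (Sum.inr 0) (Sum.inl ⟨0, by omega⟩) = 1
      simp [hb]
    rw [h5] at h4
    exact zero_ne_one h4

end Cfsg.Agent.S2392
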