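import Cfsg.Statements.S2393
import Cfsg.Agent.Lib.Helper26.SpCross

set_option autoImplicit false
open scoped MatrixGroups
open Cfsg

namespace Cfsg.Agent.S2393
open Cfsg.Agent.Lib.Helper26

/-- A lower bound for representations in cross characteristic: for `n ≥ 2` and a field `F` with `q` elements, `q` odd, every homomorphism from the symplectic group `Sp_{2n}(F)` to `GL_d(K)`, `K` a field of characteristic different from that of `F`, whose kernel is central has `d ≥ q^(n-1)(q-1)/2`. -/
theorem result {F : Type*} [Field F] [Fintype F] {q : ℕ} (hq : Fintype.card F = q) (hodd : Odd q) (n : ℕ) (hn : 2 ≤ n)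
    {K : Type*} [Field K] (hK : ringChar K ≠ ringChar F) {d : ℕ}
    (ρ : ↥(Matrix.symplecticGroup (Fin n) F) →* GL (Fin d) K) (hker : ρ.ker ≤ Subgroup.center ↥(Matrix.symplecticGroup (Fin n) F)) :
    q ^ (n - 1) * (q - 1) / 2 ≤ d := by
  haveI : DecidableEq F := Classical.decEq F
  subst hq
  obtain ⟨m, rfl⟩ : ∃ m, n = m + 1 := ⟨n - 1, by omega⟩
  simp only [Nat.add_sub_cancel]
  have hp : (ringChar F).Prime := CharP.char_is_prime F _
  have hp₂ : ¬ringChar K ∣ ringChar F := by
    rcases CharP.char_is_prime_or_zero K (ringChar K) with hq | hq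
    · exact mt (Nat.Prime.dvd_iff_eq hp (Nat.Prime.ne_one hq)).mp hK.symm
    · rw [hq]
      exact fun hf => Nat.Prime.ne_zero hp (zero_dvd_iff.mp hf)
  have h2F : (2 : F) ≠ 0 := by
    apply Ring.two_ne_zero
    intro h
    have := FiniteField.even_card_iff_char_two.1 h
    rcases hodd with ⟨k, hk⟩
    omega
  let P := AddChar.FiniteField.primitiveChar F K hK
  let Mh : ↥(Matrix.symplecticGroup (Fin (m+1)) F) →* Matrix (Fin d) (Fin d) (CyclotomicField P.n K) :=
    ((algebraMap K (CyclotomicField P.n K)).mapMatrix.toMonoidHom.comp (Units.coeHom _)).comp ρ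
  have hqK : (Fintype.card F : CyclotomicField P.n K) ≠ 0 := by
    obtain ⟨k, -, hcard⟩ := FiniteField.card F (ringChar F)
    rw [hcard]
    push_cast
    apply pow_ne_zero
    intro h0
    have h0' : ((ringChar F : ℕ) : K) = 0 := by
      apply (algebraMap K (CyclotomicField P.n K)).injective
      rw [map_natCast, map_zero]; exact h0
    exact hp₂ (ringChar.dvd h0')
  have hb : Mh (SpCross.S (Pi.single 0 1)) ≠ 1 := by
    intro h1
    have h2 : ρ (SpCross.S (Pi.single 0 1)) = 1 := by
      apply Units.ext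
      have hinj := Matrix.map_injective (m := Fin d) (n := Fin d)
        (algebraMap K (CyclotomicField P.n K)).injective
      apply hinj
      show ((ρ (SpCross.S (Pi.single 0 1)) : GL (Fin d) K) : Matrix (Fin d) (Fin d) K).map
          (algebraMap K (CyclotomicField P.n K)) =
        ((1 : GL (Fin d) K) : Matrix (Fin d) (Fin d) K).map (algebraMap K (CyclotomicField P.n K))
      rw [Units.val_one, Matrix.map_one _ (map_zero _) (map_one _)]
      exact h1
    have h3 : SpCross.S (Pi.single 0 1) ∈ Subgroup.center ↥(Matrix.symplecticGroup (Fin (m+1)) F) :=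
      hker (MonoidHom.mem_ker.2 h2)
    have h4 := Subgroup.mem_center_iff.1 h3 (SymplecticGroup.symJ (Fin (m+1)) F)
    have h5 := congrArg Subtype.val h4
    change Matrix.J (Fin (m+1)) F * Matrix.fromBlocks 1 (SpCross.Bm (Pi.single 0 1)) 0 1 =
      Matrix.fromBlocks 1 (SpCross.Bm (Pi.single 0 1)) 0 1 * Matrix.J (Fin (m+1)) F at h5
    rw [Matrix.J, Matrix.fromBlocks_multiply, Matrix.fromBlocks_multiply, Matrix.fromBlocks_inj] at h5
    have h7 : SpCross.Bm (Pi.single 0 1 : Fin (m+1) → F) = 0 := by simpa using h5.1.symm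
    have h8 := congrFun (congrFun h7 0) 0
    have h9 : (2 : F) = 0 := by
      simp [SpCross.Bm, Matrix.vecMulVec_apply] at h8
      first
        | exact h8
        | (rw [← one_add_one_eq_two]; exact h8)
    exact h2F h9
  obtain ⟨x, hx0, hx⟩ := CrossCharG.exists_ne_zero SpCross.S P.char Mh SpCross.S_mul SpCross.S_zero
    P.prim hqK _ hb
  rw [single_dotProduct, one_mul] at hx0
  have key := CrossCharG.card_le SpCross.S P.char Mh SpCross.S_mul P.prim hqK
    (Finset.univ.filter (fun y : Fin (m+1) → F => ∃ s : F, s ≠ 0 ∧ y 0 = s ^ 2 * x 0))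
    (fun y hy => by
      obtain ⟨s, hs, hys⟩ := (Finset.mem_filter.1 hy).2
      exact SpCross.E_ne_zero_of P.char Mh x hx0 hx y s hs hys)
  have hcb := SpCross.card_bound (m := m) (x 0) hx0
  rcases hodd with ⟨k, hk⟩
  have e1 : (Fintype.card F - 1) / 2 = k := by omega
  have e2 : Fintype.card F ^ m * (Fintype.card F - 1) / 2 = Fintype.card F ^ m * k := by
    have : Fintype.card F - 1 = 2 * k := by omega
    rw [this, show Fintype.card F ^ m * (2 * k) = 2 * (Fintype.card F ^ m * k) by ring,
      Nat.mul_div_cancel_left _ (by norm_num)]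
  rw [e2]
  rw [e1] at hcb
  exact hcb.trans key

end Cfsg.Agent.S2393
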