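import Cfsg.Statements.S2394
import Mathlib
import Cfsg.Agent.Lib.Helper27.SympOrder
import Cfsg.Agent.Lib.Helper8.Zsigmondy

set_option autoImplicit false
open scoped MatrixGroups
open Cfsg

namespace Cfsg.Agent.S2394


/-- A prime dividing the order of `GL_d(q)` and not `q` divides some `q^j - 1` with `1 ≤ j ≤ d`. -/
theorem exists_dvd_of_dvd_card_GL {F : Type*} [Field F] [Fintype F] {d r : ℕ} (hr : r.Prime)
    (hrq : ¬ r ∣ Fintype.card F) (h : r ∣ Nat.card (GL (Fin d) F)) :
    ∃ j : ℕ, 0 < j ∧ j ≤ d ∧ r ∣ Fintype.card F ^ j - 1 := by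
  rw [Matrix.card_GL_field] at h
  obtain ⟨i, _, hi⟩ := (Prime.dvd_finset_prod_iff hr.prime _).mp h
  have hid : (i : ℕ) < d := i.2
  have e : Fintype.card F ^ d - Fintype.card F ^ (i : ℕ) =
      Fintype.card F ^ (i : ℕ) * (Fintype.card F ^ (d - (i : ℕ)) - 1) := by
    rw [Nat.mul_sub, mul_one, ← pow_add]
    congr 2
    omega
  rw [e] at hi
  rcases (Nat.Prime.dvd_mul hr).mp hi with h1 | h1
  · exact absurd (hr.dvd_of_dvd_pow h1) hrq
  · exact ⟨d - (i : ℕ), by omega, by omega, h1⟩

theorem card_le_of_injective {G H : Type*} [Group G] [Group H] [Finite H] (ρ : G →* H)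
    (hρ : Function.Injective ρ) : Nat.card G ∣ Nat.card H := by
  have e : Nat.card G = Nat.card ρ.range := Nat.card_congr (MonoidHom.ofInjective hρ).toEquiv
  rw [e]
  exact Subgroup.card_subgroup_dvd_card ρ.range

/-- The smallest degree of a faithful representation of the symplectic group `Sp_{2n}(q)` over its own field `F_q` is `2n`: every injective homomorphism from `Sp_{2n}(F)` to `GL_d(F)`, `F` the field with `q` elements, has `d ≥ 2n`. -/
theorem result {F : Type*} [Field F] [Fintype F] (n : ℕ) {d : ℕ}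
    (ρ : ↥(Matrix.symplecticGroup (Fin n) F) →* GL (Fin d) F) (hρ : Function.Injective ρ) : 2 * n ≤ d := by
  classical
  obtain ⟨q, hq⟩ : ∃ q, Fintype.card F = q := ⟨_, rfl⟩
  have hq1 : 1 < q := by rw [← hq]; exact Fintype.one_lt_card
  have hdvd := card_le_of_injective ρ hρ
  have hcard := Cfsg.Agent.Lib.Helper27.SympTransv.card_symplecticGroup (F := F) hq n
  by_contra hlt
  push Not at hlt
  have hn0 : 0 < n := by omega
  -- the factor q^(2n) - 1 divides the order of Sp
  have hfac : q ^ (2 * n) - 1 ∣ Nat.card (Matrix.symplecticGroup (Fin n) F) := by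
    rw [hcard]
    apply Dvd.dvd.mul_left
    have : q ^ (2 * n) - 1 = q ^ (2 * ((n - 1) + 1)) - 1 := by
      congr 3
      omega
    rw [this]
    exact Finset.dvd_prod_of_mem (fun i => q ^ (2 * (i + 1)) - 1) (Finset.mem_range.mpr (by omega))
  by_cases hexc : (q = 2 ∧ 2 * n = 6) ∨ (2 * n = 2 ∧ ∃ m : ℕ, q + 1 = 2 ^ m)
  · rcases hexc with ⟨hq2, hn3⟩ | ⟨hn1, _⟩
    · -- Sp_6(2)
      have hn3' : n = 3 := by omega
      subst hn3'
      have h81 : 81 ∣ Nat.card (Matrix.symplecticGroup (Fin 3) F) := by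
        rw [hcard, hq2]
        decide
      have h81' : 81 ∣ Nat.card (GL (Fin d) F) := h81.trans hdvd
      rw [Matrix.card_GL_field, hq, hq2] at h81'
      have hd : d ≤ 5 := by omega
      interval_cases d <;> revert h81' <;> decide
    · -- Sp_2(q)
      have hn1' : n = 1 := by omega
      subst hn1'
      have hle := Nat.le_of_dvd Nat.card_pos hdvd
      rw [hcard, Matrix.card_GL_field, hq] at hle
      have hd : d ≤ 1 := by omega
      have h2 : q ^ 1 ^ 2 * ∏ i ∈ Finset.range 1, (q ^ (2 * (i + 1)) - 1) = q * (q ^ 2 - 1) := by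
        simp
      rw [h2] at hle
      have hq2 : q ^ 2 - 1 ≥ 3 := by
        have : 4 ≤ q ^ 2 := by nlinarith
        omega
      interval_cases d
      · simp at hle
        nlinarith
      · simp at hle
        have : q * 3 ≤ q * (q ^ 2 - 1) := Nat.mul_le_mul_left q hq2
        omega
  · push Not at hexc
    obtain ⟨r, hr, hrdvd, hprim⟩ := Cfsg.Agent.Lib.Helper8.Zsig.zsigmondy q (2 * n) hq1 (by omega)
      (fun h => hexc.1 h.1 h.2) (fun h => by obtain ⟨h1, m, hm⟩ := h; exact hexc.2 h1 m hm)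
    have hrq : ¬ r ∣ Fintype.card F := by
      rw [hq]
      intro h
      have h1 : r ∣ q ^ (2 * n) := dvd_pow h (by omega)
      have h2 : r ∣ q ^ (2 * n) - (q ^ (2 * n) - 1) := Nat.dvd_sub h1 hrdvd
      have h3 : q ^ (2 * n) - (q ^ (2 * n) - 1) = 1 := by
        have : 1 ≤ q ^ (2 * n) := Nat.one_le_pow _ _ (by omega)
        omega
      rw [h3] at h2
      exact hr.one_lt.ne' (Nat.dvd_one.mp h2)
    obtain ⟨j, hj0, hjd, hj⟩ := exists_dvd_of_dvd_card_GL hr hrq ((hrdvd.trans hfac).trans hdvd)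
    rw [hq] at hj
    exact hprim j hj0 (by omega) hj

end Cfsg.Agent.S2394
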