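import Cfsg.Statements.S2395
import Mathlib
-- import your own Cfsg.Agent.* helpers here

set_option autoImplicit false
open Cfsg

namespace Cfsg.Agent.S2395

open Cfsg.Lie

section general

variable {K : Type*} [Field K] (D : ChevalleyDatum)

/-- the image of the generator `x̄_r(t)` in the abelianization -/
noncomputable def X (r : ℕ) (t : K) : Abelianization (D.SteinbergCover K) :=
  Abelianization.of (D.scGen K r t)

theorem scGen_add (r : ℕ) (t₁ t₂ : K) :
    D.scGen K r t₁ * D.scGen K r t₂ = D.scGen K r (t₁ + t₂) := by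
  by_cases hr : r < D.nroots
  · have hmem : D.stX r t₁ * D.stX r t₂ * (D.stX r (t₁ + t₂))⁻¹ ∈ D.steinbergRelsAB K :=
      Or.inl ⟨r, t₁, t₂, hr, rfl⟩
    have h1 := PresentedGroup.one_of_mem hmem
    rw [map_mul, map_mul, map_inv, mul_inv_eq_one] at h1
    exact h1
  · unfold ChevalleyDatum.scGen ChevalleyDatum.stX
    rw [dif_neg hr, dif_neg hr, dif_neg hr, map_one, mul_one]

theorem X_add (r : ℕ) (t₁ t₂ : K) : X D r (t₁ + t₂) = X D r t₁ * X D r t₂ := by
  unfold X
  rw [← scGen_add, map_mul]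

theorem X_zero (r : ℕ) : X D r (0 : K) = 1 := by
  have h := X_add D r (0 : K) 0
  rw [add_zero] at h
  exact (mul_eq_left (a := X D r (0 : K))).mp h.symm

theorem X_neg (r : ℕ) (t : K) : X D r (-t) = (X D r t)⁻¹ := by
  have h := X_add D r (-t) t
  rw [neg_add_cancel, X_zero] at h
  exact eq_inv_of_mul_eq_one_left h.symm

theorem X_word (w : List (ℕ × K)) :
    Abelianization.of (PresentedGroup.mk (D.steinbergRelsAB K) (D.stWord w)) =
      (w.map (fun p => X D p.1 p.2)).prod := by
  unfold ChevalleyDatum.stWord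
  rw [map_list_prod, map_list_prod, List.map_map, List.map_map]
  rfl

theorem X_rel (r s : ℕ) (t u : K) (hr : r < D.nroots) (hs : s < D.nroots) (h1 : s ≠ r)
    (h2 : s ≠ D.neg r) : ((D.commWord K r s t u).map (fun p => X D p.1 p.2)).prod = 1 := by
  have hmem : (D.stX s u)⁻¹ * (D.stX r t)⁻¹ * D.stX s u * D.stX r t *
      (D.stWord (D.commWord K r s t u))⁻¹ ∈ D.steinbergRelsAB K :=
    Or.inr ⟨r, s, t, u, hr, hs, h1, h2, rfl⟩
  have h := PresentedGroup.one_of_mem hmem
  have h' := congrArg (Abelianization.of (G := D.SteinbergCover K)) h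
  simp only [map_one, map_mul, map_inv] at h'
  rw [← X_word]
  set a := Abelianization.of (PresentedGroup.mk (D.steinbergRelsAB K) (D.stX s u)) with ha
  set b := Abelianization.of (PresentedGroup.mk (D.steinbergRelsAB K) (D.stX r t)) with hb
  set w := Abelianization.of (PresentedGroup.mk (D.steinbergRelsAB K)
    (D.stWord (D.commWord K r s t u))) with hw
  have e : a⁻¹ * b⁻¹ * a * b = 1 := by
    rw [mul_assoc, mul_mul_mul_comm, inv_mul_cancel, inv_mul_cancel, one_mul]
  rw [e, one_mul, inv_eq_one] at h'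
  exact h'

theorem rule1 (ρ r s : ℕ) (c : ℤ) (hr : r < D.nroots) (hs : s < D.nroots) (h1 : s ≠ r)
    (h2 : s ≠ D.neg r) (hct : D.commTerms r s = [(ρ, c, 1, 1)]) (hc : c = 1 ∨ c = -1) (v : K) :
    X D ρ v = 1 := by
  have h := X_rel D r s (-(c : K) * v) 1 hr hs h1 h2
  unfold ChevalleyDatum.commWord at h
  rw [hct] at h
  simp only [List.map_cons, List.map_nil, List.prod_cons, List.prod_nil, mul_one, pow_one,
    neg_mul, neg_neg] at h
  have e : (c : K) * ((c : K) * v) = v := by
    rcases hc with rfl | rfl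
    · simp
    · simp
  rw [e] at h
  exact h

theorem rule2 (ρ₁ ρ₂ r s : ℕ) (c₁ c₂ : ℤ) (rest : List (ℕ × ℤ × ℕ × ℕ)) (hr : r < D.nroots)
    (hs : s < D.nroots) (h1 : s ≠ r) (h2 : s ≠ D.neg r)
    (hct : D.commTerms r s = (ρ₁, c₁, 1, 1) :: (ρ₂, c₂, 1, 2) :: rest)
    (hc₁ : c₁ = 1 ∨ c₁ = -1) (hc₂ : c₂ = 1 ∨ c₂ = -1)
    (hrest : ∀ e ∈ rest, ∀ v : K, X D e.1 v = 1) (lam : K) (hl0 : lam ≠ 0) (hl1 : lam ≠ 1) :
    (∀ v : K, X D ρ₁ v = 1) ∧ (∀ v : K, X D ρ₂ v = 1) := by
  have key : ∀ t u : K, X D ρ₁ ((c₁ : K) * (-t) ^ 1 * u ^ 1) * X D ρ₂ ((c₂ : K) * (-t) ^ 1 * u ^ 2) = 1 := by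
    intro t u
    have h := X_rel D r s t u hr hs h1 h2
    unfold ChevalleyDatum.commWord at h
    rw [hct] at h
    simp only [List.map_cons, List.prod_cons] at h
    have hrest1 : (List.map (fun p : ℕ × K => X D p.1 p.2) (List.map
        (fun c : ℕ × ℤ × ℕ × ℕ => (c.1, (c.2.1 : K) * (-t) ^ c.2.2.1 * u ^ c.2.2.2)) rest)).prod = 1 := by
      apply List.prod_eq_one
      intro x hx
      rw [List.map_map, List.mem_map] at hx
      obtain ⟨e, he, rfl⟩ := hx
      exact hrest e he _
    rw [hrest1, mul_one] at h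
    exact h
  have hc₂sq : (c₂ : K) * (c₂ : K) = 1 := by
    rcases hc₂ with rfl | rfl <;> simp
  have hc₁sq : (c₁ : K) * (c₁ : K) = 1 := by
    rcases hc₁ with rfl | rfl <;> simp
  have h1l : (1 : K) - lam ≠ 0 := sub_ne_zero.mpr (Ne.symm hl1)
  have hρ₂ : ∀ v : K, X D ρ₂ v = 1 := by
    intro v
    set t0 : K := -(c₂ : K) * v / (1 - lam) with ht0
    have k1 := key t0 1
    have k2 := key (t0 / lam) lam
    have e1 : (c₁ : K) * (-(t0 / lam)) ^ 1 * lam ^ 1 = (c₁ : K) * (-t0) ^ 1 * 1 ^ 1 := by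
      field_simp
    rw [e1] at k2
    have k3 : X D ρ₂ ((c₂ : K) * (-(t0 / lam)) ^ 1 * lam ^ 2) = X D ρ₂ ((c₂ : K) * (-t0) ^ 1 * 1 ^ 2) := by
      have := k1.trans k2.symm
      exact (mul_left_cancel this).symm
    have e2 : (c₂ : K) * (-t0) ^ 1 * 1 ^ 2 = (c₂ : K) * (-(t0 / lam)) ^ 1 * lam ^ 2 + v := by
      rw [ht0]
      field_simp
      have : (c₂ : K) ^ 2 = 1 := by rw [pow_two]; exact hc₂sq
      linear_combination (v * (1 - lam)) * this
    rw [e2, X_add] at k3
    exact (mul_eq_left (a := X D ρ₂ ((c₂ : K) * (-(t0 / lam)) ^ 1 * lam ^ 2))).mp k3.symm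
  refine ⟨fun v => ?_, hρ₂⟩
  have k1 := key (-(c₁ : K) * v) 1
  rw [hρ₂, mul_one] at k1
  have e : (c₁ : K) * (-(-(c₁ : K) * v)) ^ 1 * 1 ^ 1 = v := by
    simp only [pow_one, mul_one, neg_mul, neg_neg]
    rw [← mul_assoc, hc₁sq, one_mul]
  rw [e] at k1
  exact k1

/-- if all generators die in the abelianization, the group is perfect -/
theorem perfect_of_X (h : ∀ ρ < D.nroots, ∀ v : K, X D ρ v = 1) :
    commutator (D.SteinbergCover K) = ⊤ := by
  have hφ : (Abelianization.of (G := D.SteinbergCover K)).comp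
      (PresentedGroup.mk (D.steinbergRelsAB K)) = 1 := by
    apply FreeGroup.ext_hom
    rintro ⟨i, t⟩
    have := h i.val i.2 t
    unfold X ChevalleyDatum.scGen ChevalleyDatum.stX at this
    rw [dif_pos i.2] at this
    exact this
  rw [eq_top_iff]
  intro g _
  rw [← Abelianization.ker_of]
  rw [MonoidHom.mem_ker]
  obtain ⟨w, rfl⟩ := PresentedGroup.mk_surjective (D.steinbergRelsAB K) g
  have := congrArg (fun f => f w) hφ
  exact this

/-- a single-term witness for the root `ρ` -/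
def Good (D : ChevalleyDatum) (ρ : ℕ) (w : ℕ × ℕ) : Prop :=
  w.1 < D.nroots ∧ w.2 < D.nroots ∧ w.2 ≠ w.1 ∧ w.2 ≠ D.neg w.1 ∧
    (D.commTerms w.1 w.2 = [(ρ, 1, 1, 1)] ∨ D.commTerms w.1 w.2 = [(ρ, -1, 1, 1)])

instance (D : ChevalleyDatum) (ρ : ℕ) (w : ℕ × ℕ) : Decidable (Good D ρ w) := by
  unfold Good; infer_instance

theorem X_of_good (ρ : ℕ) (w : ℕ × ℕ) (h : Good D ρ w) (v : K) : X D ρ v = 1 := by
  obtain ⟨hr, hs, h1, h2, hct | hct⟩ := h
  · exact rule1 D ρ w.1 w.2 1 hr hs h1 h2 hct (Or.inl rfl) v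
  · exact rule1 D ρ w.1 w.2 (-1) hr hs h1 h2 hct (Or.inr rfl) v

theorem perfect_of_good (W : List (ℕ × ℕ)) (h : ∀ ρ < D.nroots, Good D ρ (W.getD ρ (0, 0))) :
    commutator (D.SteinbergCover K) = ⊤ :=
  perfect_of_X D (fun ρ hρ v => X_of_good D ρ _ (h ρ hρ) v)

end general

/-- witnesses for type D4 -/
def wD4 : List (ℕ × ℕ) := [(1, 9), (0, 14), (0, 15), (0, 16), (0, 17), (1, 17), (0, 19), (0, 20), (0, 21), (0, 22), (1, 20), (1, 21), (2, 22), (3, 22), (1, 23), (2, 23), (3, 23), (4, 23), (6, 22), (6, 23), (7, 23), (8, 23), (9, 23), (14, 22)]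

set_option maxRecDepth 100000 in
theorem goodD4 : ∀ ρ < chevD4.nroots, Good chevD4 ρ (wD4.getD ρ (0, 0)) := by decide +kernel

/-- witnesses for type F4 -/
def wF4 : List (ℕ × ℕ) := [(1, 23), (0, 24), (0, 26), (7, 14), (0, 31), (0, 32), (1, 32), (3, 33), (3, 34), (3, 35), (3, 36), (3, 37), (3, 38), (3, 39), (3, 40), (0, 42), (0, 43), (1, 43), (7, 37), (7, 38), (7, 39), (0, 45), (1, 45), (0, 46), (1, 47), (2, 46), (2, 47), (8, 40), (9, 40), (10, 40), (4, 46), (4, 47), (5, 47), (7, 44), (8, 44), (9, 44), (10, 44), (11, 44), (12, 44), (13, 44), (14, 44), (15, 46), (15, 47), (16, 47), (33, 40), (21, 47), (23, 47), (24, 46)]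

set_option maxRecDepth 100000 in
theorem goodF4 : ∀ ρ < chevF4.nroots, Good chevF4 ρ (wF4.getD ρ (0, 0)) := by decide +kernel

/-- witnesses for type E6 -/
def wE6 : List (ℕ × ℕ) := [(1, 25), (0, 46), (0, 47), (0, 48), (0, 49), (0, 50), (0, 51), (0, 52), (0, 53), (0, 54), (0, 55), (1, 53), (1, 54), (1, 55), (2, 55), (5, 55), (0, 61), (0, 62), (0, 63), (0, 64), (0, 65), (0, 66), (0, 67), (0, 68), (0, 69), (0, 70), (1, 64), (1, 65), (1, 66), (2, 66), (1, 67), (1, 68), (1, 69), (2, 67), (2, 68), (3, 67), (4, 68), (3, 69), (4, 69), (2, 70), (3, 70), (4, 70), (5, 69), (5, 70), (6, 70), (7, 70), (1, 71), (2, 71), (3, 71), (4, 71), (5, 71), (6, 71), (7, 71), (8, 71), (9, 71), (10, 71), (16, 66), (16, 69), (16, 70), (17, 70), (18, 70), (16, 71), (17, 71), (18, 71), (19, 71), (20, 71), (21, 71), (22, 71), (23, 71), (24, 71), (25, 71), (46, 70)]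

set_option maxRecDepth 100000 in
theorem goodE6 : ∀ ρ < chevE6.nroots, Good chevE6 ρ (wE6.getD ρ (0, 0)) := by decide +kernel

/-- witnesses for type E7 -/
def wE7 : List (ℕ × ℕ) := [(1, 32), (0, 93), (0, 94), (0, 95), (0, 96), (0, 97), (0, 98), (0, 99), (0, 100), (0, 101), (0, 102), (0, 103), (0, 104), (0, 105), (0, 106), (0, 107), (0, 108), (0, 109), (0, 110), (0, 111), (0, 112), (0, 113), (0, 114), (0, 115), (0, 116), (0, 117), (0, 118), (0, 119), (0, 120), (0, 121), (0, 122), (0, 123), (0, 124), (1, 109), (1, 110), (1, 111), (1, 112), (1, 113), (1, 114), (1, 115), (1, 116), (1, 117), (1, 118), (2, 115), (2, 116), (2, 117), (2, 118), (3, 118), (1, 119), (1, 120), (1, 121), (1, 122), (1, 123), (2, 119), (2, 120), (2, 121), (2, 122), (3, 119), (3, 120), (3, 121), (4, 119), (4, 120), (5, 119), (6, 120), (5, 121), (6, 121), (4, 122), (5, 122), (6, 122), (3, 123), (4, 123), (5, 123), (6, 123), (2, 124), (3, 124), (4, 124), (5, 124), (6, 124), (7, 122), (7, 123), (8,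 123), (9, 123), (10, 123), (7, 124), (8, 124), (9, 124), (10, 124), (11, 124), (12, 124), (13, 124), (14, 124), (15, 124), (16, 124), (1, 125), (2, 125), (3, 125), (4, 125), (5, 125), (6, 125), (7, 125), (8, 125), (9, 125), (10, 125), (11, 125), (12, 125), (13, 125), (14, 125), (15, 125), (16, 125), (17, 125), (18, 125), (19, 125), (20, 125), (21, 125), (22, 125), (23, 125), (24, 125), (25, 125), (26, 125), (27, 125), (28, 125), (29, 125), (30, 125), (31, 125), (32, 125), (93, 124)]

set_option maxRecDepth 100000 in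
theorem goodE7 : ∀ ρ < chevE7.nroots, Good chevE7 ρ (wE7.getD ρ (0, 0)) := by decide +kernel

/-- witnesses for type E8 -/
def wE8 : List (ℕ × ℕ) := [(1, 119), (0, 120), (0, 122), (0, 125), (0, 129), (0, 134), (0, 140), (0, 146), (0, 151), (0, 155), (0, 158), (0, 160), (0, 161), (1, 161), (0, 168), (0, 173), (0, 177), (0, 180), (0, 182), (0, 183), (1, 183), (0, 187), (0, 190), (0, 192), (0, 193), (1, 193), (0, 196), (0, 198), (0, 199), (1, 199), (0, 201), (0, 202), (1, 202), (0, 203), (1, 203), (2, 203), (0, 206), (0, 208), (0, 209), (1, 209), (0, 211), (0, 212), (1, 212), (0, 213), (1, 213), (2, 213), (0, 215), (0, 216), (1, 216), (0, 217), (1, 217), (2, 217), (0, 218), (1, 218), (2, 218), (3, 218), (0, 220), (0, 221), (1, 221), (0, 222), (1, 222), (2, 222), (0, 223), (1, 223), (2, 223), (3, 223), (0, 224), (1, 224), (2, 224), (3, 224), (4, 224), (0, 225), (1, 225), (2, 225), (3, 225), (4, 225), (5, 225), (6, 225), (0, 227), (0, 228), (1, 228), (0, 229), (1, 229),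 (2, 229), (0, 230), (1, 230), (2, 230), (3, 230), (0, 231), (1, 231), (2, 231), (3, 231), (4, 231), (0, 232), (1, 232), (2, 232), (3, 232), (4, 232), (5, 232), (0, 233), (1, 233), (2, 233), (3, 233), (4, 233), (5, 233), (0, 234), (1, 234), (2, 234), (3, 234), (4, 234), (0, 235), (1, 235), (2, 235), (3, 235), (0, 236), (1, 236), (2, 236), (0, 237), (1, 237), (0, 238), (1, 239), (2, 238), (2, 239), (3, 237), (3, 238), (3, 239), (4, 236), (4, 237), (4, 238), (4, 239), (5, 235), (5, 236), (5, 237), (5, 238), (5, 239), (6, 234), (6, 235), (6, 236), (6, 237), (6, 238), (6, 239), (7, 234), (7, 235), (7, 236), (7, 237), (7, 238), (7, 239), (8, 235), (8, 236), (8, 237), (8, 238), (8, 239), (9, 236), (9, 237), (9, 238), (9, 239), (10, 237), (10, 238), (10, 239), (11, 238), (11, 239), (12, 239), (14, 233), (14, 234), (14, 235), (14, 236), (14, 237), (14, 238), (14, 239), (15, 235), (15, 236), (15, 237), (15, 238), (15, 239), (16, 236), (16, 237), (16, 238), (16, 239), (17, 237),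 (17, 238), (17, 239), (18, 238), (18, 239), (19, 239), (21, 236), (21, 237), (21, 238), (21, 239), (22, 237), (22, 238), (22, 239), (23, 238), (23, 239), (24, 239), (26, 237), (26, 238), (26, 239), (27, 238), (27, 239), (28, 239), (30, 238), (30, 239), (31, 239), (33, 239), (36, 237), (36, 238), (36, 239), (37, 238), (37, 239), (38, 239), (40, 238), (40, 239), (41, 239), (43, 239), (46, 238), (46, 239), (47, 239), (49, 239), (52, 239), (56, 238), (56, 239), (57, 239), (59, 239), (62, 239), (66, 239), (71, 239), (78, 238), (78, 239), (79, 239), (81, 239), (84, 239), (88, 239), (93, 239), (99, 239), (105, 239), (110, 239), (114, 239), (117, 239), (119, 239), (120, 238)]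

set_option maxRecDepth 100000 in
theorem goodE8 : ∀ ρ < chevE8.nroots, Good chevE8 ρ (wE8.getD ρ (0, 0)) := by decide +kernel

theorem perfectG2 {K : Type*} [Field K] (lam : K) (hl0 : lam ≠ 0) (hl1 : lam ≠ 1) :
    commutator (chevG2.SteinbergCover K) = ⊤ := by
  have L0 : ∀ v : K, X chevG2 0 v = 1 := X_of_good chevG2 0 (1, 5) (by decide +kernel)
  have L1 : ∀ v : K, X chevG2 1 v = 1 := X_of_good chevG2 1 (0, 6) (by decide +kernel)
  have L5 : ∀ v : K, X chevG2 5 v = 1 := X_of_good chevG2 5 (0, 10) (by decide +kernel)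
  have L6 : ∀ v : K, X chevG2 6 v = 1 := X_of_good chevG2 6 (1, 11) (by decide +kernel)
  have L10 : ∀ v : K, X chevG2 10 v = 1 := X_of_good chevG2 10 (5, 11) (by decide +kernel)
  have L11 : ∀ v : K, X chevG2 11 v = 1 := X_of_good chevG2 11 (6, 10) (by decide +kernel)
  have A := rule2 (K := K) chevG2 2 4 0 8 1 1 [(6, -1, 1, 3), (1, -2, 2, 3)] (by decide +kernel)
    (by decide +kernel) (by decide) (by decide +kernel) (by decide +kernel) (Or.inl rfl) (Or.inl rfl)
    (by
      intro e he v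
      simp only [List.mem_cons, List.not_mem_nil, or_false] at he
      rcases he with rfl | rfl
      · exact L6 v
      · exact L1 v) lam hl0 hl1
  have B := rule2 (K := K) chevG2 3 7 0 9 (-1) (-1) [(10, -1, 1, 3), (5, 2, 2, 3)] (by decide +kernel)
    (by decide +kernel) (by decide) (by decide +kernel) (by decide +kernel) (Or.inr rfl) (Or.inr rfl)
    (by
      intro e he v
      simp only [List.mem_cons, List.not_mem_nil, or_false] at he
      rcases he with rfl | rfl
      · exact L10 v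
      · exact L5 v) lam hl0 hl1
  have C := rule2 (K := K) chevG2 4 8 1 9 (-1) 1 [(11, 1, 1, 3), (6, -2, 2, 3)] (by decide +kernel)
    (by decide +kernel) (by decide) (by decide +kernel) (by decide +kernel) (Or.inr rfl) (Or.inl rfl)
    (by
      intro e he v
      simp only [List.mem_cons, List.not_mem_nil, or_false] at he
      rcases he with rfl | rfl
      · exact L11 v
      · exact L6 v) lam hl0 hl1
  have E := rule2 (K := K) chevG2 7 9 5 8 1 (-1) [(11, 1, 1, 3), (10, 2, 2, 3)] (by decide +kernel)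
    (by decide +kernel) (by decide) (by decide +kernel) (by decide +kernel) (Or.inl rfl) (Or.inr rfl)
    (by
      intro e he v
      simp only [List.mem_cons, List.not_mem_nil, or_false] at he
      rcases he with rfl | rfl
      · exact L11 v
      · exact L10 v) lam hl0 hl1
  apply perfect_of_X
  intro ρ hρ v
  have hn : chevG2.nroots = 12 := by decide +kernel
  rw [hn] at hρ
  interval_cases ρ
  · exact L0 v
  · exact L1 v
  · exact A.1 v
  · exact B.1 v
  · exact A.2 v
  · exact L5 v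
  · exact L6 v
  · exact B.2 v
  · exact C.2 v
  · exact E.2 v
  · exact L10 v
  · exact L11 v

theorem perfectB2 {K : Type*} [Field K] (lam : K) (hl0 : lam ≠ 0) (hl1 : lam ≠ 1) :
    commutator (chevB2.SteinbergCover K) = ⊤ := by
  have hnil : ∀ e ∈ ([] : List (ℕ × ℤ × ℕ × ℕ)), ∀ v : K, X chevB2 e.1 v = 1 := by
    intro e he
    exact absurd he (List.not_mem_nil)
  have A := rule2 (K := K) chevB2 1 3 0 5 1 (-1) [] (by decide +kernel)
    (by decide +kernel) (by decide) (by decide +kernel) (by decide +kernel) (Or.inl rfl) (Or.inr rfl)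
    hnil lam hl0 hl1
  have B := rule2 (K := K) chevB2 2 4 0 6 (-1) 1 [] (by decide +kernel)
    (by decide +kernel) (by decide) (by decide +kernel) (by decide +kernel) (Or.inr rfl) (Or.inl rfl)
    hnil lam hl0 hl1
  have C := rule2 (K := K) chevB2 1 0 3 2 (-1) (-1) [] (by decide +kernel)
    (by decide +kernel) (by decide) (by decide +kernel) (by decide +kernel) (Or.inr rfl) (Or.inr rfl)
    hnil lam hl0 hl1
  have E := rule2 (K := K) chevB2 5 7 3 6 1 1 [] (by decide +kernel)
    (by decide +kernel) (by decide) (by decide +kernel) (by decide +kernel) (Or.inl rfl) (Or.inl rfl)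
    hnil lam hl0 hl1
  have F := rule2 (K := K) chevB2 6 7 4 5 1 (-1) [] (by decide +kernel)
    (by decide +kernel) (by decide) (by decide +kernel) (by decide +kernel) (Or.inl rfl) (Or.inr rfl)
    hnil lam hl0 hl1
  apply perfect_of_X
  intro ρ hρ v
  have hn : chevB2.nroots = 8 := by decide +kernel
  rw [hn] at hρ
  interval_cases ρ
  · exact C.2 v
  · exact A.1 v
  · exact B.1 v
  · exact A.2 v
  · exact B.2 v
  · exact E.1 v
  · exact F.1 v
  · exact E.2 v

/-- The group presented by Steinberg's generators x̄_r(t) subject only to (R1) (additivity) and (R2) (the commutator formula) is perfect, for each of the types G₂, B₂, D₄, F₄, E₆, E₇, E₈ over any field (for types B₂ and G₂ the field must have more than two elements — the cases where the Chevalley group is not simple are set aside). -/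
theorem result {K : Type*} [Field K] (D : Cfsg.Lie.ChevalleyDatum) (hD : D ∈ [Cfsg.Lie.chevG2, Cfsg.Lie.chevB2, Cfsg.Lie.chevD4, Cfsg.Lie.chevF4, Cfsg.Lie.chevE6, Cfsg.Lie.chevE7, Cfsg.Lie.chevE8]) (hK : D ∈ [Cfsg.Lie.chevB2, Cfsg.Lie.chevG2] → ∃ x : K, x ≠ 0 ∧ x ≠ 1) :
    commutator (D.SteinbergCover K) = ⊤ := by
  simp only [List.mem_cons, List.not_mem_nil, or_false] at hD
  rcases hD with rfl | rfl | rfl | rfl | rfl | rfl | rfl
  · obtain ⟨lam, hl0, hl1⟩ := hK (List.mem_cons.mpr (Or.inr (List.mem_cons.mpr (Or.inl rfl))))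
    exact perfectG2 lam hl0 hl1
  · obtain ⟨lam, hl0, hl1⟩ := hK (List.mem_cons.mpr (Or.inl rfl))
    exact perfectB2 lam hl0 hl1
  · exact perfect_of_good _ wD4 goodD4
  · exact perfect_of_good _ wF4 goodF4
  · exact perfect_of_good _ wE6 goodE6
  · exact perfect_of_good _ wE7 goodE7
  · exact perfect_of_good _ wE8 goodE8

end Cfsg.Agent.S2395
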