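import Mathlib
import Cfsg.Statements.S2401
import Cfsg.Agent.Lib.Helper10.SteinH
import Cfsg.Agent.Lib.Helper24.SLGen

set_option autoImplicit false
open Cfsg

namespace Cfsg.Agent.S2401

section aux
open Matrix
set_option linter.unusedSimpArgs false
variable {n : ℕ} {K : Type*} [Field K]

theorem T_comm {i j k l : Fin n} (hij : i ≠ j) (hkl : k ≠ l) (hil : i ≠ l) (hjk : j ≠ k) (t u : K) :
    SpecialLinearGroup.transvection hij t * SpecialLinearGroup.transvection hkl u =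
      SpecialLinearGroup.transvection hkl u * SpecialLinearGroup.transvection hij t := by
  apply Subtype.ext
  rw [Matrix.ext_iff_mulVec]
  intro v
  funext m
  simp only [Matrix.SpecialLinearGroup.coe_mul, ← Matrix.mulVec_mulVec]
  simp only [Cfsg.Agent.Lib.Helper28.transvection_mulVec_apply]
  by_cases h1 : m = i
  · subst h1
    by_cases h2 : m = k
    · subst h2
      simp [hij, hkl, hil, hjk, hij.symm, hkl.symm, hil.symm, hjk.symm]
      ring
    · simp [hij, hkl, hil, hjk, hij.symm, hkl.symm, hil.symm, hjk.symm, h2]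
  · by_cases h2 : m = k
    · subst h2
      simp [hij, hkl, hil, hjk, hij.symm, hkl.symm, hil.symm, hjk.symm, h1]
    · simp [h1, h2]

theorem T_rel {i j l : Fin n} (hij : i ≠ j) (hjl : j ≠ l) (hil : i ≠ l) (t u : K) :
    SpecialLinearGroup.transvection hij t * SpecialLinearGroup.transvection hjl u *
      (SpecialLinearGroup.transvection hij t)⁻¹ * (SpecialLinearGroup.transvection hjl u)⁻¹ =
      SpecialLinearGroup.transvection hil (t * u) := by
  rw [SpecialLinearGroup.transvection_inv, SpecialLinearGroup.transvection_inv]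
  apply Subtype.ext
  rw [Matrix.ext_iff_mulVec]
  intro v
  funext m
  simp only [Matrix.SpecialLinearGroup.coe_mul, ← Matrix.mulVec_mulVec]
  simp only [Cfsg.Agent.Lib.Helper28.transvection_mulVec_apply]
  by_cases h1 : m = i
  · subst h1
    simp [hij, hjl, hil, hij.symm, hjl.symm, hil.symm]
    ring
  · by_cases h2 : m = j
    · subst h2
      simp [hij, hjl, hil, hij.symm, hjl.symm, hil.symm]
    · simp [h1, h2]

/-- index type of generators -/
abbrev Idx (n : ℕ) : Type := {ij : Fin n × Fin n // ij.1 ≠ ij.2}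

/-- the Steinberg relators -/
def stRels (n : ℕ) (K : Type*) [Field K] : Set (FreeGroup (Idx n × K)) :=
  {g : FreeGroup ({ij : Fin n × Fin n // ij.1 ≠ ij.2} × K) | ∃ (a : {ij : Fin n × Fin n // ij.1 ≠ ij.2}) (t u : K),
            g = FreeGroup.of (a, t) * FreeGroup.of (a, u) * (FreeGroup.of (a, t + u))⁻¹} ∪
          {g | ∃ (a b : {ij : Fin n × Fin n // ij.1 ≠ ij.2}) (t u : K), a.1.1 ≠ b.1.2 ∧ a.1.2 ≠ b.1.1 ∧
            g = FreeGroup.of (a, t) * FreeGroup.of (b, u) * (FreeGroup.of (a, t))⁻¹ * (FreeGroup.of (b, u))⁻¹} ∪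
          {g | ∃ (a b : {ij : Fin n × Fin n // ij.1 ≠ ij.2}) (h : a.1.1 ≠ b.1.2) (t u : K), a.1.2 = b.1.1 ∧
            g = FreeGroup.of (a, t) * FreeGroup.of (b, u) * (FreeGroup.of (a, t))⁻¹ * (FreeGroup.of (b, u))⁻¹ *
              (FreeGroup.of (⟨(a.1.1, b.1.2), h⟩, t * u))⁻¹}

/-- generator of the presented group -/
noncomputable def gx (n : ℕ) (K : Type*) [Field K] (i j : Fin n) (t : K) : PresentedGroup (stRels n K) :=
  if h : i ≠ j then PresentedGroup.of (⟨(i, j), h⟩, t) else 1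

theorem gx_of {i j : Fin n} (h : i ≠ j) (t : K) :
    gx n K i j t = PresentedGroup.of (⟨(i, j), h⟩, t) := by
  unfold gx
  rw [dif_pos h]

theorem gx_add {i j : Fin n} (h : i ≠ j) (t u : K) :
    gx n K i j (t + u) = gx n K i j t * gx n K i j u := by
  rw [gx_of h, gx_of h, gx_of h]
  have hr : FreeGroup.of ((⟨(i, j), h⟩ : Idx n), t) * FreeGroup.of ((⟨(i, j), h⟩ : Idx n), u) *
      (FreeGroup.of ((⟨(i, j), h⟩ : Idx n), t + u))⁻¹ ∈ stRels n K :=
    Or.inl (Or.inl ⟨⟨(i, j), h⟩, t, u, rfl⟩)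
  have h1 := PresentedGroup.one_of_mem hr
  rw [map_mul, map_mul, map_inv] at h1
  exact (mul_inv_eq_one.mp h1).symm

theorem gx_comm {i j k l : Fin n} (hij : i ≠ j) (hkl : k ≠ l) (hil : i ≠ l) (hjk : j ≠ k) (t u : K) :
    gx n K i j t * gx n K k l u = gx n K k l u * gx n K i j t := by
  rw [gx_of hij, gx_of hkl]
  have hr : FreeGroup.of ((⟨(i, j), hij⟩ : Idx n), t) * FreeGroup.of ((⟨(k, l), hkl⟩ : Idx n), u) *
      (FreeGroup.of ((⟨(i, j), hij⟩ : Idx n), t))⁻¹ * (FreeGroup.of ((⟨(k, l), hkl⟩ : Idx n), u))⁻¹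
      ∈ stRels n K :=
    Or.inl (Or.inr ⟨⟨(i, j), hij⟩, ⟨(k, l), hkl⟩, t, u, hil, hjk, rfl⟩)
  have h1 := PresentedGroup.one_of_mem hr
  rw [map_mul, map_mul, map_mul, map_inv, map_inv] at h1
  have h2 := mul_inv_eq_one.mp h1
  exact mul_inv_eq_iff_eq_mul.mp h2

theorem gx_rel {i j l : Fin n} (hij : i ≠ j) (hjl : j ≠ l) (hil : i ≠ l) (t u : K) :
    gx n K i j t * gx n K j l u * (gx n K i j t)⁻¹ * (gx n K j l u)⁻¹ = gx n K i l (t * u) := by
  rw [gx_of hij, gx_of hjl, gx_of hil]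
  have hr : FreeGroup.of ((⟨(i, j), hij⟩ : Idx n), t) * FreeGroup.of ((⟨(j, l), hjl⟩ : Idx n), u) *
      (FreeGroup.of ((⟨(i, j), hij⟩ : Idx n), t))⁻¹ * (FreeGroup.of ((⟨(j, l), hjl⟩ : Idx n), u))⁻¹ *
      (FreeGroup.of ((⟨(i, l), hil⟩ : Idx n), t * u))⁻¹ ∈ stRels n K :=
    Or.inr ⟨⟨(i, j), hij⟩, ⟨(j, l), hjl⟩, hil, t, u, rfl, rfl⟩
  have h1 := PresentedGroup.one_of_mem hr
  rw [map_mul, map_mul, map_mul, map_mul, map_inv, map_inv, map_inv] at h1
  exact mul_inv_eq_one.mp h1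

/-- the map on generators -/
def genMap (n : ℕ) (K : Type*) [Field K] (p : Idx n × K) : Matrix.SpecialLinearGroup (Fin n) K :=
  SpecialLinearGroup.transvection p.1.2 p.2

theorem genMap_rels : ∀ r ∈ stRels n K, FreeGroup.lift (genMap n K) r = 1 := by
  rintro r ((⟨a, t, u, rfl⟩ | ⟨a, b, t, u, h1, h2, rfl⟩) | ⟨a, b, h, t, u, h1, rfl⟩)
  · simp only [map_mul, map_inv, FreeGroup.lift_apply_of, genMap]
    rw [← SpecialLinearGroup.transvection_add, mul_inv_cancel]
  · simp only [map_mul, map_inv, FreeGroup.lift_apply_of, genMap]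
    rw [T_comm a.2 b.2 h1 h2]
    group
  · simp only [map_mul, map_inv, FreeGroup.lift_apply_of, genMap]
    obtain ⟨⟨i, j⟩, hij⟩ := a
    obtain ⟨⟨k, l⟩, hkl⟩ := b
    simp only at h h1 hij hkl
    subst h1
    rw [T_rel hij hkl h, mul_inv_cancel]

/-- the homomorphism to `SL_n` -/
noncomputable def piHom (n : ℕ) (K : Type*) [Field K] :
    PresentedGroup (stRels n K) →* Matrix.SpecialLinearGroup (Fin n) K :=
  PresentedGroup.toGroup (f := genMap n K) genMap_rels

theorem piHom_of (p : Idx n × K) : piHom n K (PresentedGroup.of p) = genMap n K p :=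
  PresentedGroup.toGroup.of _

/-- the Steinberg data with homomorphism -/
noncomputable def stP (n : ℕ) (K : Type*) [Field K] :
    Cfsg.Agent.Lib.Helper10.Stein.StPi n K (PresentedGroup (stRels n K)) where
  x := gx n K
  x_add := fun i j h t u => gx_add h t u
  x_comm := fun i j k l hij hkl hil hjk t u => gx_comm hij hkl hil hjk t u
  x_rel := fun i j l hij hjl hil t u => gx_rel hij hjl hil t u
  π := piHom n K
  π_x := fun i j h t => by
    rw [gx_of h, piHom_of]
    rfl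
  gen := by
    rw [eq_top_iff, ← PresentedGroup.closure_range_of (stRels n K)]
    apply Subgroup.closure_mono
    rintro _ ⟨⟨⟨⟨i, j⟩, hij⟩, t⟩, rfl⟩
    exact ⟨i, j, hij, t, (gx_of hij t).symm⟩

end aux

/-- The Steinberg presentation of `SL_n` over a finite field for `n ≥ 3`: the group generated by symbols `x_ij(t)` (`i ≠ j`, `t` in the field) subject to `x_ij(t) x_ij(u) = x_ij(t + u)` and, for `i ≠ l`, `x_ij(t) x_kl(u) x_ij(t)⁻¹ x_kl(u)⁻¹ = x_il(tu)` if `j = k` and `= 1` if `j ≠ k`, is isomorphic to `SL_n` by an isomorphism sending `x_ij(t)` to the elementary matrix `1 + t E_ij`. -/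
theorem result {K : Type*} [Field K] [Finite K] (n : ℕ) (hn : 3 ≤ n) :
    ∃ e : PresentedGroup
        ({g : FreeGroup ({ij : Fin n × Fin n // ij.1 ≠ ij.2} × K) | ∃ (a : {ij : Fin n × Fin n // ij.1 ≠ ij.2}) (t u : K),
            g = FreeGroup.of (a, t) * FreeGroup.of (a, u) * (FreeGroup.of (a, t + u))⁻¹} ∪
          {g | ∃ (a b : {ij : Fin n × Fin n // ij.1 ≠ ij.2}) (t u : K), a.1.1 ≠ b.1.2 ∧ a.1.2 ≠ b.1.1 ∧
            g = FreeGroup.of (a, t) * FreeGroup.of (b, u) * (FreeGroup.of (a, t))⁻¹ * (FreeGroup.of (b, u))⁻¹} ∪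
          {g | ∃ (a b : {ij : Fin n × Fin n // ij.1 ≠ ij.2}) (h : a.1.1 ≠ b.1.2) (t u : K), a.1.2 = b.1.1 ∧
            g = FreeGroup.of (a, t) * FreeGroup.of (b, u) * (FreeGroup.of (a, t))⁻¹ * (FreeGroup.of (b, u))⁻¹ *
              (FreeGroup.of (⟨(a.1.1, b.1.2), h⟩, t * u))⁻¹}) ≃* Matrix.SpecialLinearGroup (Fin n) K,
      ∀ (a : {ij : Fin n × Fin n // ij.1 ≠ ij.2}) (t : K), ((e (PresentedGroup.of (a, t)) : Matrix (Fin n) (Fin n) K)) = Matrix.transvection a.1.1 a.1.2 t := by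
  show ∃ e : PresentedGroup (stRels n K) ≃* Matrix.SpecialLinearGroup (Fin n) K,
    ∀ (a : Idx n) (t : K), ((e (PresentedGroup.of (a, t)) : Matrix (Fin n) (Fin n) K)) =
      Matrix.transvection a.1.1 a.1.2 t
  obtain ⟨m, rfl⟩ : ∃ m, n = m + 1 := ⟨n - 1, by omega⟩
  have hinj : Function.Injective (piHom (m + 1) K) :=
    Cfsg.Agent.Lib.Helper10.Stein.StPi.π_injective (stP (m + 1) K) hn
  have hsurj : Function.Surjective (piHom (m + 1) K) := by
    rw [← MonoidHom.range_eq_top]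
    have : Nontrivial (Fin (m + 1)) := Fin.nontrivial_iff_two_le.mpr (by omega)
    apply Cfsg.Agent.Lib.Helper24.SLGen.eq_top_of_transvections
    intro i j hij a
    exact ⟨PresentedGroup.of (⟨(i, j), hij⟩, a), piHom_of _⟩
  have hb : Function.Bijective (piHom (m + 1) K) := ⟨hinj, hsurj⟩
  refine ⟨MulEquiv.ofBijective (piHom (m + 1) K) hb, ?_⟩
  intro a t
  have h1 : (MulEquiv.ofBijective (piHom (m + 1) K) hb) (PresentedGroup.of (a, t)) =
      genMap (m + 1) K (a, t) := piHom_of _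
  rw [h1]
  rfl

end Cfsg.Agent.S2401
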