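-- Statement S2416: a Chevalley group is generated by N and one short fundamental root subgroup.
-- Proof (helper6): conjugation by products of the n_p (S1031) gives all root subgroups of short
-- roots (words found by a search, checked by kernel computation); the long root subgroups come
-- from single-term commutator relations with coefficient +-2 (B2, F4) or +-3 (G2).
import Cfsg.Statements.S2416
import Mathlib
import Cfsg.Agent.Lib.Helper6.ChevGenM
import Cfsg.Agent.Lib.Helper6.ChevGenData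
import Cfsg.Agent.S1053

set_option autoImplicit false
open Cfsg

namespace Cfsg.Agent.S2416

open Cfsg.Lie Cfsg.Agent.Lib.Helper6.ChevWeyl Cfsg.Agent.Lib.Helper6.ChevW0
  Cfsg.Agent.Lib.Helper6.ChevGenM Cfsg.Agent.Lib.Helper6.ChevGenData

theorem cast_ne_zero_of_ringChar {K : Type*} [Field K] (p : ℕ) (hp : p.Prime)
    (h : ringChar K ≠ p) : ((p : ℤ) : K) ≠ 0 := by
  intro h0
  have h1 : ((p : ℕ) : K) = 0 := by exact_mod_cast h0
  have h2 : ringChar K ∣ p := (ringChar.spec K p).mp h1
  rcases (Nat.dvd_prime hp).mp h2 with h3 | h3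
  · exact CharP.ringChar_ne_one h3
  · exact h h3

/-- A Chevalley group of type G₂, B₂, D₄, F₄, E₆, E₇ or E₈ over a finite field lies in (indeed equals) the subgroup generated by its monomial subgroup `N` and a single fundamental root subgroup `X_p`, where `p` is a short fundamental root if there are two root lengths (any fundamental root otherwise), provided the characteristic is not 2 for types B₂, F₄ and not 3 for type G₂ (and the field has more than two elements for B₂, G₂). -/
theorem result {K : Type*} [Field K] [Finite K] (D : Cfsg.Lie.ChevalleyDatum) (hD : D ∈ [Cfsg.Lie.chevG2, Cfsg.Lie.chevB2, Cfsg.Lie.chevD4, Cfsg.Lie.chevF4, Cfsg.Lie.chevE6, Cfsg.Lie.chevE7, Cfsg.Lie.chevE8])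
    (hK : D ∈ [Cfsg.Lie.chevB2, Cfsg.Lie.chevG2] → ∃ x : K, x ≠ 0 ∧ x ≠ 1)
    (h2 : D ∈ [Cfsg.Lie.chevB2, Cfsg.Lie.chevF4] → ringChar K ≠ 2) (h3 : D = Cfsg.Lie.chevG2 → ringChar K ≠ 3)
    (i : ℕ) (hi : i < D.rank) (hshort : D.isLong (D.simple i) = false) :
    D.group K ≤ D.monomialSubgroup K ⊔ D.rootSubgroup K (D.simple i) := by
  have h : Hyp D K := Cfsg.Agent.S1053.hyp_all D hD
  have hN : D.monomialSubgroup K ≤ D.monomialSubgroup K ⊔ D.rootSubgroup K (D.simple i) :=
    le_sup_left
  have hX : D.rootSubgroup K (D.simple i) ≤ D.monomialSubgroup K ⊔ D.rootSubgroup K (D.simple i) :=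
    le_sup_right
  have hD' := hD
  simp only [List.mem_cons, List.not_mem_nil, or_false] at hD'
  rcases hD' with rfl | rfl | rfl | rfl | rfl | rfl | rfl
  · have h30 : ((3 : ℤ) : K) ≠ 0 :=
      cast_ne_zero_of_ringChar 3 Nat.prime_three (h3 rfl)
    exact group_le_of_short_orbit h _ hN rtG2 rcheck_G2 _ _ toBaseG2 fromBaseG2 3 h30 lcertG2
      simpleG2 shortOrbitG2 i hi hshort hX
  · have h20 : ((2 : ℤ) : K) ≠ 0 :=
      cast_ne_zero_of_ringChar 2 Nat.prime_two (h2 (by simp))
    exact group_le_of_short_orbit h _ hN rtB2 rcheck_B2 _ _ toBaseB2 fromBaseB2 2 h20 lcertB2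
      simpleB2 shortOrbitB2 i hi hshort hX
  · exact group_le_of_orbit h _ hN rtD4 rcheck_D4 _ toBaseD4 fromBaseD4 orbitD4 i hi hX
  · have h20 : ((2 : ℤ) : K) ≠ 0 :=
      cast_ne_zero_of_ringChar 2 Nat.prime_two (h2 (by simp))
    exact group_le_of_short_orbit h _ hN rtF4 rcheck_F4 _ _ toBaseF4 fromBaseF4 2 h20 lcertF4
      simpleF4 shortOrbitF4 i hi hshort hX
  · exact group_le_of_orbit h _ hN rtE6 rcheck_E6 _ toBaseE6 fromBaseE6 orbitE6 i hi hX
  · exact group_le_of_orbit h _ hN rtE7 rcheck_E7 _ toBaseE7 fromBaseE7 orbitE7 i hi hX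
  · exact group_le_of_orbit h _ hN rtE8 rcheck_E8 _ toBaseE8 fromBaseE8 orbitE8 i hi hX

end Cfsg.Agent.S2416
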