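-- Statement S2417: B2, F4 (char 2), G2 (char 3) are generated by N and a short and a long
-- fundamental root subgroup.
-- Proof (helper6): conjugation by products of the n_p (S1031) gives all root subgroups of short
-- roots from the short fundamental root and all root subgroups of long roots from the long one
-- (words found by a search, checked by kernel computation); the characteristic is not used.
import Cfsg.Statements.S2417
import Mathlib
import Cfsg.Agent.Lib.Helper6.ChevGenM
import Cfsg.Agent.Lib.Helper6.ChevGenData
import Cfsg.Agent.S1053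

set_option autoImplicit false
open Cfsg

namespace Cfsg.Agent.S2417

open Cfsg.Lie Cfsg.Agent.Lib.Helper6.ChevWeyl Cfsg.Agent.Lib.Helper6.ChevW0
  Cfsg.Agent.Lib.Helper6.ChevGenM Cfsg.Agent.Lib.Helper6.ChevGenData

/-- In the characteristics with an exceptional graph symmetry — type B₂ or F₄ in characteristic 2 (field of more than two elements for B₂) and type G₂ in characteristic 3 — the Chevalley group lies in the subgroup generated by its monomial subgroup `N` and the two fundamental root subgroups `X_a`, `X_b` of a short root `a` and a long root `b` joined in the Dynkin diagram. -/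
theorem result {K : Type*} [Field K] [Finite K] (e : Cfsg.Lie.ChevalleyDatum × ℕ)
    (he : e ∈ [(Cfsg.Lie.chevB2, 2), (Cfsg.Lie.chevF4, 2), (Cfsg.Lie.chevG2, 3)]) [CharP K e.2]
    (hK : e.1 = Cfsg.Lie.chevB2 → ∃ x : K, x ≠ 0 ∧ x ≠ 1)
    (i j : ℕ) (hi : i < e.1.rank) (hj : j < e.1.rank) (hshort : e.1.isLong (e.1.simple i) = false)
    (hlong : e.1.isLong (e.1.simple j) = true) (hbond : e.1.bonds i j ≠ 0) :
    e.1.group K ≤ e.1.monomialSubgroup K ⊔ e.1.rootSubgroup K (e.1.simple i) ⊔ e.1.rootSubgroup K (e.1.simple j) := by
  simp only [List.mem_cons, List.not_mem_nil, or_false] at he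
  rcases he with rfl | rfl | rfl
  · have h : Hyp chevB2 K := Cfsg.Agent.S1053.hyp_all chevB2 (by simp)
    refine group_le_of_two_orbits h _ (le_trans le_sup_left le_sup_left) rtB2 rcheck_B2 _ _
      toBaseB2 fromBaseB2 simpleB2 twoOrbitB2 i j hi hj hshort hlong
      (le_trans le_sup_right le_sup_left) le_sup_right
  · have h : Hyp chevF4 K := Cfsg.Agent.S1053.hyp_all chevF4 (by simp)
    refine group_le_of_two_orbits h _ (le_trans le_sup_left le_sup_left) rtF4 rcheck_F4 _ _
      toBaseF4 fromBaseF4 simpleF4 twoOrbitF4 i j hi hj hshort hlong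
      (le_trans le_sup_right le_sup_left) le_sup_right
  · have h : Hyp chevG2 K := Cfsg.Agent.S1053.hyp_all chevG2 (by simp)
    refine group_le_of_two_orbits h _ (le_trans le_sup_left le_sup_left) rtG2 rcheck_G2 _ _
      toBaseG2 fromBaseG2 simpleG2 twoOrbitG2 i j hi hj hshort hlong
      (le_trans le_sup_right le_sup_left) le_sup_right

end Cfsg.Agent.S2417
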