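import Cfsg.Statements.S2427
import Cfsg.Agent.Lib.Helper9.SL23Structure

set_option autoImplicit false
open Cfsg

namespace Cfsg.Agent.S2427

/-- The group SL₂ over the field with 3 elements has order 24 and centre of order 2; its commutator subgroup has order 8, is isomorphic to the quaternion group of order 8 and is complemented by every Sylow 3-subgroup (so the group is a semidirect product of a quaternion group of order 8 by a cyclic group of order 3); and its only normal subgroups besides the trivial subgroup and the whole group are the centre and the commutator subgroup. -/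
theorem result :
    Nat.card (Matrix.SpecialLinearGroup (Fin 2) (ZMod 3)) = 24 ∧
    Nat.card (Subgroup.center (Matrix.SpecialLinearGroup (Fin 2) (ZMod 3))) = 2 ∧
    Nat.card (commutator (Matrix.SpecialLinearGroup (Fin 2) (ZMod 3))) = 8 ∧
    Nonempty (commutator (Matrix.SpecialLinearGroup (Fin 2) (ZMod 3)) ≃* QuaternionGroup 2) ∧
    (∀ P : Sylow 3 (Matrix.SpecialLinearGroup (Fin 2) (ZMod 3)),
      Subgroup.IsComplement' (commutator (Matrix.SpecialLinearGroup (Fin 2) (ZMod 3)))
        (P : Subgroup (Matrix.SpecialLinearGroup (Fin 2) (ZMod 3)))) ∧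
    ∀ N : Subgroup (Matrix.SpecialLinearGroup (Fin 2) (ZMod 3)), N.Normal →
      N = ⊥ ∨ N = ⊤ ∨ N = Subgroup.center (Matrix.SpecialLinearGroup (Fin 2) (ZMod 3)) ∨
        N = commutator (Matrix.SpecialLinearGroup (Fin 2) (ZMod 3)) := by
  have hcomm := Cfsg.Agent.Lib.Helper9.SLTwoThree.commutator_eq
  refine ⟨Cfsg.Agent.Lib.Helper9.SLTwoThree.card_SL23,
    Cfsg.Agent.Lib.Helper9.SLTwoThree.card_center,
    Cfsg.Agent.Lib.Helper9.SLTwoThree.card_commutator, ?_, ?_, ?_⟩
  · have h := Cfsg.Agent.Lib.Helper9.SLTwoThree.nonempty_quat8_mulEquiv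
    have hc : commutator (Matrix.SpecialLinearGroup (Fin 2) (ZMod 3)) =
        Cfsg.Agent.Lib.Helper9.SLTwoThree.quat8 := hcomm
    rw [hc]
    exact h
  · intro P
    haveI : Fact (Nat.Prime 3) := ⟨by norm_num⟩
    have hP : Nat.card (P : Subgroup (Matrix.SpecialLinearGroup (Fin 2) (ZMod 3))) = 3 := by
      obtain ⟨k, hk⟩ := P.2.exists_card_eq
      have hmul : Nat.card (P : Subgroup (Matrix.SpecialLinearGroup (Fin 2) (ZMod 3))) *
          (P : Subgroup (Matrix.SpecialLinearGroup (Fin 2) (ZMod 3))).index = 24 := by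
        rw [Subgroup.card_mul_index]
        exact Cfsg.Agent.Lib.Helper9.SLTwoThree.card_SL23
      have hnd : ¬ 3 ∣ (P : Subgroup (Matrix.SpecialLinearGroup (Fin 2) (ZMod 3))).index :=
        P.not_dvd_index
      rw [hk] at hmul ⊢
      have hk2 : k < 2 := by
        by_contra h
        have h2 : 2 ≤ k := not_lt.mp h
        have : 3 ^ 2 ∣ 24 := (pow_dvd_pow 3 h2).trans (Dvd.intro _ hmul)
        norm_num at this
      interval_cases k
      · exfalso
        apply hnd
        rw [pow_zero, one_mul] at hmul
        rw [hmul]; norm_num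
      · norm_num
    have h8 : Nat.card (commutator (Matrix.SpecialLinearGroup (Fin 2) (ZMod 3))) = 8 :=
      Cfsg.Agent.Lib.Helper9.SLTwoThree.card_commutator
    apply Subgroup.isComplement'_of_coprime
    · rw [h8, hP]
      exact Cfsg.Agent.Lib.Helper9.SLTwoThree.card_SL23.symm
    · rw [h8, hP]; norm_num
  · intro N hN
    have := hN
    have hc : commutator (Matrix.SpecialLinearGroup (Fin 2) (ZMod 3)) =
        Cfsg.Agent.Lib.Helper9.SLTwoThree.quat8 := hcomm
    rw [hc]
    exact Cfsg.Agent.Lib.Helper9.SLTwoThree.normal_classification N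

end Cfsg.Agent.S2427
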