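import Cfsg.Statements.S2429
import Mathlib
import Cfsg.Agent.Lib.Helper12.C8
import Cfsg.Agent.S2428

set_option autoImplicit false
open Cfsg

namespace Cfsg.Agent.S2429

open Cfsg.Agent.Lib.Helper12.SL2

variable {F : Type*} [Field F]

local notation "SL2" => Matrix.SpecialLinearGroup (Fin 2)
local notation "M2" => Matrix (Fin 2) (Fin 2)

theorem main [Fintype F] (hodd : Odd (Fintype.card F)) :
    ∃ T' : Subgroup (SL2 F), IsCyclic T' ∧ Nat.card T' = Fintype.card F + 1 ∧
      Subgroup.centralizer ((T' : Set (SL2 F))) = T' ∧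
      (∀ g : SL2 F, g ∈ T' → (g : M2 F) ≠ 1 → (g : M2 F) ≠ -1 →
        Subgroup.centralizer ({g} : Set (SL2 F)) = T') ∧
      (∀ g : SL2 F, (∀ (c : F) (v : Fin 2 → F), v ≠ 0 → (g : M2 F).mulVec v ≠ c • v) →
        ∃ h : SL2 F, h * g * h⁻¹ ∈ T') ∧
      Nat.card (Subgroup.normalizer (T' : Set (SL2 F))) = 2 * (Fintype.card F + 1) ∧
      Nat.card (ConjClasses (Subgroup.normalizer (T' : Set (SL2 F)))) = (Fintype.card F + 7) / 2 ∧
      ∀ g : SL2 F, g ∈ Subgroup.normalizer (T' : Set (SL2 F)) → g ∉ T' →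
        (g : M2 F) * (g : M2 F) = -1 := by
  have h2 := Cfsg.Agent.S2428.two_ne_zero_of_odd hodd
  obtain ⟨Y, hord, hTY, hns⟩ := exists_nonsplit (F := F) h2
  have hΔ := tr_sq_ne_four_of_not_isSquare Y hns
  have hNSY : NonScalar Y := nonScalar_of_tr Y hΔ
  have hcard : Nat.card (Tor Y) = Fintype.card F + 1 := by
    rw [hTY, Nat.card_zpowers, hord]
  have hYmem : Y ∈ Tor Y := Subgroup.mem_centralizer_singleton_iff.mpr rfl
  refine ⟨Tor Y, ?_, hcard, ?_, ?_, ?_, ?_, ?_, ?_⟩
  · exact (MulEquiv.subgroupCongr hTY).isCyclic.mpr inferInstance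
  · ext k
    rw [Subgroup.mem_centralizer_iff]
    constructor
    · intro hk
      rw [Subgroup.mem_centralizer_singleton_iff]
      exact (hk Y hYmem).symm
    · intro hk t ht
      rw [Subgroup.mem_centralizer_singleton_iff] at hk
      have ht' : t * Y = Y * t := Subgroup.mem_centralizer_singleton_iff.mp ht
      exact commute_of_commute Y t k hNSY ht' hk
  · intro g hg hg1 hgm1
    have hNSg : NonScalar g := by
      rw [nonScalar_iff]
      intro hc
      have hgg := Cfsg.Agent.S2475.sq_eq_one_of_mem_center g hc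
      rcases eq_one_or_zc_of_sq h2 g hgg with h | h
      · apply hg1; rw [h, Matrix.SpecialLinearGroup.coe_one]
      · apply hgm1; rw [h, coe_zc]
    rw [Subgroup.mem_centralizer_singleton_iff] at hg
    exact centralizer_eq_of_commute Y g hNSY hNSg hg
  · intro g hE
    exact exists_conj_mem_Tor h2 Y g hns (not_isSquare_of_noeig h2 g hE)
  · have := card_normalizer_centralizer h2 Y hΔ
    rw [this]
    congr 1
  · have := card_conjClasses_NTor h2 Y hΔ
    rw [hcard] at this
    show Nat.card (ConjClasses (NTor Y)) = (Fintype.card F + 7) / 2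
    omega
  · intro g hg hgT
    have := sq_of_not_mem h2 Y hΔ g hg hgT
    rwa [Matrix.SpecialLinearGroup.coe_mul] at this


/-- Let F be a finite field with q elements, q odd. Then SL₂ over F contains a cyclic subgroup T′ of order q + 1 (a non-split torus) with the following properties: T′ is its own centraliser, and indeed the centraliser of each element of T′ other than 1 and −1 is exactly T′; every element of SL₂ having no eigenvector in F² is conjugate to an element of T′; the normaliser of T′ has order 2(q + 1) and exactly (q + 7)/2 conjugacy classes; and every element of that normaliser outside T′ has square −1. -/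
theorem result {F : Type*} [Field F] [Fintype F] (hodd : Odd (Fintype.card F)) :
    ∃ T' : Subgroup (Matrix.SpecialLinearGroup (Fin 2) F), IsCyclic T' ∧ Nat.card T' = Fintype.card F + 1 ∧
      Subgroup.centralizer ((T' : Set (Matrix.SpecialLinearGroup (Fin 2) F))) = T' ∧
      (∀ g : Matrix.SpecialLinearGroup (Fin 2) F, g ∈ T' → (g : Matrix (Fin 2) (Fin 2) F) ≠ 1 → (g : Matrix (Fin 2) (Fin 2) F) ≠ -1 → Subgroup.centralizer ({g} : Set (Matrix.SpecialLinearGroup (Fin 2) F)) = T') ∧
      (∀ g : Matrix.SpecialLinearGroup (Fin 2) F, (∀ (c : F) (v : Fin 2 → F), v ≠ 0 → (g : Matrix (Fin 2) (Fin 2) F).mulVec v ≠ c • v) → ∃ h : Matrix.SpecialLinearGroup (Fin 2) F, h * g * h⁻¹ ∈ T') ∧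
      Nat.card (Subgroup.normalizer (T' : Set (Matrix.SpecialLinearGroup (Fin 2) F))) = 2 * (Fintype.card F + 1) ∧
      Nat.card (ConjClasses (Subgroup.normalizer (T' : Set (Matrix.SpecialLinearGroup (Fin 2) F)))) = (Fintype.card F + 7) / 2 ∧
      ∀ g : Matrix.SpecialLinearGroup (Fin 2) F, g ∈ Subgroup.normalizer (T' : Set (Matrix.SpecialLinearGroup (Fin 2) F)) → g ∉ T' → ((g * g) : Matrix (Fin 2) (Fin 2) F) = -1 := by
  exact main hodd

end Cfsg.Agent.S2429
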