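import Mathlib
import Cfsg.Statements.S2437

set_option autoImplicit false
open Cfsg

namespace Cfsg.Agent.S2437

open Matrix

section
variable {F : Type*} [Field F]

abbrev Bor (F : Type*) [Field F] : Subgroup (Matrix.SpecialLinearGroup (Fin 2) F) :=
  (Cfsg.upperTriangularGL 2 F).comap Matrix.SpecialLinearGroup.toGL

theorem mem_Bor (g : Matrix.SpecialLinearGroup (Fin 2) F) :
    g ∈ Bor F ↔ (g : Matrix (Fin 2) (Fin 2) F) 1 0 = 0 := by
  rw [Subgroup.mem_comap]
  change Matrix.BlockTriangular (g : Matrix (Fin 2) (Fin 2) F) id ↔ _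
  constructor
  · intro h
    exact h (i := 1) (j := 0) (by decide)
  · intro h i j hij
    fin_cases i <;> fin_cases j
    · exact absurd hij (by decide)
    · exact absurd hij (by decide)
    · exact h
    · exact absurd hij (by decide)

theorem Bor_zero (g : Bor F) : (g.1 : Matrix (Fin 2) (Fin 2) F) 1 0 = 0 := (mem_Bor g.1).1 g.2

theorem Bor_det (g : Bor F) :
    (g.1 : Matrix (Fin 2) (Fin 2) F) 0 0 * (g.1 : Matrix (Fin 2) (Fin 2) F) 1 1 = 1 := by
  have h1 := g.1.2
  rw [Matrix.det_fin_two, Bor_zero g] at h1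
  simpa using h1

def mkB (a : Fˣ) (b : F) : Bor F :=
  ⟨⟨!![(a : F), b; 0, ((a⁻¹ : Fˣ) : F)], by rw [Matrix.det_fin_two]; simp⟩,
    (mem_Bor _).2 (by simp)⟩

/-- parametrisation of the Borel subgroup -/
def eB : Bor F ≃ Fˣ × F where
  toFun g := (Units.mkOfMulEqOne ((g.1 : Matrix (Fin 2) (Fin 2) F) 0 0)
    ((g.1 : Matrix (Fin 2) (Fin 2) F) 1 1) (Bor_det g), (g.1 : Matrix (Fin 2) (Fin 2) F) 0 1)
  invFun t := mkB t.1 t.2
  left_inv g := by
    apply Subtype.ext
    apply Subtype.ext
    ext i j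
    fin_cases i <;> fin_cases j
    · simp [mkB]
    · simp [mkB]
    · simp [mkB, Bor_zero g]
    · simp [mkB]
      exact inv_eq_of_mul_eq_one_right (Bor_det g)
  right_inv t := by
    apply Prod.ext
    · apply Units.ext; simp [mkB]
    · simp [mkB]

theorem mkB_mul (a c : Fˣ) (b d : F) :
    mkB a b * mkB c d = mkB (a * c) ((a : F) * d + b * ((c⁻¹ : Fˣ) : F)) := by
  apply Subtype.ext
  apply Subtype.ext
  show !![(a : F), b; 0, ((a⁻¹ : Fˣ) : F)] * !![(c : F), d; 0, ((c⁻¹ : Fˣ) : F)] =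
    !![((a * c : Fˣ) : F), (a : F) * d + b * ((c⁻¹ : Fˣ) : F); 0, (((a * c)⁻¹ : Fˣ) : F)]
  rw [Matrix.mul_fin_two]
  simp [mul_comm]

theorem mkB_eq_iff (a c : Fˣ) (b d : F) : mkB a b = mkB c d ↔ a = c ∧ b = d := by
  constructor
  · intro h
    have := congrArg eB h
    have h1 : ∀ (a : Fˣ) (b : F), eB (mkB a b) = (a, b) := fun a b => eB.apply_symm_apply (a, b)
    rw [h1, h1] at this
    exact ⟨congrArg Prod.fst this, congrArg Prod.snd this⟩
  · rintro ⟨rfl, rfl⟩; rfl

theorem commute_mkB_iff (a c : Fˣ) (b d : F) :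
    Commute (mkB a b) (mkB c d) ↔
      d * ((a : F) - ((a⁻¹ : Fˣ) : F)) = b * ((c : F) - ((c⁻¹ : Fˣ) : F)) := by
  rw [commute_iff_eq, mkB_mul, mkB_mul, mkB_eq_iff]
  constructor
  · rintro ⟨_, h⟩
    linear_combination h
  · intro h
    exact ⟨mul_comm _ _, by linear_combination h⟩

/-- the linear condition -/
def Lc (ac : Fˣ × Fˣ) (bd : F × F) : Prop :=
  bd.2 * ((ac.1 : F) - ((ac.1⁻¹ : Fˣ) : F)) = bd.1 * ((ac.2 : F) - ((ac.2⁻¹ : Fˣ) : F))

def commEquiv : {p : Bor F × Bor F // Commute p.1 p.2} ≃ Σ ac : Fˣ × Fˣ, {bd : F × F // Lc ac bd} where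
  toFun p := ⟨((eB p.1.1).1, (eB p.1.2).1), ⟨((eB p.1.1).2, (eB p.1.2).2), by
    have h := p.2
    have h1 : p.1.1 = mkB (eB p.1.1).1 (eB p.1.1).2 := (eB.symm_apply_apply p.1.1).symm
    have h2 : p.1.2 = mkB (eB p.1.2).1 (eB p.1.2).2 := (eB.symm_apply_apply p.1.2).symm
    rw [h1, h2, commute_mkB_iff] at h
    exact h⟩⟩
  invFun s := ⟨(mkB s.1.1 s.2.1.1, mkB s.1.2 s.2.1.2), (commute_mkB_iff _ _ _ _).2 s.2.2⟩
  left_inv p := by
    apply Subtype.ext
    apply Prod.ext
    · exact eB.symm_apply_apply p.1.1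
    · exact eB.symm_apply_apply p.1.2
  right_inv s := by
    obtain ⟨⟨a, c⟩, ⟨⟨b, d⟩, h⟩⟩ := s
    have h1 : ∀ (a : Fˣ) (b : F), eB (mkB a b) = (a, b) := fun a b => eB.apply_symm_apply (a, b)
    apply Sigma.subtype_ext
    · simp only [h1]
    · simp only [h1]

theorem card_inner [Fintype F] [DecidableEq F] (α γ : F) :
    Fintype.card {bd : F × F // bd.2 * α = bd.1 * γ} =
      if α = 0 ∧ γ = 0 then Fintype.card F * Fintype.card F else Fintype.card F := by
  split_ifs with h
  · obtain ⟨rfl, rfl⟩ := h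
    rw [Fintype.card_congr (Equiv.subtypeUnivEquiv (fun bd => by simp)), Fintype.card_prod]
  · by_cases hα : α = 0
    · have hγ : γ ≠ 0 := fun hγ => h ⟨hα, hγ⟩
      subst hα
      refine Fintype.card_congr ⟨fun bd => bd.1.2, fun d => ⟨(0, d), by simp⟩, ?_, ?_⟩
      · rintro ⟨⟨b, d⟩, hbd⟩
        simp only [mul_zero] at hbd
        have hb : b = 0 := by
          rcases mul_eq_zero.1 hbd.symm with hb | hb
          · exact hb
          · exact absurd hb hγ
        subst hb
        rfl
      · intro d; rfl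
    · refine Fintype.card_congr ⟨fun bd => bd.1.1, fun b => ⟨(b, b * γ / α), by field_simp⟩, ?_, ?_⟩
      · rintro ⟨⟨b, d⟩, hbd⟩
        apply Subtype.ext
        apply Prod.ext
        · rfl
        · simp only at hbd ⊢
          rw [← hbd]; field_simp
      · intro b; rfl

theorem card_inner' [Fintype F] [DecidableEq F] (α γ : F) :
    Nat.card {bd : F × F // bd.2 * α = bd.1 * γ} =
      if α = 0 ∧ γ = 0 then Fintype.card F * Fintype.card F else Fintype.card F := by
  rw [Nat.card_eq_fintype_card]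
  convert card_inner α γ

end

/-- Over a finite field F with q elements, q odd, the upper triangular subgroup of SL₂ (a Borel subgroup, of order q(q − 1)) has exactly q + 3 conjugacy classes. -/
theorem result {F : Type*} [Field F] [Fintype F] (hodd : Odd (Fintype.card F)) :
    Nat.card (ConjClasses ((Cfsg.upperTriangularGL 2 F).comap Matrix.SpecialLinearGroup.toGL)) = Fintype.card F + 3 := by
  classical
  set q := Fintype.card F with hq
  set u := Fintype.card Fˣ with hu
  have hqu : q = u + 1 := by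
    rw [hu, Fintype.card_units]; have := Fintype.card_pos (α := F); omega
  have h2 : (2 : F) ≠ 0 := by
    intro h
    have hc : ringChar F = 2 := CharP.ringChar_of_prime_eq_zero Nat.prime_two h
    have := FiniteField.even_card_of_char_two hc
    rcases hodd with ⟨m, hm⟩; omega
  have hZ : (Finset.univ.filter (fun a : Fˣ => (a : F) - ((a⁻¹ : Fˣ) : F) = 0)).card = 2 := by
    have : (Finset.univ.filter (fun a : Fˣ => (a : F) - ((a⁻¹ : Fˣ) : F) = 0)) = {1, -1} := by
      ext a
      simp only [Finset.mem_filter, Finset.mem_univ, true_and, Finset.mem_insert,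
        Finset.mem_singleton]
      rw [← Units.inv_eq_self_iff, sub_eq_zero]
      constructor
      · intro h; exact Units.ext h.symm
      · intro h; rw [h]
    rw [this, Finset.card_pair]
    intro h
    have h3 := congrArg Units.val h
    simp only [Units.val_one, Units.val_neg] at h3
    apply h2; linear_combination h3
  have hB : Nat.card (Bor F) = u * q := by
    rw [Nat.card_congr eB, Nat.card_prod, Nat.card_eq_fintype_card, Nat.card_eq_fintype_card]
  have hcomm : Nat.card {p : Bor F × Bor F // Commute p.1 p.2} = u * u * q + 4 * (q * u) := by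
    rw [Nat.card_congr commEquiv, Nat.card_sigma]
    have : ∀ ac : Fˣ × Fˣ, Nat.card {bd : F × F // Lc ac bd} = q + (if ((ac.1 : F) - ((ac.1⁻¹ : Fˣ) : F) = 0 ∧ (ac.2 : F) - ((ac.2⁻¹ : Fˣ) : F) = 0) then q * u else 0) := by
      intro ac
      have := card_inner' ((ac.1 : F) - ((ac.1⁻¹ : Fˣ) : F)) ((ac.2 : F) - ((ac.2⁻¹ : Fˣ) : F))
      unfold Lc
      rw [this, ← hq]
      split_ifs
      · rw [hqu]; ring
      · rfl
    rw [Finset.sum_congr rfl (fun ac _ => this ac), Finset.sum_add_distrib, Finset.sum_const,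
      Finset.card_univ, Fintype.card_prod, ← Finset.sum_filter, Finset.sum_const,
      ← Finset.univ_product_univ,
      Finset.filter_product (s := Finset.univ) (t := Finset.univ)
        (fun a : Fˣ => (a : F) - ((a⁻¹ : Fˣ) : F) = 0) (fun a : Fˣ => (a : F) - ((a⁻¹ : Fˣ) : F) = 0),
      Finset.card_product, hZ]
    simp only [smul_eq_mul]; ring
  have h1 := card_comm_eq_card_conjClasses_mul_card (Bor F)
  rw [hcomm, hB] at h1
  have hpos : 0 < u * q := by
    have : 0 < q := Fintype.card_pos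
    have : 0 < u := Fintype.card_pos
    positivity
  have h3 : Nat.card (ConjClasses (Bor F)) * (u * q) = (q + 3) * (u * q) := by
    rw [← h1, hqu]; ring
  exact Nat.eq_of_mul_eq_mul_right hpos h3

end Cfsg.Agent.S2437
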