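import Cfsg.Statements.S2450
import Mathlib
import Cfsg.Agent.S0803

set_option autoImplicit false
open Cfsg

namespace Cfsg.Agent.S2450

open Cfsg.Agent.Lib.Helper12.SL2 Cfsg.Agent.Lib.Helper12.Quat
open Cfsg.Agent.S0807

variable {F : Type*} [Field F]

local notation "SL2" => Matrix.SpecialLinearGroup (Fin 2)
local notation "M2" => Matrix (Fin 2) (Fin 2)
local notation "PSL2" => Matrix.ProjectiveSpecialLinearGroup (Fin 2)

/-- equal images in `PSL₂` have equal traces up to sign -/
theorem tr_of_mkH_eq (u v : SL2 F) (h : (mkH u : PSL2 F) = mkH v) : tr v = tr u ∨ tr v = -tr u := by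
  have hz : u⁻¹ * v ∈ Subgroup.center (SL2 F) := QuotientGroup.eq.mp h
  obtain ⟨h01, h10, h00⟩ := (Cfsg.Agent.S2475.mem_center_iff' _).mp hz
  have hd := det_eq (u⁻¹ * v)
  rw [h01, h10, ← h00, mul_zero, sub_zero] at hd
  have hv : v = u * (u⁻¹ * v) := by group
  have htr : tr v = (u⁻¹ * v) 0 0 * tr u := by
    conv_lhs => rw [hv]
    unfold tr
    rw [mul_apply' u, mul_apply' u, h01, h10, ← h00]
    ring
  have hcases : (u⁻¹ * v) 0 0 = 1 ∨ (u⁻¹ * v) 0 0 = -1 := by
    have : ((u⁻¹ * v) 0 0 - 1) * ((u⁻¹ * v) 0 0 + 1) = 0 := by linear_combination hd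
    rcases mul_eq_zero.mp this with h | h
    · left; exact sub_eq_zero.mp h
    · right; exact eq_neg_of_add_eq_zero_left h
  rcases hcases with h | h
  · left; rw [htr, h, one_mul]
  · right; rw [htr, h]; ring

/-- conjugate images in `PSL₂` have equal traces up to sign -/
theorem tr_of_isConj (u v : SL2 F) (h : IsConj (mkH u : PSL2 F) (mkH v)) :
    tr v = tr u ∨ tr v = -tr u := by
  rw [isConj_iff] at h
  obtain ⟨g, hg⟩ := h
  obtain ⟨g', rfl⟩ := QuotientGroup.mk'_surjective _ g
  have : (mkH (g' * u * g'⁻¹) : PSL2 F) = mkH v := by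
    rw [map_mul, map_mul, map_inv]; exact hg
  have h1 := tr_of_mkH_eq _ _ this
  rw [tr_conj] at h1
  exact h1

/-- a non-scalar element has a conjugate with nonzero lower-left entry -/
theorem exists_conj_10 (A : SL2 F) (hA : NonScalar A) : ∃ g : SL2 F, (g * A * g⁻¹) 1 0 ≠ 0 := by
  by_cases h10 : A 1 0 = 0
  · by_cases h01 : A 0 1 = 0
    · have hne : A 0 0 ≠ A 1 1 := fun h => hA ⟨h01, h10, h⟩
      refine ⟨lo 1, ?_⟩
      rw [mul_apply', inv_00, inv_10, mul_apply', mul_apply']
      simp only [lo, mk_10, mk_11, h10, h01]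
      intro h
      apply hne
      linear_combination h
    · refine ⟨qi, ?_⟩
      rw [mul_apply', inv_00, inv_10, mul_apply', mul_apply']
      simp only [qi, mk_10, mk_11, h10]
      intro h
      apply h01
      linear_combination -h
  · exact ⟨1, by simpa using h10⟩

theorem up_inv (s : F) : (up s : SL2 F)⁻¹ = up (-s) := by
  rw [inv_eq_iff_mul_eq_one, ← up_add, ← up_zero]; congr 1; ring

/-- the trace of `(up s) A (up s)⁻¹ B` is a quadratic polynomial in `s` -/
theorem tr_quadratic (A B : SL2 F) (s : F) :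
    tr (up s * A * (up s)⁻¹ * B) = -(A 1 0 * B 1 0) * s ^ 2 +
      (A 1 0 * B 0 0 + (A 1 1 - A 0 0) * B 1 0 - A 1 0 * B 1 1) * s +
      (A 0 0 * B 0 0 + A 0 1 * B 1 0 + A 1 0 * B 0 1 + A 1 1 * B 1 1) := by
  rw [up_inv]
  unfold tr
  simp only [mul_apply', up, mk_00, mk_01, mk_10, mk_11]
  ring

open Polynomial in
/-- a quadratic has at most two roots -/
theorem card_quadratic_roots [Fintype F] [DecidableEq F] (α β γ : F) (hα : α ≠ 0) :
    (Finset.univ.filter (fun s : F => α * s ^ 2 + β * s + γ = 0)).card ≤ 2 := by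
  set P : F[X] := C α * X ^ 2 + C β * X + C γ with hP
  have hdeg : P.natDegree = 2 := natDegree_quadratic hα
  have hP0 : P ≠ 0 := by
    intro h
    rw [h, natDegree_zero] at hdeg
    norm_num at hdeg
  have hsub : Finset.univ.filter (fun s : F => α * s ^ 2 + β * s + γ = 0) ⊆ P.roots.toFinset := by
    intro s hs
    rw [Finset.mem_filter] at hs
    rw [Multiset.mem_toFinset, mem_roots hP0, IsRoot.def, hP]
    simp only [eval_add, eval_mul, eval_C, eval_pow, eval_X]
    exact hs.2
  calc _ ≤ P.roots.toFinset.card := Finset.card_le_card hsub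
    _ ≤ P.roots.card := Multiset.toFinset_card_le _
    _ ≤ P.natDegree := card_roots' P
    _ = 2 := hdeg

/-- a quadratic over a field with at least four elements takes two values that are not
equal up to sign -/
theorem quadratic_values [Fintype F] (h4 : 4 ≤ Fintype.card F) (α β γ τ : F) (hα : α ≠ 0)
    (hall : ∀ s : F, α * s ^ 2 + β * s + γ = τ ∨ α * s ^ 2 + β * s + γ = -τ) : False := by
  classical
  have h1 := card_quadratic_roots α β (γ - τ) hα
  have h2 := card_quadratic_roots α β (γ + τ) hα
  by_cases h2F : (2 : F) = 0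
  · have hneg : -τ = τ := by
      have : τ + τ = 0 := by linear_combination τ * h2F
      exact neg_eq_of_add_eq_zero_left this
    have : Finset.univ.filter (fun s : F => α * s ^ 2 + β * s + (γ - τ) = 0) = Finset.univ := by
      apply Finset.filter_true_of_mem
      intro s _
      rcases hall s with h | h
      · linear_combination h
      · rw [hneg] at h; linear_combination h
    rw [this, Finset.card_univ] at h1
    omega
  · have hodd := Cfsg.Agent.S2475.odd_card_of_two_ne_zero h2F
    have hcov : (Finset.univ : Finset F) ⊆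
        Finset.univ.filter (fun s : F => α * s ^ 2 + β * s + (γ - τ) = 0) ∪
        Finset.univ.filter (fun s : F => α * s ^ 2 + β * s + (γ + τ) = 0) := by
      intro s _
      rw [Finset.mem_union, Finset.mem_filter, Finset.mem_filter]
      rcases hall s with h | h
      · left; exact ⟨Finset.mem_univ _, by linear_combination h⟩
      · right; exact ⟨Finset.mem_univ _, by linear_combination h⟩
    have h3 := Finset.card_le_card hcov
    have h5 := Finset.card_union_le (Finset.univ.filter (fun s : F => α * s ^ 2 + β * s + (γ - τ) = 0))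
      (Finset.univ.filter (fun s : F => α * s ^ 2 + β * s + (γ + τ) = 0))
    rw [Finset.card_univ] at h3
    obtain ⟨k, hk⟩ := hodd
    omega

theorem nonScalar_of_mkH_ne_one (A : SL2 F) (h : (mkH A : PSL2 F) ≠ 1) : NonScalar A := by
  rw [nonScalar_iff]
  intro hc
  apply h
  exact (QuotientGroup.eq_one_iff A).mpr hc


/-- The Arad–Herzog conjecture for PSL(2,q): let F be a finite field with q ≥ 4 elements. For any two non-identity elements a, b of PSL(2,F), the set of products of a conjugate of a with a conjugate of b is not a single conjugacy class. -/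
theorem result {F : Type*} [Field F] [Fintype F] (h4 : 4 ≤ Fintype.card F)
    (a b : Matrix.ProjectiveSpecialLinearGroup (Fin 2) F) (ha : a ≠ 1) (hb : b ≠ 1) (c : Matrix.ProjectiveSpecialLinearGroup (Fin 2) F) :
    {g : Matrix.ProjectiveSpecialLinearGroup (Fin 2) F | ∃ u v : Matrix.ProjectiveSpecialLinearGroup (Fin 2) F, g = (u * a * u⁻¹) * (v * b * v⁻¹)} ≠ {g | IsConj c g} := by
  intro hset
  obtain ⟨A, rfl⟩ := QuotientGroup.mk'_surjective _ a
  obtain ⟨B, rfl⟩ := QuotientGroup.mk'_surjective _ b
  obtain ⟨C₀, rfl⟩ := QuotientGroup.mk'_surjective _ c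
  have hA := nonScalar_of_mkH_ne_one A ha
  have hB := nonScalar_of_mkH_ne_one B hb
  obtain ⟨gA, hgA⟩ := exists_conj_10 A hA
  obtain ⟨gB, hgB⟩ := exists_conj_10 B hB
  set A' := gA * A * gA⁻¹ with hA'
  set B' := gB * B * gB⁻¹ with hB'
  have key : ∀ s : F, tr (up s * A' * (up s)⁻¹ * B') = tr C₀ ∨
      tr (up s * A' * (up s)⁻¹ * B') = -tr C₀ := by
    intro s
    have hmem : (mkH (up s * A' * (up s)⁻¹ * B') : PSL2 F) ∈
        {g : PSL2 F | ∃ u v : PSL2 F, g = (u * mkH A * u⁻¹) * (v * mkH B * v⁻¹)} := by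
      refine ⟨mkH (up s * gA), mkH gB, ?_⟩
      rw [← map_inv, ← map_inv, ← map_mul, ← map_mul, ← map_mul, ← map_mul, ← map_mul]
      congr 1
      rw [hA', hB']
      group
    rw [hset] at hmem
    exact tr_of_isConj _ _ hmem
  simp only [tr_quadratic] at key
  exact quadratic_values h4 _ _ _ _ (neg_ne_zero.mpr (mul_ne_zero hgA hgB)) key

end Cfsg.Agent.S2450
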