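import Cfsg.Statements.S2455
import Mathlib
import Cfsg.Agent.S2450
import Cfsg.Agent.S2325

set_option autoImplicit false
open Cfsg

namespace Cfsg.Agent.S2455

open Cfsg.Agent.Lib.Helper12.SL2 Cfsg.Agent.Lib.Helper12.Quat
open Cfsg.Agent.S0807

variable {F : Type*} [Field F]

local notation "SL2" => Matrix.SpecialLinearGroup (Fin 2)
local notation "M2" => Matrix (Fin 2) (Fin 2)
local notation "PSL2" => Matrix.ProjectiveSpecialLinearGroup (Fin 2)

/-- from a square discriminant to a solution of the conic -/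
theorem quad_solve (h2 : (2 : F) ≠ 0) (t a b r d ε z w : F) (hr : r ≠ 0)
    (hD : ((a - d) * z + r * t) ^ 2 + 4 * r * (b * z ^ 2 - (a - ε) * t * z - r) = w ^ 2) :
    ∃ x y : F, x * (t - x) - y * z = 1 ∧ (t - x) * a - y * r - z * b + x * d = ε * t := by
  refine ⟨((a - d) * z + r * t + w) / (2 * r),
    ((t - ((a - d) * z + r * t + w) / (2 * r)) * a - z * b +
      ((a - d) * z + r * t + w) / (2 * r) * d - ε * t) / r, ?_, ?_⟩
  · field_simp
    linear_combination hD
  · field_simp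
    ring

/-- the discriminant is a square for a suitable sign and `z` -/
theorem disc_sq [Fintype F] (h2 : (2 : F) ≠ 0) (t a b r d : F) (hdet : a * d - b * r = 1)
    (ht : t ≠ 0) :
    ∃ ε : F, (ε = 1 ∨ ε = -1) ∧ ∃ z w : F,
      ((a - d) * z + r * t) ^ 2 + 4 * r * (b * z ^ 2 - (a - ε) * t * z - r) = w ^ 2 := by
  have hodd := Cfsg.Agent.S2475.odd_card_of_two_ne_zero h2
  have hq2 : Fintype.card F % 2 = 1 := Nat.odd_iff.mp hodd
  have h8 : (8 : F) ≠ 0 := by
    have : (8 : F) = 2 * 2 * 2 := by norm_num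
    rw [this]
    exact mul_ne_zero (mul_ne_zero h2 h2) h2
  by_cases hA : (a + d) ^ 2 - 4 = 0
  · have hcases : a + d = 2 ∨ a + d = -2 := by
      have : (a + d - 2) * (a + d + 2) = 0 := by linear_combination hA
      rcases mul_eq_zero.mp this with h | h
      · left; exact sub_eq_zero.mp h
      · right; exact eq_neg_of_add_eq_zero_left h
    rcases hcases with hg | hg
    · refine ⟨-1, Or.inr rfl, r * (t ^ 2 - 4) / (8 * t), 0, ?_⟩
      have hd : d = 2 - a := by linear_combination hg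
      subst hd
      field_simp
      linear_combination (-4 * r ^ 2 * (t ^ 2 - 4) ^ 2) * hdet
    · refine ⟨1, Or.inl rfl, -(r * (t ^ 2 - 4)) / (8 * t), 0, ?_⟩
      have hd : d = -2 - a := by linear_combination hg
      subst hd
      field_simp
      linear_combination (-4 * r ^ 2 * (t ^ 2 - 4) ^ 2) * hdet
  · refine ⟨1, Or.inl rfl, ?_⟩
    set A := (a + d) ^ 2 - 4 with hAdef
    set B := r * t * (2 - (a + d)) with hBdef
    set C := r ^ 2 * (t ^ 2 - 4) with hCdef
    obtain ⟨w, z', h⟩ := exists_sq_add_sq hq2 (1 : F) (-A) (C - B ^ 2 / A) one_ne_zero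
      (neg_ne_zero.mpr hA)
    refine ⟨z' - B / A, w, ?_⟩
    have hexp : ∀ z : F, ((a - d) * z + r * t) ^ 2 + 4 * r * (b * z ^ 2 - (a - 1) * t * z - r) =
        A * z ^ 2 + 2 * B * z + C := by
      intro z
      rw [hAdef, hBdef, hCdef]
      linear_combination (-4 * z ^ 2) * hdet
    rw [hexp]
    have : A * (z' - B / A) ^ 2 + 2 * B * (z' - B / A) + C = A * z' ^ 2 + (C - B ^ 2 / A) := by
      field_simp
      ring
    rw [this, ← h]
    ring


theorem tr_zc_mul (M : SL2 F) : tr (zc' * M) = -tr M := by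
  unfold tr
  simp only [mul_apply', zc', Cfsg.Agent.S2471.zc, mk_00, mk_01, mk_10, mk_11]
  ring

theorem tr_conditions [Fintype F] (p : ℕ) [Fact p.Prime] [CharP F p] (X : SL2 F)
    (hx2 : 2 < orderOf (mkH X : PSL2 F)) (hxp : ¬ p ∣ orderOf (mkH X : PSL2 F)) :
    tr X ≠ 0 ∧ tr X ^ 2 ≠ 4 := by
  constructor
  · intro h0
    have h1 := sq_eq_zc_of_tr_eq_zero X h0
    have h3 : (mkH X : PSL2 F) ^ 2 = 1 := by rw [pow_two, ← map_mul, h1, mkH_zc]
    have := orderOf_le_of_pow_eq_one (by norm_num) h3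
    omega
  · intro h4
    have hcen : X ^ p ∈ Subgroup.center (SL2 F) := by
      have : (tr X - 2) * (tr X + 2) = 0 := by linear_combination h4
      rcases mul_eq_zero.mp this with h | h
      · obtain ⟨v, hv, hfix⟩ := Cfsg.Agent.S2325.exists_fix_of_tr_two X (sub_eq_zero.mp h)
        exact Cfsg.Agent.S2475.pow_p_mem_center_of_eigen X v hv 1 (by ring)
          (by rw [one_smul]; exact hfix)
      · have htr : tr (zc' * X) = 2 := by rw [tr_zc_mul]; linear_combination -h
        obtain ⟨v, hv, hfix⟩ := Cfsg.Agent.S2325.exists_fix_of_tr_two (zc' * X) htr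
        have hX : X • v = (-1 : F) • v := by
          rw [mul_smul, Cfsg.Agent.S2475.zc_smul] at hfix
          calc X • v = (-1 : F) • ((-1 : F) • X • v) := by rw [smul_smul]; simp
            _ = (-1 : F) • v := by rw [hfix]
        exact Cfsg.Agent.S2475.pow_p_mem_center_of_eigen X v hv (-1) (by ring) hX
    have hdvd : orderOf (mkH X : PSL2 F) ∣ p := (Cfsg.Agent.S2475.orderOf_mk_dvd_iff X p).mpr hcen
    rcases (Nat.dvd_prime Fact.out).mp hdvd with h | h
    · omega
    · exact hxp (by rw [h])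

theorem exists_factor [Fintype F] (h2 : (2 : F) ≠ 0) (t : F) (ht : t ≠ 0) (G : SL2 F)
    (hG : G 1 0 ≠ 0) :
    ∃ Y Y' : SL2 F, tr Y = t ∧ tr Y' = t ∧ (mkH (Y * Y') : PSL2 F) = mkH G := by
  obtain ⟨ε, hε, z, w, hD⟩ := disc_sq h2 t (G 0 0) (G 0 1) (G 1 0) (G 1 1) (det_eq G) ht
  obtain ⟨x, y, hE1, hE2⟩ := quad_solve h2 t _ _ _ _ ε z w hG hD
  set Y : SL2 F := mk x y z (t - x) (by linear_combination hE1) with hY
  have htrY : tr Y = t := by
    unfold tr
    simp only [hY, mk_00, mk_11]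
    ring
  have htrinv : tr (Y⁻¹ * G) = ε * t := by
    unfold tr
    rw [mul_apply', mul_apply', inv_00, inv_01, inv_10, inv_11]
    simp only [hY, mk_00, mk_01, mk_10, mk_11]
    linear_combination hE2
  rcases hε with rfl | rfl
  · refine ⟨Y, Y⁻¹ * G, htrY, by rw [htrinv, one_mul], ?_⟩
    rw [mul_inv_cancel_left]
  · refine ⟨Y, Y⁻¹ * (zc' * G), htrY, ?_, ?_⟩
    · have : Y⁻¹ * (zc' * G) = zc' * (Y⁻¹ * G) := by
        rw [← mul_assoc, Cfsg.Agent.S2471.zc_central Y⁻¹, mul_assoc]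
      rw [this, tr_zc_mul, htrinv]
      ring
    · rw [mul_inv_cancel_left, map_mul, mkH_zc, one_mul]


/-- A strong covering result in the direction of Thompson's conjecture (non-identity elements) for PSL(2,q), q odd: let F be a finite field of odd characteristic p with at least 5 elements and let x ∈ PSL(2,F) have order greater than 2 and not divisible by p (so x is not unipotent). Then every non-identity element of PSL(2,F) is a product of two conjugates of x. -/
theorem result {F : Type*} [Field F] [Fintype F] (p : ℕ) [Fact p.Prime] [CharP F p] (hp : p ≠ 2) (h5 : 5 ≤ Fintype.card F)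
    (x : Matrix.ProjectiveSpecialLinearGroup (Fin 2) F) (hx2 : 2 < orderOf x) (hxp : ¬ p ∣ orderOf x) : ∀ g : Matrix.ProjectiveSpecialLinearGroup (Fin 2) F, g ≠ 1 → ∃ u v : Matrix.ProjectiveSpecialLinearGroup (Fin 2) F, g = (u * x * u⁻¹) * (v * x * v⁻¹) := by
  intro g hg
  have h2 : (2 : F) ≠ 0 := fun h => hp ((Cfsg.Agent.S2475.two_eq_zero_iff p).mp h)
  obtain ⟨X, rfl⟩ := QuotientGroup.mk'_surjective _ x
  obtain ⟨G, rfl⟩ := QuotientGroup.mk'_surjective _ g
  obtain ⟨ht0, ht4⟩ := tr_conditions p X hx2 hxp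
  have hG := Cfsg.Agent.S2450.nonScalar_of_mkH_ne_one G hg
  obtain ⟨k, hk⟩ := Cfsg.Agent.S2450.exists_conj_10 G hG
  obtain ⟨Y, Y', hY, hY', hprod⟩ := exists_factor h2 (tr X) ht0 (k * G * k⁻¹) hk
  obtain ⟨u, hu⟩ := isConj_iff.mp (isConj_of_tr_eq h2 X Y ht4 hY.symm)
  obtain ⟨v, hv⟩ := isConj_iff.mp (isConj_of_tr_eq h2 X Y' ht4 hY'.symm)
  refine ⟨mkH (k⁻¹ * u), mkH (k⁻¹ * v), ?_⟩
  calc (mkH G : PSL2 F) = mkH (k⁻¹ * (k * G * k⁻¹) * k) := by congr 1; group
    _ = mkH k⁻¹ * mkH (k * G * k⁻¹) * mkH k := by rw [map_mul, map_mul]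
    _ = mkH k⁻¹ * mkH (Y * Y') * mkH k := by rw [hprod]
    _ = mkH (k⁻¹ * (Y * Y') * k) := by simp only [map_mul]
    _ = mkH ((k⁻¹ * u) * X * (k⁻¹ * u)⁻¹ * ((k⁻¹ * v) * X * (k⁻¹ * v)⁻¹)) := by
        congr 1; rw [← hu, ← hv]; group
    _ = _ := by simp only [map_mul, map_inv]

end Cfsg.Agent.S2455
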