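import Cfsg.Statements.S2456
import Mathlib
import Cfsg.Agent.S2450
import Cfsg.Agent.S2507

set_option autoImplicit false
open Cfsg

namespace Cfsg.Agent.S2456

open Cfsg.Agent.Lib.Helper12.SL2 Cfsg.Agent.Lib.Helper12.Quat
open Cfsg.Agent.S0807

variable {F : Type*} [Field F]

local notation "SL2" => Matrix.SpecialLinearGroup (Fin 2)
local notation "M2" => Matrix (Fin 2) (Fin 2)
local notation "PSL2" => Matrix.ProjectiveSpecialLinearGroup (Fin 2)

theorem nonScalar_of_tr_ne_zero (h2 : (2 : F) = 0) (M : SL2 F) (ht : tr M ≠ 0) : NonScalar M := by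
  rintro ⟨-, -, h00⟩
  apply ht
  unfold tr
  rw [h00]
  linear_combination M 1 1 * h2

theorem tr_ne_zero_of_order (X : SL2 F) (hx2 : 2 < orderOf (mkH X : PSL2 F)) : tr X ≠ 0 := by
  intro h0
  have h1 := sq_eq_zc_of_tr_eq_zero X h0
  have h3 : (mkH X : PSL2 F) ^ 2 = 1 := by rw [pow_two, ← map_mul, h1, mkH_zc]
  have := orderOf_le_of_pow_eq_one (by norm_num) h3
  omega

/-- an element whose order does not divide `q + 1` has an eigenvalue in `F` -/
theorem exists_eigenvalue [Fintype F] (h2 : (2 : F) = 0) (X : SL2 F)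
    (hxq : ¬ orderOf (mkH X : PSL2 F) ∣ Fintype.card F + 1) :
    ∃ c : F, c * c - tr X * c + 1 = 0 := by
  by_contra hno
  apply hxq
  have hE : ∀ (c : F) (v : Fin 2 → F), v ≠ 0 → (X : M2 F).mulVec v ≠ c • v := by
    intro c v hv hcv
    exact hno ⟨c, Cfsg.Agent.S2475.trace_of_eigen X v hv c hcv⟩
  have hcard := card_Tor_of_noeig_char_two h2 X hE
  have hXT : X ∈ Tor X := Subgroup.mem_centralizer_singleton_iff.mpr rfl
  have hpow : X ^ (Fintype.card F + 1) = 1 := by
    have h1 : (⟨X, hXT⟩ : Tor X) ^ (Fintype.card F + 1) = 1 := by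
      rw [← hcard]; exact pow_card_eq_one'
    simpa using congrArg Subtype.val h1
  rw [orderOf_dvd_iff_pow_eq_one, ← map_pow, hpow, map_one]

/-- factorization of `G` as a product of two elements of trace `t` when `T² - tT + 1` splits -/
theorem exists_factor (t c : F) (hc : c * c - t * c + 1 = 0) (G : SL2 F) (hG : G 1 0 ≠ 0) :
    ∃ Y Y' : SL2 F, tr Y = t ∧ tr Y' = t ∧ Y * Y' = G := by
  set y : F := ((t - c) * G 0 0 + c * G 1 1 - t) / G 1 0 with hy
  set Y : SL2 F := mk c y 0 (t - c) (by linear_combination -hc) with hY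
  refine ⟨Y, Y⁻¹ * G, ?_, ?_, by rw [mul_inv_cancel_left]⟩
  · unfold tr
    simp only [hY, mk_00, mk_11]
    ring
  · unfold tr
    rw [mul_apply', mul_apply', inv_00, inv_01, inv_10, inv_11]
    simp only [hY, mk_00, mk_01, mk_10, mk_11]
    rw [hy]
    field_simp
    ring


/-- A strong covering result in the direction of Thompson's conjecture (non-identity elements) for PSL(2,q), q even: let F be a finite field of characteristic 2 with q ≥ 4 elements and let x ∈ PSL(2,F) have order greater than 2 and not dividing q + 1. Then every non-identity element of PSL(2,F) is a product of two conjugates of x. -/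
theorem result {F : Type*} [Field F] [Fintype F] [CharP F 2] (h4 : 4 ≤ Fintype.card F)
    (x : Matrix.ProjectiveSpecialLinearGroup (Fin 2) F) (hx2 : 2 < orderOf x) (hxq : ¬ orderOf x ∣ Fintype.card F + 1) : ∀ g : Matrix.ProjectiveSpecialLinearGroup (Fin 2) F, g ≠ 1 → ∃ u v : Matrix.ProjectiveSpecialLinearGroup (Fin 2) F, g = (u * x * u⁻¹) * (v * x * v⁻¹) := by
  intro g hg
  have h2 : (2 : F) = 0 := by
    have := CharP.cast_eq_zero F 2
    exact_mod_cast this
  obtain ⟨X, rfl⟩ := QuotientGroup.mk'_surjective _ x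
  obtain ⟨G, rfl⟩ := QuotientGroup.mk'_surjective _ g
  have ht0 := tr_ne_zero_of_order X hx2
  obtain ⟨c, hc⟩ := exists_eigenvalue h2 X hxq
  have hG := Cfsg.Agent.S2450.nonScalar_of_mkH_ne_one G hg
  obtain ⟨k, hk⟩ := Cfsg.Agent.S2450.exists_conj_10 G hG
  obtain ⟨Y, Y', hY, hY', hprod⟩ := exists_factor (tr X) c hc (k * G * k⁻¹) hk
  have hXns := nonScalar_of_tr_ne_zero h2 X ht0
  have hYns := nonScalar_of_tr_ne_zero h2 Y (by rw [hY]; exact ht0)
  have hY'ns := nonScalar_of_tr_ne_zero h2 Y' (by rw [hY']; exact ht0)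
  obtain ⟨u, hu⟩ := isConj_iff.mp
    (Cfsg.Agent.S2507.isConj_of_tr_eq_char_two h2 X Y hXns hYns hY.symm)
  obtain ⟨v, hv⟩ := isConj_iff.mp
    (Cfsg.Agent.S2507.isConj_of_tr_eq_char_two h2 X Y' hXns hY'ns hY'.symm)
  refine ⟨mkH (k⁻¹ * u), mkH (k⁻¹ * v), ?_⟩
  calc (mkH G : PSL2 F) = mkH (k⁻¹ * (k * G * k⁻¹) * k) := by congr 1; group
    _ = mkH (k⁻¹ * (Y * Y') * k) := by rw [hprod]
    _ = mkH ((k⁻¹ * u) * X * (k⁻¹ * u)⁻¹ * ((k⁻¹ * v) * X * (k⁻¹ * v)⁻¹)) := by
        congr 1; rw [← hu, ← hv]; group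
    _ = _ := by simp only [map_mul, map_inv]

end Cfsg.Agent.S2456
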