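import Mathlib
import Cfsg.Statements.S2466
import Cfsg.Agent.Lib.Helper18.CycleTypeAux

set_option autoImplicit false
open Cfsg

namespace Cfsg.Agent.S2466

open Equiv.Perm Cfsg.Agent.Lib.Helper18.CycleTypeAux

/-- Adjacency of odd primes in the prime graph of the alternating groups: let r ≠ s be odd primes at most n. The alternating group of degree n has an element of order r·s if and only if r + s ≤ n. -/
theorem result (n r s : ℕ) (hr : r.Prime) (hs : s.Prime) (hr2 : r ≠ 2) (hs2 : s ≠ 2) (hrs : r ≠ s) (hrn : r ≤ n) (hsn : s ≤ n) :
    (r * s ∈ Set.range (orderOf : alternatingGroup (Fin n) → ℕ)) ↔ r + s ≤ n := by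
  have hrodd : Odd r := hr.odd_of_ne_two hr2
  have hsodd : Odd s := hs.odd_of_ne_two hs2
  have hcop : Nat.Coprime r s := (Nat.coprime_primes hr hs).mpr hrs
  constructor
  · rintro ⟨g, hg⟩
    rw [← Subgroup.orderOf_coe, ← lcm_cycleType] at hg
    set m := (g : Equiv.Perm (Fin n)).cycleType with hm
    obtain ⟨a, ha, hra⟩ := exists_dvd_of_prime_dvd_lcm hr m (by rw [hg]; exact dvd_mul_right r s)
    obtain ⟨b, hb, hsb⟩ := exists_dvd_of_prime_dvd_lcm hs m (by rw [hg]; exact dvd_mul_left s r)
    have hsum : m.sum ≤ n := by
      have := sum_cycleType_le (g : Equiv.Perm (Fin n))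
      simpa using this
    have hapos : 0 < a := by
      have := two_le_of_mem_cycleType ha; omega
    have hbpos : 0 < b := by
      have := two_le_of_mem_cycleType hb; omega
    by_cases hab : a = b
    · subst hab
      have h1 : r * s ∣ a := hcop.mul_dvd_of_dvd_of_dvd hra hsb
      have h2 : r * s ≤ a := Nat.le_of_dvd hapos h1
      have h3 := le_sum_of_mem ha
      have hr2' := hr.two_le
      have hs2' := hs.two_le
      have h4 : r + s ≤ r * s := by nlinarith
      omega
    · have h1 := add_le_sum_of_mem_of_ne ha hb hab
      have h2 : r ≤ a := Nat.le_of_dvd hapos hra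
      have h3 : s ≤ b := Nat.le_of_dvd hbpos hsb
      omega
  · intro h
    have hex : ∃ g : Equiv.Perm (Fin n), g.cycleType = {r, s} := by
      rw [exists_with_cycleType_iff]
      constructor
      · simpa using h
      · intro a ha
        simp only [Multiset.insert_eq_cons, Multiset.mem_cons, Multiset.mem_singleton] at ha
        rcases ha with rfl | rfl
        · exact hr.two_le
        · exact hs.two_le
    obtain ⟨g, hg⟩ := hex
    have hsign : sign g = 1 := by
      rw [sign_of_cycleType, hg]
      simp only [Multiset.insert_eq_cons, Multiset.sum_cons, Multiset.sum_singleton,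
        Multiset.card_cons, Multiset.card_singleton]
      have : Even (r + s + (1 + 1)) := by
        have := hrodd.add_odd hsodd
        exact this.add (by decide)
      exact this.neg_one_pow
    refine ⟨⟨g, mem_alternatingGroup.mpr hsign⟩, ?_⟩
    rw [← Subgroup.orderOf_coe]
    show orderOf g = r * s
    rw [← lcm_cycleType, hg]
    simp only [Multiset.insert_eq_cons, Multiset.lcm_cons, Multiset.lcm_singleton, normalize_eq]
    exact hcop.lcm_eq_mul

end Cfsg.Agent.S2466
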