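import Mathlib
import Cfsg.Statements.S2467
import Cfsg.Agent.Lib.Helper18.CycleTypeAux

set_option autoImplicit false
open Cfsg

namespace Cfsg.Agent.S2467

open Equiv.Perm Cfsg.Agent.Lib.Helper18.CycleTypeAux

/-- Adjacency of 2 and an odd prime in the prime graph of the alternating groups: let r be an odd prime at most n, with n ≥ 4. The alternating group of degree n has an element of order 2r if and only if r + 4 ≤ n. -/
theorem result (n r : ℕ) (hn : 4 ≤ n) (hr : r.Prime) (hr2 : r ≠ 2) (hrn : r ≤ n) :
    (2 * r ∈ Set.range (orderOf : alternatingGroup (Fin n) → ℕ)) ↔ r + 4 ≤ n := by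
  have hrodd : Odd r := hr.odd_of_ne_two hr2
  have hr3 : 3 ≤ r := by
    have := hr.two_le
    omega
  have hcop : Nat.Coprime 2 r := (Nat.coprime_primes Nat.prime_two hr).mpr (Ne.symm hr2)
  constructor
  · rintro ⟨g, hg⟩
    rw [← Subgroup.orderOf_coe, ← lcm_cycleType] at hg
    have hsign : sign (g : Equiv.Perm (Fin n)) = 1 := mem_alternatingGroup.mp g.2
    rw [sign_of_cycleType', prod_sign_eq] at hsign
    set m := (g : Equiv.Perm (Fin n)).cycleType with hm
    have hsum : m.sum ≤ n := by
      have := sum_cycleType_le (g : Equiv.Perm (Fin n))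
      simpa using this
    obtain ⟨a, ha, hra⟩ := exists_dvd_of_prime_dvd_lcm hr m (by rw [hg]; exact dvd_mul_left r 2)
    obtain ⟨b, hb, h2b⟩ := exists_dvd_of_prime_dvd_lcm Nat.prime_two m
      (by rw [hg]; exact dvd_mul_right 2 r)
    have hbeven : Even b := even_iff_two_dvd.mpr h2b
    -- a second even member
    obtain ⟨m', hm'⟩ := Multiset.exists_cons_of_mem hb
    rw [hm', Multiset.filter_cons_of_pos _ hbeven, Multiset.card_cons] at hsign
    have hodd : Odd (Multiset.card (Multiset.filter (fun n => Even n) m')) := by
      by_contra hne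
      rw [Nat.not_odd_iff_even] at hne
      have : Odd (Multiset.card (Multiset.filter (fun n => Even n) m') + 1) := hne.add_one
      rw [this.neg_one_pow] at hsign
      exact absurd hsign (by decide)
    have hpos : 0 < Multiset.card (Multiset.filter (fun n => Even n) m') := hodd.pos
    obtain ⟨b', hb'⟩ := Multiset.card_pos_iff_exists_mem.mp hpos
    rw [Multiset.mem_filter] at hb'
    obtain ⟨hb'm, hb'even⟩ := hb'
    obtain ⟨m'', hm''⟩ := Multiset.exists_cons_of_mem hb'm
    have hmm : m = b ::ₘ b' ::ₘ m'' := by rw [hm', hm'']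
    have hb2 : 2 ≤ b := two_le_of_mem_cycleType hb
    have hb'2 : 2 ≤ b' := by
      apply two_le_of_mem_cycleType (σ := (g : Equiv.Perm (Fin n)))
      rw [← hm, hm']
      exact Multiset.mem_cons_of_mem hb'm
    have hapos : 0 < a := by
      have := two_le_of_mem_cycleType ha; omega
    have hsumeq : m.sum = b + (b' + m''.sum) := by
      rw [hmm, Multiset.sum_cons, Multiset.sum_cons]
    rw [hmm] at ha
    rcases Multiset.mem_cons.mp ha with h | h
    · -- a = b
      subst h
      have h1 : 2 * r ∣ a := hcop.mul_dvd_of_dvd_of_dvd h2b hra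
      have h2 : 2 * r ≤ a := Nat.le_of_dvd hapos h1
      omega
    · rcases Multiset.mem_cons.mp h with h | h
      · subst h
        have h1 : 2 * r ∣ a := hcop.mul_dvd_of_dvd_of_dvd (even_iff_two_dvd.mp hb'even) hra
        have h2 : 2 * r ≤ a := Nat.le_of_dvd hapos h1
        omega
      · have h1 := le_sum_of_mem h
        have h2 : r ≤ a := Nat.le_of_dvd hapos hra
        omega
  · intro h
    have hex : ∃ g : Equiv.Perm (Fin n), g.cycleType = {r, 2, 2} := by
      rw [exists_with_cycleType_iff]
      constructor
      · simp only [Multiset.insert_eq_cons, Multiset.sum_cons, Multiset.sum_singleton,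
          Fintype.card_fin]
        omega
      · intro a ha
        simp only [Multiset.insert_eq_cons, Multiset.mem_cons, Multiset.mem_singleton] at ha
        rcases ha with rfl | rfl | rfl
        · exact hr.two_le
        · exact le_refl 2
        · exact le_refl 2
    obtain ⟨g, hg⟩ := hex
    have hsign : sign g = 1 := by
      rw [sign_of_cycleType, hg]
      simp only [Multiset.insert_eq_cons, Multiset.sum_cons, Multiset.sum_singleton,
        Multiset.card_cons, Multiset.card_singleton]
      have : Even (r + (2 + 2) + (1 + 1 + 1)) := by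
        have h7 : Odd (2 + 2 + (1 + 1 + 1)) := by decide
        have := hrodd.add_odd h7
        rw [← add_assoc] at this
        exact this
      exact this.neg_one_pow
    refine ⟨⟨g, mem_alternatingGroup.mpr hsign⟩, ?_⟩
    rw [← Subgroup.orderOf_coe]
    show orderOf g = 2 * r
    rw [← lcm_cycleType, hg]
    simp only [Multiset.insert_eq_cons, Multiset.lcm_cons, Multiset.lcm_singleton, normalize_eq]
    rw [lcm_same, normalize_eq, lcm_comm]
    exact hcop.lcm_eq_mul

end Cfsg.Agent.S2467
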