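import Cfsg.Statements.S2468
import Mathlib
import Cfsg.Agent.S2470
import Cfsg.Agent.S0242
import Cfsg.Agent.Lib.Helper19.PrimeGraphPSL7
import Cfsg.Agent.Lib.Helper19.PrimeGraphPSL10

set_option autoImplicit false
open Cfsg

namespace Cfsg.Agent.S2468

open Cfsg.Agent.Lib.Helper19.PrimeGraphPSL Matrix

section Aux

variable {F : Type*} [Field F] [Fintype F] {n : ℕ}

lemma good_order {t : ℕ} (A : Matrix (Fin n) (Fin n) F) (hA : Good t A) :
    ∃ x : Matrix.ProjectiveSpecialLinearGroup (Fin n) F, orderOf x = t := by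
  obtain ⟨h1, h2, h3⟩ := hA
  let X : Matrix.SpecialLinearGroup (Fin n) F := ⟨A, h1⟩
  refine ⟨QuotientGroup.mk X, ?_⟩
  apply Cfsg.Agent.S2470.orderOf_mk_eq
  intro j
  rw [Cfsg.Agent.S2364.center_iff, Matrix.SpecialLinearGroup.coe_pow]
  constructor
  · rintro ⟨c, hc⟩
    exact h3 j c hc
  · rintro ⟨u, rfl⟩
    refine ⟨1, ?_⟩
    show A ^ (t * u) = (1 : F) • 1
    rw [pow_mul, h2, one_pow, one_smul]

/-- A prime dividing the order of `PSL_n(q)`, not dividing `q`, divides some `q^i - 1`, `1 ≤ i ≤ n`. -/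
lemma exists_dvd_of_dvd_card (hn : 1 ≤ n) (s : ℕ) (hs : s.Prime)
    (hsq : ¬ s ∣ Fintype.card F)
    (hsG : s ∣ Nat.card (Matrix.ProjectiveSpecialLinearGroup (Fin n) F)) :
    ∃ i, 1 ≤ i ∧ i ≤ n ∧ s ∣ Fintype.card F ^ i - 1 := by
  set q := Fintype.card F with hq
  have h1 : s ∣ Nat.card (Matrix.SpecialLinearGroup (Fin n) F) := by
    rw [Subgroup.card_eq_card_quotient_mul_card_subgroup
      (Subgroup.center (Matrix.SpecialLinearGroup (Fin n) F))]
    exact Dvd.dvd.mul_right hsG _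
  have h2 := Cfsg.Agent.S0242.result (F := F) (q := q) rfl n hn
  have h3 : s ∣ ∏ i : Fin n, (q ^ n - q ^ (i : ℕ)) := by
    rw [← h2]
    exact Dvd.dvd.mul_left h1 _
  obtain ⟨i, -, hi⟩ := (Prime.dvd_finset_prod_iff hs.prime _).1 h3
  have hq1 : 1 ≤ q := Fintype.card_pos
  have hfac : q ^ n - q ^ (i : ℕ) = q ^ (i : ℕ) * (q ^ (n - i) - 1) := by
    rw [Nat.mul_sub, mul_one, ← pow_add]
    congr 2
    have := i.2
    omega
  rw [hfac] at hi
  refine ⟨n - i, by have := i.2; omega, by omega, ?_⟩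
  rcases hs.dvd_mul.1 hi with h | h
  · exact absurd (hs.dvd_of_dvd_pow h) hsq
  · exact h

end Aux

/-- Adjacency of two odd primes in the prime graph of PSL(n,q): let F be a finite field of characteristic p with q elements, n ≥ 2 with PSL(n,F) simple, and let r ≠ s be odd primes different from p dividing the order of PSL(n,F). Let k and l be the multiplicative orders of q modulo r and modulo s, and suppose 2 ≤ k ≤ l. Then PSL(n,F) has NO element of order r·s if and only if k + l > n and k does not divide l. -/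
theorem result {F : Type*} [Field F] [Fintype F] (p : ℕ) [Fact p.Prime] [CharP F p] (n : ℕ) (hn : 2 ≤ n) (hsmall : n = 2 → 4 ≤ Fintype.card F)
    (r s : ℕ) (hr : r.Prime) (hs : s.Prime) (hr2 : r ≠ 2) (hs2 : s ≠ 2) (hrp : r ≠ p) (hsp : s ≠ p) (hrs : r ≠ s)
    (hrG : r ∣ Nat.card (Matrix.ProjectiveSpecialLinearGroup (Fin n) F)) (hsG : s ∣ Nat.card (Matrix.ProjectiveSpecialLinearGroup (Fin n) F))
    (k l : ℕ) (hk : k = orderOf ((Fintype.card F : ℕ) : ZMod r)) (hl : l = orderOf ((Fintype.card F : ℕ) : ZMod s))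
    (h2k : 2 ≤ k) (hkl : k ≤ l) :
    (r * s ∉ Set.range (orderOf : Matrix.ProjectiveSpecialLinearGroup (Fin n) F → ℕ)) ↔ (n < k + l ∧ ¬ k ∣ l) := by
  classical
  have hp : p.Prime := Fact.out
  haveI : Fact r.Prime := ⟨hr⟩
  haveI : Fact s.Prime := ⟨hs⟩
  set q := Fintype.card F with hq
  have hq2 : 2 ≤ q := Fintype.one_lt_card
  have hnotdvd : ∀ t : ℕ, t.Prime → t ≠ p → ¬ t ∣ q := by
    intro t ht htp h
    obtain ⟨e, -, he⟩ := FiniteField.card F p
    rw [hq, he] at h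
    exact htp ((Nat.prime_dvd_prime_iff_eq ht hp).1 (ht.dvd_of_dvd_pow h))
  have hrq := hnotdvd r hr hrp
  have hsq := hnotdvd s hs hsp
  obtain ⟨-, hkdvd⟩ := Cfsg.Agent.S2470.k_facts r q hrq (by omega)
  obtain ⟨-, hldvd⟩ := Cfsg.Agent.S2470.k_facts s q hsq (by omega)
  rw [← hk] at hkdvd
  rw [← hl] at hldvd
  have hr1 : ¬ r ∣ q - 1 := by
    intro h
    have h1 := (hkdvd 1).1 (by rwa [pow_one])
    have := Nat.le_of_dvd (by norm_num) h1
    omega
  have hs1 : ¬ s ∣ q - 1 := by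
    intro h
    have h1 := (hldvd 1).1 (by rwa [pow_one])
    have := Nat.le_of_dvd (by norm_num) h1
    omega
  have hcr : Nat.Coprime r (q - 1) := (Nat.Prime.coprime_iff_not_dvd hr).2 hr1
  have hcs : Nat.Coprime s (q - 1) := (Nat.Prime.coprime_iff_not_dvd hs).2 hs1
  have hcrs : Nat.Coprime r s := (Nat.coprime_primes hr hs).2 hrs
  constructor
  · intro hno
    by_contra hR
    apply hno
    have hR' : k + l ≤ n ∨ k ∣ l := by
      by_contra hcon
      push Not at hcon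
      exact hR ⟨by omega, hcon.2⟩
    rcases hR' with hR' | hR'
    · obtain ⟨A, hA⟩ := good_singer (F := F) p k (by omega) r hr.pos hcr ((hkdvd k).2 dvd_rfl)
      obtain ⟨B, hB⟩ := good_singer (F := F) p l (by omega) s hs.pos hcs ((hldvd l).2 dvd_rfl)
      obtain ⟨t', rfl⟩ : ∃ t', n = k + l + t' := ⟨n - (k + l), by omega⟩
      obtain ⟨x, hx⟩ := good_order _ (good_pad (b := t') (good_prod hcrs hA hB))
      exact ⟨x, hx⟩
    · obtain ⟨i, hi1, hin, hi⟩ := exists_dvd_of_dvd_card (F := F) (by omega) s hs hsq hsG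
      have hln : l ≤ n := le_trans (Nat.le_of_dvd (by omega) ((hldvd i).1 hi)) hin
      have hdvd : r * s ∣ q ^ l - 1 :=
        hcrs.mul_dvd_of_dvd_of_dvd ((hkdvd l).2 hR') ((hldvd l).2 dvd_rfl)
      obtain ⟨A, hA⟩ := good_singer (F := F) p l (by omega) (r * s)
        (Nat.mul_pos hr.pos hs.pos) (Nat.Coprime.mul_left hcr hcs) hdvd
      obtain ⟨t', rfl⟩ : ∃ t', n = l + t' := ⟨n - l, by omega⟩
      obtain ⟨x, hx⟩ := good_order _ (good_pad (b := t') hA)
      exact ⟨x, hx⟩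
  · rintro ⟨hnkl, hndvd⟩ ⟨x, hx⟩
    have hx' : orderOf x = r * s := hx
    obtain ⟨X, hX⟩ := QuotientGroup.mk_surjective x
    have hXj : ∀ j, (∃ c : F, (X : Matrix (Fin n) (Fin n) F) ^ j = c • 1) ↔ r * s ∣ j := by
      intro j
      rw [← hx', orderOf_dvd_iff_pow_eq_one, ← hX, ← QuotientGroup.mk_pow,
        QuotientGroup.eq_one_iff, Cfsg.Agent.S2364.center_iff, Matrix.SpecialLinearGroup.coe_pow]
    exact core_rs (F := F) p (by omega) r s hr hs hrp hsp k l hkdvd hldvd h2k hkl hnkl hndvd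
      (X : Matrix (Fin n) (Fin n) F) X.2 hXj

end Cfsg.Agent.S2468
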