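import Cfsg.Statements.S2469
import Mathlib
import Cfsg.Agent.S2470
import Cfsg.Agent.Lib.Helper19.PrimeGraphPSp6
import Cfsg.Agent.Lib.Helper19.PrimeGraphPSp8
import Cfsg.Agent.Lib.Helper19.PrimeGraphPSp9

set_option autoImplicit false
open Cfsg

namespace Cfsg.Agent.S2469

open Cfsg.Agent.Lib.Helper19.PrimeGraphPSL Cfsg.Agent.Lib.Helper27.SympTransv

section Aux

/-- For even `k = 2 η` the prime divides `q^η + 1`. -/
lemma dvd_plus (r q k η : ℕ) (hr : r.Prime) (hq1 : 1 ≤ q) (hk : ∀ j, r ∣ q ^ j - 1 ↔ k ∣ j)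
    (hk0 : 0 < k) (hη : 2 * η = k) : r ∣ q ^ η + 1 := by
  have hqη : 1 ≤ q ^ η := Nat.one_le_pow _ _ hq1
  have h1 : r ∣ q ^ k - 1 := (hk k).2 dvd_rfl
  have hfac : q ^ k - 1 = (q ^ η - 1) * (q ^ η + 1) := by
    rw [← hη]
    have h3 : q ^ (2 * η) = q ^ η * q ^ η := by rw [two_mul, pow_add]
    rw [h3]
    zify [hqη, (by nlinarith : 1 ≤ q ^ η * q ^ η)]
    ring
  rw [hfac] at h1
  rcases hr.dvd_mul.1 h1 with h | h
  · exfalso
    have := Nat.le_of_dvd (by omega) ((hk η).1 h)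
    omega
  · exact h

/-- A prime dividing the order of `PSp_{2n}(q)` and not `q` divides some `q^(2i) - 1`. -/
lemma exists_dvd_of_dvd_card {F : Type*} [Field F] [Fintype F] {n : ℕ} (s : ℕ) (hs : s.Prime)
    (hsq : ¬ s ∣ Fintype.card F) (hsG : s ∣ Nat.card (Cfsg.PSp n F)) :
    ∃ i, 1 ≤ i ∧ i ≤ n ∧ s ∣ Fintype.card F ^ (2 * i) - 1 := by
  have h1 : s ∣ Nat.card (Matrix.symplecticGroup (Fin n) F) := by
    rw [Subgroup.card_eq_card_quotient_mul_card_subgroup
      (Subgroup.center (Matrix.symplecticGroup (Fin n) F))]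
    exact Dvd.dvd.mul_right hsG _
  rw [card_symplecticGroup (F := F) (q := Fintype.card F) rfl n] at h1
  rcases hs.dvd_mul.1 h1 with h | h
  · exact absurd (hs.dvd_of_dvd_pow h) hsq
  · obtain ⟨i, hi, hdvd⟩ := (Prime.dvd_finset_prod_iff hs.prime _).1 h
    rw [Finset.mem_range] at hi
    exact ⟨i + 1, by omega, by omega, hdvd⟩

end Aux

/-- Adjacency of two odd primes in the prime graph of PSp(2n,q): let F be a finite field of characteristic p with q elements, n ≥ 2 with PSp(2n,F) simple, and let r ≠ s be odd primes different from p dividing the order of PSp(2n,F). Let k, l be the multiplicative orders of q modulo r and s, put η(m) = m for odd m and η(m) = m/2 for even m, and suppose η(k) ≤ η(l). Then PSp(2n,F) has NO element of order r·s if and only if η(k) + η(l) > n and l/k is not an odd integer. -/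
theorem result {F : Type*} [Field F] [Fintype F] (p : ℕ) [Fact p.Prime] [CharP F p] (n : ℕ) (hn : 2 ≤ n) (hsmall : n = 2 → 3 ≤ Fintype.card F)
    (r s : ℕ) (hr : r.Prime) (hs : s.Prime) (hr2 : r ≠ 2) (hs2 : s ≠ 2) (hrp : r ≠ p) (hsp : s ≠ p) (hrs : r ≠ s)
    (hrG : r ∣ Nat.card (Cfsg.PSp n F)) (hsG : s ∣ Nat.card (Cfsg.PSp n F))
    (k l ηk ηl : ℕ) (hk : k = orderOf ((Fintype.card F : ℕ) : ZMod r)) (hl : l = orderOf ((Fintype.card F : ℕ) : ZMod s))
    (hηk : (Odd k ∧ ηk = k) ∨ (Even k ∧ 2 * ηk = k)) (hηl : (Odd l ∧ ηl = l) ∨ (Even l ∧ 2 * ηl = l)) (hkl : ηk ≤ ηl) :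
    (r * s ∉ Set.range (orderOf : Cfsg.PSp n F → ℕ)) ↔ (n < ηk + ηl ∧ ¬ ∃ t : ℕ, Odd t ∧ l = k * t) := by
  classical
  have hp : p.Prime := Fact.out
  haveI : Fact r.Prime := ⟨hr⟩
  haveI : Fact s.Prime := ⟨hs⟩
  set q := Fintype.card F with hq
  have hq2 : 2 ≤ q := Fintype.one_lt_card
  have hnotdvd : ∀ t : ℕ, t.Prime → t ≠ p → ¬ t ∣ q := by
    intro t ht htp h
    obtain ⟨e, -, he⟩ := FiniteField.card F p
    rw [hq, he] at h
    exact htp ((Nat.prime_dvd_prime_iff_eq ht hp).1 (ht.dvd_of_dvd_pow h))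
  have hrq := hnotdvd r hr hrp
  have hsq := hnotdvd s hs hsp
  obtain ⟨hk1, hkdvd⟩ := Cfsg.Agent.S2470.k_facts r q hrq (by omega)
  obtain ⟨hl1, hldvd⟩ := Cfsg.Agent.S2470.k_facts s q hsq (by omega)
  rw [← hk] at hk1 hkdvd
  rw [← hl] at hl1 hldvd
  have hk0 : 0 < k := by omega
  have hl0 : 0 < l := by omega
  have hcrs : Nat.Coprime r s := (Nat.coprime_primes hr hs).2 hrs
  have hoddrs : Odd (r * s) := (hr.odd_of_ne_two hr2).mul (hs.odd_of_ne_two hs2)
  have hηk1 : 1 ≤ ηk := by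
    rcases hηk with ⟨-, he⟩ | ⟨-, he⟩ <;> omega
  have hηl1 : 1 ≤ ηl := by
    rcases hηl with ⟨-, he⟩ | ⟨-, he⟩ <;> omega
  have hr_dvd : r ∣ q ^ (2 * ηk) - 1 := by
    apply (hkdvd _).2
    rcases hηk with ⟨-, he⟩ | ⟨-, he⟩
    · rw [he]
      exact dvd_mul_left k 2
    · rw [he]
  have hs_dvd : s ∣ q ^ (2 * ηl) - 1 := by
    apply (hldvd _).2
    rcases hηl with ⟨-, he⟩ | ⟨-, he⟩
    · rw [he]
      exact dvd_mul_left l 2
    · rw [he]
  constructor
  · intro hno
    by_contra hR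
    apply hno
    have hR' : ηk + ηl ≤ n ∨ ∃ t, Odd t ∧ l = k * t := by
      by_contra hcon
      push Not at hcon
      exact hR ⟨by omega, fun ⟨t, ht1, ht2⟩ => hcon.2 t ht1 ht2⟩
    have hSp : ∃ A : Matrix.symplecticGroup (Fin n) F, orderOf A = r * s := by
      rcases hR' with hR' | ⟨t, htodd, ht⟩
      · obtain ⟨A₁, hA₁⟩ := sp_cauchy (F := F) ηk hηk1 r hr_dvd
        obtain ⟨A₂, hA₂⟩ := sp_cauchy (F := F) ηl hηl1 s hs_dvd
        exact sp_prod hR' A₁ A₂ r s hA₁ hA₂ hcrs hr.pos hs.pos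
      · obtain ⟨i, hi1, hin, hi⟩ := exists_dvd_of_dvd_card (F := F) s hs hsq hsG
        have hl2i : l ∣ 2 * i := (hldvd _).1 hi
        have hηln : ηl ≤ n := by
          rcases hηl with ⟨hodd, he⟩ | ⟨hev, he⟩
          · have hc : Nat.Coprime l 2 := Nat.Coprime.symm (Nat.coprime_two_left.2 hodd)
            have := Nat.le_of_dvd (by omega) (hc.dvd_of_dvd_mul_left hl2i)
            omega
          · rw [← he] at hl2i
            have := Nat.le_of_dvd (by omega)
              (Nat.dvd_of_mul_dvd_mul_left (by norm_num : 0 < 2) hl2i)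
            omega
        rcases hηl with ⟨hodd, he⟩ | ⟨hev, he⟩
        · have hdvd : r * s ∣ q ^ ηl - 1 := by
            rw [he]
            exact hcrs.mul_dvd_of_dvd_of_dvd ((hkdvd l).2 ⟨t, ht⟩) ((hldvd l).2 dvd_rfl)
          exact sp_split_torus (F := F) p ηl hηl1 hηln (r * s) (Nat.mul_pos hr.pos hs.pos) hdvd
        · have hkev : 2 * ηk = k := by
            rcases hηk with ⟨hodd, -⟩ | ⟨-, he'⟩
            · exfalso
              have : Odd l := by
                rw [ht]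
                exact hodd.mul htodd
              exact (Nat.not_even_iff_odd.2 this) hev
            · exact he'
          have hηlt : ηl = ηk * t := by
            have : 2 * ηl = 2 * (ηk * t) := by
              rw [he, ht, ← hkev]
              ring
            omega
          have h1 : r ∣ q ^ ηk + 1 := dvd_plus r q k ηk hr (by omega) hkdvd hk0 hkev
          have h2 : s ∣ q ^ ηl + 1 := dvd_plus s q l ηl hs (by omega) hldvd hl0 he
          have h3 : q ^ ηk + 1 ∣ q ^ ηl + 1 := by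
            have := Odd.nat_add_dvd_pow_add_pow (q ^ ηk) 1 htodd
            rw [one_pow, ← pow_mul, ← hηlt] at this
            exact this
          have hdvd : r * s ∣ q ^ ηl + 1 :=
            hcrs.mul_dvd_of_dvd_of_dvd (dvd_trans h1 h3) h2
          exact sp_nonsplit_torus (F := F) p ηl hηl1 hηln (r * s)
            (Nat.mul_pos hr.pos hs.pos) hdvd
    obtain ⟨A, hA⟩ := hSp
    obtain ⟨x, hx⟩ := psp_of_sp (by omega) A (r * s) hoddrs hA
    exact ⟨x, hx⟩
  · rintro ⟨hnkl, hnot⟩ ⟨x, hx⟩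
    have hx' : orderOf x = r * s := hx
    obtain ⟨X, hX⟩ := QuotientGroup.mk_surjective x
    have hXj : ∀ j, X ^ j ∈ Subgroup.center (Matrix.symplecticGroup (Fin n) F) ↔
        r * s ∣ j := by
      intro j
      rw [← hx', orderOf_dvd_iff_pow_eq_one, ← hX, ← QuotientGroup.mk_pow,
        QuotientGroup.eq_one_iff]
    exact sp_rs_core (F := F) p (by omega) r s hr hs hr2 hs2 hrs hrp hsp k l ηk ηl hkdvd hldvd
      hk0 hl0 hηk hηl hkl hnkl hnot X hXj

end Cfsg.Agent.S2469
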