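import Cfsg.Statements.S2472
import Mathlib
import Cfsg.Agent.S2470
import Cfsg.Agent.Lib.Helper19.PrimeGraphPSp3
import Cfsg.Agent.Lib.Helper19.PrimeGraphPSp4

set_option autoImplicit false
open Cfsg

namespace Cfsg.Agent.S2472

open Cfsg.Agent.Lib.Helper19.PrimeGraphPSL

/-- Adjacency of a prime and the characteristic in the prime graph of PSp(2n,q): let F be a finite field of characteristic p with q elements, n ≥ 2 with PSp(2n,F) simple, and let r ≠ p be an odd prime dividing the order of PSp(2n,F), with k the multiplicative order of q modulo r and η(k) = k for odd k, k/2 for even k. Then PSp(2n,F) has NO element of order r·p if and only if η(k) > n − 1. -/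
theorem result {F : Type*} [Field F] [Fintype F] (p : ℕ) [Fact p.Prime] [CharP F p] (n : ℕ) (hn : 2 ≤ n) (hsmall : n = 2 → 3 ≤ Fintype.card F)
    (r : ℕ) (hr : r.Prime) (hr2 : r ≠ 2) (hrp : r ≠ p) (hrG : r ∣ Nat.card (Cfsg.PSp n F))
    (k ηk : ℕ) (hk : k = orderOf ((Fintype.card F : ℕ) : ZMod r)) (hηk : (Odd k ∧ ηk = k) ∨ (Even k ∧ 2 * ηk = k)) :
    (r * p ∉ Set.range (orderOf : Cfsg.PSp n F → ℕ)) ↔ n - 1 < ηk := by
  classical
  have hp : p.Prime := Fact.out
  haveI : Fact r.Prime := ⟨hr⟩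
  set q := Fintype.card F with hq
  have hq2 : 2 ≤ q := Fintype.one_lt_card
  have hrq : ¬ r ∣ q := by
    intro h
    obtain ⟨e, -, he⟩ := FiniteField.card F p
    rw [hq, he] at h
    exact hrp ((Nat.prime_dvd_prime_iff_eq hr hp).1 (hr.dvd_of_dvd_pow h))
  obtain ⟨hk1, hkdvd⟩ := Cfsg.Agent.S2470.k_facts r q hrq (by omega)
  rw [← hk] at hk1 hkdvd
  have hη1 : 1 ≤ ηk := by
    rcases hηk with ⟨-, he⟩ | ⟨hev, he⟩
    · omega
    · omega
  constructor
  · intro hno
    by_contra hR
    apply hno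
    have hηn : ηk + 1 ≤ n := by omega
    have hdvd : r ∣ q ^ (2 * ηk) - 1 := by
      apply (hkdvd _).2
      rcases hηk with ⟨-, he⟩ | ⟨-, he⟩
      · rw [he]
        exact dvd_mul_left k 2
      · rw [he]
    obtain ⟨x, hx⟩ := sp_exists (F := F) p hn r hrp ηk hη1 hηn hdvd
    exact ⟨x, hx⟩
  · rintro hR ⟨x, hx⟩
    have hx' : orderOf x = r * p := hx
    set a := x ^ r with ha'
    set b := x ^ p with hb'
    have ha : orderOf a = p := by
      rw [ha', orderOf_pow_of_dvd hr.ne_zero (by rw [hx']; exact dvd_mul_right r p), hx',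
        Nat.mul_div_cancel_left _ hr.pos]
    have hbord : orderOf b = r := by
      rw [hb', orderOf_pow_of_dvd hp.ne_zero (by rw [hx']; exact dvd_mul_left p r), hx',
        Nat.mul_div_cancel _ hp.pos]
    have hab : Commute a b := (Commute.refl x).pow_pow r p
    obtain ⟨A₀, hA₀⟩ := QuotientGroup.mk_surjective a
    obtain ⟨B₀, hB₀⟩ := QuotientGroup.mk_surjective b
    have hAp : A₀ ^ p ∈ Subgroup.center (Matrix.symplecticGroup (Fin n) F) := by
      rw [← QuotientGroup.eq_one_iff, QuotientGroup.mk_pow, hA₀]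
      have h := pow_orderOf_eq_one a
      rw [ha] at h
      exact h
    have hBr : B₀ ^ r ∈ Subgroup.center (Matrix.symplecticGroup (Fin n) F) := by
      rw [← QuotientGroup.eq_one_iff, QuotientGroup.mk_pow, hB₀]
      have h := pow_orderOf_eq_one b
      rw [hbord] at h
      exact h
    have hAnc : A₀ ∉ Subgroup.center (Matrix.symplecticGroup (Fin n) F) := by
      intro h
      rw [← QuotientGroup.eq_one_iff, hA₀] at h
      rw [h, orderOf_one] at ha
      exact hp.one_lt.ne ha
    have hcomm : (B₀ * A₀)⁻¹ * (A₀ * B₀) ∈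
        Subgroup.center (Matrix.symplecticGroup (Fin n) F) := by
      rw [← QuotientGroup.eq, QuotientGroup.mk_mul, QuotientGroup.mk_mul, hA₀, hB₀]
      exact hab.eq.symm
    have hBc := sp_core (F := F) p (by omega) r hr2 hrp k ηk (fun j h => (hkdvd j).1 h)
      (by omega) hηk (by omega) A₀ B₀ hAp hAnc hBr hcomm
    rw [← QuotientGroup.eq_one_iff, hB₀] at hBc
    rw [hBc, orderOf_one] at hbord
    exact hr.one_lt.ne hbord

end Cfsg.Agent.S2472
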