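import Mathlib
import Cfsg.Statements.S2477

set_option autoImplicit false
open Cfsg

namespace Cfsg.Agent.S2477

open Equiv

set_option linter.unusedVariables false

/-- reachable states (sum, sign, lcm) of cycle types in degree 10. -/
def RR : Finset (ℕ × ℤˣ × ℕ) :=
  {(0, 1, 1), (2, -1, 2), (3, 1, 3), (4, -1, 4), (4, 1, 2), (5, -1, 6), (5, 1, 5), (6, -1, 2),
   (6, -1, 6), (6, 1, 3), (6, 1, 4), (7, -1, 10), (7, -1, 12), (7, 1, 6), (7, 1, 7), (8, -1, 4),
   (8, -1, 6), (8, -1, 8), (8, 1, 2), (8, 1, 4), (8, 1, 6), (8, 1, 15), (9, -1, 6), (9, -1, 14),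
   (9, -1, 20), (9, 1, 3), (9, 1, 9), (9, 1, 10), (9, 1, 12), (10, -1, 2), (10, -1, 4),
   (10, -1, 6), (10, -1, 10), (10, -1, 12), (10, -1, 30), (10, 1, 4), (10, 1, 5), (10, 1, 6),
   (10, 1, 8), (10, 1, 12), (10, 1, 21)}

theorem RR_closed : ∀ t ∈ RR, ∀ x ∈ Finset.Icc 2 10, x + t.1 ≤ 10 →
    (x + t.1, (-(-1 : ℤˣ) ^ x) * t.2.1, Nat.lcm x t.2.2) ∈ RR := by
  decide

theorem RR_final : ∀ t ∈ RR, t.2.1 = 1 →
    t.2.2 ∈ ({1, 2, 3, 4, 5, 6, 7, 8, 9, 10, 12, 15, 21} : Finset ℕ) := by
  decide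

theorem state_mem (m : Multiset ℕ) : (∀ x ∈ m, 2 ≤ x) → m.sum ≤ 10 →
    (m.sum, (m.map fun n => -(-1 : ℤˣ) ^ n).prod, m.lcm) ∈ RR := by
  induction m using Multiset.induction_on with
  | empty =>
    intro _ _
    simp only [Multiset.sum_zero, Multiset.map_zero, Multiset.prod_zero, Multiset.lcm_zero]
    decide
  | cons a s ih =>
    intro h2 hsum
    rw [Multiset.sum_cons] at hsum
    have hs := ih (fun x hx => h2 x (Multiset.mem_cons_of_mem hx)) (by omega)
    have ha2 : 2 ≤ a := h2 a (Multiset.mem_cons_self a s)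
    have ha : a ∈ Finset.Icc 2 10 := Finset.mem_Icc.2 ⟨ha2, by omega⟩
    have := RR_closed _ hs a ha hsum
    rw [Multiset.sum_cons, Multiset.map_cons, Multiset.prod_cons, Multiset.lcm_cons]
    exact this

def c2 : Perm (Fin 10) := swap 0 1 * swap 2 3
def c3 : Perm (Fin 10) := swap 0 1 * swap 1 2
def c4 : Perm (Fin 10) := swap 0 1 * swap 1 2 * swap 2 3 * swap 4 5
def c5 : Perm (Fin 10) := swap 0 1 * swap 1 2 * swap 2 3 * swap 3 4
def c6 : Perm (Fin 10) := swap 0 1 * swap 1 2 * swap 3 4 * swap 5 6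
def c7 : Perm (Fin 10) := swap 0 1 * swap 1 2 * swap 2 3 * swap 3 4 * swap 4 5 * swap 5 6
def c8 : Perm (Fin 10) :=
  swap 0 1 * swap 1 2 * swap 2 3 * swap 3 4 * swap 4 5 * swap 5 6 * swap 6 7 * swap 8 9
def c9 : Perm (Fin 10) :=
  swap 0 1 * swap 1 2 * swap 2 3 * swap 3 4 * swap 4 5 * swap 5 6 * swap 6 7 * swap 7 8
def c10 : Perm (Fin 10) := swap 0 1 * swap 1 2 * swap 2 3 * swap 3 4 * swap 5 6 * swap 7 8
def c12 : Perm (Fin 10) := swap 0 1 * swap 1 2 * swap 2 3 * swap 4 5 * swap 5 6 * swap 7 8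
def c15 : Perm (Fin 10) := swap 0 1 * swap 1 2 * swap 2 3 * swap 3 4 * swap 5 6 * swap 6 7
def c21 : Perm (Fin 10) :=
  swap 0 1 * swap 1 2 * swap 2 3 * swap 3 4 * swap 4 5 * swap 5 6 * swap 7 8 * swap 8 9

theorem mem_range_of (σ : Perm (Fin 10)) (n : ℕ) (hn : 0 < n) (hs : Perm.sign σ = 1)
    (h1 : σ ^ n = 1) (h2 : ∀ m < n, 0 < m → σ ^ m ≠ 1) :
    n ∈ Set.range (orderOf : alternatingGroup (Fin 10) → ℕ) := by
  refine ⟨⟨σ, Perm.mem_alternatingGroup.2 hs⟩, ?_⟩
  rw [← Subgroup.orderOf_coe]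
  exact (orderOf_eq_iff hn).2 ⟨h1, h2⟩

set_option maxRecDepth 100000 in
theorem r2 : 2 ∈ Set.range (orderOf : alternatingGroup (Fin 10) → ℕ) :=
  mem_range_of c2 2 (by norm_num) (by decide +kernel) (by decide +kernel) (by decide +kernel)

set_option maxRecDepth 100000 in
theorem r3 : 3 ∈ Set.range (orderOf : alternatingGroup (Fin 10) → ℕ) :=
  mem_range_of c3 3 (by norm_num) (by decide +kernel) (by decide +kernel) (by decide +kernel)

set_option maxRecDepth 100000 in
theorem r4 : 4 ∈ Set.range (orderOf : alternatingGroup (Fin 10) → ℕ) :=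
  mem_range_of c4 4 (by norm_num) (by decide +kernel) (by decide +kernel) (by decide +kernel)

set_option maxRecDepth 100000 in
theorem r5 : 5 ∈ Set.range (orderOf : alternatingGroup (Fin 10) → ℕ) :=
  mem_range_of c5 5 (by norm_num) (by decide +kernel) (by decide +kernel) (by decide +kernel)

set_option maxRecDepth 100000 in
theorem r6 : 6 ∈ Set.range (orderOf : alternatingGroup (Fin 10) → ℕ) :=
  mem_range_of c6 6 (by norm_num) (by decide +kernel) (by decide +kernel) (by decide +kernel)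

set_option maxRecDepth 100000 in
theorem r7 : 7 ∈ Set.range (orderOf : alternatingGroup (Fin 10) → ℕ) :=
  mem_range_of c7 7 (by norm_num) (by decide +kernel) (by decide +kernel) (by decide +kernel)

set_option maxRecDepth 100000 in
theorem r8 : 8 ∈ Set.range (orderOf : alternatingGroup (Fin 10) → ℕ) :=
  mem_range_of c8 8 (by norm_num) (by decide +kernel) (by decide +kernel) (by decide +kernel)

set_option maxRecDepth 100000 in
theorem r9 : 9 ∈ Set.range (orderOf : alternatingGroup (Fin 10) → ℕ) :=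
  mem_range_of c9 9 (by norm_num) (by decide +kernel) (by decide +kernel) (by decide +kernel)

set_option maxRecDepth 100000 in
theorem r10 : 10 ∈ Set.range (orderOf : alternatingGroup (Fin 10) → ℕ) :=
  mem_range_of c10 10 (by norm_num) (by decide +kernel) (by decide +kernel) (by decide +kernel)

set_option maxRecDepth 100000 in
theorem r12 : 12 ∈ Set.range (orderOf : alternatingGroup (Fin 10) → ℕ) :=
  mem_range_of c12 12 (by norm_num) (by decide +kernel) (by decide +kernel) (by decide +kernel)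

set_option maxRecDepth 100000 in
theorem r15 : 15 ∈ Set.range (orderOf : alternatingGroup (Fin 10) → ℕ) :=
  mem_range_of c15 15 (by norm_num) (by decide +kernel) (by decide +kernel) (by decide +kernel)

set_option maxRecDepth 100000 in
theorem r21 : 21 ∈ Set.range (orderOf : alternatingGroup (Fin 10) → ℕ) :=
  mem_range_of c21 21 (by norm_num) (by decide +kernel) (by decide +kernel) (by decide +kernel)

/-- The set of element orders of the alternating group of degree 10 is {1, 2, 3, 4, 5, 6, 7, 8, 9, 10, 12, 15, 21}. -/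
theorem result : Set.range (orderOf : alternatingGroup (Fin 10) → ℕ) = {1, 2, 3, 4, 5, 6, 7, 8, 9, 10, 12, 15, 21} := by
  apply Set.Subset.antisymm
  · rintro n ⟨σ, rfl⟩
    have hmem := σ.2
    rw [Equiv.Perm.mem_alternatingGroup, Equiv.Perm.sign_of_cycleType'] at hmem
    have hst := state_mem (σ : Equiv.Perm (Fin 10)).cycleType
      (fun x hx => Equiv.Perm.two_le_of_mem_cycleType hx)
      (by have := Equiv.Perm.sum_cycleType_le (σ : Equiv.Perm (Fin 10)); simpa using this)
    have hfin := RR_final _ hst hmem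
    rw [Equiv.Perm.lcm_cycleType, Subgroup.orderOf_coe] at hfin
    simpa using hfin
  · intro n hn
    simp only [Set.mem_insert_iff, Set.mem_singleton_iff] at hn
    rcases hn with rfl | rfl | rfl | rfl | rfl | rfl | rfl | rfl | rfl | rfl | rfl | rfl | rfl
    · exact ⟨1, orderOf_one⟩
    · exact r2
    · exact r3
    · exact r4
    · exact r5
    · exact r6
    · exact r7
    · exact r8
    · exact r9
    · exact r10
    · exact r12
    · exact r15
    · exact r21

end Cfsg.Agent.S2477
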