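import Cfsg.Statements.S2485
import Mathlib
import Cfsg.Agent.Lib.Helper12.GL2

set_option autoImplicit false
open scoped Pointwise
open Cfsg

namespace Cfsg.Agent.S2485

open Cfsg.Agent.Lib.Helper12

local notation "GL2" => Matrix.GeneralLinearGroup (Fin 2)

variable {q : ℕ} [Fact q.Prime]

/-- the matrix of a quarter turn -/
def J (q : ℕ) : Matrix (Fin 2) (Fin 2) (ZMod q) := !![0, -1; 1, 0]

theorem J_sq : J q * J q = -1 := by
  ext i j
  fin_cases i <;> fin_cases j <;> simp [J, Matrix.mul_apply, Fin.sum_univ_two]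

theorem J_pow (hq4 : q % 4 = 3) : J q ^ q = -J q := by
  have h2 : J q ^ 2 = -1 := by rw [pow_two, J_sq]
  have h4 : J q ^ 4 = 1 := by
    rw [show 4 = 2 * 2 from rfl, pow_mul, h2]; simp
  have h3 : J q ^ 3 = -J q := by
    rw [show 3 = 2 + 1 from rfl, pow_succ, h2]; simp
  have e : q = 4 * (q / 4) + 3 := by omega
  have : ∀ n : ℕ, n = 4 * (q / 4) + 3 → J q ^ n = -J q := by
    rintro n rfl
    rw [pow_add, pow_mul, h4, one_pow, one_mul, h3]
  exact this q e

theorem frob (hq4 : q % 4 = 3) (a b : ZMod q) :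
    (a • (1 : Matrix (Fin 2) (Fin 2) (ZMod q)) + b • J q) ^ (q + 1) = (a ^ 2 + b ^ 2) • 1 := by
  have hc : Commute (a • (1 : Matrix (Fin 2) (Fin 2) (ZMod q))) (b • J q) :=
    ((Commute.one_left (J q)).smul_left a).smul_right b
  rw [pow_succ, add_pow_char_of_commute q hc, smul_pow, smul_pow, one_pow, ZMod.pow_card,
    ZMod.pow_card, J_pow hq4]
  ext i j
  fin_cases i <;> fin_cases j <;> simp [J, Matrix.mul_apply, Fin.sum_univ_two] <;> ring

/-- the quotient map onto `PGL₂` -/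
noncomputable abbrev pi (q : ℕ) [Fact q.Prime] :
    GL2 (ZMod q) →* GL2 (ZMod q) ⧸ Subgroup.center (GL2 (ZMod q)) :=
  QuotientGroup.mk' (Subgroup.center (GL2 (ZMod q)))

/-- the quarter turn as an element of `GL₂` -/
noncomputable def A0 (q : ℕ) [Fact q.Prime] : GL2 (ZMod q) := GL2.mk 0 (-1) 1 0 (by norm_num)

/-- the scalar `-1` -/
noncomputable def negI (q : ℕ) [Fact q.Prime] : GL2 (ZMod q) := GL2.mk (-1) 0 0 (-1) (by norm_num)

theorem negI_mem_center : negI q ∈ Subgroup.center (GL2 (ZMod q)) := by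
  rw [Subgroup.mem_center_iff]
  intro h
  apply GL2.ext4 <;> simp [GL2.mul_apply', negI]

theorem pi_negI : pi q (negI q) = 1 := by
  show (QuotientGroup.mk (negI q) : GL2 (ZMod q) ⧸ Subgroup.center (GL2 (ZMod q))) = 1
  rw [QuotientGroup.eq_one_iff]
  exact negI_mem_center

theorem commute_of_anti (W A : GL2 (ZMod q)) (h : W * A = negI q * A * W) :
    pi q W * pi q A = pi q A * pi q W := by
  rw [← map_mul, h, map_mul, map_mul, pi_negI, one_mul]

theorem exists_scalar_of_pi_eq (g h : GL2 (ZMod q)) (e : pi q g = pi q h) :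
    ∃ c : ZMod q, ∀ i j, h i j = c * g i j := by
  have h1 : g⁻¹ * h ∈ Subgroup.center (GL2 (ZMod q)) := QuotientGroup.eq.mp e
  obtain ⟨c, hc⟩ := Matrix.GeneralLinearGroup.mem_center_iff_val_mem_range_scalar.mp h1
  refine ⟨c, ?_⟩
  have h2 : h = g * (g⁻¹ * h) := by group
  intro i j
  have h3 : (h : Matrix (Fin 2) (Fin 2) (ZMod q)) =
      (g : Matrix (Fin 2) (Fin 2) (ZMod q)) * ((g⁻¹ * h : GL2 (ZMod q)) : Matrix (Fin 2) (Fin 2) (ZMod q)) := by
    conv_lhs => rw [h2]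
    rfl
  rw [h3, ← hc]
  simp [Matrix.mul_apply, Matrix.diagonal_apply]
  fin_cases j <;> simp <;> ring

theorem not_sq (hq4 : q % 4 = 3) (x z : ZMod q) (h : x ^ 2 + z ^ 2 = 0) : x = 0 ∧ z = 0 := by
  have hns : ¬ IsSquare (-1 : ZMod q) := by
    rw [ZMod.exists_sq_eq_neg_one_iff]
    omega
  by_cases hz : z = 0
  · rw [hz] at h
    simp at h
    exact ⟨h, hz⟩
  · exfalso
    apply hns
    refine ⟨x / z, ?_⟩
    field_simp
    linear_combination (-1 : ZMod q) * h

theorem two_ne_zero_zmod (hq : 7 ≤ q) : (2 : ZMod q) ≠ 0 := by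
  intro h
  have h2 : ((2 : ℕ) : ZMod q) = 0 := by exact_mod_cast h
  rw [ZMod.natCast_eq_zero_iff] at h2
  have := Nat.le_of_dvd (by norm_num) h2
  omega

theorem mem_center_of_val (g : GL2 (ZMod q)) (c : ZMod q)
    (h : (g : Matrix (Fin 2) (Fin 2) (ZMod q)) = c • 1) : g ∈ Subgroup.center (GL2 (ZMod q)) := by
  rw [Matrix.GeneralLinearGroup.mem_center_iff_val_mem_range_scalar]
  refine ⟨c, ?_⟩
  rw [h]
  simp [Matrix.smul_one_eq_diagonal]

omit [Fact q.Prime] in
theorem mod_four {k : ℕ} (hk : q + 1 = 2 ^ k) (hq : 7 ≤ q) : q % 4 = 3 ∧ 1 ≤ k := by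
  have hk3 : 3 ≤ k := by
    by_contra h
    have : k ≤ 2 := by omega
    have : 2 ^ k ≤ 2 ^ 2 := Nat.pow_le_pow_right (by norm_num) this
    omega
  obtain ⟨m, rfl⟩ : ∃ m, k = m + 2 := ⟨k - 2, by omega⟩
  rw [pow_add] at hk
  omega

theorem pow_two_pow_eq_one {k : ℕ} (hk : q + 1 = 2 ^ k) (hq : 7 ≤ q) (y : GL2 (ZMod q))
    (hy : pi q y * pi q (A0 q) = pi q (A0 q) * pi q y) : pi q y ^ (2 ^ k) = 1 := by
  obtain ⟨hq4, hk1⟩ := mod_four hk hq
  have h2 := two_ne_zero_zmod hq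
  rw [← map_mul, ← map_mul] at hy
  obtain ⟨c, hc⟩ := exists_scalar_of_pi_eq _ _ hy
  have h00 : -y 1 0 = c * y 0 1 := by
    have := hc 0 0
    simpa [GL2.mul_apply', A0] using this
  have h01 : -y 1 1 = -(c * y 0 0) := by
    have := hc 0 1
    simpa [GL2.mul_apply', A0] using this
  have h10 : y 0 0 = c * y 1 1 := by
    have := hc 1 0
    simpa [GL2.mul_apply', A0] using this
  have h11 : y 0 1 = -(c * y 1 0) := by
    have := hc 1 1
    simpa [GL2.mul_apply', A0] using this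
  have hd := GL2.det_ne_zero y
  rw [GL2.det_eq] at hd
  have hc2 : c ^ 2 = 1 := by
    by_contra hne
    have hne' : c ^ 2 - 1 ≠ 0 := sub_ne_zero.mpr hne
    have e1 : (c ^ 2 - 1) * y 0 0 = 0 := by linear_combination (-1 : ZMod q) * h10 + c * h01
    have e2 : (c ^ 2 - 1) * y 1 0 = 0 := by linear_combination h00 + c * h11
    have y00 : y 0 0 = 0 := by
      rcases mul_eq_zero.mp e1 with h | h
      · exact absurd h hne'
      · exact h
    have y10 : y 1 0 = 0 := by
      rcases mul_eq_zero.mp e2 with h | h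
      · exact absurd h hne'
      · exact h
    apply hd
    rw [y00, y10]; ring
  have hc' : c = 1 ∨ c = -1 := by
    have : (c - 1) * (c + 1) = 0 := by linear_combination hc2
    rcases mul_eq_zero.mp this with h | h
    · left; exact sub_eq_zero.mp h
    · right; exact eq_neg_of_add_eq_zero_left h
  rcases hc' with rfl | rfl
  · -- the torus
    have y11 : y 1 1 = y 0 0 := by linear_combination (-1 : ZMod q) * h01
    have y01 : y 0 1 = -y 1 0 := by linear_combination h11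
    have hval : ∃ a b : ZMod q, (y : Matrix (Fin 2) (Fin 2) (ZMod q)) = a • 1 + b • J q := by
      refine ⟨y 0 0, y 1 0, ?_⟩
      ext i j
      fin_cases i <;> fin_cases j <;> simp [J, y11, y01]
    obtain ⟨a, b, hval⟩ := hval
    have hpow : ((y ^ (q + 1) : GL2 (ZMod q)) : Matrix (Fin 2) (Fin 2) (ZMod q)) =
        (a ^ 2 + b ^ 2) • 1 := by
      rw [Units.val_pow_eq_pow_val, hval, frob hq4]
    have hmem := mem_center_of_val _ _ hpow
    rw [← hk, ← map_pow]
    show (QuotientGroup.mk (y ^ (q + 1)) : GL2 (ZMod q) ⧸ Subgroup.center (GL2 (ZMod q))) = 1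
    rw [QuotientGroup.eq_one_iff]
    exact hmem
  · -- the other coset
    have y11 : y 1 1 = -y 0 0 := by linear_combination (-1 : ZMod q) * h01
    have y01 : y 0 1 = y 1 0 := by linear_combination h11
    have hval : ((y * y : GL2 (ZMod q)) : Matrix (Fin 2) (Fin 2) (ZMod q)) =
        (y 0 0 ^ 2 + y 1 0 ^ 2) • 1 := by
      ext i j
      fin_cases i <;> fin_cases j <;> simp [GL2.mul_apply', y11, y01] <;> ring
    have hmem := mem_center_of_val _ _ hval
    have h1 : pi q y ^ 2 = 1 := by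
      rw [pow_two, ← map_mul]
      show (QuotientGroup.mk (y * y) : GL2 (ZMod q) ⧸ Subgroup.center (GL2 (ZMod q))) = 1
      rw [QuotientGroup.eq_one_iff]
      exact hmem
    obtain ⟨m, rfl⟩ : ∃ m, k = m + 1 := ⟨k - 1, by omega⟩
    rw [pow_succ, mul_comm, pow_mul, h1, one_pow]

theorem A0_mul_self : A0 q * A0 q = negI q := by
  apply GL2.ext4 <;> simp [GL2.mul_apply', A0, negI]

theorem entries_of_mem_center (g : GL2 (ZMod q)) (hg : g ∈ Subgroup.center (GL2 (ZMod q))) :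
    g 0 1 = 0 ∧ g 1 0 = 0 ∧ g 0 0 = g 1 1 := by
  obtain ⟨c, hc⟩ := Matrix.GeneralLinearGroup.mem_center_iff_val_mem_range_scalar.mp hg
  refine ⟨?_, ?_, ?_⟩
  · rw [← hc]; simp
  · rw [← hc]; simp
  · rw [← hc]; simp

theorem pi_A0_ne : pi q (A0 q) ≠ 1 := by
  intro h
  have h1 : A0 q ∈ Subgroup.center (GL2 (ZMod q)) := (QuotientGroup.eq_one_iff _).mp h
  obtain ⟨-, h10, -⟩ := entries_of_mem_center _ h1
  simp [A0] at h10

theorem exists_common (hq4 : q % 4 = 3) (h2 : (2 : ZMod q) ≠ 0) (g : GL2 (ZMod q)) :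
    ∃ t : GL2 (ZMod q) ⧸ Subgroup.center (GL2 (ZMod q)), t ≠ 1 ∧
      t * pi q (A0 q) = pi q (A0 q) * t ∧
      t * (pi q g * pi q (A0 q) * (pi q g)⁻¹) = (pi q g * pi q (A0 q) * (pi q g)⁻¹) * t := by
  obtain ⟨B, hBdef⟩ : ∃ B : GL2 (ZMod q), B = g * A0 q * g⁻¹ := ⟨_, rfl⟩
  have hpiB : pi q g * pi q (A0 q) * (pi q g)⁻¹ = pi q B := by
    rw [hBdef, map_mul, map_mul, map_inv]
  rw [hpiB]
  have hB : B * B = negI q := by
    have hz := Subgroup.mem_center_iff.mp (negI_mem_center (q := q)) g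
    calc B * B = g * (A0 q * A0 q) * g⁻¹ := by rw [hBdef]; group
      _ = g * negI q * g⁻¹ := by rw [A0_mul_self]
      _ = negI q := by rw [hz]; group
  have r00 : B 0 0 * B 0 0 + B 0 1 * B 1 0 = -1 := by
    have := congrArg (fun M : GL2 (ZMod q) => M 0 0) hB
    simpa [GL2.mul_apply', negI] using this
  have r01 : B 0 0 * B 0 1 + B 0 1 * B 1 1 = 0 := by
    have := congrArg (fun M : GL2 (ZMod q) => M 0 1) hB
    simpa [GL2.mul_apply', negI] using this
  have r10 : B 1 0 * B 0 0 + B 1 1 * B 1 0 = 0 := by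
    have := congrArg (fun M : GL2 (ZMod q) => M 1 0) hB
    simpa [GL2.mul_apply', negI] using this
  have r11 : B 1 0 * B 0 1 + B 1 1 * B 1 1 = -1 := by
    have := congrArg (fun M : GL2 (ZMod q) => M 1 1) hB
    simpa [GL2.mul_apply', negI] using this
  obtain ⟨x, hx⟩ : ∃ x : ZMod q, x = -(B 0 1 + B 1 0) := ⟨_, rfl⟩
  obtain ⟨z, hz⟩ : ∃ z : ZMod q, z = B 0 0 - B 1 1 := ⟨_, rfl⟩
  by_cases hxz : x = 0 ∧ z = 0
  · obtain ⟨hx0, hz0⟩ := hxz
    refine ⟨pi q (A0 q), pi_A0_ne, rfl, ?_⟩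
    rw [← map_mul, ← map_mul]
    congr 1
    have e1 : B 0 1 = -B 1 0 := by linear_combination hx - hx0
    have e2 : B 0 0 = B 1 1 := by linear_combination hz0 - hz
    apply GL2.ext4 <;> simp [GL2.mul_apply', A0, e1, e2]
  · have hdet : x * (-x) - z * z ≠ 0 := by
      intro h
      apply hxz
      exact not_sq hq4 x z (by linear_combination (-1 : ZMod q) * h)
    obtain ⟨W, hW⟩ : ∃ W : GL2 (ZMod q), W = GL2.mk x z z (-x) hdet := ⟨_, rfl⟩
    have w00 : W 0 0 = x := by rw [hW]; rfl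
    have w01 : W 0 1 = z := by rw [hW]; rfl
    have w10 : W 1 0 = z := by rw [hW]; rfl
    have w11 : W 1 1 = -x := by rw [hW]; rfl
    refine ⟨pi q W, ?_, ?_, ?_⟩
    · intro h
      have h1 : W ∈ Subgroup.center (GL2 (ZMod q)) := (QuotientGroup.eq_one_iff _).mp h
      obtain ⟨h01, -, h00⟩ := entries_of_mem_center _ h1
      rw [w01] at h01
      rw [w00, w11] at h00
      apply hxz
      refine ⟨?_, h01⟩
      have : 2 * x = 0 := by linear_combination h00
      rcases mul_eq_zero.mp this with h | h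
      · exact absurd h h2
      · exact h
    · apply commute_of_anti
      apply GL2.ext4 <;> simp [GL2.mul_apply', A0, negI, w00, w01, w10, w11]
    · apply commute_of_anti
      apply GL2.ext4
      · simp only [GL2.mul_apply', negI, w00, w01, w10, w11, GL2.mk_00, GL2.mk_01, GL2.mk_10,
          GL2.mk_11]
        rw [hx, hz]
        linear_combination (-1 : ZMod q) * r01 - r10
      · simp only [GL2.mul_apply', negI, w00, w01, w10, w11, GL2.mk_00, GL2.mk_01, GL2.mk_10,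
          GL2.mk_11]
        rw [hx, hz]
        linear_combination r00 - r11
      · simp only [GL2.mul_apply', negI, w00, w01, w10, w11, GL2.mk_00, GL2.mk_01, GL2.mk_10,
          GL2.mk_11]
        rw [hx, hz]
        linear_combination r00 - r11
      · simp only [GL2.mul_apply', negI, w00, w01, w10, w11, GL2.mk_00, GL2.mk_01, GL2.mk_10,
          GL2.mk_11]
        rw [hx, hz]
        linear_combination r01 + r10

theorem exists_common' {k : ℕ} (hk : q + 1 = 2 ^ k) (hq : 7 ≤ q)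
    (u v : GL2 (ZMod q) ⧸ Subgroup.center (GL2 (ZMod q))) :
    ∃ t : GL2 (ZMod q) ⧸ Subgroup.center (GL2 (ZMod q)), t ≠ 1 ∧
      (u⁻¹ * t * u) * pi q (A0 q) = pi q (A0 q) * (u⁻¹ * t * u) ∧
      (v⁻¹ * t * v) * pi q (A0 q) = pi q (A0 q) * (v⁻¹ * t * v) := by
  obtain ⟨hq4, -⟩ := mod_four hk hq
  have h2 := two_ne_zero_zmod hq
  obtain ⟨g, hg⟩ := QuotientGroup.mk'_surjective (Subgroup.center (GL2 (ZMod q))) (u⁻¹ * v)
  obtain ⟨t0, ht0, hc1, hc2⟩ := exists_common hq4 h2 g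
  change pi q g = u⁻¹ * v at hg
  rw [hg] at hc2
  refine ⟨u * t0 * u⁻¹, ?_, ?_, ?_⟩
  · intro h
    apply ht0
    calc t0 = u⁻¹ * (u * t0 * u⁻¹) * u := by group
      _ = 1 := by rw [h]; group
  · have : u⁻¹ * (u * t0 * u⁻¹) * u = t0 := by group
    rw [this]; exact hc1
  · have e : v⁻¹ * (u * t0 * u⁻¹) * v = (u⁻¹ * v)⁻¹ * t0 * (u⁻¹ * v) := by group
    rw [e]
    set y := u⁻¹ * v with hy
    calc y⁻¹ * t0 * y * pi q (A0 q) = y⁻¹ * (t0 * (y * pi q (A0 q) * y⁻¹)) * y := by group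
      _ = y⁻¹ * ((y * pi q (A0 q) * y⁻¹) * t0) * y := by rw [hc2]
      _ = pi q (A0 q) * (y⁻¹ * t0 * y) := by group


/-- Let q = 2^k − 1 ≥ 7 be a prime and let G = PGL(2,q), the general linear group of degree 2 over the field with q elements modulo its centre. Then any two Sylow 2-subgroups of G have a non-trivial intersection: for a Sylow 2-subgroup H and every x ∈ G, H ∩ H^x ≠ 1. -/
theorem result {q k : ℕ} [Fact q.Prime] (hk : q + 1 = 2 ^ k) (hq : 7 ≤ q)
    (H : Sylow 2 (GL (Fin 2) (ZMod q) ⧸ Subgroup.center (GL (Fin 2) (ZMod q))))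
    (x : GL (Fin 2) (ZMod q) ⧸ Subgroup.center (GL (Fin 2) (ZMod q))) :
    (H : Subgroup (GL (Fin 2) (ZMod q) ⧸ Subgroup.center (GL (Fin 2) (ZMod q)))) ⊓ MulAut.conj x • (H : Subgroup _) ≠ ⊥ := by
  -- the centralizer of the involution is a 2-group
  have hN : IsPGroup 2 (Subgroup.centralizer ({pi q (A0 q)} : Set (GL2 (ZMod q) ⧸ Subgroup.center (GL2 (ZMod q))))) := by
    rintro ⟨y, hy⟩
    obtain ⟨y, rfl⟩ := QuotientGroup.mk'_surjective (Subgroup.center (GL2 (ZMod q))) y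
    rw [Subgroup.mem_centralizer_singleton_iff] at hy
    refine ⟨k, ?_⟩
    apply Subtype.ext
    simp only [SubmonoidClass.mk_pow, Subgroup.coe_one]
    exact pow_two_pow_eq_one hk hq y hy
  obtain ⟨H1, hH1⟩ := hN.exists_le_sylow
  obtain ⟨a, ha⟩ := MulAction.exists_smul_eq (GL2 (ZMod q) ⧸ Subgroup.center (GL2 (ZMod q))) H1 H
  have hHa : (H : Subgroup (GL2 (ZMod q) ⧸ Subgroup.center (GL2 (ZMod q)))) =
      MulAut.conj a • (H1 : Subgroup _) := by
    rw [← ha]; rfl
  have hmem : ∀ (b t : GL2 (ZMod q) ⧸ Subgroup.center (GL2 (ZMod q))),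
      (b⁻¹ * t * b) * pi q (A0 q) = pi q (A0 q) * (b⁻¹ * t * b) →
      t ∈ MulAut.conj b • (H1 : Subgroup (GL2 (ZMod q) ⧸ Subgroup.center (GL2 (ZMod q)))) := by
    intro b t ht
    rw [Subgroup.mem_pointwise_smul_iff_inv_smul_mem]
    apply hH1
    rw [Subgroup.mem_centralizer_singleton_iff]
    have : (MulAut.conj b)⁻¹ • t = b⁻¹ * t * b := by
      rw [← map_inv, MulAut.smul_def, MulAut.conj_apply, inv_inv]
    rw [this]
    exact ht
  obtain ⟨t, ht1, hta, htxa⟩ := exists_common' hk hq a (x * a)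
  intro hbot
  apply ht1
  have : t ∈ (H : Subgroup (GL2 (ZMod q) ⧸ Subgroup.center (GL2 (ZMod q)))) ⊓
      MulAut.conj x • (H : Subgroup _) := by
    refine ⟨?_, ?_⟩
    · rw [hHa]
      exact hmem a t hta
    · rw [hHa, smul_smul, ← map_mul]
      exact hmem (x * a) t htxa
  rw [hbot] at this
  exact Subgroup.mem_bot.mp this

end Cfsg.Agent.S2485
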