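import Cfsg.Statements.S2487
import Mathlib
import Cfsg.Agent.Lib.Helper19.OPlusTwo3

set_option autoImplicit false
open scoped Pointwise
open Cfsg

namespace Cfsg.Agent.S2487

/-- Let m ≥ 4 and let G be the full isometry group of the hyperbolic quadratic form x₁y₁ + ⋯ + x_m y_m on the 2m-dimensional space over the field with 2 elements (the orthogonal group O⁺(2m,2), which contains Ω⁺(2m,2) with index 2). Then any two Sylow 2-subgroups of G have a non-trivial intersection: for a Sylow 2-subgroup H and every x ∈ G, H ∩ H^x ≠ 1. -/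
theorem result {F : Type*} [Field F] [Fintype F] (hF : Fintype.card F = 2) {m : ℕ} (hm : 4 ≤ m)
    (H : Sylow 2 (Cfsg.isometryGroup F (Cfsg.quadFormPlus m F)))
    (x : Cfsg.isometryGroup F (Cfsg.quadFormPlus m F)) :
    (H : Subgroup (Cfsg.isometryGroup F (Cfsg.quadFormPlus m F))) ⊓ MulAut.conj x • (H : Subgroup _) ≠ ⊥ := by
  classical
  obtain ⟨k, rfl⟩ : ∃ k, m = k + 1 := ⟨m - 1, by omega⟩
  have h2 : ∀ c : F, c = 0 ∨ c = 1 := by
    intro c
    by_contra hc
    push Not at hc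
    have h3 : ({0, 1, c} : Finset F).card = 3 :=
      Finset.card_eq_three.mpr ⟨0, 1, c, zero_ne_one, Ne.symm hc.1, Ne.symm hc.2, rfl⟩
    have h4 := Finset.card_le_univ ({0, 1, c} : Finset F)
    rw [h3, hF] at h4
    omega
  revert H x
  rw [← Cfsg.Agent.Lib.Helper19.QuadStd.coe_stdPlus (F := F) (k + 1)]
  intro H x
  exact Cfsg.Agent.Lib.Helper19.OPlusTwo.sylow_meet_of_pgroup 2
    (Cfsg.Agent.Lib.Helper19.OPlusTwo.Sg k F) (Cfsg.Agent.Lib.Helper19.OPlusTwo.isPGroup_Sg h2)
    (Cfsg.Agent.Lib.Helper19.OPlusTwo.meet h2) H x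

end Cfsg.Agent.S2487
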