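import Cfsg.Statements.S2495
import Mathlib
import Cfsg.Agent.S2470
import Cfsg.Agent.S2364
import Cfsg.Agent.Lib.Helper8.Zsigmondy
import Cfsg.Agent.Lib.Helper19.SingerOrd2

set_option autoImplicit false
open Cfsg

namespace Cfsg.Agent.S2495

open Cfsg.Agent.Lib.Helper19.SingerOrd Cfsg.Agent.Lib.Helper19.SpecThree

section Aux

lemma fac_sq (q m : ℕ) (hq : 1 ≤ q) : q ^ (m + m) - 1 = (q ^ m - 1) * (q ^ m + 1) := by
  have hqm : 1 ≤ q ^ m := Nat.one_le_pow _ _ hq
  have h3 : q ^ (m + m) = q ^ m * q ^ m := by rw [pow_add]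
  rw [h3]
  zify [hqm, (by nlinarith : 1 ≤ q ^ m * q ^ m)]
  ring

theorem singer_exists {F : Type*} [Field F] [Fintype F] (p : ℕ) [Fact p.Prime] [CharP F p]
    (m : ℕ) (hm : 1 ≤ m) (a : ℕ) (ha : 2 ^ a ∣ Fintype.card F - 1)
    (ha' : ¬ 2 ^ (a + 1) ∣ Fintype.card F - 1) (hma : 2 ^ a ∣ m) :
    ∃ X : Matrix (Fin (m + m)) (Fin (m + m)) F, X.det = 1 ∧
      ∀ j, (∃ c : F, X ^ j = c • 1) ↔ (Fintype.card F ^ m + 1) ∣ j := by
  classical
  set q := Fintype.card F with hq
  have hq2 : 2 ≤ q := Fintype.one_lt_card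
  obtain ⟨C, hCdet, hC1, hC2⟩ := singer_data (F := F) p (m + m) (by omega)
  obtain ⟨t, ht⟩ := (geom_mod q a m (by omega) ha).2 hma
  have hgeo : (q - 1) * ∑ i ∈ Finset.range m, q ^ i = q ^ m - 1 := geom_nat q m (by omega)
  obtain ⟨w, hw⟩ := ha
  have hwodd : Odd w := by
    rcases Nat.even_or_odd w with h | h
    · exfalso
      apply ha'
      obtain ⟨w', hw'⟩ := h
      refine ⟨w', ?_⟩
      rw [hw, hw', pow_succ]
      ring
    · exact h
  have hqm : 2 ≤ q ^ m := by
    calc 2 ≤ q := hq2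
      _ = q ^ 1 := (pow_one q).symm
      _ ≤ q ^ m := Nat.pow_le_pow_right (by omega) hm
  have hfac := fac_sq q m (by omega)
  have hcop : Nat.Coprime (q ^ m + 1) w := by
    have hd1 : Nat.gcd (q ^ m + 1) w ∣ q ^ m + 1 := Nat.gcd_dvd_left _ _
    have hd2 : Nat.gcd (q ^ m + 1) w ∣ q ^ m - 1 := by
      refine dvd_trans (Nat.gcd_dvd_right _ _) ?_
      refine dvd_trans (Dvd.intro_left (2 ^ a) hw.symm) ?_
      exact Dvd.intro _ hgeo
    have hd3 : Nat.gcd (q ^ m + 1) w ∣ 2 := by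
      have := Nat.dvd_sub hd1 hd2
      have h2 : q ^ m + 1 - (q ^ m - 1) = 2 := by omega
      rwa [h2] at this
    rcases (Nat.dvd_prime Nat.prime_two).1 hd3 with h | h
    · exact h
    · exfalso
      have h2w : 2 ∣ w := by
        rw [← h]
        exact Nat.gcd_dvd_right _ _
      exact (Nat.not_even_iff_odd.2 hwodd) (even_iff_two_dvd.2 h2w)
  set e := (q - 1) * t with he
  refine ⟨C ^ e, ?_, ?_⟩
  · rw [Matrix.det_pow, he, pow_mul, hq, FiniteField.pow_card_sub_one_eq_one _ hCdet, one_pow]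
  · intro j
    rw [← pow_mul, hC2]
    have h1 : e * j * (q - 1) = (q ^ m - 1) * (w * j) := by
      calc e * j * (q - 1) = (q - 1) * t * j * (2 ^ a * w) := by rw [he, ← hw]
        _ = (q - 1) * (2 ^ a * t) * (w * j) := by ring
        _ = (q ^ m - 1) * (w * j) := by rw [← ht, hgeo]
    rw [h1, hfac, Nat.mul_dvd_mul_iff_left (by omega : 0 < q ^ m - 1)]
    exact hcop.dvd_mul_left

end Aux

/-- Let q be an odd prime power, n ≥ 4 even, and L = PSL(n,q). Then L has an element of order q^(n/2) + 1 if and only if the 2-part of n exceeds the 2-part of q − 1. -/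
theorem result {F : Type*} [Field F] [Fintype F] {q : ℕ} (hF : Fintype.card F = q) (hodd : Odd q)
    {n : ℕ} (hn : 4 ≤ n) (heven : Even n) :
    (∃ g : Matrix.ProjectiveSpecialLinearGroup (Fin n) F, orderOf g = q ^ (n / 2) + 1) ↔
      padicValNat 2 (q - 1) < padicValNat 2 n := by
  classical
  obtain ⟨p, hp⟩ := CharP.exists F
  haveI := hp
  haveI : Fact p.Prime := ⟨CharP.char_is_prime F p⟩
  have hpp : p.Prime := Fact.out
  subst hF
  obtain ⟨m, rfl⟩ := heven
  have hm2 : 2 ≤ m := by omega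
  have hhalf : (m + m) / 2 = m := by omega
  rw [hhalf]
  set q := Fintype.card F with hq
  have hq2 : 2 ≤ q := Fintype.one_lt_card
  set a := padicValNat 2 (q - 1) with ha
  have hadvd : 2 ^ a ∣ q - 1 := pow_padicValNat_dvd
  have hadvd' : ¬ 2 ^ (a + 1) ∣ q - 1 := pow_succ_padicValNat_not_dvd (by omega)
  have hiff : a < padicValNat 2 (m + m) ↔ 2 ^ a ∣ m := by
    rw [Nat.lt_iff_add_one_le, ← padicValNat_dvd_iff_le (by omega : m + m ≠ 0), ← two_mul,
      pow_succ, mul_comm (2 ^ a) 2]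
    exact Nat.mul_dvd_mul_iff_left (by norm_num)
  rw [hiff]
  constructor
  · rintro ⟨g, hg⟩
    obtain ⟨X, hX⟩ := QuotientGroup.mk_surjective g
    have hXj : ∀ j, (∃ c : F, (X : Matrix (Fin (m + m)) (Fin (m + m)) F) ^ j = c • 1) ↔
        (q ^ m + 1) ∣ j := by
      intro j
      rw [← hg, orderOf_dvd_iff_pow_eq_one, ← hX, ← QuotientGroup.mk_pow,
        QuotientGroup.eq_one_iff, Cfsg.Agent.S2364.center_iff, Matrix.SpecialLinearGroup.coe_pow]
    have hq3 : 3 ≤ q := by
      obtain ⟨k, hk⟩ := hodd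
      omega
    obtain ⟨r, hr, hrdvd, hrprim⟩ := Cfsg.Agent.Lib.Helper8.Zsig.zsigmondy q (m + m) (by omega)
      (by omega) (by rintro ⟨h, -⟩; omega) (by rintro ⟨h, -⟩; omega)
    haveI : Fact r.Prime := ⟨hr⟩
    have hfac := fac_sq q m (by omega)
    have hrq : ¬ r ∣ q := by
      intro h
      have h1 : r ∣ q ^ (m + m) := dvd_pow h (by omega)
      have h2 : r ∣ q ^ (m + m) - (q ^ (m + m) - 1) := Nat.dvd_sub h1 hrdvd
      have h3 : q ^ (m + m) - (q ^ (m + m) - 1) = 1 := by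
        have := Nat.one_le_pow (m + m) q (by omega)
        omega
      rw [h3] at h2
      exact hr.one_lt.ne' (Nat.dvd_one.1 h2)
    obtain ⟨hk1, hkdvd⟩ := Cfsg.Agent.S2470.k_facts r q hrq (by omega)
    have hkn : orderOf ((q : ℕ) : ZMod r) ∣ m + m := (hkdvd _).1 hrdvd
    have hkeq : orderOf ((q : ℕ) : ZMod r) = m + m := by
      by_contra hne
      have hle := Nat.le_of_dvd (by omega) hkn
      exact hrprim _ (by omega) (by omega) ((hkdvd _).2 dvd_rfl)
    have hrn : ∀ j, r ∣ q ^ j - 1 → (m + m) ∣ j := by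
      intro j hj
      rw [← hkeq]
      exact (hkdvd j).1 hj
    have hrq1 : ¬ r ∣ q - 1 := by
      intro h
      have := hrprim 1 (by omega) (by omega)
      rw [pow_one] at this
      exact this h
    have hrN : r ∣ q ^ m + 1 := by
      rw [hfac] at hrdvd
      rcases hr.dvd_mul.1 hrdvd with h | h
      · exact absurd h (hrprim m (by omega) (by omega))
      · exact h
    have hNp : ¬ p ∣ q ^ m + 1 := by
      intro h
      obtain ⟨e, -, he⟩ := FiniteField.card F p
      have h1 : p ∣ q ^ m := by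
        rw [hq, he]
        exact dvd_pow (dvd_pow_self p (PNat.ne_zero e)) (by omega)
      have h2 : p ∣ (q ^ m + 1) - q ^ m := Nat.dvd_sub h h1
      rw [Nat.add_sub_cancel_left] at h2
      exact hpp.one_lt.ne' (Nat.dvd_one.1 h2)
    obtain ⟨o, ho1, ho2⟩ := singer_core (F := F) p (by omega)
      (X : Matrix (Fin (m + m)) (Fin (m + m)) F) X.2 (q ^ m + 1) (by omega) hNp hXj r hr hrN
      hrq1 hrn
    rw [geom_split] at ho1
    have hNeven : Even (q ^ m + 1) := (hodd.pow).add_one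
    exact arith_nec q m a o (Nat.gcd o (q - 1)) (by omega) hadvd hNeven ho1 rfl ho2
  · intro hma
    obtain ⟨X, hXdet, hXj⟩ := singer_exists (F := F) p m (by omega) a hadvd hadvd' hma
    let X' : Matrix.SpecialLinearGroup (Fin (m + m)) F := ⟨X, hXdet⟩
    refine ⟨QuotientGroup.mk X', ?_⟩
    apply Cfsg.Agent.S2470.orderOf_mk_eq
    intro j
    rw [Cfsg.Agent.S2364.center_iff, Matrix.SpecialLinearGroup.coe_pow]
    exact hXj j

end Cfsg.Agent.S2495
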