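import Cfsg.Statements.S2496
import Mathlib
import Cfsg.Agent.Lib.Helper8.Zsigmondy
import Cfsg.Agent.Lib.Helper19.SingerOrdU2
import Cfsg.Agent.Lib.Helper19.SingerOrdU4
import Cfsg.Agent.Lib.Helper19.SingerOrdU5

set_option autoImplicit false
open Cfsg

namespace Cfsg.Agent.S2496

open Cfsg.Agent.Lib.Helper19.SingerOrd Cfsg.Agent.Lib.Helper19.SpecThree Cfsg.Agent.S2365
  Cfsg.Agent.Lib.Helper27.Unitary Cfsg.Agent.Lib.Helper19.UnitaryEig

/-- Let q be an odd prime power, n ≥ 4 even, and U = PSU(n,q) (realised over the field with q² elements). Then U has an element of order q^(n/2) + (−1)^(n/2) — that is, q^(n/2) + 1 when n/2 is even and q^(n/2) − 1 when n/2 is odd — if and only if the 2-part of n exceeds the 2-part of q + 1. -/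
theorem result {F : Type*} [Field F] [Fintype F] {q : ℕ} (hF : Fintype.card F = q ^ 2) (hodd : Odd q)
    {n : ℕ} (hn : 4 ≤ n) (heven : Even n) :
    (∃ g : Cfsg.PSU n F q, orderOf g = if Even (n / 2) then q ^ (n / 2) + 1 else q ^ (n / 2) - 1) ↔
      padicValNat 2 (q + 1) < padicValNat 2 n := by
  classical
  obtain ⟨p, hp⟩ := CharP.exists F
  haveI := hp
  haveI : Fact p.Prime := ⟨CharP.char_is_prime F p⟩
  have hpp : p.Prime := Fact.out
  obtain ⟨k, hk⟩ : ∃ k, q = p ^ k := by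
    obtain ⟨e, -, he⟩ := FiniteField.card F p
    have hdvd : q ∣ p ^ (e : ℕ) := by
      rw [← he, hF]
      exact dvd_pow_self q (by norm_num)
    obtain ⟨k, -, hk⟩ := (Nat.dvd_prime_pow hpp).1 hdvd
    exact ⟨k, hk⟩
  subst hk
  obtain ⟨m, rfl⟩ := heven
  have hm2 : 2 ≤ m := by omega
  have hhalf : (m + m) / 2 = m := by omega
  rw [hhalf]
  have hq2 : 2 ≤ p ^ k := two_le_q hF
  have hq3 : 3 ≤ p ^ k := by
    obtain ⟨t, ht⟩ := hodd
    omega
  have hq0 : p ^ k ≠ 0 := by omega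
  set b := padicValNat 2 (p ^ k + 1) with hbdef
  have hbdvd : 2 ^ b ∣ p ^ k + 1 := pow_padicValNat_dvd
  have hbdvd' : ¬ 2 ^ (b + 1) ∣ p ^ k + 1 := pow_succ_padicValNat_not_dvd (by omega)
  have hb1 : 1 ≤ b := by
    have h1 : 2 ^ 1 ∣ p ^ k + 1 := by
      obtain ⟨t, ht⟩ := hodd
      exact ⟨t + 1, by omega⟩
    exact (padicValNat_dvd_iff_le (by omega)).1 h1
  have hiff : b < padicValNat 2 (m + m) ↔ 2 ^ b ∣ m := by
    rw [Nat.lt_iff_add_one_le, ← padicValNat_dvd_iff_le (by omega : m + m ≠ 0), ← two_mul,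
      pow_succ, mul_comm (2 ^ b) 2]
    exact Nat.mul_dvd_mul_iff_left (by norm_num)
  rw [hiff]
  have hpq : p ∣ p ^ k := by
    rcases Nat.eq_zero_or_pos k with h0 | h0
    · rw [h0, pow_zero] at hq2
      omega
    · exact dvd_pow_self p (by omega)
  constructor
  · rintro ⟨g, hg⟩
    obtain ⟨X₀, rfl⟩ := QuotientGroup.mk_surjective g
    have hord : ∀ j, (∃ c : F, (mat X₀) ^ j = c • 1) ↔
        (if Even m then (p ^ k) ^ m + 1 else (p ^ k) ^ m - 1) ∣ j := by
      intro j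
      rw [← hg, orderOf_dvd_iff_pow_eq_one, ← QuotientGroup.mk_pow, QuotientGroup.eq_one_iff,
        ← mat_pow]
      constructor
      · rintro ⟨c, hc⟩
        exact center_of_scalar _ c hc
      · intro h
        exact center_scalar hF (by omega) _ h
    have hXU : IsU (iterateFrobenius F p k) (mat X₀) := unitary_matrix p k hq0 X₀
    have hdet := mat_det X₀
    have hqm1 : 1 ≤ (p ^ k) ^ m := Nat.one_le_pow _ _ (by omega)
    have hpqm : p ∣ (p ^ k) ^ m := dvd_pow hpq (by omega)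
    rcases Nat.even_or_odd m with hme | hmo
    · rw [if_pos hme] at hord
      obtain ⟨r, hr, hrdvd, hrprim⟩ := Cfsg.Agent.Lib.Helper8.Zsig.zsigmondy (p ^ k) (m + m)
        (by omega) (by omega) (by rintro ⟨h, -⟩; omega) (by rintro ⟨h, -⟩; omega)
      obtain ⟨hrq, hiffr⟩ := ppd_facts r (p ^ k) (m + m) hr hq2 (by omega) hrdvd hrprim
      have hrN : r ∣ (p ^ k) ^ m + 1 := by
        rw [fac_sq' (p ^ k) m (by omega)] at hrdvd
        rcases hr.dvd_mul.1 hrdvd with h | h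
        · exact absurd h (hrprim m (by omega) (by omega))
        · exact h
      have hrq1 : ¬ r ∣ (p ^ k) ^ 2 - 1 := by
        intro h
        have := Nat.le_of_dvd (by norm_num) ((hiffr 2).1 h)
        omega
      have hrn : ∀ j, r ∣ ((p ^ k) ^ 2) ^ j - 1 → m ∣ j := by
        intro j hj
        rw [← pow_mul] at hj
        obtain ⟨c, hc⟩ := (hiffr _).1 hj
        exact ⟨c, by
          have : 2 * j = 2 * (m * c) := by rw [hc]; ring
          omega⟩
      have hneg : ∀ j, ¬ r ∣ (p ^ k) ^ (2 * j + 1) + 1 := by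
        intro j hj
        have h1 := dvd_sq_of_dvd_add_one r (p ^ k) (2 * j + 1) (by omega) hj
        obtain ⟨c, hc⟩ := (hiffr _).1 h1
        obtain ⟨m', hm'⟩ := hme
        have : 2 * (2 * j + 1) = 2 * (2 * (m' * c)) := by
          rw [hc, hm']
          ring
        omega
      have hNp : ¬ p ∣ (p ^ k) ^ m + 1 := by
        intro h
        have h2 : p ∣ ((p ^ k) ^ m + 1) - (p ^ k) ^ m := Nat.dvd_sub h hpqm
        rw [Nat.add_sub_cancel_left] at h2
        exact hpp.one_lt.ne' (Nat.dvd_one.1 h2)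
      obtain ⟨o, ho1, ho2⟩ := singerU_core (F := F) p k m hF hq2 (by omega) (mat X₀) hdet hXU
        ((p ^ k) ^ m + 1) (by omega) hNp hord r hr hrN hrq1 hrn hneg
      exact arithU_even (p ^ k) m b o _ hq2 hodd hb1 hbdvd hme ho1 rfl ho2
    · exfalso
      rw [if_neg (Nat.not_even_iff_odd.2 hmo)] at hord
      have hm3 : 3 ≤ m := by
        obtain ⟨t, ht⟩ := hmo
        omega
      obtain ⟨r, hr, hrdvd, hrprim⟩ := Cfsg.Agent.Lib.Helper8.Zsig.zsigmondy (p ^ k) m
        (by omega) (by omega) (by rintro ⟨h, -⟩; omega) (by rintro ⟨h, -⟩; omega)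
      obtain ⟨hrq, hiffr⟩ := ppd_facts r (p ^ k) m hr hq2 (by omega) hrdvd hrprim
      have hcop2 : Nat.Coprime m 2 := Nat.Coprime.symm (Nat.coprime_two_left.2 hmo)
      have hrq1 : ¬ r ∣ (p ^ k) ^ 2 - 1 := by
        intro h
        have := Nat.le_of_dvd (by norm_num) ((hiffr 2).1 h)
        omega
      have hrn : ∀ j, r ∣ ((p ^ k) ^ 2) ^ j - 1 → m ∣ j := by
        intro j hj
        rw [← pow_mul] at hj
        exact hcop2.dvd_of_dvd_mul_left ((hiffr _).1 hj)
      have hneg : ∀ j, ¬ r ∣ (p ^ k) ^ (2 * j + 1) + 1 := by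
        intro j hj
        have h1 := dvd_sq_of_dvd_add_one r (p ^ k) (2 * j + 1) (by omega) hj
        have h2 : m ∣ 2 * j + 1 := hcop2.dvd_of_dvd_mul_left ((hiffr _).1 h1)
        have h3 : r ∣ (p ^ k) ^ (2 * j + 1) - 1 := (hiffr _).2 h2
        have hqj : 1 ≤ (p ^ k) ^ (2 * j + 1) := Nat.one_le_pow _ _ (by omega)
        have h4 : r ∣ ((p ^ k) ^ (2 * j + 1) + 1) - ((p ^ k) ^ (2 * j + 1) - 1) :=
          Nat.dvd_sub hj h3
        have h5 : ((p ^ k) ^ (2 * j + 1) + 1) - ((p ^ k) ^ (2 * j + 1) - 1) = 2 := by omega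
        rw [h5] at h4
        have hr2 : r = 2 := (Nat.prime_dvd_prime_iff_eq hr Nat.prime_two).1 h4
        have h6 : r ∣ (p ^ k) ^ 1 - 1 := by
          rw [hr2, pow_one]
          obtain ⟨t, ht⟩ := hodd
          exact ⟨t, by omega⟩
        have := Nat.le_of_dvd (by norm_num) ((hiffr 1).1 h6)
        omega
      have hNp : ¬ p ∣ (p ^ k) ^ m - 1 := by
        intro h
        have h2 : p ∣ (p ^ k) ^ m - ((p ^ k) ^ m - 1) := Nat.dvd_sub hpqm h
        have h3 : (p ^ k) ^ m - ((p ^ k) ^ m - 1) = 1 := by omega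
        rw [h3] at h2
        exact hpp.one_lt.ne' (Nat.dvd_one.1 h2)
      have hNpos : 0 < (p ^ k) ^ m - 1 := by
        have : 2 ^ 1 ≤ (p ^ k) ^ m := by
          calc 2 ^ 1 ≤ (p ^ k) ^ 1 := by rw [pow_one, pow_one]; exact hq2
            _ ≤ (p ^ k) ^ m := Nat.pow_le_pow_right (by omega) (by omega)
        omega
      obtain ⟨o, ho1, ho2⟩ := singerU_core (F := F) p k m hF hq2 (by omega) (mat X₀) hdet hXU
        ((p ^ k) ^ m - 1) hNpos hNp hord r hr hrdvd hrq1 hrn hneg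
      exact arithU_odd (p ^ k) m b o _ hq2 hodd hb1 hbdvd hmo ho1 rfl ho2
  · intro hmb
    have hme : Even m := by
      rw [even_iff_two_dvd]
      exact dvd_trans (dvd_pow_self 2 (by omega)) hmb
    rw [if_pos hme]
    obtain ⟨e, he1, he2⟩ := arithU_exists (p ^ k) m b hq2 hodd hb1 hbdvd hbdvd' hmb (by omega)
    exact singerU_exists (F := F) p k hF hq2 m (by omega) e he1 ((p ^ k) ^ m + 1) he2

end Cfsg.Agent.S2496
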