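import Cfsg.Statements.S2503
import Mathlib
import Cfsg.Agent.S0802
import Cfsg.Agent.S2456

set_option autoImplicit false
open Cfsg

namespace Cfsg.Agent.S2503

open Cfsg.Agent.Lib.Helper12.SL2 Cfsg.Agent.Lib.Helper12.Quat
open Cfsg.Agent.S0807 Cfsg.Agent.S2331

variable {F : Type*} [Field F]

local notation "SL2" => Matrix.SpecialLinearGroup (Fin 2)
local notation "M2" => Matrix (Fin 2) (Fin 2)
local notation "PSL2" => Matrix.ProjectiveSpecialLinearGroup (Fin 2)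

/-- the upper unitriangular subgroup -/
def UU (F : Type*) [Field F] : Subgroup (SL2 F) where
  carrier := {g | ∃ b : F, g = up b}
  one_mem' := ⟨0, up_zero.symm⟩
  mul_mem' := by
    rintro _ _ ⟨b, rfl⟩ ⟨b', rfl⟩
    exact ⟨b + b', (up_add b b').symm⟩
  inv_mem' := by
    rintro _ ⟨b, rfl⟩
    exact ⟨-b, Cfsg.Agent.S2450.up_inv b⟩

theorem card_UU [Fintype F] : Nat.card (UU F) = Fintype.card F := by
  rw [← Nat.card_eq_fintype_card]
  symm
  refine Nat.card_congr (Equiv.ofBijective (fun b : F => (⟨up b, b, rfl⟩ : UU F)) ⟨?_, ?_⟩)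
  · intro b b' h
    exact up_injective (congrArg Subtype.val h)
  · rintro ⟨_, b, rfl⟩
    exact ⟨b, rfl⟩

/-- anisotropy of the norm form of a companion matrix without eigenvectors -/
theorem aniso (τ : F)
    (hE : ∀ (c : F) (v : Fin 2 → F), v ≠ 0 → ((compS τ : SL2 F) : M2 F).mulVec v ≠ c • v)
    (s m : F) (h : s ^ 2 + τ * s * m + m ^ 2 = 0) : s = 0 ∧ m = 0 := by
  by_cases hm : m = 0
  · subst hm
    refine ⟨?_, rfl⟩
    have : s ^ 2 = 0 := by linear_combination h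
    exact pow_eq_zero_iff (two_ne_zero) |>.mp this
  · exfalso
    set c := s / m with hc
    have hcc : c ^ 2 + τ * c + 1 = 0 := by
      rw [hc]; field_simp; linear_combination h
    apply hE (-c) ![1, c]
    · intro h0
      have := congrFun h0 0
      simp at this
    · have : ((compS τ : SL2 F) : M2 F).mulVec ![1, c] = (compS τ : SL2 F) • (![1, c] : Fin 2 → F) := rfl
      rw [this]
      ext i
      rw [Cfsg.Agent.Lib.Helper12.SL2.smul_apply]
      fin_cases i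
      · simp [compS]
      · simp [compS]
        linear_combination hcc

/-- key step: some vector of norm one is sent by `g` to a vector of norm one -/
theorem exists_norm_one [Fintype F] (h2 : (2 : F) = 0) (τ : F)
    (hE : ∀ (c : F) (v : Fin 2 → F), v ≠ 0 → ((compS τ : SL2 F) : M2 F).mulVec v ≠ c • v)
    (a b c d : F) (hdet : a * d - b * c = 1) :
    ∃ l m : F, l ^ 2 + τ * l * m + m ^ 2 = 1 ∧
      (a * l + b * m) ^ 2 + τ * (a * l + b * m) * (c * l + d * m) + (c * l + d * m) ^ 2 = 1 := by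
  have hchar : CharP F 2 := Cfsg.Agent.S2507.charP_two h2
  have hsq : ∀ x : F, ∃ s, x = s * s := fun x =>
    FiniteField.isSquare_of_char_two (ringChar.eq F 2) x
  obtain ⟨l₀, hl⟩ := hsq (b ^ 2 + τ * b * d + d ^ 2 - 1)
  obtain ⟨m₀, hm⟩ := hsq (a ^ 2 + τ * a * c + c ^ 2 - 1)
  by_cases h0 : l₀ = 0 ∧ m₀ = 0
  · obtain ⟨rfl, rfl⟩ := h0
    refine ⟨1, 0, by ring, ?_⟩
    linear_combination hm
  · have hn : l₀ ^ 2 + τ * l₀ * m₀ + m₀ ^ 2 ≠ 0 := fun h => h0 (aniso τ hE l₀ m₀ h)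
    obtain ⟨σ, hσ⟩ := hsq (l₀ ^ 2 + τ * l₀ * m₀ + m₀ ^ 2)⁻¹
    have hσ' : σ ^ 2 * (l₀ ^ 2 + τ * l₀ * m₀ + m₀ ^ 2) = 1 := by
      rw [pow_two, ← hσ]; exact inv_mul_cancel₀ hn
    refine ⟨σ * l₀, σ * m₀, by linear_combination hσ', ?_⟩
    linear_combination hσ' - σ ^ 2 * (a ^ 2 + τ * a * c + c ^ 2 - 1) * hl
      - σ ^ 2 * (b ^ 2 + τ * b * d + d ^ 2 - 1) * hm + (σ ^ 2 * l₀ * m₀ * τ) * hdet
      + (σ ^ 2 * (a ^ 2 + τ * a * c + c ^ 2 - 1) * (b ^ 2 + τ * b * d + d ^ 2 - 1)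
        + σ ^ 2 * l₀ * m₀ * (a * b + τ * b * c + c * d)) * h2


theorem tr_compS (τ : F) : tr (compS τ : SL2 F) = τ := by
  simp [tr, compS]

/-- the factorisation in `SL₂` -/
theorem factor [Fintype F] (h2 : (2 : F) = 0) (τ : F)
    (hE : ∀ (c : F) (v : Fin 2 → F), v ≠ 0 → ((compS τ : SL2 F) : M2 F).mulVec v ≠ c • v)
    (g : SL2 F) :
    ∃ a ∈ Tor (compS τ : SL2 F), ∃ b ∈ UU F, ∃ c ∈ Tor (compS τ : SL2 F), g = a * b * c := by
  obtain ⟨l, m, hlm, hw⟩ := exists_norm_one h2 τ hE (g 0 0) (g 0 1) (g 1 0) (g 1 1) (det_eq g)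
  set c' : SL2 F := lin (compS τ) l m (by rw [tr_compS]; linear_combination hlm) with hc'
  set a' : SL2 F := lin (compS τ) (g 0 0 * l + g 0 1 * m) (g 1 0 * l + g 1 1 * m)
    (by rw [tr_compS]; linear_combination hw) with ha'
  have hc'T : c' ∈ Tor (compS τ : SL2 F) :=
    Subgroup.mem_centralizer_singleton_iff.mpr (lin_commute _ _ _ _)
  have ha'T : a' ∈ Tor (compS τ : SL2 F) :=
    Subgroup.mem_centralizer_singleton_iff.mpr (lin_commute _ _ _ _)
  have hc'e : c' • (![1, 0] : Fin 2 → F) = ![l, m] := by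
    ext i
    rw [Cfsg.Agent.Lib.Helper12.SL2.smul_apply]
    fin_cases i <;> simp [hc', lin, compS]
  have ha'e : a' • (![1, 0] : Fin 2 → F) = ![g 0 0 * l + g 0 1 * m, g 1 0 * l + g 1 1 * m] := by
    ext i
    rw [Cfsg.Agent.Lib.Helper12.SL2.smul_apply]
    fin_cases i <;> simp [ha', lin, compS]
  have hge : g • (![l, m] : Fin 2 → F) = ![g 0 0 * l + g 0 1 * m, g 1 0 * l + g 1 1 * m] := by
    ext i
    rw [Cfsg.Agent.Lib.Helper12.SL2.smul_apply]
    fin_cases i <;> simp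
  have hfix : (a'⁻¹ * g * c') • (![1, 0] : Fin 2 → F) = ![1, 0] := by
    rw [mul_smul, mul_smul, hc'e, hge, ← ha'e, inv_smul_smul]
  have hup := eq_up_of_fix_e1 _ hfix
  refine ⟨a', ha'T, a'⁻¹ * g * c', ⟨_, hup⟩, c'⁻¹, Subgroup.inv_mem _ hc'T, ?_⟩
  group


/-- Let F be a finite field with q = 2^t ≥ 4 elements and L = PSL(2,F). Then L has a cyclic subgroup A of order q + 1 and an elementary abelian 2-subgroup B of order q such that L = ABA: every element of L is a product a·b·a' with a, a' ∈ A and b ∈ B. -/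
theorem result {F : Type*} [Field F] [Fintype F]
    (h2 : 2 ∣ Fintype.card F) (h4 : 4 ≤ Fintype.card F) :
    ∃ A B : Subgroup (Matrix.ProjectiveSpecialLinearGroup (Fin 2) F),
      IsCyclic A ∧ Nat.card A = Fintype.card F + 1 ∧ IsMulCommutative B ∧ (∀ b ∈ B, b * b = 1) ∧
        Nat.card B = Fintype.card F ∧
        ∀ g : Matrix.ProjectiveSpecialLinearGroup (Fin 2) F, ∃ a ∈ A, ∃ b ∈ B, ∃ c ∈ A, g = a * b * c := by
  obtain ⟨p, hp⟩ := CharP.exists F
  have hpp : Fact p.Prime := ⟨CharP.char_is_prime F p⟩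
  obtain ⟨n, -, hn⟩ := FiniteField.card F p
  have hp2 : p = 2 := by
    rw [hn] at h2
    exact ((Nat.prime_dvd_prime_iff_eq Nat.prime_two Fact.out).mp
      (Nat.prime_two.dvd_of_dvd_pow h2)).symm
  subst hp2
  have h2F : (2 : F) = 0 := (Cfsg.Agent.S2475.two_eq_zero_iff 2).mpr rfl
  have hinj := Cfsg.Agent.S0802.mkH_injective h2F
  obtain ⟨Y₀, hY₀⟩ := Cfsg.Agent.S2475.exists_orderOf_card_add_one (F := F) 2
  have hNS₀ : NonScalar Y₀ := by
    rw [nonScalar_iff, Cfsg.Agent.S2475.center_eq_bot_of_char_two h2F, Subgroup.mem_bot]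
    rintro rfl
    rw [orderOf_one] at hY₀
    omega
  have hconj := isConj_comp_of_not_scalar Y₀ hNS₀
  set τ := Y₀ 0 0 + Y₀ 1 1 with hτ
  have hY : orderOf (compS τ : SL2 F) = Fintype.card F + 1 := by
    obtain ⟨c, hc⟩ := isConj_iff.mp hconj
    rw [← hc, ← hY₀]
    exact orderOf_injective (MulAut.conj c).toMonoidHom (MulAut.conj c).injective Y₀
  have hE := noeig_of_orderOf (compS τ) hY
  have hcard := card_Tor_of_noeig_char_two h2F (compS τ) hE
  have hYT : (compS τ : SL2 F) ∈ Tor (compS τ : SL2 F) :=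
    Subgroup.mem_centralizer_singleton_iff.mpr rfl
  have hcyc : IsCyclic (Tor (compS τ : SL2 F)) := by
    apply isCyclic_of_orderOf_eq_card ⟨compS τ, hYT⟩
    rw [Subgroup.orderOf_mk, hY, hcard]
  refine ⟨(Tor (compS τ : SL2 F)).map mkH, (UU F).map mkH, ?_, ?_, ?_, ?_, ?_, ?_⟩
  · exact isCyclic_of_surjective ((Tor (compS τ : SL2 F)).equivMapOfInjective mkH hinj)
      ((Tor (compS τ : SL2 F)).equivMapOfInjective mkH hinj).surjective
  · rw [← Nat.card_congr ((Tor (compS τ : SL2 F)).equivMapOfInjective mkH hinj).toEquiv, hcard]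
  · refine ⟨⟨?_⟩⟩
    rintro ⟨x, hx⟩ ⟨y, hy⟩
    obtain ⟨_, ⟨b, rfl⟩, rfl⟩ := hx
    obtain ⟨_, ⟨b', rfl⟩, rfl⟩ := hy
    apply Subtype.ext
    show mkH (up b) * mkH (up b') = mkH (up b') * mkH (up b)
    rw [← map_mul, ← map_mul, ← up_add, ← up_add, add_comm]
  · rintro x ⟨_, ⟨b, rfl⟩, rfl⟩
    rw [← map_mul, ← up_add]
    have : b + b = 0 := by linear_combination b * h2F
    rw [this, up_zero, map_one]
  · rw [← Nat.card_congr ((UU F).equivMapOfInjective mkH hinj).toEquiv, card_UU]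
  · intro g
    obtain ⟨g', rfl⟩ := QuotientGroup.mk'_surjective _ g
    obtain ⟨a, ha, b, hb, c, hc, hg⟩ := factor h2F τ hE g'
    refine ⟨mkH a, Subgroup.mem_map_of_mem _ ha, mkH b, Subgroup.mem_map_of_mem _ hb, mkH c,
      Subgroup.mem_map_of_mem _ hc, ?_⟩
    rw [← map_mul, ← map_mul, ← hg]

end Cfsg.Agent.S2503
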