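import Cfsg.Statements.S2505
import Cfsg.Agent.Lib.Helper24.AbelianPerm

set_option autoImplicit false
open Cfsg
open Cfsg.Agent.Lib.Helper24

namespace Cfsg.Agent.S2505

/-- The largest order of an abelian subgroup of the symmetric group of degree n is 3^k when n = 3k, 4·3^(k−1) when n = 3k + 1, and 2·3^k when n = 3k + 2, for every k ≥ 1. -/
theorem result (k : ℕ) (hk : 1 ≤ k) :
    IsGreatest {c : ℕ | ∃ A : Subgroup (Equiv.Perm (Fin (3 * k))), IsMulCommutative A ∧ Nat.card A = c} (3 ^ k) ∧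
    IsGreatest {c : ℕ | ∃ A : Subgroup (Equiv.Perm (Fin (3 * k + 1))), IsMulCommutative A ∧ Nat.card A = c}
      (4 * 3 ^ (k - 1)) ∧
    IsGreatest {c : ℕ | ∃ A : Subgroup (Equiv.Perm (Fin (3 * k + 2))), IsMulCommutative A ∧ Nat.card A = c}
      (2 * 3 ^ k) := by
  classical
  refine ⟨⟨hasAbelianPermSubgroup_three_mul k, ?_⟩, ⟨?_, ?_⟩, ⟨?_, ?_⟩⟩
  · rintro c ⟨A, hA, rfl⟩
    rw [← maxProd_three_mul]
    exact card_le_maxProd _ A hA
  · obtain ⟨j, rfl⟩ : ∃ j, k = j + 1 := ⟨k - 1, by omega⟩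
    have h := hasAbelianPermSubgroup_add (hasAbelianPermSubgroup_three_mul j)
      (hasAbelianPermSubgroup_self 4 (by norm_num))
    have e1 : 3 * j + 4 = 3 * (j + 1) + 1 := by ring
    have e2 : 3 ^ j * 4 = 4 * 3 ^ (j + 1 - 1) := by rw [Nat.add_sub_cancel]; ring
    rw [e1, e2] at h
    exact h
  · rintro c ⟨A, hA, rfl⟩
    rw [← maxProd_three_mul_add_one k hk]
    exact card_le_maxProd _ A hA
  · have h := hasAbelianPermSubgroup_add (hasAbelianPermSubgroup_three_mul k)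
      (hasAbelianPermSubgroup_self 2 (by norm_num))
    have e2 : 3 ^ k * 2 = 2 * 3 ^ k := by ring
    rw [e2] at h
    exact h
  · rintro c ⟨A, hA, rfl⟩
    rw [← maxProd_three_mul_add_two]
    exact card_le_maxProd _ A hA

end Cfsg.Agent.S2505
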