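import Cfsg.Statements.S2514
import Mathlib

set_option autoImplicit false
open Cfsg

namespace Cfsg.Agent.S2514

/-- the spectrum -/
abbrev spec (X : Type*) [Group X] : Set ℕ := Set.range (orderOf : X → ℕ)

/-- the maximal element orders -/
abbrev mu (X : Type*) [Group X] : Set ℕ :=
  {n : ℕ | n ∈ Set.range (orderOf : X → ℕ) ∧ ∀ m ∈ Set.range (orderOf : X → ℕ), n ∣ m → m = n}

theorem spec_dvd_closed {X : Type*} [Group X] [Finite X] {n d : ℕ} (hn : n ∈ spec X) (hd : d ∣ n) :
    d ∈ spec X := by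
  obtain ⟨g, rfl⟩ := hn
  have hpos : 0 < orderOf g := orderOf_pos g
  obtain ⟨e, he⟩ := hd
  have he0 : e ≠ 0 := by
    rintro rfl
    rw [mul_zero] at he
    omega
  refine ⟨g ^ e, ?_⟩
  rw [orderOf_pow_of_dvd he0 ⟨d, by rw [he, mul_comm]⟩, he]
  exact Nat.mul_div_cancel _ (Nat.pos_of_ne_zero he0)

theorem exists_mu_of_spec {X : Type*} [Group X] [Finite X] {n : ℕ} (hn : n ∈ spec X) :
    ∃ m ∈ mu X, n ∣ m := by
  classical
  have hfin : {m : ℕ | m ∈ spec X ∧ n ∣ m}.Finite :=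
    (Set.finite_range (orderOf : X → ℕ)).subset (fun m hm => hm.1)
  have hne : hfin.toFinset.Nonempty := ⟨n, by
    rw [Set.Finite.mem_toFinset]; exact ⟨hn, dvd_rfl⟩⟩
  obtain ⟨m, hm, hmax⟩ := Finset.exists_max_image hfin.toFinset id hne
  rw [Set.Finite.mem_toFinset] at hm
  refine ⟨m, ⟨hm.1, fun m' hm' hdvd => ?_⟩, hm.2⟩
  have h1 : m' ∈ hfin.toFinset := by
    rw [Set.Finite.mem_toFinset]; exact ⟨hm', dvd_trans hm.2 hdvd⟩
  have h2 : m' ≤ m := hmax m' h1
  have hm'pos : 0 < m' := by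
    obtain ⟨g, rfl⟩ := hm'
    exact orderOf_pos g
  exact le_antisymm h2 (Nat.le_of_dvd hm'pos hdvd)

theorem pi_order_dvd_iff {ι : Type*} {X : Type*} [Group X] (x : ι → X) (n : ℕ) :
    orderOf x ∣ n ↔ ∀ i, orderOf (x i) ∣ n := by
  simp only [orderOf_dvd_iff_pow_eq_one, funext_iff, Pi.pow_apply, Pi.one_apply]

theorem prod_order_dvd_iff {A B : Type*} [Group A] [Group B] (a : A) (b : B) (n : ℕ) :
    orderOf (a, b) ∣ n ↔ orderOf a ∣ n ∧ orderOf b ∣ n := by
  simp only [orderOf_dvd_iff_pow_eq_one, Prod.ext_iff, Prod.pow_fst, Prod.pow_snd, Prod.fst_one,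
    Prod.snd_one]

theorem eq_of_dvd_iff {a b : ℕ} (h : ∀ n, a ∣ n ↔ b ∣ n) : a = b :=
  Nat.dvd_antisymm ((h b).mpr dvd_rfl) ((h a).mp dvd_rfl)

theorem main {G H : Type*} [Group G] [Finite G] [Group H] [Finite H] (k : ℕ)
    (hsub : mu H ⊆ mu G) (hfew : (mu G \ mu H).ncard < k + 1) :
    Set.range (orderOf : (Fin (k+1) → G) → ℕ) = Set.range (orderOf : (Fin k → G) × H → ℕ) := by
  classical
  apply Set.eq_of_subset_of_subset
  · rintro _ ⟨x, rfl⟩
    have hm : ∀ i, ∃ m ∈ mu G, orderOf (x i) ∣ m := fun i => exists_mu_of_spec ⟨x i, rfl⟩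
    choose m hmμ hdvd using hm
    by_cases hcase : ∃ i, m i ∈ mu H
    · obtain ⟨i, hi⟩ := hcase
      have h1 : orderOf (x i) ∈ spec H := spec_dvd_closed hi.1 (hdvd i)
      obtain ⟨h, hh⟩ := h1
      refine ⟨(fun j => x (i.succAbove j), h), ?_⟩
      apply eq_of_dvd_iff
      intro n
      rw [prod_order_dvd_iff, pi_order_dvd_iff, pi_order_dvd_iff, hh, Fin.forall_iff_succAbove i]
      tauto
    · push Not at hcase
      have hmD : ∀ i ∈ (Set.univ : Set (Fin (k+1))), m i ∈ mu G \ mu H :=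
        fun i _ => ⟨hmμ i, hcase i⟩
      have hfin : (mu G \ mu H).Finite :=
        (Set.finite_range (orderOf : G → ℕ)).subset (fun n hn => hn.1.1)
      have hlt : (mu G \ mu H).ncard < (Set.univ : Set (Fin (k+1))).ncard := by
        rw [Set.ncard_univ, Nat.card_fin]; exact hfew
      obtain ⟨i, -, j, -, hij, hmij⟩ := Set.exists_ne_map_eq_of_ncard_lt_of_maps_to hlt hmD hfin
      have hl : Nat.lcm (orderOf (x i)) (orderOf (x j)) ∈ spec G :=
        spec_dvd_closed (hmμ i).1 (Nat.lcm_dvd (hdvd i) (hmij ▸ hdvd j))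
      obtain ⟨g', hg'⟩ := hl
      obtain ⟨i', hi'⟩ := Fin.exists_succAbove_eq hij
      refine ⟨(Function.update (fun l => x (j.succAbove l)) i' g', 1), ?_⟩
      symm
      apply eq_of_dvd_iff
      intro n
      rw [prod_order_dvd_iff, pi_order_dvd_iff, pi_order_dvd_iff, Fin.forall_iff_succAbove j,
        orderOf_one]
      constructor
      · rintro ⟨hj, hrest⟩
        refine ⟨fun l => ?_, one_dvd _⟩
        by_cases hl : l = i'
        · subst hl
          rw [Function.update_self, hg']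
          exact Nat.lcm_dvd (hi' ▸ hrest l) hj
        · rw [Function.update_of_ne hl]; exact hrest l
      · rintro ⟨hall, -⟩
        have h1 := hall i'
        rw [Function.update_self, hg'] at h1
        refine ⟨(Nat.lcm_dvd_iff.mp h1).2, fun l => ?_⟩
        by_cases hl : l = i'
        · subst hl; rw [hi']; exact (Nat.lcm_dvd_iff.mp h1).1
        · have := hall l
          rwa [Function.update_of_ne hl] at this
  · rintro _ ⟨⟨y, h⟩, rfl⟩
    obtain ⟨m, hm, hd⟩ := exists_mu_of_spec (X := H) ⟨h, rfl⟩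
    have h1 : orderOf h ∈ spec G := spec_dvd_closed (hsub hm).1 hd
    obtain ⟨g', hg'⟩ := h1
    refine ⟨Fin.cons g' y, ?_⟩
    apply eq_of_dvd_iff
    intro n
    rw [prod_order_dvd_iff, pi_order_dvd_iff, pi_order_dvd_iff, Fin.forall_fin_succ]
    simp only [Fin.cons_zero, Fin.cons_succ]
    rw [hg']; tauto

/-- For a finite group X write μ(X) for the set of element orders of X that are maximal under divisibility. Let G and H be finite groups and k ≥ 1 such that μ(H) ⊆ μ(G) and μ(G) has fewer than k elements outside μ(H). Then the direct product of k copies of G has the same set of element orders as the direct product of k − 1 copies of G with H. -/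
theorem result {G H : Type*} [Group G] [Finite G] [Group H] [Finite H] (k : ℕ) (hk : 1 ≤ k)
    (hsub : {n : ℕ | n ∈ Set.range (orderOf : H → ℕ) ∧ ∀ m ∈ Set.range (orderOf : H → ℕ), n ∣ m → m = n} ⊆ {n : ℕ | n ∈ Set.range (orderOf : G → ℕ) ∧ ∀ m ∈ Set.range (orderOf : G → ℕ), n ∣ m → m = n})
    (hfew : ({n : ℕ | n ∈ Set.range (orderOf : G → ℕ) ∧ ∀ m ∈ Set.range (orderOf : G → ℕ), n ∣ m → m = n} \ {n : ℕ | n ∈ Set.range (orderOf : H → ℕ) ∧ ∀ m ∈ Set.range (orderOf : H → ℕ), n ∣ m → m = n}).ncard < k) :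
    Set.range (orderOf : (Fin k → G) → ℕ) = Set.range (orderOf : (Fin (k - 1) → G) × H → ℕ) := by
  obtain ⟨k', rfl⟩ := Nat.exists_eq_add_of_le' hk
  exact main k' hsub hfew

end Cfsg.Agent.S2514
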