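import Cfsg.Statements.S2516
import Mathlib

set_option autoImplicit false
open Cfsg

namespace Cfsg.Agent.S2516

variable {F : Type*} [Field F] {V : Type*} [AddCommGroup V] [Module F V] {G : Type*} [Group G]

/-- the action hom -/
abbrev act (ρ : Representation F G V) : G →* MulAut (Multiplicative V) :=
  (MulAutMultiplicative V).symm.toMonoidHom.comp
        ((DistribMulAction.toAddAut ((V →ₗ[F] V)ˣ) V).comp ρ.asGroupHom)

theorem act_apply (ρ : Representation F G V) (g : G) (v : V) :
    act ρ g (Multiplicative.ofAdd v) = Multiplicative.ofAdd (ρ g v) := rfl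

theorem pow_eq (ρ : Representation F G V) (g : G) (v : V) (n : ℕ) :
    (⟨Multiplicative.ofAdd v, g⟩ : Multiplicative V ⋊[act ρ] G) ^ n =
      ⟨Multiplicative.ofAdd (∑ i ∈ Finset.range n, ((ρ g) ^ i) v), g ^ n⟩ := by
  induction n with
  | zero =>
    apply SemidirectProduct.ext
    · simp
    · simp
  | succ n ih =>
    rw [pow_succ, ih]
    apply SemidirectProduct.ext
    · rw [SemidirectProduct.mul_left]
      show Multiplicative.ofAdd (∑ i ∈ Finset.range n, ((ρ g) ^ i) v) *
        act ρ (g ^ n) (Multiplicative.ofAdd v) = Multiplicative.ofAdd (∑ i ∈ Finset.range (n+1), ((ρ g) ^ i) v)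
      rw [act_apply, Finset.sum_range_succ, ofAdd_add, map_pow]
    · rw [SemidirectProduct.mul_right]
      show g ^ n * g = g ^ (n + 1)
      rw [pow_succ]

theorem result {F : Type*} [Field F] (p : ℕ) [Fact p.Prime] [CharP F p] {V : Type*} [AddCommGroup V] [Module F V] [FiniteDimensional F V] [Nontrivial V]
    {G : Type*} [Group G] [Finite G] (ρ : Representation F G V) (g : G) :
    (∃ x : Multiplicative V ⋊[(MulAutMultiplicative V).symm.toMonoidHom.comp
        ((DistribMulAction.toAddAut ((V →ₗ[F] V)ˣ) V).comp ρ.asGroupHom)] G,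
        x.right = g ∧ orderOf x = p * orderOf g) ↔
      ¬ (minpoly F (ρ g) ∣ ∑ i ∈ Finset.range (orderOf g), (Polynomial.X : Polynomial F) ^ i) := by
  have hp : p.Prime := Fact.out
  have hk : 0 < orderOf g := orderOf_pos g
  rw [minpoly.dvd_iff]
  have haeval : Polynomial.aeval (ρ g) (∑ i ∈ Finset.range (orderOf g), (Polynomial.X : Polynomial F) ^ i)
      = ∑ i ∈ Finset.range (orderOf g), (ρ g) ^ i := by
    simp only [map_sum, map_pow, Polynomial.aeval_X]
  rw [haeval]
  -- key: x^k
  have hxk : ∀ v : V, (⟨Multiplicative.ofAdd v, g⟩ : Multiplicative V ⋊[act ρ] G) ^ (orderOf g) =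
      SemidirectProduct.inl (Multiplicative.ofAdd ((∑ i ∈ Finset.range (orderOf g), (ρ g) ^ i) v)) := by
    intro v
    rw [pow_eq]
    apply SemidirectProduct.ext
    · simp [LinearMap.sum_apply]
    · simp [pow_orderOf_eq_one]
  constructor
  · rintro ⟨x, hxg, hord⟩ hN
    have hx : x = (⟨Multiplicative.ofAdd (Multiplicative.toAdd x.left), g⟩ : Multiplicative V ⋊[act ρ] G) := by
      apply SemidirectProduct.ext
      · simp
      · exact hxg
    have h1 : x ^ (orderOf g) = 1 := by
      rw [hx, hxk, hN, LinearMap.zero_apply, ofAdd_zero, map_one]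
    have h2 : orderOf x ∣ orderOf g := orderOf_dvd_of_pow_eq_one h1
    rw [hord] at h2
    have h3 := Nat.le_of_dvd hk h2
    have h4 : 2 ≤ p := hp.two_le
    nlinarith
  · intro hN
    have hex : ∃ v : V, (∑ i ∈ Finset.range (orderOf g), (ρ g) ^ i) v ≠ 0 := by
      by_contra hcon
      push Not at hcon
      exact hN (LinearMap.ext hcon)
    obtain ⟨v, hv⟩ := hex
    set x : Multiplicative V ⋊[act ρ] G := ⟨Multiplicative.ofAdd v, g⟩ with hxdef
    refine ⟨x, rfl, ?_⟩
    set w := (∑ i ∈ Finset.range (orderOf g), (ρ g) ^ i) v with hw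
    have hy : x ^ (orderOf g) = SemidirectProduct.inl (Multiplicative.ofAdd w) := hxk v
    have hyp : (x ^ (orderOf g)) ^ p = 1 := by
      rw [hy, ← map_pow, ← ofAdd_nsmul]
      have : p • w = 0 := by
        have h1 : (p : F) = 0 := CharP.cast_eq_zero F p
        rw [← Nat.cast_smul_eq_nsmul F, h1, zero_smul]
      rw [this]
      simp
    have hy1 : x ^ (orderOf g) ≠ 1 := by
      rw [hy]
      intro h
      have h1 : Multiplicative.ofAdd w = 1 := by
        have := congrArg SemidirectProduct.left h
        simpa using this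
      exact hv (by simpa using h1)
    have hordy : orderOf (x ^ (orderOf g)) = p := orderOf_eq_prime hyp hy1
    have hdvd : orderOf g ∣ orderOf x := by
      have h1 : orderOf ((SemidirectProduct.rightHom : Multiplicative V ⋊[act ρ] G →* G) x) ∣ orderOf x :=
        orderOf_map_dvd _ x
      exact h1
    rw [orderOf_pow_of_dvd hk.ne' hdvd] at hordy
    rw [← hordy]
    exact (Nat.div_mul_cancel hdvd).symm

end Cfsg.Agent.S2516
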