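import Cfsg.Statements.S2531
import Mathlib

set_option autoImplicit false
open Cfsg

namespace Cfsg.Agent.S2531


open scoped BigOperators

/-- The arithmetic contradiction at the end of the double count. -/
theorem arith_core {A : Type*} (sA : Finset A) (hne : sA.Nonempty) (m : A → ℤ) (q Q c : ℤ)
    (hq : 2 ≤ q) (hQ : q ∣ Q) (hQpos : 0 < Q)
    (hA : (sA.card : ℤ) = q * Q)
    (hc : c * (q - 1) = q * Q - 1)
    (h1 : q * (q * Q - 1) * c = (q * Q - 1) * ∑ a ∈ sA, m a)
    (h2 : q * (q * Q - 1) * c ^ 2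
      = (q * Q - 1 - (Q - 1)) * ∑ a ∈ sA, (m a) ^ 2 + (Q - 1) * (∑ a ∈ sA, m a) ^ 2) : False := by
  have hpos : 0 < q * Q - 1 := by nlinarith
  have hs1 : ∑ a ∈ sA, m a = q * c := by
    have : (q * Q - 1) * (∑ a ∈ sA, m a - q * c) = 0 := by linear_combination -h1
    rcases mul_eq_zero.mp this with h | h
    · omega
    · linarith
  have hs2 : Q * ∑ a ∈ sA, (m a) ^ 2 = q * c ^ 2 := by
    have hq1 : 0 < q - 1 := by linarith
    have : (q - 1) * (Q * ∑ a ∈ sA, (m a) ^ 2 - q * c ^ 2) = 0 := by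
      rw [hs1] at h2
      linear_combination -h2
    rcases mul_eq_zero.mp this with h | h
    · omega
    · linarith
  have hsum : ∑ a ∈ sA, (Q * m a - c) ^ 2 = 0 := by
    have : ∑ a ∈ sA, (Q * m a - c) ^ 2
        = Q * (Q * ∑ a ∈ sA, (m a) ^ 2) - 2 * Q * c * ∑ a ∈ sA, m a + (sA.card : ℤ) * c ^ 2 := by
      have : ∀ a ∈ sA, (Q * m a - c) ^ 2 = Q * Q * (m a) ^ 2 - 2 * Q * c * m a + c ^ 2 := by
        intro a _; ring
      rw [Finset.sum_congr rfl this, Finset.sum_add_distrib, Finset.sum_sub_distrib,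
        ← Finset.mul_sum, ← Finset.mul_sum, Finset.sum_const, nsmul_eq_mul]
      ring
    rw [this, hs2, hs1, hA]; ring
  obtain ⟨a, ha⟩ := hne
  have h0 := (Finset.sum_eq_zero_iff_of_nonneg (fun a _ => sq_nonneg (Q * m a - c))).mp hsum a ha
  have hca : c = Q * m a := by
    have := pow_eq_zero_iff (two_ne_zero) |>.mp h0
    linarith
  obtain ⟨k, hk⟩ := hQ
  have hdvd : q ∣ 1 := by
    refine ⟨q * k - k * m a * (q - 1), ?_⟩
    rw [hca, hk] at hc
    linear_combination hc
  have := Int.le_of_dvd one_pos hdvd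
  omega

/-- The abstract double count. -/
theorem double_count {A U : Type*} [DecidableEq A] (sA : Finset A) (sU : Finset U)
    (R : A → U → Prop) [∀ a u, Decidable (R a u)]
    (m : A → ℤ) (c N1 N2 : ℤ)
    (hN1 : ∀ a ∈ sA, ((sU.filter (fun u => R a u)).card : ℤ) = N1)
    (hN2 : ∀ a ∈ sA, ∀ a' ∈ sA, a ≠ a' →
      ((sU.filter (fun u => R a u ∧ R a' u)).card : ℤ) = N2)
    (hg : ∀ u ∈ sU, ∑ a ∈ sA.filter (fun a => R a u), m a = c) :
    (sU.card : ℤ) * c = N1 * ∑ a ∈ sA, m a ∧
    (sU.card : ℤ) * c ^ 2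
      = (N1 - N2) * ∑ a ∈ sA, (m a) ^ 2 + N2 * (∑ a ∈ sA, m a) ^ 2 := by
  have hg' : ∀ u ∈ sU, ∑ a ∈ sA, (if R a u then m a else 0) = c := by
    intro u hu
    rw [← Finset.sum_filter]; exact hg u hu
  constructor
  · calc (sU.card : ℤ) * c = ∑ u ∈ sU, c := by simp
      _ = ∑ u ∈ sU, ∑ a ∈ sA, (if R a u then m a else 0) :=
          (Finset.sum_congr rfl (fun u hu => (hg' u hu).symm))
      _ = ∑ a ∈ sA, ∑ u ∈ sU, (if R a u then m a else 0) := Finset.sum_comm
      _ = ∑ a ∈ sA, N1 * m a := by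
          refine Finset.sum_congr rfl (fun a ha => ?_)
          rw [← Finset.sum_filter, Finset.sum_const, nsmul_eq_mul, hN1 a ha]
      _ = N1 * ∑ a ∈ sA, m a := by rw [Finset.mul_sum]
  · calc (sU.card : ℤ) * c ^ 2 = ∑ u ∈ sU, c * c := by simp [sq]
      _ = ∑ u ∈ sU, (∑ a ∈ sA, (if R a u then m a else 0))
            * (∑ a' ∈ sA, (if R a' u then m a' else 0)) :=
          (Finset.sum_congr rfl (fun u hu => by rw [hg' u hu]))
      _ = ∑ u ∈ sU, ∑ a ∈ sA, ∑ a' ∈ sA, (if R a u ∧ R a' u then m a * m a' else 0) := by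
          refine Finset.sum_congr rfl (fun u _ => ?_)
          rw [Finset.sum_mul_sum]
          refine Finset.sum_congr rfl (fun a _ => Finset.sum_congr rfl (fun a' _ => ?_))
          by_cases h1 : R a u <;> by_cases h2 : R a' u <;> simp [h1, h2]
      _ = ∑ a ∈ sA, ∑ a' ∈ sA, ∑ u ∈ sU, (if R a u ∧ R a' u then m a * m a' else 0) := by
          rw [Finset.sum_comm]
          refine Finset.sum_congr rfl (fun a _ => ?_)
          rw [Finset.sum_comm]
      _ = ∑ a ∈ sA, ∑ a' ∈ sA, (if a = a' then N1 else N2) * (m a * m a') := by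
          refine Finset.sum_congr rfl (fun a ha => Finset.sum_congr rfl (fun a' ha' => ?_))
          rw [← Finset.sum_filter, Finset.sum_const, nsmul_eq_mul]
          by_cases h : a = a'
          · subst h
            simp only [and_self, if_true]
            rw [hN1 a ha]
          · rw [if_neg h, hN2 a ha a' ha' h]
      _ = ∑ a ∈ sA, ∑ a' ∈ sA,
            ((if a = a' then (N1 - N2) * (m a * m a') else 0) + N2 * (m a * m a')) := by
          refine Finset.sum_congr rfl (fun a ha => Finset.sum_congr rfl (fun a' ha' => ?_))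
          by_cases h : a = a'
          · simp [h]; ring
          · simp [h]
      _ = (N1 - N2) * ∑ a ∈ sA, (m a) ^ 2 + N2 * (∑ a ∈ sA, m a) ^ 2 := by
          simp only [Finset.sum_add_distrib]
          congr 1
          · rw [Finset.mul_sum]
            refine Finset.sum_congr rfl (fun a ha => ?_)
            rw [Finset.sum_ite_eq sA a]
            simp [ha, sq]
          · rw [sq, Finset.sum_mul_sum, Finset.mul_sum]
            refine Finset.sum_congr rfl (fun a _ => ?_)
            rw [Finset.mul_sum]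



open scoped BigOperators

theorem card_fiber_mul {G M : Type*} [AddGroup G] [Fintype G] [DecidableEq G]
    [AddGroup M] [Fintype M] [DecidableEq M]
    (f : G →+ M) (hf : Function.Surjective f) (y : M) :
    (Finset.univ.filter (fun g => f g = y)).card * Fintype.card M = Fintype.card G := by
  have h := Finset.card_eq_sum_card_fiberwise (f := f) (s := Finset.univ) (t := Finset.univ)
    (fun _ _ => Finset.mem_univ _)
  rw [Finset.card_univ] at h
  rw [h, Finset.sum_congr rfl
    (fun b _ => AddMonoidHom.card_fiber_eq_of_mem_range f (hf b) (hf y))]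
  simp [mul_comm]

variable {F : Type*} [Field F] [Fintype F] [DecidableEq F] {n : ℕ}

/-- dot product against a fixed vector on the right, as an additive hom. -/
def dotR (w : Fin n → F) : (Fin n → F) →+ F where
  toFun a := a ⬝ᵥ w
  map_zero' := zero_dotProduct w
  map_add' a b := add_dotProduct a b w

/-- dot product against a fixed vector on the left, as an additive hom. -/
def dotL (a : Fin n → F) : (Fin n → F) →+ F where
  toFun u := a ⬝ᵥ u
  map_zero' := dotProduct_zero a
  map_add' u v := dotProduct_add a u v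

/-- pair of dot products. -/
def dotL2 (a a' : Fin n → F) : (Fin n → F) →+ F × F where
  toFun u := (a ⬝ᵥ u, a' ⬝ᵥ u)
  map_zero' := by simp
  map_add' u v := by simp [dotProduct_add]

theorem dotR_surj (w : Fin n → F) (hw : w ≠ 0) : Function.Surjective (dotR w) := by
  intro y
  obtain ⟨i, hi⟩ : ∃ i, w i ≠ 0 := by
    by_contra h
    push Not at h
    exact hw (funext h)
  refine ⟨Pi.single i (y / w i), ?_⟩
  change Pi.single i (y / w i) ⬝ᵥ w = y
  rw [single_dotProduct]
  field_simp

theorem dotL_surj (a w : Fin n → F) (haw : a ⬝ᵥ w = 1) : Function.Surjective (dotL a) := by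
  intro y
  refine ⟨y • w, ?_⟩
  change a ⬝ᵥ (y • w) = y
  rw [dotProduct_smul, haw, smul_eq_mul, mul_one]

theorem dotL2_surj (a a' w : Fin n → F) (haw : a ⬝ᵥ w = 1) (haw' : a' ⬝ᵥ w = 1)
    (hne : a ≠ a') : Function.Surjective (dotL2 a a') := by
  obtain ⟨i, hi⟩ : ∃ i, a i ≠ a' i := by
    by_contra h
    push Not at h
    exact hne (funext h)
  have hi' : a i - a' i ≠ 0 := sub_ne_zero.mpr hi
  rintro ⟨x, y⟩
  refine ⟨Pi.single i ((x - y) / (a i - a' i)) + (x - (x - y) / (a i - a' i) * a i) • w, ?_⟩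
  change (a ⬝ᵥ _, a' ⬝ᵥ _) = (x, y)
  rw [dotProduct_add, dotProduct_add, dotProduct_smul, dotProduct_smul, haw, haw',
    dotProduct_single, dotProduct_single]
  refine Prod.ext ?_ ?_
  · simp only [smul_eq_mul]; field_simp; ring
  · simp only [smul_eq_mul]; field_simp; ring

theorem card_vec : Fintype.card (Fin n → F) = Fintype.card F ^ n := by
  simp

/-- (G0) -/
theorem card_sA (w : Fin n → F) (hw : w ≠ 0) :
    (Finset.univ.filter (fun a : Fin n → F => a ⬝ᵥ w = 1)).card * Fintype.card F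
      = Fintype.card F ^ n := by
  have := card_fiber_mul (dotR w) (dotR_surj w hw) 1
  rw [card_vec] at this
  exact this

/-- (Gk1) -/
theorem card_ker1 (a w : Fin n → F) (haw : a ⬝ᵥ w = 1) :
    (Finset.univ.filter (fun u : Fin n → F => a ⬝ᵥ u = 0)).card * Fintype.card F
      = Fintype.card F ^ n := by
  have := card_fiber_mul (dotL a) (dotL_surj a w haw) 0
  rw [card_vec] at this
  exact this

/-- (Gk2) -/
theorem card_ker2 (a a' w : Fin n → F) (haw : a ⬝ᵥ w = 1) (haw' : a' ⬝ᵥ w = 1)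
    (hne : a ≠ a') :
    (Finset.univ.filter (fun u : Fin n → F => a ⬝ᵥ u = 0 ∧ a' ⬝ᵥ u = 0)).card
      * (Fintype.card F * Fintype.card F) = Fintype.card F ^ n := by
  have := card_fiber_mul (dotL2 a a') (dotL2_surj a a' w haw haw' hne) 0
  rw [card_vec, Fintype.card_prod] at this
  rw [← this]
  congr 2
  ext u
  simp only [Finset.mem_filter, Finset.mem_univ, true_and]
  change _ ↔ (a ⬝ᵥ u, a' ⬝ᵥ u) = (0, 0)
  rw [Prod.mk.injEq]

/-- the set of vectors off the line `F w`. -/
def offLine (w : Fin n → F) : Finset (Fin n → F) :=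
  Finset.univ.filter (fun u => ∀ c : F, u ≠ c • w)

/-- (G4) -/
theorem card_offLine (w : Fin n → F) (hw : w ≠ 0) :
    (offLine w).card + Fintype.card F = Fintype.card F ^ n := by
  have h1 : (Finset.univ.filter (fun u : Fin n → F => ¬ ∀ c : F, u ≠ c • w)).card
      = Fintype.card F := by
    have : Finset.univ.filter (fun u : Fin n → F => ¬ ∀ c : F, u ≠ c • w)
        = Finset.univ.image (fun c : F => c • w) := by
      ext u
      simp only [Finset.mem_filter, Finset.mem_univ, true_and, Finset.mem_image, not_forall,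
        not_not]
      exact ⟨fun ⟨c, hc⟩ => ⟨c, hc.symm⟩, fun ⟨c, hc⟩ => ⟨c, hc.symm⟩⟩
    rw [this, Finset.card_image_of_injective _ (smul_left_injective F hw), Finset.card_univ]
  have h2 := Finset.card_filter_add_card_filter_not (s := (Finset.univ : Finset (Fin n → F)))
    (fun u => ∀ c : F, u ≠ c • w)
  rw [Finset.card_univ, card_vec, h1] at h2
  exact h2

/-- off the line and in the kernel of `a` (with `a ⬝ w = 1`) = nonzero in the kernel. -/
theorem offLine_filter1 (a w : Fin n → F) (haw : a ⬝ᵥ w = 1) :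
    (offLine w).filter (fun u => a ⬝ᵥ u = 0)
      = (Finset.univ.filter (fun u : Fin n → F => a ⬝ᵥ u = 0)).erase 0 := by
  ext u
  simp only [offLine, Finset.mem_filter, Finset.mem_univ, true_and, Finset.mem_erase]
  constructor
  · rintro ⟨h1, h2⟩
    refine ⟨?_, h2⟩
    intro h0
    exact h1 0 (by rw [h0, zero_smul])
  · rintro ⟨h0, h2⟩
    refine ⟨?_, h2⟩
    intro c hc
    apply h0
    rw [hc, dotProduct_smul, haw, smul_eq_mul, mul_one] at h2
    rw [hc, h2, zero_smul]

theorem offLine_filter2 (a a' w : Fin n → F) (haw : a ⬝ᵥ w = 1) :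
    (offLine w).filter (fun u => a ⬝ᵥ u = 0 ∧ a' ⬝ᵥ u = 0)
      = (Finset.univ.filter (fun u : Fin n → F => a ⬝ᵥ u = 0 ∧ a' ⬝ᵥ u = 0)).erase 0 := by
  ext u
  simp only [offLine, Finset.mem_filter, Finset.mem_univ, true_and, Finset.mem_erase]
  constructor
  · rintro ⟨h1, h2⟩
    refine ⟨?_, h2⟩
    intro h0
    exact h1 0 (by rw [h0, zero_smul])
  · rintro ⟨h0, h2⟩
    refine ⟨?_, h2⟩
    intro c hc
    apply h0
    have h3 := h2.1
    rw [hc, dotProduct_smul, haw, smul_eq_mul, mul_one] at h3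
    rw [hc, h3, zero_smul]



open scoped BigOperators

variable {F : Type*} [Field F] {n : ℕ}

/-- the point set of the hyperplane `b ⬝ x = 0`. -/
def Z (b : Fin n → F) : Set (Projectivization F (Fin n → F)) := {x | b ⬝ᵥ x.rep = 0}

theorem mk_mem_Z (b v : Fin n → F) (hv : v ≠ 0) :
    Projectivization.mk F v hv ∈ Z b ↔ b ⬝ᵥ v = 0 := by
  obtain ⟨t, ht⟩ := Projectivization.exists_smul_eq_mk_rep F v hv
  change b ⬝ᵥ (Projectivization.mk F v hv).rep = 0 ↔ _
  rw [← ht, Units.smul_def, dotProduct_smul, smul_eq_mul, mul_eq_zero]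
  constructor
  · rintro (h | h)
    · exact absurd h t.ne_zero
    · exact h
  · exact fun h => Or.inr h

theorem card_Z_mul [Fintype F] [DecidableEq F] [Fintype (Projectivization F (Fin n → F))]
    (b : Fin n → F) [DecidablePred (fun x : Projectivization F (Fin n → F) => x ∈ Z b)] :
    (Finset.univ.filter (fun x : Projectivization F (Fin n → F) => x ∈ Z b)).card
        * (Fintype.card F - 1)
      = ((Finset.univ.filter (fun u : Fin n → F => b ⬝ᵥ u = 0)).erase 0).card := by
  rw [← Fintype.card_units, ← Finset.card_univ (α := Fˣ), ← Finset.card_product]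
  refine Finset.card_bij (fun p _ => (p.2 : F) • p.1.rep) ?_ ?_ ?_
  · rintro ⟨x, t⟩ hp
    simp only [Finset.mem_product, Finset.mem_filter, Finset.mem_univ, true_and, and_true] at hp
    simp only [Finset.mem_erase, Finset.mem_filter, Finset.mem_univ, true_and]
    refine ⟨smul_ne_zero t.ne_zero x.rep_nonzero, ?_⟩
    rw [dotProduct_smul, show b ⬝ᵥ x.rep = 0 from hp, smul_zero]
  · rintro ⟨x, t⟩ _ ⟨x', t'⟩ _ h
    simp only at h
    have hx : x = x' := by
      rw [← x.mk_rep, ← x'.mk_rep, Projectivization.mk_eq_mk_iff]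
      refine ⟨t⁻¹ * t', ?_⟩
      rw [mul_smul, Units.smul_def t', ← h, Units.smul_def, smul_smul]
      simp
    subst hx
    have ht : (t : F) = t' := by
      have := sub_smul (t : F) (t' : F) x.rep
      rw [h, sub_self] at this
      rcases smul_eq_zero.mp this with h0 | h0
      · exact sub_eq_zero.mp h0
      · exact absurd h0 x.rep_nonzero
    rw [Units.ext ht]
  · intro v hv
    simp only [Finset.mem_erase, Finset.mem_filter, Finset.mem_univ, true_and] at hv
    obtain ⟨hv0, hbv⟩ := hv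
    obtain ⟨t, ht⟩ := Projectivization.exists_smul_eq_mk_rep F v hv0
    refine ⟨(Projectivization.mk F v hv0, t⁻¹), ?_, ?_⟩
    · simp only [Finset.mem_product, Finset.mem_filter, Finset.mem_univ, true_and, and_true]
      exact (mk_mem_Z b v hv0).mpr hbv
    · simp only
      rw [← ht, Units.smul_def, smul_smul]
      simp

/-- the pulled-back functional of a semilinear map. -/
theorem exists_pullback (b : Fin n → F) (σ : F ≃+* F)
    (f : (Fin n → F) →ₛₗ[(σ : F →+* F)] (Fin n → F)) :
    ∃ a' : Fin n → F, ∀ y, a' ⬝ᵥ y = σ.symm (b ⬝ᵥ f y) := by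
  classical
  refine ⟨fun i => σ.symm (b ⬝ᵥ f (fun j => if i = j then 1 else 0)), ?_⟩
  intro y
  conv_rhs => rw [pi_eq_sum_univ y]
  rw [map_sum, dotProduct_sum, map_sum]
  rw [dotProduct]
  refine Finset.sum_congr rfl (fun i _ => ?_)
  rw [LinearMap.map_smulₛₗ, dotProduct_smul, smul_eq_mul, map_mul]
  simp [mul_comm]

theorem exists_normalized (b w w' : Fin n → F) (hw : w ≠ 0) (hw' : w' ≠ 0)
    (hbw' : b ⬝ᵥ w' ≠ 0)
    (s : Equiv.Perm (Projectivization F (Fin n → F)))
    (hs : ∃ (σ : F ≃+* F) (f : (Fin n → F) →ₛₗ[(σ : F →+* F)] (Fin n → F))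
      (hf : Function.Injective f), ∀ x, s x = Projectivization.map f hf x)
    (hsw : s (Projectivization.mk F w hw) = Projectivization.mk F w' hw') :
    ∃ a : Fin n → F, a ⬝ᵥ w = 1 ∧
      ∀ y (hy : y ≠ 0), (a ⬝ᵥ y = 0 ↔ s (Projectivization.mk F y hy) ∈ Z b) := by
  obtain ⟨σ, f, hf, hsx⟩ := hs
  obtain ⟨a', ha'⟩ := exists_pullback b σ f
  have key : ∀ y (hy : y ≠ 0), (a' ⬝ᵥ y = 0 ↔ s (Projectivization.mk F y hy) ∈ Z b) := by
    intro y hy
    rw [hsx, Projectivization.map_mk, mk_mem_Z, ha']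
    exact (map_eq_zero_iff σ.symm σ.symm.injective)
  have hne : a' ⬝ᵥ w ≠ 0 := by
    intro h0
    have := (key w hw).mp h0
    rw [hsw, mk_mem_Z] at this
    exact hbw' this
  refine ⟨(a' ⬝ᵥ w)⁻¹ • a', ?_, ?_⟩
  · rw [smul_dotProduct, smul_eq_mul, inv_mul_cancel₀ hne]
  · intro y hy
    rw [← key y hy, smul_dotProduct, smul_eq_mul, mul_eq_zero]
    constructor
    · rintro (h | h)
      · exact absurd h (inv_ne_zero hne)
      · exact h
    · exact fun h => Or.inr h



open scoped BigOperators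

theorem main {F : Type*} [Field F] [Finite F]
    (n : ℕ) (hn : 3 ≤ n) (S : Set (Equiv.Perm (Projectivization F (Fin n → F))))
    (hS : ∀ s ∈ S, ∃ (σ : F ≃+* F) (f : (Fin n → F) →ₛₗ[(σ : F →+* F)] (Fin n → F))
      (hf : Function.Injective f), ∀ x, s x = Projectivization.map f hf x)
    (h2 : ∀ a b c d : Projectivization F (Fin n → F), a ≠ b → c ≠ d →
        ∃! s, s ∈ S ∧ s a = c ∧ s b = d) : False := by
  classical
  haveI : Fintype F := Fintype.ofFinite F
  haveI : Fintype (Projectivization F (Fin n → F)) := Fintype.ofFinite _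
  set i0 : Fin n := ⟨0, by omega⟩ with hi0
  set w : Fin n → F := Pi.single i0 1 with hwdef
  have hww : w ⬝ᵥ w = 1 := by
    rw [hwdef, single_dotProduct, Pi.single_eq_same, mul_one]
  have hw : w ≠ 0 := by
    intro h; rw [h, zero_dotProduct] at hww; exact zero_ne_one hww
  set α := Projectivization.mk F w hw with hα
  have hαZ : α ∉ Z w := by
    rw [hα, mk_mem_Z, hww]; exact one_ne_zero
  set X : Finset (Equiv.Perm (Projectivization F (Fin n → F))) :=
    Finset.univ.filter (fun s => s ∈ S ∧ s α = α) with hX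
  have hex : ∀ s, s ∈ X → ∃ a : Fin n → F, a ⬝ᵥ w = 1 ∧
      ∀ y (hy : y ≠ 0), (a ⬝ᵥ y = 0 ↔ s (Projectivization.mk F y hy) ∈ Z w) := by
    intro s hs
    rw [hX, Finset.mem_filter] at hs
    exact exists_normalized w w w hw hw (by rw [hww]; exact one_ne_zero) s
      (hS s hs.2.1) hs.2.2
  let as : Equiv.Perm (Projectivization F (Fin n → F)) → (Fin n → F) :=
    fun s => if h : s ∈ X then (hex s h).choose else 0
  have has1 : ∀ s ∈ X, as s ⬝ᵥ w = 1 := by
    intro s hs
    simp only [as, dif_pos hs]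
    exact (hex s hs).choose_spec.1
  have has2 : ∀ s ∈ X, ∀ y (hy : y ≠ 0),
      (as s ⬝ᵥ y = 0 ↔ s (Projectivization.mk F y hy) ∈ Z w) := by
    intro s hs
    simp only [as, dif_pos hs]
    exact (hex s hs).choose_spec.2
  set sA : Finset (Fin n → F) := Finset.univ.filter (fun a => a ⬝ᵥ w = 1) with hsA
  set m : (Fin n → F) → ℤ := fun a => ∑ s ∈ X, if as s = a then 1 else 0 with hm
  set cn : ℕ :=
    (Finset.univ.filter (fun x : Projectivization F (Fin n → F) => x ∈ Z w)).card with hcn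
  -- the key count
  have hg : ∀ u ∈ offLine w, ∑ a ∈ sA.filter (fun a => a ⬝ᵥ u = 0), m a = (cn : ℤ) := by
    intro u hu
    have hu' : ∀ c : F, u ≠ c • w := by
      simpa only [offLine, Finset.mem_filter, Finset.mem_univ, true_and] using hu
    have hu0 : u ≠ 0 := by
      intro h0; exact hu' 0 (by rw [h0, zero_smul])
    set β := Projectivization.mk F u hu0 with hβ
    have hβα : α ≠ β := by
      intro h
      rw [hα, hβ, Projectivization.mk_eq_mk_iff] at h
      obtain ⟨t, ht⟩ := h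
      apply hu' ((t⁻¹ : Fˣ) : F)
      rw [← ht, Units.smul_def, smul_smul]
      simp
    simp only [hm]
    rw [Finset.sum_comm]
    have hstep : ∀ s ∈ X,
        (∑ a ∈ sA.filter (fun a => a ⬝ᵥ u = 0), if as s = a then (1 : ℤ) else 0)
          = if s β ∈ Z w then 1 else 0 := by
      intro s hs
      rw [Finset.sum_ite_eq]
      have hiff : as s ∈ sA.filter (fun a => a ⬝ᵥ u = 0) ↔ s β ∈ Z w := by
        rw [Finset.mem_filter, hsA, Finset.mem_filter]
        simp only [Finset.mem_univ, true_and]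
        rw [← has2 s hs u hu0]
        exact ⟨fun h => h.2, fun h => ⟨has1 s hs, h⟩⟩
      simp only [hiff]
    rw [Finset.sum_congr rfl hstep, Finset.sum_boole, hcn]
    congr 1
    refine Finset.card_bij (fun s _ => s β) ?_ ?_ ?_
    · intro s hs
      rw [Finset.mem_filter] at hs
      rw [Finset.mem_filter]
      exact ⟨Finset.mem_univ _, hs.2⟩
    · intro s1 hs1 s2 hs2 h12
      rw [Finset.mem_filter, hX, Finset.mem_filter] at hs1 hs2
      have hne : α ≠ s1 β := by
        intro h; rw [← h] at hs1; exact hαZ hs1.2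
      exact (h2 α β α (s1 β) hβα hne).unique ⟨hs1.1.2.1, hs1.1.2.2, rfl⟩
        ⟨hs2.1.2.1, hs2.1.2.2, h12.symm⟩
    · intro δ hδ
      rw [Finset.mem_filter] at hδ
      have hne : α ≠ δ := by
        intro h; rw [← h] at hδ; exact hαZ hδ.2
      obtain ⟨s, ⟨hsS, hsα, hsβ⟩, -⟩ := h2 α β α δ hβα hne
      refine ⟨s, ?_, hsβ⟩
      rw [Finset.mem_filter, hX, Finset.mem_filter]
      exact ⟨⟨Finset.mem_univ _, hsS, hsα⟩, by rw [hsβ]; exact hδ.2⟩
  -- numerics
  set q : ℕ := Fintype.card F with hq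
  have hq2 : 2 ≤ q := Fintype.one_lt_card
  have hq0 : 0 < q := by omega
  set Qn : ℕ := q ^ (n - 2) with hQn
  have hpow : q ^ n = q * q * Qn := by
    have : n = (n - 2) + 2 := by omega
    conv_lhs => rw [this]
    rw [hQn]; ring
  have hQdvd : q ∣ Qn := dvd_pow_self q (by omega)
  have hQpos : 0 < Qn := pow_pos hq0 _
  have hK1 : ∀ a : Fin n → F, a ⬝ᵥ w = 1 →
      (Finset.univ.filter (fun u : Fin n → F => a ⬝ᵥ u = 0)).card = q * Qn := by
    intro a ha
    have := card_ker1 a w ha
    rw [← hq, hpow] at this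
    exact Nat.eq_of_mul_eq_mul_right hq0 (by rw [this]; ring)
  have hK2 : ∀ a a' : Fin n → F, a ⬝ᵥ w = 1 → a' ⬝ᵥ w = 1 → a ≠ a' →
      (Finset.univ.filter (fun u : Fin n → F => a ⬝ᵥ u = 0 ∧ a' ⬝ᵥ u = 0)).card = Qn := by
    intro a a' ha ha' hne
    have := card_ker2 a a' w ha ha' hne
    rw [← hq, hpow] at this
    exact Nat.eq_of_mul_eq_mul_right (Nat.mul_pos hq0 hq0) (by rw [this]; ring)
  have hcardA : sA.card = q * Qn := by
    have := card_sA w hw
    rw [← hq, hpow] at this
    exact Nat.eq_of_mul_eq_mul_right hq0 (by rw [this]; ring)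
  have hcardU : ((offLine w).card : ℤ) = (q : ℤ) * ((q : ℤ) * (Qn : ℤ) - 1) := by
    have := card_offLine w hw
    rw [← hq, hpow] at this
    have h' : (((offLine w).card + q : ℕ) : ℤ) = ((q * q * Qn : ℕ) : ℤ) := by rw [this]
    push_cast at h'
    linarith
  have hN1 : ∀ a ∈ sA, (((offLine w).filter (fun u => a ⬝ᵥ u = 0)).card : ℤ)
      = (q : ℤ) * (Qn : ℤ) - 1 := by
    intro a ha
    rw [hsA, Finset.mem_filter] at ha
    rw [offLine_filter1 a w ha.2]
    have h0 : (0 : Fin n → F) ∈ Finset.univ.filter (fun u : Fin n → F => a ⬝ᵥ u = 0) := by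
      simp
    have := Finset.card_erase_add_one h0
    rw [hK1 a ha.2] at this
    have h' : ((((Finset.univ.filter (fun u : Fin n → F => a ⬝ᵥ u = 0)).erase 0).card + 1 : ℕ) : ℤ)
        = ((q * Qn : ℕ) : ℤ) := by rw [this]
    push_cast at h'
    linarith
  have hN2 : ∀ a ∈ sA, ∀ a' ∈ sA, a ≠ a' →
      (((offLine w).filter (fun u => a ⬝ᵥ u = 0 ∧ a' ⬝ᵥ u = 0)).card : ℤ) = (Qn : ℤ) - 1 := by
    intro a ha a' ha' hne
    rw [hsA, Finset.mem_filter] at ha ha'
    rw [offLine_filter2 a a' w ha.2]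
    have h0 : (0 : Fin n → F) ∈
        Finset.univ.filter (fun u : Fin n → F => a ⬝ᵥ u = 0 ∧ a' ⬝ᵥ u = 0) := by
      simp
    have := Finset.card_erase_add_one h0
    rw [hK2 a a' ha.2 ha'.2 hne] at this
    have h' : ((((Finset.univ.filter
        (fun u : Fin n → F => a ⬝ᵥ u = 0 ∧ a' ⬝ᵥ u = 0)).erase 0).card + 1 : ℕ) : ℤ)
        = ((Qn : ℕ) : ℤ) := by rw [this]
    push_cast at h'
    linarith
  have hcq : (cn : ℤ) * ((q : ℤ) - 1) = (q : ℤ) * (Qn : ℤ) - 1 := by
    have h1 := card_Z_mul (F := F) (n := n) w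
    have h0 : (0 : Fin n → F) ∈ Finset.univ.filter (fun u : Fin n → F => w ⬝ᵥ u = 0) := by
      simp
    have h3 := Finset.card_erase_add_one h0
    rw [hK1 w hww] at h3
    rw [← hcn, ← hq] at h1
    have h' : ((cn * (q - 1) + 1 : ℕ) : ℤ) = ((q * Qn : ℕ) : ℤ) := by rw [h1, h3]
    push_cast [Nat.cast_sub (show 1 ≤ q by omega)] at h'
    linarith
  obtain ⟨e1, e2⟩ := double_count sA (offLine w) (fun a u => a ⬝ᵥ u = 0) m (cn : ℤ)
    ((q : ℤ) * (Qn : ℤ) - 1) ((Qn : ℤ) - 1) hN1 hN2 hg
  rw [hcardU] at e1 e2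
  refine arith_core sA ⟨w, by rw [hsA, Finset.mem_filter]; exact ⟨Finset.mem_univ _, hww⟩⟩ m
    (q : ℤ) (Qn : ℤ) (cn : ℤ) (by exact_mod_cast hq2) (by exact_mod_cast hQdvd)
    (by exact_mod_cast hQpos) (by rw [hcardA]; push_cast; ring) hcq ?_ ?_
  · linarith
  · linarith




/-- Let `F` be a finite field and `n ≥ 3`. No set of permutations of the points of the projective space of `Fⁿ`, each induced by an invertible semilinear transformation of `Fⁿ` (so a subset of the full projective semilinear group), is sharply 2-transitive on the points: it is impossible that for all pairs of distinct points `(a, b)` and `(c, d)` exactly one member of the set sends `a` to `c` and `b` to `d`. -/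
theorem result {F : Type*} [Field F] [Finite F]
    (n : ℕ) (hn : 3 ≤ n) (S : Set (Equiv.Perm (Projectivization F (Fin n → F))))
    (hS : ∀ s ∈ S, ∃ (σ : F ≃+* F) (f : (Fin n → F) →ₛₗ[(σ : F →+* F)] (Fin n → F)) (hf : Function.Injective f),
      ∀ x, s x = Projectivization.map f hf x) :
    ¬ (∀ a b c d : Projectivization F (Fin n → F), a ≠ b → c ≠ d →
        ∃! s, s ∈ S ∧ s a = c ∧ s b = d) := by
  intro h2
  exact main n hn S hS h2

end Cfsg.Agent.S2531
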