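import Cfsg.Statements.S2532
import Cfsg.Agent.Lib.Helper23.CentAlt

set_option autoImplicit false
open Cfsg

namespace Cfsg.Agent.S2532

/-- There is a function `f` of two natural-number arguments such that, whenever `m ≥ f(n, r)`, every subgroup of order `n` of the alternating group of degree `m` centralizes some subgroup of that alternating group isomorphic to the alternating group of degree `r`. -/
theorem result :
    ∃ f : ℕ → ℕ → ℕ, ∀ (m r : ℕ) (H : Subgroup ↥(alternatingGroup (Fin m))), f (Nat.card H) r ≤ m →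
      ∃ K : Subgroup ↥(alternatingGroup (Fin m)), Nonempty (↥K ≃* ↥(alternatingGroup (Fin r))) ∧
        K ≤ Subgroup.centralizer (H : Set ↥(alternatingGroup (Fin m))) := by
  refine ⟨fun n r => 2 ^ n * (n * r) + 1, ?_⟩
  intro m r H hm
  have hcard : 2 ^ Nat.card H * (Nat.card H * r) < Fintype.card (Fin m) := by
    rw [Fintype.card_fin]; have hm' : 2 ^ Nat.card H * (Nat.card H * r) + 1 ≤ m := hm; omega
  obtain ⟨Ψ, hΨ, hcomm⟩ := Cfsg.Agent.Lib.Helper23.CentAlt.exists_hom (H := H) (β := Fin m) r hcard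
  refine ⟨Ψ.range, ⟨(MonoidHom.ofInjective hΨ).symm⟩, ?_⟩
  rintro k ⟨a, rfl⟩
  rw [Subgroup.mem_centralizer_iff]
  intro h hh
  apply Subtype.ext
  apply Equiv.Perm.ext
  intro y
  have := hcomm a ⟨h, hh⟩ y
  show (h : Equiv.Perm (Fin m)) (((Ψ a : alternatingGroup (Fin m)) : Equiv.Perm (Fin m)) y) =
    ((Ψ a : alternatingGroup (Fin m)) : Equiv.Perm (Fin m)) ((h : Equiv.Perm (Fin m)) y)
  exact this.symm

end Cfsg.Agent.S2532
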