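import Mathlib
import Cfsg.Statements.S2537
import Cfsg.Agent.S0799
import Cfsg.Agent.S0802
import Cfsg.Agent.S0803
import Cfsg.Agent.Lib.Helper12.DkU
import Cfsg.Agent.Lib.Helper1.DkOrders
import Cfsg.Agent.Lib.Helper1.DkSolv
import Cfsg.Agent.Lib.Helper13.Hall
import Cfsg.Agent.Lib.Helper16.DkMax2

set_option autoImplicit false
set_option maxHeartbeats 1000000
open Cfsg

namespace Cfsg.Agent.S2537

open Cfsg.Agent.Lib.Helper16.DkMax

local notation "PSL2" => Matrix.ProjectiveSpecialLinearGroup (Fin 2)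
local notation "PGL2" => Matrix.ProjGenLinGroup (Fin 2)

/-- splitting off the `{2,3}`-part -/
theorem split23 (N : ℕ) (hN : N ≠ 0) :
    ∃ R, N = 2 ^ N.factorization 2 * 3 ^ N.factorization 3 * R ∧ ¬ 2 ∣ R ∧ ¬ 3 ∣ R := by
  obtain ⟨x, N', h2N', hNe⟩ := Nat.exists_eq_pow_mul_and_not_dvd hN 2 (by norm_num)
  have hN'0 : N' ≠ 0 := by
    rintro rfl
    rw [mul_zero] at hNe
    exact hN hNe
  obtain ⟨y, R, h3R, hN'e⟩ := Nat.exists_eq_pow_mul_and_not_dvd hN'0 3 (by norm_num)
  have hR0 : R ≠ 0 := by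
    rintro rfl
    rw [mul_zero] at hN'e
    exact hN'0 hN'e
  have h2R : ¬ 2 ∣ R := fun h => h2N' (by rw [hN'e]; exact Dvd.dvd.mul_left h _)
  have h2x : (2 : ℕ) ^ x ≠ 0 := by positivity
  have h3y : (3 : ℕ) ^ y ≠ 0 := by positivity
  have h3yR : 3 ^ y * R ≠ 0 := mul_ne_zero h3y hR0
  have fx : N.factorization 2 = x := by
    rw [hNe, hN'e, Nat.factorization_mul h2x h3yR, Nat.factorization_mul h3y hR0,
      Nat.factorization_pow, Nat.factorization_pow]
    simp [Nat.Prime.factorization_self Nat.prime_two,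
      Nat.factorization_eq_zero_of_not_dvd h2R,
      Nat.factorization_eq_zero_of_not_dvd (by norm_num : ¬ 2 ∣ 3)]
  have fy : N.factorization 3 = y := by
    rw [hNe, hN'e, Nat.factorization_mul h2x h3yR, Nat.factorization_mul h3y hR0,
      Nat.factorization_pow, Nat.factorization_pow]
    simp [Nat.Prime.factorization_self Nat.prime_three,
      Nat.factorization_eq_zero_of_not_dvd h3R,
      Nat.factorization_eq_zero_of_not_dvd (by norm_num : ¬ 3 ∣ 2)]
  refine ⟨R, ?_, h2R, h3R⟩
  rw [fx, fy, mul_assoc, ← hN'e, ← hNe]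

/-- prime divisors of `2^x * 3^y` -/
theorem prime_dvd_23 {x y r : ℕ} (hr : r.Prime) (h : r ∣ 2 ^ x * 3 ^ y) : r = 2 ∨ r = 3 := by
  rcases (Nat.Prime.dvd_mul hr).mp h with h | h
  · left
    exact (Nat.prime_dvd_prime_iff_eq hr Nat.prime_two).mp (hr.dvd_of_dvd_pow h)
  · right
    exact (Nat.prime_dvd_prime_iff_eq hr Nat.prime_three).mp (hr.dvd_of_dvd_pow h)

theorem coprime_of_23 {a b : ℕ} (ha : ∀ r : ℕ, r.Prime → r ∣ a → r = 2 ∨ r = 3) (h2 : ¬ 2 ∣ b)
    (h3 : ¬ 3 ∣ b) : Nat.Coprime a b := by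
  apply Nat.coprime_of_dvd
  intro k hk hka hkb
  rcases ha k hk hka with rfl | rfl
  · exact h2 hkb
  · exact h3 hkb

theorem not_dvd_mul {r a b : ℕ} (hr : r.Prime) (ha : ¬ r ∣ a) (hb : ¬ r ∣ b) : ¬ r ∣ a * b := by
  intro h
  rcases (Nat.Prime.dvd_mul hr).mp h with h | h
  · exact ha h
  · exact hb h

theorem isPiHall_of {G : Type*} [Group G] (H : Subgroup G)
    (h1 : ∀ r : ℕ, r.Prime → r ∣ Nat.card H → r = 2 ∨ r = 3) (h2 : ¬ 2 ∣ H.index)
    (h3 : ¬ 3 ∣ H.index) : Cfsg.IsPiHall ({2, 3} : Set ℕ) H := by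
  refine ⟨fun r hr hd => ?_, fun r _ hmem hd => ?_⟩
  · rcases h1 r hr hd with rfl | rfl
    · exact Set.mem_insert _ _
    · exact Set.mem_insert_of_mem _ rfl
  · rcases hmem with rfl | rfl
    · exact h2 hd
    · exact h3 hd

/-- a Hall `{2,3}`-subgroup inside a dihedral subgroup of order `c`, where `2|G| = q c c'` -/
theorem hall_of_dihedral {G : Type*} [Group G] [Finite G] (D : Subgroup G) (k : ℕ)
    (e : D ≃* DihedralGroup k) (q c c' : ℕ) (hk : 2 * k = c) (hc0 : c ≠ 0)
    (hG : 2 * Nat.card G = q * c * c') (h2q : ¬ 2 ∣ q) (h3q : ¬ 3 ∣ q)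
    (hc'4 : c' % 4 = 2) (hc'3 : ¬ 3 ∣ c') :
    ∃ H : Subgroup G, Cfsg.IsPiHall ({2, 3} : Set ℕ) H := by
  classical
  have : Group.IsSolvable (DihedralGroup k) := Cfsg.Agent.Lib.Helper1.DkSolv.dihedral_solvable k
  have : Group.IsSolvable D :=
    Group.isSolvable_of_isSolvable_injective (f := e.toMonoidHom) e.injective
  have hDcard : Nat.card D = c := by
    rw [Nat.card_congr e.toEquiv, DihedralGroup.nat_card, hk]
  obtain ⟨R, hcR, h2R, h3R⟩ := split23 c hc0
  set m := 2 ^ c.factorization 2 * 3 ^ c.factorization 3 with hm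
  have hmR : Nat.Coprime m R := coprime_of_23 (fun r hr h => prime_dvd_23 hr h) h2R h3R
  obtain ⟨H', hH'card, hH'idx⟩ :=
    Cfsg.Agent.Lib.Helper13.hall_exists_card (G := D) m R (by rw [hDcard]; exact hcR) hmR
  refine ⟨H'.map D.subtype, ?_⟩
  have hcard : Nat.card (H'.map D.subtype) = m := by
    rw [Subgroup.card_map_of_injective D.subtype_injective, hH'card]
  have hmpos : 0 < m := by positivity
  have hidx : 2 * (H'.map D.subtype).index = q * R * c' := by
    have h1 := (H'.map D.subtype).card_mul_index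
    rw [hcard] at h1
    apply Nat.eq_of_mul_eq_mul_left hmpos
    calc m * (2 * (H'.map D.subtype).index) = 2 * (m * (H'.map D.subtype).index) := by ring
      _ = 2 * Nat.card G := by rw [h1]
      _ = q * c * c' := hG
      _ = q * (m * R) * c' := by rw [← hcR]
      _ = m * (q * R * c') := by ring
  apply isPiHall_of
  · intro r hr hd
    rw [hcard] at hd
    exact prime_dvd_23 hr hd
  · intro h
    have h4 : 4 ∣ q * R * c' := by
      rw [← hidx]
      exact Nat.mul_dvd_mul_left 2 h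
    have hcop : Nat.Coprime 4 (q * R) := by
      have : Nat.Coprime 2 (q * R) :=
        (Nat.Prime.coprime_iff_not_dvd Nat.prime_two).mpr (not_dvd_mul Nat.prime_two h2q h2R)
      exact (show (4 : ℕ) = 2 ^ 2 by norm_num) ▸ Nat.Coprime.pow_left 2 this
    have := hcop.dvd_of_dvd_mul_left h4
    omega
  · intro h
    have h3' : 3 ∣ q * R * c' := by
      rw [← hidx]
      exact Dvd.dvd.mul_left h 2
    exact not_dvd_mul Nat.prime_three (not_dvd_mul Nat.prime_three h3q h3R) hc'3 h3'

theorem sq_sub_one (q : ℕ) (hq : 1 ≤ q) : q ^ 2 - 1 = (q - 1) * (q + 1) := by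
  obtain ⟨t, rfl⟩ : ∃ t, q = t + 1 := ⟨q - 1, by omega⟩
  rw [Nat.add_sub_cancel]
  have : (t + 1) ^ 2 = t * (t + 1 + 1) + 1 := by ring
  rw [this, Nat.add_sub_cancel]

theorem result {F : Type*} [Field F] [Fintype F] {p : ℕ} [Fact p.Prime] [CharP F p]
    (hp : 5 ≤ p) (q : ℕ) (hq : Fintype.card F = q) :
    (∃ H : Subgroup (Matrix.ProjectiveSpecialLinearGroup (Fin 2) F), Cfsg.IsPiHall ({2, 3} : Set ℕ) H) ↔
      (3 ∣ q - 1 ∧ q % 4 = 1) ∨ (3 ∣ q + 1 ∧ q % 4 = 3) ∨
        2 ^ (q ^ 2 - 1).factorization 2 * 3 ^ (q ^ 2 - 1).factorization 3 = 24 ∨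
        2 ^ (q ^ 2 - 1).factorization 2 * 3 ^ (q ^ 2 - 1).factorization 3 = 48 := by  classical
  have hpp : p.Prime := Fact.out
  obtain ⟨n, -, hqn⟩ := FiniteField.card F p
  have hqn' : q = p ^ (n : ℕ) := by rw [← hq]; exact hqn
  have hpq : p ∣ q := by rw [hqn']; exact dvd_pow_self p n.ne_zero
  have hqpos : 0 < q := by rw [hqn']; exact pow_pos hpp.pos _
  have h2q : ¬ 2 ∣ q := by
    intro h
    rw [hqn'] at h
    have := (Nat.prime_dvd_prime_iff_eq Nat.prime_two hpp).mp (Nat.prime_two.dvd_of_dvd_pow h)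
    omega
  have h3q : ¬ 3 ∣ q := by
    intro h
    rw [hqn'] at h
    have := (Nat.prime_dvd_prime_iff_eq Nat.prime_three hpp).mp
      (Nat.prime_three.dvd_of_dvd_pow h)
    omega
  have hq5 : 5 ≤ q := le_trans hp (Nat.le_of_dvd hqpos hpq)
  have hsq24 : q ^ 2 % 24 = 1 := by
    have h24 : q % 24 = 1 ∨ q % 24 = 5 ∨ q % 24 = 7 ∨ q % 24 = 11 ∨ q % 24 = 13 ∨ q % 24 = 17 ∨
        q % 24 = 19 ∨ q % 24 = 23 := by omega
    rw [Nat.pow_mod]
    rcases h24 with h | h | h | h | h | h | h | h <;> rw [h]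
  have hsq1 : 25 ≤ q ^ 2 := by nlinarith
  have hN24 : 24 ∣ q ^ 2 - 1 := by omega
  have hN0 : q ^ 2 - 1 ≠ 0 := by omega
  obtain ⟨R, hNR, h2R, h3R⟩ := split23 (q ^ 2 - 1) hN0
  have hodd : Odd (Fintype.card F) := by
    rw [hq, Nat.odd_iff]; omega
  have hG : 2 * Nat.card (PSL2 F) = q * (q ^ 2 - 1) := by
    have := two_mul_card_PSL2 (K := F) hodd
    rwa [hq] at this
  have hfac := sq_sub_one q (by omega)
  have hc24 : Nat.Coprime 24 R := by
    have h8 : Nat.Coprime (2 ^ 3) R :=
      Nat.Coprime.pow_left 3 ((Nat.Prime.coprime_iff_not_dvd Nat.prime_two).mpr h2R)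
    have h3 : Nat.Coprime 3 R := (Nat.Prime.coprime_iff_not_dvd Nat.prime_three).mpr h3R
    exact (show (24 : ℕ) = 2 ^ 3 * 3 by norm_num) ▸ Nat.Coprime.mul_left h8 h3
  generalize hMdef : 2 ^ (q ^ 2 - 1).factorization 2 * 3 ^ (q ^ 2 - 1).factorization 3 = M at hNR ⊢
  have hMpr : ∀ r : ℕ, r.Prime → r ∣ M → r = 2 ∨ r = 3 := by
    intro r hr h
    rw [← hMdef] at h
    exact prime_dvd_23 hr h
  have hM24 : 24 ∣ M := by
    apply hc24.dvd_of_dvd_mul_right
    rw [← hNR]; exact hN24
  have hgcd : Nat.gcd 2 (q - 1) = 2 := Nat.gcd_eq_left (by omega)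
  constructor
  · rintro ⟨H, hπ, hidx⟩
    have h2i : ¬ 2 ∣ H.index := hidx 2 Nat.prime_two (Set.mem_insert _ _)
    have h3i : ¬ 3 ∣ H.index := hidx 3 Nat.prime_three (Set.mem_insert_of_mem _ rfl)
    have hHpr : ∀ r : ℕ, r.Prime → r ∣ Nat.card H → r = 2 ∨ r = 3 := by
      intro r hr h
      rcases hπ r hr h with h' | h'
      · left; exact h'
      · right; exact h'
    have h2Hpr : ∀ r : ℕ, r.Prime → r ∣ 2 * Nat.card H → r = 2 ∨ r = 3 := by
      intro r hr h
      rcases (Nat.Prime.dvd_mul hr).mp h with h | h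
      · left; exact (Nat.prime_dvd_prime_iff_eq hr Nat.prime_two).mp h
      · exact hHpr r hr h
    have hci := H.card_mul_index
    have heq : 2 * Nat.card H * H.index = M * (q * R) := by
      calc 2 * Nat.card H * H.index = 2 * (Nat.card H * H.index) := by ring
        _ = q * (q ^ 2 - 1) := by rw [hci, hG]
        _ = M * (q * R) := by rw [hNR]; ring
    have hcop1 : Nat.Coprime (2 * Nat.card H) (q * R) :=
      coprime_of_23 h2Hpr (not_dvd_mul Nat.prime_two h2q h2R)
        (not_dvd_mul Nat.prime_three h3q h3R)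
    have hcop2 : Nat.Coprime M H.index := coprime_of_23 hMpr h2i h3i
    have hd1 : 2 * Nat.card H ∣ M := by
      apply hcop1.dvd_of_dvd_mul_right
      rw [← heq]; exact Dvd.intro _ rfl
    have hd2 : M ∣ 2 * Nat.card H := by
      apply hcop2.dvd_of_dvd_mul_right
      rw [heq]; exact Dvd.intro _ rfl
    have h2h : 2 * Nat.card H = M := Nat.dvd_antisymm hd1 hd2
    have h12 : 12 ∣ Nat.card H := by
      obtain ⟨t, ht⟩ := hM24
      rw [ht] at h2h
      exact ⟨t, by omega⟩
    -- a subgroup order dividing `q - 1` or `q + 1`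
    have hfin : (Nat.card H ∣ q - 1 ∨ Nat.card H ∣ q + 1) →
        (3 ∣ q - 1 ∧ q % 4 = 1) ∨ (3 ∣ q + 1 ∧ q % 4 = 3) ∨ M = 24 ∨ M = 48 := by
      rintro (h | h)
      · left
        have := Dvd.dvd.trans h12 h
        omega
      · right; left
        have := Dvd.dvd.trans h12 h
        omega
    rcases Cfsg.Agent.S0799.result hq p H with
      ⟨k, hk, hH⟩ | ⟨P, K, hK, ⟨e⟩⟩ | ⟨⟨e⟩⟩ | ⟨⟨e⟩⟩ | ⟨⟨e⟩⟩ | ⟨K, _, _, m, hKm, hiso⟩
    · -- cyclic or dihedral
      rw [hgcd] at hk
      have hk2 : 2 * k ∣ q - 1 ∨ 2 * k ∣ q + 1 := by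
        rcases hk with hk | hk
        · right
          have h2 : 2 * ((q + 1) / 2) = q + 1 := by omega
          rw [← h2]
          exact Nat.mul_dvd_mul_left 2 hk
        · left
          have h2 : 2 * ((q - 1) / 2) = q - 1 := by omega
          rw [← h2]
          exact Nat.mul_dvd_mul_left 2 hk
      apply hfin
      rcases hH with ⟨-, hcard⟩ | ⟨⟨e⟩⟩
      · rw [hcard]
        rcases hk2 with h | h
        · left; exact Dvd.dvd.trans (Dvd.intro_left 2 rfl) h
        · right; exact Dvd.dvd.trans (Dvd.intro_left 2 rfl) h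
      · rw [Nat.card_congr e.toEquiv, DihedralGroup.nat_card]
        exact hk2
    · -- inside a Sylow normalizer
      apply hfin
      left
      have hcK : Nat.card H = Nat.card K := Nat.card_congr e.toEquiv
      have hKN : Nat.card K ∣
          Nat.card (Subgroup.normalizer ((P : Subgroup (PSL2 F)) : Set (PSL2 F))) :=
        Subgroup.card_dvd_of_le hK
      -- `q + 1` divides the index of the normalizer
      have hidxN : q + 1 ∣
          (Subgroup.normalizer ((P : Subgroup (PSL2 F)) : Set (PSL2 F))).index := by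
        have h1 : Nat.card (Sylow p (PSL2 F)) =
            (Subgroup.normalizer ((P : Subgroup (PSL2 F)) : Set (PSL2 F))).index :=
          Sylow.card_eq_index_normalizer P
        have h2 : Nat.card (Sylow p (PSL2 F)) =
            (Subgroup.normalizer (((Cfsg.Agent.Lib.Helper1.DkOrders.sylUppP (F := F) p :
              Sylow p (PSL2 F)) : Subgroup (PSL2 F)) : Set (PSL2 F))).index :=
          Sylow.card_eq_index_normalizer (Cfsg.Agent.Lib.Helper1.DkOrders.sylUppP (F := F) p)
        rw [← h1, h2, Cfsg.Agent.Lib.Helper1.DkOrders.coe_sylUppP]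
        have h3 := Subgroup.index_dvd_of_le
          (Cfsg.Agent.Lib.Helper1.DkOrders.normalizer_UppP_le (F := F))
        rw [Cfsg.Agent.Lib.Helper1.DkOrders.index_BorP, hq] at h3
        exact h3
      obtain ⟨c, hc⟩ := hidxN
      have hNc := (Subgroup.normalizer ((P : Subgroup (PSL2 F)) : Set (PSL2 F))).card_mul_index
      rw [hc] at hNc
      -- |N(P)| * c * 2 = q (q - 1)
      have hNq : Nat.card (Subgroup.normalizer ((P : Subgroup (PSL2 F)) : Set (PSL2 F))) ∣
          q * (q - 1) := by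
        refine ⟨2 * c, ?_⟩
        apply Nat.eq_of_mul_eq_mul_right (show 0 < q + 1 by omega)
        calc q * (q - 1) * (q + 1) = q * (q ^ 2 - 1) := by rw [hfac]; ring
          _ = 2 * Nat.card (PSL2 F) := hG.symm
          _ = 2 * (Nat.card (Subgroup.normalizer ((P : Subgroup (PSL2 F)) : Set (PSL2 F))) *
                ((q + 1) * c)) := by rw [hNc]
          _ = Nat.card (Subgroup.normalizer ((P : Subgroup (PSL2 F)) : Set (PSL2 F))) *
                (2 * c) * (q + 1) := by ring
      have hHq : Nat.card H ∣ q * (q - 1) := by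
        rw [hcK]; exact Dvd.dvd.trans hKN hNq
      have hcopq : Nat.Coprime (Nat.card H) q := coprime_of_23 hHpr h2q h3q
      exact hcopq.dvd_of_dvd_mul_left hHq
    · right; right; left
      rw [← h2h, Nat.card_congr e.toEquiv, card_A4]
    · right; right; right
      rw [← h2h, Nat.card_congr e.toEquiv, card_S4]
    · exfalso
      have h5 : 5 ∣ Nat.card H := by
        rw [Nat.card_congr e.toEquiv, card_A5]; norm_num
      rcases hHpr 5 Nat.prime_five h5 with h | h <;> omega
    · exfalso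
      have hpK : p ∣ Fintype.card K := by
        have : p ∣ Fintype.card K ^ m := by rw [hKm]; exact hpq
        exact hpp.dvd_of_dvd_pow this
      have hpH : p ∣ Nat.card H := by
        rcases hiso with ⟨⟨e⟩⟩ | ⟨⟨e⟩⟩
        · rw [Nat.card_congr e.toEquiv]
          have h1 := Cfsg.Agent.Lib.Helper1.DkOrders.card_PSL2_mul (F := K)
          have h2 : p ∣ Nat.card (PSL2 K) * Nat.gcd 2 (Fintype.card K - 1) := by
            rw [h1, mul_assoc]
            exact Dvd.dvd.mul_right hpK _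
          rcases (Nat.Prime.dvd_mul hpp).mp h2 with h | h
          · exact h
          · exfalso
            have h3 : p ∣ 2 := Dvd.dvd.trans h (Nat.gcd_dvd_left _ _)
            have := Nat.le_of_dvd (by norm_num) h3
            omega
        · rw [Nat.card_congr e.toEquiv, card_PGL2_eq]
          exact Dvd.dvd.mul_right hpK _
      rcases hHpr p hpp hpH with h | h <;> omega
  · rintro (⟨h3, h4⟩ | ⟨h3, h4⟩ | hM | hM)
    · -- dihedral of order `q - 1`
      obtain ⟨D, ⟨e⟩⟩ := Cfsg.Agent.Lib.Helper12.DkU.exists_dihedral_minus (F := F)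
        (by rw [hq]; omega)
      rw [hq, hgcd] at e
      refine hall_of_dihedral D ((q - 1) / 2) e q (q - 1) (q + 1) (by omega) (by omega) ?_
        h2q h3q (by omega) (by omega)
      rw [hG, hfac]; ring
    · -- dihedral of order `q + 1`
      obtain ⟨D, ⟨e⟩⟩ := Cfsg.Agent.Lib.Helper12.DkU.exists_dihedral_plus (F := F)
      rw [hq, hgcd] at e
      refine hall_of_dihedral D ((q + 1) / 2) e q (q + 1) (q - 1) (by omega) (by omega) ?_
        h2q h3q (by omega) (by omega)
      rw [hG, hfac]; ring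
    · -- `A₄`
      obtain ⟨H, ⟨e⟩⟩ := (Cfsg.Agent.S0802.result p (n : ℕ) hqn).mpr (by rintro ⟨h, -⟩; omega)
      refine ⟨H, ?_⟩
      have hcard : Nat.card H = 12 := by rw [Nat.card_congr e.toEquiv, card_A4]
      have hidx : H.index = q * R := by
        have h1 := H.card_mul_index
        rw [hcard] at h1
        rw [hM] at hNR
        apply Nat.eq_of_mul_eq_mul_left (show 0 < 24 by norm_num)
        calc 24 * H.index = 2 * (12 * H.index) := by ring
          _ = q * (q ^ 2 - 1) := by rw [h1, hG]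
          _ = 24 * (q * R) := by rw [hNR]; ring
      apply isPiHall_of
      · intro r hr hd
        rw [hcard] at hd
        exact prime_dvd_23 (x := 2) (y := 1) hr (by simpa using hd)
      · rw [hidx]; exact not_dvd_mul Nat.prime_two h2q h2R
      · rw [hidx]; exact not_dvd_mul Nat.prime_three h3q h3R
    · -- `S₄`
      have h16 : q ^ 2 % 16 = 1 := by
        rw [hM] at hNR
        omega
      obtain ⟨H, ⟨e⟩⟩ := (Cfsg.Agent.S0803.result hq).mpr h16
      refine ⟨H, ?_⟩
      have hcard : Nat.card H = 24 := by rw [Nat.card_congr e.toEquiv, card_S4]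
      have hidx : H.index = q * R := by
        have h1 := H.card_mul_index
        rw [hcard] at h1
        rw [hM] at hNR
        apply Nat.eq_of_mul_eq_mul_left (show 0 < 48 by norm_num)
        calc 48 * H.index = 2 * (24 * H.index) := by ring
          _ = q * (q ^ 2 - 1) := by rw [h1, hG]
          _ = 48 * (q * R) := by rw [hNR]; ring
      apply isPiHall_of
      · intro r hr hd
        rw [hcard] at hd
        exact prime_dvd_23 (x := 3) (y := 1) hr (by simpa using hd)
      · rw [hidx]; exact not_dvd_mul Nat.prime_two h2q h2R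
      · rw [hidx]; exact not_dvd_mul Nat.prime_three h3q h3R

end Cfsg.Agent.S2537
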