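import Cfsg.Statements.S2540
import Cfsg.Agent.S0249
import Cfsg.Agent.S0248

set_option autoImplicit false
open Cfsg

namespace Cfsg.Agent.S2540


open scoped commutatorElement in
/-- general form, given simplicity of `PSL` and perfectness of `SL` -/
theorem aux {F : Type*} [Field F] (n : ℕ)
    (hsimple : IsSimpleGroup (Matrix.ProjectiveSpecialLinearGroup (Fin n) F))
    (hperf : commutator (Matrix.SpecialLinearGroup (Fin n) F) = ⊤)
    (G : Subgroup (Matrix.GeneralLinearGroup (Fin n) F))
    (hG : ∀ s : Matrix.SpecialLinearGroup (Fin n) F, ∀ g ∈ G,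
      (Matrix.SpecialLinearGroup.toGL s) * g * (Matrix.SpecialLinearGroup.toGL s)⁻¹ ∈ G) :
    (∀ g ∈ G, ∃ c : F, (g : Matrix (Fin n) (Fin n) F) = c • (1 : Matrix (Fin n) (Fin n) F)) ∨
      (Matrix.SpecialLinearGroup.toGL :
        Matrix.SpecialLinearGroup (Fin n) F →* _).range ≤ G := by
  classical
  set ι : Matrix.SpecialLinearGroup (Fin n) F →* Matrix.GeneralLinearGroup (Fin n) F :=
    Matrix.SpecialLinearGroup.toGL with hι
  have hιinj : Function.Injective ι := by
    intro a b hab
    apply Subtype.ext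
    have := congrArg (fun x : Matrix.GeneralLinearGroup (Fin n) F =>
      (x : Matrix (Fin n) (Fin n) F)) hab
    exact this
  set N : Subgroup (Matrix.SpecialLinearGroup (Fin n) F) := G.comap ι with hN
  have hNn : N.Normal := by
    constructor
    intro x hx s
    show ι (s * x * s⁻¹) ∈ G
    rw [map_mul, map_mul, map_inv]
    exact hG s _ hx
  set Z := Subgroup.center (Matrix.SpecialLinearGroup (Fin n) F) with hZ
  have hNbar : (N.map (QuotientGroup.mk' Z)).Normal :=
    hNn.map _ (QuotientGroup.mk'_surjective Z)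
  rcases hNbar.eq_bot_or_eq_top with hbot | htop
  · -- `N ≤ Z`
    left
    have hNZ : N ≤ Z := by
      have := (Subgroup.map_eq_bot_iff _).1 hbot
      rwa [QuotientGroup.ker_mk'] at this
    intro g hg
    -- `g` commutes with all of `SL`
    have hcomm : ∀ s : Matrix.SpecialLinearGroup (Fin n) F, g * ι s = ι s * g := by
      -- conjugation by `g` moves `s` by a central element
      have hmove : ∀ s : Matrix.SpecialLinearGroup (Fin n) F,
          ∃ t ∈ Z, g * ι s * g⁻¹ = ι (t * s) := by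
        intro s
        have h1 : g * (ι s * g⁻¹ * (ι s)⁻¹) ∈ G := G.mul_mem hg (hG s _ (G.inv_mem hg))
        have hdet : (↑(g * (ι s * g⁻¹ * (ι s)⁻¹)) : Matrix (Fin n) (Fin n) F).det = 1 := by
          have e1 : (↑(g * (ι s * g⁻¹ * (ι s)⁻¹)) : Matrix (Fin n) (Fin n) F) =
              (g : Matrix (Fin n) (Fin n) F) * ((ι s : Matrix (Fin n) (Fin n) F) *
                ((g⁻¹ : Matrix.GeneralLinearGroup (Fin n) F) : Matrix (Fin n) (Fin n) F) *
                (((ι s)⁻¹ : Matrix.GeneralLinearGroup (Fin n) F) : Matrix (Fin n) (Fin n) F)) := by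
            simp only [Units.val_mul]
          rw [e1, Matrix.det_mul, Matrix.det_mul, Matrix.det_mul]
          have e2 : (g : Matrix (Fin n) (Fin n) F).det *
              ((g⁻¹ : Matrix.GeneralLinearGroup (Fin n) F) : Matrix (Fin n) (Fin n) F).det = 1 := by
            rw [← Matrix.det_mul, ← Units.val_mul, mul_inv_cancel]; simp
          have e3 : (ι s : Matrix (Fin n) (Fin n) F).det *
              (((ι s)⁻¹ : Matrix.GeneralLinearGroup (Fin n) F) : Matrix (Fin n) (Fin n) F).det
                = 1 := by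
            rw [← Matrix.det_mul, ← Units.val_mul, mul_inv_cancel]; simp
          calc _ = ((g : Matrix (Fin n) (Fin n) F).det *
              ((g⁻¹ : Matrix.GeneralLinearGroup (Fin n) F) : Matrix (Fin n) (Fin n) F).det) *
              ((ι s : Matrix (Fin n) (Fin n) F).det *
              (((ι s)⁻¹ : Matrix.GeneralLinearGroup (Fin n) F) :
                Matrix (Fin n) (Fin n) F).det) := by ring
            _ = 1 := by rw [e2, e3, one_mul]
        set t : Matrix.SpecialLinearGroup (Fin n) F :=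
          ⟨(↑(g * (ι s * g⁻¹ * (ι s)⁻¹)) : Matrix (Fin n) (Fin n) F), hdet⟩ with ht
        have hιt : ι t = g * (ι s * g⁻¹ * (ι s)⁻¹) := by
          apply Units.ext
          rfl
        have htN : t ∈ N := by
          show ι t ∈ G
          rw [hιt]; exact h1
        refine ⟨t, hNZ htN, ?_⟩
        rw [map_mul, hιt]
        group
      -- the subgroup of elements commuting with `g`
      let C : Subgroup (Matrix.SpecialLinearGroup (Fin n) F) :=
        (Subgroup.centralizer ({g} : Set (Matrix.GeneralLinearGroup (Fin n) F))).comap ι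
      have hC : ∀ s, s ∈ C ↔ g * ι s = ι s * g := by
        intro s
        show ι s ∈ Subgroup.centralizer {g} ↔ _
        rw [Subgroup.mem_centralizer_singleton_iff]
        constructor
        · intro h; exact h.symm
        · intro h; exact h.symm
      have hle : commutator (Matrix.SpecialLinearGroup (Fin n) F) ≤ C := by
        rw [commutator_def, Subgroup.commutator_le]
        intro a _ b _
        rw [hC]
        obtain ⟨ta, hta, ha⟩ := hmove a
        obtain ⟨tb, htb, hb⟩ := hmove b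
        have hta' : ∀ x, x * ta = ta * x := fun x => Subgroup.mem_center_iff.1 hta x
        have htb' : ∀ x, x * tb = tb * x := fun x => Subgroup.mem_center_iff.1 htb x
        have hconj : g * ι ⁅a, b⁆ * g⁻¹ = ι ⁅a, b⁆ := by
          have e1 : g * ι ⁅a, b⁆ * g⁻¹ =
              ⁅g * ι a * g⁻¹, g * ι b * g⁻¹⁆ := by
            rw [map_commutatorElement]
            simp only [commutatorElement_def]
            group
          rw [e1, ha, hb, ← map_commutatorElement]
          congr 1
          simp only [commutatorElement_def, mul_inv_rev]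
          have hta'' : ∀ x, x * ta⁻¹ = ta⁻¹ * x := fun x =>
            Subgroup.mem_center_iff.1 (Subgroup.inv_mem _ hta) x
          have htb'' : ∀ x, x * tb⁻¹ = tb⁻¹ * x := fun x =>
            Subgroup.mem_center_iff.1 (Subgroup.inv_mem _ htb) x
          calc ta * a * (tb * b) * (a⁻¹ * ta⁻¹) * (b⁻¹ * tb⁻¹)
              = ta * (a * tb) * b * a⁻¹ * (ta⁻¹ * b⁻¹) * tb⁻¹ := by group
            _ = ta * (tb * a) * b * a⁻¹ * (b⁻¹ * ta⁻¹) * tb⁻¹ := by rw [htb' a, hta'' b⁻¹]
            _ = (ta * tb) * (a * b * a⁻¹ * b⁻¹ * ta⁻¹) * tb⁻¹ := by group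
            _ = (ta * tb) * (ta⁻¹ * (a * b * a⁻¹ * b⁻¹)) * tb⁻¹ := by rw [hta'']
            _ = ta * (tb * ta⁻¹) * (a * b * a⁻¹ * b⁻¹) * tb⁻¹ := by group
            _ = ta * (ta⁻¹ * tb) * ((a * b * a⁻¹ * b⁻¹) * tb⁻¹) := by rw [hta'' tb]; group
            _ = ta * (ta⁻¹ * tb) * (tb⁻¹ * (a * b * a⁻¹ * b⁻¹)) := by rw [htb'']
            _ = a * b * a⁻¹ * b⁻¹ := by group
        calc g * ι ⁅a, b⁆ = (g * ι ⁅a, b⁆ * g⁻¹) * g := by group
          _ = ι ⁅a, b⁆ * g := by rw [hconj]
      intro s
      rw [← hC]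
      exact hle (hperf ▸ Subgroup.mem_top s)
    have hscal : (g : Matrix (Fin n) (Fin n) F) ∈ Set.range (Matrix.scalar (Fin n)) := by
      apply Matrix.mem_range_scalar_of_commute_transvectionStruct
      intro t
      have h1 := hcomm t.toSpecialLinearGroup
      have h2 := congrArg (fun x : Matrix.GeneralLinearGroup (Fin n) F =>
        (x : Matrix (Fin n) (Fin n) F)) h1
      simp only [Units.val_mul] at h2
      exact h2.symm
    obtain ⟨c, hc⟩ := hscal
    refine ⟨c, ?_⟩
    rw [← hc]
    ext i j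
    simp [Matrix.scalar_apply, Matrix.smul_apply, Matrix.one_apply, Matrix.diagonal_apply]
  · -- `N Z = SL`
    right
    have hsup : N ⊔ Z = ⊤ := by
      have h1 := Subgroup.comap_map_eq (QuotientGroup.mk' Z) N
      rw [htop, Subgroup.comap_top, QuotientGroup.ker_mk'] at h1
      exact h1.symm
    have hle : commutator (Matrix.SpecialLinearGroup (Fin n) F) ≤ N := by
      rw [commutator_def, Subgroup.commutator_le]
      intro a _ b _
      have ha : a ∈ N ⊔ Z := hsup ▸ Subgroup.mem_top a
      have hb : b ∈ N ⊔ Z := hsup ▸ Subgroup.mem_top b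
      have hmem : ∀ x ∈ N ⊔ Z, ∃ y ∈ N, ∃ z ∈ Z, x = y * z := by
        intro x hx
        have h1 : x ∈ ((N ⊔ Z : Subgroup _) : Set (Matrix.SpecialLinearGroup (Fin n) F)) := hx
        rw [Subgroup.normal_mul] at h1
        obtain ⟨y, hy, z, hz, rfl⟩ := Set.mem_mul.1 h1
        exact ⟨y, hy, z, hz, rfl⟩
      obtain ⟨y₁, hy₁, z₁, hz₁, rfl⟩ := hmem a ha
      obtain ⟨y₂, hy₂, z₂, hz₂, rfl⟩ := hmem b hb
      have hz₁' : ∀ x, x * z₁ = z₁ * x := fun x => Subgroup.mem_center_iff.1 hz₁ x
      have hz₂' : ∀ x, x * z₂ = z₂ * x := fun x => Subgroup.mem_center_iff.1 hz₂ x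
      have hz₁'' : ∀ x, x * z₁⁻¹ = z₁⁻¹ * x := fun x =>
        Subgroup.mem_center_iff.1 (Subgroup.inv_mem _ hz₁) x
      have hz₂'' : ∀ x, x * z₂⁻¹ = z₂⁻¹ * x := fun x =>
        Subgroup.mem_center_iff.1 (Subgroup.inv_mem _ hz₂) x
      have e : ⁅y₁ * z₁, y₂ * z₂⁆ = ⁅y₁, y₂⁆ := by
        simp only [commutatorElement_def, mul_inv_rev]
        calc y₁ * z₁ * (y₂ * z₂) * (z₁⁻¹ * y₁⁻¹) * (z₂⁻¹ * y₂⁻¹)
            = y₁ * (z₁ * y₂) * (z₂ * z₁⁻¹) * (y₁⁻¹ * z₂⁻¹) * y₂⁻¹ := by group
          _ = y₁ * (y₂ * z₁) * (z₁⁻¹ * z₂) * (z₂⁻¹ * y₁⁻¹) * y₂⁻¹ := by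
              rw [← hz₁' y₂, hz₁'' z₂, hz₂'' y₁⁻¹]
          _ = y₁ * y₂ * y₁⁻¹ * y₂⁻¹ := by group
      rw [e]
      exact Subgroup.commutator_mem_commutator hy₁ hy₂ |> fun h => by
        have h2 : ⁅N, N⁆ ≤ N := Subgroup.commutator_le_right N N
        exact h2 h
    rintro _ ⟨s, rfl⟩
    have : s ∈ N := hle (hperf ▸ Subgroup.mem_top s)
    exact this

/-- Let F be a finite field and n ≥ 1, excluding the case n = 2 with #F ≤ 3. A subgroup of GL_n(F) that is normalized by every element of SL_n(F) either consists of scalar matrices or contains SL_n(F). -/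
theorem result {F : Type*} [Field F] [Fintype F] (n : ℕ) (hn : 1 ≤ n) (hex : ¬ (n = 2 ∧ Fintype.card F ≤ 3)) (G : Subgroup (Matrix.GeneralLinearGroup (Fin n) F)) (hG : ∀ s : Matrix.SpecialLinearGroup (Fin n) F, ∀ g ∈ G, (Matrix.SpecialLinearGroup.toGL s) * g * (Matrix.SpecialLinearGroup.toGL s)⁻¹ ∈ G) : (∀ g ∈ G, ∃ c : F, (g : Matrix (Fin n) (Fin n) F) = c • (1 : Matrix (Fin n) (Fin n) F)) ∨ (Matrix.SpecialLinearGroup.toGL : Matrix.SpecialLinearGroup (Fin n) F →* _).range ≤ G := by
  classical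
  rcases Nat.lt_or_ge n 2 with h1 | h2
  · -- n = 1
    have hn1 : n = 1 := by omega
    subst hn1
    left
    intro g _
    refine ⟨(g : Matrix (Fin 1) (Fin 1) F) 0 0, ?_⟩
    ext i j
    fin_cases i; fin_cases j
    simp
  · rcases Nat.lt_or_ge n 3 with h3 | h3
    · have hn2 : n = 2 := by omega
      subst hn2
      have hcard : 4 ≤ Nat.card F := by
        rw [Nat.card_eq_fintype_card]
        by_contra hlt
        exact hex ⟨rfl, by omega⟩
      have hsimple := Matrix.ProjectiveSpecialLinearGroup.rank_two_simple (F := F) hcard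
      have hperf : commutator (Matrix.SpecialLinearGroup (Fin 2) F) = ⊤ := by
        obtain ⟨x, hx⟩ : IsCyclic Fˣ := by infer_instance
        have hx2 : (x : F) ^ 2 ≠ 1 := by
          intro h
          have h5 : Nat.card F = Nat.card Fˣ + 1 := Nat.card_eq_card_units_add_one F
          have h6 : orderOf x = Nat.card Fˣ := orderOf_eq_card_of_forall_mem_zpowers hx
          have h7 : orderOf x ≤ 2 := orderOf_le_of_pow_eq_one zero_lt_two
            (Units.ext <| by simpa using h)
          omega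
        exact Matrix.SL2.commutator_eq_top (Units.ne_zero x) hx2
      exact aux 2 hsimple hperf G hG
    · exact aux n (Cfsg.Agent.S0249.result n h3) (Cfsg.Agent.S0248.result n h3) G hG

end Cfsg.Agent.S2540
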