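import Mathlib
import Cfsg.Statements.S2541

set_option autoImplicit false
open Cfsg

namespace Cfsg.Agent.S2541

open Matrix

/-- `u ↦ diag(u, 1)` as a monoid homomorphism into `GL₂`. -/
def dhom (F : Type*) [Field F] : Fˣ →* GL (Fin 2) F where
  toFun u := ⟨Matrix.diagonal ![(u : F), 1], Matrix.diagonal ![((u⁻¹ : Fˣ) : F), 1], by
      rw [Matrix.diagonal_mul_diagonal, ← Matrix.diagonal_one]
      congr 1
      funext i
      fin_cases i <;> simp, by
      rw [Matrix.diagonal_mul_diagonal, ← Matrix.diagonal_one]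
      congr 1
      funext i
      fin_cases i <;> simp⟩
  map_one' := by
    apply Units.ext
    show Matrix.diagonal ![((1 : Fˣ) : F), 1] = 1
    rw [← Matrix.diagonal_one]
    congr 1
    funext i
    fin_cases i <;> simp
  map_mul' u v := by
    apply Units.ext
    show Matrix.diagonal ![((u * v : Fˣ) : F), 1] =
      Matrix.diagonal ![(u : F), 1] * Matrix.diagonal ![(v : F), 1]
    rw [Matrix.diagonal_mul_diagonal]
    congr 1
    funext i
    fin_cases i <;> simp

lemma dhom_coe {F : Type*} [Field F] (u : Fˣ) :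
    ((dhom F u : GL (Fin 2) F) : Matrix (Fin 2) (Fin 2) F) = Matrix.diagonal ![(u : F), 1] := rfl

lemma pgl_inj {F : Type*} [Field F] :
    Function.Injective ((Matrix.ProjGenLinGroup.mk).comp (dhom F) :
      Fˣ →* Matrix.ProjGenLinGroup (Fin 2) F) := by
  rw [injective_iff_map_eq_one]
  intro u hu
  rw [MonoidHom.comp_apply, Matrix.ProjGenLinGroup.mk_eq_one,
    Matrix.GeneralLinearGroup.center_eq_range_scalar] at hu
  obtain ⟨c, hc⟩ := hu
  have h := congrArg (fun g : GL (Fin 2) F => (g : Matrix (Fin 2) (Fin 2) F)) hc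
  simp only [Matrix.GeneralLinearGroup.coe_scalar, dhom_coe] at h
  have h0 := congrFun (congrFun h 0) 0
  have h1 := congrFun (congrFun h 1) 1
  simp at h0 h1
  apply Units.ext
  rw [← h0, h1]

lemma no_order_eight (σ : Equiv.Perm (Fin 6)) : orderOf σ ≠ 8 := by
  intro h
  have hl := Equiv.Perm.lcm_cycleType σ
  have hsum := Equiv.Perm.sum_cycleType_le σ
  rw [Fintype.card_fin] at hsum
  have h4 : σ.cycleType.lcm ∣ 4 := by
    rw [Multiset.lcm_dvd]
    intro n hn
    have hn8 : n ∣ 8 := by
      have := Multiset.dvd_lcm hn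
      rwa [hl, h] at this
    have hn6 : n ≤ 6 := (Multiset.le_sum_of_mem hn).trans hsum
    have hn2 : 2 ≤ n := Equiv.Perm.two_le_of_mem_cycleType hn
    interval_cases n <;> omega
  rw [hl, h] at h4
  omega

theorem result {F : Type*} [Field F] [Fintype F] (hF : Fintype.card F = 9) : ¬ Nonempty (Equiv.Perm (Fin 6) ≃* Matrix.ProjGenLinGroup (Fin 2) F) := by
  rintro ⟨e⟩
  obtain ⟨ζ, hζ⟩ := IsCyclic.exists_generator (α := Fˣ)
  have hord : orderOf ζ = 8 := by
    classical
    rw [orderOf_eq_card_of_forall_mem_zpowers hζ, Nat.card_units, Nat.card_eq_fintype_card, hF]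
  have hord' : orderOf (((Matrix.ProjGenLinGroup.mk).comp (dhom F)) ζ) = 8 := by
    rw [orderOf_injective _ pgl_inj, hord]
  have := no_order_eight (e.symm (((Matrix.ProjGenLinGroup.mk).comp (dhom F)) ζ))
  rw [MulEquiv.orderOf_eq] at this
  exact this hord'

end Cfsg.Agent.S2541
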