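import Cfsg.Statements.S2542
import Mathlib
import Cfsg.Agent.Lib.Helper12.TwoTrans
import Cfsg.Agent.S0804
import Cfsg.Agent.S2508
import Cfsg.Agent.S2455
import Cfsg.Agent.Lib.Helper10.AltFive

set_option autoImplicit false
open Cfsg

namespace Cfsg.Agent.S2542

open Cfsg.Agent.Lib.Helper12 Cfsg.Agent.Lib.Helper12.SL2 Cfsg.Agent.S0807 Cfsg.Agent.S2508
open Cfsg.Agent.Lib.Helper12.Quat

local notation "SL2" => Matrix.SpecialLinearGroup (Fin 2)
local notation "PSL2" => Matrix.ProjectiveSpecialLinearGroup (Fin 2)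
local notation "A5" => alternatingGroup (Fin 5)

variable {F : Type*} [Field F] [Fintype F]

theorem card_Ct (h2 : (2 : F) ≠ 0) (g : SL2 F) :
    Nat.card (Ct g) = 2 * Nat.card (Subgroup.centralizer ({(mkH g : PSL2 F)} : Set (PSL2 F))) := by
  have h1 := (Ct g).card_mul_index
  have h3 := (Subgroup.centralizer ({(mkH g : PSL2 F)} : Set (PSL2 F))).card_mul_index
  have hi : (Ct g).index = (Subgroup.centralizer ({(mkH g : PSL2 F)} : Set (PSL2 F))).index :=
    index_Ct g
  rw [hi, card_SL2_eq h2, ← h3] at h1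
  have hidx : (Subgroup.centralizer ({(mkH g : PSL2 F)} : Set (PSL2 F))).index ≠ 0 :=
    Subgroup.index_ne_zero_of_finite
  apply Nat.eq_of_mul_eq_mul_right (Nat.pos_of_ne_zero hidx)
  rw [h1]; ring

theorem card_centralizer_le (hF : Fintype.card F = 11) (h2 : (2 : F) ≠ 0) (a : PSL2 F)
    (ha : a ≠ 1) :
    (a ^ 2 = 1 → Nat.card (Subgroup.centralizer ({a} : Set (PSL2 F))) ≤ 12) ∧
    (a ^ 3 = 1 → Nat.card (Subgroup.centralizer ({a} : Set (PSL2 F))) ≤ 6) ∧
    (a ^ 5 = 1 → Nat.card (Subgroup.centralizer ({a} : Set (PSL2 F))) ≤ 5) := by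
  haveI : Fact (Nat.Prime 11) := ⟨by norm_num⟩
  haveI : CharP F 11 := charP_of_card_eq_prime hF
  obtain ⟨g, rfl⟩ := QuotientGroup.mk'_surjective (Subgroup.center (SL2 F)) a
  change (mkH g : PSL2 F) ≠ 1 at ha
  show ((mkH g : PSL2 F) ^ 2 = 1 → Nat.card (Subgroup.centralizer ({(mkH g : PSL2 F)} : Set (PSL2 F))) ≤ 12) ∧
    ((mkH g : PSL2 F) ^ 3 = 1 → Nat.card (Subgroup.centralizer ({(mkH g : PSL2 F)} : Set (PSL2 F))) ≤ 6) ∧
    ((mkH g : PSL2 F) ^ 5 = 1 → Nat.card (Subgroup.centralizer ({(mkH g : PSL2 F)} : Set (PSL2 F))) ≤ 5)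
  have hC := card_Ct h2 g
  have hreg : ∀ n : ℕ, n.Prime → 2 < n → n ≠ 11 → (mkH g : PSL2 F) ^ n = 1 →
      Nat.card (Subgroup.centralizer ({(mkH g : PSL2 F)} : Set (PSL2 F))) = 5 ∨
      Nat.card (Subgroup.centralizer ({(mkH g : PSL2 F)} : Set (PSL2 F))) = 6 := by
    intro n hn hn2 hn11 hpow
    haveI : Fact n.Prime := ⟨hn⟩
    have hord : orderOf (mkH g : PSL2 F) = n := orderOf_eq_prime hpow ha
    obtain ⟨ht0, ht4⟩ := Cfsg.Agent.S2455.tr_conditions 11 g (by rw [hord]; exact hn2) (by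
      rw [hord]
      intro hd
      exact hn11 ((Nat.prime_dvd_prime_iff_eq (by norm_num) hn).mp hd).symm)
    rw [Ct_eq_Tor h2 g ht0] at hC
    rcases (card_Tor_regular h2 g ht4).1 with h | h
    · left; rw [h, hF] at hC; omega
    · right; rw [h, hF] at hC; omega
  refine ⟨?_, ?_, ?_⟩
  · intro h
    have hord : orderOf (mkH g : PSL2 F) = 2 := orderOf_eq_prime h ha
    have htr : tr g = 0 := (orderOf_mk_eq_two_iff h2 g).mp hord
    have hΔ := tr_sq_ne_four_of_tr_eq_zero h2 g htr
    rw [Ct_eq_NTor h2 g htr] at hC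
    have hN : Nat.card (NTor g) = 2 * Nat.card (Tor g) := card_normalizer_centralizer h2 g hΔ
    rw [hN] at hC
    rcases (card_Tor_regular h2 g hΔ).1 with h | h
    · rw [h, hF] at hC; omega
    · rw [h, hF] at hC; omega
  · intro h
    rcases hreg 3 (by norm_num) (by norm_num) (by norm_num) h with h | h <;> omega
  · intro h
    haveI : Fact (Nat.Prime 5) := ⟨by norm_num⟩
    have hord : orderOf (mkH g : PSL2 F) = 5 := orderOf_eq_prime h ha
    have hdvd : 5 ∣ Nat.card (Subgroup.centralizer ({(mkH g : PSL2 F)} : Set (PSL2 F))) := by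
      rw [← hord]
      exact Subgroup.orderOf_dvd_natCard _ (Subgroup.mem_centralizer_singleton_iff.mpr rfl)
    rcases hreg 5 (by norm_num) (by norm_num) (by norm_num) h with h | h <;> omega


/-- the bound for the number of fixed cosets -/
def B (a : A5) : ℕ := if a = 1 then 11 else if a ^ 2 = 1 then 3 else 2

theorem sum_B : ∑ a : A5, B a = 144 := by
  decide +kernel

theorem card_pow_two : Fintype.card {a : A5 // a ≠ 1 ∧ a ^ 2 = 1} = 15 := by
  decide +kernel

theorem card_pow_three : Fintype.card {a : A5 // a ≠ 1 ∧ a ^ 3 = 1} = 20 := by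
  decide +kernel

theorem card_pow_five : Fintype.card {a : A5 // a ≠ 1 ∧ a ^ 5 = 1} = 24 := by
  decide +kernel

/-- non-identity elements of `H` with `x ^ n = 1` -/
def TT {G : Type*} [Group G] (H : Subgroup G) (n : ℕ) : Set G := {x | x ∈ H ∧ x ≠ 1 ∧ x ^ n = 1}

theorem ncard_TT {G : Type*} [Group G] (H : Subgroup G) (e : H ≃* A5) (n : ℕ) :
    (TT H n).ncard = Fintype.card {a : A5 // a ≠ 1 ∧ a ^ n = 1} := by
  rw [← Nat.card_eq_fintype_card, ← Nat.card_coe_set_eq]
  apply Nat.card_congr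
  refine ⟨fun x => ⟨e ⟨x.1, x.2.1⟩, ?_, ?_⟩, fun a => ⟨(e.symm a.1 : G), (e.symm a.1).2, ?_, ?_⟩, ?_, ?_⟩
  · intro h
    have : (⟨x.1, x.2.1⟩ : H) = 1 := by
      apply e.injective; rw [h, map_one]
    exact x.2.2.1 (congrArg Subtype.val this)
  · rw [← map_pow]
    have : (⟨x.1, x.2.1⟩ : H) ^ n = 1 := Subtype.ext (by simpa using x.2.2.2)
    rw [this, map_one]
  · intro h
    apply a.2.1
    have : e.symm a.1 = 1 := Subtype.ext h
    rw [← e.apply_symm_apply a.1, this, map_one]
  · have : (e.symm a.1) ^ n = 1 := by rw [← map_pow, a.2.2, map_one]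
    have := congrArg Subtype.val this
    simpa using this
  · intro x
    apply Subtype.ext
    simp
  · intro a
    apply Subtype.ext
    simp


theorem fix_le (hF : Fintype.card F = 11) (h2 : (2 : F) ≠ 0) (H : Subgroup (PSL2 F))
    (e : H ≃* A5) (hH : Nat.card H = 60) (hidx : H.index = 11) (k : H) :
    Nat.card (MulAction.fixedBy (PSL2 F ⧸ H) (k : PSL2 F)) ≤ B (e k) := by
  unfold B
  have hconj : ∀ (n : ℕ), (k : PSL2 F) ≠ 1 → (k : PSL2 F) ^ n = 1 →
      ∀ y : PSL2 F, y⁻¹ * (k : PSL2 F) * y ∈ H → y⁻¹ * (k : PSL2 F) * y ∈ TT H n := by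
    intro n hk1 hkn y hy
    refine ⟨hy, ?_, ?_⟩
    · intro h
      apply hk1
      calc (k : PSL2 F) = y * (y⁻¹ * k * y) * y⁻¹ := by group
        _ = 1 := by rw [h]; group
    · have : (y⁻¹ * (k : PSL2 F) * y) ^ n = y⁻¹ * (k : PSL2 F) ^ n * y := by
        have h3 := conj_pow (a := y⁻¹) (b := (k : PSL2 F)) (i := n)
        rwa [inv_inv] at h3
      rw [this, hkn]; group
  by_cases h1 : e k = 1
  · rw [if_pos h1, ← hidx, Subgroup.index_eq_card]
    exact Finite.card_subtype_le _
  · rw [if_neg h1]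
    have hk1 : (k : PSL2 F) ≠ 1 := by
      intro h
      apply h1
      have : k = 1 := Subtype.ext h
      rw [this, map_one]
    have hpow : ∀ n : ℕ, (e k) ^ n = 1 → (k : PSL2 F) ^ n = 1 := by
      intro n hn
      have : k ^ n = 1 := by
        apply e.injective; rw [map_pow, hn, map_one]
      have := congrArg Subtype.val this
      simpa using this
    obtain ⟨c2, c3, c5⟩ := card_centralizer_le hF h2 (k : PSL2 F) hk1
    by_cases h22 : (e k) ^ 2 = 1
    · rw [if_pos h22]
      have hb := TwoTrans.card_fixedBy_mul_le H (k : PSL2 F) (TT H 2) (hconj 2 hk1 (hpow 2 h22))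
      rw [ncard_TT H e 2, card_pow_two, hH] at hb
      have := c2 (hpow 2 h22)
      nlinarith
    · rw [if_neg h22]
      rcases Cfsg.Agent.Lib.Helper10.altFive_pow (e k) with h | h | h
      · exact absurd h h22
      · have hb := TwoTrans.card_fixedBy_mul_le H (k : PSL2 F) (TT H 3) (hconj 3 hk1 (hpow 3 h))
        rw [ncard_TT H e 3, card_pow_three, hH] at hb
        have := c3 (hpow 3 h)
        nlinarith
      · have hb := TwoTrans.card_fixedBy_mul_le H (k : PSL2 F) (TT H 5) (hconj 5 hk1 (hpow 5 h))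
        rw [ncard_TT H e 5, card_pow_five, hH] at hb
        have := c5 (hpow 5 h)
        nlinarith


/-- Let F be a field with 11 elements. PSL_2(F) has a subgroup H of index 11 isomorphic to the alternating group A_5, and the action of PSL_2(F) on the cosets of H is 2-transitive (of degree 11). -/
theorem result {F : Type*} [Field F] [Fintype F] (hF : Fintype.card F = 11) : ∃ H : Subgroup (Matrix.ProjectiveSpecialLinearGroup (Fin 2) F), H.index = 11 ∧ Nonempty (H ≃* alternatingGroup (Fin 5)) ∧ MulAction.IsMultiplyPretransitive (Matrix.ProjectiveSpecialLinearGroup (Fin 2) F) ((Matrix.ProjectiveSpecialLinearGroup (Fin 2) F) ⧸ H) 2 := by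
  classical
  have h2 : (2 : F) ≠ 0 := by
    intro h
    have := Cfsg.Agent.S2475.even_card_of_two_eq_zero h
    rw [hF] at this
    exact absurd this (by decide)
  have hcard : Nat.card (Matrix.ProjectiveSpecialLinearGroup (Fin 2) F) = 660 := by
    have h1 := Cfsg.Agent.S0807.card_SL2_eq (F := F) h2
    rw [SL2.card_SL2, hF] at h1
    omega
  obtain ⟨H, ⟨e⟩⟩ := Cfsg.Agent.S0804.result_mpr (F := F) (by rw [hF]; norm_num)
  have hH : Nat.card H = 60 := by
    rw [Nat.card_congr e.toEquiv, nat_card_alternatingGroup]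
    simp
    decide
  have hidx : H.index = 11 := by
    have := H.card_mul_index
    rw [hH, hcard] at this
    omega
  refine ⟨H, hidx, ⟨e⟩, ?_⟩
  apply TwoTrans.two_pretransitive_of_transitive
  haveI : Fintype H := Fintype.ofFinite H
  apply TwoTrans.transitive_of_sum_lt
  calc ∑ k : H, Nat.card (MulAction.fixedBy (Matrix.ProjectiveSpecialLinearGroup (Fin 2) F ⧸ H)
          (k : Matrix.ProjectiveSpecialLinearGroup (Fin 2) F))
      ≤ ∑ k : H, B (e k) := Finset.sum_le_sum (fun k _ => fix_le hF h2 H e hH hidx k)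
    _ = ∑ a : alternatingGroup (Fin 5), B a := Equiv.sum_comp e.toEquiv B
    _ = 144 := sum_B
    _ < 3 * Nat.card H := by rw [hH]; norm_num

end Cfsg.Agent.S2542
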