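import Cfsg.Statements.S2543
import Mathlib
import Cfsg.Agent.S0804
import Cfsg.Agent.S2542
import Cfsg.Agent.Lib.Helper12.A5Count
import Cfsg.Agent.Lib.Helper9.ClassSize

set_option autoImplicit false
open scoped Pointwise
open Cfsg

namespace Cfsg.Agent.S2543

open Cfsg.Agent.Lib.Helper12 Cfsg.Agent.Lib.Helper12.SL2 Cfsg.Agent.S0807 Cfsg.Agent.S2508
open Cfsg.Agent.Lib.Helper12.Quat Cfsg.Agent.S0804 Cfsg.Agent.Lib.Helper12.A5Count

local notation "SL2" => Matrix.SpecialLinearGroup (Fin 2)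
local notation "PSL2" => Matrix.ProjectiveSpecialLinearGroup (Fin 2)
local notation "A5" => alternatingGroup (Fin 5)

variable {F : Type*} [Field F]

theorem tr_of_pow_three (X : SL2 F) (ε : F) (h00 : (X ^ 3) 0 0 = ε)
    (h01 : (X ^ 3) 0 1 = 0) (h10 : (X ^ 3) 1 0 = 0) (h11 : (X ^ 3) 1 1 = ε) :
    (X 0 1 = 0 ∧ X 1 0 = 0 ∧ X 0 0 = ε ∧ X 1 1 = ε) ∨ tr X = -ε := by
  obtain ⟨e00, e01, e10, e11⟩ := isLin_pow3 X
  rw [h00] at e00
  rw [h01] at e01
  rw [h10] at e10
  rw [h11] at e11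
  have hd := det_eq X
  by_cases ht : tr X ^ 2 - 1 = 0
  · right
    rw [ht] at e00
    linear_combination e00
  · left
    have h1 : X 0 1 = 0 := by
      rcases mul_eq_zero.mp e01.symm with h | h
      · exact absurd h ht
      · exact h
    have h2 : X 1 0 = 0 := by
      rcases mul_eq_zero.mp e10.symm with h | h
      · exact absurd h ht
      · exact h
    have h3 : X 0 0 = X 1 1 := by
      have : (tr X ^ 2 - 1) * (X 0 0 - X 1 1) = 0 := by linear_combination e11 - e00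
      rcases mul_eq_zero.mp this with h | h
      · exact absurd h ht
      · exact sub_eq_zero.mp h
    have h4 : tr X = 2 * X 0 0 := by unfold tr; rw [← h3]; ring
    have h5 : X 0 0 ^ 2 = 1 := by
      rw [h1, ← h3] at hd; linear_combination hd
    have h6 : X 0 0 = ε := by
      rw [h4] at e00
      linear_combination (-1 : F) * e00 - (4 * X 0 0) * h5
    exact ⟨h1, h2, h6, h3 ▸ h6⟩

theorem pow_three_eq_one (X : SL2 F) (h : tr X = -1) : X ^ 3 = 1 := by
  obtain ⟨h00, h01, h10, h11⟩ := isLin_pow3 X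
  rw [h] at h00 h01 h10 h11
  apply ext4
  · rw [h00]; simp
  · rw [h01]; simp
  · rw [h10]; simp
  · rw [h11]; simp

theorem tr_of_pow_five (Z : SL2 F) (ε : F) (h00 : (Z ^ 5) 0 0 = ε)
    (h01 : (Z ^ 5) 0 1 = 0) (h10 : (Z ^ 5) 1 0 = 0) (h11 : (Z ^ 5) 1 1 = ε) :
    (Z 0 1 = 0 ∧ Z 1 0 = 0 ∧ Z 0 0 = Z 1 1) ∨ RR (tr Z) := by
  obtain ⟨e00, e01, e10, e11⟩ := isLin_pow5 Z
  rw [h00] at e00
  rw [h01] at e01
  rw [h10] at e10
  rw [h11] at e11
  by_cases ht : tr Z ^ 4 - 3 * tr Z ^ 2 + 1 = 0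
  · right
    have : (tr Z ^ 2 + tr Z - 1) * (tr Z ^ 2 - tr Z - 1) = 0 := by linear_combination ht
    exact mul_eq_zero.mp this
  · left
    refine ⟨?_, ?_, ?_⟩
    · rcases mul_eq_zero.mp e01.symm with h | h
      · exact absurd h ht
      · exact h
    · rcases mul_eq_zero.mp e10.symm with h | h
      · exact absurd h ht
      · exact h
    · have : (tr Z ^ 4 - 3 * tr Z ^ 2 + 1) * (Z 0 0 - Z 1 1) = 0 := by linear_combination e11 - e00
      rcases mul_eq_zero.mp this with h | h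
      · exact absurd h ht
      · exact sub_eq_zero.mp h

theorem zc_apply_00 : (zc' : SL2 F) 0 0 = -1 := rfl
theorem zc_apply_01 : (zc' : SL2 F) 0 1 = 0 := rfl
theorem zc_apply_10 : (zc' : SL2 F) 1 0 = 0 := rfl
theorem zc_apply_11 : (zc' : SL2 F) 1 1 = -1 := rfl

theorem mkH_pow_five_of_RR (h2 : (2 : F) ≠ 0) (Z : SL2 F) (h : RR (tr Z)) : (mkH Z : PSL2 F) ^ 5 = 1 := by
  rcases h with h | h
  · rw [← map_pow, pow_five_eq_one Z h, map_one]
  · have e : (mkH Z : PSL2 F) = mkH (zc' * Z) := (mkH_eq_iff h2 _ _).mpr (Or.inr (by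
      rw [← mul_assoc, Cfsg.Agent.S2471.zc_mul_self, one_mul]))
    rw [e, ← map_pow, pow_five_eq_one (zc' * Z) (by rw [tr_zc_mul]; linear_combination h), map_one]

/-- the standard element of order three -/
def X0 : SL2 F := mk 0 (-1) 1 (-1) (by ring)

/-- its inverse -/
def X0i : SL2 F := mk (-1) 1 (-1) 0 (by ring)

theorem X0i_mul : (X0i : SL2 F) * X0 = 1 := by
  apply ext4 <;> simp [mul_apply', X0, X0i]

theorem X0_inv : (X0 : SL2 F)⁻¹ = X0i := (eq_inv_of_mul_eq_one_left X0i_mul).symm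

theorem tr_X0 : tr (X0 : SL2 F) = -1 := by
  unfold tr; simp [X0]

theorem X0_pow : (X0 : SL2 F) ^ 3 = 1 := pow_three_eq_one _ tr_X0

theorem mkH_X0_ne (h2 : (2 : F) ≠ 0) : (mkH (X0 : SL2 F) : PSL2 F) ≠ 1 := by
  intro h
  rcases (mkH_eq_one_iff h2 _).mp h with h | h
  · have := congrArg (fun g : SL2 F => g 0 1) h
    simp [X0] at this
  · have := congrArg (fun g : SL2 F => g 0 1) h
    simp [X0, zc_apply_01] at this

theorem exists_lift_three (h2 : (2 : F) ≠ 0) (x : PSL2 F) (hx : x ≠ 1) (h3 : x ^ 3 = 1) :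
    ∃ X : SL2 F, mkH X = x ∧ tr X = -1 := by
  obtain ⟨X, rfl⟩ := QuotientGroup.mk'_surjective (Subgroup.center (SL2 F)) x
  change (mkH X : PSL2 F) ≠ 1 at hx
  change (mkH X : PSL2 F) ^ 3 = 1 at h3
  rw [← map_pow, mkH_eq_one_iff h2] at h3
  rcases h3 with h3 | h3
  · rcases tr_of_pow_three X 1 (by rw [h3]; simp) (by rw [h3]; simp) (by rw [h3]; simp)
      (by rw [h3]; simp) with ⟨h01, h10, h00, h11⟩ | h
    · exfalso
      apply hx
      have : X = 1 := by
        apply ext4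
        · rw [h00]; simp
        · rw [h01]; simp
        · rw [h10]; simp
        · rw [h11]; simp
      rw [this, map_one]
    · exact ⟨X, rfl, h⟩
  · rcases tr_of_pow_three X (-1) (by rw [h3]; rfl) (by rw [h3]; rfl) (by rw [h3]; rfl)
      (by rw [h3]; rfl) with ⟨h01, h10, h00, h11⟩ | h
    · exfalso
      apply hx
      have : X = zc' := by
        apply ext4
        · rw [h00]; rfl
        · rw [h01]; rfl
        · rw [h10]; rfl
        · rw [h11]; rfl
      rw [this, mkH_zc]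
    · refine ⟨zc' * X, ?_, ?_⟩
      · exact (mkH_eq_iff h2 _ _).mpr (Or.inr rfl)
      · rw [tr_zc_mul, h, neg_neg]

section Fin

variable [Fintype F]

theorem three_ne_zero_of_card (hF : Fintype.card F = 11) : (3 : F) ≠ 0 := by
  haveI : Fact (Nat.Prime 11) := ⟨by norm_num⟩
  haveI : CharP F 11 := charP_of_card_eq_prime hF
  intro h
  have h3 : ((3 : ℕ) : F) = 0 := by exact_mod_cast h
  rw [CharP.cast_eq_zero_iff F 11] at h3
  norm_num at h3

theorem isConj_X0 (hF : Fintype.card F = 11) (h2 : (2 : F) ≠ 0) (x : PSL2 F) (hx : x ≠ 1)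
    (h3 : x ^ 3 = 1) : IsConj x (mkH (X0 : SL2 F)) := by
  obtain ⟨X, rfl, htr⟩ := exists_lift_three h2 x hx h3
  apply (mkH : SL2 F →* PSL2 F).map_isConj
  apply isConj_of_tr_eq h2 X X0
  · rw [htr]
    intro h
    apply three_ne_zero_of_card hF
    linear_combination (-1 : F) * h
  · rw [htr, tr_X0]

theorem card_centralizer_three (hF : Fintype.card F = 11) (h2 : (2 : F) ≠ 0) (a : PSL2 F)
    (ha : a ≠ 1) (h3 : a ^ 3 = 1) :
    Nat.card (Subgroup.centralizer ({a} : Set (PSL2 F))) = 6 := by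
  haveI : Fact (Nat.Prime 11) := ⟨by norm_num⟩
  haveI : Fact (Nat.Prime 3) := ⟨by norm_num⟩
  haveI : CharP F 11 := charP_of_card_eq_prime hF
  have hord : orderOf a = 3 := orderOf_eq_prime h3 ha
  have hdvd : 3 ∣ Nat.card (Subgroup.centralizer ({a} : Set (PSL2 F))) := by
    rw [← hord]
    exact Subgroup.orderOf_dvd_natCard _ (Subgroup.mem_centralizer_singleton_iff.mpr rfl)
  obtain ⟨g, rfl⟩ := QuotientGroup.mk'_surjective (Subgroup.center (SL2 F)) a
  change orderOf (mkH g : PSL2 F) = 3 at hord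
  change 3 ∣ Nat.card (Subgroup.centralizer ({(mkH g : PSL2 F)} : Set (PSL2 F))) at hdvd
  show Nat.card (Subgroup.centralizer ({(mkH g : PSL2 F)} : Set (PSL2 F))) = 6
  have hC := Cfsg.Agent.S2542.card_Ct h2 g
  obtain ⟨ht0, ht4⟩ := Cfsg.Agent.S2455.tr_conditions 11 g (by rw [hord]; norm_num) (by
    rw [hord]; norm_num)
  rw [Ct_eq_Tor h2 g ht0] at hC
  rcases (card_Tor_regular h2 g ht4).1 with h | h
  · rw [h, hF] at hC; omega
  · rw [h, hF] at hC; omega

theorem card_PSL2 (hF : Fintype.card F = 11) (h2 : (2 : F) ≠ 0) : Nat.card (PSL2 F) = 660 := by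
  have h1 := Cfsg.Agent.S0807.card_SL2_eq (F := F) h2
  rw [SL2.card_SL2, hF] at h1
  omega

theorem card_T3 (hF : Fintype.card F = 11) (h2 : (2 : F) ≠ 0) :
    Nat.card {x : PSL2 F // x ≠ 1 ∧ x ^ 3 = 1} = 110 := by
  have hx0 : (mkH (X0 : SL2 F) : PSL2 F) ^ 3 = 1 := by rw [← map_pow, X0_pow, map_one]
  have h1 := Cfsg.Agent.Lib.Helper9.card_carrier_mul_card_centralizer (mkH (X0 : SL2 F) : PSL2 F)
  rw [card_centralizer_three hF h2 _ (mkH_X0_ne h2) hx0, card_PSL2 hF h2] at h1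
  have h3 : Nat.card {x : PSL2 F // x ≠ 1 ∧ x ^ 3 = 1} =
      Nat.card (ConjClasses.mk (mkH (X0 : SL2 F) : PSL2 F)).carrier := by
    apply Nat.card_congr
    refine Equiv.subtypeEquivRight (fun b => ?_)
    rw [ConjClasses.mem_carrier_iff_mk_eq, ConjClasses.mk_eq_mk_iff_isConj]
    constructor
    · rintro ⟨hb1, hb3⟩
      exact isConj_X0 hF h2 b hb1 hb3
    · intro hc
      obtain ⟨c, hc⟩ := isConj_iff.mp hc
      have hb : b = c⁻¹ * mkH (X0 : SL2 F) * c := by rw [← hc]; group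
      constructor
      · intro hb1
        apply mkH_X0_ne (F := F) h2
        rw [← hc, hb1]; group
      · rw [hb]
        have h3 := conj_pow (a := c⁻¹) (b := (mkH (X0 : SL2 F) : PSL2 F)) (i := 3)
        rw [inv_inv] at h3
        rw [h3, hx0]; group
  rw [h3]
  omega

/-- the involutions `w` with `x₀⁻¹ w` of order dividing five -/
def W0 (F : Type*) [Field F] : Set (PSL2 F) :=
  {w | w ^ 2 = 1 ∧ ((mkH (X0 : SL2 F) : PSL2 F)⁻¹ * w) ^ 5 = 1}

/-- their lifts to `SL₂` -/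
def S0 (F : Type*) [Field F] : Set (SL2 F) := {W | tr W = 0 ∧ RR (tr (X0i * W))}

omit [Fintype F] in
theorem mkH_X0_inv_mul (W : SL2 F) :
    (mkH (X0 : SL2 F) : PSL2 F)⁻¹ * mkH W = mkH (X0i * W) := by
  rw [← map_inv, X0_inv, ← map_mul]

omit [Fintype F] in
theorem preimage_W0 (h2 : (2 : F) ≠ 0) :
    (fun W : SL2 F => (QuotientGroup.mk W : PSL2 F)) ⁻¹' W0 F = S0 F := by
  haveI : Fact (Nat.Prime 2) := ⟨by norm_num⟩
  haveI : Fact (Nat.Prime 3) := ⟨by norm_num⟩
  ext W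
  simp only [Set.mem_preimage, W0, S0, Set.mem_ofPred_eq]
  change ((mkH W : PSL2 F) ^ 2 = 1 ∧ ((mkH (X0 : SL2 F) : PSL2 F)⁻¹ * mkH W) ^ 5 = 1) ↔ _
  rw [mkH_X0_inv_mul]
  constructor
  · rintro ⟨hw2, hw5⟩
    have hx0 : (mkH (X0 : SL2 F) : PSL2 F) ^ 3 = 1 := by rw [← map_pow, X0_pow, map_one]
    have hW1 : (mkH W : PSL2 F) ≠ 1 := by
      intro h
      have h5 : (mkH (X0i : SL2 F) : PSL2 F) ^ 5 = 1 := by
        have : (mkH (X0i * W) : PSL2 F) = mkH (X0i : SL2 F) := by rw [map_mul, h, mul_one]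
        rw [← this]; exact hw5
      have h3 : (mkH (X0i : SL2 F) : PSL2 F) ^ 3 = 1 := by
        rw [← X0_inv, map_inv, inv_pow, hx0, inv_one]
      have h1 : (mkH (X0i : SL2 F) : PSL2 F) = 1 := by
        have : (mkH (X0i : SL2 F) : PSL2 F) ^ 6 = 1 := by
          rw [show 6 = 3 * 2 from rfl, pow_mul, h3, one_pow]
        rw [show 6 = 5 + 1 from rfl, pow_succ, h5, one_mul] at this
        exact this
      apply mkH_X0_ne (F := F) h2
      rw [← inv_inj, ← map_inv, X0_inv, h1, inv_one]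
    have hord : orderOf (mkH W : PSL2 F) = 2 := orderOf_eq_prime hw2 hW1
    have htr : tr W = 0 := (orderOf_mk_eq_two_iff h2 W).mp hord
    refine ⟨htr, ?_⟩
    rw [← map_pow, mkH_eq_one_iff h2] at hw5
    have hns : ¬ (((X0i : SL2 F) * W) 0 1 = 0 ∧ ((X0i : SL2 F) * W) 1 0 = 0 ∧
        ((X0i : SL2 F) * W) 0 0 = ((X0i : SL2 F) * W) 1 1) := by
      rintro ⟨h01, h10, -⟩
      simp only [mul_apply', X0i, mk_00, mk_01, mk_10, mk_11] at h01 h10
      have hd := det_eq W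
      unfold tr at htr
      have hW00 : W 0 0 = 0 := by linear_combination (-1 : F) * h10
      have hW11 : W 1 1 = 0 := by linear_combination htr - hW00
      have hW01 : W 0 1 = 0 := by linear_combination hW11 - h01
      rw [hW00, hW01] at hd
      simp at hd
    rcases hw5 with h | h
    · rcases tr_of_pow_five (X0i * W) 1 (by rw [h]; simp) (by rw [h]; simp) (by rw [h]; simp)
        (by rw [h]; simp) with h' | h'
      · exact absurd h' hns
      · exact h'
    · rcases tr_of_pow_five (X0i * W) (-1) (by rw [h]; rfl) (by rw [h]; rfl) (by rw [h]; rfl)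
        (by rw [h]; rfl) with h' | h'
      · exact absurd h' hns
      · exact h'
  · rintro ⟨htr, hR⟩
    refine ⟨?_, mkH_pow_five_of_RR h2 _ hR⟩
    have hord : orderOf (mkH W : PSL2 F) = 2 := (orderOf_mk_eq_two_iff h2 W).mpr htr
    have := pow_orderOf_eq_one (mkH W : PSL2 F)
    rwa [hord] at this

omit [Fintype F] in
theorem card_S0 : Nat.card (S0 F) = Nat.card {p : F × F × F // CC p} := by
  apply Nat.card_congr
  refine ⟨fun W => ⟨(W.1 0 0, W.1 0 1, W.1 1 0), ?_⟩,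
    fun p => ⟨mk p.1.1 p.1.2.1 p.1.2.2 (-p.1.1) (by linear_combination p.2.1), ?_⟩, ?_, ?_⟩
  · obtain ⟨W, htr, hR⟩ := W
    unfold tr at htr
    have hd := det_eq W
    refine ⟨?_, ?_⟩
    · show -(W 0 0) ^ 2 - W 0 1 * W 1 0 = 1
      linear_combination hd - (W 0 0) * htr
    · show RR (W 1 0 - W 0 0 - W 0 1)
      convert hR using 1
      unfold tr
      simp only [mul_apply', X0i, mk_00, mk_01, mk_10, mk_11]
      ring
  · obtain ⟨⟨a, b, c⟩, h1, hR⟩ := p
    refine ⟨?_, ?_⟩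
    · unfold tr; simp
    · convert hR using 1
      unfold tr
      simp only [mul_apply', X0i, mk_00, mk_01, mk_10, mk_11]
      ring
  · rintro ⟨W, htr, hR⟩
    apply Subtype.ext
    unfold tr at htr
    apply ext4
    · simp
    · simp
    · simp
    · simp only [mk_11]; linear_combination (-1 : F) * htr
  · rintro ⟨⟨a, b, c⟩, h1, hR⟩
    apply Subtype.ext
    simp

theorem card_W0 (hF : Fintype.card F = 11) (h2 : (2 : F) ≠ 0) : Nat.card (W0 F) = 24 := by
  have h1 := Nat.card_congr (QuotientGroup.preimageMkEquivSubgroupProdSet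
    (Subgroup.center (SL2 F)) (W0 F))
  rw [Nat.card_prod, card_center h2] at h1
  have h3 : Nat.card ((fun W : SL2 F => (QuotientGroup.mk W : PSL2 F)) ⁻¹' W0 F) = 48 := by
    rw [preimage_W0 h2, card_S0, card_CC hF]
  have h4 : Nat.card ((fun W : SL2 F => (QuotientGroup.mk W : PSL2 F)) ⁻¹' W0 F) =
      2 * Nat.card (W0 F) := h1
  omega

theorem card_Y0 (hF : Fintype.card F = 11) (h2 : (2 : F) ≠ 0) :
    Nat.card {y : PSL2 F // y ^ 5 = 1 ∧ ((mkH (X0 : SL2 F) : PSL2 F) * y) ^ 2 = 1} = 24 := by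
  rw [← card_W0 hF h2]
  apply Nat.card_congr
  refine Equiv.subtypeEquiv (Equiv.mulLeft (mkH (X0 : SL2 F) : PSL2 F)) ?_
  intro y
  simp only [W0, Set.mem_ofPred_eq, Equiv.coe_mulLeft, inv_mul_cancel_left]
  tauto

theorem card_Y (hF : Fintype.card F = 11) (h2 : (2 : F) ≠ 0) (x : PSL2 F) (hx : x ≠ 1)
    (h3 : x ^ 3 = 1) :
    Nat.card {y : PSL2 F // y ^ 5 = 1 ∧ (x * y) ^ 2 = 1} = 24 := by
  rw [← card_Y0 hF h2]
  obtain ⟨c, hc⟩ := isConj_iff.mp (isConj_X0 hF h2 x hx h3)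
  apply Nat.card_congr
  refine Equiv.subtypeEquiv (MulAut.conj c).toEquiv ?_
  intro y
  have e1 : (mkH (X0 : SL2 F) : PSL2 F) = MulAut.conj c x := by rw [MulAut.conj_apply, hc]
  simp only [MulEquiv.toEquiv_eq_coe, EquivLike.coe_coe]
  rw [e1, ← map_pow, ← map_mul, ← map_pow, MulEquiv.map_eq_one_iff, MulEquiv.map_eq_one_iff]

theorem card_Pset_PSL (hF : Fintype.card F = 11) (h2 : (2 : F) ≠ 0) :
    Nat.card (Pset (PSL2 F)) = 2640 := by
  classical
  let _ : Fintype {x : PSL2 F // x ≠ 1 ∧ x ^ 3 = 1} := Fintype.ofFinite _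
  have e : Pset (PSL2 F) ≃ Σ x : {x : PSL2 F // x ≠ 1 ∧ x ^ 3 = 1},
      {y : PSL2 F // y ^ 5 = 1 ∧ (x.1 * y) ^ 2 = 1} :=
    ⟨fun p => ⟨⟨p.1.1, p.2.2.2.2, p.2.1⟩, ⟨p.1.2, p.2.2.1, p.2.2.2.1⟩⟩,
      fun q => ⟨(q.1.1, q.2.1), q.1.2.2, q.2.2.1, q.2.2.2, q.1.2.1⟩,
      fun p => rfl, fun q => rfl⟩
  rw [Nat.card_congr e, Nat.card_sigma]
  have : ∀ x : {x : PSL2 F // x ≠ 1 ∧ x ^ 3 = 1},
      Nat.card {y : PSL2 F // y ^ 5 = 1 ∧ (x.1 * y) ^ 2 = 1} = 24 :=
    fun x => card_Y hF h2 x.1 x.2.1 x.2.2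
  simp only [this, Finset.sum_const, Finset.card_univ, smul_eq_mul]
  rw [← Nat.card_eq_fintype_card, card_T3 hF h2]

end Fin


/-- Let F be a field with 11 elements. PSL_2(F) has exactly 22 subgroups isomorphic to the alternating group A_5, and they form two conjugacy classes: there are two such subgroups that are not conjugate, and every such subgroup is conjugate to one of these two. -/
theorem result {F : Type*} [Field F] [Fintype F] (hF : Fintype.card F = 11) : Nat.card {H : Subgroup (Matrix.ProjectiveSpecialLinearGroup (Fin 2) F) // Nonempty (H ≃* alternatingGroup (Fin 5))} = 22 ∧ ∃ H K : Subgroup (Matrix.ProjectiveSpecialLinearGroup (Fin 2) F), Nonempty (H ≃* alternatingGroup (Fin 5)) ∧ Nonempty (K ≃* alternatingGroup (Fin 5)) ∧ (∀ g : Matrix.ProjectiveSpecialLinearGroup (Fin 2) F, MulAut.conj g • H ≠ K) ∧ ∀ L : Subgroup (Matrix.ProjectiveSpecialLinearGroup (Fin 2) F), Nonempty (L ≃* alternatingGroup (Fin 5)) → ∃ g : Matrix.ProjectiveSpecialLinearGroup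 (Fin 2) F, MulAut.conj g • L = H ∨ MulAut.conj g • L = K := by
  have h2 : (2 : F) ≠ 0 := by
    intro h
    have := Cfsg.Agent.S2475.even_card_of_two_eq_zero h
    rw [hF] at this
    exact absurd this (by decide)
  have hG := card_PSL2 hF h2
  haveI : IsSimpleGroup (PSL2 F) :=
    Matrix.ProjectiveSpecialLinearGroup.rank_two_simple (by
      rw [Nat.card_eq_fintype_card, hF]; norm_num)
  have hcard : Nat.card (AA (PSL2 F)) = 22 := by
    have h1 := card_Pset (G := PSL2 F)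
    rw [card_Pset_PSL hF h2] at h1
    omega
  refine ⟨hcard, ?_⟩
  obtain ⟨H, K, hH, hK, hne, hall⟩ := two_classes (AA (PSL2 F))
    (by rw [← Nat.card_coe_set_eq]; exact hcard)
    (by
      rintro H ⟨e⟩ g
      exact ⟨(Subgroup.equivSMul (MulAut.conj g) H).symm.trans e⟩)
    (by
      intro H hH
      have h1 := ConjOrbit.card_conjugates_mul H
      rw [card_normalizer hG H (card_of_mem H hH), hG] at h1
      omega)
  exact ⟨H, K, hH, hK, hne, hall⟩

end Cfsg.Agent.S2543
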