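import Cfsg.Statements.S2550
import Mathlib
import Cfsg.Agent.Lib.Helper5.L34PSL
import Cfsg.Agent.Lib.Helper5.L34Card
import Cfsg.Agent.Lib.Helper5.L34Six4

set_option autoImplicit false
open Cfsg

namespace Cfsg.Agent.S2550

open Cfsg.Agent.Lib.Helper5.L34

/-- Let F be a field with 2 elements and K a field with 4 elements. PSL_4(F) and PSL_3(K) have the same order (20160) but are not isomorphic. -/
theorem result {F K : Type*} [Field F] [Fintype F] [Field K] [Fintype K] (hF : Fintype.card F = 2) (hK : Fintype.card K = 4) : Nat.card (Matrix.ProjectiveSpecialLinearGroup (Fin 4) F) = Nat.card (Matrix.ProjectiveSpecialLinearGroup (Fin 3) K) ∧ ¬ Nonempty (Matrix.ProjectiveSpecialLinearGroup (Fin 4) F ≃* Matrix.ProjectiveSpecialLinearGroup (Fin 3) K) := by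
  refine ⟨?_, ?_⟩
  · rw [card_PSL42 hF, card_PSL34 hK]
  · rintro ⟨e⟩
    obtain ⟨x, hx⟩ := exists_order_six hF
    apply psl34_orderOf_ne_six hK (e x)
    rw [MulEquiv.orderOf_eq, hx]

end Cfsg.Agent.S2550
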