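import Cfsg.Statements.S2551
import Mathlib
import Cfsg.Agent.Lib.Helper27.A7GL4D
import Cfsg.Agent.S0256
import Cfsg.Agent.S0243

set_option autoImplicit false
open Cfsg

namespace Cfsg.Agent.S2551

/-- Let F be the field with 2 elements. GL_4(F) (≅ A_8) has a subgroup isomorphic to the alternating group A_7, and every such subgroup acts 2-transitively on the 15 non-zero vectors of F⁴: any ordered pair of distinct non-zero vectors is carried to any other by some element of the subgroup. -/
theorem result {F : Type*} [Field F] [Fintype F] (hF : Fintype.card F = 2) : (∃ H : Subgroup (Matrix.GeneralLinearGroup (Fin 4) F), Nonempty (H ≃* alternatingGroup (Fin 7))) ∧ ∀ H : Subgroup (Matrix.GeneralLinearGroup (Fin 4) F), Nonempty (H ≃* alternatingGroup (Fin 7)) → ∀ v w v' w' : Fin 4 → F, v ≠ 0 → w ≠ 0 → v ≠ w → v' ≠ 0 → w' ≠ 0 → v' ≠ w' → ∃ g ∈ H, (g : Matrix (Fin 4) (Fin 4) F).mulVec v = v' ∧ (g : Matrix (Fin 4) (Fin 4) F).mulVec w = w' := by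
  classical
  constructor
  · -- existence
    obtain ⟨e⟩ := Cfsg.Agent.S0256.result hF
    have hcenter : Subgroup.center (Matrix.SpecialLinearGroup (Fin 4) F) = ⊥ := by
      have h := Cfsg.Agent.S0243.card_center_SL (F := F) 4 (by norm_num)
      rw [hF] at h
      simp at h
      rw [← Nat.card_eq_fintype_card] at h
      exact Subgroup.card_eq_one.mp h
    -- PSL ≃ SL
    let e1 : Matrix.ProjectiveSpecialLinearGroup (Fin 4) F ≃* Matrix.SpecialLinearGroup (Fin 4) F :=
      (QuotientGroup.quotientMulEquivOfEq hcenter).trans QuotientGroup.quotientBot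
    -- A7 → A8
    let f : Fin 7 ≃ {x : Fin 8 // x ≠ Fin.last 7} := finSuccAboveEquiv (Fin.last 7)
    let j0 : alternatingGroup (Fin 7) →* Equiv.Perm (Fin 8) :=
      (Equiv.Perm.extendDomainHom f).comp (alternatingGroup (Fin 7)).subtype
    have hj0 : ∀ x, j0 x ∈ alternatingGroup (Fin 8) := by
      intro x
      rw [Equiv.Perm.mem_alternatingGroup]
      show Equiv.Perm.sign ((x : Equiv.Perm (Fin 7)).extendDomain f) = 1
      rw [Equiv.Perm.sign_extendDomain]
      exact Equiv.Perm.mem_alternatingGroup.mp x.2
    let j : alternatingGroup (Fin 7) →* alternatingGroup (Fin 8) :=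
      j0.codRestrict (alternatingGroup (Fin 8)) hj0
    have hj : Function.Injective j := by
      intro x y hxy
      have h1 : j0 x = j0 y := congrArg Subtype.val hxy
      exact Subtype.ext (Equiv.Perm.extendDomainHom_injective f h1)
    let ψ : alternatingGroup (Fin 7) →* Matrix.GeneralLinearGroup (Fin 4) F :=
      Matrix.SpecialLinearGroup.toGL.comp (e1.toMonoidHom.comp (e.symm.toMonoidHom.comp j))
    have hψ : Function.Injective ψ := by
      intro x y hxy
      have h1 := Matrix.SpecialLinearGroup.toGL_injective hxy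
      have h2 := e1.injective h1
      have h3 := e.symm.injective h2
      exact hj h3
    exact ⟨ψ.range, ⟨(MonoidHom.ofInjective hψ).symm⟩⟩
  · rintro H ⟨e⟩ v w v' w' hv hw hvw hv' hw' hvw'
    have hH : Nat.card H = 2520 := by
      rw [Nat.card_congr e.toEquiv, nat_card_alternatingGroup]
      simp
      decide
    exact Cfsg.Agent.Lib.Helper27.A7GL4.two_transitive hF H hH v w v' w' hv hw hvw hv' hw' hvw'

end Cfsg.Agent.S2551
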