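import Cfsg.Statements.S2552
import Mathlib

set_option autoImplicit false
open Cfsg
set_option maxHeartbeats 400000

namespace Cfsg.Agent.S2552

/-- two subspaces of the same dimension are mapped to each other by some linear automorphism -/
theorem exists_linearEquiv_map_eq {F V : Type*} [Field F] [AddCommGroup V] [Module F V] [FiniteDimensional F V]
    (U₁ U₂ : Submodule F V) (h : Module.finrank F U₁ = Module.finrank F U₂) :
    ∃ e : V ≃ₗ[F] V, U₁.map (e : V →ₗ[F] V) = U₂ := by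
  obtain ⟨W₁, hW₁⟩ := Submodule.exists_isCompl U₁
  obtain ⟨W₂, hW₂⟩ := Submodule.exists_isCompl U₂
  have h1 := Submodule.finrank_add_eq_of_isCompl hW₁
  have h2 := Submodule.finrank_add_eq_of_isCompl hW₂
  have hW : Module.finrank F W₁ = Module.finrank F W₂ := by omega
  let eU : U₁ ≃ₗ[F] U₂ := LinearEquiv.ofFinrankEq _ _ h
  let eW : W₁ ≃ₗ[F] W₂ := LinearEquiv.ofFinrankEq _ _ hW
  let e : V ≃ₗ[F] V := (Submodule.prodEquivOfIsCompl U₁ W₁ hW₁).symm ≪≫ₗ (eU.prodCongr eW) ≪≫ₗ
    Submodule.prodEquivOfIsCompl U₂ W₂ hW₂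
  refine ⟨e, ?_⟩
  apply Submodule.eq_of_le_of_finrank_eq
  · rintro _ ⟨u, hu, rfl⟩
    have : e u = (eU ⟨u, hu⟩ : V) := by
      simp only [e, LinearEquiv.trans_apply]
      rw [Submodule.prodEquivOfIsCompl_symm_apply_left U₁ W₁ hW₁ ⟨u, hu⟩]
      simp
    change e u ∈ U₂
    rw [this]
    exact (eU ⟨u, hu⟩).2
  · rw [← h]
    exact LinearEquiv.finrank_map_eq e U₁


/-- two subspaces of the same dimension are mapped to each other by an automorphism of determinant 1 -/
theorem exists_linearEquiv_det_one_map_eq {F V : Type*} [Field F] [AddCommGroup V] [Module F V] [FiniteDimensional F V]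
    (U₁ U₂ : Submodule F V) (h : Module.finrank F U₁ = Module.finrank F U₂) :
    ∃ e : V ≃ₗ[F] V, LinearMap.det (e : V →ₗ[F] V) = 1 ∧ U₁.map (e : V →ₗ[F] V) = U₂ := by
  obtain ⟨e, he⟩ := exists_linearEquiv_map_eq U₁ U₂ h
  by_cases hbot : U₂ = ⊥
  · refine ⟨LinearEquiv.refl F V, by simp, ?_⟩
    have : U₁ = ⊥ := by
      rw [hbot, finrank_bot] at h
      exact Submodule.finrank_eq_zero.mp h
    rw [this, hbot]
    simp
  · obtain ⟨u, huU, hu0⟩ := (Submodule.ne_bot_iff U₂).mp hbot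
    obtain ⟨φ, hφ⟩ : ∃ φ : Module.Dual F V, φ u = 1 := Module.Projective.exists_dual_eq_one F hu0
    set d := LinearMap.det (e : V →ₗ[F] V) with hd
    have hdu : IsUnit d := LinearEquiv.isUnit_det' e
    have hd0 : d ≠ 0 := hdu.ne_zero
    set f : Module.Dual F V := (d⁻¹ - 1) • φ with hf
    have hfu : 1 + f u = d⁻¹ := by
      rw [hf, LinearMap.smul_apply, hφ, smul_eq_mul, mul_one]; ring
    have hunit : IsUnit (1 + f u) := by
      rw [hfu]; exact (inv_ne_zero hd0).isUnit
    set s : V ≃ₗ[F] V := LinearEquiv.dilatransvection hunit with hs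
    have hsdet : LinearMap.det (s : V →ₗ[F] V) = d⁻¹ := by
      rw [hs, LinearEquiv.dilatransvection.coe_toLinearMap, LinearMap.transvection.det, hfu]
    refine ⟨e ≪≫ₗ s, ?_, ?_⟩
    · rw [LinearEquiv.coe_trans, LinearMap.det_comp, hsdet, ← hd, inv_mul_cancel₀ hd0]
    · apply Submodule.eq_of_le_of_finrank_eq
      · rintro _ ⟨x, hx, rfl⟩
        change s (e x) ∈ U₂
        have hex : e x ∈ U₂ := by rw [← he]; exact ⟨x, hx, rfl⟩
        rw [hs, LinearEquiv.dilatransvection.apply]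
        exact U₂.add_mem hex (U₂.smul_mem _ huU)
      · rw [← h]
        exact LinearEquiv.finrank_map_eq (e ≪≫ₗ s) U₁


/-- Let F be a finite field and n ≥ 1. For every k, the special linear group SL_n(F) acts transitively on the set of k-dimensional subspaces of F^n: any two subspaces of the same dimension are carried onto each other by some matrix of determinant 1. -/
theorem result {F : Type*} [Field F] [Fintype F] (n : ℕ) (hn : 1 ≤ n) (U₁ U₂ : Submodule F (Fin n → F)) (h : Module.finrank F U₁ = Module.finrank F U₂) : ∃ g : Matrix.SpecialLinearGroup (Fin n) F, U₁.map ((Matrix.SpecialLinearGroup.toLin' g : (Fin n → F) ≃ₗ[F] (Fin n → F)) : (Fin n → F) →ₗ[F] (Fin n → F)) = U₂ := by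
  obtain ⟨e, hdet, he⟩ := exists_linearEquiv_det_one_map_eq U₁ U₂ h
  have hdet' : (LinearMap.toMatrix' (e : (Fin n → F) →ₗ[F] (Fin n → F))).det = 1 := by
    rw [LinearMap.det_toMatrix', hdet]
  set g : Matrix.SpecialLinearGroup (Fin n) F := ⟨LinearMap.toMatrix' (e : (Fin n → F) →ₗ[F] (Fin n → F)), hdet'⟩ with hg
  refine ⟨g, ?_⟩
  have h1 : ((Matrix.SpecialLinearGroup.toLin' g : (Fin n → F) ≃ₗ[F] (Fin n → F)) : (Fin n → F) →ₗ[F] (Fin n → F)) = (e : (Fin n → F) →ₗ[F] (Fin n → F)) := by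
    rw [Matrix.SpecialLinearGroup.toLin'_to_linearMap]
    change Matrix.toLin' (LinearMap.toMatrix' (e : (Fin n → F) →ₗ[F] (Fin n → F))) = _
    rw [Matrix.toLin'_toMatrix']
  rw [h1]
  exact he


end Cfsg.Agent.S2552
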