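import Cfsg.Statements.S2562
import Mathlib
import Cfsg.Agent.Lib.Helper14.Witt

set_option autoImplicit false
open Cfsg

namespace Cfsg.Agent.S2562

/-- Witt indices over the field of two elements, m ≥ 1: for the plus-type form Σ xᵢyᵢ in dimension 2m some m-dimensional subspace is totally singular and no totally singular subspace has larger dimension; for the minus-type form Σ xᵢyᵢ + (z₁² + z₁z₂ + z₂²) in dimension 2m the maximal dimension of a totally singular subspace is m − 1. -/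
theorem result (m : ℕ) (hm : 1 ≤ m) :
    (∃ U : Submodule (ZMod 2) (Fin m ⊕ Fin m → ZMod 2), (∀ u ∈ U, Cfsg.quadFormPlus m (ZMod 2) u = 0) ∧ Module.finrank (ZMod 2) ↥U = m) ∧
    (∀ U : Submodule (ZMod 2) (Fin m ⊕ Fin m → ZMod 2), (∀ u ∈ U, Cfsg.quadFormPlus m (ZMod 2) u = 0) → Module.finrank (ZMod 2) ↥U ≤ m) ∧
    (∃ U : Submodule (ZMod 2) ((Fin (m - 1) ⊕ Fin (m - 1)) ⊕ Fin 2 → ZMod 2), (∀ u ∈ U, Cfsg.quadFormMinus (m - 1) (ZMod 2) 1 1 u = 0) ∧ Module.finrank (ZMod 2) ↥U = m - 1) ∧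
    (∀ U : Submodule (ZMod 2) ((Fin (m - 1) ⊕ Fin (m - 1)) ⊕ Fin 2 → ZMod 2), (∀ u ∈ U, Cfsg.quadFormMinus (m - 1) (ZMod 2) 1 1 u = 0) → Module.finrank (ZMod 2) ↥U ≤ m - 1) := by
  classical
  refine ⟨?_, ?_, ?_, ?_⟩
  · refine ⟨LinearMap.ker (LinearMap.funLeft (ZMod 2) (ZMod 2) (Sum.inr : Fin m → Fin m ⊕ Fin m)), ?_, ?_⟩
    · intro u hu
      have hu' : ∀ i, u (Sum.inr i) = 0 := fun i => congrFun hu i
      unfold Cfsg.quadFormPlus
      apply Finset.sum_eq_zero
      intro i _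
      rw [hu' i, mul_zero]
    · rw [Cfsg.Agent.Lib.Helper14.finrank_ker_funLeft _ Sum.inr_injective]
      simp
  · intro U hU
    exact Cfsg.Agent.Lib.Helper14.witt_bound_plus m U hU
  · set j : Fin (m - 1) ⊕ Fin 2 → (Fin (m - 1) ⊕ Fin (m - 1)) ⊕ Fin 2 :=
      Sum.elim (fun i => Sum.inl (Sum.inr i)) Sum.inr with hj
    have hjinj : Function.Injective j := by
      intro a b hab
      rcases a with a | a <;> rcases b with b | b <;> simp [hj] at hab ⊢ <;> exact hab
    refine ⟨LinearMap.ker (LinearMap.funLeft (ZMod 2) (ZMod 2) j), ?_, ?_⟩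
    · intro u hu
      have hu' : ∀ i, u (j i) = 0 := fun i => congrFun hu i
      have h0 : u (Sum.inr 0) = 0 := hu' (Sum.inr 0)
      have h1 : u (Sum.inr 1) = 0 := hu' (Sum.inr 1)
      unfold Cfsg.quadFormMinus
      rw [h0, h1]
      have : (∑ i : Fin (m - 1), u (Sum.inl (Sum.inl i)) * u (Sum.inl (Sum.inr i))) = 0 := by
        apply Finset.sum_eq_zero
        intro i _
        have := hu' (Sum.inl i)
        simp only [hj, Sum.elim_inl] at this
        rw [this, mul_zero]
      rw [this]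
      simp
    · rw [Cfsg.Agent.Lib.Helper14.finrank_ker_funLeft _ hjinj]
      simp
  · intro U hU
    have h := Cfsg.Agent.Lib.Helper14.witt_bound (F := ZMod 2) (τ := Fin 2)
      (fun z => z 0 ^ 2 + 1 * z 0 * z 1 + 1 * z 1 ^ 2) 0 ?_ (m - 1) U hU
    · omega
    · intro U' hU'
      have : U' = ⊥ := by
        rw [eq_bot_iff]
        intro z hz
        rw [Submodule.mem_bot]
        have h1 := hU' z hz
        funext t
        have key : ∀ a b : ZMod 2, a ^ 2 + 1 * a * b + 1 * b ^ 2 = 0 → a = 0 ∧ b = 0 := by decide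
        have := key _ _ h1
        fin_cases t
        · exact this.1
        · exact this.2
      rw [this, finrank_bot]

end Cfsg.Agent.S2562
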