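import Cfsg.Statements.S2561
import Mathlib
import Cfsg.Agent.Lib.Helper14.ArfF2
import Cfsg.Agent.S2562

set_option autoImplicit false
open Cfsg
open Cfsg.Agent.Lib.Helper14.ArfF2
set_option maxHeartbeats 400000

namespace Cfsg.Agent.S2561

section helpers
variable (m : ℕ)

abbrev V := Fin m ⊕ Fin m → ZMod 2

theorem isQF_plus : IsQF m (quadFormPlus m (ZMod 2)) := by
  intro u v
  unfold pol
  ring

/-- the form `Q⁺ + pol(·, w)` -/
def qw (w : V m) : V m → ZMod 2 := fun v => quadFormPlus m (ZMod 2) v + pol m v w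

theorem isQF_add_pol {q : V m → ZMod 2} (hq : IsQF m q) (w : V m) : IsQF m (fun v => q v + pol m v w) := by
  intro u v
  simp only
  rw [hq u v, pol_add_left]
  ring

theorem isQF_qw (w : V m) : IsQF m (qw m w) := isQF_add_pol m (isQF_plus m) w

theorem qw_injective : Function.Injective (qw m) := by
  intro w w' h
  by_contra hne
  have hne' : w + w' ≠ 0 := by
    intro h0
    apply hne
    have : w = -w' := eq_neg_of_add_eq_zero_left h0
    rw [this]
    funext j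
    simp only [Pi.neg_apply]
    exact (ZMod.neg_eq_self_mod_two _)
  obtain ⟨u, hu⟩ := exists_pol_eq_one m (w + w') hne'
  have h1 := congrFun h u
  unfold qw at h1
  have h2 : pol m u w = pol m u w' := add_left_cancel h1
  rw [pol_add_right, h2, CharTwo.add_self_eq_zero] at hu
  exact zero_ne_one hu

theorem qw_surjective (q : V m → ZMod 2) (hq : IsQF m q) : ∃ w, qw m w = q := by
  classical
  -- L = q - Q⁺ is additive
  let L : V m →+ ZMod 2 :=
    { toFun := fun v => q v + quadFormPlus m (ZMod 2) v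
      map_zero' := by
        rw [hq.zero, (isQF_plus m).zero, add_zero]
      map_add' := by
        intro u v
        rw [hq u v, isQF_plus m u v]
        have := CharTwo.add_self_eq_zero (pol m u v)
        calc q u + q v + pol m u v + (quadFormPlus m (ZMod 2) u + quadFormPlus m (ZMod 2) v + pol m u v)
            = q u + quadFormPlus m (ZMod 2) u + (q v + quadFormPlus m (ZMod 2) v) + (pol m u v + pol m u v) := by ring
          _ = _ := by rw [this, add_zero] }
  let Ll : V m →ₗ[ZMod 2] ZMod 2 := L.toZModLinearMap 2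
  refine ⟨fun j => Sum.elim (fun i => Ll (Pi.single (Sum.inr i) 1)) (fun i => Ll (Pi.single (Sum.inl i) 1)) j, ?_⟩
  funext v
  unfold qw
  have hL : Ll v = q v + quadFormPlus m (ZMod 2) v := rfl
  have hq' : q v = quadFormPlus m (ZMod 2) v + Ll v := by
    rw [hL, add_comm (q v), ← add_assoc, CharTwo.add_self_eq_zero, zero_add]
  rw [hq']
  congr 1
  rw [pol_eq, LinearMap.pi_apply_eq_sum_univ Ll v, Fintype.sum_sum_type, ← Finset.sum_add_distrib]
  apply Finset.sum_congr rfl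
  intro i _
  simp only [Sum.elim_inl, Sum.elim_inr, smul_eq_mul]
  have e1 : (fun j : Fin m ⊕ Fin m => if Sum.inl i = j then (1 : ZMod 2) else 0) = Pi.single (Sum.inl i) 1 := by
    funext j
    simp [Pi.single_apply, eq_comm]
  have e2 : (fun j : Fin m ⊕ Fin m => if Sum.inr i = j then (1 : ZMod 2) else 0) = Pi.single (Sum.inr i) 1 := by
    funext j
    simp [Pi.single_apply, eq_comm]
  rw [e1, e2]
  ring


theorem equiv_of_zero {q : V m → ZMod 2} (hq : IsQF m q) (z : V m) (hz : q z = 0) :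
    ∃ g : V m ≃ₗ[ZMod 2] V m, ∀ v, q v + pol m v z = q (g v) := by
  refine ⟨LinearEquiv.ofInvolutive (transv m z) (transv_invol m z), ?_⟩
  intro v
  rw [LinearEquiv.coe_ofInvolutive, transv_apply]
  rcases zmod2_cases (pol m v z) with h | h
  · rw [h, zero_smul, add_zero, add_zero]
  · rw [h, one_smul, hq v z, hz, h, add_zero]

/-- the reindexing map -/
def sigma (k : ℕ) : (Fin k ⊕ Fin k) ⊕ Fin 2 → Fin (k + 1) ⊕ Fin (k + 1) :=
  Sum.elim (Sum.map Fin.castSucc Fin.castSucc) (fun t => if t = 0 then Sum.inl (Fin.last k) else Sum.inr (Fin.last k))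

def tau (k : ℕ) : Fin (k + 1) ⊕ Fin (k + 1) → (Fin k ⊕ Fin k) ⊕ Fin 2 :=
  Sum.elim (Fin.lastCases (Sum.inr 0) (fun j => Sum.inl (Sum.inl j)))
    (Fin.lastCases (Sum.inr 1) (fun j => Sum.inl (Sum.inr j)))

def sigmaEquiv (k : ℕ) : (Fin k ⊕ Fin k) ⊕ Fin 2 ≃ Fin (k + 1) ⊕ Fin (k + 1) where
  toFun := sigma k
  invFun := tau k
  left_inv := by
    intro j
    rcases j with (j | j) | t
    · simp [sigma, tau]
    · simp [sigma, tau]
    · fin_cases t <;> simp [sigma, tau]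
  right_inv := by
    intro j
    rcases j with j | j
    · induction j using Fin.lastCases with
      | last => simp [sigma, tau]
      | cast j => simp [sigma, tau]
    · induction j using Fin.lastCases with
      | last => simp [sigma, tau]
      | cast j => simp [sigma, tau]

/-- the special vector `e_last + f_last` -/
def w0 (k : ℕ) : V (k + 1) := Pi.single (Sum.inl (Fin.last k)) 1 + Pi.single (Sum.inr (Fin.last k)) 1

theorem zmod2_sq : ∀ a : ZMod 2, a ^ 2 = a := by decide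

theorem qw_w0_eq (k : ℕ) (v : V (k + 1)) :
    qw (k + 1) (w0 k) v = quadFormMinus k (ZMod 2) 1 1 (LinearEquiv.funCongrLeft (ZMod 2) (ZMod 2) (sigmaEquiv k) v) := by
  classical
  unfold qw quadFormMinus quadFormPlus
  rw [pol_eq, Fin.sum_univ_castSucc, Fin.sum_univ_castSucc]
  have h1 : ∀ i : Fin k, (LinearEquiv.funCongrLeft (ZMod 2) (ZMod 2) (sigmaEquiv k) v) (Sum.inl (Sum.inl i)) = v (Sum.inl i.castSucc) := by
    intro i; rfl
  have h2 : ∀ i : Fin k, (LinearEquiv.funCongrLeft (ZMod 2) (ZMod 2) (sigmaEquiv k) v) (Sum.inl (Sum.inr i)) = v (Sum.inr i.castSucc) := by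
    intro i; rfl
  have h3 : (LinearEquiv.funCongrLeft (ZMod 2) (ZMod 2) (sigmaEquiv k) v) (Sum.inr 0) = v (Sum.inl (Fin.last k)) := by
    rfl
  have h4 : (LinearEquiv.funCongrLeft (ZMod 2) (ZMod 2) (sigmaEquiv k) v) (Sum.inr 1) = v (Sum.inr (Fin.last k)) := by
    rfl
  simp only [h1, h2, h3, h4, zmod2_sq]
  have h5 : ∑ i : Fin k, (v (Sum.inl i.castSucc) * w0 k (Sum.inr i.castSucc) + w0 k (Sum.inl i.castSucc) * v (Sum.inr i.castSucc)) = 0 := by
    apply Finset.sum_eq_zero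
    intro i _
    simp [w0, Fin.castSucc_ne_last]
  rw [h5]
  simp [w0]
  ring


theorem not_plus_equiv_minus (hm : 1 ≤ m)
    (g : V m ≃ₗ[ZMod 2] ((Fin (m - 1) ⊕ Fin (m - 1)) ⊕ Fin 2 → ZMod 2))
    (hg : ∀ v, quadFormPlus m (ZMod 2) v = quadFormMinus (m - 1) (ZMod 2) 1 1 (g v)) : False := by
  obtain ⟨⟨U, hU, hUd⟩, -, -, hmax⟩ := Cfsg.Agent.S2562.result m hm
  have h1 := hmax (U.map g.toLinearMap) (by
    rintro _ ⟨u, hu, rfl⟩
    have := hg u
    rw [hU u hu] at this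
    exact this.symm)
  have h2 : Module.finrank (ZMod 2) (U.map g.toLinearMap) = Module.finrank (ZMod 2) U :=
    LinearEquiv.finrank_map_eq g U
  omega

theorem sum_chi_dot (x : Fin m → ZMod 2) :
    ∑ y : Fin m → ZMod 2, chi (∑ i, x i * y i) = if x = 0 then (2 : ℤ) ^ m else 0 := by
  classical
  split_ifs with hx
  · subst hx
    simp [chi_zero]
  · have : ∃ j, x j ≠ 0 := by
      by_contra h
      push Not at h
      exact hx (funext h)
    obtain ⟨j, hj⟩ := this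
    have hj1 : x j = 1 := (zmod2_cases (x j)).resolve_left hj
    set ej : Fin m → ZMod 2 := Pi.single j 1 with hej
    have h1 : ∑ y : Fin m → ZMod 2, chi (∑ i, x i * y i) =
        ∑ y : Fin m → ZMod 2, chi (∑ i, x i * (y + ej) i) :=
      (Equiv.sum_comp (Equiv.addRight ej) (fun y => chi (∑ i, x i * y i))).symm
    have h2 : ∑ y : Fin m → ZMod 2, chi (∑ i, x i * (y + ej) i) =
        - ∑ y : Fin m → ZMod 2, chi (∑ i, x i * y i) := by
      rw [← Finset.sum_neg_distrib]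
      apply Finset.sum_congr rfl
      intro y _
      rw [← chi_add_one]
      congr 1
      simp only [Pi.add_apply, mul_add, Finset.sum_add_distrib]
      congr 1
      rw [Finset.sum_eq_single j]
      · simp [hej, hj1]
      · intro b _ hb
        simp [hej, hb]
      · intro h; exact absurd (Finset.mem_univ j) h
    omega

theorem charsum_plus : ∑ v : V m, chi (quadFormPlus m (ZMod 2) v) = (2 : ℤ) ^ m := by
  classical
  have h1 := Equiv.sum_comp (Equiv.sumArrowEquivProdArrow (Fin m) (Fin m) (ZMod 2)).symm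
    (fun v : V m => chi (quadFormPlus m (ZMod 2) v))
  rw [← h1, Fintype.sum_prod_type]
  have h2 : ∀ x y : Fin m → ZMod 2,
      chi (quadFormPlus m (ZMod 2) ((Equiv.sumArrowEquivProdArrow (Fin m) (Fin m) (ZMod 2)).symm (x, y))) =
      chi (∑ i, x i * y i) := by
    intro x y
    rfl
  simp only [h2, sum_chi_dot]
  simp


theorem plus_of_zero (w : V m) (hw : quadFormPlus m (ZMod 2) w = 0) :
    ∃ g : V m ≃ₗ[ZMod 2] V m, ∀ v, qw m w v = quadFormPlus m (ZMod 2) (g v) :=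
  equiv_of_zero m (isQF_plus m) w hw

theorem quadFormPlus_w0 (k : ℕ) : quadFormPlus (k + 1) (ZMod 2) (w0 k) = 1 := by
  classical
  unfold quadFormPlus
  rw [Finset.sum_eq_single (Fin.last k)]
  · simp [w0]
  · intro b _ hb
    simp [w0, hb]
  · intro h; exact absurd (Finset.mem_univ _) h

theorem minus_of_one_succ (k : ℕ) (w : V (k + 1)) (hw : quadFormPlus (k + 1) (ZMod 2) w = 1) :
    ∃ g : V (k + 1) ≃ₗ[ZMod 2] ((Fin k ⊕ Fin k) ⊕ Fin 2 → ZMod 2),
      ∀ v, qw (k + 1) w v = quadFormMinus k (ZMod 2) 1 1 (g v) := by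
  have hz : qw (k + 1) (w0 k) (w + w0 k) = 0 := by
    unfold qw
    rw [isQF_plus (k + 1) w (w0 k), hw, quadFormPlus_w0, pol_add_left, pol_self, add_zero]
    have := CharTwo.add_self_eq_zero (pol (k + 1) w (w0 k))
    have h11 : (1 : ZMod 2) + 1 = 0 := by decide
    calc (1 : ZMod 2) + 1 + pol (k + 1) w (w0 k) + pol (k + 1) w (w0 k)
        = (1 + 1) + (pol (k + 1) w (w0 k) + pol (k + 1) w (w0 k)) := by ring
      _ = 0 := by rw [this, h11, add_zero]
  obtain ⟨g, hg⟩ := equiv_of_zero (k + 1) (isQF_qw (k + 1) (w0 k)) (w + w0 k) hz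
  refine ⟨g.trans (LinearEquiv.funCongrLeft (ZMod 2) (ZMod 2) (sigmaEquiv k)), ?_⟩
  intro v
  rw [LinearEquiv.trans_apply, ← qw_w0_eq, ← hg v]
  unfold qw
  rw [pol_add_right]
  have := CharTwo.add_self_eq_zero (pol (k + 1) v (w0 k))
  calc quadFormPlus (k + 1) (ZMod 2) v + pol (k + 1) v w
      = quadFormPlus (k + 1) (ZMod 2) v + pol (k + 1) v w + 0 := by rw [add_zero]
    _ = quadFormPlus (k + 1) (ZMod 2) v + pol (k + 1) v w + (pol (k + 1) v (w0 k) + pol (k + 1) v (w0 k)) := by rw [this]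
    _ = _ := by ring

theorem minus_of_one (hm : 1 ≤ m) (w : V m) (hw : quadFormPlus m (ZMod 2) w = 1) :
    ∃ g : V m ≃ₗ[ZMod 2] ((Fin (m - 1) ⊕ Fin (m - 1)) ⊕ Fin 2 → ZMod 2),
      ∀ v, qw m w v = quadFormMinus (m - 1) (ZMod 2) 1 1 (g v) := by
  obtain ⟨k, rfl⟩ : ∃ k, m = k + 1 := ⟨m - 1, by omega⟩
  exact minus_of_one_succ k w hw

theorem not_both (hm : 1 ≤ m) (q : V m → ZMod 2)
    (h1 : ∃ g : V m ≃ₗ[ZMod 2] V m, ∀ v, q v = quadFormPlus m (ZMod 2) (g v))
    (h2 : ∃ g : V m ≃ₗ[ZMod 2] ((Fin (m - 1) ⊕ Fin (m - 1)) ⊕ Fin 2 → ZMod 2),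
      ∀ v, q v = quadFormMinus (m - 1) (ZMod 2) 1 1 (g v)) : False := by
  obtain ⟨g1, hg1⟩ := h1
  obtain ⟨g2, hg2⟩ := h2
  apply not_plus_equiv_minus m hm (g1.symm.trans g2)
  intro v
  rw [LinearEquiv.trans_apply, ← hg2, hg1, LinearEquiv.apply_symm_apply]

theorem plus_iff (hm : 1 ≤ m) (w : V m) :
    (∃ g : V m ≃ₗ[ZMod 2] V m, ∀ v, qw m w v = quadFormPlus m (ZMod 2) (g v)) ↔
      quadFormPlus m (ZMod 2) w = 0 := by
  constructor
  · intro h
    by_contra hw
    have hw1 := (zmod2_cases _).resolve_left hw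
    exact not_both m hm _ h (minus_of_one m hm w hw1)
  · exact plus_of_zero m w

theorem minus_iff (hm : 1 ≤ m) (w : V m) :
    (∃ g : V m ≃ₗ[ZMod 2] ((Fin (m - 1) ⊕ Fin (m - 1)) ⊕ Fin 2 → ZMod 2),
      ∀ v, qw m w v = quadFormMinus (m - 1) (ZMod 2) 1 1 (g v)) ↔
      quadFormPlus m (ZMod 2) w ≠ 0 := by
  constructor
  · intro h hw
    exact not_both m hm _ (plus_of_zero m w hw) h
  · intro hw
    exact minus_of_one m hm w ((zmod2_cases _).resolve_left hw)

/-- transport of counting along `qw` -/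
theorem card_transport (R : (V m → ZMod 2) → Prop) (r : V m → Prop) (h : ∀ w, R (qw m w) ↔ r w) :
    Nat.card {q : V m → ZMod 2 // IsQF m q ∧ R q} = Nat.card {w : V m // r w} := by
  symm
  apply Nat.card_congr
  refine Equiv.ofBijective (fun w => ⟨qw m w.1, isQF_qw m w.1, (h w.1).mpr w.2⟩) ⟨?_, ?_⟩
  · intro a b hab
    apply Subtype.ext
    apply qw_injective m
    exact congrArg Subtype.val hab
  · rintro ⟨q, hq, hR⟩
    obtain ⟨w, rfl⟩ := qw_surjective m q hq
    exact ⟨⟨w, (h w).mp hR⟩, rfl⟩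


theorem card_V : Fintype.card (V m) = 2 ^ (2 * m) := by
  simp [two_mul]

theorem card_zeros_nonzeros (hm : 1 ≤ m) :
    Nat.card {w : V m // quadFormPlus m (ZMod 2) w = 0} = 2 ^ (2 * m - 1) + 2 ^ (m - 1) ∧
    Nat.card {w : V m // quadFormPlus m (ZMod 2) w ≠ 0} = 2 ^ (2 * m - 1) - 2 ^ (m - 1) := by
  classical
  rw [Nat.card_eq_fintype_card, Nat.card_eq_fintype_card, Fintype.card_subtype, Fintype.card_subtype]
  set Z := (Finset.univ.filter (fun w : V m => quadFormPlus m (ZMod 2) w = 0)).card with hZ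
  set Nz := (Finset.univ.filter (fun w : V m => quadFormPlus m (ZMod 2) w ≠ 0)).card with hNz
  have h1 : Z + Nz = 2 ^ (2 * m) := by
    rw [hZ, hNz, Finset.card_filter_add_card_filter_not, Finset.card_univ, card_V]
  have h2 : (Z : ℤ) - Nz = 2 ^ m := by
    rw [← charsum_plus m]
    unfold chi
    rw [Finset.sum_ite, Finset.sum_const, Finset.sum_const]
    simp only [nsmul_eq_mul, mul_one, mul_neg]
    rw [hZ, hNz]
    ring
  obtain ⟨k, rfl⟩ : ∃ k, m = k + 1 := ⟨m - 1, by omega⟩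
  have e1 : 2 * (k + 1) - 1 = 2 * k + 1 := by omega
  have e2 : k + 1 - 1 = k := by omega
  have e3 : 2 * (k + 1) = (2 * k + 1) + 1 := by omega
  rw [e1, e2]
  rw [e3, pow_succ] at h1
  rw [pow_succ] at h2
  have h3 : (2 : ℕ) ^ k ≤ 2 ^ (2 * k + 1) := Nat.pow_le_pow_right (by norm_num) (by omega)
  have h1' : (Z : ℤ) + Nz = 2 ^ (2 * k + 1) * 2 := by exact_mod_cast h1
  constructor
  · have : (Z : ℤ) = 2 ^ (2 * k + 1) + 2 ^ k := by linarith
    exact_mod_cast this
  · have : (Nz : ℤ) = 2 ^ (2 * k + 1) - 2 ^ k := by linarith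
    have h4 : ((2 ^ (2 * k + 1) - 2 ^ k : ℕ) : ℤ) = 2 ^ (2 * k + 1) - 2 ^ k := by
      rw [Nat.cast_sub h3]; push_cast; ring
    rw [← h4] at this
    exact_mod_cast this

end helpers

/-- Fix the non-singular alternating form on the 2m-dimensional space over the field of two elements obtained by polarizing the plus-type form Σ xᵢyᵢ (m ≥ 1). The functions q on the space with q(u + v) = q(u) + q(v) + f(u, v) (the quadratic forms polarizing to f) number 2^(2m); each is equivalent under an invertible linear map either to the plus-type form or to the minus-type form Σ xᵢyᵢ + (z₁² + z₁z₂ + z₂²); and those of plus type number 2^(2m−1) + 2^(m−1), those of minus type 2^(2m−1) − 2^(m−1). -/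
theorem result (m : ℕ) (hm : 1 ≤ m) :
    Nat.card {q : (Fin m ⊕ Fin m → ZMod 2) → ZMod 2 // (∀ u v : (Fin m ⊕ Fin m → ZMod 2), q (u + v) = q u + q v + (Cfsg.quadFormPlus m (ZMod 2) (u + v) - Cfsg.quadFormPlus m (ZMod 2) u - Cfsg.quadFormPlus m (ZMod 2) v))} = 2 ^ (2 * m) ∧
    (∀ q : (Fin m ⊕ Fin m → ZMod 2) → ZMod 2, (∀ u v : (Fin m ⊕ Fin m → ZMod 2), q (u + v) = q u + q v + (Cfsg.quadFormPlus m (ZMod 2) (u + v) - Cfsg.quadFormPlus m (ZMod 2) u - Cfsg.quadFormPlus m (ZMod 2) v)) →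
      (∃ g : (Fin m ⊕ Fin m → ZMod 2) ≃ₗ[ZMod 2] (Fin m ⊕ Fin m → ZMod 2), ∀ v, q v = Cfsg.quadFormPlus m (ZMod 2) (g v)) ∨
      (∃ g : (Fin m ⊕ Fin m → ZMod 2) ≃ₗ[ZMod 2] ((Fin (m - 1) ⊕ Fin (m - 1)) ⊕ Fin 2 → ZMod 2), ∀ v, q v = Cfsg.quadFormMinus (m - 1) (ZMod 2) 1 1 (g v))) ∧
    Nat.card {q : (Fin m ⊕ Fin m → ZMod 2) → ZMod 2 // (∀ u v : (Fin m ⊕ Fin m → ZMod 2), q (u + v) = q u + q v + (Cfsg.quadFormPlus m (ZMod 2) (u + v) - Cfsg.quadFormPlus m (ZMod 2) u - Cfsg.quadFormPlus m (ZMod 2) v)) ∧ ∃ g : (Fin m ⊕ Fin m → ZMod 2) ≃ₗ[ZMod 2] (Fin m ⊕ Fin m → ZMod 2), ∀ v, q v = Cfsg.quadFormPlus m (ZMod 2) (g v)} = 2 ^ (2 * m - 1) + 2 ^ (m - 1) ∧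
    Nat.card {q : (Fin m ⊕ Fin m → ZMod 2) → ZMod 2 // (∀ u v : (Fin m ⊕ Fin m → ZMod 2), q (u + v) = q u + q v + (Cfsg.quadFormPlus m (ZMod 2) (u + v) - Cfsg.quadFormPlus m (ZMod 2) u - Cfsg.quadFormPlus m (ZMod 2) v)) ∧ ∃ g : (Fin m ⊕ Fin m → ZMod 2) ≃ₗ[ZMod 2] ((Fin (m - 1) ⊕ Fin (m - 1)) ⊕ Fin 2 → ZMod 2), ∀ v, q v = Cfsg.quadFormMinus (m - 1) (ZMod 2) 1 1 (g v)} = 2 ^ (2 * m - 1) - 2 ^ (m - 1) := by
  refine ⟨?_, ?_, ?_, ?_⟩
  · have h := card_transport m (fun _ => True) (fun _ => True) (fun _ => Iff.rfl)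
    have h1 : Nat.card {q : V m → ZMod 2 // IsQF m q} = Nat.card {q : V m → ZMod 2 // IsQF m q ∧ True} :=
      Nat.card_congr (Equiv.subtypeEquivRight (fun q => (and_iff_left trivial).symm))
    have h2 : Nat.card {w : V m // True} = Nat.card (V m) :=
      Nat.card_congr (Equiv.subtypeUnivEquiv (fun _ => trivial))
    change Nat.card {q : V m → ZMod 2 // IsQF m q} = 2 ^ (2 * m)
    rw [h1, h, h2, Nat.card_eq_fintype_card, card_V]
  · intro q hq
    obtain ⟨w, rfl⟩ := qw_surjective m q hq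
    rcases zmod2_cases (quadFormPlus m (ZMod 2) w) with hw | hw
    · exact Or.inl (plus_of_zero m w hw)
    · exact Or.inr (minus_of_one m hm w hw)
  · have h := card_transport m
      (fun q => ∃ g : V m ≃ₗ[ZMod 2] V m, ∀ v, q v = quadFormPlus m (ZMod 2) (g v))
      (fun w => quadFormPlus m (ZMod 2) w = 0) (plus_iff m hm)
    rw [(card_zeros_nonzeros m hm).1] at h
    exact h
  · have h := card_transport m
      (fun q => ∃ g : V m ≃ₗ[ZMod 2] ((Fin (m - 1) ⊕ Fin (m - 1)) ⊕ Fin 2 → ZMod 2),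
        ∀ v, q v = quadFormMinus (m - 1) (ZMod 2) 1 1 (g v))
      (fun w => quadFormPlus m (ZMod 2) w ≠ 0) (minus_iff m hm)
    rw [(card_zeros_nonzeros m hm).2] at h
    exact h


end Cfsg.Agent.S2561
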