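import Cfsg.Statements.S2564
import Mathlib
import Cfsg.Agent.Lib.Helper14.ArfF2

set_option autoImplicit false
open Cfsg
open Cfsg.Agent.Lib.Helper14.ArfF2
set_option maxHeartbeats 400000

namespace Cfsg.Agent.S2564

/-- On the 2m-dimensional space over the field of two elements (m ≥ 1) let f be the alternating form obtained by polarizing the plus-type form Σ xᵢyᵢ, and let q be any quadratic form polarizing to f. For a vector w, the function q + f(·, w) again polarizes to f, and it is equivalent to q under an invertible linear map (that is, has the same type) if and only if q(w) = 0. -/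
theorem result (m : ℕ) (hm : 1 ≤ m) (q : (Fin m ⊕ Fin m → ZMod 2) → ZMod 2) (hq : (∀ u v : (Fin m ⊕ Fin m → ZMod 2), q (u + v) = q u + q v + (Cfsg.quadFormPlus m (ZMod 2) (u + v) - Cfsg.quadFormPlus m (ZMod 2) u - Cfsg.quadFormPlus m (ZMod 2) v))) (w : (Fin m ⊕ Fin m → ZMod 2)) :
    (∀ u v : (Fin m ⊕ Fin m → ZMod 2), (q (u + v) + (Cfsg.quadFormPlus m (ZMod 2) (u + v + w) - Cfsg.quadFormPlus m (ZMod 2) (u + v) - Cfsg.quadFormPlus m (ZMod 2) w)) =
        (q u + (Cfsg.quadFormPlus m (ZMod 2) (u + w) - Cfsg.quadFormPlus m (ZMod 2) u - Cfsg.quadFormPlus m (ZMod 2) w)) + (q v + (Cfsg.quadFormPlus m (ZMod 2) (v + w) - Cfsg.quadFormPlus m (ZMod 2) v - Cfsg.quadFormPlus m (ZMod 2) w)) +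
        (Cfsg.quadFormPlus m (ZMod 2) (u + v) - Cfsg.quadFormPlus m (ZMod 2) u - Cfsg.quadFormPlus m (ZMod 2) v)) ∧
    ((∃ g : (Fin m ⊕ Fin m → ZMod 2) ≃ₗ[ZMod 2] (Fin m ⊕ Fin m → ZMod 2), ∀ v, q v + (Cfsg.quadFormPlus m (ZMod 2) (v + w) - Cfsg.quadFormPlus m (ZMod 2) v - Cfsg.quadFormPlus m (ZMod 2) w) = q (g v)) ↔ q w = 0) := by
  have hq' : IsQF m q := hq
  constructor
  · intro u v
    change q (u + v) + pol m (u + v) w = (q u + pol m u w) + (q v + pol m v w) + pol m u v
    rw [hq' u v, pol_add_left]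
    ring
  · change (∃ g : (Fin m ⊕ Fin m → ZMod 2) ≃ₗ[ZMod 2] (Fin m ⊕ Fin m → ZMod 2), ∀ v, q v + pol m v w = q (g v)) ↔ q w = 0
    constructor
    · rintro ⟨g, hg⟩
      by_contra hw
      have hw1 : q w = 1 := (zmod2_cases (q w)).resolve_left hw
      apply charsum_ne_zero m hq'
      have h1 : ∑ v : Fin m ⊕ Fin m → ZMod 2, chi (q (g v)) = ∑ v : Fin m ⊕ Fin m → ZMod 2, chi (q v) :=
        Equiv.sum_comp g.toEquiv (fun v => chi (q v))
      have h2 : ∑ v : Fin m ⊕ Fin m → ZMod 2, chi (q (v + w)) = ∑ v : Fin m ⊕ Fin m → ZMod 2, chi (q v) :=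
        Equiv.sum_comp (Equiv.addRight w) (fun v => chi (q v))
      have h3 : ∑ v : Fin m ⊕ Fin m → ZMod 2, chi (q (g v)) = - ∑ v : Fin m ⊕ Fin m → ZMod 2, chi (q (v + w)) := by
        rw [← Finset.sum_neg_distrib]
        apply Finset.sum_congr rfl
        intro v _
        rw [← hg v, hq' v w, hw1, ← chi_add_one]
        congr 1
        have := CharTwo.add_self_eq_zero (pol m v w)
        calc q v + pol m v w = q v + pol m v w + 0 := by rw [add_zero]
          _ = q v + pol m v w + (1 + 1) := by rw [CharTwo.add_self_eq_zero]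
          _ = q v + 1 + pol m v w + 1 := by ring
      omega
    · intro hw
      refine ⟨LinearEquiv.ofInvolutive (transv m w) (transv_invol m w), ?_⟩
      intro v
      rw [LinearEquiv.coe_ofInvolutive, transv_apply]
      rcases zmod2_cases (pol m v w) with h | h
      · rw [h, zero_smul, add_zero, add_zero]
      · rw [h, one_smul, hq' v w, hw, h, add_zero]


end Cfsg.Agent.S2564
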