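import Cfsg.Statements.S2567
-- import your own Cfsg.Agent.* helpers here

set_option autoImplicit false
open Cfsg

namespace Cfsg.Agent.S2567

theorem aux_center_lift {G : Type*} [Group G] {r : ℕ} (hr : r.Prime) [Finite (Subgroup.center G)]
    (hcop : (Nat.card (Subgroup.center G)).Coprime r)
    (x : G ⧸ Subgroup.center G) (hx : orderOf x = r) :
    ∃! g : G, (QuotientGroup.mk g : G ⧸ Subgroup.center G) = x ∧ orderOf g = r := by
  obtain ⟨g₀, rfl⟩ := QuotientGroup.mk_surjective x
  have h1 : g₀ ^ r ∈ Subgroup.center G := by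
    rw [← QuotientGroup.eq_one_iff, QuotientGroup.mk_pow, ← hx, pow_orderOf_eq_one]
  have hx1 : (QuotientGroup.mk g₀ : G ⧸ Subgroup.center G) ≠ 1 := by
    intro h
    rw [h, orderOf_one] at hx
    exact hr.one_lt.ne hx
  -- z with z^r = (g₀^r)⁻¹
  obtain ⟨z, hz⟩ := (powCoprime hcop).surjective (⟨g₀ ^ r, h1⟩⁻¹)
  have hz' : (z : G) ^ r = (g₀ ^ r)⁻¹ := by
    have := congrArg Subtype.val hz
    simpa using this
  have hzc : ∀ y : G, y * z = z * y := fun y => (Subgroup.mem_center_iff.mp z.2 y)
  refine ⟨g₀ * z, ⟨?_, ?_⟩, ?_⟩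
  · rw [QuotientGroup.mk_mul, (QuotientGroup.eq_one_iff (z : G)).mpr z.2, mul_one]
  · have hpow : (g₀ * z) ^ r = 1 := by
      rw [(show Commute g₀ (z : G) from hzc g₀).mul_pow, hz', mul_inv_cancel]
    have hd := orderOf_dvd_of_pow_eq_one hpow
    rcases (Nat.dvd_prime hr).mp hd with h | h
    · exfalso
      apply hx1
      rw [orderOf_eq_one_iff] at h
      have : (QuotientGroup.mk (g₀ * z) : G ⧸ Subgroup.center G) = QuotientGroup.mk g₀ := by
        rw [QuotientGroup.mk_mul, (QuotientGroup.eq_one_iff (z : G)).mpr z.2, mul_one]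
      rw [← this, h, QuotientGroup.mk_one]
    · exact h
  · rintro g' ⟨hg'1, hg'2⟩
    -- g' = g₀ * w, w central
    have hw : g₀⁻¹ * g' ∈ Subgroup.center G := by
      rw [← QuotientGroup.eq_one_iff, QuotientGroup.mk_mul, QuotientGroup.mk_inv, hg'1, inv_mul_cancel]
    set w : Subgroup.center G := ⟨g₀⁻¹ * g', hw⟩ with hwdef
    have hg' : g' = g₀ * w := by simp [hwdef]
    have hwc : ∀ y : G, y * w = w * y := fun y => (Subgroup.mem_center_iff.mp w.2 y)
    have h2 : (g₀ * w) ^ r = 1 := by rw [← hg', ← hg'2, pow_orderOf_eq_one]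
    rw [(show Commute g₀ (w : G) from hwc g₀).mul_pow] at h2
    have h3 : (w : G) ^ r = (z : G) ^ r := by
      rw [hz']; exact eq_inv_of_mul_eq_one_right h2
    have h4 : w ^ r = z ^ r := Subtype.ext (by simpa using h3)
    have h5 : w = z := (powCoprime hcop).injective h4
    rw [hg', h5]

/-- Lifting elements of prime order from PGL to GL: let F be a finite field with q elements, r a prime not dividing q − 1, and x an element of order r in GL_n(F) modulo its centre (the scalar matrices). Then x has exactly one preimage in GL_n(F) of order r. -/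
theorem result {F : Type*} [Field F] [Fintype F] {q n r : ℕ} (hF : Fintype.card F = q) (hr : r.Prime) (hdiv : ¬ r ∣ q - 1) (x : GL (Fin n) F ⧸ Subgroup.center (GL (Fin n) F)) (hx : orderOf x = r) : ∃! g : GL (Fin n) F, (QuotientGroup.mk g : GL (Fin n) F ⧸ Subgroup.center (GL (Fin n) F)) = x ∧ orderOf g = r := by
  have hfin : Finite (Subgroup.center (GL (Fin n) F)) := inferInstance
  have hcop : (Nat.card (Subgroup.center (GL (Fin n) F))).Coprime r := by
    rw [Matrix.GeneralLinearGroup.center_eq_range_scalar]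
    have h1 : Nat.card (Matrix.GeneralLinearGroup.scalar (Fin n) (R := F)).range ∣ Nat.card Fˣ :=
      Subgroup.card_range_dvd _
    have h2 : Nat.card Fˣ = q - 1 := by
      rw [Nat.card_units, Nat.card_eq_fintype_card, hF]
    rw [h2] at h1
    rw [Nat.coprime_comm]
    exact Nat.Coprime.coprime_dvd_right h1 ((Nat.Prime.coprime_iff_not_dvd hr).mpr hdiv)
  exact aux_center_lift hr hcop x hx

end Cfsg.Agent.S2567
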