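import Cfsg.Statements.S2571
import Cfsg.Agent.Lib.Helper14.RegUnip

set_option autoImplicit false
open Cfsg

namespace Cfsg.Agent.S2571

open Cfsg.Agent.Lib.Helper14

variable {F : Type*} [Field F] {n : ℕ}

/-- Lemma K: an invariant subspace containing a cyclic vector is everything. -/
theorem invariant_eq_top (A : Matrix (Fin n) (Fin n) F) (hnil : (A - 1) ^ n = 0)
    (hreg : (A - 1).rank = n - 1) (W : Submodule F (Fin n → F))
    (hW : ∀ w ∈ W, A.mulVec w ∈ W) (v : Fin n → F) (hv : v ∈ W)
    (hcyc : ((A - 1) ^ (n - 1)).mulVec v ≠ 0) : W = ⊤ := by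
  have hreg' : (A - 1).rank = Fintype.card (Fin n) - 1 := by simpa using hreg
  have h1 := regular_unipotent_invariant A hnil hreg' W hW
  apply Submodule.eq_top_of_finrank_eq
  rw [Module.finrank_fin_fun]
  by_contra hne
  have hle : Module.finrank F W ≤ n := by
    have := Submodule.finrank_le W
    rwa [Module.finrank_fin_fun] at this
  have hlt : Module.finrank F W ≤ n - 1 := by omega
  apply hcyc
  rw [h1, LinearMap.mem_ker, Matrix.mulVecLin_apply] at hv
  obtain ⟨d, hd⟩ := Nat.exists_eq_add_of_le hlt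
  rw [hd, add_comm, pow_add, ← Matrix.mulVec_mulVec, hv, Matrix.mulVec_zero]

theorem exists_cyclic (hn : 1 ≤ n) (A : Matrix (Fin n) (Fin n) F)
    (hreg : (A - 1).rank = n - 1) : ∃ v : Fin n → F, ((A - 1) ^ (n - 1)).mulVec v ≠ 0 := by
  by_contra hcon
  push Not at hcon
  set N : Module.End F (Fin n → F) := Matrix.mulVecLin (A - 1) with hN
  have hpow : ∀ k, Matrix.mulVecLin ((A - 1) ^ k) = N ^ k := by
    intro k
    rw [hN, ← Matrix.toLin'_apply', ← Matrix.toLin'_apply', Matrix.toLin'_pow]
  have hker : Module.finrank F (LinearMap.ker N) ≤ 1 := by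
    have := LinearMap.finrank_range_add_finrank_ker N
    have hreg' : Module.finrank F (LinearMap.range N) = n - 1 := hreg
    rw [Module.finrank_fin_fun] at this
    omega
  have h1 := finrank_ker_pow_le N (n - 1)
  have h2 : LinearMap.ker (N ^ (n - 1)) = ⊤ := by
    rw [eq_top_iff]
    intro v _
    rw [LinearMap.mem_ker, ← hpow, Matrix.mulVecLin_apply]
    exact hcon v
  rw [h2, finrank_top, Module.finrank_fin_fun] at h1
  have : (n - 1) * Module.finrank F (LinearMap.ker N) ≤ (n - 1) * 1 := Nat.mul_le_mul_left _ hker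
  omega

theorem span_pow_eq_top (hn : 1 ≤ n) (A : Matrix (Fin n) (Fin n) F) (hnil : (A - 1) ^ n = 0)
    (hreg : (A - 1).rank = n - 1) (v : Fin n → F)
    (hcyc : ((A - 1) ^ (n - 1)).mulVec v ≠ 0) :
    Submodule.span F (Set.range fun i : Fin n => ((A - 1) ^ (i : ℕ)).mulVec v) = ⊤ := by
  apply invariant_eq_top A hnil hreg _ ?_ v ?_ hcyc
  · intro w hw
    have h1 : A.mulVec w = (A - 1).mulVec w + w := by
      rw [Matrix.sub_mulVec, Matrix.one_mulVec]; abel
    rw [h1]
    refine Submodule.add_mem _ ?_ hw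
    have hmap : Submodule.map (Matrix.mulVecLin (A - 1))
        (Submodule.span F (Set.range fun i : Fin n => ((A - 1) ^ (i : ℕ)).mulVec v)) ≤
        Submodule.span F (Set.range fun i : Fin n => ((A - 1) ^ (i : ℕ)).mulVec v) := by
      rw [Submodule.map_span_le]
      rintro _ ⟨i, rfl⟩
      rw [Matrix.mulVecLin_apply, Matrix.mulVec_mulVec, ← pow_succ']
      by_cases h : (i : ℕ) + 1 < n
      · apply Submodule.subset_span
        exact ⟨⟨(i : ℕ) + 1, h⟩, rfl⟩
      · have h2 : (i : ℕ) + 1 = n := by omega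
        rw [h2, hnil, Matrix.zero_mulVec]
        exact Submodule.zero_mem _
    exact hmap (Submodule.mem_map_of_mem hw)
  · apply Submodule.subset_span
    exact ⟨⟨0, hn⟩, by simp⟩


theorem finrank_ker_pow_pred (hn : 1 ≤ n) (A : Matrix (Fin n) (Fin n) F) (hnil : (A - 1) ^ n = 0)
    (hreg : (A - 1).rank = n - 1) :
    Module.finrank F (LinearMap.ker (Matrix.mulVecLin ((A - 1) ^ (n - 1)))) = n - 1 := by
  set N : Module.End F (Fin n → F) := Matrix.mulVecLin (A - 1) with hN
  have hpow : ∀ k, Matrix.mulVecLin ((A - 1) ^ k) = N ^ k := by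
    intro k
    rw [hN, ← Matrix.toLin'_apply', ← Matrix.toLin'_apply', Matrix.toLin'_pow]
  have hker : Module.finrank F (LinearMap.ker N) ≤ 1 := by
    have := LinearMap.finrank_range_add_finrank_ker N
    have hreg' : Module.finrank F (LinearMap.range N) = n - 1 := hreg
    rw [Module.finrank_fin_fun] at this
    omega
  rw [hpow]
  have h1 := finrank_ker_pow_le N (n - 1)
  have h2 := finrank_ker_comp_le' (N ^ (n - 1)) N
  have h3 : (N ^ (n - 1)) ∘ₗ N = 0 := by
    rw [← Module.End.mul_eq_comp, ← pow_succ, Nat.sub_add_cancel hn, ← hpow, hnil]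
    simp
  rw [h3, LinearMap.ker_zero, finrank_top, Module.finrank_fin_fun] at h2
  have : (n - 1) * Module.finrank F (LinearMap.ker N) ≤ (n - 1) * 1 := Nat.mul_le_mul_left _ hker
  omega

theorem card_centralizer [Fintype F] {q : ℕ} (hF : Fintype.card F = q) (hn : 1 ≤ n)
    (u : GL (Fin n) F) (hnil : ((u : Matrix (Fin n) (Fin n) F) - 1) ^ n = 0)
    (hreg : ((u : Matrix (Fin n) (Fin n) F) - 1).rank = n - 1) :
    Nat.card ↥(Subgroup.centralizer ({u} : Set (GL (Fin n) F))) = (q - 1) * q ^ (n - 1) := by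
  classical
  set A : Matrix (Fin n) (Fin n) F := (u : Matrix (Fin n) (Fin n) F) with hA
  obtain ⟨v, hv⟩ := exists_cyclic hn A hreg
  have hspan := span_pow_eq_top hn A hnil hreg v hv
  -- membership in the centralizer
  have hmem : ∀ g : GL (Fin n) F, g ∈ Subgroup.centralizer ({u} : Set (GL (Fin n) F)) ↔
      A * (g : Matrix (Fin n) (Fin n) F) = (g : Matrix (Fin n) (Fin n) F) * A := by
    intro g
    rw [Subgroup.mem_centralizer_iff]
    constructor
    · intro h
      have := h u (Set.mem_singleton u)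
      have h2 := congrArg (fun x : GL (Fin n) F => (x : Matrix (Fin n) (Fin n) F)) this
      simpa using h2
    · intro h x hx
      rw [Set.mem_singleton_iff] at hx
      subst hx
      apply Units.ext
      simpa using h
  have hcommN : ∀ M : Matrix (Fin n) (Fin n) F, A * M = M * A → ∀ k, (A - 1) ^ k * M = M * (A - 1) ^ k := by
    intro M hM k
    have h1 : Commute (A - 1) M := by
      show (A - 1) * M = M * (A - 1)
      rw [Matrix.sub_mul, Matrix.mul_sub, hM, Matrix.one_mul, Matrix.mul_one]
    exact (h1.pow_left k).eq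
  -- the map
  let T := {w : Fin n → F // ((A - 1) ^ (n - 1)).mulVec w ≠ 0}
  let f : ↥(Subgroup.centralizer ({u} : Set (GL (Fin n) F))) → T := fun g =>
    ⟨((g : GL (Fin n) F) : Matrix (Fin n) (Fin n) F).mulVec v, by
      have h1 := hcommN _ ((hmem g.1).mp g.2) (n - 1)
      rw [Matrix.mulVec_mulVec, h1, ← Matrix.mulVec_mulVec]
      intro h0
      apply hv
      have hinj : Function.Injective ((g : GL (Fin n) F) : Matrix (Fin n) (Fin n) F).mulVec :=
        Matrix.mulVec_injective_iff_isUnit.mpr ⟨g.1, rfl⟩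
      apply hinj
      rw [h0, Matrix.mulVec_zero]⟩
  have hinj : Function.Injective f := by
    intro g g' hgg'
    have h0 : ((g : GL (Fin n) F) : Matrix (Fin n) (Fin n) F).mulVec v = ((g' : GL (Fin n) F) : Matrix (Fin n) (Fin n) F).mulVec v :=
      congrArg Subtype.val hgg'
    set D : Matrix (Fin n) (Fin n) F := ((g : GL (Fin n) F) : Matrix (Fin n) (Fin n) F) - ((g' : GL (Fin n) F) : Matrix (Fin n) (Fin n) F) with hD
    have hDA : A * D = D * A := by
      rw [hD, Matrix.mul_sub, Matrix.sub_mul, (hmem g.1).mp g.2, (hmem g'.1).mp g'.2]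
    have hW : LinearMap.ker (Matrix.mulVecLin D) = ⊤ := by
      apply invariant_eq_top A hnil hreg _ ?_ v ?_ hv
      · intro w hw
        rw [LinearMap.mem_ker, Matrix.mulVecLin_apply] at hw ⊢
        rw [Matrix.mulVec_mulVec, ← hDA, ← Matrix.mulVec_mulVec, hw, Matrix.mulVec_zero]
      · rw [LinearMap.mem_ker, Matrix.mulVecLin_apply, hD, Matrix.sub_mulVec, h0, sub_self]
    have hD0 : D = 0 := by
      have h1 : Matrix.mulVecLin D = 0 := LinearMap.ker_eq_top.mp hW
      ext i j
      have h2 := congrFun (congrArg (fun L : (Fin n → F) →ₗ[F] (Fin n → F) => L (Pi.single j 1)) h1) i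
      simpa using h2
    apply Subtype.ext
    apply Units.ext
    exact sub_eq_zero.mp hD0
  have hsurj : Function.Surjective f := by
    rintro ⟨w, hw⟩
    have hwspan : w ∈ Submodule.span F (Set.range fun i : Fin n => ((A - 1) ^ (i : ℕ)).mulVec v) := by
      rw [hspan]; trivial
    obtain ⟨c, hc⟩ := (Submodule.mem_span_range_iff_exists_fun F).mp hwspan
    set G : Matrix (Fin n) (Fin n) F := ∑ i : Fin n, c i • (A - 1) ^ (i : ℕ) with hG
    have hGv : G.mulVec v = w := by
      rw [← hc, hG]
      have : (∑ i : Fin n, c i • (A - 1) ^ (i : ℕ)).mulVec v = ∑ i : Fin n, (c i • (A - 1) ^ (i : ℕ)).mulVec v :=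
        map_sum (Matrix.mulVec.addMonoidHomLeft v) _ _
      rw [this]
      refine Finset.sum_congr rfl fun i _ => ?_
      rw [Matrix.smul_mulVec]
    have hGA : A * G = G * A := by
      have h1 : Commute (A - 1) G := by
        rw [hG]
        apply Commute.sum_right
        intro i _
        exact (Commute.pow_right (Commute.refl _) _).smul_right _
      have h2 : (A - 1) * G = G * (A - 1) := h1.eq
      rw [Matrix.sub_mul, Matrix.mul_sub, Matrix.one_mul, Matrix.mul_one] at h2
      exact sub_left_injective h2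
    have hGunit : IsUnit G := by
      rw [← Matrix.mulVec_surjective_iff_isUnit]
      have hr : LinearMap.range (Matrix.mulVecLin G) = ⊤ := by
        apply invariant_eq_top A hnil hreg _ ?_ w ?_ hw
        · rintro _ ⟨x, rfl⟩
          refine ⟨A.mulVec x, ?_⟩
          rw [Matrix.mulVecLin_apply, Matrix.mulVecLin_apply, Matrix.mulVec_mulVec, Matrix.mulVec_mulVec, hGA]
        · exact ⟨v, hGv⟩
      intro y
      have : y ∈ LinearMap.range (Matrix.mulVecLin G) := by rw [hr]; trivial
      obtain ⟨x, hx⟩ := this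
      exact ⟨x, hx⟩
    obtain ⟨g, hg⟩ := hGunit
    refine ⟨⟨g, (hmem g).mpr (by rw [hg]; exact hGA)⟩, ?_⟩
    apply Subtype.ext
    show ((g : GL (Fin n) F) : Matrix (Fin n) (Fin n) F).mulVec v = w
    rw [hg]; exact hGv
  rw [Nat.card_congr (Equiv.ofBijective f ⟨hinj, hsurj⟩)]
  -- count T
  set K : Submodule F (Fin n → F) := LinearMap.ker (Matrix.mulVecLin ((A - 1) ^ (n - 1))) with hK
  have hKfr : Module.finrank F K = n - 1 := finrank_ker_pow_pred hn A hnil hreg
  have hcardK : Nat.card K = q ^ (n - 1) := by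
    rw [Module.natCard_eq_pow_finrank (K := F) (V := K), Nat.card_eq_fintype_card, hF, hKfr]
  have hcardV : Nat.card (Fin n → F) = q ^ n := by
    rw [Nat.card_fun, Nat.card_eq_fintype_card (α := Fin n), Fintype.card_fin, Nat.card_eq_fintype_card, hF]
  have hsum : Nat.card {w : Fin n → F // w ∈ K} + Nat.card {w : Fin n → F // ¬ w ∈ K} = Nat.card (Fin n → F) := by
    rw [← Nat.card_sum]
    exact Nat.card_congr (Equiv.sumCompl (· ∈ K))
  have hT : Nat.card T = Nat.card {w : Fin n → F // ¬ w ∈ K} := by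
    apply Nat.card_congr
    apply Equiv.subtypeEquivRight
    intro w
    rw [hK, LinearMap.mem_ker, Matrix.mulVecLin_apply]
  have hKK : Nat.card {w : Fin n → F // w ∈ K} = Nat.card K := rfl
  rw [hT]
  rw [hKK, hcardK, hcardV] at hsum
  have hq : q ^ n = q * q ^ (n - 1) := by
    rw [← pow_succ', Nat.sub_add_cancel hn]
  have hqpos : 1 ≤ q := by rw [← hF]; exact Fintype.card_pos
  have : (q - 1) * q ^ (n - 1) + q ^ (n - 1) = q * q ^ (n - 1) := by
    nth_rewrite 2 [← one_mul (q ^ (n - 1))]
    rw [← add_mul, Nat.sub_add_cancel hqpos]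
  omega


/-- Centraliser of a regular unipotent element in GL_n(q): if u is an invertible n × n matrix over the field with q elements, n ≥ 1, with (u − 1)^n = 0 and rank(u − 1) = n − 1 (a single unipotent Jordan block), then its centraliser in GL_n(q) has order (q − 1) q^(n−1). -/
theorem result {F : Type*} [Field F] [Fintype F] {q n : ℕ} (hF : Fintype.card F = q) (hn : 1 ≤ n) (u : GL (Fin n) F) (hnil : ((u : Matrix (Fin n) (Fin n) F) - 1) ^ n = 0) (hreg : ((u : Matrix (Fin n) (Fin n) F) - 1).rank = n - 1) : Nat.card ↥(Subgroup.centralizer ({u} : Set (GL (Fin n) F))) = (q - 1) * q ^ (n - 1) := by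
  exact card_centralizer hF hn u hnil hreg

end Cfsg.Agent.S2571
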