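import Cfsg.Statements.S2572
import Mathlib
import Cfsg.Agent.Lib.Helper27.GLStab

set_option autoImplicit false
open Cfsg

namespace Cfsg.Agent.S2572

open Matrix Cfsg.Agent.Lib.Helper27.GLStab

variable {F : Type*} [Field F] {n : ℕ}

theorem exists_coord {a : Fin n → F} (ha : a ≠ 0) : ∃ ψ : Fin n → F, ψ ⬝ᵥ a = 1 := by
  obtain ⟨i, hi⟩ : ∃ i, a i ≠ 0 := by
    by_contra h
    push_neg at h
    exact ha (funext h)
  refine ⟨(a i)⁻¹ • Pi.single i 1, ?_⟩
  rw [smul_dotProduct, single_dotProduct, one_mul, smul_eq_mul, inv_mul_cancel₀ hi]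

/-- A transvection matrix is `x ↦ x + φ(x) a`. -/
theorem exists_form (t : Matrix (Fin n) (Fin n) F) (ht : Cfsg.IsTransvection t) :
    ∃ a φ : Fin n → F, a ≠ 0 ∧ φ ≠ 0 ∧ φ ⬝ᵥ a = 0 ∧ ∀ x, t *ᵥ x = x + (φ ⬝ᵥ x) • a := by
  obtain ⟨hrank, hsq⟩ := ht
  obtain ⟨N, hN⟩ : ∃ N : Matrix (Fin n) (Fin n) F, N = t - 1 := ⟨_, rfl⟩
  rw [← hN] at hrank hsq
  have htx : ∀ x, t *ᵥ x = x + N *ᵥ x := by
    intro x
    rw [hN, Matrix.sub_mulVec, Matrix.one_mulVec]; abel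
  have hNN : ∀ x, N *ᵥ (N *ᵥ x) = 0 := by
    intro x
    rw [Matrix.mulVec_mulVec, hsq, Matrix.zero_mulVec]
  unfold Matrix.rank at hrank
  obtain ⟨⟨a, haR⟩, ha0, hspan⟩ := finrank_eq_one_iff'.mp hrank
  have ha0' : a ≠ 0 := fun h => ha0 (Subtype.ext h)
  obtain ⟨x₀, hx₀⟩ := LinearMap.mem_range.mp haR
  have hx₀' : N *ᵥ x₀ = a := hx₀
  have hNa : N *ᵥ a = 0 := by rw [← hx₀', hNN]
  have hline : ∀ x, ∃ r : F, N *ᵥ x = r • a := by
    intro x
    obtain ⟨r, hr⟩ := hspan ⟨N *ᵥ x, LinearMap.mem_range.mpr ⟨x, rfl⟩⟩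
    exact ⟨r, (congrArg Subtype.val hr).symm⟩
  obtain ⟨ψ, hψ⟩ := exists_coord ha0'
  have hNform : ∀ x, N *ᵥ x = ((ψ ᵥ* N) ⬝ᵥ x) • a := by
    intro x
    obtain ⟨r, hr⟩ := hline x
    rw [← Matrix.dotProduct_mulVec, hr, dotProduct_smul, hψ, smul_eq_mul, mul_one]
  refine ⟨a, ψ ᵥ* N, ha0', ?_, ?_, ?_⟩
  · intro h0
    apply ha0'
    rw [← hx₀', hNform, h0, zero_dotProduct, zero_smul]
  · rw [← Matrix.dotProduct_mulVec, hNa, dotProduct_zero]
  · intro x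
    rw [htx, hNform]

/-- Pairs (vector, functional) defining a transvection. -/
def X (n : ℕ) (F : Type*) [Field F] : Type _ :=
  {p : (Fin n → F) × (Fin n → F) // p.1 ≠ 0 ∧ p.2 ≠ 0 ∧ p.2 ⬝ᵥ p.1 = 0}

instance [Finite F] : Finite (X n F) := by
  unfold X; infer_instance

theorem vecMul_inv_vecMul (g : GL (Fin n) F) (v : Fin n → F) :
    (v ᵥ* ((g⁻¹ : GL (Fin n) F) : Matrix (Fin n) (Fin n) F)) ᵥ*
      (g : Matrix (Fin n) (Fin n) F) = v := by
  rw [Matrix.vecMul_vecMul]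
  have : ((g⁻¹ : GL (Fin n) F) : Matrix (Fin n) (Fin n) F) *
      (g : Matrix (Fin n) (Fin n) F) = 1 := Units.inv_mul g
  rw [this, Matrix.vecMul_one]

theorem vecMul_vecMul_inv (g : GL (Fin n) F) (v : Fin n → F) :
    (v ᵥ* (g : Matrix (Fin n) (Fin n) F)) ᵥ*
      ((g⁻¹ : GL (Fin n) F) : Matrix (Fin n) (Fin n) F) = v := by
  have := vecMul_inv_vecMul g⁻¹ v
  rwa [inv_inv] at this

/-- The action of `GL_n` on pairs. -/
noncomputable def smulX (g : GL (Fin n) F) (p : X n F) : X n F :=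
  ⟨((g : Matrix (Fin n) (Fin n) F) *ᵥ p.1.1,
    p.1.2 ᵥ* ((g⁻¹ : GL (Fin n) F) : Matrix (Fin n) (Fin n) F)), by
    refine ⟨?_, ?_, ?_⟩
    · intro h
      apply p.2.1
      have h' : (g : Matrix (Fin n) (Fin n) F) *ᵥ p.1.1 = 0 := h
      have := inv_mulVec_mulVec g p.1.1
      rw [h', Matrix.mulVec_zero] at this
      exact this.symm
    · intro h
      apply p.2.2.1
      have h' : p.1.2 ᵥ* ((g⁻¹ : GL (Fin n) F) : Matrix (Fin n) (Fin n) F) = 0 := h
      have := vecMul_inv_vecMul g p.1.2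
      rw [h', Matrix.zero_vecMul] at this
      exact this.symm
    · show (p.1.2 ᵥ* ((g⁻¹ : GL (Fin n) F) : Matrix (Fin n) (Fin n) F)) ⬝ᵥ
        ((g : Matrix (Fin n) (Fin n) F) *ᵥ p.1.1) = 0
      rw [← Matrix.dotProduct_mulVec, inv_mulVec_mulVec]
      exact p.2.2.2⟩

noncomputable instance : MulAction (GL (Fin n) F) (X n F) where
  smul := smulX
  one_smul p := by
    apply Subtype.ext
    apply Prod.ext
    · show ((1 : GL (Fin n) F) : Matrix (Fin n) (Fin n) F) *ᵥ p.1.1 = p.1.1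
      rw [Units.val_one, Matrix.one_mulVec]
    · show p.1.2 ᵥ* (((1 : GL (Fin n) F)⁻¹ : GL (Fin n) F) : Matrix (Fin n) (Fin n) F) = p.1.2
      rw [inv_one, Units.val_one, Matrix.vecMul_one]
  mul_smul g h p := by
    apply Subtype.ext
    apply Prod.ext
    · show ((g * h : GL (Fin n) F) : Matrix (Fin n) (Fin n) F) *ᵥ p.1.1 =
        (g : Matrix (Fin n) (Fin n) F) *ᵥ ((h : Matrix (Fin n) (Fin n) F) *ᵥ p.1.1)
      rw [Units.val_mul, Matrix.mulVec_mulVec]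
    · show p.1.2 ᵥ* (((g * h)⁻¹ : GL (Fin n) F) : Matrix (Fin n) (Fin n) F) =
        (p.1.2 ᵥ* ((h⁻¹ : GL (Fin n) F) : Matrix (Fin n) (Fin n) F)) ᵥ*
          ((g⁻¹ : GL (Fin n) F) : Matrix (Fin n) (Fin n) F)
      rw [_root_.mul_inv_rev, Units.val_mul, Matrix.vecMul_vecMul]

theorem smul_fst (g : GL (Fin n) F) (p : X n F) :
    (g • p).1.1 = (g : Matrix (Fin n) (Fin n) F) *ᵥ p.1.1 := rfl

theorem smul_snd (g : GL (Fin n) F) (p : X n F) :
    (g • p).1.2 = p.1.2 ᵥ* ((g⁻¹ : GL (Fin n) F) : Matrix (Fin n) (Fin n) F) := rfl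

theorem smul_eq_iff (g : GL (Fin n) F) (p p' : X n F) :
    g • p = p' ↔ (g : Matrix (Fin n) (Fin n) F) *ᵥ p.1.1 = p'.1.1 ∧
      p'.1.2 ᵥ* (g : Matrix (Fin n) (Fin n) F) = p.1.2 := by
  constructor
  · intro h
    refine ⟨?_, ?_⟩
    · rw [← h, smul_fst]
    · rw [← h, smul_snd, vecMul_inv_vecMul]
  · rintro ⟨h1, h2⟩
    apply Subtype.ext
    apply Prod.ext
    · rw [smul_fst, h1]
    · rw [smul_snd, ← h2, vecMul_vecMul_inv]

theorem exists_move_fst (p p' : X n F) : ∃ g : GL (Fin n) F, (g • p).1.1 = p'.1.1 := by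
  obtain ⟨ψ₀, -, hψa, hψa'⟩ := exists_functional₂ (⊥ : Submodule F (Fin n → F)) p.1.1 p'.1.1
    (by rw [Submodule.mem_bot]; exact p.2.1) (by rw [Submodule.mem_bot]; exact p'.2.1)
  obtain ⟨ψ, hψ⟩ : ∃ ψ : Fin n → F, ψ = (ψ₀ ⬝ᵥ p.1.1)⁻¹ • ψ₀ := ⟨_, rfl⟩
  have h1 : ψ ⬝ᵥ p.1.1 = 1 := by
    rw [hψ, smul_dotProduct, smul_eq_mul, inv_mul_cancel₀ hψa]
  have h2 : ψ ⬝ᵥ p'.1.1 ≠ 0 := by
    rw [hψ, smul_dotProduct, smul_eq_mul]
    exact mul_ne_zero (inv_ne_zero hψa) hψa'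
  have hd : 1 + ψ ⬝ᵥ (p'.1.1 - p.1.1) ≠ 0 := by
    rw [dotProduct_sub, h1]
    intro h
    apply h2
    linear_combination h
  refine ⟨TmGL (p'.1.1 - p.1.1) ψ hd, ?_⟩
  rw [smul_fst, TmGL_mulVec, h1, one_smul]
  abel

theorem exists_move_snd (p p' : X n F) (h : p.1.1 = p'.1.1) :
    ∃ g : GL (Fin n) F, g • p = p' := by
  obtain ⟨u₀, -, hu1, hu2⟩ := exists_functional₂ (⊥ : Submodule F (Fin n → F)) p.1.2 p'.1.2
    (by rw [Submodule.mem_bot]; exact p.2.2.1) (by rw [Submodule.mem_bot]; exact p'.2.2.1)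
  rw [dotProduct_comm] at hu1 hu2
  obtain ⟨u, hu⟩ : ∃ u : Fin n → F, u = (p'.1.2 ⬝ᵥ u₀)⁻¹ • u₀ := ⟨_, rfl⟩
  have h1 : p'.1.2 ⬝ᵥ u = 1 := by
    rw [hu, dotProduct_smul, smul_eq_mul, inv_mul_cancel₀ hu2]
  have h2 : p.1.2 ⬝ᵥ u ≠ 0 := by
    rw [hu, dotProduct_smul, smul_eq_mul]
    exact mul_ne_zero (inv_ne_zero hu2) hu1
  have hd : 1 + (p.1.2 - p'.1.2) ⬝ᵥ u ≠ 0 := by
    rw [sub_dotProduct, h1]
    intro h
    apply h2
    linear_combination h
  refine ⟨TmGL u (p.1.2 - p'.1.2) hd, ?_⟩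
  rw [smul_eq_iff]
  refine ⟨?_, ?_⟩
  · rw [TmGL_mulVec, sub_dotProduct, p.2.2.2, h, p'.2.2.2, sub_zero, zero_smul, add_zero]
  · apply dotProduct_eq
    intro x
    rw [← Matrix.dotProduct_mulVec, TmGL_mulVec, dotProduct_add, dotProduct_smul, h1,
      sub_dotProduct, smul_eq_mul, mul_one]
    ring

instance : MulAction.IsPretransitive (GL (Fin n) F) (X n F) := by
  constructor
  intro p p'
  obtain ⟨g₁, hg₁⟩ := exists_move_fst p p'
  obtain ⟨g₂, hg₂⟩ := exists_move_snd (g₁ • p) p' hg₁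
  exact ⟨g₂ * g₁, by rw [mul_smul, hg₂]⟩

theorem card_perp [Fintype F] {q : ℕ} (hF : Fintype.card F = q) (a : Fin n → F) (ha : a ≠ 0) :
    Nat.card {φ : Fin n → F // φ ≠ 0 ∧ φ ⬝ᵥ a = 0} = q ^ (n - 1) - 1 := by
  classical
  let L : (Fin n → F) →ₗ[F] F :=
    { toFun := fun φ => φ ⬝ᵥ a
      map_add' := fun x y => add_dotProduct x y a
      map_smul' := fun c x => by rw [smul_dotProduct, RingHom.id_apply] }
  have hL : ∀ φ, L φ = φ ⬝ᵥ a := fun φ => rfl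
  have hsurj : Function.Surjective L := by
    intro c
    obtain ⟨ψ, hψ⟩ := exists_coord ha
    refine ⟨c • ψ, ?_⟩
    rw [hL, smul_dotProduct, hψ, smul_eq_mul, mul_one]
  have hker : Module.finrank F (LinearMap.ker L) = n - 1 := by
    have h := LinearMap.finrank_range_add_finrank_ker L
    rw [LinearMap.range_eq_top.mpr hsurj, finrank_top, Module.finrank_self,
      Module.finrank_fin_fun] at h
    omega
  have hcard : Fintype.card (LinearMap.ker L) = q ^ (n - 1) := by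
    rw [Module.card_eq_pow_finrank (K := F), hker, hF]
  have e : {φ : Fin n → F // φ ≠ 0 ∧ φ ⬝ᵥ a = 0} ≃ {k : LinearMap.ker L // ¬ (k = 0)} :=
    { toFun := fun φ => ⟨⟨φ.1, φ.2.2⟩, fun h => φ.2.1 (congrArg Subtype.val h)⟩
      invFun := fun k => ⟨k.1.1, fun h => k.2 (Subtype.ext h), k.1.2⟩
      left_inv := fun φ => rfl
      right_inv := fun k => rfl }
  rw [Nat.card_congr e, Nat.card_eq_fintype_card, Fintype.card_subtype_compl, hcard,
    Fintype.card_subtype_eq]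

theorem card_X [Fintype F] {q : ℕ} (hF : Fintype.card F = q) :
    Nat.card (X n F) = (q ^ n - 1) * (q ^ (n - 1) - 1) := by
  classical
  have e : X n F ≃ Σ a : {a : Fin n → F // ¬ (a = 0)},
      {φ : Fin n → F // φ ≠ 0 ∧ φ ⬝ᵥ a.1 = 0} :=
    { toFun := fun p => ⟨⟨p.1.1, p.2.1⟩, ⟨p.1.2, p.2.2.1, p.2.2.2⟩⟩
      invFun := fun s => ⟨(s.1.1, s.2.1), s.1.2, s.2.2.1, s.2.2.2⟩
      left_inv := fun p => rfl
      right_inv := fun s => rfl }
  rw [Nat.card_congr e, Nat.card_sigma]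
  have : ∀ a : {a : Fin n → F // ¬ (a = 0)},
      Nat.card {φ : Fin n → F // φ ≠ 0 ∧ φ ⬝ᵥ a.1 = 0} = q ^ (n - 1) - 1 :=
    fun a => card_perp hF a.1 a.2
  rw [Finset.sum_congr rfl (fun a _ => this a), Finset.sum_const, Finset.card_univ,
    Fintype.card_subtype_compl, Fintype.card_subtype_eq, Fintype.card_fun, Fintype.card_fin, hF,
    smul_eq_mul]


theorem scalar_mulVec (c : Fˣ) (v : Fin n → F) :
    ((Matrix.GeneralLinearGroup.scalar (Fin n) c : GL (Fin n) F) :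
      Matrix (Fin n) (Fin n) F) *ᵥ v = (c : F) • v := by
  rw [Matrix.GeneralLinearGroup.coe_scalar, Matrix.scalar_apply]
  ext i
  rw [Matrix.mulVec_diagonal, Pi.smul_apply, smul_eq_mul]

theorem vecMul_scalar (c : Fˣ) (v : Fin n → F) :
    v ᵥ* ((Matrix.GeneralLinearGroup.scalar (Fin n) c : GL (Fin n) F) :
      Matrix (Fin n) (Fin n) F) = (c : F) • v := by
  rw [Matrix.GeneralLinearGroup.coe_scalar, Matrix.scalar_apply]
  ext i
  rw [Matrix.vecMul_diagonal, Pi.smul_apply, smul_eq_mul, mul_comm]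

theorem gl_ext {g h : GL (Fin n) F}
    (H : ∀ x, (g : Matrix (Fin n) (Fin n) F) *ᵥ x = (h : Matrix (Fin n) (Fin n) F) *ᵥ x) :
    g = h := by
  apply Units.ext
  apply Matrix.toLin'.injective
  apply LinearMap.ext
  intro x
  rw [Matrix.toLin'_apply, Matrix.toLin'_apply, H]

/-- The centraliser of the transvection `x ↦ x + φ(x) a`. -/
theorem mem_centralizer_iff' (t : GL (Fin n) F) (a φ : Fin n → F) (ha : a ≠ 0) (hφ : φ ≠ 0)
    (htx : ∀ x, (t : Matrix (Fin n) (Fin n) F) *ᵥ x = x + (φ ⬝ᵥ x) • a) (g : GL (Fin n) F) :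
    g ∈ Subgroup.centralizer ({t} : Set (GL (Fin n) F)) ↔
      ∃ c : Fˣ, (g : Matrix (Fin n) (Fin n) F) *ᵥ a = (c : F) • a ∧
        φ ᵥ* (g : Matrix (Fin n) (Fin n) F) = (c : F) • φ := by
  rw [Subgroup.mem_centralizer_iff]
  constructor
  · intro h
    have h1 : t * g = g * t := h t (Set.mem_singleton t)
    have h2 : ∀ x, (φ ⬝ᵥ ((g : Matrix (Fin n) (Fin n) F) *ᵥ x)) • a =
        (φ ⬝ᵥ x) • ((g : Matrix (Fin n) (Fin n) F) *ᵥ a) := by
      intro x
      have h3 := congrArg (fun m : GL (Fin n) F => (m : Matrix (Fin n) (Fin n) F) *ᵥ x) h1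
      simp only [Units.val_mul] at h3
      rw [← Matrix.mulVec_mulVec, ← Matrix.mulVec_mulVec, htx, htx, Matrix.mulVec_add,
        Matrix.mulVec_smul] at h3
      exact add_left_cancel h3
    obtain ⟨b, hb⟩ := exists_coord hφ
    rw [dotProduct_comm] at hb
    obtain ⟨ψ, hψ⟩ := exists_coord ha
    have h4 : (g : Matrix (Fin n) (Fin n) F) *ᵥ a =
        (φ ⬝ᵥ ((g : Matrix (Fin n) (Fin n) F) *ᵥ b)) • a := by
      have := h2 b
      rw [hb, one_smul] at this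
      exact this.symm
    have hc0 : φ ⬝ᵥ ((g : Matrix (Fin n) (Fin n) F) *ᵥ b) ≠ 0 := by
      intro h0
      rw [h0, zero_smul] at h4
      apply ha
      have := inv_mulVec_mulVec g a
      rw [h4, Matrix.mulVec_zero] at this
      exact this.symm
    refine ⟨Units.mk0 _ hc0, ?_, ?_⟩
    · rw [Units.val_mk0]
      exact h4
    · rw [Units.val_mk0]
      apply dotProduct_eq
      intro x
      rw [← Matrix.dotProduct_mulVec, smul_dotProduct, smul_eq_mul]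
      have h5 := congrArg (fun v => ψ ⬝ᵥ v) (h2 x)
      rw [h4, dotProduct_smul, dotProduct_smul, dotProduct_smul, hψ, smul_eq_mul, smul_eq_mul,
        smul_eq_mul, mul_one, mul_one] at h5
      rw [h5, mul_comm]
  · rintro ⟨c, h1, h2⟩ s hs
    rw [Set.mem_singleton_iff] at hs
    subst hs
    apply gl_ext
    intro x
    rw [Units.val_mul, Units.val_mul, ← Matrix.mulVec_mulVec, ← Matrix.mulVec_mulVec, htx, htx,
      Matrix.mulVec_add, Matrix.mulVec_smul, h1, Matrix.dotProduct_mulVec, h2, smul_dotProduct,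
      smul_smul, smul_eq_mul, mul_comm]

theorem prod_arith (q m : ℕ) :
    ∏ i : Fin (m + 2), (q ^ (m + 2) - q ^ (i : ℕ)) =
      (q ^ (m + 2) - 1) * (q ^ (m + 1) - 1) *
        (q ^ (2 * m + 1) * ∏ i : Fin m, (q ^ m - q ^ (i : ℕ))) := by
  rw [Fin.prod_univ_succ, Fin.prod_univ_succ]
  have h : ∀ i : Fin m, q ^ (m + 2) - q ^ ((i.succ.succ : Fin (m + 2)) : ℕ) =
      q ^ 2 * (q ^ m - q ^ (i : ℕ)) := by
    intro i
    rw [Nat.mul_sub, Fin.val_succ, Fin.val_succ]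
    congr 1 <;> ring
  rw [Finset.prod_congr rfl (fun i _ => h i), Finset.prod_mul_distrib, Finset.prod_const,
    Finset.card_univ, Fintype.card_fin]
  have h1 : q ^ (m + 2) - q ^ ((0 : Fin (m + 2)) : ℕ) = q ^ (m + 2) - 1 := by
    rw [Fin.val_zero, pow_zero]
  have h2 : q ^ (m + 2) - q ^ (((0 : Fin (m + 1)).succ : Fin (m + 2)) : ℕ) =
      q * (q ^ (m + 1) - 1) := by
    rw [Fin.val_succ, Fin.val_zero, Nat.mul_sub]
    congr 1 <;> ring
  rw [h1, h2]
  ring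


/-- The centraliser is the product of the scalars and the stabiliser of the pair. -/
theorem card_centralizer [Fintype F] {q : ℕ} (hF : Fintype.card F = q) (t : GL (Fin n) F)
    (p : X n F)
    (htx : ∀ x, (t : Matrix (Fin n) (Fin n) F) *ᵥ x = x + (p.1.2 ⬝ᵥ x) • p.1.1) :
    Nat.card ↥(Subgroup.centralizer ({t} : Set (GL (Fin n) F))) =
      (q - 1) * Nat.card ↥(MulAction.stabilizer (GL (Fin n) F) p) := by
  classical
  have hmem : ∀ c : Fˣ, ∀ s : ↥(MulAction.stabilizer (GL (Fin n) F) p),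
      Matrix.GeneralLinearGroup.scalar (Fin n) c * (s : GL (Fin n) F) ∈
        Subgroup.centralizer ({t} : Set (GL (Fin n) F)) := by
    intro c s
    rw [mem_centralizer_iff' t p.1.1 p.1.2 p.2.1 p.2.2.1 htx]
    have hs := (smul_eq_iff s.1 p p).mp s.2
    refine ⟨c, ?_, ?_⟩
    · rw [Units.val_mul, ← Matrix.mulVec_mulVec, hs.1, scalar_mulVec]
    · rw [Units.val_mul, ← Matrix.vecMul_vecMul, vecMul_scalar, Matrix.smul_vecMul, hs.2]
  let f : Fˣ × ↥(MulAction.stabilizer (GL (Fin n) F) p) →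
      ↥(Subgroup.centralizer ({t} : Set (GL (Fin n) F))) :=
    fun cs => ⟨Matrix.GeneralLinearGroup.scalar (Fin n) cs.1 * (cs.2 : GL (Fin n) F),
      hmem cs.1 cs.2⟩
  have hf : Function.Bijective f := by
    constructor
    · rintro ⟨c, s⟩ ⟨c', s'⟩ h
      have h1 : Matrix.GeneralLinearGroup.scalar (Fin n) c * (s : GL (Fin n) F) =
          Matrix.GeneralLinearGroup.scalar (Fin n) c' * (s' : GL (Fin n) F) :=
        congrArg Subtype.val h
      have hs := (smul_eq_iff s.1 p p).mp s.2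
      have hs' := (smul_eq_iff s'.1 p p).mp s'.2
      have h2 := congrArg (fun m : GL (Fin n) F => (m : Matrix (Fin n) (Fin n) F) *ᵥ p.1.1) h1
      simp only [Units.val_mul] at h2
      rw [← Matrix.mulVec_mulVec, ← Matrix.mulVec_mulVec, hs.1, hs'.1, scalar_mulVec,
        scalar_mulVec] at h2
      have hcc : c = c' := by
        apply Units.ext
        obtain ⟨ψ, hψ⟩ := exists_coord p.2.1
        have h3 := congrArg (fun v => ψ ⬝ᵥ v) h2
        simp only [dotProduct_smul, hψ, smul_eq_mul, mul_one] at h3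
        exact h3
      subst hcc
      have hss : s = s' := by
        apply Subtype.ext
        exact mul_left_cancel h1
      rw [hss]
    · rintro ⟨g, hg⟩
      obtain ⟨c, h1, h2⟩ := (mem_centralizer_iff' t p.1.1 p.1.2 p.2.1 p.2.2.1 htx g).mp hg
      have hs : Matrix.GeneralLinearGroup.scalar (Fin n) c⁻¹ * g ∈
          MulAction.stabilizer (GL (Fin n) F) p := by
        rw [MulAction.mem_stabilizer_iff, smul_eq_iff]
        refine ⟨?_, ?_⟩
        · rw [Units.val_mul, ← Matrix.mulVec_mulVec, h1, scalar_mulVec, smul_smul,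
            Units.val_inv_eq_inv_val, inv_mul_cancel₀ c.ne_zero, one_smul]
        · rw [Units.val_mul, ← Matrix.vecMul_vecMul, vecMul_scalar, Matrix.smul_vecMul, h2,
            smul_smul, Units.val_inv_eq_inv_val, inv_mul_cancel₀ c.ne_zero, one_smul]
      refine ⟨(c, ⟨_, hs⟩), ?_⟩
      apply Subtype.ext
      show Matrix.GeneralLinearGroup.scalar (Fin n) c *
        (Matrix.GeneralLinearGroup.scalar (Fin n) c⁻¹ * g) = g
      rw [← mul_assoc, ← map_mul, mul_inv_cancel, map_one, one_mul]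
  rw [← Nat.card_congr (Equiv.ofBijective f hf), Nat.card_prod, Nat.card_eq_fintype_card,
    Fintype.card_units, hF]

theorem card_stabilizer [Fintype F] {q m : ℕ} (hF : Fintype.card F = q) (p : X (m + 2) F) :
    Nat.card ↥(MulAction.stabilizer (GL (Fin (m + 2)) F) p) =
      q ^ (2 * m + 1) * ∏ i : Fin m, (q ^ m - q ^ (i : ℕ)) := by
  have h1 := Subgroup.card_mul_index (MulAction.stabilizer (GL (Fin (m + 2)) F) p)
  rw [MulAction.index_stabilizer_of_transitive, Matrix.card_GL_field, hF, card_X hF,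
    prod_arith] at h1
  have hq : 2 ≤ q := by
    rw [← hF]
    exact Fintype.one_lt_card
  have hpos : 0 < (q ^ (m + 2) - 1) * (q ^ (m + 2 - 1) - 1) := by
    apply Nat.mul_pos
    · have : 2 ^ (m + 2) ≤ q ^ (m + 2) := Nat.pow_le_pow_left hq _
      have : 4 ≤ 2 ^ (m + 2) := by
        calc 4 = 2 ^ 2 := by norm_num
          _ ≤ 2 ^ (m + 2) := Nat.pow_le_pow_right (by norm_num) (by omega)
      omega
    · have : 2 ^ (m + 2 - 1) ≤ q ^ (m + 2 - 1) := Nat.pow_le_pow_left hq _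
      have : 2 ≤ 2 ^ (m + 2 - 1) := by
        calc 2 = 2 ^ 1 := by norm_num
          _ ≤ 2 ^ (m + 2 - 1) := Nat.pow_le_pow_right (by norm_num) (by omega)
      omega
  have h2 : (q ^ (m + 2) - 1) * (q ^ (m + 1) - 1) = (q ^ (m + 2) - 1) * (q ^ (m + 2 - 1) - 1) := by
    rfl
  rw [h2, mul_comm] at h1
  exact Nat.eq_of_mul_eq_mul_left hpos h1


/-- Centraliser of a transvection in GL_n(q), n ≥ 2: if t − 1 has rank one and square zero, the centraliser of t in GL_n(q) has order q^(2n−3) (q − 1) |GL_(n−2)(q)| (a group of order q^(2n−3) extended by GL_1(q) × GL_(n−2)(q)). -/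
theorem result {F : Type*} [Field F] [Fintype F] {q n : ℕ} (hF : Fintype.card F = q) (hn : 2 ≤ n) (t : GL (Fin n) F) (ht : Cfsg.IsTransvection (t : Matrix (Fin n) (Fin n) F)) : Nat.card ↥(Subgroup.centralizer ({t} : Set (GL (Fin n) F))) = q ^ (2 * n - 3) * (q - 1) * ∏ i : Fin (n - 2), (q ^ (n - 2) - q ^ (i : ℕ)) := by
  obtain ⟨m, rfl⟩ : ∃ m, n = m + 2 := ⟨n - 2, by omega⟩
  obtain ⟨a, φ, ha, hφ, hφa, htx⟩ := exists_form _ ht
  obtain ⟨p, hp⟩ : ∃ p : X (m + 2) F, p = ⟨(a, φ), ha, hφ, hφa⟩ := ⟨_, rfl⟩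
  have htx' : ∀ x, (t : Matrix (Fin (m + 2)) (Fin (m + 2)) F) *ᵥ x = x + (p.1.2 ⬝ᵥ x) • p.1.1 := by
    rw [hp]
    exact htx
  have h1 := card_centralizer hF t p htx'
  rw [card_stabilizer hF p] at h1
  rw [h1]
  change _ = q ^ (2 * (m + 2) - 3) * (q - 1) * ∏ i : Fin m, (q ^ m - q ^ (i : ℕ))
  have h2 : 2 * (m + 2) - 3 = 2 * m + 1 := by omega
  rw [h2]
  ring

end Cfsg.Agent.S2572
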