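import Cfsg.Statements.S2574
import Cfsg.Agent.Lib.Helper14.RegUnip

set_option autoImplicit false
open Cfsg
open scoped Matrix

namespace Cfsg.Agent.S2574

/-- A regular unipotent element of the symplectic group has totally isotropic small invariant subspaces: over a finite field, if u ∈ Sp_2m(F) satisfies (u − 1)^(2m) = 0 and rank(u − 1) = 2m − 1, and W is a u-invariant subspace with 2 dim W ≤ 2m, then the alternating form vanishes identically on W. -/
theorem result {F : Type*} [Field F] [Finite F] {m : ℕ} (u : Matrix.symplecticGroup (Fin m) F) (hnil : ((u : Matrix (Fin m ⊕ Fin m) (Fin m ⊕ Fin m) F) - 1) ^ (2 * m) = 0) (hreg : ((u : Matrix (Fin m ⊕ Fin m) (Fin m ⊕ Fin m) F) - 1).rank = 2 * m - 1) (W : Submodule F (Fin m ⊕ Fin m → F)) (hW : ∀ v ∈ W, (u : Matrix (Fin m ⊕ Fin m) (Fin m ⊕ Fin m) F).mulVec v ∈ W) (hdim : 2 * Module.finrank F W ≤ 2 * m) : ∀ v ∈ W, ∀ w ∈ W, Cfsg.sympForm m F v w = 0 := by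
  set U : Matrix (Fin m ⊕ Fin m) (Fin m ⊕ Fin m) F := (u : Matrix (Fin m ⊕ Fin m) (Fin m ⊕ Fin m) F) with hU
  set B : LinearMap.BilinForm F (Fin m ⊕ Fin m → F) := Matrix.toBilin' (Matrix.J (Fin m) F) with hB
  have hBapp : ∀ a b, B a b = Cfsg.sympForm m F a b := fun a b => by
    simp [B, Matrix.toBilin'_apply', sympForm]
  have hinv : ∀ a b, B (U.mulVec a) (U.mulVec b) = B a b := by
    intro a b
    have hu : Uᵀ * Matrix.J (Fin m) F * U = Matrix.J (Fin m) F := SymplecticGroup.mem_iff'.mp u.2
    simp only [B, Matrix.toBilin'_apply']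
    rw [← Matrix.vecMul_transpose, ← Matrix.dotProduct_mulVec, Matrix.mulVec_mulVec, Matrix.mulVec_mulVec,
      hu]
  -- U restricted to W is surjective
  have hUunit : IsUnit U := by
    rw [Matrix.isUnit_iff_isUnit_det]
    exact SymplecticGroup.symplectic_det u.2
  have hUinj : Function.Injective U.mulVec := Matrix.mulVec_injective_iff_isUnit.mpr hUunit
  have hWsurj : ∀ w ∈ W, ∃ w' ∈ W, U.mulVec w' = w := by
    have hW' : ∀ v ∈ W, U.mulVecLin v ∈ W := hW
    have hinj : Function.Injective (U.mulVecLin.restrict hW') := by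
      intro a b hab
      have := congrArg Subtype.val hab
      simp only [LinearMap.coe_restrict_apply, Matrix.mulVecLin_apply] at this
      exact Subtype.ext (hUinj this)
    have hsurj := LinearMap.injective_iff_surjective.mp hinj
    intro w hw
    obtain ⟨w', hw'⟩ := hsurj ⟨w, hw⟩
    refine ⟨w'.1, w'.2, ?_⟩
    have := congrArg Subtype.val hw'
    simpa using this
  -- the orthogonal complement is invariant
  have hOinv : ∀ x ∈ B.orthogonal W, U.mulVec x ∈ B.orthogonal W := by
    intro x hx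
    rw [LinearMap.BilinForm.mem_orthogonal_iff] at hx ⊢
    intro w hw
    obtain ⟨w', hw', rfl⟩ := hWsurj w hw
    rw [hinv]
    exact hx w' hw'
  have hcard : Fintype.card (Fin m ⊕ Fin m) - 1 = 2 * m - 1 := by
    simp; omega
  have hreg' : (U - 1).rank = Fintype.card (Fin m ⊕ Fin m) - 1 := by rw [hcard]; exact hreg
  have h1 := Cfsg.Agent.Lib.Helper14.regular_unipotent_invariant U hnil hreg' W hW
  have h2 := Cfsg.Agent.Lib.Helper14.regular_unipotent_invariant U hnil hreg' (B.orthogonal W) hOinv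
  have hfr := LinearMap.BilinForm.finrank_add_finrank_orthogonal' (B := B) W
  have hV : Module.finrank F (Fin m ⊕ Fin m → F) = 2 * m := by
    rw [Module.finrank_fintype_fun_eq_card]; simp; omega
  have hle : Module.finrank F W ≤ Module.finrank F (B.orthogonal W) := by
    rw [hV] at hfr
    omega
  have hWO : W ≤ B.orthogonal W := by
    intro x hx
    rw [h2]
    rw [h1] at hx
    rw [LinearMap.mem_ker, Matrix.mulVecLin_apply] at hx ⊢
    obtain ⟨d, hd⟩ := Nat.exists_eq_add_of_le hle
    rw [hd, add_comm, pow_add, ← Matrix.mulVec_mulVec, hx, Matrix.mulVec_zero]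
  intro v hv w hw
  rw [← hBapp]
  exact (LinearMap.BilinForm.mem_orthogonal_iff.mp (hWO hw)) v hv

end Cfsg.Agent.S2574
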