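import Cfsg.Statements.S2575
import Mathlib

set_option autoImplicit false
open Cfsg
set_option maxHeartbeats 400000

namespace Cfsg.Agent.S2575

theorem padic_two_pow_mul_odd (k m : ℕ) (hm : Odd m) : padicValNat 2 (2 ^ k * m) = k := by
  have hm0 : m ≠ 0 := by rintro rfl; exact (Nat.not_odd_iff_even.mpr (by decide)) hm
  rw [padicValNat.mul (by positivity) hm0, padicValNat.prime_pow]
  have : padicValNat 2 m = 0 := by
    apply padicValNat.eq_zero_of_not_dvd
    exact hm.not_two_dvd_nat
  omega

/-- `-1` is an `n`-th power in a finite field of odd order `q` iff `v₂(n) < v₂(q-1)`. -/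
theorem neg_one_pow_iff {F : Type*} [Field F] [Fintype F] {q : ℕ} (hF : Fintype.card F = q) (hq : Odd q)
    {n : ℕ} (hn : 1 ≤ n) :
    (∃ c : F, c ≠ 0 ∧ c ^ n = -1) ↔ padicValNat 2 n < padicValNat 2 (q - 1) := by
  classical
  have hq3 : 3 ≤ q := by
    have h1 : 1 < q := hF ▸ Fintype.one_lt_card
    rcases hq with ⟨t, rfl⟩
    omega
  have hchar : (-1 : F) ≠ 1 := by
    intro h
    have h2 : (2 : F) = 0 := by
      have : (1 : F) + 1 = 0 := by nth_rewrite 1 [← h]; ring
      rw [← this]; norm_num
    have hp := ringChar.dvd (R := F) (by exact_mod_cast h2 : ((2 : ℕ) : F) = 0)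
    have hcp : ringChar F ∣ q := by
      rw [← hF]
      obtain ⟨n', hp', hc⟩ := FiniteField.card F (ringChar F)
      rw [hc]
      exact dvd_pow_self _ n'.ne_zero
    have hr2 : ringChar F = 2 := by
      have hrp : (ringChar F).Prime := CharP.char_is_prime F _
      have := (Nat.dvd_prime Nat.prime_two).mp hp
      rcases this with h1 | h2'
      · exact absurd h1 hrp.ne_one
      · exact h2'
    rw [hr2] at hcp
    exact (hq.not_two_dvd_nat) hcp
  obtain ⟨r, n', hn'odd, hnr⟩ := Nat.exists_eq_two_pow_mul_odd (show n ≠ 0 by omega)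
  obtain ⟨s, m', hm'odd, hqs⟩ := Nat.exists_eq_two_pow_mul_odd (show q - 1 ≠ 0 by omega)
  have hvn : padicValNat 2 n = r := by rw [hnr]; exact padic_two_pow_mul_odd r n' hn'odd
  have hvq : padicValNat 2 (q - 1) = s := by rw [hqs]; exact padic_two_pow_mul_odd s m' hm'odd
  rw [hvn, hvq]
  have hcardU : ∀ c : F, c ≠ 0 → c ^ (q - 1) = 1 := by
    intro c hc
    rw [← hF]
    exact FiniteField.pow_card_sub_one_eq_one c hc
  constructor
  · rintro ⟨c, hc0, hc⟩
    by_contra hle
    push Not at hle
    -- (q-1) ∣ n * m'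
    have hdvd : q - 1 ∣ n * m' := by
      rw [hqs, hnr]
      obtain ⟨d, rfl⟩ := Nat.exists_eq_add_of_le hle
      exact ⟨2 ^ d * n', by rw [pow_add]; ring⟩
    obtain ⟨e, he⟩ := hdvd
    have h1 : c ^ (n * m') = 1 := by rw [he, pow_mul, hcardU c hc0, one_pow]
    rw [pow_mul, hc, hm'odd.neg_one_pow] at h1
    exact hchar h1
  · intro hlt
    obtain ⟨g, hg⟩ := IsCyclic.exists_generator (α := Fˣ)
    have hord : orderOf g = q - 1 := by
      rw [orderOf_eq_card_of_forall_mem_zpowers hg, Nat.card_eq_fintype_card, Fintype.card_units, hF]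
    -- half power
    have hhalf : q - 1 = 2 * (2 ^ (s - 1) * m') := by
      rw [hqs]
      obtain ⟨d, rfl⟩ : ∃ d, s = d + 1 := ⟨s - 1, by omega⟩
      rw [Nat.add_sub_cancel, pow_succ]; ring
    set h := 2 ^ (s - 1) * m' with hh
    have hg2 : ((g : F) ^ h) = -1 := by
      have h1 : ((g : F) ^ h) * ((g : F) ^ h) = 1 := by
        rw [← pow_add, ← two_mul, ← hhalf]
        exact hcardU _ (Units.ne_zero g)
      rcases mul_self_eq_one_iff.mp h1 with h2 | h2
      · exfalso
        have h3 : g ^ h = 1 := by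
          apply Units.ext
          rw [Units.val_pow_eq_pow_val, h2, Units.val_one]
        have h4 := orderOf_dvd_of_pow_eq_one h3
        rw [hord, hhalf] at h4
        have hm'pos : 0 < m' := hm'odd.pos
        have hpos : 0 < h := by rw [hh]; positivity
        have := Nat.le_of_dvd hpos h4
        omega
      · exact h2
    -- c = g ^ (2^(s-1-r) * m')
    refine ⟨(g : F) ^ (2 ^ (s - 1 - r) * m'), pow_ne_zero _ (Units.ne_zero g), ?_⟩
    rw [← pow_mul, hnr]
    have : 2 ^ (s - 1 - r) * m' * (2 ^ r * n') = h * n' := by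
      rw [hh]
      have : s - 1 = (s - 1 - r) + r := by omega
      nth_rewrite 2 [this]
      rw [pow_add]; ring
    rw [this, pow_mul, hg2, hn'odd.neg_one_pow]



/-- Which diagonal involutions of PGL_n(q) lie in PSL_n(q), q odd: for the diagonal matrix t with i entries −1 and n − i entries 1, some non-zero scalar multiple of t has determinant one if and only if i is even or the 2-part of q − 1 exceeds the 2-part of n (that is, −1 is an n-th power in the field exactly in the latter case). -/
theorem result {F : Type*} [Field F] [Fintype F] {q : ℕ} (hF : Fintype.card F = q) (hq : Odd q) {n : ℕ} (hn : 1 ≤ n) (i : ℕ) (hi : i ≤ n) : (∃ c : F, c ≠ 0 ∧ (c • Matrix.diagonal (fun j : Fin n => if (j : ℕ) < i then (-1 : F) else 1)).det = 1) ↔ (Even i ∨ padicValNat 2 n < padicValNat 2 (q - 1)) := by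
  classical
  have hdet : ∀ c : F, (c • Matrix.diagonal (fun j : Fin n => if (j : ℕ) < i then (-1 : F) else 1)).det = c ^ n * (-1) ^ i := by
    intro c
    rw [Matrix.det_smul, Matrix.det_diagonal, Fintype.card_fin, Finset.prod_ite, Finset.prod_const_one, mul_one,
      Finset.prod_const]
    congr 2
    have := Fin.card_filter_val_lt (n := n) (m := i)
    rw [min_eq_right hi] at this
    convert this using 2
  simp only [hdet]
  rcases Nat.even_or_odd i with hev | hodd
  · constructor
    · intro _; exact Or.inl hev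
    · intro _
      exact ⟨1, one_ne_zero, by rw [one_pow, hev.neg_one_pow, mul_one]⟩
  · rw [← neg_one_pow_iff hF hq hn]
    constructor
    · rintro ⟨c, hc0, hc⟩
      right
      refine ⟨c, hc0, ?_⟩
      rw [hodd.neg_one_pow] at hc
      have : c ^ n = -(c ^ n * -1) := by ring
      rw [this, hc]
    · rintro (hev | ⟨c, hc0, hc⟩)
      · exact absurd hev (Nat.not_even_iff_odd.mpr hodd)
      · exact ⟨c, hc0, by rw [hc, hodd.neg_one_pow]; ring⟩


end Cfsg.Agent.S2575
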