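import Mathlib
import Cfsg.Statements.S2576

set_option autoImplicit false
open Cfsg

namespace Cfsg.Agent.S2576

theorem det_formula {F : Type*} [Field F] (m : ℕ) (μ c : F) :
    (c • Matrix.blockDiagonal (fun _ : Fin m => !![(0 : F), 1; μ, 0])).det =
      c ^ (2 * m) * (-μ) ^ m := by
  rw [Matrix.det_smul, Matrix.det_blockDiagonal]
  simp [Matrix.det_fin_two_of]

theorem two_pow_dvd_of {d N : ℕ} (hN : N ≠ 0) (h1 : d ∣ 2 * N) (h2 : ¬ d ∣ N) :
    2 ^ padicValNat 2 (2 * N) ∣ d := by
  obtain ⟨e, he⟩ := h1
  have hd0 : d ≠ 0 := by rintro rfl; simp at he; exact hN he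
  have he0 : e ≠ 0 := by rintro rfl; simp at he; exact hN he
  have hodd : ¬ 2 ∣ e := by
    rintro ⟨e', rfl⟩
    apply h2
    refine ⟨e', ?_⟩
    have : 2 * N = 2 * (d * e') := by rw [he]; ring
    exact Nat.eq_of_mul_eq_mul_left (by norm_num) this
  have : padicValNat 2 (2 * N) = padicValNat 2 d := by
    rw [he, padicValNat.mul hd0 he0, padicValNat.eq_zero_of_not_dvd hodd, add_zero]
  rw [this]
  exact pow_padicValNat_dvd

/-- Which involutions of PGL_2m(q) coming from a scalar of the quadratic extension field lie in PSL_2m(q), q odd: let μ generate the Sylow 2-subgroup of the multiplicative group of the field with q elements (μ has order the 2-part of q − 1) and let t be the block-diagonal matrix with m diagonal blocks [[0, 1], [μ, 0]] (so t² is the scalar μ and t is an involution modulo scalars). Then some non-zero scalar multiple of t has determinant one if and only if q ≡ 3 (mod 4) or the 2-part of q − 1 is less than the 2-part of 2m. -/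
theorem result {F : Type*} [Field F] [Fintype F] {q : ℕ} (hF : Fintype.card F = q) (hq : Odd q) {m : ℕ} (hm : 1 ≤ m) (μ : F) (hμ : orderOf μ = 2 ^ padicValNat 2 (q - 1)) : (∃ c : F, c ≠ 0 ∧ (c • Matrix.blockDiagonal (fun _ : Fin m => !![(0 : F), 1; μ, 0])).det = 1) ↔ (q % 4 = 3 ∨ padicValNat 2 (q - 1) < padicValNat 2 (2 * m)) := by
  classical
  subst hF
  simp only [det_formula]
  set v := padicValNat 2 (Fintype.card F - 1) with hv
  obtain ⟨t, ht⟩ := hq
  have hcard2 : 2 ≤ Fintype.card F := Fintype.one_lt_card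
  have ht0 : t ≠ 0 := by rintro rfl; omega
  have hq1 : Fintype.card F - 1 = 2 * t := by omega
  have hhalf : Fintype.card F / 2 = t := by omega
  have hv1 : v = 1 + padicValNat 2 t := by
    rw [hv, hq1, padicValNat.mul (by norm_num) ht0, padicValNat_self]
  have hchar : ringChar F ≠ 2 := by
    intro hc
    have := FiniteField.even_card_of_char_two hc
    omega
  have hμpow : μ ^ 2 ^ v = 1 := by rw [← hμ]; exact pow_orderOf_eq_one μ
  have hμ0 : μ ≠ 0 := by
    rintro rfl
    rw [zero_pow (by positivity)] at hμpow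
    exact zero_ne_one hμpow
  have hm0 : m ≠ 0 := by omega
  have hv2m : padicValNat 2 (2 * m) = 1 + padicValNat 2 m := by
    rw [padicValNat.mul (by norm_num) hm0, padicValNat_self]
  constructor
  · rintro ⟨c, hc0, hc⟩
    by_contra hcon
    push Not at hcon
    obtain ⟨h43, hvle⟩ := hcon
    -- -1 is a square
    obtain ⟨i, hi⟩ := (FiniteField.isSquare_neg_one_iff (F := F)).2 h43
    -- μ is not a square
    have hμns : ¬ IsSquare μ := by
      rw [FiniteField.isSquare_iff hchar hμ0, hhalf]
      intro h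
      have h1 := orderOf_dvd_of_pow_eq_one h
      rw [hμ, padicValNat_dvd_iff_le ht0] at h1
      omega
    set w := c ^ 2 * (-μ) with hw
    have hwm : w ^ m = 1 := by
      rw [hw, mul_pow, ← pow_mul]; exact hc
    have hw0 : w ≠ 0 := mul_ne_zero (pow_ne_zero 2 hc0) (neg_ne_zero.2 hμ0)
    have hwns : ¬ IsSquare w := by
      rintro ⟨z, hz⟩
      apply hμns
      refine ⟨i * z / c, ?_⟩
      field_simp
      rw [hw] at hz
      linear_combination (-1 : F) * hz + (z * z) * hi
    have hwhalf : w ^ t ≠ 1 := by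
      rw [← hhalf]
      exact fun h => hwns ((FiniteField.isSquare_iff hchar hw0).2 h)
    have hd1 : orderOf w ∣ 2 * t := by
      rw [← hq1]; exact orderOf_dvd_of_pow_eq_one (FiniteField.pow_card_sub_one_eq_one w hw0)
    have hd2 : ¬ orderOf w ∣ t := fun h => hwhalf (orderOf_dvd_iff_pow_eq_one.1 h)
    have hd3 := two_pow_dvd_of ht0 hd1 hd2
    rw [← hq1, ← hv] at hd3
    have hd4 : 2 ^ v ∣ m := hd3.trans (orderOf_dvd_of_pow_eq_one hwm)
    rw [padicValNat_dvd_iff_le hm0] at hd4
    omega
  · intro h
    refine ⟨1, one_ne_zero, ?_⟩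
    rw [one_pow, one_mul]
    rcases h with h | h
    · have hv' : v = 1 := by
        have : ¬ 2 ∣ t := by omega
        rw [hv1, padicValNat.eq_zero_of_not_dvd this]
      rw [hv', pow_one] at hμ
      have h1 : μ ^ 2 = 1 := by rw [← hμ]; exact pow_orderOf_eq_one μ
      have h2 : μ ≠ 1 := by
        intro h2; rw [h2, orderOf_one] at hμ; omega
      have h3 : (μ - 1) * (μ + 1) = 0 := by linear_combination h1
      rcases mul_eq_zero.1 h3 with h4 | h4
      · exact absurd (sub_eq_zero.1 h4) h2
      · have : -μ = 1 := by linear_combination -h4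
        rw [this, one_pow]
    · have hle : v ≤ padicValNat 2 m := by omega
      have hdvd : 2 ^ v ∣ m := (padicValNat_dvd_iff_le hm0).2 hle
      obtain ⟨s, rfl⟩ := hdvd
      have hv0 : v ≠ 0 := by omega
      rw [pow_mul, Even.neg_pow (Nat.even_pow.2 ⟨even_two, hv0⟩), hμpow, one_pow]

end Cfsg.Agent.S2576
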