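import Cfsg.Statements.S2579
import Cfsg.Agent.Lib.Helper24.TransvConj
import Cfsg.Agent.S0839

set_option autoImplicit false
open Cfsg
open Cfsg.Agent.Lib.Helper24

namespace Cfsg.Agent.S2579

/-- In SL_n(F) with n ≥ 3, over a finite field F, any two transvections (matrices t with t − 1 of rank one and square zero) are conjugate by an element of SL_n(F). -/
theorem result {F : Type*} [Field F] [Finite F] {n : ℕ} (hn : 3 ≤ n) (s t : Matrix.SpecialLinearGroup (Fin n) F) (hs : Cfsg.IsTransvection (s : Matrix (Fin n) (Fin n) F)) (ht : Cfsg.IsTransvection (t : Matrix (Fin n) (Fin n) F)) : IsConj s t := by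
  classical
  obtain ⟨m, rfl⟩ : ∃ m, n = m + 3 := ⟨n - 3, by omega⟩
  obtain ⟨T₀, hT₀⟩ := exists_std (F := F) (m := m)
  have key : ∀ t : Matrix.SpecialLinearGroup (Fin (m + 3)) F,
      Cfsg.IsTransvection (t : Matrix (Fin (m + 3)) (Fin (m + 3)) F) → IsConj t T₀ := by
    intro t ht
    obtain ⟨g, v, hv0, hgv⟩ := Cfsg.Agent.S0839.result (m + 1) t ht
    have hv : v ≠ 0 := by
      intro hv
      rw [hv, Matrix.zero_vecMulVec, add_zero] at hgv
      have h1 : g⁻¹ * t * g = 1 := Subtype.ext hgv
      have h3 : t = 1 := by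
        have : t = g * (g⁻¹ * t * g) * g⁻¹ := by group
        rw [this, h1]; group
      have hr := ht.1
      rw [h3, Matrix.SpecialLinearGroup.coe_one, sub_self, Matrix.rank_zero] at hr
      omega
    have h1 : IsConj t (g⁻¹ * t * g) := by
      rw [isConj_iff]
      exact ⟨g⁻¹, by group⟩
    exact h1.trans (isConj_std _ T₀ v hv0 hv hgv hT₀)
  exact (key s hs).trans (key t ht).symm

end Cfsg.Agent.S2579
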