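import Cfsg.Statements.S2586
import Mathlib
import Cfsg.Agent.Lib.Helper5.TransConjC

set_option autoImplicit false
open Cfsg

namespace Cfsg.Agent.S2586

/-- Over a finite field, every element of the symplectic group Sp_2m(F) is conjugate by an invertible matrix to its inverse. -/
theorem result {F : Type*} [Field F] [Finite F] {m : ℕ} (A : Matrix.symplecticGroup (Fin m) F) : IsConj (A : Matrix (Fin m ⊕ Fin m) (Fin m ⊕ Fin m) F) ((A⁻¹ : Matrix.symplecticGroup (Fin m) F) : Matrix (Fin m ⊕ Fin m) (Fin m ⊕ Fin m) F) := by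
  obtain ⟨S, hS, hSA⟩ := Cfsg.Agent.Lib.Helper5.TransConj.exists_conj_transpose
    (A : Matrix (Fin m ⊕ Fin m) (Fin m ⊕ Fin m) F)
  let uS : (Matrix (Fin m ⊕ Fin m) (Fin m ⊕ Fin m) F)ˣ :=
    Matrix.nonsingInvUnit S (isUnit_iff_ne_zero.2 hS)
  let uJ : (Matrix (Fin m ⊕ Fin m) (Fin m ⊕ Fin m) F)ˣ :=
    ⟨-Matrix.J (Fin m) F, Matrix.J (Fin m) F, by rw [Matrix.neg_mul, Matrix.J_squared, neg_neg],
      by rw [Matrix.mul_neg, Matrix.J_squared, neg_neg]⟩
  refine ⟨uJ * uS, ?_⟩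
  show (-Matrix.J (Fin m) F * S) * (A : Matrix (Fin m ⊕ Fin m) (Fin m ⊕ Fin m) F) =
    ((A⁻¹ : Matrix.symplecticGroup (Fin m) F) : Matrix (Fin m ⊕ Fin m) (Fin m ⊕ Fin m) F) *
      (-Matrix.J (Fin m) F * S)
  rw [SymplecticGroup.coe_inv, Matrix.mul_assoc, hSA]
  have hJ := Matrix.J_squared (Fin m) F
  calc -Matrix.J (Fin m) F * ((A : Matrix (Fin m ⊕ Fin m) (Fin m ⊕ Fin m) F).transpose * S)
      = -Matrix.J (Fin m) F * (A : Matrix (Fin m ⊕ Fin m) (Fin m ⊕ Fin m) F).transpose *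
          (-(Matrix.J (Fin m) F * Matrix.J (Fin m) F)) * S := by
        rw [hJ, neg_neg, Matrix.mul_one, Matrix.mul_assoc]
    _ = -Matrix.J (Fin m) F * (A : Matrix (Fin m ⊕ Fin m) (Fin m ⊕ Fin m) F).transpose *
          Matrix.J (Fin m) F * (-Matrix.J (Fin m) F * S) := by
        simp only [Matrix.mul_neg, Matrix.neg_mul, Matrix.mul_assoc, neg_neg]

end Cfsg.Agent.S2586
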