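import Cfsg.Statements.S2589
import Cfsg.Agent.Lib.Helper24.SpConjG

set_option autoImplicit false
open Cfsg
open Cfsg.Agent.Lib.Helper24.SpConj

namespace Cfsg.Agent.S2589

/-- Two semisimple elements of the finite symplectic group Sp_2m(F) (elements of order prime to the characteristic) are conjugate in Sp_2m(F) if and only if they are conjugate in GL_2m(F). -/
theorem result {F : Type*} [Field F] [Fintype F] {p : ℕ} [Fact p.Prime] [CharP F p] {m : ℕ} (A B : Matrix.symplecticGroup (Fin m) F) (hA : (orderOf A).Coprime p) : IsConj A B ↔ IsConj (A : Matrix (Fin m ⊕ Fin m) (Fin m ⊕ Fin m) F) (B : Matrix (Fin m ⊕ Fin m) (Fin m ⊕ Fin m) F) := by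
  constructor
  · intro h
    exact (Matrix.symplecticGroup (Fin m) F).subtype.map_isConj h
  · intro h
    obtain ⟨c, hc⟩ := h
    have hcAB : (c : Matrix (Fin m ⊕ Fin m) (Fin m ⊕ Fin m) F) * (A : Matrix (Fin m ⊕ Fin m) (Fin m ⊕ Fin m) F)
        = (B : Matrix (Fin m ⊕ Fin m) (Fin m ⊕ Fin m) F) * c := hc
    have hN : ((orderOf A : ℕ) : F) ≠ 0 := by
      rw [Ne, CharP.cast_eq_zero_iff F p]
      intro hdvd
      have h1 := Nat.Coprime.eq_one_of_dvd hA.symm hdvd
      exact (Fact.out : p.Prime).one_lt.ne' h1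
    have hAN : (A : Matrix (Fin m ⊕ Fin m) (Fin m ⊕ Fin m) F) ^ orderOf A = 1 := by
      have h1 := congrArg Subtype.val (pow_orderOf_eq_one A)
      exact h1
    obtain ⟨u, hu1, hu2⟩ := main ((mem_sp_iff _).mp A.2) ((mem_sp_iff _).mp B.2) c.isUnit hcAB
      hAN hN
    have huSp : u ∈ Matrix.symplecticGroup (Fin m) F := (mem_sp_iff' u).mpr hu1
    rw [isConj_iff]
    refine ⟨⟨u, huSp⟩, ?_⟩
    rw [mul_inv_eq_iff_eq_mul]
    exact Subtype.ext hu2

end Cfsg.Agent.S2589
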