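import Cfsg.Statements.S2590
import Cfsg.Agent.Lib.Helper24.OConjC

set_option autoImplicit false
open Cfsg
open Cfsg.Agent.Lib.Helper24.OConj

namespace Cfsg.Agent.S2590

/-- Two semisimple elements of odd order of a finite orthogonal group (isometry group of a quadratic form on F^n with non-degenerate polar form, F finite of characteristic p; the elements have odd order prime to p) are conjugate in the orthogonal group if and only if they are conjugate in GL_n(F). -/
theorem result {F : Type*} [Field F] [Fintype F] {p : ℕ} [Fact p.Prime] [CharP F p] {n : ℕ} (Q : QuadraticForm F (Fin n → F)) (hQ : (QuadraticMap.polarBilin Q).Nondegenerate) (A B : ↥(Cfsg.isometryGroup F ⇑Q)) (hodd : Odd (orderOf A)) (hA : (orderOf A).Coprime p) : IsConj A B ↔ IsConj ((A : Matrix.GeneralLinearGroup (Fin n) F) : Matrix (Fin n) (Fin n) F) ((B : Matrix.GeneralLinearGroup (Fin n) F) : Matrix (Fin n) (Fin n) F) := by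
  constructor
  · intro h
    exact ((Units.coeHom (Matrix (Fin n) (Fin n) F)).comp
      (Cfsg.isometryGroup F ⇑Q).subtype).map_isConj h
  · intro h
    obtain ⟨c, hc⟩ := h
    have hcAB : (c : Matrix (Fin n) (Fin n) F)
        * ((A : Matrix.GeneralLinearGroup (Fin n) F) : Matrix (Fin n) (Fin n) F)
        = ((B : Matrix.GeneralLinearGroup (Fin n) F) : Matrix (Fin n) (Fin n) F) * c := hc
    have hN : ((orderOf A : ℕ) : F) ≠ 0 := by
      rw [Ne, CharP.cast_eq_zero_iff F p]
      intro hdvd
      have h1 := Nat.Coprime.eq_one_of_dvd hA.symm hdvd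
      exact (Fact.out : p.Prime).one_lt.ne' h1
    have hAN : ((A : Matrix.GeneralLinearGroup (Fin n) F) : Matrix (Fin n) (Fin n) F) ^ orderOf A
        = 1 := by
      have h1 := congrArg (fun t : ↥(Cfsg.isometryGroup F ⇑Q) =>
        ((t : Matrix.GeneralLinearGroup (Fin n) F) : Matrix (Fin n) (Fin n) F))
        (pow_orderOf_eq_one A)
      exact h1
    have hAQ := (mem_iso_iff (⇑Q) (A : Matrix.GeneralLinearGroup (Fin n) F)).mp A.2
    have hBQ := (mem_iso_iff (⇑Q) (B : Matrix.GeneralLinearGroup (Fin n) F)).mp B.2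
    obtain ⟨g, hgQ, hgAB⟩ := main Q hQ hAQ hBQ c.isUnit hcAB hAN hN hodd
    exact conj_of_equiv (⇑Q) A B g hgQ hgAB

end Cfsg.Agent.S2590
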