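import Cfsg.Statements.S2594
import Mathlib
import Cfsg.Agent.Lib.Helper27.SympRankOne
import Cfsg.Agent.Lib.Helper27.SympOrder

set_option autoImplicit false
open Cfsg

namespace Cfsg.Agent.S2594

open Matrix Cfsg.Agent.Lib.Helper27.SympTransv

variable {F : Type*} [Field F] {m : ℕ}

theorem commute_iff [CharP F 2] (w : Fin m ⊕ Fin m → F) (hw : w ≠ 0) (c : F) (hc : c ≠ 0)
    (g : Matrix.symplecticGroup (Fin m) F) :
    tv w c * g = g * tv w c ↔ act g w = w := by
  constructor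
  · intro h
    have h1 : tv (act g w) c = tv w c := by
      rw [← conj_tv, ← h, mul_inv_cancel_right]
    obtain ⟨a, ha, haw⟩ := tv_eq_tv w (act g w) hw c hc h1
    have h2 : (2 : F) = 0 := CharP.ofNat_eq_zero F 2
    have h3 : (a - 1) ^ 2 = 0 := by
      have : (a - 1) ^ 2 = a ^ 2 - 2 * a + 1 := by ring
      rw [this, ha, h2]
      ring_nf
      linear_combination h2
    have h4 : a = 1 := by
      have := pow_eq_zero_iff (two_ne_zero) |>.mp h3
      exact sub_eq_zero.mp this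
    rw [haw, h4, one_smul]
  · intro h
    have h1 := conj_tv g w c
    rw [h] at h1
    calc tv w c * g = (g * tv w c * g⁻¹) * g := by rw [h1]
      _ = g * tv w c := by group

theorem centralizer_eq [CharP F 2] (w : Fin m ⊕ Fin m → F) (hw : w ≠ 0) (c : F) (hc : c ≠ 0) :
    Subgroup.centralizer ({tv w c} : Set ↥(Matrix.symplecticGroup (Fin m) F)) =
      MulAction.stabilizer (Matrix.symplecticGroup (Fin m) F) w := by
  ext g
  rw [Subgroup.mem_centralizer_iff, MulAction.mem_stabilizer_iff]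
  constructor
  · intro h
    exact (commute_iff w hw c hc g).mp (h _ rfl)
  · intro h k hk
    rw [Set.mem_singleton_iff] at hk
    rw [hk]
    exact (commute_iff w hw c hc g).mpr h

theorem orbit_eq (w : Fin m ⊕ Fin m → F) (hw : w ≠ 0) :
    MulAction.orbit (Matrix.symplecticGroup (Fin m) F) w = {x | x ≠ 0} := by
  ext x
  constructor
  · rintro ⟨g, rfl⟩
    intro h0
    apply hw
    have := act_inv_act g w
    change act g w = 0 at h0
    rw [h0, act_zero] at this
    exact this.symm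
  · intro hx
    obtain ⟨A, -, hA⟩ := trans1 (⊤ : Submodule F (Fin m ⊕ Fin m → F)) nondegOn_top w x
      Submodule.mem_top Submodule.mem_top hw hx
    exact ⟨A, hA⟩

theorem card_stab [Fintype F] {q : ℕ} (hF : Fintype.card F = q) (w : Fin m ⊕ Fin m → F)
    (hw : w ≠ 0) :
    (q ^ (2 * m) - 1) * Nat.card (MulAction.stabilizer (Matrix.symplecticGroup (Fin m) F) w) =
      q ^ (m ^ 2) * ∏ i ∈ Finset.range m, (q ^ (2 * (i + 1)) - 1) := by
  classical
  have hos := Nat.card_congr (MulAction.orbitProdStabilizerEquivGroup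
    (Matrix.symplecticGroup (Fin m) F) w)
  rw [Nat.card_prod, card_symplecticGroup hF m, orbit_eq w hw] at hos
  rw [← hos]
  congr 1
  have h2 := Nat.card_congr (Equiv.optionSubtypeNe (0 : Fin m ⊕ Fin m → F))
  rw [Finite.card_option] at h2
  have h3 : Nat.card (Fin m ⊕ Fin m → F) = q ^ (2 * m) := by
    rw [Nat.card_eq_fintype_card, Fintype.card_fun, Fintype.card_sum, Fintype.card_fin, hF]
    ring_nf
  rw [h3] at h2
  have h4 : Nat.card ↑{x : Fin m ⊕ Fin m → F | x ≠ 0} =
      Nat.card {x : Fin m ⊕ Fin m → F // x ≠ 0} := rfl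
  rw [h4]
  omega

theorem result {F : Type*} [Field F] [Fintype F] [CharP F 2] {q : ℕ} (hF : Fintype.card F = q) {m : ℕ} (hm : 1 ≤ m) (t : Matrix.symplecticGroup (Fin m) F) (ht : ((t : Matrix (Fin m ⊕ Fin m) (Fin m ⊕ Fin m) F) - 1).rank = 1) : Nat.card ↥(Subgroup.centralizer ({t} : Set ↥(Matrix.symplecticGroup (Fin m) F))) = q ^ (2 * m - 1) * (q ^ ((m - 1) ^ 2) * ∏ i : Fin (m - 1), (q ^ (2 * ((i : ℕ) + 1)) - 1)) := by
  obtain ⟨w, c, hw, hc, rfl⟩ := exists_tv_of_rank_one t ht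
  rw [centralizer_eq w hw c hc]
  have h1 := card_stab hF w hw
  have hq2 : 2 ≤ q := by
    rw [← hF]
    exact Fintype.one_lt_card
  have hpos : 0 < q ^ (2 * m) - 1 := by
    have : 2 ^ (2 * m) ≤ q ^ (2 * m) := Nat.pow_le_pow_left hq2 _
    have h2 : 2 ≤ 2 ^ (2 * m) := by
      calc 2 = 2 ^ 1 := by norm_num
        _ ≤ 2 ^ (2 * m) := Nat.pow_le_pow_right (by norm_num) (by omega)
    omega
  apply Nat.eq_of_mul_eq_mul_left hpos
  rw [h1]
  obtain ⟨k, rfl⟩ : ∃ k, m = k + 1 := ⟨m - 1, by omega⟩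
  rw [Finset.prod_range_succ, Fin.prod_univ_eq_prod_range (fun i => q ^ (2 * (i + 1)) - 1)]
  have e1 : k + 1 - 1 = k := by omega
  rw [e1]
  have e2 : 2 * (k + 1) - 1 = 2 * k + 1 := by omega
  rw [e2]
  ring

end Cfsg.Agent.S2594
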