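import Cfsg.Statements.S2599
import Mathlib

set_option autoImplicit false
open Cfsg

namespace Cfsg.Agent.S2599

/-- An irreducible invariant subspace of a semisimple isometry is non-degenerate or totally singular: let Q be a quadratic form on F^n (F finite of characteristic p) with non-degenerate polar form f, x an isometry of Q of order prime to p, and U a non-zero x-invariant subspace containing no x-invariant subspace other than 0 and U. Then U meets its f-orthogonal trivially, or Q vanishes on U, or p = 2, U is a line spanned by a non-singular vector and x fixes U pointwise. -/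
theorem result {F : Type*} [Field F] [Fintype F] {p : ℕ} [Fact p.Prime] [CharP F p] {n : ℕ} (Q : QuadraticForm F (Fin n → F)) (hQ : (QuadraticMap.polarBilin Q).Nondegenerate) (x : ↥(Cfsg.isometryGroup F ⇑Q)) (hx : (orderOf x).Coprime p) (U : Submodule F (Fin n → F)) (hU0 : U ≠ ⊥) (hUx : ∀ u ∈ U, ((x : Matrix.GeneralLinearGroup (Fin n) F) : Matrix (Fin n) (Fin n) F).mulVec u ∈ U) (hirr : ∀ W : Submodule F (Fin n → F), W ≤ U → (∀ w ∈ W, ((x : Matrix.GeneralLinearGroup (Fin n) F) : Matrix (Fin n) (Fin n) F).mulVec w ∈ W) → W = ⊥ ∨ W = U) : U ⊓ LinearMap.BilinForm.orthogonal (QuadraticMap.polarBilin Q) U = ⊥ ∨ (∀ u ∈ U, Q u = 0) ∨ (p = 2 ∧ Module.finrank F U = 1 ∧ (∃ u ∈ U, Q u ≠ 0) ∧ ∀ u ∈ U, ((x : Matrix.GeneralLinearGroup (Fin n) F) : Matrix (Fin n) (Fin n) F).mulVec u = u) := by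
  classical
  set M : Matrix (Fin n) (Fin n) F :=
    ((x : Matrix.GeneralLinearGroup (Fin n) F) : Matrix (Fin n) (Fin n) F) with hM
  have hMQ : ∀ v, Q (M.mulVec v) = Q v := fun v => x.2 v v
  have hMpolar : ∀ v w, QuadraticMap.polar ⇑Q (M.mulVec v) (M.mulVec w) = QuadraticMap.polar ⇑Q v w := by
    intro v w
    unfold QuadraticMap.polar
    rw [← Matrix.mulVec_add, hMQ, hMQ, hMQ]
  -- `M` is injective
  have hMinj : Function.Injective M.mulVec := by
    have hu : IsUnit M := ⟨(x : Matrix.GeneralLinearGroup (Fin n) F), rfl⟩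
    exact Matrix.mulVec_injective_iff_isUnit.2 hu
  -- `M` maps `U` onto `U`
  let T : U →ₗ[F] U := (M.mulVecLin).restrict hUx
  have hTinj : Function.Injective T := by
    intro a b hab
    apply Subtype.ext
    apply hMinj
    exact congrArg Subtype.val hab
  have hTsurj : Function.Surjective T := LinearMap.injective_iff_surjective.1 hTinj
  have hsurj : ∀ u ∈ U, ∃ u' ∈ U, M.mulVec u' = u := by
    intro u hu
    obtain ⟨⟨u', hu'⟩, h⟩ := hTsurj ⟨u, hu⟩
    exact ⟨u', hu', congrArg Subtype.val h⟩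
  -- the radical of `U`
  have hRinv : ∀ w ∈ U ⊓ LinearMap.BilinForm.orthogonal (QuadraticMap.polarBilin Q) U,
      M.mulVec w ∈ U ⊓ LinearMap.BilinForm.orthogonal (QuadraticMap.polarBilin Q) U := by
    intro w hw
    refine ⟨hUx w hw.1, ?_⟩
    intro u hu
    obtain ⟨u', hu', rfl⟩ := hsurj u hu
    show QuadraticMap.polarBilin Q (M.mulVec u') (M.mulVec w) = 0
    rw [QuadraticMap.polarBilin_apply_apply, hMpolar]
    exact hw.2 u' hu'
  rcases hirr _ inf_le_left hRinv with hR | hR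
  · left
    exact hR
  right
  have hiso : ∀ u ∈ U, ∀ v ∈ U, QuadraticMap.polar ⇑Q u v = 0 := by
    intro u hu v hv
    have hv' : v ∈ U ⊓ LinearMap.BilinForm.orthogonal (QuadraticMap.polarBilin Q) U := by
      rw [hR]
      exact hv
    exact hv'.2 u hu
  have hadd : ∀ u ∈ U, ∀ v ∈ U, Q (u + v) = Q u + Q v := by
    intro u hu v hv
    have := hiso u hu v hv
    unfold QuadraticMap.polar at this
    linear_combination this
  -- the singular vectors of `U`
  let U₀ : Submodule F (Fin n → F) :=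
    { carrier := {u | u ∈ U ∧ Q u = 0}
      add_mem' := by
        rintro a b ⟨ha, ha'⟩ ⟨hb, hb'⟩
        exact ⟨U.add_mem ha hb, by rw [hadd a ha b hb, ha', hb', add_zero]⟩
      zero_mem' := ⟨U.zero_mem, QuadraticMap.map_zero Q⟩
      smul_mem' := by
        rintro c a ⟨ha, ha'⟩
        exact ⟨U.smul_mem c ha, by rw [QuadraticMap.map_smul, ha', smul_zero]⟩ }
  have hU₀le : U₀ ≤ U := fun u hu => hu.1
  have hU₀inv : ∀ w ∈ U₀, M.mulVec w ∈ U₀ := by
    rintro w ⟨hw, hw'⟩
    exact ⟨hUx w hw, by rw [hMQ, hw']⟩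
  rcases hirr U₀ hU₀le hU₀inv with h0 | h0
  swap
  · left
    intro u hu
    have : u ∈ U₀ := by rw [h0]; exact hu
    exact this.2
  right
  have haniso : ∀ u ∈ U, Q u = 0 → u = 0 := by
    intro u hu hQu
    have : u ∈ U₀ := ⟨hu, hQu⟩
    rw [h0, Submodule.mem_bot] at this
    exact this
  obtain ⟨u₁, hu₁, hu₁0⟩ := (Submodule.ne_bot_iff U).1 hU0
  have hd : Q u₁ ≠ 0 := fun h => hu₁0 (haniso u₁ hu₁ h)
  -- characteristic two
  have h2 : (2 : F) = 0 := by
    by_contra h2
    apply hd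
    have := hiso u₁ hu₁ u₁ hu₁
    rw [QuadraticMap.polar_self, two_nsmul, ← two_mul] at this
    exact (mul_eq_zero.1 this).resolve_left h2
  have hp : p = 2 := by
    have h3 : ((2 : ℕ) : F) = 0 := by exact_mod_cast h2
    have h4 := (CharP.cast_eq_zero_iff F p 2).1 h3
    exact (Nat.prime_dvd_prime_iff_eq (Fact.out : p.Prime) Nat.prime_two).1 h4
  haveI : CharP F 2 := CharTwo.of_one_ne_zero_of_two_eq_zero one_ne_zero h2
  have hchar : ringChar F = 2 := ringChar.eq F 2
  have hneg : ∀ v : Fin n → F, -v = v := fun v => by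
    funext i
    simp [CharTwo.neg_eq]
  have hspan : ∀ u ∈ U, ∃ s : F, u = s • u₁ := by
    intro u hu
    obtain ⟨s, hs⟩ := FiniteField.isSquare_of_char_two hchar (Q u / Q u₁)
    refine ⟨s, ?_⟩
    have h1 : Q (u + s • u₁) = 0 := by
      rw [hadd u hu _ (U.smul_mem s hu₁), QuadraticMap.map_smul, smul_eq_mul, ← hs,
        div_mul_cancel₀ _ hd]
      exact CharTwo.add_self_eq_zero _
    have h2' := haniso _ (U.add_mem hu (U.smul_mem s hu₁)) h1
    have h3 : u = -(s • u₁) := eq_neg_of_add_eq_zero_left h2'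
    rw [h3, hneg]
  have hfix₁ : M.mulVec u₁ = u₁ := by
    obtain ⟨c, hc⟩ := hspan _ (hUx u₁ hu₁)
    have h1 := hMQ u₁
    rw [hc, QuadraticMap.map_smul, smul_eq_mul] at h1
    have h2' : c * c = 1 := by
      have : (c * c - 1) * Q u₁ = 0 := by linear_combination h1
      exact sub_eq_zero.1 ((mul_eq_zero.1 this).resolve_right hd)
    have h3 : (c + 1) ^ 2 = 0 := by
      rw [CharTwo.add_sq, pow_two, h2', one_pow]
      exact CharTwo.add_self_eq_zero _
    have h4 : c + 1 = 0 := pow_eq_zero_iff (two_ne_zero) |>.1 h3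
    have h5 : c = 1 := by
      have := CharTwo.add_eq_zero.1 h4
      exact this
    rw [hc, h5, one_smul]
  refine ⟨hp, ?_, ⟨u₁, hu₁, hd⟩, ?_⟩
  · rw [finrank_eq_one_iff']
    refine ⟨⟨u₁, hu₁⟩, fun h => hu₁0 (congrArg Subtype.val h), ?_⟩
    rintro ⟨w, hw⟩
    obtain ⟨s, hs⟩ := hspan w hw
    exact ⟨s, Subtype.ext hs.symm⟩
  · intro u hu
    obtain ⟨s, rfl⟩ := hspan u hu
    rw [Matrix.mulVec_smul, hfix₁]

end Cfsg.Agent.S2599
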