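import Cfsg.Statements.S2601
import Mathlib
import Cfsg.Agent.Lib.Helper19.OutPSL2

set_option autoImplicit false
open Cfsg

namespace Cfsg.Agent.S2601

open Cfsg.Agent.Lib.Helper19.AutPSL Cfsg.Agent.Lib.Helper19.PSLGraph

/-- the structure of `Out(PSL_{m+3}(F))` -/
theorem out_structure {F : Type*} [Field F] [Fintype F] (p : ℕ) [Fact p.Prime] [CharP F p]
    (m : ℕ) :
    ∃ φ : Cfsg.Out (Matrix.ProjectiveSpecialLinearGroup (Fin (m + 3)) F) →*
        RingAut F × Multiplicative (ZMod 2),
      Function.Surjective φ ∧ φ.ker = (Phi (n := m + 3) (F := F)).range.map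
        (QuotientGroup.mk' (Cfsg.Inn (Matrix.ProjectiveSpecialLinearGroup (Fin (m + 3)) F))) := by
  classical
  haveI hN : (Phi (n := m + 3) (F := F)).range.Normal := range_Phi_normal p
  let N := (Phi (n := m + 3) (F := F)).range
  let Θ : RingAut F × Multiplicative (ZMod 2) →*
      MulAut (Matrix.ProjectiveSpecialLinearGroup (Fin (m + 3)) F) ⧸ N :=
    (QuotientGroup.mk' N).comp fgHom
  have hΘinj : Function.Injective Θ := by
    rw [injective_iff_map_eq_one]
    rintro ⟨τ, x⟩ h
    have h1 : fgHom (n := m + 3) (τ, x) ∈ N := (QuotientGroup.eq_one_iff _).1 h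
    obtain ⟨h2, h3⟩ := fgHom_mem_range p τ x h1
    rw [h2, h3]
    rfl
  have hΘsurj : Function.Surjective Θ := by
    intro y
    induction y using QuotientGroup.induction_on with
    | H β =>
      obtain ⟨g, τ, e | e⟩ := main_aut p β
      · refine ⟨(τ, 1), ?_⟩
        show (QuotientGroup.mk (fgHom (n := m + 3) ((τ : RingAut F), 1)) :
          MulAut (Matrix.ProjectiveSpecialLinearGroup (Fin (m + 3)) F) ⧸ N) = QuotientGroup.mk β
        have h1 : (QuotientGroup.mk (Phi g) :
            MulAut (Matrix.ProjectiveSpecialLinearGroup (Fin (m + 3)) F) ⧸ N) = 1 :=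
          (QuotientGroup.eq_one_iff _).2 ⟨g, rfl⟩
        rw [fgHom_apply, map_one, mul_one, e, QuotientGroup.mk_mul, h1, one_mul]
      · refine ⟨(τ, Multiplicative.ofAdd 1), ?_⟩
        show (QuotientGroup.mk (fgHom (n := m + 3) ((τ : RingAut F), Multiplicative.ofAdd 1)) :
          MulAut (Matrix.ProjectiveSpecialLinearGroup (Fin (m + 3)) F) ⧸ N) = QuotientGroup.mk β
        have hi : iotaHom (n := m + 3) (F := F) (Multiplicative.ofAdd 1) = iota0 := by
          rw [iotaHom_apply]
          show iota0 ^ 1 = iota0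
          rw [pow_one]
        have h1 : (QuotientGroup.mk (Phi g) :
            MulAut (Matrix.ProjectiveSpecialLinearGroup (Fin (m + 3)) F) ⧸ N) = 1 :=
          (QuotientGroup.eq_one_iff _).2 ⟨g, rfl⟩
        rw [fgHom_apply, hi, e, mul_assoc, QuotientGroup.mk_mul (N := N) (Phi g), h1, one_mul]
  let E := MulEquiv.ofBijective Θ ⟨hΘinj, hΘsurj⟩
  have hle : Cfsg.Inn (Matrix.ProjectiveSpecialLinearGroup (Fin (m + 3)) F) ≤
      N.comap (MonoidHom.id _) := by
    intro k hk
    obtain ⟨s, _, rfl⟩ := (mem_Inn_iff k).1 hk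
    exact ⟨s, rfl⟩
  let qm : Cfsg.Out (Matrix.ProjectiveSpecialLinearGroup (Fin (m + 3)) F) →*
      MulAut (Matrix.ProjectiveSpecialLinearGroup (Fin (m + 3)) F) ⧸ N :=
    QuotientGroup.map _ N (MonoidHom.id _) hle
  have hqm : Function.Surjective qm := by
    apply QuotientGroup.map_surjective_of_surjective
    intro y
    induction y using QuotientGroup.induction_on with
    | H β => exact ⟨β, rfl⟩
  refine ⟨E.symm.toMonoidHom.comp qm, ?_, ?_⟩
  · exact E.symm.surjective.comp hqm
  · have h1 : (E.symm.toMonoidHom.comp qm).ker = qm.ker := by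
      ext x
      rw [MonoidHom.mem_ker, MonoidHom.mem_ker, MonoidHom.comp_apply]
      exact E.symm.map_eq_one_iff
    rw [h1, QuotientGroup.ker_map]
    rfl

/-- Structure of the outer automorphism group of PSL_n(q), n ≥ 3, q = p^f: it has a normal cyclic subgroup of order gcd(n, q − 1) (the diagonal automorphisms) whose quotient is the direct product of a cyclic group of order f (field automorphisms) and a group of order 2 (the inverse-transpose graph automorphism). -/
theorem result {F : Type*} [Field F] [Fintype F] {p f n : ℕ} [Fact p.Prime] (hf : 1 ≤ f) (hF : Fintype.card F = p ^ f) (hn : 3 ≤ n) : ∃ φ : Cfsg.Out (Matrix.ProjectiveSpecialLinearGroup (Fin n) F) →* Multiplicative (ZMod f × ZMod 2), Function.Surjective φ ∧ IsCyclic φ.ker ∧ Nat.card φ.ker = Nat.gcd n (p ^ f - 1) := by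
  classical
  haveI : CharP F p := charP_of_card_eq_prime_pow hF
  obtain ⟨m, rfl⟩ : ∃ m, n = m + 3 := ⟨n - 3, by omega⟩
  obtain ⟨φ, hφs, hφk⟩ := out_structure (F := F) p m
  haveI hcyc : IsCyclic (RingAut F) := Cfsg.Agent.Lib.Helper14.OutL2.isCyclic_ringAut F p
  have hcard : Nat.card (RingAut F) = f := Cfsg.Agent.Lib.Helper14.OutL2.card_ringAut F p f hF
  subst hcard
  let c : RingAut F ≃* Multiplicative (ZMod (Nat.card (RingAut F))) :=
    (zmodCyclicMulEquiv hcyc).symm
  let T : RingAut F × Multiplicative (ZMod 2) ≃*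
      Multiplicative (ZMod (Nat.card (RingAut F)) × ZMod 2) :=
    (MulEquiv.prodCongr c (MulEquiv.refl _)).trans
      (MulEquiv.prodMultiplicative (G := ZMod (Nat.card (RingAut F))) (H := ZMod 2)).symm
  refine ⟨T.toMonoidHom.comp φ, T.surjective.comp hφs, ?_⟩
  have h1 : (T.toMonoidHom.comp φ).ker = φ.ker := by
    ext x
    rw [MonoidHom.mem_ker, MonoidHom.mem_ker, MonoidHom.comp_apply]
    exact T.map_eq_one_iff
  rw [h1, hφk, ← hF]
  exact diag_cyclic_card (n := m + 3) (F := F) ⟨0, by omega⟩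

end Cfsg.Agent.S2601
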