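import Cfsg.Statements.S2609
import Mathlib
import Cfsg.Agent.Lib.Helper19.OrthNegOne
-- import your own Cfsg.Agent.* helpers here

set_option autoImplicit false
open Cfsg

namespace Cfsg.Agent.S2609

open Cfsg.Agent.Lib.Helper19.OrthRefl

open Classical in
/-- A list of non-singular vectors gives a product of reflections with the expected matrix,
determinant and sign character. -/
theorem exists_prod {F : Type*} [Field F] [Fintype F] (h2 : (2 : F) ≠ 0) {n : ℕ}
    (Q : QuadraticForm F (Fin n → F)) (vs : List (Fin n → F)) (hvs : ∀ v ∈ vs, Q v ≠ 0) :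
    ∃ g : ↥(Cfsg.isometryGroup F ⇑Q),
      ((g : Matrix.GeneralLinearGroup (Fin n) F) : Matrix (Fin n) (Fin n) F)
        = (vs.map (fun v => Cfsg.reflectionMatrix ⇑Q v)).prod ∧
      ((g : Matrix.GeneralLinearGroup (Fin n) F) : Matrix (Fin n) (Fin n) F).det
        = (-1) ^ vs.length ∧
      ((chi (⇑Q) 1 g : ℤˣ) : ℤ)
        = (-1) ^ vs.length * quadraticChar F (vs.map (fun v => Q v)).prod := by
  classical
  induction vs with
  | nil =>
    refine ⟨1, ?_, ?_, ?_⟩
    · simp
    · simp
    · simp
  | cons v vs ih =>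
    have hv : Q v ≠ 0 := hvs v List.mem_cons_self
    obtain ⟨g, hg1, hg2, hg3⟩ := ih (fun w hw => hvs w (List.mem_cons_of_mem v hw))
    refine ⟨refl Q v hv * g, ?_, ?_, ?_⟩
    · rw [Subgroup.coe_mul, Units.val_mul, refl_coe, hg1, List.map_cons, List.prod_cons]
    · rw [Subgroup.coe_mul, Units.val_mul, Matrix.det_mul, refl_det, hg2, List.length_cons,
        pow_succ]
      ring
    · rw [map_mul, Units.val_mul, hg3, chi_refl h2 Q 1 one_ne_zero v hv, one_mul,
        units_ite_coe (Q v) hv, List.map_cons, List.prod_cons, map_mul, List.length_cons, pow_succ]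
      ring

/-- Spinor norm criterion for Ω over a finite field of odd order: let Q be a quadratic form on F^n, n ≥ 2, with non-degenerate polar form, and let g be an isometry written as a product of reflections in non-singular vectors v_1, …, v_k. Then g lies in Ω (the commutator subgroup of the orthogonal group) if and only if k is even and Q(v_1)⋯Q(v_k) is a square; in particular, for g of determinant one, whether that product is a square does not depend on the chosen factorisation (it is the spinor norm of g). -/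
theorem result {F : Type*} [Field F] [Fintype F] (h2 : (2 : F) ≠ 0) {n : ℕ} (hn : 2 ≤ n) (Q : QuadraticForm F (Fin n → F)) (hQ : (QuadraticMap.polarBilin Q).Nondegenerate) (g : ↥(Cfsg.isometryGroup F ⇑Q)) (vs : List (Fin n → F)) (hvs : ∀ v ∈ vs, Q v ≠ 0) (hg : ((g : Matrix.GeneralLinearGroup (Fin n) F) : Matrix (Fin n) (Fin n) F) = (vs.map (fun v => Cfsg.reflectionMatrix ⇑Q v)).prod) : g ∈ Cfsg.Omega F ⇑Q ↔ (Even vs.length ∧ IsSquare (vs.map (fun v => Q v)).prod) := by
  classical
  obtain ⟨g', hg1, hg2, hg3⟩ := exists_prod h2 Q vs hvs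
  have hgg : g = g' := by
    apply Subtype.ext
    apply Units.ext
    rw [hg, hg1]
  subst hgg
  have hprod0 : (vs.map (fun v => Q v)).prod ≠ 0 := by
    apply List.prod_ne_zero
    intro h0
    obtain ⟨v, hv, hv0⟩ := List.mem_map.1 h0
    exact hvs v hv hv0
  have hne : (1 : F) ≠ -1 := by
    intro h
    apply h2
    linear_combination h
  rw [mem_Omega_iff h2 Q hQ (by simpa using hn) 1 one_ne_zero, hg2, Units.ext_iff, Units.val_one,
    hg3]
  rcases Nat.even_or_odd vs.length with he | ho
  · rw [he.neg_one_pow, he.neg_one_pow, one_mul, quadraticChar_one_iff_isSquare hprod0]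
    exact ⟨fun h => ⟨he, h.2⟩, fun h => ⟨rfl, h.2⟩⟩
  · rw [ho.neg_one_pow]
    constructor
    · rintro ⟨h, _⟩
      exact absurd h.symm hne
    · rintro ⟨h, _⟩
      exact absurd h (Nat.not_even_iff_odd.2 ho)

end Cfsg.Agent.S2609
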