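import Cfsg.Statements.S2611
import Mathlib
import Cfsg.Agent.Lib.Helper19.OrthSpinor
import Cfsg.Agent.Lib.Helper19.QuadStd
import Cfsg.Agent.S0264
-- import your own Cfsg.Agent.* helpers here

set_option autoImplicit false
open Cfsg

namespace Cfsg.Agent.S2611

open Cfsg.Agent.Lib.Helper19.OrthRefl Cfsg.Agent.Lib.Helper19.QuadStd QuadraticMap Matrix
open scoped commutatorElement

section
variable {F : Type*} [Field F] {m : ℕ}

/-- The matrix `diag(A, A⁻ᵀ)`. -/
noncomputable def psiMat (A : GL (Fin m) F) : Matrix (Fin m ⊕ Fin m) (Fin m ⊕ Fin m) F :=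
  Matrix.fromBlocks (A : Matrix (Fin m) (Fin m) F) 0 0 ((A : Matrix (Fin m) (Fin m) F)⁻¹).transpose

theorem psiMat_one : psiMat (1 : GL (Fin m) F) = 1 := by
  unfold psiMat
  simp [Matrix.fromBlocks_one]

theorem psiMat_mul (A B : GL (Fin m) F) : psiMat (A * B) = psiMat A * psiMat B := by
  unfold psiMat
  rw [Matrix.fromBlocks_multiply]
  simp only [Matrix.mul_zero, Matrix.zero_mul, add_zero, zero_add]
  congr 1
  rw [← Matrix.transpose_mul, ← Matrix.coe_units_inv, ← Matrix.coe_units_inv,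
    ← Matrix.coe_units_inv, _root_.mul_inv_rev, Units.val_mul]

/-- `diag(A, A⁻ᵀ)` as an invertible matrix. -/
noncomputable def psiGL : GL (Fin m) F →* GL (Fin m ⊕ Fin m) F where
  toFun A := ⟨psiMat A, psiMat A⁻¹, by rw [← psiMat_mul, mul_inv_cancel, psiMat_one],
    by rw [← psiMat_mul, inv_mul_cancel, psiMat_one]⟩
  map_one' := Units.ext psiMat_one
  map_mul' A B := Units.ext (psiMat_mul A B)

theorem psiGL_val (A : GL (Fin m) F) :
    ((psiGL A : GL (Fin m ⊕ Fin m) F) : Matrix (Fin m ⊕ Fin m) (Fin m ⊕ Fin m) F) = psiMat A := rfl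

theorem psiGL_mem (A : GL (Fin m) F) : psiGL A ∈ Cfsg.isometryGroup F ⇑(stdPlus m F) := by
  rw [mem_iso]
  intro x
  rw [psiGL_val, stdPlus_apply, stdPlus_apply]
  unfold Cfsg.quadFormPlus psiMat
  rw [Matrix.fromBlocks_mulVec]
  simp only [Matrix.zero_mulVec, add_zero, zero_add, Sum.elim_inl, Sum.elim_inr]
  have h1 : ∑ i, ((A : Matrix (Fin m) (Fin m) F) *ᵥ (x ∘ Sum.inl)) i *
      (((A : Matrix (Fin m) (Fin m) F)⁻¹).transpose *ᵥ (x ∘ Sum.inr)) i
      = ((A : Matrix (Fin m) (Fin m) F) *ᵥ (x ∘ Sum.inl)) ⬝ᵥ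
        (((A : Matrix (Fin m) (Fin m) F)⁻¹).transpose *ᵥ (x ∘ Sum.inr)) := rfl
  have h2 : ∑ i, x (Sum.inl i) * x (Sum.inr i) = (x ∘ Sum.inl) ⬝ᵥ (x ∘ Sum.inr) := rfl
  rw [h1, h2, Matrix.mulVec_transpose, dotProduct_comm, Matrix.dotProduct_mulVec,
    Matrix.vecMul_vecMul, ← Matrix.coe_units_inv, ← Units.val_mul, inv_mul_cancel, Units.val_one,
    Matrix.vecMul_one, dotProduct_comm]

/-- `A ↦ diag(A, A⁻ᵀ)` into the isometry group of the hyperbolic form. -/
noncomputable def psi : GL (Fin m) F →* ↥(Cfsg.isometryGroup F ⇑(stdPlus m F)) :=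
  psiGL.codRestrict _ psiGL_mem

theorem psi_val (A : GL (Fin m) F) :
    (((psi A : ↥(Cfsg.isometryGroup F ⇑(stdPlus m F))) : GL (Fin m ⊕ Fin m) F) :
      Matrix (Fin m ⊕ Fin m) (Fin m ⊕ Fin m) F) = psiMat A := rfl

/-- The diagonal weight of the torus element. -/
def dw (i₀ : Fin m) (μ : F) : Fin m ⊕ Fin m → F :=
  Sum.elim (fun i => if i = i₀ then μ else 1) (fun i => if i = i₀ then μ⁻¹ else 1)

/-- The torus element `diag(μ at i₀)` of `GL`. -/
noncomputable def dgl (i₀ : Fin m) (μ : Fˣ) : GL (Fin m) F := Cfsg.Agent.S0264.dg (Pi.mulSingle i₀ μ)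

theorem dgl_det (i₀ : Fin m) (μ : Fˣ) :
    ((dgl i₀ μ : GL (Fin m) F) : Matrix (Fin m) (Fin m) F).det = (μ : F) := by
  unfold dgl
  rw [Cfsg.Agent.S0264.dg_val, Matrix.det_diagonal]
  rw [Finset.prod_eq_single i₀]
  · simp
  · intro b _ hb
    simp [Pi.mulSingle_apply, hb]
  · intro h; exact absurd (Finset.mem_univ _) h

theorem psiMat_dgl (i₀ : Fin m) (μ : Fˣ) :
    psiMat (dgl i₀ μ) = Matrix.diagonal (dw i₀ (μ : F)) := by
  unfold psiMat
  rw [← Matrix.coe_units_inv]
  unfold dgl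
  rw [← map_inv, Cfsg.Agent.S0264.dg_val, Cfsg.Agent.S0264.dg_val, Matrix.diagonal_transpose,
    Matrix.fromBlocks_diagonal]
  congr 1
  funext k
  rcases k with i | i
  · by_cases h : i = i₀
    · subst h; simp [dw]
    · simp [dw, h, Pi.mulSingle_apply]
  · by_cases h : i = i₀
    · subst h; simp [dw]
    · simp [dw, h, Pi.mulSingle_apply]

theorem act_psi_dgl (i₀ : Fin m) (μ : Fˣ) (x : Fin m ⊕ Fin m → F) :
    act (psi (dgl i₀ μ)) x = fun k => dw i₀ (μ : F) k * x k := by
  rw [act_def, psi_val, psiMat_dgl]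
  funext k
  rw [Matrix.mulVec_diagonal]

/-- The basis vectors of the hyperbolic pair at `i₀`. -/
def eV (i₀ : Fin m) : Fin m ⊕ Fin m → F := Pi.single (Sum.inl i₀) 1
def fV (i₀ : Fin m) : Fin m ⊕ Fin m → F := Pi.single (Sum.inr i₀) 1

theorem polar_eV (i₀ : Fin m) (x : Fin m ⊕ Fin m → F) :
    polar ⇑(stdPlus m F) (eV i₀) x = x (Sum.inr i₀) := by
  rw [polar_stdPlus]
  simp [eV, Pi.single_apply]

theorem polar_fV (i₀ : Fin m) (x : Fin m ⊕ Fin m → F) :
    polar ⇑(stdPlus m F) (fV i₀) x = x (Sum.inl i₀) := by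
  rw [polar_stdPlus]
  simp [fV, Pi.single_apply]

theorem Q_eV (i₀ : Fin m) : stdPlus m F (eV i₀) = 0 := by
  rw [stdPlus_apply]
  unfold Cfsg.quadFormPlus
  simp [eV]

theorem Q_fV (i₀ : Fin m) : stdPlus m F (fV i₀) = 0 := by
  rw [stdPlus_apply]
  unfold Cfsg.quadFormPlus
  simp [fV]

theorem Q_e_sub (i₀ : Fin m) (δ : F) : stdPlus m F (eV i₀ - δ • fV i₀) = -δ := by
  rw [Q_sub', Q_eV, QuadraticMap.map_smul, Q_fV, QuadraticMap.polar_smul_right, polar_eV]
  simp [fV]

/-- The action of the reflection in `e - δ f`. -/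
theorem act_refl_e_sub (i₀ : Fin m) (δ : F) (hδ : δ ≠ 0)
    (hne : stdPlus m F (eV i₀ - δ • fV i₀) ≠ 0) (x : Fin m ⊕ Fin m → F) :
    act (refl (stdPlus m F) (eV i₀ - δ • fV i₀) hne) x
      = fun k => if k = Sum.inl i₀ then δ⁻¹ * x (Sum.inr i₀)
          else if k = Sum.inr i₀ then δ * x (Sum.inl i₀) else x k := by
  rw [act_refl, Q_e_sub, QuadraticMap.polar_sub_left, QuadraticMap.polar_smul_left, polar_eV,
    polar_fV]
  funext k
  simp only [Pi.sub_apply, Pi.smul_apply, smul_eq_mul, eV, fV, Pi.single_apply]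
  by_cases h1 : k = Sum.inl i₀
  · subst h1
    simp
    field_simp
    ring
  · by_cases h3 : k = Sum.inr i₀
    · subst h3
      simp
      field_simp
      ring
    · simp [h1, h3]

end

/-- For the hyperbolic quadratic form Σ x_i y_i on F^(2m) (F finite, m ≥ 1, excluding m = 2 over the field of two elements) and an invertible m × m matrix A, the block-diagonal isometry diag(A, (A⁻¹)ᵀ), which stabilises the two maximal totally singular subspaces x = 0 and y = 0, lies in Ω⁺_2m(F) (the commutator subgroup of the orthogonal group) if and only if det A is a square in F. -/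
theorem result {F : Type*} [Field F] [Fintype F] {m : ℕ} (hm : 1 ≤ m) (h : Fintype.card F ≠ 2 ∨ m ≠ 2) (A : GL (Fin m) F) : (∃ g : ↥(Cfsg.isometryGroup F (Cfsg.quadFormPlus m F)), g ∈ Cfsg.Omega F (Cfsg.quadFormPlus m F) ∧ ((g : Matrix.GeneralLinearGroup (Fin m ⊕ Fin m) F) : Matrix (Fin m ⊕ Fin m) (Fin m ⊕ Fin m) F) = Matrix.fromBlocks (A : Matrix (Fin m) (Fin m) F) 0 0 ((A : Matrix (Fin m) (Fin m) F)⁻¹).transpose) ↔ IsSquare (A : Matrix (Fin m) (Fin m) F).det := by
  classical
  rw [← coe_stdPlus]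
  set Q := stdPlus m F with hQdef
  have hstep : (∃ g : ↥(Cfsg.isometryGroup F ⇑Q), g ∈ Cfsg.Omega F ⇑Q ∧
      ((g : Matrix.GeneralLinearGroup (Fin m ⊕ Fin m) F) : Matrix (Fin m ⊕ Fin m) (Fin m ⊕ Fin m) F)
        = Matrix.fromBlocks (A : Matrix (Fin m) (Fin m) F) 0 0
          ((A : Matrix (Fin m) (Fin m) F)⁻¹).transpose) ↔ psi A ∈ Cfsg.Omega F ⇑Q := by
    constructor
    · rintro ⟨g, hg, hgA⟩
      have : g = psi A := by
        apply Subtype.ext
        apply Units.ext
        rw [hgA]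
        rfl
      rw [← this]; exact hg
    · intro hA
      exact ⟨psi A, hA, rfl⟩
  rw [hstep]
  set i₀ : Fin m := ⟨0, hm⟩ with hi₀
  -- `GL' = ker det`
  have hGL : commutator (GL (Fin m) F) = (Matrix.GeneralLinearGroup.det :
      GL (Fin m) F →* Fˣ).ker := by
    apply Cfsg.Agent.S0264.result
    intro hm2
    have hcard : Fintype.card F ≠ 2 := by
      rcases h with h | h
      · exact h
      · exact absurd hm2 h
    have h2lt : 2 < Fintype.card F := by
      have := Fintype.one_lt_card (α := F)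
      omega
    obtain ⟨a, b, c, hab, hac, hbc⟩ := Fintype.two_lt_card_iff.1 h2lt
    by_cases ha : a ≠ 0 ∧ a ≠ 1
    · exact ⟨a, ha.1, ha.2⟩
    by_cases hb : b ≠ 0 ∧ b ≠ 1
    · exact ⟨b, hb.1, hb.2⟩
    refine ⟨c, ?_, ?_⟩
    · rintro rfl
      rw [not_and_or, not_not, not_not] at ha hb
      rcases ha with ha | ha <;> rcases hb with hb | hb
      · exact hac ha
      · exact hac ha
      · exact hbc hb
      · exact hab (ha.trans hb.symm)
    · rintro rfl
      rw [not_and_or, not_not, not_not] at ha hb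
      rcases ha with ha | ha <;> rcases hb with hb | hb
      · exact hab (ha.trans hb.symm)
      · exact hbc hb
      · exact hac ha
      · exact hac ha
  have hcommap : ∀ B : GL (Fin m) F, B ∈ commutator (GL (Fin m) F) →
      psi B ∈ commutator ↥(Cfsg.isometryGroup F ⇑Q) := by
    intro B hB
    have h1 : psi B ∈ (commutator (GL (Fin m) F)).map psi := Subgroup.mem_map_of_mem psi hB
    rw [commutator_def, Subgroup.map_commutator] at h1
    exact Subgroup.commutator_mono le_top le_top h1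
  have hdglinv : ∀ μ : Fˣ, (dgl i₀ μ)⁻¹ = dgl i₀ μ⁻¹ := by
    intro μ
    unfold dgl
    rw [← map_inv, Pi.mulSingle_inv]
  have hsplit : ∀ μ : Fˣ, ((A : Matrix (Fin m) (Fin m) F)).det = (μ : F) →
      A * (dgl i₀ μ)⁻¹ ∈ commutator (GL (Fin m) F) := by
    intro μ hμ
    rw [hGL, MonoidHom.mem_ker, Units.ext_iff, Matrix.GeneralLinearGroup.val_det_apply,
      Units.val_mul, Matrix.det_mul, hμ, hdglinv, dgl_det, Units.val_one, Units.val_inv_eq_inv_val,
      mul_inv_cancel₀ μ.ne_zero]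
  have hQ1 : Q (eV i₀ - (1 : F) • fV i₀) ≠ 0 := by
    rw [hQdef, Q_e_sub]; exact neg_ne_zero.mpr one_ne_zero
  -- the torus element as a product of two reflections
  have htorus : ∀ (μ : Fˣ) (hne : Q (eV i₀ - (μ : F) • fV i₀) ≠ 0),
      psi (dgl i₀ μ) = refl Q (eV i₀ - (1 : F) • fV i₀) hQ1 * refl Q (eV i₀ - (μ : F) • fV i₀) hne := by
    intro μ hne
    apply ext_act
    intro x
    rw [act_mul, act_psi_dgl, act_refl_e_sub i₀ 1 one_ne_zero, act_refl_e_sub i₀ (μ : F) μ.ne_zero]
    funext k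
    by_cases h1 : k = Sum.inl i₀
    · subst h1
      simp [dw]
    · by_cases h3 : k = Sum.inr i₀
      · subst h3
        simp [dw]
      · rcases k with i | i
        · have : i ≠ i₀ := fun hi => h1 (by rw [hi])
          simp [dw, this, h1, h3]
        · have : i ≠ i₀ := fun hi => h3 (by rw [hi])
          simp [dw, this, h1, h3]
  constructor
  · -- `psi A ∈ Ω` implies `det A` is a square
    intro hA
    by_cases h2 : (2 : F) = 0
    · exact FiniteField.isSquare_of_char_two (CharP.ringChar_of_prime_eq_zero Nat.prime_two h2) _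
    · have hn : 2 ≤ Fintype.card (Fin m ⊕ Fin m) := by
        rw [Fintype.card_sum, Fintype.card_fin]; omega
      have hchi := ((mem_Omega_iff h2 Q (stdPlus_nondeg m) hn 1 one_ne_zero (psi A)).1 hA).2
      set δ : Fˣ := Matrix.GeneralLinearGroup.det A with hδ
      have hδdet : (A : Matrix (Fin m) (Fin m) F).det = (δ : F) := by
        rw [hδ, Matrix.GeneralLinearGroup.val_det_apply]
      have hker : ((chi (⇑Q) 1).comp psi) (A * (dgl i₀ δ)⁻¹) = 1 :=
        Abelianization.commutator_subset_ker ((chi (⇑Q) 1).comp psi) (hsplit δ hδdet)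
      have hAeq : A = (A * (dgl i₀ δ)⁻¹) * dgl i₀ δ := by group
      rw [hAeq, map_mul, map_mul] at hchi
      rw [MonoidHom.comp_apply] at hker
      rw [hker, one_mul] at hchi
      have hne : Q (eV i₀ - (δ : F) • fV i₀) ≠ 0 := by
        rw [hQdef, Q_e_sub]; exact neg_ne_zero.mpr δ.ne_zero
      rw [htorus δ hne, map_mul, chi_refl h2 Q 1 one_ne_zero, chi_refl h2 Q 1 one_ne_zero, hQdef,
        Q_e_sub, Q_e_sub] at hchi
      have hiff : IsSquare ((1 : F) * -1) ↔ IsSquare ((1 : F) * -(δ : F)) := by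
        by_cases ha : IsSquare ((1 : F) * -1) <;> by_cases hb : IsSquare ((1 : F) * -(δ : F))
        · exact ⟨fun _ => hb, fun _ => ha⟩
        · rw [if_pos ha, if_neg hb] at hchi; exact absurd hchi (by decide)
        · rw [if_neg ha, if_pos hb] at hchi; exact absurd hchi (by decide)
        · exact ⟨fun h' => absurd h' ha, fun h' => absurd h' hb⟩
      have := isSquare_mul_of_iff (by simp) (by simp [δ.ne_zero]) hiff
      rw [hδdet]
      have e : ((1 : F) * -1) * ((1 : F) * -(δ : F)) = (δ : F) := by ring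
      rw [e] at this
      exact this
  · -- a square determinant gives an element of `Ω`
    rintro ⟨r, hr⟩
    have hdet0 : (A : Matrix (Fin m) (Fin m) F).det ≠ 0 := by
      rw [← Matrix.GeneralLinearGroup.val_det_apply]
      exact Units.ne_zero _
    have hr0 : r ≠ 0 := by
      rintro rfl
      rw [mul_zero] at hr
      exact hdet0 hr
    set ρ : Fˣ := Units.mk0 r hr0 with hρ
    have hdetρ : (A : Matrix (Fin m) (Fin m) F).det = ((ρ * ρ : Fˣ) : F) := by
      rw [hr, Units.val_mul, hρ, Units.val_mk0]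
    have hAeq : A = (A * (dgl i₀ (ρ * ρ))⁻¹) * dgl i₀ (ρ * ρ) := by group
    rw [hAeq, map_mul]
    apply mul_mem (hcommap _ (hsplit (ρ * ρ) hdetρ))
    -- the torus element is a commutator
    set s := refl Q (eV i₀ - (1 : F) • fV i₀) hQ1 with hs
    obtain ⟨t, ht⟩ : ∃ t : ↥(Cfsg.isometryGroup F ⇑Q), t = psi (dgl i₀ ρ) := ⟨_, rfl⟩
    have hcomm : psi (dgl i₀ (ρ * ρ)) = ⁅t, s⁆ := by
      rw [commutatorElement_def, ht, ← map_inv, hdglinv, hs, refl_inv]
      apply ext_act
      intro x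
      rw [act_mul, act_mul, act_mul, act_psi_dgl, act_psi_dgl, act_psi_dgl,
        act_refl_e_sub i₀ 1 one_ne_zero, act_refl_e_sub i₀ 1 one_ne_zero]
      funext k
      by_cases h1 : k = Sum.inl i₀
      · subst h1
        simp [dw]
        ring
      · by_cases h3 : k = Sum.inr i₀
        · subst h3
          simp [dw]
          ring
        · rcases k with i | i
          · have : i ≠ i₀ := fun hi => h1 (by rw [hi])
            simp [dw, this, h1, h3]
          · have : i ≠ i₀ := fun hi => h3 (by rw [hi])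
            simp [dw, this, h1, h3]
    rw [hcomm]
    show ⁅t, s⁆ ∈ commutator ↥(Cfsg.isometryGroup F ⇑Q)
    rw [commutator_def]
    exact Subgroup.commutator_mem_commutator (Subgroup.mem_top _) (Subgroup.mem_top _)

end Cfsg.Agent.S2611
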