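import Cfsg.Statements.S2629
import Mathlib
import Cfsg.Agent.Lib.Helper19.OrthParity
import Cfsg.Agent.Lib.Helper19.QuadStd
-- import your own Cfsg.Agent.* helpers here

set_option autoImplicit false
open Cfsg

namespace Cfsg.Agent.S2629

open Cfsg.Agent.Lib.Helper19.OrthRefl Cfsg.Agent.Lib.Helper19.QuadStd
  Cfsg.Agent.Lib.Helper19.Parity

theorem isTS_U0 {F : Type*} [Field F] (m : ℕ) :
    IsTS (stdPlus m F) (LinearMap.ker (LinearMap.funLeft F F (Sum.inr : Fin m → Fin m ⊕ Fin m))) := by
  intro v hv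
  rw [LinearMap.mem_ker] at hv
  rw [stdPlus_apply]
  unfold Cfsg.quadFormPlus
  apply Finset.sum_eq_zero
  intro i _
  have : v (Sum.inr i) = 0 := congrFun hv i
  rw [this, mul_zero]

theorem finrank_U0 {F : Type*} [Field F] (m : ℕ) :
    Module.finrank F ↥(LinearMap.ker (LinearMap.funLeft F F (Sum.inr : Fin m → Fin m ⊕ Fin m)))
      = m := by
  have h1 := LinearMap.finrank_range_add_finrank_ker
    (LinearMap.funLeft F F (Sum.inr : Fin m → Fin m ⊕ Fin m))
  have hsurj : LinearMap.range (LinearMap.funLeft F F (Sum.inr : Fin m → Fin m ⊕ Fin m)) = ⊤ :=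
    LinearMap.range_eq_top.2 (LinearMap.funLeft_surjective_of_injective F F _ Sum.inr_injective)
  rw [hsurj, finrank_top, Module.finrank_fintype_fun_eq_card, Module.finrank_fintype_fun_eq_card,
    Fintype.card_sum, Fintype.card_fin] at h1
  omega

/-- For the hyperbolic form Σ x_i y_i on F^(2m) over a finite field of odd order (m ≥ 1), an isometry g preserves the class of the maximal totally singular subspace U₀ = {y = 0} (that is, m − dim(U₀ ∩ gU₀) is even) if and only if det g = 1: the stabiliser of each of the two classes of maximal totally singular subspaces is SO. -/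
theorem result {F : Type*} [Field F] [Fintype F] (h2 : (2 : F) ≠ 0) {m : ℕ} (hm : 1 ≤ m) (g : ↥(Cfsg.isometryGroup F (Cfsg.quadFormPlus m F))) : Even (m - Module.finrank F ↥(LinearMap.ker (LinearMap.funLeft F F (Sum.inr : Fin m → Fin m ⊕ Fin m)) ⊓ (LinearMap.ker (LinearMap.funLeft F F (Sum.inr : Fin m → Fin m ⊕ Fin m))).map (Matrix.mulVecLin ((g : Matrix.GeneralLinearGroup (Fin m ⊕ Fin m) F) : Matrix (Fin m ⊕ Fin m) (Fin m ⊕ Fin m) F)))) ↔ ((g : Matrix.GeneralLinearGroup (Fin m ⊕ Fin m) F) : Matrix (Fin m ⊕ Fin m) (Fin m ⊕ Fin m) F).det = 1 := by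
  classical
  revert g
  rw [← coe_stdPlus]
  intro g
  have hQ := stdPlus_nondeg (F := F) m
  have hV : Module.finrank F (Fin m ⊕ Fin m → F) = 2 * m := by
    rw [Module.finrank_fintype_fun_eq_card, Fintype.card_sum, Fintype.card_fin]; omega
  rw [← parityChar_eq_one_iff (stdPlus m F) hQ hV _ (isTS_U0 m) (finrank_U0 m) g]
  set ψ := parityChar (stdPlus m F) hQ hV _ (isTS_U0 m) (finrank_U0 m) with hψ
  have hne : (1 : F) ≠ -1 := by
    intro h
    apply h2
    linear_combination h
  have key : ∀ g : ↥(Cfsg.isometryGroup F ⇑(stdPlus m F)),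
      (((ψ g : ℤˣ) : ℤ) : F) = ((g : Matrix.GeneralLinearGroup (Fin m ⊕ Fin m) F) :
        Matrix (Fin m ⊕ Fin m) (Fin m ⊕ Fin m) F).det := by
    intro g
    have hg : g ∈ Subgroup.closure (Rset (stdPlus m F)) := by
      rw [closure_Rset h2 _ hQ]; trivial
    induction hg using Subgroup.closure_induction with
    | mem x hx =>
      obtain ⟨v, hv, rfl⟩ := hx
      rw [hψ, parityChar_refl, refl_det]
      simp
    | one => simp
    | mul x y _ _ hx hy =>
      rw [map_mul, Units.val_mul, Int.cast_mul, hx, hy, Subgroup.coe_mul, Units.val_mul,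
        Matrix.det_mul]
    | inv x _ hx =>
      rw [map_inv]
      have hxx : ψ x * ψ x = 1 := by
        rcases Int.units_eq_one_or (ψ x) with h | h <;> rw [h] <;> rfl
      have hinv : (ψ x)⁻¹ = ψ x := inv_eq_of_mul_eq_one_right hxx
      rw [hinv, hx]
      have hdet : ((x : Matrix.GeneralLinearGroup (Fin m ⊕ Fin m) F) :
          Matrix (Fin m ⊕ Fin m) (Fin m ⊕ Fin m) F).det * ((x : Matrix.GeneralLinearGroup (Fin m ⊕ Fin m) F) :
          Matrix (Fin m ⊕ Fin m) (Fin m ⊕ Fin m) F).det = 1 := by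
        rw [← hx, ← Int.cast_mul, ← Units.val_mul, hxx]
        simp
      have h1 : ((x⁻¹ : ↥(Cfsg.isometryGroup F ⇑(stdPlus m F))) : Matrix.GeneralLinearGroup (Fin m ⊕ Fin m) F)
          = (x : Matrix.GeneralLinearGroup (Fin m ⊕ Fin m) F)⁻¹ := rfl
      rw [h1, Matrix.coe_units_inv, Matrix.det_nonsing_inv, Ring.inverse_eq_inv']
      exact (eq_inv_of_mul_eq_one_left hdet)
  rw [← key g]
  rcases Int.units_eq_one_or (ψ g) with h | h
  · rw [h]; simp
  · rw [h]
    simp only [Units.val_neg, Units.val_one, Int.cast_neg, Int.cast_one]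
    constructor
    · intro h'; exact absurd h' (by decide)
    · intro h'; exact absurd h'.symm hne

end Cfsg.Agent.S2629
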