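import Cfsg.Statements.S2612
import Mathlib
import Cfsg.Agent.Lib.Helper19.OrthOmega2
import Cfsg.Agent.Lib.Helper19.OrthSpinor
import Cfsg.Agent.Lib.Helper19.OrthSwap
import Cfsg.Agent.Lib.Helper19.OrthParity
import Cfsg.Agent.Lib.Helper19.QuadStd
import Cfsg.Agent.S2629
-- import your own Cfsg.Agent.* helpers here

set_option autoImplicit false
open Cfsg

namespace Cfsg.Agent.S2612

open Cfsg.Agent.Lib.Helper19.OrthRefl Cfsg.Agent.Lib.Helper19.QuadStd
  Cfsg.Agent.Lib.Helper19.Parity

/-- For the hyperbolic quadratic form Σ x_i y_i on F^(2m) (F finite, m ≥ 1, excluding m = 2 over the field of two elements), Ω⁺_2m(F) (the commutator subgroup of the orthogonal group) contains an element interchanging the two complementary maximal totally singular subspaces {y = 0} and {x = 0} if and only if m is even (dimension divisible by 4). -/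
theorem result {F : Type*} [Field F] [Fintype F] {m : ℕ} (hm : 1 ≤ m) (h : Fintype.card F ≠ 2 ∨ m ≠ 2) : (∃ g : ↥(Cfsg.isometryGroup F (Cfsg.quadFormPlus m F)), g ∈ Cfsg.Omega F (Cfsg.quadFormPlus m F) ∧ (∀ v : Fin m ⊕ Fin m → F, (∀ i, v (Sum.inr i) = 0) → ∀ i, (((g : Matrix.GeneralLinearGroup (Fin m ⊕ Fin m) F) : Matrix (Fin m ⊕ Fin m) (Fin m ⊕ Fin m) F).mulVec v) (Sum.inl i) = 0) ∧ (∀ v : Fin m ⊕ Fin m → F, (∀ i, v (Sum.inl i) = 0) → ∀ i, (((g : Matrix.GeneralLinearGroup (Fin m ⊕ Fin m) F) : Matrix (Fin m ⊕ Fin m) (Fin m ⊕ Fin m) F).mulVec v) (Sum.inr i) = 0)) ↔ Even m := by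
  classical
  rw [← coe_stdPlus]
  have hQ := stdPlus_nondeg (F := F) m
  have hV : Module.finrank F (Fin m ⊕ Fin m → F) = 2 * m := by
    rw [Module.finrank_fintype_fun_eq_card, Fintype.card_sum, Fintype.card_fin]; omega
  have hcard : Fintype.card (Fin m ⊕ Fin m) = 2 * m := by
    rw [Fintype.card_sum, Fintype.card_fin]; omega
  constructor
  · rintro ⟨g, hg, hmap, _⟩
    have hψ : parityChar (stdPlus m F) hQ hV _ (Cfsg.Agent.S2629.isTS_U0 m)
        (Cfsg.Agent.S2629.finrank_U0 m) g = 1 := Abelianization.commutator_subset_ker _ hg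
    rw [parityChar_eq_one_iff] at hψ
    have hbot : LinearMap.ker (LinearMap.funLeft F F (Sum.inr : Fin m → Fin m ⊕ Fin m)) ⊓
        (LinearMap.ker (LinearMap.funLeft F F (Sum.inr : Fin m → Fin m ⊕ Fin m))).map
          (Matrix.mulVecLin ((g : Matrix.GeneralLinearGroup (Fin m ⊕ Fin m) F) :
            Matrix (Fin m ⊕ Fin m) (Fin m ⊕ Fin m) F)) = ⊥ := by
      rw [eq_bot_iff]
      rintro w ⟨hw1, v, hv, rfl⟩
      rw [SetLike.mem_coe, LinearMap.mem_ker] at hv hw1
      rw [Submodule.mem_bot]
      funext s
      rcases s with i | i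
      · exact hmap v (fun i => congrFun hv i) i
      · exact congrFun hw1 i
    rw [hbot, finrank_bot, Nat.sub_zero] at hψ
    exact hψ
  · intro hm2
    refine ⟨swapProd m F (List.finRange m), ?_, ?_, ?_⟩
    · by_cases h2 : (2 : F) = 0
      · have hex : Fintype.card F ≠ 2 ∨ Fintype.card (Fin m ⊕ Fin m) ≠ 4 := by
          rw [hcard]
          rcases h with h | h
          · exact Or.inl h
          · right; omega
        rw [mem_Omega_iff_c2 h2 _ hQ hex, hom_swapProd m _ (-1)
          (fun j => dicksonChar_refl h2 _ hQ _ _), List.length_finRange, hm2.neg_one_pow]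
      · rw [mem_Omega_iff h2 _ hQ (by rw [hcard]; omega) 1 one_ne_zero]
        constructor
        · have h1 := hom_swapProd m (detHom (⇑(stdPlus m F))) (-1)
            (fun j => detHom_refl _ _ _) (List.finRange m)
          have h3 := congrArg Units.val h1
          rw [detHom_val, List.length_finRange, hm2.neg_one_pow, Units.val_one] at h3
          exact h3
        · rw [hom_swapProd m (chi (⇑(stdPlus m F)) 1)
            (if IsSquare ((1 : F) * -1) then (-1 : ℤˣ) else 1)
            (fun j => by rw [chi_refl h2 _ 1 one_ne_zero, Q_swapVec]),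
            List.length_finRange]
          split_ifs
          · exact hm2.neg_one_pow
          · exact one_pow _
    · intro v hv i
      have := act_swapProd_all m v (Sum.inl i)
      rw [act_def] at this
      rw [this]
      exact hv i
    · intro v hv i
      have := act_swapProd_all m v (Sum.inr i)
      rw [act_def] at this
      rw [this]
      exact hv i

end Cfsg.Agent.S2612
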