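import Cfsg.Statements.S2614
import Mathlib
import Cfsg.Agent.Lib.Helper19.OrthHyp
import Cfsg.Agent.Lib.Helper19.QuadStd
-- import your own Cfsg.Agent.* helpers here

set_option autoImplicit false
open Cfsg

namespace Cfsg.Agent.S2614

open Cfsg.Agent.Lib.Helper19.OrthRefl Cfsg.Agent.Lib.Helper19.QuadStd

/-- For the form x_0² + Σ x_j y_j on F^(2m+1), F finite with q elements, q odd, and 1 ≤ i ≤ m: the involution of determinant one negating the first i hyperbolic pairs (and fixing x_0 and the other pairs) lies in Ω_(2m+1)(q) (commutator subgroup of the orthogonal group) if and only if q^i ≡ 1 (mod 4); its (−1)-eigenspace is a hyperbolic 2i-space. -/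
theorem result {F : Type*} [Field F] [Fintype F] {q : ℕ} (hF : Fintype.card F = q) (hq : Odd q) {m : ℕ} (i : ℕ) (hi : 1 ≤ i) (him : i ≤ m) : (∃ g : ↥(Cfsg.isometryGroup F (Cfsg.quadFormOdd m F)), g ∈ Cfsg.Omega F (Cfsg.quadFormOdd m F) ∧ ((g : Matrix.GeneralLinearGroup (Unit ⊕ (Fin m ⊕ Fin m)) F) : Matrix (Unit ⊕ (Fin m ⊕ Fin m)) (Unit ⊕ (Fin m ⊕ Fin m)) F) = Matrix.diagonal (fun k : Unit ⊕ (Fin m ⊕ Fin m) => if (Sum.elim (fun _ : Unit => i) (Sum.elim (fun j : Fin m => (j : ℕ)) (fun j : Fin m => (j : ℕ))) k) < i then (-1 : F) else 1)) ↔ q ^ i % 4 = 1 := by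
  classical
  have h2 : (2 : F) ≠ 0 := two_ne_zero_of_odd_card (by rw [hF]; exact hq)
  have hm0 : 0 < m := by omega
  rw [← coe_stdOdd]
  set Q := stdOdd m F with hQdef
  set idx : Unit ⊕ (Fin m ⊕ Fin m) → ℕ :=
    Sum.elim (fun _ : Unit => i) (Sum.elim (fun j : Fin m => (j : ℕ)) (fun j : Fin m => (j : ℕ)))
    with hidx
  set a : ℕ → Unit ⊕ (Fin m ⊕ Fin m) :=
    fun j => if h : j < m then Sum.inr (Sum.inl ⟨j, h⟩) else Sum.inr (Sum.inl ⟨0, hm0⟩) with ha
  set b : ℕ → Unit ⊕ (Fin m ⊕ Fin m) :=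
    fun j => if h : j < m then Sum.inr (Sum.inr ⟨j, h⟩) else Sum.inr (Sum.inr ⟨0, hm0⟩) with hb
  have haj : ∀ j (h : j < m), a j = Sum.inr (Sum.inl ⟨j, h⟩) := fun j h => by rw [ha]; simp [h]
  have hbj : ∀ j (h : j < m), b j = Sum.inr (Sum.inr ⟨j, h⟩) := fun j h => by rw [hb]; simp [h]
  obtain ⟨g', hg1, hg2, hg3⟩ := exists_hypNeg_prod h2 Q idx i a b
    (by
      intro j hj k
      have hjm : j < m := by omega
      rw [haj j hjm, hbj j hjm]
      rcases k with k | k | k
      · simp only [hidx, Sum.elim_inl]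
        constructor
        · intro h; omega
        · rintro (h | h) <;> cases h
      · simp [hidx, Fin.ext_iff]
      · simp [hidx, Fin.ext_iff])
    (by intro j hj; have hjm : j < m := by omega
        rw [haj j hjm, hbj j hjm]; simp)
    (by
      intro j hj
      have hjm : j < m := by omega
      rw [haj j hjm, hQdef, stdOdd_apply]
      unfold Cfsg.quadFormOdd
      simp)
    (by
      intro j hj
      have hjm : j < m := by omega
      rw [hbj j hjm, hQdef, stdOdd_apply]
      unfold Cfsg.quadFormOdd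
      simp)
    (by
      intro j hj x
      have hjm : j < m := by omega
      rw [haj j hjm, hbj j hjm, hQdef, polar_stdOdd]
      simp [Pi.single_apply])
    (by
      intro j hj x
      have hjm : j < m := by omega
      rw [haj j hjm, hbj j hjm, hQdef, polar_stdOdd]
      simp [Pi.single_apply])
    i le_rfl
  have hn : 2 ≤ Fintype.card (Unit ⊕ (Fin m ⊕ Fin m)) := by
    rw [Fintype.card_sum, Fintype.card_sum, Fintype.card_fin]; simp; omega
  rw [exists_mem_Omega_iff h2 Q (stdOdd_nondeg m h2) hn _ g' hg1 (by rw [← hg1]; exact hg2), hg3]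
  exact epsNeg_pow_eq_one_iff hF hq i

end Cfsg.Agent.S2614
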