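import Cfsg.Statements.S2615
import Mathlib
import Cfsg.Agent.Lib.Helper19.OrthHyp
import Cfsg.Agent.Lib.Helper19.QuadStd
-- import your own Cfsg.Agent.* helpers here

set_option autoImplicit false
open Cfsg

namespace Cfsg.Agent.S2615

open Cfsg.Agent.Lib.Helper19.OrthRefl Cfsg.Agent.Lib.Helper19.QuadStd

/-- For an elliptic form Σ_(j<m−1) x_j y_j + (z₁² + a z₁z₂ + b z₂²) (anisotropic binary part) on F^(2m), F finite with q elements, q odd, and 1 ≤ i ≤ m − 1: the involution negating the first i hyperbolic pairs and fixing the rest lies in Ω⁻_2m(q) (commutator subgroup of the orthogonal group) if and only if q^i ≡ 1 (mod 4). -/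
theorem result {F : Type*} [Field F] [Fintype F] {q : ℕ} (hF : Fintype.card F = q) (hq : Odd q) {m : ℕ} (a b : F) (hab : ∀ z₁ z₂ : F, z₁ ^ 2 + a * z₁ * z₂ + b * z₂ ^ 2 = 0 → z₁ = 0 ∧ z₂ = 0) (i : ℕ) (hi : 1 ≤ i) (him : i + 1 ≤ m) : (∃ g : ↥(Cfsg.isometryGroup F (Cfsg.quadFormMinus (m - 1) F a b)), g ∈ Cfsg.Omega F (Cfsg.quadFormMinus (m - 1) F a b) ∧ ((g : Matrix.GeneralLinearGroup ((Fin (m - 1) ⊕ Fin (m - 1)) ⊕ Fin 2) F) : Matrix ((Fin (m - 1) ⊕ Fin (m - 1)) ⊕ Fin 2) ((Fin (m - 1) ⊕ Fin (m - 1)) ⊕ Fin 2) F) = Matrix.diagonal (fun k : (Fin (m - 1) ⊕ Fin (m - 1)) ⊕ Fin 2 => if (Sum.elim (Sum.elim (fun j : Fin (m - 1) => (j : ℕ)) (fun j : Fin (m - 1) => (j : ℕ))) (fun _ : Fin 2 => i) k) < i then (-1 : F) else 1)) ↔ q ^ i % 4 = 1 := by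
  classical
  have h2 : (2 : F) ≠ 0 := two_ne_zero_of_odd_card (by rw [hF]; exact hq)
  have hm0 : 0 < m - 1 := by omega
  rw [← coe_stdMinus]
  set Q := stdMinus (m - 1) F a b with hQdef
  set idx : (Fin (m - 1) ⊕ Fin (m - 1)) ⊕ Fin 2 → ℕ :=
    Sum.elim (Sum.elim (fun j : Fin (m - 1) => (j : ℕ)) (fun j : Fin (m - 1) => (j : ℕ)))
      (fun _ : Fin 2 => i) with hidx
  set a' : ℕ → (Fin (m - 1) ⊕ Fin (m - 1)) ⊕ Fin 2 :=
    fun j => if h : j < m - 1 then Sum.inl (Sum.inl ⟨j, h⟩) else Sum.inl (Sum.inl ⟨0, hm0⟩)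
    with ha
  set b' : ℕ → (Fin (m - 1) ⊕ Fin (m - 1)) ⊕ Fin 2 :=
    fun j => if h : j < m - 1 then Sum.inl (Sum.inr ⟨j, h⟩) else Sum.inl (Sum.inr ⟨0, hm0⟩)
    with hb
  have haj : ∀ j (h : j < m - 1), a' j = Sum.inl (Sum.inl ⟨j, h⟩) :=
    fun j h => by rw [ha]; simp [h]
  have hbj : ∀ j (h : j < m - 1), b' j = Sum.inl (Sum.inr ⟨j, h⟩) :=
    fun j h => by rw [hb]; simp [h]
  obtain ⟨g', hg1, hg2, hg3⟩ := exists_hypNeg_prod h2 Q idx i a' b'
    (by
      intro j hj k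
      have hjm : j < m - 1 := by omega
      rw [haj j hjm, hbj j hjm]
      rcases k with (k | k) | k
      · simp [hidx, Fin.ext_iff]
      · simp [hidx, Fin.ext_iff]
      · simp only [hidx, Sum.elim_inr]
        constructor
        · intro h; omega
        · rintro (h | h) <;> cases h)
    (by intro j hj; have hjm : j < m - 1 := by omega
        rw [haj j hjm, hbj j hjm]; simp)
    (by
      intro j hj
      have hjm : j < m - 1 := by omega
      rw [haj j hjm, hQdef, stdMinus_apply]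
      unfold Cfsg.quadFormMinus
      simp)
    (by
      intro j hj
      have hjm : j < m - 1 := by omega
      rw [hbj j hjm, hQdef, stdMinus_apply]
      unfold Cfsg.quadFormMinus
      simp)
    (by
      intro j hj x
      have hjm : j < m - 1 := by omega
      rw [haj j hjm, hbj j hjm, hQdef, polar_stdMinus]
      simp [Pi.single_apply])
    (by
      intro j hj x
      have hjm : j < m - 1 := by omega
      rw [haj j hjm, hbj j hjm, hQdef, polar_stdMinus]
      simp [Pi.single_apply])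
    i le_rfl
  have hn : 2 ≤ Fintype.card ((Fin (m - 1) ⊕ Fin (m - 1)) ⊕ Fin 2) := by
    rw [Fintype.card_sum, Fintype.card_sum, Fintype.card_fin, Fintype.card_fin]; omega
  rw [exists_mem_Omega_iff h2 Q (stdMinus_nondeg (m - 1) hab) hn _ g' hg1
    (by rw [← hg1]; exact hg2), hg3]
  exact epsNeg_pow_eq_one_iff hF hq i

end Cfsg.Agent.S2615
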