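import Cfsg.Statements.S2616
import Mathlib
import Cfsg.Agent.Lib.Helper19.QuadWitt

set_option autoImplicit false
open Cfsg

namespace Cfsg.Agent.S2616

open Cfsg.Agent.Lib.Helper19.QuadWitt

/-- Standard bases of a non-degenerate quadratic space of even dimension 2m over a finite field: either there is a hyperbolic basis e_i, f_i (Q(e_i) = Q(f_i) = 0, B(e_i, f_j) = δ_ij, the e's pairwise orthogonal and the f's pairwise orthogonal, B the polar form), or there is an elliptic basis: hyperbolic pairs e_i, f_i for i < m − 1 together with x, y orthogonal to them with Q(x) = 1, B(x, y) = 1, Q(y) = ζ where t² + t + ζ has no root in the field. -/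
theorem result {F V : Type*} [Field F] [Finite F] [AddCommGroup V] [Module F V] [FiniteDimensional F V] {m : ℕ} (hm : 1 ≤ m) (hV : Module.finrank F V = 2 * m) (Q : QuadraticForm F V) (hQ : (QuadraticMap.polarBilin Q).Nondegenerate) : (∃ b : Module.Basis (Fin m ⊕ Fin m) F V, (∀ i, Q (b (Sum.inl i)) = 0 ∧ Q (b (Sum.inr i)) = 0) ∧ (∀ i j, QuadraticMap.polar ⇑Q (b (Sum.inl i)) (b (Sum.inr j)) = if i = j then 1 else 0) ∧ (∀ i j, QuadraticMap.polar ⇑Q (b (Sum.inl i)) (b (Sum.inl j)) = 0 ∧ QuadraticMap.polar ⇑Q (b (Sum.inr i)) (b (Sum.inr j)) = 0)) ∨ (∃ (b : Module.Basis ((Fin (m - 1) ⊕ Fin (m - 1)) ⊕ Fin 2) F V) (ζ : F), (∀ t : F, t ^ 2 + t + ζ ≠ 0) ∧ (∀ i, Q (b (Sum.inl (Sum.inl i))) = 0 ∧ Q (b (Sum.inl (Sum.inr i))) = 0) ∧ (∀ i j, QuadraticMap.polar ⇑Q (b (Sum.inl (Sum.inl i))) (b (Sum.inl (Sum.inr j))) = if i = j then 1 else 0) ∧ (∀ i j, QuadraticMap.polar ⇑Q (b (Sum.inl (Sum.inl i))) (b (Sum.inl (Sum.inl j))) =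 0 ∧ QuadraticMap.polar ⇑Q (b (Sum.inl (Sum.inr i))) (b (Sum.inl (Sum.inr j))) = 0) ∧ (∀ i (k : Fin 2), QuadraticMap.polar ⇑Q (b (Sum.inl (Sum.inl i))) (b (Sum.inr k)) = 0 ∧ QuadraticMap.polar ⇑Q (b (Sum.inl (Sum.inr i))) (b (Sum.inr k)) = 0) ∧ Q (b (Sum.inr 0)) = 1 ∧ QuadraticMap.polar ⇑Q (b (Sum.inr 0)) (b (Sum.inr 1)) = 1 ∧ Q (b (Sum.inr 1)) = ζ) := by
  rcases even_structure (Q := Q) hQ hV with ⟨e, f, h⟩ | ⟨k, hk, e, f, x, y, h, hx, hy, hQx, hxy, hζ⟩
  · left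
    have hli := h.linearIndependent
    haveI : Nonempty (Fin m ⊕ Fin m) := ⟨Sum.inl ⟨0, hm⟩⟩
    let b := basisOfLinearIndependentOfCardEqFinrank hli (by rw [hV]; simp; ring)
    have hb : ⇑b = Sum.elim e f := coe_basisOfLinearIndependentOfCardEqFinrank _ _
    refine ⟨b, ?_, ?_, ?_⟩
    · intro i
      rw [hb]
      exact ⟨h.Qe i, h.Qf i⟩
    · intro i j
      rw [hb]
      exact h.ef i j
    · intro i j
      rw [hb]
      exact ⟨h.ee i j, h.ff i j⟩
  · right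
    subst hk
    have hli := elliptic_linearIndependent h hx hy hQx hxy hζ
    let b := basisOfLinearIndependentOfCardEqFinrank hli (by rw [hV]; simp; ring)
    have hb : ⇑b = Sum.elim (Sum.elim e f) ![x, y] :=
      coe_basisOfLinearIndependentOfCardEqFinrank _ _
    refine ⟨b, Q y, hζ, ?_, ?_, ?_, ?_, ?_, ?_, ?_⟩
    · intro i
      rw [hb]
      exact ⟨h.Qe i, h.Qf i⟩
    · intro i j
      rw [hb]
      exact h.ef i j
    · intro i j
      rw [hb]
      exact ⟨h.ee i j, h.ff i j⟩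
    · intro i s
      rw [hb]
      fin_cases s
      · exact ⟨(hx i).1, (hx i).2⟩
      · exact ⟨(hy i).1, (hy i).2⟩
    · rw [hb]
      exact hQx
    · rw [hb]
      exact hxy
    · rw [hb]
      rfl

end Cfsg.Agent.S2616
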