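import Cfsg.Statements.S2618
import Mathlib
import Cfsg.Agent.Lib.Helper19.QuadWitt

set_option autoImplicit false
open Cfsg

namespace Cfsg.Agent.S2618

open Cfsg.Agent.Lib.Helper19.QuadWitt

/-- Standard (parabolic) basis of a non-degenerate quadratic space of odd dimension 2m + 1 over a finite field (the non-degeneracy of the polar form forces the characteristic to be odd): there is a basis e_i, f_i (i < m), x with Q(e_i) = Q(f_i) = 0, B(e_i, f_j) = δ_ij (B the polar form), the e's pairwise orthogonal and the f's pairwise orthogonal, x orthogonal to all of them and Q(x) ≠ 0. -/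
theorem result {F V : Type*} [Field F] [Finite F] [AddCommGroup V] [Module F V] [FiniteDimensional F V] {m : ℕ} (hV : Module.finrank F V = 2 * m + 1) (Q : QuadraticForm F V) (hQ : (QuadraticMap.polarBilin Q).Nondegenerate) : ∃ b : Module.Basis (Unit ⊕ (Fin m ⊕ Fin m)) F V, Q (b (Sum.inl ())) ≠ 0 ∧ (∀ i, QuadraticMap.polar ⇑Q (b (Sum.inl ())) (b (Sum.inr (Sum.inl i))) = 0 ∧ QuadraticMap.polar ⇑Q (b (Sum.inl ())) (b (Sum.inr (Sum.inr i))) = 0) ∧ (∀ i, Q (b (Sum.inr (Sum.inl i))) = 0 ∧ Q (b (Sum.inr (Sum.inr i))) = 0) ∧ (∀ i j, QuadraticMap.polar ⇑Q (b (Sum.inr (Sum.inl i))) (b (Sum.inr (Sum.inr j))) = if i = j then 1 else 0) ∧ (∀ i j, QuadraticMap.polar ⇑Q (b (Sum.inr (Sum.inl i))) (b (Sum.inr (Sum.inl j))) = 0 ∧ QuadraticMap.polar ⇑Q (b (Sum.inr (Sum.inr i))) (b (Sum.inr (Sum.inr j))) = 0) := by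
  obtain ⟨e, f, x, h, hx, hQx⟩ := odd_structure (Q := Q) hQ hV
  have hx0 : x ≠ 0 := by
    rintro rfl
    exact hQx (QuadraticMap.map_zero Q)
  have hli := odd_linearIndependent h hx hx0
  let b := basisOfLinearIndependentOfCardEqFinrank hli (by rw [hV]; simp; ring)
  have hb : ⇑b = Sum.elim (fun _ : Unit => x) (Sum.elim e f) :=
    coe_basisOfLinearIndependentOfCardEqFinrank _ _
  refine ⟨b, ?_, ?_, ?_, ?_, ?_⟩
  · rw [hb]
    exact hQx
  · intro i
    rw [hb]
    refine ⟨?_, ?_⟩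
    · show QuadraticMap.polar ⇑Q x (e i) = 0
      rw [QuadraticMap.polar_comm]
      exact (hx i).1
    · show QuadraticMap.polar ⇑Q x (f i) = 0
      rw [QuadraticMap.polar_comm]
      exact (hx i).2
  · intro i
    rw [hb]
    exact ⟨h.Qe i, h.Qf i⟩
  · intro i j
    rw [hb]
    exact h.ef i j
  · intro i j
    rw [hb]
    exact ⟨h.ee i j, h.ff i j⟩

end Cfsg.Agent.S2618
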