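import Mathlib

set_option autoImplicit false

namespace Cfsg.Agent.S2619

/-- Over a finite field of characteristic two, given an alternating bilinear form B on a finite-dimensional space, a basis (v_i) and scalars (λ_i), there is exactly one quadratic form whose polar form is B and whose value at each v_i is λ_i. -/
theorem result {F V ι : Type*} [Field F] [Finite F] [CharP F 2] [AddCommGroup V] [Module F V] [Fintype ι] (b : Module.Basis ι F V) (B : LinearMap.BilinForm F V) (hB : B.IsAlt) (c : ι → F) : ∃! Q : QuadraticForm F V, QuadraticMap.polarBilin Q = B ∧ ∀ i, Q (b i) = c i := by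
  classical
  letI : LinearOrder ι := linearOrderOfSTO WellOrderingRel
  have h2 : (2 : F) = 0 := CharTwo.two_eq_zero (R := F)
  obtain ⟨M, hM⟩ : ∃ M : Matrix ι ι F, M = Matrix.of (fun i j : ι =>
      if i < j then B (b i) (b j) else if i = j then c i else 0) := ⟨_, rfl⟩
  have hD : ∀ i j, (Matrix.toBilin b M) (b i) (b j) = M i j := by
    intro i j
    rw [Matrix.toBilin_apply]
    simp [Finsupp.single_apply]
  refine ⟨(Matrix.toBilin b M).toQuadraticMap, ⟨?_, ?_⟩, ?_⟩
  · rw [LinearMap.BilinMap.polarBilin_toQuadraticMap]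
    apply LinearMap.BilinForm.ext_basis b
    intro i j
    rw [LinearMap.add_apply, LinearMap.add_apply, LinearMap.flip_apply, hD, hD, hM]
    simp only [Matrix.of_apply]
    rcases lt_trichotomy i j with hij | hij | hij
    · rw [if_pos hij, if_neg (not_lt.mpr hij.le), if_neg (ne_of_gt hij), add_zero]
    · subst hij
      rw [if_neg (lt_irrefl _), if_pos rfl, hB.self_eq_zero]
      rw [← two_mul, h2, zero_mul]
    · rw [if_neg (not_lt.mpr hij.le), if_neg (ne_of_gt hij), if_pos hij, zero_add]
      have := hB.neg_eq (b j) (b i)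
      rw [← this]
      exact (CharTwo.neg_eq (R := F) _).symm
  · intro i
    rw [LinearMap.BilinMap.toQuadraticMap_apply, hD, hM]
    simp
  · rintro Q ⟨hQ1, hQ2⟩
    have hpol : ∀ (Q' : QuadraticForm F V), QuadraticMap.polarBilin Q' = B →
        ∀ x y, QuadraticMap.polar Q' x y = B x y := by
      intro Q' h x y
      rw [← h, QuadraticMap.polarBilin_apply_apply]
    obtain ⟨Q₀, hQ₀⟩ : ∃ Q₀ : QuadraticForm F V, Q₀ = (Matrix.toBilin b M).toQuadraticMap := ⟨_, rfl⟩
    have hQ₀1 : QuadraticMap.polarBilin Q₀ = B := by
      rw [hQ₀, LinearMap.BilinMap.polarBilin_toQuadraticMap]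
      apply LinearMap.BilinForm.ext_basis b
      intro i j
      rw [LinearMap.add_apply, LinearMap.add_apply, LinearMap.flip_apply, hD, hD, hM]
      simp only [Matrix.of_apply]
      rcases lt_trichotomy i j with hij | hij | hij
      · rw [if_pos hij, if_neg (not_lt.mpr hij.le), if_neg (ne_of_gt hij), add_zero]
      · subst hij
        rw [if_neg (lt_irrefl _), if_pos rfl, hB.self_eq_zero]
        rw [← two_mul, h2, zero_mul]
      · rw [if_neg (not_lt.mpr hij.le), if_neg (ne_of_gt hij), if_pos hij, zero_add]
        have := hB.neg_eq (b j) (b i)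
        rw [← this]
        exact (CharTwo.neg_eq (R := F) _).symm
    have hQ₀2 : ∀ i, Q₀ (b i) = c i := by
      intro i
      rw [hQ₀, LinearMap.BilinMap.toQuadraticMap_apply, hD, hM]
      simp
    rw [← hQ₀]
    have key : ∀ (s : Finset ι) (f : ι → F),
        Q (∑ i ∈ s, f i • b i) = Q₀ (∑ i ∈ s, f i • b i) := by
      intro s f
      induction s using Finset.induction_on with
      | empty => simp
      | insert a s ha ih =>
        rw [Finset.sum_insert ha, QuadraticMap.map_add (⇑Q), QuadraticMap.map_add (⇑Q₀), ih,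
          hpol Q hQ1, hpol Q₀ hQ₀1, QuadraticMap.map_smul, QuadraticMap.map_smul, hQ2, hQ₀2]
    apply QuadraticMap.ext
    intro x
    have hx : x = ∑ i, (b.repr x i) • b i := (b.sum_repr x).symm
    rw [hx]
    exact key Finset.univ _

end Cfsg.Agent.S2619
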