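import Cfsg.Statements.S2620
import Mathlib
import Cfsg.Agent.Lib.Helper19.QuadDisc

set_option autoImplicit false
open Cfsg

namespace Cfsg.Agent.S2620

open Cfsg.Agent.Lib.Helper19.QuadWitt QuadraticMap

section aux

variable {F : Type*} [Field F] [Fintype F] {q : ℕ}

lemma isSquare_neg_one_pow_iff (hF : Fintype.card F = q) (hq : Odd q) (m : ℕ) :
    IsSquare ((-1 : F) ^ m) ↔ Even (m * (q - 1) / 2) := by
  obtain ⟨h, hh⟩ := hq
  have hdiv : m * (q - 1) / 2 = m * h := by
    rw [hh]
    have : 2 * h + 1 - 1 = 2 * h := by omega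
    rw [this, ← mul_assoc, mul_comm m 2, mul_assoc, Nat.mul_div_cancel_left _ (by norm_num)]
  rw [hdiv, Nat.even_mul]
  have hneg : IsSquare (-1 : F) ↔ Even h := by
    rw [FiniteField.isSquare_neg_one_iff, hF, hh]
    constructor
    · intro h3
      rw [Nat.even_iff]
      omega
    · intro he
      rw [Nat.even_iff] at he
      omega
  rcases Nat.even_or_odd m with hm | hm
  · rw [hm.neg_one_pow]
    exact ⟨fun _ => Or.inl hm, fun _ => ⟨1, by ring⟩⟩
  · rw [hm.neg_one_pow, hneg]
    constructor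
    · exact fun h => Or.inr h
    · rintro (h | h)
      · exact absurd h (Nat.not_even_iff_odd.2 hm)
      · exact h

lemma isSquare_sq_mul_iff {u a : F} (hu : u ≠ 0) : IsSquare (u ^ 2 * a) ↔ IsSquare a := by
  constructor
  · rintro ⟨r, hr⟩
    refine ⟨r / u, ?_⟩
    field_simp
    linear_combination hr
  · rintro ⟨r, hr⟩
    refine ⟨u * r, ?_⟩
    rw [hr]
    ring

end aux

section form

variable {F : Type*} [Field F]

/-- The hyperbolic form as a quadratic form. -/
noncomputable def Qplus (m : ℕ) (F : Type*) [Field F] : QuadraticForm F (Fin m ⊕ Fin m → F) :=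
  (Matrix.toBilin' (Matrix.fromBlocks 0 (1 : Matrix (Fin m) (Fin m) F) 0 0)).toQuadraticMap

lemma Qplus_apply (m : ℕ) (v : Fin m ⊕ Fin m → F) : Qplus m F v = Cfsg.quadFormPlus m F v := by
  unfold Qplus Cfsg.quadFormPlus
  rw [LinearMap.BilinMap.toQuadraticMap_apply, Matrix.toBilin'_apply']
  simp [dotProduct, Matrix.mulVec, Fintype.sum_sum_type, Matrix.one_apply]

lemma coe_Qplus (m : ℕ) : ⇑(Qplus m F) = Cfsg.quadFormPlus m F := funext (Qplus_apply m)

lemma gram_Qplus (m : ℕ) :
    gram (Qplus m F) (Pi.basisFun F (Fin m ⊕ Fin m)) = Jp m F := by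
  classical
  ext s s'
  rw [gram_apply, coe_Qplus]
  unfold polar Cfsg.quadFormPlus Jp
  rcases s with i | i <;> rcases s' with j | j <;>
    simp [Pi.basisFun_apply, Pi.single_apply, Matrix.one_apply, mul_add]
  simp only [eq_comm]

end form

/-- Discriminant of the hyperbolic quadratic form Σ_(i<m) x_i y_i over a field with q elements, q odd, m ≥ 1: the determinant of the Gram matrix of its polar form in any basis is a square if and only if m(q − 1)/2 is even (equivalently q^m ≡ 1 (mod 4)). -/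
theorem result {F : Type*} [Field F] [Fintype F] {q : ℕ} (hF : Fintype.card F = q) (hq : Odd q) {m : ℕ} (hm : 1 ≤ m) {ι : Type*} [Fintype ι] [DecidableEq ι] (b : Module.Basis ι F (Fin m ⊕ Fin m → F)) : IsSquare (Matrix.of (fun i j : ι => QuadraticMap.polar (Cfsg.quadFormPlus m F) (b i) (b j))).det ↔ Even (m * (q - 1) / 2) := by
  classical
  have h1 : Matrix.of (fun i j : ι => QuadraticMap.polar (Cfsg.quadFormPlus m F) (b i) (b j)) =
      gram (Qplus m F) b := by
    ext i j
    rw [gram_apply, coe_Qplus]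
    rfl
  obtain ⟨u, hu, hdet⟩ := gram_det_change (Qplus m F) b (Pi.basisFun F (Fin m ⊕ Fin m))
  rw [h1, hdet, gram_Qplus, det_Jp, isSquare_sq_mul_iff hu]
  exact isSquare_neg_one_pow_iff hF hq m

end Cfsg.Agent.S2620
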