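import Cfsg.Statements.S2621
import Mathlib
import Cfsg.Agent.Lib.Helper19.QuadDisc
import Cfsg.Agent.S2620
import Cfsg.Agent.S2623

set_option autoImplicit false
open Cfsg

namespace Cfsg.Agent.S2621

open Cfsg.Agent.Lib.Helper19.QuadWitt QuadraticMap
open Cfsg.Agent.S2620 (isSquare_neg_one_pow_iff isSquare_sq_mul_iff)

section form

variable {F : Type*} [Field F]

/-- The elliptic form as a quadratic form. -/
noncomputable def Qminus (n : ℕ) (F : Type*) [Field F] (a c : F) :
    QuadraticForm F ((Fin n ⊕ Fin n) ⊕ Fin 2 → F) :=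
  (Matrix.toBilin' (Matrix.fromBlocks
    (Matrix.fromBlocks 0 (1 : Matrix (Fin n) (Fin n) F) 0 0) 0 0 !![1, a; 0, c])).toQuadraticMap

lemma Qminus_apply (n : ℕ) (a c : F) (v : (Fin n ⊕ Fin n) ⊕ Fin 2 → F) :
    Qminus n F a c v = Cfsg.quadFormMinus n F a c v := by
  unfold Qminus Cfsg.quadFormMinus
  rw [LinearMap.BilinMap.toQuadraticMap_apply, Matrix.toBilin'_apply']
  simp [dotProduct, Matrix.mulVec, Fintype.sum_sum_type, Matrix.one_apply]
  ring

lemma coe_Qminus (n : ℕ) (a c : F) : ⇑(Qminus n F a c) = Cfsg.quadFormMinus n F a c :=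
  funext (Qminus_apply n a c)

lemma gram_Qminus (n : ℕ) (a c : F) :
    gram (Qminus n F a c) (Pi.basisFun F ((Fin n ⊕ Fin n) ⊕ Fin 2)) =
      Matrix.fromBlocks (Jp n F) 0 0 !![2, a; a, 2 * c] := by
  classical
  ext s s'
  rw [gram_apply, coe_Qminus]
  unfold polar Cfsg.quadFormMinus Jp
  rcases s with (i | i) | i <;> rcases s' with (j | j) | j
  · simp [Pi.basisFun_apply, Pi.single_apply, mul_add]
  · simp [Pi.basisFun_apply, Pi.single_apply, Matrix.one_apply, mul_add]
    simp only [eq_comm]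
  · simp [Pi.basisFun_apply, Pi.single_apply]
  · simp [Pi.basisFun_apply, Pi.single_apply, Matrix.one_apply, mul_add]
  · simp [Pi.basisFun_apply, Pi.single_apply, mul_add]
  · simp [Pi.basisFun_apply, Pi.single_apply]
  · simp [Pi.basisFun_apply, Pi.single_apply]
  · simp [Pi.basisFun_apply, Pi.single_apply]
  · fin_cases i <;> fin_cases j <;>
      simp [Pi.basisFun_apply, Pi.single_apply] <;> ring

end form

/-- Discriminant of an elliptic quadratic form Σ_(i<m−1) x_i y_i + z₁² + a z₁z₂ + c z₂² (binary part anisotropic) in dimension 2m over a field with q elements, q odd, m ≥ 1: the determinant of the Gram matrix of its polar form in any basis is a square if and only if m(q − 1)/2 is odd (equivalently q^m ≡ 3 (mod 4)). -/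
theorem result {F : Type*} [Field F] [Fintype F] {q : ℕ} (hF : Fintype.card F = q) (hq : Odd q) {m : ℕ} (hm : 1 ≤ m) (a c : F) (hac : ∀ z₁ z₂ : F, z₁ ^ 2 + a * z₁ * z₂ + c * z₂ ^ 2 = 0 → z₁ = 0 ∧ z₂ = 0) {ι : Type*} [Fintype ι] [DecidableEq ι] (b : Module.Basis ι F ((Fin (m - 1) ⊕ Fin (m - 1)) ⊕ Fin 2 → F)) : IsSquare (Matrix.of (fun i j : ι => QuadraticMap.polar (Cfsg.quadFormMinus (m - 1) F a c) (b i) (b j))).det ↔ ¬ Even (m * (q - 1) / 2) := by
  classical
  have h2 : (2 : F) ≠ 0 := by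
    intro h
    have hchar : ringChar F = 2 := by
      apply (CharP.ringChar_of_prime_eq_zero Nat.prime_two _)
      exact_mod_cast h
    have := FiniteField.even_card_of_char_two hchar
    rw [hF] at this
    exact (Nat.not_even_iff_odd.2 hq) (Nat.even_iff.2 this)
  have hns : ¬ IsSquare (a ^ 2 - 4 * c) := by
    rintro ⟨r, hr⟩
    have := (hac ((-a + r) / 2) 1 (by
      field_simp
      linear_combination (-1 : F) * hr)).2
    exact one_ne_zero this
  have h1 : Matrix.of (fun i j : ι => QuadraticMap.polar (Cfsg.quadFormMinus (m - 1) F a c)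
      (b i) (b j)) = gram (Qminus (m - 1) F a c) b := by
    ext i j
    rw [gram_apply, coe_Qminus]
    rfl
  obtain ⟨u, hu, hdet⟩ := gram_det_change (Qminus (m - 1) F a c) b
    (Pi.basisFun F ((Fin (m - 1) ⊕ Fin (m - 1)) ⊕ Fin 2))
  rw [h1, hdet, gram_Qminus, Matrix.det_fromBlocks_zero₂₁, det_Jp, Matrix.det_fin_two_of,
    isSquare_sq_mul_iff hu, ← isSquare_neg_one_pow_iff hF hq m]
  have hm' : m = (m - 1) + 1 := by omega
  have e : (-1 : F) ^ (m - 1) * (2 * (2 * c) - a * a) = (-1) ^ m * (a ^ 2 - 4 * c) := by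
    conv_rhs => rw [hm', pow_succ]
    ring
  rw [e]
  constructor
  · rintro hsq ⟨s, hs⟩
    have hs0 : s ≠ 0 := by
      rintro rfl
      rw [mul_zero] at hs
      exact pow_ne_zero _ (neg_ne_zero.2 one_ne_zero) hs
    apply hns
    rw [hs, ← pow_two] at hsq
    exact (isSquare_sq_mul_iff hs0).1 hsq
  · intro hnot
    exact Cfsg.Agent.S2623.isSquare_mul_of_not hnot hns

end Cfsg.Agent.S2621
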