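import Mathlib
import Cfsg.Statements.S2622

set_option autoImplicit false
set_option linter.unusedVariables false

namespace Cfsg.Agent.S2622

open LinearMap.BilinForm Module

universe u v

section

variable {F : Type u} [Field F] [Finite F] [CharP F 2]

theorem exists_sqrt (a : F) : ∃ s : F, a = s * s := by
  have h2 : ringChar F = 2 := ringChar.eq F 2
  exact FiniteField.isSquare_of_char_two h2 a

theorem restrict_apply' {V : Type v} [AddCommGroup V] [Module F V] (B : LinearMap.BilinForm F V)
    (W : Submodule F V) (x y : W) : B.restrict W x y = B (x : V) (y : V) := rfl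

theorem two_zero : (1 : F) + 1 = 0 := by
  have := CharTwo.two_eq_zero (R := F)
  rw [← one_add_one_eq_two] at this
  exact this

/-- choice of a good unit vector -/
theorem exists_good {V : Type v} [AddCommGroup V] [Module F V] [FiniteDimensional F V] {n : ℕ}
    (hV : finrank F V = n + 1) (B : LinearMap.BilinForm F V) (hS : B.IsSymm) (hB : B.Nondegenerate)
    (hna : ∃ v : V, B v v ≠ 0) :
    ∃ v : V, B v v = 1 ∧ (n = 0 ∨ ∃ w ∈ B.orthogonal (F ∙ v), B w w ≠ 0) := by
  obtain ⟨v₀, hv₀⟩ := hna
  obtain ⟨s, hs⟩ := exists_sqrt (B v₀ v₀)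
  have hs0 : s ≠ 0 := by
    intro h
    rw [h, mul_zero] at hs
    exact hv₀ hs
  obtain ⟨v, hvdef⟩ : ∃ v, v = s⁻¹ • v₀ := ⟨_, rfl⟩
  have hv1 : B v v = 1 := by
    rw [hvdef]
    simp only [map_smul, LinearMap.smul_apply, smul_eq_mul]
    rw [hs]
    field_simp
  have hv1' : B v v ≠ 0 := by rw [hv1]; exact one_ne_zero
  by_cases h : ∃ w ∈ B.orthogonal (F ∙ v), B w w ≠ 0
  · exact ⟨v, hv1, Or.inr h⟩
  push Not at h
  by_cases hn : n = 0
  · exact ⟨v, hv1, Or.inl hn⟩
  -- the orthogonal complement is alternating and nonzero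
  have hcompl := LinearMap.BilinForm.isCompl_span_singleton_orthogonal hv1'
  have hv0 : v ≠ 0 := by
    intro h0
    rw [h0] at hv1'
    simp at hv1'
  have hrank : finrank F (B.orthogonal (F ∙ v)) = n := by
    have h1 := Submodule.finrank_add_eq_of_isCompl hcompl
    rw [finrank_span_singleton hv0, hV] at h1
    omega
  have hnd := restrict_nondegenerate_orthogonal_spanSingleton B hB hS.isRefl hv1'
  have hpos : 0 < finrank F (B.orthogonal (F ∙ v)) := by rw [hrank]; omega
  obtain ⟨e, he0⟩ := (finrank_pos_iff_exists_ne_zero).mp hpos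
  obtain ⟨f, hf⟩ : ∃ f : B.orthogonal (F ∙ v), (B.restrict (B.orthogonal (F ∙ v))) e f ≠ 0 := by
    by_contra hcon
    push Not at hcon
    exact he0 (hnd.1 e hcon)
  rw [restrict_apply'] at hf
  obtain ⟨c, hcdef⟩ : ∃ c, c = B (e : V) (f : V) := ⟨_, rfl⟩
  rw [← hcdef] at hf
  -- rescale f
  obtain ⟨f', hf'def⟩ : ∃ f' : V, f' = c⁻¹ • (f : V) := ⟨_, rfl⟩
  have hf'W : f' ∈ B.orthogonal (F ∙ v) := by
    rw [hf'def]; exact Submodule.smul_mem _ _ f.2
  have hef' : B (e : V) f' = 1 := by
    rw [hf'def, map_smul, smul_eq_mul, ← hcdef]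
    field_simp
  have hve : B v (e : V) = 0 := by
    have := (mem_orthogonal_iff.mp e.2) v (Submodule.mem_span_singleton_self v)
    exact this
  have hvf' : B v f' = 0 := (mem_orthogonal_iff.mp hf'W) v (Submodule.mem_span_singleton_self v)
  have hev : B (e : V) v = 0 := by rw [hS.eq]; exact hve
  have hf'v : B f' v = 0 := by rw [hS.eq]; exact hvf'
  have hee : B (e : V) (e : V) = 0 := h e e.2
  have hf'f' : B f' f' = 0 := h f' hf'W
  have hf'e : B f' (e : V) = 1 := by rw [hS.eq]; exact hef'
  refine ⟨v + (e : V), ?_, Or.inr ⟨v + f', ?_, ?_⟩⟩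
  · simp only [map_add, LinearMap.add_apply, hv1, hve, hev, hee]
    ring
  · rw [mem_orthogonal_iff]
    intro x hx
    obtain ⟨t, rfl⟩ := Submodule.mem_span_singleton.mp hx
    simp only [map_smul, map_add, LinearMap.smul_apply, LinearMap.add_apply, hv1, hvf', hev, hef',
      smul_eq_mul]
    have h2 := two_zero (F := F)
    linear_combination t * h2
  · simp only [map_add, LinearMap.add_apply, hv1, hvf', hf'v, hf'f']
    simp

/-- orthonormal family by induction on the dimension -/
theorem exists_family (n : ℕ) : ∀ (V : Type v) [AddCommGroup V] [Module F V]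
    [FiniteDimensional F V], finrank F V = n → ∀ B : LinearMap.BilinForm F V, B.IsSymm → B.Nondegenerate →
    (∃ v : V, B v v ≠ 0) → ∃ v : Fin n → V, ∀ i j, B (v i) (v j) = if i = j then 1 else 0 := by
  induction n with
  | zero =>
    intro V _ _ _ hV B hS hB hna
    exfalso
    obtain ⟨v, hv⟩ := hna
    have : v = 0 := by
      have := finrank_zero_iff_forall_zero.mp hV
      exact this v
    rw [this] at hv
    simp at hv
  | succ n ih =>
    intro V _ _ _ hV B hS hB hna
    obtain ⟨v, hv1, hcase⟩ := exists_good hV B hS hB hna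
    have hv1' : B v v ≠ 0 := by rw [hv1]; exact one_ne_zero
    rcases hcase with hn | ⟨w, hwW, hww⟩
    · subst hn
      refine ⟨fun _ => v, ?_⟩
      intro i j
      have : i = j := Fin.ext (by have := i.2; have := j.2; omega)
      rw [if_pos this]; exact hv1
    · have hcompl := LinearMap.BilinForm.isCompl_span_singleton_orthogonal hv1'
      have hv0 : v ≠ 0 := by
        intro h0
        rw [h0] at hv1'
        simp at hv1'
      have hrank : finrank F (B.orthogonal (F ∙ v)) = n := by
        have h1 := Submodule.finrank_add_eq_of_isCompl hcompl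
        rw [finrank_span_singleton hv0, hV] at h1
        omega
      have hnd := restrict_nondegenerate_orthogonal_spanSingleton B hB hS.isRefl hv1'
      obtain ⟨w', hw'⟩ := ih (B.orthogonal (F ∙ v)) hrank (B.restrict _) (hS.restrict _) hnd
        ⟨⟨w, hwW⟩, by rw [restrict_apply']; exact hww⟩
      refine ⟨Fin.cons v (fun i => ((w' i : B.orthogonal (F ∙ v)) : V)), ?_⟩
      have hvw : ∀ i, B v (w' i : V) = 0 := fun i =>
        (mem_orthogonal_iff.mp (w' i).2) v (Submodule.mem_span_singleton_self v)
      intro i j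
      refine Fin.cases ?_ (fun i' => ?_) i <;> refine Fin.cases ?_ (fun j' => ?_) j
      · simp [hv1]
      · simp only [Fin.cons_zero, Fin.cons_succ]
        rw [hvw j', if_neg (Fin.succ_ne_zero j').symm]
      · simp only [Fin.cons_zero, Fin.cons_succ]
        rw [hS.eq, hvw i', if_neg (Fin.succ_ne_zero i')]
      · simp only [Fin.cons_succ]
        have := hw' i' j'
        rw [restrict_apply'] at this
        rw [this]
        simp only [Fin.succ_inj]

end

/-- Over a finite field of characteristic two, a non-degenerate symmetric bilinear form that is not alternating (some vector v has B(v, v) ≠ 0) admits an orthonormal basis. -/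
theorem result {F V : Type*} [Field F] [Finite F] [CharP F 2] [AddCommGroup V] [Module F V] [FiniteDimensional F V] {n : ℕ} (hV : Module.finrank F V = n) (B : LinearMap.BilinForm F V) (hS : B.IsSymm) (hB : B.Nondegenerate) (hna : ∃ v : V, B v v ≠ 0) : ∃ b : Module.Basis (Fin n) F V, ∀ i j, B (b i) (b j) = if i = j then 1 else 0 := by
  obtain ⟨v, hv⟩ := exists_family n V hV B hS hB hna
  cases n with
  | zero =>
    exfalso
    obtain ⟨v, hv⟩ := hna
    have : v = 0 := (finrank_zero_iff_forall_zero.mp hV) v
    rw [this] at hv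
    simp at hv
  | succ n =>
  have hli : LinearIndependent F v := by
    apply linearIndependent_of_iIsOrtho
    · rw [iIsOrtho_def]
      intro i j hij
      rw [hv i j, if_neg hij]
    · intro i
      rw [hv i i, if_pos rfl]
      exact one_ne_zero
  have hcard : Fintype.card (Fin (n + 1)) = finrank F V := by rw [Fintype.card_fin, hV]
  refine ⟨basisOfLinearIndependentOfCardEqFinrank hli hcard, ?_⟩
  intro i j
  rw [coe_basisOfLinearIndependentOfCardEqFinrank]
  exact hv i j

end Cfsg.Agent.S2622
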