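import Cfsg.Statements.S2624
import Mathlib
import Cfsg.Agent.Lib.Helper19.QuadWitt2

set_option autoImplicit false
open Cfsg

namespace Cfsg.Agent.S2624

open Cfsg.Agent.Lib.Helper19.QuadWitt

/-- For a quadratic form Q on F^n with non-degenerate polar form, F finite and n ≥ 2 even, every non-zero scalar c is the multiplier of some similarity: there is an invertible linear map g with Q(g v) = c·Q(v) for all v. -/
theorem result {F : Type*} [Field F] [Fintype F] {n : ℕ} (hn : 2 ≤ n) (he : Even n) (Q : QuadraticForm F (Fin n → F)) (hQ : (QuadraticMap.polarBilin Q).Nondegenerate) (c : F) (hc : c ≠ 0) : ∃ g : (Fin n → F) ≃ₗ[F] (Fin n → F), ∀ v, Q (g v) = c * Q v := by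
  classical
  obtain ⟨m, hm⟩ := he
  have hV : Module.finrank F (Fin n → F) = 2 * m := by
    rw [Module.finrank_fin_fun]
    omega
  rcases even_structure (Q := Q) hQ hV with ⟨e, f, h⟩ | ⟨k, hk, e, f, x, y, h, hx, hy, hQx, hxy, hζ⟩
  · have hli := h.linearIndependent
    haveI : Nonempty (Fin m ⊕ Fin m) := ⟨Sum.inl ⟨0, by omega⟩⟩
    let b := basisOfLinearIndependentOfCardEqFinrank hli (by rw [hV]; simp; ring)
    have hb : ⇑b = Sum.elim e f := coe_basisOfLinearIndependentOfCardEqFinrank _ _
    let t : Fin m ⊕ Fin m → (Fin n → F) := Sum.elim (fun i => c • e i) f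
    let g := b.constr F t
    have hg : ∀ v, Q (g v) = c * Q v := by
      intro v
      have hv : v = ∑ i, b.repr v (Sum.inl i) • e i + ∑ i, b.repr v (Sum.inr i) • f i + 0 := by
        conv_lhs => rw [← b.sum_repr v]
        rw [Fintype.sum_sum_type, hb]
        simp
      have hgv : g v = ∑ i, (b.repr v (Sum.inl i) * c) • e i +
          ∑ i, b.repr v (Sum.inr i) • f i + 0 := by
        show b.constr F t v = _
        rw [Module.Basis.constr_apply_fintype, Fintype.sum_sum_type]
        simp [t, smul_smul, Module.Basis.equivFun_apply]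
      rw [hgv, hyp_Q h _ _ (Submodule.zero_mem _)]
      conv_rhs => rw [hv, hyp_Q h _ _ (Submodule.zero_mem _)]
      rw [QuadraticMap.map_zero, add_zero, add_zero, Finset.mul_sum]
      exact Finset.sum_congr rfl (fun i _ => by ring)
    exact ⟨similarityEquiv hQ g hc hg rfl, fun v => hg v⟩
  · -- the elliptic case
    have hli := elliptic_linearIndependent h hx hy hQx hxy hζ
    let b := basisOfLinearIndependentOfCardEqFinrank hli (by rw [hV]; simp; omega)
    have hb : ⇑b = Sum.elim (Sum.elim e f) ![x, y] :=
      coe_basisOfLinearIndependentOfCardEqFinrank _ _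
    set ζ := Q y with hζdef
    -- represent `c`
    obtain ⟨α, β, hαβ⟩ : ∃ α β : F, α ^ 2 + α * β + ζ * β ^ 2 = c := by
      obtain ⟨α, β, γ, hne, hzero⟩ := ternary_zero (1 : F) ζ (-c) 1 0 0
      have hγ : γ ≠ 0 := by
        intro hγ0
        rw [hγ0] at hzero
        have hβ : β = 0 := by
          by_contra hβ0
          apply hζ (α / β)
          field_simp
          linear_combination hzero
        rw [hβ] at hzero
        have hα : α = 0 := by
          have : α ^ 2 = 0 := by linear_combination hzero
          exact pow_eq_zero_iff (by norm_num) |>.1 this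
        exact hne ⟨hα, hβ, hγ0⟩
      refine ⟨α / γ, β / γ, ?_⟩
      field_simp
      linear_combination hzero
    have hQxy : ∀ X Y : F, Q (X • x + Y • y) = X ^ 2 + X * Y + ζ * Y ^ 2 := by
      intro X Y
      rw [Q_lin2, hQx, hxy]
      ring
    have hmemxy : ∀ X Y : F, X • x + Y • y ∈ perp Q e f := fun X Y =>
      Submodule.add_mem _ (Submodule.smul_mem _ _ hx) (Submodule.smul_mem _ _ hy)
    let t : (Fin k ⊕ Fin k) ⊕ Fin 2 → (Fin n → F) :=
      Sum.elim (Sum.elim (fun i => c • e i) f) ![α • x + β • y, (-(β * ζ)) • x + (α + β) • y]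
    let g := b.constr F t
    have hg : ∀ v, Q (g v) = c * Q v := by
      intro v
      have hv : v = ∑ i, b.repr v (Sum.inl (Sum.inl i)) • e i +
          ∑ i, b.repr v (Sum.inl (Sum.inr i)) • f i +
          (b.repr v (Sum.inr 0) • x + b.repr v (Sum.inr 1) • y) := by
        conv_lhs => rw [← b.sum_repr v]
        rw [Fintype.sum_sum_type, Fintype.sum_sum_type, Fin.sum_univ_two, hb]
        simp
      have hgv : g v = ∑ i, (b.repr v (Sum.inl (Sum.inl i)) * c) • e i +
          ∑ i, b.repr v (Sum.inl (Sum.inr i)) • f i +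
          ((b.repr v (Sum.inr 0) * α - b.repr v (Sum.inr 1) * (β * ζ)) • x +
            (b.repr v (Sum.inr 0) * β + b.repr v (Sum.inr 1) * (α + β)) • y) := by
        show b.constr F t v = _
        rw [Module.Basis.constr_apply_fintype, Fintype.sum_sum_type, Fintype.sum_sum_type,
          Fin.sum_univ_two]
        simp only [t, Sum.elim_inl, Sum.elim_inr, Module.Basis.equivFun_apply,
          Matrix.cons_val_zero, Matrix.cons_val_one, smul_smul]
        congr 1
        module
      rw [hgv, hyp_Q h _ _ (hmemxy _ _), hQxy]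
      conv_rhs => rw [hv, hyp_Q h _ _ (hmemxy _ _), hQxy]
      have hS : ∑ i, b.repr v (Sum.inl (Sum.inl i)) * c * b.repr v (Sum.inl (Sum.inr i)) =
          c * ∑ i, b.repr v (Sum.inl (Sum.inl i)) * b.repr v (Sum.inl (Sum.inr i)) := by
        rw [Finset.mul_sum]
        exact Finset.sum_congr rfl (fun i _ => by ring)
      rw [hS, ← hαβ]
      ring
    exact ⟨similarityEquiv hQ g hc hg rfl, fun v => hg v⟩

end Cfsg.Agent.S2624
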