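import Cfsg.Statements.S2626
import Mathlib
-- import your own Cfsg.Agent.* helpers here

set_option autoImplicit false
open Cfsg

namespace Cfsg.Agent.S2626

/-- block-diagonal embedding at the level of matrices -/
def blockHom (F : Type*) [Field F] (k l : ℕ) :
    Matrix (Fin k) (Fin k) F × Matrix (Fin l) (Fin l) F →* Matrix (Fin k ⊕ Fin l) (Fin k ⊕ Fin l) F where
  toFun p := Matrix.fromBlocks p.1 0 0 p.2
  map_one' := by simp [Matrix.fromBlocks_one]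
  map_mul' p q := by simp [Matrix.fromBlocks_multiply]

/-- block-diagonal embedding of general linear groups -/
def blockGL (F : Type*) [Field F] (k l : ℕ) :
    GL (Fin k) F × GL (Fin l) F →* GL (Fin k ⊕ Fin l) F :=
  (Units.map (blockHom F k l)).comp (MulEquiv.prodUnits.symm.toMonoidHom)

theorem blockGL_coe (F : Type*) [Field F] (k l : ℕ) (a : GL (Fin k) F) (b : GL (Fin l) F) :
    ((blockGL F k l (a, b) : GL (Fin k ⊕ Fin l) F) : Matrix (Fin k ⊕ Fin l) (Fin k ⊕ Fin l) F) =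
      Matrix.fromBlocks (a : Matrix (Fin k) (Fin k) F) 0 0 (b : Matrix (Fin l) (Fin l) F) := rfl

/-- Ω of an orthogonal direct sum contains the product of the Ω's: for quadratic forms Q₁ on F^k and Q₂ on F^l with non-degenerate polar forms (F finite) and Q = Q₁ ⊕ Q₂ on F^(k+l), if g₁ lies in Ω(Q₁) and g₂ in Ω(Q₂) (commutator subgroups of the orthogonal groups) then the block-diagonal isometry diag(g₁, g₂) lies in Ω(Q). -/
theorem result {F : Type*} [Field F] [Fintype F] {k l : ℕ} (Q₁ : QuadraticForm F (Fin k → F)) (Q₂ : QuadraticForm F (Fin l → F)) (h₁ : (QuadraticMap.polarBilin Q₁).Nondegenerate) (h₂ : (QuadraticMap.polarBilin Q₂).Nondegenerate) (g₁ : ↥(Cfsg.isometryGroup F ⇑Q₁)) (g₂ : ↥(Cfsg.isometryGroup F ⇑Q₂)) (hg₁ : g₁ ∈ Cfsg.Omega F ⇑Q₁) (hg₂ : g₂ ∈ Cfsg.Omega F ⇑Q₂) : ∃ g : ↥(Cfsg.isometryGroup F (fun v : Fin k ⊕ Fin l → F => Q₁ (v ∘ Sum.inl) + Q₂ (v ∘ Sum.inr))), g ∈ Cfsg.Omega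 F (fun v : Fin k ⊕ Fin l → F => Q₁ (v ∘ Sum.inl) + Q₂ (v ∘ Sum.inr)) ∧ ((g : Matrix.GeneralLinearGroup (Fin k ⊕ Fin l) F) : Matrix (Fin k ⊕ Fin l) (Fin k ⊕ Fin l) F) = Matrix.fromBlocks ((g₁ : Matrix.GeneralLinearGroup (Fin k) F) : Matrix (Fin k) (Fin k) F) 0 0 ((g₂ : Matrix.GeneralLinearGroup (Fin l) F) : Matrix (Fin l) (Fin l) F) := by
  classical
  set Q : (Fin k ⊕ Fin l → F) → F := fun v => Q₁ (v ∘ Sum.inl) + Q₂ (v ∘ Sum.inr) with hQ
  -- the hom O(Q₁) × O(Q₂) → GL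
  let ψ : ↥(Cfsg.isometryGroup F ⇑Q₁) × ↥(Cfsg.isometryGroup F ⇑Q₂) →* GL (Fin k ⊕ Fin l) F :=
    (blockGL F k l).comp (MonoidHom.prodMap (Subgroup.subtype _) (Subgroup.subtype _))
  have hψ : ∀ p, ψ p ∈ Cfsg.isometryGroup F Q := by
    rintro ⟨a, b⟩
    intro u v
    have ha := a.2 (u ∘ Sum.inl) (u ∘ Sum.inl)
    have hb := b.2 (u ∘ Sum.inr) (u ∘ Sum.inr)
    simp only [Units.coeHom_apply] at ha hb ⊢
    show Q (((blockGL F k l (a.1, b.1) : GL (Fin k ⊕ Fin l) F) : Matrix (Fin k ⊕ Fin l) (Fin k ⊕ Fin l) F).mulVec u) = Q u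
    rw [blockGL_coe, Matrix.fromBlocks_mulVec]
    simp only [hQ, Matrix.zero_mulVec, add_zero, zero_add]
    have e1 : (Sum.elim ((a.1 : Matrix (Fin k) (Fin k) F).mulVec (u ∘ Sum.inl))
        ((b.1 : Matrix (Fin l) (Fin l) F).mulVec (u ∘ Sum.inr))) ∘ Sum.inl =
        (a.1 : Matrix (Fin k) (Fin k) F).mulVec (u ∘ Sum.inl) := by
      ext i; simp
    have e2 : (Sum.elim ((a.1 : Matrix (Fin k) (Fin k) F).mulVec (u ∘ Sum.inl))
        ((b.1 : Matrix (Fin l) (Fin l) F).mulVec (u ∘ Sum.inr))) ∘ Sum.inr =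
        (b.1 : Matrix (Fin l) (Fin l) F).mulVec (u ∘ Sum.inr) := by
      ext i; simp
    rw [e1, e2, ha, hb]
  let φ : ↥(Cfsg.isometryGroup F ⇑Q₁) × ↥(Cfsg.isometryGroup F ⇑Q₂) →* ↥(Cfsg.isometryGroup F Q) :=
    ψ.codRestrict _ hψ
  refine ⟨φ (g₁, g₂), ?_, rfl⟩
  have hmem : (g₁, g₂) ∈ commutator (↥(Cfsg.isometryGroup F ⇑Q₁) × ↥(Cfsg.isometryGroup F ⇑Q₂)) := by
    rw [commutator_def, ← Subgroup.top_prod_top, Subgroup.commutator_prod_prod]
    exact ⟨hg₁, hg₂⟩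
  have hle : (commutator (↥(Cfsg.isometryGroup F ⇑Q₁) × ↥(Cfsg.isometryGroup F ⇑Q₂))).map φ ≤
      commutator ↥(Cfsg.isometryGroup F Q) := by
    rw [commutator_def, Subgroup.map_commutator, commutator_def]
    exact Subgroup.commutator_mono le_top le_top
  exact hle (Subgroup.mem_map_of_mem φ hmem)

end Cfsg.Agent.S2626
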