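import Cfsg.Statements.S2627
import Mathlib
import Cfsg.Agent.Lib.Helper19.OrthOmega2
import Cfsg.Agent.Lib.Helper19.OrthSpinor
import Cfsg.Agent.Lib.Helper19.OrthSum
-- import your own Cfsg.Agent.* helpers here

set_option autoImplicit false
open Cfsg

namespace Cfsg.Agent.S2627

open Cfsg.Agent.Lib.Helper19.OrthRefl Cfsg.Agent.Lib.Helper19.Parity

theorem map_mem_commutator {G G' : Type*} [Group G] [Group G'] (f : G →* G') {g : G}
    (hg : g ∈ commutator G) : f g ∈ commutator G' := by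
  rw [← Abelianization.ker_of, MonoidHom.mem_ker] at hg ⊢
  rw [← Abelianization.map_of f g, hg, map_one]

/-- For an orthogonal direct sum Q = Q₁ ⊕ Q₂ of quadratic forms with non-degenerate polar forms over a finite field, an isometry g₁ of Q₁ extended by the identity on the second summand lies in Ω(Q) (the commutator subgroup of the orthogonal group of Q) if and only if g₁ lies in Ω(Q₁). (Excluded: the field of two elements when the first summand or the whole space has dimension 4, where the commutator subgroup of O⁺₄(2) is smaller than the group usually called Ω.) -/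
theorem result {F : Type*} [Field F] [Fintype F] {k l : ℕ} (h : Fintype.card F ≠ 2 ∨ (k ≠ 4 ∧ k + l ≠ 4)) (Q₁ : QuadraticForm F (Fin k → F)) (Q₂ : QuadraticForm F (Fin l → F)) (h₁ : (QuadraticMap.polarBilin Q₁).Nondegenerate) (h₂ : (QuadraticMap.polarBilin Q₂).Nondegenerate) (g₁ : ↥(Cfsg.isometryGroup F ⇑Q₁)) : (∃ g : ↥(Cfsg.isometryGroup F (fun v : Fin k ⊕ Fin l → F => Q₁ (v ∘ Sum.inl) + Q₂ (v ∘ Sum.inr))), g ∈ Cfsg.Omega F (fun v : Fin k ⊕ Fin l → F => Q₁ (v ∘ Sum.inl) + Q₂ (v ∘ Sum.inr)) ∧ ((g : Matrix.GeneralLinearGroup (Fin k ⊕ Fin l) F) : Matrix (Fin k ⊕ Fin l) (Fin k ⊕ Fin l) F) = Matrix.fromBlocks ((g₁ : Matrix.GeneralLinearGroup (Fin k) F) : Matrix (Fin k) (Fin k) F) 0 0 1) ↔ g₁ ∈ Cfsg.Omega F ⇑Q₁ := by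
  classical
  show (∃ g : ↥(Cfsg.isometryGroup F ⇑(sumForm Q₁ Q₂)), g ∈ Cfsg.Omega F ⇑(sumForm Q₁ Q₂) ∧
    ((g : Matrix.GeneralLinearGroup (Fin k ⊕ Fin l) F) : Matrix (Fin k ⊕ Fin l) (Fin k ⊕ Fin l) F)
      = Matrix.fromBlocks ((g₁ : Matrix.GeneralLinearGroup (Fin k) F) : Matrix (Fin k) (Fin k) F)
        0 0 1) ↔ g₁ ∈ Cfsg.Omega F ⇑Q₁
  have hs := sumForm_nondeg Q₁ Q₂ h₁ h₂
  constructor
  · rintro ⟨g, hg, hmat⟩
    have hge : g = embL Q₁ Q₂ g₁ := by
      apply Subtype.ext
      apply Units.ext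
      rw [hmat, embL_coe]
    rw [hge] at hg
    by_cases h2 : (2 : F) = 0
    · have hex₁ : Fintype.card F ≠ 2 ∨ Fintype.card (Fin k) ≠ 4 := by
        rw [Fintype.card_fin]
        rcases h with h | h
        · exact Or.inl h
        · exact Or.inr h.1
      have heq : (dicksonChar h2 (sumForm Q₁ Q₂) hs).comp (embL Q₁ Q₂) = dicksonChar h2 Q₁ h₁ := by
        apply MonoidHom.eq_of_eqOn_dense (closure_Rset_c2 h2 Q₁ h₁ hex₁)
        rintro _ ⟨v, hv, rfl⟩
        have hv' : sumForm Q₁ Q₂ (Sum.elim v 0) ≠ 0 := by rw [sumForm_elim_zero]; exact hv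
        rw [MonoidHom.comp_apply, embL_refl Q₁ Q₂ v hv hv', dicksonChar_refl, dicksonChar_refl]
      rw [mem_Omega_iff_c2 h2 Q₁ h₁ hex₁, ← heq, MonoidHom.comp_apply]
      exact Abelianization.commutator_subset_ker _ hg
    · have hdet : ((g₁ : Matrix.GeneralLinearGroup (Fin k) F) : Matrix (Fin k) (Fin k) F).det
          = 1 := by
        have h1 : detHom (⇑(sumForm Q₁ Q₂)) (embL Q₁ Q₂ g₁) = 1 :=
          Abelianization.commutator_subset_ker _ hg
        have h3 := congrArg Units.val h1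
        rw [detHom_val, embL_coe, Matrix.det_fromBlocks_zero₂₁, Matrix.det_one, mul_one,
          Units.val_one] at h3
        exact h3
      by_cases hk : 2 ≤ k
      · rw [mem_Omega_iff h2 Q₁ h₁ (by rw [Fintype.card_fin]; exact hk) 1 one_ne_zero]
        refine ⟨hdet, ?_⟩
        have heq : (chi (⇑(sumForm Q₁ Q₂)) 1).comp (embL Q₁ Q₂) = chi (⇑Q₁) 1 := by
          apply MonoidHom.eq_of_eqOn_dense (closure_Rset h2 Q₁ h₁)
          rintro _ ⟨v, hv, rfl⟩
          have hv' : sumForm Q₁ Q₂ (Sum.elim v 0) ≠ 0 := by rw [sumForm_elim_zero]; exact hv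
          rw [MonoidHom.comp_apply, embL_refl Q₁ Q₂ v hv hv', chi_refl h2 _ 1 one_ne_zero,
            chi_refl h2 _ 1 one_ne_zero, sumForm_elim_zero]
        rw [← heq, MonoidHom.comp_apply]
        exact Abelianization.commutator_subset_ker _ hg
      · have hg1 : g₁ = 1 := by
          apply Subtype.ext
          apply Units.ext
          ext i j
          have hk1 : k = 0 ∨ k = 1 := by omega
          rcases hk1 with rfl | rfl
          · exact i.elim0
          · have hi : i = 0 := Subsingleton.elim _ _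
            have hj : j = 0 := Subsingleton.elim _ _
            rw [hi, hj]
            rw [Matrix.det_fin_one] at hdet
            rw [hdet]
            simp
        rw [hg1]
        exact Subgroup.one_mem _
  · intro hg₁
    exact ⟨embL Q₁ Q₂ g₁, map_mem_commutator (embL Q₁ Q₂) hg₁, embL_coe Q₁ Q₂ g₁⟩

end Cfsg.Agent.S2627
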