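import Cfsg.Statements.S2628
import Mathlib
import Cfsg.Agent.Lib.Helper19.OrthOmega2
import Cfsg.Agent.Lib.Helper19.OrthSpinor
import Cfsg.Agent.Lib.Helper19.OrthSum
-- import your own Cfsg.Agent.* helpers here

set_option autoImplicit false
open Cfsg

namespace Cfsg.Agent.S2628

open Cfsg.Agent.Lib.Helper19.OrthRefl Cfsg.Agent.Lib.Helper19.Parity

/-- For the orthogonal direct sum Q ⊕ Q of two copies of a quadratic form Q with non-degenerate polar form on F^k (F finite), every isometry g of Q acting diagonally, diag(g, g), lies in Ω(Q ⊕ Q), the commutator subgroup of the orthogonal group of Q ⊕ Q. (Excluded: k = 2 over the field of two elements, where Q ⊕ Q is the hyperbolic 4-space whose orthogonal group's commutator subgroup is smaller than the group usually called Ω.) -/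
theorem result {F : Type*} [Field F] [Fintype F] {k : ℕ} (h : Fintype.card F ≠ 2 ∨ k ≠ 2) (Q : QuadraticForm F (Fin k → F)) (hQ : (QuadraticMap.polarBilin Q).Nondegenerate) (g : ↥(Cfsg.isometryGroup F ⇑Q)) : ∃ x : ↥(Cfsg.isometryGroup F (fun v : Fin k ⊕ Fin k → F => Q (v ∘ Sum.inl) + Q (v ∘ Sum.inr))), x ∈ Cfsg.Omega F (fun v : Fin k ⊕ Fin k → F => Q (v ∘ Sum.inl) + Q (v ∘ Sum.inr)) ∧ ((x : Matrix.GeneralLinearGroup (Fin k ⊕ Fin k) F) : Matrix (Fin k ⊕ Fin k) (Fin k ⊕ Fin k) F) = Matrix.fromBlocks ((g : Matrix.GeneralLinearGroup (Fin k) F) : Matrix (Fin k) (Fin k) F) 0 0 ((g : Matrix.GeneralLinearGroup (Fin k) F) : Matrix (Fin k) (Fin k) F) := by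
  classical
  show ∃ x : ↥(Cfsg.isometryGroup F ⇑(sumForm Q Q)), x ∈ Cfsg.Omega F ⇑(sumForm Q Q) ∧
    ((x : Matrix.GeneralLinearGroup (Fin k ⊕ Fin k) F) : Matrix (Fin k ⊕ Fin k) (Fin k ⊕ Fin k) F)
      = Matrix.fromBlocks ((g : Matrix.GeneralLinearGroup (Fin k) F) : Matrix (Fin k) (Fin k) F)
        0 0 ((g : Matrix.GeneralLinearGroup (Fin k) F) : Matrix (Fin k) (Fin k) F)
  have hs := sumForm_nondeg Q Q hQ hQ
  refine ⟨embL Q Q g * embR Q Q g, ?_, embL_mul_embR_coe Q g⟩
  have hsq : ∀ u : ℤˣ, u * u = 1 := by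
    intro u
    rcases Int.units_eq_one_or u with h' | h' <;> rw [h'] <;> rfl
  by_cases h2 : (2 : F) = 0
  · have hex : Fintype.card F ≠ 2 ∨ Fintype.card (Fin k ⊕ Fin k) ≠ 4 := by
      rw [Fintype.card_sum, Fintype.card_fin]
      rcases h with h | h
      · exact Or.inl h
      · right; omega
    rw [mem_Omega_iff_c2 h2 _ hs hex, map_mul, hom_embR_eq]
    exact hsq _
  · by_cases hk : k = 0
    · subst hk
      have : embL Q Q g * embR Q Q g = 1 := by
        apply Subtype.ext
        apply Units.ext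
        ext i j
        rcases i with i | i <;> exact i.elim0
      rw [this]
      exact Subgroup.one_mem _
    · rw [mem_Omega_iff h2 _ hs (by rw [Fintype.card_sum, Fintype.card_fin]; omega) 1 one_ne_zero]
      constructor
      · have hd2 : detHom (⇑Q) * detHom (⇑Q) = 1 := by
          apply MonoidHom.eq_of_eqOn_dense (closure_Rset h2 Q hQ)
          rintro _ ⟨v, hv, rfl⟩
          rw [MonoidHom.mul_apply, detHom_refl, MonoidHom.one_apply]
          simp
        have hdg : detHom (⇑Q) g * detHom (⇑Q) g = 1 := by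
          have := congrArg (fun φ : ↥(Cfsg.isometryGroup F ⇑Q) →* Fˣ => φ g) hd2
          exact this
        have hdg' := congrArg Units.val hdg
        rw [Units.val_mul, detHom_val, Units.val_one] at hdg'
        rw [embL_mul_embR_coe, Matrix.det_fromBlocks_zero₂₁]
        exact hdg'
      · rw [map_mul, hom_embR_eq]
        exact hsq _

end Cfsg.Agent.S2628
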