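import Cfsg.Statements.S2631
import Mathlib
import Cfsg.Agent.Lib.Helper19.OrthStab
import Cfsg.Agent.Lib.Helper19.OrthParity2
import Cfsg.Agent.Lib.Helper19.QuadStd

set_option autoImplicit false
open Cfsg

namespace Cfsg.Agent.S2631

open Cfsg.Agent.Lib.Helper19.OrthRefl Cfsg.Agent.Lib.Helper19.Parity
  Cfsg.Agent.Lib.Helper19.QuadStd

/-- For the hyperbolic form Σ x_i y_i on F^(2m) over a finite field (m ≥ 1, excluding m = 2 over the field of two elements), Ω (the commutator subgroup of the orthogonal group) acts transitively on each of the two classes of maximal totally singular subspaces: if U and W are m-dimensional totally singular subspaces with m − dim(U ∩ W) even, some element of Ω carries U to W. -/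
theorem result {F : Type*} [Field F] [Fintype F] {m : ℕ} (hm : 1 ≤ m) (h : Fintype.card F ≠ 2 ∨ m ≠ 2) (U W : Submodule F (Fin m ⊕ Fin m → F)) (hU : Module.finrank F U = m) (hW : Module.finrank F W = m) (hU0 : ∀ u ∈ U, Cfsg.quadFormPlus m F u = 0) (hW0 : ∀ w ∈ W, Cfsg.quadFormPlus m F w = 0) (he : Even (m - Module.finrank F ↥(U ⊓ W))) : ∃ g : ↥(Cfsg.isometryGroup F (Cfsg.quadFormPlus m F)), g ∈ Cfsg.Omega F (Cfsg.quadFormPlus m F) ∧ U.map (Matrix.mulVecLin ((g : Matrix.GeneralLinearGroup (Fin m ⊕ Fin m) F) : Matrix (Fin m ⊕ Fin m) (Fin m ⊕ Fin m) F)) = W := by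
  classical
  revert hU0 hW0
  rw [← coe_stdPlus]
  intro hU0 hW0
  set Q := stdPlus m F with hQdef
  have hQ : (QuadraticMap.polarBilin Q).Nondegenerate := stdPlus_nondeg m
  have hcard : Fintype.card (Fin m ⊕ Fin m) = 2 * m := by
    rw [Fintype.card_sum, Fintype.card_fin]; ring
  have hV : Module.finrank F (Fin m ⊕ Fin m → F) = 2 * m := by
    rw [Module.finrank_fintype_fun_eq_card, hcard]
  have hex : Fintype.card F ≠ 2 ∨ Fintype.card (Fin m ⊕ Fin m) ≠ 4 := by
    rw [hcard]
    rcases h with h | h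
    · exact Or.inl h
    · exact Or.inr (by omega)
  have hUTS : IsTS Q U := hU0
  have hWTS : IsTS Q W := hW0
  obtain ⟨g₀, _, hg₀⟩ := exists_isometry_map Q hQ U W (LinearEquiv.ofFinrankEq U W (by rw [hU, hW]))
    (fun u => by rw [hW0 _ (Subtype.mem _), hU0 _ u.2])
  have hpar : parityChar Q hQ hV U hUTS hU g₀ = 1 := by
    rw [parityChar_eq_one_iff, hg₀]
    exact he
  by_cases h2 : (2 : F) = 0
  · refine ⟨g₀, ?_, hg₀⟩
    rw [mem_Omega_iff_c2 h2 Q hQ hex, ← parityChar_eq_dicksonChar h2 Q hQ hex hV U hUTS hU]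
    exact hpar
  · have hdet : detHom (⇑Q) g₀ = 1 := (parityChar_eq_one_iff_detHom h2 Q hQ hV U hUTS hU g₀).1 hpar
    have hn2 : 2 ≤ Fintype.card (Fin m ⊕ Fin m) := by rw [hcard]; omega
    rcases int_units_cases (chi (⇑Q) 1 g₀) with hc | hc
    · refine ⟨g₀, ?_, hg₀⟩
      rw [mem_Omega_iff h2 Q hQ hn2 1 one_ne_zero, ← detHom_val, hdet]
      exact ⟨rfl, hc⟩
    · have hWne : W ≠ ⊥ := by
        intro h'
        rw [h', finrank_bot] at hW
        omega
      obtain ⟨e, heW, he0⟩ := Submodule.exists_mem_ne_zero_of_ne_bot hWne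
      obtain ⟨s₂, f, c, hd₂, hc₂, hact⟩ := exists_hyp_stab h2 Q hQ e he0 (hW0 e heW)
      refine ⟨s₂ * g₀, ?_, ?_⟩
      · rw [mem_Omega_iff h2 Q hQ hn2 1 one_ne_zero, ← detHom_val, map_mul, map_mul, hdet, hd₂, hc,
          hc₂]
        exact ⟨by simp, by decide⟩
      · rw [map_mul_act, hg₀]
        apply map_eq_of_act_mem
        intro w hw
        rw [hact w (hWTS.polar_zero heW hw)]
        exact W.add_mem hw (W.smul_mem _ heW)

end Cfsg.Agent.S2631
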