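import Cfsg.Statements.S2632
import Mathlib
import Cfsg.Agent.Lib.Helper19.OrthStab
import Cfsg.Agent.Lib.Helper19.QuadUniv
import Cfsg.Agent.Lib.Helper19.OrthCD2e

set_option autoImplicit false
open Cfsg

namespace Cfsg.Agent.S2632

open Cfsg.Agent.Lib.Helper19.OrthRefl Cfsg.Agent.Lib.Helper19.Parity

theorem adjust {ι : Type} [Fintype ι] [DecidableEq ι] {F : Type*} [Field F] [Fintype F]
    (Q : QuadraticForm F (ι → F)) (hQ : (QuadraticMap.polarBilin Q).Nondegenerate)
    (hex : Fintype.card F ≠ 2 ∨ Fintype.card ι ≠ 4) (hn : 2 ≤ Fintype.card ι)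
    (P : ↥(Cfsg.isometryGroup F ⇑Q) → Prop) (g₀ : ↥(Cfsg.isometryGroup F ⇑Q)) (hg₀ : P g₀)
    (D : Submodule F (ι → F)) (hD : Nondeg Q D) (hd : 2 ≤ Module.finrank F D)
    (hstab : ∀ (v : ι → F) (hv : Q v ≠ 0), v ∈ D → ∀ g, P g → P (refl Q v hv * g)) :
    ∃ g ∈ Cfsg.Omega F ⇑Q, P g := by
  classical
  by_cases h2 : (2 : F) = 0
  · have hD0 : D ≠ ⊥ := by
      intro h
      rw [h, finrank_bot] at hd
      omega
    obtain ⟨v, hvD, hQv⟩ := exists_nonsing Q hD hD0
    exact exists_mem_Omega_of_stab_c2 h2 Q hQ hex P g₀ hg₀ (refl Q v hQv) (hstab v hQv hvD)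
      (dicksonChar_refl h2 Q hQ v hQv)
  · obtain ⟨ν, hν⟩ := FiniteField.exists_nonsquare (ringChar_ne_two h2) (F := F)
    have hν0 : ν ≠ 0 := by
      rintro rfl
      exact hν ⟨0, by ring⟩
    obtain ⟨a, haD, hQa⟩ := exists_Q_eq_in h2 Q hD hd 1
    obtain ⟨b, hbD, hQb⟩ := exists_Q_eq_in h2 Q hD hd ν
    have ha : Q a ≠ 0 := by rw [hQa]; exact one_ne_zero
    have hb : Q b ≠ 0 := by rw [hQb]; exact hν0
    refine exists_mem_Omega_of_stab_odd h2 Q hQ hn P g₀ hg₀ (refl Q a ha)
      (refl Q a ha * refl Q b hb) (hstab a ha haD) ?_ (detHom_refl Q a ha) ?_ ?_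
    · intro g hg
      rw [mul_assoc]
      exact hstab a ha haD _ (hstab b hb hbD g hg)
    · rw [map_mul, detHom_refl, detHom_refl]; simp
    · rw [map_mul, chi_refl h2 Q 1 one_ne_zero, chi_refl h2 Q 1 one_ne_zero, hQa, hQb, one_mul,
        one_mul, if_pos ⟨1, by ring⟩, if_neg hν]
      rfl

/-- Ω is transitive on non-degenerate subspaces of each isometry type: for a quadratic form Q on F^n, n ≥ 3, with non-degenerate polar form (F finite; excluding dimension 4 over the field of two elements), if U and W are subspaces on which the polar form is non-degenerate and there is a Q-preserving linear isomorphism U → W, then some element of Ω (the commutator subgroup of the orthogonal group) carries U to W. (In dimension 2 this fails: Ω can be {±1}, which fixes every line.) -/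
theorem result {F : Type*} [Field F] [Fintype F] {n : ℕ} (hn : 3 ≤ n) (h : Fintype.card F ≠ 2 ∨ n ≠ 4) (Q : QuadraticForm F (Fin n → F)) (hQ : (QuadraticMap.polarBilin Q).Nondegenerate) (U W : Submodule F (Fin n → F)) (hU : U ⊓ LinearMap.BilinForm.orthogonal (QuadraticMap.polarBilin Q) U = ⊥) (hW : W ⊓ LinearMap.BilinForm.orthogonal (QuadraticMap.polarBilin Q) W = ⊥) (e : U ≃ₗ[F] W) (he : ∀ u : U, Q (e u : Fin n → F) = Q (u : Fin n → F)) : ∃ g : ↥(Cfsg.isometryGroup F ⇑Q), g ∈ Cfsg.Omega F ⇑Q ∧ U.map (Matrix.mulVecLin ((g : Matrix.GeneralLinearGroup (Fin n) F) : Matrix (Fin n) (Fin n) F)) = W := by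
  classical
  have hfr : Module.finrank F (Fin n → F) = n := by
    rw [Module.finrank_fintype_fun_eq_card, Fintype.card_fin]
  have hex : Fintype.card F ≠ 2 ∨ Fintype.card (Fin n) ≠ 4 := by
    rw [Fintype.card_fin]; exact h
  obtain ⟨g₀, _, hg₀⟩ := exists_isometry_map Q hQ U W e he
  have hstab : ∀ s : ↥(Cfsg.isometryGroup F ⇑Q), (∀ w ∈ W, act s w ∈ W) →
      ∀ g : ↥(Cfsg.isometryGroup F ⇑Q),
        U.map (Matrix.mulVecLin ((g : Matrix.GeneralLinearGroup (Fin n) F) :
          Matrix (Fin n) (Fin n) F)) = W →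
        U.map (Matrix.mulVecLin (((s * g : ↥(Cfsg.isometryGroup F ⇑Q)) :
          Matrix.GeneralLinearGroup (Fin n) F) : Matrix (Fin n) (Fin n) F)) = W := by
    intro s hs g hg
    rw [map_mul_act, hg, map_eq_of_act_mem s W hs]
  have hWn : Nondeg Q W := hW
  have hWo : Nondeg Q (orth Q W) := by
    unfold Nondeg
    rw [orth_orth hQ, inf_comm]
    exact hW
  have hdim := finrank_orth hQ W
  rw [hfr] at hdim
  have hWle := Submodule.finrank_le W
  rw [hfr] at hWle
  by_cases hd : 2 ≤ Module.finrank F W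
  · exact adjust Q hQ hex (by rw [Fintype.card_fin]; omega) _ g₀ hg₀ W hWn hd
      (fun v hv hvW => hstab _ (act_refl_mem_of_mem Q v hv W hvW))
  · exact adjust Q hQ hex (by rw [Fintype.card_fin]; omega) _ g₀ hg₀ (orth Q W) hWo (by omega)
      (fun v hv hvW => hstab _ (act_refl_mem_of_orth Q v hv W hvW))

end Cfsg.Agent.S2632
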