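import Cfsg.Statements.S2633
import Mathlib
import Cfsg.Agent.Lib.Helper19.OrthStab

set_option autoImplicit false
open Cfsg

namespace Cfsg.Agent.S2633

open Cfsg.Agent.Lib.Helper19.OrthRefl Cfsg.Agent.Lib.Helper19.Parity

/-- Ω is transitive on totally singular subspaces of each dimension less than half the dimension: for a quadratic form Q on F^n with non-degenerate polar form (F finite; excluding dimension 4 over the field of two elements), if U and W are subspaces of the same dimension k with 2k < n on which Q vanishes, then some element of Ω (the commutator subgroup of the orthogonal group) carries U to W. -/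
theorem result {F : Type*} [Field F] [Fintype F] {n : ℕ} (h : Fintype.card F ≠ 2 ∨ n ≠ 4) (Q : QuadraticForm F (Fin n → F)) (hQ : (QuadraticMap.polarBilin Q).Nondegenerate) (U W : Submodule F (Fin n → F)) {k : ℕ} (hk : 2 * k < n) (hU : Module.finrank F U = k) (hW : Module.finrank F W = k) (hU0 : ∀ u ∈ U, Q u = 0) (hW0 : ∀ w ∈ W, Q w = 0) : ∃ g : ↥(Cfsg.isometryGroup F ⇑Q), g ∈ Cfsg.Omega F ⇑Q ∧ U.map (Matrix.mulVecLin ((g : Matrix.GeneralLinearGroup (Fin n) F) : Matrix (Fin n) (Fin n) F)) = W := by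
  classical
  have hfr : Module.finrank F (Fin n → F) = n := by
    rw [Module.finrank_fintype_fun_eq_card, Fintype.card_fin]
  have hex : Fintype.card F ≠ 2 ∨ Fintype.card (Fin n) ≠ 4 := by
    rw [Fintype.card_fin]; exact h
  by_cases hk0 : k = 0
  · subst hk0
    refine ⟨1, Subgroup.one_mem _, ?_⟩
    have hU' : U = ⊥ := Submodule.finrank_eq_zero.1 hU
    have hW' : W = ⊥ := Submodule.finrank_eq_zero.1 hW
    rw [hU', hW', Submodule.map_bot]
  have hk1 : 1 ≤ k := Nat.one_le_iff_ne_zero.2 hk0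
  have hWTS : IsTS Q W := hW0
  obtain ⟨g₀, _, hg₀⟩ := exists_isometry_map Q hQ U W (LinearEquiv.ofFinrankEq U W (by rw [hU, hW]))
    (fun u => by rw [hW0 _ (Subtype.mem _), hU0 _ u.2])
  have hstab : ∀ s : ↥(Cfsg.isometryGroup F ⇑Q), (∀ w ∈ W, act s w ∈ W) →
      ∀ g : ↥(Cfsg.isometryGroup F ⇑Q),
        U.map (Matrix.mulVecLin ((g : Matrix.GeneralLinearGroup (Fin n) F) :
          Matrix (Fin n) (Fin n) F)) = W →
        U.map (Matrix.mulVecLin (((s * g : ↥(Cfsg.isometryGroup F ⇑Q)) :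
          Matrix.GeneralLinearGroup (Fin n) F) : Matrix (Fin n) (Fin n) F)) = W := by
    intro s hs g hg
    rw [map_mul_act, hg, map_eq_of_act_mem s W hs]
  -- a non-singular vector orthogonal to `W`
  obtain ⟨v, hvW, hQv⟩ : ∃ v ∈ orth Q W, Q v ≠ 0 := by
    by_contra hcon
    push Not at hcon
    have hTS : IsTS Q (orth Q W) := hcon
    have := hTS.finrank_le hQ
    rw [finrank_orth hQ, hfr, hW] at this
    omega
  by_cases h2 : (2 : F) = 0
  · exact exists_mem_Omega_of_stab_c2 h2 Q hQ hex _ g₀ hg₀ (refl Q v hQv)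
      (hstab _ (act_refl_mem_of_orth Q v hQv W hvW)) (dicksonChar_refl h2 Q hQ v hQv)
  · have hWne : W ≠ ⊥ := by
      intro h'
      rw [h', finrank_bot] at hW
      omega
    obtain ⟨e, heW, he0⟩ := Submodule.exists_mem_ne_zero_of_ne_bot hWne
    obtain ⟨s₂, f, c, hd₂, hc₂, hact⟩ := exists_hyp_stab h2 Q hQ e he0 (hW0 e heW)
    refine exists_mem_Omega_of_stab_odd h2 Q hQ (by rw [Fintype.card_fin]; omega) _ g₀ hg₀
      (refl Q v hQv) s₂ (hstab _ (act_refl_mem_of_orth Q v hQv W hvW)) (hstab _ ?_)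
      (detHom_refl Q v hQv) hd₂ hc₂
    intro w hw
    rw [hact w (hWTS.polar_zero heW hw)]
    exact W.add_mem hw (W.smul_mem _ heW)

end Cfsg.Agent.S2633
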