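import Cfsg.Statements.S2634
import Mathlib
import Cfsg.Agent.Lib.Helper19.OrthOmega2
-- import your own Cfsg.Agent.* helpers here

set_option autoImplicit false
open Cfsg

namespace Cfsg.Agent.S2634

open Cfsg.Agent.Lib.Helper19.OrthRefl Cfsg.Agent.Lib.Helper19.Parity

/-- Over a finite field of characteristic two, Ω (the commutator subgroup of the orthogonal group of a quadratic form Q on F^n with non-degenerate polar form; excluding dimension 4 over the field of two elements) acts transitively on the non-singular 1-spaces: for u, v with Q(u) ≠ 0 and Q(v) ≠ 0 some element of Ω carries the line through u to the line through v. -/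
theorem result {F : Type*} [Field F] [Fintype F] [CharP F 2] {n : ℕ} (h : Fintype.card F ≠ 2 ∨ n ≠ 4) (Q : QuadraticForm F (Fin n → F)) (hQ : (QuadraticMap.polarBilin Q).Nondegenerate) (u v : Fin n → F) (hu : Q u ≠ 0) (hv : Q v ≠ 0) : ∃ g : ↥(Cfsg.isometryGroup F ⇑Q), g ∈ Cfsg.Omega F ⇑Q ∧ (F ∙ ((g : Matrix.GeneralLinearGroup (Fin n) F) : Matrix (Fin n) (Fin n) F).mulVec u) = F ∙ v := by
  classical
  have h2 : (2 : F) = 0 := by
    have := CharP.cast_eq_zero F 2
    exact_mod_cast this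
  have hex : Fintype.card F ≠ 2 ∨ Fintype.card (Fin n) ≠ 4 := by rw [Fintype.card_fin]; exact h
  obtain ⟨s, hs⟩ := isSquare_c2 h2 (Q v / Q u)
  have hs0 : s ≠ 0 := by
    rintro rfl
    rw [mul_zero] at hs
    exact (div_ne_zero hv hu) hs
  have hQsu : Q (s • u) = Q v := by
    rw [QuadraticMap.map_smul, smul_eq_mul, ← hs]
    field_simp
  have hsu : Q (s • u) ≠ 0 := by rw [hQsu]; exact hv
  have hbad : ¬Bad Q (⊤ : Submodule F (Fin n → F)) := by
    rintro ⟨hF, hd, _⟩
    rw [finrank_top, Module.finrank_fintype_fun_eq_card] at hd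
    rcases hex with h' | h'
    · exact h' hF
    · exact h' hd
  obtain ⟨t, _, ht⟩ := exists_TW_map h2 Q hQ (nondeg_top hQ) hbad (u := s • u) (v := v)
    trivial trivial hsu hQsu
  have hfin : ∀ g : ↥(Cfsg.isometryGroup F ⇑Q), g ∈ Cfsg.Omega F ⇑Q → act g (s • u) = v →
      ∃ g : ↥(Cfsg.isometryGroup F ⇑Q), g ∈ Cfsg.Omega F ⇑Q ∧
        (F ∙ ((g : Matrix.GeneralLinearGroup (Fin n) F) : Matrix (Fin n) (Fin n) F).mulVec u)
          = F ∙ v := by
    intro g hg hgu
    refine ⟨g, hg, ?_⟩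
    have h1 : ((g : Matrix.GeneralLinearGroup (Fin n) F) : Matrix (Fin n) (Fin n) F).mulVec u
        = s⁻¹ • v := by
      rw [← hgu, act_smul, smul_smul, inv_mul_cancel₀ hs0, one_smul]
      rfl
    rw [h1]
    exact Submodule.span_singleton_smul_eq (IsUnit.mk0 _ (inv_ne_zero hs0)) v
  rcases Int.units_eq_one_or (dicksonChar h2 Q hQ t) with hD | hD
  · exact hfin t ((mem_Omega_iff_c2 h2 Q hQ hex t).2 hD) ht
  · apply hfin (t * refl Q (s • u) hsu)
    · rw [mem_Omega_iff_c2 h2 Q hQ hex, map_mul, hD, dicksonChar_refl]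
      rfl
    · rw [act_mul, act_refl_self_c2 h2, ht]

end Cfsg.Agent.S2634
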