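import Cfsg.Statements.S2640
import Mathlib
import Cfsg.Agent.Lib.Helper19.UnitaryOrth

set_option autoImplicit false
open Cfsg

namespace Cfsg.Agent.S2640

open Cfsg.Agent.Lib.Helper19.UnitaryOrth

/-- For m even, the unitary group GU_m(q) (over the field with q² elements) embeds in the orthogonal group O⁺_2m(q) of the hyperbolic form Σ x_i y_i over the field with q elements (there is an injective homomorphism). -/
theorem result {K F : Type*} [Field K] [Fintype K] [Field F] [Fintype F] {q : ℕ} (hK : Fintype.card K = q ^ 2) (hF : Fintype.card F = q) (m : ℕ) (hm : Even m) : ∃ φ : ↥(Cfsg.GU m K q) →* ↥(Cfsg.isometryGroup F (Cfsg.quadFormPlus m F)), Function.Injective φ := by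
  classical
  obtain ⟨r, rfl⟩ := hm
  obtain ⟨p, hp⟩ := CharP.exists F
  haveI := hp
  haveI : Fact p.Prime := ⟨CharP.char_is_prime F p⟩
  let E := FiniteField.Extension F p 2
  haveI : Finite E := Module.finite_of_finite F
  haveI : Fintype E := Fintype.ofFinite E
  have hEcard : Fintype.card E = q ^ 2 := by
    rw [← Nat.card_eq_fintype_card, FiniteField.natCard_extension, Nat.card_eq_fintype_card, hF]
  let e : K ≃+* E := FiniteField.ringEquivOfCardEq (by rw [hK, hEcard])
  letI : Algebra F K := (e.symm.toRingHom.comp (algebraMap F E)).toAlgebra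
  have hfr : Module.finrank F K = 2 := finrank_eq K hF hK
  let b : Module.Basis (Fin 2) F K := Module.finBasisOfFinrankEq F K hfr
  obtain ⟨ω, hω⟩ := exists_omega K hF hK
  obtain ⟨c, hc⟩ := exists_c K hF hK
  have hω0 : ω ≠ 0 := by
    rintro rfl
    rw [zero_mul] at hω
    exact zero_ne_one (neg_eq_zero.1 hω.symm).symm
  have hdim : Module.finrank F (Fin (r + r) → K) =
      Module.finrank F (Fin (r + r) ⊕ Fin (r + r) → F) := by
    rw [finrank_source K hF hK, Module.finrank_fintype_fun_eq_card]
    simp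
  let T : (Fin (r + r) → K) ≃ₗ[F] (Fin (r + r) ⊕ Fin (r + r) → F) :=
    LinearMap.linearEquivOfInjective (Tpair K hF b ω c r) (Tpair_injective K hF hK b ω c r hω0) hdim
  have hT : ∀ v, Cfsg.quadFormPlus (r + r) F (T v) = ∑ i, Algebra.norm F (v i) := by
    intro v
    exact Tpair_form K hF hK b ω c r hω hc v
  have hρ : ∀ (g : ↥(Cfsg.GU (r + r) K q)) (v : Fin (r + r) → K),
      Cfsg.quadFormPlus (r + r) F (T (rhoGU K F (r + r) q g v)) =
        Cfsg.quadFormPlus (r + r) F (T v) := by
    intro g v
    rw [hT, hT, rhoGU_norm K hF hK]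
  exact ⟨isoHom _ T (rhoGU K F (r + r) q) hρ,
    isoHom_injective _ T _ hρ (rhoGU_injective K (r + r))⟩

end Cfsg.Agent.S2640
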