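import Mathlib
import Cfsg.Statements.S2642
import Cfsg.Agent.Lib.Helper10.GUOrdPB
import Cfsg.Agent.S2587
import Cfsg.Agent.S2588

set_option autoImplicit false
open Cfsg

namespace Cfsg.Agent.S2642


/-- Number of conjugacy classes of elements of order p in the general unitary group GU_n(q), q a power of p: every unipotent Jordan type occurs and the classes correspond to the partitions of n with all parts at most p other than the all-ones partition, exactly as in GL_n; so there are (number of partitions of n with parts ≤ p) − 1 classes. -/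
theorem result {K : Type*} [Field K] [Fintype K] {p q n : ℕ} [Fact p.Prime] [CharP K p] (hK : Fintype.card K = q ^ 2) : Nat.card {C : ConjClasses ↥(Cfsg.GU n K q) // ∃ g : ↥(Cfsg.GU n K q), ConjClasses.mk g = C ∧ orderOf g = p} = (Finset.univ.filter (fun μ : Nat.Partition n => ∀ a ∈ μ.parts, a ≤ p)).card - 1 := by
  classical
  have hp : p.Prime := Fact.out
  rw [← Cfsg.Agent.Lib.Helper5.Nil.card_order_p_classes (F := K) p n]
  -- q is a power of p
  obtain ⟨f, -, hf⟩ := FiniteField.card K p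
  have hq : ∃ j : ℕ, q = p ^ j := by
    have h1 : q ∣ p ^ (f : ℕ) := by
      rw [← hf, hK]
      exact Dvd.intro_left (q ^ 1) (by ring)
    obtain ⟨j, -, hj⟩ := (Nat.dvd_prime_pow hp).1 h1
    exact ⟨j, hj⟩
  obtain ⟨j, rfl⟩ := hq
  let φ : K →+* K := iterateFrobenius K p j
  have hφapp : ∀ x : K, φ x = x ^ p ^ j := fun x => iterateFrobenius_def p j x
  have hφ : Function.Bijective φ := by
    rw [← Finite.injective_iff_bijective]
    exact φ.injective
  have hφfun : (fun x : K => x ^ p ^ j) = ⇑φ := by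
    funext x
    exact (hφapp x).symm
  apply Nat.card_congr
  refine Equiv.ofBijective
    (fun C => ⟨ConjClasses.map (Cfsg.GU n K (p ^ j)).subtype C.1, ?_⟩) ⟨?_, ?_⟩
  · obtain ⟨g, hg, hord⟩ := C.2
    refine ⟨(g : GL (Fin n) K), ?_, ?_⟩
    · rw [← hg]
      rfl
    · exact (Subgroup.orderOf_coe g).trans hord
  · rintro ⟨C, g, rfl, hg⟩ ⟨C', g', rfl, hg'⟩ h
    have h1 : ConjClasses.mk (g : GL (Fin n) K) = ConjClasses.mk (g' : GL (Fin n) K) :=
      congrArg Subtype.val h
    rw [ConjClasses.mk_eq_mk_iff_isConj] at h1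
    have h2 := (Cfsg.Agent.S2587.result hK g g').2 h1
    apply Subtype.ext
    exact ConjClasses.mk_eq_mk_iff_isConj.2 h2
  · rintro ⟨D, h, rfl, hh⟩
    have hnil : ∃ m, (Cfsg.Agent.Lib.Helper5.Nil.nilPart h) ^ m = 0 :=
      ⟨p, ((Cfsg.Agent.Lib.Helper5.Nil.orderOf_eq_p_iff p n h).1 hh).1⟩
    have hc := Cfsg.Agent.Lib.Helper10.GUOrdP.isConj_twist φ hφ h hnil
    rw [← hφfun] at hc
    obtain ⟨B, hB⟩ := (Cfsg.Agent.S2588.result hK h).2 hc
    have hBord : orderOf B = p := by
      obtain ⟨c, hc'⟩ := hB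
      have h3 : orderOf (B : GL (Fin n) K) = orderOf h :=
        (SemiconjBy.orderOf_eq (c : GL (Fin n) K) hc').symm
      exact ((Subgroup.orderOf_coe B).symm.trans h3).trans hh
    refine ⟨⟨ConjClasses.mk B, B, rfl, hBord⟩, ?_⟩
    apply Subtype.ext
    show ConjClasses.mk (B : GL (Fin n) K) = ConjClasses.mk h
    exact ConjClasses.mk_eq_mk_iff_isConj.2 hB.symm

end Cfsg.Agent.S2642
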