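import Cfsg.Statements.S2665
import Mathlib
import Cfsg.Agent.Lib.Helper22.LangGL

set_option autoImplicit false
open scoped MatrixGroups
open Cfsg

namespace Cfsg.Agent.S2665

/-- The Lang–Steinberg Theorem for the general linear group. Let `K` be an algebraically closed field of prime characteristic `p`, let `q = p^f` with `f ≥ 1`, and let `σ` be the endomorphism of GL_n(K) raising every matrix entry to the `q`-th power. Then every element `g` of GL_n(K) can be written `g = x · σ(x)⁻¹` for some `x` in GL_n(K): the map `x ↦ x σ(x)⁻¹` is surjective. -/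
theorem result {K : Type*} [Field K] [IsAlgClosed K] (p : ℕ) [Fact p.Prime] [CharP K p]
    (f : ℕ) (hf : 1 ≤ f) (n : ℕ) (g : GL (Fin n) K) :
    ∃ x : GL (Fin n) K, g = x * (Matrix.GeneralLinearGroup.map (iterateFrobenius K p f) x)⁻¹ := by
  classical
  have hp : p.Prime := Fact.out
  obtain ⟨q, hq⟩ : ∃ q, q = p ^ f := ⟨_, rfl⟩
  have hq2 : 2 ≤ q := by
    rw [hq]
    calc 2 ≤ p := hp.two_le
      _ = p ^ 1 := (pow_one p).symm
      _ ≤ p ^ f := Nat.pow_le_pow_right hp.pos hf
  have hσ : ∀ c : K, iterateFrobenius K p f c = c ^ q := by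
    intro c; rw [iterateFrobenius_def, hq]
  obtain ⟨φ, hφdef⟩ : ∃ φ : (Fin n → K) → (Fin n → K),
      φ = fun v => (g : Matrix (Fin n) (Fin n) K).mulVec (fun i => iterateFrobenius K p f (v i)) :=
    ⟨_, rfl⟩
  have hφ : Lib.Helper22.LangGL.IsFrobSemilinear (K := K) q φ := by
    refine ⟨?_, ?_, ?_⟩
    · intro x y
      rw [hφdef]
      show Matrix.mulVec _ _ = Matrix.mulVec _ _ + Matrix.mulVec _ _
      rw [← Matrix.mulVec_add]
      congr 1
      ext i
      simp
    · intro c x
      rw [hφdef]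
      show Matrix.mulVec _ _ = c ^ q • Matrix.mulVec _ _
      rw [← Matrix.mulVec_smul]
      congr 1
      ext i
      simp [hσ, mul_pow]
    · intro x y hxy
      rw [hφdef] at hxy
      have h1 : (fun i => iterateFrobenius K p f (x i)) = fun i => iterateFrobenius K p f (y i) := by
        have h2 := congrArg (fun v => ((g⁻¹ : GL (Fin n) K) : Matrix (Fin n) (Fin n) K).mulVec v) hxy
        simp only [Matrix.mulVec_mulVec] at h2
        rw [← Matrix.GeneralLinearGroup.coe_mul, inv_mul_cancel] at h2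
        simpa using h2
      ext i
      exact (iterateFrobenius K p f).injective (congrFun h1 i)
  have hspan := Lib.Helper22.LangGL.fixSpan_eq_top hφ hq2
  obtain ⟨b, hbsub, hbspan, hbli⟩ := exists_linearIndependent K {x : Fin n → K | φ x = x}
  have hb_top : ⊤ ≤ Submodule.span K (Set.range (Subtype.val : b → (Fin n → K))) := by
    rw [Subtype.range_coe, hbspan]
    exact hspan.ge
  obtain ⟨B, hB⟩ : ∃ B : Module.Basis b K (Fin n → K), B = Module.Basis.mk hbli hb_top := ⟨_, rfl⟩
  haveI : Fintype b := FiniteDimensional.fintypeBasisIndex B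
  have hcard : Fintype.card b = n := by
    rw [← Module.finrank_eq_card_basis B, Module.finrank_fin_fun]
  obtain ⟨e⟩ : Nonempty (b ≃ Fin n) := ⟨Fintype.equivFinOfCardEq hcard⟩
  obtain ⟨B', hB'⟩ : ∃ B' : Module.Basis (Fin n) K (Fin n → K), B' = B.reindex e := ⟨_, rfl⟩
  have hB'fix : ∀ j, φ (B' j) = B' j := by
    intro j
    have h1 : B' j = ((e.symm j : b) : Fin n → K) := by
      rw [hB', Module.Basis.reindex_apply, hB, Module.Basis.mk_apply]
    rw [h1]
    exact hbsub (e.symm j).2
  obtain ⟨X, hX⟩ : ∃ X : Matrix (Fin n) (Fin n) K, X = (Pi.basisFun K (Fin n)).toMatrix B' :=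
    ⟨_, rfl⟩
  have hXapp : ∀ i j, X i j = B' j i := by
    intro i j
    rw [hX, Module.Basis.toMatrix_apply, Pi.basisFun_repr]
  have hXdet : IsUnit X.det := by
    haveI : Invertible X := by rw [hX]; exact (Pi.basisFun K (Fin n)).invertibleToMatrix B'
    exact Matrix.isUnit_det_of_invertible X
  refine ⟨Matrix.GeneralLinearGroup.mk'' X hXdet, ?_⟩
  rw [eq_mul_inv_iff_mul_eq]
  apply Matrix.GeneralLinearGroup.ext
  intro i j
  have h1 := congrFun (hB'fix j) i
  rw [hφdef] at h1
  simp only [Matrix.mulVec, dotProduct] at h1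
  rw [Matrix.GeneralLinearGroup.coe_mul, Matrix.mul_apply]
  simp only [Matrix.GeneralLinearGroup.map_apply]
  rw [show ((Matrix.GeneralLinearGroup.mk'' X hXdet : GL (Fin n) K) : Matrix (Fin n) (Fin n) K) = X
    from rfl]
  rw [hXapp, ← h1]
  apply Finset.sum_congr rfl
  intro k _
  rw [hXapp]

end Cfsg.Agent.S2665
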