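import Cfsg.Statements.S2666
import Cfsg.Agent.Lib.Helper15.Shintani

set_option autoImplicit false
open Cfsg

namespace Cfsg.Agent.S2666

open Cfsg.Agent.Lib.Helper15 in
theorem result {X : Type*} [Group X] (σ : MulAut X) (e : ℕ) (he : 1 ≤ e)
    (hL : ∀ g : X, ∃ a : X, g = a * (σ a)⁻¹) (hLe : ∀ g : X, ∃ a : X, g = a * ((σ ^ e) a)⁻¹) :
    (∀ g ∈ (MulEquiv.toMonoidHom (σ ^ e)).eqLocus (MonoidHom.id X), ∀ a : X, g = a * (σ a)⁻¹ →
        ((σ ^ e) a)⁻¹ * a ∈ (MulEquiv.toMonoidHom σ).eqLocus (MonoidHom.id X) ∧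
          a⁻¹ * ((List.range e).map (fun i => (σ ^ i) g)).prod * a = ((σ ^ e) a)⁻¹ * a) ∧
    (∀ g ∈ (MulEquiv.toMonoidHom (σ ^ e)).eqLocus (MonoidHom.id X), ∀ g' ∈ (MulEquiv.toMonoidHom (σ ^ e)).eqLocus (MonoidHom.id X), ∀ a b : X,
        g = a * (σ a)⁻¹ → g' = b * (σ b)⁻¹ →
          ((∃ k ∈ (MulEquiv.toMonoidHom (σ ^ e)).eqLocus (MonoidHom.id X), g' = k * g * (σ k)⁻¹) ↔
            (∃ h ∈ (MulEquiv.toMonoidHom σ).eqLocus (MonoidHom.id X), ((σ ^ e) b)⁻¹ * b = h * (((σ ^ e) a)⁻¹ * a) * h⁻¹))) ∧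
    (∀ x ∈ (MulEquiv.toMonoidHom σ).eqLocus (MonoidHom.id X), ∃ g ∈ (MulEquiv.toMonoidHom (σ ^ e)).eqLocus (MonoidHom.id X), ∃ a : X,
        g = a * (σ a)⁻¹ ∧ ((σ ^ e) a)⁻¹ * a = x) := by
  refine ⟨?_, ?_, ?_⟩
  · intro g hg a ha
    subst ha
    refine ⟨(fix_iff_fix σ e a).mp hg, ?_⟩
    rw [norm_telescope]; group
  · intro g hg g' hg' a b ha hb
    subst ha hb
    constructor
    · rintro ⟨k, hk, hkg⟩
      rw [mem_fix_iff] at hk
      have hh : σ (b⁻¹ * k * a) = b⁻¹ * k * a := by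
        simp only [map_mul, map_inv]
        have h1 : (σ b)⁻¹ = b⁻¹ * (k * (a * (σ a)⁻¹) * (σ k)⁻¹) := by
          rw [← hkg]; group
        rw [h1]; group
      refine ⟨b⁻¹ * k * a, hh, ?_⟩
      have hh' := aut_pow_fixed σ e _ hh
      simp only [map_mul, map_inv] at hh'
      rw [hk] at hh'
      generalize (σ ^ e) a = A at hh' ⊢
      generalize (σ ^ e) b = B at hh' ⊢
      have h2 : B⁻¹ = (B⁻¹ * k * A) * A⁻¹ * k⁻¹ := by group
      rw [h2, hh']; group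
    · rintro ⟨h, hh, hx⟩
      rw [mem_fix_iff] at hh
      have hhe := aut_pow_fixed σ e _ hh
      refine ⟨b * h * a⁻¹, ?_, ?_⟩
      · rw [mem_fix_iff]
        simp only [map_mul, map_inv]
        rw [hhe]
        generalize (σ ^ e) a = A at hx ⊢
        generalize (σ ^ e) b = B at hx ⊢
        have h1 : B⁻¹ = h * (A⁻¹ * a) * h⁻¹ * b⁻¹ := by
          rw [← hx]; group
        have hB : B = (h * (A⁻¹ * a) * h⁻¹ * b⁻¹)⁻¹ := by rw [← h1, inv_inv]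
        rw [hB]; group
      · simp only [map_mul, map_inv]
        rw [hh]; group
  · intro x hx
    rw [mem_fix_iff] at hx
    obtain ⟨c, hc⟩ := hLe x⁻¹
    have hxa : ((σ ^ e) c⁻¹)⁻¹ * c⁻¹ = x := by
      rw [map_inv, inv_inv]
      have : x = (x⁻¹)⁻¹ := by group
      rw [this, hc]; group
    refine ⟨c⁻¹ * (σ c⁻¹)⁻¹, ?_, c⁻¹, rfl, hxa⟩
    rw [mem_fix_iff]
    exact (fix_iff_fix σ e c⁻¹).mpr (by rw [hxa]; exact hx)

end Cfsg.Agent.S2666
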