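import Cfsg.Statements.S2667
import Cfsg.Agent.Lib.Helper15.Shintani

set_option autoImplicit false
open Cfsg

namespace Cfsg.Agent.S2667

open Cfsg.Agent.Lib.Helper15 in
theorem result {X : Type*} [Group X] (σ : MulAut X) (e : ℕ) (he : 1 ≤ e)
    (g : X) (hg : g ∈ (MulEquiv.toMonoidHom (σ ^ e)).eqLocus (MonoidHom.id X)) (a : X) (ha : g = a * (σ a)⁻¹) (k : X) :
    (k ∈ (MulEquiv.toMonoidHom (σ ^ e)).eqLocus (MonoidHom.id X) ∧ k * g * (σ k)⁻¹ = g) ↔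
      (a⁻¹ * k * a ∈ (MulEquiv.toMonoidHom σ).eqLocus (MonoidHom.id X) ∧
        (a⁻¹ * k * a) * (((σ ^ e) a)⁻¹ * a) = (((σ ^ e) a)⁻¹ * a) * (a⁻¹ * k * a)) := by
  subst ha
  rw [mem_fix_iff, mem_fix_iff]
  have key1 : k * (a * (σ a)⁻¹) * (σ k)⁻¹ = a * (σ a)⁻¹ ↔ σ (a⁻¹ * k * a) = a⁻¹ * k * a := by
    simp only [map_mul, map_inv]
    constructor
    · intro h
      have h2 : σ k = (a * (σ a)⁻¹)⁻¹ * (k * (a * (σ a)⁻¹)) := by
        have h3 : k * (a * (σ a)⁻¹) = a * (σ a)⁻¹ * σ k := mul_inv_eq_iff_eq_mul.mp h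
        rw [h3]; group
      rw [h2]; group
    · intro h
      have h2 : σ k = σ a * (a⁻¹ * k * a) * (σ a)⁻¹ := by
        rw [← h]; group
      rw [h2]; group
  have key2 : σ (a⁻¹ * k * a) = a⁻¹ * k * a →
      ((σ ^ e) k = k ↔ (a⁻¹ * k * a) * (((σ ^ e) a)⁻¹ * a) = (((σ ^ e) a)⁻¹ * a) * (a⁻¹ * k * a)) := by
    intro hy
    have hy' := aut_pow_fixed σ e _ hy
    simp only [map_mul, map_inv] at hy'
    generalize (σ ^ e) a = b at hy' ⊢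
    generalize (σ ^ e) k = K at hy' ⊢
    constructor
    · intro hK
      subst hK
      calc (a⁻¹ * K * a) * (b⁻¹ * a) = (b⁻¹ * K * b) * (b⁻¹ * a) := by rw [hy']
        _ = (b⁻¹ * a) * (a⁻¹ * K * a) := by group
    · intro hcomm
      have h1 : a⁻¹ * k * a = b⁻¹ * k * b := by
        calc a⁻¹ * k * a = ((a⁻¹ * k * a) * (b⁻¹ * a)) * (a⁻¹ * b) := by group
          _ = ((b⁻¹ * a) * (a⁻¹ * k * a)) * (a⁻¹ * b) := by rw [hcomm]
          _ = b⁻¹ * k * b := by group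
      rw [h1] at hy'
      have h2 : K = b * (b⁻¹ * K * b) * b⁻¹ := by group
      rw [h2, hy']; group
  constructor
  · rintro ⟨hk, hc⟩
    have hy := key1.mp hc
    exact ⟨hy, (key2 hy).mp hk⟩
  · rintro ⟨hy, hcomm⟩
    exact ⟨(key2 hy).mpr hcomm, key1.mpr hy⟩

end Cfsg.Agent.S2667
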