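import Cfsg.Statements.S2669
import Cfsg.Agent.Lib.Helper15.Shintani

set_option autoImplicit false
open Cfsg

namespace Cfsg.Agent.S2669

open Cfsg.Agent.Lib.Helper15

/-- Counting pairs `(k, y)` with `φ k = L y` when `L` maps `Y` onto `Y` with fibers the left cosets of `Z`. -/
theorem card_fibered {X : Type*} [Group X] (P Y Z : Subgroup X) (hZY : Z ≤ Y) (φ L : X → X)
    (hLY : ∀ y ∈ Y, L y ∈ Y)
    (hsurj : ∀ w ∈ Y, ∃ y ∈ Y, L y = w)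
    (hfib : ∀ y ∈ Y, ∀ y' ∈ Y, L y = L y' ↔ y⁻¹ * y' ∈ Z) :
    Nat.card {ky : X × X // ky.1 ∈ P ∧ ky.2 ∈ Y ∧ φ ky.1 = L ky.2} =
      Nat.card {k : ↥P // φ (k : X) ∈ Y} * Nat.card ↥Z := by
  classical
  have hex : ∀ k : {k : ↥P // φ (k : X) ∈ Y}, ∃ y, y ∈ Y ∧ L y = φ (k.1 : X) :=
    fun k => hsurj _ k.2
  choose y₀ hy₀ using hex
  rw [← Nat.card_prod]
  apply Nat.card_congr
  refine
    { toFun := fun t =>
        (⟨⟨t.1.1, t.2.1⟩, by rw [t.2.2.2]; exact hLY _ t.2.2.1⟩,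
          ⟨(y₀ ⟨⟨t.1.1, t.2.1⟩, by rw [t.2.2.2]; exact hLY _ t.2.2.1⟩)⁻¹ * t.1.2, ?_⟩)
      invFun := fun kz => ⟨((kz.1.1 : X), y₀ kz.1 * (kz.2 : X)), kz.1.1.2,
        Y.mul_mem (hy₀ kz.1).1 (hZY kz.2.2), ?_⟩
      left_inv := ?_
      right_inv := ?_ }
  · have h1 := hy₀ ⟨⟨t.1.1, t.2.1⟩, by rw [t.2.2.2]; exact hLY _ t.2.2.1⟩
    exact (hfib _ h1.1 _ t.2.2.1).mp (by rw [h1.2]; exact t.2.2.2)
  · have h1 := hy₀ kz.1
    rw [← h1.2]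
    apply (hfib _ h1.1 _ (Y.mul_mem h1.1 (hZY kz.2.2))).mpr
    have : (y₀ kz.1)⁻¹ * (y₀ kz.1 * (kz.2 : X)) = (kz.2 : X) := by group
    rw [this]; exact kz.2.2
  · intro t
    apply Subtype.ext
    apply Prod.ext
    · rfl
    · show y₀ _ * ((y₀ _)⁻¹ * t.1.2) = t.1.2
      group
  · intro kz
    apply Prod.ext
    · rfl
    · apply Subtype.ext
      show (y₀ _)⁻¹ * (y₀ kz.1 * (kz.2 : X)) = (kz.2 : X)
      group

theorem result {X : Type*} [Group X] (σ : MulAut X) (e : ℕ) (he : 1 ≤ e)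
    [Finite ↥((MulEquiv.toMonoidHom (σ ^ e)).eqLocus (MonoidHom.id X))]
    (Y : Subgroup X) (hY : ∀ y : X, y ∈ Y ↔ σ y ∈ Y)
    (hYL : ∀ y ∈ Y, ∃ a ∈ Y, y = a * (σ a)⁻¹) (hYLe : ∀ y ∈ Y, ∃ a ∈ Y, y = a * ((σ ^ e) a)⁻¹)
    (g : X) (hg : g ∈ (MulEquiv.toMonoidHom (σ ^ e)).eqLocus (MonoidHom.id X)) (a : X) (ha : g = a * (σ a)⁻¹) :
    Nat.card {k : ↥((MulEquiv.toMonoidHom (σ ^ e)).eqLocus (MonoidHom.id X)) // (k : X)⁻¹ * g * σ k ∈ Y} *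
        Nat.card ↥(Y ⊓ (MulEquiv.toMonoidHom σ).eqLocus (MonoidHom.id X)) =
      Nat.card {h : ↥((MulEquiv.toMonoidHom σ).eqLocus (MonoidHom.id X)) // (h : X)⁻¹ * (((σ ^ e) a)⁻¹ * a) * h ∈ Y} *
        Nat.card ↥(Y ⊓ (MulEquiv.toMonoidHom (σ ^ e)).eqLocus (MonoidHom.id X)) := by
  subst ha
  have hYn : ∀ n : ℕ, ∀ y ∈ Y, (σ ^ n) y ∈ Y := by
    intro n
    induction n with
    | zero => intro y hy; simpa using hy
    | succ n ih => intro y hy; rw [aut_pow_succ_apply]; exact (hY _).mp (ih y hy)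
  have hT : Nat.card {ky : X × X // ky.1 ∈ (MulEquiv.toMonoidHom (σ ^ e)).eqLocus (MonoidHom.id X) ∧ ky.2 ∈ Y ∧
        ky.1⁻¹ * (a * (σ a)⁻¹) * σ ky.1 = ky.2 * (σ ky.2)⁻¹} =
      Nat.card {k : ↥((MulEquiv.toMonoidHom (σ ^ e)).eqLocus (MonoidHom.id X)) // (k : X)⁻¹ * (a * (σ a)⁻¹) * σ k ∈ Y} *
        Nat.card ↥(Y ⊓ (MulEquiv.toMonoidHom σ).eqLocus (MonoidHom.id X)) := by
    refine card_fibered ((MulEquiv.toMonoidHom (σ ^ e)).eqLocus (MonoidHom.id X)) Y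
      (Y ⊓ (MulEquiv.toMonoidHom σ).eqLocus (MonoidHom.id X)) inf_le_left
      (fun k => k⁻¹ * (a * (σ a)⁻¹) * σ k) (fun y => y * (σ y)⁻¹) ?_ ?_ ?_
    · intro y hy
      exact Y.mul_mem hy (Y.inv_mem ((hY y).mp hy))
    · intro w hw
      obtain ⟨c, hc, hwc⟩ := hYL w hw
      exact ⟨c, hc, hwc.symm⟩
    · intro y hy y' hy'
      rw [Subgroup.mem_inf, mem_fix_iff]
      simp only [map_mul, map_inv]
      constructor
      · intro h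
        refine ⟨Y.mul_mem (Y.inv_mem hy) hy', ?_⟩
        have h1 : (σ y)⁻¹ = y⁻¹ * (y * (σ y)⁻¹) := by group
        rw [h1, h]; group
      · rintro ⟨-, h⟩
        have h1 : (σ y)⁻¹ = ((σ y)⁻¹ * σ y') * (σ y')⁻¹ := by group
        rw [h1, h]; group
  have hT' : Nat.card {hy : X × X // hy.1 ∈ (MulEquiv.toMonoidHom σ).eqLocus (MonoidHom.id X) ∧ hy.2 ∈ Y ∧
        hy.1⁻¹ * (((σ ^ e) a)⁻¹ * a) * hy.1 = (σ ^ e) hy.2 * hy.2⁻¹} =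
      Nat.card {h : ↥((MulEquiv.toMonoidHom σ).eqLocus (MonoidHom.id X)) // (h : X)⁻¹ * (((σ ^ e) a)⁻¹ * a) * h ∈ Y} *
        Nat.card ↥(Y ⊓ (MulEquiv.toMonoidHom (σ ^ e)).eqLocus (MonoidHom.id X)) := by
    refine card_fibered ((MulEquiv.toMonoidHom σ).eqLocus (MonoidHom.id X)) Y
      (Y ⊓ (MulEquiv.toMonoidHom (σ ^ e)).eqLocus (MonoidHom.id X)) inf_le_left
      (fun h => h⁻¹ * (((σ ^ e) a)⁻¹ * a) * h) (fun y => (σ ^ e) y * y⁻¹) ?_ ?_ ?_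
    · intro y hy
      exact Y.mul_mem (hYn e y hy) (Y.inv_mem hy)
    · intro w hw
      obtain ⟨c, hc, hwc⟩ := hYLe w⁻¹ (Y.inv_mem hw)
      refine ⟨c, hc, ?_⟩
      have h1 : w = (w⁻¹)⁻¹ := by group
      rw [h1, hwc]; group
    · intro y hy y' hy'
      rw [Subgroup.mem_inf, mem_fix_iff]
      simp only [map_mul, map_inv]
      generalize (σ ^ e) y = u
      generalize (σ ^ e) y' = u'
      constructor
      · intro h
        refine ⟨Y.mul_mem (Y.inv_mem hy) hy', ?_⟩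
        have h1 : u' = (u' * y'⁻¹) * y' := by group
        rw [h1, ← h]; group
      · rintro ⟨-, h⟩
        have h1 : u' = u * (u⁻¹ * u') := by group
        rw [h1, h]; group
  have hfwd : ∀ k y : X, (σ ^ e) k = k → k⁻¹ * (a * (σ a)⁻¹) * σ k = y * (σ y)⁻¹ →
      σ (a⁻¹ * k * y) = a⁻¹ * k * y ∧
      (a⁻¹ * k * y)⁻¹ * (((σ ^ e) a)⁻¹ * a) * (a⁻¹ * k * y) = (σ ^ e) y⁻¹ * (y⁻¹)⁻¹ := by
    intro k y hk hky
    have h1 : σ (a⁻¹ * k * y) = a⁻¹ * k * y := by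
      simp only [map_mul, map_inv]
      calc (σ a)⁻¹ * σ k * σ y = a⁻¹ * k * (k⁻¹ * (a * (σ a)⁻¹) * σ k) * σ y := by group
        _ = a⁻¹ * k * (y * (σ y)⁻¹) * σ y := by rw [hky]
        _ = a⁻¹ * k * y := by group
    refine ⟨h1, ?_⟩
    have h2 := aut_pow_fixed σ e _ h1
    simp only [map_mul, map_inv] at h2 ⊢
    rw [hk] at h2
    generalize (σ ^ e) a = A at h2 ⊢
    generalize (σ ^ e) y = U at h2 ⊢
    have h3 : A⁻¹ = (A⁻¹ * k * U) * U⁻¹ * k⁻¹ := by group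
    rw [h3, h2]; group
  have hbwd : ∀ h y : X, σ h = h → h⁻¹ * (((σ ^ e) a)⁻¹ * a) * h = (σ ^ e) y * y⁻¹ →
      (σ ^ e) (a * h * y) = a * h * y ∧
      (a * h * y)⁻¹ * (a * (σ a)⁻¹) * σ (a * h * y) = y⁻¹ * (σ y⁻¹)⁻¹ := by
    intro h y hh hhy
    have hhe := aut_pow_fixed σ e _ hh
    constructor
    · simp only [map_mul]
      rw [hhe]
      generalize (σ ^ e) a = A at hhy ⊢
      generalize (σ ^ e) y = U at hhy ⊢
      have h3 : U = (U * y⁻¹) * y := by group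
      rw [h3, ← hhy]; group
    · simp only [map_mul, map_inv]
      rw [hh]; group
  rw [← hT, ← hT']
  apply Nat.card_congr
  refine
    { toFun := fun t => ⟨(a⁻¹ * t.1.1 * t.1.2, t.1.2⁻¹), (hfwd t.1.1 t.1.2 t.2.1 t.2.2.2).1,
        Y.inv_mem t.2.2.1, (hfwd t.1.1 t.1.2 t.2.1 t.2.2.2).2⟩
      invFun := fun t => ⟨(a * t.1.1 * t.1.2, t.1.2⁻¹), (hbwd t.1.1 t.1.2 t.2.1 t.2.2.2).1,
        Y.inv_mem t.2.2.1, (hbwd t.1.1 t.1.2 t.2.1 t.2.2.2).2⟩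
      left_inv := ?_
      right_inv := ?_ }
  · intro t
    apply Subtype.ext
    apply Prod.ext
    · show a * (a⁻¹ * t.1.1 * t.1.2) * t.1.2⁻¹ = t.1.1
      group
    · show (t.1.2⁻¹)⁻¹ = t.1.2
      group
  · intro t
    apply Subtype.ext
    apply Prod.ext
    · show a⁻¹ * (a * t.1.1 * t.1.2) * t.1.2⁻¹ = t.1.1
      group
    · show (t.1.2⁻¹)⁻¹ = t.1.2
      group

end Cfsg.Agent.S2669
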