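import Cfsg.Statements.S2677
import Mathlib
import Cfsg.Agent.Lib.Helper19.GUField4

set_option autoImplicit false
open Cfsg

namespace Cfsg.Agent.S2677

open Matrix
open Cfsg.Agent.Lib.Helper19.GUField
open scoped MatrixGroups

theorem result {K : Type*} [Field K] [Fintype K] {q₀ q r n : ℕ} (hr : r.Prime) (hr2 : r ≠ 2) (hn : 1 ≤ n) (hq : q = q₀ ^ r) (hK : Fintype.card K = q ^ 2) (σ : K ≃+* K) (hσ : orderOf σ = r) : (Nat.card {g : ↥(Cfsg.GU n K q) // ∃ c : K, c ≠ 0 ∧ ((g : GL (Fin n) K) : Matrix (Fin n) (Fin n) K).map σ = c • ((g : GL (Fin n) K) : Matrix (Fin n) (Fin n) K)} : ℤ) = ((q + 1) / (q₀ + 1) : ℕ) * ((q₀ : ℤ) ^ (n * (n - 1) / 2) * ∏ i : Fin n, ((q₀ : ℤ) ^ ((i : ℕ) + 1) - (-1) ^ ((i : ℕ) + 1))) := by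
  have S : Setup σ q₀ q r := ⟨hσ, hr.odd_of_ne_two hr2, hq, hK⟩
  have h1 : Nat.card {g : ↥(Cfsg.GU n K q) // ∃ c : K, c ≠ 0 ∧ ((g : GL (Fin n) K) : Matrix (Fin n) (Fin n) K).map σ = c • ((g : GL (Fin n) K) : Matrix (Fin n) (Fin n) K)} = Nat.card ↥(Xs n q σ) :=
    Nat.card_congr (Equiv.subtypeEquivRight (fun g => Iff.rfl))
  rw [h1, card_Xs S hn, Nat.cast_mul, Nat.cast_mul, Nat.cast_pow, Nat.cast_prod,
    Fin.prod_univ_eq_prod_range (fun i : ℕ => (q₀ : ℤ) ^ (i + 1) - (-1) ^ (i + 1)) n]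
  congr 2
  apply Finset.prod_congr rfl
  intro i _
  have hq0 : 1 ≤ q₀ ^ (i + 1) := by
    apply Nat.one_le_pow
    rcases Nat.eq_zero_or_pos q₀ with h | h
    · exfalso
      rw [h, zero_pow hr.ne_zero] at hq
      rw [hq] at hK
      have := Fintype.one_lt_card (α := K)
      rw [hK] at this
      simp at this
    · exact h
  by_cases hi : Even i
  · rw [if_pos hi, Odd.neg_one_pow (Even.add_one hi)]
    push_cast
    ring
  · rw [if_neg hi, Even.neg_one_pow (Nat.not_even_iff_odd.1 hi).add_one, Nat.cast_sub hq0]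
    push_cast
    ring

end Cfsg.Agent.S2677
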