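import Cfsg.Statements.S2679
import Mathlib
import Cfsg.Agent.Lib.Helper19.UnitaryOrth
import Cfsg.Agent.Lib.Helper19.QuadExt

set_option autoImplicit false
open Cfsg

namespace Cfsg.Agent.S2679

open Matrix
open Cfsg.Agent.Lib.Helper19.UnitaryOrth (isoHom isoHom_injective)

section basechange

variable {ι : Type*} [Fintype ι] [DecidableEq ι]

/-- The quadratic function of a matrix. -/
def qf {R : Type*} [CommRing R] (M : Matrix ι ι R) (v : ι → R) : R := v ⬝ᵥ (M *ᵥ v)

lemma qf_eq_sum {R : Type*} [CommRing R] (M : Matrix ι ι R) (v : ι → R) :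
    qf M v = ∑ p : ι × ι, v p.1 * M p.1 p.2 * v p.2 := by
  unfold qf
  simp only [dotProduct, mulVec]
  rw [Fintype.sum_prod_type]
  apply Finset.sum_congr rfl
  intro i _
  rw [Finset.mul_sum]
  apply Finset.sum_congr rfl
  intro j _
  ring

lemma qf_mulVec {R : Type*} [CommRing R] (M g : Matrix ι ι R) (u : ι → R) :
    qf M (g *ᵥ u) = qf (gᵀ * M * g) u := by
  unfold qf
  rw [← Matrix.mulVec_mulVec, ← Matrix.mulVec_mulVec, Matrix.dotProduct_mulVec u gᵀ,
    Matrix.vecMul_transpose]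

lemma qf_sub {R : Type*} [CommRing R] (A B : Matrix ι ι R) (u : ι → R) :
    qf (A - B) u = qf A u - qf B u := by
  unfold qf
  rw [Matrix.sub_mulVec, dotProduct_sub]

lemma alt_of_vanish {R : Type*} [CommRing R] (N : Matrix ι ι R) (h : ∀ u, qf N u = 0) :
    (∀ i, N i i = 0) ∧ ∀ i j, N i j + N j i = 0 := by
  have h1 : ∀ i, N i i = 0 := by
    intro i
    have := h (Pi.single i 1)
    unfold qf at this
    rw [Matrix.mulVec_single_one, single_one_dotProduct] at this
    exact this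
  refine ⟨h1, ?_⟩
  intro i j
  have := h (Pi.single i 1 + Pi.single j 1)
  unfold qf at this
  rw [Matrix.mulVec_add, dotProduct_add, add_dotProduct, add_dotProduct,
    Matrix.mulVec_single_one, Matrix.mulVec_single_one, single_one_dotProduct,
    single_one_dotProduct, single_one_dotProduct, single_one_dotProduct] at this
  simp only [Matrix.col_apply] at this
  rw [h1 i, h1 j] at this
  linear_combination this

lemma vanish_of_alt {R S : Type*} [CommRing R] [CommRing S] (f : R →+* S) (N : Matrix ι ι R)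
    (h1 : ∀ i, N i i = 0) (h2 : ∀ i j, N i j + N j i = 0) (v : ι → S) :
    qf (N.map f) v = 0 := by
  rw [qf_eq_sum]
  apply Finset.sum_ninvolution Prod.swap
  · rintro ⟨i, j⟩
    simp only [Prod.swap_prod_mk, Matrix.map_apply]
    have := congrArg f (h2 i j)
    rw [map_add, map_zero] at this
    linear_combination v i * v j * this
  · rintro ⟨i, j⟩ hne hswap
    simp only [Prod.swap_prod_mk, Prod.mk.injEq] at hswap
    obtain ⟨rfl, -⟩ := hswap
    apply hne
    simp [h1]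
  · intro a
    exact Finset.mem_univ _
  · intro a
    exact Prod.swap_swap a

theorem basechange {R S : Type*} [CommRing R] [CommRing S] (f : R →+* S) (M g : Matrix ι ι R)
    (h : ∀ u, qf M (g *ᵥ u) = qf M u) (v : ι → S) :
    qf (M.map f) (g.map f *ᵥ v) = qf (M.map f) v := by
  have hN : ∀ u, qf (gᵀ * M * g - M) u = 0 := by
    intro u
    rw [qf_sub, ← qf_mulVec, h, sub_self]
  obtain ⟨h1, h2⟩ := alt_of_vanish _ hN
  have h3 := vanish_of_alt f _ h1 h2 v
  have e : (gᵀ * M * g - M).map f = (g.map f)ᵀ * M.map f * g.map f - M.map f := by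
    rw [Matrix.map_sub (f := f) (fun a b => map_sub f a b), Matrix.map_mul, Matrix.map_mul,
      Matrix.transpose_map]
  rw [e, qf_sub, ← qf_mulVec] at h3
  exact sub_eq_zero.1 h3

end basechange

section minus

/-- The matrix of the minus-type form. -/
def Mm (n : ℕ) (R : Type*) [CommRing R] (a c : R) :
    Matrix ((Fin n ⊕ Fin n) ⊕ Fin 2) ((Fin n ⊕ Fin n) ⊕ Fin 2) R :=
  fromBlocks (fromBlocks 0 1 0 0) 0 0 !![1, a; 0, c]

lemma qf_Mm (n : ℕ) {R : Type*} [Field R] (a c : R) (v : (Fin n ⊕ Fin n) ⊕ Fin 2 → R) :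
    qf (Mm n R a c) v = Cfsg.quadFormMinus n R a c v := by
  unfold qf Cfsg.quadFormMinus Mm
  simp only [dotProduct, mulVec, Fintype.sum_sum_type, Fin.sum_univ_two, fromBlocks_apply₁₁,
    fromBlocks_apply₁₂, fromBlocks_apply₂₁, fromBlocks_apply₂₂, Matrix.zero_apply, zero_mul,
    Finset.sum_const_zero, add_zero, zero_add, mul_zero, Matrix.one_apply, ite_mul, one_mul,
    Finset.sum_ite_eq, Finset.mem_univ, if_true]
  simp
  ring

lemma Mm_map (n : ℕ) {R S : Type*} [CommRing R] [CommRing S] (f : R →+* S) (a c : R) :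
    (Mm n R a c).map f = Mm n S (f a) (f c) := by
  unfold Mm
  ext x y
  rcases x with (i | i) | i <;> rcases y with (j | j) | j <;>
    simp [Matrix.one_apply, apply_ite f]
  fin_cases i <;> fin_cases j <;> simp

end minus


section splitting

variable {K : Type*} [Field K]

/-- The change of coordinates splitting the binary part. -/
noncomputable def Tsplit (n : ℕ) (θ θ' : K) :
    ((Fin n ⊕ Fin n) ⊕ Fin 2 → K) →ₗ[K] (Fin (n + 1) ⊕ Fin (n + 1) → K) :=
  LinearMap.pi (Sum.elim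
    (Fin.lastCases
      ((LinearMap.proj (Sum.inr 0) : ((Fin n ⊕ Fin n) ⊕ Fin 2 → K) →ₗ[K] K) +
        θ • (LinearMap.proj (Sum.inr 1) : ((Fin n ⊕ Fin n) ⊕ Fin 2 → K) →ₗ[K] K))
      (fun j => (LinearMap.proj (Sum.inl (Sum.inl j)) : ((Fin n ⊕ Fin n) ⊕ Fin 2 → K) →ₗ[K] K)))
    (Fin.lastCases
      ((LinearMap.proj (Sum.inr 0) : ((Fin n ⊕ Fin n) ⊕ Fin 2 → K) →ₗ[K] K) +
        θ' • (LinearMap.proj (Sum.inr 1) : ((Fin n ⊕ Fin n) ⊕ Fin 2 → K) →ₗ[K] K))
      (fun j => (LinearMap.proj (Sum.inl (Sum.inr j)) : ((Fin n ⊕ Fin n) ⊕ Fin 2 → K) →ₗ[K] K))))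

lemma Tsplit_inl_last (n : ℕ) (θ θ' : K) (v : (Fin n ⊕ Fin n) ⊕ Fin 2 → K) :
    Tsplit n θ θ' v (Sum.inl (Fin.last n)) = v (Sum.inr 0) + θ * v (Sum.inr 1) := by
  simp [Tsplit]

lemma Tsplit_inr_last (n : ℕ) (θ θ' : K) (v : (Fin n ⊕ Fin n) ⊕ Fin 2 → K) :
    Tsplit n θ θ' v (Sum.inr (Fin.last n)) = v (Sum.inr 0) + θ' * v (Sum.inr 1) := by
  simp [Tsplit]

lemma Tsplit_inl_cast (n : ℕ) (θ θ' : K) (v : (Fin n ⊕ Fin n) ⊕ Fin 2 → K) (j : Fin n) :
    Tsplit n θ θ' v (Sum.inl (Fin.castSucc j)) = v (Sum.inl (Sum.inl j)) := by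
  simp [Tsplit]

lemma Tsplit_inr_cast (n : ℕ) (θ θ' : K) (v : (Fin n ⊕ Fin n) ⊕ Fin 2 → K) (j : Fin n) :
    Tsplit n θ θ' v (Sum.inr (Fin.castSucc j)) = v (Sum.inl (Sum.inr j)) := by
  simp [Tsplit]

lemma Tsplit_form (n : ℕ) (θ θ' a c : K) (h1 : θ + θ' = a) (h2 : θ * θ' = c)
    (v : (Fin n ⊕ Fin n) ⊕ Fin 2 → K) :
    Cfsg.quadFormPlus (n + 1) K (Tsplit n θ θ' v) = Cfsg.quadFormMinus n K a c v := by
  unfold Cfsg.quadFormPlus Cfsg.quadFormMinus
  rw [Fin.sum_univ_castSucc]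
  simp only [Tsplit_inl_last, Tsplit_inr_last, Tsplit_inl_cast, Tsplit_inr_cast]
  rw [← h1, ← h2]
  ring

lemma Tsplit_injective (n : ℕ) (θ θ' : K) (hne : θ ≠ θ') :
    Function.Injective (Tsplit n θ θ') := by
  rw [injective_iff_map_eq_zero]
  intro v hv
  have e1 := congrFun hv (Sum.inl (Fin.last n))
  have e2 := congrFun hv (Sum.inr (Fin.last n))
  rw [Tsplit_inl_last] at e1
  rw [Tsplit_inr_last] at e2
  simp only [Pi.zero_apply] at e1 e2
  have h1 : v (Sum.inr 1) = 0 := by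
    have : (θ - θ') * v (Sum.inr 1) = 0 := by linear_combination e1 - e2
    exact (mul_eq_zero.1 this).resolve_left (sub_ne_zero.2 hne)
  have h0 : v (Sum.inr 0) = 0 := by
    rw [h1, mul_zero, add_zero] at e1
    exact e1
  funext x
  rcases x with (j | j) | s
  · have := congrFun hv (Sum.inl (Fin.castSucc j))
    rw [Tsplit_inl_cast] at this
    exact this
  · have := congrFun hv (Sum.inr (Fin.castSucc j))
    rw [Tsplit_inr_cast] at this
    exact this
  · fin_cases s
    · exact h0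
    · exact h1

end splitting

lemma main {F K : Type*} [Field F] [Fintype F] [Field K] [Fintype K] {q : ℕ}
    (hF : Fintype.card F = q) (hK : Fintype.card K = q ^ 2) (n : ℕ) (a c : F)
    (hac : ∀ z₁ z₂ : F, z₁ ^ 2 + a * z₁ * z₂ + c * z₂ ^ 2 = 0 → z₁ = 0 ∧ z₂ = 0) :
    ∃ φ : ↥(Cfsg.isometryGroup F (Cfsg.quadFormMinus n F a c)) →*
      ↥(Cfsg.isometryGroup K (Cfsg.quadFormPlus (n + 1) K)), Function.Injective φ := by
  classical
  obtain ⟨f, θ, θ', h1, h2, hne⟩ := Cfsg.Agent.Lib.Helper19.QuadExt.exists_roots hF hK a c hac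
  let ι := (Fin n ⊕ Fin n) ⊕ Fin 2
  let ρ : ↥(Cfsg.isometryGroup F (Cfsg.quadFormMinus n F a c)) →* Module.End K (ι → K) :=
    ((Matrix.toLinAlgEquiv' : Matrix ι ι K ≃ₐ[K] Module.End K (ι → K)) :
        Matrix ι ι K →* Module.End K (ι → K)).comp
      (((f.mapMatrix : Matrix ι ι F →+* Matrix ι ι K) : Matrix ι ι F →* Matrix ι ι K).comp
        ((Units.coeHom (Matrix ι ι F)).comp (Subgroup.subtype _)))
  have hρ_apply : ∀ g v, ρ g v = (g.1.1 : Matrix ι ι F).map f *ᵥ v := by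
    intro g v
    rfl
  have hρ_inj : Function.Injective ρ := by
    intro g g' h
    apply Subtype.ext
    apply Units.ext
    have h1 : (g.1.1 : Matrix ι ι F).map f = (g'.1.1 : Matrix ι ι F).map f := by
      apply Matrix.toLin'.injective
      apply LinearMap.ext
      intro v
      have := congrArg (fun φ => φ v) h
      exact this
    ext x y
    have := congrFun (congrFun h1 x) y
    simp only [Matrix.map_apply] at this
    exact f.injective this
  have hdim : Module.finrank K (ι → K) =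
      Module.finrank K (Fin (n + 1) ⊕ Fin (n + 1) → K) := by
    rw [Module.finrank_fintype_fun_eq_card, Module.finrank_fintype_fun_eq_card]
    simp [ι]
    ring
  let T : (ι → K) ≃ₗ[K] (Fin (n + 1) ⊕ Fin (n + 1) → K) :=
    LinearMap.linearEquivOfInjective (Tsplit n θ θ') (Tsplit_injective n θ θ' hne) hdim
  have hT : ∀ v, Cfsg.quadFormPlus (n + 1) K (T v) = qf (Mm n K (f a) (f c)) v := by
    intro v
    rw [qf_Mm]
    exact Tsplit_form n θ θ' (f a) (f c) h1 h2 v
  have hρ : ∀ (g : ↥(Cfsg.isometryGroup F (Cfsg.quadFormMinus n F a c))) (v : ι → K),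
      Cfsg.quadFormPlus (n + 1) K (T (ρ g v)) = Cfsg.quadFormPlus (n + 1) K (T v) := by
    intro g v
    rw [hT, hT, hρ_apply, ← Mm_map n f a c]
    apply basechange f
    intro u
    rw [qf_Mm, qf_Mm]
    exact g.2 u u
  exact ⟨isoHom _ T ρ hρ, isoHom_injective _ T _ hρ hρ_inj⟩

/-- An elliptic orthogonal group embeds in the hyperbolic orthogonal group of the same dimension over the quadratic extension: for a field F with q elements and a field K with q² elements there is an injective homomorphism from O⁻_2m(F) (isometries of Σ_(j<m−1) x_j y_j + z₁² + a z₁z₂ + c z₂², binary part anisotropic) to O⁺_2m(K) (isometries of Σ_(j<m) x_j y_j over K). -/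
theorem result {F K : Type*} [Field F] [Fintype F] [Field K] [Fintype K] {q : ℕ} (hF : Fintype.card F = q) (hK : Fintype.card K = q ^ 2) {m : ℕ} (hm : 1 ≤ m) (a c : F) (hac : ∀ z₁ z₂ : F, z₁ ^ 2 + a * z₁ * z₂ + c * z₂ ^ 2 = 0 → z₁ = 0 ∧ z₂ = 0) : ∃ φ : ↥(Cfsg.isometryGroup F (Cfsg.quadFormMinus (m - 1) F a c)) →* ↥(Cfsg.isometryGroup K (Cfsg.quadFormPlus m K)), Function.Injective φ := by
  obtain ⟨n, rfl⟩ : ∃ n, m = n + 1 := ⟨m - 1, by omega⟩
  exact main hF hK n a c hac

end Cfsg.Agent.S2679
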