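import Cfsg.Statements.S2680
import Cfsg.Agent.Lib.Helper24.SpCentF

set_option autoImplicit false
open Cfsg
open Cfsg.Agent.Lib.Helper24.SpCent

namespace Cfsg.Agent.S2680

/-- Centraliser order of an involution t of Sp_2m(q), q even, with s = rank(t − 1) odd (type b_s): |C(t)| = q^(2ms − (3s² − s)/2) · |Sp_(s−1)(q)| · |Sp_(2m−2s)(q)|, where |Sp_2k(q)| = q^(k²) Π_(i=1)^k (q^(2i) − 1). -/
theorem result {F : Type*} [Field F] [Fintype F] [CharP F 2] {q : ℕ} (hF : Fintype.card F = q) {m s : ℕ} (t : Matrix.symplecticGroup (Fin m) F) (ht : t ^ 2 = 1) (hs : ((t : Matrix (Fin m ⊕ Fin m) (Fin m ⊕ Fin m) F) - 1).rank = s) (hodd : Odd s) : Nat.card ↥(Subgroup.centralizer ({t} : Set ↥(Matrix.symplecticGroup (Fin m) F))) = q ^ (2 * m * s - (3 * s ^ 2 - s) / 2) * ((q : ℕ) ^ (((s - 1) / 2) ^ 2) * ∏ i : Fin ((s - 1) / 2), (q ^ (2 * ((i : ℕ) + 1)) - 1)) * ((q : ℕ) ^ ((m - s) ^ 2) * ∏ i : Fin (m - s), (q ^ (2 * ((i : ℕ) + 1)) - 1)) := by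
  classical
  subst hF
  obtain ⟨k, hk⟩ := hodd
  subst hk
  have ht' : t * t = 1 := by rw [← pow_two]; exact ht
  have hsm : 2 * k + 1 ≤ m := by
    have := Cfsg.Agent.Lib.Helper27.SpInvol.rank_le_of_sq_zero
      (Cfsg.Agent.Lib.Helper27.SpInvol.Nof_sadj ht') (Cfsg.Agent.Lib.Helper27.SpInvol.Nof_sq ht')
    rw [Cfsg.Agent.Lib.Helper27.SpInvol.Nof_rank, hs] at this
    exact this
  have hnalt : ∀ g : Matrix.symplecticGroup (Fin m) F, g * g = 1 →
      ((g : Matrix (Fin m ⊕ Fin m) (Fin m ⊕ Fin m) F) - 1).rank = 2 * k + 1 →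
      ¬ ∀ v, Cfsg.sympForm m F (Cfsg.Agent.Lib.Helper27.SpInvol.Nof g v) v = 0 := by
    intro g hgg hrk h
    have := Cfsg.Agent.Lib.Helper27.SpInvol.even_rank_of_alt hgg h
    rw [hrk] at this
    obtain ⟨j, hj⟩ := this
    omega
  have hclass : Nat.card {g : Matrix.symplecticGroup (Fin m) F // IsConj t g} =
      Nat.card (CB m (2 * k + 1) F) := by
    apply Nat.card_congr
    apply Equiv.subtypeEquivRight
    intro g
    constructor
    · intro h
      obtain ⟨h1, h2⟩ := conj_rank_sq h ht'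
      exact ⟨h1, by rw [h2, hs]⟩
    · rintro ⟨hgg, hrk⟩
      exact Cfsg.Agent.Lib.Helper27.SpInvol.invol_conj t g ht' hgg (by rw [hs, hrk])
        (iff_of_false (hnalt t ht' hs) (hnalt g hgg hrk))
  have hG : Nat.card {g : Matrix.symplecticGroup (Fin m) F // IsConj t g} *
      Nat.card (Matrix.symplecticGroup (Fin k) F) =
      ∏ i ∈ Finset.range (2 * k + 1), (Fintype.card F ^ (2 * m - i) - Fintype.card F ^ i) := by
    rw [hclass, card_CB, Finset.prod_range_succ]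
    have h1 := card_XS_eq (F := F) (m := m) (k := k)
    rw [card_XS] at h1
    have e1 : k + k = 2 * k := by ring
    rw [e1] at h1
    rw [h1]
    ring
  have h1 := centralizer_formula (q := Fintype.card F) rfl t (2 * k + 1)
    (Nat.card (Matrix.symplecticGroup (Fin k) F)) hsm hG
  rw [h1, Cfsg.Agent.S0245.result (q := Fintype.card F) rfl k]
  have e1 : (2 * k + 1 - 1) / 2 = k := by omega
  rw [e1, Fin.prod_univ_eq_prod_range (fun i => Fintype.card F ^ (2 * (i + 1)) - 1) k,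
    Fin.prod_univ_eq_prod_range (fun i => Fintype.card F ^ (2 * (i + 1)) - 1) (m - (2 * k + 1))]

end Cfsg.Agent.S2680
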