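import Cfsg.Statements.S2681
import Cfsg.Agent.Lib.Helper24.SpCentD

set_option autoImplicit false
open Cfsg
open Cfsg.Agent.Lib.Helper24.SpCent

namespace Cfsg.Agent.S2681

/-- Centraliser order of an involution t of Sp_2m(q), q even, with s = rank(t − 1) even and f(v, tv) = 0 for every v, f the symplectic form (type a_s): |C(t)| = q^(2ms − (3s² − s)/2) · |Sp_s(q)| · |Sp_(2m−2s)(q)|. -/
theorem result {F : Type*} [Field F] [Fintype F] [CharP F 2] {q : ℕ} (hF : Fintype.card F = q) {m s : ℕ} (t : Matrix.symplecticGroup (Fin m) F) (ht : t ^ 2 = 1) (ht1 : t ≠ 1) (hs : ((t : Matrix (Fin m ⊕ Fin m) (Fin m ⊕ Fin m) F) - 1).rank = s) (heven : Even s) (halt : ∀ v : Fin m ⊕ Fin m → F, Cfsg.sympForm m F v ((t : Matrix (Fin m ⊕ Fin m) (Fin m ⊕ Fin m) F).mulVec v) = 0) : Nat.card ↥(Subgroup.centralizer ({t} : Set ↥(Matrix.symplecticGroup (Fin m) F))) = q ^ (2 * m * s - (3 * s ^ 2 - s) / 2) * ((q : ℕ) ^ ((s / 2) ^ 2) * ∏ i : Fin (s / 2), (q ^ (2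 * ((i : ℕ) + 1)) - 1)) * ((q : ℕ) ^ ((m - s) ^ 2) * ∏ i : Fin (m - s), (q ^ (2 * ((i : ℕ) + 1)) - 1)) := by
  classical
  subst hF
  obtain ⟨k, hk⟩ := heven
  subst hk
  have ht' : t * t = 1 := by rw [← pow_two]; exact ht
  have hs' : ((t : Matrix (Fin m ⊕ Fin m) (Fin m ⊕ Fin m) F) - 1).rank = 2 * k := by
    rw [hs]; ring
  have hsm : k + k ≤ m := by
    have := Cfsg.Agent.Lib.Helper27.SpInvol.rank_le_of_sq_zero
      (Cfsg.Agent.Lib.Helper27.SpInvol.Nof_sadj ht') (Cfsg.Agent.Lib.Helper27.SpInvol.Nof_sq ht')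
    rw [Cfsg.Agent.Lib.Helper27.SpInvol.Nof_rank, hs] at this
    exact this
  have hclass : Nat.card {g : Matrix.symplecticGroup (Fin m) F // IsConj t g} =
      Nat.card (CA m k F) := by
    apply Nat.card_congr
    apply Equiv.subtypeEquivRight
    intro g
    exact conj_iff_CA t ht' hs' halt g
  have hG : Nat.card {g : Matrix.symplecticGroup (Fin m) F // IsConj t g} *
      Nat.card (Matrix.symplecticGroup (Fin k) F) =
      ∏ i ∈ Finset.range (k + k), (Fintype.card F ^ (2 * m - i) - Fintype.card F ^ i) := by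
    rw [hclass, ← card_XS_eq, card_XS]
  have h1 := centralizer_formula (q := Fintype.card F) rfl t (k + k)
    (Nat.card (Matrix.symplecticGroup (Fin k) F)) hsm hG
  rw [h1, Cfsg.Agent.S0245.result (q := Fintype.card F) rfl k]
  have e1 : (k + k) / 2 = k := by omega
  rw [e1, Fin.prod_univ_eq_prod_range (fun i => Fintype.card F ^ (2 * (i + 1)) - 1) k,
    Fin.prod_univ_eq_prod_range (fun i => Fintype.card F ^ (2 * (i + 1)) - 1) (m - (k + k))]

end Cfsg.Agent.S2681
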