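import Cfsg.Statements.S2682
import Cfsg.Agent.Lib.Helper24.SpCentG

set_option autoImplicit false
open Cfsg
open Cfsg.Agent.Lib.Helper24.SpCent

namespace Cfsg.Agent.S2682

/-- Centraliser order of an involution t of Sp_2m(q), q even, with s = rank(t − 1) even and f(v, tv) ≠ 0 for some v, f the symplectic form (type c_s): |C(t)| = q^(2ms − (3s² − 3s)/2 − 1) · |Sp_(s−2)(q)| · |Sp_(2m−2s)(q)|. -/
theorem result {F : Type*} [Field F] [Fintype F] [CharP F 2] {q : ℕ} (hF : Fintype.card F = q) {m s : ℕ} (t : Matrix.symplecticGroup (Fin m) F) (ht : t ^ 2 = 1) (hs : ((t : Matrix (Fin m ⊕ Fin m) (Fin m ⊕ Fin m) F) - 1).rank = s) (heven : Even s) (hna : ∃ v : Fin m ⊕ Fin m → F, Cfsg.sympForm m F v ((t : Matrix (Fin m ⊕ Fin m) (Fin m ⊕ Fin m) F).mulVec v) ≠ 0) : Nat.card ↥(Subgroup.centralizer ({t} : Set ↥(Matrix.symplecticGroup (Fin m) F))) = q ^ (2 * m * s - (3 * s ^ 2 - 3 * s) / 2 - 1) * ((q : ℕ) ^ (((s - 2) / 2) ^ 2)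 * ∏ i : Fin ((s - 2) / 2), (q ^ (2 * ((i : ℕ) + 1)) - 1)) * ((q : ℕ) ^ ((m - s) ^ 2) * ∏ i : Fin (m - s), (q ^ (2 * ((i : ℕ) + 1)) - 1)) := by
  classical
  subst hF
  obtain ⟨k, hk⟩ := heven
  subst hk
  have ht' : t * t = 1 := by rw [← pow_two]; exact ht
  have hs' : ((t : Matrix (Fin m ⊕ Fin m) (Fin m ⊕ Fin m) F) - 1).rank = 2 * k := by
    rw [hs]; ring
  have hsm : k + k ≤ m := by
    have := Cfsg.Agent.Lib.Helper27.SpInvol.rank_le_of_sq_zero
      (Cfsg.Agent.Lib.Helper27.SpInvol.Nof_sadj ht') (Cfsg.Agent.Lib.Helper27.SpInvol.Nof_sq ht')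
    rw [Cfsg.Agent.Lib.Helper27.SpInvol.Nof_rank, hs] at this
    exact this
  have htna : ¬ ∀ v, Cfsg.sympForm m F v
      ((t : Matrix (Fin m ⊕ Fin m) (Fin m ⊕ Fin m) F).mulVec v) = 0 := by
    intro h
    obtain ⟨v, hv⟩ := hna
    exact hv (h v)
  have hk1 : 1 ≤ k := by
    by_contra hk0
    have hk0' : k = 0 := by omega
    subst hk0'
    apply htna
    intro v
    have h0 : (t : Matrix (Fin m ⊕ Fin m) (Fin m ⊕ Fin m) F) - 1 = 0 := by
      have h0' : Module.finrank F (LinearMap.range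
          ((t : Matrix (Fin m ⊕ Fin m) (Fin m ⊕ Fin m) F) - 1).mulVecLin) = 0 := hs
      have hbot := Submodule.finrank_eq_zero.mp h0'
      rw [Matrix.ext_iff_mulVec]
      intro w
      have h3 : ((t : Matrix (Fin m ⊕ Fin m) (Fin m ⊕ Fin m) F) - 1).mulVecLin w ∈
          LinearMap.range ((t : Matrix (Fin m ⊕ Fin m) (Fin m ⊕ Fin m) F) - 1).mulVecLin :=
        LinearMap.mem_range_self _ w
      rw [hbot, Submodule.mem_bot, Matrix.mulVecLin_apply] at h3
      rw [h3, Matrix.zero_mulVec]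
    rw [sub_eq_zero.mp h0, Matrix.one_mulVec]
    exact Cfsg.Agent.Lib.Helper27.SympTransv.sf_self v
  obtain ⟨j, rfl⟩ : ∃ j, k = j + 1 := ⟨k - 1, by omega⟩
  have hclass : Nat.card {g : Matrix.symplecticGroup (Fin m) F // IsConj t g} =
      Nat.card (CC m (j + 1) F) := by
    apply Nat.card_congr
    apply Equiv.subtypeEquivRight
    intro g
    constructor
    · intro h
      obtain ⟨h1, h2⟩ := conj_rank_sq h ht'
      exact ⟨h1, by rw [h2, hs'], fun hg => htna (conj_alt h.symm hg)⟩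
    · rintro ⟨hgg, hrk, hgna⟩
      exact Cfsg.Agent.Lib.Helper27.SpInvol.invol_conj t g ht' hgg (by rw [hs', hrk])
        (iff_of_false
          (fun h => htna ((Cfsg.Agent.Lib.Helper27.SpInvol.Nof_alt_iff t).mp h))
          (fun h => hgna ((Cfsg.Agent.Lib.Helper27.SpInvol.Nof_alt_iff g).mp h)))
  obtain ⟨q, hq⟩ : ∃ q, q = Fintype.card F := ⟨_, rfl⟩
  have hq2 : 2 ≤ q := by rw [hq]; exact Fintype.one_lt_card
  have hSp : Nat.card (Matrix.symplecticGroup (Fin (j + 1)) F) =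
      (q ^ (2 * (j + 1)) - 1) * (q ^ (2 * j + 1) *
        (q ^ (j ^ 2) * ∏ i ∈ Finset.range j, (q ^ (2 * (i + 1)) - 1))) := by
    rw [Cfsg.Agent.S0245.result (q := q) hq.symm (j + 1), Finset.prod_range_succ]
    have : q ^ ((j + 1) ^ 2) = q ^ (2 * j + 1) * q ^ (j ^ 2) := by
      rw [← pow_add]
      congr 1
      ring
    rw [this]
    ring
  have hG : Nat.card {g : Matrix.symplecticGroup (Fin m) F // IsConj t g} *
      (q ^ (2 * j + 1) * (q ^ (j ^ 2) * ∏ i ∈ Finset.range j, (q ^ (2 * (i + 1)) - 1))) =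
      ∏ i ∈ Finset.range (j + 1 + (j + 1)), (q ^ (2 * m - i) - q ^ i) := by
    rw [hclass, card_CC, ← hq]
    have h1 := card_XS_eq (F := F) (m := m) (k := j + 1)
    rw [card_XS, ← hq, hSp] at h1
    rw [h1]
    ring
  have h1 := centralizer_formula (q := q) hq.symm t (j + 1 + (j + 1)) _ hsm hG
  rw [← hq, h1]
  have e1 : (j + 1 + (j + 1) - 2) / 2 = j := by omega
  rw [e1, Fin.prod_univ_eq_prod_range (fun i => q ^ (2 * (i + 1)) - 1) j,
    Fin.prod_univ_eq_prod_range (fun i => q ^ (2 * (i + 1)) - 1) (m - (j + 1 + (j + 1)))]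
  have e2 : (j + 1 + (j + 1)) ^ 2 = 4 * (j * j) + 8 * j + 4 := by ring
  have e3 : 2 * m * (j + 1 + (j + 1)) = 4 * (m * j) + 4 * m := by ring
  have e4 : 2 * (j * j) + 2 * j ≤ m * j := by
    have := Nat.mul_le_mul_right j hsm
    have e5 : (j + 1 + (j + 1)) * j = 2 * (j * j) + 2 * j := by ring
    rw [e5] at this
    exact this
  have hexp : 2 * m * (j + 1 + (j + 1)) - (3 * (j + 1 + (j + 1)) ^ 2 - (j + 1 + (j + 1))) / 2 +
      (2 * j + 1) =
      2 * m * (j + 1 + (j + 1)) - (3 * (j + 1 + (j + 1)) ^ 2 - 3 * (j + 1 + (j + 1))) / 2 - 1 := by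
    rw [e2, e3]
    omega
  rw [← hexp, pow_add]
  ring

end Cfsg.Agent.S2682
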