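import Cfsg.Statements.S2689
import Mathlib
import Cfsg.Agent.Lib.Helper19.AutPSL12

set_option autoImplicit false
open Cfsg

namespace Cfsg.Agent.S2689

open Cfsg.Agent.Lib.Helper19.PSLGraph Cfsg.Agent.Lib.Helper19.AutPSL

/-- The automorphism group of a simple projective special linear group PSL_n(F) over a finite field (n ≥ 2; |F| ≥ 4 when n = 2) is generated by the automorphisms induced by invertible semilinear maps of F^n (the image of the projective semilinear group) together with the inverse-transpose automorphism. -/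
theorem result {F : Type*} [Field F] [Fintype F] {p f : ℕ} [Fact p.Prime] (hF : Fintype.card F = p ^ f) (hf : 1 ≤ f) {n : ℕ} (hn : 2 ≤ n) (hs : n = 2 → 4 ≤ Fintype.card F) :
    Cfsg.gammaPSL n F ⊔ Cfsg.autSubgroupOf (fun β : Matrix.ProjectiveSpecialLinearGroup (Fin n) F ≃* Matrix.ProjectiveSpecialLinearGroup (Fin n) F => Cfsg.IsInverseTransposeAutPSL β) = ⊤ := by
  haveI : CharP F p := charP_of_card_eq_prime_pow hF
  rw [eq_top_iff]
  intro β _
  have hmem : ∀ (g : GL (Fin n) F) (τ : F ≃+* F), Phi g * fieldAut τ ∈ Cfsg.gammaPSL n F :=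
    fun g τ => Subgroup.subset_closure ⟨g, τ, isInduced_Phi_fieldAut g τ⟩
  have hι : (iota0 : MulAut (Matrix.ProjectiveSpecialLinearGroup (Fin n) F)) ∈
      Cfsg.autSubgroupOf (fun β : Matrix.ProjectiveSpecialLinearGroup (Fin n) F ≃* Matrix.ProjectiveSpecialLinearGroup (Fin n) F => Cfsg.IsInverseTransposeAutPSL β) :=
    Subgroup.subset_closure isInverseTranspose_iota0
  obtain ⟨g, τ, e | e⟩ := aut_psl p hn β
  · rw [e]
    exact Subgroup.mem_sup_left (hmem g τ)
  · rw [e]
    exact Subgroup.mul_mem_sup (hmem g τ) hι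

end Cfsg.Agent.S2689
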