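import Cfsg.Statements.S2697
import Mathlib
import Cfsg.Agent.Lib.Helper19.AutPSL24

set_option autoImplicit false
open Cfsg

namespace Cfsg.Agent.S2697

open Cfsg.Agent.Lib.Helper19.AutPSL Cfsg.Agent.Lib.Helper19.PSLGraph

/-- transfer of the coset statement along a conjugation by an inner-diagonal automorphism -/
lemma coset_transfer {n : ℕ} {F : Type*} [Field F]
    (z x δ : MulAut (Matrix.ProjectiveSpecialLinearGroup (Fin n) F)) (g d₀ : GL (Fin n) F)
    (ex : x = Phi g * z * (Phi g)⁻¹) (hδ : δ = Phi d₀) (k : ℕ) (hk : (δ * x) ^ k = 1)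
    (H : ∀ d : GL (Fin n) F, (Phi d * z) ^ k = 1 → ∃ a : GL (Fin n) F,
      Phi d * z = Phi a * z * (Phi a)⁻¹) :
    Cfsg.IsConjUnder (Cfsg.inndiagPSL n F) x (δ * x) := by
  have e1 : Phi (g⁻¹ * d₀ * g) * z = MulAut.conj (Phi g)⁻¹ (δ * x) := by
    rw [MulAut.conj_apply, inv_inv, ex, hδ, map_mul, map_mul, map_inv]
    group
  have e2 : (Phi (g⁻¹ * d₀ * g) * z) ^ k = 1 := by
    rw [e1, ← map_pow, hk, map_one]
  obtain ⟨a, ha⟩ := H _ e2
  refine ⟨Phi (g * a * g⁻¹), Phi_mem_inndiag _, ?_⟩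
  have e3 : δ * x = Phi g * (Phi (g⁻¹ * d₀ * g) * z) * (Phi g)⁻¹ := by
    rw [e1, MulAut.conj_apply, inv_inv]
    group
  rw [e3, ha, map_mul, map_mul, map_inv]
  conv_rhs => rw [ex]
  group

open Cfsg.Agent.Lib.Helper19.GUField in
/-- Let T = PSL_n(F) be simple over a finite field (n ≥ 2; |F| ≥ 4 when n = 2) and let x be a field automorphism or a graph-field automorphism of T of prime order r. Then an element y of the coset Inndiag(T)·x (that is, y = δ x with δ in the inner-diagonal group, the image of PGL_n(F)) has order r if and only if y is conjugate to x by an element of Inndiag(T). -/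
theorem result {F : Type*} [Field F] [Fintype F] {p f : ℕ} [Fact p.Prime] (hF : Fintype.card F = p ^ f) (hf : 1 ≤ f) {n : ℕ} (hn : 2 ≤ n) (hs : n = 2 → 4 ≤ Fintype.card F) (x δ : MulAut (Matrix.ProjectiveSpecialLinearGroup (Fin n) F)) (hx : Cfsg.IsFieldAutClassPSL x ∨ Cfsg.IsGraphFieldAutClassPSL x) {r : ℕ} (hr : r.Prime) (hxr : orderOf x = r) (hδ : δ ∈ Cfsg.inndiagPSL n F) :
    orderOf (δ * x) = r ↔ Cfsg.IsConjUnder (Cfsg.inndiagPSL n F) x (δ * x) := by
  classical
  haveI : CharP F p := charP_of_card_eq_prime_pow hF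
  constructor
  swap
  · rintro ⟨h, _, e⟩
    have : δ * x = MulAut.conj h x := by rw [e, MulAut.conj_apply]
    rw [this, MulEquiv.orderOf_eq, hxr]
  intro hy
  have hyr : (δ * x) ^ r = 1 := by rw [← hy, pow_orderOf_eq_one]
  have hδ' := hδ
  rw [inndiag_eq] at hδ'
  obtain ⟨d₀, hd₀⟩ := hδ'
  rcases hx with hx | hx
  · obtain ⟨σ, g, hσ, ex⟩ := fa_normal_form p hn x hx
    have hoz : orderOf (fieldAut (N := n) σ) = r := by
      have h1 : x = MulAut.conj (Phi g) (fieldAut (N := n) σ) := by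
        rw [ex, MulAut.conj_apply]
      rw [← hxr, h1, MulEquiv.orderOf_eq]
    rw [orderOf_fieldAut hn] at hoz
    exact coset_transfer (fieldAut (N := n) σ) x δ g d₀ ex hd₀.symm r hyr
      (fun d hd => fieldAut_coset_conj (by omega) σ hoz hr.pos d hd)
  · have hn3 : 3 ≤ n := hx.1
    have hr2 : r = 2 := by
      obtain ⟨_, α, φ, γ, σ, hσ, hφ, hγ, e⟩ := hx
      rw [std_eq_fieldAut σ φ hφ, iota_eq γ hγ] at e
      have e' : zgf (n := n) σ = MulAut.conj α x := by
        rw [MulAut.conj_apply, e]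
        rfl
      apply gf_order_two hn σ hr
      rw [e', ← map_pow, ← hxr, pow_orderOf_eq_one, map_one]
    subst hr2
    obtain ⟨q, σ, g, hq, hfrob, ex⟩ := gf_normal_form p hn3 x hx hxr
    exact coset_transfer (zgf (n := n) σ) x δ g d₀ ex hd₀.symm 2 hyr
      (fun d hd => zgf_coset_conj hq (by omega) σ hfrob d hd)

end Cfsg.Agent.S2697
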