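import Cfsg.Statements.S2698
import Mathlib
import Cfsg.Agent.Lib.Helper19.AutPSL21

set_option autoImplicit false
open Cfsg

namespace Cfsg.Agent.S2698

open Cfsg.Agent.Lib.Helper19.AutPSL Cfsg.Agent.Lib.Helper19.PSLGraph Cfsg.Agent.Lib.Helper19.GUField in
/-- Let T = PSL_n(F) be simple over the field F with p^f elements (n ≥ 2; p^f ≥ 4 when n = 2), G = Inndiag(T) the image of PGL_n(F) in Aut(T), and x a field automorphism of T of prime order r. Then r divides f; the centralizer C_G(x) is isomorphic to PGL_n(F₀) for the subfield size |F₀| = p^(f/r); and the G-class of x is the union of exactly gcd(n, (p^f − 1)/(p^(f/r) − 1)) classes under conjugation by T (the inner automorphism group). -/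
theorem result {F : Type*} [Field F] [Fintype F] {p f : ℕ} [Fact p.Prime] (hF : Fintype.card F = p ^ f) (hf : 1 ≤ f) {n : ℕ} (hn : 2 ≤ n) (hs : n = 2 → 4 ≤ Fintype.card F) (x : MulAut (Matrix.ProjectiveSpecialLinearGroup (Fin n) F)) (hx : Cfsg.IsFieldAutClassPSL x) {r : ℕ} (hr : r.Prime) (hxr : orderOf x = r) (F₀ : Type*) [Field F₀] [Fintype F₀] (hF₀ : Fintype.card F₀ = p ^ (f / r)) :
    r ∣ f ∧ Nonempty (↥(Cfsg.inndiagPSL n F ⊓ Subgroup.centralizer {x}) ≃* Matrix.ProjGenLinGroup (Fin n) F₀) ∧ Cfsg.splitClassCount (Cfsg.inndiagPSL n F) (Cfsg.Inn (Matrix.ProjectiveSpecialLinearGroup (Fin n) F)) x = Nat.gcd n ((p ^ f - 1) / (p ^ (f / r) - 1)) := by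
  classical
  haveI : CharP F p := charP_of_card_eq_prime_pow hF
  obtain ⟨σ, g, hσ, ex⟩ := fa_normal_form p hn x hx
  -- the order of `σ`
  have hoz : orderOf (fieldAut (N := n) σ) = r := by
    have h1 : x = MulAut.conj (Phi g) (fieldAut (N := n) σ) := by
      rw [ex, MulAut.conj_apply]
    rw [← hxr, h1, MulEquiv.orderOf_eq]
  rw [orderOf_fieldAut hn] at hoz
  have hrf : r ∣ f := by
    have h1 := orderOf_dvd_natCard (σ : RingAut F)
    rw [hoz, Cfsg.Agent.Lib.Helper14.OutL2.card_ringAut F p f hF] at h1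
    exact h1
  obtain ⟨m, rfl⟩ := hrf
  have hr0 : 0 < r := hr.pos
  have hm : r * m / r = m := Nat.mul_div_cancel_left m hr0
  rw [hm] at hF₀ ⊢
  have hm1 : 1 ≤ m := by
    rcases Nat.eq_zero_or_pos m with h | h
    · subst h; omega
    · exact h
  have hcf : Fintype.card ↥(fixSub σ) = p ^ m := by
    apply card_fixSub σ hoz hr0
    rw [hF, ← pow_mul, mul_comm]
  let e : F₀ ≃+* ↥(fixSub σ) := FiniteField.ringEquivOfCardEq (by rw [hF₀, hcf])
  let j : F₀ →+* F := (fixSub σ).subtype.comp (e : F₀ →+* ↥(fixSub σ))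
  have hj : ∀ b, σ (j b) = j b := by
    intro b
    exact (mem_fixSub σ _).1 (e b).2
  have hj' : ∀ a : F, σ a = a → ∃ b, j b = a := by
    intro a ha
    refine ⟨e.symm ⟨a, (mem_fixSub σ a).2 ha⟩, ?_⟩
    show ((e (e.symm ⟨a, (mem_fixSub σ a).2 ha⟩) : ↥(fixSub σ)) : F) = a
    rw [RingEquiv.apply_symm_apply]
  have hdvd : (Fintype.card F₀ - 1) ∣ (Fintype.card F - 1) := by
    rw [hF₀, hF, mul_comm r m, pow_mul]
    exact Nat.sub_one_dvd_pow_sub_one (p ^ m) r
  refine ⟨Dvd.intro _ rfl, ?_, ?_⟩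
  · rw [ex]
    obtain ⟨e1⟩ := centralizer_conj_equiv (Cfsg.inndiagPSL n F) (Phi g) (Phi_mem_inndiag g)
      (fieldAut (N := n) σ)
    obtain ⟨e2⟩ := centralizer_equiv' (fieldAut (N := n) σ)
    obtain ⟨e3⟩ := projQuot_CentGL_fieldAut (n := n) (by omega) σ j hj hj'
    exact ⟨(e1.trans e2).trans e3⟩
  · rw [ex, splitClassCount_eq (by omega), detCent_conj,
      card_quot_detCent_fieldAut (n := n) (by omega) σ j hj hj' hdvd, hF₀, hF]

end Cfsg.Agent.S2698
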