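import Cfsg.Statements.S2699
import Mathlib
import Cfsg.Agent.Lib.Helper19.PSLGraph
import Cfsg.Agent.Lib.Helper19.PSLGraph2
import Cfsg.Agent.Lib.Helper19.PSLGraph3
import Cfsg.Agent.Lib.Helper19.PSLGraph4
import Cfsg.Agent.Lib.Helper19.PSLGraph5
import Cfsg.Agent.Lib.Helper19.PSLGraph7
import Cfsg.Agent.Lib.Helper19.PSLGraph8
import Cfsg.Agent.Lib.Helper19.PSLGraph9

set_option autoImplicit false
open Cfsg

namespace Cfsg.Agent.S2699

open Cfsg.Agent.Lib.Helper19.PSLGraph Matrix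
open Cfsg.Agent.Lib.Helper19.QuadWitt Cfsg.Agent.Lib.Helper19.QuadStd
open scoped MatrixGroups

section aux

variable {F : Type*} [Field F] {ι₁ ι₂ : Type} [Fintype ι₁] [DecidableEq ι₁] [Fintype ι₂]
  [DecidableEq ι₂]

theorem pgo_congr_scal (E : (ι₁ → F) ≃ₗ[F] (ι₂ → F)) (Q₁ : (ι₁ → F) → F) (Q₂ : (ι₂ → F) → F)
    (c : F) (hc : c ≠ 0) (hQ : ∀ v, Q₂ (E v) = c * Q₁ v) :
    Nonempty (Cfsg.PGO F Q₁ ≃* Cfsg.PGO F Q₂) := by
  apply projQuot_congr E
  intro h
  constructor
  · rintro ⟨d, hd⟩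
    refine ⟨d, fun w => ?_⟩
    obtain ⟨v, rfl⟩ := E.surjective w
    rw [theta_mulVec, hQ, hQ, hd]
    ring
  · rintro ⟨d, hd⟩
    refine ⟨d, fun v => ?_⟩
    have := hd (E v)
    rw [theta_mulVec, hQ, hQ] at this
    apply mul_left_cancel₀ hc
    linear_combination this

end aux

section odd

variable {F : Type*} [Field F] [Fintype F]

theorem normal_form_odd (h2 : (2 : F) ≠ 0) (m : ℕ) (A : GL (Fin (2 * m + 1)) F)
    (hA : A.1ᵀ = A.1) :
    ∃ (E : (Fin (2 * m + 1) → F) ≃ₗ[F] (Unit ⊕ (Fin m ⊕ Fin m) → F)) (c : F), c ≠ 0 ∧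
      ∀ u, Cfsg.quadFormOdd m F (E u) = c * QA A.1 u := by
  classical
  have hdet := (Matrix.isUnit_iff_isUnit_det _).1 A.isUnit
  have hQ := qfA_nondeg h2 A.1 hA hdet
  have hV : Module.finrank F (Fin (2 * m + 1) → F) = 2 * m + 1 := Module.finrank_fin_fun F
  obtain ⟨e, f, x, h, hx, hQx⟩ := odd_structure (Q := qfA A.1) hQ hV
  have hx0 : x ≠ 0 := by
    rintro rfl
    exact hQx (map_zero _)
  have hli := odd_linearIndependent h hx hx0
  let b := basisOfLinearIndependentOfCardEqFinrank hli (by rw [hV]; simp; ring)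
  have hb : ⇑b = Sum.elim (fun _ : Unit => x) (Sum.elim e f) :=
    coe_basisOfLinearIndependentOfCardEqFinrank _ _
  have hE : ∀ u, QA A.1 u = ∑ i, b.equivFun u (Sum.inr (Sum.inl i)) * b.equivFun u (Sum.inr (Sum.inr i)) +
      b.equivFun u (Sum.inl ()) ^ 2 * qfA A.1 x := by
    intro u
    rw [← qfA_apply]
    conv_lhs => rw [← b.sum_repr u, hb, Q_fam_odd h hx]
    rfl
  set c := qfA A.1 x with hcdef
  let w : Unit ⊕ (Fin m ⊕ Fin m) → F :=
    Sum.elim (fun _ => 1) (Sum.elim (fun _ => 1) (fun _ => c⁻¹))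
  have hw : ∀ s, w s ≠ 0 := by
    rintro (u | i | i)
    · simp [w]
    · simp [w]
    · simpa [w] using hQx
  let D : (Unit ⊕ (Fin m ⊕ Fin m) → F) ≃ₗ[F] (Unit ⊕ (Fin m ⊕ Fin m) → F) :=
    LinearEquiv.piCongrRight (fun s => LinearEquiv.smulOfNeZero F F (w s) (hw s))
  have hD : ∀ r s, D r s = w s * r s := fun r s => rfl
  refine ⟨b.equivFun.trans D, c⁻¹, inv_ne_zero hQx, fun u => ?_⟩
  rw [LinearEquiv.trans_apply, hE]
  unfold Cfsg.quadFormOdd
  simp only [hD, w, Sum.elim_inl, Sum.elim_inr, one_mul]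
  rw [mul_add, Finset.mul_sum, add_comm]
  congr 1
  · apply Finset.sum_congr rfl
    intro i _
    ring
  · field_simp

end odd

theorem result {F : Type*} [Field F] [Fintype F] {p f : ℕ} [Fact p.Prime] (hF : Fintype.card F = p ^ f) (hf : 1 ≤ f) {n : ℕ} (hn : 3 ≤ n) {m : ℕ} (hnm : n = 2 * m + 1) (γ γ' : MulAut (Matrix.ProjectiveSpecialLinearGroup (Fin n) F)) (hγ : Cfsg.IsGraphAutClassPSL γ) (hγ2 : orderOf γ = 2) (hγ' : Cfsg.IsGraphAutClassPSL γ') (hγ'2 : orderOf γ' = 2) :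
    Nonempty (↥(Cfsg.inndiagPSL n F ⊓ Subgroup.centralizer {γ}) ≃* Cfsg.PGO F (Cfsg.quadFormOdd m F)) ∧ Cfsg.IsConjUnder (Cfsg.inndiagPSL n F) γ γ' := by
  classical
  subst hnm
  obtain ⟨A, rfl⟩ := (isGraphAut_iff hn γ).1 hγ
  obtain ⟨A', rfl⟩ := (isGraphAut_iff hn γ').1 hγ'
  have hsymm : ∀ A : GL (Fin (2 * m + 1)) F, orderOf (gam A) = 2 → A.1ᵀ = A.1 := by
    intro A hA2
    obtain ⟨c, hc, hAc⟩ := transpose_of_order_two A hA2
    by_cases h2 : (2 : F) = 0
    · have : c = 1 := sq_inj2 h2 (by rw [hc, one_mul])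
      rw [hAc, this, one_smul]
    · rcases mul_self_eq_one_iff.1 hc with h1 | h1
      · rw [hAc, h1, one_smul]
      · exfalso
        have hdet := (Matrix.isUnit_iff_isUnit_det _).1 A.isUnit
        have h3 := congrArg Matrix.det hAc
        rw [Matrix.det_transpose, Matrix.det_smul, Fintype.card_fin, h1,
          Odd.neg_one_pow ⟨m, rfl⟩] at h3
        have h4 : (2 : F) * A.1.det = 0 := by linear_combination h3
        rcases mul_eq_zero.1 h4 with h5 | h5
        · exact h2 h5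
        · exact hdet.ne_zero h5
  have hA := hsymm A hγ2
  have hA' := hsymm A' hγ'2
  by_cases h2 : (2 : F) = 0
  · obtain ⟨E, hE⟩ := normal_form_char2 h2 m A hA
    obtain ⟨E', hE'⟩ := normal_form_char2 h2 m A' hA'
    constructor
    · obtain ⟨e1⟩ := centralizer_bil A
      obtain ⟨e2⟩ := sim_congr E (BA A.1) (BB2 (F := F) (m := m)) hE
      obtain ⟨e3⟩ := projQuot_BB2_PGO (F := F) (m := m) h2
      exact ⟨e1.trans (e2.trans e3)⟩
    · rw [Cfsg.Agent.Lib.Helper19.PSLGraph.isConj_iff]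
      refine ⟨glOfEquiv (E'.trans E.symm), 1, ?_⟩
      rw [Units.val_one, one_smul]
      apply sub_eq_zero.1
      apply eq_zero_of_bil_zero
      intro u v
      rw [Matrix.sub_mulVec, dotProduct_sub, ← dot_mulVec_mulVec, glOfEquiv_mulVec, glOfEquiv_mulVec]
      have h1 := hE ((E'.trans E.symm) u) ((E'.trans E.symm) v)
      rw [LinearEquiv.trans_apply, LinearEquiv.trans_apply, LinearEquiv.apply_symm_apply,
        LinearEquiv.apply_symm_apply, hE'] at h1
      unfold BA at h1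
      rw [LinearEquiv.trans_apply, LinearEquiv.trans_apply, ← h1, sub_self]
  · obtain ⟨E, c, hc, hE⟩ := normal_form_odd h2 m A hA
    obtain ⟨E', c', hc', hE'⟩ := normal_form_odd h2 m A' hA'
    constructor
    · obtain ⟨e1⟩ := centralizer_pgo h2 A hA
      obtain ⟨e2⟩ := pgo_congr_scal E (QA A.1) (Cfsg.quadFormOdd m F) c hc hE
      exact ⟨e1.trans e2⟩
    · rw [Cfsg.Agent.Lib.Helper19.PSLGraph.isConj_iff]
      refine ⟨glOfEquiv (E'.trans E.symm), Units.mk0 (c' / c) (div_ne_zero hc' hc), ?_⟩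
      rw [Units.val_mk0]
      apply sub_eq_zero.1
      apply eq_zero_of_quad_zero h2
      · rw [transpose_sub, transpose_smul, transpose_mul, transpose_mul, transpose_transpose, hA, hA',
          mul_assoc]
      · intro v
        rw [Matrix.sub_mulVec, dotProduct_sub, ← dot_mulVec_mulVec, glOfEquiv_mulVec]
        have h1 := hE ((E'.trans E.symm) v)
        rw [LinearEquiv.trans_apply, LinearEquiv.apply_symm_apply, hE'] at h1
        unfold QA at h1
        rw [Matrix.smul_mulVec, dotProduct_smul, smul_eq_mul, LinearEquiv.trans_apply]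
        field_simp
        linear_combination (-1 : F) * h1

end Cfsg.Agent.S2699
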