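import Cfsg.Statements.S2700
import Mathlib
import Cfsg.Agent.Lib.Helper19.PSLGraph
import Cfsg.Agent.Lib.Helper19.PSLGraph2
import Cfsg.Agent.Lib.Helper19.PSLGraph3
import Cfsg.Agent.Lib.Helper19.PSLGraph4
import Cfsg.Agent.Lib.Helper19.PSLGraph5
import Cfsg.Agent.Lib.Helper19.PSLGraph6
import Cfsg.Agent.Lib.Helper19.PSLGraph7

set_option autoImplicit false
open Cfsg

namespace Cfsg.Agent.S2700

open Cfsg.Agent.Lib.Helper19.PSLGraph Matrix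
open scoped MatrixGroups

theorem result {F : Type*} [Field F] [Fintype F] (hodd : Odd (Fintype.card F)) {n m : ℕ} (hm : 2 ≤ m) (hnm : n = 2 * m) :
    ∃ (γ₁ γ₂ γ₃ : MulAut (Matrix.ProjectiveSpecialLinearGroup (Fin n) F)) (a b : F), (∀ z₁ z₂ : F, z₁ ^ 2 + a * z₁ * z₂ + b * z₂ ^ 2 = 0 → z₁ = 0 ∧ z₂ = 0) ∧ Cfsg.IsGraphAutClassPSL γ₁ ∧ orderOf γ₁ = 2 ∧ Cfsg.IsGraphAutClassPSL γ₂ ∧ orderOf γ₂ = 2 ∧ Cfsg.IsGraphAutClassPSL γ₃ ∧ orderOf γ₃ = 2 ∧ ¬ Cfsg.IsConjUnder (Cfsg.inndiagPSL n F) γ₁ γ₂ ∧ ¬ Cfsg.IsConjUnder (Cfsg.inndiagPSL n F) γ₁ γ₃ ∧ ¬ Cfsg.IsConjUnder (Cfsg.inndiagPSL n F) γ₂ γ₃ ∧ (∀ γ : MulAut (Matrix.ProjectiveSpecialLinearGroup (Fin n) F), Cfsg.IsGraphAutClassPSL γ → orderOf γ = 2 → Cfsg.IsConjUnder (Cfsg.inndiagPSL n F) γ₁ γ ∨ Cfsg.IsConjUnder (Cfsg.inndiagPSL n F) γ₂ γ ∨ Cfsg.IsConjUnder (Cfsg.inndiagPSL n F) γ₃ γ) ∧ Nonempty (↥(Cfsg.inndiagPSL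 n F ⊓ Subgroup.centralizer {γ₁}) ≃* Cfsg.PGSp m F) ∧ Nonempty (↥(Cfsg.inndiagPSL n F ⊓ Subgroup.centralizer {γ₂}) ≃* Cfsg.PGO F (Cfsg.quadFormPlus m F)) ∧ Nonempty (↥(Cfsg.inndiagPSL n F ⊓ Subgroup.centralizer {γ₃}) ≃* Cfsg.PGO F (Cfsg.quadFormMinus (m - 1) F a b)) := by
  subst hnm
  classical
  have h2 : (2 : F) ≠ 0 := by
    intro h
    have h2 : ringChar F = 2 := CharP.ringChar_of_prime_eq_zero Nat.prime_two h
    have := FiniteField.even_card_of_char_two h2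
    rcases hodd with ⟨k, hk⟩
    omega
  have hn3 : 3 ≤ 2 * m := by omega
  have hn1 : 1 ≤ 2 * m := by omega
  have hchar : ringChar F ≠ 2 := by
    intro h
    apply h2
    have := CharP.cast_eq_zero F (ringChar F)
    rw [h] at this
    exact_mod_cast this
  obtain ⟨ν, hν⟩ := FiniteField.exists_nonsquare hchar
  have hν0 : ν ≠ 0 := fun h => hν (h ▸ IsSquare.zero)
  let i0 : Fin (2 * m) := ⟨0, by omega⟩
  have hs0 : ((-1 : F) ^ m) ≠ 0 := pow_ne_zero _ (neg_ne_zero.2 one_ne_zero)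
  set Ap : GL (Fin (2 * m)) F := Dg (2 * m) i0 ((-1 : F) ^ m) hs0 with hApdef
  set Am : GL (Fin (2 * m)) F := Dg (2 * m) i0 ((-1 : F) ^ m * ν) (mul_ne_zero hs0 hν0) with hAmdef
  have hsq1 : ((-1 : F) ^ m) * ((-1 : F) ^ m) = 1 := by
    rw [← pow_add, ← two_mul, pow_mul]
    simp
  have hApT : (Ap : Matrix (Fin (2 * m)) (Fin (2 * m)) F)ᵀ = (Ap : Matrix (Fin (2 * m)) (Fin (2 * m)) F) :=
    Dg_transpose _ _ _ _
  have hAmT : (Am : Matrix (Fin (2 * m)) (Fin (2 * m)) F)ᵀ = (Am : Matrix (Fin (2 * m)) (Fin (2 * m)) F) :=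
    Dg_transpose _ _ _ _
  have hApdet : (Ap : Matrix (Fin (2 * m)) (Fin (2 * m)) F).det = (-1 : F) ^ m := Dg_det _ _ _ _
  have hAmdet : (Am : Matrix (Fin (2 * m)) (Fin (2 * m)) F).det = (-1 : F) ^ m * ν := Dg_det _ _ _ _
  have hAp : IsSquare ((-1 : F) ^ m * (Ap : Matrix (Fin (2 * m)) (Fin (2 * m)) F).det) := by
    rw [hApdet]
    exact ⟨(-1) ^ m, rfl⟩
  have hAm : ¬ IsSquare ((-1 : F) ^ m * (Am : Matrix (Fin (2 * m)) (Fin (2 * m)) F).det) := by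
    rw [hAmdet, ← mul_assoc, hsq1, one_mul]
    exact hν
  have hAJT : ((AJ m F : GL (Fin (2 * m)) F) : Matrix (Fin (2 * m)) (Fin (2 * m)) F)ᵀ =
      -((AJ m F : GL (Fin (2 * m)) F) : Matrix (Fin (2 * m)) (Fin (2 * m)) F) := by
    rw [AJ_coe]
    exact AJmat_transpose m
  obtain ⟨hplus, -⟩ := pgo_symm_even h2 m (by omega) (Ap : Matrix (Fin (2 * m)) (Fin (2 * m)) F) hApT
    ((Matrix.isUnit_iff_isUnit_det _).1 Ap.isUnit)
  obtain ⟨-, hminus⟩ := pgo_symm_even h2 m (by omega) (Am : Matrix (Fin (2 * m)) (Fin (2 * m)) F) hAmT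
    ((Matrix.isUnit_iff_isUnit_det _).1 Am.isUnit)
  obtain ⟨a, b, hab, ⟨e3⟩⟩ := hminus hAm
  obtain ⟨e2⟩ := hplus hAp
  refine ⟨gam (AJ m F), gam Ap, gam Am, a, b, hab, (isGraphAut_iff hn3 _).2 ⟨_, rfl⟩, ?_,
    (isGraphAut_iff hn3 _).2 ⟨_, rfl⟩, ?_, (isGraphAut_iff hn3 _).2 ⟨_, rfl⟩, ?_, ?_, ?_, ?_, ?_, ?_, ?_, ?_⟩
  · apply orderOf_gam hn3 _ (-1) _ (by norm_num)
    rw [hAJT, neg_smul, one_smul]
  · apply orderOf_gam hn3 _ 1 _ one_ne_zero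
    rw [hApT, one_smul]
  · apply orderOf_gam hn3 _ 1 _ one_ne_zero
    rw [hAmT, one_smul]
  · rw [Cfsg.Agent.Lib.Helper19.PSLGraph.isConj_iff]
    exact not_congr_alt_symm h2 hn1 _ _ hAJT hApT
  · rw [Cfsg.Agent.Lib.Helper19.PSLGraph.isConj_iff]
    exact not_congr_alt_symm h2 hn1 _ _ hAJT hAmT
  · rw [Cfsg.Agent.Lib.Helper19.PSLGraph.isConj_iff]
    rintro ⟨g, c, h⟩
    exact hAm (disc_of_congr m Ap Am g c h hAp)
  · intro γ hγ hγ2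
    obtain ⟨A, rfl⟩ := (isGraphAut_iff hn3 γ).1 hγ
    obtain ⟨c, hcc, hAt⟩ := transpose_of_order_two A hγ2
    rcases mul_self_eq_one_iff.1 hcc with rfl | rfl
    · rw [one_smul] at hAt
      by_cases hs : IsSquare ((-1 : F) ^ m * (A : Matrix (Fin (2 * m)) (Fin (2 * m)) F).det)
      · right; left
        rw [Cfsg.Agent.Lib.Helper19.PSLGraph.isConj_iff]
        obtain ⟨g, hg⟩ := exists_congr_symm h2 hn1 A Ap hAt hApT (by
          rw [hApdet, mul_comm]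
          exact hs)
        exact ⟨g, 1, by rw [hg, Units.val_one, one_smul]⟩
      · right; right
        rw [Cfsg.Agent.Lib.Helper19.PSLGraph.isConj_iff]
        obtain ⟨g, hg⟩ := exists_congr_symm h2 hn1 A Am hAt hAmT (by
          rw [hAmdet]
          have := isSquare_mul_of_not hs hν
          have e : (A : Matrix (Fin (2 * m)) (Fin (2 * m)) F).det * ((-1 : F) ^ m * ν) =
              (-1 : F) ^ m * (A : Matrix (Fin (2 * m)) (Fin (2 * m)) F).det * ν := by ring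
          rw [e]
          exact this)
        exact ⟨g, 1, by rw [hg, Units.val_one, one_smul]⟩
    · left
      rw [Cfsg.Agent.Lib.Helper19.PSLGraph.isConj_iff]
      rw [neg_smul, one_smul] at hAt
      obtain ⟨g, hg⟩ := exists_congr_alt h2 m A hAt
      refine ⟨g, -1, ?_⟩
      rw [AJ_coe, hg]
      simp
  · obtain ⟨e1⟩ := centralizer_bil (AJ m F)
    obtain ⟨e1'⟩ := sim_congr (EJ m F) (BA (AJmat m F)) (Cfsg.sympForm m F) (symp_EJ m)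
    rw [AJ_coe] at e1
    exact ⟨e1.trans e1'⟩
  · obtain ⟨e1⟩ := centralizer_pgo h2 Ap hApT
    exact ⟨e1.trans e2⟩
  · obtain ⟨e1⟩ := centralizer_pgo h2 Am hAmT
    exact ⟨e1.trans e3⟩

end Cfsg.Agent.S2700
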