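import Cfsg.Statements.S2702
import Mathlib
import Cfsg.Agent.Lib.Helper19.PSLSplit5
import Cfsg.Agent.Lib.Helper19.PSUGraph11

set_option autoImplicit false
open Cfsg

namespace Cfsg.Agent.S2702

open Cfsg.Agent.Lib.Helper19.PSLGraph Matrix
open scoped MatrixGroups

theorem result {F : Type*} [Field F] [Fintype F] {p f : ℕ} [Fact p.Prime] (hF : Fintype.card F = p ^ f) (hf : 1 ≤ f) {n : ℕ} (hn : 3 ≤ n) (γ : MulAut (Matrix.ProjectiveSpecialLinearGroup (Fin n) F)) (hγ : Cfsg.IsGraphAutClassPSL γ) (hγ2 : orderOf γ = 2) :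
    ((Even n ∧ Odd p ∧ Nonempty (↥(Cfsg.inndiagPSL n F ⊓ Subgroup.centralizer {γ}) ≃* Cfsg.PGSp (n / 2) F)) → Cfsg.splitClassCount (Cfsg.inndiagPSL n F) (Cfsg.Inn (Matrix.ProjectiveSpecialLinearGroup (Fin n) F)) γ = Nat.gcd (n / 2) (p ^ f - 1)) ∧ ((Even n ∧ Odd p ∧ ¬ Nonempty (↥(Cfsg.inndiagPSL n F ⊓ Subgroup.centralizer {γ}) ≃* Cfsg.PGSp (n / 2) F)) → Cfsg.splitClassCount (Cfsg.inndiagPSL n F) (Cfsg.Inn (Matrix.ProjectiveSpecialLinearGroup (Fin n) F)) γ = Nat.gcd n (p ^ f - 1) / 2) ∧ (¬ (Even n ∧ Odd p) → Cfsg.splitClassCount (Cfsg.inndiagPSL n F) (Cfsg.Inn (Matrix.ProjectiveSpecialLinearGroup (Fin n) F)) γ = Nat.gcd n (p ^ f - 1)) := by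
  classical
  obtain ⟨A, rfl⟩ := (isGraphAut_iff hn γ).1 hγ
  obtain ⟨c, hc, hAc⟩ := transpose_of_order_two A hγ2
  have hcount := splitClassCount_gam (by omega : 1 ≤ n) A
  have hp : p.Prime := Fact.out
  have hcardF : Fintype.card F - 1 = p ^ f - 1 := by rw [hF]
  -- characteristic two
  have h2of : (2 : F) = 0 → p = 2 := by
    intro h
    have h2 : ringChar F = 2 := CharP.ringChar_of_prime_eq_zero Nat.prime_two h
    have hev := FiniteField.even_card_of_char_two h2
    rw [hF] at hev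
    have h3 : 2 ∣ p ^ f := (Nat.dvd_iff_mod_eq_zero).2 hev
    have h4 : 2 ∣ p := Nat.Prime.dvd_of_dvd_pow Nat.prime_two h3
    exact ((Nat.prime_dvd_prime_iff_eq Nat.prime_two hp).1 h4).symm
  have h2to : p = 2 → (2 : F) = 0 := by
    intro h
    have h3 : ((Fintype.card F : ℕ) : F) = 0 := Nat.cast_card_eq_zero F
    rw [hF, h, Nat.cast_pow] at h3
    exact eq_zero_of_pow_eq_zero h3
  have hoddp : Odd p ↔ (2 : F) ≠ 0 := by
    constructor
    · intro ho h
      have := h2of h
      rw [this] at ho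
      exact absurd ho (by decide)
    · intro h
      rcases hp.eq_two_or_odd' with h3 | h3
      · exact absurd (h2to h3) h
      · exact h3
  rcases Nat.even_or_odd' n with ⟨m, rfl | rfl⟩
  · -- even dimension
    have hdiv : 2 * m / 2 = m := Nat.mul_div_cancel_left m (by norm_num)
    have hev : Even (2 * m) := ⟨m, by ring⟩
    by_cases h2 : (2 : F) = 0
    · have hnodd : ¬ Odd p := fun h => (hoddp.1 h) h2
      refine ⟨fun h => absurd h.2.1 hnodd, fun h => absurd h.2.1 hnodd, fun _ => ?_⟩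
      rw [hcount, card_quot_pow (detSim A) (2 * m) (detSim_char2_even h2 m A), hcardF, Nat.gcd_comm]
    · have hop : Odd p := hoddp.2 h2
      have hoddF : Odd (Fintype.card F) := by
        rw [hF]
        exact hop.pow
      obtain ⟨e0⟩ := centralizer_equiv A
      rcases mul_self_eq_one_iff.1 hc with h1 | h1
      · -- symmetric
        have hA : A.1ᵀ = A.1 := by rw [hAc, h1, one_smul]
        have hnot : ¬ Nonempty (↥(Cfsg.inndiagPSL (2 * m) F ⊓ Subgroup.centralizer {gam A}) ≃*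
            Cfsg.PGSp (2 * m / 2) F) := by
          rintro ⟨e⟩
          rw [hdiv] at e
          have h3 : TwoChars (Cfsg.projQuot (SimGL A)) F := twoChars_symm h2 m (by omega) A hA
          have h4 : TwoChars (Cfsg.PGSp m F) F := TwoChars.of_equiv (e.symm.trans e0) h3
          exact not_twoChars_PGSp h2 m h4
        refine ⟨fun h => absurd h.2.2 hnot, fun _ => ?_, fun h => absurd ⟨hev, hop⟩ h⟩
        rw [hcount, card_quot_sq_pow hoddF (detSim A) m (detSim_symm h2 m (by omega) A hA), hcardF]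
      · -- alternating
        have hA : A.1ᵀ = -A.1 := by rw [hAc, h1, neg_smul, one_smul]
        obtain ⟨e1⟩ := Cfsg.Agent.Lib.Helper19.PSUGraph.projQuot_SimGL_alt_odd h2 A hA
        have hyes : Nonempty (↥(Cfsg.inndiagPSL (2 * m) F ⊓ Subgroup.centralizer {gam A}) ≃*
            Cfsg.PGSp (2 * m / 2) F) := by
          rw [hdiv]
          exact ⟨e0.trans e1⟩
        refine ⟨fun _ => ?_, fun h => absurd hyes h.2.2, fun h => absurd ⟨hev, hop⟩ h⟩
        obtain ⟨g, hg⟩ := exists_congr_alt h2 m A hA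
        have hconj : Cfsg.IsConjUnder (Cfsg.inndiagPSL (2 * m) F) (gam (AJ m F)) (gam A) := by
          rw [Cfsg.Agent.Lib.Helper19.PSLGraph.isConj_iff]
          refine ⟨g, -1, ?_⟩
          rw [AJ_coe, hg, Units.val_neg, Units.val_one]
        have hD : detSim A = (powMonoidHom m : Fˣ →* Fˣ).range := by
          rw [← detSim_eq_of_isConj _ _ hconj, detSim_AJ]
        rw [hcount, card_quot_pow (detSim A) m hD, hcardF, hdiv, Nat.gcd_comm]
  · -- odd dimension
    have hnev : ¬ Even (2 * m + 1) := by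
      rw [Nat.not_even_iff_odd]
      exact ⟨m, rfl⟩
    refine ⟨fun h => absurd h.1 hnev, fun h => absurd h.1 hnev, fun _ => ?_⟩
    rw [hcount, card_quot_pow (detSim A) (2 * m + 1) (detSim_odd m A), hcardF, Nat.gcd_comm]

end Cfsg.Agent.S2702
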