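import Cfsg.Statements.S2703
import Mathlib
import Cfsg.Agent.Lib.Helper19.PSLGraph
import Cfsg.Agent.Lib.Helper19.PSLGraph2
import Cfsg.Agent.Lib.Helper19.PSLGraph3

set_option autoImplicit false
open Cfsg

namespace Cfsg.Agent.S2703

open Cfsg.Agent.Lib.Helper19.PSLGraph Matrix
open scoped MatrixGroups

theorem result {F : Type*} [Field F] [Fintype F] (hodd : Odd (Fintype.card F)) {n m : ℕ} (hm : 2 ≤ m) (hnm : n = 2 * m) (ι : MulAut (Matrix.ProjectiveSpecialLinearGroup (Fin n) F)) (hι : Cfsg.IsInverseTransposeAutPSL ι) :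
    (Even (n * (Fintype.card F - 1) / 4) → Nonempty (↥(Cfsg.inndiagPSL n F ⊓ Subgroup.centralizer {ι}) ≃* Cfsg.PGO F (Cfsg.quadFormPlus m F))) ∧ (¬ Even (n * (Fintype.card F - 1) / 4) → ∃ a b : F, (∀ z₁ z₂ : F, z₁ ^ 2 + a * z₁ * z₂ + b * z₂ ^ 2 = 0 → z₁ = 0 ∧ z₂ = 0) ∧ Nonempty (↥(Cfsg.inndiagPSL n F ⊓ Subgroup.centralizer {ι}) ≃* Cfsg.PGO F (Cfsg.quadFormMinus (m - 1) F a b))) := by
  subst hnm
  have h2 : (2 : F) ≠ 0 := by
    intro h
    have h2 : ringChar F = 2 := CharP.ringChar_of_prime_eq_zero Nat.prime_two h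
    have := FiniteField.even_card_of_char_two h2
    rcases hodd with ⟨k, hk⟩
    omega
  rw [iota_eq ι hι, ← gam_one]
  obtain ⟨e0⟩ := centralizer_equiv (1 : GL (Fin (2 * m)) F)
  have hsymm : ((1 : GL (Fin (2 * m)) F) : Matrix (Fin (2 * m)) (Fin (2 * m)) F)ᵀ =
      ((1 : GL (Fin (2 * m)) F) : Matrix (Fin (2 * m)) (Fin (2 * m)) F) := by
    rw [Units.val_one, transpose_one]
  have hS := SimGL_eq_quadSim h2 (1 : GL (Fin (2 * m)) F) hsymm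
  have e1 : Nonempty (↥(Cfsg.inndiagPSL (2 * m) F ⊓ Subgroup.centralizer {gam (1 : GL (Fin (2 * m)) F)}) ≃*
      Cfsg.PGO F (QA ((1 : GL (Fin (2 * m)) F) : Matrix (Fin (2 * m)) (Fin (2 * m)) F))) := by
    unfold Cfsg.PGO Cfsg.projQuot
    rw [← hS]
    exact ⟨e0⟩
  obtain ⟨e1⟩ := e1
  rw [Units.val_one] at e1
  obtain ⟨hplus, hminus⟩ := pgo_symm_even h2 m (by omega) (1 : Matrix (Fin (2 * m)) (Fin (2 * m)) F)
    transpose_one (by rw [det_one]; exact isUnit_one)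
  rw [det_one, mul_one, isSquare_neg_one_pow_iff hodd] at hplus hminus
  refine ⟨fun he => ?_, fun hne => ?_⟩
  · obtain ⟨e2⟩ := hplus he
    exact ⟨e1.trans e2⟩
  · obtain ⟨a, b, hab, ⟨e2⟩⟩ := hminus hne
    exact ⟨a, b, hab, ⟨e1.trans e2⟩⟩

end Cfsg.Agent.S2703
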