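import Cfsg.Statements.S2704
import Mathlib
import Cfsg.Agent.Lib.Helper19.AutPSL19

set_option autoImplicit false
open Cfsg

namespace Cfsg.Agent.S2704

open Cfsg.Agent.Lib.Helper19.AutPSL Cfsg.Agent.Lib.Helper19.PSLGraph in
/-- Let T = PSL_n(F) over the field F with p^f elements, n ≥ 3, and G = Inndiag(T) the image of PGL_n(F). If x is an involutory graph-field automorphism of T then f is even; x is G-conjugate to every other involutory graph-field automorphism; C_G(x) is isomorphic to the projective general unitary group PGU_n(q₀) with q₀² = p^f, realised over F itself through the Hermitian form Σ uᵢ vᵢ^{q₀}; and the G-class of x is the union of exactly gcd(n, q₀ − 1) T-classes. -/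
theorem result {F : Type*} [Field F] [Fintype F] {p f : ℕ} [Fact p.Prime] (hF : Fintype.card F = p ^ f) (hf : 1 ≤ f) {n : ℕ} (hn : 3 ≤ n) (x : MulAut (Matrix.ProjectiveSpecialLinearGroup (Fin n) F)) (hx : Cfsg.IsGraphFieldAutClassPSL x) (hx2 : orderOf x = 2) :
    Even f ∧ (∀ y : MulAut (Matrix.ProjectiveSpecialLinearGroup (Fin n) F), Cfsg.IsGraphFieldAutClassPSL y → orderOf y = 2 → Cfsg.IsConjUnder (Cfsg.inndiagPSL n F) x y) ∧ Nonempty (↥(Cfsg.inndiagPSL n F ⊓ Subgroup.centralizer {x}) ≃* Cfsg.PGU n F (p ^ (f / 2))) ∧ Cfsg.splitClassCount (Cfsg.inndiagPSL n F) (Cfsg.Inn (Matrix.ProjectiveSpecialLinearGroup (Fin n) F)) x = Nat.gcd n (p ^ (f / 2) - 1) := by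
  classical
  haveI : CharP F p := charP_of_card_eq_prime_pow hF
  obtain ⟨q, σ, g, hq, hfrob, ex⟩ := gf_normal_form p hn x hx hx2
  -- `q = p ^ (f / 2)` and `f` is even
  have hpf : q ^ 2 = p ^ f := by rw [← hq, hF]
  have hdvd : q ∣ p ^ f := ⟨q, by rw [← hpf, pow_two]⟩
  obtain ⟨k, hk, rfl⟩ := (Nat.dvd_prime_pow (Fact.out : p.Prime)).1 hdvd
  have h2k : 2 * k = f := by
    rw [← pow_mul, mul_comm] at hpf
    exact Nat.pow_right_injective (Fact.out : p.Prime).two_le hpf
  have hk2 : f / 2 = k := by omega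
  rw [hk2]
  refine ⟨⟨k, by omega⟩, ?_, ?_, ?_⟩
  · intro y hy hy2
    obtain ⟨q', σ', g', hq', hfrob', ey⟩ := gf_normal_form p hn y hy hy2
    have hqq : q' = p ^ k := by
      have : q' ^ 2 = (p ^ k) ^ 2 := by rw [← hq', hq]
      exact Nat.pow_left_injective (by norm_num : (2 : ℕ) ≠ 0) this
    have hσ : σ' = σ := by
      apply RingEquiv.ext
      intro a
      rw [hfrob, hfrob', hqq]
    refine ⟨Phi (g' * g⁻¹), Phi_mem_inndiag _, ?_⟩
    rw [ey, ex, hσ, map_mul, map_inv]
    group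
  · rw [ex]
    obtain ⟨e1⟩ := centralizer_conj_equiv (Cfsg.inndiagPSL n F) (Phi g) (Phi_mem_inndiag g)
      (zgf (n := n) σ)
    obtain ⟨e2⟩ := centralizer_equiv' (zgf (n := n) σ)
    obtain ⟨e3⟩ := projQuot_CentGL_zgf (n := n) hq (by omega) σ hfrob
    exact ⟨(e1.trans e2).trans e3⟩
  · rw [ex, splitClassCount_eq (by omega), detCent_conj, card_quot_detCent_zgf (n := n) hq (by omega) σ hfrob]

end Cfsg.Agent.S2704
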