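import Cfsg.Statements.S2706
import Mathlib
import Cfsg.Agent.Lib.Helper19.PSUGraph5
import Cfsg.Agent.Lib.Helper19.PSUGraph8
import Cfsg.Agent.Lib.Helper19.PSUGraph9
import Cfsg.Agent.S2699

set_option autoImplicit false
open Cfsg

namespace Cfsg.Agent.S2706

open Matrix
open Cfsg.Agent.Lib.Helper19.PSUGraph
open Cfsg.Agent.Lib.Helper19.PSLGraph (SimGL gam orderOf_gam isGraphAut_iff centralizer_equiv sq_inj2)

/-- Let T = PSU_n(q) be simple with n = 2m + 1 ≥ 3 odd, realised over the field F with q² elements, and G = Inndiag(T) the image of PGU_n(q). Every involutory graph automorphism γ of T (an inner-diagonal automorphism times a standard field automorphism of even order, of order 2) has centralizer C_G(γ) isomorphic to the projective conformal orthogonal group of the form x₀² + Σ xᵢ yᵢ in dimension n over a field F₀ with q elements, and any two involutory graph automorphisms of T are G-conjugate. -/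
theorem result {F : Type*} [Field F] [Fintype F] {p f q : ℕ} [Fact p.Prime] (hq : q = p ^ f) (hf : 1 ≤ f) (hF : Fintype.card F = q ^ 2) {n : ℕ} (hn : 3 ≤ n) (hs : ¬ (n = 3 ∧ q = 2)) {m : ℕ} (hnm : n = 2 * m + 1) (F₀ : Type*) [Field F₀] [Fintype F₀] (hF₀ : Fintype.card F₀ = q) (γ γ' : MulAut (Cfsg.PSU n F q)) (hγ : Cfsg.IsGraphAutClassPSU γ) (hγ2 : orderOf γ = 2) (hγ' : Cfsg.IsGraphAutClassPSU γ') (hγ'2 : orderOf γ' = 2) :
    Nonempty (↥(Cfsg.inndiagPSU n F q ⊓ Subgroup.centralizer {γ}) ≃* Cfsg.PGO F₀ (Cfsg.quadFormOdd m F₀)) ∧ Cfsg.IsConjUnder (Cfsg.inndiagPSU n F q) γ γ' := by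
  classical
  subst hnm
  obtain ⟨A, rfl, c, hcc, hAc⟩ := graphAut_eq_gamU hF γ hγ hγ2
  obtain ⟨A', rfl, c', hcc', hAc'⟩ := graphAut_eq_gamU hF γ' hγ' hγ'2
  have hsymm : ∀ (A : ↥(GU (2 * m + 1) F q)) (c : F), c * c = 1 → A.1.1ᵀ = c • A.1.1 →
      A.1.1ᵀ = (1 : F) • A.1.1 := by
    intro A c hc hAc
    by_cases h2 : (2 : F) = 0
    · have : c = 1 := sq_inj2 h2 (by rw [hc, one_mul])
      rw [hAc, this]
    · rcases mul_self_eq_one_iff.1 hc with h1 | h1
      · rw [hAc, h1]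
      · exfalso
        have hdet := (Matrix.isUnit_iff_isUnit_det _).1 A.1.isUnit
        have h3 := congrArg Matrix.det hAc
        rw [Matrix.det_transpose, Matrix.det_smul, Fintype.card_fin, h1,
          Odd.neg_one_pow ⟨m, rfl⟩] at h3
        have h4 : (2 : F) * A.1.1.det = 0 := by linear_combination h3
        rcases mul_eq_zero.1 h4 with h5 | h5
        · exact h2 h5
        · exact hdet.ne_zero h5
  have hA := hsymm A c hcc hAc
  have hA' := hsymm A' c' hcc' hAc'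
  obtain ⟨j, hfix, hsurj⟩ := exists_emb hF F₀ hF₀
  obtain ⟨a, S, dA, hS⟩ := exists_desc hF j hsurj 1 1 1 (by ring) (by simp) one_ne_zero (by simp) A hA
  obtain ⟨a', S', dA', hS'⟩ := exists_desc hF j hsurj 1 1 1 (by ring) (by simp) one_ne_zero (by simp) A' hA'
  have hκ : (1 : F) * 1 * 1⁻¹ ≠ 0 := by simp
  have hμ : (1 : F)⁻¹ ≠ 0 := by simp
  have hST : ∀ S : GL (Fin (2 * m + 1)) F₀, (S.1.map j)ᵀ = (1 : F) • S.1.map j →
      S.1ᵀ = (1 : F₀) • S.1 := by
    intro S hS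
    rw [one_smul] at hS ⊢
    apply Matrix.map_injective j.injective
    show (S.1ᵀ).map j = S.1.map j
    rw [← hS]
    rfl
  have hSs := hST S hS
  have hSs' := hST S' hS'
  have hn' : 3 ≤ 2 * m + 1 := hn
  obtain ⟨e0⟩ := descent_equiv hF (by omega) j hfix hsurj A a S hκ hμ dA
  obtain ⟨⟨e1⟩, hconj⟩ := Cfsg.Agent.S2699.result (F := F₀) (p := p) (f := f) (by rw [hF₀, hq]) hf hn' rfl
    (gam S) (gam S') ((isGraphAut_iff hn' _).2 ⟨S, rfl⟩) (orderOf_gam hn' S 1 hSs one_ne_zero)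
    ((isGraphAut_iff hn' _).2 ⟨S', rfl⟩) (orderOf_gam hn' S' 1 hSs' one_ne_zero)
  obtain ⟨e2⟩ := centralizer_equiv S
  refine ⟨⟨e0.trans (e2.symm.trans e1)⟩, ?_⟩
  rw [isConjU_desc_iff hF (by omega) j hfix hsurj A A' a a' S S' hκ hμ hμ dA dA']
  exact (Cfsg.Agent.Lib.Helper19.PSLGraph.isConj_iff S S').1 hconj

end Cfsg.Agent.S2706
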