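import Cfsg.Statements.S2707
import Mathlib
import Cfsg.Agent.Lib.Helper19.PSUGraph5
import Cfsg.Agent.Lib.Helper19.PSUGraph8
import Cfsg.Agent.Lib.Helper19.PSUGraph9
import Cfsg.Agent.Lib.Helper19.PSUGraph10
import Cfsg.Agent.Lib.Helper19.PSUGraph11
import Cfsg.Agent.Lib.Helper19.PSLGraph3
import Cfsg.Agent.Lib.Helper19.PSLGraph5
import Cfsg.Agent.Lib.Helper19.PSLGraph7

set_option autoImplicit false
open Cfsg

namespace Cfsg.Agent.S2707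

open Matrix
open Cfsg.Agent.Lib.Helper27.Unitary
open Cfsg.Agent.Lib.Helper19.PSUGraph
open Cfsg.Agent.Lib.Helper19.PSLGraph (SimGL BA AJmat AJmat_transpose Dg Dg_coe Dg_det Dg_transpose
  pgo_symm_even SimGL_eq_quadSim QA exists_congr_symm not_congr_alt_symm disc_of_congr isSquare_mul_of_not)

/-- Let T = PSU_n(q) with n = 2m ≥ 4 even and q odd, realised over the field F with q² elements, and G = Inndiag(T) the image of PGU_n(q). The involutory graph automorphisms of T fall into exactly three G-classes, with representatives whose centralizers in G are isomorphic respectively to the projective conformal symplectic group PGSp_n(F₀), the projective conformal orthogonal group of the plus-type form Σ xᵢ yᵢ, and that of a minus-type form Σ xᵢ yᵢ + z₁² + a z₁ z₂ + b z₂² (anisotropic binary part) in dimension n, all over a field F₀ with q elements. -/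
theorem result {F : Type*} [Field F] [Fintype F] {q : ℕ} (hodd : Odd q) (hF : Fintype.card F = q ^ 2) {n m : ℕ} (hm : 2 ≤ m) (hnm : n = 2 * m) (F₀ : Type*) [Field F₀] [Fintype F₀] (hF₀ : Fintype.card F₀ = q) :
    ∃ (γ₁ γ₂ γ₃ : MulAut (Cfsg.PSU n F q)) (a b : F₀), (∀ z₁ z₂ : F₀, z₁ ^ 2 + a * z₁ * z₂ + b * z₂ ^ 2 = 0 → z₁ = 0 ∧ z₂ = 0) ∧ Cfsg.IsGraphAutClassPSU γ₁ ∧ orderOf γ₁ = 2 ∧ Cfsg.IsGraphAutClassPSU γ₂ ∧ orderOf γ₂ = 2 ∧ Cfsg.IsGraphAutClassPSU γ₃ ∧ orderOf γ₃ = 2 ∧ ¬ Cfsg.IsConjUnder (Cfsg.inndiagPSU n F q) γ₁ γ₂ ∧ ¬ Cfsg.IsConjUnder (Cfsg.inndiagPSU n F q) γ₁ γ₃ ∧ ¬ Cfsg.IsConjUnder (Cfsg.inndiagPSU n F q) γ₂ γ₃ ∧ (∀ γ : MulAut (Cfsg.PSU n F q), Cfsg.IsGraphAutClassPSU γ → orderOf γ = 2 → Cfsg.IsConjUnder (Cfsg.inndiagPSU n F q) γ₁ γ ∨ Cfsg.IsConjUnder (Cfsg.inndiagPSU n F q) γ₂ γ ∨ Cfsg.IsConjUnder (Cfsg.inndiagPSU n F q) γ₃ γ) ∧ Nonempty (↥(Cfsg.inndiagPSU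 n F q ⊓ Subgroup.centralizer {γ₁}) ≃* Cfsg.PGSp m F₀) ∧ Nonempty (↥(Cfsg.inndiagPSU n F q ⊓ Subgroup.centralizer {γ₂}) ≃* Cfsg.PGO F₀ (Cfsg.quadFormPlus m F₀)) ∧ Nonempty (↥(Cfsg.inndiagPSU n F q ⊓ Subgroup.centralizer {γ₃}) ≃* Cfsg.PGO F₀ (Cfsg.quadFormMinus (m - 1) F₀ a b)) := by
  classical
  subst hnm
  have h2 : (2 : F₀) ≠ 0 := by
    intro h
    have h2 : ringChar F₀ = 2 := CharP.ringChar_of_prime_eq_zero Nat.prime_two h
    have := FiniteField.even_card_of_char_two h2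
    rw [hF₀] at this
    rcases hodd with ⟨k, hk⟩
    omega
  obtain ⟨j, hfix, hsurj⟩ := exists_emb hF F₀ hF₀
  have h2F : (2 : F) ≠ 0 := by
    intro h
    apply h2
    apply j.injective
    rw [map_ofNat, h, map_zero]
  have hn : 3 ≤ 2 * m := by omega
  have hn2 : 2 ≤ 2 * m := by omega
  have hn1 : 1 ≤ 2 * m := by omega
  have hchar : ringChar F₀ ≠ 2 := by
    intro h
    apply h2
    have := CharP.cast_eq_zero F₀ (ringChar F₀)
    rw [h] at this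
    exact_mod_cast this
  obtain ⟨ν, hν⟩ := FiniteField.exists_nonsquare hchar
  have hν0 : ν ≠ 0 := fun h => hν (h ▸ IsSquare.zero)
  let i0 : Fin (2 * m) := ⟨0, by omega⟩
  have hs0 : ((-1 : F₀) ^ m) ≠ 0 := pow_ne_zero _ (neg_ne_zero.2 one_ne_zero)
  have hsq1 : ((-1 : F₀) ^ m) * ((-1 : F₀) ^ m) = 1 := by
    rw [← pow_add, ← two_mul, pow_mul]
    simp
  set Sp : GL (Fin (2 * m)) F₀ := Dg (2 * m) i0 ((-1 : F₀) ^ m) hs0 with hSpdef
  set Sm : GL (Fin (2 * m)) F₀ := Dg (2 * m) i0 ((-1 : F₀) ^ m * ν) (mul_ne_zero hs0 hν0) with hSmdef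
  have hSpT : Sp.1ᵀ = Sp.1 := Dg_transpose _ _ _ _
  have hSmT : Sm.1ᵀ = Sm.1 := Dg_transpose _ _ _ _
  have hSpdet : Sp.1.det = (-1 : F₀) ^ m := Dg_det _ _ _ _
  have hSmdet : Sm.1.det = (-1 : F₀) ^ m * ν := Dg_det _ _ _ _
  have hSp : IsSquare ((-1 : F₀) ^ m * Sp.1.det) := by
    rw [hSpdet]
    exact ⟨(-1) ^ m, rfl⟩
  have hSm : ¬ IsSquare ((-1 : F₀) ^ m * Sm.1.det) := by
    rw [hSmdet, ← mul_assoc, hsq1, one_mul]
    exact hν
  obtain ⟨Ap, ap, hApT, dp⟩ := exists_sym_rep (n := 2 * m) hF j hfix i0 ((-1 : F₀) ^ m) hs0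
  obtain ⟨Am, am, hAmT, dm⟩ := exists_sym_rep (n := 2 * m) hF j hfix i0 ((-1 : F₀) ^ m * ν)
    (mul_ne_zero hs0 hν0)
  -- the antisymmetric data
  obtain ⟨t, ht⟩ := nm_surj hF (-1 : F) (by rw [cj_neg hF, one_pow])
  have ht0 : t ≠ 0 := by
    rintro rfl
    rw [zero_mul] at ht
    exact one_ne_zero (neg_eq_zero.1 ht.symm)
  have hc' : (t * t)⁻¹ * ((t * t)⁻¹) ^ q = 1 := by
    rw [inv_pow, mul_pow, ← mul_inv]
    have : t * t * (t ^ q * t ^ q) = 1 := by linear_combination (t * t ^ q - 1) * ht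
    rw [this, inv_one]
  obtain ⟨ρ, hρ0, hρ⟩ := hilbert90_scalar hF ((t * t)⁻¹) hc'
  have hρ' : ρ ^ q * (t * t) = ρ := by
    rw [hρ]
    field_simp
  have hAJ : (AJU hF m).1.1ᵀ = (-1 : F) • (AJU hF m).1.1 := by
    rw [AJU_coe, AJmat_transpose, neg_smul, one_smul]
  have hAJ' : (AJU hF m).1.1ᵀ = -(AJU hF m).1.1 := by
    rw [AJU_coe, AJmat_transpose]
  obtain ⟨aJ, SJ, dJ, hSJ⟩ := exists_desc hF j hsurj (-1) t ρ (by ring) ht hρ0 hρ' (AJU hF m) hAJ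
  have hanti : ∀ S : GL (Fin (2 * m)) F₀, (S.1.map j)ᵀ = (-1 : F) • S.1.map j → S.1ᵀ = -S.1 := by
    intro S hS
    rw [neg_smul, one_smul] at hS
    apply Matrix.map_injective j.injective
    show (S.1ᵀ).map j = (-S.1).map j
    have e : (-S.1).map j = -(S.1.map j) := by
      ext i k
      simp
    rw [e, ← hS]
    rfl
  have hsym : ∀ S : GL (Fin (2 * m)) F₀, (S.1.map j)ᵀ = (1 : F) • S.1.map j → S.1ᵀ = S.1 := by
    intro S hS
    rw [one_smul] at hS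
    apply Matrix.map_injective j.injective
    show (S.1ᵀ).map j = S.1.map j
    rw [← hS]
    rfl
  have hSJa := hanti SJ hSJ
  have hκ : (1 : F) * 1 * 1⁻¹ ≠ 0 := by simp
  have hμ : (1 : F)⁻¹ ≠ 0 := by simp
  have hκJ : t * (-1) * ρ⁻¹ ≠ 0 := mul_ne_zero (mul_ne_zero ht0 (by norm_num)) (inv_ne_zero hρ0)
  have hμJ : ρ⁻¹ ≠ 0 := inv_ne_zero hρ0
  obtain ⟨hplus, -⟩ := pgo_symm_even h2 m (by omega) Sp.1 hSpT
    ((Matrix.isUnit_iff_isUnit_det _).1 Sp.isUnit)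
  obtain ⟨-, hminus⟩ := pgo_symm_even h2 m (by omega) Sm.1 hSmT
    ((Matrix.isUnit_iff_isUnit_det _).1 Sm.isUnit)
  obtain ⟨a, b, hab, ⟨e3⟩⟩ := hminus hSm
  obtain ⟨e2⟩ := hplus hSp
  have hApT' : Ap.1.1ᵀ = Ap.1.1 := by rw [hApT, one_smul]
  have hAmT' : Am.1.1ᵀ = Am.1.1 := by rw [hAmT, one_smul]
  refine ⟨gamU hF (AJU hF m), gamU hF Ap, gamU hF Am, a, b, hab, gamU_isGraphAut hF hn _,
    orderOf_gamU hF hn _ (-1) (by norm_num) hAJ, gamU_isGraphAut hF hn _,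
    orderOf_gamU hF hn _ 1 one_ne_zero hApT, gamU_isGraphAut hF hn _,
    orderOf_gamU hF hn _ 1 one_ne_zero hAmT, ?_, ?_, ?_, ?_, ?_, ?_, ?_⟩
  · rw [isConjU_iff hF hn2]
    rintro ⟨g, c, hgc⟩
    exact not_congr_alt_symm h2F hn1 (AJU hF m).1 Ap.1 hAJ' hApT' ⟨g.1, c, hgc⟩
  · rw [isConjU_iff hF hn2]
    rintro ⟨g, c, hgc⟩
    exact not_congr_alt_symm h2F hn1 (AJU hF m).1 Am.1 hAJ' hAmT' ⟨g.1, c, hgc⟩
  · rw [isConjU_desc_iff hF hn2 j hfix hsurj Ap Am ap am Sp Sm hκ hμ hμ dp dm]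
    rintro ⟨g, c, hgc⟩
    exact hSm (disc_of_congr m Sp Sm g c hgc hSp)
  · intro γ hγ hγ2
    obtain ⟨A, rfl, c, hcc, hAc⟩ := graphAut_eq_gamU hF γ hγ hγ2
    rcases mul_self_eq_one_iff.1 hcc with rfl | rfl
    · obtain ⟨aA, S, dA, hS⟩ := exists_desc hF j hsurj 1 1 1 (by ring) (by simp) one_ne_zero (by simp) A hAc
      have hSs := hsym S hS
      by_cases hs : IsSquare ((-1 : F₀) ^ m * S.1.det)
      · right; left
        rw [isConjU_desc_iff hF hn2 j hfix hsurj Ap A ap aA Sp S hκ hμ hμ dp dA]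
        obtain ⟨g, hg⟩ := exists_congr_symm h2 hn1 S Sp hSs hSpT (by
          rw [hSpdet, mul_comm]
          exact hs)
        exact ⟨g, 1, by rw [hg, Units.val_one, one_smul]⟩
      · right; right
        rw [isConjU_desc_iff hF hn2 j hfix hsurj Am A am aA Sm S hκ hμ hμ dm dA]
        obtain ⟨g, hg⟩ := exists_congr_symm h2 hn1 S Sm hSs hSmT (by
          rw [hSmdet]
          have := isSquare_mul_of_not hs hν
          have e : S.1.det * ((-1 : F₀) ^ m * ν) = (-1 : F₀) ^ m * S.1.det * ν := by ring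
          rw [e]
          exact this)
        exact ⟨g, 1, by rw [hg, Units.val_one, one_smul]⟩
    · left
      obtain ⟨aA, S, dA, hS⟩ := exists_desc hF j hsurj (-1) t ρ (by ring) ht hρ0 hρ' A hAc
      have hSa := hanti S hS
      rw [isConjU_desc_iff hF hn2 j hfix hsurj (AJU hF m) A aJ aA SJ S hκJ hμJ hμJ dJ dA]
      exact congr_alt_alt h2 SJ S hSJa hSa
  · obtain ⟨e0⟩ := descent_equiv hF hn2 j hfix hsurj (AJU hF m) aJ SJ hκJ hμJ dJ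
    obtain ⟨e1⟩ := projQuot_SimGL_alt_odd h2 SJ hSJa
    exact ⟨e0.trans e1⟩
  · obtain ⟨e0⟩ := descent_equiv hF hn2 j hfix hsurj Ap ap Sp hκ hμ dp
    have hS := SimGL_eq_quadSim h2 Sp hSpT
    have e1 : Cfsg.projQuot (SimGL Sp) ≃* Cfsg.PGO F₀ (QA Sp.1) := by
      unfold Cfsg.PGO Cfsg.projQuot
      rw [← hS]
    exact ⟨e0.trans (e1.trans e2)⟩
  · obtain ⟨e0⟩ := descent_equiv hF hn2 j hfix hsurj Am am Sm hκ hμ dm
    have hS := SimGL_eq_quadSim h2 Sm hSmT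
    have e1 : Cfsg.projQuot (SimGL Sm) ≃* Cfsg.PGO F₀ (QA Sm.1) := by
      unfold Cfsg.PGO Cfsg.projQuot
      rw [← hS]
    exact ⟨e0.trans (e1.trans e3)⟩

end Cfsg.Agent.S2707
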