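import Cfsg.Statements.S2708
import Mathlib
import Cfsg.Agent.Lib.Helper19.PSUGraph5
import Cfsg.Agent.Lib.Helper19.PSUGraph8
import Cfsg.Agent.Lib.Helper19.PSUGraph9
import Cfsg.Agent.Lib.Helper19.PSUGraph10
import Cfsg.Agent.S2701

set_option autoImplicit false
open Cfsg

namespace Cfsg.Agent.S2708

open Matrix
open Cfsg.Agent.Lib.Helper19.PSUGraph
open Cfsg.Agent.Lib.Helper19.PSLGraph (SimGL BA AJmat AJmat_transpose EJ symp_EJ sq_inj2 dot_mulVec_mulVec)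
open Cfsg.Agent.Lib.Helper27.SympTransv (rank_tv_sub_one tv_coe_sub_one sf_def sf_self)

/-- Let T = PSU_n(q) with n = 2m ≥ 4 even and q even, realised over the field F (of characteristic 2) with q² elements, and G = Inndiag(T) the image of PGU_n(q). The involutory graph automorphisms of T fall into exactly two G-classes, with representatives whose centralizers in G are isomorphic respectively to the symplectic group Sp_n(F₀) and to the centralizer in Sp_n(F₀) of a symplectic transvection, F₀ a field with q elements. -/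
theorem result {F : Type*} [Field F] [Fintype F] [CharP F 2] {q : ℕ} (hF : Fintype.card F = q ^ 2) {n m : ℕ} (hm : 2 ≤ m) (hnm : n = 2 * m) (F₀ : Type*) [Field F₀] [Fintype F₀] (hF₀ : Fintype.card F₀ = q) :
    ∃ (γ₁ γ₃ : MulAut (Cfsg.PSU n F q)) (t : ↥(Matrix.symplecticGroup (Fin m) F₀)), Cfsg.IsTransvection (t : Matrix (Fin m ⊕ Fin m) (Fin m ⊕ Fin m) F₀) ∧ Cfsg.IsGraphAutClassPSU γ₁ ∧ orderOf γ₁ = 2 ∧ Cfsg.IsGraphAutClassPSU γ₃ ∧ orderOf γ₃ = 2 ∧ ¬ Cfsg.IsConjUnder (Cfsg.inndiagPSU n F q) γ₁ γ₃ ∧ (∀ γ : MulAut (Cfsg.PSU n F q), Cfsg.IsGraphAutClassPSU γ → orderOf γ = 2 → Cfsg.IsConjUnder (Cfsg.inndiagPSU n F q) γ₁ γ ∨ Cfsg.IsConjUnder (Cfsg.inndiagPSU n F q) γ₃ γ) ∧ Nonempty (↥(Cfsg.inndiagPSU n F q ⊓ Subgroup.centralizer {γ₁}) ≃* ↥(Matrix.symplecticGroup (Fin m) F₀)) ∧ Nonempty (↥(Cfsg.inndiagPSU n F q ⊓ Subgroup.centralizer {γ₃}) ≃* ↥(Subgroup.centralizer ({t} : Set ↥(Matrix.symplecticGroup (Fin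 m) F₀)))) := by
  classical
  subst hnm
  have h2 : (2 : F) = 0 := CharTwo.two_eq_zero
  have hn : 3 ≤ 2 * m := by omega
  have hn2 : 2 ≤ 2 * m := by omega
  obtain ⟨j, hfix, hsurj⟩ := exists_emb hF F₀ hF₀
  have h2' : (2 : F₀) = 0 := by
    apply j.injective
    rw [map_ofNat, h2, map_zero]
  let i₀ : Fin m := ⟨0, by omega⟩
  have he := Cfsg.Agent.S2701.e3_ne (F := F₀) i₀
  have hκ : (1 : F) * 1 * 1⁻¹ ≠ 0 := by simp
  have hμ : (1 : F)⁻¹ ≠ 0 := by simp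
  -- symmetric descended forms
  have hST : ∀ S : GL (Fin (2 * m)) F₀, (S.1.map j)ᵀ = (1 : F) • S.1.map j → S.1ᵀ = S.1 := by
    intro S hS
    rw [one_smul] at hS
    apply Matrix.map_injective j.injective
    show (S.1ᵀ).map j = S.1.map j
    rw [← hS]
    rfl
  -- the first representative
  have hA1 : (AJU hF m).1.1ᵀ = (1 : F) • (AJU hF m).1.1 := by
    rw [AJU_coe, AJmat_transpose, Cfsg.Agent.S2701.neg_mat_eq h2, one_smul]
  obtain ⟨a1, S1, d1, hS1⟩ := exists_desc hF j hsurj 1 1 1 (by ring) (by simp) one_ne_zero (by simp)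
    (AJU hF m) hA1
  have hS1s := hST S1 hS1
  have halt1 : ∀ x, BA S1.1 x x = 0 := by
    intro x
    apply j.injective
    rw [map_zero]
    have e1 : j (BA S1.1 x x) = BA (S1.1.map j) (j ∘ x) (j ∘ x) := by
      unfold BA
      rw [RingHom.map_dotProduct]
      congr 1
      funext i
      exact (RingHom.map_mulVec j S1.1 x i)
    have e2 : S1.1.map j = cg a1.1 (AJmat m F) := by
      have := d1.h1
      rw [inv_one, one_smul, AJU_coe] at this
      exact this.symm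
    rw [e1, e2]
    unfold BA cg
    rw [← dot_mulVec_mulVec]
    have := symp_EJ (F := F) m (a1.1 *ᵥ (j ∘ x)) (a1.1 *ᵥ (j ∘ x))
    unfold BA at this
    rw [← this, sf_self]
  -- the second representative
  have d3 : Desc j q ((1 : ↥(GU (2 * m) F q)).1.1) (1 : GL (Fin (2 * m)) F).1
      (1 : GL (Fin (2 * m)) F₀).1 ((1 : F) * 1 * 1⁻¹) ((1 : F)⁻¹) := by
    have e : ((1 : F) * 1 * 1⁻¹) = 1 := by simp
    rw [e, inv_one]
    constructor
    · show cg (1 : Matrix (Fin (2 * m)) (Fin (2 * m)) F) 1 = (1 : F) • (1 : Matrix (Fin (2 * m)) (Fin (2 * m)) F₀).map j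
      unfold cg
      rw [Matrix.map_one j (map_zero j) (map_one j), one_smul, Matrix.transpose_one, mul_one, mul_one]
    · show hg q (1 : Matrix (Fin (2 * m)) (Fin (2 * m)) F) 1 = (1 : F) • (1 : Matrix (Fin (2 * m)) (Fin (2 * m)) F₀).map j
      unfold hg
      rw [Matrix.map_one j (map_zero j) (map_one j), one_smul, cjM_one hF, Matrix.transpose_one, mul_one,
        mul_one]
  have hS3s : (1 : GL (Fin (2 * m)) F₀).1ᵀ = (1 : GL (Fin (2 * m)) F₀).1 := by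
    rw [Units.val_one, Matrix.transpose_one]
  have hnalt3 : ¬ ∀ x, BA (1 : GL (Fin (2 * m)) F₀).1 x x = 0 := by
    intro h
    have := h (Pi.single ⟨0, by omega⟩ 1)
    unfold BA at this
    rw [Units.val_one, Matrix.one_mulVec, single_one_dotProduct, Pi.single_eq_same] at this
    exact one_ne_zero this
  have hA3 : (1 : ↥(GU (2 * m) F q)).1.1ᵀ = (1 : F) • (1 : ↥(GU (2 * m) F q)).1.1 := by
    rw [one_smul]
    show (1 : Matrix (Fin (2 * m)) (Fin (2 * m)) F)ᵀ = 1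
    exact Matrix.transpose_one
  refine ⟨gamU hF (AJU hF m), gamU hF 1, Cfsg.Agent.Lib.Helper27.SympTransv.tv (Cfsg.Agent.S2701.e3 i₀) 1,
    ?_, gamU_isGraphAut hF hn _, orderOf_gamU hF hn _ 1 one_ne_zero hA1, gamU_isGraphAut hF hn _,
    orderOf_gamU hF hn _ 1 one_ne_zero hA3, ?_, ?_, ?_, ?_⟩
  · refine ⟨rank_tv_sub_one (Cfsg.Agent.S2701.e3 i₀) he 1 one_ne_zero, ?_⟩
    rw [tv_coe_sub_one, Matrix.vecMulVec_mul_vecMulVec]
    have : (Matrix.J (Fin m) F₀ *ᵥ (Cfsg.Agent.S2701.e3 i₀ : Fin m ⊕ Fin m → F₀)) ⬝ᵥ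
        ((1 : F₀) • Cfsg.Agent.S2701.e3 i₀) = 0 := by
      rw [one_smul, dotProduct_comm, ← sf_def, sf_self]
    rw [this, zero_smul]
    ext i j
    simp [Matrix.vecMulVec_apply]
  · rw [isConjU_desc_iff hF hn2 j hfix hsurj (AJU hF m) 1 a1 1 S1 1 hκ hμ hμ d1 d3]
    rintro ⟨t, d, htd⟩
    exact hnalt3 (alt_of_congr S1 1 t d htd halt1)
  · intro γ hγ hγ2
    obtain ⟨A, rfl, c, hcc, hAc⟩ := graphAut_eq_gamU hF γ hγ hγ2
    have hc1 : c = 1 := sq_inj2 h2 (by rw [hcc, one_mul])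
    rw [hc1] at hAc
    obtain ⟨a, S, dA, hS⟩ := exists_desc hF j hsurj 1 1 1 (by ring) (by simp) one_ne_zero (by simp) A hAc
    have hSs := hST S hS
    by_cases halt : ∀ x, BA S.1 x x = 0
    · left
      rw [isConjU_desc_iff hF hn2 j hfix hsurj (AJU hF m) A a1 a S1 S hκ hμ hμ d1 dA]
      exact congr_char2 h2' i₀ S1 S hS1s hSs (iff_of_true halt1 halt)
    · right
      rw [isConjU_desc_iff hF hn2 j hfix hsurj 1 A 1 a 1 S hκ hμ hμ d3 dA]
      exact congr_char2 h2' i₀ 1 S hS3s hSs (iff_of_false hnalt3 halt)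
  · obtain ⟨e0⟩ := descent_equiv hF hn2 j hfix hsurj (AJU hF m) a1 S1 hκ hμ d1
    obtain ⟨e1⟩ := projQuot_SimGL_alt h2' i₀ S1 hS1s halt1
    exact ⟨e0.trans e1⟩
  · obtain ⟨e0⟩ := descent_equiv hF hn2 j hfix hsurj (1 : ↥(GU (2 * m) F q)) 1 1 hκ hμ d3
    obtain ⟨e1⟩ := projQuot_SimGL_nonalt h2' i₀ (1 : GL (Fin (2 * m)) F₀) hS3s hnalt3
    exact ⟨e0.trans e1⟩

end Cfsg.Agent.S2708
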