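import Cfsg.Statements.S2709
import Mathlib
import Cfsg.Agent.Lib.Helper19.PSUGraph5
import Cfsg.Agent.Lib.Helper19.PSUGraph8
import Cfsg.Agent.Lib.Helper19.PSUGraph9
import Cfsg.Agent.Lib.Helper19.PSUGraph10
import Cfsg.Agent.Lib.Helper19.PSUGraph11
import Cfsg.Agent.Lib.Helper19.PSUSplit5
import Cfsg.Agent.Lib.Helper19.PSLSplit5

set_option autoImplicit false
open Cfsg

namespace Cfsg.Agent.S2709

open Matrix
open Cfsg.Agent.Lib.Helper27.Unitary
open Cfsg.Agent.Lib.Helper19.PSUGraph
open Cfsg.Agent.Lib.Helper19.PSLGraph (SimGL TwoChars TwoChars.of_equiv twoChars_symm not_twoChars_PGSp)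

theorem result {F : Type*} [Field F] [Fintype F] {p f q : ℕ} [Fact p.Prime] (hq : q = p ^ f) (hf : 1 ≤ f) (hF : Fintype.card F = q ^ 2) {n : ℕ} (hn : 3 ≤ n) (hs : ¬ (n = 3 ∧ q = 2)) (F₀ : Type*) [Field F₀] [Fintype F₀] (hF₀ : Fintype.card F₀ = q) (γ : MulAut (Cfsg.PSU n F q)) (hγ : Cfsg.IsGraphAutClassPSU γ) (hγ2 : orderOf γ = 2) :
    ((Even n ∧ Odd q ∧ Nonempty (↥(Cfsg.inndiagPSU n F q ⊓ Subgroup.centralizer {γ}) ≃* Cfsg.PGSp (n / 2) F₀)) → Cfsg.splitClassCount (Cfsg.inndiagPSU n F q) (Cfsg.Inn (Cfsg.PSU n F q)) γ = Nat.gcd (n / 2) (q + 1)) ∧ ((Even n ∧ Odd q ∧ ¬ Nonempty (↥(Cfsg.inndiagPSU n F q ⊓ Subgroup.centralizer {γ}) ≃* Cfsg.PGSp (n / 2) F₀)) → Cfsg.splitClassCount (Cfsg.inndiagPSU n F q) (Cfsg.Inn (Cfsg.PSU n F q)) γ = Nat.gcd n (q + 1) / 2) ∧ (¬ (Even n ∧ Odd q) → Cfsg.splitClassCount (Cfsg.inndiagPSU n F q) (Cfsg.Inn (Cfsg.PSU n F q)) γ = Nat.gcd n (q + 1)) := by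
  classical
  obtain ⟨A, rfl, c, hcc, hAc⟩ := graphAut_eq_gamU hF γ hγ hγ2
  have hcount := splitClassCountU_gam hF (by omega : 1 ≤ n) A
  have hcard := card_U1 hF
  obtain ⟨j, hfix, hsurj⟩ := exists_emb hF F₀ hF₀
  rcases Nat.even_or_odd' n with ⟨m, rfl | rfl⟩
  · -- even dimension
    have hdiv : 2 * m / 2 = m := Nat.mul_div_cancel_left m (by norm_num)
    have hev : Even (2 * m) := ⟨m, by ring⟩
    have hn2 : 2 ≤ 2 * m := by omega
    by_cases hqodd : Odd q
    · -- odd characteristic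
      have h2 : (2 : F₀) ≠ 0 := by
        intro h
        have h2 : ringChar F₀ = 2 := CharP.ringChar_of_prime_eq_zero Nat.prime_two h
        have := FiniteField.even_card_of_char_two h2
        rw [hF₀] at this
        rcases hqodd with ⟨k, hk⟩
        omega
      have hevU : Even (Nat.card ↥(U1 F q)) := by
        rw [hcard]
        exact hqodd.add_one
      rcases mul_self_eq_one_iff.1 hcc with rfl | rfl
      · -- symmetric
        obtain ⟨aA, S, dA, hS⟩ := exists_desc hF j hsurj 1 1 1 (by ring) (by simp) one_ne_zero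
          (by simp) A hAc
        have hSs : S.1ᵀ = S.1 := by
          rw [one_smul] at hS
          apply Matrix.map_injective j.injective
          show (S.1ᵀ).map j = S.1.map j
          rw [← hS]
          rfl
        have hκ : (1 : F) * 1 * 1⁻¹ ≠ 0 := by simp
        have hμ : (1 : F)⁻¹ ≠ 0 := by simp
        obtain ⟨e0⟩ := descent_equiv hF hn2 j hfix hsurj A aA S hκ hμ dA
        have hnot : ¬ Nonempty (↥(Cfsg.inndiagPSU (2 * m) F q ⊓ Subgroup.centralizer {gamU hF A}) ≃*
            Cfsg.PGSp (2 * m / 2) F₀) := by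
          rintro ⟨e⟩
          rw [hdiv] at e
          have h3 : TwoChars (Cfsg.projQuot (SimGL S)) F₀ := twoChars_symm h2 m (by omega) S hSs
          have h4 : TwoChars (Cfsg.PGSp m F₀) F₀ := TwoChars.of_equiv (e.symm.trans e0) h3
          exact not_twoChars_PGSp h2 m h4
        refine ⟨fun h => absurd h.2.2 hnot, fun _ => ?_, fun h => absurd ⟨hev, hqodd⟩ h⟩
        rw [hcount, card_quot_sq_pow_cyclic hevU (detSimU hF A) m
          (detSimU_symm hF (by omega) j hfix hsurj h2 A aA S hSs hκ hμ dA), hcard]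
      · -- alternating
        obtain ⟨t, ht⟩ := nm_surj hF (-1 : F) (by rw [cj_neg hF, one_pow])
        have ht0 : t ≠ 0 := by
          rintro rfl
          rw [zero_mul] at ht
          exact one_ne_zero (neg_eq_zero.1 ht.symm)
        have hc' : (t * t)⁻¹ * ((t * t)⁻¹) ^ q = 1 := by
          rw [inv_pow, mul_pow, ← mul_inv]
          have : t * t * (t ^ q * t ^ q) = 1 := by linear_combination (t * t ^ q - 1) * ht
          rw [this, inv_one]
        obtain ⟨ρ, hρ0, hρ⟩ := hilbert90_scalar hF ((t * t)⁻¹) hc'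
        have hρ' : ρ ^ q * (t * t) = ρ := by
          rw [hρ]
          field_simp
        obtain ⟨aA, S, dA, hS⟩ := exists_desc hF j hsurj (-1) t ρ (by ring) ht hρ0 hρ' A hAc
        have hSa : S.1ᵀ = -S.1 := by
          rw [neg_smul, one_smul] at hS
          apply Matrix.map_injective j.injective
          show (S.1ᵀ).map j = (-S.1).map j
          have e : (-S.1).map j = -(S.1.map j) := by
            ext i k
            simp
          rw [e, ← hS]
          rfl
        have hκJ : t * (-1) * ρ⁻¹ ≠ 0 :=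
          mul_ne_zero (mul_ne_zero ht0 (by norm_num)) (inv_ne_zero hρ0)
        have hμJ : ρ⁻¹ ≠ 0 := inv_ne_zero hρ0
        obtain ⟨e0⟩ := descent_equiv hF hn2 j hfix hsurj A aA S hκJ hμJ dA
        obtain ⟨e1⟩ := projQuot_SimGL_alt_odd h2 S hSa
        have hyes : Nonempty (↥(Cfsg.inndiagPSU (2 * m) F q ⊓ Subgroup.centralizer {gamU hF A}) ≃*
            Cfsg.PGSp (2 * m / 2) F₀) := by
          rw [hdiv]
          exact ⟨e0.trans e1⟩
        refine ⟨fun _ => ?_, fun h => absurd hyes h.2.2, fun h => absurd ⟨hev, hqodd⟩ h⟩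
        rw [hcount, card_quot_pow_cyclic (detSimU hF A) m
          (detSimU_alt hF (by omega) j hfix hsurj h2 A aA S hSa hκJ hμJ dA), hcard, hdiv, Nat.gcd_comm]
    · -- characteristic two
      have hqev : Even q := Nat.not_odd_iff_even.1 hqodd
      have h2F : (2 : F) = 0 := by
        have hev2 : Fintype.card F % 2 = 0 := by
          rw [hF]
          obtain ⟨k, hk⟩ := hqev
          rw [hk, ← two_mul, mul_pow]
          omega
        have hch : ringChar F = 2 := FiniteField.even_card_iff_char_two.2 hev2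
        have := CharP.cast_eq_zero F (ringChar F)
        rw [hch] at this
        exact_mod_cast this
      refine ⟨fun h => absurd h.2.1 hqodd, fun h => absurd h.2.1 hqodd, fun _ => ?_⟩
      rw [hcount, card_quot_pow_cyclic (detSimU hF A) (2 * m)
        (detSimU_char2_even hF h2F hqev m (by omega) A), hcard, Nat.gcd_comm]
  · -- odd dimension
    have hnev : ¬ Even (2 * m + 1) := by
      rw [Nat.not_even_iff_odd]
      exact ⟨m, rfl⟩
    refine ⟨fun h => absurd h.1 hnev, fun h => absurd h.1 hnev, fun _ => ?_⟩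
    rw [hcount, card_quot_pow_cyclic (detSimU hF A) (2 * m + 1) (detSimU_odd hF m (by omega) A), hcard,
      Nat.gcd_comm]

end Cfsg.Agent.S2709
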