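import Cfsg.Statements.S2710
import Mathlib
import Cfsg.Agent.Lib.Helper19.PSUGraph5
import Cfsg.Agent.Lib.Helper19.PSLGraph3

set_option autoImplicit false
open Cfsg

namespace Cfsg.Agent.S2710

open Matrix
open Cfsg.Agent.Lib.Helper19.PSUGraph
open Cfsg.Agent.Lib.Helper19.PSLGraph (SimGL SimGL_eq_quadSim QA pgo_symm_even)

/-- Let T = PSU_n(q) with n ≥ 4 divisible by 4 (n = 2m) and q odd, realised over the field F with q² elements, G = Inndiag(T) the image of PGU_n(q), and φ the standard field automorphism of T attached to the q-th power map of F (it induces inverse-transpose on the unitary matrices and is a graph automorphism). Its centralizer in G is isomorphic to the projective conformal orthogonal group of the plus-type form Σ xᵢ yᵢ in dimension n over a field F₀ with q elements. (Dimensions n ≡ 2 (mod 4) are not covered.) -/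
theorem result {F : Type*} [Field F] [Fintype F] {q : ℕ} (hodd : Odd q) (hF : Fintype.card F = q ^ 2) {n m : ℕ} (hm : 2 ≤ m) (hnm : n = 2 * m) (h4 : 4 ∣ n) (F₀ : Type*) [Field F₀] [Fintype F₀] (hF₀ : Fintype.card F₀ = q) (σ : F ≃+* F) (hσ : ∀ a : F, σ a = a ^ q) (φ : MulAut (Cfsg.PSU n F q)) (hφ : Cfsg.IsFieldAutPSUOf σ φ) :
    Nonempty (↥(Cfsg.inndiagPSU n F q ⊓ Subgroup.centralizer {φ}) ≃* Cfsg.PGO F₀ (Cfsg.quadFormPlus m F₀)) := by
  subst hnm
  classical
  have h2 : (2 : F₀) ≠ 0 := by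
    intro h
    have h2 : ringChar F₀ = 2 := CharP.ringChar_of_prime_eq_zero Nat.prime_two h
    have := FiniteField.even_card_of_char_two h2
    rw [hF₀] at this
    rcases hodd with ⟨k, hk⟩
    omega
  have hσE : σ = cjE hF := by
    apply RingEquiv.ext
    intro x
    rw [hσ, cjE_apply]
  have hφ' : φ = gamU hF (1 : ↥(GU (2 * m) F q)) := by
    rw [gamU_one]
    unfold iotaU
    rw [← hσE]
    exact (isFieldAutU_iff σ φ).1 hφ
  obtain ⟨j, hfix, hsurj⟩ := exists_emb hF F₀ hF₀
  have dA : Desc j q ((1 : ↥(GU (2 * m) F q)).1.1) (1 : GL (Fin (2 * m)) F).1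
      (1 : GL (Fin (2 * m)) F₀).1 (1 : F) (1 : F) := by
    constructor
    · show cg (1 : Matrix (Fin (2 * m)) (Fin (2 * m)) F) 1 = (1 : F) • (1 : Matrix (Fin (2 * m)) (Fin (2 * m)) F₀).map j
      unfold cg
      rw [Matrix.map_one j (map_zero j) (map_one j), one_smul, Matrix.transpose_one, mul_one, mul_one]
    · show hg q (1 : Matrix (Fin (2 * m)) (Fin (2 * m)) F) 1 = (1 : F) • (1 : Matrix (Fin (2 * m)) (Fin (2 * m)) F₀).map j
      unfold hg
      rw [Matrix.map_one j (map_zero j) (map_one j), one_smul, cjM_one hF, Matrix.transpose_one, mul_one,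
        mul_one]
  obtain ⟨e0⟩ := descent_equiv hF (by omega) j hfix hsurj (1 : ↥(GU (2 * m) F q)) 1 1 one_ne_zero
    one_ne_zero dA
  have hS := SimGL_eq_quadSim h2 (1 : GL (Fin (2 * m)) F₀) (by
    rw [Units.val_one, Matrix.transpose_one])
  have e1 : Cfsg.projQuot (SimGL (1 : GL (Fin (2 * m)) F₀)) ≃*
      Cfsg.PGO F₀ (QA ((1 : GL (Fin (2 * m)) F₀) : Matrix (Fin (2 * m)) (Fin (2 * m)) F₀)) := by
    unfold Cfsg.PGO Cfsg.projQuot
    rw [← hS]
  obtain ⟨hplus, -⟩ := pgo_symm_even h2 m (by omega) (1 : Matrix (Fin (2 * m)) (Fin (2 * m)) F₀)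
    Matrix.transpose_one (by rw [Matrix.det_one]; exact isUnit_one)
  have hmeven : Even m := by
    obtain ⟨k, hk⟩ := h4
    exact ⟨k, by omega⟩
  obtain ⟨e2⟩ := hplus (by
    rw [Matrix.det_one, mul_one, hmeven.neg_one_pow]
    exact ⟨1, by ring⟩)
  rw [hφ']
  rw [Units.val_one] at e1
  exact ⟨e0.trans (e1.trans e2)⟩

end Cfsg.Agent.S2710
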