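import Cfsg.Statements.S2723
import Mathlib
import Cfsg.Agent.Lib.Helper19.OrthAut
import Cfsg.Agent.Lib.Helper19.QuadStd
import Cfsg.Agent.Lib.Helper19.OrthHyp
import Cfsg.Agent.S0790

set_option autoImplicit false
open Cfsg

namespace Cfsg.Agent.S2723

open Cfsg.Agent.Lib.Helper19.OrthRefl Cfsg.Agent.Lib.Helper19.QuadStd

theorem negOne_mem_iff {ι : Type} [Fintype ι] [DecidableEq ι] {F : Type*} [Field F]
    (Q : QuadraticForm F (ι → F)) :
    (∃ g : ↥(Cfsg.isometryGroup F ⇑Q), g ∈ Cfsg.Omega F ⇑Q ∧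
      ((g : Matrix.GeneralLinearGroup ι F) : Matrix ι ι F) = -1) ↔ negOne Q ∈ Cfsg.Omega F ⇑Q := by
  constructor
  · rintro ⟨g, hg, hmat⟩
    have : g = negOne Q := by
      apply Subtype.ext
      apply Units.ext
      rw [hmat, negOne_coe]
    rw [← this]
    exact hg
  · intro h
    exact ⟨negOne Q, h, negOne_coe Q⟩

theorem three_pow_mod_four (k : ℕ) : 3 ^ k % 4 = if Even k then 1 else 3 := by
  induction k with
  | zero => simp
  | succ k ih =>
    rw [pow_succ, Nat.mul_mod, ih]
    by_cases hk : Even k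
    · rw [if_pos hk, if_neg (by rw [Nat.even_add_one]; exact not_not.2 hk)]
    · rw [if_neg hk, if_pos (by rw [Nat.even_add_one]; exact hk)]

theorem pow_mod_four_eq_one_iff {q : ℕ} (hq : Odd q) (k : ℕ) :
    q ^ k % 4 = 1 ↔ ¬ (Odd k ∧ q % 4 = 3) := by
  have h1 : q % 4 = 1 ∨ q % 4 = 3 := by
    have := Nat.odd_iff.1 hq
    omega
  rw [Nat.pow_mod]
  rcases h1 with h1 | h1
  · rw [h1, one_pow]
    constructor
    · intro _ h; omega
    · intro _; rfl
  · rw [h1, three_pow_mod_four]
    by_cases hk : Even k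
    · rw [if_pos hk]
      constructor
      · intro _ h; exact (Nat.not_odd_iff_even.2 hk) h.1
      · intro _; rfl
    · rw [if_neg hk]
      constructor
      · intro h; omega
      · intro h; exact absurd ⟨Nat.not_even_iff_odd.1 hk, rfl⟩ h

/-- Let T = PΩ⁺_{2m}(F) with m ≥ 4 and |F| = q odd. The image of the special orthogonal group in Aut(T) contains the inner automorphism group T with index 1 (they coincide) when m is odd and q ≡ 3 (mod 4), and with index 2 otherwise (the index is 2 exactly when the discriminant of the form is a square). -/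
theorem result {F : Type*} [Field F] [Fintype F] (hodd : Odd (Fintype.card F)) {m : ℕ} (hm : 4 ≤ m) :
    ((Odd m ∧ Fintype.card F % 4 = 3) → (Cfsg.Inn (Cfsg.POmega F (Cfsg.quadFormPlus m F))).relIndex (Cfsg.psoAut F (Cfsg.quadFormPlus m F)) = 1) ∧ (¬ (Odd m ∧ Fintype.card F % 4 = 3) → (Cfsg.Inn (Cfsg.POmega F (Cfsg.quadFormPlus m F))).relIndex (Cfsg.psoAut F (Cfsg.quadFormPlus m F)) = 2) := by
  classical
  have h2 : (2 : F) ≠ 0 := two_ne_zero_of_odd_card hodd
  have hcard : Fintype.card (Fin m ⊕ Fin m) = 2 * m := by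
    rw [Fintype.card_sum, Fintype.card_fin]; ring
  have hiff := Cfsg.Agent.S0790.result (F := F) rfl hodd m (by omega)
  rw [← coe_stdPlus, negOne_mem_iff, pow_mod_four_eq_one_iff hodd] at hiff
  rw [← coe_stdPlus]
  have hQ := stdPlus_nondeg (F := F) m
  constructor
  · intro h
    exact relIndex_inn_pso_of_not_mem h2 (stdPlus m F) hQ (by rw [hcard]; omega)
      (by rw [hcard]; exact even_two_mul m) (fun hmem => (hiff.1 hmem) h)
  · intro h
    exact relIndex_inn_pso_of_mem h2 (stdPlus m F) hQ (by rw [hcard]; omega) (hiff.2 h)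

end Cfsg.Agent.S2723
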