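import Cfsg.Statements.S2725
import Mathlib
import Cfsg.Agent.Lib.Helper19.OrthSimPlus
import Cfsg.Agent.Lib.Helper19.OrthHyp
import Cfsg.Agent.S2723
import Cfsg.Agent.S0790

set_option autoImplicit false
open Cfsg

namespace Cfsg.Agent.S2725

open Cfsg.Agent.Lib.Helper19.OrthRefl Cfsg.Agent.Lib.Helper19.QuadStd

/-- The inner-diagonal group, for a general form on the same space. -/
def IDgen {F : Type*} [Field F] {m : ℕ} (Q' : (Fin m ⊕ Fin m → F) → F) :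
    Subgroup (MulAut (Cfsg.POmega F Q')) :=
  Cfsg.autSubgroupOf fun β : Cfsg.POmega F Q' ≃* Cfsg.POmega F Q' =>
    ∃ g : Matrix.GeneralLinearGroup (Fin m ⊕ Fin m) F,
      g ∈ Cfsg.Geo.quadSimilarityGroup (F := F) Q' ∧
      Cfsg.PreservesSingularClasses Q' (g : Matrix (Fin m ⊕ Fin m) (Fin m ⊕ Fin m) F) ∧
      Cfsg.IsInducedBySemilinearPOmega Q' g (RingEquiv.refl F) β

theorem IDgen_eq {F : Type*} [Field F] [Fintype F] (h2 : (2 : F) ≠ 0) (m : ℕ)
    {u : Fin m ⊕ Fin m → F} (hu : stdPlus m F u ≠ 0)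
    (hk : Fintype.card (Fin m ⊕ Fin m) = 2 * m) :
    IDgen (⇑(stdPlus m F))
      = (psi2 h2 (stdPlus m F) (stdPlus_nondeg m) hu m hk).ker.map (autGO (⇑(stdPlus m F))) := by
  unfold IDgen Cfsg.autSubgroupOf
  have hset : {β : MulAut (Cfsg.POmega F (⇑(stdPlus m F))) |
      ∃ g : Matrix.GeneralLinearGroup (Fin m ⊕ Fin m) F,
        g ∈ Cfsg.Geo.quadSimilarityGroup (F := F) (⇑(stdPlus m F)) ∧
        Cfsg.PreservesSingularClasses (⇑(stdPlus m F))
          (g : Matrix (Fin m ⊕ Fin m) (Fin m ⊕ Fin m) F) ∧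
        Cfsg.IsInducedBySemilinearPOmega (⇑(stdPlus m F)) g (RingEquiv.refl F) β}
      = (((psi2 h2 (stdPlus m F) (stdPlus_nondeg m) hu m hk).ker.map
          (autGO (⇑(stdPlus m F))) : Subgroup _) : Set _) := by
    ext β
    constructor
    · rintro ⟨g, hg, hpsc, hβ⟩
      refine ⟨⟨g, hg⟩, ?_, ((isInduced_iff_sim _ ⟨g, hg⟩ β).1 hβ).symm⟩
      rw [SetLike.mem_coe, MonoidHom.mem_ker, ← psc_iff_psi2_plus h2 m hu hk]
      exact hpsc
    · rintro ⟨g, hg, rfl⟩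
      rw [SetLike.mem_coe, MonoidHom.mem_ker, ← psc_iff_psi2_plus h2 m hu hk] at hg
      exact ⟨g.1, g.2, hg, (isInduced_iff_sim _ g _).2 rfl⟩
  rw [hset, Subgroup.closure_eq]

theorem final {F : Type*} [Field F] [Fintype F] (hodd : Odd (Fintype.card F)) {m : ℕ}
    (hm : 4 ≤ m) (Q' : (Fin m ⊕ Fin m → F) → F) (hQ' : Q' = ⇑(stdPlus m F)) :
    ((Odd m ∧ Fintype.card F % 4 = 3) → (∃ φ : ↥(IDgen Q') →* Multiplicative (ZMod 2), Function.Surjective φ ∧ φ.ker = (Cfsg.Inn (Cfsg.POmega F Q')).subgroupOf (IDgen Q'))) ∧ ((Odd m ∧ Fintype.card F % 4 = 1) → (∃ φ : ↥(IDgen Q') →* Multiplicative (ZMod 4), Function.Surjective φ ∧ φ.ker = (Cfsg.Inn (Cfsg.POmega F Q')).subgroupOf (IDgen Q'))) ∧ (Even m → (∃ φ : ↥(IDgen Q') →* Multiplicative (ZMod 2 × ZMod 2), Function.Surjective φ ∧ φ.ker = (Cfsg.Inn (Cfsg.POmega F Q')).subgroupOf (IDgen Q'))) := by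
  classical
  subst hQ'
  have h2 : (2 : F) ≠ 0 := two_ne_zero_of_odd_card hodd
  have hcard : Fintype.card (Fin m ⊕ Fin m) = 2 * m := by
    rw [Fintype.card_sum, Fintype.card_fin]; ring
  have hQ := stdPlus_nondeg (F := F) m
  have hiff := Cfsg.Agent.S0790.result (F := F) rfl hodd m (by omega)
  rw [← coe_stdPlus, Cfsg.Agent.S2723.negOne_mem_iff,
    Cfsg.Agent.S2723.pow_mod_four_eq_one_iff hodd] at hiff
  obtain ⟨u, hQu⟩ := exists_Q_eq h2 (stdPlus m F) hQ (by rw [hcard]; omega) 1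
  have hu : stdPlus m F u ≠ 0 := by rw [hQu]; exact one_ne_zero
  have hd := exists_nonsq_mult_plus h2 m hu
  obtain ⟨G₁, hG1, hG2, hG3⟩ := exists_swap_plus h2 m hu hcard
  rw [IDgen_eq h2 m hu hcard]
  refine ⟨?_, ?_, ?_⟩
  · intro h
    exact inndiag_c2 h2 (stdPlus m F) hQ (by rw [hcard]; omega) hu m hcard hd
      (fun hmem => (hiff.1 hmem) h)
  · intro h
    have hneg : negOne (stdPlus m F) ∈ Cfsg.Omega F (⇑(stdPlus m F)) :=
      hiff.2 (fun h' => by omega)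
    have hG3' : psi2 h2 (stdPlus m F) hQ hu m hcard G₁ = -1 := by
      rcases Int.units_eq_one_or (psi2 h2 (stdPlus m F) hQ hu m hcard G₁) with h' | h'
      · exact absurd (hG3.1 h') (Nat.not_even_iff_odd.2 h.1)
      · exact h'
    exact inndiag_c4 h2 (stdPlus m F) hQ (by rw [hcard]; omega) hu m hcard hneg G₁ hG1 hG2 hG3'
  · intro h
    have hneg : negOne (stdPlus m F) ∈ Cfsg.Omega F (⇑(stdPlus m F)) :=
      hiff.2 (fun h' => (Nat.not_even_iff_odd.2 h'.1) h)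
    exact inndiag_klein h2 (stdPlus m F) hQ (by rw [hcard]; omega) hu m hcard hneg G₁ hG1 hG2
      (hG3.2 h)

/-- Let T = PΩ⁺_{2m}(F) with m ≥ 4 and |F| = q odd. The inner-diagonal group G = Inndiag(T) (image of the class-preserving similarities) taken modulo the inner automorphism group T is cyclic of order 2 when m is odd and q ≡ 3 (mod 4), cyclic of order 4 when m is odd and q ≡ 1 (mod 4), and elementary abelian of order 4 when m is even. -/
theorem result {F : Type*} [Field F] [Fintype F] (hodd : Odd (Fintype.card F)) {m : ℕ} (hm : 4 ≤ m) :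
    ((Odd m ∧ Fintype.card F % 4 = 3) → (∃ φ : ↥(Cfsg.inndiagPOmegaPlus m F) →* Multiplicative (ZMod 2), Function.Surjective φ ∧ φ.ker = (Cfsg.Inn (Cfsg.POmega F (Cfsg.quadFormPlus m F))).subgroupOf (Cfsg.inndiagPOmegaPlus m F))) ∧ ((Odd m ∧ Fintype.card F % 4 = 1) → (∃ φ : ↥(Cfsg.inndiagPOmegaPlus m F) →* Multiplicative (ZMod 4), Function.Surjective φ ∧ φ.ker = (Cfsg.Inn (Cfsg.POmega F (Cfsg.quadFormPlus m F))).subgroupOf (Cfsg.inndiagPOmegaPlus m F))) ∧ (Even m → (∃ φ : ↥(Cfsg.inndiagPOmegaPlus m F) →* Multiplicative (ZMod 2 × ZMod 2), Function.Surjective φ ∧ φ.ker = (Cfsg.Inn (Cfsg.POmega F (Cfsg.quadFormPlus m F))).subgroupOf (Cfsg.inndiagPOmegaPlus m F))) := by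
  exact final hodd hm (Cfsg.quadFormPlus m F) (coe_stdPlus m).symm

end Cfsg.Agent.S2725
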