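import Cfsg.Statements.S2718
import Mathlib
import Cfsg.Agent.Lib.Helper19.OrthSimSplit2
import Cfsg.Agent.Lib.Helper19.OrthSimPlus
import Cfsg.Agent.Lib.Helper19.OrthHyp
import Cfsg.Agent.S2723
import Cfsg.Agent.S0790
import Cfsg.Agent.S2725

set_option autoImplicit false
open Cfsg

namespace Cfsg.Agent.S2718

open Cfsg.Agent.Lib.Helper19.OrthRefl Cfsg.Agent.Lib.Helper19.QuadStd Cfsg.Agent.S2725

theorem final {F : Type*} [Field F] [Fintype F] (hodd : Odd (Fintype.card F)) {m : ℕ}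
    (hm : 4 ≤ m) (Q' : (Fin m ⊕ Fin m → F) → F) (hQ' : Q' = ⇑(stdPlus m F))
    (γ : MulAut (Cfsg.POmega F Q'))
    (hγ : ∃ g : Matrix.GeneralLinearGroup (Fin m ⊕ Fin m) F,
      g ∈ Cfsg.Geo.quadSimilarityGroup (F := F) Q' ∧
      ¬ Cfsg.PreservesSingularClasses Q' (g : Matrix (Fin m ⊕ Fin m) (Fin m ⊕ Fin m) F) ∧
      Cfsg.IsInducedBySemilinearPOmega Q' g (RingEquiv.refl F) γ)
    (hγ2 : orderOf γ = 2) :
    (Cfsg.splitClassCount (IDgen Q') (Cfsg.Inn (Cfsg.POmega F Q')) γ = 1 ∨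
      Cfsg.splitClassCount (IDgen Q') (Cfsg.Inn (Cfsg.POmega F Q')) γ = 2) ∧
    (¬ (Odd m ∧ Fintype.card F % 4 = 3) →
      Cfsg.splitClassCount (IDgen Q') (Cfsg.Inn (Cfsg.POmega F Q')) γ = 2) := by
  classical
  subst hQ'
  have h2 : (2 : F) ≠ 0 := two_ne_zero_of_odd_card hodd
  have hcard : Fintype.card (Fin m ⊕ Fin m) = 2 * m := by
    rw [Fintype.card_sum, Fintype.card_fin]; ring
  have hn5 : 5 ≤ Fintype.card (Fin m ⊕ Fin m) := by rw [hcard]; omega
  have hQ := stdPlus_nondeg (F := F) m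
  have hV : Module.finrank F (Fin m ⊕ Fin m → F) = 2 * m := by
    rw [Module.finrank_fintype_fun_eq_card, hcard]
  have hiff := Cfsg.Agent.S0790.result (F := F) rfl hodd m (by omega)
  rw [← coe_stdPlus, Cfsg.Agent.S2723.negOne_mem_iff,
    Cfsg.Agent.S2723.pow_mod_four_eq_one_iff hodd] at hiff
  obtain ⟨u, hQu⟩ := exists_Q_eq h2 (stdPlus m F) hQ (by omega) 1
  have hu : stdPlus m F u ≠ 0 := by rw [hQu]; exact one_ne_zero
  have hd := exists_nonsq_mult_plus h2 m hu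
  obtain ⟨g, hg, hpsc, hβ⟩ := hγ
  set gg : ↥(GO (⇑(stdPlus m F))) := ⟨g, hg⟩ with hgg
  have hγeq : γ = autGO (⇑(stdPlus m F)) gg := (isInduced_iff_sim _ gg γ).1 hβ
  have hpsi2 : psi2 h2 (stdPlus m F) hQ hu m hcard gg = -1 := by
    rcases Int.units_eq_one_or (psi2 h2 (stdPlus m F) hQ hu m hcard gg) with h | h
    · exact absurd ((psc_iff_psi2_plus h2 m hu hcard gg).2 h) hpsc
    · exact h
  rw [IDgen_eq h2 m hu hcard]
  show (Cfsg.splitClassCount (HH h2 (stdPlus m F) hQ hu m hcard) _ γ = 1 ∨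
      Cfsg.splitClassCount (HH h2 (stdPlus m F) hQ hu m hcard) _ γ = 2) ∧
    (¬ (Odd m ∧ Fintype.card F % 4 = 3) →
      Cfsg.splitClassCount (HH h2 (stdPlus m F) hQ hu m hcard) _ γ = 2)
  by_cases hcase : Odd m ∧ Fintype.card F % 4 = 3
  · refine ⟨?_, fun h => absurd hcase h⟩
    exact split_le_two h2 (stdPlus m F) hQ hn5 hu m hcard hd (fun hmem => (hiff.1 hmem) hcase) γ
  · have hneg : negOne (stdPlus m F) ∈ Cfsg.Omega F (⇑(stdPlus m F)) := hiff.2 hcase
    -- the square of `g` is scalar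
    have hγγ : γ * γ = 1 := by
      have := pow_orderOf_eq_one γ
      rw [hγ2, pow_two] at this
      exact this
    have hker : autGO (⇑(stdPlus m F)) (gg * gg) = 1 := by
      rw [map_mul, ← hγeq, hγγ]
    obtain ⟨l, hl⟩ := scalar_of_autGO_eq_one h2 (stdPlus m F) hQ hn5 (gg * gg) hker
    have hl' : ∀ x, gv (stdPlus m F) gg (gv (stdPlus m F) gg x) = l • x := by
      intro x
      rw [← hl x]
      unfold gv
      rw [Matrix.mulVec_mulVec]
      rfl
    -- the excluded case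
    have h1b : ¬ (IsSquare ((mult (⇑(stdPlus m F)) gg : Fˣ) : F) ∧
        l = -((mult (⇑(stdPlus m F)) gg : Fˣ) : F)) := by
      rintro ⟨⟨θ, hθ⟩, hlμ⟩
      apply hpsc
      have hc' : Even m ∨ IsSquare (-1 : F) := by
        by_cases hme : Even m
        · left; exact hme
        · right
          rw [FiniteField.isSquare_neg_one_iff]
          intro h3
          exact hcase ⟨Nat.not_even_iff_odd.1 hme, h3⟩
      exact psc_of_sq_neg h2 (stdPlus m F) hQ gg hV (plusE m F) (plusE_isTS m) (plusE_finrank m)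
        l θ hl' hθ hlμ hc'
    obtain ⟨s, hsSO, hsO, hsg⟩ := exists_comm (stdPlus m F) gg h2 hQ hn5 l hl' h1b
    have h := split_eq_two h2 (stdPlus m F) hQ hn5 hu m hcard hd hneg gg hpsi2 s hsSO hsO hsg
    rw [← hγeq] at h
    exact ⟨Or.inr h, fun _ => h⟩

/-- Let T = PΩ⁺_{2m}(F) with m ≥ 4 and |F| = q odd, G = Inndiag(T), and γ an involutory graph automorphism of T induced by a similarity (one interchanging the two classes of maximal totally singular subspaces). Then the G-class of γ is either a single T-class or the union of exactly two T-classes, and it is the union of two unless m is odd and q ≡ 3 (mod 4). -/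
theorem result {F : Type*} [Field F] [Fintype F] (hodd : Odd (Fintype.card F)) {m : ℕ} (hm : 4 ≤ m) (γ : MulAut (Cfsg.POmega F (Cfsg.quadFormPlus m F))) (hγ : Cfsg.IsSimilarityGraphAutPOmegaPlus m γ) (hγ2 : orderOf γ = 2) :
    (Cfsg.splitClassCount (Cfsg.inndiagPOmegaPlus m F) (Cfsg.Inn (Cfsg.POmega F (Cfsg.quadFormPlus m F))) γ = 1 ∨ Cfsg.splitClassCount (Cfsg.inndiagPOmegaPlus m F) (Cfsg.Inn (Cfsg.POmega F (Cfsg.quadFormPlus m F))) γ = 2) ∧ (¬ (Odd m ∧ Fintype.card F % 4 = 3) → Cfsg.splitClassCount (Cfsg.inndiagPOmegaPlus m F) (Cfsg.Inn (Cfsg.POmega F (Cfsg.quadFormPlus m F))) γ = 2) := by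
  exact final hodd hm (Cfsg.quadFormPlus m F) (coe_stdPlus m).symm γ hγ hγ2

end Cfsg.Agent.S2718
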