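import Cfsg.Statements.S2724
import Mathlib
import Cfsg.Agent.Lib.Helper19.OrthSimStd
import Cfsg.Agent.Lib.Helper19.OrthSimDih
import Cfsg.Agent.Lib.Helper19.OrthHyp
import Cfsg.Agent.S2723
import Cfsg.Agent.S0790

set_option autoImplicit false
open Cfsg

namespace Cfsg.Agent.S2724

open Cfsg.Agent.Lib.Helper19.OrthRefl Cfsg.Agent.Lib.Helper19.QuadStd

/-- Let T = PΩ⁺_{2m}(F) with m ≥ 4 and |F| = q odd. The image G̃ of the conformal orthogonal group in Aut(T), taken modulo the inner automorphism group T, is elementary abelian of order 4 when m is odd and q ≡ 3 (mod 4), and dihedral of order 8 otherwise. -/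
theorem result {F : Type*} [Field F] [Fintype F] (hodd : Odd (Fintype.card F)) {m : ℕ} (hm : 4 ≤ m) :
    ((Odd m ∧ Fintype.card F % 4 = 3) → (∃ φ : ↥(Cfsg.pgoAut F (Cfsg.quadFormPlus m F)) →* Multiplicative (ZMod 2 × ZMod 2), Function.Surjective φ ∧ φ.ker = (Cfsg.Inn (Cfsg.POmega F (Cfsg.quadFormPlus m F))).subgroupOf (Cfsg.pgoAut F (Cfsg.quadFormPlus m F)))) ∧ (¬ (Odd m ∧ Fintype.card F % 4 = 3) → (∃ φ : ↥(Cfsg.pgoAut F (Cfsg.quadFormPlus m F)) →* DihedralGroup 4, Function.Surjective φ ∧ φ.ker = (Cfsg.Inn (Cfsg.POmega F (Cfsg.quadFormPlus m F))).subgroupOf (Cfsg.pgoAut F (Cfsg.quadFormPlus m F)))) := by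
  classical
  have h2 : (2 : F) ≠ 0 := two_ne_zero_of_odd_card hodd
  have hcard : Fintype.card (Fin m ⊕ Fin m) = 2 * m := by
    rw [Fintype.card_sum, Fintype.card_fin]; ring
  have hQ := stdPlus_nondeg (F := F) m
  have hiff := Cfsg.Agent.S0790.result (F := F) rfl hodd m (by omega)
  rw [← coe_stdPlus, Cfsg.Agent.S2723.negOne_mem_iff,
    Cfsg.Agent.S2723.pow_mod_four_eq_one_iff hodd] at hiff
  have hrel := Cfsg.Agent.S2723.result (F := F) hodd hm
  rw [← coe_stdPlus] at hrel ⊢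
  obtain ⟨u, hQu⟩ := exists_Q_eq h2 (stdPlus m F) hQ (by rw [hcard]; omega) 1
  have hu : stdPlus m F u ≠ 0 := by rw [hQu]; exact one_ne_zero
  have hd := exists_nonsq_mult_plus h2 m hu
  constructor
  · intro h
    rw [inn_eq_pso_of_relIndex h2 (stdPlus m F) hQ (by rw [hcard]; omega) (hrel.1 h)]
    exact klein_of_sim h2 (stdPlus m F) hQ (by rw [hcard]; omega) m hcard hd
  · intro h
    exact dihedral_of_sim h2 (stdPlus m F) hQ (by rw [hcard]; omega) m hcard hd (hiff.2 h)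

end Cfsg.Agent.S2724
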