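import Cfsg.Statements.S2726
import Mathlib
import Cfsg.Agent.Lib.Helper19.OrthSimStd
import Cfsg.Agent.Lib.Helper19.OrthHyp

set_option autoImplicit false
open Cfsg

namespace Cfsg.Agent.S2726

open Cfsg.Agent.Lib.Helper19.OrthRefl Cfsg.Agent.Lib.Helper19.QuadStd

/-- Let T = PΩ⁻_{2m+2}(F) with m ≥ 3 and |F| = q odd (form with anisotropic binary part). Inside Aut(T), the image G̃ of the conformal orthogonal group of the form modulo the image of the special orthogonal group is elementary abelian of order 4. -/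
theorem result {F : Type*} [Field F] [Fintype F] (hodd : Odd (Fintype.card F)) {m : ℕ} (hm : 3 ≤ m) (a b : F) (hab : (∀ z₁ z₂ : F, z₁ ^ 2 + a * z₁ * z₂ + b * z₂ ^ 2 = 0 → z₁ = 0 ∧ z₂ = 0)) :
    (∃ φ : ↥(Cfsg.pgoAut F (Cfsg.quadFormMinus m F a b)) →* Multiplicative (ZMod 2 × ZMod 2), Function.Surjective φ ∧ φ.ker = (Cfsg.psoAut F (Cfsg.quadFormMinus m F a b)).subgroupOf (Cfsg.pgoAut F (Cfsg.quadFormMinus m F a b))) := by
  classical
  have h2 : (2 : F) ≠ 0 := two_ne_zero_of_odd_card hodd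
  have hcard : Fintype.card ((Fin m ⊕ Fin m) ⊕ Fin 2) = 2 * (m + 1) := by
    rw [Fintype.card_sum, Fintype.card_sum, Fintype.card_fin, Fintype.card_fin]; ring
  have hQ := stdMinus_nondeg (F := F) m hab
  rw [← coe_stdMinus]
  obtain ⟨u, hQu⟩ := exists_Q_eq h2 (stdMinus m F a b) hQ (by rw [hcard]; omega) 1
  have hu : stdMinus m F a b u ≠ 0 := by rw [hQu]; exact one_ne_zero
  exact klein_of_sim h2 (stdMinus m F a b) hQ (by rw [hcard]; omega) (m + 1) hcard
    (exists_nonsq_mult_minus h2 m a b hab hu)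

end Cfsg.Agent.S2726
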