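import Cfsg.Statements.S2728
import Mathlib
import Cfsg.Agent.Lib.Helper19.OrthSimStd
import Cfsg.Agent.Lib.Helper19.OrthSimDih
import Cfsg.Agent.Lib.Helper19.OrthHyp
import Cfsg.Agent.S2727
import Cfsg.Agent.S0791

set_option autoImplicit false
open Cfsg

namespace Cfsg.Agent.S2728

open Cfsg.Agent.Lib.Helper19.OrthRefl Cfsg.Agent.Lib.Helper19.QuadStd

/-- Let T = PΩ⁻_{2m+2}(F) with m ≥ 3 and |F| = q odd (form with anisotropic binary part). The image G̃ of the conformal orthogonal group in Aut(T), taken modulo the inner automorphism group T, is dihedral of order 8 when m is even and q ≡ 3 (mod 4), and elementary abelian of order 4 otherwise. -/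
theorem result {F : Type*} [Field F] [Fintype F] (hodd : Odd (Fintype.card F)) {m : ℕ} (hm : 3 ≤ m) (a b : F) (hab : (∀ z₁ z₂ : F, z₁ ^ 2 + a * z₁ * z₂ + b * z₂ ^ 2 = 0 → z₁ = 0 ∧ z₂ = 0)) :
    ((Even m ∧ Fintype.card F % 4 = 3) → (∃ φ : ↥(Cfsg.pgoAut F (Cfsg.quadFormMinus m F a b)) →* DihedralGroup 4, Function.Surjective φ ∧ φ.ker = (Cfsg.Inn (Cfsg.POmega F (Cfsg.quadFormMinus m F a b))).subgroupOf (Cfsg.pgoAut F (Cfsg.quadFormMinus m F a b)))) ∧ (¬ (Even m ∧ Fintype.card F % 4 = 3) → (∃ φ : ↥(Cfsg.pgoAut F (Cfsg.quadFormMinus m F a b)) →* Multiplicative (ZMod 2 × ZMod 2), Function.Surjective φ ∧ φ.ker = (Cfsg.Inn (Cfsg.POmega F (Cfsg.quadFormMinus m F a b))).subgroupOf (Cfsg.pgoAut F (Cfsg.quadFormMinus m F a b)))) := by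
  classical
  have h2 : (2 : F) ≠ 0 := two_ne_zero_of_odd_card hodd
  have hcard : Fintype.card ((Fin m ⊕ Fin m) ⊕ Fin 2) = 2 * (m + 1) := by
    rw [Fintype.card_sum, Fintype.card_sum, Fintype.card_fin, Fintype.card_fin]; ring
  have hQ := stdMinus_nondeg (F := F) m hab
  have hiff := Cfsg.Agent.S0791.result (F := F) rfl hodd (m + 1) (by omega) a b hab
  rw [← coe_stdMinus, Cfsg.Agent.S2727.negOne_mem_iff,
    Cfsg.Agent.S2727.pow_mod_four_eq_three_iff hodd] at hiff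
  have hoddm : Odd (m + 1) ↔ Even m := by
    rw [Nat.odd_add_one, Nat.not_odd_iff_even]
  have hrel := Cfsg.Agent.S2727.result (F := F) hodd hm a b hab
  rw [← coe_stdMinus] at hrel ⊢
  obtain ⟨u, hQu⟩ := exists_Q_eq h2 (stdMinus m F a b) hQ (by rw [hcard]; omega) 1
  have hu : stdMinus m F a b u ≠ 0 := by rw [hQu]; exact one_ne_zero
  have hd := exists_nonsq_mult_minus h2 m a b hab hu
  constructor
  · intro h
    exact dihedral_of_sim h2 (stdMinus m F a b) hQ (by rw [hcard]; omega) (m + 1) hcard hd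
      (hiff.2 ⟨hoddm.2 h.1, h.2⟩)
  · intro h
    rw [inn_eq_pso_of_relIndex h2 (stdMinus m F a b) hQ (by rw [hcard]; omega) (hrel.2 h)]
    exact klein_of_sim h2 (stdMinus m F a b) hQ (by rw [hcard]; omega) (m + 1) hcard hd

end Cfsg.Agent.S2728
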