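import Cfsg.Statements.S2729
import Mathlib
import Cfsg.Agent.Lib.Helper19.OrthSimMinus
import Cfsg.Agent.Lib.Helper19.OrthHyp
import Cfsg.Agent.S2727
import Cfsg.Agent.S0791

set_option autoImplicit false
open Cfsg

namespace Cfsg.Agent.S2729

open Cfsg.Agent.Lib.Helper19.OrthRefl Cfsg.Agent.Lib.Helper19.QuadStd

universe u

/-- The inner-diagonal group, for a general form on the same space. -/
def IDgen {F : Type u} [Field F] {m : ℕ} (a b : F) (Q' : ((Fin m ⊕ Fin m) ⊕ Fin 2 → F) → F) :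
    Subgroup (MulAut (Cfsg.POmega F Q')) :=
  Cfsg.autSubgroupOf fun β : Cfsg.POmega F Q' ≃* Cfsg.POmega F Q' =>
    ∃ g : Matrix.GeneralLinearGroup ((Fin m ⊕ Fin m) ⊕ Fin 2) F,
      g ∈ Cfsg.Geo.quadSimilarityGroup (F := F) Q' ∧
      Cfsg.PreservesSingularClassesMinus m a b
        (g : Matrix ((Fin m ⊕ Fin m) ⊕ Fin 2) ((Fin m ⊕ Fin m) ⊕ Fin 2) F) ∧
      Cfsg.IsInducedBySemilinearPOmega Q' g (RingEquiv.refl F) β

theorem IDgen_eq {F : Type u} [Field F] [Fintype F] (h2 : (2 : F) ≠ 0)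
    (hodd : Odd (Fintype.card F)) (m : ℕ) (a b : F)
    (hab : ∀ z₁ z₂ : F, z₁ ^ 2 + a * z₁ * z₂ + b * z₂ ^ 2 = 0 → z₁ = 0 ∧ z₂ = 0)
    {u : (Fin m ⊕ Fin m) ⊕ Fin 2 → F} (hu : stdMinus m F a b u ≠ 0)
    (hk : Fintype.card ((Fin m ⊕ Fin m) ⊕ Fin 2) = 2 * (m + 1)) :
    IDgen a b (⇑(stdMinus m F a b))
      = (psi2 h2 (stdMinus m F a b) (stdMinus_nondeg m hab) hu (m + 1) hk).ker.map
          (autGO (⇑(stdMinus m F a b))) := by
  unfold IDgen Cfsg.autSubgroupOf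
  have hset : {β : MulAut (Cfsg.POmega F (⇑(stdMinus m F a b))) |
      ∃ g : Matrix.GeneralLinearGroup ((Fin m ⊕ Fin m) ⊕ Fin 2) F,
        g ∈ Cfsg.Geo.quadSimilarityGroup (F := F) (⇑(stdMinus m F a b)) ∧
        Cfsg.PreservesSingularClassesMinus m a b
          (g : Matrix ((Fin m ⊕ Fin m) ⊕ Fin 2) ((Fin m ⊕ Fin m) ⊕ Fin 2) F) ∧
        Cfsg.IsInducedBySemilinearPOmega (⇑(stdMinus m F a b)) g (RingEquiv.refl F) β}
      = (((psi2 h2 (stdMinus m F a b) (stdMinus_nondeg m hab) hu (m + 1) hk).ker.map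
          (autGO (⇑(stdMinus m F a b))) : Subgroup _) : Set _) := by
    ext β
    constructor
    · rintro ⟨g, hg, hpsc, hβ⟩
      refine ⟨⟨g, hg⟩, ?_, ((isInduced_iff_sim _ ⟨g, hg⟩ β).1 hβ).symm⟩
      rw [SetLike.mem_coe, MonoidHom.mem_ker, ← pscm_iff_psi2 h2 hodd m a b hab hu hk]
      exact hpsc
    · rintro ⟨g, hg, rfl⟩
      rw [SetLike.mem_coe, MonoidHom.mem_ker, ← pscm_iff_psi2 h2 hodd m a b hab hu hk] at hg
      exact ⟨g.1, g.2, hg, (isInduced_iff_sim _ g _).2 rfl⟩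
  rw [hset, Subgroup.closure_eq]

theorem final {F : Type u} [Field F] [Fintype F] (hodd : Odd (Fintype.card F)) {m : ℕ}
    (hm : 3 ≤ m) (a b : F)
    (hab : ∀ z₁ z₂ : F, z₁ ^ 2 + a * z₁ * z₂ + b * z₂ ^ 2 = 0 → z₁ = 0 ∧ z₂ = 0)
    (Q' : ((Fin m ⊕ Fin m) ⊕ Fin 2 → F) → F) (hQ' : Q' = ⇑(stdMinus m F a b)) :
    ((Even m ∧ Fintype.card F % 4 = 3) → (∃ φ : ↥(IDgen a b Q') →* Multiplicative (ZMod 4), Function.Surjective φ ∧ φ.ker = (Cfsg.Inn (Cfsg.POmega F Q')).subgroupOf (IDgen a b Q'))) ∧ (¬ (Even m ∧ Fintype.card F % 4 = 3) → (∃ φ : ↥(IDgen a b Q') →* Multiplicative (ZMod 2), Function.Surjective φ ∧ φ.ker = (Cfsg.Inn (Cfsg.POmega F Q')).subgroupOf (IDgen a b Q'))) := by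
  classical
  subst hQ'
  have h2 : (2 : F) ≠ 0 := two_ne_zero_of_odd_card hodd
  have hcard : Fintype.card ((Fin m ⊕ Fin m) ⊕ Fin 2) = 2 * (m + 1) := by
    rw [Fintype.card_sum, Fintype.card_sum, Fintype.card_fin, Fintype.card_fin]; ring
  have hQ := stdMinus_nondeg (F := F) m hab
  have hiff := Cfsg.Agent.S0791.result (F := F) rfl hodd (m + 1) (by omega) a b hab
  rw [← coe_stdMinus, Cfsg.Agent.S2727.negOne_mem_iff,
    Cfsg.Agent.S2727.pow_mod_four_eq_three_iff hodd] at hiff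
  have hoddm : Odd (m + 1) ↔ Even m := by
    rw [Nat.odd_add_one, Nat.not_odd_iff_even]
  obtain ⟨u, hQu⟩ := exists_Q_eq h2 (stdMinus m F a b) hQ (by rw [hcard]; omega) 1
  have hu : stdMinus m F a b u ≠ 0 := by rw [hQu]; exact one_ne_zero
  have hd := exists_nonsq_mult_minus h2 m a b hab hu
  obtain ⟨G₁, hG1, hG2, hG3⟩ := exists_swap_minus h2 m a b hab hu hcard
  rw [IDgen_eq h2 hodd m a b hab hu hcard]
  refine ⟨?_, ?_⟩
  · intro h
    have hneg : negOne (stdMinus m F a b) ∈ Cfsg.Omega F (⇑(stdMinus m F a b)) :=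
      hiff.2 ⟨hoddm.2 h.1, h.2⟩
    have hG3' : psi2 h2 (stdMinus m F a b) hQ hu (m + 1) hcard G₁ = -1 := by
      rcases Int.units_eq_one_or (psi2 h2 (stdMinus m F a b) hQ hu (m + 1) hcard G₁) with h' | h'
      · exact absurd (hG3.1 h') (Nat.not_even_iff_odd.2 (hoddm.2 h.1))
      · exact h'
    exact inndiag_c4 h2 (stdMinus m F a b) hQ (by rw [hcard]; omega) hu (m + 1) hcard hneg G₁
      hG1 hG2 hG3'
  · intro h
    exact inndiag_c2 h2 (stdMinus m F a b) hQ (by rw [hcard]; omega) hu (m + 1) hcard hd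
      (fun hmem => h ⟨hoddm.1 (hiff.1 hmem).1, (hiff.1 hmem).2⟩)

/-- Let T = PΩ⁻_{2m+2}(F) with m ≥ 3 and |F| = q odd (form with anisotropic binary part). The inner-diagonal group G = Inndiag(T) (image of the class-preserving similarities) taken modulo the inner automorphism group T is cyclic of order 4 when m is even and q ≡ 3 (mod 4), and of order 2 otherwise. -/
theorem result {F : Type*} [Field F] [Fintype F] (hodd : Odd (Fintype.card F)) {m : ℕ} (hm : 3 ≤ m) (a b : F) (hab : (∀ z₁ z₂ : F, z₁ ^ 2 + a * z₁ * z₂ + b * z₂ ^ 2 = 0 → z₁ = 0 ∧ z₂ = 0)) :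
    ((Even m ∧ Fintype.card F % 4 = 3) → (∃ φ : ↥(Cfsg.inndiagPOmegaMinus m F a b) →* Multiplicative (ZMod 4), Function.Surjective φ ∧ φ.ker = (Cfsg.Inn (Cfsg.POmega F (Cfsg.quadFormMinus m F a b))).subgroupOf (Cfsg.inndiagPOmegaMinus m F a b))) ∧ (¬ (Even m ∧ Fintype.card F % 4 = 3) → (∃ φ : ↥(Cfsg.inndiagPOmegaMinus m F a b) →* Multiplicative (ZMod 2), Function.Surjective φ ∧ φ.ker = (Cfsg.Inn (Cfsg.POmega F (Cfsg.quadFormMinus m F a b))).subgroupOf (Cfsg.inndiagPOmegaMinus m F a b))) := by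
  exact final hodd hm a b hab (Cfsg.quadFormMinus m F a b) (coe_stdMinus m a b).symm

end Cfsg.Agent.S2729
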