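import Cfsg.Statements.S2760
import Cfsg.Agent.Lib.Helper16.CharP

set_option autoImplicit false
open Cfsg
open Cfsg.Agent.Lib.Helper16
open scoped commutatorElement Pointwise

namespace Cfsg.Agent.S2760

variable {G : Type*} [Group G] [Finite G] {p : ℕ} [Fact p.Prime]

/-- `K` has characteristic `p` as soon as the `p'`-elements of `C_K(O_p(K))` are trivial. -/
theorem isCharPSub_of_coprime_trivial (K : Subgroup G)
    (h : ∀ e ∈ K ⊓ Subgroup.centralizer ((opDown p K : Subgroup G) : Set G),
      (orderOf e).Coprime p → e = 1) : IsCharPSub p K := by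
  unfold IsCharPSub
  apply le_opDown p inf_le_left
  · refine le_trans ?_ (inf_normalizer_le_normalizer_inf _ _)
    exact le_inf Subgroup.le_normalizer
      ((le_normalizer_opDown p K).trans (normalizer_le_normalizer_centralizer _))
  · exact isPGroup_of_coprime_elements_trivial _ h

/-- A normal subgroup of a group of characteristic `p` has characteristic `p`. -/
theorem isCharPSub_of_normal
    (hchar : Subgroup.centralizer (Cfsg.pCore p G : Set G) ≤ Cfsg.pCore p G)
    (K : Subgroup G) (hK : K.Normal) : IsCharPSub p K := by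
  apply isCharPSub_of_coprime_trivial
  intro e he hcop
  have hXn : (Cfsg.pCore p G).Normal := pCore_normal p G
  have hXp : IsPGroup p (Cfsg.pCore p G) := pCore_isPGroup p G
  have hXK : Cfsg.pCore p G ⊓ K ≤ opDown p K := by
    apply le_opDown p inf_le_right
    · have : (Cfsg.pCore p G ⊓ K).Normal := inferInstance
      rw [Subgroup.normalizer_eq_top]; exact le_top
    · exact hXp.to_le inf_le_left
  have hcomm : ∀ x ∈ Cfsg.pCore p G, x * e = e * x := by
    intro x hx
    have hc1 : ⁅x, e⁆ ∈ Cfsg.pCore p G := by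
      have h2 := hXn.conj_mem x⁻¹ (Subgroup.inv_mem _ hx) e
      have e' : ⁅x, e⁆ = x * (e * x⁻¹ * e⁻¹) := by rw [commutatorElement_def]; group
      rw [e']; exact Subgroup.mul_mem _ hx h2
    have hc2 : ⁅x, e⁆ ∈ K := by
      have h3 := hK.conj_mem e he.1 x
      rw [commutatorElement_def]
      exact K.mul_mem h3 (K.inv_mem he.1)
    have hc3 : ⁅x, e⁆ ∈ opDown p K := hXK ⟨hc1, hc2⟩
    have hzx : ⁅x, e⁆ * e = e * ⁅x, e⁆ := Subgroup.mem_centralizer_iff.mp he.2 _ hc3
    obtain ⟨k, hk⟩ := exists_pow_eq_one_of_mem hXp hc1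
    exact commute_of_coprime_commutator x e hzx k hk hcop
  have heC : e ∈ Subgroup.centralizer (Cfsg.pCore p G : Set G) :=
    Subgroup.mem_centralizer_iff.mpr (fun x hx => hcomm x hx)
  obtain ⟨j, hj⟩ := exists_pow_eq_one_of_mem hXp (hchar heC)
  exact eq_one_of_pow_prime_pow_of_coprime e j hj hcop

/-- If `O^p(K)` has characteristic `p` then so does `K`. -/
theorem isCharPSub_of_opUp (K : Subgroup G) (h : IsCharPSub p (opUp p K)) : IsCharPSub p K := by
  apply isCharPSub_of_coprime_trivial
  intro e he hcop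
  have heU : e ∈ opUp p K := mem_opUp_of_coprime p he.1 hcop
  have hle : opDown p (opUp p K) ≤ opDown p K :=
    opDown_le_opDown_of_normal p (opUp_le p K) (normalizer_le_normalizer_opUp p K |> fun h' =>
      Subgroup.le_normalizer.trans h')
  have heC : e ∈ Subgroup.centralizer ((opDown p (opUp p K) : Subgroup G) : Set G) :=
    Subgroup.centralizer_le hle he.2
  have := h ⟨heU, heC⟩
  obtain ⟨j, hj⟩ := exists_pow_eq_one_of_mem (opDown_isPGroup p _) this
  exact eq_one_of_pow_prime_pow_of_coprime e j hj hcop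

/-- Let G be a finite group with C_G(O₂(G)) ≤ O₂(G) and H a subgroup of G such that H is normal in G, or the subgroup O²(H) generated by the elements of H of odd order is normal in G. Then C_H(O₂(H)) ≤ O₂(H). -/
theorem result {G : Type*} [Group G] [Finite G] (hchar : Subgroup.centralizer (Cfsg.pCore 2 G : Set G) ≤ Cfsg.pCore 2 G) (H : Subgroup G) (hH : H.Normal ∨ ((Cfsg.pResidual 2 ↥H).map H.subtype).Normal) : Subgroup.centralizer (Cfsg.pCore 2 ↥H : Set ↥H) ≤ Cfsg.pCore 2 ↥H := by
  haveI : Fact (Nat.Prime 2) := Nat.fact_prime_two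
  apply type_of_isCharPSub
  rcases hH with h | h
  · exact isCharPSub_of_normal hchar H h
  · rw [map_pResidual_eq_opUp] at h
    exact isCharPSub_of_opUp H (isCharPSub_of_normal hchar _ h)

end Cfsg.Agent.S2760
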