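import Cfsg.Statements.S2781
import Cfsg.Agent.Lib.Helper16.SylowAveraging2
import Cfsg.Agent.Lib.Helper16.LargestPReduced
import Cfsg.Agent.Lib.Helper16.ThompsonAxB
import Cfsg.Agent.Lib.Helper16.FrakH0

set_option autoImplicit false
open Cfsg
open Cfsg.Agent.Lib.Helper16
open scoped commutatorElement Pointwise

namespace Cfsg.Agent.S2781

/-- Let H act faithfully by conjugation on the elementary abelian p-subgroup V of a finite group, let O^p(H) be the subgroup of H generated by its elements of order prime to p, and T a Sylow p-subgroup of O^p(H). If V is generated by the H-conjugates of C_V(T) (V is the smallest H-invariant subgroup containing C_V(T)), then V = [V, O^p(H)]·C_V(O^p(H)). -/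
theorem result {G : Type*} [Group G] [Finite G] {p : ℕ} [Fact p.Prime] (V H : Subgroup G) (hV : Cfsg.IsElementaryAbelian p V) (hHV : H ≤ Subgroup.normalizer (V : Set G)) (hf : H ⊓ Subgroup.centralizer (V : Set G) = ⊥) (R : Subgroup G) (hR : R = (Cfsg.pResidual p ↥H).map H.subtype) (S : Sylow p ↥R) (T : Subgroup G) (hT : T = ((S : Subgroup ↥R).map R.subtype)) (hgen : ∀ W : Subgroup G, H ≤ Subgroup.normalizer (W : Set G) → (V ⊓ Subgroup.centralizer ((T : Subgroup G) : Set G)) ≤ W → V ≤ W) : ⁅V, R⁆ ⊔ (V ⊓ Subgroup.centralizer ((R : Subgroup G) : Set G)) = V := by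
  have hRop : R = opUp p H := by rw [hR, map_pResidual_eq_opUp]
  have hRH : R ≤ H := by rw [hRop]; exact opUp_le p H
  have hHR : H ≤ Subgroup.normalizer (R : Set G) := by
    rw [hRop]
    exact Subgroup.le_normalizer.trans (normalizer_le_normalizer_opUp p H)
  have hRV : R ≤ Subgroup.normalizer (V : Set G) := hRH.trans hHV
  have hcomm_le : ⁅V, R⁆ ≤ V := by
    rw [Subgroup.commutator_le]
    intro v hv r hr
    rw [commutatorElement_def]
    have : v * r * v⁻¹ * r⁻¹ = v * (r * v⁻¹ * r⁻¹) := by group
    rw [this]
    exact V.mul_mem hv ((Subgroup.mem_normalizer_iff.mp (hRV hr) _).mp (V.inv_mem hv))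
  apply le_antisymm (sup_le hcomm_le inf_le_left)
  apply hgen
  · -- `H` normalizes the join
    refine le_trans ?_ (inf_normalizer_le_normalizer_sup _ _)
    apply le_inf
    · exact (le_inf hHV hHR).trans (inf_normalizer_le_normalizer_commutator V R)
    · refine le_trans ?_ (inf_normalizer_le_normalizer_inf _ _)
      exact le_inf hHV (hHR.trans (normalizer_le_normalizer_centralizer R))
  · intro x hx
    have hTR : T ≤ R := by rw [hT]; exact Subgroup.map_subtype_le _
    have hidx : ¬ p ∣ T.relIndex R := by
      have h1 : T.subgroupOf R = (S : Subgroup ↥R) := by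
        rw [hT]
        exact Subgroup.comap_map_eq_self_of_injective R.subtype_injective _
      rw [Subgroup.relIndex, h1]
      exact S.not_dvd_index
    obtain ⟨a, w, haV, haR, hw, rfl⟩ := exists_centralizer_mul_commutator_rel R T V hTR hidx hRV hV x
      hx.1 hx.2
    exact Subgroup.mul_mem _ (le_sup_right (a := ⁅V, R⁆) ⟨haV, haR⟩) (le_sup_left (b := V ⊓ _) hw)

end Cfsg.Agent.S2781
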