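import Cfsg.Statements.S2791
import Mathlib
import Cfsg.Agent.Lib.Helper1.WellPlaced

set_option autoImplicit false
open Cfsg

namespace Cfsg.Agent.S2791

open Cfsg.Agent.Lib.Helper29 Cfsg.Agent.Lib.Helper1

variable {G : Type*} [Group G]

/-- The stabilizer in `N_G(U)` of the chain `1 ≤ V ≤ U`. -/
def stab (U V : Subgroup G) : Subgroup G where
  carrier := {y | y ∈ Subgroup.normalizer (U : Set G) ∧ (∀ u ∈ U, y * u * y⁻¹ * u⁻¹ ∈ V) ∧
    ∀ v ∈ V, y * v * y⁻¹ = v}
  one_mem' := by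
    refine ⟨Subgroup.one_mem _, fun u _ => ?_, fun v _ => ?_⟩
    · simp
    · simp
  mul_mem' := by
    rintro a b ⟨haN, haU, haV⟩ ⟨hbN, hbU, hbV⟩
    refine ⟨Subgroup.mul_mem _ haN hbN, fun u hu => ?_, fun v hv => ?_⟩
    · have h1 := hbU u hu
      have h2 := haV _ h1
      have h3 := haU u hu
      have : a * b * u * (a * b)⁻¹ * u⁻¹ =
          (a * (b * u * b⁻¹ * u⁻¹) * a⁻¹) * (a * u * a⁻¹ * u⁻¹) := by group
      rw [this, h2]
      exact V.mul_mem h1 h3
    · have : a * b * v * (a * b)⁻¹ = a * (b * v * b⁻¹) * a⁻¹ := by group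
      rw [this, hbV v hv, haV v hv]
  inv_mem' := by
    rintro a ⟨haN, haU, haV⟩
    refine ⟨Subgroup.inv_mem _ haN, fun u hu => ?_, fun v hv => ?_⟩
    · have hu' : a⁻¹ * u * a ∈ U := by
        have := (Subgroup.mem_normalizer_iff.mp (Subgroup.inv_mem _ haN) u).mp hu
        simpa using this
      have h1 := haU _ hu'
      have : a⁻¹ * u * a⁻¹⁻¹ * u⁻¹ = (a * (a⁻¹ * u * a) * a⁻¹ * (a⁻¹ * u * a)⁻¹)⁻¹ := by group
      rw [this]
      exact V.inv_mem h1
    · have h1 := haV v hv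
      calc a⁻¹ * v * a⁻¹⁻¹ = a⁻¹ * (a * v * a⁻¹) * a := by rw [h1]; group
        _ = v := by group

theorem mem_stab {U V : Subgroup G} {y : G} : y ∈ stab U V ↔
    y ∈ Subgroup.normalizer (U : Set G) ∧ (∀ u ∈ U, y * u * y⁻¹ * u⁻¹ ∈ V) ∧
    ∀ v ∈ V, y * v * y⁻¹ = v := Iff.rfl

theorem stab_le (U V : Subgroup G) : stab U V ≤ Subgroup.normalizer (U : Set G) :=
  fun _ hy => hy.1

theorem centralizer_le_stab (U V : Subgroup G) (hVU : V ≤ U) :
    Subgroup.centralizer (U : Set G) ≤ stab U V := by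
  intro c hc
  have hcu : ∀ u ∈ U, c * u * c⁻¹ = u := by
    intro u hu
    have := Subgroup.mem_centralizer_iff.mp hc u hu
    rw [← this]; group
  refine ⟨?_, fun u hu => ?_, fun v hv => hcu v (hVU hv)⟩
  · rw [Subgroup.mem_normalizer_iff]
    intro u
    constructor
    · intro hu; rw [hcu u hu]; exact hu
    · intro hu
      have h1 : c⁻¹ * (c * u * c⁻¹) * c = c * u * c⁻¹ := by
        have := Subgroup.mem_centralizer_iff.mp hc _ hu
        calc c⁻¹ * (c * u * c⁻¹) * c = c⁻¹ * ((c * u * c⁻¹) * c) := by group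
          _ = c⁻¹ * (c * (c * u * c⁻¹)) := by rw [this]
          _ = c * u * c⁻¹ := by group
      have h2 : c⁻¹ * (c * u * c⁻¹) * c = u := by group
      rw [← h2, h1]; exact hu
  · rw [hcu u hu, mul_inv_cancel]; exact V.one_mem

/-- conjugation by elements of the normalizer of `U` preserving `V` preserves `stab U V` -/
theorem conj_mem_stab {U V : Subgroup G} {t y : G} (ht : t ∈ Subgroup.normalizer (U : Set G))
    (htV : ∀ v ∈ V, t * v * t⁻¹ ∈ V) (htV' : ∀ v ∈ V, t⁻¹ * v * t ∈ V) (hy : y ∈ stab U V) :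
    t * y * t⁻¹ ∈ stab U V := by
  obtain ⟨hyN, hyU, hyV⟩ := hy
  have hN := Subgroup.normalizer (U : Set G)
  refine ⟨Subgroup.mul_mem _ (Subgroup.mul_mem _ ht hyN) (Subgroup.inv_mem _ ht), fun u hu => ?_,
    fun v hv => ?_⟩
  · have hu' : t⁻¹ * u * t ∈ U := by
      have := (Subgroup.mem_normalizer_iff.mp (Subgroup.inv_mem _ ht) u).mp hu
      simpa using this
    have h1 := hyU _ hu'
    have h2 := htV _ h1
    have : t * y * t⁻¹ * u * (t * y * t⁻¹)⁻¹ * u⁻¹ =
        t * (y * (t⁻¹ * u * t) * y⁻¹ * (t⁻¹ * u * t)⁻¹) * t⁻¹ := by group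
    rw [this]; exact h2
  · have h1 := hyV _ (htV' v hv)
    calc t * y * t⁻¹ * v * (t * y * t⁻¹)⁻¹ = t * (y * (t⁻¹ * v * t) * y⁻¹) * t⁻¹ := by group
      _ = t * (t⁻¹ * v * t) * t⁻¹ := by rw [h1]
      _ = v := by group

/-- an element of `stab U V` raised to the order of `V` centralizes `U` -/
theorem pow_mem_centralizer {U V : Subgroup G} [Finite V] {y : G} (hy : y ∈ stab U V) :
    y ^ Nat.card V ∈ Subgroup.centralizer (U : Set G) := by
  obtain ⟨hyN, hyU, hyV⟩ := hy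
  have key : ∀ u ∈ U, ∀ k : ℕ, y ^ k * u * (y ^ k)⁻¹ = (y * u * y⁻¹ * u⁻¹) ^ k * u := by
    intro u hu k
    induction k with
    | zero => simp
    | succ k ih =>
      have hv := hyU u hu
      have hvk : (y * u * y⁻¹ * u⁻¹) ^ k ∈ V := V.pow_mem hv k
      have h1 := hyV _ hvk
      calc y ^ (k + 1) * u * (y ^ (k + 1))⁻¹ = y * (y ^ k * u * (y ^ k)⁻¹) * y⁻¹ := by
            rw [pow_succ']; group
        _ = y * ((y * u * y⁻¹ * u⁻¹) ^ k * u) * y⁻¹ := by rw [ih]
        _ = (y * (y * u * y⁻¹ * u⁻¹) ^ k * y⁻¹) * (y * u * y⁻¹ * u⁻¹) * u := by group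
        _ = (y * u * y⁻¹ * u⁻¹) ^ k * (y * u * y⁻¹ * u⁻¹) * u := by rw [h1]
        _ = (y * u * y⁻¹ * u⁻¹) ^ (k + 1) * u := by rw [pow_succ]
  rw [Subgroup.mem_centralizer_iff]
  intro u hu
  have h1 := key u hu (Nat.card V)
  have h2 : (y * u * y⁻¹ * u⁻¹) ^ Nat.card V = 1 := by
    have h3 := pow_card_eq_one' (G := V) (x := ⟨_, hyU u hu⟩)
    have h4 := congrArg Subtype.val h3
    simpa only [Subgroup.coe_pow, Subgroup.coe_one] using h4
  rw [h2, one_mul] at h1
  calc u * y ^ Nat.card V = (y ^ Nat.card V * u * (y ^ Nat.card V)⁻¹) * y ^ Nat.card V := by rw [h1]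
    _ = y ^ Nat.card V * u := by group

/-- The extension property for `X ≤ S`. -/
def Ext (S A X : Subgroup G) : Prop :=
  ∀ g : G, cj g X ≤ S → ∃ n ∈ Subgroup.normalizer (A : Set G), ∀ x ∈ X, g * x * g⁻¹ = n * x * n⁻¹

theorem card_lt_of_lt' [Finite G] {M N : Subgroup G} (h : M < N) : Nat.card M < Nat.card N :=
  Set.ncard_lt_ncard (s := (M : Set G)) (t := (N : Set G)) (by exact_mod_cast h) (Set.toFinite _)

theorem mem_normalizer_of_strongly_closed [Finite G] {S A X : Subgroup G}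
    (hsc : IsStronglyClosed A S) (hAX : A ≤ X) {g : G} (hg : cj g X ≤ S) :
    g ∈ Subgroup.normalizer (A : Set G) := by
  apply mem_normalizer_of_cj_eq
  apply Subgroup.eq_of_le_of_card_ge
  · rintro _ ⟨a, ha, rfl⟩
    exact hsc.2 a ha g (hg (conj_mem_cj (hAX ha)))
  · rw [card_cj]

theorem sylow_le_normalizer_of_strongly_closed {S A : Subgroup G} (hsc : IsStronglyClosed A S) :
    S ≤ Subgroup.normalizer (A : Set G) := by
  intro s hs
  rw [Subgroup.mem_normalizer_iff]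
  intro a
  constructor
  · intro ha
    exact hsc.2 a ha s (S.mul_mem (S.mul_mem hs (hsc.1 ha)) (S.inv_mem hs))
  · intro ha
    have h1 := hsc.2 _ ha s⁻¹ (S.mul_mem (S.mul_mem (S.inv_mem hs) (hsc.1 ha)) (S.inv_mem (S.inv_mem hs)))
    have : s⁻¹ * (s * a * s⁻¹) * s⁻¹⁻¹ = a := by group
    rwa [this] at h1

theorem lemmaA [Finite G] {p : ℕ} [Fact p.Prime] (S : Sylow p G) (A : Subgroup G)
    (hA : IsMulCommutative ↥A) (hsc : IsStronglyClosed A (S : Subgroup G)) (U : Subgroup G)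
    (hUS : U ≤ (S : Subgroup G)) (hUsyl : SylCond p (S : Subgroup G) U)
    (ih : ∀ X' : Subgroup G, X' ≤ (S : Subgroup G) → Nat.card U < Nat.card X' →
      Ext (S : Subgroup G) A X')
    (t : G) (ht : t ∈ Subgroup.normalizer (U : Set G)) :
    ∃ n ∈ Subgroup.normalizer (A : Set G), ∀ u ∈ U, t * u * t⁻¹ = n * u * n⁻¹ := by
  have hp : p.Prime := Fact.out
  by_cases hAU : A ≤ U
  · refine ⟨t, mem_normalizer_of_strongly_closed hsc hAU ?_, fun _ _ => rfl⟩
    rw [cj_eq_of_mem_normalizer ht]; exact hUS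
  have hAS : A ≤ (S : Subgroup G) := hsc.1
  have hSA : (S : Subgroup G) ≤ Subgroup.normalizer (A : Set G) :=
    sylow_le_normalizer_of_strongly_closed hsc
  set N : Subgroup G := Subgroup.normalizer (U : Set G) with hN
  set C : Subgroup G := Subgroup.centralizer (U : Set G) with hC
  set V : Subgroup G := A ⊓ U with hV
  have hVU : V ≤ U := inf_le_right
  have hVinv : ∀ t ∈ N, ∀ v ∈ V, t * v * t⁻¹ ∈ V := by
    intro t ht v hv
    have h1 : t * v * t⁻¹ ∈ U := (Subgroup.mem_normalizer_iff.mp ht v).mp hv.2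
    exact ⟨hsc.2 v hv.1 t (hUS h1), h1⟩
  set L : Subgroup G := stab U V with hL
  have hLN : L ≤ N := stab_le U V
  have hCL : C ≤ L := centralizer_le_stab U V hVU
  have hCN : C ≤ N := hCL.trans hLN
  have hNL : ∀ t ∈ N, ∀ y ∈ L, t * y * t⁻¹ ∈ L := by
    intro t ht y hy
    refine conj_mem_stab ht (hVinv t ht) ?_ hy
    intro v hv
    have := hVinv t⁻¹ (N.inv_mem ht) v hv
    simpa using this
  have hNC : N ≤ Subgroup.normalizer (C : Set G) := by
    rw [hN, hC]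
    intro x hx
    have := cj_centralizer x U
    rw [cj_eq_of_mem_normalizer hx] at this
    exact mem_normalizer_of_cj_eq this
  -- an element of `A` normalizing `U` outside `U`
  obtain ⟨b, hbA, hbN, hbU⟩ : ∃ b ∈ A, b ∈ N ∧ b ∉ U := by
    have hlt : U < U ⊔ A := by
      refine lt_of_le_of_ne le_sup_left (fun h => hAU ?_)
      rw [h]; exact le_sup_right
    have hpUA : IsPGroup p (U ⊔ A : Subgroup G) := S.isPGroup'.to_le (sup_le hUS hAS)
    have h2 := lt_inf_normalizer_of_lt hpUA hlt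
    obtain ⟨x, hx, hxU⟩ := SetLike.exists_of_lt h2
    have hx1 : x ∈ ((A ⊔ U : Subgroup G) : Set G) := by rw [sup_comm]; exact hx.1
    rw [Subgroup.coe_mul_of_right_le_normalizer_left A U (hUS.trans hSA)] at hx1
    obtain ⟨a, ha, u, hu, rfl⟩ := Set.mem_mul.mp hx1
    refine ⟨a, ha, ?_, ?_⟩
    · have : a = (a * u) * u⁻¹ := by group
      rw [this]; exact N.mul_mem hx.2 (N.inv_mem (Subgroup.le_normalizer hu))
    · intro haU; exact hxU (U.mul_mem haU hu)
  have hbL : b ∈ L := by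
    refine ⟨hbN, fun u hu => ⟨?_, ?_⟩, fun v hv => ?_⟩
    · have h1 : u * b⁻¹ * u⁻¹ ∈ A :=
        (Subgroup.mem_normalizer_iff.mp (hSA (hUS hu)) b⁻¹).mp (A.inv_mem hbA)
      have : b * u * b⁻¹ * u⁻¹ = b * (u * b⁻¹ * u⁻¹) := by group
      rw [this]; exact A.mul_mem hbA h1
    · exact U.mul_mem ((Subgroup.mem_normalizer_iff.mp hbN u).mp hu) (U.inv_mem hu)
    · have h1 : b * v = v * b :=
        congrArg Subtype.val (hA.is_comm.comm (⟨b, hbA⟩ : A) ⟨v, hv.1⟩)
      rw [h1]; group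
  set P₁ : Subgroup G := (S : Subgroup G) ⊓ L with hP₁
  have hbP₁ : b ∈ P₁ := ⟨hAS hbA, hbL⟩
  have hP₁p : IsPGroup p P₁ := S.isPGroup'.to_le inf_le_left
  have hP₁L : P₁ ≤ L := inf_le_right
  -- `P₁` is a Sylow subgroup of `L`
  have hPsyl : IsSylowSub p ((S : Subgroup G) ⊓ N) N :=
    isSylowSub_of_not_dvd_relIndex inf_le_right (S.isPGroup'.to_le inf_le_left)
      ((sylCond_iff S U).mp hUsyl)
  have hP₁syl : IsSylowSub p P₁ L := by
    obtain ⟨R, hR⟩ := ((isPGroup_subgroupOf_iff_of_le hP₁L).2 hP₁p).exists_le_sylow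
    set R' : Subgroup G := (R : Subgroup ↥L).map L.subtype with hR'
    have hR'L : R' ≤ L := Subgroup.map_subtype_le _
    have hR'p : IsPGroup p R' := R.isPGroup'.map _
    have hcardR' : Nat.card R' = p ^ (Nat.card L).factorization p := by
      rw [hR', Subgroup.card_map_of_injective (Subgroup.subtype_injective _)]
      exact R.card_eq_multiplicity
    have hP₁R' : P₁ ≤ R' := by
      intro q hq
      exact ⟨⟨q, hP₁L hq⟩, hR (Subgroup.mem_subgroupOf.mpr hq), rfl⟩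
    obtain ⟨m, hm, hmR⟩ := exists_cj_le_of_isSylowSub hPsyl (hR'L.trans hLN) hR'p
    have hmR' : cj m R' ≤ P₁ := by
      intro x hx
      refine ⟨(hmR hx).1, ?_⟩
      obtain ⟨r, hr, rfl⟩ := hx
      exact hNL m hm r (hR'L hr)
    rw [isSylowSub_iff hP₁L]
    refine ⟨hP₁p, le_antisymm ?_ ?_⟩
    · rw [← hcardR']; exact Subgroup.card_le_of_le hP₁R'
    · rw [← hcardR', ← card_cj m R']; exact Subgroup.card_le_of_le hmR'
  -- `L = P₁ C`
  have hLle : L ≤ P₁ ⊔ C := by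
    haveI hCnorm : (C.subgroupOf L).Normal :=
      (Subgroup.normal_subgroupOf_iff_le_normalizer hCL).mpr (hLN.trans hNC)
    have hquot : IsPGroup p (↥L ⧸ C.subgroupOf L) := by
      intro q
      obtain ⟨y, rfl⟩ := QuotientGroup.mk_surjective q
      obtain ⟨j, hj⟩ := IsPGroup.iff_card.mp (S.isPGroup'.to_le (hVU.trans hUS) : IsPGroup p V)
      refine ⟨j, ?_⟩
      rw [← QuotientGroup.mk_pow, QuotientGroup.eq_one_iff, Subgroup.mem_subgroupOf]
      have := pow_mem_centralizer (U := U) (V := V) y.2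
      rw [hj] at this
      simpa using this
    obtain ⟨k, hk⟩ := IsPGroup.iff_card.mp hquot
    have hCrel : C.relIndex L = p ^ k := by
      rw [Subgroup.relIndex, Subgroup.index_eq_card]; exact hk
    have hd1 : (P₁ ⊔ C).relIndex L ∣ C.relIndex L :=
      Subgroup.relIndex_dvd_of_le_left L le_sup_right
    have hd2 : (P₁ ⊔ C).relIndex L ∣ P₁.relIndex L :=
      Subgroup.relIndex_dvd_of_le_left L le_sup_left
    have hnd : ¬ p ∣ P₁.relIndex L := by
      obtain ⟨R, hR⟩ := hP₁syl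
      have := R.not_dvd_index
      rw [hR] at this
      exact this
    rw [hCrel] at hd1
    obtain ⟨i, -, hi⟩ := (Nat.dvd_prime_pow hp).mp hd1
    have hi0 : i = 0 := by
      by_contra hne
      apply hnd
      exact dvd_trans (by rw [hi]; exact dvd_pow_self p hne) hd2
    rw [hi0, pow_zero] at hi
    exact Subgroup.relIndex_eq_one.mp hi
  -- Frattini
  have hQL : cj t P₁ ≤ L := by
    rintro _ ⟨s, hs, rfl⟩
    exact hNL t ht s (hP₁L hs)
  obtain ⟨y, hyL, hyQ⟩ := exists_cj_le_of_isSylowSub hP₁syl hQL (isPGroup_cj hP₁p)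
  have hyQ' : cj y (cj t P₁) = P₁ := by
    apply Subgroup.eq_of_le_of_card_ge hyQ
    rw [card_cj, card_cj]
  have hy1 : y ∈ ((P₁ ⊔ C : Subgroup G) : Set G) := hLle hyL
  rw [Subgroup.coe_mul_of_left_le_normalizer_right P₁ C ((hP₁L.trans hLN).trans hNC)] at hy1
  obtain ⟨s, hs, c, hc, rfl⟩ := Set.mem_mul.mp hy1
  have hs : s ∈ P₁ := hs
  have hc : c ∈ C := hc
  have hct : cj (c * t) P₁ = P₁ := by
    rw [← cj_cj c t]
    have h1 : cj s (cj c (cj t P₁)) = P₁ := by rw [cj_cj s c]; exact hyQ'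
    have h2 : cj s⁻¹ (cj s (cj c (cj t P₁))) = cj s⁻¹ P₁ := by rw [h1]
    rw [cj_inv_cj] at h2
    rw [h2]
    exact cj_eq_of_mem_normalizer (Subgroup.le_normalizer (P₁.inv_mem hs))
  set n : G := c * t with hn
  have hnP₁ : n ∈ Subgroup.normalizer (P₁ : Set G) := mem_normalizer_of_cj_eq hct
  have hnU : n ∈ Subgroup.normalizer (U : Set G) := N.mul_mem (hCN hc) ht
  set U₁ : Subgroup G := U ⊔ P₁ with hU₁
  have hnU₁ : n ∈ Subgroup.normalizer (U₁ : Set G) :=
    Subgroup.normalizer_inf_normalizer_le_normalizer_sup U P₁ ⟨hnU, hnP₁⟩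
  have hU₁S : U₁ ≤ (S : Subgroup G) := sup_le hUS inf_le_left
  have hUlt : U < U₁ := by
    refine lt_of_le_of_ne le_sup_left (fun h => hbU ?_)
    rw [h]; exact (le_sup_right : P₁ ≤ U₁) hbP₁
  obtain ⟨m, hmA, hm⟩ := ih U₁ hU₁S (card_lt_of_lt' hUlt) n (by
    rw [cj_eq_of_mem_normalizer hnU₁]; exact hU₁S)
  refine ⟨m, hmA, fun u hu => ?_⟩
  rw [← hm u (le_sup_left (a := U) (b := P₁) hu)]
  have hw : n * u * n⁻¹ ∈ U := (Subgroup.mem_normalizer_iff.mp hnU u).mp hu
  have hcw : c * (n * u * n⁻¹) = (n * u * n⁻¹) * c :=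
    (Subgroup.mem_centralizer_iff.mp hc _ hw).symm
  have ht' : t = c⁻¹ * n := by rw [hn]; group
  calc t * u * t⁻¹ = c⁻¹ * (n * u * n⁻¹) * c := by rw [ht']; group
    _ = c⁻¹ * (c * (n * u * n⁻¹)) := by rw [hcw]; group
    _ = n * u * n⁻¹ := by group

theorem main [Finite G] {p : ℕ} [Fact p.Prime] (S : Sylow p G) (A : Subgroup G)
    (hA : IsMulCommutative ↥A) (hsc : IsStronglyClosed A (S : Subgroup G)) :
    ∀ (k : ℕ) (X : Subgroup G), X ≤ (S : Subgroup G) → Nat.card S - Nat.card X = k →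
      Ext (S : Subgroup G) A X := by
  intro k
  induction k using Nat.strong_induction_on with
  | _ k ih =>
  intro X hXS hk g hg
  by_cases hAX : A ≤ X
  · exact ⟨g, mem_normalizer_of_strongly_closed hsc hAX hg, fun _ _ => rfl⟩
  have hXlt : X < (S : Subgroup G) := by
    refine lt_of_le_of_ne hXS (fun h => hAX ?_)
    rw [h]; exact hsc.1
  have ih' : ∀ X' : Subgroup G, X' ≤ (S : Subgroup G) → Nat.card X < Nat.card X' →
      Ext (S : Subgroup G) A X' := by
    intro X' hX'S hlt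
    have hle : Nat.card X' ≤ Nat.card (S : Subgroup G) := Subgroup.card_le_of_le hX'S
    exact ih (Nat.card (S : Subgroup G) - Nat.card X') (by omega) X' hX'S rfl
  set Y : Subgroup G := cj g X with hY
  have hYS : Y ≤ (S : Subgroup G) := hg
  have hcardY : Nat.card Y = Nat.card X := card_cj g X
  have hYlt : Y < (S : Subgroup G) := by
    refine lt_of_le_of_ne hYS (fun h => ?_)
    have h1 := card_lt_of_lt' hXlt
    rw [← hcardY, h] at h1
    exact lt_irrefl _ h1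
  obtain ⟨g₀, hg₀S, hg₀syl⟩ :=
    exists_cj_sylCond S X X Subgroup.le_normalizer (S.isPGroup'.to_le hXS)
  set U : Subgroup G := cj g₀ X with hU
  have hUS : U ≤ (S : Subgroup G) := hg₀S
  have hUnd := (sylCond_iff S U).mp hg₀syl
  have hcardU : Nat.card U = Nat.card X := card_cj g₀ X
  obtain ⟨h, hhU, hhN⟩ := exists_cj_normalizer_le S X U g₀ rfl hUnd
  obtain ⟨h', hh'U, hh'N⟩ := exists_cj_normalizer_le S Y U (h * g⁻¹) (by
    rw [← cj_cj, hY, cj_inv_cj, hhU]) hUnd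
  set t : G := h' * g * h⁻¹ with ht
  have htU : cj t U = U := by
    have e1 : cj h⁻¹ U = X := by rw [← hhU, cj_inv_cj]
    rw [ht, ← cj_cj (h' * g) h⁻¹, ← cj_cj h' g, e1]
    exact hh'U
  have htN : t ∈ Subgroup.normalizer (U : Set G) := mem_normalizer_of_cj_eq htU
  -- induction hypotheses
  have hX₁ := lt_inf_normalizer_of_lt S.isPGroup' hXlt
  obtain ⟨n₁, hn₁, hn₁x⟩ := ih' _ inf_le_left (card_lt_of_lt' hX₁) h (hhN.trans inf_le_left)
  have hY₁ := lt_inf_normalizer_of_lt S.isPGroup' hYlt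
  obtain ⟨n₂, hn₂, hn₂x⟩ := ih' _ inf_le_left (by rw [← hcardY]; exact card_lt_of_lt' hY₁) h'
    (hh'N.trans inf_le_left)
  obtain ⟨n₃, hn₃, hn₃x⟩ := lemmaA S A hA hsc U hUS hg₀syl (by
    intro X' hX'S hlt
    rw [hcardU] at hlt
    exact ih' X' hX'S hlt) t htN
  refine ⟨n₂⁻¹ * n₃ * n₁, Subgroup.mul_mem _ (Subgroup.mul_mem _ (Subgroup.inv_mem _ hn₂) hn₃) hn₁,
    fun x hx => ?_⟩
  have e1 := hn₁x x (hX₁.le hx)
  have hx1 : h * x * h⁻¹ ∈ U := by rw [← hhU]; exact conj_mem_cj hx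
  have e3 := hn₃x _ hx1
  have hy : g * x * g⁻¹ ∈ Y := conj_mem_cj hx
  have e2 := hn₂x _ (hY₁.le hy)
  have e4 : t * (h * x * h⁻¹) * t⁻¹ = h' * (g * x * g⁻¹) * h'⁻¹ := by rw [ht]; group
  rw [e4, e2, e1] at e3
  calc g * x * g⁻¹ = n₂⁻¹ * (n₂ * (g * x * g⁻¹) * n₂⁻¹) * n₂ := by group
    _ = n₂⁻¹ * (n₃ * (n₁ * x * n₁⁻¹) * n₃⁻¹) * n₂ := by rw [e3]
    _ = n₂⁻¹ * n₃ * n₁ * x * (n₂⁻¹ * n₃ * n₁)⁻¹ := by group

/-- Let S be a Sylow p-subgroup of the finite group G and A an abelian subgroup of S that is strongly closed in S with respect to G. Then A controls strong fusion in G: for some Sylow p-subgroup T containing A, whenever a subset of T is conjugated into T by an element of G, the same elementwise conjugation is induced by an element of N_G(A). -/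
theorem result {G : Type*} [Group G] [Finite G] {p : ℕ} [Fact p.Prime] (S : Sylow p G) (A : Subgroup G) (hA : IsMulCommutative ↥A) (hsc : Cfsg.IsStronglyClosed A (S : Subgroup G)) : Cfsg.ControlsStrongFusion p A := by
  refine ⟨S, hsc.1, fun X hX => ⟨hX, fun g hg => ?_⟩⟩
  obtain ⟨n, hn, hnx⟩ := main S A hA hsc _ (Subgroup.closure X) ((Subgroup.closure_le _).mpr hX) rfl g (by
    show (Subgroup.closure X).map (MulAut.conj g).toMonoidHom ≤ _
    rw [MonoidHom.map_closure, Subgroup.closure_le]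
    rintro _ ⟨a, ha, rfl⟩
    exact hg ⟨a, ha, rfl⟩)
  exact ⟨n, hn, fun a ha => hnx a (Subgroup.subset_closure ha)⟩

end Cfsg.Agent.S2791
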