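import Cfsg.Statements.S2792
import Cfsg.Agent.Lib.Helper29.YoshidaClosedGroup

set_option autoImplicit false
open Cfsg

namespace Cfsg.Agent.S2792

/-- Let S be a Sylow p-subgroup of the finite group G and W a subgroup of S weakly closed in S with respect to G. If S ∩ G' ≠ S ∩ (N_G(W))', then there are x ∈ S, z ∈ W and a maximal subgroup W₀ of W such that the iterated commutator [x, z; p−1] (with [x, z] = x⁻¹z⁻¹xz and [x, z; i+1] = [[x, z; i], z]) lies in W₀ but not in the Frattini subgroup of W₀; in particular [x, z; p−1] ≠ 1. -/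
theorem result {G : Type*} [Group G] [Finite G] {p : ℕ} [Fact p.Prime] (S : Sylow p G) (W : Subgroup G) (hW : Cfsg.IsWeaklyClosed W (S : Subgroup G)) (h : (S : Subgroup G) ⊓ commutator G ≠ (S : Subgroup G) ⊓ ⁅Subgroup.normalizer (W : Set G), Subgroup.normalizer (W : Set G)⁆) : ∃ x ∈ (S : Subgroup G), ∃ z ∈ W, ∃ W₀ : Subgroup ↥W, IsCoatom W₀ ∧ (fun y : G => y⁻¹ * z⁻¹ * y * z)^[p - 1] x ∈ W₀.map W.subtype ∧ (fun y : G => y⁻¹ * z⁻¹ * y * z)^[p - 1] x ∉ ((frattini ↥W₀).map W₀.subtype).map W.subtype := by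
  open Cfsg.Agent.Lib.Helper29 in
  by_contra hcon
  apply h
  have hp := (Fact.out : p.Prime)
  haveI : NeZero p := ⟨hp.ne_zero⟩
  have hSp : IsPGroup p (S : Subgroup G) := S.2
  have hWS : W ≤ (S : Subgroup G) := hW.1
  have hWn : ∀ s ∈ (S : Subgroup G), ∀ v ∈ W, s * v * s⁻¹ ∈ W := by
    intro s hs v hv
    have hmap : W.map (MulAut.conj s).toMonoidHom ≤ (S : Subgroup G) := by
      rintro _ ⟨v', hv', rfl⟩
      exact (S : Subgroup G).mul_mem ((S : Subgroup G).mul_mem hs (hWS hv')) ((S : Subgroup G).inv_mem hs)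
    have h1 := hW.2 s hmap
    rw [← h1]
    exact ⟨v, hv, rfl⟩
  have hns : NoSing p (S : Subgroup G) (W.subgroupOf (S : Subgroup G)) := by
    intro K M μ y hWK hMidx hWM
    by_contra hne
    apply hcon
    haveI hMn : M.Normal := normal_of_index_prime (hSp.to_subgroup K) M hMidx
    obtain ⟨z', hz'W, hz'M⟩ := SetLike.not_le_iff_exists.1 hWM
    have hμc := sing_of_transfer_ne_one M z' μ hMidx hz'M y hne
    obtain ⟨c, hc⟩ : ∃ c : M, c = (cOp' M z')^[p - 1] y := ⟨_, rfl⟩
    rw [← hc] at hμc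
    have hcG : ((((c : M) : K) : (S : Subgroup G)) : G) =
        (fun g : G => g⁻¹ * (((z' : K) : (S : Subgroup G)) : G)⁻¹ * g * (((z' : K) : (S : Subgroup G)) : G))^[p - 1]
          ((((y : M) : K) : (S : Subgroup G)) : G) := by
      rw [hc, cOp'_iterate_coe, comm_iterate_coe, comm_iterate_coe]
    have hzW : (((z' : K) : (S : Subgroup G)) : G) ∈ W := hz'W
    -- the element lies in `W`
    have hcW : ((((c : M) : K) : (S : Subgroup G)) : G) ∈ W := by
      have hp1 : p - 1 = (p - 2) + 1 := by have := hp.two_le; omega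
      obtain ⟨c₀, hc₀⟩ : ∃ c₀ : M, c₀ = (cOp' M z')^[p - 2] y := ⟨_, rfl⟩
      have e1 : c = cOp' M z' c₀ := by
        rw [hc, hc₀, hp1, Function.iterate_succ_apply']
      have e2 : ((((c : M) : K) : (S : Subgroup G)) : G) =
          ((((c₀ : M) : K) : (S : Subgroup G)) : G)⁻¹ * (((z' : K) : (S : Subgroup G)) : G)⁻¹ *
            ((((c₀ : M) : K) : (S : Subgroup G)) : G) * (((z' : K) : (S : Subgroup G)) : G) := by
        rw [e1, cOp'_coe]
        rfl
      rw [e2]
      apply W.mul_mem _ hzW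
      have := hWn _ ((S : Subgroup G).inv_mem (((c₀ : M) : K) : (S : Subgroup G)).2) _ (W.inv_mem hzW)
      rwa [inv_inv] at this
    -- the maximal subgroup `W₀`
    obtain ⟨incl, hincl⟩ : ∃ incl : ↥W →* ↥K, ∀ v : W, (((incl v : K) : (S : Subgroup G)) : G) = (v : G) :=
      ⟨(Subgroup.inclusion hWS).codRestrict K (fun v => hWK (show Subgroup.inclusion hWS v ∈ W.subgroupOf (S : Subgroup G) from v.2)),
        fun v => rfl⟩
    obtain ⟨θ, hθ⟩ : ∃ θ : ↥W →* K ⧸ M, θ = (QuotientGroup.mk' M).comp incl := ⟨_, rfl⟩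
    have hθ1 : ∀ v : W, θ v = 1 ↔ incl v ∈ M := by
      intro v
      rw [hθ]
      exact QuotientGroup.eq_one_iff (incl v)
    have hcard : Nat.card (K ⧸ M) = p := by rw [← Subgroup.index_eq_card, hMidx]
    have hθz : θ ⟨_, hzW⟩ ≠ 1 := by
      rw [ne_eq, hθ1]
      have e : incl ⟨_, hzW⟩ = z' := Subtype.ext (Subtype.ext (hincl _))
      rw [e]
      exact hz'M
    have hco : IsCoatom θ.ker := Cfsg.Agent.Lib.Helper2.isCoatom_ker_of_card_prime hp hcard θ hθz
    have hgoal : IsCoatom θ.ker ∧ ((((c : M) : K) : (S : Subgroup G)) : G) ∈ θ.ker.map W.subtype ∧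
        ((((c : M) : K) : (S : Subgroup G)) : G) ∉ ((frattini ↥θ.ker).map θ.ker.subtype).map W.subtype := by
      refine ⟨hco, ?_, ?_⟩
      · refine ⟨⟨_, hcW⟩, ?_, rfl⟩
        rw [SetLike.mem_coe, MonoidHom.mem_ker, hθ1]
        have e : incl ⟨_, hcW⟩ = (c : K) := Subtype.ext (Subtype.ext (hincl _))
        rw [e]
        exact c.2
      · rintro ⟨v, ⟨v₀, hv₀, rfl⟩, hvc⟩
        obtain ⟨j, hj⟩ : ∃ j : ↥θ.ker →* ↥M, ∀ v : θ.ker, ((j v : M) : K) = incl (v : W) :=
          ⟨(incl.comp θ.ker.subtype).codRestrict M (fun v => (hθ1 _).1 v.2), fun v => rfl⟩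
        have hjv : j v₀ = c := by
          apply Subtype.ext
          rw [hj]
          apply Subtype.ext
          apply Subtype.ext
          rw [hincl]
          exact hvc
        have hne' : (μ.comp j) v₀ ≠ 1 := by
          show μ (j v₀) ≠ 1
          rw [hjv]
          exact hμc
        have hco' := Cfsg.Agent.Lib.Helper2.isCoatom_ker_of_card_prime hp
          (Cfsg.Agent.Lib.Helper2.card_multiplicative_zmod p) (μ.comp j) hne'
        exact hne' (MonoidHom.mem_ker.1 (frattini_le_coatom hco' hv₀))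
    rw [hcG] at hgoal
    exact ⟨_, (((y : M) : K) : (S : Subgroup G)).2, _, hzW, θ.ker, hgoal⟩
  apply le_antisymm (yoshida_closed_group S W hW hns)
  apply inf_le_inf_left
  exact Subgroup.commutator_mono le_top le_top

end Cfsg.Agent.S2792
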