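import Cfsg.Statements.S2804
import Cfsg.Agent.Lib.Helper16.PReducedSubnormal

set_option autoImplicit false
open Cfsg
open scoped commutatorElement Pointwise

namespace Cfsg.Agent.S2804

open Cfsg.Agent.Lib.Helper16

/-- Let L be a finite group and p a prime with C_L(O_p(L)) ≤ O_p(L), V a p-reduced normal subgroup of L and K a subnormal subgroup of L. Then [V, O^p(K)] is contained in K and is a p-reduced normal subgroup of K, where O^p(K) is the subgroup of K generated by its elements of order prime to p. -/
theorem result {L : Type*} [Group L] [Finite L] {p : ℕ} [Fact p.Prime] (hchar : Subgroup.centralizer (Cfsg.pCore p L : Set L) ≤ Cfsg.pCore p L) (V : Subgroup L) (hV : Cfsg.IsPReducedNormal p V) (K : Subgroup L) (hK : K.IsSubnormal) : ⁅V, (Cfsg.pResidual p ↥K).map K.subtype⁆ ≤ K ∧ Cfsg.IsPReducedNormal p ((⁅V, (Cfsg.pResidual p ↥K).map K.subtype⁆).subgroupOf K) := by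
  rw [map_pResidual_eq_opUp]
  set R := opUp p K with hR
  set W := ⁅V, R⁆ with hW
  have hVn : V.Normal := hV.1
  have hVE := hV.2.1
  have hVp : IsPGroup p V := isElementaryAbelian_isPGroup hVE
  have hVR : V ≤ Subgroup.normalizer (R : Set L) :=
    (isPReducedNormal_le_pCore hV).trans (pCore_le_normalizer_opUp p hK)
  have hWR : W ≤ R := by
    rw [hW, Subgroup.commutator_comm]
    exact commutator_le_of_le_normalizer' R V hVR
  have hRK : R ≤ K := opUp_le p K
  have hWK : W ≤ K := hWR.trans hRK
  have hnV : ∀ S : Subgroup L, S ≤ Subgroup.normalizer (V : Set L) := by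
    intro S x _
    rw [Subgroup.normalizer_eq_top_iff.mpr hVn]; exact Subgroup.mem_top x
  have hWV : W ≤ V := commutator_le_of_le_normalizer' V R (hnV R)
  refine ⟨hWK, ?_⟩
  rw [isPReducedNormal_subgroupOf_iff p K W hWK]
  refine ⟨?_, ?_, ?_⟩
  · -- K normalizes W
    have hKR : K ≤ Subgroup.normalizer (R : Set L) :=
      Subgroup.le_normalizer.trans (normalizer_le_normalizer_opUp p K)
    have key : ∀ x ∈ K, ∀ g ∈ W, x * g * x⁻¹ ∈ W := by
      intro x hx g hg
      have hmap : W.map (MulAut.conj x).toMonoidHom ≤ W := by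
        rw [hW, Subgroup.map_commutator]
        apply Subgroup.commutator_mono
        · rintro _ ⟨v, hv, rfl⟩
          exact hVn.conj_mem v hv x
        · rintro _ ⟨r, hr, rfl⟩
          exact (Subgroup.mem_normalizer_iff.mp (hKR hx) r).mp hr
      apply hmap
      exact ⟨g, hg, by simp [MulAut.conj_apply]⟩
    intro x hx
    apply mem_normalizer_of_conj_mem
    · exact key x hx
    · intro g hg
      have := key x⁻¹ (K.inv_mem hx) g hg
      simpa using this
  · -- W elementary abelian
    refine ⟨?_, fun a ha => hVE.2 a (hWV ha)⟩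
    apply isMulCommutative_of_le_centralizer
    exact hWV.trans ((le_centralizer_of_isMulCommutative hVE.1).trans (Subgroup.centralizer_le hWV))
  · intro N hNK hKN hCN hp
    set R' := opUp p N with hR'
    -- R' ≤ C(W)
    have hR'W : R' ≤ Subgroup.centralizer (W : Set L) := by
      rw [hR', opUp_le_iff]
      intro g hg hcop
      obtain ⟨k, hk⟩ := hp g hg
      exact mem_of_pow_mem_of_coprime _ g k hcop hk
    have hR'R : R' ≤ R := opUp_mono p hNK
    have h1 : ⁅⁅V, R'⁆, R'⁆ = ⊥ := by
      rw [eq_bot_iff]
      have h2 : ⁅⁅V, R'⁆, R'⁆ ≤ ⁅W, R'⁆ :=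
        Subgroup.commutator_mono (Subgroup.commutator_mono le_rfl hR'R) le_rfl
      have h3 : ⁅W, R'⁆ = ⊥ := by
        rw [Subgroup.commutator_comm, Subgroup.commutator_eq_bot_iff_le_centralizer]
        exact hR'W
      rw [← h3]; exact h2
    have h4 : ⁅V, R'⁆ = ⊥ :=
      commutator_eq_bot_of_commutator_commutator_eq_bot V R' hVp (hnV R') (opUp_opUp p N) h1
    have hR'V : R' ≤ Subgroup.centralizer (V : Set L) := by
      rw [Subgroup.commutator_comm, Subgroup.commutator_eq_bot_iff_le_centralizer] at h4
      exact h4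
    have hNsn : N.IsSubnormal := by
      have hn : (N.subgroupOf K).Normal :=
        (Subgroup.normal_subgroupOf_iff_le_normalizer hNK).mpr hKN
      exact Subgroup.IsSubnormal.trans hNK hn.isSubnormal hK
    have hNV : N ≤ Subgroup.centralizer (V : Set L) := by
      apply le_centralizer_of_isSubnormal hV hNsn
      intro x hx
      obtain ⟨k, hk⟩ := exists_pow_mem_opUp p N hx
      exact ⟨k, hR'V hk⟩
    exact hNV.trans (Subgroup.centralizer_le hWV)

end Cfsg.Agent.S2804
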