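import Cfsg.Statements.S2807
import Cfsg.Agent.Lib.Helper29.YoshidaMain
import Cfsg.Agent.S5076
import Cfsg.Agent.S0080

set_option autoImplicit false
open Cfsg
open scoped commutatorElement

namespace Cfsg.Agent.S2807

/-- Let S be a Sylow p-subgroup of the finite group G. If S ∩ G' ≠ S ∩ (N_G(S))' (derived subgroups), then the wreath product Z_p ≀ Z_p — realised as a Sylow p-subgroup of the symmetric group of degree p² — is a homomorphic image of S. -/
theorem result {G : Type*} [Group G] [Finite G] {p : ℕ} [Fact p.Prime] (S : Sylow p G) (h : (S : Subgroup G) ⊓ commutator G ≠ (S : Subgroup G) ⊓ ⁅Subgroup.normalizer ((S : Subgroup G) : Set G), Subgroup.normalizer ((S : Subgroup G) : Set G)⁆) : ∃ (P : Sylow p (Equiv.Perm (Fin (p ^ 2)))) (f : ↥(S : Subgroup G) →* ↥(P : Subgroup (Equiv.Perm (Fin (p ^ 2))))), Function.Surjective f := by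
  open Cfsg.Agent.Lib.Helper29 in
  by_contra hcon
  apply h
  have hp := (Fact.out : p.Prime)
  have hnw : NoWreath p (S : Subgroup G) := hcon
  have hSp : IsPGroup p (S : Subgroup G) := S.2
  have hF := Cfsg.Agent.S5076.result p S
  have hY := yoshida_focal_le hSp hnw (Cfsg.groupFusionSystem (S : Subgroup G)) hF
  -- the focal subgroup theorem
  have hcop : Nat.Coprime (S : Subgroup G).index (⁅(S : Subgroup G), (S : Subgroup G)⁆.relIndex (S : Subgroup G)) := by
    have h1 : ⁅(S : Subgroup G), (S : Subgroup G)⁆.relIndex (S : Subgroup G) ∣ Nat.card (S : Subgroup G) :=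
      Subgroup.relIndex_dvd_card _ _
    obtain ⟨n, hn⟩ := hSp.exists_card_eq
    rw [hn] at h1
    obtain ⟨k, _, hk⟩ := (Nat.dvd_prime_pow hp).1 h1
    rw [hk]
    apply Nat.Coprime.pow_right
    exact ((Nat.Prime.coprime_iff_not_dvd hp).2 S.not_dvd_index).symm
  have hfoc := (Cfsg.Agent.S0080.result (S : Subgroup G) hcop).1
  have ha : (S : Subgroup G) ⊓ commutator G ≤ (Cfsg.groupFusionSystem (S : Subgroup G)).focalSubgroup := by
    rw [inf_comm, ← hfoc]
    unfold Subgroup.focalSubgroup FusionSystem.focalSubgroup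
    rw [Subgroup.closure_le]
    rintro g ⟨hg, x, hx, u, rfl⟩
    apply Subgroup.subset_closure
    have hconj : u * x⁻¹ * u⁻¹ ∈ (S : Subgroup G) := by
      have := (S : Subgroup G).mul_mem ((S : Subgroup G).inv_mem hx) hg
      have e : x⁻¹ * ⁅x, u⁆ = u * x⁻¹ * u⁻¹ := by
        rw [commutatorElement_def]
        group
      rwa [e] at this
    have hle : Subgroup.zpowers x⁻¹ ≤ (S : Subgroup G) := by
      rw [Subgroup.zpowers_le]
      exact (S : Subgroup G).inv_mem hx
    refine ⟨Subgroup.zpowers x⁻¹, Cfsg.conjHom _ u, ⟨x⁻¹, Subgroup.mem_zpowers _⟩, ⟨hle, ?_, u, fun y => rfl⟩, ?_⟩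
    · rintro ⟨y, hy⟩
      obtain ⟨k, rfl⟩ := Subgroup.mem_zpowers_iff.1 hy
      show u * (x⁻¹) ^ k * u⁻¹ ∈ (S : Subgroup G)
      have e : u * (x⁻¹) ^ k * u⁻¹ = (u * x⁻¹ * u⁻¹) ^ k := by
        rw [← MulAut.conj_apply, map_zpow, MulAut.conj_apply]
      rw [e]
      exact (S : Subgroup G).zpow_mem hconj k
    · show ⁅x, u⁆ = (x⁻¹)⁻¹ * (u * x⁻¹ * u⁻¹)
      rw [commutatorElement_def]
      group
  -- the automorphisms of `S` come from the normalizer
  have hb : topFocal (Cfsg.groupFusionSystem (S : Subgroup G)) ≤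
      (S : Subgroup G) ⊓ ⁅Subgroup.normalizer ((S : Subgroup G) : Set G),
        Subgroup.normalizer ((S : Subgroup G) : Set G)⁆ := by
    unfold topFocal
    rw [Subgroup.closure_le]
    rintro _ ⟨φ, x, ⟨_, hφS, g, hg⟩, rfl⟩
    have hgN : g ∈ Subgroup.normalizer ((S : Subgroup G) : Set G) := by
      have hinj : Function.Injective (fun y : (S : Subgroup G) => (⟨φ y, hφS y⟩ : (S : Subgroup G))) := by
        intro a b hab
        have h1 : φ a = φ b := congrArg Subtype.val hab
        rw [hg, hg] at h1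
        exact Subtype.ext (mul_left_cancel (mul_right_cancel h1))
      have hsurj := Finite.surjective_of_injective hinj
      rw [Subgroup.mem_normalizer_iff]
      intro y
      constructor
      · intro hy
        have := hφS ⟨y, hy⟩
        rwa [hg] at this
      · intro hy
        obtain ⟨z, hz⟩ := hsurj ⟨_, hy⟩
        have h1 : φ z = g * y * g⁻¹ := congrArg Subtype.val hz
        rw [hg] at h1
        have : (z : G) = y := mul_left_cancel (mul_right_cancel h1)
        rw [← this]
        exact z.2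
    refine ⟨(S : Subgroup G).mul_mem ((S : Subgroup G).inv_mem x.2) (hφS x), ?_⟩
    have e : (x : G)⁻¹ * φ x = ⁅(x : G)⁻¹, g⁆ := by
      rw [hg, commutatorElement_def]
      group
    rw [SetLike.mem_coe, e]
    exact Subgroup.commutator_mem_commutator (Subgroup.le_normalizer ((S : Subgroup G).inv_mem x.2)) hgN
  apply le_antisymm
  · exact le_trans ha (le_trans hY hb)
  · apply inf_le_inf_left
    exact Subgroup.commutator_mono le_top le_top

end Cfsg.Agent.S2807
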