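import Cfsg.Statements.S2809
-- import your own Cfsg.Agent.* helpers here

set_option autoImplicit false
open Cfsg
open scoped commutatorElement

namespace Cfsg.Agent.S2809

/-- iterated commutators stay inside `R` when the acting group normalizes `R`. -/
theorem iter_le {H : Type*} [Group H] (R L : Subgroup H)
    (hL : L ≤ Subgroup.normalizer (R : Set H)) (n : ℕ) : Cfsg.iterCommutator R L n ≤ R := by
  induction n with
  | zero => exact le_rfl
  | succ n ih =>
    show ⁅Cfsg.iterCommutator R L n, L⁆ ≤ R
    rw [Subgroup.commutator_le]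
    intro a ha b hb
    have hbn := hL hb
    have haR := ih ha
    -- ⁅a,b⁆ = a * (b * a⁻¹ * b⁻¹)
    have : ⁅a, b⁆ = a * (b * a⁻¹ * b⁻¹) := by simp [commutatorElement_def, mul_assoc]
    rw [this]
    refine R.mul_mem haR ?_
    have := (Subgroup.mem_normalizer_iff.mp hbn a⁻¹).mp (R.inv_mem haR)
    exact this

theorem iter_mono {H : Type*} [Group H] (R L L' : Subgroup H) (h : L ≤ L') (n : ℕ) :
    Cfsg.iterCommutator R L n ≤ Cfsg.iterCommutator R L' n := by
  induction n with
  | zero => exact le_rfl
  | succ n ih => exact Subgroup.commutator_mono ih h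

/-- A `p'`-element stabilizing a chain of a `p`-group centralizes it. -/
theorem coprime_centralizes {H : Type*} [Group H] {p : ℕ} [Fact p.Prime] (R : Subgroup H)
    (hR : IsPGroup p ↥R) (x : H) (hx : x ∈ Subgroup.normalizer (R : Set H))
    (hcop : (orderOf x).Coprime p) (n : ℕ)
    (hn : Cfsg.iterCommutator R (Subgroup.zpowers x) n = ⊥) :
    ∀ r ∈ R, r * x = x * r := by
  have hzn : Subgroup.zpowers x ≤ Subgroup.normalizer (R : Set H) := by
    rw [Subgroup.zpowers_le]; exact hx
  -- downward induction: x centralizes every term of the chain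
  have key : ∀ i, i ≤ n → ∀ r ∈ Cfsg.iterCommutator R (Subgroup.zpowers x) (n - i), r * x = x * r := by
    intro i
    induction i with
    | zero =>
      intro _ r hr
      rw [Nat.sub_zero, hn, Subgroup.mem_bot] at hr
      subst hr; simp
    | succ i ih =>
      intro hi r hr
      have hi' : i ≤ n := Nat.le_of_succ_le hi
      have hstep : n - i = (n - (i+1)) + 1 := by omega
      set z := ⁅r, x⁆ with hz
      have hzmem : z ∈ Cfsg.iterCommutator R (Subgroup.zpowers x) (n - i) := by
        rw [hstep]
        show z ∈ ⁅Cfsg.iterCommutator R (Subgroup.zpowers x) (n - (i+1)), Subgroup.zpowers x⁆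
        exact Subgroup.commutator_mem_commutator hr (Subgroup.mem_zpowers x)
      have hzx : z * x = x * z := ih hi' z hzmem
      have hzR : z ∈ R := iter_le R _ hzn _ hzmem
      -- r x r⁻¹ = z x
      have h1 : r * x * r⁻¹ = z * x := by
        simp [hz, commutatorElement_def, mul_assoc]
      have h2 : (r * x * r⁻¹) ^ (orderOf x) = 1 := by
        rw [conj_pow, pow_orderOf_eq_one]; simp
      rw [h1, (show Commute z x from hzx).mul_pow, pow_orderOf_eq_one, mul_one] at h2
      -- z has p-power order
      obtain ⟨k, hk⟩ := hR ⟨z, hzR⟩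
      have hk' : z ^ (p ^ k) = 1 := by
        have := congrArg Subtype.val hk
        simpa using this
      have hz1 : z = 1 := by
        have hd1 : orderOf z ∣ orderOf x := orderOf_dvd_of_pow_eq_one h2
        have hd2 : orderOf z ∣ p ^ k := orderOf_dvd_of_pow_eq_one hk'
        have hc : (orderOf x).Coprime (p ^ k) := Nat.Coprime.pow_right k hcop
        have : orderOf z ∣ 1 := by
          have := Nat.dvd_gcd hd1 hd2
          rwa [hc] at this
        exact orderOf_eq_one_iff.mp (Nat.dvd_one.mp this)
      rw [hz1] at h1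
      -- r x r⁻¹ = x
      calc r * x = (r * x * r⁻¹) * r := by group
        _ = 1 * x * r := by rw [h1]
        _ = x * r := by rw [one_mul]
  intro r hr
  have := key n le_rfl r
  rw [Nat.sub_self] at this
  exact this hr

/-- Let H be a finite group, p a prime, R a p-subgroup of H with C_H(R) ≤ R, and L a subgroup of N_H(R) acting nilpotently on R (some iterated commutator [R, L, …, L] is trivial). Then L is a p-group. -/
theorem result {H : Type*} [Group H] [Finite H] {p : ℕ} [Fact p.Prime] (R : Subgroup H) (hR : IsPGroup p ↥R) (hC : Subgroup.centralizer (R : Set H) ≤ R) (L : Subgroup H) (hL : L ≤ Subgroup.normalizer (R : Set H)) (hnil : ∃ n : ℕ, Cfsg.iterCommutator R L n = ⊥) : IsPGroup p ↥L := by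
  obtain ⟨n, hn⟩ := hnil
  intro ⟨g, hg⟩
  -- decompose the order of g
  obtain ⟨k, m, hm, hkm⟩ := Nat.exists_eq_pow_mul_and_not_dvd (orderOf_pos g).ne' p (Fact.out : p.Prime).ne_one
  refine ⟨k, ?_⟩
  set x := g ^ (p ^ k) with hxdef
  have hxL : x ∈ L := L.pow_mem hg _
  have hxord : orderOf x = m := by
    rw [hxdef, orderOf_pow' g (pow_ne_zero k (Fact.out : p.Prime).ne_zero), hkm,
      Nat.gcd_eq_right (Dvd.intro _ rfl)]
    exact Nat.mul_div_cancel_left m (pow_pos (Fact.out : p.Prime).pos k)
  have hcop : (orderOf x).Coprime p := by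
    rw [hxord]
    exact ((Nat.Prime.coprime_iff_not_dvd (Fact.out : p.Prime)).mpr hm).symm
  have hzL : Subgroup.zpowers x ≤ L := by rw [Subgroup.zpowers_le]; exact hxL
  have hn' : Cfsg.iterCommutator R (Subgroup.zpowers x) n = ⊥ := by
    rw [eq_bot_iff, ← hn]; exact iter_mono R _ _ hzL n
  have hcomm := coprime_centralizes R hR x (hL hxL) hcop n hn'
  have hxC : x ∈ Subgroup.centralizer (R : Set H) := by
    rw [Subgroup.mem_centralizer_iff]
    intro r hr
    exact hcomm r hr
  have hxR : x ∈ R := hC hxC
  obtain ⟨j, hj⟩ := hR ⟨x, hxR⟩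
  have hj' : x ^ (p ^ j) = 1 := by
    have := congrArg Subtype.val hj
    simpa using this
  have hx1 : x = 1 := by
    have hd2 : orderOf x ∣ p ^ j := orderOf_dvd_of_pow_eq_one hj'
    have hc : (orderOf x).Coprime (p ^ j) := Nat.Coprime.pow_right j hcop
    have : orderOf x ∣ 1 := by
      have := Nat.dvd_gcd dvd_rfl hd2
      rwa [hc] at this
    exact orderOf_eq_one_iff.mp (Nat.dvd_one.mp this)
  apply Subtype.ext
  simpa [hxdef] using hx1

end Cfsg.Agent.S2809
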