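import Cfsg.Statements.S2810
import Cfsg.Agent.Lib.Helper16.PCore

set_option autoImplicit false
open Cfsg
open scoped commutatorElement

namespace Cfsg.Agent.S2810

open Cfsg.Agent.Lib.Helper16

/-- The subgroup of elements stabilizing one step `A ≥ B` of a chain of normal subgroups. -/
def stepKernel {H : Type*} [Group H] (A B : Subgroup H) (hB : B.Normal) : Subgroup H :=
  haveI := hB
  (Subgroup.centralizer ((A.map (QuotientGroup.mk' B) : Subgroup (H ⧸ B)) : Set (H ⧸ B))).comap
    (QuotientGroup.mk' B)

theorem mem_stepKernel {H : Type*} [Group H] (A B : Subgroup H) (hB : B.Normal) (g : H) :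
    g ∈ stepKernel A B hB ↔ ∀ a ∈ A, ⁅a, g⁆ ∈ B := by
  haveI := hB
  unfold stepKernel
  rw [Subgroup.mem_comap, Subgroup.mem_centralizer_iff]
  constructor
  · intro h a ha
    have := h (QuotientGroup.mk' B a) (Subgroup.mem_map_of_mem _ ha)
    rw [← QuotientGroup.eq_one_iff]
    simp only [QuotientGroup.mk'_apply] at this
    rw [commutatorElement_def]
    simp only [QuotientGroup.mk_mul, QuotientGroup.mk_inv]
    rw [this]; group
  · rintro h _ ⟨a, ha, rfl⟩
    have := h a ha
    rw [← QuotientGroup.eq_one_iff, commutatorElement_def] at this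
    simp only [QuotientGroup.mk_mul, QuotientGroup.mk_inv] at this
    simp only [QuotientGroup.mk'_apply]
    have h2 : (a : H ⧸ B) * (g : H ⧸ B) = ((a : H ⧸ B) * (g : H ⧸ B) * (a : H ⧸ B)⁻¹ * (g : H ⧸ B)⁻¹) * ((g : H ⧸ B) * (a : H ⧸ B)) := by group
    rw [h2, this, one_mul]

theorem stepKernel_normal {H : Type*} [Group H] (A B : Subgroup H) (hA : A.Normal) (hB : B.Normal) :
    (stepKernel A B hB).Normal := by
  haveI := hB
  haveI := hA
  unfold stepKernel
  haveI : (A.map (QuotientGroup.mk' B)).Normal :=
    Subgroup.Normal.map hA _ (QuotientGroup.mk'_surjective B)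
  infer_instance

/-- Let H be a finite group of characteristic p and L a subgroup of H centralizing every factor of some H-invariant chain 1 = A₀ ≤ A₁ ≤ … ≤ Aₙ = O_p(H) of normal subgroups (that is, [A_{i+1}, L] ≤ Aᵢ for each i). Then L ≤ O_p(H). -/
theorem result {H : Type*} [Group H] [Finite H] {p : ℕ} [Fact p.Prime] (hchar : Subgroup.centralizer (Cfsg.pCore p H : Set H) ≤ Cfsg.pCore p H) (L : Subgroup H) (n : ℕ) (A : Fin (n + 1) → Subgroup H) (h0 : A 0 = ⊥) (hn : A (Fin.last n) = Cfsg.pCore p H) (hmono : Monotone A) (hnorm : ∀ i, (A i).Normal) (hcent : ∀ i : Fin n, ⁅A i.succ, L⁆ ≤ A i.castSucc) : L ≤ Cfsg.pCore p H := by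
  -- K : the full stabilizer of the chain
  set K : Subgroup H := ⨅ i : Fin n, stepKernel (A i.succ) (A i.castSucc) (hnorm _) with hK
  have hKn : K.Normal := Subgroup.normal_iInf_normal (fun i => stepKernel_normal _ _ (hnorm _) (hnorm _))
  have hLK : L ≤ K := by
    intro g hg
    rw [hK, Subgroup.mem_iInf]
    intro i
    rw [mem_stepKernel]
    intro a ha
    exact hcent i (Subgroup.commutator_mem_commutator ha hg)
  have hAle : ∀ i, A i ≤ Cfsg.pCore p H := by
    intro i; rw [← hn]; exact hmono (Fin.le_last i)
  have hOp := pCore_isPGroup p H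
  have hKp : IsPGroup p K := by
    apply isPGroup_of_coprime_elements_trivial
    intro x hxK hcop
    -- x centralizes each A i
    have key : ∀ i : Fin (n+1), ∀ r ∈ A i, r * x = x * r := by
      intro i
      induction i using Fin.induction with
      | zero =>
        intro r hr
        rw [h0, Subgroup.mem_bot] at hr
        subst hr; simp
      | succ i ih =>
        intro r hr
        have hz : ⁅r, x⁆ ∈ A i.castSucc := by
          have := (Subgroup.mem_iInf.mp hxK) i
          rw [mem_stepKernel] at this
          exact this r hr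
        obtain ⟨k, hk⟩ := exists_pow_eq_one_of_mem hOp (hAle _ hz)
        exact commute_of_coprime_commutator r x (ih _ hz) k hk hcop
    have hxC : x ∈ Subgroup.centralizer (Cfsg.pCore p H : Set H) := by
      rw [Subgroup.mem_centralizer_iff]
      intro r hr
      rw [SetLike.mem_coe, ← hn] at hr
      exact key _ r hr
    obtain ⟨j, hj⟩ := exists_pow_eq_one_of_mem hOp (hchar hxC)
    exact eq_one_of_pow_prime_pow_of_coprime x j hj hcop
  exact hLK.trans (le_pCore hKn hKp)

end Cfsg.Agent.S2810
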