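import Cfsg.Statements.S2813
import Cfsg.Agent.Lib.Helper16.PCore

set_option autoImplicit false
open Cfsg
open scoped commutatorElement

namespace Cfsg.Agent.S2813

open Cfsg.Agent.Lib.Helper16

/-- `[K, Y] ≤ K` when `Y` normalizes `K`. -/
theorem commutator_le_of_le_normalizer {H : Type*} [Group H] (K Y : Subgroup H)
    (hYK : Y ≤ Subgroup.normalizer (K : Set H)) : ⁅K, Y⁆ ≤ K := by
  rw [Subgroup.commutator_le]
  intro k hk y hy
  have : ⁅k, y⁆ = k * (y * k⁻¹ * y⁻¹) := by simp [commutatorElement_def, mul_assoc]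
  rw [this]
  exact K.mul_mem hk ((Subgroup.mem_normalizer_iff.mp (hYK hy) k⁻¹).mp (K.inv_mem hk))

/-- `K` normalizes `[K, Y]`. -/
theorem le_normalizer_commutator {H : Type*} [Group H] (K Y : Subgroup H) :
    K ≤ Subgroup.normalizer ((⁅K, Y⁆ : Subgroup H) : Set H) := by
  have key : ∀ a ∈ K, ∀ n ∈ ⁅K, Y⁆, a * n * a⁻¹ ∈ ⁅K, Y⁆ := by
    intro a ha n hn
    rw [Subgroup.commutator_def] at hn
    induction hn using Subgroup.closure_induction with
    | mem x hx =>
      obtain ⟨b, hb, c, hc, rfl⟩ := hx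
      have : a * ⁅b, c⁆ * a⁻¹ = ⁅a * b, c⁆ * ⁅a, c⁆⁻¹ := by
        simp [commutatorElement_def, mul_assoc]
      rw [this]
      exact Subgroup.mul_mem _ (Subgroup.commutator_mem_commutator (K.mul_mem ha hb) hc)
        (Subgroup.inv_mem _ (Subgroup.commutator_mem_commutator ha hc))
    | one => simp
    | mul x y _ _ hx hy =>
      have : a * (x * y) * a⁻¹ = (a * x * a⁻¹) * (a * y * a⁻¹) := by group
      rw [this]; exact Subgroup.mul_mem _ hx hy
    | inv x _ hx =>
      have : a * x⁻¹ * a⁻¹ = (a * x * a⁻¹)⁻¹ := by group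
      rw [this]; exact Subgroup.inv_mem _ hx
  intro a ha
  rw [Subgroup.mem_normalizer_iff]
  intro n
  constructor
  · exact key a ha n
  · intro h
    have := key a⁻¹ (K.inv_mem ha) _ h
    simpa [mul_assoc] using this

/-- An abelian subgroup generated by `p`-elements is a `p`-group. -/
theorem isPGroup_closure_of_comm {H : Type*} [Group H] {p : ℕ} (S : Set H)
    (hS : ∀ x ∈ S, ∃ j : ℕ, x ^ (p ^ j) = 1)
    (hcomm : ∀ x ∈ Subgroup.closure S, ∀ y ∈ Subgroup.closure S, x * y = y * x) :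
    IsPGroup p (Subgroup.closure S) := by
  have key : ∀ x ∈ Subgroup.closure S, ∃ j : ℕ, x ^ (p ^ j) = 1 := by
    intro x hx
    induction hx using Subgroup.closure_induction with
    | mem x hx => exact hS x hx
    | one => exact ⟨0, by simp⟩
    | mul x y hx hy ihx ihy =>
      obtain ⟨j, hj⟩ := ihx
      obtain ⟨j', hj'⟩ := ihy
      refine ⟨j + j', ?_⟩
      rw [(show Commute x y from hcomm x hx y hy).mul_pow, pow_add, pow_mul, hj, one_pow, one_mul,
        mul_comm (p ^ j), pow_mul, hj', one_pow]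
    | inv x _ ih =>
      obtain ⟨j, hj⟩ := ih
      exact ⟨j, by rw [inv_pow, hj, inv_one]⟩
  rintro ⟨x, hx⟩
  obtain ⟨j, hj⟩ := key x hx
  exact ⟨j, Subtype.ext (by simpa using hj)⟩

/-- Let K be a subgroup of the finite group H with O_p(K) = 1 and Y a p-subgroup of N_H(K) with [K, Y, Y] = 1. Then [K, Y] = 1. -/
theorem result {H : Type*} [Group H] [Finite H] {p : ℕ} [Fact p.Prime] (K : Subgroup H) (hO : Cfsg.pCore p ↥K = ⊥) (Y : Subgroup H) (hY : IsPGroup p ↥Y) (hYK : Y ≤ Subgroup.normalizer (K : Set H)) (hq : ⁅⁅K, Y⁆, Y⁆ = ⊥) : ⁅K, Y⁆ = ⊥ := by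
  set N := ⁅K, Y⁆ with hN
  have hNK : N ≤ K := commutator_le_of_le_normalizer K Y hYK
  have hKN : K ≤ Subgroup.normalizer (N : Set H) := le_normalizer_commutator K Y
  -- [N, K] ≤ N
  have hNKN : ⁅N, K⁆ ≤ N := commutator_le_of_le_normalizer N K hKN
  -- three subgroups lemma: [N, N] = ⊥
  have h1 : ⁅⁅Y, N⁆, K⁆ = ⊥ := by
    rw [Subgroup.commutator_comm Y N, hq, Subgroup.commutator_bot_left]
  have h2 : ⁅⁅N, K⁆, Y⁆ = ⊥ := by
    rw [eq_bot_iff, ← hq]
    exact Subgroup.commutator_mono hNKN le_rfl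
  have h3 : ⁅N, N⁆ = ⊥ := Subgroup.commutator_commutator_eq_bot_of_rotate h1 h2
  have hNcomm : ∀ x ∈ N, ∀ y ∈ N, x * y = y * x := by
    intro x hx y hy
    have := (Subgroup.commutator_eq_bot_iff_le_centralizer.mp h3) hx
    exact ((Subgroup.mem_centralizer_iff.mp this) y hy).symm
  -- N is a p-group
  have hNp : IsPGroup p N := by
    rw [hN, Subgroup.commutator_def]
    apply isPGroup_closure_of_comm
    · rintro c ⟨k, hk, y, hy, rfl⟩
      obtain ⟨j, hj⟩ := exists_pow_eq_one_of_mem hY hy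
      refine ⟨j, ?_⟩
      have hcN : ⁅k, y⁆ ∈ N := Subgroup.commutator_mem_commutator hk hy
      have hcy : Commute ⁅k, y⁆ y := by
        have := (Subgroup.commutator_eq_bot_iff_le_centralizer.mp hq) hcN
        exact ((Subgroup.mem_centralizer_iff.mp this) y hy).symm
      have h1 : k * y * k⁻¹ = ⁅k, y⁆ * y := by
        simp [commutatorElement_def, mul_assoc]
      have h2 : (k * y * k⁻¹) ^ (p ^ j) = 1 := by
        rw [conj_pow, hj]; simp
      rw [h1, hcy.mul_pow, hj, mul_one] at h2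
      exact h2
    · rw [← Subgroup.commutator_def]
      exact hNcomm
  -- N.subgroupOf K is a normal p-subgroup of K
  have hnorm : (N.subgroupOf K).Normal := by
    rw [Subgroup.normal_subgroupOf_iff_le_normalizer hNK]
    exact hKN
  have hp' : IsPGroup p (N.subgroupOf K) := hNp.comap_subtype
  have hle := le_pCore hnorm hp'
  rw [hO, le_bot_iff, Subgroup.subgroupOf_eq_bot, disjoint_iff, inf_eq_left.mpr hNK] at hle
  exact hle

end Cfsg.Agent.S2813
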