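import Cfsg.Statements.S2814
import Cfsg.Agent.Lib.Helper16.SubnormalPGroup

set_option autoImplicit false
open Cfsg
open scoped commutatorElement Pointwise

namespace Cfsg.Agent.S2814

open Cfsg.Agent.Lib.Helper16

/-- The subnormal closure of `A` in a finite group is subnormal and contains `A`. -/
theorem subnormalClosure_spec {H : Type*} [Group H] [Finite H] (A : Subgroup H) :
    A ≤ Cfsg.subnormalClosure A ∧ (Cfsg.subnormalClosure A).IsSubnormal := by
  obtain ⟨K₀, _, hK₀⟩ := Finite.exists_le_minimal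
    (p := fun K : Subgroup H => A ≤ K ∧ K.IsSubnormal) (a := ⊤) ⟨le_top, Subgroup.IsSubnormal.top⟩
  have hmin : ∀ K' : Subgroup H, A ≤ K' → K'.IsSubnormal → K₀ ≤ K' := by
    intro K' h1 h2
    have h3 : A ≤ K₀ ⊓ K' ∧ (K₀ ⊓ K').IsSubnormal := ⟨le_inf hK₀.prop.1 h1, hK₀.prop.2.inf h2⟩
    have := hK₀.le_of_le h3 inf_le_left
    exact this.trans inf_le_right
  have heq : Cfsg.subnormalClosure A = K₀ := by
    unfold Cfsg.subnormalClosure
    apply le_antisymm
    · exact sInf_le hK₀.prop
    · exact le_sInf (fun K' hK' => hmin K' hK'.1 hK'.2)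
  rw [heq]; exact hK₀.prop

theorem subnormalClosure_le {H : Type*} [Group H] (A K' : Subgroup H) (h1 : A ≤ K')
    (h2 : K'.IsSubnormal) : Cfsg.subnormalClosure A ≤ K' :=
  sInf_le ⟨h1, h2⟩

/-- Let A be a subgroup of the finite group H and K the subnormal closure of A (intersection of the subnormal subgroups containing A). Then K is the normal closure of A inside K and N_H(A) ≤ N_H(K); K = A·O^p(K), O^p(K) being generated by the elements of K of order prime to p; and if A is a p-group, O^p(K) = [O^p(K), A]. -/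
theorem result {H : Type*} [Group H] [Finite H] {p : ℕ} [Fact p.Prime] (A : Subgroup H) (K : Subgroup H) (hK : K = Cfsg.subnormalClosure A) : (Subgroup.normalClosure ((A.subgroupOf K : Subgroup ↥K) : Set ↥K)).map K.subtype = K ∧ Subgroup.normalizer (A : Set H) ≤ Subgroup.normalizer (K : Set H) ∧ A ⊔ (Cfsg.pResidual p ↥K).map K.subtype = K ∧ (IsPGroup p ↥A → ⁅(Cfsg.pResidual p ↥K).map K.subtype, A⁆ = (Cfsg.pResidual p ↥K).map K.subtype) := by
  obtain ⟨hAK, hKsn⟩ := subnormalClosure_spec A
  rw [← hK] at hAK hKsn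
  have hmin : ∀ K' : Subgroup H, A ≤ K' → K'.IsSubnormal → K ≤ K' := by
    intro K' h1 h2; rw [hK]; exact subnormalClosure_le A K' h1 h2
  rw [map_pResidual_eq_opUp]
  set R := opUp p K with hR
  have hRK : R ≤ K := opUp_le p K
  have hKR : K ≤ Subgroup.normalizer (R : Set H) :=
    Subgroup.le_normalizer.trans (normalizer_le_normalizer_opUp p K)
  -- (3)
  have h3 : A ⊔ R = K := by
    apply le_antisymm (sup_le hAK hRK)
    apply hmin _ le_sup_left
    -- A ⊔ R is subnormal in K, hence in H
    have hRn : (R.subgroupOf K).Normal :=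
      (Subgroup.normal_subgroupOf_iff_le_normalizer hRK).mpr hKR
    have hsub : ((A ⊔ R).subgroupOf K).IsSubnormal := by
      apply isSubnormal_of_le_of_pgroup_quot (p := p) (R.subgroupOf K)
      · intro x hx
        exact le_sup_right (a := A) hx
      · intro g
        obtain ⟨k, hk⟩ := exists_pow_mem_opUp p K g.2
        exact ⟨k, by simpa [Subgroup.mem_subgroupOf] using hk⟩
    exact Subgroup.IsSubnormal.trans (sup_le hAK hRK) hsub hKsn
  refine ⟨?_, ?_, h3, ?_⟩
  · -- (1)
    apply le_antisymm (Subgroup.map_subtype_le _)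
    apply hmin
    · intro a ha
      exact ⟨⟨a, hAK ha⟩, Subgroup.subset_normalClosure (show (⟨a, hAK ha⟩ : ↥K) ∈ A.subgroupOf K from ha), rfl⟩
    · exact Subgroup.IsSubnormal.trans' (Subgroup.normalClosure_normal.isSubnormal) hKsn
  · -- (2)
    have key : ∀ x ∈ Subgroup.normalizer (A : Set H), ∀ g ∈ K, x * g * x⁻¹ ∈ K := by
      intro x hx g hg
      -- K ≤ x⁻¹ K x
      have hx' : x⁻¹ ∈ Subgroup.normalizer (A : Set H) := Subgroup.inv_mem _ hx
      have hsn : (K.map (MulAut.conj x⁻¹).toMonoidHom).IsSubnormal :=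
        hKsn.map (MulAut.conj x⁻¹).surjective
      have hA : A ≤ K.map (MulAut.conj x⁻¹).toMonoidHom := by
        intro a ha
        refine ⟨x * a * x⁻¹, hAK ((Subgroup.mem_normalizer_iff.mp hx a).mp ha), ?_⟩
        simp [MulAut.conj_apply, mul_assoc]
      obtain ⟨k, hk, hkg⟩ := hmin _ hA hsn hg
      have : x * g * x⁻¹ = k := by
        rw [← hkg]; simp [MulAut.conj_apply, mul_assoc]
      rw [this]; exact hk
    intro x hx
    apply mem_normalizer_of_conj_mem
    · exact key x hx
    · intro g hg
      have := key x⁻¹ (Subgroup.inv_mem _ hx) g hg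
      simpa using this
  · -- (4)
    intro hAp
    set W := ⁅R, A⁆ with hW
    have hWR : W ≤ R := commutator_le_of_le_normalizer' R A (hAK.trans hKR)
    apply le_antisymm hWR
    have hRW : R ≤ Subgroup.normalizer (W : Set H) := le_normalizer_commutator_left R A
    have hAW : A ≤ Subgroup.normalizer (W : Set H) := le_normalizer_commutator_right R A
    have hKW : K ≤ Subgroup.normalizer (W : Set H) := by
      rw [← h3]; exact sup_le hAW hRW
    -- B = A ⊔ W is normal in K
    have hBK : A ⊔ W ≤ K := sup_le hAK (hWR.trans hRK)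
    have hconj : ∀ x ∈ K, ∀ g ∈ A ⊔ W, x * g * x⁻¹ ∈ A ⊔ W := by
      intro x hx g hg
      have hmap : (A ⊔ W).map (MulAut.conj x).toMonoidHom ≤ A ⊔ W := by
        rw [Subgroup.map_sup]
        apply sup_le
        · -- x = a r
          rintro _ ⟨a, ha, rfl⟩
          simp only [MulEquiv.coe_toMonoidHom, MulAut.conj_apply]
          have hx' : x ∈ A ⊔ R := by rw [h3]; exact hx
          -- induct on x ∈ A ⊔ R? simpler: x a x⁻¹ = [x, a] a, and [x,a] ∈ [K, A]
          -- use decomposition via normality of R in K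
          have hRn : R ≤ Subgroup.normalizer (R : Set H) := Subgroup.le_normalizer
          have hset := Subgroup.coe_mul_of_left_le_normalizer_right A R (hAK.trans hKR)
          have hx2 : x ∈ ((A ⊔ R : Subgroup H) : Set H) := hx'
          rw [hset] at hx2
          obtain ⟨a', ha', r, hr, rfl⟩ := hx2
          -- (a' r) a (a' r)⁻¹ = a' (r a r⁻¹) a'⁻¹ = a' ([r,a] a) a'⁻¹
          have h1 : a' * r * a * (a' * r)⁻¹ = (a' * ⁅r, a⁆ * a'⁻¹) * (a' * a * a'⁻¹) := by
            simp [commutatorElement_def, mul_assoc]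
          rw [h1]
          refine Subgroup.mul_mem _ (le_sup_right (a := A) ?_) (le_sup_left (b := W) ?_)
          · exact (Subgroup.mem_normalizer_iff.mp (hAW ha') _).mp
              (Subgroup.commutator_mem_commutator hr ha)
          · exact A.mul_mem (A.mul_mem ha' ha) (A.inv_mem ha')
        · rintro _ ⟨w, hw, rfl⟩
          simp only [MulEquiv.coe_toMonoidHom, MulAut.conj_apply]
          exact le_sup_right (a := A) ((Subgroup.mem_normalizer_iff.mp (hKW hx) w).mp hw)
      apply hmap
      exact ⟨g, hg, by simp [MulAut.conj_apply]⟩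
    have hBn : ((A ⊔ W).subgroupOf K).Normal := by
      refine ⟨fun g hg x => ?_⟩
      have := hconj x x.2 g hg
      simpa [Subgroup.mem_subgroupOf] using this
    have hBsn : (A ⊔ W).IsSubnormal := Subgroup.IsSubnormal.trans hBK hBn.isSubnormal hKsn
    have hKB : K ≤ A ⊔ W := hmin _ le_sup_left hBsn
    have hKeq : W ⊔ A = K := by rw [sup_comm]; exact le_antisymm hBK hKB
    have := opUp_sup_le_of_isPGroup p W A hAp hAW
    rwa [hKeq] at this

end Cfsg.Agent.S2814
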