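import Cfsg.Statements.S2815
import Cfsg.Agent.Lib.Helper16.PCore
import Cfsg.Agent.Lib.Helper16.Subnormal
import Cfsg.Agent.Lib.Helper16.SubnormalResidual
import Cfsg.Agent.Lib.Helper20.Quasisimple
import Mathlib

set_option autoImplicit false
open Cfsg
open Cfsg.Agent.Lib.Helper16
open scoped commutatorElement

namespace Cfsg.Agent.S2815

variable {H : Type*} [Group H]

theorem mem_res_of_coprime (p : ℕ) {g : H} (h : Nat.Coprime (orderOf g) p) :
    g ∈ Cfsg.pResidual p H := Subgroup.subset_closure h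

theorem res_normal (p : ℕ) : (Cfsg.pResidual p H).Normal := by
  constructor
  intro n hn x
  unfold Cfsg.pResidual at hn
  induction hn using Subgroup.closure_induction with
  | mem g hg =>
    apply mem_res_of_coprime
    have : orderOf (x * g * x⁻¹) = orderOf g := by
      have := (MulAut.conj x).orderOf_eq g
      rwa [MulAut.conj_apply] at this
    rw [this]; exact hg
  | one => simp
  | mul a b _ _ ha hb =>
    have : x * (a * b) * x⁻¹ = (x * a * x⁻¹) * (x * b * x⁻¹) := by group
    rw [this]; exact Subgroup.mul_mem _ ha hb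
  | inv a _ ha =>
    have : x * a⁻¹ * x⁻¹ = (x * a * x⁻¹)⁻¹ := by group
    rw [this]; exact Subgroup.inv_mem _ ha

theorem exists_pow_mem_res [Finite H] (p : ℕ) [Fact p.Prime] (g : H) :
    ∃ k : ℕ, g ^ (p ^ k) ∈ Cfsg.pResidual p H := by
  obtain ⟨k, m, hm, hkm⟩ := Nat.exists_eq_pow_mul_and_not_dvd (orderOf_pos g).ne' p
    (Fact.out : p.Prime).ne_one
  refine ⟨k, ?_⟩
  apply mem_res_of_coprime p
  have hxord : orderOf (g ^ (p ^ k)) = m := by
    rw [orderOf_pow' g (pow_ne_zero k (Fact.out : p.Prime).ne_zero), hkm,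
      Nat.gcd_eq_right (Dvd.intro _ rfl)]
    exact Nat.mul_div_cancel_left m (pow_pos (Fact.out : p.Prime).pos k)
  rw [hxord]
  exact ((Nat.Prime.coprime_iff_not_dvd (Fact.out : p.Prime)).mpr hm).symm

theorem quot_isPGroup [Finite H] (p : ℕ) [Fact p.Prime] [hn : (Cfsg.pResidual p H).Normal] :
    IsPGroup p (H ⧸ Cfsg.pResidual p H) := by
  intro q
  obtain ⟨g, rfl⟩ := QuotientGroup.mk_surjective q
  obtain ⟨k, hk⟩ := exists_pow_mem_res p g
  refine ⟨k, ?_⟩
  rw [← QuotientGroup.mk_pow]
  exact (QuotientGroup.eq_one_iff _).mpr hk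

/-- A subgroup `N` of a quasisimple subgroup `K`, normalized by `K`, is `K` or is centralized by
`K`. -/
theorem quasi_dichotomy (K N : Subgroup H) (hq : IsQuasisimple ↥K) (hNK : N ≤ K)
    (hn : K ≤ Subgroup.normalizer (N : Set H)) :
    K ≤ N ∨ N ≤ Subgroup.centralizer (K : Set H) := by
  have hnorm : (N.subgroupOf K).Normal := (Subgroup.normal_subgroupOf_iff_le_normalizer hNK).mpr hn
  rcases Cfsg.Agent.Lib.Helper20.quasisimple_normal_top_or_le_center hq _ hnorm with h | h
  · left; exact Subgroup.subgroupOf_eq_top.mp h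
  · right
    intro n hnN
    rw [Subgroup.mem_centralizer_iff]
    intro k hk
    have h1 : (⟨n, hNK hnN⟩ : ↥K) ∈ N.subgroupOf K := by
      rw [Subgroup.mem_subgroupOf]; exact hnN
    have h2 := Subgroup.mem_center_iff.mp (h h1) ⟨k, hk⟩
    exact congrArg Subtype.val h2

/-- A `p`-subgroup of a group of order prime to `p` is trivial. -/
theorem eq_bot_of_isPGroup_of_coprime {G : Type*} [Group G] [Finite G] {p : ℕ} [Fact p.Prime]
    {Y C : Subgroup G} (hY : IsPGroup p Y) (hC : (Nat.card C).Coprime p) (hYC : Y ≤ C) :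
    Y = ⊥ := by
  obtain ⟨n, hn⟩ := IsPGroup.iff_card.mp hY
  have h1 : (Nat.card Y).Coprime (Nat.card C) := by
    rw [hn]; exact Nat.Coprime.pow_left n hC.symm
  have h2 := Subgroup.inf_eq_bot_of_coprime h1
  rwa [inf_eq_left.mpr hYC] at h2

theorem nontrivial_of_quasisimple {X : Type*} [Group X] (hq : IsQuasisimple X) : Nontrivial X := by
  have := hq.2
  exact (QuotientGroup.mk'_surjective (Subgroup.center X)).nontrivial

/-- Three subgroups: if `[C, K]` is centralized by the perfect group `K`, then `C` centralizes `K`. -/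
theorem le_centralizer_of_commutator_le_centralizer (K C : Subgroup H) (hperf : ⁅K, K⁆ = K)
    (h : ⁅C, K⁆ ≤ Subgroup.centralizer (K : Set H)) : C ≤ Subgroup.centralizer (K : Set H) := by
  have h2 : ⁅⁅C, K⁆, K⁆ = ⊥ := Subgroup.commutator_eq_bot_iff_le_centralizer.mpr h
  have h1 : ⁅⁅K, C⁆, K⁆ = ⊥ := by rw [Subgroup.commutator_comm K C]; exact h2
  have h3 := Subgroup.commutator_commutator_eq_bot_of_rotate h1 h2
  rw [hperf, Subgroup.commutator_comm] at h3
  exact Subgroup.commutator_eq_bot_iff_le_centralizer.mp h3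

theorem key [Finite H] {p : ℕ} [Fact p.Prime] (hO : Cfsg.pCore p H = ⊥)
    (hq : Cfsg.IsQuasisimple ↥(Cfsg.pResidual p H)) (C : Subgroup H) (hC : C.Normal)
    (hKC : ¬ Cfsg.pResidual p H ≤ C) :
    C ≤ Subgroup.centralizer (Cfsg.pResidual p H : Set H) ∧ (Nat.card ↥C).Coprime p := by
  set K := Cfsg.pResidual p H with hK
  have hKn : K.Normal := res_normal p
  have hperf : ⁅K, K⁆ = K := Subgroup.isPerfect_iff.mp hq.1
  have hDn : (C ⊓ K).Normal := inferInstance
  have hD : C ⊓ K ≤ Subgroup.centralizer (K : Set H) := by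
    rcases quasi_dichotomy K (C ⊓ K) hq inf_le_right
      (fun k _ => (Subgroup.normalizer_eq_top_iff.mpr hDn) ▸ Subgroup.mem_top k) with h | h
    · exact absurd (h.trans inf_le_left) hKC
    · exact h
  have hCcent : C ≤ Subgroup.centralizer (K : Set H) :=
    le_centralizer_of_commutator_le_centralizer K C hperf ((Subgroup.commutator_le_inf C K).trans hD)
  refine ⟨hCcent, ?_⟩
  -- C is nilpotent
  have : Group.IsNilpotent (H ⧸ K) := (quot_isPGroup p).isNilpotent
  let f : ↥C →* H ⧸ K := (QuotientGroup.mk' K).comp C.subtype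
  have hker : f.ker ≤ Subgroup.center ↥C := by
    intro x hx
    rw [MonoidHom.mem_ker] at hx
    have hxK : (x : H) ∈ K := by
      have : (QuotientGroup.mk' K) (x : H) = 1 := hx
      exact (QuotientGroup.eq_one_iff _).mp this
    rw [Subgroup.mem_center_iff]
    intro g
    apply Subtype.ext
    have := Subgroup.mem_centralizer_iff.mp (hCcent g.2) (x : H) hxK
    simpa using this.symm
  have : Group.IsNilpotent ↥C := Subgroup.isNilpotent_of_ker_le_center f hker
  let P : Sylow p ↥C := default
  have hPn : (P : Subgroup ↥C).Normal := inferInstance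
  have hsub : ((P : Subgroup ↥C).map C.subtype).IsSubnormal := by
    refine Subgroup.IsSubnormal.step _ C (Subgroup.map_subtype_le _) hC.isSubnormal ?_
    have : ((P : Subgroup ↥C).map C.subtype).subgroupOf C = (P : Subgroup ↥C) :=
      Subgroup.comap_map_eq_self_of_injective (Subgroup.subtype_injective C) _
    rw [this]; exact hPn
  have hle := le_pCore_of_isSubnormal_of_isPGroup p hsub (P.isPGroup'.map _)
  rw [hO, le_bot_iff, Subgroup.map_eq_bot_iff_of_injective _ (Subgroup.subtype_injective C)] at hle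
  have hnd : ¬ p ∣ Nat.card ↥C := fun hd => P.ne_bot_of_dvd_card hd hle
  exact ((Nat.Prime.coprime_iff_not_dvd (Fact.out : p.Prime)).mpr hnd).symm


/-- A perfect subgroup lies in `O^p(H)`. -/
theorem perfect_le_res [Finite H] {p : ℕ} [Fact p.Prime] (L : Subgroup H)
    (hL : Group.IsPerfect ↥L) : L ≤ Cfsg.pResidual p H := by
  set K := Cfsg.pResidual p H with hK
  have hKn : K.Normal := res_normal p
  have hperf : Group.IsPerfect ↥(L.map (QuotientGroup.mk' K)) := Group.IsPerfect.map _
  have hpg : IsPGroup p ↥(L.map (QuotientGroup.mk' K)) := (quot_isPGroup p).to_subgroup _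
  have hnil : Group.IsNilpotent ↥(L.map (QuotientGroup.mk' K)) := hpg.isNilpotent
  have hbot : L.map (QuotientGroup.mk' K) = ⊥ := by
    by_contra hne
    have : Nontrivial ↥(L.map (QuotientGroup.mk' K)) := (Subgroup.nontrivial_iff_ne_bot _).mpr hne
    exact Group.IsPerfect.not_isNilpotent _ hnil
  rw [Subgroup.map_eq_bot_iff, QuotientGroup.ker_mk'] at hbot
  exact hbot

theorem not_isNilpotent_of_le [Finite H] (K N : Subgroup H) (hq : IsQuasisimple ↥K) (hKN : K ≤ N) :
    ¬ Group.IsNilpotent ↥N := by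
  intro hN
  have h1 : Group.IsNilpotent ↥(K.subgroupOf N) := inferInstance
  have h2 : Group.IsNilpotent ↥K :=
    Group.nilpotent_of_mulEquiv (Subgroup.subgroupOfEquivOfLe hKN)
  have := nontrivial_of_quasisimple hq
  have := hq.1
  exact Group.IsPerfect.not_isNilpotent _ h2

theorem le_res_of_coprime_card (p : ℕ) (N : Subgroup H)
    (hN : (Nat.card ↥N).Coprime p) : N ≤ Cfsg.pResidual p H := by
  intro n hn
  apply mem_res_of_coprime
  exact Nat.Coprime.coprime_dvd_left (Subgroup.orderOf_dvd_natCard N hn) hN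

/-- Let H be a finite group and p a prime dividing its order with O_p(H) = 1, and suppose K = O^p(H) (generated by the elements of order prime to p) is quasisimple. Then K = F*(H); for every nontrivial p-subgroup Y of H, K = [K, Y] and K lies in the subgroup generated by the K-conjugates of Y; every normal subgroup of H not containing K has order prime to p; and H is p-irreducible. -/
theorem result {H : Type*} [Group H] [Finite H] {p : ℕ} [Fact p.Prime] (hp : p ∣ Nat.card H) (hO : Cfsg.pCore p H = ⊥) (hq : Cfsg.IsQuasisimple ↥(Cfsg.pResidual p H)) : Cfsg.pResidual p H = Cfsg.generalizedFittingSubgroup H ∧ (∀ Y : Subgroup H, IsPGroup p ↥Y → Y ≠ ⊥ → ⁅Cfsg.pResidual p H, Y⁆ = Cfsg.pResidual p H ∧ Cfsg.pResidual p H ≤ ⨆ k : ↥(Cfsg.pResidual p H), Y.map (MulAut.conj (k : H)).toMonoidHom) ∧ (∀ C : Subgroup H, C.Normal → ¬ Cfsg.pResidual p H ≤ C → (Nat.card ↥C).Coprime p) ∧ Cfsg.IsPIrreducible p H := by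
  set K := Cfsg.pResidual p H with hK
  have hKn : K.Normal := res_normal p
  have hperf : ⁅K, K⁆ = K := Subgroup.isPerfect_iff.mp hq.1
  have hKnt : Nontrivial ↥K := nontrivial_of_quasisimple hq
  have hKperf : Group.IsPerfect ↥K := hq.1
  -- K is not abelian
  have hKnc : ¬ K ≤ Subgroup.centralizer (K : Set H) := by
    intro h
    have h1 : ⁅K, K⁆ = ⊥ := Subgroup.commutator_eq_bot_iff_le_centralizer.mpr h
    rw [hperf] at h1
    exact (Subgroup.nontrivial_iff_ne_bot K).mp hKnt h1
  have hcommKY : ∀ Y : Subgroup H, IsPGroup p ↥Y → Y ≠ ⊥ → ⁅K, Y⁆ = K := by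
    intro Y hY hYne
    have hM : ⁅K, Y⁆ ≤ K := Subgroup.commutator_le_left K Y
    rcases quasi_dichotomy K ⁅K, Y⁆ hq hM (le_normalizer_commutator_left K Y) with h | h
    · exact le_antisymm hM h
    · exfalso
      have hYc : Y ≤ Subgroup.centralizer (K : Set H) := by
        apply le_centralizer_of_commutator_le_centralizer K Y hperf
        rw [Subgroup.commutator_comm]; exact h
      have hCn : (Subgroup.centralizer (K : Set H)).Normal := Subgroup.normal_centralizer
      have := (key hO hq _ hCn hKnc).2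
      exact hYne (eq_bot_of_isPGroup_of_coprime hY this hYc)
  refine ⟨?_, ?_, ?_, ?_⟩
  · -- K = F*(H)
    unfold Cfsg.generalizedFittingSubgroup
    apply le_antisymm
    · refine le_trans ?_ le_sup_left
      exact le_sSup ⟨hKn.isSubnormal, hq⟩
    · apply sup_le
      · apply sSup_le
        rintro L ⟨_, hLq⟩
        exact perfect_le_res L hLq.1
      · apply sSup_le
        rintro N ⟨hNn, hNnil⟩
        have hKN : ¬ K ≤ N := fun h => not_isNilpotent_of_le K N hq h hNnil
        exact le_res_of_coprime_card p N (key hO hq N hNn hKN).2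
  · intro Y hY hYne
    refine ⟨hcommKY Y hY hYne, ?_⟩
    have h1 : ⁅K, Y⁆ ≤ ⨆ k : ↥K, Y.map (MulAut.conj (k : H)).toMonoidHom := by
      rw [Subgroup.commutator_le]
      intro k hk y hy
      rw [commutatorElement_def]
      apply Subgroup.mul_mem
      · apply Subgroup.mem_iSup_of_mem (⟨k, hk⟩ : ↥K)
        exact ⟨y, hy, by simp [MulAut.conj_apply]⟩
      · apply Subgroup.mem_iSup_of_mem (⟨1, K.one_mem⟩ : ↥K)
        exact ⟨y⁻¹, Y.inv_mem hy, by simp⟩
    rw [hcommKY Y hY hYne] at h1
    exact h1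
  · intro C hC hKC
    exact (key hO hq C hC hKC).2
  · constructor
    · intro hcl
      let P : Sylow p H := default
      have hPn := hcl P
      have hle : (P : Subgroup H) ≤ Cfsg.pCore p H := le_pCore hPn P.isPGroup'
      rw [hO, le_bot_iff] at hle
      exact P.ne_bot_of_dvd_card hp hle
    · intro N hNn hNcl
      by_contra hKN
      have hcop := (key hO hq N hNn hKN).2
      apply hNcl
      intro P
      have hcop' : (Nat.card ↥(⊤ : Subgroup ↥N)).Coprime p := by
        rw [Subgroup.card_top]; exact hcop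
      have : (P : Subgroup ↥N) = ⊥ := eq_bot_of_isPGroup_of_coprime P.isPGroup' hcop' le_top
      rw [this]
      infer_instance

end Cfsg.Agent.S2815
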