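import Cfsg.Statements.S2818
import Cfsg.Agent.Lib.Helper16.PCore
import Cfsg.Agent.Lib.Helper16.Frattini

set_option autoImplicit false
open Cfsg
open scoped commutatorElement

namespace Cfsg.Agent.S2818

open Cfsg.Agent.Lib.Helper16

/-- Elements of `Ω₁` of a subgroup whose elements commute pairwise lie in that subgroup and have
order dividing `p`. -/
theorem mem_omegaOne_of_comm {G : Type*} [Group G] (p : ℕ) (Z : Subgroup G)
    (hZ : ∀ a ∈ Z, ∀ b ∈ Z, a * b = b * a) {x : G} (hx : x ∈ Cfsg.omegaOne p Z) :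
    x ∈ Z ∧ x ^ p = 1 := by
  unfold Cfsg.omegaOne at hx
  induction hx using Subgroup.closure_induction with
  | mem x hx => exact hx
  | one => exact ⟨Z.one_mem, one_pow p⟩
  | mul x y _ _ ihx ihy =>
    refine ⟨Z.mul_mem ihx.1 ihy.1, ?_⟩
    rw [(show Commute x y from hZ x ihx.1 y ihy.1).mul_pow, ihx.2, ihy.2, one_mul]
  | inv x _ ih => exact ⟨Z.inv_mem ih.1, by rw [inv_pow, ih.2, inv_one]⟩

/-- Let P be a finite p-subgroup of a group G and H a subgroup of N_G(P) with [P, H] ≤ Ω₁(Z(P)) (the elements of order dividing p in the centre of P). Then H centralizes the Frattini subgroup of P. -/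
theorem result {G : Type*} [Group G] [Finite G] {p : ℕ} [Fact p.Prime] (P : Subgroup G) (hP : IsPGroup p ↥P) (H : Subgroup G) (hH : H ≤ Subgroup.normalizer (P : Set G)) (h : ⁅P, H⁆ ≤ Cfsg.omegaOne p (P ⊓ Subgroup.centralizer (P : Set G))) : ⁅(frattini ↥P).map P.subtype, H⁆ = ⊥ := by
  -- the centre of P (inside G) is commutative
  have hZc : ∀ a ∈ P ⊓ Subgroup.centralizer (P : Set G), ∀ b ∈ P ⊓ Subgroup.centralizer (P : Set G),
      a * b = b * a := by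
    intro a ha b hb
    exact ((Subgroup.mem_centralizer_iff.mp hb.2) a ha.1)
  -- key: for x ∈ P, h ∈ H, h x h⁻¹ = c * x with c central in P of order dividing p
  have key : ∀ x ∈ P, ∀ g ∈ H, ∃ c : G, c ∈ P ∧ (∀ y ∈ P, c * y = y * c) ∧ c ^ p = 1 ∧ g * x * g⁻¹ = c * x := by
    intro x hx g hg
    have hc := mem_omegaOne_of_comm p _ hZc (h (Subgroup.commutator_mem_commutator hx hg))
    refine ⟨⁅x, g⁆⁻¹, P.inv_mem hc.1.1, ?_, ?_, ?_⟩
    · intro y hy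
      have := (Subgroup.mem_centralizer_iff.mp
        ((Subgroup.centralizer (P : Set G)).inv_mem hc.1.2)) y hy
      exact this.symm
    · rw [inv_pow, hc.2, inv_one]
    · simp [commutatorElement_def, mul_assoc]
  -- N : the centralizer of H in P, as a subgroup of P
  set N : Subgroup ↥P := (Subgroup.centralizer (H : Set G)).subgroupOf P with hN
  have hpow : ∀ x : ↥P, x ^ p ∈ N := by
    rintro ⟨x, hx⟩
    rw [hN, Subgroup.mem_subgroupOf, Subgroup.mem_centralizer_iff]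
    intro g hg
    obtain ⟨c, _, hcP, hcp, hcx⟩ := key x hx g hg
    have h1 : g * x ^ p * g⁻¹ = x ^ p := by
      rw [← conj_pow, hcx, (show Commute c x from hcP x hx).mul_pow, hcp, one_mul]
    simp only [SubgroupClass.coe_pow]
    calc g * x ^ p = (g * x ^ p * g⁻¹) * g := by group
      _ = x ^ p * g := by rw [h1]
  have hcomm : commutator ↥P ≤ N := by
    rw [commutator_def, Subgroup.commutator_le]
    rintro ⟨x, hx⟩ _ ⟨y, hy⟩ _
    rw [hN, Subgroup.mem_subgroupOf, Subgroup.mem_centralizer_iff]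
    intro g hg
    obtain ⟨c, hcmem, hcP, _, hcx⟩ := key x hx g hg
    obtain ⟨d, hdmem, hdP, _, hdy⟩ := key y hy g hg
    have hxyP : x * y * x⁻¹ ∈ P := P.mul_mem (P.mul_mem hx hy) (P.inv_mem hx)
    have hxyP' : x * y * x⁻¹ * y⁻¹ ∈ P := P.mul_mem hxyP (P.inv_mem hy)
    have h1 : g * (x * y * x⁻¹ * y⁻¹) * g⁻¹ = x * y * x⁻¹ * y⁻¹ := by
      calc g * (x * y * x⁻¹ * y⁻¹) * g⁻¹
          = (g * x * g⁻¹) * (g * y * g⁻¹) * (g * x * g⁻¹)⁻¹ * (g * y * g⁻¹)⁻¹ := by group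
        _ = (c * x) * (d * y) * (c * x)⁻¹ * (d * y)⁻¹ := by rw [hcx, hdy]
        _ = c * ((x * d) * y * x⁻¹) * c⁻¹ * y⁻¹ * d⁻¹ := by group
        _ = c * ((d * x) * y * x⁻¹) * c⁻¹ * y⁻¹ * d⁻¹ := by rw [hdP x hx]
        _ = (c * d) * (x * y * x⁻¹) * c⁻¹ * y⁻¹ * d⁻¹ := by group
        _ = (c * d) * ((x * y * x⁻¹) * c⁻¹) * y⁻¹ * d⁻¹ := by group
        _ = (c * d) * (c⁻¹ * (x * y * x⁻¹)) * y⁻¹ * d⁻¹ := by
            have : c⁻¹ * (x * y * x⁻¹) = (x * y * x⁻¹) * c⁻¹ := by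
              have := hcP _ hxyP
              calc c⁻¹ * (x * y * x⁻¹) = c⁻¹ * ((x * y * x⁻¹) * c) * c⁻¹ := by group
                _ = c⁻¹ * (c * (x * y * x⁻¹)) * c⁻¹ := by rw [this]
                _ = (x * y * x⁻¹) * c⁻¹ := by group
            rw [this]
        _ = c * (d * c⁻¹) * (x * y * x⁻¹ * y⁻¹) * d⁻¹ := by group
        _ = c * (d * c⁻¹) * (d⁻¹ * (x * y * x⁻¹ * y⁻¹)) := by
            have : d⁻¹ * (x * y * x⁻¹ * y⁻¹) = (x * y * x⁻¹ * y⁻¹) * d⁻¹ := by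
              have := hdP _ hxyP'
              calc d⁻¹ * (x * y * x⁻¹ * y⁻¹) = d⁻¹ * ((x * y * x⁻¹ * y⁻¹) * d) * d⁻¹ := by group
                _ = d⁻¹ * (d * (x * y * x⁻¹ * y⁻¹)) * d⁻¹ := by rw [this]
                _ = (x * y * x⁻¹ * y⁻¹) * d⁻¹ := by group
            rw [this]; group
        _ = (c * d) * c⁻¹ * d⁻¹ * (x * y * x⁻¹ * y⁻¹) := by group
        _ = (d * c) * c⁻¹ * d⁻¹ * (x * y * x⁻¹ * y⁻¹) := by rw [hcP d hdmem]
        _ = x * y * x⁻¹ * y⁻¹ := by group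
    show g * ((⁅(⟨x, hx⟩ : ↥P), ⟨y, hy⟩⁆ : ↥P) : G) = ((⁅(⟨x, hx⟩ : ↥P), ⟨y, hy⟩⁆ : ↥P) : G) * g
    have h2 : ((⁅(⟨x, hx⟩ : ↥P), ⟨y, hy⟩⁆ : ↥P) : G) = x * y * x⁻¹ * y⁻¹ := by
      simp [commutatorElement_def]
    rw [h2]
    calc g * (x * y * x⁻¹ * y⁻¹) = (g * (x * y * x⁻¹ * y⁻¹) * g⁻¹) * g := by group
      _ = x * y * x⁻¹ * y⁻¹ * g := by rw [h1]
  have hfr : frattini ↥P ≤ N := frattini_le_of_elementary_quotient (p := p) N hcomm hpow
  rw [Subgroup.commutator_eq_bot_iff_le_centralizer]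
  rintro _ ⟨x, hx, rfl⟩
  have := hfr hx
  rw [hN, Subgroup.mem_subgroupOf] at this
  exact this

end Cfsg.Agent.S2818
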