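import Cfsg.Statements.S2819
import Cfsg.Agent.Lib.Helper16.Frattini2
import Cfsg.Agent.Lib.Helper16.Residual

set_option autoImplicit false
open Cfsg
open scoped commutatorElement

namespace Cfsg.Agent.S2819

open Cfsg.Agent.Lib.Helper16

/-- Elements centralizing `D` and acting trivially on `F` modulo `D` form a subgroup. -/
def chainStab {G : Type*} [Group G] (F D : Subgroup G) : Subgroup G where
  carrier := {g | g ∈ Subgroup.centralizer (D : Set G) ∧ ∀ r ∈ F, ⁅r, g⁆ ∈ D}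
  one_mem' := ⟨Subgroup.one_mem _, fun r _ => by simp [commutatorElement_def]⟩
  mul_mem' := by
    rintro a b ⟨ha, ha'⟩ ⟨hb, hb'⟩
    refine ⟨Subgroup.mul_mem _ ha hb, fun r hr => ?_⟩
    have h1 : ⁅r, a * b⁆ = ⁅r, a⁆ * (a * ⁅r, b⁆ * a⁻¹) := by
      simp [commutatorElement_def, mul_assoc]
    have h2 : a * ⁅r, b⁆ * a⁻¹ = ⁅r, b⁆ := by
      have := (Subgroup.mem_centralizer_iff.mp ha) _ (hb' r hr)
      rw [← this]; group
    rw [h1, h2]
    exact D.mul_mem (ha' r hr) (hb' r hr)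
  inv_mem' := by
    rintro a ⟨ha, ha'⟩
    refine ⟨Subgroup.inv_mem _ ha, fun r hr => ?_⟩
    have h1 : ⁅r, a⁻¹⁆ = a⁻¹ * ⁅r, a⁆⁻¹ * a := by
      simp [commutatorElement_def, mul_assoc]
    have h2 : a⁻¹ * ⁅r, a⁆⁻¹ * a = ⁅r, a⁆⁻¹ := by
      have := (Subgroup.mem_centralizer_iff.mp ha) _ (D.inv_mem (ha' r hr))
      calc a⁻¹ * ⁅r, a⁆⁻¹ * a = a⁻¹ * (⁅r, a⁆⁻¹ * a) := by group
        _ = a⁻¹ * (a * ⁅r, a⁆⁻¹) := by rw [this]
        _ = ⁅r, a⁆⁻¹ := by group
    rw [h1, h2]
    exact D.inv_mem (ha' r hr)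

/-- Let P be a finite p-subgroup of a group G, H a subgroup of N_G(P), and Y a subgroup of H centralizing the derived subgroup P' such that [P, Y] is elementary abelian. Then O^p(⟨Y^H⟩), the subgroup of the normal closure of Y in H generated by its elements of order prime to p, centralizes the Frattini subgroup of P. -/
theorem result {G : Type*} [Group G] [Finite G] {p : ℕ} [Fact p.Prime] (P : Subgroup G) (hP : IsPGroup p ↥P) (H : Subgroup G) (hH : H ≤ Subgroup.normalizer (P : Set G)) (Y : Subgroup G) (hYH : Y ≤ H) (hYc : Y ≤ Subgroup.centralizer ((⁅P, P⁆ : Subgroup G) : Set G)) (hel : Cfsg.IsElementaryAbelian p ⁅P, Y⁆) (NY : Subgroup G) (hNY : NY = (Subgroup.normalClosure ((Y.subgroupOf H : Subgroup ↥H) : Set ↥H)).map H.subtype) : (Cfsg.pResidual p ↥NY).map NY.subtype ≤ Subgroup.centralizer (((frattini ↥P).map P.subtype : Subgroup G) : Set G) := by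
  set F : Subgroup G := (frattini ↥P).map P.subtype with hF
  set D : Subgroup G := ⁅P, P⁆ with hD
  have hFP : F ≤ P := Subgroup.map_subtype_le _
  have hDP : D ≤ P := Subgroup.commutator_le_self P
  -- N_G(P) normalizes D
  have hND : ∀ h ∈ Subgroup.normalizer (P : Set G), ∀ d ∈ D, h * d * h⁻¹ ∈ D := by
    intro h hh d hd
    have hmap : D.map (MulAut.conj h).toMonoidHom ≤ D := by
      rw [hD, Subgroup.map_commutator]
      have hPP : P.map (MulAut.conj h).toMonoidHom ≤ P := by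
        rintro _ ⟨x, hx, rfl⟩
        exact (Subgroup.mem_normalizer_iff.mp hh x).mp hx
      exact Subgroup.commutator_mono hPP hPP
    apply hmap
    exact ⟨d, hd, by simp [MulAut.conj_apply]⟩
  have hNF : ∀ h ∈ Subgroup.normalizer (P : Set G), ∀ r ∈ F, h * r * h⁻¹ ∈ F :=
    fun h hh r hr => conj_mem_map_frattini P h hh r hr
  -- Y ≤ chainStab F D
  have hYS : Y ≤ chainStab F D := by
    intro y hy
    refine ⟨hYc hy, ?_⟩
    have hyN : y ∈ Subgroup.normalizer (P : Set G) := hH (hYH hy)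
    -- the subgroup of P of elements x with [x, y] ∈ D
    let N : Subgroup ↥P :=
      { carrier := {x | ⁅(x : G), y⁆ ∈ D}
        one_mem' := by simp [commutatorElement_def]
        mul_mem' := by
          rintro a b ha hb
          have h1 : ⁅((a * b : ↥P) : G), y⁆ = (a : G) * ⁅(b : G), y⁆ * (a : G)⁻¹ * ⁅(a : G), y⁆ := by
            simp [commutatorElement_def, mul_assoc]
          show ⁅((a * b : ↥P) : G), y⁆ ∈ D
          rw [h1]
          exact D.mul_mem (hND _ (Subgroup.le_normalizer a.2) _ hb) ha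
        inv_mem' := by
          rintro a ha
          have h1 : ⁅((a⁻¹ : ↥P) : G), y⁆ = (a : G)⁻¹ * ⁅(a : G), y⁆⁻¹ * (a : G)⁻¹⁻¹ := by
            simp [commutatorElement_def, mul_assoc]
          show ⁅((a⁻¹ : ↥P) : G), y⁆ ∈ D
          rw [h1]
          exact hND _ (Subgroup.inv_mem _ (Subgroup.le_normalizer a.2)) _ (D.inv_mem ha) }
    have hfr : frattini ↥P ≤ N := by
      apply frattini_le_of_forall (p := p) N
      · intro a b
        show ⁅((⁅a, b⁆ : ↥P) : G), y⁆ ∈ D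
        have hab : ((⁅a, b⁆ : ↥P) : G) ∈ D := by
          have : ((⁅a, b⁆ : ↥P) : G) = ⁅(a : G), (b : G)⁆ := by simp [commutatorElement_def]
          rw [this]
          exact Subgroup.commutator_mem_commutator a.2 b.2
        have := (Subgroup.mem_centralizer_iff.mp (hYc hy)) _ hab
        have h1 : ⁅((⁅a, b⁆ : ↥P) : G), y⁆ = 1 := by
          rw [commutatorElement_eq_one_iff_mul_comm]; exact this
        rw [h1]; exact D.one_mem
      · intro x
        show ⁅((x ^ p : ↥P) : G), y⁆ ∈ D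
        -- a = [x, y] ∈ [P, Y], a ^ p = 1, y x y⁻¹ = a⁻¹ x
        set a : G := ⁅(x : G), y⁆ with ha
        have haA : a ∈ ⁅P, Y⁆ := Subgroup.commutator_mem_commutator x.2 hy
        have hap : a ^ p = 1 := hel.2 a haA
        have haP : a ∈ P := by
          have : a = (x : G) * (y * (x : G)⁻¹ * y⁻¹) := by simp [ha, commutatorElement_def, mul_assoc]
          rw [this]
          exact P.mul_mem x.2 ((Subgroup.mem_normalizer_iff.mp hyN _).mp (P.inv_mem x.2))
        have hconj : y * (x : G) * y⁻¹ = a⁻¹ * (x : G) := by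
          simp [ha, commutatorElement_def, mul_assoc]
        -- in P: (a⁻¹ x)^p (a⁻ᵖ x^p)⁻¹ ∈ commutator P
        have hmem := mul_pow_mul_inv_mem_commutator (⟨a, haP⟩⁻¹ : ↥P) x p
        have hmem' : ((((⟨a, haP⟩⁻¹ : ↥P) * x) ^ p * ((⟨a, haP⟩⁻¹ : ↥P) ^ p * x ^ p)⁻¹ : ↥P) : G) ∈ D := by
          have := Subgroup.mem_map_of_mem P.subtype hmem
          rw [Subgroup.map_subtype_commutator] at this
          exact this
        have hval : ((((⟨a, haP⟩⁻¹ : ↥P) * x) ^ p * ((⟨a, haP⟩⁻¹ : ↥P) ^ p * x ^ p)⁻¹ : ↥P) : G)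
            = (a⁻¹ * (x : G)) ^ p * ((x : G) ^ p)⁻¹ := by
          simp [hap]
        rw [hval] at hmem'
        have hfinal : ⁅((x ^ p : ↥P) : G), y⁆ = ((a⁻¹ * (x : G)) ^ p * ((x : G) ^ p)⁻¹)⁻¹ := by
          have h2 : y * ((x : G) ^ p)⁻¹ * y⁻¹ = ((a⁻¹ * (x : G)) ^ p)⁻¹ := by
            rw [← hconj, conj_pow]; group
          simp only [SubgroupClass.coe_pow, commutatorElement_def]
          calc (x : G) ^ p * y * ((x : G) ^ p)⁻¹ * y⁻¹
              = (x : G) ^ p * (y * ((x : G) ^ p)⁻¹ * y⁻¹) := by group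
            _ = (x : G) ^ p * ((a⁻¹ * (x : G)) ^ p)⁻¹ := by rw [h2]
            _ = ((a⁻¹ * (x : G)) ^ p * ((x : G) ^ p)⁻¹)⁻¹ := by group
        rw [hfinal]
        exact D.inv_mem hmem'
    rintro _ ⟨x, hx, rfl⟩
    exact hfr hx
  -- chainStab is normalized by H, so contains NY
  have hHS : ∀ h ∈ H, ∀ g ∈ chainStab F D, h * g * h⁻¹ ∈ chainStab F D := by
    rintro h hh g ⟨hg, hg'⟩
    have hhN := hH hh
    have hhN' : h⁻¹ ∈ Subgroup.normalizer (P : Set G) := Subgroup.inv_mem _ hhN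
    refine ⟨?_, ?_⟩
    · rw [Subgroup.mem_centralizer_iff]
      intro d hd
      have hd' : h⁻¹ * d * h⁻¹⁻¹ ∈ D := hND h⁻¹ hhN' d hd
      have := (Subgroup.mem_centralizer_iff.mp hg) _ hd'
      calc d * (h * g * h⁻¹) = h * ((h⁻¹ * d * h⁻¹⁻¹) * g) * h⁻¹ := by group
        _ = h * (g * (h⁻¹ * d * h⁻¹⁻¹)) * h⁻¹ := by rw [this]
        _ = h * g * h⁻¹ * d := by group
    · intro r hr
      have hr' : h⁻¹ * r * h⁻¹⁻¹ ∈ F := hNF h⁻¹ hhN' r hr
      have h1 : ⁅r, h * g * h⁻¹⁆ = h * ⁅h⁻¹ * r * h⁻¹⁻¹, g⁆ * h⁻¹ := by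
        simp [commutatorElement_def, mul_assoc]
      rw [h1]
      exact hND h hhN _ (hg' _ hr')
  have hNYS : NY ≤ chainStab F D := by
    rw [hNY]
    -- the comap of chainStab to H is normal and contains Y
    have hn : ((chainStab F D).subgroupOf H).Normal := by
      refine ⟨fun g hg h => ?_⟩
      have := hHS h h.2 g hg
      simpa [Subgroup.mem_subgroupOf] using this
    have hle : Subgroup.normalClosure ((Y.subgroupOf H : Subgroup ↥H) : Set ↥H) ≤
        (chainStab F D).subgroupOf H := by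
      apply Subgroup.normalClosure_le_normal
      intro y hy
      exact hYS hy
    rintro _ ⟨x, hx, rfl⟩
    exact hle hx
  -- p'-elements of NY centralize F
  rw [map_pResidual_eq_opUp, opUp_le_iff]
  intro g hg hcop
  obtain ⟨hgD, hgF⟩ := hNYS hg
  rw [Subgroup.mem_centralizer_iff]
  intro r hr
  have hz : ⁅r, g⁆ ∈ D := hgF r hr
  have hzg : ⁅r, g⁆ * g = g * ⁅r, g⁆ := (Subgroup.mem_centralizer_iff.mp hgD) _ hz
  obtain ⟨k, hk⟩ := exists_pow_eq_one_of_mem hP (hDP hz)
  exact commute_of_coprime_commutator r g hzg k hk hcop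

end Cfsg.Agent.S2819
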