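import Cfsg.Statements.S2823
import Cfsg.Agent.Lib.Helper16.Averaging
import Cfsg.Agent.Lib.Helper16.PReducedMeet
import Cfsg.Agent.Lib.Helper24.SylowTools
import Cfsg.Agent.S2821

set_option autoImplicit false
open Cfsg
open Cfsg.Agent.Lib.Helper16
open scoped commutatorElement Pointwise

namespace Cfsg.Agent.S2823

/-- `Ω₁(Z(S))` in the ambient group, for a Sylow subgroup `S` of `L`. -/
def zOf {H : Type*} [Group H] {p : ℕ} (L : Subgroup H) (S : Sylow p ↥L) : Subgroup H :=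
  Cfsg.omegaOne p (((S : Subgroup ↥L).map L.subtype) ⊓
    Subgroup.centralizer (((S : Subgroup ↥L).map L.subtype : Subgroup H) : Set H))

theorem zOf_map_conj_le {H : Type*} [Group H] [Finite H] {p : ℕ} [Fact p.Prime] (L : Subgroup H)
    (S : Sylow p ↥L) (l : ↥L) :
    (zOf L S).map (MulAut.conj (l : H)).toMonoidHom ≤ zOf L (l • S) := by
  unfold zOf Cfsg.omegaOne
  rw [MonoidHom.map_closure, Subgroup.closure_le]
  rintro _ ⟨x, ⟨hx, hxp⟩, rfl⟩
  apply Subgroup.subset_closure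
  obtain ⟨hxS, hxC⟩ := Subgroup.mem_inf.mp hx
  obtain ⟨s, hs, rfl⟩ := hxS
  refine ⟨Subgroup.mem_inf.mpr ⟨?_, ?_⟩, ?_⟩
  · refine ⟨l * s * l⁻¹, Cfsg.Agent.Lib.Helper24.conj_mem_smul_sylow S l s hs, ?_⟩
    simp [MulAut.conj_apply]
  · rw [Subgroup.mem_centralizer_iff]
    rintro _ ⟨t, ht, rfl⟩
    have ht' : l⁻¹ * t * l ∈ (S : Subgroup ↥L) :=
      (Cfsg.Agent.Lib.Helper24.mem_smul_sylow_iff S l t).mp ht
    have h1 := Subgroup.mem_centralizer_iff.mp hxC _ ⟨l⁻¹ * t * l, ht', rfl⟩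
    show L.subtype t * (MulAut.conj (l : H)) (L.subtype s) =
      (MulAut.conj (l : H)) (L.subtype s) * L.subtype t
    rw [MulAut.conj_apply]
    simp only [Subgroup.subtype_apply, Subgroup.coe_mul, Subgroup.coe_inv] at h1 ⊢
    calc (t : H) * ((l : H) * (s : H) * (l : H)⁻¹)
        = (l : H) * (((l : H)⁻¹ * (t : H) * (l : H)) * (s : H)) * (l : H)⁻¹ := by group
      _ = (l : H) * ((s : H) * ((l : H)⁻¹ * (t : H) * (l : H))) * (l : H)⁻¹ := by rw [h1]
      _ = (l : H) * (s : H) * (l : H)⁻¹ * (t : H) := by group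
  · show ((MulAut.conj (l : H)) (L.subtype s)) ^ p = 1
    rw [← map_pow]
    have : (L.subtype s) ^ p = 1 := hxp
    rw [this, map_one]

theorem le_normalizer_sylowCenterClosure {H : Type*} [Group H] [Finite H] {p : ℕ}
    [Fact p.Prime] (L : Subgroup H) :
    L ≤ Subgroup.normalizer ((Cfsg.sylowCenterClosure p L : Subgroup H) : Set H) := by
  have key : ∀ l : ↥L, (Cfsg.sylowCenterClosure p L).map (MulAut.conj (l : H)).toMonoidHom ≤
      Cfsg.sylowCenterClosure p L := by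
    intro l
    unfold Cfsg.sylowCenterClosure
    rw [Subgroup.map_iSup]
    apply iSup_le
    intro S
    exact (zOf_map_conj_le L S l).trans (le_iSup (fun S : Sylow p ↥L => zOf L S) (l • S))
  intro l hl
  exact mem_normalizer_of_map_conj_le _ l (key ⟨l, hl⟩) (key ⟨l, hl⟩⁻¹)

/-- Let H be a finite group, p a prime, T a Sylow p-subgroup and L a subgroup of characteristic p containing T; let Z_L be the subgroup generated by the Ω₁(Z(S)) over the Sylow p-subgroups S of L and O^p(L) the subgroup generated by the elements of L of order prime to p. Then Z_L = Ω₁(Z(L))·[Z_L, O^p(L)] and [Z_L, L] = [Z_L, O^p(L)]. -/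
theorem result {H : Type*} [Group H] [Finite H] {p : ℕ} [Fact p.Prime] (T : Sylow p H) (L : Subgroup H) (hTL : (T : Subgroup H) ≤ L) (hL : Subgroup.centralizer (Cfsg.pCore p ↥L : Set ↥L) ≤ Cfsg.pCore p ↥L) : Cfsg.sylowCenterClosure p L = (Cfsg.omegaOne p (L ⊓ Subgroup.centralizer ((L : Subgroup H) : Set H))) ⊔ ⁅Cfsg.sylowCenterClosure p L, (Cfsg.pResidual p ↥L).map L.subtype⁆ ∧ ⁅Cfsg.sylowCenterClosure p L, L⁆ = ⁅Cfsg.sylowCenterClosure p L, (Cfsg.pResidual p ↥L).map L.subtype⁆ := by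
  set ZL := Cfsg.sylowCenterClosure p L with hZL
  set R' := Cfsg.pResidual p ↥L with hR'
  set R := R'.map L.subtype with hR
  set Om := Cfsg.omegaOne p (L ⊓ Subgroup.centralizer ((L : Subgroup H) : Set H)) with hOm
  have hR'n : R'.Normal := pResidual_normal p
  obtain ⟨-, -, -, h4, h5, -⟩ := Cfsg.Agent.S2821.result T L hTL hL _ rfl
  have hZLY : ZL ≤ Cfsg.largestPReducedOf p L := h5
  have hZLL : ZL ≤ L := hZLY.trans (largestPReducedOf_le p L)
  have hZLE : Cfsg.IsElementaryAbelian p ZL :=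
    isElementaryAbelian_of_le hZLY (largestPReducedOf_isElementaryAbelian p L)
  have hLZL : L ≤ Subgroup.normalizer (ZL : Set H) := le_normalizer_sylowCenterClosure L
  have hRL : R ≤ L := Subgroup.map_subtype_le _
  have hLR : L ≤ Subgroup.normalizer (R : Set H) := le_normalizer_map_subtype_of_normal L R' hR'n
  have hBZ : ⁅ZL, R⁆ ≤ ZL := commutator_le_of_le_normalizer' ZL R (hRL.trans hLZL)
  have hLB : L ≤ Subgroup.normalizer ((⁅ZL, R⁆ : Subgroup H) : Set H) :=
    (le_inf hLZL hLR).trans (inf_normalizer_le_normalizer_commutator ZL R)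
  have hOmle : Om ≤ L ⊓ Subgroup.centralizer ((L : Subgroup H) : Set H) := by
    rw [hOm]; unfold Cfsg.omegaOne
    rw [Subgroup.closure_le]
    rintro x ⟨hx, -⟩; exact hx
  -- Ω₁(Z(L)) ≤ Z_L
  have hOmZ : Om ≤ ZL := by
    refine le_trans ?_ h4
    rw [hOm]; unfold Cfsg.omegaOne
    rw [Subgroup.closure_le]
    rintro z ⟨hz, hzp⟩
    apply Subgroup.subset_closure
    obtain ⟨hzL, hzC⟩ := Subgroup.mem_inf.mp hz
    refine ⟨Subgroup.mem_inf.mpr ⟨?_, Subgroup.centralizer_le hTL hzC⟩, hzp⟩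
    have h1 : (⟨z, hzL⟩ : ↥L) ∈ Subgroup.centralizer (Cfsg.pCore p ↥L : Set ↥L) := by
      rw [Subgroup.mem_centralizer_iff]
      intro y _
      apply Subtype.ext
      exact Subgroup.mem_centralizer_iff.mp hzC (y : H) y.2
    have h2 : z ∈ opDown p L := by
      rw [← map_pCore_eq_opDown]; exact ⟨⟨z, hzL⟩, hL h1, rfl⟩
    exact opDown_le_sylow T L hTL h2
  have part1 : ZL = Om ⊔ ⁅ZL, R⁆ := by
    apply le_antisymm _ (sup_le hOmZ hBZ)
    rw [hZL]; unfold Cfsg.sylowCenterClosure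
    apply iSup_le
    intro S
    have hfS : zOf L S ≤ ZL := le_iSup (fun S : Sylow p ↥L => zOf L S) S
    show zOf L S ≤ _
    have hfS' := hfS
    unfold zOf Cfsg.omegaOne at hfS ⊢
    rw [Subgroup.closure_le]
    rintro x ⟨hx, hxp⟩
    have hxZL : x ∈ ZL := hfS (Subgroup.subset_closure ⟨hx, hxp⟩)
    obtain ⟨hxS, hxC⟩ := Subgroup.mem_inf.mp hx
    have hxL : x ∈ L := hZLL hxZL
    have hVn : (ZL.subgroupOf L).Normal :=
      (Subgroup.normal_subgroupOf_iff_le_normalizer hZLL).mpr hLZL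
    have hVE : Cfsg.IsElementaryAbelian p (ZL.subgroupOf L) :=
      (isElementaryAbelian_subgroupOf_iff p L ZL hZLL).mpr hZLE
    have hRS : R' ⊔ (S : Subgroup ↥L) = ⊤ := pResidual_sup_sylow p S
    have hxcent : (⟨x, hxL⟩ : ↥L) ∈ Subgroup.centralizer ((S : Subgroup ↥L) : Set ↥L) := by
      rw [Subgroup.mem_centralizer_iff]
      intro s hs
      apply Subtype.ext
      exact Subgroup.mem_centralizer_iff.mp hxC (s : H) ⟨s, hs, rfl⟩
    obtain ⟨a, w, haV, hac, hwW, -, hxaw⟩ :=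
      exists_center_mul_commutator S (ZL.subgroupOf L) hVE R' hRS ⟨x, hxL⟩ hxZL hxcent
    have hx' : x = (a : H) * (w : H) := congrArg Subtype.val hxaw
    rw [SetLike.mem_coe, hx']
    apply Subgroup.mul_mem_sup
    · apply Subgroup.subset_closure
      refine ⟨Subgroup.mem_inf.mpr ⟨a.2, ?_⟩, ?_⟩
      · rw [Subgroup.mem_centralizer_iff]
        intro l hl
        have := Subgroup.mem_center_iff.mp hac ⟨l, hl⟩
        exact congrArg Subtype.val this
      · have := hVE.2 a haV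
        exact congrArg Subtype.val this
    · have h1 : (w : H) ∈ (⁅ZL.subgroupOf L, R'⁆).map L.subtype := ⟨w, hwW, rfl⟩
      rw [Subgroup.map_commutator, Subgroup.map_subgroupOf_eq_of_le hZLL] at h1
      exact h1
  refine ⟨part1, ?_⟩
  apply le_antisymm _ (Subgroup.commutator_mono le_rfl hRL)
  rw [Subgroup.commutator_le]
  intro z hz l hl
  rw [part1] at hz
  have hz' : z ∈ ((Om ⊔ ⁅ZL, R⁆ : Subgroup H) : Set H) := hz
  have hBN : ⁅ZL, R⁆ ≤ Subgroup.normalizer (Om : Set H) := by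
    intro b hb
    have hbL : b ∈ L := hZLL (hBZ hb)
    rw [Subgroup.mem_normalizer_iff]
    intro y
    constructor
    · intro hy
      have hyc := (Subgroup.mem_inf.mp (hOmle hy)).2
      have : b * y = y * b := Subgroup.mem_centralizer_iff.mp hyc b hbL
      rw [this, mul_inv_cancel_right]; exact hy
    · intro hy
      have hyc := (Subgroup.mem_inf.mp (hOmle hy)).2
      have h1 : b⁻¹ * (b * y * b⁻¹) = (b * y * b⁻¹) * b⁻¹ :=
        Subgroup.mem_centralizer_iff.mp hyc b⁻¹ (L.inv_mem hbL)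
      have h2 : y = b * y * b⁻¹ := by
        calc y = b⁻¹ * (b * y * b⁻¹) * b := by group
          _ = (b * y * b⁻¹) * b⁻¹ * b := by rw [h1]
          _ = b * y * b⁻¹ := by group
      rw [h2]; exact hy
  rw [Subgroup.coe_mul_of_right_le_normalizer_left Om _ hBN] at hz'
  obtain ⟨a, ha, b, hb, rfl⟩ := hz'
  have ha' : a ∈ Om := ha
  have hb' : b ∈ ⁅ZL, R⁆ := hb
  have hac := (Subgroup.mem_inf.mp (hOmle ha')).2
  have hal : l * a = a * l := Subgroup.mem_centralizer_iff.mp hac l hl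
  have e : ⁅a * b, l⁆ = a * ⁅b, l⁆ * a⁻¹ := by
    have h1 : l⁻¹ * a⁻¹ = a⁻¹ * l⁻¹ := by
      have := congrArg Inv.inv hal
      simpa [mul_inv_rev] using this.symm
    simp only [commutatorElement_def, mul_inv_rev]
    calc a * b * l * (b⁻¹ * a⁻¹) * l⁻¹ = a * b * l * b⁻¹ * (a⁻¹ * l⁻¹) := by group
      _ = a * b * l * b⁻¹ * (l⁻¹ * a⁻¹) := by rw [h1]
      _ = a * (b * l * b⁻¹ * l⁻¹) * a⁻¹ := by group
  have hbl : ⁅b, l⁆ ∈ ⁅ZL, R⁆ := by
    rw [commutatorElement_def]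
    have h1 : l * b⁻¹ * l⁻¹ ∈ ⁅ZL, R⁆ :=
      (Subgroup.mem_normalizer_iff.mp (hLB hl) _).mp (Subgroup.inv_mem _ hb')
    have : b * l * b⁻¹ * l⁻¹ = b * (l * b⁻¹ * l⁻¹) := by group
    rw [this]
    exact Subgroup.mul_mem _ hb' h1
  have hblL : ⁅b, l⁆ ∈ L := hZLL (hBZ hbl)
  have h3 : ⁅b, l⁆ * a = a * ⁅b, l⁆ := Subgroup.mem_centralizer_iff.mp hac _ hblL
  rw [e, ← h3, mul_inv_cancel_right]
  exact hbl

end Cfsg.Agent.S2823
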