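import Cfsg.Statements.S2825
import Cfsg.Agent.Lib.Helper16.PReducedMeet

set_option autoImplicit false
open Cfsg
open Cfsg.Agent.Lib.Helper16
open scoped commutatorElement Pointwise

namespace Cfsg.Agent.S2825

/-- Let L be a subnormal subgroup of the finite group H, p a prime, Y_H and Y_L the largest p-reduced normal subgroups. Then Y_H ∩ L = Y_H ∩ Y_L and this subgroup is a p-reduced normal subgroup of L; C_L(Y_L) = C_L(Y_H) = C_L(Y_H ∩ L); and if O^p(H) ≤ L, then [Y_L, L] = 1 if and only if [Y_H, H] = 1. -/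
theorem result {H : Type*} [Group H] [Finite H] {p : ℕ} [Fact p.Prime] (L : Subgroup H) (hL : L.IsSubnormal) : Cfsg.largestPReduced p H ⊓ L = Cfsg.largestPReduced p H ⊓ (Cfsg.largestPReducedOf p L) ∧ Cfsg.IsPReducedNormal p ((Cfsg.largestPReduced p H ⊓ L).subgroupOf L) ∧ L ⊓ Subgroup.centralizer ((Cfsg.largestPReducedOf p L : Subgroup H) : Set H) = L ⊓ Subgroup.centralizer (Cfsg.largestPReduced p H : Set H) ∧ L ⊓ Subgroup.centralizer (Cfsg.largestPReduced p H : Set H) = L ⊓ Subgroup.centralizer ((Cfsg.largestPReduced p H ⊓ L : Subgroup H) : Set H) ∧ (Cfsg.pResidual p H ≤ L → (⁅(Cfsg.largestPReducedOf p L), L⁆ = ⊥ ↔ ⁅Cfsg.largestPReduced p H, (⊤ : Subgroup H)⁆ = ⊥)) := by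
  have h1 := largestPReduced_inf_eq (p := p) L hL
  have h2 := largestPReduced_inf_isPReducedNormal (p := p) L hL
  have h4 := inf_centralizer_largestPReduced_eq (p := p) L hL
  have h3 : L ⊓ Subgroup.centralizer ((Cfsg.largestPReducedOf p L : Subgroup H) : Set H) =
      L ⊓ Subgroup.centralizer (Cfsg.largestPReduced p H : Set H) := by
    apply le_antisymm
    · rw [h4, h1]
      exact inf_le_inf_left _ (Subgroup.centralizer_le inf_le_right)
    · exact le_inf inf_le_left (inf_centralizer_largestPReduced_le L hL)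
  refine ⟨h1, h2, h3, h4, ?_⟩
  intro hRL
  have hY : Cfsg.IsPReducedNormal p (Cfsg.largestPReduced p H) :=
    largestPReduced_isPReducedNormal p
  rw [Subgroup.commutator_eq_bot_iff_le_centralizer, Subgroup.commutator_eq_bot_iff_le_centralizer,
    Subgroup.le_centralizer_iff, Subgroup.le_centralizer_iff (H := Cfsg.largestPReduced p H)]
  constructor
  · intro h
    have hLC : L ≤ Subgroup.centralizer (Cfsg.largestPReduced p H : Set H) := by
      have : L ≤ L ⊓ Subgroup.centralizer ((Cfsg.largestPReducedOf p L : Subgroup H) : Set H) :=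
        le_inf le_rfl h
      rw [h3] at this
      exact this.trans inf_le_right
    obtain ⟨hYn, hYE, hYN⟩ := (isPReducedNormal_iff p _).mp hY
    apply hYN ⊤ inferInstance le_top
    intro x _
    obtain ⟨k, hk⟩ := exists_pow_mem_pResidual p x
    exact ⟨k, hLC (hRL hk)⟩
  · intro h
    have : L ≤ L ⊓ Subgroup.centralizer (Cfsg.largestPReduced p H : Set H) :=
      le_inf le_rfl (le_top.trans h)
    rw [← h3] at this
    exact this.trans inf_le_right

end Cfsg.Agent.S2825
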