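import Cfsg.Statements.S2826
import Cfsg.Agent.Lib.Helper16.Averaging

set_option autoImplicit false
open Cfsg
open Cfsg.Agent.Lib.Helper16
open scoped commutatorElement Pointwise

namespace Cfsg.Agent.S2826

/-- Let H be a finite group of characteristic p, T a Sylow p-subgroup, and V a normal elementary abelian p-subgroup of H containing Ω₁(Z(T)). Then C_H(Ω₁(Z(T))) = C_H([V, O^p(H)] ∩ Ω₁(Z(T))), O^p(H) being generated by the elements of order prime to p. -/
theorem result {H : Type*} [Group H] [Finite H] {p : ℕ} [Fact p.Prime] (hH : Subgroup.centralizer (Cfsg.pCore p H : Set H) ≤ Cfsg.pCore p H) (T : Sylow p H) (V : Subgroup H) [V.Normal] (hV : Cfsg.IsElementaryAbelian p V) (hZV : (Cfsg.omegaOne p ((T : Subgroup H) ⊓ Subgroup.centralizer (((T : Subgroup H) : Subgroup H) : Set H))) ≤ V) : Subgroup.centralizer ((Cfsg.omegaOne p ((T : Subgroup H) ⊓ Subgroup.centralizer (((T : Subgroup H) : Subgroup H) : Set H))) : Set H) = Subgroup.centralizer (((⁅V, Cfsg.pResidual p H⁆ ⊓ (Cfsg.omegaOne p ((T : Subgroup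 H) ⊓ Subgroup.centralizer (((T : Subgroup H) : Subgroup H) : Set H)))) : Subgroup H) : Set H) := by
  set Z := Cfsg.omegaOne p ((T : Subgroup H) ⊓
    Subgroup.centralizer (((T : Subgroup H) : Subgroup H) : Set H)) with hZ
  set R := Cfsg.pResidual p H with hR
  have : R.Normal := pResidual_normal p
  have hRT : R ⊔ (T : Subgroup H) = ⊤ := pResidual_sup_sylow p T
  have hVT : V ≤ (T : Subgroup H) :=
    normal_pgroup_le_sylow inferInstance (isElementaryAbelian_isPGroup hV) T
  apply le_antisymm
  · exact Subgroup.centralizer_le inf_le_right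
  · intro d hd
    have key : Z ≤ Subgroup.centralizer ({d} : Set H) := by
      rw [hZ]
      unfold Cfsg.omegaOne
      rw [Subgroup.closure_le]
      rintro x ⟨hxT, hxp⟩
      have hxZ : x ∈ Z := Subgroup.subset_closure ⟨hxT, hxp⟩
      have hxV : x ∈ V := hZV hxZ
      obtain ⟨a, w, haV, hac, hwW, hwT, rfl⟩ :=
        exists_center_mul_commutator T V hV R hRT x hxV (Subgroup.mem_inf.mp hxT).2
      have hwV : w ∈ V := Subgroup.commutator_le_left V R hwW
      have hwZ : w ∈ Z :=
        Subgroup.subset_closure ⟨Subgroup.mem_inf.mpr ⟨hVT hwV, hwT⟩, hV.2 w hwV⟩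
      have h1 : w * d = d * w :=
        Subgroup.mem_centralizer_iff.mp hd w (Subgroup.mem_inf.mpr ⟨hwW, hwZ⟩)
      rw [SetLike.mem_coe, Subgroup.mem_centralizer_iff]
      intro h hh
      rw [Set.mem_singleton_iff.mp hh]
      have h2 : d * a = a * d := Subgroup.mem_center_iff.mp hac d
      rw [← mul_assoc, h2, mul_assoc, ← h1, mul_assoc]
    rw [Subgroup.mem_centralizer_iff]
    intro z hz
    exact (Subgroup.mem_centralizer_iff.mp (key hz) d rfl).symm

end Cfsg.Agent.S2826
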