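import Cfsg.Statements.S2827
import Mathlib
import Cfsg.Agent.Lib.Helper3.PIrred
import Cfsg.Agent.Lib.Helper13.Coprime
-- import your own Cfsg.Agent.* helpers here

set_option autoImplicit false
open Cfsg

namespace Cfsg.Agent.S2827

/-- Let H be a finite p-irreducible group (not p-closed, and O^p(H) lies in every normal subgroup that is not p-closed) and T a Sylow p-subgroup. Then H is generated by the conjugates of T and H = H'·T; O^p(H) ≤ H'; and for every normal subgroup Y of T not contained in O_p(H), O^p(H) = [O^p(H), Y] and O^p(H) is contained in the normal closure of Y in H. -/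
theorem result {H : Type*} [Group H] [Finite H] {p : ℕ} [Fact p.Prime] (hH : Cfsg.IsPIrreducible p H) (T : Sylow p H) : Subgroup.normalClosure ((T : Subgroup H) : Set H) = ⊤ ∧ commutator H ⊔ (T : Subgroup H) = ⊤ ∧ Cfsg.pResidual p H ≤ commutator H ∧ ∀ Y : Subgroup H, Y ≤ (T : Subgroup H) → (T : Subgroup H) ≤ Subgroup.normalizer (Y : Set H) → ¬ Y ≤ Cfsg.pCore p H → ⁅Cfsg.pResidual p H, Y⁆ = Cfsg.pResidual p H ∧ Cfsg.pResidual p H ≤ Subgroup.normalClosure (Y : Set H) := by
  classical
  have hp : p.Prime := Fact.out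
  obtain ⟨hncl, hirr⟩ := hH
  set R := Cfsg.pResidual p H with hR
  have hRn : R.Normal := Cfsg.Agent.S0075.res_normal p
  have hRT : R ⊔ (T : Subgroup H) = ⊤ := Cfsg.Agent.S0075.res_sup_sylow p T
  -- (a)
  have ha : Subgroup.normalClosure ((T : Subgroup H) : Set H) = ⊤ := by
    have hTK : (T : Subgroup H) ≤ Subgroup.normalClosure ((T : Subgroup H) : Set H) :=
      Subgroup.le_normalClosure
    have hK := Cfsg.Agent.Lib.Helper3.not_isPClosed_of_le T hTK hncl
    have hRK := hirr _ Subgroup.normalClosure_normal hK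
    rw [eq_top_iff, ← hRT]
    exact sup_le hRK hTK
  -- (b)
  have hb : commutator H ⊔ (T : Subgroup H) = ⊤ := by
    have hNn : (commutator H ⊔ (T : Subgroup H)).Normal := by
      constructor
      intro n hn g
      have h1 : g * n * g⁻¹ * n⁻¹ ∈ commutator H := by
        rw [commutator_def]
        exact Subgroup.commutator_mem_commutator (Subgroup.mem_top g) (Subgroup.mem_top n)
      have h2 : g * n * g⁻¹ = (g * n * g⁻¹ * n⁻¹) * n := by group
      rw [h2]
      exact mul_mem (Subgroup.mem_sup_left h1) hn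
    have : Subgroup.normalClosure ((T : Subgroup H) : Set H) ≤ commutator H ⊔ (T : Subgroup H) := by
      haveI := hNn
      apply Subgroup.normalClosure_le_normal
      intro x hx
      exact Subgroup.mem_sup_right hx
    rw [ha] at this
    exact eq_top_iff.mpr this
  -- (c)
  have hc : R ≤ commutator H := by
    apply Cfsg.Agent.Lib.Helper3.res_le_of_sylow_sup_eq_top T inferInstance
    rw [sup_comm]; exact hb
  refine ⟨ha, hb, hc, ?_⟩
  intro Y hYT hTY hYO
  have hYp : IsPGroup p Y := T.2.to_le hYT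
  -- R ≤ normalClosure Y
  have hRL : R ≤ Subgroup.normalClosure (Y : Set H) := by
    apply hirr _ Subgroup.normalClosure_normal
    intro hcl
    exact hYO (Cfsg.Agent.Lib.Helper3.le_pCore_of_le_isPClosed hcl Subgroup.le_normalClosure hYp)
  refine ⟨?_, hRL⟩
  set C := ⁅R, Y⁆ with hC
  have hCR : C ≤ R := Subgroup.commutator_le_left R Y
  -- C is normal
  have hCn : C.Normal := by
    rw [← Subgroup.normalizer_eq_top_iff, eq_top_iff, ← hRT]
    apply sup_le
    · exact le_sup_left.trans (Cfsg.Agent.Lib.Helper13.le_normalizer_commutator R Y)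
    · intro t ht
      rw [Subgroup.mem_normalizer_iff_map_conj_eq, hC, Subgroup.map_commutator]
      have e1 : R.map (MulAut.conj t : H →* H) = R :=
        Subgroup.mem_normalizer_iff_map_conj_eq.mp
          (by rw [Subgroup.normalizer_eq_top_iff.mpr hRn]; trivial)
      have e2 : Y.map (MulAut.conj t : H →* H) = Y :=
        Subgroup.mem_normalizer_iff_map_conj_eq.mp (hTY ht)
      rw [e1, e2]
  -- normalClosure Y ≤ C ⊔ Y
  have hLCY : Subgroup.normalClosure (Y : Set H) ≤ C ⊔ Y := by
    unfold Subgroup.normalClosure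
    rw [Subgroup.closure_le]
    intro x hx
    rw [Group.mem_conjugatesOfSet_iff] at hx
    obtain ⟨y, hy, hyx⟩ := hx
    rw [isConj_iff] at hyx
    obtain ⟨h, rfl⟩ := hyx
    have hh : h ∈ R ⊔ (T : Subgroup H) := by rw [hRT]; trivial
    rw [Subgroup.mem_sup_of_normal_left] at hh
    obtain ⟨r, hr, t, ht, rfl⟩ := hh
    have hy' : t * y * t⁻¹ ∈ Y := (Subgroup.mem_normalizer_iff.mp (hTY ht) y).mp hy
    have e : r * t * y * (r * t)⁻¹ = (r * (t * y * t⁻¹) * r⁻¹ * (t * y * t⁻¹)⁻¹) * (t * y * t⁻¹) := by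
      group
    rw [e]
    apply mul_mem
    · apply Subgroup.mem_sup_left
      exact Subgroup.commutator_mem_commutator hr hy'
    · exact Subgroup.mem_sup_right hy'
  apply le_antisymm hCR
  rw [hR]
  unfold Cfsg.pResidual
  rw [Subgroup.closure_le]
  intro g hg
  have hg' : Nat.Coprime (orderOf g) p := hg
  have hgR : g ∈ R := Subgroup.subset_closure hg
  have hgCY : g ∈ C ⊔ Y := hLCY (hRL hgR)
  rw [Subgroup.mem_sup_of_normal_left] at hgCY
  obtain ⟨c, hc', y, hy, rfl⟩ := hgCY
  obtain ⟨k, hk⟩ := (IsPGroup.iff_orderOf.mp hYp) ⟨y, hy⟩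
  rw [Subgroup.orderOf_mk] at hk
  have h1 : (c * y) ^ (p ^ k) ∈ C := by
    rw [← QuotientGroup.eq_one_iff, QuotientGroup.mk_pow, QuotientGroup.mk_mul,
      (QuotientGroup.eq_one_iff c).mpr hc', one_mul, ← QuotientGroup.mk_pow, ← hk,
      pow_orderOf_eq_one]
    rfl
  have h2 : (c * y) ^ (orderOf (c * y)) ∈ C := by rw [pow_orderOf_eq_one]; exact one_mem _
  exact Cfsg.Agent.Lib.Helper3.mem_of_pow_mem_of_coprime' C (c * y) h2 h1
    (Nat.Coprime.pow_right k hg')

end Cfsg.Agent.S2827
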