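import Cfsg.Statements.S2828
import Cfsg.Agent.Lib.Helper16.PClosedQuot

set_option autoImplicit false
open Cfsg
open Cfsg.Agent.Lib.Helper16
open scoped commutatorElement Pointwise

namespace Cfsg.Agent.S2828

/-- Let H be a finite group, p a prime and D a normal p-subgroup of H. Then H is p-irreducible if and only if H/D is p-irreducible, and H is strongly p-irreducible if and only if H/D is strongly p-irreducible. -/
theorem result {H : Type*} [Group H] [Finite H] {p : ℕ} [Fact p.Prime] (D : Subgroup H) [D.Normal] (hD : IsPGroup p ↥D) : (Cfsg.IsPIrreducible p H ↔ Cfsg.IsPIrreducible p (H ⧸ D)) ∧ (Cfsg.IsStronglyPIrreducible p H ↔ Cfsg.IsStronglyPIrreducible p (H ⧸ D)) := by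
  set π := QuotientGroup.mk' D with hπ
  have hπs : Function.Surjective π := QuotientGroup.mk'_surjective D
  have hker : π.ker = D := QuotientGroup.ker_mk' D
  have hkerp : IsPGroup p π.ker := by rw [hker]; exact hD
  have hcl : Cfsg.IsPClosed p H ↔ Cfsg.IsPClosed p (H ⧸ D) :=
    isPClosed_iff_of_surjective π hπs hkerp
  have hres : (Cfsg.pResidual p H).map π = Cfsg.pResidual p (H ⧸ D) :=
    map_pResidual_of_surjective π hπs
  have hcore : (Cfsg.pCore p H).map π = Cfsg.pCore p (H ⧸ D) :=
    map_pCore_of_surjective π hπs hkerp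
  have hDcore : D ≤ Cfsg.pCore p H := le_pCore inferInstance hD
  -- pulling back an inclusion `O^p(H/D) ≤ π(N)`
  have pull : ∀ N : Subgroup H, N.Normal → Cfsg.pResidual p (H ⧸ D) ≤ N.map π →
      Cfsg.pResidual p H ≤ N := by
    intro N hN h
    have := hN
    apply pResidual_le_of_le_sup N D hD
    rw [← hres, Subgroup.map_le_iff_le_comap, Subgroup.comap_map_eq, hker, sup_comm] at h
    exact h
  refine ⟨⟨?_, ?_⟩, ⟨?_, ?_⟩⟩
  · rintro ⟨h1, h2⟩
    refine ⟨fun h => h1 (hcl.mpr h), ?_⟩
    intro Nb hNb hNbcl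
    have hN : (Nb.comap π).Normal := hNb.comap π
    have hmap : (Nb.comap π).map π = Nb := Subgroup.map_comap_eq_self_of_surjective hπs Nb
    have hNcl : ¬ Cfsg.IsPClosed p ↥(Nb.comap π) := by
      rw [isPClosed_map_iff π hkerp, hmap]; exact hNbcl
    have := Subgroup.map_mono (f := π) (h2 _ hN hNcl)
    rwa [hres, hmap] at this
  · rintro ⟨h1, h2⟩
    refine ⟨fun h => h1 (hcl.mp h), ?_⟩
    intro N hN hNcl
    apply pull N hN
    apply h2 (N.map π) (hN.map π hπs)
    rwa [← isPClosed_map_iff π hkerp]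
  · rintro ⟨h1, h2⟩
    refine ⟨fun h => h1 (hcl.mpr h), ?_⟩
    intro Nb hNb hNbc
    have hN : (Nb.comap π).Normal := hNb.comap π
    have hmap : (Nb.comap π).map π = Nb := Subgroup.map_comap_eq_self_of_surjective hπs Nb
    have hNc : ¬ ⁅Nb.comap π, (⊤ : Subgroup H)⁆ ≤ Cfsg.pCore p H := by
      intro h
      apply hNbc
      have := Subgroup.map_mono (f := π) h
      rwa [Subgroup.map_commutator, hmap, Subgroup.map_top_of_surjective π hπs, hcore] at this
    have := Subgroup.map_mono (f := π) (h2 _ hN hNc)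
    rwa [hres, hmap] at this
  · rintro ⟨h1, h2⟩
    refine ⟨fun h => h1 (hcl.mp h), ?_⟩
    intro N hN hNc
    apply pull N hN
    apply h2 (N.map π) (hN.map π hπs)
    intro h
    apply hNc
    rw [← Subgroup.map_top_of_surjective π hπs, ← Subgroup.map_commutator, ← hcore,
      Subgroup.map_le_iff_le_comap, Subgroup.comap_map_eq, hker] at h
    exact h.trans (sup_le le_rfl hDcore)

end Cfsg.Agent.S2828
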