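import Cfsg.Statements.S2829
import Mathlib
import Cfsg.Agent.Lib.Helper2.Cores
-- import your own Cfsg.Agent.* helpers here

set_option autoImplicit false
open Cfsg

namespace Cfsg.Agent.S2829

/-- Every strongly p-irreducible finite group is p-irreducible. -/
theorem result {H : Type*} [Group H] [Finite H] {p : ℕ} [Fact p.Prime] (hH : Cfsg.IsStronglyPIrreducible p H) : Cfsg.IsPIrreducible p H := by
  open scoped commutatorElement in
  refine ⟨hH.1, fun N hN hNc => hH.2 N hN ?_⟩
  intro hle
  apply hNc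
  intro P
  -- Q = O_p(H) ∩ N as a subgroup of N
  haveI : (Cfsg.pCore p H).Normal := Cfsg.Agent.Lib.Helper2.pCore_normal p
  have hQp : IsPGroup p ((Cfsg.pCore p H).subgroupOf N) :=
    (Cfsg.Agent.Lib.Helper2.pCore_isPGroup (G := H) p).comap_subtype
  haveI : ((Cfsg.pCore p H).subgroupOf N).Normal := Subgroup.Normal.subgroupOf inferInstance N
  have hQP : (Cfsg.pCore p H).subgroupOf N ≤ (P : Subgroup N) := hQp.le_sylow_of_normal P
  constructor
  intro x hx n
  have h1 : n * x * n⁻¹ * x⁻¹ ∈ (Cfsg.pCore p H).subgroupOf N := by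
    rw [Subgroup.mem_subgroupOf]
    apply hle
    have : ((n * x * n⁻¹ * x⁻¹ : N) : H) = ⁅(n : H), (x : H)⁆ := by
      rw [commutatorElement_def]; simp
    rw [this]
    exact Subgroup.commutator_mem_commutator n.2 (Subgroup.mem_top _)
  have h2 : n * x * n⁻¹ = (n * x * n⁻¹ * x⁻¹) * x := by group
  rw [h2]
  exact (P : Subgroup N).mul_mem (hQP h1) hx

end Cfsg.Agent.S2829
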