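import Cfsg.Statements.S2830
import Cfsg.Agent.Lib.Helper16.PIrredNormal

set_option autoImplicit false
open Cfsg
open Cfsg.Agent.Lib.Helper16
open scoped commutatorElement Pointwise

namespace Cfsg.Agent.S2830

/-- Let H act by conjugation on the elementary abelian p-subgroup V of a finite group G (H ≤ N(V)), with H p-irreducible and O^p(H) not centralizing V. Then C_H(V) is p-closed and C_T(V) ≤ O_p(H) for every p-subgroup T of H. If in addition O_p(H) centralizes V, then C_T(V) = T ∩ O_p(H) for every p-subgroup T of H, and V is p-reduced for H: O_p(H/C_H(V)) = 1. -/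
theorem result {G : Type*} [Group G] [Finite G] {p : ℕ} [Fact p.Prime] (V H : Subgroup G) (hV : Cfsg.IsElementaryAbelian p V) (hHV : H ≤ Subgroup.normalizer (V : Set G)) (hH : Cfsg.IsPIrreducible p ↥H) (hnc : ¬ (Cfsg.pResidual p ↥H).map H.subtype ≤ Subgroup.centralizer (V : Set G)) [hn : ((Subgroup.centralizer (V : Set G)).subgroupOf H).Normal] : Cfsg.IsPClosed p ↥(H ⊓ Subgroup.centralizer (V : Set G)) ∧ (∀ T : Subgroup G, T ≤ H → IsPGroup p ↥T → T ⊓ Subgroup.centralizer (V : Set G) ≤ Cfsg.pCoreOf p H) ∧ (Cfsg.pCoreOf p H ≤ Subgroup.centralizer (V : Set G) → (∀ T : Subgroup G, T ≤ H → IsPGroup p ↥T → T ⊓ Subgroup.centralizer (V : Set G) = T ⊓ Cfsg.pCoreOf p H) ∧ Cfsg.pCore p (↥H ⧸ (Subgroup.centralizer (V : Set G)).subgroupOf H) = ⊥) := by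
  set N : Subgroup ↥H := (Subgroup.centralizer (V : Set G)).subgroupOf H with hN
  have hres : ¬ Cfsg.pResidual p ↥H ≤ N := by
    intro h
    apply hnc
    refine (Subgroup.map_mono h).trans ?_
    rw [hN, Subgroup.subgroupOf_map_subtype]; exact inf_le_left
  have hcl : Cfsg.IsPClosed p ↥N := isPClosed_of_isPIrreducible hH N hres
  have hb : ∀ T : Subgroup G, T ≤ H → IsPGroup p ↥T →
      T ⊓ Subgroup.centralizer (V : Set G) ≤ Cfsg.pCoreOf p H := by
    intro T hTH hT
    have hYp : IsPGroup p ((T ⊓ Subgroup.centralizer (V : Set G)).subgroupOf H) :=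
      (hT.to_le inf_le_left).comap_subtype
    have hYN : (T ⊓ Subgroup.centralizer (V : Set G)).subgroupOf H ≤ N :=
      fun x hx => (Subgroup.mem_inf.mp (show (x : G) ∈ T ⊓ Subgroup.centralizer (V : Set G) from hx)).2
    have := Cfsg.Agent.Lib.Helper3.le_pCore_of_le_isPClosed hcl hYN hYp
    have h2 := Subgroup.map_mono (f := H.subtype) this
    rwa [Subgroup.map_subgroupOf_eq_of_le (inf_le_left.trans hTH)] at h2
  refine ⟨?_, hb, ?_⟩
  · have e1 : N = (H ⊓ Subgroup.centralizer (V : Set G)).subgroupOf H :=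
      (Subgroup.inf_subgroupOf_left _ _).symm
    exact isPClosed_of_equiv
      ((MulEquiv.subgroupCongr e1).trans (Subgroup.subgroupOfEquivOfLe inf_le_left)) hcl
  · intro hcore
    refine ⟨fun T hTH hT =>
      le_antisymm (le_inf inf_le_left (hb T hTH hT)) (inf_le_inf_left _ hcore), ?_⟩
    apply pCore_quot_eq_bot_of_isPIrreducible hH N hres
    intro x hx
    rw [hN, Subgroup.mem_subgroupOf]
    exact hcore ⟨x, hx, rfl⟩

end Cfsg.Agent.S2830
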