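import Cfsg.Statements.S2831
import Mathlib
import Cfsg.Agent.Lib.Helper16.SylowNormal
-- import your own Cfsg.Agent.* helpers here

set_option autoImplicit false
open Cfsg

namespace Cfsg.Agent.S2831

/-- Let H be a finite group with Sylow p-subgroup T such that H is T-minimal (H is generated by the conjugates of T and T lies in exactly one maximal subgroup of H). Then H is p-irreducible: H is not p-closed and O^p(H) lies in every normal subgroup of H that is not p-closed. -/
theorem result {H : Type*} [Group H] [Finite H] {p : ℕ} [Fact p.Prime] (T : Sylow p H) (hmin : Cfsg.IsMinimalOver (T : Subgroup H)) : Cfsg.IsPIrreducible p H := by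
  classical
  have hp : p.Prime := Fact.out
  obtain ⟨hnc, M, ⟨hMco, hTM⟩, hMuniq⟩ := hmin
  -- any proper subgroup containing T lies in M
  have hleM : ∀ X : Subgroup H, (T : Subgroup H) ≤ X → X ≠ ⊤ → X ≤ M := by
    intro X hTX hX
    obtain ⟨M', hM', hXM'⟩ := (eq_top_or_exists_le_coatom X).resolve_left hX
    have := hMuniq M' ⟨hM', hTX.trans hXM'⟩
    rw [← this]; exact hXM'
  have hTnn : ¬ (T : Subgroup H).Normal := by
    intro hn
    have h1 : Subgroup.normalClosure ((T : Subgroup H) : Set H) = T :=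
      Subgroup.normalClosure_eq_self (T : Subgroup H)
    rw [h1] at hnc
    have : M = ⊤ := by
      rw [eq_top_iff, ← hnc]; exact hTM
    exact hMco.1 this
  refine ⟨fun hcl => hTnn (hcl T), ?_⟩
  intro N hN hNcl
  haveI := hN
  -- N ⊔ T = ⊤
  have hNT : (T : Subgroup H) ⊔ N = ⊤ := by
    by_contra hne
    have hNM : N ≤ M := le_sup_right.trans (hleM _ le_sup_left hne)
    obtain ⟨P0, hP0⟩ := Cfsg.Agent.Lib.Helper16.exists_sylow_subgroupOf_normal T N
    have hfr := Sylow.normalizer_sup_eq_top P0
    have hmap : (P0 : Subgroup N).map N.subtype = (T : Subgroup H) ⊓ N := by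
      rw [hP0, Subgroup.subgroupOf_map_subtype]
    rw [hmap] at hfr
    have hTnorm : (T : Subgroup H) ≤ Subgroup.normalizer (((T : Subgroup H) ⊓ N : Subgroup H) : Set H) := by
      intro t ht
      rw [Subgroup.mem_normalizer_iff]
      intro y
      constructor
      · rintro ⟨h1, h2⟩
        exact ⟨(T : Subgroup H).mul_mem ((T : Subgroup H).mul_mem ht h1) ((T : Subgroup H).inv_mem ht), hN.conj_mem y h2 t⟩
      · rintro ⟨h1, h2⟩
        refine ⟨?_, ?_⟩
        · have : y = t⁻¹ * (t * y * t⁻¹) * t := by group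
          rw [this]; exact (T : Subgroup H).mul_mem ((T : Subgroup H).mul_mem ((T : Subgroup H).inv_mem ht) h1) ht
        · have : y = t⁻¹ * (t * y * t⁻¹) * t⁻¹⁻¹ := by group
          rw [this]; exact hN.conj_mem _ h2 t⁻¹
    have hnormtop : Subgroup.normalizer (((T : Subgroup H) ⊓ N : Subgroup H) : Set H) = ⊤ := by
      by_contra hne2
      have h1 := hleM _ hTnorm hne2
      have : (⊤ : Subgroup H) ≤ M := by
        rw [← hfr]; exact sup_le h1 hNM
      exact hMco.1 (eq_top_iff.mpr this)
    have hTNn : ((T : Subgroup H) ⊓ N).Normal := Subgroup.normalizer_eq_top_iff.mp hnormtop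
    apply hNcl
    intro P
    have hP0n : (P0 : Subgroup N).Normal := by
      rw [hP0, ← Subgroup.inf_subgroupOf_right]
      exact hTNn.subgroupOf N
    haveI := Sylow.unique_of_normal P0 hP0n
    rw [Subsingleton.elim P P0]
    exact hP0n
  -- index of N is a power of p
  have hidx : ∃ j : ℕ, N.index = p ^ j := by
    have h1 : N.relIndex ((T : Subgroup H) ⊔ N) = N.relIndex (T : Subgroup H) :=
      Subgroup.relIndex_sup_right _ _
    rw [hNT, Subgroup.relIndex_top_right] at h1
    have h2 : N.relIndex (T : Subgroup H) ∣ Nat.card (T : Subgroup H) := Subgroup.relIndex_dvd_card _ _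
    obtain ⟨k, hk⟩ := IsPGroup.iff_card.mp T.2
    rw [hk, ← h1] at h2
    obtain ⟨j, _, hj⟩ := (Nat.dvd_prime_pow hp).mp h2
    exact ⟨j, hj⟩
  obtain ⟨j, hj⟩ := hidx
  unfold Cfsg.pResidual
  rw [Subgroup.closure_le]
  intro g hg
  have hg' : Nat.Coprime (orderOf g) p := hg
  have h1 : g ^ N.index ∈ N := Subgroup.pow_index_mem N g
  have hcop : Nat.Coprime (orderOf g) (N.index) := by
    rw [hj]; exact Nat.Coprime.pow_right j hg'
  have h2 : g ^ (orderOf g) ∈ N := by rw [pow_orderOf_eq_one]; exact one_mem _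
  have h3 : g ^ (Nat.gcd (orderOf g) N.index) ∈ N := by
    have := Nat.gcd_eq_gcd_ab (orderOf g) N.index
    have hz : g ^ ((Nat.gcd (orderOf g) N.index : ℕ) : ℤ) ∈ N := by
      rw [this, zpow_add, zpow_mul, zpow_mul]
      apply mul_mem
      · apply Subgroup.zpow_mem; exact_mod_cast h2
      · apply Subgroup.zpow_mem; exact_mod_cast h1
    exact_mod_cast hz
  rw [hcop, pow_one] at h3
  exact h3

end Cfsg.Agent.S2831
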