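import Cfsg.Statements.S2832
import Mathlib
-- import your own Cfsg.Agent.* helpers here

set_option autoImplicit false
open Cfsg

namespace Cfsg.Agent.S2832

/-- Let H be a finite group with Sylow p-subgroup T such that H is T-minimal (generated by the conjugates of T, with T in exactly one maximal subgroup), and let N be a normal subgroup of H. Then either H/N is a p-group or H/N is minimal over the image of T in the same sense. -/
theorem result {H : Type*} [Group H] [Finite H] {p : ℕ} [Fact p.Prime] (T : Sylow p H) (hmin : Cfsg.IsMinimalOver (T : Subgroup H)) (N : Subgroup H) [N.Normal] : IsPGroup p (H ⧸ N) ∨ Cfsg.IsMinimalOver ((T : Subgroup H).map (QuotientGroup.mk' N)) := by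
  classical
  obtain ⟨hnc, M, ⟨hM, hTM⟩, hMu⟩ := hmin
  have hsurj : Function.Surjective (QuotientGroup.mk' N) := QuotientGroup.mk'_surjective N
  have hker : (QuotientGroup.mk' N).ker = N := QuotientGroup.ker_mk' N
  by_cases htop : (T : Subgroup H) ⊔ N = ⊤
  · left
    have h1 : ((T : Subgroup H).map (QuotientGroup.mk' N)) = ⊤ := by
      have h2 := congrArg (Subgroup.map (QuotientGroup.mk' N)) htop
      rw [Subgroup.map_sup, Subgroup.map_top_of_surjective _ hsurj] at h2
      have h3 : N.map (QuotientGroup.mk' N) = ⊥ :=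
        (Subgroup.map_eq_bot_iff _).mpr hker.ge
      rwa [h3, sup_bot_eq] at h2
    have hp : IsPGroup p ↥((T : Subgroup H).map (QuotientGroup.mk' N)) := T.isPGroup'.map _
    rw [h1] at hp
    exact hp.of_equiv Subgroup.topEquiv
  · right
    obtain ⟨K, hK, hle⟩ := (eq_top_or_exists_le_coatom _).resolve_left htop
    have hKM : K = M := hMu K ⟨hK, le_sup_left.trans hle⟩
    rw [hKM] at hle
    have hNM : N ≤ M := le_sup_right.trans hle
    have hcm : ∀ J : Subgroup H, N ≤ J → (J.map (QuotientGroup.mk' N)).comap (QuotientGroup.mk' N) = J := by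
      intro J hJ
      rw [Subgroup.comap_map_eq, hker, sup_eq_left.mpr hJ]
    have hmc : ∀ J : Subgroup (H ⧸ N), (J.comap (QuotientGroup.mk' N)).map (QuotientGroup.mk' N) = J :=
      fun J => Subgroup.map_comap_eq_self_of_surjective hsurj J
    have hNc : ∀ J : Subgroup (H ⧸ N), N ≤ J.comap (QuotientGroup.mk' N) := by
      intro J
      exact hker.ge.trans ((QuotientGroup.mk' N).ker_le_comap J)
    -- coatoms correspond
    have hco1 : ∀ J : Subgroup H, N ≤ J → IsCoatom J → IsCoatom (J.map (QuotientGroup.mk' N)) := by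
      intro J hNJ hJ
      constructor
      · intro h
        have h2 := congrArg (Subgroup.comap (QuotientGroup.mk' N)) h
        rw [hcm J hNJ, Subgroup.comap_top] at h2
        exact hJ.1 h2
      · intro Kb hlt
        have h2 : J ≤ Kb.comap (QuotientGroup.mk' N) := by
          rw [← hcm J hNJ]; exact Subgroup.comap_mono hlt.le
        have h3 : J ≠ Kb.comap (QuotientGroup.mk' N) := by
          intro h
          apply hlt.ne
          rw [h, hmc]
        have h4 := hJ.2 _ (lt_of_le_of_ne h2 h3)
        rw [← hmc Kb, h4, Subgroup.map_top_of_surjective _ hsurj]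
    have hco2 : ∀ Kb : Subgroup (H ⧸ N), IsCoatom Kb → IsCoatom (Kb.comap (QuotientGroup.mk' N)) := by
      intro Kb hKb
      constructor
      · intro h
        apply hKb.1
        rw [← hmc Kb, h, Subgroup.map_top_of_surjective _ hsurj]
      · intro J hlt
        have hNJ : N ≤ J := (hNc Kb).trans hlt.le
        have h2 : Kb ≤ J.map (QuotientGroup.mk' N) := by
          rw [← hmc Kb]; exact Subgroup.map_mono hlt.le
        have h3 : Kb ≠ J.map (QuotientGroup.mk' N) := by
          intro h
          apply hlt.ne
          rw [h, hcm J hNJ]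
        have h4 := hKb.2 _ (lt_of_le_of_ne h2 h3)
        rw [← hcm J hNJ, h4, Subgroup.comap_top]
    refine ⟨?_, M.map (QuotientGroup.mk' N), ⟨hco1 M hNM hM, Subgroup.map_mono hTM⟩, ?_⟩
    · -- normal closure
      have h1 := Subgroup.map_normalClosure ((T : Subgroup H) : Set H) (QuotientGroup.mk' N) hsurj
      rw [hnc, Subgroup.map_top_of_surjective _ hsurj] at h1
      rw [Subgroup.coe_map]
      exact h1.symm
    · rintro Kb ⟨hKb, hTKb⟩
      have h1 : (T : Subgroup H) ≤ Kb.comap (QuotientGroup.mk' N) := by
        rw [← Subgroup.map_le_iff_le_comap]; exact hTKb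
      have h2 := hMu _ ⟨hco2 Kb hKb, h1⟩
      rw [← hmc Kb, h2]

end Cfsg.Agent.S2832
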