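import Cfsg.Statements.S2835
import Mathlib
import Cfsg.Agent.Lib.Helper2.Cores
import Cfsg.Agent.Lib.Helper15.SylowIn
-- import your own Cfsg.Agent.* helpers here

set_option autoImplicit false
open Cfsg

namespace Cfsg.Agent.S2835

/-- Let L be a finite group, L₀ a maximal subgroup, T a Sylow p-subgroup of L₀ and Y ≤ T, and suppose L is Y-minimal (generated by the conjugates of Y, with Y in exactly one maximal subgroup, necessarily L₀). Then N_L(T) ≤ L₀, O_p(L) ≤ L₀ and T is a Sylow p-subgroup of L; N_L(L₀) = L₀; L = ⟨Y, gYg⁻¹⟩ for each g ∈ L outside L₀; and if Y is abelian then Y ∩ gYg⁻¹ = C_Y(L) for each such g. -/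
theorem result {L : Type*} [Group L] [Finite L] {p : ℕ} [Fact p.Prime] (L₀ : Subgroup L) (hL₀ : IsCoatom L₀) (T : Sylow p ↥L₀) (Y : Subgroup L) (hYT : Y ≤ (T : Subgroup ↥L₀).map L₀.subtype) (hmin : Cfsg.IsMinimalOver Y) : Subgroup.normalizer (((T : Subgroup ↥L₀).map L₀.subtype : Subgroup L) : Set L) ≤ L₀ ∧ Cfsg.pCore p L ≤ L₀ ∧ (∃ P : Sylow p L, (P : Subgroup L) = (T : Subgroup ↥L₀).map L₀.subtype) ∧ Subgroup.normalizer (L₀ : Set L) = L₀ ∧ (∀ g : L, g ∉ L₀ → Y ⊔ Y.map (MulAut.conj g).toMonoidHom = ⊤) ∧ (IsMulCommutative ↥Y → ∀ g : L, g ∉ L₀ → Y ⊓ Y.map (MulAut.conj g).toMonoidHom = Y ⊓ Subgroup.center L) := by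
  classical
  have hTp : IsPGroup p ↥((T : Subgroup ↥L₀).map L₀.subtype) := T.isPGroup'.map _
  have hT'L₀ : (T : Subgroup ↥L₀).map L₀.subtype ≤ L₀ := Subgroup.map_subtype_le _
  have hYL₀ : Y ≤ L₀ := hYT.trans hT'L₀
  obtain ⟨hnc, M, ⟨hM, hYM⟩, hMu⟩ := hmin
  have hML₀ : L₀ = M := hMu L₀ ⟨hL₀, hYL₀⟩
  have huniq : ∀ K : Subgroup L, IsCoatom K → Y ≤ K → K = L₀ :=
    fun K hK hYK => (hMu K ⟨hK, hYK⟩).trans hML₀.symm
  have hnn : ¬ L₀.Normal := by
    intro hn
    have h1 : Subgroup.normalClosure (Y : Set L) ≤ L₀ := Subgroup.normalClosure_le_normal hYL₀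
    rw [hnc] at h1
    exact hL₀.1 (top_le_iff.mp h1)
  have h4 : Subgroup.normalizer (L₀ : Set L) = L₀ := by
    by_contra hne
    have hlt : L₀ < Subgroup.normalizer (L₀ : Set L) :=
      lt_of_le_of_ne Subgroup.le_normalizer (Ne.symm hne)
    have htop := hL₀.2 _ hlt
    exact hnn (Subgroup.normalizer_eq_top_iff.mp htop)
  -- key: a conjugate of Y inside L₀ comes from an element of L₀
  have key : ∀ g : L, Y.map (MulAut.conj g).toMonoidHom ≤ L₀ → g ∈ L₀ := by
    intro g hg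
    have hco : IsCoatom (L₀.map (MulAut.conj g⁻¹).toMonoidHom) := by
      have := (OrderIso.isCoatom_iff (MulEquiv.mapSubgroup (MulAut.conj g⁻¹)) L₀).mpr hL₀
      exact this
    have hYle : Y ≤ L₀.map (MulAut.conj g⁻¹).toMonoidHom := by
      intro y hy
      refine ⟨g * y * g⁻¹, hg ⟨y, hy, rfl⟩, ?_⟩
      simp [MulAut.conj_apply, mul_assoc]
    have heq := huniq _ hco hYle
    have hmem : g⁻¹ ∈ Subgroup.normalizer (L₀ : Set L) :=
      Subgroup.mem_normalizer_iff_map_conj_eq.mpr heq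
    rw [h4] at hmem
    simpa using L₀.inv_mem hmem
  have h5 : ∀ g : L, g ∉ L₀ → Y ⊔ Y.map (MulAut.conj g).toMonoidHom = ⊤ := by
    intro g hg
    by_contra hne
    obtain ⟨K, hK, hle⟩ := (eq_top_or_exists_le_coatom _).resolve_left hne
    have hKL := huniq K hK (le_sup_left.trans hle)
    rw [hKL] at hle
    exact hg (key g (le_sup_right.trans hle))
  have h1 : Subgroup.normalizer (((T : Subgroup ↥L₀).map L₀.subtype : Subgroup L) : Set L) ≤ L₀ := by
    intro n hn
    apply key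
    have h2 : ((T : Subgroup ↥L₀).map L₀.subtype).map (MulAut.conj n).toMonoidHom =
        (T : Subgroup ↥L₀).map L₀.subtype := Subgroup.mem_normalizer_iff_map_conj_eq.mp hn
    calc Y.map (MulAut.conj n).toMonoidHom
        ≤ ((T : Subgroup ↥L₀).map L₀.subtype).map (MulAut.conj n).toMonoidHom :=
          Subgroup.map_mono hYT
      _ = (T : Subgroup ↥L₀).map L₀.subtype := h2
      _ ≤ L₀ := hT'L₀
  -- T is Sylow in L
  obtain ⟨P, hTP⟩ := hTp.exists_le_sylow
  have hPT : (P : Subgroup L) = (T : Subgroup ↥L₀).map L₀.subtype := by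
    by_contra hne
    have hlt : (T : Subgroup ↥L₀).map L₀.subtype < (P : Subgroup L) :=
      lt_of_le_of_ne hTP (Ne.symm hne)
    have hgrow := Cfsg.Agent.Lib.Helper15.lt_inf_normalizer_of_lt (P : Subgroup L)
      ((T : Subgroup ↥L₀).map L₀.subtype) P.isPGroup' hlt
    have hNle : (P : Subgroup L) ⊓ Subgroup.normalizer
        (((T : Subgroup ↥L₀).map L₀.subtype : Subgroup L) : Set L) ≤ L₀ := inf_le_right.trans h1
    have hNp : IsPGroup p ↥(((P : Subgroup L) ⊓ Subgroup.normalizer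
        (((T : Subgroup ↥L₀).map L₀.subtype : Subgroup L) : Set L)).subgroupOf L₀) :=
      (P.isPGroup'.to_le inf_le_left).comap_subtype
    have hTle : (T : Subgroup ↥L₀) ≤ ((P : Subgroup L) ⊓ Subgroup.normalizer
        (((T : Subgroup ↥L₀).map L₀.subtype : Subgroup L) : Set L)).subgroupOf L₀ := by
      intro t ht
      rw [Subgroup.mem_subgroupOf]
      exact hgrow.le ⟨t, ht, rfl⟩
    have heq := T.is_maximal' hNp hTle
    apply hgrow.ne
    apply le_antisymm hgrow.le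
    intro x hx
    have hxL₀ : x ∈ L₀ := hNle hx
    have : (⟨x, hxL₀⟩ : ↥L₀) ∈ (T : Subgroup ↥L₀) := by
      rw [← heq, Subgroup.mem_subgroupOf]; exact hx
    exact ⟨⟨x, hxL₀⟩, this, rfl⟩
  refine ⟨h1, ?_, ⟨P, hPT⟩, h4, h5, ?_⟩
  · have := Cfsg.Agent.Lib.Helper2.pCore_le_sylow p P
    rw [hPT] at this
    exact this.trans hT'L₀
  · intro hYc g hg
    apply le_antisymm
    · intro z hz
      obtain ⟨hzY, hzYg⟩ := Subgroup.mem_inf.mp hz
      refine Subgroup.mem_inf.mpr ⟨hzY, ?_⟩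
      -- z centralizes Y ⊔ Y^g = ⊤
      have hcent : Y ⊔ Y.map (MulAut.conj g).toMonoidHom ≤ Subgroup.centralizer ({z} : Set L) := by
        apply sup_le
        · intro y hy
          rw [Subgroup.mem_centralizer_iff]
          intro w hw; rw [Set.mem_singleton_iff] at hw; subst hw
          exact congrArg Subtype.val (hYc.is_comm.comm (⟨w, hzY⟩ : Y) ⟨y, hy⟩)
        · rintro _ ⟨y, hy, rfl⟩
          obtain ⟨y', hy', hyz⟩ := hzYg
          rw [Subgroup.mem_centralizer_iff]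
          intro w hw; rw [Set.mem_singleton_iff] at hw; subst hw
          rw [← hyz]
          have hc : y' * y = y * y' := congrArg Subtype.val (hYc.is_comm.comm (⟨y', hy'⟩ : Y) ⟨y, hy⟩)
          simp only [MulEquiv.coe_toMonoidHom, MulAut.conj_apply]
          calc g * y' * g⁻¹ * (g * y * g⁻¹) = g * (y' * y) * g⁻¹ := by group
            _ = g * (y * y') * g⁻¹ := by rw [hc]
            _ = g * y * g⁻¹ * (g * y' * g⁻¹) := by group
      rw [h5 g hg] at hcent
      rw [Subgroup.mem_center_iff]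
      intro x
      have := Subgroup.mem_centralizer_iff.mp (hcent (Subgroup.mem_top x)) z rfl
      exact this.symm
    · intro z hz
      obtain ⟨hzY, hzZ⟩ := Subgroup.mem_inf.mp hz
      refine Subgroup.mem_inf.mpr ⟨hzY, ⟨z, hzY, ?_⟩⟩
      rw [Subgroup.mem_center_iff] at hzZ
      simp only [MulEquiv.coe_toMonoidHom, MulAut.conj_apply]
      rw [hzZ g]; group

end Cfsg.Agent.S2835
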