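import Cfsg.Statements.S2836
import Mathlib
import Cfsg.Agent.Lib.Helper3.MinimalOver
import Cfsg.Agent.Lib.Helper3.PIrred
import Cfsg.Agent.Lib.Helper16.SylowNormal
import Cfsg.Agent.Lib.Helper2.Cores
import Cfsg.Agent.S2835
-- import your own Cfsg.Agent.* helpers here

set_option autoImplicit false
open Cfsg

namespace Cfsg.Agent.S2836

open Cfsg.Agent.Lib.Helper3

/-- Frattini argument: a normal subgroup inside `L₀` meets the Sylow subgroup in a normal subgroup -/
theorem inf_normal {L : Type*} [Group L] [Finite L] {p : ℕ} [Fact p.Prime] (L₀ : Subgroup L)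
    (hL₀ : IsCoatom L₀) (P : Sylow p L) (Y : Subgroup L) (hYP : Y ≤ P)
    (huniq : ∀ K : Subgroup L, IsCoatom K → Y ≤ K → K = L₀)
    (N : Subgroup L) [hNn : N.Normal] (hN : N ≤ L₀) : ((P : Subgroup L) ⊓ N).Normal := by
  obtain ⟨Q, hQ⟩ := Cfsg.Agent.Lib.Helper16.exists_sylow_subgroupOf_normal P N
  have h1 := Sylow.normalizer_sup_eq_top Q
  rw [hQ, Subgroup.subgroupOf_map_subtype] at h1
  have hPle : (P : Subgroup L) ≤ Subgroup.normalizer (((P : Subgroup L) ⊓ N : Subgroup L) : Set L) := by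
    intro x hx
    apply Subgroup.mem_normalizer_fintype
    intro y hy
    obtain ⟨hyP, hyN⟩ := Subgroup.mem_inf.mp hy
    exact Subgroup.mem_inf.mpr ⟨(P : Subgroup L).mul_mem ((P : Subgroup L).mul_mem hx hyP)
      ((P : Subgroup L).inv_mem hx), hNn.conj_mem y hyN x⟩
  by_contra hnn
  have hne : Subgroup.normalizer (((P : Subgroup L) ⊓ N : Subgroup L) : Set L) ≠ ⊤ := by
    intro h
    exact hnn (Subgroup.normalizer_eq_top_iff.mp h)
  obtain ⟨K, hK, hle⟩ := (eq_top_or_exists_le_coatom _).resolve_left hne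
  have hKL := huniq K hK (hYP.trans (hPle.trans hle))
  rw [hKL] at hle
  have : (⊤ : Subgroup L) ≤ L₀ := by rw [← h1]; exact sup_le hle hN
  exact hL₀.1 (top_le_iff.mp this)

/-- Let L be a finite group, L₀ a maximal subgroup, T a Sylow p-subgroup of L₀, Y ≤ T, and suppose L is Y-minimal. Let D be the intersection of the conjugates of L₀ (the core of L₀). Then D contains O_p(L) and D/O_p(L) is the Frattini subgroup of L/O_p(L), so D is p-closed; and every normal subgroup N of L contained in L₀ is p-closed with N/O_p(N) a nilpotent group of order prime to p. -/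
theorem result {L : Type*} [Group L] [Finite L] {p : ℕ} [Fact p.Prime] (L₀ : Subgroup L) (hL₀ : IsCoatom L₀) (T : Sylow p ↥L₀) (Y : Subgroup L) (hYT : Y ≤ (T : Subgroup ↥L₀).map L₀.subtype) (hmin : Cfsg.IsMinimalOver Y) : (Cfsg.pCore p L ≤ L₀.normalCore ∧ (L₀.normalCore).map (QuotientGroup.mk' (Cfsg.pCore p L)) = frattini (L ⧸ Cfsg.pCore p L) ∧ Cfsg.IsPClosed p ↥(L₀.normalCore)) ∧ ∀ (N : Subgroup L) [N.Normal], N ≤ L₀ → Cfsg.IsPClosed p ↥N ∧ Group.IsNilpotent (↥N ⧸ Cfsg.pCore p ↥N) ∧ (Nat.card (↥N ⧸ Cfsg.pCore p ↥N)).Coprime p := by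
  classical
  obtain ⟨hNT, hOL₀, ⟨P, hPT⟩, _, _, _⟩ := Cfsg.Agent.S2835.result L₀ hL₀ T Y hYT hmin
  have hYP : Y ≤ (P : Subgroup L) := by rw [hPT]; exact hYT
  have hT'L₀ : (T : Subgroup ↥L₀).map L₀.subtype ≤ L₀ := Subgroup.map_subtype_le _
  have hYL₀ : Y ≤ L₀ := hYT.trans hT'L₀
  obtain ⟨hnc, M, ⟨hM, hYM⟩, hMu⟩ := hmin
  have hML₀ : L₀ = M := hMu L₀ ⟨hL₀, hYL₀⟩
  have huniq : ∀ K : Subgroup L, IsCoatom K → Y ≤ K → K = L₀ :=
    fun K hK hYK => (hMu K ⟨hK, hYK⟩).trans hML₀.symm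
  have hOn : (Cfsg.pCore p L).Normal := Cfsg.Agent.Lib.Helper2.pCore_normal p
  -- Part II, first two claims, for an arbitrary normal subgroup inside L₀
  have partA : ∀ (N : Subgroup L) [N.Normal], N ≤ L₀ →
      ∃ Q : Sylow p ↥N, (Q : Subgroup ↥N) = ((P : Subgroup L) ⊓ N).subgroupOf N ∧
        (Q : Subgroup ↥N).Normal ∧ Cfsg.pCore p ↥N = (Q : Subgroup ↥N) ∧
        (P : Subgroup L) ⊓ N = Cfsg.pCore p L ⊓ N := by
    intro N hNn hN
    have hn := inf_normal L₀ hL₀ P Y hYP huniq N hN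
    obtain ⟨Q, hQ⟩ := Cfsg.Agent.Lib.Helper16.exists_sylow_subgroupOf_normal P N
    have hQ' : (Q : Subgroup ↥N) = ((P : Subgroup L) ⊓ N).subgroupOf N := by
      rw [hQ, Subgroup.inf_subgroupOf_right]
    have hQn : (Q : Subgroup ↥N).Normal := by rw [hQ']; exact hn.subgroupOf N
    refine ⟨Q, hQ', hQn, ?_, ?_⟩
    · apply le_antisymm
      · exact Cfsg.Agent.Lib.Helper2.pCore_le_sylow p Q
      · exact Cfsg.Agent.Lib.Helper2.le_pCore hQn Q.isPGroup'
    · apply le_antisymm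
      · refine le_inf ?_ inf_le_right
        exact Cfsg.Agent.Lib.Helper2.le_pCore hn (P.isPGroup'.to_le inf_le_left)
      · exact inf_le_inf_right N (Cfsg.Agent.Lib.Helper2.pCore_le_sylow p P)
  have partB : ∀ (N : Subgroup L) [N.Normal], N ≤ L₀ →
      Cfsg.IsPClosed p ↥N ∧ (Nat.card (↥N ⧸ Cfsg.pCore p ↥N)).Coprime p := by
    intro N hNn hN
    obtain ⟨Q, hQ', hQn, hpc, _⟩ := partA N hN
    refine ⟨isPClosed_of_sylow_normal Q hQn, ?_⟩
    rw [← Subgroup.index_eq_card, hpc]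
    exact ((Nat.Prime.coprime_iff_not_dvd Fact.out).mpr Q.not_dvd_index).symm
  -- the core
  have hDn : (L₀.normalCore).Normal := Subgroup.normalCore_normal L₀
  have hDle : L₀.normalCore ≤ L₀ := Subgroup.normalCore_le L₀
  have hOD : Cfsg.pCore p L ≤ L₀.normalCore :=
    (Subgroup.normal_le_normalCore (H := L₀) (N := Cfsg.pCore p L)).mpr hOL₀
  -- D maps into the Frattini subgroup of the quotient
  have hDfrat : (L₀.normalCore).map (QuotientGroup.mk' (Cfsg.pCore p L)) ≤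
      frattini (L ⧸ Cfsg.pCore p L) := by
    rw [frattini, Order.radical]
    refine le_iInf₂ fun Mb hMb => ?_
    have hMc := isCoatom_comap_mk' (Cfsg.pCore p L) Mb hMb
    have hOM : Cfsg.pCore p L ≤ Mb.comap (QuotientGroup.mk' (Cfsg.pCore p L)) :=
      le_comap_mk' _ Mb
    rw [Subgroup.map_le_iff_le_comap]
    by_contra hDM
    have hsup : Mb.comap (QuotientGroup.mk' (Cfsg.pCore p L)) ⊔ L₀.normalCore = ⊤ := by
      apply hMc.2
      exact lt_of_le_of_ne le_sup_left (fun h => hDM (h ▸ le_sup_right))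
    have hidx := index_mul_card_inf_of_sup_eq_top L₀.normalCore
      (Mb.comap (QuotientGroup.mk' (Cfsg.pCore p L))) hsup
    -- P ⊓ D ≤ D ⊓ M
    obtain ⟨Q, hQ', hQn, hpc, hPO⟩ := partA L₀.normalCore hDle
    have hPDle : (P : Subgroup L) ⊓ L₀.normalCore ≤
        L₀.normalCore ⊓ Mb.comap (QuotientGroup.mk' (Cfsg.pCore p L)) := by
      rw [hPO]
      exact le_inf inf_le_right (inf_le_left.trans hOM)
    -- p ∤ index of M
    have hnd : ¬ p ∣ (Mb.comap (QuotientGroup.mk' (Cfsg.pCore p L))).index := by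
      intro hdvd
      have hcQ : Nat.card (Q : Subgroup ↥L₀.normalCore) =
          Nat.card ↥((P : Subgroup L) ⊓ L₀.normalCore) := by
        rw [hQ']
        exact Nat.card_congr (Subgroup.subgroupOfEquivOfLe inf_le_right).toEquiv
      have h1 : Nat.card ↥((P : Subgroup L) ⊓ L₀.normalCore) ∣
          Nat.card ↥(L₀.normalCore ⊓ Mb.comap (QuotientGroup.mk' (Cfsg.pCore p L))) :=
        Subgroup.card_dvd_of_le hPDle
      obtain ⟨e, he⟩ := h1
      have h2 := (Q : Subgroup ↥L₀.normalCore).card_mul_index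
      rw [hcQ] at h2
      rw [he, ← h2] at hidx
      have hpos : 0 < Nat.card ↥((P : Subgroup L) ⊓ L₀.normalCore) := Nat.card_pos
      have h3 : (Mb.comap (QuotientGroup.mk' (Cfsg.pCore p L))).index * e =
          (Q : Subgroup ↥L₀.normalCore).index := by
        have : Nat.card ↥((P : Subgroup L) ⊓ L₀.normalCore) *
            ((Mb.comap (QuotientGroup.mk' (Cfsg.pCore p L))).index * e) =
            Nat.card ↥((P : Subgroup L) ⊓ L₀.normalCore) *
              (Q : Subgroup ↥L₀.normalCore).index := by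
          rw [← hidx]; ring
        exact Nat.eq_of_mul_eq_mul_left hpos this
      exact Q.not_dvd_index (h3 ▸ Dvd.dvd.mul_right hdvd e)
    obtain ⟨g, hg⟩ := exists_conj_le_of_not_dvd_index P _ hnd
    have hco : IsCoatom ((Mb.comap (QuotientGroup.mk' (Cfsg.pCore p L))).map
        (MulAut.conj g).toMonoidHom) :=
      (OrderIso.isCoatom_iff (MulEquiv.mapSubgroup (MulAut.conj g)) _).mpr hMc
    have heq := huniq _ hco (hYP.trans hg)
    apply hDM
    -- D ≤ M since D is normal and D ≤ L₀ = g M g⁻¹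
    intro d hd
    have hd' : g * d * g⁻¹ ∈ L₀ := hDle (hDn.conj_mem d hd g)
    rw [← heq] at hd'
    obtain ⟨m, hm, hmd⟩ := hd'
    have : m = d := by
      have h5 : g * m * g⁻¹ = g * d * g⁻¹ := hmd
      have h6 : g⁻¹ * (g * m * g⁻¹) * g = g⁻¹ * (g * d * g⁻¹) * g := by rw [h5]
      simpa [mul_assoc] using h6
    rw [← this]; exact hm
  refine ⟨⟨hOD, ?_, (partB L₀.normalCore hDle).1⟩, ?_⟩
  · apply le_antisymm hDfrat
    -- frattini ≤ image of the core
    have hfn : (frattini (L ⧸ Cfsg.pCore p L)).Normal := inferInstance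
    have hL₀c : IsCoatom (L₀.map (QuotientGroup.mk' (Cfsg.pCore p L))) :=
      isCoatom_map_mk' _ L₀ hOL₀ hL₀
    have h1 : (frattini (L ⧸ Cfsg.pCore p L)).comap (QuotientGroup.mk' (Cfsg.pCore p L)) ≤ L₀ := by
      have h2 := Subgroup.comap_mono (f := QuotientGroup.mk' (Cfsg.pCore p L))
        (frattini_le_coatom hL₀c)
      rwa [comap_map_mk' _ L₀ hOL₀] at h2
    have h3 : ((frattini (L ⧸ Cfsg.pCore p L)).comap (QuotientGroup.mk' (Cfsg.pCore p L))).Normal :=
      hfn.comap _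
    have h4 := (Subgroup.normal_le_normalCore (H := L₀)
      (N := (frattini (L ⧸ Cfsg.pCore p L)).comap (QuotientGroup.mk' (Cfsg.pCore p L)))).mpr h1
    have h5 := Subgroup.map_mono (f := QuotientGroup.mk' (Cfsg.pCore p L)) h4
    rwa [map_comap_mk'] at h5
  · intro N hNn hN
    obtain ⟨hcl, hcop⟩ := partB N hN
    refine ⟨hcl, ?_, hcop⟩
    obtain ⟨Q, hQ', hQn, hpc, hPO⟩ := partA N hN
    have hND : N ≤ L₀.normalCore := (Subgroup.normal_le_normalCore (H := L₀) (N := N)).mpr hN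
    -- the map N → L/O_p(L)
    let ψ : ↥N →* L ⧸ Cfsg.pCore p L := (QuotientGroup.mk' (Cfsg.pCore p L)).comp N.subtype
    have hψker : ψ.ker = Cfsg.pCore p ↥N := by
      rw [hpc, hQ', hPO]
      ext x
      rw [MonoidHom.mem_ker, Subgroup.mem_subgroupOf]
      show (QuotientGroup.mk' (Cfsg.pCore p L)) (x : L) = 1 ↔ _
      rw [QuotientGroup.mk'_apply, QuotientGroup.eq_one_iff]
      exact ⟨fun h => Subgroup.mem_inf.mpr ⟨h, x.2⟩, fun h => (Subgroup.mem_inf.mp h).1⟩
    let Ψ : ↥N ⧸ Cfsg.pCore p ↥N →* L ⧸ Cfsg.pCore p L :=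
      QuotientGroup.lift (Cfsg.pCore p ↥N) ψ (by rw [hψker])
    have hΨmem : ∀ x, Ψ x ∈ frattini (L ⧸ Cfsg.pCore p L) := by
      intro x
      obtain ⟨y, rfl⟩ := QuotientGroup.mk_surjective x
      apply hDfrat
      exact ⟨(y : L), hND y.2, rfl⟩
    have hΨinj : Function.Injective Ψ := by
      rw [injective_iff_map_eq_one]
      intro x hx
      obtain ⟨y, rfl⟩ := QuotientGroup.mk_surjective x
      have h1 : ψ y = 1 := hx
      have h2 : y ∈ ψ.ker := h1
      rw [hψker] at h2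
      exact (QuotientGroup.eq_one_iff y).mpr h2
    have hnil : Group.IsNilpotent ↥(frattini (L ⧸ Cfsg.pCore p L)) := frattini_nilpotent
    have hinj' : Function.Injective (Ψ.codRestrict _ hΨmem) := by
      intro a b hab
      apply hΨinj
      exact congrArg Subtype.val hab
    apply isNilpotent_of_ker_le_center (Ψ.codRestrict _ hΨmem)
    rw [(MonoidHom.ker_eq_bot_iff _).mpr hinj']
    exact bot_le

end Cfsg.Agent.S2836
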