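import Cfsg.Statements.S2837
import Mathlib
import Cfsg.Agent.S2835
import Cfsg.Agent.Lib.Helper3.CentralComm
import Cfsg.Agent.Lib.Helper2.PGroupFrattini
import Cfsg.Agent.Lib.Helper16.Frattini2
import Cfsg.Agent.Lib.Helper2.Cores
-- import your own Cfsg.Agent.* helpers here

set_option autoImplicit false
open Cfsg

namespace Cfsg.Agent.S2837

open scoped commutatorElement
open Cfsg.Agent.Lib.Helper3 in
theorem comm_mem_inf {L : Type*} [Group L] (Q Y A : Subgroup L) (hAn : A.Normal) (hAQ : A ≤ Q)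
    (hYn : ∀ q ∈ Q, ∀ y ∈ Y, q * y * q⁻¹ ∈ Y) : ∀ y ∈ Y, ∀ a ∈ A, ⁅y, a⁆ ∈ A ⊓ Y := by
  intro y hy a ha
  refine ⟨?_, ?_⟩
  · have : ⁅y, a⁆ = (y * a * y⁻¹) * a⁻¹ := by rw [commutatorElement_def]
    rw [this]; exact A.mul_mem (hAn.conj_mem a ha y) (A.inv_mem ha)
  · have : ⁅y, a⁆ = y * (a * y⁻¹ * a⁻¹) := by rw [commutatorElement_def]; group
    rw [this]; exact Y.mul_mem hy (hYn a (hAQ ha) y⁻¹ (Y.inv_mem hy))

theorem sup_le_comap_conj {L : Type*} [Group L] (Y Yg A : Subgroup L) (hAn : A.Normal)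
    (hcB : ∀ y ∈ Y, ∀ a ∈ A, ⁅y, a⁆ ∈ A ⊓ Y) (y : L) (hy : y ∈ Y) :
    (A ⊓ Y) ⊔ (A ⊓ Yg) ≤ ((A ⊓ Y) ⊔ (A ⊓ Yg)).comap (MulAut.conj y).toMonoidHom := by
  apply sup_le
  · intro b hb
    rw [Subgroup.mem_comap]
    show y * b * y⁻¹ ∈ _
    apply Subgroup.mem_sup_left
    exact ⟨hAn.conj_mem b hb.1 y, Y.mul_mem (Y.mul_mem hy hb.2) (Y.inv_mem hy)⟩
  · intro c hc
    rw [Subgroup.mem_comap]
    show y * c * y⁻¹ ∈ _
    have : y * c * y⁻¹ = ⁅y, c⁆ * c := by rw [commutatorElement_def]; group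
    rw [this]
    exact Subgroup.mul_mem _ (Subgroup.mem_sup_left (hcB y hy c hc.1)) (Subgroup.mem_sup_right hc)

theorem core {L : Type*} [Group L] [Finite L] {p : ℕ} [Fact p.Prime] (Q Y Yg A : Subgroup L)
    (hQn : Q.Normal) (hQp : IsPGroup p Q) (hZQ : Subgroup.center L ≤ Q)
    (hYc : ∀ a ∈ Y, ∀ b ∈ Y, a * b = b * a) (hYp : ∀ a ∈ Y, a ^ p = 1)
    (hYn : ∀ q ∈ Q, ∀ y ∈ Y, q * y * q⁻¹ ∈ Y)
    (hYgc : ∀ a ∈ Yg, ∀ b ∈ Yg, a * b = b * a) (hYgp : ∀ a ∈ Yg, a ^ p = 1)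
    (hYgn : ∀ q ∈ Q, ∀ y ∈ Yg, q * y * q⁻¹ ∈ Yg)
    (hYgZ : Yg ⊓ Subgroup.center L ≤ Y)
    (hsup : Y ⊔ Yg = ⊤) (hinf : Y ⊓ Yg = Y ⊓ Subgroup.center L)
    (hA : A = Subgroup.normalClosure ((Q ⊓ Y : Subgroup L) : Set L)) :
    (frattini ↥A).map A.subtype = ⁅A, A⁆ ∧ ⁅A, A⁆ = ⁅A ⊓ Y, A⁆ ∧
      ⁅A ⊓ Y, A⁆ = ⁅A ⊓ Y, A ⊓ Yg⁆ ∧ ⁅A ⊓ Y, A⁆ ≤ Y ⊓ Subgroup.center L ∧
      (A ⊓ Y) ⊓ (A ⊓ Yg) = Y ⊓ Subgroup.center L ∧
      A ⊓ Subgroup.center L = Y ⊓ Subgroup.center L := by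
  classical
  have hAn : A.Normal := by rw [hA]; exact Subgroup.normalClosure_normal
  have hAQ : A ≤ Q := by rw [hA]; exact Subgroup.normalClosure_le_normal inf_le_left
  have hQYA : Q ⊓ Y ≤ A := by rw [hA]; exact Subgroup.le_normalClosure
  have hZ₀A : Y ⊓ Subgroup.center L ≤ A := fun z hz => hQYA ⟨hZQ hz.2, hz.1⟩
  have hAp : IsPGroup p ↥A := hQp.to_le hAQ
  have hcB := comm_mem_inf Q Y A hAn hAQ hYn
  have hcBg := comm_mem_inf Q Yg A hAn hAQ hYgn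
  have hWY := sup_le_comap_conj Y Yg A hAn hcB
  have hWYg : ∀ w ∈ Yg, (A ⊓ Y) ⊔ (A ⊓ Yg) ≤
      ((A ⊓ Y) ⊔ (A ⊓ Yg)).comap (MulAut.conj w).toMonoidHom := by
    intro w hw
    have := sup_le_comap_conj Yg Y A hAn hcBg w hw
    rwa [sup_comm] at this
  have hWn : ((A ⊓ Y) ⊔ (A ⊓ Yg)).Normal := by
    have hN : Y ⊔ Yg ≤ Subgroup.normalizer (((A ⊓ Y) ⊔ (A ⊓ Yg) : Subgroup L) : Set L) := by
      apply sup_le
      · intro y hy
        exact Cfsg.Agent.Lib.Helper3.mem_normalizer_of_conj_le _ y (hWY y hy)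
          (hWY y⁻¹ (Y.inv_mem hy))
      · intro y hy
        exact Cfsg.Agent.Lib.Helper3.mem_normalizer_of_conj_le _ y (hWYg y hy)
          (hWYg y⁻¹ (Yg.inv_mem hy))
    rw [hsup] at hN
    exact Subgroup.normalizer_eq_top_iff.mp (top_le_iff.mp hN)
  have hAW : A = (A ⊓ Y) ⊔ (A ⊓ Yg) := by
    apply le_antisymm
    · have : Subgroup.normalClosure ((Q ⊓ Y : Subgroup L) : Set L) ≤ (A ⊓ Y) ⊔ (A ⊓ Yg) :=
        Subgroup.normalClosure_le_normal (fun x hx => Subgroup.mem_sup_left ⟨hQYA hx, hx.2⟩)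
      exact hA.le.trans this
    · exact sup_le inf_le_left inf_le_left
  have hBBg : ∀ b ∈ A ⊓ Y, ∀ c ∈ A ⊓ Yg, ⁅b, c⁆ ∈ Y ⊓ Subgroup.center L := by
    intro b hb c hc
    rw [← hinf]
    refine ⟨(hcB b hb.2 c hc.1).2, ?_⟩
    have : ⁅b, c⁆ = (⁅c, b⁆)⁻¹ := by rw [commutatorElement_inv]
    rw [this]; exact Yg.inv_mem (hcBg c hc.2 b hb.1).2
  have hcomle : ⁅A ⊓ Y, A ⊓ Yg⁆ ≤ Y ⊓ Subgroup.center L := Subgroup.commutator_le.mpr hBBg
  have hAA : ⁅A, A⁆ ≤ ⁅A ⊓ Y, A ⊓ Yg⁆ := by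
    have := Cfsg.Agent.Lib.Helper3.commutator_sup_le_of_central ⁅A ⊓ Y, A ⊓ Yg⁆ (A ⊓ Y) (A ⊓ Yg)
      (hcomle.trans inf_le_right) (fun a ha b hb => hYc a ha.2 b hb.2)
      (fun a ha b hb => hYgc a ha.2 b hb.2)
      (fun a ha b hb => Subgroup.commutator_mem_commutator ha hb)
    rwa [← hAW] at this
  have h1 : ⁅A ⊓ Y, A ⊓ Yg⁆ ≤ ⁅A ⊓ Y, A⁆ := Subgroup.commutator_mono le_rfl inf_le_left
  have h2 : ⁅A ⊓ Y, A⁆ ≤ ⁅A, A⁆ := Subgroup.commutator_mono inf_le_left le_rfl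
  have hfr : (frattini ↥A).map A.subtype = ⁅A, A⁆ := by
    rw [← Subgroup.map_subtype_commutator]
    congr 1
    apply le_antisymm
    · apply Cfsg.Agent.Lib.Helper16.frattini_le_of_forall (p := p)
      · intro x y
        rw [commutator_def]
        exact Subgroup.commutator_mem_commutator (Subgroup.mem_top x) (Subgroup.mem_top y)
      · intro x
        let ψ : ↥A →* Abelianization ↥A := (powMonoidHom p).comp Abelianization.of
        have hker : (⊤ : Subgroup ↥A) ≤ ψ.ker := by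
          have htop : (A ⊓ Y).subgroupOf A ⊔ (A ⊓ Yg).subgroupOf A = ⊤ := by
            rw [← Subgroup.subgroupOf_sup inf_le_left inf_le_left, ← hAW]
            exact Subgroup.subgroupOf_self A
          rw [← htop]
          apply sup_le
          · intro b hb
            rw [MonoidHom.mem_ker]
            show (Abelianization.of b) ^ p = 1
            rw [← map_pow]
            have : b ^ p = 1 :=
              Subtype.ext (by simpa using hYp _ (Subgroup.mem_subgroupOf.mp hb).2)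
            rw [this, map_one]
          · intro b hb
            rw [MonoidHom.mem_ker]
            show (Abelianization.of b) ^ p = 1
            rw [← map_pow]
            have : b ^ p = 1 :=
              Subtype.ext (by simpa using hYgp _ (Subgroup.mem_subgroupOf.mp hb).2)
            rw [this, map_one]
        have h := hker (Subgroup.mem_top x)
        rw [MonoidHom.mem_ker] at h
        change (Abelianization.of x) ^ p = 1 at h
        rw [← map_pow, ← MonoidHom.mem_ker, Abelianization.ker_of] at h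
        exact h
    · exact Cfsg.Agent.Lib.Helper2.commutator_le_frattini_of_isPGroup hAp
  refine ⟨hfr, le_antisymm (hAA.trans h1) h2, le_antisymm (h2.trans hAA) h1,
    (h2.trans hAA).trans hcomle, ?_, ?_⟩
  · apply le_antisymm
    · rw [← hinf]; exact inf_le_inf inf_le_right inf_le_right
    · have hZ₀Yg : Y ⊓ Subgroup.center L ≤ Yg := by rw [← hinf]; exact inf_le_right
      exact le_inf (le_inf hZ₀A inf_le_left) (le_inf hZ₀A hZ₀Yg)
  · apply le_antisymm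
    · intro a ha
      refine ⟨?_, ha.2⟩
      have haW : a ∈ (A ⊓ Y) ⊔ (A ⊓ Yg) := by rw [← hAW]; exact ha.1
      obtain ⟨b, hb, c, hc, rfl⟩ := Cfsg.Agent.Lib.Helper3.mem_sup_of_normalizes (A ⊓ Y) (A ⊓ Yg)
        (fun c hc b hb => ⟨hAn.conj_mem b hb.1 c, hYn c (hAQ hc.1) b hb.2⟩) haW
      have haz := Subgroup.mem_center_iff.mp ha.2
      -- c commutes with Y
      have hcY : ∀ y ∈ Y, c * y = y * c := by
        intro y hy
        have e1 : c = b⁻¹ * (b * c) := by group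
        have e2 := haz y
        have e3 := hYc b hb.2 y hy
        have e4 : b⁻¹ * y = y * b⁻¹ := by
          calc b⁻¹ * y = b⁻¹ * (y * b) * b⁻¹ := by group
            _ = b⁻¹ * (b * y) * b⁻¹ := by rw [e3]
            _ = y * b⁻¹ := by group
        calc c * y = b⁻¹ * ((b * c) * y) := by group
          _ = b⁻¹ * (y * (b * c)) := by rw [e2]
          _ = (b⁻¹ * y) * (b * c) := by group
          _ = (y * b⁻¹) * (b * c) := by rw [e4]
          _ = y * c := by group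
      have hcYg : ∀ w ∈ Yg, c * w = w * c := fun w hw => hYgc c hc.2 w hw
      have hcen : Y ⊔ Yg ≤ Subgroup.centralizer ({c} : Set L) := by
        apply sup_le
        · intro y hy
          rw [Subgroup.mem_centralizer_iff]
          intro h hh
          rw [Set.mem_singleton_iff.mp hh]; exact hcY y hy
        · intro y hy
          rw [Subgroup.mem_centralizer_iff]
          intro h hh
          rw [Set.mem_singleton_iff.mp hh]; exact hcYg y hy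
      rw [hsup] at hcen
      have hcz : c ∈ Subgroup.center L := by
        rw [Subgroup.mem_center_iff]
        intro x
        have := Subgroup.mem_centralizer_iff.mp (hcen (Subgroup.mem_top x)) c rfl
        exact this.symm
      exact Y.mul_mem hb.2 (hYgZ ⟨hc.2, hcz⟩)
    · exact le_inf hZ₀A inf_le_right

/-- Let L be a finite group of characteristic p, L₀ a maximal subgroup, Y an elementary abelian p-subgroup of L₀ with L Y-minimal and O_p(L) ≤ N_L(Y). Put A = the normal closure of O_p(L) ∩ Y in L. Then for every g ∈ L outside L₀: Φ(A) = A' = [A ∩ Y, A] = [A ∩ Y, A ∩ gYg⁻¹] ≤ C_Y(L), and Y ∩ gYg⁻¹ = (A ∩ Y) ∩ (A ∩ gYg⁻¹) = C_Y(L) = C_A(L). -/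
theorem result {L : Type*} [Group L] [Finite L] {p : ℕ} [Fact p.Prime] (hchar : Subgroup.centralizer (Cfsg.pCore p L : Set L) ≤ Cfsg.pCore p L) (L₀ : Subgroup L) (hL₀ : IsCoatom L₀) (Y : Subgroup L) (hYL₀ : Y ≤ L₀) (hYel : Cfsg.IsElementaryAbelian p Y) (hmin : Cfsg.IsMinimalOver Y) (hOY : Cfsg.pCore p L ≤ Subgroup.normalizer (Y : Set L)) (A : Subgroup L) (hA : A = Subgroup.normalClosure (((Cfsg.pCore p L ⊓ Y : Subgroup L)) : Set L)) (g : L) (hg : g ∉ L₀) : (frattini ↥A).map A.subtype = ⁅A, A⁆ ∧ ⁅A, A⁆ = ⁅A ⊓ Y, A⁆ ∧ ⁅A ⊓ Y, A⁆ = ⁅A ⊓ Y, A ⊓ Y.map (MulAut.conj g).toMonoidHom⁆ ∧ ⁅A ⊓ Y, A⁆ ≤ Y ⊓ Subgroup.center L ∧ Y ⊓ Y.map (MulAut.conj g).toMonoidHom = Y ⊓ Subgroup.center L ∧ (A ⊓ Y) ⊓ (A ⊓ Y.map (MulAut.conj g).toMonoidHom) = Y ⊓ Subgroup.center L ∧ A ⊓ Subgroup.center L = Y ⊓ Subgroup.center L := by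
  classical
  have hQn : (Cfsg.pCore p L).Normal := Cfsg.Agent.Lib.Helper2.pCore_normal p
  have hQp : IsPGroup p (Cfsg.pCore p L) := Cfsg.Agent.Lib.Helper2.pCore_isPGroup p
  have hZQ : Subgroup.center L ≤ Cfsg.pCore p L :=
    (Subgroup.center_le_centralizer _).trans hchar
  obtain ⟨hYcomm, hYpow⟩ := hYel
  have hYc : ∀ a ∈ Y, ∀ b ∈ Y, a * b = b * a := by
    intro a ha b hb
    have := hYcomm.is_comm.comm ⟨a, ha⟩ ⟨b, hb⟩
    exact congrArg Subtype.val this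
  have hYp : IsPGroup p Y := by
    intro y
    exact ⟨1, by rw [pow_one]; exact Subtype.ext (by simpa using hYpow y y.2)⟩
  have hYp' : IsPGroup p (Y.subgroupOf L₀) := hYp.comap_subtype
  obtain ⟨T, hT⟩ := hYp'.exists_le_sylow
  have hYT : Y ≤ (T : Subgroup ↥L₀).map L₀.subtype := by
    intro y hy
    exact ⟨⟨y, hYL₀ hy⟩, hT (Subgroup.mem_subgroupOf.mpr hy), rfl⟩
  obtain ⟨-, -, -, -, h5, h6⟩ := Cfsg.Agent.S2835.result L₀ hL₀ T Y hYT hmin
  have hsup := h5 g hg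
  have hinf := h6 hYcomm g hg
  have hYn : ∀ q ∈ Cfsg.pCore p L, ∀ y ∈ Y, q * y * q⁻¹ ∈ Y := by
    intro q hq y hy
    exact (Subgroup.mem_normalizer_iff.mp (hOY hq) y).mp hy
  have hmemYg : ∀ w, w ∈ Y.map (MulAut.conj g).toMonoidHom ↔ ∃ y ∈ Y, g * y * g⁻¹ = w := by
    intro w; rw [Subgroup.mem_map]; rfl
  have hYgc : ∀ a ∈ Y.map (MulAut.conj g).toMonoidHom,
      ∀ b ∈ Y.map (MulAut.conj g).toMonoidHom, a * b = b * a := by
    intro a ha b hb
    obtain ⟨y, hy, rfl⟩ := (hmemYg a).mp ha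
    obtain ⟨z, hz, rfl⟩ := (hmemYg b).mp hb
    have := hYc y hy z hz
    calc g * y * g⁻¹ * (g * z * g⁻¹) = g * (y * z) * g⁻¹ := by group
      _ = g * (z * y) * g⁻¹ := by rw [this]
      _ = _ := by group
  have hYgp : ∀ a ∈ Y.map (MulAut.conj g).toMonoidHom, a ^ p = 1 := by
    intro a ha
    obtain ⟨y, hy, rfl⟩ := (hmemYg a).mp ha
    rw [conj_pow, hYpow y hy]; group
  have hYgn : ∀ q ∈ Cfsg.pCore p L, ∀ w ∈ Y.map (MulAut.conj g).toMonoidHom,
      q * w * q⁻¹ ∈ Y.map (MulAut.conj g).toMonoidHom := by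
    intro q hq w hw
    obtain ⟨y, hy, rfl⟩ := (hmemYg w).mp hw
    rw [hmemYg]
    refine ⟨(g⁻¹ * q * g) * y * (g⁻¹ * q * g)⁻¹, hYn _ ?_ y hy, by group⟩
    have := hQn.conj_mem q hq g⁻¹
    simpa using this
  have hYgZ : Y.map (MulAut.conj g).toMonoidHom ⊓ Subgroup.center L ≤ Y := by
    intro c hc
    obtain ⟨y, hy, hyc⟩ := (hmemYg c).mp hc.1
    have hcz := Subgroup.mem_center_iff.mp hc.2
    have e : y = c := by
      have e1 : y = g⁻¹ * (c * g) := by rw [← hyc]; group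
      rw [e1, ← hcz g]; group
    rw [← e]; exact hy
  obtain ⟨r1, r2, r3, r4, r6, r7⟩ := core (Cfsg.pCore p L) Y (Y.map (MulAut.conj g).toMonoidHom) A
    hQn hQp hZQ hYc hYpow hYn hYgc hYgp hYgn hYgZ hsup hinf hA
  exact ⟨r1, r2, r3, r4, hinf, r6, r7⟩

end Cfsg.Agent.S2837
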