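import Cfsg.Statements.S2838
import Cfsg.Agent.Lib.Helper16.Large
import Cfsg.Agent.Lib.Helper16.SubnormalResidual

set_option autoImplicit false
open Cfsg
open Cfsg.Agent.Lib.Helper16
open scoped commutatorElement Pointwise

namespace Cfsg.Agent.S2838

variable {H : Type*} [Group H]

/-- If `[A, B] ≤ B` then `A` normalizes `B`. -/
theorem le_normalizer_of_commutator_le (A B : Subgroup H) (h : ⁅A, B⁆ ≤ B) :
    A ≤ Subgroup.normalizer (B : Set H) := by
  have key : ∀ a ∈ A, ∀ y ∈ B, a * y * a⁻¹ ∈ B := by
    intro a ha y hy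
    have h1 : ⁅a, y⁆ ∈ B := h (Subgroup.commutator_mem_commutator ha hy)
    have e : a * y * a⁻¹ = ⁅a, y⁆ * y := by rw [commutatorElement_def]; group
    rw [e]; exact B.mul_mem h1 hy
  intro a ha
  apply mem_normalizer_of_conj_mem
  · exact key a ha
  · intro y hy
    have := key a⁻¹ (A.inv_mem ha) y hy
    simpa using this

theorem commutator_le_right_of_le_normalizer (A B : Subgroup H)
    (h : A ≤ Subgroup.normalizer (B : Set H)) : ⁅A, B⁆ ≤ B := by
  rw [Subgroup.commutator_comm]; exact commutator_le_of_le_normalizer' B A h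

/-- Normalizer condition for `p`-subgroups, ambient form. -/
theorem exists_mem_normalizer_not_mem [Finite H] {p : ℕ} [Fact p.Prime] (R A : Subgroup H)
    (hR : IsPGroup p R) (hAR : A < R) :
    ∃ t ∈ R, t ∈ Subgroup.normalizer (A : Set H) ∧ t ∉ A := by
  have hAtop : A.subgroupOf R < ⊤ := by
    rw [lt_top_iff_ne_top]
    intro h
    apply hAR.not_ge
    exact Subgroup.subgroupOf_eq_top.mp h
  have hnil : Group.IsNilpotent ↥R := hR.isNilpotent
  have hnc := Group.normalizerCondition_of_isNilpotent (G := ↥R) _ hAtop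
  obtain ⟨t, htN, htA⟩ := Set.exists_of_ssubset hnc
  refine ⟨(t : H), t.2, ?_, ?_⟩
  · rw [Subgroup.mem_normalizer_iff]
    intro h
    constructor
    · intro hh
      have hhR : h ∈ R := hAR.le hh
      exact (Subgroup.mem_normalizer_iff.mp htN ⟨h, hhR⟩).mp hh
    · intro hh
      have hhR : h ∈ R := by
        have h1 : (t : H) * h * (t : H)⁻¹ ∈ R := hAR.le hh
        have h2 := R.mul_mem (R.mul_mem (R.inv_mem t.2) h1) t.2
        have e : (t : H)⁻¹ * ((t : H) * h * (t : H)⁻¹) * (t : H) = h := by group
        rwa [e] at h2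
      exact (Subgroup.mem_normalizer_iff.mp htN ⟨h, hhR⟩).mpr hh
  · intro h
    apply htA
    exact h

/-- For a nontrivial p-subgroup Q of a finite group H the following are equivalent: Q is a weakly closed subgroup (it is the only H-conjugate of itself inside some Sylow p-subgroup containing it); Q = P for every conjugate P of Q with [Q, P] ≤ Q ∩ P; Q is normal in N_H(R) for every p-subgroup R of H containing Q. -/
theorem result {H : Type*} [Group H] [Finite H] {p : ℕ} [Fact p.Prime] (Q : Subgroup H) (hQp : IsPGroup p ↥Q) (hQ1 : Q ≠ ⊥) : (Cfsg.IsWeaklyClosedSubgroup p Q ↔ ∀ g : H, ⁅Q, ((Q : Subgroup H).map (MulAut.conj (g : H)).toMonoidHom)⁆ ≤ Q ⊓ ((Q : Subgroup H).map (MulAut.conj (g : H)).toMonoidHom) → ((Q : Subgroup H).map (MulAut.conj (g : H)).toMonoidHom) = Q) ∧ (Cfsg.IsWeaklyClosedSubgroup p Q ↔ ∀ R : Subgroup H, IsPGroup p ↥R → Q ≤ R → Subgroup.normalizer ((R : Subgroup H) : Set H) ≤ Subgroup.normalizer ((Q : Subgroup H) : Set H)) := by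
  have hB1 : Cfsg.IsWeaklyClosedSubgroup p Q → ∀ R : Subgroup H, IsPGroup p ↥R → Q ≤ R →
      Subgroup.normalizer ((R : Subgroup H) : Set H) ≤
        Subgroup.normalizer ((Q : Subgroup H) : Set H) := by
    intro hwc R hR hQR n hn
    rw [← map_conj_eq_self_iff]
    apply weaklyClosed_eq_of_le hwc hR hQR
    rw [← (map_conj_eq_self_iff R n).mpr hn]
    exact map_conj_mono hQR n
  have hB2 := weaklyClosed_of_normalizer_le Q hQp
  have hA1 : Cfsg.IsWeaklyClosedSubgroup p Q → ∀ g : H,
      ⁅Q, Q.map (MulAut.conj g).toMonoidHom⁆ ≤ Q ⊓ Q.map (MulAut.conj g).toMonoidHom →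
        Q.map (MulAut.conj g).toMonoidHom = Q := by
    intro hwc g hg
    have hn : Q ≤ Subgroup.normalizer ((Q.map (MulAut.conj g).toMonoidHom : Subgroup H) : Set H) :=
      le_normalizer_of_commutator_le _ _ (hg.trans inf_le_right)
    have hR : IsPGroup p ↥(Q ⊔ Q.map (MulAut.conj g).toMonoidHom) :=
      IsPGroup.to_sup_of_normal_right' hQp (hQp.map _) hn
    exact weaklyClosed_eq_of_le hwc hR le_sup_left g le_sup_right
  have hA2 : (∀ g : H,
      ⁅Q, Q.map (MulAut.conj g).toMonoidHom⁆ ≤ Q ⊓ Q.map (MulAut.conj g).toMonoidHom →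
        Q.map (MulAut.conj g).toMonoidHom = Q) → Cfsg.IsWeaklyClosedSubgroup p Q := by
    intro hstar
    -- version for two conjugates
    have hstar' : ∀ a b : H, ⁅Q.map (MulAut.conj a).toMonoidHom, Q.map (MulAut.conj b).toMonoidHom⁆ ≤
        Q.map (MulAut.conj a).toMonoidHom ⊓ Q.map (MulAut.conj b).toMonoidHom →
        Q.map (MulAut.conj a).toMonoidHom = Q.map (MulAut.conj b).toMonoidHom := by
      intro a b hab
      have h1 := Subgroup.map_mono (f := (MulAut.conj a⁻¹).toMonoidHom) hab
      rw [Subgroup.map_commutator, Subgroup.map_inf _ _ _ (MulAut.conj a⁻¹).injective,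
        map_conj_map_conj, map_conj_map_conj, inv_mul_cancel, map_conj_one] at h1
      have h2 := hstar _ h1
      have h3 := congrArg (Subgroup.map (MulAut.conj a).toMonoidHom) h2
      rw [map_conj_map_conj, ← mul_assoc, mul_inv_cancel, one_mul] at h3
      exact h3.symm
    -- every conjugate of Q inside a p-group R is normal in R
    have hnormal : ∀ (R : Subgroup H), IsPGroup p R → ∀ a : H,
        Q.map (MulAut.conj a).toMonoidHom ≤ R →
        R ≤ Subgroup.normalizer ((Q.map (MulAut.conj a).toMonoidHom : Subgroup H) : Set H) := by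
      intro R hR a haR
      set P := Q.map (MulAut.conj a).toMonoidHom with hP
      by_contra hnot
      have hlt : R ⊓ Subgroup.normalizer (P : Set H) < R := by
        refine lt_of_le_of_ne inf_le_left ?_
        intro h
        exact hnot (h ▸ inf_le_right)
      obtain ⟨t, htR, htN, htnot⟩ := exists_mem_normalizer_not_mem R _ hR hlt
      apply htnot
      refine ⟨htR, ?_⟩
      -- P^t and P normalize each other
      have hPN : P ≤ R ⊓ Subgroup.normalizer (P : Set H) := le_inf haR Subgroup.le_normalizer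
      have h1 : P.map (MulAut.conj t).toMonoidHom ≤ R ⊓ Subgroup.normalizer (P : Set H) := by
        rw [← (map_conj_eq_self_iff _ t).mpr htN]
        exact map_conj_mono hPN t
      have h2 : P.map (MulAut.conj t⁻¹).toMonoidHom ≤ R ⊓ Subgroup.normalizer (P : Set H) := by
        rw [← (map_conj_eq_self_iff _ t⁻¹).mpr (Subgroup.inv_mem _ htN)]
        exact map_conj_mono hPN t⁻¹
      have h3 : P.map (MulAut.conj t).toMonoidHom ≤ Subgroup.normalizer (P : Set H) :=
        h1.trans inf_le_right
      have h4 : P ≤ Subgroup.normalizer ((P.map (MulAut.conj t).toMonoidHom : Subgroup H) : Set H) := by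
        intro x hx
        rw [mem_normalizer_map_conj_iff]
        have : t⁻¹ * x * t ∈ P.map (MulAut.conj t⁻¹).toMonoidHom := by
          have := conj_mem_map_conj P t⁻¹ hx
          simpa using this
        exact (h2.trans inf_le_right) this
      have h5 : ⁅P, P.map (MulAut.conj t).toMonoidHom⁆ ≤ P ⊓ P.map (MulAut.conj t).toMonoidHom := by
        apply le_inf
        · exact commutator_le_of_le_normalizer' _ _ h3
        · exact commutator_le_right_of_le_normalizer _ _ h4
      rw [hP, map_conj_map_conj] at h5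
      have h6 := hstar' a (t * a) h5
      rw [← map_conj_map_conj, ← hP] at h6
      exact (map_conj_eq_self_iff P t).mp h6.symm
    apply hB2
    intro R hR hQR n hn
    rw [← map_conj_eq_self_iff]
    apply hstar
    have hQnR : Q.map (MulAut.conj n).toMonoidHom ≤ R := by
      rw [← (map_conj_eq_self_iff R n).mpr hn]
      exact map_conj_mono hQR n
    have h1 := hnormal R hR 1 (by rw [map_conj_one]; exact hQR)
    rw [map_conj_one] at h1
    have h2 := hnormal R hR n hQnR
    apply le_inf
    · exact commutator_le_of_le_normalizer' _ _ (hQnR.trans h1)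
    · exact commutator_le_right_of_le_normalizer _ _ (hQR.trans h2)
  exact ⟨⟨hA1, hA2⟩, ⟨hB1, hB2⟩⟩

end Cfsg.Agent.S2838
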