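import Cfsg.Statements.S2839
import Cfsg.Agent.Lib.Helper16.Large
import Cfsg.Agent.Lib.Helper16.ResidualQuot

set_option autoImplicit false
open Cfsg
open Cfsg.Agent.Lib.Helper16
open scoped commutatorElement Pointwise

namespace Cfsg.Agent.S2839

variable {H : Type*} [Group H]

theorem map_conj_le_of_mem (Q K : Subgroup H) (hQK : Q ≤ K) {k : H} (hk : k ∈ K) :
    Q.map (MulAut.conj k).toMonoidHom ≤ K := by
  intro x hx
  rw [mem_map_conj_iff] at hx
  have := K.mul_mem (K.mul_mem hk (hQK hx)) (K.inv_mem hk)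
  have e : k * (k⁻¹ * x * k) * k⁻¹ = x := by group
  rwa [e] at this

theorem subgroupOf_map_conj (Q K : Subgroup H) (k : ↥K) :
    (Q.subgroupOf K).map (MulAut.conj k).toMonoidHom =
      (Q.map (MulAut.conj (k : H)).toMonoidHom).subgroupOf K := by
  ext x
  rw [mem_map_conj_iff, Subgroup.mem_subgroupOf, Subgroup.mem_subgroupOf, mem_map_conj_iff]
  exact Iff.rfl

theorem map_mk_map_conj (N' : Subgroup H) [N'.Normal] (Q : Subgroup H) (g : H) :
    (Q.map (MulAut.conj g).toMonoidHom).map (QuotientGroup.mk' N') =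
      (Q.map (QuotientGroup.mk' N')).map (MulAut.conj (QuotientGroup.mk' N' g)).toMonoidHom := by
  rw [Subgroup.map_map, Subgroup.map_map]
  congr 1

/-- Let Q be a nontrivial p-subgroup of the finite group H that is a weakly closed subgroup, K a subgroup containing Q and N a normal subgroup of H. Then Q is a weakly closed subgroup of K; every H-conjugate of Q contained in K is a K-conjugate of Q; N_K(Q) contains a Sylow p-subgroup of K; N = N_N(Q)·O^p(N); and QN/N is a weakly closed subgroup of H/N. -/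
theorem result {H : Type*} [Group H] [Finite H] {p : ℕ} [Fact p.Prime] (Q : Subgroup H) (hQp : IsPGroup p ↥Q) (hQ1 : Q ≠ ⊥) (hwc : Cfsg.IsWeaklyClosedSubgroup p Q) (K : Subgroup H) (hQK : Q ≤ K) (N' : Subgroup H) [N'.Normal] : Cfsg.IsWeaklyClosedSubgroup p (Q.subgroupOf K) ∧ (∀ g : H, ((Q : Subgroup H).map (MulAut.conj (g : H)).toMonoidHom) ≤ K → ∃ k ∈ K, ((Q : Subgroup H).map (MulAut.conj (g : H)).toMonoidHom) = ((Q : Subgroup H).map (MulAut.conj (k : H)).toMonoidHom)) ∧ Cfsg.IsParabolic p ((Subgroup.normalizer ((Q : Subgroup H) : Set H)).subgroupOf K) ∧ (N' ⊓ Subgroup.normalizer ((Q : Subgroup H) : Set H)) ⊔ (Cfsg.pResidual p ↥N').map N'.subtype = N' ∧ Cfsg.IsWeaklyClosedSubgroup p (Q.map (QuotientGroup.mk' N')) := by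
  -- a Sylow subgroup of K containing Q
  have hp : IsPGroup p (Q.subgroupOf K) := hQp.comap_subtype
  obtain ⟨P, hP⟩ := hp.exists_le_sylow
  have hQP : Q ≤ (P : Subgroup K).map K.subtype := by
    intro q hq
    exact ⟨⟨q, hQK hq⟩, hP (by rw [Subgroup.mem_subgroupOf]; exact hq), rfl⟩
  have hP'p : IsPGroup p ((P : Subgroup K).map K.subtype) := P.isPGroup'.map _
  refine ⟨?_, weaklyClosed_conj_in hwc K hQK, ?_, ?_, ?_⟩
  · -- (a)
    refine ⟨P, hP, ?_⟩
    intro k hk
    rw [subgroupOf_map_conj] at hk ⊢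
    have h1 : Q.map (MulAut.conj (k : H)).toMonoidHom ≤ (P : Subgroup K).map K.subtype := by
      intro y hy
      have hyK : y ∈ K := map_conj_le_of_mem Q K hQK k.2 hy
      exact ⟨⟨y, hyK⟩, hk (by rw [Subgroup.mem_subgroupOf]; exact hy), rfl⟩
    rw [weaklyClosed_eq_of_le hwc hP'p hQP _ h1]
  · -- (c)
    refine ⟨P, ?_⟩
    intro x hx
    rw [Subgroup.mem_subgroupOf, ← map_conj_eq_self_iff]
    apply weaklyClosed_eq_of_le hwc hP'p hQP
    have hx' : (x : H) ∈ (P : Subgroup K).map K.subtype := ⟨x, hx, rfl⟩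
    exact map_conj_le_of_mem Q _ hQP hx'
  · -- (d)
    rw [map_pResidual_eq_opUp]
    apply le_antisymm (sup_le inf_le_left (opUp_le p N'))
    intro n hn
    have hQN : Q ≤ Subgroup.normalizer (N' : Set H) := by
      rw [Subgroup.normalizer_eq_top]; exact le_top
    have h1 : opUp p (N' ⊔ Q) ≤ opUp p N' := by
      rw [opUp_le_iff]
      intro g hg hcop
      have h2 := opUp_sup_le_of_isPGroup p N' Q hQp hQN (mem_opUp_of_coprime p hg hcop)
      exact mem_opUp_of_coprime p h2 hcop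
    have hp2 : IsPGroup p (Q.subgroupOf (N' ⊔ Q)) := hQp.comap_subtype
    obtain ⟨P₂, hP₂⟩ := hp2.exists_le_sylow
    have hQP₂ : Q ≤ (P₂ : Subgroup ↥(N' ⊔ Q)).map (N' ⊔ Q).subtype := by
      intro q hq
      exact ⟨⟨q, Subgroup.mem_sup_right hq⟩, hP₂ (by rw [Subgroup.mem_subgroupOf]; exact hq), rfl⟩
    obtain ⟨c, hc, y, hy, hcy⟩ := exists_opUp_mul_sylow p (N' ⊔ Q) P₂
      (Subgroup.mem_sup_left hn : n ∈ N' ⊔ Q)
    have hcN : c ∈ opUp p N' := h1 hc
    have hyN : y ∈ N' := by
      have : y = c⁻¹ * n := by rw [hcy]; group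
      rw [this]
      exact N'.mul_mem (N'.inv_mem (opUp_le p N' hcN)) hn
    have hyQ : y ∈ Subgroup.normalizer (Q : Set H) := by
      rw [← map_conj_eq_self_iff]
      apply weaklyClosed_eq_of_le hwc (P₂.isPGroup'.map _) hQP₂
      exact map_conj_le_of_mem Q _ hQP₂ hy
    rw [hcy]
    exact Subgroup.mul_mem _ (Subgroup.mem_sup_right hcN) (Subgroup.mem_sup_left ⟨hyN, hyQ⟩)
  · -- (e)
    obtain ⟨T, hQT, hT⟩ := hwc
    refine ⟨T.mapSurjective (QuotientGroup.mk'_surjective N'), ?_, ?_⟩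
    · rw [Sylow.coe_mapSurjective]; exact Subgroup.map_mono hQT
    · intro gbar hgbar
      obtain ⟨g, rfl⟩ := QuotientGroup.mk'_surjective N' gbar
      rw [Sylow.coe_mapSurjective, ← map_mk_map_conj, Subgroup.map_le_iff_le_comap,
        Subgroup.comap_map_eq, QuotientGroup.ker_mk'] at hgbar
      rw [← map_mk_map_conj]
      have hTK : (T : Subgroup H) ≤ (T : Subgroup H) ⊔ N' := le_sup_left
      have hPS : ((T.subtype hTK : Sylow p ↥((T : Subgroup H) ⊔ N')) :
          Subgroup ↥((T : Subgroup H) ⊔ N')).map ((T : Subgroup H) ⊔ N').subtype =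
            (T : Subgroup H) := by
        rw [Sylow.coe_subtype, Subgroup.map_subgroupOf_eq_of_le hTK]
      obtain ⟨k, hk, hky⟩ := Cfsg.Agent.Lib.Helper24.exists_conj_le_sylow_of_subgroup
        ((T : Subgroup H) ⊔ N') (T.subtype hTK) _ (hQp.map (MulAut.conj g).toMonoidHom) hgbar
      rw [hPS] at hky
      have h3 : Q.map (MulAut.conj (k * g)).toMonoidHom ≤ T := by
        rw [← map_conj_map_conj]
        rintro _ ⟨y, hy, rfl⟩
        have := hky y hy
        simpa [MulAut.conj_apply] using this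
      have h4 := hT _ h3
      have hk' : k ∈ (((T : Subgroup H) ⊔ N' : Subgroup H) : Set H) := hk
      rw [Subgroup.mul_normal] at hk'
      obtain ⟨t, ht, n, hn, rfl⟩ := hk'
      have h5 : Q.map (MulAut.conj t⁻¹).toMonoidHom = Q :=
        hT _ (map_conj_le_of_mem Q _ hQT (Subgroup.inv_mem _ ht))
      have h6 : Q.map (MulAut.conj g).toMonoidHom = Q.map (MulAut.conj n⁻¹).toMonoidHom := by
        calc Q.map (MulAut.conj g).toMonoidHom
            = (Q.map (MulAut.conj (t * n * g)).toMonoidHom).map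
                (MulAut.conj (t * n)⁻¹).toMonoidHom := by
              rw [map_conj_map_conj]; congr 3; group
          _ = Q.map (MulAut.conj (t * n)⁻¹).toMonoidHom := by rw [h4]
          _ = (Q.map (MulAut.conj t⁻¹).toMonoidHom).map (MulAut.conj n⁻¹).toMonoidHom := by
              rw [map_conj_map_conj]; congr 3; group
          _ = Q.map (MulAut.conj n⁻¹).toMonoidHom := by rw [h5]
      rw [h6, map_mk_map_conj]
      have h7 : (QuotientGroup.mk' N') n⁻¹ = 1 := by
        rw [QuotientGroup.mk'_apply, QuotientGroup.eq_one_iff]; exact N'.inv_mem hn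
      rw [h7, map_conj_one]

end Cfsg.Agent.S2839
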