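import Cfsg.Statements.S2841
import Cfsg.Agent.Lib.Helper16.WeaklyClosed
import Cfsg.Agent.Lib.Helper16.SubnormalResidual

set_option autoImplicit false
open Cfsg
open Cfsg.Agent.Lib.Helper16
open scoped commutatorElement Pointwise

namespace Cfsg.Agent.S2841

/-- For `Q` weakly closed and `N` normal: every `N`-conjugate of `Q` is an `[N,Q]`-conjugate. -/
theorem conj_eq_conj_commutator {H : Type*} [Group H] [Finite H] {p : ℕ} [Fact p.Prime]
    (Q : Subgroup H) (hwc : Cfsg.IsWeaklyClosedSubgroup p Q) (N' : Subgroup H) [N'.Normal]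
    (n : H) (hn : n ∈ N') :
    ∃ r ∈ ⁅N', Q⁆, Q.map (MulAut.conj n).toMonoidHom = Q.map (MulAut.conj r).toMonoidHom := by
  have hQR : Q ≤ Subgroup.normalizer ((⁅N', Q⁆ : Subgroup H) : Set H) :=
    le_normalizer_commutator_right N' Q
  have hle : Q.map (MulAut.conj n).toMonoidHom ≤ ⁅N', Q⁆ ⊔ Q := by
    intro x hx
    rw [mem_map_conj_iff] at hx
    have e : x = ⁅n, n⁻¹ * x * n⁆ * (n⁻¹ * x * n) := by
      rw [commutatorElement_def]; group
    rw [e]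
    exact Subgroup.mul_mem _ (Subgroup.mem_sup_left (Subgroup.commutator_mem_commutator hn hx))
      (Subgroup.mem_sup_right hx)
  obtain ⟨m, hm, hmeq⟩ := weaklyClosed_conj_in hwc (⁅N', Q⁆ ⊔ Q) le_sup_right n hle
  have hm' : m ∈ ((⁅N', Q⁆ ⊔ Q : Subgroup H) : Set H) := hm
  rw [Subgroup.coe_mul_of_right_le_normalizer_left _ _ hQR] at hm'
  obtain ⟨r, hr, q, hq, rfl⟩ := hm'
  refine ⟨r, hr, ?_⟩
  rw [hmeq]
  exact map_conj_mul_of_mem Q r hq

/-- Let Q be a nontrivial p-subgroup of the finite group H that is a weakly closed subgroup and N a normal subgroup of H. Then N = N_N(Q)·[N, Q] and [N, Q] = (Q ∩ [N, Q])·[N, Q, Q]. -/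
theorem result {H : Type*} [Group H] [Finite H] {p : ℕ} [Fact p.Prime] (Q : Subgroup H) (hQp : IsPGroup p ↥Q) (hQ1 : Q ≠ ⊥) (hwc : Cfsg.IsWeaklyClosedSubgroup p Q) (N' : Subgroup H) [N'.Normal] : (∀ n : H, n ∈ N' → ∃ a ∈ N' ⊓ Subgroup.normalizer ((Q : Subgroup H) : Set H), ∃ b ∈ ⁅N', Q⁆, n = a * b) ∧ (∀ c : H, c ∈ ⁅N', Q⁆ → ∃ a ∈ Q ⊓ ⁅N', Q⁆, ∃ b ∈ ⁅⁅N', Q⁆, Q⁆, c = a * b) := by
  have hRN : ⁅N', Q⁆ ≤ N' := Subgroup.commutator_le_left N' Q
  have hQR : Q ≤ Subgroup.normalizer ((⁅N', Q⁆ : Subgroup H) : Set H) :=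
    le_normalizer_commutator_right N' Q
  constructor
  · intro n hn
    obtain ⟨r, hr, hreq⟩ := conj_eq_conj_commutator Q hwc N' n⁻¹ (N'.inv_mem hn)
    have h1 := mul_mem_normalizer_of_map_conj_eq Q _ _ hreq
    rw [inv_inv] at h1
    refine ⟨n * r, ⟨N'.mul_mem hn (hRN hr), h1⟩, r⁻¹, Subgroup.inv_mem _ hr, by group⟩
  · intro c hc
    have hRR : ⁅⁅N', Q⁆, Q⁆ ≤ ⁅N', Q⁆ := commutator_le_of_le_normalizer' _ _ hQR
    have hle : ⁅N', Q⁆ ≤ Q ⊔ ⁅⁅N', Q⁆, Q⁆ := by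
      rw [Subgroup.commutator_le]
      intro n hn q hq
      obtain ⟨r, hr, hreq⟩ := conj_eq_conj_commutator Q hwc N' n hn
      have h1 : n * q * n⁻¹ ∈ Q.map (MulAut.conj r).toMonoidHom := by
        rw [← hreq]; exact conj_mem_map_conj Q n hq
      rw [mem_map_conj_iff] at h1
      have e : ⁅n, q⁆ = ⁅r, r⁻¹ * (n * q * n⁻¹) * r⁆ * (r⁻¹ * (n * q * n⁻¹) * r) * q⁻¹ := by
        rw [commutatorElement_def, commutatorElement_def]; group
      rw [e]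
      refine Subgroup.mul_mem _ (Subgroup.mul_mem _ ?_ ?_) ?_
      · exact Subgroup.mem_sup_right (Subgroup.commutator_mem_commutator hr h1)
      · exact Subgroup.mem_sup_left h1
      · exact Subgroup.mem_sup_left (Q.inv_mem hq)
    have hc' : c ∈ ((Q ⊔ ⁅⁅N', Q⁆, Q⁆ : Subgroup H) : Set H) := hle hc
    rw [Subgroup.coe_mul_of_left_le_normalizer_right _ _
      (le_normalizer_commutator_right ⁅N', Q⁆ Q)] at hc'
    obtain ⟨a, ha, b, hb, rfl⟩ := hc'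
    refine ⟨a, ⟨ha, ?_⟩, b, hb, rfl⟩
    have : a = (a * b) * b⁻¹ := by group
    rw [this]
    exact Subgroup.mul_mem _ hc (Subgroup.inv_mem _ (hRR hb))

end Cfsg.Agent.S2841
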