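import Cfsg.Statements.S2844
import Cfsg.Agent.Lib.Helper16.Large

set_option autoImplicit false
open Cfsg
open Cfsg.Agent.Lib.Helper16
open scoped commutatorElement Pointwise

namespace Cfsg.Agent.S2844

theorem key1 {H : Type*} [Group H] [Finite H] {p : ℕ} [Fact p.Prime] (Q : Subgroup H)
    (hQp : IsPGroup p ↥Q) (hQ1 : Q ≠ ⊥) (hL : Cfsg.IsLarge Q) (g : H)
    (hg : g ∉ Subgroup.normalizer (Q : Set H)) :
    Subgroup.centralizer (Q : Set H) ⊓
      Subgroup.centralizer ((Q.map (MulAut.conj g).toMonoidHom : Subgroup H) : Set H) = ⊥ := by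
  by_contra hne
  apply hg
  have hwc := isWeaklyClosedSubgroup_of_isLarge hQp hQ1 hL
  have h1 := hL.2 _ inf_le_left hne
  have h2 := (isLarge_map_conj hL g).2 _ inf_le_right hne
  have hQU : Q ≤ Subgroup.normalizer ((Subgroup.centralizer (Q : Set H) ⊓
      Subgroup.centralizer ((Q.map (MulAut.conj g).toMonoidHom : Subgroup H) : Set H) :
        Subgroup H) : Set H) :=
    (Subgroup.le_centralizer_iff.mp inf_le_left).trans (Subgroup.centralizer_le_normalizer _)
  have hR : IsPGroup p ↥(Q ⊔ Q.map (MulAut.conj g).toMonoidHom) :=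
    IsPGroup.to_sup_of_normal_right' hQp (hQp.map _) (hQU.trans h2)
  have := weaklyClosed_eq_of_le hwc hR le_sup_left g le_sup_right
  exact (map_conj_eq_self_iff Q g).mp this

/-- Let Q be a nontrivial large p-subgroup of the finite group H and Q• = O_p(N_H(Q)). Then for every g ∈ H outside N_H(Q): C_H(Q) ∩ C_H(gQg⁻¹) = 1, C_H(Q•) ∩ C_H(gQ•g⁻¹) = 1, Z(Q) ∩ Z(gQg⁻¹) = 1 and Z(Q•) ∩ Z(gQ•g⁻¹) = 1; moreover N_H(Q) = N_H(Q•) and Q• is large in H. -/
theorem result {H : Type*} [Group H] [Finite H] {p : ℕ} [Fact p.Prime] (Q : Subgroup H) (hQp : IsPGroup p ↥Q) (hQ1 : Q ≠ ⊥) (hL : Cfsg.IsLarge Q) (Qb : Subgroup H) (hQb : Qb = Cfsg.largeBullet p Q) : (∀ g : H, g ∉ Subgroup.normalizer ((Q : Subgroup H) : Set H) → Subgroup.centralizer ((Q : Subgroup H) : Set H) ⊓ Subgroup.centralizer ((((Q : Subgroup H).map (MulAut.conj (g : H)).toMonoidHom) : Subgroup H) : Set H) = ⊥ ∧ Subgroup.centralizer ((Qb : Subgroup H) : Set H) ⊓ Subgroup.centralizer ((((Qb : Subgroup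 H).map (MulAut.conj (g : H)).toMonoidHom) : Subgroup H) : Set H) = ⊥ ∧ (Q ⊓ Subgroup.centralizer ((Q : Subgroup H) : Set H)) ⊓ (((Q : Subgroup H).map (MulAut.conj (g : H)).toMonoidHom) ⊓ Subgroup.centralizer ((((Q : Subgroup H).map (MulAut.conj (g : H)).toMonoidHom) : Subgroup H) : Set H)) = ⊥ ∧ (Qb ⊓ Subgroup.centralizer ((Qb : Subgroup H) : Set H)) ⊓ (((Qb : Subgroup H).map (MulAut.conj (g : H)).toMonoidHom) ⊓ Subgroup.centralizer ((((Qb : Subgroup H).map (MulAut.conj (g : H)).toMonoidHom) : Subgroup H) : Set H)) = ⊥) ∧ Subgroup.normalizer ((Q : Subgroup H) : Set H) = Subgroup.normalizer ((Qb : Subgroup H) : Set H) ∧ Cfsg.IsLarge Qb := by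
  have hQb' : Qb = opDown p (Subgroup.normalizer (Q : Set H)) := by
    rw [hQb]; unfold Cfsg.largeBullet Cfsg.pCoreOf; exact map_pCore_eq_opDown p _
  have hQQb : Q ≤ Qb := by
    rw [hQb']; exact le_opDown p Subgroup.le_normalizer le_rfl hQp
  have hQbp : IsPGroup p ↥Qb := by rw [hQb']; exact opDown_isPGroup p _
  have hQb1 : Qb ≠ ⊥ := fun h => hQ1 (le_bot_iff.mp (h ▸ hQQb))
  have hCle : Subgroup.centralizer (Qb : Set H) ≤ Subgroup.centralizer (Q : Set H) :=
    Subgroup.centralizer_le hQQb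
  have hN : Subgroup.normalizer ((Q : Subgroup H) : Set H) =
      Subgroup.normalizer ((Qb : Subgroup H) : Set H) := by
    apply le_antisymm
    · rw [hQb']; exact le_normalizer_opDown p _
    · have hZne : Qb ⊓ Subgroup.centralizer (Qb : Set H) ≠ ⊥ :=
        inf_centralizer_ne_bot Qb Qb hQbp hQbp Subgroup.le_normalizer hQb1
      exact (normalizer_le_normalizer_inf_centralizer Qb).trans
        (hL.2 _ (inf_le_right.trans hCle) hZne)
  refine ⟨?_, hN, ?_⟩
  · intro g hg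
    have k1 := key1 Q hQp hQ1 hL g hg
    have hCle' : Subgroup.centralizer ((Qb.map (MulAut.conj g).toMonoidHom : Subgroup H) : Set H) ≤
        Subgroup.centralizer ((Q.map (MulAut.conj g).toMonoidHom : Subgroup H) : Set H) :=
      Subgroup.centralizer_le (map_conj_mono hQQb g)
    have k2 : Subgroup.centralizer ((Qb : Subgroup H) : Set H) ⊓
        Subgroup.centralizer ((Qb.map (MulAut.conj g).toMonoidHom : Subgroup H) : Set H) = ⊥ := by
      rw [eq_bot_iff, ← k1]; exact inf_le_inf hCle hCle'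
    refine ⟨k1, k2, ?_, ?_⟩
    · rw [eq_bot_iff, ← k1]; exact inf_le_inf inf_le_right inf_le_right
    · rw [eq_bot_iff, ← k2]; exact inf_le_inf inf_le_right inf_le_right
  · refine ⟨hCle.trans (hL.1.trans hQQb), ?_⟩
    intro U hU hUne
    rw [← hN]
    exact hL.2 U (hU.trans hCle) hUne

end Cfsg.Agent.S2844
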