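import Cfsg.Statements.S2845
import Cfsg.Agent.Lib.Helper16.Large
import Cfsg.Agent.Lib.Helper16.LargestPReduced
import Cfsg.Agent.S2844

set_option autoImplicit false
open Cfsg
open Cfsg.Agent.Lib.Helper16
open scoped commutatorElement Pointwise

namespace Cfsg.Agent.S2845

variable {H : Type*} [Group H]

theorem map_conj_le_of_mem (Q K : Subgroup H) (hQK : Q ≤ K) {k : H} (hk : k ∈ K) :
    Q.map (MulAut.conj k).toMonoidHom ≤ K := by
  intro x hx
  rw [mem_map_conj_iff] at hx
  have := K.mul_mem (K.mul_mem hk (hQK hx)) (K.inv_mem hk)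
  have e : k * (k⁻¹ * x * k) * k⁻¹ = x := by group
  rwa [e] at this

theorem inf_normalizer_le (A B : Subgroup H) :
    Subgroup.normalizer (A : Set H) ⊓ Subgroup.normalizer (B : Set H) ≤
      Subgroup.normalizer ((A ⊓ B : Subgroup H) : Set H) := by
  intro n hn
  rw [Subgroup.mem_normalizer_iff]
  intro h
  rw [Subgroup.mem_inf, Subgroup.mem_inf, ← Subgroup.mem_normalizer_iff.mp hn.1 h,
    ← Subgroup.mem_normalizer_iff.mp hn.2 h]

variable [Finite H] {p : ℕ} [Fact p.Prime]

theorem opDown_ne_bot (L : Subgroup H) (h : Cfsg.pCore p ↥L ≠ ⊥) : opDown p L ≠ ⊥ := by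
  rw [← map_pCore_eq_opDown]
  intro h'
  apply h
  rwa [Subgroup.map_eq_bot_iff_of_injective _ (Subgroup.subtype_injective L)] at h'

/-- `C_H(O_p(L)) ≤ N_H(Q)` for `Q ≤ L` large. -/
theorem cent_le_normalizer (Q : Subgroup H) (hQp : IsPGroup p ↥Q) (hL : Cfsg.IsLarge Q)
    (L : Subgroup H) (hQL : Q ≤ L) (hP : opDown p L ≠ ⊥) :
    Subgroup.centralizer ((opDown p L : Subgroup H) : Set H) ≤ Subgroup.normalizer (Q : Set H) := by
  have hPp : IsPGroup p (opDown p L) := opDown_isPGroup p L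
  have hZne : opDown p L ⊓ Subgroup.centralizer ((opDown p L : Subgroup H) : Set H) ≠ ⊥ :=
    inf_centralizer_ne_bot _ _ hPp hPp Subgroup.le_normalizer hP
  have hQZ : Q ≤ Subgroup.normalizer ((opDown p L ⊓
      Subgroup.centralizer ((opDown p L : Subgroup H) : Set H) : Subgroup H) : Set H) :=
    hQL.trans ((le_normalizer_opDown p L).trans (normalizer_le_normalizer_inf_centralizer _))
  have hUne := inf_centralizer_ne_bot Q _ hQp (hPp.to_le inf_le_left) hQZ hZne
  have h1 := hL.2 _ inf_le_right hUne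
  refine le_trans ?_ h1
  exact (Subgroup.centralizer_le (inf_le_left.trans inf_le_left)).trans
    (Subgroup.centralizer_le_normalizer _)

/-- `C_H(O_p(L))` is a `p`-group for `Q ≤ L` large, `O_p(L) ≠ 1`. -/
theorem cent_isPGroup (Q : Subgroup H) (hQp : IsPGroup p ↥Q) (hL : Cfsg.IsLarge Q)
    (L : Subgroup H) (hQL : Q ≤ L) (hP : opDown p L ≠ ⊥) :
    IsPGroup p ↥(Subgroup.centralizer ((opDown p L : Subgroup H) : Set H)) := by
  set P := opDown p L with hPdef
  set D := Subgroup.centralizer ((P : Subgroup H) : Set H) with hDdef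
  have hLD : L ≤ Subgroup.normalizer ((D : Subgroup H) : Set H) :=
    (le_normalizer_opDown p L).trans (normalizer_le_normalizer_centralizer P)
  have hDQl : ∀ l ∈ L, D ≤ Subgroup.normalizer
      ((Q.map (MulAut.conj l).toMonoidHom : Subgroup H) : Set H) :=
    fun l hl => cent_le_normalizer _ (hQp.map _) (isLarge_map_conj hL l) L
      (map_conj_le_of_mem Q L hQL hl) hP
  set W : Subgroup H := ⨆ l : ↥L, Q.map (MulAut.conj (l : H)).toMonoidHom ⊓ D with hW
  have hWL : W ≤ L := iSup_le (fun l => inf_le_left.trans (map_conj_le_of_mem Q L hQL l.2))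
  have hWp : IsPGroup p W := by
    apply (opDown_isPGroup p D).to_le
    apply iSup_le
    intro l
    apply le_opDown p inf_le_right
    · exact (le_inf (hDQl l l.2) Subgroup.le_normalizer).trans (inf_normalizer_le _ _)
    · exact (hQp.map _).to_le inf_le_left
  have hmap : ∀ l' ∈ L, W.map (MulAut.conj l').toMonoidHom ≤ W := by
    intro l' hl'
    rw [hW, Subgroup.map_iSup]
    apply iSup_le
    intro l
    refine le_trans (Subgroup.map_inf_le _ _ _) ?_
    rw [map_conj_map_conj, (map_conj_eq_self_iff D l').mpr (hLD hl')]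
    exact le_iSup (fun l : ↥L => Q.map (MulAut.conj (l : H)).toMonoidHom ⊓ D)
      (⟨l' * l, L.mul_mem hl' l.2⟩ : ↥L)
  have hLW : L ≤ Subgroup.normalizer ((W : Subgroup H) : Set H) := by
    intro l' hl'
    apply mem_normalizer_of_conj_mem
    · intro x hx
      exact hmap l' hl' (conj_mem_map_conj _ l' hx)
    · intro x hx
      have := hmap l'⁻¹ (L.inv_mem hl') (conj_mem_map_conj _ l'⁻¹ hx)
      simpa using this
  have hWP : W ≤ P := le_opDown p hWL hLW hWp
  have hQ0 : Q ⊓ D ≤ P := by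
    refine le_trans ?_ hWP
    have := le_iSup (fun l : ↥L => Q.map (MulAut.conj (l : H)).toMonoidHom ⊓ D) (1 : ↥L)
    simp only [OneMemClass.coe_one] at this
    rwa [map_conj_one] at this
  have hDQ : D ≤ Subgroup.normalizer (Q : Set H) := cent_le_normalizer Q hQp hL L hQL hP
  apply isPGroup_of_coprime_elements_trivial
  intro x hx hcop
  have hcomm : ∀ q ∈ Q, q * x = x * q := by
    intro q hq
    have hc1 : ⁅q, x⁆ ∈ Q := by
      have h2 := (Subgroup.mem_normalizer_iff.mp (hDQ hx) q⁻¹).mp (Q.inv_mem hq)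
      have e : ⁅q, x⁆ = q * (x * q⁻¹ * x⁻¹) := by rw [commutatorElement_def]; group
      rw [e]; exact Q.mul_mem hq h2
    have hc2 : ⁅q, x⁆ ∈ D := by
      have h3 := (Subgroup.mem_normalizer_iff.mp (hLD (hQL hq)) x).mp hx
      rw [commutatorElement_def]
      exact D.mul_mem h3 (D.inv_mem hx)
    have hc3 : ⁅q, x⁆ ∈ P := hQ0 ⟨hc1, hc2⟩
    have hzx : ⁅q, x⁆ * x = x * ⁅q, x⁆ := Subgroup.mem_centralizer_iff.mp hx _ hc3
    obtain ⟨k, hk⟩ := exists_pow_eq_one_of_mem hQp hc1
    exact commute_of_coprime_commutator q x hzx k hk hcop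
  have hxC : x ∈ Subgroup.centralizer (Q : Set H) :=
    Subgroup.mem_centralizer_iff.mpr (fun q hq => hcomm q hq)
  have hxQ := hL.1 hxC
  obtain ⟨j, hj⟩ := exists_pow_eq_one_of_mem hQp hxQ
  exact eq_one_of_pow_prime_pow_of_coprime x j hj hcop

/-- `L` has characteristic `p` as soon as `C_H(O_p(L))` is a `p`-group. -/
theorem char_p_of_cent_isPGroup (L : Subgroup H)
    (hD : IsPGroup p ↥(Subgroup.centralizer ((opDown p L : Subgroup H) : Set H))) :
    Subgroup.centralizer (Cfsg.pCore p ↥L : Set ↥L) ≤ Cfsg.pCore p ↥L := by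
  haveI := pCore_normal p ↥L
  have hn : (Subgroup.centralizer (Cfsg.pCore p ↥L : Set ↥L)).Normal := Subgroup.normal_centralizer
  apply le_pCore hn
  have hle : (Subgroup.centralizer (Cfsg.pCore p ↥L : Set ↥L)).map L.subtype ≤
      Subgroup.centralizer ((opDown p L : Subgroup H) : Set H) := by
    rintro _ ⟨x, hx, rfl⟩
    rw [← map_pCore_eq_opDown, Subgroup.mem_centralizer_iff]
    rintro _ ⟨y, hy, rfl⟩
    have := Subgroup.mem_centralizer_iff.mp hx y hy
    exact congrArg Subtype.val this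
  have h1 : IsPGroup p ↥((Subgroup.centralizer (Cfsg.pCore p ↥L : Set ↥L)).map L.subtype) :=
    hD.to_le hle
  exact h1.of_equiv
    ((Subgroup.centralizer (Cfsg.pCore p ↥L : Set ↥L)).equivMapOfInjective L.subtype
      (Subgroup.subtype_injective L)).symm

theorem weakClosure_alt (Q : Subgroup H) (hQp : IsPGroup p ↥Q) (hQ1 : Q ≠ ⊥)
    (hL : Cfsg.IsLarge Q) (L : Subgroup H) (hQL : Q ≤ L) :
    Cfsg.weakClosure Q L = Q ∨
      Subgroup.centralizer (((Cfsg.weakClosure Q L) : Subgroup H) : Set H) = ⊥ := by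
  have hwc := isWeaklyClosedSubgroup_of_isLarge hQp hQ1 hL
  have hQle : Q ≤ Cfsg.weakClosure Q L := by
    have := le_iSup (fun g : {g : H // Q.map (MulAut.conj g).toMonoidHom ≤ L} =>
        Q.map (MulAut.conj (g : H)).toMonoidHom) ⟨1, by rw [map_conj_one]; exact hQL⟩
    simp only at this
    rwa [map_conj_one] at this
  by_cases h : L ≤ Subgroup.normalizer (Q : Set H)
  · left
    apply le_antisymm _ hQle
    apply iSup_le
    rintro ⟨g, hg⟩
    obtain ⟨k, hk, hkeq⟩ := weaklyClosed_conj_in hwc L hQL g hg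
    simp only
    rw [hkeq, (map_conj_eq_self_iff Q k).mpr (h hk)]
  · right
    obtain ⟨l, hlL, hlN⟩ := SetLike.not_le_iff_exists.mp h
    have k1 := Cfsg.Agent.S2844.key1 Q hQp hQ1 hL l hlN
    rw [eq_bot_iff, ← k1]
    apply le_inf
    · exact Subgroup.centralizer_le hQle
    · apply Subgroup.centralizer_le
      exact le_iSup (fun g : {g : H // Q.map (MulAut.conj g).toMonoidHom ≤ L} =>
        Q.map (MulAut.conj (g : H)).toMonoidHom) ⟨l, map_conj_le_of_mem Q L hQL hlL⟩

/-- some conjugate of `Q` lies in a given Sylow subgroup -/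
theorem exists_conj_le_sylow (Q : Subgroup H) (hQp : IsPGroup p ↥Q) (T : Sylow p H) :
    ∃ g : H, Q.map (MulAut.conj g).toMonoidHom ≤ T := by
  obtain ⟨S, hQS⟩ := hQp.exists_le_sylow
  obtain ⟨g, hg⟩ := MulAction.exists_smul_eq H S T
  refine ⟨g, ?_⟩
  rintro _ ⟨q, hq, rfl⟩
  rw [← hg]
  have := Cfsg.Agent.Lib.Helper24.conj_mem_smul_sylow S g q (hQS hq)
  simpa [MulAut.conj_apply] using this

theorem cent_le_of_parabolic (Q : Subgroup H) (hQp : IsPGroup p ↥Q)
    (hL : Cfsg.IsLarge Q) (R : Subgroup H) (T : Sylow p H) (hTR : (T : Subgroup H) ≤ R)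
    (hP : opDown p R ≠ ⊥) :
    IsPGroup p ↥(Subgroup.centralizer ((opDown p R : Subgroup H) : Set H)) ∧
    Subgroup.centralizer ((opDown p R : Subgroup H) : Set H) ≤ opDown p R := by
  obtain ⟨g, hg⟩ := exists_conj_le_sylow Q hQp T
  have hD := cent_isPGroup _ (hQp.map _) (isLarge_map_conj hL g) R (hg.trans hTR) hP
  refine ⟨hD, ?_⟩
  have hRD : R ≤ Subgroup.normalizer ((Subgroup.centralizer ((opDown p R : Subgroup H) : Set H) :
      Subgroup H) : Set H) :=
    (le_normalizer_opDown p R).trans (normalizer_le_normalizer_centralizer _)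
  have hsup : IsPGroup p ↥((T : Subgroup H) ⊔
      Subgroup.centralizer ((opDown p R : Subgroup H) : Set H)) :=
    IsPGroup.to_sup_of_normal_right' T.isPGroup' hD (hTR.trans hRD)
  have heq := T.is_maximal' hsup le_sup_left
  have hDT : Subgroup.centralizer ((opDown p R : Subgroup H) : Set H) ≤ T := by
    rw [← heq]; exact le_sup_right
  exact le_opDown p (hDT.trans hTR) hRD hD

/-- Let Q be a nontrivial large p-subgroup of the finite group H. Then for every subgroup L ≥ Q with O_p(L) ≠ 1, C_H(O_p(L)) is a p-group and L has characteristic p, and either the weak closure L° of Q in L equals Q or C_H(L°) = 1; for every subgroup R of H containing a Sylow p-subgroup of H with O_p(R) ≠ 1, C_H(O_p(R)) ≤ O_p(R); and H has parabolic characteristic p. -/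
theorem result {H : Type*} [Group H] [Finite H] {p : ℕ} [Fact p.Prime] (Q : Subgroup H) (hQp : IsPGroup p ↥Q) (hQ1 : Q ≠ ⊥) (hL : Cfsg.IsLarge Q) : (∀ L : Subgroup H, Q ≤ L → Cfsg.pCore p ↥L ≠ ⊥ → IsPGroup p ↥(Subgroup.centralizer (((Cfsg.pCoreOf p L) : Subgroup H) : Set H)) ∧ Subgroup.centralizer (Cfsg.pCore p ↥L : Set ↥L) ≤ Cfsg.pCore p ↥L ∧ (Cfsg.weakClosure Q L = Q ∨ Subgroup.centralizer (((Cfsg.weakClosure Q L) : Subgroup H) : Set H) = ⊥)) ∧ (∀ R : Subgroup H, Cfsg.IsParabolic p R → Cfsg.pCore p ↥R ≠ ⊥ → Subgroup.centralizer (((Cfsg.pCoreOf p R) : Subgroup H) : Set H) ≤ (Cfsg.pCoreOf p R)) ∧ Cfsg.IsOfParabolicCharacteristic p H := by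
  have hpc : ∀ L : Subgroup H, Cfsg.pCoreOf p L = opDown p L := by
    intro L; unfold Cfsg.pCoreOf; exact map_pCore_eq_opDown p L
  refine ⟨?_, ?_, ?_⟩
  · intro L hQL hne
    rw [hpc]
    have hD := cent_isPGroup Q hQp hL L hQL (opDown_ne_bot L hne)
    exact ⟨hD, char_p_of_cent_isPGroup L hD, weakClosure_alt Q hQp hQ1 hL L hQL⟩
  · rintro R ⟨T, hTR⟩ hne
    rw [hpc]
    exact (cent_le_of_parabolic Q hQp hL R T hTR (opDown_ne_bot R hne)).2
  · intro R₀ hR₀p hR₀ne ⟨T, hTR⟩
    have hle : R₀ ≤ opDown p (Subgroup.normalizer (R₀ : Set H)) :=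
      le_opDown p Subgroup.le_normalizer le_rfl hR₀p
    have hP : opDown p (Subgroup.normalizer (R₀ : Set H)) ≠ ⊥ :=
      fun h => hR₀ne (le_bot_iff.mp (h ▸ hle))
    exact char_p_of_cent_isPGroup _ (cent_le_of_parabolic Q hQp hL _ T hTR hP).1

end Cfsg.Agent.S2845
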