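import Cfsg.Statements.S2842
import Cfsg.Agent.Lib.Helper16.CharP
import Cfsg.Agent.S2845

set_option autoImplicit false
open Cfsg
open Cfsg.Agent.Lib.Helper16
open scoped commutatorElement Pointwise

namespace Cfsg.Agent.S2842

variable {H : Type*} [Group H]

theorem commutator_le_right_of_le_normalizer (A B : Subgroup H)
    (h : A ≤ Subgroup.normalizer (B : Set H)) : ⁅A, B⁆ ≤ B := by
  rw [Subgroup.commutator_comm]; exact commutator_le_of_le_normalizer' B A h

/-- The "centralizer of the section `R/Z`". -/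
def secCent (R Z : Subgroup H) : Subgroup H where
  carrier := {g | g ∈ Subgroup.normalizer (R : Set H) ∧ g ∈ Subgroup.normalizer (Z : Set H) ∧
    ∀ r ∈ R, ⁅r, g⁆ ∈ Z}
  one_mem' := ⟨Subgroup.one_mem _, Subgroup.one_mem _, fun r _ => by
    rw [commutatorElement_one_right]; exact Z.one_mem⟩
  mul_mem' := by
    rintro g h ⟨hg1, hg2, hg3⟩ ⟨hh1, hh2, hh3⟩
    refine ⟨Subgroup.mul_mem _ hg1 hh1, Subgroup.mul_mem _ hg2 hh2, ?_⟩
    intro r hr
    have e : ⁅r, g * h⁆ = ⁅r, g⁆ * (g * ⁅r, h⁆ * g⁻¹) := by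
      simp only [commutatorElement_def]; group
    rw [e]
    exact Z.mul_mem (hg3 r hr) ((Subgroup.mem_normalizer_iff.mp hg2 _).mp (hh3 r hr))
  inv_mem' := by
    rintro g ⟨hg1, hg2, hg3⟩
    refine ⟨Subgroup.inv_mem _ hg1, Subgroup.inv_mem _ hg2, ?_⟩
    intro r hr
    have e : ⁅r, g⁻¹⁆ = g⁻¹ * (⁅r, g⁆)⁻¹ * g⁻¹⁻¹ := by
      simp only [commutatorElement_def]; group
    rw [e]
    exact (Subgroup.mem_normalizer_iff.mp (Subgroup.inv_mem _ hg2) _).mp (Z.inv_mem (hg3 r hr))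

theorem mem_secCent_iff (R Z : Subgroup H) (g : H) :
    g ∈ secCent R Z ↔ g ∈ Subgroup.normalizer (R : Set H) ∧
      g ∈ Subgroup.normalizer (Z : Set H) ∧ ∀ r ∈ R, ⁅r, g⁆ ∈ Z := Iff.rfl

theorem conj_mem_secCent (R Z : Subgroup H) {g d : H} (hg : g ∈ secCent R Z)
    (hd1 : d ∈ Subgroup.normalizer (R : Set H)) (hd2 : d ∈ Subgroup.normalizer (Z : Set H)) :
    d * g * d⁻¹ ∈ secCent R Z := by
  obtain ⟨hg1, hg2, hg3⟩ := hg
  refine ⟨?_, ?_, ?_⟩
  · exact Subgroup.mul_mem _ (Subgroup.mul_mem _ hd1 hg1) (Subgroup.inv_mem _ hd1)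
  · exact Subgroup.mul_mem _ (Subgroup.mul_mem _ hd2 hg2) (Subgroup.inv_mem _ hd2)
  · intro r hr
    have hr' : d⁻¹ * r * d ∈ R := by
      have := (Subgroup.mem_normalizer_iff.mp (Subgroup.inv_mem _ hd1) r).mp hr
      simpa using this
    have e : ⁅r, d * g * d⁻¹⁆ = d * ⁅d⁻¹ * r * d, g⁆ * d⁻¹ := by
      simp only [commutatorElement_def]; group
    rw [e]
    exact (Subgroup.mem_normalizer_iff.mp hd2 _).mp (hg3 _ hr')

variable [Finite H] {p : ℕ} [Fact p.Prime]

theorem normalizer_le_of_weaklyClosed {Q : Subgroup H} (hwc : Cfsg.IsWeaklyClosedSubgroup p Q)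
    {R : Subgroup H} (hR : IsPGroup p R) (hQR : Q ≤ R) :
    Subgroup.normalizer (R : Set H) ≤ Subgroup.normalizer (Q : Set H) := by
  intro n hn
  rw [← map_conj_eq_self_iff]
  apply weaklyClosed_eq_of_le hwc hR hQR
  rw [← (map_conj_eq_self_iff R n).mpr hn]
  exact map_conj_mono hQR n

/-- Main argument, given that `D = C_H(O_p(L))` has characteristic `p`. -/
theorem main (Q : Subgroup H) (hQp : IsPGroup p ↥Q) (hwc : Cfsg.IsWeaklyClosedSubgroup p Q)
    (hCQ : Subgroup.centralizer ((Q : Subgroup H) : Set H) ≤ Q) (L : Subgroup H) (hQL : Q ≤ L)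
    (hD : IsCharPSub p (Subgroup.centralizer ((opDown p L : Subgroup H) : Set H))) :
    ⁅Q, Subgroup.centralizer ((opDown p L : Subgroup H) : Set H)⁆ ≤ Q ⊓ opDown p L ∧
      IsPGroup p ↥(Subgroup.centralizer ((opDown p L : Subgroup H) : Set H)) := by
  set P := opDown p L with hPdef
  set D := Subgroup.centralizer ((P : Subgroup H) : Set H) with hDdef
  set R₀ := opDown p D with hR₀def
  have hLP : L ≤ Subgroup.normalizer ((P : Subgroup H) : Set H) := le_normalizer_opDown p L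
  have hLD : L ≤ Subgroup.normalizer ((D : Subgroup H) : Set H) :=
    hLP.trans (normalizer_le_normalizer_centralizer P)
  have hLR : L ≤ Subgroup.normalizer ((R₀ : Subgroup H) : Set H) :=
    hLD.trans (normalizer_le_normalizer_opDown p D)
  have hR₀p : IsPGroup p R₀ := opDown_isPGroup p D
  have hR₀D : R₀ ≤ D := opDown_le p D
  have hDR₀ : D ≤ Subgroup.normalizer ((R₀ : Subgroup H) : Set H) := le_normalizer_opDown p D
  have hDP : D ≤ Subgroup.normalizer ((P : Subgroup H) : Set H) :=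
    Subgroup.centralizer_le_normalizer _
  -- (2)
  have hRL : R₀ ⊓ L ≤ P := by
    apply le_opDown p inf_le_right
    · exact (le_inf hLR Subgroup.le_normalizer).trans (inf_normalizer_le_normalizer_inf _ _)
    · exact hR₀p.to_le inf_le_left
  -- (3)
  have hQR₀ : Q ≤ Subgroup.normalizer ((R₀ : Subgroup H) : Set H) := hQL.trans hLR
  have hQR₀p : IsPGroup p ↥(Q ⊔ R₀) := IsPGroup.to_sup_of_normal_right' hQp hR₀p hQR₀
  have hR₀Q : R₀ ≤ Subgroup.normalizer (Q : Set H) :=
    (le_sup_right.trans Subgroup.le_normalizer).trans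
      (normalizer_le_of_weaklyClosed hwc hQR₀p le_sup_left)
  have h3 : ⁅R₀, Q⁆ ≤ R₀ ⊓ P := by
    have h31 : ⁅R₀, Q⁆ ≤ R₀ := commutator_le_of_le_normalizer' R₀ Q hQR₀
    have h32 : ⁅R₀, Q⁆ ≤ Q := commutator_le_right_of_le_normalizer R₀ Q hR₀Q
    exact le_inf h31 ((le_inf h31 (h32.trans hQL)).trans hRL)
  -- (4)
  have hQsec : Q ≤ secCent R₀ (R₀ ⊓ P) := by
    intro q hq
    refine ⟨hQR₀ hq, ?_, ?_⟩
    · exact inf_normalizer_le_normalizer_inf _ _ ⟨hQR₀ hq, hLP (hQL hq)⟩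
    · intro r hr
      exact h3 (Subgroup.commutator_mem_commutator hr hq)
  have hDZ : D ≤ Subgroup.normalizer ((R₀ ⊓ P : Subgroup H) : Set H) :=
    (le_inf hDR₀ hDP).trans (inf_normalizer_le_normalizer_inf _ _)
  have hBsec : ⁅D, Q⁆ ≤ secCent R₀ (R₀ ⊓ P) := by
    rw [Subgroup.commutator_le]
    intro d hd q hq
    rw [commutatorElement_def]
    exact Subgroup.mul_mem _ (conj_mem_secCent _ _ (hQsec hq) (hDR₀ hd) (hDZ hd))
      (Subgroup.inv_mem _ (hQsec hq))
  have hQD : Q ≤ Subgroup.normalizer ((D : Subgroup H) : Set H) := hQL.trans hLD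
  have hBD : ⁅D, Q⁆ ≤ D := commutator_le_of_le_normalizer' D Q hQD
  have hBp : IsPGroup p ↥⁅D, Q⁆ := by
    apply isPGroup_of_coprime_elements_trivial
    intro b hb hcop
    have hbD : b ∈ D := hBD hb
    have hbC : b ∈ Subgroup.centralizer ((R₀ : Subgroup H) : Set H) := by
      rw [Subgroup.mem_centralizer_iff]
      intro r hr
      have hz : ⁅r, b⁆ ∈ R₀ ⊓ P := (hBsec hb).2.2 r hr
      have hzb : ⁅r, b⁆ * b = b * ⁅r, b⁆ := Subgroup.mem_centralizer_iff.mp hbD _ hz.2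
      obtain ⟨k, hk⟩ := exists_pow_eq_one_of_mem hR₀p hz.1
      exact commute_of_coprime_commutator r b hzb k hk hcop
    have hbR : b ∈ R₀ := hD ⟨hbD, hbC⟩
    obtain ⟨j, hj⟩ := exists_pow_eq_one_of_mem hR₀p hbR
    exact eq_one_of_pow_prime_pow_of_coprime b j hj hcop
  have hQB : Q ≤ Subgroup.normalizer ((⁅D, Q⁆ : Subgroup H) : Set H) :=
    le_normalizer_commutator_right D Q
  have hQBp : IsPGroup p ↥(Q ⊔ ⁅D, Q⁆) := IsPGroup.to_sup_of_normal_right' hQp hBp hQB
  have hmapD : ∀ d ∈ D, (Q ⊔ ⁅D, Q⁆).map (MulAut.conj d).toMonoidHom ≤ Q ⊔ ⁅D, Q⁆ := by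
    intro d hd
    rw [Subgroup.map_sup]
    apply sup_le
    · rintro _ ⟨q, hq, rfl⟩
      have e : (MulAut.conj d).toMonoidHom q = ⁅d, q⁆ * q := by
        simp [MulAut.conj_apply, commutatorElement_def]
      rw [e]
      exact Subgroup.mul_mem _ (Subgroup.mem_sup_right (Subgroup.commutator_mem_commutator hd hq))
        (Subgroup.mem_sup_left hq)
    · rw [(map_conj_eq_self_iff _ d).mpr (le_normalizer_commutator_left D Q hd)]
      exact le_sup_right
  have hDQB : D ≤ Subgroup.normalizer ((Q ⊔ ⁅D, Q⁆ : Subgroup H) : Set H) := by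
    intro d hd
    apply mem_normalizer_of_conj_mem
    · intro x hx
      exact hmapD d hd (conj_mem_map_conj _ d hx)
    · intro x hx
      have := hmapD d⁻¹ (D.inv_mem hd) (conj_mem_map_conj _ d⁻¹ hx)
      simpa using this
  have hDQ : D ≤ Subgroup.normalizer (Q : Set H) :=
    hDQB.trans (normalizer_le_of_weaklyClosed hwc hQBp le_sup_left)
  -- (5)
  have hQDR : Q ⊓ D ≤ R₀ := by
    apply le_opDown p inf_le_right
    · exact (le_inf hDQ Subgroup.le_normalizer).trans (inf_normalizer_le_normalizer_inf _ _)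
    · exact hQp.to_le inf_le_left
  have hQDP : Q ⊓ D ≤ P := (le_inf hQDR (inf_le_left.trans hQL)).trans hRL
  have hDp : IsPGroup p ↥D := by
    apply isPGroup_of_coprime_elements_trivial
    intro x hx hcop
    have hcomm : ∀ q ∈ Q, q * x = x * q := by
      intro q hq
      have hc1 : ⁅q, x⁆ ∈ Q := by
        have h2 := (Subgroup.mem_normalizer_iff.mp (hDQ hx) q⁻¹).mp (Q.inv_mem hq)
        have e : ⁅q, x⁆ = q * (x * q⁻¹ * x⁻¹) := by rw [commutatorElement_def]; group
        rw [e]; exact Q.mul_mem hq h2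
      have hc2 : ⁅q, x⁆ ∈ D := by
        have h3 := (Subgroup.mem_normalizer_iff.mp (hQD hq) x).mp hx
        rw [commutatorElement_def]
        exact D.mul_mem h3 (D.inv_mem hx)
      have hc3 : ⁅q, x⁆ ∈ P := hQDP ⟨hc1, hc2⟩
      have hzx : ⁅q, x⁆ * x = x * ⁅q, x⁆ := Subgroup.mem_centralizer_iff.mp hx _ hc3
      obtain ⟨k, hk⟩ := exists_pow_eq_one_of_mem hQp hc1
      exact commute_of_coprime_commutator q x hzx k hk hcop
    have hxC : x ∈ Subgroup.centralizer (Q : Set H) :=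
      Subgroup.mem_centralizer_iff.mpr (fun q hq => hcomm q hq)
    have hxQ := hCQ hxC
    obtain ⟨j, hj⟩ := exists_pow_eq_one_of_mem hQp hxQ
    exact eq_one_of_pow_prime_pow_of_coprime x j hj hcop
  refine ⟨?_, hDp⟩
  have h61 : ⁅Q, D⁆ ≤ Q := commutator_le_of_le_normalizer' Q D hDQ
  have h62 : ⁅Q, D⁆ ≤ D := commutator_le_right_of_le_normalizer Q D hQD
  exact le_inf h61 ((le_inf h61 h62).trans hQDP)

/-- Let Q be a nontrivial p-subgroup of the finite group H that is a weakly closed subgroup with C_H(Q) ≤ Q, and Q ≤ L ≤ H. Suppose H has characteristic p, or more generally that C_H(y) has characteristic p for some nonidentity y ∈ C_{O_p(L)}(Q). Then [Q, C_H(O_p(L))] ≤ Q ∩ O_p(L), C_H(O_p(L)) is a p-group, and L has characteristic p. -/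
theorem result {H : Type*} [Group H] [Finite H] {p : ℕ} [Fact p.Prime] (Q : Subgroup H) (hQp : IsPGroup p ↥Q) (hQ1 : Q ≠ ⊥) (hwc : Cfsg.IsWeaklyClosedSubgroup p Q) (hCQ : Subgroup.centralizer ((Q : Subgroup H) : Set H) ≤ Q) (L : Subgroup H) (hQL : Q ≤ L) (hyp : Subgroup.centralizer (Cfsg.pCore p H : Set H) ≤ Cfsg.pCore p H ∨ ∃ y : H, y ≠ 1 ∧ y ∈ (Cfsg.pCoreOf p L) ⊓ Subgroup.centralizer ((Q : Subgroup H) : Set H) ∧ Subgroup.centralizer (Cfsg.pCore p ↥(Subgroup.centralizer ({y} : Set H)) : Set ↥(Subgroup.centralizer ({y} : Set H))) ≤ Cfsg.pCore p ↥(Subgroup.centralizer ({y} : Set H))) : ⁅Q, Subgroup.centralizer (((Cfsg.pCoreOf p L) : Subgroup H) : Set H)⁆ ≤ Q ⊓ (Cfsg.pCoreOf p L) ∧ IsPGroup p ↥(Subgroup.centralizer (((Cfsg.pCoreOf p L) : Subgroup H) : Set H)) ∧ Subgroup.centralizer (Cfsg.pCore p ↥L : Set ↥L) ≤ Cfsg.pCore p ↥L := by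
  have hpc : Cfsg.pCoreOf p L = opDown p L := by
    unfold Cfsg.pCoreOf; exact map_pCore_eq_opDown p L
  rw [hpc] at hyp ⊢
  have hPp : IsPGroup p (opDown p L) := opDown_isPGroup p L
  have hD : IsCharPSub p (Subgroup.centralizer ((opDown p L : Subgroup H) : Set H)) := by
    rcases hyp with h | ⟨y, hy1, hyP, hyF⟩
    · have h1 := isCharPSub_inf_centralizer (⊤ : Subgroup H) (opDown p L) (isCharPSub_top p h) hPp
        (by rw [Subgroup.normalizer_eq_top]; exact le_top)
      rwa [top_inf_eq] at h1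
    · set F := Subgroup.centralizer ({y} : Set H) with hF
      have hFc : IsCharPSub p F := isCharPSub_of_type p F hyF
      -- P₁ = C_P(y)
      have hyP₁ : y ∈ opDown p L ⊓ F := by
        refine Subgroup.mem_inf.mpr ⟨hyP.1, ?_⟩
        rw [hF, Subgroup.mem_centralizer_iff]
        intro h hh
        have : h = y := hh
        rw [this]
      have hP₁F : opDown p L ⊓ F ≤ Subgroup.normalizer ((F : Subgroup H) : Set H) :=
        inf_le_right.trans Subgroup.le_normalizer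
      have h1 := isCharPSub_inf_centralizer F (opDown p L ⊓ F) hFc (hPp.to_le inf_le_left) hP₁F
      have h2 : F ⊓ Subgroup.centralizer ((opDown p L ⊓ F : Subgroup H) : Set H) =
          Subgroup.centralizer ((opDown p L ⊓ F : Subgroup H) : Set H) := by
        apply inf_eq_right.mpr
        rw [hF]
        apply Subgroup.centralizer_le
        intro h hh
        have : h = y := hh
        rw [this]; exact hyP₁
      rw [h2] at h1
      exact isCharPSub_centralizer_of_le (opDown p L) hPp _ _ inf_le_left le_rfl h1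
  obtain ⟨ha, hb⟩ := main Q hQp hwc hCQ L hQL hD
  exact ⟨ha, hb, Cfsg.Agent.S2845.char_p_of_cent_isPGroup L hb⟩

end Cfsg.Agent.S2842
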