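import Cfsg.Statements.S2843
import Cfsg.Agent.Lib.Helper16.Large
import Cfsg.Agent.Lib.Helper16.LargestPReduced
import Cfsg.Agent.Lib.Helper16.SubnormalResidual

set_option autoImplicit false
open Cfsg
open Cfsg.Agent.Lib.Helper16
open scoped commutatorElement Pointwise

namespace Cfsg.Agent.S2843

variable {H : Type*} [Group H]

theorem map_conj_le_of_mem (Q K : Subgroup H) (hQK : Q ≤ K) {k : H} (hk : k ∈ K) :
    Q.map (MulAut.conj k).toMonoidHom ≤ K := by
  intro x hx
  rw [mem_map_conj_iff] at hx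
  have := K.mul_mem (K.mul_mem hk (hQK hx)) (K.inv_mem hk)
  have e : k * (k⁻¹ * x * k) * k⁻¹ = x := by group
  rwa [e] at this

theorem weakClosure_le (Q L : Subgroup H) : Cfsg.weakClosure Q L ≤ L :=
  iSup_le (fun g => g.2)

theorem inf_normalizer_le (A B : Subgroup H) :
    Subgroup.normalizer (A : Set H) ⊓ Subgroup.normalizer (B : Set H) ≤
      Subgroup.normalizer ((A ⊓ B : Subgroup H) : Set H) := by
  intro n hn
  rw [Subgroup.mem_normalizer_iff]
  intro h
  rw [Subgroup.mem_inf, Subgroup.mem_inf, ← Subgroup.mem_normalizer_iff.mp hn.1 h,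
    ← Subgroup.mem_normalizer_iff.mp hn.2 h]

/-- Claim A: `C(Y)` normalizes every conjugate of the large subgroup `Q` that normalizes `Y`. -/
theorem claimA [Finite H] {p : ℕ} [Fact p.Prime] (Q : Subgroup H) (hQp : IsPGroup p ↥Q)
    (hL : Cfsg.IsLarge Q) (Y : Subgroup H) (hYp : IsPGroup p ↥Y) (hY1 : Y ≠ ⊥) (g : H)
    (hg : Q.map (MulAut.conj g).toMonoidHom ≤ Subgroup.normalizer (Y : Set H)) :
    Subgroup.centralizer (Y : Set H) ≤
      Subgroup.normalizer ((Q.map (MulAut.conj g).toMonoidHom : Subgroup H) : Set H) := by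
  have hUne := inf_centralizer_ne_bot (Q.map (MulAut.conj g).toMonoidHom) Y (hQp.map _) hYp hg hY1
  have h1 := (isLarge_map_conj hL g).2 _ inf_le_right hUne
  refine le_trans ?_ h1
  exact (Subgroup.centralizer_le (inf_le_left : Y ⊓ _ ≤ Y)).trans
    (Subgroup.centralizer_le_normalizer _)

/-- Let Q be a nontrivial large p-subgroup of the finite group H, Q ≤ L ≤ H, and Y a nontrivial p-subgroup of H normalized by L. Let L° be the weak closure of Q in L (generated by the conjugates of Q inside L). Then L° equals the weak closure of Q in L·C_H(Y), and [L°, C_H(Y)] ≤ O_p(L°); in particular C_H(Y) normalizes L°. -/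
theorem result {H : Type*} [Group H] [Finite H] {p : ℕ} [Fact p.Prime] (Q : Subgroup H) (hQp : IsPGroup p ↥Q) (hQ1 : Q ≠ ⊥) (hL : Cfsg.IsLarge Q) (L : Subgroup H) (hQL : Q ≤ L) (Y : Subgroup H) (hYp : IsPGroup p ↥Y) (hY1 : Y ≠ ⊥) (hLY : L ≤ Subgroup.normalizer ((Y : Subgroup H) : Set H)) : Cfsg.weakClosure Q L = Cfsg.weakClosure Q (L ⊔ Subgroup.centralizer ((Y : Subgroup H) : Set H)) ∧ ⁅Cfsg.weakClosure Q L, Subgroup.centralizer ((Y : Subgroup H) : Set H)⁆ ≤ (Cfsg.pCoreOf p (Cfsg.weakClosure Q L)) ∧ Subgroup.centralizer ((Y : Subgroup H) : Set H) ≤ Subgroup.normalizer (((Cfsg.weakClosure Q L) : Subgroup H) : Set H) := by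
  set C := Subgroup.centralizer ((Y : Subgroup H) : Set H) with hC
  have hwc := isWeaklyClosedSubgroup_of_isLarge hQp hQ1 hL
  have hLC : L ≤ Subgroup.normalizer ((C : Subgroup H) : Set H) :=
    hLY.trans (normalizer_le_normalizer_centralizer Y)
  have hA : ∀ g : H, Q.map (MulAut.conj g).toMonoidHom ≤ L →
      C ≤ Subgroup.normalizer ((Q.map (MulAut.conj g).toMonoidHom : Subgroup H) : Set H) :=
    fun g hg => claimA Q hQp hL Y hYp hY1 g (hg.trans hLY)
  have hCQ : C ≤ Subgroup.normalizer (Q : Set H) := by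
    have := hA 1 (by rw [map_conj_one]; exact hQL)
    rwa [map_conj_one] at this
  -- Claim C
  have hmapC : ∀ c ∈ C, (Cfsg.weakClosure Q L).map (MulAut.conj c).toMonoidHom ≤
      Cfsg.weakClosure Q L := by
    intro c hc
    unfold Cfsg.weakClosure
    rw [Subgroup.map_iSup]
    apply iSup_le
    rintro ⟨g, hg⟩
    simp only
    rw [(map_conj_eq_self_iff _ c).mpr (hA g hg hc)]
    exact le_iSup (fun g : {g : H // Q.map (MulAut.conj g).toMonoidHom ≤ L} =>
        Q.map (MulAut.conj (g : H)).toMonoidHom) ⟨g, hg⟩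
  have hCN : C ≤ Subgroup.normalizer (((Cfsg.weakClosure Q L) : Subgroup H) : Set H) := by
    intro c hc
    apply mem_normalizer_of_conj_mem
    · intro x hx
      exact hmapC c hc (conj_mem_map_conj _ c hx)
    · intro x hx
      have := hmapC c⁻¹ (C.inv_mem hc) (conj_mem_map_conj _ c⁻¹ hx)
      simpa using this
  refine ⟨?_, ?_, hCN⟩
  · -- Claim B
    apply le_antisymm
    · apply iSup_le
      rintro ⟨g, hg⟩
      exact le_iSup (fun g : {g : H // Q.map (MulAut.conj g).toMonoidHom ≤ L ⊔ C} =>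
        Q.map (MulAut.conj (g : H)).toMonoidHom) ⟨g, hg.trans le_sup_left⟩
    · apply iSup_le
      rintro ⟨g, hg⟩
      obtain ⟨k, hk, hkeq⟩ := weaklyClosed_conj_in hwc (L ⊔ C) (hQL.trans le_sup_left) g hg
      have hk' : k ∈ ((L ⊔ C : Subgroup H) : Set H) := hk
      rw [Subgroup.coe_mul_of_left_le_normalizer_right L C hLC] at hk'
      obtain ⟨l, hl, c, hc, rfl⟩ := hk'
      simp only
      rw [hkeq, ← map_conj_map_conj, (map_conj_eq_self_iff Q c).mpr (hCQ hc)]
      exact le_iSup (fun g : {g : H // Q.map (MulAut.conj g).toMonoidHom ≤ L} =>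
        Q.map (MulAut.conj (g : H)).toMonoidHom) ⟨l, map_conj_le_of_mem Q L hQL hl⟩
  · -- Claim D
    have hpc : Cfsg.pCoreOf p (Cfsg.weakClosure Q L) = opDown p (Cfsg.weakClosure Q L) := by
      unfold Cfsg.pCoreOf; exact map_pCore_eq_opDown p _
    rw [hpc]
    have hLN : L ≤ Subgroup.normalizer ((opDown p C : Subgroup H) : Set H) :=
      hLC.trans (normalizer_le_normalizer_opDown p C)
    have hle : ⁅Cfsg.weakClosure Q L, C⁆ ≤ opDown p C := by
      rw [Subgroup.commutator_le]
      intro x hx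
      have key : x ∈ Subgroup.normalizer ((opDown p C : Subgroup H) : Set H) ∧
          ∀ c ∈ C, ⁅x, c⁆ ∈ opDown p C := by
        unfold Cfsg.weakClosure at hx
        refine Subgroup.iSup_induction _ (C := fun x =>
          x ∈ Subgroup.normalizer ((opDown p C : Subgroup H) : Set H) ∧
          ∀ c ∈ C, ⁅x, c⁆ ∈ opDown p C) hx ?_ ?_ ?_
        · rintro ⟨g, hg⟩ x hx
          simp only at hx
          refine ⟨hLN (hg hx), ?_⟩
          intro c hc
          have h1 : ⁅x, c⁆ ∈ Q.map (MulAut.conj g).toMonoidHom := by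
            have h2 := (Subgroup.mem_normalizer_iff.mp (hA g hg hc) x⁻¹).mp (Subgroup.inv_mem _ hx)
            have e : ⁅x, c⁆ = x * (c * x⁻¹ * c⁻¹) := by rw [commutatorElement_def]; group
            rw [e]; exact Subgroup.mul_mem _ hx h2
          have h2 : ⁅x, c⁆ ∈ C := by
            have h3 := (Subgroup.mem_normalizer_iff.mp (hLC (hg hx)) c).mp hc
            rw [commutatorElement_def]
            exact C.mul_mem h3 (C.inv_mem hc)
          have h3 : Q.map (MulAut.conj g).toMonoidHom ⊓ C ≤ opDown p C := by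
            apply le_opDown p inf_le_right
            · exact (le_inf (hA g hg) Subgroup.le_normalizer).trans (inf_normalizer_le _ _)
            · exact (hQp.map _).to_le inf_le_left
          exact h3 ⟨h1, h2⟩
        · refine ⟨Subgroup.one_mem _, ?_⟩
          intro c _
          rw [commutatorElement_one_left]; exact Subgroup.one_mem _
        · intro x y hx hy
          refine ⟨Subgroup.mul_mem _ hx.1 hy.1, ?_⟩
          intro c hc
          have e : ⁅x * y, c⁆ = x * ⁅y, c⁆ * x⁻¹ * ⁅x, c⁆ := by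
            simp only [commutatorElement_def]; group
          rw [e]
          exact Subgroup.mul_mem _ ((Subgroup.mem_normalizer_iff.mp hx.1 _).mp (hy.2 c hc))
            (hx.2 c hc)
      exact key.2
    apply le_opDown p
    · exact commutator_le_of_le_normalizer' _ _ hCN
    · exact le_normalizer_commutator_left _ _
    · exact (opDown_isPGroup p C).to_le hle

end Cfsg.Agent.S2843
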