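import Cfsg.Statements.S2846
import Cfsg.Agent.Lib.Helper16.FrakMExist
import Cfsg.Agent.S2843
import Cfsg.Agent.S2845

set_option autoImplicit false
open Cfsg
open Cfsg.Agent.Lib.Helper16
open scoped commutatorElement Pointwise

namespace Cfsg.Agent.S2846

/-- If `K ≤ N(Q)` for a weakly closed subgroup `Q ≤ K`, then the weak closure of `Q` in `K` is `Q`. -/
theorem weakClosure_eq_of_le_normalizer {H : Type*} [Group H] [Finite H] {p : ℕ} [Fact p.Prime]
    {Q : Subgroup H} (hwc : Cfsg.IsWeaklyClosedSubgroup p Q) (K : Subgroup H) (hQK : Q ≤ K)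
    (h : K ≤ Subgroup.normalizer (Q : Set H)) : Cfsg.weakClosure Q K = Q := by
  apply le_antisymm
  · apply iSup_le
    rintro ⟨g, hg⟩
    obtain ⟨k, hk, hkeq⟩ := weaklyClosed_conj_in hwc K hQK g hg
    simp only
    rw [hkeq, (map_conj_eq_self_iff Q k).mpr (h hk)]
  · have := le_iSup (fun g : {g : H // Q.map (MulAut.conj g).toMonoidHom ≤ K} =>
        Q.map (MulAut.conj (g : H)).toMonoidHom) ⟨1, by rw [map_conj_one]; exact hQK⟩
    simp only at this
    rwa [map_conj_one] at this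

/-- If the weak closure of `Q` in `K ≥ Q` is `Q`, then `K` normalizes `Q`. -/
theorem le_normalizer_of_weakClosure_eq {H : Type*} [Group H] [Finite H]
    {Q : Subgroup H} (K : Subgroup H) (hQK : Q ≤ K)
    (h : Cfsg.weakClosure Q K = Q) : K ≤ Subgroup.normalizer (Q : Set H) := by
  intro l hl
  rw [← map_conj_eq_self_iff]
  apply map_conj_eq_of_le
  have h1 : Q.map (MulAut.conj l).toMonoidHom ≤ K :=
    Cfsg.Agent.S2843.map_conj_le_of_mem Q K hQK hl
  have := le_iSup (fun g : {g : H // Q.map (MulAut.conj g).toMonoidHom ≤ K} =>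
        Q.map (MulAut.conj (g : H)).toMonoidHom) ⟨l, h1⟩
  simp only at this
  exact this.trans_eq h

/-- Let Q be a nontrivial large p-subgroup of the finite group H, S a Sylow p-subgroup containing Q, and L a subgroup containing S with O_p(L) ≠ 1 and C_H(O_p(L)) ≤ O_p(L). Then there are a subgroup M containing S having the basic property (M ∈ 𝔐_H, writing Y_X for the largest p-reduced normal subgroup of X and 𝓛_H for the set of subgroups X with O_p(X) ≠ 1 and C_H(O_p(X)) ≤ O_p(X): M ∈ 𝓛_H, M·C_H(Y_M) is the only maximal member of 𝓛_H containing M and its largest p-reduced normal subgroup is again Y_M, C_M(Y_M) is p-closed, and the image of C_M(Y_M) in M/O_p(M) lies in the Frattini subgroup of M/O_p(M)) and a subgroup L* with S ≤ L* ≤ M, O_p(L*) ≠ 1, C_H(O_p(L*)) ≤ O_p(L*), such that L·C_H(Y_L) = L*·C_H(Y_L), the weak closures of Q in L and in L* agree and lie in that of M, and Y_L = Y_{L*} ≤ Y_M. If moreover Q is not normal in L, then Q is normal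 in neither L* nor M. -/
theorem result {H : Type*} [Group H] [Finite H] {p : ℕ} [Fact p.Prime] (Q : Subgroup H) (hQp : IsPGroup p ↥Q) (hQ1 : Q ≠ ⊥) (hLg : Cfsg.IsLarge Q) (S : Sylow p H) (hQS : Q ≤ (S : Subgroup H)) (L : Subgroup H) (hSL : (S : Subgroup H) ≤ L) (hL : L ∈ Cfsg.charPSubgroups p H) : ∃ M Ls : Subgroup H, (S : Subgroup H) ≤ M ∧ Cfsg.IsInFrakM p M ∧ (S : Subgroup H) ≤ Ls ∧ Ls ≤ M ∧ Ls ∈ Cfsg.charPSubgroups p H ∧ L ⊔ Subgroup.centralizer (((Cfsg.largestPReducedOf p L) : Subgroup H) : Set H) = Ls ⊔ Subgroup.centralizer (((Cfsg.largestPReducedOf p L) : Subgroup H) : Set H) ∧ Cfsg.weakClosure Q L = Cfsg.weakClosure Q Ls ∧ Cfsg.weakClosure Q Ls ≤ Cfsg.weakClosure Q M ∧ (Cfsg.largestPReducedOf p L) = (Cfsg.largestPReducedOf p Ls) ∧ (Cfsg.largestPReducedOf p Ls) ≤ (Cfsg.largestPReducedOf p M) ∧ (¬ L ≤ Subgroup.normalizer ((Q : Subgroup H) : Set H) → ¬ Ls ≤ Subgroup.normalizer ((Q : Subgroup H) : Set H) ∧ ¬ M ≤ Subgroup.normalizer ((Q : Subgroup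 H) : Set H)) := by
  have hpar := (Cfsg.Agent.S2845.result Q hQp hQ1 hLg).2.1
  have hwc := isWeaklyClosedSubgroup_of_isLarge hQp hQ1 hLg
  obtain ⟨M, Ls, hSM, hM, hSLs, hLsM, hLs, hY, hYM, hfac⟩ := exists_frakM hpar S L hSL hL
  have hS1 := sylow_ne_bot_of_mem_charPSubgroups S hSL hL
  have hLrel := relCharP_of_mem_charPSubgroups hL
  have hYL1 := largestPReducedOf_ne_bot S L hSL hLrel hS1
  have hYLp : IsPGroup p (Cfsg.largestPReducedOf p L) :=
    isElementaryAbelian_isPGroup (largestPReducedOf_isElementaryAbelian p L)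
  have hQL : Q ≤ L := hQS.trans hSL
  have hQLs : Q ≤ Ls := hQS.trans hSLs
  have hLsN : Ls ≤ Subgroup.normalizer ((Cfsg.largestPReducedOf p L : Subgroup H) : Set H) := by
    rw [hY]; exact le_normalizer_largestPReducedOf p Ls
  have hw1 := (Cfsg.Agent.S2843.result Q hQp hQ1 hLg L hQL _ hYLp hYL1
    (le_normalizer_largestPReducedOf p L)).1
  have hw2 := (Cfsg.Agent.S2843.result Q hQp hQ1 hLg Ls hQLs _ hYLp hYL1 hLsN).1
  have hw : Cfsg.weakClosure Q L = Cfsg.weakClosure Q Ls := by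
    rw [hw1, hw2, hfac]
  refine ⟨M, Ls, hSM, hM, hSLs, hLsM, hLs, hfac, hw, ?_, hY, hY ▸ hYM, ?_⟩
  · apply iSup_le
    rintro ⟨g, hg⟩
    exact le_iSup (fun g : {g : H // Q.map (MulAut.conj g).toMonoidHom ≤ M} =>
        Q.map (MulAut.conj (g : H)).toMonoidHom) ⟨g, hg.trans hLsM⟩
  · intro hLQ
    have h1 : ¬ Ls ≤ Subgroup.normalizer ((Q : Subgroup H) : Set H) := by
      intro h
      apply hLQ
      apply le_normalizer_of_weakClosure_eq L hQL
      rw [hw]
      exact weakClosure_eq_of_le_normalizer hwc Ls hQLs h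
    exact ⟨h1, fun h => h1 (hLsM.trans h)⟩

end Cfsg.Agent.S2846
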