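import Cfsg.Statements.S2847
import Cfsg.Agent.Lib.Helper16.FrakMExist

set_option autoImplicit false
open Cfsg
open Cfsg.Agent.Lib.Helper16
open scoped commutatorElement Pointwise

namespace Cfsg.Agent.S2847

/-- Parabolic characteristic `p` in the form used by the library. -/
theorem hpar_of_isOfParabolicCharacteristic {H : Type*} [Group H] [Finite H] {p : ℕ}
    [Fact p.Prime] (hH : Cfsg.IsOfParabolicCharacteristic p H) :
    ∀ R : Subgroup H, Cfsg.IsParabolic p R → Cfsg.pCore p ↥R ≠ ⊥ →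
      Subgroup.centralizer ((Cfsg.pCoreOf p R : Subgroup H) : Set H) ≤ Cfsg.pCoreOf p R := by
  rintro X ⟨T', hT'X⟩ hne
  rw [pCoreOf_eq_opDown]
  set R := opDown p X with hR
  have hRp : IsPGroup p R := opDown_isPGroup p X
  have hR1 : R ≠ ⊥ := by
    intro h
    apply hne
    rw [hR, ← map_pCore_eq_opDown] at h
    exact (Subgroup.map_eq_bot_iff_of_injective _ (Subgroup.subtype_injective X)).mp h
  have hXN : X ≤ Subgroup.normalizer (R : Set H) := le_normalizer_opDown p X
  have hN := hH R hRp hR1 ⟨T', hT'X.trans hXN⟩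
  have hNc := isCharPSub_of_type p _ hN
  have hRN : opDown p (Subgroup.normalizer (R : Set H)) = R := by
    apply le_antisymm
    · apply le_opDown p
      · exact (opDown_le_sylow T' _ (hT'X.trans hXN)).trans hT'X
      · exact hXN.trans (le_normalizer_opDown p _)
      · exact opDown_isPGroup p _
    · exact le_opDown p Subgroup.le_normalizer le_rfl hRp
  intro c hc
  have h1 : c ∈ Subgroup.normalizer (R : Set H) ⊓
      Subgroup.centralizer ((opDown p (Subgroup.normalizer (R : Set H)) : Subgroup H) : Set H) :=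
    Subgroup.mem_inf.mpr ⟨Subgroup.centralizer_le_normalizer _ hc, by rw [hRN]; exact hc⟩
  have := hNc h1
  rwa [hRN] at this

/-- Let H be a finite group of parabolic characteristic p, T a Sylow p-subgroup and L a subgroup containing T with O_p(L) ≠ 1 and C_H(O_p(L)) ≤ O_p(L). Then there are M ≥ T with the basic property (M ∈ 𝔐_H) and L* with T ≤ L* ≤ M, O_p(L*) ≠ 1, C_H(O_p(L*)) ≤ O_p(L*), such that Y_L = Y_{L*} ≤ Y_M and L·C_H(Y_L) = L*·C_H(Y_L), Y denoting largest p-reduced normal subgroups. -/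
theorem result {H : Type*} [Group H] [Finite H] {p : ℕ} [Fact p.Prime] (hH : Cfsg.IsOfParabolicCharacteristic p H) (T : Sylow p H) (L : Subgroup H) (hTL : (T : Subgroup H) ≤ L) (hL : L ∈ Cfsg.charPSubgroups p H) : ∃ M Ls : Subgroup H, (T : Subgroup H) ≤ M ∧ Cfsg.IsInFrakM p M ∧ (T : Subgroup H) ≤ Ls ∧ Ls ≤ M ∧ Ls ∈ Cfsg.charPSubgroups p H ∧ (Cfsg.largestPReducedOf p L) = (Cfsg.largestPReducedOf p Ls) ∧ (Cfsg.largestPReducedOf p L) ≤ (Cfsg.largestPReducedOf p M) ∧ L ⊔ Subgroup.centralizer (((Cfsg.largestPReducedOf p L) : Subgroup H) : Set H) = Ls ⊔ Subgroup.centralizer (((Cfsg.largestPReducedOf p L) : Subgroup H) : Set H) := by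
  exact exists_frakM (hpar_of_isOfParabolicCharacteristic hH) T L hTL hL

end Cfsg.Agent.S2847
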