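import Cfsg.Statements.S2848
import Cfsg.Agent.Lib.Helper16.FrakM
import Cfsg.Agent.S2839

set_option autoImplicit false
open Cfsg
open Cfsg.Agent.Lib.Helper16
open scoped commutatorElement Pointwise

namespace Cfsg.Agent.S2848

/-- Standing hypotheses: G a finite group, S a Sylow p-subgroup, Q a nontrivial large p-subgroup of G contained in S (C_G(Q) ≤ Q and N_G(U) ≤ N_G(Q) for all nontrivial U ≤ C_G(Q)), and M a subgroup containing S with the basic property (M ∈ 𝔐_G(S)); Y_M denotes the largest p-reduced normal subgroup of M and M† = M·C_G(Y_M). Then O_p(M) is a weakly closed subgroup of M† (for p): it is the only M†-conjugate of itself inside some Sylow p-subgroup of M† containing it. -/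
theorem result {G : Type*} [Group G] [Finite G] {p : ℕ} [Fact p.Prime] (S : Sylow p G) (Q : Subgroup G) (hQp : IsPGroup p ↥Q) (hQ1 : Q ≠ ⊥) (hQS : Q ≤ (S : Subgroup G)) (hQ : Cfsg.IsLarge Q) (M : Subgroup G) (hSM : (S : Subgroup G) ≤ M) (hM : Cfsg.IsInFrakM p M) : Cfsg.IsWeaklyClosedSubgroup p (((Cfsg.pCoreOf p M)).subgroupOf (M ⊔ Subgroup.centralizer (((Cfsg.largestPReducedOf p M) : Subgroup G) : Set G))) := by
  set C := Subgroup.centralizer ((Cfsg.largestPReducedOf p M : Subgroup G) : Set G) with hC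
  set QM := Cfsg.pCoreOf p M with hQM
  have hSMd : (S : Subgroup G) ≤ M ⊔ C := hSM.trans le_sup_left
  have hQS : QM ≤ (S : Subgroup G) := by
    rw [hQM, pCoreOf_eq_opDown]; exact opDown_le_sylow S M hSM
  have hQMM : QM ≤ M := by rw [hQM, pCoreOf_eq_opDown]; exact opDown_le p M
  have hQp : IsPGroup p QM := by rw [hQM, pCoreOf_eq_opDown]; exact opDown_isPGroup p M
  refine ⟨S.subtype hSMd, ?_, ?_⟩
  · rw [Sylow.coe_subtype]
    intro x hx
    exact hQS hx
  · intro g hg
    rw [Cfsg.Agent.S2839.subgroupOf_map_conj] at hg ⊢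
    rw [Sylow.coe_subtype] at hg
    have hgMd : QM.map (MulAut.conj (g : G)).toMonoidHom ≤ M ⊔ C :=
      Cfsg.Agent.S2840.conj_le_of_mem QM (M ⊔ C) (hQMM.trans le_sup_left) g.2
    have h1 : QM.map (MulAut.conj (g : G)).toMonoidHom ≤ (S : Subgroup G) := by
      intro x hx
      exact hg (show (⟨x, hgMd hx⟩ : ↥(M ⊔ C)) ∈
        (QM.map (MulAut.conj (g : G)).toMonoidHom).subgroupOf (M ⊔ C) from hx)
    have h2 : QM.map (MulAut.conj (g : G)).toMonoidHom ≤ QM := by
      apply frakM_le_pCoreOf hM _ (hQp.map _)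
      apply le_inf (h1.trans hSM)
      rintro _ ⟨y, hy, rfl⟩
      show (MulAut.conj (g : G)) y ∈ _
      rw [MulAut.conj_apply]
      exact conj_mem_of_mem_normalizer (dagger_le_normalizer_centralizer M g.2)
        (pCoreOf_le_centralizer_largestPReducedOf M hy)
    rw [map_conj_eq_of_le QM (g : G) h2]

end Cfsg.Agent.S2848
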