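import Cfsg.Statements.S2849
import Cfsg.Agent.Lib.Helper16.FrakM

set_option autoImplicit false
open Cfsg
open Cfsg.Agent.Lib.Helper16
open Cfsg.Agent.S2840
open scoped commutatorElement Pointwise

namespace Cfsg.Agent.S2849

/-- Standing hypotheses: G a finite group, S a Sylow p-subgroup, Q a nontrivial large p-subgroup of G contained in S (C_G(Q) ≤ Q and N_G(U) ≤ N_G(Q) for all nontrivial U ≤ C_G(Q)), and M a subgroup containing S with the basic property (M ∈ 𝔐_G(S)); Y_M denotes the largest p-reduced normal subgroup of M and M† = M·C_G(Y_M). Suppose Y_M is asymmetric in G. Then for every subgroup R with Y_M ≤ R ≤ M†, the normal closure of Y_M in N_G(R) is elementary abelian. -/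
theorem result {G : Type*} [Group G] [Finite G] {p : ℕ} [Fact p.Prime] (S : Sylow p G) (Q : Subgroup G) (hQp : IsPGroup p ↥Q) (hQ1 : Q ≠ ⊥) (hQS : Q ≤ (S : Subgroup G)) (hQ : Cfsg.IsLarge Q) (M : Subgroup G) (hSM : (S : Subgroup G) ≤ M) (hM : Cfsg.IsInFrakM p M) (hasym : ¬ Cfsg.IsSymmetricIn (Cfsg.largestPReducedOf p M)) (R : Subgroup G) (hYR : (Cfsg.largestPReducedOf p M) ≤ R) (hRM : R ≤ (M ⊔ Subgroup.centralizer (((Cfsg.largestPReducedOf p M) : Subgroup G) : Set G))) : Cfsg.IsElementaryAbelian p ((Subgroup.normalClosure ((((Cfsg.largestPReducedOf p M)).subgroupOf (Subgroup.normalizer ((R : Subgroup G) : Set G)) : Subgroup ↥(Subgroup.normalizer ((R : Subgroup G) : Set G))) : Set ↥(Subgroup.normalizer ((R : Subgroup G) : Set G)))).map (Subgroup.normalizer ((R : Subgroup G) : Set G)).subtype) := by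
  set Y := Cfsg.largestPReducedOf p M with hY
  set K := Subgroup.normalizer ((R : Subgroup G) : Set G) with hK
  have hYK : Y ≤ K := hYR.trans Subgroup.le_normalizer
  have hRN : R ≤ Subgroup.normalizer (Y : Set G) := hRM.trans (dagger_le_normalizer M)
  have key : ∀ x ∈ K, Y.map (MulAut.conj x).toMonoidHom ≤ Subgroup.centralizer (Y : Set G) := by
    intro x hx
    have h1 : Y.map (MulAut.conj x).toMonoidHom ≤ R :=
      (map_conj_mono hYR x).trans_eq ((map_conj_eq_self_iff R x).mpr hx)
    have h2 : Y.map (MulAut.conj x⁻¹).toMonoidHom ≤ R :=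
      (map_conj_mono hYR x⁻¹).trans_eq ((map_conj_eq_self_iff R x⁻¹).mpr (K.inv_mem hx))
    have h3 := commutator_eq_bot_of_not_isSymmetricIn hasym x (h1.trans hRN) (h2.trans hRN)
    rw [Subgroup.commutator_comm, Subgroup.commutator_eq_bot_iff_le_centralizer] at h3
    exact h3
  have hEA : Cfsg.IsElementaryAbelian p (conjJoin Y K) := by
    unfold conjJoin
    apply isElementaryAbelian_iSup
    · intro k
      exact isElementaryAbelian_map_conj (largestPReducedOf_isElementaryAbelian p M) _
    · intro a b u hu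
      rw [mem_centralizer_map_conj_iff]
      apply key ((b : G)⁻¹ * (a : G)) (K.mul_mem (K.inv_mem b.2) a.2)
      rw [mem_map_conj_iff]
      rw [mem_map_conj_iff] at hu
      have e : ((b : G)⁻¹ * (a : G))⁻¹ * ((b : G)⁻¹ * u * (b : G)) * ((b : G)⁻¹ * (a : G)) =
          (a : G)⁻¹ * u * (a : G) := by group
      rw [e]; exact hu
  have hle : (Subgroup.normalClosure ((Y.subgroupOf K : Subgroup ↥K) : Set ↥K)).map K.subtype ≤
      conjJoin Y K := by
    have hn : ((conjJoin Y K).subgroupOf K).Normal :=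
      (Subgroup.normal_subgroupOf_iff_le_normalizer (conjJoin_le Y K hYK)).mpr
        (le_normalizer_conjJoin Y K)
    have h1 : Subgroup.normalClosure ((Y.subgroupOf K : Subgroup ↥K) : Set ↥K) ≤
        (conjJoin Y K).subgroupOf K :=
      Subgroup.normalClosure_le_normal (fun x hx => le_conjJoin Y K hx)
    have h2 := Subgroup.map_mono (f := K.subtype) h1
    rwa [Subgroup.map_subgroupOf_eq_of_le (conjJoin_le Y K hYK)] at h2
  exact isElementaryAbelian_of_le hle hEA

end Cfsg.Agent.S2849
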