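import Cfsg.Statements.S2850
import Cfsg.Agent.Lib.Helper16.FrakM2
import Cfsg.Agent.S2838
import Cfsg.Agent.S2845

set_option autoImplicit false
open Cfsg
open Cfsg.Agent.Lib.Helper16
open scoped commutatorElement Pointwise

namespace Cfsg.Agent.S2850

/-- Standing hypotheses: G a finite group, S a Sylow p-subgroup, Q a nontrivial large p-subgroup of G contained in S (C_G(Q) ≤ Q and N_G(U) ≤ N_G(Q) for all nontrivial U ≤ C_G(Q)), and M a subgroup containing S with the basic property (M ∈ 𝔐_G(S)); Y_M denotes the largest p-reduced normal subgroup of M and M† = M·C_G(Y_M). Suppose Y_M is asymmetric in G. Then N_G(L) ≤ N_G(O_p(M)) ≤ M† for every p-subgroup L containing O_p(M); O_p(M) is a weakly closed subgroup of G; for every subgroup L containing O_p(M), L ∩ M† contains a Sylow p-subgroup of L; and two elements of Y_M conjugate in G are conjugate in M. -/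
theorem result {G : Type*} [Group G] [Finite G] {p : ℕ} [Fact p.Prime] (S : Sylow p G) (Q : Subgroup G) (hQp : IsPGroup p ↥Q) (hQ1 : Q ≠ ⊥) (hQS : Q ≤ (S : Subgroup G)) (hQ : Cfsg.IsLarge Q) (M : Subgroup G) (hSM : (S : Subgroup G) ≤ M) (hM : Cfsg.IsInFrakM p M) (hasym : ¬ Cfsg.IsSymmetricIn (Cfsg.largestPReducedOf p M)) : (∀ L : Subgroup G, IsPGroup p ↥L → (Cfsg.pCoreOf p M) ≤ L → Subgroup.normalizer ((L : Subgroup G) : Set G) ≤ Subgroup.normalizer (((Cfsg.pCoreOf p M) : Subgroup G) : Set G) ∧ Subgroup.normalizer (((Cfsg.pCoreOf p M) : Subgroup G) : Set G) ≤ (M ⊔ Subgroup.centralizer (((Cfsg.largestPReducedOf p M) : Subgroup G) : Set G))) ∧ Cfsg.IsWeaklyClosedSubgroup p (Cfsg.pCoreOf p M) ∧ (∀ L : Subgroup G, (Cfsg.pCoreOf p M) ≤ L → Cfsg.IsParabolic p ((L ⊓ (M ⊔ Subgroup.centralizer (((Cfsg.largestPReducedOf p M) : Subgroup G) : Set G))).subgroupOf L)) ∧ (∀ x ∈ (Cfsg.largestPReducedOf p M), ∀ g : G, g * x * g⁻¹ ∈ (Cfsg.largestPReducedOf p M)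 → ∃ m ∈ M, m * x * m⁻¹ = g * x * g⁻¹) := by
  have hpar := (Cfsg.Agent.S2845.result Q hQp hQ1 hQ).2.1
  set Y := Cfsg.largestPReducedOf p M with hY
  set C := Subgroup.centralizer (Y : Set G) with hC
  set QM := Cfsg.pCoreOf p M with hQM
  have hQMp : IsPGroup p QM := by rw [hQM, pCoreOf_eq_opDown]; exact opDown_isPGroup p M
  have hQMne : QM ≠ ⊥ := pCoreOf_ne_bot_of_mem_charPSubgroups hM.1
  have hQC : QM ≤ C := pCoreOf_le_centralizer_largestPReducedOf M
  have ha : ∀ L : Subgroup G, IsPGroup p ↥L → QM ≤ L →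
      Subgroup.normalizer (L : Set G) ≤ Subgroup.normalizer (QM : Set G) :=
    frakM_normalizer_pgroup_le hM S hSM hasym hpar
  have hwc : Cfsg.IsWeaklyClosedSubgroup p QM :=
    ((Cfsg.Agent.S2838.result QM hQMp hQMne).2).mpr ha
  refine ⟨fun L hL hQL => ⟨ha L hL hQL, frakM_normalizer_pCoreOf_le hM⟩, hwc, ?_, ?_⟩
  · intro L hQL
    have hp : IsPGroup p (QM.subgroupOf L) := hQMp.comap_subtype
    obtain ⟨P, hP⟩ := hp.exists_le_sylow
    refine ⟨P, ?_⟩
    have hP' : IsPGroup p ((P : Subgroup ↥L).map L.subtype) := P.2.map _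
    have hQP : QM ≤ (P : Subgroup ↥L).map L.subtype := fun q hq =>
      ⟨⟨q, hQL hq⟩, hP (by rw [Subgroup.mem_subgroupOf]; exact hq), rfl⟩
    have h1 := (frakM_pgroup_le_normalizer hM S hSM hasym hpar _ hP' hQP).trans
      (frakM_normalizer_pCoreOf_le hM)
    intro x hx
    rw [Subgroup.mem_subgroupOf]
    exact Subgroup.mem_inf.mpr ⟨x.2, h1 ⟨x, hx, rfl⟩⟩
  · intro x hx g hgx
    set y := g * x * g⁻¹ with hy
    have hQLy : QM ≤ Subgroup.centralizer ({y} : Set G) := by
      intro q hq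
      rw [Subgroup.mem_centralizer_iff]
      intro h hh
      rw [Set.mem_singleton_iff.mp hh]
      exact Subgroup.mem_centralizer_iff.mp (hQC hq) y hgx
    have hgQLy : QM.map (MulAut.conj g).toMonoidHom ≤ Subgroup.centralizer ({y} : Set G) := by
      intro z hz
      rw [mem_map_conj_iff] at hz
      have h1 : x * (g⁻¹ * z * g) = (g⁻¹ * z * g) * x :=
        Subgroup.mem_centralizer_iff.mp (hQC hz) x hx
      rw [Subgroup.mem_centralizer_iff]
      intro h hh
      rw [Set.mem_singleton_iff.mp hh, hy]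
      calc g * x * g⁻¹ * z = g * (x * (g⁻¹ * z * g)) * g⁻¹ := by group
        _ = g * ((g⁻¹ * z * g) * x) * g⁻¹ := by rw [h1]
        _ = z * (g * x * g⁻¹) := by group
    obtain ⟨c, hc, hceq⟩ := weaklyClosed_conj_in hwc _ hQLy g hgQLy
    have hn : c⁻¹ * g ∈ Subgroup.normalizer (QM : Set G) := by
      rw [← map_conj_eq_self_iff, ← map_conj_map_conj, hceq, map_conj_map_conj, inv_mul_cancel,
        map_conj_one]
    have hMd : c⁻¹ * g ∈ ((M ⊔ C : Subgroup G) : Set G) := frakM_normalizer_pCoreOf_le hM hn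
    rw [Subgroup.coe_mul_of_left_le_normalizer_right M C
      (le_sup_left.trans (dagger_le_normalizer_centralizer M))] at hMd
    obtain ⟨m, hm, c', hc', hmc⟩ := hMd
    refine ⟨m, hm, ?_⟩
    have hxc' : x * c' = c' * x := Subgroup.mem_centralizer_iff.mp hc' x hx
    have hcy : y * c = c * y := Subgroup.mem_centralizer_iff.mp hc y rfl
    have e1 : c' * x * c'⁻¹ = x := by rw [← hxc']; group
    have hmc' : m * c' = c⁻¹ * g := hmc
    calc m * x * m⁻¹ = m * (c' * x * c'⁻¹) * m⁻¹ := by rw [e1]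
      _ = (m * c') * x * (m * c')⁻¹ := by group
      _ = (c⁻¹ * g) * x * (c⁻¹ * g)⁻¹ := by rw [hmc']
      _ = c⁻¹ * (g * x * g⁻¹) * c := by group
      _ = c⁻¹ * y * c := by rw [hy]
      _ = y := by rw [mul_assoc, hcy, ← mul_assoc, inv_mul_cancel, one_mul]

end Cfsg.Agent.S2850
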