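import Cfsg.Statements.S2851
import Cfsg.Agent.Lib.Helper16.GenFittingPre
import Cfsg.Agent.Lib.Helper16.PReducedClosure
import Cfsg.Agent.Lib.Helper16.LargestOf
import Cfsg.Agent.Lib.Helper16.FrakM2
import Cfsg.Agent.S2850

set_option autoImplicit false
set_option maxHeartbeats 1000000
open Cfsg
open Cfsg.Agent.Lib.Helper16
open scoped commutatorElement Pointwise

namespace Cfsg.Agent.S2851

/-- Standing hypotheses: G a finite group, S a Sylow p-subgroup, Q a nontrivial large p-subgroup of G contained in S, M a subgroup containing S with the basic property (M ∈ 𝔐_G(S)); Y_M the largest p-reduced normal subgroup of M and M† = M·C_G(Y_M). Let F be the preimage in M† of the generalized Fitting subgroup of M†/C_{M†}(Y_M). If Y_M is asymmetric in G and H is a subgroup of characteristic p containing F, then Y_M ≤ Y_H. -/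
theorem result {G : Type*} [Group G] [Finite G] {p : ℕ} [Fact p.Prime] (S : Sylow p G) (Q : Subgroup G) (hQp : IsPGroup p ↥Q) (hQ1 : Q ≠ ⊥) (hQS : Q ≤ (S : Subgroup G)) (hQ : Cfsg.IsLarge Q) (M : Subgroup G) (hSM : (S : Subgroup G) ≤ M) (hM : Cfsg.IsInFrakM p M) (hasym : ¬ Cfsg.IsSymmetricIn (Cfsg.largestPReducedOf p M)) [hn : ((Subgroup.centralizer (((Cfsg.largestPReducedOf p M) : Subgroup G) : Set G)).subgroupOf (M ⊔ Subgroup.centralizer (((Cfsg.largestPReducedOf p M) : Subgroup G) : Set G))).Normal] (F : Subgroup G) (hF : F = ((Cfsg.generalizedFittingSubgroup (↥(M ⊔ Subgroup.centralizer (((Cfsg.largestPReducedOf p M) : Subgroup G) : Set G)) ⧸ (Subgroup.centralizer (((Cfsg.largestPReducedOf p M) : Subgroup G) : Set G)).subgroupOf (M ⊔ Subgroup.centralizer (((Cfsg.largestPReducedOf p M) : Subgroup G) : Set G)))).comap (QuotientGroup.mk' ((Subgroup.centralizer (((Cfsg.largestPReducedOf p M) : Subgroup G) : Set G)).subgroupOf (M ⊔ Subgroup.centralizer (((Cfsg.largestPReducedOf p M)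 : Subgroup G) : Set G))))).map ((M ⊔ Subgroup.centralizer (((Cfsg.largestPReducedOf p M) : Subgroup G) : Set G))).subtype) (H : Subgroup G) (hFH : F ≤ H) (hH : Subgroup.centralizer (Cfsg.pCore p ↥H : Set ↥H) ≤ Cfsg.pCore p ↥H) : (Cfsg.largestPReducedOf p M) ≤ Cfsg.largestPReducedOf p H := by
  classical
  have hpar := (Cfsg.Agent.S2850.result S Q hQp hQ1 hQS hQ M hSM hM hasym).2.2.1
  have hYMd_eq := hM.2.2.2.1
  set Y := Cfsg.largestPReducedOf p M with hY
  set C := Subgroup.centralizer (Y : Set G) with hC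
  set Md := M ⊔ C with hMd
  have hYM : Y ≤ M := largestPReducedOf_le p M
  have hYMd : Y ≤ Md := hYM.trans le_sup_left
  have hCMd : C ≤ Md := le_sup_right
  have hYred : Cfsg.IsPReducedNormal p (Y.subgroupOf Md) := by
    have h1 := largestPReducedOf_isPReducedNormal p Md
    rwa [← hYMd_eq] at h1
  have hred : Cfsg.pCore p (↥Md ⧸ C.subgroupOf Md) = ⊥ := by
    have h3 := ((isPReducedNormal_iff p _).mp hYred).2.2
    rw [centralizer_subgroupOf_eq Md Y hYMd] at h3
    exact (pCore_quot_eq_bot_iff p (C.subgroupOf Md)).mpr h3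
  have hYE : Cfsg.IsElementaryAbelian p Y := largestPReducedOf_isElementaryAbelian p M
  have hYC : Y ≤ C := le_centralizer_of_isMulCommutative hYE.1
  have hCF : C ≤ F := by
    intro c hc
    rw [hF]
    refine ⟨⟨c, hCMd hc⟩, ?_, rfl⟩
    show QuotientGroup.mk' (C.subgroupOf Md) ⟨c, hCMd hc⟩ ∈ Cfsg.generalizedFittingSubgroup _
    have h1 : QuotientGroup.mk' (C.subgroupOf Md) ⟨c, hCMd hc⟩ = 1 := by
      rw [QuotientGroup.mk'_apply, QuotientGroup.eq_one_iff]
      exact hc
    rw [h1]; exact Subgroup.one_mem _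
  have hFMd : F ≤ Md := by rw [hF]; exact Subgroup.map_subtype_le _
  have hYH : Y ≤ H := hYC.trans (hCF.trans hFH)
  have hQMC : Cfsg.pCoreOf p M ≤ C := pCoreOf_le_centralizer_largestPReducedOf M
  have hQM : Cfsg.pCoreOf p M ≤ H := hQMC.trans (hCF.trans hFH)
  obtain ⟨T, hT⟩ := hpar H hQM
  have key : ∀ X : Subgroup G, X ≤ Md → F ≤ Subgroup.normalizer (X : Set G) →
      (∀ x ∈ X, ∃ k : ℕ, x ^ (p ^ k) ∈ C) → X ≤ C :=
    fun X h1 h2 h3 => le_of_normalized_by_genFitting_preimage Md C hred F hF X h1 h2 h3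
  have hPn : (Cfsg.pCore p ↥H).Normal := pCore_normal p ↥H
  have hTMd : ∀ t : ↥H, t ∈ (T : Subgroup ↥H) → (t : G) ∈ Md := by
    intro t ht
    have h1 := hT ht
    rw [Subgroup.mem_subgroupOf] at h1
    exact (Subgroup.mem_inf.mp h1).2
  have hOH : Cfsg.pCoreOf p H ≤ C := by
    apply key
    · intro x hx
      unfold Cfsg.pCoreOf at hx
      obtain ⟨y, hy, rfl⟩ := hx
      exact hTMd y (pCore_le_sylow T hy)
    · exact hFH.trans (le_normalizer_map_subtype_of_normal H _ hPn)
    · intro x hx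
      have hp : IsPGroup p (Cfsg.pCoreOf p H) := (pCore_isPGroup p ↥H).map _
      obtain ⟨k, hk⟩ := exists_pow_eq_one_of_mem hp hx
      exact ⟨k, by rw [hk]; exact Subgroup.one_mem _⟩
  have hY'cent : Y.subgroupOf H ≤ Subgroup.centralizer ((Cfsg.pCore p ↥H : Subgroup ↥H) : Set ↥H) := by
    intro y hy
    rw [Subgroup.mem_centralizer_iff]
    intro z hz
    have hzm : (z : G) ∈ Cfsg.pCoreOf p H := Subgroup.mem_map_of_mem H.subtype hz
    have hzC : (z : G) ∈ C := hOH hzm
    have h1 := (Subgroup.mem_centralizer_iff.mp hzC) (y : G) (Subgroup.mem_subgroupOf.mp hy)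
    apply Subtype.ext
    simpa using h1.symm
  have hY'P : Y.subgroupOf H ≤ Cfsg.pCore p ↥H := hY'cent.trans hH
  set Y' : Subgroup ↥H := Y.subgroupOf H with hY'
  set V : Subgroup ↥H := Subgroup.normalClosure ((Y' : Subgroup ↥H) : Set ↥H) with hV
  have hVn : V.Normal := Subgroup.normalClosure_normal
  have hY'V : Y' ≤ V := fun x hx => Subgroup.subset_normalClosure hx
  have hZ₀n : (Cfsg.pCore p ↥H ⊓ Subgroup.centralizer ((Cfsg.pCore p ↥H : Subgroup ↥H) : Set ↥H)).Normal :=
    inferInstance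
  have hVZ : V ≤ Cfsg.pCore p ↥H ⊓ Subgroup.centralizer ((Cfsg.pCore p ↥H : Subgroup ↥H) : Set ↥H) :=
    Subgroup.normalClosure_le_normal (le_inf hY'P hY'cent)
  have hVcomm : ∀ a ∈ V, ∀ b ∈ V, a * b = b * a := by
    intro a ha b hb
    exact (Subgroup.mem_centralizer_iff.mp (Subgroup.mem_inf.mp (hVZ hb)).2) a
      (Subgroup.mem_inf.mp (hVZ ha)).1
  have hVE : Cfsg.IsElementaryAbelian p V := by
    refine ⟨?_, ?_⟩
    · apply isMulCommutative_of_le_centralizer
      intro a ha
      rw [Subgroup.mem_centralizer_iff]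
      intro b hb
      exact hVcomm b hb a ha
    · apply pow_eq_one_of_mem_normalClosure p _ _ hVcomm
      intro y hy
      have hy' : y ∈ Y' := hy
      have h1 := hYE.2 (y : G) (Subgroup.mem_subgroupOf.mp hy')
      apply Subtype.ext
      simpa using h1
  have hVred : Cfsg.IsPReducedNormal p V := by
    rw [isPReducedNormal_iff]
    refine ⟨hVn, hVE, ?_⟩
    intro D hDn hCD hDp
    have hCVn : (Subgroup.centralizer (V : Set ↥H)).Normal := inferInstance
    have hcV : ∀ e : ↥H, e ∈ Subgroup.centralizer (V : Set ↥H) → (e : G) ∈ C := by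
      intro e he
      rw [hC, Subgroup.mem_centralizer_iff]
      intro y hy
      have hyV : (⟨y, hYH hy⟩ : ↥H) ∈ V := hY'V (Subgroup.mem_subgroupOf.mpr hy)
      have h1 := (Subgroup.mem_centralizer_iff.mp he) _ hyV
      have h3 := congrArg Subtype.val h1
      simpa using h3
    have hX2 : (D.map H.subtype) ⊓ Md ≤ C := by
      apply key
      · exact inf_le_right
      · refine le_trans ?_ (inf_normalizer_le_normalizer_inf _ _)
        exact le_inf (hFH.trans (le_normalizer_map_subtype_of_normal H D hDn))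
          (hFMd.trans Subgroup.le_normalizer)
      · intro x hx
        obtain ⟨d, hd, rfl⟩ := (Subgroup.mem_inf.mp hx).1
        obtain ⟨k, hk⟩ := hDp d hd
        refine ⟨k, ?_⟩
        have h1 := hcV _ hk
        simpa using h1
    have hDY' : D ≤ Subgroup.centralizer ((Y' : Subgroup ↥H) : Set ↥H) := by
      intro d hd
      obtain ⟨t, ht, c, hc, rfl⟩ :=
        exists_sylow_mul_of_pgroup_quot T (Subgroup.centralizer (V : Set ↥H)) D hDn hDp d hd
      have hcD : c ∈ D := hCD hc
      have htD : t ∈ D := by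
        have h1 := D.mul_mem hd (D.inv_mem hcD)
        simpa using h1
      have htMd : (t : G) ∈ Md := hTMd t ht
      have htC : (t : G) ∈ C :=
        hX2 (Subgroup.mem_inf.mpr ⟨Subgroup.mem_map_of_mem H.subtype htD, htMd⟩)
      have hcC : (c : G) ∈ C := hcV c hc
      have htcC : ((t * c : ↥H) : G) ∈ C := by
        rw [Subgroup.coe_mul]; exact C.mul_mem htC hcC
      rw [Subgroup.mem_centralizer_iff]
      intro y hy
      have hy' : y ∈ Y' := hy
      have hy'' : (y : G) ∈ Y := Subgroup.mem_subgroupOf.mp hy'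
      have h1 := (Subgroup.mem_centralizer_iff.mp htcC) (y : G) hy''
      apply Subtype.ext
      simpa using h1
    exact le_centralizer_normalClosure D hDn _ hDY'
  have hVle : V ≤ Cfsg.largestPReduced p ↥H := le_largestPReduced hVred
  have h6 : Y'.map H.subtype ≤ (Cfsg.largestPReduced p ↥H).map H.subtype :=
    Subgroup.map_mono (hY'V.trans hVle)
  rw [hY', Subgroup.map_subgroupOf_eq_of_le hYH] at h6
  exact h6

end Cfsg.Agent.S2851
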