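import Cfsg.Statements.S2853
import Cfsg.Agent.Lib.Helper16.FrakH
import Cfsg.Agent.Lib.Helper16.FrakM2
import Cfsg.Agent.S2850

set_option autoImplicit false
open Cfsg
open Cfsg.Agent.Lib.Helper16
open scoped commutatorElement Pointwise

namespace Cfsg.Agent.S2853

/-- If `K ≤ H` contains a Sylow `p`-subgroup of `H`, every Sylow `p`-subgroup of `K` is a Sylow
`p`-subgroup of `H`. -/
theorem exists_sylow_map_eq_of_parabolic {G : Type*} [Group G] [Finite G] {p : ℕ} [Fact p.Prime]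
    (H K : Subgroup G) (hKH : K ≤ H) (hpar : Cfsg.IsParabolic p (K.subgroupOf H))
    (T : Sylow p ↥K) :
    ∃ P : Sylow p ↥H, (P : Subgroup ↥H).map H.subtype = (T : Subgroup ↥K).map K.subtype := by
  obtain ⟨P₀, hP₀⟩ := hpar
  set T' := (T : Subgroup ↥K).map K.subtype with hT'
  have hT'K : T' ≤ K := Subgroup.map_subtype_le _
  have hp : IsPGroup p (T'.subgroupOf H) := (T.2.map _).comap_subtype
  have h1 : T'.relIndex K = (T : Subgroup ↥K).index := by
    unfold Subgroup.relIndex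
    rw [hT', Subgroup.subgroupOf, Subgroup.comap_map_eq_self_of_injective K.subtype_injective]
  have h2 : K.relIndex H ∣ (P₀ : Subgroup ↥H).index := Subgroup.index_dvd_of_le hP₀
  have hidx : ¬ p ∣ (T'.subgroupOf H).index := by
    have h3 : (T'.subgroupOf H).index = T'.relIndex K * K.relIndex H :=
      (Subgroup.relIndex_mul_relIndex T' K H hT'K hKH).symm
    rw [h3, h1]
    intro hd
    rcases (Nat.Prime.dvd_mul (Fact.out : p.Prime)).mp hd with h' | h'
    · exact T.not_dvd_index h'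
    · exact P₀.not_dvd_index (h'.trans h2)
  refine ⟨hp.toSylow hidx, ?_⟩
  show (T'.subgroupOf H).map H.subtype = T'
  exact Subgroup.map_subgroupOf_eq_of_le (hT'K.trans hKH)

/-- Standing hypotheses: G a finite group, S a Sylow p-subgroup, Q a nontrivial large p-subgroup of G contained in S, M a subgroup containing S with the basic property (M ∈ 𝔐_G(S)); Y_M the largest p-reduced normal subgroup of M and M† = M·C_G(Y_M). Suppose Y_M is char-p-tall and asymmetric in G and H ∈ ℌ_G(O_p(M)). Then every Sylow p-subgroup of H ∩ M† is a Sylow p-subgroup of H; O_p(H) normalizes O_p(M) and Y_M; O^p(H) = [O^p(H), Y_M] and H = O^p(H)·O_p(M); O^p(H)·Y_M is the normal closure of Y_M in H; and H is the normal closure of O_p(M) in H. Here O^p(H) is the subgroup generated by the elements of H of order prime to p. -/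
theorem result {G : Type*} [Group G] [Finite G] {p : ℕ} [Fact p.Prime] (S : Sylow p G) (Q : Subgroup G) (hQp : IsPGroup p ↥Q) (hQ1 : Q ≠ ⊥) (hQS : Q ≤ (S : Subgroup G)) (hQ : Cfsg.IsLarge Q) (M : Subgroup G) (hSM : (S : Subgroup G) ≤ M) (hM : Cfsg.IsInFrakM p M) (htall : Cfsg.IsCharPTall p (Cfsg.largestPReducedOf p M)) (hasym : ¬ Cfsg.IsSymmetricIn (Cfsg.largestPReducedOf p M)) (H : Subgroup G) (hH : Cfsg.IsInFrakH p M H) (R : Subgroup G) (hR : R = (Cfsg.pResidual p ↥H).map H.subtype) : (∀ T : Sylow p ↥(H ⊓ (M ⊔ Subgroup.centralizer (((Cfsg.largestPReducedOf p M) : Subgroup G) : Set G))), ∃ P : Sylow p ↥H, ((P : Subgroup ↥H).map H.subtype) = (T : Subgroup ↥(H ⊓ (M ⊔ Subgroup.centralizer (((Cfsg.largestPReducedOf p M) : Subgroup G) : Set G)))).map (H ⊓ (M ⊔ Subgroup.centralizer (((Cfsg.largestPReducedOf p M) : Subgroup G) : Set G))).subtype) ∧ Cfsg.pCoreOf p H ≤ Subgroup.normalizer (((Cfsg.pCoreOf p M) : Subgroup G) : Set G) ⊓ Subgroup.normalizer (((Cfsg.largestPReducedOf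 p M) : Subgroup G) : Set G) ∧ ⁅R, (Cfsg.largestPReducedOf p M)⁆ = R ∧ R ⊔ (Cfsg.pCoreOf p M) = H ∧ R ⊔ (Cfsg.largestPReducedOf p M) = (Subgroup.normalClosure ((((Cfsg.largestPReducedOf p M)).subgroupOf H : Subgroup ↥H) : Set ↥H)).map H.subtype ∧ (Subgroup.normalClosure ((((Cfsg.pCoreOf p M)).subgroupOf H : Subgroup ↥H) : Set ↥H)).map H.subtype = H := by
  have hpar := (Cfsg.Agent.S2845.result Q hQp hQ1 hQ).2.1
  have h2850 := Cfsg.Agent.S2850.result S Q hQp hQ1 hQS hQ M hSM hM hasym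
  have hRH : Cfsg.pCoreOf p M ≤ H := hH.2.1
  have hR₀p : IsPGroup p (Cfsg.pCoreOf p M) := by
    rw [pCoreOf_eq_opDown]; exact opDown_isPGroup p M
  have hRup : R = opUp p H := by rw [hR, map_pResidual_eq_opUp]
  refine ⟨?_, ?_, ?_, ?_, ?_, ?_⟩
  · intro T
    exact exists_sylow_map_eq_of_parabolic H _ inf_le_left (h2850.2.2.1 H hRH) T
  · have hUp : IsPGroup p (Cfsg.pCoreOf p H) := by
      rw [pCoreOf_eq_opDown]; exact opDown_isPGroup p H
    have hsup : IsPGroup p ↥(Cfsg.pCoreOf p M ⊔ Cfsg.pCoreOf p H) := by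
      apply IsPGroup.to_sup_of_normal_right' hR₀p hUp
      rw [pCoreOf_eq_opDown p H]
      exact hRH.trans (le_normalizer_opDown p H)
    have h1 := frakM_pgroup_le_normalizer hM S hSM hasym hpar _ hsup le_sup_left
    have h2 : Cfsg.pCoreOf p H ≤ Subgroup.normalizer ((Cfsg.pCoreOf p M : Subgroup G) : Set G) :=
      le_sup_right.trans h1
    refine le_inf h2 (h2.trans ?_)
    exact ((h2850.1 _ hR₀p le_rfl).2).trans (dagger_le_normalizer M)
  · rw [hRup]; exact frakH_commutator_opUp hH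
  · rw [hRup, pCoreOf_eq_opDown]; exact frakH_opUp_sup hH
  · rw [hRup]; exact frakH_opUp_sup_Y hH
  · rw [pCoreOf_eq_opDown]; exact frakH_normalClosure_eq hH

end Cfsg.Agent.S2853
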