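import Cfsg.Statements.S2854
import Cfsg.Agent.Lib.Helper16.FrakH2
import Cfsg.Agent.Lib.Helper16.FrakM2
import Cfsg.Agent.Lib.Helper16.FrakMExist
import Cfsg.Agent.S2850

set_option autoImplicit false
open Cfsg
open Cfsg.Agent.Lib.Helper16
open scoped commutatorElement Pointwise

namespace Cfsg.Agent.S2854

/-- `H ∈ ℌ` is the join of the `H`-conjugates of `O_p(M)`. -/
theorem frakH_eq_conjJoin {G : Type*} [Group G] [Finite G] {p : ℕ} [Fact p.Prime]
    {M H : Subgroup G} (hH : Cfsg.IsInFrakH p M H) :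
    Cfsg.Agent.S2840.conjJoin (opDown p M) H = H := by
  have hRH := frakH_pCoreOf_le hH
  apply le_antisymm (Cfsg.Agent.S2840.conjJoin_le _ H hRH)
  have h1 := frakH_normalClosure_eq hH
  calc H = _ := h1.symm
    _ ≤ Cfsg.Agent.S2840.conjJoin (opDown p M) H :=
      map_normalClosure_subgroupOf_le _ H _ (Cfsg.Agent.S2840.conjJoin_le _ H hRH)
        (Cfsg.Agent.S2840.le_normalizer_conjJoin _ H) (Cfsg.Agent.S2840.le_conjJoin _ H)

/-- A subgroup normalized by `H` and normalizing `O_p(M)` normalizes `H ∈ ℌ`. -/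
theorem le_normalizer_frakH {G : Type*} [Group G] [Finite G] {p : ℕ} [Fact p.Prime]
    {M H : Subgroup G} (hH : Cfsg.IsInFrakH p M H) (X : Subgroup G)
    (hHX : H ≤ Subgroup.normalizer (X : Set G))
    (hXR : X ≤ Subgroup.normalizer ((opDown p M : Subgroup G) : Set G)) :
    X ≤ Subgroup.normalizer (H : Set G) := by
  have key : ∀ x ∈ X, H.map (MulAut.conj x).toMonoidHom ≤ H := by
    intro x hx
    conv_lhs => rw [← frakH_eq_conjJoin hH]
    unfold Cfsg.Agent.S2840.conjJoin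
    rw [Subgroup.map_iSup]
    apply iSup_le
    rintro ⟨h, hh⟩
    rw [map_conj_map_conj]
    have hx' : h⁻¹ * x * h ∈ X := conj_inv_mem_of_mem_normalizer (hHX hh) hx
    have e : x * h = h * (h⁻¹ * x * h) := by group
    simp only
    rw [e, ← map_conj_map_conj, (map_conj_eq_self_iff _ _).mpr (hXR hx')]
    exact Cfsg.Agent.S2840.conj_le_of_mem _ H (frakH_pCoreOf_le hH) hh
  intro x hx
  exact mem_normalizer_of_map_conj_le _ x (key x hx) (key x⁻¹ (X.inv_mem hx))

/-- Standing hypotheses: G a finite group, S a Sylow p-subgroup, Q a nontrivial large p-subgroup of G contained in S, M a subgroup containing S with the basic property (M ∈ 𝔐_G(S)); Y_M the largest p-reduced normal subgroup of M and M† = M·C_G(Y_M). Suppose Y_M is asymmetric in G, H ∈ ℌ_G(O_p(M)), and H ≤ N_G(gQg⁻¹) for some g ∈ G. Then gQg⁻¹ ≤ O_p(H·gQg⁻¹) ≤ N_G(O_p(M)) ≤ N_G(Y_M) = M†; H is normal in H·gQg⁻¹ with O^p(H) = O^p(H·gQg⁻¹); and H·gQg⁻¹ is p-irreducible. -/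
theorem result {G : Type*} [Group G] [Finite G] {p : ℕ} [Fact p.Prime] (S : Sylow p G) (Q : Subgroup G) (hQp : IsPGroup p ↥Q) (hQ1 : Q ≠ ⊥) (hQS : Q ≤ (S : Subgroup G)) (hQ : Cfsg.IsLarge Q) (M : Subgroup G) (hSM : (S : Subgroup G) ≤ M) (hM : Cfsg.IsInFrakM p M) (hasym : ¬ Cfsg.IsSymmetricIn (Cfsg.largestPReducedOf p M)) (H : Subgroup G) (hH : Cfsg.IsInFrakH p M H) (g : G) (hHQ : H ≤ Subgroup.normalizer ((((Q : Subgroup G).map (MulAut.conj (g : G)).toMonoidHom) : Subgroup G) : Set G)) : ((Q : Subgroup G).map (MulAut.conj (g : G)).toMonoidHom) ≤ Cfsg.pCoreOf p (H ⊔ ((Q : Subgroup G).map (MulAut.conj (g : G)).toMonoidHom)) ∧ Cfsg.pCoreOf p (H ⊔ ((Q : Subgroup G).map (MulAut.conj (g : G)).toMonoidHom)) ≤ Subgroup.normalizer (((Cfsg.pCoreOf p M) : Subgroup G) : Set G) ∧ Subgroup.normalizer (((Cfsg.pCoreOf p M) : Subgroup G) : Set G) ≤ Subgroup.normalizer (((Cfsg.largestPReducedOf p M) : Subgroup G) : Set G) ∧ Subgroup.normalizer (((Cfsg.largestPReducedOf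 p M) : Subgroup G) : Set G) = (M ⊔ Subgroup.centralizer (((Cfsg.largestPReducedOf p M) : Subgroup G) : Set G)) ∧ (H.subgroupOf (H ⊔ ((Q : Subgroup G).map (MulAut.conj (g : G)).toMonoidHom))).Normal ∧ (Cfsg.pResidual p ↥H).map H.subtype = (Cfsg.pResidual p ↥(H ⊔ ((Q : Subgroup G).map (MulAut.conj (g : G)).toMonoidHom))).map (H ⊔ ((Q : Subgroup G).map (MulAut.conj (g : G)).toMonoidHom)).subtype ∧ Cfsg.IsPIrreducible p ↥(H ⊔ ((Q : Subgroup G).map (MulAut.conj (g : G)).toMonoidHom)) := by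
  have hpar := (Cfsg.Agent.S2845.result Q hQp hQ1 hQ).2.1
  have h2850 := Cfsg.Agent.S2850.result S Q hQp hQ1 hQS hQ M hSM hM hasym
  set Qg := (Q : Subgroup G).map (MulAut.conj (g : G)).toMonoidHom with hQg
  set Y := Cfsg.largestPReducedOf p M with hY
  set Md := M ⊔ Subgroup.centralizer ((Y : Subgroup G) : Set G) with hMd
  have hQgp : IsPGroup p Qg := hQp.map _
  have hRH : Cfsg.pCoreOf p M ≤ H := hH.2.1
  have hR₀p : IsPGroup p (Cfsg.pCoreOf p M) := by
    rw [pCoreOf_eq_opDown]; exact opDown_isPGroup p M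
  have hYp : IsPGroup p Y :=
    isElementaryAbelian_isPGroup (largestPReducedOf_isElementaryAbelian p M)
  have hY1 : Y ≠ ⊥ := largestPReducedOf_ne_bot S M hSM (relCharP_of_mem_charPSubgroups hM.1)
    (sylow_ne_bot_of_mem_charPSubgroups S hSM hM.1)
  have hstarQ : H ⊔ Qg ≤ Subgroup.normalizer (Qg : Set G) := sup_le hHQ Subgroup.le_normalizer
  -- (1)
  have h1 : Qg ≤ Cfsg.pCoreOf p (H ⊔ Qg) := by
    rw [pCoreOf_eq_opDown]; exact le_opDown p le_sup_right hstarQ hQgp
  -- (2)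
  have h2 : Cfsg.pCoreOf p (H ⊔ Qg) ≤
      Subgroup.normalizer ((Cfsg.pCoreOf p M : Subgroup G) : Set G) := by
    have hUp : IsPGroup p (Cfsg.pCoreOf p (H ⊔ Qg)) := by
      rw [pCoreOf_eq_opDown]; exact opDown_isPGroup p _
    have hsup : IsPGroup p ↥(Cfsg.pCoreOf p M ⊔ Cfsg.pCoreOf p (H ⊔ Qg)) := by
      apply IsPGroup.to_sup_of_normal_right' hR₀p hUp
      rw [pCoreOf_eq_opDown p (H ⊔ Qg)]
      exact (hRH.trans le_sup_left).trans (le_normalizer_opDown p _)
    exact le_sup_right.trans (frakM_pgroup_le_normalizer hM S hSM hasym hpar _ hsup le_sup_left)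
  -- (3)
  have h3 : Subgroup.normalizer ((Cfsg.pCoreOf p M : Subgroup G) : Set G) ≤
      Subgroup.normalizer ((Y : Subgroup G) : Set G) :=
    ((h2850.1 _ hR₀p le_rfl).2).trans (dagger_le_normalizer M)
  -- (4)
  have h4 : Subgroup.normalizer ((Y : Subgroup G) : Set G) = Md := by
    apply le_antisymm _ (dagger_le_normalizer M)
    exact frakM_le_dagger hM _ (mem_charPSubgroups_of_parabolic hpar S _ Y
      (hSM.trans (le_normalizer_largestPReducedOf p M)) hY1 hYp Subgroup.le_normalizer le_rfl)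
      (le_normalizer_largestPReducedOf p M)
  -- (5)
  have hQH : Qg ≤ Subgroup.normalizer (H : Set G) := by
    apply le_normalizer_frakH hH Qg hHQ
    rw [← pCoreOf_eq_opDown]
    exact h1.trans h2
  have hstarH : H ⊔ Qg ≤ Subgroup.normalizer (H : Set G) := sup_le Subgroup.le_normalizer hQH
  have h5 : (H.subgroupOf (H ⊔ Qg)).Normal :=
    (Subgroup.normal_subgroupOf_iff_le_normalizer le_sup_left).mpr hstarH
  -- (6)
  have h6 : opUp p H = opUp p (H ⊔ Qg) := by
    apply le_antisymm (opUp_mono p le_sup_left)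
    have h := opUp_mono p (opUp_sup_le_of_isPGroup p H Qg hQgp hQH)
    rwa [opUp_opUp] at h
  refine ⟨h1, h2, h3, h4, h5, ?_, ?_, ?_⟩
  · rw [map_pResidual_eq_opUp, map_pResidual_eq_opUp]; exact h6
  · -- not p-closed
    intro hcl
    apply hH.2.2.1
    have hYle : Y ≤ Cfsg.pCoreOf p (H ⊔ Qg) :=
      le_pCoreOf_of_isPClosed (H ⊔ Qg) (H ⊔ Qg) Y le_rfl Subgroup.le_normalizer hcl
        ((frakH_Y_le hH).trans le_sup_left) hYp
    rw [pCoreOf_eq_opDown] at hYle ⊢
    have : opDown p (H ⊔ Qg) ⊓ H ≤ opDown p H := by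
      apply le_opDown p inf_le_right
      · refine le_trans ?_ (inf_normalizer_le_normalizer_inf _ _)
        exact le_inf (le_sup_left.trans (le_normalizer_opDown p _)) Subgroup.le_normalizer
      · exact (opDown_isPGroup p _).to_le inf_le_left
    exact (le_inf hYle (frakH_Y_le hH)).trans this
  · intro N hN hncl
    set N' := N.map (H ⊔ Qg).subtype with hN'
    have hncl' : ¬ Cfsg.IsPClosed p ↥N' := by
      intro h
      apply hncl
      exact isPClosed_of_equiv (N.equivMapOfInjective _ (H ⊔ Qg).subtype_injective).symm h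
    have hle := opUp_sup_le_of_not_isPClosed H Qg N' hQgp hHQ hQH
      (fun N'' h1 h2 h3 => frakH_opUp_le_of_not_isPClosed hH N'' h1 h2 h3)
      (Subgroup.map_subtype_le _) (le_normalizer_map_subtype_of_normal (H ⊔ Qg) N hN) hncl'
    rw [← map_pResidual_eq_opUp, hN'] at hle
    exact (Subgroup.map_le_map_iff_of_injective (H ⊔ Qg).subtype_injective).mp hle

end Cfsg.Agent.S2854
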