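import Cfsg.Statements.S2859
import Cfsg.Agent.Lib.Helper16.WeakClosureProd3

set_option autoImplicit false
open Cfsg
open Cfsg.Agent.Lib.Helper16
open scoped commutatorElement Pointwise

namespace Cfsg.Agent.S2859

/-- Let Q be a nontrivial p-subgroup of the finite group H that is a weakly closed subgroup, H° the weak closure of Q in H (generated by the conjugates of Q) and H_∘ = O^p(H°). Suppose H₁, H₂ are normal subgroups of H° with H° = H₁H₂ and [H₁, H₂] ≤ N_H(Q), and put Kᵢ = O^p of the weak closure of Q in HᵢQ. Then for i = 1, 2: Kᵢ = [Kᵢ, Q] = [Kᵢ, Hᵢ] ≤ Hᵢ′ and Kᵢ is normal in H°; H_∘ = K₁K₂; and [K₁, K₂] ≤ O_p(H°). -/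
theorem result {G : Type*} [Group G] [Finite G] {p : ℕ} [Fact p.Prime] (Q : Subgroup G) (hQp : IsPGroup p ↥Q) (hQ1 : Q ≠ ⊥) (hwc : Cfsg.IsWeaklyClosedSubgroup p Q) (Hc : Subgroup G) (hHc : Hc = Cfsg.weakClosure Q ⊤) (H₁ H₂ : Subgroup G) (hn₁ : H₁ ≤ Hc ∧ Hc ≤ Subgroup.normalizer ((H₁ : Subgroup G) : Set G)) (hn₂ : H₂ ≤ Hc ∧ Hc ≤ Subgroup.normalizer ((H₂ : Subgroup G) : Set G)) (hprod : H₁ ⊔ H₂ = Hc) (hcomm : ⁅H₁, H₂⁆ ≤ Subgroup.normalizer ((Q : Subgroup G) : Set G)) (K₁ K₂ : Subgroup G) (hK₁ : K₁ = ((Cfsg.pResidual p ↥(Cfsg.weakClosure Q (H₁ ⊔ Q))).map ((Cfsg.weakClosure Q (H₁ ⊔ Q))).subtype)) (hK₂ : K₂ = ((Cfsg.pResidual p ↥(Cfsg.weakClosure Q (H₂ ⊔ Q))).map ((Cfsg.weakClosure Q (H₂ ⊔ Q))).subtype)) : (⁅K₁, Q⁆ = K₁ ∧ ⁅K₁, H₁⁆ = K₁ ∧ K₁ ≤ ⁅H₁, H₁⁆ ∧ Hc ≤ Subgroup.normalizer ((K₁ : Subgroup G) : Set G)) ∧ (⁅K₂, Q⁆ = K₂ ∧ ⁅K₂, H₂⁆ = K₂ ∧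 K₂ ≤ ⁅H₂, H₂⁆ ∧ Hc ≤ Subgroup.normalizer ((K₂ : Subgroup G) : Set G)) ∧ K₁ ⊔ K₂ = ((Cfsg.pResidual p ↥Hc).map (Hc).subtype) ∧ ⁅K₁, K₂⁆ ≤ (Cfsg.pCoreOf p Hc) := by
  have hQHc : Q ≤ Hc := by rw [hHc]; exact le_weakClosure Q ⊤ le_top
  have htop : Hc ≤ conjClosure Hc Q := by
    calc Hc = Cfsg.weakClosure Q ⊤ := hHc
      _ ≤ Cfsg.weakClosure Q (Cfsg.weakClosure Q ⊤) := weakClosure_le_weakClosure_self Q ⊤
      _ = Cfsg.weakClosure Q Hc := by rw [← hHc]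
      _ = conjClosure Hc Q := weakClosure_eq_conjClosure hwc Hc hQHc
  have hW : ∀ H' : Subgroup G, Hc ≤ Subgroup.normalizer ((H' : Subgroup G) : Set G) →
      Cfsg.weakClosure Q (H' ⊔ Q) = conjClosure H' Q := by
    intro H' hH'
    rw [weakClosure_eq_conjClosure hwc (H' ⊔ Q) le_sup_right]
    exact conjClosure_sup_eq H' Q (hQHc.trans hH')
  have hgen : ∀ H' : Subgroup G, Hc ≤ Subgroup.normalizer ((H' : Subgroup G) : Set G) →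
      conjClosure H' Q ≤ conjClosure (conjClosure H' Q) Q := by
    intro H' hH'
    calc conjClosure H' Q = Cfsg.weakClosure Q (H' ⊔ Q) := (hW H' hH').symm
      _ ≤ Cfsg.weakClosure Q (Cfsg.weakClosure Q (H' ⊔ Q)) := weakClosure_le_weakClosure_self Q _
      _ = Cfsg.weakClosure Q (conjClosure H' Q) := by rw [hW H' hH']
      _ = conjClosure (conjClosure H' Q) Q :=
        weakClosure_eq_conjClosure hwc _ (le_conjClosure H' Q)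
  have hK₁' : K₁ = opUp p (conjClosure H₁ Q) := by
    rw [hK₁, map_pResidual_eq_opUp, hW H₁ hn₁.2]
  have hK₂' : K₂ = opUp p (conjClosure H₂ Q) := by
    rw [hK₂, map_pResidual_eq_opUp, hW H₂ hn₂.2]
  have key := wcprod_ambient (p := p) Hc Q H₁ H₂ hQp hQHc htop hn₁ hn₂ hprod hcomm
    (hgen H₁ hn₁.2) (hgen H₂ hn₂.2)
  rw [← hK₁', ← hK₂'] at key
  rw [map_pResidual_eq_opUp]
  unfold Cfsg.pCoreOf
  rw [map_pCore_eq_opDown]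
  exact key

end Cfsg.Agent.S2859
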