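import Cfsg.Statements.S2860
import Cfsg.Agent.Lib.Helper16.QuasiSection
import Cfsg.Agent.Lib.Helper16.WeakClosureProd3
import Cfsg.Agent.Lib.Helper16.Large
import Cfsg.Agent.Lib.Helper16.FrakM
import Cfsg.Agent.Lib.Helper16.CharP
import Cfsg.Agent.Lib.Helper9.Quasisimple
import Cfsg.Agent.S2843

set_option autoImplicit false
set_option maxHeartbeats 1000000
open Cfsg
open Cfsg.Agent.Lib.Helper16
open scoped commutatorElement Pointwise

namespace Cfsg.Agent.S2860

/-- Let Q be a nontrivial large p-subgroup of the finite group H, U a nontrivial elementary abelian p-subgroup of H, and Q ≤ E ≤ N_H(U) with Q not normal in E. Suppose O_p(E/C_E(U)) = 1 and O^p(E)·C_E(U)/C_E(U) is quasisimple. Let E° be the weak closure of Q in E (generated by the conjugates of Q inside E) and E_∘ = O^p(E°). Then O^p(E)·C_E(U) = E_∘·C_E(U); E_∘ is perfect and equals O^p(E_∘); E_∘/C_{E_∘}(U) and E_∘/O_p(E_∘) are quasisimple; and E_∘ = [E_∘, Y] for every p-subgroup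 Y of E not centralizing U. -/
theorem result {G : Type*} [Group G] [Finite G] {p : ℕ} [Fact p.Prime] (Q : Subgroup G) (hQp : IsPGroup p ↥Q) (hQ1 : Q ≠ ⊥) (hQ : Cfsg.IsLarge Q) (U : Subgroup G) (hU : Cfsg.IsElementaryAbelian p U) (hU1 : U ≠ ⊥) (E : Subgroup G) (hQE : Q ≤ E) (hEU : E ≤ Subgroup.normalizer ((U : Subgroup G) : Set G)) (hQn : ¬ E ≤ Subgroup.normalizer ((Q : Subgroup G) : Set G)) [hn : ((Subgroup.centralizer ((U : Subgroup G) : Set G)).subgroupOf E).Normal] (hred : Cfsg.pCore p (↥E ⧸ (Subgroup.centralizer ((U : Subgroup G) : Set G)).subgroupOf E) = ⊥) (hqs : Cfsg.IsQuasisimple ↥(((Cfsg.pResidual p ↥E) ⊔ (Subgroup.centralizer ((U : Subgroup G) : Set G)).subgroupOf E).map (QuotientGroup.mk' ((Subgroup.centralizer ((U : Subgroup G) : Set G)).subgroupOf E)))) (Er : Subgroup G) (hEr : Er = ((Cfsg.pResidual p ↥(Cfsg.weakClosure Q E)).map ((Cfsg.weakClosure Q E)).subtype)) [hn2 : ((Subgroup.centralizer ((U : Subgroup G) : Set G)).subgroupOf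 Er).Normal] : ((Cfsg.pResidual p ↥E).map (E).subtype) ⊔ (E ⊓ Subgroup.centralizer ((U : Subgroup G) : Set G)) = Er ⊔ (E ⊓ Subgroup.centralizer ((U : Subgroup G) : Set G)) ∧ ⁅Er, Er⁆ = Er ∧ ((Cfsg.pResidual p ↥Er).map (Er).subtype) = Er ∧ Cfsg.IsQuasisimple (↥Er ⧸ (Subgroup.centralizer ((U : Subgroup G) : Set G)).subgroupOf Er) ∧ Cfsg.IsQuasisimple (↥Er ⧸ Cfsg.pCore p ↥Er) ∧ ∀ Y : Subgroup G, Y ≤ E → IsPGroup p ↥Y → ¬ Y ≤ Subgroup.centralizer ((U : Subgroup G) : Set G) → ⁅Er, Y⁆ = Er := by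
  classical
  have hwc := isWeaklyClosedSubgroup_of_isLarge hQp hQ1 hQ
  have hUp : IsPGroup p U := isElementaryAbelian_isPGroup hU
  have h43 := (Cfsg.Agent.S2843.result Q hQp hQ1 hQ E hQE U hUp hU1 hEU).2.1
  set C := Subgroup.centralizer ((U : Subgroup G) : Set G) with hC
  set Ec := Cfsg.weakClosure Q E with hEcdef
  have hEcE : Ec ≤ E := weakClosure_le Q E
  have hQEc : Q ≤ Ec := le_weakClosure Q E hQE
  have hEc_conj : Ec = conjClosure E Q := weakClosure_eq_conjClosure hwc E hQE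
  have hENEc : E ≤ Subgroup.normalizer (Ec : Set G) := by
    rw [hEc_conj]; exact le_normalizer_conjClosure E Q
  have hgen : Ec ≤ conjClosure Ec Q := by
    have h1 : Ec ≤ Cfsg.weakClosure Q Ec := weakClosure_le_weakClosure_self Q E
    rwa [weakClosure_eq_conjClosure hwc Ec hQEc] at h1
  obtain ⟨hEcQ, hErQ⟩ := opUp_of_conj_generated Ec Q hQEc hQp hgen
  have hEr' : Er = opUp p Ec := by rw [hEr, map_pResidual_eq_opUp]
  have hErEc : Er ≤ Ec := by rw [hEr']; exact opUp_le p Ec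
  have hErE : Er ≤ E := hErEc.trans hEcE
  have hENEr : E ≤ Subgroup.normalizer (Er : Set G) := by
    rw [hEr']; exact hENEc.trans (normalizer_le_normalizer_opUp p Ec)
  have hEcNEr : Ec ≤ Subgroup.normalizer (Er : Set G) := hEcE.trans hENEr
  have hErQ' : Er = ⁅Er, Q⁆ := by rw [hEr']; exact hErQ
  have hErEr : opUp p Er = Er := by rw [hEr']; exact opUp_opUp p Ec
  set D := Cfsg.pCoreOf p Ec with hD
  have hDp : IsPGroup p D := by rw [hD, pCoreOf_eq_opDown]; exact opDown_isPGroup p Ec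
  have hEcND : Ec ≤ Subgroup.normalizer (D : Set G) := by
    rw [hD, pCoreOf_eq_opDown]; exact le_normalizer_opDown p Ec
  have hQC : ¬ Q ≤ C := by
    intro h
    have hUQ : U ≤ Subgroup.centralizer (Q : Set G) := Subgroup.le_centralizer_iff.mp h
    exact hQn (hEU.trans (hQ.2 U hUQ hU1))
  have hFle : D ⊓ Er ≤ Cfsg.pCoreOf p Er := by
    rw [pCoreOf_eq_opDown]
    apply le_opDown p inf_le_right
    · refine le_trans ?_ (inf_normalizer_le_normalizer_inf _ _)
      exact le_inf (hErEc.trans hEcND) Subgroup.le_normalizer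
    · exact hDp.to_le inf_le_left
  -- the quotient
  have hOE : Cfsg.pResidual p ↥E = (opUp p E).subgroupOf E := by
    rw [← map_pResidual_eq_opUp]
    exact (Subgroup.comap_map_eq_self_of_injective E.subtype_injective _).symm
  set Kb := (Cfsg.pResidual p ↥E ⊔ C.subgroupOf E).map (QuotientGroup.mk' (C.subgroupOf E)) with hKb
  have hKbar : Kb = ((opUp p E).subgroupOf E).map (QuotientGroup.mk' (C.subgroupOf E)) := by
    have hbot : (C.subgroupOf E).map (QuotientGroup.mk' (C.subgroupOf E)) = ⊥ :=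
      (Subgroup.map_eq_bot_iff _).mpr (QuotientGroup.ker_mk' _).ge
    rw [hKb, Subgroup.map_sup, hOE, hbot, sup_bot_eq]
  have hOEn : (Cfsg.pResidual p ↥E).Normal := pResidual_normal (G := ↥E) p
  have hKbn : Kb.Normal := by
    rw [hKb]
    exact Subgroup.Normal.map inferInstance _ (QuotientGroup.mk'_surjective _)
  have hKbpq : ∀ x : ↥E ⧸ C.subgroupOf E, ∃ k : ℕ, x ^ (p ^ k) ∈ Kb := by
    intro x
    obtain ⟨g, rfl⟩ := QuotientGroup.mk'_surjective (C.subgroupOf E) x
    obtain ⟨k, hk⟩ := exists_pow_mem_pResidual p g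
    refine ⟨k, ?_⟩
    rw [← map_pow]
    exact Subgroup.mem_map_of_mem _ (Subgroup.mem_sup_left hk)
  have claimA : ∀ P : Subgroup G, P ≤ E → IsPGroup p P → ¬ P ≤ C →
      ⁅Kb, (P.subgroupOf E).map (QuotientGroup.mk' (C.subgroupOf E))⁆ = Kb := by
    intro P hPE hPp hPC
    exact commutator_eq_of_quasisimple_normal Kb hqs hKbpq hred _ ((hPp.comap_subtype).map _)
      (map_mk_ne_bot E C P hPE hPC)
  have hEcbn : ((Ec.subgroupOf E).map (QuotientGroup.mk' (C.subgroupOf E))).Normal :=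
    map_mk_normal E C Ec hEcE hENEc
  have hKbEc : Kb ≤ (Ec.subgroupOf E).map (QuotientGroup.mk' (C.subgroupOf E)) := by
    have h1 := claimA Q hQE hQp hQC
    refine h1.symm.le.trans ?_
    refine le_trans (Subgroup.commutator_mono le_rfl (map_mk_mono E C hQEc)) ?_
    exact Subgroup.commutator_le_right _ _
  have hErb : (Er.subgroupOf E).map (QuotientGroup.mk' (C.subgroupOf E)) = Kb := by
    apply eq_of_quasisimple_pquot (p := p) Kb _ hqs
    · rw [hKbar]
      exact map_mk_mono E C (hEr'.le.trans (opUp_mono p hEcE))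
    · have hn' := map_mk_normal E C Er hErE hENEr
      exact le_trans le_top (Subgroup.normalizer_eq_top_iff.mpr hn').ge
    · intro x hx
      obtain ⟨x', hx', rfl⟩ := hKbEc hx
      obtain ⟨k, hk⟩ := exists_pow_mem_opUp p Ec (show (x' : G) ∈ Ec from hx')
      refine ⟨k, ?_⟩
      rw [← map_pow]
      apply Subgroup.mem_map_of_mem
      rw [Subgroup.mem_subgroupOf, hEr']
      simpa using hk
  have h1 : opUp p E ⊔ (E ⊓ C) = Er ⊔ (E ⊓ C) := by
    apply (sup_eq_of_map_mk_eq E C Er (opUp p E) hErE (opUp_le p E) _).symm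
    rw [hErb, hKbar]
  have hDrle : Cfsg.pCoreOf p Er ≤ E :=
    (pCoreOf_eq_opDown p Er).le.trans ((opDown_le p Er).trans hErE)
  have hDrC : Cfsg.pCoreOf p Er ≤ C := by
    apply le_of_map_mk_eq_bot E C _ hDrle
    have hnorm : E ≤ Subgroup.normalizer ((Cfsg.pCoreOf p Er : Subgroup G) : Set G) := by
      rw [pCoreOf_eq_opDown]; exact hENEr.trans (normalizer_le_normalizer_opDown p Er)
    have hn' := map_mk_normal E C (Cfsg.pCoreOf p Er) hDrle hnorm
    have hp0 : IsPGroup p (Cfsg.pCoreOf p Er) := by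
      rw [pCoreOf_eq_opDown]; exact opDown_isPGroup p Er
    have hp' : IsPGroup p (((Cfsg.pCoreOf p Er).subgroupOf E).map
        (QuotientGroup.mk' (C.subgroupOf E))) := (hp0.comap_subtype).map _
    have h2 := le_pCore hn' hp'
    rwa [hred, le_bot_iff] at h2
  have hnormEC : ∀ n ∈ E, ∀ b ∈ E ⊓ C, n * b * n⁻¹ ∈ E ⊓ C := by
    intro n hnE b hb
    have hb1 := (Subgroup.mem_inf.mp hb).1
    have hb2 := (Subgroup.mem_inf.mp hb).2
    refine Subgroup.mem_inf.mpr ⟨E.mul_mem (E.mul_mem hnE hb1) (E.inv_mem hnE), ?_⟩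
    have hnC : n ∈ Subgroup.normalizer (C : Set G) :=
      normalizer_le_normalizer_centralizer U (hEU hnE)
    exact (Subgroup.mem_normalizer_iff.mp hnC b).mp hb2
  have lemP : ∀ N Z : Subgroup G, N ≤ Er → Er ≤ Subgroup.normalizer (N : Set G) →
      Er ≤ N ⊔ (E ⊓ C) → Z ≤ Ec → Z ≤ Subgroup.normalizer (N : Set G) → Er = ⁅Er, Z⁆ →
      Er ≤ N := by
    intro N Z hNEr hErN hsup hZEc hZN hcomm
    have hFp : IsPGroup p ↥(D ⊓ Er) := hDp.to_le inf_le_left
    have hFN : D ⊓ Er ≤ Subgroup.normalizer (N : Set G) := inf_le_right.trans hErN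
    have h1 : ⁅Er, Z⁆ ≤ N ⊔ (D ⊓ Er) := by
      rw [Subgroup.commutator_le]
      intro x hx z hz
      have hx' : x ∈ (E ⊓ C) ⊔ N := by rw [sup_comm]; exact hsup hx
      obtain ⟨c, hc, n, hn, rfl⟩ := Cfsg.Agent.Lib.Helper3.mem_sup_of_normalizes (E ⊓ C) N
        (fun n hn b hb => hnormEC n (hErE (hNEr hn)) b hb) hx'
      have hnEr : n ∈ Er := hNEr hn
      have hcEr : c ∈ Er := by
        have h0 := Er.mul_mem hx (Er.inv_mem hnEr)
        simpa using h0
      have hcC : c ∈ C := (Subgroup.mem_inf.mp hc).2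
      have hzN := hZN hz
      have hzEc := hZEc hz
      have e1 : ⁅c * n, z⁆ = c * ⁅n, z⁆ * c⁻¹ * ⁅c, z⁆ := by
        simp only [commutatorElement_def]; group
      rw [e1]
      apply Subgroup.mul_mem
      · apply Subgroup.mem_sup_left
        have h3 : ⁅n, z⁆ ∈ N := by
          rw [commutatorElement_def]
          have h4 : z * n⁻¹ * z⁻¹ ∈ N :=
            (Subgroup.mem_normalizer_iff.mp hzN n⁻¹).mp (N.inv_mem hn)
          have e2 : n * z * n⁻¹ * z⁻¹ = n * (z * n⁻¹ * z⁻¹) := by group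
          rw [e2]; exact N.mul_mem hn h4
        exact (Subgroup.mem_normalizer_iff.mp (hErN hcEr) _).mp h3
      · apply Subgroup.mem_sup_right
        refine Subgroup.mem_inf.mpr ⟨?_, ?_⟩
        · apply h43
          rw [Subgroup.commutator_comm]
          exact Subgroup.commutator_mem_commutator hcC hzEc
        · rw [commutatorElement_def]
          have h4 : z * c⁻¹ * z⁻¹ ∈ Er :=
            (Subgroup.mem_normalizer_iff.mp (hEcNEr hzEc) c⁻¹).mp (Er.inv_mem hcEr)
          have e2 : c * z * c⁻¹ * z⁻¹ = c * (z * c⁻¹ * z⁻¹) := by group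
          rw [e2]; exact Er.mul_mem hcEr h4
    have h2' : Er ≤ N ⊔ (D ⊓ Er) := hcomm.le.trans h1
    have h3 := opUp_sup_le_of_isPGroup p N (D ⊓ Er) hFp hFN
    calc Er = opUp p Er := hErEr.symm
      _ ≤ opUp p (N ⊔ (D ⊓ Er)) := opUp_mono p h2'
      _ ≤ N := h3
  have hnormcomm : Subgroup.normalizer (Er : Set G) ≤
      Subgroup.normalizer ((⁅Er, Er⁆ : Subgroup G) : Set G) := by
    intro x hx
    rw [← map_conj_eq_self_iff, Subgroup.map_commutator, (map_conj_eq_self_iff Er x).mpr hx]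
  have hperfKb : ⁅Kb, Kb⁆ = Kb := Subgroup.isPerfect_iff.mp hqs.1
  have h2 : ⁅Er, Er⁆ = Er := by
    have hle : ⁅Er, Er⁆ ≤ Er := commutator_le_of_le Er Er Er le_rfl le_rfl
    apply le_antisymm hle
    apply lemP ⁅Er, Er⁆ Q hle (le_normalizer_commutator_left Er Er) _ hQEc
      ((hQE.trans hENEr).trans hnormcomm) hErQ'
    have h3 : ((⁅Er, Er⁆).subgroupOf E).map (QuotientGroup.mk' (C.subgroupOf E)) =
        (Er.subgroupOf E).map (QuotientGroup.mk' (C.subgroupOf E)) := by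
      rw [map_mk_commutator E C Er Er hErE hErE, hErb, hperfKb]
    have h4 := sup_eq_of_map_mk_eq E C ⁅Er, Er⁆ Er (hle.trans hErE) hErE h3
    rw [h4]; exact le_sup_left
  have h6 : ∀ Y : Subgroup G, Y ≤ E → IsPGroup p ↥Y → ¬ Y ≤ C → ⁅Er, Y⁆ = Er := by
    intro Y hYE hYp hYC
    have hYN : Y ≤ Subgroup.normalizer (Er : Set G) := hYE.trans hENEr
    have hle : ⁅Er, Y⁆ ≤ Er := commutator_le_of_le_normalizer' Er Y hYN
    apply le_antisymm hle
    apply lemP ⁅Er, Y⁆ Er hle (le_normalizer_commutator_left Er Y) _ hErEc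
      (le_normalizer_commutator_left Er Y) h2.symm
    have h3 : ((⁅Er, Y⁆).subgroupOf E).map (QuotientGroup.mk' (C.subgroupOf E)) =
        (Er.subgroupOf E).map (QuotientGroup.mk' (C.subgroupOf E)) := by
      rw [map_mk_commutator E C Er Y hErE hYE, hErb, claimA Y hYE hYp hYC]
    have h4 := sup_eq_of_map_mk_eq E C ⁅Er, Y⁆ Er (hle.trans hErE) hErE h3
    rw [h4]; exact le_sup_left
  -- the quotient `Er / C_Er(U)`
  have hφmem : ∀ x : ↥Er,
      ((QuotientGroup.mk' (C.subgroupOf E)).comp (Subgroup.inclusion hErE)) x ∈ Kb := by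
    intro x
    rw [← hErb]
    exact Subgroup.mem_map_of_mem _ (show Subgroup.inclusion hErE x ∈ Er.subgroupOf E from x.2)
  let φ : ↥Er →* ↥Kb :=
    ((QuotientGroup.mk' (C.subgroupOf E)).comp (Subgroup.inclusion hErE)).codRestrict Kb hφmem
  have hφsurj : Function.Surjective φ := by
    rintro ⟨y, hy⟩
    have hy' : y ∈ (Er.subgroupOf E).map (QuotientGroup.mk' (C.subgroupOf E)) := by
      rw [hErb]; exact hy
    obtain ⟨x', hx', hx'y⟩ := hy'
    refine ⟨⟨(x' : G), hx'⟩, Subtype.ext ?_⟩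
    exact hx'y
  have hker : C.subgroupOf Er = φ.ker := by
    ext x
    rw [MonoidHom.mem_ker, Subgroup.mem_subgroupOf]
    constructor
    · intro hx
      apply Subtype.ext
      show (QuotientGroup.mk' (C.subgroupOf E)) (Subgroup.inclusion hErE x) = 1
      rw [QuotientGroup.mk'_apply, QuotientGroup.eq_one_iff]
      exact hx
    · intro hx
      have h1 := congrArg Subtype.val hx
      have h2 : (QuotientGroup.mk' (C.subgroupOf E)) (Subgroup.inclusion hErE x) = 1 := h1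
      rw [QuotientGroup.mk'_apply, QuotientGroup.eq_one_iff] at h2
      exact h2
  have h4 : Cfsg.IsQuasisimple (↥Er ⧸ C.subgroupOf Er) := by
    have e : ↥Er ⧸ C.subgroupOf Er ≃* ↥Kb :=
      (QuotientGroup.quotientMulEquivOfEq hker).trans
        (QuotientGroup.quotientKerEquivOfSurjective φ hφsurj)
    exact Cfsg.Agent.Lib.Helper9.isQuasisimple_of_mulEquiv e.symm hqs
  -- the quotient `Er / O_p(Er)`
  have hperfEr : Group.IsPerfect ↥Er := Subgroup.isPerfect_iff.mpr h2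
  have hDrn : (Cfsg.pCore p ↥Er).Normal := pCore_normal p ↥Er
  have hDN : Cfsg.pCore p ↥Er ≤ C.subgroupOf Er := by
    intro x hx
    rw [Subgroup.mem_subgroupOf]
    have hx' : (x : G) ∈ Cfsg.pCoreOf p Er := Subgroup.mem_map_of_mem Er.subtype hx
    exact hDrC hx'
  have hF : ∀ n ∈ Er ⊓ C, ∀ y ∈ Er, ⁅n, y⁆ ∈ Cfsg.pCoreOf p Er := by
    intro n hn y hy
    have hn1 := (Subgroup.mem_inf.mp hn).1
    have hnC := (Subgroup.mem_inf.mp hn).2
    apply hFle
    refine Subgroup.mem_inf.mpr ⟨?_, ?_⟩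
    · apply h43
      rw [Subgroup.commutator_comm]
      exact Subgroup.commutator_mem_commutator hnC (hErEc hy)
    · exact commutator_le_of_le Er Er Er le_rfl le_rfl (Subgroup.commutator_mem_commutator hn1 hy)
  have hmemDr : ∀ z : ↥Er, (z : G) ∈ Cfsg.pCoreOf p Er → z ∈ Cfsg.pCore p ↥Er := by
    intro z hz
    unfold Cfsg.pCoreOf at hz
    obtain ⟨w, hw, hwz⟩ := hz
    have hwz' : w = z := Subtype.ext hwz
    rwa [hwz'] at hw
  have hcent : (C.subgroupOf Er).map (QuotientGroup.mk' (Cfsg.pCore p ↥Er)) ≤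
      Subgroup.center (↥Er ⧸ Cfsg.pCore p ↥Er) := by
    rintro _ ⟨n, hn, rfl⟩
    rw [Subgroup.mem_center_iff]
    intro yb
    obtain ⟨y, rfl⟩ := QuotientGroup.mk'_surjective _ yb
    rw [← map_mul, ← map_mul, QuotientGroup.mk'_apply, QuotientGroup.mk'_apply, QuotientGroup.eq]
    apply hmemDr
    have hnC : (n : G) ∈ C := Subgroup.mem_subgroupOf.mp hn
    have h5 := hF (n : G)⁻¹ (Subgroup.inv_mem _ (Subgroup.mem_inf.mpr ⟨n.2, hnC⟩)) (y : G)⁻¹
      (Er.inv_mem y.2)
    have e1 : (((y * n)⁻¹ * (n * y) : ↥Er) : G) = ⁅(n : G)⁻¹, (y : G)⁻¹⁆ := by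
      simp only [Subgroup.coe_mul, Subgroup.coe_inv, commutatorElement_def]; group
    rw [e1]; exact h5
  have h5 : Cfsg.IsQuasisimple (↥Er ⧸ Cfsg.pCore p ↥Er) := by
    have e := QuotientGroup.quotientQuotientEquivQuotient (Cfsg.pCore p ↥Er) (C.subgroupOf Er) hDN
    have hq' := Cfsg.Agent.Lib.Helper9.isQuasisimple_of_mulEquiv e.symm h4
    exact isQuasisimple_of_quotient_central inferInstance _ hcent hq'
  refine ⟨?_, h2, ?_, h4, h5, h6⟩
  · rw [map_pResidual_eq_opUp]; exact h1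
  · rw [map_pResidual_eq_opUp]; exact hErEr

end Cfsg.Agent.S2860
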