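import Cfsg.Statements.S2864
import Cfsg.Agent.Lib.Helper16.FrakMExist
import Cfsg.Agent.Lib.Helper16.PClosedCentral
import Cfsg.Agent.S2845

set_option autoImplicit false
open Cfsg
open Cfsg.Agent.Lib.Helper16
open scoped commutatorElement Pointwise

namespace Cfsg.Agent.S2864

/-- Standing hypotheses: G a finite group, S a Sylow p-subgroup, Q a nontrivial large p-subgroup of G contained in S, M a subgroup containing S with the basic property (M ∈ 𝔐_G(S)); Y_M the largest p-reduced normal subgroup of M and M† = M·C_G(Y_M). Let I be a nontrivial normal p-subgroup of M and Y ≤ O_p(M†); let L be a subgroup of G containing Y and A a normal p-subgroup of L with I ≤ A ≤ M. If [Y, A] ≤ [I, A], then Y ≤ O_p(L). -/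
theorem result {G : Type*} [Group G] [Finite G] {p : ℕ} [Fact p.Prime] (S : Sylow p G) (Q : Subgroup G) (hQp : IsPGroup p ↥Q) (hQ1 : Q ≠ ⊥) (hQS : Q ≤ (S : Subgroup G)) (hQ : Cfsg.IsLarge Q) (M : Subgroup G) (hSM : (S : Subgroup G) ≤ M) (hM : Cfsg.IsInFrakM p M) (I : Subgroup G) (hI1 : I ≠ ⊥) (hIp : IsPGroup p ↥I) (hIM : I ≤ M ∧ M ≤ Subgroup.normalizer ((I : Subgroup G) : Set G)) (Y : Subgroup G) (hY : Y ≤ (Cfsg.pCoreOf p (M ⊔ Subgroup.centralizer (((Cfsg.largestPReducedOf p M) : Subgroup G) : Set G)))) (L : Subgroup G) (hYL : Y ≤ L) (A : Subgroup G) (hAp : IsPGroup p ↥A) (hAL : A ≤ L ∧ L ≤ Subgroup.normalizer ((A : Subgroup G) : Set G)) (hIA : I ≤ A) (hAM : A ≤ M) (hc : ⁅Y, A⁆ ≤ ⁅I, A⁆) : Y ≤ (Cfsg.pCoreOf p L) := by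
  have hpar := (Cfsg.Agent.S2845.result Q hQp hQ1 hQ).2.1
  set Md := M ⊔ Subgroup.centralizer ((Cfsg.largestPReducedOf p M : Subgroup G) : Set G) with hMd
  have hNI : Subgroup.normalizer (I : Set G) ≤ Md :=
    frakM_le_dagger hM _ (mem_charPSubgroups_of_parabolic hpar S _ I (hSM.trans hIM.2) hI1 hIp
      Subgroup.le_normalizer le_rfl) hIM.2
  set D := L ⊓ Subgroup.centralizer (A : Set G) with hD
  have hDMd : D ≤ Md :=
    inf_le_right.trans ((Subgroup.centralizer_le hIA).trans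
      ((Subgroup.centralizer_le_normalizer _).trans hNI))
  have hLND : L ≤ Subgroup.normalizer (D : Set G) := by
    refine le_trans ?_ (inf_normalizer_le_normalizer_inf _ _)
    exact le_inf Subgroup.le_normalizer (hAL.2.trans (normalizer_le_normalizer_centralizer A))
  set D₀ := opDown p D with hD₀
  set Pd := Cfsg.pCoreOf p Md with hPd
  have hPdp : IsPGroup p Pd := by rw [hPd, pCoreOf_eq_opDown]; exact opDown_isPGroup p Md
  have hMdN : Md ≤ Subgroup.normalizer (Pd : Set G) := by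
    rw [hPd, pCoreOf_eq_opDown]; exact le_normalizer_opDown p Md
  have h3 : D ⊓ Pd ≤ D₀ := by
    apply le_opDown p inf_le_left
    · refine le_trans ?_ (inf_normalizer_le_normalizer_inf _ _)
      exact le_inf Subgroup.le_normalizer (hDMd.trans hMdN)
    · exact hPdp.to_le inf_le_right
  have hkey : ∀ d ∈ D, ∀ y ∈ Y, ⁅d, y⁆ ∈ D₀ := by
    intro d hd y hy
    apply h3
    refine Subgroup.mem_inf.mpr ⟨?_, ?_⟩
    · have e : ⁅d, y⁆ = d * (y * d⁻¹ * y⁻¹) := by rw [commutatorElement_def]; group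
      rw [e]
      exact D.mul_mem hd (conj_mem_of_mem_normalizer (hLND (hYL hy)) (D.inv_mem hd))
    · have e : ⁅d, y⁆ = (d * y * d⁻¹) * y⁻¹ := by rw [commutatorElement_def]
      rw [e]
      exact Pd.mul_mem (conj_mem_of_mem_normalizer (hMdN (hDMd hd)) (hY hy)) (Pd.inv_mem (hY hy))
  have hAn : (A.subgroupOf L).Normal :=
    (Subgroup.normal_subgroupOf_iff_le_normalizer hAL.1).mpr hAL.2
  have hD₀L : D₀ ≤ L := (opDown_le p D).trans inf_le_left
  have hD₀n : (D₀.subgroupOf L).Normal :=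
    (Subgroup.normal_subgroupOf_iff_le_normalizer hD₀L).mpr
      (hLND.trans (normalizer_le_normalizer_opDown p D))
  have hcomm : ⁅A.subgroupOf L, A.subgroupOf L⁆ = (⁅A, A⁆).subgroupOf L := by
    have h1 : (⁅A.subgroupOf L, A.subgroupOf L⁆).map L.subtype = ⁅A, A⁆ := by
      rw [Subgroup.map_commutator, Subgroup.map_subgroupOf_eq_of_le hAL.1]
    rw [← h1]
    exact (Subgroup.comap_map_eq_self_of_injective L.subtype_injective _).symm
  have hAA : ⁅A, Y⁆ ≤ ⁅A, A⁆ := by
    rw [Subgroup.commutator_comm]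
    exact hc.trans (Subgroup.commutator_mono hIA le_rfl)
  have hYp : IsPGroup p Y := hPdp.to_le hY
  have hmain := @le_pCore_of_commutator_conditions ↥L _ _ p _ (A.subgroupOf L)
    (D₀.subgroupOf L) (Y.subgroupOf L) hAn hD₀n hAp.comap_subtype
    (opDown_isPGroup p D).comap_subtype hYp.comap_subtype
    (by
      intro a ha y hy
      rw [hcomm, Subgroup.mem_subgroupOf]
      have e : ((⁅a, y⁆ : ↥L) : G) = ⁅(a : G), (y : G)⁆ := by simp [commutatorElement_def]
      rw [e]
      exact hAA (Subgroup.commutator_mem_commutator (Subgroup.mem_subgroupOf.mp ha)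
        (Subgroup.mem_subgroupOf.mp hy)))
    (by
      intro d hd y hy
      rw [centralizer_subgroupOf_eq L A hAL.1, Subgroup.mem_subgroupOf] at hd
      rw [Subgroup.mem_subgroupOf]
      have e : ((⁅d, y⁆ : ↥L) : G) = ⁅(d : G), (y : G)⁆ := by simp [commutatorElement_def]
      rw [e]
      exact hkey _ (Subgroup.mem_inf.mpr ⟨d.2, hd⟩) _ (Subgroup.mem_subgroupOf.mp hy))
  intro y hy
  exact ⟨⟨y, hYL hy⟩, hmain (Subgroup.mem_subgroupOf.mpr hy), rfl⟩

end Cfsg.Agent.S2864
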