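import Cfsg.Statements.S2873
import Mathlib
import Cfsg.Agent.Lib.Helper2.Cores
import Cfsg.Agent.Lib.Helper2.SylowCount

set_option autoImplicit false
set_option maxHeartbeats 800000
open Cfsg

namespace Cfsg.Agent.S2873

section DFacts
variable {n : ℕ} [hn : Fact n.Prime]

theorem two_ne_zero_zmod (hn2 : n ≠ 2) : (2 : ZMod n) ≠ 0 := by
  intro h
  have h' : ((2 : ℕ) : ZMod n) = 0 := by exact_mod_cast h
  rw [ZMod.natCast_eq_zero_iff] at h'
  exact hn2 ((Nat.prime_dvd_prime_iff_eq hn.out Nat.prime_two).mp h')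

theorem d1 (hn2 : n ≠ 2) (d : DihedralGroup n) (hd : orderOf d = 2) :
    ∃ i, d = DihedralGroup.sr i := by
  cases d with
  | r i =>
    exfalso
    have h1 : (DihedralGroup.r i) ^ n = 1 := by
      rw [DihedralGroup.r_pow, ZMod.natCast_self, mul_zero, DihedralGroup.r_zero]
    have h2 := orderOf_dvd_of_pow_eq_one h1
    rw [hd] at h2
    exact hn2 ((Nat.prime_dvd_prime_iff_eq Nat.prime_two hn.out).mp h2).symm
  | sr i => exact ⟨i, rfl⟩

theorem d3 (hn2 : n ≠ 2) (d : DihedralGroup n) (hd : d ^ n = 1) :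
    ∃ j, d = DihedralGroup.r j := by
  cases d with
  | r i => exact ⟨i, rfl⟩
  | sr j =>
    exfalso
    rcases hn.out.eq_two_or_odd' with h | h
    · exact hn2 h
    · obtain ⟨t, ht⟩ := h
      have h3 : (DihedralGroup.sr j) ^ (2 * t + 1) = DihedralGroup.sr j := by
        rw [pow_succ, pow_mul, pow_two, DihedralGroup.sr_mul_self, one_pow, one_mul]
      have h4 : (DihedralGroup.sr j) ^ n = DihedralGroup.sr j := by
        have : (DihedralGroup.sr j) ^ n = (DihedralGroup.sr j) ^ (2 * t + 1) := congrArg _ ht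
        rw [this, h3]
      rw [h4, DihedralGroup.one_def] at hd
      cases hd

theorem d2 (hn2 : n ≠ 2) (i i' : ZMod n) :
    ∃ k, DihedralGroup.r k * DihedralGroup.sr i * (DihedralGroup.r k)⁻¹ = DihedralGroup.sr i' := by
  refine ⟨(i - i') * (2 : ZMod n)⁻¹, ?_⟩
  rw [DihedralGroup.r_mul_sr, DihedralGroup.inv_r, DihedralGroup.sr_mul_r]
  congr 1
  have h2 := two_ne_zero_zmod hn2
  field_simp
  ring

theorem d4 (i j : ZMod n) :
    DihedralGroup.sr i * DihedralGroup.r j * (DihedralGroup.sr i)⁻¹ = (DihedralGroup.r j)⁻¹ := by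
  rw [DihedralGroup.sr_mul_r, DihedralGroup.inv_sr, DihedralGroup.sr_mul_sr, DihedralGroup.inv_r]
  congr 1
  ring

end DFacts

section Main
variable {G : Type*} [Group G] [Finite G] {r : ℕ} [hr : Fact r.Prime]

/-- the abstract setting -/
structure Setting (Q : Subgroup G) (R : Sylow r G) (φ : G →* DihedralGroup r) : Prop where
  hr2 : r ≠ 2
  hQn : Q.Normal
  hQ2 : IsPGroup 2 Q
  hker : ∀ g, φ g = 1 ↔ g ∈ Q
  hsurj : Function.Surjective φ
  hC : Q ⊓ Subgroup.centralizer ((R : Subgroup G) : Set G) = ⊥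
  hcard : Nat.card G = 2 * r * Nat.card Q

variable {Q : Subgroup G} {R : Sylow r G} {φ : G →* DihedralGroup r}

theorem cardR (S : Setting Q R φ) : Nat.card (R : Subgroup G) = r := by
  have hrp := hr.out
  obtain ⟨k, hk⟩ := IsPGroup.iff_card.mp R.isPGroup'
  obtain ⟨m, hm⟩ := IsPGroup.iff_card.mp S.hQ2
  have hdvd : Nat.card (R : Subgroup G) ∣ Nat.card G := Subgroup.card_subgroup_dvd_card _
  rw [hk, S.hcard, hm] at hdvd
  have hcop : Nat.Coprime (r ^ k) (2 * 2 ^ m) := by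
    apply Nat.Coprime.pow_left
    rw [← pow_succ']
    apply Nat.Coprime.pow_right
    exact (Nat.coprime_primes hrp Nat.prime_two).mpr S.hr2
  have h1 : r ^ k ∣ r := by
    have : 2 * r * 2 ^ m = r * (2 * 2 ^ m) := by ring
    rw [this] at hdvd
    exact hcop.dvd_of_dvd_mul_right hdvd
  have hk1 : k ≤ 1 := by
    have : r ^ k ∣ r ^ 1 := by simpa using h1
    exact (Nat.pow_dvd_pow_iff_le_right hrp.one_lt).mp this
  have hrdvd : r ∣ Nat.card G := by
    rw [S.hcard]; exact Dvd.intro_left 2 rfl |>.mul_right _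
  have h2 : r ∣ Nat.card (R : Subgroup G) := R.dvd_card_of_dvd_card hrdvd
  rw [hk] at h2 ⊢
  interval_cases k
  · rw [pow_zero, Nat.dvd_one] at h2
    exact absurd h2 hrp.one_lt.ne'
  · simp

theorem RQ (S : Setting Q R φ) : (R : Subgroup G) ⊓ Q = ⊥ := by
  apply Subgroup.inf_eq_bot_of_coprime
  obtain ⟨m, hm⟩ := IsPGroup.iff_card.mp S.hQ2
  rw [cardR S, hm]
  apply Nat.Coprime.pow_right
  exact (Nat.coprime_primes hr.out Nat.prime_two).mpr S.hr2

theorem NQ (S : Setting Q R φ) :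
    Subgroup.normalizer ((R : Subgroup G) : Set G) ⊓ Q = ⊥ := by
  haveI := S.hQn
  rw [eq_bot_iff]
  intro n hn
  obtain ⟨hnN, hnQ⟩ := Subgroup.mem_inf.mp hn
  have : n ∈ Q ⊓ Subgroup.centralizer ((R : Subgroup G) : Set G) := by
    refine Subgroup.mem_inf.mpr ⟨hnQ, ?_⟩
    rw [Subgroup.mem_centralizer_iff]
    intro y hy
    have h1 : n * y * n⁻¹ * y⁻¹ ∈ (R : Subgroup G) :=
      Subgroup.mul_mem _ ((Subgroup.mem_normalizer_iff.mp hnN y).mp hy) (Subgroup.inv_mem _ hy)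
    have h2 : n * y * n⁻¹ * y⁻¹ ∈ Q := by
      have : y * n⁻¹ * y⁻¹ ∈ Q := S.hQn.conj_mem _ (Subgroup.inv_mem _ hnQ) y
      have e : n * y * n⁻¹ * y⁻¹ = n * (y * n⁻¹ * y⁻¹) := by group
      rw [e]; exact Subgroup.mul_mem _ hnQ this
    have h3 : n * y * n⁻¹ * y⁻¹ ∈ (R : Subgroup G) ⊓ Q := Subgroup.mem_inf.mpr ⟨h1, h2⟩
    rw [RQ S, Subgroup.mem_bot] at h3
    have e : y * n = (n * y * n⁻¹ * y⁻¹)⁻¹ * (n * y) := by group
    rw [e, h3]; simp
  rwa [S.hC] at this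

theorem gen (S : Setting Q R φ) {x : G} (hx : x ∈ (R : Subgroup G)) (hx1 : x ≠ 1) {y : G}
    (hy : y ∈ (R : Subgroup G)) : y ∈ Subgroup.zpowers x := by
  have h := mem_zpowers_of_prime_card (G := ↥(R : Subgroup G)) (p := r) (cardR S)
    (g := ⟨x, hx⟩) (g' := ⟨y, hy⟩) (fun h => hx1 (congrArg Subtype.val h))
  obtain ⟨k, hk⟩ := Subgroup.mem_zpowers_iff.mp h
  refine Subgroup.mem_zpowers_iff.mpr ⟨k, ?_⟩
  have := congrArg Subtype.val hk
  simpa using this

theorem cent (S : Setting Q R φ) {x : G} (hx : x ∈ (R : Subgroup G)) (hx1 : x ≠ 1) {c : G}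
    (hc : c ∈ Q) (hcx : c * x = x * c) : c = 1 := by
  have : c ∈ Q ⊓ Subgroup.centralizer ((R : Subgroup G) : Set G) := by
    refine Subgroup.mem_inf.mpr ⟨hc, ?_⟩
    rw [Subgroup.mem_centralizer_iff]
    intro y hy
    obtain ⟨k, rfl⟩ := Subgroup.mem_zpowers_iff.mp (gen S hx hx1 hy)
    have hcomm : Commute c x := hcx
    exact ((hcomm.zpow_right k).eq).symm
  rw [S.hC, Subgroup.mem_bot] at this
  exact this

theorem decomp (S : Setting Q R φ) (g : G) :
    ∃ n ∈ Subgroup.normalizer ((R : Subgroup G) : Set G), ∃ q ∈ Q, g = n * q := by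
  haveI := S.hQn
  -- the normal subgroup K = R Q
  obtain ⟨K, hK⟩ : ∃ K : Subgroup G, K = ((R : Subgroup G).map φ).comap φ := ⟨_, rfl⟩
  have hKeq : K = (R : Subgroup G) ⊔ Q := by
    rw [hK, Subgroup.comap_map_eq]
    congr 1
    ext g
    rw [MonoidHom.mem_ker]
    exact S.hker g
  have hmapcard : Nat.card ((R : Subgroup G).map φ) = r := by
    have hinj : Function.Injective (φ.comp (R : Subgroup G).subtype) := by
      rw [injective_iff_map_eq_one]
      intro y hy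
      have h1 : (y : G) ∈ Q := (S.hker _).mp hy
      have h2 : (y : G) ∈ (R : Subgroup G) ⊓ Q := Subgroup.mem_inf.mpr ⟨y.2, h1⟩
      rw [RQ S, Subgroup.mem_bot] at h2
      exact Subtype.ext h2
    have e : (R : Subgroup G).map φ = (φ.comp (R : Subgroup G).subtype).range := by
      rw [MonoidHom.range_comp, Subgroup.range_subtype]
    rw [e]
    exact ((Nat.card_congr (MonoidHom.ofInjective hinj).toEquiv).symm).trans (cardR S)
  have hidx : ((R : Subgroup G).map φ).index = 2 := by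
    have h1 := Subgroup.index_mul_card ((R : Subgroup G).map φ)
    rw [hmapcard, DihedralGroup.nat_card] at h1
    have hrpos := hr.out.pos
    nlinarith
  haveI hmn : ((R : Subgroup G).map φ).Normal := Subgroup.normal_of_index_eq_two hidx
  haveI hKn : K.Normal := by rw [hK]; exact Subgroup.Normal.comap hmn φ
  have hRK : (R : Subgroup G) ≤ K := by rw [hKeq]; exact le_sup_left
  have hfr := Cfsg.Agent.Lib.Helper2.frattini_sylow R K hRK
  have hntop : Subgroup.normalizer (K : Set G) = ⊤ := Subgroup.normalizer_eq_top_iff.mpr hKn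
  have hg : g ∈ Subgroup.normalizer ((R : Subgroup G) : Set G) ⊔ K := by
    apply hfr; rw [hntop]; exact Subgroup.mem_top g
  have hle : Subgroup.normalizer ((R : Subgroup G) : Set G) ⊔ K ≤
      Subgroup.normalizer ((R : Subgroup G) : Set G) ⊔ Q := by
    rw [hKeq]
    apply sup_le le_sup_left
    exact sup_le (Subgroup.le_normalizer.trans le_sup_left) le_sup_right
  have hg2 := hle hg
  have hmul := Subgroup.mul_normal (Subgroup.normalizer ((R : Subgroup G) : Set G)) Q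
  have : g ∈ ((Subgroup.normalizer ((R : Subgroup G) : Set G) ⊔ Q : Subgroup G) : Set G) := hg2
  rw [hmul, Set.mem_mul] at this
  obtain ⟨n, hn, q, hq, hnq⟩ := this
  exact ⟨n, hn, q, hq, hnq.symm⟩

/-- the isomorphism of the normalizer with the dihedral group -/
theorem iso (S : Setting Q R φ) :
    ∃ ψ : ↥(Subgroup.normalizer ((R : Subgroup G) : Set G)) ≃* DihedralGroup r,
      ∀ n, ψ n = φ (n : G) := by
  let f : ↥(Subgroup.normalizer ((R : Subgroup G) : Set G)) →* DihedralGroup r :=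
    φ.comp (Subgroup.normalizer ((R : Subgroup G) : Set G)).subtype
  have hinj : Function.Injective f := by
    rw [injective_iff_map_eq_one]
    intro y hy
    have h1 : (y : G) ∈ Q := (S.hker _).mp hy
    have h2 : (y : G) ∈ Subgroup.normalizer ((R : Subgroup G) : Set G) ⊓ Q :=
      Subgroup.mem_inf.mpr ⟨y.2, h1⟩
    rw [NQ S, Subgroup.mem_bot] at h2
    exact Subtype.ext h2
  have hsurj : Function.Surjective f := by
    intro d
    obtain ⟨g, rfl⟩ := S.hsurj d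
    obtain ⟨n, hn, q, hq, rfl⟩ := decomp S g
    refine ⟨⟨n, hn⟩, ?_⟩
    show φ n = φ (n * q)
    rw [map_mul, (S.hker q).mpr hq, mul_one]
  exact ⟨MulEquiv.ofBijective f ⟨hinj, hsurj⟩, fun n => rfl⟩

theorem inverts (S : Setting Q R φ) {a : G}
    (ha : a ∈ Subgroup.normalizer ((R : Subgroup G) : Set G)) (ha2 : orderOf a = 2) {x : G}
    (hx : x ∈ (R : Subgroup G)) : a * x * a⁻¹ = x⁻¹ := by
  obtain ⟨ψ, hψ⟩ := iso S
  have hxN : x ∈ Subgroup.normalizer ((R : Subgroup G) : Set G) := Subgroup.le_normalizer hx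
  have h1 : orderOf (ψ ⟨a, ha⟩) = 2 := by
    rw [MulEquiv.orderOf_eq, Subgroup.orderOf_mk, ha2]
  obtain ⟨i, hi⟩ := d1 S.hr2 _ h1
  have h2 : (ψ ⟨x, hxN⟩) ^ r = 1 := by
    rw [← map_pow]
    have : (⟨x, hxN⟩ : ↥(Subgroup.normalizer ((R : Subgroup G) : Set G))) ^ r = 1 := by
      apply Subtype.ext
      show x ^ r = 1
      have := pow_card_eq_one' (G := ↥(R : Subgroup G)) (x := ⟨x, hx⟩)
      rw [cardR S] at this
      exact congrArg Subtype.val this
    rw [this, map_one]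
  obtain ⟨j, hj⟩ := d3 S.hr2 _ h2
  have h3 : ψ (⟨a, ha⟩ * ⟨x, hxN⟩ * ⟨a, ha⟩⁻¹) = ψ (⟨x, hxN⟩⁻¹) := by
    rw [map_mul, map_mul, map_inv, map_inv, hi, hj, d4]
  have h4 := ψ.injective h3
  exact congrArg Subtype.val h4

theorem conjN (S : Setting Q R φ) {a b : G}
    (ha : a ∈ Subgroup.normalizer ((R : Subgroup G) : Set G)) (ha2 : orderOf a = 2)
    (hb : b ∈ Subgroup.normalizer ((R : Subgroup G) : Set G)) (hb2 : orderOf b = 2) :
    ∃ m ∈ Subgroup.normalizer ((R : Subgroup G) : Set G), m * a * m⁻¹ = b := by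
  obtain ⟨ψ, hψ⟩ := iso S
  have h1 : orderOf (ψ ⟨a, ha⟩) = 2 := by
    rw [MulEquiv.orderOf_eq, Subgroup.orderOf_mk, ha2]
  have h2 : orderOf (ψ ⟨b, hb⟩) = 2 := by
    rw [MulEquiv.orderOf_eq, Subgroup.orderOf_mk, hb2]
  obtain ⟨i, hi⟩ := d1 S.hr2 _ h1
  obtain ⟨i', hi'⟩ := d1 S.hr2 _ h2
  obtain ⟨k, hk⟩ := d2 S.hr2 i i'
  obtain ⟨m, hm⟩ := ψ.surjective (DihedralGroup.r k)
  refine ⟨(m : G), m.2, ?_⟩
  have h3 : ψ (m * ⟨a, ha⟩ * m⁻¹) = ψ ⟨b, hb⟩ := by
    rw [map_mul, map_mul, map_inv, hm, hi, hi', hk]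
  have h4 := ψ.injective h3
  exact congrArg Subtype.val h4

end Main

section Main2
variable {G : Type*} [Group G] [Finite G] {r : ℕ} [hr : Fact r.Prime]
variable {Q : Subgroup G} {R : Sylow r G} {φ : G →* DihedralGroup r}

theorem inv_of_order_two {a : G} (ha2 : orderOf a = 2) : a⁻¹ = a := by
  have h : a ^ 2 = 1 := by rw [← ha2]; exact pow_orderOf_eq_one a
  rw [pow_two] at h
  exact inv_eq_of_mul_eq_one_left h

/-- key lemma: an involution in the coset `Q a` is conjugate to `a` under `C_Q(a')` -/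
theorem lemmaB (S : Setting Q R φ) {a : G}
    (ha : a ∈ Subgroup.normalizer ((R : Subgroup G) : Set G)) (ha2 : orderOf a = 2) {x : G}
    (hx : x ∈ (R : Subgroup G)) (hx1 : x ≠ 1) {b : G} (hb2 : b * b = 1) (hbQ : b * a⁻¹ ∈ Q) :
    ∃ w ∈ Q, w * (x * a * x⁻¹) = (x * a * x⁻¹) * w ∧ b = w * a * w⁻¹ := by
  haveI := S.hQn
  have hrp := hr.out
  have hainv : a⁻¹ = a := inv_of_order_two ha2
  have haa : a * a = 1 := by
    have := mul_inv_cancel a
    rwa [hainv] at this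
  have hinv : a * x * a⁻¹ = x⁻¹ := inverts S ha ha2 hx
  obtain ⟨a', ha'⟩ : ∃ a' : G, a' = x * a * x⁻¹ := ⟨_, rfl⟩
  obtain ⟨x', hx'⟩ : ∃ x' : G, x' = a * a' := ⟨_, rfl⟩
  have hx'eq : x' = x⁻¹ * x⁻¹ := by
    rw [hx', ha']
    have e : a * (x * a * x⁻¹) = (a * x * a⁻¹) * (a * a) * x⁻¹ := by group
    rw [e, hinv, haa, mul_one]
  have hx'R : x' ∈ (R : Subgroup G) := by
    rw [hx'eq]; exact Subgroup.mul_mem _ (Subgroup.inv_mem _ hx) (Subgroup.inv_mem _ hx)
  have hxr : x ^ r = 1 := by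
    have := pow_card_eq_one' (G := ↥(R : Subgroup G)) (x := ⟨x, hx⟩)
    rw [cardR S] at this
    exact congrArg Subtype.val this
  have hx'1 : x' ≠ 1 := by
    intro h
    rw [hx'eq] at h
    have h2 : x ^ 2 = 1 := by
      have : (x ^ 2)⁻¹ = 1 := by rw [pow_two, mul_inv_rev]; exact h
      exact inv_eq_one.mp this
    have hd2 := orderOf_dvd_of_pow_eq_one h2
    have hdr := orderOf_dvd_of_pow_eq_one hxr
    have hcop : Nat.Coprime 2 r := (Nat.coprime_primes Nat.prime_two hrp).mpr (Ne.symm S.hr2)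
    have := Nat.dvd_gcd hd2 hdr
    rw [hcop.gcd_eq_one, Nat.dvd_one, orderOf_eq_one_iff] at this
    exact hx1 this
  have ha'a' : a' * a' = 1 := by
    rw [ha']
    have e : x * a * x⁻¹ * (x * a * x⁻¹) = x * (a * a) * x⁻¹ := by group
    rw [e, haa]; group
  have ha'inv : a'⁻¹ = a' := inv_eq_of_mul_eq_one_left ha'a'
  -- b a' = q₀ x'
  obtain ⟨q₀, hq₀⟩ : ∃ q₀ : G, q₀ = b * a⁻¹ := ⟨_, rfl⟩
  have hq₀Q : q₀ ∈ Q := hq₀ ▸ hbQ
  have hba' : b * a' = q₀ * x' := by rw [hq₀, hx']; group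
  -- the bijection w ↦ w x' w⁻¹ x'⁻¹
  have hsurj : ∃ w ∈ Q, w * x' * w⁻¹ * x'⁻¹ = q₀ := by
    let F : ↥Q → ↥Q := fun w => ⟨(w : G) * x' * (w : G)⁻¹ * x'⁻¹, by
      have h1 : x' * (w : G)⁻¹ * x'⁻¹ ∈ Q := S.hQn.conj_mem _ (Subgroup.inv_mem _ w.2) x'
      have e : (w : G) * x' * (w : G)⁻¹ * x'⁻¹ = (w : G) * (x' * (w : G)⁻¹ * x'⁻¹) := by group
      rw [e]; exact Subgroup.mul_mem _ w.2 h1⟩
    have hFinj : Function.Injective F := by
      intro w w₁ h
      have h' : (w : G) * x' * (w : G)⁻¹ * x'⁻¹ = (w₁ : G) * x' * (w₁ : G)⁻¹ * x'⁻¹ :=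
        congrArg Subtype.val h
      have h2 : (w : G) * x' * (w : G)⁻¹ = (w₁ : G) * x' * (w₁ : G)⁻¹ := mul_right_cancel h'
      have hc : ((w₁ : G)⁻¹ * (w : G)) * x' = x' * ((w₁ : G)⁻¹ * (w : G)) := by
        have e1 : ((w₁ : G)⁻¹ * (w : G)) * x' = (w₁ : G)⁻¹ * ((w : G) * x' * (w : G)⁻¹) * (w : G) := by
          group
        rw [e1, h2]; group
      have h3 := cent S hx'R hx'1 (Subgroup.mul_mem _ (Subgroup.inv_mem _ w₁.2) w.2) hc
      apply Subtype.ext
      have : (w : G) = (w₁ : G) * ((w₁ : G)⁻¹ * (w : G)) := by group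
      rw [this, h3, mul_one]
    have hFsurj : Function.Surjective F := Finite.injective_iff_surjective.mp hFinj
    obtain ⟨w, hw⟩ := hFsurj ⟨q₀, hq₀Q⟩
    exact ⟨(w : G), w.2, congrArg Subtype.val hw⟩
  obtain ⟨w, hwQ, hw⟩ := hsurj
  have hwx : w * x' * w⁻¹ = b * a' := by
    rw [hba', ← hw]; group
  obtain ⟨b₁, hb₁⟩ : ∃ b₁ : G, b₁ = w⁻¹ * b * w := ⟨_, rfl⟩
  obtain ⟨a₁, ha₁⟩ : ∃ a₁ : G, a₁ = w⁻¹ * a' * w := ⟨_, rfl⟩
  have hb₁a₁ : b₁ * a₁ = x' := by
    rw [hb₁, ha₁]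
    have e : w⁻¹ * b * w * (w⁻¹ * a' * w) = w⁻¹ * (b * a') * w := by group
    rw [e, ← hwx]; group
  have hb₁b₁ : b₁ * b₁ = 1 := by
    rw [hb₁]
    have e : w⁻¹ * b * w * (w⁻¹ * b * w) = w⁻¹ * (b * b) * w := by group
    rw [e, hb2]; group
  have ha₁a₁ : a₁ * a₁ = 1 := by
    rw [ha₁]
    have e : w⁻¹ * a' * w * (w⁻¹ * a' * w) = w⁻¹ * (a' * a') * w := by group
    rw [e, ha'a']; group
  have hb₁inv : b₁⁻¹ = b₁ := inv_eq_of_mul_eq_one_left hb₁b₁
  have ha₁inv : a₁⁻¹ = a₁ := inv_eq_of_mul_eq_one_left ha₁a₁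
  have hb₁x' : b₁ * x' * b₁⁻¹ = x'⁻¹ := by
    rw [← hb₁a₁, mul_inv_rev, hb₁inv, ha₁inv]
    have e : b₁ * (b₁ * a₁) * b₁ = (b₁ * b₁) * a₁ * b₁ := by group
    rw [e, hb₁b₁, one_mul]
  -- b₁ normalizes R
  have hb₁N : b₁ ∈ Subgroup.normalizer ((R : Subgroup G) : Set G) := by
    have hconj : ∀ y ∈ (R : Subgroup G), b₁ * y * b₁⁻¹ ∈ (R : Subgroup G) := by
      intro y hy
      obtain ⟨k, rfl⟩ := Subgroup.mem_zpowers_iff.mp (gen S hx'R hx'1 hy)
      have e : b₁ * x' ^ k * b₁⁻¹ = (b₁ * x' * b₁⁻¹) ^ k := by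
        rw [conj_zpow]
      rw [e, hb₁x']
      exact Subgroup.zpow_mem _ (Subgroup.inv_mem _ hx'R) k
    rw [Subgroup.mem_normalizer_iff]
    intro y
    constructor
    · exact hconj y
    · intro hy
      have := hconj _ hy
      rw [hb₁inv] at this
      have e : b₁ * (b₁ * y * b₁) * b₁ = (b₁ * b₁) * y * (b₁ * b₁) := by group
      rwa [e, hb₁b₁, one_mul, mul_one] at this
  have hb₁aQ : b₁ * a⁻¹ ∈ Q := by
    rw [hb₁]
    have h1 : a * w * a⁻¹ ∈ Q := S.hQn.conj_mem _ hwQ a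
    have e : w⁻¹ * b * w * a⁻¹ = w⁻¹ * (b * a⁻¹) * (a * w * a⁻¹) := by group
    rw [e]
    exact Subgroup.mul_mem _ (Subgroup.mul_mem _ (Subgroup.inv_mem _ hwQ) hbQ) h1
  have hb₁a : b₁ = a := by
    have h1 : b₁ * a⁻¹ ∈ Subgroup.normalizer ((R : Subgroup G) : Set G) ⊓ Q :=
      Subgroup.mem_inf.mpr ⟨Subgroup.mul_mem _ hb₁N (Subgroup.inv_mem _ ha), hb₁aQ⟩
    rw [NQ S, Subgroup.mem_bot] at h1
    exact mul_inv_eq_one.mp h1
  have ha₁a' : a₁ = a' := by
    have h1 : a₁ = b₁⁻¹ * x' := by rw [← hb₁a₁]; group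
    rw [h1, hb₁a, hx']; group
  refine ⟨w, hwQ, ?_, ?_⟩
  · rw [← ha']
    have h1 : w * a₁ = a' * w := by rw [ha₁]; group
    rw [ha₁a'] at h1
    exact h1
  · have h1 : b = w * b₁ * w⁻¹ := by rw [hb₁]; group
    rw [h1, hb₁a]

end Main2

/-- Let G be a finite group and r an odd prime such that G ⧸ O₂(G) is dihedral of order 2r, and let R be a Sylow r-subgroup of G with C_{O₂(G)}(R) = 1. Then N_G(R) is dihedral of order 2r; for any involution a of N_G(R), every involution of G outside O₂(G) is conjugate to a; and |C_{O₂(G)}(a)|² = |O₂(G)|. -/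
theorem result {G : Type*} [Group G] [Finite G] {r : ℕ} [Fact r.Prime] (hr : r ≠ 2) [hN : (Cfsg.pCore 2 G).Normal] (hquot : Nonempty (G ⧸ Cfsg.pCore 2 G ≃* DihedralGroup r)) (R : Sylow r G) (hC : Cfsg.pCore 2 G ⊓ Subgroup.centralizer ((R : Subgroup G) : Set G) = ⊥) : Nonempty (↥(Subgroup.normalizer ((R : Subgroup G) : Set G)) ≃* DihedralGroup r) ∧ ∀ a : G, a ∈ Subgroup.normalizer ((R : Subgroup G) : Set G) → orderOf a = 2 → (∀ b : G, orderOf b = 2 → b ∉ Cfsg.pCore 2 G → ∃ g : G, g * a * g⁻¹ = b) ∧ Nat.card ↥(Cfsg.pCore 2 G ⊓ Subgroup.centralizer ({a} : Set G)) ^ 2 = Nat.card ↥(Cfsg.pCore 2 G) := by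
  classical
  have hrp : r.Prime := Fact.out
  obtain ⟨e⟩ := hquot
  obtain ⟨φ, hφ⟩ : ∃ φ : G →* DihedralGroup r,
      φ = e.toMonoidHom.comp (QuotientGroup.mk' (Cfsg.pCore 2 G)) := ⟨_, rfl⟩
  have S : Setting (Cfsg.pCore 2 G) R φ :=
    { hr2 := hr
      hQn := hN
      hQ2 := Cfsg.Agent.Lib.Helper2.pCore_isPGroup 2
      hker := by
        intro g
        rw [hφ]
        show e (QuotientGroup.mk g) = 1 ↔ _
        rw [MulEquiv.map_eq_one_iff, QuotientGroup.eq_one_iff]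
      hsurj := by
        rw [hφ]
        exact e.surjective.comp (QuotientGroup.mk'_surjective _)
      hC := hC
      hcard := by
        rw [Subgroup.card_eq_card_quotient_mul_card_subgroup (Cfsg.pCore 2 G),
          Nat.card_congr e.toEquiv, DihedralGroup.nat_card] }
  obtain ⟨Q, hQ⟩ : ∃ Q : Subgroup G, Q = Cfsg.pCore 2 G := ⟨_, rfl⟩
  rw [← hQ] at S ⊢
  haveI hQn : Q.Normal := S.hQn
  refine ⟨?_, ?_⟩
  · obtain ⟨ψ, -⟩ := iso S
    exact ⟨ψ⟩
  · intro a ha ha2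
    obtain ⟨x, hx, hx1⟩ : ∃ x ∈ (R : Subgroup G), x ≠ 1 := by
      have hne : (R : Subgroup G) ≠ ⊥ := by
        intro h
        have := cardR S
        rw [h, Subgroup.card_bot] at this
        exact hrp.one_lt.ne this
      obtain ⟨y, hy⟩ := (Subgroup.ne_bot_iff_exists_ne_one).mp hne
      exact ⟨(y : G), y.2, fun h => hy (Subtype.ext h)⟩
    have hainv : a⁻¹ = a := inv_of_order_two ha2
    have haa : a * a = 1 := by
      have := mul_inv_cancel a
      rwa [hainv] at this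
    constructor
    · intro b hb2 hbQ
      obtain ⟨n, hn, q, hq, rfl⟩ := decomp S b
      obtain ⟨ψ, hψ⟩ := iso S
      have hbb : (n * q) * (n * q) = 1 := by
        have h : (n * q) ^ 2 = 1 := by rw [← hb2]; exact pow_orderOf_eq_one _
        rwa [pow_two] at h
      have hφn : φ (n * q) = φ n := by rw [map_mul, (S.hker q).mpr hq, mul_one]
      have hnn : n * n = 1 := by
        have h1 : ψ (⟨n, hn⟩ * ⟨n, hn⟩) = 1 := by
          rw [map_mul, hψ]
          show φ n * φ n = 1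
          rw [← hφn, ← map_mul, hbb, map_one]
        have h2 := (MulEquiv.map_eq_one_iff ψ).mp h1
        exact congrArg Subtype.val h2
      have hn1 : n ≠ 1 := by
        intro h
        apply hbQ
        rw [h, one_mul]; exact hq
      have hn2 : orderOf n = 2 := orderOf_eq_prime (by rw [pow_two]; exact hnn) hn1
      obtain ⟨m, hm, hman⟩ := conjN S ha ha2 hn hn2
      obtain ⟨b', hb'⟩ : ∃ b' : G, b' = m⁻¹ * (n * q) * m := ⟨_, rfl⟩
      have hb'b' : b' * b' = 1 := by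
        rw [hb']
        have e1 : m⁻¹ * (n * q) * m * (m⁻¹ * (n * q) * m) = m⁻¹ * ((n * q) * (n * q)) * m := by group
        rw [e1, hbb]; group
      have hb'Q : b' * a⁻¹ ∈ Q := by
        have h1 : m⁻¹ * n * m = a := by rw [← hman]; group
        have h2 : m⁻¹ * q * m⁻¹⁻¹ ∈ Q := hQn.conj_mem _ hq m⁻¹
        have h3 : a * (m⁻¹ * q * m⁻¹⁻¹) * a⁻¹ ∈ Q := hQn.conj_mem _ h2 a
        have e1 : b' * a⁻¹ = (m⁻¹ * n * m) * (m⁻¹ * q * m⁻¹⁻¹) * a⁻¹ := by rw [hb']; group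
        rw [e1, h1]; exact h3
      obtain ⟨w, -, -, hw⟩ := lemmaB S ha ha2 hx hx1 hb'b' hb'Q
      refine ⟨m * w, ?_⟩
      have e1 : n * q = m * b' * m⁻¹ := by rw [hb']; group
      rw [e1, hw]; group
    · obtain ⟨a', ha'⟩ : ∃ a' : G, a' = x * a * x⁻¹ := ⟨_, rfl⟩
      obtain ⟨A₁, hA₁⟩ : ∃ A₁ : Subgroup G, A₁ = Q ⊓ Subgroup.centralizer ({a} : Set G) :=
        ⟨_, rfl⟩
      obtain ⟨A₂, hA₂⟩ : ∃ A₂ : Subgroup G, A₂ = Q ⊓ Subgroup.centralizer ({a'} : Set G) :=
        ⟨_, rfl⟩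
      have memA₁ : ∀ c : G, c ∈ A₁ ↔ c ∈ Q ∧ c * a = a * c := by
        intro c
        rw [hA₁, Subgroup.mem_inf, Subgroup.mem_centralizer_singleton_iff]
      have memA₂ : ∀ c : G, c ∈ A₂ ↔ c ∈ Q ∧ c * a' = a' * c := by
        intro c
        rw [hA₂, Subgroup.mem_inf, Subgroup.mem_centralizer_singleton_iff]
      rw [← hA₁]
      -- x' = a a' ∈ R, nontrivial
      have hinv : a * x * a⁻¹ = x⁻¹ := inverts S ha ha2 hx
      have hx'eq : a * a' = x⁻¹ * x⁻¹ := by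
        rw [ha']
        have e1 : a * (x * a * x⁻¹) = (a * x * a⁻¹) * (a * a) * x⁻¹ := by group
        rw [e1, hinv, haa, mul_one]
      have hx'R : a * a' ∈ (R : Subgroup G) := by
        rw [hx'eq]; exact Subgroup.mul_mem _ (Subgroup.inv_mem _ hx) (Subgroup.inv_mem _ hx)
      have hxr : x ^ r = 1 := by
        have := pow_card_eq_one' (G := ↥(R : Subgroup G)) (x := ⟨x, hx⟩)
        rw [cardR S] at this
        exact congrArg Subtype.val this
      have hx'1 : a * a' ≠ 1 := by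
        intro h
        rw [hx'eq] at h
        have h2 : x ^ 2 = 1 := by
          have : (x ^ 2)⁻¹ = 1 := by rw [pow_two, mul_inv_rev]; exact h
          exact inv_eq_one.mp this
        have hd2 := orderOf_dvd_of_pow_eq_one h2
        have hdr := orderOf_dvd_of_pow_eq_one hxr
        have hcop : Nat.Coprime 2 r := (Nat.coprime_primes Nat.prime_two hrp).mpr (Ne.symm S.hr2)
        have := Nat.dvd_gcd hd2 hdr
        rw [hcop.gcd_eq_one, Nat.dvd_one, orderOf_eq_one_iff] at this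
        exact hx1 this
      -- the bijection A₂ × A₁ → Q
      let F : ↥A₂ × ↥A₁ → ↥Q := fun p => ⟨(p.1 : G) * (p.2 : G),
        Subgroup.mul_mem _ ((memA₂ _).mp p.1.2).1 ((memA₁ _).mp p.2.2).1⟩
      have hFinj : Function.Injective F := by
        rintro ⟨w, c⟩ ⟨w', c'⟩ h
        have h' : (w : G) * (c : G) = (w' : G) * (c' : G) := congrArg Subtype.val h
        obtain ⟨hwQ, hwa⟩ := (memA₂ _).mp w.2
        obtain ⟨hw'Q, hw'a⟩ := (memA₂ _).mp w'.2
        obtain ⟨hcQ, hca⟩ := (memA₁ _).mp c.2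
        obtain ⟨hc'Q, hc'a⟩ := (memA₁ _).mp c'.2
        obtain ⟨d, hd⟩ : ∃ d : G, d = (w' : G)⁻¹ * (w : G) := ⟨_, rfl⟩
        have hd2 : d = (c' : G) * (c : G)⁻¹ := by
          rw [hd]
          have : (w : G) = (w' : G) * (c' : G) * (c : G)⁻¹ := by rw [← h']; group
          rw [this]; group
        have hdQ : d ∈ Q := by
          rw [hd]; exact Subgroup.mul_mem _ (Subgroup.inv_mem _ hw'Q) hwQ
        have hda' : d * a' = a' * d := by
          rw [hd]
          have e1 : (w' : G)⁻¹ * (w : G) * a' = (w' : G)⁻¹ * ((w : G) * a') := by group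
          rw [e1, hwa]
          have e2 : (w' : G)⁻¹ * (a' * (w : G)) = (w' : G)⁻¹ * (a' * (w' : G)) * ((w' : G)⁻¹ * (w : G)) := by
            group
          rw [e2, ← hw'a]; group
        have hda : d * a = a * d := by
          rw [hd2]
          have e1 : (c' : G) * (c : G)⁻¹ * a = (c' : G) * ((c : G)⁻¹ * (a * (c : G))) * (c : G)⁻¹ := by group
          rw [e1, ← hca]
          have e2 : (c' : G) * ((c : G)⁻¹ * ((c : G) * a)) * (c : G)⁻¹ = ((c' : G) * a) * (c : G)⁻¹ := by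
            group
          rw [e2, hc'a]; group
        have hdx' : d * (a * a') = (a * a') * d := by
          rw [← mul_assoc, hda, mul_assoc, hda', ← mul_assoc]
        have hd1 : d = 1 := cent S hx'R hx'1 hdQ hdx'
        have hww' : (w : G) = (w' : G) := by
          have : (w : G) = (w' : G) * d := by rw [hd]; group
          rw [this, hd1, mul_one]
        have hcc' : (c : G) = (c' : G) := by
          rw [hww'] at h'
          exact mul_left_cancel h'
        exact Prod.ext (Subtype.ext hww') (Subtype.ext hcc')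
      have hFsurj : Function.Surjective F := by
        rintro ⟨u, hu⟩
        have hb2 : (u * a * u⁻¹) * (u * a * u⁻¹) = 1 := by
          have e1 : u * a * u⁻¹ * (u * a * u⁻¹) = u * (a * a) * u⁻¹ := by group
          rw [e1, haa]; group
        have hbQ : (u * a * u⁻¹) * a⁻¹ ∈ Q := by
          have h1 : a * u⁻¹ * a⁻¹ ∈ Q := hQn.conj_mem _ (Subgroup.inv_mem _ hu) a
          have e1 : u * a * u⁻¹ * a⁻¹ = u * (a * u⁻¹ * a⁻¹) := by group
          rw [e1]; exact Subgroup.mul_mem _ hu h1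
        obtain ⟨w, hwQ, hwa', hw⟩ := lemmaB S ha ha2 hx hx1 hb2 hbQ
        rw [← ha'] at hwa'
        have hcQ : w⁻¹ * u ∈ Q := Subgroup.mul_mem _ (Subgroup.inv_mem _ hwQ) hu
        have hca : (w⁻¹ * u) * a = a * (w⁻¹ * u) := by
          have e1 : w⁻¹ * u * a = w⁻¹ * (u * a * u⁻¹) * u := by group
          rw [e1, hw]; group
        refine ⟨(⟨w, (memA₂ w).mpr ⟨hwQ, hwa'⟩⟩, ⟨w⁻¹ * u, (memA₁ _).mpr ⟨hcQ, hca⟩⟩), ?_⟩
        apply Subtype.ext
        show w * (w⁻¹ * u) = u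
        group
      have hcardQ : Nat.card ↥Q = Nat.card ↥A₂ * Nat.card ↥A₁ := by
        rw [← Nat.card_prod]
        exact (Nat.card_congr (Equiv.ofBijective F ⟨hFinj, hFsurj⟩)).symm
      -- |A₁| = |A₂|
      have hcardA : Nat.card ↥A₁ = Nat.card ↥A₂ := by
        apply Nat.card_congr
        refine
          { toFun := fun c => ⟨x * (c : G) * x⁻¹, ?_⟩
            invFun := fun c => ⟨x⁻¹ * (c : G) * x, ?_⟩
            left_inv := ?_
            right_inv := ?_ }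
        · obtain ⟨hcQ, hca⟩ := (memA₁ _).mp c.2
          refine (memA₂ _).mpr ⟨hQn.conj_mem _ hcQ x, ?_⟩
          rw [ha']
          have e1 : x * (c : G) * x⁻¹ * (x * a * x⁻¹) = x * ((c : G) * a) * x⁻¹ := by group
          rw [e1, hca]; group
        · obtain ⟨hcQ, hca'⟩ := (memA₂ _).mp c.2
          refine (memA₁ _).mpr ⟨?_, ?_⟩
          · have := hQn.conj_mem _ hcQ x⁻¹
            simpa using this
          · rw [ha'] at hca'
            have e1 : x⁻¹ * (c : G) * x * a = x⁻¹ * ((c : G) * (x * a * x⁻¹)) * x := by group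
            rw [e1, hca']; group
        · intro c
          apply Subtype.ext
          show x⁻¹ * (x * (c : G) * x⁻¹) * x = c
          group
        · intro c
          apply Subtype.ext
          show x * (x⁻¹ * (c : G) * x) * x⁻¹ = c
          group
      rw [hcardQ, ← hcardA, pow_two]

end Cfsg.Agent.S2873
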