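import Cfsg.Statements.S2879
import Cfsg.Agent.Lib.Helper9.SL23
import Cfsg.Agent.Lib.Helper9.AutQ8
import Cfsg.Agent.Lib.Helper9.DihedralLikeInst
import Cfsg.Agent.Lib.Helper2.Cores
import Cfsg.Agent.Lib.Helper20.Bender

set_option autoImplicit false
open Cfsg

namespace Cfsg.Agent.S2879

open Cfsg.Agent.Lib.Helper9.QuatSylow Cfsg.Agent.Lib.Helper9.SLTwoThree

set_option maxRecDepth 100000 in
theorem quat2_center : ∀ p : QuaternionGroup 2, (∀ q, q * p = p * q) →
    p = 1 ∨ p = QuaternionGroup.a 2 := by decide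

theorem quat2_a_two_sq : (QuaternionGroup.a 2 : QuaternionGroup 2) ^ 2 = 1 := by decide

/-- the common core of the dihedral and quasi-dihedral cases -/
theorem core {G : Type*} [Group G] [Finite G] (hsol : Group.IsSolvable G)
    (hO : Cfsg.pPrimeCore 2 G = ⊥) (T : Sylow 2 G) (hne : (T : Subgroup G) ≠ ⊤)
    (hZ : ((T : Subgroup G) ⊓ Subgroup.centralizer ((T : Subgroup G) : Set G)).Normal)
    {T' : Type*} [Group T'] {A : Subgroup T'} {z : T'} (hDL : DihedralLike A z) {m : ℕ}
    (hcard : Nat.card T' = 2 ^ m) (j : ↥(T : Subgroup G) →* T') (hj : Function.Injective j)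
    (h8 : 8 ≤ Nat.card (T : Subgroup G)) :
    ∃ U : Subgroup G, U.Normal ∧
      Nonempty (↥U ≃* Matrix.SpecialLinearGroup (Fin 2) (ZMod 3)) := by
  classical
  haveI : Fact (Nat.Prime 2) := ⟨Nat.prime_two⟩
  obtain ⟨R, hRdef⟩ : ∃ R : Subgroup G, R = Cfsg.pCore 2 G := ⟨_, rfl⟩
  haveI hRn : R.Normal := by rw [hRdef]; exact Cfsg.Agent.Lib.Helper2.pCore_normal 2
  have hRp : IsPGroup 2 R := by rw [hRdef]; exact Cfsg.Agent.Lib.Helper2.pCore_isPGroup 2
  have hRT : R ≤ (T : Subgroup G) := by
    rw [hRdef]; exact Cfsg.Agent.Lib.Helper2.pCore_le_sylow 2 T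
  have hCR : Subgroup.centralizer (R : Set G) ≤ R := by
    rw [hRdef]
    exact Cfsg.Agent.Lib.Helper20.solvable_centralizer_pCore_le 2 hO
  -- an element of odd prime order
  obtain ⟨r, hr, hrdvd⟩ := Nat.exists_prime_and_dvd
    (show (T : Subgroup G).index ≠ 1 from fun h => hne (Subgroup.index_eq_one.mp h))
  haveI : Fact r.Prime := ⟨hr⟩
  have hr2 : r ≠ 2 := by
    intro h
    rw [h] at hrdvd
    exact T.not_dvd_index hrdvd
  have hrodd : Odd r := hr.odd_of_ne_two hr2
  obtain ⟨g, hg⟩ := exists_prime_orderOf_dvd_card' r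
    (hrdvd.trans (Subgroup.index_dvd_card (T : Subgroup G)))
  have hg1 : g ≠ 1 := by
    intro h
    rw [h, orderOf_one] at hg
    exact hr.one_lt.ne hg
  obtain ⟨σ, hσdef⟩ : ∃ σ : MulAut R, σ = MulAut.conjNormal g := ⟨_, rfl⟩
  have hσapp : ∀ q : R, ((σ q : R) : G) = g * q * g⁻¹ := by
    intro q; rw [hσdef, MulAut.conjNormal_apply]
  have hσk : σ ^ r = 1 := by
    rw [hσdef, ← map_pow, ← hg, pow_orderOf_eq_one, map_one]
  have hσne : σ ≠ 1 := by
    intro h1
    apply hg1
    have hgC : g ∈ Subgroup.centralizer (R : Set G) := by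
      rw [Subgroup.mem_centralizer_iff]
      intro q hq
      have := hσapp ⟨q, hq⟩
      rw [h1, MulAut.one_apply] at this
      have h2 : g * q * g⁻¹ = q := this.symm
      calc q * g = (g * q * g⁻¹) * g := by rw [h2]
        _ = g * q := by group
    have hgR : g ∈ R := hCR hgC
    obtain ⟨k, hk⟩ := hRp ⟨g, hgR⟩
    have hk' : g ^ 2 ^ k = 1 := by
      have := congrArg Subtype.val hk
      simpa using this
    have h3 : orderOf g ∣ 2 ^ k := orderOf_dvd_of_pow_eq_one hk'
    rw [hg] at h3
    have h4 : r ∣ 2 := hr.dvd_of_dvd_pow h3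
    exact absurd ((Nat.prime_dvd_prime_iff_eq hr Nat.prime_two).mp h4) hr2
  have hιinj : Function.Injective (j.comp (Subgroup.inclusion hRT)) := by
    intro q₁ q₂ h
    exact Subgroup.inclusion_injective hRT (hj h)
  rcases card_four_or_quat8 hDL hcard _ hιinj σ hrodd hσk hσne with hR4 | hRQ
  · -- `|R| = 4`: impossible
    exfalso
    obtain ⟨Z, hZdef⟩ : ∃ Z : Subgroup G,
        Z = (T : Subgroup G) ⊓ Subgroup.centralizer ((T : Subgroup G) : Set G) := ⟨_, rfl⟩
    rw [← hZdef] at hZ
    have hZT : Z ≤ (T : Subgroup G) := by rw [hZdef]; exact inf_le_left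
    have hZp : IsPGroup 2 Z := T.2.to_le hZT
    have hZR : Z ≤ R := by
      rw [hRdef]; exact Cfsg.Agent.Lib.Helper2.le_pCore hZ hZp
    have hZne : Z ≠ ⊥ := by
      have : Nontrivial (T : Subgroup G) := by
        rw [← Finite.one_lt_card_iff_nontrivial]; omega
      have := IsPGroup.center_nontrivial (T.2)
      obtain ⟨c, hc⟩ := exists_ne (1 : Subgroup.center (T : Subgroup G))
      intro hbot
      apply hc
      have hcZ : ((c : (T : Subgroup G)) : G) ∈ Z := by
        rw [hZdef]
        refine Subgroup.mem_inf.mpr ⟨(c : (T : Subgroup G)).2, ?_⟩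
        rw [Subgroup.mem_centralizer_iff]
        intro t ht
        have := Subgroup.mem_center_iff.mp c.2 ⟨t, ht⟩
        exact congrArg Subtype.val this
      rw [hbot, Subgroup.mem_bot] at hcZ
      apply Subtype.ext
      apply Subtype.ext
      exact hcZ
    have hZneR : Z ≠ R := by
      intro hZR'
      have hTC : (T : Subgroup G) ≤ Subgroup.centralizer (R : Set G) := by
        rw [← hZR', hZdef]
        intro t ht
        rw [Subgroup.mem_centralizer_iff]
        intro c hc
        have hc2 := (Subgroup.mem_inf.mp hc).2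
        rw [Subgroup.mem_centralizer_iff] at hc2
        exact (hc2 t ht).symm
      have h1 := Subgroup.card_le_of_le (hTC.trans hCR)
      omega
    have hZcard : Nat.card Z = 2 := by
      have h1 : Nat.card Z ∣ 4 := by rw [← hR4]; exact Subgroup.card_dvd_of_le hZR
      have h2 : Nat.card Z ≠ 1 := fun h => hZne (Subgroup.card_eq_one.mp h)
      have h3 : Nat.card Z ≠ 4 := by
        intro h
        apply hZneR
        exact Subgroup.eq_of_le_of_card_ge hZR (by rw [h, hR4])
      have h4 : Nat.card Z ≤ 4 := Nat.le_of_dvd (by norm_num) h1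
      interval_cases (Nat.card Z) <;> simp_all
    -- `σ` stabilizes `1 < Z < R`
    obtain ⟨Z', hZ'def⟩ : ∃ Z' : Subgroup R, Z' = Z.subgroupOf R := ⟨_, rfl⟩
    have hZ'card : Nat.card Z' = 2 ^ 1 := by
      rw [hZ'def, Nat.card_congr (Subgroup.subgroupOfEquivOfLe hZR).toEquiv, hZcard, pow_one]
    have hZ'mem : ∀ q : R, q ∈ Z' ↔ (q : G) ∈ Z := by
      intro q; rw [hZ'def, Subgroup.mem_subgroupOf]
    have hZ'inv : ∀ q : R, σ q ∈ Z' ↔ q ∈ Z' := by
      intro q
      rw [hZ'mem, hZ'mem, hσapp]
      exact hZ.mem_comm_iff.trans (by rw [inv_mul_cancel_left])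
    have hZ'cyc : IsCyclic Z' := isCyclic_of_prime_card (p := 2) (by rw [hZ'card, pow_one])
    have hfix := fixes_of_cyclic_invariant σ hrodd hσk Z' hZ'card
      (fun b hb => (hZ'inv b).mpr hb)
    have hZ'idx : Z'.index = 2 := by
      have h1 := Subgroup.card_mul_index Z'
      rw [hZ'card, hR4] at h1
      omega
    apply hσne
    ext q
    rw [MulAut.one_apply]
    have hc : q⁻¹ * σ q ∈ Z' := by
      rw [Subgroup.mul_mem_iff_of_index_two hZ'idx, inv_mem_iff, hZ'inv]
    have hcpow : (q⁻¹ * σ q) ^ (2 ^ 1) = 1 := by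
      have := pow_card_eq_one' (G := Z') (x := ⟨_, hc⟩)
      rw [hZ'card] at this
      have h2 := congrArg Subtype.val this
      rwa [Subgroup.coe_pow] at h2
    have := fixed_of_stable σ hrodd hσk (q := q) (c := q⁻¹ * σ q) (by group) (hfix _ hc) hcpow
    exact congrArg Subtype.val this
  · -- `R` is quaternion of order `8`
    obtain ⟨e⟩ := hRQ
    have hR8 : Nat.card R = 8 := by
      rw [Nat.card_congr e.toEquiv, Nat.card_eq_fintype_card, QuaternionGroup.card]
    obtain ⟨hσ3, -⟩ := exists_adapted e σ hrodd hσk hσne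
    have hσord : orderOf σ = 3 := orderOf_eq_prime hσ3 hσne
    have hr3 : r = 3 := by
      have h1 : orderOf σ ∣ r := orderOf_dvd_of_pow_eq_one hσk
      rw [hσord] at h1
      exact ((Nat.prime_dvd_prime_iff_eq (by norm_num) hr).mp h1).symm
    rw [hr3] at hg
    -- `|G|` divides `48`
    have hG48 : Nat.card G ∣ 48 := by
      obtain ⟨φ, hφ⟩ : ∃ φ : G →* MulAut R, φ = MulAut.conjNormal := ⟨_, rfl⟩
      have h1 : Nat.card φ.ker * Nat.card φ.range = Nat.card G := by
        rw [← Subgroup.index_ker φ, Subgroup.card_mul_index]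
      have h2 : Nat.card φ.range ∣ 24 := by
        rw [← card_mulAut_of_mulEquiv e]
        exact Subgroup.card_subgroup_dvd_card _
      have h3 : Nat.card φ.ker ∣ 2 := by
        obtain ⟨w, hw⟩ : ∃ w : G, w = ((e.symm (QuaternionGroup.a 2) : R) : G) := ⟨_, rfl⟩
        have hw2 : w ^ 2 = 1 := by
          rw [hw, ← Subgroup.coe_pow, ← map_pow, quat2_a_two_sq, map_one, Subgroup.coe_one]
        have hle : φ.ker ≤ Subgroup.zpowers w := by
          intro x hx
          rw [MonoidHom.mem_ker, hφ] at hx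
          have hxq : ∀ q : R, x * (q : G) * x⁻¹ = q := by
            intro q
            have := MulAut.conjNormal_apply (H := R) x q
            rw [hx, MulAut.one_apply] at this
            exact this.symm
          have hxC : x ∈ Subgroup.centralizer (R : Set G) := by
            rw [Subgroup.mem_centralizer_iff]
            intro q hq
            have h2 := hxq ⟨q, hq⟩
            calc q * x = (x * q * x⁻¹) * x := by rw [h2]
              _ = x * q := by group
          have hxR : x ∈ R := hCR hxC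
          have hcen : ∀ p : QuaternionGroup 2, p * e ⟨x, hxR⟩ = e ⟨x, hxR⟩ * p := by
            intro p
            have h2 := hxq (e.symm p)
            have h3 : (e.symm p) * ⟨x, hxR⟩ = ⟨x, hxR⟩ * (e.symm p) := by
              apply Subtype.ext
              show ((e.symm p : R) : G) * x = x * ((e.symm p : R) : G)
              calc ((e.symm p : R) : G) * x = (x * ((e.symm p : R) : G) * x⁻¹) * x := by rw [h2]
                _ = x * ((e.symm p : R) : G) := by group
            have h4 := congrArg e h3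
            rwa [map_mul, map_mul, MulEquiv.apply_symm_apply] at h4
          rcases quat2_center _ hcen with h | h
          · have : (⟨x, hxR⟩ : R) = 1 := by
              apply e.injective; rw [h, map_one]
            have hx1 : x = 1 := congrArg Subtype.val this
            rw [hx1]; exact one_mem _
          · have : (⟨x, hxR⟩ : R) = e.symm (QuaternionGroup.a 2) := by
              apply e.injective; rw [h, MulEquiv.apply_symm_apply]
            have hxw : x = w := by rw [hw, ← this]
            rw [hxw]; exact Subgroup.mem_zpowers w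
        have h4 : Nat.card (Subgroup.zpowers w) ∣ 2 := by
          rw [Nat.card_zpowers]; exact orderOf_dvd_of_pow_eq_one hw2
        exact (Subgroup.card_dvd_of_le hle).trans h4
      rw [← h1]
      exact Nat.mul_dvd_mul h3 h2
    -- the subgroup `U = R⟨g⟩`
    obtain ⟨U, hU⟩ : ∃ U : Subgroup G, U = Subgroup.zpowers g ⊔ R := ⟨_, rfl⟩
    have hRU : R ≤ U := by rw [hU]; exact le_sup_right
    have hgU : g ∈ U := by
      rw [hU]; exact (le_sup_left : Subgroup.zpowers g ≤ _) (Subgroup.mem_zpowers g)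
    have hU24 : Nat.card U = 24 := by
      have h1 : Nat.card U ∣ 3 * 8 := by
        rw [hU, ← hR8, ← hg, ← Nat.card_zpowers]
        exact Cfsg.Agent.Lib.Helper2.card_sup_dvd_of_normal _ _
      have h8' : 8 ∣ Nat.card U := by rw [← hR8]; exact Subgroup.card_dvd_of_le hRU
      have h3' : 3 ∣ Nat.card U := by
        rw [← hg]; exact Subgroup.orderOf_dvd_natCard U hgU
      have h24 : 8 * 3 ∣ Nat.card U := Nat.Coprime.mul_dvd_of_dvd_of_dvd (by norm_num) h8' h3'
      exact Nat.dvd_antisymm h1 h24
    have hUn : U.Normal := by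
      have h1 := Subgroup.card_mul_index U
      rw [hU24] at h1
      have h2 : U.index ∣ 2 := by
        have h3 : 24 * U.index ∣ 24 * 2 := by rw [h1]; exact hG48
        exact Nat.dvd_of_mul_dvd_mul_left (by norm_num) h3
      have h3 : U.index = 1 ∨ U.index = 2 := by
        have := Nat.le_of_dvd (by norm_num) h2
        have hpos : U.index ≠ 0 := Subgroup.index_ne_zero_of_finite
        interval_cases (U.index) <;> simp_all
      rcases h3 with h | h
      · rw [Subgroup.index_eq_one.mp h]; infer_instance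
      · exact Subgroup.normal_of_index_eq_two h
    refine ⟨U, hUn, ?_⟩
    -- recognition
    have hQ'n : (R.subgroupOf U).Normal := inferInstance
    have hQ'8 : Nonempty (R.subgroupOf U ≃* QuaternionGroup 2) :=
      ⟨(Subgroup.subgroupOfEquivOfLe hRU).trans e⟩
    have hodd' : Odd (orderOf (⟨g, hgU⟩ : U)) := by
      rw [Subgroup.orderOf_mk, hg]; decide
    have hnc : ∃ q ∈ R.subgroupOf U, (⟨g, hgU⟩ : U) * q * (⟨g, hgU⟩ : U)⁻¹ ≠ q := by
      by_contra hcon
      simp only [not_exists, not_and, not_not] at hcon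
      apply hσne
      ext q
      rw [MulAut.one_apply, hσapp]
      have h1 := hcon ⟨q, hRU q.2⟩ (by rw [Subgroup.mem_subgroupOf]; exact q.2)
      exact congrArg Subtype.val h1
    exact nonempty_mulEquiv_SL23 (R.subgroupOf U) hQ'8 ⟨g, hgU⟩ hodd' hnc hU24

/-- Let G be a finite solvable group with O(G) = 1 whose Sylow 2-subgroup T is dihedral of order at least 8 or semidihedral, with G ≠ T and Z(T) normal in G. Then G has a normal subgroup isomorphic to SL₂(3). -/
theorem result {G : Type*} [Group G] [Finite G] (hsol : IsSolvable G) (hO : Cfsg.oddCore G = ⊥) (T : Sylow 2 G) (hT : (∃ n : ℕ, 4 ≤ n ∧ Nonempty (↥(T : Subgroup G) ≃* DihedralGroup n)) ∨ Cfsg.IsQuasiDihedral ↥(T : Subgroup G)) (hne : (T : Subgroup G) ≠ ⊤) (hZ : ((T : Subgroup G) ⊓ Subgroup.centralizer ((T : Subgroup G) : Set G)).Normal) : ∃ U : Subgroup G, U.Normal ∧ Nonempty (↥U ≃* Matrix.SpecialLinearGroup (Fin 2) (ZMod 3)) := by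
  have hO' : Cfsg.pPrimeCore 2 G = ⊥ := hO
  rcases hT with ⟨n, hn, ⟨ψ⟩⟩ | hQD
  · have hcardT : Nat.card (T : Subgroup G) = 2 * n := by
      rw [Nat.card_congr ψ.toEquiv, DihedralGroup.nat_card]
    obtain ⟨k, hk⟩ := T.2.exists_card_eq
    have hcardD : Nat.card (DihedralGroup n) = 2 ^ k := by
      rw [DihedralGroup.nat_card, ← hcardT, hk]
    exact core hsol hO' T hne hZ
      (Cfsg.Agent.Lib.Helper9.QuatSylow.dihedralLike_dihedralGroup n) hcardD ψ.toMonoidHom
      ψ.injective (by rw [hcardT]; omega)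
  · obtain ⟨A, z, m, hDL, hcard, hm⟩ :=
      Cfsg.Agent.Lib.Helper9.QuatSylow.exists_dihedralLike_of_isQuasiDihedral hQD
    have h16 : 2 ^ 4 ≤ 2 ^ m := Nat.pow_le_pow_right (by norm_num) hm
    exact core hsol hO' T hne hZ hDL hcard (MonoidHom.id _) Function.injective_id
      (by rw [hcard]; omega)

end Cfsg.Agent.S2879
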