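import Mathlib
import Cfsg.Statements.S2880
import Cfsg.Agent.Lib.Helper18.ESRank

set_option autoImplicit false
open Cfsg

namespace Cfsg.Agent.S2880

open Cfsg.Agent.Lib.Helper18.ES

/-- Let E be an extraspecial 2-group of order 2^(2m+1) of plus type, that is, containing an elementary abelian subgroup of order 2^(m+1) (equivalently, a central product of m dihedral groups of order 8). Then E has exactly 2^(2m) − 2^m elements of order 4. -/
theorem result {E : Type*} [Group E] [Finite E] (m : ℕ) (hm : 1 ≤ m) (hE : Cfsg.IsExtraspecial 2 E) (hcard : Nat.card E = 2 ^ (2 * m + 1)) (hplus : ∃ A : Subgroup E, Cfsg.IsElementaryAbelian 2 A ∧ Nat.card A = 2 ^ (m + 1)) : Nat.card {x : E // orderOf x = 4} = 2 ^ (2 * m) - 2 ^ m := by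
  classical
  have h := isES_of_isExtraspecial hE
  obtain ⟨A, ⟨hAc, hA2⟩, hcA⟩ := hplus
  have hAcomm : ∀ a ∈ A, ∀ b ∈ A, a * b = b * a := by
    intro a ha b hb
    have := hAc.is_comm.comm ⟨a, ha⟩ ⟨b, hb⟩
    exact congrArg Subtype.val this
  have hN := nsq_of_elementary m E h hcard A hAcomm hA2 hcA
  -- fourth powers are trivial
  have h4 : ∀ g : E, g ^ 4 = 1 := by
    intro g
    have := h.pow_eq_one_of_mem_center (h.pow_mem_center g)
    rw [← pow_mul] at this
    exact this
  have hiff : ∀ g : E, orderOf g = 4 ↔ ¬ g ^ 2 = 1 := by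
    intro g
    constructor
    · intro ho h2
      have := orderOf_dvd_of_pow_eq_one h2
      rw [ho] at this
      omega
    · intro h2
      have hd : orderOf g ∣ 2 ^ 2 := orderOf_dvd_of_pow_eq_one (by norm_num; exact h4 g)
      obtain ⟨k, hk, hk2⟩ := (Nat.dvd_prime_pow Nat.prime_two).mp hd
      interval_cases k
      · exfalso; apply h2
        rw [pow_zero, orderOf_eq_one_iff] at hk2
        rw [hk2, one_pow]
      · exfalso; apply h2
        rw [pow_one] at hk2
        rw [← hk2]; exact pow_orderOf_eq_one g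
      · rw [hk2]; norm_num
  haveI : Fintype E := Fintype.ofFinite E
  have e1 : Nat.card {x : E // orderOf x = 4} = Nat.card {x : E // ¬ x ^ 2 = 1} :=
    Nat.card_congr (Equiv.subtypeEquivRight hiff)
  have e2 : Nat.card {x : E // ¬ x ^ 2 = 1} = Nat.card E - nsq E := by
    rw [nsq, Nat.card_eq_fintype_card, Nat.card_eq_fintype_card, Nat.card_eq_fintype_card,
      Fintype.card_subtype_compl]
  rw [e1, e2, hN, hcard]
  have : 2 ^ (2 * m + 1) = 2 * 2 ^ (2 * m) := by ring
  have h3 : 2 ^ m ≤ 2 ^ (2 * m) := Nat.pow_le_pow_right (by norm_num) (by omega)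
  omega

end Cfsg.Agent.S2880
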