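import Mathlib
import Cfsg.Statements.S2881
import Cfsg.Agent.Lib.Helper18.ESRank

set_option autoImplicit false
set_option linter.style.haveILetI false
open Cfsg

namespace Cfsg.Agent.S2881

open Cfsg.Agent.Lib.Helper18.ES

/-- The action of the powers of an automorphism on the solutions of `g ^ 2 = 1`. -/
def sqAction {E : Type*} [Group E] (ω : E ≃* E) :
    MulAction (Subgroup.zpowers ω) {g : E // g ^ 2 = 1} where
  smul φ g := ⟨(φ : E ≃* E) g.1, by rw [← map_pow, g.2, map_one]⟩
  one_smul g := rfl
  mul_smul φ ψ g := rfl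

theorem pow_mod_five {m : ℕ} (h : 2 ^ m % 5 = 1) : 4 ∣ m := by
  have key : ∀ q r : ℕ, 2 ^ (4 * q + r) % 5 = 2 ^ r % 5 := by
    intro q r
    rw [pow_add, pow_mul, Nat.mul_mod, Nat.pow_mod]
    norm_num
  have hm : m = 4 * (m / 4) + m % 4 := (Nat.div_add_mod m 4).symm
  rw [hm, key] at h
  have hr : m % 4 < 4 := Nat.mod_lt _ (by norm_num)
  have : m % 4 = 0 := by
    interval_cases (m % 4) <;> simp_all
  exact Nat.dvd_of_mod_eq_zero this

/-- Let E be an extraspecial 2-group of order 2^(2m+1) of plus type (containing an elementary abelian subgroup of order 2^(m+1)), and let ω be an automorphism of E of order 5 whose fixed points are exactly the centre of E. Then m is divisible by 4. -/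
theorem result {E : Type*} [Group E] [Finite E] (m : ℕ) (hm : 1 ≤ m) (hE : Cfsg.IsExtraspecial 2 E) (hcard : Nat.card E = 2 ^ (2 * m + 1)) (hplus : ∃ A : Subgroup E, Cfsg.IsElementaryAbelian 2 A ∧ Nat.card A = 2 ^ (m + 1)) (ω : E ≃* E) (hω : orderOf ω = 5) (hfix : ∀ x : E, ω x = x ↔ x ∈ Subgroup.center E) : 4 ∣ m := by
  classical
  have h := isES_of_isExtraspecial hE
  haveI : Fact (Nat.Prime 5) := ⟨by norm_num⟩
  -- plus type
  have hN : nsq E = 2 ^ (2 * m) + 2 ^ m := by
    rcases nsq_cases m E h hcard with h1 | h1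
    · exact h1
    · exfalso
      have hR := (pRankLE_iff_minus h hm hcard).mpr h1
      obtain ⟨A, ⟨hA1, hA2⟩, hcA⟩ := hplus
      have := hR A hA1 hA2
      rw [hcA] at this
      have : m + 1 ≤ m := (Nat.pow_le_pow_iff_right (by norm_num)).mp this
      omega
  -- the cyclic group generated by ω is a 5-group
  have hP : IsPGroup 5 (Subgroup.zpowers ω) := by
    apply IsPGroup.of_card (n := 1)
    rw [Nat.card_zpowers, hω, pow_one]
  -- fixed points of ω on E
  have hfixE : ∀ x : E, x ∈ MulAction.fixedPoints (Subgroup.zpowers ω) E ↔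
      x ∈ Subgroup.center E := by
    intro x
    rw [← hfix, MulAction.mem_fixedPoints]
    constructor
    · intro hx
      exact hx ⟨ω, Subgroup.mem_zpowers ω⟩
    · intro hx g
      obtain ⟨g, hg⟩ := g
      obtain ⟨k, rfl⟩ := Subgroup.mem_zpowers_iff.mp hg
      show (ω ^ k) x = x
      have : ∀ n : ℕ, (ω ^ n) x = x := by
        intro n
        induction n with
        | zero => rfl
        | succ n ih => rw [pow_succ, MulAut.mul_apply, hx, ih]
      rcases Int.eq_nat_or_neg k with ⟨n, rfl | rfl⟩
      · rw [zpow_natCast]; exact this n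
      · rw [zpow_neg, zpow_natCast]
        have h1 := this n
        calc ((ω ^ n)⁻¹) x = ((ω ^ n)⁻¹) ((ω ^ n) x) := by rw [h1]
          _ = x := by rw [← MulAut.mul_apply, inv_mul_cancel]; rfl
  have hcardfix : Nat.card (MulAction.fixedPoints (Subgroup.zpowers ω) E) = 2 := by
    rw [← h.1]
    apply Nat.card_congr
    exact Equiv.subtypeEquivRight hfixE
  have hmod1 := hP.card_modEq_card_fixedPoints E
  rw [hcardfix, hcard] at hmod1
  -- fixed points of ω on the solutions of g ^ 2 = 1
  letI := sqAction ω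
  have hfixX : Nat.card (MulAction.fixedPoints (Subgroup.zpowers ω) {g : E // g ^ 2 = 1}) = 2 := by
    refine (Nat.card_congr ?_).trans h.1
    refine
      { toFun := fun g => ⟨g.1.1, (hfixE g.1.1).mp ?_⟩
        invFun := fun z => ⟨⟨z.1, by
          have := h.pow_eq_one_of_mem_center z.2
          exact this⟩, ?_⟩
        left_inv := fun _ => rfl
        right_inv := fun _ => rfl }
    · rw [MulAction.mem_fixedPoints]
      intro φ
      have := (MulAction.mem_fixedPoints.mp g.2) φ
      exact congrArg Subtype.val this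
    · rw [MulAction.mem_fixedPoints]
      intro φ
      apply Subtype.ext
      have := (MulAction.mem_fixedPoints.mp ((hfixE z.1).mpr z.2)) φ
      exact this
  have hmod2 := hP.card_modEq_card_fixedPoints {g : E // g ^ 2 = 1}
  rw [hfixX] at hmod2
  have hN' : Nat.card {g : E // g ^ 2 = 1} = 2 ^ (2 * m) + 2 ^ m := hN
  rw [hN'] at hmod2
  -- arithmetic
  apply pow_mod_five
  have e1 : 2 ^ (2 * m + 1) = 2 * 2 ^ (2 * m) := by ring
  rw [e1] at hmod1
  unfold Nat.ModEq at hmod1 hmod2
  omega

end Cfsg.Agent.S2881
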