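import Cfsg.Statements.S2896
import Cfsg.Agent.Lib.Helper16.CharPBridge
import Cfsg.Agent.Lib.Helper16.FrakMExist

set_option autoImplicit false
open Cfsg
open Cfsg.Agent.Lib.Helper16
open scoped commutatorElement Pointwise

namespace Cfsg.Agent.S2896

theorem mem_centralizer_singleton_iff {G : Type*} [Group G] (z x : G) :
    x ∈ Subgroup.centralizer ({z} : Set G) ↔ z * x = x * z := by
  rw [Subgroup.mem_centralizer_iff]
  constructor
  · intro h; exact h z rfl
  · intro h y hy
    rw [Set.mem_singleton_iff] at hy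
    subst hy
    exact h

theorem exists_conj_sylow {G : Type*} [Group G] [Finite G] {p : ℕ} [Fact p.Prime]
    (S T' : Sylow p G) :
    ∃ g : G, (∀ s ∈ (S : Subgroup G), g * s * g⁻¹ ∈ (T' : Subgroup G)) ∧
      (∀ t ∈ (T' : Subgroup G), g⁻¹ * t * g ∈ (S : Subgroup G)) := by
  obtain ⟨g, hg⟩ := MulAction.exists_smul_eq G S T'
  refine ⟨g, ?_, ?_⟩
  · intro s hs
    rw [← hg, Sylow.coe_subgroup_smul, Subgroup.mem_pointwise_smul_iff_inv_smul_mem]
    simp only [MulAut.smul_def, MulAut.conj_inv_apply]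
    have e : g⁻¹ * (g * s * g⁻¹) * g = s := by group
    rw [e]; exact hs
  · intro t ht
    rw [← hg, Sylow.coe_subgroup_smul, Subgroup.mem_pointwise_smul_iff_inv_smul_mem] at ht
    simp only [MulAut.smul_def, MulAut.conj_inv_apply] at ht
    exact ht

theorem conj_pow_eq_one {G : Type*} [Group G] (g l : G) (p : ℕ) (h : l ^ p = 1) :
    (g⁻¹ * l * g) ^ p = 1 := by
  have : (g⁻¹ * l * g) ^ p = g⁻¹ * l ^ p * g := by
    have := map_pow (MulAut.conj g⁻¹) l p
    simpa [MulAut.conj_apply] using this.symm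
  rw [this, h]; group

theorem conj_ne_one {G : Type*} [Group G] (g l : G) (h : l ≠ 1) : g⁻¹ * l * g ≠ 1 := by
  intro h'
  apply h
  have : l = g * (g⁻¹ * l * g) * g⁻¹ := by group
  rw [this, h']; group

/-- Transfer step: if `l ≠ 1`, `l ^ p = 1`, `l` lies in a Sylow `p`-subgroup `T'`, and
characteristic `p` is known for `C_G(z)` for the relevant `z ∈ S`, then `C_G(l)` has
characteristic `p`.  `hc` says whether centrality is required/transferred. -/
theorem charP_centralizer_of_conj {G : Type*} [Group G] [Finite G] {p : ℕ} [Fact p.Prime]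
    (S T' : Sylow p G) (l : G) (hlT : l ∈ (T' : Subgroup G)) (hl1 : l ≠ 1) (hlp : l ^ p = 1)
    (hyp : ∀ z : G, z ≠ 1 → z ∈ (S : Subgroup G) → z ^ p = 1 →
      (l ∈ Subgroup.centralizer ((T' : Subgroup G) : Set G) →
        z ∈ Subgroup.centralizer ((S : Subgroup G) : Set G)) →
      IsCharPSub p (Subgroup.centralizer ({z} : Set G))) :
    IsCharPSub p (Subgroup.centralizer ({l} : Set G)) := by
  obtain ⟨g, hg1, hg2⟩ := exists_conj_sylow S T'
  set z := g⁻¹ * l * g with hz
  have h1 := hyp z (conj_ne_one g l hl1) (hg2 l hlT) (conj_pow_eq_one g l p hlp) (by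
    intro hlc
    rw [Subgroup.mem_centralizer_iff]
    intro s hs
    have := Subgroup.mem_centralizer_iff.mp hlc (g * s * g⁻¹) (hg1 s hs)
    calc s * z = g⁻¹ * ((g * s * g⁻¹) * l) * g := by rw [hz]; group
      _ = g⁻¹ * (l * (g * s * g⁻¹)) * g := by rw [this]
      _ = z * s := by rw [hz]; group)
  have h2 := isCharPSub_centralizer_conj z g h1
  have e : g * z * g⁻¹ = l := by rw [hz]; group
  rwa [e] at h2

/-- Parabolic `p`-locals have characteristic `p` if `C_G(z)` does for `1 ≠ z ∈ Ω₁(Z(S))`. -/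
theorem key {G : Type*} [Group G] [Finite G] {p : ℕ} [Fact p.Prime] (S : Sylow p G)
    (hyp : ∀ z : G, z ≠ 1 → z ∈ (S : Subgroup G) ⊓ Subgroup.centralizer ((S : Subgroup G) : Set G) →
      z ^ p = 1 → IsCharPSub p (Subgroup.centralizer ({z} : Set G)))
    (R : Subgroup G) (hRp : IsPGroup p R) (hR1 : R ≠ ⊥)
    (hpar : Cfsg.IsParabolic p (Subgroup.normalizer (R : Set G))) :
    IsCharPSub p (Subgroup.normalizer (R : Set G)) := by
  obtain ⟨T', hT'⟩ := hpar
  set N := Subgroup.normalizer (R : Set G) with hN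
  set Q := opDown p N with hQ
  have hRQ : R ≤ Q := le_opDown p Subgroup.le_normalizer le_rfl hRp
  have hQ1 : Q ≠ ⊥ := fun h => hR1 (le_bot_iff.mp (h ▸ hRQ))
  have hQT : Q ≤ (T' : Subgroup G) := opDown_le_sylow T' N hT'
  have hNQ : N ≤ Subgroup.normalizer ((Q : Subgroup G) : Set G) := le_normalizer_opDown p N
  have hne := inf_centralizer_ne_bot_of_normal (T' : Subgroup G) Q T'.2 hQT (hT'.trans hNQ) hQ1
  obtain ⟨l, hl, hl1, -, hlp⟩ := exists_central_of_ne_bot (p := p) _
    (T'.2.to_le (inf_le_left.trans hQT)) hne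
  have h2 := charP_centralizer_of_conj S T' l (hQT hl.1) hl1 hlp
    (fun z hz1 hzS hzp hc => hyp z hz1 ⟨hzS, hc hl.2⟩ hzp)
  apply isCharPSub_normalizer_of_centralizer R hRp l hl.1 _ h2
  intro r hr
  rw [mem_centralizer_singleton_iff]
  exact (Subgroup.mem_centralizer_iff.mp hl.2 r (hQT (hRQ hr))).symm

theorem centralizer_singleton_eq_zpowers {G : Type*} [Group G] (z : G) :
    Subgroup.centralizer ({z} : Set G) = Subgroup.centralizer ((Subgroup.zpowers z : Subgroup G) : Set G) := by
  apply le_antisymm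
  · intro x hx
    rw [mem_centralizer_singleton_iff] at hx
    rw [Subgroup.mem_centralizer_iff]
    intro y hy
    obtain ⟨k, rfl⟩ := Subgroup.mem_zpowers_iff.mp hy
    have hc : Commute z x := hx
    exact (hc.zpow_left k)
  · apply Subgroup.centralizer_le
    intro y hy
    rw [Set.mem_singleton_iff] at hy
    subst hy
    exact Subgroup.mem_zpowers y

/-- Let p be a prime dividing the order of the finite group G, S a Sylow p-subgroup of G and X a subgroup of S. (i) If some nontrivial element z of the centre of X has F*(C_G(z)) = O_p(C_G(z)), then F*(N_G(X)) = O_p(N_G(X)). (ii) G has parabolic characteristic p if and only if F*(C_G(z)) = O_p(C_G(z)) for every nontrivial z ∈ Ω₁(Z(S)). (iii) If F*(C_G(z)) = O_p(C_G(z)) for every element z of S of order p, then G has local characteristic p. -/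
theorem result {G : Type*} [Group G] [Finite G] {p : ℕ} [Fact p.Prime] (hdiv : p ∣ Nat.card G) (S : Sylow p G) (X : Subgroup G) (hX : X ≤ (S : Subgroup G)) : (∀ z : G, z ≠ 1 → z ∈ X → (∀ x ∈ X, x * z = z * x) → Cfsg.generalizedFittingSubgroup ↥(Subgroup.centralizer ({z} : Set G)) = Cfsg.pCore p ↥(Subgroup.centralizer ({z} : Set G)) → Cfsg.generalizedFittingSubgroup ↥(Subgroup.normalizer (X : Set G)) = Cfsg.pCore p ↥(Subgroup.normalizer (X : Set G))) ∧ (Cfsg.IsOfParabolicCharacteristic p G ↔ ∀ z : G, z ≠ 1 → z ∈ Cfsg.omegaOne p ((S : Subgroup G) ⊓ Subgroup.centralizer ((S : Subgroup G) : Set G)) → Cfsg.generalizedFittingSubgroup ↥(Subgroup.centralizer ({z} : Set G)) = Cfsg.pCore p ↥(Subgroup.centralizer ({z} : Set G))) ∧ ((∀ z : G, z ∈ (S : Subgroup G) → orderOf z = p → Cfsg.generalizedFittingSubgroup ↥(Subgroup.centralizer ({z} : Set G)) = Cfsg.pCore p ↥(Subgroup.centralizer ({z} : Set G))) → Cfsg.IsOfLocalCharacteristic p G) := by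
  have hXp : IsPGroup p X := S.2.to_le hX
  refine ⟨?_, ⟨?_, ?_⟩, ?_⟩
  · intro z hz1 hzX hzc hF
    rw [genFitting_eq_pCore_iff_isCharPSub] at hF ⊢
    apply isCharPSub_normalizer_of_centralizer X hXp z
      (le_opDown p Subgroup.le_normalizer le_rfl hXp hzX) _ hF
    intro x hx
    rw [mem_centralizer_singleton_iff]
    exact (hzc x hx).symm
  · intro hG z hz1 hzΩ
    have hzZ : z ∈ (S : Subgroup G) ⊓ Subgroup.centralizer ((S : Subgroup G) : Set G) := by
      revert hzΩ z
      unfold Cfsg.omegaOne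
      intro z _ hz
      refine (Subgroup.closure_le _).mpr ?_ hz
      intro x hx
      exact hx.1
    set R := Subgroup.zpowers z with hR
    have hRp : IsPGroup p R := S.2.to_le (Subgroup.zpowers_le.mpr hzZ.1)
    have hR1 : R ≠ ⊥ := Subgroup.zpowers_ne_bot.mpr hz1
    have hSC : (S : Subgroup G) ≤ Subgroup.centralizer ({z} : Set G) := by
      intro s hs
      rw [mem_centralizer_singleton_iff]
      exact (Subgroup.mem_centralizer_iff.mp hzZ.2 s hs).symm
    have hCN : Subgroup.centralizer ({z} : Set G) ≤ Subgroup.normalizer (R : Set G) := by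
      rw [centralizer_singleton_eq_zpowers]
      exact Subgroup.centralizer_le_normalizer _
    have hpar : Cfsg.IsParabolic p (Subgroup.normalizer (R : Set G)) := ⟨S, hSC.trans hCN⟩
    have hN := isCharPSub_of_type p _ (hG R hRp hR1 hpar)
    rw [genFitting_eq_pCore_iff_isCharPSub]
    apply isCharPSub_of_normal _ _ hCN _ hN
    rw [centralizer_singleton_eq_zpowers]
    exact normalizer_le_normalizer_centralizer R
  · intro hyp R hRp hR1 hpar
    apply type_of_isCharPSub
    apply key S _ R hRp hR1 hpar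
    intro z hz1 hzZ hzp
    exact (genFitting_eq_pCore_iff_isCharPSub _).mp
      (hyp z hz1 (Subgroup.subset_closure ⟨hzZ, hzp⟩))
  · intro hyp
    refine ⟨hdiv, ?_⟩
    intro T hTp hT1
    apply type_of_isCharPSub
    obtain ⟨l, hl, hl1, hlc, hlp⟩ := exists_central_of_ne_bot (p := p) T hTp hT1
    obtain ⟨T', hT'⟩ := hTp.exists_le_sylow
    have h2 := charP_centralizer_of_conj S T' l (hT' hl) hl1 hlp
      (fun z hz1 hzS hzp _ => (genFitting_eq_pCore_iff_isCharPSub _).mp
        (hyp z hzS (orderOf_eq_prime hzp hz1)))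
    apply isCharPSub_normalizer_of_centralizer T hTp l
      (le_opDown p Subgroup.le_normalizer le_rfl hTp hl) _ h2
    intro x hx
    rw [mem_centralizer_singleton_iff]
    exact (hlc x hx).symm
end Cfsg.Agent.S2896
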