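import Cfsg.Statements.S2897
import Cfsg.Agent.Lib.Helper16.ParabolicChar2
import Cfsg.Agent.Lib.Helper16.FrakMExist

set_option autoImplicit false
open Cfsg
open Cfsg.Agent.Lib.Helper16
open scoped commutatorElement Pointwise

namespace Cfsg.Agent.S2897

/-- Let p be a prime dividing the order of the finite group G, suppose G has parabolic characteristic p, let S be a Sylow p-subgroup of G and G₁ a normal subgroup of G. If Ω₁(Z(S ∩ G₁)) is nontrivial and contained in Ω₁(Z(S)), then G₁ has parabolic characteristic p. -/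
theorem result {G : Type*} [Group G] [Finite G] {p : ℕ} [Fact p.Prime] (hdiv : p ∣ Nat.card G) (hG : Cfsg.IsOfParabolicCharacteristic p G) (S : Sylow p G) (G₁ : Subgroup G) [G₁.Normal] (hne : Cfsg.omegaOne p (((S : Subgroup G) ⊓ G₁) ⊓ Subgroup.centralizer (((S : Subgroup G) ⊓ G₁ : Subgroup G) : Set G)) ≠ ⊥) (hle : Cfsg.omegaOne p (((S : Subgroup G) ⊓ G₁) ⊓ Subgroup.centralizer (((S : Subgroup G) ⊓ G₁ : Subgroup G) : Set G)) ≤ Cfsg.omegaOne p ((S : Subgroup G) ⊓ Subgroup.centralizer ((S : Subgroup G) : Set G))) : Cfsg.IsOfParabolicCharacteristic p ↥G₁ := by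
  have hsn : G₁.IsSubnormal := Subgroup.Normal.isSubnormal inferInstance
  apply isOfParabolicCharacteristic_of_isSubnormal hG S G₁ hsn
  intro A hAT hA hTA
  set T := (S : Subgroup G) ⊓ G₁ with hT
  have hTp : IsPGroup p T := S.2.to_le inf_le_left
  have hne' := inf_centralizer_ne_bot_of_normal T A hTp hAT hTA hA
  obtain ⟨l, hl, hl1, -, hlp⟩ := exists_central_of_ne_bot (p := p) _ (hTp.to_le (inf_le_left.trans hAT)) hne'
  refine ⟨Cfsg.omegaOne p (A ⊓ Subgroup.centralizer (T : Set G)), ?_, ?_, ?_⟩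
  · unfold Cfsg.omegaOne
    rw [Subgroup.closure_le]
    intro x hx
    exact hx.1.1
  · intro h
    apply hl1
    have : l ∈ Cfsg.omegaOne p (A ⊓ Subgroup.centralizer (T : Set G)) :=
      Subgroup.subset_closure ⟨hl, hlp⟩
    rw [h] at this
    exact Subgroup.mem_bot.mp this
  · have h1 : Cfsg.omegaOne p (A ⊓ Subgroup.centralizer (T : Set G)) ≤
        Cfsg.omegaOne p (T ⊓ Subgroup.centralizer (T : Set G)) := by
      unfold Cfsg.omegaOne
      apply Subgroup.closure_mono
      intro x hx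
      exact ⟨⟨hAT hx.1.1, hx.1.2⟩, hx.2⟩
    have h2 : Cfsg.omegaOne p ((S : Subgroup G) ⊓ Subgroup.centralizer ((S : Subgroup G) : Set G)) ≤
        (S : Subgroup G) ⊓ Subgroup.centralizer ((S : Subgroup G) : Set G) := by
      unfold Cfsg.omegaOne
      rw [Subgroup.closure_le]
      intro x hx
      exact hx.1
    intro s hs
    apply Subgroup.centralizer_le_normalizer
    rw [Subgroup.mem_centralizer_iff]
    intro z hz
    exact (Subgroup.mem_centralizer_iff.mp (h2 (hle (h1 hz))).2 s hs).symm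
end Cfsg.Agent.S2897
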