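import Cfsg.Statements.S2907
import Cfsg.Agent.Lib.Helper17.ClassTwoP
open Cfsg.Agent.Lib.Helper17
open scoped commutatorElement

set_option autoImplicit false
open Cfsg

namespace Cfsg.Agent.S2907

/-- Let X be a finite semi-extraspecial p-group and x an element of X outside the centre. Then the index of C_X(x) in X equals the order of Z(X), and the commutators [x, y], y ∈ X, form exactly the centre Z(X). -/
theorem result {X : Type*} [Group X] [Finite X] {p : ℕ} [Fact p.Prime] (hX : Cfsg.IsSemiExtraspecial p X) (x : X) (hx : x ∉ Subgroup.center X) : (Subgroup.centralizer ({x} : Set X)).index = Nat.card ↥(Subgroup.center X) ∧ {z : X | ∃ y : X, z = x * y * x⁻¹ * y⁻¹} = (Subgroup.center X : Set X) := by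
  classical
  have hp : p.Prime := Fact.out
  obtain ⟨⟨hP, hfr, hco⟩, hsemi⟩ := hX
  have hcomm : ∀ a b : X, ⁅a, b⁆ ∈ Subgroup.center X := by
    intro a b
    rw [← hco, commutator_def]
    exact Subgroup.commutator_mem_commutator (Subgroup.mem_top a) (Subgroup.mem_top b)
  have hker : (commHomRight hcomm x).ker = Subgroup.centralizer {x} := by
    ext y
    rw [MonoidHom.mem_ker, Subgroup.mem_centralizer_singleton_iff]
    constructor
    · intro h
      have h2 : ⁅x, y⁆ = 1 := congrArg Subtype.val h
      rw [commutatorElement_eq_one_iff_mul_comm] at h2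
      exact h2.symm
    · intro h
      apply Subtype.ext
      show ⁅x, y⁆ = 1
      rw [commutatorElement_eq_one_iff_mul_comm]
      exact h.symm
  have hrange : (commHomRight hcomm x).range = ⊤ := by
    by_contra hne
    obtain ⟨Y', hY', hle⟩ := (eq_top_or_exists_le_coatom (commHomRight hcomm x).range).resolve_left hne
    have hYle : Y'.map (Subgroup.center X).subtype ≤ Subgroup.center X := Subgroup.map_subtype_le _
    have hYeq : (Y'.map (Subgroup.center X).subtype).subgroupOf (Subgroup.center X) = Y' :=
      Subgroup.comap_map_eq_self_of_injective (Subgroup.center X).subtype_injective Y'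
    have hYco : IsCoatom ((Y'.map (Subgroup.center X).subtype).subgroupOf (Subgroup.center X)) := by
      rw [hYeq]
      exact hY'
    obtain ⟨hYn, hext⟩ := hsemi _ hYle hYco
    obtain ⟨-, hZ⟩ := hext
    -- x̄ is central in X ⧸ Y
    have hxbar : (QuotientGroup.mk' (Y'.map (Subgroup.center X).subtype) x) ∈
        Subgroup.center (X ⧸ Y'.map (Subgroup.center X).subtype) := by
      rw [Subgroup.mem_center_iff]
      intro g
      obtain ⟨y, rfl⟩ := QuotientGroup.mk'_surjective _ g
      have h1 : ⁅x, y⁆ ∈ Y'.map (Subgroup.center X).subtype := by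
        refine ⟨commHomRight hcomm x y, hle ⟨y, rfl⟩, rfl⟩
      have h2 : QuotientGroup.mk' (Y'.map (Subgroup.center X).subtype) ⁅x, y⁆ = 1 :=
        (QuotientGroup.eq_one_iff _).mpr h1
      rw [map_commutatorElement, commutatorElement_eq_one_iff_mul_comm] at h2
      exact h2.symm
    -- the image of the centre is the whole centre of the quotient
    have hKle : (Subgroup.center X).map (QuotientGroup.mk' (Y'.map (Subgroup.center X).subtype)) ≤
        Subgroup.center (X ⧸ Y'.map (Subgroup.center X).subtype) := by
      rintro _ ⟨z, hz, rfl⟩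
      rw [Subgroup.mem_center_iff]
      intro g
      obtain ⟨y, rfl⟩ := QuotientGroup.mk'_surjective _ g
      rw [← map_mul, ← map_mul, Subgroup.mem_center_iff.mp hz y]
    have hKne : (Subgroup.center X).map (QuotientGroup.mk' (Y'.map (Subgroup.center X).subtype)) ≠ ⊥ := by
      intro hbot
      apply hY'.1
      rw [eq_top_iff]
      intro z _
      have h1 : QuotientGroup.mk' (Y'.map (Subgroup.center X).subtype) (z : X) ∈
          (Subgroup.center X).map (QuotientGroup.mk' (Y'.map (Subgroup.center X).subtype)) :=
        Subgroup.mem_map_of_mem _ z.2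
      rw [hbot, Subgroup.mem_bot] at h1
      have h2 : (z : X) ∈ Y'.map (Subgroup.center X).subtype := (QuotientGroup.eq_one_iff _).mp h1
      obtain ⟨w, hw, hwz⟩ := h2
      have : w = z := Subtype.ext hwz
      rwa [this] at hw
    have hKeq : (Subgroup.center X).map (QuotientGroup.mk' (Y'.map (Subgroup.center X).subtype)) =
        Subgroup.center (X ⧸ Y'.map (Subgroup.center X).subtype) := by
      have h1 : Nat.card ↥((Subgroup.center X).map
          (QuotientGroup.mk' (Y'.map (Subgroup.center X).subtype))) ∣ p := by
        rw [← hZ]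
        exact Subgroup.card_dvd_of_le hKle
      rcases (Nat.dvd_prime hp).mp h1 with h | h
      · exact absurd (Subgroup.card_eq_one.mp h) hKne
      · exact Subgroup.eq_of_le_of_card_ge hKle (by rw [h, hZ])
    rw [← hKeq] at hxbar
    obtain ⟨z, hz, hzx⟩ := hxbar
    apply hx
    have h3 : z⁻¹ * x ∈ Y'.map (Subgroup.center X).subtype := by
      rw [← QuotientGroup.eq_one_iff, ← QuotientGroup.mk'_apply, map_mul, map_inv, hzx,
        inv_mul_cancel]
    have h4 : x = z * (z⁻¹ * x) := by group
    rw [h4]
    exact mul_mem hz (hYle h3)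
  refine ⟨?_, ?_⟩
  · rw [← hker, Subgroup.index_ker, hrange, Subgroup.card_top]
  · ext z
    constructor
    · rintro ⟨y, rfl⟩
      have := hcomm x y
      rwa [commutatorElement_def] at this
    · intro hz
      have h1 : (⟨z, hz⟩ : Subgroup.center X) ∈ (commHomRight hcomm x).range := by
        rw [hrange]
        exact Subgroup.mem_top _
      obtain ⟨y, hy⟩ := h1
      refine ⟨y, ?_⟩
      have h2 : ⁅x, y⁆ = z := congrArg Subtype.val hy
      rw [← h2, commutatorElement_def]

end Cfsg.Agent.S2907
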