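import Cfsg.Statements.S2908
import Cfsg.Agent.Lib.Helper8.ThreeSubgroups
import Cfsg.Agent.Lib.Helper1.CoprimeAction
import Cfsg.Agent.Lib.Helper1.ThompsonAxB
import Cfsg.Agent.Lib.Helper13.Coprime
import Mathlib

set_option autoImplicit false
open Cfsg

namespace Cfsg.Agent.S2908

/-- An element normalizing `P` and `A` normalizes `P ⊔ A`. -/
theorem mem_normalizer_sup {G : Type*} [Group G] (P A : Subgroup G) (g : G)
    (hP : g ∈ Subgroup.normalizer (P : Set G)) (hA : g ∈ Subgroup.normalizer (A : Set G)) :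
    g ∈ Subgroup.normalizer ((P ⊔ A : Subgroup G) : Set G) := by
  have hle : ∀ g : G, g ∈ Subgroup.normalizer (P : Set G) → g ∈ Subgroup.normalizer (A : Set G) →
      ∀ x ∈ P ⊔ A, g * x * g⁻¹ ∈ P ⊔ A := by
    intro g hP hA x hx
    have h1 : (P ⊔ A).map (MulAut.conj g).toMonoidHom ≤ P ⊔ A := by
      rw [Subgroup.map_sup]
      apply sup_le_sup
      · rintro _ ⟨y, hy, rfl⟩
        exact (Subgroup.mem_normalizer_iff.mp hP y).mp hy
      · rintro _ ⟨y, hy, rfl⟩
        exact (Subgroup.mem_normalizer_iff.mp hA y).mp hy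
    exact h1 ⟨x, hx, rfl⟩
  rw [Subgroup.mem_normalizer_iff]
  intro x
  constructor
  · exact hle g hP hA x
  · intro hx
    have := hle g⁻¹ (inv_mem hP) (inv_mem hA) _ hx
    have e : g⁻¹ * (g * x * g⁻¹) * g⁻¹⁻¹ = x := by group
    rwa [e] at this

theorem result {G : Type*} [Group G] [Finite G] {p : ℕ} [Fact p.Prime] (P A B : Subgroup G) (hP : IsPGroup p ↥P) (hA : IsPGroup p ↥A) (hB : ¬ p ∣ Nat.card ↥B) (hnA : A ≤ Subgroup.normalizer (P : Set G)) (hnB : B ≤ Subgroup.normalizer (P : Set G)) (hAB : ⁅A, B⁆ = ⊥) (hcomm : ⁅P, B⁆ ≤ ⁅P, A⁆) : ⁅P, B⁆ = ⊥ := by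
  have hp : p.Prime := Fact.out
  set K : Subgroup G := ⁅P, B⁆ with hK
  set N : Subgroup G := ⁅K, P ⊔ A⁆ with hN
  have hKP : K ≤ P := Cfsg.Agent.Lib.Helper13.commutator_le_of_le_normalizer P B hnB
  -- A normalizes B, B normalizes A
  have hAcB : A ≤ Subgroup.centralizer (B : Set G) :=
    Subgroup.commutator_eq_bot_iff_le_centralizer.mp hAB
  have hBcA : B ≤ Subgroup.centralizer (A : Set G) := by
    rw [Subgroup.commutator_comm] at hAB
    exact Subgroup.commutator_eq_bot_iff_le_centralizer.mp hAB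
  have hAnB : A ≤ Subgroup.normalizer (B : Set G) :=
    hAcB.trans (Subgroup.centralizer_le_normalizer _)
  have hBnA : B ≤ Subgroup.normalizer (A : Set G) :=
    hBcA.trans (Subgroup.centralizer_le_normalizer _)
  -- normalizers of K
  have hPBK := Cfsg.Agent.Lib.Helper13.le_normalizer_commutator P B
  have hPnK : P ≤ Subgroup.normalizer (K : Set G) := le_sup_left.trans hPBK
  have hBnK : B ≤ Subgroup.normalizer (K : Set G) := le_sup_right.trans hPBK
  have hAnK : A ≤ Subgroup.normalizer (K : Set G) := fun a ha =>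
    Cfsg.Agent.Lib.Helper1.mem_normalizer_commutator P B a (hnA ha) (hAnB ha)
  -- normalizers of P ⊔ A
  have hPAself : P ⊔ A ≤ Subgroup.normalizer ((P ⊔ A : Subgroup G) : Set G) :=
    Subgroup.le_normalizer
  have hBnPA : B ≤ Subgroup.normalizer ((P ⊔ A : Subgroup G) : Set G) := fun b hb =>
    mem_normalizer_sup P A b (hnB hb) (hBnA hb)
  -- normalizers of N
  have hPnN : P ≤ Subgroup.normalizer (N : Set G) := fun x hx =>
    Cfsg.Agent.Lib.Helper1.mem_normalizer_commutator K (P ⊔ A) x (hPnK hx)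
      (hPAself (le_sup_left (a := P) hx))
  have hAnN : A ≤ Subgroup.normalizer (N : Set G) := fun x hx =>
    Cfsg.Agent.Lib.Helper1.mem_normalizer_commutator K (P ⊔ A) x (hAnK hx)
      (hPAself (le_sup_right (b := A) hx))
  have hBnN : B ≤ Subgroup.normalizer (N : Set G) := fun x hx =>
    Cfsg.Agent.Lib.Helper1.mem_normalizer_commutator K (P ⊔ A) x (hBnK hx) (hBnPA hx)
  -- three subgroups
  have h3 : ⁅⁅P, A⁆, B⁆ ≤ N := by
    apply Cfsg.Agent.Lib.Helper8.three_subgroups_mod P A B N hPnN hAnN hBnN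
    · rw [hAB, Subgroup.commutator_bot_left]; exact bot_le
    · rw [Subgroup.commutator_comm B P]
      exact Subgroup.commutator_mono le_rfl le_sup_right
  -- coprime
  have hcop : (Nat.card B).Coprime (Nat.card P) := by
    apply Cfsg.Agent.Lib.Helper1.coprime_card_of_isPGroup p B P hP
    exact (Nat.Coprime.symm ((Nat.Prime.coprime_iff_not_dvd hp).mpr hB))
  have hPnil : Group.IsNilpotent P := hP.isNilpotent
  have hPsolv : Group.IsSolvable P := inferInstance
  have hstable : ⁅K, B⁆ = K :=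
    Cfsg.Agent.Lib.Helper13.coprime_commutator_stable B P hnB hcop (Or.inr hPsolv)
  have hKN : K ≤ N := by
    calc K = ⁅K, B⁆ := hstable.symm
      _ ≤ ⁅⁅P, A⁆, B⁆ := Subgroup.commutator_mono hcomm le_rfl
      _ ≤ N := h3
  have hPA : IsPGroup p (P ⊔ A : Subgroup G) := IsPGroup.to_sup_of_normal_left' hP hA hnA
  exact Cfsg.Agent.Lib.Helper1.eq_bot_of_le_commutator_of_isNilpotent (P ⊔ A) K (P ⊔ A)
    hPA.isNilpotent (hKP.trans le_sup_left) le_rfl hKN

end Cfsg.Agent.S2908
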