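import Cfsg.Statements.S2909
import Cfsg.Agent.S3734
import Cfsg.Agent.Lib.Helper16.ThompsonAxB
import Cfsg.Agent.Lib.Helper13.Coprime
import Cfsg.Agent.Lib.Helper2.PGroupFrattini
import Cfsg.Agent.Lib.Helper8.ThreeSubgroups
-- import your own Cfsg.Agent.* helpers here

set_option autoImplicit false
open Cfsg

namespace Cfsg.Agent.S2909

open scoped commutatorElement

theorem comm_of_mem {G : Type*} [Group G] {U : Subgroup G} (hUab : IsMulCommutative U) {a b : G}
    (ha : a ∈ U) (hb : b ∈ U) : a * b = b * a := by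
  have := hUab.is_comm.comm ⟨a, ha⟩ ⟨b, hb⟩
  exact congrArg Subtype.val this

/-- `N(P) ⊓ N(A) ≤ N(P ⊔ A)`. -/
theorem mem_normalizer_sup' {G : Type*} [Group G] (P A : Subgroup G) (g : G)
    (hP : g ∈ Subgroup.normalizer (P : Set G)) (hA : g ∈ Subgroup.normalizer (A : Set G)) :
    g ∈ Subgroup.normalizer ((P ⊔ A : Subgroup G) : Set G) := by
  rw [← Cfsg.Agent.Lib.Helper16.map_conj_eq_self_iff, Subgroup.map_sup,
    (Cfsg.Agent.Lib.Helper16.map_conj_eq_self_iff P g).mpr hP,
    (Cfsg.Agent.Lib.Helper16.map_conj_eq_self_iff A g).mpr hA]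

/-- `U` (abelian, normalizing `R`) normalizes `R ⊓ C(B)` for `B ≤ U`. -/
theorem le_normalizer_inf_centralizer {G : Type*} [Group G] (U R B : Subgroup G)
    (hUab : IsMulCommutative U) (hBU : B ≤ U) (hRU : U ≤ Subgroup.normalizer (R : Set G)) :
    U ≤ Subgroup.normalizer ((R ⊓ Subgroup.centralizer (B : Set G) : Subgroup G) : Set G) := by
  intro u hu
  have hcB : u ∈ Subgroup.normalizer ((Subgroup.centralizer (B : Set G) : Subgroup G) : Set G) := by
    apply Subgroup.le_normalizer
    rw [Subgroup.mem_centralizer_iff]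
    intro b hb
    exact comm_of_mem hUab (hBU hb) hu
  rw [Subgroup.mem_normalizer_iff]
  intro x
  have h1 := Subgroup.mem_normalizer_iff.mp (hRU hu) x
  have h2 := Subgroup.mem_normalizer_iff.mp hcB x
  simp only [Subgroup.mem_inf]
  rw [h1, h2]

/-- The key step for a single `B`. -/
theorem step {G : Type*} [Group G] [Finite G] {p : ℕ} [Fact p.Prime] (E : Subgroup G) [E.Normal]
    (hE : IsPGroup p ↥E) (U : Subgroup G) (hU : Cfsg.IsElementaryAbelian p U)
    (hcond : (∀ u ∈ U, u ≠ 1 → E ⊓ Subgroup.centralizer (U : Set G) = E ⊓ Subgroup.centralizer ({u} : Set G)) ∨ (∀ u ∈ U, u ≠ 1 → ⁅E, U⁆ = ⁅E, Subgroup.zpowers u⁆))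
    (R : Subgroup G) (hR : ¬ p ∣ Nat.card ↥R) (hRU : U ≤ Subgroup.normalizer (R : Set G))
    (B : Subgroup G) (hBU : B ≤ U) (b : G) (hb : b ∈ B) (hb1 : b ≠ 1) :
    ⁅R ⊓ Subgroup.centralizer (B : Set G), U⁆ ≤ Subgroup.centralizer (E : Set G) := by
  have hp : p.Prime := Fact.out
  obtain ⟨hUab, hUp⟩ := hU
  set RB : Subgroup G := R ⊓ Subgroup.centralizer (B : Set G) with hRB
  have hURB : U ≤ Subgroup.normalizer (RB : Set G) :=
    le_normalizer_inf_centralizer U R B hUab hBU hRU
  have hD_le : ⁅RB, U⁆ ≤ RB := Cfsg.Agent.Lib.Helper13.commutator_le_of_le_normalizer RB U hURB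
  have hBp : IsPGroup p ↥B := by
    intro x
    refine ⟨1, ?_⟩
    apply Subtype.ext
    simpa using hUp x.1 (hBU x.2)
  have hEtop : Subgroup.normalizer (E : Set G) = ⊤ := Subgroup.normalizer_eq_top (H := E)
  have hcopR : ∀ d ∈ R, (orderOf d).Coprime p := by
    intro d hd
    have h1 : orderOf d ∣ Nat.card ↥R := by
      have := orderOf_dvd_natCard (⟨d, hd⟩ : ↥R)
      rwa [Subgroup.orderOf_mk] at this
    have h2 : Nat.Coprime (Nat.card ↥R) p := ((Nat.Prime.coprime_iff_not_dvd hp).mpr hR).symm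
    exact Nat.Coprime.coprime_dvd_left h1 h2
  rcases hcond with hc1 | hc2
  · -- first alternative
    have hFeq : E ⊓ Subgroup.centralizer (B : Set G) = E ⊓ Subgroup.centralizer (U : Set G) := by
      apply le_antisymm
      · rw [hc1 b (hBU hb) hb1]
        apply inf_le_inf le_rfl
        apply Subgroup.centralizer_le
        intro x hx
        rw [Set.mem_singleton_iff] at hx
        rw [hx]; exact hb
      · exact inf_le_inf le_rfl (Subgroup.centralizer_le hBU)
    have hDF : ⁅RB, U⁆ ≤ Subgroup.centralizer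
        ((E ⊓ Subgroup.centralizer (B : Set G) : Subgroup G) : Set G) := by
      rw [Subgroup.commutator_le]
      intro r hr u hu
      rw [Subgroup.mem_centralizer_iff]
      intro e he
      have he : e ∈ E ⊓ Subgroup.centralizer (B : Set G) := he
      -- r⁻¹ e r ∈ E ⊓ C(B) = E ⊓ C(U)
      have he' : r⁻¹ * e * r ∈ E ⊓ Subgroup.centralizer (B : Set G) := by
        refine Subgroup.mem_inf.mpr ⟨?_, ?_⟩
        · have := ‹E.Normal›.conj_mem e he.1 r⁻¹
          simpa using this
        · rw [Subgroup.mem_centralizer_iff]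
          intro b' hb'
          have h1 : b' * r = r * b' := (Subgroup.mem_centralizer_iff.mp hr.2 b' hb')
          have h2 : b' * e = e * b' := (Subgroup.mem_centralizer_iff.mp he.2 b' hb')
          have h3 : b' * r⁻¹ = r⁻¹ * b' := by
            have : r⁻¹ * (b' * r) * r⁻¹ = r⁻¹ * (r * b') * r⁻¹ := by rw [h1]
            simpa [mul_assoc] using this.symm
          calc b' * (r⁻¹ * e * r) = (b' * r⁻¹) * e * r := by group
            _ = r⁻¹ * (b' * e) * r := by rw [h3]; group
            _ = r⁻¹ * e * (b' * r) := by rw [h2]; group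
            _ = r⁻¹ * e * r * b' := by rw [h1]; group
      have heU : e ∈ E ⊓ Subgroup.centralizer (U : Set G) := hFeq ▸ he
      have he'U : r⁻¹ * e * r ∈ E ⊓ Subgroup.centralizer (U : Set G) := hFeq ▸ he'
      have k1 : u * e = e * u := Subgroup.mem_centralizer_iff.mp heU.2 u hu
      have k2 : u * (r⁻¹ * e * r) = (r⁻¹ * e * r) * u :=
        Subgroup.mem_centralizer_iff.mp he'U.2 u hu
      have k1' : u⁻¹ * e = e * u⁻¹ := by
        have : u⁻¹ * (u * e) * u⁻¹ = u⁻¹ * (e * u) * u⁻¹ := by rw [k1]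
        simpa [mul_assoc] using this.symm
      rw [commutatorElement_def]
      calc e * (r * u * r⁻¹ * u⁻¹) = r * ((r⁻¹ * e * r) * u) * r⁻¹ * u⁻¹ := by group
        _ = r * (u * (r⁻¹ * e * r)) * r⁻¹ * u⁻¹ := by rw [k2]
        _ = r * u * r⁻¹ * (e * u⁻¹) := by group
        _ = r * u * r⁻¹ * (u⁻¹ * e) := by rw [k1']
        _ = r * u * r⁻¹ * u⁻¹ * e := by group
    intro d hd
    have hdRB := hD_le hd
    exact Cfsg.Agent.Lib.Helper16.thompson_AxB B E d hBp hE (hcopR d hdRB.1) hdRB.2
      (by rw [hEtop]; exact le_top) (by rw [hEtop]; exact Subgroup.mem_top d) (hDF hd)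
  · -- second alternative
    have hE1 : ⁅E, B⁆ = ⁅E, U⁆ := by
      apply le_antisymm (Subgroup.commutator_mono le_rfl hBU)
      rw [hc2 b (hBU hb) hb1]
      exact Subgroup.commutator_mono le_rfl (Subgroup.zpowers_le.mpr hb)
    set E₁ : Subgroup G := ⁅E, U⁆ with hE₁
    have hE₁E : E₁ ≤ E := Subgroup.commutator_le_left E U
    -- normalizers
    have hnEU : E ⊔ U ≤ Subgroup.normalizer (E₁ : Set G) :=
      Cfsg.Agent.Lib.Helper13.le_normalizer_commutator E U
    have hnRB : RB ≤ Subgroup.normalizer (E₁ : Set G) := by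
      intro r hr
      rw [← hE1]
      apply Cfsg.Agent.Lib.Helper16.inf_normalizer_le_normalizer_commutator E B
      refine ⟨by rw [hEtop]; exact Subgroup.mem_top r, ?_⟩
      exact Subgroup.centralizer_le_normalizer _ hr.2
    -- three subgroups: ⁅⁅RB, U⁆, E⁆ ≤ E₁
    have h3 : ⁅⁅RB, U⁆, E⁆ ≤ E₁ := by
      apply Cfsg.Agent.Lib.Helper8.three_subgroups_mod RB U E E₁ hnRB (le_sup_right.trans hnEU)
        (le_sup_left.trans hnEU)
      · rw [Subgroup.commutator_comm U E]
        exact Cfsg.Agent.Lib.Helper13.commutator_le_of_le_normalizer E₁ RB hnRB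
      · exact Subgroup.commutator_mono (Subgroup.commutator_le_left E RB) le_rfl
    set D : Subgroup G := ⁅RB, U⁆ with hD
    set H : Subgroup G := E ⊔ B with hH
    have hHp : IsPGroup p ↥H :=
      IsPGroup.to_sup_of_normal_left' hE hBp (by rw [hEtop]; exact le_top)
    have hDB : D ≤ Subgroup.centralizer (B : Set G) := hD_le.trans inf_le_right
    have hDH : D ≤ Subgroup.normalizer (H : Set G) := by
      intro d hd
      apply mem_normalizer_sup' E B d (by rw [hEtop]; exact Subgroup.mem_top d)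
      exact Subgroup.centralizer_le_normalizer _ (hDB hd)
    have hHD : ⁅H, D⁆ ≤ E₁ := by
      rw [Subgroup.commutator_le]
      intro h hh d hd
      obtain ⟨e, he, b', hb', rfl⟩ := Subgroup.mem_sup_of_normal_left.mp hh
      have hcomm : b' * d = d * b' := Subgroup.mem_centralizer_iff.mp (hDB hd) b' hb'
      have : ⁅e * b', d⁆ = ⁅e, d⁆ := by
        rw [commutatorElement_def, commutatorElement_def]
        calc e * b' * d * (e * b')⁻¹ * d⁻¹ = e * (b' * d) * b'⁻¹ * e⁻¹ * d⁻¹ := by group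
          _ = e * (d * b') * b'⁻¹ * e⁻¹ * d⁻¹ := by rw [hcomm]
          _ = e * d * e⁻¹ * d⁻¹ := by group
      rw [this]
      apply h3
      rw [Subgroup.commutator_comm]
      exact Subgroup.commutator_mem_commutator he hd
    have hcop : (Nat.card ↥D).Coprime (Nat.card ↥H) := by
      obtain ⟨n, hn⟩ := IsPGroup.iff_card.mp hHp
      rw [hn]
      apply Nat.Coprime.pow_right
      have h1 : Nat.card ↥D ∣ Nat.card ↥R := Subgroup.card_dvd_of_le (hD_le.trans inf_le_left)
      have h2 : Nat.Coprime (Nat.card ↥R) p := ((Nat.Prime.coprime_iff_not_dvd hp).mpr hR).symm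
      exact Nat.Coprime.coprime_dvd_left h1 h2
    have hsolv : Group.IsSolvable ↥D ∨ Group.IsSolvable ↥H := by
      right
      have := hHp.isNilpotent
      infer_instance
    have hdec := Cfsg.Agent.Lib.Helper13.coprime_commutator_sup_centralizer D H hDH hcop hsolv
    -- Frattini argument in ↥H
    have hfr : (⁅H, D⁆).subgroupOf H ≤ frattini ↥H := by
      intro x hx
      apply Cfsg.Agent.Lib.Helper2.commutator_le_frattini_of_isPGroup hHp
      have hx' : (x : G) ∈ ⁅H, H⁆ := by
        have h1 : (x : G) ∈ E₁ := hHD hx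
        rw [← hE1] at h1
        exact Subgroup.commutator_mono le_sup_left le_sup_right h1
      rw [← Subgroup.map_subtype_commutator] at hx'
      obtain ⟨y, hy, hyx⟩ := hx'
      have : y = x := Subtype.ext hyx
      rw [← this]; exact hy
    have htop : (H ⊓ Subgroup.centralizer (D : Set G)).subgroupOf H = ⊤ := by
      apply frattini_nongenerating
      rw [eq_top_iff]
      have h1 : (⊤ : Subgroup ↥H) = (⁅H, D⁆ ⊔ (H ⊓ Subgroup.centralizer (D : Set G))).subgroupOf H := by
        rw [hdec, Subgroup.subgroupOf_self]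
      rw [h1, Subgroup.subgroupOf_sup (hHD.trans (hE₁E.trans le_sup_left)) inf_le_left]
      rw [sup_comm]
      exact sup_le_sup le_rfl hfr
    have hHC : H ≤ Subgroup.centralizer (D : Set G) := by
      have := Subgroup.subgroupOf_eq_top.mp htop
      exact this.trans inf_le_right
    exact Subgroup.le_centralizer_iff.mp (le_sup_left.trans hHC)

/-- Let p be a prime, E a normal p-subgroup of the finite group G, and U a non-cyclic elementary abelian p-subgroup of G such that either C_E(U) = C_E(u) for every nontrivial u ∈ U, or [E, U] = [E, ⟨u⟩] for every nontrivial u ∈ U. If R is a subgroup of order prime to p normalized by U, then [R, U] centralizes E. -/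
theorem result {G : Type*} [Group G] [Finite G] {p : ℕ} [Fact p.Prime] (E : Subgroup G) [E.Normal] (hE : IsPGroup p ↥E) (U : Subgroup G) (hU : Cfsg.IsElementaryAbelian p U) (hnc : ¬ IsCyclic ↥U) (hcond : (∀ u ∈ U, u ≠ 1 → E ⊓ Subgroup.centralizer (U : Set G) = E ⊓ Subgroup.centralizer ({u} : Set G)) ∨ (∀ u ∈ U, u ≠ 1 → ⁅E, U⁆ = ⁅E, Subgroup.zpowers u⁆)) (R : Subgroup G) (hR : ¬ p ∣ Nat.card ↥R) (hRU : U ≤ Subgroup.normalizer (R : Set G)) : ⁅R, U⁆ ≤ Subgroup.centralizer (E : Set G) := by
  have hp : p.Prime := Fact.out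
  have hUp : IsPGroup p ↥U := by
    intro x
    refine ⟨1, ?_⟩
    apply Subtype.ext
    simpa using hU.2 x.1 x.2
  have hcop : (Nat.card ↥U).Coprime (Nat.card ↥R) := by
    obtain ⟨n, hn⟩ := IsPGroup.iff_card.mp hUp
    rw [hn]
    apply Nat.Coprime.pow_left
    exact (Nat.Prime.coprime_iff_not_dvd hp).mpr hR
  rw [← (Cfsg.Agent.S3734.result U R hU.1 hRU hcop).2]
  apply iSup₂_le
  rintro B ⟨hBU, a, ha, hBa⟩
  have hBne : B ≠ ⊥ := by
    intro hB
    apply hnc
    rw [hB, bot_sup_eq] at hBa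
    refine ⟨⟨⟨a, ha⟩, ?_⟩⟩
    intro x
    have hx : (x : G) ∈ Subgroup.zpowers a := by rw [hBa]; exact x.2
    obtain ⟨k, hk⟩ := hx
    refine ⟨k, ?_⟩
    apply Subtype.ext
    simpa using hk
  obtain ⟨b, hb1⟩ := (Subgroup.ne_bot_iff_exists_ne_one.mp hBne)
  have hb1' : (b : G) ≠ 1 := by
    intro h; apply hb1; exact Subtype.ext h
  exact step E hE U hU hcond R hR hRU B hBU b.1 b.2 hb1'

end Cfsg.Agent.S2909
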