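import Cfsg.Statements.S2910
import Cfsg.Agent.Lib.Helper24.OmegaAll
import Cfsg.Agent.Lib.Helper11.FrobeniusLocal

set_option autoImplicit false
open Cfsg

namespace Cfsg.Agent.S2910

/-- Let p be an odd prime dividing the order of the finite group G and P a Sylow p-subgroup of G. If Ω₁(P) (generated by the elements of order dividing p) is contained in the centre of G, then G has a normal p-complement. In particular, if G is quasisimple then Ω₁(P) is not central in G. -/
theorem result {G : Type*} [Group G] [Finite G] {p : ℕ} [Fact p.Prime] (hp : p ≠ 2) (hdiv : p ∣ Nat.card G) (P : Sylow p G) (hZ : Cfsg.omegaOne p (P : Subgroup G) ≤ Subgroup.center G) : Cfsg.HasNormalPComplement p G ∧ ¬ Cfsg.IsQuasisimple G := by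
  classical
  have hpp : p.Prime := Fact.out
  have hloc : Cfsg.Agent.Lib.Helper11.LocalPNilpotent p G := by
    apply Cfsg.Agent.Lib.Helper11.localPNilpotent_of_sylow P
    intro Q hQP g hg hcop
    have hnorm : ∀ x ∈ Q, g * x * g⁻¹ ∈ Q := fun x hx => (Subgroup.mem_normalizer_iff.1 hg x).1 hx
    have hQpg : IsPGroup p Q := P.2.to_le hQP
    have key := Cfsg.Agent.Lib.Helper24.coprime_centralizes_of_omega hcop Q hQpg hnorm (by
      intro x hx hsm
      rcases hsm with h1 | ⟨h2, _⟩
      · have hxZ : x ∈ Subgroup.center G :=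
          hZ (Subgroup.subset_closure ⟨hQP hx, h1⟩)
        have := Subgroup.mem_center_iff.1 hxZ g
        rw [this]; group
      · exact absurd h2 hp)
    rw [Subgroup.mem_centralizer_iff]
    intro x hx
    have := key x hx
    calc x * g = (g * x * g⁻¹) * g := by rw [this]
      _ = g * x := by group
  obtain ⟨K, hKn, hK⟩ := Cfsg.Agent.Lib.Helper11.exists_normal_complement_of_local hloc P
  refine ⟨⟨P, K, hKn, hK⟩, ?_⟩
  rintro ⟨hperf, -⟩
  haveI := hKn
  haveI := hperf
  have e : G ⧸ K ≃* (P : Subgroup G) := (hK.symm).QuotientMulEquiv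
  haveI : Group.IsPerfect (P : Subgroup G) :=
    Group.IsPerfect.ofSurjective (f := e.toMonoidHom) e.surjective
  haveI : Group.IsNilpotent (P : Subgroup G) := P.2.isNilpotent
  haveI : Nontrivial (P : Subgroup G) := by
    rw [Subgroup.nontrivial_iff_ne_bot]
    exact P.ne_bot_of_dvd_card hdiv
  exact Group.IsPerfect.not_isNilpotent (P : Subgroup G) inferInstance

end Cfsg.Agent.S2910
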