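import Cfsg.Statements.S2911
import Cfsg.Agent.Lib.Helper8.ThompsonTransfer
-- import your own Cfsg.Agent.* helpers here

set_option autoImplicit false
open Cfsg

namespace Cfsg.Agent.S2911

open Subgroup

/-- central elements of `D₈` -/
theorem dihedral_center : ∀ d : DihedralGroup 4, (∀ x : DihedralGroup 4, d * x = x * d) →
    d = 1 ∨ d = DihedralGroup.r 1 * DihedralGroup.r 1 := by
  decide

theorem zmod2_sq : ∀ x : Multiplicative (ZMod 2), x * x = 1 := by
  decide

/-- if no subgroup has index two, homs to groups of order two are trivial -/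
theorem hom_trivial_of_card_two {G A : Type*} [Group G] [Group A] (hA : Nat.card A = 2)
    (hno : ∀ H : Subgroup G, H.index ≠ 2) (f : G →* A) (g : G) : f g = 1 := by
  haveI : Finite A := Nat.finite_of_card_ne_zero (by omega)
  have h1 : f.ker.index = Nat.card f.range := Subgroup.index_ker f
  have h2 : Nat.card f.range ∣ 2 := hA ▸ Subgroup.card_subgroup_dvd_card _
  have h3 : Nat.card f.range ≠ 2 := fun h => hno _ (h1.trans h)
  have h4 : Nat.card f.range = 1 := by
    rcases (Nat.dvd_prime Nat.prime_two).mp h2 with h | h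
    · exact h
    · exact absurd h h3
  have h5 : f.range = ⊥ := Subgroup.card_eq_one.mp h4
  have h6 : f g ∈ f.range := ⟨g, rfl⟩
  rw [h5, Subgroup.mem_bot] at h6
  exact h6

/-- A finite group whose Sylow 2-subgroups are isomorphic to the direct product of a group of order 2 and a dihedral group of order 8 has a subgroup of index two. -/
theorem result {G : Type*} [Group G] [Finite G] (S : Sylow 2 G) (hS : Nonempty (↥(S : Subgroup G) ≃* Multiplicative (ZMod 2) × DihedralGroup 4)) : ∃ H : Subgroup G, H.index = 2 := by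
  classical
  obtain ⟨e⟩ := hS
  by_contra hno
  push_neg at hno
  -- the projection onto the `Z₂` factor
  set π : ↥(S : Subgroup G) →* Multiplicative (ZMod 2) :=
    (MonoidHom.fst _ _).comp e.toMonoidHom with hπ
  have hπs : Function.Surjective π := by
    intro x
    refine ⟨e.symm (x, 1), ?_⟩
    simp [hπ]
  set T : Subgroup G := π.ker.map (S : Subgroup G).subtype with hT
  have hTS : T ≤ S := Subgroup.map_subtype_le _
  have hTsub : T.subgroupOf (S : Subgroup G) = π.ker :=
    Subgroup.comap_map_eq_self_of_injective (Subgroup.subtype_injective _) _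
  haveI hTn : (T.subgroupOf (S : Subgroup G)).Normal := by rw [hTsub]; infer_instance
  have hmemT : ∀ s : ↥(S : Subgroup G), (s : G) ∈ T ↔ (e s).1 = 1 := by
    intro s
    rw [← Subgroup.mem_subgroupOf, hTsub, MonoidHom.mem_ker]
    rfl
  have hcard : Nat.card (↥(S : Subgroup G) ⧸ T.subgroupOf (S : Subgroup G)) = 2 := by
    rw [← Subgroup.index_eq_card, hTsub, Subgroup.index_ker, MonoidHom.range_eq_top.mpr hπs,
      Subgroup.card_top]
    simp [Nat.card_eq_fintype_card]
  have hcyc : IsCyclic (↥(S : Subgroup G) ⧸ T.subgroupOf (S : Subgroup G)) := by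
    haveI : Fact (Nat.Prime 2) := ⟨Nat.prime_two⟩
    exact isCyclic_of_prime_card hcard
  have htriv : ∀ f : G →* (↥(S : Subgroup G) ⧸ T.subgroupOf (S : Subgroup G)), ∀ g, f g = 1 :=
    fun f g => hom_trivial_of_card_two hcard hno f g
  -- the central involution `c`
  set c : ↥(S : Subgroup G) := e.symm (Multiplicative.ofAdd 1, 1) with hc
  have hec : e c = (Multiplicative.ofAdd 1, 1) := by rw [hc, MulEquiv.apply_symm_apply]
  have hcT : (c : G) ∉ T := by
    rw [hmemT, hec]
    decide
  have hc1 : c ≠ 1 := by
    intro h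
    rw [h, map_one e] at hec
    exact absurd (congrArg Prod.fst hec) (by decide)
  have hc2 : c * c = 1 := by
    apply e.injective
    rw [map_mul, hec, map_one e]
    decide
  have hcen : ∀ s : ↥(S : Subgroup G), s * c = c * s := by
    intro s
    apply e.injective
    rw [map_mul, map_mul, hec]
    ext
    · exact mul_comm (e s).1 _
    · simp
  have hyo : orderOf (c : G) = 2 := by
    rw [Subgroup.orderOf_coe]
    refine orderOf_eq_prime ?_ hc1
    rw [pow_two]; exact hc2
  obtain ⟨g, hgT, -, hgmap⟩ := Cfsg.Agent.Lib.Helper8.extremal_transfer S T hTS hcyc htriv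
    (c : G) hyo c.2 hcT
  -- `S ≤ C(c)`
  have hSC : (S : Subgroup G) ⊓ centralizer {(c : G)} = S := by
    apply inf_eq_left.mpr
    intro s hs
    rw [mem_centralizer_iff]
    intro y hy
    rw [Set.mem_singleton_iff] at hy
    subst hy
    have := congrArg Subtype.val (hcen ⟨s, hs⟩)
    simpa using this.symm
  rw [hSC] at hgmap
  -- `g` normalizes `S`
  have hcardmap : Nat.card ((S : Subgroup G).map (MulAut.conj g).toMonoidHom) = Nat.card S :=
    Subgroup.card_map_of_injective (MulAut.conj g).injective
  have hmapS : (S : Subgroup G).map (MulAut.conj g).toMonoidHom = S := by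
    apply Subgroup.eq_of_le_of_card_ge (hgmap.trans inf_le_left)
    rw [hcardmap]
  have hScen : (S : Subgroup G) ≤ centralizer {g * (c : G) * g⁻¹} := by
    have := hgmap
    rw [hmapS] at this
    exact this.trans inf_le_right
  -- `v = g c g⁻¹` is central in `S` and lies in `T`
  set v : ↥(S : Subgroup G) := ⟨g * (c : G) * g⁻¹, hTS hgT⟩ with hv
  have hv1 : (e v).1 = 1 := (hmemT v).mp hgT
  have hvcen : ∀ x : DihedralGroup 4, (e v).2 * x = x * (e v).2 := by
    intro x
    have h1 : (e.symm (1, x) : G) ∈ centralizer {g * (c : G) * g⁻¹} := hScen (e.symm (1, x)).2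
    rw [mem_centralizer_iff] at h1
    have h2 := h1 _ rfl
    have h3 : v * e.symm (1, x) = e.symm (1, x) * v := Subtype.ext h2
    have h4 := congrArg e h3
    rw [map_mul, map_mul, MulEquiv.apply_symm_apply] at h4
    have := congrArg Prod.snd h4
    simpa using this
  have hvne : v ≠ 1 := by
    intro h
    have h1 : g * (c : G) * g⁻¹ = 1 := congrArg Subtype.val h
    have h2 : (c : G) = 1 := by
      have : (c : G) = g⁻¹ * (g * (c : G) * g⁻¹) * g := by group
      rw [this, h1]; group
    exact hc1 (Subtype.ext h2)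
  -- `v` is a square in `S`
  set a : ↥(S : Subgroup G) := e.symm (1, DihedralGroup.r 1) with ha
  have hva : v = a * a := by
    apply e.injective
    rw [map_mul, ha, MulEquiv.apply_symm_apply]
    rcases dihedral_center _ hvcen with h | h
    · exfalso
      apply hvne
      apply e.injective
      rw [map_one e]
      ext
      · exact hv1
      · exact h
    · ext
      · rw [hv1]; rfl
      · rw [h]; rfl
  -- hence so is `c`
  have hconjS : g⁻¹ * (a : G) * g ∈ (S : Subgroup G) := by
    have h1 : (a : G) ∈ (S : Subgroup G).map (MulAut.conj g).toMonoidHom := by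
      rw [hmapS]; exact a.2
    obtain ⟨s, hs, hsa⟩ := h1
    have : g⁻¹ * (a : G) * g = s := by
      rw [← hsa]
      simp [MulAut.conj_apply]
      group
    rw [this]; exact hs
  have hsq : (c : G) = (g⁻¹ * (a : G) * g) * (g⁻¹ * (a : G) * g) := by
    have h1 : g * (c : G) * g⁻¹ = (a : G) * (a : G) := congrArg Subtype.val hva
    have h2 : (c : G) = g⁻¹ * (g * (c : G) * g⁻¹) * g := by group
    rw [h2, h1]; group
  apply hcT
  set a' : ↥(S : Subgroup G) := ⟨g⁻¹ * (a : G) * g, hconjS⟩ with ha'
  have hca' : c = a' * a' := Subtype.ext hsq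
  rw [hmemT, hca', map_mul]
  exact zmod2_sq _

end Cfsg.Agent.S2911
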