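import Cfsg.Statements.S2912
import Mathlib
import Cfsg.Agent.Lib.Helper18.ESExp
import Cfsg.Agent.Lib.Helper14.CyclicDerived

set_option autoImplicit false
open Cfsg

namespace Cfsg.Agent.S2912

universe u v

section Abstract

variable {B : Type*} [CommGroup B] {p : ℕ} [hp : Fact p.Prime]

/-- The product of the images of `b` under the powers of `γ`. -/
noncomputable def nrm (p : ℕ) [Fact p.Prime] (γ : MulAut B) (b : B) : B :=
  ∏ m : ZMod p, (γ ^ m.val) b

theorem pow_val_cast (γ : MulAut B) (hγ : γ ^ p = 1) (a : ℕ) :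
    γ ^ ((a : ZMod p).val) = γ ^ a := by
  rw [ZMod.val_natCast, ← pow_eq_pow_mod a hγ]

theorem nrm_fixed (γ : MulAut B) (hγ : γ ^ p = 1) (b : B) : γ (nrm p γ b) = nrm p γ b := by
  unfold nrm
  rw [map_prod]
  have h1 : ∀ m : ZMod p, γ ((γ ^ m.val) b) = (γ ^ (m + 1).val) b := by
    intro m
    have : γ ^ (m + 1).val = γ ^ (m.val + 1) := by
      rw [← pow_val_cast γ hγ (m.val + 1)]
      congr 2
      push_cast
      rw [ZMod.natCast_zmod_val]
    rw [this, pow_succ', MulAut.mul_apply]
  simp_rw [h1]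
  exact Fintype.prod_equiv (Equiv.addRight 1) _ _ (fun m => rfl)

theorem nrm_mul (γ : MulAut B) (a b : B) : nrm p γ (a * b) = nrm p γ a * nrm p γ b := by
  unfold nrm
  rw [← Finset.prod_mul_distrib]
  apply Finset.prod_congr rfl
  intro m _
  rw [map_mul]

theorem nrm_one (γ : MulAut B) : nrm p γ 1 = 1 := by
  unfold nrm
  simp

/-- `nrm` as a homomorphism. -/
noncomputable def nrmHom (p : ℕ) [Fact p.Prime] (γ : MulAut B) : B →* B where
  toFun := nrm p γ
  map_one' := nrm_one γ
  map_mul' := nrm_mul γ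

theorem nrmHom_apply (γ : MulAut B) (b : B) : nrmHom p γ b = nrm p γ b := rfl

theorem prod_mul_val (γ : MulAut B) (c : ZMod p) (hc : c ≠ 0) (b : B) :
    ∏ k : ZMod p, (γ ^ (c * k).val) b = nrm p γ b := by
  unfold nrm
  exact Fintype.prod_equiv (Equiv.mulLeft₀ c hc) _ _ (fun m => rfl)

theorem pow_mem_of_inv (γ : MulAut B) (B' : Subgroup B) (hinv : ∀ b ∈ B', γ b ∈ B') (k : ℕ) :
    ∀ b ∈ B', (γ ^ k) b ∈ B' := by
  induction k with
  | zero => intro b hb; simpa using hb
  | succ k ih =>
    intro b hb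
    rw [pow_succ', MulAut.mul_apply]
    exact hinv _ (ih b hb)

theorem nrm_mem (γ : MulAut B) (B' : Subgroup B) (hinv : ∀ b ∈ B', γ b ∈ B') {b : B}
    (hb : b ∈ B') : nrm p γ b ∈ B' := by
  unfold nrm
  exact Subgroup.prod_mem _ (fun m _ => pow_mem_of_inv γ B' hinv _ b hb)

theorem nrm_eq_one (β : MulAut B) (hβ : β ^ p = 1) (B' : Subgroup B)
    (hinv : ∀ b ∈ B', β b ∈ B') (hfpf : ∀ b ∈ B', β b = b → b = 1) {b : B} (hb : b ∈ B') :
    nrm p β b = 1 :=
  hfpf _ (nrm_mem β B' hinv hb) (nrm_fixed β hβ b)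

theorem pow_fixed (γ : MulAut B) {d : B} (hd : γ d = d) (k : ℕ) : (γ ^ k) d = d := by
  induction k with
  | zero => simp
  | succ k ih => rw [pow_succ', MulAut.mul_apply, ih, hd]

/-- The projection onto the `j`-eigenspace kills the `i`-eigenspace for `i ≠ j`. -/
theorem proj_other (α β : MulAut B) (hc : Commute α β) (hβ : β ^ p = 1) (B' : Subgroup B)
    (hinvβ : ∀ b ∈ B', β b ∈ B') (hfpf : ∀ b ∈ B', β b = b → b = 1)
    (i j : ZMod p) (hij : i ≠ j) {d : B} (hd : d ∈ B') (hfix : (α * β ^ i.val) d = d) :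
    ∏ k : ZMod p, ((α * β ^ j.val) ^ k.val) d = 1 := by
  have e1 : α * β ^ j.val = β ^ (j - i).val * (α * β ^ i.val) := by
    have h1 : β ^ (j - i).val * β ^ i.val = β ^ j.val := by
      rw [← pow_add, ← pow_val_cast β hβ ((j - i).val + i.val)]
      congr 2
      push_cast
      rw [ZMod.natCast_zmod_val, ZMod.natCast_zmod_val]
      ring
    have h2 : Commute (β ^ (j - i).val) α := (hc.pow_right _).symm
    rw [← mul_assoc, h2.eq, mul_assoc, h1]
  have hc2 : Commute (β ^ (j - i).val) (α * β ^ i.val) :=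
    ((hc.pow_right _).symm).mul_right ((Commute.refl β).pow_pow _ _)
  have e2 : ∀ k : ZMod p, ((α * β ^ j.val) ^ k.val) d = (β ^ ((j - i) * k).val) d := by
    intro k
    rw [e1, hc2.mul_pow, MulAut.mul_apply, pow_fixed _ hfix, ← pow_mul,
      ← pow_val_cast β hβ ((j - i).val * k.val)]
    congr 3
    push_cast
    rw [ZMod.natCast_zmod_val, ZMod.natCast_zmod_val]
  simp_rw [e2]
  rw [prod_mul_val β (j - i) (sub_ne_zero.mpr (Ne.symm hij)) d]
  exact nrm_eq_one β hβ B' hinvβ hfpf hd

theorem proj_self (γ : MulAut B) {d : B} (hfix : γ d = d) :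
    ∏ k : ZMod p, (γ ^ k.val) d = d ^ p := by
  simp_rw [pow_fixed γ hfix]
  rw [Finset.prod_const, Finset.card_univ, ZMod.card]

/-- A family of eigenvectors for distinct "eigenvalues" with trivial product consists of elements
of order dividing `p`. -/
theorem eigen_indep (α β : MulAut B) (hc : Commute α β) (hβ : β ^ p = 1) (B' : Subgroup B)
    (hinvβ : ∀ b ∈ B', β b ∈ B') (hfpf : ∀ b ∈ B', β b = b → b = 1)
    (d : ZMod p → B) (hd : ∀ i, d i ∈ B') (hfix : ∀ i, (α * β ^ i.val) (d i) = d i)
    (hprod : ∏ i, d i = 1) (j : ZMod p) : d j ^ p = 1 := by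
  have h1 : ∏ k : ZMod p, ((α * β ^ j.val) ^ k.val) (∏ i, d i) = 1 := by
    rw [hprod]
    simp
  simp_rw [map_prod] at h1
  rw [Finset.prod_comm] at h1
  rw [Finset.prod_eq_single j] at h1
  · rw [← h1, proj_self _ (hfix j)]
  · intro i _ hij
    exact proj_other α β hc hβ B' hinvβ hfpf i j hij (hd i) (hfix i)
  · intro h; exact absurd (Finset.mem_univ j) h

/-- Some `α β^i` has a nontrivial fixed point. -/
theorem exists_eigen (α β : MulAut B) (hc : Commute α β) (hα : α ^ p = 1) (hβ : β ^ p = 1)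
    (B' : Subgroup B) (hinvα : ∀ b ∈ B', α b ∈ B')
    (hinvβ : ∀ b ∈ B', β b ∈ B') (hfpf : ∀ b ∈ B', β b = b → b = 1)
    (hcop : ∀ b : B, b ^ p = 1 → b = 1) (hne : ∃ b ∈ B', b ≠ 1) :
    ∃ i : ZMod p, ∃ b ∈ B', b ≠ 1 ∧ (α * β ^ i.val) b = b := by
  by_contra hcon
  push Not at hcon
  obtain ⟨b0, hb0, hb01⟩ := hne
  have hγp : ∀ i : ZMod p, (α * β ^ i.val) ^ p = 1 := by
    intro i
    rw [(hc.pow_right _).mul_pow, hα, ← pow_mul, mul_comm, pow_mul, hβ, one_pow, one_mul]
  have hγinv : ∀ i : ZMod p, ∀ b ∈ B', (α * β ^ i.val) b ∈ B' := by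
    intro i b hb
    rw [MulAut.mul_apply]
    exact hinvα _ (pow_mem_of_inv β B' hinvβ _ b hb)
  have h1 : ∀ i : ZMod p, nrm p (α * β ^ i.val) b0 = 1 := by
    intro i
    by_contra hne1
    exact hcon i _ (nrm_mem _ B' (hγinv i) hb0) hne1 (nrm_fixed _ (hγp i) b0)
  have h2 : ∏ i : ZMod p, nrm p (α * β ^ i.val) b0 = 1 := by
    simp_rw [h1]; simp
  unfold nrm at h2
  rw [Finset.prod_comm] at h2
  rw [Finset.prod_eq_single (0 : ZMod p)] at h2
  · simp only [ZMod.val_zero, pow_zero, MulAut.one_apply, Finset.prod_const, Finset.card_univ,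
      ZMod.card] at h2
    exact hb01 (hcop b0 h2)
  · intro k _ hk
    have e : ∀ i : ZMod p, ((α * β ^ i.val) ^ k.val) b0 = (α ^ k.val) ((β ^ (k * i).val) b0) := by
      intro i
      rw [(hc.pow_right _).mul_pow, MulAut.mul_apply, ← pow_mul,
        ← pow_val_cast β hβ (i.val * k.val)]
      congr 3
      push_cast
      rw [ZMod.natCast_zmod_val, ZMod.natCast_zmod_val, mul_comm]
    simp_rw [e]
    rw [← map_prod, prod_mul_val β k hk b0, nrm_eq_one β hβ B' hinvβ hfpf hb0, map_one]
  · intro h; exact absurd (Finset.mem_univ _) h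

end Abstract

section Fpf

variable {B : Type v} [CommGroup B] [Finite B] {p r n : ℕ} [hp : Fact p.Prime] [hr : Fact r.Prime]

/-- The fixed points of an automorphism. -/
def fixedSub (γ : MulAut B) : Subgroup B where
  carrier := {b | γ b = b}
  mul_mem' := by
    intro a b ha hb
    change γ (a * b) = a * b
    have ha' : γ a = a := ha
    have hb' : γ b = b := hb
    rw [map_mul, ha', hb']
  one_mem' := map_one γ
  inv_mem' := by
    intro a ha
    change γ a⁻¹ = a⁻¹
    have ha' : γ a = a := ha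
    rw [map_inv, ha']

omit [Finite B] in
theorem mem_fixedSub (γ : MulAut B) (b : B) : b ∈ fixedSub γ ↔ γ b = b := Iff.rfl

theorem card_eq_pow (hBr : ∀ b : B, b ^ r = 1) (B' : Subgroup B) :
    ∃ k : ℕ, Nat.card B' = r ^ k := by
  have : IsPGroup r B' := by
    intro b
    refine ⟨1, ?_⟩
    rw [pow_one]
    apply Subtype.ext
    simp [hBr]
  exact (IsPGroup.iff_card).mp this

/-- An automorphism of order `p` acting without fixed points on an invariant subgroup `B' ≠ 1`. -/
theorem le_card_of_fpf (hBr : ∀ b : B, b ^ r = 1)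
    (hmin : ∀ k : ℕ, 1 ≤ k → p ∣ r ^ k - 1 → n ≤ k) (ζ : MulAut B) (hζ : ζ ^ p = 1)
    (B' : Subgroup B) (hinv : ∀ b, ζ b ∈ B' ↔ b ∈ B') (hne : B' ≠ ⊥)
    (hfpf : ∀ b ∈ B', ζ b = b → b = 1) : r ^ n ≤ Nat.card B' := by
  classical
  have : Fintype B' := Fintype.ofFinite _
  let f : Equiv.Perm B := MulAut.toPerm B ζ
  have hf : f ^ p = 1 := by
    change (MulAut.toPerm B ζ) ^ p = 1
    rw [← map_pow, hζ, map_one]
  have hinv' : ∀ b, f b ∈ B' ↔ b ∈ B' := hinv
  obtain ⟨σ, hσdef⟩ : ∃ σ : Equiv.Perm B', σ = f.subtypePerm hinv' := ⟨_, rfl⟩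
  have hσapp : ∀ b : B', ((σ b : B') : B) = ζ (b : B) := by
    intro b; rw [hσdef]; rfl
  have hσ : σ ^ p ^ 1 = 1 := by
    rw [pow_one, hσdef, Equiv.Perm.subtypePerm_pow]
    ext b
    simp [hf]
  have hmod := Equiv.Perm.card_compl_support_modEq (p := p) (n := 1) hσ
  have hfix : σ.supportᶜ.card = 1 := by
    rw [Finset.card_eq_one]
    refine ⟨1, ?_⟩
    ext b
    rw [Finset.mem_compl, Equiv.Perm.mem_support, not_not, Finset.mem_singleton]
    constructor
    · intro hb
      apply Subtype.ext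
      have : ζ (b : B) = b := by rw [← hσapp, hb]
      simpa using hfpf b b.2 this
    · intro hb
      rw [hb]
      apply Subtype.ext
      rw [hσapp]
      exact map_one ζ
  rw [hfix, ← Nat.card_eq_fintype_card] at hmod
  have hmod := hmod.symm
  obtain ⟨k, hk⟩ := card_eq_pow hBr B'
  have hk1 : 1 ≤ k := by
    by_contra h0
    have h00 : k = 0 := by omega
    rw [h00, pow_zero] at hk
    exact hne ((Subgroup.card_eq_one).mp hk)
  rw [hk] at hmod ⊢
  have hpos : 1 ≤ r ^ k := Nat.one_le_pow _ _ hr.out.pos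
  have hdvd : p ∣ r ^ k - 1 := (Nat.modEq_iff_dvd' hpos).mp hmod.symm
  exact Nat.pow_le_pow_right hr.out.pos (hmin k hk1 hdvd)

end Fpf

section Noncentral

open Cfsg.Agent.Lib.Helper18.ES

variable {p : ℕ} [hp : Fact p.Prime]

theorem exists_noncentral_pow (E : Type u) [Group E] [Finite E] (h : IsES p E) (w : ℕ)
    (hc : Nat.card E = p ^ (2 * (w + 1) + 1)) (hpw : p ≠ 2 ∨ 1 ≤ w) :
    ∃ x : E, x ∉ Subgroup.center E ∧ x ^ p = 1 := by
  have hp1 : 1 < p := hp.out.one_lt
  by_cases hp2 : p = 2
  · -- `p = 2`, `w ≥ 1`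
    have hw : 1 ≤ w := by
      rcases hpw with h1 | h1
      · exact absurd hp2 h1
      · exact h1
    obtain ⟨a, b, hab⟩ := h.exists_not_comm hc
    have ha_nc : a ∉ Subgroup.center E := by
      intro hz
      exact hab ((Subgroup.mem_center_iff.mp hz b).symm)
    by_cases ha2 : a ^ p = 1
    · exact ⟨a, ha_nc, ha2⟩
    · -- look inside `cen h a b`
      have hcard := card_cen_succ h hab hc
      have hex : ∃ u ∈ cen h a b, u ∉ Subgroup.center E := by
        by_contra hcon
        push Not at hcon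
        have hle : cen h a b ≤ Subgroup.center E := hcon
        have h1 := Subgroup.card_le_of_le hle
        rw [hcard, h.1] at h1
        have h2 : p ^ 3 ≤ p ^ (2 * w + 1) := Nat.pow_le_pow_right hp.out.pos (by omega)
        have h3 : p ^ 1 < p ^ 3 := Nat.pow_lt_pow_right hp1 (by omega)
        rw [pow_one] at h3
        omega
      obtain ⟨u, huC, hu_nc⟩ := hex
      obtain ⟨hua, hub⟩ := (mem_cen h a b u).mp huC
      have hapz : a ^ p ∈ Subgroup.center E := h.pow_mem_center a
      have hupz : u ^ p ∈ Subgroup.center E := h.pow_mem_center u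
      obtain ⟨k, hk⟩ := h.exists_zpow hapz ha2 hupz
      have hap2 : (a ^ p) ^ p = 1 := h.pow_eq_one_of_mem_center hapz
      subst hp2
      rcases Int.even_or_odd' k with ⟨m, hm | hm⟩
      · -- `u ^ 2 = 1`
        refine ⟨u, hu_nc, ?_⟩
        rw [← hk, hm, zpow_mul, zpow_ofNat, hap2, one_zpow]
      · -- `u ^ 2 = a ^ 2`, so `(a u)^2 = 1`
        have hu2 : u ^ 2 = a ^ 2 := by
          rw [← hk, hm, zpow_add, zpow_mul, zpow_ofNat, hap2, one_zpow, one_mul, zpow_one]
        refine ⟨a * u, ?_, ?_⟩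
        · intro hz
          apply hab
          have h1 := Subgroup.mem_center_iff.mp hz b
          have h2 : b * a * u = a * b * u := by
            calc b * a * u = b * (a * u) := by group
              _ = a * u * b := h1
              _ = a * (u * b) := by group
              _ = a * (b * u) := by rw [← hub]
              _ = a * b * u := by group
          exact (mul_right_cancel h2).symm
        · have hcomm : Commute a u := hua
          rw [hcomm.mul_pow, hu2, ← sq (a ^ 2)]
          exact hap2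
  · -- `p` odd: the `p`-th power map is a homomorphism
    have hmul : ∀ a b : E, (a * b) ^ p = a ^ p * b ^ p := by
      intro a b
      apply Cfsg.Agent.Lib.Helper14.mul_pow_prime_of_central_commutator hp2 a b
      · intro g
        rw [commutatorElement_def]
        exact (Subgroup.mem_center_iff.mp (h.2 b a) g).symm
      · rw [commutatorElement_def]
        exact h.pow_eq_one_of_mem_center (h.2 b a)
    let φ : E →* E :=
      { toFun := fun g => g ^ p
        map_one' := one_pow p
        map_mul' := hmul }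
    by_contra hcon
    push Not at hcon
    have hker : φ.ker ≤ Subgroup.center E := by
      intro x hx
      by_contra hxc
      exact hcon x hxc (MonoidHom.mem_ker.mp hx)
    have hrange : φ.range ≤ Subgroup.center E := by
      rintro _ ⟨g, rfl⟩
      exact h.pow_mem_center g
    have h1 := Subgroup.card_le_of_le hker
    have h2 := Subgroup.card_le_of_le hrange
    rw [h.1] at h1 h2
    have h3 := Subgroup.card_mul_index φ.ker
    rw [Subgroup.index_ker, hc] at h3
    have h4 : p ^ 3 ≤ p ^ (2 * (w + 1) + 1) := Nat.pow_le_pow_right hp.out.pos (by omega)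
    have h5 : Nat.card φ.ker * Nat.card φ.range ≤ p * p := Nat.mul_le_mul h1 h2
    have h6 : p * p < p ^ 3 := by
      have : p ^ 2 < p ^ 3 := Nat.pow_lt_pow_right hp1 (by omega)
      rwa [sq] at this
    omega

end Noncentral

section Main

open Cfsg.Agent.Lib.Helper18.ES

variable {B : Type v} [CommGroup B] [Finite B] {p r n : ℕ} [hp : Fact p.Prime] [hr : Fact r.Prime]

omit [Finite B] in
theorem inv_iff {E : Type u} [Group E] (ρ : E →* MulAut B) (B' : Subgroup B)
    (hinv : ∀ e : E, ∀ b ∈ B', ρ e b ∈ B') (e : E) (b : B) : ρ e b ∈ B' ↔ b ∈ B' := by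
  constructor
  · intro h
    have := hinv e⁻¹ _ h
    rwa [← MulAut.mul_apply, ← map_mul, inv_mul_cancel, map_one, MulAut.one_apply] at this
  · exact hinv e b

omit [Finite B] in
theorem coprime_pow (hpr : p ≠ r) (hBr : ∀ b : B, b ^ r = 1) (b : B) (hb : b ^ p = 1) : b = 1 := by
  have h1 : orderOf b ∣ p := orderOf_dvd_of_pow_eq_one hb
  have h2 : orderOf b ∣ r := orderOf_dvd_of_pow_eq_one (hBr b)
  have h3 : Nat.Coprime p r := (Nat.coprime_primes hp.out hr.out).mpr hpr
  have h4 : orderOf b ∣ Nat.gcd p r := Nat.dvd_gcd h1 h2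
  rw [h3] at h4
  exact orderOf_eq_one_iff.mp (Nat.dvd_one.mp h4)

theorem main (hpr : p ≠ r) (hBr : ∀ b : B, b ^ r = 1) (hn : 1 ≤ n)
    (hmin : ∀ k : ℕ, 1 ≤ k → p ∣ r ^ k - 1 → n ≤ k) :
    ∀ (w : ℕ) (E : Type u) [Group E] [Finite E] (h : IsES p E)
      (_ : Nat.card E = p ^ (2 * w + 1)) (ρ : E →* MulAut B) (B' : Subgroup B),
      (∀ e : E, ∀ b ∈ B', ρ e b ∈ B') → B' ≠ ⊥ →
      (∀ z ∈ Subgroup.center E, z ≠ 1 → ∀ b ∈ B', ρ z b = b → b = 1) →
      r ^ (n * p ^ w) ≤ Nat.card B' := by
  intro w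
  induction w with
  | zero =>
    intro E _ _ h hc ρ B' hinv hne hfpf
    obtain ⟨z, hz, hz1⟩ := h.exists_center_ne_one
    have hzp : z ^ p = 1 := h.pow_eq_one_of_mem_center hz
    have := le_card_of_fpf (n := n) hBr hmin (ρ z) (by rw [← map_pow, hzp, map_one]) B'
      (inv_iff ρ B' hinv z) hne (hfpf z hz hz1)
    simpa using this
  | succ w ih =>
    intro E _ _ h hc ρ B' hinv hne hfpf
    have hcop : ∀ b : B, b ^ p = 1 → b = 1 := coprime_pow hpr hBr
    have hne' : ∃ b ∈ B', b ≠ 1 := by
      by_contra hcon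
      push Not at hcon
      exact hne ((Subgroup.eq_bot_iff_forall _).mpr hcon)
    by_cases hsp : p = 2 ∧ w = 0
    · -- nonabelian group of order `8`
      obtain ⟨hp2, hw0⟩ := hsp
      subst hw0
      have hn1 : n = 1 := by
        have hodd : p ∣ r ^ 1 - 1 := by
          rw [pow_one, hp2]
          rcases hr.out.eq_two_or_odd' with h2 | ⟨m, hm⟩
          · exact absurd (hp2.trans h2.symm) hpr
          · exact ⟨m, by omega⟩
        have := hmin 1 le_rfl hodd
        omega
      obtain ⟨k, hk⟩ := card_eq_pow hBr B'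
      have hk0 : k ≠ 0 := by
        intro h0
        rw [h0, pow_zero] at hk
        exact hne ((Subgroup.card_eq_one).mp hk)
      suffices h2k : 2 ≤ k by
        rw [hn1, hk, hp2]
        exact Nat.pow_le_pow_right hr.out.pos (by simpa using h2k)
      by_contra hk2
      have hk1 : k = 1 := by omega
      rw [hk1, pow_one] at hk
      have hcyc : IsCyclic B' := isCyclic_of_prime_card hk
      obtain ⟨g, hg⟩ := hcyc.exists_generator
      obtain ⟨a, b, hab⟩ := h.exists_not_comm hc
      obtain ⟨hz, hz1⟩ := comm_mem_center_ne_one h hab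
      have hpowmap : ∀ e : E, ∃ m : ℤ, ρ e (g : B) = (g : B) ^ m := by
        intro e
        have hmem : (⟨ρ e g, hinv e g g.2⟩ : B') ∈ Subgroup.zpowers g := hg _
        obtain ⟨m, hm⟩ := Subgroup.mem_zpowers_iff.mp hmem
        refine ⟨m, ?_⟩
        have := congrArg Subtype.val hm
        simpa using this.symm
      obtain ⟨ma, hma⟩ := hpowmap a
      obtain ⟨mb, hmb⟩ := hpowmap b
      have h1 : ρ (a * b) (g : B) = ρ (b * a) g := by
        rw [map_mul, map_mul, MulAut.mul_apply, MulAut.mul_apply, hmb, hma, map_zpow, map_zpow,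
          hma, hmb, ← zpow_mul, ← zpow_mul, mul_comm]
      have h2 : ρ (a * b * a⁻¹ * b⁻¹) (ρ (b * a) g) = ρ (b * a) g := by
        rw [← MulAut.mul_apply, ← map_mul]
        have : a * b * a⁻¹ * b⁻¹ * (b * a) = a * b := by group
        rw [this, h1]
      have h3 := hfpf _ hz hz1 (ρ (b * a) g) (hinv _ _ g.2) h2
      have hg1 : (g : B) = 1 := by
        apply (ρ (b * a)).injective
        rw [h3, map_one]
      apply hne
      rw [Subgroup.eq_bot_iff_forall]
      intro x hx
      obtain ⟨m, hm⟩ := Subgroup.mem_zpowers_iff.mp (hg ⟨x, hx⟩)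
      have := congrArg Subtype.val hm
      simp only [Subgroup.coe_zpow, hg1, one_zpow] at this
      exact this.symm
    · have hpw : p ≠ 2 ∨ 1 ≤ w := by
        by_contra hcon
        push Not at hcon
        exact hsp ⟨hcon.1, by omega⟩
      obtain ⟨x, hx_nc, hxp⟩ := exists_noncentral_pow E h w hc hpw
      have hexy : ∃ y, y * x ≠ x * y := by
        by_contra hcon
        push Not at hcon
        exact hx_nc (Subgroup.mem_center_iff.mpr hcon)
      obtain ⟨y, hyx⟩ := hexy
      obtain ⟨hz, hz1⟩ := comm_mem_center_ne_one h hyx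
      obtain ⟨z, hzdef⟩ : ∃ z : E, z = y * x * y⁻¹ * x⁻¹ := ⟨_, rfl⟩
      rw [← hzdef] at hz hz1
      have hzp : z ^ p = 1 := h.pow_eq_one_of_mem_center hz
      have hzc : ∀ g : E, g * z = z * g := Subgroup.mem_center_iff.mp hz
      obtain ⟨α, hαdef⟩ : ∃ α : MulAut B, α = ρ x := ⟨_, rfl⟩
      obtain ⟨β, hβdef⟩ : ∃ β : MulAut B, β = ρ z := ⟨_, rfl⟩
      obtain ⟨δ, hδdef⟩ : ∃ δ : MulAut B, δ = ρ y := ⟨_, rfl⟩
      have hαβ : Commute α β := by
        change α * β = β * α
        rw [hαdef, hβdef, ← map_mul, ← map_mul, hzc x]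
      have hδβ : Commute δ β := by
        change δ * β = β * δ
        rw [hδdef, hβdef, ← map_mul, ← map_mul, hzc y]
      have hα : α ^ p = 1 := by rw [hαdef, ← map_pow, hxp, map_one]
      have hβ : β ^ p = 1 := by rw [hβdef, ← map_pow, hzp, map_one]
      have hδα : δ * α = α * β * δ := by
        rw [hδdef, hαdef, hβdef, ← map_mul, ← map_mul, ← map_mul]
        congr 1
        calc y * x = z * x * y := by rw [hzdef]; group
          _ = x * z * y := by rw [hzc x]
      have hδiα : ∀ i : ℕ, δ ^ i * α = α * β ^ i * δ ^ i := by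
        intro i
        induction i with
        | zero => simp
        | succ i ihi =>
          have c1 : Commute δ (β ^ i) := hδβ.pow_right i
          calc δ ^ (i + 1) * α = δ * (δ ^ i * α) := by rw [pow_succ']; group
            _ = δ * (α * β ^ i * δ ^ i) := by rw [ihi]
            _ = (δ * α) * β ^ i * δ ^ i := by group
            _ = α * β * (δ * β ^ i) * δ ^ i := by rw [hδα]; group
            _ = α * β * (β ^ i * δ) * δ ^ i := by rw [c1.eq]
            _ = α * β ^ (i + 1) * δ ^ (i + 1) := by rw [pow_succ' β i, pow_succ' δ i]; group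
      have hinvα : ∀ b ∈ B', α b ∈ B' := by rw [hαdef]; exact hinv x
      have hinvβ : ∀ b ∈ B', β b ∈ B' := by rw [hβdef]; exact hinv z
      have hfpfβ : ∀ b ∈ B', β b = b → b = 1 := by rw [hβdef]; exact hfpf z hz hz1
      have hδpow : ∀ i : ℕ, δ ^ i = ρ (y ^ i) := by
        intro i; rw [hδdef, map_pow]
      -- the smaller group
      have hCES : IsES p (cen h y x) := isES_cen h hyx
      have hCcard : Nat.card (cen h y x) = p ^ (2 * w + 1) := card_cen_succ h hyx hc
      obtain ⟨B'', hB''def⟩ : ∃ B'' : Subgroup B, B'' = B' ⊓ fixedSub α := ⟨_, rfl⟩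
      have hmemB'' : ∀ b : B, b ∈ B'' ↔ b ∈ B' ∧ α b = b := by
        intro b; rw [hB''def, Subgroup.mem_inf, mem_fixedSub]
      have hinv'' : ∀ e : cen h y x, ∀ b ∈ B'',
          (ρ.comp (cen h y x).subtype) e b ∈ B'' := by
        intro e b hb
        rw [hmemB''] at hb ⊢
        have hex : x * (e : E) = e * x := ((mem_cen h y x e).mp e.2).2
        refine ⟨hinv e b hb.1, ?_⟩
        change α (ρ (e : E) b) = ρ (e : E) b
        rw [hαdef, ← MulAut.mul_apply, ← map_mul, hex, map_mul, MulAut.mul_apply, ← hαdef, hb.2]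
      have hne'' : B'' ≠ ⊥ := by
        obtain ⟨i, b, hb, hb1, hfix⟩ :=
          exists_eigen α β hαβ hα hβ B' hinvα hinvβ hfpfβ hcop hne'
        obtain ⟨u, hudef⟩ : ∃ u : B, u = (δ ^ i.val)⁻¹ b := ⟨_, rfl⟩
        have hδu : (δ ^ i.val) u = b := by
          rw [hudef, ← MulAut.mul_apply, mul_inv_cancel, MulAut.one_apply]
        have huB' : u ∈ B' := by
          have h1 : (δ ^ i.val) u ∈ B' := by rw [hδu]; exact hb
          rw [hδpow] at h1
          exact (inv_iff ρ B' hinv _ u).mp h1
        have hαu : α u = u := by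
          have h1 : (δ ^ i.val) (α u) = (δ ^ i.val) u := by
            rw [← MulAut.mul_apply, hδiα i.val, MulAut.mul_apply, hδu, hfix]
          exact (δ ^ i.val).injective h1
        have hu1 : u ≠ 1 := by
          intro h0
          apply hb1
          rw [← hδu, h0, map_one]
        intro hbot
        have hmem : u ∈ B'' := (hmemB'' u).mpr ⟨huB', hαu⟩
        rw [hbot] at hmem
        exact hu1 (Subgroup.mem_bot.mp hmem)
      have hfpf'' : ∀ z' ∈ Subgroup.center (cen h y x), z' ≠ 1 → ∀ b ∈ B'',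
          (ρ.comp (cen h y x).subtype) z' b = b → b = 1 := by
        intro z' hz' hz'1 b hb hfix
        have hzE : (z' : E) ∈ Subgroup.center E := (mem_center_cen_iff h hyx z').mp hz'
        exact hfpf z' hzE (fun h0 => hz'1 (Subtype.ext h0)) b ((hmemB'' b).mp hb).1 hfix
      have IH := ih (cen h y x) hCES hCcard (ρ.comp (cen h y x).subtype) B'' hinv'' hne'' hfpf''
      -- `|B''|^p ≤ |B'|`
      have hpowle : Nat.card B'' ^ p ≤ Nat.card B' := by
        have hmemf : ∀ c : ZMod p → B'', ∏ i, (δ ^ i.val) (c i : B) ∈ B' := by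
          intro c
          apply Subgroup.prod_mem
          intro i _
          rw [hδpow]
          exact hinv _ _ ((hmemB'' _).mp (c i).2).1
        obtain ⟨f, hfdef⟩ : ∃ f : (ZMod p → B'') → B',
            f = fun c => ⟨∏ i, (δ ^ i.val) (c i : B), hmemf c⟩ := ⟨_, rfl⟩
        have hf : Function.Injective f := by
          intro c c' hcc
          have hval : ∏ i, (δ ^ i.val) (c i : B) = ∏ i, (δ ^ i.val) (c' i : B) := by
            have := congrArg Subtype.val hcc
            rw [hfdef] at this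
            exact this
          obtain ⟨d, hddef⟩ : ∃ d : ZMod p → B,
              d = fun i => (δ ^ i.val) ((c i : B) / (c' i : B)) := ⟨_, rfl⟩
          have hquot : ∀ i, (c i : B) / (c' i : B) ∈ B'' := fun i =>
            B''.div_mem (c i).2 (c' i).2
          have hd : ∀ i, d i ∈ B' := by
            intro i
            rw [hddef]
            change (δ ^ i.val) ((c i : B) / (c' i : B)) ∈ B'
            rw [hδpow]
            exact hinv _ _ ((hmemB'' _).mp (hquot i)).1
          have hdfix : ∀ i, (α * β ^ i.val) (d i) = d i := by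
            intro i
            rw [hddef]
            change (α * β ^ i.val) ((δ ^ i.val) ((c i : B) / (c' i : B))) =
              (δ ^ i.val) ((c i : B) / (c' i : B))
            rw [← MulAut.mul_apply, ← hδiα i.val, MulAut.mul_apply,
              ((hmemB'' _).mp (hquot i)).2]
          have hdprod : ∏ i, d i = 1 := by
            rw [hddef]
            simp only [map_div, Finset.prod_div_distrib, hval, div_self']
          funext j
          have hdj := eigen_indep α β hαβ hβ B' hinvβ hfpfβ d hd hdfix hdprod j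
          have hdj1 : d j = 1 := hcop _ hdj
          have hq1 : (c j : B) / (c' j : B) = 1 := by
            apply (δ ^ j.val).injective
            rw [map_one]
            have := hdj1
            rw [hddef] at this
            exact this
          exact Subtype.ext (div_eq_one.mp hq1)
        have hle := Nat.card_le_card_of_injective f hf
        rwa [Nat.card_fun, Nat.card_zmod] at hle
      calc r ^ (n * p ^ (w + 1)) = (r ^ (n * p ^ w)) ^ p := by rw [← pow_mul]; ring_nf
        _ ≤ (Nat.card B'') ^ p := Nat.pow_le_pow_left IH p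
        _ ≤ Nat.card B' := hpowle

end Main

/-- Let p and r be distinct primes, let E be an extraspecial subgroup of order p^(2w+1) of a finite group, and let A be an elementary abelian r-subgroup normalized by E on which E acts faithfully (C_E(A) = 1). If n ≥ 1 is least with p dividing rⁿ − 1 (the smallest dimension of a faithful representation of a group of order p over the field with r elements), then the order of A is at least r^(n·p^w). -/
theorem result {G : Type*} [Group G] [Finite G] {p r : ℕ} [Fact p.Prime] [hr : Fact r.Prime] (hpr : p ≠ r) (E A : Subgroup G) (w : ℕ) (hE : Cfsg.IsExtraspecial p ↥E) (hEcard : Nat.card ↥E = p ^ (2 * w + 1)) (hA : Cfsg.IsElementaryAbelian r A) (hnorm : E ≤ Subgroup.normalizer (A : Set G)) (hfaith : E ⊓ Subgroup.centralizer (A : Set G) = ⊥) (n : ℕ) (hn : 1 ≤ n) (hdiv : p ∣ r ^ n - 1) (hmin : ∀ k : ℕ, 1 ≤ k → p ∣ r ^ k - 1 → n ≤ k) : r ^ (n * p ^ w) ≤ Nat.card ↥A := by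
  classical
  have hp : p.Prime := Fact.out
  obtain ⟨hAcomm, hAexp⟩ := hA
  haveI := hAcomm
  letI instCG : CommGroup ↥A :=
    { (inferInstance : Group ↥A) with mul_comm := fun a b => mul_comm' a b }
  have hES : Cfsg.Agent.Lib.Helper18.ES.IsES p ↥E :=
    Cfsg.Agent.Lib.Helper18.ES.isES_of_isExtraspecial hE
  have hnormE : ∀ e ∈ E, ∀ a ∈ A, e * a * e⁻¹ ∈ A := fun e he a ha =>
    ((Subgroup.mem_normalizer_iff).mp (hnorm he) a).mp ha
  -- the conjugation action
  let ρfun : ↥E → MulAut ↥A := fun e =>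
    { toFun := fun a => ⟨(e : G) * a * (e : G)⁻¹, hnormE e e.2 a a.2⟩
      invFun := fun a => ⟨(e : G)⁻¹ * a * (e : G), by
        have := hnormE (e : G)⁻¹ (E.inv_mem e.2) a a.2
        simpa using this⟩
      left_inv := fun a => by
        apply Subtype.ext
        change (e : G)⁻¹ * ((e : G) * a * (e : G)⁻¹) * (e : G) = a
        group
      right_inv := fun a => by
        apply Subtype.ext
        change (e : G) * ((e : G)⁻¹ * a * (e : G)) * (e : G)⁻¹ = a
        group
      map_mul' := fun a b => by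
        apply Subtype.ext
        change (e : G) * ((a : G) * (b : G)) * (e : G)⁻¹ =
          ((e : G) * a * (e : G)⁻¹) * ((e : G) * b * (e : G)⁻¹)
        group }
  have hρfun : ∀ (e : ↥E) (a : ↥A), ((ρfun e a : ↥A) : G) = (e : G) * a * (e : G)⁻¹ :=
    fun e a => rfl
  let ρ : ↥E →* MulAut ↥A :=
    { toFun := ρfun
      map_one' := by
        ext a
        rw [hρfun]
        simp
      map_mul' := fun e f => by
        ext a
        rw [MulAut.mul_apply, hρfun, hρfun, hρfun]
        simp only [Subgroup.coe_mul]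
        group }
  have hρ : ∀ (e : ↥E) (a : ↥A), ((ρ e a : ↥A) : G) = (e : G) * a * (e : G)⁻¹ :=
    fun e a => rfl
  have hBr : ∀ b : ↥A, b ^ r = 1 := by
    intro b
    apply Subtype.ext
    rw [Subgroup.coe_pow]
    exact hAexp b b.2
  have hcop : ∀ b : ↥A, b ^ p = 1 → b = 1 := coprime_pow hpr hBr
  obtain ⟨z, hz, hz1⟩ := hES.exists_center_ne_one
  have hzp : z ^ p = 1 := hES.pow_eq_one_of_mem_center hz
  have hζp : (ρ z) ^ p = 1 := by rw [← map_pow, hzp, map_one]
  have hzcomm : ∀ e : ↥E, Commute (ρ z) (ρ e) := by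
    intro e
    change ρ z * ρ e = ρ e * ρ z
    rw [← map_mul, ← map_mul, (Subgroup.mem_center_iff.mp hz e)]
  -- the subgroup on which `z` acts without fixed points
  obtain ⟨B', hB'def⟩ : ∃ B' : Subgroup ↥A, B' = (nrmHom p (ρ z)).ker := ⟨_, rfl⟩
  have hmemB' : ∀ b : ↥A, b ∈ B' ↔ nrm p (ρ z) b = 1 := by
    intro b
    rw [hB'def, MonoidHom.mem_ker, nrmHom_apply]
  have hnrm_comm : ∀ (e : ↥E) (b : ↥A), nrm p (ρ z) (ρ e b) = ρ e (nrm p (ρ z) b) := by
    intro e b
    unfold nrm
    rw [map_prod]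
    apply Finset.prod_congr rfl
    intro m _
    rw [← MulAut.mul_apply, ← MulAut.mul_apply, ((hzcomm e).pow_left m.val).eq]
  have hinv : ∀ e : ↥E, ∀ b ∈ B', ρ e b ∈ B' := by
    intro e b hb
    rw [hmemB'] at hb ⊢
    rw [hnrm_comm, hb, map_one]
  have hne : B' ≠ ⊥ := by
    intro hbot
    have hall : ∀ b : ↥A, ρ z b = b := by
      intro b
      have hmem : b / ρ z b ∈ B' := by
        rw [hmemB']
        have h1 : nrm p (ρ z) (b / ρ z b) = nrm p (ρ z) b / nrm p (ρ z) (ρ z b) :=
          map_div (nrmHom p (ρ z)) b (ρ z b)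
        rw [h1, hnrm_comm, nrm_fixed (ρ z) hζp, div_self']
      rw [hbot, Subgroup.mem_bot, div_eq_one] at hmem
      exact hmem.symm
    have hzcen : (z : G) ∈ E ⊓ Subgroup.centralizer (A : Set G) := by
      rw [Subgroup.mem_inf]
      refine ⟨z.2, ?_⟩
      rw [Subgroup.mem_centralizer_iff]
      intro a ha
      have := congrArg Subtype.val (hall ⟨a, ha⟩)
      rw [hρ] at this
      change (z : G) * a * (z : G)⁻¹ = a at this
      calc a * (z : G) = ((z : G) * a * (z : G)⁻¹) * z := by rw [this]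
        _ = (z : G) * a := by group
    rw [hfaith, Subgroup.mem_bot] at hzcen
    exact hz1 (Subtype.ext hzcen)
  have hfpf : ∀ z' ∈ Subgroup.center ↥E, z' ≠ 1 → ∀ b ∈ B', ρ z' b = b → b = 1 := by
    intro z' hz' hz'1 b hb hfix
    obtain ⟨k, hk⟩ := hES.exists_zpow hz' hz'1 hz
    have hfixz : ρ z b = b := by
      rw [← hk, map_zpow]
      have hstab : ρ z' ∈ MulAction.stabilizer (MulAut ↥A) b := by
        rw [MulAction.mem_stabilizer_iff]
        exact hfix
      have := (MulAction.stabilizer (MulAut ↥A) b).zpow_mem hstab k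
      rw [MulAction.mem_stabilizer_iff] at this
      exact this
    have h1 : nrm p (ρ z) b = b ^ p := proj_self (ρ z) hfixz
    rw [hmemB'] at hb
    rw [hb] at h1
    exact hcop b h1.symm
  have hmain := main (B := ↥A) hpr hBr hn hmin w ↥E hES hEcard ρ B' hinv hne hfpf
  exact hmain.trans (Subgroup.card_le_card_group B')

end Cfsg.Agent.S2912
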