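import Cfsg.Statements.S2923
import Cfsg.Agent.Lib.Helper16.CharP

set_option autoImplicit false
open Cfsg
open Cfsg.Agent.Lib.Helper16
open scoped commutatorElement Pointwise

namespace Cfsg.Agent.S2923

variable {G : Type*} [Group G] [Finite G] {p : ℕ} [Fact p.Prime]

/-- `K` has characteristic `p` as soon as the `p'`-elements of `C_K(O_p(K))` are trivial. -/
theorem isCharPSub_of_coprime_trivial (K : Subgroup G)
    (h : ∀ e ∈ K ⊓ Subgroup.centralizer ((opDown p K : Subgroup G) : Set G),
      (orderOf e).Coprime p → e = 1) : IsCharPSub p K := by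
  unfold IsCharPSub
  apply le_opDown p inf_le_left
  · refine le_trans ?_ (inf_normalizer_le_normalizer_inf _ _)
    exact le_inf Subgroup.le_normalizer
      ((le_normalizer_opDown p K).trans (normalizer_le_normalizer_centralizer _))
  · exact isPGroup_of_coprime_elements_trivial _ h

/-- A subgroup `Y` normalized by `K ≥ Y`, `K` of characteristic `p`, has characteristic `p`. -/
theorem isCharPSub_of_normal_in (K Y : Subgroup G) (hK : IsCharPSub p K) (hYK : Y ≤ K)
    (hKY : K ≤ Subgroup.normalizer (Y : Set G)) : IsCharPSub p Y := by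
  apply isCharPSub_of_coprime_trivial
  intro e he hcop
  set X := opDown p K with hX
  have hXp : IsPGroup p X := opDown_isPGroup p K
  have hKX : K ≤ Subgroup.normalizer ((X : Subgroup G) : Set G) := le_normalizer_opDown p K
  have hXY : X ⊓ Y ≤ opDown p Y := by
    apply le_opDown p inf_le_right
    · refine le_trans ?_ (inf_normalizer_le_normalizer_inf _ _)
      exact le_inf (hYK.trans hKX) Subgroup.le_normalizer
    · exact hXp.to_le inf_le_left
  have heK : e ∈ K := hYK he.1
  have hcomm : ∀ x ∈ X, x * e = e * x := by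
    intro x hx
    have hxK : x ∈ K := opDown_le p K hx
    have hc1 : ⁅x, e⁆ ∈ X := by
      have h2 := (Subgroup.mem_normalizer_iff.mp (hKX heK) x⁻¹).mp (Subgroup.inv_mem _ hx)
      have e' : ⁅x, e⁆ = x * (e * x⁻¹ * e⁻¹) := by rw [commutatorElement_def]; group
      rw [e']; exact Subgroup.mul_mem _ hx h2
    have hc2 : ⁅x, e⁆ ∈ Y := by
      have h3 := (Subgroup.mem_normalizer_iff.mp (hKY hxK) e).mp he.1
      rw [commutatorElement_def]
      exact Y.mul_mem h3 (Y.inv_mem he.1)
    have hc3 : ⁅x, e⁆ ∈ opDown p Y := hXY ⟨hc1, hc2⟩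
    have hzx : ⁅x, e⁆ * e = e * ⁅x, e⁆ := Subgroup.mem_centralizer_iff.mp he.2 _ hc3
    obtain ⟨k, hk⟩ := exists_pow_eq_one_of_mem hXp hc1
    exact commute_of_coprime_commutator x e hzx k hk hcop
  have heC : e ∈ Subgroup.centralizer ((X : Subgroup G) : Set G) :=
    Subgroup.mem_centralizer_iff.mpr (fun x hx => hcomm x hx)
  obtain ⟨j, hj⟩ := exists_pow_eq_one_of_mem hXp (hK ⟨heK, heC⟩)
  exact eq_one_of_pow_prime_pow_of_coprime e j hj hcop

theorem isCharPSub_of_isSubnormal
    (hX : Subgroup.centralizer (Cfsg.pCore p G : Set G) ≤ Cfsg.pCore p G) (Y : Subgroup G)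
    (hY : Y.IsSubnormal) : IsCharPSub p Y := by
  induction hY with
  | top => exact isCharPSub_top p hX
  | step A B hle _ hN ih =>
    rw [Subgroup.normal_subgroupOf_iff_le_normalizer hle] at hN
    exact isCharPSub_of_normal_in B A ih hle hN

/-- Let p be a prime and X a finite group of characteristic p, that is C_X(O_p(X)) ≤ O_p(X). Then every subnormal subgroup of X has characteristic p. -/
theorem result {X : Type*} [Group X] [Finite X] {p : ℕ} [Fact p.Prime] (hX : Subgroup.centralizer (Cfsg.pCore p X : Set X) ≤ Cfsg.pCore p X) (Y : Subgroup X) (hY : Y.IsSubnormal) : Subgroup.centralizer (Cfsg.pCore p ↥Y : Set ↥Y) ≤ Cfsg.pCore p ↥Y := by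
  exact type_of_isCharPSub p Y (isCharPSub_of_isSubnormal hX Y hY)

end Cfsg.Agent.S2923
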