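import Cfsg.Statements.S2925
import Cfsg.Agent.Lib.Helper20.Layer
import Cfsg.Agent.Lib.Helper20.Fitting
import Cfsg.Agent.Lib.Helper16.ParabolicChar
-- import your own Cfsg.Agent.* helpers here

set_option autoImplicit false
open Cfsg

namespace Cfsg.Agent.S2925

theorem comm_of_mem {G : Type*} [Group G] {U : Subgroup G} (hUab : IsMulCommutative U) {a b : G}
    (ha : a ∈ U) (hb : b ∈ U) : a * b = b * a := by
  have := hUab.is_comm.comm ⟨a, ha⟩ ⟨b, hb⟩
  exact congrArg Subtype.val this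

/-- the commutators of elements of `T ∩ K` centralize `K` -/
theorem key {X : Type*} [Group X] [Finite X] (K : Subgroup X) (hK : Cfsg.IsComponent K)
    (T : Sylow 2 X) (Y : Subgroup X) (hYT : Y ≤ (T : Subgroup X))
    (hYn : (Y.subgroupOf (T : Subgroup X)).Normal) (hYab : IsMulCommutative ↥Y)
    (hnot : ¬ Y ≤ Subgroup.normalizer (K : Set X)) :
    ∀ s ∈ (T : Subgroup X) ⊓ K, ∀ t ∈ (T : Subgroup X) ⊓ K, ∀ k ∈ K,
      k * (s⁻¹ * t⁻¹ * s * t) = (s⁻¹ * t⁻¹ * s * t) * k := by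
  obtain ⟨y, hyY, hyN⟩ := SetLike.not_le_iff_exists.mp hnot
  set Ky : Subgroup X := K.map (MulAut.conj y).toMonoidHom with hKy
  have hKyc : Cfsg.IsComponent Ky :=
    Cfsg.Agent.Lib.Helper20.isComponent_map_mulEquiv (MulAut.conj y) K hK
  have hne : K ≠ Ky := by
    intro h
    apply hyN
    rw [← Cfsg.Agent.Lib.Helper16.map_conj_eq_self_iff]
    exact h.symm
  have hcomm : ⁅K, Ky⁆ = ⊥ := Cfsg.Agent.Lib.Helper20.components_commute K Ky hK hKyc hne
  have hc : ∀ a ∈ K, ∀ b ∈ Ky, a * b = b * a := fun a ha b hb =>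
    Cfsg.Agent.Lib.Helper20.commutes_of_commutator_eq_bot hcomm ha hb
  have hconjY : ∀ t ∈ (T : Subgroup X), t * y * t⁻¹ * y⁻¹ ∈ Y := by
    intro t htT
    have h1 := hYn.conj_mem ⟨y, hYT hyY⟩
      (show (⟨y, hYT hyY⟩ : (T : Subgroup X)) ∈ Y.subgroupOf (T : Subgroup X) from hyY) ⟨t, htT⟩
    have h2 : t * y * t⁻¹ ∈ Y := h1
    exact Y.mul_mem h2 (Y.inv_mem hyY)
  have hu : ∀ t ∈ K, y * t⁻¹ * y⁻¹ ∈ Ky := by
    intro t ht
    exact ⟨t⁻¹, K.inv_mem ht, by simp [MulAut.conj_apply]⟩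
  intro s hs t ht k hk
  set us := y * s⁻¹ * y⁻¹ with hus
  set ut := y * t⁻¹ * y⁻¹ with hut
  have husK : us ∈ Ky := hu s hs.2
  have hutK : ut ∈ Ky := hu t ht.2
  have h1 : s * us * (t * ut) = t * ut * (s * us) := by
    have hs' := hconjY s hs.1
    have ht' := hconjY t ht.1
    have e1 : s * y * s⁻¹ * y⁻¹ = s * us := by rw [hus]; group
    have e2 : t * y * t⁻¹ * y⁻¹ = t * ut := by rw [hut]; group
    rw [e1] at hs'
    rw [e2] at ht'
    exact comm_of_mem hYab hs' ht'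
  have h2 : us * t = t * us := (hc t ht.2 us husK).symm
  have h3 : ut * s = s * ut := (hc s hs.2 ut hutK).symm
  have e1 : s * t * (us * ut) = t * s * (ut * us) := by
    calc s * t * (us * ut) = s * (t * us) * ut := by group
      _ = s * (us * t) * ut := by rw [h2]
      _ = s * us * (t * ut) := by group
      _ = t * ut * (s * us) := h1
      _ = t * (ut * s) * us := by group
      _ = t * (s * ut) * us := by rw [h3]
      _ = t * s * (ut * us) := by group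
  have e2 : s⁻¹ * t⁻¹ * s * t = ut * us * (us * ut)⁻¹ := by
    have : s⁻¹ * t⁻¹ * s * t = (t * s)⁻¹ * (s * t * (us * ut)) * (us * ut)⁻¹ := by group
    rw [this, e1]
    group
  have hz : s⁻¹ * t⁻¹ * s * t ∈ Ky := by
    rw [e2]
    exact Ky.mul_mem (Ky.mul_mem hutK husK) (Ky.inv_mem (Ky.mul_mem husK hutK))
  exact hc k hk _ hz

/-- Let K be a component of the finite group X and T a Sylow 2-subgroup of X. If some abelian normal subgroup Y of T does not normalize K, then K ⧸ Z(K) has abelian Sylow 2-subgroups. -/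
theorem result {X : Type*} [Group X] [Finite X] (K : Subgroup X) (hK : Cfsg.IsComponent K) (T : Sylow 2 X) (Y : Subgroup X) (hYT : Y ≤ (T : Subgroup X)) (hYn : (Y.subgroupOf (T : Subgroup X)).Normal) (hYab : IsMulCommutative ↥Y) (hnot : ¬ Y ≤ Subgroup.normalizer (K : Set X)) (P : Sylow 2 (↥K ⧸ Subgroup.center ↥K)) : IsMulCommutative ↥(P : Subgroup (↥K ⧸ Subgroup.center ↥K)) := by
  classical
  have hkey := key K hK T Y hYT hYn hYab hnot
  -- the Sylow 2-subgroup `T ∩ K` of `K`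
  have hidx : ¬ 2 ∣ ((T : Subgroup X).subgroupOf K).index :=
    Cfsg.Agent.Lib.Helper16.not_dvd_relIndex_sylow_subnormal T hK.1
  let S₁ : Sylow 2 ↥K := (T.2.comap_subtype).toSylow hidx
  have hS₁ : (S₁ : Subgroup ↥K) = (T : Subgroup X).subgroupOf K := rfl
  let Q : Sylow 2 (↥K ⧸ Subgroup.center ↥K) :=
    S₁.mapSurjective (QuotientGroup.mk'_surjective (Subgroup.center ↥K))
  have hQ : (Q : Subgroup (↥K ⧸ Subgroup.center ↥K)) =
      (S₁ : Subgroup ↥K).map (QuotientGroup.mk' (Subgroup.center ↥K)) :=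
    Sylow.coe_mapSurjective _ _
  -- elements of `Q` commute
  have hQcomm : ∀ a ∈ (Q : Subgroup (↥K ⧸ Subgroup.center ↥K)),
      ∀ b ∈ (Q : Subgroup (↥K ⧸ Subgroup.center ↥K)), a * b = b * a := by
    intro a ha b hb
    rw [hQ, hS₁] at ha hb
    obtain ⟨s, hs, rfl⟩ := ha
    obtain ⟨t, ht, rfl⟩ := hb
    have hs' : (s : X) ∈ (T : Subgroup X) ⊓ K := ⟨hs, s.2⟩
    have ht' : (t : X) ∈ (T : Subgroup X) ⊓ K := ⟨ht, t.2⟩
    show (QuotientGroup.mk (s * t) : ↥K ⧸ Subgroup.center ↥K) = QuotientGroup.mk (t * s)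
    rw [eq_comm, QuotientGroup.eq]
    rw [Subgroup.mem_center_iff]
    intro k
    apply Subtype.ext
    have := hkey s hs' t ht' k k.2
    simp only [Subgroup.coe_mul, Subgroup.coe_inv]
    calc (k : X) * (((t : X) * s)⁻¹ * (s * t)) = k * ((s : X)⁻¹ * (t : X)⁻¹ * s * t) := by group
      _ = ((s : X)⁻¹ * (t : X)⁻¹ * s * t) * k := this
      _ = (((t : X) * s)⁻¹ * (s * t)) * k := by group
  obtain ⟨g, hg⟩ := MulAction.exists_smul_eq (↥K ⧸ Subgroup.center ↥K) Q P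
  have hP : ∀ a ∈ (P : Subgroup (↥K ⧸ Subgroup.center ↥K)),
      ∃ a' ∈ (Q : Subgroup (↥K ⧸ Subgroup.center ↥K)), a = g * a' * g⁻¹ := by
    intro a ha
    rw [← hg, Sylow.coe_subgroup_smul, Subgroup.mem_pointwise_smul_iff_inv_smul_mem] at ha
    refine ⟨_, ha, ?_⟩
    simp [MulAut.smul_def, MulAut.conj_apply, mul_assoc]
  refine ⟨⟨fun a b => ?_⟩⟩
  apply Subtype.ext
  obtain ⟨a', ha', ha⟩ := hP a.1 a.2
  obtain ⟨b', hb', hb⟩ := hP b.1 b.2
  have h := hQcomm a' ha' b' hb'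
  show (a : ↥K ⧸ Subgroup.center ↥K) * b = b * a
  rw [ha, hb]
  calc g * a' * g⁻¹ * (g * b' * g⁻¹) = g * (a' * b') * g⁻¹ := by group
    _ = g * (b' * a') * g⁻¹ := by rw [h]
    _ = g * b' * g⁻¹ * (g * a' * g⁻¹) := by group

end Cfsg.Agent.S2925
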