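import Cfsg.Statements.S2929
import Cfsg.Agent.Lib.Helper3.SylThreeB

set_option autoImplicit false
open Cfsg

namespace Cfsg.Agent.S2929

/-- Let n ≥ 5 and let H be a subgroup of the symmetric group of degree n whose generalized Fitting subgroup F*(H) is quasisimple. If H contains a Sylow 3-subgroup of the symmetric group, then F*(H) is isomorphic to an alternating group of degree m for some m ∈ {n − 2, n − 1, n}. -/
theorem result (n : ℕ) (hn : 5 ≤ n) (H : Subgroup (Equiv.Perm (Fin n))) (hF : Cfsg.IsQuasisimple ↥(Cfsg.generalizedFittingSubgroup ↥H)) (hS : ∃ P : Sylow 3 (Equiv.Perm (Fin n)), (P : Subgroup (Equiv.Perm (Fin n))) ≤ H) : ∃ m : ℕ, (m = n - 2 ∨ m = n - 1 ∨ m = n) ∧ Nonempty (↥(Cfsg.generalizedFittingSubgroup ↥H) ≃* ↥(alternatingGroup (Fin m))) := by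
  classical
  obtain ⟨P, hPH⟩ := hS
  haveI : Fact (Nat.Prime 3) := ⟨Nat.prime_three⟩
  let a0 : Fin n := ⟨0, by omega⟩
  let a1 : Fin n := ⟨1, by omega⟩
  let a2 : Fin n := ⟨2, by omega⟩
  have h01 : a0 ≠ a1 := by
    intro h
    have := congrArg Fin.val h
    simp [a0, a1] at this
  have h02 : a0 ≠ a2 := by
    intro h
    have := congrArg Fin.val h
    simp [a0, a2] at this
  have h12 : a1 ≠ a2 := by
    intro h
    have := congrArg Fin.val h
    simp [a1, a2] at this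
  let c0 : Equiv.Perm (Fin n) := Equiv.swap a0 a2 * Equiv.swap a0 a1
  have hc0 : c0.IsThreeCycle := Equiv.Perm.isThreeCycle_swap_mul_swap_same h02 h01 h12.symm
  have hc03 : Cfsg.Agent.Lib.Helper3.Syl3.Is3 (L := Equiv.Perm (Fin n)) (Ω := Fin n) c0 := by
    refine ⟨a0, a1, a2, h01, h12, h02, ?_, ?_, ?_, ?_⟩
    · show (Equiv.swap a0 a2 * Equiv.swap a0 a1) a0 = a1
      rw [Equiv.Perm.mul_apply, Equiv.swap_apply_left, Equiv.swap_apply_of_ne_of_ne h01.symm h12]
    · show (Equiv.swap a0 a2 * Equiv.swap a0 a1) a1 = a2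
      rw [Equiv.Perm.mul_apply, Equiv.swap_apply_right, Equiv.swap_apply_left]
    · show (Equiv.swap a0 a2 * Equiv.swap a0 a1) a2 = a0
      rw [Equiv.Perm.mul_apply, Equiv.swap_apply_of_ne_of_ne h02.symm h12.symm,
        Equiv.swap_apply_right]
    · intro z hz0 hz1 hz2
      show (Equiv.swap a0 a2 * Equiv.swap a0 a1) z = z
      rw [Equiv.Perm.mul_apply, Equiv.swap_apply_of_ne_of_ne hz0 hz1,
        Equiv.swap_apply_of_ne_of_ne hz0 hz2]
  have hpg : IsPGroup 3 ↥(Subgroup.zpowers c0) :=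
    IsPGroup.of_card (n := 1) (by rw [Nat.card_zpowers, hc0.orderOf, pow_one])
  obtain ⟨Q, hQ⟩ := hpg.exists_le_sylow
  obtain ⟨g, hg⟩ := MulAction.exists_smul_eq (Equiv.Perm (Fin n)) Q P
  have hcP : g * c0 * g⁻¹ ∈ (P : Subgroup (Equiv.Perm (Fin n))) := by
    rw [← hg, Sylow.coe_subgroup_smul]
    have := Subgroup.smul_mem_pointwise_smul c0 (MulAut.conj g) (Q : Subgroup _)
      (hQ (Subgroup.mem_zpowers c0))
    rw [MulAut.smul_def, MulAut.conj_apply] at this
    exact this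
  have h3 := hc03.conj g
  have hc' : Cfsg.Agent.Lib.Helper3.Syl3.Is3 (L := ↥H) (Ω := Fin n)
      (⟨g * c0 * g⁻¹, hPH hcP⟩ : ↥H) := by
    obtain ⟨a, b, c, hab, hbc, hac, hca, hcb, hcc, hfix⟩ := h3
    exact ⟨a, b, c, hab, hbc, hac, hca, hcb, hcc, hfix⟩
  obtain ⟨O, hinv, hfaith, ⟨iso⟩⟩ :=
    Cfsg.Agent.Lib.Helper3.Syl3.main_abstract (L := ↥H) (Ω := Fin n) hF _ hc'
  have hmn : O.ncard ≤ n := by
    have := Set.ncard_le_card O
    rwa [Nat.card_eq_fintype_card, Fintype.card_fin] at this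
  let p : SubMulAction ↥H (Fin n) :=
    { carrier := O
      smul_mem' := fun l x hx => hinv l x hx }
  have hφ : Function.Injective (MulAction.toPermHom ↥H ↥p) := by
    rw [injective_iff_map_eq_one]
    intro l hl
    apply hfaith
    intro x hx
    have := congrArg (fun σ : Equiv.Perm ↥p => ((σ ⟨x, hx⟩ : ↥p) : Fin n)) hl
    exact this
  have hd1 : Nat.card ↥H ∣ Nat.card (Equiv.Perm ↥p) := Subgroup.card_dvd_of_injective _ hφ
  have hcardp : Nat.card ↥p = O.ncard := Nat.card_coe_set_eq O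
  rw [Nat.card_perm, hcardp] at hd1
  have hd2 : Nat.card ↥(P : Subgroup (Equiv.Perm (Fin n))) ∣ Nat.card ↥H :=
    Subgroup.card_dvd_of_le hPH
  have hP := P.card_eq_multiplicity
  rw [Nat.card_perm, Nat.card_eq_fintype_card (α := Fin n), Fintype.card_fin] at hP
  rw [hP] at hd2
  have hle := Cfsg.Agent.Lib.Helper3.Syl3.factorial_arith n O.ncard hmn (hd2.trans hd1)
  refine ⟨O.ncard, ?_, ⟨iso⟩⟩
  omega

end Cfsg.Agent.S2929
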