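import Cfsg.Statements.S2934
import Cfsg.Agent.Lib.Helper20.Q8Hol

set_option autoImplicit false
open Cfsg

namespace Cfsg.Agent.S2934

/-- Let p be an odd prime, W a finite 2-group and E a non-cyclic abelian p-subgroup of Aut(W) such that, for every nontrivial e ∈ E, the fixed points of e in W contain at most one involution. Then E has order 9, W is extraspecial of order 2⁵, 2⁷ or 2⁹, and the common fixed points of E in W form exactly the centre Z(W). -/
theorem result {W : Type*} [Group W] [Finite W] (hW : IsPGroup 2 W) {p : ℕ} [Fact p.Prime] (hp : p ≠ 2) (E : Subgroup (MulAut W)) (hE : IsPGroup p ↥E) (hab : IsMulCommutative ↥E) (hnc : ¬ IsCyclic ↥E) (hfix : ∀ e ∈ E, e ≠ 1 → ∀ x y : W, orderOf x = 2 → orderOf y = 2 → e x = x → e y = y → x = y) : Nat.card ↥E = 9 ∧ Cfsg.IsExtraspecial 2 W ∧ (Nat.card W = 2 ^ 5 ∨ Nat.card W = 2 ^ 7 ∨ Nat.card W = 2 ^ 9) ∧ {x : W | ∀ e ∈ E, e x = x} = (Subgroup.center W : Set W) := by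
  have hab' : ∀ a ∈ E, ∀ b ∈ E, a * b = b * a := by
    intro a ha b hb
    have := hab.is_comm.comm (⟨a, ha⟩ : E) ⟨b, hb⟩
    exact congrArg Subtype.val this
  obtain ⟨hcard, z₀, hQ, hfixed⟩ :=
    Cfsg.Agent.Lib.Helper20.q8_hol hW hp E hE hab' hnc hfix
  obtain ⟨hex, hcenter⟩ := Cfsg.Agent.Lib.Helper20.q8_extraspecial hW hQ
  refine ⟨hcard, hex, hQ.card, ?_⟩
  have hmemZ : ∀ w : W, w ∈ Subgroup.center W ↔ w = 1 ∨ w = z₀ := by
    intro w
    rw [hcenter]
    constructor
    · exact Cfsg.Agent.Lib.Helper20.q8_mem_zpowers_inv hQ.zsq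
    · rintro (h1 | h1) <;> rw [h1]
      · exact Subgroup.one_mem _
      · exact Subgroup.mem_zpowers z₀
  ext w
  simp only [Set.mem_setOf_eq, SetLike.mem_coe]
  constructor
  · intro hw
    rw [hmemZ]
    exact hfixed w hw
  · intro hw e he
    rcases (hmemZ w).mp hw with h1 | h1
    · rw [h1, map_one]
    · rw [h1]
      have hcen : e z₀ = 1 ∨ e z₀ = z₀ := by
        apply hQ.cen
        intro w'
        have h2 : e z₀ * w' = e (z₀ * e.symm w') := by rw [map_mul, MulEquiv.apply_symm_apply]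
        have h3 : w' * e z₀ = e (e.symm w' * z₀) := by rw [map_mul, MulEquiv.apply_symm_apply]
        rw [h2, h3, hQ.zc]
      rcases hcen with h2 | h2
      · exfalso
        apply hQ.zne
        have := e.injective (h2.trans (map_one e).symm)
        exact this
      · exact h2

end Cfsg.Agent.S2934
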