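import Cfsg.Statements.S2939
import Cfsg.Agent.Lib.Helper16.SylowLink2

set_option autoImplicit false
open Cfsg
open Cfsg.Agent.Lib.Helper16
open scoped commutatorElement Pointwise

namespace Cfsg.Agent.S2939

section Aux
variable {G : Type*} [Group G] [Finite G] {p : ℕ} [Fact p.Prime]

theorem ofFn_snocFn {α : Type*} {n : ℕ} (y : Fin n → α) (a : α) :
    List.ofFn (snocFn y a) = List.ofFn y ++ [a] := by
  rw [List.ofFn_succ', List.concat_eq_append, snocFn_last]
  congr 2
  funext i
  exact snocFn_castSucc y a i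

omit [Finite G] [Fact p.Prime] in
theorem slink_of_chain (𝓕 : Set (Subgroup G)) (D : Subgroup G) (n : ℕ)
    (c : Fin (n + 1) → Sylow p G) (X : Fin n → Subgroup G) (x : Fin n → G)
    (h : ∀ i : Fin n,
        X i ∈ Cfsg.sylowMembers p 𝓕 (c i.castSucc : Subgroup G) ∧
        X i ∈ Cfsg.sylowMembers p 𝓕 (c i.succ : Subgroup G) ∧
        x i ∈ X i ∧
        Cfsg.subgroupConjRight (x i) (c i.succ : Subgroup G) = (c i.castSucc : Subgroup G) ∧
        D ≤ (c i.succ : Subgroup G) ⊓ X i) :
    SLink 𝓕 D (c 0) (c (Fin.last n)) := by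
  have key : ∀ i : Fin (n + 1), SLink 𝓕 D (c 0) (c i) := by
    intro i
    induction i using Fin.induction with
    | zero => exact SLink.refl _
    | succ i ih =>
      obtain ⟨h1, h2, h3, h4, h5⟩ := h i
      exact SLink.step (X i) (x i) ih h1 h2 h3 h4 h5
  exact key _

/-- From a link to a factorization as in strong control of fusion. -/
theorem fusion_of_slink (𝓕 : Set (Subgroup G)) (h𝓕 : Cfsg.IsNormalSet 𝓕) (D : Subgroup G)
    (S C : Sylow p G) (h : SLink 𝓕 D S C) :
    ∃ (n : ℕ) (Y : Fin n → Subgroup G) (y : Fin n → G),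
      (∀ i : Fin n, Y i ∈ Cfsg.sylowMembers p 𝓕 (S : Subgroup G) ∧ y i ∈ Y i) ∧
      (C : Subgroup G).map (MulAut.conj ((List.ofFn y).prod)⁻¹).toMonoidHom = (S : Subgroup G) ∧
      ∀ i : Fin n, Cfsg.conjRight (((List.ofFn y).take (i.val + 1)).prod) (D : Set G) ⊆
        (S : Set G) ∩ (Y i : Set G) := by
  induction h with
  | refl =>
    refine ⟨0, fun i => i.elim0, fun i => i.elim0, fun i => i.elim0, ?_, fun i => i.elim0⟩
    simp only [List.ofFn_zero, List.prod_nil, inv_one]
    exact map_conj_one _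
  | @step B C X x _ hXB hXC hxX hconj hDC ih =>
    obtain ⟨n, Y, y, hY, hBS, hsub⟩ := ih
    obtain ⟨u, hu⟩ : ∃ u, u = (List.ofFn y).prod := ⟨_, rfl⟩
    rw [← hu] at hBS
    unfold Cfsg.subgroupConjRight at hconj
    have hprod : (List.ofFn (snocFn y (u⁻¹ * x * u))).prod = x * u := by
      rw [ofFn_snocFn, List.prod_append, ← hu]
      simp only [List.prod_cons, List.prod_nil, mul_one]
      group
    refine ⟨n + 1, snocFn Y (X.map (MulAut.conj u⁻¹).toMonoidHom), snocFn y (u⁻¹ * x * u), ?_, ?_,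
      ?_⟩
    · intro i
      refine Fin.lastCases ?_ ?_ i
      · rw [snocFn_last, snocFn_last]
        refine ⟨?_, ⟨x, hxX, by simp [MulAut.conj_apply]⟩⟩
        rw [Cfsg.Agent.Lib.Helper23.mem_sylowMembers_iff _ _ S.isPGroup']
        rw [Cfsg.Agent.Lib.Helper23.mem_sylowMembers_iff _ _ B.isPGroup'] at hXB
        refine ⟨h𝓕 X hXB.1 u, ?_⟩
        rw [← hBS, Cfsg.Agent.Lib.Helper23.relIndex_conj]
        exact hXB.2
      · intro j
        rw [snocFn_castSucc, snocFn_castSucc]
        exact hY j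
    · rw [hprod, ← hBS, ← hconj, map_conj_map_conj]
      congr 2
      group
    · intro i
      refine Fin.lastCases ?_ ?_ i
      · rw [snocFn_last]
        have e : ((List.ofFn (snocFn y (u⁻¹ * x * u))).take ((Fin.last n).val + 1)) =
            List.ofFn (snocFn y (u⁻¹ * x * u)) := by
          apply List.take_of_length_le
          simp
        rw [e, hprod]
        rintro _ ⟨d, hd, rfl⟩
        have hdC : d ∈ (C : Subgroup G) := (Subgroup.mem_inf.mp (hDC hd)).1
        have hdX : d ∈ X := (Subgroup.mem_inf.mp (hDC hd)).2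
        have h1 : x⁻¹ * d * x ∈ (B : Subgroup G) := by
          rw [← hconj, mem_map_conj_iff]
          simpa [mul_assoc] using hdC
        have h2 : x⁻¹ * d * x ∈ X := X.mul_mem (X.mul_mem (X.inv_mem hxX) hdX) hxX
        have e2 : (x * u)⁻¹ * d * (x * u) = u⁻¹ * (x⁻¹ * d * x) * u := by group
        refine ⟨?_, ?_⟩
        · show (x * u)⁻¹ * d * (x * u) ∈ (S : Subgroup G)
          rw [e2, ← hBS, mem_map_conj_iff]
          simpa [mul_assoc] using h1
        · show (x * u)⁻¹ * d * (x * u) ∈ X.map (MulAut.conj u⁻¹).toMonoidHom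
          rw [e2, mem_map_conj_iff]
          simpa [mul_assoc] using h2
      · intro j
        rw [snocFn_castSucc]
        have e : ((List.ofFn (snocFn y (u⁻¹ * x * u))).take ((j.castSucc).val + 1)) =
            (List.ofFn y).take (j.val + 1) := by
          rw [ofFn_snocFn]
          apply List.take_append_of_le_length
          simp only [Fin.val_castSucc, List.length_ofFn]
          exact j.2
        rw [e]
        exact hsub j

end Aux

/-- Let p be a prime dividing the order of the finite group G and 𝓕 a family of subgroups of G closed under conjugation, with conjugates taken as X^g = g⁻¹Xg. Then 𝓕 controls Sylow p-intersections in G (any two distinct Sylow p-subgroups S and T with S ∩ T ≠ 1 are joined by a chain S = S₀, S₁, …, Sₙ = T of Sylow p-subgroups where, for each i, some member Xᵢ of 𝓕 meets both S_{i-1} and Sᵢ in Sylow p-subgroups of Xᵢ, satisfies S ∩ T ≤ Sᵢ ∩ Xᵢ, and contains an element xᵢ with Sᵢ^{xᵢ} = S_{i-1}) if and only if 𝓕 strongly controls p-fusion in G (whenever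 A is a subset of a Sylow p-subgroup S, A contains an element other than 1, and A^g ⊆ S, the element g factorises as g = y₁⋯yₙy with y ∈ N_G(S) and each yᵢ in a member Yᵢ of 𝓕 that meets S in a Sylow p-subgroup of Yᵢ, with A^{y₁⋯yᵢ} ⊆ S ∩ Yᵢ for each i). -/
theorem result {G : Type*} [Group G] [Finite G] {p : ℕ} [Fact p.Prime] (hdiv : p ∣ Nat.card G) (𝓕 : Set (Subgroup G)) (h𝓕 : Cfsg.IsNormalSet 𝓕) : Cfsg.ControlsSylowIntersections p 𝓕 ↔ Cfsg.FamilyStronglyControlsFusion p 𝓕 := by
  constructor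
  · -- control of Sylow intersections gives strong control of fusion
    intro hctl S A g hAS hA1 hAg
    have hAT : ∀ a ∈ A, a ∈ ((g • S : Sylow p G) : Subgroup G) := by
      intro a ha
      rw [Cfsg.Agent.Lib.Helper24.mem_smul_sylow_iff]
      exact hAg ⟨a, ha, rfl⟩
    by_cases hgN : g ∈ Subgroup.normalizer ((S : Subgroup G) : Set G)
    · refine ⟨0, fun i => i.elim0, fun i => i.elim0, g, hgN, fun i => i.elim0, ?_,
        fun i => i.elim0⟩
      simp
    · have hne : S ≠ g • S := by
        intro h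
        exact hgN (Sylow.smul_eq_iff_mem_normalizer.mp h.symm)
      have hinf : (S : Subgroup G) ⊓ ((g • S : Sylow p G) : Subgroup G) ≠ ⊥ := by
        obtain ⟨a, ha, ha1⟩ := hA1
        intro h0
        have h1 : a ∈ (S : Subgroup G) ⊓ ((g • S : Sylow p G) : Subgroup G) :=
          Subgroup.mem_inf.mpr ⟨hAS ha, hAT a ha⟩
        rw [h0, Subgroup.mem_bot] at h1
        exact ha1 h1
      obtain ⟨n, c, X, x, hc0, hcn, hstep⟩ := hctl S (g • S) hne hinf
      have hlink := slink_of_chain 𝓕 _ n c X x hstep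
      rw [hc0, hcn] at hlink
      obtain ⟨m, Y, y, hY, hTS, hsub⟩ := fusion_of_slink 𝓕 h𝓕 _ S (g • S) hlink
      obtain ⟨u, hu⟩ : ∃ u, u = (List.ofFn y).prod := ⟨_, rfl⟩
      rw [← hu] at hTS
      refine ⟨m, Y, y, u⁻¹ * g, ?_, hY, ?_, ?_⟩
      · have h1 : (u⁻¹ * g) • S = S := by
          apply Sylow.ext
          rw [coe_smul_sylow, ← map_conj_map_conj, ← coe_smul_sylow]
          exact hTS
        exact Sylow.smul_eq_iff_mem_normalizer.mp h1
      · rw [← hu]; group
      · intro i
        refine subset_trans ?_ (hsub i)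
        rintro _ ⟨a, ha, rfl⟩
        exact ⟨a, Subgroup.mem_inf.mpr ⟨hAS ha, hAT a ha⟩, rfl⟩
  · -- strong control of fusion gives control of Sylow intersections
    intro hfus
    apply controlsSylowIntersections_of_slink
    intro S T _ hinf
    obtain ⟨g, hg⟩ := MulAction.exists_smul_eq G S T
    have hDS : (((S : Subgroup G) ⊓ (T : Subgroup G) : Subgroup G) : Set G) ⊆ (S : Set G) :=
      fun d hd => (Subgroup.mem_inf.mp hd).1
    have hD1 : ∃ a ∈ (((S : Subgroup G) ⊓ (T : Subgroup G) : Subgroup G) : Set G), a ≠ 1 := by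
      obtain ⟨a, ha⟩ := (Subgroup.ne_bot_iff_exists_ne_one).mp hinf
      exact ⟨a.1, a.2, fun h => ha (Subtype.ext h)⟩
    have hDg : Cfsg.conjRight g (((S : Subgroup G) ⊓ (T : Subgroup G) : Subgroup G) : Set G) ⊆
        (S : Set G) := by
      rintro _ ⟨d, hd, rfl⟩
      have h1 : d ∈ (T : Subgroup G) := (Subgroup.mem_inf.mp hd).2
      rw [← hg, Cfsg.Agent.Lib.Helper24.mem_smul_sylow_iff] at h1
      exact h1
    obtain ⟨n, Y, y, y₀, hy₀, hY, hgy, hsub⟩ := hfus S _ g hDS hD1 hDg
    have hlen : (List.ofFn y).length = n := List.length_ofFn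
    have key : ∀ i : ℕ, i ≤ n → SLink 𝓕 ((S : Subgroup G) ⊓ (T : Subgroup G)) S
        ((((List.ofFn y).take i).prod) • S) := by
      intro i
      induction i with
      | zero =>
        intro _
        simp only [List.take_zero, List.prod_nil, one_smul]
        exact SLink.refl S
      | succ i ih =>
        intro hi
        have hi' : i < n := hi
        have hlink := ih hi'.le
        obtain ⟨u, hu⟩ : ∃ u, u = ((List.ofFn y).take i).prod := ⟨_, rfl⟩
        rw [← hu] at hlink
        have hprod : ((List.ofFn y).take (i + 1)).prod = u * y ⟨i, hi'⟩ := by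
          rw [List.prod_take_succ _ _ (by rw [hlen]; exact hi'), ← hu, List.getElem_ofFn]
        rw [hprod]
        obtain ⟨hYi, hyi⟩ := hY ⟨i, hi'⟩
        have hsubi := hsub ⟨i, hi'⟩
        simp only at hsubi
        rw [hprod] at hsubi
        rw [Cfsg.Agent.Lib.Helper23.mem_sylowMembers_iff _ _ S.isPGroup'] at hYi
        have hX : (Y ⟨i, hi'⟩).map (MulAut.conj u).toMonoidHom ∈ 𝓕 := by
          have := h𝓕 _ hYi.1 u⁻¹
          unfold Cfsg.subgroupConjRight at this
          rwa [inv_inv] at this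
        have hB : ¬ p ∣ (((u • S : Sylow p G) : Subgroup G) ⊓
            (Y ⟨i, hi'⟩).map (MulAut.conj u).toMonoidHom).relIndex
            ((Y ⟨i, hi'⟩).map (MulAut.conj u).toMonoidHom) := by
          rw [coe_smul_sylow, Cfsg.Agent.Lib.Helper23.relIndex_conj]
          exact hYi.2
        have hx : u * y ⟨i, hi'⟩ * u⁻¹ ∈ (Y ⟨i, hi'⟩).map (MulAut.conj u).toMonoidHom :=
          ⟨y ⟨i, hi'⟩, hyi, by simp [MulAut.conj_apply]⟩
        have hsm : (u * y ⟨i, hi'⟩ * u⁻¹) • (u • S : Sylow p G) = (u * y ⟨i, hi'⟩) • S := by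
          rw [← mul_smul]; congr 1; group
        have hstep := SLink.of_mem (𝓖 := 𝓕) (D := (S : Subgroup G) ⊓ (T : Subgroup G)) _ hX
          (u • S) hB (u * y ⟨i, hi'⟩ * u⁻¹) hx ?_
        · rw [hsm] at hstep
          exact hlink.trans hstep
        · rw [hsm]
          intro d hd
          have h1 := hsubi ⟨d, hd, rfl⟩
          refine Subgroup.mem_inf.mpr ⟨?_, ?_⟩
          · rw [Cfsg.Agent.Lib.Helper24.mem_smul_sylow_iff]
            exact h1.1
          · rw [mem_map_conj_iff]
            have h2 : (u * y ⟨i, hi'⟩)⁻¹ * d * (u * y ⟨i, hi'⟩) ∈ Y ⟨i, hi'⟩ := h1.2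
            have h3 := (Y ⟨i, hi'⟩).mul_mem ((Y ⟨i, hi'⟩).mul_mem hyi h2) ((Y ⟨i, hi'⟩).inv_mem hyi)
            have e : y ⟨i, hi'⟩ * ((u * y ⟨i, hi'⟩)⁻¹ * d * (u * y ⟨i, hi'⟩)) * (y ⟨i, hi'⟩)⁻¹ =
                u⁻¹ * d * u := by group
            rwa [e] at h3
    have hfin := key n le_rfl
    rw [List.take_of_length_le (by rw [hlen])] at hfin
    have hT : (List.ofFn y).prod • S = T := by
      rw [← hg, hgy, mul_smul, Sylow.smul_eq_iff_mem_normalizer.mpr hy₀]
    rw [hT] at hfin
    exact hfin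

end Cfsg.Agent.S2939
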