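import Cfsg.Statements.S2940
-- import your own Cfsg.Agent.* helpers here

set_option autoImplicit false
open Cfsg

namespace Cfsg.Agent.S2940

open scoped Pointwise in
/-- Let S be a Sylow p-subgroup of the finite group G and G₁, G₂ subgroups containing S with G = G₁G₂. Then for every g ∈ G there is a Sylow p-subgroup U of G with S ∩ S^g ≤ U ≤ G₁ ∩ G₂^g (conjugates taken as X^g = g⁻¹Xg). -/
theorem result {G : Type*} [Group G] [Finite G] {p : ℕ} [Fact p.Prime] (S : Sylow p G) (G₁ G₂ : Subgroup G) (h1 : (S : Subgroup G) ≤ G₁) (h2 : (S : Subgroup G) ≤ G₂) (hfact : ∀ g : G, ∃ g₁ ∈ G₁, ∃ g₂ ∈ G₂, g = g₁ * g₂) (g : G) : ∃ U : Sylow p G, (S : Subgroup G) ⊓ Cfsg.subgroupConjRight g (S : Subgroup G) ≤ (U : Subgroup G) ∧ (U : Subgroup G) ≤ G₁ ⊓ Cfsg.subgroupConjRight g G₂ := by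
  obtain ⟨a, ha, b, hb, hab⟩ := hfact g⁻¹
  -- H = G₁ ⊓ G₂^g
  set H : Subgroup G := G₁ ⊓ Cfsg.subgroupConjRight g G₂ with hH
  -- G₂^g = a G₂ a⁻¹
  have hG2 : Cfsg.subgroupConjRight g G₂ = G₂.map (MulAut.conj a).toMonoidHom := by
    unfold Cfsg.subgroupConjRight
    rw [hab]
    ext x
    simp only [Subgroup.mem_map, MulEquiv.coe_toMonoidHom, MulAut.conj_apply]
    constructor
    · rintro ⟨y, hy, rfl⟩
      exact ⟨b * y * b⁻¹, G₂.mul_mem (G₂.mul_mem hb hy) (G₂.inv_mem hb), by group⟩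
    · rintro ⟨y, hy, rfl⟩
      exact ⟨b⁻¹ * y * b, G₂.mul_mem (G₂.mul_mem (G₂.inv_mem hb) hy) hb, by group⟩
  -- S' = a • S ≤ H
  have hS'H : ((a • S : Sylow p G) : Subgroup G) ≤ H := by
    rw [hH, hG2]
    intro x hx
    rw [Sylow.coe_subgroup_smul] at hx
    obtain ⟨y, hy, rfl⟩ := hx
    refine ⟨?_, ?_⟩
    · exact G₁.mul_mem (G₁.mul_mem ha (h1 hy)) (G₁.inv_mem ha)
    · exact ⟨y, h2 hy, rfl⟩
  -- Q = S ⊓ S^g ≤ H
  have hQH : (S : Subgroup G) ⊓ Cfsg.subgroupConjRight g (S : Subgroup G) ≤ H := by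
    intro x hx
    refine ⟨h1 hx.1, ?_⟩
    obtain ⟨y, hy, rfl⟩ := hx.2
    exact ⟨y, h2 hy, rfl⟩
  have hQp : IsPGroup p ↥(((S : Subgroup G) ⊓ Cfsg.subgroupConjRight g (S : Subgroup G)).subgroupOf H) := by
    have : IsPGroup p ↥((S : Subgroup G) ⊓ Cfsg.subgroupConjRight g (S : Subgroup G)) :=
      S.isPGroup'.to_le inf_le_left
    exact this.comap_subtype
  obtain ⟨P, hP⟩ := hQp.exists_le_sylow
  obtain ⟨h, hh⟩ := MulAction.exists_smul_eq (↥H) ((a • S : Sylow p G).subtype hS'H) P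
  rw [Sylow.smul_subtype] at hh
  refine ⟨h • (a • S : Sylow p G), ?_, Sylow.smul_le hS'H h⟩
  intro x hx
  have hxH : x ∈ H := hQH hx
  have : (⟨x, hxH⟩ : ↥H) ∈ (P : Subgroup ↥H) := hP (by simpa [Subgroup.mem_subgroupOf] using hx)
  rw [← hh, Sylow.coe_subtype, Subgroup.mem_subgroupOf] at this
  exact this

end Cfsg.Agent.S2940
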