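import Cfsg.Statements.S2941
-- import your own Cfsg.Agent.* helpers here

set_option autoImplicit false
open Cfsg

namespace Cfsg.Agent.S2941

/-- If `J` is a 2-group normalizing `K`, then the odd-order elements of `K ⊔ J` lie in `K`. -/
theorem odd_mem_of_sup {G : Type*} [Group G] (K J : Subgroup G) (hJ : IsPGroup 2 ↥J)
    (hJK : J ≤ Subgroup.normalizer (K : Set G)) (x : G) (hx : x ∈ K ⊔ J) (hodd : Odd (orderOf x)) :
    x ∈ K := by
  set H : Subgroup G := K ⊔ J with hH
  have hHK : H ≤ Subgroup.normalizer (K : Set G) := sup_le Subgroup.le_normalizer hJK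
  have hn : (K.subgroupOf H).Normal :=
    (Subgroup.normal_subgroupOf_iff_le_normalizer le_sup_left).mpr hHK
  -- the quotient is a 2-group
  have hP : IsPGroup 2 (↥H ⧸ K.subgroupOf H) := by
    let φ : ↥J →* (↥H ⧸ K.subgroupOf H) :=
      (QuotientGroup.mk' (K.subgroupOf H)).comp (Subgroup.inclusion (le_sup_right : J ≤ H))
    refine hJ.of_surjective φ ?_
    rw [← MonoidHom.range_eq_top, MonoidHom.range_comp, Subgroup.inclusion_range]
    have h1 : K.subgroupOf H ⊔ J.subgroupOf H = ⊤ := by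
      rw [← Subgroup.subgroupOf_sup le_sup_left le_sup_right, Subgroup.subgroupOf_self]
    have h2 : Subgroup.map (QuotientGroup.mk' (K.subgroupOf H)) (K.subgroupOf H ⊔ J.subgroupOf H) = ⊤ := by
      rw [h1]
      exact Subgroup.map_top_of_surjective _ (QuotientGroup.mk'_surjective _)
    rw [Subgroup.map_sup, QuotientGroup.map_mk'_self, bot_sup_eq] at h2
    exact h2
  -- image of x is trivial
  obtain ⟨k, hk⟩ := hP (QuotientGroup.mk' (K.subgroupOf H) ⟨x, hx⟩)
  have h3 : (QuotientGroup.mk' (K.subgroupOf H) ⟨x, hx⟩) ^ orderOf x = 1 := by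
    rw [← map_pow]
    have : (⟨x, hx⟩ : ↥H) ^ orderOf x = 1 := by
      apply Subtype.ext
      simp [pow_orderOf_eq_one]
    rw [this, map_one]
  have hcop : Nat.Coprime (2 ^ k) (orderOf x) := by
    apply Nat.Coprime.pow_left
    exact Nat.coprime_two_left.mpr hodd
  have h4 : QuotientGroup.mk' (K.subgroupOf H) ⟨x, hx⟩ = 1 := by
    have := pow_gcd_eq_one.mpr ⟨hk, h3⟩
    rwa [hcop, pow_one] at this
  have h5 : (⟨x, hx⟩ : ↥H) ∈ K.subgroupOf H := by
    rwa [QuotientGroup.mk'_apply, QuotientGroup.eq_one_iff] at h4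
  simpa [Subgroup.mem_subgroupOf] using h5

/-- Let G be a finite group of characteristic 2 type in which every 2-local subgroup is solvable and the centralizer of Ω₁(Z(S)) lies in N_G(S) for every Sylow 2-subgroup S, and let T be a nontrivial 2-subgroup and K a J(T)-component (J the Thompson subgroup generated by the elementary abelian 2-subgroups of largest order). If a subgroup Q is normalized by ⟨K, J(T)⟩ and normalizes J(T), then Q normalizes K. -/
theorem result {G : Type*} [Group G] [Finite G] (hL : Cfsg.IsCharacteristicTwoType G) (hN : ∀ N : Subgroup G, Cfsg.IsTwoLocal N → Group.IsSolvable ↥N)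
    (hZ : ∀ S : Sylow 2 G, Subgroup.centralizer (Cfsg.omegaCenterOf (S : Subgroup G) : Set G) ≤ Subgroup.normalizer ((S : Subgroup G) : Set G)) (T : Subgroup G) (hT : IsPGroup 2 ↥T) (hT1 : T ≠ ⊥) (K : Subgroup G) (hK : Cfsg.IsJComponent T K)
    (Q : Subgroup G) (hQ1 : K ⊔ Cfsg.thompsonSubgroupOf 2 T ≤ Subgroup.normalizer (Q : Set G)) (hQ2 : Q ≤ Subgroup.normalizer (Cfsg.thompsonSubgroupOf 2 T : Set G)) :
    Q ≤ Subgroup.normalizer (K : Set G) := by
  set J : Subgroup G := Cfsg.thompsonSubgroupOf 2 T with hJdef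
  obtain ⟨hKodd, hKJ, -⟩ := hK
  have hJT : J ≤ T := by
    rw [hJdef]; unfold Cfsg.thompsonSubgroupOf; exact Subgroup.map_subtype_le _
  have hJ2 : IsPGroup 2 ↥J := hT.to_le hJT
  have hJK : J ≤ Subgroup.normalizer (K : Set G) := by
    have := Subgroup.normalizer_commutator_ge_right K J
    rwa [hKJ] at this
  -- every q ∈ Q maps H into H
  have key : ∀ q ∈ Q, K ⊔ J ≤ (K ⊔ J).comap (MulAut.conj q).toMonoidHom := by
    intro q hq
    refine sup_le ?_ ?_
    · -- K = ⁅K, J⁆
      have : ⁅K, J⁆ ≤ (K ⊔ J).comap (MulAut.conj q).toMonoidHom := by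
        rw [Subgroup.commutator_le]
        intro k hk j hj
        rw [Subgroup.mem_comap]
        simp only [MulEquiv.coe_toMonoidHom, MulAut.conj_apply]
        -- q ⁅k,j⁆ q⁻¹ = k (q' j q'⁻¹) k⁻¹ * (q j⁻¹ q⁻¹), q' = k⁻¹ q k
        have hq' : k⁻¹ * q * k ∈ Q := by
          have hkn : k⁻¹ ∈ Subgroup.normalizer (Q : Set G) :=
            Subgroup.inv_mem _ (hQ1 (Subgroup.mem_sup_left hk))
          have := (Subgroup.mem_normalizer_iff.mp hkn q).mp hq
          simpa using this
        have h1 : (k⁻¹ * q * k) * j * (k⁻¹ * q * k)⁻¹ ∈ J :=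
          (Subgroup.mem_normalizer_iff.mp (hQ2 hq') j).mp hj
        have h2 : q * j⁻¹ * q⁻¹ ∈ J :=
          (Subgroup.mem_normalizer_iff.mp (hQ2 hq) j⁻¹).mp (J.inv_mem hj)
        have h3 : q * (k * j * k⁻¹ * j⁻¹) * q⁻¹ = k * ((k⁻¹ * q * k) * j * (k⁻¹ * q * k)⁻¹) * k⁻¹ * (q * j⁻¹ * q⁻¹) := by
          group
        rw [commutatorElement_def]
        rw [h3]
        refine Subgroup.mul_mem _ (Subgroup.mul_mem _ (Subgroup.mul_mem _ ?_ ?_) ?_) ?_
        · exact Subgroup.mem_sup_left hk
        · exact Subgroup.mem_sup_right h1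
        · exact Subgroup.mem_sup_left (K.inv_mem hk)
        · exact Subgroup.mem_sup_right h2
      rwa [hKJ] at this
    · intro j hj
      rw [Subgroup.mem_comap]
      simp only [MulEquiv.coe_toMonoidHom, MulAut.conj_apply]
      exact Subgroup.mem_sup_right ((Subgroup.mem_normalizer_iff.mp (hQ2 hq) j).mp hj)
  -- every q ∈ Q maps K into K
  have key2 : ∀ q ∈ Q, K ≤ K.comap (MulAut.conj q).toMonoidHom := by
    intro q hq
    conv_lhs => rw [← hKodd]
    rw [Subgroup.closure_le]
    rintro g ⟨hgK, hgodd⟩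
    rw [SetLike.mem_coe, Subgroup.mem_comap]
    apply odd_mem_of_sup K J hJ2 hJK
    · exact key q hq (Subgroup.mem_sup_left hgK)
    · have : orderOf ((MulAut.conj q) g) = orderOf g := MulEquiv.orderOf_eq _ _
      rw [MulEquiv.coe_toMonoidHom, this]
      exact hgodd
  intro q hq
  rw [Subgroup.mem_normalizer_iff]
  intro x
  constructor
  · intro hx
    exact key2 q hq hx
  · intro hx
    have := key2 q⁻¹ (Q.inv_mem hq) hx
    rw [Subgroup.mem_comap] at this
    simpa [mul_assoc] using this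

end Cfsg.Agent.S2941
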