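import Cfsg.Statements.S2947
import Mathlib
import Cfsg.Agent.Lib.Helper12.StronglyEmbedded
import Cfsg.Agent.Lib.Helper16.PCore
-- import your own Cfsg.Agent.* helpers here

set_option autoImplicit false
open Cfsg

namespace Cfsg.Agent.S2947

open Cfsg.Agent.Lib.Helper12

theorem straddling_iff {G : Type*} [Group G] [Finite G] (M : Subgroup G) :
    Cfsg.straddlingTwoSubgroups M = ∅ ↔ NormalizersIn 2 M := by
  have : Fact (Nat.Prime 2) := ⟨Nat.prime_two⟩
  constructor
  · intro h A hAM hA hA1
    by_contra hN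
    have : A ∈ Cfsg.straddlingTwoSubgroups M :=
      ⟨hA, hA1, hAM, Subgroup.normalizer (A : Set G), ⟨A, hA, hA1, rfl⟩, Subgroup.le_normalizer, hN⟩
    rw [h] at this
    exact this
  · intro hM
    rw [Set.eq_empty_iff_forall_notMem]
    rintro T ⟨hT2, hT1, hTM, L, ⟨T₁, hT₁2, hT₁1, rfl⟩, hTL, hLM⟩
    apply hLM
    have h2 : IsPGroup 2 ↥(T ⊔ T₁) := IsPGroup.to_sup_of_normal_right' hT2 hT₁2 hTL
    obtain ⟨x, hx1⟩ := (Subgroup.ne_bot_iff_exists_ne_one).mp hT1
    have hx1' : (x : G) ≠ 1 := by
      intro h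
      exact hx1 (Subtype.ext h)
    have hle : T ⊔ T₁ ≤ M :=
      le_of_normalizersIn hM (T ⊔ T₁) h2 ((le_sup_left : T ≤ T ⊔ T₁) x.2) (hTM x.2) hx1'
    exact hM T₁ (le_sup_right.trans hle) hT₁2 hT₁1

theorem stronglyEmbedded_iff {G : Type*} [Group G] [Finite G] (M : Subgroup G) (htop : M ≠ ⊤)
    (heven : Even (Nat.card M)) : Cfsg.IsStronglyEmbedded M ↔ NormalizersIn 2 M := by
  have : Fact (Nat.Prime 2) := ⟨Nat.prime_two⟩
  constructor
  · rintro ⟨-, -, h⟩
    apply normalizersIn_of_classical
    intro g hg hdvd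
    have := h g hg
    rw [← Nat.not_even_iff_odd, even_iff_two_dvd] at this
    exact this hdvd
  · intro hM
    refine ⟨htop, heven, fun g hg => ?_⟩
    have := not_dvd_card_inf_conj_of_normalizersIn hM g hg
    rw [← Nat.not_even_iff_odd, even_iff_two_dvd]
    exact this

/-- Let G be a finite group of characteristic 2 type in which every 2-local subgroup is solvable and the centralizer of Ω₁(Z(S)) lies in N_G(S) for every Sylow 2-subgroup S; suppose O₂(G) = 1, fix a Sylow 2-subgroup S and a 2-local subgroup M containing N_G(J(S)) (J the Thompson subgroup generated by the elementary abelian 2-subgroups of largest order). Then M is strongly embedded in G (a proper subgroup of even order whose intersection with each conjugate by an element outside M has odd order) if and only if no nontrivial 2-subgroup of M lies in a 2-local subgroup of G not contained in M. -/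
theorem result {G : Type*} [Group G] [Finite G] (hL : Cfsg.IsCharacteristicTwoType G) (hN : ∀ N : Subgroup G, Cfsg.IsTwoLocal N → Group.IsSolvable ↥N)
    (hZ : ∀ S : Sylow 2 G, Subgroup.centralizer (Cfsg.omegaCenterOf (S : Subgroup G) : Set G) ≤ Subgroup.normalizer ((S : Subgroup G) : Set G)) (hO : Cfsg.pCore 2 G = ⊥) (S : Sylow 2 G) (M : Subgroup G) (hM : Cfsg.IsTwoLocal M)
    (hMJ : Subgroup.normalizer (Cfsg.thompsonSubgroupOf 2 (S : Subgroup G) : Set G) ≤ M) :
    Cfsg.IsStronglyEmbedded M ↔ Cfsg.straddlingTwoSubgroups M = ∅ := by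
  have : Fact (Nat.Prime 2) := ⟨Nat.prime_two⟩
  obtain ⟨T, hT2, hT1, rfl⟩ := hM
  have htop : Subgroup.normalizer (T : Set G) ≠ ⊤ := by
    intro h
    rw [Subgroup.normalizer_eq_top_iff] at h
    have hle : T ≤ Cfsg.pCore 2 G := Cfsg.Agent.Lib.Helper16.le_pCore h hT2
    rw [hO] at hle
    exact hT1 (le_bot_iff.mp hle)
  have heven : Even (Nat.card ↥(Subgroup.normalizer (T : Set G))) := by
    rw [even_iff_two_dvd]
    obtain ⟨n, hn⟩ := IsPGroup.iff_card.mp hT2
    have hn0 : n ≠ 0 := by
      rintro rfl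
      rw [pow_zero] at hn
      exact hT1 (Subgroup.card_eq_one.mp hn)
    have h2 : 2 ∣ Nat.card T := by rw [hn]; exact dvd_pow_self 2 hn0
    exact h2.trans (Subgroup.card_dvd_of_le Subgroup.le_normalizer)
  rw [stronglyEmbedded_iff _ htop heven, straddling_iff]

end Cfsg.Agent.S2947
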