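import Cfsg.Statements.S2955
import Cfsg.Agent.Lib.Helper23.SylowControl

set_option autoImplicit false
open Cfsg

namespace Cfsg.Agent.S2955

open Cfsg.Agent.Lib.Helper23

/-- Let p be a prime dividing the order of the finite group G and 𝓕 a conjugation-closed family of subgroups that controls Sylow p-intersections in G. Suppose the Sylow p-subgroups of G are chain-connected: any two of them are joined by a chain of Sylow p-subgroups, consecutive ones distinct with nontrivial intersection, all containing the intersection of the two ends (equivalently, the graph on the Sylow p-subgroups whose edges are the distinct pairs meeting nontrivially is connected). Then for every Sylow p-subgroup S, G is generated by N_G(S) together with the members of 𝓕 that meet S in a Sylow p-subgroup of themselves. -/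
theorem result {G : Type*} [Group G] [Finite G] (p : ℕ) [Fact p.Prime] (hdiv : p ∣ Nat.card G)
    (𝓕 : Set (Subgroup G)) (h𝓕 : Cfsg.IsNormalSet 𝓕) (hc : Cfsg.ControlsSylowIntersections p 𝓕)
    (hconn : Cfsg.IsSylowChainConnected p G) (S : Sylow p G) :
    (⨆ X ∈ Cfsg.sylowMembers p 𝓕 (S : Subgroup G), X) ⊔ Subgroup.normalizer ((S : Subgroup G) : Set G) = ⊤ := by
  set M : Subgroup G :=
    (⨆ X ∈ Cfsg.sylowMembers p 𝓕 (S : Subgroup G), X) ⊔ Subgroup.normalizer ((S : Subgroup G) : Set G)
    with hM
  have hmemM : ∀ X ∈ Cfsg.sylowMembers p 𝓕 (S : Subgroup G), X ≤ M := by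
    intro X hX
    exact le_trans (le_iSup₂ (f := fun (X : Subgroup G)
      (_ : X ∈ Cfsg.sylowMembers p 𝓕 (S : Subgroup G)) => X) X hX) le_sup_left
  have hNM : Subgroup.normalizer ((S : Subgroup G) : Set G) ≤ M := le_sup_right
  -- Good T : T is conjugate to S by an element of M
  let Good : Sylow p G → Prop := fun T =>
    ∃ m ∈ M, (T : Subgroup G).map (MulAut.conj m).toMonoidHom = (S : Subgroup G)
  -- one control step
  have step1 : ∀ T₁ T₂ : Sylow p G, Good T₁ → T₁ ≠ T₂ → (T₁ : Subgroup G) ⊓ (T₂ : Subgroup G) ≠ ⊥ →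
      Good T₂ := by
    intro T₁ T₂ hg hne hint
    obtain ⟨n, c, X, x, hc0, hcn, hstep⟩ := hc T₁ T₂ hne hint
    have hall : ∀ i : Fin (n + 1), Good (c i) := by
      intro i
      induction i using Fin.induction with
      | zero => rw [hc0]; exact hg
      | succ i ih =>
        obtain ⟨m, hmM, hm⟩ := ih
        obtain ⟨hX1, -, hxX, hconj, -⟩ := hstep i
        -- Y = m X m⁻¹ is a member of 𝓕(S)
        have hX1' := (mem_sylowMembers_iff 𝓕 _ (c i.castSucc).isPGroup' (X i)).mp hX1
        have hY𝓕 : (X i).map (MulAut.conj m).toMonoidHom ∈ 𝓕 := by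
          have := h𝓕 (X i) hX1'.1 m⁻¹
          unfold Cfsg.subgroupConjRight at this
          rwa [inv_inv] at this
        have hYmem : (X i).map (MulAut.conj m).toMonoidHom ∈ Cfsg.sylowMembers p 𝓕 (S : Subgroup G) := by
          rw [mem_sylowMembers_iff 𝓕 _ S.isPGroup']
          refine ⟨hY𝓕, ?_⟩
          rw [← hm, relIndex_conj]
          exact hX1'.2
        have hYM := hmemM _ hYmem
        have hxM' : m * x i * m⁻¹ ∈ M := hYM ⟨x i, hxX, by simp⟩
        have hxM : x i ∈ M := by
          have : x i = m⁻¹ * (m * x i * m⁻¹) * m := by group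
          rw [this]
          exact M.mul_mem (M.mul_mem (M.inv_mem hmM) hxM') hmM
        refine ⟨m * (x i)⁻¹, M.mul_mem hmM (M.inv_mem hxM), ?_⟩
        rw [← map_conj_mul, ← hm]
        congr 1
    rw [← hcn]
    exact hall (Fin.last n)
  -- every Sylow is good
  have hgoodS : Good S := ⟨1, M.one_mem, map_conj_one _⟩
  have hallgood : ∀ T : Sylow p G, Good T := by
    intro T
    obtain ⟨n, c, hc0, hcn, -, hstep⟩ := hconn S T
    have hall : ∀ i : Fin (n + 1), Good (c i) := by
      intro i
      induction i using Fin.induction with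
      | zero => rw [hc0]; exact hgoodS
      | succ i ih =>
        exact step1 _ _ ih (hstep i).1 (hstep i).2
    rw [← hcn]
    exact hall (Fin.last n)
  -- conclude
  rw [eq_top_iff]
  intro g _
  obtain ⟨m, hmM, hm⟩ := hallgood (g • S)
  have h1 : ((g • S : Sylow p G) : Subgroup G) = (S : Subgroup G).map (MulAut.conj g).toMonoidHom := by
    rw [Sylow.coe_subgroup_smul]; rfl
  rw [h1, map_conj_mul] at hm
  have h2 : m * g ∈ M := hNM (mem_normalizer_of_map_conj_eq _ _ hm)
  have : g = m⁻¹ * (m * g) := by group
  rw [this]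
  exact M.mul_mem (M.inv_mem hmM) h2

end Cfsg.Agent.S2955
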