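import Cfsg.Statements.S2957
import Cfsg.Agent.Lib.Helper16.FunctorRegular

set_option autoImplicit false
open Cfsg
open Cfsg.Agent.Lib.Helper16
open scoped commutatorElement Pointwise

namespace Cfsg.Agent.S2957

/-- Let p be a prime dividing the order of the finite group G, f an equivariant assignment of a set of subgroups f(P) of P to every p-subgroup P, each normalized by N_G(P), and S a Sylow p-subgroup. If G = G₁G₂ for subgroups G₁, G₂ both containing S and both regular for f (in each Gᵢ, the family of normalizers in Gᵢ of the members of f(P), P a Sylow p-subgroup of Gᵢ, controls Sylow p-intersections), then G itself is regular for f. -/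
theorem result {G : Type*} [Group G] [Finite G] (p : ℕ) [Fact p.Prime] (hdiv : p ∣ Nat.card G)
    (f : Subgroup G → Set (Subgroup G)) (hf : Cfsg.IsNormalizerFunctor p f) (S : Sylow p G)
    (G₁ G₂ : Subgroup G) (h₁ : (S : Subgroup G) ≤ G₁) (h₂ : (S : Subgroup G) ≤ G₂)
    (hprod : ∀ g : G, ∃ g₁ ∈ G₁, ∃ g₂ ∈ G₂, g = g₁ * g₂)
    (hr₁ : Cfsg.IsFunctorRegular p f G₁) (hr₂ : Cfsg.IsFunctorRegular p f G₂) :
    Cfsg.IsFunctorRegular p f ⊤ := by
  apply isFunctorRegular_top_of_flink f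
  intro A B hAB hinf
  have hconjinv : ∀ X ∈ Cfsg.functorFamily p f ⊤, ∀ a : G,
      X.map (MulAut.conj a).toMonoidHom ∈ Cfsg.functorFamily p f ⊤ :=
    fun X hX a => functorFamily_top_conj f hf X hX a
  have hsmul_le : ∀ (M : Subgroup G), (S : Subgroup G) ≤ M → ∀ u ∈ M,
      ((u • S : Sylow p G) : Subgroup G) ≤ M := by
    intro M hM u hu x hx
    rw [Cfsg.Agent.Lib.Helper24.mem_smul_sylow_iff] at hx
    have e : x = u * (u⁻¹ * x * u) * u⁻¹ := by group
    rw [e]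
    exact M.mul_mem (M.mul_mem hu (hM hx)) (M.inv_mem hu)
  -- links from `S` inside a regular subgroup
  have hlinkM : ∀ (M : Subgroup G), (S : Subgroup G) ≤ M → Cfsg.IsFunctorRegular p f M →
      ∀ u ∈ M, ∀ D : Subgroup G, D ≠ ⊥ → D ≤ (S : Subgroup G) →
      D ≤ ((u • S : Sylow p G) : Subgroup G) →
      FLink (Cfsg.functorFamily p f ⊤) D S (u • S) := by
    intro M hM hreg u hu D hD hDS hDu
    by_cases hSu : S = u • S
    · rw [← hSu]; exact FLink.refl S
    · have hle : D ≤ (S : Subgroup G) ⊓ ((u • S : Sylow p G) : Subgroup G) := le_inf hDS hDu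
      have hne : (S : Subgroup G) ⊓ ((u • S : Sylow p G) : Subgroup G) ≠ ⊥ := by
        intro h0
        rw [h0, le_bot_iff] at hle
        exact hD hle
      have h := flink_of_isFunctorRegular f hf M S hM hreg S (u • S) hM (hsmul_le M hM u hu)
        hSu hne
      exact h.mono (fun X hX => ⟨X, hX, le_rfl⟩) hle
  -- the core: from `S` to `g • S`
  have core : ∀ g : G, (S : Subgroup G) ⊓ ((g • S : Sylow p G) : Subgroup G) ≠ ⊥ →
      FLink (Cfsg.functorFamily p f ⊤)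
        ((S : Subgroup G) ⊓ ((g • S : Sylow p G) : Subgroup G)) S (g • S) := by
    intro g hD0
    obtain ⟨g₁, hg₁, g₂, hg₂, hg⟩ := hprod g
    set D₀ := (S : Subgroup G) ⊓ ((g • S : Sylow p G) : Subgroup G) with hD₀
    have hd1 : ∀ d ∈ D₀, d ∈ (S : Subgroup G) := fun d hd => (Subgroup.mem_inf.mp hd).1
    have hd2 : ∀ d ∈ D₀, g⁻¹ * d * g ∈ (S : Subgroup G) := fun d hd =>
      (Cfsg.Agent.Lib.Helper24.mem_smul_sylow_iff S g d).mp (Subgroup.mem_inf.mp hd).2
    set E := D₀.map (MulAut.conj g₁⁻¹).toMonoidHom with hE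
    have hEI : E ≤ G₁ ⊓ G₂ := by
      rintro _ ⟨d, hd, rfl⟩
      simp only [MulEquiv.coe_toMonoidHom, MulAut.conj_apply, inv_inv]
      refine Subgroup.mem_inf.mpr ⟨?_, ?_⟩
      · exact G₁.mul_mem (G₁.mul_mem (G₁.inv_mem hg₁) (h₁ (hd1 d hd))) hg₁
      · have e : g₁⁻¹ * d * g₁ = g₂ * (g⁻¹ * d * g) * g₂⁻¹ := by rw [hg]; group
        rw [e]
        exact G₂.mul_mem (G₂.mul_mem hg₂ (h₂ (hd2 d hd))) (G₂.inv_mem hg₂)
    have hEp : IsPGroup p E := (S.isPGroup'.to_le inf_le_left).map _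
    have hSI : (S : Subgroup G) ≤ G₁ ⊓ G₂ := le_inf h₁ h₂
    obtain ⟨h, hh, hconj⟩ := Cfsg.Agent.Lib.Helper24.exists_conj_le_sylow_of_subgroup (G₁ ⊓ G₂)
      (S.subtype hSI) E hEp hEI
    have hconj' : ∀ y ∈ E, h * y * h⁻¹ ∈ (S : Subgroup G) := by
      intro y hy
      have := hconj y hy
      rwa [Sylow.coe_subtype, Subgroup.map_subgroupOf_eq_of_le hSI] at this
    have huG : g₁ * h⁻¹ ∈ G₁ := G₁.mul_mem hg₁ (G₁.inv_mem (Subgroup.mem_inf.mp hh).1)
    have hvG : h * g₂ ∈ G₂ := G₂.mul_mem (Subgroup.mem_inf.mp hh).2 hg₂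
    have huv : (g₁ * h⁻¹) * (h * g₂) = g := by rw [hg]; group
    obtain ⟨u, hu⟩ : ∃ u, u = g₁ * h⁻¹ := ⟨_, rfl⟩
    obtain ⟨v, hv⟩ : ∃ v, v = h * g₂ := ⟨_, rfl⟩
    rw [← hu] at huG
    rw [← hv] at hvG
    rw [← hu, ← hv] at huv
    have hk : ∀ d ∈ D₀, u⁻¹ * d * u ∈ (S : Subgroup G) := by
      intro d hd
      have e : u⁻¹ * d * u = h * (g₁⁻¹ * d * g₁) * h⁻¹ := by rw [hu]; group
      rw [e]
      apply hconj'
      exact ⟨d, hd, by simp [MulAut.conj_apply]⟩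
    have hk2 : ∀ d ∈ D₀, v⁻¹ * (u⁻¹ * d * u) * v ∈ (S : Subgroup G) := by
      intro d hd
      have e : v⁻¹ * (u⁻¹ * d * u) * v = g⁻¹ * d * g := by rw [← huv]; group
      rw [e]; exact hd2 d hd
    have hl1 : FLink (Cfsg.functorFamily p f ⊤) D₀ S (u • S) := by
      apply hlinkM G₁ h₁ hr₁ u huG D₀ hD0 inf_le_left
      intro d hd
      exact (Cfsg.Agent.Lib.Helper24.mem_smul_sylow_iff S u d).mpr (hk d hd)
    have hl2 : FLink (Cfsg.functorFamily p f ⊤) (D₀.map (MulAut.conj u⁻¹).toMonoidHom) S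
        (v • S) := by
      apply hlinkM G₂ h₂ hr₂ v hvG _ (map_conj_ne_bot D₀ u⁻¹ hD0)
      · rintro _ ⟨d, hd, rfl⟩
        simp only [MulEquiv.coe_toMonoidHom, MulAut.conj_apply, inv_inv]
        exact hk d hd
      · rintro _ ⟨d, hd, rfl⟩
        simp only [MulEquiv.coe_toMonoidHom, MulAut.conj_apply, inv_inv]
        exact (Cfsg.Agent.Lib.Helper24.mem_smul_sylow_iff S v _).mpr (hk2 d hd)
    have hl3 := hl2.conj hconjinv u
    have e1 : (D₀.map (MulAut.conj u⁻¹).toMonoidHom).map (MulAut.conj u).toMonoidHom = D₀ := by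
      rw [map_conj_map_conj, mul_inv_cancel, map_conj_one]
    have e2 : u • v • S = g • S := by rw [← mul_smul, huv]
    rw [e1, e2] at hl3
    exact hl1.trans hl3
  obtain ⟨a, rfl⟩ := MulAction.exists_smul_eq G S A
  obtain ⟨b, rfl⟩ := MulAction.exists_smul_eq G S B
  have hb : b • S = a • (a⁻¹ * b) • S := by
    rw [← mul_smul]; congr 1; group
  have hle : ((a • S : Sylow p G) : Subgroup G) ⊓ ((b • S : Sylow p G) : Subgroup G) ≤
      ((S : Subgroup G) ⊓ (((a⁻¹ * b) • S : Sylow p G) : Subgroup G)).map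
        (MulAut.conj a).toMonoidHom := by
    intro d hd
    rw [mem_map_conj_iff]
    obtain ⟨hd1, hd2⟩ := Subgroup.mem_inf.mp hd
    rw [Cfsg.Agent.Lib.Helper24.mem_smul_sylow_iff] at hd1 hd2
    refine Subgroup.mem_inf.mpr ⟨hd1, ?_⟩
    rw [Cfsg.Agent.Lib.Helper24.mem_smul_sylow_iff]
    have e : (a⁻¹ * b)⁻¹ * (a⁻¹ * d * a) * (a⁻¹ * b) = b⁻¹ * d * b := by group
    rw [e]; exact hd2
  have hD0 : (S : Subgroup G) ⊓ (((a⁻¹ * b) • S : Sylow p G) : Subgroup G) ≠ ⊥ := by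
    intro h0
    rw [h0, Subgroup.map_bot, le_bot_iff] at hle
    exact hinf hle
  have hl := (core (a⁻¹ * b) hD0).conj hconjinv a
  rw [← hb] at hl
  exact hl.mono (fun X hX => ⟨X, hX, le_rfl⟩) hle

end Cfsg.Agent.S2957
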