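import Cfsg.Statements.S2958

set_option autoImplicit false
open Cfsg

namespace Cfsg.Agent.S2958

theorem map_conj_map_conj {G : Type*} [Group G] (X : Subgroup G) (a g : G) :
    (X.map (MulAut.conj g).toMonoidHom).map (MulAut.conj a).toMonoidHom =
      X.map (MulAut.conj (a * g)).toMonoidHom := by
  rw [Subgroup.map_map]
  congr 1
  ext x
  simp [mul_assoc]

/-- Let X, A, B be subgroups of a group G such that G is generated by the conjugates of X and every conjugate of X is contained in A or in B. Then A = G or B = G. -/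
theorem result {G : Type*} [Group G] (X A B : Subgroup G) (hgen : (⨆ g : G, X.map (MulAut.conj g).toMonoidHom) = ⊤) (hcover : ∀ g : G, X.map (MulAut.conj g).toMonoidHom ≤ A ∨ X.map (MulAut.conj g).toMonoidHom ≤ B) : A = ⊤ ∨ B = ⊤ := by
  by_cases hall : ∀ g : G, X.map (MulAut.conj g).toMonoidHom ≤ A
  · left
    rw [eq_top_iff, ← hgen]
    exact iSup_le hall
  · right
    push_neg at hall
    obtain ⟨g0, hg0⟩ := hall
    -- the subgroup generated by conjugates not inside A
    let B0 : Subgroup G := ⨆ h : {h : G // ¬ X.map (MulAut.conj h).toMonoidHom ≤ A},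
      X.map (MulAut.conj h.1).toMonoidHom
    have hB0B : B0 ≤ B := by
      apply iSup_le
      rintro ⟨h, hh⟩
      rcases hcover h with h1 | h1
      · exact absurd h1 hh
      · exact h1
    have hle : ∀ h : G, ¬ X.map (MulAut.conj h).toMonoidHom ≤ A →
        X.map (MulAut.conj h).toMonoidHom ≤ B0 := fun h hh =>
      le_iSup (fun h : {h : G // ¬ X.map (MulAut.conj h).toMonoidHom ≤ A} =>
        X.map (MulAut.conj h.1).toMonoidHom) ⟨h, hh⟩
    -- every element of every conjugate maps B0 into B0
    have hP : ∀ g : G, ∀ a ∈ X.map (MulAut.conj g).toMonoidHom,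
        B0.map (MulAut.conj a).toMonoidHom ≤ B0 := by
      intro g a ha
      by_cases hgA : X.map (MulAut.conj g).toMonoidHom ≤ A
      · have haA : a ∈ A := hgA ha
        rw [Subgroup.map_iSup]
        apply iSup_le
        rintro ⟨h, hh⟩
        rw [map_conj_map_conj]
        apply hle
        intro hcontra
        apply hh
        have : X.map (MulAut.conj h).toMonoidHom =
            (X.map (MulAut.conj (a * h)).toMonoidHom).map (MulAut.conj a⁻¹).toMonoidHom := by
          rw [map_conj_map_conj, ← mul_assoc, inv_mul_cancel, one_mul]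
        rw [this, Subgroup.map_le_iff_le_comap]
        intro y hy
        have hyA : y ∈ A := hcontra hy
        show a⁻¹ * y * a⁻¹⁻¹ ∈ A
        exact A.mul_mem (A.mul_mem (A.inv_mem haA) hyA) (A.inv_mem (A.inv_mem haA))
      · have haB0 : a ∈ B0 := hle g hgA ha
        rw [Subgroup.map_le_iff_le_comap]
        intro y hy
        show a * y * a⁻¹ ∈ B0
        exact B0.mul_mem (B0.mul_mem haB0 hy) (B0.inv_mem haB0)
    have hnorm : Subgroup.normalizer (B0 : Set G) = ⊤ := by
      rw [eq_top_iff, ← hgen]
      apply iSup_le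
      intro g a ha
      rw [Subgroup.mem_normalizer_iff]
      intro y
      constructor
      · intro hy
        exact hP g a ha (Subgroup.mem_map_of_mem _ hy)
      · intro hy
        have ha' : a⁻¹ ∈ X.map (MulAut.conj g).toMonoidHom := Subgroup.inv_mem _ ha
        have := hP g a⁻¹ ha' (Subgroup.mem_map_of_mem _ hy)
        simpa [mul_assoc] using this
    have hN : B0.Normal := Subgroup.normalizer_eq_top_iff.mp hnorm
    rw [eq_top_iff]
    refine le_trans ?_ hB0B
    rw [← hgen]
    apply iSup_le
    intro k y hy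
    obtain ⟨x, hx, rfl⟩ := Subgroup.mem_map.mp hy
    have hx0 : g0 * x * g0⁻¹ ∈ B0 := hle g0 hg0 (Subgroup.mem_map.mpr ⟨x, hx, rfl⟩)
    have := hN.conj_mem _ hx0 (k * g0⁻¹)
    simpa [mul_assoc] using this

end Cfsg.Agent.S2958
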