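import Cfsg.Statements.S2959
import Cfsg.Agent.Lib.Helper16.PCore

set_option autoImplicit false
open Cfsg
open scoped commutatorElement

namespace Cfsg.Agent.S2959

open Cfsg.Agent.Lib.Helper16

/-- Let G be a finite group of characteristic p, that is C_G(O_p(G)) ≤ O_p(G), with p prime, and let L be a subgroup of G normalized by O_p(G). Then L has characteristic p: C_L(O_p(L)) ≤ O_p(L). -/
theorem result {G : Type*} [Group G] [Finite G] {p : ℕ} [Fact p.Prime] (hG : Subgroup.centralizer (Cfsg.pCore p G : Set G) ≤ Cfsg.pCore p G) (L : Subgroup G) (hL : Cfsg.pCore p G ≤ Subgroup.normalizer (L : Set G)) : Subgroup.centralizer (Cfsg.pCore p ↥L : Set ↥L) ≤ Cfsg.pCore p ↥L := by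
  have hQn : (Cfsg.pCore p G).Normal := pCore_normal p G
  have hQp : IsPGroup p (Cfsg.pCore p G) := pCore_isPGroup p G
  have hRn : (Cfsg.pCore p ↥L).Normal := pCore_normal p ↥L
  have hQL : (Cfsg.pCore p G).subgroupOf L ≤ Cfsg.pCore p ↥L := by
    apply le_pCore
    · exact hQn.subgroupOf L
    · exact hQp.comap_subtype
  have hCn : (Subgroup.centralizer (Cfsg.pCore p ↥L : Set ↥L)).Normal := Subgroup.normal_centralizer
  have hCp : IsPGroup p (Subgroup.centralizer (Cfsg.pCore p ↥L : Set ↥L)) := by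
    apply isPGroup_of_coprime_elements_trivial
    intro c hc hcop
    have hcop' : (orderOf (c : G)).Coprime p := by rwa [Subgroup.orderOf_coe]
    have hcQ : (c : G) ∈ Subgroup.centralizer (Cfsg.pCore p G : Set G) := by
      rw [Subgroup.mem_centralizer_iff]
      intro q hq
      have hq' : q ∈ Cfsg.pCore p G := hq
      -- the commutator lies in Q ⊓ L
      have hzQ : ⁅q, (c : G)⁆ ∈ Cfsg.pCore p G := by
        rw [commutatorElement_def]
        have h1 : (c : G) * q⁻¹ * (c : G)⁻¹ ∈ Cfsg.pCore p G :=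
          hQn.conj_mem _ ((Cfsg.pCore p G).inv_mem hq') _
        have : q * (c : G) * q⁻¹ * (c : G)⁻¹ = q * ((c : G) * q⁻¹ * (c : G)⁻¹) := by group
        rw [this]
        exact (Cfsg.pCore p G).mul_mem hq' h1
      have hzL : ⁅q, (c : G)⁆ ∈ L := by
        rw [commutatorElement_def]
        have h1 : q * (c : G) * q⁻¹ ∈ L :=
          (Subgroup.mem_normalizer_iff.mp (hL hq') (c : G)).mp c.2
        exact L.mul_mem h1 (L.inv_mem c.2)
      have hzR : (⟨⁅q, (c : G)⁆, hzL⟩ : ↥L) ∈ Cfsg.pCore p ↥L := by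
        apply hQL
        rw [Subgroup.mem_subgroupOf]
        exact hzQ
      have hcomm := (Subgroup.mem_centralizer_iff.mp hc) _ hzR
      have hcomm' : ⁅q, (c : G)⁆ * (c : G) = (c : G) * ⁅q, (c : G)⁆ := by
        have := congrArg Subtype.val hcomm
        simpa using this
      obtain ⟨k, hk⟩ := exists_pow_eq_one_of_mem hQp hzQ
      exact commute_of_coprime_commutator q (c : G) hcomm' k hk hcop'
    have hcQ' : (c : G) ∈ Cfsg.pCore p G := hG hcQ
    obtain ⟨k, hk⟩ := exists_pow_eq_one_of_mem hQp hcQ'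
    have := eq_one_of_pow_prime_pow_of_coprime (c : G) k hk hcop'
    exact Subtype.ext this
  exact le_pCore hCn hCp

end Cfsg.Agent.S2959
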