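import Cfsg.Statements.S2960
import Cfsg.Agent.Lib.Helper16.PCore

set_option autoImplicit false
open Cfsg
open scoped commutatorElement

namespace Cfsg.Agent.S2960

open Cfsg.Agent.Lib.Helper16

/-- conjugating by an element of the normalizer of `Q` preserves the centralizer of `Q` -/
theorem conj_mem_centralizer {G : Type*} [Group G] (Q : Subgroup G) {t h : G}
    (ht : t ∈ Subgroup.normalizer (Q : Set G)) (hh : h ∈ Subgroup.centralizer (Q : Set G)) :
    t * h * t⁻¹ ∈ Subgroup.centralizer (Q : Set G) := by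
  rw [Subgroup.mem_centralizer_iff] at hh ⊢
  intro x hx
  have hx' : t⁻¹ * x * t⁻¹⁻¹ ∈ Q :=
    (Subgroup.mem_normalizer_iff.mp ((Subgroup.normalizer (Q : Set G)).inv_mem ht) x).mp hx
  have h1 := hh _ hx'
  calc x * (t * h * t⁻¹) = t * ((t⁻¹ * x * t⁻¹⁻¹) * h) * t⁻¹ := by group
    _ = t * (h * (t⁻¹ * x * t⁻¹⁻¹)) * t⁻¹ := by rw [h1]
    _ = t * h * t⁻¹ * x := by group

theorem normalizer_le_normalizer_centralizer {G : Type*} [Group G] (Q : Subgroup G) :
    Subgroup.normalizer (Q : Set G) ≤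
      Subgroup.normalizer ((Subgroup.centralizer (Q : Set G) : Subgroup G) : Set G) := by
  intro t ht
  rw [Subgroup.mem_normalizer_iff]
  intro h
  constructor
  · intro hh; exact conj_mem_centralizer Q ht hh
  · intro hh
    have := conj_mem_centralizer Q ((Subgroup.normalizer (Q : Set G)).inv_mem ht) hh
    have e : t⁻¹ * (t * h * t⁻¹) * t⁻¹⁻¹ = h := by group
    rwa [e] at this

/-- the core argument: in a group of characteristic `p`, if `Q` is normalized by a Sylow `p`-subgroup `T`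
and `C_T(Q) ≤ Q` then `C_G(Q)` is a `p`-group. -/
theorem centralizer_isPGroup {G : Type*} [Group G] [Finite G] {p : ℕ} [Fact p.Prime] (hG : Subgroup.centralizer (Cfsg.pCore p G : Set G) ≤ Cfsg.pCore p G) (T : Sylow p G) (Q : Subgroup G) (hQn : (T : Subgroup G) ≤ Subgroup.normalizer (Q : Set G)) (hC : (T : Subgroup G) ⊓ Subgroup.centralizer (Q : Set G) ≤ Q) : IsPGroup p (Subgroup.centralizer (Q : Set G)) := by
  have hQn' : (Cfsg.pCore p G).Normal := pCore_normal p G
  have hQp : IsPGroup p (Cfsg.pCore p G) := pCore_isPGroup p G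
  have hPT : Cfsg.pCore p G ≤ (T : Subgroup G) := pCore_le_sylow T
  apply isPGroup_of_coprime_elements_trivial
  intro c hc hcop
  have hcQ : c ∈ Subgroup.centralizer (Cfsg.pCore p G : Set G) := by
    rw [Subgroup.mem_centralizer_iff]
    intro q hq
    have hq' : q ∈ Cfsg.pCore p G := hq
    have hzP : ⁅q, c⁆ ∈ Cfsg.pCore p G := by
      rw [commutatorElement_def]
      have h1 : c * q⁻¹ * c⁻¹ ∈ Cfsg.pCore p G :=
        hQn'.conj_mem _ ((Cfsg.pCore p G).inv_mem hq') _
      have : q * c * q⁻¹ * c⁻¹ = q * (c * q⁻¹ * c⁻¹) := by group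
      rw [this]
      exact (Cfsg.pCore p G).mul_mem hq' h1
    have hzC : ⁅q, c⁆ ∈ Subgroup.centralizer (Q : Set G) := by
      rw [commutatorElement_def]
      have h1 : q * c * q⁻¹ ∈ Subgroup.centralizer (Q : Set G) :=
        conj_mem_centralizer Q (hQn (hPT hq')) hc
      exact (Subgroup.centralizer (Q : Set G)).mul_mem h1 ((Subgroup.centralizer (Q : Set G)).inv_mem hc)
    have hzQ : ⁅q, c⁆ ∈ Q := hC ⟨hPT hzP, hzC⟩
    have hcomm : ⁅q, c⁆ * c = c * ⁅q, c⁆ := (Subgroup.mem_centralizer_iff.mp hc) _ hzQ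
    obtain ⟨k, hk⟩ := exists_pow_eq_one_of_mem hQp hzP
    exact commute_of_coprime_commutator q c hcomm k hk hcop
  have hcQ' : c ∈ Cfsg.pCore p G := hG hcQ
  obtain ⟨k, hk⟩ := exists_pow_eq_one_of_mem hQp hcQ'
  exact eq_one_of_pow_prime_pow_of_coprime c k hk hcop

/-- Let G be a finite group of characteristic p (C_G(O_p(G)) ≤ O_p(G)), p prime, T a Sylow p-subgroup of G and Q a normal subgroup of T with C_T(Q) ≤ Q. Then C_G(Q) ≤ Q. -/
theorem result {G : Type*} [Group G] [Finite G] {p : ℕ} [Fact p.Prime] (hG : Subgroup.centralizer (Cfsg.pCore p G : Set G) ≤ Cfsg.pCore p G) (T : Sylow p G) (Q : Subgroup G) (hQT : Q ≤ (T : Subgroup G)) (hQn : (T : Subgroup G) ≤ Subgroup.normalizer (Q : Set G)) (hC : (T : Subgroup G) ⊓ Subgroup.centralizer (Q : Set G) ≤ Q) : Subgroup.centralizer (Q : Set G) ≤ Q := by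
  have hCp := centralizer_isPGroup hG T Q hQn hC
  have hTC : (T : Subgroup G) ≤ Subgroup.normalizer ((Subgroup.centralizer (Q : Set G) : Subgroup G) : Set G) :=
    hQn.trans (normalizer_le_normalizer_centralizer Q)
  have hsup : IsPGroup p (Subgroup.centralizer (Q : Set G) ⊔ (T : Subgroup G) : Subgroup G) :=
    hCp.to_sup_of_normal_left' T.isPGroup' hTC
  have heq := T.is_maximal' hsup le_sup_right
  have hCT : Subgroup.centralizer (Q : Set G) ≤ (T : Subgroup G) := by
    rw [← heq]; exact le_sup_left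
  intro c hc
  exact hC ⟨hCT hc, hc⟩

end Cfsg.Agent.S2960
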