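import Cfsg.Statements.S2961
import Cfsg.Agent.S2960
import Cfsg.Agent.Lib.Helper16.PCore
import Cfsg.Agent.Lib.Helper1.ThompsonAxB

set_option autoImplicit false
open Cfsg
open scoped commutatorElement

namespace Cfsg.Agent.S2961

/-- The core of `L` under conjugation by `P`: the elements all of whose `P`-conjugates lie in `L`. -/
def coreUnder {G : Type*} [Group G] (P L : Subgroup G) : Subgroup G where
  carrier := {l | ∀ u ∈ P, u⁻¹ * l * u ∈ L}
  one_mem' := by
    intro u _
    simp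
  mul_mem' := by
    intro a b ha hb u hu
    have : u⁻¹ * (a * b) * u = (u⁻¹ * a * u) * (u⁻¹ * b * u) := by group
    rw [this]
    exact L.mul_mem (ha u hu) (hb u hu)
  inv_mem' := by
    intro a ha u hu
    have : u⁻¹ * a⁻¹ * u = (u⁻¹ * a * u)⁻¹ := by group
    rw [this]
    exact L.inv_mem (ha u hu)

theorem mem_coreUnder {G : Type*} [Group G] (P L : Subgroup G) (l : G) :
    l ∈ coreUnder P L ↔ ∀ u ∈ P, u⁻¹ * l * u ∈ L := Iff.rfl

theorem coreUnder_le {G : Type*} [Group G] (P L : Subgroup G) : coreUnder P L ≤ L := by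
  intro l hl
  have := hl 1 P.one_mem
  simpa using this

theorem conj_mem_coreUnder {G : Type*} [Group G] (P L : Subgroup G) [P.Normal] {l m : G}
    (hl : l ∈ coreUnder P L) (hm : m ∈ L) : m * l * m⁻¹ ∈ coreUnder P L := by
  intro u hu
  have hu' : m⁻¹ * u * m ∈ P := by
    have := ‹P.Normal›.conj_mem u hu m⁻¹
    simpa using this
  have h1 := hl _ hu'
  have : u⁻¹ * (m * l * m⁻¹) * u = m * ((m⁻¹ * u * m)⁻¹ * l * (m⁻¹ * u * m)) * m⁻¹ := by group
  rw [this]
  exact L.mul_mem (L.mul_mem hm h1) (L.inv_mem hm)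

/-- Let G be a finite group of characteristic p (C_G(O_p(G)) ≤ O_p(G)), p prime, T a Sylow p-subgroup of G and Q a normal subgroup of T with C_T(Q) ≤ Q. Then every subgroup L of G containing Q has characteristic p: C_L(O_p(L)) ≤ O_p(L). -/
theorem result {G : Type*} [Group G] [Finite G] {p : ℕ} [Fact p.Prime] (hG : Subgroup.centralizer (Cfsg.pCore p G : Set G) ≤ Cfsg.pCore p G) (T : Sylow p G) (Q : Subgroup G) (hQT : Q ≤ (T : Subgroup G)) (hQn : (T : Subgroup G) ≤ Subgroup.normalizer (Q : Set G)) (hC : (T : Subgroup G) ⊓ Subgroup.centralizer (Q : Set G) ≤ Q) (L : Subgroup G) (hQL : Q ≤ L) : Subgroup.centralizer (Cfsg.pCore p ↥L : Set ↥L) ≤ Cfsg.pCore p ↥L := by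
  classical
  have hpp : p.Prime := Fact.out
  -- notation
  obtain ⟨P, hPdef⟩ : ∃ P : Subgroup G, P = Cfsg.pCore p G := ⟨_, rfl⟩
  obtain ⟨R, hRdef⟩ : ∃ R : Subgroup ↥L, R = Cfsg.pCore p ↥L := ⟨_, rfl⟩
  rw [← hRdef]
  rw [← hPdef] at hG
  haveI hPn : P.Normal := hPdef ▸ Cfsg.Agent.Lib.Helper16.pCore_normal p G
  haveI hRn : R.Normal := hRdef ▸ Cfsg.Agent.Lib.Helper16.pCore_normal p ↥L
  have hPp : IsPGroup p P := hPdef ▸ Cfsg.Agent.Lib.Helper16.pCore_isPGroup p G
  have hRp : IsPGroup p R := hRdef ▸ Cfsg.Agent.Lib.Helper16.pCore_isPGroup p ↥L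
  have hPT : P ≤ (T : Subgroup G) := hPdef ▸ Cfsg.Agent.Lib.Helper16.pCore_le_sylow T
  have hCQ : Subgroup.centralizer (Q : Set G) ≤ Q := by
    apply Cfsg.Agent.S2960.result (hPdef ▸ hG) T Q hQT hQn hC
  -- the centralizer D of R in L is normal
  obtain ⟨D, hDdef⟩ : ∃ D : Subgroup ↥L, D = Subgroup.centralizer (R : Set ↥L) := ⟨_, rfl⟩
  rw [← hDdef]
  haveI hDn : D.Normal := hDdef ▸ Subgroup.normal_centralizer
  -- P ∩ L ≤ R
  have hPL : P.subgroupOf L ≤ R := by
    rw [hRdef]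
    apply Cfsg.Agent.Lib.Helper16.le_pCore
    · infer_instance
    · exact hPp.comap_subtype
  -- the core C
  have hQC : Q ≤ coreUnder P L := by
    intro q hq u hu
    have hun : u⁻¹ ∈ Subgroup.normalizer (Q : Set G) := hQn (hPT (P.inv_mem hu))
    have := (Subgroup.mem_normalizer_iff.mp hun q).mp hq
    apply hQL
    simpa using this
  obtain ⟨C, hCdef⟩ : ∃ C : Subgroup ↥L, C = (coreUnder P L).subgroupOf L := ⟨_, rfl⟩
  have hCn : C.Normal := by
    constructor
    intro n hn g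
    rw [hCdef, Subgroup.mem_subgroupOf] at hn ⊢
    have := conj_mem_coreUnder P L hn g.2
    simpa using this
  haveI := hCn
  -- C ⊓ D is a normal p-subgroup
  have hCDp : IsPGroup p ↥(C ⊓ D) := by
    apply Cfsg.Agent.Lib.Helper16.isPGroup_of_coprime_elements_trivial
    intro y hy hcop
    have hyC : (y : G) ∈ coreUnder P L := by
      have h1 : y ∈ C := hy.1
      rw [hCdef, Subgroup.mem_subgroupOf] at h1
      exact h1
    have hyD : y ∈ Subgroup.centralizer (R : Set ↥L) := hDdef ▸ hy.2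
    have hcop' : (orderOf (y : G)).Coprime p := by rwa [Subgroup.orderOf_coe]
    -- y centralizes P
    have hyP : (y : G) ∈ Subgroup.centralizer (P : Set G) := by
      rw [Subgroup.mem_centralizer_iff]
      intro u hu
      have hzL : ⁅u, (y : G)⁆ ∈ L := by
        rw [commutatorElement_def]
        have h1 := hyC u⁻¹ (P.inv_mem hu)
        rw [inv_inv] at h1
        exact L.mul_mem h1 (L.inv_mem y.2)
      have hzP : ⁅u, (y : G)⁆ ∈ P := by
        rw [commutatorElement_def]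
        have h1 : (y : G) * u⁻¹ * (y : G)⁻¹ ∈ P := hPn.conj_mem _ (P.inv_mem hu) _
        have : u * (y : G) * u⁻¹ * (y : G)⁻¹ = u * ((y : G) * u⁻¹ * (y : G)⁻¹) := by group
        rw [this]
        exact P.mul_mem hu h1
      have hzR : (⟨⁅u, (y : G)⁆, hzL⟩ : ↥L) ∈ R := hPL (Subgroup.mem_subgroupOf.mpr hzP)
      have hcomm := (Subgroup.mem_centralizer_iff.mp hyD) _ hzR
      have hcomm' : ⁅u, (y : G)⁆ * (y : G) = (y : G) * ⁅u, (y : G)⁆ := by
        have := congrArg Subtype.val hcomm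
        simpa using this
      obtain ⟨k, hk⟩ := Cfsg.Agent.Lib.Helper16.exists_pow_eq_one_of_mem hPp hzP
      exact Cfsg.Agent.Lib.Helper16.commute_of_coprime_commutator u (y : G) hcomm' k hk hcop'
    have hyP' : (y : G) ∈ P := hG hyP
    obtain ⟨k, hk⟩ := Cfsg.Agent.Lib.Helper16.exists_pow_eq_one_of_mem hPp hyP'
    have := Cfsg.Agent.Lib.Helper16.eq_one_of_pow_prime_pow_of_coprime (y : G) k hk hcop'
    exact Subtype.ext this
  have hCDR : C ⊓ D ≤ R := by
    rw [hRdef]
    apply Cfsg.Agent.Lib.Helper16.le_pCore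
    · infer_instance
    · exact hCDp
  -- now D is a p-group
  have hDp : IsPGroup p D := by
    apply Cfsg.Agent.Lib.Helper16.isPGroup_of_coprime_elements_trivial
    intro x hx hcop
    have hxD : x ∈ Subgroup.centralizer (R : Set ↥L) := hDdef ▸ hx
    have hcop' : (orderOf (x : G)).Coprime p := by rwa [Subgroup.orderOf_coe]
    -- x commutes with Q
    have hxQ : ∀ q ∈ Q, q * (x : G) = (x : G) * q := by
      intro q hq
      have hqL : q ∈ L := hQL hq
      have hqC : (⟨q, hqL⟩ : ↥L) ∈ C := by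
        rw [hCdef, Subgroup.mem_subgroupOf]
        exact hQC hq
      have hz : ⁅(⟨q, hqL⟩ : ↥L), x⁆ ∈ C ⊓ D := by
        rw [commutatorElement_def]
        constructor
        · have h1 : x * (⟨q, hqL⟩ : ↥L)⁻¹ * x⁻¹ ∈ C := hCn.conj_mem _ (C.inv_mem hqC) _
          have : (⟨q, hqL⟩ : ↥L) * x * (⟨q, hqL⟩ : ↥L)⁻¹ * x⁻¹ =
              (⟨q, hqL⟩ : ↥L) * (x * (⟨q, hqL⟩ : ↥L)⁻¹ * x⁻¹) := by group
          rw [this]
          exact C.mul_mem hqC h1
        · have h1 : (⟨q, hqL⟩ : ↥L) * x * (⟨q, hqL⟩ : ↥L)⁻¹ ∈ D := hDn.conj_mem _ hx _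
          exact D.mul_mem h1 (D.inv_mem hx)
      have hzR := hCDR hz
      have hcomm := (Subgroup.mem_centralizer_iff.mp hxD) _ hzR
      obtain ⟨k, hk⟩ := Cfsg.Agent.Lib.Helper16.exists_pow_eq_one_of_mem hRp hzR
      have := Cfsg.Agent.Lib.Helper16.commute_of_coprime_commutator (⟨q, hqL⟩ : ↥L) x hcomm k hk hcop
      have := congrArg Subtype.val this
      simpa using this
    -- Thompson A × B
    have hQp : IsPGroup p Q := T.isPGroup'.to_le hQT
    have hAcop : (Nat.card (Subgroup.zpowers (x : G))).Coprime p := by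
      rw [Nat.card_zpowers]; exact hcop'
    have hAB : Subgroup.zpowers (x : G) ≤ Subgroup.centralizer (Q : Set G) := by
      rw [Subgroup.zpowers_le, Subgroup.mem_centralizer_iff]
      exact hxQ
    have hnormP : Subgroup.normalizer (P : Set G) = ⊤ := Subgroup.normalizer_eq_top_iff.mpr hPn
    have hres := Cfsg.Agent.Lib.Helper1.thompson_AxB p (Subgroup.zpowers (x : G)) Q hQp hAcop hAB
      (Nat.card P) P rfl hPp (by rw [hnormP]; exact le_top) (by rw [hnormP]; exact le_top)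
      (by
        rw [Subgroup.zpowers_le, Subgroup.mem_centralizer_iff]
        intro u hu
        exact hxQ u (hCQ hu.2))
    have hxP : (x : G) ∈ P := hG (hres (Subgroup.mem_zpowers _))
    obtain ⟨k, hk⟩ := Cfsg.Agent.Lib.Helper16.exists_pow_eq_one_of_mem hPp hxP
    have := Cfsg.Agent.Lib.Helper16.eq_one_of_pow_prime_pow_of_coprime (x : G) k hk hcop'
    exact Subtype.ext this
  rw [hRdef]
  exact Cfsg.Agent.Lib.Helper16.le_pCore hDn hDp

end Cfsg.Agent.S2961
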