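import Mathlib
import Cfsg.Statements.S2963

set_option autoImplicit false
open Cfsg

namespace Cfsg.Agent.S2963

/-- The setwise stabiliser of a set, by hand. -/
def setStab {α : Type*} (A : Set α) : Subgroup (Equiv.Perm α) where
  carrier := {σ | ∀ a, a ∈ A ↔ σ a ∈ A}
  one_mem' := by intro a; simp
  mul_mem' := by
    intro σ τ hσ hτ a
    rw [Equiv.Perm.mul_apply]
    exact (hτ a).trans (hσ (τ a))
  inv_mem' := by
    intro σ hσ a
    have := hσ (σ⁻¹ a)
    have h2 : σ (σ⁻¹ a) = a := by simp
    rw [h2] at this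
    exact this.symm

theorem smul_mem_orbit_iff' {Γ α : Type*} [Group Γ] [MulAction Γ α] (g : Γ) (a b : α) :
    g • a ∈ MulAction.orbit Γ b ↔ a ∈ MulAction.orbit Γ b := by
  rw [MulAction.mem_orbit_iff, MulAction.mem_orbit_iff]
  constructor
  · rintro ⟨k, hk⟩
    refine ⟨g⁻¹ * k, ?_⟩
    rw [mul_smul, hk, inv_smul_smul]
  · rintro ⟨k, hk⟩
    refine ⟨g * k, ?_⟩
    rw [mul_smul, hk]

theorem stabilizer_isCoatom {α : Type*} [DecidableEq α] (x y : α) (hxy : y ≠ x) :
    IsCoatom (MulAction.stabilizer (Equiv.Perm α) x) := by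
  constructor
  · intro htop
    have : Equiv.swap x y ∈ MulAction.stabilizer (Equiv.Perm α) x := by rw [htop]; trivial
    rw [MulAction.mem_stabilizer_iff, Equiv.Perm.smul_def, Equiv.swap_apply_left] at this
    exact hxy this
  · intro K hK
    rw [eq_top_iff]
    obtain ⟨g, hgK, hgS⟩ := SetLike.exists_of_lt hK
    rw [MulAction.mem_stabilizer_iff, Equiv.Perm.smul_def] at hgS
    intro σ _
    by_cases hσ : σ x = x
    · exact hK.le (by rw [MulAction.mem_stabilizer_iff, Equiv.Perm.smul_def]; exact hσ)
    · -- τ fixes x and maps g x to σ x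
      have hτ : Equiv.swap (g x) (σ x) ∈ K := by
        apply hK.le
        rw [MulAction.mem_stabilizer_iff, Equiv.Perm.smul_def]
        exact Equiv.swap_apply_of_ne_of_ne (Ne.symm hgS) (Ne.symm hσ)
      have h2 : (Equiv.swap (g x) (σ x) * g)⁻¹ * σ ∈ K := by
        apply hK.le
        rw [MulAction.mem_stabilizer_iff, Equiv.Perm.smul_def, Equiv.Perm.mul_apply,
          Equiv.Perm.inv_eq_iff_eq, Equiv.Perm.mul_apply, Equiv.swap_apply_left]
      have h3 : σ = (Equiv.swap (g x) (σ x) * g) * ((Equiv.swap (g x) (σ x) * g)⁻¹ * σ) := by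
        group
      rw [h3]
      exact K.mul_mem (K.mul_mem hτ hgK) h2

theorem result (n : ℕ) (hn : Odd n) (h : Cfsg.IsPMinimal 2 (Equiv.Perm (Fin n))) : ∃ m : ℕ, n = 2 ^ m + 1 := by
  classical
  have : Fact (Nat.Prime 2) := ⟨Nat.prime_two⟩
  obtain ⟨S⟩ : Nonempty (Sylow 2 (Equiv.Perm (Fin n))) := inferInstance
  obtain ⟨hSn, M, ⟨hMco, hSM⟩, hMuniq⟩ := h S
  -- S fixes a point
  have hfix : (MulAction.fixedPoints (S : Subgroup (Equiv.Perm (Fin n))) (Fin n)).Nonempty := by
    have hmod := S.2.card_modEq_card_fixedPoints (Fin n)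
    by_contra hempty
    rw [Set.not_nonempty_iff_eq_empty] at hempty
    rw [hempty] at hmod
    have h0 : Nat.card (∅ : Set (Fin n)) = 0 := by simp
    rw [h0] at hmod
    simp only [Nat.card_eq_fintype_card, Fintype.card_fin] at hmod
    have : n % 2 = 0 := hmod
    rcases hn with ⟨k, hk⟩
    omega
  obtain ⟨x, hx⟩ := hfix
  have hx' : ∀ σ ∈ (S : Subgroup (Equiv.Perm (Fin n))), σ x = x := by
    intro σ hσ
    have := hx ⟨σ, hσ⟩
    exact this
  -- there is a second point
  have hy : ∃ y : Fin n, y ≠ x := by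
    by_contra hno
    push Not at hno
    apply hSn
    constructor
    intro s hs g
    have hg : g = 1 := by
      ext z
      rw [hno z, hno (g x)]
      simp
    rw [hg]
    simpa using hs
  obtain ⟨y, hyx⟩ := hy
  have hSstab : (S : Subgroup (Equiv.Perm (Fin n))) ≤ MulAction.stabilizer (Equiv.Perm (Fin n)) x := by
    intro σ hσ
    rw [MulAction.mem_stabilizer_iff, Equiv.Perm.smul_def]
    exact hx' σ hσ
  have hM1 : MulAction.stabilizer (Equiv.Perm (Fin n)) x = M :=
    hMuniq _ ⟨stabilizer_isCoatom x y hyx, hSstab⟩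
  -- the orbit of y
  let O : Set (Fin n) := MulAction.orbit (S : Subgroup (Equiv.Perm (Fin n))) y
  obtain ⟨m, hm⟩ := S.2.card_orbit y
  have hxO : x ∉ O := by
    intro hxO
    obtain ⟨s, hs⟩ := hxO
    have h1 : (s : Equiv.Perm (Fin n)) y = x := hs
    have h2 : (s : Equiv.Perm (Fin n)) x = x := hx' s s.2
    exact hyx ((s : Equiv.Perm (Fin n)).injective (h1.trans h2.symm))
  have hyO : y ∈ O := MulAction.mem_orbit_self y
  by_cases hall : ∀ z : Fin n, z ∈ O ∨ z = x
  · refine ⟨m, ?_⟩
    have hcard : Nat.card (Fin n) = Nat.card O + 1 := by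
      have huniv : (Set.univ : Set (Fin n)) = insert x O := by
        ext z
        simp only [Set.mem_univ, Set.mem_insert_iff, true_iff]
        rcases hall z with h1 | h1
        · exact Or.inr h1
        · exact Or.inl h1
      rw [← Nat.card_univ (α := Fin n)]
      rw [Nat.card_coe_set_eq, Nat.card_coe_set_eq, huniv,
        Set.ncard_insert_of_notMem hxO (Set.toFinite O)]
    rw [Nat.card_eq_fintype_card, Fintype.card_fin] at hcard
    rw [hcard]
    have : Nat.card O = 2 ^ m := hm
    rw [this]
  · exfalso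
    push Not at hall
    obtain ⟨z, hzO, hzx⟩ := hall
    let A : Set (Fin n) := insert x O
    have hzA : z ∉ A := by
      intro hz
      rcases hz with hz | hz
      · exact hzx hz
      · exact hzO hz
    have hSA : (S : Subgroup (Equiv.Perm (Fin n))) ≤ setStab A := by
      intro σ hσ a
      constructor
      · intro ha
        rcases ha with ha | ha
        · left
          rw [ha]
          exact hx' σ hσ
        · right
          have : σ a = (⟨σ, hσ⟩ : (S : Subgroup (Equiv.Perm (Fin n)))) • a := rfl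
          rw [this]
          exact (smul_mem_orbit_iff' (⟨σ, hσ⟩ : (S : Subgroup (Equiv.Perm (Fin n)))) a y).mpr ha
      · intro ha
        rcases ha with ha | ha
        · left
          exact σ.injective (ha.trans (hx' σ hσ).symm)
        · right
          have : σ a = (⟨σ, hσ⟩ : (S : Subgroup (Equiv.Perm (Fin n)))) • a := rfl
          rw [this] at ha
          exact (smul_mem_orbit_iff' (⟨σ, hσ⟩ : (S : Subgroup (Equiv.Perm (Fin n)))) a y).mp ha
    have hswapA : Equiv.swap x y ∈ setStab A := by
      intro a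
      by_cases hax : a = x
      · rw [hax, Equiv.swap_apply_left]
        constructor
        · intro _; exact Or.inr hyO
        · intro _; exact Or.inl rfl
      · by_cases hay : a = y
        · rw [hay, Equiv.swap_apply_right]
          constructor
          · intro _; exact Or.inl rfl
          · intro _; exact Or.inr hyO
        · rw [Equiv.swap_apply_of_ne_of_ne hax hay]
    have hAtop : setStab A ≠ ⊤ := by
      intro htop
      have : Equiv.swap y z ∈ setStab A := by rw [htop]; trivial
      have h1 := (this y).mp (Or.inr hyO)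
      rw [Equiv.swap_apply_left] at h1
      exact hzA h1
    obtain ⟨M2, hM2co, hM2⟩ := (eq_top_or_exists_le_coatom (setStab A)).resolve_left hAtop
    have hM2M : M2 = M := hMuniq _ ⟨hM2co, hSA.trans hM2⟩
    have : Equiv.swap x y ∈ MulAction.stabilizer (Equiv.Perm (Fin n)) x := by
      rw [hM1, ← hM2M]
      exact hM2 hswapA
    rw [MulAction.mem_stabilizer_iff, Equiv.Perm.smul_def, Equiv.swap_apply_left] at this
    exact hyx this

end Cfsg.Agent.S2963
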