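import Cfsg.Statements.S2968
import Cfsg.Agent.Lib.Helper23.Isolated

set_option autoImplicit false
open Cfsg

namespace Cfsg.Agent.S2968

open Cfsg.Agent.Lib.Helper23

/-- Let G be a finite group, p a prime, P a Sylow p-subgroup of G and x ∈ P an element of p-power order which is isolated in G (the only conjugate of x commuting with x is x itself). Then x lies in the centre of P, and the subgroup generated by x is both strongly closed and weakly closed in P with respect to G. -/
theorem result {G : Type*} [Group G] [Finite G] {p : ℕ} [Fact p.Prime] (P : Sylow p G) (x : G) (hxP : x ∈ (P : Subgroup G)) (hx : ∃ k : ℕ, orderOf x = p ^ k) (hiso : Cfsg.IsIsolated x) : x ∈ (P : Subgroup G) ⊓ Subgroup.centralizer ((P : Subgroup G) : Set G) ∧ Cfsg.IsStronglyClosed (Subgroup.zpowers x) (P : Subgroup G) ∧ Cfsg.IsWeaklyClosed (Subgroup.zpowers x) (P : Subgroup G) := by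
  have hcen : ∀ r ∈ (P : Subgroup G), r * x = x * r :=
    isolated_central_of_pgroup hiso (P : Subgroup G) P.isPGroup' hxP
  have hzP : Subgroup.zpowers x ≤ (P : Subgroup G) := by
    rw [Subgroup.zpowers_le]; exact hxP
  refine ⟨Subgroup.mem_inf.mpr ⟨hxP, ?_⟩, ⟨hzP, ?_⟩, ⟨hzP, ?_⟩⟩
  · rw [Subgroup.mem_centralizer_iff]
    intro r hr
    exact hcen r hr
  · -- strongly closed
    intro z hz g hgz
    obtain ⟨k, rfl⟩ := Subgroup.mem_zpowers_iff.mp hz
    -- C = centralizer of w = g * x^k * g⁻¹
    set w := g * x ^ k * g⁻¹ with hw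
    have hxC : x ∈ Subgroup.centralizer ({w} : Set G) := by
      rw [Subgroup.mem_centralizer_iff]
      intro y hy
      rw [Set.mem_singleton_iff] at hy
      rw [hy]
      exact hcen w hgz
    have hwy : w = (g * x * g⁻¹) ^ k := by
      rw [hw, conj_zpow]
    have hyC : g * x * g⁻¹ ∈ Subgroup.centralizer ({w} : Set G) := by
      rw [Subgroup.mem_centralizer_iff]
      intro y hy
      rw [Set.mem_singleton_iff] at hy
      rw [hy, hwy]
      exact ((Commute.refl (g * x * g⁻¹)).zpow_left k).eq
    obtain ⟨c, hcC, hc⟩ := isolated_fusion hx hiso _ hxC g hyC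
    have hcw : w * c = c * w := (Subgroup.mem_centralizer_iff.mp hcC) w (Set.mem_singleton w)
    have hw2 : w = c * x ^ k * c⁻¹ := by
      rw [hwy, ← hc, conj_zpow]
    have hfin : w = x ^ k := by
      have h1 : c * w * c⁻¹ = w := by rw [← hcw]; group
      have h2 : c * w * c⁻¹ = c * (x ^ k) * c⁻¹ := by rw [h1]; exact hw2
      have h3 : c * w = c * x ^ k := mul_right_cancel h2
      exact mul_left_cancel h3
    rw [hfin]
    exact Subgroup.zpow_mem_zpowers x k
  · -- weakly closed
    intro g hg
    have h1 : g * x * g⁻¹ ∈ (P : Subgroup G) := by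
      apply hg
      exact ⟨x, Subgroup.mem_zpowers x, by simp [MulAut.conj_apply]⟩
    have h2 : Commute x (g * x * g⁻¹) := (hcen _ h1).symm
    have h3 := hiso g h2
    rw [MonoidHom.map_zpowers]
    simp only [MulEquiv.coe_toMonoidHom, MulAut.conj_apply]
    rw [h3]

end Cfsg.Agent.S2968
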