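import Cfsg.Statements.S2969
import Cfsg.Agent.Lib.Helper23.Isolated

set_option autoImplicit false
open Cfsg

namespace Cfsg.Agent.S2969

open Cfsg.Agent.Lib.Helper23

/-- Let G be a finite group, p a prime and x ∈ G an element of p-power order which is isolated in G. If R is a p-subgroup of G containing x, then N_G(R) ≤ C_G(x); in particular x lies in the centre of R. Moreover, if x lies in a normal subgroup N of a subgroup H of G, then H = N·C_H(x). -/
theorem result {G : Type*} [Group G] [Finite G] {p : ℕ} [Fact p.Prime] (x : G) (hx : ∃ k : ℕ, orderOf x = p ^ k) (hiso : Cfsg.IsIsolated x) : (∀ R : Subgroup G, IsPGroup p ↥R → x ∈ R → Subgroup.normalizer (R : Set G) ≤ Subgroup.centralizer ({x} : Set G)) ∧ (∀ H N : Subgroup G, N ≤ H → H ≤ Subgroup.normalizer (N : Set G) → x ∈ N → N ⊔ (H ⊓ Subgroup.centralizer ({x} : Set G)) = H) := by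
  constructor
  · intro R hR hxR n hn
    have h1 : n * x * n⁻¹ ∈ R := (Subgroup.mem_normalizer_iff.mp hn x).mp hxR
    have h2 := isolated_central_of_pgroup hiso R hR hxR _ h1
    have h3 := hiso n (show Commute x (n * x * n⁻¹) from h2.symm)
    rw [Subgroup.mem_centralizer_iff]
    intro y hy
    rw [Set.mem_singleton_iff] at hy
    rw [hy]
    have := congrArg (· * n) h3
    simpa [mul_assoc] using this.symm
  · intro H N hNH hHN hxN
    apply le_antisymm
    · exact sup_le hNH inf_le_left
    · intro h hh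
      have h1 : h * x * h⁻¹ ∈ N := (Subgroup.mem_normalizer_iff.mp (hHN hh) x).mp hxN
      obtain ⟨n, hnN, hn⟩ := isolated_fusion hx hiso N hxN h h1
      have h2 : n⁻¹ * h ∈ H ⊓ Subgroup.centralizer ({x} : Set G) := by
        refine Subgroup.mem_inf.mpr ⟨H.mul_mem (H.inv_mem (hNH hnN)) hh, ?_⟩
        rw [Subgroup.mem_centralizer_iff]
        intro y hy
        rw [Set.mem_singleton_iff] at hy
        rw [hy]
        -- n x n⁻¹ = h x h⁻¹  ⇒  x (n⁻¹ h) = (n⁻¹ h) x
        have e1 : x = n⁻¹ * (h * x * h⁻¹) * n := by rw [← hn]; group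
        calc x * (n⁻¹ * h) = n⁻¹ * (h * x * h⁻¹) * n * (n⁻¹ * h) := by rw [← e1]
          _ = n⁻¹ * h * x := by group
      have h3 : h = n * (n⁻¹ * h) := by group
      rw [h3]
      exact Subgroup.mul_mem_sup hnN h2

end Cfsg.Agent.S2969
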