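import Cfsg.Statements.S2970
import Cfsg.Agent.Lib.Helper23.Isolated
import Cfsg.Agent.Lib.Helper23.CyclicAut
import Mathlib.GroupTheory.Transfer

set_option autoImplicit false
open Cfsg

namespace Cfsg.Agent.S2970

open Cfsg.Agent.Lib.Helper23

/-- normalizer of a cyclic Sylow subgroup containing a nontrivial isolated element centralizes it -/
theorem normalizer_le_centralizer_of_isolated {G : Type*} [Group G] [Finite G] {p : ℕ} [Fact p.Prime]
    (x : G) (hiso : Cfsg.IsIsolated x) (hx1 : x ≠ 1) (P : Sylow p G) (hxP : x ∈ (P : Subgroup G))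
    (hcyc : IsCyclic ↥(P : Subgroup G)) :
    Subgroup.normalizer ((P : Subgroup G) : Set G) ≤ Subgroup.centralizer ((P : Subgroup G) : Set G) := by
  intro n hn
  have hcen := isolated_central_of_pgroup hiso (P : Subgroup G) P.isPGroup' hxP
  -- n centralizes x
  have hnx : n * x * n⁻¹ = x := by
    have h1 : n * x * n⁻¹ ∈ (P : Subgroup G) := (Subgroup.mem_normalizer_iff.mp hn x).mp hxP
    exact hiso n (show Commute x (n * x * n⁻¹) from (hcen _ h1).symm)
  set n' : Subgroup.normalizer ((P : Subgroup G) : Set G) := ⟨n, hn⟩ with hn'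
  set σ : MulAut ↥(P : Subgroup G) := (P : Subgroup G).normalizerMonoidHom n' with hσ
  have hσapp : ∀ u : ↥(P : Subgroup G), ((σ u : ↥(P : Subgroup G)) : G) = n * (u : G) * n⁻¹ := by
    intro u; rfl
  set x' : ↥(P : Subgroup G) := ⟨x, hxP⟩ with hx'
  have hx'1 : x' ≠ 1 := by
    intro h; apply hx1; have := congrArg Subtype.val h; simpa [hx'] using this
  have hfix : σ x' = x' := by
    apply Subtype.ext; rw [hσapp]; exact hnx
  -- the exponent
  set r := ((P : Subgroup G).normalizerMonoidHom.ker).index with hr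
  have hσr : σ ^ r = 1 := by
    rw [hσ, ← map_pow]
    exact (MonoidHom.mem_ker).mp (Subgroup.pow_index_mem _ n')
  have hcop : r.Coprime p := by
    have h1 : r = (Subgroup.centralizer ((P : Subgroup G) : Set G)).relIndex
        (Subgroup.normalizer ((P : Subgroup G) : Set G)) := by
      rw [hr, Subgroup.normalizerMonoidHom_ker]; rfl
    have h2 : r ∣ (P : Subgroup G).index := by
      rw [h1]
      exact (Subgroup.relIndex_dvd_of_le_left _ (P : Subgroup G).le_centralizer).trans
        (Subgroup.relIndex_dvd_index_of_le Subgroup.le_normalizer)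
    have h3 : ¬ p ∣ (P : Subgroup G).index := P.not_dvd_index
    rw [Nat.coprime_comm, Nat.Prime.coprime_iff_not_dvd Fact.out]
    exact fun h => h3 (h.trans h2)
  have hσ1 : σ = 1 := aut_cyclic_pgroup_eq_one P.isPGroup' σ x' hx'1 hfix r hσr hcop
  rw [Subgroup.mem_centralizer_iff]
  intro u hu
  have h4 := hσapp ⟨u, hu⟩
  rw [hσ1, MulAut.one_apply] at h4
  have h5 : u = n * u * n⁻¹ := h4
  have := congrArg (· * n) h5
  simpa [mul_assoc] using this

/-- Let G be a finite group, p a prime and x ∈ G an element of p-power order which is isolated in G. Then the image of x in any quotient G ⧸ N is isolated in G ⧸ N; and if x ≠ 1 and the Sylow p-subgroups of G are cyclic, then G has a normal p-complement. -/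
theorem result {G : Type*} [Group G] [Finite G] {p : ℕ} [Fact p.Prime] (x : G) (hx : ∃ k : ℕ, orderOf x = p ^ k) (hiso : Cfsg.IsIsolated x) : (∀ (N : Subgroup G) [N.Normal], Cfsg.IsIsolated (QuotientGroup.mk x : G ⧸ N)) ∧ (x ≠ 1 → (∀ P : Sylow p G, IsCyclic ↥(P : Subgroup G)) → Cfsg.HasNormalPComplement p G) := by
  constructor
  · intro N hN gbar hcomm
    obtain ⟨g, rfl⟩ := QuotientGroup.mk_surjective gbar
    -- K = preimage of the centralizer of the image of x
    set K : Subgroup G := (Subgroup.centralizer ({(QuotientGroup.mk x : G ⧸ N)} : Set (G ⧸ N))).comap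
      (QuotientGroup.mk' N) with hK
    have hxK : x ∈ K := by
      rw [hK, Subgroup.mem_comap, Subgroup.mem_centralizer_iff]
      intro y hy
      rw [Set.mem_singleton_iff] at hy
      rw [hy]; rfl
    have hyK : g * x * g⁻¹ ∈ K := by
      rw [hK, Subgroup.mem_comap, Subgroup.mem_centralizer_iff]
      intro y hy
      rw [Set.mem_singleton_iff] at hy
      rw [hy]
      exact hcomm.eq
    obtain ⟨c, hcK, hc⟩ := isolated_fusion hx hiso K hxK g hyK
    have hcK' : (QuotientGroup.mk x : G ⧸ N) * (QuotientGroup.mk c : G ⧸ N) =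
        (QuotientGroup.mk c : G ⧸ N) * (QuotientGroup.mk x : G ⧸ N) := by
      rw [hK, Subgroup.mem_comap, Subgroup.mem_centralizer_iff] at hcK
      exact hcK _ (Set.mem_singleton _)
    have h1 : ((g * x * g⁻¹ : G) : G ⧸ N) = ((c * x * c⁻¹ : G) : G ⧸ N) := by rw [hc]
    calc (QuotientGroup.mk g : G ⧸ N) * (QuotientGroup.mk x : G ⧸ N) * (QuotientGroup.mk g : G ⧸ N)⁻¹
        = ((g * x * g⁻¹ : G) : G ⧸ N) := by simp
      _ = ((c * x * c⁻¹ : G) : G ⧸ N) := h1
      _ = (QuotientGroup.mk c : G ⧸ N) * (QuotientGroup.mk x : G ⧸ N) * (QuotientGroup.mk c : G ⧸ N)⁻¹ := by simp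
      _ = (QuotientGroup.mk x : G ⧸ N) := by rw [← hcK']; group
  · intro hx1 hcyc
    obtain ⟨k, hk⟩ := hx
    have hpx : IsPGroup p (Subgroup.zpowers x) := IsPGroup.of_card ((Nat.card_zpowers x).trans hk)
    obtain ⟨P, hP⟩ := hpx.exists_le_sylow
    have hxP : x ∈ (P : Subgroup G) := hP (Subgroup.mem_zpowers x)
    have hNC := normalizer_le_centralizer_of_isolated x hiso hx1 P hxP (hcyc P)
    exact ⟨P, (MonoidHom.transferSylow P hNC).ker, MonoidHom.normal_ker _,
      MonoidHom.ker_transferSylow_isComplement' P hNC⟩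

end Cfsg.Agent.S2970
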