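import Mathlib
import Cfsg.Statements.S2971
import Cfsg.Agent.S0016
import Cfsg.Agent.S2970
import Cfsg.Agent.Lib.Helper2.Cores

set_option autoImplicit false

namespace Cfsg.Agent.S2971

open Cfsg

/-- If `G` has a normal `p`-complement and cyclic Sylow `p`-subgroups, all commutators lie in
`O_{p'}(G)`. -/
theorem commutator_mem_pPrimeCore {G : Type*} [Group G] [Finite G] {p : ℕ} [Fact p.Prime]
    (h : Cfsg.HasNormalPComplement p G) (hcyc : ∀ P : Sylow p G, IsCyclic ↥(P : Subgroup G))
    (g x : G) : g * x * g⁻¹ * x⁻¹ ∈ Cfsg.pPrimeCore p G := by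
  obtain ⟨P, N, hN, hc⟩ := h
  haveI := hN
  have hcop : (Nat.card N).Coprime p := by
    have h1 : Nat.card N * Nat.card (P : Subgroup G) = Nat.card G := hc.card_mul
    have h2 := (P : Subgroup G).card_mul_index
    have h3 : Nat.card N = (P : Subgroup G).index := by
      have hpos : 0 < Nat.card (P : Subgroup G) := Nat.card_pos
      have : Nat.card N * Nat.card (P : Subgroup G) = (P : Subgroup G).index * Nat.card (P : Subgroup G) := by
        rw [h1, ← h2, mul_comm]
      exact Nat.eq_of_mul_eq_mul_right hpos this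
    rw [h3, Nat.coprime_comm, Nat.Prime.coprime_iff_not_dvd Fact.out]
    exact P.not_dvd_index
  apply Cfsg.Agent.Lib.Helper2.le_pPrimeCore hN hcop
  -- G/N is commutative
  haveI := hcyc P
  have hPc : ∀ a ∈ (P : Subgroup G), ∀ b ∈ (P : Subgroup G), a * b = b * a := by
    intro a ha b hb
    have hcomm : ∀ u v : ↥(P : Subgroup G), u * v = v * u := fun u v => by
      letI := IsCyclic.commGroup (α := ↥(P : Subgroup G))
      exact mul_comm u v
    exact congrArg Subtype.val (hcomm ⟨a, ha⟩ ⟨b, hb⟩)
  have hdec : ∀ y : G, ∃ n ∈ N, ∃ q ∈ (P : Subgroup G), y = n * q := by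
    intro y
    obtain ⟨⟨n, q⟩, hnq, _⟩ := hc.existsUnique y
    exact ⟨n.1, n.2, q.1, q.2, hnq.symm⟩
  have hquot : ∀ a b : G ⧸ N, a * b = b * a := by
    intro a b
    obtain ⟨ya, rfl⟩ := QuotientGroup.mk_surjective a
    obtain ⟨yb, rfl⟩ := QuotientGroup.mk_surjective b
    obtain ⟨n₁, hn₁, q₁, hq₁, rfl⟩ := hdec ya
    obtain ⟨n₂, hn₂, q₂, hq₂, rfl⟩ := hdec yb
    have e1 : (QuotientGroup.mk (n₁ * q₁) : G ⧸ N) = QuotientGroup.mk q₁ := by
      rw [QuotientGroup.mk_mul, (QuotientGroup.eq_one_iff n₁).2 hn₁, one_mul]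
    have e2 : (QuotientGroup.mk (n₂ * q₂) : G ⧸ N) = QuotientGroup.mk q₂ := by
      rw [QuotientGroup.mk_mul, (QuotientGroup.eq_one_iff n₂).2 hn₂, one_mul]
    rw [e1, e2, ← QuotientGroup.mk_mul, ← QuotientGroup.mk_mul, hPc q₁ hq₁ q₂ hq₂]
  rw [← QuotientGroup.eq_one_iff]
  simp only [QuotientGroup.mk_mul, QuotientGroup.mk_inv]
  rw [hquot (QuotientGroup.mk g) (QuotientGroup.mk x)]
  group

/-- In a group of `p`-rank at most one, a Sylow `p`-subgroup has a unique subgroup of order `p`. -/
theorem unique_subgroup_of_order_p {G : Type*} [Group G] [Finite G] {p : ℕ} [Fact p.Prime]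
    (hrk : Cfsg.PRankLE p 1 G) (P : Sylow p G)
    (H K : Subgroup ↥(P : Subgroup G)) (hH : Nat.card H = p) (hK : Nat.card K = p) : H = K := by
  have hpp : p.Prime := Fact.out
  -- it suffices: every subgroup of order p of ↥P equals a fixed one
  have hnontriv : Nontrivial ↥(P : Subgroup G) := by
    by_contra hnt
    rw [not_nontrivial_iff_subsingleton] at hnt
    have : Nat.card H = 1 := by
      haveI : Subsingleton H := by
        constructor
        intro a b
        exact Subtype.ext (Subsingleton.elim _ _)
      exact Nat.card_of_subsingleton (1 : H)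
    rw [hH] at this
    exact hpp.one_lt.ne' this
  haveI := hnontriv
  have hPg : IsPGroup p ↥(P : Subgroup G) := P.isPGroup'
  -- an element of order p in the centre
  have hcen : Nontrivial (Subgroup.center ↥(P : Subgroup G)) := hPg.center_nontrivial
  have hpdvd : p ∣ Nat.card (Subgroup.center ↥(P : Subgroup G)) := by
    obtain ⟨n, hn⟩ := (hPg.to_subgroup (Subgroup.center _)).exists_card_eq
    rw [hn]
    have : n ≠ 0 := by
      rintro rfl
      rw [pow_zero] at hn
      have := (Nat.card_eq_one_iff_unique.1 hn).1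
      exact not_subsingleton _ this
    exact dvd_pow_self p this
  obtain ⟨⟨z, hzc⟩, hz⟩ := exists_prime_orderOf_dvd_card' p hpdvd
  have hz' : orderOf z = p := (Subgroup.orderOf_mk z hzc).symm.trans hz
  -- every element of order p of P lies in zpowers z
  have key : ∀ h : ↥(P : Subgroup G), h ^ p = 1 → h ∈ Subgroup.zpowers z := by
    intro h hh
    -- the subgroup A = closure {z, h} of G
    let A : Subgroup G := Subgroup.closure {(z : G), (h : G)}
    have hzh : (z : G) * (h : G) = h * z := by
      have := (Subgroup.mem_center_iff.1 hzc) h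
      exact (congrArg Subtype.val this).symm
    have hAcomm : IsMulCommutative A := by
      refine ⟨⟨?_⟩⟩
      rintro ⟨a, ha⟩ ⟨b, hb⟩
      apply Subtype.ext
      show a * b = b * a
      have hgen : ∀ u ∈ ({(z : G), (h : G)} : Set G), ∀ v ∈ ({(z : G), (h : G)} : Set G), u * v = v * u := by
        intro u hu v hv
        rcases hu with rfl | rfl <;> rcases hv with rfl | rfl
        · rfl
        · exact hzh
        · exact hzh.symm
        · rfl
      exact Subgroup.closure_induction₂ (p := fun a b _ _ => a * b = b * a)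
        (fun x y hx hy => hgen x hx y hy)
        (fun x _ => by simp) (fun x _ => by simp)
        (fun x y z _ _ _ h1 h2 => by rw [mul_assoc, h2, ← mul_assoc, h1, mul_assoc])
        (fun x y z _ _ _ h1 h2 => by rw [← mul_assoc, h1, mul_assoc, h2, ← mul_assoc])
        (fun x y _ _ h1 => by
          have := congrArg (fun t => x⁻¹ * t * x⁻¹) h1
          simpa [mul_assoc] using this.symm)
        (fun x y _ _ h1 => by
          have := congrArg (fun t => y⁻¹ * t * y⁻¹) h1
          simpa [mul_assoc] using this.symm) ha hb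
    have hAexp : ∀ a ∈ A, a ^ p = 1 := by
      intro a ha
      have hc : ∀ x ∈ A, ∀ y ∈ A, x * y = y * x := by
        intro x hx y hy
        exact congrArg Subtype.val (hAcomm.is_comm.comm ⟨x, hx⟩ ⟨y, hy⟩)
      induction ha using Subgroup.closure_induction with
      | mem x hx =>
        rcases hx with rfl | rfl
        · have := pow_orderOf_eq_one z
          rw [hz'] at this
          simpa using congrArg Subtype.val this
        · simpa using congrArg Subtype.val hh
      | one => simp
      | mul x y hx hy ihx ihy =>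
        have : Commute x y := hc x hx y hy
        rw [this.mul_pow, ihx, ihy, one_mul]
      | inv x _ ihx => rw [inv_pow, ihx, inv_one]
    have hcard := hrk A hAcomm hAexp
    rw [pow_one] at hcard
    -- zpowers z (in G) ≤ A has p elements
    have hzA : Subgroup.zpowers (z : G) ≤ A := by
      rw [Subgroup.zpowers_le]
      exact Subgroup.subset_closure (by simp)
    have hzcard : Nat.card (Subgroup.zpowers (z : G)) = p := by
      rw [Nat.card_zpowers, Subgroup.orderOf_coe, hz']
    have hAeq : Subgroup.zpowers (z : G) = A := by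
      apply Subgroup.eq_of_le_of_card_ge hzA
      rw [hzcard]; exact hcard
    have hhA : (h : G) ∈ A := Subgroup.subset_closure (by simp)
    rw [← hAeq] at hhA
    obtain ⟨k, hk⟩ := hhA
    refine ⟨k, ?_⟩
    apply Subtype.ext
    simpa using hk
  have hsub : ∀ L : Subgroup ↥(P : Subgroup G), Nat.card L = p → L = Subgroup.zpowers z := by
    intro L hL
    have hle : L ≤ Subgroup.zpowers z := by
      intro h hhL
      apply key
      have := pow_card_eq_one' (G := L) (x := ⟨h, hhL⟩)
      rw [hL] at this
      simpa using congrArg Subtype.val this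
    apply Subgroup.eq_of_le_of_card_ge hle
    rw [hL, Nat.card_zpowers, hz']
  rw [hsub H hH, hsub K hK]

/-- If G has p-rank at most 1 with p odd, then every isolated element of order p lies in Z*_p(G). -/
theorem result {G : Type*} [Group G] [Finite G] {p : ℕ} [Fact p.Prime] (hp : p ≠ 2) (hrk : Cfsg.PRankLE p 1 G) (x : G) (hx : orderOf x = p) (hiso : Cfsg.IsIsolated x) : Cfsg.InZStar p x := by
  have hcyc : ∀ P : Sylow p G, IsCyclic ↥(P : Subgroup G) := by
    intro P
    rcases Cfsg.Agent.S0016.result p P.isPGroup' (unique_subgroup_of_order_p hrk P) with h | ⟨h2, _⟩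
    · exact h
    · exact absurd h2 hp
  have hx1 : x ≠ 1 := by
    rintro rfl
    rw [orderOf_one] at hx
    exact (Fact.out : p.Prime).one_lt.ne hx
  have hN := (Cfsg.Agent.S2970.result x ⟨1, by rw [hx, pow_one]⟩ hiso).2 hx1 hcyc
  intro g
  exact commutator_mem_pPrimeCore hN hcyc g x

end Cfsg.Agent.S2971
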