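import Mathlib
import Cfsg.Statements.S2972
import Cfsg.Agent.Lib.Helper23.ZStarMin

set_option autoImplicit false
open Cfsg
open scoped commutatorElement

namespace Cfsg.Agent.S2972

open Cfsg.Agent.Lib.Helper23.ZStarMin

section basic
variable {G : Type*} [Group G]

/-- The conjugate `y S y⁻¹`. -/
abbrev cj (S : Subgroup G) (y : G) : Subgroup G := S.map (MulAut.conj y).toMonoidHom

theorem mem_cj {S : Subgroup G} {y g : G} : g ∈ cj S y ↔ ∃ s ∈ S, y * s * y⁻¹ = g := by
  simp [cj, Subgroup.mem_map, MulAut.conj_apply]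

theorem le_normalizer_of_conj_mem {N S : Subgroup G} (h : ∀ n ∈ N, ∀ s ∈ S, n * s * n⁻¹ ∈ S) :
    N ≤ Subgroup.normalizer (S : Set G) := by
  intro n hn
  rw [Subgroup.mem_normalizer_iff]
  intro s
  constructor
  · exact h n hn s
  · intro hs
    have := h n⁻¹ (N.inv_mem hn) _ hs
    have e : n⁻¹ * (n * s * n⁻¹) * n⁻¹⁻¹ = s := by group
    rwa [e] at this

theorem conj_mem_of_le_normalizer {N S : Subgroup G} (h : N ≤ Subgroup.normalizer (S : Set G))
    {n s : G} (hn : n ∈ N) (hs : s ∈ S) : n * s * n⁻¹ ∈ S :=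
  (Subgroup.mem_normalizer_iff.mp (h hn) s).mp hs

theorem le_normalizer_map_subtype {M : Subgroup G} {K' : Subgroup ↥M} (h : K'.Normal) :
    M ≤ Subgroup.normalizer ((K'.map M.subtype : Subgroup G) : Set G) := by
  apply le_normalizer_of_conj_mem
  rintro n hn _ ⟨k, hk, rfl⟩
  exact ⟨⟨n, hn⟩ * k * ⟨n, hn⟩⁻¹, h.conj_mem k hk ⟨n, hn⟩, by simp⟩

theorem mem_normalizer_of_cj_eq [Finite G] {S : Subgroup G} {y : G} (h : cj S y = S) :
    y ∈ Subgroup.normalizer (S : Set G) := by
  -- y S y⁻¹ = S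
  have h1 : ∀ k : ℕ, ∀ s ∈ S, y ^ k * s * (y ^ k)⁻¹ ∈ S := by
    intro k
    induction k with
    | zero => intro s hs; simpa using hs
    | succ k ih =>
      intro s hs
      have h2 : y * (y ^ k * s * (y ^ k)⁻¹) * y⁻¹ ∈ S := by
        rw [← h]
        exact mem_cj.mpr ⟨_, ih s hs, rfl⟩
      have e : y ^ (k + 1) * s * (y ^ (k + 1))⁻¹ = y * (y ^ k * s * (y ^ k)⁻¹) * y⁻¹ := by
        rw [pow_succ']; group
      rw [e]; exact h2
  have h3 : Subgroup.zpowers y ≤ Subgroup.normalizer (S : Set G) := by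
    apply le_normalizer_of_conj_mem
    intro n hn s hs
    obtain ⟨k, rfl⟩ := (mem_powers_iff_mem_zpowers.mpr hn)
    exact h1 k s hs
  exact h3 (Subgroup.mem_zpowers y)

theorem cj_cj (S : Subgroup G) (y z : G) : cj (cj S y) z = cj S (z * y) := by
  ext g
  simp only [mem_cj]
  constructor
  · rintro ⟨t, ⟨s, hs, rfl⟩, rfl⟩
    exact ⟨s, hs, by group⟩
  · rintro ⟨s, hs, rfl⟩
    exact ⟨y * s * y⁻¹, ⟨s, hs, rfl⟩, by group⟩

theorem cj_one (S : Subgroup G) : cj S 1 = S := by
  ext g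
  simp [mem_cj]

theorem card_cj (S : Subgroup G) (y : G) : Nat.card (cj S y) = Nat.card S :=
  Subgroup.card_map_of_injective (MulAut.conj y).injective

end basic

section main
variable {G : Type*} [Group G] [Finite G] {p : ℕ} [Fact p.Prime] {x : G}

/-- `G' ≤ N` if `G = N⟨x⟩`. -/
theorem commutator_le_of_sup_zpowers {N : Subgroup G} [N.Normal]
    (h : N ⊔ Subgroup.zpowers x = ⊤) : commutator G ≤ N := by
  have htop : Subgroup.zpowers ((QuotientGroup.mk' N) x) = ⊤ := by
    rw [← MonoidHom.map_zpowers]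
    have h1 : N.map (QuotientGroup.mk' N) = ⊥ := by
      rw [← le_bot_iff]
      rintro _ ⟨n, hn, rfl⟩
      rw [Subgroup.mem_bot, QuotientGroup.mk'_apply, QuotientGroup.eq_one_iff]
      exact hn
    have h2 : (N ⊔ Subgroup.zpowers x).map (QuotientGroup.mk' N) = ⊤ := by
      rw [h, ← MonoidHom.range_eq_map, MonoidHom.range_eq_top]
      exact QuotientGroup.mk'_surjective N
    rw [Subgroup.map_sup, h1, bot_sup_eq] at h2
    exact h2
  rw [commutator_def, Subgroup.commutator_le]
  intro g _ k _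
  have hg : (QuotientGroup.mk' N) g ∈ Subgroup.zpowers ((QuotientGroup.mk' N) x) :=
    htop ▸ Subgroup.mem_top _
  have hk : (QuotientGroup.mk' N) k ∈ Subgroup.zpowers ((QuotientGroup.mk' N) x) :=
    htop ▸ Subgroup.mem_top _
  obtain ⟨i, hi⟩ := Subgroup.mem_zpowers_iff.mp hg
  obtain ⟨j, hj⟩ := Subgroup.mem_zpowers_iff.mp hk
  have hcomm : Commute ((QuotientGroup.mk' N) g) ((QuotientGroup.mk' N) k) := by
    rw [← hi, ← hj]
    exact (Commute.refl _).zpow_zpow i j
  have : (QuotientGroup.mk' N) ⁅g, k⁆ = 1 := by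
    rw [map_commutatorElement, commutatorElement_eq_one_iff_commute]
    exact hcomm
  rw [QuotientGroup.mk'_apply, QuotientGroup.eq_one_iff] at this
  exact this

/-- Two different members of minimal order of the family of nontrivial `N`-invariant subgroups of
`N` meet trivially and commute. -/
theorem disjoint_commute_of_minimal {N : Subgroup G} {c : ℕ}
    (hmin : ∀ S : Subgroup G, S ≠ ⊥ → S ≤ N → N ≤ Subgroup.normalizer (S : Set G) → c ≤ Nat.card S)
    {T₁ T₂ : Subgroup G} (h₁ : T₁ ≤ N) (h₁' : N ≤ Subgroup.normalizer (T₁ : Set G))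
    (hc₁ : Nat.card T₁ = c) (h₂ : T₂ ≤ N) (h₂' : N ≤ Subgroup.normalizer (T₂ : Set G))
    (hc₂ : Nat.card T₂ = c) (hne : T₁ ≠ T₂) :
    T₁ ⊓ T₂ = ⊥ ∧ ∀ a ∈ T₁, ∀ b ∈ T₂, a * b = b * a := by
  have hbot : T₁ ⊓ T₂ = ⊥ := by
    by_contra hnb
    have hnorm : N ≤ Subgroup.normalizer ((T₁ ⊓ T₂ : Subgroup G) : Set G) := by
      apply le_normalizer_of_conj_mem
      intro n hn s hs
      exact ⟨conj_mem_of_le_normalizer h₁' hn hs.1, conj_mem_of_le_normalizer h₂' hn hs.2⟩
    have hcard := hmin (T₁ ⊓ T₂) hnb (inf_le_left.trans h₁) hnorm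
    have e1 : T₁ ⊓ T₂ = T₁ := Subgroup.eq_of_le_of_card_ge inf_le_left (by rw [hc₁]; exact hcard)
    have e2 : T₁ ⊓ T₂ = T₂ := Subgroup.eq_of_le_of_card_ge inf_le_right (by rw [hc₂]; exact hcard)
    exact hne (e1.symm.trans e2)
  refine ⟨hbot, ?_⟩
  intro a ha b hb
  have h1 : a * b * a⁻¹ * b⁻¹ ∈ T₁ ⊓ T₂ := by
    constructor
    · have : b * a⁻¹ * b⁻¹ ∈ T₁ := conj_mem_of_le_normalizer h₁' (h₂ hb) (T₁.inv_mem ha)
      have e : a * b * a⁻¹ * b⁻¹ = a * (b * a⁻¹ * b⁻¹) := by group
      rw [e]; exact T₁.mul_mem ha this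
    · have : a * b * a⁻¹ ∈ T₂ := conj_mem_of_le_normalizer h₂' (h₁ ha) hb
      exact T₂.mul_mem this (T₂.inv_mem hb)
  rw [hbot, Subgroup.mem_bot] at h1
  calc a * b = (a * b * a⁻¹ * b⁻¹) * (b * a) := by group
    _ = b * a := by rw [h1, one_mul]

/-- The unique minimal normal subgroup `N` with `G = N⟨x⟩` is simple. -/
theorem simple_of_min (hx : orderOf x = p) (hiso : Cfsg.IsIsolated x)
    (hO : Cfsg.pPrimeCore p G = ⊥) {N : Subgroup G} (hNn : N.Normal) (hNne : N ≠ ⊥)
    (hNmin : ∀ K : Subgroup G, K.Normal → K ≠ ⊥ → N ≤ K)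
    (hNx : N ⊔ Subgroup.zpowers x = ⊤) : IsSimpleGroup ↥N := by
  classical
  have hpp : p.Prime := Fact.out
  haveI : Nontrivial ↥N := (Subgroup.nontrivial_iff_ne_bot N).mpr hNne
  refine ⟨fun H hH => ?_⟩
  by_contra hcon
  push Not at hcon
  obtain ⟨hHbot, hHtop⟩ := hcon
  -- the family
  obtain ⟨𝒮, h𝒮⟩ : ∃ 𝒮 : Set (Subgroup G), 𝒮 = {S | S ≠ ⊥ ∧ S ≤ N ∧
    N ≤ Subgroup.normalizer (S : Set G)} := ⟨_, rfl⟩
  have hS₀ : H.map N.subtype ∈ 𝒮 := by
    rw [h𝒮]
    refine ⟨?_, Subgroup.map_subtype_le _, le_normalizer_map_subtype hH⟩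
    intro h
    exact hHbot ((Subgroup.map_eq_bot_iff_of_injective H N.subtype_injective).mp h)
  have hS₀ne : H.map N.subtype ≠ N := by
    intro h
    apply hHtop
    rw [eq_top_iff]
    intro n _
    have : (n : G) ∈ H.map N.subtype := by rw [h]; exact n.2
    obtain ⟨m, hm, hmn⟩ := this
    have : m = n := Subtype.ext hmn
    rw [← this]; exact hm
  obtain ⟨S, hS𝒮, hSmin⟩ := Set.exists_min_image 𝒮 (fun S => Nat.card S) (Set.toFinite 𝒮) ⟨_, hS₀⟩
  have hS𝒮' := hS𝒮
  rw [h𝒮] at hS𝒮'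
  obtain ⟨hSbot, hSN, hNS⟩ := hS𝒮'
  have hSneN : S ≠ N := by
    intro h
    apply hS₀ne
    apply Subgroup.eq_of_le_of_card_ge (Subgroup.map_subtype_le _)
    have := hSmin _ hS₀
    rw [h] at this
    exact this
  have hmin' : ∀ S' : Subgroup G, S' ≠ ⊥ → S' ≤ N → N ≤ Subgroup.normalizer (S' : Set G) →
      Nat.card S ≤ Nat.card S' := by
    intro S' h1 h2 h3
    exact hSmin S' (by rw [h𝒮]; exact ⟨h1, h2, h3⟩)
  -- conjugates of S
  have hcjN : ∀ y : G, cj S y ≤ N := by
    intro y g hg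
    obtain ⟨s, hs, rfl⟩ := mem_cj.mp hg
    exact hNn.conj_mem s (hSN hs) y
  have hcjnorm : ∀ y : G, N ≤ Subgroup.normalizer ((cj S y : Subgroup G) : Set G) := by
    intro y
    apply le_normalizer_of_conj_mem
    intro n hn g hg
    obtain ⟨s, hs, rfl⟩ := mem_cj.mp hg
    have h1 : y⁻¹ * n * y ∈ N := by
      have := hNn.conj_mem n hn y⁻¹
      simpa using this
    have h2 := conj_mem_of_le_normalizer hNS h1 hs
    refine mem_cj.mpr ⟨_, h2, ?_⟩
    group
  -- x does not normalize S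
  have hxS : ∀ y ∈ Subgroup.zpowers x, y ≠ 1 → cj S y ≠ S := by
    intro y hy hy1 h
    have hyn := mem_normalizer_of_cj_eq h
    -- zpowers y = zpowers x
    have hzy : Subgroup.zpowers y = Subgroup.zpowers x := by
      apply Subgroup.eq_of_le_of_card_ge (Subgroup.zpowers_le.mpr hy)
      rw [Nat.card_zpowers, Nat.card_zpowers, hx]
      have hdvd : orderOf y ∣ p := by
        have h1 : Nat.card (Subgroup.zpowers y) ∣ Nat.card (Subgroup.zpowers x) :=
          Subgroup.card_dvd_of_le (Subgroup.zpowers_le.mpr hy)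
        rwa [Nat.card_zpowers, Nat.card_zpowers, hx] at h1
      rcases (Nat.dvd_prime hpp).mp hdvd with h1 | h1
      · exact absurd (orderOf_eq_one_iff.mp h1) hy1
      · exact h1.ge
    have hxn : x ∈ Subgroup.normalizer (S : Set G) := by
      have : Subgroup.zpowers y ≤ Subgroup.normalizer (S : Set G) := Subgroup.zpowers_le.mpr hyn
      rw [hzy] at this
      exact this (Subgroup.mem_zpowers x)
    have htop : Subgroup.normalizer (S : Set G) = ⊤ := by
      rw [eq_top_iff, ← hNx]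
      exact sup_le hNS (Subgroup.zpowers_le.mpr hxn)
    have hSn : S.Normal := Subgroup.normalizer_eq_top_iff.mp htop
    exact hSneN (le_antisymm hSN (hNmin S hSn hSbot))
  have hdist : ∀ y₁ ∈ Subgroup.zpowers x, ∀ y₂ ∈ Subgroup.zpowers x, y₁ ≠ y₂ → cj S y₁ ≠ cj S y₂ := by
    intro y₁ hy₁ y₂ hy₂ hne h
    apply hxS (y₂⁻¹ * y₁) (Subgroup.mul_mem _ (Subgroup.inv_mem _ hy₂) hy₁)
    · intro h1
      apply hne
      calc y₁ = y₂ * (y₂⁻¹ * y₁) := by group
        _ = y₂ := by rw [h1, mul_one]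
    · rw [← cj_cj, h, cj_cj, inv_mul_cancel, cj_one]
  -- p divides |S|
  have hpS : p ∣ Nat.card S := by
    by_contra hnd
    apply hSbot
    exact eq_bot_of_coprime hO hNn hSN hNS ((Nat.Prime.coprime_iff_not_dvd hpp).mpr hnd).symm
  obtain ⟨s', hs'⟩ := exists_prime_orderOf_dvd_card' p hpS
  obtain ⟨s, hsS, hsord⟩ : ∃ s ∈ S, orderOf s = p := ⟨s'.1, s'.2, by rw [Subgroup.orderOf_coe]; exact hs'⟩
  -- the generators
  obtain ⟨gens, hgens⟩ : ∃ gens : Set G, gens = {g | ∃ y ∈ Subgroup.zpowers x, g = y * s * y⁻¹} :=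
    ⟨_, rfl⟩
  have hgcomm : ∀ a ∈ gens, ∀ b ∈ gens, a * b = b * a := by
    intro a ha b hb
    rw [hgens] at ha hb
    obtain ⟨y₁, hy₁, rfl⟩ := ha
    obtain ⟨y₂, hy₂, rfl⟩ := hb
    by_cases hyy : y₁ = y₂
    · rw [hyy]
    · have := disjoint_commute_of_minimal hmin' (hcjN y₁) (hcjnorm y₁) (card_cj S y₁)
        (hcjN y₂) (hcjnorm y₂) (card_cj S y₂) (hdist y₁ hy₁ y₂ hy₂ hyy)
      exact this.2 _ (mem_cj.mpr ⟨s, hsS, rfl⟩) _ (mem_cj.mpr ⟨s, hsS, rfl⟩)
  obtain ⟨E, hEdef⟩ : ∃ E : Subgroup G, E = Subgroup.closure gens := ⟨_, rfl⟩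
  have hE1 : E ≤ Subgroup.centralizer gens := by
    rw [hEdef, Subgroup.closure_le]
    intro a ha
    rw [SetLike.mem_coe, Subgroup.mem_centralizer_iff]
    intro b hb
    exact hgcomm b hb a ha
  have hE2 : E ≤ Subgroup.centralizer (E : Set G) := by
    rw [hEdef, Subgroup.closure_le]
    intro a ha
    rw [SetLike.mem_coe, Subgroup.mem_centralizer_iff]
    intro e he
    rw [← hEdef] at he
    exact ((Subgroup.mem_centralizer_iff.mp (hE1 he)) a ha).symm
  have hEp : IsPGroup p E := by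
    have hpow : ∀ e ∈ E, e ^ p = 1 := by
      intro e he
      rw [hEdef] at he
      induction he using Subgroup.closure_induction with
      | mem a ha =>
        rw [hgens] at ha
        obtain ⟨y, -, rfl⟩ := ha
        rw [conj_pow, ← hsord, pow_orderOf_eq_one]; group
      | one => simp
      | mul a b ha hb iha ihb =>
        have hab : Commute a b := by
          have ha' : a ∈ E := hEdef ▸ ha
          have hb' : b ∈ E := hEdef ▸ hb
          exact ((Subgroup.mem_centralizer_iff.mp (hE2 hb')) a ha')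
        rw [hab.mul_pow, iha, ihb, one_mul]
      | inv a _ iha => rw [inv_pow, iha, inv_one]
    rintro ⟨e, he⟩
    refine ⟨1, ?_⟩
    apply Subtype.ext
    simpa using hpow e he
  have hxE : Subgroup.zpowers x ≤ Subgroup.normalizer (E : Set G) := by
    apply le_normalizer_of_conj_mem
    intro y hy e he
    rw [hEdef] at he ⊢
    induction he using Subgroup.closure_induction with
    | mem a ha =>
      apply Subgroup.subset_closure
      rw [hgens] at ha ⊢
      obtain ⟨y', hy', rfl⟩ := ha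
      exact ⟨y * y', Subgroup.mul_mem _ hy hy', by group⟩
    | one => simp
    | mul a b _ _ iha ihb =>
      have e : y * (a * b) * y⁻¹ = (y * a * y⁻¹) * (y * b * y⁻¹) := by group
      rw [e]; exact Subgroup.mul_mem _ iha ihb
    | inv a _ iha =>
      have e : y * a⁻¹ * y⁻¹ = (y * a * y⁻¹)⁻¹ := by group
      rw [e]; exact Subgroup.inv_mem _ iha
  have hzp : IsPGroup p (Subgroup.zpowers x) := by
    apply IsPGroup.of_card (n := 1)
    rw [Nat.card_zpowers, hx, pow_one]
  have hHp : IsPGroup p (Subgroup.zpowers x ⊔ E : Subgroup G) := hzp.to_sup_of_normal_right' hEp hxE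
  have hcent := Cfsg.Agent.Lib.Helper23.isolated_central_of_pgroup hiso _ hHp
    (le_sup_left (α := Subgroup G) (Subgroup.mem_zpowers x))
  have hsE : s ∈ E := by
    rw [hEdef]
    apply Subgroup.subset_closure
    rw [hgens]
    exact ⟨1, Subgroup.one_mem _, by group⟩
  have hsx : s * x = x * s := hcent s (le_sup_right (α := Subgroup G) hsE)
  have hx1 : x ≠ 1 := by
    intro h
    rw [h, orderOf_one] at hx
    exact hpp.one_lt.ne hx
  have hdis := disjoint_commute_of_minimal hmin' (hcjN x) (hcjnorm x) (card_cj S x) hSN hNS rfl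
    (hxS x (Subgroup.mem_zpowers x) hx1)
  have hs1 : s ∈ cj S x ⊓ S := by
    refine ⟨mem_cj.mpr ⟨s, hsS, ?_⟩, hsS⟩
    rw [← hsx]; group
  rw [hdis.1, Subgroup.mem_bot] at hs1
  rw [hs1, orderOf_one] at hsord
  exact hpp.one_lt.ne hsord

end main

/-- Let G be a finite group, p a prime and x ∈ G an isolated element of order p (the only conjugate of x commuting with x is x) which is not central modulo the largest normal subgroup of order prime to p, while x is central modulo the largest normal subgroup of order prime to p in every proper subgroup containing x, and the image of x is so in every quotient of G by a nontrivial normal subgroup (a minimal counterexample to the Z*_p statement). Then the derived subgroup G' is a non-abelian simple group and G = G'⟨x⟩. -/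
theorem result {G : Type*} [Group G] [Finite G] {p : ℕ} [Fact p.Prime] (x : G) (hx : orderOf x = p) (hiso : Cfsg.IsIsolated x) (hnz : ¬ Cfsg.InZStar p x) (hmin : ∀ (H : Subgroup G) (hxH : x ∈ H), H ≠ ⊤ → Cfsg.InZStar p (⟨x, hxH⟩ : ↥H)) (hquot : ∀ (N : Subgroup G) [N.Normal], N ≠ ⊥ → Cfsg.InZStar p (QuotientGroup.mk x : G ⧸ N)) : IsSimpleGroup ↥(commutator G) ∧ ¬ IsMulCommutative ↥(commutator G) ∧ commutator G ⊔ Subgroup.zpowers x = ⊤ := by
  have hpp : p.Prime := Fact.out
  have hO := core_eq_bot hnz hquot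
  have hnc := not_central (p := p) hnz
  have hsup : ∀ N : Subgroup G, N.Normal → N ≠ ⊥ → N ⊔ Subgroup.zpowers x = ⊤ :=
    fun N hN hNne => sup_zpowers_eq_top hiso hnz hmin hquot hN hNne
  have hDn : (commutator G).Normal := inferInstance
  have hDne : commutator G ≠ ⊥ := by
    intro h
    apply hnc
    intro g
    have h1 : ⁅g, x⁆ ∈ commutator G := by
      rw [commutator_def]
      exact Subgroup.commutator_mem_commutator (Subgroup.mem_top g) (Subgroup.mem_top x)
    rw [h, Subgroup.mem_bot, commutatorElement_eq_one_iff_mul_comm] at h1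
    exact h1
  have hDmin : ∀ K : Subgroup G, K.Normal → K ≠ ⊥ → commutator G ≤ K := by
    intro K hK hKne
    haveI := hK
    exact commutator_le_of_sup_zpowers (hsup K hK hKne)
  have hDx := hsup _ hDn hDne
  have hzp : IsPGroup p (Subgroup.zpowers x) := by
    apply IsPGroup.of_card (n := 1)
    rw [Nat.card_zpowers, hx, pow_one]
  refine ⟨simple_of_min hx hiso hO hDn hDne hDmin hDx, ?_, hDx⟩
  intro hcomm
  -- G' abelian: then G is a p-group
  have hcomm' : ∀ a ∈ commutator G, ∀ b ∈ commutator G, a * b = b * a := by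
    intro a ha b hb
    have := hcomm.is_comm.comm (⟨a, ha⟩ : ↥(commutator G)) ⟨b, hb⟩
    exact congrArg Subtype.val this
  have hDp : IsPGroup p (commutator G) := by
    apply Cfsg.Agent.Lib.Helper16.isPGroup_of_coprime_elements_trivial
    intro n hn hcop
    have hz : Subgroup.zpowers n = ⊥ := by
      apply eq_bot_of_coprime hO hDn (Subgroup.zpowers_le.mpr hn)
      · apply le_normalizer_of_conj_mem
        intro a ha s hs
        have hs' : s ∈ commutator G := (Subgroup.zpowers_le.mpr hn) hs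
        have : a * s * a⁻¹ = s := by
          rw [hcomm' a ha s hs']; group
        rw [this]; exact hs
      · rw [Nat.card_zpowers]; exact hcop
    exact Subgroup.zpowers_eq_bot.mp hz
  have hGp : IsPGroup p (commutator G ⊔ Subgroup.zpowers x : Subgroup G) := by
    apply hDp.to_sup_of_normal_left' hzp
    rw [Subgroup.normalizer_eq_top_iff.mpr hDn]
    exact le_top
  rw [hDx] at hGp
  have hcent := Cfsg.Agent.Lib.Helper23.isolated_central_of_pgroup hiso ⊤ hGp (Subgroup.mem_top x)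
  exact hnc (fun g => hcent g (Subgroup.mem_top g))

end Cfsg.Agent.S2972
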