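import Mathlib
import Cfsg.Statements.S2975
import Cfsg.Agent.S2972
import Cfsg.Agent.S3870
import Cfsg.Agent.Lib.Helper13.CoprimeSylow

set_option autoImplicit false
open Cfsg
open scoped commutatorElement

namespace Cfsg.Agent.S2975

open Cfsg.Agent.Lib.Helper23.ZStarMin
open Cfsg.Agent.S2972 (cj mem_cj le_normalizer_of_conj_mem conj_mem_of_le_normalizer
  mem_normalizer_of_cj_eq card_cj)

section
variable {G : Type*} [Group G] [Finite G]

/-- In a finite group, `y S y⁻¹ ⊆ S` implies `y ∈ N(S)`. -/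
theorem mem_normalizer_of_conj_mem {S : Subgroup G} {y : G} (h : ∀ s ∈ S, y * s * y⁻¹ ∈ S) :
    y ∈ Subgroup.normalizer (S : Set G) := by
  apply mem_normalizer_of_cj_eq
  apply Subgroup.eq_of_le_of_card_ge
  · intro g hg
    obtain ⟨s, hs, rfl⟩ := mem_cj.mp hg
    exact h s hs
  · rw [card_cj]

variable {p : ℕ} [Fact p.Prime] {x : G}

/-- Transitivity of `C_G(x)` on the `x`-invariant Sylow `q`-subgroups, for an isolated `p`-element. -/
theorem conj_of_invariant_sylow (hxp : ∃ k : ℕ, orderOf x = p ^ k) (hiso : Cfsg.IsIsolated x)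
    {q : ℕ} [Fact q.Prime] (S₁ S₂ : Sylow q G)
    (h₁ : x ∈ Subgroup.normalizer ((S₁ : Subgroup G) : Set G))
    (h₂ : x ∈ Subgroup.normalizer ((S₂ : Subgroup G) : Set G)) :
    ∃ c ∈ Subgroup.centralizer ({x} : Set G),
      (S₁ : Subgroup G).map (MulAut.conj c).toMonoidHom = (S₂ : Subgroup G) := by
  obtain ⟨g, hg⟩ := MulAction.exists_smul_eq G S₁ S₂
  have hg' : (S₁ : Subgroup G).map (MulAut.conj g).toMonoidHom = (S₂ : Subgroup G) := by
    rw [← hg, Sylow.coe_subgroup_smul]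
    rfl
  -- g⁻¹ x g normalizes S₁
  have hn : g⁻¹ * x * g⁻¹⁻¹ ∈ Subgroup.normalizer ((S₁ : Subgroup G) : Set G) := by
    apply mem_normalizer_of_conj_mem
    intro s hs
    have h1 : g * s * g⁻¹ ∈ (S₂ : Subgroup G) := by
      rw [← hg']; exact mem_cj.mpr ⟨s, hs, rfl⟩
    have h2 : x * (g * s * g⁻¹) * x⁻¹ ∈ (S₂ : Subgroup G) :=
      (Subgroup.mem_normalizer_iff.mp h₂ _).mp h1
    rw [← hg'] at h2
    obtain ⟨s', hs', e⟩ := mem_cj.mp h2
    have : g⁻¹ * x * g⁻¹⁻¹ * s * (g⁻¹ * x * g⁻¹⁻¹)⁻¹ = s' := by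
      have e2 : g⁻¹ * x * g⁻¹⁻¹ * s * (g⁻¹ * x * g⁻¹⁻¹)⁻¹ = g⁻¹ * (x * (g * s * g⁻¹) * x⁻¹) * g := by
        group
      rw [e2, ← e]; group
    rw [this]; exact hs'
  obtain ⟨h, hh, he⟩ := Cfsg.Agent.Lib.Helper23.isolated_fusion hxp hiso
    (Subgroup.normalizer ((S₁ : Subgroup G) : Set G)) h₁ g⁻¹ hn
  refine ⟨g * h, ?_, ?_⟩
  · rw [Subgroup.mem_centralizer_iff]
    intro y hy
    rw [Set.mem_singleton_iff] at hy
    subst hy
    have : g * h * y * (g * h)⁻¹ = y := by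
      have e2 : g * h * y * (g * h)⁻¹ = g * (h * y * h⁻¹) * g⁻¹ := by group
      rw [e2, he]; group
    calc y * (g * h) = (g * h * y * (g * h)⁻¹) * (g * h) := by rw [this]
      _ = g * h * y := by group
  · have hh' := Subgroup.mem_normalizer_iff_map_conj_eq.mp hh
    rw [← hg']
    conv_rhs => rw [← hh']
    rw [Subgroup.map_map]
    congr 1
    ext z
    simp [MulAut.conj_apply, mul_assoc]

/-- If `x ∈ Z*_p(H)` has order `p` and `q ≠ p`, every normal `q`-subgroup `Q` of `H` lies in an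
`x`-invariant Sylow `q`-subgroup of `H`. -/
theorem exists_invariant_sylow_of_inZStar (hx : orderOf x = p) {q : ℕ} [Fact q.Prime] (hqp : q ≠ p)
    {H : Subgroup G} (hxH : x ∈ H) (hZ : Cfsg.InZStar p (⟨x, hxH⟩ : ↥H)) {Q : Subgroup G}
    (hQH : Q ≤ H) (hHQ : H ≤ Subgroup.normalizer (Q : Set G)) (hQ : IsPGroup q Q) :
    ∃ (R : Subgroup G) (T : Sylow q ↥H), (T : Subgroup ↥H).map H.subtype = R ∧
      x ∈ Subgroup.normalizer (R : Set G) ∧ Q ≤ R := by
  have hpp : p.Prime := Fact.out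
  have hqq : q.Prime := Fact.out
  haveI hcn : (Cfsg.pPrimeCore p ↥H).Normal := (Cfsg.Agent.Lib.Helper20.pPrimeCore_mem' p).1
  have hcc : (Nat.card (Cfsg.pPrimeCore p ↥H)).Coprime p := Cfsg.Agent.Lib.Helper20.pPrimeCore_coprime' p
  obtain ⟨T₀⟩ : Nonempty (Sylow q ↥H) := inferInstance
  obtain ⟨L', hL'def⟩ : ∃ L' : Subgroup ↥H, L' = (T₀ : Subgroup ↥H) ⊔ Cfsg.pPrimeCore p ↥H := ⟨_, rfl⟩
  have hqpc : (q ^ (Nat.card ↥H).factorization q).Coprime p :=
    Nat.Coprime.pow_left _ ((Nat.coprime_primes hqq hpp).mpr hqp)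
  have hL'c : (Nat.card L').Coprime p := by
    have h1 : Nat.card L' ∣ Nat.card (T₀ : Subgroup ↥H) * Nat.card (Cfsg.pPrimeCore p ↥H) := by
      rw [hL'def]; exact Cfsg.Agent.Lib.Helper20.card_sup_dvd_mul _ _
    apply Nat.Coprime.coprime_dvd_left h1
    apply Nat.Coprime.mul_left _ hcc
    rw [T₀.card_eq_multiplicity]
    exact hqpc
  obtain ⟨L, hLdef⟩ : ∃ L : Subgroup G, L = L'.map H.subtype := ⟨_, rfl⟩
  have hLH : L ≤ H := by rw [hLdef]; exact Subgroup.map_subtype_le _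
  have hLcard : Nat.card L = Nat.card L' := by
    rw [hLdef, Subgroup.card_map_of_injective H.subtype_injective]
  -- x normalizes L
  have hxL : x ∈ Subgroup.normalizer (L : Set G) := by
    apply mem_normalizer_of_conj_mem
    intro l hl
    rw [hLdef] at hl ⊢
    obtain ⟨l', hl', rfl⟩ := hl
    refine ⟨⟨x, hxH⟩ * l' * ⟨x, hxH⟩⁻¹, ?_, by simp⟩
    have h1 := hZ l'
    have h2 : (⟨x, hxH⟩ : ↥H) * l' * ⟨x, hxH⟩⁻¹ * l'⁻¹ ∈ Cfsg.pPrimeCore p ↥H := by
      have := (Cfsg.pPrimeCore p ↥H).inv_mem h1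
      have e : (l' * ⟨x, hxH⟩ * l'⁻¹ * (⟨x, hxH⟩ : ↥H)⁻¹)⁻¹ = ⟨x, hxH⟩ * l' * ⟨x, hxH⟩⁻¹ * l'⁻¹ := by
        group
      rwa [e] at this
    have e : (⟨x, hxH⟩ : ↥H) * l' * ⟨x, hxH⟩⁻¹ = (⟨x, hxH⟩ * l' * ⟨x, hxH⟩⁻¹ * l'⁻¹) * l' := by group
    rw [e, hL'def]
    exact Subgroup.mul_mem _ (le_sup_right (α := Subgroup ↥H) h2) (hL'def ▸ hl')
  have hAL : Subgroup.zpowers x ≤ Subgroup.normalizer (L : Set G) := Subgroup.zpowers_le.mpr hxL
  have hcop : (Nat.card (Subgroup.zpowers x)).Coprime (Nat.card L) := by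
    rw [Nat.card_zpowers, hx, hLcard]
    exact hL'c.symm
  have hsolv : Group.IsSolvable (Subgroup.zpowers x) := by
    apply Group.isSolvable_of_comm
    intro a b
    exact (Subgroup.zpowers_isMulCommutative x).is_comm.comm a b
  obtain ⟨P, hP⟩ := Cfsg.Agent.Lib.Helper13.exists_invariant_sylow (Subgroup.zpowers x) L hAL hcop
    (Or.inl hsolv) q
  obtain ⟨R, hRdef⟩ : ∃ R : Subgroup G, R = (P : Subgroup ↥L).map L.subtype := ⟨_, rfl⟩
  have hRL : R ≤ L := by rw [hRdef]; exact Subgroup.map_subtype_le _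
  have hRq : IsPGroup q R := by rw [hRdef]; exact P.isPGroup'.map _
  have hxR : x ∈ Subgroup.normalizer (R : Set G) := by
    rw [hRdef]; exact hP (Subgroup.mem_zpowers x)
  -- T₀ ≤ L
  have hT₀L : (T₀ : Subgroup ↥H).map H.subtype ≤ L := by
    rw [hLdef, hL'def]
    exact Subgroup.map_mono le_sup_left
  -- Q ≤ R
  have hQR : Q ≤ R := by
    have hQT₀ : Q.subgroupOf H ≤ (T₀ : Subgroup ↥H) := by
      apply Cfsg.Agent.Lib.Helper16.normal_pgroup_le_sylow
      · exact (Subgroup.normal_subgroupOf_iff_le_normalizer hQH).mpr hHQ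
      · exact hQ.comap_subtype
    have hQL : Q ≤ L := by
      intro z hz
      apply hT₀L
      exact ⟨⟨z, hQH hz⟩, hQT₀ (Subgroup.mem_subgroupOf.mpr hz), rfl⟩
    have hQP : Q.subgroupOf L ≤ (P : Subgroup ↥L) := by
      apply Cfsg.Agent.Lib.Helper16.normal_pgroup_le_sylow
      · exact (Subgroup.normal_subgroupOf_iff_le_normalizer hQL).mpr (hLH.trans hHQ)
      · exact hQ.comap_subtype
    intro z hz
    rw [hRdef]
    exact ⟨⟨z, hQL hz⟩, hQP (Subgroup.mem_subgroupOf.mpr hz), rfl⟩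
  -- R is Sylow in H
  have hRcard : Nat.card (R.subgroupOf H) = q ^ (Nat.card ↥H).factorization q := by
    have h1 : Nat.card (R.subgroupOf H) = Nat.card R :=
      Nat.card_congr (Subgroup.subgroupOfEquivOfLe (hRL.trans hLH)).toEquiv
    have h2 : Nat.card R = q ^ (Nat.card ↥L).factorization q := by
      rw [hRdef, Subgroup.card_map_of_injective L.subtype_injective, P.card_eq_multiplicity]
    rw [h1, h2]
    congr 1
    -- q-parts of |L| and |H| agree
    have hLpos : Nat.card ↥L ≠ 0 := Nat.card_pos.ne'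
    have hHpos : Nat.card ↥H ≠ 0 := Nat.card_pos.ne'
    apply le_antisymm
    · exact (Nat.factorization_le_iff_dvd hLpos hHpos).mpr (Subgroup.card_dvd_of_le hLH) q
    · have h3 : q ^ (Nat.card ↥H).factorization q ∣ Nat.card ↥L := by
        have h4 : Nat.card ((T₀ : Subgroup ↥H).map H.subtype) = q ^ (Nat.card ↥H).factorization q := by
          rw [Subgroup.card_map_of_injective H.subtype_injective, T₀.card_eq_multiplicity]
        rw [← h4]
        exact Subgroup.card_dvd_of_le hT₀L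
      exact (hqq.pow_dvd_iff_le_factorization hLpos).mp h3
  refine ⟨R, Sylow.ofCard _ hRcard, ?_, hxR, hQR⟩
  rw [Sylow.coe_ofCard, Subgroup.map_subgroupOf_eq_of_le (hRL.trans hLH)]

end

/-- Let G be a finite group, p a prime and x ∈ G an isolated element of order p (the only conjugate of x commuting with x is x) which is not central modulo the largest normal subgroup of order prime to p, while x is central modulo the largest normal subgroup of order prime to p in every proper subgroup containing x, and the image of x is so in every quotient of G by a nontrivial normal subgroup (a minimal counterexample to the Z*_p statement). Then for every prime q, every q-subgroup of G that is normalized by x and maximal among the q-subgroups normalized by x is either trivial or a Sylow q-subgroup of G; and C_G(x) permutes the x-invariant Sylow q-subgroups of G transitively by conjugation. -/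
theorem result {G : Type*} [Group G] [Finite G] {p : ℕ} [Fact p.Prime] (x : G) (hx : orderOf x = p) (hiso : Cfsg.IsIsolated x) (hnz : ¬ Cfsg.InZStar p x) (hmin : ∀ (H : Subgroup G) (hxH : x ∈ H), H ≠ ⊤ → Cfsg.InZStar p (⟨x, hxH⟩ : ↥H)) (hquot : ∀ (N : Subgroup G) [N.Normal], N ≠ ⊥ → Cfsg.InZStar p (QuotientGroup.mk x : G ⧸ N)) (q : ℕ) [Fact q.Prime] : (∀ Q : Subgroup G, IsPGroup q ↥Q → x ∈ Subgroup.normalizer (Q : Set G) → (∀ R : Subgroup G, IsPGroup q ↥R → x ∈ Subgroup.normalizer (R : Set G) → Q ≤ R → R = Q) → Q = ⊥ ∨ ∃ S : Sylow q G, (S : Subgroup G) = Q) ∧ (∀ S₁ S₂ : Sylow q G, x ∈ Subgroup.normalizer ((S₁ : Subgroup G) : Set G) → x ∈ Subgroup.normalizer ((S₂ : Subgroup G) : Set G) → ∃ c ∈ Subgroup.centralizer ({x} : Set G), (S₁ : Subgroup G).map (MulAut.conj c).toMonoidHom = (S₂ : Subgroup G)) := by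
  have hpp : p.Prime := Fact.out
  have hqq : q.Prime := Fact.out
  have hO := core_eq_bot hnz hquot
  refine ⟨?_, fun S₁ S₂ h₁ h₂ => conj_of_invariant_sylow ⟨1, by rw [hx, pow_one]⟩ hiso S₁ S₂ h₁ h₂⟩
  intro Q hQ hxQ hmax
  by_cases hqp : q = p
  · -- q = p
    subst hqp
    right
    have hzp : IsPGroup q (Subgroup.zpowers x) := by
      apply IsPGroup.of_card (n := 1)
      rw [Nat.card_zpowers, hx, pow_one]
    have hR : IsPGroup q (Q ⊔ Subgroup.zpowers x : Subgroup G) :=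
      hQ.to_sup_of_normal_left' hzp (Subgroup.zpowers_le.mpr hxQ)
    have hxR : x ∈ (Q ⊔ Subgroup.zpowers x : Subgroup G) :=
      le_sup_right (α := Subgroup G) (Subgroup.mem_zpowers x)
    have h1 := hmax _ hR (Subgroup.le_normalizer hxR) le_sup_left
    have hxQ' : x ∈ Q := h1 ▸ hxR
    obtain ⟨S, hS⟩ := hQ.exists_le_sylow
    exact ⟨S, hmax S S.isPGroup' (Subgroup.le_normalizer (hS hxQ')) hS⟩
  · by_cases hQbot : Q = ⊥
    · exact Or.inl hQbot
    right
    -- H = N_G(Q) is proper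
    have hHne : Subgroup.normalizer (Q : Set G) ≠ ⊤ := by
      intro h
      have hQn : Q.Normal := Subgroup.normalizer_eq_top_iff.mp h
      apply hQbot
      apply le_bot_iff.mp
      rw [← hO]
      apply Cfsg.Agent.Lib.Helper20.le_pPrimeCore' hQn
      obtain ⟨k, hk⟩ := hQ.exists_card_eq
      rw [hk]
      exact Nat.Coprime.pow_left _ ((Nat.coprime_primes hqq hpp).mpr hqp)
    obtain ⟨H, hHdef⟩ : ∃ H : Subgroup G, H = Subgroup.normalizer (Q : Set G) := ⟨_, rfl⟩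
    have hxH : x ∈ H := hHdef ▸ hxQ
    have hQH : Q ≤ H := hHdef ▸ Subgroup.le_normalizer
    have hHQ : H ≤ Subgroup.normalizer (Q : Set G) := hHdef ▸ le_rfl
    have hZ := hmin H hxH (hHdef ▸ hHne)
    obtain ⟨R, T, hTR, hxR, hQR⟩ := exists_invariant_sylow_of_inZStar hx hqp hxH hZ hQH hHQ hQ
    have hRq : IsPGroup q R := by rw [← hTR]; exact T.isPGroup'.map _
    have hRQ : R = Q := hmax R hRq hxR hQR
    rw [hRQ] at hTR
    -- Q is Sylow in G
    obtain ⟨S, hS⟩ := hQ.exists_le_sylow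
    refine ⟨S, ?_⟩
    by_contra hne
    obtain ⟨y, hyS, hyQ, hyN⟩ := Cfsg.Agent.S3870.exists_normalizing_not_mem S hS (Ne.symm hne)
    have hyH : y ∈ H := hHdef ▸ hyN
    obtain ⟨Q₂, hQ₂def⟩ : ∃ Q₂ : Subgroup G, Q₂ = Q ⊔ Subgroup.zpowers y := ⟨_, rfl⟩
    have hQ₂S : Q₂ ≤ (S : Subgroup G) := by
      rw [hQ₂def]; exact sup_le hS (Subgroup.zpowers_le.mpr hyS)
    have hQ₂q : IsPGroup q Q₂ := S.isPGroup'.to_le hQ₂S
    have hTle : (T : Subgroup ↥H) ≤ Q₂.subgroupOf H := by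
      intro t ht
      rw [Subgroup.mem_subgroupOf, hQ₂def]
      apply le_sup_left (α := Subgroup G)
      rw [← hTR]
      exact ⟨t, ht, rfl⟩
    have heq : Q₂.subgroupOf H = (T : Subgroup ↥H) := T.is_maximal' hQ₂q.comap_subtype hTle
    have hy₂ : (⟨y, hyH⟩ : ↥H) ∈ Q₂.subgroupOf H := by
      rw [Subgroup.mem_subgroupOf, hQ₂def]
      exact le_sup_right (α := Subgroup G) (Subgroup.mem_zpowers y)
    rw [heq] at hy₂
    apply hyQ
    rw [← hTR]
    exact ⟨_, hy₂, rfl⟩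

end Cfsg.Agent.S2975
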