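import Cfsg.Statements.S2998
import Cfsg.Agent.Lib.Helper17.SylowConj
open Cfsg.Agent.Lib.Helper17

set_option autoImplicit false
open Cfsg

namespace Cfsg.Agent.S2998

/-- Let G be a finite group, p a prime, P a Sylow p-subgroup of G and x ∈ P an element such that N_G(R) ≤ C_G(x) for every nontrivial subgroup R of P. Then P ≤ C_G(x); every G-conjugate of x lying in P equals x (so g ∈ C_G(x) whenever g x g⁻¹ ∈ P); and for every normal subgroup N of G, the image of x in G ⧸ N has the same property with respect to the image of P: the normalizer of every nontrivial subgroup of the image of P centralizes the image of x. -/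
theorem result {G : Type*} [Group G] [Finite G] {p : ℕ} [Fact p.Prime] (P : Sylow p G) (x : G) (hxP : x ∈ (P : Subgroup G)) (hlc : ∀ R : Subgroup G, R ≤ (P : Subgroup G) → R ≠ ⊥ → Subgroup.normalizer (R : Set G) ≤ Subgroup.centralizer ({x} : Set G)) : (P : Subgroup G) ≤ Subgroup.centralizer ({x} : Set G) ∧ (∀ g : G, g * x * g⁻¹ ∈ (P : Subgroup G) → g * x * g⁻¹ = x) ∧ ∀ (N : Subgroup G) [N.Normal], ∀ R : Subgroup (G ⧸ N), R ≤ (P : Subgroup G).map (QuotientGroup.mk' N) → R ≠ ⊥ → Subgroup.normalizer (R : Set (G ⧸ N)) ≤ Subgroup.centralizer ({(QuotientGroup.mk x : G ⧸ N)} : Set (G ⧸ N)) := by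
  classical
  have hcz : ∀ g : G, g ∈ Subgroup.centralizer ({x} : Set G) ↔ x * g = g * x := by
    intro g
    rw [Subgroup.mem_centralizer_iff]
    simp only [Set.mem_singleton_iff, forall_eq]
  -- (1)
  have h1 : (P : Subgroup G) ≤ Subgroup.centralizer ({x} : Set G) := by
    by_cases hP : (P : Subgroup G) = ⊥
    · intro u _
      have hx1 : x = 1 := by
        rw [hP] at hxP
        exact Subgroup.mem_bot.mp hxP
      rw [hcz, hx1, one_mul, mul_one]
    · exact Subgroup.le_normalizer.trans (hlc _ le_rfl hP)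
  refine ⟨h1, ?_, ?_⟩
  · -- (2)
    intro g hy
    by_cases hx1 : x = 1
    · rw [hx1, mul_one, mul_inv_cancel]
    have hy1 : g * x * g⁻¹ ≠ 1 := by
      intro h
      apply hx1
      have : x = g⁻¹ * (g * x * g⁻¹) * g := by group
      rw [this, h, mul_one, inv_mul_cancel]
    have hPne : (P : Subgroup G) ≠ ⊥ := by
      intro h
      rw [h, Subgroup.mem_bot] at hxP
      exact hx1 hxP
    have hCy : Subgroup.centralizer ({g * x * g⁻¹} : Set G) ≤ Subgroup.centralizer ({x} : Set G) := by
      have hzy : Subgroup.zpowers (g * x * g⁻¹) ≤ P := Subgroup.zpowers_le.mpr hy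
      have hzy1 : Subgroup.zpowers (g * x * g⁻¹) ≠ ⊥ := by
        rwa [Ne, Subgroup.zpowers_eq_bot]
      refine le_trans ?_ (hlc _ hzy hzy1)
      rw [← Subgroup.centralizer_closure, ← Subgroup.zpowers_eq_closure]
      exact Subgroup.centralizer_le_normalizer _
    have hcard : Nat.card (Subgroup.centralizer ({x} : Set G)) ≤
        Nat.card (Subgroup.centralizer ({g * x * g⁻¹} : Set G)) := by
      have hmap : (Subgroup.centralizer ({x} : Set G)).map (MulAut.conj g).toMonoidHom ≤
          Subgroup.centralizer ({g * x * g⁻¹} : Set G) := by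
        rintro _ ⟨c, hc, rfl⟩
        rw [Subgroup.mem_centralizer_iff]
        intro h hh
        rw [Set.mem_singleton_iff] at hh
        rw [hh]
        have hc' := (hcz c).mp hc
        show g * x * g⁻¹ * (g * c * g⁻¹) = (g * c * g⁻¹) * (g * x * g⁻¹)
        calc g * x * g⁻¹ * (g * c * g⁻¹) = g * (x * c) * g⁻¹ := by group
          _ = g * (c * x) * g⁻¹ := by rw [hc']
          _ = g * c * g⁻¹ * (g * x * g⁻¹) := by group
      have := Subgroup.card_le_of_le hmap
      rwa [Subgroup.card_map_of_injective (MulAut.conj g).injective] at this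
    have hCeq : Subgroup.centralizer ({g * x * g⁻¹} : Set G) = Subgroup.centralizer ({x} : Set G) :=
      Subgroup.eq_of_le_of_card_ge hCy hcard
    have hxc : x ∈ Subgroup.centralizer ((P : Subgroup G) : Set G) := by
      rw [Subgroup.mem_centralizer_iff]
      intro u hu
      exact ((hcz u).mp (h1 hu)).symm
    have hyc : g * x * g⁻¹ ∈ Subgroup.centralizer ((P : Subgroup G) : Set G) := by
      rw [Subgroup.mem_centralizer_iff]
      intro u hu
      have hu' : u ∈ Subgroup.centralizer ({g * x * g⁻¹} : Set G) := by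
        rw [hCeq]
        exact h1 hu
      rw [Subgroup.mem_centralizer_iff] at hu'
      exact (hu' _ (Set.mem_singleton _)).symm
    obtain ⟨n, hn, hn'⟩ := Sylow.conj_eq_normalizer_conj_of_mem_centralizer P x g⁻¹ hxc
      (by rwa [inv_inv])
    rw [inv_inv] at hn'
    have hnc := hlc _ le_rfl hPne hn
    have hnx := (hcz n).mp hnc
    rw [hn', mul_assoc, hnx, ← mul_assoc, inv_mul_cancel, one_mul]
  · -- (3)
    intro N hNn R hR hRne gbar hgbar
    obtain ⟨g, rfl⟩ := QuotientGroup.mk'_surjective N gbar
    have hπ1 : ∀ n ∈ N, QuotientGroup.mk' N n = 1 :=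
      fun n hn => (QuotientGroup.eq_one_iff n).mpr hn
    have hπ1' : ∀ n : G, QuotientGroup.mk' N n = 1 → n ∈ N :=
      fun n hn => (QuotientGroup.eq_one_iff n).mp hn
    have hNR1 : N ≤ R.comap (QuotientGroup.mk' N) := by
      intro n hn
      show QuotientGroup.mk' N n ∈ R
      rw [hπ1 n hn]
      exact one_mem R
    have hR0ne : (P : Subgroup G) ⊓ R.comap (QuotientGroup.mk' N) ≠ ⊥ := by
      obtain ⟨⟨r, hrR⟩, hr1⟩ := Subgroup.ne_bot_iff_exists_ne_one.mp hRne
      obtain ⟨u, huP, hur⟩ := hR hrR
      intro hbot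
      have hu : u ∈ (P : Subgroup G) ⊓ R.comap (QuotientGroup.mk' N) := by
        refine ⟨huP, ?_⟩
        show QuotientGroup.mk' N u ∈ R
        rw [hur]
        exact hrR
      rw [hbot, Subgroup.mem_bot] at hu
      apply hr1
      apply Subtype.ext
      show r = 1
      rw [← hur, hu, map_one]
    have hded : R.comap (QuotientGroup.mk' N) ≤
        ((P : Subgroup G) ⊓ R.comap (QuotientGroup.mk' N)) ⊔ N := by
      intro r hr
      have hr' : QuotientGroup.mk' N r ∈ R := hr
      obtain ⟨u, huP, hur⟩ := hR hr'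
      have huR1 : u ∈ R.comap (QuotientGroup.mk' N) := by
        show QuotientGroup.mk' N u ∈ R
        rw [hur]
        exact hr'
      have hker : u⁻¹ * r ∈ N := by
        apply hπ1'
        rw [map_mul, map_inv, hur, inv_mul_cancel]
      have : r = u * (u⁻¹ * r) := by group
      rw [this]
      exact mul_mem (Subgroup.mem_sup_left ⟨huP, huR1⟩) (Subgroup.mem_sup_right hker)
    have hidx : ¬ p ∣ ((P : Subgroup G) ⊓ R.comap (QuotientGroup.mk' N)).relIndex
        (R.comap (QuotientGroup.mk' N)) := by
      rw [relIndex_inf_eq_of_le_sup (P : Subgroup G) N _ hNR1 hded, Subgroup.inf_relIndex_right]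
      exact not_dvd_relIndex_of_sylow_of_normal P N
    have hR0p : IsPGroup p ↥((P : Subgroup G) ⊓ R.comap (QuotientGroup.mk' N)) :=
      P.isPGroup'.to_le inf_le_left
    have hTp : IsPGroup p ↥(((P : Subgroup G) ⊓ R.comap (QuotientGroup.mk' N)).map
        (MulAut.conj g).toMonoidHom) := hR0p.map _
    have hTR1 : ((P : Subgroup G) ⊓ R.comap (QuotientGroup.mk' N)).map
        (MulAut.conj g).toMonoidHom ≤ R.comap (QuotientGroup.mk' N) := by
      rintro _ ⟨u, hu, rfl⟩
      show QuotientGroup.mk' N (g * u * g⁻¹) ∈ R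
      rw [map_mul, map_mul, map_inv]
      exact (Subgroup.mem_normalizer_iff.mp hgbar (QuotientGroup.mk' N u)).mp hu.2
    obtain ⟨k, hkR1, hk⟩ := exists_conj_le_of_not_dvd_relIndex (R.comap (QuotientGroup.mk' N))
      ((P : Subgroup G) ⊓ R.comap (QuotientGroup.mk' N)) _ hR0p hidx hTp hTR1
    have hkgN : k * g ∈ Subgroup.normalizer
        (((P : Subgroup G) ⊓ R.comap (QuotientGroup.mk' N) : Subgroup G) : Set G) := by
      apply Subgroup.mem_normalizer_fintype
      intro u hu
      have h := hk (g * u * g⁻¹) (Subgroup.mem_map_of_mem _ hu)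
      have e : k * g * u * (k * g)⁻¹ = k * (g * u * g⁻¹) * k⁻¹ := by group
      rw [e]
      exact h
    have hkgC := hlc _ inf_le_left hR0ne hkgN
    have hkgx := (hcz _).mp hkgC
    -- image of k centralizes image of x
    have hkx : QuotientGroup.mk' N x * QuotientGroup.mk' N k =
        QuotientGroup.mk' N k * QuotientGroup.mk' N x := by
      have hk' : QuotientGroup.mk' N k ∈ R := hkR1
      obtain ⟨u, huP, huk⟩ := hR hk'
      have hux := (hcz u).mp (h1 huP)
      rw [← huk, ← map_mul, ← map_mul, hux]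
    have hfin : QuotientGroup.mk' N x * QuotientGroup.mk' N g =
        QuotientGroup.mk' N g * QuotientGroup.mk' N x := by
      have h2 := congrArg (QuotientGroup.mk' N) hkgx
      rw [map_mul, map_mul, map_mul, map_mul, ← mul_assoc, hkx, mul_assoc, mul_assoc] at h2
      exact mul_left_cancel h2
    rw [Subgroup.mem_centralizer_iff]
    intro h hh
    rw [Set.mem_singleton_iff] at hh
    rw [hh]
    exact hfin

end Cfsg.Agent.S2998
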