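import Cfsg.Statements.S3004
import Mathlib
-- import your own Cfsg.Agent.* helpers here

set_option autoImplicit false
open Cfsg

namespace Cfsg.Agent.S3004

open scoped Pointwise

theorem card_mul_relIndex' {G : Type*} [Group G] {H K : Subgroup G} (h : H ≤ K) :
    Nat.card H * H.relIndex K = Nat.card K := by
  have := Subgroup.relIndex_mul_relIndex (⊥ : Subgroup G) H K bot_le h
  rwa [Subgroup.relIndex_bot_left, Subgroup.relIndex_bot_left] at this

theorem relIndex_ne_zero' {G : Type*} [Group G] [Finite G] (H K : Subgroup G) : H.relIndex K ≠ 0 := by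
  unfold Subgroup.relIndex
  exact Subgroup.index_ne_zero_of_finite

theorem card_mul_le_sup_inf {G : Type*} [Group G] [Finite G] (H K : Subgroup G) :
    Nat.card H * Nat.card K ≤ Nat.card ↥(H ⊔ K) * Nat.card ↥(H ⊓ K) := by
  have h1 : Nat.card ↥(H ⊓ K) * (H ⊓ K).relIndex K = Nat.card K := card_mul_relIndex' inf_le_right
  have h2 : Nat.card H * H.relIndex (H ⊔ K) = Nat.card ↥(H ⊔ K) := card_mul_relIndex' le_sup_left
  have h3 : (H ⊓ K).relIndex K = H.relIndex K := Subgroup.inf_relIndex_right H K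
  have h4 : H.relIndex K ≤ H.relIndex (H ⊔ K) :=
    Subgroup.relIndex_le_of_le_right le_sup_right (relIndex_ne_zero' _ _)
  rw [← h1, ← h2, h3]
  calc Nat.card H * (Nat.card ↥(H ⊓ K) * H.relIndex K)
      ≤ Nat.card H * (Nat.card ↥(H ⊓ K) * H.relIndex (H ⊔ K)) := by gcongr
    _ = Nat.card H * H.relIndex (H ⊔ K) * Nat.card ↥(H ⊓ K) := by ring

theorem sup_eq_mul_of_card {G : Type*} [Group G] [Finite G] (H K : Subgroup G)
    (h : Nat.card H * Nat.card K = Nat.card ↥(H ⊔ K) * Nat.card ↥(H ⊓ K)) :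
    ((H ⊔ K : Subgroup G) : Set G) = (H : Set G) * (K : Set G) := by
  have h1 : Nat.card ↥(H ⊓ K) * (H ⊓ K).relIndex K = Nat.card K := card_mul_relIndex' inf_le_right
  have h2 : Nat.card H * H.relIndex (H ⊔ K) = Nat.card ↥(H ⊔ K) := card_mul_relIndex' le_sup_left
  have h3 : (H ⊓ K).relIndex K = H.relIndex K := Subgroup.inf_relIndex_right H K
  have hH : 0 < Nat.card H := Nat.card_pos
  have hI : 0 < Nat.card ↥(H ⊓ K) := Nat.card_pos
  have h5 : H.relIndex K = H.relIndex (H ⊔ K) := by
    rw [← h1, ← h2, h3] at h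
    have : Nat.card H * Nat.card ↥(H ⊓ K) * H.relIndex K =
        Nat.card H * Nat.card ↥(H ⊓ K) * H.relIndex (H ⊔ K) := by
      calc _ = Nat.card H * (Nat.card ↥(H ⊓ K) * H.relIndex K) := by ring
        _ = Nat.card H * H.relIndex (H ⊔ K) * Nat.card ↥(H ⊓ K) := h
        _ = _ := by ring
    exact Nat.eq_of_mul_eq_mul_left (Nat.mul_pos hH hI) this
  -- the embedding of coset spaces is surjective
  let e := Subgroup.quotientSubgroupOfEmbeddingOfLE H (le_sup_right : K ≤ H ⊔ K)
  have hsurj : Function.Surjective e := by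
    have hcard : Nat.card (↥K ⧸ H.subgroupOf K) = Nat.card (↥(H ⊔ K) ⧸ H.subgroupOf (H ⊔ K)) := h5
    exact ((Nat.bijective_iff_injective_and_card e).mpr ⟨e.injective, hcard⟩).surjective
  have key : ∀ x ∈ H ⊔ K, ∃ k ∈ K, ∃ h' ∈ H, x = k * h' := by
    intro x hx
    obtain ⟨q, hq⟩ := hsurj (QuotientGroup.mk ⟨x, hx⟩)
    obtain ⟨k, rfl⟩ := QuotientGroup.mk_surjective q
    rw [Subgroup.quotientSubgroupOfEmbeddingOfLE_apply_mk, QuotientGroup.eq, Subgroup.mem_subgroupOf] at hq
    refine ⟨k, k.2, _, hq, ?_⟩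
    simp
  apply Set.Subset.antisymm
  · intro x hx
    obtain ⟨k, hk, h', hh', hxe⟩ := key x⁻¹ ((H ⊔ K).inv_mem hx)
    refine ⟨h'⁻¹, H.inv_mem hh', k⁻¹, K.inv_mem hk, ?_⟩
    simp only
    rw [← mul_inv_rev, ← hxe, inv_inv]
  · rintro _ ⟨a, ha, b, hb, rfl⟩
    exact (H ⊔ K).mul_mem (Subgroup.mem_sup_left ha) (Subgroup.mem_sup_right hb)

/-- The Chermak–Delgado measure. -/
noncomputable def cdm {P : Type*} [Group P] (R : Subgroup P) : ℕ :=
  Nat.card ↥R * Nat.card ↥(Subgroup.centralizer (R : Set P))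

theorem cdm_le_max {P : Type*} [Group P] [Finite P] (R : Subgroup P) :
    cdm R ≤ Cfsg.maxCentralizerProduct P := by
  unfold Cfsg.maxCentralizerProduct
  apply le_csSup
  · refine ⟨Nat.card P * Nat.card P, ?_⟩
    rintro k ⟨R', rfl⟩
    exact Nat.mul_le_mul (Subgroup.card_le_card_group _) (Subgroup.card_le_card_group _)
  · exact ⟨R, rfl⟩

theorem centralizer_sup_eq {P : Type*} [Group P] (H K : Subgroup P) :
    Subgroup.centralizer ((H ⊔ K : Subgroup P) : Set P) =
      Subgroup.centralizer (H : Set P) ⊓ Subgroup.centralizer (K : Set P) := by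
  apply le_antisymm
  · exact le_inf (Subgroup.centralizer_le (by exact_mod_cast (le_sup_left : H ≤ H ⊔ K)))
      (Subgroup.centralizer_le (by exact_mod_cast (le_sup_right : K ≤ H ⊔ K)))
  · rw [Subgroup.le_centralizer_iff]
    refine sup_le ?_ ?_
    · rw [Subgroup.le_centralizer_iff]; exact inf_le_left
    · rw [Subgroup.le_centralizer_iff]; exact inf_le_right

theorem centralizer_sup_le_inf {P : Type*} [Group P] (H K : Subgroup P) :
    Subgroup.centralizer (H : Set P) ⊔ Subgroup.centralizer (K : Set P) ≤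
      Subgroup.centralizer ((H ⊓ K : Subgroup P) : Set P) := by
  refine sup_le ?_ ?_
  · exact Subgroup.centralizer_le (by exact_mod_cast (inf_le_left : H ⊓ K ≤ H))
  · exact Subgroup.centralizer_le (by exact_mod_cast (inf_le_right : H ⊓ K ≤ K))

/-- Let P be a finite p-group and call a subgroup R of P measure-largest if |R|·|C_P(R)| is as large as possible among subgroups of P. If Q and R are measure-largest then QR = RQ is a subgroup, QR and Q ∩ R are measure-largest, C_P(Q) is measure-largest, Q = C_P(C_P(Q)), and C_P(Q ∩ R) = C_P(Q)·C_P(R). -/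
theorem result {p : ℕ} [Fact p.Prime] (P : Type*) [Group P] [Finite P] (hP : IsPGroup p P) (Q R : Subgroup P) (hQ : Cfsg.IsCentralizerLarge Q) (hR : Cfsg.IsCentralizerLarge R) : ((Q ⊔ R : Subgroup P) : Set P) = (Q : Set P) * (R : Set P) ∧ Cfsg.IsCentralizerLarge (Q ⊔ R) ∧ Cfsg.IsCentralizerLarge (Q ⊓ R) ∧ Cfsg.IsCentralizerLarge (Subgroup.centralizer (Q : Set P)) ∧ Q = Subgroup.centralizer ((Subgroup.centralizer (Q : Set P) : Subgroup P) : Set P) ∧ ((Subgroup.centralizer (Q : Set P) ⊔ Subgroup.centralizer (R : Set P) : Subgroup P) : Set P) = (Subgroup.centralizer (Q : Set P) : Set P) * (Subgroup.centralizer (R : Set P) : Set P) ∧ Subgroup.centralizer ((Q ⊓ R : Subgroup P) : Set P) = Subgroup.centralizer (Q : Set P) ⊔ Subgroup.centralizer (R : Set P) := by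
  set M := Cfsg.maxCentralizerProduct P with hM
  set CQ := Subgroup.centralizer (Q : Set P) with hCQ
  set CR := Subgroup.centralizer (R : Set P) with hCR
  have hQ' : Nat.card ↥Q * Nat.card ↥CQ = M := hQ
  have hR' : Nat.card ↥R * Nat.card ↥CR = M := hR
  -- abbreviations for the cardinalities
  have hA := card_mul_le_sup_inf Q R
  have hB := card_mul_le_sup_inf CQ CR
  have hc : Nat.card ↥(CQ ⊔ CR) ≤ Nat.card ↥(Subgroup.centralizer ((Q ⊓ R : Subgroup P) : Set P)) :=
    Subgroup.card_le_of_le (centralizer_sup_le_inf Q R)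
  have hm1 : Nat.card ↥(Q ⊔ R) * Nat.card ↥(CQ ⊓ CR) ≤ M := by
    have := cdm_le_max (Q ⊔ R)
    unfold cdm at this
    rwa [centralizer_sup_eq] at this
  have hm2 : Nat.card ↥(Q ⊓ R) * Nat.card ↥(Subgroup.centralizer ((Q ⊓ R : Subgroup P) : Set P)) ≤ M :=
    cdm_le_max (Q ⊓ R)
  have hMpos : 0 < M := by
    rw [← hQ']; exact Nat.mul_pos Nat.card_pos Nat.card_pos
  -- name the numbers
  generalize ha : Nat.card ↥(Q ⊔ R) = a at *
  generalize hb : Nat.card ↥(Q ⊓ R) = b at *
  generalize hc' : Nat.card ↥(CQ ⊓ CR) = c at *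
  generalize hd : Nat.card ↥(CQ ⊔ CR) = d at *
  generalize he : Nat.card ↥(Subgroup.centralizer ((Q ⊓ R : Subgroup P) : Set P)) = e at *
  generalize hq : Nat.card ↥Q = q at *
  generalize hr : Nat.card ↥R = r at *
  generalize hcq : Nat.card ↥CQ = cq at *
  generalize hcr : Nat.card ↥CR = cr at *
  -- hA : q * r ≤ a * b, hB : cq * cr ≤ d * c, hc : d ≤ e, hm1 : a * c ≤ M, hm2 : b * e ≤ M
  -- q * cq = M, r * cr = M
  have hapos : 0 < a := by rw [← ha]; exact Nat.card_pos
  have hbpos : 0 < b := by rw [← hb]; exact Nat.card_pos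
  have hcpos : 0 < c := by rw [← hc']; exact Nat.card_pos
  have hdpos : 0 < d := by rw [← hd]; exact Nat.card_pos
  have hMM : M * M ≤ (a * c) * (b * e) := by
    calc M * M = (q * cq) * (r * cr) := by rw [hQ', hR']
      _ = (q * r) * (cq * cr) := by ring
      _ ≤ (a * b) * (d * c) := Nat.mul_le_mul hA hB
      _ ≤ (a * b) * (e * c) := by gcongr
      _ = (a * c) * (b * e) := by ring
  have hac : a * c = M := by
    by_contra hne
    have hlt : a * c < M := lt_of_le_of_ne hm1 hne
    have : (a * c) * (b * e) < M * M := by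
      calc (a * c) * (b * e) ≤ (a * c) * M := by gcongr
        _ < M * M := by gcongr
    omega
  have hbe : b * e = M := by
    by_contra hne
    have hlt : b * e < M := lt_of_le_of_ne hm2 hne
    have : (a * c) * (b * e) < M * M := by
      calc (a * c) * (b * e) = M * (b * e) := by rw [hac]
        _ < M * M := by gcongr
    omega
  -- now all inequalities are equalities
  have hchain : (q * r) * (cq * cr) = (a * b) * (e * c) := by
    calc (q * r) * (cq * cr) = (q * cq) * (r * cr) := by ring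
      _ = M * M := by rw [hQ', hR']
      _ = (a * c) * (b * e) := by rw [hac, hbe]
      _ = (a * b) * (e * c) := by ring
  have hqrpos : 0 < q * r := by
    rw [← hq, ← hr]; exact Nat.mul_pos Nat.card_pos Nat.card_pos
  have hcqcrpos : 0 < cq * cr := by
    rw [← hcq, ← hcr]; exact Nat.mul_pos Nat.card_pos Nat.card_pos
  have hde : d = e := by
    by_contra hne
    have hlt : d < e := lt_of_le_of_ne hc hne
    have : (q * r) * (cq * cr) < (a * b) * (e * c) := by
      calc (q * r) * (cq * cr) ≤ (a * b) * (d * c) := Nat.mul_le_mul hA hB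
        _ < (a * b) * (e * c) := by
          apply Nat.mul_lt_mul_of_pos_left
          · exact Nat.mul_lt_mul_of_pos_right hlt hcpos
          · exact Nat.mul_pos hapos hbpos
    omega
  have hA' : q * r = a * b := by
    by_contra hne
    have hlt : q * r < a * b := lt_of_le_of_ne hA hne
    have : (q * r) * (cq * cr) < (a * b) * (e * c) := by
      calc (q * r) * (cq * cr) < (a * b) * (cq * cr) := Nat.mul_lt_mul_of_pos_right hlt hcqcrpos
        _ ≤ (a * b) * (d * c) := by gcongr
        _ = (a * b) * (e * c) := by rw [hde]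
    omega
  have hB' : cq * cr = d * c := by
    by_contra hne
    have hlt : cq * cr < d * c := lt_of_le_of_ne hB hne
    have : (q * r) * (cq * cr) < (a * b) * (e * c) := by
      calc (q * r) * (cq * cr) < (q * r) * (d * c) := Nat.mul_lt_mul_of_pos_left hlt hqrpos
        _ = (a * b) * (e * c) := by rw [hA', hde]
    omega
  -- C(Q) is large and Q = C(C(Q))
  have hQCC : Q ≤ Subgroup.centralizer ((CQ : Subgroup P) : Set P) := by
    rw [Subgroup.le_centralizer_iff]
  have hm3 : cq * Nat.card ↥(Subgroup.centralizer ((CQ : Subgroup P) : Set P)) ≤ M := by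
    have := cdm_le_max CQ
    unfold cdm at this
    rwa [hcq] at this
  have hcc : Nat.card ↥(Subgroup.centralizer ((CQ : Subgroup P) : Set P)) = q := by
    apply le_antisymm
    · have hcqpos : 0 < cq := by rw [← hcq]; exact Nat.card_pos
      have : cq * Nat.card ↥(Subgroup.centralizer ((CQ : Subgroup P) : Set P)) ≤ cq * q := by
        rw [mul_comm cq q, hQ']; exact hm3
      exact Nat.le_of_mul_le_mul_left this hcqpos
    · rw [← hq]; exact Subgroup.card_le_of_le hQCC
  refine ⟨?_, ?_, ?_, ?_, ?_, ?_, ?_⟩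
  · apply sup_eq_mul_of_card
    rw [hq, hr, ha, hb]; exact hA'
  · show Nat.card ↥(Q ⊔ R) * Nat.card ↥(Subgroup.centralizer ((Q ⊔ R : Subgroup P) : Set P)) = M
    rw [centralizer_sup_eq, ha, hc']; exact hac
  · show Nat.card ↥(Q ⊓ R) * Nat.card ↥(Subgroup.centralizer ((Q ⊓ R : Subgroup P) : Set P)) = M
    rw [hb, he]; exact hbe
  · show Nat.card ↥CQ * Nat.card ↥(Subgroup.centralizer ((CQ : Subgroup P) : Set P)) = M
    rw [hcq, hcc, mul_comm]; exact hQ'
  · apply Subgroup.eq_of_le_of_card_ge hQCC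
    rw [hcc, hq]
  · apply sup_eq_mul_of_card
    rw [hcq, hcr, hd, hc']; exact hB'
  · symm
    apply Subgroup.eq_of_le_of_card_ge (centralizer_sup_le_inf Q R)
    rw [hd, he, hde]

end Cfsg.Agent.S3004
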