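import Cfsg.Statements.S3005
import Mathlib
import Cfsg.Agent.S3004
-- import your own Cfsg.Agent.* helpers here

set_option autoImplicit false
open Cfsg

namespace Cfsg.Agent.S3005

open scoped Pointwise
open Cfsg.Agent.S3004

/-- The centre of a subgroup, mapped into the ambient group, is `Q ⊓ C(Q)`. -/
theorem map_center_eq {P : Type*} [Group P] (Q : Subgroup P) :
    (Subgroup.center ↥Q).map Q.subtype = Q ⊓ Subgroup.centralizer (Q : Set P) := by
  ext x
  simp only [Subgroup.mem_map, Subgroup.mem_center_iff, Subgroup.mem_inf,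
    Subgroup.mem_centralizer_iff, SetLike.mem_coe, Subgroup.subtype_apply]
  constructor
  · rintro ⟨y, hy, rfl⟩
    refine ⟨y.2, fun z hz => ?_⟩
    have := hy ⟨z, hz⟩
    exact congrArg Subtype.val this
  · rintro ⟨hxQ, hx⟩
    refine ⟨⟨x, hxQ⟩, fun z => ?_, rfl⟩
    apply Subtype.ext
    exact hx z.1 z.2

theorem card_center_eq {P : Type*} [Group P] (Q : Subgroup P) :
    Nat.card ↥(Subgroup.center ↥Q) = Nat.card ↥(Q ⊓ Subgroup.centralizer (Q : Set P)) := by
  rw [← map_center_eq, Subgroup.card_subtype]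

/-- the two maxima agree -/
theorem max_eq {p : ℕ} [Fact p.Prime] (P : Type*) [Group P] [Finite P] (hP : IsPGroup p P) :
    Cfsg.maxCentralProduct P = Cfsg.maxCentralizerProduct P := by
  have hbdd : BddAbove {k : ℕ | ∃ R : Subgroup P, Nat.card ↥R * Nat.card ↥(Subgroup.centralizer (R : Set P)) = k} := by
    refine ⟨Nat.card P * Nat.card P, ?_⟩
    rintro k ⟨R', rfl⟩
    exact Nat.mul_le_mul (Subgroup.card_le_card_group _) (Subgroup.card_le_card_group _)
  have hne : {k : ℕ | ∃ R : Subgroup P, Nat.card ↥R * Nat.card ↥(Subgroup.centralizer (R : Set P)) = k}.Nonempty :=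
    ⟨_, ⊥, rfl⟩
  have hbdd2 : BddAbove {k : ℕ | ∃ R : Subgroup P, Nat.card ↥R * Nat.card ↥(Subgroup.center ↥R) = k} := by
    refine ⟨Nat.card P * Nat.card P, ?_⟩
    rintro k ⟨R', rfl⟩
    refine Nat.mul_le_mul (Subgroup.card_le_card_group _) ?_
    rw [card_center_eq]
    exact Subgroup.card_le_card_group _
  have hne2 : {k : ℕ | ∃ R : Subgroup P, Nat.card ↥R * Nat.card ↥(Subgroup.center ↥R) = k}.Nonempty :=
    ⟨_, ⊥, rfl⟩
  apply le_antisymm
  · unfold Cfsg.maxCentralProduct
    apply csSup_le hne2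
    rintro k ⟨R, rfl⟩
    rw [card_center_eq]
    calc Nat.card ↥R * Nat.card ↥(R ⊓ Subgroup.centralizer (R : Set P))
        ≤ Nat.card ↥R * Nat.card ↥(Subgroup.centralizer (R : Set P)) := by
          gcongr
          exact Subgroup.card_le_of_le inf_le_right
      _ ≤ Cfsg.maxCentralizerProduct P := cdm_le_max R
  · obtain ⟨R, hR⟩ := Nat.sSup_mem hne hbdd
    have hRl : Cfsg.IsCentralizerLarge R := hR
    obtain ⟨-, -, -, hCl, hRCC, -, -⟩ := Cfsg.Agent.S3004.result P hP R R hRl hRl
    obtain ⟨-, hTl, -⟩ := Cfsg.Agent.S3004.result P hP R _ hRl hCl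
    unfold Cfsg.maxCentralProduct
    apply le_csSup hbdd2
    refine ⟨R ⊔ Subgroup.centralizer (R : Set P), ?_⟩
    rw [card_center_eq, ← hTl, centralizer_sup_eq, ← hRCC]
    have e : (R ⊔ Subgroup.centralizer (R : Set P)) ⊓ (Subgroup.centralizer (R : Set P) ⊓ R) =
        Subgroup.centralizer (R : Set P) ⊓ R :=
      inf_eq_right.mpr (inf_le_right.trans le_sup_left)
    rw [e]

/-- Let P be a finite p-group; call R ≤ P centrally large if |R|·|Z(R)| is as large as possible among subgroups of P, and measure-largest if |R|·|C_P(R)| is as large as possible. Then: a centrally large Q is measure-largest with C_P(Q) = Z(Q); a measure-largest Q is centrally large if and only if C_P(Q) ≤ Q; if Q and R are centrally large then QR = RQ is a centrally large subgroup; and the subgroups generated by all centrally large subgroups, respectively by all minimal centrally large subgroups, are themselves centrally large. -/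
theorem result {p : ℕ} [Fact p.Prime] (P : Type*) [Group P] [Finite P] (hP : IsPGroup p P) : (∀ Q : Subgroup P, Cfsg.IsCentrallyLarge Q → Cfsg.IsCentralizerLarge Q ∧ Subgroup.centralizer (Q : Set P) = Q ⊓ Subgroup.centralizer (Q : Set P)) ∧ (∀ Q : Subgroup P, Cfsg.IsCentralizerLarge Q → (Cfsg.IsCentrallyLarge Q ↔ Subgroup.centralizer (Q : Set P) ≤ Q)) ∧ (∀ Q R : Subgroup P, Cfsg.IsCentrallyLarge Q → Cfsg.IsCentrallyLarge R → ((Q ⊔ R : Subgroup P) : Set P) = (Q : Set P) * (R : Set P) ∧ Cfsg.IsCentrallyLarge (Q ⊔ R)) ∧ Cfsg.IsCentrallyLarge (Cfsg.centrallyLargeJoin P) ∧ Cfsg.IsCentrallyLarge (Cfsg.minimalCentrallyLargeJoin P) := by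
  have hmax := max_eq P hP
  -- part 1
  have part1 : ∀ Q : Subgroup P, Cfsg.IsCentrallyLarge Q → Cfsg.IsCentralizerLarge Q ∧
      Subgroup.centralizer (Q : Set P) = Q ⊓ Subgroup.centralizer (Q : Set P) := by
    intro Q hQ
    have hQ' : Nat.card ↥Q * Nat.card ↥(Q ⊓ Subgroup.centralizer (Q : Set P)) = Cfsg.maxCentralizerProduct P := by
      rw [← card_center_eq, ← hmax]; exact hQ
    have h1 : Nat.card ↥(Q ⊓ Subgroup.centralizer (Q : Set P)) ≤ Nat.card ↥(Subgroup.centralizer (Q : Set P)) :=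
      Subgroup.card_le_of_le inf_le_right
    have h2 := cdm_le_max Q
    unfold cdm at h2
    have hQpos : 0 < Nat.card ↥Q := Nat.card_pos
    have h3 : Nat.card ↥(Subgroup.centralizer (Q : Set P)) ≤ Nat.card ↥(Q ⊓ Subgroup.centralizer (Q : Set P)) := by
      rw [← hQ'] at h2
      exact Nat.le_of_mul_le_mul_left h2 hQpos
    have h4 := le_antisymm h1 h3
    refine ⟨?_, ?_⟩
    · show Nat.card ↥Q * Nat.card ↥(Subgroup.centralizer (Q : Set P)) = _
      rw [← h4]; exact hQ'
    · symm
      exact Subgroup.eq_of_le_of_card_ge inf_le_right h3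
  -- part 2
  have part2 : ∀ Q : Subgroup P, Cfsg.IsCentralizerLarge Q →
      (Cfsg.IsCentrallyLarge Q ↔ Subgroup.centralizer (Q : Set P) ≤ Q) := by
    intro Q hQ
    constructor
    · intro hCL
      rw [(part1 Q hCL).2]
      exact inf_le_left
    · intro hle
      show Nat.card ↥Q * Nat.card ↥(Subgroup.center ↥Q) = _
      rw [card_center_eq, hmax, inf_eq_right.mpr hle]
      exact hQ
  -- part 3
  have part3 : ∀ Q R : Subgroup P, Cfsg.IsCentrallyLarge Q → Cfsg.IsCentrallyLarge R →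
      ((Q ⊔ R : Subgroup P) : Set P) = (Q : Set P) * (R : Set P) ∧ Cfsg.IsCentrallyLarge (Q ⊔ R) := by
    intro Q R hQ hR
    obtain ⟨hQl, hQc⟩ := part1 Q hQ
    obtain ⟨hRl, hRc⟩ := part1 R hR
    obtain ⟨h1, h2, -⟩ := Cfsg.Agent.S3004.result P hP Q R hQl hRl
    refine ⟨h1, (part2 _ h2).mpr ?_⟩
    rw [centralizer_sup_eq]
    have : Subgroup.centralizer (Q : Set P) ≤ Q := by rw [hQc]; exact inf_le_left
    exact inf_le_left.trans (this.trans le_sup_left)
  -- existence of a centrally large subgroup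
  have hbdd2 : BddAbove {k : ℕ | ∃ R : Subgroup P, Nat.card ↥R * Nat.card ↥(Subgroup.center ↥R) = k} := by
    refine ⟨Nat.card P * Nat.card P, ?_⟩
    rintro k ⟨R', rfl⟩
    refine Nat.mul_le_mul (Subgroup.card_le_card_group _) ?_
    rw [card_center_eq]
    exact Subgroup.card_le_card_group _
  have hne2 : {k : ℕ | ∃ R : Subgroup P, Nat.card ↥R * Nat.card ↥(Subgroup.center ↥R) = k}.Nonempty :=
    ⟨_, ⊥, rfl⟩
  obtain ⟨R₀, hR₀⟩ := Nat.sSup_mem hne2 hbdd2
  have hR₀CL : Cfsg.IsCentrallyLarge R₀ := hR₀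
  -- joins of finite nonempty families of CL subgroups are CL
  have hjoin : ∀ S : Set (Subgroup P), S.Nonempty → (∀ R ∈ S, Cfsg.IsCentrallyLarge R) →
      Cfsg.IsCentrallyLarge (sSup S) := by
    intro S hS hall
    classical
    have hfin : S.Finite := Set.toFinite S
    have hne : hfin.toFinset.Nonempty := by
      rwa [Set.Finite.toFinset_nonempty]
    have := Finset.sup'_induction hne id (p := Cfsg.IsCentrallyLarge)
      (fun a ha b hb => (part3 a b ha hb).2) (fun b hb => hall b (by simpa using hb))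
    rw [Finset.sup'_eq_sup, Finset.sup_id_eq_sSup, Set.Finite.coe_toFinset] at this
    exact this
  refine ⟨part1, part2, part3, ?_, ?_⟩
  · exact hjoin _ ⟨R₀, hR₀CL⟩ (fun R hR => hR)
  · obtain ⟨m, hm⟩ := exists_minimal_of_wellFoundedLT (fun R : Subgroup P => Cfsg.IsCentrallyLarge R) ⟨R₀, hR₀CL⟩
    refine hjoin _ ⟨m, ?_⟩ (fun R hR => hR.1)
    refine ⟨hm.1, fun R' hle hR' => ?_⟩
    exact le_antisymm hle (hm.2 hR' hle)

end Cfsg.Agent.S3005
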