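import Cfsg.Statements.S3003
import Mathlib
import Cfsg.Agent.S3004
import Cfsg.Agent.S3005
import Cfsg.Agent.Lib.Helper13.CoprimeSylow
-- import your own Cfsg.Agent.* helpers here

set_option autoImplicit false
open Cfsg

namespace Cfsg.Agent.S3003

section algebra
open Finset



/-- reindexing a geometric-type sum by multiplication by a unit mod `p` -/
theorem sum_pow_mul {E : Type*} [Ring E] (p : ℕ) (hp : p.Prime) (α : E) (hα : α ^ p = 1) (k : ℕ)
    (hk0 : 0 < k) (hkp : k < p) :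
    ∑ i ∈ range p, α ^ (i * k) = ∑ i ∈ range p, α ^ i := by
  have hmod : ∀ n : ℕ, α ^ n = α ^ (n % p) := by
    intro n
    conv_lhs => rw [← Nat.mod_add_div n p]
    rw [pow_add, pow_mul, hα, one_pow, mul_one]
  have hcop : Nat.Coprime k p := by
    rw [Nat.coprime_comm]
    exact (Nat.Prime.coprime_iff_not_dvd hp).mpr (Nat.not_dvd_of_pos_of_lt hk0 hkp)
  have hinj : Set.InjOn (fun i => i * k % p) (range p : Set ℕ) := by
    intro i hi j hj hij
    simp only [coe_range, Set.mem_Iio] at hi hj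
    have h1 : i * k ≡ j * k [MOD p] := hij
    have h2 : i ≡ j [MOD p] := Nat.ModEq.cancel_right_of_coprime (Nat.coprime_comm.mp hcop) h1
    exact Nat.ModEq.eq_of_lt_of_lt h2 hi hj
  have himg : (range p).image (fun i => i * k % p) = range p := by
    apply Finset.eq_of_subset_of_card_le
    · intro x hx
      rw [mem_image] at hx
      obtain ⟨i, -, rfl⟩ := hx
      rw [mem_range]
      exact Nat.mod_lt _ hp.pos
    · rw [Finset.card_image_of_injOn hinj]
  calc ∑ i ∈ range p, α ^ (i * k) = ∑ i ∈ range p, α ^ (i * k % p) := by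
        apply sum_congr rfl
        intro i _
        exact hmod _
    _ = ∑ j ∈ (range p).image (fun i => i * k % p), α ^ j := by
        rw [Finset.sum_image hinj]
    _ = ∑ i ∈ range p, α ^ i := by rw [himg]

theorem ring_lemma {E : Type*} [Ring E] (p : ℕ) (hp : p.Prime) (α β : E) (hc : Commute α β)
    (hα : α ^ p = 1) (h0 : ∑ k ∈ range p, α ^ k = 0)
    (h1 : ∀ i < p, ∑ k ∈ range p, (α ^ i * β) ^ k = 0) : (p : E) = 0 := by
  have hsum : ∑ i ∈ range p, ∑ k ∈ range p, (α ^ i * β) ^ k = 0 := by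
    apply sum_eq_zero
    intro i hi
    exact h1 i (mem_range.mp hi)
  have hexp : ∀ i k : ℕ, (α ^ i * β) ^ k = α ^ (i * k) * β ^ k := by
    intro i k
    rw [(hc.pow_left i).mul_pow, ← pow_mul]
  rw [sum_comm] at hsum
  have h2 : ∀ k ∈ range p, ∑ i ∈ range p, (α ^ i * β) ^ k = if k = 0 then (p : E) else 0 := by
    intro k hk
    rw [mem_range] at hk
    simp_rw [hexp]
    rw [← sum_mul]
    by_cases hk0 : k = 0
    · subst hk0
      simp
    · rw [if_neg hk0, sum_pow_mul p hp α hα k (Nat.pos_of_ne_zero hk0) hk, h0, zero_mul]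
  rw [sum_congr rfl h2] at hsum
  rw [sum_ite_eq' (range p) 0 (fun _ => (p : E))] at hsum
  rw [if_pos (mem_range.mpr hp.pos)] at hsum
  exact hsum

/-- a fixed-point-free endomorphism of order dividing `p` has vanishing norm -/
theorem norm_eq_zero {A : Type*} [AddCommGroup A] (p : ℕ) (c : AddMonoid.End A) (hc : c ^ p = 1)
    (hfix : ∀ w : A, c w = w → w = 0) : ∑ k ∈ range p, c ^ k = 0 := by
  have h1 : (c - 1) * ∑ k ∈ range p, c ^ k = 0 := by
    rw [mul_geom_sum, hc, sub_self]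
  ext w
  apply hfix
  have h2 : c * ∑ k ∈ range p, c ^ k = ∑ k ∈ range p, c ^ k := by
    have := h1
    rw [sub_mul, one_mul, sub_eq_zero] at this
    exact this
  conv_rhs => rw [← h2]
  rfl




theorem core' {W : Type*} [CommGroup W] (p : ℕ) (hp : p.Prime) (f g : W →* W)
    (hfg : ∀ w, f (g w) = g (f w)) (hfp : ∀ w, f^[p] w = w) (hgp : ∀ w, g^[p] w = w)
    (hf : ∀ w, f w = w → w = 1) (hfg' : ∀ i < p, ∀ w, f^[i] (g w) = w → w = 1) :
    ∀ w : W, w ^ p = 1 := by
  set α : AddMonoid.End (Additive W) := MonoidHom.toAdditive f with hαdef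
  set β : AddMonoid.End (Additive W) := MonoidHom.toAdditive g with hβdef
  have hα1 : ∀ x : Additive W, α x = Additive.ofMul (f (Additive.toMul x)) := fun x => rfl
  have hβ1 : ∀ x : Additive W, β x = Additive.ofMul (g (Additive.toMul x)) := fun x => rfl
  have hαpow : ∀ (i : ℕ) (x : Additive W), (α ^ i) x = Additive.ofMul (f^[i] (Additive.toMul x)) := by
    intro i
    induction i with
    | zero => intro x; rfl
    | succ n ih =>
      intro x
      rw [pow_succ']
      show α ((α ^ n) x) = _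
      rw [ih, hα1, Function.iterate_succ_apply']
      rfl
  have hβpow : ∀ (i : ℕ) (x : Additive W), (β ^ i) x = Additive.ofMul (g^[i] (Additive.toMul x)) := by
    intro i
    induction i with
    | zero => intro x; rfl
    | succ n ih =>
      intro x
      rw [pow_succ']
      show β ((β ^ n) x) = _
      rw [ih, hβ1, Function.iterate_succ_apply']
      rfl
  have hc : Commute α β := by
    refine DFunLike.ext _ _ (fun x => ?_)
    show α (β x) = β (α x)
    rw [hα1, hβ1, hβ1, hα1]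
    exact congrArg _ (hfg _)
  have hαp : α ^ p = 1 := by
    refine DFunLike.ext _ _ (fun x => ?_)
    rw [hαpow, hfp]
    rfl
  have hβp : β ^ p = 1 := by
    refine DFunLike.ext _ _ (fun x => ?_)
    rw [hβpow, hgp]
    rfl
  have h0 : ∑ k ∈ range p, α ^ k = 0 := by
    apply norm_eq_zero p α hαp
    intro x hx
    rw [hα1] at hx
    have := hf (Additive.toMul x) (congrArg Additive.toMul hx)
    exact congrArg Additive.ofMul this
  have h1 : ∀ i < p, ∑ k ∈ range p, (α ^ i * β) ^ k = 0 := by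
    intro i hi
    apply norm_eq_zero p (α ^ i * β)
    · rw [(hc.pow_left i).mul_pow, ← pow_mul, mul_comm i p, pow_mul, hαp, one_pow, hβp, one_mul]
    · intro x hx
      have hx' : (α ^ i) (β x) = x := hx
      rw [hαpow, hβ1] at hx'
      have hx := hx'
      have := hfg' i hi (Additive.toMul x) (congrArg Additive.toMul hx)
      exact congrArg Additive.ofMul this
  have hp0 := ring_lemma p hp α β hc hαp h0 h1
  intro w
  have h2 : (p : AddMonoid.End (Additive W)) (Additive.ofMul w) = 0 := by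
    rw [hp0]; rfl
  rw [AddMonoid.End.natCast_apply] at h2
  exact congrArg Additive.toMul h2

theorem core {G : Type*} [Group G] (p : ℕ) (hp : p.Prime) (W : Subgroup G)
    (hcomm : ∀ x ∈ W, ∀ y ∈ W, x * y = y * x) (a b : G) (hab : a * b = b * a) (hap : a ^ p = 1)
    (hbp : b ^ p = 1)
    (haW : ∀ w ∈ W, a * w * a⁻¹ ∈ W) (hbW : ∀ w ∈ W, b * w * b⁻¹ ∈ W)
    (hfa : ∀ w ∈ W, a * w * a⁻¹ = w → w = 1)
    (hfab : ∀ i < p, ∀ w ∈ W, (a ^ i * b) * w * (a ^ i * b)⁻¹ = w → w = 1) :
    ∀ w ∈ W, w ^ p = 1 := by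
  let _ : CommGroup ↥W :=
    { (inferInstance : Group ↥W) with mul_comm := fun x y => Subtype.ext (hcomm x x.2 y y.2) }
  let f : ↥W →* ↥W :=
    { toFun := fun w => ⟨a * w * a⁻¹, haW w w.2⟩
      map_one' := by apply Subtype.ext; simp
      map_mul' := by intro x y; apply Subtype.ext; simp }
  let g : ↥W →* ↥W :=
    { toFun := fun w => ⟨b * w * b⁻¹, hbW w w.2⟩
      map_one' := by apply Subtype.ext; simp
      map_mul' := by intro x y; apply Subtype.ext; simp }
  have hfi : ∀ (i : ℕ) (w : ↥W), ((f^[i] w : ↥W) : G) = a ^ i * w * (a ^ i)⁻¹ := by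
    intro i
    induction i with
    | zero => intro w; simp
    | succ n ih =>
      intro w
      rw [Function.iterate_succ_apply', pow_succ']
      show a * ((f^[n] w : ↥W) : G) * a⁻¹ = _
      rw [ih]
      group
  have hgi : ∀ (i : ℕ) (w : ↥W), ((g^[i] w : ↥W) : G) = b ^ i * w * (b ^ i)⁻¹ := by
    intro i
    induction i with
    | zero => intro w; simp
    | succ n ih =>
      intro w
      rw [Function.iterate_succ_apply', pow_succ']
      show b * ((g^[n] w : ↥W) : G) * b⁻¹ = _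
      rw [ih]
      group
  have key := core' (W := ↥W) p hp f g
    (by
      intro w
      apply Subtype.ext
      show a * (b * (w : G) * b⁻¹) * a⁻¹ = b * (a * (w : G) * a⁻¹) * b⁻¹
      have e1 : a * (b * (w : G) * b⁻¹) * a⁻¹ = (a * b) * w * (a * b)⁻¹ := by group
      have e2 : b * (a * (w : G) * a⁻¹) * b⁻¹ = (b * a) * w * (b * a)⁻¹ := by group
      rw [e1, e2, hab])
    (by
      intro w
      apply Subtype.ext
      rw [hfi, hap]
      simp)
    (by
      intro w
      apply Subtype.ext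
      rw [hgi, hbp]
      simp)
    (by
      intro w hw
      apply Subtype.ext
      exact hfa w w.2 (congrArg Subtype.val hw))
    (by
      intro i hi w hw
      apply Subtype.ext
      apply hfab i hi w w.2
      have h1 := congrArg Subtype.val hw
      rw [hfi] at h1
      have h2 : ((g w : ↥W) : G) = b * w * b⁻¹ := rfl
      rw [h2] at h1
      rw [← h1]
      conv_rhs => rw [← h1]
      group)
  intro w hw
  have := key ⟨w, hw⟩
  exact congrArg Subtype.val this



end algebra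

theorem part1 {G : Type*} [Group G] [Finite G] {p : ℕ} [Fact p.Prime] (Q : Subgroup G)
    (hQp : IsPGroup p ↥Q) (hlarge : Cfsg.IsLarge Q) (G₁ : Subgroup G) (hQG : Q ≤ G₁) (R : Subgroup G)
    (hR : (Nat.card ↥R).Coprime p) (hGR : G₁ ≤ Subgroup.normalizer (R : Set G)) (U : Subgroup G)
    (h : ∃ x ∈ U, x ≠ 1 ∧ ∃ g ∈ G₁, g * x * g⁻¹ ∈ Q ⊓ Subgroup.centralizer (Q : Set G)) :
    R ⊓ Subgroup.centralizer (U : Set G) = ⊥ := by
  obtain ⟨x, hxU, hx1, g, hg, hz⟩ := h
  rw [Subgroup.eq_bot_iff_forall]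
  rintro c ⟨hcR, hcU⟩
  have hcx : x * c = c * x := (Subgroup.mem_centralizer_iff.mp hcU) x hxU
  have hc'R : g * c * g⁻¹ ∈ R := (Subgroup.mem_normalizer_iff.mp (hGR hg) c).mp hcR
  have hzc' : (g * x * g⁻¹) * (g * c * g⁻¹) = (g * c * g⁻¹) * (g * x * g⁻¹) := by
    have e1 : (g * x * g⁻¹) * (g * c * g⁻¹) = g * (x * c) * g⁻¹ := by group
    have e2 : (g * c * g⁻¹) * (g * x * g⁻¹) = g * (c * x) * g⁻¹ := by group
    rw [e1, e2, hcx]
  have hz1 : g * x * g⁻¹ ≠ 1 := by
    intro h
    apply hx1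
    have : x = g⁻¹ * (g * x * g⁻¹) * g := by group
    rw [this, h]; group
  set z := g * x * g⁻¹ with hzdef
  set c' := g * c * g⁻¹ with hc'def
  have hN := hlarge.2 (Subgroup.zpowers z) (Subgroup.zpowers_le.mpr hz.2)
    (by rwa [Ne, Subgroup.zpowers_eq_bot])
  have hc'N : c' ∈ Subgroup.normalizer (Subgroup.zpowers z : Set G) := by
    apply Subgroup.centralizer_le_normalizer
    rw [Subgroup.mem_centralizer_iff]
    intro y hy
    obtain ⟨k, rfl⟩ := Subgroup.mem_zpowers_iff.mp hy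
    exact (Commute.zpow_left (show Commute z c' from hzc') k)
  have hc'Q : c' ∈ Subgroup.normalizer (Q : Set G) := hN hc'N
  have hQR : Q ⊓ R = ⊥ := by
    apply Subgroup.inf_eq_bot_of_coprime
    obtain ⟨n, hn⟩ := IsPGroup.iff_card.mp hQp
    rw [hn]
    exact Nat.Coprime.pow_left n hR.symm
  have hc'C : c' ∈ Subgroup.centralizer (Q : Set G) := by
    rw [Subgroup.mem_centralizer_iff]
    intro q hq
    have hQ' : c' * q⁻¹ * c'⁻¹ ∈ Q := (Subgroup.mem_normalizer_iff.mp hc'Q q⁻¹).mp (Q.inv_mem hq)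
    have h1 : q * c' * q⁻¹ * c'⁻¹ ∈ Q := by
      have : q * c' * q⁻¹ * c'⁻¹ = q * (c' * q⁻¹ * c'⁻¹) := by group
      rw [this]
      exact Q.mul_mem hq hQ'
    have hR' : q * c' * q⁻¹ ∈ R := (Subgroup.mem_normalizer_iff.mp (hGR (hQG hq)) c').mp hc'R
    have h2 : q * c' * q⁻¹ * c'⁻¹ ∈ R := R.mul_mem hR' (R.inv_mem hc'R)
    have h3 : q * c' * q⁻¹ * c'⁻¹ = 1 := by
      have : q * c' * q⁻¹ * c'⁻¹ ∈ Q ⊓ R := ⟨h1, h2⟩
      rw [hQR] at this
      exact Subgroup.mem_bot.mp this
    calc q * c' = (q * c' * q⁻¹ * c'⁻¹) * c' * q := by group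
      _ = c' * q := by rw [h3, one_mul]
  have hc'Qm : c' ∈ Q := hlarge.1 hc'C
  have hc'1 : c' = 1 := by
    have : c' ∈ Q ⊓ R := ⟨hc'Qm, hc'R⟩
    rw [hQR] at this
    exact Subgroup.mem_bot.mp this
  have : c = g⁻¹ * c' * g := by rw [hc'def]; group
  rw [this, hc'1]; group



theorem part2 {G : Type*} [Group G] [Finite G] {p : ℕ} [Fact p.Prime] (R : Subgroup G)
    (hR : (Nat.card ↥R).Coprime p) (U : Subgroup G) (hUR : U ≤ Subgroup.normalizer (R : Set G))
    (hUp : IsPGroup p ↥U) (hel : Cfsg.IsElementaryAbelian p U) (hcard : p ^ 2 ≤ Nat.card ↥U)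
    (hhyp : ∀ U₀ : Subgroup G, U₀ ≤ U → IsCoatom (U₀.subgroupOf U) →
      R ⊓ Subgroup.centralizer (U₀ : Set G) = ⊥) : R = ⊥ := by
  by_contra hRne
  have hp : p.Prime := Fact.out
  have hUcomm : ∀ x ∈ U, ∀ y ∈ U, x * y = y * x := by
    intro x hx y hy
    have := hel.1.is_comm.comm (⟨x, hx⟩ : ↥U) ⟨y, hy⟩
    exact congrArg Subtype.val this
  have hcR : Nat.card R ≠ 1 := fun h => hRne (Subgroup.card_eq_one.mp h)
  obtain ⟨q, hq, hqR⟩ := Nat.exists_prime_and_dvd hcR
  haveI : Fact q.Prime := ⟨hq⟩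
  have hUsolv : Group.IsSolvable ↥U := Group.isSolvable_of_comm (fun a b => hel.1.is_comm.comm a b)
  have hcop : (Nat.card U).Coprime (Nat.card R) := by
    obtain ⟨n, hn⟩ := IsPGroup.iff_card.mp hUp
    rw [hn]
    exact Nat.Coprime.pow_left n hR.symm
  obtain ⟨P, hP⟩ := Cfsg.Agent.Lib.Helper13.exists_invariant_sylow U R hUR hcop (Or.inl hUsolv) q
  set S : Subgroup G := (P : Subgroup R).map R.subtype with hS
  have hSR : S ≤ R := Subgroup.map_subtype_le _
  have hSne : S ≠ ⊥ := by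
    have h1 := P.ne_bot_of_dvd_card hqR
    intro h
    apply h1
    exact (Subgroup.map_eq_bot_iff_of_injective _ R.subtype_injective).mp h
  have hSq : IsPGroup q ↥S := P.isPGroup'.map R.subtype
  set V : Subgroup G := S ⊓ Subgroup.centralizer (S : Set G) with hV
  have hVne : V ≠ ⊥ := by
    haveI : Nontrivial ↥S := (Subgroup.nontrivial_iff_ne_bot S).mpr hSne
    have hc := hSq.center_nontrivial
    rw [hV, ← Cfsg.Agent.S3005.map_center_eq S]
    intro h
    rw [Subgroup.map_eq_bot_iff_of_injective _ S.subtype_injective] at h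
    exact (Subgroup.nontrivial_iff_ne_bot _).mp hc h
  have hVR : V ≤ R := inf_le_left.trans hSR
  have hVcomm : ∀ x ∈ V, ∀ y ∈ V, x * y = y * x := by
    intro x hx y hy
    exact (Subgroup.mem_centralizer_iff.mp hy.2) x hx.1
  have hUV : ∀ u ∈ U, ∀ v ∈ V, u * v * u⁻¹ ∈ V := by
    intro u hu v hv
    have huS := hP hu
    refine ⟨(Subgroup.mem_normalizer_iff.mp huS v).mp hv.1, ?_⟩
    show u * v * u⁻¹ ∈ Subgroup.centralizer (S : Set G)
    rw [Subgroup.mem_centralizer_iff]
    intro s hs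
    have hs' : u⁻¹ * s * u ∈ S := by
      have := (Subgroup.mem_normalizer_iff.mp (Subgroup.inv_mem _ huS) s).mp hs
      simpa using this
    have hcomm := (Subgroup.mem_centralizer_iff.mp hv.2) _ hs'
    calc s * (u * v * u⁻¹) = u * ((u⁻¹ * s * u) * v) * u⁻¹ := by group
      _ = u * (v * (u⁻¹ * s * u)) * u⁻¹ := by rw [hcomm]
      _ = (u * v * u⁻¹) * s := by group
  -- choose K of maximal order with nontrivial fixed points on V
  have hfin : {K : Subgroup G | K ≤ U ∧ V ⊓ Subgroup.centralizer (K : Set G) ≠ ⊥}.Finite :=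
    Set.toFinite _
  have hne : {K : Subgroup G | K ≤ U ∧ V ⊓ Subgroup.centralizer (K : Set G) ≠ ⊥}.Nonempty := by
    refine ⟨⊥, bot_le, ?_⟩
    have : V ⊓ Subgroup.centralizer ((⊥ : Subgroup G) : Set G) = V := by
      apply inf_eq_left.mpr
      intro v _
      rw [Subgroup.mem_centralizer_iff]
      intro h hh
      have : h = 1 := Subgroup.mem_bot.mp hh
      rw [this, one_mul, mul_one]
    rw [this]
    exact hVne
  obtain ⟨K, ⟨hKU, hKne⟩, hKmax⟩ := Set.exists_max_image _ (fun K : Subgroup G => Nat.card K) hfin hne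
  set W : Subgroup G := V ⊓ Subgroup.centralizer (K : Set G) with hW
  have hWR : W ≤ R := inf_le_left.trans hVR
  -- U normalizes W
  have hUW : ∀ c ∈ U, ∀ w ∈ W, c * w * c⁻¹ ∈ W := by
    intro c hc w hw
    refine ⟨hUV c hc w hw.1, ?_⟩
    show c * w * c⁻¹ ∈ Subgroup.centralizer (K : Set G)
    rw [Subgroup.mem_centralizer_iff]
    intro k hk
    have h1 : k * w = w * k := (Subgroup.mem_centralizer_iff.mp hw.2) k hk
    have h2 : k * c = c * k := hUcomm k (hKU hk) c hc
    have h3 : c⁻¹ * k = k * c⁻¹ := by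
      calc c⁻¹ * k = c⁻¹ * (k * c) * c⁻¹ := by group
        _ = c⁻¹ * (c * k) * c⁻¹ := by rw [h2]
        _ = k * c⁻¹ := by group
    calc k * (c * w * c⁻¹) = (k * c) * w * c⁻¹ := by group
      _ = (c * k) * w * c⁻¹ := by rw [h2]
      _ = c * (k * w) * c⁻¹ := by group
      _ = c * (w * k) * c⁻¹ := by rw [h1]
      _ = c * w * (k * c⁻¹) := by group
      _ = c * w * (c⁻¹ * k) := by rw [h3]
      _ = c * w * c⁻¹ * k := by group
  -- elements outside K act fixed-point-freely on W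
  have hF : ∀ c ∈ U, c ∉ K → ∀ w ∈ W, c * w * c⁻¹ = w → w = 1 := by
    intro c hcU hcK w hw hcw
    by_contra hw1
    have hK'U : K ⊔ Subgroup.zpowers c ≤ U := sup_le hKU (Subgroup.zpowers_le.mpr hcU)
    have hcomm : c * w = w * c := by
      calc c * w = (c * w * c⁻¹) * c := by group
        _ = w * c := by rw [hcw]
    have hwK' : w ∈ V ⊓ Subgroup.centralizer ((K ⊔ Subgroup.zpowers c : Subgroup G) : Set G) := by
      refine ⟨hw.1, ?_⟩
      rw [Cfsg.Agent.S3004.centralizer_sup_eq]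
      refine ⟨hw.2, ?_⟩
      show w ∈ Subgroup.centralizer (Subgroup.zpowers c : Set G)
      rw [Subgroup.mem_centralizer_iff]
      intro y hy
      obtain ⟨k, rfl⟩ := Subgroup.mem_zpowers_iff.mp hy
      exact (Commute.zpow_left (show Commute c w from hcomm) k)
    have hne' : V ⊓ Subgroup.centralizer ((K ⊔ Subgroup.zpowers c : Subgroup G) : Set G) ≠ ⊥ := by
      intro h
      rw [h] at hwK'
      exact hw1 (Subgroup.mem_bot.mp hwK')
    have hle := hKmax (K ⊔ Subgroup.zpowers c) ⟨hK'U, hne'⟩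
    have heq : K = K ⊔ Subgroup.zpowers c := Subgroup.eq_of_le_of_card_ge le_sup_left hle
    apply hcK
    rw [heq]
    exact (le_sup_right : Subgroup.zpowers c ≤ K ⊔ Subgroup.zpowers c) (Subgroup.mem_zpowers c)
  -- K is a proper subgroup of U, not a hyperplane
  have hKtop : K.subgroupOf U ≠ ⊤ := by
    intro h
    rw [Subgroup.subgroupOf_eq_top] at h
    have hbt : (⊥ : Subgroup ↥U) ≠ ⊤ := by
      intro hbt
      have h1 : Nat.card ↥U = 1 := by
        have : Subsingleton ↥U := by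
          rw [← Subgroup.subsingleton_iff] 
          exact ⟨fun a b => by
            have ha : a = ⊥ := by
              apply le_antisymm _ bot_le
              rw [hbt]; exact le_top
            have hb : b = ⊥ := by
              apply le_antisymm _ bot_le
              rw [hbt]; exact le_top
            rw [ha, hb]⟩
        exact Nat.card_unique
      rw [h1] at hcard
      have : 2 ^ 2 ≤ p ^ 2 := Nat.pow_le_pow_left hp.two_le 2
      omega
    obtain ⟨B, hB, -⟩ := (eq_top_or_exists_le_coatom (⊥ : Subgroup ↥U)).resolve_left hbt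
    have hBU : B.map U.subtype ≤ U := Subgroup.map_subtype_le _
    have hBeq : (B.map U.subtype).subgroupOf U = B :=
      Subgroup.comap_map_eq_self_of_injective U.subtype_injective B
    have h0 := hhyp (B.map U.subtype) hBU (by rw [hBeq]; exact hB)
    apply hKne
    rw [eq_bot_iff, ← h0]
    refine inf_le_inf hVR ?_
    apply Subgroup.centralizer_le
    exact_mod_cast (hBU.trans h)
  have hKnc : ¬ IsCoatom (K.subgroupOf U) := by
    intro h
    have h0 := hhyp K hKU h
    apply hKne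
    rw [eq_bot_iff, ← h0]
    exact inf_le_inf hVR le_rfl
  obtain ⟨X, hKX, hXtop⟩ : ∃ X : Subgroup ↥U, K.subgroupOf U < X ∧ X ≠ ⊤ := by
    by_contra hcon
    push Not at hcon
    exact hKnc ⟨hKtop, fun b hb => hcon b hb⟩
  obtain ⟨a', ha'X, ha'K⟩ := SetLike.exists_of_lt hKX
  obtain ⟨b', -, hb'X⟩ := SetLike.exists_of_lt (lt_top_iff_ne_top.mpr hXtop)
  have haU : (a' : G) ∈ U := a'.2
  have hbU : (b' : G) ∈ U := b'.2
  have haK : (a' : G) ∉ K := fun h => ha'K (Subgroup.mem_subgroupOf.mpr h)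
  -- a^i * b is not in K
  have habK : ∀ i : ℕ, (a' : G) ^ i * (b' : G) ∉ K := by
    intro i h
    apply hb'X
    have h1 : (a' ^ i * b' : ↥U) ∈ K.subgroupOf U := by
      rw [Subgroup.mem_subgroupOf]
      simpa using h
    have h2 : (a' ^ i * b' : ↥U) ∈ X := hKX.le h1
    have h3 : b' = (a' ^ i)⁻¹ * (a' ^ i * b') := by group
    rw [h3]
    exact X.mul_mem (X.inv_mem (X.pow_mem ha'X i)) h2
  have hWcomm : ∀ x ∈ W, ∀ y ∈ W, x * y = y * x := fun x hx y hy => hVcomm x hx.1 y hy.1
  have key := core p hp W hWcomm (a' : G) (b' : G) (hUcomm _ haU _ hbU) (hel.2 _ haU) (hel.2 _ hbU)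
    (hUW _ haU) (hUW _ hbU) (hF _ haU haK)
    (fun i _ => hF _ (U.mul_mem (U.pow_mem haU i) hbU) (habK i))
  apply hKne
  rw [Subgroup.eq_bot_iff_forall]
  intro w hw
  have h1 : orderOf w ∣ p := orderOf_dvd_of_pow_eq_one (key w hw)
  have h2 : orderOf w ∣ Nat.card R := Subgroup.orderOf_dvd_natCard R (hWR hw)
  have h3 : orderOf w ∣ Nat.gcd (Nat.card R) p := Nat.dvd_gcd h2 h1
  rw [hR.gcd_eq_one, Nat.dvd_one, orderOf_eq_one_iff] at h3
  exact h3

/-- Let G be a finite group, p a prime and Q a large p-subgroup of G: C_G(Q) ≤ Q and N_G(U) ≤ N_G(Q) for every nontrivial subgroup U of C_G(Q). Let Q ≤ G₁ ≤ G, let R be a subgroup of order prime to p normalized by G₁, and let U ≤ G₁ be a p-subgroup. If U contains a nontrivial element which is G₁-conjugate to an element of Z(Q), then C_R(U) = 1. In particular, if U is elementary abelian of order at least p² and every maximal subgroup of U contains a nontrivial element G₁-conjugate into Z(Q), then R = 1. -/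
theorem result {G : Type*} [Group G] [Finite G] {p : ℕ} [Fact p.Prime] (Q : Subgroup G) (hQp : IsPGroup p ↥Q) (hlarge : Cfsg.IsLarge Q) (G₁ : Subgroup G) (hQG : Q ≤ G₁) (R : Subgroup G) (hR : (Nat.card ↥R).Coprime p) (hGR : G₁ ≤ Subgroup.normalizer (R : Set G)) (U : Subgroup G) (hUG : U ≤ G₁) (hUp : IsPGroup p ↥U) : ((∃ x ∈ U, x ≠ 1 ∧ ∃ g ∈ G₁, g * x * g⁻¹ ∈ Q ⊓ Subgroup.centralizer (Q : Set G)) → R ⊓ Subgroup.centralizer (U : Set G) = ⊥) ∧ (Cfsg.IsElementaryAbelian p U → p ^ 2 ≤ Nat.card ↥U → (∀ U₀ : Subgroup G, U₀ ≤ U → IsCoatom (U₀.subgroupOf U) → ∃ x ∈ U₀, x ≠ 1 ∧ ∃ g ∈ G₁, g * x * g⁻¹ ∈ Q ⊓ Subgroup.centralizer (Q : Set G)) → R = ⊥) := by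
  refine ⟨fun h => part1 Q hQp hlarge G₁ hQG R hR hGR U h, fun hel hcard hhyp => ?_⟩
  apply part2 R hR U (hUG.trans hGR) hUp hel hcard
  intro U₀ hU₀ hco
  exact part1 Q hQp hlarge G₁ hQG R hR hGR U₀ (hhyp U₀ hU₀ hco)

end Cfsg.Agent.S3003
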