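import Cfsg.Statements.S3006
import Mathlib
import Cfsg.Agent.S3005
-- import your own Cfsg.Agent.* helpers here

set_option autoImplicit false
open Cfsg

namespace Cfsg.Agent.S3006

open scoped Pointwise
open Cfsg.Agent.S3004 Cfsg.Agent.S3005

/-- An abelian subgroup of largest order is self-centralizing. -/
theorem centralizer_eq_of_maxAbelian {P : Type*} [Group P] [Finite P] (A : Subgroup P)
    (hA : A ∈ Cfsg.maxAbelianSubgroups P) : Subgroup.centralizer (A : Set P) = A := by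
  obtain ⟨hAc, hAmax⟩ := hA
  have hle : A ≤ Subgroup.centralizer (A : Set P) := Subgroup.le_centralizer_iff_isMulCommutative.mpr hAc
  apply le_antisymm _ hle
  intro x hx
  -- B = A ⊔ zpowers x is abelian
  set B : Subgroup P := A ⊔ Subgroup.zpowers x with hB
  have hxA : Subgroup.zpowers x ≤ Subgroup.centralizer (A : Set P) := by
    rw [Subgroup.zpowers_le]; exact hx
  have hBc : IsMulCommutative ↥B := by
    rw [← Subgroup.le_centralizer_iff_isMulCommutative, hB, centralizer_sup_eq]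
    refine sup_le (le_inf hle ?_) (le_inf hxA ?_)
    · rw [Subgroup.le_centralizer_iff]; exact hxA
    · rw [Subgroup.le_centralizer_iff_isMulCommutative]
      infer_instance
  have hcard := hAmax B hBc
  have hAB : A ≤ B := le_sup_left
  have : A = B := Subgroup.eq_of_le_of_card_ge hAB hcard
  rw [this]
  exact Subgroup.mem_sup_right (Subgroup.mem_zpowers x)

theorem cl_le_max {P : Type*} [Group P] [Finite P] (R : Subgroup P) :
    Nat.card ↥R * Nat.card ↥(R ⊓ Subgroup.centralizer (R : Set P)) ≤ Cfsg.maxCentralProduct P := by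
  rw [← card_center_eq]
  unfold Cfsg.maxCentralProduct
  apply le_csSup
  · refine ⟨Nat.card P * Nat.card P, ?_⟩
    rintro k ⟨R', rfl⟩
    refine Nat.mul_le_mul (Subgroup.card_le_card_group _) ?_
    rw [card_center_eq]
    exact Subgroup.card_le_card_group _
  · exact ⟨R, rfl⟩

theorem arith (q z a za qa q1 a1 : ℕ) (hqpos : 0 < q) (hzapos : 0 < za) (hqapos : 0 < qa)
    (hI1 : qa * z ≤ a1 * za) (hA₁le : a1 ≤ a) (hI2 : q * a ≤ q1 * qa) (hI3 : q1 * za ≤ q * z) :
    qa * z = a1 * za ∧ a1 = a ∧ q * a = q1 * qa ∧ q1 * za = q * z := by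
  have hchain1 : q * (qa * z) ≤ q * (a1 * za) := Nat.mul_le_mul_left _ hI1
  have hchain2 : q * (a1 * za) ≤ q * (a * za) := by gcongr
  have hchain3 : q * (a * za) ≤ (q1 * qa) * za := by
    calc q * (a * za) = (q * a) * za := by ring
      _ ≤ (q1 * qa) * za := Nat.mul_le_mul_right _ hI2
  have hchain4 : (q1 * qa) * za ≤ q * (qa * z) := by
    calc (q1 * qa) * za = (q1 * za) * qa := by ring
      _ ≤ (q * z) * qa := Nat.mul_le_mul_right _ hI3
      _ = q * (qa * z) := by ring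
  have e1 : q * (qa * z) = q * (a1 * za) := le_antisymm hchain1 (hchain2.trans (hchain3.trans hchain4))
  have e2 : q * (a1 * za) = q * (a * za) := le_antisymm hchain2 (hchain3.trans (hchain4.trans hchain1))
  have e3 : q * (a * za) = (q1 * qa) * za := le_antisymm hchain3 (hchain4.trans (hchain1.trans hchain2))
  have e4 : (q1 * qa) * za = q * (qa * z) := le_antisymm hchain4 (hchain1.trans (hchain2.trans hchain3))
  have E1 : qa * z = a1 * za := Nat.eq_of_mul_eq_mul_left hqpos e1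
  have E2 : a1 = a := by
    have := Nat.eq_of_mul_eq_mul_left hqpos e2
    exact Nat.eq_of_mul_eq_mul_right hzapos this
  have E3 : q * a = q1 * qa := by
    have : (q * a) * za = (q1 * qa) * za := by rw [← e3]; ring
    exact Nat.eq_of_mul_eq_mul_right hzapos this
  have E4 : q1 * za = q * z := by
    have : (q1 * za) * qa = (q * z) * qa := by
      calc (q1 * za) * qa = (q1 * qa) * za := by ring
        _ = q * (qa * z) := e4
        _ = (q * z) * qa := by ring
    exact Nat.eq_of_mul_eq_mul_right hqapos this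
  exact ⟨E1, E2, E3, E4⟩

theorem main {p : ℕ} [Fact p.Prime] (P : Type*) [Group P] [Finite P] (hP : IsPGroup p P) (Q A : Subgroup P) (hQ : Cfsg.IsCentrallyLarge Q) (hA : A ∈ Cfsg.maxAbelianSubgroups P) : ((Q ⊔ A : Subgroup P) : Set P) = (Q : Set P) * (A : Set P) ∧ Cfsg.IsCentrallyLarge (Q ⊔ A) ∧ (Q ⊔ A) ⊓ Subgroup.centralizer ((Q ⊓ A : Subgroup P) : Set P) = (Q ⊓ Subgroup.centralizer (Q : Set P)) ⊔ A ∧ (((Q ⊓ Subgroup.centralizer (Q : Set P)) ⊔ A : Subgroup P) : Set P) = ((Q ⊓ Subgroup.centralizer (Q : Set P)) : Set P) * (A : Set P) := by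
  obtain ⟨hS1, hS2, -⟩ := Cfsg.Agent.S3005.result P hP
  obtain ⟨hQl, hQc⟩ := hS1 Q hQ
  have hCA := centralizer_eq_of_maxAbelian A hA
  have hAc : IsMulCommutative ↥A := hA.1
  set Z : Subgroup P := Q ⊓ Subgroup.centralizer (Q : Set P) with hZ
  have hZQ : Z ≤ Q := inf_le_left
  have hZC : Z ≤ Subgroup.centralizer (Q : Set P) := inf_le_right
  have hQCZ : Q ≤ Subgroup.centralizer (Z : Set P) := by
    rw [Subgroup.le_centralizer_iff]; exact hZC
  -- A₁ = (A ⊓ Q) ⊔ Z is abelian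
  set A₁ : Subgroup P := (Q ⊓ A) ⊔ Z with hA₁
  have hAle : A ≤ Subgroup.centralizer (A : Set P) := by rw [hCA]
  have hCA₁ : Subgroup.centralizer (A₁ : Set P) =
      Subgroup.centralizer ((Q ⊓ A : Subgroup P) : Set P) ⊓ Subgroup.centralizer (Z : Set P) :=
    centralizer_sup_eq _ _
  have hAQc : Q ⊓ A ≤ Subgroup.centralizer ((Q ⊓ A : Subgroup P) : Set P) :=
    inf_le_right.trans (hAle.trans (Subgroup.centralizer_le (by exact_mod_cast (inf_le_right : Q ⊓ A ≤ A))))
  have hZAQ : Z ≤ Subgroup.centralizer ((Q ⊓ A : Subgroup P) : Set P) :=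
    hZC.trans (Subgroup.centralizer_le (by exact_mod_cast (inf_le_left : Q ⊓ A ≤ Q)))
  have hA₁c : IsMulCommutative ↥A₁ := by
    rw [← Subgroup.le_centralizer_iff_isMulCommutative, hCA₁]
    refine sup_le (le_inf hAQc (inf_le_left.trans hQCZ)) (le_inf hZAQ (hZQ.trans hQCZ))
  have hA₁le : Nat.card ↥A₁ ≤ Nat.card ↥A := hA.2 A₁ hA₁c
  -- (I)
  have hI1 := card_mul_le_sup_inf (Q ⊓ A) Z
  have hinf1 : (Q ⊓ A) ⊓ Z = Z ⊓ A := by
    rw [inf_comm Q A, inf_assoc, inf_eq_right.mpr hZQ, inf_comm]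
  rw [hinf1] at hI1
  -- Q₁
  set Q₁ : Subgroup P := Q ⊔ A with hQ₁
  have hI2 := card_mul_le_sup_inf Q A
  have hCQ₁ : Subgroup.centralizer (Q₁ : Set P) = Z ⊓ A := by
    rw [hQ₁, centralizer_sup_eq, hCA, hQc]
  have hZQ₁ : Q₁ ⊓ Subgroup.centralizer (Q₁ : Set P) = Z ⊓ A := by
    rw [hCQ₁, inf_eq_right]
    exact inf_le_right.trans le_sup_right
  have hI3 := cl_le_max Q₁
  rw [hZQ₁] at hI3
  have hf : Nat.card ↥Q * Nat.card ↥Z = Cfsg.maxCentralProduct P := by
    rw [hZ, ← card_center_eq]; exact hQ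
  rw [← hf] at hI3
  obtain ⟨E1, E2, E3, E4⟩ := arith _ _ _ _ _ _ _ (Nat.card_pos (α := ↥Q)) (Nat.card_pos (α := ↥(Z ⊓ A)))
    (Nat.card_pos (α := ↥(Q ⊓ A))) hI1 hA₁le hI2 hI3
  -- (1)
  have h1 : ((Q ⊔ A : Subgroup P) : Set P) = (Q : Set P) * (A : Set P) := sup_eq_mul_of_card Q A E3
  -- (2)
  have h2 : Cfsg.IsCentrallyLarge (Q ⊔ A) := by
    show Nat.card ↥Q₁ * Nat.card ↥(Subgroup.center ↥Q₁) = _
    rw [card_center_eq, hZQ₁, E4, hf]
  -- A₁ is a largest abelian subgroup, hence self-centralizing, and is the set product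
  have hA₁max : A₁ ∈ Cfsg.maxAbelianSubgroups P := by
    refine ⟨hA₁c, fun B hB => ?_⟩
    rw [E2]; exact hA.2 B hB
  have hCA₁' := centralizer_eq_of_maxAbelian A₁ hA₁max
  have hA₁set : ((A₁ : Subgroup P) : Set P) = ((Q ⊓ A : Subgroup P) : Set P) * (Z : Set P) := by
    apply sup_eq_mul_of_card
    rw [hinf1]; exact E1
  -- key claim
  have hAQA : A ≤ Subgroup.centralizer ((Q ⊓ A : Subgroup P) : Set P) :=
    hAle.trans (Subgroup.centralizer_le (by exact_mod_cast (inf_le_right : Q ⊓ A ≤ A)))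
  have claimX : ∀ x ∈ (Q ⊔ A) ⊓ Subgroup.centralizer ((Q ⊓ A : Subgroup P) : Set P),
      x ∈ (Z : Set P) * (A : Set P) := by
    rintro x ⟨hx1, hx2⟩
    have hx1' : x ∈ ((Q ⊔ A : Subgroup P) : Set P) := hx1
    rw [h1] at hx1'
    obtain ⟨q, hq, a, ha, rfl⟩ := hx1'
    have hq1 : q ∈ Subgroup.centralizer ((Q ⊓ A : Subgroup P) : Set P) := by
      have : q = (q * a) * a⁻¹ := by group
      rw [this]
      exact Subgroup.mul_mem _ hx2 (Subgroup.inv_mem _ (hAQA ha))
    have hq2 : q ∈ Subgroup.centralizer (A₁ : Set P) := by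
      rw [hCA₁]; exact ⟨hq1, hQCZ hq⟩
    rw [hCA₁'] at hq2
    have hq3 : q ∈ ((A₁ : Subgroup P) : Set P) := hq2
    rw [hA₁set] at hq3
    obtain ⟨b, hb, z, hz, rfl⟩ := hq3
    have hbz : b * z = z * b := by
      have := hZC hz b hb.1
      exact this
    refine ⟨z, hz, b * a, A.mul_mem hb.2 ha, ?_⟩
    simp only
    rw [hbz]; group
  have hle3 : Z ⊔ A ≤ (Q ⊔ A) ⊓ Subgroup.centralizer ((Q ⊓ A : Subgroup P) : Set P) := by
    refine sup_le (le_inf (hZQ.trans le_sup_left) hZAQ) (le_inf le_sup_right hAQA)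
  have hmulsub : (Z : Set P) * (A : Set P) ⊆ ((Z ⊔ A : Subgroup P) : Set P) := by
    rintro _ ⟨z, hz, a, ha, rfl⟩
    exact (Z ⊔ A).mul_mem (Subgroup.mem_sup_left hz) (Subgroup.mem_sup_right ha)
  refine ⟨h1, h2, ?_, ?_⟩
  · apply le_antisymm
    · intro x hx
      exact hmulsub (claimX x hx)
    · exact hle3
  · apply Set.Subset.antisymm
    · intro x hx
      exact claimX x (hle3 hx)
    · exact hmulsub

/-- Let P be a finite p-group, Q a centrally large subgroup of P (|Q|·|Z(Q)| maximal among subgroups of P) and A an abelian subgroup of P of largest order. Then QA = AQ is a centrally large subgroup of P, C_{QA}(Q ∩ A) = Z(Q)·A, and the subgroup generated by all centrally large subgroups of P contains C_P(Z(J(P))), where J(P) is generated by the abelian subgroups of largest order. -/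
theorem result {p : ℕ} [Fact p.Prime] (P : Type*) [Group P] [Finite P] (hP : IsPGroup p P) (Q A : Subgroup P) (hQ : Cfsg.IsCentrallyLarge Q) (hA : A ∈ Cfsg.maxAbelianSubgroups P) : ((Q ⊔ A : Subgroup P) : Set P) = (Q : Set P) * (A : Set P) ∧ Cfsg.IsCentrallyLarge (Q ⊔ A) ∧ (Q ⊔ A) ⊓ Subgroup.centralizer ((Q ⊓ A : Subgroup P) : Set P) = (Q ⊓ Subgroup.centralizer (Q : Set P)) ⊔ A ∧ (((Q ⊓ Subgroup.centralizer (Q : Set P)) ⊔ A : Subgroup P) : Set P) = ((Q ⊓ Subgroup.centralizer (Q : Set P)) : Set P) * (A : Set P) ∧ Subgroup.centralizer ((Cfsg.thompsonSubgroupA P ⊓ Subgroup.centralizer (Cfsg.thompsonSubgroupA P : Set P) : Subgroup P) : Set P) ≤ Cfsg.centrallyLargeJoin P := by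
  obtain ⟨h1, h2, h3, h4⟩ := main P hP Q A hQ hA
  refine ⟨h1, h2, h3, h4, ?_⟩
  obtain ⟨hS1, hS2, -, hTCL, -⟩ := Cfsg.Agent.S3005.result P hP
  set T := Cfsg.centrallyLargeJoin P with hT
  set J := Cfsg.thompsonSubgroupA P with hJ
  obtain ⟨hTl, hTc⟩ := hS1 T hTCL
  obtain ⟨-, -, -, -, hTCC, -⟩ := Cfsg.Agent.S3004.result P hP T T hTl hTl
  -- every largest abelian subgroup lies in T
  have hAT : ∀ A' ∈ Cfsg.maxAbelianSubgroups P, A' ≤ T := by
    intro A' hA'
    have := (main P hP T A' hTCL hA').2.1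
    have hle : T ⊔ A' ≤ T := le_sSup this
    exact le_sup_right.trans hle
  have hJT : J ≤ T := sSup_le hAT
  have hCT_J : Subgroup.centralizer (T : Set P) ≤ J := by
    have : Subgroup.centralizer (T : Set P) ≤ Subgroup.centralizer (A : Set P) :=
      Subgroup.centralizer_le (by exact_mod_cast hAT A hA)
    rw [centralizer_eq_of_maxAbelian A hA] at this
    exact this.trans (le_sSup hA)
  have hCT_CJ : Subgroup.centralizer (T : Set P) ≤ Subgroup.centralizer (J : Set P) :=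
    Subgroup.centralizer_le (by exact_mod_cast hJT)
  have : Subgroup.centralizer ((J ⊓ Subgroup.centralizer (J : Set P) : Subgroup P) : Set P) ≤
      Subgroup.centralizer ((Subgroup.centralizer (T : Set P) : Subgroup P) : Set P) :=
    Subgroup.centralizer_le (by exact_mod_cast le_inf hCT_J hCT_CJ)
  rw [← hTCC] at this
  exact this

end Cfsg.Agent.S3006
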