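import Cfsg.Statements.S3007
import Mathlib
import Cfsg.Agent.S3006
-- import your own Cfsg.Agent.* helpers here

set_option autoImplicit false
open Cfsg

namespace Cfsg.Agent.S3007

open scoped Pointwise commutatorElement
open Cfsg.Agent.S3004 Cfsg.Agent.S3005 Cfsg.Agent.S3006

/-- converse of `sup_eq_mul_of_card` -/
theorem card_of_sup_eq_mul {G : Type*} [Group G] [Finite G] (H K : Subgroup G)
    (h : ((H ⊔ K : Subgroup G) : Set G) = (H : Set G) * (K : Set G)) :
    Nat.card H * Nat.card K = Nat.card ↥(H ⊔ K) * Nat.card ↥(H ⊓ K) := by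
  have h1 : Nat.card ↥(H ⊓ K) * (H ⊓ K).relIndex K = Nat.card K := card_mul_relIndex' inf_le_right
  have h2 : Nat.card H * H.relIndex (H ⊔ K) = Nat.card ↥(H ⊔ K) := card_mul_relIndex' le_sup_left
  have h3 : (H ⊓ K).relIndex K = H.relIndex K := Subgroup.inf_relIndex_right H K
  let e := Subgroup.quotientSubgroupOfEmbeddingOfLE H (le_sup_right : K ≤ H ⊔ K)
  have hsurj : Function.Surjective e := by
    intro y
    obtain ⟨⟨x, hx⟩, rfl⟩ := QuotientGroup.mk_surjective y
    -- x⁻¹ = h' * k, so x = k⁻¹ * h'⁻¹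
    have hx' : x⁻¹ ∈ ((H ⊔ K : Subgroup G) : Set G) := (H ⊔ K).inv_mem hx
    rw [h] at hx'
    obtain ⟨h', hh', k, hk, hxe⟩ := hx'
    refine ⟨QuotientGroup.mk ⟨k⁻¹, K.inv_mem hk⟩, ?_⟩
    rw [Subgroup.quotientSubgroupOfEmbeddingOfLE_apply_mk, QuotientGroup.eq, Subgroup.mem_subgroupOf]
    simp only [Subgroup.coe_mul, Subgroup.coe_inv, Subgroup.coe_inclusion, inv_inv]
    have : k * x = h'⁻¹ := by
      have h5 : h' * k = x⁻¹ := hxe
      calc k * x = h'⁻¹ * (h' * k) * x := by group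
        _ = h'⁻¹ := by rw [h5]; group
    rw [this]
    exact H.inv_mem hh'
  have hbij : Function.Bijective e := ⟨e.injective, hsurj⟩
  have hcard : H.relIndex K = H.relIndex (H ⊔ K) := Nat.card_congr (Equiv.ofBijective e hbij)
  rw [← h1, ← h2, h3, hcard]
  ring

/-- commutators are unchanged by central factors -/
theorem comm_mul_left {G : Type*} [Group G] (a z b : G) (h : z * b = b * z) : ⁅a * z, b⁆ = ⁅a, b⁆ := by
  rw [commutatorElement_def, commutatorElement_def]
  calc a * z * b * (a * z)⁻¹ * b⁻¹ = a * (z * b) * z⁻¹ * a⁻¹ * b⁻¹ := by group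
    _ = a * (b * z) * z⁻¹ * a⁻¹ * b⁻¹ := by rw [h]
    _ = a * b * a⁻¹ * b⁻¹ := by group

theorem comm_mul_right {G : Type*} [Group G] (a b z : G) (h : z * a = a * z) : ⁅a, b * z⁆ = ⁅a, b⁆ := by
  rw [commutatorElement_def, commutatorElement_def]
  have h' : z * a⁻¹ = a⁻¹ * z := by
    calc z * a⁻¹ = a⁻¹ * (a * z) * a⁻¹ := by group
      _ = a⁻¹ * (z * a) * a⁻¹ := by rw [h]
      _ = a⁻¹ * z := by group
  calc a * (b * z) * a⁻¹ * (b * z)⁻¹ = a * b * (z * a⁻¹) * z⁻¹ * b⁻¹ := by group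
    _ = a * b * (a⁻¹ * z) * z⁻¹ * b⁻¹ := by rw [h']
    _ = a * b * a⁻¹ * b⁻¹ := by group

theorem comm_eq {G : Type*} [Group G] (Q D Z : Subgroup G) (hset : (Q : Set G) = (D : Set G) * (Z : Set G))
    (hD : D ≤ Q) (hZ : Z ≤ Subgroup.centralizer (Q : Set G)) : ⁅Q, Q⁆ = ⁅D, D⁆ := by
  apply le_antisymm
  · rw [Subgroup.commutator_le]
    intro a ha b hb
    have ha' : a ∈ (Q : Set G) := ha
    have hb' : b ∈ (Q : Set G) := hb
    rw [hset] at ha' hb'
    obtain ⟨d, hd, z, hz, rfl⟩ := ha'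
    obtain ⟨d', hd', z', hz', rfl⟩ := hb'
    simp only
    have e1 : z * (d' * z') = (d' * z') * z := (hZ hz (d' * z') hb).symm
    have e2 : z' * d = d * z' := (hZ hz' d (hD hd)).symm
    rw [comm_mul_left d z (d' * z') e1, comm_mul_right d d' z' e2]
    exact Subgroup.commutator_mem_commutator hd hd'
  · exact Subgroup.commutator_mono hD hD

/-- first part: for a minimal CL subgroup `Q` and a CL subgroup `R`, `Q = (Q ∩ R) C(Q)` -/
theorem part1 {p : ℕ} [Fact p.Prime] (P : Type*) [Group P] [Finite P] (hP : IsPGroup p P) (Q R : Subgroup P)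
    (hQ : Cfsg.IsMinimalCentrallyLarge Q) (hR : Cfsg.IsCentrallyLarge R) :
    (Q ⊓ R) ⊔ Subgroup.centralizer (Q : Set P) = Q ∧
    (((Q ⊓ R) ⊔ Subgroup.centralizer (Q : Set P) : Subgroup P) : Set P) =
      ((Q ⊓ R : Subgroup P) : Set P) * (Subgroup.centralizer (Q : Set P) : Set P) := by
  obtain ⟨hS1, hS2, -⟩ := Cfsg.Agent.S3005.result P hP
  obtain ⟨hQl, hQc⟩ := hS1 Q hQ.1
  obtain ⟨hRl, hRc⟩ := hS1 R hR
  have hZQ : Subgroup.centralizer (Q : Set P) ≤ Q := by rw [hQc]; exact inf_le_left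
  have hWR : Subgroup.centralizer (R : Set P) ≤ R := by rw [hRc]; exact inf_le_left
  obtain ⟨-, -, hDl, hZl, hQCC, hZWset, hCD⟩ := Cfsg.Agent.S3004.result P hP Q R hQl hRl
  obtain ⟨hDZset, hDZl, -⟩ := Cfsg.Agent.S3004.result P hP (Q ⊓ R) _ hDl hZl
  have hle : (Q ⊓ R) ⊔ Subgroup.centralizer (Q : Set P) ≤ Q := sup_le inf_le_left hZQ
  have hCL : Cfsg.IsCentrallyLarge ((Q ⊓ R) ⊔ Subgroup.centralizer (Q : Set P)) := by
    rw [hS2 _ hDZl, centralizer_sup_eq, hCD, ← hQCC]
    rintro x ⟨hx1, hx2⟩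
    have hx1' : x ∈ ((Subgroup.centralizer (Q : Set P) ⊔ Subgroup.centralizer (R : Set P) : Subgroup P) : Set P) := hx1
    rw [hZWset] at hx1'
    obtain ⟨z, hz, w, hw, rfl⟩ := hx1'
    have hwQ : w ∈ Q := by
      have : w = z⁻¹ * (z * w) := by group
      rw [this]
      exact Q.mul_mem (Q.inv_mem (hZQ hz)) hx2
    rw [sup_comm]
    exact Subgroup.mul_mem _ (Subgroup.mem_sup_left hz) (Subgroup.mem_sup_right ⟨hwQ, hWR hw⟩)
  have heq := hQ.2 _ hle hCL
  exact ⟨heq, hDZset⟩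

theorem sq_arith (q r z w d c zw rz qw : ℕ) (hq : 0 < q) (hr : 0 < r) (hz : 0 < z) (hw : 0 < w)
    (hzw : 0 < zw)
    (h1 : q * z = d * c) (h2 : r * w = d * c) (h3 : c * zw = z * w)
    (h4 : q * rz = d * z) (h5 : r * qw = d * w) (h6 : zw ≤ rz) (h7 : zw ≤ qw) : q = r ∧ z = w := by
  have a1 : q * zw = d * w := by
    have : z * (q * zw) = z * (d * w) := by
      calc z * (q * zw) = (q * z) * zw := by ring
        _ = d * (c * zw) := by rw [h1]; ring
        _ = z * (d * w) := by rw [h3]; ring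
    exact Nat.eq_of_mul_eq_mul_left hz this
  have a2 : r * zw = d * z := by
    have : w * (r * zw) = w * (d * z) := by
      calc w * (r * zw) = (r * w) * zw := by ring
        _ = d * (c * zw) := by rw [h2]; ring
        _ = w * (d * z) := by rw [h3]; ring
    exact Nat.eq_of_mul_eq_mul_left hw this
  -- q * rz = r * zw, r * qw = q * zw
  have b1 : q * rz = r * zw := by rw [h4, a2]
  have b2 : r * qw = q * zw := by rw [h5, a1]
  have b3 : rz * qw = zw * zw := by
    have : (q * r) * (rz * qw) = (q * r) * (zw * zw) := by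
      calc (q * r) * (rz * qw) = (q * rz) * (r * qw) := by ring
        _ = (r * zw) * (q * zw) := by rw [b1, b2]
        _ = (q * r) * (zw * zw) := by ring
    exact Nat.eq_of_mul_eq_mul_left (Nat.mul_pos hq hr) this
  have c1 : rz = zw := by
    by_contra hne
    have hlt : zw < rz := lt_of_le_of_ne h6 (Ne.symm hne)
    have : zw * zw < rz * qw := by
      calc zw * zw < rz * zw := Nat.mul_lt_mul_of_pos_right hlt hzw
        _ ≤ rz * qw := Nat.mul_le_mul_left _ h7
    omega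
  have e1 : q = r := by
    rw [c1] at b1
    exact Nat.eq_of_mul_eq_mul_right hzw b1
  refine ⟨e1, ?_⟩
  have : r * z = r * w := by
    calc r * z = q * z := by rw [e1]
      _ = d * c := h1
      _ = r * w := h2.symm
  exact Nat.eq_of_mul_eq_mul_left hr this

theorem pair {p : ℕ} [Fact p.Prime] (P : Type*) [Group P] [Finite P] (hP : IsPGroup p P) (Q R : Subgroup P) (hQ : Cfsg.IsMinimalCentrallyLarge Q) (hR : Cfsg.IsMinimalCentrallyLarge R) : (Q ⊓ R) ⊔ (Q ⊓ Subgroup.centralizer (Q : Set P)) = Q ∧ ⁅Q, Q⁆ = ⁅R, R⁆ ∧ Nat.card ↥Q = Nat.card ↥R ∧ Nat.card ↥(Q ⊓ Subgroup.centralizer (Q : Set P)) = Nat.card ↥(R ⊓ Subgroup.centralizer (R : Set P)) := by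
  obtain ⟨hS1, hS2, -⟩ := Cfsg.Agent.S3005.result P hP
  obtain ⟨hQl, hQc⟩ := hS1 Q hQ.1
  obtain ⟨hRl, hRc⟩ := hS1 R hR.1
  have hZQ : Subgroup.centralizer (Q : Set P) ≤ Q := by rw [hQc]; exact inf_le_left
  have hWR : Subgroup.centralizer (R : Set P) ≤ R := by rw [hRc]; exact inf_le_left
  obtain ⟨hQ1, hQ1set⟩ := part1 P hP Q R hQ hR.1
  obtain ⟨hR1, hR1set⟩ := part1 P hP R Q hR hQ.1
  rw [inf_comm R Q] at hR1 hR1set
  obtain ⟨-, -, hDl, -, -, hZWset, hCD⟩ := Cfsg.Agent.S3004.result P hP Q R hQl hRl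
  have hmax := max_eq P hP
  refine ⟨?_, ?_, ?_⟩
  · rw [← hQc]; exact hQ1
  · have hQset : (Q : Set P) = ((Q ⊓ R : Subgroup P) : Set P) * (Subgroup.centralizer (Q : Set P) : Set P) := by
      rw [← hQ1set, hQ1]
    have hRset : (R : Set P) = ((Q ⊓ R : Subgroup P) : Set P) * (Subgroup.centralizer (R : Set P) : Set P) := by
      rw [← hR1set, hR1]
    rw [comm_eq Q (Q ⊓ R) _ hQset inf_le_left le_rfl, comm_eq R (Q ⊓ R) _ hRset inf_le_right le_rfl]
  · -- cardinalities
    have c1 := card_of_sup_eq_mul _ _ hQ1set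
    have c2 := card_of_sup_eq_mul _ _ hR1set
    have c3 := card_of_sup_eq_mul _ _ hZWset
    rw [hQ1] at c1
    rw [hR1] at c2
    have hfQ : Nat.card ↥Q * Nat.card ↥(Subgroup.centralizer (Q : Set P)) = Cfsg.maxCentralizerProduct P := hQl
    have hfR : Nat.card ↥R * Nat.card ↥(Subgroup.centralizer (R : Set P)) = Cfsg.maxCentralizerProduct P := hRl
    have hfD : Nat.card ↥(Q ⊓ R) * Nat.card ↥(Subgroup.centralizer ((Q ⊓ R : Subgroup P) : Set P)) = Cfsg.maxCentralizerProduct P := hDl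
    rw [hCD] at hfD
    have h6 : Nat.card ↥(Subgroup.centralizer (Q : Set P) ⊓ Subgroup.centralizer (R : Set P)) ≤
        Nat.card ↥((Q ⊓ R) ⊓ Subgroup.centralizer (Q : Set P)) :=
      Subgroup.card_le_of_le (le_inf (le_inf (inf_le_left.trans hZQ) (inf_le_right.trans hWR)) inf_le_left)
    have h7 : Nat.card ↥(Subgroup.centralizer (Q : Set P) ⊓ Subgroup.centralizer (R : Set P)) ≤
        Nat.card ↥((Q ⊓ R) ⊓ Subgroup.centralizer (R : Set P)) :=
      Subgroup.card_le_of_le (le_inf (le_inf (inf_le_left.trans hZQ) (inf_le_right.trans hWR)) inf_le_right)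
    have := sq_arith (Nat.card ↥Q) (Nat.card ↥R) (Nat.card ↥(Subgroup.centralizer (Q : Set P)))
      (Nat.card ↥(Subgroup.centralizer (R : Set P))) (Nat.card ↥(Q ⊓ R))
      (Nat.card ↥(Subgroup.centralizer (Q : Set P) ⊔ Subgroup.centralizer (R : Set P)))
      (Nat.card ↥(Subgroup.centralizer (Q : Set P) ⊓ Subgroup.centralizer (R : Set P)))
      (Nat.card ↥((Q ⊓ R) ⊓ Subgroup.centralizer (Q : Set P)))
      (Nat.card ↥((Q ⊓ R) ⊓ Subgroup.centralizer (R : Set P)))
      Nat.card_pos Nat.card_pos Nat.card_pos Nat.card_pos Nat.card_pos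
      (by rw [hfQ, hfD]) (by rw [hfR, hfD]) c3.symm c1.symm c2.symm h6 h7
    refine ⟨this.1, ?_⟩
    rw [← hQc, ← hRc]
    exact this.2

/-- Let P be a finite p-group and Q, R minimal centrally large subgroups of P (centrally large: |Q|·|Z(Q)| maximal among subgroups of P; minimal among such under inclusion). Then Q = (Q ∩ R)·Z(Q), the derived subgroups [Q, Q] and [R, R] coincide, |Q| = |R| and |Z(Q)| = |Z(R)|; and if Q is abelian then the minimal centrally large subgroups of P are exactly the abelian subgroups of P of largest order. -/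
theorem result {p : ℕ} [Fact p.Prime] (P : Type*) [Group P] [Finite P] (hP : IsPGroup p P) (Q R : Subgroup P) (hQ : Cfsg.IsMinimalCentrallyLarge Q) (hR : Cfsg.IsMinimalCentrallyLarge R) : (Q ⊓ R) ⊔ (Q ⊓ Subgroup.centralizer (Q : Set P)) = Q ∧ ⁅Q, Q⁆ = ⁅R, R⁆ ∧ Nat.card ↥Q = Nat.card ↥R ∧ Nat.card ↥(Q ⊓ Subgroup.centralizer (Q : Set P)) = Nat.card ↥(R ⊓ Subgroup.centralizer (R : Set P)) ∧ (IsMulCommutative ↥Q → ∀ X : Subgroup P, Cfsg.IsMinimalCentrallyLarge X ↔ X ∈ Cfsg.maxAbelianSubgroups P) := by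
  obtain ⟨h1, h2, h3, h4⟩ := pair P hP Q R hQ hR
  refine ⟨h1, h2, h3, h4, ?_⟩
  intro hQab X
  have hQle : Q ≤ Subgroup.centralizer (Q : Set P) := Subgroup.le_centralizer_iff_isMulCommutative.mpr hQab
  have hQZ : Q ⊓ Subgroup.centralizer (Q : Set P) = Q := inf_eq_left.mpr hQle
  have hf : Nat.card ↥Q * Nat.card ↥Q = Cfsg.maxCentralProduct P := by
    have : Nat.card ↥Q * Nat.card ↥(Subgroup.center ↥Q) = Cfsg.maxCentralProduct P := hQ.1
    rwa [card_center_eq, hQZ] at this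
  -- abelian subgroups have order at most |Q|
  have hab_le : ∀ B : Subgroup P, IsMulCommutative ↥B → Nat.card ↥B ≤ Nat.card ↥Q := by
    intro B hB
    have hBle : B ≤ Subgroup.centralizer (B : Set P) := Subgroup.le_centralizer_iff_isMulCommutative.mpr hB
    have := cl_le_max B
    rw [inf_eq_left.mpr hBle, ← hf] at this
    exact Nat.mul_self_le_mul_self_iff.mp this
  constructor
  · intro hX
    obtain ⟨-, -, g3, g4⟩ := pair P hP Q X hQ hX
    rw [hQZ] at g4
    have hXZ : X ⊓ Subgroup.centralizer (X : Set P) = X := by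
      apply Subgroup.eq_of_le_of_card_ge inf_le_left
      rw [← g4, g3]
    have hXab : IsMulCommutative ↥X := by
      rw [← Subgroup.le_centralizer_iff_isMulCommutative]
      exact inf_eq_left.mp hXZ
    refine ⟨hXab, fun B hB => ?_⟩
    rw [← g3]; exact hab_le B hB
  · intro hX
    obtain ⟨hXab, hXmax⟩ := hX
    have hXle : X ≤ Subgroup.centralizer (X : Set P) := Subgroup.le_centralizer_iff_isMulCommutative.mpr hXab
    have hcard : Nat.card ↥X = Nat.card ↥Q := le_antisymm (hab_le X hXab) (hXmax Q hQab)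
    refine ⟨?_, ?_⟩
    · show Nat.card ↥X * Nat.card ↥(Subgroup.center ↥X) = _
      rw [card_center_eq, inf_eq_left.mpr hXle, hcard, hf]
    · intro X' hle hX'
      have hX'ab : IsMulCommutative ↥X' := by
        rw [← Subgroup.le_centralizer_iff_isMulCommutative]
        exact hle.trans (hXle.trans (Subgroup.centralizer_le (by exact_mod_cast hle)))
      have hX'le : X' ≤ Subgroup.centralizer (X' : Set P) := Subgroup.le_centralizer_iff_isMulCommutative.mpr hX'ab
      have hX'f : Nat.card ↥X' * Nat.card ↥X' = Cfsg.maxCentralProduct P := by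
        have : Nat.card ↥X' * Nat.card ↥(Subgroup.center ↥X') = Cfsg.maxCentralProduct P := hX'
        rwa [card_center_eq, inf_eq_left.mpr hX'le] at this
      have : Nat.card ↥X' = Nat.card ↥Q := by
        rw [← hf] at hX'f
        exact Nat.mul_self_inj.mp hX'f
      apply Subgroup.eq_of_le_of_card_ge hle
      rw [this, hcard]

end Cfsg.Agent.S3007
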