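import Cfsg.Statements.S3011
import Mathlib
import Cfsg.Agent.S0200
import Cfsg.Agent.Lib.Helper16.PCore
-- import your own Cfsg.Agent.* helpers here

set_option autoImplicit false
open Cfsg

namespace Cfsg.Agent.S3011

/-- an element of odd order equal to its inverse is trivial -/
theorem eq_one_of_odd_of_eq_inv {G : Type*} [Group G] (h : G) (hodd : Odd (orderOf h))
    (hh : h = h⁻¹) : h = 1 := by
  have h2 : h ^ 2 = 1 := by
    rw [pow_two]
    nth_rewrite 2 [hh]
    exact mul_inv_cancel h
  have hd : orderOf h ∣ 2 := orderOf_dvd_of_pow_eq_one h2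
  have h1 : orderOf h = 1 := by
    rcases (Nat.dvd_prime Nat.prime_two).mp hd with h1 | h1
    · exact h1
    · rw [h1] at hodd
      exact absurd hodd (by decide)
  exact orderOf_eq_one_iff.mp h1

/-- an element commuting with and inverted by the same element -/
theorem eq_one_of_comm_of_inv {G : Type*} [Group G] (x k : G) (hodd : Odd (orderOf k))
    (hc : x * k = k * x) (hi : x * k * x⁻¹ = k⁻¹) : k = 1 := by
  apply eq_one_of_odd_of_eq_inv k hodd
  rw [← hi, hc]
  group

/-- an element of odd order cannot invert a nontrivial element of odd order -/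
theorem eq_one_of_odd_inverts {G : Type*} [Group G] (h k : G) (hodd : Odd (orderOf h))
    (hkodd : Odd (orderOf k)) (hi : h * k * h⁻¹ = k⁻¹) : k = 1 := by
  have key : ∀ m : ℕ, h ^ m * k * (h ^ m)⁻¹ = if Even m then k else k⁻¹ := by
    intro m
    induction m with
    | zero => simp
    | succ n ih =>
      have e : h ^ (n + 1) * k * (h ^ (n + 1))⁻¹ = h * (h ^ n * k * (h ^ n)⁻¹) * h⁻¹ := by
        rw [pow_succ']; group
      rw [e, ih]
      by_cases hn : Even n
      · rw [if_pos hn, if_neg (by rw [Nat.even_add_one]; exact not_not.mpr hn), hi]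
      · rw [if_neg hn, if_pos (by rw [Nat.even_add_one]; exact hn)]
        have : h * k⁻¹ * h⁻¹ = (h * k * h⁻¹)⁻¹ := by group
        rw [this, hi, inv_inv]
  have h1 := key (orderOf h)
  rw [pow_orderOf_eq_one, if_neg (Nat.not_even_iff_odd.mpr hodd)] at h1
  apply eq_one_of_odd_of_eq_inv k hkodd
  rw [← h1]; group

theorem keyA {G : Type*} [Group G] (V : Subgroup G) (hS : Cfsg.IsSidkiPair V) (x y : G)
    (hx : x ∈ V) (hy : y ∈ V) (hx2 : x * x = 1) (hy2 : y * y = 1) (hxy : x * y = y * x)
    (hV4 : ∀ w ∈ V, w = 1 ∨ w = x ∨ w = y ∨ w = x * y) (h k : G)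
    (hhodd : Odd (orderOf h)) (hkodd : Odd (orderOf k))
    (hxh : x * h = h * x) (hyh : y * h * y⁻¹ = h⁻¹) (hyk : y * k = k * y)
    (hxk : x * k * x⁻¹ = k⁻¹) (hh1 : h ≠ 1) (hk1 : k ≠ 1) : False := by
  have hxinv : x⁻¹ = x := inv_eq_of_mul_eq_one_right hx2
  have hyinv : y⁻¹ = y := inv_eq_of_mul_eq_one_right hy2
  -- a square root g of h in ⟨h⟩
  obtain ⟨n, hn⟩ := hhodd
  set g := h ^ (n + 1) with hg
  have hgg : g * g = h := by
    rw [hg, ← pow_add]
    have : n + 1 + (n + 1) = orderOf h + 1 := by omega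
    rw [this, pow_succ, pow_orderOf_eq_one, one_mul]
  have hxg : x * g = g * x := by
    rw [hg]
    exact (Commute.pow_right (show Commute x h from hxh) (n + 1))
  have hyg : y * g * y⁻¹ = g⁻¹ := by
    rw [hg, ← conj_pow, hyh, inv_pow]
  -- g y g⁻¹ = h y
  have hgy : g * y * g⁻¹ = h * y := by
    have : y * g⁻¹ = g * y := by
      have h1 : y * g⁻¹ * y⁻¹ = g := by
        have : y * g⁻¹ * y⁻¹ = (y * g * y⁻¹)⁻¹ := by group
        rw [this, hyg, inv_inv]
      calc y * g⁻¹ = (y * g⁻¹ * y⁻¹) * y := by group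
        _ = g * y := by rw [h1]
    calc g * y * g⁻¹ = g * (y * g⁻¹) := by group
      _ = g * (g * y) := by rw [this]
      _ = (g * g) * y := by group
      _ = h * y := by rw [hgg]
  have hgx : g * x * g⁻¹ = x := by
    calc g * x * g⁻¹ = (x * g) * g⁻¹ := by rw [hxg]
      _ = x := by group
  -- first application of the Sidki condition, to the conjugate g⁻¹ k g
  have hcomm : h * k = k * h := by
    set k0 := g⁻¹ * k * g with hk0
    have hk0odd : Odd (orderOf k0) := by
      have : orderOf k0 = orderOf k := by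
        have := (MulAut.conj g⁻¹).orderOf_eq k
        rw [MulAut.conj_apply, inv_inv] at this
        exact this
      rw [this]; exact hkodd
    have hxk0 : x * k0 * x⁻¹ = k0⁻¹ := by
      have hxg' : x * g⁻¹ = g⁻¹ * x := by
        calc x * g⁻¹ = g⁻¹ * (g * x) * g⁻¹ := by group
          _ = g⁻¹ * (x * g) * g⁻¹ := by rw [hxg]
          _ = g⁻¹ * x := by group
      have hgx' : g * x⁻¹ = x⁻¹ * g := by
        rw [hxinv]; exact hxg.symm
      calc x * k0 * x⁻¹ = (x * g⁻¹) * k * (g * x⁻¹) := by rw [hk0]; group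
        _ = (g⁻¹ * x) * k * (x⁻¹ * g) := by rw [hxg', hgx']
        _ = g⁻¹ * (x * k * x⁻¹) * g := by group
        _ = g⁻¹ * k⁻¹ * g := by rw [hxk]
        _ = k0⁻¹ := by rw [hk0]; group
    obtain ⟨w, hw, hw1, hwk⟩ := hS k0 x hx hk0odd hxk0
    -- (g w g⁻¹) commutes with k
    have hwk' : (g * w * g⁻¹) * k = k * (g * w * g⁻¹) := by
      calc (g * w * g⁻¹) * k = g * (w * k0) * g⁻¹ := by rw [hk0]; group
        _ = g * (k0 * w) * g⁻¹ := by rw [hwk]
        _ = k * (g * w * g⁻¹) := by rw [hk0]; group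
    rcases hV4 w hw with h0 | h0 | h0 | h0
    · exact absurd h0 hw1
    · rw [h0, hgx] at hwk'
      exact absurd (eq_one_of_comm_of_inv x k hkodd hwk' hxk) hk1
    · rw [h0, hgy] at hwk'
      have h1 : y * k * y⁻¹ = k := by rw [hyk]; group
      calc h * k = h * (y * k * y⁻¹) := by rw [h1]
        _ = (h * y * k) * y⁻¹ := by group
        _ = (k * (h * y)) * y⁻¹ := by rw [hwk']
        _ = k * h := by group
    · exfalso
      have e : g * (x * y) * g⁻¹ = x * (h * y) := by
        calc g * (x * y) * g⁻¹ = (g * x * g⁻¹) * (g * y * g⁻¹) := by group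
          _ = x * (h * y) := by rw [hgx, hgy]
      rw [h0, e] at hwk'
      -- x h y k = k x h y, so h inverts k
      have h1 : y * k * y⁻¹ = k := by rw [hyk]; group
      have h2 : x * h * k = k * x * h := by
        calc x * h * k = x * h * (y * k * y⁻¹) := by rw [h1]
          _ = (x * (h * y) * k) * y⁻¹ := by group
          _ = (k * (x * (h * y))) * y⁻¹ := by rw [hwk']
          _ = k * x * h := by group
      have h3 : x⁻¹ * k * x = k⁻¹ := by
        have : x⁻¹ * k * x = x * k * x⁻¹ := by rw [hxinv]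
        rw [this, hxk]
      have h4 : h * k * h⁻¹ = k⁻¹ := by
        calc h * k * h⁻¹ = x⁻¹ * (x * h * k) * h⁻¹ := by group
          _ = x⁻¹ * (k * x * h) * h⁻¹ := by rw [h2]
          _ = x⁻¹ * k * x := by group
          _ = k⁻¹ := h3
      exact hk1 (eq_one_of_odd_inverts h k ⟨n, hn⟩ hkodd h4)
  -- second application, to h * k
  have hmodd : Odd (orderOf (h * k)) := by
    have hd := Commute.orderOf_mul_dvd_lcm (show Commute h k from hcomm)
    have hl : Odd (Nat.lcm (orderOf h) (orderOf k)) := by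
      have h1 : Nat.lcm (orderOf h) (orderOf k) ∣ orderOf h * orderOf k := Nat.lcm_dvd_mul _ _
      exact Odd.of_dvd_nat (Odd.mul ⟨n, hn⟩ hkodd) h1
    exact Odd.of_dvd_nat hl hd
  have hzh : (x * y) * h * (x * y)⁻¹ = h⁻¹ := by
    have hxh' : x * h⁻¹ * x⁻¹ = h⁻¹ := by
      have : x * h⁻¹ * x⁻¹ = (x * h * x⁻¹)⁻¹ := by group
      rw [this, hxh]; group
    calc (x * y) * h * (x * y)⁻¹ = x * (y * h * y⁻¹) * x⁻¹ := by group
      _ = x * h⁻¹ * x⁻¹ := by rw [hyh]
      _ = h⁻¹ := hxh'
  have hzk : (x * y) * k * (x * y)⁻¹ = k⁻¹ := by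
    have h1 : y * k * y⁻¹ = k := by rw [hyk]; group
    calc (x * y) * k * (x * y)⁻¹ = x * (y * k * y⁻¹) * x⁻¹ := by group
      _ = x * k * x⁻¹ := by rw [h1]
      _ = k⁻¹ := hxk
  have hzm : (x * y) * (h * k) * (x * y)⁻¹ = (h * k)⁻¹ := by
    calc (x * y) * (h * k) * (x * y)⁻¹
        = ((x * y) * h * (x * y)⁻¹) * ((x * y) * k * (x * y)⁻¹) := by group
      _ = h⁻¹ * k⁻¹ := by rw [hzh, hzk]
      _ = (k * h)⁻¹ := by group
      _ = (h * k)⁻¹ := by rw [hcomm]
  obtain ⟨w, hw, hw1, hwm⟩ := hS (h * k) (x * y) (V.mul_mem hx hy) hmodd hzm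
  rcases hV4 w hw with h0 | h0 | h0 | h0
  · exact hw1 h0
  · rw [h0] at hwm
    -- x commutes with h k and with h, hence with k
    have : x * k = k * x := by
      calc x * k = h⁻¹ * (h * x) * k := by group
        _ = h⁻¹ * (x * h) * k := by rw [hxh]
        _ = h⁻¹ * (x * (h * k)) := by group
        _ = h⁻¹ * ((h * k) * x) := by rw [hwm]
        _ = k * x := by group
    exact hk1 (eq_one_of_comm_of_inv x k hkodd this hxk)
  · rw [h0] at hwm
    -- y commutes with h k and with k, hence with h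
    have : y * h = h * y := by
      calc y * h = (y * (h * k)) * k⁻¹ := by group
        _ = ((h * k) * y) * k⁻¹ := by rw [hwm]
        _ = h * (k * y) * k⁻¹ := by group
        _ = h * (y * k) * k⁻¹ := by rw [hyk]
        _ = h * y := by group
    exact hh1 (eq_one_of_comm_of_inv y h ⟨n, hn⟩ this hyh)
  · rw [h0] at hwm
    -- x y commutes with and inverts h k
    have hm1 : h * k = 1 := eq_one_of_comm_of_inv (x * y) (h * k) hmodd hwm hzm
    have hkh : k = h⁻¹ := by
      calc k = h⁻¹ * (h * k) := by group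
        _ = h⁻¹ := by rw [hm1, mul_one]
    have : x * k = k * x := by
      rw [hkh]
      calc x * h⁻¹ = h⁻¹ * (h * x) * h⁻¹ := by group
        _ = h⁻¹ * (x * h) * h⁻¹ := by rw [hxh]
        _ = h⁻¹ * x := by group
    exact hk1 (eq_one_of_comm_of_inv x k hkodd this hxk)

/-- Let G be a finite group and V a nontrivial elementary abelian 2-subgroup of G of order at most 4 such that, whenever an element of V inverts an element h of G of odd order, some nontrivial element of V commutes with h. Then V meets O₂(G) nontrivially. (The case of order at most 4 has a short argument from the Baer–Suzuki theorem.) -/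
theorem result {G : Type*} [Group G] [Finite G] (V : Subgroup G) (hV : Cfsg.IsElementaryAbelian 2 V) (hV1 : V ≠ ⊥) (hS : Cfsg.IsSidkiPair V) (h4 : Nat.card V ≤ 4) : V ⊓ Cfsg.pCore 2 G ≠ ⊥ := by
  classical
  intro hbot
  have hsq : ∀ v ∈ V, v * v = 1 := by
    intro v hv
    have := hV.2 v hv
    rwa [pow_two] at this
  have hcommV : ∀ v ∈ V, ∀ w ∈ V, v * w = w * v := by
    intro v hv w hw
    have := hV.1.is_comm.comm (⟨v, hv⟩ : ↥V) ⟨w, hw⟩
    exact congrArg Subtype.val this
  have hinv : ∀ v ∈ V, v ≠ 1 → ∃ h : G, h ≠ 1 ∧ Odd (orderOf h) ∧ v * h * v⁻¹ = h⁻¹ := by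
    intro v hv hv1
    apply Cfsg.Agent.S0200.result v (orderOf_eq_prime (hV.2 v hv) hv1)
    intro N hN hN2 hvN
    have : v ∈ V ⊓ Cfsg.pCore 2 G := ⟨hv, Cfsg.Agent.Lib.Helper16.le_pCore hN hN2 hvN⟩
    rw [hbot] at this
    exact hv1 (Subgroup.mem_bot.mp this)
  obtain ⟨a', ha1'⟩ := (Subgroup.ne_bot_iff_exists_ne_one).mp hV1
  set a : G := (a' : G) with hadef
  have ha : a ∈ V := a'.2
  have ha1 : a ≠ 1 := fun h => ha1' (Subtype.ext h)
  obtain ⟨h, hh1, hhodd, hah⟩ := hinv a ha ha1
  obtain ⟨b, hb, hb1, hbh⟩ := hS h a ha hhodd hah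
  have hba : b ≠ a := by
    intro hba
    rw [hba] at hbh
    exact hh1 (eq_one_of_comm_of_inv a h hhodd hbh hah)
  have hainv : a⁻¹ = a := inv_eq_of_mul_eq_one_right (hsq a ha)
  have hbinv : b⁻¹ = b := inv_eq_of_mul_eq_one_right (hsq b hb)
  -- V = {1, b, a, b * a}
  have hV4 : ∀ w ∈ V, w = 1 ∨ w = b ∨ w = a ∨ w = b * a := by
    have hne1 : b * a ≠ 1 := by
      intro h1
      apply hba
      calc b = (b * a) * a⁻¹ := by group
        _ = a := by rw [h1, one_mul, hainv]
    have hne2 : b * a ≠ b := by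
      intro h1
      apply ha1
      calc a = b⁻¹ * (b * a) := by group
        _ = 1 := by rw [h1]; group
    have hne3 : b * a ≠ a := by
      intro h1
      apply hb1
      calc b = (b * a) * a⁻¹ := by group
        _ = 1 := by rw [h1]; group
    let s : Finset G := {1, b, a, b * a}
    have hs : s.card = 4 := by
      simp only [s]
      rw [Finset.card_insert_of_notMem, Finset.card_insert_of_notMem, Finset.card_insert_of_notMem,
        Finset.card_singleton]
      · simp only [Finset.mem_singleton]; exact fun h => hne3 h.symm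
      · simp only [Finset.mem_insert, Finset.mem_singleton, not_or]
        exact ⟨hba, fun h => hne2 h.symm⟩
      · simp only [Finset.mem_insert, Finset.mem_singleton, not_or]
        exact ⟨fun h => hb1 h.symm, fun h => ha1 h.symm, fun h => hne1 h.symm⟩
    have hsub : (↑s : Set G) ⊆ (V : Set G) := by
      intro w hw
      simp only [s, Finset.coe_insert, Finset.coe_singleton, Set.mem_insert_iff,
        Set.mem_singleton_iff] at hw
      rcases hw with rfl | rfl | rfl | rfl
      · exact V.one_mem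
      · exact hb
      · exact ha
      · exact V.mul_mem hb ha
    have hcard : (V : Set G).ncard ≤ (↑s : Set G).ncard := by
      rw [Set.ncard_coe_finset, hs, ← Nat.card_coe_set_eq]
      exact h4
    have heq := Set.eq_of_subset_of_ncard_le hsub hcard (Set.toFinite _)
    intro w hw
    have : w ∈ (↑s : Set G) := by rw [heq]; exact hw
    simpa only [s, Finset.coe_insert, Finset.coe_singleton, Set.mem_insert_iff,
      Set.mem_singleton_iff] using this
  obtain ⟨k, hk1, hkodd, hbk⟩ := hinv b hb hb1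
  obtain ⟨w, hw, hw1, hwk⟩ := hS k b hb hkodd hbk
  rcases hV4 w hw with h0 | h0 | h0 | h0
  · exact hw1 h0
  · rw [h0] at hwk
    exact hk1 (eq_one_of_comm_of_inv b k hkodd hwk hbk)
  · rw [h0] at hwk
    exact keyA V hS b a hb ha (hsq b hb) (hsq a ha) (hcommV b hb a ha) hV4 h k hhodd hkodd hbh hah
      hwk hbk hh1 hk1
  · rw [h0] at hwk
    -- y = b * a
    have hV4' : ∀ w ∈ V, w = 1 ∨ w = b ∨ w = b * a ∨ w = b * (b * a) := by
      intro w hw
      have e : b * (b * a) = a := by
        calc b * (b * a) = (b * b) * a := by group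
          _ = a := by rw [hsq b hb, one_mul]
      rw [e]
      rcases hV4 w hw with h1 | h1 | h1 | h1
      · exact Or.inl h1
      · exact Or.inr (Or.inl h1)
      · exact Or.inr (Or.inr (Or.inr h1))
      · exact Or.inr (Or.inr (Or.inl h1))
    have hyh : (b * a) * h * (b * a)⁻¹ = h⁻¹ := by
      have hbh' : b * h⁻¹ * b⁻¹ = h⁻¹ := by
        have : b * h⁻¹ * b⁻¹ = (b * h * b⁻¹)⁻¹ := by group
        rw [this, hbh]; group
      calc (b * a) * h * (b * a)⁻¹ = b * (a * h * a⁻¹) * b⁻¹ := by group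
        _ = b * h⁻¹ * b⁻¹ := by rw [hah]
        _ = h⁻¹ := hbh'
    have hy2 : (b * a) * (b * a) = 1 := hsq _ (V.mul_mem hb ha)
    exact keyA V hS b (b * a) hb (V.mul_mem hb ha) (hsq b hb) hy2
      (hcommV b hb (b * a) (V.mul_mem hb ha)) hV4' h k hhodd hkodd hbh hyh hwk hbk hh1 hk1

end Cfsg.Agent.S3011
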