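import Cfsg.Statements.S3012
import Mathlib
-- import your own Cfsg.Agent.* helpers here

set_option autoImplicit false
open Cfsg

namespace Cfsg.Agent.S3012

/-- An involution (or trivial element) `v` inverts the commutator `v h v⁻¹ h⁻¹`. -/
theorem inv_comm_of_sq {G : Type*} [Group G] (v h : G) (hvv : v * v = 1) :
    v * (v * h * v⁻¹ * h⁻¹) * v⁻¹ = (v * h * v⁻¹ * h⁻¹)⁻¹ := by
  have hv' : v⁻¹ = v := inv_eq_of_mul_eq_one_right hvv
  have hvvz : ∀ z : G, v * (v * z) = z := fun z => by rw [← mul_assoc, hvv, one_mul]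
  rw [hv', eq_inv_iff_mul_eq_one]
  simp only [mul_assoc, hvvz, inv_mul_cancel_left, inv_mul_cancel, mul_inv_cancel_left, mul_inv_cancel, hvv]

/-- If `w` commutes with `a ^ k` and `k` is coprime to the order of `a`, then `w` commutes with `a`. -/
theorem commute_of_commute_pow {G : Type*} [Group G] (w a : G) (k : ℕ) (hk : k.Coprime (orderOf a))
    (h : Commute w (a ^ k)) : Commute w a := by
  obtain ⟨m, hm⟩ := exists_pow_eq_self_of_coprime hk
  rw [← hm]
  exact h.pow_right _

/-- Let G be a finite group, V a nontrivial elementary abelian 2-subgroup of G satisfying the Sidki pair condition (every odd-order element inverted by an element of V commutes with a nontrivial element of V), and K a normal subgroup of G with V ∩ K = 1. Then the image of V in G/K satisfies the Sidki pair condition in G/K. -/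
theorem result {G : Type*} [Group G] [Finite G] (V K : Subgroup G) [K.Normal] (hV : Cfsg.IsElementaryAbelian 2 V) (hV1 : V ≠ ⊥) (hS : Cfsg.IsSidkiPair V) (hVK : V ⊓ K = ⊥) : Cfsg.IsSidkiPair (V.map (QuotientGroup.mk' K)) := by
  obtain ⟨hVc, hV2⟩ := hV
  intro hbar vbar hvbar hodd hinv
  obtain ⟨v, hv, rfl⟩ := hvbar
  obtain ⟨h, rfl⟩ := QuotientGroup.mk'_surjective K hbar
  have hvv : v * v = 1 := by rw [← pow_two]; exact hV2 v hv
  set c : G := v * h * v⁻¹ * h⁻¹ with hc
  have hcinv : v * c * v⁻¹ = c⁻¹ := inv_comm_of_sq v h hvv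
  have hn0 : orderOf c ≠ 0 := (orderOf_pos c).ne'
  obtain ⟨a, m, hm, hnm⟩ := Nat.exists_eq_two_pow_mul_odd hn0
  set c' : G := c ^ (2 ^ a) with hc'
  have hc'odd : Odd (orderOf c') := by
    have : orderOf c' ∣ m := by
      apply orderOf_dvd_of_pow_eq_one
      rw [hc', ← pow_mul, ← hnm, pow_orderOf_eq_one]
    exact Odd.of_dvd_nat hm this
  have hc'inv : v * c' * v⁻¹ = c'⁻¹ := by
    rw [hc', ← conj_pow, hcinv, inv_pow]
  obtain ⟨w, hwV, hw1, hwc⟩ := hS c' v hv hc'odd hc'inv
  refine ⟨QuotientGroup.mk' K w, ⟨w, hwV, rfl⟩, ?_, ?_⟩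
  · intro hw
    rw [QuotientGroup.mk'_apply, QuotientGroup.eq_one_iff] at hw
    have : w ∈ V ⊓ K := ⟨hwV, hw⟩
    rw [hVK, Subgroup.mem_bot] at this
    exact hw1 this
  · -- image of c' is a power of hbar
    set π := QuotientGroup.mk' K with hπ
    have himg : π c' = ((π h) ^ (2 ^ (a + 1)))⁻¹ := by
      have e1 : π c = (π h)⁻¹ * (π h)⁻¹ := by
        rw [hc]
        simp only [map_mul, map_inv]
        rw [hinv]
      rw [hc', map_pow, e1, ← pow_two, ← pow_mul, ← pow_succ', inv_pow]
    have hcomm1 : Commute (π w) (π c') := by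
      show π w * π c' = π c' * π w
      rw [← map_mul, ← map_mul, hwc]
    rw [himg] at hcomm1
    have hcomm2 : Commute (π w) ((π h) ^ (2 ^ (a + 1))) := by
      have := hcomm1.inv_right
      rwa [inv_inv] at this
    have hcop : (2 ^ (a + 1)).Coprime (orderOf (π h)) := by
      apply Nat.Coprime.pow_left
      exact Nat.coprime_two_left.mpr hodd
    exact (commute_of_commute_pow _ _ _ hcop hcomm2).eq

end Cfsg.Agent.S3012
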