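import Cfsg.Statements.S3013
import Mathlib
-- import your own Cfsg.Agent.* helpers here

set_option autoImplicit false
open Cfsg

namespace Cfsg.Agent.S3013

/-- If `w` commutes with `a ^ 2` and `a` has odd order then `w` commutes with `a`. -/
theorem commute_of_commute_sq {G : Type*} [Group G] (w a : G) (hodd : Odd (orderOf a))
    (h : Commute w (a ^ 2)) : Commute w a := by
  obtain ⟨k, hk⟩ := hodd
  have : a = (a ^ 2) ^ (k + 1) := by
    rw [← pow_mul]
    have : 2 * (k + 1) = orderOf a + 1 := by omega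
    rw [this, pow_succ, pow_orderOf_eq_one, one_mul]
  rw [this]
  exact h.pow_right _

/-- Let G be a finite group and V a nontrivial elementary abelian 2-subgroup of G satisfying the Sidki pair condition. Let v ∈ V and let x be an element of odd order inverted by v, and put C = C_G(v) ∩ C_G(x), the centralizer of the dihedral subgroup generated by v and x. Then C ∩ V is nontrivial and satisfies the Sidki pair condition inside C: every odd-order element of C inverted by an element of C ∩ V commutes with a nontrivial element of C ∩ V. -/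
theorem result {G : Type*} [Group G] [Finite G] (V : Subgroup G) (hV : Cfsg.IsElementaryAbelian 2 V) (hV1 : V ≠ ⊥) (hS : Cfsg.IsSidkiPair V) (v x : G) (hv : v ∈ V) (hx : Odd (orderOf x)) (hinv : v * x * v⁻¹ = x⁻¹) (C : Subgroup G) (hC : C = Subgroup.centralizer ({v} : Set G) ⊓ Subgroup.centralizer ({x} : Set G)) : C ⊓ V ≠ ⊥ ∧ Cfsg.IsSidkiPair ((C ⊓ V).subgroupOf C) := by
  obtain ⟨hVc, hV2⟩ := hV
  -- elements of V commute
  have hcomm : ∀ a ∈ V, ∀ b ∈ V, a * b = b * a := by
    intro a ha b hb
    have := hVc.is_comm.comm (⟨a, ha⟩ : ↥V) ⟨b, hb⟩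
    exact congrArg Subtype.val this
  have memC : ∀ g : G, g ∈ C ↔ g * v = v * g ∧ g * x = x * g := by
    intro g
    rw [hC, Subgroup.mem_inf, Subgroup.mem_centralizer_iff, Subgroup.mem_centralizer_iff]
    simp only [Set.mem_singleton_iff, forall_eq]
    constructor
    · rintro ⟨h1, h2⟩; exact ⟨h1.symm, h2.symm⟩
    · rintro ⟨h1, h2⟩; exact ⟨h1.symm, h2.symm⟩
  constructor
  · obtain ⟨w, hwV, hw1, hwx⟩ := hS x v hv hx hinv
    intro hbot
    have hwC : w ∈ C := (memC w).mpr ⟨hcomm w hwV v hv, hwx⟩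
    have : w ∈ C ⊓ V := ⟨hwC, hwV⟩
    rw [hbot, Subgroup.mem_bot] at this
    exact hw1 this
  · intro h u hu hh huh
    rw [Subgroup.mem_subgroupOf] at hu
    obtain ⟨huC, huV⟩ := hu
    have hhC : (h : G) ∈ C := h.2
    obtain ⟨hhv, hhx⟩ := (memC _).mp hhC
    obtain ⟨huv, hux⟩ := (memC _).mp huC
    have hh' : Odd (orderOf (h : G)) := by rwa [Subgroup.orderOf_coe]
    have huh' : (u : G) * (h : G) * (u : G)⁻¹ = (h : G)⁻¹ := by
      have := congrArg Subtype.val huh
      simpa using this
    -- y = h * x has odd order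
    have hcomm_hx : Commute (h : G) x := hhx
    have hy : Odd (orderOf ((h : G) * x)) := by
      have hdvd := hcomm_hx.orderOf_mul_dvd_lcm
      have hl : Odd (Nat.lcm (orderOf (h : G)) (orderOf x)) := by
        rw [Nat.odd_iff, ← Nat.two_dvd_ne_zero] at *
        intro h2
        rcases (Nat.Prime.dvd_mul Nat.prime_two).mp
          (dvd_trans h2 (Nat.lcm_dvd_mul _ _)) with h3 | h3
        · exact hh' h3
        · exact hx h3
      exact Odd.of_dvd_nat hl hdvd
    have huvV : (u : G) * v ∈ V := V.mul_mem huV hv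
    have hinvy : ((u : G) * v) * ((h : G) * x) * ((u : G) * v)⁻¹ = ((h : G) * x)⁻¹ := by
      have e1 : v * (h : G) * v⁻¹ = (h : G) := by rw [← hhv]; group
      have e2 : (u : G) * x⁻¹ * (u : G)⁻¹ = x⁻¹ := by
        have : (u : G) * x * (u : G)⁻¹ = x := by rw [hux]; group
        calc (u : G) * x⁻¹ * (u : G)⁻¹ = ((u : G) * x * (u : G)⁻¹)⁻¹ := by group
          _ = x⁻¹ := by rw [this]
      calc ((u : G) * v) * ((h : G) * x) * ((u : G) * v)⁻¹
          = (u : G) * ((v * (h : G) * v⁻¹) * (v * x * v⁻¹)) * (u : G)⁻¹ := by group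
        _ = (u : G) * ((h : G) * x⁻¹) * (u : G)⁻¹ := by rw [e1, hinv]
        _ = ((u : G) * (h : G) * (u : G)⁻¹) * ((u : G) * x⁻¹ * (u : G)⁻¹) := by group
        _ = (h : G)⁻¹ * x⁻¹ := by rw [huh', e2]
        _ = ((h : G) * x)⁻¹ := by rw [hcomm_hx.eq]; group
    obtain ⟨w, hwV, hw1, hwy⟩ := hS ((h : G) * x) ((u : G) * v) huvV hy hinvy
    have hwv : Commute w v := hcomm w hwV v hv
    have hwu : Commute w (u : G) := hcomm w hwV u huV
    have hwy' : Commute w ((h : G) * x) := hwy
    -- w commutes with v y v⁻¹ = h x⁻¹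
    have h1 : Commute w ((h : G) * x⁻¹) := by
      have : (h : G) * x⁻¹ = v * ((h : G) * x) * v⁻¹ := by
        have e1 : v * (h : G) * v⁻¹ = (h : G) := by rw [← hhv]; group
        calc (h : G) * x⁻¹ = (v * (h : G) * v⁻¹) * (v * x * v⁻¹) := by rw [e1, hinv]
          _ = v * ((h : G) * x) * v⁻¹ := by group
      rw [this]
      exact (hwv.mul_right hwy').mul_right hwv.inv_right
    have h2 : Commute w ((h : G) ^ 2) := by
      have : (h : G) ^ 2 = ((h : G) * x) * ((h : G) * x⁻¹) := by
        calc (h : G) ^ 2 = (h : G) * ((h : G) * x) * x⁻¹ := by rw [pow_two]; group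
          _ = (h : G) * (x * (h : G)) * x⁻¹ := by rw [hcomm_hx.eq]
          _ = ((h : G) * x) * ((h : G) * x⁻¹) := by group
      rw [this]
      exact hwy'.mul_right h1
    have hwh : Commute w (h : G) := commute_of_commute_sq w _ hh' h2
    -- w commutes with x
    have hwx : Commute w x := by
      have : x = (h : G)⁻¹ * ((h : G) * x) := by group
      rw [this]
      exact hwh.inv_right.mul_right hwy'
    have hwC : w ∈ C := (memC w).mpr ⟨hwv.eq, hwx.eq⟩
    refine ⟨⟨w, hwC⟩, ?_, ?_, ?_⟩
    · rw [Subgroup.mem_subgroupOf]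
      exact ⟨hwC, hwV⟩
    · intro hw
      apply hw1
      exact congrArg Subtype.val hw
    · apply Subtype.ext
      simpa using hwh.eq

end Cfsg.Agent.S3013
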