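import Cfsg.Statements.S3014
import Mathlib

set_option autoImplicit false
open Cfsg

namespace Cfsg.Agent.S3014

open MulAction

lemma transfer_eq_one' {G A : Type*} [Group G] [Finite G] [CommGroup A] (M : Subgroup G)
    (ϕ : ↥M →* A) (h : G)
    (hker : ∀ (k : G) (n : ℕ) (hy : k⁻¹ * h ^ n * k ∈ M), ϕ ⟨_, hy⟩ = 1) :
    MonoidHom.transfer ϕ h = 1 := by
  classical
  haveI : Fintype (Quotient (orbitRel (Subgroup.zpowers h) (G ⧸ M))) := Fintype.ofFinite _
  rw [MonoidHom.transfer_eq_prod_quotient_orbitRel_zpowers_quot]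
  exact Finset.prod_eq_one (fun q _ => hker _ _ _)

lemma transfer_eq_self {G A : Type*} [Group G] [Finite G] [CommGroup A] (M : Subgroup G)
    (ϕ : ↥M →* A) (x : G) (hx : x ∈ M)
    (hker : ∀ (k : G) (n : ℕ), k ∉ M → ∀ (hy : k⁻¹ * x ^ n * k ∈ M), ϕ ⟨_, hy⟩ = 1) :
    MonoidHom.transfer ϕ x = ϕ ⟨x, hx⟩ := by
  classical
  haveI : Fintype (Quotient (orbitRel (Subgroup.zpowers x) (G ⧸ M))) := Fintype.ofFinite _
  rw [MonoidHom.transfer_eq_prod_quotient_orbitRel_zpowers_quot]
  have hfix : x • (QuotientGroup.mk 1 : G ⧸ M) = QuotientGroup.mk 1 := by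
    rw [MulAction.Quotient.smul_mk, QuotientGroup.eq]
    simpa using hx
  have hout : ∀ β : G ⧸ M, Quotient.out β ∈ M → β = QuotientGroup.mk 1 := by
    intro β hβ
    rw [← QuotientGroup.out_eq' β, QuotientGroup.eq]
    simpa using M.inv_mem hβ
  have hαout : Quotient.out (QuotientGroup.mk 1 : G ⧸ M) ∈ M := by
    obtain ⟨m, hm⟩ := QuotientGroup.mk_out_eq_mul M (1 : G)
    rw [hm, one_mul]; exact m.2
  have hfactor : ∀ (β : G ⧸ M) (n : ℕ) (hy : (Quotient.out β)⁻¹ * x ^ n * (Quotient.out β) ∈ M),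
      β = QuotientGroup.mk 1 → n = 1 → ϕ ⟨_, hy⟩ = ϕ ⟨x, hx⟩ := by
    intro β n hy hβ hn
    subst hn
    subst hβ
    have h1 : (⟨(Quotient.out (QuotientGroup.mk 1 : G ⧸ M))⁻¹ * x ^ 1 *
        (Quotient.out (QuotientGroup.mk 1 : G ⧸ M)), hy⟩ : ↥M) =
        (⟨_, hαout⟩ : ↥M)⁻¹ * ⟨x, hx⟩ * ⟨_, hαout⟩ := by
      apply Subtype.ext
      simp [pow_one]
    rw [h1, map_mul, map_mul, map_inv, mul_comm (ϕ _)⁻¹, inv_mul_cancel_right]
  have hq : Quotient.out (Quotient.mk (orbitRel (Subgroup.zpowers x) (G ⧸ M))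
      (QuotientGroup.mk 1 : G ⧸ M)) = QuotientGroup.mk 1 := by
    have h1 := Quotient.mk_out (s := orbitRel (Subgroup.zpowers x) (G ⧸ M))
      (QuotientGroup.mk 1 : G ⧸ M)
    obtain ⟨⟨z, hz⟩, hzα⟩ := h1
    have hzst : z ∈ MulAction.stabilizer G (QuotientGroup.mk 1 : G ⧸ M) := by
      obtain ⟨j, rfl⟩ := Subgroup.mem_zpowers_iff.mp hz
      exact Subgroup.zpow_mem _ (MulAction.mem_stabilizer_iff.mpr hfix) j
    rw [← hzα]
    exact MulAction.mem_stabilizer_iff.mp hzst
  rw [Finset.prod_eq_single (Quotient.mk (orbitRel (Subgroup.zpowers x) (G ⧸ M))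
      (QuotientGroup.mk 1 : G ⧸ M))]
  · apply hfactor _ _ _ hq
    rw [Function.minimalPeriod_eq_one_iff_isFixedPt, hq]
    exact hfix
  · intro q _ hqne
    apply hker
    intro hk
    apply hqne
    rw [← Quotient.out_eq q]
    congr 1
    exact hout _ hk
  · intro h
    exact absurd (Finset.mem_univ _) h

/-- Let G be a finite group and H ≤ M ≤ G subgroups such that for every g ∈ G the subgroup generated by H and g H g⁻¹ meets M exactly in H. If H is a maximal subgroup of M and M is a maximal subgroup of G, then the normal closure of H in G meets M exactly in H. -/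
theorem result {G : Type*} [Group G] [Finite G] (H M : Subgroup G) (hHM : H ≤ M) (hcl : ∀ g : G, (H ⊔ H.map (MulAut.conj g).toMonoidHom) ⊓ M = H) (hmaxH : IsCoatom (H.subgroupOf M)) (hmaxM : IsCoatom M) : Subgroup.normalClosure (H : Set G) ⊓ M = H := by
  classical
  apply le_antisymm _ (le_inf Subgroup.le_normalClosure hHM)
  -- conjugates of H meet M inside H
  have hconjM : ∀ g : G, H.map (MulAut.conj g).toMonoidHom ⊓ M ≤ H := by
    intro g
    calc H.map (MulAut.conj g).toMonoidHom ⊓ M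
        ≤ (H ⊔ H.map (MulAut.conj g).toMonoidHom) ⊓ M := inf_le_inf_right _ le_sup_right
      _ = H := hcl g
  have hnorm : ∀ x ∈ M, ∀ h ∈ H, x * h * x⁻¹ ∈ H := by
    intro x hx h hh
    exact hconjM x ⟨⟨h, hh, rfl⟩, M.mul_mem (M.mul_mem hx (hHM hh)) (M.inv_mem hx)⟩
  have coat : ∀ L : Subgroup G, H ≤ L → (∃ x ∈ L, x ∈ M ∧ x ∉ H) → M ≤ L := by
    intro L hHL ⟨x, hxL, hxM, hxH⟩
    have hlt : H.subgroupOf M < L.subgroupOf M := by
      rw [SetLike.lt_iff_le_and_exists]
      refine ⟨fun y hy => ?_, ⟨x, hxM⟩, ?_, ?_⟩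
      · rw [Subgroup.mem_subgroupOf] at hy ⊢; exact hHL hy
      · rw [Subgroup.mem_subgroupOf]; exact hxL
      · rw [Subgroup.mem_subgroupOf]; exact hxH
    exact Subgroup.subgroupOf_eq_top.mp (hmaxH.2 _ hlt)
  by_cases hMn : M.Normal
  · -- M normal: then H is normal in G
    have hHn : H.Normal := by
      refine ⟨fun n hn g => ?_⟩
      exact hconjM g ⟨⟨n, hn, rfl⟩, hMn.conj_mem n (hHM hn) g⟩
    rw [Subgroup.normalClosure_eq_self]
    exact inf_le_left
  have hNM : Subgroup.normalizer (M : Set G) = M := by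
    rcases eq_or_lt_of_le (Subgroup.le_normalizer (H := M)) with h | h
    · exact h.symm
    · exact absurd (Subgroup.normalizer_eq_top_iff.mp (hmaxM.2 _ h)) hMn
  by_cases hcase : ∃ g : G, g ∉ M ∧ ∃ x ∈ M, g⁻¹ * x * g ∈ M ∧ x ∉ H
  · obtain ⟨g, hgM, x, hxM, hx'M, hxH⟩ := hcase
    have hKM : (H ⊔ H.map (MulAut.conj g).toMonoidHom) ⊓ M = H := hcl g
    have hxK : x ∈ Subgroup.normalizer ((H ⊔ H.map (MulAut.conj g).toMonoidHom : Subgroup G) : Set G) := by
      apply Subgroup.mem_normalizer_fintype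
      intro k hk
      have hmap : (H ⊔ H.map (MulAut.conj g).toMonoidHom).map (MulAut.conj x).toMonoidHom ≤
          H ⊔ H.map (MulAut.conj g).toMonoidHom := by
        rw [Subgroup.map_sup]
        apply sup_le_sup
        · rintro _ ⟨h, hh, rfl⟩; exact hnorm x hxM h hh
        · rintro _ ⟨_, ⟨h, hh, rfl⟩, rfl⟩
          refine ⟨(g⁻¹ * x * g) * h * (g⁻¹ * x * g)⁻¹, hnorm _ hx'M h hh, ?_⟩
          simp only [MulEquiv.coe_toMonoidHom, MulAut.conj_apply]; group
      exact hmap ⟨k, hk, rfl⟩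
    have hML : M ≤ Subgroup.normalizer ((H ⊔ H.map (MulAut.conj g).toMonoidHom : Subgroup G) : Set G) :=
      coat _ (le_sup_left.trans Subgroup.le_normalizer) ⟨x, hxK, hxM, hxH⟩
    have hML' : M ≤ (Subgroup.normalizer ((H ⊔ H.map (MulAut.conj g).toMonoidHom : Subgroup G) : Set G)).map
        (MulAut.conj g⁻¹).toMonoidHom := by
      apply coat
      · intro h hh
        refine ⟨g * h * g⁻¹, Subgroup.le_normalizer (Subgroup.mem_sup_right ⟨h, hh, rfl⟩), ?_⟩
        simp only [MulEquiv.coe_toMonoidHom, MulAut.conj_apply]; group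
      · refine ⟨g⁻¹ * x * g, ⟨x, hxK, ?_⟩, hx'M, ?_⟩
        · simp only [MulEquiv.coe_toMonoidHom, MulAut.conj_apply]; group
        · intro hx'H
          apply hxH
          rw [← hKM]
          refine ⟨Subgroup.mem_sup_right ⟨g⁻¹ * x * g, hx'H, ?_⟩, hxM⟩
          simp only [MulEquiv.coe_toMonoidHom, MulAut.conj_apply]; group
    have hLtop : Subgroup.normalizer ((H ⊔ H.map (MulAut.conj g).toMonoidHom : Subgroup G) : Set G) = ⊤ := by
      rcases eq_or_lt_of_le hML with h | h
      · exfalso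
        apply hgM
        rw [← hNM]
        apply Subgroup.mem_normalizer_fintype
        intro m hm
        rw [← h] at hML'
        obtain ⟨m', hm', hmm'⟩ := hML' hm
        simp only [MulEquiv.coe_toMonoidHom, MulAut.conj_apply] at hmm'
        have : g * m * g⁻¹ = m' := by rw [← hmm']; group
        rw [this]; exact hm'
      · exact hmaxM.2 _ h
    haveI hKn : (H ⊔ H.map (MulAut.conj g).toMonoidHom).Normal := Subgroup.normalizer_eq_top_iff.mp hLtop
    calc Subgroup.normalClosure (H : Set G) ⊓ M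
        ≤ (H ⊔ H.map (MulAut.conj g).toMonoidHom) ⊓ M :=
          inf_le_inf_right _ (Subgroup.normalClosure_le_normal (le_sup_left (a := H)))
      _ = H := hKM
  · push_neg at hcase
    -- transfer into M / H
    haveI hHn : (H.subgroupOf M).Normal := by
      refine ⟨fun n hn g => ?_⟩
      rw [Subgroup.mem_subgroupOf] at hn ⊢
      exact hnorm g g.2 n hn
    have hQcyc : IsCyclic (↥M ⧸ H.subgroupOf M) := by
      obtain ⟨y, hy⟩ : ∃ y : ↥M, y ∉ H.subgroupOf M := by
        by_contra hcon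
        push_neg at hcon
        exact hmaxH.1 ((Subgroup.eq_top_iff' _).mpr hcon)
      refine isCyclic_iff_exists_zpowers_eq_top.mpr ⟨QuotientGroup.mk y, (Subgroup.eq_top_iff' _).mpr ?_⟩
      intro q
      induction q using QuotientGroup.induction_on with
      | H z =>
        have hL : (Subgroup.zpowers (QuotientGroup.mk y : ↥M ⧸ H.subgroupOf M)).comap
            (QuotientGroup.mk' (H.subgroupOf M)) = ⊤ := by
          apply hmaxH.2
          rw [SetLike.lt_iff_le_and_exists]
          refine ⟨?_, y, ?_, hy⟩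
          · intro w hw
            rw [Subgroup.mem_comap]
            have : (QuotientGroup.mk' (H.subgroupOf M)) w = 1 := (QuotientGroup.eq_one_iff w).mpr hw
            rw [this]; exact Subgroup.one_mem _
          · rw [Subgroup.mem_comap]; exact Subgroup.mem_zpowers _
        have hz : z ∈ (Subgroup.zpowers (QuotientGroup.mk y : ↥M ⧸ H.subgroupOf M)).comap
            (QuotientGroup.mk' (H.subgroupOf M)) := by rw [hL]; trivial
        exact hz
    letI : CommGroup (↥M ⧸ H.subgroupOf M) := IsCyclic.commGroup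
    have hϕ1 : ∀ (y : G) (hyM : y ∈ M), y ∈ H →
        (QuotientGroup.mk' (H.subgroupOf M)) ⟨y, hyM⟩ = 1 := by
      intro y hyM hyH
      exact (QuotientGroup.eq_one_iff _).mpr (Subgroup.mem_subgroupOf.mpr hyH)
    have hτH : ∀ h ∈ H, MonoidHom.transfer (QuotientGroup.mk' (H.subgroupOf M)) h = 1 := by
      intro h hh
      apply transfer_eq_one'
      intro k n hy
      apply hϕ1
      apply hconjM k⁻¹
      refine ⟨⟨h ^ n, H.pow_mem hh n, ?_⟩, hy⟩
      simp only [MulEquiv.coe_toMonoidHom, MulAut.conj_apply, inv_inv]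
    have hτM : ∀ (x : G) (hx : x ∈ M), MonoidHom.transfer (QuotientGroup.mk' (H.subgroupOf M)) x =
        (QuotientGroup.mk' (H.subgroupOf M)) ⟨x, hx⟩ := by
      intro x hx
      apply transfer_eq_self
      intro k n hk hy
      apply hϕ1
      have hxn : x ^ n ∈ H := hcase k hk (x ^ n) (M.pow_mem hx n) hy
      apply hconjM k⁻¹
      refine ⟨⟨x ^ n, hxn, ?_⟩, hy⟩
      simp only [MulEquiv.coe_toMonoidHom, MulAut.conj_apply, inv_inv]
    have hNker : Subgroup.normalClosure (H : Set G) ≤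
        (MonoidHom.transfer (QuotientGroup.mk' (H.subgroupOf M))).ker := by
      apply Subgroup.normalClosure_le_normal
      intro h hh
      exact MonoidHom.mem_ker.mpr (hτH h hh)
    rintro z ⟨hzN, hzM⟩
    have h1 := MonoidHom.mem_ker.mp (hNker hzN)
    rw [hτM z hzM] at h1
    exact Subgroup.mem_subgroupOf.mp ((QuotientGroup.eq_one_iff _).mp h1)

end Cfsg.Agent.S3014
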