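import Cfsg.Statements.S3015
import Mathlib

set_option autoImplicit false
open Cfsg

namespace Cfsg.Agent.S3015

theorem transfer_key {G : Type*} [Group G] [Finite G] (M : Subgroup G) {A : Type*} [CommGroup A]
    (φ : M →* A) (y : G) (hy : y ∈ M)
    (hother : ∀ c : G ⧸ M, c ≠ QuotientGroup.mk 1 →
      ∀ (hmem : c.out⁻¹ * y ^ Function.minimalPeriod (y • ·) c * c.out ∈ M), φ ⟨_, hmem⟩ = 1) :
    MonoidHom.transfer φ y = φ ⟨y, hy⟩ := by
  classical
  letI : Fintype (Quotient (MulAction.orbitRel (Subgroup.zpowers y) (G ⧸ M))) := Fintype.ofFinite _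
  rw [MonoidHom.transfer_eq_prod_quotient_orbitRel_zpowers_quot]
  have hfix : y • (QuotientGroup.mk 1 : G ⧸ M) = QuotientGroup.mk 1 := by
    rw [MulAction.Quotient.smul_mk]
    rw [QuotientGroup.eq]
    simpa using M.inv_mem hy
  rw [Finset.prod_eq_single (Quotient.mk'' (QuotientGroup.mk 1 : G ⧸ M))]
  · -- the base orbit
    generalize hq : (Quotient.mk'' (QuotientGroup.mk 1 : G ⧸ M) :
      Quotient (MulAction.orbitRel (Subgroup.zpowers y) (G ⧸ M))) = q₀
    have hc : q₀.out = (QuotientGroup.mk 1 : G ⧸ M) := by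
      have h1 : Quotient.mk'' q₀.out = q₀ := Quotient.out_eq' q₀
      have h2 := Quotient.exact' (h1.trans hq.symm)
      rw [MulAction.orbitRel_apply, MulAction.mem_orbit_iff] at h2
      obtain ⟨⟨g, hg⟩, hg2⟩ := h2
      rw [← hg2]
      have hgM : g ∈ M := (Subgroup.zpowers_le.2 hy) hg
      show g • (QuotientGroup.mk 1 : G ⧸ M) = QuotientGroup.mk 1
      rw [MulAction.Quotient.smul_mk, QuotientGroup.eq]
      simpa using M.inv_mem hgM
    have hk : q₀.out.out ∈ M := by
      have h3 : (QuotientGroup.mk q₀.out.out : G ⧸ M) = QuotientGroup.mk 1 := by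
        rw [QuotientGroup.out_eq', hc]
      rw [QuotientGroup.eq] at h3
      simpa using h3
    have hn : Function.minimalPeriod (y • ·) q₀.out = 1 := by
      rw [Function.minimalPeriod_eq_one_iff_isFixedPt, hc]
      exact hfix
    have hel : (⟨q₀.out.out⁻¹ * y ^ Function.minimalPeriod (y • ·) q₀.out * q₀.out.out,
        QuotientGroup.out_conj_pow_minimalPeriod_mem M y q₀.out⟩ : M)
        = (⟨q₀.out.out, hk⟩ : M)⁻¹ * ⟨y, hy⟩ * ⟨q₀.out.out, hk⟩ := by
      apply Subtype.ext
      simp [hn]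
    rw [hel, map_mul, map_mul, map_inv, mul_comm (φ _)⁻¹, inv_mul_cancel_right]
  · intro q _ hq
    apply hother
    intro hc
    apply hq
    rw [← Quotient.out_eq' q, hc]
  · intro h
    exact absurd (Finset.mem_univ _) h


theorem sup_zpowers_eq {G : Type*} [Group G] [Finite G] (M H : Subgroup G) (hHM : H ≤ M)
    (hidx : (H.relIndex M).Prime) (y : G) (hy : y ∈ M) (hyH : y ∉ H) :
    H ⊔ Subgroup.zpowers y = M := by
  have hJM : H ⊔ Subgroup.zpowers y ≤ M := sup_le hHM (Subgroup.zpowers_le.2 hy)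
  have hHJ : H ≤ H ⊔ Subgroup.zpowers y := le_sup_left
  have hmul := Subgroup.relIndex_mul_relIndex H (H ⊔ Subgroup.zpowers y) M hHJ hJM
  rcases hidx.eq_one_or_self_of_dvd _ ⟨_, hmul.symm⟩ with h1 | h1
  · exfalso
    rw [Subgroup.relIndex_eq_one] at h1
    exact hyH (h1 (le_sup_right (a := H) (Subgroup.mem_zpowers y)))
  · rw [h1] at hmul
    have h2 : (H ⊔ Subgroup.zpowers y).relIndex M = 1 := by
      have hp0 : 0 < H.relIndex M := hidx.pos
      exact Nat.eq_of_mul_eq_mul_left hp0 (by rw [hmul, mul_one])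
    rw [Subgroup.relIndex_eq_one] at h2
    exact le_antisymm hJM h2

theorem conj_H_le {G : Type*} [Group G] (M H : Subgroup G) (hHM : H ≤ M)
    (hHn : (H.subgroupOf M).Normal) (y : G) (hy : y ∈ M) :
    H.map (MulAut.conj y).toMonoidHom ≤ H := by
  rintro _ ⟨h, hh, rfl⟩
  have := hHn.conj_mem ⟨h, hHM hh⟩ (Subgroup.mem_subgroupOf.2 hh) ⟨y, hy⟩
  rw [Subgroup.mem_subgroupOf] at this
  simpa using this

theorem conj_K_le {G : Type*} [Group G] (M H : Subgroup G) (hHM : H ≤ M)
    (hHn : (H.subgroupOf M).Normal) (k y : G) (hy' : k⁻¹ * y * k ∈ M) :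
    (H.map (MulAut.conj k).toMonoidHom).map (MulAut.conj y).toMonoidHom
      ≤ H.map (MulAut.conj k).toMonoidHom := by
  rintro _ ⟨_, ⟨h, hh, rfl⟩, rfl⟩
  have h3 : (k⁻¹ * y * k) * h * (k⁻¹ * y * k)⁻¹ ∈ H :=
    conj_H_le M H hHM hHn (k⁻¹ * y * k) hy' ⟨h, hh, rfl⟩
  refine ⟨(k⁻¹ * y * k) * h * (k⁻¹ * y * k)⁻¹, h3, ?_⟩
  simp only [MulEquiv.coe_toMonoidHom, MulAut.conj_apply]
  group

theorem mem_of_conj_le {G : Type*} [Group G] [Finite G] [IsSimpleGroup G]
    (M H : Subgroup G) (hmaxM : IsCoatom M) (hHM : H ≤ M)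
    (hidx : (H.relIndex M).Prime) (k : G)
    (hle : M.map (MulAut.conj k).toMonoidHom ≤ M) : k ∈ M := by
  have heq : M.map (MulAut.conj k).toMonoidHom = M := by
    apply Subgroup.eq_of_le_of_card_ge hle
    rw [Subgroup.card_map_of_injective (MulAut.conj k).injective]
  have hkN : k ∈ Subgroup.normalizer (M : Set G) := by
    rw [Subgroup.mem_normalizer_iff]
    intro h
    constructor
    · intro hh
      exact hle ⟨h, hh, by simp⟩
    · intro hh
      rw [← heq] at hh
      obtain ⟨m, hm, hmh⟩ := hh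
      simp only [MulEquiv.coe_toMonoidHom, MulAut.conj_apply] at hmh
      have : m = h := by
        have := congrArg (fun x => k⁻¹ * x * k) hmh
        simpa [mul_assoc] using this
      exact this ▸ hm
  by_contra hk
  have hN : Subgroup.normalizer (M : Set G) = ⊤ := by
    by_contra hne
    have := (hmaxM.le_iff_eq hne).1 Subgroup.le_normalizer
    exact hk (this ▸ hkN)
  have hMn : M.Normal := Subgroup.normalizer_eq_top_iff.1 hN
  rcases hMn.eq_bot_or_eq_top with h | h
  · have hH : H = ⊥ := le_bot_iff.1 (h ▸ hHM)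
    rw [hH, h] at hidx
    simp at hidx
    exact Nat.not_prime_one hidx
  · exact hmaxM.1 h

theorem normalizing_trick {G : Type*} [Group G] [Finite G] [IsSimpleGroup G]
    (hG : ¬ IsMulCommutative G)
    (M H : Subgroup G) (hmaxM : IsCoatom M) (hHM : H ≤ M) (hHn : (H.subgroupOf M).Normal)
    (hidx : (H.relIndex M).Prime) (k y : G) (hk : k ∉ M) (hy : y ∈ M) (hyH : y ∉ H)
    (hy' : k⁻¹ * y * k ∈ M) (hy'H : k⁻¹ * y * k ∉ H) :
    H ⊔ H.map (MulAut.conj k).toMonoidHom = ⊤ := by
  set K := H.map (MulAut.conj k).toMonoidHom with hK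
  -- any element y₁ ∈ M with k⁻¹ y₁ k ∈ M maps T into T
  have hT : ∀ y₁ : G, y₁ ∈ M → k⁻¹ * y₁ * k ∈ M →
      (H ⊔ K).map (MulAut.conj y₁).toMonoidHom ≤ H ⊔ K := by
    intro y₁ h1 h2
    rw [Subgroup.map_sup]
    exact sup_le_sup (conj_H_le M H hHM hHn y₁ h1) (conj_K_le M H hHM hHn k y₁ h2)
  have hyN : y ∈ Subgroup.normalizer ((H ⊔ K : Subgroup G) : Set G) := by
    rw [Subgroup.mem_normalizer_iff]
    intro h
    constructor
    · intro hh
      exact hT y hy hy' ⟨h, hh, by simp⟩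
    · intro hh
      have hinv : k⁻¹ * y⁻¹ * k ∈ M := by
        have := M.inv_mem hy'
        simpa [mul_assoc] using this
      have := hT y⁻¹ (M.inv_mem hy) hinv ⟨y * h * y⁻¹, hh, rfl⟩
      simpa [mul_assoc] using this
  have hJ : (H ⊔ K) ⊔ Subgroup.zpowers y ≤ Subgroup.normalizer ((H ⊔ K : Subgroup G) : Set G) :=
    sup_le Subgroup.le_normalizer (Subgroup.zpowers_le.2 hyN)
  -- M and its conjugate lie in J
  have hMJ : M ≤ (H ⊔ K) ⊔ Subgroup.zpowers y := by
    rw [← sup_zpowers_eq M H hHM hidx y hy hyH]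
    exact sup_le_sup_right le_sup_left _
  have hMkJ : M.map (MulAut.conj k).toMonoidHom ≤ (H ⊔ K) ⊔ Subgroup.zpowers y := by
    rw [← sup_zpowers_eq M H hHM hidx (k⁻¹ * y * k) hy' hy'H, Subgroup.map_sup,
      MonoidHom.map_zpowers]
    have : (MulAut.conj k).toMonoidHom (k⁻¹ * y * k) = y := by
      simp [MulAut.conj_apply, mul_assoc]
    rw [this]
    exact sup_le_sup_right le_sup_right _
  have hJtop : (H ⊔ K) ⊔ Subgroup.zpowers y = ⊤ := by
    by_contra hne
    have := (hmaxM.le_iff_eq hne).1 hMJ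
    rw [this] at hMkJ
    exact hk (mem_of_conj_le M H hmaxM hHM hidx k hMkJ)
  have hTn : (H ⊔ K).Normal := by
    rw [← Subgroup.normalizer_eq_top_iff]
    exact top_le_iff.1 (hJtop ▸ hJ)
  rcases hTn.eq_bot_or_eq_top with h | h
  · exfalso
    rw [h, bot_sup_eq] at hJtop
    apply hG
    refine ⟨⟨fun a b => ?_⟩⟩
    have ha : a ∈ Subgroup.zpowers y := hJtop ▸ Subgroup.mem_top a
    have hb : b ∈ Subgroup.zpowers y := hJtop ▸ Subgroup.mem_top b
    obtain ⟨i, rfl⟩ := ha
    obtain ⟨j, rfl⟩ := hb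
    exact zpow_mul_comm y i j
  · exact h


theorem conj_pow' {G : Type*} [Group G] (k a : G) (m : ℕ) :
    (k⁻¹ * a * k) ^ m = k⁻¹ * a ^ m * k := by
  have := conj_pow (a := k⁻¹) (b := a) (i := m)
  simpa using this

theorem perfect_of_simple {G : Type*} [Group G] [IsSimpleGroup G] (hG : ¬ IsMulCommutative G) :
    commutator G = ⊤ := by
  have hn : (commutator G).Normal := inferInstance
  rcases hn.eq_bot_or_eq_top with h | h
  · exfalso
    apply hG
    rw [commutator_eq_bot_iff_center_eq_top] at h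
    refine ⟨⟨fun a b => ?_⟩⟩
    have ha : a ∈ Subgroup.center G := h ▸ Subgroup.mem_top a
    exact (Subgroup.mem_center_iff.1 ha b).symm
  · exact h

theorem main_aux {G : Type*} [Group G] [Finite G] [IsSimpleGroup G] (hG : ¬ IsMulCommutative G)
    (M H : Subgroup G) (hmaxM : IsCoatom M) (hHM : H ≤ M) (hHn : (H.subgroupOf M).Normal)
    (hidx : (H.relIndex M).Prime)
    (hcon : ∀ g : G, H ⊔ H.map (MulAut.conj g).toMonoidHom ≠ ⊤)
    {A : Type*} [CommGroup A] (φ : M →* A) (hφ : ∀ x : M, φ x = 1 ↔ (x : G) ∈ H)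
    (hφp : ∀ x : M, φ x ^ (H.relIndex M) = 1) : False := by
  classical
  set p := H.relIndex M with hp
  -- a p-element outside H
  have hex : ∃ e : ℕ, ∃ y ∈ M, y ∉ H ∧ y ^ p ^ e = 1 := by
    have hnle : ¬ M ≤ H := by
      intro hle
      have : p = 1 := Subgroup.relIndex_eq_one.2 hle
      rw [this] at hidx
      exact Nat.not_prime_one hidx
    obtain ⟨m, hmM, hmH⟩ := SetLike.not_le_iff_exists.1 hnle
    have hord : orderOf m ≠ 0 := (orderOf_pos m).ne'
    obtain ⟨a, b, hb, hab⟩ := Nat.exists_eq_pow_mul_and_not_dvd hord p hidx.ne_one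
    refine ⟨a, m ^ b, M.pow_mem hmM b, ?_, ?_⟩
    · intro hmb
      have h1 : φ ⟨m, hmM⟩ ^ b = 1 := by
        rw [← map_pow, hφ]
        exact hmb
      have h2 : φ ⟨m, hmM⟩ ^ p = 1 := hφp _
      have h3 := pow_gcd_eq_one.2 ⟨h1, h2⟩
      have hcop : Nat.Coprime b p := ((Nat.Prime.coprime_iff_not_dvd hidx).2 hb).symm
      rw [hcop, pow_one, hφ] at h3
      exact hmH h3
    · rw [← pow_mul, mul_comm, ← hab]
      exact pow_orderOf_eq_one m
  obtain ⟨y, hyM, hyH, hye⟩ := Nat.find_spec hex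
  have hmin : ∀ e' < Nat.find hex, ∀ z ∈ M, z ^ p ^ e' = 1 → z ∈ H := by
    intro e' he' z hz hz1
    by_contra hzH
    exact Nat.find_min hex he' ⟨z, hz, hzH, hz1⟩
  have he_pos : 0 < Nat.find hex := by
    rcases Nat.eq_zero_or_pos (Nat.find hex) with h0 | h0
    · exfalso
      rw [h0] at hye
      simp at hye
      exact hyH (hye ▸ H.one_mem)
    · exact h0
  have htr : MonoidHom.transfer φ y = φ ⟨y, hyM⟩ := by
    apply transfer_key M φ y hyM
    intro c hc hmem
    rw [hφ]
    show c.out⁻¹ * y ^ Function.minimalPeriod (y • ·) c * c.out ∈ H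
    have hk : c.out ∉ M := by
      intro hk
      apply hc
      rw [← QuotientGroup.out_eq' c, QuotientGroup.eq]
      simpa using M.inv_mem hk
    have hper : Function.IsPeriodicPt (y • ·) (p ^ Nat.find hex) c := by
      show (y • ·)^[p ^ Nat.find hex] c = c
      rw [smul_iterate, hye]
      exact one_smul _ c
    have hdvd := hper.minimalPeriod_dvd
    obtain ⟨j, hj, hnj⟩ := (Nat.dvd_prime_pow hidx).1 hdvd
    rw [hnj] at hmem ⊢
    rcases Nat.eq_zero_or_pos j with hj0 | hj0
    · subst hj0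
      rw [pow_zero, pow_one] at hmem ⊢
      by_contra hnot
      exact hcon c.out (normalizing_trick hG M H hmaxM hHM hHn hidx c.out y hk hyM hyH hmem hnot)
    · apply hmin (Nat.find hex - 1) (by omega) _ hmem
      rw [conj_pow', ← pow_mul]
      have : p ^ j * p ^ (Nat.find hex - 1) = p ^ Nat.find hex * p ^ (j - 1) := by
        rw [← pow_add, ← pow_add]
        congr 1
        omega
      rw [this, pow_mul, hye, one_pow]
      group
  have hperf : MonoidHom.transfer φ y = 1 := by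
    have h1 := Abelianization.commutator_subset_ker (MonoidHom.transfer φ)
    rw [perfect_of_simple hG] at h1
    exact h1 (Subgroup.mem_top y)
  rw [hperf] at htr
  exact hyH ((hφ _).1 htr.symm)


/-- Let G be a finite non-abelian simple group, M a maximal subgroup of G and H a normal subgroup of M of prime index in M. Then G is generated by H together with one of its conjugates. -/
theorem result {G : Type*} [Group G] [Finite G] [IsSimpleGroup G] (hG : ¬ IsMulCommutative G) (M H : Subgroup G) (hmaxM : IsCoatom M) (hHM : H ≤ M) (hHn : (H.subgroupOf M).Normal) (hidx : (H.relIndex M).Prime) : ∃ g : G, H ⊔ H.map (MulAut.conj g).toMonoidHom = ⊤ := by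
  classical
  by_contra hcon
  push Not at hcon
  haveI : (H.subgroupOf M).Normal := hHn
  have hcard : Nat.card (M ⧸ H.subgroupOf M) = H.relIndex M := by
    rw [← Subgroup.index_eq_card]
    rfl
  haveI : Fact (H.relIndex M).Prime := ⟨hidx⟩
  haveI : IsCyclic (M ⧸ H.subgroupOf M) := isCyclic_of_prime_card hcard
  letI : CommGroup (M ⧸ H.subgroupOf M) := IsCyclic.commGroup
  refine main_aux hG M H hmaxM hHM hHn hidx hcon (QuotientGroup.mk' (H.subgroupOf M)) ?_ ?_
  · intro x
    rw [QuotientGroup.mk'_apply, QuotientGroup.eq_one_iff]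
    exact Subgroup.mem_subgroupOf
  · intro x
    rw [← hcard]
    exact pow_card_eq_one'

end Cfsg.Agent.S3015
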