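import Cfsg.Statements.S3021
import Mathlib
-- import your own Cfsg.Agent.* helpers here

set_option autoImplicit false
open Cfsg

namespace Cfsg.Agent.S3021

/-- In a finite `p`-group `K`, a subgroup `H ≤ K` with `K ⊓ N(H) = H` equals `K`. -/
theorem eq_of_inf_normalizer {G : Type*} [Group G] [Finite G] {p : ℕ} [Fact p.Prime]
    (H K : Subgroup G) (hK : IsPGroup p ↥K) (hHK : H ≤ K)
    (h : K ⊓ Subgroup.normalizer (H : Set G) = H) : K ≤ H := by
  have : Group.IsNilpotent ↥K := hK.isNilpotent
  have hnc : NormalizerCondition ↥K := Group.normalizerCondition_of_isNilpotent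
  by_contra hne
  have hlt : H.subgroupOf K < ⊤ := by
    rw [lt_top_iff_ne_top, Ne, Subgroup.subgroupOf_eq_top]
    exact hne
  have h1 := hnc _ hlt
  rw [← Subgroup.subgroupOf_normalizer_eq hHK] at h1
  have h2 : (Subgroup.normalizer (H : Set G)).subgroupOf K = H.subgroupOf K := by
    rw [← Subgroup.inf_subgroupOf_left, h]
  rw [h2] at h1
  exact lt_irrefl _ h1

/-- Let G be a finite group, p a prime and H a p-subgroup of G that is extremely closed (for every g, the subgroup generated by H and g H g⁻¹ meets N_G(H) exactly in H). Then every p-subgroup Q of G containing H has N_G(Q) ≤ N_G(H); in particular every Sylow p-subgroup P of G containing H normalizes H, and H is strongly closed in P with respect to G. -/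
theorem result {G : Type*} [Group G] [Finite G] {p : ℕ} [Fact p.Prime] (H : Subgroup G) (hHp : IsPGroup p H) (hcl : Cfsg.IsExtremelyClosed H) : (∀ Q : Subgroup G, IsPGroup p Q → H ≤ Q → Subgroup.normalizer (Q : Set G) ≤ Subgroup.normalizer (H : Set G)) ∧ ∀ P : Sylow p G, H ≤ (P : Subgroup G) → (P : Subgroup G) ≤ Subgroup.normalizer (H : Set G) ∧ Cfsg.IsStronglyClosed H (P : Subgroup G) := by
  have part1 : ∀ Q : Subgroup G, IsPGroup p Q → H ≤ Q →
      Subgroup.normalizer (Q : Set G) ≤ Subgroup.normalizer (H : Set G) := by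
    intro Q hQ hHQ g hg
    have hgQ : H.map (MulAut.conj g).toMonoidHom ≤ Q := by
      rintro _ ⟨x, hx, rfl⟩
      exact (Subgroup.mem_normalizer_iff.mp hg x).mp (hHQ hx)
    have hKQ : H ⊔ H.map (MulAut.conj g).toMonoidHom ≤ Q := sup_le hHQ hgQ
    have hKp : IsPGroup p ↥(H ⊔ H.map (MulAut.conj g).toMonoidHom) := hQ.to_le hKQ
    have hKH := eq_of_inf_normalizer H _ hKp le_sup_left (hcl g)
    apply Subgroup.mem_normalizer_fintype
    intro n hn
    exact hKH (Subgroup.mem_sup_right ⟨n, hn, rfl⟩)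
  refine ⟨part1, ?_⟩
  intro P hHP
  have hPN : (P : Subgroup G) ≤ Subgroup.normalizer (H : Set G) :=
    Subgroup.le_normalizer.trans (part1 P P.isPGroup' hHP)
  refine ⟨hPN, hHP, ?_⟩
  intro x hx g hgx
  have h1 : g * x * g⁻¹ ∈ (H ⊔ H.map (MulAut.conj g).toMonoidHom) ⊓ Subgroup.normalizer (H : Set G) :=
    ⟨Subgroup.mem_sup_right ⟨x, hx, rfl⟩, hPN hgx⟩
  rw [hcl g] at h1
  exact h1

end Cfsg.Agent.S3021
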