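import Cfsg.Statements.S3020
import Mathlib
import Cfsg.Agent.S3021
-- import your own Cfsg.Agent.* helpers here

set_option autoImplicit false
open Cfsg

namespace Cfsg.Agent.S3020

theorem card_sup_dvd_of_normal' {G : Type*} [Group G] (H K : Subgroup G) [K.Normal] :
    Nat.card (H ⊔ K : Subgroup G) ∣ Nat.card H * Nat.card K := by
  have h1 : (⊥ : Subgroup G).relIndex K * K.relIndex (H ⊔ K) = (⊥ : Subgroup G).relIndex (H ⊔ K) :=
    Subgroup.relIndex_mul_relIndex _ _ _ bot_le le_sup_right
  rw [Subgroup.relIndex_bot_left, Subgroup.relIndex_bot_left, Subgroup.relIndex_sup_right] at h1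
  rw [← h1, mul_comm]
  exact Nat.mul_dvd_mul_right (Subgroup.relIndex_dvd_card _ _) _

theorem pPrimeCore_mem' {G : Type*} [Group G] [Finite G] (p : ℕ) :
    pPrimeCore p G ∈ {N : Subgroup G | N.Normal ∧ (Nat.card N).Coprime p} := by
  apply SupClosed.sSup_mem _ (Set.toFinite _) _ (le_refl _)
  · rintro H ⟨hHn, hHc⟩ K ⟨hKn, hKc⟩
    refine ⟨inferInstance, ?_⟩
    exact Nat.Coprime.coprime_dvd_left (card_sup_dvd_of_normal' H K) (Nat.Coprime.mul_left hHc hKc)
  · exact ⟨inferInstance, by simp⟩

/-- A self-normalizing abelian `p`-subgroup has a normal `p`-complement, namely `O_{p'}`. -/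
theorem normal_complement {T : Type*} [Group T] [Finite T] {p : ℕ} [Fact p.Prime] (H : Subgroup T)
    (hp : IsPGroup p ↥H) (hab : IsMulCommutative ↥H) (hN : Subgroup.normalizer (H : Set T) ≤ H) :
    H ⊔ pPrimeCore p T = ⊤ ∧ H ⊓ pPrimeCore p T = ⊥ := by
  have hNH : Subgroup.normalizer (H : Set T) = H := le_antisymm hN Subgroup.le_normalizer
  obtain ⟨P, hHP⟩ := hp.exists_le_sylow
  have hPH : (P : Subgroup T) ≤ H := by
    apply Cfsg.Agent.S3021.eq_of_inf_normalizer H P P.isPGroup' hHP
    rw [hNH]; exact inf_eq_right.mpr hHP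
  have hPeq : (P : Subgroup T) = H := le_antisymm hPH hHP
  have hP : Subgroup.normalizer ((P : Subgroup T) : Set T) ≤ Subgroup.centralizer ((P : Subgroup T) : Set T) := by
    rw [hPeq, hNH]
    exact Subgroup.le_centralizer_iff_isMulCommutative.mpr hab
  have hcomp := MonoidHom.ker_transferSylow_isComplement' P hP
  have hnd := MonoidHom.not_dvd_card_ker_transferSylow P hP
  have hcop : (Nat.card ↥(MonoidHom.transferSylow P hP).ker).Coprime p :=
    (Nat.Coprime.symm ((Nat.Prime.coprime_iff_not_dvd (Fact.out : p.Prime)).mpr hnd))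
  have hle : (MonoidHom.transferSylow P hP).ker ≤ pPrimeCore p T :=
    le_sSup ⟨inferInstance, hcop⟩
  constructor
  · rw [eq_top_iff, ← hcomp.sup_eq_top]
    exact sup_le (hle.trans le_sup_right) (hPH.trans le_sup_left)
  · rw [← disjoint_iff]
    apply Subgroup.disjoint_of_coprime_natCard
    obtain ⟨k, hk⟩ := IsPGroup.iff_card.mp hp
    rw [hk]
    exact Nat.Coprime.pow_left k (pPrimeCore_mem' p).2.symm

/-- Let G be a finite group, p a prime and H an abelian p-subgroup of G that is extremely closed (for every g, the subgroup generated by H and g H g⁻¹ meets N_G(H) exactly in H). Then for every g ∈ G, the subgroup T generated by H and g H g⁻¹ is the product of H with O_{p'}(T), and H meets O_{p'}(T) trivially; that is, O_{p'}(T) is a normal p-complement of H in T. -/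
theorem result {G : Type*} [Group G] [Finite G] {p : ℕ} [Fact p.Prime] (H : Subgroup G) (hHp : IsPGroup p H) (hHab : IsMulCommutative H) (hcl : Cfsg.IsExtremelyClosed H) (g : G) (T : Subgroup G) (hT : T = H ⊔ H.map (MulAut.conj g).toMonoidHom) : H ⊔ (Cfsg.pPrimeCore p ↥T).map T.subtype = T ∧ H ⊓ (Cfsg.pPrimeCore p ↥T).map T.subtype = ⊥ := by
  have hHT : H ≤ T := by rw [hT]; exact le_sup_left
  have hTN : T ⊓ Subgroup.normalizer (H : Set G) = H := by rw [hT]; exact hcl g
  -- work inside T
  have hp' : IsPGroup p ↥(H.subgroupOf T) := hHp.comap_subtype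
  have hab' : IsMulCommutative ↥(H.subgroupOf T) := by
    rw [← Subgroup.le_centralizer_iff_isMulCommutative]
    intro x hx y hy
    rw [Subgroup.mem_subgroupOf] at hx
    have hy' : (y : G) ∈ H := hy
    have := (Subgroup.le_centralizer_iff_isMulCommutative.mpr hHab) hx (y : G) hy'
    exact Subtype.ext this
  have hN' : Subgroup.normalizer ((H.subgroupOf T : Subgroup ↥T) : Set ↥T) ≤ H.subgroupOf T := by
    rw [← Subgroup.subgroupOf_normalizer_eq hHT, ← Subgroup.inf_subgroupOf_left, hTN]
  obtain ⟨h1, h2⟩ := normal_complement (H.subgroupOf T) hp' hab' hN'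
  have hmapH : (H.subgroupOf T).map T.subtype = H := by
    rw [Subgroup.subgroupOf_map_subtype, inf_eq_left.mpr hHT]
  constructor
  · have := congrArg (Subgroup.map T.subtype) h1
    rw [Subgroup.map_sup, hmapH] at this
    rw [this, ← MonoidHom.range_eq_map, Subgroup.range_subtype]
  · have := congrArg (Subgroup.map T.subtype) h2
    rw [Subgroup.map_inf _ _ _ T.subtype_injective, hmapH, Subgroup.map_bot] at this
    exact this

end Cfsg.Agent.S3020
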