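import Cfsg.Statements.S3023
import Cfsg.Agent.Lib.Helper16.ParabolicChar

set_option autoImplicit false
open Cfsg
open Cfsg.Agent.Lib.Helper16
open scoped commutatorElement Pointwise

namespace Cfsg.Agent.S3023

/-- Let p be a prime, G a finite group of parabolic characteristic p (every p-local subgroup containing a Sylow p-subgroup of G has characteristic p), S a Sylow p-subgroup of G and G₁ a subnormal subgroup of G. If the centre of S ∩ G₁ is nontrivial and contained in the centre of S, then G₁ has parabolic characteristic p. -/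
theorem result {G : Type*} [Group G] [Finite G] {p : ℕ} [Fact p.Prime] (hG : Cfsg.IsOfParabolicCharacteristic p G) (S : Sylow p G) (G₁ : Subgroup G) (hsn : G₁.IsSubnormal) (hne : ((S : Subgroup G) ⊓ G₁) ⊓ Subgroup.centralizer (((S : Subgroup G) ⊓ G₁ : Subgroup G) : Set G) ≠ ⊥) (hle : ((S : Subgroup G) ⊓ G₁) ⊓ Subgroup.centralizer (((S : Subgroup G) ⊓ G₁ : Subgroup G) : Set G) ≤ (S : Subgroup G) ⊓ Subgroup.centralizer ((S : Subgroup G) : Set G)) : Cfsg.IsOfParabolicCharacteristic p ↥G₁ := by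
  intro R hRp hR1 hpar
  apply type_of_isCharPSub p (Subgroup.normalizer (R : Set ↥G₁))
  obtain ⟨T', hT'⟩ := hpar
  have hnd := not_dvd_relIndex_sylow_subnormal S hsn
  let T₁ : Sylow p ↥G₁ := (S.2.comap_subtype).toSylow hnd
  have hT₁ : (T₁ : Subgroup ↥G₁) = (S : Subgroup G).subgroupOf G₁ := rfl
  obtain ⟨g, hg⟩ := MulAction.exists_smul_eq ↥G₁ T' T₁
  -- conjugate R by g
  set R₂ : Subgroup ↥G₁ := R.map (MulAut.conj g).toMonoidHom with hR₂
  have hR₂p : IsPGroup p R₂ := hRp.map _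
  have hR₂1 : R₂ ≠ ⊥ := by
    intro h
    apply hR1
    rw [hR₂, Subgroup.map_eq_bot_iff_of_injective _ (MulAut.conj g).injective] at h
    exact h
  have hT₁R₂ : (T₁ : Subgroup ↥G₁) ≤ Subgroup.normalizer (R₂ : Set ↥G₁) := by
    rw [← hg]
    intro x hx
    rw [Sylow.coe_subgroup_smul, Subgroup.mem_pointwise_smul_iff_inv_smul_mem] at hx
    rw [hR₂, mem_normalizer_map_conj_iff]
    have := hT' hx
    simpa [MulAut.smul_def] using this
  set R₂' : Subgroup G := R₂.map G₁.subtype with hR₂'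
  have hR₂'G : R₂' ≤ G₁ := Subgroup.map_subtype_le R₂
  have hR₂'p : IsPGroup p R₂' := hR₂p.map _
  have hR₂'1 : R₂' ≠ ⊥ := by
    intro h
    apply hR₂1
    rw [hR₂', Subgroup.map_eq_bot_iff_of_injective _ G₁.subtype_injective] at h
    exact h
  have hTR : (S : Subgroup G) ⊓ G₁ ≤ Subgroup.normalizer (R₂' : Set G) := by
    intro x hx
    have hxn : (⟨x, hx.2⟩ : ↥G₁) ∈ Subgroup.normalizer (R₂ : Set ↥G₁) := by
      apply hT₁R₂
      rw [hT₁, Subgroup.mem_subgroupOf]
      exact hx.1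
    apply mem_normalizer_of_conj_mem
    · rintro _ ⟨y, hy, rfl⟩
      exact ⟨⟨x, hx.2⟩ * y * ⟨x, hx.2⟩⁻¹, conj_mem_of_mem_normalizer hxn hy, rfl⟩
    · rintro _ ⟨y, hy, rfl⟩
      exact ⟨⟨x, hx.2⟩⁻¹ * y * ⟨x, hx.2⟩, conj_inv_mem_of_mem_normalizer hxn hy, rfl⟩
  have main := isCharPSub_local_of_parabolic hG S G₁ hsn hle R₂' hR₂'G hR₂'p hR₂'1 hTR
  have h2 := isCharPSub_subgroupOf _ G₁ inf_le_left main
  have e1 : (G₁ ⊓ Subgroup.normalizer (R₂' : Set G)).subgroupOf G₁ =
      Subgroup.normalizer (R₂ : Set ↥G₁) := by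
    rw [Subgroup.inf_subgroupOf_left, Subgroup.subgroupOf_normalizer_eq hR₂'G]
    congr 2
    exact Subgroup.comap_map_eq_self_of_injective G₁.subtype_injective R₂
  rw [e1] at h2
  have h3 := isCharPSub_map_conj _ g⁻¹ h2
  have e2 : (Subgroup.normalizer (R₂ : Set ↥G₁)).map (MulAut.conj g⁻¹).toMonoidHom =
      Subgroup.normalizer (R : Set ↥G₁) := by
    rw [Subgroup.map_equiv_normalizer_eq, hR₂, map_conj_map_conj, inv_mul_cancel, map_conj_one]
  rwa [e2] at h3
end Cfsg.Agent.S3023
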