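-- Statement S3025: a subgroup contained in every nontrivial subgroup it normalizes.
import Cfsg.Statements.S3025
import Mathlib
import Cfsg.Agent.Lib.Lead.UniqueSubgroup

set_option autoImplicit false
open Cfsg

namespace Cfsg.Agent.S3025

open Cfsg.Agent.Lib.Lead.UniqueOrderP Cfsg.Agent.Lib.Lead.UniqueSubgroup

/-- Let F be a finite group and H a nontrivial subgroup of F that is contained in every nontrivial subgroup of F which H normalizes. Then F has a nontrivial normal subgroup N contained in every nontrivial normal subgroup of F (a unique minimal normal subgroup), N is simple, and one of the following holds: C_F(N) = 1; or H = N has prime order p, C_F(N) is cyclic of order a power of p, and F/C_F(N) is cyclic of order dividing p − 1; or H = N has order 2, N is central in F, and F is a generalized quaternion group. -/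
theorem result {F : Type*} [Group F] [Finite F] (H : Subgroup F) (hH : H ≠ ⊥)
    (hmin : ∀ R : Subgroup F, R ≠ ⊥ → H ≤ Subgroup.normalizer (R : Set F) → H ≤ R) :
    ∃ N : Subgroup F, N.Normal ∧ N ≠ ⊥ ∧ (∀ M : Subgroup F, M.Normal → M ≠ ⊥ → N ≤ M) ∧ IsSimpleGroup ↥N ∧
      (Subgroup.centralizer (N : Set F) = ⊥ ∨
       (H = N ∧ (Nat.card N).Prime ∧ IsCyclic ↥(Subgroup.centralizer (N : Set F)) ∧
          (∃ k : ℕ, 1 ≤ k ∧ Nat.card ↥(Subgroup.centralizer (N : Set F)) = Nat.card N ^ k) ∧
          (∃ g : F, Subgroup.centralizer (N : Set F) ⊔ Subgroup.zpowers g = ⊤) ∧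
          (Subgroup.centralizer (N : Set F)).index ∣ Nat.card N - 1) ∨
       (H = N ∧ Nat.card N = 2 ∧ Subgroup.centralizer (N : Set F) = ⊤ ∧
          ∃ k : ℕ, 1 ≤ k ∧ Nonempty (F ≃* QuaternionGroup (2 ^ k)))) := by
  classical
  have hHN : H ≤ Subgroup.normalClosure (H : Set F) := Subgroup.le_normalClosure
  haveI hNn : (Subgroup.normalClosure (H : Set F)).Normal := Subgroup.normalClosure_normal
  have hNne : Subgroup.normalClosure (H : Set F) ≠ ⊥ := fun h => hH (eq_bot_iff.mpr (h ▸ hHN))
  have hNmin : ∀ M : Subgroup F, M.Normal → M ≠ ⊥ → Subgroup.normalClosure (H : Set F) ≤ M := by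
    intro M hM hMne
    haveI := hM
    apply Subgroup.normalClosure_le_normal
    exact hmin M hMne (by rw [Subgroup.normalizer_eq_top_iff.mpr hM]; exact le_top)
  generalize Subgroup.normalClosure (H : Set F) = N at hHN hNn hNne hNmin
  -- N is simple
  have hsimple : IsSimpleGroup ↥N := by
    haveI : Nontrivial ↥N := (Subgroup.nontrivial_iff_ne_bot N).mpr hNne
    refine ⟨fun T hT => ?_⟩
    by_cases hTb : T = ⊥
    · exact Or.inl hTb
    right
    have hcore : H ≤ (T.map N.subtype).normalCore := by
      intro h hh b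
      -- the conjugate `b⁻¹ T b`
      have hRne : (T.map N.subtype).map (MulAut.conj b⁻¹).toMonoidHom ≠ ⊥ := by
        intro h0
        rw [Subgroup.map_eq_bot_iff_of_injective _ (MulAut.conj b⁻¹).injective,
          Subgroup.map_eq_bot_iff_of_injective _ N.subtype_injective] at h0
        exact hTb h0
      have hnorm : H ≤ Subgroup.normalizer
          (((T.map N.subtype).map (MulAut.conj b⁻¹).toMonoidHom : Subgroup F) : Set F) := by
        rw [Subgroup.le_normalizer_iff]
        rintro h' hh' _ ⟨_, ⟨t, ht, rfl⟩, rfl⟩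
        have hn : b * h' * b⁻¹ ∈ N := hNn.conj_mem h' (hHN hh') b
        have h1 : (⟨b * h' * b⁻¹, hn⟩ : N) * t * (⟨b * h' * b⁻¹, hn⟩ : N)⁻¹ ∈ T :=
          hT.conj_mem t ht _
        refine ⟨_, ⟨_, h1, rfl⟩, ?_⟩
        simp only [MulEquiv.coe_toMonoidHom, MulAut.conj_apply, Subgroup.coe_subtype,
          Subgroup.coe_mul, Subgroup.coe_inv, inv_inv]
        group
      obtain ⟨_, ⟨t, ht, rfl⟩, hth⟩ := hmin _ hRne hnorm hh
      have e : b * h * b⁻¹ = (t : F) := by
        rw [← hth]
        simp only [MulEquiv.coe_toMonoidHom, MulAut.conj_apply, Subgroup.coe_subtype, inv_inv]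
        group
      rw [e]
      exact ⟨t, ht, rfl⟩
    have hcne : (T.map N.subtype).normalCore ≠ ⊥ := fun h => hH (eq_bot_iff.mpr (h ▸ hcore))
    have h2 : N ≤ T.map N.subtype :=
      (hNmin _ inferInstance hcne).trans (Subgroup.normalCore_le _)
    rw [Subgroup.eq_top_iff']
    intro x
    obtain ⟨t, ht, htx⟩ := h2 x.2
    have : t = x := Subtype.ext htx
    rw [← this]; exact ht
  refine ⟨N, hNn, hNne, hNmin, hsimple, ?_⟩
  by_cases hC : Subgroup.centralizer (N : Set F) = ⊥
  · exact Or.inl hC
  right
  have hNC : N ≤ Subgroup.centralizer (N : Set F) := hNmin _ inferInstance hC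
  have hNcomm : ∀ x y : N, x * y = y * x := fun x y =>
    Subtype.ext ((Subgroup.mem_centralizer_iff.mp (hNC y.2)) x x.2)
  have hprime : (Nat.card N).Prime := by
    letI : CommGroup N := { (inferInstance : Group N) with mul_comm := hNcomm }
    exact IsSimpleGroup.prime_card
  haveI : Fact (Nat.card N).Prime := ⟨hprime⟩
  have hHeq : H = N := by
    apply Subgroup.eq_of_le_of_card_ge hHN
    have h1 : Nat.card H ∣ Nat.card N := Subgroup.card_dvd_of_le hHN
    rcases (Nat.dvd_prime hprime).mp h1 with h | h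
    · exact absurd (Subgroup.card_eq_one.mp h) hH
    · exact h.ge
  -- every nontrivial subgroup of `C` contains `N`
  have hCsub : ∀ R : Subgroup F, R ≤ Subgroup.centralizer (N : Set F) → R ≠ ⊥ → N ≤ R := by
    intro R hR hRne
    rw [← hHeq]
    apply hmin R hRne
    rw [Subgroup.le_normalizer_iff]
    intro h hh r hr
    have h1 := Subgroup.mem_centralizer_iff.mp (hR hr) h (hHeq ▸ hh)
    rw [h1, mul_inv_cancel_right]
    exact hr
  -- `C` is a `p`-group
  have hCcard : ∃ k : ℕ, 1 ≤ k ∧
      Nat.card ↥(Subgroup.centralizer (N : Set F)) = Nat.card N ^ k := by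
    have hpos : Nat.card ↥(Subgroup.centralizer (N : Set F)) ≠ 0 := Nat.card_pos.ne'
    have hq : ∀ {d : ℕ}, Nat.Prime d → d ∣ Nat.card ↥(Subgroup.centralizer (N : Set F)) →
        d = Nat.card N := by
      intro q hqp hqd
      haveI : Fact q.Prime := ⟨hqp⟩
      obtain ⟨x, hx⟩ := exists_prime_orderOf_dvd_card' (G := Subgroup.centralizer (N : Set F)) q hqd
      have hx' : orderOf (x : F) = q := by rw [Subgroup.orderOf_coe]; exact hx
      have hne : Subgroup.zpowers (x : F) ≠ ⊥ := by
        intro h
        rw [Subgroup.zpowers_eq_bot] at h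
        rw [h, orderOf_one] at hx'
        exact hqp.one_lt.ne hx'
      have hle := hCsub (Subgroup.zpowers (x : F)) (Subgroup.zpowers_le.mpr x.2) hne
      have h1 : Nat.card N ∣ q := by
        have := Subgroup.card_dvd_of_le hle
        rwa [Nat.card_zpowers, hx'] at this
      exact ((Nat.prime_dvd_prime_iff_eq hprime hqp).mp h1).symm
    have h1 := Nat.eq_prime_pow_of_unique_prime_dvd hpos hq
    refine ⟨_, ?_, h1⟩
    by_contra hk
    have hk0 : (Nat.card ↥(Subgroup.centralizer (N : Set F))).primeFactorsList.length = 0 := by omega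
    rw [hk0, pow_zero] at h1
    exact hC (Subgroup.card_eq_one.mp h1)
  obtain ⟨k, hk1, hk⟩ := hCcard
  have hCp : IsPGroup (Nat.card N) ↥(Subgroup.centralizer (N : Set F)) := IsPGroup.of_card hk
  have huniq : UniqueOrderP (Nat.card N) ↥(Subgroup.centralizer (N : Set F)) := by
    have key : ∀ K : Subgroup ↥(Subgroup.centralizer (N : Set F)), Nat.card K = Nat.card N →
        K.map (Subgroup.centralizer (N : Set F)).subtype = N := by
      intro K hK
      have hcardK : Nat.card (K.map (Subgroup.centralizer (N : Set F)).subtype) = Nat.card N := by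
        rw [Subgroup.card_map_of_injective (Subgroup.subtype_injective _), hK]
      have hne : K.map (Subgroup.centralizer (N : Set F)).subtype ≠ ⊥ := by
        intro h
        rw [h, Subgroup.card_bot] at hcardK
        exact hprime.one_lt.ne hcardK
      exact (Subgroup.eq_of_le_of_card_ge (hCsub _ (Subgroup.map_subtype_le _) hne) hcardK.le).symm
    intro K₁ K₂ h1 h2
    apply Subgroup.map_injective (Subgroup.subtype_injective (Subgroup.centralizer (N : Set F)))
    rw [key K₁ h1, key K₂ h2]
  -- the conjugation action on `N`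
  have hker : ∀ g : F, MulAut.conjNormal (H := N) g = 1 ↔ g ∈ Subgroup.centralizer (N : Set F) := by
    intro g
    constructor
    · intro h
      rw [Subgroup.mem_centralizer_iff]
      intro n hn
      have h1 := congrArg (fun σ : MulAut N => ((σ ⟨n, hn⟩ : N) : F)) h
      simp only [MulAut.conjNormal_apply, MulAut.one_apply] at h1
      calc n * g = (g * n * g⁻¹) * g := by rw [h1]
        _ = g * n := by group
    · intro h
      ext n
      rw [MulAut.conjNormal_apply, MulAut.one_apply]
      have h1 := Subgroup.mem_centralizer_iff.mp h n n.2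
      rw [← h1, mul_inv_cancel_right]
  haveI hNcyc : IsCyclic N := isCyclic_of_prime_card rfl
  haveI hAutCyc : IsCyclic (MulAut N) :=
    isCyclic_of_surjective (IsCyclic.mulAutMulEquiv N).symm (IsCyclic.mulAutMulEquiv N).symm.surjective
  have hkerC : (MulAut.conjNormal (H := N)).ker = Subgroup.centralizer (N : Set F) := by
    ext g
    rw [MonoidHom.mem_ker]
    exact hker g
  have hidx : (Subgroup.centralizer (N : Set F)).index ∣ Nat.card N - 1 := by
    rw [← hkerC, Subgroup.index_ker]
    have h1 : Nat.card (MulAut.conjNormal (H := N)).range ∣ Nat.card (MulAut N) :=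
      Subgroup.card_subgroup_dvd_card _
    rwa [IsCyclic.card_mulAut, Nat.totient_prime hprime] at h1
  have hgen : ∃ g : F, Subgroup.centralizer (N : Set F) ⊔ Subgroup.zpowers g = ⊤ := by
    obtain ⟨⟨σ, ⟨g, rfl⟩⟩, hσ⟩ := IsCyclic.exists_generator (α := (MulAut.conjNormal (H := N)).range)
    refine ⟨g, ?_⟩
    rw [Subgroup.eq_top_iff']
    intro x
    obtain ⟨i, hi⟩ := Subgroup.mem_zpowers_iff.mp
      (hσ ⟨MulAut.conjNormal (H := N) x, ⟨x, rfl⟩⟩)
    have h1 : MulAut.conjNormal (H := N) (g ^ i) = MulAut.conjNormal (H := N) x := by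
      have := congrArg Subtype.val hi
      rw [map_zpow]
      simpa using this
    have h2 : x * (g ^ i)⁻¹ ∈ Subgroup.centralizer (N : Set F) := by
      rw [← hker, map_mul, map_inv, h1, mul_inv_cancel]
    have h3 : x = x * (g ^ i)⁻¹ * g ^ i := by group
    rw [h3]
    exact Subgroup.mul_mem _ (le_sup_left (a := Subgroup.centralizer (N : Set F)) h2)
      (le_sup_right (b := Subgroup.zpowers g) (Subgroup.zpow_mem _ (Subgroup.mem_zpowers g) i))
  by_cases hcyc : IsCyclic ↥(Subgroup.centralizer (N : Set F))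
  · exact Or.inl ⟨hHeq, hprime, hcyc, ⟨k, hk1, hk⟩, hgen, hidx⟩
  right
  rcases cyclic_or_quaternion hCp huniq with h | ⟨hp2, n, ⟨e'⟩⟩
  · exact absurd h hcyc
  have hCtop : Subgroup.centralizer (N : Set F) = ⊤ := by
    rw [hp2] at hidx
    exact Subgroup.index_eq_one.mp (Nat.dvd_one.mp hidx)
  refine ⟨hHeq, hp2, hCtop, n, ?_, ⟨(Subgroup.topEquiv.symm.trans
    (MulEquiv.subgroupCongr hCtop.symm)).trans e'⟩⟩
  by_contra hn
  have hn0 : n = 0 := by omega
  apply hcyc
  have hcard4 : Nat.card ↥(Subgroup.centralizer (N : Set F)) = 2 ^ 2 := by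
    rw [Nat.card_congr e'.toEquiv, hn0, Nat.card_eq_fintype_card, QuaternionGroup.card]
    norm_num
  have hcomm := comm_of_card_le_sq (K := ↥(Subgroup.centralizer (N : Set F))) (p := Nat.card N)
    (n := 2) le_rfl (by rw [hcard4, hp2])
  exact abelian_cyclic hCp hcomm huniq

end Cfsg.Agent.S3025
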