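import Mathlib
import Cfsg.Statements.S3027

set_option autoImplicit false
open Cfsg

namespace Cfsg.Agent.S3027

open scoped commutatorElement Pointwise

/-- Elements of `H ⊔ D` with `D` normal factor as `h * d`. -/
theorem exists_mul_of_mem_sup_normal {G : Type*} [Group G] (H D : Subgroup G) [D.Normal] {g : G}
    (hg : g ∈ H ⊔ D) : ∃ h ∈ H, ∃ d ∈ D, g = h * d := by
  have : g ∈ ((H ⊔ D : Subgroup G) : Set G) := hg
  rw [Subgroup.mul_normal] at this
  obtain ⟨h, hh, d, hd, rfl⟩ := this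
  exact ⟨h, hh, d, hd, rfl⟩

/-- Commutators modulo a normal subgroup. -/
theorem comm_mod {G : Type*} [Group G] (D : Subgroup G) [D.Normal] (m₁ m₂ d₁ d₂ : G)
    (hd₁ : d₁ ∈ D) (hd₂ : d₂ ∈ D) : ⁅m₁ * d₁, m₂ * d₂⁆ * ⁅m₁, m₂⁆⁻¹ ∈ D := by
  rw [← QuotientGroup.eq_one_iff]
  have e1 : ((d₁ : G) : G ⧸ D) = 1 := (QuotientGroup.eq_one_iff d₁).mpr hd₁
  have e2 : ((d₂ : G) : G ⧸ D) = 1 := (QuotientGroup.eq_one_iff d₂).mpr hd₂
  simp only [commutatorElement_def, QuotientGroup.mk_mul, QuotientGroup.mk_inv, e1, e2, mul_one]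
  group

/-- If `X, Y` supplement the normal subgroup `D` and `Z ⊔ D` contains all `⁅x, y⁆`, then
`⁅⊤, ⊤⁆ ≤ Z ⊔ D`. -/
theorem commutator_top_le {G : Type*} [Group G] (D X Y Z : Subgroup G) [D.Normal]
    (hX : X ⊔ D = ⊤) (hY : Y ⊔ D = ⊤) (hZ : ∀ x ∈ X, ∀ y ∈ Y, ⁅x, y⁆ ∈ Z) :
    ⁅(⊤ : Subgroup G), (⊤ : Subgroup G)⁆ ≤ Z ⊔ D := by
  rw [Subgroup.commutator_le]
  intro g₁ _ g₂ _
  obtain ⟨x, hx, d₁, hd₁, rfl⟩ := exists_mul_of_mem_sup_normal X D (hX ▸ Subgroup.mem_top g₁)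
  obtain ⟨y, hy, d₂, hd₂, rfl⟩ := exists_mul_of_mem_sup_normal Y D (hY ▸ Subgroup.mem_top g₂)
  have h1 := comm_mod D x y d₁ d₂ hd₁ hd₂
  have h2 : ⁅x * d₁, y * d₂⁆ = (⁅x * d₁, y * d₂⁆ * ⁅x, y⁆⁻¹) * ⁅x, y⁆ := by group
  rw [h2]
  exact mul_mem (Subgroup.mem_sup_right h1) (Subgroup.mem_sup_left (hZ x hx y hy))

/-- Dedekind: if `B ≤ M`, `D` normal and `B ⊔ D = ⊤` then `B ⊔ (M ⊓ D) = M`. -/
theorem dedekind {G : Type*} [Group G] (B M D : Subgroup G) [D.Normal] (hBM : B ≤ M)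
    (hBD : B ⊔ D = ⊤) : B ⊔ (M ⊓ D) = M := by
  apply le_antisymm (sup_le hBM inf_le_left)
  intro m hm
  obtain ⟨b, hb, d, hd, rfl⟩ := exists_mul_of_mem_sup_normal B D (hBD ▸ Subgroup.mem_top m)
  have hdM : d ∈ M := by
    have : d = b⁻¹ * (b * d) := by group
    rw [this]
    exact mul_mem (inv_mem (hBM hb)) hm
  exact mul_mem (Subgroup.mem_sup_left hb) (Subgroup.mem_sup_right ⟨hdM, hd⟩)

/-- Normal supplements of `D` are closed under intersection when `G/D` is perfect. -/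
theorem inf_supplement {G : Type*} [Group G] (D N₁ N₂ : Subgroup G) [D.Normal] [N₁.Normal]
    [N₂.Normal] (hperf : ⁅(⊤ : Subgroup G), (⊤ : Subgroup G)⁆ ⊔ D = ⊤)
    (h₁ : N₁ ⊔ D = ⊤) (h₂ : N₂ ⊔ D = ⊤) : (N₁ ⊓ N₂) ⊔ D = ⊤ := by
  rw [eq_top_iff, ← hperf]
  refine sup_le ?_ le_sup_right
  apply commutator_top_le D N₁ N₂ (N₁ ⊓ N₂) h₁ h₂
  intro x hx y hy
  exact Subgroup.commutator_le_inf N₁ N₂ (Subgroup.commutator_mem_commutator hx hy)

/-- There is a least normal supplement. -/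
theorem exists_least_normal_supplement {G : Type*} [Group G] [Finite G] (D : Subgroup G)
    [D.Normal] (hperf : ⁅(⊤ : Subgroup G), (⊤ : Subgroup G)⁆ ⊔ D = ⊤) :
    ∃ N : Subgroup G, N.Normal ∧ N ⊔ D = ⊤ ∧ ∀ N' : Subgroup G, N'.Normal → N' ⊔ D = ⊤ → N ≤ N' := by
  set S : Set (Subgroup G) := {N | N.Normal ∧ N ⊔ D = ⊤} with hS
  have hne : S.Nonempty := ⟨⊤, inferInstance, top_sup_eq _⟩
  obtain ⟨N₀, hN₀, hmin⟩ :=
    WellFounded.has_min (measure (fun N : Subgroup G => Nat.card N)).wf S hne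
  refine ⟨N₀, hN₀.1, hN₀.2, ?_⟩
  intro N' hN' hsup
  have : N₀.Normal := hN₀.1
  have hmem : N₀ ⊓ N' ∈ S := ⟨inferInstance, inf_supplement D N₀ N' hperf hN₀.2 hsup⟩
  have h1 := hmin _ hmem
  have h2 : ¬ Nat.card (N₀ ⊓ N' : Subgroup G) < Nat.card N₀ := h1
  have h3 : N₀ ⊓ N' = N₀ := Subgroup.eq_of_le_of_card_ge inf_le_left (not_lt.mp h2)
  exact inf_eq_left.mp h3

/-- Transfer of a supplement statement to a subgroup: for subgroups `X, Y` of `↥M`,
`X ⊔ Y = ⊤` iff the images satisfy `X' ⊔ Y' = M`. -/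
theorem sup_eq_top_iff_map {G : Type*} [Group G] (M : Subgroup G) (X Y : Subgroup M) :
    X ⊔ Y = ⊤ ↔ X.map M.subtype ⊔ Y.map M.subtype = M := by
  rw [← Subgroup.map_sup]
  constructor
  · intro h
    rw [h, ← MonoidHom.range_eq_map, Subgroup.range_subtype]
  · intro h
    apply Subgroup.map_injective M.subtype_injective
    rw [h, ← MonoidHom.range_eq_map, Subgroup.range_subtype]

theorem main (n : ℕ) : ∀ (G : Type*) [Group G] [Finite G], Nat.card G = n →
    ∀ (D : Subgroup G) [D.Normal], ⁅(⊤ : Subgroup G), (⊤ : Subgroup G)⁆ ⊔ D = ⊤ →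
    ∃ B : Subgroup G, B.Normal ∧ B ⊔ D = ⊤ ∧
      ∀ B' : Subgroup G, B'.IsSubnormal → B' ⊔ D = ⊤ → B ≤ B' := by
  induction n using Nat.strong_induction_on with
  | _ n ih =>
    intro G _ _ hcard D _ hperf
    obtain ⟨N₀, hN₀n, hN₀s, hN₀min⟩ := exists_least_normal_supplement D hperf
    refine ⟨N₀, hN₀n, hN₀s, ?_⟩
    intro B hBsn hBD
    by_cases hBtop : B = ⊤
    · rw [hBtop]; exact le_top
    obtain ⟨M, hMn, hBM, hMlt⟩ := hBsn.exists_normal_and_le_and_lt_top_of_ne hBtop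
    have hMD : M ⊔ D = ⊤ := by
      rw [eq_top_iff, ← hBD]; exact sup_le_sup_right hBM D
    -- the data inside `M`
    set DM : Subgroup M := D.subgroupOf M with hDM
    have hDMmap : DM.map M.subtype = M ⊓ D := by
      rw [hDM, Subgroup.subgroupOf_map_subtype, inf_comm]
    have hcardM : Nat.card M < n := by
      rw [← hcard]
      have h1 : Nat.card M < Nat.card (⊤ : Subgroup G) := by
        have e1 : Nat.card M = (M : Set G).ncard := Nat.card_coe_set_eq (M : Set G)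
        have e2 : Nat.card (⊤ : Subgroup G) = ((⊤ : Subgroup G) : Set G).ncard :=
          Nat.card_coe_set_eq _
        rw [e1, e2]
        exact Set.ncard_lt_ncard (SetLike.coe_ssubset_coe.mpr hMlt) (Set.toFinite _)
      rwa [Subgroup.card_top] at h1
    have hperfM : ⁅(⊤ : Subgroup M), (⊤ : Subgroup M)⁆ ⊔ DM = ⊤ := by
      rw [sup_eq_top_iff_map, hDMmap, Subgroup.map_commutator, ← MonoidHom.range_eq_map,
        Subgroup.range_subtype]
      have h1 : ⁅M, M⁆ ⊔ D = ⊤ := by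
        rw [eq_top_iff, ← hperf]
        refine sup_le ?_ le_sup_right
        apply commutator_top_le D M M ⁅M, M⁆ hMD hMD
        intro x hx y hy
        exact Subgroup.commutator_mem_commutator hx hy
      exact dedekind ⁅M, M⁆ M D (Subgroup.commutator_le_left M M |> fun h => by
        have : ⁅M, M⁆ ≤ M := Subgroup.commutator_le_left M M
        exact this) h1
    obtain ⟨NM, hNMn, hNMs, hNMmin⟩ := ih _ hcardM M rfl DM hperfM
    set N' : Subgroup G := NM.map M.subtype with hN'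
    have hN'M : N' ≤ M := Subgroup.map_subtype_le NM
    -- `N'` supplements `D`
    have hN'D : N' ⊔ D = ⊤ := by
      have h1 := (sup_eq_top_iff_map M NM DM).mp hNMs
      rw [hDMmap] at h1
      rw [eq_top_iff, ← hMD, ← h1]
      exact sup_le (sup_le le_sup_left (inf_le_right.trans le_sup_right)) le_sup_right
    -- `N'` is normal in `G`
    have hN'n : N'.Normal := by
      have key : ∀ g : G, NM ≤ NM.map (MulAut.conjNormal g : MulAut M).toMonoidHom := by
        intro g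
        set φ : MulAut M := MulAut.conjNormal g with hφ
        have hn : (NM.map φ.toMonoidHom).Normal :=
          hNMn.map φ.toMonoidHom φ.surjective
        apply hNMmin _ hn.isSubnormal
        have hDφ : DM.map φ.toMonoidHom = DM := by
          ext x
          rw [Subgroup.mem_map]
          constructor
          · rintro ⟨y, hy, rfl⟩
            rw [hDM, Subgroup.mem_subgroupOf] at hy ⊢
            have e : ((φ.toMonoidHom y : M) : G) = g * (y : G) * g⁻¹ := by
              rw [hφ]; exact MulAut.conjNormal_apply g y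
            rw [e]
            exact (inferInstance : D.Normal).conj_mem _ hy g
          · intro hx
            refine ⟨φ.symm x, ?_, by simp⟩
            rw [hDM, Subgroup.mem_subgroupOf] at hx ⊢
            have e : ((φ.symm x : M) : G) = g⁻¹ * (x : G) * g := by
              rw [hφ]; exact MulAut.conjNormal_symm_apply g x
            rw [e]
            have := (inferInstance : D.Normal).conj_mem _ hx g⁻¹
            simpa using this
        rw [← hDφ, ← Subgroup.map_sup, hNMs]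
        exact Subgroup.map_top_of_surjective _ φ.surjective
      constructor
      intro x hx g
      obtain ⟨y, hy, rfl⟩ := hx
      obtain ⟨z, hz, hzy⟩ := key g⁻¹ hy
      refine ⟨z, hz, ?_⟩
      have h1 : (y : G) = g⁻¹ * (z : G) * g⁻¹⁻¹ := by
        rw [← hzy]; rfl
      change (z : G) = g * (y : G) * g⁻¹
      rw [h1]
      group
    have h1 : N₀ ≤ N' := hN₀min N' hN'n hN'D
    -- `B` inside `M`
    have hBsub : (B.subgroupOf M).IsSubnormal := hBsn.subgroupOf
    have hBsup : B.subgroupOf M ⊔ DM = ⊤ := by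
      rw [sup_eq_top_iff_map, hDMmap, Subgroup.map_subgroupOf_eq_of_le hBM]
      exact dedekind B M D hBM hBD
    have h2 : NM ≤ B.subgroupOf M := hNMmin _ hBsub hBsup
    have h3 : N' ≤ B := by
      rw [hN']
      calc NM.map M.subtype ≤ (B.subgroupOf M).map M.subtype := Subgroup.map_mono h2
        _ = B := Subgroup.map_subgroupOf_eq_of_le hBM
    exact h1.trans h3

theorem result {G : Type*} [Group G] [Finite G] (D : Subgroup G) [D.Normal] (hperf : ⁅(⊤ : Subgroup G), (⊤ : Subgroup G)⁆ ⊔ D = ⊤) :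
    ∃ B : Subgroup G, B.Normal ∧ B ⊔ D = ⊤ ∧ ∀ B' : Subgroup G, B'.IsSubnormal → B' ⊔ D = ⊤ → B ≤ B' :=
  main _ G rfl D hperf

end Cfsg.Agent.S3027
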