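import Mathlib
import Cfsg.Statements.S3036
import Cfsg.Agent.Lib.Helper1.ChermakDelgado

set_option autoImplicit false
open Cfsg

namespace Cfsg.Agent.S3036

open Cfsg.Agent.Lib.Helper1

/-- In a simple group, a member of the Chermak–Delgado lattice is trivial or everything. -/
theorem cd_member_trivial {G : Type*} [Group G] [Finite G] [IsSimpleGroup G] (m : ℕ)
    (hm : ∀ L : Subgroup G, cdMeasure L ≤ m) (A : Subgroup G) (hA : cdMeasure A = m) :
    A = ⊥ ∨ A = ⊤ := by
  by_cases hAtop : A = ⊤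
  · exact Or.inr hAtop
  left
  set T : Set (Subgroup G) := {K | cdMeasure K = m ∧ A ≤ K ∧ K ≠ ⊤} with hT
  have hne : T.Nonempty := ⟨A, hA, le_rfl, hAtop⟩
  obtain ⟨K, hKT, hKmax⟩ :=
    WellFounded.has_min (measure (fun K : Subgroup G => Nat.card G - Nat.card K)).wf T hne
  obtain ⟨hKm, hAK, hKtop⟩ := hKT
  have hconj : ∀ g : G, K.map (MulAut.conj g).toMonoidHom ≤ K := by
    intro g
    set Kg := K.map (MulAut.conj g).toMonoidHom with hKg
    have hKgm : cdMeasure Kg = m := le_antisymm (hm Kg) (hKm ▸ cdMeasure_le_map_conj K g)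
    obtain ⟨-, hJm, hdec⟩ := cd_lattice m hm K Kg hKm hKgm
    have hJtop : K ⊔ Kg ≠ ⊤ := by
      intro htop
      obtain ⟨k₁, hk₁, y, hy, hxy⟩ := hdec g⁻¹ (htop ▸ Subgroup.mem_top _)
      obtain ⟨k₂, hk₂, rfl⟩ := hy
      have hg : g = k₁⁻¹ * k₂⁻¹ := by
        have h1 : g⁻¹ = k₁ * (g * k₂ * g⁻¹) := hxy
        have h2 : k₁ * g * k₂ = 1 := by
          have : k₁ * g * k₂ = (k₁ * (g * k₂ * g⁻¹)) * g := by group
          rw [this, ← h1, inv_mul_cancel]
        calc g = k₁⁻¹ * (k₁ * g * k₂) * k₂⁻¹ := by group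
          _ = k₁⁻¹ * k₂⁻¹ := by rw [h2, mul_one]
      have hgK : g ∈ K := hg ▸ mul_mem (inv_mem hk₁) (inv_mem hk₂)
      have hKgK : Kg ≤ K := by
        rintro _ ⟨k, hk, rfl⟩
        exact mul_mem (mul_mem hgK hk) (inv_mem hgK)
      apply hKtop
      rw [← htop]
      exact (sup_eq_left.mpr hKgK).symm
    have hJT : K ⊔ Kg ∈ T := ⟨hJm, hAK.trans le_sup_left, hJtop⟩
    have h1 := hKmax _ hJT
    have h2 : ¬ (Nat.card G - Nat.card (K ⊔ Kg : Subgroup G) < Nat.card G - Nat.card K) := h1
    have h3 : Nat.card (K ⊔ Kg : Subgroup G) ≤ Nat.card G := Subgroup.card_le_card_group _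
    have h4 : Nat.card K ≤ Nat.card (K ⊔ Kg : Subgroup G) := Subgroup.card_le_of_le le_sup_left
    have h5 : Nat.card (K ⊔ Kg : Subgroup G) ≤ Nat.card K := by omega
    have h6 : K = K ⊔ Kg := Subgroup.eq_of_le_of_card_ge le_sup_left h5
    rw [h6]; exact le_sup_right
  have hKn : K.Normal := by
    constructor
    intro k hk g
    exact hconj g ⟨k, hk, rfl⟩
  rcases hKn.eq_bot_or_eq_top with h | h
  · rw [eq_bot_iff, ← h]; exact hAK
  · exact absurd h hKtop

theorem result {G : Type*} [Group G] [Finite G] [IsSimpleGroup G] (hG : ¬ IsMulCommutative G) (A : Subgroup G) (hA1 : A ≠ ⊥) (hA2 : A ≠ ⊤) : Nat.card A * Nat.card ↥(Subgroup.centralizer (A : Set G)) < Nat.card G := by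
  obtain ⟨H₀, hH₀⟩ := Finite.exists_max (fun L : Subgroup G => cdMeasure L)
  set m := cdMeasure H₀ with hm
  have hcenter : Subgroup.center G = ⊥ := by
    rcases (inferInstance : (Subgroup.center G).Normal).eq_bot_or_eq_top with h | h
    · exact h
    · exfalso
      apply hG
      constructor
      constructor
      intro a b
      have : a ∈ Subgroup.center G := h ▸ Subgroup.mem_top a
      exact ((Subgroup.mem_center_iff.mp this) b).symm
  have hmG : m = Nat.card G := by
    rcases cd_member_trivial m hH₀ H₀ rfl with h | h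
    · rw [hm, h]
      unfold cdMeasure
      have : Subgroup.centralizer (((⊥ : Subgroup G) : Subgroup G) : Set G) = ⊤ := by
        rw [eq_top_iff]
        intro x _
        rw [Subgroup.mem_centralizer_iff]
        intro y hy
        have : y = 1 := by simpa using hy
        rw [this, one_mul, mul_one]
      rw [this, Subgroup.card_bot, Subgroup.card_top, one_mul]
    · rw [hm, h]
      unfold cdMeasure
      rw [Subgroup.coe_top, Subgroup.centralizer_univ, hcenter, Subgroup.card_bot,
        Subgroup.card_top, mul_one]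
  have hle : cdMeasure A ≤ m := hH₀ A
  rcases lt_or_eq_of_le hle with hlt | heq
  · rw [hmG] at hlt; exact hlt
  · rcases cd_member_trivial m hH₀ A heq with h | h
    · exact absurd h hA1
    · exact absurd h hA2

end Cfsg.Agent.S3036
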