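import Cfsg.Statements.S3037
import Mathlib

set_option autoImplicit false
open Cfsg

namespace Cfsg.Agent.S3037

section
variable {X : Type*} [Group X]

/-- `|H|^α · |C_V(H)|` -/
noncomputable def Phi (V : Subgroup X) (α : ℝ) (H : Subgroup X) : ℝ :=
  (Nat.card H : ℝ) ^ α * (Nat.card ↥(V ⊓ Subgroup.centralizer (H : Set X)) : ℝ)

theorem card_mul_card_le [Finite X] (H K : Subgroup X) :
    Nat.card H * Nat.card K ≤ Nat.card ↥(H ⊔ K) * Nat.card ↥(H ⊓ K) := by
  have h1 : Nat.card ↥(H ⊓ K) * (H ⊓ K).relIndex K = Nat.card K := by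
    have := Subgroup.relIndex_mul_relIndex (⊥ : Subgroup X) (H ⊓ K) K bot_le inf_le_right
    rwa [Subgroup.relIndex_bot_left, Subgroup.relIndex_bot_left] at this
  have h2 : Nat.card H * H.relIndex (H ⊔ K) = Nat.card ↥(H ⊔ K) := by
    have := Subgroup.relIndex_mul_relIndex (⊥ : Subgroup X) H (H ⊔ K) bot_le le_sup_left
    rwa [Subgroup.relIndex_bot_left, Subgroup.relIndex_bot_left] at this
  have h3 : (H ⊓ K).relIndex K = H.relIndex K := Subgroup.inf_relIndex_right H K
  have h4 : H.relIndex K ≤ H.relIndex (H ⊔ K) :=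
    Subgroup.relIndex_le_of_le_right le_sup_right (by
      unfold Subgroup.relIndex
      exact Subgroup.index_ne_zero_of_finite)
  calc Nat.card H * Nat.card K = Nat.card H * (Nat.card ↥(H ⊓ K) * H.relIndex K) := by
        rw [← h3, h1]
    _ ≤ Nat.card H * (Nat.card ↥(H ⊓ K) * H.relIndex (H ⊔ K)) :=
        Nat.mul_le_mul_left _ (Nat.mul_le_mul_left _ h4)
    _ = (Nat.card H * H.relIndex (H ⊔ K)) * Nat.card ↥(H ⊓ K) := by ring
    _ = Nat.card ↥(H ⊔ K) * Nat.card ↥(H ⊓ K) := by rw [h2]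

theorem cV_sup (V H B : Subgroup X) :
    (V ⊓ Subgroup.centralizer (H : Set X)) ⊓ (V ⊓ Subgroup.centralizer (B : Set X)) =
      V ⊓ Subgroup.centralizer ((H ⊔ B : Subgroup X) : Set X) := by
  apply le_antisymm
  · intro x hx
    refine ⟨hx.1.1, ?_⟩
    have h1 : H ≤ Subgroup.centralizer ({x} : Set X) := by
      intro y hy
      rw [Subgroup.mem_centralizer_iff]
      intro z hz
      rw [Set.mem_singleton_iff] at hz
      rw [hz]
      exact (Subgroup.mem_centralizer_iff.mp hx.1.2 y hy).symm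
    have h2 : B ≤ Subgroup.centralizer ({x} : Set X) := by
      intro y hy
      rw [Subgroup.mem_centralizer_iff]
      intro z hz
      rw [Set.mem_singleton_iff] at hz
      rw [hz]
      exact (Subgroup.mem_centralizer_iff.mp hx.2.2 y hy).symm
    show x ∈ Subgroup.centralizer _
    rw [Subgroup.mem_centralizer_iff]
    intro y hy
    have := (sup_le h1 h2) hy
    exact (Subgroup.mem_centralizer_iff.mp this x rfl).symm
  · intro x hx
    exact ⟨⟨hx.1, Subgroup.centralizer_le (by exact_mod_cast (le_sup_left : H ≤ H ⊔ B)) hx.2⟩,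
      ⟨hx.1, Subgroup.centralizer_le (by exact_mod_cast (le_sup_right : B ≤ H ⊔ B)) hx.2⟩⟩

theorem key [Finite X] (V H B : Subgroup X) (α : ℝ) (hα : 0 < α)
    (hP : Phi V α (H ⊓ B) ≤ Phi V α B) : Phi V α H ≤ Phi V α (H ⊔ B) := by
  unfold Phi at *
  have ha := card_mul_card_le H B
  have hb := card_mul_card_le (V ⊓ Subgroup.centralizer (H : Set X))
    (V ⊓ Subgroup.centralizer (B : Set X))
  rw [cV_sup] at hb
  have hle : (V ⊓ Subgroup.centralizer (H : Set X)) ⊔ (V ⊓ Subgroup.centralizer (B : Set X)) ≤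
      V ⊓ Subgroup.centralizer ((H ⊓ B : Subgroup X) : Set X) := by
    apply sup_le
    · intro x hx
      exact ⟨hx.1, Subgroup.centralizer_le (by exact_mod_cast (inf_le_left : H ⊓ B ≤ H)) hx.2⟩
    · intro x hx
      exact ⟨hx.1, Subgroup.centralizer_le (by exact_mod_cast (inf_le_right : H ⊓ B ≤ B)) hx.2⟩
  have hb' : Nat.card ↥(V ⊓ Subgroup.centralizer (H : Set X)) *
      Nat.card ↥(V ⊓ Subgroup.centralizer (B : Set X)) ≤
      Nat.card ↥(V ⊓ Subgroup.centralizer ((H ⊓ B : Subgroup X) : Set X)) *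
      Nat.card ↥(V ⊓ Subgroup.centralizer ((H ⊔ B : Subgroup X) : Set X)) :=
    hb.trans (Nat.mul_le_mul_right _ (Subgroup.card_le_of_le hle))
  -- abbreviations
  have h0 : (0 : ℝ) < (Nat.card H : ℝ) := by exact_mod_cast Nat.card_pos
  have b0 : (0 : ℝ) < (Nat.card B : ℝ) := by exact_mod_cast Nat.card_pos
  have d0 : (0 : ℝ) < (Nat.card ↥(H ⊓ B) : ℝ) := by exact_mod_cast Nat.card_pos
  have s0 : (0 : ℝ) < (Nat.card ↥(H ⊔ B) : ℝ) := by exact_mod_cast Nat.card_pos
  have e1 : (Nat.card H : ℝ) ^ α * (Nat.card B : ℝ) ^ α ≤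
      (Nat.card ↥(H ⊔ B) : ℝ) ^ α * (Nat.card ↥(H ⊓ B) : ℝ) ^ α := by
    rw [← Real.mul_rpow h0.le b0.le, ← Real.mul_rpow s0.le d0.le]
    apply Real.rpow_le_rpow (by positivity) _ hα.le
    exact_mod_cast ha
  have e2 : (Nat.card ↥(V ⊓ Subgroup.centralizer (H : Set X)) : ℝ) *
      (Nat.card ↥(V ⊓ Subgroup.centralizer (B : Set X)) : ℝ) ≤
      (Nat.card ↥(V ⊓ Subgroup.centralizer ((H ⊓ B : Subgroup X) : Set X)) : ℝ) *
      (Nat.card ↥(V ⊓ Subgroup.centralizer ((H ⊔ B : Subgroup X) : Set X)) : ℝ) := by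
    exact_mod_cast hb'
  have cB0 : (0 : ℝ) < (Nat.card ↥(V ⊓ Subgroup.centralizer (B : Set X)) : ℝ) := by
    exact_mod_cast Nat.card_pos
  have cS0 : (0 : ℝ) ≤
      (Nat.card ↥(V ⊓ Subgroup.centralizer ((H ⊔ B : Subgroup X) : Set X)) : ℝ) := by positivity
  have Hα0 : (0 : ℝ) < (Nat.card H : ℝ) ^ α := Real.rpow_pos_of_pos h0 α
  have Dα0 : (0 : ℝ) < (Nat.card ↥(H ⊓ B) : ℝ) ^ α := Real.rpow_pos_of_pos d0 α
  generalize (Nat.card H : ℝ) ^ α = Hα at *
  generalize (Nat.card B : ℝ) ^ α = Bα at *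
  generalize (Nat.card ↥(H ⊓ B) : ℝ) ^ α = Dα at *
  generalize (Nat.card ↥(H ⊔ B) : ℝ) ^ α = Sα at *
  generalize (Nat.card ↥(V ⊓ Subgroup.centralizer (H : Set X)) : ℝ) = cH at *
  generalize (Nat.card ↥(V ⊓ Subgroup.centralizer (B : Set X)) : ℝ) = cB at *
  generalize (Nat.card ↥(V ⊓ Subgroup.centralizer ((H ⊓ B : Subgroup X) : Set X)) : ℝ) = cD at *
  generalize (Nat.card ↥(V ⊓ Subgroup.centralizer ((H ⊔ B : Subgroup X) : Set X)) : ℝ) = cS at *
  have hkey : Hα * cH * (Dα * cB) ≤ Sα * cS * (Dα * cB) := by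
    calc Hα * cH * (Dα * cB) = Hα * Dα * (cH * cB) := by ring
      _ ≤ Hα * Dα * (cD * cS) := mul_le_mul_of_nonneg_left e2 (by positivity)
      _ = Hα * cS * (Dα * cD) := by ring
      _ ≤ Hα * cS * (Bα * cB) := mul_le_mul_of_nonneg_left hP (by positivity)
      _ = (Hα * Bα) * (cS * cB) := by ring
      _ ≤ (Sα * Dα) * (cS * cB) := mul_le_mul_of_nonneg_right e1 (by positivity)
      _ = Sα * cS * (Dα * cB) := by ring
  exact le_of_mul_le_mul_right hkey (by positivity)

theorem cV_conj (V H : Subgroup X) (g : X) (hg : g ∈ Subgroup.normalizer (V : Set X)) :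
    V ⊓ Subgroup.centralizer ((H.map (MulAut.conj g).toMonoidHom : Subgroup X) : Set X) =
      (V ⊓ Subgroup.centralizer (H : Set X)).map (MulAut.conj g).toMonoidHom := by
  ext x
  constructor
  · rintro ⟨hxV, hxC⟩
    refine ⟨g⁻¹ * x * g, ⟨?_, ?_⟩, ?_⟩
    · have := (Subgroup.mem_normalizer_iff.mp hg (g⁻¹ * x * g))
      apply this.mpr
      have e : g * (g⁻¹ * x * g) * g⁻¹ = x := by group
      rw [e]; exact hxV
    · show g⁻¹ * x * g ∈ Subgroup.centralizer _
      rw [Subgroup.mem_centralizer_iff]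
      intro b hb
      have h1 := Subgroup.mem_centralizer_iff.mp hxC (g * b * g⁻¹) ⟨b, hb, rfl⟩
      calc b * (g⁻¹ * x * g) = g⁻¹ * ((g * b * g⁻¹) * x) * g := by group
        _ = g⁻¹ * (x * (g * b * g⁻¹)) * g := by rw [h1]
        _ = g⁻¹ * x * g * b := by group
    · show g * (g⁻¹ * x * g) * g⁻¹ = x
      group
  · rintro ⟨w, ⟨hwV, hwC⟩, rfl⟩
    refine ⟨?_, ?_⟩
    · exact (Subgroup.mem_normalizer_iff.mp hg w).mp hwV
    · show _ ∈ Subgroup.centralizer _
      rw [Subgroup.mem_centralizer_iff]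
      rintro _ ⟨b, hb, rfl⟩
      have h1 := Subgroup.mem_centralizer_iff.mp hwC b hb
      show g * b * g⁻¹ * (g * w * g⁻¹) = g * w * g⁻¹ * (g * b * g⁻¹)
      calc g * b * g⁻¹ * (g * w * g⁻¹) = g * (b * w) * g⁻¹ := by group
        _ = g * (w * b) * g⁻¹ := by rw [h1]
        _ = g * w * g⁻¹ * (g * b * g⁻¹) := by group

theorem conj_injective (g : X) : Function.Injective (MulAut.conj g).toMonoidHom := by
  intro a b h
  exact (MulAut.conj g).injective h

theorem Phi_conj [Finite X] (V H : Subgroup X) (α : ℝ) (g : X)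
    (hg : g ∈ Subgroup.normalizer (V : Set X)) :
    Phi V α (H.map (MulAut.conj g).toMonoidHom) = Phi V α H := by
  unfold Phi
  rw [cV_conj V H g hg, Subgroup.card_map_of_injective (conj_injective g),
    Subgroup.card_map_of_injective (conj_injective g)]

theorem Phi_bot (V : Subgroup X) (α : ℝ) : Phi V α ⊥ = (Nat.card V : ℝ) := by
  unfold Phi
  have h1 : Subgroup.centralizer (((⊥ : Subgroup X) : Subgroup X) : Set X) = ⊤ := by
    rw [Subgroup.centralizer_eq_top_iff_subset]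
    intro x hx
    rw [SetLike.mem_coe, Subgroup.mem_bot] at hx
    rw [hx]
    exact Subgroup.one_mem _
  rw [h1, inf_top_eq, Subgroup.card_bot, Nat.cast_one, Real.one_rpow, one_mul]

end

/-- Let V and G be subgroups of a finite group with V an elementary abelian p-group (p prime) on which G acts faithfully and irreducibly by conjugation: G normalizes V, G ∩ C(V) = 1, and the only subgroups of V normalized by G are 1 and V. If for some nontrivial subgroup A of G and some real α > 0 one has |V| ≤ |A|^α · |C_V(A)|, then |V| ≤ |G|^α. -/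
theorem result {X : Type*} [Group X] [Finite X] {p : ℕ} [Fact p.Prime] (V G : Subgroup X) (hV : Cfsg.IsElementaryAbelian p V)
    (hGV : G ≤ Subgroup.normalizer (V : Set X)) (hfaith : G ⊓ Subgroup.centralizer (V : Set X) = ⊥)
    (hirr : ∀ W : Subgroup X, W ≤ V → G ≤ Subgroup.normalizer (W : Set X) → W = ⊥ ∨ W = V)
    (A : Subgroup X) (hA : A ≤ G) (hA1 : A ≠ ⊥) (α : ℝ) (hα : 0 < α)
    (hbig : (Nat.card V : ℝ) ≤ (Nat.card A : ℝ) ^ α * (Nat.card ↥(V ⊓ Subgroup.centralizer (A : Set X)) : ℝ)) :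
    (Nat.card V : ℝ) ≤ (Nat.card G : ℝ) ^ α := by
  classical
  -- a minimal witness
  let S : Set (Subgroup X) := {B | B ≤ G ∧ B ≠ ⊥ ∧ (Nat.card V : ℝ) ≤ Phi V α B}
  have hAS : A ∈ S := ⟨hA, hA1, hbig⟩
  obtain ⟨B, hBS, hBmin⟩ := Set.exists_min_image S (fun B => Nat.card B) (Set.toFinite S) ⟨A, hAS⟩
  -- property of minimal witnesses
  have hP : ∀ B' ∈ S, Nat.card B' = Nat.card B → ∀ D : Subgroup X, D ≤ B' →
      Phi V α D ≤ Phi V α B' := by
    intro B' hB' hcard D hD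
    by_cases hD1 : D = ⊥
    · rw [hD1, Phi_bot]; exact hB'.2.2
    by_cases hDB : D = B'
    · rw [hDB]
    have hlt : Nat.card D < Nat.card B' := by
      by_contra hcon
      push Not at hcon
      exact hDB (Subgroup.eq_of_le_of_card_ge hD hcon)
    have hDS : D ∉ S := by
      intro hDS
      have := hBmin D hDS
      omega
    have : ¬ (Nat.card V : ℝ) ≤ Phi V α D := fun h => hDS ⟨hD.trans hB'.1, hD1, h⟩
    push Not at this
    exact this.le.trans hB'.2.2
  -- conjugates of `B`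
  let c : G → Subgroup X := fun g => B.map (MulAut.conj (g : X)).toMonoidHom
  have hcS : ∀ g : G, c g ∈ S ∧ Nat.card (c g) = Nat.card B := by
    intro g
    refine ⟨⟨?_, ?_, ?_⟩, Subgroup.card_map_of_injective (conj_injective (g : X))⟩
    · rintro _ ⟨b, hb, rfl⟩
      exact G.mul_mem (G.mul_mem g.2 (hBS.1 hb)) (G.inv_mem g.2)
    · intro h
      exact hBS.2.1 ((Subgroup.map_eq_bot_iff_of_injective _ (conj_injective (g : X))).mp h)
    · show (Nat.card V : ℝ) ≤ Phi V α (B.map (MulAut.conj (g : X)).toMonoidHom)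
      rw [Phi_conj V B α (g : X) (hGV g.2)]
      exact hBS.2.2
  let N : Subgroup X := ⨆ g : G, c g
  have hNG : N ≤ G := iSup_le fun g => (hcS g).1.1
  have hNinv : ∀ k ∈ G, ∀ n ∈ N, k * n * k⁻¹ ∈ N := by
    intro k hk n hn
    have h1 : N.map (MulAut.conj k).toMonoidHom ≤ N := by
      show (⨆ g : G, c g).map (MulAut.conj k).toMonoidHom ≤ N
      rw [Subgroup.map_iSup]
      apply iSup_le
      intro g
      refine le_trans ?_ (le_iSup c ⟨k * g, G.mul_mem hk g.2⟩)
      rintro _ ⟨_, ⟨b, hb, rfl⟩, rfl⟩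
      refine ⟨b, hb, ?_⟩
      show k * (g : X) * b * (k * (g : X))⁻¹ = k * ((g : X) * b * (g : X)⁻¹) * k⁻¹
      group
    exact h1 ⟨n, hn, rfl⟩
  -- a maximal subgroup with `|V| ≤ Φ`
  let T : Set (Subgroup X) := {H | H ≤ G ∧ (Nat.card V : ℝ) ≤ Phi V α H}
  have hBT : B ∈ T := ⟨hBS.1, hBS.2.2⟩
  obtain ⟨H, hHT, hHmax⟩ := Set.exists_max_image T (fun H => Nat.card H) (Set.toFinite T) ⟨B, hBT⟩
  have hNH : N ≤ H := by
    apply iSup_le
    intro g
    have h1 : Phi V α H ≤ Phi V α (H ⊔ c g) :=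
      key V H (c g) α hα (hP (c g) (hcS g).1 (hcS g).2 (H ⊓ c g) inf_le_right)
    have h2 : H ⊔ c g ∈ T := ⟨sup_le hHT.1 (hcS g).1.1, hHT.2.trans h1⟩
    have h3 := hHmax (H ⊔ c g) h2
    have h4 : H = H ⊔ c g := Subgroup.eq_of_le_of_card_ge le_sup_left h3
    rw [h4]
    exact le_sup_right
  -- `C_V(N)` is `G`-invariant
  have hWG : G ≤ Subgroup.normalizer ((V ⊓ Subgroup.centralizer (N : Set X) : Subgroup X) : Set X) := by
    intro k hk
    apply Subgroup.mem_normalizer_fintype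
    intro w hw
    refine ⟨(Subgroup.mem_normalizer_iff.mp (hGV hk) w).mp hw.1, ?_⟩
    show k * w * k⁻¹ ∈ Subgroup.centralizer _
    rw [Subgroup.mem_centralizer_iff]
    intro n hn
    have h1 : k⁻¹ * n * k ∈ N := by
      have := hNinv k⁻¹ (G.inv_mem hk) n hn
      rwa [inv_inv] at this
    have h2 := Subgroup.mem_centralizer_iff.mp hw.2 (k⁻¹ * n * k) h1
    calc n * (k * w * k⁻¹) = k * ((k⁻¹ * n * k) * w) * k⁻¹ := by group
      _ = k * (w * (k⁻¹ * n * k)) * k⁻¹ := by rw [h2]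
      _ = k * w * k⁻¹ * n := by group
  have hWbot : V ⊓ Subgroup.centralizer (N : Set X) = ⊥ := by
    rcases hirr _ inf_le_left hWG with h | h
    · exact h
    · exfalso
      have hVN : V ≤ Subgroup.centralizer (N : Set X) := by
        rw [← h]; exact inf_le_right
      have hBN : B ≤ N := by
        refine le_trans ?_ (le_iSup c ⟨1, G.one_mem⟩)
        intro b hb
        refine ⟨b, hb, ?_⟩
        show (1 : X) * b * (1 : X)⁻¹ = b
        group
      have hBC : B ≤ G ⊓ Subgroup.centralizer (V : Set X) := by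
        intro b hb
        refine ⟨hBS.1 hb, ?_⟩
        show b ∈ Subgroup.centralizer _
        rw [Subgroup.mem_centralizer_iff]
        intro v hv
        exact (Subgroup.mem_centralizer_iff.mp (hVN hv) b (hBN hb)).symm
      rw [hfaith] at hBC
      exact hBS.2.1 (le_bot_iff.mp hBC)
  have hHbot : V ⊓ Subgroup.centralizer (H : Set X) = ⊥ := by
    rw [eq_bot_iff, ← hWbot]
    intro x hx
    exact ⟨hx.1, Subgroup.centralizer_le (by exact_mod_cast hNH) hx.2⟩
  have h5 := hHT.2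
  unfold Phi at h5
  rw [hHbot, Subgroup.card_bot, Nat.cast_one, mul_one] at h5
  refine h5.trans (Real.rpow_le_rpow (by positivity) ?_ hα.le)
  exact_mod_cast Subgroup.card_le_of_le hHT.1

end Cfsg.Agent.S3037
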