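import Cfsg.Statements.S3053
import Mathlib
import Cfsg.Agent.Lib.Helper25.OmegaFix
import Cfsg.Agent.Lib.Helper29.FusionSubgroupSys
-- import your own Cfsg.Agent.* helpers here

set_option autoImplicit false
open Cfsg
open Cfsg.Agent.Lib.Helper29
open scoped commutatorElement

namespace Cfsg.Agent.S3053

/-- iterated conjugation when the commutator is centralized -/
theorem conj_pow_mul {G : Type*} [Group G] {x y c : G} (h : x * y * x⁻¹ = c * y) (hc : x * c = c * x)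
    (k : ℕ) : x ^ k * y * (x ^ k)⁻¹ = c ^ k * y := by
  induction k with
  | zero => simp
  | succ k ih =>
    have hck : x * c ^ k = c ^ k * x := ((show Commute x c from hc).pow_right k).eq
    calc x ^ (k + 1) * y * (x ^ (k + 1))⁻¹ = x * (x ^ k * y * (x ^ k)⁻¹) * x⁻¹ := by
          rw [pow_succ']; group
      _ = x * (c ^ k * y) * x⁻¹ := by rw [ih]
      _ = (x * c ^ k) * (x⁻¹ * (x * y * x⁻¹)) := by group
      _ = (c ^ k * x) * (x⁻¹ * (c * y)) := by rw [hck, h]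
      _ = c ^ (k + 1) * y := by rw [pow_succ]; group

theorem eq_or_eq_of_between {G : Type*} [Group G] [Finite G] {p : ℕ} [hp : Fact p.Prime]
    {A B C : Subgroup G} (n : ℕ)
    (hAB : A ≤ B) (hBC : B ≤ C) (hA : Nat.card A = p ^ n) (hC : Nat.card C = p ^ (n + 1)) :
    B = A ∨ B = C := by
  have h1 : Nat.card B ∣ p ^ (n + 1) := hC ▸ Subgroup.card_dvd_of_le hBC
  have h2 : p ^ n ∣ Nat.card B := hA ▸ Subgroup.card_dvd_of_le hAB
  obtain ⟨k, hk3, hk⟩ := (Nat.dvd_prime_pow hp.out).1 h1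
  have hk2 : n ≤ k := by
    rw [hk] at h2
    exact (Nat.pow_dvd_pow_iff_le_right hp.out.one_lt).1 h2
  rcases (by omega : k = n ∨ k = n + 1) with rfl | rfl
  · left
    exact (Subgroup.eq_of_le_of_card_ge hAB (by rw [hk, hA])).symm
  · right
    exact Subgroup.eq_of_le_of_card_ge hBC (by rw [hk, hC])

structure Setup {G : Type*} [Group G] (p : ℕ) (P Z E : Subgroup G) : Prop where
  ZP : Z ≤ P
  Zcard : Nat.card Z = p
  Zcomm : ∀ a ∈ Z, ∀ b ∈ P, a * b = b * a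
  Zmem : ∀ a ∈ P, (∀ b ∈ P, a * b = b * a) → a ∈ Z
  comm : ∀ a ∈ P, ∀ b ∈ P, a * b * a⁻¹ * b⁻¹ ∈ Z
  Emem : ∀ a, a ∈ E ↔ a ∈ P ∧ a ^ p = 1
  Ecard : Nat.card E = p ^ 2
  Pcard : Nat.card P = p ^ 3
  powE : ∀ a ∈ P, ∀ e ∈ E, (a * e) ^ p = a ^ p
  powZ : ∀ a ∈ P, a ^ p ∈ Z

theorem setup_of_extraspecial {G : Type*} [Group G] [Finite G] {p : ℕ} [hp : Fact p.Prime]
    (hp2 : p ≠ 2) (P : Subgroup G) (hE : Cfsg.IsExtraspecial p ↥P) (hcard : Nat.card P = p ^ 3)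
    (hexp : Monoid.exponent ↥P = p ^ 2) :
    ∃ E : Subgroup G, Setup p P ((Subgroup.center ↥P).map P.subtype) E := by
  have hpp := hp.out
  have hcomm : ∀ a b : ↥P, a * b * a⁻¹ * b⁻¹ ∈ Subgroup.center ↥P := by
    intro a b
    have h1 : ⁅a, b⁆ ∈ commutator ↥P := by
      rw [commutator_def]
      exact Subgroup.commutator_mem_commutator (Subgroup.mem_top a) (Subgroup.mem_top b)
    rw [hE.1.2.2] at h1
    simpa [commutatorElement_def] using h1
  have hZc : Nat.card (Subgroup.center ↥P) = p := hE.2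
  have hcp : ∀ c ∈ Subgroup.center ↥P, c ^ p = 1 := by
    intro c hc
    have h1 := pow_card_eq_one' (G := Subgroup.center ↥P) (x := ⟨c, hc⟩)
    rw [hZc] at h1
    have h2 := congrArg Subtype.val h1
    simpa using h2
  have hpow : ∀ a : ↥P, a ^ p ∈ Subgroup.center ↥P := by
    intro a
    rw [Subgroup.mem_center_iff]
    intro b
    have hc := hcomm a b
    have h1 : a * b * a⁻¹ = (a * b * a⁻¹ * b⁻¹) * b := by group
    have h2 : a * (a * b * a⁻¹ * b⁻¹) = (a * b * a⁻¹ * b⁻¹) * a :=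
      Subgroup.mem_center_iff.1 hc a
    have h3 := conj_pow_mul h1 h2 p
    rw [hcp _ hc, one_mul] at h3
    calc b * a ^ p = (a ^ p * b * (a ^ p)⁻¹) * a ^ p := by rw [h3]
      _ = a ^ p * b := by group
  have h2p : 2 < p := lt_of_le_of_ne hpp.two_le (Ne.symm hp2)
  have hmul : ∀ a b : ↥P, (a * b) ^ p = a ^ p * b ^ p := by
    intro a b
    have hzc : b⁻¹ * a⁻¹ * b * a ∈ Subgroup.center ↥P := by
      have := hcomm b⁻¹ a⁻¹
      simpa using this
    have hz : b * a = a * b * (b⁻¹ * a⁻¹ * b * a) := by group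
    have hza : Commute (b⁻¹ * a⁻¹ * b * a) a := (Subgroup.mem_center_iff.1 hzc a).symm
    have hzb : Commute (b⁻¹ * a⁻¹ * b * a) b := (Subgroup.mem_center_iff.1 hzc b).symm
    have h1 := Cfsg.Agent.Lib.Helper25.mul_pow_of_central hz hza hzb p
    obtain ⟨m, hm⟩ := Nat.Prime.dvd_choose_self hpp (by norm_num : (2 : ℕ) ≠ 0) h2p
    rw [hm, pow_mul, hcp _ hzc, one_pow, mul_one] at h1
    exact h1
  let φ : ↥P →* ↥P := { toFun := fun a => a ^ p, map_one' := one_pow p, map_mul' := hmul }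
  have hφ : ∀ a, φ a = a ^ p := fun a => rfl
  have hrc : φ.range ≤ Subgroup.center ↥P := by
    rintro _ ⟨a, rfl⟩
    exact hpow a
  have hrcard : Nat.card φ.range = p := by
    have h1 : Nat.card φ.range ∣ p := hZc ▸ Subgroup.card_dvd_of_le hrc
    rcases (Nat.dvd_prime hpp).1 h1 with h | h
    · exfalso
      have hbot : φ.range = ⊥ := Subgroup.card_eq_one.1 h
      have hall : ∀ a : ↥P, a ^ p = 1 := by
        intro a
        have : φ a ∈ φ.range := ⟨a, rfl⟩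
        rw [hbot, Subgroup.mem_bot] at this
        exact this
      have h3 : Monoid.exponent ↥P ∣ p := Monoid.exponent_dvd_of_forall_pow_eq_one hall
      rw [hexp] at h3
      have h4 := Nat.le_of_dvd hpp.pos h3
      have h5 := hpp.one_lt
      nlinarith
    · exact h
  have hkcard : Nat.card φ.ker = p ^ 2 := by
    have h1 := φ.ker.card_mul_index
    rw [Subgroup.index_ker, hrcard, hcard] at h1
    apply Nat.eq_of_mul_eq_mul_right hpp.pos
    rw [h1]; ring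
  refine ⟨φ.ker.map P.subtype, ?_⟩
  refine
    { ZP := Subgroup.map_subtype_le _
      Zcard := ?_
      Zcomm := ?_
      Zmem := ?_
      comm := ?_
      Emem := ?_
      Ecard := ?_
      Pcard := hcard
      powE := ?_
      powZ := ?_ }
  · rw [Subgroup.card_map_of_injective P.subtype_injective]; exact hZc
  · rintro _ ⟨a, ha, rfl⟩ b hb
    have := Subgroup.mem_center_iff.1 ha ⟨b, hb⟩
    exact (congrArg Subtype.val this).symm
  · intro a ha h
    refine ⟨⟨a, ha⟩, ?_, rfl⟩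
    rw [SetLike.mem_coe, Subgroup.mem_center_iff]
    intro b
    exact Subtype.ext (h b.1 b.2).symm
  · intro a ha b hb
    exact ⟨⟨a, ha⟩ * ⟨b, hb⟩ * ⟨a, ha⟩⁻¹ * ⟨b, hb⟩⁻¹, hcomm _ _, rfl⟩
  · intro a
    constructor
    · rintro ⟨a', ha', rfl⟩
      refine ⟨a'.2, ?_⟩
      have h1 : a' ^ p = 1 := ha'
      have h2 := congrArg Subtype.val h1
      simpa using h2
    · rintro ⟨ha, h⟩
      refine ⟨⟨a, ha⟩, ?_, rfl⟩
      show φ ⟨a, ha⟩ = 1
      rw [hφ]
      exact Subtype.ext (by simpa using h)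
  · rw [Subgroup.card_map_of_injective P.subtype_injective]; exact hkcard
  · rintro a ha _ ⟨e, he, rfl⟩
    have h1 : e ^ p = 1 := he
    have h2 := hmul ⟨a, ha⟩ e
    rw [h1, mul_one] at h2
    have h3 := congrArg Subtype.val h2
    simpa using h3
  · intro a ha
    exact ⟨⟨a, ha⟩ ^ p, hpow _, rfl⟩

theorem main {G : Type*} [Group G] [Finite G] {p : ℕ} [hp : Fact p.Prime] (hp2 : p ≠ 2)
    (P : Sylow p G) {Z E : Subgroup G} (S : Setup p (P : Subgroup G) Z E)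
    (z : G) (hz : z ∈ Z) (g : G) (hyP : g * z * g⁻¹ ∈ (P : Subgroup G))
    (hyZ : g * z * g⁻¹ ∉ Z) : False := by
  have hpp := hp.out
  obtain ⟨y, hy⟩ : ∃ y, y = g * z * g⁻¹ := ⟨_, rfl⟩
  rw [← hy] at hyP hyZ
  have hz1 : z ≠ 1 := by
    rintro rfl
    apply hyZ
    rw [hy]
    simp
  have hy1 : y ≠ 1 := by
    intro h
    apply hz1
    have : z = g⁻¹ * y * g := by rw [hy]; group
    rw [this, h]; group
  have hZpow : ∀ a ∈ Z, a ^ p = 1 := by
    intro a ha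
    have h1 := pow_card_eq_one' (G := Z) (x := ⟨a, ha⟩)
    rw [S.Zcard] at h1
    have h2 := congrArg Subtype.val h1
    simpa using h2
  have pw : ∀ a ∈ Z, a ≠ 1 → ∀ b ∈ Z, ∃ m : ℕ, a ^ m = b := by
    intro a ha ha1 b hb
    have h1 := mem_powers_of_prime_card (G := Z) S.Zcard (g := ⟨a, ha⟩) (g' := ⟨b, hb⟩)
      (by intro h; apply ha1; exact congrArg Subtype.val h)
    obtain ⟨m, hm⟩ := (Submonoid.mem_powers_iff _ _).1 h1
    refine ⟨m, ?_⟩
    have h2 := congrArg Subtype.val hm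
    simpa using h2
  have hZE : Z ≤ E := fun a ha => (S.Emem a).2 ⟨S.ZP ha, hZpow a ha⟩
  have hEP : E ≤ (P : Subgroup G) := fun a ha => ((S.Emem a).1 ha).1
  have hyE : y ∈ E := by
    refine (S.Emem y).2 ⟨hyP, ?_⟩
    rw [hy, conj_pow, hZpow z hz]; simp
  have hzE : z ∈ E := hZE hz
  have hEab : ∀ a ∈ E, ∀ b ∈ E, a * b = b * a := by
    intro a ha b hb
    have h1 := (IsPGroup.isMulCommutative_of_card_eq_prime_sq (p := p) (G := E) S.Ecard).is_comm.comm
      ⟨a, ha⟩ ⟨b, hb⟩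
    exact congrArg Subtype.val h1
  have hEnormP : ∀ a ∈ (P : Subgroup G), ∀ e ∈ E, a * e * a⁻¹ ∈ E := by
    intro a ha e he
    refine (S.Emem _).2 ⟨(P : Subgroup G).mul_mem ((P : Subgroup G).mul_mem ha (hEP he))
      ((P : Subgroup G).inv_mem ha), ?_⟩
    rw [conj_pow, ((S.Emem e).1 he).2]; simp
  -- key: centralizers
  have hkey : ∀ a ∈ (P : Subgroup G), a ∉ E → ∀ e ∈ E, a * e = e * a → e ∈ Z := by
    intro a ha haE e he hae
    apply S.Zmem e (hEP he)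
    have hEK : E ≤ (P : Subgroup G) ⊓ Subgroup.centralizer {e} := by
      intro b hb
      refine ⟨hEP hb, Subgroup.mem_centralizer_iff.2 ?_⟩
      intro h hh
      rw [Set.mem_singleton_iff.1 hh]
      exact hEab e he b hb
    have haK : a ∈ (P : Subgroup G) ⊓ Subgroup.centralizer {e} := by
      refine ⟨ha, Subgroup.mem_centralizer_iff.2 ?_⟩
      intro h hh
      rw [Set.mem_singleton_iff.1 hh]
      exact hae.symm
    have hKP : (P : Subgroup G) ⊓ Subgroup.centralizer {e} = (P : Subgroup G) := by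
      rcases eq_or_eq_of_between (p := p) 2 hEK inf_le_left S.Ecard S.Pcard with h | h
      · exfalso; apply haE; rw [← h]; exact haK
      · exact h
    intro b hb
    have hbK : b ∈ (P : Subgroup G) ⊓ Subgroup.centralizer {e} := by rw [hKP]; exact hb
    have := Subgroup.mem_centralizer_iff.1 hbK.2 e rfl
    exact this
  -- an element outside E
  obtain ⟨x, hxP, hxE⟩ : ∃ x ∈ (P : Subgroup G), x ∉ E := by
    by_contra hcon
    push Not at hcon
    have h1 : (P : Subgroup G) ≤ E := hcon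
    have h2 := Subgroup.card_le_of_le h1
    rw [S.Pcard, S.Ecard] at h2
    have h3 := Nat.pow_lt_pow_right hpp.one_lt (by norm_num : 2 < 3)
    omega
  -- the Sylow argument inside the centralizer of y
  obtain ⟨h, c1, c2⟩ : ∃ h : G, (∀ e ∈ E, h⁻¹ * e * h ∈ (P : Subgroup G)) ∧
      (∀ a ∈ (P : Subgroup G), Commute (h * a * h⁻¹) y) := by
    have hT0le : cj g (P : Subgroup G) ≤ Subgroup.centralizer {y} := by
      rintro _ ⟨a, ha, rfl⟩
      rw [Subgroup.mem_centralizer_iff]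
      intro q hq
      rw [Set.mem_singleton_iff.1 hq]
      show y * (g * a * g⁻¹) = g * a * g⁻¹ * y
      have := S.Zcomm z hz a ha
      rw [hy]
      calc g * z * g⁻¹ * (g * a * g⁻¹) = g * (z * a) * g⁻¹ := by group
        _ = g * (a * z) * g⁻¹ := by rw [this]
        _ = g * a * g⁻¹ * (g * z * g⁻¹) := by group
    have hT0 : IsSylowSub p (cj g (P : Subgroup G)) (Subgroup.centralizer {y}) := by
      apply IsSylowSub.of_le hT0le le_top
      rw [isSylowSub_iff le_top]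
      refine ⟨isPGroup_cj P.isPGroup', ?_⟩
      rw [card_cj, Subgroup.card_top]
      exact P.card_eq_multiplicity
    have hECy : E ≤ Subgroup.centralizer {y} := by
      intro b hb
      rw [Subgroup.mem_centralizer_iff]
      intro q hq
      rw [Set.mem_singleton_iff.1 hq]
      exact hEab y hyE b hb
    have hEpg : IsPGroup p E := P.isPGroup'.to_le hEP
    obtain ⟨m, hmCy, hm⟩ := exists_cj_le_of_isSylowSub hT0 hECy hEpg
    refine ⟨m⁻¹ * g, ?_, ?_⟩
    · intro e he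
      have h1 : m * e * m⁻¹ ∈ cj g (P : Subgroup G) := hm (conj_mem_cj he)
      rw [mem_cj] at h1
      have : (m⁻¹ * g)⁻¹ * e * (m⁻¹ * g) = g⁻¹ * (m * e * m⁻¹) * g := by group
      rw [this]; exact h1
    · intro a ha
      have hq : Commute (g * a * g⁻¹) y := by
        have := Subgroup.mem_centralizer_iff.1 (hT0le (conj_mem_cj ha)) y rfl
        exact this.symm
      have hmy : Commute m y := by
        have := Subgroup.mem_centralizer_iff.1 hmCy y rfl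
        exact this.symm
      have h3 : Commute (m⁻¹ * (g * a * g⁻¹) * m) y := ((hmy.inv_left).mul_left hq).mul_left hmy
      have : m⁻¹ * g * a * (m⁻¹ * g)⁻¹ = m⁻¹ * (g * a * g⁻¹) * m := by group
      rw [this]; exact h3
  obtain ⟨y₀, hy₀⟩ : ∃ y₀, y₀ = h⁻¹ * y * h := ⟨_, rfl⟩
  have hy0Z : y₀ ∈ Z := by
    rw [hy₀]
    apply S.Zmem _ (c1 y hyE)
    intro b hb
    have := (c2 b hb).eq
    calc h⁻¹ * y * h * b = h⁻¹ * (y * (h * b * h⁻¹)) * h := by group
      _ = h⁻¹ * ((h * b * h⁻¹) * y) * h := by rw [this]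
      _ = b * (h⁻¹ * y * h) := by group
  have hE1 : ∀ e ∈ E, h⁻¹ * e * h ∈ E := by
    intro e he
    refine (S.Emem _).2 ⟨c1 e he, ?_⟩
    have : h⁻¹ * e * h = h⁻¹ * e * h⁻¹⁻¹ := by rw [inv_inv]
    rw [this, conj_pow, ((S.Emem e).1 he).2]; simp
  have hE2 : ∀ e ∈ E, h * e * h⁻¹ ∈ E := by
    have hle : cj h⁻¹ E ≤ E := by
      rintro _ ⟨e, he, rfl⟩
      have := hE1 e he
      simpa using this
    have heq : cj h⁻¹ E = E := Subgroup.eq_of_le_of_card_ge hle (by rw [card_cj])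
    intro e he
    have h1 : e ∈ cj h⁻¹ E := by rw [heq]; exact he
    rw [mem_cj] at h1
    simpa using h1
  -- the element u
  obtain ⟨c, hc⟩ : ∃ c, c = x * y * x⁻¹ * y⁻¹ := ⟨_, rfl⟩
  have hcZ : c ∈ Z := by rw [hc]; exact S.comm x hxP y hyP
  have hc1 : c ≠ 1 := by
    intro h1
    apply hyZ
    apply hkey x hxP hxE y hyE
    have h2 : x * y * x⁻¹ * y⁻¹ = 1 := by rw [← hc]; exact h1
    calc x * y = (x * y * x⁻¹ * y⁻¹) * y * x := by group
      _ = y * x := by rw [h2, one_mul]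
  obtain ⟨k, hk⟩ := pw c hcZ hc1 z hz
  have hxc : x * c = c * x := (S.Zcomm c hcZ x hxP).symm
  have hxy : x * y * x⁻¹ = c * y := by rw [hc]; group
  obtain ⟨u, hu⟩ : ∃ u, u = x ^ k := ⟨_, rfl⟩
  have huP : u ∈ (P : Subgroup G) := by rw [hu]; exact (P : Subgroup G).pow_mem hxP k
  have huy : u * y * u⁻¹ = z * y := by rw [hu, conj_pow_mul hxy hxc k, hk]
  have huz : u * z * u⁻¹ = z := by
    have := S.Zcomm z hz u huP
    rw [← this]; group
  -- the element v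
  obtain ⟨w, hw⟩ : ∃ w, w = h * x * h⁻¹ := ⟨_, rfl⟩
  obtain ⟨z₁, hz₁⟩ : ∃ z₁, z₁ = h⁻¹ * z * h := ⟨_, rfl⟩
  have hz₁E : z₁ ∈ E := by rw [hz₁]; exact hE1 z hzE
  have hz₁ne : z₁ ≠ 1 := by
    intro h1
    apply hz1
    have : z = h * z₁ * h⁻¹ := by rw [hz₁]; group
    rw [this, h1]; group
  obtain ⟨d₀, hd₀⟩ : ∃ d₀, d₀ = x * z₁ * x⁻¹ * z₁⁻¹ := ⟨_, rfl⟩
  have hd₀Z : d₀ ∈ Z := by rw [hd₀]; exact S.comm x hxP z₁ (hEP hz₁E)
  have hd₀1 : d₀ ≠ 1 := by
    intro h1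
    have h2 : x * z₁ * x⁻¹ * z₁⁻¹ = 1 := by rw [← hd₀]; exact h1
    have hz₁Z : z₁ ∈ Z := by
      apply hkey x hxP hxE z₁ hz₁E
      calc x * z₁ = (x * z₁ * x⁻¹ * z₁⁻¹) * z₁ * x := by group
        _ = z₁ * x := by rw [h2, one_mul]
    obtain ⟨m, hm⟩ := pw z₁ hz₁Z hz₁ne y₀ hy0Z
    apply hyZ
    have e1 : y = h * y₀ * h⁻¹ := by rw [hy₀]; group
    have e2 : z = h * z₁ * h⁻¹ := by rw [hz₁]; group
    have e3 : y = z ^ m := by rw [e1, ← hm, e2, conj_pow]
    rw [e3]; exact Z.pow_mem hz m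
  obtain ⟨l, hl⟩ := pw d₀ hd₀Z hd₀1 y₀⁻¹ (Z.inv_mem hy0Z)
  obtain ⟨d, hd⟩ : ∃ d, d = h * d₀ * h⁻¹ := ⟨_, rfl⟩
  have hwy : Commute w y := by rw [hw]; exact c2 x hxP
  have hwz : w * z * w⁻¹ = d * z := by
    rw [hw, hd, hd₀, hz₁]; group
  have hwd : w * d = d * w := by
    have h1 : x * d₀ = d₀ * x := (S.Zcomm d₀ hd₀Z x hxP).symm
    rw [hw, hd]
    calc h * x * h⁻¹ * (h * d₀ * h⁻¹) = h * (x * d₀) * h⁻¹ := by group
      _ = h * (d₀ * x) * h⁻¹ := by rw [h1]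
      _ = h * d₀ * h⁻¹ * (h * x * h⁻¹) := by group
  obtain ⟨v, hv⟩ : ∃ v, v = w ^ l := ⟨_, rfl⟩
  have hdl : d ^ l = y⁻¹ := by
    rw [hd, conj_pow, hl, hy₀]; group
  have hvz : v * z * v⁻¹ = y⁻¹ * z := by rw [hv, conj_pow_mul hwz hwd l, hdl]
  have hvy : v * y * v⁻¹ = y := by
    have h1 : Commute v y := by rw [hv]; exact hwy.pow_left l
    rw [h1.eq]; group
  -- the element j and t
  obtain ⟨j, hj⟩ : ∃ j, j = u * v * u := ⟨_, rfl⟩
  have hzy : z * y = y * z := hEab z hzE y hyE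
  have hjz : j * z * j⁻¹ = y⁻¹ := by
    calc j * z * j⁻¹ = u * (v * (u * z * u⁻¹) * v⁻¹) * u⁻¹ := by rw [hj]; group
      _ = u * (y⁻¹ * z) * u⁻¹ := by rw [huz, hvz]
      _ = (u * y * u⁻¹)⁻¹ * (u * z * u⁻¹) := by group
      _ = y⁻¹ := by rw [huy, huz]; group
  have hjy : j * y * j⁻¹ = z := by
    calc j * y * j⁻¹ = u * (v * (u * y * u⁻¹) * v⁻¹) * u⁻¹ := by rw [hj]; group
      _ = u * (v * (z * y) * v⁻¹) * u⁻¹ := by rw [huy]
      _ = u * ((v * z * v⁻¹) * (v * y * v⁻¹)) * u⁻¹ := by group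
      _ = u * (y⁻¹ * z * y) * u⁻¹ := by rw [hvz, hvy]
      _ = u * z * u⁻¹ := by rw [mul_assoc y⁻¹, hzy, inv_mul_cancel_left]
      _ = z := huz
  obtain ⟨t, ht⟩ : ∃ t, t = j * j := ⟨_, rfl⟩
  have htz : t * z * t⁻¹ = z⁻¹ := by
    calc t * z * t⁻¹ = j * (j * z * j⁻¹) * j⁻¹ := by rw [ht]; group
      _ = (j * y * j⁻¹)⁻¹ := by rw [hjz]; group
      _ = z⁻¹ := by rw [hjy]
  have hty : t * y * t⁻¹ = y⁻¹ := by
    calc t * y * t⁻¹ = j * (j * y * j⁻¹) * j⁻¹ := by rw [ht]; group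
      _ = y⁻¹ := by rw [hjy, hjz]
  -- t inverts E
  have hinv : ∀ e ∈ E, t * e * t⁻¹ = e⁻¹ := by
    let I : Subgroup G :=
      { carrier := {e | e ∈ E ∧ t * e * t⁻¹ = e⁻¹}
        mul_mem' := by
          rintro a b ⟨ha, ha'⟩ ⟨hb, hb'⟩
          refine ⟨E.mul_mem ha hb, ?_⟩
          have h1 : t * (a * b) * t⁻¹ = (t * a * t⁻¹) * (t * b * t⁻¹) := by group
          rw [h1, ha', hb', mul_inv_rev]
          exact hEab _ (E.inv_mem ha) _ (E.inv_mem hb)
        one_mem' := ⟨E.one_mem, by simp⟩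
        inv_mem' := by
          rintro a ⟨ha, ha'⟩
          refine ⟨E.inv_mem ha, ?_⟩
          have h1 : t * a⁻¹ * t⁻¹ = (t * a * t⁻¹)⁻¹ := by group
          rw [h1, ha'] }
    have hIE : I ≤ E := fun e he => he.1
    have hZI : Z ≤ I := by
      intro a ha
      obtain ⟨m, hm⟩ := pw z hz hz1 a ha
      refine ⟨hZE ha, ?_⟩
      rw [← hm, ← conj_pow, htz, inv_pow]
    have hyI : y ∈ I := ⟨hyE, hty⟩
    have hIeq : I = E := by
      rcases eq_or_eq_of_between (p := p) 1 hZI hIE (by rw [pow_one]; exact S.Zcard) S.Ecard with h | h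
      · exfalso; apply hyZ; rw [← h]; exact hyI
      · exact h
    intro e he
    have : e ∈ I := by rw [hIeq]; exact he
    exact this.2
  have hinv' : ∀ e ∈ E, t⁻¹ * e * t = e⁻¹ := by
    intro e he
    have h1 := hinv e⁻¹ (E.inv_mem he)
    rw [inv_inv] at h1
    calc t⁻¹ * e * t = t⁻¹ * (t * e⁻¹ * t⁻¹) * t := by rw [h1]
      _ = e⁻¹ := by group
  -- the subgroup M of elements acting on E like an element of P
  let M : Subgroup G :=
    { carrier := {n | ∃ a ∈ (P : Subgroup G), ∀ e ∈ E, n * e * n⁻¹ = a * e * a⁻¹}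
      mul_mem' := by
        rintro n₁ n₂ ⟨a₁, ha₁, h₁⟩ ⟨a₂, ha₂, h₂⟩
        refine ⟨a₁ * a₂, (P : Subgroup G).mul_mem ha₁ ha₂, ?_⟩
        intro e he
        have h3 : n₁ * n₂ * e * (n₁ * n₂)⁻¹ = n₁ * (n₂ * e * n₂⁻¹) * n₁⁻¹ := by group
        rw [h3, h₂ e he, h₁ _ (hEnormP a₂ ha₂ e he)]; group
      one_mem' := ⟨1, (P : Subgroup G).one_mem, by intro e _; simp⟩
      inv_mem' := by
        rintro n ⟨a, ha, h₁⟩
        refine ⟨a⁻¹, (P : Subgroup G).inv_mem ha, ?_⟩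
        intro e he
        have he' : a⁻¹ * e * a ∈ E := by
          have := hEnormP a⁻¹ ((P : Subgroup G).inv_mem ha) e he
          rwa [inv_inv] at this
        have h2 := h₁ _ he'
        have h3 : a * (a⁻¹ * e * a) * a⁻¹ = e := by group
        rw [h3] at h2
        calc n⁻¹ * e * n⁻¹⁻¹ = n⁻¹ * (n * (a⁻¹ * e * a) * n⁻¹) * n := by rw [h2, inv_inv]
          _ = a⁻¹ * e * a⁻¹⁻¹ := by group }
  have hPM : (P : Subgroup G) ≤ M := fun a ha => ⟨a, ha, fun e _ => rfl⟩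
  have htPM : cj t (P : Subgroup G) ≤ M := by
    rintro _ ⟨a, ha, rfl⟩
    refine ⟨a, ha, ?_⟩
    intro e he
    show t * a * t⁻¹ * e * (t * a * t⁻¹)⁻¹ = a * e * a⁻¹
    have h1 : a * e⁻¹ * a⁻¹ ∈ E := hEnormP a ha _ (E.inv_mem he)
    calc t * a * t⁻¹ * e * (t * a * t⁻¹)⁻¹ = t * (a * (t⁻¹ * e * t) * a⁻¹) * t⁻¹ := by group
      _ = t * (a * e⁻¹ * a⁻¹) * t⁻¹ := by rw [hinv' e he]
      _ = (a * e⁻¹ * a⁻¹)⁻¹ := hinv _ h1
      _ = a * e * a⁻¹ := by group
  have hPsyl : IsSylowSub p (P : Subgroup G) M := IsSylowSub.of_le hPM le_top (isSylowSub_top P)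
  obtain ⟨m, hmM, hm⟩ := exists_cj_le_of_isSylowSub hPsyl htPM (isPGroup_cj P.isPGroup')
  obtain ⟨a, haP, ha⟩ := hmM
  obtain ⟨s, hs⟩ : ∃ s, s = a⁻¹ * m * t := ⟨_, rfl⟩
  have hsP : ∀ b ∈ (P : Subgroup G), s * b * s⁻¹ ∈ (P : Subgroup G) := by
    intro b hb
    have h1 : m * (t * b * t⁻¹) * m⁻¹ ∈ (P : Subgroup G) := hm (conj_mem_cj (conj_mem_cj hb))
    have h2 : s * b * s⁻¹ = a⁻¹ * (m * (t * b * t⁻¹) * m⁻¹) * a := by rw [hs]; group
    rw [h2]
    exact (P : Subgroup G).mul_mem ((P : Subgroup G).mul_mem ((P : Subgroup G).inv_mem haP) h1) haP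
  have hsE : ∀ e ∈ E, s * e * s⁻¹ = e⁻¹ := by
    intro e he
    calc s * e * s⁻¹ = a⁻¹ * (m * (t * e * t⁻¹) * m⁻¹) * a := by rw [hs]; group
      _ = a⁻¹ * (m * e⁻¹ * m⁻¹) * a := by rw [hinv e he]
      _ = a⁻¹ * (a * e⁻¹ * a⁻¹) * a := by rw [ha _ (E.inv_mem he)]
      _ = e⁻¹ := by group
  have hsE' : ∀ e ∈ E, s⁻¹ * e * s = e⁻¹ := by
    intro e he
    have h1 := hsE e⁻¹ (E.inv_mem he)
    rw [inv_inv] at h1
    calc s⁻¹ * e * s = s⁻¹ * (s * e⁻¹ * s⁻¹) * s := by rw [h1]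
      _ = e⁻¹ := by group
  -- final contradiction
  obtain ⟨x', hx'⟩ : ∃ x', x' = s * x * s⁻¹ := ⟨_, rfl⟩
  have hx'P : x' ∈ (P : Subgroup G) := by rw [hx']; exact hsP x hxP
  obtain ⟨q, hq⟩ : ∃ q, q = x⁻¹ * x' := ⟨_, rfl⟩
  have hqP : q ∈ (P : Subgroup G) := by
    rw [hq]; exact (P : Subgroup G).mul_mem ((P : Subgroup G).inv_mem hxP) hx'P
  have hx'e : ∀ e ∈ E, x' * e * x'⁻¹ = x * e * x⁻¹ := by
    intro e he
    have h1 : x * e⁻¹ * x⁻¹ ∈ E := hEnormP x hxP _ (E.inv_mem he)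
    calc x' * e * x'⁻¹ = s * (x * (s⁻¹ * e * s) * x⁻¹) * s⁻¹ := by rw [hx']; group
      _ = s * (x * e⁻¹ * x⁻¹) * s⁻¹ := by rw [hsE' e he]
      _ = (x * e⁻¹ * x⁻¹)⁻¹ := hsE _ h1
      _ = x * e * x⁻¹ := by group
  have hqe : ∀ e ∈ E, q * e = e * q := by
    intro e he
    have h1 := hx'e e he
    have h2 : q * e * q⁻¹ = x⁻¹ * (x' * e * x'⁻¹) * x := by rw [hq]; group
    rw [h1] at h2
    have h3 : q * e * q⁻¹ = e := by rw [h2]; group
    calc q * e = (q * e * q⁻¹) * q := by group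
      _ = e * q := by rw [h3]
  have hqE : q ∈ E := by
    by_contra hqE
    exact hyZ (hkey q hqP hqE y hyE (hqe y hyE))
  have hxq : x' = x * q := by rw [hq]; group
  have hpow1 : x' ^ p = x ^ p := by rw [hxq]; exact S.powE x hxP q hqE
  have hxpZ : x ^ p ∈ Z := S.powZ x hxP
  have hpow2 : x' ^ p = (x ^ p)⁻¹ := by
    rw [hx', conj_pow]
    exact hsE _ (hZE hxpZ)
  have h5 : (x ^ p) ^ 2 = 1 := by
    have hh : x ^ p = (x ^ p)⁻¹ := hpow1.symm.trans hpow2
    rw [pow_two]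
    calc x ^ p * x ^ p = (x ^ p)⁻¹ * x ^ p := congrArg (· * x ^ p) hh
      _ = 1 := inv_mul_cancel _
  have h6 : (x ^ p) ^ p = 1 := hZpow _ hxpZ
  have h7 : x ^ p = 1 := by
    have d1 := orderOf_dvd_of_pow_eq_one h5
    have d2 := orderOf_dvd_of_pow_eq_one h6
    have hcop : Nat.Coprime 2 p := (Nat.coprime_primes Nat.prime_two hpp).2 (Ne.symm hp2)
    have d3 : orderOf (x ^ p) ∣ 1 := by
      have := Nat.dvd_gcd d1 d2
      rwa [hcop] at this
    exact orderOf_eq_one_iff.1 (Nat.dvd_one.1 d3)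
  exact hxE ((S.Emem x).2 ⟨hxP, h7⟩)

/-- Let p be an odd prime and G a finite group with a Sylow p-subgroup P that is extraspecial of order p³ and exponent p². Then the centre of P is strongly closed in P with respect to G: a G-conjugate of an element of Z(P) that lies in P already lies in Z(P). In particular a nontrivial central element of P is conjugate in G to no noncentral element of P. -/
theorem result {G : Type*} [Group G] [Finite G]
    {p : ℕ} [Fact p.Prime] (hp : p ≠ 2) (P : Sylow p G) (hE : Cfsg.IsExtraspecial p ↥P)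
    (hcard : Nat.card P = p ^ 3) (hexp : Monoid.exponent ↥P = p ^ 2) :
    Cfsg.IsStronglyClosed ((Subgroup.center ↥P).map (P : Subgroup G).subtype) (P : Subgroup G) := by
  obtain ⟨E, S⟩ := setup_of_extraspecial hp (P : Subgroup G) hE hcard hexp
  refine ⟨Subgroup.map_subtype_le _, ?_⟩
  intro z hz g hy
  by_contra hyZ
  exact main hp P S z hz g hy hyZ

end Cfsg.Agent.S3053
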