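import Mathlib
import Cfsg.Statements.S3057
import Cfsg.Agent.S3056
import Cfsg.Agent.S3058
import Cfsg.Agent.S0016
import Cfsg.Agent.Lib.Helper12.Generation
import Cfsg.Agent.Lib.Helper23.PSolvCopy
import Cfsg.Agent.Lib.Helper16.SylowNormal
import Cfsg.Agent.Lib.Helper16.PCore

set_option autoImplicit false
open Cfsg Relation

namespace Cfsg.Agent.S3057

theorem mem_zpowers_of_cyclic {Γ : Type*} [Group Γ] [Finite Γ] [IsCyclic Γ] {p : ℕ} (hp : p.Prime)
    {a b : Γ} (ha : orderOf a = p) (hb : orderOf b = p) : b ∈ Subgroup.zpowers a := by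
  classical
  haveI := Fintype.ofFinite Γ
  by_contra hnot
  have hle := IsCyclic.card_pow_eq_one_le (α := Γ) hp.pos
  have hZcard : (Finset.univ.filter (fun z : Γ => z ∈ Subgroup.zpowers a)).card = p := by
    rw [← Fintype.card_subtype, ← ha]
    exact Fintype.card_zpowers
  have hsub : insert b (Finset.univ.filter (fun z : Γ => z ∈ Subgroup.zpowers a)) ⊆
      Finset.univ.filter (fun z : Γ => z ^ p = 1) := by
    intro z hz
    rw [Finset.mem_insert] at hz
    rw [Finset.mem_filter]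
    refine ⟨Finset.mem_univ _, ?_⟩
    rcases hz with rfl | hz
    · rw [← hb]; exact pow_orderOf_eq_one z
    · rw [Finset.mem_filter] at hz
      obtain ⟨k, rfl⟩ := Subgroup.mem_zpowers_iff.mp hz.2
      rw [← zpow_natCast, ← zpow_mul, mul_comm, zpow_mul, zpow_natCast, ← ha, pow_orderOf_eq_one,
        one_zpow]
  have hcard := Finset.card_le_card hsub
  rw [Finset.card_insert_of_notMem (by simp [hnot]), hZcard] at hcard
  omega

theorem quaternion_eq_of_orderOf_two {m : ℕ} [NeZero m] (z : QuaternionGroup m)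
    (hz : orderOf z = 2) : z = QuaternionGroup.a (m : ZMod (2 * m)) := by
  cases z with
  | a i =>
    have h1 : (QuaternionGroup.a i : QuaternionGroup m) ^ 2 = 1 := by
      rw [← hz]; exact pow_orderOf_eq_one _
    rw [sq, QuaternionGroup.a_mul_a, QuaternionGroup.one_def] at h1
    have h2 : i + i = 0 := by
      injection h1
    have h3 : i ≠ 0 := by
      rintro rfl
      have : orderOf (QuaternionGroup.a (0 : ZMod (2 * m)) : QuaternionGroup m) = 1 := by
        rw [orderOf_eq_one_iff]; rfl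
      omega
    congr 1
    haveI : NeZero (2 * m) := ⟨by have := NeZero.ne m; omega⟩
    have h4 : (i.val + i.val) % (2 * m) = 0 := by
      have := congrArg ZMod.val h2
      rwa [ZMod.val_add, ZMod.val_zero] at this
    have h5 : i.val < 2 * m := ZMod.val_lt i
    have h6 : i.val ≠ 0 := fun h => h3 ((ZMod.val_eq_zero i).mp h)
    have h7 : i.val = m := by
      obtain ⟨k, hk⟩ := Nat.dvd_of_mod_eq_zero h4
      have : k = 1 := by
        rcases k with _ | _ | k
        · omega
        · rfl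
        · exfalso
          have h8 : 2 * m * (k + 2) ≥ 2 * m * 2 := Nat.mul_le_mul_left _ (by omega)
          rw [← hk] at h8
          omega
      subst this
      omega
    have h8 : ((i.val : ℕ) : ZMod (2 * m)) = i := ZMod.natCast_zmod_val i
    rw [← h8, h7]
  | xa i =>
    rw [QuaternionGroup.orderOf_xa] at hz
    omega

/-- In a cyclic or generalized quaternion group, any two elements of order `p` generate the same
subgroup. -/
theorem mem_zpowers_of_cyclic_or_quaternion {Γ : Type*} [Group Γ] [Finite Γ] {p : ℕ} (hp : p.Prime)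
    (h : IsCyclic Γ ∨ (p = 2 ∧ ∃ n : ℕ, Nonempty (Γ ≃* QuaternionGroup (2 ^ n))))
    {a b : Γ} (ha : orderOf a = p) (hb : orderOf b = p) : b ∈ Subgroup.zpowers a := by
  rcases h with h | ⟨h2, n, ⟨e⟩⟩
  · exact mem_zpowers_of_cyclic hp ha hb
  · subst h2
    haveI : NeZero (2 ^ n) := ⟨pow_ne_zero _ two_ne_zero⟩
    have h1 := quaternion_eq_of_orderOf_two (e a) (by rw [MulEquiv.orderOf_eq]; exact ha)
    have h2 := quaternion_eq_of_orderOf_two (e b) (by rw [MulEquiv.orderOf_eq]; exact hb)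
    have : a = b := e.injective (h1.trans h2.symm)
    rw [this]
    exact Subgroup.mem_zpowers b

section
variable {G : Type*} [Group G] [Finite G] (p : ℕ) [Fact p.Prime]

/-- If every Sylow `p`-subgroup has a unique subgroup of order `p` and `O_p(G) = 1`, the Sylow
`p`-subgroups are not chain-connected. -/
theorem not_conn_of_unique (hdiv : p ∣ Nat.card G) (hO : Cfsg.pCore p G = ⊥)
    (huniq : ∀ S : Sylow p G, ∀ a ∈ (S : Subgroup G), ∀ b ∈ (S : Subgroup G), orderOf a = p →
      orderOf b = p → b ∈ Subgroup.zpowers a) : ¬ Cfsg.IsSylowChainConnected p G := by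
  intro hc
  have hpp : p.Prime := Fact.out
  have hconn := Cfsg.Agent.S3056.conn_of_chain hc
  obtain ⟨g, hg⟩ := exists_prime_orderOf_dvd_card' p hdiv
  have hgp : IsPGroup p (Subgroup.zpowers g) := by
    apply IsPGroup.of_card (n := 1)
    rw [Nat.card_zpowers, hg, pow_one]
  obtain ⟨P, hP⟩ := hgp.exists_le_sylow
  have hgP : g ∈ (P : Subgroup G) := hP (Subgroup.mem_zpowers g)
  have key : ∀ S : Sylow p G, ReflTransGen Cfsg.Agent.S3056.Meet P S → g ∈ (S : Subgroup G) := by
    intro S hS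
    induction hS with
    | refl => exact hgP
    | @tail S' T _ hbc ih =>
      obtain ⟨w, hw1, hwS, hwT⟩ := hbc
      -- an element of order p in ⟨w⟩
      have hdvd : p ∣ Nat.card (Subgroup.zpowers w) := by
        have hwp : IsPGroup p (Subgroup.zpowers w) :=
          S'.isPGroup'.to_le (Subgroup.zpowers_le.mpr hwS)
        obtain ⟨k, hk⟩ := hwp.exists_card_eq
        have hk0 : k ≠ 0 := by
          rintro rfl
          rw [pow_zero, Subgroup.card_eq_one, Subgroup.zpowers_eq_bot] at hk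
          exact hw1 hk
        rw [hk]; exact dvd_pow_self p hk0
      obtain ⟨w', hw'⟩ := exists_prime_orderOf_dvd_card' p hdvd
      have hw'S : (w' : G) ∈ (S' : Subgroup G) := (Subgroup.zpowers_le.mpr hwS) w'.2
      have hw'T : (w' : G) ∈ (T : Subgroup G) := (Subgroup.zpowers_le.mpr hwT) w'.2
      have hord : orderOf (w' : G) = p := by rw [Subgroup.orderOf_coe]; exact hw'
      have := huniq S' (w' : G) hw'S g ih hord hg
      exact (Subgroup.zpowers_le.mpr hw'T) this
  have hall : ∀ S : Sylow p G, g ∈ (S : Subgroup G) := fun S => key S (hconn P S)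
  obtain ⟨N, hNdef⟩ : ∃ N : Subgroup G, N = ⨅ S : Sylow p G, (S : Subgroup G) := ⟨_, rfl⟩
  have hgN : g ∈ N := by
    rw [hNdef, Subgroup.mem_iInf]; exact hall
  have hNn : N.Normal := by
    constructor
    intro n hn y
    rw [hNdef, Subgroup.mem_iInf] at hn ⊢
    intro S
    have := hn (y⁻¹ • S)
    rw [Cfsg.Agent.S3056.mem_smul_sylow, inv_inv] at this
    exact this
  have hNp : IsPGroup p N := P.isPGroup'.to_le (by rw [hNdef]; exact iInf_le _ P)
  have := Cfsg.Agent.Lib.Helper16.le_pCore hNn hNp hgN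
  rw [hO, Subgroup.mem_bot] at this
  rw [this, orderOf_one] at hg
  exact hpp.one_lt.ne hg

theorem pCore_eq_bot_of_not_conn (hG : ¬ Cfsg.IsSylowChainConnected p G) :
    Cfsg.pCore p G = ⊥ := by
  by_contra h
  apply hG
  apply Cfsg.Agent.S3056.chainConnected_of_conn
  intro S T
  obtain ⟨x, hx1⟩ := Subgroup.ne_bot_iff_exists_ne_one.mp h
  apply ReflTransGen.single
  refine ⟨(x : G), ?_, Cfsg.Agent.Lib.Helper16.pCore_le_sylow S x.2,
    Cfsg.Agent.Lib.Helper16.pCore_le_sylow T x.2⟩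
  intro h1
  exact hx1 (Subtype.ext h1)

variable (H : Subgroup G)
  (hemb : ∀ g : G, g ∉ H → ¬ p ∣ Nat.card ↥(H ⊓ H.map (MulAut.conj g).toMonoidHom))
include hemb

theorem centralizer_le_of_embedded (S₀ : Sylow p G) (hS₀ : (S₀ : Subgroup G) ≤ H) {w : G}
    (hw : w ∈ (S₀ : Subgroup G)) (hw1 : w ≠ 1) : Subgroup.centralizer ({w} : Set G) ≤ H := by
  have hzw : Subgroup.zpowers w ≤ (S₀ : Subgroup G) := Subgroup.zpowers_le.mpr hw
  have h1 := Cfsg.Agent.S3056.normalizer_le_of_embedded H hemb (hzw.trans hS₀)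
    (S₀.isPGroup'.to_le hzw) (by rw [Ne, Subgroup.zpowers_eq_bot]; exact hw1)
  refine le_trans ?_ h1
  refine le_trans ?_ (Subgroup.centralizer_le_normalizer _)
  intro c hc
  rw [Subgroup.mem_centralizer_iff]
  intro z hz
  obtain ⟨k, rfl⟩ := Subgroup.mem_zpowers_iff.mp hz
  have hwc : Commute w c := (Subgroup.mem_centralizer_iff.mp hc) w (Set.mem_singleton w)
  exact hwc.zpow_left k

theorem core_le_of_rank_two (S₀ : Sylow p G) (hS₀ : (S₀ : Subgroup G) ≤ H) {K : Subgroup G}
    (hKn : K.Normal) (hKc : (Nat.card K).Coprime p) {x y : G} (hxS : x ∈ (S₀ : Subgroup G))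
    (hyS : y ∈ (S₀ : Subgroup G)) (hxy : x * y = y * x) (hxp : x ^ p = 1) (hyp : y ^ p = 1)
    (hx1 : x ≠ 1) (hy : y ∉ Subgroup.zpowers x) : K ≤ H := by
  have hnorm : Subgroup.normalizer (K : Set G) = ⊤ := Subgroup.normalizer_eq_top_iff.mpr hKn
  apply Cfsg.Agent.Lib.Helper12.le_gen_of_coprime K hKc x y
    (hnorm ▸ Subgroup.mem_top x) (hnorm ▸ Subgroup.mem_top y) hxy hxp hyp H
  · exact inf_le_right.trans (centralizer_le_of_embedded p H hemb S₀ hS₀ hxS hx1)
  · intro i
    refine inf_le_right.trans (centralizer_le_of_embedded p H hemb S₀ hS₀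
      (Subgroup.mul_mem _ (Subgroup.pow_mem _ hxS _) hyS) ?_)
    intro h
    apply hy
    have : y = (x ^ i.val)⁻¹ := by
      rw [eq_inv_iff_mul_eq_one]
      have hc : Commute y (x ^ i.val) := (show Commute x y from hxy).symm.pow_right _
      rw [hc.eq]
      exact h
    rw [this]
    exact Subgroup.inv_mem _ (Subgroup.pow_mem _ (Subgroup.mem_zpowers x) _)

theorem unique_of_embedded (hdiv : p ∣ Nat.card G) (hsol : Cfsg.IsPSolvable p G) (hH : H ≠ ⊤)
    (S₀ : Sylow p G) (hS₀ : (S₀ : Subgroup G) ≤ H) :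
    ∀ A B : Subgroup ↥(S₀ : Subgroup G), Nat.card A = p → Nat.card B = p → A = B := by
  have hpp : p.Prime := Fact.out
  intro A B hA hB
  by_contra hAB
  have hS₀ne : (S₀ : Subgroup G) ≠ ⊥ := S₀.ne_bot_of_dvd_card hdiv
  haveI : Nontrivial ↥(S₀ : Subgroup G) := (Subgroup.nontrivial_iff_ne_bot _).mpr hS₀ne
  haveI hcn : Nontrivial (Subgroup.center ↥(S₀ : Subgroup G)) := S₀.isPGroup'.center_nontrivial
  have hcp : IsPGroup p (Subgroup.center ↥(S₀ : Subgroup G)) := S₀.isPGroup'.to_subgroup _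
  have hdvdc : p ∣ Nat.card (Subgroup.center ↥(S₀ : Subgroup G)) := by
    obtain ⟨k, hk⟩ := hcp.exists_card_eq
    have hk0 : k ≠ 0 := by
      rintro rfl
      rw [pow_zero] at hk
      have := (Finite.one_lt_card_iff_nontrivial (α := Subgroup.center ↥(S₀ : Subgroup G))).mpr hcn
      omega
    rw [hk]; exact dvd_pow_self p hk0
  obtain ⟨z', hz'⟩ := exists_prime_orderOf_dvd_card' p hdvdc
  obtain ⟨z, hzdef⟩ : ∃ z : ↥(S₀ : Subgroup G), z = z'.1 := ⟨_, rfl⟩
  have hzord : orderOf z = p := by rw [hzdef, Subgroup.orderOf_coe]; exact hz'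
  have hzc : ∀ s : ↥(S₀ : Subgroup G), s * z = z * s := by
    intro s
    rw [hzdef]
    exact Subgroup.mem_center_iff.mp z'.2 s
  obtain ⟨C, hC, hCz⟩ : ∃ C : Subgroup ↥(S₀ : Subgroup G), Nat.card C = p ∧ C ≠ Subgroup.zpowers z := by
    by_cases h : A = Subgroup.zpowers z
    · exact ⟨B, hB, fun hb => hAB (h.trans hb.symm)⟩
    · exact ⟨A, hA, h⟩
  haveI : Nontrivial C := by
    rw [← Finite.one_lt_card_iff_nontrivial, hC]
    exact hpp.one_lt
  obtain ⟨y, hy1⟩ := exists_ne (1 : C)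
  have hypow : (y : ↥(S₀ : Subgroup G)) ^ p = 1 := by
    have := pow_card_eq_one' (G := C) (x := y)
    rw [hC] at this
    exact congrArg Subtype.val this
  have hyC : Subgroup.zpowers (y : ↥(S₀ : Subgroup G)) = C := by
    apply Subgroup.eq_of_le_of_card_ge (Subgroup.zpowers_le.mpr y.2)
    rw [hC, Nat.card_zpowers]
    have hdvd : orderOf (y : ↥(S₀ : Subgroup G)) ∣ p := orderOf_dvd_of_pow_eq_one hypow
    rcases (Nat.dvd_prime hpp).mp hdvd with h | h
    · exfalso
      apply hy1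
      exact Subtype.ext (orderOf_eq_one_iff.mp h)
    · exact h.ge
  have hyz : (y : ↥(S₀ : Subgroup G)) ∉ Subgroup.zpowers z := by
    intro h
    apply hCz
    rw [← hyC]
    apply Subgroup.eq_of_le_of_card_ge (Subgroup.zpowers_le.mpr h)
    rw [Nat.card_zpowers, hzord, hyC, hC]
  -- pass to G
  have hxS : ((z : ↥(S₀ : Subgroup G)) : G) ∈ (S₀ : Subgroup G) := z.2
  have hyS : (((y : ↥(S₀ : Subgroup G))) : G) ∈ (S₀ : Subgroup G) := (y : ↥(S₀ : Subgroup G)).2
  have hxy : (z : G) * ((y : ↥(S₀ : Subgroup G)) : G) = ((y : ↥(S₀ : Subgroup G)) : G) * (z : G) := by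
    have := hzc (y : ↥(S₀ : Subgroup G))
    exact (congrArg Subtype.val this).symm
  have hxp : (z : G) ^ p = 1 := by
    have := pow_orderOf_eq_one z
    rw [hzord] at this
    exact congrArg Subtype.val this
  have hyp : (((y : ↥(S₀ : Subgroup G))) : G) ^ p = 1 := congrArg Subtype.val hypow
  have hx1 : (z : G) ≠ 1 := by
    intro h
    have : z = 1 := Subtype.ext h
    rw [this, orderOf_one] at hzord
    exact hpp.one_lt.ne hzord
  have hy : (((y : ↥(S₀ : Subgroup G))) : G) ∉ Subgroup.zpowers (z : G) := by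
    intro h
    apply hyz
    obtain ⟨k, hk⟩ := Subgroup.mem_zpowers_iff.mp h
    rw [Subgroup.mem_zpowers_iff]
    refine ⟨k, ?_⟩
    apply Subtype.ext
    rw [Subgroup.coe_zpow]
    exact hk
  -- K = O_{p'}(G) ≤ H
  obtain ⟨K, hKdef⟩ : ∃ K : Subgroup G, K = Cfsg.pPrimeCore p G := ⟨_, rfl⟩
  haveI hKn : K.Normal := hKdef ▸ (Cfsg.Agent.Lib.Helper20.pPrimeCore_mem' p).1
  have hKc : (Nat.card K).Coprime p := hKdef ▸ Cfsg.Agent.Lib.Helper20.pPrimeCore_coprime' p
  have hKH : K ≤ H := core_le_of_rank_two p H hemb S₀ hS₀ hKn hKc hxS hyS hxy hxp hyp hx1 hy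
  -- the quotient
  have hsolQ : Cfsg.IsPSolvable p (G ⧸ K) :=
    Cfsg.Agent.Lib.Helper23.PSolvCopy.isPSolvable_of_surjective (QuotientGroup.mk' K)
      (QuotientGroup.mk'_surjective K) hsol
  have hOQ : Cfsg.pPrimeCore p (G ⧸ K) = ⊥ := by
    subst hKdef
    exact Cfsg.Agent.Lib.Helper20.pPrimeCore_quotient_eq_bot p
  have hHH := Cfsg.Agent.Lib.Helper23.PSolvCopy.centralizer_pCore_le_of_isPSolvable hsolQ hOQ
  have hOpQ : Cfsg.pCore p (G ⧸ K) ≠ ⊥ := by
    intro h
    rw [h] at hHH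
    have hKtop : K = ⊤ := by
      rw [eq_top_iff]
      intro g _
      have h1 : (QuotientGroup.mk' K) g ∈ Subgroup.centralizer (((⊥ : Subgroup (G ⧸ K)) : Subgroup (G ⧸ K)) : Set (G ⧸ K)) := by
        rw [Subgroup.mem_centralizer_iff]
        intro w hw
        have : w = 1 := hw
        rw [this, one_mul, mul_one]
      have h2 := hHH h1
      rw [Subgroup.mem_bot, QuotientGroup.mk'_apply, QuotientGroup.eq_one_iff] at h2
      exact h2
    have : Nat.card K = Nat.card G := by rw [hKtop]; exact Subgroup.card_top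
    rw [this] at hKc
    exact (Nat.Prime.coprime_iff_not_dvd hpp).mp hKc.symm hdiv
  haveI hpcn : (Cfsg.pCore p (G ⧸ K)).Normal := Cfsg.Agent.Lib.Helper16.pCore_normal p _
  obtain ⟨M, hMdef⟩ : ∃ M : Subgroup G, M = (Cfsg.pCore p (G ⧸ K)).comap (QuotientGroup.mk' K) :=
    ⟨_, rfl⟩
  haveI hMn : M.Normal := by rw [hMdef]; infer_instance
  have hKM : K ≤ M := by
    intro n hn
    rw [hMdef, Subgroup.mem_comap]
    have : (QuotientGroup.mk' K) n = 1 := by
      rw [QuotientGroup.mk'_apply, QuotientGroup.eq_one_iff]; exact hn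
    rw [this]; exact Subgroup.one_mem _
  have hrel : K.relIndex M = Nat.card (Cfsg.pCore p (G ⧸ K)) := by
    have h1 := Subgroup.relIndex_ker (QuotientGroup.mk' K) (K := M)
    rw [QuotientGroup.ker_mk'] at h1
    rw [h1, hMdef, Subgroup.map_comap_eq_self_of_surjective (QuotientGroup.mk'_surjective K)]
  obtain ⟨a, ha⟩ := (Cfsg.Agent.Lib.Helper16.pCore_isPGroup p (G ⧸ K)).exists_card_eq
  have ha0 : a ≠ 0 := by
    rintro rfl
    rw [pow_zero, Subgroup.card_eq_one] at ha
    exact hOpQ ha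
  have hcardM : Nat.card K * p ^ a = Nat.card M := by
    have h1 := Subgroup.relIndex_mul_relIndex (⊥ : Subgroup G) K M bot_le hKM
    rw [Subgroup.relIndex_bot_left, Subgroup.relIndex_bot_left, hrel, ha] at h1
    exact h1
  obtain ⟨Q, hQ⟩ := Cfsg.Agent.Lib.Helper16.exists_sylow_subgroupOf_normal S₀ M
  obtain ⟨P₀, hP₀def⟩ : ∃ P₀ : Subgroup G, P₀ = (Q : Subgroup ↥M).map M.subtype := ⟨_, rfl⟩
  have hP₀eq : P₀ = (S₀ : Subgroup G) ⊓ M := by
    rw [hP₀def, hQ, Subgroup.subgroupOf_map_subtype]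
  have hfrat : Subgroup.normalizer (P₀ : Set G) ⊔ M = ⊤ := by
    rw [hP₀def]; exact Sylow.normalizer_sup_eq_top Q
  have hP₀S : P₀ ≤ (S₀ : Subgroup G) := by rw [hP₀eq]; exact inf_le_left
  have hP₀M : P₀ ≤ M := by rw [hP₀eq]; exact inf_le_right
  have hP₀p : IsPGroup p P₀ := S₀.isPGroup'.to_le hP₀S
  have hpM : p ∣ Nat.card ↥M := by
    rw [← hcardM]
    exact Dvd.dvd.mul_left (dvd_pow_self p ha0) _
  have hP₀ne : P₀ ≠ ⊥ := by
    rw [hP₀def]
    intro h
    exact Q.ne_bot_of_dvd_card hpM ((Subgroup.map_eq_bot_iff_of_injective _ M.subtype_injective).mp h)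
  have hN : Subgroup.normalizer (P₀ : Set G) ≤ H :=
    Cfsg.Agent.S3056.normalizer_le_of_embedded H hemb (hP₀S.trans hS₀) hP₀p hP₀ne
  have hsup : K ⊔ P₀ = M := by
    apply Subgroup.eq_of_le_of_card_ge (sup_le hKM hP₀M)
    have hMpos : Nat.card ↥M ≠ 0 := Nat.card_pos.ne'
    have h1 : p ^ a ∣ Nat.card P₀ := by
      rw [hP₀def, Subgroup.card_map_of_injective M.subtype_injective, Q.card_eq_multiplicity]
      apply pow_dvd_pow
      apply (hpp.pow_dvd_iff_le_factorization hMpos).mp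
      rw [← hcardM]
      exact Dvd.intro_left _ rfl
    have h2 : p ^ a ∣ Nat.card (K ⊔ P₀ : Subgroup G) := h1.trans (Subgroup.card_dvd_of_le le_sup_right)
    have h3 : Nat.card K ∣ Nat.card (K ⊔ P₀ : Subgroup G) := Subgroup.card_dvd_of_le le_sup_left
    have h4 : Nat.card K * p ^ a ∣ Nat.card (K ⊔ P₀ : Subgroup G) :=
      Nat.Coprime.mul_dvd_of_dvd_of_dvd (Nat.Coprime.pow_right a hKc) h3 h2
    rw [hcardM] at h4
    exact Nat.le_of_dvd Nat.card_pos h4
  have hMH : M ≤ H := by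
    rw [← hsup]
    exact sup_le hKH (hP₀S.trans hS₀)
  apply hH
  rw [eq_top_iff, ← hfrat]
  exact sup_le hN hMH

end

/-- Let p be a prime and G a finite p-solvable group of order divisible by p, with Sylow p-subgroup P. Then the Sylow p-subgroups of G fail to be chain-connected through nontrivial intersections (equivalently, G has a strongly p-embedded subgroup) if and only if O_p(G) = 1 and P is cyclic or, for p = 2, generalized quaternion. -/
theorem result {G : Type*} [Group G] [Finite G]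
    (p : ℕ) [Fact p.Prime] (hdiv : p ∣ Nat.card G) (hsol : Cfsg.IsPSolvable p G) (P : Sylow p G) :
    ¬ Cfsg.IsSylowChainConnected p G ↔
      Cfsg.pCore p G = ⊥ ∧ (IsCyclic ↥P ∨ (p = 2 ∧ ∃ n : ℕ, Nonempty (↥P ≃* QuaternionGroup (2 ^ n)))) := by
  have hpp : p.Prime := Fact.out
  constructor
  · intro hG
    refine ⟨pCore_eq_bot_of_not_conn p hG, ?_⟩
    obtain ⟨H, hH, hpH, hemb⟩ := (Cfsg.Agent.S3056.result p).1 hG
    obtain ⟨S₀, hS₀⟩ := Cfsg.Agent.S3058.exists_sylow_le_of_embedded H hemb hpH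
    have huniq := unique_of_embedded p H hemb hdiv hsol hH S₀ hS₀
    have h16 := Cfsg.Agent.S0016.result p S₀.isPGroup' huniq
    obtain ⟨g, hg⟩ := MulAction.exists_smul_eq G S₀ P
    subst hg
    have e : ↥(S₀ : Subgroup G) ≃* ↥((g • S₀ : Sylow p G) : Subgroup G) := Sylow.equivSMul S₀ g
    rcases h16 with h | ⟨h2, n, ⟨f⟩⟩
    · left
      haveI := h
      exact isCyclic_of_surjective e e.surjective
    · right
      exact ⟨h2, n, ⟨e.symm.trans f⟩⟩
  · rintro ⟨hO, hP⟩
    apply not_conn_of_unique p hdiv hO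
    intro S a ha b hb hao hbo
    obtain ⟨g, hg⟩ := MulAction.exists_smul_eq G P S
    subst hg
    have e : ↥(P : Subgroup G) ≃* ↥((g • P : Sylow p G) : Subgroup G) := Sylow.equivSMul P g
    have hS : IsCyclic ↥((g • P : Sylow p G) : Subgroup G) ∨
        (p = 2 ∧ ∃ n : ℕ, Nonempty (↥((g • P : Sylow p G) : Subgroup G) ≃* QuaternionGroup (2 ^ n))) := by
      rcases hP with h | ⟨h2, n, ⟨f⟩⟩
      · left
        haveI : IsCyclic ↥(P : Subgroup G) := h
        exact isCyclic_of_surjective e e.surjective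
      · right
        exact ⟨h2, n, ⟨e.symm.trans f⟩⟩
    have h1 := mem_zpowers_of_cyclic_or_quaternion hpp hS
      (a := (⟨a, ha⟩ : ↥((g • P : Sylow p G) : Subgroup G))) (b := ⟨b, hb⟩)
      (by rw [← Subgroup.orderOf_coe]; exact hao) (by rw [← Subgroup.orderOf_coe]; exact hbo)
    obtain ⟨k, hk⟩ := Subgroup.mem_zpowers_iff.mp h1
    rw [Subgroup.mem_zpowers_iff]
    refine ⟨k, ?_⟩
    have := congrArg Subtype.val hk
    simpa using this

end Cfsg.Agent.S3057
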