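import Cfsg.Statements.S3059
-- import your own Cfsg.Agent.* helpers here

set_option autoImplicit false
open Cfsg

namespace Cfsg.Agent.S3059

open scoped Pointwise in
/-- For a Sylow `p`-subgroup `S` of `G` and a normal subgroup `N`, some Sylow `p`-subgroup of `N`
lies in `S`. -/
theorem exists_sylow_normal_le {G : Type*} [Group G] [Finite G] (p : ℕ) [Fact p.Prime]
    (N : Subgroup G) [hNn : N.Normal] (S : Sylow p G) :
    ∃ P : Sylow p N, (P : Subgroup N).map N.subtype ≤ (S : Subgroup G) := by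
  let P₀ : Sylow p N := default
  have hA₀ : IsPGroup p ((P₀ : Subgroup N).map N.subtype) := P₀.isPGroup'.map _
  obtain ⟨Q, hQ⟩ := hA₀.exists_le_sylow
  obtain ⟨g, hg⟩ := MulAction.exists_smul_eq G S Q
  let φ : MulAut N := MulAut.conjNormal (H := N) g⁻¹
  refine ⟨φ • P₀, ?_⟩
  intro x hx
  obtain ⟨y, hy, rfl⟩ := Subgroup.mem_map.mp hx
  have hy' : y ∈ (φ • (P₀ : Subgroup N)) := hy
  rw [Subgroup.mem_pointwise_smul_iff_inv_smul_mem] at hy'
  have h1 : ((φ⁻¹ • y : N) : G) ∈ (P₀ : Subgroup N).map N.subtype :=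
    Subgroup.mem_map_of_mem _ hy'
  have h2 := hQ h1
  rw [← hg, Sylow.coe_subgroup_smul] at h2
  have h3 : ((φ⁻¹ • y : N) : G) = MulAut.conj g • (y : G) := by
    rw [MulAut.smul_def, MulAut.smul_def, MulAut.conj_apply]
    show ((MulAut.conjNormal (H := N) g⁻¹)⁻¹ y : G) = _
    rw [MulAut.conjNormal_inv_apply, inv_inv]
  rw [h3] at h2
  exact (Subgroup.smul_mem_pointwise_smul_iff).mp h2
/-- Let p be a prime and H a strongly p-embedded subgroup of the finite group G in the classical sense: H is proper, p divides the order of H, and H ∩ gHg⁻¹ has order prime to p for every g outside H. Then for every normal subgroup N of G of order divisible by p, G = H · O^p(N), where O^p(N) is the subgroup generated by the elements of N of order prime to p. -/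
theorem result {G : Type*} [Group G] [Finite G]
    (p : ℕ) [Fact p.Prime] (H : Subgroup G) (hH : H ≠ ⊤) (hpH : p ∣ Nat.card H)
    (hse : ∀ g : G, g ∉ H → ¬ p ∣ Nat.card ↥(H ⊓ H.map (MulAut.conj g).toMonoidHom))
    (N : Subgroup G) [N.Normal] (hN : p ∣ Nat.card N) :
    H ⊔ Subgroup.closure {g : G | g ∈ N ∧ (orderOf g).Coprime p} = ⊤ := by
  classical
  -- (C): a nontrivial p-element of H is centralized only by elements of H
  have hC : ∀ y ∈ H, y ≠ 1 → (∃ k : ℕ, orderOf y = p ^ k) → ∀ g : G, g * y = y * g → g ∈ H := by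
    intro y hy hy1 ⟨k, hk⟩ g hg
    by_contra hgH
    apply hse g hgH
    have hmem : y ∈ H ⊓ H.map (MulAut.conj g).toMonoidHom := by
      refine ⟨hy, ?_⟩
      show y ∈ H.map (MulAut.conj g).toMonoidHom
      rw [Subgroup.mem_map]
      refine ⟨y, hy, ?_⟩
      change g * y * g⁻¹ = y
      rw [hg, mul_inv_cancel_right]
    have hk0 : k ≠ 0 := by
      rintro rfl
      rw [pow_zero, orderOf_eq_one_iff] at hk
      exact hy1 hk
    have h1 : orderOf y ∣ Nat.card ↥(H ⊓ H.map (MulAut.conj g).toMonoidHom) := by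
      have := orderOf_dvd_natCard (⟨y, hmem⟩ : ↥(H ⊓ H.map (MulAut.conj g).toMonoidHom))
      rwa [Subgroup.orderOf_mk] at this
    exact dvd_trans (hk ▸ dvd_pow_self p hk0) h1
  -- an element of order p in H
  obtain ⟨⟨x, hxH⟩, hxo⟩ := exists_prime_orderOf_dvd_card' (G := H) p hpH
  have hxo' : orderOf x = p := by
    rw [← hxo, Subgroup.orderOf_mk]
  have hx1 : x ≠ 1 := by
    intro h
    rw [h, orderOf_one] at hxo'
    exact (Fact.out : p.Prime).ne_one hxo'.symm
  -- a Sylow p-subgroup of G containing x lies in H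
  have hxp : IsPGroup p (Subgroup.zpowers x) := by
    apply IsPGroup.of_card (n := 1)
    rw [Nat.card_zpowers, hxo', pow_one]
  obtain ⟨S, hxS⟩ := hxp.exists_le_sylow
  have hxS' : x ∈ (S : Subgroup G) := hxS (Subgroup.mem_zpowers x)
  have hSnt : Nontrivial (S : Subgroup G) := ⟨⟨⟨x, hxS'⟩, 1, fun h => hx1 (congrArg Subtype.val h)⟩⟩
  have hSH : (S : Subgroup G) ≤ H := by
    -- a nontrivial central element z of S
    have hcen : Nontrivial (Subgroup.center (S : Subgroup G)) := S.isPGroup'.center_nontrivial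
    obtain ⟨⟨z, hzc⟩, hz1⟩ := exists_ne (1 : Subgroup.center (S : Subgroup G))
    have hz1' : (z : G) ≠ 1 := fun h => hz1 (Subtype.ext (Subtype.ext h))
    have hzx : (z : G) * x = x * (z : G) := by
      have := Subgroup.mem_center_iff.mp hzc ⟨x, hxS'⟩
      exact (congrArg Subtype.val this).symm
    have hzH : (z : G) ∈ H := hC x hxH hx1 ⟨1, by rw [hxo', pow_one]⟩ z hzx
    have hzord : ∃ k : ℕ, orderOf (z : G) = p ^ k := by
      obtain ⟨k, hk⟩ := (IsPGroup.iff_orderOf.mp S.isPGroup') z
      exact ⟨k, by rw [← hk, Subgroup.orderOf_coe]⟩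
    intro s hs
    apply hC z hzH hz1' hzord s
    have := Subgroup.mem_center_iff.mp hzc ⟨s, hs⟩
    exact congrArg Subtype.val this
  -- normalizers of p-subgroups of H of order divisible by p lie in H
  have hNorm : ∀ A : Subgroup G, A ≤ H → p ∣ Nat.card A → Subgroup.normalizer (A : Set G) ≤ H := by
    intro A hAH hpA g hg
    by_contra hgH
    apply hse g hgH
    refine dvd_trans hpA (Subgroup.card_dvd_of_le ?_)
    intro a ha
    refine ⟨hAH ha, ?_⟩
    show a ∈ H.map (MulAut.conj g).toMonoidHom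
    rw [Subgroup.mem_map]
    refine ⟨g⁻¹ * a * g, hAH ((Subgroup.mem_normalizer_iff''.mp hg a).mp ha), ?_⟩
    change g * (g⁻¹ * a * g) * g⁻¹ = a
    group
  obtain ⟨P, hPS⟩ := exists_sylow_normal_le p N S
  have hPH : (P : Subgroup N).map N.subtype ≤ H := hPS.trans hSH
  have hpP : p ∣ Nat.card ((P : Subgroup N).map N.subtype) := by
    rw [Subgroup.card_subtype]
    exact P.dvd_card_of_dvd_card hN
  -- Frattini
  have hHN : H ⊔ N = ⊤ := by
    have := Sylow.normalizer_sup_eq_top P
    rw [eq_top_iff, ← this]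
    exact sup_le_sup_right (hNorm _ hPH hpP) N
  have hp : p.Prime := Fact.out
  -- K is normal in G
  have hKn : (Subgroup.closure {g : G | g ∈ N ∧ (orderOf g).Coprime p}).Normal := by
    constructor
    intro n hn g
    induction hn using Subgroup.closure_induction with
    | mem x hx =>
      apply Subgroup.subset_closure
      refine ⟨‹N.Normal›.conj_mem x hx.1 g, ?_⟩
      have : orderOf (g * x * g⁻¹) = orderOf x := by
        rw [← MulAut.conj_apply]
        exact MulEquiv.orderOf_eq (MulAut.conj g) x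
      rw [this]
      exact hx.2
    | one =>
      rw [mul_one, mul_inv_cancel]
      exact one_mem _
    | mul x y _ _ hx hy =>
      have : g * (x * y) * g⁻¹ = (g * x * g⁻¹) * (g * y * g⁻¹) := by group
      rw [this]
      exact mul_mem hx hy
    | inv x _ hx =>
      have : g * x⁻¹ * g⁻¹ = (g * x * g⁻¹)⁻¹ := by group
      rw [this]
      exact inv_mem hx
  set K : Subgroup G := Subgroup.closure {g : G | g ∈ N ∧ (orderOf g).Coprime p} with hK
  -- every element of N has a p-power power in K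
  have hpow : ∀ n ∈ N, ∃ e : ℕ, n ^ (p ^ e) ∈ K := by
    intro n hn
    obtain ⟨e, m, hm, hem⟩ :=
      Nat.exists_eq_pow_mul_and_not_dvd (orderOf_pos n).ne' p hp.ne_one
    refine ⟨e, Subgroup.subset_closure ⟨pow_mem hn _, ?_⟩⟩
    have hdvd : orderOf (n ^ (p ^ e)) ∣ m := by
      apply orderOf_dvd_of_pow_eq_one
      rw [← pow_mul, ← hem, pow_orderOf_eq_one]
    have hcop : m.Coprime p := ((Nat.Prime.coprime_iff_not_dvd hp).mpr hm).symm
    exact Nat.Coprime.coprime_dvd_left hdvd hcop
  have hπ : Function.Surjective (QuotientGroup.mk' K) := QuotientGroup.mk'_surjective K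
  have hNπ : IsPGroup p (N.map (QuotientGroup.mk' K)) := by
    rintro ⟨y, hy⟩
    obtain ⟨n, hn, rfl⟩ := Subgroup.mem_map.mp hy
    obtain ⟨e, he⟩ := hpow n hn
    refine ⟨e, ?_⟩
    apply Subtype.ext
    show (QuotientGroup.mk' K n) ^ (p ^ e) = 1
    rw [← map_pow]
    exact (QuotientGroup.eq_one_iff _).mpr he
  haveI : (N.map (QuotientGroup.mk' K)).Normal := Subgroup.Normal.map ‹N.Normal› _ hπ
  have hle : N.map (QuotientGroup.mk' K) ≤ H.map (QuotientGroup.mk' K) := by
    have h1 := hNπ.le_sylow_of_normal (S.mapSurjective hπ)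
    rw [Sylow.coe_mapSurjective] at h1
    exact h1.trans (Subgroup.map_mono hSH)
  have hNle : N ≤ H ⊔ K := by
    have h2 : N ≤ (H.map (QuotientGroup.mk' K)).comap (QuotientGroup.mk' K) :=
      (Subgroup.le_comap_map _ _).trans (Subgroup.comap_mono hle)
    rwa [Subgroup.comap_map_eq, QuotientGroup.ker_mk'] at h2
  rw [eq_top_iff, ← hHN]
  exact sup_le le_sup_left hNle

end Cfsg.Agent.S3059
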