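import Mathlib
import Cfsg.Statements.S3061
import Cfsg.Agent.Lib.Helper23.DStar

set_option autoImplicit false

namespace Cfsg.Agent.S3061

open Cfsg.Agent.Lib.Helper23

/-- Let S be a finite p-group. Then D*(S) itself belongs to the family that generates it: D*(S) is abelian, and every x ∈ S with ⟨D*(S), x⟩ of class at most two centralizes D*(S). Hence D*(S) is the unique maximal member of that family. -/
theorem result {S : Type*} [Group S] [Finite S] {p : ℕ} [Fact p.Prime] (hS : IsPGroup p S) :
    Cfsg.dStar S ∈ Cfsg.dStarFamily S := by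
  haveI : Group.IsNilpotent S := hS.isNilpotent
  obtain ⟨B, hBn, hBc, hCB⟩ := exists_self_centralizing_normal (S := S)
  haveI := hBn
  have hBc' : ∀ a ∈ B, ∀ b ∈ B, a * b = b * a := by
    intro a ha b hb
    exact congrArg Subtype.val (hBc.is_comm.comm ⟨a, ha⟩ ⟨b, hb⟩)
  have hle := dStar_le_of_self_centralizing B hBc' hCB.le
  refine ⟨⟨⟨fun a b => Subtype.ext (hBc' a (hle a.2) b (hle b.2))⟩⟩, ?_⟩
  intro x hx a ha
  have hcen : Cfsg.dStar S ≤ Subgroup.centralizer ({x} : Set S) := by
    unfold Cfsg.dStar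
    apply sSup_le
    intro A hA
    have hAle : A ≤ Cfsg.dStar S := le_sSup hA
    have hsup : A ⊔ Subgroup.zpowers x ≤ Cfsg.dStar S ⊔ Subgroup.zpowers x :=
      sup_le_sup_right hAle _
    have h2 : ⁅⁅A ⊔ Subgroup.zpowers x, A ⊔ Subgroup.zpowers x⁆, A ⊔ Subgroup.zpowers x⁆ = ⊥ := by
      rw [eq_bot_iff, ← hx]
      exact Subgroup.commutator_mono (Subgroup.commutator_mono hsup hsup) hsup
    intro a' ha'
    rw [Subgroup.mem_centralizer_iff]
    intro y hy
    rw [Set.mem_singleton_iff] at hy
    subst hy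
    exact (hA.2 y h2 a' ha').symm
  have := hcen ha
  rw [Subgroup.mem_centralizer_iff] at this
  exact (this x rfl).symm

end Cfsg.Agent.S3061
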