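import Mathlib
import Cfsg.Statements.S3062
import Cfsg.Agent.S3061
import Cfsg.Agent.S3006
import Cfsg.Agent.Lib.Helper23.ThompsonReplacement

set_option autoImplicit false

namespace Cfsg.Agent.S3062

open Cfsg.Agent.Lib.Helper23
open scoped commutatorElement

/-- the family defining `D*` is invariant under conjugation -/
theorem dStarFamily_conj {S : Type*} [Group S] {A : Subgroup S} (hA : A ∈ Cfsg.dStarFamily S) (g : S) :
    A.map (MulAut.conj g).toMonoidHom ∈ Cfsg.dStarFamily S := by
  obtain ⟨hAc, hAf⟩ := hA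
  refine ⟨inferInstance, ?_⟩
  intro x hx a' ha'
  obtain ⟨a, ha, rfl⟩ := ha'
  -- transport the class two condition by conjugation with g⁻¹
  have hmap : (A.map (MulAut.conj g).toMonoidHom ⊔ Subgroup.zpowers x).map (MulAut.conj g⁻¹).toMonoidHom =
      A ⊔ Subgroup.zpowers (g⁻¹ * x * g) := by
    rw [Subgroup.map_sup, Subgroup.map_map, MonoidHom.map_zpowers]
    congr 1
    · have : (MulAut.conj g⁻¹).toMonoidHom.comp (MulAut.conj g).toMonoidHom = MonoidHom.id S := by
        ext y; simp [mul_assoc]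
      rw [this, Subgroup.map_id]
    · congr 1
      simp [MulAut.conj_apply]
  have h2 : ⁅⁅A ⊔ Subgroup.zpowers (g⁻¹ * x * g), A ⊔ Subgroup.zpowers (g⁻¹ * x * g)⁆,
      A ⊔ Subgroup.zpowers (g⁻¹ * x * g)⁆ = ⊥ := by
    rw [← hmap, ← Subgroup.map_commutator, ← Subgroup.map_commutator, hx, Subgroup.map_bot]
  have h3 := hAf (g⁻¹ * x * g) h2 a ha
  simp only [MulEquiv.coe_toMonoidHom, MulAut.conj_apply]
  calc g * a * g⁻¹ * x = g * (a * (g⁻¹ * x * g)) * g⁻¹ := by group
    _ = g * ((g⁻¹ * x * g) * a) * g⁻¹ := by rw [h3]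
    _ = x * (g * a * g⁻¹) := by group

theorem dStar_normal (S : Type*) [Group S] : (Cfsg.dStar S).Normal := by
  constructor
  intro d hd g
  unfold Cfsg.dStar at hd ⊢
  rw [sSup_eq_iSup', Subgroup.iSup_eq_closure] at hd ⊢
  induction hd using Subgroup.closure_induction with
  | mem y hy =>
    obtain ⟨⟨A, hA⟩, hy⟩ := Set.mem_iUnion.1 hy
    apply Subgroup.subset_closure
    refine Set.mem_iUnion.2 ⟨⟨A.map (MulAut.conj g).toMonoidHom, dStarFamily_conj hA g⟩, ?_⟩
    exact ⟨y, hy, by simp [MulAut.conj_apply]⟩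
  | one => simp
  | mul y z _ _ hy hz =>
    have : g * (y * z) * g⁻¹ = (g * y * g⁻¹) * (g * z * g⁻¹) := by group
    rw [this]; exact Subgroup.mul_mem _ hy hz
  | inv y _ hy =>
    have : g * y⁻¹ * g⁻¹ = (g * y * g⁻¹)⁻¹ := by group
    rw [this]; exact Subgroup.inv_mem _ hy

/-- Let S be a finite p-group, J(S) the subgroup generated by the abelian subgroups of S of largest order and Z(J(S)) its centre. Then Z(S) ≤ D*(S) ≤ Z(J(S)), and every maximal normal abelian subgroup of S contains D*(S). -/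
theorem result {S : Type*} [Group S] [Finite S] {p : ℕ} [Fact p.Prime]
    (hS : IsPGroup p S) :
    Subgroup.center S ≤ Cfsg.dStar S ∧
    Cfsg.dStar S ≤ Cfsg.thompsonSubgroupA S ⊓ Subgroup.centralizer (Cfsg.thompsonSubgroupA S : Set S) ∧
    ∀ A : Subgroup S, A.Normal → IsMulCommutative A →
      (∀ B : Subgroup S, B.Normal → IsMulCommutative B → A ≤ B → B = A) → Cfsg.dStar S ≤ A := by
  classical
  haveI : Group.IsNilpotent S := hS.isNilpotent
  refine ⟨?_, ?_, ?_⟩
  · -- centre
    apply le_sSup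
    refine ⟨inferInstance, ?_⟩
    intro x _ a ha
    exact (Subgroup.mem_center_iff.1 ha x).symm
  · -- D* ≤ Z(J(S))
    have hDfam := Cfsg.Agent.S3061.result hS
    haveI hDn : (Cfsg.dStar S).Normal := dStar_normal S
    obtain ⟨D, hD⟩ : ∃ D : Subgroup S, D = Cfsg.dStar S := ⟨_, rfl⟩
    rw [← hD] at hDfam hDn ⊢
    have hDc : ∀ a ∈ D, ∀ b ∈ D, a * b = b * a := by
      intro a ha b hb
      exact congrArg Subtype.val (hDfam.1.is_comm.comm ⟨a, ha⟩ ⟨b, hb⟩)
    -- sub-claim: if D normalizes E then D ≤ E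
    have hX : ∀ E ∈ Cfsg.maxAbelianSubgroups S, D ≤ Subgroup.normalizer (E : Set S) → D ≤ E := by
      intro E hE hDE
      have hEc : ∀ a ∈ E, ∀ b ∈ E, a * b = b * a := by
        intro a ha b hb
        exact congrArg Subtype.val (hE.1.is_comm.comm ⟨a, ha⟩ ⟨b, hb⟩)
      rw [← Cfsg.Agent.S3006.centralizer_eq_of_maxAbelian E hE]
      intro d hd
      rw [Subgroup.mem_centralizer_iff]
      intro e he
      have hcl : ⁅⁅D ⊔ Subgroup.zpowers e, D ⊔ Subgroup.zpowers e⁆, D ⊔ Subgroup.zpowers e⁆ = ⊥ := by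
        apply class_two_of_sup_zpowers D hDc e (D ⊓ E)
        · intro c hc a ha
          exact hDc c hc.1 a ha
        · intro c hc
          exact hEc c hc.2 e he
        · intro a ha k
          have hek : e ^ k ∈ E := E.zpow_mem he k
          constructor
          · rw [commutatorElement_def]
            have : a * e ^ k * a⁻¹ * (e ^ k)⁻¹ = a * (e ^ k * a⁻¹ * (e ^ k)⁻¹) := by group
            rw [this]
            exact D.mul_mem ha (hDn.conj_mem _ (D.inv_mem ha) _)
          · rw [commutatorElement_def]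
            have h1 := (Subgroup.mem_normalizer_iff.1 (hDE ha) (e ^ k)).1 hek
            exact E.mul_mem h1 (E.inv_mem hek)
      exact (hDfam.2 e hcl d hd).symm
    -- main claim
    have hmain : ∀ E ∈ Cfsg.maxAbelianSubgroups S, D ≤ E := by
      by_contra hcon
      push Not at hcon
      let T : Set (Subgroup S) := {E | E ∈ Cfsg.maxAbelianSubgroups S ∧ ¬ D ≤ E}
      have hTne : T.Nonempty := by
        obtain ⟨E, hE, hDE⟩ := hcon
        exact ⟨E, hE, hDE⟩
      obtain ⟨E₀, hE₀T, hE₀max⟩ := Set.exists_max_image T (fun E => Nat.card ↥(E ⊓ D))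
        (Set.toFinite T) hTne
      obtain ⟨hE₀, hDE₀⟩ := hE₀T
      have hnn : ¬ D ≤ Subgroup.normalizer (E₀ : Set S) := fun h => hDE₀ (hX E₀ hE₀ h)
      obtain ⟨E', hE', hlt, hE'N⟩ := thompson_replacement E₀ D hE₀ hDc hnn
      have hcardlt : Nat.card ↥(E₀ ⊓ D) < Nat.card ↥(E' ⊓ D) := by
        by_contra hge
        push Not at hge
        have := Subgroup.eq_of_le_of_card_ge hlt.le hge
        exact hlt.ne this
      have hE'T : E' ∉ T := by
        intro h
        have := hE₀max E' h
        omega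
      have hDE' : D ≤ E' := by
        by_contra h
        exact hE'T ⟨hE', h⟩
      exact hnn (hDE'.trans hE'N)
    -- existence of an abelian subgroup of maximal order
    have hex : ∃ E, E ∈ Cfsg.maxAbelianSubgroups S := by
      let T : Set (Subgroup S) := {E | IsMulCommutative E}
      have hTne : T.Nonempty := ⟨⊥, (inferInstance : IsMulCommutative (⊥ : Subgroup S))⟩
      obtain ⟨E, hET, hEmax⟩ := Set.exists_max_image T (fun E => Nat.card E) (Set.toFinite T) hTne
      exact ⟨E, hET, fun B hB => hEmax B hB⟩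
    obtain ⟨E₁, hE₁⟩ := hex
    apply le_inf
    · exact (hmain E₁ hE₁).trans (le_sSup hE₁)
    · intro d hd
      rw [Subgroup.mem_centralizer_iff]
      intro j hj
      have hle : Cfsg.thompsonSubgroupA S ≤ Subgroup.centralizer ({d} : Set S) := by
        apply sSup_le
        intro E hE e he
        rw [Subgroup.mem_centralizer_iff]
        intro w hw
        rw [Set.mem_singleton_iff] at hw
        subst hw
        exact congrArg Subtype.val (hE.1.is_comm.comm ⟨w, hmain E hE hd⟩ ⟨e, he⟩)
      have := hle hj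
      rw [Subgroup.mem_centralizer_iff] at this
      exact (this d rfl).symm
  · intro A hAn hAc hAmax
    haveI := hAn
    haveI := hAc
    have hCA := Cfsg.Agent.S0015.result A hAmax
    apply dStar_le_of_self_centralizing A _ hCA.le
    intro a ha b hb
    exact congrArg Subtype.val (hAc.is_comm.comm ⟨a, ha⟩ ⟨b, hb⟩)

end Cfsg.Agent.S3062
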