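import Mathlib
import Cfsg.Statements.S3060
import Cfsg.Agent.S3061
import Cfsg.Agent.S3062
import Cfsg.Agent.Lib.Helper23.DStar
import Cfsg.Agent.Lib.Helper16.PCore

set_option autoImplicit false
open Cfsg

namespace Cfsg.Agent.S3060

open Cfsg.Agent.Lib.Helper23 Cfsg.Agent.Lib.Helper16
open scoped commutatorElement

variable {G : Type*} [Group G]

/-- transfer of the family property to the ambient group -/
theorem famG (Sg : Subgroup G) (hfam : Cfsg.dStar ↥Sg ∈ Cfsg.dStarFamily ↥Sg) :
    ∀ x ∈ Sg, ⁅⁅Cfsg.dStarOf Sg ⊔ Subgroup.zpowers x, Cfsg.dStarOf Sg ⊔ Subgroup.zpowers x⁆,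
      Cfsg.dStarOf Sg ⊔ Subgroup.zpowers x⁆ = ⊥ → ∀ a ∈ Cfsg.dStarOf Sg, a * x = x * a := by
  intro x hx h a ha
  obtain ⟨a', ha', rfl⟩ := ha
  have hmap : (Cfsg.dStar ↥Sg ⊔ Subgroup.zpowers (⟨x, hx⟩ : ↥Sg)).map Sg.subtype =
      Cfsg.dStarOf Sg ⊔ Subgroup.zpowers x := by
    rw [Subgroup.map_sup, MonoidHom.map_zpowers]
    rfl
  have h2 : ⁅⁅Cfsg.dStar ↥Sg ⊔ Subgroup.zpowers (⟨x, hx⟩ : ↥Sg),
      Cfsg.dStar ↥Sg ⊔ Subgroup.zpowers (⟨x, hx⟩ : ↥Sg)⁆,
      Cfsg.dStar ↥Sg ⊔ Subgroup.zpowers (⟨x, hx⟩ : ↥Sg)⁆ = ⊥ := by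
    apply (Subgroup.map_eq_bot_iff_of_injective _ Sg.subtype_injective).mp
    rw [Subgroup.map_commutator, Subgroup.map_commutator, hmap]
    exact h
  have h3 := hfam.2 ⟨x, hx⟩ h2 a' ha'
  exact congrArg Subtype.val h3

theorem dStarOf_le (Sg : Subgroup G) : Cfsg.dStarOf Sg ≤ Sg := by
  rintro _ ⟨a, _, rfl⟩
  exact a.2

theorem dStarOf_comm (Sg : Subgroup G) (hfam : Cfsg.dStar ↥Sg ∈ Cfsg.dStarFamily ↥Sg) :
    ∀ a ∈ Cfsg.dStarOf Sg, ∀ b ∈ Cfsg.dStarOf Sg, a * b = b * a := by
  rintro _ ⟨a, ha, rfl⟩ _ ⟨b, hb, rfl⟩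
  have := hfam.1.is_comm.comm ⟨a, ha⟩ ⟨b, hb⟩
  exact congrArg (fun z => ((z : ↥Sg) : G)) (congrArg Subtype.val this)

theorem dStarOf_normalized (Sg : Subgroup G) (hn : (Cfsg.dStar ↥Sg).Normal) :
    ∀ s ∈ Sg, ∀ a ∈ Cfsg.dStarOf Sg, s * a * s⁻¹ ∈ Cfsg.dStarOf Sg := by
  rintro s hs _ ⟨a, ha, rfl⟩
  exact ⟨⟨s, hs⟩ * a * ⟨s, hs⟩⁻¹, hn.conj_mem a ha ⟨s, hs⟩, rfl⟩

theorem main [Finite G] {p : ℕ} [Fact p.Prime]
    (hc : Subgroup.centralizer (Cfsg.pCore p G : Set G) ≤ Cfsg.pCore p G)
    (hst : ∀ (P : Subgroup G) [P.Normal], IsPGroup p P → Cfsg.IsPStableOn p P) (S : Sylow p G)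
    (hfam : Cfsg.dStar ↥(S : Subgroup G) ∈ Cfsg.dStarFamily ↥(S : Subgroup G))
    (hDn' : (Cfsg.dStar ↥(S : Subgroup G)).Normal) :
    (Cfsg.dStarOf (S : Subgroup G)).Normal := by
  classical
  set Sg : Subgroup G := (S : Subgroup G) with hSg
  set D : Subgroup G := Cfsg.dStarOf Sg with hD
  set Q : Subgroup G := Cfsg.pCore p G with hQ
  haveI hQn : Q.Normal := pCore_normal p G
  have hQp : IsPGroup p Q := pCore_isPGroup p G
  have hQS : Q ≤ Sg := pCore_le_sylow S
  have hDS : D ≤ Sg := dStarOf_le Sg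
  have hDc := dStarOf_comm Sg hfam
  have hDnorm := dStarOf_normalized Sg hDn'
  have hP := famG Sg hfam
  -- p-stability sends elements to the Sylow subgroup modulo the centralizer
  have hkey : ∀ (V : Subgroup G) [V.Normal], IsPGroup p V → ∀ x : G,
      ⁅⁅V, Subgroup.zpowers x⁆, Subgroup.zpowers x⁆ = ⊥ →
      ∀ g : G, ∃ c ∈ Subgroup.centralizer (V : Set G), ∃ s ∈ Sg, g * x * g⁻¹ = c * s := by
    intro V _ hVp x hx g
    have h1 := hst V hVp x hx
    haveI : (Cfsg.pCore p (G ⧸ Subgroup.centralizer (V : Set G))).Normal := pCore_normal _ _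
    have h2 : (QuotientGroup.mk (g * x * g⁻¹) : G ⧸ Subgroup.centralizer (V : Set G)) ∈
        Cfsg.pCore p (G ⧸ Subgroup.centralizer (V : Set G)) := by
      have := (inferInstance : (Cfsg.pCore p (G ⧸ Subgroup.centralizer (V : Set G))).Normal).conj_mem _ h1
        (QuotientGroup.mk g)
      simpa using this
    have hsurj : Function.Surjective (QuotientGroup.mk' (Subgroup.centralizer (V : Set G))) :=
      QuotientGroup.mk'_surjective _
    have h3 := pCore_le_sylow (S.mapSurjective hsurj) h2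
    rw [Sylow.coe_mapSurjective] at h3
    obtain ⟨s, hs, hs'⟩ := h3
    refine ⟨g * x * g⁻¹ * s⁻¹, ?_, s, hs, by group⟩
    have : (QuotientGroup.mk (g * x * g⁻¹ * s⁻¹) : G ⧸ Subgroup.centralizer (V : Set G)) = 1 := by
      rw [QuotientGroup.mk_mul, QuotientGroup.mk_inv]
      have : (QuotientGroup.mk s : G ⧸ Subgroup.centralizer (V : Set G)) =
          QuotientGroup.mk (g * x * g⁻¹) := hs'
      rw [this, mul_inv_cancel]
    exact (QuotientGroup.eq_one_iff _).mp this
  -- Step 2 : D ≤ Q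
  have hDQ : D ≤ Q := by
    intro a ha
    have hquad : ⁅⁅Q, Subgroup.zpowers a⁆, Subgroup.zpowers a⁆ = ⊥ := by
      rw [eq_bot_iff]
      have hza : Subgroup.zpowers a ≤ D := (Subgroup.zpowers_le).mpr ha
      have h1 : ⁅Q, Subgroup.zpowers a⁆ ≤ D := by
        rw [Subgroup.commutator_le]
        intro q hq b hb
        have hbD : b ∈ D := hza hb
        have : ⁅q, b⁆ = (q * b * q⁻¹) * b⁻¹ := by
          simp [commutatorElement_def]
        rw [this]
        exact D.mul_mem (hDnorm q (hQS hq) b hbD) (D.inv_mem hbD)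
      calc ⁅⁅Q, Subgroup.zpowers a⁆, Subgroup.zpowers a⁆ ≤ ⁅D, D⁆ := Subgroup.commutator_mono h1 hza
        _ ≤ ⊥ := by
          rw [Subgroup.commutator_le]
          intro u hu v hv
          rw [Subgroup.mem_bot, commutatorElement_eq_one_iff_mul_comm]
          exact hDc u hu v hv
    obtain ⟨c, hcC, s, hs, hcs⟩ := hkey Q hQp a hquad 1
    -- use the normal p-subgroup N = preimage of pCore (G/C)
    have h1 := hst Q hQp a hquad
    set N : Subgroup G := (Cfsg.pCore p (G ⧸ Subgroup.centralizer (Q : Set G))).comap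
      (QuotientGroup.mk' (Subgroup.centralizer (Q : Set G))) with hN
    haveI : (Cfsg.pCore p (G ⧸ Subgroup.centralizer (Q : Set G))).Normal := pCore_normal _ _
    have hNn : N.Normal := Subgroup.Normal.comap inferInstance _
    have hNp : IsPGroup p N := by
      apply IsPGroup.comap_of_ker_isPGroup
      · exact pCore_isPGroup p _
      · rw [QuotientGroup.ker_mk']
        exact hQp.to_le hc
    exact le_pCore hNn hNp h1
  -- Step 3 : conjugates of D commute
  have hstep3 : ∀ g : G, ∀ a ∈ D, ∀ b ∈ D, a * (g * b * g⁻¹) = (g * b * g⁻¹) * a := by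
    intro g a ha b hb
    set y := g * b * g⁻¹ with hy
    have hyQ : y ∈ Q := hQn.conj_mem b (hDQ hb) g
    have hyS : y ∈ Sg := hQS hyQ
    set Dg : Subgroup G := D.map (MulAut.conj g).toMonoidHom with hDg
    have hyDg : y ∈ Dg := ⟨b, hb, by simp [MulAut.conj_apply, hy]⟩
    have hDgc : ∀ u ∈ Dg, ∀ v ∈ Dg, u * v = v * u := by
      rintro _ ⟨u, hu, rfl⟩ _ ⟨v, hv, rfl⟩
      simp only [MulEquiv.coe_toMonoidHom, MulAut.conj_apply]
      have := hDc u hu v hv
      calc g * u * g⁻¹ * (g * v * g⁻¹) = g * (u * v) * g⁻¹ := by group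
        _ = g * (v * u) * g⁻¹ := by rw [this]
        _ = g * v * g⁻¹ * (g * u * g⁻¹) := by group
    -- Dg is normalized by Q
    have hDgnorm : ∀ q ∈ Q, ∀ u ∈ Dg, q * u * q⁻¹ ∈ Dg := by
      rintro q hq _ ⟨u, hu, rfl⟩
      simp only [MulEquiv.coe_toMonoidHom, MulAut.conj_apply]
      have hq' : g⁻¹ * q * g ∈ Q := by
        have := hQn.conj_mem q hq g⁻¹
        simpa using this
      refine ⟨(g⁻¹ * q * g) * u * (g⁻¹ * q * g)⁻¹, hDnorm _ (hQS hq') u hu, ?_⟩
      simp only [MulEquiv.coe_toMonoidHom, MulAut.conj_apply]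
      group
    have hcl : ⁅⁅D ⊔ Subgroup.zpowers y, D ⊔ Subgroup.zpowers y⁆, D ⊔ Subgroup.zpowers y⁆ = ⊥ := by
      apply class_two_of_sup_zpowers D hDc y (D ⊓ Dg)
      · intro c hc a' ha'
        exact hDc c hc.1 a' ha'
      · intro c hc
        exact hDgc c hc.2 y hyDg
      · intro a' ha' k
        have hyk : y ^ k ∈ Dg := Dg.zpow_mem hyDg k
        have hykS : y ^ k ∈ Sg := Sg.zpow_mem hyS k
        refine ⟨?_, ?_⟩
        · have : ⁅a', y ^ k⁆ = a' * (y ^ k * a'⁻¹ * (y ^ k)⁻¹) := by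
            simp [commutatorElement_def, mul_assoc]
          rw [this]
          exact D.mul_mem ha' (hDnorm _ hykS _ (D.inv_mem ha'))
        · have : ⁅a', y ^ k⁆ = (a' * y ^ k * a'⁻¹) * (y ^ k)⁻¹ := by
            simp [commutatorElement_def]
          rw [this]
          exact Dg.mul_mem (hDgnorm a' (hDQ ha') _ hyk) (Dg.inv_mem hyk)
    exact hP y hyS hcl a ha
  -- V = normal closure of D
  set V : Subgroup G := Subgroup.normalClosure (D : Set G) with hV
  haveI hVn : V.Normal := Subgroup.normalClosure_normal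
  have hDV : D ≤ V := Subgroup.subset_normalClosure
  have hVQ : V ≤ Q := Subgroup.normalClosure_le_normal hDQ
  have hVp : IsPGroup p V := hQp.to_le hVQ
  have hVS : V ≤ Sg := hVQ.trans hQS
  -- generation statement
  have hVgen : ∀ (T : Subgroup G), (∀ g : G, ∀ b ∈ D, g * b * g⁻¹ ∈ T) → V ≤ T := by
    intro T hT
    rw [hV, Subgroup.normalClosure]
    rw [Subgroup.closure_le]
    intro z hz
    rw [Group.mem_conjugatesOfSet_iff] at hz
    obtain ⟨b, hb, hbz⟩ := hz
    obtain ⟨g, hg⟩ := isConj_iff.mp hbz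
    rw [← hg]
    exact hT g b hb
  -- V is abelian
  have hVc : ∀ u ∈ V, ∀ v ∈ V, u * v = v * u := by
    have h1 : ∀ g : G, ∀ b ∈ D, V ≤ Subgroup.centralizer ({g * b * g⁻¹} : Set G) := by
      intro g b hb
      apply hVgen
      intro h b' hb'
      rw [Subgroup.mem_centralizer_iff]
      intro z hz
      rw [Set.mem_singleton_iff] at hz
      subst hz
      -- (g b g⁻¹) commutes with (h b' h⁻¹)
      have := hstep3 (g⁻¹ * h) b hb b' hb'
      calc g * b * g⁻¹ * (h * b' * h⁻¹) = g * (b * ((g⁻¹ * h) * b' * (g⁻¹ * h)⁻¹)) * g⁻¹ := by group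
        _ = g * (((g⁻¹ * h) * b' * (g⁻¹ * h)⁻¹) * b) * g⁻¹ := by rw [this]
        _ = h * b' * h⁻¹ * (g * b * g⁻¹) := by group
    intro u hu v hv
    have h2 : V ≤ Subgroup.centralizer ({v} : Set G) := by
      apply hVgen
      intro g b hb
      rw [Subgroup.mem_centralizer_iff]
      intro z hz
      rw [Set.mem_singleton_iff] at hz
      subst hz
      have := h1 g b hb hv
      rw [Subgroup.mem_centralizer_iff] at this
      exact (this _ rfl).symm
    have := h2 hu
    rw [Subgroup.mem_centralizer_iff] at this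
    exact (this v rfl).symm
  -- Step 4 : V.subgroupOf Sg is in the family
  have hVfam : V.subgroupOf Sg ∈ Cfsg.dStarFamily ↥Sg := by
    refine ⟨⟨⟨fun a b => Subtype.ext (Subtype.ext (hVc a.1.1 a.2 b.1.1 b.2))⟩⟩, ?_⟩
    intro x hx a ha
    -- quadratic action of x on V in G
    have hquad : ⁅⁅V, Subgroup.zpowers (x : G)⁆, Subgroup.zpowers (x : G)⁆ = ⊥ := by
      have h1 : ⁅⁅V.subgroupOf Sg, Subgroup.zpowers x⁆, Subgroup.zpowers x⁆ = ⊥ := by
        rw [eq_bot_iff, ← hx]
        exact Subgroup.commutator_mono (Subgroup.commutator_mono le_sup_left le_sup_right) le_sup_right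
      have h2 := congrArg (Subgroup.map Sg.subtype) h1
      rw [Subgroup.map_commutator, Subgroup.map_commutator, MonoidHom.map_zpowers,
        Subgroup.subgroupOf_map_subtype, Subgroup.map_bot, inf_eq_left.mpr hVS] at h2
      exact h2
    -- x centralizes every conjugate of D
    have hxcent : V ≤ Subgroup.centralizer ({(x : G)} : Set G) := by
      apply hVgen
      intro g b hb
      -- x' = g⁻¹ x g = c * s
      obtain ⟨c, hcC, s, hs, hcs⟩ := hkey V hVp (x : G) hquad g⁻¹
      rw [inv_inv] at hcs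
      set x' := g⁻¹ * (x : G) * g with hx'
      have hquad' : ⁅⁅V, Subgroup.zpowers x'⁆, Subgroup.zpowers x'⁆ = ⊥ := by
        have h2 := congrArg (Subgroup.map (MulAut.conj g⁻¹).toMonoidHom) hquad
        rw [Subgroup.map_commutator, Subgroup.map_commutator, MonoidHom.map_zpowers,
          Subgroup.map_bot] at h2
        have hVmap : V.map (MulAut.conj g⁻¹).toMonoidHom = V := by
          apply le_antisymm
          · rintro _ ⟨v, hv, rfl⟩
            exact hVn.conj_mem v hv g⁻¹
          · intro v hv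
            refine ⟨g * v * g⁻¹, hVn.conj_mem v hv g, ?_⟩
            simp [MulAut.conj_apply, mul_assoc]
          
        rw [hVmap] at h2
        have : (MulAut.conj g⁻¹).toMonoidHom (x : G) = x' := by
          simp [MulAut.conj_apply, hx']
        rw [this] at h2
        exact h2
      -- powers of s agree with powers of x' modulo the centralizer
      have hcinv : ∀ v ∈ V, ∀ z ∈ Subgroup.centralizer (V : Set G), z * v = v * z := by
        intro v hv z hz
        rw [Subgroup.mem_centralizer_iff] at hz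
        exact (hz v hv).symm
      have hCn : (Subgroup.centralizer (V : Set G)).Normal := Subgroup.normal_centralizer
      have hspow : ∀ k : ℤ, ∃ z ∈ Subgroup.centralizer (V : Set G), s ^ k = x' ^ k * z := by
        intro k
        refine ⟨(x' ^ k)⁻¹ * s ^ k, ?_, by group⟩
        have h1 : (QuotientGroup.mk s : G ⧸ Subgroup.centralizer (V : Set G)) = QuotientGroup.mk x' := by
          rw [hcs, QuotientGroup.mk_mul, (QuotientGroup.eq_one_iff c).mpr hcC, one_mul]
        have h2 : (QuotientGroup.mk ((x' ^ k)⁻¹ * s ^ k) : G ⧸ Subgroup.centralizer (V : Set G)) = 1 := by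
          rw [QuotientGroup.mk_mul, QuotientGroup.mk_inv, QuotientGroup.mk_zpow, QuotientGroup.mk_zpow,
            h1, inv_mul_cancel]
        exact (QuotientGroup.eq_one_iff _).mp h2
      have hcomm_eq : ∀ a' ∈ D, ∀ k : ℤ, ⁅a', s ^ k⁆ = ⁅a', x' ^ k⁆ := by
        intro a' ha' k
        obtain ⟨z, hz, hzk⟩ := hspow k
        have hzc : z * a'⁻¹ = a'⁻¹ * z := hcinv _ (V.inv_mem (hDV ha')) z hz
        rw [hzk]
        simp only [commutatorElement_def]
        calc a' * (x' ^ k * z) * a'⁻¹ * (x' ^ k * z)⁻¹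
            = a' * x' ^ k * (z * a'⁻¹) * z⁻¹ * (x' ^ k)⁻¹ := by group
          _ = a' * x' ^ k * (a'⁻¹ * z) * z⁻¹ * (x' ^ k)⁻¹ := by rw [hzc]
          _ = a' * x' ^ k * a'⁻¹ * (x' ^ k)⁻¹ := by group
      set C₀ : Subgroup G := ⁅V, Subgroup.zpowers x'⁆ with hC₀
      have hC₀V : C₀ ≤ V := by
        rw [hC₀]
        exact Subgroup.commutator_le_left V _
      have hC₀x : ∀ w ∈ C₀, ∀ k : ℤ, w * x' ^ k = x' ^ k * w := by
        intro w hw k
        have : ⁅w, x' ^ k⁆ ∈ ⁅C₀, Subgroup.zpowers x'⁆ :=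
          Subgroup.commutator_mem_commutator hw (Subgroup.zpow_mem_zpowers x' k)
        rw [hC₀, hquad', Subgroup.mem_bot, commutatorElement_eq_one_iff_mul_comm] at this
        exact this
      have hcl : ⁅⁅D ⊔ Subgroup.zpowers s, D ⊔ Subgroup.zpowers s⁆, D ⊔ Subgroup.zpowers s⁆ = ⊥ := by
        apply class_two_of_sup_zpowers D hDc s C₀
        · intro w hw a' ha'
          exact hVc w (hC₀V hw) a' (hDV ha')
        · intro w hw
          obtain ⟨z, hz, hz1⟩ := hspow 1
          rw [zpow_one, zpow_one] at hz1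
          rw [hz1]
          have h1 := hC₀x w hw 1
          rw [zpow_one] at h1
          have h2 : z * w = w * z := hcinv w (hC₀V hw) z hz
          calc w * (x' * z) = (w * x') * z := by group
            _ = (x' * w) * z := by rw [h1]
            _ = x' * (w * z) := by group
            _ = x' * (z * w) := by rw [h2]
            _ = x' * z * w := by group
        · intro a' ha' k
          rw [hcomm_eq a' ha' k]
          exact Subgroup.commutator_mem_commutator (hDV ha') (Subgroup.zpow_mem_zpowers x' k)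
      have hs_cent := hP s hs hcl
      -- now b commutes with x' = c * s
      have hbx' : b * x' = x' * b := by
        have h1 := hs_cent b hb
        have h2 : c * b = b * c := hcinv b (hDV hb) c hcC
        rw [hcs]
        calc b * (c * s) = (b * c) * s := by group
          _ = (c * b) * s := by rw [h2]
          _ = c * (b * s) := by group
          _ = c * (s * b) := by rw [h1]
          _ = c * s * b := by group
      rw [Subgroup.mem_centralizer_iff]
      intro z hz
      rw [Set.mem_singleton_iff] at hz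
      subst hz
      calc (x : G) * (g * b * g⁻¹) = g * (x' * b) * g⁻¹ := by rw [hx']; group
        _ = g * (b * x') * g⁻¹ := by rw [hbx']
        _ = g * b * g⁻¹ * (x : G) := by rw [hx']; group
    have haV : (a : G) ∈ V := ha
    have := hxcent haV
    rw [Subgroup.mem_centralizer_iff] at this
    exact Subtype.ext (this _ rfl).symm
  -- conclusion
  have hle : V.subgroupOf Sg ≤ Cfsg.dStar ↥Sg := le_sSup hVfam
  have hVD : V ≤ D := by
    intro v hv
    exact ⟨⟨v, hVS hv⟩, hle (Subgroup.mem_subgroupOf.mpr hv), rfl⟩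
  have hDV' : D = V := le_antisymm hDV hVD
  rw [hDV']
  exact hVn

/-- The D*-Theorem. For a finite p-group S let D*(S) be the subgroup generated by the abelian subgroups A of S such that every x ∈ S with ⟨A, x⟩ of nilpotency class at most two centralizes A. Let p be an odd prime and H a finite p-stable group with Sylow p-subgroup S. Here H is p-stable in the following sense: the largest normal p-subgroup O_p(H) contains its centralizer in H, and for every normal p-subgroup P of H, every element acting quadratically on P has image in O_p(H/C_H(P)). Then D*(S) is a normal subgroup of H. -/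
theorem result {G : Type*} [Group G] [Finite G] {p : ℕ} [Fact p.Prime] (hp : p ≠ 2)
    (hc : Subgroup.centralizer (Cfsg.pCore p G : Set G) ≤ Cfsg.pCore p G)
    (hst : ∀ (P : Subgroup G) [P.Normal], IsPGroup p P → Cfsg.IsPStableOn p P) (S : Sylow p G) :
    (Cfsg.dStarOf (S : Subgroup G)).Normal := by
  classical
  have hSp : IsPGroup p ↥(S : Subgroup G) := S.isPGroup'
  have hfam := Cfsg.Agent.S3061.result hSp
  have hDn' : (Cfsg.dStar ↥(S : Subgroup G)).Normal := Cfsg.Agent.S3062.dStar_normal _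
  exact main hc hst S hfam hDn'

end Cfsg.Agent.S3060
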