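import Cfsg.Statements.S3063
import Mathlib

set_option autoImplicit false
open Cfsg

namespace Cfsg.Agent.S3063

open Subgroup
open scoped commutatorElement

section
variable {G : Type*} [Group G]

theorem card_mul_relIndex' [Finite G] {K L : Subgroup G} (h : K ≤ L) :
    Nat.card K * K.relIndex L = Nat.card L := by
  have := Subgroup.relIndex_mul_relIndex (⊥ : Subgroup G) K L bot_le h
  rwa [Subgroup.relIndex_bot_left, Subgroup.relIndex_bot_left] at this

theorem card_sup_mul_card_inf' [Finite G] (H N : Subgroup G) (hLE : H ≤ normalizer (N : Set G)) :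
    Nat.card (H ⊔ N : Subgroup G) * Nat.card (H ⊓ N : Subgroup G) = Nat.card H * Nat.card N := by
  have h1 : N.relIndex H = N.relIndex (H ⊔ N) := by
    letI := Subgroup.normal_subgroupOf_of_le_normalizer hLE
    letI := Subgroup.normal_subgroupOf_sup_of_le_normalizer hLE
    exact Nat.card_congr (QuotientGroup.quotientInfEquivProdNormalizerQuotient H N hLE).toEquiv
  have h2 := card_mul_relIndex' (inf_le_left : H ⊓ N ≤ H)
  have h3 := card_mul_relIndex' (le_sup_right : N ≤ H ⊔ N)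
  rw [Subgroup.inf_relIndex_left] at h2
  rw [← h3, ← h2, h1]
  ring

theorem comm_sup' {H K : Subgroup G} (hH : ∀ a ∈ H, ∀ b ∈ H, a * b = b * a)
    (hK : ∀ a ∈ K, ∀ b ∈ K, a * b = b * a) (hHK : ∀ a ∈ H, ∀ b ∈ K, a * b = b * a) :
    ∀ a ∈ H ⊔ K, ∀ b ∈ H ⊔ K, a * b = b * a := by
  have key : ∀ b ∈ H ⊔ K, (∀ a ∈ H, a * b = b * a) ∧ (∀ a ∈ K, a * b = b * a) := by
    intro b hb
    have hle : H ⊔ K ≤ (centralizer (H : Set G)) ⊓ (centralizer (K : Set G)) := by
      refine sup_le ?_ ?_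
      · intro x hx
        exact ⟨mem_centralizer_iff.2 (fun h hh => hH h hh x hx),
          mem_centralizer_iff.2 (fun k hk => (hHK x hx k hk).symm)⟩
      · intro x hx
        exact ⟨mem_centralizer_iff.2 (fun h hh => hHK h hh x hx),
          mem_centralizer_iff.2 (fun k hk => hK k hk x hx)⟩
    obtain ⟨h1, h2⟩ := hle hb
    exact ⟨fun a ha => mem_centralizer_iff.1 h1 a ha, fun a ha => mem_centralizer_iff.1 h2 a ha⟩
  intro a ha b hb
  have hle : H ⊔ K ≤ centralizer ({b} : Set G) := by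
    refine sup_le ?_ ?_
    · intro x hx
      exact mem_centralizer_iff.2 (fun y hy => by
        rw [Set.mem_singleton_iff.1 hy]; exact ((key b hb).1 x hx).symm)
    · intro x hx
      exact mem_centralizer_iff.2 (fun y hy => by
        rw [Set.mem_singleton_iff.1 hy]; exact ((key b hb).2 x hx).symm)
  exact (mem_centralizer_iff.1 (hle ha) b rfl).symm

theorem le_normalizer_inf_normal (D M : Subgroup G) [hMn : M.Normal] :
    D ≤ normalizer ((D ⊓ M : Subgroup G) : Set G) := by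
  intro g hg
  rw [mem_normalizer_iff]
  intro h
  constructor
  · intro hh
    exact ⟨D.mul_mem (D.mul_mem hg hh.1) (D.inv_mem hg), hMn.conj_mem h hh.2 g⟩
  · intro hh
    have e : h = g⁻¹ * (g * h * g⁻¹) * g⁻¹⁻¹ := by group
    rw [e]
    exact ⟨D.mul_mem (D.mul_mem (D.inv_mem hg) hh.1) (D.inv_mem (D.inv_mem hg)),
      hMn.conj_mem _ hh.2 g⁻¹⟩

theorem arith {d i b y j s c : ℕ} (hb : 0 < b) (hy : 0 < y) (hi : 0 < i)
    (e1 : d * i = b * b) (e2 : d * j = b * y) (e3 : s * j = c * y) (h4 : i ≤ c) : b ≤ s := by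
  have key : s * i * (b * y) = c * b * (b * y) := by
    calc s * i * (b * y) = s * i * (d * j) := by rw [e2]
      _ = (s * j) * (d * i) := by ring
      _ = (c * y) * (b * b) := by rw [e3, e1]
      _ = c * b * (b * y) := by ring
  have key2 : s * i = c * b := Nat.eq_of_mul_eq_mul_right (Nat.mul_pos hb hy) key
  have h5 : b * i ≤ s * i := by
    rw [key2, mul_comm c b]
    exact Nat.mul_le_mul_left b h4
  exact Nat.le_of_mul_le_mul_right h5 hi

theorem rep [Finite G] {B B' M : Subgroup G} [hMn : M.Normal]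
    (hB : ∀ a ∈ B, ∀ b ∈ B, a * b = b * a) (hB' : ∀ a ∈ B', ∀ b ∈ B', a * b = b * a)
    (hM : ∀ a ∈ M, ∀ b ∈ M, a * b = b * a)
    (hcard : Nat.card B' = Nat.card B)
    (h1 : B' ≤ normalizer (B : Set G)) (h3 : B' ≤ B ⊔ M) :
    ∃ Bs : Subgroup G, (∀ a ∈ Bs, ∀ b ∈ Bs, a * b = b * a) ∧ Nat.card B ≤ Nat.card Bs ∧
      Bs ≤ B ⊔ B' ∧ (B ⊔ B') ⊓ M ≤ Bs := by
  have hYM : (B ⊔ B') ⊓ M ≤ M := inf_le_right
  have hYD : (B ⊔ B') ⊓ M ≤ B ⊔ B' := inf_le_left
  have hBD : B ≤ B ⊔ B' := le_sup_left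
  have hB'D : B' ≤ B ⊔ B' := le_sup_right
  have hYc : ∀ a ∈ (B ⊔ B') ⊓ M, ∀ b ∈ (B ⊔ B') ⊓ M, a * b = b * a :=
    fun a ha b hb => hM a (hYM ha) b (hYM hb)
  have hCc : ∀ a ∈ B ⊓ centralizer (((B ⊔ B') ⊓ M : Subgroup G) : Set G),
      ∀ b ∈ B ⊓ centralizer (((B ⊔ B') ⊓ M : Subgroup G) : Set G), a * b = b * a :=
    fun a ha b hb => hB a ha.1 b hb.1
  have hCY : ∀ a ∈ B ⊓ centralizer (((B ⊔ B') ⊓ M : Subgroup G) : Set G),
      ∀ b ∈ (B ⊔ B') ⊓ M, a * b = b * a := by
    intro a ha b hb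
    exact (mem_centralizer_iff.1 ha.2 b hb).symm
  refine ⟨(B ⊓ centralizer (((B ⊔ B') ⊓ M : Subgroup G) : Set G)) ⊔ ((B ⊔ B') ⊓ M),
    comm_sup' hCc hYc hCY, ?_, sup_le (inf_le_left.trans hBD) hYD, le_sup_right⟩
  -- counting
  have hDeq : B ⊔ ((B ⊔ B') ⊓ M) = B ⊔ B' := by
    apply le_antisymm (sup_le hBD hYD)
    refine sup_le le_sup_left ?_
    intro b' hb'
    have hb'2 : b' ∈ ((B ⊔ M : Subgroup G) : Set G) := h3 hb'
    rw [mul_normal] at hb'2
    obtain ⟨b, hb, m, hm, rfl⟩ := Set.mem_mul.1 hb'2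
    have hmD : m ∈ B ⊔ B' := by
      have e : m = b⁻¹ * (b * m) := by group
      rw [e]
      exact (B ⊔ B').mul_mem ((B ⊔ B').inv_mem (hBD hb)) (hB'D hb')
    exact (B ⊔ ((B ⊔ B') ⊓ M)).mul_mem
      ((le_sup_left : B ≤ B ⊔ ((B ⊔ B') ⊓ M)) hb)
      ((le_sup_right : (B ⊔ B') ⊓ M ≤ B ⊔ ((B ⊔ B') ⊓ M)) ⟨hmD, hm⟩)
  have hBY : B ⊓ ((B ⊔ B') ⊓ M) = B ⊓ M := by
    rw [← inf_assoc, inf_eq_left.2 hBD]
  have hCYi : (B ⊓ centralizer (((B ⊔ B') ⊓ M : Subgroup G) : Set G)) ⊓ ((B ⊔ B') ⊓ M) = B ⊓ M := by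
    rw [← hBY]
    apply le_antisymm (inf_le_inf_right _ inf_le_left)
    intro x hx
    exact ⟨⟨hx.1, mem_centralizer_iff.2 (fun y hy => hYc y hy x hx.2)⟩, hx.2⟩
  have hIC : B ⊓ B' ≤ B ⊓ centralizer (((B ⊔ B') ⊓ M : Subgroup G) : Set G) := by
    intro x hx
    refine ⟨hx.1, ?_⟩
    have hle : B ⊔ B' ≤ centralizer ({x} : Set G) := by
      refine sup_le ?_ ?_
      · intro y hy
        exact mem_centralizer_iff.2 (fun z hz => by
          rw [Set.mem_singleton_iff.1 hz]; exact hB x hx.1 y hy)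
      · intro y hy
        exact mem_centralizer_iff.2 (fun z hz => by
          rw [Set.mem_singleton_iff.1 hz]; exact hB' x hx.2 y hy)
    refine mem_centralizer_iff.2 (fun y hy => ?_)
    exact (mem_centralizer_iff.1 (hle (hYD hy)) x rfl).symm
  have e1 : Nat.card ↥(B ⊔ B') * Nat.card ↥(B ⊓ B') = Nat.card B * Nat.card B := by
    have := card_sup_mul_card_inf' B' B h1
    rw [sup_comm, inf_comm, hcard] at this
    exact this
  have e2 : Nat.card ↥(B ⊔ B') * Nat.card ↥(B ⊓ M) = Nat.card B * Nat.card ↥((B ⊔ B') ⊓ M) := by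
    have := card_sup_mul_card_inf' B ((B ⊔ B') ⊓ M) (hBD.trans (le_normalizer_inf_normal (B ⊔ B') M))
    rw [hDeq, hBY] at this
    exact this
  have e3 := card_sup_mul_card_inf' (B ⊓ centralizer (((B ⊔ B') ⊓ M : Subgroup G) : Set G))
    ((B ⊔ B') ⊓ M) ((inf_le_left.trans hBD).trans (le_normalizer_inf_normal (B ⊔ B') M))
  rw [hCYi] at e3
  have h4 : Nat.card ↥(B ⊓ B') ≤ Nat.card ↥(B ⊓ centralizer (((B ⊔ B') ⊓ M : Subgroup G) : Set G)) :=
    Subgroup.card_le_of_le hIC
  exact arith Nat.card_pos Nat.card_pos Nat.card_pos e1 e2 e3 h4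

end

theorem mem_max_of {S : Type*} [Group S] {A B : Subgroup S} (hA : A ∈ Cfsg.maxAbelianSubgroups S)
    (hB : ∀ a ∈ B, ∀ b ∈ B, a * b = b * a) (hc : Nat.card A ≤ Nat.card B) :
    B ∈ Cfsg.maxAbelianSubgroups S :=
  ⟨⟨⟨fun a b => Subtype.ext (hB a a.2 b b.2)⟩⟩, fun C hC => (hA.2 C hC).trans hc⟩


/-- A weak replacement Theorem for metabelian p-groups: let S be a finite p-group whose derived subgroup is abelian and A an abelian subgroup of S of largest possible order. Then the normal closure of A in S contains an abelian subgroup B of the same order as A that is normal in S. -/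
theorem result {S : Type*} [Group S] [Finite S] {p : ℕ} [Fact p.Prime]
    (hS : IsPGroup p S) (hmeta : IsMulCommutative ↥(commutator S))
    (A : Subgroup S) (hA : A ∈ Cfsg.maxAbelianSubgroups S) :
    ∃ B ∈ Cfsg.maxAbelianSubgroups S, B.Normal ∧ B ≤ Subgroup.normalClosure (A : Set S) := by
  classical
  have hMn : (commutator S).Normal := inferInstance
  have hM : ∀ a ∈ commutator S, ∀ b ∈ commutator S, a * b = b * a :=
    fun a ha b hb => setLike_mul_comm ha hb
  have hcomm_mem : ∀ g b : S, ⁅g, b⁆ ∈ commutator S := by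
    intro g b
    rw [commutator_def]
    exact Subgroup.commutator_mem_commutator (Subgroup.mem_top g) (Subgroup.mem_top b)
  have hNn : (Subgroup.normalClosure (A : Set S)).Normal := Subgroup.normalClosure_normal
  obtain ⟨B, ⟨hBmax, hBN⟩, hBbest⟩ := Set.exists_max_image
    {B : Subgroup S | B ∈ Cfsg.maxAbelianSubgroups S ∧ B ≤ Subgroup.normalClosure (A : Set S)}
    (fun B => Nat.card ↥(B ⊓ commutator S)) (Set.toFinite _) ⟨A, hA, Subgroup.le_normalClosure⟩
  have hBc : ∀ a ∈ B, ∀ b ∈ B, a * b = b * a := by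
    haveI := hBmax.1
    exact fun a ha b hb => setLike_mul_comm ha hb
  have hcardBA : Nat.card B = Nat.card A := le_antisymm (hA.2 B hBmax.1) (hBmax.2 A hA.1)
  have hconj : ∀ g a : S, (MulAut.conj g).toMonoidHom a = ⁅g, a⁆ * a := by
    intro g a
    simp [commutatorElement_def]
  have improve : ∀ g : S, B.map (MulAut.conj g).toMonoidHom ≤ Subgroup.normalizer (B : Set S) →
      ∀ b ∈ B, g * b * g⁻¹ ∉ B → False := by
    intro g hnorm b hb hnot
    have hB'c : ∀ a ∈ B.map (MulAut.conj g).toMonoidHom,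
        ∀ c ∈ B.map (MulAut.conj g).toMonoidHom, a * c = c * a := by
      rintro _ ⟨a, ha, rfl⟩ _ ⟨c, hc, rfl⟩
      rw [← map_mul, ← map_mul, hBc a ha c hc]
    have hB'card : Nat.card ↥(B.map (MulAut.conj g).toMonoidHom) = Nat.card B :=
      Subgroup.card_map_of_injective (MulAut.conj g).injective
    have hB'N : B.map (MulAut.conj g).toMonoidHom ≤ Subgroup.normalClosure (A : Set S) := by
      rintro _ ⟨a, ha, rfl⟩
      simp only [MulEquiv.coe_toMonoidHom, MulAut.conj_apply]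
      exact hNn.conj_mem a (hBN ha) g
    have hB'BM : B.map (MulAut.conj g).toMonoidHom ≤ B ⊔ commutator S := by
      rintro _ ⟨a, ha, rfl⟩
      rw [hconj]
      exact (B ⊔ commutator S).mul_mem ((le_sup_right : commutator S ≤ B ⊔ commutator S) (hcomm_mem g a))
        ((le_sup_left : B ≤ B ⊔ commutator S) ha)
    obtain ⟨Bs, hBsc, hBscard, hBsle, hYle⟩ := rep hBc hB'c hM hB'card hnorm hB'BM
    have hBsT : Bs ∈ {B : Subgroup S | B ∈ Cfsg.maxAbelianSubgroups S ∧
        B ≤ Subgroup.normalClosure (A : Set S)} :=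
      ⟨mem_max_of hA hBsc (by rw [← hcardBA]; exact hBscard), hBsle.trans (sup_le hBN hB'N)⟩
    have h5 := hBbest Bs hBsT
    have h6 : B ⊓ commutator S ≤ Bs ⊓ commutator S :=
      le_inf ((inf_le_inf_right (commutator S) le_sup_left).trans hYle) inf_le_right
    have h7 := Subgroup.eq_of_le_of_card_ge h6 h5
    have hmD : ⁅g, b⁆ ∈ B ⊔ B.map (MulAut.conj g).toMonoidHom := by
      have e : ⁅g, b⁆ = (MulAut.conj g).toMonoidHom b * b⁻¹ := by
        simp [commutatorElement_def]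
      rw [e]
      exact Subgroup.mul_mem _ ((le_sup_right : B.map (MulAut.conj g).toMonoidHom ≤ _) ⟨b, hb, rfl⟩)
        (Subgroup.inv_mem _ ((le_sup_left : B ≤ _) hb))
    have hm : ⁅g, b⁆ ∈ Bs ⊓ commutator S := ⟨hYle ⟨hmD, hcomm_mem g b⟩, hcomm_mem g b⟩
    rw [← h7] at hm
    apply hnot
    have e : g * b * g⁻¹ = ⁅g, b⁆ * b := by simp [commutatorElement_def]
    rw [e]
    exact B.mul_mem hm.1 hb
  -- Step 1: the derived subgroup normalizes B
  have hMnorm : commutator S ≤ Subgroup.normalizer (B : Set S) := by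
    by_contra hnot
    have hex : ∃ x ∈ commutator S, x ∉ Subgroup.normalizer (B : Set S) ∧
        ∀ b ∈ B, ⁅x, b⁆ ∈ Subgroup.normalizer (B : Set S) := by
      by_contra hcon
      push Not at hcon
      have hnil : Group.IsNilpotent S := hS.isNilpotent
      obtain ⟨c, hc⟩ := _root_.nilpotent_iff_lowerCentralSeries.1 hnil
      have hall : ∀ n, ∃ x ∈ commutator S, x ∉ Subgroup.normalizer (B : Set S) ∧
          x ∈ (⊤ : Subgroup S).lowerCentralSeries n := by
        intro n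
        induction n with
        | zero =>
          obtain ⟨x, hxM, hxn⟩ := SetLike.not_le_iff_exists.1 hnot
          exact ⟨x, hxM, hxn, by rw [Subgroup.lowerCentralSeries_zero]; exact Subgroup.mem_top x⟩
        | succ n ih =>
          obtain ⟨x, hxM, hxn, hxl⟩ := ih
          obtain ⟨b, hb, hbn⟩ := hcon x hxM hxn
          refine ⟨⁅x, b⁆, hcomm_mem x b, hbn, ?_⟩
          show ⁅x, b⁆ ∈ ⁅(⊤ : Subgroup S).lowerCentralSeries n, (⊤ : Subgroup S)⁆
          exact Subgroup.commutator_mem_commutator hxl (Subgroup.mem_top b)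
      obtain ⟨x, _, hxn, hxl⟩ := hall c
      rw [hc, Subgroup.mem_bot] at hxl
      exact hxn (hxl ▸ Subgroup.one_mem _)
    obtain ⟨x, hxM, hxn, hxb⟩ := hex
    have hnorm : B.map (MulAut.conj x).toMonoidHom ≤ Subgroup.normalizer (B : Set S) := by
      rintro _ ⟨b, hb, rfl⟩
      rw [hconj]
      exact Subgroup.mul_mem _ (hxb b hb) (Subgroup.le_normalizer hb)
    have hexb : ∃ b ∈ B, x * b * x⁻¹ ∉ B := by
      by_contra hcon
      push Not at hcon
      apply hxn
      rw [Subgroup.mem_normalizer_iff_map_conj_eq]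
      apply Subgroup.eq_of_le_of_card_ge
      · rintro _ ⟨b, hb, rfl⟩
        simp only [MonoidHom.coe_coe, MulAut.conj_apply]
        exact hcon b hb
      · rw [Subgroup.card_map_of_injective (MulAut.conj x).injective]
    obtain ⟨b, hb, hnb⟩ := hexb
    exact improve x hnorm b hb hnb
  -- Step 2: B is normal
  refine ⟨B, hBmax, ⟨fun b hb g => ?_⟩, hBN⟩
  by_contra hnb
  have hnorm : B.map (MulAut.conj g).toMonoidHom ≤ Subgroup.normalizer (B : Set S) := by
    rintro _ ⟨a, ha, rfl⟩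
    rw [hconj]
    exact Subgroup.mul_mem _ (hMnorm (hcomm_mem g a)) (Subgroup.le_normalizer ha)
  exact improve g hnorm b hb hnb

end Cfsg.Agent.S3063
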