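import Mathlib
import Cfsg.Agent.Lib.Helper13.FrobStruct
import Cfsg.Agent.Lib.Helper20.Cores
import Cfsg.Agent.Lib.Helper16.PCore
import Cfsg.Agent.Lib.Helper23.Isolated

set_option autoImplicit false
open Cfsg
open scoped Pointwise

universe u

namespace Cfsg.Agent.S3064

/-- If a Sylow `p`-subgroup of a normal subgroup `N` is central in `G`, then `N ≤ Z(G) O_{p'}(G)`. -/
theorem exists_mul_of_sylow_central {G : Type*} [Group G] [Finite G] {p : ℕ} [Fact p.Prime]
    {N : Subgroup G} [hN : N.Normal] (P : Sylow p N)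
    (hPc : ∀ y ∈ P, ((y : N) : G) ∈ Subgroup.center G) :
    ∀ n ∈ N, ∃ z ∈ Subgroup.center G, ∃ k ∈ Cfsg.pPrimeCore p G, n = z * k := by
  have hcentN : ∀ y ∈ P, ∀ m : ↥N, y * m = m * y := by
    intro y hy m
    apply Subtype.ext
    have := (Subgroup.mem_center_iff.mp (hPc y hy)) (m : G)
    simpa using this.symm
  haveI hPn : (P : Subgroup N).Normal := by
    constructor
    intro y hy m
    have : m * y * m⁻¹ = y := by
      rw [← hcentN y hy m]; group
    rw [this]; exact hy
  have hcop : (Nat.card (P : Subgroup N)).Coprime (P : Subgroup N).index := P.card_coprime_index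
  obtain ⟨K', hK'⟩ := Subgroup.exists_right_complement'_of_coprime hcop
  have hK'card : (Nat.card K').Coprime p := by
    have h1 : (P : Subgroup N).index = Nat.card K' := hK'.symm.index_eq_card
    rw [← h1]
    exact ((Fact.out : p.Prime).coprime_iff_not_dvd.mpr P.not_dvd_index).symm
  have hdec : ∀ m : ↥N, ∃ n ∈ (P : Subgroup N), ∃ k ∈ K', m = n * k := by
    intro m
    obtain ⟨⟨n, k⟩, hnk, -⟩ := (Subgroup.isComplement'_def.mp hK').existsUnique m
    exact ⟨n.1, n.2, k.1, k.2, hnk.symm⟩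
  have hK'n : K'.Normal := by
    constructor
    intro k' hk' m
    obtain ⟨n, hn, k, hk, rfl⟩ := hdec m
    have h1 : n * k * k' * (n * k)⁻¹ = k * k' * k⁻¹ := by
      have e1 := hcentN n hn (k * k' * k⁻¹)
      calc n * k * k' * (n * k)⁻¹ = (n * (k * k' * k⁻¹)) * n⁻¹ := by group
        _ = ((k * k' * k⁻¹) * n) * n⁻¹ := by rw [e1]
        _ = k * k' * k⁻¹ := by group
    rw [h1]
    exact K'.mul_mem (K'.mul_mem hk hk') (K'.inv_mem hk)
  obtain ⟨K, hKdef⟩ : ∃ K : Subgroup G, K = K'.map N.subtype := ⟨_, rfl⟩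
  have hKN : K ≤ N := by rw [hKdef]; exact Subgroup.map_subtype_le _
  have hNK : N ≤ Subgroup.normalizer (K : Set G) := by
    intro h hh
    rw [Subgroup.mem_normalizer_iff]
    intro m
    rw [hKdef]
    constructor
    · rintro ⟨m', hm', rfl⟩
      exact ⟨⟨h, hh⟩ * m' * ⟨h, hh⟩⁻¹, hK'n.conj_mem m' hm' ⟨h, hh⟩, by simp⟩
    · rintro ⟨m', hm', hm'e⟩
      refine ⟨⟨h, hh⟩⁻¹ * m' * ⟨h, hh⟩, ?_, ?_⟩
      · have := hK'n.conj_mem m' hm' ⟨h, hh⟩⁻¹
        simpa using this
      · have : ((m' : ↥N) : G) = h * m * h⁻¹ := hm'e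
        simp [this, mul_assoc]
  have hKc : (Nat.card K).Coprime p := by
    rw [hKdef, Subgroup.card_map_of_injective N.subtype_injective]
    exact hK'card
  have hsub : K.IsSubnormal := by
    refine Subgroup.IsSubnormal.step K N hKN hN.isSubnormal ?_
    exact (Subgroup.normal_subgroupOf_iff_le_normalizer hKN).mpr hNK
  have hKO := Cfsg.Agent.Lib.Helper20.subnormal_coprime_le_pPrimeCore p K hsub hKc
  intro m hm
  obtain ⟨n, hn, k, hk, e⟩ := hdec ⟨m, hm⟩
  refine ⟨(n : G), hPc n hn, (k : G), hKO ?_, ?_⟩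
  · rw [hKdef]; exact ⟨k, hk, rfl⟩
  · have := congrArg Subtype.val e
    simpa using this

theorem mem_smul_sylow' {G : Type*} [Group G] [Finite G] {p : ℕ} [Fact p.Prime] (g x : G)
    (T : Sylow p G) :
    x ∈ ((g • T : Sylow p G) : Subgroup G) ↔ g⁻¹ * x * g ∈ (T : Subgroup G) := by
  rw [Sylow.smul_def, Sylow.pointwise_smul_def, Subgroup.mem_pointwise_smul_iff_inv_smul_mem]
  simp [MulAut.smul_def]

theorem isPGroup_zpowers {G : Type*} [Group G] {p : ℕ} {x : G} (hxp : ∃ k : ℕ, x ^ (p ^ k) = 1) :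
    IsPGroup p (Subgroup.zpowers x) := by
  obtain ⟨k, hk⟩ := hxp
  rintro ⟨g, hg⟩
  obtain ⟨m, rfl⟩ := Subgroup.mem_zpowers_iff.mp hg
  refine ⟨k, Subtype.ext ?_⟩
  show (x ^ m) ^ (p ^ k) = 1
  rw [← zpow_natCast, ← zpow_mul, mul_comm, zpow_mul, zpow_natCast, hk, one_zpow]

theorem aux (n : ℕ) : ∀ (G : Type u) [Group G] [Finite G], Nat.card G = n →
    ∀ (p : ℕ) [Fact p.Prime] (x : G), (∃ k : ℕ, x ^ (p ^ k) = 1) → Cfsg.IsIsolated x →
    (∀ H : Subgroup G, (Nat.card H).Coprime p → (∀ h ∈ H, x * h * x⁻¹ ∈ H) →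
      ∀ h ∈ H, x * h = h * x) →
    x ∈ Subgroup.center G := by
  induction n using Nat.strong_induction_on with
  | _ n ih =>
  intro G _ _ hn p _ x hxp hiso hb
  by_contra hxZ
  obtain ⟨C, hCdef⟩ : ∃ C : Subgroup G, C = Subgroup.centralizer {x} := ⟨_, rfl⟩
  have hmemC : ∀ g, g ∈ C ↔ x * g = g * x := by
    intro g
    rw [hCdef, Subgroup.mem_centralizer_iff]
    simp
  have hxC : x ∈ C := (hmemC x).2 rfl
  have hCtop : C ≠ ⊤ := by
    intro h
    apply hxZ
    rw [Subgroup.mem_center_iff]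
    intro g
    have : g ∈ C := h ▸ Subgroup.mem_top g
    exact ((hmemC g).1 this).symm
  -- proper subgroups containing x lie in C
  have hprop : ∀ H : Subgroup G, x ∈ H → H ≠ ⊤ → H ≤ C := by
    intro H hxH hH
    have hlt : Nat.card H < n := by
      rw [← hn]
      exact lt_of_le_of_ne (Subgroup.card_le_card_group H)
        (fun h => hH (Subgroup.eq_top_of_card_eq H h))
    have hx' : (⟨x, hxH⟩ : ↥H) ∈ Subgroup.center ↥H := by
      refine ih (Nat.card H) hlt H rfl p ⟨x, hxH⟩ ?_ ?_ ?_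
      · obtain ⟨k, hk⟩ := hxp
        exact ⟨k, Subtype.ext (by simpa using hk)⟩
      · intro h hcomm
        apply Subtype.ext
        have h1 := hiso (h : G)
        have h2 : Commute x ((h : G) * x * (h : G)⁻¹) := by
          have := congrArg Subtype.val hcomm.eq
          show x * ((h : G) * x * (h : G)⁻¹) = (h : G) * x * (h : G)⁻¹ * x
          simpa using this
        simpa using h1 h2
      · intro L hL hinv l hl
        have h1 := hb (L.map H.subtype)
          (by rw [Subgroup.card_map_of_injective H.subtype_injective]; exact hL)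
          (by
            rintro _ ⟨l', hl', rfl⟩
            exact ⟨⟨x, hxH⟩ * l' * ⟨x, hxH⟩⁻¹, hinv l' hl', by simp⟩)
          (l : G) ⟨l, hl, rfl⟩
        exact Subtype.ext (by simpa using h1)
    intro g hg
    rw [hmemC]
    have := (Subgroup.mem_center_iff.mp hx') ⟨g, hg⟩
    have := congrArg Subtype.val this
    simpa using this.symm
  have hgen : ∀ g, g ∉ C → Subgroup.closure {x, g * x * g⁻¹} = ⊤ := by
    intro g hg
    by_contra hne
    have h1 := hprop _ (Subgroup.subset_closure (by simp)) hne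
    have h2 : g * x * g⁻¹ ∈ C := h1 (Subgroup.subset_closure (by simp))
    have h3 := hiso g ((hmemC _).1 h2)
    apply hg
    rw [hmemC]
    calc x * g = (g * x * g⁻¹) * g := by rw [h3]
      _ = g * x := by group
  -- a Sylow subgroup containing x lies in C
  obtain ⟨S, hS⟩ := (isPGroup_zpowers hxp).exists_le_sylow
  have hxS : x ∈ S := hS (Subgroup.mem_zpowers x)
  have hSC : (S : Subgroup G) ≤ C := by
    intro r hr
    rw [hmemC]
    exact (Cfsg.Agent.Lib.Helper23.isolated_central_of_pgroup hiso S S.2 hxS r hr).symm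
  have hCidx : (C.index).Coprime p := by
    have h1 : C.index ∣ (S : Subgroup G).index := Subgroup.index_dvd_of_le hSC
    have h2 : ¬ p ∣ C.index := fun h => S.not_dvd_index (h.trans h1)
    exact ((Fact.out : p.Prime).coprime_iff_not_dvd.mpr h2).symm
  have hZC : Subgroup.center G ≤ C := by
    intro z hz
    rw [hmemC]
    exact (Subgroup.mem_center_iff.mp hz) x
  obtain ⟨Cb, hCb⟩ : ∃ Cb : Subgroup (G ⧸ Subgroup.center G),
      Cb = C.map (QuotientGroup.mk' _) := ⟨_, rfl⟩
  have hmemCb : ∀ g : G, (QuotientGroup.mk g : G ⧸ Subgroup.center G) ∈ Cb ↔ g ∈ C := by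
    intro g
    rw [hCb]
    constructor
    · rintro ⟨c, hc, hcg⟩
      have h1 : c⁻¹ * g ∈ Subgroup.center G := QuotientGroup.eq.mp hcg
      have := C.mul_mem hc (hZC h1)
      simpa using this
    · intro hg
      exact ⟨g, hg, rfl⟩
  have hFrob : Cfsg.IsFrobeniusComplement Cb := by
    refine ⟨?_, ?_, ?_⟩
    · intro h
      apply hxZ
      have : (QuotientGroup.mk x : G ⧸ Subgroup.center G) ∈ Cb := (hmemCb x).2 hxC
      rw [h, Subgroup.mem_bot, QuotientGroup.eq_one_iff] at this
      exact this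
    · intro h
      apply hCtop
      rw [eq_top_iff]
      intro g _
      exact (hmemCb g).1 (h ▸ Subgroup.mem_top _)
    · intro gb hgb
      obtain ⟨g, rfl⟩ := QuotientGroup.mk_surjective gb
      have hg : g ∉ C := fun h => hgb ((hmemCb g).2 h)
      have hG := hgen g hg
      rw [eq_bot_iff]
      rintro yb ⟨hy1, hy2⟩
      obtain ⟨c₁, rfl⟩ := QuotientGroup.mk_surjective yb
      have hc₁ : c₁ ∈ C := (hmemCb c₁).1 hy1
      have hy2' : (QuotientGroup.mk (g⁻¹ * c₁ * g) : G ⧸ Subgroup.center G) ∈ Cb := by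
        have := Subgroup.mem_pointwise_smul_iff_inv_smul_mem.mp hy2
        simpa [MulAut.smul_def] using this
      have hc₂ : g⁻¹ * c₁ * g ∈ C := (hmemCb _).1 hy2'
      have hcc : c₁ ∈ Subgroup.center G := by
        rw [Subgroup.mem_center_iff]
        intro h
        have hh : h ∈ Subgroup.closure {x, g * x * g⁻¹} := hG ▸ Subgroup.mem_top h
        have hle : Subgroup.closure {x, g * x * g⁻¹} ≤ Subgroup.centralizer {c₁} := by
          rw [Subgroup.closure_le]
          intro y hy
          rw [SetLike.mem_coe, Subgroup.mem_centralizer_iff]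
          intro m hm
          rw [Set.mem_singleton_iff.mp hm]
          rcases hy with rfl | hy
          · exact ((hmemC c₁).1 hc₁).symm
          · rw [Set.mem_singleton_iff.mp hy]
            have e := (hmemC _).1 hc₂
            calc c₁ * (g * x * g⁻¹) = g * ((g⁻¹ * c₁ * g) * x) * g⁻¹ := by group
              _ = g * (x * (g⁻¹ * c₁ * g)) * g⁻¹ := by rw [e]
              _ = (g * x * g⁻¹) * c₁ := by group
        have := hle hh
        rw [Subgroup.mem_centralizer_iff] at this
        exact (this c₁ rfl).symm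
      rw [Subgroup.mem_bot, QuotientGroup.eq_one_iff]
      exact hcc
  obtain ⟨Nb, hF⟩ := Cfsg.Agent.Lib.Helper13.exists_frobData Cb hFrob
  haveI := hF.normal
  have hNbcard : (Nat.card Nb).Coprime p := by
    have h1 : Cb.index = Nat.card Nb := hF.isCompl.index_eq_card
    have h2 : Cb.index = C.index := by
      rw [hCb]
      exact Subgroup.index_map_eq C (QuotientGroup.mk'_surjective _)
        (by rw [QuotientGroup.ker_mk']; exact hZC)
    rw [← h1, h2]
    exact hCidx
  obtain ⟨N, hNdef⟩ : ∃ N : Subgroup G,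
      N = Nb.comap (QuotientGroup.mk' (Subgroup.center G)) := ⟨_, rfl⟩
  haveI hNn : N.Normal := by rw [hNdef]; infer_instance
  obtain ⟨P⟩ : Nonempty (Sylow p N) := inferInstance
  have hPc : ∀ y ∈ P, ((y : N) : G) ∈ Subgroup.center G := by
    intro y hy
    obtain ⟨k, hk⟩ := P.2 ⟨y, hy⟩
    have hk' : (y : G) ^ (p ^ k) = 1 := by
      have := congrArg (fun t : (P : Subgroup N) => ((t : N) : G)) hk
      simpa using this
    have hyN : (QuotientGroup.mk (y : G) : G ⧸ Subgroup.center G) ∈ Nb := by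
      have h0 : (y : G) ∈ N := y.2
      have h00 : ∀ t : G, t ∈ N → (QuotientGroup.mk t : G ⧸ Subgroup.center G) ∈ Nb := by
        intro t ht
        rw [hNdef] at ht
        exact ht
      exact h00 _ h0
    have h1 : (QuotientGroup.mk (y : G) : G ⧸ Subgroup.center G) ^ (p ^ k) = 1 := by
      rw [← QuotientGroup.mk_pow, hk']
      rfl
    have h2 : (orderOf (QuotientGroup.mk (y : G) : G ⧸ Subgroup.center G)).Coprime p := by
      have : orderOf (QuotientGroup.mk (y : G) : G ⧸ Subgroup.center G) ∣ Nat.card Nb :=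
        Subgroup.orderOf_dvd_natCard Nb hyN
      exact Nat.Coprime.coprime_dvd_left this hNbcard
    have := Cfsg.Agent.Lib.Helper16.eq_one_of_pow_prime_pow_of_coprime _ k h1 h2
    exact (QuotientGroup.eq_one_iff _).mp this
  have hdecomp := exists_mul_of_sylow_central P hPc
  have hO : ∀ h ∈ Cfsg.pPrimeCore p G, x * h = h * x := by
    haveI : (Cfsg.pPrimeCore p G).Normal := (Cfsg.Agent.Lib.Helper20.pPrimeCore_mem' p).1
    apply hb _ (Cfsg.Agent.Lib.Helper20.pPrimeCore_coprime' p)
    intro h hh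
    exact Subgroup.Normal.conj_mem inferInstance h hh x
  have hNC : N ≤ C := by
    intro m hm
    obtain ⟨z, hz, k, hk, rfl⟩ := hdecomp m hm
    exact C.mul_mem (hZC hz) ((hmemC k).2 (hO k hk))
  have hNbCb : Nb ≤ Cb := by
    intro nb hnb
    obtain ⟨m, rfl⟩ := QuotientGroup.mk_surjective nb
    apply (hmemCb m).2
    apply hNC
    rw [hNdef]
    exact hnb
  have hNbbot : Nb = ⊥ := hF.isCompl.disjoint.eq_bot_of_le hNbCb
  have := hF.isCompl.sup_eq_top
  rw [hNbbot, bot_sup_eq] at this
  exact hFrob.2.1 this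

/-- Let S be a Sylow p-subgroup of the finite group G and x an element of S such that (i) x is the only G-conjugate of x lying in S, and (ii) x centralizes every subgroup of order prime to p that it normalizes. Then x lies in the centre of G. -/
theorem result {G : Type*} [Group G] [Finite G] {p : ℕ} [Fact p.Prime]
    (S : Sylow p G) (x : G) (hx : x ∈ S)
    (hU : ∀ g : G, g⁻¹ * x * g ∈ S → g⁻¹ * x * g = x)
    (hb : ∀ H : Subgroup G, (Nat.card H).Coprime p → (∀ h ∈ H, x * h * x⁻¹ ∈ H) → ∀ h ∈ H, x * h = h * x) :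
    x ∈ Subgroup.center G := by
  obtain ⟨k, hk⟩ := S.2 ⟨x, hx⟩
  have hxp : ∃ k : ℕ, x ^ (p ^ k) = 1 := ⟨k, by simpa using congrArg Subtype.val hk⟩
  have hk0 : x ^ (p ^ k) = 1 := by simpa using congrArg Subtype.val hk
  have hxp' : ∀ g : G, ∃ k : ℕ, (g * x * g⁻¹) ^ (p ^ k) = 1 := by
    intro g
    exact ⟨k, by rw [conj_pow, hk0]; group⟩
  have hiso : Cfsg.IsIsolated x := by
    intro g hcomm
    have hz1 := isPGroup_zpowers (p := p) hxp
    have hz2 := isPGroup_zpowers (p := p) (hxp' g)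
    have hnorm : Subgroup.zpowers x ≤
        Subgroup.normalizer (Subgroup.zpowers (g * x * g⁻¹) : Set G) := by
      rw [Subgroup.zpowers_le]
      rw [Subgroup.mem_normalizer_iff]
      intro h
      constructor
      · intro hh
        obtain ⟨m, rfl⟩ := Subgroup.mem_zpowers_iff.mp hh
        have : x * (g * x * g⁻¹) ^ m * x⁻¹ = (g * x * g⁻¹) ^ m := by
          have := (hcomm.zpow_right m).eq
          rw [this]; group
        rw [this]; exact hh
      · intro hh
        obtain ⟨m, hm⟩ := Subgroup.mem_zpowers_iff.mp hh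
        have : h = (g * x * g⁻¹) ^ m := by
          have e2 : h = x⁻¹ * (x * h * x⁻¹) * x := by group
          rw [e2, ← hm]
          have := (hcomm.zpow_right m).eq
          calc x⁻¹ * (g * x * g⁻¹) ^ m * x = x⁻¹ * ((g * x * g⁻¹) ^ m * x) := by group
            _ = x⁻¹ * (x * (g * x * g⁻¹) ^ m) := by rw [this]
            _ = (g * x * g⁻¹) ^ m := by group
        rw [this]
        exact Subgroup.zpow_mem_zpowers _ m
    have hsup := IsPGroup.to_sup_of_normal_right' hz1 hz2 hnorm
    obtain ⟨Q, hQ⟩ := hsup.exists_le_sylow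
    obtain ⟨k', rfl⟩ := MulAction.exists_smul_eq G S Q
    have h1 : x ∈ ((k' • S : Sylow p G) : Subgroup G) :=
      hQ ((le_sup_left : Subgroup.zpowers x ≤ _) (Subgroup.mem_zpowers x))
    have h2 : g * x * g⁻¹ ∈ ((k' • S : Sylow p G) : Subgroup G) :=
      hQ ((le_sup_right : Subgroup.zpowers (g * x * g⁻¹) ≤ _) (Subgroup.mem_zpowers _))
    rw [mem_smul_sylow'] at h1 h2
    have h3 := hU k' h1
    have h4 : (g⁻¹ * k')⁻¹ * x * (g⁻¹ * k') = k'⁻¹ * (g * x * g⁻¹) * k' := by group
    have h5 := hU (g⁻¹ * k') (by rw [h4]; exact h2)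
    rw [h4] at h5
    calc g * x * g⁻¹ = k' * (k'⁻¹ * (g * x * g⁻¹) * k') * k'⁻¹ := by group
      _ = k' * (k'⁻¹ * x * k') * k'⁻¹ := by rw [h5, h3]
      _ = x := by group
  exact aux (Nat.card G) G rfl p x hxp hiso hb

end Cfsg.Agent.S3064
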