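import Cfsg.Statements.S3071
import Cfsg.Agent.Lib.Helper11.ZJFusion

set_option autoImplicit false
open Cfsg

namespace Cfsg.Agent.S3071

open Cfsg.Agent.Lib.Helper11.QuadFree Cfsg.Agent.Lib.Helper11.ZJFusion Cfsg.Agent.Lib.Helper1

/-- Let p be an odd prime and S a Sylow p-subgroup of the finite group G such that, for every subgroup P with Z(S) ≤ P ≤ S, the normalizer N_G(P) has no section isomorphic to SL₂(p). Let J(S) be the subgroup generated by the abelian subgroups of S of largest order. Then two elements of S are conjugate in G if and only if they are conjugate in N_G(Z(J(S))). -/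
theorem result {G : Type*} [Group G] [Finite G] {p : ℕ} [Fact p.Prime]
    (hp : p ≠ 2) (S : Sylow p G)
    (hfree : ∀ P : Subgroup G, (S : Subgroup G) ⊓ Subgroup.centralizer ((S : Subgroup G) : Set G) ≤ P → P ≤ S →
      ¬ ∃ (H K : Subgroup G) (hK : (K.subgroupOf H).Normal), H ≤ Subgroup.normalizer (P : Set G) ∧
        Nonempty ((H ⧸ K.subgroupOf H) ≃* Matrix.SpecialLinearGroup (Fin 2) (ZMod p))) :
    ∀ x ∈ S, ∀ y ∈ S, (∃ g : G, g * x * g⁻¹ = y) ↔
      ∃ n ∈ Subgroup.normalizer (Cfsg.centerThompsonAOf (S : Subgroup G) : Set G), n * x * n⁻¹ = y := by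
  intro x hx y hy
  constructor
  swap
  · rintro ⟨n, -, hn⟩
    exact ⟨n, hn⟩
  rintro ⟨g, hg⟩
  have hfree' : ∀ H : Subgroup G, Cfsg.Agent.Lib.Helper11.LG.zz (S : Subgroup G) ≤ H →
      H ≤ (S : Subgroup G) → SL2Free p ↥(Subgroup.normalizer (H : Set G)) := by
    intro H hZH hHS hinv
    apply hfree H hZH hHS
    obtain ⟨H', K', hK', hle, he⟩ := exists_section_le _ hinv
    exact ⟨H', K', hK', hle, he⟩
  have hX : ({x} : Set G) ⊆ ((S : Subgroup G) : Set G) := by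
    intro z hz
    rw [Set.mem_singleton_iff] at hz
    rw [hz]; exact hx
  have hXa : rcs g⁻¹ ({x} : Set G) ⊆ ((S : Subgroup G) : Set G) := by
    rintro _ ⟨z, hz, rfl⟩
    rw [Set.mem_singleton_iff] at hz
    show g⁻¹⁻¹ * z * g⁻¹ ∈ (S : Subgroup G)
    rw [hz, inv_inv, hg]; exact hy
  obtain ⟨c, hc, n, hn, hcn⟩ := global_ctl hp S hfree' {x} g⁻¹ hX hXa
  refine ⟨n⁻¹, inv_mem hn, ?_⟩
  have hcx : x * c = c * x := Subgroup.mem_centralizer_iff.1 hc x (Set.mem_singleton x)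
  have hg' : g = n⁻¹ * c⁻¹ := by
    have : g = (g⁻¹)⁻¹ := (inv_inv g).symm
    rw [this, hcn, mul_inv_rev]
  rw [← hg, hg']
  have h1 : c⁻¹ * x * c = x := by rw [mul_assoc, hcx, ← mul_assoc, inv_mul_cancel, one_mul]
  calc n⁻¹ * x * n⁻¹⁻¹ = n⁻¹ * (c⁻¹ * x * c) * n⁻¹⁻¹ := by rw [h1]
    _ = n⁻¹ * c⁻¹ * x * (n⁻¹ * c⁻¹)⁻¹ := by group

end Cfsg.Agent.S3071
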