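import Cfsg.Statements.S3073
import Cfsg.Agent.S1988
import Cfsg.Agent.Lib.Helper13.NPC

set_option autoImplicit false
universe u
open Cfsg

namespace Cfsg.Agent.S3073

open Cfsg.Agent.Lib.Helper1 Cfsg.Agent.Lib.Helper1.KInfC
open Cfsg.Agent.Lib.Helper13

/-- in a group with a normal `p`-complement, `p'`-elements of `N(K)` centralize the `p`-group `K` -/
theorem centralizes_of_npc {G : Type u} [Group G] [Finite G] {p : ℕ} [Fact p.Prime]
    (h : Cfsg.HasNormalPComplement p G) (K : Subgroup G) (hK : IsPGroup p K) :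
    ∀ g ∈ Subgroup.normalizer ((K : Subgroup G) : Set G), (orderOf g).Coprime p →
      g ∈ Subgroup.centralizer ((K : Subgroup G) : Set G) := by
  obtain ⟨N, hN, hcop, k, hk⟩ := npc_iff.mp h
  intro g hg hgo
  have hgN : g ∈ N := by
    have h1 : orderOf (QuotientGroup.mk' N g) ∣ orderOf g := orderOf_map_dvd _ g
    have h2 : orderOf (QuotientGroup.mk' N g) ∣ p ^ k := by
      have : Nat.card (G ⧸ N) = p ^ k := hk
      rw [← this]
      exact orderOf_dvd_natCard _
    have h3 : orderOf (QuotientGroup.mk' N g) = 1 :=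
      Nat.eq_one_of_dvd_coprimes (Nat.Coprime.pow_right k hgo) h1 h2
    rw [orderOf_eq_one_iff] at h3
    rw [← QuotientGroup.ker_mk' N, MonoidHom.mem_ker]
    exact h3
  obtain ⟨j, hj⟩ := IsPGroup.iff_card.mp hK
  have hcop' : (Nat.card K).Coprime (Nat.card N) := by
    rw [hj]; exact Nat.Coprime.pow_left j hcop.symm
  have hbot := Subgroup.inf_eq_bot_of_coprime hcop'
  rw [Subgroup.mem_centralizer_iff]
  intro x hx
  have h1 : g * x * g⁻¹ ∈ K := (Subgroup.mem_normalizer_iff.mp hg x).mp hx
  have h2 : g * x * g⁻¹ * x⁻¹ ∈ K := K.mul_mem h1 (K.inv_mem hx)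
  have h3 : g * x * g⁻¹ * x⁻¹ ∈ N := by
    have : g * x * g⁻¹ * x⁻¹ = g * (x * g⁻¹ * x⁻¹) := by group
    rw [this]
    exact N.mul_mem hgN (hN.conj_mem _ (N.inv_mem hgN) x)
  have h4 : g * x * g⁻¹ * x⁻¹ ∈ K ⊓ N := ⟨h2, h3⟩
  rw [hbot, Subgroup.mem_bot] at h4
  have : g * x = x * g := by
    have h5 : g * x * g⁻¹ = x := by
      have := mul_inv_eq_one.mp h4
      exact this
    calc g * x = (g * x * g⁻¹) * g := by group
      _ = x * g := by rw [h5]
  exact this.symm

/-- For an odd prime p, every finite p-group S has a characteristic subgroup K with C_S(K) ≤ K such that, whenever S is (isomorphic to) a Sylow p-subgroup of a finite group G, G has a normal p-complement if and only if N_G(K)/C_G(K) is a p-group, i.e. every element of N_G(K) of order prime to p centralizes K (K transported into G along the isomorphism). -/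
theorem result (p : ℕ) [Fact p.Prime] (hp : p ≠ 2)
    (S : Type u) [Group S] [Finite S] (hS : IsPGroup p S) :
    ∃ K : Subgroup S, K.Characteristic ∧ Subgroup.centralizer (K : Set S) ≤ K ∧
      ∀ (G : Type u) [Group G] [Finite G] (P : Sylow p G) (e : ↥(P : Subgroup G) ≃* S),
        Cfsg.HasNormalPComplement p G ↔
          ∀ g ∈ Subgroup.normalizer (((K.comap (e : ↥(P : Subgroup G) →* S)).map (P : Subgroup G).subtype : Subgroup G) : Set G),
            (orderOf g).Coprime p →
              g ∈ Subgroup.centralizer (((K.comap (e : ↥(P : Subgroup G) →* S)).map (P : Subgroup G).subtype : Subgroup G) : Set G) := by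
  classical
  have hW := isCharPFunctor_kInfLower (p := p)
  refine ⟨Cfsg.kInfLower S, ?_, (Cfsg.Agent.S1978.result hS).1, ?_⟩
  · rw [Subgroup.characteristic_iff_map_eq]
    intro ϕ
    exact hW.2 S S hS ϕ
  · intro G _ _ P e
    have hKeq : ((Cfsg.kInfLower S).comap (e : ↥(P : Subgroup G) →* S)).map (P : Subgroup G).subtype =
        Cfsg.inducedFunctor Cfsg.kInfLower (P : Subgroup G) := by
      unfold Cfsg.inducedFunctor
      congr 1
      have h1 := hW.2 ↥(P : Subgroup G) S P.isPGroup' e
      rw [← h1]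
      exact Subgroup.comap_map_eq_self_of_injective e.injective _
    rw [hKeq]
    constructor
    · intro h
      exact centralizes_of_npc h _ (P.isPGroup'.to_le (Cfsg.Agent.S2005.induced_le _))
    · intro h
      exact Cfsg.Agent.S1988.result hp P (Or.inr h)

end Cfsg.Agent.S3073
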