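import Mathlib
import Cfsg.Statements.S3075

set_option autoImplicit false

namespace Cfsg.Agent.S3075

/-- commutators act trivially on a cyclic normal subgroup -/
theorem commutator_centralizes_cyclic_normal {N : Type*} [Group N] (B : Subgroup N) [B.Normal]
    [IsCyclic B] (n₁ n₂ : N) {b : N} (hb : b ∈ B) :
    (n₁ * n₂ * n₁⁻¹ * n₂⁻¹) * b = b * (n₁ * n₂ * n₁⁻¹ * n₂⁻¹) := by
  have hcomm : ∀ f g : MulAut B, f * g = g * f := fun f g =>
    (IsCyclic.mulAutMulEquiv B).injective (by rw [map_mul, map_mul, mul_comm])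
  have h1 : MulAut.conjNormal (H := B) (n₁ * n₂ * n₁⁻¹ * n₂⁻¹) = 1 := by
    rw [map_mul, map_mul, map_mul, map_inv, map_inv,
      hcomm (MulAut.conjNormal n₁) (MulAut.conjNormal n₂)]
    group
  have h2 := congrArg (fun φ : MulAut B => ((φ ⟨b, hb⟩ : B) : N)) h1
  simp only [MulAut.conjNormal_apply, MulAut.one_apply] at h2
  exact mul_inv_eq_iff_eq_mul.1 h2

/-- The central element `-1` of `SL₂(F)`. -/
def negOne (F : Type*) [Field F] : Matrix.SpecialLinearGroup (Fin 2) F :=
  ⟨!![-1, 0; 0, -1], by simp [Matrix.det_fin_two]⟩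

theorem negOne_comm {F : Type*} [Field F] (g : Matrix.SpecialLinearGroup (Fin 2) F) :
    g * negOne F = negOne F * g := by
  apply Subtype.ext
  show g.val * (negOne F).val = (negOne F).val * g.val
  simp only [negOne]
  ext i j
  fin_cases i <;> fin_cases j <;> simp [Matrix.mul_apply, Fin.sum_univ_two]

theorem negOne_sq {F : Type*} [Field F] : negOne F * negOne F = 1 := by
  apply Subtype.ext
  show (negOne F).val * (negOne F).val = 1
  simp only [negOne]
  ext i j
  fin_cases i <;> fin_cases j <;> simp [Matrix.mul_apply, Fin.sum_univ_two]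

theorem negOne_ne_one {F : Type*} [Field F] (h2 : (2 : F) ≠ 0) : negOne F ≠ 1 := by
  intro h
  have h' := congrArg Subtype.val h
  change (!![-1, 0; 0, -1] : Matrix (Fin 2) (Fin 2) F) = 1 at h'
  have h00 := congrFun (congrFun h' 0) 0
  simp at h00
  apply h2
  have h3 : (1 : F) + 1 = 0 := by
    calc (1 : F) + 1 = 1 + (-1) * (-1) := by ring
      _ = 1 + (-1) * 1 := by rw [h00]
      _ = 0 := by ring
  rw [← h3]; norm_num

theorem sl2_not_comm (F : Type*) [Field F] :
    ∃ u v : Matrix.SpecialLinearGroup (Fin 2) F, u * v ≠ v * u := by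
  refine ⟨⟨!![1, 1; 0, 1], by simp [Matrix.det_fin_two]⟩, ⟨!![1, 0; 1, 1], by simp [Matrix.det_fin_two]⟩, ?_⟩
  intro h
  have h' := congrArg Subtype.val h
  change (!![1, 1; 0, 1] : Matrix (Fin 2) (Fin 2) F) * !![1, 0; 1, 1] = !![1, 0; 1, 1] * !![1, 1; 0, 1] at h'
  have := congrFun (congrFun h' 0) 0
  simp [Matrix.mul_apply, Fin.sum_univ_two] at this

/-- Let p be an odd prime and N a finite group with a normal elementary abelian subgroup A of order p² that is its own centralizer in N, such that N/A is isomorphic to SL₂(p) (over any field F with p elements). Then N splits over A: some subgroup U of N satisfies A ∩ U = 1 and AU = N. -/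
theorem result {N : Type*} [Group N] [Finite N] {p : ℕ} [Fact p.Prime] (hp : p ≠ 2)
    (A : Subgroup N) [A.Normal] (hAcomm : IsMulCommutative A) (hAcard : Nat.card A = p ^ 2) (hAexp : Monoid.exponent ↥A = p)
    (hAself : Subgroup.centralizer (A : Set N) = A)
    {F : Type*} [Field F] [Fintype F] (hF : Fintype.card F = p) (e : N ⧸ A ≃* Matrix.SpecialLinearGroup (Fin 2) F) :
    ∃ U : Subgroup N, A ⊓ U = ⊥ ∧ A ⊔ U = ⊤ := by
  classical
  have hpp : p.Prime := Fact.out
  have hAc : ∀ x ∈ A, ∀ y ∈ A, x * y = y * x := by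
    intro x hx y hy
    have h := hAcomm.is_comm.comm ⟨x, hx⟩ ⟨y, hy⟩
    exact congrArg Subtype.val h
  have hApow : ∀ a ∈ A, a ^ p = 1 := by
    intro a ha
    have := Monoid.pow_exponent_eq_one (⟨a, ha⟩ : A)
    rw [hAexp] at this
    simpa using congrArg Subtype.val this
  obtain ⟨k, hk⟩ : ∃ k, p = 2 * k + 1 := by
    rcases hpp.eq_two_or_odd' with h | h
    · exact absurd h hp
    · exact h
  have hsq1 : ∀ a ∈ A, a * a = 1 → a = 1 := by
    intro a ha h
    have := hApow a ha
    rw [hk, pow_succ, pow_mul, pow_two, h, one_pow, one_mul] at this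
    exact this
  haveI : CharP F p := charP_of_card_eq_prime hF
  have h2F : (2 : F) ≠ 0 := by
    intro h
    have h' : ((2 : ℕ) : F) = 0 := by exact_mod_cast h
    rw [CharP.cast_eq_zero_iff F p] at h'
    exact hp ((Nat.prime_dvd_prime_iff_eq hpp Nat.prime_two).1 h')
  -- central involution of N/A
  obtain ⟨zb, hzb⟩ : ∃ zb : N ⧸ A, zb = e.symm (negOne F) := ⟨_, rfl⟩
  have hezb : e zb = negOne F := by rw [hzb, e.apply_symm_apply]
  have hzb_c : ∀ x : N ⧸ A, x * zb = zb * x := by
    intro x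
    apply e.injective
    rw [map_mul, map_mul, hezb]
    exact negOne_comm _
  have hzb2 : zb * zb = 1 := by
    apply e.injective
    rw [map_mul, map_one, hezb]; exact negOne_sq
  have hzb1 : zb ≠ 1 := by
    intro h
    apply negOne_ne_one h2F
    rw [← hezb, h, map_one]
  obtain ⟨z, hz⟩ := QuotientGroup.mk_surjective zb
  obtain ⟨t, ht⟩ : ∃ t : N, t = z ^ p := ⟨_, rfl⟩
  have hπt : (QuotientGroup.mk t : N ⧸ A) = zb := by
    rw [ht, QuotientGroup.mk_pow, hz, hk, pow_succ, pow_mul, pow_two, hzb2, one_pow, one_mul]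
  have hz2A : z * z ∈ A := by
    rw [← QuotientGroup.eq_one_iff, QuotientGroup.mk_mul, hz, hzb2]
  have ht2 : t * t = 1 := by
    rw [ht, ← pow_add, ← two_mul, pow_mul, pow_two]; exact hApow _ hz2A
  have htinv : t⁻¹ = t := inv_eq_of_mul_eq_one_left ht2
  have htA : t ∉ A := by
    intro h
    apply hzb1
    rw [← hπt]; exact (QuotientGroup.eq_one_iff t).2 h
  have hcent : ∀ n : N, n * t * n⁻¹ * t⁻¹ ∈ A := by
    intro n
    rw [← QuotientGroup.eq_one_iff]
    simp only [QuotientGroup.mk_mul, QuotientGroup.mk_inv, hπt]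
    rw [hzb_c]; group
  have hAn : ∀ n : N, ∀ a ∈ A, n * a * n⁻¹ ∈ A := fun n a ha =>
    (inferInstance : A.Normal).conj_mem a ha n
  have hτ : ∀ n : N, ∀ x ∈ A, t * (n * x * n⁻¹) * t⁻¹ = n * (t * x * t⁻¹) * n⁻¹ := by
    intro n x hx
    have ha₁ : n⁻¹ * t * n * t⁻¹ ∈ A := by simpa using hcent n⁻¹
    have hy : t * x * t⁻¹ ∈ A := hAn t x hx
    have hc := hAc _ ha₁ _ hy
    calc t * (n * x * n⁻¹) * t⁻¹
        = n * ((n⁻¹ * t * n * t⁻¹) * (t * x * t⁻¹) * (n⁻¹ * t * n * t⁻¹)⁻¹) * n⁻¹ := by group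
      _ = n * ((t * x * t⁻¹) * (n⁻¹ * t * n * t⁻¹) * (n⁻¹ * t * n * t⁻¹)⁻¹) * n⁻¹ := by rw [hc]
      _ = n * (t * x * t⁻¹) * n⁻¹ := by group
  have hττ : ∀ x : N, t * (t * x * t⁻¹) * t⁻¹ = x := by
    intro x
    calc t * (t * x * t⁻¹) * t⁻¹ = (t * t) * x * (t * t)⁻¹ := by group
      _ = x := by rw [ht2]; group
  -- the subgroups C = C_A(t) and M = inverted elements
  let C : Subgroup N := A ⊓ Subgroup.centralizer {t}
  let M : Subgroup N :=
    { carrier := {a | a ∈ A ∧ t * a * t⁻¹ = a⁻¹}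
      one_mem' := ⟨A.one_mem, by simp⟩
      mul_mem' := by
        rintro a b ⟨ha, ha'⟩ ⟨hb, hb'⟩
        refine ⟨A.mul_mem ha hb, ?_⟩
        have e1 : t * (a * b) * t⁻¹ = (t * a * t⁻¹) * (t * b * t⁻¹) := by group
        rw [e1, ha', hb', mul_inv_rev, hAc _ (A.inv_mem ha) _ (A.inv_mem hb)]
      inv_mem' := by
        rintro a ⟨ha, ha'⟩
        refine ⟨A.inv_mem ha, ?_⟩
        have e1 : t * a⁻¹ * t⁻¹ = (t * a * t⁻¹)⁻¹ := by group
        rw [e1, ha'] }
  have hCA : C ≤ A := inf_le_left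
  have hMA : M ≤ A := fun m hm => hm.1
  have hCmem : ∀ x, x ∈ C ↔ x ∈ A ∧ t * x * t⁻¹ = x := by
    intro x
    show x ∈ A ⊓ Subgroup.centralizer {t} ↔ _
    rw [Subgroup.mem_inf, Subgroup.mem_centralizer_iff]
    constructor
    · rintro ⟨hx, h⟩
      exact ⟨hx, by rw [h t rfl]; group⟩
    · rintro ⟨hx, h⟩
      refine ⟨hx, ?_⟩
      intro y hy
      rw [Set.mem_singleton_iff] at hy
      subst hy
      exact mul_inv_eq_iff_eq_mul.1 h
  have hMmem : ∀ x, x ∈ M ↔ x ∈ A ∧ t * x * t⁻¹ = x⁻¹ := fun x => Iff.rfl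
  -- decomposition of squares
  have hdec : ∀ a ∈ A, a * (t * a * t⁻¹) ∈ C ∧ a * (t * a * t⁻¹)⁻¹ ∈ M := by
    intro a ha
    have hy : t * a * t⁻¹ ∈ A := hAn t a ha
    constructor
    · rw [hCmem]
      refine ⟨A.mul_mem ha hy, ?_⟩
      have e1 : t * (a * (t * a * t⁻¹)) * t⁻¹ = (t * a * t⁻¹) * (t * (t * a * t⁻¹) * t⁻¹) := by group
      rw [e1, hττ, hAc _ hy _ ha]
    · rw [hMmem]
      refine ⟨A.mul_mem ha (A.inv_mem hy), ?_⟩
      have e1 : t * (a * (t * a * t⁻¹)⁻¹) * t⁻¹ = (t * a * t⁻¹) * (t * (t * a * t⁻¹) * t⁻¹)⁻¹ := by group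
      rw [e1, hττ, mul_inv_rev, inv_inv]
  have hsqdec : ∀ a ∈ A, a * a = (a * (t * a * t⁻¹)) * (a * (t * a * t⁻¹)⁻¹) := by
    intro a ha
    have hy : t * a * t⁻¹ ∈ A := hAn t a ha
    have := hAc _ hy _ ha
    calc a * a = a * (a * (t * a * t⁻¹)) * (t * a * t⁻¹)⁻¹ := by group
      _ = a * ((t * a * t⁻¹) * a) * (t * a * t⁻¹)⁻¹ := by rw [this]
      _ = (a * (t * a * t⁻¹)) * (a * (t * a * t⁻¹)⁻¹) := by group
  have hroot : ∀ a ∈ A, ∃ b ∈ A, b * b = a := by
    intro a ha
    refine ⟨a ^ (k + 1), A.pow_mem ha _, ?_⟩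
    have := hApow a ha
    rw [← pow_add, show k + 1 + (k + 1) = p + 1 by omega, pow_succ, this, one_mul]
  -- normality
  have hCn : C.Normal := by
    refine ⟨fun c hc n => ?_⟩
    rw [hCmem] at hc ⊢
    exact ⟨hAn n c hc.1, by rw [hτ n c hc.1, hc.2]⟩
  have hMn : M.Normal := by
    refine ⟨fun m hm n => ?_⟩
    rw [hMmem] at hm ⊢
    refine ⟨hAn n m hm.1, ?_⟩
    rw [hτ n m hm.1, hm.2]; group
  -- C is trivial
  have hCbot : C = ⊥ := by
    by_contra hC
    -- all commutators lie in A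
    have hcommA : ∀ n₁ n₂ : N, n₁ * n₂ * n₁⁻¹ * n₂⁻¹ ∈ A := by
      by_cases hM : M = ⊥
      · exfalso
        apply htA
        rw [← hAself, Subgroup.mem_centralizer_iff]
        intro a ha
        have h1 := (hdec a ha).2
        rw [hM, Subgroup.mem_bot] at h1
        have h2 : a = t * a * t⁻¹ := by
          have := congrArg (fun x => x * (t * a * t⁻¹)) h1
          simpa [mul_assoc] using this
        have := congrArg (fun x => x * t) h2
        simpa [mul_assoc] using this
      · have hdisj : Disjoint C M := by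
          rw [Subgroup.disjoint_def]
          intro x hxC hxM
          rw [hCmem] at hxC
          rw [hMmem] at hxM
          apply hsq1 x hxC.1
          have : x = x⁻¹ := hxC.2.symm.trans hxM.2
          calc x * x = x * x⁻¹ := by rw [← this]
            _ = 1 := mul_inv_cancel x
        have hinj := Subgroup.mul_injective_of_disjoint hdisj
        have hle : Nat.card C * Nat.card M ≤ p ^ 2 := by
          rw [← hAcard, ← Nat.card_prod]
          apply Nat.card_le_card_of_injective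
            (fun x : C × M => (⟨x.1 * x.2, A.mul_mem (hCA x.1.2) (hMA x.2.2)⟩ : A))
          intro x y hxy
          apply hinj
          exact congrArg Subtype.val hxy
        obtain ⟨i, hi, hCi⟩ := (Nat.dvd_prime_pow hpp).1 (hAcard ▸ Subgroup.card_dvd_of_le hCA)
        obtain ⟨j, hj, hMj⟩ := (Nat.dvd_prime_pow hpp).1 (hAcard ▸ Subgroup.card_dvd_of_le hMA)
        have hi0 : i ≠ 0 := by
          rintro rfl
          rw [pow_zero] at hCi
          exact hC (Subgroup.card_eq_one.1 hCi)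
        have hj0 : j ≠ 0 := by
          rintro rfl
          rw [pow_zero] at hMj
          exact hM (Subgroup.card_eq_one.1 hMj)
        rw [hCi, hMj, ← pow_add] at hle
        have hij : i + j ≤ 2 := (Nat.pow_le_pow_iff_right hpp.one_lt).1 hle
        have hi1 : i = 1 := by omega
        have hj1 : j = 1 := by omega
        haveI : IsCyclic C := isCyclic_of_prime_card (p := p) (by rw [hCi, hi1, pow_one])
        haveI : IsCyclic M := isCyclic_of_prime_card (p := p) (by rw [hMj, hj1, pow_one])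
        intro n₁ n₂
        rw [← hAself, Subgroup.mem_centralizer_iff]
        intro a ha
        obtain ⟨b, hb, rfl⟩ := hroot a ha
        rw [hsqdec b hb]
        have h1 := commutator_centralizes_cyclic_normal C n₁ n₂ (hdec b hb).1
        have h2 := commutator_centralizes_cyclic_normal M n₁ n₂ (hdec b hb).2
        rw [mul_assoc, ← h2, ← mul_assoc, ← h1, mul_assoc]
    obtain ⟨u, v, huv⟩ := sl2_not_comm F
    obtain ⟨n₁, hn₁⟩ := QuotientGroup.mk_surjective (e.symm u)
    obtain ⟨n₂, hn₂⟩ := QuotientGroup.mk_surjective (e.symm v)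
    apply huv
    have h := hcommA n₁ n₂
    rw [← QuotientGroup.eq_one_iff] at h
    simp only [QuotientGroup.mk_mul, QuotientGroup.mk_inv, hn₁, hn₂] at h
    have h' := congrArg e h
    simp only [map_mul, map_inv, e.apply_symm_apply, map_one] at h'
    have := congrArg (fun x => x * v * u) h'
    simpa [mul_assoc] using this
  refine ⟨Subgroup.centralizer {t}, ?_, ?_⟩
  · exact hCbot
  · rw [eq_top_iff]
    intro n _
    have ha₀ : n * t * n⁻¹ * t⁻¹ ∈ A := hcent n
    obtain ⟨b, hb, hbb⟩ := hroot _ ha₀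
    have h1 : b * (t * b * t⁻¹) = 1 := by
      have := (hdec b hb).1
      rw [hCbot, Subgroup.mem_bot] at this
      exact this
    have h2 : b * (t * b * t⁻¹)⁻¹ = n * t * n⁻¹ * t⁻¹ := by
      rw [← hbb, hsqdec b hb, h1, one_mul]
    have h3 : b * t * b⁻¹ = n * t * n⁻¹ := by
      have := congrArg (fun x => x * t) h2
      simpa [mul_assoc] using this
    have hmem : b⁻¹ * n ∈ Subgroup.centralizer ({t} : Set N) := by
      rw [Subgroup.mem_centralizer_iff]
      intro y hy
      rw [Set.mem_singleton_iff] at hy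
      subst hy
      calc y * (b⁻¹ * n) = b⁻¹ * (b * y * b⁻¹) * n := by group
        _ = b⁻¹ * (n * y * n⁻¹) * n := by rw [h3]
        _ = b⁻¹ * n * y := by group
    have : n = b * (b⁻¹ * n) := by group
    rw [this]
    exact Subgroup.mul_mem_sup hb hmem

end Cfsg.Agent.S3075
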