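import Cfsg.Statements.S3076
import Cfsg.Agent.Lib.Helper11.AG4

set_option autoImplicit false
open Cfsg

namespace Cfsg.Agent.S3076

open Cfsg.Agent.Lib.Helper29 Cfsg.Agent.Lib.Helper1 Cfsg.Agent.Lib.Helper2
open Cfsg.Agent.Lib.Helper11.AG

section pre

variable {G : Type*} [Group G]

/-- The preimage in `N` of `O_p(N/C)`, as a subgroup of `G`. -/
def pre (p : ℕ) (N C : Subgroup G) [hC : (C.subgroupOf N).Normal] : Subgroup G :=
  ((Cfsg.pCore p (↥N ⧸ C.subgroupOf N)).comap (QuotientGroup.mk' _)).map N.subtype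

theorem pre_le (p : ℕ) (N C : Subgroup G) [hC : (C.subgroupOf N).Normal] : pre p N C ≤ N :=
  Subgroup.map_subtype_le _

theorem le_pre (p : ℕ) (N C : Subgroup G) [hC : (C.subgroupOf N).Normal] (hCN : C ≤ N) :
    C ≤ pre p N C := by
  intro c hc
  refine ⟨⟨c, hCN hc⟩, ?_, rfl⟩
  rw [SetLike.mem_coe, Subgroup.mem_comap]
  have : (QuotientGroup.mk' (C.subgroupOf N)) ⟨c, hCN hc⟩ = 1 := by
    rw [QuotientGroup.mk'_apply, QuotientGroup.eq_one_iff]
    exact Subgroup.mem_subgroupOf.mpr hc
  rw [this]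
  exact one_mem _

theorem le_normalizer_pre [Finite G] (p : ℕ) (N C : Subgroup G) [hC : (C.subgroupOf N).Normal] :
    N ≤ Subgroup.normalizer ((pre p N C : Subgroup G) : Set G) := by
  apply le_normalizer_map_subtype N
  haveI := Cfsg.Agent.Lib.Helper2.pCore_normal (G := ↥N ⧸ C.subgroupOf N) p
  exact Subgroup.Normal.comap inferInstance _

theorem pre_pow_mem [Finite G] {p : ℕ} [Fact p.Prime] (N C : Subgroup G)
    [hC : (C.subgroupOf N).Normal] :
    ∀ x ∈ pre p N C, ∃ a : ℕ, x ^ (p ^ a) ∈ C := by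
  rintro _ ⟨x, hx, rfl⟩
  rw [SetLike.mem_coe, Subgroup.mem_comap] at hx
  have hpg : IsPGroup p (Cfsg.pCore p (↥N ⧸ C.subgroupOf N)) :=
    Cfsg.Agent.Lib.Helper2.pCore_isPGroup p
  obtain ⟨a, ha⟩ := hpg ⟨_, hx⟩
  refine ⟨a, ?_⟩
  have h1 : ((QuotientGroup.mk' (C.subgroupOf N)) x) ^ (p ^ a) = 1 := by
    have := congrArg Subtype.val ha
    simpa using this
  rw [← map_pow, QuotientGroup.mk'_apply, QuotientGroup.eq_one_iff] at h1
  have := Subgroup.mem_subgroupOf.mp h1
  simpa using this

theorem le_pre_of_pow_mem [Finite G] {p : ℕ} [Fact p.Prime] {N C D : Subgroup G}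
    [hC : (C.subgroupOf N).Normal] (hDN : D ≤ N)
    (hnorm : N ≤ Subgroup.normalizer (D : Set G))
    (hpow : ∀ x ∈ D, ∃ a : ℕ, x ^ (p ^ a) ∈ C) : D ≤ pre p N C := by
  have hn : (D.subgroupOf N).Normal := Subgroup.normal_subgroupOf_of_le_normalizer hnorm
  have h1 : D.subgroupOf N ≤ (Cfsg.pCore p (↥N ⧸ C.subgroupOf N)).comap (QuotientGroup.mk' _) := by
    rw [← Subgroup.map_le_iff_le_comap]
    apply Cfsg.Agent.Lib.Helper2.le_pCore
    · exact Subgroup.Normal.map hn _ (QuotientGroup.mk'_surjective _)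
    · rintro ⟨_, ⟨x, hx, rfl⟩⟩
      obtain ⟨a, ha⟩ := hpow (x : G) (Subgroup.mem_subgroupOf.mp hx)
      refine ⟨a, ?_⟩
      apply Subtype.ext
      simp only [Subgroup.coe_pow, Subgroup.coe_one]
      rw [← map_pow, QuotientGroup.mk'_apply, QuotientGroup.eq_one_iff]
      apply Subgroup.mem_subgroupOf.mpr
      simpa using ha
  have h2 := Subgroup.map_mono (f := N.subtype) h1
  rwa [Subgroup.map_subgroupOf_eq_of_le hDN] at h2

theorem le_oppp_of_pow_mem [Finite G] {p : ℕ} [Fact p.Prime] {N D : Subgroup G} (hDN : D ≤ N)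
    (hnorm : N ≤ Subgroup.normalizer (D : Set G))
    (hpow : ∀ x ∈ D, ∃ a : ℕ, x ^ (p ^ a) ∈ opp p N) : D ≤ oppp p N := by
  have hn : (D.subgroupOf N).Normal := Subgroup.normal_subgroupOf_of_le_normalizer hnorm
  have h1 : D.subgroupOf N ≤ Cfsg.pPrimePCore p ↥N := by
    unfold Cfsg.pPrimePCore
    rw [← Subgroup.map_le_iff_le_comap]
    apply Cfsg.Agent.Lib.Helper2.le_pCore
    · exact Subgroup.Normal.map hn _ (QuotientGroup.mk'_surjective _)
    · rintro ⟨_, ⟨x, hx, rfl⟩⟩
      obtain ⟨a, y, hy, hya⟩ := hpow (x : G) (Subgroup.mem_subgroupOf.mp hx)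
      refine ⟨a, ?_⟩
      apply Subtype.ext
      simp only [Subgroup.coe_pow, Subgroup.coe_one]
      rw [← map_pow, QuotientGroup.mk'_apply, QuotientGroup.eq_one_iff]
      have : y = x ^ (p ^ a) := Subtype.ext (by simpa using hya)
      rw [← this]
      exact hy
  have h2 := Subgroup.map_mono (f := N.subtype) h1
  rwa [Subgroup.map_subgroupOf_eq_of_le hDN] at h2

end pre

/-- Let P be a Sylow p-subgroup of the finite group G and H ≤ P a subgroup with N_P(H) a Sylow p-subgroup of N_G(H). Let N be the preimage in N_G(H) of O_p(N_G(H)/C_G(H)). Then H is a Sylow p-subgroup of N if and only if C_P(H) ≤ H and O_{p',p}(N_G(H)) = H·C_G(H). -/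
theorem result {G : Type*} [Group G] [Finite G] {p : ℕ} [Fact p.Prime]
    (P : Sylow p G) (H : Subgroup G) (hHP : H ≤ (P : Subgroup G))
    (hSyl : ¬ p ∣ ((P : Subgroup G) ⊓ Subgroup.normalizer (H : Set G)).relIndex (Subgroup.normalizer (H : Set G)))
    [hC : ((Subgroup.centralizer (H : Set G)).subgroupOf (Subgroup.normalizer (H : Set G))).Normal] :
    (H ≤ ((Cfsg.pCore p (↥(Subgroup.normalizer (H : Set G)) ⧸
              (Subgroup.centralizer (H : Set G)).subgroupOf (Subgroup.normalizer (H : Set G)))).comap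
            (QuotientGroup.mk' _)).map (Subgroup.normalizer (H : Set G)).subtype ∧
      ¬ p ∣ H.relIndex (((Cfsg.pCore p (↥(Subgroup.normalizer (H : Set G)) ⧸
              (Subgroup.centralizer (H : Set G)).subgroupOf (Subgroup.normalizer (H : Set G)))).comap
            (QuotientGroup.mk' _)).map (Subgroup.normalizer (H : Set G)).subtype)) ↔
    ((P : Subgroup G) ⊓ Subgroup.centralizer (H : Set G) ≤ H ∧
      (Cfsg.pPrimePCore p ↥(Subgroup.normalizer (H : Set G))).map (Subgroup.normalizer (H : Set G)).subtype =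
        H ⊔ Subgroup.centralizer (H : Set G)) := by
  classical
  have hHp : IsPGroup p H := P.isPGroup'.to_le hHP
  have hHN : H ≤ Subgroup.normalizer (H : Set G) := Subgroup.le_normalizer
  have hCN : Subgroup.centralizer (H : Set G) ≤ Subgroup.normalizer (H : Set G) :=
    Subgroup.centralizer_le_normalizer _
  have hR := isSylowSub_nP P hSyl
  have hRN : (P : Subgroup G) ⊓ Subgroup.normalizer (H : Set G) ≤
      Subgroup.normalizer (H : Set G) := inf_le_right
  have hHR : H ≤ (P : Subgroup G) ⊓ Subgroup.normalizer (H : Set G) := le_inf hHP hHN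
  have hYC : opp p (Subgroup.normalizer (H : Set G)) ≤ Subgroup.centralizer (H : Set G) :=
    opp_le_centralizer hHp
  have hHK : H ≤ oppp p (Subgroup.normalizer (H : Set G)) := le_oppp hHN le_rfl hHp
  have hKM : oppp p (Subgroup.normalizer (H : Set G)) ≤
      pre p (Subgroup.normalizer (H : Set G)) (Subgroup.centralizer (H : Set G)) :=
    le_pre_of_pow_mem (oppp_le p _) (le_normalizer_oppp p _)
      (fun x hx => by
        obtain ⟨a, ha⟩ := oppp_pow_mem _ x hx
        exact ⟨a, hYC ha⟩)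
  have hHM := hHK.trans hKM
  have hCM := le_pre p (Subgroup.normalizer (H : Set G)) (Subgroup.centralizer (H : Set G)) hCN
  have hHcent : H ≤ Subgroup.centralizer
      ((Subgroup.centralizer (H : Set G) : Subgroup G) : Set G) := by
    intro x hx
    rw [Subgroup.mem_centralizer_iff]
    intro c hc
    exact (Subgroup.mem_centralizer_iff.mp hc x hx).symm
  have hBurn : ((P : Subgroup G) ⊓ Subgroup.normalizer (H : Set G)) ⊓
      Subgroup.centralizer (H : Set G) ≤ H →
      Subgroup.centralizer (H : Set G) ≤ H ⊔ opp p (Subgroup.normalizer (H : Set G)) := by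
    intro hRC
    have hB := le_sup_opp_of_central hR hRN hCN (normalizer_le_normalizer_centralizer H)
      (hRC.trans hHcent)
    exact hB.trans (sup_le_sup_right hRC _)
  have hPC : (P : Subgroup G) ⊓ Subgroup.centralizer (H : Set G) ≤ H →
      ((P : Subgroup G) ⊓ Subgroup.normalizer (H : Set G)) ⊓
      Subgroup.centralizer (H : Set G) ≤ H := fun h => (inf_le_inf_right _ inf_le_left).trans h
  change (H ≤ pre p (Subgroup.normalizer (H : Set G)) (Subgroup.centralizer (H : Set G)) ∧
      ¬ p ∣ H.relIndex (pre p (Subgroup.normalizer (H : Set G))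
        (Subgroup.centralizer (H : Set G)))) ↔
    ((P : Subgroup G) ⊓ Subgroup.centralizer (H : Set G) ≤ H ∧
      oppp p (Subgroup.normalizer (H : Set G)) = H ⊔ Subgroup.centralizer (H : Set G))
  constructor
  · rintro ⟨-, hnd⟩
    have hHS : IsSylowSub p H (pre p (Subgroup.normalizer (H : Set G))
        (Subgroup.centralizer (H : Set G))) :=
      Cfsg.Agent.Lib.Helper1.isSylowSub_of_not_dvd_relIndex hHM hHp hnd
    have hRM := isSylowSub_inf_of_normalized hR hRN (pre_le p _ _)
      (le_normalizer_pre p (Subgroup.normalizer (H : Set G)) (Subgroup.centralizer (H : Set G)))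
    have heq : H = ((P : Subgroup G) ⊓ Subgroup.normalizer (H : Set G)) ⊓
        pre p (Subgroup.normalizer (H : Set G)) (Subgroup.centralizer (H : Set G)) := by
      apply Subgroup.eq_of_le_of_card_ge (le_inf hHR hHM)
      rw [((isSylowSub_iff hHM).1 hHS).2, ((isSylowSub_iff inf_le_right).1 hRM).2]
    have h1 : (P : Subgroup G) ⊓ Subgroup.centralizer (H : Set G) ≤ H := by
      intro x hx
      rw [heq]
      exact ⟨⟨hx.1, hCN hx.2⟩, hCM hx.2⟩
    have hCHY := hBurn (hPC h1)
    have hMle := le_sup_of_pow_mem hHS hHM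
      ((pre_le p _ _).trans (normalizer_le_normalizer_centralizer H))
      (pre_pow_mem (Subgroup.normalizer (H : Set G)) (Subgroup.centralizer (H : Set G)))
    have hMHC : pre p (Subgroup.normalizer (H : Set G)) (Subgroup.centralizer (H : Set G)) ≤
        H ⊔ Subgroup.centralizer (H : Set G) := hMle.trans (sup_le_sup_left inf_le_left _)
    refine ⟨h1, le_antisymm (hKM.trans hMHC) (sup_le hHK ?_)⟩
    exact hCHY.trans (sup_le hHK (opp_le_oppp p _))
  · rintro ⟨h1, h2⟩
    have hCHY := hBurn (hPC h1)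
    have hCK : Subgroup.centralizer (H : Set G) ≤ oppp p (Subgroup.normalizer (H : Set G)) := by
      rw [h2]; exact le_sup_right
    have hMK : pre p (Subgroup.normalizer (H : Set G)) (Subgroup.centralizer (H : Set G)) ≤
        oppp p (Subgroup.normalizer (H : Set G)) := by
      apply le_oppp_of_pow_mem (pre_le p _ _) (le_normalizer_pre p _ _)
      intro x hx
      obtain ⟨a, ha⟩ := pre_pow_mem _ _ x hx
      obtain ⟨b, hb⟩ := oppp_pow_mem _ _ (hCK ha)
      exact ⟨a + b, by rw [pow_add, pow_mul]; exact hb⟩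
    have hMeq : pre p (Subgroup.normalizer (H : Set G)) (Subgroup.centralizer (H : Set G)) =
        oppp p (Subgroup.normalizer (H : Set G)) := le_antisymm hMK hKM
    have hRK := isSylowSub_inf_of_normalized hR hRN (oppp_le p _) (le_normalizer_oppp p _)
    have hRKeq : ((P : Subgroup G) ⊓ Subgroup.normalizer (H : Set G)) ⊓
        oppp p (Subgroup.normalizer (H : Set G)) = H := by
      apply le_antisymm _ (le_inf hHR hHK)
      rintro x ⟨hxR, hxK⟩
      rw [SetLike.mem_coe, h2] at hxK
      obtain ⟨h, hh, c, hc, rfl⟩ := mem_sup_of_le_normalizer (hHN.trans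
        (normalizer_le_normalizer_centralizer H)) hxK
      have hcR : c ∈ (P : Subgroup G) ⊓ Subgroup.normalizer (H : Set G) := by
        have := Subgroup.mul_mem _ (Subgroup.inv_mem _ (hHR hh)) hxR
        rwa [inv_mul_cancel_left] at this
      exact H.mul_mem hh (hPC h1 ⟨hcR, hc⟩)
    rw [hRKeq] at hRK
    refine ⟨hHM, ?_⟩
    rw [hMeq]
    obtain ⟨S, hS⟩ := hRK
    have := S.not_dvd_index
    rw [hS] at this
    exact this

end Cfsg.Agent.S3076
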