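import Cfsg.Statements.S3078
import Mathlib
import Cfsg.Agent.S0649
import Cfsg.Agent.S0650

set_option autoImplicit false
open Cfsg
open scoped commutatorElement

namespace Cfsg.Agent.S3078

variable {G : Type*} [Group G]

theorem mem_normalizer_subgroupOf_iff (A K : Subgroup G) (hAK : A ≤ K) (k : K) :
    k ∈ Subgroup.normalizer ((A.subgroupOf K : Subgroup K) : Set K) ↔
      (k : G) ∈ Subgroup.normalizer (A : Set G) := by
  rw [Subgroup.mem_normalizer_iff, Subgroup.mem_normalizer_iff]
  constructor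
  · intro h g
    constructor
    · intro hg
      have := (h ⟨g, hAK hg⟩).mp (by rw [Subgroup.mem_subgroupOf]; exact hg)
      rw [Subgroup.mem_subgroupOf] at this
      simpa using this
    · intro hg
      have hgK : g ∈ K := by
        have e : g = (k : G)⁻¹ * ((k : G) * g * (k : G)⁻¹) * (k : G) := by group
        rw [e]
        exact K.mul_mem (K.mul_mem (K.inv_mem k.2) (hAK hg)) k.2
      have := (h ⟨g, hgK⟩).mpr (by rw [Subgroup.mem_subgroupOf]; simpa using hg)
      rw [Subgroup.mem_subgroupOf] at this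
      exact this
  · intro h g
    rw [Subgroup.mem_subgroupOf, Subgroup.mem_subgroupOf]
    have := h (g : G)
    simpa using this

theorem omegaOne_map (p : ℕ) {K : Type*} [Group K] (f : K →* G) (hf : Function.Injective f)
    (X : Subgroup K) : (Cfsg.omegaOne p X).map f = Cfsg.omegaOne p (X.map f) := by
  unfold Cfsg.omegaOne
  rw [MonoidHom.map_closure]
  congr 1
  ext y
  constructor
  · rintro ⟨x, ⟨hx, hxp⟩, rfl⟩
    exact ⟨⟨x, hx, rfl⟩, by rw [← map_pow, hxp, map_one]⟩
  · rintro ⟨⟨x, hx, rfl⟩, hyp⟩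
    refine ⟨x, ⟨hx, ?_⟩, rfl⟩
    apply hf
    rw [map_pow, hyp, map_one]

theorem result {G : Type*} [Group G] [Finite G] {p : ℕ} [Fact p.Prime] (hp : p ≠ 2) (hG : IsPGroup p G) (A B : Subgroup G) (hA : IsMulCommutative A) (hB2 : ⁅⁅B, B⁆, B⁆ = ⊥) (hBA : ⁅B, B⁆ ≤ A) (hAB : A ≤ Subgroup.normalizer (B : Set G)) (hBnA : ¬ B ≤ Subgroup.normalizer (A : Set G)) : ∃ Astar : Subgroup G, IsMulCommutative Astar ∧ Nat.card Astar = Nat.card A ∧ A ⊓ B < Astar ⊓ B ∧ Astar ≤ Subgroup.normalizer (A : Set G) ∧ Astar ≤ Subgroup.normalClosure (A : Set G) ∧ Monoid.exponent Astar ∣ Monoid.exponent A ∧ Nat.card (Cfsg.omegaOne p A) ≤ Nat.card (Cfsg.omegaOne p Astar) := by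
  set K : Subgroup G := A ⊔ B with hKdef
  have hAK : A ≤ K := le_sup_left
  have hBK : B ≤ K := le_sup_right
  have hKN : K ≤ Subgroup.normalizer (B : Set G) := sup_le hAB Subgroup.le_normalizer
  set A' : Subgroup K := A.subgroupOf K with hA'def
  set B' : Subgroup K := B.subgroupOf K with hB'def
  haveI hB'n : B'.Normal := (Subgroup.normal_subgroupOf_iff_le_normalizer hBK).mpr hKN
  have hK : IsPGroup p K := hG.to_subgroup K
  haveI hA'c : IsMulCommutative A' := by
    haveI := hA
    rw [hA'def]; infer_instance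
  have hinj : Function.Injective K.subtype := K.subtype_injective
  have hmapA : A'.map K.subtype = A := Subgroup.map_subgroupOf_eq_of_le hAK
  have hmapB : B'.map K.subtype = B := Subgroup.map_subgroupOf_eq_of_le hBK
  have hB'A' : ⁅B', B'⁆ ≤ A' := by
    rw [Subgroup.commutator_le]
    intro g₁ h₁ g₂ h₂
    rw [hA'def, Subgroup.mem_subgroupOf]
    have e : ((⁅g₁, g₂⁆ : K) : G) = ⁅(g₁ : G), (g₂ : G)⁆ := by
      simp [commutatorElement_def]
    rw [e]
    exact hBA (Subgroup.commutator_mem_commutator h₁ h₂)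
  have hnot' : ¬ B' ≤ Subgroup.normalizer (A' : Set K) := by
    intro h
    apply hBnA
    intro b hb
    have hb' : (⟨b, hBK hb⟩ : K) ∈ B' := by
      rw [hB'def, Subgroup.mem_subgroupOf]; exact hb
    have := h hb'
    rw [hA'def, mem_normalizer_subgroupOf_iff A K hAK] at this
    exact this
  obtain ⟨b, hb, hbN, hbA⟩ :=
    Cfsg.Agent.S0649.result hK B' (fun h => absurd h hp) A' hA'c hB'A' hnot'
  obtain ⟨C1, C2, -, C4, -, -, C7, -, -, C10, C11, C12⟩ :=
    Cfsg.Agent.S0650.main hK B' (fun h => absurd h hp) A' hA'c hB'A' hnot' b⁻¹ (B'.inv_mem hb)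
      (inv_mem hbN) (fun h => hbA (by simpa using inv_mem h)) _ rfl
  set Astar' : Subgroup K := (A' ⊓ A'.map (MulAut.conj b⁻¹).toMonoidHom) ⊔
    Subgroup.closure {g : K | ∃ a ∈ A', g = a * b⁻¹ * a⁻¹ * b⁻¹⁻¹} with hAstar'
  refine ⟨Astar'.map K.subtype, ?_, ?_, ?_, ?_, ?_, ?_, ?_⟩
  · haveI := C2
    exact Subgroup.map_isMulCommutative _ _
  · rw [Subgroup.card_map_of_injective hinj, C1]
    exact Nat.card_congr (Subgroup.subgroupOfEquivOfLe hAK).toEquiv
  · have := (Subgroup.map_lt_map_iff_of_injective hinj).mpr C4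
    rw [Subgroup.map_inf_eq _ _ _ hinj, Subgroup.map_inf_eq _ _ _ hinj, hmapA, hmapB] at this
    exact this
  · rintro _ ⟨w, hw, rfl⟩
    have := C7 hw
    rw [hA'def, mem_normalizer_subgroupOf_iff A K hAK] at this
    exact this
  · refine (Subgroup.map_mono C11).trans ?_
    rw [Subgroup.map_le_iff_le_comap]
    apply sup_le
    · intro a ha
      rw [Subgroup.mem_comap]
      rw [hA'def, Subgroup.mem_subgroupOf] at ha
      exact Subgroup.le_normalClosure ha
    · rintro _ ⟨a, ha0, rfl⟩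
      rw [Subgroup.mem_comap]
      have ha : a ∈ A.subgroupOf K := ha0
      rw [Subgroup.mem_subgroupOf] at ha
      have hn : (Subgroup.normalClosure (A : Set G)).Normal := Subgroup.normalClosure_normal
      have := hn.conj_mem (a : G) (Subgroup.le_normalClosure ha) ((b⁻¹ : K) : G)
      simpa [MulAut.conj_apply] using this
  · have e1 : Monoid.exponent ↥(Astar'.map K.subtype) = Monoid.exponent Astar' :=
      (Monoid.exponent_eq_of_mulEquiv (Subgroup.equivMapOfInjective Astar' K.subtype hinj)).symm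
    have e2 : Monoid.exponent A' = Monoid.exponent A :=
      Monoid.exponent_eq_of_mulEquiv (Subgroup.subgroupOfEquivOfLe hAK)
    rw [e1, ← e2]
    exact C10 hp
  · have h1 := C12 hp
    have e1 : Nat.card (Cfsg.omegaOne p (Astar'.map K.subtype)) =
        Nat.card (Cfsg.omegaOne p Astar') := by
      rw [← omegaOne_map p K.subtype hinj, Subgroup.card_map_of_injective hinj]
    have e2 : Nat.card (Cfsg.omegaOne p A) = Nat.card (Cfsg.omegaOne p A') := by
      rw [← hmapA, ← omegaOne_map p K.subtype hinj, Subgroup.card_map_of_injective hinj]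
    rw [e1, e2]
    exact h1

end Cfsg.Agent.S3078
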