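import Cfsg.Statements.S3087
import Mathlib

set_option autoImplicit false
open Cfsg

namespace Cfsg.Agent.S3087

section aux

variable {G V : Type*} [Group G] [AddCommGroup V] (p : ℕ) [Module (ZMod p) V]
  (ρ : Representation (ZMod p) G V) (W : Submodule (ZMod p) V)

/-- The fixed points of `X` on `V`, as an additive subgroup. -/
def fixV (X : Subgroup G) : AddSubgroup V where
  carrier := {v | ∀ x ∈ X, ρ x v = v}
  zero_mem' := fun x _ => map_zero _
  add_mem' := fun {a b} ha hb x hx => by rw [map_add, ha x hx, hb x hx]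
  neg_mem' := fun {a} ha x hx => by rw [map_neg, ha x hx]

/-- The map from the fixed points of `X` to `V ⧸ W`. -/
def fixMap (X : Subgroup G) : ↥(fixV p ρ X) →+ V ⧸ W :=
  (W.mkQ.toAddMonoidHom).comp (fixV p ρ X).subtype

theorem card_fixV [Finite V] (X : Subgroup G) :
    Nat.card ↥(fixV p ρ X) = Nat.card (fixMap p ρ W X).range * Nat.card (fixMap p ρ W X).ker := by
  rw [AddSubgroup.card_eq_card_quotient_mul_card_addSubgroup (fixMap p ρ W X).ker]
  congr 1
  exact Nat.card_congr (QuotientAddGroup.quotientKerEquivRange (fixMap p ρ W X)).toEquiv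

theorem card_fixW (X : Subgroup G) :
    Nat.card {w : W // ∀ x ∈ X, ρ x w = w} = Nat.card (fixMap p ρ W X).ker := by
  apply Nat.card_congr
  refine
    { toFun := fun w => ⟨⟨(w.1 : V), w.2⟩, ?_⟩
      invFun := fun v => ⟨⟨(v.1 : V), ?_⟩, v.1.2⟩
      left_inv := fun w => rfl
      right_inv := fun v => rfl }
  · rw [AddMonoidHom.mem_ker]
    show W.mkQ (w.1 : V) = 0
    rw [Submodule.mkQ_apply, Submodule.Quotient.mk_eq_zero]
    exact w.1.2
  · have h := v.2
    rw [AddMonoidHom.mem_ker] at h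
    have h' : W.mkQ (v.1 : V) = 0 := h
    rwa [Submodule.mkQ_apply, Submodule.Quotient.mk_eq_zero] at h'

theorem range_fixMap_mono {X Y : Subgroup G} (h : X ≤ Y) :
    (fixMap p ρ W Y).range ≤ (fixMap p ρ W X).range := by
  rintro _ ⟨v, rfl⟩
  exact ⟨⟨v.1, fun x hx => v.2 x (h hx)⟩, rfl⟩

end aux

/-- Let p be a prime, G a finite group acting linearly on a finite vector space V over the field with p elements, W a G-invariant subspace, and A a subgroup of G with |A|·|C_V(A)| ≥ |B|·|C_V(B)| for every subgroup B of A. Then |A|·|C_W(A)| ≥ |B|·|C_W(B)| for every subgroup B of A that contains C_A(W); that is, the image of A in the group induced on W satisfies the same maximality condition. -/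
theorem result {G V : Type*} [Group G] [Finite G] [AddCommGroup V] [Finite V] (p : ℕ) [Fact p.Prime] [Module (ZMod p) V]
    (ρ : Representation (ZMod p) G V) (W : Submodule (ZMod p) V) (hW : ∀ g : G, ∀ w ∈ W, ρ g w ∈ W)
    (A : Subgroup G)
    (hP : ∀ B : Subgroup G, B ≤ A →
      Nat.card ↥B * Nat.card {v : V // ∀ b ∈ B, ρ b v = v} ≤ Nat.card ↥A * Nat.card {v : V // ∀ a ∈ A, ρ a v = v})
    (B : Subgroup G) (hBA : B ≤ A) (hCB : ∀ a ∈ A, (∀ w ∈ W, ρ a w = w) → a ∈ B) :
    Nat.card ↥B * Nat.card {w : W // ∀ b ∈ B, ρ b w = w} ≤ Nat.card ↥A * Nat.card {w : W // ∀ a ∈ A, ρ a w = w} := by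
  have h1 := hP B hBA
  have hA : Nat.card {v : V // ∀ a ∈ A, ρ a v = v} = Nat.card ↥(fixV p ρ A) := rfl
  have hB : Nat.card {v : V // ∀ b ∈ B, ρ b v = v} = Nat.card ↥(fixV p ρ B) := rfl
  rw [hA, hB, card_fixV p ρ W A, card_fixV p ρ W B] at h1
  rw [card_fixW p ρ W A, card_fixW p ρ W B]
  haveI : Finite (V ⧸ W) := Finite.of_surjective W.mkQ (Submodule.mkQ_surjective W)
  have hmono : Nat.card (fixMap p ρ W A).range ≤ Nat.card (fixMap p ρ W B).range :=
    AddSubgroup.card_le_of_le (range_fixMap_mono p ρ W hBA)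
  have hpos : 0 < Nat.card (fixMap p ρ W B).range := Nat.card_pos
  set b := Nat.card ↥B
  set a := Nat.card ↥A
  set kB := Nat.card (fixMap p ρ W B).ker
  set kA := Nat.card (fixMap p ρ W A).ker
  set rB := Nat.card (fixMap p ρ W B).range
  set rA := Nat.card (fixMap p ρ W A).range
  have h2 : b * kB * rB ≤ a * kA * rB := by
    calc b * kB * rB = b * (rB * kB) := by ring
      _ ≤ a * (rA * kA) := h1
      _ = a * kA * rA := by ring
      _ ≤ a * kA * rB := Nat.mul_le_mul_left _ hmono
  exact Nat.le_of_mul_le_mul_right h2 hpos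

end Cfsg.Agent.S3087
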