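import Mathlib
import Cfsg.Statements.S3116
import Cfsg.Agent.Lib.Helper12.QD
-- import your own Cfsg.Agent.* helpers here

set_option autoImplicit false
open Cfsg

namespace Cfsg.Agent.S3116

open Cfsg.Agent.Lib.Helper12.QD

/-- If a finite group has a cyclic subgroup `⟨x⟩` of index 2 and order `2 ^ n` such that all
elements outside have smaller order, its automorphism group is a 2-group. -/
theorem aut_isPGroup_of_cyclic_index_two {X : Type*} [Group X] [Finite X] (x : X) (n : ℕ)
    (hn : 0 < n) (hx : orderOf x = 2 ^ n) (hidx : (Subgroup.zpowers x).index = 2)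
    (hout : ∀ g : X, g ∉ Subgroup.zpowers x → orderOf g < 2 ^ n) : IsPGroup 2 (MulAut X) := by
  classical
  -- automorphisms preserve C
  have hpres : ∀ (α : MulAut X) (c : X), c ∈ Subgroup.zpowers x → α c ∈ Subgroup.zpowers x := by
    intro α c hc
    have hαx : α x ∈ Subgroup.zpowers x := by
      by_contra hcon
      have := hout _ hcon
      rw [MulEquiv.orderOf_eq, hx] at this
      exact lt_irrefl _ this
    rw [← mem_powers_iff_mem_zpowers] at hc
    obtain ⟨k, rfl⟩ := hc
    rw [map_pow]
    exact Subgroup.pow_mem _ hαx _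
  have hcard : Nat.card X = 2 ^ (n + 1) := by
    have := Subgroup.card_mul_index (Subgroup.zpowers x)
    rw [hidx, Nat.card_zpowers, hx] at this
    rw [← this, pow_succ]
  obtain ⟨y, hy⟩ : ∃ y : X, y ∉ Subgroup.zpowers x := by
    by_contra hcon
    push Not at hcon
    have : Subgroup.zpowers x = ⊤ := eq_top_iff.mpr fun g _ => hcon g
    rw [this, Subgroup.index_top] at hidx
    omega
  intro α
  refine ⟨(n - 1) + (n + 1), ?_⟩
  have hpow : (2 : ℕ) ^ ((n - 1) + (n + 1)) = Nat.totient (2 ^ n) * Nat.card X := by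
    rw [Nat.totient_prime_pow Nat.prime_two hn, hcard, pow_add]
    norm_num
  rw [hpow, pow_mul]
  set β := α ^ Nat.totient (2 ^ n) with hβ
  -- β fixes x
  have hβx : β x = x := by
    have hαx : α x ∈ Subgroup.zpowers x := hpres α x (Subgroup.mem_zpowers x)
    rw [← mem_powers_iff_mem_zpowers] at hαx
    obtain ⟨a, ha⟩ := hαx
    replace ha : x ^ a = α x := ha
    have hiter : ∀ m : ℕ, (α ^ m) x = x ^ (a ^ m) := by
      intro m
      induction m with
      | zero => simp
      | succ m ih =>
        rw [pow_succ', MulAut.mul_apply, ih, map_pow, ← ha, ← pow_mul, pow_succ']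
    have hcop : Nat.Coprime a (2 ^ n) := by
      have h1 : orderOf (x ^ a) = 2 ^ n := by
        rw [ha, MulEquiv.orderOf_eq, hx]
      rw [orderOf_pow, hx] at h1
      have hg : Nat.gcd (2 ^ n) a ∣ 2 ^ n := Nat.gcd_dvd_left _ _
      have hpos : 0 < Nat.gcd (2 ^ n) a := Nat.gcd_pos_of_pos_left _ (by positivity)
      have h2 : Nat.gcd (2 ^ n) a = 1 := by
        have h3 := Nat.div_mul_cancel hg
        rw [h1] at h3
        have : 2 ^ n * Nat.gcd (2 ^ n) a = 2 ^ n * 1 := by rw [h3, mul_one]
        exact Nat.eq_of_mul_eq_mul_left (by positivity) this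
      rw [Nat.coprime_comm]
      exact h2
    have hmod := Nat.ModEq.pow_totient hcop
    rw [hβ, hiter]
    have : x ^ (a ^ Nat.totient (2 ^ n)) = x ^ 1 := by
      rw [pow_eq_pow_iff_modEq, hx]
      exact hmod
    rw [this, pow_one]
  have hβC : ∀ c ∈ Subgroup.zpowers x, β c = c := by
    intro c hc
    rw [← mem_powers_iff_mem_zpowers] at hc
    obtain ⟨k, rfl⟩ := hc
    rw [map_pow, hβx]
  -- β y = w * y
  have hβy : β y ∉ Subgroup.zpowers x := by
    intro hmem
    apply hy
    have := hpres β⁻¹ _ hmem
    rwa [MulAut.inv_apply_self] at this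
  have hw : β y * y⁻¹ ∈ Subgroup.zpowers x := by
    rw [Subgroup.mul_mem_iff_of_index_two hidx]
    constructor
    · intro h; exact absurd h hβy
    · intro h; exact absurd ((Subgroup.inv_mem_iff _).mp h) hy
  set w := β y * y⁻¹ with hwdef
  have hβy' : β y = w * y := by rw [hwdef, inv_mul_cancel_right]
  have hiter2 : ∀ j : ℕ, (β ^ j) y = w ^ j * y := by
    intro j
    induction j with
    | zero => simp
    | succ j ih =>
      rw [pow_succ', MulAut.mul_apply, ih, map_mul, map_pow, hβC w hw, hβy', pow_succ]
      simp only [mul_assoc]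
  have hiterx : ∀ j : ℕ, ∀ c ∈ Subgroup.zpowers x, (β ^ j) c = c := by
    intro j
    induction j with
    | zero => simp
    | succ j ih =>
      intro c hc
      rw [pow_succ', MulAut.mul_apply, ih c hc, hβC c hc]
  have hγy : (β ^ Nat.card X) y = y := by
    rw [hiter2, pow_card_eq_one', one_mul]
  -- conclude
  ext g
  rw [MulAut.one_apply]
  by_cases hg : g ∈ Subgroup.zpowers x
  · exact hiterx _ g hg
  · have hgy : g * y⁻¹ ∈ Subgroup.zpowers x := by
      rw [Subgroup.mul_mem_iff_of_index_two hidx]
      constructor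
      · intro h; exact absurd h hg
      · intro h; exact absurd ((Subgroup.inv_mem_iff _).mp h) hy
    have : g = (g * y⁻¹) * y := by rw [inv_mul_cancel_right]
    rw [this, map_mul, hiterx _ _ hgy, hγy]

/-- The automorphism group of a dihedral 2-group of order at least 8, or of a quasi-dihedral (semidihedral) 2-group of order at least 16, is a 2-group. -/
theorem result {X : Type*} [Group X] [Finite X] (h2 : IsPGroup 2 X)
    (h : (∃ n : ℕ, 4 ≤ n ∧ Nonempty (X ≃* DihedralGroup n)) ∨ Cfsg.IsQuasiDihedral X) : IsPGroup 2 (MulAut X) := by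
  rcases h with ⟨m, hm, ⟨e⟩⟩ | hQD
  · -- dihedral case
    obtain ⟨j, hj⟩ := IsPGroup.iff_card.mp h2
    have hcard : Nat.card X = 2 * m := by
      rw [Nat.card_congr e.toEquiv, DihedralGroup.nat_card]
    have hj1 : 1 ≤ j := by
      rcases Nat.eq_zero_or_pos j with rfl | h
      · rw [pow_zero] at hj; omega
      · exact h
    have hm2 : m = 2 ^ (j - 1) := by
      have : 2 * m = 2 * 2 ^ (j - 1) := by
        rw [← hcard, hj, ← pow_succ']
        congr 1
        omega
      omega
    have hj2 : 0 < j - 1 := by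
      rcases Nat.eq_zero_or_pos (j - 1) with h | h
      · rw [h, pow_zero] at hm2; omega
      · exact h
    have hxo : orderOf (e.symm (DihedralGroup.r 1)) = 2 ^ (j - 1) := by
      rw [MulEquiv.orderOf_eq, DihedralGroup.orderOf_r_one, hm2]
    apply aut_isPGroup_of_cyclic_index_two (e.symm (DihedralGroup.r 1)) (j - 1) hj2 hxo
    · have := Subgroup.card_mul_index (Subgroup.zpowers (e.symm (DihedralGroup.r (1 : ZMod m))))
      rw [Nat.card_zpowers, hxo, hcard] at this
      have hpos : 0 < 2 ^ (j - 1) := by positivity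
      have h3 : 2 ^ (j - 1) * (Subgroup.zpowers (e.symm (DihedralGroup.r (1 : ZMod m)))).index
          = 2 ^ (j - 1) * 2 := by rw [this, hm2.symm]; ring
      exact Nat.eq_of_mul_eq_mul_left hpos h3
    · intro g hg
      have hcases : ∀ t : DihedralGroup m, (∃ i, t = DihedralGroup.r i) ∨ ∃ i, t = DihedralGroup.sr i := by
        intro t
        cases t with
        | r i => exact Or.inl ⟨i, rfl⟩
        | sr i => exact Or.inr ⟨i, rfl⟩
      rcases hcases (e g) with ⟨i, hi⟩ | ⟨i, hi⟩
      · exfalso
        apply hg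
        have h1 : g = e.symm (DihedralGroup.r i) := by rw [← hi, MulEquiv.symm_apply_apply]
        have h2 : (DihedralGroup.r i : DihedralGroup m) = (DihedralGroup.r 1) ^ i.val := by
          haveI : NeZero m := ⟨by omega⟩
          rw [DihedralGroup.r_one_pow, ZMod.natCast_zmod_val]
        rw [h1, h2, map_pow]
        exact Subgroup.pow_mem _ (Subgroup.mem_zpowers _) _
      · have h1 : orderOf g = 2 := by
          rw [← MulEquiv.orderOf_eq e g, hi, DihedralGroup.orderOf_sr]
        rw [h1]
        calc 2 = 2 ^ 1 := by norm_num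
          _ < 2 ^ (j - 1) := by
            apply Nat.pow_lt_pow_right (by norm_num)
            by_contra hcon
            push Not at hcon
            have : j - 1 = 1 := by omega
            rw [this] at hm2
            omega
  · -- quasi-dihedral case
    obtain ⟨D⟩ := exists_data hQD
    apply aut_isPGroup_of_cyclic_index_two D.x D.n (by have := D.hn; omega) D.hx D.index_zpowers
    intro g hg
    obtain ⟨i, rfl | rfl⟩ := D.normal_form g
    · exact absurd ((D.mem_zpowers_iff _).mpr ⟨i, rfl⟩) hg
    · have h4 : (D.px i * D.y) ^ 4 = 1 := by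
        have e1 : (D.px i * D.y) ^ 2 = D.px (D.h * i) := by rw [pow_two, D.pxy_sq]
        rw [show (4 : ℕ) = 2 * 2 from rfl, pow_mul, e1, pow_two, D.px_sq, D.px_eq_one_iff]
        have := D.two_h
        linear_combination i * this
      have h5 : orderOf (D.px i * D.y) ≤ 4 := Nat.le_of_dvd (by norm_num) (orderOf_dvd_of_pow_eq_one h4)
      have h6 : 2 ^ 3 ≤ 2 ^ D.n := Nat.pow_le_pow_right (by norm_num) D.hn
      omega

end Cfsg.Agent.S3116
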