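import Cfsg.Statements.S3125
import Mathlib
import Cfsg.Agent.S1991
import Cfsg.Agent.S0144
import Cfsg.Agent.Lib.Helper13.ThompsonTransfer

set_option autoImplicit false
open Cfsg

namespace Cfsg.Agent.S3125

/-- a finite group whose order has only the prime divisors 2 and 3 has order `2 ^ a * 3 ^ b` -/
theorem card_eq_two_pow_mul_three_pow (n : ℕ) (hn : n ≠ 0)
    (h : ∀ p : ℕ, p.Prime → p ∣ n → p < 5) : ∃ a b : ℕ, n = 2 ^ a * 3 ^ b := by
  induction n using Nat.strong_induction_on with
  | _ n ih =>
    by_cases h1 : n = 1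
    · exact ⟨0, 0, by rw [h1]; norm_num⟩
    · obtain ⟨p, hp, hpn⟩ := Nat.exists_prime_and_dvd h1
      have hp5 := h p hp hpn
      obtain ⟨m, rfl⟩ := hpn
      have hm0 : m ≠ 0 := by
        rintro rfl; exact hn (by simp)
      have hmlt : m < p * m := by
        have := hp.one_lt
        have hmpos : 0 < m := Nat.pos_of_ne_zero hm0
        nlinarith
      obtain ⟨a, b, hab⟩ := ih m hmlt hm0 (fun q hq hqm => h q hq (Dvd.dvd.mul_left hqm p))
      have hp23 : p = 2 ∨ p = 3 := by
        have h2 := hp.two_le
        interval_cases p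
        · left; rfl
        · right; rfl
        · exfalso; exact absurd hp (by decide)
      rcases hp23 with rfl | rfl
      · exact ⟨a + 1, b, by rw [hab]; ring⟩
      · exact ⟨a, b + 1, by rw [hab]; ring⟩

/-- Let G be a finite group such that, for every prime p dividing the order of G, every Sylow p-subgroup of G is its own normalizer. Then G is not a non-abelian simple group. -/
theorem result {G : Type*} [Group G] [Finite G]
    (h : ∀ p : ℕ, p.Prime → p ∣ Nat.card G → ∀ P : Sylow p G, Subgroup.normalizer ((P : Subgroup G) : Set G) = P) :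
    ¬ (IsSimpleGroup G ∧ ¬ IsMulCommutative G) := by
  rintro ⟨hs, hnc⟩
  by_cases hbig : ∃ p : ℕ, p.Prime ∧ p ∣ Nat.card G ∧ 5 ≤ p
  · obtain ⟨p, hp, hpG, hp5⟩ := hbig
    have : Fact p.Prime := ⟨hp⟩
    obtain ⟨S⟩ : Nonempty (Sylow p G) := inferInstance
    have hS : (S : Subgroup G) ≠ ⊥ := by
      intro hbot
      have h1 : Nat.card (S : Subgroup G) = 1 := by rw [hbot]; exact Subgroup.card_bot
      have h2 := S.card_eq_multiplicity
      rw [h1] at h2
      have h3 : (Nat.card G).factorization p = 0 := by
        by_contra hne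
        have : 1 < p ^ (Nat.card G).factorization p := Nat.one_lt_pow hne hp.one_lt
        omega
      have h4 : 0 < (Nat.card G).factorization p :=
        hp.factorization_pos_of_dvd Nat.card_pos.ne' hpG
      omega
    have hN : ∀ g ∈ Subgroup.normalizer (((S : Subgroup G) : Subgroup G) : Set G),
        (orderOf g).Coprime p →
        g ∈ Subgroup.centralizer (((S : Subgroup G) : Subgroup G) : Set G) := by
      intro g hg hcop
      rw [h p hp hpG S] at hg
      have h1 : g = 1 :=
        Cfsg.Agent.Lib.Helper13.eq_one_of_isPGroup_of_coprime S.isPGroup' hg hcop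
      rw [h1]; exact Subgroup.one_mem _
    obtain ⟨N, hNn, hNidx⟩ := Cfsg.Agent.S1991.result hp5 S hS hN
    rcases hNn.eq_bot_or_eq_top with hN1 | hN1
    · -- `G` has order `p`
      apply hnc
      rw [hN1, Subgroup.index_bot] at hNidx
      have : IsCyclic G := isCyclic_of_prime_card hNidx
      exact IsCyclic.isMulCommutative
    · rw [hN1, Subgroup.index_top] at hNidx
      exact hp.one_lt.ne' hNidx.symm
  · push Not at hbig
    obtain ⟨a, b, hab⟩ := card_eq_two_pow_mul_three_pow (Nat.card G) Nat.card_pos.ne'
      (fun p hp hpG => hbig p hp hpG)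
    have hsol : Group.IsSolvable G :=
      Cfsg.Agent.S0144.result 2 3 a b Nat.prime_two Nat.prime_three hab
    apply hnc
    exact ⟨⟨IsSimpleGroup.comm_iff_isSolvable.mpr hsol⟩⟩

end Cfsg.Agent.S3125
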