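import Cfsg.Statements.S3155
import Mathlib

set_option autoImplicit false
open Cfsg

namespace Cfsg.Agent.S3155

abbrev V3 := ZMod 4 × ZMod 4 × ZMod 4

theorem no_sqrt_neg_one : ∀ d : ZMod 4, d * d ≠ -1 := by decide

theorem finrank_V3 : Module.finrank (ZMod 4) V3 = 3 := by
  haveI : Fact (1 < 4) := ⟨by norm_num⟩
  show Module.finrank (ZMod 4) (ZMod 4 × ZMod 4 × ZMod 4) = 3
  rw [Module.finrank_prod, Module.finrank_prod, Module.finrank_self]

/-- No additive endomorphism of `(ℤ/4)³` squares to negation. -/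
theorem no_sq_neg (σ : V3 →+ V3) (h : ∀ v, σ (σ v) = -v) : False := by
  let L : V3 →ₗ[ZMod 4] V3 := AddMonoidHom.toZModLinearMap 4 σ
  have hL : L.comp L = (-1 : ZMod 4) • (LinearMap.id : V3 →ₗ[ZMod 4] V3) := by
    apply LinearMap.ext
    intro v
    simp [L, h]
  have hdet := congrArg LinearMap.det hL
  rw [LinearMap.det_comp, LinearMap.det_smul, LinearMap.det_id, finrank_V3] at hdet
  have : ((-1 : ZMod 4)) ^ 3 * 1 = -1 := by decide
  rw [this] at hdet
  exact no_sqrt_neg_one _ hdet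

theorem result {B : Type*} [CommGroup B] [Finite B] (hB : Nonempty (B ≃* Multiplicative (ZMod 4 × ZMod 4 × ZMod 4)))
    (τ : B ≃* B) : τ.trans τ ≠ MulEquiv.inv B := by
  intro hτ
  obtain ⟨e⟩ := hB
  have hτ' : ∀ b : B, τ (τ b) = b⁻¹ := by
    intro b
    have := congrArg (fun f : B ≃* B => f b) hτ
    simpa using this
  let φ : Multiplicative V3 →* Multiplicative V3 :=
    (e.toMonoidHom.comp τ.toMonoidHom).comp e.symm.toMonoidHom
  let σ : V3 →+ V3 := MonoidHom.toAdditive φ
  apply no_sq_neg σ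
  intro v
  have h1 : φ (φ (Multiplicative.ofAdd v)) = (Multiplicative.ofAdd v)⁻¹ := by
    simp only [φ, MonoidHom.comp_apply, MulEquiv.coe_toMonoidHom, MulEquiv.symm_apply_apply]
    rw [hτ', map_inv, MulEquiv.apply_symm_apply]
  exact h1

end Cfsg.Agent.S3155
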