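import Cfsg.Statements.S3156
import Mathlib
import Cfsg.Agent.Lib.Helper6.SU3Sylow

set_option autoImplicit false
open Cfsg

namespace Cfsg.Agent.S3156


section

open Cfsg.Agent.Lib.Helper6.SU3Par

variable {F : Type*} [Field F]

/-- in characteristic two, `u^5 = v^5 = (u+v)^5` forces `u = 0` -/
theorem key5 (h2 : (2 : F) = 0) (u v : F) (h1 : u ^ 5 = v ^ 5) (h3 : (u + v) ^ 5 = u ^ 5) :
    u = 0 := by
  by_contra hu
  have e1 : u * (u ^ 3 * v + v ^ 4 + u ^ 4) = 0 := by
    linear_combination h3 + h1 - (2 * u ^ 4 * v + 5 * u ^ 3 * v ^ 2 + 5 * u ^ 2 * v ^ 3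
      + 2 * u * v ^ 4) * h2
  have e1' : u ^ 3 * v + v ^ 4 + u ^ 4 = 0 := by
    rcases mul_eq_zero.mp e1 with h | h
    · exact absurd h hu
    · exact h
  have e2 : u ^ 3 * (v ^ 2 + u * v + u ^ 2) = 0 := by
    linear_combination v * e1' + h1
  have e2' : v ^ 2 + u * v + u ^ 2 = 0 := by
    rcases mul_eq_zero.mp e2 with h | h
    · exact absurd h (pow_ne_zero 3 hu)
    · exact h
  have e3 : v ^ 3 = u ^ 3 := by
    linear_combination (v + u) * e2' - (u ^ 2 * v + u * v ^ 2 + u ^ 3) * h2
  have e4 : u ^ 3 * (v ^ 2 - u ^ 2) = 0 := by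
    linear_combination (-1 : F) * h1 - v ^ 2 * e3
  have e4' : v ^ 2 - u ^ 2 = 0 := by
    rcases mul_eq_zero.mp e4 with h | h
    · exact absurd h (pow_ne_zero 3 hu)
    · exact h
  have e5 : u * v = 0 := by
    linear_combination e2' - e4' - (u ^ 2) * h2
  have e6 : v = 0 := by
    rcases mul_eq_zero.mp e5 with h | h
    · exact absurd h hu
    · exact h
  rw [e6] at h1
  have : u ^ 5 = 0 := by rw [h1]; ring
  exact hu (pow_eq_zero_iff (by norm_num) |>.mp this)

variable {c : Cfg F}

theorem add_eq_zero_iff' (c : Cfg F) (x y : F) : x + y = 0 ↔ x = y := by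
  constructor
  · intro h
    linear_combination h - y * c.two
  · intro h
    rw [h]; exact Par.add_self c y

/-- automorphisms preserve the property `a = 0` -/
theorem aut_a_zero (φ : MulAut (Par c)) (p : Par c) : (φ p).a = 0 ↔ p.a = 0 := by
  rw [← Par.mul_self_eq_one_iff, ← Par.mul_self_eq_one_iff, ← map_mul]
  exact ⟨fun h => by rwa [← map_one φ, φ.injective.eq_iff] at h, fun h => by rw [h, map_one]⟩

theorem aut_mul_a (φ : MulAut (Par c)) (p q : Par c) : (φ (p * q)).a = (φ p).a + (φ q).a := by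
  rw [map_mul, Par.mul_a]

theorem aut_inv_a (φ : MulAut (Par c)) (p : Par c) : (φ p⁻¹).a = (φ p).a := by
  rw [map_inv, Par.inv_a]

theorem aut_a_congr (φ : MulAut (Par c)) (p q : Par c) (h : p.a = q.a) : (φ p).a = (φ q).a := by
  have h1 : (p⁻¹ * q).a = 0 := by
    rw [Par.mul_a, Par.inv_a, h]; exact Par.add_self c _
  have h2 := (aut_a_zero φ _).mpr h1
  rw [aut_mul_a, aut_inv_a] at h2
  exact (add_eq_zero_iff' c _ _).mp h2

/-- squares only depend on the first coordinate -/
theorem sq_congr (p q : Par c) (h : p.a = q.a) : p * p = q * q := by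
  apply Par.ext
  · rw [Par.mul_self_a, Par.mul_self_a]
  · rw [Par.mul_self_b, Par.mul_self_b, h]

theorem central_sq (z : Par c) (hz : z.a = 0) : z * z = 1 := (Par.mul_self_eq_one_iff z).mpr hz

/-- an automorphism trivial modulo the centre fixes all central elements -/
theorem fix_central (htr : ∀ y, c.σ y = y → ∃ x, x + c.σ x = y) (φ : MulAut (Par c))
    (hφ : ∀ p, (φ p).a = p.a) (z : Par c) (hz : z.a = 0) : φ z = z := by
  obtain ⟨x, y, rfl⟩ := Par.exists_comm htr z hz
  apply Par.ext
  · rw [hφ]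
  · rw [map_mul, map_mul, map_mul, map_inv, map_inv, Par.comm_b, Par.comm_b, hφ, hφ]

/-- an automorphism of order dividing 3, trivial modulo the centre, is trivial -/
theorem trivial_of_cube (htr : ∀ y, c.σ y = y → ∃ x, x + c.σ x = y) (φ : MulAut (Par c))
    (hφ : ∀ p, (φ p).a = p.a) (h3 : ∀ p, φ (φ (φ p)) = p) (p : Par c) : φ p = p := by
  have hz : (p⁻¹ * φ p).a = 0 := by
    rw [Par.mul_a, Par.inv_a, hφ]; exact Par.add_self c _
  have h1 : φ (p⁻¹ * φ p) = p⁻¹ * φ p := fix_central htr φ hφ _ hz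
  have h2 : φ (φ p) = p := by
    have e : φ p = p * (p⁻¹ * φ p) := by group
    have e2 : φ (φ p) = φ p * (p⁻¹ * φ p) := by
      conv_lhs => rw [e, map_mul, h1]
    rw [e2]
    have e3 : φ p * (p⁻¹ * φ p) = p * ((p⁻¹ * φ p) * (p⁻¹ * φ p)) := by group
    rw [e3, central_sq _ hz, mul_one]
  have := h3 p
  rw [h2] at this
  exact this

/-- the key fact: no three elements `p, q, pq` outside the centre share a square -/
theorem key_group (hσ : ∀ x, c.σ x = x ^ 4) (p q : Par c) (h1 : p * p = q * q)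
    (h2 : (p * q) * (p * q) = p * p) : p.a = 0 := by
  have b1 := congrArg Par.b h1
  have b2 := congrArg Par.b h2
  rw [Par.mul_self_b, Par.mul_self_b, hσ, hσ] at b1
  rw [Par.mul_self_b, Par.mul_self_b, hσ, hσ, Par.mul_a] at b2
  apply key5 c.two p.a q.a
  · linear_combination b1
  · linear_combination b2


end



section

open Cfsg.Agent.Lib.Helper6.SU3Par

variable {F : Type*} [Field F] [Fintype F] {c : Cfg F}

theorem central_enum (hF : Fintype.card F = 4 ^ 2) (hσ : ∀ x, c.σ x = x ^ 4)
    (z₁ z₂ z₃ : Par c) (h1 : z₁.a = 0) (h2 : z₂.a = 0) (h3 : z₃.a = 0)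
    (n1 : z₁ ≠ 1) (n2 : z₂ ≠ 1) (n3 : z₃ ≠ 1) (d12 : z₁ ≠ z₂) (d13 : z₁ ≠ z₃) (d23 : z₂ ≠ z₃)
    (z : Par c) (hz : z.a = 0) : z = 1 ∨ z = z₁ ∨ z = z₂ ∨ z = z₃ := by
  classical
  have hc : Nat.card (Subgroup.center (Par c)) = 4 := Par.card_center c 4 (by norm_num) hF hσ
  have hc' : ((Subgroup.center (Par c)) : Set (Par c)).ncard = 4 := by
    rw [← _root_.Nat.card_coe_set_eq]; exact hc
  by_contra hcon
  push Not at hcon
  obtain ⟨e0, e1, e2, e3⟩ := hcon
  have hsub : (↑({1, z₁, z₂, z₃, z} : Finset (Par c)) : Set (Par c)) ⊆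
      (Subgroup.center (Par c) : Set (Par c)) := by
    intro w hw
    have hw' : w = 1 ∨ w = z₁ ∨ w = z₂ ∨ w = z₃ ∨ w = z := by simpa using hw
    have : w.a = 0 := by
      rcases hw' with rfl | rfl | rfl | rfl | rfl
      · rfl
      · exact h1
      · exact h2
      · exact h3
      · exact hz
    exact (Par.center_iff (q := 4) (by norm_num) hF hσ w).mpr this
  have hle := Set.ncard_le_ncard hsub (Set.toFinite _)
  rw [Set.ncard_coe_finset, hc'] at hle
  have h5 : ({1, z₁, z₂, z₃, z} : Finset (Par c)).card = 5 := by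
    rw [Finset.card_insert_of_notMem, Finset.card_insert_of_notMem,
      Finset.card_insert_of_notMem, Finset.card_insert_of_notMem, Finset.card_singleton]
    · simp only [Finset.mem_singleton]; exact fun h => e3 h.symm
    · simp only [Finset.mem_insert, Finset.mem_singleton]
      rintro (h | h)
      · exact d23 h
      · exact e2 h.symm
    · simp only [Finset.mem_insert, Finset.mem_singleton]
      rintro (h | h | h)
      · exact d12 h
      · exact d13 h
      · exact e1 h.symm
    · simp only [Finset.mem_insert, Finset.mem_singleton]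
      rintro (h | h | h | h)
      · exact n1 h.symm
      · exact n2 h.symm
      · exact n3 h.symm
      · exact e0 h.symm
  omega

theorem no_S3_par (hF : Fintype.card F = 4 ^ 2) (hσ : ∀ x, c.σ x = x ^ 4)
    (ρ x : MulAut (Par c)) (hρ3 : ρ ^ 3 = 1) (hρ1 : ρ ≠ 1) (hx2 : x ^ 2 = 1)
    (hrel : x * ρ * x⁻¹ = ρ⁻¹) : False := by
  have htr := Par.tr_surj c 4 (by norm_num) hF hσ
  have r3 : ∀ p, ρ (ρ (ρ p)) = p := by
    intro p
    have := DFunLike.congr_fun hρ3 p
    simpa [pow_succ, MulAut.mul_apply] using this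
  have x2 : ∀ p, x (x p) = p := by
    intro p
    have := DFunLike.congr_fun hx2 p
    simpa [pow_succ, MulAut.mul_apply] using this
  have rel : ∀ p, x (ρ p) = ρ (ρ (x p)) := by
    intro p
    have h1 : ρ⁻¹ = ρ * ρ := by
      apply inv_eq_of_mul_eq_one_right
      rw [← hρ3]; simp [pow_succ, mul_assoc]
    have h2 : x * ρ = ρ * ρ * x := by
      calc x * ρ = (x * ρ * x⁻¹) * x := by group
        _ = ρ * ρ * x := by rw [hrel, h1]
    have := DFunLike.congr_fun h2 p
    simpa [MulAut.mul_apply] using this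
  have hz2 : ∀ p : Par c, p.a ≠ 0 → p * p ≠ 1 := fun p hp h =>
    hp ((Par.mul_self_eq_one_iff p).mp h)
  by_cases hA : ∀ z : Par c, z.a = 0 → ρ z = z
  · -- case A
    apply hρ1
    have hmod : ∀ p, (ρ p).a = p.a := by
      intro p
      obtain ⟨d, hd⟩ : ∃ d, d = p⁻¹ * ρ p := ⟨_, rfl⟩
      have hda : d.a = p.a + (ρ p).a := by rw [hd, Par.mul_a, Par.inv_a]
      have hρda : (ρ d).a = (ρ p).a + (ρ (ρ p)).a := by
        rw [hd, aut_mul_a, aut_inv_a]
      have hρρda : (ρ (ρ d)).a = (ρ (ρ p)).a + p.a := by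
        rw [hd, map_mul, aut_mul_a, map_inv, aut_inv_a, r3]
      have hsq : ∀ q : Par c, ρ q * ρ q = q * q := by
        intro q
        rw [← map_mul]
        exact hA _ (Par.mul_self_a q)
      have h1 : d * d = ρ d * ρ d := (hsq d).symm
      have h2 : (d * ρ d) * (d * ρ d) = d * d := by
        have : (d * ρ d).a = (ρ (ρ d)).a := by
          rw [Par.mul_a, hda, hρda, hρρda]
          linear_combination (ρ p).a * c.two
        rw [sq_congr _ _ this, hsq, hsq]
      have := key_group hσ d (ρ d) h1 h2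
      rw [hda] at this
      exact ((add_eq_zero_iff' c _ _).mp this).symm
    ext p
    · rw [trivial_of_cube htr ρ hmod r3 p]; rfl
    · rw [trivial_of_cube htr ρ hmod r3 p]; rfl
  · -- case B
    push Not at hA
    obtain ⟨z₁, hz₁, hρz₁⟩ := hA
    -- general facts on an element moved by ρ
    have orbit : ∀ z : Par c, z.a = 0 → ρ z ≠ z →
        ∀ w : Par c, w.a = 0 → w = 1 ∨ w = z ∨ w = ρ z ∨ w = ρ (ρ z) := by
      intro z hz hρz
      have hne1 : z ≠ 1 := by
        intro h; apply hρz; rw [h, map_one]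
      apply central_enum hF hσ z (ρ z) (ρ (ρ z)) hz ((aut_a_zero ρ _).mpr hz)
        ((aut_a_zero ρ _).mpr ((aut_a_zero ρ _).mpr hz)) hne1
      · intro h; apply hne1; rwa [← map_one ρ, ρ.injective.eq_iff] at h
      · intro h; apply hne1
        rw [← map_one ρ, ρ.injective.eq_iff, ← map_one ρ, ρ.injective.eq_iff] at h
        exact h
      · exact fun h => hρz h.symm
      · intro h
        apply hρz
        have := congrArg ρ h
        rw [r3] at this
        exact this
      · intro h
        apply hρz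
        exact (ρ.injective h).symm
    -- find a central element fixed by x and moved by ρ
    have hfix : ∃ z₀ : Par c, z₀.a = 0 ∧ ρ z₀ ≠ z₀ ∧ x z₀ = z₀ := by
      have hx1 : (x z₁).a = 0 := (aut_a_zero x _).mpr hz₁
      have hz₁1 : z₁ ≠ 1 := by
        intro h; apply hρz₁; rw [h, map_one]
      have hρ_moves : ∀ w : Par c, w.a = 0 → w ≠ 1 → ρ w ≠ w := by
        intro w hw hw1 h
        rcases orbit z₁ hz₁ hρz₁ w hw with rfl | rfl | rfl | rfl
        · exact hw1 rfl
        · exact hρz₁ h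
        · exact hρz₁ (ρ.injective h)
        · exact hρz₁ (ρ.injective (ρ.injective h))
      by_cases hw : z₁ * x z₁ = 1
      · refine ⟨z₁, hz₁, hρz₁, ?_⟩
        have : x z₁ = z₁⁻¹ := (eq_inv_of_mul_eq_one_right hw)
        rw [this]
        have := central_sq z₁ hz₁
        exact inv_eq_of_mul_eq_one_right this
      · refine ⟨z₁ * x z₁, ?_, ?_, ?_⟩
        · rw [Par.mul_a, hz₁, hx1, add_zero]
        · apply hρ_moves _ _ hw
          rw [Par.mul_a, hz₁, hx1, add_zero]
        · rw [map_mul, x2]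
          -- commutativity of central elements
          apply Par.ext
          · simp only [Par.mul_a]; ring
          · simp only [Par.mul_b, hz₁, hx1, map_zero]; ring
    obtain ⟨z₀, hz₀, hρz₀, hxz₀⟩ := hfix
    have hx_ρz₀ : x (ρ z₀) = ρ (ρ z₀) := by rw [rel, hxz₀]
    have hx_ρρz₀ : x (ρ (ρ z₀)) = ρ z₀ := by rw [← hx_ρz₀, x2]
    have hne : ρ (ρ z₀) ≠ ρ z₀ := fun h => hρz₀ (ρ.injective h)
    -- central elements fixed by x
    have hxfix : ∀ w : Par c, w.a = 0 → x w = w → w = 1 ∨ w = z₀ := by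
      intro w hw hxw
      rcases orbit z₀ hz₀ hρz₀ w hw with h | h | h | h
      · exact Or.inl h
      · exact Or.inr h
      · exfalso; rw [h, hx_ρz₀] at hxw; exact hne hxw
      · exfalso; rw [h, hx_ρρz₀] at hxw; exact hne hxw.symm
    -- squares of elements fixed mod centre by x
    have hsqfix : ∀ p : Par c, (x p).a = p.a → p.a ≠ 0 → p * p = z₀ := by
      intro p hp hp0
      have h1 : x (p * p) = p * p := by
        rw [map_mul]; exact sq_congr _ _ hp
      rcases hxfix _ (Par.mul_self_a p) h1 with h | h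
      · exact absurd h (hz2 p hp0)
      · exact h
    -- x is not trivial mod the centre
    have hex : ∃ p₁ : Par c, (x p₁).a ≠ p₁.a := by
      by_contra hcon
      push Not at hcon
      have := fix_central htr x hcon (ρ z₀) ((aut_a_zero ρ _).mpr hz₀)
      rw [hx_ρz₀] at this
      exact hne this
    obtain ⟨p₁, hp₁⟩ := hex
    obtain ⟨q₁, hq₁⟩ : ∃ q₁, q₁ = p₁ * x p₁ := ⟨_, rfl⟩
    have hq₁a : q₁.a = p₁.a + (x p₁).a := by rw [hq₁, Par.mul_a]
    have hq₁0 : q₁.a ≠ 0 := by
      rw [hq₁a]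
      intro h
      exact hp₁ ((add_eq_zero_iff' c _ _).mp h).symm
    have hxfixmul : ∀ p : Par c, (x (p * x p)).a = (p * x p).a := by
      intro p
      rw [aut_mul_a, x2, Par.mul_a, add_comm]
    have hq₁x : (x q₁).a = q₁.a := by rw [hq₁]; exact hxfixmul p₁
    -- a second fixed direction
    have hex2 : ∃ q₂ : Par c, (x q₂).a = q₂.a ∧ q₂.a ≠ 0 ∧ q₂.a ≠ q₁.a := by
      classical
      by_contra hcon
      push Not at hcon
      have hall : ∀ a : F, a ∈ ({0, q₁.a, p₁.a, p₁.a + q₁.a} : Finset F) := by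
        intro a
        obtain ⟨p, hp⟩ := Par.exists_par htr a
        have h1 : (p * x p).a = 0 ∨ (p * x p).a = q₁.a := by
          by_cases h0 : (p * x p).a = 0
          · exact Or.inl h0
          · exact Or.inr (hcon _ (hxfixmul p) h0)
        simp only [Finset.mem_insert, Finset.mem_singleton]
        rcases h1 with h1 | h1
        · rw [Par.mul_a] at h1
          have h2 : (x p).a = p.a := ((add_eq_zero_iff' c _ _).mp h1).symm
          by_cases h0 : p.a = 0
          · left; rw [← hp]; exact h0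
          · right; left; rw [← hp]; exact hcon p h2 h0
        · -- p * p₁ is fixed
          have h2 : (x (p * p₁)).a = (p * p₁).a := by
            rw [aut_mul_a, Par.mul_a]
            rw [Par.mul_a, hq₁a] at h1
            linear_combination h1 + ((x p₁).a - p.a) * c.two
          by_cases h0 : (p * p₁).a = 0
          · right; right; left
            rw [Par.mul_a] at h0
            rw [← hp]; exact (add_eq_zero_iff' c _ _).mp h0
          · right; right; right
            have h3 := hcon _ h2 h0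
            rw [Par.mul_a] at h3
            rw [← hp]
            linear_combination h3 - p₁.a * c.two
      have hle : Fintype.card F ≤ ({0, q₁.a, p₁.a, p₁.a + q₁.a} : Finset F).card :=
        Finset.card_le_card (fun a _ => hall a)
      have h4 : ({0, q₁.a, p₁.a, p₁.a + q₁.a} : Finset F).card ≤ 4 := Finset.card_le_four
      rw [hF] at hle
      omega
    obtain ⟨q₂, hq₂x, hq₂0, hq₂ne⟩ := hex2
    have s1 : q₁ * q₁ = z₀ := hsqfix q₁ hq₁x hq₁0
    have s2 : q₂ * q₂ = z₀ := hsqfix q₂ hq₂x hq₂0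
    have s3 : (q₁ * q₂) * (q₁ * q₂) = z₀ := by
      apply hsqfix
      · rw [aut_mul_a, Par.mul_a, hq₁x, hq₂x]
      · rw [Par.mul_a]
        intro h
        exact hq₂ne ((add_eq_zero_iff' c _ _).mp h).symm
    exact hq₁0 (key_group hσ q₁ q₂ (s1.trans s2.symm) (s3.trans s1.symm))


end



open Cfsg.Agent.Lib.Helper6.SU3Par Cfsg.Agent.Lib.Helper6.SU3Sylow


/-- If a finite group T is isomorphic to a Sylow 2-subgroup of the projective special unitary group of dimension 3 with parameter 4 (realised over the field with 16 elements), then no subgroup of the automorphism group of T is isomorphic to the symmetric group of degree 3. -/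
theorem result {T : Type*} [Group T] [Finite T] (hT : (∃ (F : Type) (_ : Field F) (_ : Fintype F), Fintype.card F = 16 ∧ ∃ S : Sylow 2 (Cfsg.PSU 3 F 4), Nonempty (T ≃* ↥(S : Subgroup (Cfsg.PSU 3 F 4))))) (H : Subgroup (MulAut T)) : ¬ Nonempty (↥H ≃* Equiv.Perm (Fin 3)) := by
  rintro ⟨f⟩
  obtain ⟨F, _, _, hF, S, ⟨e0⟩⟩ := hT
  have hF' : Fintype.card F = (2 ^ 2) ^ 2 := by rw [hF]; norm_num
  have hF16 : Fintype.card F = 4 ^ 2 := by rw [hF]; norm_num
  obtain ⟨P, ⟨e2⟩⟩ := sylow_PSU_equiv (2 ^ 2) hF' S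
  obtain ⟨e1⟩ := sylow_SU_equiv 2 le_rfl hF' P
  have hσ : ∀ x, (cfgOf 2 (by omega) hF').σ x = x ^ 4 := by
    intro x
    rw [cfgOf_σ]; norm_num
  let e : T ≃* Par (cfgOf 2 (by omega) hF') := e0.trans (e2.symm.trans e1.symm)
  let g : Equiv.Perm (Fin 3) →* MulAut (Par (cfgOf 2 (by omega) hF')) :=
    (MulAut.congr e).toMonoidHom.comp (H.subtype.comp f.symm.toMonoidHom)
  have hg : Function.Injective g := by
    intro a b hab
    have h1 : (MulAut.congr e) ((f.symm a : H) : MulAut T) = (MulAut.congr e) ((f.symm b : H) : MulAut T) := hab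
    have h2 := (MulAut.congr e).injective h1
    exact f.symm.injective (Subtype.ext h2)
  apply no_S3_par hF16 hσ (g (Equiv.swap 0 1 * Equiv.swap 1 2)) (g (Equiv.swap 0 1))
  · rw [← map_pow]
    have : (Equiv.swap (0 : Fin 3) 1 * Equiv.swap 1 2) ^ 3 = 1 := by decide
    rw [this, map_one]
  · intro h
    rw [← map_one g] at h
    have := hg h
    revert this
    decide
  · rw [← map_pow]
    have : (Equiv.swap (0 : Fin 3) 1) ^ 2 = 1 := by decide
    rw [this, map_one]
  · rw [← map_inv, ← map_mul, ← map_inv, ← map_mul]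
    have : Equiv.swap (0 : Fin 3) 1 * (Equiv.swap 0 1 * Equiv.swap 1 2) * (Equiv.swap 0 1)⁻¹
        = (Equiv.swap 0 1 * Equiv.swap 1 2)⁻¹ := by decide
    rw [this]

end Cfsg.Agent.S3156
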