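import Mathlib
import Cfsg.Statements.S3158
import Cfsg.Agent.Lib.Helper2.NilpotentBasic

set_option autoImplicit false
open Cfsg

namespace Cfsg.Agent.S3158

/-- if every element squares to one the group is commutative -/
theorem comm_of_sq {U : Type*} [Group U] (h : ∀ u : U, u ^ 2 = 1) (a b : U) : a * b = b * a := by
  have ha := h a
  have hb := h b
  have hab := h (a * b)
  have ha' : a⁻¹ = a := by
    rw [inv_eq_iff_mul_eq_one, ← sq]; exact ha
  have hb' : b⁻¹ = b := by
    rw [inv_eq_iff_mul_eq_one, ← sq]; exact hb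
  have : (a * b)⁻¹ = a * b := by
    rw [inv_eq_iff_mul_eq_one, ← sq]; exact hab
  rw [mul_inv_rev, ha', hb'] at this
  exact this.symm

theorem comm_of_sq_mul {U : Type*} [Group U] (a b : U) (h : (a * b) ^ 2 = a ^ 2 * b ^ 2) :
    a * b = b * a := by
  have h1 : a * b * (a * b) = a * a * (b * b) := by
    simpa [sq] using h
  have h2 : a * (b * a) * b = a * (a * b) * b := by
    simpa [mul_assoc] using h1
  have h3 := mul_right_cancel h2
  exact (mul_left_cancel h3).symm

theorem result {U : Type*} [Group U] [Finite U] (n : ℕ) (hn : 1 ≤ n) (hU : Nat.card U = (2 ^ n) ^ 2)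
    (y : MulAut U) (hy : orderOf y = 2 ^ n - 1) (hfp : ∀ k : ℕ, y ^ k ≠ 1 → ∀ u : U, (y ^ k) u = u → u = 1)
    (V : Subgroup U) [V.Normal] (hV : V ≠ ⊤) (hyV : ∀ v ∈ V, y v ∈ V)
    (hVe : ∀ v ∈ V, v ^ 2 = 1) (hQe : ∀ u : U, u ^ 2 ∈ V) (hQc : ∀ u w : U, u * w * u⁻¹ * w⁻¹ ∈ V)
    (φ : ↥V ≃* U ⧸ V) (hφ : ∀ (v : ↥V) (u : U), (QuotientGroup.mk u : U ⧸ V) = φ v → φ ⟨y v, hyV v v.2⟩ = QuotientGroup.mk (y u)) :
    IsMulCommutative U := by
  classical
  set q : ℕ := 2 ^ n with hq
  have hq2 : 2 ≤ q := by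
    calc 2 = 2 ^ 1 := by norm_num
      _ ≤ 2 ^ n := Nat.pow_le_pow_right (by norm_num) hn
  -- card V = q
  have hcardV : Nat.card V = q := by
    have h1 := Subgroup.card_mul_index V
    rw [Subgroup.index_eq_card, ← Nat.card_congr φ.toEquiv, hU] at h1
    have h2 : (Nat.card V) ^ 2 = q ^ 2 := by rw [sq]; exact h1
    exact Nat.pow_left_injective (by norm_num : 2 ≠ 0) h2
  -- powers of y preserve V
  have hyk : ∀ k : ℕ, ∀ v ∈ V, (y ^ k) v ∈ V := by
    intro k
    induction k with
    | zero => intro v hv; simpa using hv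
    | succ k ih =>
      intro v hv
      have : (y ^ (k + 1)) v = y ((y ^ k) v) := by
        rw [pow_succ']; rfl
      rw [this]
      exact hyV _ (ih v hv)
  -- transitivity on V \ 1
  have htrans : ∀ v₀ ∈ V, v₀ ≠ 1 → ∀ v ∈ V, v ≠ 1 → ∃ k : ℕ, (y ^ k) v₀ = v := by
    intro v₀ hv₀ hv₀1 v hv hv1
    let f : Option (Fin (q - 1)) → ↥V := fun o =>
      match o with
      | none => 1
      | some k => ⟨(y ^ (k : ℕ)) v₀, hyk k v₀ hv₀⟩
    have hne : ∀ k : ℕ, (y ^ k) v₀ ≠ 1 := by
      intro k h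
      apply hv₀1
      have : (y ^ k) v₀ = (y ^ k) 1 := by rw [h, map_one]
      exact (y ^ k).injective this
    have hinj : Function.Injective f := by
      have key : ∀ k l : ℕ, k ≤ l → l < q - 1 → (y ^ k) v₀ = (y ^ l) v₀ → k = l := by
        intro k l hkl hl h
        have h1 : (y ^ (l - k)) v₀ = v₀ := by
          have : (y ^ l) v₀ = (y ^ k) ((y ^ (l - k)) v₀) := by
            rw [← MulAut.mul_apply, ← pow_add, Nat.add_sub_cancel' hkl]
          rw [this] at h
          exact ((y ^ k).injective h).symm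
        by_cases h2 : y ^ (l - k) = 1
        · have h3 := orderOf_dvd_of_pow_eq_one h2
          rw [hy] at h3
          have h4 : l - k < q - 1 := lt_of_le_of_lt (Nat.sub_le _ _) hl
          have h5 := Nat.eq_zero_of_dvd_of_lt h3 h4
          omega
        · exact absurd (hfp _ h2 v₀ h1) hv₀1
      intro a b hab
      match a, b with
      | none, none => rfl
      | none, some k =>
        exfalso
        have : (1 : U) = (y ^ (k : ℕ)) v₀ := congrArg Subtype.val hab
        exact hne k this.symm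
      | some k, none =>
        exfalso
        have : (y ^ (k : ℕ)) v₀ = (1 : U) := congrArg Subtype.val hab
        exact hne k this
      | some k, some l =>
        have h : (y ^ (k : ℕ)) v₀ = (y ^ (l : ℕ)) v₀ := congrArg Subtype.val hab
        rcases le_total (k : ℕ) (l : ℕ) with hkl | hkl
        · have := key k l hkl l.2 h
          exact congrArg some (Fin.ext this)
        · have := key l k hkl k.2 h.symm
          exact congrArg some (Fin.ext this.symm)
    have hcard : Nat.card ↥V ≤ Nat.card (Option (Fin (q - 1))) := by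
      rw [Finite.card_option, Nat.card_fin, hcardV]
      omega
    have hbij := hinj.bijective_of_nat_card_le hcard
    obtain ⟨o, ho⟩ := hbij.2 ⟨v, hv⟩
    match o, ho with
    | none, ho =>
      exfalso
      apply hv1
      have : (1 : U) = v := congrArg Subtype.val ho
      exact this.symm
    | some k, ho =>
      exact ⟨k, congrArg Subtype.val ho⟩
  -- V ≠ ⊥
  have hVbot : V ≠ ⊥ := by
    intro h
    rw [h, Subgroup.card_bot] at hcardV
    omega
  -- V ≤ center
  have hpU : IsPGroup 2 U := by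
    apply IsPGroup.of_card (n := 2 * n)
    rw [hU, hq, ← pow_mul, mul_comm]
  haveI : Group.IsNilpotent U := hpU.isNilpotent
  have hVZ : V ≤ Subgroup.center U := by
    have h1 := Cfsg.Agent.Lib.Helper2.normal_inf_center_ne_bot V hVbot
    obtain ⟨z, hz1⟩ := (Subgroup.ne_bot_iff_exists_ne_one).mp h1
    have hzV : (z : U) ∈ V := (Subgroup.mem_inf.mp z.2).1
    have hzZ : (z : U) ∈ Subgroup.center U := (Subgroup.mem_inf.mp z.2).2
    have hz1' : (z : U) ≠ 1 := by
      intro h; apply hz1; exact Subtype.ext h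
    intro v hv
    by_cases hv1 : v = 1
    · rw [hv1]; exact Subgroup.one_mem _
    obtain ⟨k, hk⟩ := htrans z hzV hz1' v hv hv1
    rw [← hk, Subgroup.mem_center_iff]
    intro g
    have hg : g = (y ^ k) ((y ^ k)⁻¹ g) := by simp
    rw [hg, ← map_mul, ← map_mul]
    congr 1
    exact Subgroup.mem_center_iff.mp hzZ _
  -- choose v₀, u₀
  obtain ⟨v₀', hv₀'⟩ := (Subgroup.ne_bot_iff_exists_ne_one).mp hVbot
  obtain ⟨u₀, hu₀⟩ := QuotientGroup.mk_surjective (φ v₀')
  have hv₀V : (v₀' : U) ∈ V := v₀'.2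
  have hv₀1 : (v₀' : U) ≠ 1 := by
    intro h; apply hv₀'; exact Subtype.ext h
  -- iterate hφ
  have hiter : ∀ k : ℕ, φ ⟨(y ^ k) (v₀' : U), hyk k _ hv₀V⟩ = QuotientGroup.mk ((y ^ k) u₀) := by
    intro k
    induction k with
    | zero =>
      simp only [pow_zero, MulAut.one_apply]
      exact hu₀.symm
    | succ k ih =>
      have h1 := hφ ⟨(y ^ k) (v₀' : U), hyk k _ hv₀V⟩ ((y ^ k) u₀) ih.symm
      have e1 : (y ^ (k + 1)) (v₀' : U) = y ((y ^ k) (v₀' : U)) := by
        rw [pow_succ']; rfl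
      have e2 : (y ^ (k + 1)) u₀ = y ((y ^ k) u₀) := by
        rw [pow_succ']; rfl
      rw [e2, ← h1]
      congr 1
      exact Subtype.ext e1
  -- key lemma L
  have hL : ∀ k : ℕ, ∀ w : U, (QuotientGroup.mk w : U ⧸ V) = φ ⟨(y ^ k) (v₀' : U), hyk k _ hv₀V⟩ →
      w ^ 2 = (y ^ k) (u₀ ^ 2) := by
    intro k w hw
    rw [hiter k] at hw
    have hc : ((y ^ k) u₀)⁻¹ * w ∈ V := QuotientGroup.eq.mp hw.symm
    set c := ((y ^ k) u₀)⁻¹ * w with hcdef
    have hw' : w = (y ^ k) u₀ * c := by rw [hcdef]; group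
    have hcZ := Subgroup.mem_center_iff.mp (hVZ hc)
    have hc2 := hVe c hc
    rw [hw', map_pow, sq, sq]
    have : (y ^ k) u₀ * c * ((y ^ k) u₀ * c) = (y ^ k) u₀ * (y ^ k) u₀ * (c * c) := by
      rw [mul_assoc, ← mul_assoc c, ← hcZ ((y ^ k) u₀)]
      simp only [mul_assoc]
    rw [this, ← sq c, hc2, mul_one]
  -- every v ∈ V is 1 or y^k v₀
  have hVform : ∀ v : ↥V, v = 1 ∨ ∃ k : ℕ, v = ⟨(y ^ k) (v₀' : U), hyk k _ hv₀V⟩ := by
    intro v
    by_cases hv1 : (v : U) = 1
    · left; exact Subtype.ext hv1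
    · right
      obtain ⟨k, hk⟩ := htrans v₀' hv₀V hv₀1 v v.2 hv1
      exact ⟨k, Subtype.ext hk.symm⟩
  have hu₀V : u₀ ^ 2 ∈ V := hQe u₀
  constructor
  constructor
  by_cases hcase : u₀ ^ 2 = 1
  · -- exponent 2
    have hall : ∀ w : U, w ^ 2 = 1 := by
      intro w
      rcases hVform (φ.symm (QuotientGroup.mk w)) with h | ⟨k, h⟩
      · have : (QuotientGroup.mk w : U ⧸ V) = 1 := by
          have := congrArg φ h
          rw [MulEquiv.apply_symm_apply, map_one] at this
          exact this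
        have hwV : w ∈ V := (QuotientGroup.eq_one_iff w).mp this
        exact hVe w hwV
      · have hw : (QuotientGroup.mk w : U ⧸ V) = φ ⟨(y ^ k) (v₀' : U), hyk k _ hv₀V⟩ := by
          rw [← h, MulEquiv.apply_symm_apply]
        rw [hL k w hw, hcase, map_one]
    exact comm_of_sq hall
  · -- squaring is y^m ∘ φ⁻¹
    obtain ⟨m, hm⟩ := htrans v₀' hv₀V hv₀1 (u₀ ^ 2) hu₀V hcase
    have hsq : ∀ w : U, ∀ v : ↥V, (QuotientGroup.mk w : U ⧸ V) = φ v → w ^ 2 = (y ^ m) (v : U) := by
      intro w v hw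
      rcases hVform v with h | ⟨k, h⟩
      · rw [h, map_one] at hw
        have hwV : w ∈ V := (QuotientGroup.eq_one_iff w).mp hw
        rw [hVe w hwV, h]
        simp
      · rw [h] at hw
        rw [hL k w hw, h, ← hm]
        show (y ^ k) ((y ^ m) (v₀' : U)) = (y ^ m) ((y ^ k) (v₀' : U))
        rw [← MulAut.mul_apply, ← MulAut.mul_apply, ← pow_add, ← pow_add, add_comm]
    intro a b
    apply comm_of_sq_mul
    have ha := hsq a (φ.symm (QuotientGroup.mk a)) (by rw [MulEquiv.apply_symm_apply])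
    have hb := hsq b (φ.symm (QuotientGroup.mk b)) (by rw [MulEquiv.apply_symm_apply])
    have hab := hsq (a * b) (φ.symm (QuotientGroup.mk a) * φ.symm (QuotientGroup.mk b))
      (by rw [map_mul, MulEquiv.apply_symm_apply, MulEquiv.apply_symm_apply]; rfl)
    rw [hab, ha, hb, Subgroup.coe_mul, map_mul]

end Cfsg.Agent.S3158
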