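import Cfsg.Statements.S3163
import Cfsg.Agent.Lib.Helper17.Thompson
import Cfsg.Agent.Lib.Helper15.ProdFormula
open Cfsg.Agent.Lib.Helper17

set_option autoImplicit false
open Cfsg

namespace Cfsg.Agent.S3163

/-- Let S be a non-abelian finite 2-group which is the product S = AB of two elementary abelian subgroups A and B, and suppose that the centralizer in S of every element of A outside B is exactly A. Then the centralizer of every element of B outside A is exactly B; A and B are maximal elementary abelian subgroups of S and the only ones; the centre of S is A ∩ B; and every element of S outside A ∪ B has centralizer of order at most min(|A|, |B|). -/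
theorem result {S : Type*} [Group S] [Finite S] (hS : IsPGroup 2 S) (hna : ¬ IsMulCommutative S) (A B : Subgroup S)
    (hA : Cfsg.IsElementaryAbelian 2 A) (hB : Cfsg.IsElementaryAbelian 2 B) (hAB : ∀ s : S, ∃ a ∈ A, ∃ b ∈ B, s = a * b)
    (hC : ∀ a ∈ A, a ∉ B → Subgroup.centralizer ({a} : Set S) = A) :
    (∀ b ∈ B, b ∉ A → Subgroup.centralizer ({b} : Set S) = B) ∧
      (∀ E : Subgroup S, Cfsg.IsElementaryAbelian 2 E → (∀ E' : Subgroup S, Cfsg.IsElementaryAbelian 2 E' → E ≤ E' → E' = E) → E = A ∨ E = B) ∧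
      (∀ E' : Subgroup S, Cfsg.IsElementaryAbelian 2 E' → A ≤ E' → E' = A) ∧ (∀ E' : Subgroup S, Cfsg.IsElementaryAbelian 2 E' → B ≤ E' → E' = B) ∧
      Subgroup.center S = A ⊓ B ∧
      (∀ x : S, x ∉ A → x ∉ B → Nat.card ↥(Subgroup.centralizer ({x} : Set S)) ≤ min (Nat.card ↥A) (Nat.card ↥B)) := by
  classical
  have hAc : ∀ a ∈ A, ∀ a' ∈ A, a * a' = a' * a := fun a ha a' ha' => ea_comm hA ha ha'
  have hBc : ∀ b ∈ B, ∀ b' ∈ B, b * b' = b' * b := fun b hb b' hb' => ea_comm hB hb hb'
  have hAinv : ∀ a ∈ A, a⁻¹ = a := by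
    intro a ha
    have h := hA.2 a ha
    rw [pow_two] at h
    exact inv_eq_of_mul_eq_one_left h
  have hBinv : ∀ b ∈ B, b⁻¹ = b := by
    intro b hb
    have h := hB.2 b hb
    rw [pow_two] at h
    exact inv_eq_of_mul_eq_one_left h
  -- centralizer membership
  have hmemC : ∀ (y s : S), s ∈ Subgroup.centralizer ({y} : Set S) ↔ y * s = s * y := by
    intro y s
    rw [Subgroup.mem_centralizer_iff]
    simp
  have K1 : ∀ a ∈ A, a ∉ B → ∀ s : S, a * s = s * a → s ∈ A := by
    intro a ha haB s hs
    rw [← hC a ha haB, hmemC]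
    exact hs
  -- A ⊄ B and B ⊄ A
  have hexA : ∃ a ∈ A, a ∉ B := by
    by_contra hcon
    push_neg at hcon
    apply hna
    refine ⟨⟨fun s t => ?_⟩⟩
    obtain ⟨a, ha, b, hb, rfl⟩ := hAB s
    obtain ⟨a', ha', b', hb', rfl⟩ := hAB t
    exact hBc _ (mul_mem (hcon a ha) hb) _ (mul_mem (hcon a' ha') hb')
  have hexB : ∃ b ∈ B, b ∉ A := by
    by_contra hcon
    push_neg at hcon
    apply hna
    refine ⟨⟨fun s t => ?_⟩⟩
    obtain ⟨a, ha, b, hb, rfl⟩ := hAB s
    obtain ⟨a', ha', b', hb', rfl⟩ := hAB t
    exact hAc _ (mul_mem ha (hcon b hb)) _ (mul_mem ha' (hcon b' hb'))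
  -- Claim 1
  have K2 : ∀ b ∈ B, b ∉ A → ∀ s : S, b * s = s * b → s ∈ B := by
    intro b hb hbA s hs
    obtain ⟨a, ha, b', hb', rfl⟩ := hAB s
    by_cases haB : a ∈ B
    · exact mul_mem haB hb'
    · exfalso
      apply hbA
      apply K1 a ha haB b
      have h1 : b * b' = b' * b := hBc b hb b' hb'
      -- b * (a * b') = a * b' * b
      have h2 : b * a * b' = a * b * b' := by
        calc b * a * b' = b * (a * b') := by group
          _ = a * b' * b := hs
          _ = a * (b' * b) := by group
          _ = a * (b * b') := by rw [h1]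
          _ = a * b * b' := by group
      exact (mul_right_cancel h2).symm
  have C1 : ∀ b ∈ B, b ∉ A → Subgroup.centralizer ({b} : Set S) = B := by
    intro b hb hbA
    apply le_antisymm
    · intro s hs
      rw [hmemC] at hs
      exact K2 b hb hbA s hs
    · intro s hs
      rw [hmemC]
      exact hBc b hb s hs
  -- involutions lie in A ∪ B
  have hinv : ∀ x : S, x ^ 2 = 1 → x ∈ A ∨ x ∈ B := by
    intro x hx
    obtain ⟨a, ha, b, hb, rfl⟩ := hAB x
    by_cases haB : a ∈ B
    · right; exact mul_mem haB hb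
    · left
      refine mul_mem ha (K1 a ha haB b ?_)
      -- (a b)^2 = 1 → a b = b a
      have h1 : (a * b)⁻¹ = a * b := by
        rw [pow_two] at hx
        exact inv_eq_of_mul_eq_one_left hx
      rw [mul_inv_rev, hAinv a ha, hBinv b hb] at h1
      exact h1.symm
  have hZ : A ⊓ B ≤ Subgroup.center S := by
    intro z hz
    rw [Subgroup.mem_center_iff]
    intro s
    obtain ⟨a, ha, b, hb, rfl⟩ := hAB s
    have h1 := hAc z hz.1 a ha
    have h2 := hBc z hz.2 b hb
    calc a * b * z = a * (b * z) := by group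
      _ = a * (z * b) := by rw [h2]
      _ = (a * z) * b := by group
      _ = (z * a) * b := by rw [h1]
      _ = z * (a * b) := by group
  have C3 : ∀ E' : Subgroup S, Cfsg.IsElementaryAbelian 2 E' → A ≤ E' → E' = A := by
    intro E' hE' hAE
    obtain ⟨a₀, ha₀, ha₀B⟩ := hexA
    apply le_antisymm _ hAE
    intro e he
    exact K1 a₀ ha₀ ha₀B e (ea_comm hE' (hAE ha₀) he)
  have C4 : ∀ E' : Subgroup S, Cfsg.IsElementaryAbelian 2 E' → B ≤ E' → E' = B := by
    intro E' hE' hBE
    obtain ⟨b₀, hb₀, hb₀A⟩ := hexB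
    apply le_antisymm _ hBE
    intro e he
    exact K2 b₀ hb₀ hb₀A e (ea_comm hE' (hBE hb₀) he)
  have C5 : Subgroup.center S = A ⊓ B := by
    apply le_antisymm _ hZ
    intro z hz
    rw [Subgroup.mem_center_iff] at hz
    obtain ⟨a₀, ha₀, ha₀B⟩ := hexA
    obtain ⟨b₀, hb₀, hb₀A⟩ := hexB
    exact ⟨K1 a₀ ha₀ ha₀B z (hz a₀), K2 b₀ hb₀ hb₀A z (hz b₀)⟩
  refine ⟨C1, ?_, C3, C4, C5, ?_⟩
  · intro E hE hmax
    have hsub : ∀ e ∈ E, e ∈ A ∨ e ∈ B := fun e he => hinv e (hE.2 e he)
    by_cases hEA : E ≤ A
    · left; exact (hmax A hA hEA).symm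
    · by_cases hEB : E ≤ B
      · right; exact (hmax B hB hEB).symm
      · exfalso
        rw [SetLike.not_le_iff_exists] at hEA hEB
        obtain ⟨e₁, he₁, he₁A⟩ := hEA
        obtain ⟨e₂, he₂, he₂B⟩ := hEB
        have he₁B : e₁ ∈ B := (hsub e₁ he₁).resolve_left he₁A
        have he₂A : e₂ ∈ A := (hsub e₂ he₂).resolve_right he₂B
        rcases hsub (e₁ * e₂) (mul_mem he₁ he₂) with h | h
        · apply he₁A
          have := mul_mem h (inv_mem he₂A)
          simpa using this
        · apply he₂B
          have := mul_mem (inv_mem he₁B) h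
          simpa using this
  · intro x hxA hxB
    obtain ⟨a, ha, b, hb, hxab⟩ := hAB x
    have haB : a ∉ B := fun h => hxB (hxab ▸ mul_mem h hb)
    have hbA : b ∉ A := fun h => hxA (hxab ▸ mul_mem ha h)
    set C := Subgroup.centralizer ({x} : Set S) with hCdef
    have hCA : C ⊓ A ≤ A ⊓ B := by
      intro a' ha'
      refine ⟨ha'.2, ?_⟩
      by_contra ha'B
      apply hbA
      apply K1 a' ha'.2 ha'B b
      have h1 : x * a' = a' * x := (hmemC x a').1 ha'.1
      have h2 : a * a' = a' * a := hAc a ha a' ha'.2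
      rw [hxab] at h1
      -- a * b * a' = a' * a * b = a * a' * b
      have h3 : a * (b * a') = a * (a' * b) := by
        calc a * (b * a') = a * b * a' := by group
          _ = a' * (a * b) := h1
          _ = (a' * a) * b := by group
          _ = (a * a') * b := by rw [h2]
          _ = a * (a' * b) := by group
      exact (mul_left_cancel h3).symm
    have hCB : C ⊓ B ≤ A ⊓ B := by
      intro b' hb'
      refine ⟨?_, hb'.2⟩
      by_contra hb'A
      apply haB
      apply K2 b' hb'.2 hb'A a
      have h1 : x * b' = b' * x := (hmemC x b').1 hb'.1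
      have h2 : b * b' = b' * b := hBc b hb b' hb'.2
      rw [hxab] at h1
      have h3 : (b' * a) * b = (a * b') * b := by
        calc (b' * a) * b = b' * (a * b) := by group
          _ = a * b * b' := h1.symm
          _ = a * (b * b') := by group
          _ = a * (b' * b) := by rw [h2]
          _ = (a * b') * b := by group
      exact mul_right_cancel h3
    have hprod := Cfsg.Agent.Lib.Helper15.card_mul_card_inf_of_factorization A B hAB
    have hApos : 0 < Nat.card A := Nat.card_pos
    have hBpos : 0 < Nat.card B := Nat.card_pos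
    have hle1 : Nat.card C * Nat.card A ≤ Nat.card A * Nat.card B := by
      calc Nat.card C * Nat.card A
          ≤ Nat.card (C ⊓ A : Subgroup S) * Nat.card (C ⊔ A : Subgroup S) :=
            card_mul_card_le_inf_sup C A
        _ ≤ Nat.card (A ⊓ B : Subgroup S) * Nat.card S :=
            Nat.mul_le_mul (Subgroup.card_le_of_le hCA) (Subgroup.card_le_card_group _)
        _ = Nat.card A * Nat.card B := by rw [← hprod]; ring
    have hle2 : Nat.card C * Nat.card B ≤ Nat.card A * Nat.card B := by
      calc Nat.card C * Nat.card B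
          ≤ Nat.card (C ⊓ B : Subgroup S) * Nat.card (C ⊔ B : Subgroup S) :=
            card_mul_card_le_inf_sup C B
        _ ≤ Nat.card (A ⊓ B : Subgroup S) * Nat.card S :=
            Nat.mul_le_mul (Subgroup.card_le_of_le hCB) (Subgroup.card_le_card_group _)
        _ = Nat.card A * Nat.card B := by rw [← hprod]; ring
    apply le_min
    · exact Nat.le_of_mul_le_mul_right hle2 hBpos
    · rw [mul_comm (Nat.card A)] at hle1
      exact Nat.le_of_mul_le_mul_right hle1 hApos

end Cfsg.Agent.S3163
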