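import Cfsg.Statements.S3165
import Mathlib.Tactic.Group

set_option autoImplicit false
open Cfsg

namespace Cfsg.Agent.S3165

theorem result {X Y : Type*} [Group X] [Group Y] [MulDistribMulAction X Y] (z : Y)
    (hz : ∀ y : Y, ∀ x : X, x • (y * z * y⁻¹) = y * z * y⁻¹) :
    ∀ x : X, ∀ y : Y, Commute ((x • y) * y⁻¹) z := by
  intro x y
  have hz1 : x • z = z := by
    have := hz 1 x
    simpa using this
  have h1 : x • (y⁻¹ * z * y⁻¹⁻¹) = y⁻¹ * z * y⁻¹⁻¹ := hz y⁻¹ x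
  rw [smul_mul', smul_mul', smul_inv', smul_inv', hz1] at h1
  -- h1 : (x • y)⁻¹ * z * (x • y)⁻¹⁻¹ = y⁻¹ * z * y⁻¹⁻¹
  show (x • y) * y⁻¹ * z = z * ((x • y) * y⁻¹)
  have h2 : y⁻¹ * z * y = (x • y)⁻¹ * z * (x • y) := by
    simpa using h1.symm
  calc (x • y) * y⁻¹ * z = (x • y) * (y⁻¹ * z * y) * y⁻¹ := by group
    _ = (x • y) * ((x • y)⁻¹ * z * (x • y)) * y⁻¹ := by rw [h2]
    _ = z * ((x • y) * y⁻¹) := by group

end Cfsg.Agent.S3165
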