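import Cfsg.Statements.S3166
import Mathlib

set_option autoImplicit false
open Cfsg

namespace Cfsg.Agent.S3166

/-- The value is never a perfect square. -/
theorem not_sq (q y : ℤ) (hq : 2 ≤ q) (hy : 0 ≤ y)
    (h : y ^ 2 = q ^ 4 - q ^ 3 + q ^ 2 - q + 1) : False := by
  have h1 : 2 * q ^ 2 - q < 2 * y := by nlinarith [sq_nonneg (q - 1), sq_nonneg q]
  have h2 : 2 * y < 2 * q ^ 2 - q + 1 := by nlinarith [sq_nonneg (q - 1), sq_nonneg q]
  omega

/-- The cube case. -/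
theorem not_cube (q p k : ℤ) (hq : 8 ≤ q) (hk : 1 ≤ k) (hpk : p = 1 + q * k)
    (h : p ^ 3 = q ^ 4 - q ^ 3 + q ^ 2 - q + 1) : False := by
  subst hpk
  have hq0 : q ≠ 0 := by omega
  have e1 : q * (3 * k + 3 * q * k ^ 2 + q ^ 2 * k ^ 3) = q * (q ^ 3 - q ^ 2 + q - 1) := by
    nlinarith [h]
  have e2 : 3 * k + 3 * q * k ^ 2 + q ^ 2 * k ^ 3 = q ^ 3 - q ^ 2 + q - 1 :=
    mul_left_cancel₀ hq0 e1
  have hdvd : q ∣ 3 * k + 1 := ⟨q ^ 2 - q + 1 - 3 * k ^ 2 - q * k ^ 3, by nlinarith [e2]⟩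
  have hle : q ≤ 3 * k + 1 := Int.le_of_dvd (by omega) hdvd
  -- now 3 * p ≥ q^2 - q + 3
  have h3 : q ^ 2 - q + 3 ≤ 3 * (1 + q * k) := by nlinarith
  have h4 : (q ^ 2 - q + 3) ^ 3 ≤ (3 * (1 + q * k)) ^ 3 := by
    apply pow_le_pow_left₀ _ h3
    nlinarith
  have h5 : (3 * (1 + q * k)) ^ 3 = 27 * (q ^ 4 - q ^ 3 + q ^ 2 - q + 1) := by
    rw [mul_pow, h]; norm_num
  have h6 : 27 * (q ^ 4 - q ^ 3 + q ^ 2 - q + 1) < (q ^ 2 - q + 3) ^ 3 := by
    obtain ⟨t, rfl⟩ : ∃ t, q = 8 + t := ⟨q - 8, by ring⟩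
    have ht : 0 ≤ t := by omega
    have : (8 + t ^ 1 * 1) = 8 + t := by ring
    nlinarith [pow_nonneg ht 2, pow_nonneg ht 3, pow_nonneg ht 4, pow_nonneg ht 5, pow_nonneg ht 6]
  linarith

theorem result (n p m : ℕ) (hn : 1 ≤ n) (hp : p.Prime) (h : (2 ^ n) ^ 4 - (2 ^ n) ^ 3 + (2 ^ n) ^ 2 - 2 ^ n + 1 = p ^ m) : m = 1 := by
  obtain ⟨q, hqdef⟩ : ∃ q : ℕ, q = 2 ^ n := ⟨_, rfl⟩
  rw [← hqdef] at h
  have hq2 : 2 ≤ q := by
    rw [hqdef]
    calc 2 = 2 ^ 1 := by norm_num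
      _ ≤ 2 ^ n := Nat.pow_le_pow_right (by norm_num) hn
  have hle1 : q ^ 3 ≤ q ^ 4 := Nat.pow_le_pow_right (by omega) (by norm_num)
  have hle2 : q ≤ q ^ 4 - q ^ 3 + q ^ 2 := by
    have : q ≤ q ^ 2 := by nlinarith
    omega
  -- the identity over ℤ
  have hZ : ((p : ℤ)) ^ m = (q : ℤ) ^ 4 - (q : ℤ) ^ 3 + (q : ℤ) ^ 2 - (q : ℤ) + 1 := by
    have := congrArg (Nat.cast (R := ℤ)) h
    rw [Nat.cast_add, Nat.cast_sub hle2, Nat.cast_add, Nat.cast_sub hle1] at this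
    push_cast at this
    linarith
  have hqZ : (2 : ℤ) ≤ (q : ℤ) := by exact_mod_cast hq2
  have hpos : (1 : ℤ) < (q : ℤ) ^ 4 - (q : ℤ) ^ 3 + (q : ℤ) ^ 2 - (q : ℤ) + 1 := by
    nlinarith [sq_nonneg ((q : ℤ) - 1), sq_nonneg (q : ℤ)]
  -- m ≠ 0
  have hm0 : m ≠ 0 := by
    rintro rfl
    rw [pow_zero] at hZ
    linarith
  -- m is odd
  rcases Nat.even_or_odd m with hev | hodd
  · exfalso
    obtain ⟨k, hk⟩ := hev
    apply not_sq (q : ℤ) ((p : ℤ) ^ k) hqZ (by positivity)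
    rw [← hZ, hk, ← pow_mul, mul_comm, two_mul]
  · -- p is odd and q ∣ p - 1
    have hpZ : (0 : ℤ) < (p : ℤ) := by exact_mod_cast hp.pos
    -- factorization of p^m - 1
    have hfac : (∑ i ∈ Finset.range m, (p : ℤ) ^ i) * ((p : ℤ) - 1)
        = (q : ℤ) * (((q : ℤ) - 1) * ((q : ℤ) ^ 2 + 1)) := by
      rw [geom_sum_mul, hZ]; ring
    -- q is a power of two, the geometric sum is odd
    have hpodd : Odd (p : ℤ) := by
      by_contra hne
      rw [Int.not_odd_iff_even] at hne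
      have : Even ((p : ℤ) ^ m) := hne.pow_of_ne_zero hm0
      rw [hZ] at this
      have hqe : Even (q : ℤ) := by
        rw [hqdef]; push_cast
        exact (even_two).pow_of_ne_zero (by omega)
      have : Odd ((q : ℤ) ^ 4 - (q : ℤ) ^ 3 + (q : ℤ) ^ 2 - (q : ℤ) + 1) := by
        apply Even.add_one
        apply Even.sub _ hqe
        apply Even.add _ (hqe.pow_of_ne_zero (by norm_num))
        exact Even.sub (hqe.pow_of_ne_zero (by norm_num)) (hqe.pow_of_ne_zero (by norm_num))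
      exact (Int.not_even_iff_odd.mpr this) ‹_›
    have hpoddN : Odd p := (Int.odd_coe_nat p).mp hpodd
    have hsoddN : Odd (∑ i ∈ Finset.range m, p ^ i) := by
      rw [Finset.odd_sum_iff_odd_card_odd]
      have : (Finset.range m).filter (fun i => Odd (p ^ i)) = Finset.range m := by
        apply Finset.filter_true_of_mem
        intro i _
        exact hpoddN.pow
      rw [this, Finset.card_range]
      exact hodd
    have hsodd : Odd (∑ i ∈ Finset.range m, (p : ℤ) ^ i) := by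
      have : (∑ i ∈ Finset.range m, (p : ℤ) ^ i) = ((∑ i ∈ Finset.range m, p ^ i : ℕ) : ℤ) := by
        push_cast; rfl
      rw [this]
      exact (Int.odd_coe_nat _).mpr hsoddN
    have hcop : IsCoprime (q : ℤ) (∑ i ∈ Finset.range m, (p : ℤ) ^ i) := by
      rw [hqdef]; push_cast
      apply IsCoprime.pow_left
      rw [Int.isCoprime_iff_gcd_eq_one]
      obtain ⟨s, hs⟩ := hsodd
      rw [hs]
      simp
    have hdvd : (q : ℤ) ∣ (p : ℤ) - 1 := by
      apply hcop.dvd_of_dvd_mul_left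
      rw [hfac]
      exact dvd_mul_right _ _
    obtain ⟨k, hk⟩ := hdvd
    have hp1 : (1 : ℤ) < (p : ℤ) := by exact_mod_cast hp.one_lt
    have hk1 : 1 ≤ k := by
      by_contra hneg
      have : k ≤ 0 := by omega
      have : (q : ℤ) * k ≤ 0 := by nlinarith
      omega
    have hpq : (q : ℤ) + 1 ≤ (p : ℤ) := by nlinarith
    -- m < 4
    have hm4 : m < 4 := by
      by_contra hge
      have hge : 4 ≤ m := by omega
      have h1 : (p : ℤ) ^ 4 ≤ (p : ℤ) ^ m := pow_le_pow_right₀ (by omega) hge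
      have h2 : ((q : ℤ) + 1) ^ 4 ≤ (p : ℤ) ^ 4 := pow_le_pow_left₀ (by omega) hpq 4
      have h3 : (q : ℤ) ^ 4 - (q : ℤ) ^ 3 + (q : ℤ) ^ 2 - (q : ℤ) + 1 < ((q : ℤ) + 1) ^ 4 := by
        nlinarith [sq_nonneg (q : ℤ), pow_pos (by omega : (0 : ℤ) < (q : ℤ)) 3]
      linarith
    obtain ⟨j, hj⟩ := hodd
    have hm : m = 1 ∨ m = 3 := by omega
    rcases hm with hm | hm
    · exact hm
    · exfalso
      rw [hm] at hZ
      -- small cases
      by_cases hq8 : 8 ≤ q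
      · exact not_cube (q : ℤ) (p : ℤ) k (by exact_mod_cast hq8) hk1 (by linarith) hZ
      · have hn3 : n < 3 := by
          by_contra hge
          have : 2 ^ 3 ≤ 2 ^ n := Nat.pow_le_pow_right (by norm_num) (by omega)
          omega
        have hcases : n = 1 ∨ n = 2 := by omega
        have hZ' : p ^ 3 = q ^ 4 - q ^ 3 + q ^ 2 - q + 1 := by
          rw [hm] at h; exact h.symm
        rcases hcases with rfl | rfl
        · have hq : q = 2 := by rw [hqdef]; norm_num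
          rw [hq] at hZ'
          norm_num at hZ'
          have : p ≤ 2 ∨ 3 ≤ p := by omega
          rcases this with hp2 | hp3
          · have : p ^ 3 ≤ 2 ^ 3 := Nat.pow_le_pow_left hp2 3
            omega
          · have : 3 ^ 3 ≤ p ^ 3 := Nat.pow_le_pow_left hp3 3
            omega
        · have hq : q = 4 := by rw [hqdef]; norm_num
          rw [hq] at hZ'
          norm_num at hZ'
          have : p ≤ 5 ∨ 6 ≤ p := by omega
          rcases this with hp2 | hp3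
          · have : p ^ 3 ≤ 5 ^ 3 := Nat.pow_le_pow_left hp2 3
            omega
          · have : 6 ^ 3 ≤ p ^ 3 := Nat.pow_le_pow_left hp3 3
            omega

end Cfsg.Agent.S3166
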