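import Cfsg.Statements.S3179
import Cfsg.Agent.Lib.Helper12.Sec52b
import Cfsg.Agent.Lib.Helper12.DkT
import Cfsg.Agent.Lib.Helper14.DkSub3
import Cfsg.Agent.Lib.Helper14.SzU
import Cfsg.Agent.S0324
import Cfsg.Agent.S0280

set_option autoImplicit false
open Cfsg

namespace Cfsg.Agent.S3179

/-- Let X be a section of the general linear group GL(5, 2), that is, a quotient of a subgroup of it. If X is isomorphic to PSL(2, 2^n) for some n ≥ 2, to a Suzuki group over the field with 2^(2m+1) elements for some m ≥ 1, or to PSU(3, 2^n) for some n ≥ 2, then X is isomorphic to PSL(2, 4). -/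
theorem result {H : Subgroup (GL (Fin 5) (ZMod 2))}
    {K : Subgroup ↥H} [K.Normal]
    (hX : (∃ (n : ℕ) (F : Type) (_ : Field F) (_ : Fintype F), 2 ≤ n ∧ Fintype.card F = 2 ^ n ∧
        Nonempty (↥H ⧸ K ≃* Matrix.ProjectiveSpecialLinearGroup (Fin 2) F)) ∨
      (∃ (m : ℕ) (F : Type) (_ : Field F) (_ : Fintype F), 1 ≤ m ∧ Fintype.card F = 2 ^ (2 * m + 1) ∧
        Nonempty (↥H ⧸ K ≃* ↥(Cfsg.Lie.Sz F (2 ^ (m + 1))))) ∨
      (∃ (n : ℕ) (F : Type) (_ : Field F) (_ : Fintype F), 2 ≤ n ∧ Fintype.card F = 4 ^ n ∧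
        Nonempty (↥H ⧸ K ≃* Cfsg.PSU 3 F (2 ^ n)))) :
    ∃ (F : Type) (_ : Field F) (_ : Fintype F), Fintype.card F = 4 ∧
      Nonempty (↥H ⧸ K ≃* Matrix.ProjectiveSpecialLinearGroup (Fin 2) F) := by
  classical
  have hdvd : Nat.card (↥H ⧸ K) ∣ 9999360 := by
    rw [← Cfsg.Agent.Lib.Helper12.Sec52.card_GL52]
    exact (Subgroup.card_quotient_dvd_card K).trans (Subgroup.card_subgroup_dvd_card H)
  rcases hX with ⟨n, F, i1, i2, hn, hF, ⟨e⟩⟩ | ⟨m, F, i1, i2, hm, hF, ⟨e⟩⟩ |
    ⟨n, F, i1, i2, hn, hF, ⟨e⟩⟩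
  · -- `PSL₂(2ⁿ)`
    have hc := Cfsg.Agent.Lib.Helper14.DkSub.card_PSL2_eq (K := F)
    rw [hF] at hc
    have hpos : 1 ≤ 2 ^ n := Nat.one_le_two_pow
    have hg : Nat.gcd 2 (2 ^ n - 1) = 1 := by
      obtain ⟨k, hk⟩ : ∃ k, n = k + 1 := ⟨n - 1, by omega⟩
      have : 2 ^ n - 1 = 2 * (2 ^ k - 1) + 1 := by
        have hk1 : 1 ≤ 2 ^ k := Nat.one_le_two_pow
        rw [hk, pow_succ]
        omega
      rw [this]
      simp
    rw [hg, mul_one] at hc
    unfold Cfsg.Agent.Lib.Helper14.DkSub.NN at hc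
    have hN : Nat.card (↥H ⧸ K) = 2 ^ n * (2 ^ n - 1) * (2 ^ n + 1) := by
      rw [Nat.card_congr e.toEquiv, hc]
    rcases Cfsg.Agent.Lib.Helper12.Sec52.psl_arith n hn _ hN hdvd with rfl | rfl
    · exact ⟨F, i1, i2, by rw [hF]; norm_num, ⟨e⟩⟩
    · exfalso
      have hF8 : Fintype.card F = 8 := by rw [hF]; norm_num
      have h2 : (2 : F) = 0 := by
        have hc2 : ringChar F = 2 :=
          FiniteField.even_card_iff_char_two.mpr (by rw [hF8])
        haveI : CharP F 2 := ringChar.of_eq hc2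
        exact_mod_cast CharP.cast_eq_zero F 2
      obtain ⟨Y, hord, -, -, -⟩ := Cfsg.Agent.Lib.Helper12.DkT.exists_nonsplit' (F := F)
      rw [hF8] at hord
      have hinj : Function.Injective
          (QuotientGroup.mk' (Subgroup.center (Matrix.SpecialLinearGroup (Fin 2) F))) := by
        rw [← MonoidHom.ker_eq_bot_iff, QuotientGroup.ker_mk']
        exact Cfsg.Agent.Lib.Helper1.DkOrders.center_eq_bot_of_two h2
      obtain ⟨y, hy⟩ : ∃ y : Matrix.ProjectiveSpecialLinearGroup (Fin 2) F,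
          y = QuotientGroup.mk' (Subgroup.center (Matrix.SpecialLinearGroup (Fin 2) F)) Y := ⟨_, rfl⟩
      have hyord : orderOf y = 9 := by
        rw [hy, orderOf_injective _ hinj, hord]
      have hy9 : (e.symm y) ^ 9 = 1 := by
        rw [← map_pow, ← hyord, pow_orderOf_eq_one, map_one]
      haveI : Finite ↥H := inferInstance
      have h3 := Cfsg.Agent.Lib.Helper12.Sec52.no_nine_quotient (QuotientGroup.mk' K)
        (QuotientGroup.mk'_surjective K) (fun g hg9 => by
          have h1 : ((g : ↥H) : GL (Fin 5) (ZMod 2)) ^ 9 = 1 := by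
            rw [← Subgroup.coe_pow, hg9, Subgroup.coe_one]
          have h2 := Cfsg.Agent.Lib.Helper12.Sec52.no_nine _ h1
          apply Subtype.ext
          rw [Subgroup.coe_pow, h2, Subgroup.coe_one]) (e.symm y) hy9
      rw [← map_pow] at h3
      have h4 : y ^ 3 = 1 := by
        have := congrArg e h3
        simpa using this
      have := orderOf_dvd_of_pow_eq_one h4
      rw [hyord] at this
      omega
  · -- Suzuki groups
    exfalso
    have hc := Cfsg.Agent.S0324.result hm hF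
    have hc2 : ringChar F = 2 :=
      FiniteField.even_card_iff_char_two.mpr (by
        rw [hF, pow_succ]
        exact Nat.mul_mod_left _ _)
    haveI : CharP F 2 := ringChar.of_eq hc2
    apply Cfsg.Agent.Lib.Helper12.Sec52.sz_arith m hm _ _ hdvd
    rw [Nat.card_congr e.toEquiv,
      ← Nat.card_congr (Cfsg.Agent.Lib.Helper14.Sz.szEquiv hm hF).toEquiv, hc]
  · -- `PSU₃(2ⁿ)`
    exfalso
    have hF' : Fintype.card F = (2 ^ n) ^ 2 := by
      rw [hF, ← pow_mul, mul_comm, pow_mul]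
      norm_num
    have hc := Cfsg.Agent.S0280.result hF' 3 (by norm_num)
    rw [← Nat.card_congr e.toEquiv] at hc
    exact Cfsg.Agent.Lib.Helper12.Sec52.psu_arith n hn _ hc hdvd

end Cfsg.Agent.S3179
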