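import Cfsg.Statements.S3180
-- import your own Cfsg.Agent.* helpers here

set_option autoImplicit false
open Cfsg
open scoped Pointwise

namespace Cfsg.Agent.S3180

theorem mem_smul_sylow {G : Type*} [Group G] {p : ℕ} {g c : G} {P : Sylow p G} :
    c ∈ g • P ↔ g⁻¹ * c * g ∈ P := by
  have : (↑(g • P) : Subgroup G) = MulAut.conj g • (P : Subgroup G) := Sylow.coe_subgroup_smul
  show c ∈ (↑(g • P) : Subgroup G) ↔ _
  rw [this, Subgroup.mem_pointwise_smul_iff_inv_smul_mem]
  simp only [MulAut.smul_def, MulAut.conj_inv_apply]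
  exact Iff.rfl

/-- Two `p`-subgroups of a finite group can be conjugated into a common Sylow subgroup. -/
theorem two_pgroups {H : Type*} [Group H] [Finite H] {p : ℕ} [Fact p.Prime]
    (A B : Subgroup H) (hA : IsPGroup p A) (hB : IsPGroup p B) :
    ∃ (h : H) (R : Sylow p H), A ≤ R ∧ ∀ b ∈ B, h * b * h⁻¹ ∈ R := by
  obtain ⟨R, hR⟩ := hA.exists_le_sylow
  obtain ⟨R', hR'⟩ := hB.exists_le_sylow
  obtain ⟨h, hh⟩ := MulAction.exists_smul_eq H R' R
  refine ⟨h, R, hR, ?_⟩
  intro b hb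
  have : h * b * h⁻¹ ∈ (h • R' : Sylow p H) := by
    rw [mem_smul_sylow]
    have hb' : b ∈ R' := hR' hb
    simpa [mul_assoc] using hb'
  rwa [hh] at this

/-- Let P be a Sylow p-subgroup of a finite group J and P₁ a subgroup of P that is weakly closed in P with respect to J. If J acts on a set and two points, each fixed by every element of P₁, lie in one J-orbit, then they lie in one orbit of the normalizer of P₁ in J. -/
theorem result {J : Type*} [Group J] [Finite J]
    {p : ℕ} [Fact p.Prime] (P : Sylow p J) (P₁ : Subgroup J) (hW : Cfsg.IsWeaklyClosed P₁ (P : Subgroup J))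
    {Ω : Type*} [MulAction J Ω] (x y : Ω) (hx : ∀ g ∈ P₁, g • x = x) (hy : ∀ g ∈ P₁, g • y = y)
    (hc : ∃ g : J, g • x = y) :
    ∃ g ∈ Subgroup.normalizer (P₁ : Set J), g • x = y := by
  obtain ⟨g, hg⟩ := hc
  obtain ⟨hle, hwc⟩ := hW
  have hP₁ : IsPGroup p P₁ := P.2.to_le hle
  set H := MulAction.stabilizer J y with hH
  have h1 : P₁ ≤ H := fun a ha => MulAction.mem_stabilizer_iff.mpr (hy a ha)
  have h2 : P₁.map (MulAut.conj g).toMonoidHom ≤ H := by
    rintro _ ⟨a, ha, rfl⟩
    simp [hH, MulAction.mem_stabilizer_iff, ← hg, mul_smul, hx a ha]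
  -- the two p-subgroups of H
  have hA : IsPGroup p (P₁.subgroupOf H) := hP₁.comap_subtype
  have hB : IsPGroup p ((P₁.map (MulAut.conj g).toMonoidHom).subgroupOf H) :=
    (hP₁.map _).comap_subtype
  obtain ⟨h, R, hAR, hBR⟩ := two_pgroups _ _ hA hB
  -- R mapped to J is a p-group, inside a conjugate of P
  have hRJ : IsPGroup p ((R : Subgroup H).map H.subtype) := R.2.map _
  obtain ⟨R₂, hR₂⟩ := hRJ.exists_le_sylow
  obtain ⟨k, hk⟩ := MulAction.exists_smul_eq J P R₂
  -- membership facts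
  have mem_R₂ : ∀ c : J, c ∈ R₂ → k⁻¹ * c * k ∈ (P : Subgroup J) := by
    intro c hc
    rw [← hk, mem_smul_sylow] at hc
    exact hc
  have hP₁R₂ : ∀ a ∈ P₁, a ∈ R₂ := by
    intro a ha
    apply hR₂
    exact ⟨⟨a, h1 ha⟩, hAR (by simpa [Subgroup.mem_subgroupOf] using ha), rfl⟩
  have hconjR₂ : ∀ a ∈ P₁, (h : J) * g * a * g⁻¹ * (h : J)⁻¹ ∈ R₂ := by
    intro a ha
    apply hR₂
    have hmem : g * a * g⁻¹ ∈ H := h2 ⟨a, ha, by simp [MulAut.conj_apply]⟩
    have := hBR ⟨g * a * g⁻¹, hmem⟩ (by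
      simp only [Subgroup.mem_subgroupOf]
      exact ⟨a, ha, by simp [MulAut.conj_apply]⟩)
    exact ⟨_, this, by simp [mul_assoc]⟩
  -- weak closure applications
  have e1 : P₁.map (MulAut.conj k⁻¹).toMonoidHom = P₁ := by
    apply hwc
    rintro _ ⟨a, ha, rfl⟩
    simpa [MulAut.conj_apply] using mem_R₂ a (hP₁R₂ a ha)
  have e2 : P₁.map (MulAut.conj (k⁻¹ * h * g)).toMonoidHom = P₁ := by
    apply hwc
    rintro _ ⟨a, ha, rfl⟩
    have := mem_R₂ _ (hconjR₂ a ha)
    simpa [MulAut.conj_apply, mul_assoc] using this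
  refine ⟨h * g, ?_, ?_⟩
  · rw [Subgroup.mem_normalizer_iff]
    -- conj (h*g) P₁ = conj k (conj (k⁻¹ h g) P₁) = conj k P₁ = P₁
    have e3 : P₁.map (MulAut.conj ((h : J) * g)).toMonoidHom = P₁ := by
      have : (MulAut.conj ((h : J) * g)).toMonoidHom =
          (MulAut.conj k).toMonoidHom.comp (MulAut.conj (k⁻¹ * h * g)).toMonoidHom := by
        ext a
        simp [MulAut.conj_apply, mul_assoc]
      rw [this, ← Subgroup.map_map, e2]
      -- conj k P₁ = P₁ from e1
      conv_lhs => rw [← e1]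
      rw [Subgroup.map_map]
      convert Subgroup.map_id P₁
      ext a
      simp [MulAut.conj_apply, mul_assoc]
    intro a
    constructor
    · intro ha
      have : (h : J) * g * a * ((h : J) * g)⁻¹ ∈ P₁.map (MulAut.conj ((h : J) * g)).toMonoidHom :=
        ⟨a, ha, by simp [MulAut.conj_apply, mul_assoc]⟩
      rwa [e3] at this
    · intro ha
      rw [← e3] at ha
      obtain ⟨b, hb, hb'⟩ := ha
      simp only [MulEquiv.coe_toMonoidHom, MulAut.conj_apply] at hb'
      have : a = b := by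
        have := mul_left_cancel (mul_right_cancel hb')
        exact this.symm
      rwa [this]
  · rw [mul_smul, hg]
    exact h.2

end Cfsg.Agent.S3180
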