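import Cfsg.Statements.S3183
-- import your own Cfsg.Agent.* helpers here

set_option autoImplicit false
open Cfsg
open scoped Pointwise

namespace Cfsg.Agent.S3183

theorem mem_smul_sylow {G : Type*} [Group G] {p : ℕ} {g c : G} {P : Sylow p G} :
    c ∈ g • P ↔ g⁻¹ * c * g ∈ P := by
  have : (↑(g • P) : Subgroup G) = MulAut.conj g • (P : Subgroup G) := Sylow.coe_subgroup_smul
  show c ∈ (↑(g • P) : Subgroup G) ↔ _
  rw [this, Subgroup.mem_pointwise_smul_iff_inv_smul_mem]
  simp only [MulAut.smul_def, MulAut.conj_inv_apply]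
  exact Iff.rfl

/-- Two `p`-subgroups of a finite group can be conjugated into a common Sylow subgroup. -/
theorem two_pgroups {H : Type*} [Group H] [Finite H] {p : ℕ} [Fact p.Prime]
    (A B : Subgroup H) (hA : IsPGroup p A) (hB : IsPGroup p B) :
    ∃ (h : H) (R : Sylow p H), A ≤ R ∧ ∀ b ∈ B, h * b * h⁻¹ ∈ R := by
  obtain ⟨R, hR⟩ := hA.exists_le_sylow
  obtain ⟨R', hR'⟩ := hB.exists_le_sylow
  obtain ⟨h, hh⟩ := MulAction.exists_smul_eq H R' R
  refine ⟨h, R, hR, ?_⟩
  intro b hb
  have : h * b * h⁻¹ ∈ (h • R' : Sylow p H) := by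
    rw [mem_smul_sylow]
    have hb' : b ∈ R' := hR' hb
    simpa [mul_assoc] using hb'
  rwa [hh] at this

/-- A `p`-subgroup has at most as many elements as a Sylow `p`-subgroup. -/
theorem card_le_sylow {G : Type*} [Group G] [Finite G] {p : ℕ} [Fact p.Prime]
    (P : Subgroup G) (hP : IsPGroup p P) (S : Sylow p G) : Nat.card P ≤ Nat.card (S : Subgroup G) := by
  obtain ⟨Q, hQ⟩ := hP.exists_le_sylow
  calc Nat.card P ≤ Nat.card (Q : Subgroup G) := Subgroup.card_le_of_le hQ
    _ = Nat.card (S : Subgroup G) := Nat.card_congr (Sylow.equiv Q S).toEquiv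

/-- Normalizers grow in `p`-groups. -/
theorem normalizer_grow {G : Type*} [Group G] [Finite G] {p : ℕ} [Fact p.Prime]
    (S D : Subgroup G) (hS : IsPGroup p S) (hDS : D ≤ S) (hne : D ≠ S) :
    ∃ s ∈ S, s ∉ D ∧ ∀ d, d ∈ D ↔ s * d * s⁻¹ ∈ D := by
  have : Group.IsNilpotent S := hS.isNilpotent
  have hlt : D.subgroupOf S < ⊤ := by
    rw [lt_top_iff_ne_top, Ne, Subgroup.subgroupOf_eq_top]
    intro h
    exact hne (le_antisymm hDS h)
  have hlt2 := Group.normalizerCondition_of_isNilpotent (G := S) _ hlt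
  obtain ⟨s, hsN, hsD⟩ := SetLike.exists_of_lt hlt2
  refine ⟨s, s.2, ?_, ?_⟩
  · simpa [Subgroup.mem_subgroupOf] using hsD
  · intro d
    rw [Subgroup.mem_normalizer_iff] at hsN
    constructor
    · intro hd
      have := (hsN ⟨d, hDS hd⟩).mp (by simpa [Subgroup.mem_subgroupOf] using hd)
      simpa [Subgroup.mem_subgroupOf] using this
    · intro hd
      have hdS : d ∈ S := by
        have h1 : (s : G)⁻¹ * ((s : G) * d * (s : G)⁻¹) * (s : G) ∈ S :=
          S.mul_mem (S.mul_mem (S.inv_mem s.2) (hDS hd)) s.2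
        simpa [mul_assoc] using h1
      have := (hsN ⟨d, hdS⟩).mpr (by simpa [Subgroup.mem_subgroupOf] using hd)
      simpa [Subgroup.mem_subgroupOf] using this

/-- Key lemma: an intersection of two distinct Sylow 2-subgroups is central in each. -/
theorem key {G : Type*} [Group G] [Finite G]
    (hCI : ∀ S T : Sylow 2 G, S ≠ T → ∃ U : Sylow 2 G,
      (S : Subgroup G) ⊓ (T : Subgroup G) ≤ (Subgroup.center ↥(U : Subgroup G)).map (U : Subgroup G).subtype) :
    ∀ n : ℕ, ∀ S T : Sylow 2 G, S ≠ T →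
      Nat.card G - Nat.card ↥((S : Subgroup G) ⊓ (T : Subgroup G)) = n →
      ∀ d ∈ (S : Subgroup G) ⊓ (T : Subgroup G), ∀ s ∈ (S : Subgroup G), s * d = d * s := by
  have : Fact (Nat.Prime 2) := ⟨Nat.prime_two⟩
  intro n
  induction n using Nat.strong_induction_on with
  | _ n ih =>
  intro S T hne hn
  set D : Subgroup G := (S : Subgroup G) ⊓ (T : Subgroup G) with hD
  obtain ⟨U, hU⟩ := hCI S T hne
  have hDU : D ≤ U := by
    intro d hd
    obtain ⟨z, _, rfl⟩ := hU hd
    exact z.2
  have hUc : ∀ d ∈ D, ∀ u ∈ (U : Subgroup G), u * d = d * u := by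
    intro d hd u hu
    obtain ⟨z, hz, rfl⟩ := hU hd
    have := Subgroup.mem_center_iff.mp hz ⟨u, hu⟩
    exact congrArg (fun x : (U : Subgroup G) => (x : G)) this
  have hDS : D ≤ S := inf_le_left
  have hDneS : D ≠ S := by
    intro h
    have hST : (S : Subgroup G) ≤ T := by
      rw [← h]; exact inf_le_right
    exact hne (Sylow.ext (S.is_maximal' T.2 hST).symm)
  set N : Subgroup G := Subgroup.normalizer (D : Set G) with hN
  have hUN : (U : Subgroup G) ≤ N := by
    intro u hu
    rw [hN, Subgroup.mem_normalizer_iff]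
    intro d
    constructor
    · intro hd
      have : u * d * u⁻¹ = d := by rw [hUc d hd u hu]; group
      rw [this]; exact hd
    · intro hd
      have h1 := hUc _ hd u hu
      have : d = u * d * u⁻¹ := by
        calc d = u⁻¹ * ((u * d * u⁻¹) * u) := by group
          _ = u⁻¹ * (u * (u * d * u⁻¹)) := by rw [h1]
          _ = u * d * u⁻¹ := by group
      rw [this]; exact hd
  have hDN : D ≤ N := Subgroup.le_normalizer
  -- Sylow argument in N
  have hA : IsPGroup 2 ((U : Subgroup G).subgroupOf N) := U.2.comap_subtype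
  have hB : IsPGroup 2 (((S : Subgroup G) ⊓ N).subgroupOf N) := (S.2.to_le inf_le_left).comap_subtype
  obtain ⟨h, R, hAR, hBR⟩ := two_pgroups _ _ hA hB
  have hRU : (R : Subgroup N).map N.subtype = U := by
    apply U.is_maximal' (R.2.map _)
    intro u hu
    exact ⟨⟨u, hUN hu⟩, hAR (by simpa [Subgroup.mem_subgroupOf] using hu), rfl⟩
  have hconjU : ∀ b ∈ (S : Subgroup G) ⊓ N, (h : G) * b * (h : G)⁻¹ ∈ (U : Subgroup G) := by
    intro b hb
    rw [← hRU]
    have := hBR ⟨b, hb.2⟩ (Subgroup.mem_subgroupOf.mpr hb)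
    exact ⟨_, this, by simp⟩
  -- the Sylow subgroup V
  set V : Sylow 2 G := (h : G)⁻¹ • U with hV
  have hVmem : ∀ c, c ∈ V ↔ (h : G) * c * (h : G)⁻¹ ∈ U := by
    intro c
    rw [hV, mem_smul_sylow, inv_inv]
  have hSNV : ∀ b ∈ (S : Subgroup G) ⊓ N, b ∈ V := fun b hb => (hVmem b).mpr (hconjU b hb)
  have hhN : ∀ d, d ∈ D ↔ (h : G) * d * (h : G)⁻¹ ∈ D := by
    exact Subgroup.mem_normalizer_iff.mp h.2
  have hVc : ∀ d ∈ D, ∀ v ∈ V, v * d = d * v := by
    intro d hd v hv
    have h1 := hUc _ ((hhN d).mp hd) _ ((hVmem v).mp hv)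
    have : (h : G) * (v * d) * (h : G)⁻¹ = (h : G) * (d * v) * (h : G)⁻¹ := by
      calc (h : G) * (v * d) * (h : G)⁻¹ = ((h : G) * v * (h : G)⁻¹) * ((h : G) * d * (h : G)⁻¹) := by group
        _ = ((h : G) * d * (h : G)⁻¹) * ((h : G) * v * (h : G)⁻¹) := h1
        _ = (h : G) * (d * v) * (h : G)⁻¹ := by group
    exact mul_left_cancel (mul_right_cancel this)
  have hDV : ∀ d ∈ D, d ∈ V := fun d hd => hSNV d ⟨hDS hd, hDN hd⟩
  by_cases hVS : V = S
  · intro d hd s hs
    exact hVc d hd s (by rw [hVS]; exact hs)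
  · -- strict growth
    obtain ⟨s₀, hs₀S, hs₀D, hs₀N⟩ := normalizer_grow (S : Subgroup G) D S.2 hDS hDneS
    have hs₀N' : s₀ ∈ N := by
      rw [hN, Subgroup.mem_normalizer_iff]; exact hs₀N
    have hle : D ≤ (S : Subgroup G) ⊓ (V : Subgroup G) := fun d hd => ⟨hDS hd, hDV d hd⟩
    have hlt : D < (S : Subgroup G) ⊓ (V : Subgroup G) := by
      refine lt_of_le_of_ne hle ?_
      intro heq
      apply hs₀D
      rw [heq]
      exact ⟨hs₀S, hSNV s₀ ⟨hs₀S, hs₀N'⟩⟩
    have hcard : Nat.card D < Nat.card ↥((S : Subgroup G) ⊓ (V : Subgroup G)) :=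
      Set.ncard_lt_ncard (s := (D : Set G)) (t := (((S : Subgroup G) ⊓ (V : Subgroup G) : Subgroup G) : Set G))
        (by exact_mod_cast hlt) (Set.toFinite _)
    have hcardG : Nat.card ↥((S : Subgroup G) ⊓ (V : Subgroup G)) ≤ Nat.card G := Subgroup.card_le_card_group _
    have hSV : S ≠ V := fun h => hVS h.symm
    have := ih (Nat.card G - Nat.card ↥((S : Subgroup G) ⊓ (V : Subgroup G))) (by omega) S V hSV rfl
    intro d hd s hs
    exact this d (hle hd) s hs

theorem mem_center_map {G : Type*} [Group G] (S : Subgroup G) (d : G) (hd : d ∈ S)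
    (h : ∀ s ∈ S, s * d = d * s) : d ∈ (Subgroup.center ↥S).map S.subtype := by
  refine ⟨⟨d, hd⟩, ?_, rfl⟩
  rw [SetLike.mem_coe, Subgroup.mem_center_iff]
  intro s
  exact Subtype.ext (h s s.2)

/-- Let G be a finite group in which the intersection of any two distinct Sylow 2-subgroups is contained in the centre of some Sylow 2-subgroup, and let S be a Sylow 2-subgroup. Then for every x in S the centralizer of x in S is a Sylow 2-subgroup of the centralizer of x in G (no 2-subgroup centralizing x is larger), and for every other Sylow 2-subgroup T the intersection S ∩ T lies in both the centre of S and the centre of T. -/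
theorem result {G : Type*} [Group G] [Finite G]
    (hCI : ∀ S T : Sylow 2 G, S ≠ T → ∃ U : Sylow 2 G,
      (S : Subgroup G) ⊓ (T : Subgroup G) ≤ (Subgroup.center ↥(U : Subgroup G)).map (U : Subgroup G).subtype)
    (S : Sylow 2 G) :
    (∀ x ∈ (S : Subgroup G), ∀ P : Subgroup G, IsPGroup 2 ↥P → P ≤ Subgroup.centralizer ({x} : Set G) →
        Nat.card ↥P ≤ Nat.card ↥((S : Subgroup G) ⊓ Subgroup.centralizer ({x} : Set G))) ∧
    (∀ T : Sylow 2 G, T ≠ S →
        (S : Subgroup G) ⊓ (T : Subgroup G) ≤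
          (Subgroup.center ↥(S : Subgroup G)).map (S : Subgroup G).subtype ⊓
            (Subgroup.center ↥(T : Subgroup G)).map (T : Subgroup G).subtype) := by
  have : Fact (Nat.Prime 2) := ⟨Nat.prime_two⟩
  have K := fun S T hne => key hCI _ S T hne rfl
  constructor
  · intro x hx P hP hPx
    set Cx : Subgroup G := Subgroup.centralizer ({x} : Set G) with hCx
    have hA : IsPGroup 2 (((S : Subgroup G) ⊓ Cx).subgroupOf Cx) := (S.2.to_le inf_le_left).comap_subtype
    obtain ⟨Q, hQ⟩ := hA.exists_le_sylow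
    have hQJ : IsPGroup 2 ((Q : Subgroup Cx).map Cx.subtype) := Q.2.map _
    obtain ⟨T, hT⟩ := hQJ.exists_le_sylow
    have hxCx : x ∈ Cx := by
      rw [hCx, Subgroup.mem_centralizer_iff]
      intro y hy
      rw [Set.mem_singleton_iff] at hy
      rw [hy]
    have hSCQ : (S : Subgroup G) ⊓ Cx ≤ (Q : Subgroup Cx).map Cx.subtype := by
      intro c hc
      exact ⟨⟨c, hc.2⟩, hQ (Subgroup.mem_subgroupOf.mpr hc), rfl⟩
    by_cases hTS : T = S
    · -- Q ≤ S ⊓ Cx
      have hQle : (Q : Subgroup Cx).map Cx.subtype ≤ (S : Subgroup G) ⊓ Cx := by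
        intro c hc
        refine ⟨?_, ?_⟩
        · rw [← hTS]; exact hT hc
        · obtain ⟨q, _, rfl⟩ := hc
          exact q.2
      have hPQ : Nat.card P ≤ Nat.card (Q : Subgroup Cx) := by
        have hP' : IsPGroup 2 (P.subgroupOf Cx) := hP.comap_subtype
        have h1 := card_le_sylow _ hP' Q
        have h2 : Nat.card (P.subgroupOf Cx) = Nat.card P :=
          Nat.card_congr (Subgroup.subgroupOfEquivOfLe hPx).toEquiv
        rw [← h2]; exact h1
      have hQcard : Nat.card (Q : Subgroup Cx) = Nat.card ((Q : Subgroup Cx).map Cx.subtype) :=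
        (Subgroup.card_map_of_injective Cx.subtype_injective).symm
      calc Nat.card P ≤ Nat.card (Q : Subgroup Cx) := hPQ
        _ = Nat.card ((Q : Subgroup Cx).map Cx.subtype) := hQcard
        _ ≤ Nat.card ↥((S : Subgroup G) ⊓ Cx) := Subgroup.card_le_of_le hQle
    · -- x ∈ S ⊓ T is central in S
      have hxT : x ∈ (T : Subgroup G) := hT (hSCQ ⟨hx, hxCx⟩)
      have hxc := K S T (fun h => hTS h.symm) x ⟨hx, hxT⟩
      have hSCx : (S : Subgroup G) ⊓ Cx = S := by
        apply le_antisymm inf_le_left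
        intro s hs
        refine Subgroup.mem_inf.mpr ⟨hs, ?_⟩
        rw [hCx, Subgroup.mem_centralizer_iff]
        intro y hy
        rw [Set.mem_singleton_iff] at hy
        rw [hy]
        exact (hxc s hs).symm
      rw [hSCx]
      exact card_le_sylow P hP S
  · intro T hTS d hd
    refine ⟨mem_center_map _ d hd.1 (K S T (fun h => hTS h.symm) d hd), ?_⟩
    have hd' : d ∈ (T : Subgroup G) ⊓ (S : Subgroup G) := ⟨hd.2, hd.1⟩
    exact mem_center_map _ d hd.2 (K T S hTS d hd')

end Cfsg.Agent.S3183
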