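import Cfsg.Statements.S3190
-- import your own Cfsg.Agent.* helpers here

set_option autoImplicit false
open Cfsg

namespace Cfsg.Agent.S3190

/-- A nontrivial subgroup `B` of a finite `p`-subgroup `P`, normalized by `P`, contains a nontrivial
element centralized by `P`. -/
theorem exists_central_of_normalized {X : Type*} [Group X] {p : ℕ} [Fact p.Prime]
    (P B : Subgroup X) [Finite P]
    (hP : IsPGroup p P) (hBP : B ≤ P) (hnorm : ∀ g ∈ P, ∀ b ∈ B, g * b * g⁻¹ ∈ B) (hB : B ≠ ⊥) :
    ∃ z ∈ B, z ≠ 1 ∧ ∀ g ∈ P, g * z = z * g := by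
  let act : MulAction P B :=
    { smul := fun g b => ⟨(g : X) * b * (g : X)⁻¹, hnorm g g.2 b b.2⟩
      one_smul := fun b => Subtype.ext (by
        show ((1 : P) : X) * b * ((1 : P) : X)⁻¹ = b
        simp)
      mul_smul := fun g h b => Subtype.ext (by
        show ((g * h : P) : X) * b * ((g * h : P) : X)⁻¹ = g * (h * b * (h : X)⁻¹) * (g : X)⁻¹
        simp [mul_assoc]) }
  have hsmul : ∀ (g : P) (b : B), ((g • b : B) : X) = (g : X) * b * (g : X)⁻¹ := fun _ _ => rfl
  have : Finite B := Finite.of_injective (fun b : B => (⟨b, hBP b.2⟩ : P))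
    (fun a b h => Subtype.ext (by simpa using congrArg (fun x : P => (x : X)) h))
  have hBp : IsPGroup p B := hP.to_le hBP
  have hdvd : p ∣ Nat.card B := by
    rcases hBp.card_eq_or_dvd with h | h
    · exact absurd (Subgroup.card_eq_one.mp h) hB
    · exact h
  have h1 : (1 : B) ∈ MulAction.fixedPoints P B := by
    intro g
    apply Subtype.ext
    rw [hsmul]
    simp
  obtain ⟨b, hb, hb1⟩ := hP.exists_fixed_point_of_prime_dvd_card_of_fixed_point B hdvd h1
  refine ⟨b, b.2, ?_, ?_⟩
  · intro h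
    apply hb1
    exact Subtype.ext h.symm
  · intro g hg
    have := congrArg (fun x : B => (x : X)) (hb ⟨g, hg⟩)
    simp only [hsmul] at this
    calc g * b = g * b * g⁻¹ * g := by group
      _ = b * g := by rw [this]

/-- Let p be an odd prime and, inside a finite group, let P be a p-subgroup normalized by a Klein four-group T. Let R be a subgroup of P, normal in P and normalized by T, such that P is the product of R with the centralizer of T in P. If T centralizes the centre of P, then T centralizes the centre of R. -/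
theorem result {X : Type*} [Group X] [Finite X]
    {p : ℕ} (hp : p.Prime) (hodd : Odd p) (P T R : Subgroup X) (hP : IsPGroup p ↥P) (hT : IsKleinFour ↥T)
    (hTP : T ≤ Subgroup.normalizer (P : Set X)) (hRP : R ≤ P) (hRn : (R.subgroupOf P).Normal)
    (hTR : T ≤ Subgroup.normalizer (R : Set X)) (hfac : R ⊔ (P ⊓ Subgroup.centralizer (T : Set X)) = P)
    (hZ : T ≤ Subgroup.centralizer (((Subgroup.center ↥P).map P.subtype : Subgroup X) : Set X)) :
    T ≤ Subgroup.centralizer (((Subgroup.center ↥R).map R.subtype : Subgroup X) : Set X) := by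
  have : Fact p.Prime := ⟨hp⟩
  intro t ht
  -- t squares to one
  have ht2 : t * t = 1 := by
    have h := Monoid.pow_exponent_eq_one (⟨t, ht⟩ : T)
    rw [hT.exponent_two] at h
    have := congrArg (fun x : T => (x : X)) h
    simpa [pow_two] using this
  have htinv : t⁻¹ = t := inv_eq_of_mul_eq_one_left ht2
  -- t normalizes R
  have htR : ∀ r, r ∈ R ↔ t * r * t⁻¹ ∈ R := fun r => by
    have := (Subgroup.mem_normalizer_iff.mp (hTR ht)) r
    exact this
  have htR' : ∀ r, r ∈ R → t⁻¹ * r * t ∈ R := fun r hr => by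
    rw [htR]
    simpa [mul_assoc] using hr
  -- R normal in P
  have hRnP : ∀ g ∈ P, ∀ r ∈ R, g * r * g⁻¹ ∈ R := by
    intro g hg r hr
    have := hRn.conj_mem ⟨r, hRP hr⟩ (by simpa [Subgroup.mem_subgroupOf] using hr) ⟨g, hg⟩
    simpa [Subgroup.mem_subgroupOf] using this
  -- membership in the centre of R, in X
  have hmemZ : ∀ a : X, a ∈ (Subgroup.center ↥R).map R.subtype ↔ a ∈ R ∧ ∀ r ∈ R, r * a = a * r := by
    intro a
    constructor
    · rintro ⟨⟨a, haR⟩, ha, rfl⟩
      refine ⟨haR, fun r hr => ?_⟩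
      have := Subgroup.mem_center_iff.mp ha ⟨r, hr⟩
      exact congrArg (fun x : R => (x : X)) this
    · rintro ⟨haR, ha⟩
      refine ⟨⟨a, haR⟩, ?_, rfl⟩
      rw [SetLike.mem_coe, Subgroup.mem_center_iff]
      intro r
      exact Subtype.ext (ha r r.2)
  have hmemZP : ∀ a : X, a ∈ P → (∀ g ∈ P, g * a = a * g) → a ∈ (Subgroup.center ↥P).map P.subtype := by
    intro a haP ha
    refine ⟨⟨a, haP⟩, ?_, rfl⟩
    rw [SetLike.mem_coe, Subgroup.mem_center_iff]
    intro r
    exact Subtype.ext (ha r r.2)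
  -- the subgroup B of inverted central elements
  let B : Subgroup X :=
    { carrier := {a | a ∈ R ∧ (∀ r ∈ R, r * a = a * r) ∧ t * a * t⁻¹ = a⁻¹}
      one_mem' := ⟨R.one_mem, by simp, by simp⟩
      mul_mem' := by
        rintro a b ⟨haR, hac, hat⟩ ⟨hbR, hbc, hbt⟩
        refine ⟨R.mul_mem haR hbR, ?_, ?_⟩
        · intro r hr
          rw [← mul_assoc, hac r hr, mul_assoc, hbc r hr, mul_assoc]
        · have : t * (a * b) * t⁻¹ = (t * a * t⁻¹) * (t * b * t⁻¹) := by group
          rw [this, hat, hbt, mul_inv_rev]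
          have := hac b hbR
          -- b * a = a * b
          rw [← mul_inv_rev, ← mul_inv_rev, this]
      inv_mem' := by
        rintro a ⟨haR, hac, hat⟩
        refine ⟨R.inv_mem haR, ?_, ?_⟩
        · intro r hr
          have := hac r hr
          calc r * a⁻¹ = a⁻¹ * (a * r) * a⁻¹ := by group
            _ = a⁻¹ * (r * a) * a⁻¹ := by rw [this]
            _ = a⁻¹ * r := by group
        · have : t * a⁻¹ * t⁻¹ = (t * a * t⁻¹)⁻¹ := by group
          rw [this, hat] }
  have hBmem : ∀ a, a ∈ B ↔ a ∈ R ∧ (∀ r ∈ R, r * a = a * r) ∧ t * a * t⁻¹ = a⁻¹ := fun a => Iff.rfl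
  have hBP : B ≤ P := fun a ha => hRP ha.1
  -- B is normalized by P
  have hBnorm : ∀ g ∈ P, ∀ b ∈ B, g * b * g⁻¹ ∈ B := by
    intro g hg
    rw [← hfac] at hg
    refine Subgroup.closure_induction (p := fun g _ => ∀ b ∈ B, g * b * g⁻¹ ∈ B) ?_ ?_ ?_ ?_
      (by rwa [Subgroup.sup_eq_closure] at hg)
    · intro g hg b hb
      rcases hg with hg | hg
      · -- g ∈ R centralizes b
        have : g * b * g⁻¹ = b := by
          rw [hb.2.1 g hg]; group
        rw [this]; exact hb
      · -- g ∈ P ⊓ C(T)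
        obtain ⟨hgP, hgC⟩ := hg
        have hgt : t * g = g * t := (Subgroup.mem_centralizer_iff.mp hgC t ht)
        have hgt' : t * g⁻¹ = g⁻¹ * t := by
          calc t * g⁻¹ = g⁻¹ * (g * t) * g⁻¹ := by group
            _ = g⁻¹ * (t * g) * g⁻¹ := by rw [hgt]
            _ = g⁻¹ * t := by group
        refine ⟨hRnP g hgP b hb.1, ?_, ?_⟩
        · intro r hr
          have hr' : g⁻¹ * r * g ∈ R := by
            have := hRnP g⁻¹ (P.inv_mem hgP) r hr
            simpa using this
          have := hb.2.1 _ hr'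
          calc r * (g * b * g⁻¹) = g * ((g⁻¹ * r * g) * b) * g⁻¹ := by group
            _ = g * (b * (g⁻¹ * r * g)) * g⁻¹ := by rw [this]
            _ = g * b * g⁻¹ * r := by group
        · calc t * (g * b * g⁻¹) * t⁻¹ = (t * g) * b * (g⁻¹ * t⁻¹) := by group
            _ = (g * t) * b * (g⁻¹ * t⁻¹) := by rw [hgt]
            _ = g * (t * b * t⁻¹) * (t * g⁻¹ * t⁻¹) := by group
            _ = g * b⁻¹ * (g⁻¹ * t * t⁻¹) := by rw [hb.2.2, hgt']
            _ = (g * b * g⁻¹)⁻¹ := by group
    · intro b hb; simpa using hb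
    · intro x y _ _ hx hy b hb
      have := hx _ (hy b hb)
      simpa [mul_assoc] using this
    · intro x _ hx b hb
      -- conjugation by x is a bijection on the finite set B; use finiteness via order
      -- x⁻¹ = x ^ (orderOf x - 1)
      have hpow : ∀ n : ℕ, ∀ b ∈ B, x ^ n * b * (x ^ n)⁻¹ ∈ B := by
        intro n
        induction n with
        | zero => intro b hb; simpa using hb
        | succ n ih =>
          intro b hb
          have := hx _ (ih b hb)
          have e : x ^ (n + 1) * b * (x ^ (n + 1))⁻¹ = x * (x ^ n * b * (x ^ n)⁻¹) * x⁻¹ := by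
            rw [pow_succ']; group
          rw [e]; exact this
      have hx1 : x⁻¹ = x ^ (orderOf x - 1) := by
        have hpos : 0 < orderOf x := orderOf_pos x
        have : x ^ (orderOf x - 1) * x = 1 := by
          rw [← pow_succ, Nat.sub_add_cancel hpos, pow_orderOf_eq_one]
        exact (eq_inv_of_mul_eq_one_left this).symm
      rw [hx1]
      exact hpow _ b hb
  -- B is trivial
  have hBbot : B = ⊥ := by
    by_contra hB
    obtain ⟨z, hzB, hz1, hzc⟩ := exists_central_of_normalized P B hP hBP hBnorm hB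
    have hzZ : z ∈ (Subgroup.center ↥P).map P.subtype := hmemZP z (hBP hzB) hzc
    have htz : z * t = t * z := Subgroup.mem_centralizer_iff.mp (hZ ht) z hzZ
    have hzinv : z = z⁻¹ := by
      have := hzB.2.2
      rw [← this, ← htz]; group
    have hz2 : z ^ 2 = 1 := by
      rw [pow_two]
      nth_rewrite 1 [hzinv]
      simp
    -- z has order a power of p and dividing 2
    obtain ⟨k, hk⟩ := (hP.to_le hBP : IsPGroup p B) ⟨z, hzB⟩
    have hk' : z ^ (p ^ k) = 1 := by
      have := congrArg (fun x : B => (x : X)) hk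
      simpa using this
    have hcop : Nat.Coprime (p ^ k) 2 := by
      apply Nat.Coprime.pow_left
      exact (Nat.coprime_primes hp Nat.prime_two).mpr (by
        rintro rfl
        exact absurd hodd (by decide))
    have : orderOf z ∣ Nat.gcd (p ^ k) 2 :=
      Nat.dvd_gcd (orderOf_dvd_of_pow_eq_one hk') (orderOf_dvd_of_pow_eq_one hz2)
    rw [hcop] at this
    exact hz1 (orderOf_eq_one_iff.mp (Nat.dvd_one.mp this))
  -- conclude
  rw [Subgroup.mem_centralizer_iff]
  intro a ha
  rw [SetLike.mem_coe, hmemZ] at ha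
  obtain ⟨haR, hac⟩ := ha
  -- b = a⁻¹ * (t a t⁻¹) lies in B
  have htaR : t * a * t⁻¹ ∈ R := (htR a).mp haR
  have htac : ∀ r ∈ R, r * (t * a * t⁻¹) = (t * a * t⁻¹) * r := by
    intro r hr
    have := hac _ (htR' r hr)
    calc r * (t * a * t⁻¹) = t * ((t⁻¹ * r * t) * a) * t⁻¹ := by group
      _ = t * (a * (t⁻¹ * r * t)) * t⁻¹ := by rw [this]
      _ = t * a * t⁻¹ * r := by group
  have hb : a⁻¹ * (t * a * t⁻¹) ∈ B := by
    refine ⟨R.mul_mem (R.inv_mem haR) htaR, ?_, ?_⟩
    · intro r hr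
      have h1 := hac r hr
      have h2 := htac r hr
      calc r * (a⁻¹ * (t * a * t⁻¹)) = a⁻¹ * (a * r) * a⁻¹ * (t * a * t⁻¹) := by group
        _ = a⁻¹ * (r * a) * a⁻¹ * (t * a * t⁻¹) := by rw [h1]
        _ = a⁻¹ * (r * (t * a * t⁻¹)) := by group
        _ = a⁻¹ * ((t * a * t⁻¹) * r) := by rw [h2]
        _ = a⁻¹ * (t * a * t⁻¹) * r := by group
    · have hcomm : a * (t * a * t⁻¹) = (t * a * t⁻¹) * a := (htac a haR)
      have hcomm' : (t * a * t⁻¹)⁻¹ * a = a * (t * a * t⁻¹)⁻¹ := by
        calc (t * a * t⁻¹)⁻¹ * a = (t * a * t⁻¹)⁻¹ * (a * (t * a * t⁻¹)) * (t * a * t⁻¹)⁻¹ := by group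
          _ = (t * a * t⁻¹)⁻¹ * ((t * a * t⁻¹) * a) * (t * a * t⁻¹)⁻¹ := by rw [hcomm]
          _ = a * (t * a * t⁻¹)⁻¹ := by group
      calc t * (a⁻¹ * (t * a * t⁻¹)) * t⁻¹ = (t * a * t⁻¹)⁻¹ * ((t * t) * a * (t * t)⁻¹) := by group
        _ = (t * a * t⁻¹)⁻¹ * a := by rw [ht2]; simp
        _ = a * (t * a * t⁻¹)⁻¹ := hcomm'
        _ = (a⁻¹ * (t * a * t⁻¹))⁻¹ := by
          rw [← hcomm']; group
  rw [hBbot, Subgroup.mem_bot] at hb
  -- a⁻¹ * (t a t⁻¹) = 1
  have : t * a * t⁻¹ = a := by
    have := congrArg (fun x => a * x) hb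
    simpa using this
  calc a * t = (t * a * t⁻¹) * t := by rw [this]
    _ = t * a := by group

end Cfsg.Agent.S3190
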