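import Mathlib
import Cfsg.Statements.S3195
import Cfsg.Agent.Lib.Lead.BaerSuzuki
import Cfsg.Agent.Lib.Helper16.PCore

set_option autoImplicit false
set_option maxHeartbeats 1000000
open Cfsg

namespace Cfsg.Agent.S3195

theorem two_dvd_eight : (2:ℕ) ∣ 8 := ⟨4, rfl⟩
theorem four_dvd_eight : (4:ℕ) ∣ 8 := ⟨2, rfl⟩

theorem pow_ne_one_of_dvd_eight {G : Type*} [Group G] {u : G} (hcop : Nat.Coprime 8 (orderOf u))
    (hu : u ≠ 1) {n : ℕ} (hn : n ∣ 8) : u ^ n ≠ 1 := by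
  intro h
  have hd : orderOf u ∣ n := orderOf_dvd_of_pow_eq_one h
  have hc : Nat.Coprime (orderOf u) 8 := hcop.symm
  have h1 : orderOf u = 1 := Nat.Coprime.eq_one_of_dvd hc (hd.trans hn)
  exact hu (orderOf_eq_one_iff.mp h1)

theorem commute_of_pow {G : Type*} [Group G] {u t : G} (hcop : Nat.Coprime 8 (orderOf u))
    {n : ℕ} (hn : n ∣ 8) (h : Commute t (u ^ n)) : Commute t u := by
  obtain ⟨m, hm⟩ := exists_pow_eq_self_of_coprime (Nat.Coprime.coprime_dvd_left hn hcop)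
  have h1 := h.pow_right m
  rwa [hm] at h1

theorem conj_of_inverts {G : Type*} [Group G] {s d : G} (h : s * d * s⁻¹ = d⁻¹) :
    d * s * d⁻¹ = d ^ 2 * s := by
  have h2 : s * d⁻¹ * s⁻¹ = d := by
    calc s * d⁻¹ * s⁻¹ = (s * d * s⁻¹)⁻¹ := by group
      _ = d := by rw [h, inv_inv]
  calc d * s * d⁻¹ = d * (s * d⁻¹ * s⁻¹) * s := by group
    _ = d ^ 2 * s := by rw [h2, pow_two]

theorem inverts_pow {G : Type*} [Group G] {s d : G} (h : s * d * s⁻¹ = d⁻¹) (n : ℕ) :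
    s * d ^ n * s⁻¹ = (d ^ n)⁻¹ := by
  rw [← conj_pow, h, inv_pow]

theorem sq_eq_one_of_inverts_of_commute {G : Type*} [Group G] {s d : G}
    (h : s * d * s⁻¹ = d⁻¹) (hc : Commute s d) : d ^ 2 = 1 := by
  have h1 : s * d * s⁻¹ = d := by rw [hc.eq, mul_inv_cancel_right]
  have h2 : d = d⁻¹ := h1.symm.trans h
  rw [pow_two]
  exact mul_eq_one_iff_eq_inv.mpr h2

theorem not_commute_sq_mul {G : Type*} [Group G] {s d : G} (hcop : Nat.Coprime 8 (orderOf d))
    (hd1 : d ≠ 1) (h : s * d * s⁻¹ = d⁻¹) : ¬ Commute s (d ^ 2 * s) := by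
  intro hc
  have h1 : Commute s (d ^ 2 * s * s⁻¹) := hc.mul_right (Commute.refl s).inv_right
  rw [mul_inv_cancel_right] at h1
  have h2 : Commute s d := commute_of_pow hcop two_dvd_eight h1
  exact pow_ne_one_of_dvd_eight hcop hd1 two_dvd_eight (sq_eq_one_of_inverts_of_commute h h2)

theorem commute_conj {G : Type*} [Group G] {q t c : G} (h : Commute q (c⁻¹ * t * c)) :
    Commute (c * q * c⁻¹) t := by
  have h1 : c * (q * (c⁻¹ * t * c)) * c⁻¹ = c * ((c⁻¹ * t * c) * q) * c⁻¹ := by rw [h.eq]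
  have e1 : c * (q * (c⁻¹ * t * c)) * c⁻¹ = (c * q * c⁻¹) * t := by group
  have e2 : c * ((c⁻¹ * t * c) * q) * c⁻¹ = t * (c * q * c⁻¹) := by group
  exact e1.symm.trans (h1.trans e2)

theorem conj_aux {G : Type*} [Group G] (c v z : G) :
    (c⁻¹ * v) * z * (c⁻¹ * v)⁻¹ = c⁻¹ * (v * z * v⁻¹) * c := by group

theorem conj_mul_self {G : Type*} [Group G] {x : G} (hx2 : x * x = 1) (g : G) :
    (g * x * g⁻¹) * (g * x * g⁻¹) = 1 := by
  calc (g * x * g⁻¹) * (g * x * g⁻¹) = g * (x * x) * g⁻¹ := by group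
    _ = 1 := by rw [hx2, mul_one, mul_inv_cancel]

theorem inverts_mul_of_commute {G : Type*} [Group G] {s z u : G} (hsu : s * u * s⁻¹ = u⁻¹)
    (hzu : Commute z u) : (s * z) * u * (s * z)⁻¹ = u⁻¹ := by
  have e : (s * z) * u * (s * z)⁻¹ = s * (z * u * z⁻¹) * s⁻¹ := by group
  rw [e, hzu.eq, mul_inv_cancel_right, hsu]

theorem inverts_mul_of_commute' {G : Type*} [Group G] {s z v : G} (hsv : Commute s v)
    (hzv : z * v * z⁻¹ = v⁻¹) : (s * z) * v * (s * z)⁻¹ = v⁻¹ := by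
  have e : (s * z) * v * (s * z)⁻¹ = s * (z * v * z⁻¹) * s⁻¹ := by group
  rw [e, hzv, hsv.inv_right.eq, mul_inv_cancel_right]

theorem key {G : Type*} [Group G] {u s t : G} (hcop : Nat.Coprime 8 (orderOf u)) {e1 e2 n : ℕ}
    (hn : n ∣ 8) (he : e2 = e1 + n)
    (h1 : Commute t (u ^ e1 * s)) (h2 : Commute t (u ^ e2 * s)) : Commute t u ∧ Commute t s := by
  subst he
  have h3 : Commute t ((u ^ (e1 + n) * s) * (u ^ e1 * s)⁻¹) := h2.mul_right h1.inv_right
  have e : (u ^ (e1 + n) * s) * (u ^ e1 * s)⁻¹ = u ^ n := by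
    rw [add_comm e1 n, pow_add, mul_assoc (u ^ n) (u ^ e1) s, mul_inv_cancel_right]
  rw [e] at h3
  have hu : Commute t u := commute_of_pow hcop hn h3
  refine ⟨hu, ?_⟩
  have h4 : Commute t ((u ^ e1)⁻¹ * (u ^ e1 * s)) := (hu.pow_right e1).inv_right.mul_right h1
  rwa [inv_mul_cancel_left] at h4

theorem isPGroup_sup_of_inverts {G : Type*} [Group G] {x r : G} (hx2 : x * x = 1)
    (hinv : x * r * x⁻¹ = r⁻¹) (k : ℕ) (hk : orderOf r = 2 ^ k) :
    IsPGroup 2 ↥(Subgroup.zpowers x ⊔ Subgroup.zpowers r) := by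
  have : Fact (Nat.Prime 2) := ⟨Nat.prime_two⟩
  have hxP : IsPGroup 2 ↥(Subgroup.zpowers x) := by
    have hd : orderOf x ∣ 2 := orderOf_dvd_of_pow_eq_one (by rw [pow_two]; exact hx2)
    rcases (Nat.dvd_prime Nat.prime_two).mp hd with h1 | h1
    · exact IsPGroup.of_card (n := 0) (by rw [Nat.card_zpowers, h1, pow_zero])
    · exact IsPGroup.of_card (n := 1) (by rw [Nat.card_zpowers, h1, pow_one])
  have hrP : IsPGroup 2 ↥(Subgroup.zpowers r) :=
    IsPGroup.of_card (n := k) (by rw [Nat.card_zpowers, hk])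
  have hfwd : ∀ h ∈ Subgroup.zpowers r, x * h * x⁻¹ ∈ Subgroup.zpowers r := by
    intro h hh
    obtain ⟨n, rfl⟩ := Subgroup.mem_zpowers_iff.mp hh
    rw [← conj_zpow, hinv]
    exact Subgroup.zpow_mem _ (Subgroup.inv_mem _ (Subgroup.mem_zpowers r)) n
  have hnorm : Subgroup.zpowers x ≤ Subgroup.normalizer (Subgroup.zpowers r) := by
    rw [Subgroup.zpowers_le, Subgroup.mem_normalizer_iff]
    intro h
    constructor
    · exact hfwd h
    · intro hh
      have h1 := hfwd _ hh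
      have e : x * (x * h * x⁻¹) * x⁻¹ = (x * x) * h * (x * x)⁻¹ := by group
      rw [e, hx2, one_mul, inv_one, mul_one] at h1
      exact h1
  exact IsPGroup.to_sup_of_normal_right' hxP hrP hnorm

theorem exists_inverted {G : Type*} [Group G] [Finite G] (x : G) (hx2 : x * x = 1)
    (hx : x ∉ Cfsg.pCore 2 G) :
    ∃ u : G, Nat.Coprime 8 (orderOf u) ∧ u ≠ 1 ∧ x * u * x⁻¹ = u⁻¹ := by
  have : Fact (Nat.Prime 2) := ⟨Nat.prime_two⟩
  have hxinv : x⁻¹ = x := inv_eq_of_mul_eq_one_right hx2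
  obtain ⟨g, hg⟩ : ∃ g : G, ¬ IsPGroup 2
      ↥(Subgroup.zpowers x ⊔ (Subgroup.zpowers x).map (MulAut.conj g).toMonoidHom) := by
    by_contra hcon
    apply hx
    have hall : ∀ g : G, IsPGroup 2
        ↥(Subgroup.zpowers x ⊔ (Subgroup.zpowers x).map (MulAut.conj g).toMonoidHom) := by
      intro g
      by_contra hn
      exact hcon ⟨g, hn⟩
    obtain ⟨N, hN, hpN, hle⟩ :=
      Cfsg.Agent.Lib.Lead.baer_suzuki_subgroup (p := 2) (Subgroup.zpowers x) hall
    exact Cfsg.Agent.Lib.Helper16.le_pCore hN hpN (hle (Subgroup.mem_zpowers x))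
  have hy2 : (g * x * g⁻¹) * (g * x * g⁻¹) = 1 := conj_mul_self hx2 g
  have hyinv : (g * x * g⁻¹)⁻¹ = g * x * g⁻¹ := inv_eq_of_mul_eq_one_right hy2
  have hinv : x * (x * (g * x * g⁻¹)) * x⁻¹ = (x * (g * x * g⁻¹))⁻¹ := by
    rw [mul_inv_rev, hyinv, hxinv, ← mul_assoc x x, hx2, one_mul]
  have hnot : ¬ ∃ k : ℕ, orderOf (x * (g * x * g⁻¹)) = 2 ^ k := by
    rintro ⟨k, hk⟩
    apply hg
    have hsup := isPGroup_sup_of_inverts hx2 hinv k hk
    refine hsup.to_le ?_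
    rw [sup_le_iff]
    refine ⟨le_sup_left, ?_⟩
    rw [MonoidHom.map_zpowers, Subgroup.zpowers_le]
    have e : (MulAut.conj g).toMonoidHom x = x⁻¹ * (x * (g * x * g⁻¹)) := by
      show g * x * g⁻¹ = _
      rw [inv_mul_cancel_left]
    rw [e]
    exact Subgroup.mul_mem _
      (Subgroup.inv_mem _ (Subgroup.mem_sup_left (Subgroup.mem_zpowers x)))
      (Subgroup.mem_sup_right (Subgroup.mem_zpowers _))
  rcases Nat.eq_two_pow_or_exists_odd_prime_and_dvd (orderOf (x * (g * x * g⁻¹))) with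
    hk | ⟨r, hr, hrd, hodd⟩
  · exact absurd hk hnot
  have hr2 : r ≠ 2 := by
    intro h
    rw [h] at hodd
    exact (Nat.not_odd_iff_even.mpr even_two) hodd
  have h2r : Nat.Coprime 2 r := (Nat.coprime_primes Nat.prime_two hr).mpr (Ne.symm hr2)
  have h8r : Nat.Coprime 8 r := by
    rw [show (8:ℕ) = 2 ^ 3 by norm_num]
    exact Nat.Coprime.pow_left 3 h2r
  have hpos : orderOf (x * (g * x * g⁻¹)) ≠ 0 := (orderOf_pos _).ne'
  have hord : orderOf ((x * (g * x * g⁻¹)) ^ (orderOf (x * (g * x * g⁻¹)) / r)) = r :=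
    orderOf_pow_orderOf_div hpos hrd
  refine ⟨(x * (g * x * g⁻¹)) ^ (orderOf (x * (g * x * g⁻¹)) / r), ?_, ?_, inverts_pow hinv _⟩
  · rw [hord]
    exact h8r
  · intro h1
    rw [h1, orderOf_one] at hord
    exact hr.one_lt.ne hord

/-- Let A be a Klein four-subgroup of a finite group G. If every G-conjugate of every involution of A commutes with some involution of A (its centralizer meets A nontrivially), then A meets the largest normal 2-subgroup O₂(G) nontrivially. -/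
theorem result {G : Type*} [Group G] [Finite G]
    (A : Subgroup G) (hA : IsKleinFour ↥A)
    (h : ∀ a ∈ A, a ≠ 1 → ∀ g : G, A ⊓ Subgroup.centralizer ({g * a * g⁻¹} : Set G) ≠ ⊥) :
    A ⊓ Cfsg.pCore 2 G ≠ ⊥ := by
  intro hbot
  have := hA
  have hsq : ∀ x ∈ A, x * x = 1 := by
    intro x hx
    have h1 := congrArg Subtype.val (IsKleinFour.mul_self (⟨x, hx⟩ : ↥A))
    simpa using h1
  have hcomm : ∀ x ∈ A, ∀ y ∈ A, Commute x y := by
    intro x hx y hy
    have h1 := congrArg Subtype.val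
      (mul_comm_of_exponent_two hA.exponent_two (⟨x, hx⟩ : ↥A) ⟨y, hy⟩)
    show x * y = y * x
    simpa using h1
  have hA3 : ∀ x ∈ A, ∀ y ∈ A, x ≠ 1 → y ≠ 1 → x ≠ y → ∀ q ∈ A, q ≠ 1 →
      q = x ∨ q = y ∨ q = x * y := by
    intro x hx y hy hx1 hy1 hxy q hq hq1
    by_cases h1 : q = x
    · exact Or.inl h1
    by_cases h2 : q = y
    · exact Or.inr (Or.inl h2)
    refine Or.inr (Or.inr ?_)
    have h3 := IsKleinFour.eq_mul_of_ne_all (G := ↥A) (x := ⟨x, hx⟩) (y := ⟨y, hy⟩) (z := ⟨q, hq⟩)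
      (fun h => hx1 (by simpa using congrArg Subtype.val h))
      (fun h => hy1 (by simpa using congrArg Subtype.val h))
      (fun h => hxy (by simpa using congrArg Subtype.val h))
      (fun h => hq1 (by simpa using congrArg Subtype.val h))
      (fun h => h1 (by simpa using congrArg Subtype.val h))
      (fun h => h2 (by simpa using congrArg Subtype.val h))
    simpa using congrArg Subtype.val h3
  have hyp : ∀ x ∈ A, x ≠ 1 → ∀ g : G, ∃ q ∈ A, q ≠ 1 ∧ Commute q (g * x * g⁻¹) := by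
    intro x hx hx1 g
    obtain ⟨⟨q, hq⟩, hq1⟩ := (Subgroup.ne_bot_iff_exists_ne_one).mp (h x hx hx1 g)
    refine ⟨q, (Subgroup.mem_inf.mp hq).1, fun h1 => hq1 (Subtype.ext (by simpa using h1)), ?_⟩
    exact (Subgroup.mem_centralizer_iff.mp (Subgroup.mem_inf.mp hq).2 _
      (Set.mem_singleton _)).symm
  have hnot : ∀ x ∈ A, x ≠ 1 → x ∉ Cfsg.pCore 2 G := by
    intro x hx hx1 hxc
    have hmem : x ∈ A ⊓ Cfsg.pCore 2 G := Subgroup.mem_inf.mpr ⟨hx, hxc⟩
    rw [hbot] at hmem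
    exact hx1 (Subgroup.mem_bot.mp hmem)
  have : Nontrivial ↥A :=
    Finite.one_lt_card_iff_nontrivial.mp (by rw [IsKleinFour.card_four]; norm_num)
  obtain ⟨⟨a, haA⟩, ha1'⟩ := exists_ne (1 : ↥A)
  have ha1 : a ≠ 1 := fun h1 => ha1' (Subtype.ext (by simpa using h1))
  -- step 1
  obtain ⟨u, hcu, hu1, hau⟩ := exists_inverted a (hsq a haA) (hnot a haA ha1)
  obtain ⟨z, hzA, hz1, hzc⟩ := hyp a haA ha1 u
  rw [conj_of_inverts hau] at hzc
  have hza : z ≠ a := by
    intro h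
    rw [h] at hzc
    exact not_commute_sq_mul hcu hu1 hau hzc
  have hzu : Commute z u := by
    have h1 : Commute z (u ^ 2 * a * a⁻¹) := hzc.mul_right (hcomm z hzA a haA).inv_right
    rw [mul_inv_cancel_right] at h1
    exact commute_of_pow hcu two_dvd_eight h1
  have hwA : a * z ∈ A := A.mul_mem haA hzA
  have hw1 : a * z ≠ 1 := by
    intro h
    have h2 : a * z = a * a := by rw [h, hsq a haA]
    exact hza (mul_left_cancel h2)
  have hwz : a * z ≠ z := by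
    intro h
    exact ha1 (mul_right_cancel (h.trans (one_mul z).symm))
  have hwu : (a * z) * u * (a * z)⁻¹ = u⁻¹ := inverts_mul_of_commute hau hzu
  -- step 2
  obtain ⟨v, hcv, hv1, hzv⟩ := exists_inverted z (hsq z hzA) (hnot z hzA hz1)
  -- step 3
  have hstep : ∀ i : ℕ, Commute (v ^ 2 * z) (u ^ (i * 2) * a) ∨
      Commute (v ^ 2 * z) (u ^ (i * 2) * (a * z)) := by
    intro i
    obtain ⟨q, hqA, hq1, hqc⟩ := hyp z hzA hz1 ((u ^ i)⁻¹ * v)
    have e : ((u ^ i)⁻¹ * v) * z * ((u ^ i)⁻¹ * v)⁻¹ = (u ^ i)⁻¹ * (v ^ 2 * z) * u ^ i := by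
      rw [← conj_of_inverts hzv]
      exact conj_aux _ _ _
    rw [e] at hqc
    have hc := commute_conj hqc
    rcases hA3 a haA z hzA ha1 hz1 (Ne.symm hza) q hqA hq1 with hq | hq | hq
    · left
      rw [hq, conj_of_inverts (inverts_pow hau i), ← pow_mul] at hc
      exact hc.symm
    · exfalso
      rw [hq] at hc
      have e2 : u ^ i * z * (u ^ i)⁻¹ = z := by
        rw [← (hzu.pow_right i).eq, mul_inv_cancel_right]
      rw [e2] at hc
      exact not_commute_sq_mul hcv hv1 hzv hc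
    · right
      rw [hq, conj_of_inverts (inverts_pow hwu i), ← pow_mul] at hc
      exact hc.symm
  -- step 4: pigeonhole
  have hpig : ∃ s : G, (s = a ∨ s = a * z) ∧ Commute (v ^ 2 * z) u ∧ Commute (v ^ 2 * z) s := by
    rcases hstep 0 with h0 | h0 <;> rcases hstep 1 with h1 | h1 <;> rcases hstep 2 with h2 | h2
    all_goals first
      | exact ⟨a, Or.inl rfl, key hcu two_dvd_eight (rfl : 1 * 2 = 0 * 2 + 2) h0 h1⟩
      | exact ⟨a, Or.inl rfl, key hcu four_dvd_eight (rfl : 2 * 2 = 0 * 2 + 4) h0 h2⟩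
      | exact ⟨a, Or.inl rfl, key hcu two_dvd_eight (rfl : 2 * 2 = 1 * 2 + 2) h1 h2⟩
      | exact ⟨a * z, Or.inr rfl, key hcu two_dvd_eight (rfl : 1 * 2 = 0 * 2 + 2) h0 h1⟩
      | exact ⟨a * z, Or.inr rfl, key hcu four_dvd_eight (rfl : 2 * 2 = 0 * 2 + 4) h0 h2⟩
      | exact ⟨a * z, Or.inr rfl, key hcu two_dvd_eight (rfl : 2 * 2 = 1 * 2 + 2) h1 h2⟩
  obtain ⟨s, hs, hyu, hys⟩ := hpig
  have hfacts : s ∈ A ∧ s ≠ 1 ∧ s ≠ z ∧ s * u * s⁻¹ = u⁻¹ := by
    rcases hs with h | h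
    · rw [h]
      exact ⟨haA, ha1, Ne.symm hza, hau⟩
    · rw [h]
      exact ⟨hwA, hw1, hwz, hwu⟩
  obtain ⟨hsA, hs1, hsz', hsu⟩ := hfacts
  have hsz : Commute s z := hcomm s hsA z hzA
  have huv : Commute u v := by
    have h1 : Commute u (v ^ 2 * z * z⁻¹) := hyu.symm.mul_right hzu.symm.inv_right
    rw [mul_inv_cancel_right] at h1
    exact commute_of_pow hcv two_dvd_eight h1
  have hsv : Commute s v := by
    have h1 : Commute s (v ^ 2 * z * z⁻¹) := hys.symm.mul_right hsz.inv_right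
    rw [mul_inv_cancel_right] at h1
    exact commute_of_pow hcv two_dvd_eight h1
  have hs'A : s * z ∈ A := A.mul_mem hsA hzA
  have hs'1 : s * z ≠ 1 := by
    intro h
    have h2 : s * z = z * z := by rw [h, hsq z hzA]
    exact hsz' (mul_right_cancel h2)
  have hs'u : (s * z) * u * (s * z)⁻¹ = u⁻¹ := inverts_mul_of_commute hsu hzu
  have hs'v : (s * z) * v * (s * z)⁻¹ = v⁻¹ := inverts_mul_of_commute' hsv hzv
  have hs'd : (s * z) * (u * v) * (s * z)⁻¹ = (u * v)⁻¹ := by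
    have e : (s * z) * (u * v) * (s * z)⁻¹ =
        ((s * z) * u * (s * z)⁻¹) * ((s * z) * v * (s * z)⁻¹) := by group
    rw [e, hs'u, hs'v, mul_inv_rev]
    exact (huv.inv_left.inv_right).eq
  obtain ⟨q, hqA, hq1, hqc⟩ := hyp (s * z) hs'A hs'1 (u * v)
  rw [conj_of_inverts hs'd, huv.mul_pow 2] at hqc
  rcases hA3 s hsA z hzA hs1 hz1 hsz' q hqA hq1 with hq | hq | hq
  · rw [hq] at hqc
    have h1 : Commute s (u ^ 2 * v ^ 2 * (s * z) * (s * z)⁻¹) :=
      hqc.mul_right ((Commute.refl s).mul_right hsz).inv_right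
    rw [mul_inv_cancel_right] at h1
    have h2 : Commute s (u ^ 2 * v ^ 2 * (v ^ 2)⁻¹) := h1.mul_right (hsv.pow_right 2).inv_right
    rw [mul_inv_cancel_right] at h2
    have h3 : Commute s u := commute_of_pow hcu two_dvd_eight h2
    exact pow_ne_one_of_dvd_eight hcu hu1 two_dvd_eight (sq_eq_one_of_inverts_of_commute hsu h3)
  · rw [hq] at hqc
    have h1 : Commute z (u ^ 2 * v ^ 2 * (s * z) * (s * z)⁻¹) :=
      hqc.mul_right (hsz.symm.mul_right (Commute.refl z)).inv_right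
    rw [mul_inv_cancel_right] at h1
    have h2 : Commute z ((u ^ 2)⁻¹ * (u ^ 2 * v ^ 2)) :=
      (hzu.pow_right 2).inv_right.mul_right h1
    rw [inv_mul_cancel_left] at h2
    have h3 : Commute z v := commute_of_pow hcv two_dvd_eight h2
    exact pow_ne_one_of_dvd_eight hcv hv1 two_dvd_eight (sq_eq_one_of_inverts_of_commute hzv h3)
  · rw [hq] at hqc
    have h1 : Commute (s * z) (u ^ 2 * v ^ 2 * (s * z) * (s * z)⁻¹) :=
      hqc.mul_right (Commute.refl (s * z)).inv_right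
    rw [mul_inv_cancel_right, ← huv.mul_pow 2] at h1
    have h2 : ((u * v) ^ 2) ^ 2 = 1 :=
      sq_eq_one_of_inverts_of_commute (inverts_pow hs'd 2) h1
    have h3 : (u * v) ^ 4 = 1 := by
      rw [show (4:ℕ) = 2 * 2 from rfl, pow_mul]
      exact h2
    rw [huv.mul_pow 4] at h3
    have hv4 : v ^ 4 = (u ^ 4)⁻¹ := eq_inv_of_mul_eq_one_right h3
    have h4 : Commute s (v ^ 4) := hsv.pow_right 4
    rw [hv4] at h4
    have h5 : Commute s (u ^ 4) := by
      have h6 := h4.inv_right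
      rwa [inv_inv] at h6
    have h6 : Commute s u := commute_of_pow hcu four_dvd_eight h5
    exact pow_ne_one_of_dvd_eight hcu hu1 two_dvd_eight (sq_eq_one_of_inverts_of_commute hsu h6)

end Cfsg.Agent.S3195
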