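import Cfsg.Statements.S3196
import Cfsg.Agent.Lib.Helper23.PFamily

set_option autoImplicit false
open Cfsg

namespace Cfsg.Agent.S3196

/-- Let p be a prime and K a set of subgroups of order p of a finite group G, closed under conjugation, such that at least two distinct members of K commute elementwise, and whenever two distinct members X, Y of K commute: every subgroup of order p of the group XY they generate belongs to K, and every member W of K has centralizer meeting XY nontrivially. Then some member V of K commutes elementwise with every member of K and lies in O_p(G); in particular G is not simple. -/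
theorem result {G : Type*} [Group G] [Finite G]
    {p : ℕ} (hp : p.Prime) (K : Set (Subgroup G)) (hK : ∀ X ∈ K, Nat.card ↥X = p)
    (hKc : ∀ X ∈ K, ∀ g : G, X.map (MulAut.conj g).toMonoidHom ∈ K)
    (hex : ∃ X ∈ K, ∃ Y ∈ K, X ≠ Y ∧ ∀ x ∈ X, ∀ y ∈ Y, x * y = y * x)
    (ha : ∀ X ∈ K, ∀ Y ∈ K, X ≠ Y → (∀ x ∈ X, ∀ y ∈ Y, x * y = y * x) →
      ∀ Z : Subgroup G, Z ≤ X ⊔ Y → Nat.card ↥Z = p → Z ∈ K)
    (hb : ∀ X ∈ K, ∀ Y ∈ K, X ≠ Y → (∀ x ∈ X, ∀ y ∈ Y, x * y = y * x) →
      ∀ W ∈ K, (X ⊔ Y) ⊓ Subgroup.centralizer (W : Set G) ≠ ⊥) :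
    (∃ V ∈ K, (∀ W ∈ K, ∀ v ∈ V, ∀ w ∈ W, v * w = w * v) ∧ V ≤ Cfsg.pCore p G) ∧ ¬ IsSimpleGroup G := by
  classical
  have F : Cfsg.Agent.Lib.Helper23.PFamily.Fam p K := ⟨hp, hK, hKc, ha, hb⟩
  obtain ⟨V, hV, hVc⟩ := F.exists_central hex
  obtain ⟨hpow, hab⟩ := F.normalClosure_facts hV hVc
  have hVle : V ≤ Subgroup.normalClosure (V : Set G) := Subgroup.le_normalClosure
  have hN : (Subgroup.normalClosure (V : Set G)).Normal := Subgroup.normalClosure_normal
  have hNp : IsPGroup p (Subgroup.normalClosure (V : Set G)) := by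
    intro n
    refine ⟨1, ?_⟩
    ext
    simp only [pow_one, Subgroup.coe_pow, Subgroup.coe_one]
    exact hpow n n.2
  have hcore : Subgroup.normalClosure (V : Set G) ≤ Cfsg.pCore p G := by
    unfold Cfsg.pCore
    exact le_sSup ⟨hN, hNp⟩
  refine ⟨⟨V, hV, hVc, hVle.trans hcore⟩, ?_⟩
  intro hs
  haveI := hs
  rcases hN.eq_bot_or_eq_top with h | h
  · obtain ⟨v, hv, hv1⟩ := Cfsg.Agent.Lib.Helper23.PFamily.exists_ne_one hp (hK V hV)
    have hv' : v ∈ Subgroup.normalClosure (V : Set G) := hVle hv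
    rw [h] at hv'
    exact hv1 (Subgroup.mem_bot.1 hv')
  · obtain ⟨X, hX, Y, hY, hne, _⟩ := hex
    have hcomm : ∀ g h' : G, g * h' = h' * g := by
      intro g h'
      exact hab g (h ▸ Subgroup.mem_top g) h' (h ▸ Subgroup.mem_top h')
    have htop : ∀ Z ∈ K, Z = ⊤ := by
      intro Z hZ
      have hZn : Z.Normal := ⟨fun n hn g => by rw [hcomm g n, mul_inv_cancel_right]; exact hn⟩
      rcases hZn.eq_bot_or_eq_top with h0 | h1
      · exfalso
        obtain ⟨z, hz, hz1⟩ := Cfsg.Agent.Lib.Helper23.PFamily.exists_ne_one hp (hK Z hZ)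
        rw [h0] at hz
        exact hz1 (Subgroup.mem_bot.1 hz)
      · exact h1
    exact hne ((htop X hX).trans (htop Y hY).symm)

end Cfsg.Agent.S3196
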