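import Cfsg.Statements.S3201
import Mathlib
import Cfsg.Agent.Lib.Lead.UniqueSubgroup
import Cfsg.Agent.Lib.Helper2.PGroupFrattini

set_option autoImplicit false
open Cfsg

namespace Cfsg.Agent.S3201

open Cfsg.Agent.Lib.Lead.UniqueOrderP Cfsg.Agent.Lib.Lead.UniqueSubgroup
open Cfsg.Agent.Lib.Lead.QuatIso

/-- A group with exactly one element of order `2` has a unique subgroup of order `2`. -/
theorem uniqueOrderP_of_existsUnique {Q : Type*} [Group Q] (h : ∃! x : Q, orderOf x = 2) :
    UniqueOrderP 2 Q := by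
  obtain ⟨x0, hx0, hx0u⟩ := h
  have key : ∀ H : Subgroup Q, Nat.card H = 2 → H = Subgroup.zpowers x0 := by
    intro H hH
    have hfin : Finite H := Nat.finite_of_card_ne_zero (by omega)
    have hnt : Nontrivial H := Finite.one_lt_card_iff_nontrivial.mp (by omega)
    obtain ⟨h1, hh1⟩ := exists_ne (1 : H)
    have hpow : h1 ^ 2 = 1 := by
      have := pow_card_eq_one' (G := H) (x := h1)
      rwa [hH] at this
    have hord : orderOf (h1 : Q) = 2 := by
      apply orderOf_eq_prime
      · have := congrArg Subtype.val hpow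
        simpa using this
      · intro h0
        exact hh1 (Subtype.ext h0)
    have hx : (h1 : Q) = x0 := hx0u _ hord
    have hle : Subgroup.zpowers x0 ≤ H := by
      rw [Subgroup.zpowers_le, ← hx]
      exact h1.2
    symm
    apply Subgroup.eq_of_le_of_card_ge hle
    rw [Nat.card_zpowers, hx0, hH]
  intro H K hH hK
  rw [key H hH, key K hK]

theorem a_one_zpow_cast {M : ℕ} [NeZero M] (i : ZMod (2 * M)) :
    (QuaternionGroup.a 1 : QuaternionGroup M) ^ (i.cast : ℤ) = QuaternionGroup.a i := by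
  have h : (i.cast : ℤ) = ((i.val : ℕ) : ℤ) := by rw [ZMod.natCast_val]
  rw [h, zpow_natCast, QuaternionGroup.a_one_pow, ZMod.natCast_zmod_val]

/-- The abstract splitting statement: a surjection onto a generalized quaternion group with
central kernel splits as soon as preimages `x`, `y` of the standard generators satisfy the
quaternion relations. -/
theorem split_of_relations {S : Type*} [Group S] {M : ℕ} [NeZero M]
    (f : S →* QuaternionGroup M) (x y : S) (hx : f x = QuaternionGroup.a 1)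
    (hy : f y = QuaternionGroup.xa 0) (h1 : orderOf x = 2 * M) (h2 : y ^ 2 = x ^ M)
    (h3 : y * x * y⁻¹ = x⁻¹) :
    ∃ ψ : QuaternionGroup M →* S, ∀ q, f (ψ q) = q := by
  refine ⟨quatHom h1 h2 h3, ?_⟩
  intro q
  change f (quatFun M x y q) = q
  cases q with
  | a i =>
    simp only [quatFun]
    rw [map_zpow, hx, a_one_zpow_cast]
  | xa i =>
    simp only [quatFun]
    rw [map_mul, map_zpow, hx, hy, a_one_zpow_cast, QuaternionGroup.xa_mul_a, zero_add]


/-- Let S be a finite 2-group whose centre Z(S) has n ≥ 2 distinct maximal subgroups C₁, …, Cₙ with trivial intersection such that each quotient S/Cᵢ is a non-abelian group with exactly one involution (a generalized quaternion group). Then S is the internal direct product of an elementary abelian subgroup and a non-abelian subgroup with exactly one involution. -/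
theorem result {S : Type*} [Group S] [Finite S]
    (hS : IsPGroup 2 S) (n : ℕ) (hn : 2 ≤ n) (C : Fin n → Subgroup ↥(Subgroup.center S))
    (hCmax : ∀ i, IsCoatom (C i)) (hCinj : Function.Injective C) (hCint : ⨅ i, C i = ⊥)
    (hCq : ∀ i, ∃ (_ : ((C i).map (Subgroup.center S).subtype).Normal),
      ¬ IsMulCommutative (S ⧸ (C i).map (Subgroup.center S).subtype) ∧
      ∃! x : S ⧸ (C i).map (Subgroup.center S).subtype, orderOf x = 2) :
    ∃ E Q : Subgroup S, Cfsg.IsInternalDirectProduct E Q ⊤ ∧ Cfsg.IsElementaryAbelian 2 E ∧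
      ¬ IsMulCommutative ↥Q ∧ ∃! x : ↥Q, orderOf x = 2 := by
  classical
  haveI : Fact (Nat.Prime 2) := ⟨Nat.prime_two⟩
  obtain ⟨Z, hZdef⟩ : ∃ Z : Subgroup S, Z = Subgroup.center S := ⟨_, rfl⟩
  have hZ2 : IsPGroup 2 ↥(Subgroup.center S) := hS.to_subgroup _
  -- the subgroups `N i`
  have hNZ : ∀ i, (C i).map (Subgroup.center S).subtype ≤ Subgroup.center S := by
    intro i
    rintro _ ⟨d, -, rfl⟩
    exact d.2
  have hmemN : ∀ i (ζ : ↥(Subgroup.center S)),
      (ζ : S) ∈ (C i).map (Subgroup.center S).subtype ↔ ζ ∈ C i := by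
    intro i ζ
    constructor
    · rintro ⟨c, hc, hcz⟩
      have : c = ζ := Subtype.ext hcz
      rwa [← this]
    · intro h
      exact ⟨ζ, h, rfl⟩
  have hidx : ∀ i, (C i).index = 2 := fun i =>
    Cfsg.Agent.Lib.Helper2.index_of_isCoatom_of_isPGroup hZ2 (hCmax i)
  -- (F1a) squares of central elements lie in every `N i`
  have hF1a : ∀ i, ∀ z ∈ Subgroup.center S, z ^ 2 ∈ (C i).map (Subgroup.center S).subtype := by
    intro i z hz
    have := Subgroup.sq_mem_of_index_two (hidx i) (⟨z, hz⟩ : ↥(Subgroup.center S))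
    exact (hmemN i (⟨z, hz⟩ ^ 2)).mpr this
  -- (F1b)
  have hF1b : ∀ i, ∀ z ∈ Subgroup.center S, ∀ z' ∈ Subgroup.center S,
      z ∉ (C i).map (Subgroup.center S).subtype → z' ∉ (C i).map (Subgroup.center S).subtype →
      z * z'⁻¹ ∈ (C i).map (Subgroup.center S).subtype := by
    intro i z hz z' hz' hzn hz'n
    have h1 : (⟨z, hz⟩ : ↥(Subgroup.center S)) ∉ C i := fun h => hzn ((hmemN i ⟨z, hz⟩).mpr h)
    have h2 : (⟨z', hz'⟩ : ↥(Subgroup.center S))⁻¹ ∉ C i := by
      intro h
      apply hz'n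
      have := (C i).inv_mem h
      rw [inv_inv] at this
      exact (hmemN i ⟨z', hz'⟩).mpr this
    have h3 : (⟨z, hz⟩ : ↥(Subgroup.center S)) * (⟨z', hz'⟩ : ↥(Subgroup.center S))⁻¹ ∈ C i := by
      rw [Subgroup.mul_mem_iff_of_index_two (hidx i)]
      exact ⟨fun h => absurd h h1, fun h => absurd h h2⟩
    exact (hmemN i _).mpr h3
  -- (F3)
  have hn0 : 0 < n := by omega
  have hF3 : ∀ s : S, (∀ i, s ∈ (C i).map (Subgroup.center S).subtype) → s = 1 := by
    intro s hs
    have hsZ : s ∈ Subgroup.center S := hNZ ⟨0, hn0⟩ (hs ⟨0, hn0⟩)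
    have h1 : (⟨s, hsZ⟩ : ↥(Subgroup.center S)) ∈ ⨅ i, C i := by
      rw [Subgroup.mem_iInf]
      intro i
      exact (hmemN i ⟨s, hsZ⟩).mp (hs i)
    rw [hCint, Subgroup.mem_bot] at h1
    exact congrArg Subtype.val h1
  -- (F1c)
  have hF1c : ∀ z ∈ Subgroup.center S, z ^ 2 = 1 := fun z hz => hF3 _ (fun i => hF1a i z hz)
  -- (F2)
  have hF2 : ∀ i, ∀ s : S, s ^ 2 ∈ (C i).map (Subgroup.center S).subtype →
      s ∈ Subgroup.center S := by
    intro i s hs2
    obtain ⟨hNn, -, u, hu, huu⟩ := hCq i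
    haveI := hNn
    -- an element of `Z` outside `N i`
    obtain ⟨ζ0, hζ0⟩ : ∃ ζ0 : ↥(Subgroup.center S), ζ0 ∉ C i := by
      by_contra hcon
      push Not at hcon
      exact (hCmax i).1 (eq_top_iff.mpr (fun ζ _ => hcon ζ))
    have hz0n : (ζ0 : S) ∉ (C i).map (Subgroup.center S).subtype := fun h =>
      hζ0 ((hmemN i ζ0).mp h)
    have hord : ∀ t : S, t ∉ (C i).map (Subgroup.center S).subtype →
        t ^ 2 ∈ (C i).map (Subgroup.center S).subtype →
        (QuotientGroup.mk t : S ⧸ (C i).map (Subgroup.center S).subtype) = u := by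
      intro t ht ht2
      apply huu
      apply orderOf_eq_prime
      · rw [← QuotientGroup.mk_pow]
        exact (QuotientGroup.eq_one_iff _).mpr ht2
      · intro h0
        exact ht ((QuotientGroup.eq_one_iff _).mp h0)
    by_cases hsN : s ∈ (C i).map (Subgroup.center S).subtype
    · exact hNZ i hsN
    · have e1 := hord s hsN hs2
      have e2 := hord ζ0 hz0n (hF1a i ζ0 ζ0.2)
      have e3 : (QuotientGroup.mk s : S ⧸ (C i).map (Subgroup.center S).subtype) =
          QuotientGroup.mk (ζ0 : S) := by rw [e1, e2]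
      have e4 : (ζ0 : S)⁻¹ * s ∈ (C i).map (Subgroup.center S).subtype :=
        QuotientGroup.eq.mp e3.symm
      have e5 : s = ζ0 * ((ζ0 : S)⁻¹ * s) := by group
      rw [e5]
      exact (Subgroup.center S).mul_mem ζ0.2 (hNZ i e4)
  have hF2' : ∀ i, ∀ s : S, s ∉ Subgroup.center S →
      s ^ 2 ∉ (C i).map (Subgroup.center S).subtype := fun i s hs h => hs (hF2 i s h)
  -- the quaternion structure of the first quotient
  obtain ⟨hN0, hna, huniq⟩ := hCq ⟨0, hn0⟩
  set N0 : Subgroup S := (C ⟨0, hn0⟩).map (Subgroup.center S).subtype with hN0def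
  haveI : N0.Normal := hN0
  have hQ2 : IsPGroup 2 (S ⧸ N0) := hS.to_quotient N0
  have huQ : UniqueOrderP 2 (S ⧸ N0) := uniqueOrderP_of_existsUnique huniq
  rcases cyclic_or_quaternion hQ2 huQ with hc | ⟨-, k, ⟨e⟩⟩
  · exfalso
    apply hna
    letI := IsCyclic.commGroup (α := S ⧸ N0)
    exact ⟨⟨fun a b => mul_comm a b⟩⟩
  have hk : k ≠ 0 := by
    rintro rfl
    apply hna
    refine ⟨⟨fun a b => ?_⟩⟩
    have hcard : Nat.card (S ⧸ N0) = 2 ^ 2 := by
      rw [Nat.card_congr e.toEquiv, Nat.card_eq_fintype_card, QuaternionGroup.card]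
      norm_num
    exact Cfsg.Agent.Lib.Lead.UniqueSubgroup.comm_of_card_le_sq (p := 2) (n := 2) le_rfl hcard a b
  obtain ⟨M', hM'⟩ : ∃ M', 2 ^ k = 2 * M' := ⟨2 ^ (k - 1), by
    rw [← pow_succ']; congr 1; omega⟩
  have hM'0 : M' ≠ 0 := by
    rintro rfl
    have : 0 < 2 ^ k := by positivity
    omega
  obtain ⟨M, hMdef⟩ : ∃ M, M = 2 ^ k := ⟨_, rfl⟩
  rw [← hMdef] at e hM'
  haveI : NeZero M := ⟨by rw [hMdef]; positivity⟩
  obtain ⟨f, hfdef⟩ : ∃ f : S →* QuaternionGroup M,
      f = e.toMonoidHom.comp (QuotientGroup.mk' N0) := ⟨_, rfl⟩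
  have hfapp : ∀ s, f s = e (QuotientGroup.mk s) := by intro s; rw [hfdef]; rfl
  have hfsurj : Function.Surjective f := by
    intro q
    obtain ⟨s, hs⟩ := QuotientGroup.mk'_surjective N0 (e.symm q)
    refine ⟨s, ?_⟩
    rw [hfapp]
    change e ((QuotientGroup.mk' N0) s) = q
    rw [hs, MulEquiv.apply_symm_apply]
  have hfker : ∀ s, f s = 1 ↔ s ∈ N0 := by
    intro s
    rw [hfapp]
    constructor
    · intro h
      have h1 : (QuotientGroup.mk s : S ⧸ N0) = 1 := by
        apply e.injective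
        rw [map_one]
        exact h
      exact (QuotientGroup.eq_one_iff s).mp h1
    · intro h
      rw [(QuotientGroup.eq_one_iff s).mpr h, map_one]
  obtain ⟨x, hx⟩ := hfsurj (QuaternionGroup.a 1)
  obtain ⟨y, hy⟩ := hfsurj (QuaternionGroup.xa 0)
  -- computations in the quaternion group
  have q1 : (QuaternionGroup.a (M : ZMod (2 * M)) : QuaternionGroup M) ^ 2 = 1 := by
    rw [sq, QuaternionGroup.a_mul_a, QuaternionGroup.one_def]
    congr 1
    have : ((2 * M : ℕ) : ZMod (2 * M)) = 0 := ZMod.natCast_self _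
    push_cast at this
    rw [← this]; ring
  have q2 : (QuaternionGroup.xa 0 : QuaternionGroup M) ^ 2 = QuaternionGroup.a (M : ZMod (2 * M)) := by
    rw [sq, QuaternionGroup.xa_mul_xa]
    congr 1
    ring
  have q3 : (QuaternionGroup.a 1 : QuaternionGroup M) ^ M = QuaternionGroup.a (M : ZMod (2 * M)) :=
    QuaternionGroup.a_one_pow M
  have hM2 : M = 2 * M' := hM'
  -- central elements
  have hxMZ : x ^ M ∈ Subgroup.center S := by
    apply hF2 ⟨0, hn0⟩
    change (x ^ M) ^ 2 ∈ N0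
    rw [← hfker, map_pow, map_pow, hx, q3, q1]
  have hy2Z : y ^ 2 ∈ Subgroup.center S := by
    apply hF2 ⟨0, hn0⟩
    change (y ^ 2) ^ 2 ∈ N0
    rw [← hfker, map_pow, map_pow, hy, q2, q1]
  have hyx2Z : (y * x) ^ 2 ∈ Subgroup.center S := by
    apply hF2 ⟨0, hn0⟩
    change ((y * x) ^ 2) ^ 2 ∈ N0
    rw [← hfker, map_pow, map_pow, map_mul, hx, hy, QuaternionGroup.xa_mul_a, sq
      (QuaternionGroup.xa _), QuaternionGroup.xa_mul_xa]
    have : (M : ZMod (2 * M)) + (0 + 1) - (0 + 1) = M := by ring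
    rw [this, q1]
  -- non-commuting: `a 1` and `xa 0`
  have hne_one : (1 : ZMod (2 * M)) ≠ -1 := by
    intro h
    have h2 : ((2 : ℕ) : ZMod (2 * M)) = 0 := by
      have : (1 : ZMod (2 * M)) + 1 = 0 := by
        nth_rewrite 1 [h]; ring
      push_cast
      rw [← this]; ring
    rw [ZMod.natCast_eq_zero_iff] at h2
    have := Nat.le_of_dvd (by norm_num) h2
    omega
  have hxy_nc : x * y ≠ y * x := by
    intro h
    have := congrArg f h
    rw [map_mul, map_mul, hx, hy, QuaternionGroup.a_mul_xa, QuaternionGroup.xa_mul_a] at this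
    have h2 := QuaternionGroup.xa.inj this
    apply hne_one
    have : (0 : ZMod (2 * M)) - 1 = 0 + 1 := h2
    rw [zero_sub, zero_add] at this
    exact this.symm
  have hyZ : y ∉ Subgroup.center S := fun h => hxy_nc ((Subgroup.mem_center_iff.mp h) x)
  have hyxZ : y * x ∉ Subgroup.center S := by
    intro h
    apply hxy_nc
    have := (Subgroup.mem_center_iff.mp h) x
    -- x * (y * x) = y * x * x
    have h2 : x * y * x = y * x * x := by rw [mul_assoc]; exact this
    exact mul_right_cancel h2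
  have hxM'Z : x ^ M' ∉ Subgroup.center S := by
    intro h
    have h1 := (Subgroup.mem_center_iff.mp h) y
    have := congrArg f h1
    rw [map_mul, map_mul, map_pow, hx, hy, QuaternionGroup.a_one_pow, QuaternionGroup.xa_mul_a,
      QuaternionGroup.a_mul_xa] at this
    have h2 := QuaternionGroup.xa.inj this
    have h3 : ((2 * M' : ℕ) : ZMod (2 * M)) = 0 := by
      push_cast
      have : (0 : ZMod (2 * M)) + (M' : ZMod (2 * M)) = 0 - M' := h2
      linear_combination this
    rw [ZMod.natCast_eq_zero_iff] at h3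
    have := Nat.le_of_dvd (by omega) h3
    omega
  -- (R3)
  have hc0 : ∀ i, y * x * y⁻¹ * x ∈ (C i).map (Subgroup.center S).subtype := by
    intro i
    have hcN0 : y * x * y⁻¹ * x ∈ N0 := by
      rw [← hfker, map_mul, map_mul, map_mul, map_inv, hx, hy]
      have hinv : (QuaternionGroup.xa 0 : QuaternionGroup M)⁻¹ = QuaternionGroup.xa (M : ZMod (2 * M)) := by
        apply inv_eq_of_mul_eq_one_right
        rw [QuaternionGroup.xa_mul_xa, QuaternionGroup.one_def]
        congr 1
        have : ((2 * M : ℕ) : ZMod (2 * M)) = 0 := ZMod.natCast_self _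
        push_cast at this
        linear_combination this
      rw [hinv, QuaternionGroup.xa_mul_a, QuaternionGroup.xa_mul_xa, QuaternionGroup.a_mul_a,
        QuaternionGroup.one_def]
      congr 1
      have : ((2 * M : ℕ) : ZMod (2 * M)) = 0 := ZMod.natCast_self _
      push_cast at this
      linear_combination this
    have hcZ : y * x * y⁻¹ * x ∈ Subgroup.center S := hNZ _ hcN0
    have hy2c : ∀ g : S, g * y ^ 2 = y ^ 2 * g := Subgroup.mem_center_iff.mp hy2Z
    have hrel : (y * x) ^ 2 = (y * x * y⁻¹ * x) * y ^ 2 := by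
      calc (y * x) ^ 2 = y * x * y⁻¹ * (y ^ 2 * x) := by rw [sq, sq]; group
        _ = y * x * y⁻¹ * (x * y ^ 2) := by rw [hy2c x]
        _ = (y * x * y⁻¹ * x) * y ^ 2 := by group
    have h1 := hF1b i _ hyx2Z _ hy2Z (hF2' i _ hyxZ) (hF2' i _ hyZ)
    rw [hrel, mul_inv_cancel_right] at h1
    exact h1
  have hR3 : y * x * y⁻¹ = x⁻¹ := by
    have := hF3 _ hc0
    exact eq_inv_of_mul_eq_one_left this
  -- (R2)
  have hR2 : y ^ 2 = x ^ M := by
    have hw : ∀ i, y ^ 2 * (x ^ M)⁻¹ ∈ (C i).map (Subgroup.center S).subtype := by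
      intro i
      apply hF1b i _ hy2Z _ hxMZ (hF2' i _ hyZ)
      have : x ^ M = (x ^ M') ^ 2 := by rw [← pow_mul, hM2, mul_comm]
      rw [this]
      exact hF2' i _ hxM'Z
    have := hF3 _ hw
    exact mul_inv_eq_one.mp this
  -- (R1)
  have hR1 : orderOf x = 2 * M := by
    apply Nat.dvd_antisymm
    · apply orderOf_dvd_of_pow_eq_one
      rw [mul_comm, pow_mul]
      exact hF1c _ hxMZ
    · have := orderOf_map_dvd f x
      rwa [hx, QuaternionGroup.orderOf_a_one] at this
  obtain ⟨ψ, hψ⟩ := split_of_relations f x y hx hy hR1 hR2 hR3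
  -- the direct decomposition
  have hinf : N0 ⊓ ψ.range = ⊥ := by
    rw [eq_bot_iff]
    rintro s ⟨hs1, q, rfl⟩
    have : f (ψ q) = 1 := (hfker _).mpr hs1
    rw [hψ] at this
    rw [this, map_one]
    exact Subgroup.mem_bot.mpr rfl
  have hdecomp : ∀ s : S, s * (ψ (f s))⁻¹ ∈ N0 := by
    intro s
    rw [← hfker, map_mul, map_inv, hψ, mul_inv_cancel]
  have hsup : N0 ⊔ ψ.range = ⊤ := by
    rw [eq_top_iff]
    intro s _
    have : s = (s * (ψ (f s))⁻¹) * ψ (f s) := by group
    rw [this]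
    exact Subgroup.mul_mem_sup (hdecomp s) ⟨f s, rfl⟩
  have hN0Z : N0 ≤ Subgroup.center S := hNZ _
  refine ⟨N0, ψ.range, ⟨le_top, le_top, ?_, hinf, hsup⟩, ⟨?_, ?_⟩, ?_, ?_⟩
  · intro a ha b _
    exact ((Subgroup.mem_center_iff.mp (hN0Z ha)) b).symm
  · refine ⟨⟨fun a b => ?_⟩⟩
    apply Subtype.ext
    exact ((Subgroup.mem_center_iff.mp (hN0Z a.2)) b).symm
  · intro a ha
    exact hF1c a (hN0Z ha)
  · intro hcomm
    apply hna
    refine ⟨⟨fun a b => ?_⟩⟩
    apply e.injective
    rw [map_mul, map_mul]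
    have h1 : (⟨ψ (e a), e a, rfl⟩ : ψ.range) * ⟨ψ (e b), e b, rfl⟩ =
        ⟨ψ (e b), e b, rfl⟩ * ⟨ψ (e a), e a, rfl⟩ := hcomm.is_comm.comm _ _
    have h2 : ψ (e a) * ψ (e b) = ψ (e b) * ψ (e a) := congrArg Subtype.val h1
    have h3 := congrArg f h2
    rwa [map_mul, map_mul, hψ, hψ] at h3
  · -- the unique involution
    obtain ⟨u, hu, huu⟩ := huniq
    have hginj : ∀ q1 q2 : ψ.range, (QuotientGroup.mk (q1 : S) : S ⧸ N0) = QuotientGroup.mk (q2 : S) →
        q1 = q2 := by
      intro q1 q2 h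
      have h1 : (q1 : S)⁻¹ * q2 ∈ N0 := QuotientGroup.eq.mp h
      have h2 : (q1 : S)⁻¹ * q2 ∈ N0 ⊓ ψ.range := ⟨h1, ψ.range.mul_mem (ψ.range.inv_mem q1.2) q2.2⟩
      rw [hinf, Subgroup.mem_bot] at h2
      apply Subtype.ext
      exact (inv_mul_eq_one.mp h2)
    let g : ψ.range →* S ⧸ N0 := (QuotientGroup.mk' N0).comp ψ.range.subtype
    have hg : Function.Injective g := fun q1 q2 h => hginj q1 q2 h
    obtain ⟨s, rfl⟩ := QuotientGroup.mk_surjective u
    have hs : (QuotientGroup.mk s : S ⧸ N0) = g ⟨ψ (f s), f s, rfl⟩ := by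
      change _ = QuotientGroup.mk (ψ (f s))
      rw [QuotientGroup.eq]
      have := N0.inv_mem (hdecomp s)
      rw [mul_inv_rev, inv_inv] at this
      have h2 : s⁻¹ * ψ (f s) = (ψ (f s) * s⁻¹) := by
        have hc := (Subgroup.mem_center_iff.mp (hN0Z this)) (ψ (f s))
        -- ψ(fs) * (ψ(fs) * s⁻¹) = (ψ(fs) * s⁻¹) * ψ(fs)
        have : ψ (f s) * s⁻¹ = (ψ (f s))⁻¹ * (ψ (f s) * (ψ (f s) * s⁻¹)) := by group
        rw [this, hc]; group
      rw [h2]
      exact this
    refine ⟨⟨ψ (f s), f s, rfl⟩, ?_, ?_⟩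
    · change orderOf (⟨ψ (f s), f s, rfl⟩ : ψ.range) = 2
      rw [← orderOf_injective g hg, ← hs]
      exact hu
    · intro q hq
      apply hg
      rw [← hs]
      apply huu
      rw [orderOf_injective g hg]
      exact hq

end Cfsg.Agent.S3201
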