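import Cfsg.Statements.S3202
import Mathlib
import Cfsg.Agent.Lib.Lead.UniqueSubgroup

set_option autoImplicit false
open Cfsg

namespace Cfsg.Agent.S3202

open Cfsg.Agent.Lib.Lead.UniqueOrderP Cfsg.Agent.Lib.Lead.UniqueSubgroup
open scoped commutatorElement

/-- A group with exactly one element of order `2` has a unique subgroup of order `2`. -/
theorem uniqueOrderP_of_existsUnique {Q : Type*} [Group Q] (h : ∃! x : Q, orderOf x = 2) :
    UniqueOrderP 2 Q := by
  obtain ⟨x0, hx0, hx0u⟩ := h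
  have key : ∀ H : Subgroup Q, Nat.card H = 2 → H = Subgroup.zpowers x0 := by
    intro H hH
    have hfin : Finite H := Nat.finite_of_card_ne_zero (by omega)
    have hnt : Nontrivial H := Finite.one_lt_card_iff_nontrivial.mp (by omega)
    obtain ⟨h1, hh1⟩ := exists_ne (1 : H)
    have hpow : h1 ^ 2 = 1 := by
      have := pow_card_eq_one' (G := H) (x := h1)
      rwa [hH] at this
    have hord : orderOf (h1 : Q) = 2 := by
      apply orderOf_eq_prime
      · have := congrArg Subtype.val hpow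
        simpa using this
      · intro h0
        exact hh1 (Subtype.ext h0)
    have hx : (h1 : Q) = x0 := hx0u _ hord
    have hle : Subgroup.zpowers x0 ≤ H := by
      rw [Subgroup.zpowers_le, ← hx]
      exact h1.2
    symm
    apply Subgroup.eq_of_le_of_card_ge hle
    rw [Nat.card_zpowers, hx0, hH]
  intro H K hH hK
  rw [key H hH, key K hK]

/-- If `S` maps onto a generalized quaternion group with central kernel, then the derived subgroup
of `S` is cyclic. -/
theorem isCyclic_commutator_of_quaternion {S : Type*} [Group S] {m : ℕ} [NeZero m]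
    (f : S →* QuaternionGroup m) (hf : Function.Surjective f)
    (hker : f.ker ≤ Subgroup.center S) : IsCyclic (commutator S) := by
  classical
  have hm : m ≠ 0 := NeZero.ne m
  obtain ⟨A, hAdef⟩ : ∃ A : Subgroup S,
      A = (Subgroup.zpowers (QuaternionGroup.a 1 : QuaternionGroup m)).comap f := ⟨_, rfl⟩
  have hmemA : ∀ u : S, u ∈ A ↔ ∃ k : ℤ, (QuaternionGroup.a 1 : QuaternionGroup m) ^ k = f u := by
    intro u
    rw [hAdef, Subgroup.mem_comap, Subgroup.mem_zpowers_iff]
  have hidx : A.index = 2 := by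
    rw [hAdef, Subgroup.index_comap_of_surjective _ hf]
    have h1 := Subgroup.card_mul_index
      (Subgroup.zpowers (QuaternionGroup.a 1 : QuaternionGroup m))
    rw [Nat.card_zpowers, QuaternionGroup.orderOf_a_one, Nat.card_eq_fintype_card,
      QuaternionGroup.card] at h1
    have h2 : 2 * m * 2 = 4 * m := by ring
    rw [← h2] at h1
    exact Nat.eq_of_mul_eq_mul_left (by omega) h1
  have hAn : A.Normal := Subgroup.normal_of_index_eq_two hidx
  -- `A` is abelian
  have hAcomm : ∀ u ∈ A, ∀ v ∈ A, u * v = v * u := by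
    intro u hu v hv
    have hAle : A ≤ (Subgroup.zpowers (QuaternionGroup.a 1 : QuaternionGroup m)).comap f := by
      rw [hAdef]
    let g : A →* Subgroup.zpowers (QuaternionGroup.a 1 : QuaternionGroup m) :=
      { toFun := fun x => ⟨f x, hAle x.2⟩
        map_one' := by apply Subtype.ext; simp
        map_mul' := fun x y => by apply Subtype.ext; simp }
    have hg : g.ker ≤ Subgroup.center A := by
      intro x hx
      rw [MonoidHom.mem_ker] at hx
      have hx' : f (x : S) = 1 := congrArg Subtype.val hx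
      have hxc : (x : S) ∈ Subgroup.center S := hker (MonoidHom.mem_ker.mpr hx')
      rw [Subgroup.mem_center_iff]
      intro b
      apply Subtype.ext
      exact (Subgroup.mem_center_iff.mp hxc) b
    have := commutative_of_cyclic_center_quotient g hg ⟨u, hu⟩ ⟨v, hv⟩
    exact congrArg Subtype.val this
  obtain ⟨a0, ha0⟩ := hf (QuaternionGroup.a 1)
  have ha0A : a0 ∈ A := (hmemA a0).mpr ⟨1, by rw [zpow_one, ha0]⟩
  -- decomposition of the elements of `A`
  have hdecomp : ∀ u ∈ A, ∃ k : ℤ, ∃ d ∈ Subgroup.center S, u = a0 ^ k * d := by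
    intro u hu
    obtain ⟨k, hk⟩ := (hmemA u).mp hu
    refine ⟨k, (a0 ^ k)⁻¹ * u, ?_, by group⟩
    apply hker
    rw [MonoidHom.mem_ker, map_mul, map_inv, map_zpow, ha0, hk, inv_mul_cancel]
  -- an element outside `A`
  obtain ⟨y, hy⟩ : ∃ y : S, y ∉ A := by
    by_contra hcon
    push Not at hcon
    have : A = ⊤ := by
      rw [eq_top_iff]; intro x _; exact hcon x
    rw [this, Subgroup.index_top] at hidx
    omega
  -- the commutator map `u ↦ [u, y]` on `A`
  have hconjA : ∀ u ∈ A, y * u * y⁻¹ ∈ A := fun u hu => hAn.conj_mem u hu y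
  have hκmul : ∀ u ∈ A, ∀ v ∈ A, ⁅u * v, y⁆ = ⁅u, y⁆ * ⁅v, y⁆ := by
    intro u hu v hv
    have hw : y * u⁻¹ * y⁻¹ ∈ A := hconjA _ (A.inv_mem hu)
    have hw' : y * v⁻¹ * y⁻¹ ∈ A := hconjA _ (A.inv_mem hv)
    have c1 : (y * v⁻¹ * y⁻¹) * (y * u⁻¹ * y⁻¹) = (y * u⁻¹ * y⁻¹) * (y * v⁻¹ * y⁻¹) :=
      hAcomm _ hw' _ hw
    have c2 : v * (y * u⁻¹ * y⁻¹) = (y * u⁻¹ * y⁻¹) * v := hAcomm _ hv _ hw
    rw [commutatorElement_def, commutatorElement_def, commutatorElement_def]
    calc u * v * y * (u * v)⁻¹ * y⁻¹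
        = u * v * ((y * v⁻¹ * y⁻¹) * (y * u⁻¹ * y⁻¹)) := by group
      _ = u * v * ((y * u⁻¹ * y⁻¹) * (y * v⁻¹ * y⁻¹)) := by rw [c1]
      _ = u * (v * (y * u⁻¹ * y⁻¹)) * (y * v⁻¹ * y⁻¹) := by group
      _ = u * ((y * u⁻¹ * y⁻¹) * v) * (y * v⁻¹ * y⁻¹) := by rw [c2]
      _ = u * y * u⁻¹ * y⁻¹ * (v * y * v⁻¹ * y⁻¹) := by group
  obtain ⟨c, hcdef⟩ : ∃ c : S, c = ⁅a0, y⁆ := ⟨_, rfl⟩
  have hcA : c ∈ A := by
    rw [hcdef, commutatorElement_def]
    have : a0 * y * a0⁻¹ * y⁻¹ = a0 * (y * a0⁻¹ * y⁻¹) := by group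
    rw [this]
    exact A.mul_mem ha0A (hconjA _ (A.inv_mem ha0A))
  have hκpow : ∀ k : ℕ, ⁅a0 ^ k, y⁆ = c ^ k := by
    intro k
    induction k with
    | zero => simp
    | succ k ih =>
      rw [pow_succ, hκmul _ (A.pow_mem ha0A k) _ ha0A, ih, pow_succ, ← hcdef]
  have hκinv : ∀ u ∈ A, ⁅u⁻¹, y⁆ = ⁅u, y⁆⁻¹ := by
    intro u hu
    have h1 := hκmul u hu u⁻¹ (A.inv_mem hu)
    rw [mul_inv_cancel, commutatorElement_one_left] at h1
    exact (inv_eq_of_mul_eq_one_right h1.symm).symm
  have hκzpow : ∀ k : ℤ, ⁅a0 ^ k, y⁆ = c ^ k := by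
    intro k
    cases k with
    | ofNat k => simpa using hκpow k
    | negSucc k =>
      rw [zpow_negSucc, zpow_negSucc, hκinv _ (A.pow_mem ha0A _), hκpow]
  have hκ : ∀ u ∈ A, ⁅u, y⁆ ∈ Subgroup.zpowers c := by
    intro u hu
    obtain ⟨k, d, hd, rfl⟩ := hdecomp u hu
    have hdc : ∀ g : S, g * d = d * g := Subgroup.mem_center_iff.mp hd
    have : ⁅a0 ^ k * d, y⁆ = ⁅a0 ^ k, y⁆ := by
      rw [commutatorElement_def, commutatorElement_def]
      calc a0 ^ k * d * y * (a0 ^ k * d)⁻¹ * y⁻¹
          = a0 ^ k * (d * y) * d⁻¹ * (a0 ^ k)⁻¹ * y⁻¹ := by group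
        _ = a0 ^ k * (y * d) * d⁻¹ * (a0 ^ k)⁻¹ * y⁻¹ := by rw [hdc y]
        _ = a0 ^ k * y * (a0 ^ k)⁻¹ * y⁻¹ := by group
    rw [this, hκzpow]
    exact Subgroup.zpow_mem_zpowers c k
  -- `K = ⟨c⟩` is normal
  have hconjc : ∀ s : S, s * c * s⁻¹ ∈ Subgroup.zpowers c := by
    intro s
    by_cases hs : s ∈ A
    · have : s * c * s⁻¹ = c := by
        rw [hAcomm s hs c hcA]; group
      rw [this]
      exact Subgroup.mem_zpowers c
    · have hyinv : y⁻¹ ∉ A := fun h => hy (by simpa using A.inv_mem h)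
      have hu : y⁻¹ * s ∈ A := by
        rw [Subgroup.mul_mem_iff_of_index_two hidx]
        exact ⟨fun h => absurd h hyinv, fun h => absurd h hs⟩
      have h1 : (y⁻¹ * s) * c * (y⁻¹ * s)⁻¹ = c := by
        rw [hAcomm _ hu c hcA]; group
      have h2 : s * c * s⁻¹ = y * ((y⁻¹ * s) * c * (y⁻¹ * s)⁻¹) * y⁻¹ := by group
      rw [h2, h1]
      have h3 : y * c * y⁻¹ = ⁅y * a0 * y⁻¹, y⁆ := by
        rw [hcdef, commutatorElement_def, commutatorElement_def]; group
      rw [h3]
      exact hκ _ (hconjA a0 ha0A)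
  have hKn : (Subgroup.zpowers c).Normal := by
    constructor
    intro k hk s
    obtain ⟨j, rfl⟩ := Subgroup.mem_zpowers_iff.mp hk
    have : s * c ^ j * s⁻¹ = (s * c * s⁻¹) ^ j := by
      rw [conj_zpow]
    rw [this]
    exact Subgroup.zpow_mem _ (hconjc s) j
  -- the quotient by `K` is abelian
  have hclos : Subgroup.closure ((A : Set S) ∪ {y}) = ⊤ := by
    rw [eq_top_iff]
    intro s _
    by_cases hs : s ∈ A
    · exact Subgroup.subset_closure (Or.inl hs)
    · have hyinv : y⁻¹ ∉ A := fun h => hy (by simpa using A.inv_mem h)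
      have hu : y⁻¹ * s ∈ A := by
        rw [Subgroup.mul_mem_iff_of_index_two hidx]
        exact ⟨fun h => absurd h hyinv, fun h => absurd h hs⟩
      have : s = y * (y⁻¹ * s) := by group
      rw [this]
      exact Subgroup.mul_mem _ (Subgroup.subset_closure (Or.inr rfl))
        (Subgroup.subset_closure (Or.inl hu))
  have hcommK : ∀ s t : S, ⁅s, t⁆ ∈ Subgroup.zpowers c := by
    intro s t
    haveI := hKn
    set π := QuotientGroup.mk' (Subgroup.zpowers c) with hπ
    have hgen : ∀ x ∈ π '' ((A : Set S) ∪ {y}), ∀ z ∈ π '' ((A : Set S) ∪ {y}),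
        x * z = z * x := by
      have huy : ∀ u ∈ A, π u * π y = π y * π u := by
        intro u hu
        have h1 : π ⁅u, y⁆ = 1 := (QuotientGroup.eq_one_iff _).mpr (hκ u hu)
        rw [map_commutatorElement, commutatorElement_eq_one_iff_commute] at h1
        exact h1.eq
      rintro _ ⟨u, hu | hu, rfl⟩ _ ⟨v, hv | hv, rfl⟩
      · rw [← map_mul, ← map_mul, hAcomm u hu v hv]
      · rw [Set.mem_singleton_iff] at hv
        rw [hv]; exact huy u hu
      · rw [Set.mem_singleton_iff] at hu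
        rw [hu]; exact (huy v hv).symm
      · rw [Set.mem_singleton_iff] at hu hv
        rw [hu, hv]
    have hall := closure_comm_of_comm _ hgen
    have htop : Subgroup.closure (π '' ((A : Set S) ∪ {y})) = ⊤ := by
      rw [← MonoidHom.map_closure, hclos, ← MonoidHom.range_eq_map,
        MonoidHom.range_eq_top]
      exact QuotientGroup.mk'_surjective _
    have h2 : π s * π t = π t * π s := by
      apply hall
      · rw [htop]; exact Subgroup.mem_top _
      · rw [htop]; exact Subgroup.mem_top _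
    have h3 : π ⁅s, t⁆ = 1 := by
      rw [map_commutatorElement, commutatorElement_eq_one_iff_commute]
      exact h2
    exact (QuotientGroup.eq_one_iff _).mp h3
  have hle : commutator S ≤ Subgroup.zpowers c := by
    rw [commutator_def, Subgroup.commutator_le]
    intro s _ t _
    exact hcommK s t
  exact Subgroup.isCyclic_of_le hle


/-- Let S be a finite 2-group of 2-rank exactly 2 and D a maximal subgroup of the centre of S such that S/D is a non-abelian group with exactly one involution (a generalized quaternion group). Then S has a nontrivial cyclic characteristic subgroup. -/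
theorem result {S : Type*} [Group S]
    [Finite S] (hS : IsPGroup 2 S) (hr2 : Cfsg.PRankLE 2 2 S) (hr1 : ¬ Cfsg.PRankLE 2 1 S)
    (D : Subgroup ↥(Subgroup.center S)) (hD : IsCoatom D)
    (hq : ∃ (_ : (D.map (Subgroup.center S).subtype).Normal),
      ¬ IsMulCommutative (S ⧸ D.map (Subgroup.center S).subtype) ∧
      ∃! x : S ⧸ D.map (Subgroup.center S).subtype, orderOf x = 2) :
    ∃ C : Subgroup S, C ≠ ⊥ ∧ IsCyclic ↥C ∧ C.Characteristic := by
  classical
  set N : Subgroup S := D.map (Subgroup.center S).subtype with hNdef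
  obtain ⟨hN, hna, huniq⟩ := hq
  haveI : N.Normal := hN
  have hNcen : N ≤ Subgroup.center S := by
    rw [hNdef]
    rintro _ ⟨d, -, rfl⟩
    exact d.2
  have hQ2 : IsPGroup 2 (S ⧸ N) := hS.to_quotient N
  have huQ : Cfsg.Agent.Lib.Lead.UniqueOrderP.UniqueOrderP 2 (S ⧸ N) :=
    uniqueOrderP_of_existsUnique huniq
  haveI : Fact (Nat.Prime 2) := ⟨Nat.prime_two⟩
  have hcyc : IsCyclic (commutator S) := by
    rcases Cfsg.Agent.Lib.Lead.UniqueSubgroup.cyclic_or_quaternion hQ2 huQ with
      hc | ⟨-, k, ⟨e⟩⟩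
    · exfalso
      apply hna
      letI := IsCyclic.commGroup (α := S ⧸ N)
      exact ⟨⟨fun a b => mul_comm a b⟩⟩
    · have hf : Function.Surjective (e.toMonoidHom.comp (QuotientGroup.mk' N)) := by
        intro q
        obtain ⟨s, hs⟩ := QuotientGroup.mk'_surjective N (e.symm q)
        refine ⟨s, ?_⟩
        change e ((QuotientGroup.mk' N) s) = q
        rw [hs, MulEquiv.apply_symm_apply]
      have hker : (e.toMonoidHom.comp (QuotientGroup.mk' N)).ker ≤ Subgroup.center S := by
        intro s hs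
        rw [MonoidHom.mem_ker] at hs
        have h1 : (QuotientGroup.mk' N) s = 1 := by
          apply e.injective
          rw [map_one]
          exact hs
        exact hNcen ((QuotientGroup.eq_one_iff s).mp h1)
      exact isCyclic_commutator_of_quaternion _ hf hker
  refine ⟨commutator S, ?_, hcyc, ?_⟩
  · intro hbot
    apply hna
    refine ⟨⟨fun a b => ?_⟩⟩
    obtain ⟨s, rfl⟩ := QuotientGroup.mk_surjective a
    obtain ⟨t, rfl⟩ := QuotientGroup.mk_surjective b
    have h1 : ⁅s, t⁆ ∈ commutator S :=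
      Subgroup.commutator_mem_commutator (Subgroup.mem_top s) (Subgroup.mem_top t)
    rw [hbot, Subgroup.mem_bot, commutatorElement_eq_one_iff_commute] at h1
    rw [← QuotientGroup.mk_mul, ← QuotientGroup.mk_mul, h1.eq]
  · rw [commutator_def]
    infer_instance

end Cfsg.Agent.S3202
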