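import Cfsg.Statements.S3203
import Cfsg.Agent.Lib.Helper17.TwoMaxEA
open Cfsg.Agent.Lib.Helper17

set_option autoImplicit false
open Cfsg

namespace Cfsg.Agent.S3203

/-- Let S be a Sylow 2-subgroup of a finite group G having exactly two subgroups A ≠ B that are maximal among its elementary abelian subgroups, with S = AB. Then A and B are each weakly closed in S with respect to G, and the normalizer of S normalizes both A and B. -/
theorem result {G : Type*} [Group G] [Finite G] (S : Sylow 2 G)
    (A B : Subgroup ↥(S : Subgroup G)) (hAB : A ≠ B)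
    (hA : Cfsg.IsElementaryAbelian 2 A ∧ ∀ C : Subgroup ↥(S : Subgroup G), Cfsg.IsElementaryAbelian 2 C → A ≤ C → C = A)
    (hB : Cfsg.IsElementaryAbelian 2 B ∧ ∀ C : Subgroup ↥(S : Subgroup G), Cfsg.IsElementaryAbelian 2 C → B ≤ C → C = B)
    (honly : ∀ C : Subgroup ↥(S : Subgroup G), Cfsg.IsElementaryAbelian 2 C →
      (∀ D : Subgroup ↥(S : Subgroup G), Cfsg.IsElementaryAbelian 2 D → C ≤ D → D = C) → C = A ∨ C = B)
    (hprod : ∀ s : ↥(S : Subgroup G), ∃ a ∈ A, ∃ b ∈ B, a * b = s)
    (A' B' : Subgroup G) (hA' : A' = A.map (S : Subgroup G).subtype) (hB' : B' = B.map (S : Subgroup G).subtype) :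
    Cfsg.IsWeaklyClosed A' (S : Subgroup G) ∧ Cfsg.IsWeaklyClosed B' (S : Subgroup G) ∧
      Subgroup.normalizer ((S : Subgroup G) : Set G) ≤ Subgroup.normalizer (A' : Set G) ⊓ Subgroup.normalizer (B' : Set G) := by
  classical
  subst hA' hB'
  have hinj : Function.Injective (S : Subgroup G).subtype := (S : Subgroup G).subtype_injective
  have hAne : ¬ A ≤ B := fun h => hAB (hA.2 B hB.1 h).symm
  have hBne : ¬ B ≤ A := fun h => hAB (hB.2 A hA.1 h)
  have hkey : ∀ C : Subgroup G, C ≤ (S : Subgroup G) → Cfsg.IsElementaryAbelian 2 C →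
      C ≤ A.map (S : Subgroup G).subtype ∨ C ≤ B.map (S : Subgroup G).subtype := by
    intro C hCT hCe
    have hC0 : Cfsg.IsElementaryAbelian 2 (C.subgroupOf (S : Subgroup G)) := ea_subgroupOf (S : Subgroup G) hCe
    have hfin : {D : Subgroup ↥(S : Subgroup G) | Cfsg.IsElementaryAbelian 2 D}.Finite := Set.toFinite _
    obtain ⟨D, hCD, hDmax⟩ := hfin.exists_le_maximal (a := C.subgroupOf (S : Subgroup G)) hC0
    have hD : D = A ∨ D = B := by
      apply honly D hDmax.1
      intro D' hD' hDD'
      exact le_antisymm (hDmax.2 hD' hDD') hDD'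
    have hCeq : C = (C.subgroupOf (S : Subgroup G)).map (S : Subgroup G).subtype := by
      rw [Subgroup.subgroupOf_map_subtype, inf_eq_left.2 hCT]
    rcases hD with rfl | rfl
    · left; rw [hCeq]; exact Subgroup.map_mono hCD
    · right; rw [hCeq]; exact Subgroup.map_mono hCD
  have hstruct : TwoMaxEA S (A.map (S : Subgroup G).subtype) (B.map (S : Subgroup G).subtype) :=
    { hAS := Subgroup.map_subtype_le A
      hBS := Subgroup.map_subtype_le B
      hA := ea_map _ hA.1
      hB := ea_map _ hB.1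
      hAB := fun h => hAne ((Subgroup.map_le_map_iff_of_injective hinj).1 h)
      hBA := fun h => hBne ((Subgroup.map_le_map_iff_of_injective hinj).1 h)
      honly := hkey
      hprod := by
        intro s hs
        obtain ⟨a, ha, b, hb, hab⟩ := hprod ⟨s, hs⟩
        refine ⟨a, ⟨a, ha, rfl⟩, b, ⟨b, hb, rfl⟩, ?_⟩
        have := congrArg Subtype.val hab
        simpa using this }
  refine ⟨⟨Subgroup.map_subtype_le A, fun g hg => hstruct.weaklyClosed hg⟩,
    ⟨Subgroup.map_subtype_le B, fun g hg => hstruct.symm.weaklyClosed hg⟩, ?_⟩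
  exact le_inf hstruct.normalizer_le hstruct.symm.normalizer_le

end Cfsg.Agent.S3203
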