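import Cfsg.Statements.S3209
import Mathlib
import Cfsg.Agent.Lib.Helper12.C9
import Cfsg.Agent.Lib.Helper12.Klein
import Cfsg.Agent.S2428

set_option autoImplicit false
open Cfsg

namespace Cfsg.Agent.S3209

open Cfsg.Agent.Lib.Helper12.SL2 Cfsg.Agent.Lib.Helper12.Klein

local notation "SL2" => Matrix.SpecialLinearGroup (Fin 2)

/-- elements of the join of two commuting subgroups are products -/
theorem mem_sup_of_commute {G : Type*} [Group G] (L₁ L₂ : Subgroup G)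
    (hc : ∀ x ∈ L₁, ∀ y ∈ L₂, x * y = y * x) (y : G) (hy : y ∈ L₁ ⊔ L₂) :
    ∃ a ∈ L₁, ∃ b ∈ L₂, y = a * b := by
  have comm : ∀ (m : L₁) (n : L₂), Commute (L₁.subtype m) (L₂.subtype n) :=
    fun m n => hc m.1 m.2 n.1 n.2
  have hr := MonoidHom.noncommCoprod_range L₁.subtype L₂.subtype comm
  rw [Subgroup.range_subtype, Subgroup.range_subtype] at hr
  rw [← hr] at hy
  obtain ⟨⟨a, b⟩, rfl⟩ := hy
  exact ⟨a.1, a.2, b.1, b.2, rfl⟩

/-- In a group isomorphic to `SL₂(q)`, `q` odd: the unique involution, elements of order four. -/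
theorem sl2_facts {F : Type*} [Field F] [Fintype F] (hF : Odd (Fintype.card F))
    {L : Type*} [Group L] (e : L ≃* SL2 F) (j : L) (hj : j * j = 1) (hj1 : j ≠ 1) :
    (∀ a : L, a * a = 1 → a = 1 ∨ a = j) ∧ (∃ a₀ : L, a₀ * a₀ = j) ∧
      (∀ a a' : L, a * a = j → a' * a' = j → ∃ g : L, g * a * g⁻¹ = a') := by
  have h2 := Cfsg.Agent.S2428.two_ne_zero_of_odd hF
  have hej : e j = zc' := by
    have h1 : e j * e j = 1 := by rw [← map_mul, hj, map_one]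
    rcases eq_one_or_zc_of_sq h2 (e j) h1 with h | h
    · exfalso; apply hj1
      exact e.injective (by rw [h, map_one])
    · exact h
  refine ⟨?_, ?_, ?_⟩
  · intro a ha
    have h1 : e a * e a = 1 := by rw [← map_mul, ha, map_one]
    rcases eq_one_or_zc_of_sq h2 (e a) h1 with h | h
    · left; exact e.injective (by rw [h, map_one])
    · right; exact e.injective (by rw [h, hej])
  · obtain ⟨g, hg⟩ : ∃ g : SL2 F, tr g = 0 :=
      ⟨Cfsg.Agent.S2331.compS 0, by simp [tr, Cfsg.Agent.S2331.compS]⟩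
    refine ⟨e.symm g, ?_⟩
    apply e.injective
    rw [map_mul, e.apply_symm_apply, hej]
    exact sq_eq_zc_of_tr_eq_zero g hg
  · intro a a' ha ha'
    have h1 : e a * e a = zc' := by rw [← map_mul, ha, hej]
    have h1' : e a' * e a' = zc' := by rw [← map_mul, ha', hej]
    have t1 := tr_eq_zero_of_sq_eq_zc _ h1
    have t1' := tr_eq_zero_of_sq_eq_zc _ h1'
    obtain ⟨c, hc⟩ := isConj_iff.mp (isConj_of_tr_eq_zero h2 _ _ t1 t1')
    refine ⟨e.symm c, ?_⟩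
    apply e.injective
    rw [map_mul, map_mul, map_inv, e.apply_symm_apply]
    exact hc

theorem main {G : Type*} [Group G] [Finite G]
    {F₁ : Type*} [Field F₁] [Fintype F₁] {F₂ : Type*} [Field F₂] [Fintype F₂]
    (hF₁ : Odd (Fintype.card F₁)) (hF₂ : Odd (Fintype.card F₂)) (L₁ L₂ : Subgroup G)
    (e₁ : ↥L₁ ≃* SL2 F₁) (e₂ : ↥L₂ ≃* SL2 F₂)
    (hc : ∀ x ∈ L₁, ∀ y ∈ L₂, x * y = y * x) (j : G) (hj : orderOf j = 2)
    (hm : L₁ ⊓ L₂ = Subgroup.zpowers j) :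
    ∃ x ∈ L₁ ⊔ L₂, orderOf x = 2 ∧ x ≠ j ∧
      ∀ y ∈ L₁ ⊔ L₂, orderOf y = 2 → y = j ∨ ∃ g ∈ L₁ ⊔ L₂, g * x * g⁻¹ = y := by
  rw [orderOf_two_iff] at hj
  obtain ⟨hjj, hj1⟩ := hj
  have hjmem : j ∈ L₁ ⊓ L₂ := by rw [hm]; exact Subgroup.mem_zpowers j
  have hj₁ : j ∈ L₁ := hjmem.1
  have hj₂ : j ∈ L₂ := hjmem.2
  -- elements of the intersection
  have hinter : ∀ t : G, t ∈ L₁ → t ∈ L₂ → t = 1 ∨ t = j := by
    intro t h1 h2
    have : t ∈ Subgroup.zpowers j := by rw [← hm]; exact ⟨h1, h2⟩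
    obtain ⟨k, rfl⟩ := Subgroup.mem_zpowers_iff.mp this
    rcases Int.even_or_odd k with ⟨m, hm'⟩ | ⟨m, hm'⟩
    · left
      rw [hm', ← two_mul, zpow_mul, zpow_two, hjj, one_zpow]
    · right
      rw [hm', zpow_add, zpow_mul, zpow_two, hjj, one_zpow, one_mul, zpow_one]
  obtain ⟨u₁, ⟨a₀, ha₀⟩, c₁⟩ := sl2_facts hF₁ e₁ (⟨j, hj₁⟩ : L₁) (Subtype.ext hjj)
    (fun h => hj1 (congrArg Subtype.val h))
  obtain ⟨u₂, ⟨b₀, hb₀⟩, c₂⟩ := sl2_facts hF₂ e₂ (⟨j, hj₂⟩ : L₂) (Subtype.ext hjj)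
    (fun h => hj1 (congrArg Subtype.val h))
  have ha₀' : (a₀ : G) * a₀ = j := congrArg Subtype.val ha₀
  have hb₀' : (b₀ : G) * b₀ = j := congrArg Subtype.val hb₀
  have hcab : (a₀ : G) * b₀ = b₀ * a₀ := hc _ a₀.2 _ b₀.2
  have hx2 : ((a₀ : G) * b₀) * (a₀ * b₀) = 1 := by
    calc ((a₀ : G) * b₀) * (a₀ * b₀) = a₀ * (b₀ * a₀) * b₀ := by group
      _ = a₀ * (a₀ * b₀) * b₀ := by rw [← hcab]
      _ = (a₀ * a₀) * (b₀ * b₀) := by group
      _ = 1 := by rw [ha₀', hb₀', hjj]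
  -- a₀ is not in L₂
  have ha₀L₂ : (a₀ : G) ∉ L₂ := by
    intro h
    rcases hinter _ a₀.2 h with h' | h'
    · rw [h', mul_one] at ha₀'; exact hj1 ha₀'.symm
    · rw [h', hjj] at ha₀'; exact hj1 ha₀'.symm
  refine ⟨(a₀ : G) * b₀, Subgroup.mul_mem _ (Subgroup.mem_sup_left a₀.2) (Subgroup.mem_sup_right b₀.2),
    ?_, ?_, ?_⟩
  · rw [orderOf_two_iff]
    refine ⟨hx2, ?_⟩
    intro h
    apply ha₀L₂
    have : (a₀ : G) = (b₀ : G)⁻¹ := eq_inv_of_mul_eq_one_left h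
    rw [this]; exact L₂.inv_mem b₀.2
  · intro h
    apply ha₀L₂
    have : (a₀ : G) = j * (b₀ : G)⁻¹ := by rw [← h]; group
    rw [this]; exact L₂.mul_mem hj₂ (L₂.inv_mem b₀.2)
  · intro y hy hy2
    rw [orderOf_two_iff] at hy2
    obtain ⟨hyy, hy1⟩ := hy2
    obtain ⟨a, ha, b, hb, rfl⟩ := mem_sup_of_commute L₁ L₂ hc y hy
    have hcab' : a * b = b * a := hc a ha b hb
    have hsq : (a * a) * (b * b) = 1 := by
      calc (a * a) * (b * b) = a * (a * b) * b := by group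
        _ = a * (b * a) * b := by rw [hcab']
        _ = (a * b) * (a * b) := by group
        _ = 1 := hyy
    have haa : a * a = (b * b)⁻¹ := eq_inv_of_mul_eq_one_left hsq
    have haaL₂ : a * a ∈ L₂ := by rw [haa]; exact L₂.inv_mem (L₂.mul_mem hb hb)
    rcases hinter _ (L₁.mul_mem ha ha) haaL₂ with h1 | h1
    · -- a² = 1, b² = 1
      left
      have hbb : b * b = 1 := by rw [h1, one_mul] at hsq; exact hsq
      have ea := u₁ ⟨a, ha⟩ (Subtype.ext h1)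
      have eb := u₂ ⟨b, hb⟩ (Subtype.ext hbb)
      have ea' : a = 1 ∨ a = j := by
        rcases ea with h | h
        · left; exact congrArg Subtype.val h
        · right; exact congrArg Subtype.val h
      have eb' : b = 1 ∨ b = j := by
        rcases eb with h | h
        · left; exact congrArg Subtype.val h
        · right; exact congrArg Subtype.val h
      rcases ea' with rfl | rfl <;> rcases eb' with rfl | rfl
      · exact absurd (mul_one 1) hy1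
      · rw [one_mul]
      · rw [mul_one]
      · exact absurd hjj hy1
    · -- a² = j = b²
      right
      have hbb : b * b = j := by
        rw [h1] at hsq
        have : j * (b * b) = j * j := by rw [hsq, hjj]
        exact mul_left_cancel this
      obtain ⟨g₁, hg₁⟩ := c₁ a₀ ⟨a, ha⟩ ha₀ (Subtype.ext h1)
      obtain ⟨g₂, hg₂⟩ := c₂ b₀ ⟨b, hb⟩ hb₀ (Subtype.ext hbb)
      have hg₁' : (g₁ : G) * a₀ * (g₁ : G)⁻¹ = a := congrArg Subtype.val hg₁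
      have hg₂' : (g₂ : G) * b₀ * (g₂ : G)⁻¹ = b := congrArg Subtype.val hg₂
      refine ⟨(g₁ : G) * g₂, Subgroup.mul_mem _ (Subgroup.mem_sup_left g₁.2)
        (Subgroup.mem_sup_right g₂.2), ?_⟩
      have k1 : (g₂ : G) * a₀ = a₀ * g₂ := (hc _ a₀.2 _ g₂.2).symm
      have k2 : (g₁ : G)⁻¹ * (g₂ : G)⁻¹ = (g₂ : G)⁻¹ * (g₁ : G)⁻¹ :=
        hc _ (L₁.inv_mem g₁.2) _ (L₂.inv_mem g₂.2)
      have k3 : (g₁ : G)⁻¹ * ((g₂ : G) * b₀ * (g₂ : G)⁻¹) = ((g₂ : G) * b₀ * (g₂ : G)⁻¹) * (g₁ : G)⁻¹ :=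
        hc _ (L₁.inv_mem g₁.2) _ (L₂.mul_mem (L₂.mul_mem g₂.2 b₀.2) (L₂.inv_mem g₂.2))
      calc (g₁ : G) * g₂ * (a₀ * b₀) * ((g₁ : G) * g₂)⁻¹
          = g₁ * (g₂ * a₀) * b₀ * ((g₂ : G)⁻¹ * (g₁ : G)⁻¹) := by group
        _ = g₁ * (a₀ * g₂) * b₀ * ((g₂ : G)⁻¹ * (g₁ : G)⁻¹) := by rw [k1]
        _ = g₁ * a₀ * ((g₂ * b₀ * (g₂ : G)⁻¹) * (g₁ : G)⁻¹) := by group
        _ = g₁ * a₀ * ((g₁ : G)⁻¹ * (g₂ * b₀ * (g₂ : G)⁻¹)) := by rw [k3]
        _ = (g₁ * a₀ * (g₁ : G)⁻¹) * (g₂ * b₀ * (g₂ : G)⁻¹) := by group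
        _ = a * b := by rw [hg₁', hg₂']


/-- Let L₁ ≅ SL₂(q₁) and L₂ ≅ SL₂(q₂), q₁ and q₂ odd, be elementwise-commuting subgroups of a finite group meeting in ⟨j⟩ for an involution j. Then L₁L₂ has exactly two conjugacy classes of involutions: the central involution j, and one further class (there is an involution x ≠ j in L₁L₂, and every involution of L₁L₂ other than j is conjugate to x by an element of L₁L₂). -/
theorem result {G : Type*} [Group G] [Finite G]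
    {F₁ : Type*} [Field F₁] [Fintype F₁] {F₂ : Type*} [Field F₂] [Fintype F₂]
    (hF₁ : Odd (Fintype.card F₁)) (hF₂ : Odd (Fintype.card F₂)) (L₁ L₂ : Subgroup G)
    (e₁ : ↥L₁ ≃* Matrix.SpecialLinearGroup (Fin 2) F₁) (e₂ : ↥L₂ ≃* Matrix.SpecialLinearGroup (Fin 2) F₂)
    (hc : ∀ x ∈ L₁, ∀ y ∈ L₂, x * y = y * x) (j : G) (hj : orderOf j = 2) (hm : L₁ ⊓ L₂ = Subgroup.zpowers j) :
    ∃ x ∈ L₁ ⊔ L₂, orderOf x = 2 ∧ x ≠ j ∧
      ∀ y ∈ L₁ ⊔ L₂, orderOf y = 2 → y = j ∨ ∃ g ∈ L₁ ⊔ L₂, g * x * g⁻¹ = y := by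
  exact main hF₁ hF₂ L₁ L₂ e₁ e₂ hc j hj hm

end Cfsg.Agent.S3209
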