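import Cfsg.Statements.S3213
import Mathlib

set_option autoImplicit false
open Cfsg

namespace Cfsg.Agent.S3213


universe u

theorem z5_key : ∀ a b c d : ZMod 5, a*d - b*c = 1 →
    (a*a+b*c)*a + (a*b+b*d)*c = 1 → (a*a+b*c)*b + (a*b+b*d)*d = 0 →
    (c*a+d*c)*a + (c*b+d*d)*c = 0 → (c*a+d*c)*b + (c*b+d*d)*d = 1 →
    (a = 1 ∧ b = 0 ∧ c = 0 ∧ d = 1) ∨
      ∃ s t u : ZMod 5, -(s*s) - t*u = 1 ∧ u*b + t*c = s*(d - a) := by
  decide

theorem k_key {K : Type*} [Field K] [Fintype K] (hK : Fintype.card K = 5) (a b c d : K)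
    (h1 : a*d - b*c = 1)
    (h11 : (a*a+b*c)*a + (a*b+b*d)*c = 1) (h12 : (a*a+b*c)*b + (a*b+b*d)*d = 0)
    (h21 : (c*a+d*c)*a + (c*b+d*d)*c = 0) (h22 : (c*a+d*c)*b + (c*b+d*d)*d = 1) :
    (a = 1 ∧ b = 0 ∧ c = 0 ∧ d = 1) ∨
      ∃ s t u : K, -(s*s) - t*u = 1 ∧ u*b + t*c = s*(d - a) := by
  have e : ZMod 5 ≃+* K := ZMod.ringEquivOfPrime K (by norm_num) hK
  have key := z5_key (e.symm a) (e.symm b) (e.symm c) (e.symm d)
    (by simpa using congrArg e.symm h1) (by simpa using congrArg e.symm h11)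
    (by simpa using congrArg e.symm h12) (by simpa using congrArg e.symm h21)
    (by simpa using congrArg e.symm h22)
  rcases key with ⟨ha, hb, hc, hd⟩ | ⟨s, t, u, h1', h2'⟩
  · left
    refine ⟨?_, ?_, ?_, ?_⟩
    · simpa using congrArg e ha
    · simpa using congrArg e hb
    · simpa using congrArg e hc
    · simpa using congrArg e hd
  · right
    refine ⟨e s, e t, e u, ?_, ?_⟩
    · simpa using congrArg e h1'
    · simpa using congrArg e h2'

theorem two_ne_zero_K {K : Type*} [Field K] [Fintype K] (hK : Fintype.card K = 5) :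
    (2 : K) ≠ 0 := by
  have e : ZMod 5 ≃+* K := ZMod.ringEquivOfPrime K (by norm_num) hK
  intro h
  have h2 : e.symm (2 : K) = e.symm 0 := congrArg e.symm h
  rw [map_ofNat, map_zero] at h2
  exact absurd h2 (by decide)



theorem upper_pow {K : Type*} [Field K] (n : ℕ) :
    (!![(1:K), 1; 0, 1]) ^ n = !![(1:K), (n:K); 0, 1] := by
  induction n with
  | zero => simp [Matrix.one_fin_two]
  | succ n ih =>
    rw [pow_succ, ih, Matrix.mul_fin_two]
    congr 1
    simp [add_comm]

theorem sl2_side {K : Type*} [Field K] [Fintype K] (hK : Fintype.card K = 5)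
    (x : Matrix.SpecialLinearGroup (Fin 2) K) (hx3 : x^3 = 1) (hx1 : x ≠ 1) :
    ∃ y z u : Matrix.SpecialLinearGroup (Fin 2) K,
      y * y = z ∧ x * y * x = y ∧ z * z = 1 ∧ z ≠ 1 ∧ z * u = u * z ∧ u ^ 5 = 1 ∧ u ≠ 1 := by
  obtain ⟨a, b, c, d, hxM⟩ : ∃ a b c d : K, x.1 = !![a, b; c, d] :=
    ⟨_, _, _, _, Matrix.eta_fin_two x.1⟩
  have hdet : a*d - b*c = 1 := by
    have h := x.2
    rw [hxM, Matrix.det_fin_two_of] at h
    exact h
  have h3 : x.1 * x.1 * x.1 = 1 := by
    have h := congrArg Subtype.val hx3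
    simpa [pow_succ] using h
  rw [hxM, Matrix.mul_fin_two, Matrix.mul_fin_two, Matrix.one_fin_two] at h3
  have h11 : (a*a+b*c)*a + (a*b+b*d)*c = 1 := congrFun (congrFun h3 0) 0
  have h12 : (a*a+b*c)*b + (a*b+b*d)*d = 0 := congrFun (congrFun h3 0) 1
  have h21 : (c*a+d*c)*a + (c*b+d*d)*c = 0 := congrFun (congrFun h3 1) 0
  have h22 : (c*a+d*c)*b + (c*b+d*d)*d = 1 := congrFun (congrFun h3 1) 1
  have h2K := two_ne_zero_K hK
  rcases k_key hK a b c d hdet h11 h12 h21 h22 with ⟨ha, hb, hc, hd⟩ | ⟨s, t, u, hq, hlin⟩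
  · exfalso
    apply hx1
    apply Subtype.ext
    rw [hxM, ha, hb, hc, hd, Matrix.SpecialLinearGroup.coe_one, Matrix.one_fin_two]
  · have hyd : (!![s, t; u, -s] : Matrix (Fin 2) (Fin 2) K).det = 1 := by
      rw [Matrix.det_fin_two_of]; linear_combination hq
    have hzd : (!![(-1:K), 0; 0, -1] : Matrix (Fin 2) (Fin 2) K).det = 1 := by
      rw [Matrix.det_fin_two_of]; ring
    have hud : (!![(1:K), 1; 0, 1] : Matrix (Fin 2) (Fin 2) K).det = 1 := by
      rw [Matrix.det_fin_two_of]; ring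
    obtain ⟨y, hy⟩ : ∃ y : Matrix.SpecialLinearGroup (Fin 2) K, y.1 = !![s, t; u, -s] :=
      ⟨⟨_, hyd⟩, rfl⟩
    obtain ⟨z, hz⟩ : ∃ z : Matrix.SpecialLinearGroup (Fin 2) K, z.1 = !![(-1:K), 0; 0, -1] :=
      ⟨⟨_, hzd⟩, rfl⟩
    obtain ⟨w, hw⟩ : ∃ w : Matrix.SpecialLinearGroup (Fin 2) K, w.1 = !![(1:K), 1; 0, 1] :=
      ⟨⟨_, hud⟩, rfl⟩
    refine ⟨y, z, w, ?_, ?_, ?_, ?_, ?_, ?_, ?_⟩
    · apply Subtype.ext
      rw [Matrix.SpecialLinearGroup.coe_mul, hy, hz]
      rw [Matrix.mul_fin_two]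
      have e11 : s * s + t * u = -1 := by linear_combination -hq
      have e12 : s * t + t * -s = 0 := by ring
      have e21 : u * s + -s * u = 0 := by ring
      have e22 : u * t + -s * -s = -1 := by linear_combination -hq
      rw [e11, e12, e21, e22]
    · apply Subtype.ext
      rw [Matrix.SpecialLinearGroup.coe_mul, Matrix.SpecialLinearGroup.coe_mul, hxM, hy]
      rw [Matrix.mul_fin_two, Matrix.mul_fin_two]
      have e11 : (a*s+b*u)*a + (a*t+b*(-s))*c = s := by
        linear_combination a*hlin + s*hdet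
      have e12 : (a*s+b*u)*b + (a*t+b*(-s))*d = t := by
        linear_combination b*hlin + t*hdet
      have e21 : (c*s+d*u)*a + (c*t+d*(-s))*c = u := by
        linear_combination c*hlin + u*hdet
      have e22 : (c*s+d*u)*b + (c*t+d*(-s))*d = -s := by
        linear_combination d*hlin - s*hdet
      rw [e11, e12, e21, e22]
    · apply Subtype.ext
      rw [Matrix.SpecialLinearGroup.coe_mul, Matrix.SpecialLinearGroup.coe_one, hz]
      rw [Matrix.mul_fin_two, Matrix.one_fin_two]
      congr 1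
      simp
    · intro h
      have h' := congrArg Subtype.val h
      rw [Matrix.SpecialLinearGroup.coe_one, Matrix.one_fin_two, hz] at h'
      have h00 : (-1 : K) = 1 := congrFun (congrFun h' 0) 0
      apply h2K
      linear_combination -h00
    · apply Subtype.ext
      rw [Matrix.SpecialLinearGroup.coe_mul, Matrix.SpecialLinearGroup.coe_mul, hz, hw]
      rw [Matrix.mul_fin_two, Matrix.mul_fin_two]
      congr 1
      simp
    · apply Subtype.ext
      rw [Matrix.SpecialLinearGroup.coe_pow, Matrix.SpecialLinearGroup.coe_one, hw]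
      rw [upper_pow, Matrix.one_fin_two]
      have h5 : ((5:ℕ):K) = 0 := by
        have := Nat.cast_card_eq_zero K
        rwa [hK] at this
      rw [h5]
    · intro h
      have h' := congrArg Subtype.val h
      rw [Matrix.SpecialLinearGroup.coe_one, Matrix.one_fin_two, hw] at h'
      have h01 : (1 : K) = 0 := congrFun (congrFun h' 0) 1
      exact one_ne_zero h01



theorem F_facts {F : Type*} [Field F] [Fintype F] (hF : Fintype.card F = 3) :
    (3 : F) = 0 ∧ (∀ l : F, l * l ≠ -1) := by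
  have e : ZMod 3 ≃+* F := ZMod.ringEquivOfPrime F (by norm_num) hF
  constructor
  · have h := Nat.cast_card_eq_zero F
    rw [hF] at h
    exact_mod_cast h
  · intro l h
    have h' := congrArg e.symm h
    rw [map_mul, map_neg, map_one] at h'
    revert h'
    generalize e.symm l = m
    revert m
    decide

theorem card_modEq_fixed {F : Type*} [Field F] [Fintype F] {V : Type*} [AddCommGroup V]
    [Module F V] [FiniteDimensional F V]
    (U : Module.End F V) (hU : U ^ 5 = 1) (W : Submodule F V) (hW : ∀ w ∈ W, U w ∈ W) :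
    Nat.card W ≡ Nat.card ↥(W ⊓ LinearMap.ker (U - 1)) [MOD 5] := by
  classical
  have hfinV : Finite V := Module.finite_of_finite F
  have hfinW : Fintype W := Fintype.ofFinite _
  let f : Function.End W := fun w => ⟨U w.1, hW w.1 w.2⟩
  have hfn : ∀ n : ℕ, ∀ w : W, ((f ^ n) w : V) = (U ^ n) w.1 := by
    intro n
    induction n with
    | zero => intro w; rfl
    | succ n ih =>
      intro w
      rw [pow_succ, pow_succ]
      show ((f ^ n) (f w) : V) = (U ^ n * U) w.1
      rw [ih, Module.End.mul_apply]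
  have hf5 : f ^ 5 ^ 1 = 1 := by
    rw [pow_one]
    funext w
    apply Subtype.ext
    rw [hfn, hU]
    rfl
  have : Fact (Nat.Prime 5) := ⟨by norm_num⟩
  have key := Equiv.Perm.card_fixedPoints_modEq (p := 5) (n := 1) hf5
  rw [← Nat.card_eq_fintype_card, ← Nat.card_eq_fintype_card] at key
  have e : Function.fixedPoints f ≃ ↥(W ⊓ LinearMap.ker (U - 1)) :=
    { toFun := fun w => ⟨w.1.1, ⟨w.1.2, by
        have h : f w.1 = w.1 := w.2
        have h' : U w.1.1 = w.1.1 := congrArg Subtype.val h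
        show w.1.1 ∈ LinearMap.ker (U - 1)
        rw [LinearMap.mem_ker, LinearMap.sub_apply, h', Module.End.one_apply, sub_self]⟩⟩
      invFun := fun v => ⟨⟨v.1, v.2.1⟩, by
        have h : v.1 ∈ LinearMap.ker (U - 1) := v.2.2
        rw [LinearMap.mem_ker, LinearMap.sub_apply, sub_eq_zero, Module.End.one_apply] at h
        show f _ = _
        apply Subtype.ext
        exact h⟩
      left_inv := fun w => rfl
      right_inv := fun v => rfl }
  rw [← Nat.card_congr e]
  exact key

theorem pow_three_mod_five : ∀ k ≤ 4, ∀ j ≤ k, 3 ^ k ≡ 3 ^ j [MOD 5] →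
    j = k ∨ (j = 0 ∧ k = 4) := by
  decide

theorem central_neg_one {F : Type*} [Field F] [Fintype F] (hF : Fintype.card F = 3)
    {V : Type*} [AddCommGroup V] [Module F V] [FiniteDimensional F V]
    (hV : Module.finrank F V = 4) (C U : Module.End F V) (hCC : C * C = 1) (hC1 : C ≠ 1)
    (hCU : C * U = U * C) (hU5 : U ^ 5 = 1) (hU1 : U ≠ 1) : C = -1 := by
  have hcardF : Nat.card F = 3 := by rw [Nat.card_eq_fintype_card, hF]
  have hall : ∀ T : Module.End F V, LinearMap.ker (T - 1) = ⊤ → T = 1 := by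
    intro T hT
    ext v
    have hv : v ∈ LinearMap.ker (T - 1) := hT ▸ Submodule.mem_top
    rw [LinearMap.mem_ker, LinearMap.sub_apply, sub_eq_zero] at hv
    exact hv
  -- Step 1
  have h1 := card_modEq_fixed U hU5 ⊤ (fun _ _ => Submodule.mem_top)
  have c2 : ∀ S : Submodule F V, Nat.card S = 3 ^ Module.finrank F S := fun S => by
    rw [Module.natCard_eq_pow_finrank (K := F) (V := S), hcardF]
  rw [top_inf_eq, c2, c2, finrank_top, hV] at h1
  have hj : Module.finrank F (LinearMap.ker (U - 1)) ≤ 4 := hV ▸ Submodule.finrank_le _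
  have hker : LinearMap.ker (U - 1) = ⊥ := by
    rcases pow_three_mod_five 4 le_rfl _ hj h1 with h | ⟨h, _⟩
    · exfalso
      apply hU1
      exact hall U (Submodule.eq_top_of_finrank_eq (h.trans hV.symm))
    · exact Submodule.finrank_eq_zero.mp h
  -- Step 2
  have hinv : ∀ w ∈ LinearMap.ker (C - 1), U w ∈ LinearMap.ker (C - 1) := by
    intro w hw
    rw [LinearMap.mem_ker, LinearMap.sub_apply, sub_eq_zero, Module.End.one_apply] at hw ⊢
    have h : C (U w) = U (C w) := by
      have h' := congrArg (fun T : Module.End F V => T w) hCU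
      simpa using h'
    rw [h, hw]
  have h2 := card_modEq_fixed U hU5 (LinearMap.ker (C - 1)) hinv
  rw [hker, inf_bot_eq] at h2
  rw [c2, c2, finrank_bot] at h2
  have hk : Module.finrank F (LinearMap.ker (C - 1)) ≤ 4 := hV ▸ Submodule.finrank_le _
  have hkerC : LinearMap.ker (C - 1) = ⊥ := by
    rcases pow_three_mod_five _ hk 0 (Nat.zero_le _) h2 with h | ⟨_, h⟩
    · exact Submodule.finrank_eq_zero.mp h.symm
    · exfalso
      apply hC1
      exact hall C (Submodule.eq_top_of_finrank_eq (h.trans hV.symm))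
  have hprod : (C - 1) * (C + 1) = 0 := by
    have h : (C - 1) * (C + 1) = C * C - 1 := by noncomm_ring
    rw [h, hCC, sub_self]
  ext v
  have hv : (C + 1) v ∈ LinearMap.ker (C - 1) := by
    rw [LinearMap.mem_ker]
    have h' := congrArg (fun T : Module.End F V => T v) hprod
    simpa using h'
  rw [hkerC, Submodule.mem_bot, LinearMap.add_apply, Module.End.one_apply] at hv
  rw [LinearMap.neg_apply, Module.End.one_apply]
  exact eq_neg_of_add_eq_zero_left hv

theorem even_finrank_of_sq {F : Type*} [Field F] (hsq : ∀ l : F, l * l ≠ -1)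
    {V : Type*} [AddCommGroup V] [Module F V] [FiniteDimensional F V]
    (B : Module.End F V) (hBB : B * B = -1) (W : Submodule F V) (hW : ∀ w ∈ W, B w ∈ W) :
    Even (Module.finrank F W) := by
  by_contra hodd
  rw [Nat.not_even_iff_odd] at hodd
  let B' : W →ₗ[F] W := B.restrict hW
  have h : B' ∘ₗ B' = (-1 : F) • LinearMap.id := by
    ext w
    have h' := congrArg (fun T : Module.End F V => T w.1) hBB
    simpa [B', LinearMap.restrict_apply] using h'
  have hd := congrArg LinearMap.det h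
  rw [LinearMap.det_comp, LinearMap.det_smul, LinearMap.det_id, mul_one, hodd.neg_one_pow] at hd
  exact hsq _ hd



theorem main_lin {F : Type*} [Field F] [Fintype F] (hF : Fintype.card F = 3)
    {V : Type*} [AddCommGroup V] [Module F V] [FiniteDimensional F V]
    (hV : Module.finrank F V = 4)
    (A B : Module.End F V) (hA3 : A ^ 3 = 1) (hA1 : A ≠ 1) (hBB : B * B = -1)
    (hABA : A * B * A = B) :
    Module.finrank F (LinearMap.ker (A - 1)) = 2 ∧
      LinearMap.ker (A - 1) ≤ LinearMap.range (A - 1) := by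
  obtain ⟨h3, hsq⟩ := F_facts hF
  have h3E : (3 : Module.End F V) = 0 := by
    rw [← map_ofNat (algebraMap F (Module.End F V)) 3, h3, map_zero]
  have hN3 : (A - 1) ^ 3 = 0 := by
    have h : (A - 1) ^ 3 = A ^ 3 - 1 - 3 * (A ^ 2 - A) := by noncomm_ring
    rw [h, hA3, h3E, zero_mul, sub_self, sub_zero]
  have hN3v : ∀ v : V, (A - 1) ((A - 1) ((A - 1) v)) = 0 := by
    intro v
    have h := congrArg (fun T : Module.End F V => T v) hN3
    simpa [pow_succ, Module.End.mul_apply] using h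
  have hABAv : ∀ v : V, A (B (A v)) = B v := by
    intro v
    have h := congrArg (fun T : Module.End F V => T v) hABA
    simpa [Module.End.mul_apply] using h
  have hmemker : ∀ v : V, v ∈ LinearMap.ker (A - 1) ↔ A v = v := by
    intro v
    rw [LinearMap.mem_ker, LinearMap.sub_apply, sub_eq_zero, Module.End.one_apply]
  have hNv : ∀ v : V, (A - 1) v = A v - v := by
    intro v
    rw [LinearMap.sub_apply, Module.End.one_apply]
  -- invariance
  have hkerB : ∀ w ∈ LinearMap.ker (A - 1), B w ∈ LinearMap.ker (A - 1) := by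
    intro w hw
    rw [hmemker] at hw ⊢
    have h := hABAv w
    rw [hw] at h
    exact h
  have hranB : ∀ w ∈ LinearMap.range (A - 1), B w ∈ LinearMap.range (A - 1) := by
    rintro w ⟨u, rfl⟩
    refine ⟨-(B (A u)), ?_⟩
    rw [hNv, hNv, map_neg, hABAv, map_sub]
    abel
  have hinfB : ∀ w ∈ LinearMap.ker (A - 1) ⊓ LinearMap.range (A - 1),
      B w ∈ LinearMap.ker (A - 1) ⊓ LinearMap.range (A - 1) := by
    intro w hw
    exact ⟨hkerB w hw.1, hranB w hw.2⟩
  have hev1 := even_finrank_of_sq hsq B hBB _ hkerB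
  have hev2 := even_finrank_of_sq hsq B hBB _ hinfB
  have hle : Module.finrank F (LinearMap.ker (A - 1)) ≤ 4 := hV ▸ Submodule.finrank_le _
  have hne4 : Module.finrank F (LinearMap.ker (A - 1)) ≠ 4 := by
    intro h
    apply hA1
    have htop : LinearMap.ker (A - 1) = ⊤ := Submodule.eq_top_of_finrank_eq (h.trans hV.symm)
    ext v
    have hv : v ∈ LinearMap.ker (A - 1) := htop ▸ Submodule.mem_top
    rw [hmemker] at hv
    rw [hv, Module.End.one_apply]
  have hne0 : Module.finrank F (LinearMap.ker (A - 1)) ≠ 0 := by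
    intro h
    have hbot : LinearMap.ker (A - 1) = ⊥ := Submodule.finrank_eq_zero.mp h
    have hinj : ∀ v : V, (A - 1) v = 0 → v = 0 := by
      intro v hv
      have : v ∈ LinearMap.ker (A - 1) := hv
      rw [hbot] at this
      exact this
    have hzero : ∀ v : V, v = 0 := fun v => hinj _ (hinj _ (hinj _ (hN3v v)))
    have : Subsingleton V := ⟨fun a b => (hzero a).trans (hzero b).symm⟩
    have := Module.finrank_zero_of_subsingleton (R := F) (M := V)
    omega
  have hk2 : Module.finrank F (LinearMap.ker (A - 1)) = 2 := by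
    obtain ⟨k, hk⟩ := hev1
    omega
  refine ⟨hk2, ?_⟩
  have hrk := LinearMap.finrank_range_add_finrank_ker (A - 1)
  rw [hk2, hV] at hrk
  have hr2 : Module.finrank F (LinearMap.range (A - 1)) = 2 := by omega
  have hrne : LinearMap.range (A - 1) ≠ ⊥ := by
    intro h
    rw [h, finrank_bot] at hr2
    omega
  obtain ⟨r, hr, hr0⟩ := Submodule.exists_mem_ne_zero_of_ne_bot hrne
  have hIne : LinearMap.ker (A - 1) ⊓ LinearMap.range (A - 1) ≠ ⊥ := by
    intro hbot
    have hno : ∀ v : V, v ∈ LinearMap.ker (A - 1) → v ∈ LinearMap.range (A - 1) → v = 0 := by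
      intro v h1 h2
      have : v ∈ LinearMap.ker (A - 1) ⊓ LinearMap.range (A - 1) := ⟨h1, h2⟩
      rw [hbot] at this
      exact this
    have hrange : ∀ v : V, (A - 1) v ∈ LinearMap.range (A - 1) := fun v => ⟨v, rfl⟩
    have h2 : (A - 1) ((A - 1) r) = 0 := hno _ (hN3v r) (hrange _)
    have h1 : (A - 1) r = 0 := hno _ h2 (hrange _)
    exact hr0 (hno _ h1 hr)
  have hIle : Module.finrank F ↥(LinearMap.ker (A - 1) ⊓ LinearMap.range (A - 1)) ≤ 2 :=
    hk2 ▸ Submodule.finrank_mono inf_le_left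
  have hI0 : Module.finrank F ↥(LinearMap.ker (A - 1) ⊓ LinearMap.range (A - 1)) ≠ 0 := by
    intro h
    exact hIne (Submodule.finrank_eq_zero.mp h)
  have hI2 : Module.finrank F ↥(LinearMap.ker (A - 1) ⊓ LinearMap.range (A - 1)) = 2 := by
    obtain ⟨k, hk⟩ := hev2
    omega
  have hIeq : LinearMap.ker (A - 1) ⊓ LinearMap.range (A - 1) = LinearMap.ker (A - 1) :=
    Submodule.eq_of_le_of_finrank_eq inf_le_left (hI2.trans hk2.symm)
  rw [← hIeq]
  exact inf_le_right




/-- Let F be the field with 3 elements and K the field with 5 elements. For every injective homomorphism φ from SL₂(K) into the symplectic group Sp₄(F) (4 × 4 matrices g with g J gᵀ = J for the standard alternating matrix J) and every element x of order 3 of SL₂(K), the vectors of F⁴ fixed by φ(x) form a 2-dimensional subspace that is totally isotropic for the alternating form defined by J. -/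
theorem result {F : Type*} [Field F] [Fintype F] (hF : Fintype.card F = 3)
    {K : Type*} [Field K] [Fintype K] (hK : Fintype.card K = 5)
    (φ : Matrix.SpecialLinearGroup (Fin 2) K →* ↥(Matrix.symplecticGroup (Fin 2) F)) (hφ : Function.Injective φ)
    (x : Matrix.SpecialLinearGroup (Fin 2) K) (hx : orderOf x = 3) :
    Module.finrank F ↥(LinearMap.ker (Matrix.toLin' ((φ x : Matrix (Fin 2 ⊕ Fin 2) (Fin 2 ⊕ Fin 2) F)) - LinearMap.id)) = 2 ∧
      ∀ v w : Fin 2 ⊕ Fin 2 → F, (φ x : Matrix (Fin 2 ⊕ Fin 2) (Fin 2 ⊕ Fin 2) F).mulVec v = v →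
        (φ x : Matrix (Fin 2 ⊕ Fin 2) (Fin 2 ⊕ Fin 2) F).mulVec w = w →
          dotProduct v ((Matrix.J (Fin 2) F).mulVec w) = 0 := by
  have hx3 : x ^ 3 = 1 := hx ▸ pow_orderOf_eq_one x
  have hx1 : x ≠ 1 := by
    intro h
    rw [h, orderOf_one] at hx
    omega
  obtain ⟨y, z, u, hyy, hxyx, hzz, hz1, hzu, hu5, hu1⟩ := sl2_side hK x hx3 hx1
  let Φ : Matrix.SpecialLinearGroup (Fin 2) K →* Module.End F (Fin 2 ⊕ Fin 2 → F) :=
    { toFun := fun g => Matrix.toLinAlgEquiv' ((φ g : Matrix (Fin 2 ⊕ Fin 2) (Fin 2 ⊕ Fin 2) F))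
      map_one' := by rw [map_one, Submonoid.coe_one, map_one]
      map_mul' := fun g h => by rw [map_mul, Submonoid.coe_mul, map_mul] }
  have hΦinj : Function.Injective Φ := fun g h hgh =>
    hφ (Subtype.ext (Matrix.toLinAlgEquiv'.injective hgh))
  have hV : Module.finrank F (Fin 2 ⊕ Fin 2 → F) = 4 := by
    rw [Module.finrank_fintype_fun_eq_card]
    rfl
  have hA3 : Φ x ^ 3 = 1 := by rw [← map_pow, hx3, map_one]
  have hA1 : Φ x ≠ 1 := fun h => hx1 (hΦinj (h.trans (map_one Φ).symm))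
  have hBB0 : Φ y * Φ y = Φ z := by rw [← map_mul, hyy]
  have hABA : Φ x * Φ y * Φ x = Φ y := by rw [← map_mul, ← map_mul, hxyx]
  have hCC : Φ z * Φ z = 1 := by rw [← map_mul, hzz, map_one]
  have hC1 : Φ z ≠ 1 := fun h => hz1 (hΦinj (h.trans (map_one Φ).symm))
  have hCU : Φ z * Φ u = Φ u * Φ z := by rw [← map_mul, ← map_mul, hzu]
  have hU5 : Φ u ^ 5 = 1 := by rw [← map_pow, hu5, map_one]
  have hU1 : Φ u ≠ 1 := fun h => hu1 (hΦinj (h.trans (map_one Φ).symm))
  have hC : Φ z = -1 := central_neg_one hF hV (Φ z) (Φ u) hCC hC1 hCU hU5 hU1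
  have main := main_lin hF hV (Φ x) (Φ y) hA3 hA1 (hBB0.trans hC) hABA
  refine ⟨main.1, ?_⟩
  intro v w hv hw
  have hM : Matrix.transpose (φ x : Matrix (Fin 2 ⊕ Fin 2) (Fin 2 ⊕ Fin 2) F) * Matrix.J (Fin 2) F *
      (φ x : Matrix (Fin 2 ⊕ Fin 2) (Fin 2 ⊕ Fin 2) F) = Matrix.J (Fin 2) F :=
    SymplecticGroup.mem_iff'.mp (φ x).2
  have hform : ∀ a b : Fin 2 ⊕ Fin 2 → F,
      dotProduct ((φ x : Matrix (Fin 2 ⊕ Fin 2) (Fin 2 ⊕ Fin 2) F).mulVec a)
        ((Matrix.J (Fin 2) F).mulVec
          ((φ x : Matrix (Fin 2 ⊕ Fin 2) (Fin 2 ⊕ Fin 2) F).mulVec b)) =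
      dotProduct a ((Matrix.J (Fin 2) F).mulVec b) := by
    intro a b
    rw [← Matrix.vecMul_transpose, ← Matrix.dotProduct_mulVec, Matrix.mulVec_mulVec,
      Matrix.mulVec_mulVec, hM]
  have hvker : v ∈ LinearMap.ker (Φ x - 1) := by
    rw [LinearMap.mem_ker, LinearMap.sub_apply, sub_eq_zero, Module.End.one_apply]
    exact hv
  obtain ⟨v', hv'⟩ := main.2 hvker
  have hv'' : (φ x : Matrix (Fin 2 ⊕ Fin 2) (Fin 2 ⊕ Fin 2) F).mulVec v' - v' = v := by
    rw [LinearMap.sub_apply, Module.End.one_apply] at hv'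
    exact hv'
  rw [← hv'', sub_dotProduct]
  have h1 := hform v' w
  rw [hw] at h1
  rw [h1, sub_self]

end Cfsg.Agent.S3213
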