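import Cfsg.Statements.S3215
import Mathlib
import Cfsg.Agent.S1476
import Cfsg.Agent.S0016
import Cfsg.Agent.S0040
import Cfsg.Agent.Lib.Helper16.ThompsonAxB
import Cfsg.Agent.Lib.Helper24.OmegaAll
import Cfsg.Agent.Lib.Helper13.FpfCyclic
import Cfsg.Agent.Lib.Helper13.Coprime
import Cfsg.Agent.Lib.Helper20.Bender
import Cfsg.Agent.Lib.Helper2.Cores

set_option autoImplicit false
open Cfsg

namespace Cfsg.Agent.S3215

universe u

theorem eq_one_of_odd_of_two_pow {G : Type*} [Group G] (g : G) (h1 : Odd (orderOf g))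
    (h2 : ∃ k : ℕ, g ^ (2 ^ k) = 1) : g = 1 := by
  obtain ⟨k, hk⟩ := h2
  have hd : orderOf g ∣ 2 ^ k := orderOf_dvd_of_pow_eq_one hk
  have hc : Nat.Coprime (orderOf g) (2 ^ k) :=
    Nat.Coprime.pow_right k (Nat.coprime_two_left.mpr h1).symm
  exact orderOf_eq_one_iff.mp (Nat.Coprime.eq_one_of_dvd hc hd)

theorem sylow_of_fpf {G : Type u} [Group G] [Finite G] (E K : Subgroup G) (hK : K ≠ ⊥)
    (hEK : E ≤ Subgroup.normalizer (K : Set G))
    (hfpf : ∀ a ∈ E, a ≠ 1 → K ⊓ Subgroup.centralizer {a} = ⊥)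
    (p : ℕ) [Fact p.Prime] (P : Sylow p E) :
    IsCyclic P ∨ (p = 2 ∧ ∃ n : ℕ, Nonempty (P ≃* QuaternionGroup (2 ^ n))) := by
  have huniq := Cfsg.Agent.S0040.unique_order_p (P := ↥(P : Subgroup E)) p P.2 (by
    intro A hA
    obtain ⟨f, hf⟩ : ∃ f : ↥(P : Subgroup E) →* G,
        f = E.subtype.comp (P : Subgroup E).subtype := ⟨_, rfl⟩
    have hinj : Function.Injective f := by
      rw [hf]
      exact E.subtype_injective.comp (P : Subgroup E).subtype_injective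
    have hle : A.map f ≤ E := by
      rintro _ ⟨a, _, rfl⟩
      rw [hf]
      exact (a : E).2
    have hcyc : IsCyclic (A.map f) := by
      apply Cfsg.Agent.Lib.Helper13.fpf_cyclic (A.map f) K hK
      · exact hle.trans hEK
      · intro a ha ha1
        exact hfpf a (hle ha) ha1
      · left
        infer_instance
    exact isCyclic_of_surjective (A.equivMapOfInjective f hinj).symm
      (A.equivMapOfInjective f hinj).symm.surjective)
  exact Cfsg.Agent.S0016.result p P.2 huniq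

theorem cyclic_of_fpf_nilpotent_odd {G : Type u} [Group G] [Finite G] (E K : Subgroup G)
    (hK : K ≠ ⊥) (hEK : E ≤ Subgroup.normalizer (K : Set G))
    (hfpf : ∀ a ∈ E, a ≠ 1 → K ⊓ Subgroup.centralizer {a} = ⊥)
    (hnil : Group.IsNilpotent E) (hodd : Odd (Nat.card E)) : IsCyclic E := by
  have hS : ∀ (p : ℕ) [Fact p.Prime] (P : Sylow p E),
      IsCyclic P ∨ ∃ n : ℕ, Nonempty (P ≃* QuaternionGroup (2 ^ n)) := by
    intro p _ P
    rcases sylow_of_fpf E K hK hEK hfpf p P with h | ⟨-, h⟩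
    · exact Or.inl h
    · exact Or.inr h
  rcases Cfsg.Agent.S1476.lemmaNS hS with h | ⟨C, Q, -, -, -, -, n, ⟨e⟩⟩
  · exact h
  · exfalso
    have h2 : 2 ∣ Nat.card Q := by
      rw [Cfsg.Agent.S1476.quaternion_card_even e]
      exact Dvd.intro _ (by ring : 2 * (2 * 2 ^ n) = 4 * 2 ^ n)
    have h3 : 2 ∣ Nat.card E := h2.trans (Subgroup.card_subgroup_dvd_card Q)
    exact (Nat.not_even_iff_odd.mpr hodd) (even_iff_two_dvd.mpr h3)

/-- Key: an odd-order element `≠ 1` commutes with no involution. -/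
theorem keyInv {H : Type u} [Group H] [Finite H]
    (hCY : Subgroup.centralizer (pCore 2 H : Set H) ≤ pCore 2 H)
    (hI : ∀ t : H, orderOf t = 2 →
      HasNormalPComplement 2 ↥(Subgroup.centralizer ({t} : Set H)))
    (f t : H) (hf1 : f ≠ 1) (hfo : Odd (orderOf f)) (ht : orderOf t = 2) : f * t ≠ t * f := by
  intro hcomm
  haveI : Fact (Nat.Prime 2) := ⟨Nat.prime_two⟩
  haveI hYn : (pCore 2 H).Normal := Cfsg.Agent.Lib.Helper2.pCore_normal 2
  have hYp : IsPGroup 2 (pCore 2 H) := Cfsg.Agent.Lib.Helper2.pCore_isPGroup 2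
  obtain ⟨P, N, hNn, hc⟩ := hI t ht
  have hNodd : Odd (Nat.card N) := by
    rw [← hc.index_eq_card]
    exact Nat.not_even_iff_odd.mp (fun h => P.not_dvd_index (even_iff_two_dvd.mp h))
  have hfN : ∀ g : ↥(Subgroup.centralizer ({t} : Set H)), Odd (orderOf g) → g ∈ N := by
    intro g hg
    rw [← QuotientGroup.eq_one_iff (N := N)]
    apply eq_one_of_odd_of_two_pow
    · exact Odd.of_dvd_nat hg (orderOf_map_dvd (QuotientGroup.mk' N) g)
    · obtain ⟨j, hj⟩ := IsPGroup.iff_card.mp P.2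
      refine ⟨j, ?_⟩
      have : Nat.card (↥(Subgroup.centralizer ({t} : Set H)) ⧸ N) = 2 ^ j := by
        rw [← Subgroup.index_eq_card, hc.symm.index_eq_card, hj]
      rw [← this]; exact pow_card_eq_one'
  have hfC : f ∈ Subgroup.centralizer ({t} : Set H) :=
    Subgroup.mem_centralizer_singleton_iff.mpr hcomm
  have hf'N : (⟨f, hfC⟩ : ↥(Subgroup.centralizer ({t} : Set H))) ∈ N := by
    apply hfN
    rw [Subgroup.orderOf_mk]; exact hfo
  have hcent : f ∈ Subgroup.centralizer (pCore 2 H : Set H) := by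
    apply Cfsg.Agent.Lib.Helper16.thompson_AxB (p := 2) (Subgroup.zpowers t) (pCore 2 H) f
    · apply IsPGroup.of_card (n := 1)
      rw [Nat.card_zpowers, ht, pow_one]
    · exact hYp
    · exact (Nat.coprime_two_left.mpr hfo).symm
    · rw [Subgroup.mem_centralizer_iff]
      intro h hh
      obtain ⟨k, rfl⟩ := Subgroup.mem_zpowers_iff.mp hh
      have hc' : Commute t f := hcomm.symm
      exact (hc'.zpow_left k).eq
    · rw [Subgroup.normalizer_eq_top]; exact le_top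
    · rw [Subgroup.normalizer_eq_top]; exact Subgroup.mem_top _
    · rw [Subgroup.mem_centralizer_iff]
      rintro y ⟨hyY, hyB⟩
      have hyt : y * t = t * y := by
        have hyB' : y ∈ Subgroup.centralizer ((Subgroup.zpowers t : Subgroup H) : Set H) := hyB
        rw [Subgroup.mem_centralizer_iff] at hyB'
        exact (hyB' t (Subgroup.mem_zpowers t)).symm
      have hyC : y ∈ Subgroup.centralizer ({t} : Set H) :=
        Subgroup.mem_centralizer_singleton_iff.mpr hyt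
      have hw'N : (⟨f, hfC⟩ : ↥(Subgroup.centralizer ({t} : Set H))) * ⟨y, hyC⟩ *
          (⟨f, hfC⟩)⁻¹ * (⟨y, hyC⟩)⁻¹ ∈ N := by
        have h1 := hNn.conj_mem _ (N.inv_mem hf'N) ⟨y, hyC⟩
        have h2 := N.mul_mem hf'N h1
        have e : (⟨f, hfC⟩ : ↥(Subgroup.centralizer ({t} : Set H))) * ⟨y, hyC⟩ *
          (⟨f, hfC⟩)⁻¹ * (⟨y, hyC⟩)⁻¹ = ⟨f, hfC⟩ * (⟨y, hyC⟩ * (⟨f, hfC⟩)⁻¹ * (⟨y, hyC⟩)⁻¹) := by
          group
        rw [e]; exact h2
      have hwodd : Odd (orderOf (f * y * f⁻¹ * y⁻¹)) := by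
        have h1 : orderOf ((⟨_, hw'N⟩ : N)) ∣ Nat.card N := orderOf_dvd_natCard _
        rw [Subgroup.orderOf_mk] at h1
        have h2 : orderOf ((⟨f, hfC⟩ : ↥(Subgroup.centralizer ({t} : Set H))) * ⟨y, hyC⟩ *
          (⟨f, hfC⟩)⁻¹ * (⟨y, hyC⟩)⁻¹) = orderOf (f * y * f⁻¹ * y⁻¹) := by
          rw [← Subgroup.orderOf_coe]
          rfl
        rw [h2] at h1
        exact Odd.of_dvd_nat hNodd h1
      have hwY : f * y * f⁻¹ * y⁻¹ ∈ pCore 2 H :=
        (pCore 2 H).mul_mem (hYn.conj_mem y hyY f) ((pCore 2 H).inv_mem hyY)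
      have hw1 := eq_one_of_odd_of_two_pow _ hwodd
        (Cfsg.Agent.S1476.elt_pow_of_isPGroup _ hYp _ hwY)
      have h3 := mul_inv_eq_one.mp hw1
      exact (mul_inv_eq_iff_eq_mul.mp h3).symm
  have hfY := hCY hcent
  exact hf1 (eq_one_of_odd_of_two_pow f hfo (Cfsg.Agent.S1476.elt_pow_of_isPGroup _ hYp f hfY))

/-- An odd-order element `≠ 1` commutes with no nontrivial `2`-element. -/
theorem keyTwo {H : Type u} [Group H] [Finite H]
    (hCY : Subgroup.centralizer (pCore 2 H : Set H) ≤ pCore 2 H)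
    (hI : ∀ t : H, orderOf t = 2 →
      HasNormalPComplement 2 ↥(Subgroup.centralizer ({t} : Set H)))
    (f c : H) (hf1 : f ≠ 1) (hfo : Odd (orderOf f)) (hc1 : c ≠ 1) (hc2 : ∃ k : ℕ, c ^ (2 ^ k) = 1) :
    f * c ≠ c * f := by
  intro hcomm
  obtain ⟨k, hk⟩ := hc2
  have hd : orderOf c ∣ 2 ^ k := orderOf_dvd_of_pow_eq_one hk
  obtain ⟨j, -, hj⟩ := (Nat.dvd_prime_pow Nat.prime_two).mp hd
  have hj0 : j ≠ 0 := by
    intro h
    rw [h, pow_zero, orderOf_eq_one_iff] at hj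
    exact hc1 hj
  have h2 : 2 ∣ orderOf c := by rw [hj]; exact dvd_pow_self 2 hj0
  have ht : orderOf (c ^ (orderOf c / 2)) = 2 :=
    orderOf_pow_orderOf_div (orderOf_pos c).ne' h2
  have hc' : Commute f c := hcomm
  exact keyInv hCY hI f _ hf1 hfo ht (hc'.pow_right _).eq


theorem result {H : Type*} [Group H] [Finite H] (hsol : Group.IsSolvable H)
    (hO : Cfsg.oddCore H = ⊥)
    (hI : ∀ t : H, orderOf t = 2 → Cfsg.HasNormalPComplement 2 ↥(Subgroup.centralizer ({t} : Set H)))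
    (X : Subgroup H) (hXodd : Odd (Nat.card X)) (hXidx : ∃ k : ℕ, X.index = 2 ^ k) :
    (∀ x ∈ X, x ≠ 1 → ∀ y ∈ Cfsg.pCore 2 H, y ≠ 1 → x * y ≠ y * x) ∧
      (∀ (p : ℕ) [Fact p.Prime] (P : Sylow p ↥X), IsCyclic ↥(P : Subgroup ↥X)) ∧
      (X ⊔ Cfsg.pCore 2 H).Normal ∧
      ∀ hN : (X ⊔ Cfsg.pCore 2 H).Normal, IsCyclic (H ⧸ (X ⊔ Cfsg.pCore 2 H)) ∧ IsPGroup 2 (H ⧸ (X ⊔ Cfsg.pCore 2 H)) := by
  haveI : Fact (Nat.Prime 2) := ⟨Nat.prime_two⟩
  haveI := hsol
  haveI hYn : (pCore 2 H).Normal := Cfsg.Agent.Lib.Helper2.pCore_normal 2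
  have hYp : IsPGroup 2 (pCore 2 H) := Cfsg.Agent.Lib.Helper2.pCore_isPGroup 2
  have hCY : Subgroup.centralizer (pCore 2 H : Set H) ≤ pCore 2 H :=
    Cfsg.Agent.Lib.Helper20.solvable_centralizer_pCore_le 2 hO
  have hXo : ∀ x ∈ X, Odd (orderOf x) := fun x hx => by
    have h1 : orderOf (⟨x, hx⟩ : X) ∣ Nat.card X := orderOf_dvd_natCard _
    rw [Subgroup.orderOf_mk] at h1
    exact Odd.of_dvd_nat hXodd h1
  have part1 : ∀ x ∈ X, x ≠ 1 → ∀ y ∈ pCore 2 H, y ≠ 1 → x * y ≠ y * x :=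
    fun x hx hx1 y hy hy1 =>
      keyTwo hCY hI x y hx1 (hXo x hx) hy1 (Cfsg.Agent.S1476.elt_pow_of_isPGroup _ hYp y hy)
  have hfpfX : ∀ a ∈ X, a ≠ 1 → pCore 2 H ⊓ Subgroup.centralizer {a} = ⊥ := by
    intro a ha ha1
    rw [eq_bot_iff]
    rintro y ⟨hyY, hyc⟩
    rw [Subgroup.mem_bot]
    by_contra hy1
    exact part1 a ha ha1 y hyY hy1 (Subgroup.mem_centralizer_singleton_iff.mp hyc).symm
  by_cases hY1 : pCore 2 H = ⊥
  · have htriv : ∀ g : H, g = 1 := by
      intro g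
      have h1 : g ∈ Subgroup.centralizer (pCore 2 H : Set H) := by
        rw [Subgroup.mem_centralizer_iff]
        intro h hh
        rw [hY1] at hh
        rw [Subgroup.mem_bot.mp hh]; simp
      have h2 := hCY h1
      rw [hY1] at h2
      exact Subgroup.mem_bot.mp h2
    haveI : Subsingleton H := ⟨fun a b => (htriv a).trans (htriv b).symm⟩
    refine ⟨part1, ?_, ?_, ?_⟩
    · intro p _ P; infer_instance
    · exact ⟨fun n hn g => by rw [Subsingleton.elim (g * n * g⁻¹) n]; exact hn⟩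
    · intro hN
      haveI : Subsingleton (H ⧸ (X ⊔ pCore 2 H)) := ⟨fun a b => by
        obtain ⟨a', rfl⟩ := QuotientGroup.mk_surjective a
        obtain ⟨b', rfl⟩ := QuotientGroup.mk_surjective b
        rw [Subsingleton.elim a' b']⟩
      refine ⟨inferInstance, ?_⟩
      intro g; exact ⟨0, Subsingleton.elim _ _⟩
  have hYnorm : ∀ S : Subgroup H, S ≤ Subgroup.normalizer (pCore 2 H : Set H) := fun S => by
    rw [Subgroup.normalizer_eq_top]; exact le_top
  have part2 : ∀ (p : ℕ) [Fact p.Prime] (P : Sylow p ↥X), IsCyclic ↥(P : Subgroup ↥X) := by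
    intro p _ P
    rcases sylow_of_fpf X (pCore 2 H) hY1 (hYnorm X) hfpfX p P with h | ⟨-, n, ⟨e⟩⟩
    · exact h
    · exfalso
      have h2 : 2 ∣ Nat.card (P : Subgroup X) := by
        rw [Cfsg.Agent.S1476.quaternion_card_even e]
        exact Dvd.intro _ (by ring : 2 * (2 * 2 ^ n) = 4 * 2 ^ n)
      have h3 : 2 ∣ Nat.card X := h2.trans (Subgroup.card_subgroup_dvd_card _)
      exact (Nat.not_even_iff_odd.mpr hXodd) (even_iff_two_dvd.mpr h3)
  -- the quotient by Y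
  obtain ⟨π, hπ⟩ : ∃ π : H →* H ⧸ pCore 2 H, π = QuotientGroup.mk' (pCore 2 H) := ⟨_, rfl⟩
  have hπs : Function.Surjective π := hπ ▸ QuotientGroup.mk'_surjective _
  have hπker : ∀ g : H, π g = 1 ↔ g ∈ pCore 2 H := fun g => by
    rw [hπ]; exact QuotientGroup.eq_one_iff g
  have hOp : pCore 2 (H ⧸ pCore 2 H) = ⊥ := Cfsg.Agent.S1476.pCore_quotient_eq_bot 2
  obtain ⟨Fb, hFb⟩ : ∃ Fb : Subgroup (H ⧸ pCore 2 H), Fb = fittingSubgroup (H ⧸ pCore 2 H) :=
    ⟨_, rfl⟩
  haveI hFbn : Fb.Normal := hFb ▸ Cfsg.Agent.Lib.Helper2.fittingSubgroup_normal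
  have hFbnil : Group.IsNilpotent Fb := hFb ▸ Cfsg.Agent.Lib.Helper2.fittingSubgroup_isNilpotent
  have hCFb : Subgroup.centralizer (Fb : Set (H ⧸ pCore 2 H)) ≤ Fb := by
    rw [hFb]
    haveI : (fittingSubgroup (H ⧸ pCore 2 H)).Normal :=
      Cfsg.Agent.Lib.Helper2.fittingSubgroup_normal
    exact Cfsg.Agent.Lib.Helper20.subnormal_solvable_le_fitting_of_le_centralizer _
      (Subgroup.Normal.isSubnormal inferInstance) inferInstance le_rfl
  have hFbodd : Odd (Nat.card Fb) :=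
    Nat.coprime_two_left.mp (Cfsg.Agent.S1476.coprime_card_of_pCore_eq_bot 2 hOp Fb hFbnil).symm
  have hXbodd : Odd (Nat.card (X.map π)) :=
    Odd.of_dvd_nat hXodd
      (Subgroup.card_dvd_of_surjective (π.subgroupMap X) (π.subgroupMap_surjective X))
  have hFX : Fb ≤ X.map π := by
    have h1 : Nat.card (X.map π ⊔ Fb : Subgroup _) ∣ Nat.card (X.map π) * Nat.card Fb :=
      Cfsg.Agent.Lib.Helper2.card_sup_dvd_of_normal (X.map π) Fb
    have hsupodd : Odd (Nat.card (X.map π ⊔ Fb : Subgroup _)) :=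
      Odd.of_dvd_nat (hXbodd.mul hFbodd) h1
    have h2 : (X.map π).relIndex (X.map π ⊔ Fb) ∣ Nat.card (X.map π ⊔ Fb : Subgroup _) :=
      Subgroup.relIndex_dvd_card _ _
    have h3 : (X.map π).relIndex (X.map π ⊔ Fb) ∣ (X.map π).index :=
      Dvd.intro _ (Subgroup.relIndex_mul_index (le_sup_left : X.map π ≤ X.map π ⊔ Fb))
    obtain ⟨k, hk⟩ := hXidx
    have h4 : (X.map π).index ∣ 2 ^ k := hk ▸ Subgroup.index_map_dvd X hπs
    have h5 : (X.map π).relIndex (X.map π ⊔ Fb) = 1 := by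
      have hodd5 := Odd.of_dvd_nat hsupodd h2
      have hc : Nat.Coprime ((X.map π).relIndex (X.map π ⊔ Fb)) (2 ^ k) :=
        Nat.Coprime.pow_right k (Nat.coprime_two_left.mpr hodd5).symm
      exact Nat.Coprime.eq_one_of_dvd hc (h3.trans h4)
    exact le_sup_right.trans (Subgroup.relIndex_eq_one.mp h5)
  -- F̄ is cyclic
  obtain ⟨E, hE⟩ : ∃ E : Subgroup H, E = X ⊓ Fb.comap π := ⟨_, rfl⟩
  have hEX : E ≤ X := hE ▸ inf_le_left
  have hEmap : E.map π = Fb := by
    apply le_antisymm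
    · rintro _ ⟨e, he, rfl⟩
      rw [hE] at he
      exact he.2
    · intro fb hfb
      obtain ⟨x, hx, rfl⟩ := hFX hfb
      exact ⟨x, hE ▸ ⟨hx, hfb⟩, rfl⟩
  have hEinj : Function.Injective (π.subgroupMap E) := by
    rw [injective_iff_map_eq_one]
    intro e he
    have h1 : π (e : H) = 1 := congrArg Subtype.val he
    have h2 : (e : H) ∈ pCore 2 H := (hπker _).mp h1
    have h3 : (e : H) = 1 := eq_one_of_odd_of_two_pow _ (hXo _ (hEX e.2))
      (Cfsg.Agent.S1476.elt_pow_of_isPGroup _ hYp _ h2)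
    exact Subtype.ext h3
  have hEnil : Group.IsNilpotent E := by
    have : Group.IsNilpotent (E.map π) := hEmap.symm ▸ hFbnil
    exact Cfsg.Agent.S1473.inj_nilpotent (π.subgroupMap E) hEinj this
  have hEodd : Odd (Nat.card E) := Odd.of_dvd_nat hXodd (Subgroup.card_dvd_of_le hEX)
  have hEc : IsCyclic E := cyclic_of_fpf_nilpotent_odd E (pCore 2 H) hY1 (hYnorm E)
    (fun a ha => hfpfX a (hEX ha)) hEnil hEodd
  have hFbc : IsCyclic Fb := by
    haveI := hEc
    have : IsCyclic (E.map π) :=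
      isCyclic_of_surjective (π.subgroupMap E) (π.subgroupMap_surjective E)
    exact hEmap ▸ this
  -- commutators lie in F̄
  have hcommF : ∀ a b : H ⧸ pCore 2 H, a⁻¹ * b⁻¹ * a * b ∈ Fb := by
    intro a b
    apply hCFb
    obtain ⟨⟨z, hzF⟩, hz⟩ := hFbc.exists_generator
    have hconj : ∀ g : H ⧸ pCore 2 H, ∃ i : ℤ, g * z * g⁻¹ = z ^ i := by
      intro g
      have h1 : g * z * g⁻¹ ∈ Fb := hFbn.conj_mem z hzF g
      have h2 := hz ⟨_, h1⟩
      rw [Subgroup.mem_zpowers_iff] at h2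
      obtain ⟨i, hi⟩ := h2
      refine ⟨i, ?_⟩
      have := congrArg Subtype.val hi
      simpa using this.symm
    obtain ⟨i, hi⟩ := hconj a
    obtain ⟨j, hj⟩ := hconj b
    have h1 : (a * b) * z * (a * b)⁻¹ = z ^ (j * i) := by
      calc (a * b) * z * (a * b)⁻¹ = a * (b * z * b⁻¹) * a⁻¹ := by group
        _ = a * z ^ j * a⁻¹ := by rw [hj]
        _ = (a * z * a⁻¹) ^ j := by rw [conj_zpow]
        _ = z ^ (j * i) := by rw [hi, ← zpow_mul, mul_comm]
    have h2 : (b * a) * z * (b * a)⁻¹ = z ^ (j * i) := by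
      calc (b * a) * z * (b * a)⁻¹ = b * (a * z * a⁻¹) * b⁻¹ := by group
        _ = b * z ^ i * b⁻¹ := by rw [hi]
        _ = (b * z * b⁻¹) ^ i := by rw [conj_zpow]
        _ = z ^ (j * i) := by rw [hj, ← zpow_mul]
    have h3 : (a⁻¹ * b⁻¹ * a * b) * z = z * (a⁻¹ * b⁻¹ * a * b) := by
      have e1 : a * b * z = z ^ (j * i) * (a * b) := by rw [← h1]; group
      have e2 : b * a * z = z ^ (j * i) * (b * a) := by rw [← h2]; group
      calc a⁻¹ * b⁻¹ * a * b * z = (b * a)⁻¹ * (a * b * z) := by group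
        _ = (b * a)⁻¹ * (z ^ (j * i) * (a * b)) := by rw [e1]
        _ = (b * a)⁻¹ * (z ^ (j * i) * (b * a)) * ((b * a)⁻¹ * (a * b)) := by group
        _ = (b * a)⁻¹ * (b * a * z) * ((b * a)⁻¹ * (a * b)) := by rw [e2]
        _ = z * (a⁻¹ * b⁻¹ * a * b) := by group
    rw [Subgroup.mem_centralizer_iff]
    intro y hy
    have h4 := hz ⟨y, hy⟩
    rw [Subgroup.mem_zpowers_iff] at h4
    obtain ⟨k, hk⟩ := h4
    have hk' : z ^ k = y := by simpa using congrArg Subtype.val hk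
    rw [← hk']
    have hc : Commute (a⁻¹ * b⁻¹ * a * b) z := h3
    exact ((hc.zpow_right k).eq).symm
  have hXbn : (X.map π).Normal := by
    refine ⟨fun n hn g => ?_⟩
    have h1 : g * n * g⁻¹ * n⁻¹ ∈ Fb := by
      have := hcommF g⁻¹ n⁻¹
      simpa using this
    have h2 := (X.map π).mul_mem (hFX h1) hn
    simpa using h2
  have hsup : X ⊔ pCore 2 H = (X.map π).comap π := by
    rw [Subgroup.comap_map_eq, hπ, QuotientGroup.ker_mk']
  have part3 : (X ⊔ pCore 2 H).Normal := hsup ▸ hXbn.comap π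
  refine ⟨part1, part2, part3, ?_⟩
  intro hN
  have hidx : ∃ j : ℕ, (X ⊔ pCore 2 H).index = 2 ^ j := by
    obtain ⟨k, hk⟩ := hXidx
    have := Subgroup.index_dvd_of_le (le_sup_left : X ≤ X ⊔ pCore 2 H)
    rw [hk] at this
    obtain ⟨j, -, hj⟩ := (Nat.dvd_prime_pow Nat.prime_two).mp this
    exact ⟨j, hj⟩
  have hQp : IsPGroup 2 (H ⧸ (X ⊔ pCore 2 H)) := by
    obtain ⟨j, hj⟩ := hidx
    exact IsPGroup.of_card (n := j) (by rw [← Subgroup.index_eq_card, hj])
  refine ⟨?_, hQp⟩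
  by_cases hFb1 : Fb = ⊥
  · -- then H = Y
    have hall : ∀ g : H, g ∈ pCore 2 H := by
      intro g
      rw [← hπker]
      have h1 : π g ∈ Subgroup.centralizer (Fb : Set (H ⧸ pCore 2 H)) := by
        rw [Subgroup.mem_centralizer_iff]
        intro h hh
        rw [hFb1] at hh
        rw [Subgroup.mem_bot.mp hh]; simp
      have h2 := hCFb h1
      rw [hFb1] at h2
      exact Subgroup.mem_bot.mp h2
    haveI : Subsingleton (H ⧸ (X ⊔ pCore 2 H)) := ⟨fun a b => by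
      obtain ⟨a', rfl⟩ := QuotientGroup.mk_surjective a
      obtain ⟨b', rfl⟩ := QuotientGroup.mk_surjective b
      rw [QuotientGroup.eq]
      exact (le_sup_right : pCore 2 H ≤ X ⊔ pCore 2 H) (hall _)⟩
    infer_instance
  obtain ⟨T⟩ : Nonempty (Sylow 2 H) := inferInstance
  have hYT : pCore 2 H ≤ T := Cfsg.Agent.Lib.Helper2.pCore_le_sylow 2 T
  have hTbp : IsPGroup 2 ((T : Subgroup H).map π) := T.isPGroup'.map π
  have hTbab : IsMulCommutative ((T : Subgroup H).map π) := by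
    refine ⟨⟨fun a b => ?_⟩⟩
    obtain ⟨a, ha⟩ := a
    obtain ⟨b, hb⟩ := b
    have h1 := hcommF a b
    have h2 : a⁻¹ * b⁻¹ * a * b ∈ (T : Subgroup H).map π :=
      Subgroup.mul_mem _ (Subgroup.mul_mem _ (Subgroup.mul_mem _ (Subgroup.inv_mem _ ha)
        (Subgroup.inv_mem _ hb)) ha) hb
    have h3 : a⁻¹ * b⁻¹ * a * b = 1 := by
      apply eq_one_of_odd_of_two_pow
      · have : orderOf (⟨_, h1⟩ : Fb) ∣ Nat.card Fb := orderOf_dvd_natCard _
        rw [Subgroup.orderOf_mk] at this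
        exact Odd.of_dvd_nat hFbodd this
      · exact Cfsg.Agent.S1476.elt_pow_of_isPGroup _ hTbp _ h2
    apply Subtype.ext
    show a * b = b * a
    calc a * b = b * a * (a⁻¹ * b⁻¹ * a * b) := by group
      _ = b * a := by rw [h3, mul_one]
  have hfpfT : ∀ a ∈ (T : Subgroup H).map π, a ≠ 1 → Fb ⊓ Subgroup.centralizer {a} = ⊥ := by
    rintro _ ⟨v, hvT, rfl⟩ hv1
    rw [eq_bot_iff]
    rintro fb ⟨hfbF, hfbc⟩
    rw [Subgroup.mem_bot]
    by_contra hfb1
    obtain ⟨f, hfX, rfl⟩ := hFX hfbF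
    have hcomm : π f * π v = π v * π f := Subgroup.mem_centralizer_singleton_iff.mp hfbc
    have hf1 : f ≠ 1 := by rintro rfl; exact hfb1 (map_one π)
    obtain ⟨K, hK⟩ : ∃ K : Subgroup H, K = (Subgroup.zpowers (π v)).comap π := ⟨_, rfl⟩
    have hKmem : ∀ g, g ∈ K ↔ π g ∈ Subgroup.zpowers (π v) := fun g => by
      rw [hK, Subgroup.mem_comap]
    have hKT : K ≤ T := by
      intro g hg
      rw [hKmem, Subgroup.mem_zpowers_iff] at hg
      obtain ⟨i, hi⟩ := hg
      have h1 : π ((v ^ i)⁻¹ * g) = 1 := by rw [map_mul, map_inv, map_zpow, hi]; group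
      have h2 := hYT ((hπker _).mp h1)
      have h3 := (T : Subgroup H).mul_mem ((T : Subgroup H).zpow_mem hvT i) h2
      simpa using h3
    have hKp : IsPGroup 2 K := T.isPGroup'.to_le hKT
    have hYK : pCore 2 H ≤ K := fun y hy => by
      rw [hKmem, (hπker y).mpr hy]; exact Subgroup.one_mem _
    have hvK : v ∈ K := by rw [hKmem]; exact Subgroup.mem_zpowers _
    have hcz : ∀ (i j : ℤ), Commute (π f ^ i) (π v ^ j) := fun i j => by
      have hc : Commute (π f) (π v) := hcomm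
      exact (hc.zpow_left i).zpow_right j
    have hfK : ∀ a ∈ Subgroup.zpowers f, ∀ x ∈ K, a * x * a⁻¹ ∈ K := by
      intro a ha x hx
      rw [hKmem] at hx ⊢
      obtain ⟨i, rfl⟩ := Subgroup.mem_zpowers_iff.mp ha
      obtain ⟨j, hj⟩ := Subgroup.mem_zpowers_iff.mp hx
      rw [map_mul, map_mul, map_inv, map_zpow, ← hj, (hcz i j).mul_inv_cancel]
      exact Subgroup.zpow_mem _ (Subgroup.mem_zpowers _) j
    have hAK : Subgroup.zpowers f ≤ Subgroup.normalizer (K : Set H) := fun a ha =>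
      Cfsg.Agent.Lib.Helper24.mem_normalizer_of_conj_mem K (hfK a ha)
    have hcop : (Nat.card (Subgroup.zpowers f)).Coprime (Nat.card K) := by
      obtain ⟨m, hm⟩ := IsPGroup.iff_card.mp hKp
      rw [hm, Nat.card_zpowers]
      exact Nat.Coprime.pow_right m (Nat.coprime_two_left.mpr (hXo f hfX)).symm
    have hfix : ∀ a ∈ Subgroup.zpowers f, a * v * a⁻¹ * v⁻¹ ∈ pCore 2 H := by
      intro a ha
      obtain ⟨i, rfl⟩ := Subgroup.mem_zpowers_iff.mp ha
      rw [← hπker, map_mul, map_mul, map_mul, map_inv, map_inv, map_zpow]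
      have := (hcz i 1).mul_inv_cancel
      rw [zpow_one] at this
      rw [this, mul_inv_cancel]
    obtain ⟨c, ⟨hcK, hcc⟩, hvc⟩ := Cfsg.Agent.Lib.Helper13.coprime_fixed_point_in_coset
      (Subgroup.zpowers f) K hAK hcop (Or.inr inferInstance) (pCore 2 H) hYK (hYnorm K)
      (hYnorm _) v hvK hfix
    have hc1 : c ≠ 1 := by
      rintro rfl
      rw [mul_one] at hvc
      have := (pCore 2 H).inv_mem hvc
      rw [inv_inv] at this
      exact hv1 ((hπker v).mpr this)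
    have hfc : f * c = c * f := by
      have hcc' : c ∈ Subgroup.centralizer ((Subgroup.zpowers f : Subgroup H) : Set H) := hcc
      rw [Subgroup.mem_centralizer_iff] at hcc'
      exact hcc' f (Subgroup.mem_zpowers f)
    exact keyTwo hCY hI f c hf1 (hXo f hfX) hc1
      (Cfsg.Agent.S1476.elt_pow_of_isPGroup _ hKp c hcK) hfc
  have hTbc : IsCyclic ((T : Subgroup H).map π) :=
    Cfsg.Agent.Lib.Helper13.fpf_cyclic ((T : Subgroup H).map π) Fb hFb1
      (by rw [Subgroup.normalizer_eq_top]; exact le_top) hfpfT (Or.inl hTbab)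
  obtain ⟨⟨gb, hgbT⟩, hgen⟩ := hTbc.exists_generator
  obtain ⟨t, htT, rfl⟩ := hgbT
  obtain ⟨q, hq⟩ : ∃ q : H →* H ⧸ (X ⊔ pCore 2 H), q = QuotientGroup.mk' _ := ⟨_, rfl⟩
  have hqs : Function.Surjective q := hq ▸ QuotientGroup.mk'_surjective _
  have hTq : (T : Subgroup H).map q = ⊤ := by
    rw [← Subgroup.index_eq_one]
    have h1 : ((T : Subgroup H).map q).index ∣ (T : Subgroup H).index :=
      Subgroup.index_map_dvd _ hqs
    have h2 : ((T : Subgroup H).map q).index ∣ Nat.card (H ⧸ (X ⊔ pCore 2 H)) :=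
      Subgroup.index_dvd_card _
    obtain ⟨j, hj⟩ := hidx
    rw [← Subgroup.index_eq_card, hj] at h2
    have hodd : Odd ((T : Subgroup H).index) :=
      Nat.not_even_iff_odd.mp (fun h => T.not_dvd_index (even_iff_two_dvd.mp h))
    have hc : Nat.Coprime (((T : Subgroup H).map q).index) (2 ^ j) :=
      Nat.Coprime.pow_right j (Nat.coprime_two_left.mpr (Odd.of_dvd_nat hodd h1)).symm
    exact Nat.Coprime.eq_one_of_dvd hc h2
  refine ⟨⟨q t, fun z => ?_⟩⟩
  have hz : z ∈ (T : Subgroup H).map q := hTq ▸ Subgroup.mem_top z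
  obtain ⟨t', ht'T, rfl⟩ := hz
  have h1 := hgen ⟨π t', Subgroup.mem_map_of_mem π ht'T⟩
  rw [Subgroup.mem_zpowers_iff] at h1
  obtain ⟨i, hi⟩ := h1
  have hi' : π t ^ i = π t' := by simpa using congrArg Subtype.val hi
  refine ⟨i, ?_⟩
  show q t ^ i = q t'
  have h2 : π ((t ^ i)⁻¹ * t') = 1 := by rw [map_mul, map_inv, map_zpow, hi']; group
  have h3 : (t ^ i)⁻¹ * t' ∈ X ⊔ pCore 2 H :=
    (le_sup_right : pCore 2 H ≤ X ⊔ pCore 2 H) ((hπker _).mp h2)
  have h4 : q ((t ^ i)⁻¹ * t') = 1 := by rw [hq]; exact (QuotientGroup.eq_one_iff _).mpr h3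
  rw [map_mul, map_inv, map_zpow] at h4
  exact inv_mul_eq_one.mp h4

end Cfsg.Agent.S3215
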