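import Cfsg.Statements.S4189
import Cfsg.Agent.Lib.Lead.Taussky
import Cfsg.Agent.Lib.Lead.QuatIso
import Cfsg.Agent.S3116

set_option autoImplicit false
set_option linter.style.haveILetI false
open Cfsg

namespace Cfsg.Agent.S4189

open Subgroup
open scoped commutatorElement

variable {P : Type*} [Group P]

/-- square of an element `a^i * b` outside the cyclic subgroup -/
theorem sq_formula (a b : P) (i : ℤ) :
    (a ^ i * b) ^ 2 = a ^ i * (b * a * b⁻¹) ^ i * b ^ 2 := by
  rw [conj_zpow, pow_two, pow_two]; group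

theorem outside_form [Finite P] {a b : P} (hidx : (zpowers a).index = 2) (hb : b ∉ zpowers a)
    (g : P) (hg : g ∉ zpowers a) : ∃ i : ℤ, g = a ^ i * b := by
  have h3 : g * b⁻¹ ∈ zpowers a := by
    rw [Subgroup.mul_mem_iff_of_index_two hidx]
    constructor
    · intro h4; exact absurd h4 hg
    · intro h4; exact absurd ((Subgroup.inv_mem_iff _).mp h4) hb
  obtain ⟨i, hi⟩ := Subgroup.mem_zpowers_iff.mp h3
  exact ⟨i, by rw [hi, inv_mul_cancel_right]⟩

theorem orderOf_lt_of_pow_eq_one {g : P} {k m : ℕ} (hg : g ^ k = 1) (hk : 0 < k) (hkm : k < m) :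
    orderOf g < m :=
  lt_of_le_of_lt (Nat.le_of_dvd hk (orderOf_dvd_of_pow_eq_one hg)) hkm

/-- Let P be a finite non-abelian 2-group whose commutator subgroup has index 4 and whose automorphism group is not a 2-group (some automorphism has order that is not a power of 2). Then P is isomorphic to the quaternion group of order 8. -/
theorem result {P : Type*} [Group P] [Finite P] (hP : IsPGroup 2 P) (hna : ¬ IsMulCommutative P) (h4 : (commutator P).index = 4) (haut : ¬ IsPGroup 2 (MulAut P)) : Nonempty (P ≃* QuaternionGroup 2) := by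
  haveI : Fact (Nat.Prime 2) := ⟨Nat.prime_two⟩
  obtain ⟨n, hn⟩ := (IsPGroup.iff_card).mp hP
  -- n ≥ 3
  have hc1 : Nat.card (commutator P) ≠ 1 := by
    intro h1
    apply hna
    have hbot : commutator P = ⊥ := Subgroup.card_eq_one.mp h1
    constructor
    constructor
    intro x y
    have : ⁅x, y⁆ ∈ commutator P := by
      rw [_root_.commutator_def]
      exact Subgroup.commutator_mem_commutator (Subgroup.mem_top _) (Subgroup.mem_top _)
    rw [hbot, Subgroup.mem_bot, commutatorElement_eq_one_iff_commute] at this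
    exact this.eq
  have hmul := Subgroup.card_mul_index (commutator P)
  rw [h4, hn] at hmul
  have hn3 : 3 ≤ n := by
    by_contra hlt
    have hpos : 0 < Nat.card (commutator P) := Nat.card_pos
    have : n = 0 ∨ n = 1 ∨ n = 2 := by omega
    rcases this with rfl | rfl | rfl <;> omega
  obtain ⟨a, b, hoa, hb, hidx, hcases⟩ :=
    Cfsg.Agent.Lib.Lead.Taussky.structure_of_index_four n hn3 hn h4
  have e1 : (2 : ℕ) ^ (n - 1) = 2 * 2 ^ (n - 2) := by
    obtain ⟨m, rfl⟩ : ∃ m, n = m + 2 := ⟨n - 2, by omega⟩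
    simp [pow_succ]; ring
  have hpos1 : 0 < n - 1 := by omega
  have hapow : a ^ (2 * 2 ^ (n - 2)) = 1 := by rw [← e1, ← hoa]; exact pow_orderOf_eq_one a
  -- generic: if all outside elements have small order then contradiction
  have hcontra : (∀ g : P, g ∉ zpowers a → orderOf g < 2 ^ (n - 1)) → False := fun hout =>
    haut (Cfsg.Agent.S3116.aut_isPGroup_of_cyclic_index_two a (n - 1) hpos1 hoa hidx hout)
  rcases hcases with ⟨hb2, hconj⟩ | ⟨hb2, hconj⟩ | ⟨hn4, hb2, hconj⟩
  · -- dihedral
    exfalso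
    apply hcontra
    intro g hg
    obtain ⟨i, rfl⟩ := outside_form hidx hb g hg
    have h2 : (a ^ i * b) ^ 2 = 1 := by
      rw [sq_formula, hconj, hb2, mul_one, inv_zpow, mul_inv_cancel]
    apply orderOf_lt_of_pow_eq_one h2 (by norm_num)
    rw [e1]
    have : 1 ≤ 2 ^ (n - 2) := Nat.one_le_two_pow
    have : 2 ≤ 2 ^ (n - 2) := by
      calc 2 = 2 ^ 1 := by norm_num
        _ ≤ 2 ^ (n - 2) := Nat.pow_le_pow_right (by norm_num) (by omega)
    omega
  · -- quaternion
    by_cases hn4 : 4 ≤ n
    · exfalso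
      apply hcontra
      intro g hg
      obtain ⟨i, rfl⟩ := outside_form hidx hb g hg
      have h2 : (a ^ i * b) ^ 2 = a ^ (2 ^ (n - 2)) := by
        rw [sq_formula, hconj, hb2, inv_zpow, mul_inv_cancel, one_mul]
      have h4' : (a ^ i * b) ^ 4 = 1 := by
        rw [show (4 : ℕ) = 2 * 2 from rfl, pow_mul, h2, ← pow_mul, mul_comm, hapow]
      apply orderOf_lt_of_pow_eq_one h4' (by norm_num)
      rw [e1]
      have : 2 ^ 2 ≤ 2 ^ (n - 2) := Nat.pow_le_pow_right (by norm_num) (by omega)
      omega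
    · have hn3' : n = 3 := by omega
      subst hn3'
      have hoa' : orderOf a = 2 * 2 := by rw [hoa]; norm_num
      exact Cfsg.Agent.Lib.Lead.QuatIso.nonempty_mulEquiv_quaternionGroup hoa' (by simpa using hb2)
        hconj hb (by rw [hn]; norm_num)
  · -- semidihedral
    exfalso
    apply hcontra
    intro g hg
    obtain ⟨i, rfl⟩ := outside_form hidx hb g hg
    have hk1 : 1 ≤ 2 ^ (n - 2) := Nat.one_le_two_pow
    have h2 : (a ^ i * b) ^ 2 = (a ^ (2 ^ (n - 2))) ^ i := by
      rw [sq_formula, hconj, hb2, mul_one]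
      have hc : Commute a (a ^ (2 ^ (n - 2) - 1)) := (Commute.refl a).pow_right _
      rw [← hc.mul_zpow, ← pow_succ', Nat.sub_add_cancel hk1]
    have h4' : (a ^ i * b) ^ 4 = 1 := by
      rw [show (4 : ℕ) = 2 * 2 from rfl, pow_mul, h2, ← zpow_natCast, ← zpow_mul, mul_comm,
        zpow_mul, zpow_natCast, ← pow_mul, mul_comm, hapow, one_zpow]
    apply orderOf_lt_of_pow_eq_one h4' (by norm_num)
    rw [e1]
    have : 2 ^ 2 ≤ 2 ^ (n - 2) := Nat.pow_le_pow_right (by norm_num) (by omega)
    omega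

end Cfsg.Agent.S4189
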