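import Cfsg.Statements.S3224
import Cfsg.Agent.Lib.Lead.Taussky
import Cfsg.Agent.Lib.Lead.MaxClass
import Cfsg.Agent.Lib.Helper24.DihIso
import Cfsg.Agent.S4189

set_option autoImplicit false
set_option linter.style.haveILetI false
open Cfsg

namespace Cfsg.Agent.S3224

open Subgroup
open scoped commutatorElement

variable {S : Type*} [Group S]

/-- Suzuki's lemma, counting form: `|S : S'| ≤ |C_S(t)|`. -/
theorem index_commutator_le [Finite S] (t : S) :
    (_root_.commutator S).index ≤ Nat.card (centralizer ({t} : Set S)) := by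
  set C := centralizer ({t} : Set S) with hC
  have hmem : ∀ g : S, g * t * g⁻¹ * t⁻¹ ∈ _root_.commutator S := by
    intro g
    rw [_root_.commutator_def]
    have : g * t * g⁻¹ * t⁻¹ = ⁅g, t⁆ := rfl
    rw [this]
    exact Subgroup.commutator_mem_commutator (mem_top _) (mem_top _)
  let F : S ⧸ C → _root_.commutator S := fun q => ⟨q.out * t * q.out⁻¹ * t⁻¹, hmem _⟩
  have hF : Function.Injective F := by
    intro q q' h
    have h1 : q.out * t * q.out⁻¹ * t⁻¹ = q'.out * t * q'.out⁻¹ * t⁻¹ := congrArg Subtype.val h
    have h2 : q.out * t * q.out⁻¹ = q'.out * t * q'.out⁻¹ := mul_right_cancel h1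
    have h3 : q.out⁻¹ * q'.out ∈ C := by
      apply mem_centralizer_singleton_iff.mpr
      have : q'.out * t = q.out * t * q.out⁻¹ * q'.out := by rw [h2]; group
      rw [mul_assoc, this]; group
    have h4 : (QuotientGroup.mk q.out : S ⧸ C) = QuotientGroup.mk q'.out := QuotientGroup.eq.mpr h3
    rwa [QuotientGroup.out_eq', QuotientGroup.out_eq'] at h4
  have h5 : C.index ≤ Nat.card (_root_.commutator S) := by
    rw [Subgroup.index_eq_card]
    exact Nat.card_le_card_of_injective F hF
  have h6 := C.card_mul_index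
  have h7 := (_root_.commutator S).card_mul_index
  have hpos : 0 < Nat.card (_root_.commutator S) := Nat.card_pos
  have : Nat.card (_root_.commutator S) * (_root_.commutator S).index ≤
      Nat.card (_root_.commutator S) * Nat.card C := by
    rw [h7, ← h6, mul_comm]
    exact Nat.mul_le_mul_right _ h5
  exact Nat.le_of_mul_le_mul_left this hpos

theorem index_eq_four [Finite S] (hS : IsPGroup 2 S) (hnc : ¬ ∀ a b : S, a * b = b * a)
    (x : S) (hC : Nat.card ↥(centralizer ({x} : Set S)) = 4) :
    (_root_.commutator S).index = 4 := by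
  haveI : Fact (Nat.Prime 2) := ⟨Nat.prime_two⟩
  obtain ⟨n, hn⟩ := IsPGroup.iff_card.mp hS
  have hle := index_commutator_le x
  rw [hC] at hle
  have hdvd : (_root_.commutator S).index ∣ 2 ^ n := hn ▸ Subgroup.index_dvd_card _
  obtain ⟨k, hk, hk'⟩ := (Nat.dvd_prime_pow Nat.prime_two).mp hdvd
  have hk2 : k ≤ 2 := by
    by_contra h
    have : 2 ^ 3 ≤ 2 ^ k := Nat.pow_le_pow_right (by norm_num) (by omega)
    omega
  have hcard : Nat.card (Abelianization S) = (_root_.commutator S).index :=
    (Subgroup.index_eq_card _).symm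
  interval_cases k
  · exfalso
    apply hnc
    apply Cfsg.Agent.Lib.Lead.MaxClass.comm_of_cyclic_abelianization n S hn
    rw [hk', pow_zero] at hcard
    haveI : Subsingleton (Abelianization S) := (Nat.card_eq_one_iff_unique.mp hcard).1
    exact isCyclic_of_subsingleton
  · exfalso
    apply hnc
    apply Cfsg.Agent.Lib.Lead.MaxClass.comm_of_cyclic_abelianization n S hn
    rw [hk', pow_one] at hcard
    exact isCyclic_of_prime_card hcard
  · simpa using hk'

/-- A finite 2-group containing an involution whose centralizer has order 4 is dihedral, quasi-dihedral (semidihedral), or of order 4. -/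
theorem result {S : Type*} [Group S] [Finite S] (hS : IsPGroup 2 S)
    (x : S) (hx : orderOf x = 2) (hC : Nat.card ↥(Subgroup.centralizer ({x} : Set S)) = 4) :
    (∃ n : ℕ, Nonempty (S ≃* DihedralGroup n)) ∨ Cfsg.IsQuasiDihedral S ∨ Nat.card S = 4 := by
  haveI : Fact (Nat.Prime 2) := ⟨Nat.prime_two⟩
  by_cases hcomm : ∀ a b : S, a * b = b * a
  · right; right
    have : centralizer ({x} : Set S) = ⊤ := by
      rw [eq_top_iff]; intro g _; exact mem_centralizer_singleton_iff.mpr (hcomm _ _)
    rw [this, Subgroup.card_top] at hC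
    exact hC
  have hidx := index_eq_four hS hcomm x hC
  obtain ⟨n, hn⟩ := IsPGroup.iff_card.mp hS
  -- n ≥ 3
  have hc1 : Nat.card (_root_.commutator S) ≠ 1 := by
    intro h1
    apply hcomm
    have hbot : _root_.commutator S = ⊥ := Subgroup.card_eq_one.mp h1
    intro a b
    have : ⁅a, b⁆ ∈ _root_.commutator S := by
      rw [_root_.commutator_def]
      exact Subgroup.commutator_mem_commutator (Subgroup.mem_top _) (Subgroup.mem_top _)
    rw [hbot, Subgroup.mem_bot, commutatorElement_eq_one_iff_commute] at this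
    exact this.eq
  have hmul := Subgroup.card_mul_index (_root_.commutator S)
  rw [hidx, hn] at hmul
  have hn3 : 3 ≤ n := by
    by_contra hlt
    have hpos : 0 < Nat.card (_root_.commutator S) := Nat.card_pos
    have : n = 0 ∨ n = 1 ∨ n = 2 := by omega
    rcases this with rfl | rfl | rfl <;> omega
  obtain ⟨a, b, hoa, hb, hai, hcases⟩ :=
    Cfsg.Agent.Lib.Lead.Taussky.structure_of_index_four n hn3 hn hidx
  have htop := Cfsg.Agent.Lib.Lead.Taussky.closure_pair_eq_top Nat.prime_two hai hb
  have hb1 : b ≠ 1 := by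
    intro h; apply hb; rw [h]; exact Subgroup.one_mem _
  rcases hcases with ⟨hb2, hconj⟩ | ⟨hb2, hconj⟩ | ⟨hn4, hb2, hconj⟩
  · -- dihedral
    left
    have hob : orderOf b = 2 := orderOf_eq_prime hb2 hb1
    have hab2 : (a * b) ^ 2 = 1 := by
      have := Cfsg.Agent.S4189.sq_formula a b 1
      rw [zpow_one, zpow_one, hconj, hb2, mul_one, mul_inv_cancel] at this
      exact this
    have hab1 : a * b ≠ 1 := by
      intro h
      apply hb
      have : b = a⁻¹ := by rw [← mul_eq_one_iff_eq_inv']; exact h
      rw [this]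
      exact Subgroup.inv_mem _ (Subgroup.mem_zpowers a)
    have hoab : orderOf (a * b) = 2 := orderOf_eq_prime hab2 hab1
    obtain ⟨e⟩ := Cfsg.Agent.Lib.Helper24.closure_pair_equiv_dihedral hoab hob
    have hprod : a * b * b = a := by rw [mul_assoc, ← pow_two, hb2, mul_one]
    rw [hprod, hoa] at e
    have htop2 : closure ({a * b, b} : Set S) = ⊤ := by
      rw [eq_top_iff, ← htop, closure_le]
      intro g hg
      rcases hg with h | h
      · rw [h]
        have hmem : a * b * b ∈ closure ({a * b, b} : Set S) :=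
          Subgroup.mul_mem _ (subset_closure (by simp)) (subset_closure (by simp))
        rwa [hprod] at hmem
      · rw [Set.mem_singleton_iff] at h
        rw [h]
        exact subset_closure (by simp)
    exact ⟨2 ^ (n - 1), ⟨(Subgroup.topEquiv.symm.trans (MulEquiv.subgroupCongr htop2.symm)).trans e⟩⟩
  · -- quaternion: impossible
    exfalso
    have e1 : (2 : ℕ) ^ (n - 1) = 2 * 2 ^ (n - 2) := by
      obtain ⟨m, rfl⟩ : ∃ m, n = m + 2 := ⟨n - 2, by omega⟩
      simp [pow_succ]; ring
    have hxa : x ∈ zpowers a := by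
      by_contra hxn
      obtain ⟨i, rfl⟩ := Cfsg.Agent.S4189.outside_form hai hb x hxn
      have h2 : (a ^ i * b) ^ 2 = a ^ (2 ^ (n - 2)) := by
        rw [Cfsg.Agent.S4189.sq_formula, hconj, hb2, inv_zpow, mul_inv_cancel, one_mul]
      have h3 : (a ^ i * b) ^ 2 = 1 := by rw [← hx]; exact pow_orderOf_eq_one _
      rw [h2] at h3
      have h4 := orderOf_dvd_of_pow_eq_one h3
      rw [hoa, e1] at h4
      have h5 := Nat.le_of_dvd (by positivity) h4
      have : 0 < 2 ^ (n - 2) := by positivity
      omega
    obtain ⟨i, hi⟩ := mem_zpowers_iff.mp hxa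
    have hxa' : a * x = x * a := by
      rw [← hi, ← zpow_one_add, ← zpow_add_one, add_comm]
    have hxinv : x⁻¹ = x := by
      have : x * x = 1 := by
        have := pow_orderOf_eq_one x
        rwa [hx, pow_two] at this
      exact inv_eq_of_mul_eq_one_right this
    have hxb : b * x = x * b := by
      have h1 : b * x * b⁻¹ = x := by
        rw [← hi, ← conj_zpow, hconj, inv_zpow, hi, hxinv]
      calc b * x = (b * x * b⁻¹) * b := by group
        _ = x * b := by rw [h1]
    have hle : closure ({a, b} : Set S) ≤ centralizer ({x} : Set S) := by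
      rw [closure_le]
      intro g hg
      rcases hg with h | h
      · rw [h]; exact mem_centralizer_singleton_iff.mpr hxa'
      · rw [Set.mem_singleton_iff] at h
        rw [h]; exact mem_centralizer_singleton_iff.mpr hxb
    rw [htop, top_le_iff] at hle
    rw [hle, Subgroup.card_top, hn] at hC
    have : 2 ^ 3 ≤ 2 ^ n := Nat.pow_le_pow_right (by norm_num) hn3
    omega
  · -- semidihedral
    right; left
    have hob : orderOf b = 2 := orderOf_eq_prime hb2 hb1
    refine ⟨n - 1, by omega, ?_, a, b, hoa, hob, ?_⟩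
    · rw [hn]; congr 1; omega
    · rw [hconj]; congr 2

end Cfsg.Agent.S3224
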