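import Cfsg.Statements.S3225
import Mathlib

set_option autoImplicit false
open Cfsg

namespace Cfsg.Agent.S3225

open MulAction Subgroup

/-- The sign homomorphism `S → ℤˣ` with kernel the index-two subgroup `M`. -/
noncomputable def signHom {G : Type*} [Group G] (S M : Subgroup G) (hM : M.relIndex S = 2) :
    S →* ℤˣ where
  toFun s := by classical exact if (s : G) ∈ M then 1 else -1
  map_one' := by
    classical
    simp [M.one_mem]
  map_mul' := by
    classical
    intro a b
    have h := Subgroup.mul_mem_iff_of_index_two (H := M.subgroupOf S) hM (a := a) (b := b)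
    simp only [Subgroup.mem_subgroupOf, Subgroup.coe_mul] at h
    by_cases ha : (a : G) ∈ M <;> by_cases hb : (b : G) ∈ M <;> simp [ha, hb, h]

theorem signHom_apply_of_mem {G : Type*} [Group G] (S M : Subgroup G) (hM : M.relIndex S = 2)
    (s : S) (hs : (s : G) ∈ M) : signHom S M hM s = 1 := by
  classical
  simp [signHom, hs]

theorem signHom_apply_of_not_mem {G : Type*} [Group G] (S M : Subgroup G) (hM : M.relIndex S = 2)
    (s : S) (hs : (s : G) ∉ M) : signHom S M hM s = -1 := by
  classical
  simp [signHom, hs]

/-- A homomorphism to `ℤˣ` from a group without subgroups of index two is trivial. -/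
theorem hom_intUnits_trivial {G : Type*} [Group G] [Finite G] (hG : ∀ H : Subgroup G, H.index ≠ 2)
    (V : G →* ℤˣ) (g : G) : V g = 1 := by
  by_contra hne
  apply hG V.ker
  rw [Subgroup.index_ker]
  have h1 : Nat.card V.range ∣ Nat.card ℤˣ := Subgroup.card_subgroup_dvd_card _
  have h2 : Nat.card ℤˣ = 2 := by
    rw [Nat.card_eq_fintype_card]; exact Fintype.card_units_int
  rw [h2] at h1
  rcases (Nat.dvd_prime Nat.prime_two).mp h1 with h | h
  · exfalso
    apply hne
    have hb : V.range = ⊥ := Subgroup.card_eq_one.mp h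
    have : V g ∈ V.range := ⟨g, rfl⟩
    rw [hb, Subgroup.mem_bot] at this
    exact this
  · exact h

theorem result {G : Type*} [Group G] [Finite G] (hev : Even (Nat.card G))
    (hG : ∀ H : Subgroup G, H.index ≠ 2) (S : Sylow 2 G) (M : Subgroup G) (hMS : M ≤ (S : Subgroup G)) (hM : M.relIndex (S : Subgroup G) = 2)
    (n : ℕ) (hn : 1 ≤ n) (hord : ∀ y ∈ (S : Subgroup G), y ∉ M → 2 ^ (n - 1) < orderOf y)
    (x : G) (hx : x ∈ (S : Subgroup G)) (hxn : orderOf x = 2 ^ n) :
    ∃ g : G, g * x * g⁻¹ ∈ M := by
  classical
  by_contra hcon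
  rw [not_exists] at hcon
  have : Fact (Nat.Prime 2) := ⟨Nat.prime_two⟩
  set ϕ := signHom (S : Subgroup G) M hM with hϕ
  have hV : MonoidHom.transfer ϕ x = 1 := hom_intUnits_trivial hG _ x
  have : Fintype (Quotient (orbitRel (zpowers x) (G ⧸ (S : Subgroup G)))) := Fintype.ofFinite _
  rw [MonoidHom.transfer_eq_prod_quotient_orbitRel_zpowers_quot] at hV
  set k : Quotient (orbitRel (zpowers x) (G ⧸ (S : Subgroup G))) → ℕ :=
    fun q => Function.minimalPeriod (x • ·) q.out with hk
  have hkdvd : ∀ q, k q ∣ 2 ^ n := by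
    intro q
    rw [hk]
    simp only []
    rw [← MulAction.pow_smul_eq_iff_minimalPeriod_dvd, ← hxn, pow_orderOf_eq_one, one_smul]
  have hkodd : ∀ q, Odd (k q) ↔ k q = 1 := by
    intro q
    obtain ⟨j, hj, hkj⟩ := (Nat.dvd_prime_pow Nat.prime_two).mp (hkdvd q)
    rw [hkj]
    constructor
    · intro hodd
      rcases Nat.eq_zero_or_pos j with h0 | hpos
      · rw [h0, pow_zero]
      · exfalso
        have : Even (2 ^ j) := (Nat.even_pow.mpr ⟨even_two, hpos.ne'⟩)
        exact (Nat.not_odd_iff_even.mpr this) hodd
    · intro h1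
      rw [h1]; exact odd_one
  -- factor analysis
  have hfactor : ∀ q : Quotient (orbitRel (zpowers x) (G ⧸ (S : Subgroup G))),
      ϕ ⟨q.out.out⁻¹ * x ^ Function.minimalPeriod (x • ·) q.out * q.out.out,
        QuotientGroup.out_conj_pow_minimalPeriod_mem (S : Subgroup G) x q.out⟩ =
      if k q = 1 then -1 else 1 := by
    intro q
    have hmemS := QuotientGroup.out_conj_pow_minimalPeriod_mem (S : Subgroup G) x q.out
    by_cases hk1 : k q = 1
    · rw [if_pos hk1]
      apply signHom_apply_of_not_mem
      simp only []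
      have hk1' : Function.minimalPeriod (x • ·) q.out = 1 := hk1
      rw [hk1', pow_one]
      have := hcon (q.out.out⁻¹)
      rwa [inv_inv] at this
    · rw [if_neg hk1]
      apply signHom_apply_of_mem
      simp only []
      by_contra hnotM
      have hlt := hord _ hmemS hnotM
      -- order of the conjugate of x^(k q)
      obtain ⟨j, hj, hkj⟩ := (Nat.dvd_prime_pow Nat.prime_two).mp (hkdvd q)
      have hj0 : j ≠ 0 := by
        intro h0
        apply hk1
        rw [hkj, h0, pow_zero]
      have hkq : Function.minimalPeriod (x • ·) q.out = 2 ^ j := hkj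
      rw [hkq] at hlt
      have hconj : q.out.out⁻¹ * x ^ 2 ^ j * q.out.out =
          (MulAut.conj (q.out.out⁻¹)) (x ^ 2 ^ j) := by
        simp
      rw [hconj, MulEquiv.orderOf_eq] at hlt
      have hord2 : orderOf (x ^ 2 ^ j) = 2 ^ (n - j) := by
        rw [orderOf_pow' x (by positivity), hxn, Nat.gcd_eq_right (pow_dvd_pow 2 hj),
          Nat.pow_div hj (by norm_num)]
      rw [hord2] at hlt
      have : n - j ≤ n - 1 := by omega
      have := Nat.pow_le_pow_right (by norm_num : 0 < 2) this
      omega
  rw [Fintype.prod_congr _ _ hfactor] at hV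
  -- sum of k q
  have hsum : ∑ q, k q = (S : Subgroup G).index := by
    rw [Subgroup.index, Nat.card_congr (Subgroup.quotientEquivSigmaZMod (S : Subgroup G) x)]
    have hfin : ∀ q : Quotient (orbitRel (zpowers x) (G ⧸ (S : Subgroup G))),
        Finite (ZMod (Function.minimalPeriod (x • ·) q.out)) := by
      intro q
      have hne : Function.minimalPeriod (x • ·) q.out ≠ 0 := by
        intro h0
        have h1 := hkdvd q
        have h2 : k q = 0 := h0
        rw [h2, zero_dvd_iff] at h1
        exact absurd h1 (by positivity)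
      have : NeZero (Function.minimalPeriod (x • ·) q.out) := ⟨hne⟩
      infer_instance
    rw [Nat.card_sigma]
    apply Finset.sum_congr rfl
    intro q _
    rw [Nat.card_zmod]
  have hoddidx : Odd (S : Subgroup G).index := by
    rw [← Nat.not_even_iff_odd, even_iff_two_dvd]
    exact S.not_dvd_index
  rw [← hsum, Finset.odd_sum_iff_odd_card_odd] at hoddidx
  have hfilter : (Finset.univ.filter fun q => Odd (k q)) = Finset.univ.filter fun q => k q = 1 := by
    apply Finset.filter_congr
    intro q _
    exact hkodd q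
  rw [hfilter] at hoddidx
  rw [Finset.prod_ite, Finset.prod_const_one, mul_one, Finset.prod_const] at hV
  rw [Odd.neg_one_pow hoddidx] at hV
  exact absurd hV (by decide)

end Cfsg.Agent.S3225
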