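import Cfsg.Statements.S3266
import Mathlib

set_option autoImplicit false
open Cfsg

namespace Cfsg.Agent.S3266


section

open Matrix

variable {F : Type*} [Field F]

/-- Cayley–Hamilton for 2x2 matrices. -/
theorem ch2 (A : Matrix (Fin 2) (Fin 2) F) :
    A * A = A.trace • A - A.det • (1 : Matrix (Fin 2) (Fin 2) F) := by
  ext i j
  fin_cases i <;> fin_cases j <;>
    simp [Matrix.mul_apply, Fin.sum_univ_two, Matrix.trace_fin_two, Matrix.det_fin_two] <;> ring

/-- Powers of a 2x2 matrix are linear combinations of the matrix and the identity. -/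
theorem pow_span (A : Matrix (Fin 2) (Fin 2) F) (k : ℕ) :
    ∃ α β : F, A ^ k = α • A + β • (1 : Matrix (Fin 2) (Fin 2) F) := by
  induction k with
  | zero => exact ⟨0, 1, by simp⟩
  | succ k ih =>
    obtain ⟨α, β, h⟩ := ih
    refine ⟨α * A.trace + β, -(α * A.det), ?_⟩
    rw [pow_succ, h, add_mul, smul_mul_assoc, ch2, smul_mul_assoc, one_mul]
    module

theorem det_lin (A : Matrix (Fin 2) (Fin 2) F) (α β : F) :
    (α • A + β • (1 : Matrix (Fin 2) (Fin 2) F)).det = α ^ 2 * A.det + α * β * A.trace + β ^ 2 := by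
  simp [Matrix.det_fin_two, Matrix.trace_fin_two]
  ring

theorem trace_lin (A : Matrix (Fin 2) (Fin 2) F) (α β : F) :
    (α • A + β • (1 : Matrix (Fin 2) (Fin 2) F)).trace = α * A.trace + 2 * β := by
  simp [Matrix.trace_fin_two]
  ring

/-- The quotient map `SL₂ → PSL₂`. -/
noncomputable abbrev proj (F : Type*) [Field F] :
    Matrix.SpecialLinearGroup (Fin 2) F →* Matrix.ProjectiveSpecialLinearGroup (Fin 2) F :=
  QuotientGroup.mk' (Subgroup.center (Matrix.SpecialLinearGroup (Fin 2) F))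

theorem mem_center_iff' (g : Matrix.SpecialLinearGroup (Fin 2) F) :
    g ∈ Subgroup.center (Matrix.SpecialLinearGroup (Fin 2) F) ↔
      ∃ r : F, r ^ 2 = 1 ∧ (g : Matrix (Fin 2) (Fin 2) F) = r • (1 : Matrix (Fin 2) (Fin 2) F) := by
  rw [Matrix.SpecialLinearGroup.mem_center_iff]
  constructor
  · rintro ⟨r, hr, h⟩
    refine ⟨r, by simpa using hr, ?_⟩
    rw [← h]
    simp [Matrix.smul_one_eq_diagonal]
  · rintro ⟨r, hr, h⟩
    refine ⟨r, by simpa using hr, ?_⟩
    rw [h]
    simp [Matrix.smul_one_eq_diagonal]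

theorem proj_eq_one_iff (g : Matrix.SpecialLinearGroup (Fin 2) F) :
    proj F g = 1 ↔
      ∃ r : F, r ^ 2 = 1 ∧ (g : Matrix (Fin 2) (Fin 2) F) = r • (1 : Matrix (Fin 2) (Fin 2) F) := by
  rw [← mem_center_iff']
  exact QuotientGroup.eq_one_iff g

theorem proj_eq_imp (g h : Matrix.SpecialLinearGroup (Fin 2) F) (hgh : proj F g = proj F h) :
    ∃ r : F, r ^ 2 = 1 ∧ (h : Matrix (Fin 2) (Fin 2) F) = r • (g : Matrix (Fin 2) (Fin 2) F) := by
  have h1 : proj F (g⁻¹ * h) = 1 := by
    rw [map_mul, map_inv, hgh, inv_mul_cancel]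
  obtain ⟨r, hr, hm⟩ := (proj_eq_one_iff _).1 h1
  refine ⟨r, hr, ?_⟩
  have h2 : h = g * (g⁻¹ * h) := by group
  have h3 : (h : Matrix (Fin 2) (Fin 2) F) = (g : Matrix (Fin 2) (Fin 2) F) *
      ((g⁻¹ * h : Matrix.SpecialLinearGroup (Fin 2) F) : Matrix (Fin 2) (Fin 2) F) := by
    conv_lhs => rw [h2]
    rw [Matrix.SpecialLinearGroup.coe_mul]
  rw [h3, hm]
  simp


end



section

open Matrix

variable {F : Type*} [Field F]

/-- A representative of an involution of `PSL₂` has trace zero. -/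
theorem trace_zero_of_order_two (g : Matrix.SpecialLinearGroup (Fin 2) F)
    (h : orderOf (proj F g) = 2) : (g : Matrix (Fin 2) (Fin 2) F).trace = 0 := by
  by_contra htr
  have hne : proj F g ≠ 1 := by
    intro h1
    rw [h1, orderOf_one] at h
    omega
  have hsq : proj F (g * g) = 1 := by
    rw [map_mul, ← sq]
    have := pow_orderOf_eq_one (proj F g)
    rwa [h] at this
  obtain ⟨r, hr, hm⟩ := (proj_eq_one_iff _).1 hsq
  rw [Matrix.SpecialLinearGroup.coe_mul, ch2, g.2] at hm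
  -- tr • g = (r + 1) • 1
  have hg : (g : Matrix (Fin 2) (Fin 2) F) =
      ((r + 1) / (g : Matrix (Fin 2) (Fin 2) F).trace) • (1 : Matrix (Fin 2) (Fin 2) F) := by
    have h1 : (g : Matrix (Fin 2) (Fin 2) F).trace • (g : Matrix (Fin 2) (Fin 2) F) =
        (r + 1) • (1 : Matrix (Fin 2) (Fin 2) F) := by
      have := eq_add_of_sub_eq hm
      rw [this]
      module
    calc (g : Matrix (Fin 2) (Fin 2) F)
        = ((g : Matrix (Fin 2) (Fin 2) F).trace)⁻¹ •
            ((g : Matrix (Fin 2) (Fin 2) F).trace • (g : Matrix (Fin 2) (Fin 2) F)) := by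
          rw [smul_smul, inv_mul_cancel₀ htr, one_smul]
      _ = _ := by
          rw [h1, smul_smul]
          congr 1
          field_simp
  apply hne
  rw [proj_eq_one_iff]
  refine ⟨(r + 1) / (g : Matrix (Fin 2) (Fin 2) F).trace, ?_, hg⟩
  have hd := g.2
  rw [hg] at hd
  simpa [Matrix.det_fin_two, sq] using hd

/-- A non-central trace-zero element of `SL₂` gives an involution of `PSL₂`. -/
theorem order_two_of_trace_zero (g : Matrix.SpecialLinearGroup (Fin 2) F)
    (htr : (g : Matrix (Fin 2) (Fin 2) F).trace = 0) (hne : proj F g ≠ 1) :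
    orderOf (proj F g) = 2 := by
  have : Fact (Nat.Prime 2) := ⟨Nat.prime_two⟩
  apply orderOf_eq_prime _ hne
  rw [sq, ← map_mul, proj_eq_one_iff]
  refine ⟨-1, by ring, ?_⟩
  rw [Matrix.SpecialLinearGroup.coe_mul, ch2, htr, g.2]
  module

/-- Criterion for odd order in `PSL₂`. -/
theorem odd_order [Finite F] (A : Matrix.SpecialLinearGroup (Fin 2) F)
    (H : ∀ α β : F, α * (A : Matrix (Fin 2) (Fin 2) F).trace + 2 * β = 0 →
      α ^ 2 + α * β * (A : Matrix (Fin 2) (Fin 2) F).trace + β ^ 2 = 1 → α = 0) :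
    Odd (orderOf (proj F A)) := by
  have : Finite (Matrix.SpecialLinearGroup (Fin 2) F) := by
    unfold Matrix.SpecialLinearGroup
    infer_instance
  by_contra hodd
  rw [Nat.not_odd_iff_even] at hodd
  obtain ⟨k, hk⟩ := hodd
  have hpos : 0 < orderOf (proj F A) := orderOf_pos _
  have h2 : orderOf ((proj F A) ^ k) = 2 := by
    have := orderOf_pow_orderOf_div (x := proj F A) (n := 2) hpos.ne' ⟨k, by omega⟩
    rwa [show orderOf (proj F A) / 2 = k by omega] at this
  have h2' : orderOf (proj F (A ^ k)) = 2 := by rwa [map_pow]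
  have htr := trace_zero_of_order_two (A ^ k) h2'
  obtain ⟨α, β, hαβ⟩ := pow_span (A : Matrix (Fin 2) (Fin 2) F) k
  have hcoe : ((A ^ k : Matrix.SpecialLinearGroup (Fin 2) F) : Matrix (Fin 2) (Fin 2) F) =
      α • (A : Matrix (Fin 2) (Fin 2) F) + β • (1 : Matrix (Fin 2) (Fin 2) F) := by
    rw [Matrix.SpecialLinearGroup.coe_pow, hαβ]
  have hdet := (A ^ k).2
  rw [hcoe, det_lin, A.2] at hdet
  rw [hcoe, trace_lin] at htr
  have hα : α = 0 := H α β htr (by linear_combination hdet)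
  have h1 : proj F (A ^ k) = 1 := by
    rw [proj_eq_one_iff]
    refine ⟨β, ?_, ?_⟩
    · rw [hα] at hdet
      linear_combination hdet
    · rw [hcoe, hα]
      simp
  rw [h1, orderOf_one] at h2'
  omega

/-- Two involutions with a product of odd order are conjugate. -/
theorem isConj_of_odd {G : Type*} [Group G] (x z : G) (hx : x * x = 1) (hz : z * z = 1)
    (hodd : Odd (orderOf (x * z))) : IsConj x z := by
  obtain ⟨k, hk⟩ := hodd
  obtain ⟨w, hw⟩ : ∃ w, w = x * z := ⟨_, rfl⟩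
  rw [← hw] at hk
  have hwinv : w⁻¹ = z * x := by
    rw [hw, _root_.mul_inv_rev]
    have h1 : x⁻¹ = x := inv_eq_of_mul_eq_one_right hx
    have h2 : z⁻¹ = z := inv_eq_of_mul_eq_one_right hz
    rw [h1, h2]
  have hxwx : x * w * x = w⁻¹ := by
    rw [hwinv, hw]
    calc x * (x * z) * x = (x * x) * z * x := by group
      _ = z * x := by rw [hx, one_mul]
  have hpow : ∀ j : ℕ, x * w ^ j * x = (w ^ j)⁻¹ := by
    intro j
    induction j with
    | zero => simpa using hx
    | succ j ih =>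
      calc x * w ^ (j + 1) * x = (x * w ^ j * x) * (x * w * x) := by
            rw [pow_succ]
            calc x * (w ^ j * w) * x = x * w ^ j * 1 * w * x := by group
              _ = x * w ^ j * (x * x) * w * x := by rw [hx]
              _ = _ := by group
        _ = (w ^ j)⁻¹ * w⁻¹ := by rw [ih, hxwx]
        _ = (w ^ (j + 1))⁻¹ := by
            rw [pow_succ', _root_.mul_inv_rev]
  have hw1 : w ^ (2 * k + 1) = 1 := by rw [← hk]; exact pow_orderOf_eq_one w
  rw [isConj_iff]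
  refine ⟨w ^ k, ?_⟩
  have h3 : (w ^ k)⁻¹ = x * w ^ k * x := (hpow k).symm
  rw [h3]
  calc w ^ k * x * (x * w ^ k * x) = w ^ k * (x * x) * w ^ k * x := by group
    _ = w ^ (2 * k) * x := by rw [hx, mul_one, ← pow_add, two_mul]
    _ = w⁻¹ * x := by
        congr 1
        rw [eq_inv_iff_mul_eq_one, ← pow_succ, hw1]
    _ = z := by rw [hwinv, mul_assoc, hx, mul_one]


end



section

open Matrix

variable {F : Type*} [Field F]

/-- Construction of a trace-zero determinant-one matrix with prescribed traces of products. -/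
theorem exists_L (a b c a' b' c' τ₁ τ₂ δ : F)
    (hM : -a ^ 2 - b * c = 1) (hN : -a' ^ 2 - b' * c' = 1)
    (hD : 4 - (2 * a * a' + b * c' + c * b') ^ 2 ≠ 0)
    (hδ : δ ^ 2 = 4 - (2 * a * a' + b * c' + c * b') ^ 2 - τ₁ ^ 2 - τ₂ ^ 2
      - (2 * a * a' + b * c' + c * b') * τ₁ * τ₂) :
    ∃ l m n : F, -l ^ 2 - m * n = 1 ∧ 2 * a * l + b * n + c * m = τ₁ ∧
      2 * l * a' + m * c' + n * b' = τ₂ := by
  obtain ⟨τ₀, hτ₀⟩ : ∃ τ₀, τ₀ = 2 * a * a' + b * c' + c * b' := ⟨_, rfl⟩
  rw [← hτ₀] at hD hδ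
  obtain ⟨D, hDdef⟩ : ∃ D, D = 4 - τ₀ ^ 2 := ⟨_, rfl⟩
  rw [← hDdef] at hD
  obtain ⟨α, hα⟩ : ∃ α, α = (-2 * τ₁ - τ₀ * τ₂) / D := ⟨_, rfl⟩
  obtain ⟨β, hβ⟩ : ∃ β, β = (-τ₀ * τ₁ - 2 * τ₂) / D := ⟨_, rfl⟩
  obtain ⟨γ, hγ⟩ : ∃ γ, γ = δ / D := ⟨_, rfl⟩
  have hαD : α * D = -2 * τ₁ - τ₀ * τ₂ := by rw [hα]; field_simp
  have hβD : β * D = -τ₀ * τ₁ - 2 * τ₂ := by rw [hβ]; field_simp
  have hγD : γ * D = δ := by rw [hγ]; field_simp
  refine ⟨α * a + β * a' + γ * (b * c' - c * b'), α * b + β * b' + γ * (2 * (a * b' - b * a')),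
    α * c + β * c' + γ * (2 * (c * a' - a * c')), ?_, ?_, ?_⟩
  · have e1 : -(α * a + β * a' + γ * (b * c' - c * b')) ^ 2 -
        (α * b + β * b' + γ * (2 * (a * b' - b * a'))) *
          (α * c + β * c' + γ * (2 * (c * a' - a * c'))) =
        α ^ 2 * (-a ^ 2 - b * c) + β ^ 2 * (-a' ^ 2 - b' * c') +
          γ ^ 2 * (4 * (-a ^ 2 - b * c) * (-a' ^ 2 - b' * c') - (2 * a * a' + b * c' + c * b') ^ 2)
          - α * β * (2 * a * a' + b * c' + c * b') := by ring
    rw [e1, hM, hN, ← hτ₀]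
    have e2 : (α ^ 2 * 1 + β ^ 2 * 1 + γ ^ 2 * (4 * 1 * 1 - τ₀ ^ 2) - α * β * τ₀) * D ^ 2 = 1 * D ^ 2 := by
      have : (α ^ 2 * 1 + β ^ 2 * 1 + γ ^ 2 * (4 * 1 * 1 - τ₀ ^ 2) - α * β * τ₀) * D ^ 2 =
          (α * D) ^ 2 + (β * D) ^ 2 + (γ * D) ^ 2 * D - (α * D) * (β * D) * τ₀ := by
        rw [hDdef]; ring
      rw [this, hαD, hβD, hγD, hδ, hDdef]
      ring
    exact mul_right_cancel₀ (pow_ne_zero 2 hD) e2
  · have e1 : 2 * a * (α * a + β * a' + γ * (b * c' - c * b')) +
        b * (α * c + β * c' + γ * (2 * (c * a' - a * c'))) +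
        c * (α * b + β * b' + γ * (2 * (a * b' - b * a'))) =
        -2 * α * (-a ^ 2 - b * c) + β * (2 * a * a' + b * c' + c * b') := by ring
    rw [e1, hM, ← hτ₀]
    have e2 : (-2 * α * 1 + β * τ₀) * D = τ₁ * D := by
      have : (-2 * α * 1 + β * τ₀) * D = -2 * (α * D) + (β * D) * τ₀ := by ring
      rw [this, hαD, hβD, hDdef]
      ring
    exact mul_right_cancel₀ hD e2
  · have e1 : 2 * (α * a + β * a' + γ * (b * c' - c * b')) * a' +
        (α * b + β * b' + γ * (2 * (a * b' - b * a'))) * c' +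
        (α * c + β * c' + γ * (2 * (c * a' - a * c'))) * b' =
        α * (2 * a * a' + b * c' + c * b') - 2 * β * (-a' ^ 2 - b' * c') := by ring
    rw [e1, hN, ← hτ₀]
    have e2 : (α * τ₀ - 2 * β * 1) * D = τ₂ * D := by
      have : (α * τ₀ - 2 * β * 1) * D = (α * D) * τ₀ - 2 * (β * D) := by ring
      rw [this, hαD, hβD, hDdef]
      ring
    exact mul_right_cancel₀ hD e2

/-- Trace-zero element of `SL₂` from entries. -/
def mkT (a b c : F) (h : -a ^ 2 - b * c = 1) : Matrix.SpecialLinearGroup (Fin 2) F :=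
  ⟨!![a, b; c, -a], by rw [Matrix.det_fin_two_of]; linear_combination h⟩

theorem mkT_trace (a b c : F) (h : -a ^ 2 - b * c = 1) :
    ((mkT a b c h : Matrix.SpecialLinearGroup (Fin 2) F) : Matrix (Fin 2) (Fin 2) F).trace = 0 := by
  simp [mkT, Matrix.trace_fin_two]

/-- A trace-zero element of `SL₂` is of the form `mkT`. -/
theorem eq_mkT (g : Matrix.SpecialLinearGroup (Fin 2) F)
    (htr : (g : Matrix (Fin 2) (Fin 2) F).trace = 0) :
    ∃ (a b c : F) (h : -a ^ 2 - b * c = 1), g = mkT a b c h := by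
  have h11 : (g : Matrix (Fin 2) (Fin 2) F) 1 1 = -(g : Matrix (Fin 2) (Fin 2) F) 0 0 := by
    rw [Matrix.trace_fin_two] at htr
    linear_combination htr
  have hdet := g.2
  rw [Matrix.det_fin_two, h11] at hdet
  refine ⟨(g : Matrix (Fin 2) (Fin 2) F) 0 0, (g : Matrix (Fin 2) (Fin 2) F) 0 1,
    (g : Matrix (Fin 2) (Fin 2) F) 1 0, by linear_combination hdet, ?_⟩
  apply Subtype.ext
  ext i j
  fin_cases i <;> fin_cases j <;> simp [mkT, h11]

theorem trace_mkT_mul (a b c a' b' c' : F) (h : -a ^ 2 - b * c = 1) (h' : -a' ^ 2 - b' * c' = 1) :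
    ((mkT a b c h * mkT a' b' c' h' : Matrix.SpecialLinearGroup (Fin 2) F) :
      Matrix (Fin 2) (Fin 2) F).trace = 2 * a * a' + b * c' + c * b' := by
  rw [Matrix.SpecialLinearGroup.coe_mul]
  simp [mkT, Matrix.trace_fin_two, Matrix.mul_apply, Fin.sum_univ_two]
  ring


end



section

open Matrix Finset

variable {F : Type*} [Field F]

theorem two_ne_zero_of (hm1 : ¬ IsSquare (-1 : F)) : (2 : F) ≠ 0 := by
  intro h2
  apply hm1
  refine ⟨1, ?_⟩
  linear_combination -h2

theorem sq_ne_neg_one (hm1 : ¬ IsSquare (-1 : F)) (v : F) : v * v ≠ -1 := by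
  intro h
  exact hm1 ⟨v, h.symm⟩

/-- Key pigeonhole for fields in which `-1` is not a square. -/
theorem exists_pr [Fintype F] (hF : 4 ≤ Fintype.card F) (hm1 : ¬ IsSquare (-1 : F))
    (τ₀ ω : F) (hω : ω ≠ 0) (hcirc : ω ^ 2 = 4 - τ₀ ^ 2) :
    ∃ p r : F, p ≠ 0 ∧ r ≠ 0 ∧ IsSquare (p * r) ∧
      ¬ IsSquare ((p ^ 2 + τ₀ * p + 1) * (r ^ 2 + τ₀ * r + 1)) := by
  classical
  have h2 : (2 : F) ≠ 0 := two_ne_zero_of hm1
  have h4 : (4 : F) ≠ 0 := by
    have : (4 : F) = 2 * 2 := by norm_num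
    rw [this]; exact mul_ne_zero h2 h2
  -- the set S of x with h x a square
  obtain ⟨S, hS⟩ : ∃ S : Finset F, S = univ.filter (fun x : F => IsSquare (x ^ 2 + τ₀ * x + 1)) :=
    ⟨_, rfl⟩
  obtain ⟨T, hT⟩ : ∃ T : Finset F, T = univ.filter (fun v : F => v ≠ 0) := ⟨_, rfl⟩
  have hTcard : T.card = Fintype.card F - 1 := by
    rw [hT, Finset.filter_ne', Finset.card_erase_of_mem (Finset.mem_univ _), Finset.card_univ]
  have hmemT : ∀ v : F, v ∈ T ↔ v ≠ 0 := by
    intro v; rw [hT]; simp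
  have hmemS : ∀ x : F, x ∈ S ↔ IsSquare (x ^ 2 + τ₀ * x + 1) := by
    intro x; rw [hS]; simp
  -- the parametrisation
  obtain ⟨f, hf⟩ : ∃ f : F → F, f = fun v => (ω * (v - v⁻¹) / 2 - τ₀) / 2 := ⟨_, rfl⟩
  have hSsub : S ⊆ T.image f := by
    intro x hx
    rw [hmemS] at hx
    obtain ⟨w, hw⟩ := hx
    have hprod : (2 * x + τ₀ - 2 * w) * (2 * x + τ₀ + 2 * w) = -(ω ^ 2) := by
      linear_combination 4 * hw + hcirc
    have hu : 2 * x + τ₀ - 2 * w ≠ 0 := by
      intro h0
      rw [h0, zero_mul] at hprod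
      have : ω ^ 2 = 0 := by linear_combination hprod
      exact hω (pow_eq_zero_iff (two_ne_zero) |>.1 this)
    rw [Finset.mem_image]
    refine ⟨(2 * x + τ₀ - 2 * w) / ω, ?_, ?_⟩
    · rw [hmemT]
      exact div_ne_zero hu hω
    · have e1 : ω * ((2 * x + τ₀ - 2 * w) / ω) = 2 * x + τ₀ - 2 * w := by field_simp
      have e2 : ω * ((2 * x + τ₀ - 2 * w) / ω)⁻¹ = -(2 * x + τ₀ + 2 * w) := by
        rw [inv_div, ← mul_div_assoc, div_eq_iff hu]
        linear_combination hprod
      rw [hf]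
      simp only
      rw [mul_sub, e1, e2]
      field_simp
      ring
  have hfib : ∀ y ∈ T.image f, 2 ≤ (T.filter (fun v => f v = y)).card := by
    intro y hy
    rw [Finset.mem_image] at hy
    obtain ⟨v, hvT, hvy⟩ := hy
    rw [hmemT] at hvT
    have hv' : -v⁻¹ ≠ 0 := neg_ne_zero.2 (inv_ne_zero hvT)
    have hne : v ≠ -v⁻¹ := by
      intro h
      apply sq_ne_neg_one hm1 v
      have : v * v = v * (-v⁻¹) := by rw [← h]
      rw [this]
      field_simp
    have hfv : f (-v⁻¹) = y := by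
      rw [← hvy, hf]
      simp only
      rw [inv_neg, inv_inv]
      ring
    have : 1 < (T.filter (fun v => f v = y)).card := by
      rw [Finset.one_lt_card]
      refine ⟨v, ?_, -v⁻¹, ?_, hne⟩
      · simp [hmemT, hvT, hvy]
      · simp [hmemT, hvT, hfv]
    omega
  have hS2 : 2 * S.card ≤ Fintype.card F - 1 := by
    calc 2 * S.card ≤ 2 * (T.image f).card := by
          apply Nat.mul_le_mul_left
          exact Finset.card_le_card hSsub
      _ ≤ T.card := Finset.mul_card_image_le_card T 2 hfib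
      _ = _ := hTcard
  have h0S : (0 : F) ∈ S := by
    rw [hmemS]
    exact ⟨1, by ring⟩
  -- step (1): a nonzero element of S
  obtain ⟨p, hp0, hpS⟩ : ∃ p : F, p ≠ 0 ∧ p ∈ S := by
    by_cases hτ : τ₀ = 0
    · -- need v with v ≠ 0, v^2 ≠ 1
      have hex : ∃ v : F, v ≠ 0 ∧ v ≠ 1 ∧ v ≠ -1 := by
        by_contra hcon
        push Not at hcon
        have hsub : (univ : Finset F) ⊆ {0, 1, -1} := by
          intro v _
          by_cases h0 : v = 0
          · simp [h0]
          by_cases h1 : v = 1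
          · simp [h1]
          have := hcon v h0 h1
          simp [this]
        have hc := Finset.card_le_card hsub
        rw [Finset.card_univ] at hc
        have : ({0, 1, -1} : Finset F).card ≤ 3 := Finset.card_le_three
        omega
      obtain ⟨v, hv0, hv1, hvm1⟩ := hex
      have hω2 : ω ^ 2 = 4 := by rw [hcirc, hτ]; ring
      refine ⟨ω * (v - v⁻¹) / 4, ?_, ?_⟩
      · have hvv : v - v⁻¹ ≠ 0 := by
          intro h
          have h' : v = v⁻¹ := sub_eq_zero.1 h
          have hsq : v * v = 1 := by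
            calc v * v = v * v⁻¹ := by rw [← h']
              _ = 1 := mul_inv_cancel₀ hv0
          have : (v - 1) * (v + 1) = 0 := by linear_combination hsq
          rcases mul_eq_zero.1 this with h | h
          · exact hv1 (sub_eq_zero.1 h)
          · exact hvm1 (eq_neg_of_add_eq_zero_left h)
        exact div_ne_zero (mul_ne_zero hω hvv) (by
          have : (4 : F) = 2 * 2 := by norm_num
          rw [this]; exact mul_ne_zero h2 h2)
      · rw [hmemS, hτ]
        refine ⟨(v + v⁻¹) / 2, ?_⟩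
        have e : (ω * (v - v⁻¹) / 4) ^ 2 = ω ^ 2 * ((v - v⁻¹) / 4) ^ 2 := by ring
        rw [e, hω2]
        field_simp
        ring
    · refine ⟨-τ₀, neg_ne_zero.2 hτ, ?_⟩
      rw [hmemS]
      exact ⟨1, by ring⟩
  -- step (3)
  by_contra hcon
  push Not at hcon
  obtain ⟨wp, hwp⟩ := (hmemS p).1 hpS
  have hwp0 : wp ≠ 0 := by
    intro h0
    rw [h0, mul_zero] at hwp
    -- p^2 + τ₀ p + 1 = 0 would make the discriminant a square
    apply hm1
    refine ⟨(2 * p + τ₀) / ω, ?_⟩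
    rw [div_mul_div_comm, eq_div_iff (mul_ne_zero hω hω)]
    linear_combination -4 * hwp - hcirc
  have hall : ∀ m : F, m ≠ 0 → p * m ^ 2 ∈ S.erase 0 := by
    intro m hm
    rw [Finset.mem_erase]
    refine ⟨mul_ne_zero hp0 (pow_ne_zero 2 hm), ?_⟩
    rw [hmemS]
    have := hcon p (p * m ^ 2) hp0 (mul_ne_zero hp0 (pow_ne_zero 2 hm)) ⟨p * m, by ring⟩
    obtain ⟨y, hy⟩ := this
    refine ⟨y / wp, ?_⟩
    rw [div_mul_div_comm, eq_div_iff (mul_ne_zero hwp0 hwp0), ← hwp, ← hy]
    ring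
  obtain ⟨R, hR⟩ : ∃ R : Finset F, R = T.image (fun m => p * m ^ 2) := ⟨_, rfl⟩
  have hRsub : R ⊆ S.erase 0 := by
    intro y hy
    rw [hR, Finset.mem_image] at hy
    obtain ⟨m, hm, rfl⟩ := hy
    exact hall m ((hmemT m).1 hm)
  have hRcard : T.card ≤ 2 * R.card := by
    rw [hR]
    apply Finset.card_le_mul_card_image T 2
    intro y hy
    rw [Finset.mem_image] at hy
    obtain ⟨m, hm, hmy⟩ := hy
    have hsub : T.filter (fun a => p * a ^ 2 = y) ⊆ {m, -m} := by
      intro a ha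
      rw [Finset.mem_filter] at ha
      have h1 : p * a ^ 2 = p * m ^ 2 := by rw [ha.2, hmy]
      have h2' : a ^ 2 = m ^ 2 := mul_left_cancel₀ hp0 h1
      have : (a - m) * (a + m) = 0 := by linear_combination h2'
      rcases mul_eq_zero.1 this with h | h
      · simp [sub_eq_zero.1 h]
      · simp [eq_neg_of_add_eq_zero_left h]
    exact (Finset.card_le_card hsub).trans Finset.card_le_two
  have h3 : R.card ≤ S.card - 1 := by
    calc R.card ≤ (S.erase 0).card := Finset.card_le_card hRsub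
      _ = S.card - 1 := Finset.card_erase_of_mem h0S
  have hSpos : 1 ≤ S.card := Finset.card_pos.2 ⟨0, h0S⟩
  omega


end



section

open Matrix Finset

variable {F : Type*} [Field F]

theorem entries_of_proj_eq (a b c l m n : F) (h : -a ^ 2 - b * c = 1) (hL : -l ^ 2 - m * n = 1)
    (heq : proj F (mkT a b c h) = proj F (mkT l m n hL)) :
    ∃ r : F, r ^ 2 = 1 ∧ l = r * a ∧ m = r * b ∧ n = r * c := by
  obtain ⟨r, hr, hm⟩ := proj_eq_imp _ _ heq
  refine ⟨r, hr, ?_, ?_, ?_⟩
  · have := congr_fun (congr_fun hm 0) 0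
    simpa [mkT] using this
  · have := congr_fun (congr_fun hm 0) 1
    simpa [mkT] using this
  · have := congr_fun (congr_fun hm 1) 0
    simpa [mkT] using this

theorem entries_of_proj_one (l m n : F) (hL : -l ^ 2 - m * n = 1)
    (heq : proj F (mkT l m n hL) = 1) :
    ∃ r : F, r ^ 2 = 1 ∧ l = r ∧ m = 0 ∧ n = 0 ∧ -l = r := by
  obtain ⟨r, hr, hm⟩ := (proj_eq_one_iff _).1 heq
  refine ⟨r, hr, ?_, ?_, ?_, ?_⟩
  · have := congr_fun (congr_fun hm 0) 0
    simpa [mkT] using this
  · have := congr_fun (congr_fun hm 0) 1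
    simpa [mkT] using this
  · have := congr_fun (congr_fun hm 1) 0
    simpa [mkT] using this
  · have := congr_fun (congr_fun hm 1) 1
    simpa [mkT] using this

/-- In odd characteristic a trace-zero element of `SL₂` is never central. -/
theorem proj_mkT_ne_one (h2 : (2 : F) ≠ 0) (l m n : F) (hL : -l ^ 2 - m * n = 1) :
    proj F (mkT l m n hL) ≠ 1 := by
  intro heq
  obtain ⟨r, hr, h1, -, -, h4⟩ := entries_of_proj_one l m n hL heq
  have : 2 * r = 0 := by linear_combination -h1 - h4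
  have hr0 : r = 0 := by
    rcases mul_eq_zero.1 this with h | h
    · exact absurd h h2
    · exact h
  rw [hr0] at hr
  norm_num at hr

/-- Assembling a common neighbour from its two prescribed traces. -/
theorem from_traces [Finite F] (a b c a' b' c' : F) (h : -a ^ 2 - b * c = 1)
    (h' : -a' ^ 2 - b' * c' = 1) (l m n : F) (hL : -l ^ 2 - m * n = 1) (τ₁ τ₂ : F)
    (ht1 : 2 * a * l + b * n + c * m = τ₁) (ht2 : 2 * l * a' + m * c' + n * b' = τ₂)
    (P1 : ∀ α β : F, α * τ₁ + 2 * β = 0 → α ^ 2 + α * β * τ₁ + β ^ 2 = 1 → α = 0)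
    (P2 : ∀ α β : F, α * τ₂ + 2 * β = 0 → α ^ 2 + α * β * τ₂ + β ^ 2 = 1 → α = 0)
    (hd1 : τ₁ ^ 2 ≠ 4 ∨ τ₁ * τ₂ ≠ -2 * (2 * a * a' + b * c' + c * b'))
    (hd2 : τ₂ ^ 2 ≠ 4 ∨ τ₁ * τ₂ ≠ -2 * (2 * a * a' + b * c' + c * b')) :
    proj F (mkT l m n hL) ≠ proj F (mkT a b c h) ∧ proj F (mkT l m n hL) ≠ proj F (mkT a' b' c' h') ∧
      Odd (orderOf (proj F (mkT a b c h) * proj F (mkT l m n hL))) ∧
      Odd (orderOf (proj F (mkT l m n hL) * proj F (mkT a' b' c' h'))) := by
  refine ⟨?_, ?_, ?_, ?_⟩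
  · intro heq
    obtain ⟨r, hr, rfl, rfl, rfl⟩ := entries_of_proj_eq a b c l m n h hL heq.symm
    have e1 : τ₁ = -2 * r := by rw [← ht1]; linear_combination (-2 * r) * h
    have e2 : τ₂ = r * (2 * a * a' + b * c' + c * b') := by rw [← ht2]; ring
    rcases hd1 with hd | hd
    · apply hd; rw [e1]; linear_combination 4 * hr
    · apply hd; rw [e1, e2]; linear_combination (-2 * (2 * a * a' + b * c' + c * b')) * hr
  · intro heq
    obtain ⟨r, hr, rfl, rfl, rfl⟩ := entries_of_proj_eq a' b' c' l m n h' hL heq.symm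
    have e2 : τ₂ = -2 * r := by rw [← ht2]; linear_combination (-2 * r) * h'
    have e1 : τ₁ = r * (2 * a * a' + b * c' + c * b') := by rw [← ht1]; ring
    rcases hd2 with hd | hd
    · apply hd; rw [e2]; linear_combination 4 * hr
    · apply hd; rw [e1, e2]; linear_combination (-2 * (2 * a * a' + b * c' + c * b')) * hr
  · rw [← map_mul]
    apply odd_order
    rw [trace_mkT_mul, ht1]
    exact P1
  · rw [← map_mul]
    apply odd_order
    rw [trace_mkT_mul, ht2]
    exact P2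

/-- The algebraic consequence of the two "even order" equations. -/
theorem key_eq (α β τ : F) (e1 : α * τ + 2 * β = 0) (e2 : α ^ 2 + α * β * τ + β ^ 2 = 1) :
    α ^ 2 * (4 - τ ^ 2) = 4 := by
  linear_combination 4 * e2 - (α * τ + 2 * β) * e1

theorem P_of_form (hm1 : ¬ IsSquare (-1 : F)) (s : F) (hs : s ≠ 0) :
    ∀ α β : F, α * (s + s⁻¹) + 2 * β = 0 → α ^ 2 + α * β * (s + s⁻¹) + β ^ 2 = 1 → α = 0 := by
  intro α β e1 e2
  by_contra hα
  have h2 : (2 : F) ≠ 0 := two_ne_zero_of hm1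
  have hk := key_eq α β _ e1 e2
  apply hm1
  refine ⟨α * (s - s⁻¹) / 2, ?_⟩
  rw [div_mul_div_comm, eq_div_iff (mul_ne_zero h2 h2)]
  have e3 : (s + s⁻¹) ^ 2 = (s - s⁻¹) ^ 2 + 4 := by
    field_simp
    ring
  rw [e3] at hk
  linear_combination hk

theorem neg_isSquare [Fintype F] (hm1 : ¬ IsSquare (-1 : F)) (u : F) (hu : ¬ IsSquare u) :
    IsSquare (-u) := by
  classical
  have hu0 : u ≠ 0 := by
    rintro rfl
    exact hu ⟨0, by ring⟩
  have h1 : quadraticChar F (-1) = -1 := quadraticChar_neg_one_iff_not_isSquare.2 hm1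
  have h2 : quadraticChar F u = -1 := quadraticChar_neg_one_iff_not_isSquare.2 hu
  have h3 : quadraticChar F (-u) = 1 := by
    have : -u = (-1) * u := by ring
    rw [this, map_mul, h1, h2]
    norm_num
  exact (quadraticChar_one_iff_isSquare (neg_ne_zero.2 hu0)).1 h3


end



section

open Matrix Finset

variable {F : Type*} [Field F]

theorem sq_eq_one_of_form (s : F) (hs : s ≠ 0) (h4 : (s + s⁻¹) ^ 2 = 4) : s * s = 1 := by
  have e3 : (s + s⁻¹) ^ 2 = (s - s⁻¹) ^ 2 + 4 := by
    field_simp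
    ring
  have h0 : (s - s⁻¹) ^ 2 = 0 := by linear_combination h4 - e3
  have h1 : s - s⁻¹ = 0 := pow_eq_zero_iff (two_ne_zero) |>.1 h0
  have h2 : s = s⁻¹ := sub_eq_zero.1 h1
  calc s * s = s * s⁻¹ := by rw [← h2]
    _ = 1 := mul_inv_cancel₀ hs

/-- Common neighbour when `-1` is not a square. -/
theorem cn_caseA [Fintype F] (hF : 4 ≤ Fintype.card F) (hm1 : ¬ IsSquare (-1 : F))
    (a b c a' b' c' : F) (h : -a ^ 2 - b * c = 1) (h' : -a' ^ 2 - b' * c' = 1)
    (hnonadj : ¬ Odd (orderOf (proj F (mkT a b c h) * proj F (mkT a' b' c' h')))) :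
    ∃ (l m n : F) (hL : -l ^ 2 - m * n = 1),
      proj F (mkT l m n hL) ≠ 1 ∧
      proj F (mkT l m n hL) ≠ proj F (mkT a b c h) ∧
      proj F (mkT l m n hL) ≠ proj F (mkT a' b' c' h') ∧
      Odd (orderOf (proj F (mkT a b c h) * proj F (mkT l m n hL))) ∧
      Odd (orderOf (proj F (mkT l m n hL) * proj F (mkT a' b' c' h'))) := by
  have h2 : (2 : F) ≠ 0 := two_ne_zero_of hm1
  obtain ⟨τ₀, hτ₀⟩ : ∃ τ₀, τ₀ = 2 * a * a' + b * c' + c * b' := ⟨_, rfl⟩
  have hex : ∃ α β : F, α * τ₀ + 2 * β = 0 ∧ α ^ 2 + α * β * τ₀ + β ^ 2 = 1 ∧ α ≠ 0 := by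
    by_contra hcon
    push Not at hcon
    apply hnonadj
    rw [← map_mul]
    apply odd_order
    rw [trace_mkT_mul, ← hτ₀]
    intro α β e1 e2
    exact hcon α β e1 e2
  obtain ⟨α, β, e1, e2, hα⟩ := hex
  have hk := key_eq α β τ₀ e1 e2
  have hω : (2 / α : F) ≠ 0 := div_ne_zero h2 hα
  have hcirc : (2 / α : F) ^ 2 = 4 - τ₀ ^ 2 := by
    rw [div_pow, div_eq_iff (pow_ne_zero 2 hα)]
    linear_combination -hk
  obtain ⟨p, r, hp, hr, ⟨s, hs⟩, hns⟩ := exists_pr hF hm1 τ₀ (2 / α) hω hcirc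
  have hs0 : s ≠ 0 := by
    rintro rfl
    rw [mul_zero] at hs
    rcases mul_eq_zero.1 hs with h0 | h0
    · exact hp h0
    · exact hr h0
  obtain ⟨t, ht⟩ : ∃ t, t = s / r := ⟨_, rfl⟩
  have ht0 : t ≠ 0 := by rw [ht]; exact div_ne_zero hs0 hr
  have hp' : p = s * t := by
    rw [ht, ← mul_div_assoc, ← hs]
    field_simp
  have hr' : r = s / t := by
    rw [ht]
    field_simp
  obtain ⟨e, he⟩ := neg_isSquare hm1 _ hns
  have hD : 4 - (2 * a * a' + b * c' + c * b') ^ 2 ≠ 0 := by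
    rw [← hτ₀, ← hcirc]
    exact pow_ne_zero 2 hω
  have hδ : (e / s) ^ 2 = 4 - (2 * a * a' + b * c' + c * b') ^ 2 - (s + s⁻¹) ^ 2 - (t + t⁻¹) ^ 2
      - (2 * a * a' + b * c' + c * b') * (s + s⁻¹) * (t + t⁻¹) := by
    rw [← hτ₀, div_pow, div_eq_iff (pow_ne_zero 2 hs0)]
    have he2 : e ^ 2 = -((p ^ 2 + τ₀ * p + 1) * (r ^ 2 + τ₀ * r + 1)) := by
      rw [sq]; exact he.symm
    rw [he2, hp', hr']
    field_simp
    ring
  obtain ⟨l, m, n, hL, ht1, ht2⟩ := exists_L a b c a' b' c' (s + s⁻¹) (t + t⁻¹) (e / s) h h' hD hδ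
  refine ⟨l, m, n, hL, proj_mkT_ne_one h2 l m n hL, ?_⟩
  apply from_traces a b c a' b' c' h h' l m n hL (s + s⁻¹) (t + t⁻¹) ht1 ht2
    (P_of_form hm1 s hs0) (P_of_form hm1 t ht0)
  · left
    intro h4
    have hss := sq_eq_one_of_form s hs0 h4
    rw [← hs] at hss
    -- r = p⁻¹
    have hrp : r = p⁻¹ := eq_inv_of_mul_eq_one_right hss
    apply hns
    refine ⟨(p ^ 2 + τ₀ * p + 1) / p, ?_⟩
    rw [hrp]
    field_simp
    ring
  · left
    intro h4
    have htt := sq_eq_one_of_form t ht0 h4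
    have hpr : p = r := by
      have : s * s = r * r := by
        rw [ht] at htt
        field_simp at htt
        linear_combination htt
      rw [← hs] at this
      exact mul_right_cancel₀ hr this
    apply hns
    rw [hpr]
    exact ⟨_, rfl⟩

/-- Common neighbour when `-1` is a square and the characteristic is odd. -/
theorem cn_caseB [Fintype F] (h2 : (2 : F) ≠ 0) (hm1 : IsSquare (-1 : F))
    (a b c a' b' c' : F) (h : -a ^ 2 - b * c = 1) (h' : -a' ^ 2 - b' * c' = 1)
    (hnonadj : ¬ Odd (orderOf (proj F (mkT a b c h) * proj F (mkT a' b' c' h')))) :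
    ∃ (l m n : F) (hL : -l ^ 2 - m * n = 1),
      proj F (mkT l m n hL) ≠ 1 ∧
      proj F (mkT l m n hL) ≠ proj F (mkT a b c h) ∧
      proj F (mkT l m n hL) ≠ proj F (mkT a' b' c' h') ∧
      Odd (orderOf (proj F (mkT a b c h) * proj F (mkT l m n hL))) ∧
      Odd (orderOf (proj F (mkT l m n hL) * proj F (mkT a' b' c' h'))) := by
  have h4 : (4 : F) ≠ 0 := by
    have : (4 : F) = 2 * 2 := by norm_num
    rw [this]; exact mul_ne_zero h2 h2
  obtain ⟨i, hi⟩ := hm1
  obtain ⟨τ₀, hτ₀⟩ : ∃ τ₀, τ₀ = 2 * a * a' + b * c' + c * b' := ⟨_, rfl⟩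
  have hD : 4 - τ₀ ^ 2 ≠ 0 := by
    intro h0
    apply hnonadj
    rw [← map_mul]
    apply odd_order
    rw [trace_mkT_mul, ← hτ₀]
    intro α β e1 e2
    exfalso
    have hk := key_eq α β τ₀ e1 e2
    rw [h0, mul_zero] at hk
    exact h4 hk.symm
  have hδ : (i * (τ₀ + 2)) ^ 2 = 4 - (2 * a * a' + b * c' + c * b') ^ 2 - (2 : F) ^ 2 - (2 : F) ^ 2
      - (2 * a * a' + b * c' + c * b') * 2 * 2 := by
    rw [← hτ₀]
    linear_combination (-(τ₀ + 2) ^ 2) * hi
  have hD' : 4 - (2 * a * a' + b * c' + c * b') ^ 2 ≠ 0 := by rw [← hτ₀]; exact hD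
  obtain ⟨l, m, n, hL, ht1, ht2⟩ := exists_L a b c a' b' c' 2 2 (i * (τ₀ + 2)) h h' hD' hδ
  have P : ∀ α β : F, α * 2 + 2 * β = 0 → α ^ 2 + α * β * 2 + β ^ 2 = 1 → α = 0 := by
    intro α β e1 e2
    exfalso
    have hk := key_eq α β 2 e1 e2
    have : (4 : F) = 0 := by linear_combination -hk
    exact h4 this
  have hd : (2 : F) * 2 ≠ -2 * (2 * a * a' + b * c' + c * b') := by
    rw [← hτ₀]
    intro h0
    apply hD
    have : τ₀ = -2 := by
      have : 2 * (τ₀ + 2) = 0 := by linear_combination h0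
      rcases mul_eq_zero.1 this with h | h
      · exact absurd h h2
      · linear_combination h
    rw [this]; ring
  refine ⟨l, m, n, hL, proj_mkT_ne_one h2 l m n hL, ?_⟩
  exact from_traces a b c a' b' c' h h' l m n hL 2 2 ht1 ht2 P P (Or.inr hd) (Or.inr hd)


end



section

open Matrix Finset

variable {F : Type*} [Field F]

/-- In characteristic 2 a non-central `mkT` has a nonzero off-diagonal entry. -/
theorem offdiag_of_ne_one (h20 : (2 : F) = 0) (a b c : F) (h : -a ^ 2 - b * c = 1)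
    (hne : proj F (mkT a b c h) ≠ 1) : b ≠ 0 ∨ c ≠ 0 := by
  by_contra hcon
  push Not at hcon
  obtain ⟨hb, hc⟩ := hcon
  apply hne
  rw [proj_eq_one_iff]
  refine ⟨a, ?_, ?_⟩
  · rw [hb] at h
    linear_combination -h - h20
  · ext i j
    fin_cases i <;> fin_cases j <;> simp [mkT, hb, hc]
    linear_combination (-a) * h20

theorem sqrt_char_two [Finite F] (h20 : (2 : F) = 0) (x : F) : ∃ y : F, x = y * y := by
  have : CharP F 2 := CharTwo.of_one_ne_zero_of_two_eq_zero one_ne_zero h20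
  exact isSquare_of_charTwo' x

/-- Common neighbour in characteristic 2. -/
theorem cn_caseC [Fintype F] (h20 : (2 : F) = 0)
    (a b c a' b' c' : F) (h : -a ^ 2 - b * c = 1) (h' : -a' ^ 2 - b' * c' = 1)
    (hMne : proj F (mkT a b c h) ≠ 1) (hNne : proj F (mkT a' b' c' h') ≠ 1) :
    ∃ (l m n : F) (hL : -l ^ 2 - m * n = 1),
      proj F (mkT l m n hL) ≠ 1 ∧
      proj F (mkT l m n hL) ≠ proj F (mkT a b c h) ∧
      proj F (mkT l m n hL) ≠ proj F (mkT a' b' c' h') ∧
      Odd (orderOf (proj F (mkT a b c h) * proj F (mkT l m n hL))) ∧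
      Odd (orderOf (proj F (mkT l m n hL) * proj F (mkT a' b' c' h'))) := by
  have hbc := offdiag_of_ne_one h20 a b c h hMne
  have hbc' := offdiag_of_ne_one h20 a' b' c' h' hNne
  -- choose (u, v) with b v + c u ≠ 0 and u c' + v b' ≠ 0
  obtain ⟨u, v, huv1, huv2⟩ : ∃ u v : F, b * v + c * u ≠ 0 ∧ u * c' + v * b' ≠ 0 := by
    by_cases hc : c ≠ 0 ∧ c' ≠ 0
    · exact ⟨1, 0, by simpa using hc.1, by simpa using hc.2⟩
    by_cases hb : b ≠ 0 ∧ b' ≠ 0
    · exact ⟨0, 1, by simpa using hb.1, by simpa using hb.2⟩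
    refine ⟨1, 1, ?_, ?_⟩
    · by_cases hc0 : c = 0
      · rcases hbc with hb0 | hc1
        · simpa [hc0] using hb0
        · exact absurd hc0 hc1
      · have hc'0 : c' = 0 := by
          by_contra hx
          exact hc ⟨hc0, hx⟩
        have hb'0 : b' ≠ 0 := by
          rcases hbc' with hx | hx
          · exact hx
          · exact absurd hc'0 hx
        have hb0 : b = 0 := by
          by_contra hx
          exact hb ⟨hx, hb'0⟩
        simpa [hb0] using hc0
    · by_cases hc0 : c' = 0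
      · rcases hbc' with hb0 | hc1
        · simpa [hc0] using hb0
        · exact absurd hc0 hc1
      · have hc'0 : c = 0 := by
          by_contra hx
          exact hc ⟨hx, hc0⟩
        have hb'0 : b ≠ 0 := by
          rcases hbc with hx | hx
          · exact hx
          · exact absurd hc'0 hx
        have hb0 : b' = 0 := by
          by_contra hx
          exact hb ⟨hb'0, hx⟩
        simpa [hb0] using hc0
  obtain ⟨l, hl⟩ := sqrt_char_two h20 (1 + u * v)
  have hL : -l ^ 2 - u * v = 1 := by linear_combination hl - (1 + u * v) * h20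
  have ht1 : 2 * a * l + b * v + c * u ≠ 0 := by
    intro h0
    apply huv1
    linear_combination h0 - (a * l) * h20
  have ht2 : 2 * l * a' + u * c' + v * b' ≠ 0 := by
    intro h0
    apply huv2
    linear_combination h0 - (l * a') * h20
  have P : ∀ τ : F, τ ≠ 0 → ∀ α β : F, α * τ + 2 * β = 0 →
      α ^ 2 + α * β * τ + β ^ 2 = 1 → α = 0 := by
    intro τ hτ α β e1 _
    have : α * τ = 0 := by linear_combination e1 - β * h20
    rcases mul_eq_zero.1 this with hx | hx
    · exact hx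
    · exact absurd hx hτ
  have h40 : (4 : F) = 0 := by linear_combination 2 * h20
  refine ⟨l, u, v, hL, ?_, ?_⟩
  · intro heq
    obtain ⟨r, -, -, hu0, hv0, -⟩ := entries_of_proj_one l u v hL heq
    apply huv1
    rw [hu0, hv0]; ring
  · apply from_traces a b c a' b' c' h h' l u v hL _ _ rfl rfl (P _ ht1) (P _ ht2)
    · left
      rw [h40]
      exact pow_ne_zero 2 ht1
    · left
      rw [h40]
      exact pow_ne_zero 2 ht2

/-- Common neighbour, all cases. -/
theorem cn_mkT [Fintype F] (hF : 4 ≤ Fintype.card F)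
    (a b c a' b' c' : F) (h : -a ^ 2 - b * c = 1) (h' : -a' ^ 2 - b' * c' = 1)
    (hMne : proj F (mkT a b c h) ≠ 1) (hNne : proj F (mkT a' b' c' h') ≠ 1)
    (hnonadj : ¬ Odd (orderOf (proj F (mkT a b c h) * proj F (mkT a' b' c' h')))) :
    ∃ (l m n : F) (hL : -l ^ 2 - m * n = 1),
      proj F (mkT l m n hL) ≠ 1 ∧
      proj F (mkT l m n hL) ≠ proj F (mkT a b c h) ∧
      proj F (mkT l m n hL) ≠ proj F (mkT a' b' c' h') ∧
      Odd (orderOf (proj F (mkT a b c h) * proj F (mkT l m n hL))) ∧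
      Odd (orderOf (proj F (mkT l m n hL) * proj F (mkT a' b' c' h'))) := by
  by_cases h20 : (2 : F) = 0
  · exact cn_caseC h20 a b c a' b' c' h h' hMne hNne
  by_cases hm1 : IsSquare (-1 : F)
  · exact cn_caseB h20 hm1 a b c a' b' c' h h' hnonadj
  · exact cn_caseA hF hm1 a b c a' b' c' h h' hnonadj

/-- Common neighbour at the level of `PSL₂`. -/
theorem cn_psl [Fintype F] (hF : 4 ≤ Fintype.card F)
    (x y : Matrix.ProjectiveSpecialLinearGroup (Fin 2) F) (hx : orderOf x = 2) (hy : orderOf y = 2)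
    (hnonadj : ¬ Odd (orderOf (x * y))) :
    ∃ z : Matrix.ProjectiveSpecialLinearGroup (Fin 2) F, orderOf z = 2 ∧ z ≠ x ∧ z ≠ y ∧
      Odd (orderOf (x * z)) ∧ Odd (orderOf (z * y)) := by
  obtain ⟨M, rfl⟩ := QuotientGroup.mk'_surjective (Subgroup.center _) x
  obtain ⟨N, rfl⟩ := QuotientGroup.mk'_surjective (Subgroup.center _) y
  have hMtr := trace_zero_of_order_two M hx
  have hNtr := trace_zero_of_order_two N hy
  obtain ⟨a, b, c, h, rfl⟩ := eq_mkT M hMtr
  obtain ⟨a', b', c', h', rfl⟩ := eq_mkT N hNtr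
  have hMne : proj F (mkT a b c h) ≠ 1 := by
    intro h1
    change orderOf (proj F (mkT a b c h)) = 2 at hx
    rw [h1, orderOf_one] at hx
    omega
  have hNne : proj F (mkT a' b' c' h') ≠ 1 := by
    intro h1
    change orderOf (proj F (mkT a' b' c' h')) = 2 at hy
    rw [h1, orderOf_one] at hy
    omega
  obtain ⟨l, m, n, hL, h1, h2, h3, h4, h5⟩ :=
    cn_mkT hF a b c a' b' c' h h' hMne hNne hnonadj
  exact ⟨proj F (mkT l m n hL), order_two_of_trace_zero _ (mkT_trace l m n hL) h1, h2, h3, h4, h5⟩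


end



section

open Matrix Finset Polynomial

variable {F : Type*} [Field F]

theorem exists_sq_add_sq_neg_one [Fintype F] (h2 : (2 : F) ≠ 0) :
    ∃ u v : F, u ^ 2 + v ^ 2 = -1 := by
  have hchar : ringChar F ≠ 2 := by
    intro hc
    apply h2
    have := CharP.cast_eq_zero F (ringChar F)
    rw [hc] at this
    exact_mod_cast this
  have hodd := FiniteField.odd_card_of_char_ne_two hchar
  obtain ⟨u, v, huv⟩ := FiniteField.exists_root_sum_quadratic (R := F)
    (f := (X : F[X]) ^ 2) (g := (X : F[X]) ^ 2 - C (-1)) (degree_X_pow 2)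
    (degree_X_pow_sub_C (by decide) _) hodd
  refine ⟨u, v, ?_⟩
  simp at huv
  linear_combination huv

theorem proj_ne_one_of_trace_zero (h2 : (2 : F) ≠ 0) (g : Matrix.SpecialLinearGroup (Fin 2) F)
    (htr : (g : Matrix (Fin 2) (Fin 2) F).trace = 0) : proj F g ≠ 1 := by
  obtain ⟨a, b, c, h, rfl⟩ := eq_mkT g htr
  exact proj_mkT_ne_one h2 a b c h

/-- A second involution commuting with a given one: odd characteristic. -/
theorem na_odd [Fintype F] (h2 : (2 : F) ≠ 0) (a b c : F) (h : -a ^ 2 - b * c = 1) :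
    ∃ (a' b' c' : F) (h' : -a' ^ 2 - b' * c' = 1),
      proj F (mkT a' b' c' h') ≠ proj F (mkT a b c h) ∧ 2 * a * a' + b * c' + c * b' = 0 := by
  obtain ⟨u, v, huv⟩ := exists_sq_add_sq_neg_one h2
  have key : ∃ (a' b' c' : F), -a' ^ 2 - b' * c' = 1 ∧ 2 * a * a' + b * c' + c * b' = 0 := by
    by_cases hb : b ≠ 0
    · have e2 : b * (-(2 * a * (u + a * v) + c * (b * v)) / b) =
          -(2 * a * (u + a * v) + c * (b * v)) := by field_simp
      refine ⟨u + a * v, b * v, -(2 * a * (u + a * v) + c * (b * v)) / b, ?_, ?_⟩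
      · have e : (b * v) * (-(2 * a * (u + a * v) + c * (b * v)) / b) =
            v * (b * (-(2 * a * (u + a * v) + c * (b * v)) / b)) := by ring
        rw [e, e2]
        linear_combination -huv - v ^ 2 * h
      · rw [e2]; ring
    by_cases hc : c ≠ 0
    · have e2 : c * (-(2 * a * (u + a * v) + b * (c * v)) / c) =
          -(2 * a * (u + a * v) + b * (c * v)) := by field_simp
      refine ⟨u + a * v, -(2 * a * (u + a * v) + b * (c * v)) / c, c * v, ?_, ?_⟩
      · have e : (-(2 * a * (u + a * v) + b * (c * v)) / c) * (c * v) =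
            v * (c * (-(2 * a * (u + a * v) + b * (c * v)) / c)) := by ring
        rw [e, e2]
        linear_combination -huv - v ^ 2 * h
      · have e : 2 * a * (u + a * v) + b * (c * v) + c * (-(2 * a * (u + a * v) + b * (c * v)) / c) =
            2 * a * (u + a * v) + b * (c * v) + (c * (-(2 * a * (u + a * v) + b * (c * v)) / c)) := by
          ring
        rw [e, e2]; ring
    · push Not at hb hc
      refine ⟨0, 1, -1, by ring, ?_⟩
      rw [hb, hc]; ring
  obtain ⟨a', b', c', h', htr⟩ := key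
  refine ⟨a', b', c', h', ?_, htr⟩
  intro heq
  obtain ⟨r, hr, rfl, rfl, rfl⟩ := entries_of_proj_eq a b c a' b' c' h h' heq.symm
  have h0 : 2 * r = 0 := by linear_combination -htr + (-2 * r) * h
  have hr0 : r = 0 := by
    rcases mul_eq_zero.1 h0 with hx | hx
    · exact absurd hx h2
    · exact hx
  rw [hr0] at hr
  norm_num at hr

/-- A second involution commuting with a given one: characteristic 2. -/
theorem na_even [Fintype F] (hF : 4 ≤ Fintype.card F) (h20 : (2 : F) = 0) (a b c : F)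
    (h : -a ^ 2 - b * c = 1) (hMne : proj F (mkT a b c h) ≠ 1) :
    ∃ (a' b' c' : F) (h' : -a' ^ 2 - b' * c' = 1),
      proj F (mkT a' b' c' h') ≠ 1 ∧
      proj F (mkT a' b' c' h') ≠ proj F (mkT a b c h) ∧ 2 * a * a' + b * c' + c * b' = 0 ∧
      proj F (mkT a b c h * mkT a' b' c' h') ≠ 1 := by
  classical
  have hbc := offdiag_of_ne_one h20 a b c h hMne
  obtain ⟨ρ, hρ0, hρ1⟩ : ∃ ρ : F, ρ ≠ 0 ∧ ρ ≠ 1 := by
    by_contra hcon
    push Not at hcon
    have hsub : (univ : Finset F) ⊆ {0, 1} := by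
      intro v _
      by_cases h0 : v = 0
      · simp [h0]
      · simp [hcon v h0]
    have hc := Finset.card_le_card hsub
    rw [Finset.card_univ] at hc
    have : ({0, 1} : Finset F).card ≤ 2 := Finset.card_le_two
    omega
  have hρ1' : 1 + ρ ≠ 0 := by
    intro h0
    apply hρ1
    linear_combination h0 - h20
  have h' : -(1 + ρ * (a + 1)) ^ 2 - (ρ * b) * (ρ * c) = 1 := by
    linear_combination (-1 - ρ * (a + 1) - ρ ^ 2 * a) * h20 + ρ ^ 2 * h
  refine ⟨1 + ρ * (a + 1), ρ * b, ρ * c, h', ?_, ?_, ?_, ?_⟩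
  · intro heq
    obtain ⟨r, -, -, hm0, hn0, -⟩ := entries_of_proj_one _ _ _ h' heq
    rcases hbc with hb | hc
    · exact hb ((mul_eq_zero.1 hm0).resolve_left hρ0)
    · exact hc ((mul_eq_zero.1 hn0).resolve_left hρ0)
  · intro heq
    obtain ⟨r, hr, -, hm, hn⟩ := entries_of_proj_eq a b c _ _ _ h h' heq.symm
    have hr1 : r = 1 := by
      have : (r - 1) ^ 2 = 0 := by linear_combination hr + (1 - r) * h20
      have := pow_eq_zero_iff (two_ne_zero) |>.1 this
      linear_combination this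
    rw [hr1, one_mul] at hm hn
    have hρ1'' : ρ - 1 ≠ 0 := sub_ne_zero.2 hρ1
    rcases hbc with hb | hc
    · apply hb
      have : (ρ - 1) * b = 0 := by linear_combination hm
      exact (mul_eq_zero.1 this).resolve_left hρ1''
    · apply hc
      have : (ρ - 1) * c = 0 := by linear_combination hn
      exact (mul_eq_zero.1 this).resolve_left hρ1''
  · linear_combination (a * (1 + ρ * (a + 1)) + ρ * b * c) * h20
  · intro heq
    obtain ⟨r, -, hm⟩ := (proj_eq_one_iff _).1 heq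
    rw [Matrix.SpecialLinearGroup.coe_mul] at hm
    have e01 := congr_fun (congr_fun hm 0) 1
    have e10 := congr_fun (congr_fun hm 1) 0
    simp [mkT, Matrix.mul_apply, Fin.sum_univ_two] at e01 e10
    rcases hbc with hb | hc
    · apply hb
      have : (1 + ρ) * b = 0 := by linear_combination -e01
      exact (mul_eq_zero.1 this).resolve_left hρ1'
    · apply hc
      have : (1 + ρ) * c = 0 := by linear_combination e10
      exact (mul_eq_zero.1 this).resolve_left hρ1'

/-- A second involution, different from `t`, whose product with `t` has order 2. -/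
theorem na_psl [Fintype F] (hF : 4 ≤ Fintype.card F)
    (t : Matrix.ProjectiveSpecialLinearGroup (Fin 2) F) (ht : orderOf t = 2) :
    ∃ y : Matrix.ProjectiveSpecialLinearGroup (Fin 2) F, orderOf y = 2 ∧ y ≠ t ∧
      orderOf (t * y) = 2 := by
  obtain ⟨M, rfl⟩ := QuotientGroup.mk'_surjective (Subgroup.center _) t
  have hMtr := trace_zero_of_order_two M ht
  obtain ⟨a, b, c, h, rfl⟩ := eq_mkT M hMtr
  have hMne : proj F (mkT a b c h) ≠ 1 := by
    intro h1
    change orderOf (proj F (mkT a b c h)) = 2 at ht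
    rw [h1, orderOf_one] at ht
    omega
  by_cases h20 : (2 : F) = 0
  · obtain ⟨a', b', c', h', h1, h2, h3, h4⟩ := na_even hF h20 a b c h hMne
    refine ⟨proj F (mkT a' b' c' h'), order_two_of_trace_zero _ (mkT_trace _ _ _ h') h1, h2, ?_⟩
    change orderOf (proj F (mkT a b c h) * proj F (mkT a' b' c' h')) = 2
    rw [← map_mul]
    apply order_two_of_trace_zero _ _ h4
    rw [trace_mkT_mul]; exact h3
  · obtain ⟨a', b', c', h', h1, h3⟩ := na_odd h20 a b c h
    refine ⟨proj F (mkT a' b' c' h'), order_two_of_trace_zero _ (mkT_trace _ _ _ h')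
      (proj_mkT_ne_one h20 _ _ _ h'), h1, ?_⟩
    change orderOf (proj F (mkT a b c h) * proj F (mkT a' b' c' h')) = 2
    rw [← map_mul]
    have htr : ((mkT a b c h * mkT a' b' c' h' : Matrix.SpecialLinearGroup (Fin 2) F) :
        Matrix (Fin 2) (Fin 2) F).trace = 0 := by
      rw [trace_mkT_mul]; exact h3
    exact order_two_of_trace_zero _ htr (proj_ne_one_of_trace_zero h20 _ htr)


end



section

open Matrix Finset

/-- A finite graph in which non-adjacent vertices have a common neighbour, and which has a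
non-adjacent pair, is connected of diameter 2. -/
theorem graph_diam_two {V : Type*} [Finite V] [Nonempty V] (G : SimpleGraph V)
    (hCN : ∀ x y : V, x ≠ y → ¬ G.Adj x y → ∃ z, G.Adj x z ∧ G.Adj z y)
    (hNA : ∃ x y : V, x ≠ y ∧ ¬ G.Adj x y) : G.Connected ∧ G.diam = 2 := by
  have hwalk : ∀ x y : V, ∃ p : G.Walk x y, p.length ≤ 2 := by
    intro x y
    by_cases hxy : x = y
    · subst hxy
      exact ⟨SimpleGraph.Walk.nil, by simp⟩
    by_cases hadj : G.Adj x y
    · exact ⟨SimpleGraph.Walk.cons hadj SimpleGraph.Walk.nil, by simp⟩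
    · obtain ⟨z, h1, h2⟩ := hCN x y hxy hadj
      exact ⟨SimpleGraph.Walk.cons h1 (SimpleGraph.Walk.cons h2 SimpleGraph.Walk.nil), by simp⟩
  have hconn : G.Connected := by
    refine ⟨?_⟩
    intro x y
    obtain ⟨p, -⟩ := hwalk x y
    exact ⟨p⟩
  refine ⟨hconn, ?_⟩
  have htop : G.ediam ≠ ⊤ := SimpleGraph.connected_iff_ediam_ne_top.1 hconn
  apply le_antisymm
  · obtain ⟨u, v, huv⟩ := SimpleGraph.exists_dist_eq_diam (G := G)
    rw [← huv]
    obtain ⟨p, hp⟩ := hwalk u v
    exact (SimpleGraph.dist_le p).trans hp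
  · obtain ⟨x, y, hxy, hadj⟩ := hNA
    have h1 : 1 < G.dist x y := hconn.one_lt_dist_of_ne_of_not_adj hxy hadj
    have h2 : G.dist x y ≤ G.diam := SimpleGraph.dist_le_diam htop
    omega


end



theorem sq_one_of_order_two {G : Type*} [Group G] (x : G) (hx : orderOf x = 2) : x * x = 1 := by
  have := pow_orderOf_eq_one x
  rwa [hx, sq] at this

theorem not_odd_two : ¬ Odd 2 := by decide


/-- Let F be a finite field with at least 4 elements and let X be a conjugacy class of involutions of PSL(2, F). The graph on X joining two distinct involutions whose product has odd order is connected and has diameter exactly 2. -/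
theorem result {F : Type*} [Field F] [Fintype F] (hF : 4 ≤ Fintype.card F)
    (t : Matrix.ProjectiveSpecialLinearGroup (Fin 2) F) (ht : orderOf t = 2) :
    (SimpleGraph.fromRel fun x y : {x : Matrix.ProjectiveSpecialLinearGroup (Fin 2) F // IsConj t x} =>
        Odd (orderOf (x.1 * y.1))).Connected ∧
      (SimpleGraph.fromRel fun x y : {x : Matrix.ProjectiveSpecialLinearGroup (Fin 2) F // IsConj t x} =>
        Odd (orderOf (x.1 * y.1))).diam = 2 := by
  classical
  have hfin : Finite (Matrix.SpecialLinearGroup (Fin 2) F) := by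
    unfold Matrix.SpecialLinearGroup
    infer_instance
  have hne : Nonempty {x : Matrix.ProjectiveSpecialLinearGroup (Fin 2) F // IsConj t x} :=
    ⟨⟨t, IsConj.refl t⟩⟩
  have hord : ∀ x : Matrix.ProjectiveSpecialLinearGroup (Fin 2) F, IsConj t x → orderOf x = 2 := by
    intro x hx
    obtain ⟨c, hc⟩ := isConj_iff.1 hx
    rw [← hc]
    have := (MulAut.conj c).orderOf_eq t
    rw [MulAut.conj_apply] at this
    rw [this]
    exact ht
  apply graph_diam_two
  · intro x y hxy hadj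
    rw [SimpleGraph.fromRel_adj] at hadj
    have hnon : ¬ Odd (orderOf (x.1 * y.1)) := fun h => hadj ⟨hxy, Or.inl h⟩
    obtain ⟨z, hz2, hzx, hzy, ho1, ho2⟩ := cn_psl hF x.1 y.1 (hord x.1 x.2) (hord y.1 y.2) hnon
    have hxx := sq_one_of_order_two x.1 (hord x.1 x.2)
    have hzz := sq_one_of_order_two z hz2
    have hconj : IsConj t z := x.2.trans (isConj_of_odd x.1 z hxx hzz ho1)
    refine ⟨⟨z, hconj⟩, ?_, ?_⟩
    · rw [SimpleGraph.fromRel_adj]
      exact ⟨fun h => hzx (congrArg Subtype.val h).symm, Or.inl ho1⟩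
    · rw [SimpleGraph.fromRel_adj]
      exact ⟨fun h => hzy (congrArg Subtype.val h), Or.inl ho2⟩
  · obtain ⟨y, hy2, hyt, hty⟩ := na_psl hF t ht
    have hnon : ¬ Odd (orderOf (t * y)) := by rw [hty]; exact not_odd_two
    obtain ⟨z, hz2, -, -, ho1, ho2⟩ := cn_psl hF t y ht hy2 hnon
    have htt := sq_one_of_order_two t ht
    have hzz := sq_one_of_order_two z hz2
    have hyy := sq_one_of_order_two y hy2
    have hconj : IsConj t y :=
      (isConj_of_odd t z htt hzz ho1).trans (isConj_of_odd z y hzz hyy ho2)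
    refine ⟨⟨t, IsConj.refl t⟩, ⟨y, hconj⟩, ?_, ?_⟩
    · intro h
      exact hyt (congrArg Subtype.val h).symm
    · rw [SimpleGraph.fromRel_adj]
      rintro ⟨-, h | h⟩
      · exact hnon h
      · have e : y * t = (t * y)⁻¹ := by
          rw [_root_.mul_inv_rev, inv_eq_of_mul_eq_one_right htt, inv_eq_of_mul_eq_one_right hyy]
        simp only at h
        rw [e, orderOf_inv, hty] at h
        exact not_odd_two h

end Cfsg.Agent.S3266
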