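import Mathlib
import Cfsg.Prelude
import Cfsg.Statements.S4479
import Cfsg.Agent.Lib.Helper7.KGA
import Cfsg.Agent.Lib.Helper7.KGE
import Cfsg.Agent.Lib.Helper28.BlockRankB
import Cfsg.Agent.Lib.Helper28.BlockDefectE
import Cfsg.Agent.Lib.Helper28.GreenVanD

set_option autoImplicit false
open Cfsg

namespace Cfsg.Agent.S4479

/-- An order formula from the principal 2-block. Let G be a finite group of order 4·g₀ with g₀ odd having no normal 2-complement (no normal subgroup of order g₀); let P be a Sylow 2-subgroup, J an involution of P, and fix a maximal ideal M of the algebraic integers containing 2. Suppose the principal 2-block consists of the principal character and three further distinct characters χ₁, χ₂, χ₃ of degrees x₁, x₂, x₃, with χ_i(J) = ε_i = ±1. Then, writing c(J) and c(P) for the orders of the centralizers of J and of P, the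 order of G equals 8·α·c(J)³/c(P)² with α = x₁x₂x₃ / ((x₁ + ε₁)(x₂ + ε₂)(x₃ + ε₃)). -/
theorem result {G : Type*} [Group G] [Finite G] (M : Ideal Cfsg.AlgInt) (hM : Cfsg.IsPModular 2 M) (g₀ : ℕ) (hg₀ : Odd g₀) (hG : Nat.card G = 4 * g₀) (hnc : ¬ ∃ N : Subgroup G, N.Normal ∧ Nat.card N = g₀) (P : Sylow 2 G) (J : G) (hJ : J ∈ (P : Subgroup G)) (hJ2 : orderOf J = 2) (χ₁ χ₂ χ₃ : Cfsg.IrrCharacter G) (ε₁ ε₂ ε₃ : ℤ) (hB : Cfsg.principalBlock M G = {χ : Cfsg.IrrCharacter G | (χ : G → ℂ) = (fun _ => 1) ∨ χ = χ₁ ∨ χ = χ₂ ∨ χ = χ₃}) (hdist : (χ₁ : G → ℂ) ≠ (fun _ => 1) ∧ (χ₂ : G → ℂ) ≠ (fun _ => 1) ∧ (χ₃ : G → ℂ) ≠ (fun _ => 1) ∧ χ₁ ≠ χ₂ ∧ χ₁ ≠ χ₃ ∧ χ₂ ≠ χ₃) (hε : (ε₁ = 1 ∨ ε₁ = -1) ∧ (ε₂ = 1 ∨ ε₂ = -1) ∧ (ε₃ = 1 ∨ ε₃ = -1)) (hval : (χ₁ : G → ℂ) J = ε₁ ∧ (χ₂ : G → ℂ) J = ε₂ ∧ (χ₃ : G → ℂ) J = ε₃) : (Nat.card G : ℚ) = 8 * (((Cfsg.charDegree (χ₁ : G →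 ℂ) : ℚ) * Cfsg.charDegree (χ₂ : G → ℂ) * Cfsg.charDegree (χ₃ : G → ℂ)) / ((Cfsg.charDegree (χ₁ : G → ℂ) + ε₁) * (Cfsg.charDegree (χ₂ : G → ℂ) + ε₂) * (Cfsg.charDegree (χ₃ : G → ℂ) + ε₃))) * (Nat.card (Subgroup.centralizer ({J} : Set G)) : ℚ) ^ 3 / (Nat.card (Subgroup.centralizer ((P : Subgroup G) : Set G)) : ℚ) ^ 2 := by
  classical
  haveI : Fact (Nat.Prime 2) := ⟨Nat.prime_two⟩
  haveI : Fintype G := Fintype.ofFinite G
  haveI : Fintype (IrrCharacter G) := Fintype.ofFinite _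
  obtain ⟨hK4, hone⟩ := Cfsg.Agent.Lib.Helper7.KG.klein_and_fusion g₀ hg₀ hG hnc P
  obtain ⟨hv1, hv2, hv3⟩ := hval
  obtain ⟨he1, he2, he3⟩ := hε
  obtain ⟨hd1, hd2, hd3, hd12, hd13, hd23⟩ := hdist
  have hJ1 : J ≠ 1 := by
    intro h; rw [h, orderOf_one] at hJ2; omega
  -- the trivial character
  obtain ⟨t₀, ht₀⟩ : ∃ t₀ : IrrCharacter G, t₀ = Cfsg.Agent.Lib.Helper28.trivIrr G := ⟨_, rfl⟩
  have ht₀v : ∀ g : G, (t₀ : G → ℂ) g = 1 := fun g => by rw [ht₀]; rfl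
  have htriv : ∀ χ : IrrCharacter G, (χ : G → ℂ) = (fun _ => 1) ↔ χ = t₀ := by
    intro χ
    constructor
    · intro h; apply Subtype.ext; rw [h, ht₀]; rfl
    · intro h; rw [h, ht₀]; rfl
  have hfilter : Finset.univ.filter (fun χ : IrrCharacter G => χ ∈ principalBlock M G) =
      {t₀, χ₁, χ₂, χ₃} := by
    ext χ
    rw [Finset.mem_filter, hB]
    simp only [Finset.mem_univ, true_and, Set.mem_setOf_eq, Finset.mem_insert,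
      Finset.mem_singleton, htriv]
  have h0 : t₀ ∉ ({χ₁, χ₂, χ₃} : Finset (IrrCharacter G)) := by
    simp only [Finset.mem_insert, Finset.mem_singleton, not_or]
    exact ⟨fun h => hd1 ((htriv χ₁).mpr h.symm), fun h => hd2 ((htriv χ₂).mpr h.symm),
      fun h => hd3 ((htriv χ₃).mpr h.symm)⟩
  have h1 : χ₁ ∉ ({χ₂, χ₃} : Finset (IrrCharacter G)) := by
    simp only [Finset.mem_insert, Finset.mem_singleton, not_or]
    exact ⟨hd12, hd13⟩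
  have h2 : χ₂ ∉ ({χ₃} : Finset (IrrCharacter G)) := by
    simp only [Finset.mem_singleton]
    exact hd23
  have hsum : ∀ F : IrrCharacter G → ℂ, ∑ χ : IrrCharacter G,
      (if χ ∈ principalBlock M G then F χ else 0) = F t₀ + F χ₁ + F χ₂ + F χ₃ := by
    intro F
    rw [← Finset.sum_filter, hfilter, Finset.sum_insert h0, Finset.sum_insert h1,
      Finset.sum_insert h2, Finset.sum_singleton]
    ring
  -- degrees
  obtain ⟨hx1, hx1', -⟩ := Cfsg.Agent.Lib.Helper28.irr_degree_nat χ₁.2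
  obtain ⟨hx2, hx2', -⟩ := Cfsg.Agent.Lib.Helper28.irr_degree_nat χ₂.2
  obtain ⟨hx3, hx3', -⟩ := Cfsg.Agent.Lib.Helper28.irr_degree_nat χ₃.2
  have e1 : (ε₁ : ℚ) ^ 2 = 1 := by
    rcases he1 with h | h <;> rw [h] <;> norm_num
  have e2 : (ε₂ : ℚ) ^ 2 = 1 := by
    rcases he2 with h | h <;> rw [h] <;> norm_num
  have e3 : (ε₃ : ℚ) ^ 2 = 1 := by
    rcases he3 with h | h <;> rw [h] <;> norm_num
  have e1c : (ε₁ : ℂ) ^ 2 = 1 := by exact_mod_cast e1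
  have e2c : (ε₂ : ℂ) ^ 2 = 1 := by exact_mod_cast e2
  have e3c : (ε₃ : ℂ) ^ 2 = 1 := by exact_mod_cast e3
  -- the column at `J`
  have hcol : ∑ χ : IrrCharacter G, (if χ ∈ principalBlock M G then
      (χ : G → ℂ) J * (starRingEnd ℂ) ((χ : G → ℂ) J) else 0) = 4 := by
    rw [hsum (fun χ => (χ : G → ℂ) J * (starRingEnd ℂ) ((χ : G → ℂ) J))]
    simp only [ht₀v, hv1, hv2, hv3, map_one, map_intCast]
    linear_combination e1c + e2c + e3c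
  have hmain := Cfsg.Agent.Lib.Helper7.KG.order_identity hM P hK4 J hJ hJ2 hone hcol
  rw [hsum (fun χ => (χ : G → ℂ) J * (χ : G → ℂ) J * (starRingEnd ℂ) ((χ : G → ℂ) J) /
    (χ : G → ℂ) 1)] at hmain
  simp only [ht₀v, hv1, hv2, hv3, map_one, map_intCast, hx1', hx2', hx3'] at hmain
  -- orthogonality of the columns of `1` and `J`
  have hPJ : IsPPart 2 J J :=
    Cfsg.Agent.Lib.Helper28.isPPart_self_of_pElement Nat.prime_two J ⟨1, by rw [hJ2, pow_one]⟩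
  have hP1 : IsPPart 2 (1 : G) 1 := ⟨1, one_mul _, Commute.one_left _,
    ⟨0, by rw [orderOf_one, pow_zero]⟩, by rw [orderOf_one]; norm_num⟩
  have hncj : ¬ IsConj J 1 := by
    rw [isConj_one_left]; exact hJ1
  have horthC := Cfsg.Agent.Lib.Helper28.block_orthogonality hM J 1 J 1 hPJ hP1 hncj
    (Cfsg.Agent.Lib.Helper28.isPBlock_principalBlock (M := M) (G := G))
  rw [Cfsg.Agent.Lib.Helper28.finsum_mem_eq_sum_ite, inv_one,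
    hsum (fun χ => (χ : G → ℂ) J * (χ : G → ℂ) 1)] at horthC
  simp only [ht₀v, hv1, hv2, hv3, hx1', hx2', hx3'] at horthC
  -- transfer to `ℚ`
  have horth : (1 : ℚ) + ε₁ * Cfsg.charDegree (χ₁ : G → ℂ) + ε₂ * Cfsg.charDegree (χ₂ : G → ℂ) +
      ε₃ * Cfsg.charDegree (χ₃ : G → ℂ) = 0 := by
    have h : (((1 : ℚ) + ε₁ * Cfsg.charDegree (χ₁ : G → ℂ) + ε₂ * Cfsg.charDegree (χ₂ : G → ℂ) +
        ε₃ * Cfsg.charDegree (χ₃ : G → ℂ) : ℚ) : ℂ) = ((0 : ℚ) : ℂ) := by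
      push_cast
      linear_combination horthC
    exact_mod_cast h
  have hmainQ : (Nat.card G : ℚ) * (1 + (ε₁ : ℚ) * ε₁ * ε₁ / Cfsg.charDegree (χ₁ : G → ℂ) +
      (ε₂ : ℚ) * ε₂ * ε₂ / Cfsg.charDegree (χ₂ : G → ℂ) +
      (ε₃ : ℚ) * ε₃ * ε₃ / Cfsg.charDegree (χ₃ : G → ℂ)) *
      (Nat.card (Subgroup.centralizer ((P : Subgroup G) : Set G)) : ℚ) ^ 2 =
      8 * (Nat.card (Subgroup.centralizer ({J} : Set G)) : ℚ) ^ 3 := by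
    have h : (((Nat.card G : ℚ) * (1 + (ε₁ : ℚ) * ε₁ * ε₁ / Cfsg.charDegree (χ₁ : G → ℂ) +
        (ε₂ : ℚ) * ε₂ * ε₂ / Cfsg.charDegree (χ₂ : G → ℂ) +
        (ε₃ : ℚ) * ε₃ * ε₃ / Cfsg.charDegree (χ₃ : G → ℂ)) *
        (Nat.card (Subgroup.centralizer ((P : Subgroup G) : Set G)) : ℚ) ^ 2 : ℚ) : ℂ) =
        ((8 * (Nat.card (Subgroup.centralizer ({J} : Set G)) : ℚ) ^ 3 : ℚ) : ℂ) := by
      push_cast
      rw [← hmain]
      ring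
    exact_mod_cast h
  have hx1q : (Cfsg.charDegree (χ₁ : G → ℂ) : ℚ) ≠ 0 := Nat.cast_ne_zero.mpr hx1
  have hx2q : (Cfsg.charDegree (χ₂ : G → ℂ) : ℚ) ≠ 0 := Nat.cast_ne_zero.mpr hx2
  have hx3q : (Cfsg.charDegree (χ₃ : G → ℂ) : ℚ) ≠ 0 := Nat.cast_ne_zero.mpr hx3
  have hcJ : (Nat.card (Subgroup.centralizer ({J} : Set G)) : ℚ) ≠ 0 :=
    Nat.cast_ne_zero.mpr Nat.card_pos.ne'
  have hcP : (Nat.card (Subgroup.centralizer ((P : Subgroup G) : Set G)) : ℚ) ≠ 0 :=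
    Nat.cast_ne_zero.mpr Nat.card_pos.ne'
  obtain ⟨X, hX⟩ : ∃ X : ℚ, X = 1 + (ε₁ : ℚ) * ε₁ * ε₁ / Cfsg.charDegree (χ₁ : G → ℂ) +
      (ε₂ : ℚ) * ε₂ * ε₂ / Cfsg.charDegree (χ₂ : G → ℂ) +
      (ε₃ : ℚ) * ε₃ * ε₃ / Cfsg.charDegree (χ₃ : G → ℂ) := ⟨_, rfl⟩
  rw [← hX] at hmainQ
  have hprod : X * ((Cfsg.charDegree (χ₁ : G → ℂ) : ℚ) * Cfsg.charDegree (χ₂ : G → ℂ) *
      Cfsg.charDegree (χ₃ : G → ℂ)) =
      (Cfsg.charDegree (χ₁ : G → ℂ) + ε₁) * (Cfsg.charDegree (χ₂ : G → ℂ) + ε₂) *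
        (Cfsg.charDegree (χ₃ : G → ℂ) + ε₃) := by
    rw [hX]
    field_simp
    linear_combination (-(ε₁ : ℚ) * ε₂ * ε₃) * horth +
      ((ε₂ : ℚ) * ε₃ * Cfsg.charDegree (χ₁ : G → ℂ) +
        ε₁ * Cfsg.charDegree (χ₂ : G → ℂ) * Cfsg.charDegree (χ₃ : G → ℂ)) * e1 +
      ((ε₁ : ℚ) * ε₃ * Cfsg.charDegree (χ₂ : G → ℂ) +
        ε₂ * Cfsg.charDegree (χ₁ : G → ℂ) * Cfsg.charDegree (χ₃ : G → ℂ)) * e2 +
      ((ε₁ : ℚ) * ε₂ * Cfsg.charDegree (χ₃ : G → ℂ) +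
        ε₃ * Cfsg.charDegree (χ₁ : G → ℂ) * Cfsg.charDegree (χ₂ : G → ℂ)) * e3
  have hXne : X ≠ 0 := by
    intro h
    rw [h] at hmainQ
    have : (8 : ℚ) * (Nat.card (Subgroup.centralizer ({J} : Set G)) : ℚ) ^ 3 ≠ 0 :=
      mul_ne_zero (by norm_num) (pow_ne_zero _ hcJ)
    apply this
    rw [← hmainQ]; ring
  have hprodne : ((Cfsg.charDegree (χ₁ : G → ℂ) : ℚ) + ε₁) * (Cfsg.charDegree (χ₂ : G → ℂ) + ε₂) *
      (Cfsg.charDegree (χ₃ : G → ℂ) + ε₃) ≠ 0 := by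
    rw [← hprod]
    exact mul_ne_zero hXne (mul_ne_zero (mul_ne_zero hx1q hx2q) hx3q)
  have hXeq : X = ((Cfsg.charDegree (χ₁ : G → ℂ) : ℚ) + ε₁) * (Cfsg.charDegree (χ₂ : G → ℂ) + ε₂) *
      (Cfsg.charDegree (χ₃ : G → ℂ) + ε₃) / ((Cfsg.charDegree (χ₁ : G → ℂ) : ℚ) *
        Cfsg.charDegree (χ₂ : G → ℂ) * Cfsg.charDegree (χ₃ : G → ℂ)) := by
    rw [eq_div_iff (mul_ne_zero (mul_ne_zero hx1q hx2q) hx3q)]
    exact hprod
  obtain ⟨h12ne, h3ne⟩ := mul_ne_zero_iff.mp hprodne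
  obtain ⟨h1ne, h2ne⟩ := mul_ne_zero_iff.mp h12ne
  rw [hXeq] at hmainQ
  field_simp at hmainQ ⊢
  linear_combination hmainQ


end Cfsg.Agent.S4479
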