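import Mathlib
import Cfsg.Prelude
import Cfsg.Statements.S4480
import Cfsg.Agent.S4479
import Cfsg.Agent.S0895
import Cfsg.Agent.Lib.Helper7.KGA
import Cfsg.Agent.Lib.Helper7.KGF
import Cfsg.Agent.Lib.Helper7.KFC
import Cfsg.Agent.Lib.Helper28.BlockRankB
import Cfsg.Agent.Lib.Helper28.BlockDefectE
import Cfsg.Agent.Lib.Helper28.GreenVanD

set_option autoImplicit false
open Cfsg

namespace Cfsg.Agent.S4480

/-- Same setting as the Klein-four order formula: G of order 4·g₀ (g₀ odd) with no normal 2-complement, P a Sylow 2-subgroup, J an involution of P, M over 2, principal 2-block {1, χ₁, χ₂, χ₃} with χ_i(J) = ε_i = ±1. Suppose ε₁ε₂ε₃ = −1 and ε₃ = −1, and put q = x₃ = χ₃(1). Then there is a natural number m with 4·c(J) = m·c(P)·(q + 1), and the order of G equals (m³·c(P)/4)·(q³ − q)/2, that is 8·#G = m³·c(P)·(q³ − q). -/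
theorem result {G : Type*} [Group G] [Finite G] (M : Ideal Cfsg.AlgInt) (hM : Cfsg.IsPModular 2 M) (g₀ : ℕ) (hg₀ : Odd g₀) (hG : Nat.card G = 4 * g₀) (hnc : ¬ ∃ N : Subgroup G, N.Normal ∧ Nat.card N = g₀) (P : Sylow 2 G) (J : G) (hJ : J ∈ (P : Subgroup G)) (hJ2 : orderOf J = 2) (χ₁ χ₂ χ₃ : Cfsg.IrrCharacter G) (ε₁ ε₂ ε₃ : ℤ) (hB : Cfsg.principalBlock M G = {χ : Cfsg.IrrCharacter G | (χ : G → ℂ) = (fun _ => 1) ∨ χ = χ₁ ∨ χ = χ₂ ∨ χ = χ₃}) (hdist : (χ₁ : G → ℂ) ≠ (fun _ => 1) ∧ (χ₂ : G → ℂ) ≠ (fun _ => 1) ∧ (χ₃ : G → ℂ) ≠ (fun _ => 1) ∧ χ₁ ≠ χ₂ ∧ χ₁ ≠ χ₃ ∧ χ₂ ≠ χ₃) (hε : (ε₁ = 1 ∨ ε₁ = -1) ∧ (ε₂ = 1 ∨ ε₂ = -1) ∧ (ε₃ = 1 ∨ ε₃ = -1)) (hval : (χ₁ : G → ℂ) J = ε₁ ∧ (χ₂ : G → ℂ) J = ε₂ ∧ (χ₃ : G → ℂ) J = ε₃) (hprod : ε₁ * ε₂ * ε₃ = -1) (hε₃ : ε₃ = -1) : ∃ m : ℕ, 4 * Nat.card (Subgroup.centralizer ({J} : Set G)) = m * Nat.card (Subgroup.centralizer ((P : Subgroup G) : Set G)) * (Cfsg.charDegree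 (χ₃ : G → ℂ) + 1) ∧ 8 * Nat.card G = m ^ 3 * Nat.card (Subgroup.centralizer ((P : Subgroup G) : Set G)) * (Cfsg.charDegree (χ₃ : G → ℂ) ^ 3 - Cfsg.charDegree (χ₃ : G → ℂ)) := by
  classical
  haveI : Fact (Nat.Prime 2) := ⟨Nat.prime_two⟩
  haveI : Fintype G := Fintype.ofFinite G
  haveI : Fintype (IrrCharacter G) := Fintype.ofFinite _
  have hS := Cfsg.Agent.S4479.result M hM g₀ hg₀ hG hnc P J hJ hJ2 χ₁ χ₂ χ₃ ε₁ ε₂ ε₃ hB hdist hε
    hval
  obtain ⟨hK4, hone⟩ := Cfsg.Agent.Lib.Helper7.KG.klein_and_fusion g₀ hg₀ hG hnc P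
  obtain ⟨hv1, hv2, hv3⟩ := hval
  obtain ⟨he1, he2, he3⟩ := hε
  obtain ⟨hd1, hd2, hd3, hd12, hd13, hd23⟩ := hdist
  have hJ1 : J ≠ 1 := by
    intro h; rw [h, orderOf_one] at hJ2; omega
  -- the trivial character
  obtain ⟨t₀, ht₀⟩ : ∃ t₀ : IrrCharacter G, t₀ = Cfsg.Agent.Lib.Helper28.trivIrr G := ⟨_, rfl⟩
  have ht₀v : ∀ g : G, (t₀ : G → ℂ) g = 1 := fun g => by rw [ht₀]; rfl
  have htriv : ∀ χ : IrrCharacter G, (χ : G → ℂ) = (fun _ => 1) ↔ χ = t₀ := by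
    intro χ
    constructor
    · intro h; apply Subtype.ext; rw [h, ht₀]; rfl
    · intro h; rw [h, ht₀]; rfl
  have hmem : ∀ χ : IrrCharacter G, χ ∈ principalBlock M G ↔
      χ = t₀ ∨ χ = χ₁ ∨ χ = χ₂ ∨ χ = χ₃ := by
    intro χ
    rw [hB, Set.mem_setOf_eq, htriv]
  have hfilter : Finset.univ.filter (fun χ : IrrCharacter G => χ ∈ principalBlock M G) =
      {t₀, χ₁, χ₂, χ₃} := by
    ext χ
    rw [Finset.mem_filter, hmem]
    simp only [Finset.mem_univ, true_and, Finset.mem_insert, Finset.mem_singleton]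
  have h0 : t₀ ∉ ({χ₁, χ₂, χ₃} : Finset (IrrCharacter G)) := by
    simp only [Finset.mem_insert, Finset.mem_singleton, not_or]
    exact ⟨fun h => hd1 ((htriv χ₁).mpr h.symm), fun h => hd2 ((htriv χ₂).mpr h.symm),
      fun h => hd3 ((htriv χ₃).mpr h.symm)⟩
  have h1 : χ₁ ∉ ({χ₂, χ₃} : Finset (IrrCharacter G)) := by
    simp only [Finset.mem_insert, Finset.mem_singleton, not_or]
    exact ⟨hd12, hd13⟩
  have h2 : χ₂ ∉ ({χ₃} : Finset (IrrCharacter G)) := by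
    simp only [Finset.mem_singleton]
    exact hd23
  have hsum : ∀ F : IrrCharacter G → ℂ, ∑ χ : IrrCharacter G,
      (if χ ∈ principalBlock M G then F χ else 0) = F t₀ + F χ₁ + F χ₂ + F χ₃ := by
    intro F
    rw [← Finset.sum_filter, hfilter, Finset.sum_insert h0, Finset.sum_insert h1,
      Finset.sum_insert h2, Finset.sum_singleton]
    ring
  -- degrees
  obtain ⟨hx1, hx1', -⟩ := Cfsg.Agent.Lib.Helper28.irr_degree_nat χ₁.2
  obtain ⟨hx2, hx2', -⟩ := Cfsg.Agent.Lib.Helper28.irr_degree_nat χ₂.2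
  obtain ⟨hx3, hx3', -⟩ := Cfsg.Agent.Lib.Helper28.irr_degree_nat χ₃.2
  have e1c : (ε₁ : ℂ) ^ 2 = 1 := by
    rcases he1 with h | h <;> rw [h] <;> norm_num
  have e2c : (ε₂ : ℂ) ^ 2 = 1 := by
    rcases he2 with h | h <;> rw [h] <;> norm_num
  have e3c : (ε₃ : ℂ) ^ 2 = 1 := by
    rcases he3 with h | h <;> rw [h] <;> norm_num
  have hcol : ∑ χ : IrrCharacter G, (if χ ∈ principalBlock M G then
      (χ : G → ℂ) J * (starRingEnd ℂ) ((χ : G → ℂ) J) else 0) = 4 := by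
    rw [hsum (fun χ => (χ : G → ℂ) J * (starRingEnd ℂ) ((χ : G → ℂ) J))]
    simp only [ht₀v, hv1, hv2, hv3, map_one, map_intCast]
    linear_combination e1c + e2c + e3c
  -- orthogonality of the columns of `1` and `J`
  have hPJ : IsPPart 2 J J :=
    Cfsg.Agent.Lib.Helper28.isPPart_self_of_pElement Nat.prime_two J ⟨1, by rw [hJ2, pow_one]⟩
  have hP1 : IsPPart 2 (1 : G) 1 := ⟨1, one_mul _, Commute.one_left _,
    ⟨0, by rw [orderOf_one, pow_zero]⟩, by rw [orderOf_one]; norm_num⟩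
  have hncj : ¬ IsConj J 1 := by
    rw [isConj_one_left]; exact hJ1
  have horthC := Cfsg.Agent.Lib.Helper28.block_orthogonality hM J 1 J 1 hPJ hP1 hncj
    (Cfsg.Agent.Lib.Helper28.isPBlock_principalBlock (M := M) (G := G))
  rw [Cfsg.Agent.Lib.Helper28.finsum_mem_eq_sum_ite, inv_one,
    hsum (fun χ => (χ : G → ℂ) J * (χ : G → ℂ) 1)] at horthC
  simp only [ht₀v, hv1, hv2, hv3, hx1', hx2', hx3'] at horthC
  have horthZ : (1 : ℤ) + ε₁ * (Cfsg.charDegree (χ₁ : G → ℂ) : ℤ) +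
      ε₂ * (Cfsg.charDegree (χ₂ : G → ℂ) : ℤ) + ε₃ * (Cfsg.charDegree (χ₃ : G → ℂ) : ℤ) = 0 := by
    have h : (((1 : ℤ) + ε₁ * (Cfsg.charDegree (χ₁ : G → ℂ) : ℤ) +
        ε₂ * (Cfsg.charDegree (χ₂ : G → ℂ) : ℤ) + ε₃ * (Cfsg.charDegree (χ₃ : G → ℂ) : ℤ) : ℤ)
          : ℂ) = ((0 : ℤ) : ℂ) := by
      push_cast
      linear_combination horthC
    exact_mod_cast h
  -- the signs
  have hs1 : ε₁ = 1 := by
    rcases he1 with h | h
    · exact h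
    · exfalso
      rcases he2 with h' | h'
      · rw [h, h', hε₃] at hprod; norm_num at hprod
      · rw [h, h', hε₃] at horthZ; omega
  have hs2 : ε₂ = 1 := by
    rcases he2 with h | h
    · exact h
    · exfalso
      rw [hs1, h, hε₃] at hprod; norm_num at hprod
  rw [hs1, hs2, hε₃] at horthZ
  rw [hs1] at hv1
  rw [hs2] at hv2
  rw [hε₃] at hv3
  -- values at involutions and parity of the degrees
  have hcls : ∀ χ : IrrCharacter G, ∀ s : G, orderOf s = 2 →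
      (χ : G → ℂ) s = (χ : G → ℂ) J := by
    intro χ s hs
    obtain ⟨g, hg⟩ := isConj_iff.mp (hone J s hJ2 hs)
    rw [← hg]
    exact Cfsg.Agent.Lib.Helper4.isClassFunction_of_isIrrCharacter χ.2 J g
  have hpar : ∀ χ : IrrCharacter G, (χ : G → ℂ) J = 1 →
      ∃ r : ℕ, Cfsg.charDegree (χ : G → ℂ) + 1 = 2 * r := by
    intro χ hχJ
    obtain ⟨-, hd, -⟩ := Cfsg.Agent.Lib.Helper28.irr_degree_nat χ.2
    have hχc := Cfsg.Agent.Lib.Helper26.isCharacter_of_isIrrCharacter χ.2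
    obtain ⟨n₁, hn₁⟩ := Cfsg.Agent.Lib.Helper7.KF.avg_nat (Subgroup.zpowers J) _ hχc
      ((χ : G → ℂ) J) (fun y hy hy1 => by
        apply hcls χ
        have h1 : orderOf y ∣ 2 := hJ2 ▸ orderOf_dvd_of_mem_zpowers hy
        rcases (Nat.dvd_prime Nat.prime_two).mp h1 with h | h
        · exact absurd (orderOf_eq_one_iff.mp h) hy1
        · exact h)
    rw [Nat.card_zpowers, hJ2, hd, hχJ] at hn₁
    refine ⟨n₁, ?_⟩
    have h : ((Cfsg.charDegree (χ : G → ℂ) + 1 : ℕ) : ℂ) = ((2 * n₁ : ℕ) : ℂ) := by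
      push_cast at hn₁ ⊢
      linear_combination hn₁
    exact_mod_cast h
  have hv1' : (χ₁ : G → ℂ) J = 1 := by rw [hv1]; norm_num
  have hv2' : (χ₂ : G → ℂ) J = 1 := by rw [hv2]; norm_num
  have hv3' : (χ₃ : G → ℂ) J = -1 := by rw [hv3]; norm_num
  obtain ⟨r₁, hr₁⟩ := hpar χ₁ hv1'
  obtain ⟨r₂, hr₂⟩ := hpar χ₂ hv2'
  have hodd1 : Odd (Cfsg.charDegree (χ₁ : G → ℂ)) := by
    rw [Nat.odd_iff]; omega
  have hodd2 : Odd (Cfsg.charDegree (χ₂ : G → ℂ)) := by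
    rw [Nat.odd_iff]; omega
  have hodd3 : Odd (Cfsg.charDegree (χ₃ : G → ℂ)) := by
    rw [Nat.odd_iff]; omega
  -- complex conjugation on the block
  have hcB : ∀ χ : IrrCharacter G, χ ∈ principalBlock M G →
      Cfsg.Agent.Lib.Helper28.irrConj χ ∈ principalBlock M G :=
    fun χ hχ => Cfsg.Agent.Lib.Helper7.KG.irrConj_mem_principalBlock χ hχ
  have hcJ : ∀ χ : IrrCharacter G, ((Cfsg.Agent.Lib.Helper28.irrConj χ : IrrCharacter G) : G → ℂ) J =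
      (starRingEnd ℂ) ((χ : G → ℂ) J) := fun χ => rfl
  have hct₀ : Cfsg.Agent.Lib.Helper28.irrConj t₀ = t₀ := by
    apply Subtype.ext
    funext g
    show (starRingEnd ℂ) ((t₀ : G → ℂ) g) = (t₀ : G → ℂ) g
    rw [ht₀v, map_one]
  have hreal_of : ∀ χ : IrrCharacter G, Cfsg.Agent.Lib.Helper28.irrConj χ = χ →
      ∀ g : G, ((χ : G → ℂ) g).im = 0 := by
    intro χ h g
    have h1 : (starRingEnd ℂ) ((χ : G → ℂ) g) = (χ : G → ℂ) g :=
      congrFun (congrArg Subtype.val h) g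
    exact Complex.conj_eq_iff_im.mp h1
  have h3B : χ₃ ∈ principalBlock M G := (hmem χ₃).mpr (Or.inr (Or.inr (Or.inr rfl)))
  have h1B : χ₁ ∈ principalBlock M G := (hmem χ₁).mpr (Or.inr (Or.inl rfl))
  have h2B : χ₂ ∈ principalBlock M G := (hmem χ₂).mpr (Or.inr (Or.inr (Or.inl rfl)))
  have hc3 : Cfsg.Agent.Lib.Helper28.irrConj χ₃ = χ₃ := by
    have hv : ((Cfsg.Agent.Lib.Helper28.irrConj χ₃ : IrrCharacter G) : G → ℂ) J = -1 := by
      rw [hcJ, hv3', map_neg, map_one]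
    rcases (hmem _).mp (hcB χ₃ h3B) with h | h | h | h
    · rw [h, ht₀v] at hv; norm_num at hv
    · rw [h, hv1'] at hv; norm_num at hv
    · rw [h, hv2'] at hv; norm_num at hv
    · exact h
  -- square root sums
  have hG0 : (Nat.card G : ℂ) ≠ 0 := Nat.cast_ne_zero.mpr Nat.card_pos.ne'
  have hN : ∀ χ : IrrCharacter G, (∀ g : G, ((χ : G → ℂ) g).im = 0) →
      Odd (Cfsg.charDegree (χ : G → ℂ)) →
      ∑ s : G, (starRingEnd ℂ) ((χ : G → ℂ) (s * s)) = (Nat.card G : ℂ) := by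
    intro χ hr ho
    have h := Cfsg.Agent.S0895.result (χ : G → ℂ) χ.2 hr (Cfsg.charDegree (χ : G → ℂ))
      (Cfsg.Agent.Lib.Helper28.irr_degree_nat χ.2).2.1 ho
    have h2 : ∑ s : G, (starRingEnd ℂ) ((χ : G → ℂ) (s * s)) = ∑ s : G, (χ : G → ℂ) (s * s) :=
      Finset.sum_congr rfl fun s _ => Complex.conj_eq_iff_im.mpr (hr _)
    rw [h2]
    have h3 : (Nat.card G : ℂ) * ((Nat.card G : ℂ)⁻¹ * ∑ s : G, (χ : G → ℂ) (s * s)) =
        (Nat.card G : ℂ) * 1 := by rw [h]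
    rw [← mul_assoc, mul_inv_cancel₀ hG0, one_mul, mul_one] at h3
    exact h3
  have hNt : ∑ s : G, (starRingEnd ℂ) ((t₀ : G → ℂ) (s * s)) = (Nat.card G : ℂ) := by
    simp only [ht₀v, map_one, Finset.sum_const, Finset.card_univ, nsmul_eq_mul, mul_one]
    rw [Nat.card_eq_fintype_card]
  have hfs := Cfsg.Agent.Lib.Helper7.KG.fs_block_sum hM P hK4 J hJ hJ2 hcol
  rw [hsum (fun χ => (∑ s : G, (starRingEnd ℂ) ((χ : G → ℂ) (s * s))) * (χ : G → ℂ) J)] at hfs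
  rw [hNt, hN χ₃ (hreal_of χ₃ hc3) hodd3, ht₀v, hv1', hv2', hv3'] at hfs
  have hc1 : Cfsg.Agent.Lib.Helper28.irrConj χ₁ = χ₂ := by
    have hv : ((Cfsg.Agent.Lib.Helper28.irrConj χ₁ : IrrCharacter G) : G → ℂ) J = 1 := by
      rw [hcJ, hv1', map_one]
    rcases (hmem _).mp (hcB χ₁ h1B) with h | h | h | h
    · exfalso
      have h' := congrArg Cfsg.Agent.Lib.Helper28.irrConj h
      rw [Cfsg.Agent.Lib.Helper28.irrConj_irrConj, hct₀] at h'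
      exact hd1 ((htriv χ₁).mpr h')
    · exfalso
      -- then `χ₂` is real as well
      have hc2 : Cfsg.Agent.Lib.Helper28.irrConj χ₂ = χ₂ := by
        have hv' : ((Cfsg.Agent.Lib.Helper28.irrConj χ₂ : IrrCharacter G) : G → ℂ) J = 1 := by
          rw [hcJ, hv2', map_one]
        rcases (hmem _).mp (hcB χ₂ h2B) with k | k | k | k
        · exfalso
          have k' := congrArg Cfsg.Agent.Lib.Helper28.irrConj k
          rw [Cfsg.Agent.Lib.Helper28.irrConj_irrConj, hct₀] at k'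
          exact hd2 ((htriv χ₂).mpr k')
        · exfalso
          have k' := congrArg Cfsg.Agent.Lib.Helper28.irrConj k
          rw [Cfsg.Agent.Lib.Helper28.irrConj_irrConj, h] at k'
          exact hd12 k'.symm
        · exact k
        · rw [k, hv3'] at hv'; norm_num at hv'
      rw [hN χ₁ (hreal_of χ₁ h) hodd1, hN χ₂ (hreal_of χ₂ hc2) hodd2] at hfs
      apply hG0
      linear_combination (1 / 2 : ℂ) * hfs
    · exact h
    · rw [h, hv3'] at hv; norm_num at hv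
  have hx12 : Cfsg.charDegree (χ₂ : G → ℂ) = Cfsg.charDegree (χ₁ : G → ℂ) := by
    have h : (χ₂ : G → ℂ) 1 = (starRingEnd ℂ) ((χ₁ : G → ℂ) 1) := by
      rw [← hc1]; rfl
    rw [hx1', hx2', Complex.conj_natCast] at h
    exact_mod_cast h
  -- arithmetic
  rw [hs1, hs2, hε₃, hx12] at hS
  rw [hx12] at horthZ
  obtain ⟨x, hx⟩ : ∃ x : ℕ, x = Cfsg.charDegree (χ₁ : G → ℂ) := ⟨_, rfl⟩
  obtain ⟨q, hq⟩ : ∃ q : ℕ, q = Cfsg.charDegree (χ₃ : G → ℂ) := ⟨_, rfl⟩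
  obtain ⟨cJ, hcJdef⟩ : ∃ cJ : ℕ, cJ = Nat.card (Subgroup.centralizer ({J} : Set G)) := ⟨_, rfl⟩
  obtain ⟨cP, hcPdef⟩ : ∃ cP : ℕ, cP = Nat.card (Subgroup.centralizer ((P : Subgroup G) : Set G)) :=
    ⟨_, rfl⟩
  have hcJpos : 0 < cJ := hcJdef ▸ Nat.card_pos
  have hcPpos : 0 < cP := hcPdef ▸ Nat.card_pos
  obtain ⟨n, hn⟩ : ∃ n : ℕ, cJ = cP * n := by
    have hle : Subgroup.centralizer ((P : Subgroup G) : Set G) ≤
        Subgroup.centralizer ({J} : Set G) :=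
      Subgroup.centralizer_le (Set.singleton_subset_iff.mpr hJ)
    rw [hcJdef, hcPdef]
    exact Subgroup.card_dvd_of_le hle
  obtain ⟨i, hi⟩ : ∃ i : ℕ, Nat.card G = cJ * i := by
    rw [hcJdef]
    exact ⟨_, (Subgroup.card_mul_index _).symm⟩
  rw [← hx, ← hq, ← hcJdef, ← hcPdef, hi, hn] at hS
  rw [← hx, ← hq] at horthZ
  rw [← hx] at hr₁ hx1
  rw [← hq, ← hcJdef, ← hcPdef, hi, hn]
  have hq2 : q = 2 * x + 1 := by omega
  have hr1pos : 0 < r₁ := by omega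
  obtain ⟨r', hr'⟩ : ∃ r' : ℕ, r₁ = r' + 1 := ⟨r₁ - 1, by omega⟩
  have hxr : x = 2 * r' + 1 := by omega
  have hqr : q = 4 * r' + 3 := by omega
  have hnpos : 0 < n := by
    rcases Nat.eq_zero_or_pos n with h | h
    · rw [h, mul_zero] at hn; omega
    · exact h
  -- the key identity `i r² = x q n²`
  have hE : i * (r' + 1) ^ 2 = x * q * n ^ 2 := by
    have hcPq : (cP : ℚ) ≠ 0 := Nat.cast_ne_zero.mpr hcPpos.ne'
    have hnq : (n : ℚ) ≠ 0 := Nat.cast_ne_zero.mpr hnpos.ne'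
    have hxq : (x : ℚ) ≠ 0 := Nat.cast_ne_zero.mpr hx1
    have hrq : ((r' : ℚ) + 1) ≠ 0 := by positivity
    have h : ((i * (r' + 1) ^ 2 : ℕ) : ℚ) = ((x * q * n ^ 2 : ℕ) : ℚ) := by
      push_cast at hS ⊢
      rw [hqr, hxr] at hS ⊢
      push_cast at hS ⊢
      have h1 : ((2 : ℚ) * r' + 1 + 1) = 2 * (r' + 1) := by ring
      have h2 : ((4 : ℚ) * r' + 3 + -1) = 2 * (2 * r' + 1) := by ring
      rw [h1, h2] at hS
      have h3 : (2 * (r' : ℚ) + 1) ≠ 0 := by positivity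
      field_simp at hS
      linear_combination (1 / 8 : ℚ) * hS
    exact_mod_cast h
  have hcop1 : Nat.Coprime (r' + 1) x := by
    rw [← Nat.isCoprime_iff_coprime]
    exact ⟨2, -1, by rw [hxr]; push_cast; ring⟩
  have hcop2 : Nat.Coprime (r' + 1) q := by
    rw [← Nat.isCoprime_iff_coprime]
    exact ⟨4, -1, by rw [hqr]; push_cast; ring⟩
  have hcop : Nat.Coprime ((r' + 1) ^ 2) (x * q) :=
    Nat.Coprime.pow_left 2 (Nat.Coprime.mul_right hcop1 hcop2)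
  have hdvd : (r' + 1) ^ 2 ∣ n ^ 2 := by
    have h : (r' + 1) ^ 2 ∣ x * q * n ^ 2 := ⟨i, by rw [← hE]; ring⟩
    exact hcop.dvd_of_dvd_mul_left h
  obtain ⟨m, hm⟩ : (r' + 1) ∣ n := (Nat.pow_dvd_pow_iff (by norm_num : (2 : ℕ) ≠ 0)).mp hdvd
  have hi2 : i = x * q * m ^ 2 := by
    rw [hm] at hE
    have h : (r' + 1) ^ 2 * i = (r' + 1) ^ 2 * (x * q * m ^ 2) := by
      rw [mul_comm, hE]; ring
    exact Nat.eq_of_mul_eq_mul_left (by positivity) h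
  refine ⟨m, ?_, ?_⟩
  · rw [hm, hqr]; ring
  · have h3 : q ^ 3 - q = 8 * q * x * (r' + 1) := by
      apply Nat.sub_eq_of_eq_add
      rw [hxr, hqr]; ring
    rw [h3, hi2, hm]
    ring


end Cfsg.Agent.S4480
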