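import Mathlib
import Cfsg.Prelude
import Cfsg.Statements.S3278
import Cfsg.Agent.S3279
import Cfsg.Agent.S0948
import Cfsg.Agent.S4479
import Cfsg.Agent.S4480
import Cfsg.Agent.S0494
import Cfsg.Agent.Lib.Helper7.KIB
import Cfsg.Agent.Lib.Helper28.PModExists
import Cfsg.Agent.Lib.Helper2.Order168d

set_option autoImplicit false
open Cfsg

namespace Cfsg.Agent.S3278

/-- Let G be a finite simple group with an involution x such that a Sylow 2-subgroup of C_G(x) is a Klein four-group which is normal in C_G(x). Then G is isomorphic to the alternating group of degree 5 (that is, to PSL(2, 5)). -/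
theorem result {G : Type*} [Group G] [Finite G] [IsSimpleGroup G] (x : G) (hx : orderOf x = 2)
    (S₀ : Subgroup G) (hle : S₀ ≤ Subgroup.centralizer ({x} : Set G)) (hK : IsKleinFour ↥S₀)
    (hodd : ¬ 2 ∣ S₀.relIndex (Subgroup.centralizer ({x} : Set G))) (hn : (S₀.subgroupOf (Subgroup.centralizer ({x} : Set G))).Normal) :
    Nonempty (G ≃* ↥(alternatingGroup (Fin 5))) := by
  classical
  haveI : Fact (Nat.Prime 2) := ⟨Nat.prime_two⟩
  haveI : Fintype G := Fintype.ofFinite G
  -- the Sylow `2`-subgroup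
  have h3 := Cfsg.Agent.Lib.Helper7.KI.card_involutions_le x S₀ hle hK hodd hn
  obtain ⟨⟨P, hPle⟩, hone⟩ := Cfsg.Agent.S3279.result x hx h3
  have hP : (P : Subgroup G) = S₀ :=
    Cfsg.Agent.Lib.Helper7.KI.sylow_eq x S₀ hle hK hodd hn P hPle
  have hPK : IsKleinFour (P : Subgroup G) := by rw [hP]; exact hK
  have hxC : x ∈ Subgroup.centralizer ({x} : Set G) := by
    rw [Subgroup.mem_centralizer_iff]
    intro h hh
    rw [Set.mem_singleton_iff.mp hh]
  have hxP : x ∈ (P : Subgroup G) := by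
    rw [hP]
    exact Cfsg.Agent.Lib.Helper7.KI.mem_of_involution x S₀ hle hK hodd hn x hxC hx
  have hP4 : Nat.card (P : Subgroup G) = 4 := hPK.card_four
  obtain ⟨g₀, hg₀⟩ : ∃ g₀, Nat.card G = 4 * g₀ := by
    rw [← hP4]; exact Subgroup.card_subgroup_dvd_card _
  have hGpos : 0 < Nat.card G := Nat.card_pos
  have hg₀odd : Odd g₀ := by
    have h1 : (P : Subgroup G).index = g₀ := by
      have := Subgroup.card_mul_index (P : Subgroup G)
      rw [hP4, hg₀] at this
      omega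
    have h2 := P.not_dvd_index
    rw [h1] at h2
    exact Nat.odd_iff.mpr (by omega)
  have hx1 : x ≠ 1 := by
    intro h; rw [h, orderOf_one] at hx; omega
  have hPnn : ¬ (P : Subgroup G).Normal := by
    intro hnorm
    rcases hnorm.eq_bot_or_eq_top with h | h
    · rw [h, Subgroup.card_bot] at hP4; omega
    · have hcomm : ∀ a b : G, a * b = b * a := fun a b =>
        Cfsg.Agent.Lib.Helper7.KF.klein_comm (P : Subgroup G) a b
          (by rw [h]; exact Subgroup.mem_top a) (by rw [h]; exact Subgroup.mem_top b)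
      have hZn : (Subgroup.zpowers x).Normal := ⟨fun n hn g => by
        rw [hcomm g n, mul_assoc, mul_inv_cancel, mul_one]; exact hn⟩
      have hZ2 : Nat.card (Subgroup.zpowers x) = 2 := by rw [Nat.card_zpowers, hx]
      rcases hZn.eq_bot_or_eq_top with h' | h'
      · rw [h', Subgroup.card_bot] at hZ2; omega
      · rw [h', Subgroup.card_top] at hZ2
        rw [h, Subgroup.card_top] at hP4
        omega
  have hnc : ¬ ∃ N : Subgroup G, N.Normal ∧ Nat.card N = g₀ := by
    rintro ⟨N, hNn, hNc⟩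
    rcases hNn.eq_bot_or_eq_top with h | h
    · rw [h, Subgroup.card_bot] at hNc
      have h1 : (P : Subgroup G) = ⊤ :=
        Subgroup.eq_top_of_card_eq _ (by rw [hP4, hg₀, ← hNc])
      apply hPnn
      rw [h1]
      infer_instance
    · rw [h, Subgroup.card_top, hg₀] at hNc
      omega
  -- the principal block
  obtain ⟨M, hM⟩ := Cfsg.Agent.Lib.Helper28.exists_isPModular' Nat.prime_two
  obtain ⟨ζ₂, ζ₃, ζ₄, ε, hε, hζ2, hζ3, h23, h24, h34, hB, hvals, hm2, hm3, hm4, horth⟩ :=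
    Cfsg.Agent.S0948.result M hM P hPK hone
  obtain ⟨hv2, hv3, hv4⟩ := hvals x hx
  have hζ4 : (ζ₄ : G → ℂ) ≠ fun _ => 1 := by
    intro h
    rw [h] at hv4
    norm_num at hv4
  have hcent : Subgroup.centralizer ({x} : Set G) =
      Subgroup.centralizer ((P : Subgroup G) : Set G) := by
    rw [hP]
    exact Cfsg.Agent.Lib.Helper7.KI.centralizer_eq x hx S₀ hle hK hodd hn
  have hv2' : (ζ₂ : G → ℂ) x = ((1 : ℤ) : ℂ) := by rw [hv2]; push_cast; rfl
  have hv4' : (ζ₄ : G → ℂ) x = ((-1 : ℤ) : ℂ) := by rw [hv4]; push_cast; rfl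
  have hS := Cfsg.Agent.S4479.result M hM g₀ hg₀odd hg₀ hnc P x hxP hx ζ₂ ζ₃ ζ₄ 1 ε (-1) hB
    ⟨hζ2, hζ3, hζ4, h23, h24, h34⟩ ⟨Or.inl rfl, hε, Or.inr rfl⟩ ⟨hv2', hv3, hv4'⟩
  rw [← hcent] at hS
  -- the number of involutions
  obtain ⟨n₂, hn₂⟩ : ∃ n₂ : ℕ, n₂ = Nat.card (Sylow 2 G) := ⟨_, rfl⟩
  obtain ⟨c, hc⟩ : ∃ c : ℕ, c = Nat.card (Subgroup.centralizer ({x} : Set G)) := ⟨_, rfl⟩
  have hcpos : 0 < c := hc ▸ Nat.card_pos
  have hinv := Cfsg.Agent.Lib.Helper7.KI.card_involutions_eq x hx S₀ hle hK hodd hn hone P hP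
  have hclass : Nat.card {t : G // orderOf t = 2} * c = Nat.card G := by
    have h1 := Cfsg.Agent.Lib.Helper2.Order168.card_conj_class x
    rw [← Cfsg.Agent.Lib.Helper2.Order168.card_isConj_eq x, ← hc] at h1
    rw [← h1]
    congr 1
    apply Nat.card_congr
    apply Equiv.subtypeEquivRight
    intro t
    constructor
    · intro ht; exact hone x t hx ht
    · rintro ⟨u, hu⟩; rw [← hu.orderOf_eq, hx]
  rw [hinv, ← hn₂] at hclass
  have hdvdfac := Cfsg.Agent.Lib.Helper7.KI.card_dvd_factorial P hPnn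
  rw [← hn₂] at hdvdfac
  have h4c : 4 ∣ c := by
    rw [hc, ← hP4]
    exact Subgroup.card_dvd_of_le hPle
  have hn₂odd : n₂ % 2 = 1 := by
    have := card_sylow_modEq_one 2 G
    rw [← hn₂] at this
    exact this
  rw [← hc] at hS
  -- degrees
  obtain ⟨hx2, hx2', -⟩ := Cfsg.Agent.Lib.Helper28.irr_degree_nat ζ₂.2
  obtain ⟨hx3, hx3', -⟩ := Cfsg.Agent.Lib.Helper28.irr_degree_nat ζ₃.2
  obtain ⟨hx4, hx4', -⟩ := Cfsg.Agent.Lib.Helper28.irr_degree_nat ζ₄.2
  obtain ⟨X, hX⟩ : ∃ X : ℕ, X = Cfsg.charDegree (ζ₂ : G → ℂ) := ⟨_, rfl⟩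
  obtain ⟨a, ha⟩ : ∃ a : ℕ, a = Cfsg.charDegree (ζ₃ : G → ℂ) := ⟨_, rfl⟩
  obtain ⟨b, hb⟩ : ∃ b : ℕ, b = Cfsg.charDegree (ζ₄ : G → ℂ) := ⟨_, rfl⟩
  rw [← hX, ← ha, ← hb] at hS
  rw [← hX] at hx2 hx2' hm2
  rw [← ha] at hx3 hx3' hm3
  rw [← hb] at hx4 hx4' hm4
  have horth1 := horth 1 (by rw [orderOf_one]; exact odd_one)
  rw [hx2', hx3', hx4'] at horth1
  have hcq : (c : ℚ) ≠ 0 := Nat.cast_ne_zero.mpr hcpos.ne'
  have hc32 : (c : ℚ) ^ 3 / (c : ℚ) ^ 2 = c := by field_simp
  have hGq : (Nat.card G : ℚ) = 3 * n₂ * c := by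
    rw [← hclass]; push_cast; ring
  rcases hε with hε1 | hε1
  · -- `ε = 1`: the `PSL` shape
    exfalso
    obtain ⟨m, hm1, hm2'⟩ := Cfsg.Agent.S4480.result M hM g₀ hg₀odd hg₀ hnc P x hxP hx ζ₂ ζ₃ ζ₄
      1 ε (-1) hB ⟨hζ2, hζ3, hζ4, h23, h24, h34⟩ ⟨Or.inl rfl, Or.inl hε1, Or.inr rfl⟩
      ⟨hv2', hv3, hv4'⟩ (by rw [hε1]; norm_num) rfl
    rw [← hcent, ← hc, ← hb] at hm1 hm2'
    have hb3 : 4 ≤ b + 1 := by
      obtain ⟨k, hk⟩ := hm4
      omega
    have hm : m * (b + 1) = 4 := by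
      have h1 : c * (m * (b + 1)) = c * 4 := by rw [mul_comm c 4, hm1]; ring
      exact Nat.eq_of_mul_eq_mul_left hcpos h1
    have hm_one : m = 1 := by
      rcases Nat.eq_zero_or_pos m with h | h
      · rw [h, zero_mul] at hm; omega
      · by_contra hne
        have h2 : 2 ≤ m := by omega
        nlinarith
    rw [hm_one, one_mul] at hm
    have hb3' : b = 3 := by omega
    rw [hm_one, hb3', ← hclass] at hm2'
    have hn1 : n₂ = 1 := by
      have h1 : c * (24 * n₂) = c * 24 := by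
        have : 8 * (3 * n₂ * c) = 1 ^ 3 * c * (3 ^ 3 - 3) := hm2'
        norm_num at this
        linarith
      have := Nat.eq_of_mul_eq_mul_left hcpos h1
      omega
    rw [hn1] at hdvdfac
    have : Nat.card G = 1 := Nat.dvd_one.mp (by simpa using hdvdfac)
    omega
  · -- `ε = -1`
    rw [hε1] at hS hm3 horth1
    have ha3 : ∃ a' : ℕ, a = a' + 3 := by
      obtain ⟨k, hk⟩ := hm3
      exact ⟨a - 3, by omega⟩
    have hb3 : ∃ b' : ℕ, b = b' + 3 := by
      obtain ⟨k, hk⟩ := hm4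
      exact ⟨b - 3, by omega⟩
    obtain ⟨a', rfl⟩ := ha3
    obtain ⟨b', rfl⟩ := hb3
    have hXab : X = a' + b' + 5 := by
      have h1 : ((X + 1 : ℕ) : ℂ) = ((a' + 3 + (b' + 3) : ℕ) : ℂ) := by
        push_cast at horth1 ⊢
        linear_combination horth1
      have h2 : X + 1 = a' + 3 + (b' + 3) := by exact_mod_cast h1
      omega
    rw [hXab, hGq, mul_div_assoc, hc32] at hS
    push_cast at hS
    have hE : 3 * n₂ * ((a' + b' + 6) * (a' + 2) * (b' + 2)) =
        8 * ((a' + b' + 5) * (a' + 3) * (b' + 3)) := by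
      have h1 : ((a' : ℚ) + b' + 5 + 1) = a' + b' + 6 := by ring
      have h2 : ((a' : ℚ) + 3 + -1) = a' + 2 := by ring
      have h3 : ((b' : ℚ) + 3 + -1) = b' + 2 := by ring
      rw [h1, h2, h3] at hS
      have hd1 : ((a' : ℚ) + b' + 6) ≠ 0 := by positivity
      have hd2 : ((a' : ℚ) + 2) ≠ 0 := by positivity
      have hd3 : ((b' : ℚ) + 2) ≠ 0 := by positivity
      field_simp at hS
      have h5 : ((3 * n₂ * ((a' + b' + 6) * (a' + 2) * (b' + 2)) : ℕ) : ℚ) =
          ((8 * ((a' + b' + 5) * (a' + 3) * (b' + 3)) : ℕ) : ℚ) := by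
        push_cast
        linear_combination hS
      exact_mod_cast h5
    have hupper : 3 * n₂ ≤ 17 := by
      by_contra hlt
      have h18 : 18 ≤ 3 * n₂ := by omega
      have h1 : 18 * ((a' + b' + 6) * (a' + 2) * (b' + 2)) ≤
          8 * ((a' + b' + 5) * (a' + 3) * (b' + 3)) := by
        rw [← hE]; exact Nat.mul_le_mul_right _ h18
      nlinarith [Nat.zero_le a', Nat.zero_le b', Nat.zero_le (a' * b'),
        Nat.zero_le (a' * a'), Nat.zero_le (b' * b'), Nat.zero_le (a' * a' * b'),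
        Nat.zero_le (a' * b' * b')]
    have hlower : 7 ≤ 3 * n₂ := by
      by_contra hlt
      have h6 : 3 * n₂ ≤ 6 := by omega
      have h1 : 8 * ((a' + b' + 5) * (a' + 3) * (b' + 3)) ≤
          6 * ((a' + b' + 6) * (a' + 2) * (b' + 2)) := by
        rw [← hE]; exact Nat.mul_le_mul_right _ h6
      nlinarith [Nat.zero_le a', Nat.zero_le b', Nat.zero_le (a' * b'),
        Nat.zero_le (a' * a'), Nat.zero_le (b' * b'), Nat.zero_le (a' * a' * b'),
        Nat.zero_le (a' * b' * b')]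
    have hn35 : n₂ = 3 ∨ n₂ = 5 := by omega
    rcases hn35 with h | h
    · exfalso
      rw [h] at hdvdfac
      have h6 : Nat.card G ∣ 6 := by simpa [Nat.factorial] using hdvdfac
      have hle6 := Nat.le_of_dvd (by norm_num) h6
      obtain ⟨i, hi⟩ := hg₀odd
      have h4' : Nat.card G = 4 := by omega
      rw [h4'] at h6
      norm_num at h6
    · rw [h] at hdvdfac hclass
      have h120 : Nat.card G ∣ 120 := by simpa [Nat.factorial] using hdvdfac
      have h60 : Nat.card G = 60 := by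
        obtain ⟨k, hk⟩ := h4c
        obtain ⟨j, hj⟩ := h120
        obtain ⟨i, hi⟩ := hg₀odd
        have h1 : Nat.card G = 60 * k := by rw [← hclass, hk]; ring
        have hk1 : k = 1 := by
          have hkpos : 0 < k := by
            rcases Nat.eq_zero_or_pos k with h0 | h0
            · rw [h0] at hk; omega
            · exact h0
          have hk2 : k ≤ 2 := by
            by_contra hgt
            have : 3 ≤ k := by omega
            have hjpos : 0 < j := by
              rcases Nat.eq_zero_or_pos j with h0 | h0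
              · rw [h0] at hj; omega
              · exact h0
            nlinarith
          have hkodd : k % 2 = 1 := by omega
          omega
        rw [h1, hk1]
      exact Cfsg.Agent.S0494.result h60


end Cfsg.Agent.S3278
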