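import Mathlib
import Cfsg.Statements.S3294
import Cfsg.Agent.Lib.Helper20.Bender
import Cfsg.Agent.Lib.Helper20.Cores
import Cfsg.Agent.Lib.Helper3.QuatSylow
import Cfsg.Agent.Lib.Helper17.NormalHall
import Cfsg.Agent.Lib.Lead.UniqueSubgroup
import Cfsg.Agent.S3116

set_option autoImplicit false
set_option linter.style.haveILetI false
open Cfsg

namespace Cfsg.Agent.S3294

open QuaternionGroup

/-- The automorphism group of a generalized quaternion group of order at least 16 is a 2-group. -/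
theorem aut_quaternion_isPGroup (m : ℕ) (hm : 2 ≤ m) :
    IsPGroup 2 (MulAut (QuaternionGroup (2 ^ m))) := by
  haveI : NeZero (2 ^ m) := ⟨pow_ne_zero _ two_ne_zero⟩
  have hord : orderOf (a 1 : QuaternionGroup (2 ^ m)) = 2 ^ (m + 1) := by
    rw [QuaternionGroup.orderOf_a_one, pow_succ, mul_comm]
  have hmem : ∀ i : ZMod (2 * 2 ^ m), (a i : QuaternionGroup (2 ^ m)) ∈
      Subgroup.zpowers (a 1 : QuaternionGroup (2 ^ m)) := by
    intro i
    rw [← mem_powers_iff_mem_zpowers]
    refine ⟨i.val, ?_⟩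
    simp only
    rw [QuaternionGroup.a_one_pow, ZMod.natCast_zmod_val]
  apply Cfsg.Agent.S3116.aut_isPGroup_of_cyclic_index_two (a 1) (m + 1) (by omega) hord
  · have h1 : Nat.card (Subgroup.zpowers (a 1 : QuaternionGroup (2 ^ m))) = 2 ^ (m + 1) := by
      rw [Nat.card_zpowers, hord]
    have h2 := Subgroup.card_mul_index (Subgroup.zpowers (a 1 : QuaternionGroup (2 ^ m)))
    rw [h1, Nat.card_eq_fintype_card, QuaternionGroup.card] at h2
    have h3 : 4 * 2 ^ m = 2 ^ (m + 1) * 2 := by ring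
    rw [h3] at h2
    exact Nat.eq_of_mul_eq_mul_left (by positivity) h2
  · intro g hg
    rcases g with i | i
    · exact absurd (hmem i) hg
    · rw [QuaternionGroup.orderOf_xa]
      calc 4 = 2 ^ 2 := by norm_num
        _ < 2 ^ (m + 1) := Nat.pow_lt_pow_right (by norm_num) (by omega)

/-- The quaternion group of order 8 has at most 24 automorphisms. -/
theorem card_aut_q8_le : Nat.card (MulAut (QuaternionGroup 2)) ≤ 24 := by
  classical
  let S : Finset (QuaternionGroup 2 × QuaternionGroup 2) :=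
    Finset.univ.filter fun p => p.1 ^ 2 ≠ 1 ∧ p.2 ^ 2 ≠ 1 ∧ p.2 ≠ p.1 ∧ p.2 ≠ p.1⁻¹
  have hS : S.card = 24 := by decide +kernel
  let f : MulAut (QuaternionGroup 2) → S := fun φ =>
    ⟨(φ (a 1), φ (xa 0)), by
      simp only [S, Finset.mem_filter, Finset.mem_univ, true_and]
      refine ⟨?_, ?_, ?_, ?_⟩
      · rw [← map_pow, Ne, EmbeddingLike.map_eq_one_iff]; decide
      · rw [← map_pow, Ne, EmbeddingLike.map_eq_one_iff]; decide
      · rw [Ne, EmbeddingLike.apply_eq_iff_eq]; decide
      · rw [← map_inv, Ne, EmbeddingLike.apply_eq_iff_eq]; decide⟩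
  have hf : Function.Injective f := by
    intro φ ψ h
    have h1 : φ (a 1) = ψ (a 1) := congrArg (fun s : S => s.1.1) h
    have h2 : φ (xa 0) = ψ (xa 0) := congrArg (fun s : S => s.1.2) h
    have ha : ∀ i : ZMod (2 * 2), φ (a i) = ψ (a i) := by
      intro i
      have : (a i : QuaternionGroup 2) = a 1 ^ i.val := by
        rw [QuaternionGroup.a_one_pow, ZMod.natCast_zmod_val]
      rw [this, map_pow, map_pow, h1]
    ext g
    rcases g with i | i
    · exact ha i
    · have : (xa i : QuaternionGroup 2) = xa 0 * a i := by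
        rw [QuaternionGroup.xa_mul_a, zero_add]
      rw [this, map_mul, map_mul, h2, ha i]
  have := Nat.card_le_card_of_injective f hf
  rwa [Nat.card_eq_fintype_card (α := S), Fintype.card_coe, hS] at this

/-- A finite group with a normal subgroup `Q` containing its centralizer, such that `Q` and
`Aut Q` are 2-groups, is a 2-group. -/
theorem isPGroup_of_aut_isPGroup {H : Type*} [Group H] (Q : Subgroup H) [Q.Normal]
    (hQ : IsPGroup 2 Q) (hC : Subgroup.centralizer (Q : Set H) ≤ Q)
    (hA : IsPGroup 2 (MulAut Q)) : IsPGroup 2 H := by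
  intro g
  obtain ⟨k, hk⟩ := hA (MulAut.conjNormal g)
  have h1 : g ^ 2 ^ k ∈ Subgroup.centralizer (Q : Set H) := by
    rw [Subgroup.mem_centralizer_iff]
    intro q hq
    have h2 := congrArg (fun φ : MulAut Q => ((φ ⟨q, hq⟩ : Q) : H)) hk
    simp only [← map_pow, MulAut.conjNormal_apply, MulAut.one_apply] at h2
    rw [mul_inv_eq_iff_eq_mul] at h2
    exact h2.symm
  obtain ⟨l, hl⟩ := hQ ⟨_, hC h1⟩
  refine ⟨k + l, ?_⟩
  rw [pow_add, pow_mul]
  exact congrArg Subtype.val hl

/-- Central elements of the quaternion group of order 8. -/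
theorem q8_central (z : QuaternionGroup 2) (hz : ∀ h : QuaternionGroup 2, z * h = h * z) :
    z = 1 ∨ z = a 2 := by
  revert z
  decide +kernel

/-- A finite group `H` with a normal subgroup `Q ≅ Q₈` containing its centralizer has order at
most 48. -/
theorem card_le_of_q8 {H : Type*} [Group H] [Finite H] (Q : Subgroup H) [Q.Normal]
    (hC : Subgroup.centralizer (Q : Set H) ≤ Q) (e : Q ≃* QuaternionGroup 2) :
    Nat.card H ≤ 48 := by
  classical
  let φ : H →* MulAut Q := MulAut.conjNormal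
  have hker : φ.ker ≤ Subgroup.centralizer (Q : Set H) := by
    intro g hg
    rw [MonoidHom.mem_ker] at hg
    rw [Subgroup.mem_centralizer_iff]
    intro q hq
    have h2 := congrArg (fun ψ : MulAut Q => ((ψ ⟨q, hq⟩ : Q) : H)) hg
    simp only [φ, MulAut.conjNormal_apply, MulAut.one_apply] at h2
    rw [mul_inv_eq_iff_eq_mul] at h2
    exact h2.symm
  -- the kernel has order at most 2
  have hk2 : Nat.card φ.ker ≤ 2 := by
    let f : φ.ker → ({1, a 2} : Finset (QuaternionGroup 2)) := fun g =>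
      ⟨e ⟨g.1, hC (hker g.2)⟩, by
        have hz : ∀ h : QuaternionGroup 2, e ⟨g.1, hC (hker g.2)⟩ * h = h * e ⟨g.1, hC (hker g.2)⟩ := by
          intro h
          obtain ⟨q, rfl⟩ := e.surjective h
          rw [← map_mul, ← map_mul]
          congr 1
          apply Subtype.ext
          have := (Subgroup.mem_centralizer_iff.mp (hker g.2)) q.1 q.2
          exact this.symm
        rcases q8_central _ hz with h | h
        · rw [h]; simp
        · rw [h]; simp⟩
    have hf : Function.Injective f := by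
      intro g g' h
      have h1 : e ⟨g.1, hC (hker g.2)⟩ = e ⟨g'.1, hC (hker g'.2)⟩ := congrArg Subtype.val h
      have h2 := e.injective h1
      exact Subtype.ext (Subtype.mk.inj h2)
    have := Nat.card_le_card_of_injective f hf
    rw [Nat.card_eq_fintype_card (α := ({1, a 2} : Finset (QuaternionGroup 2))), Fintype.card_coe] at this
    exact this.trans (by decide)
  have hr : Nat.card φ.range ≤ 24 := by
    have h1 : Nat.card φ.range ≤ Nat.card (MulAut Q) :=
      Nat.card_le_card_of_injective _ Subtype.val_injective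
    have h2 : Nat.card (MulAut Q) = Nat.card (MulAut (QuaternionGroup 2)) :=
      Nat.card_congr (MulAut.congr e).toEquiv
    rw [h2] at h1
    exact h1.trans card_aut_q8_le
  have h3 := Subgroup.card_mul_index φ.ker
  rw [Subgroup.index_ker] at h3
  calc Nat.card H = Nat.card φ.ker * Nat.card φ.range := h3.symm
    _ ≤ 2 * 24 := Nat.mul_le_mul hk2 hr

theorem result {G : Type*} [Group G] [Finite G] (hsol : Group.IsSolvable G) (T : Sylow 2 G) (n : ℕ) (hn : 3 ≤ n) (hT : Nonempty ((T : Subgroup G) ≃* QuaternionGroup (2 ^ n))) : Cfsg.HasNormalPComplement 2 G := by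
  classical
  haveI : Fact (Nat.Prime 2) := ⟨Nat.prime_two⟩
  haveI := hsol
  obtain ⟨eT⟩ := hT
  obtain ⟨n', rfl⟩ : ∃ n', n = n' + 2 := ⟨n - 2, by omega⟩
  set N := pPrimeCore 2 G with hN
  have hNc : (Nat.card N).Coprime 2 := Cfsg.Agent.Lib.Helper20.pPrimeCore_coprime' 2
  -- it suffices that `G ⧸ N` is a 2-group
  suffices h : IsPGroup 2 (G ⧸ N) by
    obtain ⟨k, hk⟩ := IsPGroup.iff_card.mp h
    exact Cfsg.Agent.Lib.Helper17.hasNormalPComplement_of_normal_coprime_ppow_index N hNc
      ⟨k, by rw [Subgroup.index_eq_card]; exact hk⟩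
  have hO : pPrimeCore 2 (G ⧸ N) = ⊥ := Cfsg.Agent.Lib.Helper20.pPrimeCore_quotient_eq_bot 2
  have hC := Cfsg.Agent.Lib.Helper20.solvable_centralizer_pCore_le (G := G ⧸ N) 2 hO
  have hQ : IsPGroup 2 (pCore 2 (G ⧸ N)) := Cfsg.Agent.Lib.Helper20.pCore_isPGroup' 2
  -- the image of `T`
  have hsurj : Function.Surjective (QuotientGroup.mk' N) := QuotientGroup.mk'_surjective N
  let T' : Sylow 2 (G ⧸ N) := T.mapSurjective hsurj
  have hT' : (T' : Subgroup (G ⧸ N)) = (T : Subgroup G).map (QuotientGroup.mk' N) :=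
    Sylow.coe_mapSurjective hsurj T
  have hdis : (T : Subgroup G) ⊓ N = ⊥ := by
    rw [← disjoint_iff]
    apply Subgroup.disjoint_of_coprime_natCard
    obtain ⟨k, hk⟩ := IsPGroup.iff_card.mp T.2
    rw [hk]
    exact (Nat.Coprime.pow_right k hNc).symm
  have hbij : Function.Bijective ((QuotientGroup.mk' N).subgroupMap (T : Subgroup G)) := by
    refine ⟨?_, MonoidHom.subgroupMap_surjective _ _⟩
    rw [injective_iff_map_eq_one]
    intro x hx
    have h1 : (QuotientGroup.mk' N) (x : G) = 1 := congrArg Subtype.val hx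
    rw [← MonoidHom.mem_ker, QuotientGroup.ker_mk'] at h1
    have h2 : (x : G) ∈ (T : Subgroup G) ⊓ N := ⟨x.2, h1⟩
    rw [hdis, Subgroup.mem_bot] at h2
    exact Subtype.ext h2
  let e1 : (T : Subgroup G) ≃* (T : Subgroup G).map (QuotientGroup.mk' N) :=
    MulEquiv.ofBijective _ hbij
  let e2 : (T' : Subgroup (G ⧸ N)) ≃* QuaternionGroup (2 ^ (n' + 2)) :=
    ((MulEquiv.subgroupCongr hT').trans e1.symm).trans eT
  have hinv := Cfsg.Agent.Lib.Helper3.unique_inv_of_isPGroup T'
    (Cfsg.Agent.Lib.Helper3.unique_inv_sylow T' n' e2) (pCore 2 (G ⧸ N)) hQ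
  have huniq : Cfsg.Agent.Lib.Lead.UniqueOrderP.UniqueOrderP 2 (pCore 2 (G ⧸ N)) := by
    intro H1 H2 h1 h2
    obtain ⟨x, hx⟩ := exists_prime_orderOf_dvd_card' (G := H1) 2 (by rw [h1])
    obtain ⟨y, hy⟩ := exists_prime_orderOf_dvd_card' (G := H2) 2 (by rw [h2])
    have hxy : (x : pCore 2 (G ⧸ N)) = (y : pCore 2 (G ⧸ N)) := by
      ext
      apply hinv _ _ (x : pCore 2 (G ⧸ N)).2 (y : pCore 2 (G ⧸ N)).2
      · rw [Subgroup.orderOf_coe, Subgroup.orderOf_coe]; exact hx
      · rw [Subgroup.orderOf_coe, Subgroup.orderOf_coe]; exact hy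
    have e1 : Subgroup.zpowers (x : pCore 2 (G ⧸ N)) = H1 := by
      apply Subgroup.eq_of_le_of_card_ge (Subgroup.zpowers_le.mpr x.2)
      rw [Nat.card_zpowers, Subgroup.orderOf_coe, hx, h1]
    have e2 : Subgroup.zpowers (y : pCore 2 (G ⧸ N)) = H2 := by
      apply Subgroup.eq_of_le_of_card_ge (Subgroup.zpowers_le.mpr y.2)
      rw [Nat.card_zpowers, Subgroup.orderOf_coe, hy, h2]
    rw [← e1, ← e2, hxy]
  -- the cyclic case
  have hcyc : IsCyclic (pCore 2 (G ⧸ N)) → IsPGroup 2 (G ⧸ N) := by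
    intro hc
    apply isPGroup_of_aut_isPGroup (pCore 2 (G ⧸ N)) hQ hC
    have hdvd := Cfsg.Agent.Lib.Helper3.card_mulAut_dvd_of_cyclic_two_group hQ
    obtain ⟨k, hk⟩ := IsPGroup.iff_card.mp hQ
    rw [hk] at hdvd
    obtain ⟨j, -, hj⟩ := (Nat.dvd_prime_pow Nat.prime_two).mp hdvd
    exact IsPGroup.of_card hj
  rcases Cfsg.Agent.Lib.Lead.UniqueSubgroup.cyclic_or_quaternion hQ huniq with hc | ⟨-, m, ⟨e⟩⟩
  · exact hcyc hc
  · rcases m with _ | _ | m
    · -- `QuaternionGroup 1` is cyclic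
      apply hcyc
      haveI := QuaternionGroup.quaternionGroup_one_isCyclic
      exact isCyclic_of_surjective e.symm e.symm.surjective
    · -- `Q₈`
      have h48 : Nat.card (G ⧸ N) ≤ 48 := card_le_of_q8 (pCore 2 (G ⧸ N)) hC e
      have hcT : Nat.card (T' : Subgroup (G ⧸ N)) = 2 ^ (n' + 4) := by
        rw [Nat.card_congr e2.toEquiv, Nat.card_eq_fintype_card, QuaternionGroup.card]
        ring
      have hdvd : 2 ^ (n' + 4) ∣ Nat.card (G ⧸ N) := by
        rw [← hcT]; exact Subgroup.card_subgroup_dvd_card _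
      obtain ⟨r, hr⟩ := hdvd
      have h32 : 32 ≤ 2 ^ (n' + 4) := by
        calc 32 = 2 ^ 5 := by norm_num
          _ ≤ 2 ^ (n' + 4) := Nat.pow_le_pow_right (by norm_num) (by omega)
      have hr1 : r = 1 := by
        have hr0 : r ≠ 0 := by
          rintro rfl
          rw [mul_zero] at hr
          exact Nat.card_pos.ne' hr
        by_contra hne
        have : 2 ≤ r := by omega
        have : 2 ^ (n' + 4) * 2 ≤ 2 ^ (n' + 4) * r := Nat.mul_le_mul_left _ this
        omega
      rw [hr1, mul_one] at hr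
      exact IsPGroup.of_card hr
    · -- generalized quaternion of order at least 16
      apply isPGroup_of_aut_isPGroup (pCore 2 (G ⧸ N)) hQ hC
      exact (aut_quaternion_isPGroup (m + 2) (by omega)).of_equiv (MulAut.congr e).symm

end Cfsg.Agent.S3294
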