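import Cfsg.Statements.S3303
import Mathlib
import Cfsg.Agent.Lib.Helper20.PConstrained2
import Cfsg.Agent.Lib.Helper20.Bender
import Cfsg.Agent.Lib.Helper20.Cores
import Cfsg.Agent.Lib.Helper2.Cores

set_option autoImplicit false
open Cfsg

namespace Cfsg.Agent.S3303

theorem eq_one_of_coprime_two {G : Type*} [Group G] [Finite G] {K : Subgroup G}
    (hK : (Nat.card K).Coprime 2) {x : G} (hx : x ∈ K) {k : ℕ} (hk : x ^ 2 ^ k = 1) : x = 1 := by
  have h1 : orderOf x ∣ Nat.card K := Subgroup.orderOf_dvd_natCard K hx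
  have h2 : orderOf x ∣ 2 ^ k := orderOf_dvd_of_pow_eq_one hk
  have hc : (Nat.card K).Coprime (2 ^ k) := Nat.Coprime.pow_right k hK
  have := Nat.dvd_gcd h1 h2
  rw [hc.gcd_eq_one] at this
  exact orderOf_eq_one_iff.mp (Nat.dvd_one.mp this)

/-- Let G be a finite solvable group in which the intersection of any two distinct Sylow 2-subgroups is cyclic. Then G/O(G) has a normal Sylow 2-subgroup, where O(G) is the largest normal subgroup of odd order. -/
theorem result {G : Type*} [Group G] [Finite G] (hs : Group.IsSolvable G)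
    (hC : ∀ S T : Sylow 2 G, S ≠ T → IsCyclic ↥((S : Subgroup G) ⊓ (T : Subgroup G))) :
    ∃ P : Sylow 2 (G ⧸ Cfsg.oddCore G), (P : Subgroup (G ⧸ Cfsg.oddCore G)).Normal := by
  classical
  haveI : Fact (Nat.Prime 2) := ⟨Nat.prime_two⟩
  haveI := hs
  change ∃ P : Sylow 2 (G ⧸ pPrimeCore 2 G), (P : Subgroup (G ⧸ pPrimeCore 2 G)).Normal
  set K := pPrimeCore 2 G with hK
  have hKc : (Nat.card K).Coprime 2 := Cfsg.Agent.Lib.Helper2.pPrimeCore_coprime 2
  set π := QuotientGroup.mk' K with hπ
  have hπs : Function.Surjective π := QuotientGroup.mk'_surjective K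
  have hker : ∀ x : G, π x = 1 ↔ x ∈ K := fun x => by
    rw [hπ, QuotientGroup.mk'_apply, QuotientGroup.eq_one_iff]
  set Tb := pCore 2 (G ⧸ K) with hTb
  have hTb2 : IsPGroup 2 Tb := Cfsg.Agent.Lib.Helper2.pCore_isPGroup 2
  have hcent : Subgroup.centralizer (Tb : Set (G ⧸ K)) ≤ Tb :=
    Cfsg.Agent.Lib.Helper20.solvable_centralizer_pCore_le 2
      (Cfsg.Agent.Lib.Helper20.pPrimeCore_quotient_eq_bot 2)
  obtain ⟨S⟩ : Nonempty (Sylow 2 G) := inferInstance
  have hTS : Tb ≤ (S : Subgroup G).map π := by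
    have := Cfsg.Agent.Lib.Helper2.pCore_le_sylow 2 (S.mapSurjective hπs)
    rwa [Sylow.coe_mapSurjective] at this
  refine ⟨S.mapSurjective hπs, ?_⟩
  set L := Tb.comap π with hL
  have hLn : L.Normal := inferInstance
  set T₁ := (S : Subgroup G) ⊓ L with hT₁
  have hT₁L : T₁ ≤ L := inf_le_right
  have hT₁S : T₁ ≤ S := inf_le_left
  have hmap : T₁.map π = Tb := by
    apply le_antisymm
    · rintro _ ⟨x, hx, rfl⟩
      exact hx.2
    · intro y hy
      obtain ⟨s, hs', rfl⟩ := hTS hy
      exact ⟨s, ⟨hs', hy⟩, rfl⟩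
  by_cases hcyc : IsCyclic ↥T₁
  · -- case 1
    haveI : IsCyclic ↥Tb := by
      have : IsCyclic ↥(T₁.map π) :=
        isCyclic_of_surjective (π.subgroupMap T₁) (π.subgroupMap_surjective T₁)
      rwa [hmap] at this
    have hAut : IsPGroup 2 (MulAut ↥Tb) := by
      obtain ⟨a, ha⟩ := IsPGroup.iff_card.mp hTb2
      have hcard := IsCyclic.card_mulAut (G := ↥Tb)
      rw [ha] at hcard
      rcases Nat.eq_zero_or_pos a with rfl | hpos
      · apply IsPGroup.of_card (n := 0); rw [hcard]; simp
      · apply IsPGroup.of_card (n := a - 1)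
        rw [hcard, Nat.totient_prime_pow Nat.prime_two hpos]; simp
    let φ : (G ⧸ K) →* MulAut ↥Tb := MulAut.conjNormal
    have hkerφ : φ.ker ≤ Tb := by
      intro x hx
      apply hcent
      rw [Subgroup.mem_centralizer_iff]
      intro t ht
      have h1 : φ x ⟨t, ht⟩ = ⟨t, ht⟩ := by rw [MonoidHom.mem_ker.mp hx]; rfl
      have h2 := congrArg Subtype.val h1
      rw [MulAut.conjNormal_apply] at h2
      calc t * x = (x * t * x⁻¹) * x := by rw [h2]
        _ = x * t := by group
    have hG2 : IsPGroup 2 (G ⧸ K) := by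
      intro g
      obtain ⟨a, ha⟩ := hAut (φ g)
      have hmem : g ^ 2 ^ a ∈ Tb := hkerφ (by rw [MonoidHom.mem_ker, map_pow, ha])
      obtain ⟨b, hb⟩ := hTb2 ⟨_, hmem⟩
      refine ⟨a + b, ?_⟩
      have := congrArg Subtype.val hb
      simp only [Subgroup.coe_pow, Subgroup.coe_one] at this
      rw [pow_add, pow_mul, this]
    have : (⊤ : Subgroup (G ⧸ K)) = (S.mapSurjective hπs : Subgroup (G ⧸ K)) :=
      (S.mapSurjective hπs).is_maximal' (hG2.to_subgroup ⊤) le_top
    rw [← this]
    infer_instance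
  · -- case 2
    have hT₁2 : IsPGroup 2 ↥T₁ := S.2.to_le hT₁S
    let P : Sylow 2 ↥L :=
      { toSubgroup := T₁.subgroupOf L
        isPGroup' := hT₁2.comap_subtype
        is_maximal' := by
          intro Q hQ hle
          apply le_antisymm _ hle
          intro q hq
          have hπq : π q ∈ Tb := q.2
          rw [← hmap] at hπq
          obtain ⟨t, ht, hteq⟩ := hπq
          let t' : ↥L := ⟨t, hT₁L ht⟩
          have ht'Q : t' ∈ Q := hle (by rw [Subgroup.mem_subgroupOf]; exact ht)
          have hx : t'⁻¹ * q ∈ Q := Q.mul_mem (Q.inv_mem ht'Q) hq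
          obtain ⟨k, hk⟩ := hQ ⟨_, hx⟩
          have hk' : ((t'⁻¹ * q : ↥L) : G) ^ 2 ^ k = 1 := by
            have := congrArg (fun z : ↥Q => ((z : ↥L) : G)) hk
            simpa using this
          have hxK : ((t'⁻¹ * q : ↥L) : G) ∈ K := by
            rw [← hker]
            simp [t', hteq]
          have h1 := eq_one_of_coprime_two hKc hxK hk'
          have h2 : t'⁻¹ * q = 1 := Subtype.ext h1
          have h3 : q = t' := by
            calc q = t' * (t'⁻¹ * q) := by group
              _ = t' := by rw [h2, mul_one]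
          rw [h3, Subgroup.mem_subgroupOf]; exact ht }
    have hPmap : (P : Subgroup ↥L).map L.subtype = T₁ := by
      show (T₁.subgroupOf L).map L.subtype = T₁
      rw [Subgroup.subgroupOf_map_subtype, inf_of_le_left hT₁L]
    have hFr := Sylow.normalizer_sup_eq_top P
    rw [hPmap] at hFr
    have hnorm : ∀ x ∈ Subgroup.normalizer (T₁ : Set G),
        x ∈ Subgroup.normalizer ((S : Subgroup G) : Set G) := by
      intro x hx
      apply Sylow.smul_eq_iff_mem_normalizer.mp
      by_contra hne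
      have hcy := hC S (x • S) (Ne.symm hne)
      have hle : T₁ ≤ (S : Subgroup G) ⊓ ((x • S : Sylow 2 G) : Subgroup G) := by
        intro t ht
        refine Subgroup.mem_inf.mpr ⟨hT₁S ht, ?_⟩
        rw [Sylow.coe_subgroup_smul, Subgroup.mem_pointwise_smul_iff_inv_smul_mem]
        have h4 := (Subgroup.mem_normalizer_iff.mp (inv_mem hx) t).mp ht
        have h3 : (MulAut.conj x)⁻¹ • t = x⁻¹ * t * x⁻¹⁻¹ := by
          simp [MulAut.smul_def]
        rw [h3]; exact hT₁S h4
      apply hcyc
      haveI := hcy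
      exact (Subgroup.subgroupOfEquivOfLe hle).isCyclic.mp inferInstance
    rw [Sylow.coe_mapSurjective, ← Subgroup.normalizer_eq_top_iff, eq_top_iff]
    intro gb _
    obtain ⟨g, rfl⟩ := hπs gb
    have hg : g ∈ Subgroup.normalizer (T₁ : Set G) ⊔ L := by rw [hFr]; trivial
    rw [Subgroup.mem_sup_of_normal_right] at hg
    obtain ⟨n, hn, l, hl, rfl⟩ := hg
    rw [map_mul]
    apply mul_mem
    · exact Subgroup.le_normalizer_map π ⟨n, hnorm n hn, rfl⟩
    · exact Subgroup.le_normalizer (hTS hl)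

end Cfsg.Agent.S3303
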