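import Cfsg.Statements.S3309
import Cfsg.Agent.Lib.Helper8.ThompsonTransfer
import Cfsg.Agent.S1853
import Cfsg.Agent.S2872
import Mathlib

set_option autoImplicit false
open Cfsg

namespace Cfsg.Agent.S3309

theorem d8_center : ∀ x : DihedralGroup 4, (∀ y : DihedralGroup 4, y * x = x * y) →
    x = 1 ∨ x = (DihedralGroup.r 1) ^ 2 := by
  decide

theorem zmod2_sq (a : Multiplicative (ZMod 2)) : a ^ 2 = 1 := by
  revert a; decide

theorem result {G : Type*} [Group G] [Finite G] (S : Sylow 2 G) (hS : Nonempty (↥(S : Subgroup G) ≃* Multiplicative (ZMod 2) × DihedralGroup 4))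
    [IsSimpleGroup G] (hG : ¬ IsMulCommutative G) : False := by
  classical
  obtain ⟨e⟩ := hS
  obtain ⟨a₀, hne1⟩ : ∃ a₀ : Multiplicative (ZMod 2), a₀ ≠ 1 := ⟨Multiplicative.ofAdd 1, by decide⟩
  have : Fact (Nat.Prime 2) := ⟨Nat.prime_two⟩
  -- the projection to Z2
  set π : ↥(S : Subgroup G) →* Multiplicative (ZMod 2) :=
    (MonoidHom.fst _ _).comp e.toMonoidHom with hπ
  have hπsurj : Function.Surjective π := by
    intro a
    refine ⟨e.symm (a, 1), ?_⟩
    simp [hπ]
  set T' : Subgroup (S : Subgroup G) := π.ker with hT'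
  have hT'n : T'.Normal := inferInstance
  have hT'idx : T'.index = 2 := by
    rw [hT', Subgroup.index_ker, MonoidHom.range_eq_top.mpr hπsurj, Subgroup.card_top]
    simp [Nat.card_eq_fintype_card]
  set T : Subgroup G := T'.map (S : Subgroup G).subtype with hT
  have hTS : T ≤ (S : Subgroup G) := Subgroup.map_subtype_le T'
  have hTsub : T.subgroupOf (S : Subgroup G) = T' := by
    rw [hT, Subgroup.subgroupOf, Subgroup.comap_map_eq_self_of_injective (Subgroup.subtype_injective _)]
  have hTn : (T.subgroupOf (S : Subgroup G)).Normal := by rw [hTsub]; exact hT'n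
  have hcard2 : Nat.card (↥(S : Subgroup G) ⧸ T.subgroupOf (S : Subgroup G)) = 2 := by
    rw [hTsub]; exact hT'idx
  have hcyc : IsCyclic (↥(S : Subgroup G) ⧸ T.subgroupOf (S : Subgroup G)) :=
    isCyclic_of_prime_card hcard2
  -- the involution z
  set z' : ↥(S : Subgroup G) := e.symm (a₀, 1) with hz'
  have hez : e z' = (a₀, 1) := by rw [hz']; simp
  have hz'2 : z' ^ 2 = 1 := by
    apply e.injective
    rw [map_pow, hez, map_one e]
    ext
    · exact zmod2_sq _
    · simp
  have hz'1 : z' ≠ 1 := by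
    intro h
    have := congrArg e h
    rw [hez, map_one e] at this
    exact hne1 (congrArg Prod.fst this)
  have hz'c : ∀ s' : ↥(S : Subgroup G), s' * z' = z' * s' := by
    intro s'
    apply e.injective
    rw [map_mul, map_mul, hez]
    ext
    · simp [mul_comm]
    · simp
  set z : G := (z' : G) with hz
  have hzS : z ∈ (S : Subgroup G) := z'.2
  have hz2 : z ^ 2 = 1 := by
    have := congrArg Subtype.val hz'2
    simpa using this
  have hz1 : z ≠ 1 := by
    intro h
    apply hz'1
    apply Subtype.ext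
    rw [Subgroup.coe_one]
    exact h
  have hzord : orderOf z = 2 := orderOf_eq_prime hz2 hz1
  have hzT : z ∉ T := by
    rintro ⟨t', ht', htz⟩
    have : t' = z' := Subtype.ext htz
    have ht' : t' ∈ π.ker := ht'
    rw [this, MonoidHom.mem_ker, hπ] at ht'
    simp only [MonoidHom.coe_comp, MulEquiv.coe_toMonoidHom, Function.comp_apply, hez,
      MonoidHom.coe_fst] at ht'
    exact hne1 ht'
  have htriv : ∀ f : G →* (↥(S : Subgroup G) ⧸ T.subgroupOf (S : Subgroup G)), ∀ g, f g = 1 :=
    fun f g => Cfsg.Agent.S1853.hom_cyclic_trivial hG hcyc f g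
  obtain ⟨g, hgT, -, hmap⟩ :=
    Cfsg.Agent.Lib.Helper8.extremal_transfer S T hTS hcyc htriv z hzord hzS hzT
  have hzcomm : ∀ s ∈ (S : Subgroup G), s * z = z * s := by
    intro s hs
    have := congrArg Subtype.val (hz'c ⟨s, hs⟩)
    simpa using this
  have hCS : (S : Subgroup G) ⊓ Subgroup.centralizer {z} = (S : Subgroup G) := by
    apply le_antisymm inf_le_left
    intro s hs
    refine Subgroup.mem_inf.mpr ⟨hs, ?_⟩
    rw [Subgroup.mem_centralizer_iff]
    intro h hh
    rw [Set.mem_singleton_iff] at hh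
    subst hh
    exact (hzcomm s hs).symm
  rw [hCS] at hmap
  have hgN : g ∈ Subgroup.normalizer ((S : Subgroup G) : Set G) :=
    Cfsg.Agent.S2872.mem_normalizer_of_map_conj_le _ g (hmap.trans inf_le_left)
  have hginvN : ∀ s ∈ (S : Subgroup G), g⁻¹ * s * g ∈ (S : Subgroup G) := by
    intro s hs
    have := (Subgroup.mem_normalizer_iff.mp (inv_mem hgN) s).mp hs
    simpa using this
  -- w = g z g⁻¹
  obtain ⟨w', hw'T, hw'⟩ := hgT
  have hw'eq : (w' : G) = g * z * g⁻¹ := hw'
  -- w' central in S
  have hw'c : ∀ s' : ↥(S : Subgroup G), s' * w' = w' * s' := by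
    intro s'
    apply Subtype.ext
    simp only [Subgroup.coe_mul, hw'eq]
    have h1 := hzcomm _ (hginvN (s' : G) s'.2)
    calc (s' : G) * (g * z * g⁻¹) = g * ((g⁻¹ * s' * g) * z) * g⁻¹ := by group
      _ = g * (z * (g⁻¹ * s' * g)) * g⁻¹ := by rw [h1]
      _ = g * z * g⁻¹ * s' := by group
  have hw'1 : (e w').1 = 1 := by
    have hw'T : w' ∈ π.ker := hw'T
    rw [MonoidHom.mem_ker, hπ] at hw'T
    simpa using hw'T
  have hw'2c : ∀ y : DihedralGroup 4, y * (e w').2 = (e w').2 * y := by
    intro y
    have := congrArg e (hw'c (e.symm (1, y)))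
    rw [map_mul, map_mul, MulEquiv.apply_symm_apply] at this
    have := congrArg Prod.snd this
    simpa using this
  rcases d8_center _ hw'2c with h1 | h2
  · -- w' = 1
    have hw1 : w' = 1 := by
      apply e.injective
      rw [map_one e]
      ext
      · exact hw'1
      · exact h1
    have : g * z * g⁻¹ = 1 := by rw [← hw'eq, hw1]; rfl
    apply hz1
    have e2 : z = g⁻¹ * (g * z * g⁻¹) * g := by group
    rw [e2, this]; group
  · -- w' is a square
    set s₀ : ↥(S : Subgroup G) := e.symm (1, DihedralGroup.r 1) with hs₀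
    have hw_sq : w' = s₀ ^ 2 := by
      apply e.injective
      rw [map_pow, hs₀, MulEquiv.apply_symm_apply]
      ext
      · rw [hw'1]; simp
      · rw [h2]; simp
    set t : G := g⁻¹ * (s₀ : G) * g with ht
    have htS : t ∈ (S : Subgroup G) := hginvN _ s₀.2
    have hzt : z = t ^ 2 := by
      have e2 : z = g⁻¹ * (g * z * g⁻¹) * g := by group
      rw [e2, ← hw'eq, hw_sq, ht]
      simp only [pow_two, Subgroup.coe_mul]
      group
    have hz't : z' = (⟨t, htS⟩ : ↥(S : Subgroup G)) ^ 2 := by
      apply Subtype.ext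
      simp only [Subgroup.coe_pow]
      exact hzt
    have := congrArg e hz't
    rw [hez, map_pow] at this
    have := congrArg Prod.fst this
    simp only [Prod.pow_fst] at this
    rw [zmod2_sq] at this
    exact hne1 this

end Cfsg.Agent.S3309
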