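-- Statement S3315: index-two overgroups of a Sylow 2-subgroup of SU_3(2^n) centralise its centre.
-- Proof (helper6): explicit parameter model `Par c` of the Sylow subgroup; an automorphism whose
-- square is inner induces a semilinear involution on `F` compatible with the norm form; a binary
-- form over the fixed field of the companion automorphism becomes isotropic over the quadratic
-- extension (Artin-Schreier), which forces the action on the centre to be trivial.
import Cfsg.Statements.S3315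
import Mathlib
import Cfsg.Agent.Lib.Helper6.SU3Sylow

set_option autoImplicit false
open Cfsg

namespace Cfsg.Agent.S3315

open Cfsg.Agent.Lib.Helper6.SU3Par Cfsg.Agent.Lib.Helper6.SU3Sylow

variable {F : Type*} [Field F]

theorem eq_of_add_eq_zero (c : Cfg F) {x y : F} (h : x + y = 0) : x = y := by
  have := Par.add_self c y
  linear_combination h - this

theorem sig_ne (c : Cfg F) {a : F} (ha : a ≠ 0) : c.σ a ≠ 0 := by
  intro h0
  have := congrArg c.σ h0
  rw [c.invol, map_zero] at this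
  exact ha this

theorem fix_div (c : Cfg F) {a a' : F} (h : c.σ a * a' + c.σ a' * a = 0) (ha : a ≠ 0) :
    c.σ (a' / a) = a' / a := by
  have hsa : c.σ a ≠ 0 := by
    intro h0
    have := congrArg c.σ h0
    rw [c.invol, map_zero] at this
    exact ha this
  rw [map_div₀, div_eq_div_iff hsa ha]
  linear_combination h - (c.σ a * a') * c.two

/-- the semilinear data extracted from an automorphism -/
structure Dat (c : Cfg F) where
  ρ : F →+ F
  τ : F → F
  htr : ∀ y, c.σ y = y → ∃ x, x + c.σ x = y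
  hnf : ∃ t, c.σ t ≠ t
  hρ2 : ∀ a, ρ (ρ a) = a
  hτK : ∀ w, c.σ w = w → c.σ (τ w) = τ w
  hτ2 : ∀ w, c.σ w = w → τ (τ w) = w
  hN : ∀ a, ρ a * c.σ (ρ a) = τ (a * c.σ a)
  hB : ∀ a a', c.σ (ρ a) * ρ a' + c.σ (ρ a') * ρ a = τ (c.σ a * a' + c.σ a' * a)

namespace Dat

variable {c : Cfg F} (D : Dat c)

theorem τ_zero : D.τ 0 = 0 := by
  have := D.hN 0
  simp only [map_zero, mul_zero] at this
  exact this.symm

theorem ρ_ne {a : F} (ha : a ≠ 0) : D.ρ a ≠ 0 := by
  intro h
  apply ha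
  rw [← D.hρ2 a, h, map_zero]

theorem exists_m {a : F} (ha : a ≠ 0) {l : F} (hl : c.σ l = l) :
    ∃ m, c.σ m = m ∧ D.ρ (a * l) = D.ρ a * m := by
  have h0 : c.σ (D.ρ a) * D.ρ (a * l) + c.σ (D.ρ (a * l)) * D.ρ a = 0 := by
    rw [D.hB]
    have : c.σ a * (a * l) + c.σ (a * l) * a = 0 := by
      rw [map_mul, hl]; linear_combination (c.σ a * a * l) * c.two
    rw [this, D.τ_zero]
  refine ⟨D.ρ (a * l) / D.ρ a, fix_div c h0 (D.ρ_ne ha), ?_⟩
  rw [mul_div_cancel₀ _ (D.ρ_ne ha)]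

theorem tau_mul {a : F} (ha : a ≠ 0) {l m : F} (hl : c.σ l = l) (hm : c.σ m = m)
    (h : D.ρ (a * l) = D.ρ a * m) (w : F) (hw : c.σ w = w) : D.τ (l * w) = m * D.τ w := by
  obtain ⟨x, hx⟩ := D.htr w hw
  have hsa := sig_ne c ha
  set a' := x / c.σ a with ha'
  have h1 : c.σ a * a' + c.σ a' * a = w := by
    rw [ha', map_div₀, c.invol, mul_div_cancel₀ _ hsa, div_mul_cancel₀ _ ha]; exact hx
  have h2 : c.σ (a * l) * a' + c.σ a' * (a * l) = l * w := by
    rw [map_mul, hl, ← h1]; ring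
  rw [← h2, ← D.hB, h, map_mul, hm, ← h1, ← D.hB]
  ring

theorem c0_ne : D.τ 1 ≠ 0 := by
  intro h
  have := D.hτ2 1 (map_one _)
  rw [h, D.τ_zero] at this
  exact zero_ne_one this

theorem c0_fix : c.σ (D.τ 1) = D.τ 1 := D.hτK 1 (map_one _)

/-- the companion automorphism of the fixed field -/
noncomputable def μ (l : F) : F := D.τ l / D.τ 1

theorem mu_fix {l : F} (hl : c.σ l = l) : c.σ (D.μ l) = D.μ l := by
  unfold μ
  rw [map_div₀, D.hτK l hl, D.c0_fix]

theorem tau_eq (l : F) : D.τ l = D.μ l * D.τ 1 := by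
  unfold μ
  rw [div_mul_cancel₀ _ D.c0_ne]

theorem rho_mul (a : F) {l : F} (hl : c.σ l = l) : D.ρ (a * l) = D.ρ a * D.μ l := by
  by_cases ha : a = 0
  · rw [ha, zero_mul, map_zero, zero_mul]
  · obtain ⟨m, hm, h⟩ := D.exists_m ha hl
    have h1 := D.tau_mul ha hl hm h 1 (map_one _)
    rw [mul_one] at h1
    have : D.μ l = m := by
      unfold μ
      rw [h1, mul_div_cancel_right₀ _ D.c0_ne]
    rw [this]; exact h

theorem tau_mul' {l w : F} (hl : c.σ l = l) (hw : c.σ w = w) : D.τ (l * w) = D.μ l * D.τ w :=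
  D.tau_mul one_ne_zero hl (D.mu_fix hl) (D.rho_mul 1 hl) w hw

theorem mu_mul {l l' : F} (hl : c.σ l = l) (hl' : c.σ l' = l') :
    D.μ (l * l') = D.μ l * D.μ l' := by
  unfold μ
  rw [D.tau_mul' hl hl']
  unfold μ
  ring

theorem mu_add {l l' : F} (hl : c.σ l = l) (hl' : c.σ l' = l') :
    D.μ (l + l') = D.μ l + D.μ l' := by
  have hll : c.σ (l + l') = l + l' := by rw [map_add, hl, hl']
  have h1 := D.rho_mul 1 hll
  rw [mul_add, map_add, D.rho_mul 1 hl, D.rho_mul 1 hl'] at h1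
  have h2 : D.ρ 1 ≠ 0 := D.ρ_ne one_ne_zero
  have h3 : D.ρ 1 * (D.μ (l + l')) = D.ρ 1 * (D.μ l + D.μ l') := by
    rw [← h1]; ring
  exact mul_left_cancel₀ h2 h3

theorem mu_one : D.μ 1 = 1 := by
  unfold μ
  exact div_self D.c0_ne

theorem mu_zero : D.μ 0 = 0 := by
  unfold μ
  rw [D.τ_zero, zero_div]

theorem mu_c0 : D.μ (D.τ 1) * D.τ 1 = 1 := by
  rw [← D.tau_eq, D.hτ2 1 (map_one _)]

theorem mu_mu {l : F} (hl : c.σ l = l) : D.μ (D.μ l) = l := by
  have h := D.hτ2 l hl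
  rw [D.tau_eq l, D.tau_mul' (D.mu_fix hl) D.c0_fix, D.hτ2 1 (map_one _), mul_one] at h
  exact h

theorem case_trivial (h : ∀ l, c.σ l = l → D.μ l = l) : ∀ w, c.σ w = w → D.τ w = w := by
  have h1 := D.mu_c0
  rw [h _ D.c0_fix] at h1
  have h2 : (D.τ 1 + 1) * (D.τ 1 + 1) = 0 := by
    linear_combination h1 + (D.τ 1 + 1) * c.two
  have h3 : D.τ 1 + 1 = 0 := by
    rcases mul_eq_zero.mp h2 with h | h <;> exact h
  have h4 : D.τ 1 = 1 := eq_of_add_eq_zero c h3
  intro w hw
  rw [D.tau_eq, h w hw, h4, mul_one]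

/-! ### The nontrivial case -/

/-- the Artin-Schreier map -/
def wp (c : Cfg F) : F →+ F where
  toFun x := x * x + x
  map_zero' := by simp
  map_add' x y := by linear_combination (x * y) * c.two

theorem wp_apply (c : Cfg F) (x : F) : wp c x = x * x + x := rfl

/-- the fixed field of `μ` inside the fixed field of `σ`, as an additive subgroup -/
def kSub : AddSubgroup F where
  carrier := {x | c.σ x = x ∧ D.μ x = x}
  zero_mem' := ⟨map_zero _, D.mu_zero⟩
  add_mem' := by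
    rintro x y ⟨hx, hx'⟩ ⟨hy, hy'⟩
    exact ⟨by rw [map_add, hx, hy], by rw [D.mu_add hx hy, hx', hy']⟩
  neg_mem' := by
    rintro x hx
    rw [Par.neg_eq c x]; exact hx

theorem mem_kSub (x : F) : x ∈ D.kSub ↔ c.σ x = x ∧ D.μ x = x := Iff.rfl

theorem wp_mem {x : F} (hx : x ∈ D.kSub) : wp c x ∈ D.kSub := by
  obtain ⟨h1, h2⟩ := hx
  have h3 : c.σ (x * x) = x * x := by rw [map_mul, h1]
  refine ⟨by rw [wp_apply, map_add, h3, h1], ?_⟩
  rw [wp_apply, D.mu_add h3 h1, D.mu_mul h1 h1, h2]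

theorem one_mem_kSub : (1 : F) ∈ D.kSub := ⟨map_one _, D.mu_one⟩

/-- the restricted Artin-Schreier map -/
def wpk : D.kSub →+ D.kSub :=
  ((wp c).comp D.kSub.subtype).codRestrict D.kSub (fun x => D.wp_mem x.2)

theorem wpk_coe (x : D.kSub) : ((D.wpk x : D.kSub) : F) = (x : F) * x + x := rfl

theorem card_ker_wpk : Nat.card D.wpk.ker = 2 := by
  rw [Nat.card_eq_two_iff]
  have h0 : (0 : D.kSub) ∈ D.wpk.ker := zero_mem _
  have h1 : (⟨1, D.one_mem_kSub⟩ : D.kSub) ∈ D.wpk.ker := by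
    rw [AddMonoidHom.mem_ker]
    apply Subtype.ext
    rw [wpk_coe]
    show (1 : F) * 1 + 1 = 0
    linear_combination c.two
  refine ⟨⟨0, h0⟩, ⟨_, h1⟩, ?_, ?_⟩
  · intro h
    have h2 := congrArg (fun z : D.wpk.ker => ((z : D.kSub) : F)) h
    simp only [ZeroMemClass.coe_zero] at h2
    exact zero_ne_one h2
  · ext z
    simp only [Set.mem_insert_iff, Set.mem_singleton_iff, Set.mem_univ, iff_true]
    have hz := z.2
    rw [AddMonoidHom.mem_ker] at hz
    have hz' := congrArg (fun z : D.kSub => (z : F)) hz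
    simp only [wpk_coe, ZeroMemClass.coe_zero] at hz'
    have h3 : ((z : D.kSub) : F) * (((z : D.kSub) : F) + 1) = 0 := by linear_combination hz'
    rcases mul_eq_zero.mp h3 with h | h
    · left
      apply Subtype.ext
      apply Subtype.ext
      exact h
    · right
      apply Subtype.ext
      apply Subtype.ext
      exact eq_of_add_eq_zero c h

theorem index_range_wpk [Finite F] : D.wpk.range.index = 2 := by
  have h1 := AddSubgroup.index_ker D.wpk
  have h2 := D.wpk.ker.card_mul_index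
  have h3 := D.wpk.range.card_mul_index
  rw [D.card_ker_wpk, h1, ← h3] at h2
  have hpos : 0 < Nat.card D.wpk.range := Nat.card_pos
  have h4 : Nat.card D.wpk.range * 2 = Nat.card D.wpk.range * D.wpk.range.index := by
    rw [← h2]; ring
  exact (Nat.eq_of_mul_eq_mul_left hpos h4).symm

/-- Artin-Schreier equations with constant term in the small field are solvable in the fixed
field of `σ`. -/
theorem as_solve [Finite F] {y : F} (hy : c.σ y = y) (hne : D.μ y ≠ y) {δ : F}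
    (hδ : c.σ δ = δ) (hδ' : D.μ δ = δ) : ∃ s, c.σ s = s ∧ s * s + s = δ := by
  have hd : D.μ y + y ≠ 0 := fun h => hne (eq_of_add_eq_zero c h)
  have hdf : c.σ (D.μ y + y) = D.μ y + y := by rw [map_add, D.mu_fix hy, hy]
  have hdm : D.μ (D.μ y + y) = D.μ y + y := by
    rw [D.mu_add (D.mu_fix hy) hy, D.mu_mu hy, add_comm]
  set x₁ := y / (D.μ y + y) with hx₁
  have hx₁f : c.σ x₁ = x₁ := by rw [hx₁, map_div₀, hy, hdf]
  have hx₁d : x₁ * (D.μ y + y) = y := div_mul_cancel₀ _ hd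
  have hx₁m : D.μ x₁ + x₁ = 1 := by
    have h1 := D.mu_mul hx₁f hdf
    rw [hx₁d, hdm] at h1
    have h2 : (D.μ x₁ + x₁) * (D.μ y + y) = 1 * (D.μ y + y) := by
      linear_combination hx₁d - h1
    exact mul_right_cancel₀ hd h2
  have hx₁m' : D.μ x₁ = x₁ + 1 := by
    linear_combination hx₁m - x₁ * c.two
  have hεk : wp c x₁ ∈ D.kSub := by
    have h3 : c.σ (x₁ * x₁) = x₁ * x₁ := by rw [map_mul, hx₁f]
    refine ⟨by rw [wp_apply, map_add, h3, hx₁f], ?_⟩
    rw [wp_apply, D.mu_add h3 hx₁f, D.mu_mul hx₁f hx₁f, hx₁m']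
    linear_combination (x₁ + 1) * c.two
  have hεn : (⟨wp c x₁, hεk⟩ : D.kSub) ∉ D.wpk.range := by
    rintro ⟨s, hs⟩
    have hs' := congrArg (fun z : D.kSub => (z : F)) hs
    simp only [wpk_coe, wp_apply] at hs'
    have h3 : ((s : F) + x₁) * ((s : F) + x₁ + 1) = 0 := by
      linear_combination hs' + (x₁ * x₁ + x₁ + (s : F) * x₁) * c.two
    have hsm : D.μ (s : F) = s := s.2.2
    have hsf : c.σ (s : F) = s := s.2.1
    rcases mul_eq_zero.mp h3 with h | h
    · have h4 : x₁ = (s : F) := (eq_of_add_eq_zero c h).symm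
      rw [h4, hsm] at hx₁m
      have := Par.add_self c (s : F)
      rw [this] at hx₁m
      exact zero_ne_one hx₁m
    · have h4 : x₁ = (s : F) + 1 := by
        have : x₁ + ((s : F) + 1) = 0 := by linear_combination h
        exact eq_of_add_eq_zero c this
      have h5 : D.μ ((s : F) + 1) = (s : F) + 1 := by
        rw [D.mu_add hsf (map_one _), hsm, D.mu_one]
      rw [h4, h5] at hx₁m
      have := Par.add_self c ((s : F) + 1)
      rw [this] at hx₁m
      exact zero_ne_one hx₁m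
  obtain ⟨a, ha⟩ := AddSubgroup.index_eq_two_iff.mp D.index_range_wpk
  have hδk : δ ∈ D.kSub := ⟨hδ, hδ'⟩
  by_cases hin : (⟨δ, hδk⟩ : D.kSub) ∈ D.wpk.range
  · obtain ⟨s, hs⟩ := hin
    have hs' := congrArg (fun z : D.kSub => (z : F)) hs
    simp only [wpk_coe] at hs'
    exact ⟨s, s.2.1, hs'⟩
  · have h1 : (⟨δ, hδk⟩ : D.kSub) + a ∈ D.wpk.range := by
      rcases ha ⟨δ, hδk⟩ with h | h
      · exact h.1
      · exact absurd h.1 hin
    have h2 : (⟨wp c x₁, hεk⟩ : D.kSub) + a ∈ D.wpk.range := by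
      rcases ha ⟨wp c x₁, hεk⟩ with h | h
      · exact h.1
      · exact absurd h.1 hεn
    have h3 := add_mem h1 h2
    obtain ⟨s, hs⟩ := h3
    have hs' := congrArg (fun z : D.kSub => (z : F)) hs
    simp only [wpk_coe, AddSubgroup.coe_add, wp_apply] at hs'
    refine ⟨(s : F) + x₁, by rw [map_add, s.2.1, hx₁f], ?_⟩
    linear_combination hs' + ((a : F) + x₁ * x₁ + x₁ + (s : F) * x₁) * c.two

/-- binary quadratics over the small field have a root in the fixed field of `σ` -/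
theorem root [Fintype F] {y : F} (hy : c.σ y = y) (hne : D.μ y ≠ y) {β γ : F}
    (hβ : c.σ β = β) (hβ' : D.μ β = β) (hγ : c.σ γ = γ) (hγ' : D.μ γ = γ) :
    ∃ t, c.σ t = t ∧ t * t + β * t + γ = 0 := by
  by_cases hb : β = 0
  · obtain ⟨t, ht⟩ := Par.exists_sqrt c γ
    have h1 : c.σ t = t := by
      apply Par.sq_inj c
      rw [← map_pow, ht, hγ]
    refine ⟨t, h1, ?_⟩
    rw [hb]
    linear_combination ht + γ * c.two
  · have hbb : β * β ≠ 0 := mul_ne_zero hb hb
    have hbbf : c.σ (β * β) = β * β := by rw [map_mul, hβ]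
    set δ := γ / (β * β) with hδ
    have hδf : c.σ δ = δ := by rw [hδ, map_div₀, hγ, hbbf]
    have hδd : δ * (β * β) = γ := div_mul_cancel₀ _ hbb
    have hδm : D.μ δ = δ := by
      have h1 := D.mu_mul hδf hbbf
      rw [hδd, hγ', D.mu_mul hβ hβ, hβ'] at h1
      have h2 : D.μ δ * (β * β) = δ * (β * β) := by rw [← h1, hδd]
      exact mul_right_cancel₀ hbb h2
    obtain ⟨s, hs, hs'⟩ := D.as_solve hy hne hδf hδm
    refine ⟨β * s, by rw [map_mul, hβ, hs], ?_⟩
    linear_combination (β * β) * hs' + hδd + γ * c.two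

theorem ratio_fix {w w₀ : F} (hw : c.σ w = w) (hw₀ : c.σ w₀ = w₀) (hτ : D.τ w = w)
    (hτ₀ : D.τ w₀ = w₀) (hne : w₀ ≠ 0) : c.σ (w / w₀) = w / w₀ ∧ D.μ (w / w₀) = w / w₀ := by
  have h1 : c.σ (w / w₀) = w / w₀ := by rw [map_div₀, hw, hw₀]
  refine ⟨h1, ?_⟩
  have h2 := D.tau_mul' h1 hw₀
  rw [div_mul_cancel₀ _ hne, hτ, hτ₀] at h2
  rw [eq_div_iff hne]
  exact h2.symm

/-- two fixed vectors of `ρ` are dependent over the fixed field of `σ` -/
theorem fixed_dep [Fintype F] {y : F} (hy : c.σ y = y) (hne : D.μ y ≠ y) {a₁ a₂ : F}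
    (h₁ : D.ρ a₁ = a₁) (h₂ : D.ρ a₂ = a₂) (hne1 : a₁ ≠ 0) : ∃ t, c.σ t = t ∧ a₂ = a₁ * t := by
  have hsa := sig_ne c hne1
  have hw₀ : a₁ * c.σ a₁ ≠ 0 := mul_ne_zero hne1 hsa
  have hw₀f : c.σ (a₁ * c.σ a₁) = a₁ * c.σ a₁ := by rw [map_mul, c.invol, mul_comm]
  have hw₀τ : D.τ (a₁ * c.σ a₁) = a₁ * c.σ a₁ := by
    have := D.hN a₁
    rw [h₁] at this
    exact this.symm
  have hgf : c.σ (a₂ * c.σ a₂) = a₂ * c.σ a₂ := by rw [map_mul, c.invol, mul_comm]
  have hgτ : D.τ (a₂ * c.σ a₂) = a₂ * c.σ a₂ := by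
    have := D.hN a₂
    rw [h₂] at this
    exact this.symm
  have hbf : c.σ (c.σ a₁ * a₂ + c.σ a₂ * a₁) = c.σ a₁ * a₂ + c.σ a₂ * a₁ := by
    rw [map_add, map_mul, map_mul, c.invol, c.invol]; ring
  have hbτ : D.τ (c.σ a₁ * a₂ + c.σ a₂ * a₁) = c.σ a₁ * a₂ + c.σ a₂ * a₁ := by
    have := D.hB a₁ a₂
    rw [h₁, h₂] at this
    exact this.symm
  obtain ⟨hβ, hβ'⟩ := D.ratio_fix hbf hw₀f hbτ hw₀τ hw₀
  obtain ⟨hγ, hγ'⟩ := D.ratio_fix hgf hw₀f hgτ hw₀τ hw₀
  obtain ⟨t, ht, hroot⟩ := D.root hy hne hβ hβ' hγ hγ'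
  refine ⟨t, ht, ?_⟩
  have h1 : (a₁ * t + a₂) * c.σ (a₁ * t + a₂) = 0 := by
    rw [map_add, map_mul, ht]
    have h2 : (a₁ * c.σ a₁) * (t * t + (c.σ a₁ * a₂ + c.σ a₂ * a₁) / (a₁ * c.σ a₁) * t
        + a₂ * c.σ a₂ / (a₁ * c.σ a₁)) = 0 := by rw [hroot, mul_zero]
    rw [← h2]
    field_simp
    ring
  have h3 : a₁ * t + a₂ = 0 := by
    rcases mul_eq_zero.mp h1 with h | h
    · exact h
    · by_contra hcon
      exact sig_ne c hcon h
  exact (eq_of_add_eq_zero c h3).symm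

theorem case_nontrivial [Fintype F] {y : F} (hy : c.σ y = y) (hne : D.μ y ≠ y) : False := by
  have hd : D.μ y + y ≠ 0 := fun h => hne (eq_of_add_eq_zero c h)
  have hdf : c.σ (D.μ y + y) = D.μ y + y := by rw [map_add, D.mu_fix hy, hy]
  have hu : ∀ a, D.ρ (a + D.ρ a) = a + D.ρ a := by
    intro a; rw [map_add, D.hρ2, add_comm]
  have hident : ∀ a, a * (D.μ y + y) = D.μ y * (a + D.ρ a) + (a * y + D.ρ (a * y)) := by
    intro a
    rw [D.rho_mul a hy]
    linear_combination (-(D.ρ a * D.μ y)) * c.two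
  have hex : ∃ a₁, a₁ ≠ 0 ∧ D.ρ a₁ = a₁ := by
    by_contra hcon
    push Not at hcon
    have h1 : (1 : F) + D.ρ 1 = 0 := by
      by_contra h; exact hcon _ h (hu 1)
    have h2 : (1 : F) * y + D.ρ (1 * y) = 0 := by
      by_contra h; exact hcon _ h (hu (1 * y))
    have h3 := hident 1
    rw [h1, h2, mul_zero, add_zero, one_mul] at h3
    exact hd h3
  obtain ⟨a₁, ha₁, hf₁⟩ := hex
  have hall : ∀ a, ∃ t, c.σ t = t ∧ a = a₁ * t := by
    intro a
    obtain ⟨t₁, ht₁, e₁⟩ := D.fixed_dep hy hne hf₁ (hu a) ha₁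
    obtain ⟨t₂, ht₂, e₂⟩ := D.fixed_dep hy hne hf₁ (hu (a * y)) ha₁
    refine ⟨(D.μ y * t₁ + t₂) / (D.μ y + y), ?_, ?_⟩
    · rw [map_div₀, map_add, map_mul, D.mu_fix hy, ht₁, ht₂, hdf]
    · have h3 := hident a
      rw [e₁, e₂] at h3
      rw [mul_div_assoc', eq_div_iff hd, h3]
      ring
  obtain ⟨θ, hθ⟩ := D.hnf
  obtain ⟨t, ht, e⟩ := hall (a₁ * θ)
  have : θ = t := mul_left_cancel₀ ha₁ e
  rw [this] at hθ
  exact hθ ht

/-- the core statement: `τ` is trivial on the fixed field of `σ` -/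
theorem core [Fintype F] : ∀ w, c.σ w = w → D.τ w = w := by
  by_cases h : ∀ l, c.σ l = l → D.μ l = l
  · exact D.case_trivial h
  · push Not at h
    obtain ⟨y, hy, hne⟩ := h
    exact (D.case_nontrivial hy hne).elim

end Dat

/-! ### The group-theoretic part -/

section grp

open Cfsg.Agent.Lib.Helper6.SuzTransport

variable [Fintype F] {c : Cfg F}

/-- the central element with second coordinate `w` -/
def zel (w : F) (hw : c.σ w = w) : Par c := ⟨0, w, by rw [hw, Par.add_self c, zero_mul]⟩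

theorem par_b_fix (p : Par c) (hp : p.a = 0) : c.σ p.b = p.b := by
  have := p.h
  rw [hp, zero_mul] at this
  exact (eq_of_add_eq_zero c this).symm

theorem key (htr : ∀ y, c.σ y = y → ∃ x, x + c.σ x = y) (hnf : ∃ t, c.σ t ≠ t)
    (φ : Par c ≃* Par c) (s : Par c) (h2 : ∀ g, φ (φ g) = s * g * s⁻¹) :
    ∀ z ∈ Subgroup.center (Par c), φ z = z := by
  classical
  have hcen : ∀ p : Par c, p ∈ Subgroup.center (Par c) ↔ p.a = 0 := Par.mem_center_iff htr hnf
  have hφcen : ∀ p : Par c, p.a = 0 → (φ p).a = 0 := by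
    intro p hp
    rw [← hcen] at hp ⊢
    exact (mem_center_congr φ p).mp hp
  choose lift hlift using Par.exists_par htr
  have hdep : ∀ g g' : Par c, g.a = g'.a → (φ g).a = (φ g').a := by
    intro g g' h
    have hz : (g'⁻¹ * g).a = 0 := by rw [Par.mul_a, Par.inv_a, h, Par.add_self c]
    have h1 := hφcen _ hz
    have h3 : g = g' * (g'⁻¹ * g) := by group
    calc (φ g).a = (φ (g' * (g'⁻¹ * g))).a := by rw [← h3]
      _ = (φ g').a := by rw [map_mul, Par.mul_a, h1, add_zero]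
  let ρ : F →+ F :=
    { toFun := fun a => (φ (lift a)).a
      map_zero' := hφcen _ (hlift 0)
      map_add' := by
        intro a a'
        show (φ (lift (a + a'))).a = (φ (lift a)).a + (φ (lift a')).a
        rw [← Par.mul_a, ← map_mul]
        apply hdep
        rw [hlift, Par.mul_a, hlift, hlift] }
  have hρ : ∀ g : Par c, (φ g).a = ρ g.a := fun g => hdep _ _ (hlift g.a).symm
  let τ : F → F := fun w => if hw : c.σ w = w then (φ (zel w hw)).b else 0
  have hτ : ∀ p : Par c, p.a = 0 → (φ p).b = τ p.b := by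
    intro p hp
    have hb := par_b_fix p hp
    have hpz : zel p.b hb = p := by
      ext
      · exact hp.symm
      · rfl
    simp only [τ, dif_pos hb, hpz]
  have hτdef : ∀ w (hw : c.σ w = w), τ w = (φ (zel w hw)).b := by
    intro w hw
    simp only [τ, dif_pos hw]
  let D : Dat c :=
    { ρ := ρ
      τ := τ
      htr := htr
      hnf := hnf
      hρ2 := by
        intro a
        have h := congrArg Par.a (h2 (lift a))
        rw [hρ, hρ, hlift] at h
        rw [h, Par.mul_a, Par.mul_a, Par.inv_a, hlift]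
        linear_combination s.a * c.two
      hτK := by
        intro w hw
        rw [hτdef w hw]
        exact par_b_fix _ (hφcen _ rfl)
      hτ2 := by
        intro w hw
        rw [hτdef w hw, ← hτ _ (hφcen _ rfl), h2]
        have hz : zel w hw ∈ Subgroup.center (Par c) := (hcen _).mpr rfl
        rw [Subgroup.mem_center_iff] at hz
        rw [hz s, mul_assoc, mul_inv_cancel, mul_one]
        rfl
      hN := by
        intro a
        have h := hτ (lift a * lift a) (Par.mul_self_a _)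
        rw [map_mul, Par.mul_self_b, Par.mul_self_b, hρ, hlift] at h
        exact h
      hB := by
        intro a a'
        have h := hτ ((lift a)⁻¹ * (lift a')⁻¹ * lift a * lift a') (Par.comm_a _ _)
        rw [map_mul, map_mul, map_mul, map_inv, map_inv, Par.comm_b, Par.comm_b, hρ, hρ, hlift,
          hlift] at h
        exact h }
  have hcore := D.core
  intro z hz
  have hza := (hcen z).mp hz
  ext
  · rw [hφcen z hza, hza]
  · rw [hτ z hza]
    exact hcore z.b (par_b_fix z hza)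

end grp

open Cfsg.Agent.Lib.Helper6.SuzTransport in
/-- Let S be a Sylow 2-subgroup of SU₃(2ⁿ), n ≥ 2 (realised over the field with 4ⁿ elements). If a finite 2-group R contains a subgroup S' of index 2 isomorphic to S, then the centre of S' is contained in the centre of R. -/
theorem result {R : Type*} [Group R] [Finite R]
    (hR : IsPGroup 2 R) (n : ℕ) (hn : 2 ≤ n) {F : Type*} [Field F] [Fintype F] (hF : Fintype.card F = 4 ^ n)
    (P : Sylow 2 ↥(Cfsg.SU 3 F (2 ^ n))) (S' : Subgroup R) (hS : Nonempty (↥S' ≃* ↥(P : Subgroup ↥(Cfsg.SU 3 F (2 ^ n)))))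
    (hidx : S'.index = 2) :
    (Subgroup.center ↥S').map S'.subtype ≤ Subgroup.center R := by
  classical
  have hF' : Fintype.card F = (2 ^ n) ^ 2 := by
    rw [hF, show (4 : ℕ) = 2 ^ 2 by norm_num, ← pow_mul, ← pow_mul, mul_comm]
  obtain ⟨e₁⟩ := sylow_SU_equiv n hn hF' P
  obtain ⟨e₀⟩ := hS
  have hn1 : 1 ≤ n := by omega
  let ψ : S' ≃* Par (cfgOf n hn1 hF') := e₀.trans e₁.symm
  haveI : S'.Normal := Subgroup.normal_of_index_eq_two hidx
  have hq := two_le_pow n hn1
  have hσ := cfgOf_σ n hn1 hF'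
  have htr := Par.tr_surj (cfgOf n hn1 hF') (2 ^ n) hq hF' hσ
  have hnf := Par.exists_not_fixed (cfgOf n hn1 hF') (2 ^ n) hq hF' hσ
  rintro _ ⟨z, hz, rfl⟩
  rw [Subgroup.mem_center_iff]
  intro x
  let φ : Par (cfgOf n hn1 hF') ≃* Par (cfgOf n hn1 hF') :=
    ψ.symm.trans ((MulAut.conjNormal x).trans ψ)
  have hφ : ∀ g, φ g = ψ (MulAut.conjNormal x (ψ.symm g)) := fun g => rfl
  have hx2 : x * x ∈ S' := by
    have := Subgroup.sq_mem_of_index_two hidx x
    rwa [pow_two] at this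
  have h2 : ∀ g, φ (φ g) = ψ ⟨x * x, hx2⟩ * g * (ψ ⟨x * x, hx2⟩)⁻¹ := by
    intro g
    rw [hφ, hφ, ψ.symm_apply_apply]
    have e : MulAut.conjNormal x (MulAut.conjNormal x (ψ.symm g))
        = ⟨x * x, hx2⟩ * ψ.symm g * (⟨x * x, hx2⟩ : S')⁻¹ := by
      apply Subtype.ext
      rw [MulAut.conjNormal_apply, MulAut.conjNormal_apply]
      simp only [Subgroup.coe_mul, Subgroup.coe_inv]
      group
    rw [e, map_mul, map_mul, map_inv, ψ.apply_symm_apply]
  have hzc : ψ z ∈ Subgroup.center (Par (cfgOf n hn1 hF')) := (mem_center_congr ψ z).mp hz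
  have h3 := key htr hnf φ _ h2 (ψ z) hzc
  rw [hφ, ψ.symm_apply_apply] at h3
  have h4 := ψ.injective h3
  have h5 := congrArg Subtype.val h4
  rw [MulAut.conjNormal_apply] at h5
  show x * (z : R) = (z : R) * x
  calc x * (z : R) = x * (z : R) * x⁻¹ * x := by group
    _ = (z : R) * x := by rw [h5]

end Cfsg.Agent.S3315
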