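import Cfsg.Statements.S3335
import Mathlib
import Cfsg.Agent.Lib.Helper1.CoxeterA

set_option autoImplicit false
open Cfsg

namespace Cfsg.Agent.S3335


section grp
variable {G : Type*} [Group G]

theorem pow_swap {a b : G} {m : ℕ} (h : (a * b) ^ m = 1) : (b * a) ^ m = 1 := by
  have e : b * a = a⁻¹ * (a * b) * a⁻¹⁻¹ := by group
  rw [e, conj_pow, h]; group

theorem pow_inv_inv {a b : G} {m : ℕ} (h : (a * b) ^ m = 1) : (a⁻¹ * b⁻¹) ^ m = 1 := by
  have e : a⁻¹ * b⁻¹ = (b * a)⁻¹ := by group
  rw [e, inv_pow, pow_swap h, inv_one]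

theorem inv_of_sq {a : G} (h : a ^ 2 = 1) : a⁻¹ = a := by
  rw [inv_eq_iff_mul_eq_one, ← pow_two, h]

/-- hom from `ℤˣ` determined by an involution -/
def unitsHom (a : G) (ha : a * a = 1) : ℤˣ →* G where
  toFun u := if u = 1 then 1 else a
  map_one' := by simp
  map_mul' := by
    intro u v
    rcases Int.units_eq_one_or u with rfl | rfl <;>
      rcases Int.units_eq_one_or v with rfl | rfl <;> simp [ha]

theorem unitsHom_neg_one (a : G) (ha : a * a = 1) : unitsHom a ha (-1) = a := by
  have : (-1 : ℤˣ) ≠ 1 := by decide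
  simp [unitsHom, this]

theorem unitsHom_ext {f g : ℤˣ →* G} (h : f (-1) = g (-1)) : f = g := by
  ext u
  rcases Int.units_eq_one_or u with rfl | rfl
  · simp
  · exact h

end grp

/-- Carmichael relators -/
def rels (k : ℕ) : Set (FreeGroup (Fin k)) :=
      ({g : FreeGroup (Fin k) | ∃ i : Fin k, i.val = 0 ∧ g = FreeGroup.of i ^ 3} ∪
       {g | ∃ i : Fin k, 1 ≤ i.val ∧ g = FreeGroup.of i ^ 2} ∪
       {g | ∃ i j : Fin k, j.val = i.val + 1 ∧ g = (FreeGroup.of i * FreeGroup.of j) ^ 3} ∪
       {g | ∃ i j : Fin k, i.val + 1 < j.val ∧ g = (FreeGroup.of i * FreeGroup.of j) ^ 2})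

/-- the presented group -/
abbrev P (k : ℕ) := PresentedGroup (rels k)

/-- generators -/
def x {k : ℕ} (i : Fin k) : P k := PresentedGroup.of i

theorem P1 {k : ℕ} (i : Fin k) (hi : i.val = 0) : x i ^ 3 = 1 := by
  have h : (FreeGroup.of i ^ 3 : FreeGroup (Fin k)) ∈ rels k :=
    Or.inl (Or.inl (Or.inl ⟨i, hi, rfl⟩))
  have := PresentedGroup.one_of_mem h
  rwa [map_pow] at this

theorem P2 {k : ℕ} (i : Fin k) (hi : 1 ≤ i.val) : x i ^ 2 = 1 := by
  have h : (FreeGroup.of i ^ 2 : FreeGroup (Fin k)) ∈ rels k :=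
    Or.inl (Or.inl (Or.inr ⟨i, hi, rfl⟩))
  have := PresentedGroup.one_of_mem h
  rwa [map_pow] at this

theorem P3 {k : ℕ} (i j : Fin k) (hij : j.val = i.val + 1) : (x i * x j) ^ 3 = 1 := by
  have h : ((FreeGroup.of i * FreeGroup.of j) ^ 3 : FreeGroup (Fin k)) ∈ rels k :=
    Or.inl (Or.inr ⟨i, j, hij, rfl⟩)
  have := PresentedGroup.one_of_mem h
  rwa [map_pow, map_mul] at this

theorem P4 {k : ℕ} (i j : Fin k) (hij : i.val + 1 < j.val) : (x i * x j) ^ 2 = 1 := by
  have h : ((FreeGroup.of i * FreeGroup.of j) ^ 2 : FreeGroup (Fin k)) ∈ rels k :=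
    Or.inr ⟨i, j, hij, rfl⟩
  have := PresentedGroup.one_of_mem h
  rwa [map_pow, map_mul] at this

/-- a general principle: any assignment satisfying the four families gives a hom -/
theorem lift_ok {k : ℕ} {G : Type*} [Group G] (f : Fin k → G)
    (h1 : ∀ i : Fin k, i.val = 0 → f i ^ 3 = 1)
    (h2 : ∀ i : Fin k, 1 ≤ i.val → f i ^ 2 = 1)
    (h3 : ∀ i j : Fin k, j.val = i.val + 1 → (f i * f j) ^ 3 = 1)
    (h4 : ∀ i j : Fin k, i.val + 1 < j.val → (f i * f j) ^ 2 = 1) :
    ∀ r ∈ rels k, FreeGroup.lift f r = 1 := by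
  rintro r (((⟨i, hi, rfl⟩ | ⟨i, hi, rfl⟩) | ⟨i, j, hij, rfl⟩) | ⟨i, j, hij, rfl⟩)
  · simpa using h1 i hi
  · simpa using h2 i hi
  · simpa using h3 i j hij
  · simpa using h4 i j hij

/-- the inverting automorphism as a hom -/
noncomputable def sigmaHom (k : ℕ) : P k →* P k :=
  PresentedGroup.toGroup (f := fun i => (x i)⁻¹) (lift_ok _
    (fun i hi => by rw [inv_pow, P1 i hi, inv_one])
    (fun i hi => by rw [inv_pow, P2 i hi, inv_one])
    (fun i j hij => pow_inv_inv (P3 i j hij))
    (fun i j hij => pow_inv_inv (P4 i j hij)))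

theorem sigmaHom_x {k : ℕ} (i : Fin k) : sigmaHom k (x i) = (x i)⁻¹ :=
  PresentedGroup.toGroup.of _

theorem sigmaHom_sigmaHom (k : ℕ) : (sigmaHom k).comp (sigmaHom k) = MonoidHom.id _ := by
  apply PresentedGroup.ext
  intro i
  show sigmaHom k (sigmaHom k (x i)) = x i
  rw [sigmaHom_x, map_inv, sigmaHom_x, inv_inv]

/-- the inverting automorphism -/
noncomputable def sigma (k : ℕ) : MulAut (P k) :=
  MulEquiv.ofBijective (sigmaHom k) (by
    have h : ∀ p, sigmaHom k (sigmaHom k p) = p := fun p =>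
      DFunLike.congr_fun (sigmaHom_sigmaHom k) p
    exact ⟨fun a b hab => by rw [← h a, ← h b, hab], fun b => ⟨sigmaHom k b, h b⟩⟩)

theorem sigma_apply {k : ℕ} (p : P k) : sigma k p = sigmaHom k p := rfl

theorem sigma_mul_self (k : ℕ) : sigma k * sigma k = 1 := by
  ext p
  show sigmaHom k (sigmaHom k p) = p
  exact DFunLike.congr_fun (sigmaHom_sigmaHom k) p



open Cfsg.Agent.Lib.Helper1.CoxA

section grp
variable {G : Type*} [Group G]

theorem inv_of_mul_self {a : G} (h : a * a = 1) : a⁻¹ = a := by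
  rw [inv_eq_iff_mul_eq_one, h]

theorem W1 {a b c : G} (ha : a * a = 1) (hab : a * b = b * a) : (a * b) * (a * c) = b * c := by
  calc (a * b) * (a * c) = (b * a) * (a * c) := by rw [hab]
    _ = b * ((a * a) * c) := by group
    _ = b * c := by rw [ha, one_mul]

theorem braid {a b : G} (ha : a * a = 1) (hb : b * b = 1) (h : (a * b) ^ 3 = 1) :
    a * b * a = b * a * b := by
  rw [← mul_inv_eq_one, mul_inv_rev, mul_inv_rev, inv_of_mul_self ha, inv_of_mul_self hb]
  rw [← h]
  simp only [pow_succ, pow_zero, one_mul, mul_assoc]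

theorem comm_of_sq {a b : G} (ha : a * a = 1) (hb : b * b = 1) (h : (a * b) ^ 2 = 1) :
    a * b = b * a := by
  rw [← mul_inv_eq_one, mul_inv_rev, inv_of_mul_self ha, inv_of_mul_self hb, ← h]
  simp only [pow_succ, pow_zero, one_mul, mul_assoc]

theorem W2 {a b c : G} (ha : a * a = 1) (hb : b * b = 1) (hc : c * c = 1)
    (hab : (a * b) ^ 3 = 1) (hbc : (b * c) ^ 3 = 1) (hac : a * c = c * a) :
    ((a * b) * (a * c)) ^ 3 = 1 := by
  have h1 : a * b * a = b * a * b := braid ha hb hab
  have h2 : c * b * c = b * c * b := by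
    have := braid hb hc hbc
    exact this.symm ▸ rfl
  have e : (a * b) * (a * c) = (b * c) * (a * b) * (b * c)⁻¹ := by
    rw [mul_inv_rev, inv_of_mul_self hb, inv_of_mul_self hc]
    calc (a * b) * (a * c) = (a * b * a) * c := by group
      _ = (b * a * b) * c := by rw [h1]
      _ = b * a * (b * c * b) * b := by
          have : b * a * (b * c * b) * b = b * a * b * c * (b * b) := by group
          rw [this, hb, mul_one]
      _ = b * a * (c * b * c) * b := by rw [h2]
      _ = b * (a * c) * b * c * b := by group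
      _ = b * (c * a) * b * c * b := by rw [hac]
      _ = (b * c) * (a * b) * (c * b) := by group
  rw [e, conj_pow, hab]; group

theorem W3 {a b d : G} (ha : a * a = 1) (hb : b * b = 1) (hd : d * d = 1)
    (had : a * d = d * a) (hbd : b * d = d * b) :
    ((a * b) * (a * d)) ^ 2 = 1 := by
  have hc : Commute (a * b * a) d := by
    have h1 : Commute a d := had
    have h2 : Commute b d := hbd
    exact (h1.mul_left h2).mul_left h1
  have e : (a * b) * (a * d) = (a * b * a) * d := by group
  rw [e, hc.mul_pow]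
  have h1 : (a * b * a) ^ 2 = 1 := by
    calc (a * b * a) ^ 2 = a * b * (a * a) * b * a := by rw [pow_two]; group
      _ = a * (b * b) * a := by rw [ha]; group
      _ = 1 := by rw [hb, mul_one, ha]
  rw [h1, pow_two, hd, one_mul]

theorem Lc {u v : G} {m : ℕ} (h : (u * v) ^ m = 1) (hv : v⁻¹ = v) : (u⁻¹ * v) ^ m = 1 := by
  have hvv : v * v = 1 := by
    have := mul_inv_cancel v
    rwa [hv] at this
  have e : u⁻¹ * v = v⁻¹ * (u * v)⁻¹ * v⁻¹⁻¹ := by
    have : v⁻¹ * (u * v)⁻¹ * v⁻¹⁻¹ = v⁻¹ * v⁻¹ * u⁻¹ * v := by group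
    rw [this, hv, hvv, one_mul]
  rw [e, conj_pow, inv_pow, h]; group

end grp



open Cfsg.Agent.Lib.Helper1.CoxA

section cox
variable {k : ℕ} {W : Type*} [Group W] (cs : CoxeterSystem (CoxeterMatrix.A (k + 1)) W)

theorem s_sq (j : Fin (k + 1)) : cs.simple j * cs.simple j = 1 := cs.simple_mul_simple_self j

theorem s_adj (i j : Fin (k + 1)) (h : j.val = i.val + 1) :
    (cs.simple i * cs.simple j) ^ 3 = 1 := by
  have := cs.simple_mul_simple_pow i j
  rw [A_apply] at this
  have h1 : i ≠ j := by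
    intro e; rw [e] at h; omega
  rw [if_neg h1, if_pos (Or.inr h.symm)] at this
  exact this

theorem s_far (i j : Fin (k + 1)) (h : i.val + 2 ≤ j.val) :
    (cs.simple i * cs.simple j) ^ 2 = 1 := by
  have := cs.simple_mul_simple_pow i j
  rw [A_apply] at this
  have h1 : i ≠ j := by
    intro e; rw [e] at h; omega
  have h2 : ¬ ((j : ℕ) + 1 = i ∨ (i : ℕ) + 1 = j) := by omega
  rw [if_neg h1, if_neg h2] at this
  exact this

theorem s_comm (i j : Fin (k + 1)) (h : i.val + 2 ≤ j.val) :
    cs.simple i * cs.simple j = cs.simple j * cs.simple i :=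
  comm_of_sq (s_sq cs i) (s_sq cs j) (s_far cs i j h)

/-- images of the Carmichael generators -/
def fgen (i : Fin k) : W := cs.simple 0 * cs.simple i.succ

theorem fgen_ok : ∀ r ∈ rels k, FreeGroup.lift (fgen cs) r = 1 := by
  apply lift_ok
  · intro i hi
    exact s_adj cs 0 i.succ (by simp [hi])
  · intro i hi
    exact s_far cs 0 i.succ (by simp; omega)
  · intro i j hij
    by_cases hi : i.val = 0
    · have hj : j.val = 1 := by omega
      exact W2 (s_sq cs 0) (s_sq cs i.succ) (s_sq cs j.succ)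
        (s_adj cs 0 i.succ (by simp [hi])) (s_adj cs i.succ j.succ (by simp [hij]))
        (s_comm cs 0 j.succ (by simp; omega))
    · have : fgen cs i * fgen cs j = cs.simple i.succ * cs.simple j.succ :=
        W1 (s_sq cs 0) (s_comm cs 0 i.succ (by simp; omega))
      rw [this]
      exact s_adj cs i.succ j.succ (by simp [hij])
  · intro i j hij
    by_cases hi : i.val = 0
    · exact W3 (s_sq cs 0) (s_sq cs i.succ) (s_sq cs j.succ)
        (s_comm cs 0 j.succ (by simp; omega)) (s_comm cs i.succ j.succ (by simp; omega))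
    · have : fgen cs i * fgen cs j = cs.simple i.succ * cs.simple j.succ :=
        W1 (s_sq cs 0) (s_comm cs 0 i.succ (by simp; omega))
      rw [this]
      exact s_far cs i.succ j.succ (by simp; omega)

/-- the hom `P → W` -/
noncomputable def phi : P k →* W := PresentedGroup.toGroup (fgen_ok cs)

theorem phi_x (i : Fin k) : phi cs (x i) = cs.simple 0 * cs.simple i.succ :=
  PresentedGroup.toGroup.of _

end cox

/-- action of `ℤˣ` on `P` -/
noncomputable def phi2 (k : ℕ) : ℤˣ →* MulAut (P k) := unitsHom (sigma k) (sigma_mul_self k)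

theorem phi2_neg_one (k : ℕ) : phi2 k (-1) = sigma k := unitsHom_neg_one _ _

/-- the extension `P ⋊ C₂` -/
abbrev T (k : ℕ) := P k ⋊[phi2 k] ℤˣ

/-- auxiliary: `1, x_0, x_1, …` -/
def y {k : ℕ} : Fin (k + 1) → P k := Fin.cases 1 (fun i => x i)

theorem y_zero {k : ℕ} : (y 0 : P k) = 1 := rfl
theorem y_succ {k : ℕ} (i : Fin k) : y i.succ = x i := rfl

theorem x_inv {k : ℕ} (i : Fin k) (hi : 1 ≤ i.val) : (x i)⁻¹ = x i := inv_of_sq (P2 i hi)

theorem y_rel {k : ℕ} (i j : Fin (k + 1)) :
    ((y i : P k)⁻¹ * y j) ^ (CoxeterMatrix.A (k + 1) i j) = 1 := by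
  rw [A_apply]
  refine Fin.cases ?_ (fun a => ?_) i <;> refine Fin.cases ?_ (fun b => ?_) j
  · simp
  · rw [y_zero, y_succ, inv_one, one_mul]
    have h0 : (0 : Fin (k + 1)) ≠ b.succ := (Fin.succ_ne_zero b).symm
    rw [if_neg h0]
    by_cases hb : b.val = 0
    · rw [if_pos (Or.inr (by simp [hb])), P1 b hb]
    · rw [if_neg (by simp; omega), P2 b (by omega)]
  · rw [y_zero, y_succ, mul_one, inv_pow]
    have h0 : a.succ ≠ (0 : Fin (k + 1)) := Fin.succ_ne_zero a
    rw [if_neg h0]
    by_cases ha : a.val = 0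
    · rw [if_pos (Or.inl (by simp [ha])), P1 a ha, inv_one]
    · rw [if_neg (by simp; omega), P2 a (by omega), inv_one]
  · rw [y_succ, y_succ]
    by_cases hab : a = b
    · subst hab
      rw [if_pos rfl]; simp
    · have hab' : a.succ ≠ b.succ := fun h => hab (Fin.succ_injective _ h)
      have hv : a.val ≠ b.val := fun h => hab (Fin.ext h)
      rw [if_neg hab']
      by_cases h1 : a.val + 1 = b.val
      · rw [if_pos (Or.inr (by simp [h1]))]
        exact Lc (P3 a b h1.symm) (x_inv b (by omega))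
      · by_cases h2 : b.val + 1 = a.val
        · rw [if_pos (Or.inl (by simp [h2])), x_inv a (by omega)]
          exact pow_swap (P3 b a h2.symm)
        · rw [if_neg (by simp; omega)]
          by_cases h3 : a.val < b.val
          · exact Lc (P4 a b (by omega)) (x_inv b (by omega))
          · rw [x_inv a (by omega)]
            exact pow_swap (P4 b a (by omega))



open Cfsg.Agent.Lib.Helper1.CoxA

/-- images of Coxeter generators in `T` -/
def ggen (k : ℕ) (j : Fin (k + 1)) : T k := ⟨(y j)⁻¹, -1⟩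

theorem sigmaHom_y_inv {k : ℕ} (j : Fin (k + 1)) : sigmaHom k ((y j)⁻¹) = y j := by
  refine Fin.cases ?_ (fun b => ?_) j
  · rw [y_zero, inv_one, map_one]
  · rw [y_succ, map_inv, sigmaHom_x, inv_inv]

theorem ggen_mul (k : ℕ) (i j : Fin (k + 1)) :
    ggen k i * ggen k j = SemidirectProduct.inl ((y i)⁻¹ * y j) := by
  refine SemidirectProduct.ext ?_ ?_
  · rw [SemidirectProduct.mul_left, SemidirectProduct.left_inl]
    show (y i)⁻¹ * (phi2 k (-1)) ((y j)⁻¹) = (y i)⁻¹ * y j
    rw [phi2_neg_one, sigma_apply, sigmaHom_y_inv]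
  · rw [SemidirectProduct.mul_right, SemidirectProduct.right_inl]
    show (-1 : ℤˣ) * (-1) = 1
    simp

theorem ggen_liftable (k : ℕ) : (CoxeterMatrix.A (k + 1)).IsLiftable (ggen k) := by
  intro i j
  show (ggen k i * ggen k j) ^ (CoxeterMatrix.A (k + 1) i j) = 1
  rw [ggen_mul, ← map_pow, y_rel, map_one]

section cox
variable {k : ℕ} {W : Type*} [Group W] (cs : CoxeterSystem (CoxeterMatrix.A (k + 1)) W)

/-- the hom `W → T` -/
noncomputable def psi : W →* T k := cs.lift ⟨ggen k, ggen_liftable k⟩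

theorem psi_simple (j : Fin (k + 1)) : psi cs (cs.simple j) = ggen k j :=
  cs.lift_apply_simple (ggen_liftable k) j

/-- the sign-like hom `ℤˣ → W` -/
noncomputable def eps : ℤˣ →* W := unitsHom (cs.simple 0) (s_sq cs 0)

theorem eps_neg_one : eps cs (-1) = cs.simple 0 := unitsHom_neg_one _ _

theorem phi_compat (u : ℤˣ) :
    (phi cs).comp (phi2 k u).toMonoidHom = (MulAut.conj (eps cs u)).toMonoidHom.comp (phi cs) := by
  rcases Int.units_eq_one_or u with rfl | rfl
  · rw [map_one, map_one]
    apply MonoidHom.ext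
    intro p
    show phi cs p = 1 * phi cs p * 1⁻¹
    simp
  · apply PresentedGroup.ext
    intro i
    show phi cs ((phi2 k (-1)) (x i)) = (MulAut.conj (eps cs (-1))) (phi cs (x i))
    rw [phi2_neg_one, sigma_apply, sigmaHom_x, map_inv, phi_x, eps_neg_one, MulAut.conj_apply,
      mul_inv_rev, inv_of_mul_self (s_sq cs 0), inv_of_mul_self (s_sq cs i.succ)]
    have := s_sq cs 0
    calc cs.simple i.succ * cs.simple 0
        = (cs.simple 0 * cs.simple 0) * cs.simple i.succ * cs.simple 0 := by rw [this, one_mul]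
      _ = cs.simple 0 * (cs.simple 0 * cs.simple i.succ) * cs.simple 0 := by group

/-- the hom `T → W` -/
noncomputable def Phi : T k →* W := SemidirectProduct.lift (phi cs) (eps cs) (phi_compat cs)

theorem Phi_mk (p : P k) (u : ℤˣ) : Phi cs ⟨p, u⟩ = phi cs p * eps cs u := rfl

theorem psi_Phi : (psi cs).comp (Phi cs) = MonoidHom.id (T k) := by
  apply SemidirectProduct.hom_ext
  · apply PresentedGroup.ext
    intro i
    show psi cs (Phi cs (SemidirectProduct.inl (x i))) = SemidirectProduct.inl (x i)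
    have h1 : Phi cs (SemidirectProduct.inl (x i)) = phi cs (x i) := by
      show phi cs (x i) * eps cs 1 = _
      rw [map_one, mul_one]
    rw [h1, phi_x, map_mul, psi_simple, psi_simple, ggen_mul, y_zero, y_succ, inv_one, one_mul]
  · apply unitsHom_ext
    show psi cs (Phi cs (SemidirectProduct.inr (-1))) = SemidirectProduct.inr (-1)
    have h1 : Phi cs (SemidirectProduct.inr (-1)) = cs.simple 0 := by
      show phi cs 1 * eps cs (-1) = _
      rw [map_one, one_mul, eps_neg_one]
    rw [h1, psi_simple]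
    refine SemidirectProduct.ext ?_ ?_
    · show (y (0 : Fin (k + 1)) : P k)⁻¹ = 1
      rw [y_zero, inv_one]
    · rfl

theorem Phi_psi : (Phi cs).comp (psi cs) = MonoidHom.id W := by
  apply cs.ext_simple
  intro j
  show Phi cs (psi cs (cs.simple j)) = cs.simple j
  rw [psi_simple]
  show phi cs ((y j)⁻¹) * eps cs (-1) = cs.simple j
  rw [eps_neg_one, map_inv]
  refine Fin.cases ?_ (fun b => ?_) j
  · rw [y_zero, map_one, inv_one, one_mul]
  · rw [y_succ, phi_x, mul_inv_rev, inv_of_mul_self (s_sq cs 0), inv_of_mul_self (s_sq cs b.succ),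
      mul_assoc, s_sq cs 0, mul_one]

theorem phi_injective : Function.Injective (phi cs) := by
  have h1 : Function.Injective (Phi cs) := by
    intro a b hab
    have := congrArg (psi cs) hab
    have e : ∀ t, psi cs (Phi cs t) = t := fun t => DFunLike.congr_fun (psi_Phi cs) t
    rwa [e, e] at this
  intro a b hab
  apply SemidirectProduct.inl_injective (φ := phi2 k)
  apply h1
  show phi cs a * eps cs 1 = phi cs b * eps cs 1
  rw [hab]

end cox



open Cfsg.Agent.Lib.Helper1.CoxA

theorem main (k : ℕ) : Nonempty (P k ≃* alternatingGroup (Fin (k + 2))) := by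
  let cs := coxeterSystemPerm (k + 1)
  have hs : ∀ j : Fin (k + 1), Equiv.Perm.sign (cs.simple j) = -1 := by
    intro j
    show Equiv.Perm.sign ((coxeterSystemPerm (k + 1)).simple j) = -1
    rw [coxeterSystemPerm_simple]
    exact Equiv.Perm.sign_swap (Fin.castSucc_lt_succ (i := j)).ne
  have h1 : ∀ p : P k, phi cs p ∈ alternatingGroup (Fin (k + 2)) := by
    intro p
    rw [Equiv.Perm.mem_alternatingGroup]
    have : (Equiv.Perm.sign.comp (phi cs)) = 1 := by
      apply PresentedGroup.ext
      intro i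
      show Equiv.Perm.sign (phi cs (x i)) = 1
      rw [phi_x, map_mul, hs, hs]
      simp
    exact DFunLike.congr_fun this p
  have h2 : ∀ w ∈ alternatingGroup (Fin (k + 2)), ∃ p, phi cs p = w := by
    intro w hw
    have hr : (SemidirectProduct.rightHom).comp (psi cs) = Equiv.Perm.sign := by
      apply cs.ext_simple
      intro j
      show (psi cs (cs.simple j)).right = Equiv.Perm.sign (cs.simple j)
      rw [psi_simple, hs]
      rfl
    have hu : (psi cs w).right = 1 := by
      have := DFunLike.congr_fun hr w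
      rw [Equiv.Perm.mem_alternatingGroup] at hw
      rw [hw] at this
      exact this
    refine ⟨(psi cs w).left, ?_⟩
    have e : Phi cs (psi cs w) = w := DFunLike.congr_fun (Phi_psi cs) w
    have e2 : Phi cs (psi cs w) = phi cs (psi cs w).left * eps cs (psi cs w).right := rfl
    rw [e2, hu, map_one, mul_one] at e
    exact e
  refine ⟨MulEquiv.ofBijective ((phi cs).codRestrict (alternatingGroup (Fin (k + 2))) h1) ⟨?_, ?_⟩⟩
  · intro a b hab
    apply phi_injective cs
    exact congrArg Subtype.val hab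
  · rintro ⟨w, hw⟩
    obtain ⟨p, hp⟩ := h2 w hw
    exact ⟨p, Subtype.ext hp⟩


/-- A presentation of the alternating group of degree n ≥ 3 on generators x_1, …, x_{n−2} (indexed here by 0, …, n−3): the first generator cubes to 1, every other generator squares to 1, the product of two consecutive generators has order dividing 3, and the product of two generators at distance at least 2 has order dividing 2. The group so presented is isomorphic to the alternating group of degree n. -/
theorem result (n : ℕ) (hn : 3 ≤ n) :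
    Nonempty (PresentedGroup
      ({g : FreeGroup (Fin (n - 2)) | ∃ i : Fin (n - 2), i.val = 0 ∧ g = FreeGroup.of i ^ 3} ∪
       {g | ∃ i : Fin (n - 2), 1 ≤ i.val ∧ g = FreeGroup.of i ^ 2} ∪
       {g | ∃ i j : Fin (n - 2), j.val = i.val + 1 ∧ g = (FreeGroup.of i * FreeGroup.of j) ^ 3} ∪
       {g | ∃ i j : Fin (n - 2), i.val + 1 < j.val ∧ g = (FreeGroup.of i * FreeGroup.of j) ^ 2})
      ≃* alternatingGroup (Fin n)) := by
  obtain ⟨k, rfl⟩ : ∃ k, n = k + 2 := ⟨n - 2, by omega⟩
  exact main k

end Cfsg.Agent.S3335
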