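import Cfsg.Statements.S3349
import Mathlib
-- import your own Cfsg.Agent.* helpers here

set_option autoImplicit false
open Cfsg

namespace Cfsg.Agent.S3349

/-- Let Q be a finite extraspecial p-group and α an automorphism of Q fixing every element of some maximal abelian subgroup of Q. Then the order of α is a power of p. -/
theorem result {Q : Type*} [Group Q] [Finite Q]
    (p : ℕ) [Fact p.Prime] (hQ : Cfsg.IsExtraspecial p Q) (α : MulAut Q)
    (A : Subgroup Q) (hA : IsMulCommutative A) (hmax : ∀ B : Subgroup Q, A ≤ B → IsMulCommutative B → B = A)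
    (hfix : ∀ a ∈ A, α a = a) :
    ∃ k : ℕ, orderOf α = p ^ k := by
  open scoped commutatorElement in
  obtain ⟨⟨hpQ, -, hcomm⟩, -⟩ := hQ
  -- C_Q(A) = A
  have hCA : ∀ x : Q, (∀ a ∈ A, x * a = a * x) → x ∈ A := by
    intro x hx
    -- B = closure (A ∪ {x}) is commutative and contains A
    let B : Subgroup Q := Subgroup.closure ((A : Set Q) ∪ {x})
    have hAB : A ≤ B := fun a ha => Subgroup.subset_closure (Or.inl ha)
    have hxB : x ∈ B := Subgroup.subset_closure (Or.inr rfl)
    have hBc : IsMulCommutative B := by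
      have : ∀ a ∈ ((A : Set Q) ∪ {x}), ∀ b ∈ ((A : Set Q) ∪ {x}), a * b = b * a := by
        rintro a (ha | ha) b (hb | hb)
        · have := hA.is_comm.comm ⟨a, ha⟩ ⟨b, hb⟩
          exact congrArg Subtype.val this
        · rw [Set.mem_singleton_iff.mp hb]; exact (hx a ha).symm
        · rw [Set.mem_singleton_iff.mp ha]; exact hx b hb
        · rw [Set.mem_singleton_iff.mp ha, Set.mem_singleton_iff.mp hb]
      exact Subgroup.isMulCommutative_closure this
    rw [← hmax B hAB hBc]
    exact hxB
  -- centre ≤ A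
  have hZA : Subgroup.center Q ≤ A := by
    intro z hz
    apply hCA
    intro a _
    exact (Subgroup.mem_center_iff.mp hz a).symm
  -- α x = x * a_x with a_x ∈ A
  have hstep : ∀ x : Q, x⁻¹ * α x ∈ A := by
    intro x
    apply hCA
    intro a ha
    have hc : ⁅x, a⁆ ∈ A := by
      apply hZA
      rw [← hcomm]
      exact Subgroup.commutator_mem_commutator (Subgroup.mem_top _) (Subgroup.mem_top _)
    have h1 : α ⁅x, a⁆ = ⁅x, a⁆ := hfix _ hc
    rw [commutatorElement_def] at h1
    simp only [map_mul, map_inv, hfix a ha] at h1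
    -- h1 : α x * a * (α x)⁻¹ * a⁻¹ = x * a * x⁻¹ * a⁻¹
    have h2 : α x * a * (α x)⁻¹ = x * a * x⁻¹ := by
      have := congrArg (· * a) h1
      simpa using this
    calc x⁻¹ * α x * a = x⁻¹ * (α x * a * (α x)⁻¹) * α x := by group
      _ = x⁻¹ * (x * a * x⁻¹) * α x := by rw [h2]
      _ = a * (x⁻¹ * α x) := by group
  -- powers
  have hpow : ∀ (k : ℕ) (x : Q), (α ^ k) x = x * (x⁻¹ * α x) ^ k := by
    intro k
    induction k with
    | zero => intro x; simp
    | succ k ih =>
      intro x
      rw [pow_succ', MulAut.mul_apply, ih, map_mul, map_pow, hfix _ (hstep x), pow_succ']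
      simp only [mul_assoc, mul_inv_cancel_left]
  -- α ^ |Q| = 1
  have hone : α ^ (Nat.card Q) = 1 := by
    ext x
    rw [hpow, pow_card_eq_one', mul_one]; rfl
  obtain ⟨m, hm⟩ := (IsPGroup.iff_card.mp hpQ)
  have hdvd : orderOf α ∣ p ^ m := by
    rw [← hm]; exact orderOf_dvd_of_pow_eq_one hone
  obtain ⟨k, -, hk⟩ := (Nat.dvd_prime_pow (Fact.out : p.Prime)).mp hdvd
  exact ⟨k, hk⟩

end Cfsg.Agent.S3349
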