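import Cfsg.Statements.S3356
import Mathlib

set_option autoImplicit false
open Cfsg

namespace Cfsg.Agent.S3356


/-- The orbit of `y` under conjugation by the subgroup `S`. -/
def cOrb {G : Type*} [Group G] (S : Subgroup G) (y : G) : Set G :=
  {z | ∃ s ∈ S, z = s * y * s⁻¹}

theorem mem_cOrb_self {G : Type*} [Group G] (S : Subgroup G) (y : G) : y ∈ cOrb S y :=
  ⟨1, S.one_mem, by simp⟩

/-- Orbit-stabiliser for conjugation by a subgroup. -/
theorem card_eq_mul_cOrb {G : Type*} [Group G] [Finite G] (S : Subgroup G) (y : G) :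
    Nat.card S = Nat.card ↥(S ⊓ Subgroup.centralizer {y}) * (cOrb S y).ncard := by
  classical
  let inst : MulAction ↥S G :=
    MulAction.compHom G ((MulAut.conj : G →* MulAut G).comp S.subtype)
  have hsmul : ∀ (s : ↥S) (z : G), s • z = (s : G) * z * (s : G)⁻¹ := fun s z => rfl
  have horb : MulAction.orbit ↥S y = cOrb S y := by
    ext z
    constructor
    · rintro ⟨s, rfl⟩
      exact ⟨s, s.2, hsmul s y⟩
    · rintro ⟨s, hs, rfl⟩
      exact ⟨⟨s, hs⟩, hsmul ⟨s, hs⟩ y⟩
  have hstab : MulAction.stabilizer ↥S y = (S ⊓ Subgroup.centralizer {y}).subgroupOf S := by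
    ext s
    rw [MulAction.mem_stabilizer_iff, Subgroup.mem_subgroupOf, Subgroup.mem_inf,
      Subgroup.mem_centralizer_iff, hsmul]
    constructor
    · intro h
      refine ⟨s.2, ?_⟩
      intro z hz
      rw [Set.mem_singleton_iff] at hz
      subst hz
      calc z * (s : G) = ((s : G) * z * (s : G)⁻¹) * (s : G) := by rw [h]
        _ = (s : G) * z := by group
    · rintro ⟨-, h⟩
      have := h y rfl
      calc (s : G) * y * (s : G)⁻¹ = (y * (s : G)) * (s : G)⁻¹ := by rw [this]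
        _ = y := by group
  have h1 := MulAction.index_stabilizer ↥S y
  have h2 := Subgroup.card_mul_index (MulAction.stabilizer ↥S y)
  rw [h1, horb, hstab] at h2
  rw [← h2]
  congr 1
  exact Nat.card_congr (Subgroup.subgroupOfEquivOfLe inf_le_left).toEquiv

/-- If `S` permutes the finite set `T` by conjugation and every element of `T` has a stabiliser
of order `c` in `S`, then `|S|` divides `c * |T|`. -/
theorem card_dvd_of_conj_invariant {G : Type*} [Group G] [Finite G] (S : Subgroup G) (c : ℕ) :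
    ∀ (n : ℕ) (T : Set G), T.ncard = n →
      (∀ s ∈ S, ∀ y ∈ T, s * y * s⁻¹ ∈ T) →
      (∀ y ∈ T, Nat.card ↥(S ⊓ Subgroup.centralizer {y}) = c) →
      Nat.card S ∣ c * T.ncard := by
  intro n
  induction n using Nat.strong_induction_on with
  | _ n ih =>
    intro T hn hinv hc
    by_cases hT : T = ∅
    · subst hT
      simp
    · obtain ⟨y, hy⟩ := Set.nonempty_iff_ne_empty.mpr hT
      have hsub : cOrb S y ⊆ T := by
        rintro z ⟨s, hs, rfl⟩
        exact hinv s hs y hy
      have hTfin : T.Finite := Set.toFinite T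
      set T' := T \ cOrb S y with hT'
      have hlt : T'.ncard < T.ncard := by
        apply Set.ncard_lt_ncard _ hTfin
        refine ⟨Set.sdiff_subset, ?_⟩
        intro hcon
        exact (hcon hy).2 (mem_cOrb_self S y)
      have hinv' : ∀ s ∈ S, ∀ z ∈ T', s * z * s⁻¹ ∈ T' := by
        intro s hs z hz
        refine ⟨hinv s hs z hz.1, ?_⟩
        rintro ⟨s', hs', h⟩
        apply hz.2
        refine ⟨s⁻¹ * s', S.mul_mem (S.inv_mem hs) hs', ?_⟩
        calc z = s⁻¹ * (s * z * s⁻¹) * s := by group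
          _ = s⁻¹ * (s' * y * s'⁻¹) * s := by rw [h]
          _ = s⁻¹ * s' * y * (s⁻¹ * s')⁻¹ := by group
      have hc' : ∀ z ∈ T', Nat.card ↥(S ⊓ Subgroup.centralizer {z}) = c := fun z hz => hc z hz.1
      have ih' := ih T'.ncard (hn ▸ hlt) T' rfl hinv' hc'
      have hsplit : T.ncard = (cOrb S y).ncard + T'.ncard := by
        rw [hT', Set.ncard_sdiff hsub (Set.toFinite _)]
        have := Set.ncard_le_ncard hsub hTfin
        omega
      have horb := card_eq_mul_cOrb S y
      rw [hc y hy] at horb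
      rw [hsplit, mul_add]
      exact dvd_add (by rw [← horb]) ih'



/-- Half-transitive, non-semiregular set-up inside a group: `H` acts on the normal subgroup `N`
by conjugation, faithfully, every non-identity element of `N` having a centraliser of the same
order `c > 1` in `H`. -/
structure HT {G : Type*} [Group G] (N H : Subgroup G) (c : ℕ) : Prop where
  normal : N.Normal
  hc : ∀ x ∈ N, x ≠ 1 → Nat.card ↥(H ⊓ Subgroup.centralizer {x}) = c
  hc1 : 1 < c
  faith : ∀ h ∈ H, (∀ x ∈ N, h * x = x * h) → h = 1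

theorem mem_K_iff {G : Type*} [Group G] (H : Subgroup G) (x h : G) :
    h ∈ H ⊓ Subgroup.centralizer {x} ↔ h ∈ H ∧ h * x = x * h := by
  rw [Subgroup.mem_inf, Subgroup.mem_centralizer_iff]
  constructor
  · rintro ⟨h1, h2⟩
    exact ⟨h1, (h2 x rfl).symm⟩
  · rintro ⟨h1, h2⟩
    refine ⟨h1, ?_⟩
    intro z hz
    rw [Set.mem_singleton_iff] at hz
    subst hz
    exact h2.symm

theorem HT.card_dvd {G : Type*} [Group G] [Finite G] {N H : Subgroup G} {c : ℕ}
    (ht : HT N H c) : Nat.card H ∣ c * (Nat.card N - 1) := by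
  have hn := ht.normal
  set T : Set G := (N : Set G) \ {1} with hT
  have h1 : T.ncard = Nat.card N - 1 := by
    rw [hT, Set.ncard_sdiff_singleton_of_mem (show (1 : G) ∈ (N : Set G) from N.one_mem)]
    congr 1
  rw [← h1]
  apply card_dvd_of_conj_invariant H c T.ncard T rfl
  · intro s hs y hy
    refine ⟨hn.conj_mem y hy.1 s, ?_⟩
    intro h
    apply hy.2
    rw [Set.mem_singleton_iff] at h ⊢
    calc y = s⁻¹ * (s * y * s⁻¹) * s := by group
      _ = 1 := by rw [h]; group
  · intro y hy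
    exact ht.hc y hy.1 (fun h => hy.2 (by rw [Set.mem_singleton_iff]; exact h))

/-- Key lemma: a subset `T` of `N ∖ {1}` of size dividing `|N|`, stabilised (setwise) by the
`H`-centraliser of each of its elements, is centralised by each of these centralisers. -/
theorem HT.key {G : Type*} [Group G] [Finite G] {N H : Subgroup G} {c : ℕ}
    (ht : HT N H c) (T : Set G) (hTN : T ⊆ (N : Set G)) (h1T : (1 : G) ∉ T)
    (hdvd : T.ncard ∣ Nat.card N)
    (hstab : ∀ y ∈ T, ∀ h ∈ H, h * y = y * h → ∀ z ∈ T, h * z * h⁻¹ ∈ T) :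
    ∀ y ∈ T, ∀ h ∈ H, h * y = y * h → ∀ z ∈ T, h * z = z * h := by
  intro y hy
  -- setwise stabiliser
  let S : Subgroup G :=
    { carrier := {h | h ∈ H ∧ ∀ z ∈ T, h * z * h⁻¹ ∈ T ∧ h⁻¹ * z * h ∈ T}
      one_mem' := ⟨H.one_mem, fun z hz => by simpa using hz⟩
      mul_mem' := by
        rintro a b ⟨ha, ha'⟩ ⟨hb, hb'⟩
        refine ⟨H.mul_mem ha hb, fun z hz => ⟨?_, ?_⟩⟩
        · have := (ha' _ (hb' z hz).1).1
          have e : a * b * z * (a * b)⁻¹ = a * (b * z * b⁻¹) * a⁻¹ := by group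
          rw [e]; exact this
        · have := (hb' _ (ha' z hz).2).2
          have e : (a * b)⁻¹ * z * (a * b) = b⁻¹ * (a⁻¹ * z * a) * b := by group
          rw [e]; exact this
      inv_mem' := by
        rintro a ⟨ha, ha'⟩
        refine ⟨H.inv_mem ha, fun z hz => ⟨?_, ?_⟩⟩
        · rw [inv_inv]; exact (ha' z hz).2
        · rw [inv_inv]; exact (ha' z hz).1 }
  have hSH : S ≤ H := fun h hh => hh.1
  have hKS : ∀ z ∈ T, H ⊓ Subgroup.centralizer {z} ≤ S := by
    intro z hz h hh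
    rw [mem_K_iff] at hh
    refine ⟨hh.1, fun w hw => ⟨hstab z hz h hh.1 hh.2 w hw, ?_⟩⟩
    have hinv : h⁻¹ * z = z * h⁻¹ := by
      calc h⁻¹ * z = h⁻¹ * (z * h) * h⁻¹ := by group
        _ = h⁻¹ * (h * z) * h⁻¹ := by rw [hh.2]
        _ = z * h⁻¹ := by group
    have := hstab z hz h⁻¹ (H.inv_mem hh.1) hinv w hw
    rwa [inv_inv] at this
  have hSK : ∀ z ∈ T, S ⊓ Subgroup.centralizer {z} = H ⊓ Subgroup.centralizer {z} := by
    intro z hz
    apply le_antisymm
    · exact inf_le_inf_right _ hSH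
    · exact le_inf (hKS z hz) inf_le_right
  have hinvS : ∀ s ∈ S, ∀ z ∈ T, s * z * s⁻¹ ∈ T := fun s hs z hz => (hs.2 z hz).1
  have hcS : ∀ z ∈ T, Nat.card ↥(S ⊓ Subgroup.centralizer {z}) = c := by
    intro z hz
    rw [hSK z hz]
    exact ht.hc z (hTN hz) (fun h => h1T (h ▸ hz))
  have hdiv := card_dvd_of_conj_invariant S c T.ncard T rfl hinvS hcS
  have hcdvd : c ∣ Nat.card S := by
    have := Subgroup.card_dvd_of_le (hKS y hy)
    rwa [ht.hc y (hTN hy) (fun h => h1T (h ▸ hy))] at this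
  have hSdvd : Nat.card S ∣ Nat.card H := Subgroup.card_dvd_of_le hSH
  have hH := ht.card_dvd
  have hcpos : 0 < c := lt_trans Nat.zero_lt_one ht.hc1
  obtain ⟨f, hf⟩ := hcdvd
  have hf1 : f ∣ T.ncard := by
    rw [hf] at hdiv
    exact Nat.dvd_of_mul_dvd_mul_left hcpos hdiv
  have hf2 : f ∣ Nat.card N - 1 := by
    have := dvd_trans hSdvd hH
    rw [hf] at this
    exact Nat.dvd_of_mul_dvd_mul_left hcpos this
  have hNpos : 0 < Nat.card N := Nat.card_pos
  have hf3 : f ∣ 1 := by
    have := Nat.dvd_sub (dvd_trans hf1 hdvd) hf2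
    have e : Nat.card N - (Nat.card N - 1) = 1 := by omega
    rwa [e] at this
  have hfone : f = 1 := Nat.dvd_one.mp hf3
  have hScard : Nat.card S = c := by rw [hf, hfone, mul_one]
  intro h hh hcomm z hz
  have hSeq : H ⊓ Subgroup.centralizer {z} = S := by
    apply Subgroup.eq_of_le_of_card_ge (hKS z hz)
    rw [hScard, ht.hc z (hTN hz) (fun h => h1T (h ▸ hz))]
  have hhS : h ∈ S := hKS y hy ((mem_K_iff H y h).mpr ⟨hh, hcomm⟩)
  rw [← hSeq, mem_K_iff] at hhS
  exact hhS.2



/-- (E1) conjugating by an element of `N` does not change the `H`-centraliser. -/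
theorem HT.K_conj {G : Type*} [Group G] [Finite G] {N H : Subgroup G} {c : ℕ}
    (ht : HT N H c) {x t : G} (hx : x ∈ N) (hx1 : x ≠ 1) (htN : t ∈ N) :
    H ⊓ Subgroup.centralizer {t * x * t⁻¹} = H ⊓ Subgroup.centralizer {x} := by
  have hn := ht.normal
  have hconj_ne : ∀ s : G, s * x * s⁻¹ ≠ 1 := by
    intro s h
    apply hx1
    calc x = s⁻¹ * (s * x * s⁻¹) * s := by group
      _ = 1 := by rw [h]; group
  have hkey := ht.key (cOrb N x)
    (by
      rintro z ⟨s, hs, rfl⟩
      exact N.mul_mem (N.mul_mem hs hx) (N.inv_mem hs))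
    (by
      rintro ⟨s, hs, h⟩
      exact hconj_ne s h.symm)
    (by
      have := card_eq_mul_cOrb N x
      exact Dvd.intro_left _ this.symm)
    (by
      rintro y ⟨n, hnN, rfl⟩ h hh hcomm z ⟨n', hn'N, rfl⟩
      refine ⟨h * n' * n⁻¹ * h⁻¹ * n, ?_, ?_⟩
      · apply N.mul_mem _ hnN
        have : h * n' * n⁻¹ * h⁻¹ = h * (n' * n⁻¹) * h⁻¹ := by group
        rw [this]
        exact hn.conj_mem _ (N.mul_mem hn'N (N.inv_mem hnN)) h
      · have e1 : h * (n' * x * n'⁻¹) * h⁻¹
            = (h * n' * n⁻¹ * h⁻¹) * (h * (n * x * n⁻¹) * h⁻¹) * (h * n' * n⁻¹ * h⁻¹)⁻¹ := by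
          group
        have e2 : h * (n * x * n⁻¹) * h⁻¹ = n * x * n⁻¹ := by
          rw [hcomm]; group
        rw [e1, e2]
        group)
  symm
  apply Subgroup.eq_of_le_of_card_ge
  · intro h hh
    rw [mem_K_iff] at hh ⊢
    exact ⟨hh.1, hkey x (mem_cOrb_self N x) h hh.1 hh.2 _ ⟨t, htN, rfl⟩⟩
  · rw [ht.hc x hx hx1, ht.hc _ (hn.conj_mem x hx t) (hconj_ne t)]

/-- (E2) -/
theorem HT.K_mul {G : Type*} [Group G] [Finite G] {N H : Subgroup G} {c : ℕ}
    (ht : HT N H c) {x y : G} (hx : x ∈ N) (hx1 : x ≠ 1) (hy : y ∈ N) (hxy : x * y ≠ 1)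
    (hK : H ⊓ Subgroup.centralizer {x} = H ⊓ Subgroup.centralizer {y}) :
    H ⊓ Subgroup.centralizer {x * y} = H ⊓ Subgroup.centralizer {x} := by
  symm
  apply Subgroup.eq_of_le_of_card_ge
  · intro h hh
    have hh' : h ∈ H ⊓ Subgroup.centralizer {y} := hK ▸ hh
    rw [mem_K_iff] at hh hh' ⊢
    refine ⟨hh.1, ?_⟩
    calc h * (x * y) = (h * x) * y := by group
      _ = x * (h * y) := by rw [hh.2]; group
      _ = x * y * h := by rw [hh'.2]; group
  · rw [ht.hc x hx hx1, ht.hc _ (N.mul_mem hx hy) hxy]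

/-- (E3) -/
theorem K_inv {G : Type*} [Group G] (H : Subgroup G) (x : G) :
    H ⊓ Subgroup.centralizer {x⁻¹} = H ⊓ Subgroup.centralizer {x} := by
  ext h
  rw [mem_K_iff, mem_K_iff]
  constructor
  · rintro ⟨h1, h2⟩
    refine ⟨h1, ?_⟩
    calc h * x = x * (x⁻¹ * h) * x := by group
      _ = x * (h * x⁻¹) * x := by rw [h2]
      _ = x * h := by group
  · rintro ⟨h1, h2⟩
    refine ⟨h1, ?_⟩
    calc h * x⁻¹ = x⁻¹ * (x * h) * x⁻¹ := by group
      _ = x⁻¹ * (h * x) * x⁻¹ := by rw [h2]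
      _ = x⁻¹ * h := by group

/-- (E4) elements of `N` with different `H`-centralisers commute. -/
theorem HT.commute_of_K_ne {G : Type*} [Group G] [Finite G] {N H : Subgroup G} {c : ℕ}
    (ht : HT N H c) {x y : G} (hx : x ∈ N) (hx1 : x ≠ 1) (hy : y ∈ N) (hy1 : y ≠ 1)
    (hK : H ⊓ Subgroup.centralizer {x} ≠ H ⊓ Subgroup.centralizer {y}) :
    x * y = y * x := by
  by_contra hne
  apply hK
  have hcomm : x * y * x⁻¹ * y⁻¹ ≠ 1 := by
    intro h
    apply hne
    calc x * y = (x * y * x⁻¹ * y⁻¹) * (y * x) := by group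
      _ = y * x := by rw [h, one_mul]
  have hxi : x⁻¹ ≠ 1 := inv_ne_one.mpr hx1
  have hyi : y⁻¹ ≠ 1 := inv_ne_one.mpr hy1
  -- first decomposition
  have h1 : H ⊓ Subgroup.centralizer {y * x⁻¹ * y⁻¹} = H ⊓ Subgroup.centralizer {x} := by
    rw [ht.K_conj (N.inv_mem hx) hxi hy, K_inv]
  have e1 : x * y * x⁻¹ * y⁻¹ = x * (y * x⁻¹ * y⁻¹) := by group
  have hA : H ⊓ Subgroup.centralizer {x * y * x⁻¹ * y⁻¹} = H ⊓ Subgroup.centralizer {x} := by
    rw [e1]
    apply ht.K_mul hx hx1 (ht.normal.conj_mem _ (N.inv_mem hx) y) (by rw [← e1]; exact hcomm)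
    exact h1.symm
  -- second decomposition
  have h2 : H ⊓ Subgroup.centralizer {x * y * x⁻¹} = H ⊓ Subgroup.centralizer {y} :=
    ht.K_conj hy hy1 hx
  have hxyx : x * y * x⁻¹ ≠ 1 := by
    intro h
    apply hy1
    calc y = x⁻¹ * (x * y * x⁻¹) * x := by group
      _ = 1 := by rw [h]; group
  have hB : H ⊓ Subgroup.centralizer {x * y * x⁻¹ * y⁻¹} = H ⊓ Subgroup.centralizer {y} := by
    have := ht.K_mul (ht.normal.conj_mem y hy x) hxyx (N.inv_mem hy) hcomm
      (by rw [h2, K_inv])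
    rw [this, h2]
  rw [← hA, hB]

/-- (E5) -/
theorem HT.exists_K_ne {G : Type*} [Group G] [Finite G] {N H : Subgroup G} {c : ℕ}
    (ht : HT N H c) {x : G} (hx : x ∈ N) (hx1 : x ≠ 1) :
    ∃ y ∈ N, y ≠ 1 ∧ H ⊓ Subgroup.centralizer {y} ≠ H ⊓ Subgroup.centralizer {x} := by
  by_contra hcon
  push Not at hcon
  have hbot : H ⊓ Subgroup.centralizer {x} = ⊥ := by
    rw [Subgroup.eq_bot_iff_forall]
    intro h hh
    have hh' := (mem_K_iff H x h).mp hh
    apply ht.faith h hh'.1
    intro y hy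
    by_cases hy1 : y = 1
    · subst hy1; simp
    · have := hcon y hy hy1
      rw [← this] at hh
      exact ((mem_K_iff H y h).mp hh).2
  have := ht.hc x hx hx1
  rw [hbot, Subgroup.card_bot] at this
  have := ht.hc1
  omega

/-- (E6) `N` is abelian. -/
theorem HT.comm {G : Type*} [Group G] [Finite G] {N H : Subgroup G} {c : ℕ}
    (ht : HT N H c) {x x' : G} (hx : x ∈ N) (hx' : x' ∈ N) : x * x' = x' * x := by
  by_cases hx1 : x = 1
  · subst hx1; simp
  by_cases hx'1 : x' = 1
  · subst hx'1; simp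
  by_cases hK : H ⊓ Subgroup.centralizer {x} = H ⊓ Subgroup.centralizer {x'}
  · obtain ⟨y, hy, hy1, hKy⟩ := ht.exists_K_ne hx hx1
    have hxi : x'⁻¹ ≠ 1 := inv_ne_one.mpr hx'1
    have hprod : x' * y ≠ 1 := by
      intro h
      apply hKy
      have : y = x'⁻¹ := by
        calc y = x'⁻¹ * (x' * y) := by group
          _ = x'⁻¹ := by rw [h, mul_one]
      rw [this, K_inv, hK]
    have hKprod : H ⊓ Subgroup.centralizer {x} ≠ H ⊓ Subgroup.centralizer {x' * y} := by
      intro h
      apply hKy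
      have e : y = x'⁻¹ * (x' * y) := by group
      have hyne : x'⁻¹ * (x' * y) ≠ 1 := by rw [← e]; exact hy1
      have := ht.K_mul (N.inv_mem hx') hxi (N.mul_mem hx' hy) hyne
        (by rw [K_inv, ← hK, h])
      rw [← e] at this
      rw [this, K_inv, hK]
    have c1 := ht.commute_of_K_ne hx hx1 (N.mul_mem hx' hy) hprod hKprod
    have c2 := ht.commute_of_K_ne hx hx1 hy hy1 (Ne.symm hKy)
    calc x * x' = (x * (x' * y)) * y⁻¹ := by group
      _ = (x' * y * x) * y⁻¹ := by rw [c1]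
      _ = x' * (y * x) * y⁻¹ := by group
      _ = x' * (x * y) * y⁻¹ := by rw [c2]
      _ = x' * x := by group
  · exact ht.commute_of_K_ne hx hx1 hx' hx'1 hK

/-- (F) an `H`-invariant non-trivial subgroup of `N` is `N`. -/
theorem HT.invariant_eq {G : Type*} [Group G] [Finite G] {N H : Subgroup G} {c : ℕ}
    (ht : HT N H c) (M : Subgroup G) (hMN : M ≤ N)
    (hinv : ∀ h ∈ H, ∀ z ∈ M, h * z * h⁻¹ ∈ M) (hM : M ≠ ⊥) : N ≤ M := by
  by_contra hcon
  obtain ⟨x0, hx0N, hx0M⟩ := SetLike.not_le_iff_exists.mp hcon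
  obtain ⟨z0, hz01⟩ := (Subgroup.ne_bot_iff_exists_ne_one.mp hM)
  have hz0M' : (z0 : G) ∈ M := z0.2
  have hz01' : (z0 : G) ≠ 1 := fun h => hz01 (Subtype.ext h)
  -- (F1)
  have F1 : ∀ x ∈ N, x ∉ M → ∀ z ∈ M, ∀ h ∈ H, h * x = x * h → h * z = z * h := by
    intro x hxN hxM z hzM h hh hcomm
    have hkey := ht.key ((fun z' => x * z') '' (M : Set G))
      (by
        rintro _ ⟨z', hz', rfl⟩
        exact N.mul_mem hxN (hMN hz'))
      (by
        rintro ⟨z', hz', h⟩
        apply hxM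
        have h : x * z' = 1 := h
        have : x = z'⁻¹ := by
          calc x = (x * z') * z'⁻¹ := by group
            _ = z'⁻¹ := by rw [h, one_mul]
        rw [this]
        exact M.inv_mem hz')
      (by
        rw [Set.ncard_image_of_injective _ (mul_right_injective x)]
        have : (M : Set G).ncard = Nat.card M := (Nat.card_coe_set_eq (M : Set G)).symm
        rw [this]
        exact Subgroup.card_dvd_of_le hMN)
      (by
        rintro _ ⟨z1, hz1, rfl⟩ k hk hkcomm _ ⟨z2, hz2, rfl⟩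
        refine ⟨z1 * (k * (z1⁻¹ * z2) * k⁻¹), ?_, ?_⟩
        · exact M.mul_mem hz1 (hinv k hk _ (M.mul_mem (M.inv_mem hz1) hz2))
        · show x * (z1 * (k * (z1⁻¹ * z2) * k⁻¹)) = k * (x * z2) * k⁻¹
          have e : k * (x * z2) * k⁻¹ = (k * (x * z1)) * (z1⁻¹ * z2) * k⁻¹ := by group
          rw [e, hkcomm]
          group)
    have hxz := hkey x ⟨1, M.one_mem, by simp⟩ h hh hcomm (x * z) ⟨z, hzM, rfl⟩
    calc h * z = x⁻¹ * (x * h) * z := by group
      _ = x⁻¹ * (h * x) * z := by rw [hcomm]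
      _ = x⁻¹ * (h * (x * z)) := by group
      _ = x⁻¹ * ((x * z) * h) := by rw [hxz]
      _ = z * h := by group
  -- (F2)
  have F2 : ∀ x ∈ N, x ∉ M → ∀ z ∈ M, z ≠ 1 →
      H ⊓ Subgroup.centralizer {x} = H ⊓ Subgroup.centralizer {z} := by
    intro x hxN hxM z hzM hz1
    have hx1 : x ≠ 1 := fun h => hxM (h ▸ M.one_mem)
    apply Subgroup.eq_of_le_of_card_ge
    · intro h hh
      rw [mem_K_iff] at hh ⊢
      exact ⟨hh.1, F1 x hxN hxM z hzM h hh.1 hh.2⟩
    · rw [ht.hc x hxN hx1, ht.hc z (hMN hzM) hz1]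
  have hx01 : x0 ≠ 1 := fun h => hx0M (h ▸ M.one_mem)
  have hbot : H ⊓ Subgroup.centralizer {(z0 : G)} = ⊥ := by
    rw [Subgroup.eq_bot_iff_forall]
    intro h hh
    have hh' := (mem_K_iff H _ h).mp hh
    apply ht.faith h hh'.1
    intro y hy
    by_cases hyM : y ∈ M
    · by_cases hy1 : y = 1
      · subst hy1; simp
      · have e := F2 x0 hx0N hx0M y hyM hy1
        have e0 := F2 x0 hx0N hx0M z0 hz0M' hz01'
        rw [← e0, e] at hh
        exact ((mem_K_iff H y h).mp hh).2
    · have e := F2 y hy hyM z0 hz0M' hz01'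
      rw [← e] at hh
      exact ((mem_K_iff H y h).mp hh).2
  have := ht.hc z0 (hMN hz0M') hz01'
  rw [hbot, Subgroup.card_bot] at this
  have := ht.hc1
  omega



theorem regular_eq_one {G Ω : Type*} [Group G] [MulAction G Ω] (N : Subgroup G)
    (hNr : ∀ a : Ω, MulAction.stabilizer N a = ⊥) (a : Ω) {n : G} (hn : n ∈ N)
    (h : n • a = a) : n = 1 := by
  have hmem : (⟨n, hn⟩ : ↥N) ∈ MulAction.stabilizer ↥N a := by
    rw [MulAction.mem_stabilizer_iff]
    exact h
  rw [hNr a, Subgroup.mem_bot] at hmem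
  exact Subtype.ext_iff.mp hmem

theorem commute_iff_fix {G Ω : Type*} [Group G] [MulAction G Ω] (N : Subgroup G) [hN : N.Normal]
    (hNr : ∀ a : Ω, MulAction.stabilizer N a = ⊥) (a : Ω) {x h : G} (hx : x ∈ N)
    (hh : h ∈ MulAction.stabilizer G a) :
    h * x = x * h ↔ h • (x • a) = x • a := by
  rw [MulAction.mem_stabilizer_iff] at hh
  constructor
  · intro hc
    rw [← mul_smul, hc, mul_smul, hh]
  · intro hf
    have hhi : h⁻¹ • a = a := by
      calc h⁻¹ • a = h⁻¹ • (h • a) := by rw [hh]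
        _ = a := by rw [← mul_smul, inv_mul_cancel, one_smul]
    have hmem : x⁻¹ * (h * x * h⁻¹) ∈ N := N.mul_mem (N.inv_mem hx) (hN.conj_mem x hx h)
    have hfix : (x⁻¹ * (h * x * h⁻¹)) • a = a := by
      rw [mul_smul, mul_smul, mul_smul, hhi, hf, ← mul_smul, inv_mul_cancel, one_smul]
    have := regular_eq_one N hNr a hmem hfix
    calc h * x = x * (x⁻¹ * (h * x * h⁻¹)) * h := by group
      _ = x * h := by rw [this, mul_one]

theorem card_stab_sub {G Ω : Type*} [Group G] [MulAction G Ω] (H : Subgroup G) (ω : Ω) :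
    Nat.card ↥(MulAction.stabilizer ↥H ω) = Nat.card ↥(H ⊓ MulAction.stabilizer G ω) := by
  have hstab : MulAction.stabilizer ↥H ω = (H ⊓ MulAction.stabilizer G ω).subgroupOf H := by
    ext s
    rw [MulAction.mem_stabilizer_iff, Subgroup.mem_subgroupOf, Subgroup.mem_inf,
      MulAction.mem_stabilizer_iff]
    constructor
    · intro h
      exact ⟨s.2, h⟩
    · rintro ⟨-, h⟩
      exact h
  rw [hstab]
  exact Nat.card_congr (Subgroup.subgroupOfEquivOfLe inf_le_left).toEquiv

theorem card_stab_eq_of_orbit {G Ω : Type*} [Group G] [Finite G] [MulAction G Ω]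
    (H : Subgroup G) (ω ω' : Ω)
    (h : Nat.card (MulAction.orbit ↥H ω) = Nat.card (MulAction.orbit ↥H ω')) :
    Nat.card ↥(H ⊓ MulAction.stabilizer G ω) = Nat.card ↥(H ⊓ MulAction.stabilizer G ω') := by
  rw [← card_stab_sub, ← card_stab_sub]
  have h1 := Subgroup.card_mul_index (MulAction.stabilizer ↥H ω)
  have h2 := Subgroup.card_mul_index (MulAction.stabilizer ↥H ω')
  rw [MulAction.index_stabilizer, ← Nat.card_coe_set_eq] at h1 h2
  rw [h] at h1
  have hpos : 0 < Nat.card (MulAction.orbit ↥H ω') := by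
    have : Nonempty (MulAction.orbit ↥H ω') := ⟨⟨ω', MulAction.mem_orbit_self ω'⟩⟩
    have : Finite (MulAction.orbit ↥H ω') := by
      rw [MulAction.orbit]
      exact Set.finite_range _
    exact Nat.card_pos
  exact Nat.eq_of_mul_eq_mul_right hpos (h1.trans h2.symm)

/-- The abstract half-transitive set-up from the permutation-group hypotheses. -/
theorem ht_of_perm {G Ω : Type*} [Group G] [Finite G]
    [MulAction G Ω] [FaithfulSMul G Ω]
    (N : Subgroup G) [hN : N.Normal] (hNt : MulAction.IsPretransitive N Ω)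
    (hNr : ∀ a : Ω, MulAction.stabilizer N a = ⊥) (a b : Ω) (hab : a ≠ b)
    (hhalf : ∀ c : Ω, c ≠ a →
      Nat.card (MulAction.orbit (MulAction.stabilizer G a) c)
        = Nat.card (MulAction.orbit (MulAction.stabilizer G a) b))
    (hnb : MulAction.stabilizer G a ⊓ MulAction.stabilizer G b ≠ ⊥) :
    HT N (MulAction.stabilizer G a)
      (Nat.card ↥(MulAction.stabilizer G a ⊓ MulAction.stabilizer G b)) := by
  refine ⟨hN, ?_, ?_, ?_⟩
  · intro x hx hx1
    have hxa : x • a ≠ a := fun h => hx1 (regular_eq_one N hNr a hx h)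
    have heq : MulAction.stabilizer G a ⊓ Subgroup.centralizer {x}
        = MulAction.stabilizer G a ⊓ MulAction.stabilizer G (x • a) := by
      ext h
      rw [mem_K_iff, Subgroup.mem_inf, MulAction.mem_stabilizer_iff (a := x • a)]
      constructor
      · rintro ⟨h1, h2⟩
        exact ⟨h1, (commute_iff_fix N hNr a hx h1).mp h2⟩
      · rintro ⟨h1, h2⟩
        exact ⟨h1, (commute_iff_fix N hNr a hx h1).mpr h2⟩
    rw [heq]
    exact card_stab_eq_of_orbit _ _ _ (hhalf _ hxa)
  · exact (Subgroup.one_lt_card_iff_ne_bot _).mpr hnb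
  · intro h hh hcomm
    apply FaithfulSMul.eq_of_smul_eq_smul (α := Ω)
    intro ω
    obtain ⟨n, hn⟩ := MulAction.exists_smul_eq ↥N a ω
    have hn' : (n : G) • a = ω := hn
    rw [one_smul, ← hn']
    exact (commute_iff_fix N hNr a n.2 hh).mp (hcomm _ n.2)

theorem exists_mul_stab {G Ω : Type*} [Group G] [MulAction G Ω]
    (N : Subgroup G) (hNt : MulAction.IsPretransitive N Ω) (a : Ω) (g : G) :
    ∃ n ∈ N, n⁻¹ * g ∈ MulAction.stabilizer G a := by
  obtain ⟨n, hn⟩ := MulAction.exists_smul_eq ↥N a (g • a)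
  have hn' : (n : G) • a = g • a := hn
  refine ⟨n, n.2, ?_⟩
  rw [MulAction.mem_stabilizer_iff, mul_smul, ← hn', ← mul_smul, inv_mul_cancel, one_smul]


/-- Let G be a finite 3/2-transitive permutation group: G acts faithfully and transitively on a finite set, the point stabilizers are non-trivial, and for each point a all orbits of G_a on the remaining points have the same size. Suppose G has a regular normal subgroup N and G is not a Frobenius group (some two-point stabilizer is non-trivial). Then N is an elementary abelian p-group for some prime p, and every non-trivial normal subgroup of G contains N (so N is the unique minimal normal subgroup). -/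
theorem result {G Ω : Type*} [Group G] [Finite G]
    [MulAction G Ω] [FaithfulSMul G Ω] [Finite Ω] (htrans : MulAction.IsPretransitive G Ω)
    (hne : ∀ a : Ω, MulAction.stabilizer G a ≠ ⊥)
    (hhalf : ∀ a b c : Ω, b ≠ a → c ≠ a →
      Nat.card (MulAction.orbit (MulAction.stabilizer G a) b) = Nat.card (MulAction.orbit (MulAction.stabilizer G a) c))
    (N : Subgroup G) [hN : N.Normal] (hNt : MulAction.IsPretransitive N Ω) (hNr : ∀ a : Ω, MulAction.stabilizer N a = ⊥)
    (hnotF : ∃ a b : Ω, a ≠ b ∧ MulAction.stabilizer G a ⊓ MulAction.stabilizer G b ≠ ⊥) :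
    (∃ p : ℕ, p.Prime ∧ IsMulCommutative N ∧ ∀ x ∈ N, x ^ p = 1) ∧
    (∀ M : Subgroup G, M.Normal → M ≠ ⊥ → N ≤ M) := by
  obtain ⟨a, b, hab, hnb⟩ := hnotF
  have ht := ht_of_perm N hNt hNr a b hab (fun c hc => hhalf a c b hc (Ne.symm hab)) hnb
  have hcomm : ∀ x ∈ N, ∀ y ∈ N, x * y = y * x := fun x hx y hy => ht.comm hx hy
  refine ⟨?_, ?_⟩
  · -- prime exponent
    have hNbot : N ≠ ⊥ := by
      intro h
      obtain ⟨n, hn⟩ := MulAction.exists_smul_eq ↥N a b
      have hn' : (n : G) • a = b := hn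
      have : (n : G) ∈ (⊥ : Subgroup G) := h ▸ n.2
      rw [Subgroup.mem_bot] at this
      rw [this, one_smul] at hn'
      exact hab hn'
    have hcard : Nat.card N ≠ 1 := by
      intro h
      exact hNbot (Subgroup.card_eq_one.mp h)
    set p := (Nat.card N).minFac with hp
    have hpp : p.Prime := Nat.minFac_prime hcard
    have : Fact p.Prime := ⟨hpp⟩
    obtain ⟨y, hy⟩ := exists_prime_orderOf_dvd_card' (G := ↥N) p (Nat.minFac_dvd _)
    refine ⟨p, hpp, ⟨⟨fun x y => Subtype.ext (hcomm x x.2 y y.2)⟩⟩, ?_⟩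
    let Mp : Subgroup G :=
      { carrier := {x | x ∈ N ∧ x ^ p = 1}
        one_mem' := ⟨N.one_mem, one_pow p⟩
        mul_mem' := by
          rintro u v ⟨hu, hu'⟩ ⟨hv, hv'⟩
          refine ⟨N.mul_mem hu hv, ?_⟩
          have hc : Commute u v := hcomm u hu v hv
          rw [hc.mul_pow, hu', hv', one_mul]
        inv_mem' := by
          rintro u ⟨hu, hu'⟩
          exact ⟨N.inv_mem hu, by rw [inv_pow, hu', inv_one]⟩ }
    have hle : N ≤ Mp := by
      apply ht.invariant_eq Mp (fun x hx => hx.1)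
      · rintro h hh z ⟨hz, hz'⟩
        exact ⟨hN.conj_mem z hz h, by rw [conj_pow, hz', mul_one, mul_inv_cancel]⟩
      · intro hbot
        have hyM : (y : G) ∈ Mp := by
          refine ⟨y.2, ?_⟩
          have := pow_orderOf_eq_one y
          rw [hy] at this
          have h2 := congrArg Subtype.val this
          simpa using h2
        rw [hbot, Subgroup.mem_bot] at hyM
        have hy1 : y = 1 := Subtype.ext hyM
        rw [hy1, orderOf_one] at hy
        exact hpp.one_lt.ne hy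
    intro x hx
    exact (hle hx).2
  · intro M hMn hM
    by_cases hMN : M ⊓ N = ⊥
    · exfalso
      obtain ⟨g, hg1⟩ := Subgroup.ne_bot_iff_exists_ne_one.mp hM
      have hgM : (g : G) ∈ M := g.2
      have hg1' : (g : G) ≠ 1 := fun h => hg1 (Subtype.ext h)
      have hgc : ∀ n ∈ N, (g : G) * n = n * g := by
        intro n hn
        have hmem : (g : G) * n * (g : G)⁻¹ * n⁻¹ ∈ M ⊓ N := by
          refine ⟨?_, ?_⟩
          · have : (g : G) * n * (g : G)⁻¹ * n⁻¹ = (g : G) * (n * (g : G)⁻¹ * n⁻¹) := by group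
            rw [this]
            exact M.mul_mem hgM (hMn.conj_mem _ (M.inv_mem hgM) n)
          · exact N.mul_mem (hN.conj_mem n hn g) (N.inv_mem hn)
        rw [hMN, Subgroup.mem_bot] at hmem
        calc (g : G) * n = ((g : G) * n * (g : G)⁻¹ * n⁻¹) * (n * g) := by group
          _ = n * g := by rw [hmem, one_mul]
      obtain ⟨n0, hn0, hh0⟩ := exists_mul_stab N hNt a (g : G)
      have hh0c : ∀ n ∈ N, (n0⁻¹ * (g : G)) * n = n * (n0⁻¹ * (g : G)) := by
        intro n hn
        have e1 : n0⁻¹ * n = n * n0⁻¹ := hcomm _ (N.inv_mem hn0) n hn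
        calc (n0⁻¹ * (g : G)) * n = n0⁻¹ * ((g : G) * n) := by group
          _ = n0⁻¹ * (n * g) := by rw [hgc n hn]
          _ = (n0⁻¹ * n) * g := by group
          _ = (n * n0⁻¹) * g := by rw [e1]
          _ = n * (n0⁻¹ * (g : G)) := by group
      have h1 := ht.faith _ hh0 hh0c
      have hgn : (g : G) = n0 := by
        calc (g : G) = n0 * (n0⁻¹ * (g : G)) := by group
          _ = n0 := by rw [h1, mul_one]
      have : (g : G) ∈ M ⊓ N := ⟨hgM, hgn ▸ hn0⟩
      rw [hMN, Subgroup.mem_bot] at this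
      exact hg1' this
    · have := ht.invariant_eq (M ⊓ N) inf_le_right
        (fun h hh z hz => ⟨hMn.conj_mem z hz.1 h, hN.conj_mem z hz.2 h⟩) hMN
      exact le_trans this inf_le_left

end Cfsg.Agent.S3356
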