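import Cfsg.Statements.S3358
import Mathlib
import Cfsg.Agent.Lib.Helper22.FCa
import Cfsg.Agent.Lib.Helper22.FCz
import Cfsg.Agent.Lib.Helper22.FCm

set_option autoImplicit false
open Cfsg

namespace Cfsg.Agent.S3358

/-- Structure of solvable Frobenius complements. Let G be a finite solvable group that occurs as a Frobenius complement. Then G has a normal subgroup G₀ such that G/G₀ is isomorphic to a subgroup of Sym(4) (G₀ is the kernel of a homomorphism to Sym(4)), all Sylow subgroups of G₀ are cyclic, and G₀ has a presentation ⟨x, y | x^n = 1, y^m = 1, x⁻¹ y x = y^r⟩ with n, m ≥ 1, gcd(r − 1, m) = gcd(n, m) = 1 and r^(n/n′) ≡ 1 (mod m), where n′ is the product of the distinct primes dividing n. -/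
theorem result {G : Type*} [Group G] [Finite G] (hsol : Group.IsSolvable G)
    (hFC : ∃ (L : Type) (_ : Group L) (_ : Finite L) (H : Subgroup L), Cfsg.IsFrobeniusComplement H ∧ Nonempty (G ≃* H)) :
    ∃ G₀ : Subgroup G, G₀.Normal ∧
      (∃ f : G →* Equiv.Perm (Fin 4), f.ker = G₀) ∧
      (∀ (p : ℕ) [Fact p.Prime] (P : Sylow p G₀), IsCyclic P) ∧
      ∃ n m r : ℕ, 0 < n ∧ 0 < m ∧ Nat.Coprime (r - 1) m ∧ Nat.Coprime n m ∧ 1 ≤ r ∧
        r ^ (n / ∏ p ∈ n.primeFactors, p) % m = 1 % m ∧
        Nonempty (G₀ ≃* PresentedGroup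
          ({FreeGroup.of (0 : Fin 2) ^ n, FreeGroup.of (1 : Fin 2) ^ m,
            (FreeGroup.of (0 : Fin 2))⁻¹ * FreeGroup.of 1 * FreeGroup.of 0 * (FreeGroup.of (1 : Fin 2) ^ r)⁻¹} :
            Set (FreeGroup (Fin 2)))) := by
  classical
  haveI : Fact (Nat.Prime 2) := ⟨Nat.prime_two⟩
  haveI := hsol
  have hprops := Cfsg.Agent.Lib.Helper22.FCa.fcProps_of_complement hFC
  -- the quotient by the odd core
  set W := Cfsg.pPrimeCore 2 G with hW
  haveI hWn : W.Normal := Cfsg.Agent.Lib.Helper2.pPrimeCore_normal 2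
  have hWodd : (Nat.card W).Coprime 2 := Cfsg.Agent.Lib.Helper20.pPrimeCore_coprime' 2
  let π : G →* G ⧸ W := QuotientGroup.mk' W
  have hπs : Function.Surjective π := QuotientGroup.mk'_surjective W
  have hker : π.ker = W := QuotientGroup.ker_mk' W
  have hπ1 : ∀ x : G, π x = 1 → x ∈ W := fun x hx => (QuotientGroup.eq_one_iff x).mp hx
  have hO : Cfsg.pPrimeCore 2 (G ⧸ W) = ⊥ := Cfsg.Agent.Lib.Helper20.pPrimeCore_quotient_eq_bot 2
  -- elements of W ∩ (2-group) are trivial
  have hW2 : ∀ x : G, x ∈ W → ∀ j : ℕ, x ^ (2 ^ j) = 1 → x = 1 := by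
    intro x hx j hj
    have h1 : x ^ Nat.card W = 1 := by
      have : (⟨x, hx⟩ : W) ^ Nat.card W = 1 := pow_card_eq_one'
      have := congrArg Subtype.val this
      rwa [Subgroup.coe_pow] at this
    have hcop : Nat.Coprime (Nat.card W) (2 ^ j) := Nat.Coprime.pow_right _ hWodd
    have := pow_gcd_eq_one.mpr ⟨h1, hj⟩
    rwa [hcop, pow_one] at this
  -- the Sylow 2-subgroup
  let T₀ : Sylow 2 G := default
  let T : Sylow 2 (G ⧸ W) := T₀.mapSurjective hπs
  have hTcq : Cfsg.Agent.Lib.Helper22.FCq.CQs (T : Subgroup (G ⧸ W)) := by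
    apply Cfsg.Agent.Lib.Helper22.FCq.cqs_of_cq
    have hbij : Function.Bijective (π.subgroupMap (T₀ : Subgroup G)) := by
      refine ⟨?_, π.subgroupMap_surjective _⟩
      rw [injective_iff_map_eq_one]
      intro x hx
      have h1 : π (x : G) = 1 := congrArg Subtype.val hx
      have h2 : (x : G) ∈ W := hπ1 _ h1
      obtain ⟨j, hj⟩ := T₀.isPGroup' x
      have h3 : (x : G) ^ (2 ^ j) = 1 := by
        have := congrArg Subtype.val hj
        rwa [Subgroup.coe_pow] at this
      exact Subtype.ext (hW2 _ h2 j h3)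
    let e : (T₀ : Subgroup G) ≃* ((T₀ : Subgroup G).map π) := MulEquiv.ofBijective _ hbij
    have hcq0 : Cfsg.Agent.Lib.Helper22.FCq.CQ (T₀ : Subgroup G) := by
      rcases hprops.sylow 2 T₀ with hc | ⟨n, ⟨e3⟩⟩
      · exact Cfsg.Agent.Lib.Helper22.FCq.cq_of_isCyclic _
      · exact Cfsg.Agent.Lib.Helper22.FCq.cq_of_mulEquiv e3
          Cfsg.Agent.Lib.Helper22.FCq.Quat.cq_quaternion
    exact Cfsg.Agent.Lib.Helper22.FCq.cq_of_mulEquiv e.symm hcq0
  obtain ⟨f, hfc, hf2⟩ := Cfsg.Agent.Lib.Helper22.FCm.exists_hom_of_core_free hO T hTcq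
  -- the subgroup
  refine ⟨(f.comp π).ker, MonoidHom.normal_ker _, ⟨f.comp π, rfl⟩, ?_, ?_⟩
  · intro p hp Q
    by_cases hp2 : p = 2
    · subst hp2
      -- embed Q into the cyclic group f.ker
      let ψ : (Q : Subgroup (f.comp π).ker) →* f.ker :=
        MonoidHom.codRestrict ((π.comp (f.comp π).ker.subtype).comp (Q : Subgroup (f.comp π).ker).subtype)
          f.ker (fun x => by
            have : (f.comp π) ((x : (f.comp π).ker) : G) = 1 := (x : (f.comp π).ker).2
            exact this)
      apply isCyclic_of_injective ψ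
      rw [injective_iff_map_eq_one]
      intro x hx
      have h1 : π ((x : (f.comp π).ker) : G) = 1 := congrArg Subtype.val hx
      have h2 : ((x : (f.comp π).ker) : G) ∈ W := hπ1 _ h1
      obtain ⟨j, hj⟩ := Q.isPGroup' x
      have h3 : ((x : (f.comp π).ker) : G) ^ (2 ^ j) = 1 := by
        have := congrArg Subtype.val (congrArg Subtype.val hj)
        simpa using this
      exact Subtype.ext (Subtype.ext (hW2 _ h2 j h3))
    · -- odd p
      set Q' : Subgroup G := (Q : Subgroup (f.comp π).ker).map (f.comp π).ker.subtype with hQ'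
      have e2 : (Q : Subgroup (f.comp π).ker) ≃* Q' :=
        Subgroup.equivMapOfInjective _ _ (Subgroup.subtype_injective _)
      have hQ'p : IsPGroup p Q' := Q.isPGroup'.map _
      obtain ⟨S, hS⟩ := hQ'p.exists_le_sylow
      haveI : IsCyclic (S : Subgroup G) := by
        rcases hprops.sylow p S with hc | ⟨n, ⟨e3⟩⟩
        · exact hc
        · exfalso
          obtain ⟨k, hk⟩ := IsPGroup.iff_card.mp S.isPGroup'
          have hcard : Nat.card (S : Subgroup G) = 4 * 2 ^ n := by
            rw [Nat.card_congr e3.toEquiv, Nat.card_eq_fintype_card, QuaternionGroup.card]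
          have h2dvd : 2 ∣ p ^ k := by
            rw [← hk, hcard]
            exact Dvd.intro (2 * 2 ^ n) (by ring)
          have := (Nat.prime_dvd_prime_iff_eq Nat.prime_two hp.out).mp
            (Nat.prime_two.dvd_of_dvd_pow h2dvd)
          exact hp2 this.symm
      haveI : IsCyclic Q' := Subgroup.isCyclic_of_le hS
      exact e2.isCyclic.mpr inferInstance
  · -- presentation
    haveI hZ : IsZGroup (f.comp π).ker := by
      refine ⟨fun p hp Q => ?_⟩
      haveI := Fact.mk hp
      by_cases hp2 : p = 2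
      · subst hp2
        let ψ : (Q : Subgroup (f.comp π).ker) →* f.ker :=
          MonoidHom.codRestrict ((π.comp (f.comp π).ker.subtype).comp (Q : Subgroup (f.comp π).ker).subtype)
            f.ker (fun x => by
              have : (f.comp π) ((x : (f.comp π).ker) : G) = 1 := (x : (f.comp π).ker).2
              exact this)
        apply isCyclic_of_injective ψ
        rw [injective_iff_map_eq_one]
        intro x hx
        have h1 : π ((x : (f.comp π).ker) : G) = 1 := congrArg Subtype.val hx
        have h2 : ((x : (f.comp π).ker) : G) ∈ W := hπ1 _ h1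
        obtain ⟨j, hj⟩ := Q.isPGroup' x
        have h3 : ((x : (f.comp π).ker) : G) ^ (2 ^ j) = 1 := by
          have := congrArg Subtype.val (congrArg Subtype.val hj)
          simpa using this
        exact Subtype.ext (Subtype.ext (hW2 _ h2 j h3))
      · set Q' : Subgroup G := (Q : Subgroup (f.comp π).ker).map (f.comp π).ker.subtype with hQ'
        have e2 : (Q : Subgroup (f.comp π).ker) ≃* Q' :=
          Subgroup.equivMapOfInjective _ _ (Subgroup.subtype_injective _)
        have hQ'p : IsPGroup p Q' := Q.isPGroup'.map _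
        obtain ⟨S, hS⟩ := hQ'p.exists_le_sylow
        haveI : IsCyclic (S : Subgroup G) := by
          rcases hprops.sylow p S with hc | ⟨n, ⟨e3⟩⟩
          · exact hc
          · exfalso
            obtain ⟨k, hk⟩ := IsPGroup.iff_card.mp S.isPGroup'
            have hcard : Nat.card (S : Subgroup G) = 4 * 2 ^ n := by
              rw [Nat.card_congr e3.toEquiv, Nat.card_eq_fintype_card, QuaternionGroup.card]
            have h2dvd : 2 ∣ p ^ k := by
              rw [← hk, hcard]
              exact Dvd.intro (2 * 2 ^ n) (by ring)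
            have := (Nat.prime_dvd_prime_iff_eq Nat.prime_two hp).mp
              (Nat.prime_two.dvd_of_dvd_pow h2dvd)
            exact hp2 this.symm
        haveI : IsCyclic Q' := Subgroup.isCyclic_of_le hS
        exact e2.isCyclic.mpr inferInstance
    apply Cfsg.Agent.Lib.Helper22.FCz.zgroup_presentation
    intro A hA
    set A' : Subgroup G := A.map (f.comp π).ker.subtype with hA'
    have e2 : A ≃* A' := Subgroup.equivMapOfInjective _ _ (Subgroup.subtype_injective _)
    have hcyc : IsCyclic A' := by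
      apply hprops.pq
      obtain ⟨p, q, hp, hq, hpq⟩ := hA
      exact ⟨p, q, hp, hq, by rw [← hpq]; exact (Nat.card_congr e2.toEquiv).symm⟩
    exact e2.isCyclic.mpr hcyc

end Cfsg.Agent.S3358
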