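import Cfsg.Statements.S3362
import Mathlib

set_option autoImplicit false
open Cfsg

namespace Cfsg.Agent.S3362


open Equiv

/-- permutations of twelve points -/
abbrev P12 := Perm (Fin 12)

def gs : P12 := Equiv.swap (3 : Fin 12) 5 * Equiv.swap (3 : Fin 12) 4 * Equiv.swap (6 : Fin 12) 8 * Equiv.swap (6 : Fin 12) 7 * Equiv.swap (9 : Fin 12) 11 * Equiv.swap (9 : Fin 12) 10
def gt : P12 := Equiv.swap (3 : Fin 12) 9 * Equiv.swap (3 : Fin 12) 6 * Equiv.swap (4 : Fin 12) 10 * Equiv.swap (4 : Fin 12) 7 * Equiv.swap (5 : Fin 12) 11 * Equiv.swap (5 : Fin 12) 8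
def gu : P12 := Equiv.swap (4 : Fin 12) 9 * Equiv.swap (4 : Fin 12) 5 * Equiv.swap (4 : Fin 12) 6 * Equiv.swap (7 : Fin 12) 10 * Equiv.swap (7 : Fin 12) 11 * Equiv.swap (7 : Fin 12) 8
def gv : P12 := Equiv.swap (4 : Fin 12) 11 * Equiv.swap (4 : Fin 12) 5 * Equiv.swap (4 : Fin 12) 7 * Equiv.swap (6 : Fin 12) 8 * Equiv.swap (6 : Fin 12) 9 * Equiv.swap (6 : Fin 12) 10
def gw : P12 := Equiv.swap (4 : Fin 12) 8 * Equiv.swap (4 : Fin 12) 5 * Equiv.swap (4 : Fin 12) 10 * Equiv.swap (6 : Fin 12) 7 * Equiv.swap (6 : Fin 12) 9 * Equiv.swap (6 : Fin 12) 11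
def gx1 : P12 := Equiv.swap (0 : Fin 12) 3 * Equiv.swap (6 : Fin 12) 7 * Equiv.swap (8 : Fin 12) 10 * Equiv.swap (9 : Fin 12) 11
def gx2 : P12 := Equiv.swap (0 : Fin 12) 1 * Equiv.swap (6 : Fin 12) 9 * Equiv.swap (7 : Fin 12) 10 * Equiv.swap (8 : Fin 12) 11
def gx3 : P12 := Equiv.swap (1 : Fin 12) 2 * Equiv.swap (6 : Fin 12) 11 * Equiv.swap (7 : Fin 12) 9 * Equiv.swap (8 : Fin 12) 10

/-- the eight generators -/
def gen : Fin 8 → P12 := ![gs, gt, gu, gv, gw, gx1, gx2, gx3]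

/-- a word in the generators -/
def word (l : List (Fin 8)) : P12 := (l.map gen).prod

/-- one level of a stabiliser chain -/
structure Level where
  b : Fin 12
  O : Finset (Fin 12)
  W : Fin 12 → List (Fin 8)
  I : Finset (Fin 8)

/-- the subgroup generated by the generators with index in `I` -/
def Gp (I : Finset (Fin 8)) : Subgroup P12 := Subgroup.closure {g | ∃ k ∈ I, g = gen k}

/-- transversal element -/
def Level.T (L : Level) (c : Fin 12) : P12 := word (L.W c)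

/-- sifting through a chain -/
def sift : List Level → P12 → Bool
  | [], g => decide (g = 1)
  | L :: rest, g => if g L.b ∈ L.O then sift rest ((L.T (g L.b))⁻¹ * g) else false

lemma gen_mem {I : Finset (Fin 8)} {k : Fin 8} (hk : k ∈ I) : gen k ∈ Gp I :=
  Subgroup.subset_closure ⟨k, hk, rfl⟩

lemma word_mem (I : Finset (Fin 8)) : ∀ l : List (Fin 8), (∀ k ∈ l, k ∈ I) → word l ∈ Gp I
  | [], _ => by simp [word]
  | k :: l, h => by
      have h1 : word (k :: l) = gen k * word l := by simp [word]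
      rw [h1]
      exact mul_mem (gen_mem (h k (List.mem_cons_self))) (word_mem I l (fun j hj => h j (List.mem_cons_of_mem _ hj)))

lemma sift_mem (I : Finset (Fin 8)) : ∀ (chain : List Level),
    (∀ L ∈ chain, ∀ c ∈ L.O, ∀ k ∈ L.W c, k ∈ I) → ∀ g, sift chain g = true → g ∈ Gp I
  | [], _, g, h => by
      simp only [sift, decide_eq_true_eq] at h
      rw [h]; exact one_mem _
  | L :: rest, hI, g, h => by
      simp only [sift] at h
      split_ifs at h with hc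
      have h2 := sift_mem I rest (fun L' hL' => hI L' (List.mem_cons_of_mem _ hL')) _ h
      have hT : L.T (g L.b) ∈ Gp I := word_mem I _ (hI L (List.mem_cons_self) _ hc)
      have e : g = L.T (g L.b) * ((L.T (g L.b))⁻¹ * g) := by group
      rw [e]; exact mul_mem hT h2

/-- the decidable validity condition for one level of the chain -/
def StepOK (L : Level) (I' : Finset (Fin 8)) (rest : List Level) : Prop :=
  L.b ∈ L.O ∧ L.W L.b = [] ∧ (∀ c ∈ L.O, L.T c L.b = c) ∧ (∀ c ∈ L.O, ∀ k ∈ L.W c, k ∈ L.I) ∧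
  (∀ s ∈ L.I, ∀ c ∈ L.O, gen s c ∈ L.O ∧ (gen s)⁻¹ c ∈ L.O) ∧ (∀ k ∈ I', k ∈ L.I) ∧
  (∀ k ∈ I', gen k L.b = L.b) ∧
  (∀ L' ∈ rest, ∀ c ∈ L'.O, ∀ k ∈ L'.W c, k ∈ I') ∧
  (∀ s ∈ L.I, ∀ c ∈ L.O, sift rest ((L.T (gen s c))⁻¹ * gen s * L.T c) = true)

instance (L : Level) (I' : Finset (Fin 8)) (rest : List Level) : Decidable (StepOK L I' rest) := by
  unfold StepOK
  refine @instDecidableAnd _ _ inferInstance ?_
  refine @instDecidableAnd _ _ inferInstance ?_
  refine @instDecidableAnd _ _ inferInstance ?_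
  refine @instDecidableAnd _ _ inferInstance ?_
  refine @instDecidableAnd _ _ inferInstance ?_
  refine @instDecidableAnd _ _ inferInstance ?_
  refine @instDecidableAnd _ _ inferInstance ?_
  refine @instDecidableAnd _ _ inferInstance ?_
  infer_instance

theorem step (L : Level) (I' : Finset (Fin 8)) (rest : List Level) (h : StepOK L I' rest) :
    (∀ g ∈ Gp L.I, g L.b = L.b → g ∈ Gp I') ∧
      Nat.card (Gp L.I) = L.O.card * Nat.card (Gp I') := by
  obtain ⟨hb, hWb, hTb, hWI, hO, hI', hfixg, hrest, hsift⟩ := h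
  have hfix : ∀ x ∈ Gp I', x L.b = L.b := by
    intro x hx
    refine Subgroup.closure_induction (p := fun x _ => x L.b = L.b) ?_ ?_ ?_ ?_ hx
    · rintro _ ⟨k, hk, rfl⟩; exact hfixg k hk
    · rfl
    · intro x y _ _ hx hy
      rw [Perm.mul_apply, hy, hx]
    · intro x _ hx
      rw [Perm.inv_eq_iff_eq]; exact hx.symm
  have hle : Gp I' ≤ Gp L.I := by
    rw [Gp, Subgroup.closure_le]
    rintro _ ⟨k, hk, rfl⟩
    exact gen_mem (hI' k hk)
  have hTmem : ∀ c ∈ L.O, L.T c ∈ Gp L.I := fun c hc => word_mem _ _ (hWI c hc)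
  have hT1 : L.T L.b = 1 := by simp [Level.T, hWb, word]
  have hsch : ∀ s ∈ L.I, ∀ c ∈ L.O, (L.T (gen s c))⁻¹ * gen s * L.T c ∈ Gp I' :=
    fun s hs c hc => sift_mem I' rest hrest _ (hsift s hs c hc)
  have key : ∀ g ∈ Gp L.I, ∃ c ∈ L.O, ∃ x ∈ Gp I', g = L.T c * x := by
    intro g hg
    refine Subgroup.closure_induction_left (p := fun g _ => ∃ c ∈ L.O, ∃ x ∈ Gp I', g = L.T c * x)
      ?_ ?_ ?_ hg
    · exact ⟨L.b, hb, 1, one_mem _, by rw [hT1, one_mul]⟩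
    · rintro _ ⟨s, hs, rfl⟩ y _ ⟨c, hc, x, hx, rfl⟩
      refine ⟨gen s c, (hO s hs c hc).1, (L.T (gen s c))⁻¹ * gen s * L.T c * x,
        mul_mem (hsch s hs c hc) hx, by group⟩
    · rintro _ ⟨s, hs, rfl⟩ y _ ⟨c, hc, x, hx, rfl⟩
      have hc' := (hO s hs c hc).2
      have hsc : gen s ((gen s)⁻¹ c) = c := by simp
      have h1 := hsch s hs _ hc'
      rw [hsc] at h1
      refine ⟨(gen s)⁻¹ c, hc', ((L.T c)⁻¹ * gen s * L.T ((gen s)⁻¹ c))⁻¹ * x,
        mul_mem (inv_mem h1) hx, by group⟩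
  have hstab : ∀ g ∈ Gp L.I, g L.b = L.b → g ∈ Gp I' := by
    intro g hg hgb
    obtain ⟨c, hc, x, hx, rfl⟩ := key g hg
    rw [Perm.mul_apply, hfix x hx, hTb c hc] at hgb
    rw [hgb, hT1, one_mul]; exact hx
  refine ⟨hstab, ?_⟩
  -- the bijection
  let f : {c // c ∈ L.O} × ↥(Gp I') → ↥(Gp L.I) :=
    fun cx => ⟨L.T cx.1.1 * cx.2.1, mul_mem (hTmem _ cx.1.2) (hle cx.2.2)⟩
  have hf : Function.Bijective f := by
    constructor
    · rintro ⟨⟨c, hc⟩, ⟨x, hx⟩⟩ ⟨⟨c', hc'⟩, ⟨x', hx'⟩⟩ e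
      have e1 : L.T c * x = L.T c' * x' := congrArg Subtype.val e
      have e2 := congrArg (fun g : P12 => g L.b) e1
      simp only [Perm.mul_apply, hfix x hx, hfix x' hx', hTb c hc, hTb c' hc'] at e2
      subst e2
      have e3 : x = x' := mul_left_cancel e1
      subst e3
      rfl
    · rintro ⟨g, hg⟩
      obtain ⟨c, hc, x, hx, rfl⟩ := key g hg
      exact ⟨⟨⟨c, hc⟩, ⟨x, hx⟩⟩, rfl⟩
  rw [← Nat.card_congr (Equiv.ofBijective f hf), Nat.card_prod]
  congr 1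
  rw [Nat.card_eq_fintype_card, Fintype.card_coe]



open Equiv

/-- level 0 of the stabiliser chain -/
def L0 : Level where
  b := 2
  O := {0, 1, 2, 3, 4, 5, 6, 7, 8, 9, 10, 11}
  W := ![[6, 7], [7], [], [5, 6, 7], [0, 5, 6, 7], [0, 0, 5, 6, 7], [1, 5, 6, 7], [1, 0, 5, 6, 7], [1, 0, 0, 5, 6, 7], [1, 1, 5, 6, 7], [4, 0, 5, 6, 7], [4, 1, 5, 6, 7]]
  I := {0, 1, 2, 3, 4, 5, 6, 7}

/-- level 1 of the stabiliser chain -/
def L1 : Level where
  b := 1
  O := {0, 1, 3, 4, 5, 6, 7, 8, 9, 10, 11}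
  W := ![[6], [], [], [5, 6], [0, 5, 6], [0, 0, 5, 6], [1, 5, 6], [1, 0, 5, 6], [1, 0, 0, 5, 6], [1, 1, 5, 6], [4, 0, 5, 6], [4, 1, 5, 6]]
  I := {0, 1, 2, 3, 4, 5, 6}

/-- level 2 of the stabiliser chain -/
def L2 : Level where
  b := 0
  O := {0, 3, 4, 5, 6, 7, 8, 9, 10, 11}
  W := ![[], [], [], [5], [0, 5], [0, 0, 5], [1, 5], [1, 0, 5], [1, 0, 0, 5], [1, 1, 5], [4, 0, 5], [4, 1, 5]]
  I := {0, 1, 2, 3, 4, 5}

/-- level 3 of the stabiliser chain -/
def L3 : Level where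
  b := 3
  O := {3, 4, 5, 6, 7, 8, 9, 10, 11}
  W := ![[], [], [], [], [0], [0, 0], [1], [1, 0], [1, 0, 0], [1, 1], [4, 0], [4, 1]]
  I := {0, 1, 2, 3, 4}

/-- level 4 of the stabiliser chain -/
def L4 : Level where
  b := 4
  O := {4, 5, 6, 7, 8, 9, 10, 11}
  W := ![[], [], [], [], [], [2, 2], [2], [3], [2, 3], [3, 4], [4], [4, 2]]
  I := {2, 3, 4}


set_option maxRecDepth 1000000 in
lemma ok4 : StepOK L4 ∅ [] := by decide +kernel

set_option maxRecDepth 1000000 in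
lemma ok3 : StepOK L3 L4.I [L4] := by decide +kernel

set_option maxRecDepth 1000000 in
lemma ok2 : StepOK L2 L3.I [L3, L4] := by decide +kernel

set_option maxRecDepth 1000000 in
lemma ok1 : StepOK L1 L2.I [L2, L3, L4] := by decide +kernel

set_option maxRecDepth 1000000 in
lemma ok0 : StepOK L0 L1.I [L1, L2, L3, L4] := by decide +kernel



open Equiv

lemma Gp_empty : Gp ∅ = ⊥ := by
  rw [Gp]
  convert Subgroup.closure_empty
  ext g; simp

lemma card_Gp_empty : Nat.card (Gp ∅) = 1 := by rw [Gp_empty]; exact Subgroup.card_bot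

lemma card0 : Nat.card (Gp L0.I) = 95040 := by
  rw [(step L0 _ _ ok0).2, (step L1 _ _ ok1).2, (step L2 _ _ ok2).2, (step L3 _ _ ok3).2,
    (step L4 _ _ ok4).2, card_Gp_empty]
  decide

lemma card1 : Nat.card (Gp L1.I) = 7920 := by
  rw [(step L1 _ _ ok1).2, (step L2 _ _ ok2).2, (step L3 _ _ ok3).2,
    (step L4 _ _ ok4).2, card_Gp_empty]
  decide

lemma triv_stab (g : P12) (hg : g ∈ Gp L0.I) (h2 : g 2 = 2) (h1 : g 1 = 1) (h0 : g 0 = 0)
    (h3 : g 3 = 3) (h4 : g 4 = 4) : g = 1 := by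
  have a1 := (step L0 _ _ ok0).1 g hg h2
  have a2 := (step L1 _ _ ok1).1 g a1 h1
  have a3 := (step L2 _ _ ok2).1 g a2 h0
  have a4 := (step L3 _ _ ok3).1 g a3 h3
  have a5 := (step L4 _ _ ok4).1 g a4 h4
  rw [Gp_empty] at a5
  exact Subgroup.mem_bot.mp a5

lemma closure_eq0 :
    Subgroup.closure ({gs, gt, gu, gv, gw, gx1, gx2, gx3} : Set P12) = Gp L0.I := by
  apply le_antisymm
  · rw [Subgroup.closure_le]
    intro g hg
    simp only [Set.mem_insert_iff, Set.mem_singleton_iff] at hg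
    rcases hg with rfl | rfl | rfl | rfl | rfl | rfl | rfl | rfl
    · exact gen_mem (k := 0) (by decide)
    · exact gen_mem (k := 1) (by decide)
    · exact gen_mem (k := 2) (by decide)
    · exact gen_mem (k := 3) (by decide)
    · exact gen_mem (k := 4) (by decide)
    · exact gen_mem (k := 5) (by decide)
    · exact gen_mem (k := 6) (by decide)
    · exact gen_mem (k := 7) (by decide)
  · rw [Gp, Subgroup.closure_le]
    rintro _ ⟨k, hk, rfl⟩
    apply Subgroup.subset_closure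
    fin_cases k <;> simp [gen]

lemma closure_eq1 :
    Subgroup.closure ({gs, gt, gu, gv, gw, gx1, gx2} : Set P12) = Gp L1.I := by
  apply le_antisymm
  · rw [Subgroup.closure_le]
    intro g hg
    simp only [Set.mem_insert_iff, Set.mem_singleton_iff] at hg
    rcases hg with rfl | rfl | rfl | rfl | rfl | rfl | rfl
    · exact gen_mem (k := 0) (by decide)
    · exact gen_mem (k := 1) (by decide)
    · exact gen_mem (k := 2) (by decide)
    · exact gen_mem (k := 3) (by decide)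
    · exact gen_mem (k := 4) (by decide)
    · exact gen_mem (k := 5) (by decide)
    · exact gen_mem (k := 6) (by decide)
  · rw [Gp, Subgroup.closure_le]
    rintro _ ⟨k, hk, rfl⟩
    apply Subgroup.subset_closure
    fin_cases k
    · simp [gen]
    · simp [gen]
    · simp [gen]
    · simp [gen]
    · simp [gen]
    · simp [gen]
    · simp [gen]
    · exact absurd hk (by decide)

/-- the base embedding -/
def e₀ : Fin 5 ↪ Fin 12 := ⟨![2, 1, 0, 3, 4], by decide⟩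

lemma stab_e₀ : MulAction.stabilizer (Gp L0.I) e₀ = ⊥ := by
  rw [Subgroup.eq_bot_iff_forall]
  rintro ⟨g, hg⟩ hmem
  rw [MulAction.mem_stabilizer_iff] at hmem
  have hpt : ∀ i, g (e₀ i) = e₀ i := by
    intro i
    have := congrArg (fun y : Fin 5 ↪ Fin 12 => y i) hmem
    simpa [Function.Embedding.smul_apply, Subgroup.smul_def] using this
  apply Subtype.ext
  exact triv_stab g hg (hpt 0) (hpt 1) (hpt 2) (hpt 3) (hpt 4)

lemma orbit_e₀ : MulAction.orbit (Gp L0.I) e₀ = Set.univ := by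
  have h1 := MulAction.index_stabilizer (Gp L0.I) e₀
  rw [stab_e₀, Subgroup.index_bot, card0] at h1
  have h2 : (MulAction.orbit (Gp L0.I) e₀).ncard = 95040 := h1.symm
  rw [Set.eq_univ_iff_ncard, h2, Nat.card_eq_fintype_card, Fintype.card_embedding_eq]
  simp

theorem main : MulAction.IsMultiplyPretransitive (Gp L0.I) (Fin 12) 5 ∧
    (∀ y : Fin 5 ↪ Fin 12, MulAction.stabilizer (Gp L0.I) y = ⊥) ∧
    Nat.card (Gp L0.I) = 95040 ∧ Nat.card (Gp L1.I) = 7920 ∧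
    Gp L1.I = Gp L0.I ⊓ MulAction.stabilizer (Equiv.Perm (Fin 12)) (2 : Fin 12) := by
  have hall : ∀ y : Fin 5 ↪ Fin 12, ∃ g : Gp L0.I, g • e₀ = y := by
    intro y
    have : y ∈ MulAction.orbit (Gp L0.I) e₀ := by rw [orbit_e₀]; exact Set.mem_univ _
    exact MulAction.mem_orbit_iff.mp this
  refine ⟨⟨fun x y => ?_⟩, ?_, card0, card1, ?_⟩
  · have hx : x ∈ MulAction.orbit (Gp L0.I) e₀ := by rw [orbit_e₀]; exact Set.mem_univ _
    have hy : y ∈ MulAction.orbit (Gp L0.I) e₀ := by rw [orbit_e₀]; exact Set.mem_univ _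
    have hxe : MulAction.orbit (Gp L0.I) x = MulAction.orbit (Gp L0.I) e₀ :=
      MulAction.orbit_eq_iff.mpr hx
    rw [← hxe] at hy
    exact MulAction.mem_orbit_iff.mp hy
  · intro y
    obtain ⟨g, hg⟩ := hall y
    have h1 := MulAction.stabilizer_smul_eq_stabilizer_map_conj g e₀
    rw [stab_e₀, Subgroup.map_bot] at h1
    rw [← hg]
    exact h1
  · apply le_antisymm
    · apply le_inf
      · rw [Gp, Subgroup.closure_le]
        rintro _ ⟨k, hk, rfl⟩
        exact gen_mem (ok0.2.2.2.2.2.1 k hk)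
      · rw [Gp, Subgroup.closure_le]
        rintro _ ⟨k, hk, rfl⟩
        exact ok0.2.2.2.2.2.2.1 k hk
    · rintro g ⟨hg, hfix⟩
      exact (step L0 _ _ ok0).1 g hg hfix


/-- An explicit construction of the Mathieu groups of degrees 11 and 12. On the points 0, …, 11 let s = (3 4 5)(6 7 8)(9 10 11), t = (3 6 9)(4 7 10)(5 8 11), u = (4 6 5 9)(7 8 11 10), v = (4 7 5 11)(6 10 9 8), w = (4 10 5 8)(6 11 9 7), x₁ = (0 3)(6 7)(8 10)(9 11), x₂ = (0 1)(6 9)(7 10)(8 11), x₃ = (1 2)(6 11)(7 9)(8 10) (each written as a product of transpositions). Then the group M₁₂ generated by all eight permutations is sharply 5-transitive on the 12 points and has order 95040, and the group M₁₁ generated by the first seven has order 7920 and is the stabilizer of the point 2 in M₁₂. -/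
theorem result
    (s t u v w x₁ x₂ x₃ : Equiv.Perm (Fin 12))
    (hs : s = Equiv.swap (3 : Fin 12) 5 * Equiv.swap (3 : Fin 12) 4 * Equiv.swap (6 : Fin 12) 8 * Equiv.swap (6 : Fin 12) 7 * Equiv.swap (9 : Fin 12) 11 * Equiv.swap (9 : Fin 12) 10) (ht : t = Equiv.swap (3 : Fin 12) 9 * Equiv.swap (3 : Fin 12) 6 * Equiv.swap (4 : Fin 12) 10 * Equiv.swap (4 : Fin 12) 7 * Equiv.swap (5 : Fin 12) 11 * Equiv.swap (5 : Fin 12) 8)
    (hu : u = Equiv.swap (4 : Fin 12) 9 * Equiv.swap (4 : Fin 12) 5 * Equiv.swap (4 : Fin 12) 6 * Equiv.swap (7 : Fin 12) 10 * Equiv.swap (7 : Fin 12) 11 * Equiv.swap (7 : Fin 12) 8) (hv : v = Equiv.swap (4 : Fin 12) 11 * Equiv.swap (4 : Fin 12) 5 * Equiv.swap (4 : Fin 12) 7 * Equiv.swap (6 : Fin 12) 8 * Equiv.swap (6 : Fin 12) 9 * Equiv.swap (6 : Fin 12) 10) (hw : w = Equiv.swap (4 : Fin 12) 8 * Equiv.swap (4 : Fin 12) 5 * Equiv.swap (4 : Fin 12) 10 * Equiv.swap (6 : Fin 12) 7 * Equiv.swap (6 :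 Fin 12) 9 * Equiv.swap (6 : Fin 12) 11)
    (hx₁ : x₁ = Equiv.swap (0 : Fin 12) 3 * Equiv.swap (6 : Fin 12) 7 * Equiv.swap (8 : Fin 12) 10 * Equiv.swap (9 : Fin 12) 11) (hx₂ : x₂ = Equiv.swap (0 : Fin 12) 1 * Equiv.swap (6 : Fin 12) 9 * Equiv.swap (7 : Fin 12) 10 * Equiv.swap (8 : Fin 12) 11)
    (hx₃ : x₃ = Equiv.swap (1 : Fin 12) 2 * Equiv.swap (6 : Fin 12) 11 * Equiv.swap (7 : Fin 12) 9 * Equiv.swap (8 : Fin 12) 10)
    (M₁₂ M₁₁ : Subgroup (Equiv.Perm (Fin 12))) (hM₁₂ : M₁₂ = Subgroup.closure {s, t, u, v, w, x₁, x₂, x₃})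
    (hM₁₁ : M₁₁ = Subgroup.closure {s, t, u, v, w, x₁, x₂}) :
    MulAction.IsMultiplyPretransitive M₁₂ (Fin 12) 5 ∧ (∀ y : Fin 5 ↪ Fin 12, MulAction.stabilizer M₁₂ y = ⊥) ∧
    Nat.card M₁₂ = 95040 ∧ Nat.card M₁₁ = 7920 ∧
    M₁₁ = M₁₂ ⊓ MulAction.stabilizer (Equiv.Perm (Fin 12)) (2 : Fin 12) := by
  have e12 : M₁₂ = Gp L0.I := by
    rw [hM₁₂, hs, ht, hu, hv, hw, hx₁, hx₂, hx₃]; exact closure_eq0
  have e11 : M₁₁ = Gp L1.I := by
    rw [hM₁₁, hs, ht, hu, hv, hw, hx₁, hx₂]; exact closure_eq1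
  subst e12 e11
  exact main

end Cfsg.Agent.S3362
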