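import Mathlib
import Cfsg.Statements.S3370
import Cfsg.Agent.Lib.Lead.UniqueSubgroup

set_option autoImplicit false
open Cfsg

namespace Cfsg.Agent.S3370

theorem odd_cofactor {x y : ℤ} {n : ℕ} (hn : Odd n) (hxy : 2 ∣ x - y) (hx : ¬ 2 ∣ x)
    (hpos : 0 < x - y) {m : ℕ} (h : x ^ n - y ^ n = 2 ^ m) : x ^ n - y ^ n = x - y := by
  have h1 : (∑ i ∈ Finset.range n, x ^ i * y ^ (n - 1 - i)) * (x - y) = x ^ n - y ^ n :=
    (Commute.all x y).geom_sum₂_mul n
  have h2 : ¬ (2 : ℤ) ∣ ∑ i ∈ Finset.range n, x ^ i * y ^ (n - 1 - i) := by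
    apply not_dvd_geom_sum₂ Int.prime_two hxy hx
    intro hdvd
    have : (2 : ℕ) ∣ n := by exact_mod_cast hdvd
    exact (Nat.not_even_iff_odd.2 hn) (even_iff_two_dvd.2 this)
  generalize (∑ i ∈ Finset.range n, x ^ i * y ^ (n - 1 - i)) = c at h1 h2
  have hc_dvd : c ∣ 2 ^ m := ⟨x - y, by rw [← h, ← h1]⟩
  have hcn : c.natAbs ∣ 2 ^ m := by
    have := Int.natAbs_dvd_natAbs.2 hc_dvd
    simpa [Int.natAbs_pow] using this
  obtain ⟨i, -, hi⟩ := (Nat.dvd_prime_pow Nat.prime_two).1 hcn
  have hi0 : i = 0 := by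
    by_contra hne
    apply h2
    have : (2 : ℕ) ∣ c.natAbs := by rw [hi]; exact dvd_pow_self 2 hne
    exact Int.natCast_dvd.2 this
  rw [hi0, pow_zero] at hi
  have hcpos : 0 < c := by
    have : 0 < c * (x - y) := by rw [h1, h]; positivity
    exact (mul_pos_iff_of_pos_right hpos).1 this
  have hc1 : c = 1 := by
    rcases Int.natAbs_eq c with h' | h' <;> rw [hi] at h' <;> omega
  rw [← h1, hc1, one_mul]

/-- `2 ^ n - 1 = p ^ k` with `k ≥ 1` forces `k = 1`. -/
theorem nt1 {p n k : ℕ} (hp : p.Prime) (hk : 1 ≤ k) (h : 2 ^ n = p ^ k + 1) : k = 1 := by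
  have hp2 : p ≠ 2 := by
    rintro rfl
    have h1 : 2 ∣ 2 ^ k := dvd_pow_self 2 (by omega)
    have hn : n ≠ 0 := by
      rintro rfl
      have : 2 ^ k ≥ 2 := by calc 2 ^ k ≥ 2 ^ 1 := Nat.pow_le_pow_right (by norm_num) hk
        _ = 2 := by norm_num
      simp at h
    have h2 : 2 ∣ 2 ^ n := dvd_pow_self 2 hn
    omega
  have hodd : Odd p := hp.odd_of_ne_two hp2
  rcases Nat.even_or_odd k with hev | hod
  · exfalso
    obtain ⟨j, rfl⟩ := hev
    have hj : 1 ≤ j := by omega
    have h4 : (p ^ j) ^ 2 % 4 = 1 := by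
      obtain ⟨t, ht⟩ := (hodd.pow : Odd (p ^ j))
      rw [ht]
      have : (2 * t + 1) ^ 2 = 4 * (t * t + t) + 1 := by ring
      rw [this]; omega
    have e : p ^ (j + j) = (p ^ j) ^ 2 := by rw [← pow_mul]; congr 1; omega
    rw [e] at h
    have h5 : 2 ^ n % 4 = 2 := by rw [h]; omega
    have hn : n = 1 := by
      rcases Nat.lt_or_ge n 2 with h6 | h6
      · interval_cases n
        · simp at h5
        · rfl
      · exfalso
        obtain ⟨t, rfl⟩ : ∃ t, n = t + 2 := ⟨n - 2, by omega⟩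
        rw [pow_add] at h5
        omega
    subst hn
    have : (p ^ j) ^ 2 ≥ 2 ^ 2 := Nat.pow_le_pow_left (by
      calc p ^ j ≥ p ^ 1 := Nat.pow_le_pow_right hp.pos hj
        _ ≥ 2 := by simpa using hp.two_le) 2
    omega
  · -- k odd
    have hz : ((p : ℤ)) ^ k - (-1) ^ k = 2 ^ n := by
      rw [hod.neg_one_pow]
      have hc : ((2 : ℤ)) ^ n = (p : ℤ) ^ k + 1 := by exact_mod_cast h
      linarith
    have hdvd : (2 : ℤ) ∣ (p : ℤ) - (-1) := by
      obtain ⟨t, ht⟩ := hodd
      exact ⟨t + 1, by rw [ht]; push_cast; ring⟩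
    have hnd : ¬ (2 : ℤ) ∣ (p : ℤ) := by
      intro hd
      have : (2 : ℕ) ∣ p := by exact_mod_cast hd
      exact (Nat.not_even_iff_odd.2 hodd) (even_iff_two_dvd.2 this)
    have := odd_cofactor hod hdvd hnd (by have := hp.pos; omega) hz
    rw [hod.neg_one_pow] at this
    have h3 : (p : ℤ) ^ k = p := by linarith
    have h4 : p ^ k = p ^ 1 := by rw [pow_one]; exact_mod_cast h3
    exact Nat.pow_right_injective hp.two_le h4

/-- `q` odd prime, `n ≥ 2`, `q ^ n - 1 = 2 ^ k` forces `q = 3` and `n = 2`. -/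
theorem nt2 {q n k : ℕ} (hq : q.Prime) (hq2 : q ≠ 2) (hn : 2 ≤ n) (h : q ^ n = 2 ^ k + 1) :
    q = 3 ∧ n = 2 := by
  have hodd : Odd q := hq.odd_of_ne_two hq2
  rcases Nat.even_or_odd n with hev | hod
  · obtain ⟨j, rfl⟩ := hev
    have hj : 1 ≤ j := by omega
    -- (q^j - 1)(q^j + 1) = 2^k
    have hqj : 2 ≤ q ^ j := by
      calc q ^ j ≥ q ^ 1 := Nat.pow_le_pow_right hq.pos hj
        _ ≥ 2 := by simpa using hq.two_le
    obtain ⟨a, ha⟩ : ∃ a, q ^ j = a + 1 := ⟨q ^ j - 1, by omega⟩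
    have e : q ^ (j + j) = (a + 1) * (a + 1) := by rw [pow_add, ha]
    have hprod : a * (a + 2) = 2 ^ k := by
      have : (a + 1) * (a + 1) = 2 ^ k + 1 := by rw [← e]; exact h
      nlinarith
    have ha1 : a ∣ 2 ^ k := ⟨a + 2, hprod.symm⟩
    have ha2 : (a + 2) ∣ 2 ^ k := ⟨a, by rw [← hprod]; ring⟩
    obtain ⟨i, -, hi⟩ := (Nat.dvd_prime_pow Nat.prime_two).1 ha1
    obtain ⟨l, -, hl⟩ := (Nat.dvd_prime_pow Nat.prime_two).1 ha2
    have hrel : 2 ^ i + 2 = 2 ^ l := by rw [← hi, ← hl]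
    have hi1 : i = 1 := by
      rcases Nat.lt_or_ge i 2 with h6 | h6
      · interval_cases i
        · exfalso
          simp at hrel
          have hl2 : l ≠ 0 := by rintro rfl; simp at hrel
          have : 2 ∣ 2 ^ l := dvd_pow_self 2 hl2
          omega
        · rfl
      · exfalso
        obtain ⟨t, rfl⟩ : ∃ t, i = t + 2 := ⟨i - 2, by omega⟩
        have h7 : 2 ^ l % 4 = 2 := by rw [← hrel, pow_add]; omega
        have hl1 : l = 1 := by
          rcases Nat.lt_or_ge l 2 with h8 | h8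
          · interval_cases l
            · simp at h7
            · rfl
          · exfalso
            obtain ⟨s, rfl⟩ : ∃ s, l = s + 2 := ⟨l - 2, by omega⟩
            rw [pow_add] at h7; omega
        subst hl1
        have : 2 ^ (t + 2) ≥ 1 := Nat.one_le_two_pow
        omega
    subst hi1
    have ha' : a = 2 := by rw [hi]; norm_num
    subst ha'
    have hq3 : q ^ j = 3 := ha
    have hqd : q ∣ 3 := by rw [← hq3]; exact dvd_pow_self q (by omega)
    have hq3' : q = 3 := ((Nat.prime_dvd_prime_iff_eq hq Nat.prime_three).1 hqd)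
    subst hq3'
    have : (3 : ℕ) ^ j = 3 ^ 1 := by rw [hq3]; norm_num
    have hj1 := Nat.pow_right_injective (le_refl 2 |>.trans (by norm_num : 2 ≤ 3)) this
    exact ⟨rfl, by omega⟩
  · exfalso
    have hz : ((q : ℤ)) ^ n - 1 ^ n = 2 ^ k := by
      rw [one_pow]
      have hc : ((q : ℤ)) ^ n = 2 ^ k + 1 := by exact_mod_cast h
      linarith
    have hdvd : (2 : ℤ) ∣ (q : ℤ) - 1 := by
      obtain ⟨t, ht⟩ := hodd
      exact ⟨t, by rw [ht]; push_cast; ring⟩
    have hnd : ¬ (2 : ℤ) ∣ (q : ℤ) := by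
      intro hd
      have : (2 : ℕ) ∣ q := by exact_mod_cast hd
      exact (Nat.not_even_iff_odd.2 hodd) (even_iff_two_dvd.2 this)
    have hpos : (0 : ℤ) < (q : ℤ) - 1 := by
      have := hq.two_le
      have : (2 : ℤ) ≤ q := by exact_mod_cast this
      linarith
    have := odd_cofactor hod hdvd hnd hpos hz
    rw [one_pow] at this
    have h3 : (q : ℤ) ^ n = q := by linarith
    have h4 : q ^ n = q ^ 1 := by rw [pow_one]; exact_mod_cast h3
    have := Nat.pow_right_injective hq.two_le h4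
    omega


section act
variable {q : ℕ} [Fact q.Prime] {V : Type*} [AddCommGroup V] [Module (ZMod q) V]
  {G : Type*} [Group G] (ρ : G →* (V ≃ₗ[ZMod q] V))

theorem faithful_of_fix (hρ : Function.Injective ρ) {g : G} (h : ∀ v, ρ g v = v) : g = 1 := by
  apply hρ
  rw [map_one]
  ext v
  exact h v

theorem card_sub_one_dvd [Finite V] [Nontrivial V] [Finite G]
    (htrans : ∀ v w : V, v ≠ 0 → w ≠ 0 → ∃ g : G, ρ g v = w) :
    Nat.card V - 1 ∣ Nat.card G := by
  letI : MulAction G V := MulAction.compHom V ρ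
  obtain ⟨v0, hv0⟩ := exists_ne (0 : V)
  have horb : MulAction.orbit G v0 = ({0} : Set V)ᶜ := by
    ext w
    simp only [Set.mem_compl_iff, Set.mem_singleton_iff]
    constructor
    · rintro ⟨g, rfl⟩ h
      have h1 : ρ g v0 = 0 := h
      exact hv0 ((ρ g).map_eq_zero_iff.1 h1)
    · intro hw
      obtain ⟨g, hg⟩ := htrans v0 w hv0 hw
      exact ⟨g, hg⟩
  have h1 := MulAction.index_stabilizer G v0
  rw [horb, Set.ncard_compl, Set.ncard_singleton] at h1
  rw [← h1]
  exact Subgroup.index_dvd_card _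

theorem card_dvd_factorial [Finite V] [Finite G] (hρ : Function.Injective ρ) :
    Nat.card G ∣ (Nat.card V).factorial := by
  letI : MulAction G V := MulAction.compHom V ρ
  rw [← Nat.card_perm]
  apply Subgroup.card_dvd_of_injective (MulAction.toPermHom G V)
  intro g h hgh
  apply hρ
  ext v
  have := congrArg (fun σ : Equiv.Perm V => σ v) hgh
  exact this

end act

theorem not_sq_dvd_factorial_succ {p : ℕ} (hp : p.Prime) : ¬ p ^ 2 ∣ (p + 1).factorial := by
  intro h
  obtain ⟨m, hm⟩ : ∃ m, p = m + 1 := ⟨p - 1, by have := hp.pos; omega⟩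
  have e : (p + 1).factorial = p * ((p + 1) * m.factorial) := by
    rw [Nat.factorial_succ, hm, Nat.factorial_succ]; ring
  rw [e, pow_two] at h
  have h2 : p ∣ (p + 1) * m.factorial := Nat.dvd_of_mul_dvd_mul_left hp.pos h
  rcases (Nat.Prime.dvd_mul hp).1 h2 with h3 | h3
  · have : p ∣ 1 := (Nat.dvd_add_right (dvd_refl p)).1 h3
    exact hp.one_lt.ne' (Nat.dvd_one.1 this)
  · have := (hp.dvd_factorial).1 h3
    omega

section act2
variable {q : ℕ} [Fact q.Prime] {V : Type*} [AddCommGroup V] [Module (ZMod q) V]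
  {G : Type*} [Group G] (ρ : G →* (V ≃ₗ[ZMod q] V))

/-- the stabilizer of a vector -/
def stab (v : V) : Subgroup G where
  carrier := {g | ρ g v = v}
  one_mem' := by simp
  mul_mem' := by
    intro a b ha hb
    have ha' : ρ a v = v := ha
    have hb' : ρ b v = v := hb
    show ρ (a * b) v = v
    rw [map_mul, LinearEquiv.mul_apply, hb', ha']
  inv_mem' := by
    intro a ha
    have ha' : ρ a v = v := ha
    show ρ a⁻¹ v = v
    have : ρ a⁻¹ (ρ a v) = v := by
      rw [← LinearEquiv.mul_apply, ← map_mul, inv_mul_cancel, map_one]; rfl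
    rw [ha'] at this
    exact this

theorem mem_stab {v : V} {g : G} : g ∈ stab ρ v ↔ ρ g v = v := Iff.rfl

theorem card_eq_mul_stab [Finite V] [Finite G]
    (htrans : ∀ v w : V, v ≠ 0 → w ≠ 0 → ∃ g : G, ρ g v = w) {v0 : V} (hv0 : v0 ≠ 0) :
    Nat.card G = (Nat.card V - 1) * Nat.card (stab ρ v0) := by
  letI : MulAction G V := MulAction.compHom V ρ
  have horb : MulAction.orbit G v0 = ({0} : Set V)ᶜ := by
    ext w
    simp only [Set.mem_compl_iff, Set.mem_singleton_iff]
    constructor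
    · rintro ⟨g, rfl⟩ h
      have h1 : ρ g v0 = 0 := h
      exact hv0 ((ρ g).map_eq_zero_iff.1 h1)
    · intro hw
      obtain ⟨g, hg⟩ := htrans v0 w hv0 hw
      exact ⟨g, hg⟩
  have hst : MulAction.stabilizer G v0 = stab ρ v0 := by
    ext g; rfl
  have h1 := MulAction.index_stabilizer G v0
  rw [horb, Set.ncard_compl, Set.ncard_singleton, hst] at h1
  rw [← h1, mul_comm, Subgroup.card_mul_index]

theorem dim_one_case [Finite V] [Finite G] (hρ : Function.Injective ρ)
    (htrans : ∀ v w : V, v ≠ 0 → w ≠ 0 → ∃ g : G, ρ g v = w) (hV : Nat.card V = q) :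
    IsCyclic G ∧ Nat.card G = q - 1 := by
  classical
  have hqp : q.Prime := Fact.out
  have hfin : Module.finrank (ZMod q) V = 1 := by
    have h1 : Nat.card V = q ^ Module.finrank (ZMod q) V := by
      rw [Module.natCard_eq_pow_finrank (K := ZMod q) (V := V), Nat.card_zmod]
    rw [hV] at h1
    have : q ^ 1 = q ^ Module.finrank (ZMod q) V := by rw [pow_one]; exact h1
    exact (Nat.pow_right_injective hqp.two_le this).symm
  haveI : Nontrivial V := by
    rw [← Finite.one_lt_card_iff_nontrivial, hV]; exact hqp.one_lt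
  obtain ⟨v0, hv0⟩ := exists_ne (0 : V)
  have hspan := (finrank_eq_one_iff_of_nonzero' v0 hv0).1 hfin
  have hinj : ∀ a b : ZMod q, a • v0 = b • v0 → a = b := fun a b h =>
    smul_left_injective (ZMod q) hv0 h
  choose c hc using fun g : G => hspan (ρ g v0)
  have hdet : ∀ g h : G, c g = c h → g = h := by
    intro g h hgh
    apply hρ
    ext w
    obtain ⟨a, rfl⟩ := hspan w
    rw [map_smul, map_smul, ← hc g, ← hc h, hgh]
  let f : G →* ZMod q :=
    { toFun := c
      map_one' := by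
        apply hinj
        rw [hc, map_one, one_smul]; rfl
      map_mul' := by
        intro g h
        apply hinj
        rw [hc, map_mul, LinearEquiv.mul_apply, ← hc h, map_smul, ← hc g, smul_smul, mul_comm] }
  have hfinj : Function.Injective f := fun g h hgh => hdet g h hgh
  refine ⟨isCyclic_of_injective_ringHom f hfinj, ?_⟩
  have hstab : stab ρ v0 = ⊥ := by
    rw [Subgroup.eq_bot_iff_forall]
    intro g hg
    apply hdet
    apply hinj
    rw [hc, hc, map_one, (mem_stab ρ).1 hg]; rfl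
  rw [card_eq_mul_stab ρ htrans hv0, hstab, Subgroup.card_bot, mul_one, hV]

end act2

set_option maxRecDepth 100000 in
theorem factD : ∀ X R : Matrix (Fin 2) (Fin 2) (ZMod 3), X ^ 8 = 1 → X ^ 4 ≠ 1 → R ^ 16 = 1 →
    (∃ k < 8, R * X = X ^ k * R) → (∀ k < 8, R ≠ X ^ k) →
    ∃ j < 8, (R * X ^ j) ^ 2 = 1 ∧ (R * X ^ j) * X = X ^ 3 * (R * X ^ j) := by
  decide +kernel

/-- an explicit element of order 8 in `GL₂(𝔽₃)` -/
def x0 : GL (Fin 2) (ZMod 3) := ⟨!![0, 1; 1, 1], !![2, 1; 1, 0], by decide, by decide⟩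

theorem orderOf_x0 : orderOf x0 = 8 := by
  have h1 : ¬ x0 ^ 2 ^ 2 = 1 := by decide
  have h2 : x0 ^ 2 ^ (2 + 1) = 1 := by decide
  have := orderOf_eq_prime_pow h1 h2
  simpa using this

theorem card_GL23 : Nat.card (GL (Fin 2) (ZMod 3)) = 48 := by
  rw [Matrix.card_GL_field]
  simp [ZMod.card, Fin.prod_univ_two]

section nine
open scoped Pointwise

variable {V : Type*} [AddCommGroup V] [Module (ZMod 3) V]
  {G : Type*} [Group G] (ρ : G →* (V ≃ₗ[ZMod 3] V))

theorem neg_of_sq_of_no_fixed {t : G} (ht : t ^ 2 = 1)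
    (hfix : ∀ w : V, w ≠ 0 → ρ t w ≠ w) (v : V) : ρ t v = -v := by
  have h2 : ρ t (ρ t v) = v := by
    rw [← LinearEquiv.mul_apply, ← map_mul, ← pow_two, ht, map_one]; rfl
  have hw : ρ t (v + ρ t v) = v + ρ t v := by
    rw [map_add, h2, add_comm]
  by_contra hne
  apply hfix (v + ρ t v) _ hw
  intro h0
  apply hne
  exact eq_neg_of_add_eq_zero_right h0

theorem nine_case [Finite V] [Finite G] (hG : IsPGroup 2 G) (hρ : Function.Injective ρ)
    (htrans : ∀ v w : V, v ≠ 0 → w ≠ 0 → ∃ g : G, ρ g v = w) (hV : Nat.card V = 9) :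
    (IsCyclic G ∧ Nat.card G = 8) ∨ Nonempty (G ≃* QuaternionGroup 2) ∨
      (Cfsg.IsQuasiDihedral G ∧ Nat.card G = 16) := by
  classical
  haveI : Fact (Nat.Prime 2) := ⟨Nat.prime_two⟩
  haveI : Fact (Nat.Prime 3) := ⟨Nat.prime_three⟩
  have hfin : Module.finrank (ZMod 3) V = 2 := by
    have h1 : Nat.card V = 3 ^ Module.finrank (ZMod 3) V := by
      rw [Module.natCard_eq_pow_finrank (K := ZMod 3) (V := V), Nat.card_zmod]
    rw [hV] at h1
    have : 3 ^ 2 = 3 ^ Module.finrank (ZMod 3) V := by rw [← h1]; norm_num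
    exact (Nat.pow_right_injective (by norm_num : 2 ≤ 3) this).symm
  let b := Module.finBasisOfFinrankEq (ZMod 3) V hfin
  let Φ : (V ≃ₗ[ZMod 3] V) ≃* GL (Fin 2) (ZMod 3) :=
    (LinearMap.GeneralLinearGroup.generalLinearEquiv (ZMod 3) V).symm.trans
      (Matrix.GeneralLinearGroup.toLin' b).symm
  let ι : G →* GL (Fin 2) (ZMod 3) := Φ.toMonoidHom.comp ρ
  have hι : Function.Injective ι := Φ.injective.comp hρ
  have : Nontrivial V := by rw [← Finite.one_lt_card_iff_nontrivial, hV]; norm_num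
  obtain ⟨v0, hv0⟩ := exists_ne (0 : V)
  have hcard : Nat.card G = 8 * Nat.card (stab ρ v0) := by
    rw [card_eq_mul_stab ρ htrans hv0, hV]
  obtain ⟨a, ha⟩ := (IsPGroup.iff_card).1 hG
  have hdvd48 : Nat.card G ∣ 48 := by
    rw [← card_GL23]; exact Subgroup.card_dvd_of_injective ι hι
  have ha34 : a = 3 ∨ a = 4 := by
    have h8 : 8 ∣ Nat.card G := ⟨_, hcard⟩
    rw [ha] at h8 hdvd48
    have h1 : a ≤ 4 := by
      by_contra h; rw [not_le] at h
      have : 2 ^ 5 ∣ 48 := (pow_dvd_pow 2 h).trans hdvd48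
      omega
    have h2 : 3 ≤ a := by
      by_contra h; rw [not_le] at h
      interval_cases a <;> omega
    omega
  rcases ha34 with rfl | rfl
  · -- order 8
    have hG8 : Nat.card G = 8 := by rw [ha]; norm_num
    have hstab : ∀ v : V, v ≠ 0 → stab ρ v = ⊥ := by
      intro v hv
      have h1 := card_eq_mul_stab ρ htrans hv
      rw [hV, hG8] at h1
      have : Nat.card (stab ρ v) = 1 := by omega
      exact Subgroup.card_eq_one.1 this
    have hinv : ∀ t : G, t ≠ 1 → t ^ 2 = 1 → ∀ v, ρ t v = -v := by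
      intro t ht1 ht2
      apply neg_of_sq_of_no_fixed ρ ht2
      intro w hw hfix
      have : t ∈ stab ρ w := hfix
      rw [hstab w hw, Subgroup.mem_bot] at this
      exact ht1 this
    have huniq_inv : ∀ s t : G, s ≠ 1 → s ^ 2 = 1 → t ≠ 1 → t ^ 2 = 1 → s = t := by
      intro s t hs1 hs2 ht1 ht2
      apply hρ
      ext v
      rw [hinv s hs1 hs2, hinv t ht1 ht2]
    have hsq : ∀ (H : Subgroup G) (s : H), s ≠ 1 → (∀ y : H, y ≠ 1 → y = s) → (s : G) ^ 2 = 1 := by
      intro H s hs hsu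
      by_contra hne
      have h1 : s ^ 2 = s := hsu (s ^ 2) (fun h => hne (by
        have := congrArg Subtype.val h; simpa using this))
      have h2 : s = 1 := by
        have h3 : s * s = s * 1 := by rw [mul_one, ← pow_two]; exact h1
        exact mul_left_cancel h3
      exact hs h2
    have huniq : Cfsg.Agent.Lib.Lead.UniqueOrderP.UniqueOrderP 2 G := by
      intro H K hH hK
      obtain ⟨s, hs, hsu⟩ := (Nat.card_eq_two_iff' (1 : H)).1 hH
      obtain ⟨t, ht, htu⟩ := (Nat.card_eq_two_iff' (1 : K)).1 hK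
      have hs2 := hsq H s hs hsu
      have ht2 := hsq K t ht htu
      have hst : (s : G) = t := huniq_inv s t (fun h => hs (Subtype.ext h)) hs2
        (fun h => ht (Subtype.ext h)) ht2
      ext g
      constructor
      · intro hg
        by_cases hg1 : g = 1
        · rw [hg1]; exact K.one_mem
        · have h1 : (⟨g, hg⟩ : H) = s := hsu _ (fun h => hg1 (congrArg Subtype.val h))
          have h2 : g = s := congrArg Subtype.val h1
          rw [h2, hst]; exact t.2
      · intro hg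
        by_cases hg1 : g = 1
        · rw [hg1]; exact H.one_mem
        · have h1 : (⟨g, hg⟩ : K) = t := htu _ (fun h => hg1 (congrArg Subtype.val h))
          have h2 : g = t := congrArg Subtype.val h1
          rw [h2, ← hst]; exact s.2
    rcases Cfsg.Agent.Lib.Lead.UniqueSubgroup.cyclic_or_quaternion hG huniq with hc | ⟨-, n, ⟨e⟩⟩
    · left; exact ⟨hc, hG8⟩
    · right; left
      have hcq : Nat.card (QuaternionGroup (2 ^ n)) = 8 := by
        rw [← Nat.card_congr e.toEquiv]; exact hG8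
      rw [Nat.card_eq_fintype_card, QuaternionGroup.card] at hcq
      have hn : n = 1 := by
        have : 2 ^ n = 2 ^ 1 := by omega
        exact Nat.pow_right_injective (le_refl 2) this
      subst hn
      exact ⟨e⟩
  · -- order 16
    have hG16 : Nat.card G = 16 := by rw [ha]; norm_num
    right; right
    refine ⟨?_, hG16⟩
    have hIcard : Nat.card ι.range = 16 := by
      rw [← hG16]; exact (Nat.card_congr (MonoidHom.ofInjective hι).toEquiv).symm
    have hfac : (Nat.card (GL (Fin 2) (ZMod 3))).factorization 2 = 4 := by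
      rw [card_GL23]; decide +kernel
    let PI : Sylow 2 (GL (Fin 2) (ZMod 3)) := Sylow.ofCard ι.range (by rw [hIcard, hfac]; norm_num)
    have hx0P : IsPGroup 2 (Subgroup.zpowers x0) :=
      IsPGroup.of_card (n := 3) (by rw [Nat.card_zpowers, orderOf_x0]; norm_num)
    obtain ⟨Q, hQ⟩ := hx0P.exists_le_sylow
    obtain ⟨A, hA⟩ := MulAction.exists_smul_eq (GL (Fin 2) (ZMod 3)) Q PI
    have hx' : A * x0 * A⁻¹ ∈ ι.range := by
      have h1 : x0 ∈ (Q : Subgroup (GL (Fin 2) (ZMod 3))) := hQ (Subgroup.mem_zpowers x0)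
      have h2 : MulAut.conj A • x0 ∈ MulAut.conj A • (Q : Subgroup (GL (Fin 2) (ZMod 3))) :=
        Subgroup.smul_mem_pointwise_smul _ _ _ h1
      have h3 : ((A • Q : Sylow 2 (GL (Fin 2) (ZMod 3))) : Subgroup (GL (Fin 2) (ZMod 3))) =
          MulAut.conj A • (Q : Subgroup (GL (Fin 2) (ZMod 3))) :=
        Sylow.coe_subgroup_smul
      rw [← h3, hA] at h2
      exact h2
    obtain ⟨x, hx⟩ := hx'
    have hordx : orderOf x = 8 := by
      rw [← orderOf_injective ι hι x, hx]
      have : A * x0 * A⁻¹ = MulAut.conj A x0 := rfl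
      rw [this, MulEquiv.orderOf_eq, orderOf_x0]
    have hzc : Nat.card (Subgroup.zpowers x) = 8 := by rw [Nat.card_zpowers, hordx]
    have hidx : (Subgroup.zpowers x).index = 2 := by
      have := (Subgroup.zpowers x).card_mul_index
      rw [hzc, hG16] at this; omega
    have hnorm : (Subgroup.zpowers x).Normal := Subgroup.normal_of_index_eq_two hidx
    obtain ⟨r, hr⟩ : ∃ r : G, r ∉ Subgroup.zpowers x := by
      by_contra hcon
      rw [not_exists] at hcon
      have : Subgroup.zpowers x = ⊤ := by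
        ext g; simp only [Subgroup.mem_top, iff_true]; exact not_not.1 (hcon g)
      rw [this, Subgroup.index_top] at hidx; omega
    have hconj : r * x * r⁻¹ ∈ Subgroup.zpowers x :=
      hnorm.conj_mem x (Subgroup.mem_zpowers x) r
    have hpow : ∀ g ∈ Subgroup.zpowers x, ∃ k < 8, g = x ^ k := by
      intro g hg
      rw [mem_zpowers_iff_mem_range_orderOf, hordx, Finset.mem_image] at hg
      obtain ⟨k, hk, rfl⟩ := hg
      exact ⟨k, Finset.mem_range.1 hk, rfl⟩
    obtain ⟨k, hk8, hk⟩ := hpow _ hconj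
    have hX8 : ((ι x : GL (Fin 2) (ZMod 3)) : Matrix (Fin 2) (Fin 2) (ZMod 3)) ^ 8 = 1 := by
      rw [← Units.val_pow_eq_pow_val, ← map_pow, ← hordx, pow_orderOf_eq_one, map_one]; rfl
    have hX4 : ((ι x : GL (Fin 2) (ZMod 3)) : Matrix (Fin 2) (Fin 2) (ZMod 3)) ^ 4 ≠ 1 := by
      intro h
      rw [← Units.val_pow_eq_pow_val, ← map_pow] at h
      have h1 : ι (x ^ 4) = 1 := Units.ext h
      have h2 : x ^ 4 = 1 := hι (by rw [h1, map_one])
      have := orderOf_dvd_of_pow_eq_one h2
      rw [hordx] at this; omega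
    have hR16 : ((ι r : GL (Fin 2) (ZMod 3)) : Matrix (Fin 2) (Fin 2) (ZMod 3)) ^ 16 = 1 := by
      rw [← Units.val_pow_eq_pow_val, ← map_pow, ← hG16, pow_card_eq_one', map_one]; rfl
    have hRX : ∃ k < 8, ((ι r : GL (Fin 2) (ZMod 3)) : Matrix (Fin 2) (Fin 2) (ZMod 3)) *
        (ι x : GL (Fin 2) (ZMod 3)) =
        ((ι x : GL (Fin 2) (ZMod 3)) : Matrix (Fin 2) (Fin 2) (ZMod 3)) ^ k *
          (ι r : GL (Fin 2) (ZMod 3)) := by
      refine ⟨k, hk8, ?_⟩
      have h1 : r * x = x ^ k * r := by rw [← hk]; group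
      have := congrArg (fun g => ((ι g : GL (Fin 2) (ZMod 3)) : Matrix (Fin 2) (Fin 2) (ZMod 3))) h1
      simpa using this
    have hRne : ∀ k < 8, ((ι r : GL (Fin 2) (ZMod 3)) : Matrix (Fin 2) (Fin 2) (ZMod 3)) ≠
        ((ι x : GL (Fin 2) (ZMod 3)) : Matrix (Fin 2) (Fin 2) (ZMod 3)) ^ k := by
      intro k _ h
      apply hr
      have h1 : ι r = ι (x ^ k) := Units.ext (by rw [h, map_pow, Units.val_pow_eq_pow_val])
      rw [hι h1]; exact Subgroup.pow_mem _ (Subgroup.mem_zpowers x) k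
    obtain ⟨j, hj8, hy2, hyx⟩ := factD _ _ hX8 hX4 hR16 hRX hRne
    have hy2' : (r * x ^ j) ^ 2 = 1 := by
      apply hι; apply Units.ext
      rw [map_one, map_pow, Units.val_pow_eq_pow_val, map_mul, map_pow, Units.val_mul,
        Units.val_pow_eq_pow_val]
      exact hy2
    have hyx' : (r * x ^ j) * x = x ^ 3 * (r * x ^ j) := by
      apply hι; apply Units.ext
      simp only [map_mul, map_pow, Units.val_mul, Units.val_pow_eq_pow_val]
      exact hyx
    have hy1 : r * x ^ j ≠ 1 := by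
      intro h
      apply hr
      have : r = (x ^ j)⁻¹ := eq_inv_of_mul_eq_one_left h
      rw [this]; exact inv_mem (Subgroup.pow_mem _ (Subgroup.mem_zpowers x) j)
    refine ⟨3, le_refl 3, by rw [hG16]; norm_num, x, r * x ^ j, by rw [hordx]; norm_num,
      orderOf_eq_prime hy2' hy1, ?_⟩
    have h3 : (2 ^ (3 - 1) - 1 : ℕ) = 3 := by norm_num
    rw [h3]
    calc r * x ^ j * x * (r * x ^ j)⁻¹ = x ^ 3 * (r * x ^ j) * (r * x ^ j)⁻¹ := by rw [hyx']
      _ = x ^ 3 := by group

end nine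

/-- Let q be a prime, V a non-trivial finite vector space over the field with q elements, and G a non-trivial finite p-group (p prime) acting faithfully and linearly on V and transitively on the non-zero vectors. Then either q = 2 and G has prime order p = |V| − 1; or p = 2, V has q elements with q = 2^m + 1 and G is cyclic of order 2^m; or p = 2, q = 3, V has 9 elements and G is cyclic of order 8, quaternion of order 8, or semidihedral of order 16. -/
theorem result (q : ℕ) [Fact q.Prime] {V : Type*} [AddCommGroup V] [Module (ZMod q) V] [Finite V] [Nontrivial V]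
    {G : Type*} [Group G] [Finite G] [Nontrivial G] (p : ℕ) [Fact p.Prime] (hG : IsPGroup p G)
    (ρ : G →* (V ≃ₗ[ZMod q] V)) (hρ : Function.Injective ρ)
    (htrans : ∀ v w : V, v ≠ 0 → w ≠ 0 → ∃ g : G, ρ g v = w) :
    (q = 2 ∧ p = Nat.card V - 1 ∧ Nat.card G = p) ∨
    (p = 2 ∧ Nat.card V = q ∧ (∃ m : ℕ, q = 2 ^ m + 1 ∧ Nat.card G = 2 ^ m) ∧ IsCyclic G) ∨
    (p = 2 ∧ q = 3 ∧ Nat.card V = 9 ∧
      ((IsCyclic G ∧ Nat.card G = 8) ∨ Nonempty (G ≃* QuaternionGroup 2) ∨ (Cfsg.IsQuasiDihedral G ∧ Nat.card G = 16))) := by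
  classical
  have hqp : q.Prime := Fact.out
  have hpp : p.Prime := Fact.out
  have hVcard : Nat.card V = q ^ Module.finrank (ZMod q) V := by
    rw [Module.natCard_eq_pow_finrank (K := ZMod q) (V := V), Nat.card_zmod]
  have hn1 : 1 ≤ Module.finrank (ZMod q) V := Module.finrank_pos
  generalize Module.finrank (ZMod q) V = n at hVcard hn1
  have hdvd := card_sub_one_dvd ρ htrans
  obtain ⟨a, ha⟩ := (IsPGroup.iff_card).1 hG
  rw [ha] at hdvd
  obtain ⟨k, hka, hk⟩ := (Nat.dvd_prime_pow hpp).1 hdvd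
  have hV2 : 2 ≤ Nat.card V := by
    rw [hVcard]
    calc q ^ n ≥ q ^ 1 := Nat.pow_le_pow_right hqp.pos hn1
      _ ≥ 2 := by simpa using hqp.two_le
  have hk1 : 1 ≤ k := by
    rcases Nat.eq_zero_or_pos k with h0 | h0
    · exfalso
      subst h0
      rw [pow_zero] at hk
      have hV : Nat.card V = 2 := by omega
      -- then every element of G acts trivially
      obtain ⟨g, hg⟩ := exists_ne (1 : G)
      apply hg
      apply faithful_of_fix ρ hρ
      obtain ⟨w, hw, hwu⟩ := (Nat.card_eq_two_iff' (0 : V)).1 hV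
      intro v
      by_cases hv : v = 0
      · rw [hv, map_zero]
      · have h1 : ρ g v ≠ 0 := fun h => hv ((ρ g).map_eq_zero_iff.1 h)
        rw [hwu _ h1, hwu v hv]
    · exact h0
  have hqn : q ^ n = p ^ k + 1 := by
    rw [← hVcard]; omega
  by_cases hq2 : q = 2
  · left
    subst hq2
    have hk1' : k = 1 := nt1 hpp hk1 hqn
    subst hk1'
    rw [pow_one] at hk hqn
    refine ⟨rfl, by omega, ?_⟩
    have hfac := card_dvd_factorial ρ hρ
    rw [ha, hVcard, hqn] at hfac
    have ha1 : 1 ≤ a := hka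
    have ha2 : a ≤ 1 := by
      by_contra hcon
      rw [not_le] at hcon
      exact not_sq_dvd_factorial_succ hpp ((pow_dvd_pow p hcon).trans hfac)
    have : a = 1 := by omega
    rw [ha, this, pow_one]
  · right
    have hp2 : p = 2 := by
      have hqodd : Odd q := hqp.odd_of_ne_two hq2
      have : Even (p ^ k) := by
        have h1 : Odd (q ^ n) := hqodd.pow
        rw [hqn] at h1
        rcases Nat.even_or_odd (p ^ k) with h2 | h2
        · exact h2
        · exfalso
          have := h2.add_odd odd_one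
          exact (Nat.not_even_iff_odd.2 h1) this
      have h2 : 2 ∣ p := (Nat.Prime.dvd_of_dvd_pow Nat.prime_two (even_iff_two_dvd.1 this))
      exact ((Nat.prime_dvd_prime_iff_eq Nat.prime_two hpp).1 h2).symm
    subst hp2
    by_cases hn : n = 1
    · left
      subst hn
      rw [pow_one] at hVcard hqn
      obtain ⟨hcyc, hcard⟩ := dim_one_case ρ hρ htrans hVcard
      exact ⟨rfl, hVcard, ⟨k, hqn, by rw [hcard, hqn]; omega⟩, hcyc⟩
    · right
      have hn2 : 2 ≤ n := by omega
      obtain ⟨hq3, hn2'⟩ := nt2 hqp hq2 hn2 hqn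
      subst hq3
      subst hn2'
      have hV9 : Nat.card V = 9 := by rw [hVcard]; norm_num
      refine ⟨rfl, rfl, hV9, ?_⟩
      exact nine_case ρ hG hρ htrans hV9

end Cfsg.Agent.S3370
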