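import Cfsg.Statements.S3374
import Cfsg.Agent.Lib.Helper18.FrobConstruct
import Mathlib.LinearAlgebra.Matrix.SpecialLinearGroup
import Mathlib.Data.ZMod.Basic
import Mathlib.LinearAlgebra.Matrix.Notation
import Mathlib.Tactic.FinCases

set_option autoImplicit false
open Cfsg
open Cfsg.Agent.Lib.Helper18

namespace Cfsg.Agent.S3374

/-- Table of an injective homomorphism `SL(2,5) → SL(2,11)` (entries `a b c d ↦ (m0,m1,m2,m3)`). -/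
def tblS : ZMod 5 → ZMod 5 → ZMod 5 → ZMod 5 → ZMod 11 × ZMod 11 × ZMod 11 × ZMod 11 :=
  fun a b c d =>
    (![![![![(0,0,0,0), (0,0,0,0), (0,0,0,0), (0,0,0,0), (0,0,0,0)],
           ![(0,0,0,0), (0,0,0,0), (0,0,0,0), (0,0,0,0), (0,0,0,0)],
           ![(0,0,0,0), (0,0,0,0), (0,0,0,0), (0,0,0,0), (0,0,0,0)],
           ![(0,0,0,0), (0,0,0,0), (0,0,0,0), (0,0,0,0), (0,0,0,0)],
           ![(0,0,0,0), (0,0,0,0), (0,0,0,0), (0,0,0,0), (0,0,0,0)]],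
         ![![(0,0,0,0), (0,0,0,0), (0,0,0,0), (0,0,0,0), (0,0,0,0)],
           ![(0,0,0,0), (0,0,0,0), (0,0,0,0), (0,0,0,0), (0,0,0,0)],
           ![(0,0,0,0), (0,0,0,0), (0,0,0,0), (0,0,0,0), (0,0,0,0)],
           ![(0,0,0,0), (0,0,0,0), (0,0,0,0), (0,0,0,0), (0,0,0,0)],
           ![(0,1,10,0), (8,1,9,4), (2,2,6,1), (9,5,9,10), (3,2,10,7)]],
         ![![(0,0,0,0), (0,0,0,0), (0,0,0,0), (0,0,0,0), (0,0,0,0)],
           ![(0,0,0,0), (0,0,0,0), (0,0,0,0), (0,0,0,0), (0,0,0,0)],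
           ![(8,10,10,3), (5,1,1,7), (5,8,8,2), (8,0,0,7), (7,3,3,3)],
           ![(0,0,0,0), (0,0,0,0), (0,0,0,0), (0,0,0,0), (0,0,0,0)],
           ![(0,0,0,0), (0,0,0,0), (0,0,0,0), (0,0,0,0), (0,0,0,0)]],
         ![![(0,0,0,0), (0,0,0,0), (0,0,0,0), (0,0,0,0), (0,0,0,0)],
           ![(0,0,0,0), (0,0,0,0), (0,0,0,0), (0,0,0,0), (0,0,0,0)],
           ![(0,0,0,0), (0,0,0,0), (0,0,0,0), (0,0,0,0), (0,0,0,0)],
           ![(3,1,1,8), (4,8,8,8), (3,0,0,4), (6,3,3,9), (6,10,10,4)],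
           ![(0,0,0,0), (0,0,0,0), (0,0,0,0), (0,0,0,0), (0,0,0,0)]],
         ![![(0,0,0,0), (0,0,0,0), (0,0,0,0), (0,0,0,0), (0,0,0,0)],
           ![(0,10,1,0), (8,9,1,4), (2,6,2,1), (9,9,5,10), (3,10,2,7)],
           ![(0,0,0,0), (0,0,0,0), (0,0,0,0), (0,0,0,0), (0,0,0,0)],
           ![(0,0,0,0), (0,0,0,0), (0,0,0,0), (0,0,0,0), (0,0,0,0)],
           ![(0,0,0,0), (0,0,0,0), (0,0,0,0), (0,0,0,0), (0,0,0,0)]]],
       ![![![(0,0,0,0), (1,0,0,1), (0,0,0,0), (0,0,0,0), (0,0,0,0)],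
           ![(0,0,0,0), (1,3,4,2), (0,0,0,0), (0,0,0,0), (0,0,0,0)],
           ![(0,0,0,0), (2,9,1,5), (0,0,0,0), (0,0,0,0), (0,0,0,0)],
           ![(0,0,0,0), (5,2,10,2), (0,0,0,0), (0,0,0,0), (0,0,0,0)],
           ![(0,0,0,0), (2,8,7,1), (0,0,0,0), (0,0,0,0), (0,0,0,0)]],
         ![![(0,0,0,0), (1,4,3,2), (0,0,0,0), (0,0,0,0), (0,0,0,0)],
           ![(0,0,0,0), (0,0,0,0), (10,10,10,9), (0,0,0,0), (0,0,0,0)],
           ![(0,0,0,0), (0,0,0,0), (0,0,0,0), (7,4,5,3), (0,0,0,0)],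
           ![(0,0,0,0), (0,0,0,0), (0,0,0,0), (0,0,0,0), (0,2,5,0)],
           ![(4,2,10,8), (0,0,0,0), (0,0,0,0), (0,0,0,0), (0,0,0,0)]],
         ![![(0,0,0,0), (2,1,9,5), (0,0,0,0), (0,0,0,0), (0,0,0,0)],
           ![(0,0,0,0), (0,0,0,0), (0,0,0,0), (7,5,4,3), (0,0,0,0)],
           ![(8,3,3,4), (0,0,0,0), (0,0,0,0), (0,0,0,0), (0,0,0,0)],
           ![(0,0,0,0), (0,0,0,0), (6,4,5,9), (0,0,0,0), (0,0,0,0)],
           ![(0,0,0,0), (0,0,0,0), (0,0,0,0), (0,0,0,0), (10,9,1,1)]],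
         ![![(0,0,0,0), (5,10,2,2), (0,0,0,0), (0,0,0,0), (0,0,0,0)],
           ![(0,0,0,0), (0,0,0,0), (0,0,0,0), (0,0,0,0), (0,5,2,0)],
           ![(0,0,0,0), (0,0,0,0), (6,5,4,9), (0,0,0,0), (0,0,0,0)],
           ![(7,10,10,5), (0,0,0,0), (0,0,0,0), (0,0,0,0), (0,0,0,0)],
           ![(0,0,0,0), (0,0,0,0), (0,0,0,0), (4,3,4,6), (0,0,0,0)]],
         ![![(0,0,0,0), (2,7,8,1), (0,0,0,0), (0,0,0,0), (0,0,0,0)],
           ![(4,10,2,8), (0,0,0,0), (0,0,0,0), (0,0,0,0), (0,0,0,0)],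
           ![(0,0,0,0), (0,0,0,0), (0,0,0,0), (0,0,0,0), (10,1,9,1)],
           ![(0,0,0,0), (0,0,0,0), (0,0,0,0), (4,4,3,6), (0,0,0,0)],
           ![(0,0,0,0), (0,0,0,0), (2,0,0,6), (0,0,0,0), (0,0,0,0)]]],
       ![![![(0,0,0,0), (0,0,0,0), (0,0,0,0), (10,3,3,1), (0,0,0,0)],
           ![(0,0,0,0), (0,0,0,0), (0,0,0,0), (1,6,7,10), (0,0,0,0)],
           ![(0,0,0,0), (0,0,0,0), (0,0,0,0), (8,6,2,3), (0,0,0,0)],
           ![(0,0,0,0), (0,0,0,0), (0,0,0,0), (0,3,7,0), (0,0,0,0)],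
           ![(0,0,0,0), (0,0,0,0), (0,0,0,0), (3,4,3,8), (0,0,0,0)]],
         ![![(0,0,0,0), (0,0,0,0), (0,0,0,0), (1,7,6,10), (0,0,0,0)],
           ![(0,0,0,0), (6,0,0,2), (0,0,0,0), (0,0,0,0), (0,0,0,0)],
           ![(0,0,0,0), (0,0,0,0), (0,0,0,0), (0,0,0,0), (8,4,5,4)],
           ![(0,0,0,0), (0,0,0,0), (6,6,2,4), (0,0,0,0), (0,0,0,0)],
           ![(1,5,9,2), (0,0,0,0), (0,0,0,0), (0,0,0,0), (0,0,0,0)]],
         ![![(0,0,0,0), (0,0,0,0), (0,0,0,0), (8,2,6,3), (0,0,0,0)],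
           ![(0,0,0,0), (0,0,0,0), (0,0,0,0), (0,0,0,0), (8,5,4,4)],
           ![(4,0,0,3), (0,0,0,0), (0,0,0,0), (0,0,0,0), (0,0,0,0)],
           ![(0,0,0,0), (9,6,7,6), (0,0,0,0), (0,0,0,0), (0,0,0,0)],
           ![(0,0,0,0), (0,0,0,0), (4,9,5,6), (0,0,0,0), (0,0,0,0)]],
         ![![(0,0,0,0), (0,0,0,0), (0,0,0,0), (0,7,3,0), (0,0,0,0)],
           ![(0,0,0,0), (0,0,0,0), (6,2,6,4), (0,0,0,0), (0,0,0,0)],
           ![(0,0,0,0), (9,7,6,6), (0,0,0,0), (0,0,0,0), (0,0,0,0)],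
           ![(2,3,3,5), (0,0,0,0), (0,0,0,0), (0,0,0,0), (0,0,0,0)],
           ![(0,0,0,0), (0,0,0,0), (0,0,0,0), (0,0,0,0), (5,3,4,7)]],
         ![![(0,0,0,0), (0,0,0,0), (0,0,0,0), (3,3,4,8), (0,0,0,0)],
           ![(1,9,5,2), (0,0,0,0), (0,0,0,0), (0,0,0,0), (0,0,0,0)],
           ![(0,0,0,0), (0,0,0,0), (4,5,9,6), (0,0,0,0), (0,0,0,0)],
           ![(0,0,0,0), (0,0,0,0), (0,0,0,0), (0,0,0,0), (5,4,3,7)],
           ![(0,0,0,0), (9,1,1,10), (0,0,0,0), (0,0,0,0), (0,0,0,0)]]],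
       ![![![(0,0,0,0), (0,0,0,0), (1,8,8,10), (0,0,0,0), (0,0,0,0)],
           ![(0,0,0,0), (0,0,0,0), (8,7,8,3), (0,0,0,0), (0,0,0,0)],
           ![(0,0,0,0), (0,0,0,0), (0,8,4,0), (0,0,0,0), (0,0,0,0)],
           ![(0,0,0,0), (0,0,0,0), (3,5,9,8), (0,0,0,0), (0,0,0,0)],
           ![(0,0,0,0), (0,0,0,0), (10,5,4,1), (0,0,0,0), (0,0,0,0)]],
         ![![(0,0,0,0), (0,0,0,0), (8,8,7,3), (0,0,0,0), (0,0,0,0)],
           ![(0,0,0,0), (0,0,0,0), (0,0,0,0), (0,0,0,0), (2,10,10,1)],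
           ![(0,0,0,0), (6,7,8,4), (0,0,0,0), (0,0,0,0), (0,0,0,0)],
           ![(0,0,0,0), (0,0,0,0), (0,0,0,0), (7,6,2,5), (0,0,0,0)],
           ![(10,2,6,9), (0,0,0,0), (0,0,0,0), (0,0,0,0), (0,0,0,0)]],
         ![![(0,0,0,0), (0,0,0,0), (0,4,8,0), (0,0,0,0), (0,0,0,0)],
           ![(0,0,0,0), (6,8,7,4), (0,0,0,0), (0,0,0,0), (0,0,0,0)],
           ![(9,8,8,6), (0,0,0,0), (0,0,0,0), (0,0,0,0), (0,0,0,0)],
           ![(0,0,0,0), (0,0,0,0), (0,0,0,0), (0,0,0,0), (2,4,5,5)],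
           ![(0,0,0,0), (0,0,0,0), (0,0,0,0), (5,9,5,7), (0,0,0,0)]],
         ![![(0,0,0,0), (0,0,0,0), (3,9,5,8), (0,0,0,0), (0,0,0,0)],
           ![(0,0,0,0), (0,0,0,0), (0,0,0,0), (7,2,6,5), (0,0,0,0)],
           ![(0,0,0,0), (0,0,0,0), (0,0,0,0), (0,0,0,0), (2,5,4,5)],
           ![(7,0,0,8), (0,0,0,0), (0,0,0,0), (0,0,0,0), (0,0,0,0)],
           ![(0,0,0,0), (3,6,7,7), (0,0,0,0), (0,0,0,0), (0,0,0,0)]],
         ![![(0,0,0,0), (0,0,0,0), (10,4,5,1), (0,0,0,0), (0,0,0,0)],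
           ![(10,6,2,9), (0,0,0,0), (0,0,0,0), (0,0,0,0), (0,0,0,0)],
           ![(0,0,0,0), (0,0,0,0), (0,0,0,0), (5,5,9,7), (0,0,0,0)],
           ![(0,0,0,0), (3,7,6,7), (0,0,0,0), (0,0,0,0), (0,0,0,0)],
           ![(0,0,0,0), (0,0,0,0), (0,0,0,0), (0,0,0,0), (5,0,0,9)]]],
       ![![![(0,0,0,0), (0,0,0,0), (0,0,0,0), (0,0,0,0), (10,0,0,10)],
           ![(0,0,0,0), (0,0,0,0), (0,0,0,0), (0,0,0,0), (9,3,4,10)],
           ![(0,0,0,0), (0,0,0,0), (0,0,0,0), (0,0,0,0), (6,9,1,9)],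
           ![(0,0,0,0), (0,0,0,0), (0,0,0,0), (0,0,0,0), (9,2,10,6)],
           ![(0,0,0,0), (0,0,0,0), (0,0,0,0), (0,0,0,0), (10,8,7,9)]],
         ![![(0,0,0,0), (0,0,0,0), (0,0,0,0), (0,0,0,0), (9,4,3,10)],
           ![(0,0,0,0), (0,0,0,0), (0,0,0,0), (9,0,0,5), (0,0,0,0)],
           ![(0,0,0,0), (0,0,0,0), (7,7,8,5), (0,0,0,0), (0,0,0,0)],
           ![(0,0,0,0), (1,10,2,10), (0,0,0,0), (0,0,0,0), (0,0,0,0)],
           ![(7,1,9,3), (0,0,0,0), (0,0,0,0), (0,0,0,0), (0,0,0,0)]],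
         ![![(0,0,0,0), (0,0,0,0), (0,0,0,0), (0,0,0,0), (6,1,9,9)],
           ![(0,0,0,0), (0,0,0,0), (7,8,7,5), (0,0,0,0), (0,0,0,0)],
           ![(4,1,1,6), (0,0,0,0), (0,0,0,0), (0,0,0,0), (0,0,0,0)],
           ![(0,0,0,0), (0,0,0,0), (0,0,0,0), (5,6,7,2), (0,0,0,0)],
           ![(0,0,0,0), (0,6,9,0), (0,0,0,0), (0,0,0,0), (0,0,0,0)]],
         ![![(0,0,0,0), (0,0,0,0), (0,0,0,0), (0,0,0,0), (9,10,2,6)],
           ![(0,0,0,0), (1,2,10,10), (0,0,0,0), (0,0,0,0), (0,0,0,0)],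
           ![(0,0,0,0), (0,0,0,0), (0,0,0,0), (5,7,6,2), (0,0,0,0)],
           ![(3,8,8,7), (0,0,0,0), (0,0,0,0), (0,0,0,0), (0,0,0,0)],
           ![(0,0,0,0), (0,0,0,0), (4,6,7,8), (0,0,0,0), (0,0,0,0)]],
         ![![(0,0,0,0), (0,0,0,0), (0,0,0,0), (0,0,0,0), (10,7,8,9)],
           ![(7,9,1,3), (0,0,0,0), (0,0,0,0), (0,0,0,0), (0,0,0,0)],
           ![(0,0,0,0), (0,9,6,0), (0,0,0,0), (0,0,0,0), (0,0,0,0)],
           ![(0,0,0,0), (0,0,0,0), (4,7,6,8), (0,0,0,0), (0,0,0,0)],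
           ![(0,0,0,0), (0,0,0,0), (0,0,0,0), (1,1,1,2), (0,0,0,0)]]]]
      : Fin 5 → Fin 5 → Fin 5 → Fin 5 → ZMod 11 × ZMod 11 × ZMod 11 × ZMod 11) a b c d

set_option maxRecDepth 100000 in
theorem tblS_one : tblS 1 0 0 1 = (1, 0, 0, 1) := by decide

set_option maxRecDepth 100000 in
theorem tblS_mul : ∀ a b c d : ZMod 5, a * d - b * c = 1 → ∀ a' b' c' d' : ZMod 5, a' * d' - b' * c' = 1 →
    (tblS (a*a'+b*c') (a*b'+b*d') (c*a'+d*c') (c*b'+d*d')).1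
      = (tblS a b c d).1 * (tblS a' b' c' d').1 + (tblS a b c d).2.1 * (tblS a' b' c' d').2.2.1 ∧
    (tblS (a*a'+b*c') (a*b'+b*d') (c*a'+d*c') (c*b'+d*d')).2.1
      = (tblS a b c d).1 * (tblS a' b' c' d').2.1 + (tblS a b c d).2.1 * (tblS a' b' c' d').2.2.2 ∧
    (tblS (a*a'+b*c') (a*b'+b*d') (c*a'+d*c') (c*b'+d*d')).2.2.1
      = (tblS a b c d).2.2.1 * (tblS a' b' c' d').1 + (tblS a b c d).2.2.2 * (tblS a' b' c' d').2.2.1 ∧
    (tblS (a*a'+b*c') (a*b'+b*d') (c*a'+d*c') (c*b'+d*d')).2.2.2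
      = (tblS a b c d).2.2.1 * (tblS a' b' c' d').2.1 + (tblS a b c d).2.2.2 * (tblS a' b' c' d').2.2.2 := by
  decide +kernel

set_option maxRecDepth 100000 in
theorem tblS_free : ∀ a b c d : ZMod 5, a * d - b * c = 1 → ¬ (a = 1 ∧ b = 0 ∧ c = 0 ∧ d = 1) →
    ∀ x y : ZMod 11, (tblS a b c d).1 * x + (tblS a b c d).2.1 * y = x →
      (tblS a b c d).2.2.1 * x + (tblS a b c d).2.2.2 * y = y → x = 0 ∧ y = 0 := by
  decide +kernel

theorem det_entries (A : Matrix.SpecialLinearGroup (Fin 2) (ZMod 5)) :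
    A 0 0 * A 1 1 - A 0 1 * A 1 0 = 1 := by
  have h := A.det_coe
  rw [Matrix.det_fin_two] at h
  exact h

theorem mul_entries (A B : Matrix.SpecialLinearGroup (Fin 2) (ZMod 5)) (i j : Fin 2) :
    (A * B) i j = A i 0 * B 0 j + A i 1 * B 1 j := by
  show ((A * B : Matrix.SpecialLinearGroup (Fin 2) (ZMod 5)) : Matrix (Fin 2) (Fin 2) (ZMod 5)) i j = _
  rw [Matrix.SpecialLinearGroup.coe_mul, Matrix.mul_apply, Fin.sum_univ_two]

/-- the action of `SL(2,5)` on `F_11 × F_11` -/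
def rhoFun (A : Matrix.SpecialLinearGroup (Fin 2) (ZMod 5)) : AddMonoid.End (ZMod 11 × ZMod 11) where
  toFun v := ((tblS (A 0 0) (A 0 1) (A 1 0) (A 1 1)).1 * v.1 + (tblS (A 0 0) (A 0 1) (A 1 0) (A 1 1)).2.1 * v.2,
    (tblS (A 0 0) (A 0 1) (A 1 0) (A 1 1)).2.2.1 * v.1 + (tblS (A 0 0) (A 0 1) (A 1 0) (A 1 1)).2.2.2 * v.2)
  map_zero' := by simp
  map_add' u v := by
    ext
    · simp only [Prod.fst_add, Prod.snd_add]; ring
    · simp only [Prod.fst_add, Prod.snd_add]; ring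

theorem rhoFun_apply (A : Matrix.SpecialLinearGroup (Fin 2) (ZMod 5)) (v : ZMod 11 × ZMod 11) :
    rhoFun A v = ((tblS (A 0 0) (A 0 1) (A 1 0) (A 1 1)).1 * v.1 + (tblS (A 0 0) (A 0 1) (A 1 0) (A 1 1)).2.1 * v.2,
    (tblS (A 0 0) (A 0 1) (A 1 0) (A 1 1)).2.2.1 * v.1 + (tblS (A 0 0) (A 0 1) (A 1 0) (A 1 1)).2.2.2 * v.2) := rfl

def rho : Matrix.SpecialLinearGroup (Fin 2) (ZMod 5) →* AddMonoid.End (ZMod 11 × ZMod 11) where
  toFun := rhoFun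
  map_one' := by
    ext v
    · rw [rhoFun_apply]
      have h00 : (1 : Matrix.SpecialLinearGroup (Fin 2) (ZMod 5)) 0 0 = 1 := rfl
      have h01 : (1 : Matrix.SpecialLinearGroup (Fin 2) (ZMod 5)) 0 1 = 0 := rfl
      have h10 : (1 : Matrix.SpecialLinearGroup (Fin 2) (ZMod 5)) 1 0 = 0 := rfl
      have h11 : (1 : Matrix.SpecialLinearGroup (Fin 2) (ZMod 5)) 1 1 = 1 := rfl
      rw [h00, h01, h10, h11, tblS_one]
      simp
    · rw [rhoFun_apply]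
      have h00 : (1 : Matrix.SpecialLinearGroup (Fin 2) (ZMod 5)) 0 0 = 1 := rfl
      have h01 : (1 : Matrix.SpecialLinearGroup (Fin 2) (ZMod 5)) 0 1 = 0 := rfl
      have h10 : (1 : Matrix.SpecialLinearGroup (Fin 2) (ZMod 5)) 1 0 = 0 := rfl
      have h11 : (1 : Matrix.SpecialLinearGroup (Fin 2) (ZMod 5)) 1 1 = 1 := rfl
      rw [h00, h01, h10, h11, tblS_one]
      simp
  map_mul' A B := by
    obtain ⟨e1, e2, e3, e4⟩ := tblS_mul (A 0 0) (A 0 1) (A 1 0) (A 1 1) (det_entries A) (B 0 0) (B 0 1) (B 1 0) (B 1 1)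
      (det_entries B)
    ext v
    · show (rhoFun (A * B) v).1 = (rhoFun A (rhoFun B v)).1
      rw [rhoFun_apply, rhoFun_apply, rhoFun_apply, mul_entries, mul_entries, mul_entries, mul_entries]
      simp only
      rw [e1, e2]; ring
    · show (rhoFun (A * B) v).2 = (rhoFun A (rhoFun B v)).2
      rw [rhoFun_apply, rhoFun_apply, rhoFun_apply, mul_entries, mul_entries, mul_entries, mul_entries]
      simp only
      rw [e3, e4]; ring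

/-- SL(2,5) occurs as a Frobenius complement: there is a finite group L with a subgroup H isomorphic to SL(2,5) which is a non-trivial proper subgroup meeting each conjugate gHg⁻¹ with g outside H trivially. -/
theorem result :
    ∃ (L : Type) (_ : Group L) (_ : Finite L) (H : Subgroup L),
      Cfsg.IsFrobeniusComplement H ∧ Nonempty (H ≃* Matrix.SpecialLinearGroup (Fin 2) (ZMod 5)) := by
  haveI : Nontrivial (Matrix.SpecialLinearGroup (Fin 2) (ZMod 5)) := by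
    refine ⟨⟨1, -1, ?_⟩⟩
    intro h
    have h1 : (1 : Matrix.SpecialLinearGroup (Fin 2) (ZMod 5)) 0 0
        = (-1 : Matrix.SpecialLinearGroup (Fin 2) (ZMod 5)) 0 0 := by rw [← h]
    revert h1
    simp only [Matrix.SpecialLinearGroup.coe_neg, Matrix.SpecialLinearGroup.coe_one, Matrix.neg_apply,
      Matrix.one_apply_eq]
    decide +kernel
  haveI : Nontrivial (ZMod 11 × ZMod 11) := ⟨⟨(0, 0), (1, 0), by decide⟩⟩
  obtain ⟨L, iG, iF, C, hC, ⟨e⟩⟩ := exists_frobenius_of_free_add_action rho (by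
    intro A hA v hv
    have hv' : rhoFun A v = v := hv
    rw [rhoFun_apply] at hv'
    have h1 := congrArg Prod.fst hv'
    have h2 := congrArg Prod.snd hv'
    have hne : ¬ (A 0 0 = 1 ∧ A 0 1 = 0 ∧ A 1 0 = 0 ∧ A 1 1 = 1) := by
      rintro ⟨h00, h01, h10, h11⟩
      apply hA
      apply Subtype.ext
      ext i j
      fin_cases i <;> fin_cases j
      · exact h00
      · exact h01
      · exact h10
      · exact h11
    obtain ⟨hx, hy⟩ := tblS_free (A 0 0) (A 0 1) (A 1 0) (A 1 1) (det_entries A) hne v.1 v.2 h1 h2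
    ext
    · exact hx
    · exact hy)
  exact ⟨L, iG, iF, C, hC, ⟨e.symm⟩⟩

end Cfsg.Agent.S3374
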