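import Cfsg.Statements.S3375
import Mathlib

set_option autoImplicit false
open Cfsg

namespace Cfsg.Agent.S3375

section

variable {H : Type*} [Group H] [Finite H] (γ : MulAut H) (hγγ : ∀ h : H, γ (γ h) = h)

include hγγ

/-- Part (i). -/
lemma part_one (hfix : ∀ h : H, γ h = h → h = 1) :
    (∀ a b : H, a * b = b * a) ∧ ∀ h : H, γ h = h⁻¹ := by
  let f : H → H := fun h => h⁻¹ * γ h
  have hinj : Function.Injective f := by
    intro h k hhk
    have h1 : h⁻¹ * γ h = k⁻¹ * γ k := hhk
    have h2 : γ (k * h⁻¹) = k * h⁻¹ := by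
      rw [map_mul, map_inv]
      have : γ h = h * (k⁻¹ * γ k) := by rw [← h1]; group
      rw [this]
      group
    have h3 := hfix _ h2
    have : k = h := by
      have := mul_inv_eq_one.1 h3
      exact this
    exact this.symm
  have hsurj : Function.Surjective f := Finite.surjective_of_injective hinj
  have hinv : ∀ h : H, γ h = h⁻¹ := by
    intro x
    obtain ⟨h, rfl⟩ := hsurj x
    show γ (h⁻¹ * γ h) = (h⁻¹ * γ h)⁻¹
    rw [map_mul, map_inv, hγγ]
    group
  refine ⟨?_, hinv⟩
  intro a b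
  have h1 : γ (a * b) = (a * b)⁻¹ := hinv _
  rw [map_mul, hinv a, hinv b, mul_inv_rev] at h1
  have h2 := congrArg (fun x => x⁻¹) h1
  simp only [mul_inv_rev, inv_inv] at h2
  exact h2.symm

/-- Part (ii). -/
lemma part_two (hC : Nat.card {h : H // γ h = h} = 2) (M : Subgroup H) (hM : M.index = 2) :
    ∃ A : Subgroup H, A.index = 2 ∧ IsMulCommutative A ∧ (∀ a ∈ A, γ a ∈ A) ∧
      ∀ a ∈ A, γ a = a⁻¹ := by
  classical
  -- the fixed subgroup
  let C : Subgroup H :=
    { carrier := {h | γ h = h}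
      mul_mem' := by
        intro a b ha hb
        show γ (a * b) = a * b
        rw [map_mul, ha, hb]
      one_mem' := map_one γ
      inv_mem' := by
        intro a ha
        show γ a⁻¹ = a⁻¹
        rw [map_inv, ha] }
  have hCcard : Nat.card C = 2 := hC
  have hCidx : C.index * 2 = Nat.card H := by
    rw [← hCcard, mul_comm]
    exact Subgroup.card_mul_index C
  -- the map h ↦ h γ(h)⁻¹ on cosets
  let g : H ⧸ C → H := Quotient.lift (fun h : H => h * (γ h)⁻¹) (by
    intro a b hab
    have h1 : a⁻¹ * b ∈ C := QuotientGroup.leftRel_apply.1 hab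
    have h2 : γ (a⁻¹ * b) = a⁻¹ * b := h1
    rw [map_mul, map_inv] at h2
    show a * (γ a)⁻¹ = b * (γ b)⁻¹
    have : γ b = γ a * (a⁻¹ * b) := by rw [← h2]; group
    rw [this]
    group)
  have hg : Function.Injective g := by
    intro x y
    refine Quotient.inductionOn₂ x y ?_
    intro a b hab
    have h1 : a * (γ a)⁻¹ = b * (γ b)⁻¹ := hab
    apply Quotient.sound
    apply QuotientGroup.leftRel_apply.2
    show γ (a⁻¹ * b) = a⁻¹ * b
    rw [map_mul, map_inv]
    have : (γ a)⁻¹ = a⁻¹ * (b * (γ b)⁻¹) := by rw [← h1]; group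
    rw [this]
    group
  have hSinv : ∀ x ∈ Set.range g, γ x = x⁻¹ := by
    rintro x ⟨q, rfl⟩
    refine Quotient.inductionOn q ?_
    intro h
    show γ (h * (γ h)⁻¹) = (h * (γ h)⁻¹)⁻¹
    rw [map_mul, map_inv, hγγ]
    group
  have hScard : Nat.card (Set.range g) = C.index := Nat.card_range_of_injective hg
  -- a γ-invariant subgroup of index 2
  obtain ⟨A, hA2, hAinv⟩ : ∃ A : Subgroup H, A.index = 2 ∧ ∀ x, x ∈ A ↔ γ x ∈ A := by
    by_cases hMinv : ∀ x, x ∈ M ↔ γ x ∈ M
    · exact ⟨M, hM, hMinv⟩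
    · push Not at hMinv
      obtain ⟨x₀, hx₀⟩ := hMinv
      let A₀ : Subgroup H :=
        { carrier := {x | x ∈ M ↔ γ x ∈ M}
          mul_mem' := by
            intro a b ha hb
            show a * b ∈ M ↔ γ (a * b) ∈ M
            rw [map_mul, Subgroup.mul_mem_iff_of_index_two hM,
              Subgroup.mul_mem_iff_of_index_two hM]
            have ha' : a ∈ M ↔ γ a ∈ M := ha
            have hb' : b ∈ M ↔ γ b ∈ M := hb
            rw [ha', hb']
          one_mem' := by
            show (1 : H) ∈ M ↔ γ 1 ∈ M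
            rw [map_one]
          inv_mem' := by
            intro a ha
            show a⁻¹ ∈ M ↔ γ a⁻¹ ∈ M
            have ha' : a ∈ M ↔ γ a ∈ M := ha
            rw [map_inv, inv_mem_iff, inv_mem_iff]
            exact ha' }
      refine ⟨A₀, ?_, ?_⟩
      · rw [Subgroup.index_eq_two_iff]
        refine ⟨x₀, ?_⟩
        intro b
        show Xor (b * x₀ ∈ M ↔ γ (b * x₀) ∈ M) (b ∈ M ↔ γ b ∈ M)
        rw [map_mul, Subgroup.mul_mem_iff_of_index_two hM, Subgroup.mul_mem_iff_of_index_two hM]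
        unfold Xor
        tauto
      · intro x
        show (x ∈ M ↔ γ x ∈ M) ↔ (γ x ∈ M ↔ γ (γ x) ∈ M)
        rw [hγγ]
        tauto
  have hAcard : Nat.card A * 2 = Nat.card H := by
    rw [← hA2]
    exact Subgroup.card_mul_index A
  have hSA : Set.range g ⊆ (A : Set H) := by
    rintro x ⟨q, rfl⟩
    refine Quotient.inductionOn q ?_
    intro h
    show h * (γ h)⁻¹ ∈ A
    rw [Subgroup.mul_mem_iff_of_index_two hA2, inv_mem_iff]
    exact hAinv h
  have hSeq : Set.range g = (A : Set H) := by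
    apply Set.eq_of_subset_of_ncard_le hSA
    · rw [← Nat.card_coe_set_eq, ← Nat.card_coe_set_eq, hScard]
      have : Nat.card ((A : Set H)) = Nat.card A := rfl
      rw [this]
      omega
  have hAγ : ∀ a ∈ A, γ a = a⁻¹ := by
    intro a ha
    apply hSinv
    rw [hSeq]
    exact ha
  refine ⟨A, hA2, ?_, fun a ha => (hAinv a).1 ha, hAγ⟩
  refine ⟨⟨?_⟩⟩
  rintro ⟨a, ha⟩ ⟨b, hb⟩
  apply Subtype.ext
  show a * b = b * a
  have h1 : γ (a * b) = (a * b)⁻¹ := hAγ _ (A.mul_mem ha hb)
  rw [map_mul, hAγ a ha, hAγ b hb, mul_inv_rev] at h1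
  have h2 := congrArg (fun x => x⁻¹) h1
  simp only [mul_inv_rev, inv_inv] at h2
  exact h2.symm

end

/-- Let γ be an automorphism of order 2 of a finite group H. (i) If γ fixes only the identity, then H is abelian and γ inverts every element. (ii) If γ has exactly two fixed points and H has a subgroup of index 2, then H has a γ-invariant abelian subgroup of index 2 on which γ acts by inversion. -/
theorem result {H : Type*} [Group H] [Finite H] (γ : MulAut H) (hγ : orderOf γ = 2) :
    ((∀ h : H, γ h = h → h = 1) → (∀ a b : H, a * b = b * a) ∧ ∀ h : H, γ h = h⁻¹) ∧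
    ((Nat.card {h : H // γ h = h} = 2 ∧ ∃ M : Subgroup H, M.index = 2) →
      ∃ A : Subgroup H, A.index = 2 ∧ IsMulCommutative A ∧ (∀ a ∈ A, γ a ∈ A) ∧ ∀ a ∈ A, γ a = a⁻¹) := by
  have hγγ : ∀ h : H, γ (γ h) = h := by
    intro h
    have h1 : γ ^ 2 = 1 := by
      rw [← hγ]
      exact pow_orderOf_eq_one γ
    have h2 := congrArg (fun φ : MulAut H => φ h) h1
    simpa [pow_two] using h2
  refine ⟨part_one γ hγγ, ?_⟩
  rintro ⟨hC, M, hM⟩
  exact part_two γ hγγ hC M hM

end Cfsg.Agent.S3375
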