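import Cfsg.Statements.S3376
import Mathlib
import Cfsg.Agent.Lib.Helper2.Order168
import Cfsg.Agent.Lib.Helper2.NilpotentBasic
import Cfsg.Agent.Lib.Helper2.W162a
import Cfsg.Agent.Lib.Helper2.W162b
import Cfsg.Agent.Lib.Helper2.W162c

set_option autoImplicit false
open Cfsg

namespace Cfsg.Agent.S3376

/-- Let G be a group of order 162 = 3⁴·2 with Sylow 3-subgroup S and Sylow 2-subgroup T, having an elementary abelian normal subgroup J of order 27, such that Z = Z(S) has order 3, Z centralizes T, and C_S(T) ≠ S. Then G is isomorphic to the centralizer in Sym(9) of a product of three disjoint 3-cycles. -/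
theorem result {G : Type*} [Group G] [Finite G] (hG : Nat.card G = 162)
    (S : Sylow 3 G) (T : Sylow 2 G) (J : Subgroup G) [hJn : J.Normal] (hJcomm : IsMulCommutative J)
    (hJexp : ∀ a ∈ J, a ^ 3 = 1) (hJcard : Nat.card J = 27)
    (Z : Subgroup G) (hZ : Z = (S : Subgroup G) ⊓ Subgroup.centralizer ((S : Subgroup G) : Set G)) (hZcard : Nat.card Z = 3)
    (hZT : Z ≤ Subgroup.centralizer ((T : Subgroup G) : Set G))
    (hST : (S : Subgroup G) ⊓ Subgroup.centralizer ((T : Subgroup G) : Set G) ≠ S) :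
    Nonempty (G ≃* Subgroup.centralizer ({Equiv.swap (0 : Fin 9) 1 * Equiv.swap 1 2 * Equiv.swap 3 4 * Equiv.swap 4 5 * Equiv.swap 6 7 * Equiv.swap 7 8} : Set (Equiv.Perm (Fin 9)))) := by
  classical
  haveI : Fact (Nat.Prime 3) := ⟨Nat.prime_three⟩
  haveI : Fact (Nat.Prime 2) := ⟨Nat.prime_two⟩
  have hScard : Nat.card (S : Subgroup G) = 81 := by
    have h1 := Cfsg.Agent.Lib.Helper2.Order168.sylow_card (p := 3) (n := 4) (m := 2)
      (by norm_num [hG]) (by norm_num) S
    norm_num at h1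
    exact h1
  have hTcard : Nat.card (T : Subgroup G) = 2 := by
    have h1 := Cfsg.Agent.Lib.Helper2.Order168.sylow_card (p := 2) (n := 1) (m := 81)
      (by norm_num [hG]) (by norm_num) T
    norm_num at h1
    exact h1
  -- the involution
  obtain ⟨t, htT, ht1⟩ : ∃ t ∈ (T : Subgroup G), t ≠ 1 := by
    by_contra hcon
    push Not at hcon
    have h1 : (T : Subgroup G) = ⊥ := (Subgroup.eq_bot_iff_forall _).mpr hcon
    rw [h1] at hTcard
    simp at hTcard
  have ht2 : t ^ 2 = 1 := by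
    have h1 : orderOf t ∣ Nat.card (T : Subgroup G) := Subgroup.orderOf_dvd_natCard _ htT
    rw [hTcard] at h1
    exact orderOf_dvd_iff_pow_eq_one.mp h1
  have ho : orderOf t = 2 := orderOf_eq_prime ht2 ht1
  have hTz : (T : Subgroup G) = Subgroup.zpowers t := by
    have hle : Subgroup.zpowers t ≤ T := Subgroup.zpowers_le.mpr htT
    exact (Subgroup.eq_of_le_of_card_ge hle (by rw [Nat.card_zpowers, ho, hTcard])).symm
  have hidx : (S : Subgroup G).index = 2 := by
    have h1 := Subgroup.card_mul_index (S : Subgroup G)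
    rw [hScard, hG] at h1
    omega
  haveI hSn : (S : Subgroup G).Normal := Subgroup.normal_of_index_eq_two hidx
  have hJS : J ≤ S := by
    intro x hx
    have h2 : x ^ 2 ∈ (S : Subgroup G) := by
      have h1 := Subgroup.pow_index_mem (S : Subgroup G) x
      rwa [hidx] at h1
    have h3 := hJexp x hx
    have e : x = (x ^ 2)⁻¹ := by
      rw [eq_inv_iff_mul_eq_one, ← pow_succ']
      exact h3
    rw [e]
    exact Subgroup.inv_mem _ h2
  have hJc : ∀ x ∈ J, ∀ y ∈ J, x * y = y * x := by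
    intro x hx y hy
    have h1 := hJcomm.is_comm.comm (⟨x, hx⟩ : J) ⟨y, hy⟩
    exact congrArg Subtype.val h1
  have hZdef : ∀ z, z ∈ Z ↔ z ∈ (S : Subgroup G) ∧ ∀ x ∈ (S : Subgroup G), x * z = z * x := by
    intro z
    rw [hZ, Subgroup.mem_inf, Subgroup.mem_centralizer_iff]
    constructor
    · rintro ⟨h1, h2⟩
      exact ⟨h1, fun x hx => h2 x hx⟩
    · rintro ⟨h1, h2⟩
      exact ⟨h1, fun x hx => h2 x hx⟩
  have htZ : ∀ z ∈ Z, t * z = z * t := by
    intro z hz
    exact Subgroup.mem_centralizer_iff.mp (hZT hz) t htT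
  have htS : ∃ x ∈ (S : Subgroup G), t * x ≠ x * t := by
    by_contra hcon
    push Not at hcon
    apply hST
    rw [inf_eq_left]
    intro x hx
    rw [Subgroup.mem_centralizer_iff]
    intro g hg
    have hg' : g ∈ Subgroup.zpowers t := by rw [← hTz]; exact hg
    obtain ⟨k, rfl⟩ := Subgroup.mem_zpowers_iff.mp hg'
    have hc : Commute t x := hcon x hx
    exact (hc.zpow_left k).eq
  have htnS : t ∉ (S : Subgroup G) := by
    intro htS'
    have h1 : orderOf t ∣ Nat.card (S : Subgroup G) := Subgroup.orderOf_dvd_natCard _ htS'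
    rw [ho, hScard] at h1
    omega
  have hcenter : ∀ U : Subgroup G, U ≤ (S : Subgroup G) →
      (S : Subgroup G) ≤ Subgroup.normalizer (U : Set G) → U ≠ ⊥ →
      ∃ z ∈ U, z ∈ Z ∧ z ≠ 1 := by
    intro U hUS hN hU
    have hp : IsPGroup 3 (S : Subgroup G) := S.isPGroup'
    haveI : Group.IsNilpotent (S : Subgroup G) := hp.isNilpotent
    haveI : (U.subgroupOf (S : Subgroup G)).Normal :=
      (Subgroup.normal_subgroupOf_iff_le_normalizer hUS).mpr hN
    have hH : U.subgroupOf (S : Subgroup G) ≠ ⊥ := by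
      intro hbot
      apply hU
      rw [Subgroup.eq_bot_iff_forall]
      intro x hx
      have h1 : (⟨x, hUS hx⟩ : (S : Subgroup G)) ∈ U.subgroupOf (S : Subgroup G) :=
        Subgroup.mem_subgroupOf.mpr hx
      rw [hbot, Subgroup.mem_bot] at h1
      exact congrArg Subtype.val h1
    have h2 := Cfsg.Agent.Lib.Helper2.normal_inf_center_ne_bot (U.subgroupOf (S : Subgroup G)) hH
    rw [Ne, Subgroup.eq_bot_iff_forall] at h2
    push Not at h2
    obtain ⟨z, hz, hz1⟩ := h2
    refine ⟨z.1, Subgroup.mem_subgroupOf.mp hz.1, ?_, ?_⟩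
    · rw [hZdef]
      refine ⟨z.2, ?_⟩
      intro x hx
      have h3 := Subgroup.mem_center_iff.mp hz.2 ⟨x, hx⟩
      exact congrArg Subtype.val h3
    · intro h1
      apply hz1
      exact Subtype.ext h1
  have hyp : Cfsg.Agent.Lib.Helper2.W162.Hyp (S : Subgroup G) J Z t :=
    { fin := inferInstance
      cardG := hG
      cardS := hScard
      cardJ := hJcard
      cardZ := hZcard
      Jnormal := hJn
      Snormal := hSn
      Jcomm := hJc
      Jexp := hJexp
      JleS := hJS
      Zdef := hZdef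
      t2 := ht2
      tZ := htZ
      tS := htS
      tnS := htnS
      center := hcenter }
  obtain ⟨s, hsS, hsJ, hτs, hs3⟩ := hyp.exists_s
  obtain ⟨a, haJ, hτa, haZ⟩ := hyp.exists_a hsS hsJ hτs hs3
  have hgen := hyp.gen hsS hsJ hτs hs3 haJ hτa haZ
  have ha3 : a ^ 3 = 1 := hJexp a haJ
  have hts : (t * s) ^ 2 = 1 := by
    have h1 : t * s = s⁻¹ * t := by
      have h2 := hτs
      rw [MulAut.conj_apply] at h2
      exact mul_inv_eq_iff_eq_mul.mp h2
    have h2 : t * t = 1 := by rwa [pow_two] at ht2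
    calc (t * s) ^ 2 = (t * s) * (t * s) := pow_two _
      _ = (s⁻¹ * t) * (t * s) := by rw [h1]
      _ = s⁻¹ * (t * t) * s := by simp only [mul_assoc]
      _ = 1 := by rw [h2]; simp
  have hta : t * a * t⁻¹ * a⁻¹ = 1 := by
    have h2 := hτa
    rw [MulAut.conj_apply] at h2
    rw [h2, mul_inv_cancel]
  have hab : a * (s * a * s⁻¹) * a⁻¹ * (s * a * s⁻¹)⁻¹ = 1 := by
    have hb : s * a * s⁻¹ ∈ J := hJn.conj_mem a haJ s
    rw [hJc a haJ _ hb, mul_inv_cancel_right, mul_inv_cancel]
  have hsurj : Function.Surjective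
      (Cfsg.Agent.Lib.Helper2.W162.homOf a s t ha3 hs3 ht2 hts hta hab) := by
    rw [← MonoidHom.range_eq_top, eq_top_iff, ← hgen, Subgroup.closure_le]
    intro x hx
    simp only [Set.mem_insert_iff, Set.mem_singleton_iff] at hx
    rcases hx with h1 | h1 | h1
    · exact ⟨Cfsg.Agent.Lib.Helper2.W162.pa, by
        rw [h1]; exact Cfsg.Agent.Lib.Helper2.W162.homOf_pa a s t ha3 hs3 ht2 hts hta hab⟩
    · exact ⟨Cfsg.Agent.Lib.Helper2.W162.ps, by
        rw [h1]; exact Cfsg.Agent.Lib.Helper2.W162.homOf_ps a s t ha3 hs3 ht2 hts hta hab⟩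
    · exact ⟨Cfsg.Agent.Lib.Helper2.W162.pt, by
        rw [h1]; exact Cfsg.Agent.Lib.Helper2.W162.homOf_pt a s t ha3 hs3 ht2 hts hta hab⟩
  have hbij : Function.Bijective
      (Cfsg.Agent.Lib.Helper2.W162.homOf a s t ha3 hs3 ht2 hts hta hab) :=
    hsurj.bijective_of_nat_card_le (by rw [hG]; exact Cfsg.Agent.Lib.Helper2.W162.P_card_le)
  exact ⟨((MulEquiv.ofBijective _ hbij).symm).trans Cfsg.Agent.Lib.Helper2.W162.equivPC⟩

end Cfsg.Agent.S3376
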