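import Cfsg.Statements.S3379
import Cfsg.Agent.Lib.Lead.Taussky

set_option autoImplicit false
set_option linter.style.haveILetI false
open Cfsg

namespace Cfsg.Agent.S3379

open Subgroup
open scoped commutatorElement

variable {G : Type*} [Group G]

/-- iterated conjugation -/
theorem conj_pow_iter (x y : G) (r : ℕ) (h : x⁻¹ * y * x = y ^ r) (j : ℕ) :
    (x ^ j)⁻¹ * y * x ^ j = y ^ (r ^ j) := by
  induction j with
  | zero => simp
  | succ j ih =>
    have : (x ^ (j + 1))⁻¹ * y * x ^ (j + 1) = x⁻¹ * ((x ^ j)⁻¹ * y * x ^ j) * x := by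
      rw [pow_succ]; group
    rw [this, ih]
    have h2 : x⁻¹ * y ^ (r ^ j) * x = (x⁻¹ * y * x) ^ (r ^ j) := by
      have := conj_pow (a := x⁻¹) (b := y) (i := r ^ j)
      rw [inv_inv] at this
      exact this.symm
    rw [h2, h, ← pow_mul, pow_succ, mul_comm]

/-- Let G be a finite group all of whose Sylow subgroups are cyclic. Then G is generated by two elements x and y of coprime orders n and m with x⁻¹yx = y^r, where gcd(r − 1, m) = 1 and r^n ≡ 1 (mod m). -/
theorem result {G : Type*} [Group G] [Finite G]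
    (hZ : ∀ (p : ℕ) [Fact p.Prime] (P : Sylow p G), IsCyclic (P : Subgroup G)) :
    ∃ (x y : G) (n m r : ℕ), Subgroup.closure {x, y} = ⊤ ∧ orderOf x = n ∧ orderOf y = m ∧
      x⁻¹ * y * x = y ^ r ∧ Nat.Coprime (r - 1) m ∧ Nat.Coprime n m ∧ 1 ≤ r ∧ r ^ n % m = 1 % m := by
  haveI hG : IsZGroup G := ⟨fun p hp P => by haveI := Fact.mk hp; exact hZ p P⟩
  have hcop := IsZGroup.coprime_commutator_index G
  obtain ⟨H, hH⟩ := Subgroup.exists_right_complement'_of_coprime hcop
  have h1 : Abelianization G ≃* H := hH.symm.QuotientMulEquiv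
  haveI hHc : IsCyclic H := isCyclic_of_surjective _ h1.surjective
  haveI hNc : IsCyclic (_root_.commutator G) := IsZGroup.isCyclic_commutator G
  obtain ⟨y0, hy0⟩ := IsCyclic.exists_generator (α := _root_.commutator G)
  obtain ⟨x0, hx0⟩ := IsCyclic.exists_generator (α := H)
  set x : G := (x0 : G) with hx
  set y : G := (y0 : G) with hy
  have hNy : (_root_.commutator G) = zpowers y := by
    ext g
    constructor
    · intro hg
      obtain ⟨k, hk⟩ := Subgroup.mem_zpowers_iff.mp (hy0 ⟨g, hg⟩)
      exact Subgroup.mem_zpowers_iff.mpr ⟨k, by rw [hy, ← Subgroup.coe_zpow, hk]⟩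
    · intro hg
      obtain ⟨k, hk⟩ := Subgroup.mem_zpowers_iff.mp hg
      rw [← hk]
      exact (_root_.commutator G).zpow_mem y0.2 k
  have hHx : H = zpowers x := by
    ext g
    constructor
    · intro hg
      obtain ⟨k, hk⟩ := Subgroup.mem_zpowers_iff.mp (hx0 ⟨g, hg⟩)
      exact Subgroup.mem_zpowers_iff.mpr ⟨k, by rw [hx, ← Subgroup.coe_zpow, hk]⟩
    · intro hg
      obtain ⟨k, hk⟩ := Subgroup.mem_zpowers_iff.mp hg
      rw [← hk]
      exact H.zpow_mem x0.2 k
  have htop : Subgroup.closure ({x, y} : Set G) = ⊤ := by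
    rw [eq_top_iff, ← hH.sup_eq_top, sup_le_iff, hNy, hHx, Subgroup.zpowers_le, Subgroup.zpowers_le]
    exact ⟨Subgroup.subset_closure (by simp), Subgroup.subset_closure (by simp)⟩
  have hox : orderOf x = Nat.card H := by rw [hHx, Nat.card_zpowers]
  have hoy : orderOf y = Nat.card (_root_.commutator G) := by rw [hNy, Nat.card_zpowers]
  have hmpos : 0 < orderOf y := orderOf_pos y
  -- the conjugation exponent
  have hconjmem : x⁻¹ * y * x ∈ zpowers y := by
    rw [← hNy]
    have hn : (_root_.commutator G).Normal := inferInstance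
    have := hn.conj_mem y y0.2 x⁻¹
    rwa [inv_inv] at this
  obtain ⟨k, hk⟩ := Subgroup.mem_zpowers_iff.mp hconjmem
  set r0 : ℕ := (k % (orderOf y : ℤ)).toNat with hr0
  have hr0k : y ^ r0 = y ^ k := by
    rw [← zpow_natCast, hr0, Int.toNat_of_nonneg (Int.emod_nonneg _ (by exact_mod_cast hmpos.ne')),
      zpow_mod_orderOf]
  set r : ℕ := r0 + orderOf y with hr
  have hconj : x⁻¹ * y * x = y ^ r := by
    rw [hr, pow_add, pow_orderOf_eq_one, mul_one, hr0k, hk]
  have hr1 : 1 ≤ r := by omega
  refine ⟨x, y, orderOf x, orderOf y, r, htop, rfl, rfl, hconj, ?_, ?_, hr1, ?_⟩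
  · -- gcd (r - 1, m) = 1
    set K := zpowers (y ^ (r - 1)) with hK
    have hKN : K ≤ (_root_.commutator G) := by
      rw [hK, Subgroup.zpowers_le]
      exact (_root_.commutator G).pow_mem y0.2 _
    haveI hKn : K.Normal := by
      constructor
      intro a ha g
      obtain ⟨i, rfl⟩ := Subgroup.mem_zpowers_iff.mp ha
      have hn : (_root_.commutator G).Normal := inferInstance
      have hgy : g * y * g⁻¹ ∈ zpowers y := by rw [← hNy]; exact hn.conj_mem y y0.2 g
      obtain ⟨j, hj⟩ := Subgroup.mem_zpowers_iff.mp hgy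
      have : g * (y ^ (r - 1)) ^ i * g⁻¹ = ((y ^ (r - 1)) ^ j) ^ i := by
        rw [← conj_zpow, ← conj_pow, ← hj, ← zpow_natCast, ← zpow_natCast, ← zpow_mul, ← zpow_mul,
          ← zpow_mul, ← zpow_mul]
        congr 1
        ring
      rw [this]
      exact K.zpow_mem (K.zpow_mem (Subgroup.mem_zpowers _) j) i
    have htop' : Subgroup.closure ({x⁻¹, y} : Set G) = ⊤ := by
      rw [eq_top_iff, ← htop, Subgroup.closure_le]
      intro g hg
      rcases hg with h | h
      · rw [h]
        have : x⁻¹ ∈ Subgroup.closure ({x⁻¹, y} : Set G) := Subgroup.subset_closure (by simp)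
        simpa using Subgroup.inv_mem _ this
      · rw [Set.mem_singleton_iff] at h
        rw [h]
        exact Subgroup.subset_closure (by simp)
    have hcomm : ⁅x⁻¹, y⁆ ∈ K := by
      have : ⁅x⁻¹, y⁆ = y ^ (r - 1) := by
        rw [commutatorElement_def, inv_inv, hconj]
        have : y ^ r = y ^ (r - 1) * y := by rw [← pow_succ, Nat.sub_add_cancel hr1]
        rw [this, mul_inv_cancel_right]
      rw [this]
      exact Subgroup.mem_zpowers _
    have hle := Cfsg.Agent.Lib.Lead.Taussky.commutator_le_of_closure_pair K htop' hcomm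
    have hKeq : K = (_root_.commutator G) := le_antisymm hKN hle
    have hcard : orderOf (y ^ (r - 1)) = orderOf y := by
      rw [← Nat.card_zpowers, ← hK, hKeq, hoy]
    rw [orderOf_pow] at hcard
    have hg : Nat.gcd (orderOf y) (r - 1) = 1 := by
      rcases Nat.div_eq_self.mp hcard with h0 | h0
      · omega
      · exact h0
    rw [Nat.coprime_comm]
    exact hg
  · rw [hox, hoy, Nat.coprime_comm, ← hH.symm.index_eq_card]
    exact hcop
  · have h3 := conj_pow_iter x y r hconj (orderOf x)
    rw [pow_orderOf_eq_one, inv_one, one_mul, mul_one] at h3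
    have h4 : y ^ (r ^ orderOf x) = y ^ 1 := by rw [← h3, pow_one]
    exact pow_eq_pow_iff_modEq.mp h4

end Cfsg.Agent.S3379
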