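import Cfsg.Statements.S3380
import Mathlib
import Cfsg.Agent.Lib.Lead.NormalAbelianCyclic
import Cfsg.Agent.Lib.Helper2.NilpotentBasic
import Cfsg.Agent.Lib.Helper12.Generation

set_option autoImplicit false
open Cfsg

namespace Cfsg.Agent.S3380

section classify
variable {P : Type*} [Group P] [Finite P]

theorem classify (p : ℕ) [Fact p.Prime] (hP : IsPGroup p P)
    (hn' : ∀ A : Subgroup P, A.Normal → (∀ x ∈ A, ∀ y ∈ A, x * y = y * x) → IsCyclic A)
    (hnc : ¬ IsCyclic P) :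
    p = 2 ∧ ((∃ n : ℕ, Nonempty (P ≃* QuaternionGroup n)) ∨ (∃ n : ℕ, 8 ≤ n ∧ Nonempty (P ≃* DihedralGroup n)) ∨
      Cfsg.IsQuasiDihedral P) := by
  obtain ⟨hp2, n, a, b, hn3, hcard, hoa, hb, hidx, hrel⟩ :=
    Cfsg.Agent.Lib.Lead.NormalAbelianCyclic.structure_of_normal_abelian_cyclic p hP hn' hnc
  refine ⟨hp2, ?_⟩
  have hb1 : b ≠ 1 := by
    intro h
    apply hb
    rw [h]
    exact one_mem _
  rcases hrel with ⟨h4, hb2, hinv⟩ | ⟨hb2, hinv⟩ | ⟨h4, hb2, hsd⟩
  · -- dihedral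
    right; left
    refine ⟨2 ^ (n - 1), ?_, ?_⟩
    · calc 8 = 2 ^ 3 := by norm_num
        _ ≤ 2 ^ (n - 1) := Nat.pow_le_pow_right (by norm_num) (by omega)
    · have hbb : b * b = 1 := by rw [← pow_two]; exact hb2
      have hbinv : b⁻¹ = b := inv_eq_of_mul_eq_one_left hbb
      have hos : orderOf b = 2 := orderOf_eq_prime hb2 hb1
      have hba1 : b * a ≠ 1 := by
        intro h
        apply hb
        have : b = a⁻¹ := eq_inv_of_mul_eq_one_left h
        rw [this]
        exact inv_mem (Subgroup.mem_zpowers a)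
      have hba2 : (b * a) ^ 2 = 1 := by
        rw [pow_two]
        calc b * a * (b * a) = (b * a * b⁻¹) * (b * b) * a := by group
          _ = 1 := by rw [hinv, hbb]; group
      have hot : orderOf (b * a) = 2 := orderOf_eq_prime hba2 hba1
      have hst : b * (b * a) = a := by rw [← mul_assoc, hbb, one_mul]
      have htop := Cfsg.Agent.Lib.Lead.Taussky.closure_pair_eq_top Nat.prime_two hidx hb
      have hcl : Subgroup.closure ({b, b * a} : Set P) = ⊤ := by
        rw [eq_top_iff, ← htop, Subgroup.closure_le]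
        have h1 : b ∈ Subgroup.closure ({b, b * a} : Set P) :=
          Subgroup.subset_closure (Set.mem_insert _ _)
        have h2 : b * a ∈ Subgroup.closure ({b, b * a} : Set P) :=
          Subgroup.subset_closure (Set.mem_insert_of_mem _ rfl)
        have h3 : a ∈ Subgroup.closure ({b, b * a} : Set P) := by
          have := mul_mem (inv_mem h1) h2
          simpa using this
        rintro x (hx | hx)
        · rw [hx]
          exact h3
        · rw [Set.mem_singleton_iff] at hx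
          rw [hx]
          exact h1
      have hD := Cfsg.Agent.Lib.Helper24.closure_pair_equiv_dihedral hos hot
      rw [hst, hoa] at hD
      obtain ⟨e⟩ := hD
      exact ⟨(Subgroup.topEquiv.symm.trans (MulEquiv.subgroupCongr hcl.symm)).trans e⟩
  · -- quaternion
    left
    refine ⟨2 ^ (n - 2), ?_⟩
    haveI : NeZero (2 ^ (n - 2)) := ⟨by positivity⟩
    apply Cfsg.Agent.Lib.Lead.QuatIso.nonempty_mulEquiv_quaternionGroup (N := 2 ^ (n - 2)) _ hb2 hinv hb
    · rw [hcard]
      have : (4 : ℕ) = 2 ^ 2 := by norm_num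
      rw [this, ← pow_add]
      congr 1
      omega
    · rw [hoa, ← pow_succ']
      congr 1
      omega
  · -- semidihedral
    right; right
    refine ⟨n - 1, by omega, ?_, a, b, hoa, orderOf_eq_prime hb2 hb1, ?_⟩
    · rw [hcard]
      congr 1
      omega
    · have : n - 1 - 1 = n - 2 := by omega
      rw [this]
      exact hsd

end classify

section pair

theorem exists_pair {G : Type*} [Group G] [Finite G] (p : ℕ) [hp : Fact p.Prime] (hG : IsPGroup p G)
    (A : Subgroup G) (hAn : A.Normal) (hAc : ∀ x ∈ A, ∀ y ∈ A, x * y = y * x) (hAnc : ¬ IsCyclic A) :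
    ∃ z x : G, z ∈ Subgroup.center G ∧ z ≠ 1 ∧ z ^ p = 1 ∧ x ^ p = 1 ∧ x ∉ Subgroup.zpowers z ∧
      ∀ g : G, ∃ c : ℕ, g * x * g⁻¹ = x * z ^ c := by
  classical
  have hpp := hp.out
  haveI : Group.IsNilpotent G := hG.isNilpotent
  -- the subgroup of elements of order dividing p in A
  let E : Subgroup G :=
    { carrier := {a | a ∈ A ∧ a ^ p = 1}
      mul_mem' := by
        rintro a b ⟨ha, ha'⟩ ⟨hb, hb'⟩
        refine ⟨A.mul_mem ha hb, ?_⟩
        rw [(show Commute a b from hAc a ha b hb).mul_pow, ha', hb', one_mul]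
      one_mem' := ⟨A.one_mem, one_pow _⟩
      inv_mem' := by
        rintro a ⟨ha, ha'⟩
        exact ⟨A.inv_mem ha, by rw [inv_pow, ha', inv_one]⟩ }
  have hEmem : ∀ a : G, a ∈ E ↔ a ∈ A ∧ a ^ p = 1 := fun a => Iff.rfl
  haveI hEn : E.Normal := by
    constructor
    intro n hn g
    rw [hEmem] at hn ⊢
    refine ⟨hAn.conj_mem n hn.1 g, ?_⟩
    rw [conj_pow, hn.2, mul_one, mul_inv_cancel]
  -- two independent elements
  letI : CommGroup A :=
    { (inferInstance : Group A) with mul_comm := fun a b => Subtype.ext (hAc a a.2 b b.2) }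
  obtain ⟨p', hp', u, v, hu, hv, hu1, hvu⟩ := Cfsg.Agent.Lib.Helper12.exists_rank_two (H := A) hAnc
  haveI : Fact p'.Prime := ⟨hp'⟩
  have hpp' : p' = p := by
    obtain ⟨k, hk⟩ := hG (u : G)
    have h1 : orderOf (u : A) = p' := orderOf_eq_prime hu hu1
    have h2 : orderOf (u : G) = p' := by rw [Subgroup.orderOf_coe, h1]
    have h3 : p' ∣ p ^ k := by rw [← h2]; exact orderOf_dvd_of_pow_eq_one hk
    exact (Nat.prime_dvd_prime_iff_eq hp' hpp).mp (hp'.dvd_of_dvd_pow h3)
  subst hpp'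
  have huE : (u : G) ∈ E := ⟨u.2, by have := congrArg Subtype.val hu; simpa using this⟩
  have hvE : (v : G) ∈ E := ⟨v.2, by have := congrArg Subtype.val hv; simpa using this⟩
  have hu1' : (u : G) ≠ 1 := fun h => hu1 (Subtype.ext h)
  have hEne : E ≠ ⊥ := by
    intro h
    have : (u : G) ∈ (⊥ : Subgroup G) := h ▸ huE
    exact hu1' (Subgroup.mem_bot.mp this)
  have hEc := Cfsg.Agent.Lib.Helper2.normal_inf_center_ne_bot E hEne
  obtain ⟨⟨z, hzmem⟩, hzne⟩ := (Subgroup.ne_bot_iff_exists_ne_one).mp hEc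
  have hzE : z ∈ E := hzmem.1
  have hzc : z ∈ Subgroup.center G := hzmem.2
  have hz1 : z ≠ 1 := fun h => hzne (Subtype.ext h)
  have hzp : z ^ p' = 1 := hzE.2
  have hoz : orderOf z = p' := orderOf_eq_prime hzp hz1
  have hzc' : ∀ g : G, g * z = z * g := fun g => Subgroup.mem_center_iff.mp hzc g
  let Z : Subgroup G := Subgroup.zpowers z
  haveI hZn : Z.Normal := by
    constructor
    intro n hn g
    obtain ⟨k, rfl⟩ := hn
    have : g * z ^ k * g⁻¹ = z ^ k := by
      rw [(show Commute g (z ^ k) from Commute.zpow_right (hzc' g) k).eq, mul_assoc, mul_inv_cancel, mul_one]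
    rw [this]
    exact ⟨k, rfl⟩
  -- an element of E outside Z
  have hex : ∃ e : G, e ∈ E ∧ e ∉ Z := by
    by_cases huZ : (u : G) ∈ Z
    · refine ⟨v, hvE, ?_⟩
      intro hvZ
      -- zpowers u = Z
      have hle : Subgroup.zpowers (u : G) ≤ Z := (Subgroup.zpowers_le).mpr huZ
      have hcard : Nat.card Z ≤ Nat.card (Subgroup.zpowers (u : G)) := by
        rw [Nat.card_zpowers, Nat.card_zpowers, hoz, orderOf_eq_prime huE.2 hu1']
      have heq : Subgroup.zpowers (u : G) = Z := Subgroup.eq_of_le_of_card_ge hle hcard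
      have : (v : G) ∈ Subgroup.zpowers (u : G) := heq ▸ hvZ
      obtain ⟨k, hk⟩ := this
      apply hvu
      refine ⟨k, ?_⟩
      apply Subtype.ext
      simpa using hk
    · exact ⟨u, huE, huZ⟩
  obtain ⟨e, heE, heZ⟩ := hex
  let Ebar : Subgroup (G ⧸ Z) := E.map (QuotientGroup.mk' Z)
  haveI : Ebar.Normal := Subgroup.Normal.map hEn (QuotientGroup.mk' Z) (QuotientGroup.mk'_surjective Z)
  haveI : Group.IsNilpotent (G ⧸ Z) := (hG.to_quotient Z).isNilpotent
  have hEbne : Ebar ≠ ⊥ := by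
    intro h
    have : (QuotientGroup.mk' Z e) ∈ Ebar := Subgroup.mem_map_of_mem _ heE
    rw [h, Subgroup.mem_bot] at this
    exact heZ ((QuotientGroup.eq_one_iff e).mp this)
  have hEbc := Cfsg.Agent.Lib.Helper2.normal_inf_center_ne_bot Ebar hEbne
  obtain ⟨⟨xb, hxbmem⟩, hxbne⟩ := (Subgroup.ne_bot_iff_exists_ne_one).mp hEbc
  obtain ⟨x, hxE, hxeq⟩ := Subgroup.mem_map.mp hxbmem.1
  have hxb1 : xb ≠ 1 := fun h => hxbne (Subtype.ext h)
  have hxZ : x ∉ Z := by
    intro h
    apply hxb1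
    rw [← hxeq]
    exact (QuotientGroup.eq_one_iff x).mpr h
  refine ⟨z, x, hzc, hz1, hzp, hxE.2, hxZ, ?_⟩
  intro g
  have hcen : ∀ y : G ⧸ Z, y * xb = xb * y := fun y => Subgroup.mem_center_iff.mp hxbmem.2 y
  have h1 : g * x * g⁻¹ * x⁻¹ ∈ Z := by
    rw [← QuotientGroup.eq_one_iff]
    have := hcen (QuotientGroup.mk' Z g)
    rw [← hxeq] at this
    have h2 : ((g * x * g⁻¹ * x⁻¹ : G) : G ⧸ Z) =
        (QuotientGroup.mk' Z g) * (QuotientGroup.mk' Z x) * (QuotientGroup.mk' Z g)⁻¹ * (QuotientGroup.mk' Z x)⁻¹ := by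
      simp
    rw [h2, this]
    group
  obtain ⟨k, hk⟩ := h1
  have hk' : z ^ k = g * x * g⁻¹ * x⁻¹ := hk
  refine ⟨(k % (p' : ℤ)).toNat, ?_⟩
  have hnn : 0 ≤ k % (p' : ℤ) := Int.emod_nonneg k (by exact_mod_cast hpp.ne_zero)
  have h3 : z ^ (k % (p' : ℤ)).toNat = z ^ k := by
    rw [← zpow_natCast, Int.toNat_of_nonneg hnn, ← hoz, zpow_mod_orderOf]
  rw [h3, hk']
  have h4 : x * (g * x * g⁻¹ * x⁻¹) = (g * x * g⁻¹ * x⁻¹) * x := by
    rw [← hk']
    exact ((show Commute x (z ^ k) from Commute.zpow_right (hzc' x) k).eq)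
  rw [h4]
  group

end pair

section main
variable {q : ℕ} [hq : Fact q.Prime] {V : Type*} [AddCommGroup V] [Module (ZMod q) V]
  {G : Type*} [Group G] (ρ : G →* (V ≃ₗ[ZMod q] V))

/-- fixed submodule of an element -/
def fixSub (a : G) : Submodule (ZMod q) V :=
  LinearMap.eqLocus ((ρ a : V ≃ₗ[ZMod q] V) : V →ₗ[ZMod q] V) LinearMap.id

theorem mem_fixSub (a : G) (v : V) : v ∈ fixSub ρ a ↔ ρ a v = v := by
  simp [fixSub, LinearMap.mem_eqLocus]

/-- norm operator -/
def nrm (p : ℕ) (a : G) : V →ₗ[ZMod q] V :=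
  ∑ j ∈ Finset.range p, ((ρ (a ^ j) : V ≃ₗ[ZMod q] V) : V →ₗ[ZMod q] V)

theorem nrm_apply (p : ℕ) (a : G) (v : V) : nrm ρ p a v = ∑ j ∈ Finset.range p, ρ (a ^ j) v := by
  simp [nrm, LinearMap.sum_apply]

theorem rho_mul (a b : G) (v : V) : ρ (a * b) v = ρ a (ρ b v) := by
  rw [map_mul]; rfl

theorem rho_nrm (p : ℕ) (a : G) (ha : a ^ p = 1) (v : V) : ρ a (nrm ρ p a v) = nrm ρ p a v := by
  rw [nrm_apply, map_sum]
  have h1 : ∀ j ∈ Finset.range p, ρ a (ρ (a ^ j) v) = ρ (a ^ (j + 1)) v := by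
    intro j _
    rw [← rho_mul, ← pow_succ']
  rw [Finset.sum_congr rfl h1]
  have h2 := Finset.sum_range_succ' (fun j => ρ (a ^ j) v) p
  have h3 := Finset.sum_range_succ (fun j => ρ (a ^ j) v) p
  have h4 : ρ (a ^ p) v = ρ (a ^ 0) v := by rw [ha, pow_zero]
  rw [h3, h4] at h2
  exact (add_right_cancel h2).symm

theorem nrm_eq_zero (p : ℕ) (a : G) (ha : a ^ p = 1) (hfix : ∀ v : V, ρ a v = v → v = 0) (v : V) :
    nrm ρ p a v = 0 := hfix _ (rho_nrm ρ p a ha v)

theorem rho_pow_fix (a : G) (v : V) (h : ρ a v = v) (j : ℕ) : ρ (a ^ j) v = v := by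
  induction j with
  | zero => simp
  | succ n ih => rw [pow_succ, rho_mul, h, ih]

theorem nrm_fix (p : ℕ) (a : G) (v : V) (h : ρ a v = v) : nrm ρ p a v = p • v := by
  rw [nrm_apply, Finset.sum_congr rfl (fun j _ => rho_pow_fix ρ a v h j), Finset.sum_const,
    Finset.card_range]

theorem sum_nrm (p : ℕ) (hp : 0 < p) (x z : G) (hxz : Commute x z)
    (hz0 : ∀ j, 0 < j → j < p → ∀ v : V, nrm ρ p (z ^ j) v = 0) (v : V) :
    ∑ i ∈ Finset.range p, nrm ρ p (x * z ^ i) v = p • v := by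
  simp only [nrm_apply]
  rw [Finset.sum_comm]
  have h1 : ∀ j ∈ Finset.range p,
      ∑ i ∈ Finset.range p, ρ ((x * z ^ i) ^ j) v = ρ (x ^ j) (nrm ρ p (z ^ j) v) := by
    intro j _
    rw [nrm_apply, map_sum]
    apply Finset.sum_congr rfl
    intro i _
    rw [← rho_mul]
    have : (x * z ^ i) ^ j = x ^ j * (z ^ j) ^ i := by
      rw [(hxz.pow_right i).mul_pow, ← pow_mul, ← pow_mul, mul_comm i j]
    rw [this]
  rw [Finset.sum_congr rfl h1]
  rw [Finset.sum_eq_single 0]
  · simp only [pow_zero]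
    rw [nrm_fix ρ p 1 v (by simp)]
    simp
  · intro j hj hj0
    rw [hz0 j (Nat.pos_of_ne_zero hj0) (Finset.mem_range.mp hj), map_zero]
  · intro h
    exact absurd (Finset.mem_range.mpr hp) h

end main

/-- Let a finite p-group G act faithfully and irreducibly on a non-trivial finite vector space V over the field with q elements (q prime), and suppose G is not cyclic, generalized quaternion, dihedral or semidihedral. Then G has a subgroup H of index p and V is the direct sum of p subspaces, each invariant under H, on none of which H acts faithfully, and which every element of G outside H permutes in a single p-cycle. -/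
theorem result
    (q : ℕ) [Fact q.Prime] {V : Type*} [AddCommGroup V] [Module (ZMod q) V] [Finite V] [Nontrivial V]
    {G : Type*} [Group G] [Finite G] (p : ℕ) [Fact p.Prime] (hG : IsPGroup p G)
    (ρ : G →* (V ≃ₗ[ZMod q] V)) (hρ : Function.Injective ρ)
    (hirr : ∀ W : Submodule (ZMod q) V, (∀ g : G, ∀ w ∈ W, ρ g w ∈ W) → W = ⊥ ∨ W = ⊤)
    (hnc : ¬ IsCyclic G) (hnq : ∀ n : ℕ, ¬ Nonempty (G ≃* QuaternionGroup n))
    (hnd : ∀ n : ℕ, ¬ Nonempty (G ≃* DihedralGroup n)) (hnsd : ¬ Cfsg.IsQuasiDihedral G) :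
    ∃ (H : Subgroup G) (W : Fin p → Submodule (ZMod q) V), H.index = p ∧
      iSup W = ⊤ ∧ iSupIndep W ∧
      (∀ h ∈ H, ∀ i, ∀ w ∈ W i, ρ h w ∈ W i) ∧
      (∀ i, ∃ h ∈ H, h ≠ 1 ∧ ∀ w ∈ W i, ρ h w = w) ∧
      ∀ g : G, g ∉ H → ∃ σ : Equiv.Perm (Fin p), orderOf σ = p ∧ ∀ i, (W i).map (ρ g : V →ₗ[ZMod q] V) = W (σ i) := by
  classical
  have hpp := (Fact.out : p.Prime)
  have hqq := (Fact.out : q.Prime)
  haveI : NeZero p := ⟨hpp.ne_zero⟩
  -- Step 1: a noncyclic normal abelian subgroup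
  have hA : ∃ A : Subgroup G, A.Normal ∧ (∀ x ∈ A, ∀ y ∈ A, x * y = y * x) ∧ ¬ IsCyclic A := by
    by_contra hcon
    push Not at hcon
    obtain ⟨-, h⟩ := classify p hG hcon hnc
    rcases h with ⟨n, hn⟩ | ⟨n, -, hn⟩ | h
    · exact hnq n hn
    · exact hnd n hn
    · exact hnsd h
  obtain ⟨A, hAn, hAc, hAnc⟩ := hA
  obtain ⟨z, x, hzc, hz1, hzp, hxp, hxz, hconj⟩ := exists_pair p hG A hAn hAc hAnc
  have hzc' : ∀ g : G, g * z = z * g := fun g => Subgroup.mem_center_iff.mp hzc g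
  have hoz : orderOf z = p := orderOf_eq_prime hzp hz1
  -- central nontrivial elements are fixed point free
  have hfix0 : ∀ c : G, (∀ g : G, g * c = c * g) → c ≠ 1 → ∀ v : V, ρ c v = v → v = 0 := by
    intro c hc hc1 v hv
    have hinv : ∀ g : G, ∀ w ∈ fixSub ρ c, ρ g w ∈ fixSub ρ c := by
      intro g w hw
      rw [mem_fixSub] at hw ⊢
      rw [← rho_mul, ← hc g, rho_mul, hw]
    rcases hirr (fixSub ρ c) hinv with h | h
    · have : v ∈ fixSub ρ c := (mem_fixSub ρ c v).mpr hv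
      rw [h] at this
      exact (Submodule.mem_bot _).mp this
    · exfalso
      apply hc1
      apply hρ
      rw [map_one]
      ext w
      have : w ∈ fixSub ρ c := by rw [h]; trivial
      simpa using (mem_fixSub ρ c w).mp this
  have hzpow_c : ∀ d : ℕ, ∀ g : G, g * z ^ d = z ^ d * g :=
    fun d g => (Commute.pow_right (hzc' g) d).eq
  have hzpow_ne : ∀ d : ℕ, ¬ p ∣ d → z ^ d ≠ 1 := by
    intro d hd h
    apply hd
    rw [← hoz]
    exact orderOf_dvd_of_pow_eq_one h
  have hzpow_p : ∀ d : ℕ, (z ^ d) ^ p = 1 := by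
    intro d
    rw [← pow_mul, mul_comm, pow_mul, hzp, one_pow]
  have hz0 : ∀ d : ℕ, ¬ p ∣ d → ∀ v : V, nrm ρ p (z ^ d) v = 0 := by
    intro d hd v
    exact nrm_eq_zero ρ p (z ^ d) (hzpow_p d) (hfix0 (z ^ d) (hzpow_c d) (hzpow_ne d hd)) v
  have hzmod : ∀ n : ℕ, z ^ (n % p) = z ^ n := by
    intro n
    conv_rhs => rw [← Nat.mod_add_div n p]
    rw [pow_add, pow_mul, hzp, one_pow, mul_one]
  -- q ≠ p
  have hqp : q ≠ p := by
    intro hqp
    subst hqp
    letI : MulAction G V := MulAction.compHom V ρ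
    have hsm : ∀ (g : G) (v : V), g • v = ρ g v := fun g v => rfl
    have hmod := hG.card_modEq_card_fixedPoints V
    have hfp : Nat.card (MulAction.fixedPoints G V) = 1 := by
      rw [Nat.card_eq_one_iff_unique]
      refine ⟨⟨?_⟩, ⟨⟨0, ?_⟩⟩⟩
      · rintro ⟨a, ha⟩ ⟨b, hb⟩
        apply Subtype.ext
        have ha0 : a = 0 := hfix0 z hzc' hz1 a (by rw [← hsm]; exact ha z)
        have hb0 : b = 0 := hfix0 z hzc' hz1 b (by rw [← hsm]; exact hb z)
        simp [ha0, hb0]
      · intro g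
        rw [hsm, map_zero]
    rw [hfp] at hmod
    obtain ⟨v, hv⟩ := exists_ne (0 : V)
    have hqv : q • v = 0 := by
      rw [← Nat.cast_smul_eq_nsmul (ZMod q), ZMod.natCast_self, zero_smul]
    have hord : addOrderOf v = q := addOrderOf_eq_prime hqv hv
    have hdvd : q ∣ Nat.card V := hord ▸ addOrderOf_dvd_natCard v
    have h0 : Nat.card V % q = 0 := Nat.mod_eq_zero_of_dvd hdvd
    have h1 : Nat.card V % q = 1 % q := hmod
    rw [h0, Nat.mod_eq_of_lt hqq.one_lt] at h1
    exact absurd h1 (by norm_num)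
  have hpu : (p : ZMod q) ≠ 0 := by
    intro h
    rw [ZMod.natCast_eq_zero_iff] at h
    exact hqp ((Nat.prime_dvd_prime_iff_eq hqq hpp).mp h)
  have hpv : ∀ v : V, p • v = 0 → v = 0 := by
    intro v hv
    rw [← Nat.cast_smul_eq_nsmul (ZMod q)] at hv
    exact (smul_eq_zero.mp hv).resolve_left hpu
  have hxzc : Commute x z := hzc' x
  have ha_p : ∀ i : ℕ, (x * z ^ i) ^ p = 1 := by
    intro i
    rw [(hxzc.pow_right i).mul_pow, hxp, hzpow_p, one_mul]
  have ha_ne : ∀ i : ℕ, x * z ^ i ≠ 1 := by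
    intro i h
    apply hxz
    have : x = (z ^ i)⁻¹ := eq_inv_of_mul_eq_one_left h
    rw [this]
    exact inv_mem (Subgroup.pow_mem _ (Subgroup.mem_zpowers z) i)
  set W : Fin p → Submodule (ZMod q) V := fun i => fixSub ρ (x * z ^ (i : ℕ)) with hW
  have hWm : ∀ (i : Fin p) (v : V), v ∈ W i ↔ ρ (x * z ^ (i : ℕ)) v = v :=
    fun i v => mem_fixSub ρ _ v
  have hsup : iSup W = ⊤ := by
    rw [eq_top_iff]
    intro v _
    have hsum := sum_nrm ρ p hpp.pos x z hxzc
      (fun j hj0 hjp => hz0 j (Nat.not_dvd_of_pos_of_lt hj0 hjp)) v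
    have hmem : p • v ∈ iSup W := by
      rw [← hsum]
      apply Submodule.sum_mem
      intro i hi
      have hi' := Finset.mem_range.mp hi
      have : nrm ρ p (x * z ^ i) v ∈ W ⟨i, hi'⟩ := by
        rw [hWm]
        exact rho_nrm ρ p _ (ha_p i) _
      exact Submodule.mem_iSup_of_mem ⟨i, hi'⟩ this
    have : v = ((p : ZMod q))⁻¹ • (p • v) := by
      rw [← Nat.cast_smul_eq_nsmul (ZMod q), smul_smul, inv_mul_cancel₀ hpu, one_smul]
    rw [this]
    exact Submodule.smul_mem _ _ hmem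
  have hcross : ∀ j i : Fin p, j ≠ i → ∀ w ∈ W j, nrm ρ p (x * z ^ (i : ℕ)) w = 0 := by
    intro j i hji w hw
    have hw' : ρ (x * z ^ (j : ℕ)) w = w := (hWm j w).mp hw
    have hjp : (j : ℕ) < p := j.2
    have hip : (i : ℕ) < p := i.2
    have hne : (j : ℕ) ≠ (i : ℕ) := fun h => hji (Fin.ext h)
    obtain ⟨d, hd⟩ : ∃ d : ℕ, d = (i : ℕ) + (p - (j : ℕ)) := ⟨_, rfl⟩
    have hnd : ¬ p ∣ d := by
      rintro ⟨k, hk⟩
      rcases k with _ | _ | k
      · simp at hk; omega
      · simp at hk; omega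
      · have : p * (k + 1 + 1) ≥ 2 * p := by nlinarith
        omega
    have heq : x * z ^ (i : ℕ) = z ^ d * (x * z ^ (j : ℕ)) := by
      rw [← hzpow_c d (x * z ^ (j : ℕ)), mul_assoc, ← pow_add]
      congr 1
      have : (j : ℕ) + d = (i : ℕ) + p := by omega
      rw [this, pow_add, hzp, mul_one]
    rw [nrm_apply]
    have hterm : ∀ k ∈ Finset.range p, ρ ((x * z ^ (i : ℕ)) ^ k) w = ρ ((z ^ d) ^ k) w := by
      intro k _
      rw [heq, (show Commute (z ^ d) (x * z ^ (j : ℕ)) from (hzpow_c d _).symm).mul_pow, rho_mul,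
        rho_pow_fix ρ _ w hw' k]
    rw [Finset.sum_congr rfl hterm, ← nrm_apply]
    exact hz0 d hnd w
  have hind : iSupIndep W := by
    rw [iSupIndep_def]
    intro i
    rw [Submodule.disjoint_def]
    intro v hvi hvs
    apply hpv
    have h1 : nrm ρ p (x * z ^ (i : ℕ)) v = p • v := nrm_fix ρ p _ v ((hWm i v).mp hvi)
    have h2 : (⨆ j, ⨆ (_ : j ≠ i), W j) ≤ LinearMap.ker (nrm ρ p (x * z ^ (i : ℕ))) := by
      apply iSup₂_le
      intro j hji w hw
      rw [LinearMap.mem_ker]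
      exact hcross j i hji w hw
    rw [← h1]
    exact LinearMap.mem_ker.mp (h2 hvs)
  set H : Subgroup G := Subgroup.centralizer ({x} : Set G) with hH
  have hHm : ∀ g : G, g ∈ H ↔ x * g = g * x := by
    intro g
    rw [hH, Subgroup.mem_centralizer_iff]
    simp
  have hcomm : ∀ h ∈ H, ∀ i : ℕ, (x * z ^ i) * h = h * (x * z ^ i) := by
    intro h hh i
    rw [mul_assoc, ← hzpow_c i h, ← mul_assoc, (hHm h).mp hh, mul_assoc]
  have hinvH : ∀ h ∈ H, ∀ i, ∀ w ∈ W i, ρ h w ∈ W i := by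
    intro h hh i w hw
    rw [hWm] at hw ⊢
    rw [← rho_mul, hcomm h hh, rho_mul, hw]
  have hxH : ∀ i : ℕ, x * z ^ i ∈ H := by
    intro i
    rw [hHm, mul_assoc x (z ^ i) x, ← (hxzc.pow_right i).eq]
  -- H is proper
  have hHtop : H ≠ ⊤ := by
    intro htop
    have hall : ∀ i : Fin p, W i = ⊥ := by
      intro i
      have hinv : ∀ g : G, ∀ w ∈ W i, ρ g w ∈ W i := fun g w hw => hinvH g (htop ▸ Subgroup.mem_top g) i w hw
      rcases hirr (W i) hinv with h | h
      · exact h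
      · exfalso
        apply ha_ne (i : ℕ)
        apply hρ
        rw [map_one]
        ext w
        have : w ∈ W i := by rw [h]; trivial
        simpa using (hWm i w).mp this
    have : iSup W = ⊥ := by
      rw [iSup_eq_bot]
      exact hall
    rw [this] at hsup
    exact bot_ne_top hsup
  -- the index of H is at most p
  have hidx_le : H.index ≤ p := by
    rw [Subgroup.index_eq_card]
    have key : ∀ Q : G ⧸ H, ∃ c : Fin p, Q.out * x * Q.out⁻¹ = x * z ^ (c : ℕ) := by
      intro Q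
      obtain ⟨c, hc⟩ := hconj Q.out
      refine ⟨⟨c % p, Nat.mod_lt _ hpp.pos⟩, ?_⟩
      rw [hc]
      simp only []
      rw [hzmod]
    choose cf hcf using key
    have hinj : Function.Injective cf := by
      intro Q1 Q2 h
      have h1 := hcf Q1
      have h2 := hcf Q2
      rw [h] at h1
      have h3 : Q1.out * x * Q1.out⁻¹ = Q2.out * x * Q2.out⁻¹ := h1.trans h2.symm
      have h4 : Q1.out⁻¹ * Q2.out ∈ H := by
        rw [hHm]
        calc x * (Q1.out⁻¹ * Q2.out) = Q1.out⁻¹ * (Q1.out * x * Q1.out⁻¹) * Q2.out := by group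
          _ = Q1.out⁻¹ * (Q2.out * x * Q2.out⁻¹) * Q2.out := by rw [h3]
          _ = Q1.out⁻¹ * Q2.out * x := by group
      rw [← QuotientGroup.out_eq' Q1, ← QuotientGroup.out_eq' Q2]
      exact QuotientGroup.eq.mpr h4
    calc Nat.card (G ⧸ H) ≤ Nat.card (Fin p) := Nat.card_le_card_of_injective cf hinj
      _ = p := Nat.card_fin p
  have hidx : H.index = p := by
    obtain ⟨n, hn⟩ := IsPGroup.iff_card.mp hG
    have hdvd : H.index ∣ p ^ n := hn ▸ Subgroup.index_dvd_card H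
    obtain ⟨k, -, hk⟩ := (Nat.dvd_prime_pow hpp).mp hdvd
    rcases k with _ | _ | k
    · exfalso
      rw [pow_zero] at hk
      exact hHtop (Subgroup.index_eq_one.mp hk)
    · rw [hk]; simp
    · exfalso
      have : p ^ (k + 1 + 1) ≥ p * p := by
        rw [pow_succ, pow_succ]
        have : 1 ≤ p ^ k := Nat.one_le_pow _ _ hpp.pos
        nlinarith
      have h2 := hpp.two_le
      nlinarith
  refine ⟨H, W, hidx, hsup, hind, hinvH, ?_, ?_⟩
  · intro i
    exact ⟨x * z ^ (i : ℕ), hxH i, ha_ne i, fun w hw => (hWm i w).mp hw⟩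
  · intro g hg
    obtain ⟨c, hc⟩ := hconj g
    have hc0 : c % p ≠ 0 := by
      intro h0
      apply hg
      rw [hHm]
      have : z ^ c = 1 := by rw [← hzmod, h0, pow_zero]
      rw [this, mul_one] at hc
      calc x * g = (g * x * g⁻¹) * g := by rw [hc]
        _ = g * x := by group
    let c' : Fin p := ⟨c % p, Nat.mod_lt _ hpp.pos⟩
    have hc'0 : c' ≠ 0 := by
      intro h
      apply hc0
      have := congrArg Fin.val h
      simpa [c'] using this
    let σ : Equiv.Perm (Fin p) := Equiv.addRight c'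
    have hσ : ∀ i : Fin p, σ i = i + c' := fun i => rfl
    refine ⟨σ, ?_, ?_⟩
    · apply orderOf_eq_prime
      · show Equiv.addRight c' ^ p = 1
        have h0 : p • c' = 0 := by
          have := card_nsmul_eq_zero' (G := Fin p) (x := c')
          rwa [Nat.card_fin] at this
        rw [Equiv.nsmul_addRight, h0, Equiv.addRight_zero]
      · intro h
        apply hc'0
        have := congrArg (fun τ : Equiv.Perm (Fin p) => τ 0) h
        simpa [σ] using this
    · have hkey : ∀ i : Fin p, (x * z ^ ((σ i : Fin p) : ℕ)) * g = g * (x * z ^ (i : ℕ)) := by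
        intro i
        have hv : ((σ i : Fin p) : ℕ) = ((i : ℕ) + c % p) % p := by
          rw [hσ, Fin.val_add]
        have hz' : z ^ ((σ i : Fin p) : ℕ) = z ^ c * z ^ (i : ℕ) := by
          rw [hv, hzmod, pow_add, hzmod]
          exact ((Commute.refl z).pow_pow _ _).eq
        rw [hz']
        calc x * (z ^ c * z ^ (i : ℕ)) * g = (x * z ^ c) * (z ^ (i : ℕ) * g) := by group
          _ = (g * x * g⁻¹) * (g * z ^ (i : ℕ)) := by rw [hc, hzpow_c (i : ℕ) g]
          _ = g * (x * z ^ (i : ℕ)) := by group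
      intro i
      ext v
      rw [Submodule.mem_map]
      constructor
      · rintro ⟨w, hw, rfl⟩
        rw [hWm]
        rw [LinearEquiv.coe_coe, ← rho_mul, hkey i, rho_mul, (hWm i w).mp hw]
      · intro hv
        refine ⟨ρ g⁻¹ v, ?_, ?_⟩
        · rw [hWm]
          have hk2 : (x * z ^ (i : ℕ)) * g⁻¹ = g⁻¹ * (x * z ^ ((σ i : Fin p) : ℕ)) := by
            have := hkey i
            calc (x * z ^ (i : ℕ)) * g⁻¹ = g⁻¹ * (g * (x * z ^ (i : ℕ))) * g⁻¹ := by group
              _ = g⁻¹ * ((x * z ^ ((σ i : Fin p) : ℕ)) * g) * g⁻¹ := by rw [this]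
              _ = _ := by group
          rw [← rho_mul, hk2, rho_mul, (hWm (σ i) v).mp hv]
        · rw [LinearEquiv.coe_coe, ← rho_mul, mul_inv_cancel, map_one]
          rfl

end Cfsg.Agent.S3380
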