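import Cfsg.Statements.S3381

set_option autoImplicit false
open Cfsg

namespace Cfsg.Agent.S3381

section aux

variable {q : ℕ} [Fact q.Prime] {V : Type*} [AddCommGroup V] [Module (ZMod q) V] [Finite V]
  {G : Type*} [Group G] [Finite G] (ρ : G →* (V ≃ₗ[ZMod q] V))

/-- the unique nontrivial element of the stabilizer -/
theorem key (hstab : ∀ v : V, v ≠ 0 → Nat.card {g : G // ρ g v = v} = 2) (v : V) (hv : v ≠ 0) :
    ∃ t : G, t ≠ 1 ∧ ρ t v = v ∧ ∀ g, ρ g v = v → g = 1 ∨ g = t := by
  have h2 := hstab v hv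
  have h1 : ρ 1 v = v := by simp
  rw [Nat.card_eq_two_iff' (⟨1, h1⟩ : {g : G // ρ g v = v})] at h2
  obtain ⟨⟨t, ht⟩, ht1, huniq⟩ := h2
  refine ⟨t, fun h => ht1 (Subtype.ext h), ht, ?_⟩
  intro g hg
  by_cases hg1 : g = 1
  · left; exact hg1
  · right
    have := huniq ⟨g, hg⟩ (fun h => hg1 (by simpa using congrArg Subtype.val h))
    simpa using congrArg Subtype.val this

theorem key_order (hstab : ∀ v : V, v ≠ 0 → Nat.card {g : G // ρ g v = v} = 2) (v : V) (hv : v ≠ 0)
    (t : G) (ht1 : t ≠ 1) (ht : ρ t v = v) : orderOf t = 2 := by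
  obtain ⟨s, hs1, hs, huniq⟩ := key ρ hstab v hv
  have hts : t = s := (huniq t ht).resolve_left ht1
  have h2 : ρ (t * t) v = v := by
    rw [map_mul]
    simp [ht]
  have h3 : t * t = 1 := by
    rcases huniq (t * t) h2 with h | h
    · exact h
    · exfalso
      apply ht1
      have : t * t = t := by rw [h, hts]
      simpa using this
  exact orderOf_eq_prime (by rw [pow_two]; exact h3) ht1

/-- a central involution acts as `±1` on each vector -/
theorem central_pm (hstab : ∀ v : V, v ≠ 0 → Nat.card {g : G // ρ g v = v} = 2)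
    (z : G) (hz : orderOf z = 2) (hzc : z ∈ Subgroup.center G) (w : V) :
    ρ z w = w ∨ ρ z w = -w := by
  by_cases hw : w = 0
  · left; simp [hw]
  obtain ⟨t, ht1, ht, huniq⟩ := key ρ hstab w hw
  have hz1 : z ≠ 1 := by
    intro h; rw [h, orderOf_one] at hz; omega
  have hzz : z * z = 1 := by
    have := pow_orderOf_eq_one z
    rw [hz, pow_two] at this; exact this
  have hcomm : t * z = z * t := (Subgroup.mem_center_iff.mp hzc t)
  set u := w + ρ z w with hu
  have htu : ρ t u = u := by
    rw [hu, map_add, ht]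
    congr 1
    have : ρ t (ρ z w) = ρ (t * z) w := by rw [map_mul]; rfl
    rw [this, hcomm, map_mul]
    show ρ z (ρ t w) = ρ z w
    rw [ht]
  have hzu : ρ z u = u := by
    rw [hu, map_add]
    have : ρ z (ρ z w) = ρ (z * z) w := by rw [map_mul]; rfl
    rw [this, hzz, map_one]
    show ρ z w + w = w + ρ z w
    abel
  by_cases hu0 : u = 0
  · right
    rw [hu] at hu0
    exact (eq_neg_of_add_eq_zero_right hu0)
  · left
    obtain ⟨s, hs1, hs, huniq'⟩ := key ρ hstab u hu0
    have h1 : z = s := (huniq' z hzu).resolve_left hz1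
    have h2 : t = s := (huniq' t htu).resolve_left ht1
    rw [h1, ← h2]; exact ht

theorem q_ne_two [Nontrivial V] (hρ : Function.Injective ρ)
    (hstab : ∀ v : V, v ≠ 0 → Nat.card {g : G // ρ g v = v} = 2)
    (z : G) (hz : orderOf z = 2) (hzc : z ∈ Subgroup.center G) : q ≠ 2 := by
  intro hq
  subst hq
  have hall : ∀ w, ρ z w = w := by
    intro w
    rcases central_pm ρ hstab z hz hzc w with h | h
    · exact h
    · rw [h]
      have h2 : w + w = 0 := by
        have h3 : ((1 : ZMod 2) + 1) • w = 0 := by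
          have h0 : ((1 : ZMod 2) + 1) = 0 := CharTwo.add_self_eq_zero 1
          rw [h0, zero_smul]
        rwa [add_smul, one_smul] at h3
      exact (eq_neg_of_add_eq_zero_left h2).symm
  have h1 : ρ z = 1 := by
    ext w; exact hall w
  have h2 : z = 1 := hρ (by rw [h1, map_one])
  rw [h2, orderOf_one] at hz; omega

omit [Finite V] in
theorem double_zero (hq : q ≠ 2) (v : V) (h : v + v = 0) : v = 0 := by
  have h2 : (2 : ZMod q) ≠ 0 := by
    intro h
    have h3 : ((2 : ℕ) : ZMod q) = 0 := by exact_mod_cast h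
    rw [ZMod.natCast_eq_zero_iff] at h3
    have h4 := Nat.le_of_dvd (by norm_num) h3
    have h5 := (Fact.out : q.Prime).two_le
    omega
  have h3 : (2 : ZMod q) • v = 0 := by rw [two_smul]; exact h
  exact (smul_eq_zero.mp h3).resolve_left h2

theorem central_neg [Nontrivial V] (hρ : Function.Injective ρ)
    (hstab : ∀ v : V, v ≠ 0 → Nat.card {g : G // ρ g v = v} = 2)
    (z : G) (hz : orderOf z = 2) (hzc : z ∈ Subgroup.center G) (w : V) : ρ z w = -w := by
  have hq := q_ne_two ρ hρ hstab z hz hzc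
  by_contra hne
  have hw : ρ z w = w := (central_pm ρ hstab z hz hzc w).resolve_right hne
  have hall : ∀ b, ρ z b = b := by
    intro b
    by_contra hb
    have hb' : ρ z b = -b := (central_pm ρ hstab z hz hzc b).resolve_left hb
    rcases central_pm ρ hstab z hz hzc (w + b) with h | h
    · rw [map_add, hw, hb'] at h
      have h1 : -b = b := add_left_cancel h
      have h2 : b + b = 0 := by
        nth_rewrite 1 [← h1]; simp
      have h3 := double_zero hq b h2
      apply hb; rw [h3]; simp
    · rw [map_add, hw, hb'] at h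
      have h2 : w + w = 0 := by
        have h3 : w + -b + (w + b) = 0 := by rw [h]; simp
        have h4 : w + -b + (w + b) = w + w := by abel
        rw [← h4]; exact h3
      have h3 := double_zero hq w h2
      apply hne; rw [h3]; simp
  have h1 : ρ z = 1 := by
    ext w; exact hall w
  have h2 : z = 1 := hρ (by rw [h1, map_one])
  rw [h2, orderOf_one] at hz; omega

/-- fixed space of `t` -/
noncomputable def Fx (t : G) : Submodule (ZMod q) V :=
  LinearMap.eqLocus ((ρ t : V ≃ₗ[ZMod q] V) : V →ₗ[ZMod q] V) LinearMap.id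

omit [Finite V] [Finite G] in
theorem mem_Fx (t : G) (v : V) : v ∈ Fx ρ t ↔ ρ t v = v := by
  unfold Fx
  rw [LinearMap.mem_eqLocus]
  rfl

omit [Finite V] [Finite G] in
theorem add_inj (t s : G) (h : ∀ v, ρ t v = v → ρ s v = v → v = 0) :
    Function.Injective (fun p : Fx ρ t × Fx ρ s => (p.1 : V) + (p.2 : V)) := by
  rintro ⟨⟨a, ha⟩, ⟨b, hb⟩⟩ ⟨⟨a', ha'⟩, ⟨b', hb'⟩⟩ hab
  simp only at hab
  rw [mem_Fx] at ha hb ha' hb'
  have hx : a - a' = b' - b := by
    have h1 : a - a' = (a + b) - (a' + b) := by abel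
    rw [h1, hab]; abel
  have h0 : a - a' = 0 := by
    apply h
    · rw [map_sub, ha, ha']
    · rw [hx, map_sub, hb, hb']
  have h1 : a = a' := sub_eq_zero.mp h0
  have h2 : b = b' := by
    have : b' - b = 0 := by rw [← hx]; exact h0
    exact (sub_eq_zero.mp this).symm
  subst h1; subst h2; rfl

theorem card_mul_le (t s : G) (h : ∀ v, ρ t v = v → ρ s v = v → v = 0) :
    Nat.card (Fx ρ t) * Nat.card (Fx ρ s) ≤ Nat.card V := by
  rw [← Nat.card_prod]
  exact Nat.card_le_card_of_injective _ (add_inj ρ t s h)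

theorem card_mul_eq (hq : q ≠ 2) (t z : G) (htt : t * t = 1) (hzneg : ∀ w, ρ z w = -w) :
    Nat.card (Fx ρ t) * Nat.card (Fx ρ (t * z)) = Nat.card V := by
  have htz : ∀ v, ρ (t * z) v = - ρ t v := by
    intro v
    rw [map_mul]
    show ρ t (ρ z v) = _
    rw [hzneg, map_neg]
  have htt' : ∀ v, ρ t (ρ t v) = v := by
    intro v
    have : ρ t (ρ t v) = ρ (t * t) v := by rw [map_mul]; rfl
    rw [this, htt, map_one]; rfl
  have hdisj : ∀ v, ρ t v = v → ρ (t * z) v = v → v = 0 := by
    intro v h1 h2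
    rw [htz, h1] at h2
    apply double_zero hq
    nth_rewrite 1 [← h2]; simp
  rw [← Nat.card_prod]
  refine Nat.card_congr (Equiv.ofBijective _ ⟨add_inj ρ t (t * z) hdisj, ?_⟩)
  intro v
  have h2 : (2 : ZMod q) ≠ 0 := by
    intro h
    have h3 : ((2 : ℕ) : ZMod q) = 0 := by exact_mod_cast h
    rw [ZMod.natCast_eq_zero_iff] at h3
    have h4 := Nat.le_of_dvd (by norm_num) h3
    have h5 := (Fact.out : q.Prime).two_le
    omega
  refine ⟨⟨⟨(2 : ZMod q)⁻¹ • (v + ρ t v), ?_⟩, ⟨(2 : ZMod q)⁻¹ • (v - ρ t v), ?_⟩⟩, ?_⟩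
  · rw [mem_Fx, map_smul, map_add, htt', add_comm]
  · rw [mem_Fx, htz, map_smul, map_sub, htt', ← smul_neg, neg_sub]
  · show (2 : ZMod q)⁻¹ • (v + ρ t v) + (2 : ZMod q)⁻¹ • (v - ρ t v) = v
    rw [← smul_add]
    have : v + ρ t v + (v - ρ t v) = (2 : ZMod q) • v := by rw [two_smul]; abel
    rw [this, smul_smul, inv_mul_cancel₀ h2, one_smul]

end aux

theorem result
    (q : ℕ) [Fact q.Prime] {V : Type*} [AddCommGroup V] [Module (ZMod q) V] [Finite V] [Nontrivial V]
    {G : Type*} [Group G] [Finite G] (ρ : G →* (V ≃ₗ[ZMod q] V)) (hρ : Function.Injective ρ)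
    (hstab : ∀ v : V, v ≠ 0 → Nat.card {g : G // ρ g v = v} = 2)
    (z : G) (hz : orderOf z = 2) (hzc : z ∈ Subgroup.center G) :
    ∃ r : ℕ, Nat.card V = q ^ (2 * r) ∧
      Nat.card {g : G // orderOf g = 2 ∧ g ∉ Subgroup.center G} = q ^ r + 1 := by
  classical
  haveI : Fintype G := Fintype.ofFinite G
  haveI : Fintype V := Fintype.ofFinite V
  have hq := q_ne_two ρ hρ hstab z hz hzc
  have hzneg := central_neg ρ hρ hstab z hz hzc
  have hz1 : z ≠ 1 := by
    intro h; rw [h, orderOf_one] at hz; omega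
  have hzz : z * z = 1 := by
    have := pow_orderOf_eq_one z
    rw [hz, pow_two] at this; exact this
  have sq_of_order : ∀ g : G, orderOf g = 2 → g * g = 1 := by
    intro g hg
    have := pow_orderOf_eq_one g
    rw [hg, pow_two] at this; exact this
  have ne_one_of_order : ∀ g : G, orderOf g = 2 → g ≠ 1 := by
    intro g hg h; rw [h, orderOf_one] at hg; omega
  -- non-central involutions are the involutions other than z
  have hcen : ∀ g : G, orderOf g = 2 → (g ∉ Subgroup.center G ↔ g ≠ z) := by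
    intro g hg
    constructor
    · intro h1 h2; exact h1 (h2 ▸ hzc)
    · intro h1 h2
      apply h1
      apply hρ
      ext w
      rw [central_neg ρ hρ hstab g hg h2 w, hzneg w]
  set I : Finset G := Finset.univ.filter (fun g => orderOf g = 2 ∧ g ≠ z) with hI
  have memI : ∀ g, g ∈ I ↔ orderOf g = 2 ∧ g ≠ z := by
    intro g; rw [hI, Finset.mem_filter]; simp
  have hIcard : Nat.card {g : G // orderOf g = 2 ∧ g ∉ Subgroup.center G} = I.card := by
    apply Nat.subtype_card
    intro g
    rw [memI]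
    constructor
    · rintro ⟨h1, h2⟩; exact ⟨h1, (hcen g h1).mpr h2⟩
    · rintro ⟨h1, h2⟩; exact ⟨h1, (hcen g h1).mp h2⟩
  rw [hIcard]
  -- t ↦ t z on I
  have mulz_mem : ∀ t ∈ I, t * z ∈ I := by
    intro t ht
    rw [memI] at ht ⊢
    have htz : t * z = z * t := Subgroup.mem_center_iff.mp hzc t
    have hne1 : t * z ≠ 1 := by
      intro h
      apply ht.2
      have h2 : t * z = z * z := by rw [h, hzz]
      exact mul_right_cancel h2
    refine ⟨orderOf_eq_prime ?_ hne1, ?_⟩
    · rw [pow_two]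
      calc t * z * (t * z) = t * z * (z * t) := by rw [htz]
        _ = t * (z * z) * t := by group
        _ = 1 := by rw [hzz, mul_one, sq_of_order t ht.1]
    · intro h
      apply ne_one_of_order t ht.1
      have : t * z = 1 * z := by rw [h, one_mul]
      exact mul_right_cancel this
  have mulz_ne : ∀ t : G, t * z ≠ t := by
    intro t h
    apply hz1
    have : t * z = t * 1 := by rw [h, mul_one]
    exact mul_left_cancel this
  have mulz_mulz : ∀ t : G, t * z * z = t := by
    intro t; rw [mul_assoc, hzz, mul_one]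
  -- the function τ
  set c : G → ℕ := fun t => Nat.card (Fx ρ t) with hc
  have hcpos : ∀ t, 1 ≤ c t := by
    intro t
    exact Nat.one_le_iff_ne_zero.mpr (Nat.card_pos).ne'
  set N := Nat.card V with hN
  have hN1 : 1 < N := Finite.one_lt_card
  have hprod : ∀ t ∈ I, c t * c (t * z) = N := by
    intro t ht
    exact card_mul_eq ρ hq t z (sq_of_order t ((memI t).mp ht).1) hzneg
  have hdisj : ∀ t ∈ I, ∀ s ∈ I, t ≠ s → ∀ v, ρ t v = v → ρ s v = v → v = 0 := by
    intro t ht s hs hts v h1 h2
    by_contra hv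
    obtain ⟨u, hu1, hu, huniq⟩ := key ρ hstab v hv
    have e1 := (huniq t h1).resolve_left (ne_one_of_order t ((memI t).mp ht).1)
    have e2 := (huniq s h2).resolve_left (ne_one_of_order s ((memI s).mp hs).1)
    exact hts (e1.trans e2.symm)
  have hle : ∀ t ∈ I, ∀ s ∈ I, t ≠ s → c t * c s ≤ N := by
    intro t ht s hs hts
    exact card_mul_le ρ t s (hdisj t ht s hs hts)
  -- the counting identity
  have hcount : N - 1 = ∑ t ∈ I, (c t - 1) := by
    set τ : V → G := fun v => if h : v ≠ 0 then Classical.choose (key ρ hstab v h) else 1 with hτ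
    have τspec : ∀ v (h : v ≠ 0), τ v ≠ 1 ∧ ρ (τ v) v = v ∧ ∀ g, ρ g v = v → g = 1 ∨ g = τ v := by
      intro v h
      have := Classical.choose_spec (key ρ hstab v h)
      simp only [hτ, dif_pos h]
      exact this
    have τI : ∀ v, v ≠ 0 → τ v ∈ I := by
      intro v h
      obtain ⟨h1, h2, h3⟩ := τspec v h
      rw [memI]
      refine ⟨key_order ρ hstab v h (τ v) h1 h2, ?_⟩
      intro hh
      rw [hh, hzneg] at h2
      apply h
      apply double_zero hq
      nth_rewrite 1 [← h2]; simp
    have h1 : (Finset.univ.erase (0 : V)).card = N - 1 := by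
      rw [Finset.card_erase_of_mem (Finset.mem_univ _), Finset.card_univ, hN, Nat.card_eq_fintype_card]
    rw [← h1]
    rw [Finset.card_eq_sum_card_fiberwise (f := τ) (t := I)
      (fun v hv => τI v (Finset.ne_of_mem_erase hv))]
    apply Finset.sum_congr rfl
    intro t ht
    have h2 : (Finset.univ.erase (0 : V)).filter (fun v => τ v = t)
        = (Finset.univ.filter (fun v => v ∈ Fx ρ t)).erase 0 := by
      ext v
      simp only [Finset.mem_filter, Finset.mem_erase, Finset.mem_univ, and_true, true_and]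
      constructor
      · rintro ⟨hv, hτv⟩
        refine ⟨hv, ?_⟩
        rw [mem_Fx, ← hτv]
        exact (τspec v hv).2.1
      · rintro ⟨hv, hvt⟩
        refine ⟨hv, ?_⟩
        rw [mem_Fx] at hvt
        exact (((τspec v hv).2.2 t hvt).resolve_left
          (ne_one_of_order t ((memI t).mp ht).1)).symm
    rw [h2, Finset.card_erase_of_mem (by simp)]
    congr 1
    rw [hc]
    simp only
    exact (Nat.subtype_card (p := fun v => v ∈ Fx ρ t)
      (Finset.univ.filter (fun v => v ∈ Fx ρ t)) (by simp)).symm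
  -- I nonempty
  obtain ⟨v0, hv0⟩ := exists_ne (0 : V)
  obtain ⟨t0, ht01, ht0, -⟩ := key ρ hstab v0 hv0
  have ht0I : t0 ∈ I := by
    rw [memI]
    refine ⟨key_order ρ hstab v0 hv0 t0 ht01 ht0, ?_⟩
    intro hh
    rw [hh, hzneg] at ht0
    apply hv0
    apply double_zero hq
    nth_rewrite 1 [← ht0]; simp
  -- Fx t = ⊤ impossible for t ≠ 1
  have hctop : ∀ t, t ≠ 1 → c t ≠ N := by
    intro t ht h
    apply ht
    apply hρ
    ext w
    have h1 : (Fx ρ t).toAddSubgroup = ⊤ := by
      apply (AddSubgroup.card_eq_iff_eq_top _).mp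
      exact h
    have hw : w ∈ (Fx ρ t).toAddSubgroup := by rw [h1]; trivial
    rw [map_one]
    exact (mem_Fx ρ t w).mp hw
  -- third element
  have hthird : ∀ s ∈ I, ∃ t ∈ I, t ≠ s ∧ t ≠ s * z := by
    intro s hs
    by_contra hcon
    push Not at hcon
    have hIeq : I = {s, s * z} := by
      ext t
      simp only [Finset.mem_insert, Finset.mem_singleton]
      constructor
      · intro ht
        by_cases h : t = s
        · left; exact h
        · right; exact hcon t ht h
      · rintro (h | h)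
        · rw [h]; exact hs
        · rw [h]; exact mulz_mem s hs
    rw [hIeq, Finset.sum_pair (mulz_ne s).symm] at hcount
    have h1 := hprod s hs
    have ha := hcpos s
    have hb := hcpos (s * z)
    have h2 : (c s - 1) * (c (s * z) - 1) = 0 := by
      obtain ⟨a, ha'⟩ : ∃ a, c s = a + 1 := ⟨c s - 1, by omega⟩
      obtain ⟨b, hb'⟩ : ∃ b, c (s * z) = b + 1 := ⟨c (s * z) - 1, by omega⟩
      rw [ha', hb'] at h1 hcount ⊢
      simp only [Nat.add_sub_cancel] at hcount ⊢
      have h3 : (a + 1) * (b + 1) = a * b + a + b + 1 := by ring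
      rw [h3] at h1
      have h4 : a * b = 0 := by omega
      exact h4
    rcases Nat.mul_eq_zero.mp h2 with h | h
    · have hcs : c s = 1 := by omega
      rw [hcs, one_mul] at h1
      exact hctop (s * z) (ne_one_of_order _ ((memI _).mp (mulz_mem s hs)).1) h1
    · have hcs : c (s * z) = 1 := by omega
      rw [hcs, mul_one] at h1
      exact hctop s (ne_one_of_order _ ((memI _).mp hs).1) h1
  -- c s ^ 2 = N
  have hsq_le : ∀ s ∈ I, c s * c s ≤ N := by
    intro s hs
    obtain ⟨t, ht, hts, htsz⟩ := hthird s hs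
    have h1 := hle s hs t ht (Ne.symm hts)
    have h2 := hle s hs (t * z) (mulz_mem t ht) (by
      intro h; apply htsz; rw [h, mulz_mulz])
    have h3 := hprod t ht
    have h4 : (c s * c s) * N ≤ N * N := by
      calc (c s * c s) * N = (c s * c t) * (c s * c (t * z)) := by rw [← h3]; ring
        _ ≤ N * N := Nat.mul_le_mul h1 h2
    exact Nat.le_of_mul_le_mul_right h4 (by omega)
  have hsq : ∀ s ∈ I, c s * c s = N := by
    intro s hs
    have h1 := hsq_le s hs
    have h2 := hsq_le (s * z) (mulz_mem s hs)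
    have h3 := hprod s hs
    by_contra hne
    have hlt : c s * c s < N := lt_of_le_of_ne h1 hne
    have h4 : N * N < N * N := by
      calc N * N = (c s * c s) * (c (s * z) * c (s * z)) := by rw [← h3]; ring
        _ < N * N := Nat.mul_lt_mul_of_lt_of_le hlt h2 (by omega)
    exact lt_irrefl _ h4
  -- powers
  set r := Module.finrank (ZMod q) (Fx ρ t0) with hr
  have hct0 : c t0 = q ^ r := by
    rw [hc]
    simp only
    rw [Module.natCard_eq_pow_finrank (K := ZMod q), Nat.card_zmod]
  have hNq : N = q ^ (2 * r) := by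
    rw [← hsq t0 ht0I, hct0]; ring
  have hcall : ∀ s ∈ I, c s = q ^ r := by
    intro s hs
    have h1 := hsq s hs
    rw [hNq] at h1
    have h2 : (c s) ^ 2 = (q ^ r) ^ 2 := by rw [pow_two, h1]; ring
    exact Nat.pow_left_injective (by norm_num : 2 ≠ 0) h2
  refine ⟨r, hNq, ?_⟩
  rw [Finset.sum_congr rfl (fun t ht => by rw [hcall t ht]), Finset.sum_const, smul_eq_mul,
    hNq] at hcount
  have hqr : 2 ≤ q ^ r := by
    by_contra h
    have h1 : q ^ r ≤ 1 := by omega
    have h2 : N ≤ 1 := by
      rw [hNq, mul_comm, pow_mul]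
      calc (q ^ r) ^ 2 ≤ 1 ^ 2 := Nat.pow_le_pow_left h1 2
        _ = 1 := by norm_num
    omega
  obtain ⟨m, hm⟩ : ∃ m, q ^ r = m + 1 := ⟨q ^ r - 1, by omega⟩
  have h6 : q ^ (2 * r) = (m + 1) * (m + 1) := by rw [mul_comm, pow_mul, pow_two, hm]
  rw [h6, hm] at hcount
  simp only [Nat.add_sub_cancel] at hcount
  have h5 : (m + 1) * (m + 1) - 1 = (m + 2) * m := by
    have h7 : (m + 1) * (m + 1) = (m + 2) * m + 1 := by ring
    omega
  rw [h5] at hcount
  have hm0 : 0 < m := by omega
  have h8 := Nat.eq_of_mul_eq_mul_right hm0 hcount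
  rw [hm]; omega

end Cfsg.Agent.S3381
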