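import Cfsg.Statements.S3382
-- import your own Cfsg.Agent.* helpers here
import Mathlib

set_option autoImplicit false
open Cfsg

namespace Cfsg.Agent.S3382

theorem odd_two_pow_trivial {Γ : Type*} [Group Γ] {c : Γ} (r k : ℕ) (hr : Odd r) (h1 : c ^ r = 1)
    (h2 : c ^ (2 ^ k) = 1) : c = 1 := by
  have d1 : orderOf c ∣ r := orderOf_dvd_of_pow_eq_one h1
  have d2 : orderOf c ∣ 2 ^ k := orderOf_dvd_of_pow_eq_one h2
  have hc : Nat.Coprime r (2 ^ k) := Nat.Coprime.pow_right k hr.coprime_two_right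
  have d3 : orderOf c ∣ 1 := by
    have := Nat.dvd_gcd d1 d2
    rwa [hc] at this
  exact orderOf_eq_one_iff.mp (Nat.dvd_one.mp d3)

theorem isPGroup_two_mulAut {Γ : Type*} [Group Γ] [Finite Γ]
    (H : ∀ (α : MulAut Γ) (r : ℕ), Odd r → α ^ r = 1 → α = 1) : IsPGroup 2 (MulAut Γ) := by
  intro α
  haveI : Finite (MulAut Γ) := Finite.of_injective (fun f : MulAut Γ => (f : Γ → Γ)) DFunLike.coe_injective
  obtain ⟨k, r, hr, hn⟩ := Nat.exists_eq_two_pow_mul_odd (orderOf_pos α).ne'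
  refine ⟨k, H (α ^ (2 ^ k)) r hr ?_⟩
  rw [← pow_mul, ← hn, pow_orderOf_eq_one]

theorem lemB {Γ : Type*} [Group Γ] (α : MulAut Γ) (r : ℕ) (hr : Odd r) (hαr : α ^ r = 1) :
    ∀ n : ℕ, ∀ A : Subgroup Γ, Nat.card A = n → Finite A →
      (∀ x ∈ A, ∀ y ∈ A, x * y = y * x) → (∀ x ∈ A, ∃ k : ℕ, x ^ (2 ^ k) = 1) →
      (∀ x ∈ A, α x ∈ A) → (∀ x ∈ A, ∃ y ∈ A, α x = x * y ^ 2) → ∀ x ∈ A, α x = x := by
  intro n
  induction n using Nat.strong_induction_on with
  | _ n ih =>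
    intro A hn hfin hcomm h2 hinv hsq
    haveI := hfin
    by_cases htriv : ∀ x ∈ A, x = 1
    · intro x hx
      rw [htriv x hx, map_one]
    · push Not at htriv
      obtain ⟨x0, hx0, hx01⟩ := htriv
      -- an involution in A
      obtain ⟨i, hiA, hi1, hi2⟩ : ∃ i ∈ A, i ≠ 1 ∧ i ^ 2 = 1 := by
        obtain ⟨k, hk⟩ := h2 x0 hx0
        have hex : ∃ k, x0 ^ (2 ^ k) = 1 := ⟨k, hk⟩
        classical
        set k0 := Nat.find hex with hk0
        have hk0s : x0 ^ (2 ^ k0) = 1 := Nat.find_spec hex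
        have hk0pos : k0 ≠ 0 := by
          intro h0
          rw [h0, pow_zero, pow_one] at hk0s
          exact hx01 hk0s
        obtain ⟨j, hj⟩ := Nat.exists_eq_succ_of_ne_zero hk0pos
        refine ⟨x0 ^ (2 ^ j), A.pow_mem hx0 _, ?_, ?_⟩
        · intro hcon
          have := Nat.find_min hex (m := j) (by omega)
          exact this hcon
        · rw [← pow_mul, ← pow_succ]
          rw [hj] at hk0s
          exact hk0s
      -- the subgroup of squares
      let Asq : Subgroup Γ :=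
        { carrier := {x | ∃ y ∈ A, y ^ 2 = x}
          one_mem' := ⟨1, A.one_mem, one_pow 2⟩
          mul_mem' := by
            rintro _ _ ⟨y1, hy1, rfl⟩ ⟨y2, hy2, rfl⟩
            refine ⟨y1 * y2, A.mul_mem hy1 hy2, ?_⟩
            rw [pow_two, pow_two, pow_two]
            calc y1 * y2 * (y1 * y2) = y1 * (y2 * y1) * y2 := by group
              _ = y1 * (y1 * y2) * y2 := by rw [hcomm y2 hy2 y1 hy1]
              _ = y1 * y1 * (y2 * y2) := by group
          inv_mem' := by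
            rintro _ ⟨y, hy, rfl⟩
            exact ⟨y⁻¹, A.inv_mem hy, inv_pow y 2⟩ }
      have hAsq_mem : ∀ x, x ∈ Asq ↔ ∃ y ∈ A, y ^ 2 = x := fun x => Iff.rfl
      have hAsq_le : Asq ≤ A := by
        rintro _ ⟨y, hy, rfl⟩
        exact A.pow_mem hy 2
      -- Asq ≠ A
      have hne : Asq ≠ A := by
        intro heq
        let sq : A → A := fun a => ⟨(a : Γ) ^ 2, A.pow_mem a.2 2⟩
        have hsurj : Function.Surjective sq := by
          intro a
          have ha : (a : Γ) ∈ Asq := by rw [heq]; exact a.2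
          obtain ⟨y, hy, hya⟩ := ha
          exact ⟨⟨y, hy⟩, Subtype.ext hya⟩
        have hinj := Finite.injective_iff_surjective.mpr hsurj
        have h1 : sq ⟨i, hiA⟩ = sq 1 := by
          apply Subtype.ext
          show i ^ 2 = (1 : Γ) ^ 2
          rw [hi2, one_pow]
        have := hinj h1
        exact hi1 (congrArg Subtype.val this)
      have hlt : Nat.card Asq < n := by
        rw [← hn]
        by_contra hh
        push Not at hh
        exact hne (Subgroup.eq_of_le_of_card_ge hAsq_le hh)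
      haveI : Finite Asq := Finite.of_injective (Subgroup.inclusion hAsq_le) (Subgroup.inclusion_injective hAsq_le)
      have hfix : ∀ x ∈ Asq, α x = x := by
        apply ih (Nat.card Asq) hlt Asq rfl inferInstance
        · intro x hx y hy
          exact hcomm x (hAsq_le hx) y (hAsq_le hy)
        · intro x hx
          exact h2 x (hAsq_le hx)
        · rintro _ ⟨y, hy, rfl⟩
          exact ⟨α y, hinv y hy, by rw [map_pow]⟩
        · rintro _ ⟨y, hy, rfl⟩
          obtain ⟨w, hw, hyw⟩ := hsq y hy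
          refine ⟨w ^ 2, ⟨w, hw, rfl⟩, ?_⟩
          rw [map_pow, hyw]
          have hw2 : w ^ 2 ∈ A := A.pow_mem hw 2
          rw [pow_two (y * w ^ 2), pow_two y, pow_two (w ^ 2)]
          calc y * w ^ 2 * (y * w ^ 2) = y * (w ^ 2 * y) * w ^ 2 := by group
            _ = y * (y * w ^ 2) * w ^ 2 := by rw [hcomm (w ^ 2) hw2 y hy]
            _ = y * y * (w ^ 2 * w ^ 2) := by group
      intro x hx
      obtain ⟨w, hw, hxw⟩ := hsq x hx
      set c := w ^ 2 with hc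
      have hcA : c ∈ Asq := ⟨w, hw, rfl⟩
      have hαc : α c = c := hfix c hcA
      have hpow : ∀ j : ℕ, (α ^ j) x = x * c ^ j := by
        intro j
        induction j with
        | zero => simp
        | succ j ihj =>
          rw [pow_succ', MulAut.mul_apply, ihj, map_mul, map_pow, hαc, hxw, pow_succ']
          group
      have h3 := hpow r
      rw [hαr, MulAut.one_apply] at h3
      have hcr : c ^ r = 1 := by
        have : x * c ^ r = x * 1 := by rw [mul_one]; exact h3.symm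
        exact mul_left_cancel this
      obtain ⟨k, hk⟩ := h2 c (hAsq_le hcA)
      have hc1 : c = 1 := odd_two_pow_trivial r k hr hcr hk
      rw [hxw, hc1, mul_one]


theorem AL {Γ : Type*} [Group Γ] [Finite Γ] {R : Type*} [CommRing R] (hR : (1 : R) ≠ -1)
    (A : Subgroup Γ) (σ χ : Γ → R) (h : ℕ)
    (hcomm : ∀ x ∈ A, ∀ y ∈ A, x * y = y * x)
    (hidx : ∀ x, x ∉ A → ∀ y, y ∉ A → x * y ∈ A)
    (hchar : ∀ β : MulAut Γ, ∀ x ∈ A, β x ∈ A)
    (h2 : ∀ x : Γ, ∃ k : ℕ, x ^ (2 ^ k) = 1)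
    (hσ1 : ∀ x ∈ A, σ x = 1 ∨ σ x = -1) (hχ1 : ∀ x ∈ A, χ x = 1 ∨ χ x = -1)
    (hσm : ∀ x ∈ A, ∀ y ∈ A, σ (x * y) = σ x * σ y)
    (hχm : ∀ x ∈ A, ∀ y ∈ A, χ (x * y) = χ x * χ y)
    (ha : ∀ x ∈ A, χ x = 1 ↔ x ^ h = 1)
    (hb : ∀ x ∈ A, (∃ y ∈ A, y ^ 2 = x) ↔ (σ x = 1 ∧ χ x = 1))
    (α : MulAut Γ) (r : ℕ) (hr : Odd r) (hαr : α ^ r = 1) : α = 1 := by
  have hαA : ∀ x ∈ A, α x ∈ A := hchar α
  have hαA' : ∀ x, α x ∈ A → x ∈ A := by
    intro x hx
    have := hchar α⁻¹ (α x) hx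
    rwa [MulAut.inv_apply_self] at this
  -- general facts on ±1-valued multiplicative functions
  have sq_one : ∀ (f : Γ → R), (∀ x ∈ A, f x = 1 ∨ f x = -1) → ∀ x ∈ A, f x * f x = 1 := by
    intro f hf x hx
    rcases hf x hx with h | h <;> rw [h] <;> ring
  have f_one : ∀ (f : Γ → R), (∀ x ∈ A, f x = 1 ∨ f x = -1) →
      (∀ x ∈ A, ∀ y ∈ A, f (x * y) = f x * f y) → f 1 = 1 := by
    intro f hf hm
    have h1 := hm 1 A.one_mem 1 A.one_mem
    rw [mul_one] at h1
    rcases hf 1 A.one_mem with h | h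
    · exact h
    · rw [h] at h1
      exfalso
      apply hR
      have : (-1 : R) * (-1) = 1 := by ring
      rw [this] at h1
      exact h1.symm
  have f_inv : ∀ (f : Γ → R), (∀ x ∈ A, f x = 1 ∨ f x = -1) →
      (∀ x ∈ A, ∀ y ∈ A, f (x * y) = f x * f y) → ∀ x ∈ A, f x⁻¹ = f x := by
    intro f hf hm x hx
    have h1 := hm x⁻¹ (A.inv_mem hx) x hx
    rw [inv_mul_cancel, f_one f hf hm] at h1
    have h3 := sq_one f hf x hx
    calc f x⁻¹ = f x⁻¹ * (f x * f x) := by rw [h3, mul_one]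
      _ = (f x⁻¹ * f x) * f x := by ring
      _ = f x := by rw [← h1, one_mul]
  have eq_of_iff : ∀ u v : R, (u = 1 ∨ u = -1) → (v = 1 ∨ v = -1) → (u = 1 ↔ v = 1) → u = v := by
    intro u v hu hv hiff
    rcases hu with hu | hu
    · rw [hu, hiff.mp hu]
    · rcases hv with hv | hv
      · have := hiff.mpr hv
        rw [hu] at this
        exact absurd this.symm hR
      · rw [hu, hv]
  -- Step 2
  have hχα : ∀ x ∈ A, χ (α x) = χ x := by
    intro x hx
    apply eq_of_iff _ _ (hχ1 _ (hαA x hx)) (hχ1 x hx)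
    rw [ha _ (hαA x hx), ha x hx, ← map_pow]
    constructor
    · intro h1
      have : α (x ^ h) = α 1 := by rw [h1, map_one]
      exact α.injective this
    · intro h1
      rw [h1, map_one]
  -- Step 3
  have hσα1 : ∀ x ∈ A, χ x = 1 → σ (α x) = σ x := by
    intro x hx hχx
    apply eq_of_iff _ _ (hσ1 _ (hαA x hx)) (hσ1 x hx)
    have e1 := hb x hx
    have e2 := hb (α x) (hαA x hx)
    have hχ' : χ (α x) = 1 := by rw [hχα x hx, hχx]
    constructor
    · intro h1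
      have := e2.mpr ⟨h1, hχ'⟩
      obtain ⟨y', hy', hy'2⟩ := this
      have hyA : α⁻¹ y' ∈ A := hchar α⁻¹ y' hy'
      have : (α⁻¹ y') ^ 2 = x := by
        rw [← map_pow, hy'2, MulAut.inv_apply_self]
      exact (e1.mp ⟨_, hyA, this⟩).1
    · intro h1
      obtain ⟨y, hy, hy2⟩ := e1.mpr ⟨h1, hχx⟩
      have : (α y) ^ 2 = α x := by rw [← map_pow, hy2]
      exact (e2.mp ⟨_, hαA y hy, this⟩).1
  -- Step 4
  have hσα : ∀ x ∈ A, σ (α x) = σ x := by
    intro x0 hx0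
    rcases hχ1 x0 hx0 with hχx0 | hχx0
    · exact hσα1 x0 hx0 hχx0
    · by_contra hne
      have hflip0 : σ (α x0) = - σ x0 := by
        rcases hσ1 _ (hαA x0 hx0) with h1 | h1 <;> rcases hσ1 x0 hx0 with h2 | h2
        · exact absurd (h1.trans h2.symm) hne
        · rw [h1, h2]; ring
        · rw [h1, h2]
        · exact absurd (h1.trans h2.symm) hne
      have hflip : ∀ y ∈ A, χ y = -1 → σ (α y) = - σ y := by
        intro y hy hχy
        have hyx : y * x0 ∈ A := A.mul_mem hy hx0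
        have hχyx : χ (y * x0) = 1 := by
          rw [hχm y hy x0 hx0, hχy, hχx0]; ring
        have h1 := hσα1 (y * x0) hyx hχyx
        rw [map_mul, hσm _ (hαA y hy) _ (hαA x0 hx0), hσm y hy x0 hx0, hflip0] at h1
        have h3 := sq_one σ hσ1 x0 hx0
        calc σ (α y) = σ (α y) * (σ x0 * σ x0) := by rw [h3, mul_one]
          _ = - (σ (α y) * (- σ x0)) * σ x0 := by ring
          _ = - (σ y * σ x0) * σ x0 := by rw [h1]
          _ = - σ y * (σ x0 * σ x0) := by ring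
          _ = - σ y := by rw [h3, mul_one]
      have hiter : ∀ j : ℕ, (α ^ j) x0 ∈ A ∧ χ ((α ^ j) x0) = -1 ∧
          σ ((α ^ j) x0) = (-1) ^ j * σ x0 := by
        intro j
        induction j with
        | zero => simp [hx0, hχx0]
        | succ j ihj =>
          obtain ⟨i1, i2, i3⟩ := ihj
          have e : (α ^ (j + 1)) x0 = α ((α ^ j) x0) := by
            rw [pow_succ', MulAut.mul_apply]
          rw [e]
          refine ⟨hαA _ i1, by rw [hχα _ i1, i2], ?_⟩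
          rw [hflip _ i1 i2, i3]
          ring
      have h3 := (hiter r).2.2
      rw [hαr, MulAut.one_apply, hr.neg_one_pow] at h3
      rcases hσ1 x0 hx0 with h4 | h4
      · rw [h4, mul_one] at h3
        exact hR h3
      · rw [h4] at h3
        apply hR
        have : (-1 : R) * -1 = 1 := by ring
        rw [this] at h3
        exact h3.symm
  -- Step 5 + 6
  have hfixA : ∀ x ∈ A, α x = x := by
    haveI : Finite A := inferInstance
    apply lemB α r hr hαr (Nat.card A) A rfl inferInstance hcomm (fun x _ => h2 x) hαA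
    intro x hx
    have hc : x⁻¹ * α x ∈ A := A.mul_mem (A.inv_mem hx) (hαA x hx)
    have hσc : σ (x⁻¹ * α x) = 1 := by
      rw [hσm _ (A.inv_mem hx) _ (hαA x hx), f_inv σ hσ1 hσm x hx, hσα x hx, sq_one σ hσ1 x hx]
    have hχc : χ (x⁻¹ * α x) = 1 := by
      rw [hχm _ (A.inv_mem hx) _ (hαA x hx), f_inv χ hχ1 hχm x hx, hχα x hx, sq_one χ hχ1 x hx]
    obtain ⟨y, hy, hy2⟩ := (hb _ hc).mpr ⟨hσc, hχc⟩
    refine ⟨y, hy, ?_⟩
    rw [hy2]
    group
  -- Step 7
  ext x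
  rw [MulAut.one_apply]
  by_cases hx : x ∈ A
  · exact hfixA x hx
  · have hαx : α x ∉ A := fun hcon => hx (hαA' x hcon)
    have hxi : x⁻¹ ∉ A := fun hcon => hx (by simpa using A.inv_mem hcon)
    set c := α x * x⁻¹ with hc
    have hcA : c ∈ A := hidx _ hαx _ hxi
    have hαc : α c = c := hfixA c hcA
    have hαx' : α x = c * x := by rw [hc]; group
    have hpow : ∀ j : ℕ, (α ^ j) x = c ^ j * x := by
      intro j
      induction j with
      | zero => simp
      | succ j ihj =>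
        rw [pow_succ', MulAut.mul_apply, ihj, map_mul, map_pow, hαc, hαx', pow_succ]
        group
    have h3 := hpow r
    rw [hαr, MulAut.one_apply] at h3
    have hcr : c ^ r = 1 := by
      have : c ^ r * x = 1 * x := by rw [one_mul]; exact h3.symm
      exact mul_right_cancel this
    obtain ⟨k, hk⟩ := h2 c
    have hc1 : c = 1 := odd_two_pow_trivial r k hr hcr hk
    rw [hαx', hc1, one_mul]

section concrete
variable {q : ℕ} [Fact q.Prime]

theorem vec2_ext {K : Type*} (u v : Fin 2 → K) (h0 : u 0 = v 0) (h1 : u 1 = v 1) : u = v := by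
  funext i
  fin_cases i
  · exact h0
  · exact h1

/-- the sign `±1` as a unit of `ZMod q` -/
def sgnU (q : ℕ) : ℤˣ →* (ZMod q)ˣ := Units.map (Int.castRingHom (ZMod q)).toMonoidHom

theorem sgnU_mul_self (s : ℤˣ) : sgnU q s * sgnU q s = 1 := by
  rw [← map_mul, Int.units_mul_self, map_one]

theorem sgnK_mul_self (s : ℤˣ) : ((sgnU q s : (ZMod q)ˣ) : ZMod q) * (sgnU q s : (ZMod q)ˣ) = 1 := by
  rw [← Units.val_mul, sgnU_mul_self, Units.val_one]

theorem sgnU_one_val : ((sgnU q 1 : (ZMod q)ˣ) : ZMod q) = 1 := by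
  rw [map_one, Units.val_one]

theorem sgnU_neg_one_val : ((sgnU q (-1) : (ZMod q)ˣ) : ZMod q) = -1 := by
  simp [sgnU]

/-- the diagonal map `(x, y) ↦ (a x, s a⁻¹ y)` -/
def mkD (a : (ZMod q)ˣ) (s : ℤˣ) : (Fin 2 → ZMod q) ≃ₗ[ZMod q] (Fin 2 → ZMod q) where
  toFun v := ![(a : ZMod q) * v 0, ((sgnU q s : (ZMod q)ˣ) : ZMod q) * ((a⁻¹ : (ZMod q)ˣ) : ZMod q) * v 1]
  map_add' u v := by
    apply vec2_ext <;>
      simp only [Matrix.cons_val_zero, Matrix.cons_val_one, Pi.add_apply] <;> ring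
  map_smul' c v := by
    apply vec2_ext <;>
      simp only [Matrix.cons_val_zero, Matrix.cons_val_one, Pi.smul_apply, smul_eq_mul,
        RingHom.id_apply] <;> ring
  invFun v := ![((a⁻¹ : (ZMod q)ˣ) : ZMod q) * v 0, ((sgnU q s : (ZMod q)ˣ) : ZMod q) * (a : ZMod q) * v 1]
  left_inv v := by
    have hA : (a : ZMod q) * ((a⁻¹ : (ZMod q)ˣ) : ZMod q) = 1 := Units.mul_inv a
    have hS := sgnK_mul_self (q := q) s
    apply vec2_ext
    · simp only [Matrix.cons_val_zero]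
      linear_combination (v 0) * hA
    · simp only [Matrix.cons_val_one, Matrix.cons_val_zero]
      linear_combination ((a : ZMod q) * ((a⁻¹ : (ZMod q)ˣ) : ZMod q) * v 1) * hS + (v 1) * hA
  right_inv v := by
    have hA : (a : ZMod q) * ((a⁻¹ : (ZMod q)ˣ) : ZMod q) = 1 := Units.mul_inv a
    have hS := sgnK_mul_self (q := q) s
    apply vec2_ext
    · simp only [Matrix.cons_val_zero]
      linear_combination (v 0) * hA
    · simp only [Matrix.cons_val_one, Matrix.cons_val_zero]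
      linear_combination ((a : ZMod q) * ((a⁻¹ : (ZMod q)ˣ) : ZMod q) * v 1) * hS + (v 1) * hA

/-- the antidiagonal map `(x, y) ↦ (s a⁻¹ y, a x)` -/
def mkW (a : (ZMod q)ˣ) (s : ℤˣ) : (Fin 2 → ZMod q) ≃ₗ[ZMod q] (Fin 2 → ZMod q) where
  toFun v := ![((sgnU q s : (ZMod q)ˣ) : ZMod q) * ((a⁻¹ : (ZMod q)ˣ) : ZMod q) * v 1, (a : ZMod q) * v 0]
  map_add' u v := by
    apply vec2_ext <;>
      simp only [Matrix.cons_val_zero, Matrix.cons_val_one, Pi.add_apply] <;> ring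
  map_smul' c v := by
    apply vec2_ext <;>
      simp only [Matrix.cons_val_zero, Matrix.cons_val_one, Pi.smul_apply, smul_eq_mul,
        RingHom.id_apply] <;> ring
  invFun v := ![((a⁻¹ : (ZMod q)ˣ) : ZMod q) * v 1, ((sgnU q s : (ZMod q)ˣ) : ZMod q) * (a : ZMod q) * v 0]
  left_inv v := by
    have hA : (a : ZMod q) * ((a⁻¹ : (ZMod q)ˣ) : ZMod q) = 1 := Units.mul_inv a
    have hS := sgnK_mul_self (q := q) s
    apply vec2_ext
    · simp only [Matrix.cons_val_one, Matrix.cons_val_zero]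
      linear_combination (v 0) * hA
    · simp only [Matrix.cons_val_one, Matrix.cons_val_zero]
      linear_combination ((a : ZMod q) * ((a⁻¹ : (ZMod q)ˣ) : ZMod q) * v 1) * hS + (v 1) * hA
  right_inv v := by
    have hA : (a : ZMod q) * ((a⁻¹ : (ZMod q)ˣ) : ZMod q) = 1 := Units.mul_inv a
    have hS := sgnK_mul_self (q := q) s
    apply vec2_ext
    · simp only [Matrix.cons_val_one, Matrix.cons_val_zero]
      linear_combination ((a : ZMod q) * ((a⁻¹ : (ZMod q)ˣ) : ZMod q) * v 0) * hS + (v 0) * hA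
    · simp only [Matrix.cons_val_one, Matrix.cons_val_zero]
      linear_combination (v 1) * hA

theorem mkD_apply (a : (ZMod q)ˣ) (s : ℤˣ) (v : Fin 2 → ZMod q) :
    mkD a s v = ![(a : ZMod q) * v 0, ((sgnU q s : (ZMod q)ˣ) : ZMod q) * ((a⁻¹ : (ZMod q)ˣ) : ZMod q) * v 1] := rfl

theorem mkW_apply (a : (ZMod q)ˣ) (s : ℤˣ) (v : Fin 2 → ZMod q) :
    mkW a s v = ![((sgnU q s : (ZMod q)ˣ) : ZMod q) * ((a⁻¹ : (ZMod q)ˣ) : ZMod q) * v 1, (a : ZMod q) * v 0] := rfl

theorem mkD_mul_mkD (a b : (ZMod q)ˣ) (s t : ℤˣ) : mkD a s * mkD b t = mkD (a * b) (s * t) := by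
  apply LinearEquiv.ext
  intro v
  rw [LinearEquiv.mul_apply, mkD_apply, mkD_apply, mkD_apply]
  apply vec2_ext
  · simp only [Matrix.cons_val_zero, Units.val_mul]
    ring
  · simp only [Matrix.cons_val_one, Matrix.cons_val_zero, Units.val_mul, map_mul, mul_inv]
    ring

theorem mkW_mul_mkW (a b : (ZMod q)ˣ) (s t : ℤˣ) :
    mkW a s * mkW b t = mkD (sgnU q s * a⁻¹ * b) (s * t) := by
  apply LinearEquiv.ext
  intro v
  rw [LinearEquiv.mul_apply, mkW_apply, mkW_apply, mkD_apply]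
  have hA : (a : ZMod q) * ((a⁻¹ : (ZMod q)ˣ) : ZMod q) = 1 := Units.mul_inv a
  have hB : (b : ZMod q) * ((b⁻¹ : (ZMod q)ˣ) : ZMod q) = 1 := Units.mul_inv b
  have hS := sgnK_mul_self (q := q) s
  apply vec2_ext
  · simp only [Matrix.cons_val_one, Matrix.cons_val_zero, Units.val_mul]
    ring
  · simp only [Matrix.cons_val_one, Matrix.cons_val_zero, Units.val_mul, map_mul, mul_inv, inv_inv, inv_eq_of_mul_eq_one_right (sgnU_mul_self (q := q) s)]
    linear_combination (-(a : ZMod q) * ((sgnU q t : (ZMod q)ˣ) : ZMod q) * ((b⁻¹ : (ZMod q)ˣ) : ZMod q) * v 1) * hS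


theorem mkD_mul_mkW (a b : (ZMod q)ˣ) (s t : ℤˣ) :
    mkD a s * mkW b t = mkW (sgnU q s * a⁻¹ * b) (s * t) := by
  apply LinearEquiv.ext
  intro v
  rw [LinearEquiv.mul_apply, mkD_apply, mkW_apply, mkW_apply]
  have hS := sgnK_mul_self (q := q) s
  apply vec2_ext
  · simp only [Matrix.cons_val_one, Matrix.cons_val_zero, Units.val_mul, map_mul, mul_inv, inv_inv,
      inv_eq_of_mul_eq_one_right (sgnU_mul_self (q := q) s)]
    linear_combination (-(a : ZMod q) * ((sgnU q t : (ZMod q)ˣ) : ZMod q) * ((b⁻¹ : (ZMod q)ˣ) : ZMod q) * v 1) * hS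
  · simp only [Matrix.cons_val_one, Matrix.cons_val_zero, Units.val_mul]
    ring

theorem mkW_mul_mkD (a b : (ZMod q)ˣ) (s t : ℤˣ) :
    mkW b t * mkD a s = mkW (a * b) (s * t) := by
  apply LinearEquiv.ext
  intro v
  rw [LinearEquiv.mul_apply, mkD_apply, mkW_apply, mkW_apply]
  apply vec2_ext
  · simp only [Matrix.cons_val_one, Matrix.cons_val_zero, Units.val_mul, map_mul, mul_inv]
    ring
  · simp only [Matrix.cons_val_one, Matrix.cons_val_zero, Units.val_mul]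
    ring

theorem mkD_one : mkD (1 : (ZMod q)ˣ) 1 = 1 := by
  apply LinearEquiv.ext
  intro v
  rw [mkD_apply]
  apply vec2_ext
  · simp
  · simp

theorem mkD_pow (a : (ZMod q)ˣ) (s : ℤˣ) (k : ℕ) : (mkD a s) ^ k = mkD (a ^ k) (s ^ k) := by
  induction k with
  | zero => simp [mkD_one]
  | succ k ih => rw [pow_succ, ih, mkD_mul_mkD, ← pow_succ, ← pow_succ]

theorem mkD_inj {a b : (ZMod q)ˣ} {s t : ℤˣ} (h : mkD a s = mkD b t) :
    a = b ∧ sgnU q s = sgnU q t := by
  have h0 := congrArg (fun f : (Fin 2 → ZMod q) ≃ₗ[ZMod q] (Fin 2 → ZMod q) => f ![1, 0] 0) h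
  have h1 := congrArg (fun f : (Fin 2 → ZMod q) ≃ₗ[ZMod q] (Fin 2 → ZMod q) => f ![0, 1] 1) h
  simp only [mkD_apply, Matrix.cons_val_zero, Matrix.cons_val_one, mul_one] at h0 h1
  have hab : a = b := Units.ext h0
  subst hab
  refine ⟨rfl, Units.ext ?_⟩
  have hA : (a : ZMod q) * ((a⁻¹ : (ZMod q)ˣ) : ZMod q) = 1 := Units.mul_inv a
  calc ((sgnU q s : (ZMod q)ˣ) : ZMod q) = (sgnU q s : (ZMod q)ˣ) * ((a⁻¹ : (ZMod q)ˣ) : ZMod q) * a := by
        rw [mul_assoc, Units.inv_mul, mul_one]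
    _ = (sgnU q t : (ZMod q)ˣ) * ((a⁻¹ : (ZMod q)ˣ) : ZMod q) * a := by rw [h1]
    _ = (sgnU q t : (ZMod q)ˣ) := by rw [mul_assoc, Units.inv_mul, mul_one]

theorem mkD_ne_mkW (a b : (ZMod q)ˣ) (s t : ℤˣ) : mkD a s ≠ mkW b t := by
  intro h
  have h0 := congrArg (fun f : (Fin 2 → ZMod q) ≃ₗ[ZMod q] (Fin 2 → ZMod q) => f ![1, 0] 0) h
  simp only [mkD_apply, mkW_apply, Matrix.cons_val_zero, Matrix.cons_val_one, mul_one, mul_zero] at h0
  exact a.ne_zero h0

theorem sgnU_inj (hq2 : q ≠ 2) {s t : ℤˣ} (h : sgnU q s = sgnU q t) : s = t := by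
  have hne : ((1 : ZMod q)) ≠ -1 := by
    intro h1
    have h2 : ((2 : ℕ) : ZMod q) = 0 := by
      have : (1 : ZMod q) + 1 = 0 := by
        nth_rewrite 2 [h1]
        ring
      push_cast
      rw [← this]
      ring
    rw [ZMod.natCast_eq_zero_iff] at h2
    have hq : q.Prime := Fact.out
    exact hq2 ((Nat.prime_dvd_prime_iff_eq hq Nat.prime_two).mp h2)
  have hv := congrArg (fun u : (ZMod q)ˣ => (u : ZMod q)) h
  rcases Int.units_eq_one_or s with rfl | rfl <;> rcases Int.units_eq_one_or t with rfl | rfl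
  · rfl
  · exfalso
    simp only [sgnU_one_val, sgnU_neg_one_val] at hv
    exact hne hv
  · exfalso
    simp only [sgnU_one_val, sgnU_neg_one_val] at hv
    exact hne hv.symm
  · rfl

section withT
variable (T : Subgroup ((Fin 2 → ZMod q) ≃ₗ[ZMod q] (Fin 2 → ZMod q)))
    (hT : ∀ f, f ∈ T ↔ ∃ a s : ZMod q, a ≠ 0 ∧ (s = 1 ∨ s = -1) ∧
      ((∀ v, f v = ![a * v 0, s * a⁻¹ * v 1]) ∨ (∀ v, f v = ![s * a⁻¹ * v 1, a * v 0])))
include hT

theorem mkD_mem (a : (ZMod q)ˣ) (s : ℤˣ) : mkD a s ∈ T := by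
  rw [hT]
  refine ⟨a, (sgnU q s : (ZMod q)ˣ), a.ne_zero, ?_, Or.inl fun v => ?_⟩
  · rcases Int.units_eq_one_or s with rfl | rfl
    · left; exact sgnU_one_val
    · right; exact sgnU_neg_one_val
  · rw [mkD_apply, Units.val_inv_eq_inv_val]

theorem mkW_mem (a : (ZMod q)ˣ) (s : ℤˣ) : mkW a s ∈ T := by
  rw [hT]
  refine ⟨a, (sgnU q s : (ZMod q)ˣ), a.ne_zero, ?_, Or.inr fun v => ?_⟩
  · rcases Int.units_eq_one_or s with rfl | rfl
    · left; exact sgnU_one_val
    · right; exact sgnU_neg_one_val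
  · rw [mkW_apply, Units.val_inv_eq_inv_val]

theorem mem_cases {f : (Fin 2 → ZMod q) ≃ₗ[ZMod q] (Fin 2 → ZMod q)} (hf : f ∈ T) :
    (∃ (a : (ZMod q)ˣ) (s : ℤˣ), f = mkD a s) ∨ (∃ (a : (ZMod q)ˣ) (s : ℤˣ), f = mkW a s) := by
  obtain ⟨a, s, ha, hs, h | h⟩ := (hT f).mp hf
  · left
    rcases hs with rfl | rfl
    · refine ⟨Units.mk0 a ha, 1, LinearEquiv.ext fun v => ?_⟩
      rw [h v, mkD_apply, sgnU_one_val, Units.val_inv_eq_inv_val, Units.val_mk0]
    · refine ⟨Units.mk0 a ha, -1, LinearEquiv.ext fun v => ?_⟩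
      rw [h v, mkD_apply, sgnU_neg_one_val, Units.val_inv_eq_inv_val, Units.val_mk0]
  · right
    rcases hs with rfl | rfl
    · refine ⟨Units.mk0 a ha, 1, LinearEquiv.ext fun v => ?_⟩
      rw [h v, mkW_apply, sgnU_one_val, Units.val_inv_eq_inv_val, Units.val_mk0]
    · refine ⟨Units.mk0 a ha, -1, LinearEquiv.ext fun v => ?_⟩
      rw [h v, mkW_apply, sgnU_neg_one_val, Units.val_inv_eq_inv_val, Units.val_mk0]

end withT


section withT2
variable (T : Subgroup ((Fin 2 → ZMod q) ≃ₗ[ZMod q] (Fin 2 → ZMod q)))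
    (hT : ∀ f, f ∈ T ↔ ∃ a s : ZMod q, a ≠ 0 ∧ (s = 1 ∨ s = -1) ∧
      ((∀ v, f v = ![a * v 0, s * a⁻¹ * v 1]) ∨ (∀ v, f v = ![s * a⁻¹ * v 1, a * v 0])))

/-- diagonal element of `T` -/
def dT (a : (ZMod q)ˣ) (s : ℤˣ) : ↥T := ⟨mkD a s, mkD_mem T hT a s⟩

/-- antidiagonal element of `T` -/
def wT (a : (ZMod q)ˣ) (s : ℤˣ) : ↥T := ⟨mkW a s, mkW_mem T hT a s⟩

theorem casesT (x : ↥T) : (∃ a s, x = dT T hT a s) ∨ (∃ a s, x = wT T hT a s) := by
  rcases mem_cases T hT x.2 with ⟨a, s, h⟩ | ⟨a, s, h⟩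
  · exact Or.inl ⟨a, s, Subtype.ext h⟩
  · exact Or.inr ⟨a, s, Subtype.ext h⟩

theorem dT_mul_dT (a b : (ZMod q)ˣ) (s t : ℤˣ) :
    dT T hT a s * dT T hT b t = dT T hT (a * b) (s * t) :=
  Subtype.ext (mkD_mul_mkD a b s t)

theorem wT_mul_wT (a b : (ZMod q)ˣ) (s t : ℤˣ) :
    wT T hT a s * wT T hT b t = dT T hT (sgnU q s * a⁻¹ * b) (s * t) :=
  Subtype.ext (mkW_mul_mkW a b s t)

theorem dT_mul_wT (a b : (ZMod q)ˣ) (s t : ℤˣ) :
    dT T hT a s * wT T hT b t = wT T hT (sgnU q s * a⁻¹ * b) (s * t) :=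
  Subtype.ext (mkD_mul_mkW a b s t)

theorem wT_mul_dT (a b : (ZMod q)ˣ) (s t : ℤˣ) :
    wT T hT b t * dT T hT a s = wT T hT (a * b) (s * t) :=
  Subtype.ext (mkW_mul_mkD a b s t)

theorem dT_one : dT T hT 1 1 = 1 := Subtype.ext mkD_one

theorem dT_pow (a : (ZMod q)ˣ) (s : ℤˣ) (k : ℕ) : (dT T hT a s) ^ k = dT T hT (a ^ k) (s ^ k) := by
  apply Subtype.ext
  rw [SubmonoidClass.coe_pow]
  exact mkD_pow a s k

theorem dT_inj {a b : (ZMod q)ˣ} {s t : ℤˣ} (h : dT T hT a s = dT T hT b t) :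
    a = b ∧ sgnU q s = sgnU q t := mkD_inj (congrArg Subtype.val h)

theorem dT_ne_wT (a b : (ZMod q)ˣ) (s t : ℤˣ) : dT T hT a s ≠ wT T hT b t :=
  fun h => mkD_ne_mkW a b s t (congrArg Subtype.val h)

theorem units_sq (s : ℤˣ) : s ^ 2 = 1 := by rw [pow_two, Int.units_mul_self]

theorem units_pow_even (s : ℤˣ) {k : ℕ} (hk : Even k) : s ^ k = 1 := by
  obtain ⟨j, rfl⟩ := hk
  rw [← two_mul, pow_mul, units_sq, one_pow]

theorem wT_pow_four (a : (ZMod q)ˣ) (s : ℤˣ) : (wT T hT a s) ^ 4 = 1 := by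
  have h2 : (wT T hT a s) ^ 2 = dT T hT (sgnU q s) 1 := by
    rw [pow_two, wT_mul_wT, Int.units_mul_self, mul_assoc, inv_mul_cancel, mul_one]
  have : (4 : ℕ) = 2 * 2 := rfl
  rw [this, pow_mul, h2, pow_two, dT_mul_dT, sgnU_mul_self, mul_one, dT_one]

/-- the diagonal subgroup of `T` -/
def diagT : Subgroup ↥T where
  carrier := {x | ∃ a s, x = dT T hT a s}
  one_mem' := ⟨1, 1, (dT_one T hT).symm⟩
  mul_mem' := by
    rintro _ _ ⟨a, s, rfl⟩ ⟨b, t, rfl⟩
    exact ⟨a * b, s * t, dT_mul_dT T hT a b s t⟩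
  inv_mem' := by
    rintro _ ⟨a, s, rfl⟩
    refine ⟨a⁻¹, s, ?_⟩
    rw [inv_eq_iff_mul_eq_one, dT_mul_dT, mul_inv_cancel, Int.units_mul_self, dT_one]

theorem mem_diagT {x : ↥T} : x ∈ diagT T hT ↔ ∃ a s, x = dT T hT a s := Iff.rfl

theorem not_mem_diagT {x : ↥T} (hx : x ∉ diagT T hT) : ∃ a s, x = wT T hT a s := by
  rcases casesT T hT x with h | h
  · exact absurd h hx
  · exact h

/-- sign invariant -/
def sig (x : ↥T) : ZMod q := (x.1 ![1, 0]) 0 * (x.1 ![0, 1]) 1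

/-- quadratic character invariant -/
def chi (x : ↥T) : ZMod q := ((x.1 ![1, 0]) 0) ^ (q / 2)

theorem sig_dT (a : (ZMod q)ˣ) (s : ℤˣ) : sig T (dT T hT a s) = ((sgnU q s : (ZMod q)ˣ) : ZMod q) := by
  have hA : (a : ZMod q) * ((a⁻¹ : (ZMod q)ˣ) : ZMod q) = 1 := Units.mul_inv a
  show (mkD a s ![1, 0]) 0 * (mkD a s ![0, 1]) 1 = _
  simp only [mkD_apply, Matrix.cons_val_zero, Matrix.cons_val_one, mul_one]
  linear_combination ((sgnU q s : (ZMod q)ˣ) : ZMod q) * hA

theorem chi_dT (a : (ZMod q)ˣ) (s : ℤˣ) : chi T (dT T hT a s) = (a : ZMod q) ^ (q / 2) := by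
  show ((mkD a s ![1, 0]) 0) ^ (q / 2) = _
  simp only [mkD_apply, Matrix.cons_val_zero, mul_one]

end withT2

end concrete


section general
variable {q : ℕ} [Fact q.Prime]
variable (T : Subgroup ((Fin 2 → ZMod q) ≃ₗ[ZMod q] (Fin 2 → ZMod q)))
    (hT : ∀ f, f ∈ T ↔ ∃ a s : ZMod q, a ≠ 0 ∧ (s = 1 ∨ s = -1) ∧
      ((∀ v, f v = ![a * v 0, s * a⁻¹ * v 1]) ∨ (∀ v, f v = ![s * a⁻¹ * v 1, a * v 0])))

theorem finite_T : Finite ↥T := by
  haveI : Finite ((Fin 2 → ZMod q) ≃ₗ[ZMod q] (Fin 2 → ZMod q)) :=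
    Finite.of_injective (fun f : (Fin 2 → ZMod q) ≃ₗ[ZMod q] (Fin 2 → ZMod q) =>
      (f : (Fin 2 → ZMod q) → (Fin 2 → ZMod q))) DFunLike.coe_injective
  infer_instance

theorem one_ne_neg_one (hq2 : q ≠ 2) : (1 : ZMod q) ≠ -1 := by
  intro h1
  have h2 : ((2 : ℕ) : ZMod q) = 0 := by
    have : (1 : ZMod q) + 1 = 0 := by
      nth_rewrite 2 [h1]
      ring
    push_cast
    rw [← this]
    ring
  rw [ZMod.natCast_eq_zero_iff] at h2
  have hq : q.Prime := Fact.out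
  exact hq2 ((Nat.prime_dvd_prime_iff_eq hq Nat.prime_two).mp h2)

include hT in
theorem general_case (m : ℕ) (hq : q = 2 ^ m + 1) (hm : 4 ≤ m) : IsPGroup 2 (MulAut ↥T) := by
  haveI := finite_T T
  have hqp : q.Prime := Fact.out
  have h16 : 16 ≤ 2 ^ m := by
    calc 16 = 2 ^ 4 := by norm_num
      _ ≤ 2 ^ m := Nat.pow_le_pow_right (by norm_num) hm
  have hq17 : 17 ≤ q := by omega
  have hq2 : q ≠ 2 := by omega
  have hR := one_ne_neg_one (q := q) hq2
  -- q / 2 = 2^(m-1), even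
  obtain ⟨m', rfl⟩ : ∃ m', m = m' + 2 := ⟨m - 2, by omega⟩
  have hhalf : q / 2 = 2 * 2 ^ m' := by
    rw [hq, pow_succ, pow_succ]
    omega
  have hheven : Even (q / 2) := ⟨2 ^ m', by rw [hhalf]; ring⟩
  have hq1 : q - 1 = 2 * (q / 2) := by
    rw [hhalf, hq, pow_succ, pow_succ]
    omega
  have hqm : q - 1 = 2 ^ (m' + 2) := by omega
  -- the unit 2
  have h2ne : (2 : ZMod q) ≠ 0 := by
    intro h
    have h2 : ((2 : ℕ) : ZMod q) = 0 := by exact_mod_cast h
    rw [ZMod.natCast_eq_zero_iff] at h2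
    exact hq2 ((Nat.prime_dvd_prime_iff_eq hqp Nat.prime_two).mp h2)
  set u2 : (ZMod q)ˣ := Units.mk0 2 h2ne with hu2
  have hu2_4 : u2 ^ 4 ≠ 1 := by
    intro h
    have hv := congrArg (fun u : (ZMod q)ˣ => (u : ZMod q)) h
    simp only [Units.val_pow_eq_pow_val, hu2, Units.val_mk0, Units.val_one] at hv
    have h15 : ((15 : ℕ) : ZMod q) = 0 := by
      push_cast
      linear_combination hv
    rw [ZMod.natCast_eq_zero_iff] at h15
    have := Nat.le_of_dvd (by norm_num) h15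
    omega
  apply isPGroup_two_mulAut
  intro α r hr hαr
  -- facts
  have hpow4 : ∀ (a : (ZMod q)ˣ) (s : ℤˣ), (dT T hT a s) ^ 4 = 1 ↔ a ^ 4 = 1 := by
    intro a s
    rw [dT_pow, units_pow_even s ⟨2, rfl⟩]
    constructor
    · intro h
      rw [← dT_one T hT] at h
      exact (dT_inj T hT h).1
    · intro h
      rw [h, dT_one]
  have hmemA : ∀ z : ↥T, z ^ 4 ≠ 1 → z ∈ diagT T hT := by
    intro z hz
    by_contra hcon
    obtain ⟨a, s, rfl⟩ := not_mem_diagT T hT hcon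
    exact hz (wT_pow_four T hT a s)
  have hchar : ∀ β : MulAut ↥T, ∀ x ∈ diagT T hT, β x ∈ diagT T hT := by
    rintro β _ ⟨a, s, rfl⟩
    have hβ4 : ∀ z : ↥T, z ^ 4 ≠ 1 → β z ∈ diagT T hT := by
      intro z hz
      apply hmemA
      rw [← map_pow]
      intro hcon
      apply hz
      have : β (z ^ 4) = β 1 := by rw [hcon, map_one]
      exact β.injective this
    by_cases ha4 : a ^ 4 = 1
    · have hy0 : β (dT T hT u2 1) ∈ diagT T hT := by
        apply hβ4
        rw [Ne, hpow4]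
        exact hu2_4
      have hxy : β (dT T hT a s * dT T hT u2 1) ∈ diagT T hT := by
        apply hβ4
        rw [dT_mul_dT, Ne, hpow4, mul_pow, ha4, one_mul]
        exact hu2_4
      have : β (dT T hT a s) = β (dT T hT a s * dT T hT u2 1) * (β (dT T hT u2 1))⁻¹ := by
        rw [map_mul, mul_inv_cancel_right]
      rw [this]
      exact (diagT T hT).mul_mem hxy ((diagT T hT).inv_mem hy0)
    · apply hβ4
      rw [Ne, hpow4]
      exact ha4
  apply AL hR (diagT T hT) (sig T) (chi T) (q / 2) ?_ ?_ hchar ?_ ?_ ?_ ?_ ?_ ?_ ?_ α r hr hαr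
  · -- commutative
    rintro _ ⟨a, s, rfl⟩ _ ⟨b, t, rfl⟩
    rw [dT_mul_dT, dT_mul_dT, mul_comm a b, mul_comm s t]
  · -- index 2
    intro x hx y hy
    obtain ⟨a, s, rfl⟩ := not_mem_diagT T hT hx
    obtain ⟨b, t, rfl⟩ := not_mem_diagT T hT hy
    exact ⟨_, _, wT_mul_wT T hT a b s t⟩
  · -- 2-group
    intro x
    rcases casesT T hT x with ⟨a, s, rfl⟩ | ⟨a, s, rfl⟩
    · refine ⟨m' + 2, ?_⟩
      rw [dT_pow, ← hqm, ZMod.units_pow_card_sub_one_eq_one, units_pow_even s ⟨q / 2, by omega⟩, dT_one]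
    · exact ⟨2, wT_pow_four T hT a s⟩
  · -- sig values
    rintro _ ⟨a, s, rfl⟩
    rw [sig_dT]
    rcases Int.units_eq_one_or s with rfl | rfl
    · left; exact sgnU_one_val
    · right; exact sgnU_neg_one_val
  · -- chi values
    rintro _ ⟨a, s, rfl⟩
    rw [chi_dT]
    exact ZMod.pow_div_two_eq_neg_one_or_one q a.ne_zero
  · -- sig mult
    rintro _ ⟨a, s, rfl⟩ _ ⟨b, t, rfl⟩
    rw [dT_mul_dT, sig_dT, sig_dT, sig_dT, map_mul, Units.val_mul]
  · -- chi mult
    rintro _ ⟨a, s, rfl⟩ _ ⟨b, t, rfl⟩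
    rw [dT_mul_dT, chi_dT, chi_dT, chi_dT, Units.val_mul, mul_pow]
  · -- ha
    rintro _ ⟨a, s, rfl⟩
    rw [chi_dT, dT_pow, units_pow_even s hheven]
    constructor
    · intro h
      have : a ^ (q / 2) = 1 := by
        apply Units.ext
        rw [Units.val_pow_eq_pow_val, h, Units.val_one]
      rw [this, dT_one]
    · intro h
      rw [← dT_one T hT] at h
      have := (dT_inj T hT h).1
      rw [← Units.val_pow_eq_pow_val, this, Units.val_one]
  · -- hb
    rintro _ ⟨a, s, rfl⟩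
    rw [sig_dT, chi_dT]
    constructor
    · rintro ⟨_, ⟨c, u, rfl⟩, hy2⟩
      rw [dT_pow, units_sq] at hy2
      obtain ⟨hca, hsu⟩ := dT_inj T hT hy2
      refine ⟨?_, ?_⟩
      · rw [← hsu]; exact sgnU_one_val
      · rw [← hca, Units.val_pow_eq_pow_val, ← pow_mul, ← hq1, ZMod.pow_card_sub_one_eq_one c.ne_zero]
    · rintro ⟨hs1, hχ1⟩
      have hs : s = 1 := by
        apply sgnU_inj hq2
        apply Units.ext
        rw [hs1, sgnU_one_val]
      subst hs
      obtain ⟨c, hc⟩ := (ZMod.euler_criterion q a.ne_zero).mpr hχ1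
      have hc0 : c ≠ 0 := by
        rintro rfl
        rw [mul_zero] at hc
        exact a.ne_zero hc
      refine ⟨dT T hT (Units.mk0 c hc0) 1, ⟨_, _, rfl⟩, ?_⟩
      rw [dT_pow, one_pow]
      congr 1
      apply Units.ext
      rw [Units.val_pow_eq_pow_val, Units.val_mk0, hc, pow_two]

end general

theorem u3_cases : ∀ a : (ZMod 3)ˣ, a = 1 ∨ a = -1 := by decide
theorem u3_ne : (1 : (ZMod 3)ˣ) ≠ -1 := by decide
theorem u3_f1 : (-1 : (ZMod 3)ˣ) * 1⁻¹ * 1 = -1 := by decide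
theorem u3_f2 : (-1 : (ZMod 3)ˣ) * 1⁻¹ * -1 = 1 := by decide
theorem u3_f3 : (-1 : (ZMod 3)ˣ) * (-1)⁻¹ * 1 = 1 := by decide
theorem u3_f4 : (1 : (ZMod 3)ˣ) * (-1)⁻¹ * 1 = -1 := by decide
theorem u3_f5 : (1 : (ZMod 3)ˣ) * 1⁻¹ * 1 = 1 := by decide
theorem u3_f6 : (1 : (ZMod 3)ˣ) * 1 = 1 := by decide
theorem u3_f7 : (-1 : (ZMod 3)ˣ) * -1 = 1 := by decide
theorem u3_f8 : (-1 : (ZMod 3)ˣ) ^ 4 = 1 := by decide
theorem u3_f9 : (1 : ℤˣ) ^ 4 = 1 := by decide

section small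
variable {q : ℕ} [Fact q.Prime]

theorem mkD_congr (a : (ZMod q)ˣ) {s t : ℤˣ} (h : sgnU q s = sgnU q t) : mkD a s = mkD a t := by
  apply LinearEquiv.ext
  intro v
  rw [mkD_apply, mkD_apply, h]

theorem mkW_congr (a : (ZMod q)ˣ) {s t : ℤˣ} (h : sgnU q s = sgnU q t) : mkW a s = mkW a t := by
  apply LinearEquiv.ext
  intro v
  rw [mkW_apply, mkW_apply, h]

theorem fix_of_sq_fix {Γ : Type*} [Group Γ] (α : MulAut Γ) (r : ℕ) (hr : Odd r) (hαr : α ^ r = 1)
    (x : Γ) (h : α (α x) = x) : α x = x := by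
  obtain ⟨k, rfl⟩ := hr
  have h2 : ∀ k : ℕ, (α ^ (2 * k)) x = x := by
    intro k
    induction k with
    | zero => simp
    | succ k ih =>
      rw [mul_add, mul_one, pow_add, MulAut.mul_apply, pow_two, MulAut.mul_apply, h, ih]
  have h3 := congrArg (fun β : MulAut Γ => β x) hαr
  simp only [MulAut.one_apply] at h3
  rw [pow_succ', MulAut.mul_apply, h2 k] at h3
  exact h3

theorem coset_fix {Γ : Type*} [Group Γ] (α : MulAut Γ) (r : ℕ) (hr : Odd r) (hαr : α ^ r = 1)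
    (c t : Γ) (hc : α c = c) (ht : α t = c * t) (k : ℕ) (hc2 : c ^ (2 ^ k) = 1) : α t = t := by
  have h2 : ∀ n : ℕ, (α ^ n) t = c ^ n * t := by
    intro n
    induction n with
    | zero => simp
    | succ n ih =>
      rw [pow_succ', MulAut.mul_apply, ih, map_mul, map_pow, hc, ht, ← mul_assoc, ← pow_succ]
  have h3 := h2 r
  rw [hαr, MulAut.one_apply] at h3
  have h4 : c ^ r = 1 := by
    have : c ^ r * t = 1 * t := by rw [one_mul]; exact h3.symm
    exact mul_right_cancel this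
  have h5 : c = 1 := odd_two_pow_trivial r k hr h4 hc2
  rw [ht, h5, one_mul]

variable (T : Subgroup ((Fin 2 → ZMod q) ≃ₗ[ZMod q] (Fin 2 → ZMod q)))
    (hT : ∀ f, f ∈ T ↔ ∃ a s : ZMod q, a ≠ 0 ∧ (s = 1 ∨ s = -1) ∧
      ((∀ v, f v = ![a * v 0, s * a⁻¹ * v 1]) ∨ (∀ v, f v = ![s * a⁻¹ * v 1, a * v 0])))

include hT in
theorem case_two (hq2 : q = 2) : IsPGroup 2 (MulAut ↥T) := by
  subst hq2
  haveI := finite_T T
  apply isPGroup_two_mulAut
  intro α r hr hαr
  have key : ∀ x : ↥T, x = 1 ∨ x = wT T hT 1 1 := by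
    intro x
    rcases casesT T hT x with ⟨a, s, rfl⟩ | ⟨a, s, rfl⟩
    · left
      rw [← dT_one T hT]
      apply Subtype.ext
      show mkD a s = mkD 1 1
      rw [Subsingleton.elim a 1]
      exact mkD_congr 1 (Subsingleton.elim _ _)
    · right
      apply Subtype.ext
      show mkW a s = mkW 1 1
      rw [Subsingleton.elim a 1]
      exact mkW_congr 1 (Subsingleton.elim _ _)
  apply MulEquiv.ext
  intro x
  rw [MulAut.one_apply]
  rcases key x with rfl | hx
  · exact map_one α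
  · rcases key (α x) with h1 | h1
    · have : x = 1 := by
        apply α.injective
        rw [h1, map_one]
      rw [this, map_one]
    · rw [h1, hx]

include hT in
theorem case_three (hq3 : q = 3) : IsPGroup 2 (MulAut ↥T) := by
  subst hq3
  haveI := finite_T T
  have hq2 : (3 : ℕ) ≠ 2 := by norm_num
  have hU : ∀ a : (ZMod 3)ˣ, a = 1 ∨ a = -1 := u3_cases
  have hε : sgnU 3 (-1) = -1 := by
    apply Units.ext
    rw [sgnU_neg_one_val, Units.val_neg, Units.val_one]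
  have hε1 : sgnU 3 1 = 1 := map_one _
  have h1n : (1 : (ZMod 3)ˣ) ≠ -1 := u3_ne
  apply isPGroup_two_mulAut
  intro α r hr hαr
  obtain ⟨p, hp⟩ : ∃ p, p = wT T hT 1 (-1) := ⟨_, rfl⟩
  obtain ⟨p', hp'⟩ : ∃ p', p' = wT T hT (-1) (-1) := ⟨_, rfl⟩
  obtain ⟨t, ht⟩ : ∃ t, t = wT T hT 1 1 := ⟨_, rfl⟩
  obtain ⟨z, hz⟩ : ∃ z, z = dT T hT (-1) 1 := ⟨_, rfl⟩
  have e1 : p * p = z := by
    rw [hp, hz, wT_mul_wT, hε]
    congr 1 <;> first | rfl | exact u3_f1 | exact u3_f2 | exact u3_f3 | exact u3_f4 | exact u3_f5 | exact u3_f6 | exact u3_f7 | exact u3_f8 | exact u3_f9 | decide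
  have e2 : p * p' = 1 := by
    rw [hp, hp', wT_mul_wT, hε, ← dT_one T hT]
    congr 1 <;> first | rfl | exact u3_f1 | exact u3_f2 | exact u3_f3 | exact u3_f4 | exact u3_f5 | exact u3_f6 | exact u3_f7 | exact u3_f8 | exact u3_f9 | decide
  have e3 : t * t = 1 := by
    rw [ht, wT_mul_wT, hε1, ← dT_one T hT]
    congr 1 <;> first | rfl | exact u3_f1 | exact u3_f2 | exact u3_f3 | exact u3_f4 | exact u3_f5 | exact u3_f6 | exact u3_f7 | exact u3_f8 | exact u3_f9 | decide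
  have e4 : p * t = dT T hT (-1) (-1) := by
    rw [hp, ht, wT_mul_wT, hε]
    congr 1 <;> first | rfl | exact u3_f1 | exact u3_f2 | exact u3_f3 | exact u3_f4 | exact u3_f5 | exact u3_f6 | exact u3_f7 | exact u3_f8 | exact u3_f9 | decide
  have e5 : p' * t = dT T hT 1 (-1) := by
    rw [hp', ht, wT_mul_wT, hε]
    congr 1 <;> first | rfl | exact u3_f1 | exact u3_f2 | exact u3_f3 | exact u3_f4 | exact u3_f5 | exact u3_f6 | exact u3_f7 | exact u3_f8 | exact u3_f9 | decide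
  have e6 : z * t = wT T hT (-1) 1 := by
    rw [hz, ht, dT_mul_wT, hε1]
    congr 1 <;> first | rfl | exact u3_f1 | exact u3_f2 | exact u3_f3 | exact u3_f4 | exact u3_f5 | exact u3_f6 | exact u3_f7 | exact u3_f8 | exact u3_f9 | decide
  have hz1 : z ≠ 1 := by
    rw [hz, ← dT_one T hT]
    intro h
    exact h1n (dT_inj T hT h).1.symm
  have e7 : ∀ a : (ZMod 3)ˣ, wT T hT a (-1) * wT T hT a (-1) ≠ 1 := by
    intro a
    rw [wT_mul_wT, hε, mul_assoc, inv_mul_cancel, mul_one, Int.units_mul_self, ← hz]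
    exact hz1
  have e8 : ∀ a : (ZMod 3)ˣ, wT T hT a 1 * wT T hT a 1 = 1 := by
    intro a
    rw [wT_mul_wT, hε1, mul_assoc, inv_mul_cancel, mul_one, mul_one, dT_one]
  have e9 : ∀ (a : (ZMod 3)ˣ) (s : ℤˣ), dT T hT a s * dT T hT a s = 1 := by
    intro a s
    rw [dT_mul_dT, Int.units_mul_self, ← dT_one T hT]
    congr 1
    rcases hU a with rfl | rfl <;> first | rfl | exact u3_f1 | exact u3_f2 | exact u3_f3 | exact u3_f4 | exact u3_f5 | exact u3_f6 | exact u3_f7 | exact u3_f8 | exact u3_f9 | decide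
  have hp'inv : p' = p⁻¹ := eq_inv_of_mul_eq_one_right e2
  -- step 1 : α p = p
  have hαp2 : α p * α p ≠ 1 := by
    rw [← map_mul, e1]
    intro h
    apply hz1
    apply α.injective
    rw [h, map_one]
  have s1 : α p = p := by
    rcases casesT T hT (α p) with ⟨a, s, h⟩ | ⟨a, s, h⟩
    · exfalso
      apply hαp2
      rw [h]
      exact e9 a s
    · rcases Int.units_eq_one_or s with rfl | rfl
      · exfalso
        apply hαp2
        rw [h]
        exact e8 a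
      · rcases hU a with rfl | rfl
        · rw [h, hp]
        · apply fix_of_sq_fix α r hr hαr
          rw [h, ← hp', hp'inv, map_inv, h, ← hp', hp'inv, inv_inv]
  have s2 : α z = z := by rw [← e1, map_mul, s1]
  have s2' : α p' = p' := by rw [hp'inv, map_inv, s1]
  have hαt2 : α t * α t = 1 := by rw [← map_mul, e3, map_one]
  have hne_t : ∀ (a : (ZMod 3)ˣ) (s : ℤˣ), t ≠ dT T hT a s := by
    intro a s h
    rw [ht] at h
    exact dT_ne_wT T hT _ _ _ _ h.symm
  -- step 3 : α t = t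
  have s3 : α t = t := by
    rcases casesT T hT (α t) with ⟨a, s, h⟩ | ⟨a, s, h⟩
    · rcases Int.units_eq_one_or s with rfl | rfl
      · exfalso
        rcases hU a with rfl | rfl
        · rw [dT_one, ← map_one α] at h
          have := α.injective h
          rw [← dT_one T hT] at this
          exact hne_t _ _ this
        · rw [← hz, ← s2] at h
          have := α.injective h
          rw [hz] at this
          exact hne_t _ _ this
      · rcases hU a with rfl | rfl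
        · rw [← e5] at h
          exact coset_fix α r hr hαr p' t s2' h 2 (by rw [hp']; exact wT_pow_four T hT _ _)
        · rw [← e4] at h
          exact coset_fix α r hr hαr p t s1 h 2 (by rw [hp]; exact wT_pow_four T hT _ _)
    · rcases Int.units_eq_one_or s with rfl | rfl
      · rcases hU a with rfl | rfl
        · rw [h, ht]
        · rw [← e6] at h
          refine coset_fix α r hr hαr z t s2 h 2 ?_
          rw [hz, dT_pow, ← dT_one T hT]
          congr 1 <;> first | rfl | exact u3_f1 | exact u3_f2 | exact u3_f3 | exact u3_f4 | exact u3_f5 | exact u3_f6 | exact u3_f7 | exact u3_f8 | exact u3_f9 | decide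
      · exfalso
        apply e7 a
        rw [← h]
        exact hαt2
  -- step 4
  apply MulEquiv.ext
  intro x
  rw [MulAut.one_apply]
  rcases casesT T hT x with ⟨a, s, rfl⟩ | ⟨a, s, rfl⟩
  · rcases Int.units_eq_one_or s with rfl | rfl
    · rcases hU a with rfl | rfl
      · rw [dT_one, map_one]
      · rw [← hz, s2]
    · rcases hU a with rfl | rfl
      · rw [← e5, map_mul, s2', s3]
      · rw [← e4, map_mul, s1, s3]
  · rcases Int.units_eq_one_or s with rfl | rfl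
    · rcases hU a with rfl | rfl
      · rw [← ht, s3]
      · rw [← e6, map_mul, s2, s3]
    · rcases hU a with rfl | rfl
      · rw [← hp, s1]
      · rw [← hp', s2']

end small

theorem result' (q m : ℕ) [Fact q.Prime] (hq : q = 2 ^ m + 1) (hq5 : q ≠ 5)
    (T : Subgroup ((Fin 2 → ZMod q) ≃ₗ[ZMod q] (Fin 2 → ZMod q)))
    (hT : ∀ f, f ∈ T ↔ ∃ a s : ZMod q, a ≠ 0 ∧ (s = 1 ∨ s = -1) ∧
      ((∀ v, f v = ![a * v 0, s * a⁻¹ * v 1]) ∨ (∀ v, f v = ![s * a⁻¹ * v 1, a * v 0]))) :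
    IsPGroup 2 (MulAut T) := by
  have hqp : q.Prime := Fact.out
  rcases Nat.lt_or_ge m 4 with hm | hm
  · interval_cases m
    · exact case_two T hT (by rw [hq]; norm_num)
    · exact case_three T hT (by rw [hq]; norm_num)
    · exact absurd (by rw [hq]; norm_num) hq5
    · exfalso
      rw [hq] at hqp
      norm_num at hqp
  · exact general_case T hT m hq hm


/-- Let q = 2^m + 1 be a prime other than 5. Then the automorphism group of the group of linear maps of F_q² of the forms (x, y) ↦ (a x, ± a⁻¹ y) and (x, y) ↦ (± a⁻¹ y, a x) with a ≠ 0 is itself a 2-group. -/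
theorem result (q m : ℕ) [Fact q.Prime] (hq : q = 2 ^ m + 1) (hq5 : q ≠ 5)
    (T : Subgroup ((Fin 2 → ZMod q) ≃ₗ[ZMod q] (Fin 2 → ZMod q)))
    (hT : ∀ f, f ∈ T ↔ ∃ a s : ZMod q, a ≠ 0 ∧ (s = 1 ∨ s = -1) ∧
      ((∀ v, f v = ![a * v 0, s * a⁻¹ * v 1]) ∨ (∀ v, f v = ![s * a⁻¹ * v 1, a * v 0]))) :
    IsPGroup 2 (MulAut T) := by
  exact result' q m hq hq5 T hT

end Cfsg.Agent.S3382
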