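import Cfsg.Statements.S3383

set_option autoImplicit false
open Cfsg
open scoped Pointwise

namespace Cfsg.Agent.S3383

theorem mem_conj_smul_iff {L : Type*} [Group L] (H : Subgroup L) (g x : L) :
    x ∈ MulAut.conj g • H ↔ g⁻¹ * x * g ∈ H := by
  rw [Subgroup.mem_pointwise_smul_iff_inv_smul_mem]
  simp [MulAut.smul_def]

theorem result {L : Type*} [Group L] [Finite L]
    (H : Subgroup L) (hH : Cfsg.IsFrobeniusComplement H)
    (K : Subgroup L) (hK : (K : Set L) = Cfsg.frobeniusKernel H) :
    K.Characteristic ∧ ∀ N : Subgroup L, N.Normal → K ≤ N ∨ N ≤ K := by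
  classical
  obtain ⟨hHbot, hHtop, hfrob⟩ := hH
  have memK : ∀ x : L, x ∈ K ↔ (x = 1 ∨ ∀ g : L, x ∉ MulAut.conj g • H) := by
    intro x
    have : x ∈ (K : Set L) ↔ x ∈ Cfsg.frobeniusKernel H := by rw [hK]
    exact this
  -- K is normal
  have hKnormal : K.Normal := by
    constructor
    intro x hx a
    rw [memK] at hx ⊢
    rcases hx with rfl | hx
    · left; simp
    · right
      intro g hg
      apply hx (a⁻¹ * g)
      rw [mem_conj_smul_iff] at hg ⊢
      have : (a⁻¹ * g)⁻¹ * x * (a⁻¹ * g) = g⁻¹ * (a * x * a⁻¹) * g := by group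
      rw [this]
      exact hg
  -- an element of K commuting with a nontrivial element of H is trivial
  have key : ∀ h ∈ H, h ≠ 1 → ∀ k ∈ K, k * h = h * k → k = 1 := by
    intro h hh hh1 k hk hcomm
    have hkH : k ∈ H := by
      by_contra hkH
      have h1 := hfrob k hkH
      have h2 : h ∈ H ⊓ (MulAut.conj k • H) := by
        refine Subgroup.mem_inf.mpr ⟨hh, ?_⟩
        rw [mem_conj_smul_iff]
        have : k⁻¹ * h * k = h := by
          rw [mul_assoc, ← hcomm, ← mul_assoc, inv_mul_cancel, one_mul]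
        rw [this]
        exact hh
      rw [h1] at h2
      exact hh1 (Subgroup.mem_bot.mp h2)
    rcases (memK k).mp hk with h1 | h1
    · exact h1
    · exfalso
      apply h1 1
      rw [mem_conj_smul_iff]
      simpa using hkH
  -- comparability with normal subgroups
  have hcomp : ∀ N : Subgroup L, N.Normal → K ≤ N ∨ N ≤ K := by
    intro N hN
    by_cases hNK : N ≤ K
    · exact Or.inr hNK
    · left
      rw [SetLike.not_le_iff_exists] at hNK
      obtain ⟨n, hnN, hnK⟩ := hNK
      rw [memK] at hnK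
      push Not at hnK
      obtain ⟨hn1, g, hg⟩ := hnK
      rw [mem_conj_smul_iff] at hg
      set h := g⁻¹ * n * g with hdef
      have hhN : h ∈ N := by
        have := hN.conj_mem n hnN g⁻¹
        simpa [hdef] using this
      have hh1 : h ≠ 1 := by
        intro h1
        apply hn1
        have : n = g * h * g⁻¹ := by rw [hdef]; group
        rw [this, h1]; group
      -- the map k ↦ k⁻¹ * (h⁻¹ * k * h) on K
      let f : K → K := fun k => ⟨(k : L)⁻¹ * (h⁻¹ * k * h),
        K.mul_mem (K.inv_mem k.2) (by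
          have := hKnormal.conj_mem k k.2 h⁻¹
          simpa using this)⟩
      have hinj : Function.Injective f := by
        intro k m hkm
        have hkm' : (k : L)⁻¹ * (h⁻¹ * k * h) = (m : L)⁻¹ * (h⁻¹ * m * h) := congrArg Subtype.val hkm
        have hc : ((m : L) * (k : L)⁻¹) * h = h * ((m : L) * (k : L)⁻¹) := by
          have e1 : (m : L) * (k : L)⁻¹ = h⁻¹ * (m * (k : L)⁻¹) * h := by
            have := congrArg (fun z => (m : L) * z * (h⁻¹ * (k : L)⁻¹ * h)) hkm'
            calc (m : L) * (k : L)⁻¹ = (m : L) * ((k : L)⁻¹ * (h⁻¹ * k * h)) * (h⁻¹ * (k : L)⁻¹ * h) := by group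
              _ = (m : L) * ((m : L)⁻¹ * (h⁻¹ * m * h)) * (h⁻¹ * (k : L)⁻¹ * h) := this
              _ = h⁻¹ * (m * (k : L)⁻¹) * h := by group
          calc ((m : L) * (k : L)⁻¹) * h = (h⁻¹ * (m * (k : L)⁻¹) * h) * h := by rw [← e1]
            _ = h⁻¹ * ((m * (k : L)⁻¹) * h) * h := by group
            _ = h * (h⁻¹ * (h⁻¹ * (m * (k : L)⁻¹) * h)) * h := by group
            _ = h * (h⁻¹ * ((m : L) * (k : L)⁻¹)) * h := by rw [← e1]
            _ = ((m : L) * (k : L)⁻¹) * h := by group
            _ = h * (h⁻¹ * ((m : L) * (k : L)⁻¹) * h) := by group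
            _ = h * ((m : L) * (k : L)⁻¹) := by rw [← e1]
        have := key h hg hh1 ((m : L) * (k : L)⁻¹) (K.mul_mem m.2 (K.inv_mem k.2)) hc
        have hmk : (m : L) = k := by
          rw [mul_inv_eq_one] at this
          exact this
        exact (Subtype.ext hmk).symm
      have hsurj : Function.Surjective f := Finite.injective_iff_surjective.mp hinj
      intro k hk
      obtain ⟨k', hk'⟩ := hsurj ⟨k, hk⟩
      have hk'' : (k' : L)⁻¹ * (h⁻¹ * k' * h) = k := congrArg Subtype.val hk'
      rw [← hk'']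
      have h3 : (k' : L)⁻¹ * (h⁻¹ * k' * h) = ((k' : L)⁻¹ * h⁻¹ * ((k' : L)⁻¹)⁻¹) * h := by group
      rw [h3]
      exact N.mul_mem (hN.conj_mem h⁻¹ (N.inv_mem hhN) (k' : L)⁻¹) hhN
  refine ⟨?_, hcomp⟩
  rw [Subgroup.characteristic_iff_map_le]
  intro ϕ
  have hNn : (K.map ϕ.toMonoidHom).Normal := hKnormal.map ϕ.toMonoidHom ϕ.surjective
  rcases hcomp (K.map ϕ.toMonoidHom) hNn with h1 | h1
  · have hcard : Nat.card (K.map ϕ.toMonoidHom) = Nat.card K :=
      Subgroup.card_map_of_injective ϕ.injective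
    have := Subgroup.eq_of_le_of_card_ge h1 (le_of_eq hcard)
    rw [← this]
  · exact h1

end Cfsg.Agent.S3383
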