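import Cfsg.Statements.S3389
import Mathlib

set_option autoImplicit false
open Cfsg

namespace Cfsg.Agent.S3389

open MulAction

section
variable {G : Type*} [Group G] [Finite G] {Ω : Type*} [Fintype Ω] [MulAction G Ω]

/-- the centre acts freely on the fixed points of any element -/
theorem center_dvd [FaithfulSMul G Ω] (htr : MulAction.IsPretransitive G Ω) (g : G) :
    Nat.card (Subgroup.center G) ∣ Nat.card (MulAction.fixedBy Ω g) := by
  let S : SubMulAction (Subgroup.center G) Ω :=
    { carrier := MulAction.fixedBy Ω g
      smul_mem' := by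
        intro c x hx
        have hx' : g • x = x := hx
        show g • (c • x) = c • x
        have hc := Subgroup.mem_center_iff.mp c.2 g
        rw [Subgroup.smul_def, ← mul_smul, hc, mul_smul, hx'] }
  have hfree : ∀ b : S, MulAction.stabilizer (Subgroup.center G) b = ⊥ := by
    intro b
    rw [eq_bot_iff]
    intro z hz
    rw [MulAction.mem_stabilizer_iff] at hz
    have hz' : (z : G) • (b : Ω) = (b : Ω) := by
      have := congrArg (Subtype.val) hz
      rwa [SubMulAction.val_smul, Subgroup.smul_def] at this
    have hall : ∀ ω : Ω, (z : G) • ω = (1 : G) • ω := by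
      intro ω
      obtain ⟨h, hh⟩ := htr.exists_smul_eq (b : Ω) ω
      have hc := Subgroup.mem_center_iff.mp z.2 h
      rw [one_smul, ← hh, ← mul_smul, ← hc, mul_smul, hz']
    have h1 : (z : G) = 1 := FaithfulSMul.eq_of_smul_eq_smul hall
    rw [Subgroup.mem_bot]
    exact Subtype.ext h1
  have e := MulAction.selfEquivOrbitsQuotientProd hfree
  have h1 : Nat.card S = Nat.card (Quotient (MulAction.orbitRel (Subgroup.center G) S)) *
      Nat.card (Subgroup.center G) := by
    rw [Nat.card_congr e, Nat.card_prod]
  have h2 : Nat.card S = Nat.card (MulAction.fixedBy Ω g) := rfl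
  rw [← h2, h1]
  exact Dvd.intro_left _ rfl

/-- at most `2` fixed points and two known ones: any fixed point is one of them -/
theorem fix_sub {g : G} (hg : Nat.card (MulAction.fixedBy Ω g) ≤ 2) {γ δ ω : Ω} (hγδ : γ ≠ δ)
    (hγ : g • γ = γ) (hδ : g • δ = δ) (hω : g • ω = ω) : ω = γ ∨ ω = δ := by
  by_contra hcon
  push_neg at hcon
  have hsub : ({γ, δ, ω} : Set Ω) ⊆ MulAction.fixedBy Ω g := by
    intro e he
    rcases he with rfl | rfl | rfl
    · exact hγ
    · exact hδ
    · exact hω
  have h3 : ({γ, δ, ω} : Set Ω).ncard = 3 := by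
    rw [Set.ncard_eq_three]
    exact ⟨γ, δ, ω, hγδ, hcon.1.symm, hcon.2.symm, rfl⟩
  have := Set.ncard_le_ncard hsub (Set.toFinite _)
  rw [h3, ← Nat.card_coe_set_eq] at this
  omega

end

/-- Let G be a finite group acting faithfully and transitively on a finite set Ω with fixity k ≥ 1: every non-identity element fixes at most k points and some non-identity element fixes exactly k points. Then |Z(G)| divides k; if k = 2 then |G| is even; and for every prime p > k dividing |G| and every point α, either p does not divide |G_α| or G_α contains a Sylow p-subgroup of G. -/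
theorem result {G : Type*} [Group G] [Finite G] {Ω : Type*} [Fintype Ω] [MulAction G Ω] [FaithfulSMul G Ω]
    (htr : MulAction.IsPretransitive G Ω) (k : ℕ) (hk : 1 ≤ k)
    (hfix : ∀ g : G, g ≠ 1 → Nat.card (MulAction.fixedBy Ω g) ≤ k) (hex : ∃ g : G, g ≠ 1 ∧ Nat.card (MulAction.fixedBy Ω g) = k) :
    Nat.card (Subgroup.center G) ∣ k ∧ (k = 2 → 2 ∣ Nat.card G) ∧
      ∀ (p : ℕ), p.Prime → k < p → p ∣ Nat.card G → ∀ α : Ω,
        ¬ p ∣ Nat.card (MulAction.stabilizer G α) ∨ ¬ p ∣ (MulAction.stabilizer G α).index := by
  classical
  obtain ⟨g₀, hg₀1, hg₀k⟩ := hex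
  refine ⟨?_, ?_, ?_⟩
  · rw [← hg₀k]
    exact center_dvd htr g₀
  · intro hk2
    subst hk2
    -- two fixed points
    obtain ⟨⟨α, hα⟩, ⟨β, hβ⟩, hne, -⟩ := Nat.card_eq_two_iff.mp hg₀k
    have hαβ : α ≠ β := fun h => hne (Subtype.ext h)
    have hα' : g₀ • α = α := hα
    have hβ' : g₀ • β = β := hβ
    -- a swapping element
    have hswap : ∃ s : G, s • α = β ∧ s • β = α := by
      by_contra hns
      push_neg at hns
      obtain ⟨H, hH⟩ : ∃ H : Subgroup G, H = MulAction.stabilizer G α ⊓ MulAction.stabilizer G β :=
        ⟨_, rfl⟩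
      have memH : ∀ x : G, x ∈ H ↔ x • α = α ∧ x • β = β := by
        intro x
        rw [hH, Subgroup.mem_inf, MulAction.mem_stabilizer_iff, MulAction.mem_stabilizer_iff]
      have hg₀H : g₀ ∈ H := (memH g₀).mpr ⟨hα', hβ'⟩
      have hHcard : 2 ≤ Nat.card H := by
        have : H ≠ ⊥ := by
          intro h
          rw [h, Subgroup.mem_bot] at hg₀H
          exact hg₀1 hg₀H
        have := (Subgroup.one_lt_card_iff_ne_bot (H := H)).mpr this
        omega
      haveI : Fintype G := Fintype.ofFinite G
      -- fact A
      have factA : ∀ g : G, g ≠ 1 → ∀ x : G, x⁻¹ * g * x ∈ H →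
          g • (x • α) = x • α ∧ g • (x • β) = x • β := by
        intro g _ x hx
        obtain ⟨h1, h2⟩ := (memH _).mp hx
        constructor
        · have : g • x • α = x • (x⁻¹ * g * x) • α := by
            rw [← mul_smul, ← mul_smul]; congr 1; group
          rw [this, h1]
        · have : g • x • β = x • (x⁻¹ * g * x) • β := by
            rw [← mul_smul, ← mul_smul]; congr 1; group
          rw [this, h2]
      -- fact B
      have factB : ∀ g : G, g ≠ 1 → ∀ x y : G, x⁻¹ * g * x ∈ H → y⁻¹ * g * y ∈ H →
          x⁻¹ * y ∈ H := by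
        intro g hg1 x y hx hy
        obtain ⟨hxa, hxb⟩ := factA g hg1 x hx
        obtain ⟨hya, hyb⟩ := factA g hg1 y hy
        have hxab : x • α ≠ x • β := fun h => hαβ (MulAction.injective x h)
        have h2 := hfix g hg1
        have c1 := fix_sub h2 hxab hxa hxb hya
        have c2 := fix_sub h2 hxab hxa hxb hyb
        have hu : ∀ ω ω' : Ω, y • ω = x • ω' → (x⁻¹ * y) • ω = ω' := by
          intro ω ω' h
          rw [mul_smul, h, inv_smul_smul]
        have hyab : y • α ≠ y • β := fun h => hαβ (MulAction.injective y h)
        rw [memH]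
        rcases c1 with c1 | c1
        · rcases c2 with c2 | c2
          · exact absurd (c1.trans c2.symm) hyab
          · exact ⟨hu _ _ c1, hu _ _ c2⟩
        · rcases c2 with c2 | c2
          · exact absurd (hu _ _ c2) (hns _ (hu _ _ c1))
          · exact absurd (c1.trans c2.symm) hyab
      -- fixed points on the coset space
      have memfix : ∀ (g x : G), ((x : G ⧸ H) ∈ MulAction.fixedBy (G ⧸ H) g) ↔
          x⁻¹ * g * x ∈ H := by
        intro g x
        rw [MulAction.mem_fixedBy, MulAction.Quotient.smul_mk, smul_eq_mul, eq_comm,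
          QuotientGroup.eq, mul_assoc]
      -- Burnside on Ω
      have hB1 : (∑ g : G, Fintype.card (MulAction.fixedBy Ω g)) = Fintype.card G := by
        rw [MulAction.sum_card_fixedBy_eq_card_orbits_mul_card_group]
        have : Fintype.card (Quotient (MulAction.orbitRel G Ω)) = 1 := by
          rw [Fintype.card_eq_one_iff]
          haveI := (MulAction.pretransitive_iff_subsingleton_quotient G Ω).mp htr
          exact ⟨Quotient.mk'' α, fun y => Subsingleton.elim _ _⟩
        rw [this, one_mul]
      have hB2 : (∑ g : G, Fintype.card (MulAction.fixedBy (G ⧸ H) g)) = Fintype.card G := by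
        rw [MulAction.sum_card_fixedBy_eq_card_orbits_mul_card_group]
        have : Fintype.card (Quotient (MulAction.orbitRel G (G ⧸ H))) = 1 := by
          rw [Fintype.card_eq_one_iff]
          haveI := (MulAction.pretransitive_iff_subsingleton_quotient G (G ⧸ H)).mp inferInstance
          exact ⟨Quotient.mk'' ((1 : G) : G ⧸ H), fun y => Subsingleton.elim _ _⟩
        rw [this, one_mul]
      -- bounds
      have hQ1 : ∀ g : G, g ≠ 1 → Fintype.card (MulAction.fixedBy (G ⧸ H) g) ≤ 1 := by
        intro g hg1
        rw [Fintype.card_le_one_iff_subsingleton]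
        constructor
        rintro ⟨q1, hq1⟩ ⟨q2, hq2⟩
        apply Subtype.ext
        show q1 = q2
        induction q1 using QuotientGroup.induction_on with
        | H x =>
          induction q2 using QuotientGroup.induction_on with
          | H y =>
            rw [QuotientGroup.eq]
            exact factB g hg1 x y ((memfix g x).mp hq1) ((memfix g y).mp hq2)
      have hΩ2 : ∀ g : G, g ≠ 1 → 0 < Fintype.card (MulAction.fixedBy (G ⧸ H) g) →
          2 ≤ Fintype.card (MulAction.fixedBy Ω g) := by
        intro g hg1 hpos
        obtain ⟨⟨q, hq⟩⟩ := Fintype.card_pos_iff.mp hpos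
        induction q using QuotientGroup.induction_on with
        | H x =>
          obtain ⟨hxa, hxb⟩ := factA g hg1 x ((memfix g x).mp hq)
          have hxab : x • α ≠ x • β := fun h => hαβ (MulAction.injective x h)
          have : 1 < Fintype.card (MulAction.fixedBy Ω g) := by
            rw [Fintype.one_lt_card_iff]
            exact ⟨⟨x • α, hxa⟩, ⟨x • β, hxb⟩, fun h => hxab (congrArg Subtype.val h)⟩
          omega
      obtain ⟨S, hS⟩ : ∃ S : Finset G, S = (Finset.univ.erase (1 : G)).filter
          (fun g => 0 < Fintype.card (MulAction.fixedBy (G ⧸ H) g)) := ⟨_, rfl⟩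
      have hone_Q : Fintype.card (MulAction.fixedBy (G ⧸ H) (1 : G)) = H.index := by
        rw [Subgroup.index_eq_card, Nat.card_eq_fintype_card]
        apply Fintype.card_congr
        exact (Equiv.subtypeUnivEquiv (fun q => by simp [MulAction.mem_fixedBy]))
      have hone_Ω : Fintype.card (MulAction.fixedBy Ω (1 : G)) = Fintype.card Ω := by
        apply Fintype.card_congr
        exact (Equiv.subtypeUnivEquiv (fun q => by simp [MulAction.mem_fixedBy]))
      have hsum2 : Fintype.card G ≤ H.index + S.card := by
        rw [← hB2, ← Finset.add_sum_erase Finset.univ _ (Finset.mem_univ (1 : G)), hone_Q]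
        apply Nat.add_le_add_left
        calc (∑ x ∈ Finset.univ.erase (1 : G), Fintype.card (MulAction.fixedBy (G ⧸ H) x))
            ≤ ∑ x ∈ Finset.univ.erase (1 : G),
                (if 0 < Fintype.card (MulAction.fixedBy (G ⧸ H) x) then 1 else 0) := by
              apply Finset.sum_le_sum
              intro x hx
              have hx1 : x ≠ 1 := (Finset.mem_erase.mp hx).1
              have := hQ1 x hx1
              split_ifs with h
              · exact this
              · omega
          _ = S.card := by
              rw [hS, Finset.card_filter]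
      have hsum1 : Fintype.card Ω + 2 * S.card ≤ Fintype.card G := by
        rw [← hB1, ← Finset.add_sum_erase Finset.univ _ (Finset.mem_univ (1 : G)), hone_Ω]
        apply Nat.add_le_add_left
        calc 2 * S.card = ∑ x ∈ Finset.univ.erase (1 : G),
                (if 0 < Fintype.card (MulAction.fixedBy (G ⧸ H) x) then 2 else 0) := by
              rw [hS, Finset.card_filter, Finset.mul_sum]
              apply Finset.sum_congr rfl
              intro x _
              split_ifs <;> simp
          _ ≤ ∑ x ∈ Finset.univ.erase (1 : G), Fintype.card (MulAction.fixedBy Ω x) := by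
              apply Finset.sum_le_sum
              intro x hx
              have hx1 : x ≠ 1 := (Finset.mem_erase.mp hx).1
              split_ifs with h
              · exact hΩ2 x hx1 h
              · omega
      have hidx := Subgroup.index_mul_card H
      rw [Nat.card_eq_fintype_card (α := G)] at hidx
      have hΩpos : 0 < Fintype.card Ω := Fintype.card_pos_iff.mpr ⟨α⟩
      have : 2 * H.index ≤ Fintype.card G := by
        rw [← hidx, mul_comm]
        exact Nat.mul_le_mul_left _ hHcard
      omega
    obtain ⟨s, hsα, hsβ⟩ := hswap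
    by_contra h2
    have hodd : ¬ 2 ∣ orderOf s := fun h => h2 (h.trans (orderOf_dvd_natCard s))
    obtain ⟨m, hm⟩ : ∃ m, orderOf s = 2 * m + 1 := by
      have : Odd (orderOf s) := by
        rw [← Nat.not_even_iff_odd, even_iff_two_dvd]; exact hodd
      obtain ⟨m, hm⟩ := this
      exact ⟨m, hm⟩
    have hs2 : s ^ 2 ∈ MulAction.stabilizer G α := by
      rw [MulAction.mem_stabilizer_iff, pow_two, mul_smul, hsα, hsβ]
    have hs : s = (s ^ 2) ^ (m + 1) := by
      rw [← pow_mul]
      have : 2 * (m + 1) = orderOf s + 1 := by omega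
      rw [this, pow_succ, pow_orderOf_eq_one, one_mul]
    have hsmem : s ∈ MulAction.stabilizer G α := by
      rw [hs]; exact Subgroup.pow_mem _ hs2 _
    rw [MulAction.mem_stabilizer_iff, hsα] at hsmem
    exact hαβ hsmem.symm
  · intro p hp hkp hpG α
    by_contra hcon
    push_neg at hcon
    obtain ⟨hp1, hp2⟩ := hcon
    haveI : Fact p.Prime := ⟨hp⟩
    obtain ⟨y, hy⟩ := exists_prime_orderOf_dvd_card' p hp1
    have hy' : orderOf (y : G) = p := by rw [Subgroup.orderOf_coe]; exact hy
    have hy1 : (y : G) ≠ 1 := by
      intro h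
      rw [h, orderOf_one] at hy'
      exact hp.one_lt.ne hy'
    have hPG : IsPGroup p (Subgroup.zpowers (y : G)) := by
      apply IsPGroup.of_card (n := 1)
      rw [Nat.card_zpowers, hy', pow_one]
    have hmod := hPG.card_modEq_card_fixedPoints Ω
    have hidx : (MulAction.stabilizer G α).index = Nat.card Ω :=
      MulAction.index_stabilizer_of_transitive G α
    have hfp : MulAction.fixedPoints (Subgroup.zpowers (y : G)) Ω = MulAction.fixedBy Ω (y : G) := by
      ext ω
      rw [MulAction.mem_fixedPoints, MulAction.mem_fixedBy]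
      constructor
      · intro h
        exact h ⟨(y : G), Subgroup.mem_zpowers _⟩
      · rintro h ⟨z, hz⟩
        have : Subgroup.zpowers (y : G) ≤ MulAction.stabilizer G ω := by
          rw [Subgroup.zpowers_le]
          exact h
        exact this hz
    rw [hfp] at hmod
    have hdvd : p ∣ Nat.card (MulAction.fixedBy Ω (y : G)) := by
      rw [hidx] at hp2
      exact (Nat.modEq_zero_iff_dvd.mp ((hmod.symm).trans (Nat.modEq_zero_iff_dvd.mpr hp2)))
    have hpos : 0 < Nat.card (MulAction.fixedBy Ω (y : G)) := by
      haveI : Nonempty (MulAction.fixedBy Ω (y : G)) := ⟨⟨α, y.2⟩⟩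
      exact Nat.card_pos
    have := Nat.le_of_dvd hpos hdvd
    have := hfix (y : G) hy1
    omega

end Cfsg.Agent.S3389
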