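import Cfsg.Statements.S3419
import Mathlib
import Cfsg.Agent.Lib.Helper8.TwoPrimes
import Cfsg.Agent.Lib.Helper13.Hall

set_option autoImplicit false
open Cfsg

namespace Cfsg.Agent.S3419


theorem prime_dvd_multiset_lcm (r : ℕ) (hr : r.Prime) (s : Multiset ℕ) (h : r ∣ s.lcm) :
    ∃ c ∈ s, r ∣ c := by
  induction s using Multiset.induction_on with
  | empty =>
    rw [Multiset.lcm_zero] at h
    exact absurd (Nat.dvd_one.mp h) hr.one_lt.ne'
  | cons a s ih =>
    rw [Multiset.lcm_cons, lcm_eq_nat_lcm] at h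
    have h2 := h.trans (Nat.lcm_dvd_mul a s.lcm)
    rcases (Nat.Prime.dvd_mul hr).1 h2 with h3 | h3
    · exact ⟨a, Multiset.mem_cons_self a s, h3⟩
    · obtain ⟨c, hc, hrc⟩ := ih h3
      exact ⟨c, Multiset.mem_cons_of_mem hc, hrc⟩

theorem perm_sum_le (n : ℕ) (σ : Equiv.Perm (Fin n)) (p q : ℕ) (hp : p.Prime) (hq : q.Prime)
    (hpq : p ≠ q) (ho : orderOf σ = p * q) : p + q ≤ n := by
  have hsum : σ.cycleType.sum ≤ n := by simpa using σ.sum_cycleType_le
  have hlcm := σ.lcm_cycleType
  obtain ⟨cp, hcp, hpc⟩ := prime_dvd_multiset_lcm p hp σ.cycleType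
    (by rw [hlcm, ho]; exact dvd_mul_right p q)
  obtain ⟨cq, hcq, hqc⟩ := prime_dvd_multiset_lcm q hq σ.cycleType
    (by rw [hlcm, ho]; exact dvd_mul_left q p)
  have hcp0 : 0 < cp := by have := Equiv.Perm.two_le_of_mem_cycleType hcp; omega
  have hcq0 : 0 < cq := by have := Equiv.Perm.two_le_of_mem_cycleType hcq; omega
  have hp2 := hp.two_le
  have hq2 := hq.two_le
  by_cases hc : cp = cq
  · subst hc
    have hcop : Nat.Coprime p q := (Nat.coprime_primes hp hq).2 hpq
    have h1 : p * q ∣ cp := hcop.mul_dvd_of_dvd_of_dvd hpc hqc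
    have h2 : p * q ≤ cp := Nat.le_of_dvd hcp0 h1
    have h3 : cp ≤ σ.cycleType.sum := Multiset.le_sum_of_mem hcp
    nlinarith
  · have h1 : cp ∈ σ.cycleType.erase cq := (Multiset.mem_erase_of_ne hc).2 hcp
    have h2 : cp ≤ (σ.cycleType.erase cq).sum := Multiset.le_sum_of_mem h1
    have h3 : cq + (σ.cycleType.erase cq).sum = σ.cycleType.sum := Multiset.sum_erase hcq
    have h4 : p ≤ cp := Nat.le_of_dvd hcp0 hpc
    have h5 : q ≤ cq := Nat.le_of_dvd hcq0 hqc
    omega

theorem exists_orderOf_mul {H : Type*} [Group H] [Finite H] (p q a : ℕ) [hp : Fact p.Prime]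
    [hq : Fact q.Prime] (hpq : p ≠ q) (ha : 1 ≤ a) (hcard : Nat.card H = p ^ a * q)
    (hd : ∀ d, d ∣ p ^ a → d % q = 1 → d = 1) (hcop : Nat.Coprime p (q - 1)) :
    ∃ h : H, orderOf h = p * q := by
  obtain ⟨Q⟩ : Nonempty (Sylow q H) := inferInstance
  have hqp : ¬ q ∣ p := by
    intro h
    exact hpq ((Nat.prime_dvd_prime_iff_eq hq.out hp.out).1 h).symm
  have hQcard : Nat.card Q = q := by
    rw [Sylow.card_eq_multiplicity, hcard]
    have : (p ^ a * q).factorization q = 1 := by
      rw [Nat.factorization_mul (pow_ne_zero _ hp.out.ne_zero) hq.out.ne_zero,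
        Nat.factorization_pow]
      simp [Nat.Prime.factorization_self hq.out, Nat.factorization_eq_zero_of_not_dvd hqp]
    rw [this, pow_one]
  have hQidx : (Q : Subgroup H).index = p ^ a := by
    have := (Q : Subgroup H).card_mul_index
    rw [hQcard, hcard, mul_comm] at this
    exact Nat.eq_of_mul_eq_mul_right hq.out.pos this
  have hsyl1 : Nat.card (Sylow q H) = 1 := by
    apply hd
    · rw [← hQidx]; exact Sylow.card_dvd_index Q
    · have := card_sylow_modEq_one q H
      rw [Nat.ModEq] at this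
      rw [this]; exact Nat.mod_eq_of_lt hq.out.one_lt
  have hnorm : Subgroup.normalizer ((Q : Subgroup H) : Set H) = ⊤ := by
    have e := Sylow.card_eq_index_normalizer Q
    rw [hsyl1] at e
    exact Subgroup.index_eq_one.mp e.symm
  have : IsCyclic (Q : Subgroup H) := isCyclic_of_prime_card hQcard
  have key := Subgroup.card_dvd_of_injective _
    (QuotientGroup.kerLift_injective (Q : Subgroup H).normalizerMonoidHom)
  rw [Subgroup.normalizerMonoidHom_ker, ← Subgroup.index, ← Subgroup.relIndex] at key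
  rw [IsCyclic.card_mulAut, hQcard, Nat.totient_prime hq.out, hnorm,
    Subgroup.relIndex_top_right] at key
  have h2 : (Subgroup.centralizer ((Q : Subgroup H) : Set H)).index ∣ p ^ a := by
    rw [← hQidx]; exact Subgroup.index_dvd_of_le (Subgroup.le_centralizer (Q : Subgroup H))
  have h3 : (Subgroup.centralizer ((Q : Subgroup H) : Set H)).index = 1 :=
    Nat.eq_one_of_dvd_coprimes (Nat.Coprime.pow_left a hcop) h2 key
  have hcent : Subgroup.centralizer ((Q : Subgroup H) : Set H) = ⊤ := Subgroup.index_eq_one.mp h3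
  have hpdvd : p ∣ Nat.card H := by
    rw [hcard]; exact Dvd.dvd.mul_right (dvd_pow_self p (by omega)) q
  obtain ⟨x, hx⟩ := exists_prime_orderOf_dvd_card' p hpdvd
  obtain ⟨y, hy⟩ := exists_prime_orderOf_dvd_card' (G := (Q : Subgroup H)) q (by rw [hQcard])
  have hy' : orderOf (y : H) = q := by rw [Subgroup.orderOf_coe]; exact hy
  have hcomm : Commute x (y : H) := by
    have hxc : x ∈ Subgroup.centralizer ((Q : Subgroup H) : Set H) := by rw [hcent]; trivial
    rw [Subgroup.mem_centralizer_iff] at hxc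
    exact (hxc (y : H) y.2).symm
  refine ⟨x * (y : H), ?_⟩
  rw [hcomm.orderOf_mul_eq_mul_orderOf_of_coprime, hx, hy']
  rw [hx, hy']
  exact (Nat.coprime_primes hp.out hq.out).2 hpq

theorem no_solvable_aux {G : Type*} [Group G] [Finite G] (n : ℕ)
    (hspec : Set.range (orderOf : G → ℕ) =
      Set.range (orderOf : ↥(alternatingGroup (Fin n)) → ℕ))
    [Group.IsSolvable G] (p q a r : ℕ) (hp : p.Prime) (hq : q.Prime) (hpq : p ≠ q) (ha : 1 ≤ a)
    (hG : Nat.card G = (p ^ a * q) * r) (hcopr : Nat.Coprime (p ^ a * q) r)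
    (hd : ∀ d, d ∣ p ^ a → d % q = 1 → d = 1) (hcop : Nat.Coprime p (q - 1))
    (hsum : n < p + q) : False := by
  obtain ⟨H, hH, -⟩ := Cfsg.Agent.Lib.Helper13.hall_exists_card (p ^ a * q) r hG hcopr
  have := Fact.mk hp
  have := Fact.mk hq
  obtain ⟨h, hh⟩ := exists_orderOf_mul (H := H) p q a hpq ha hH hd hcop
  have hmem : p * q ∈ Set.range (orderOf : G → ℕ) :=
    ⟨(h : G), by rw [Subgroup.orderOf_coe, hh]⟩
  rw [hspec] at hmem
  obtain ⟨σ, hσ⟩ := hmem
  have h2 : orderOf (σ : Equiv.Perm (Fin n)) = p * q := by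
    rw [Subgroup.orderOf_coe]; exact hσ
  have := perm_sum_le n σ.1 p q hp hq hpq h2
  omega

theorem not_sq_dvd_factorial (p n : ℕ) (hp : p.Prime) (h1 : p ≤ n) (h2 : n < 2 * p)
    (h3 : 3 ≤ p) : ¬ p ^ 2 ∣ n.factorial := by
  have hlog : Nat.log p n < 2 := Nat.log_lt_of_lt_pow (by omega) (by nlinarith)
  rw [hp.pow_dvd_factorial_iff hlog]
  have hI : Finset.Ico 1 2 = {1} := by decide
  rw [hI, Finset.sum_singleton, pow_one]
  have : n / p = 1 := Nat.div_eq_of_lt_le (by omega) (by omega)
  omega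




/-- Let n ≥ 5 and let G be a finite group with the same order and the same set of element orders as the alternating group of degree n. Then G is not solvable. -/
theorem result {G : Type*} [Group G] [Finite G] (n : ℕ) (hn : 5 ≤ n)
    (hcard : Nat.card G = Nat.card ↥(alternatingGroup (Fin n)))
    (hspec : Set.range (orderOf : G → ℕ) = Set.range (orderOf : ↥(alternatingGroup (Fin n)) → ℕ)) :
    ¬ Group.IsSolvable G := by
  intro hs
  have hn2 : Nontrivial (Fin n) := Fin.nontrivial_iff_two_le.mpr (by omega)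
  have h2card : 2 * Nat.card G = n.factorial := by
    rw [hcard, two_mul_nat_card_alternatingGroup, Nat.card_perm, Nat.card_eq_fintype_card,
      Fintype.card_fin]
  by_cases h6 : n = 6
  · subst h6
    have hG : Nat.card G = (3 ^ 2 * 5) * 8 := by
      have : (6 : ℕ).factorial = 720 := by decide
      omega
    refine no_solvable_aux 6 hspec 3 5 2 8 (by norm_num) (by norm_num) (by norm_num)
      (by norm_num) hG (by norm_num) ?_ (by norm_num) (by norm_num)
    intro d hd h
    have hle : d ≤ 9 := Nat.le_of_dvd (by norm_num) hd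
    norm_num at hd
    interval_cases d <;> omega
  by_cases h10 : n = 10
  · subst h10
    have hG : Nat.card G = (5 ^ 2 * 7) * 10368 := by
      have : (10 : ℕ).factorial = 3628800 := by decide
      omega
    refine no_solvable_aux 10 hspec 5 7 2 10368 (by norm_num) (by norm_num) (by norm_num)
      (by norm_num) hG (by norm_num) ?_ (by norm_num) (by norm_num)
    intro d hd h
    have hle : d ≤ 25 := Nat.le_of_dvd (by norm_num) hd
    norm_num at hd
    interval_cases d <;> omega
  obtain ⟨p, q, hp, hq, hpq, hqn, hnp⟩ :=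
    Cfsg.Agent.Lib.Helper8.exists_primes_upper_half n hn h6 h10
  have hp3 : 3 ≤ p := by omega
  have hq3 : 3 ≤ q := by omega
  have hpn : p ≤ n := by omega
  have hnq : n < 2 * q := by omega
  have hodd : ∀ s : ℕ, s.Prime → 3 ≤ s → s ≤ n → s ∣ Nat.card G := by
    intro s hs' hs3 hsn
    have h1 : s ∣ 2 * Nat.card G := by rw [h2card]; exact Nat.dvd_factorial hs'.pos hsn
    have hc : Nat.Coprime s 2 := by
      rw [Nat.Prime.coprime_iff_not_dvd hs']
      intro h
      have := Nat.le_of_dvd (by norm_num) h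
      omega
    exact hc.dvd_of_dvd_mul_left h1
  have hpG := hodd p hp hp3 hpn
  have hqG := hodd q hq hq3 hqn
  have hpqne : p ≠ q := by omega
  have hcoppq : Nat.Coprime p q := (Nat.coprime_primes hp hq).2 hpqne
  have hpqG : p * q ∣ Nat.card G := hcoppq.mul_dvd_of_dvd_of_dvd hpG hqG
  obtain ⟨r, hr⟩ := hpqG
  have hnosq : ∀ s : ℕ, s.Prime → 3 ≤ s → s ≤ n → n < 2 * s → ¬ s ^ 2 ∣ Nat.card G := by
    intro s hs' hs3 hsn hns h
    apply not_sq_dvd_factorial s n hs' hsn hns hs3
    rw [← h2card]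
    exact Dvd.dvd.mul_left h 2
  have hpr : ¬ p ∣ r := by
    intro h
    apply hnosq p hp hp3 hpn hnp
    obtain ⟨k, hk⟩ := h
    rw [hr, hk]
    exact ⟨q * k, by ring⟩
  have hqr : ¬ q ∣ r := by
    intro h
    apply hnosq q hq hq3 hqn hnq
    obtain ⟨k, hk⟩ := h
    rw [hr, hk]
    exact ⟨p * k, by ring⟩
  have hcopr : Nat.Coprime (p ^ 1 * q) r := by
    rw [pow_one]
    exact Nat.Coprime.mul_left ((Nat.Prime.coprime_iff_not_dvd hp).2 hpr)
      ((Nat.Prime.coprime_iff_not_dvd hq).2 hqr)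
  have hG : Nat.card G = (p ^ 1 * q) * r := by rw [pow_one]; exact hr
  refine no_solvable_aux n hspec p q 1 r hp hq hpqne le_rfl hG hcopr ?_ ?_ (by omega)
  · intro d hd h
    rw [pow_one] at hd
    rcases (Nat.dvd_prime hp).1 hd with h1 | h1
    · exact h1
    · subst h1
      rw [Nat.mod_eq_of_lt hpq] at h
      omega
  · rw [Nat.Prime.coprime_iff_not_dvd hp]
    intro h
    obtain ⟨k, hk⟩ := h
    have hpodd := hp.eq_two_or_odd
    have hqodd := hq.eq_two_or_odd
    rcases Nat.lt_or_ge k 2 with hk2 | hk2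
    · interval_cases k
      · omega
      · omega
    · have : 2 * p ≤ p * k := by nlinarith
      omega

end Cfsg.Agent.S3419
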