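import Cfsg.Statements.S3420
import Mathlib
import Cfsg.Agent.S3419

set_option autoImplicit false
open Cfsg

namespace Cfsg.Agent.S3420


theorem mem_of_orderOf_eq {G : Type*} [Group G] [Finite G] (p : ℕ) (hp : p.Prime)
    (hp2 : ¬ p ^ 2 ∣ Nat.card G) (M : Subgroup G) [M.Normal] (hM : p ∣ Nat.card M) (y : G)
    (hy : orderOf y = p) : y ∈ M := by
  have hcop : ¬ p ∣ M.index := by
    intro h
    apply hp2
    rw [← M.card_mul_index, pow_two]
    exact Nat.mul_dvd_mul hM h
  have h1 : orderOf (QuotientGroup.mk' M y) ∣ p := hy ▸ orderOf_map_dvd _ y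
  have h2 : orderOf (QuotientGroup.mk' M y) ∣ M.index := by
    rw [Subgroup.index_eq_card]
    exact orderOf_dvd_natCard _
  have h3 : orderOf (QuotientGroup.mk' M y) = 1 := by
    rcases (Nat.dvd_prime hp).1 h1 with h | h
    · exact h
    · exfalso
      exact hcop (h ▸ h2)
  rw [orderOf_eq_one_iff] at h3
  exact (QuotientGroup.eq_one_iff y).1 h3

theorem card_sup_dvd {G : Type*} [Group G] [Finite G] (A B : Subgroup G)
    (h : A ≤ Subgroup.normalizer (B : Set G)) :
    Nat.card ↥(A ⊔ B) ∣ Nat.card A * Nat.card B := by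
  have hn1 : (B.subgroupOf A).Normal := Subgroup.normal_subgroupOf_of_le_normalizer h
  have hn2 : (B.subgroupOf (A ⊔ B)).Normal :=
    Subgroup.normal_subgroupOf_of_le_normalizer (sup_le h Subgroup.le_normalizer)
  have e := QuotientGroup.quotientInfEquivProdNormalizerQuotient A B h
  have h1 : Nat.card ↥(A ⊔ B) =
      Nat.card (↥(A ⊔ B) ⧸ B.subgroupOf (A ⊔ B)) * Nat.card (B.subgroupOf (A ⊔ B)) :=
    Subgroup.card_eq_card_quotient_mul_card_subgroup _
  have h2 : Nat.card (B.subgroupOf (A ⊔ B)) = Nat.card B :=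
    Nat.card_congr (Subgroup.subgroupOfEquivOfLe le_sup_right).toEquiv
  have h3 : Nat.card (↥A ⧸ B.subgroupOf A) ∣ Nat.card A := Subgroup.card_quotient_dvd_card _
  rw [h1, h2, ← Nat.card_congr e.toEquiv]
  exact Nat.mul_dvd_mul_right h3 _

theorem factorization_eq_one (p m : ℕ) (hp : p.Prime) (hm : m ≠ 0) (h1 : p ∣ m)
    (h2 : ¬ p ^ 2 ∣ m) : m.factorization p = 1 := by
  have ha : 1 ≤ m.factorization p := (hp.dvd_iff_one_le_factorization hm).1 h1
  have hb : ¬ 2 ≤ m.factorization p := by
    intro h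
    exact h2 ((hp.pow_dvd_iff_le_factorization hm).2 h)
  omega

theorem exists_orderOf_mul_of_normal {G : Type*} [Group G] [Finite G] (r s : ℕ) (hr : r.Prime)
    (hs : s.Prime) (hrs : r ≠ s) (M : Subgroup G) [M.Normal] (hrM : r ∣ Nat.card M)
    (hr2 : ¬ r ^ 2 ∣ Nat.card G) (hsG : s ∣ Nat.card G) (hsM : ¬ s ∣ Nat.card M)
    (hsr : ¬ s ∣ r - 1) : ∃ x : G, orderOf x = r * s := by
  have := Fact.mk hr
  have := Fact.mk hs
  obtain ⟨P⟩ : Nonempty (Sylow r G) := inferInstance
  have hrG : r ∣ Nat.card G := dvd_trans hrM (Subgroup.card_subgroup_dvd_card M)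
  have hPcard : Nat.card P = r := by
    rw [Sylow.card_eq_multiplicity,
      factorization_eq_one r _ hr Nat.card_pos.ne' hrG hr2, pow_one]
  have hPM : (P : Subgroup G) ≤ M := by
    intro y hy
    have h1 : orderOf y ∣ r := by
      have h := orderOf_dvd_natCard (⟨y, hy⟩ : (P : Subgroup G))
      rw [hPcard, Subgroup.orderOf_mk] at h
      exact h
    rcases (Nat.dvd_prime hr).1 h1 with h | h
    · rw [orderOf_eq_one_iff] at h
      rw [h]
      exact M.one_mem
    · exact mem_of_orderOf_eq r hr hr2 M hrM y h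
  have hfrat : Subgroup.normalizer ((P : Subgroup G) : Set G) ⊔ M = ⊤ :=
    Sylow.normalizer_sup_eq_top' P hPM
  have hMn : Subgroup.normalizer (M : Set G) = ⊤ := Subgroup.normalizer_eq_top_iff.mpr inferInstance
  have hdiv := card_sup_dvd (Subgroup.normalizer ((P : Subgroup G) : Set G)) M
    (by rw [hMn]; exact le_top)
  rw [hfrat, Subgroup.card_top] at hdiv
  have hsN : s ∣ Nat.card (Subgroup.normalizer ((P : Subgroup G) : Set G)) := by
    rcases (hs.dvd_mul).1 (dvd_trans hsG hdiv) with h | h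
    · exact h
    · exact absurd h hsM
  have hcyc : IsCyclic (P : Subgroup G) := isCyclic_of_prime_card hPcard
  have key := Subgroup.card_dvd_of_injective _
    (QuotientGroup.kerLift_injective (P : Subgroup G).normalizerMonoidHom)
  rw [Subgroup.normalizerMonoidHom_ker, ← Subgroup.index, ← Subgroup.relIndex] at key
  rw [IsCyclic.card_mulAut, hPcard, Nat.totient_prime hr] at key
  have hsplit := ((Subgroup.centralizer ((P : Subgroup G) : Set G)).subgroupOf
    (Subgroup.normalizer ((P : Subgroup G) : Set G))).card_mul_index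
  rw [← Subgroup.relIndex] at hsplit
  have hsC : s ∣ Nat.card ((Subgroup.centralizer ((P : Subgroup G) : Set G)).subgroupOf
      (Subgroup.normalizer ((P : Subgroup G) : Set G))) := by
    rw [← hsplit] at hsN
    rcases (hs.dvd_mul).1 hsN with h | h
    · exact h
    · exact absurd (dvd_trans h key) hsr
  obtain ⟨y, hy⟩ := exists_prime_orderOf_dvd_card' s hsC
  obtain ⟨x, hx⟩ := exists_prime_orderOf_dvd_card' (G := (P : Subgroup G)) r (by rw [hPcard])
  have hx' : orderOf (x : G) = r := by rw [Subgroup.orderOf_coe]; exact hx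
  have hy' : orderOf ((y : Subgroup.normalizer ((P : Subgroup G) : Set G)) : G) = s := by
    rw [Subgroup.orderOf_coe, Subgroup.orderOf_coe]; exact hy
  have hyc : ((y : Subgroup.normalizer ((P : Subgroup G) : Set G)) : G) ∈
      Subgroup.centralizer ((P : Subgroup G) : Set G) := y.2
  have hcomm : Commute (x : G) ((y : Subgroup.normalizer ((P : Subgroup G) : Set G)) : G) := by
    rw [Subgroup.mem_centralizer_iff] at hyc
    exact hyc (x : G) x.2
  refine ⟨(x : G) * ((y : Subgroup.normalizer ((P : Subgroup G) : Set G)) : G), ?_⟩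
  rw [hcomm.orderOf_mul_eq_mul_orderOf_of_coprime, hx', hy']
  rw [hx', hy']
  exact (Nat.coprime_primes hr hs).2 hrs



/-- If every subgroup between `N` and `H` normalized by `H` is `N` or `H`, the section is simple. -/
theorem simple_section_of_claim {G : Type*} [Group G] (N H : Subgroup G) [hN : N.Normal]
    (hNH : N < H)
    (hS : ∀ K : Subgroup G, N ≤ K → K ≤ H → H ≤ Subgroup.normalizer (K : Set G) →
      K = N ∨ K = H) :
    IsSimpleGroup (↥H ⧸ N.subgroupOf H) := by
  obtain ⟨h0, h0H, h0N⟩ := SetLike.exists_of_lt hNH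
  have hnt : Nontrivial (↥H ⧸ N.subgroupOf H) := by
    refine ⟨⟨QuotientGroup.mk' (N.subgroupOf H) ⟨h0, h0H⟩, 1, ?_⟩⟩
    intro h
    rw [QuotientGroup.mk'_apply, QuotientGroup.eq_one_iff, Subgroup.mem_subgroupOf] at h
    exact h0N h
  refine { toNontrivial := hnt, eq_bot_or_eq_top_of_normal := ?_ }
  intro K' hK'
  let K₁ : Subgroup ↥H := K'.comap (QuotientGroup.mk' (N.subgroupOf H))
  have hK₁n : K₁.Normal := hK'.comap _
  let K : Subgroup G := K₁.map H.subtype
  have hKH : K ≤ H := Subgroup.map_subtype_le K₁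
  have hNK : N ≤ K := by
    intro n hn
    have hnH : n ∈ H := hNH.le hn
    refine ⟨⟨n, hnH⟩, ?_, rfl⟩
    show QuotientGroup.mk' (N.subgroupOf H) ⟨n, hnH⟩ ∈ K'
    have : QuotientGroup.mk' (N.subgroupOf H) ⟨n, hnH⟩ = 1 := by
      rw [QuotientGroup.mk'_apply, QuotientGroup.eq_one_iff, Subgroup.mem_subgroupOf]
      exact hn
    rw [this]
    exact K'.one_mem
  have hKsub : K.subgroupOf H = K₁ := by
    rw [← Subgroup.comap_subtype]
    exact Subgroup.comap_map_eq_self_of_injective (Subgroup.subtype_injective H) K₁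
  have hKn : H ≤ Subgroup.normalizer (K : Set G) := by
    rw [← Subgroup.normal_subgroupOf_iff_le_normalizer hKH, hKsub]
    exact hK₁n
  have hmemK : ∀ h : ↥H, (h : G) ∈ K ↔ h ∈ K₁ := by
    intro h
    rw [← hKsub, Subgroup.mem_subgroupOf]
  rcases hS K hNK hKH hKn with hK | hK
  · left
    rw [eq_bot_iff]
    intro k' hk'
    obtain ⟨h, rfl⟩ := QuotientGroup.mk'_surjective (N.subgroupOf H) k'
    have h1 : h ∈ K₁ := hk'
    rw [← hmemK, hK] at h1
    rw [Subgroup.mem_bot, QuotientGroup.mk'_apply, QuotientGroup.eq_one_iff,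
      Subgroup.mem_subgroupOf]
    exact h1
  · right
    rw [eq_top_iff]
    intro k' _
    obtain ⟨h, rfl⟩ := QuotientGroup.mk'_surjective (N.subgroupOf H) k'
    have h1 : (h : G) ∈ K := by rw [hK]; exact h.2
    rw [hmemK] at h1
    exact h1

theorem le_normalizer_sup {G : Type*} [Group G] (H A B : Subgroup G) (hA : A ≤ H) (hB : B ≤ H)
    (hAn : H ≤ Subgroup.normalizer (A : Set G)) (hBn : H ≤ Subgroup.normalizer (B : Set G)) :
    H ≤ Subgroup.normalizer ((A ⊔ B : Subgroup G) : Set G) := by
  have h1 : (A.subgroupOf H).Normal := (Subgroup.normal_subgroupOf_iff_le_normalizer hA).2 hAn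
  have h2 : (B.subgroupOf H).Normal := (Subgroup.normal_subgroupOf_iff_le_normalizer hB).2 hBn
  rw [← Subgroup.normal_subgroupOf_iff_le_normalizer (sup_le hA hB), Subgroup.subgroupOf_sup hA hB]
  infer_instance



theorem exists_simple_section {G : Type*} [Group G] [Finite G] (p : ℕ) (hp : p.Prime)
    (hp1 : p ∣ Nat.card G) (hp2 : ¬ p ^ 2 ∣ Nat.card G) :
    ∃ (N H : Subgroup G) (_ : N.Normal), H.Normal ∧ N < H ∧
      IsSimpleGroup (↥H ⧸ N.subgroupOf H) ∧ p ∣ Nat.card H ∧ ¬ p ∣ Nat.card N := by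
  classical
  obtain ⟨H, ⟨hHn, hHp⟩, hHmin⟩ := Set.exists_min_image
    {K : Subgroup G | K.Normal ∧ p ∣ Nat.card K} (fun K => Nat.card K) (Set.toFinite _)
    ⟨⊤, inferInstance, by rw [Subgroup.card_top]; exact hp1⟩
  have hHbot : H ≠ ⊥ := by
    rintro rfl
    rw [Subgroup.card_bot] at hHp
    exact hp.one_lt.ne' (Nat.dvd_one.1 hHp)
  obtain ⟨N, ⟨hNn, hNH⟩, hNmax⟩ := Set.exists_max_image
    {K : Subgroup G | K.Normal ∧ K < H} (fun K => Nat.card K) (Set.toFinite _)
    ⟨⊥, inferInstance, bot_lt_iff_ne_bot.2 hHbot⟩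
  have hNp : ¬ p ∣ Nat.card N := by
    intro h
    have h1 : Nat.card H ≤ Nat.card N := hHmin N ⟨hNn, h⟩
    have h2 : N = H := Subgroup.eq_of_le_of_card_ge hNH.le h1
    exact hNH.ne h2
  have hchief : ∀ K : Subgroup G, K.Normal → N ≤ K → K ≤ H → K = N ∨ K = H := by
    intro K hKn hNK hKH
    by_cases hK : K = H
    · exact Or.inr hK
    · left
      have h1 : Nat.card K ≤ Nat.card N := hNmax K ⟨hKn, lt_of_le_of_ne hKH hK⟩
      exact (Subgroup.eq_of_le_of_card_ge hNK h1).symm
  have hp2H : ¬ p ^ 2 ∣ Nat.card H := fun h =>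
    hp2 (dvd_trans h (Subgroup.card_subgroup_dvd_card H))
  have hNnorm : Subgroup.normalizer (N : Set G) = ⊤ := Subgroup.normalizer_eq_top_iff.mpr hNn
  have hclaim : ∀ K : Subgroup G, N ≤ K → K ≤ H → H ≤ Subgroup.normalizer (K : Set G) →
      K = N ∨ K = H := by
    intro K hNK hKH hKn
    by_cases hKeq : K = H
    · exact Or.inr hKeq
    left
    -- (i) p does not divide card K
    have hpK : ¬ p ∣ Nat.card K := by
      intro hpK
      apply hKeq
      have hKsub : (K.subgroupOf H).Normal := Subgroup.normal_subgroupOf_of_le_normalizer hKn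
      have hcardsub : Nat.card (K.subgroupOf H) = Nat.card K :=
        Nat.card_congr (Subgroup.subgroupOfEquivOfLe hKH).toEquiv
      have hall : ∀ y : G, orderOf y = p → y ∈ K := by
        intro y hy
        have hyH : y ∈ H := mem_of_orderOf_eq p hp hp2 H hHp y hy
        have h1 := mem_of_orderOf_eq (G := ↥H) p hp hp2H (K.subgroupOf H)
          (by rw [hcardsub]; exact hpK) ⟨y, hyH⟩ (by rw [Subgroup.orderOf_mk]; exact hy)
        exact Subgroup.mem_subgroupOf.1 h1
      have hLK : Subgroup.normalClosure {y : G | orderOf y = p} ≤ K := by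
        rw [Subgroup.normalClosure, Subgroup.closure_le]
        intro z hz
        rw [Group.mem_conjugatesOfSet_iff] at hz
        obtain ⟨a, ha, hconj⟩ := hz
        rw [isConj_iff] at hconj
        obtain ⟨c, rfl⟩ := hconj
        apply hall
        have : orderOf (c * a * c⁻¹) = orderOf a := (MulAut.conj c).orderOf_eq a
        rw [this]
        exact ha
      obtain ⟨x, hx⟩ := exists_prime_orderOf_dvd_card' (hp := Fact.mk hp) p hp1
      have hxL : x ∈ Subgroup.normalClosure {y : G | orderOf y = p} :=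
        Subgroup.subset_normalClosure hx
      have hpL : p ∣ Nat.card (Subgroup.normalClosure {y : G | orderOf y = p}) := by
        have h := orderOf_dvd_natCard (⟨x, hxL⟩ : Subgroup.normalClosure {y : G | orderOf y = p})
        rw [Subgroup.orderOf_mk, hx] at h
        exact h
      have h1 : Nat.card H ≤ Nat.card (Subgroup.normalClosure {y : G | orderOf y = p}) :=
        hHmin _ ⟨inferInstance, hpL⟩
      have h2 : Subgroup.normalClosure {y : G | orderOf y = p} = H :=
        Subgroup.eq_of_le_of_card_ge (hLK.trans hKH) h1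
      exact le_antisymm hKH (h2 ▸ hLK)
    -- (ii) the largest member of the family
    obtain ⟨R, ⟨hNR, hRH, hRn, hRp⟩, hRmax⟩ := Set.exists_max_image
      {K' : Subgroup G | N ≤ K' ∧ K' ≤ H ∧ H ≤ Subgroup.normalizer (K' : Set G) ∧
        ¬ p ∣ Nat.card K'} (fun K' => Nat.card K') (Set.toFinite _)
      ⟨N, le_rfl, hNH.le, by rw [hNnorm]; exact le_top, hNp⟩
    have hle : ∀ K' : Subgroup G, N ≤ K' → K' ≤ H → H ≤ Subgroup.normalizer (K' : Set G) →
        ¬ p ∣ Nat.card K' → K' ≤ R := by
      intro K' h1 h2 h3 h4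
      have hsup : ¬ p ∣ Nat.card ↥(K' ⊔ R) := by
        intro h
        have h5 := dvd_trans h (card_sup_dvd K' R (h2.trans hRn))
        rcases (hp.dvd_mul).1 h5 with h6 | h6
        · exact h4 h6
        · exact hRp h6
      have h7 : Nat.card ↥(K' ⊔ R) ≤ Nat.card R :=
        hRmax (K' ⊔ R) ⟨le_sup_of_le_right hNR, sup_le h2 hRH,
          le_normalizer_sup H K' R h2 hRH h3 hRn, hsup⟩
      have h8 : R = K' ⊔ R := Subgroup.eq_of_le_of_card_ge le_sup_right h7
      rw [h8]
      exact le_sup_left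
    have hRnormal : R.Normal := by
      refine ⟨fun n hn g => ?_⟩
      have hmem : ∀ z : G, z ∈ R.map (MulAut.conj g).toMonoidHom ↔ g⁻¹ * z * g ∈ R := by
        intro z
        rw [Subgroup.mem_map_equiv, MulAut.conj_symm_apply]
      have hRg : R.map (MulAut.conj g).toMonoidHom ≤ R := by
        apply hle
        · intro m hm
          rw [hmem]
          apply hNR
          have := hNn.conj_mem m hm g⁻¹
          simpa using this
        · intro z hz
          rw [hmem] at hz
          have h1 := hHn.conj_mem _ (hRH hz) g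
          have h2 : g * (g⁻¹ * z * g) * g⁻¹ = z := by group
          rw [h2] at h1
          exact h1
        · intro h hh
          rw [Subgroup.mem_normalizer_iff]
          intro z
          rw [hmem, hmem]
          have hh' : g⁻¹ * h * g ∈ H := by
            have := hHn.conj_mem h hh g⁻¹
            simpa using this
          have h3 := (Subgroup.mem_normalizer_iff.1 (hRn hh')) (g⁻¹ * z * g)
          have h4 : g⁻¹ * h * g * (g⁻¹ * z * g) * (g⁻¹ * h * g)⁻¹ = g⁻¹ * (h * z * h⁻¹) * g := by
            group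
          rw [h4] at h3
          exact h3
        · rw [Subgroup.card_map_of_injective (MulAut.conj g).injective]
          exact hRp
      apply hRg
      rw [hmem]
      have h2 : g⁻¹ * (g * n * g⁻¹) * g = n := by group
      rw [h2]
      exact hn
    have hRN : R = N := by
      rcases hchief R hRnormal hNR hRH with h | h
      · exact h
      · exfalso
        rw [h] at hRp
        exact hRp hHp
    have hKR : K ≤ R := hle K hNK hKH hKn hpK
    rw [hRN] at hKR
    exact le_antisymm hKR hNK
  exact ⟨N, H, hNn, hHn, hNH, simple_section_of_claim N H hNH hclaim, hHp, hNp⟩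




/-- Let n ≥ 11 and let G be a finite group with the same order and the same set of element orders as the alternating group of degree n. Then G has normal subgroups N < H such that H/N is a non-abelian simple group whose order is divisible by every prime p with n/2 < p ≤ n. -/
theorem result {G : Type*} [Group G] [Finite G] (n : ℕ) (hn : 11 ≤ n)
    (hcard : Nat.card G = Nat.card ↥(alternatingGroup (Fin n)))
    (hspec : Set.range (orderOf : G → ℕ) = Set.range (orderOf : ↥(alternatingGroup (Fin n)) → ℕ)) :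
    ∃ (N H : Subgroup G) (_ : N.Normal), H.Normal ∧ N < H ∧
      IsSimpleGroup (↥H ⧸ N.subgroupOf H) ∧ ¬ IsMulCommutative (↥H ⧸ N.subgroupOf H) ∧
      ∀ p : ℕ, p.Prime → n < 2 * p → p ≤ n → p ∣ Nat.card (↥H ⧸ N.subgroupOf H) := by
  have hfact : 2 * Nat.card G = n.factorial := by
    rw [hcard]
    have : Nontrivial (Fin n) := Fin.nontrivial_iff_two_le.2 (by omega)
    rw [two_mul_nat_card_alternatingGroup, Nat.card_perm, Nat.card_eq_fintype_card,
      Fintype.card_fin]
  have hdvd : ∀ q : ℕ, q.Prime → n < 2 * q → q ≤ n →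
      q ∣ Nat.card G ∧ ¬ q ^ 2 ∣ Nat.card G := by
    intro q hq h1 h2
    have hq3 : 3 ≤ q := by omega
    constructor
    · have h : q ∣ 2 * Nat.card G := by rw [hfact]; exact (hq.dvd_factorial).2 h2
      rcases (hq.dvd_mul).1 h with h' | h'
      · exfalso
        have := Nat.le_of_dvd (by norm_num) h'
        omega
      · exact h'
    · intro h
      apply Cfsg.Agent.S3419.not_sq_dvd_factorial q n hq h2 h1 hq3
      rw [← hfact]
      exact Dvd.dvd.mul_left h 2
  have hnoelt : ∀ p q : ℕ, p.Prime → q.Prime → p ≠ q → n < 2 * p → n < 2 * q →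
      ¬ ∃ x : G, orderOf x = p * q := by
    rintro p q hp hq hpq h1 h2 ⟨x, hx⟩
    have hmem : p * q ∈ Set.range (orderOf : G → ℕ) := ⟨x, hx⟩
    rw [hspec] at hmem
    obtain ⟨σ, hσ⟩ := hmem
    have h3 := Cfsg.Agent.S3419.perm_sum_le n (σ : Equiv.Perm (Fin n)) p q hp hq hpq
      (by rw [Subgroup.orderOf_coe]; exact hσ)
    omega
  have hnd : ∀ p q : ℕ, p.Prime → q.Prime → p ≠ q → n < 2 * p → p ≤ n → n < 2 * q → q ≤ n →
      ¬ p ∣ q - 1 := by
    intro p q hp hq hpq h1 h2 h3 h4 hd
    obtain ⟨k, hk⟩ := hd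
    have hk1 : k = 1 := by
      rcases k with _ | _ | k
      · omega
      · rfl
      · exfalso
        have h5 : p * 2 ≤ p * (k + 1 + 1) := Nat.mul_le_mul_left p (by omega)
        omega
    subst hk1
    rcases hp.eq_two_or_odd with h | h
    · omega
    · rcases hq.eq_two_or_odd with h' | h'
      · omega
      · omega
  obtain ⟨p, q₀, hp, hq₀, hpq₀, hq₀n, hnp⟩ :=
    Cfsg.Agent.Lib.Helper8.exists_primes_upper_half n (by omega) (by omega) (by omega)
  obtain ⟨hpG, hp2⟩ := hdvd p hp hnp (by omega)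
  obtain ⟨N, H, hNn, hHn, hNH, hsimple, hpH, hpN⟩ := exists_simple_section p hp hpG hp2
  have hcardH : Nat.card (↥H ⧸ N.subgroupOf H) * Nat.card N = Nat.card H := by
    have h1 := Subgroup.card_eq_card_quotient_mul_card_subgroup (N.subgroupOf H)
    rw [Nat.card_congr (Subgroup.subgroupOfEquivOfLe hNH.le).toEquiv] at h1
    exact h1.symm
  have hall : ∀ q : ℕ, q.Prime → n < 2 * q → q ≤ n →
      q ∣ Nat.card (↥H ⧸ N.subgroupOf H) := by
    intro q hq h1 h2
    by_cases hqp : q = p
    · subst hqp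
      have h : q ∣ Nat.card (↥H ⧸ N.subgroupOf H) * Nat.card N := by rw [hcardH]; exact hpH
      rcases (hq.dvd_mul).1 h with h | h
      · exact h
      · exact absurd h hpN
    · by_contra hcon
      obtain ⟨hqG, hq2⟩ := hdvd q hq h1 h2
      by_cases hqN : q ∣ Nat.card N
      · obtain ⟨x, hx⟩ := exists_orderOf_mul_of_normal q p hq hp hqp N hqN hq2 hpG hpN
          (hnd p q hp hq (Ne.symm hqp) hnp (by omega) h1 h2)
        exact hnoelt q p hq hp hqp h1 hnp ⟨x, hx⟩
      · have hqH : ¬ q ∣ Nat.card H := by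
          rw [← hcardH]
          intro h
          rcases (hq.dvd_mul).1 h with h' | h'
          · exact hcon h'
          · exact hqN h'
        obtain ⟨x, hx⟩ := exists_orderOf_mul_of_normal p q hp hq (Ne.symm hqp) H hpH hp2 hqG hqH
          (hnd q p hq hp hqp h1 h2 hnp (by omega))
        exact hnoelt p q hp hq (Ne.symm hqp) hnp h1 ⟨x, hx⟩
  refine ⟨N, H, hNn, hHn, hNH, hsimple, ?_, hall⟩
  intro hcomm
  let _ : CommGroup (↥H ⧸ N.subgroupOf H) :=
    { (inferInstance : Group (↥H ⧸ N.subgroupOf H)) with mul_comm := hcomm.is_comm.comm }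
  have hprime : (Nat.card (↥H ⧸ N.subgroupOf H)).Prime := @IsSimpleGroup.prime_card _ _ hsimple
  have h1 := hall p hp hnp (by omega)
  have h2 := hall q₀ hq₀ (by omega) hq₀n
  have e1 := (Nat.prime_dvd_prime_iff_eq hp hprime).1 h1
  have e2 := (Nat.prime_dvd_prime_iff_eq hq₀ hprime).1 h2
  omega

end Cfsg.Agent.S3420
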