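import Cfsg.Statements.S3430
import Cfsg.Agent.Lib.Helper8.PrimPartBound
-- import your own Cfsg.Agent.* helpers here

set_option autoImplicit false
open Cfsg

namespace Cfsg.Agent.S3430

open Cfsg.Agent.Lib.Helper8.Zsig

/-- explicit large primitive prime divisors for the small non-exceptional pairs -/
def wp : ℕ × ℕ → ℕ
  | (2, 3) => 7 | (3, 3) => 13 | (4, 3) => 7 | (5, 3) => 31 | (4, 4) => 17 | (5, 4) => 13
  | (6, 4) => 37 | (2, 5) => 31 | (3, 5) => 11 | (4, 6) => 13 | (6, 6) => 31 | (7, 6) => 43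
  | (8, 6) => 19 | (9, 6) => 73 | (2, 7) => 127 | (2, 8) => 17 | (3, 8) => 41 | (2, 9) => 73
  | (3, 10) => 61 | (4, 10) => 41 | (3, 12) => 73 | (4, 12) => 241 | (2, 14) => 43
  | (2, 15) => 151 | (2, 16) => 257 | (2, 20) => 41 | (2, 22) => 683 | (2, 24) => 241
  | (2, 28) => 113 | (2, 30) => 331 | (2, 42) => 5419 | (2, 48) => 97 | (2, 60) => 1321
  | _ => 7

def Lexc : List (ℕ × ℕ) := [(2, 4), (2, 6), (2, 10), (2, 12), (2, 18), (3, 4), (3, 6), (5, 6)]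

theorem wp_prime : ∀ x ∈ smallPairs, (wp x).Prime := by
  intro x hx
  simp only [smallPairs, List.mem_cons, List.not_mem_nil, or_false] at hx
  rcases hx with rfl | rfl | rfl | rfl | rfl | rfl | rfl | rfl | rfl | rfl | rfl | rfl | rfl | rfl |
    rfl | rfl | rfl | rfl | rfl | rfl | rfl | rfl | rfl | rfl | rfl | rfl | rfl | rfl | rfl | rfl |
    rfl | rfl | rfl | rfl | rfl | rfl | rfl | rfl | rfl | rfl | rfl <;> norm_num [wp]

theorem wp_ok : ∀ x ∈ smallPairs, x ∉ Lexc →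
    wp x ∣ x.1 ^ x.2 - 1 ∧ (∀ i : ℕ, i < x.2 → 1 ≤ i → ¬ wp x ∣ x.1 ^ i - 1) ∧ x.2 + 1 < wp x := by
  decide

/-- a number all of whose prime factors are `2` or `3` is `2 ^ s * 3 ^ t` -/
theorem eq_two_pow_mul_three_pow {N : ℕ} (hN : N ≠ 0)
    (h : ∀ p : ℕ, p.Prime → p ∣ N → p < 5) : ∃ s t : ℕ, N = 2 ^ s * 3 ^ t := by
  obtain ⟨i, m', hodd, hn2⟩ := Nat.exists_eq_two_pow_mul_odd hN
  have hm'0 : m' ≠ 0 := by
    rintro rfl
    exact absurd hodd (by decide)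
  obtain ⟨k, m'', h3m, hm3⟩ := Nat.exists_eq_pow_mul_and_not_dvd hm'0 3 (by norm_num)
  have hm''1 : m'' = 1 := by
    by_contra hne
    obtain ⟨q, hq, hqm⟩ : ∃ q : ℕ, q.Prime ∧ q ∣ m'' :=
      ⟨_, Nat.minFac_prime hne, Nat.minFac_dvd _⟩
    have hqm' : q ∣ m' := by rw [hm3]; exact dvd_mul_of_dvd_right hqm _
    have hqn : q ∣ N := by rw [hn2]; exact dvd_mul_of_dvd_right hqm' _
    have hq5 : q < 5 := h q hq hqn
    have hq2 := hq.two_le
    interval_cases q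
    · rcases hodd with ⟨t, ht⟩
      omega
    · exact h3m hqm
    · exact absurd hq (by norm_num)
  subst hm''1
  rw [mul_one] at hm3
  subst hm3
  exact ⟨i, k, hn2⟩

theorem case_two (q : ℕ) (hq : 2 ≤ q)
    (h1 : ¬ ∃ s t : ℕ, t ≤ 1 ∧ q + 1 = 2 ^ s * 3 ^ t) :
    ∃ p : ℕ, p.Prime ∧ p ∣ q ^ 2 - 1 ∧ (∀ i : ℕ, 1 ≤ i → i < 2 → ¬ p ∣ q ^ i - 1) ∧
      (2 + 1 < p ∨ p ^ 2 ∣ q ^ 2 - 1) := by
  have hfac : q ^ 2 - 1 = (q - 1) * (q + 1) := by
    obtain ⟨t, rfl⟩ : ∃ t, q = t + 1 := ⟨q - 1, by omega⟩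
    have : (t + 1) ^ 2 - 1 = t * (t + 1 + 1) := by
      have : (t + 1) ^ 2 = t * (t + 1 + 1) + 1 := by ring
      omega
    simpa using this
  have hnot : ∀ p : ℕ, p.Prime → 3 ≤ p → p ∣ q + 1 → ¬ p ∣ q - 1 := by
    intro p hp hp3 hd hd'
    have h2 : p ∣ (q + 1) - (q - 1) := Nat.dvd_sub hd hd'
    have h3 : (q + 1) - (q - 1) = 2 := by omega
    rw [h3] at h2
    have := Nat.le_of_dvd (by norm_num) h2
    omega
  by_cases hbig : ∃ p : ℕ, p.Prime ∧ p ∣ q + 1 ∧ 5 ≤ p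
  · obtain ⟨p, hp, hpd, hp5⟩ := hbig
    refine ⟨p, hp, ?_, ?_, Or.inl (by omega)⟩
    · rw [hfac]; exact dvd_mul_of_dvd_right hpd _
    · intro i hi1 hi2
      have : i = 1 := by omega
      subst this
      rw [pow_one]
      exact hnot p hp (by omega) hpd
  · push_neg at hbig
    obtain ⟨s, t, hst⟩ := eq_two_pow_mul_three_pow (N := q + 1) (by omega)
      (fun p hp hpd => by
        by_contra h
        exact absurd (hbig p hp hpd) (by omega))
    have ht2 : 2 ≤ t := by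
      by_contra h
      exact h1 ⟨s, t, by omega, hst⟩
    have h9 : 3 ^ 2 ∣ q + 1 := by
      rw [hst]
      exact dvd_mul_of_dvd_right (pow_dvd_pow 3 ht2) _
    have h3 : 3 ∣ q + 1 := dvd_trans (by norm_num) h9
    refine ⟨3, Nat.prime_three, ?_, ?_, Or.inr ?_⟩
    · rw [hfac]; exact dvd_mul_of_dvd_right h3 _
    · intro i hi1 hi2
      have : i = 1 := by omega
      subst this
      rw [pow_one]
      exact hnot 3 Nat.prime_three le_rfl h3
    · rw [hfac]; exact dvd_mul_of_dvd_right h9 _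

/-- Let q, n ≥ 2 be integers. Unless (n = 2 and q + 1 = 2^s·3^t for some s ≥ 0 and t ≤ 1), or (q = 2 and n ∈ {4, 6, 10, 12, 18}), or (q = 3 and n ∈ {4, 6}), or (q, n) = (5, 6), there is a prime p dividing q^n − 1 but no q^i − 1 with 1 ≤ i < n (a primitive prime divisor), such that p > n + 1 or p² divides q^n − 1. -/
theorem result (q n : ℕ) (hq : 2 ≤ q) (hn : 2 ≤ n)
    (h1 : ¬ (n = 2 ∧ ∃ s t : ℕ, t ≤ 1 ∧ q + 1 = 2 ^ s * 3 ^ t))
    (h2 : ¬ (q = 2 ∧ (n = 4 ∨ n = 6 ∨ n = 10 ∨ n = 12 ∨ n = 18)))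
    (h3 : ¬ (q = 3 ∧ (n = 4 ∨ n = 6))) (h4 : ¬ (q = 5 ∧ n = 6)) :
    ∃ p : ℕ, p.Prime ∧ p ∣ q ^ n - 1 ∧ (∀ i : ℕ, 1 ≤ i → i < n → ¬ p ∣ q ^ i - 1) ∧ (n + 1 < p ∨ p ^ 2 ∣ q ^ n - 1) := by
  rcases Nat.lt_or_ge n 3 with hn3 | hn3
  · have hn2 : n = 2 := by omega
    subst hn2
    exact case_two q hq (fun h => h1 ⟨rfl, h⟩)
  by_cases hs : (q, n) ∈ smallPairs
  · have hexc : (q, n) ∉ Lexc := by
      intro hmem
      simp only [Lexc, List.mem_cons, Prod.mk.injEq, List.not_mem_nil, or_false] at hmem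
      rcases hmem with ⟨rfl, rfl⟩ | ⟨rfl, rfl⟩ | ⟨rfl, rfl⟩ | ⟨rfl, rfl⟩ | ⟨rfl, rfl⟩ | ⟨rfl, rfl⟩ |
        ⟨rfl, rfl⟩ | ⟨rfl, rfl⟩
      · exact h2 ⟨rfl, by norm_num⟩
      · exact h2 ⟨rfl, by norm_num⟩
      · exact h2 ⟨rfl, by norm_num⟩
      · exact h2 ⟨rfl, by norm_num⟩
      · exact h2 ⟨rfl, by norm_num⟩
      · exact h3 ⟨rfl, by norm_num⟩
      · exact h3 ⟨rfl, by norm_num⟩
      · exact h4 ⟨rfl, rfl⟩
    obtain ⟨k1, k2, k3⟩ := wp_ok (q, n) hs hexc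
    exact ⟨wp (q, n), wp_prime (q, n) hs, k1, fun i hi1 hin => k2 i hin hi1, Or.inl k3⟩
  · have hlt := lt_natCyc hq hn3 hs
    obtain ⟨P, hP0, hPd, hPc, hPp, hPmod, hPle⟩ := exists_primitive_part (by omega : 1 < q) hn3
    have k1 : n * (2 * n + 1) < n * P := lt_of_lt_of_le hlt hPle
    have k2 : 2 * n + 1 < P := Nat.lt_of_mul_lt_mul_left k1
    have hprim : ∀ p : ℕ, p.Prime → p ∣ P → ∀ i : ℕ, 1 ≤ i → i < n → ¬ p ∣ q ^ i - 1 := by
      intro p hp hpP i hi1 hin hpi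
      have := Nat.dvd_gcd hpP hpi
      rw [(hPc i (by omega) hin)] at this
      exact hp.one_lt.ne' (Nat.dvd_one.mp this)
    by_cases hbig : ∃ p : ℕ, p.Prime ∧ p ∣ P ∧ n + 1 < p
    · obtain ⟨p, hp, hpP, hpn⟩ := hbig
      exact ⟨p, hp, hpP.trans hPd, hprim p hp hpP, Or.inl hpn⟩
    · push_neg at hbig
      have huniq : ∀ {p : ℕ}, p.Prime → p ∣ P → p = n + 1 := by
        intro p hp hpP
        have hle := hbig p hp hpP
        have hmod := hPp p hp hpP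
        unfold Nat.ModEq at hmod
        rw [Nat.mod_eq_of_lt (by omega : 1 < n)] at hmod
        have h4 := Nat.div_add_mod p n
        rw [hmod] at h4
        have h5 : 1 ≤ p / n := by
          by_contra h
          have h6 : p / n = 0 := Nat.lt_one_iff.mp (not_le.mp h)
          rw [h6, mul_zero] at h4
          have := hp.two_le
          omega
        have h7 : n * 1 ≤ n * (p / n) := Nat.mul_le_mul_left n h5
        omega
      have hpow := Nat.eq_prime_pow_of_unique_prime_dvd (by omega : P ≠ 0) huniq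
      set k := P.primeFactorsList.length with hk
      have hpr : (n + 1).Prime := by
        have hP1 : P ≠ 1 := by omega
        have := huniq (Nat.minFac_prime hP1) (Nat.minFac_dvd P)
        rw [← this]
        exact Nat.minFac_prime hP1
      have hk2 : 2 ≤ k := by
        by_contra h
        have hk1 : k ≤ 1 := by omega
        have : (n + 1) ^ k ≤ (n + 1) ^ 1 := Nat.pow_le_pow_right (by omega) hk1
        rw [← hpow, pow_one] at this
        omega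
      have hsq : (n + 1) ^ 2 ∣ P := by
        rw [hpow]
        exact pow_dvd_pow _ hk2
      have hdP : (n + 1) ∣ P := dvd_trans (dvd_pow_self _ (by norm_num)) hsq
      exact ⟨n + 1, hpr, hdP.trans hPd, hprim (n + 1) hpr hdP, Or.inr (hsq.trans hPd)⟩

end Cfsg.Agent.S3430
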