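import Cfsg.Statements.S3437
import Mathlib
import Cfsg.Agent.S3669

set_option autoImplicit false
open Cfsg

namespace Cfsg.Agent.S3437


/-- the field with 169 elements as `F₁₃[√2]` -/
abbrev KK : Type := QuadraticAlgebra (ZMod 13) 2 0

/-- quaternions over `KK` -/
abbrev QQ : Type := QuaternionAlgebra KK (-1) 0 (-1)

instance : DecidableEq QQ := fun a b =>
  decidable_of_iff (a.re = b.re ∧ a.imI = b.imI ∧ a.imJ = b.imJ ∧ a.imK = b.imK)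
    ⟨fun h => QuaternionAlgebra.ext h.1 h.2.1 h.2.2.1 h.2.2.2,
      fun h => by subst h; exact ⟨rfl, rfl, rfl, rfl⟩⟩

/-- the 48 elements of the binary octahedral group -/
def LL0 : List QQ :=
  [⟨⟨0, 0⟩, ⟨0, 0⟩, ⟨0, 0⟩, ⟨1, 0⟩⟩,
   ⟨⟨0, 0⟩, ⟨0, 0⟩, ⟨0, 0⟩, ⟨12, 0⟩⟩,
   ⟨⟨0, 0⟩, ⟨0, 0⟩, ⟨0, 6⟩, ⟨0, 6⟩⟩,
   ⟨⟨0, 0⟩, ⟨0, 0⟩, ⟨0, 6⟩, ⟨0, 7⟩⟩,
   ⟨⟨0, 0⟩, ⟨0, 0⟩, ⟨0, 7⟩, ⟨0, 6⟩⟩,
   ⟨⟨0, 0⟩, ⟨0, 0⟩, ⟨0, 7⟩, ⟨0, 7⟩⟩,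
   ⟨⟨0, 0⟩, ⟨0, 0⟩, ⟨1, 0⟩, ⟨0, 0⟩⟩,
   ⟨⟨0, 0⟩, ⟨0, 0⟩, ⟨12, 0⟩, ⟨0, 0⟩⟩,
   ⟨⟨0, 0⟩, ⟨0, 6⟩, ⟨0, 0⟩, ⟨0, 6⟩⟩,
   ⟨⟨0, 0⟩, ⟨0, 6⟩, ⟨0, 0⟩, ⟨0, 7⟩⟩,
   ⟨⟨0, 0⟩, ⟨0, 6⟩, ⟨0, 6⟩, ⟨0, 0⟩⟩,
   ⟨⟨0, 0⟩, ⟨0, 6⟩, ⟨0, 7⟩, ⟨0, 0⟩⟩,
   ⟨⟨0, 0⟩, ⟨0, 7⟩, ⟨0, 0⟩, ⟨0, 6⟩⟩,
   ⟨⟨0, 0⟩, ⟨0, 7⟩, ⟨0, 0⟩, ⟨0, 7⟩⟩,
   ⟨⟨0, 0⟩, ⟨0, 7⟩, ⟨0, 6⟩, ⟨0, 0⟩⟩,
   ⟨⟨0, 0⟩, ⟨0, 7⟩, ⟨0, 7⟩, ⟨0, 0⟩⟩,
   ⟨⟨0, 0⟩, ⟨1, 0⟩, ⟨0, 0⟩, ⟨0, 0⟩⟩,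
   ⟨⟨0, 0⟩, ⟨12, 0⟩, ⟨0, 0⟩, ⟨0, 0⟩⟩,
   ⟨⟨0, 6⟩, ⟨0, 0⟩, ⟨0, 0⟩, ⟨0, 6⟩⟩,
   ⟨⟨0, 6⟩, ⟨0, 0⟩, ⟨0, 0⟩, ⟨0, 7⟩⟩,
   ⟨⟨0, 6⟩, ⟨0, 0⟩, ⟨0, 6⟩, ⟨0, 0⟩⟩,
   ⟨⟨0, 6⟩, ⟨0, 0⟩, ⟨0, 7⟩, ⟨0, 0⟩⟩,
   ⟨⟨0, 6⟩, ⟨0, 6⟩, ⟨0, 0⟩, ⟨0, 0⟩⟩,
   ⟨⟨0, 6⟩, ⟨0, 7⟩, ⟨0, 0⟩, ⟨0, 0⟩⟩,
   ⟨⟨0, 7⟩, ⟨0, 0⟩, ⟨0, 0⟩, ⟨0, 6⟩⟩,
   ⟨⟨0, 7⟩, ⟨0, 0⟩, ⟨0, 0⟩, ⟨0, 7⟩⟩,
   ⟨⟨0, 7⟩, ⟨0, 0⟩, ⟨0, 6⟩, ⟨0, 0⟩⟩,
   ⟨⟨0, 7⟩, ⟨0, 0⟩, ⟨0, 7⟩, ⟨0, 0⟩⟩,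
   ⟨⟨0, 7⟩, ⟨0, 6⟩, ⟨0, 0⟩, ⟨0, 0⟩⟩,
   ⟨⟨0, 7⟩, ⟨0, 7⟩, ⟨0, 0⟩, ⟨0, 0⟩⟩,
   ⟨⟨1, 0⟩, ⟨0, 0⟩, ⟨0, 0⟩, ⟨0, 0⟩⟩,
   ⟨⟨6, 0⟩, ⟨6, 0⟩, ⟨6, 0⟩, ⟨6, 0⟩⟩,
   ⟨⟨6, 0⟩, ⟨6, 0⟩, ⟨6, 0⟩, ⟨7, 0⟩⟩,
   ⟨⟨6, 0⟩, ⟨6, 0⟩, ⟨7, 0⟩, ⟨6, 0⟩⟩,
   ⟨⟨6, 0⟩, ⟨6, 0⟩, ⟨7, 0⟩, ⟨7, 0⟩⟩,
   ⟨⟨6, 0⟩, ⟨7, 0⟩, ⟨6, 0⟩, ⟨6, 0⟩⟩,
   ⟨⟨6, 0⟩, ⟨7, 0⟩, ⟨6, 0⟩, ⟨7, 0⟩⟩,
   ⟨⟨6, 0⟩, ⟨7, 0⟩, ⟨7, 0⟩, ⟨6, 0⟩⟩,
   ⟨⟨6, 0⟩, ⟨7, 0⟩, ⟨7, 0⟩, ⟨7, 0⟩⟩,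
   ⟨⟨7, 0⟩, ⟨6, 0⟩, ⟨6, 0⟩, ⟨6, 0⟩⟩,
   ⟨⟨7, 0⟩, ⟨6, 0⟩, ⟨6, 0⟩, ⟨7, 0⟩⟩,
   ⟨⟨7, 0⟩, ⟨6, 0⟩, ⟨7, 0⟩, ⟨6, 0⟩⟩,
   ⟨⟨7, 0⟩, ⟨6, 0⟩, ⟨7, 0⟩, ⟨7, 0⟩⟩,
   ⟨⟨7, 0⟩, ⟨7, 0⟩, ⟨6, 0⟩, ⟨6, 0⟩⟩,
   ⟨⟨7, 0⟩, ⟨7, 0⟩, ⟨6, 0⟩, ⟨7, 0⟩⟩,
   ⟨⟨7, 0⟩, ⟨7, 0⟩, ⟨7, 0⟩, ⟨6, 0⟩⟩,
   ⟨⟨7, 0⟩, ⟨7, 0⟩, ⟨7, 0⟩, ⟨7, 0⟩⟩,
   ⟨⟨12, 0⟩, ⟨0, 0⟩, ⟨0, 0⟩, ⟨0, 0⟩⟩]

/-- pairs `(a, b)` with `(a - 1) * b = 1` -/
def LLinv : List (QQ × QQ) :=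
  [(⟨⟨0, 0⟩, ⟨0, 0⟩, ⟨0, 0⟩, ⟨1, 0⟩⟩, ⟨⟨6, 0⟩, ⟨0, 0⟩, ⟨0, 0⟩, ⟨6, 0⟩⟩),
   (⟨⟨0, 0⟩, ⟨0, 0⟩, ⟨0, 0⟩, ⟨12, 0⟩⟩, ⟨⟨6, 0⟩, ⟨0, 0⟩, ⟨0, 0⟩, ⟨7, 0⟩⟩),
   (⟨⟨0, 0⟩, ⟨0, 0⟩, ⟨0, 6⟩, ⟨0, 6⟩⟩, ⟨⟨6, 0⟩, ⟨0, 0⟩, ⟨0, 10⟩, ⟨0, 10⟩⟩),
   (⟨⟨0, 0⟩, ⟨0, 0⟩, ⟨0, 6⟩, ⟨0, 7⟩⟩, ⟨⟨6, 0⟩, ⟨0, 0⟩, ⟨0, 10⟩, ⟨0, 3⟩⟩),
   (⟨⟨0, 0⟩, ⟨0, 0⟩, ⟨0, 7⟩, ⟨0, 6⟩⟩, ⟨⟨6, 0⟩, ⟨0, 0⟩, ⟨0, 3⟩, ⟨0, 10⟩⟩),
   (⟨⟨0, 0⟩, ⟨0, 0⟩, ⟨0, 7⟩, ⟨0, 7⟩⟩, ⟨⟨6, 0⟩, ⟨0, 0⟩, ⟨0, 3⟩, ⟨0, 3⟩⟩),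
   (⟨⟨0, 0⟩, ⟨0, 0⟩, ⟨1, 0⟩, ⟨0, 0⟩⟩, ⟨⟨6, 0⟩, ⟨0, 0⟩, ⟨6, 0⟩, ⟨0, 0⟩⟩),
   (⟨⟨0, 0⟩, ⟨0, 0⟩, ⟨12, 0⟩, ⟨0, 0⟩⟩, ⟨⟨6, 0⟩, ⟨0, 0⟩, ⟨7, 0⟩, ⟨0, 0⟩⟩),
   (⟨⟨0, 0⟩, ⟨0, 6⟩, ⟨0, 0⟩, ⟨0, 6⟩⟩, ⟨⟨6, 0⟩, ⟨0, 10⟩, ⟨0, 0⟩, ⟨0, 10⟩⟩),
   (⟨⟨0, 0⟩, ⟨0, 6⟩, ⟨0, 0⟩, ⟨0, 7⟩⟩, ⟨⟨6, 0⟩, ⟨0, 10⟩, ⟨0, 0⟩, ⟨0, 3⟩⟩),
   (⟨⟨0, 0⟩, ⟨0, 6⟩, ⟨0, 6⟩, ⟨0, 0⟩⟩, ⟨⟨6, 0⟩, ⟨0, 10⟩, ⟨0, 10⟩, ⟨0, 0⟩⟩),
   (⟨⟨0, 0⟩, ⟨0, 6⟩, ⟨0, 7⟩, ⟨0, 0⟩⟩, ⟨⟨6, 0⟩, ⟨0, 10⟩, ⟨0, 3⟩, ⟨0, 0⟩⟩),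
   (⟨⟨0, 0⟩, ⟨0, 7⟩, ⟨0, 0⟩, ⟨0, 6⟩⟩, ⟨⟨6, 0⟩, ⟨0, 3⟩, ⟨0, 0⟩, ⟨0, 10⟩⟩),
   (⟨⟨0, 0⟩, ⟨0, 7⟩, ⟨0, 0⟩, ⟨0, 7⟩⟩, ⟨⟨6, 0⟩, ⟨0, 3⟩, ⟨0, 0⟩, ⟨0, 3⟩⟩),
   (⟨⟨0, 0⟩, ⟨0, 7⟩, ⟨0, 6⟩, ⟨0, 0⟩⟩, ⟨⟨6, 0⟩, ⟨0, 3⟩, ⟨0, 10⟩, ⟨0, 0⟩⟩),
   (⟨⟨0, 0⟩, ⟨0, 7⟩, ⟨0, 7⟩, ⟨0, 0⟩⟩, ⟨⟨6, 0⟩, ⟨0, 3⟩, ⟨0, 3⟩, ⟨0, 0⟩⟩),
   (⟨⟨0, 0⟩, ⟨1, 0⟩, ⟨0, 0⟩, ⟨0, 0⟩⟩, ⟨⟨6, 0⟩, ⟨6, 0⟩, ⟨0, 0⟩, ⟨0, 0⟩⟩),
   (⟨⟨0, 0⟩, ⟨12, 0⟩, ⟨0, 0⟩, ⟨0, 0⟩⟩, ⟨⟨6, 0⟩, ⟨7, 0⟩, ⟨0, 0⟩, ⟨0, 0⟩⟩),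
   (⟨⟨0, 6⟩, ⟨0, 0⟩, ⟨0, 0⟩, ⟨0, 6⟩⟩, ⟨⟨6, 0⟩, ⟨0, 0⟩, ⟨0, 0⟩, ⟨6, 7⟩⟩),
   (⟨⟨0, 6⟩, ⟨0, 0⟩, ⟨0, 0⟩, ⟨0, 7⟩⟩, ⟨⟨6, 0⟩, ⟨0, 0⟩, ⟨0, 0⟩, ⟨7, 6⟩⟩),
   (⟨⟨0, 6⟩, ⟨0, 0⟩, ⟨0, 6⟩, ⟨0, 0⟩⟩, ⟨⟨6, 0⟩, ⟨0, 0⟩, ⟨6, 7⟩, ⟨0, 0⟩⟩),
   (⟨⟨0, 6⟩, ⟨0, 0⟩, ⟨0, 7⟩, ⟨0, 0⟩⟩, ⟨⟨6, 0⟩, ⟨0, 0⟩, ⟨7, 6⟩, ⟨0, 0⟩⟩),
   (⟨⟨0, 6⟩, ⟨0, 6⟩, ⟨0, 0⟩, ⟨0, 0⟩⟩, ⟨⟨6, 0⟩, ⟨6, 7⟩, ⟨0, 0⟩, ⟨0, 0⟩⟩),
   (⟨⟨0, 6⟩, ⟨0, 7⟩, ⟨0, 0⟩, ⟨0, 0⟩⟩, ⟨⟨6, 0⟩, ⟨7, 6⟩, ⟨0, 0⟩, ⟨0, 0⟩⟩),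
   (⟨⟨0, 7⟩, ⟨0, 0⟩, ⟨0, 0⟩, ⟨0, 6⟩⟩, ⟨⟨6, 0⟩, ⟨0, 0⟩, ⟨0, 0⟩, ⟨7, 7⟩⟩),
   (⟨⟨0, 7⟩, ⟨0, 0⟩, ⟨0, 0⟩, ⟨0, 7⟩⟩, ⟨⟨6, 0⟩, ⟨0, 0⟩, ⟨0, 0⟩, ⟨6, 6⟩⟩),
   (⟨⟨0, 7⟩, ⟨0, 0⟩, ⟨0, 6⟩, ⟨0, 0⟩⟩, ⟨⟨6, 0⟩, ⟨0, 0⟩, ⟨7, 7⟩, ⟨0, 0⟩⟩),
   (⟨⟨0, 7⟩, ⟨0, 0⟩, ⟨0, 7⟩, ⟨0, 0⟩⟩, ⟨⟨6, 0⟩, ⟨0, 0⟩, ⟨6, 6⟩, ⟨0, 0⟩⟩),
   (⟨⟨0, 7⟩, ⟨0, 6⟩, ⟨0, 0⟩, ⟨0, 0⟩⟩, ⟨⟨6, 0⟩, ⟨7, 7⟩, ⟨0, 0⟩, ⟨0, 0⟩⟩),
   (⟨⟨0, 7⟩, ⟨0, 7⟩, ⟨0, 0⟩, ⟨0, 0⟩⟩, ⟨⟨6, 0⟩, ⟨6, 6⟩, ⟨0, 0⟩, ⟨0, 0⟩⟩),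
   (⟨⟨6, 0⟩, ⟨6, 0⟩, ⟨6, 0⟩, ⟨6, 0⟩⟩, ⟨⟨6, 0⟩, ⟨11, 0⟩, ⟨11, 0⟩, ⟨11, 0⟩⟩),
   (⟨⟨6, 0⟩, ⟨6, 0⟩, ⟨6, 0⟩, ⟨7, 0⟩⟩, ⟨⟨6, 0⟩, ⟨11, 0⟩, ⟨11, 0⟩, ⟨2, 0⟩⟩),
   (⟨⟨6, 0⟩, ⟨6, 0⟩, ⟨7, 0⟩, ⟨6, 0⟩⟩, ⟨⟨6, 0⟩, ⟨11, 0⟩, ⟨2, 0⟩, ⟨11, 0⟩⟩),
   (⟨⟨6, 0⟩, ⟨6, 0⟩, ⟨7, 0⟩, ⟨7, 0⟩⟩, ⟨⟨6, 0⟩, ⟨11, 0⟩, ⟨2, 0⟩, ⟨2, 0⟩⟩),
   (⟨⟨6, 0⟩, ⟨7, 0⟩, ⟨6, 0⟩, ⟨6, 0⟩⟩, ⟨⟨6, 0⟩, ⟨2, 0⟩, ⟨11, 0⟩, ⟨11, 0⟩⟩),
   (⟨⟨6, 0⟩, ⟨7, 0⟩, ⟨6, 0⟩, ⟨7, 0⟩⟩, ⟨⟨6, 0⟩, ⟨2, 0⟩, ⟨11, 0⟩, ⟨2, 0⟩⟩),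
   (⟨⟨6, 0⟩, ⟨7, 0⟩, ⟨7, 0⟩, ⟨6, 0⟩⟩, ⟨⟨6, 0⟩, ⟨2, 0⟩, ⟨2, 0⟩, ⟨11, 0⟩⟩),
   (⟨⟨6, 0⟩, ⟨7, 0⟩, ⟨7, 0⟩, ⟨7, 0⟩⟩, ⟨⟨6, 0⟩, ⟨2, 0⟩, ⟨2, 0⟩, ⟨2, 0⟩⟩),
   (⟨⟨7, 0⟩, ⟨6, 0⟩, ⟨6, 0⟩, ⟨6, 0⟩⟩, ⟨⟨6, 0⟩, ⟨7, 0⟩, ⟨7, 0⟩, ⟨7, 0⟩⟩),
   (⟨⟨7, 0⟩, ⟨6, 0⟩, ⟨6, 0⟩, ⟨7, 0⟩⟩, ⟨⟨6, 0⟩, ⟨7, 0⟩, ⟨7, 0⟩, ⟨6, 0⟩⟩),
   (⟨⟨7, 0⟩, ⟨6, 0⟩, ⟨7, 0⟩, ⟨6, 0⟩⟩, ⟨⟨6, 0⟩, ⟨7, 0⟩, ⟨6, 0⟩, ⟨7, 0⟩⟩),
   (⟨⟨7, 0⟩, ⟨6, 0⟩, ⟨7, 0⟩, ⟨7, 0⟩⟩, ⟨⟨6, 0⟩, ⟨7, 0⟩, ⟨6, 0⟩, ⟨6, 0⟩⟩),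
   (⟨⟨7, 0⟩, ⟨7, 0⟩, ⟨6, 0⟩, ⟨6, 0⟩⟩, ⟨⟨6, 0⟩, ⟨6, 0⟩, ⟨7, 0⟩, ⟨7, 0⟩⟩),
   (⟨⟨7, 0⟩, ⟨7, 0⟩, ⟨6, 0⟩, ⟨7, 0⟩⟩, ⟨⟨6, 0⟩, ⟨6, 0⟩, ⟨7, 0⟩, ⟨6, 0⟩⟩),
   (⟨⟨7, 0⟩, ⟨7, 0⟩, ⟨7, 0⟩, ⟨6, 0⟩⟩, ⟨⟨6, 0⟩, ⟨6, 0⟩, ⟨6, 0⟩, ⟨7, 0⟩⟩),
   (⟨⟨7, 0⟩, ⟨7, 0⟩, ⟨7, 0⟩, ⟨7, 0⟩⟩, ⟨⟨6, 0⟩, ⟨6, 0⟩, ⟨6, 0⟩, ⟨6, 0⟩⟩),
   (⟨⟨12, 0⟩, ⟨0, 0⟩, ⟨0, 0⟩, ⟨0, 0⟩⟩, ⟨⟨6, 0⟩, ⟨0, 0⟩, ⟨0, 0⟩, ⟨0, 0⟩⟩)]

/-- generator of order 8 -/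
def gS : QQ := ⟨⟨0, 7⟩, ⟨0, 7⟩, ⟨0, 0⟩, ⟨0, 0⟩⟩
/-- generator of order 3 -/
def gW : QQ := ⟨⟨6, 0⟩, ⟨7, 0⟩, ⟨7, 0⟩, ⟨7, 0⟩⟩

set_option maxRecDepth 100000 in
lemma gS_star : gS * star gS = 1 ∧ star gS * gS = 1 := by decide +kernel

set_option maxRecDepth 100000 in
lemma gW_star : gW * star gW = 1 ∧ star gW * gW = 1 := by decide +kernel

set_option maxRecDepth 100000 in
lemma LL0_one : (1 : QQ) ∈ LL0 := by decide +kernel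

set_option maxRecDepth 100000 in
lemma LL0_step : ∀ a ∈ LL0, gS * a ∈ LL0 ∧ star gS * a ∈ LL0 ∧ gW * a ∈ LL0 ∧ star gW * a ∈ LL0 := by
  decide +kernel

set_option maxRecDepth 100000 in
lemma LL0_pow : ∀ a ∈ LL0, a ^ 8 = 1 ∨ a ^ 6 = 1 := by decide +kernel

set_option maxRecDepth 100000 in
lemma LLinv_spec : ∀ p ∈ LLinv, (p.1 - 1) * p.2 = 1 := by decide +kernel

set_option maxRecDepth 100000 in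
lemma LL0_inv : ∀ a ∈ LL0, a = 1 ∨ a ∈ LLinv.map Prod.fst := by decide +kernel

set_option maxRecDepth 100000 in
lemma gS_pow : gS ^ 8 = 1 ∧ gS ^ 4 ≠ 1 := by decide +kernel

set_option maxRecDepth 100000 in
lemma gW_pow : gW ^ 3 = 1 ∧ gW ≠ 1 := by decide +kernel

set_option maxRecDepth 100000 in
lemma gT_pow : (gS ^ 4 * gW) ^ 6 = 1 ∧ (gS ^ 4 * gW) ^ 2 ≠ 1 ∧ (gS ^ 4 * gW) ^ 3 ≠ 1 := by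
  decide +kernel

set_option maxRecDepth 100000 in
lemma thirteen_zero : (13 : QQ) = 0 := by decide +kernel



section Generic

/-- the semidirect product `R ⋊ C` for a group `C` of units acting by left multiplication -/
@[ext] structure Fb {R : Type} [Ring R] (C : Subgroup Rˣ) where
  v : R
  g : C

variable {R : Type} [Ring R] {C : Subgroup Rˣ}

instance : Mul (Fb C) := ⟨fun a b => ⟨a.v + ((a.g : Rˣ) : R) * b.v, a.g * b.g⟩⟩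
instance : One (Fb C) := ⟨⟨0, 1⟩⟩
instance : Inv (Fb C) := ⟨fun a => ⟨-((((a.g⁻¹ : C) : Rˣ) : R) * a.v), a.g⁻¹⟩⟩

@[simp] lemma Fb.mul_v (a b : Fb C) : (a * b).v = a.v + ((a.g : Rˣ) : R) * b.v := rfl
@[simp] lemma Fb.mul_g (a b : Fb C) : (a * b).g = a.g * b.g := rfl
@[simp] lemma Fb.one_v : (1 : Fb C).v = 0 := rfl
@[simp] lemma Fb.one_g : (1 : Fb C).g = 1 := rfl
@[simp] lemma Fb.inv_v (a : Fb C) : (a⁻¹).v = -((((a.g⁻¹ : C) : Rˣ) : R) * a.v) := rfl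
@[simp] lemma Fb.inv_g (a : Fb C) : (a⁻¹).g = a.g⁻¹ := rfl

instance : Group (Fb C) :=
  Group.ofLeftAxioms
    (by
      intro a b c
      ext
      · simp only [Fb.mul_v, Fb.mul_g, Subgroup.coe_mul, Units.val_mul, mul_add, mul_assoc,
          add_assoc]
      · simp only [Fb.mul_g, mul_assoc])
    (by
      intro a
      ext
      · simp
      · simp)
    (by
      intro a
      ext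
      · simp only [Fb.mul_v, Fb.inv_v, Fb.inv_g, Fb.one_v]
        exact neg_add_cancel _
      · simp)

lemma Fb.pow_g (a : Fb C) (n : ℕ) : (a ^ n).g = a.g ^ n := by
  induction n with
  | zero => simp
  | succ n ih => rw [pow_succ, pow_succ, Fb.mul_g, ih]

lemma Fb.pow_v (a : Fb C) (n : ℕ) :
    (a ^ n).v = (∑ i ∈ Finset.range n, (((a.g : Rˣ) : R)) ^ i) * a.v := by
  induction n with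
  | zero => simp
  | succ n ih =>
    rw [pow_succ, Fb.mul_v, ih, Fb.pow_g, Finset.sum_range_succ, add_mul]
    simp only [Subgroup.coe_pow, Units.val_pow_eq_pow_val]

lemma Fb.coe_pow_eq_one_iff (g : C) (n : ℕ) : (((g : Rˣ) : R)) ^ n = 1 ↔ g ^ n = 1 := by
  constructor
  · intro h
    apply Subtype.ext
    apply Units.ext
    simpa using h
  · intro h
    have := congrArg (fun t : C => ((t : Rˣ) : R)) h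
    simpa using this

/-- fixed-point-free elements: same order as the `g`-part. -/
lemma Fb.pow_eq_one_iff (a : Fb C) (b : R) (hb : (((a.g : Rˣ) : R) - 1) * b = 1) (n : ℕ) :
    a ^ n = 1 ↔ a.g ^ n = 1 := by
  constructor
  · intro h
    rw [← Fb.pow_g, h]; rfl
  · intro h
    ext
    · rw [Fb.pow_v, Fb.one_v]
      have h1 := (Fb.coe_pow_eq_one_iff a.g n).mpr h
      have h2 := geom_sum_mul (((a.g : Rˣ) : R)) n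
      rw [h1, sub_self] at h2
      have : (∑ i ∈ Finset.range n, (((a.g : Rˣ) : R)) ^ i) = 0 := by
        calc (∑ i ∈ Finset.range n, (((a.g : Rˣ) : R)) ^ i)
            = (∑ i ∈ Finset.range n, (((a.g : Rˣ) : R)) ^ i) * ((((a.g : Rˣ) : R) - 1) * b) := by
              rw [hb, mul_one]
          _ = 0 := by rw [← mul_assoc, h2, zero_mul]
      rw [this, zero_mul]
    · rw [Fb.pow_g, h]; rfl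

lemma Fb.orderOf_of_fpf (a : Fb C) (b : R) (hb : (((a.g : Rˣ) : R) - 1) * b = 1) :
    orderOf a = orderOf a.g := by
  rw [orderOf_eq_orderOf_iff]
  intro n
  exact Fb.pow_eq_one_iff a b hb n

lemma Fb.pow_of_g_eq_one (p : ℕ) (hp : ∀ v : R, (p : R) * v = 0) (a : Fb C) (h : a.g = 1) :
    a ^ p = 1 := by
  ext
  · rw [Fb.pow_v, Fb.one_v, h]
    simp [hp]
  · rw [Fb.pow_g, h, one_pow]; rfl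

/-- the projection to `C`. -/
def Fb.gHom : Fb C →* C where
  toFun a := a.g
  map_one' := rfl
  map_mul' _ _ := rfl

/-- the inclusion of the additive group of `R`. -/
def Fb.vHom : Multiplicative R →* Fb C where
  toFun w := ⟨Multiplicative.toAdd w, 1⟩
  map_one' := rfl
  map_mul' x y := by
    ext
    · simp
    · simp

lemma Fb.isSolvable [Group.IsSolvable C] : Group.IsSolvable (Fb C) := by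
  apply Group.isSolvable_of_ker_le_range (Fb.vHom (C := C)) (Fb.gHom (C := C))
  intro a ha
  rw [MonoidHom.mem_ker] at ha
  refine ⟨Multiplicative.ofAdd a.v, Fb.ext rfl ?_⟩
  exact ha.symm

instance [Finite R] : Finite (Fb C) :=
  Finite.of_injective (fun a : Fb C => (a.v, a.g)) (by
    intro a b h
    simp only [Prod.mk.injEq] at h
    exact Fb.ext h.1 h.2)

lemma Fb.orderOf_mk_one (g : C) (b : R) (hb : (((g : Rˣ) : R) - 1) * b = 1) :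
    orderOf (⟨0, g⟩ : Fb C) = orderOf g :=
  Fb.orderOf_of_fpf ⟨0, g⟩ b hb

end Generic



section Concrete

instance : Finite KK := Finite.of_equiv _ (QuadraticAlgebra.equivProd (2 : ZMod 13) 0).symm

instance : Finite QQ := Finite.of_equiv _ (QuaternionAlgebra.equivProd (-1 : KK) 0 (-1)).symm

/-- generator of order 8 as a unit -/
def uS : QQˣ := ⟨gS, star gS, gS_star.1, gS_star.2⟩
/-- generator of order 3 as a unit -/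
def uW : QQˣ := ⟨gW, star gW, gW_star.1, gW_star.2⟩

/-- the binary octahedral group -/
def CC : Subgroup QQˣ := Subgroup.closure {uS, uW}

lemma CC_mem (u : QQˣ) (hu : u ∈ CC) : (u : QQ) ∈ LL0 := by
  refine Subgroup.closure_induction_left (p := fun (u : QQˣ) _ => ((u : QQˣ) : QQ) ∈ LL0) LL0_one ?_ ?_ hu
  · intro x hx y _ ih
    rw [Units.val_mul]
    rcases hx with rfl | rfl
    · exact (LL0_step _ ih).1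
    · exact (LL0_step _ ih).2.2.1
  · intro x hx y _ ih
    rw [Units.val_mul]
    rcases hx with rfl | rfl
    · exact (LL0_step _ ih).2.1
    · exact (LL0_step _ ih).2.2.2

lemma card_CC_le : Nat.card CC ≤ 48 := by
  classical
  let f : CC → (LL0.toFinset : Finset QQ) := fun u =>
    ⟨((u : QQˣ) : QQ), List.mem_toFinset.mpr (CC_mem u u.2)⟩
  have hf : Function.Injective f := by
    intro a b h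
    apply Subtype.ext
    apply Units.ext
    exact congrArg Subtype.val h
  calc Nat.card CC ≤ Nat.card (LL0.toFinset : Finset QQ) := Nat.card_le_card_of_injective f hf
    _ = LL0.toFinset.card := by rw [Nat.card_eq_fintype_card, Fintype.card_coe]
    _ ≤ LL0.length := List.toFinset_card_le _
    _ = 48 := rfl

instance : Group.IsSolvable CC :=
  Cfsg.Agent.S3669.solvable_of_card_lt (Nat.card CC) (lt_of_le_of_lt card_CC_le (by norm_num))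
    CC rfl

/-- the solvable group `13^8 : 2O` -/
abbrev HH : Type := Fb CC

lemma HH_solvable : Group.IsSolvable HH := Fb.isSolvable

lemma exists_fpf (g : CC) (hg : g ≠ 1) : ∃ b : QQ, ((((g : QQˣ) : QQ)) - 1) * b = 1 := by
  have hmem := CC_mem g g.2
  rcases LL0_inv _ hmem with h | h
  · exfalso
    apply hg
    apply Subtype.ext
    apply Units.ext
    exact h
  · rw [List.mem_map] at h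
    obtain ⟨p, hp, hp1⟩ := h
    refine ⟨p.2, ?_⟩
    rw [← hp1]
    exact LLinv_spec p hp

lemma orderOf_HH (a : HH) (h : a.g ≠ 1) : orderOf a = orderOf a.g := by
  obtain ⟨b, hb⟩ := exists_fpf a.g h
  exact Fb.orderOf_of_fpf a b hb

lemma orderOf_CC_mem (g : CC) : orderOf g ∈ ({1, 2, 3, 4, 6, 8} : Set ℕ) := by
  have hmem := CC_mem g g.2
  rcases LL0_pow _ hmem with h | h
  · have h1 : g ^ 8 = 1 := (Fb.coe_pow_eq_one_iff g 8).mp h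
    have hd := orderOf_dvd_of_pow_eq_one h1
    have : orderOf g ∈ Nat.divisors 8 := Nat.mem_divisors.mpr ⟨hd, by norm_num⟩
    have h8 : Nat.divisors 8 = {1, 2, 4, 8} := by decide
    rw [h8] at this
    simp only [Finset.mem_insert, Finset.mem_singleton] at this
    rcases this with h | h | h | h <;> rw [h] <;> simp
  · have h1 : g ^ 6 = 1 := (Fb.coe_pow_eq_one_iff g 6).mp h
    have hd := orderOf_dvd_of_pow_eq_one h1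
    have : orderOf g ∈ Nat.divisors 6 := Nat.mem_divisors.mpr ⟨hd, by norm_num⟩
    have h6 : Nat.divisors 6 = {1, 2, 3, 6} := by decide
    rw [h6] at this
    simp only [Finset.mem_insert, Finset.mem_singleton] at this
    rcases this with h | h | h | h <;> rw [h] <;> simp

/-- `uS` as an element of `CC` -/
def sS : CC := ⟨uS, Subgroup.subset_closure (by simp)⟩
/-- `uW` as an element of `CC` -/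
def sW : CC := ⟨uW, Subgroup.subset_closure (by simp)⟩

lemma coe_sS : ((sS : QQˣ) : QQ) = gS := rfl
lemma coe_sW : ((sW : QQˣ) : QQ) = gW := rfl

set_option maxRecDepth 100000 in
lemma one_ne_zero_QQ : (1 : QQ) ≠ 0 := by decide +kernel

lemma orderOf_sS : orderOf sS = 8 := by
  have h := orderOf_eq_prime_pow (x := sS) (p := 2) (n := 2) ?_ ?_
  · simpa using h
  · intro h
    have := (Fb.coe_pow_eq_one_iff sS (2 ^ 2)).mpr h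
    rw [coe_sS] at this
    exact gS_pow.2 this
  · apply (Fb.coe_pow_eq_one_iff sS (2 ^ (2 + 1))).mp
    rw [coe_sS]
    exact gS_pow.1

lemma orderOf_sW : orderOf sW = 3 := by
  haveI : Fact (Nat.Prime 3) := ⟨by norm_num⟩
  apply orderOf_eq_prime
  · apply (Fb.coe_pow_eq_one_iff sW 3).mp
    rw [coe_sW]
    exact gW_pow.1
  · intro h
    apply gW_pow.2
    have := congrArg (fun t : CC => ((t : QQˣ) : QQ)) h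
    exact this

lemma coe_sT : (((sS ^ 4 * sW : CC) : QQˣ) : QQ) = gS ^ 4 * gW := by
  rw [Subgroup.coe_mul, Units.val_mul, Subgroup.coe_pow, Units.val_pow_eq_pow_val, coe_sS, coe_sW]

lemma orderOf_sT : orderOf (sS ^ 4 * sW) = 6 := by
  apply orderOf_eq_of_pow_and_pow_div_prime (by norm_num)
  · apply (Fb.coe_pow_eq_one_iff _ 6).mp
    rw [coe_sT]
    exact gT_pow.1
  · intro p hp hpd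
    have hle : p ≤ 6 := Nat.le_of_dvd (by norm_num) hpd
    interval_cases p
    · exact absurd hp (by norm_num)
    · exact absurd hp (by norm_num)
    · intro h
      have := (Fb.coe_pow_eq_one_iff _ (6 / 2)).mpr h
      rw [coe_sT] at this
      exact gT_pow.2.2 this
    · intro h
      have := (Fb.coe_pow_eq_one_iff _ (6 / 3)).mpr h
      rw [coe_sT] at this
      exact gT_pow.2.1 this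
    · exact absurd hp (by norm_num)
    · exact absurd hpd (by norm_num)
    · exact absurd hp (by norm_num)

lemma exists_orderOf_HH (g : CC) (hg : g ≠ 1) : ∃ a : HH, orderOf a = orderOf g :=
  ⟨⟨0, g⟩, orderOf_HH ⟨0, g⟩ hg⟩

lemma ne_one_of_orderOf (g : CC) (n : ℕ) (h : orderOf g = n) (hn : n ≠ 1) : g ≠ 1 := by
  rintro rfl
  rw [orderOf_one] at h
  exact hn h.symm

lemma range_HH : Set.range (orderOf : HH → ℕ) = {1, 2, 3, 4, 6, 8, 13} := by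
  apply Set.eq_of_subset_of_subset
  · rintro _ ⟨a, rfl⟩
    by_cases h : a.g = 1
    · have h13 : a ^ 13 = 1 := by
        apply Fb.pow_of_g_eq_one 13 _ a h
        intro v
        have : ((13 : ℕ) : QQ) = 0 := by exact_mod_cast thirteen_zero
        rw [this, zero_mul]
      have hd := orderOf_dvd_of_pow_eq_one h13
      rcases (Nat.dvd_prime (by norm_num : Nat.Prime 13)).mp hd with h1 | h1 <;> rw [h1] <;> simp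
    · rw [orderOf_HH a h]
      have := orderOf_CC_mem a.g
      simp only [Set.mem_insert_iff, Set.mem_singleton_iff] at this ⊢
      rcases this with h | h | h | h | h | h <;> rw [h] <;> simp
  · intro n hn
    simp only [Set.mem_insert_iff, Set.mem_singleton_iff] at hn
    rcases hn with rfl | rfl | rfl | rfl | rfl | rfl | rfl
    · exact ⟨1, orderOf_one⟩
    · have h : orderOf (sS ^ 4) = 2 := by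
        rw [orderOf_pow' _ (by norm_num), orderOf_sS]
        norm_num
      obtain ⟨a, ha⟩ := exists_orderOf_HH _ (ne_one_of_orderOf _ _ h (by norm_num))
      exact ⟨a, ha.trans h⟩
    · obtain ⟨a, ha⟩ := exists_orderOf_HH _ (ne_one_of_orderOf _ _ orderOf_sW (by norm_num))
      exact ⟨a, ha.trans orderOf_sW⟩
    · have h : orderOf (sS ^ 2) = 4 := by
        rw [orderOf_pow' _ (by norm_num), orderOf_sS]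
        norm_num
      obtain ⟨a, ha⟩ := exists_orderOf_HH _ (ne_one_of_orderOf _ _ h (by norm_num))
      exact ⟨a, ha.trans h⟩
    · obtain ⟨a, ha⟩ := exists_orderOf_HH _ (ne_one_of_orderOf _ _ orderOf_sT (by norm_num))
      exact ⟨a, ha.trans orderOf_sT⟩
    · obtain ⟨a, ha⟩ := exists_orderOf_HH _ (ne_one_of_orderOf _ _ orderOf_sS (by norm_num))
      exact ⟨a, ha.trans orderOf_sS⟩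
    · refine ⟨⟨1, 1⟩, ?_⟩
      haveI : Fact (Nat.Prime 13) := ⟨by norm_num⟩
      apply orderOf_eq_prime
      · apply Fb.pow_of_g_eq_one 13 _ _ rfl
        intro v
        have : ((13 : ℕ) : QQ) = 0 := by exact_mod_cast thirteen_zero
        rw [this, zero_mul]
      · intro h
        have h1 : (1 : QQ) = 0 := congrArg Fb.v h
        exact one_ne_zero_QQ h1

end Concrete



section SL3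

open Polynomial Matrix

variable {F : Type*} [Field F] [Fintype F]

lemma three_eq_zero (hF : Fintype.card F = 3) : (3 : F) = 0 := by
  have := Nat.cast_card_eq_zero F
  rw [hF] at this
  exact_mod_cast this

lemma elts (hF : Fintype.card F = 3) (x : F) : x = 0 ∨ x = 1 ∨ x = -1 := by
  have h := FiniteField.pow_card x
  rw [hF] at h
  have h2 : x * (x - 1) * (x + 1) = 0 := by
    have : x * (x - 1) * (x + 1) = x ^ 3 - x := by ring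
    rw [this, h, sub_self]
  rcases mul_eq_zero.mp h2 with h3 | h3
  · rcases mul_eq_zero.mp h3 with h4 | h4
    · exact Or.inl h4
    · exact Or.inr (Or.inl (sub_eq_zero.mp h4))
  · exact Or.inr (Or.inr (eq_neg_of_add_eq_zero_left h3))

omit [Fintype F] in
lemma charpoly_form (A : Matrix (Fin 3) (Fin 3) F) (hdet : A.det = 1) :
    A.charpoly = X ^ 3 + C (A.charpoly.coeff 2) * X ^ 2 + C (A.charpoly.coeff 1) * X - 1 := by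
  have hdeg : A.charpoly.natDegree = 3 := by
    rw [charpoly_natDegree_eq_dim]; rfl
  have hmonic : A.charpoly.Monic := charpoly_monic A
  have h0 : A.charpoly.coeff 0 = -1 := by
    have := det_eq_sign_charpoly_coeff A
    rw [hdet, Fintype.card_fin] at this
    have h1 : ((-1 : F)) ^ 3 = -1 := by ring
    rw [h1] at this
    linear_combination this
  have h3 : A.charpoly.coeff 3 = 1 := by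
    have := hmonic.coeff_natDegree
    rwa [hdeg] at this
  obtain ⟨P, hPdef⟩ : ∃ P, P = A.charpoly := ⟨_, rfl⟩
  rw [← hPdef] at hdeg h0 h3 ⊢
  have hsum := Polynomial.as_sum_range_C_mul_X_pow P
  rw [hdeg] at hsum
  simp only [Finset.sum_range_succ, Finset.sum_range_zero, zero_add, h0, h3, pow_zero, pow_one,
    mul_one, map_neg, map_one, one_mul] at hsum
  rw [hsum]
  simp only [coeff_add, coeff_neg, coeff_one, coeff_C_mul, coeff_X_pow, coeff_X]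
  norm_num
  ring

omit [Fintype F] in
lemma pow_eq_one_of_poly (A : Matrix (Fin 3) (Fin 3) F) (P Q : F[X]) (hP : A.charpoly = P)
    (N : ℕ) (hQ : X ^ N - 1 = P * Q) : A ^ N = 1 := by
  have h1 := aeval_self_charpoly A
  rw [hP] at h1
  have h2 : aeval A (X ^ N - 1 : F[X]) = 0 := by
    rw [hQ, map_mul, h1, zero_mul]
  rw [map_sub, map_pow, aeval_X, map_one, sub_eq_zero] at h2
  exact h2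

lemma mat_pow_cases (hF : Fintype.card F = 3) (A : Matrix (Fin 3) (Fin 3) F) (hdet : A.det = 1) :
    A ^ 6 = 1 ∨ A ^ 8 = 1 ∨ A ^ 13 = 1 := by
  have hP := charpoly_form A hdet
  have h3 : (3 : F[X]) = 0 := by
    rw [show (3 : F[X]) = C (3 : F) from (map_ofNat C 3).symm, three_eq_zero hF, map_zero]
  rcases elts hF (A.charpoly.coeff 2) with ha | ha | ha <;>
    rcases elts hF (A.charpoly.coeff 1) with hb | hb | hb <;>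
    rw [ha, hb] at hP <;>
    simp only [map_zero, map_one, map_neg, zero_mul, one_mul, add_zero, neg_mul] at hP
  · -- (0,0): N = 3
    left
    have h : A ^ 3 = 1 := pow_eq_one_of_poly A _ 1 hP 3 (by ring)
    calc A ^ 6 = (A ^ 3) ^ 2 := by rw [← pow_mul]
      _ = 1 := by rw [h, one_pow]
  · -- (0,1): N = 8
    right; left
    exact pow_eq_one_of_poly A _ (1 + X + X ^ 2 - X ^ 3 + X ^ 5) hP 8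
      (by linear_combination (-X ^ 3) * h3)
  · -- (0,-1): N = 13
    right; right
    exact pow_eq_one_of_poly A _
      (1 - X + X ^ 2 - X ^ 4 - X ^ 5 + X ^ 6 + X ^ 7 + X ^ 8 + X ^ 10) hP 13
      (by linear_combination (-X ^ 5 + X ^ 7 + X ^ 8) * h3)
  · -- (1,0): N = 13
    right; right
    exact pow_eq_one_of_poly A _
      (1 + X ^ 2 + X ^ 3 + X ^ 4 - X ^ 5 - X ^ 6 + X ^ 8 - X ^ 9 + X ^ 10) hP 13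
      (by linear_combination (-X ^ 5 - X ^ 6 + X ^ 8) * h3)
  · -- (1,1): N = 13
    right; right
    exact pow_eq_one_of_poly A _
      (1 + X - X ^ 2 + X ^ 3 + X ^ 4 + X ^ 5 - X ^ 7 - X ^ 9 + X ^ 10) hP 13
      (by linear_combination (-X ^ 2 - X ^ 6 - X ^ 7 + X ^ 10) * h3)
  · -- (1,-1): N = 6
    left
    exact pow_eq_one_of_poly A _ (1 - X - X ^ 2 + X ^ 3) hP 6
      (by linear_combination (-X ^ 2 + X ^ 4) * h3)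
  · -- (-1,0): N = 8
    right; left
    exact pow_eq_one_of_poly A _ (1 - X ^ 2 + X ^ 3 + X ^ 4 + X ^ 5) hP 8
      (by linear_combination (X ^ 5) * h3)
  · -- (-1,1): N = 4
    right; left
    have h : A ^ 4 = 1 := pow_eq_one_of_poly A _ (1 + X) hP 4 (by ring)
    calc A ^ 8 = (A ^ 4) ^ 2 := by rw [← pow_mul]
      _ = 1 := by rw [h, one_pow]
  · -- (-1,-1): N = 13
    right; right
    exact pow_eq_one_of_poly A _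
      (1 - X - X ^ 3 + X ^ 5 + X ^ 6 + X ^ 7 - X ^ 8 + X ^ 9 + X ^ 10) hP 13
      (by linear_combination (-X ^ 3 + X ^ 6 + X ^ 7 + X ^ 11) * h3)

lemma orderOf_SL_mem (hF : Fintype.card F = 3) (g : Matrix.SpecialLinearGroup (Fin 3) F) :
    orderOf g ∈ ({1, 2, 3, 4, 6, 8, 13} : Set ℕ) := by
  have key : ∀ N : ℕ, (g : Matrix (Fin 3) (Fin 3) F) ^ N = 1 → g ^ N = 1 := by
    intro N h
    apply Subtype.ext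
    rw [Matrix.SpecialLinearGroup.coe_pow, h]; rfl
  rcases mat_pow_cases hF (g : Matrix (Fin 3) (Fin 3) F) g.2 with h | h | h
  · have hd := orderOf_dvd_of_pow_eq_one (key 6 h)
    have : orderOf g ∈ Nat.divisors 6 := Nat.mem_divisors.mpr ⟨hd, by norm_num⟩
    have h6 : Nat.divisors 6 = {1, 2, 3, 6} := by decide
    rw [h6] at this
    simp only [Finset.mem_insert, Finset.mem_singleton] at this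
    rcases this with h | h | h | h <;> rw [h] <;> simp
  · have hd := orderOf_dvd_of_pow_eq_one (key 8 h)
    have : orderOf g ∈ Nat.divisors 8 := Nat.mem_divisors.mpr ⟨hd, by norm_num⟩
    have h8 : Nat.divisors 8 = {1, 2, 4, 8} := by decide
    rw [h8] at this
    simp only [Finset.mem_insert, Finset.mem_singleton] at this
    rcases this with h | h | h | h <;> rw [h] <;> simp
  · have hd := orderOf_dvd_of_pow_eq_one (key 13 h)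
    rcases (Nat.dvd_prime (by norm_num : Nat.Prime 13)).mp hd with h1 | h1 <;> rw [h1] <;> simp

end SL3



section Final

open Matrix

/-- element of order 13 -/
def m13 : Matrix (Fin 3) (Fin 3) (ZMod 3) := !![0,0,1;1,0,1;0,1,0]
/-- element of order 8 -/
def m8 : Matrix (Fin 3) (Fin 3) (ZMod 3) := !![0,0,1;1,0,-1;0,1,0]
/-- element of order 6 -/
def m6 : Matrix (Fin 3) (Fin 3) (ZMod 3) := !![0,0,1;1,0,1;0,1,-1]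

set_option maxRecDepth 100000 in
lemma m13_spec : m13.det = 1 ∧ m13 ^ 13 = 1 ∧ m13 ≠ 1 := by decide +kernel

set_option maxRecDepth 100000 in
lemma m8_spec : m8.det = 1 ∧ m8 ^ 8 = 1 ∧ m8 ^ 4 ≠ 1 := by decide +kernel

set_option maxRecDepth 100000 in
lemma m6_spec : m6.det = 1 ∧ m6 ^ 6 = 1 ∧ m6 ^ 2 ≠ 1 ∧ m6 ^ 3 ≠ 1 := by decide +kernel

/-- as elements of `SL₃(𝔽₃)` -/
def s13 : Matrix.SpecialLinearGroup (Fin 3) (ZMod 3) := ⟨m13, m13_spec.1⟩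
/-- as elements of `SL₃(𝔽₃)` -/
def s8 : Matrix.SpecialLinearGroup (Fin 3) (ZMod 3) := ⟨m8, m8_spec.1⟩
/-- as elements of `SL₃(𝔽₃)` -/
def s6 : Matrix.SpecialLinearGroup (Fin 3) (ZMod 3) := ⟨m6, m6_spec.1⟩

lemma sl_pow_eq_one_iff (g : Matrix.SpecialLinearGroup (Fin 3) (ZMod 3)) (n : ℕ) :
    g ^ n = 1 ↔ (g : Matrix (Fin 3) (Fin 3) (ZMod 3)) ^ n = 1 := by
  constructor
  · intro h
    have h1 := congrArg (fun t : Matrix.SpecialLinearGroup (Fin 3) (ZMod 3) =>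
      (t : Matrix (Fin 3) (Fin 3) (ZMod 3))) h
    simpa using h1
  · intro h
    apply Matrix.SpecialLinearGroup.ext
    intro i j
    have h1 : ((g ^ n : Matrix.SpecialLinearGroup (Fin 3) (ZMod 3)) : Matrix (Fin 3) (Fin 3) (ZMod 3))
        = (g : Matrix (Fin 3) (Fin 3) (ZMod 3)) ^ n := Matrix.SpecialLinearGroup.coe_pow g n
    rw [h1, h]; rfl

lemma orderOf_s13 : orderOf s13 = 13 := by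
  haveI : Fact (Nat.Prime 13) := ⟨by norm_num⟩
  apply orderOf_eq_prime
  · exact (sl_pow_eq_one_iff s13 13).mpr m13_spec.2.1
  · intro h
    exact m13_spec.2.2 (congrArg Subtype.val h)

lemma orderOf_s8 : orderOf s8 = 8 := by
  have h := orderOf_eq_prime_pow (x := s8) (p := 2) (n := 2) ?_ ?_
  · simpa using h
  · intro h
    exact m8_spec.2.2 ((sl_pow_eq_one_iff s8 (2 ^ 2)).mp h)
  · exact (sl_pow_eq_one_iff s8 (2 ^ (2 + 1))).mpr m8_spec.2.1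

lemma orderOf_s6 : orderOf s6 = 6 := by
  apply orderOf_eq_of_pow_and_pow_div_prime (by norm_num)
  · exact (sl_pow_eq_one_iff s6 6).mpr m6_spec.2.1
  · intro p hp hpd
    have hle : p ≤ 6 := Nat.le_of_dvd (by norm_num) hpd
    interval_cases p
    · exact absurd hp (by norm_num)
    · exact absurd hp (by norm_num)
    · intro h
      exact m6_spec.2.2.2 ((sl_pow_eq_one_iff s6 (6 / 2)).mp h)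
    · intro h
      exact m6_spec.2.2.1 ((sl_pow_eq_one_iff s6 (6 / 3)).mp h)
    · exact absurd hp (by norm_num)
    · exact absurd hpd (by norm_num)
    · exact absurd hp (by norm_num)

variable {F : Type*} [Field F] [Fintype F]

omit [Fintype F] in
lemma map_injective (f : ZMod 3 →+* F) :
    Function.Injective (Matrix.SpecialLinearGroup.map (n := Fin 3) f) := by
  intro a b h
  apply Subtype.ext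
  ext i j
  have h1 := congrArg (fun t : Matrix.SpecialLinearGroup (Fin 3) F => (t : Matrix (Fin 3) (Fin 3) F) i j) h
  simp only [Matrix.SpecialLinearGroup.map_apply_coe, RingHom.mapMatrix_apply, Matrix.map_apply] at h1
  exact f.injective h1

lemma range_SL (hF : Fintype.card F = 3) :
    Set.range (orderOf : Matrix.SpecialLinearGroup (Fin 3) F → ℕ) = {1, 2, 3, 4, 6, 8, 13} := by
  haveI : Fact (Nat.Prime 3) := ⟨by norm_num⟩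
  haveI : CharP F 3 := charP_of_card_eq_prime hF
  let f : ZMod 3 →+* F := ZMod.castHom (dvd_refl 3) F
  have hinj := map_injective f
  have hord : ∀ g : Matrix.SpecialLinearGroup (Fin 3) (ZMod 3),
      orderOf (Matrix.SpecialLinearGroup.map (n := Fin 3) f g) = orderOf g :=
    fun g => orderOf_injective _ hinj g
  apply Set.eq_of_subset_of_subset
  · rintro _ ⟨g, rfl⟩
    exact orderOf_SL_mem hF g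
  · intro n hn
    simp only [Set.mem_insert_iff, Set.mem_singleton_iff] at hn
    rcases hn with rfl | rfl | rfl | rfl | rfl | rfl | rfl
    · exact ⟨1, orderOf_one⟩
    · refine ⟨Matrix.SpecialLinearGroup.map (n := Fin 3) f (s8 ^ 4), ?_⟩
      rw [hord, orderOf_pow' _ (by norm_num), orderOf_s8]
      norm_num
    · refine ⟨Matrix.SpecialLinearGroup.map (n := Fin 3) f (s6 ^ 2), ?_⟩
      rw [hord, orderOf_pow' _ (by norm_num), orderOf_s6]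
      norm_num
    · refine ⟨Matrix.SpecialLinearGroup.map (n := Fin 3) f (s8 ^ 2), ?_⟩
      rw [hord, orderOf_pow' _ (by norm_num), orderOf_s8]
      norm_num
    · exact ⟨Matrix.SpecialLinearGroup.map (n := Fin 3) f s6, by rw [hord, orderOf_s6]⟩
    · exact ⟨Matrix.SpecialLinearGroup.map (n := Fin 3) f s8, by rw [hord, orderOf_s8]⟩
    · exact ⟨Matrix.SpecialLinearGroup.map (n := Fin 3) f s13, by rw [hord, orderOf_s13]⟩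

lemma center_eq_bot (hF : Fintype.card F = 3) :
    Subgroup.center (Matrix.SpecialLinearGroup (Fin 3) F) = ⊥ := by
  rw [eq_bot_iff]
  intro A hA
  rw [Matrix.SpecialLinearGroup.mem_center_iff] at hA
  obtain ⟨r, hr, hA⟩ := hA
  rw [Fintype.card_fin] at hr
  have h3 := FiniteField.pow_card r
  rw [hF, hr] at h3
  rw [Subgroup.mem_bot]
  apply Subtype.ext
  rw [← hA, ← h3]
  simp

lemma range_PSL (hF : Fintype.card F = 3) :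
    Set.range (orderOf : Matrix.ProjectiveSpecialLinearGroup (Fin 3) F → ℕ) = {1, 2, 3, 4, 6, 8, 13} := by
  rw [← range_SL hF]
  have hker : (QuotientGroup.mk' (Subgroup.center (Matrix.SpecialLinearGroup (Fin 3) F))).ker = ⊥ := by
    rw [QuotientGroup.ker_mk', center_eq_bot hF]
  have hinj : Function.Injective
      (QuotientGroup.mk' (Subgroup.center (Matrix.SpecialLinearGroup (Fin 3) F))) :=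
    (MonoidHom.ker_eq_bot_iff _).mp hker
  apply Set.eq_of_subset_of_subset
  · rintro _ ⟨x, rfl⟩
    obtain ⟨g, rfl⟩ := QuotientGroup.mk'_surjective _ x
    exact ⟨g, (orderOf_injective _ hinj g).symm⟩
  · rintro _ ⟨g, rfl⟩
    exact ⟨QuotientGroup.mk' _ g, orderOf_injective _ hinj g⟩

end Final


/-- There is a finite solvable group with exactly the same set of element orders as the simple group PSL(3,3). -/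
theorem result {F : Type*} [Field F] [Fintype F] (hF : Fintype.card F = 3) :
    ∃ (H : Type) (_ : Group H) (_ : Fintype H), Group.IsSolvable H ∧
      Set.range (orderOf : H → ℕ) = Set.range (orderOf : Matrix.ProjectiveSpecialLinearGroup (Fin 3) F → ℕ) := by
  refine ⟨HH, inferInstance, Fintype.ofFinite HH, HH_solvable, ?_⟩
  rw [range_HH, range_PSL hF]

end Cfsg.Agent.S3437
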