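import Cfsg.Statements.S3438
import Mathlib
import Cfsg.Agent.S3437
import Cfsg.Agent.S0279

set_option autoImplicit false
open Cfsg

namespace Cfsg.Agent.S3438


/-- the field with 49 elements as `F₇[√-1]` -/
abbrev KK7 : Type := QuadraticAlgebra (ZMod 7) (-1) 0

/-- quaternions over `KK7` -/
abbrev QQ7 : Type := QuaternionAlgebra KK7 (-1) 0 (-1)

instance : DecidableEq QQ7 := fun a b =>
  decidable_of_iff (a.re = b.re ∧ a.imI = b.imI ∧ a.imJ = b.imJ ∧ a.imK = b.imK)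
    ⟨fun h => QuaternionAlgebra.ext h.1 h.2.1 h.2.2.1 h.2.2.2,
      fun h => by subst h; exact ⟨rfl, rfl, rfl, rfl⟩⟩

/-- the 24 elements of `C₃ ⋊ C₈` -/
def MM0 : List QQ7 :=
  [⟨⟨0, 0⟩, ⟨0, 0⟩, ⟨3, 3⟩, ⟨4, 4⟩⟩,
   ⟨⟨0, 0⟩, ⟨0, 0⟩, ⟨3, 4⟩, ⟨4, 3⟩⟩,
   ⟨⟨0, 0⟩, ⟨0, 0⟩, ⟨4, 3⟩, ⟨3, 4⟩⟩,
   ⟨⟨0, 0⟩, ⟨0, 0⟩, ⟨4, 4⟩, ⟨3, 3⟩⟩,
   ⟨⟨0, 0⟩, ⟨3, 3⟩, ⟨0, 0⟩, ⟨4, 4⟩⟩,
   ⟨⟨0, 0⟩, ⟨3, 3⟩, ⟨4, 4⟩, ⟨0, 0⟩⟩,
   ⟨⟨0, 0⟩, ⟨3, 4⟩, ⟨0, 0⟩, ⟨4, 3⟩⟩,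
   ⟨⟨0, 0⟩, ⟨3, 4⟩, ⟨4, 3⟩, ⟨0, 0⟩⟩,
   ⟨⟨0, 0⟩, ⟨4, 3⟩, ⟨0, 0⟩, ⟨3, 4⟩⟩,
   ⟨⟨0, 0⟩, ⟨4, 3⟩, ⟨3, 4⟩, ⟨0, 0⟩⟩,
   ⟨⟨0, 0⟩, ⟨4, 4⟩, ⟨0, 0⟩, ⟨3, 3⟩⟩,
   ⟨⟨0, 0⟩, ⟨4, 4⟩, ⟨3, 3⟩, ⟨0, 0⟩⟩,
   ⟨⟨0, 1⟩, ⟨0, 0⟩, ⟨0, 0⟩, ⟨0, 0⟩⟩,
   ⟨⟨0, 3⟩, ⟨0, 3⟩, ⟨0, 3⟩, ⟨0, 3⟩⟩,
   ⟨⟨0, 3⟩, ⟨0, 4⟩, ⟨0, 4⟩, ⟨0, 4⟩⟩,
   ⟨⟨0, 4⟩, ⟨0, 3⟩, ⟨0, 3⟩, ⟨0, 3⟩⟩,
   ⟨⟨0, 4⟩, ⟨0, 4⟩, ⟨0, 4⟩, ⟨0, 4⟩⟩,
   ⟨⟨0, 6⟩, ⟨0, 0⟩, ⟨0, 0⟩, ⟨0, 0⟩⟩,
   ⟨⟨1, 0⟩, ⟨0, 0⟩, ⟨0, 0⟩, ⟨0, 0⟩⟩,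
   ⟨⟨3, 0⟩, ⟨3, 0⟩, ⟨3, 0⟩, ⟨3, 0⟩⟩,
   ⟨⟨3, 0⟩, ⟨4, 0⟩, ⟨4, 0⟩, ⟨4, 0⟩⟩,
   ⟨⟨4, 0⟩, ⟨3, 0⟩, ⟨3, 0⟩, ⟨3, 0⟩⟩,
   ⟨⟨4, 0⟩, ⟨4, 0⟩, ⟨4, 0⟩, ⟨4, 0⟩⟩,
   ⟨⟨6, 0⟩, ⟨0, 0⟩, ⟨0, 0⟩, ⟨0, 0⟩⟩]

/-- pairs `(a, b)` with `(a - 1) * b = 1` -/
def MMinv : List (QQ7 × QQ7) :=
  [(⟨⟨0, 3⟩, ⟨0, 3⟩, ⟨0, 3⟩, ⟨0, 3⟩⟩, ⟨⟨3, 1⟩, ⟨4, 0⟩, ⟨4, 0⟩, ⟨4, 0⟩⟩),
   (⟨⟨0, 6⟩, ⟨0, 0⟩, ⟨0, 0⟩, ⟨0, 0⟩⟩, ⟨⟨3, 4⟩, ⟨0, 0⟩, ⟨0, 0⟩, ⟨0, 0⟩⟩),
   (⟨⟨0, 4⟩, ⟨0, 3⟩, ⟨0, 3⟩, ⟨0, 3⟩⟩, ⟨⟨3, 6⟩, ⟨3, 0⟩, ⟨3, 0⟩, ⟨3, 0⟩⟩),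
   (⟨⟨0, 0⟩, ⟨3, 3⟩, ⟨4, 4⟩, ⟨0, 0⟩⟩, ⟨⟨3, 4⟩, ⟨4, 0⟩, ⟨3, 0⟩, ⟨0, 0⟩⟩),
   (⟨⟨0, 0⟩, ⟨3, 4⟩, ⟨4, 3⟩, ⟨0, 0⟩⟩, ⟨⟨3, 3⟩, ⟨4, 0⟩, ⟨3, 0⟩, ⟨0, 0⟩⟩),
   (⟨⟨3, 0⟩, ⟨4, 0⟩, ⟨4, 0⟩, ⟨4, 0⟩⟩, ⟨⟨3, 0⟩, ⟨1, 0⟩, ⟨1, 0⟩, ⟨1, 0⟩⟩),
   (⟨⟨0, 0⟩, ⟨4, 3⟩, ⟨0, 0⟩, ⟨3, 4⟩⟩, ⟨⟨3, 3⟩, ⟨3, 0⟩, ⟨0, 0⟩, ⟨4, 0⟩⟩),
   (⟨⟨4, 0⟩, ⟨3, 0⟩, ⟨3, 0⟩, ⟨3, 0⟩⟩, ⟨⟨3, 0⟩, ⟨4, 0⟩, ⟨4, 0⟩, ⟨4, 0⟩⟩),
   (⟨⟨4, 0⟩, ⟨4, 0⟩, ⟨4, 0⟩, ⟨4, 0⟩⟩, ⟨⟨3, 0⟩, ⟨3, 0⟩, ⟨3, 0⟩, ⟨3, 0⟩⟩),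
   (⟨⟨0, 0⟩, ⟨4, 4⟩, ⟨3, 3⟩, ⟨0, 0⟩⟩, ⟨⟨3, 4⟩, ⟨3, 0⟩, ⟨4, 0⟩, ⟨0, 0⟩⟩),
   (⟨⟨0, 0⟩, ⟨4, 4⟩, ⟨0, 0⟩, ⟨3, 3⟩⟩, ⟨⟨3, 4⟩, ⟨3, 0⟩, ⟨0, 0⟩, ⟨4, 0⟩⟩),
   (⟨⟨0, 0⟩, ⟨0, 0⟩, ⟨3, 3⟩, ⟨4, 4⟩⟩, ⟨⟨3, 4⟩, ⟨0, 0⟩, ⟨4, 0⟩, ⟨3, 0⟩⟩),
   (⟨⟨3, 0⟩, ⟨3, 0⟩, ⟨3, 0⟩, ⟨3, 0⟩⟩, ⟨⟨3, 0⟩, ⟨6, 0⟩, ⟨6, 0⟩, ⟨6, 0⟩⟩),
   (⟨⟨0, 4⟩, ⟨0, 4⟩, ⟨0, 4⟩, ⟨0, 4⟩⟩, ⟨⟨3, 6⟩, ⟨4, 0⟩, ⟨4, 0⟩, ⟨4, 0⟩⟩),
   (⟨⟨0, 0⟩, ⟨0, 0⟩, ⟨4, 3⟩, ⟨3, 4⟩⟩, ⟨⟨3, 3⟩, ⟨0, 0⟩, ⟨3, 0⟩, ⟨4, 0⟩⟩),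
   (⟨⟨0, 0⟩, ⟨0, 0⟩, ⟨4, 4⟩, ⟨3, 3⟩⟩, ⟨⟨3, 4⟩, ⟨0, 0⟩, ⟨3, 0⟩, ⟨4, 0⟩⟩),
   (⟨⟨0, 0⟩, ⟨4, 3⟩, ⟨3, 4⟩, ⟨0, 0⟩⟩, ⟨⟨3, 3⟩, ⟨3, 0⟩, ⟨4, 0⟩, ⟨0, 0⟩⟩),
   (⟨⟨6, 0⟩, ⟨0, 0⟩, ⟨0, 0⟩, ⟨0, 0⟩⟩, ⟨⟨3, 0⟩, ⟨0, 0⟩, ⟨0, 0⟩, ⟨0, 0⟩⟩),
   (⟨⟨0, 1⟩, ⟨0, 0⟩, ⟨0, 0⟩, ⟨0, 0⟩⟩, ⟨⟨3, 3⟩, ⟨0, 0⟩, ⟨0, 0⟩, ⟨0, 0⟩⟩),
   (⟨⟨0, 0⟩, ⟨3, 3⟩, ⟨0, 0⟩, ⟨4, 4⟩⟩, ⟨⟨3, 4⟩, ⟨4, 0⟩, ⟨0, 0⟩, ⟨3, 0⟩⟩),
   (⟨⟨0, 0⟩, ⟨0, 0⟩, ⟨3, 4⟩, ⟨4, 3⟩⟩, ⟨⟨3, 3⟩, ⟨0, 0⟩, ⟨4, 0⟩, ⟨3, 0⟩⟩),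
   (⟨⟨0, 0⟩, ⟨3, 4⟩, ⟨0, 0⟩, ⟨4, 3⟩⟩, ⟨⟨3, 3⟩, ⟨4, 0⟩, ⟨0, 0⟩, ⟨3, 0⟩⟩),
   (⟨⟨0, 3⟩, ⟨0, 4⟩, ⟨0, 4⟩, ⟨0, 4⟩⟩, ⟨⟨3, 1⟩, ⟨3, 0⟩, ⟨3, 0⟩, ⟨3, 0⟩⟩)]

/-- generator of order 8 -/
def gX : QQ7 := ⟨⟨0, 0⟩, ⟨3, 4⟩, ⟨4, 3⟩, ⟨0, 0⟩⟩
/-- its inverse -/
def gXi : QQ7 := ⟨⟨0, 0⟩, ⟨4, 4⟩, ⟨3, 3⟩, ⟨0, 0⟩⟩
/-- generator of order 3 -/
def gC : QQ7 := ⟨⟨3, 0⟩, ⟨4, 0⟩, ⟨4, 0⟩, ⟨4, 0⟩⟩
/-- its inverse -/
def gCi : QQ7 := ⟨⟨3, 0⟩, ⟨3, 0⟩, ⟨3, 0⟩, ⟨3, 0⟩⟩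

set_option maxRecDepth 100000 in
lemma gX_inv : gX * gXi = 1 ∧ gXi * gX = 1 := by decide +kernel

set_option maxRecDepth 100000 in
lemma gC_inv : gC * gCi = 1 ∧ gCi * gC = 1 := by decide +kernel

set_option maxRecDepth 100000 in
lemma MM0_one : (1 : QQ7) ∈ MM0 := by decide +kernel

set_option maxRecDepth 100000 in
lemma MM0_step : ∀ a ∈ MM0, gX * a ∈ MM0 ∧ gXi * a ∈ MM0 ∧ gC * a ∈ MM0 ∧ gCi * a ∈ MM0 := by
  decide +kernel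

set_option maxRecDepth 100000 in
lemma MM0_pow : ∀ a ∈ MM0, a ^ 8 = 1 ∨ a ^ 12 = 1 := by decide +kernel

set_option maxRecDepth 100000 in
lemma MMinv_spec : ∀ p ∈ MMinv, (p.1 - 1) * p.2 = 1 := by decide +kernel

set_option maxRecDepth 100000 in
lemma MM0_inv : ∀ a ∈ MM0, a = 1 ∨ a ∈ MMinv.map Prod.fst := by decide +kernel

set_option maxRecDepth 100000 in
lemma gX_pow : gX ^ 8 = 1 ∧ gX ^ 4 ≠ 1 := by decide +kernel

set_option maxRecDepth 100000 in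
lemma gT_pow : (gX ^ 2 * gC) ^ 12 = 1 ∧ (gX ^ 2 * gC) ^ 4 ≠ 1 ∧ (gX ^ 2 * gC) ^ 6 ≠ 1 := by
  decide +kernel

set_option maxRecDepth 100000 in
lemma seven_zero : (7 : QQ7) = 0 := by decide +kernel

set_option maxRecDepth 100000 in
lemma one_ne_zero_QQ7 : (1 : QQ7) ≠ 0 := by decide +kernel



section Concrete

open Cfsg.Agent.S3437 (Fb)

instance : Finite KK7 := Finite.of_equiv _ (QuadraticAlgebra.equivProd (-1 : ZMod 7) 0).symm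

instance : Finite QQ7 := Finite.of_equiv _ (QuaternionAlgebra.equivProd (-1 : KK7) 0 (-1)).symm

/-- generator of order 8 as a unit -/
def uX : QQ7ˣ := ⟨gX, gXi, gX_inv.1, gX_inv.2⟩
/-- generator of order 3 as a unit -/
def uC : QQ7ˣ := ⟨gC, gCi, gC_inv.1, gC_inv.2⟩

/-- the group `C₃ ⋊ C₈` -/
def CC7 : Subgroup QQ7ˣ := Subgroup.closure {uX, uC}

lemma CC7_mem (u : QQ7ˣ) (hu : u ∈ CC7) : (u : QQ7) ∈ MM0 := by
  refine Subgroup.closure_induction_left (p := fun (u : QQ7ˣ) _ => ((u : QQ7ˣ) : QQ7) ∈ MM0)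
    MM0_one ?_ ?_ hu
  · intro x hx y _ ih
    rw [Units.val_mul]
    rcases hx with rfl | rfl
    · exact (MM0_step _ ih).1
    · exact (MM0_step _ ih).2.2.1
  · intro x hx y _ ih
    rw [Units.val_mul]
    rcases hx with rfl | rfl
    · exact (MM0_step _ ih).2.1
    · exact (MM0_step _ ih).2.2.2

lemma card_CC7_le : Nat.card CC7 ≤ 24 := by
  classical
  let f : CC7 → (MM0.toFinset : Finset QQ7) := fun u =>
    ⟨((u : QQ7ˣ) : QQ7), List.mem_toFinset.mpr (CC7_mem u u.2)⟩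
  have hf : Function.Injective f := by
    intro a b h
    apply Subtype.ext
    apply Units.ext
    exact congrArg Subtype.val h
  calc Nat.card CC7 ≤ Nat.card (MM0.toFinset : Finset QQ7) := Nat.card_le_card_of_injective f hf
    _ = MM0.toFinset.card := by rw [Nat.card_eq_fintype_card, Fintype.card_coe]
    _ ≤ MM0.length := List.toFinset_card_le _
    _ = 24 := rfl

instance : Group.IsSolvable CC7 :=
  Cfsg.Agent.S3669.solvable_of_card_lt (Nat.card CC7) (lt_of_le_of_lt card_CC7_le (by norm_num))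
    CC7 rfl

/-- the solvable group `7^8 : (C₃ ⋊ C₈)` -/
abbrev HH7 : Type := Fb CC7

lemma HH7_solvable : Group.IsSolvable HH7 := S3437.Fb.isSolvable

lemma exists_fpf (g : CC7) (hg : g ≠ 1) : ∃ b : QQ7, ((((g : QQ7ˣ) : QQ7)) - 1) * b = 1 := by
  have hmem := CC7_mem g g.2
  rcases MM0_inv _ hmem with h | h
  · exfalso
    apply hg
    apply Subtype.ext
    apply Units.ext
    exact h
  · rw [List.mem_map] at h
    obtain ⟨p, hp, hp1⟩ := h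
    refine ⟨p.2, ?_⟩
    rw [← hp1]
    exact MMinv_spec p hp

lemma orderOf_HH7 (a : HH7) (h : a.g ≠ 1) : orderOf a = orderOf a.g := by
  obtain ⟨b, hb⟩ := exists_fpf a.g h
  exact S3437.Fb.orderOf_of_fpf a b hb

lemma orderOf_CC7_mem (g : CC7) : orderOf g ∈ ({1, 2, 3, 4, 6, 8, 12} : Set ℕ) := by
  have hmem := CC7_mem g g.2
  rcases MM0_pow _ hmem with h | h
  · have h1 : g ^ 8 = 1 := (S3437.Fb.coe_pow_eq_one_iff g 8).mp h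
    have hd := orderOf_dvd_of_pow_eq_one h1
    have : orderOf g ∈ Nat.divisors 8 := Nat.mem_divisors.mpr ⟨hd, by norm_num⟩
    have h8 : Nat.divisors 8 = {1, 2, 4, 8} := by decide
    rw [h8] at this
    simp only [Finset.mem_insert, Finset.mem_singleton] at this
    rcases this with h | h | h | h <;> rw [h] <;> simp
  · have h1 : g ^ 12 = 1 := (S3437.Fb.coe_pow_eq_one_iff g 12).mp h
    have hd := orderOf_dvd_of_pow_eq_one h1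
    have : orderOf g ∈ Nat.divisors 12 := Nat.mem_divisors.mpr ⟨hd, by norm_num⟩
    have h12 : Nat.divisors 12 = {1, 2, 3, 4, 6, 12} := by decide
    rw [h12] at this
    simp only [Finset.mem_insert, Finset.mem_singleton] at this
    rcases this with h | h | h | h | h | h <;> rw [h] <;> simp

/-- `uX` as an element of `CC7` -/
def sX : CC7 := ⟨uX, Subgroup.subset_closure (by simp)⟩
/-- `uC` as an element of `CC7` -/
def sC : CC7 := ⟨uC, Subgroup.subset_closure (by simp)⟩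

lemma coe_sX : ((sX : QQ7ˣ) : QQ7) = gX := rfl
lemma coe_sC : ((sC : QQ7ˣ) : QQ7) = gC := rfl

lemma orderOf_sX : orderOf sX = 8 := by
  have h := orderOf_eq_prime_pow (x := sX) (p := 2) (n := 2) ?_ ?_
  · simpa using h
  · intro h
    have := (S3437.Fb.coe_pow_eq_one_iff sX (2 ^ 2)).mpr h
    rw [coe_sX] at this
    exact gX_pow.2 this
  · apply (S3437.Fb.coe_pow_eq_one_iff sX (2 ^ (2 + 1))).mp
    rw [coe_sX]
    exact gX_pow.1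

lemma coe_sT : (((sX ^ 2 * sC : CC7) : QQ7ˣ) : QQ7) = gX ^ 2 * gC := by
  rw [Subgroup.coe_mul, Units.val_mul, Subgroup.coe_pow, Units.val_pow_eq_pow_val, coe_sX, coe_sC]

lemma orderOf_sT : orderOf (sX ^ 2 * sC) = 12 := by
  apply orderOf_eq_of_pow_and_pow_div_prime (by norm_num)
  · apply (S3437.Fb.coe_pow_eq_one_iff _ 12).mp
    rw [coe_sT]
    exact gT_pow.1
  · intro p hp hpd
    have hle : p ≤ 12 := Nat.le_of_dvd (by norm_num) hpd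
    interval_cases p
    · exact absurd hp (by norm_num)
    · exact absurd hp (by norm_num)
    · intro h
      have := (S3437.Fb.coe_pow_eq_one_iff _ (12 / 2)).mpr h
      rw [coe_sT] at this
      exact gT_pow.2.2 this
    · intro h
      have := (S3437.Fb.coe_pow_eq_one_iff _ (12 / 3)).mpr h
      rw [coe_sT] at this
      exact gT_pow.2.1 this
    · exact absurd hp (by norm_num)
    · exact absurd hpd (by norm_num)
    · exact absurd hp (by norm_num)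
    · exact absurd hpd (by norm_num)
    · exact absurd hp (by norm_num)
    · exact absurd hp (by norm_num)
    · exact absurd hp (by norm_num)
    · exact absurd hpd (by norm_num)
    · exact absurd hp (by norm_num)

lemma exists_orderOf_HH7 (g : CC7) (hg : g ≠ 1) : ∃ a : HH7, orderOf a = orderOf g :=
  ⟨⟨0, g⟩, orderOf_HH7 ⟨0, g⟩ hg⟩

lemma ne_one_of_orderOf (g : CC7) (n : ℕ) (h : orderOf g = n) (hn : n ≠ 1) : g ≠ 1 := by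
  rintro rfl
  rw [orderOf_one] at h
  exact hn h.symm

lemma exists_of_pow (g : CC7) (n k m : ℕ) (hg : orderOf g = n) (hk : k ≠ 0)
    (hm : n / Nat.gcd n k = m) (hm1 : m ≠ 1) : m ∈ Set.range (orderOf : HH7 → ℕ) := by
  have h : orderOf (g ^ k) = m := by
    rw [orderOf_pow' _ hk, hg, hm]
  obtain ⟨a, ha⟩ := exists_orderOf_HH7 _ (ne_one_of_orderOf _ _ h hm1)
  exact ⟨a, ha.trans h⟩

lemma seven_mul (v : QQ7) : ((7 : ℕ) : QQ7) * v = 0 := by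
  have : ((7 : ℕ) : QQ7) = 0 := by exact_mod_cast seven_zero
  rw [this, zero_mul]

lemma range_HH7 : Set.range (orderOf : HH7 → ℕ) = {1, 2, 3, 4, 6, 7, 8, 12} := by
  apply Set.eq_of_subset_of_subset
  · rintro _ ⟨a, rfl⟩
    by_cases h : a.g = 1
    · have h7 : a ^ 7 = 1 := S3437.Fb.pow_of_g_eq_one 7 seven_mul a h
      have hd := orderOf_dvd_of_pow_eq_one h7
      rcases (Nat.dvd_prime (by norm_num : Nat.Prime 7)).mp hd with h1 | h1 <;> rw [h1] <;> simp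
    · rw [orderOf_HH7 a h]
      have := orderOf_CC7_mem a.g
      simp only [Set.mem_insert_iff, Set.mem_singleton_iff] at this ⊢
      rcases this with h | h | h | h | h | h | h <;> rw [h] <;> simp
  · intro n hn
    simp only [Set.mem_insert_iff, Set.mem_singleton_iff] at hn
    rcases hn with rfl | rfl | rfl | rfl | rfl | rfl | rfl | rfl
    · exact ⟨1, orderOf_one⟩
    · exact exists_of_pow sX 8 4 2 orderOf_sX (by norm_num) (by norm_num) (by norm_num)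
    · exact exists_of_pow (sX ^ 2 * sC) 12 4 3 orderOf_sT (by norm_num) (by norm_num) (by norm_num)
    · exact exists_of_pow sX 8 2 4 orderOf_sX (by norm_num) (by norm_num) (by norm_num)
    · exact exists_of_pow (sX ^ 2 * sC) 12 2 6 orderOf_sT (by norm_num) (by norm_num) (by norm_num)
    · refine ⟨⟨1, 1⟩, ?_⟩
      haveI : Fact (Nat.Prime 7) := ⟨by norm_num⟩
      apply orderOf_eq_prime
      · exact S3437.Fb.pow_of_g_eq_one 7 seven_mul _ rfl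
      · intro h
        have h1 : (1 : QQ7) = 0 := congrArg Fb.v h
        exact one_ne_zero_QQ7 h1
    · exact exists_of_pow sX 8 1 8 orderOf_sX (by norm_num) (by norm_num) (by norm_num)
    · exact exists_of_pow (sX ^ 2 * sC) 12 1 12 orderOf_sT (by norm_num) (by norm_num)
        (by norm_num)

end Concrete



section CH

open Polynomial Matrix

variable {F : Type*} [Field F]

/-- Cayley–Hamilton for `3 × 3` matrices, by brute force. -/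
lemma ch3 (A : Matrix (Fin 3) (Fin 3) F) :
    A ^ 3 = A.trace • A ^ 2 - (A.adjugate).trace • A + A.det • (1 : Matrix (Fin 3) (Fin 3) F) := by
  ext i j
  fin_cases i <;> fin_cases j <;>
    simp [pow_succ, Matrix.mul_apply, Fin.sum_univ_three, Matrix.adjugate_fin_three,
      Matrix.trace_fin_three, Matrix.det_fin_three] <;> ring

lemma pow_eq_one_of_rel (A : Matrix (Fin 3) (Fin 3) F) (a b : F) (pa pb Q : F[X])
    (ha : pa = C a) (hb : pb = C b)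
    (hA : A ^ 3 = a • A ^ 2 + b • A + 1) (N : ℕ)
    (hQ : X ^ N - 1 = (X ^ 3 - pa * X ^ 2 - pb * X - 1) * Q) : A ^ N = 1 := by
  have h1 : aeval A (X ^ 3 - pa * X ^ 2 - pb * X - 1 : F[X]) = 0 := by
    rw [ha, hb]
    simp only [map_sub, map_mul, map_pow, aeval_X, aeval_C, map_one]
    rw [hA, ← Algebra.smul_def, ← Algebra.smul_def]
    abel
  have h2 : aeval A (X ^ N - 1 : F[X]) = 0 := by
    rw [hQ, map_mul, h1, zero_mul]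
  rw [map_sub, map_pow, aeval_X, map_one, sub_eq_zero] at h2
  exact h2

lemma case_0 (A : Matrix (Fin 3) (Fin 3) F) (ι : F) (hι : ι ^ 2 + 1 = 0) (h3 : (3 : F) = 0)
    (hA : A ^ 3 = (0 : F) • A ^ 2 - ((0 : F) ^ 3) • A + 1) : A ^ 3 = 1 := by
  have hI : (C ι : F[X]) ^ 2 + 1 = 0 := by
    rw [← map_pow, ← map_one C, ← map_add, hι, map_zero]
  have h3' : (3 : F[X]) = 0 := by
    rw [show (3 : F[X]) = C (3 : F) from (map_ofNat C 3).symm, h3, map_zero]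
  have ht3 : (0 : F) ^ 3 = (0 : F) := by
    linear_combination (0 : F) * h3 + (0 : F) * hι
  have hA' : A ^ 3 = (0 : F) • A ^ 2 + (0 : F) • A + 1 := by
    rw [hA, ht3]; module
  refine pow_eq_one_of_rel A (0 : F) (0 : F) (0 : F[X]) (0 : F[X])
    ((1) : F[X]) ?_ ?_ hA' 3 ?_
  · simp only [map_add, map_sub, map_neg, map_one, map_zero]
  · simp only [map_add, map_sub, map_neg, map_one, map_zero]
  · linear_combination (0 : F[X]) * h3' + (0 : F[X]) * hI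

lemma case_1 (A : Matrix (Fin 3) (Fin 3) F) (ι : F) (hι : ι ^ 2 + 1 = 0) (h3 : (3 : F) = 0)
    (hA : A ^ 3 = (ι : F) • A ^ 2 - ((ι : F) ^ 3) • A + 1) : A ^ 8 = 1 := by
  have hI : (C ι : F[X]) ^ 2 + 1 = 0 := by
    rw [← map_pow, ← map_one C, ← map_add, hι, map_zero]
  have h3' : (3 : F[X]) = 0 := by
    rw [show (3 : F[X]) = C (3 : F) from (map_ofNat C 3).symm, h3, map_zero]
  have ht3 : (ι : F) ^ 3 = (-ι : F) := by
    linear_combination (0 : F) * h3 + (ι : F) * hι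
  have hA' : A ^ 3 = (ι : F) • A ^ 2 + (ι : F) • A + 1 := by
    rw [hA, ht3]; module
  refine pow_eq_one_of_rel A (ι : F) (ι : F) (C ι : F[X]) (C ι : F[X])
    ((1) + (-C ι) * X + (-1 - C ι) * X ^ 2 + (-1 + C ι) * X ^ 3 + (C ι) * X ^ 4 + (1) * X ^ 5 : F[X]) ?_ ?_ hA' 8 ?_
  · simp only [map_add, map_sub, map_neg, map_one, map_zero]
  · simp only [map_add, map_sub, map_neg, map_one, map_zero]
  · linear_combination (0 : F[X]) * h3' + ((-1) * X ^ 2 + (-2) * X ^ 3 + (2) * X ^ 5 + (1) * X ^ 6 : F[X]) * hI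

lemma case_2 (A : Matrix (Fin 3) (Fin 3) F) (ι : F) (hι : ι ^ 2 + 1 = 0) (h3 : (3 : F) = 0)
    (hA : A ^ 3 = (-ι : F) • A ^ 2 - ((-ι : F) ^ 3) • A + 1) : A ^ 8 = 1 := by
  have hI : (C ι : F[X]) ^ 2 + 1 = 0 := by
    rw [← map_pow, ← map_one C, ← map_add, hι, map_zero]
  have h3' : (3 : F[X]) = 0 := by
    rw [show (3 : F[X]) = C (3 : F) from (map_ofNat C 3).symm, h3, map_zero]
  have ht3 : (-ι : F) ^ 3 = (ι : F) := by
    linear_combination (0 : F) * h3 + (-ι : F) * hι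
  have hA' : A ^ 3 = (-ι : F) • A ^ 2 + (-ι : F) • A + 1 := by
    rw [hA, ht3]; module
  refine pow_eq_one_of_rel A (-ι : F) (-ι : F) (-C ι : F[X]) (-C ι : F[X])
    ((1) + (C ι) * X + (-1 + C ι) * X ^ 2 + (-1 - C ι) * X ^ 3 + (-C ι) * X ^ 4 + (1) * X ^ 5 : F[X]) ?_ ?_ hA' 8 ?_
  · simp only [map_add, map_sub, map_neg, map_one, map_zero]
  · simp only [map_add, map_sub, map_neg, map_one, map_zero]
  · linear_combination (0 : F[X]) * h3' + ((-1) * X ^ 2 + (-2) * X ^ 3 + (2) * X ^ 5 + (1) * X ^ 6 : F[X]) * hI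

lemma case_3 (A : Matrix (Fin 3) (Fin 3) F) (ι : F) (hι : ι ^ 2 + 1 = 0) (h3 : (3 : F) = 0)
    (hA : A ^ 3 = (1 : F) • A ^ 2 - ((1 : F) ^ 3) • A + 1) : A ^ 4 = 1 := by
  have hI : (C ι : F[X]) ^ 2 + 1 = 0 := by
    rw [← map_pow, ← map_one C, ← map_add, hι, map_zero]
  have h3' : (3 : F[X]) = 0 := by
    rw [show (3 : F[X]) = C (3 : F) from (map_ofNat C 3).symm, h3, map_zero]
  have ht3 : (1 : F) ^ 3 = (1 : F) := by
    linear_combination (0 : F) * h3 + (0 : F) * hι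
  have hA' : A ^ 3 = (1 : F) • A ^ 2 + (-1 : F) • A + 1 := by
    rw [hA, ht3]; module
  refine pow_eq_one_of_rel A (1 : F) (-1 : F) (1 : F[X]) (-1 : F[X])
    ((1) + (1) * X : F[X]) ?_ ?_ hA' 4 ?_
  · simp only [map_add, map_sub, map_neg, map_one, map_zero]
  · simp only [map_add, map_sub, map_neg, map_one, map_zero]
  · linear_combination (0 : F[X]) * h3' + (0 : F[X]) * hI

lemma case_4 (A : Matrix (Fin 3) (Fin 3) F) (ι : F) (hι : ι ^ 2 + 1 = 0) (h3 : (3 : F) = 0)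
    (hA : A ^ 3 = (1 + ι : F) • A ^ 2 - ((1 + ι : F) ^ 3) • A + 1) : A ^ 7 = 1 := by
  have hI : (C ι : F[X]) ^ 2 + 1 = 0 := by
    rw [← map_pow, ← map_one C, ← map_add, hι, map_zero]
  have h3' : (3 : F[X]) = 0 := by
    rw [show (3 : F[X]) = C (3 : F) from (map_ofNat C 3).symm, h3, map_zero]
  have ht3 : (1 + ι : F) ^ 3 = (1 - ι : F) := by
    linear_combination (-1 + ι : F) * h3 + (3 + ι : F) * hι
  have hA' : A ^ 3 = (1 + ι : F) • A ^ 2 + (-1 + ι : F) • A + 1 := by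
    rw [hA, ht3]; module
  refine pow_eq_one_of_rel A (1 + ι : F) (-1 + ι : F) (1 + C ι : F[X]) (-1 + C ι : F[X])
    ((1) + (1 - C ι) * X + (-1) * X ^ 2 + (1 + C ι) * X ^ 3 + (1) * X ^ 4 : F[X]) ?_ ?_ hA' 7 ?_
  · simp only [map_add, map_sub, map_neg, map_one, map_zero]
  · simp only [map_add, map_sub, map_neg, map_one, map_zero]
  · linear_combination ((C ι) * X ^ 2 + (1) * X ^ 3 + (-1) * X ^ 4 + (C ι) * X ^ 5 : F[X]) * h3' + ((-1) * X ^ 2 + (-1) * X ^ 3 + (1) * X ^ 4 + (1) * X ^ 5 : F[X]) * hI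

lemma case_5 (A : Matrix (Fin 3) (Fin 3) F) (ι : F) (hι : ι ^ 2 + 1 = 0) (h3 : (3 : F) = 0)
    (hA : A ^ 3 = (1 - ι : F) • A ^ 2 - ((1 - ι : F) ^ 3) • A + 1) : A ^ 7 = 1 := by
  have hI : (C ι : F[X]) ^ 2 + 1 = 0 := by
    rw [← map_pow, ← map_one C, ← map_add, hι, map_zero]
  have h3' : (3 : F[X]) = 0 := by
    rw [show (3 : F[X]) = C (3 : F) from (map_ofNat C 3).symm, h3, map_zero]
  have ht3 : (1 - ι : F) ^ 3 = (1 + ι : F) := by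
    linear_combination (-1 - ι : F) * h3 + (3 - ι : F) * hι
  have hA' : A ^ 3 = (1 - ι : F) • A ^ 2 + (-1 - ι : F) • A + 1 := by
    rw [hA, ht3]; module
  refine pow_eq_one_of_rel A (1 - ι : F) (-1 - ι : F) (1 - C ι : F[X]) (-1 - C ι : F[X])
    ((1) + (1 + C ι) * X + (-1) * X ^ 2 + (1 - C ι) * X ^ 3 + (1) * X ^ 4 : F[X]) ?_ ?_ hA' 7 ?_
  · simp only [map_add, map_sub, map_neg, map_one, map_zero]
  · simp only [map_add, map_sub, map_neg, map_one, map_zero]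
  · linear_combination ((-C ι) * X ^ 2 + (1) * X ^ 3 + (-1) * X ^ 4 + (-C ι) * X ^ 5 : F[X]) * h3' + ((-1) * X ^ 2 + (-1) * X ^ 3 + (1) * X ^ 4 + (1) * X ^ 5 : F[X]) * hI

lemma case_6 (A : Matrix (Fin 3) (Fin 3) F) (ι : F) (hι : ι ^ 2 + 1 = 0) (h3 : (3 : F) = 0)
    (hA : A ^ 3 = (-1 : F) • A ^ 2 - ((-1 : F) ^ 3) • A + 1) : A ^ 6 = 1 := by
  have hI : (C ι : F[X]) ^ 2 + 1 = 0 := by
    rw [← map_pow, ← map_one C, ← map_add, hι, map_zero]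
  have h3' : (3 : F[X]) = 0 := by
    rw [show (3 : F[X]) = C (3 : F) from (map_ofNat C 3).symm, h3, map_zero]
  have ht3 : (-1 : F) ^ 3 = (-1 : F) := by
    linear_combination (0 : F) * h3 + (0 : F) * hι
  have hA' : A ^ 3 = (-1 : F) • A ^ 2 + (1 : F) • A + 1 := by
    rw [hA, ht3]; module
  refine pow_eq_one_of_rel A (-1 : F) (1 : F) (-1 : F[X]) (1 : F[X])
    ((1) + (-1) * X + (-1) * X ^ 2 + (1) * X ^ 3 : F[X]) ?_ ?_ hA' 6 ?_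
  · simp only [map_add, map_sub, map_neg, map_one, map_zero]
  · simp only [map_add, map_sub, map_neg, map_one, map_zero]
  · linear_combination ((-1) * X ^ 2 + (1) * X ^ 4 : F[X]) * h3' + (0 : F[X]) * hI

lemma case_7 (A : Matrix (Fin 3) (Fin 3) F) (ι : F) (hι : ι ^ 2 + 1 = 0) (h3 : (3 : F) = 0)
    (hA : A ^ 3 = (-1 + ι : F) • A ^ 2 - ((-1 + ι : F) ^ 3) • A + 1) : A ^ 12 = 1 := by
  have hI : (C ι : F[X]) ^ 2 + 1 = 0 := by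
    rw [← map_pow, ← map_one C, ← map_add, hι, map_zero]
  have h3' : (3 : F[X]) = 0 := by
    rw [show (3 : F[X]) = C (3 : F) from (map_ofNat C 3).symm, h3, map_zero]
  have ht3 : (-1 + ι : F) ^ 3 = (-1 - ι : F) := by
    linear_combination (1 + ι : F) * h3 + (-3 + ι : F) * hι
  have hA' : A ^ 3 = (-1 + ι : F) • A ^ 2 + (1 + ι : F) • A + 1 := by
    rw [hA, ht3]; module
  refine pow_eq_one_of_rel A (-1 + ι : F) (1 + ι : F) (-1 + C ι : F[X]) (1 + C ι : F[X])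
    ((1) + (-1 - C ι) * X + (1 + C ι) * X ^ 2 + (-1 + C ι) * X ^ 3 + (-C ι) * X ^ 4 + (C ι) * X ^ 5 + (-1 - C ι) * X ^ 6 + (1 - C ι) * X ^ 7 + (-1 + C ι) * X ^ 8 + (1) * X ^ 9 : F[X]) ?_ ?_ hA' 12 ?_
  · simp only [map_add, map_sub, map_neg, map_one, map_zero]
  · simp only [map_add, map_sub, map_neg, map_one, map_zero]
  · linear_combination ((C ι) * X ^ 3 + (-1) * X ^ 4 + (-C ι) * X ^ 5 + (-C ι) * X ^ 7 + (1) * X ^ 8 + (C ι) * X ^ 9 : F[X]) * h3' + ((-1) * X ^ 2 + (2) * X ^ 4 + (-2) * X ^ 8 + (1) * X ^ 10 : F[X]) * hI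

lemma case_8 (A : Matrix (Fin 3) (Fin 3) F) (ι : F) (hι : ι ^ 2 + 1 = 0) (h3 : (3 : F) = 0)
    (hA : A ^ 3 = (-1 - ι : F) • A ^ 2 - ((-1 - ι : F) ^ 3) • A + 1) : A ^ 12 = 1 := by
  have hI : (C ι : F[X]) ^ 2 + 1 = 0 := by
    rw [← map_pow, ← map_one C, ← map_add, hι, map_zero]
  have h3' : (3 : F[X]) = 0 := by
    rw [show (3 : F[X]) = C (3 : F) from (map_ofNat C 3).symm, h3, map_zero]
  have ht3 : (-1 - ι : F) ^ 3 = (-1 + ι : F) := by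
    linear_combination (1 - ι : F) * h3 + (-3 - ι : F) * hι
  have hA' : A ^ 3 = (-1 - ι : F) • A ^ 2 + (1 - ι : F) • A + 1 := by
    rw [hA, ht3]; module
  refine pow_eq_one_of_rel A (-1 - ι : F) (1 - ι : F) (-1 - C ι : F[X]) (1 - C ι : F[X])
    ((1) + (-1 + C ι) * X + (1 - C ι) * X ^ 2 + (-1 - C ι) * X ^ 3 + (C ι) * X ^ 4 + (-C ι) * X ^ 5 + (-1 + C ι) * X ^ 6 + (1 + C ι) * X ^ 7 + (-1 - C ι) * X ^ 8 + (1) * X ^ 9 : F[X]) ?_ ?_ hA' 12 ?_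
  · simp only [map_add, map_sub, map_neg, map_one, map_zero]
  · simp only [map_add, map_sub, map_neg, map_one, map_zero]
  · linear_combination ((-C ι) * X ^ 3 + (-1) * X ^ 4 + (C ι) * X ^ 5 + (C ι) * X ^ 7 + (1) * X ^ 8 + (-C ι) * X ^ 9 : F[X]) * h3' + ((-1) * X ^ 2 + (2) * X ^ 4 + (-2) * X ^ 8 + (1) * X ^ 10 : F[X]) * hI

end CH



section K9def

/-- the concrete field with 9 elements -/
abbrev K9 : Type := QuadraticAlgebra (ZMod 3) (-1) 0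

instance K9.fact : Fact (∀ r : ZMod 3, r ^ 2 ≠ -1 + 0 * r) := ⟨by decide⟩

instance : Fintype K9 := Fintype.ofEquiv _ (QuadraticAlgebra.equivProd (-1 : ZMod 3) 0).symm

lemma card_K9 : Fintype.card K9 = 9 := by
  rw [Fintype.card_congr (QuadraticAlgebra.equivProd (-1 : ZMod 3) 0)]
  simp [ZMod.card]

/-- the square root of `-1` in `K9` -/
def I9 : K9 := ⟨0, 1⟩

lemma I9_sq : I9 ^ 2 + 1 = 0 := by decide

lemma K9_cases (z : K9) : z = 0 ∨ z = I9 ∨ z = -I9 ∨ z = 1 ∨ z = 1 + I9 ∨ z = 1 - I9 ∨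
    z = -1 ∨ z = -1 + I9 ∨ z = -1 - I9 := by
  obtain ⟨u, v⟩ := z
  fin_cases u <;> fin_cases v <;> decide

end K9def

section SUspec

open Matrix

variable {F : Type*} [Field F] [Fintype F]

lemma three_eq_zero (hF : Fintype.card F = 9) : (3 : F) = 0 := by
  haveI : Fact (Nat.Prime 3) := ⟨by norm_num⟩
  haveI : CharP F 3 := charP_of_card_eq_prime_pow (f := 2) (by rw [hF]; norm_num)
  have := CharP.cast_eq_zero F 3
  exact_mod_cast this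

omit [Fintype F] in
/-- membership in `SU` gives the matrix identity -/
lemma unitary_of_mem (g : Matrix.SpecialLinearGroup (Fin 3) F) (hg : g ∈ Cfsg.SU 3 F 3) :
    (g : Matrix (Fin 3) (Fin 3) F)ᵀ * (g : Matrix (Fin 3) (Fin 3) F).map (· ^ 3) = 1 := by
  ext j k
  have h : Cfsg.hermForm 3 F 3 ((g : Matrix (Fin 3) (Fin 3) F) *ᵥ Pi.single j 1)
      ((g : Matrix (Fin 3) (Fin 3) F) *ᵥ Pi.single k 1)
      = Cfsg.hermForm 3 F 3 (Pi.single j 1) (Pi.single k 1) := hg _ _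
  rw [Matrix.mulVec_single_one, Matrix.mulVec_single_one] at h
  rw [Matrix.mul_apply]
  simp only [Matrix.transpose_apply, Matrix.map_apply]
  have h2 : Cfsg.hermForm 3 F 3 (Pi.single j 1) (Pi.single k 1) = (1 : Matrix (Fin 3) (Fin 3) F) j k := by
    fin_cases j <;> fin_cases k <;> simp [Cfsg.hermForm, Fin.sum_univ_three]
  rw [← h2, ← h]
  rfl

/-- the matrix identity gives membership in `SU` -/
lemma mem_of_unitary (hF : Fintype.card F = 9) (g : Matrix.SpecialLinearGroup (Fin 3) F)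
    (hU : (g : Matrix (Fin 3) (Fin 3) F)ᵀ * (g : Matrix (Fin 3) (Fin 3) F).map (· ^ 3) = 1) :
    g ∈ Cfsg.SU 3 F 3 := by
  haveI : Fact (Nat.Prime 3) := ⟨by norm_num⟩
  haveI : CharP F 3 := charP_of_card_eq_prime_pow (f := 2) (by rw [hF]; norm_num)
  intro u v
  show Cfsg.hermForm 3 F 3 ((g : Matrix (Fin 3) (Fin 3) F) *ᵥ u)
      ((g : Matrix (Fin 3) (Fin 3) F) *ᵥ v) = Cfsg.hermForm 3 F 3 u v
  set A : Matrix (Fin 3) (Fin 3) F := (g : Matrix (Fin 3) (Fin 3) F) with hA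
  have hmap : A.map (· ^ 3) = A.map (frobenius F 3) := by
    ext i j; simp [frobenius_def]
  rw [hmap] at hU
  have key : ∀ i, ((A *ᵥ v) i) ^ 3 = (A.map (frobenius F 3) *ᵥ ((frobenius F 3) ∘ v)) i := by
    intro i
    rw [← RingHom.map_mulVec, frobenius_def]
  unfold Cfsg.hermForm
  simp only [key]
  have e1 : ∑ i, (A *ᵥ u) i * (A.map (frobenius F 3) *ᵥ ((frobenius F 3) ∘ v)) i
      = (A *ᵥ u) ⬝ᵥ (A.map (frobenius F 3) *ᵥ ((frobenius F 3) ∘ v)) := rfl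
  rw [e1, dotProduct_comm, Matrix.dotProduct_mulVec, ← Matrix.mulVec_transpose,
    Matrix.mulVec_mulVec, hU, Matrix.one_mulVec, dotProduct_comm]
  simp [dotProduct, frobenius_def]

lemma trace_adj (hF : Fintype.card F = 9) (A : Matrix (Fin 3) (Fin 3) F) (hdet : A.det = 1)
    (hU : Aᵀ * A.map (· ^ 3) = 1) : A.adjugate.trace = A.trace ^ 3 := by
  have h3 := three_eq_zero hF
  have hB : A.map (· ^ 3) = A.adjugateᵀ := by
    calc A.map (· ^ 3) = (A.adjugateᵀ * Aᵀ) * A.map (· ^ 3) := by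
          rw [← Matrix.transpose_mul, Matrix.mul_adjugate, hdet, one_smul, Matrix.transpose_one,
            one_mul]
      _ = A.adjugateᵀ := by rw [Matrix.mul_assoc, hU, mul_one]
  have h1 : A.adjugate.trace = (A.map (· ^ 3)).trace := by rw [hB, Matrix.trace_transpose]
  rw [h1, Matrix.trace_fin_three, Matrix.trace_fin_three]
  simp only [Matrix.map_apply]
  linear_combination (-(A 0 0 ^ 2 * A 1 1 + A 0 0 ^ 2 * A 2 2 + A 1 1 ^ 2 * A 0 0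
    + A 1 1 ^ 2 * A 2 2 + A 2 2 ^ 2 * A 0 0 + A 2 2 ^ 2 * A 1 1
    + 2 * A 0 0 * A 1 1 * A 2 2)) * h3

lemma su_pow (hF : Fintype.card F = 9) (e : K9 ≃+* F) (g : Matrix.SpecialLinearGroup (Fin 3) F)
    (hg : g ∈ Cfsg.SU 3 F 3) :
    (g : Matrix (Fin 3) (Fin 3) F) ^ 6 = 1 ∨ (g : Matrix (Fin 3) (Fin 3) F) ^ 7 = 1 ∨
      (g : Matrix (Fin 3) (Fin 3) F) ^ 8 = 1 ∨ (g : Matrix (Fin 3) (Fin 3) F) ^ 12 = 1 := by
  set A : Matrix (Fin 3) (Fin 3) F := (g : Matrix (Fin 3) (Fin 3) F) with hAdef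
  have hdet : A.det = 1 := g.2
  have hU := unitary_of_mem g hg
  have h3 := three_eq_zero hF
  have hι : (e I9) ^ 2 + 1 = 0 := by
    have := congrArg e I9_sq
    simpa using this
  have hCH := ch3 A
  rw [trace_adj hF A hdet hU, hdet, one_smul] at hCH
  have hz := K9_cases (e.symm A.trace)
  have ht : ∀ z : K9, e.symm A.trace = z → A.trace = e z := by
    intro z hz
    rw [← hz, RingEquiv.apply_symm_apply]
  rcases hz with h | h | h | h | h | h | h | h | h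
  · have h' : A.trace = (0 : F) := by simp [ht _ h]
    rw [h'] at hCH
    left
    have := case_0 A (e I9) hι h3 hCH
    calc A ^ 6 = (A ^ 3) ^ 2 := by rw [← pow_mul]
      _ = 1 := by rw [this, one_pow]
  · have h' : A.trace = e I9 := by simp [ht _ h]
    rw [h'] at hCH
    right; right; left
    exact case_1 A (e I9) hι h3 hCH
  · have h' : A.trace = -e I9 := by simp [ht _ h]
    rw [h'] at hCH
    right; right; left
    exact case_2 A (e I9) hι h3 hCH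
  · have h' : A.trace = (1 : F) := by simp [ht _ h]
    rw [h'] at hCH
    right; right; left
    have := case_3 A (e I9) hι h3 hCH
    calc A ^ 8 = (A ^ 4) ^ 2 := by rw [← pow_mul]
      _ = 1 := by rw [this, one_pow]
  · have h' : A.trace = 1 + e I9 := by simp [ht _ h]
    rw [h'] at hCH
    right; left
    exact case_4 A (e I9) hι h3 hCH
  · have h' : A.trace = 1 - e I9 := by simp [ht _ h]
    rw [h'] at hCH
    right; left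
    exact case_5 A (e I9) hι h3 hCH
  · have h' : A.trace = (-1 : F) := by simp [ht _ h]
    rw [h'] at hCH
    left
    exact case_6 A (e I9) hι h3 hCH
  · have h' : A.trace = -1 + e I9 := by simp [ht _ h]
    rw [h'] at hCH
    right; right; right
    exact case_7 A (e I9) hι h3 hCH
  · have h' : A.trace = -1 - e I9 := by simp [ht _ h]
    rw [h'] at hCH
    right; right; right
    exact case_8 A (e I9) hι h3 hCH

end SUspec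



section Final

open Matrix

/-- element of order 8 -/
def M8 : Matrix (Fin 3) (Fin 3) K9 := !![0, 0, 1; 0, I9, 0; I9, 0, 0]
/-- element of order 7 -/
def M7 : Matrix (Fin 3) (Fin 3) K9 := !![0, 1 + I9, 1 + I9; 0, 1 + I9, -1 - I9; I9, 0, 0]
/-- element of order 12 -/
def M12 : Matrix (Fin 3) (Fin 3) K9 := !![0, 1 + I9, 1 - I9; 0, -1 + I9, -1 - I9; I9, 0, 0]

set_option maxRecDepth 100000 in
lemma M8_spec : M8.det = 1 ∧ M8ᵀ * M8.map (· ^ 3) = 1 ∧ M8 ^ 8 = 1 ∧ M8 ^ 4 ≠ 1 := by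
  decide +kernel

set_option maxRecDepth 100000 in
lemma M7_spec : M7.det = 1 ∧ M7ᵀ * M7.map (· ^ 3) = 1 ∧ M7 ^ 7 = 1 ∧ M7 ≠ 1 := by
  decide +kernel

set_option maxRecDepth 100000 in
lemma M12_spec : M12.det = 1 ∧ M12ᵀ * M12.map (· ^ 3) = 1 ∧ M12 ^ 12 = 1 ∧ M12 ^ 4 ≠ 1 ∧
    M12 ^ 6 ≠ 1 := by
  decide +kernel

variable {F : Type*} [Field F] [Fintype F]

omit [Fintype F] in
lemma map_pow_e (e : K9 ≃+* F) (M : Matrix (Fin 3) (Fin 3) K9) (n : ℕ) :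
    (M.map e) ^ n = (M ^ n).map e := by
  have := map_pow (e : K9 →+* F).mapMatrix M n
  simpa [RingHom.mapMatrix_apply] using this.symm

omit [Fintype F] in
lemma map_e_eq_one_iff (e : K9 ≃+* F) (M : Matrix (Fin 3) (Fin 3) K9) :
    M.map e = 1 ↔ M = 1 := by
  constructor
  · intro h
    apply Matrix.ext
    intro i j
    have h1 := congrFun (congrFun h i) j
    simp only [Matrix.map_apply, Matrix.one_apply] at h1 ⊢
    apply e.injective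
    rw [h1]
    split_ifs <;> simp
  · rintro rfl
    apply Matrix.ext
    intro i j
    simp only [Matrix.map_apply, Matrix.one_apply]
    split_ifs <;> simp

/-- transport a unitary matrix along a ring isomorphism -/
noncomputable def suOf (hF : Fintype.card F = 9) (e : K9 ≃+* F) (M : Matrix (Fin 3) (Fin 3) K9)
    (hd : M.det = 1) (hU : Mᵀ * M.map (· ^ 3) = 1) : Cfsg.SU 3 F 3 :=
  ⟨⟨M.map e, by
      have := RingHom.map_det (e : K9 →+* F) M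
      have h2 : (M.map e).det = e M.det := by
        simpa [RingHom.mapMatrix_apply] using this.symm
      rw [h2, hd, map_one]⟩,
    mem_of_unitary hF _ (by
      show (M.map e)ᵀ * (M.map e).map (· ^ 3) = 1
      have h1 : (M.map e).map (· ^ 3) = (M.map (· ^ 3)).map e := by
        apply Matrix.ext; intro i j; simp
      have h2 : (M.map e)ᵀ = (Mᵀ).map e := by
        apply Matrix.ext; intro i j; simp
      rw [h1, h2]
      have h3 := Matrix.map_mul (L := Mᵀ) (M := M.map (· ^ 3)) (f := (e : K9 →+* F))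
      have h4 : (Mᵀ).map e * (M.map (· ^ 3)).map e = (Mᵀ * M.map (· ^ 3)).map e := by
        exact h3.symm
      rw [h4, hU]
      exact (map_e_eq_one_iff e 1).mpr rfl)⟩

lemma suOf_pow (hF : Fintype.card F = 9) (e : K9 ≃+* F) (M : Matrix (Fin 3) (Fin 3) K9)
    (hd : M.det = 1) (hU : Mᵀ * M.map (· ^ 3) = 1) (n : ℕ) :
    (suOf hF e M hd hU) ^ n = 1 ↔ M ^ n = 1 := by
  have hcoe : ∀ x : Cfsg.SU 3 F 3, x = 1 ↔
      (((x : Matrix.SpecialLinearGroup (Fin 3) F)) : Matrix (Fin 3) (Fin 3) F) = 1 := by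
    intro x
    constructor
    · rintro rfl; rfl
    · intro h
      apply Subtype.ext
      apply Subtype.ext
      exact h
  rw [hcoe, Subgroup.coe_pow, Matrix.SpecialLinearGroup.coe_pow]
  show (M.map e) ^ n = 1 ↔ M ^ n = 1
  rw [map_pow_e, map_e_eq_one_iff]

omit [Fintype F] in
lemma su_elem_pow (x : Cfsg.SU 3 F 3) (n : ℕ)
    (h : ((x : Matrix.SpecialLinearGroup (Fin 3) F) : Matrix (Fin 3) (Fin 3) F) ^ n = 1) :
    x ^ n = 1 := by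
  apply Subtype.ext
  apply Subtype.ext
  rw [Subgroup.coe_pow, Matrix.SpecialLinearGroup.coe_pow, h]
  rfl

lemma orderOf_u8 (hF : Fintype.card F = 9) (e : K9 ≃+* F) :
    orderOf (suOf hF e M8 M8_spec.1 M8_spec.2.1) = 8 := by
  have h4 : ¬ (suOf hF e M8 M8_spec.1 M8_spec.2.1) ^ 2 ^ 2 = 1 := by
    intro h
    have := (suOf_pow hF e M8 M8_spec.1 M8_spec.2.1 4).mp h
    exact M8_spec.2.2.2 this
  have h8 : (suOf hF e M8 M8_spec.1 M8_spec.2.1) ^ 2 ^ (2 + 1) = 1 :=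
    (suOf_pow hF e M8 M8_spec.1 M8_spec.2.1 8).mpr M8_spec.2.2.1
  have h := orderOf_eq_prime_pow (p := 2) h4 h8
  simpa using h

lemma orderOf_u7 (hF : Fintype.card F = 9) (e : K9 ≃+* F) :
    orderOf (suOf hF e M7 M7_spec.1 M7_spec.2.1) = 7 := by
  haveI : Fact (Nat.Prime 7) := ⟨by norm_num⟩
  apply orderOf_eq_prime
  · exact (suOf_pow hF e M7 M7_spec.1 M7_spec.2.1 7).mpr M7_spec.2.2.1
  · intro h
    have h1 : (suOf hF e M7 M7_spec.1 M7_spec.2.1) ^ 1 = 1 := by rw [pow_one]; exact h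
    have := (suOf_pow hF e M7 M7_spec.1 M7_spec.2.1 1).mp h1
    rw [pow_one] at this
    exact M7_spec.2.2.2 this

lemma orderOf_u12 (hF : Fintype.card F = 9) (e : K9 ≃+* F) :
    orderOf (suOf hF e M12 M12_spec.1 M12_spec.2.1) = 12 := by
  have h12 : (suOf hF e M12 M12_spec.1 M12_spec.2.1) ^ 12 = 1 :=
    (suOf_pow hF e M12 M12_spec.1 M12_spec.2.1 12).mpr M12_spec.2.2.1
  have h6 : (suOf hF e M12 M12_spec.1 M12_spec.2.1) ^ 6 ≠ 1 := fun h =>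
    M12_spec.2.2.2.2 ((suOf_pow hF e M12 M12_spec.1 M12_spec.2.1 6).mp h)
  have h4 : (suOf hF e M12 M12_spec.1 M12_spec.2.1) ^ 4 ≠ 1 := fun h =>
    M12_spec.2.2.2.1 ((suOf_pow hF e M12 M12_spec.1 M12_spec.2.1 4).mp h)
  generalize suOf hF e M12 M12_spec.1 M12_spec.2.1 = x at h12 h6 h4 ⊢
  apply orderOf_eq_of_pow_and_pow_div_prime (by norm_num) h12
  intro p hp hpd
  have hle : p ≤ 12 := Nat.le_of_dvd (by norm_num) hpd
  interval_cases p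
  · exact absurd hp (by norm_num)
  · exact absurd hp (by norm_num)
  · exact h6
  · exact h4
  · exact absurd hp (by norm_num)
  · exact absurd hpd (by norm_num)
  · exact absurd hp (by norm_num)
  · exact absurd hpd (by norm_num)
  · exact absurd hp (by norm_num)
  · exact absurd hp (by norm_num)
  · exact absurd hp (by norm_num)
  · exact absurd hpd (by norm_num)
  · exact absurd hp (by norm_num)

lemma range_SU (hF : Fintype.card F = 9) :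
    Set.range (orderOf : Cfsg.SU 3 F 3 → ℕ) = {1, 2, 3, 4, 6, 7, 8, 12} := by
  classical
  have e : K9 ≃+* F := FiniteField.ringEquivOfCardEq (by rw [card_K9, hF])
  apply Set.eq_of_subset_of_subset
  · rintro _ ⟨x, rfl⟩
    rcases su_pow hF e x.1 x.2 with h | h | h | h
    · have hd := orderOf_dvd_of_pow_eq_one (su_elem_pow x 6 h)
      have : orderOf x ∈ Nat.divisors 6 := Nat.mem_divisors.mpr ⟨hd, by norm_num⟩
      have h6 : Nat.divisors 6 = {1, 2, 3, 6} := by decide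
      rw [h6] at this
      simp only [Finset.mem_insert, Finset.mem_singleton] at this
      rcases this with h | h | h | h <;> rw [h] <;> simp
    · have hd := orderOf_dvd_of_pow_eq_one (su_elem_pow x 7 h)
      rcases (Nat.dvd_prime (by norm_num : Nat.Prime 7)).mp hd with h1 | h1 <;> rw [h1] <;> simp
    · have hd := orderOf_dvd_of_pow_eq_one (su_elem_pow x 8 h)
      have : orderOf x ∈ Nat.divisors 8 := Nat.mem_divisors.mpr ⟨hd, by norm_num⟩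
      have h8 : Nat.divisors 8 = {1, 2, 4, 8} := by decide
      rw [h8] at this
      simp only [Finset.mem_insert, Finset.mem_singleton] at this
      rcases this with h | h | h | h <;> rw [h] <;> simp
    · have hd := orderOf_dvd_of_pow_eq_one (su_elem_pow x 12 h)
      have : orderOf x ∈ Nat.divisors 12 := Nat.mem_divisors.mpr ⟨hd, by norm_num⟩
      have h12 : Nat.divisors 12 = {1, 2, 3, 4, 6, 12} := by decide
      rw [h12] at this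
      simp only [Finset.mem_insert, Finset.mem_singleton] at this
      rcases this with h | h | h | h | h | h <;> rw [h] <;> simp
  · -- explicit elements
    have o8 := orderOf_u8 hF e
    have o7 := orderOf_u7 hF e
    have o12 := orderOf_u12 hF e
    have hpow : ∀ (x : Cfsg.SU 3 F 3) (n k m : ℕ), orderOf x = n → k ≠ 0 → n / Nat.gcd n k = m →
        m ∈ Set.range (orderOf : Cfsg.SU 3 F 3 → ℕ) := by
      intro x n k m hx hk hm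
      exact ⟨x ^ k, by rw [orderOf_pow' _ hk, hx, hm]⟩
    intro n hn
    simp only [Set.mem_insert_iff, Set.mem_singleton_iff] at hn
    rcases hn with rfl | rfl | rfl | rfl | rfl | rfl | rfl | rfl
    · exact ⟨1, orderOf_one⟩
    · exact hpow _ 8 4 2 o8 (by norm_num) (by norm_num)
    · exact hpow _ 12 4 3 o12 (by norm_num) (by norm_num)
    · exact hpow _ 8 2 4 o8 (by norm_num) (by norm_num)
    · exact hpow _ 12 2 6 o12 (by norm_num) (by norm_num)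
    · exact ⟨_, o7⟩
    · exact ⟨_, o8⟩
    · exact ⟨_, o12⟩

lemma center_SU_eq_bot (hF : Fintype.card F = 9) :
    Subgroup.center (Cfsg.SU 3 F 3) = ⊥ := by
  have h := Cfsg.Agent.S0279.card_center_SU (F := F) (q := 3) (by rw [hF]; norm_num) 3
    (by norm_num)
  have h1 : Nat.gcd 3 (3 + 1) = 1 := by norm_num
  rw [h1] at h
  exact (Subgroup.card_eq_one).mp h

lemma range_PSU (hF : Fintype.card F = 9) :
    Set.range (orderOf : Cfsg.PSU 3 F 3 → ℕ) = {1, 2, 3, 4, 6, 7, 8, 12} := by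
  rw [← range_SU hF]
  have hker : (QuotientGroup.mk' (Subgroup.center (Cfsg.SU 3 F 3))).ker = ⊥ := by
    rw [QuotientGroup.ker_mk', center_SU_eq_bot hF]
  have hinj : Function.Injective (QuotientGroup.mk' (Subgroup.center (Cfsg.SU 3 F 3))) :=
    (MonoidHom.ker_eq_bot_iff _).mp hker
  apply Set.eq_of_subset_of_subset
  · rintro _ ⟨x, rfl⟩
    obtain ⟨g, rfl⟩ := QuotientGroup.mk'_surjective _ x
    exact ⟨g, (orderOf_injective _ hinj g).symm⟩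
  · rintro _ ⟨g, rfl⟩
    exact ⟨QuotientGroup.mk' _ g, orderOf_injective _ hinj g⟩

end Final


/-- There is a finite solvable group with exactly the same set of element orders as the simple group PSU(3,3) (realised over the field with 9 elements). -/
theorem result {F : Type*} [Field F] [Fintype F] (hF : Fintype.card F = 9) :
    ∃ (H : Type) (_ : Group H) (_ : Fintype H), Group.IsSolvable H ∧ Set.range (orderOf : H → ℕ) = Set.range (orderOf : Cfsg.PSU 3 F 3 → ℕ) := by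
  refine ⟨HH7, inferInstance, Fintype.ofFinite HH7, HH7_solvable, ?_⟩
  rw [range_HH7, range_PSU hF]

end Cfsg.Agent.S3438
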