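import Cfsg.Statements.S3444
import Cfsg.Agent.Lib.Helper10.SolvableNormal

set_option autoImplicit false
open Cfsg

namespace Cfsg.Agent.S3444

/-- A finite group with a non-trivial solvable normal subgroup is not determined by its set of element orders, not even up to finitely many possibilities: for every bound N there is a finite group of order greater than N with exactly the same set of element orders. -/
theorem result {G : Type*} [Group G] [Finite G] (K : Subgroup G) [K.Normal] (hK : K ≠ ⊥)
    (hs : Group.IsSolvable K) (N : ℕ) :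
    ∃ (H : Type) (_ : Group H) (_ : Fintype H), N < Fintype.card H ∧ Set.range (orderOf : H → ℕ) = Set.range (orderOf : G → ℕ) := by
  obtain ⟨V, p, hVn, hVne, hp, hexp⟩ := Cfsg.Agent.Lib.Helper10.exists_normal_prime_exponent K hK hs
  have := hVn
  obtain ⟨H, hHg, hHf, hcard, hspec⟩ := Cfsg.Agent.Lib.Helper10.exists_isospectral_large p hp N G V hVne hexp
  obtain ⟨H', hg', hf', hcard', hspec'⟩ := Cfsg.Agent.Lib.Helper10.exists_small_copy H
  refine ⟨H', hg', hf', ?_, ?_⟩
  · rw [hcard']
    have h1 : 0 < Nat.card G := Nat.card_pos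
    have h2 : N < 2 ^ N := Nat.lt_two_pow_self
    calc N < 2 ^ N := h2
      _ = 2 ^ N * 1 := (mul_one _).symm
      _ ≤ 2 ^ N * Nat.card G := Nat.mul_le_mul_left _ h1
      _ ≤ Nat.card H := hcard
  · rw [hspec', hspec]

end Cfsg.Agent.S3444
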