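import Cfsg.Statements.S3448
import Cfsg.Agent.Lib.Helper10.AltFive

set_option autoImplicit false
open Cfsg

namespace Cfsg.Agent.S3448

open Cfsg.Agent.Lib.Helper10

/-- The set of element orders of the direct product of two copies of the alternating group of degree 5 is {1, 2, 3, 5, 6, 10, 15}. (It is shared by the direct product of two Frobenius groups of orders 50 and 75, so this direct product is not determined by its element orders.) -/
theorem result : Set.range (orderOf : alternatingGroup (Fin 5) × alternatingGroup (Fin 5) → ℕ) = {1, 2, 3, 5, 6, 10, 15} := by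
  ext n
  simp only [Set.mem_range, Set.mem_insert_iff, Set.mem_singleton_iff]
  constructor
  · rintro ⟨⟨a, b⟩, rfl⟩
    rw [Prod.orderOf]
    rcases altFive_orderOf_mem a with ha | ha | ha | ha <;>
    rcases altFive_orderOf_mem b with hb | hb | hb | hb <;>
    simp only [ha, hb] <;> decide
  · intro hn
    have key : ∀ x y : ℕ, (x = 1 ∨ x = 2 ∨ x = 3 ∨ x = 5) → (y = 1 ∨ y = 2 ∨ y = 3 ∨ y = 5) →
        ∃ g : alternatingGroup (Fin 5) × alternatingGroup (Fin 5), orderOf g = Nat.lcm x y := by
      intro x y hx hy
      obtain ⟨a, ha⟩ := altFive_exists_orderOf hx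
      obtain ⟨b, hb⟩ := altFive_exists_orderOf hy
      exact ⟨(a, b), by rw [Prod.orderOf, ha, hb]⟩
    rcases hn with rfl | rfl | rfl | rfl | rfl | rfl | rfl
    · exact key 1 1 (by decide) (by decide)
    · exact key 2 1 (by decide) (by decide)
    · exact key 3 1 (by decide) (by decide)
    · exact key 5 1 (by decide) (by decide)
    · exact key 2 3 (by decide) (by decide)
    · exact key 2 5 (by decide) (by decide)
    · exact key 3 5 (by decide) (by decide)

end Cfsg.Agent.S3448
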