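import Cfsg.Statements.S3449
import Cfsg.Agent.Lib.Helper10.AltFive

set_option autoImplicit false
open Cfsg

namespace Cfsg.Agent.S3449

open Cfsg.Agent.Lib.Helper10

theorem range_orderOf_zmod_thirty :
    Set.range (orderOf : Multiplicative (ZMod 30) → ℕ) = {d : ℕ | d ∣ 30} := by
  ext d
  simp only [Set.mem_range, Set.mem_setOf_eq]
  constructor
  · rintro ⟨g, rfl⟩
    have h := orderOf_dvd_natCard g
    rwa [Nat.card_eq_fintype_card, Fintype.card_multiplicative, ZMod.card] at h
  · intro hd
    obtain ⟨k, hk⟩ := hd
    refine ⟨Multiplicative.ofAdd ((k : ℕ) : ZMod 30), ?_⟩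
    rw [orderOf_ofAdd_eq_addOrderOf, ZMod.addOrderOf_coe k (by norm_num)]
    have hd0 : 0 < d := by
      rcases Nat.eq_zero_or_pos d with h | h
      · subst h; simp at hk
      · exact h
    have : Nat.gcd 30 k = k := by
      rw [hk]; exact Nat.gcd_mul_left_left d k
    rw [this, hk, Nat.mul_div_cancel]
    rcases Nat.eq_zero_or_pos k with h | h
    · subst h; simp at hk
    · exact h

theorem range_orderOf_altFive_cubed :
    Set.range (orderOf : alternatingGroup (Fin 5) × alternatingGroup (Fin 5) × alternatingGroup (Fin 5) → ℕ) =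
      {d : ℕ | d ∣ 30} := by
  ext n
  simp only [Set.mem_range, Set.mem_setOf_eq]
  constructor
  · rintro ⟨⟨a, b, c⟩, rfl⟩
    rw [Prod.orderOf, Prod.orderOf]
    rcases altFive_orderOf_mem a with ha | ha | ha | ha <;>
    rcases altFive_orderOf_mem b with hb | hb | hb | hb <;>
    rcases altFive_orderOf_mem c with hc | hc | hc | hc <;>
    simp only [ha, hb, hc] <;> decide
  · intro hn
    have key : ∀ x y z : ℕ, (x = 1 ∨ x = 2 ∨ x = 3 ∨ x = 5) → (y = 1 ∨ y = 2 ∨ y = 3 ∨ y = 5) →
        (z = 1 ∨ z = 2 ∨ z = 3 ∨ z = 5) →
        ∃ g : alternatingGroup (Fin 5) × alternatingGroup (Fin 5) × alternatingGroup (Fin 5),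
          orderOf g = Nat.lcm x (Nat.lcm y z) := by
      intro x y z hx hy hz
      obtain ⟨a, ha⟩ := altFive_exists_orderOf hx
      obtain ⟨b, hb⟩ := altFive_exists_orderOf hy
      obtain ⟨c, hc⟩ := altFive_exists_orderOf hz
      exact ⟨(a, b, c), by rw [Prod.orderOf, Prod.orderOf, ha, hb, hc]⟩
    have hmem : n ∈ Nat.divisors 30 := Nat.mem_divisors.2 ⟨hn, by norm_num⟩
    have hdiv : Nat.divisors 30 = {1, 2, 3, 5, 6, 10, 15, 30} := by decide
    rw [hdiv] at hmem
    simp only [Finset.mem_insert, Finset.mem_singleton] at hmem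
    rcases hmem with rfl | rfl | rfl | rfl | rfl | rfl | rfl | rfl
    · exact key 1 1 1 (by decide) (by decide) (by decide)
    · exact key 2 1 1 (by decide) (by decide) (by decide)
    · exact key 3 1 1 (by decide) (by decide) (by decide)
    · exact key 5 1 1 (by decide) (by decide) (by decide)
    · exact key 2 3 1 (by decide) (by decide) (by decide)
    · exact key 2 5 1 (by decide) (by decide) (by decide)
    · exact key 3 5 1 (by decide) (by decide) (by decide)
    · exact key 2 3 5 (by decide) (by decide) (by decide)

/-- The direct product of three copies of the alternating group of degree 5 has exactly the same set of element orders as the cyclic group of order 30, namely the divisors of 30; in particular a direct power of a non-abelian simple group need not be determined by its element orders. -/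
theorem result : Set.range (orderOf : alternatingGroup (Fin 5) × alternatingGroup (Fin 5) × alternatingGroup (Fin 5) → ℕ) =
      Set.range (orderOf : Multiplicative (ZMod 30) → ℕ) := by
  rw [range_orderOf_altFive_cubed, range_orderOf_zmod_thirty]

end Cfsg.Agent.S3449
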