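import Cfsg.Statements.S3494
import Cfsg.Agent.Lib.Helper11.ExtPrim

set_option autoImplicit false
open Cfsg

namespace Cfsg.Agent.S3494

open MulAction

/-- The kernel of a point stabiliser on one of its orbits, as a subgroup of the whole group. -/
def orbitKernel {G : Type*} [Group G] {Ω : Type*} [MulAction G Ω] (α ω : Ω) : Subgroup G where
  carrier := {k | k ∈ stabilizer G α ∧ ∀ x ∈ stabilizer G α, k • x • ω = x • ω}
  mul_mem' := by
    rintro a b ⟨ha, ha'⟩ ⟨hb, hb'⟩
    refine ⟨mul_mem ha hb, fun x hx => ?_⟩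
    rw [mul_smul, hb' x hx, ha' x hx]
  one_mem' := ⟨one_mem _, fun x _ => one_smul _ _⟩
  inv_mem' := by
    rintro a ⟨ha, ha'⟩
    refine ⟨inv_mem ha, fun x hx => ?_⟩
    rw [inv_smul_eq_iff, ha' x hx]

/-- Manning's Theorem on extremely primitive groups. Let a finite group G act faithfully and primitively on a finite set Ω with non-trivial point stabilizers, and suppose every point stabilizer G_α acts primitively on each of its orbits. Then G_α acts faithfully on each of its orbits other than {α}: an element of G_α fixing every point of one such orbit is the identity. -/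
theorem result {G : Type*} [Group G] [Finite G] {Ω : Type*} [Fintype Ω] [MulAction G Ω] [FaithfulSMul G Ω] (hprim : MulAction.IsPreprimitive G Ω) (hH : ∀ α : Ω, MulAction.stabilizer G α ≠ ⊥) (hep : ∀ (α : Ω) (ω : Ω), MulAction.IsPreprimitive (MulAction.stabilizer G α) (MulAction.orbit (MulAction.stabilizer G α) ω))
    (α ω : Ω) (hω : ω ≠ α) (h : MulAction.stabilizer G α) (hfix : ∀ x ∈ MulAction.orbit (MulAction.stabilizer G α) ω, h • x = x) : h = 1 := by
  have hK : orbitKernel (G := G) α ω = ⊥ := by
    apply Cfsg.Agent.Lib.Helper11.eq_bot_of_normal_of_fixes hprim hH hep α ω hω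
    · intro k hk
      exact hk.1
    · rintro x hx k ⟨hk, hk'⟩
      refine ⟨mul_mem (mul_mem hx hk) (inv_mem hx), fun y hy => ?_⟩
      rw [mul_smul, mul_smul, ← mul_smul x⁻¹ y, hk' _ (mul_mem (inv_mem hx) hy), ← mul_smul, mul_inv_cancel_left]
    · rintro k ⟨hk, hk'⟩
      simpa using hk' 1 (one_mem _)
  have hmem : (h : G) ∈ orbitKernel (G := G) α ω := by
    refine ⟨h.2, fun x hx => ?_⟩
    have := hfix (x • ω) ⟨⟨x, hx⟩, rfl⟩
    exact this
  rw [hK, Subgroup.mem_bot] at hmem
  exact Subtype.ext hmem

end Cfsg.Agent.S3494
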