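import Cfsg.Statements.S3495
import Cfsg.Agent.Lib.Helper11.ExtPrim

set_option autoImplicit false
open Cfsg

namespace Cfsg.Agent.S3495

open MulAction

/-- Let a finite group G act faithfully and primitively on a finite set Ω with non-trivial point stabilizers, each acting primitively on every one of its orbits (an extremely primitive group), and suppose G has an elementary abelian normal p-subgroup N acting regularly on Ω (affine type). Then every non-trivial subgroup M of a point stabilizer G_α that is normal in G_α has the same orbits on Ω as G_α, and normalizes no subgroup of N other than 1 and N. -/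
theorem result {G : Type*} [Group G] [Finite G] {Ω : Type*} [Fintype Ω] [MulAction G Ω] [FaithfulSMul G Ω] (hprim : MulAction.IsPreprimitive G Ω) (hH : ∀ α : Ω, MulAction.stabilizer G α ≠ ⊥) (hep : ∀ (α : Ω) (ω : Ω), MulAction.IsPreprimitive (MulAction.stabilizer G α) (MulAction.orbit (MulAction.stabilizer G α) ω))
    (N : Subgroup G) [N.Normal] (hNc : IsMulCommutative N) (p : ℕ) (hp : p.Prime) (hNp : ∀ n ∈ N, n ^ p = 1)
    (hNtr : MulAction.IsPretransitive N Ω) (hNreg : ∀ ω : Ω, MulAction.stabilizer N ω = ⊥) (α : Ω) (M : Subgroup G) (hM : M ≠ ⊥) (hMle : M ≤ MulAction.stabilizer G α)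
    (hMn : MulAction.stabilizer G α ≤ Subgroup.normalizer (M : Set G)) :
    (∀ ω : Ω, MulAction.orbit M ω = MulAction.orbit (MulAction.stabilizer G α) ω) ∧
    (∀ L : Subgroup G, L ≤ N → M ≤ Subgroup.normalizer (L : Set G) → L = ⊥ ∨ L = N) := by
  have hnorm : ∀ x ∈ stabilizer G α, ∀ m ∈ M, x * m * x⁻¹ ∈ M := by
    intro x hx m hm
    exact ((Subgroup.mem_normalizer_iff.1 (hMn hx)) m).1 hm
  -- key: M-orbits are G_α-orbits (elementwise form)
  have key : ∀ ω : Ω, ∀ x ∈ stabilizer G α, ∃ m ∈ M, m • ω = x • ω := by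
    intro ω x hx
    by_cases hω : ω = α
    · refine ⟨1, one_mem _, ?_⟩
      rw [hω, one_smul]
      exact hx.symm
    · apply Cfsg.Agent.Lib.Helper11.exists_smul_eq_of_normal_of_moves hep α M hMle hnorm ω _ x hx
      by_contra hcon
      push_neg at hcon
      exact hM (Cfsg.Agent.Lib.Helper11.eq_bot_of_normal_of_fixes hprim hH hep α ω hω M hMle hnorm hcon)
  refine ⟨?_, ?_⟩
  · intro ω
    ext y
    constructor
    · rintro ⟨m, rfl⟩
      exact ⟨⟨(m : G), hMle m.2⟩, rfl⟩
    · rintro ⟨x, rfl⟩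
      obtain ⟨m, hm, hmω⟩ := key ω x x.2
      exact ⟨⟨m, hm⟩, hmω⟩
  · intro L hLN hML
    by_cases hL : L = ⊥
    · exact Or.inl hL
    right
    -- regularity
    have hreg : ∀ n ∈ N, n • α = α → n = 1 := by
      intro n hn hnα
      have h1 : (⟨n, hn⟩ : N) ∈ stabilizer N α := hnα
      rw [hNreg α, Subgroup.mem_bot] at h1
      exact congrArg Subtype.val h1
    obtain ⟨l0, hl0, hl01⟩ : ∃ l ∈ L, l ≠ 1 := by
      by_contra hcon
      push_neg at hcon
      exact hL ((Subgroup.eq_bot_iff_forall L).2 hcon)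
    let S : Set Ω := {y | ∃ l ∈ L, l • α = y}
    have hαS : α ∈ S := ⟨1, one_mem _, one_smul _ _⟩
    have hS : S = Set.univ := by
      by_contra hSne
      refine Cfsg.Agent.Lib.Helper11.false_of_invariant_set hprim α S ⟨α, hαS⟩ hSne ?_ l0 ?_ ?_
      · rintro x hx _ ⟨l, hl, rfl⟩
        obtain ⟨m, hm, hmω⟩ := key (l • α) x hx
        refine ⟨m * l * m⁻¹, ((Subgroup.mem_normalizer_iff.1 (hML hm)) l).1 hl, ?_⟩
        have hmα : m • α = α := hMle hm
        have hmα' : m⁻¹ • α = α := by rw [inv_smul_eq_iff, hmα]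
        rw [← hmω, mul_smul, mul_smul, hmα']
      · intro h
        exact hl01 (hreg l0 (hLN hl0) h)
      · rintro _ ⟨l, hl, rfl⟩
        exact ⟨l0 * l, mul_mem hl0 hl, mul_smul _ _ _⟩
    apply le_antisymm hLN
    intro n hn
    have : n • α ∈ S := hS ▸ Set.mem_univ _
    obtain ⟨l, hl, hlα⟩ := this
    have h1 : (l⁻¹ * n) • α = α := by
      rw [mul_smul, ← hlα, inv_smul_smul]
    have h2 := hreg (l⁻¹ * n) (mul_mem (inv_mem (hLN hl)) hn) h1
    have h3 : n = l := by
      have := congrArg (fun z => l * z) h2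
      simpa using this
    rw [h3]
    exact hl

end Cfsg.Agent.S3495
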