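import Cfsg.Statements.S3496
import Mathlib
import Cfsg.Agent.S0547
import Cfsg.Agent.S0586
import Cfsg.Agent.Lib.Helper11.ExtPrim2
import Cfsg.Agent.Lib.Helper13.FpfCyclic
import Cfsg.Agent.S3356

set_option autoImplicit false
open Cfsg

namespace Cfsg.Agent.S3496


open Polynomial

section FieldLemma

variable {p : ℕ} [hp : Fact p.Prime] {M : Type*} [AddCommGroup M] [Module (ZMod p) M]
  (τ : Module.End (ZMod p) M) (v0 : M)

/-- `f ↦ f(τ) v0`. -/
noncomputable def evalMap : (ZMod p)[X] →ₗ[ZMod p] M :=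
  (LinearMap.applyₗ v0).comp (aeval τ).toLinearMap

theorem evalMap_apply (f : (ZMod p)[X]) : evalMap τ v0 f = aeval τ f v0 := rfl

/-- The annihilator of `v0` in the polynomial ring. -/
noncomputable def annIdeal : Ideal (ZMod p)[X] where
  carrier := {f | aeval τ f v0 = 0}
  add_mem' := by
    intro f g hf hg
    simp only [Set.mem_ofPred_eq] at hf hg ⊢
    rw [map_add, LinearMap.add_apply, hf, hg, add_zero]
  zero_mem' := by simp
  smul_mem' := by
    intro g f hf
    simp only [Set.mem_ofPred_eq, smul_eq_mul] at hf ⊢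
    rw [map_mul, Module.End.mul_apply, hf, map_zero]

theorem mem_annIdeal (f : (ZMod p)[X]) : f ∈ annIdeal τ v0 ↔ aeval τ f v0 = 0 := Iff.rfl

variable (hirr : ∀ W : Submodule (ZMod p) M, (∀ w ∈ W, τ w ∈ W) → W = ⊥ ∨ W = ⊤)

include hirr in
theorem evalMap_surjective (hv0 : v0 ≠ 0) : Function.Surjective (evalMap τ v0) := by
  have hinv : ∀ w ∈ LinearMap.range (evalMap τ v0), τ w ∈ LinearMap.range (evalMap τ v0) := by
    rintro w ⟨f, rfl⟩
    refine ⟨X * f, ?_⟩
    rw [evalMap_apply, evalMap_apply, map_mul, aeval_X, Module.End.mul_apply]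
  have hmem : v0 ∈ LinearMap.range (evalMap τ v0) := ⟨1, by rw [evalMap_apply, map_one]; rfl⟩
  rcases hirr _ hinv with h | h
  · exfalso
    rw [h] at hmem
    exact hv0 ((Submodule.mem_bot _).mp hmem)
  · exact LinearMap.range_eq_top.mp h

include hirr in
theorem aeval_eq_zero_of_mem (hv0 : v0 ≠ 0) {f : (ZMod p)[X]} (hf : f ∈ annIdeal τ v0) :
    aeval τ f = 0 := by
  apply LinearMap.ext
  intro w
  obtain ⟨g, rfl⟩ := evalMap_surjective τ v0 hirr hv0 w
  rw [evalMap_apply, ← Module.End.mul_apply, ← map_mul, mul_comm, map_mul, Module.End.mul_apply,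
    (mem_annIdeal τ v0 f).mp hf, map_zero]
  rfl

include hirr in
theorem annIdeal_isMaximal (hv0 : v0 ≠ 0) : (annIdeal τ v0).IsMaximal := by
  rw [Ideal.isMaximal_iff]
  refine ⟨?_, ?_⟩
  · rw [mem_annIdeal, map_one]
    exact hv0
  · intro J g hIJ hg hgJ
    have hne : aeval τ g v0 ≠ 0 := hg
    obtain ⟨f, hf⟩ := evalMap_surjective τ (aeval τ g v0) hirr hne v0
    rw [evalMap_apply, ← Module.End.mul_apply, ← map_mul] at hf
    have hmem : f * g - 1 ∈ annIdeal τ v0 := by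
      rw [mem_annIdeal, map_sub, LinearMap.sub_apply, hf, map_one]
      exact sub_self _
    have h1 : f * g - 1 ∈ J := hIJ hmem
    have h2 : f * g ∈ J := J.mul_mem_left f hgJ
    have : (1 : (ZMod p)[X]) = f * g - (f * g - 1) := by ring
    rw [this]
    exact J.sub_mem h2 h1

/-- The map from the quotient ring to `M`. -/
noncomputable def toM : ((ZMod p)[X] ⧸ annIdeal τ v0) → M :=
  fun y => Quotient.liftOn' y (fun f => aeval τ f v0) (by
    intro a b hab
    have hab' : a - b ∈ annIdeal τ v0 := (Submodule.quotientRel_def _).mp hab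
    rw [mem_annIdeal, map_sub, LinearMap.sub_apply] at hab'
    exact sub_eq_zero.mp hab')

theorem toM_mk (f : (ZMod p)[X]) : toM τ v0 (Ideal.Quotient.mk _ f) = aeval τ f v0 := rfl

theorem toM_injective : Function.Injective (toM τ v0) := by
  intro y y' h
  obtain ⟨f, rfl⟩ := Ideal.Quotient.mk_surjective y
  obtain ⟨g, rfl⟩ := Ideal.Quotient.mk_surjective y'
  rw [toM_mk, toM_mk] at h
  rw [Ideal.Quotient.eq, mem_annIdeal, map_sub, LinearMap.sub_apply, h, sub_self]

include hirr in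
theorem toM_surjective (hv0 : v0 ≠ 0) : Function.Surjective (toM τ v0) := by
  intro w
  obtain ⟨f, hf⟩ := evalMap_surjective τ v0 hirr hv0 w
  exact ⟨Ideal.Quotient.mk _ f, hf⟩

end FieldLemma



open Polynomial

section FieldLemmaA

variable {p : ℕ} [hp : Fact p.Prime] {M : Type*} [AddCommGroup M] [Module (ZMod p) M] [Finite M]
  (τ : Module.End (ZMod p) M) (v0 : M)
  (hirr : ∀ W : Submodule (ZMod p) M, (∀ w ∈ W, τ w ∈ W) → W = ⊥ ∨ W = ⊤)

include hirr in
/-- (a) the dimension is the order of `p` modulo `q`. -/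
theorem dim_le_of_dvd (hv0 : τ v0 ≠ v0) (d : ℕ) (hcard : Nat.card M = p ^ d)
    (q : ℕ) (hτq : τ ^ q = 1) (i : ℕ) (hi : 0 < i) (hqi : q ∣ p ^ i - 1) : d ≤ i := by
  have hv00 : v0 ≠ 0 := by
    intro h
    apply hv0
    rw [h, map_zero]
  have hmax := annIdeal_isMaximal τ v0 hirr hv00
  let _ : Field ((ZMod p)[X] ⧸ annIdeal τ v0) := Ideal.Quotient.field _
  have hfin : Finite ((ZMod p)[X] ⧸ annIdeal τ v0) := Finite.of_injective _ (toM_injective τ v0)
  have hKcard : Nat.card ((ZMod p)[X] ⧸ annIdeal τ v0) = p ^ d := by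
    rw [← hcard]
    exact Nat.card_congr (Equiv.ofBijective _ ⟨toM_injective τ v0, toM_surjective τ v0 hirr hv00⟩)
  have hchar : CharP ((ZMod p)[X] ⧸ annIdeal τ v0) p :=
    charP_of_injective_algebraMap (algebraMap (ZMod p) ((ZMod p)[X] ⧸ annIdeal τ v0)).injective p
  -- α^q = 1
  have hαq : (Ideal.Quotient.mk (annIdeal τ v0) X) ^ q = 1 := by
    rw [← map_pow, ← map_one (Ideal.Quotient.mk (annIdeal τ v0)), Ideal.Quotient.eq, mem_annIdeal,
      map_sub, map_pow, aeval_X, map_one, hτq, sub_self]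
    rfl
  have hpi : 1 ≤ p ^ i := Nat.one_le_pow _ _ hp.out.pos
  have hαpi : (Ideal.Quotient.mk (annIdeal τ v0) X) ^ (p ^ i) = Ideal.Quotient.mk (annIdeal τ v0) X := by
    obtain ⟨c, hc⟩ := hqi
    have e : p ^ i = q * c + 1 := by omega
    rw [e, pow_succ, pow_mul, hαq, one_pow, one_mul]
  -- every element satisfies y^(p^i) = y
  have hall : ∀ y : (ZMod p)[X] ⧸ annIdeal τ v0, y ^ (p ^ i) = y := by
    have hhom : (iterateFrobenius ((ZMod p)[X] ⧸ annIdeal τ v0) p i).comp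
        (Ideal.Quotient.mk (annIdeal τ v0)) = Ideal.Quotient.mk (annIdeal τ v0) := by
      apply Polynomial.ringHom_ext
      · intro a
        rw [RingHom.comp_apply, iterateFrobenius_def, ← map_pow, ← C_pow, ZMod.pow_card_pow]
      · rw [RingHom.comp_apply, iterateFrobenius_def, hαpi]
    intro y
    obtain ⟨f, rfl⟩ := Ideal.Quotient.mk_surjective y
    have := congrArg (fun φ => φ f) hhom
    simpa [RingHom.comp_apply, iterateFrobenius_def] using this
  -- a generator of the unit group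
  obtain ⟨g, hg⟩ := IsCyclic.exists_generator (α := ((ZMod p)[X] ⧸ annIdeal τ v0)ˣ)
  have hord : orderOf g = Nat.card ((ZMod p)[X] ⧸ annIdeal τ v0)ˣ :=
    orderOf_eq_card_of_forall_mem_zpowers hg
  rw [Nat.card_units, hKcard] at hord
  have hgpow : g ^ (p ^ i - 1) = 1 := by
    apply Units.ext
    rw [Units.val_pow_eq_pow_val, Units.val_one]
    have h1 := hall (g : (ZMod p)[X] ⧸ annIdeal τ v0)
    have e : p ^ i = (p ^ i - 1) + 1 := by omega
    rw [e, pow_succ] at h1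
    have hgne : (g : (ZMod p)[X] ⧸ annIdeal τ v0) ≠ 0 := g.ne_zero
    exact mul_right_cancel₀ hgne (by rw [h1, one_mul])
  have hdvd := orderOf_dvd_of_pow_eq_one hgpow
  rw [hord] at hdvd
  have h2 : 2 ≤ p := hp.out.two_le
  have hpos : 0 < p ^ i - 1 := by
    have : 2 ^ 1 ≤ p ^ i := by
      calc 2 ^ 1 ≤ p ^ 1 := by simpa using h2
        _ ≤ p ^ i := Nat.pow_le_pow_right hp.out.pos hi
    omega
  have hle := Nat.le_of_dvd hpos hdvd
  have hle' : p ^ d ≤ p ^ i := by
    have := Nat.one_le_pow d p hp.out.pos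
    omega
  exact (Nat.pow_le_pow_iff_right hp.out.one_lt).mp hle'

end FieldLemmaA



open Polynomial

section FieldLemmaB

variable {p : ℕ} [hp : Fact p.Prime] {M : Type*} [AddCommGroup M] [Module (ZMod p) M] [Finite M]
  (τ σ : Module.End (ZMod p) M) (v0 : M)
  (hirr : ∀ W : Submodule (ZMod p) M, (∀ w ∈ W, τ w ∈ W) → W = ⊥ ∨ W = ⊤)

omit [Finite M] in
theorem sigma_pow_comm (k : ℕ) (hστ : σ * τ = τ ^ k * σ) (j : ℕ) :
    σ * τ ^ j = (τ ^ k) ^ j * σ := by
  induction j with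
  | zero => simp
  | succ j ih =>
    rw [pow_succ, ← mul_assoc, ih, mul_assoc, hστ, ← mul_assoc, ← pow_succ]

omit [Finite M] in
theorem sigma_aeval_comm (k : ℕ) (hστ : σ * τ = τ ^ k * σ) (f : (ZMod p)[X]) :
    σ * aeval τ f = aeval (τ ^ k) f * σ := by
  induction f using Polynomial.induction_on' with
  | add f g hf hg => rw [map_add, map_add, mul_add, add_mul, hf, hg]
  | monomial n a =>
    rw [← C_mul_X_pow_eq_monomial, map_mul, map_mul, aeval_C, aeval_C, map_pow, map_pow, aeval_X,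
      aeval_X, Algebra.algebraMap_eq_smul_one, smul_mul_assoc, one_mul, smul_mul_assoc, one_mul,
      mul_smul_comm, smul_mul_assoc, sigma_pow_comm τ σ k hστ n]

include hirr in
/-- (b) an automorphism fixing `v0` and normalising `⟨τ⟩` has order dividing `d` modulo the
centraliser. -/
theorem exists_pow_comm (hv0 : τ v0 ≠ v0) (d : ℕ) (hcard : Nat.card M = p ^ d)
    (k : ℕ) (hσv : σ v0 = v0) (hστ : σ * τ = τ ^ k * σ) :
    ∃ n : ℕ, 0 < n ∧ n ∣ d ∧ τ ^ (k ^ n) = τ := by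
  have hv00 : v0 ≠ 0 := by
    intro h
    apply hv0
    rw [h, map_zero]
  have hmax := annIdeal_isMaximal τ v0 hirr hv00
  let _ : Field ((ZMod p)[X] ⧸ annIdeal τ v0) := Ideal.Quotient.field _
  have hfin : Finite ((ZMod p)[X] ⧸ annIdeal τ v0) := Finite.of_injective _ (toM_injective τ v0)
  have hKcard : Nat.card ((ZMod p)[X] ⧸ annIdeal τ v0) = p ^ d := by
    rw [← hcard]
    exact Nat.card_congr (Equiv.ofBijective _ ⟨toM_injective τ v0, toM_surjective τ v0 hirr hv00⟩)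
  -- the ideal is stable under f ↦ f(X^k)
  have hstable : ∀ f ∈ annIdeal τ v0, aeval (X ^ k : (ZMod p)[X]) f ∈ annIdeal τ v0 := by
    intro f hf
    rw [mem_annIdeal] at hf ⊢
    have h1 : aeval τ (aeval (X ^ k : (ZMod p)[X]) f) = aeval (τ ^ k) f := by
      rw [← Polynomial.comp_eq_aeval, Polynomial.aeval_comp, map_pow, aeval_X]
    rw [h1]
    have h2 := congrArg (fun φ => φ v0) (sigma_aeval_comm τ σ k hστ f)
    simp only [Module.End.mul_apply] at h2
    rw [hf, map_zero, hσv] at h2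
    exact h2.symm
  -- the induced algebra endomorphism
  let Ψ0 : (ZMod p)[X] →ₐ[ZMod p] ((ZMod p)[X] ⧸ annIdeal τ v0) :=
    (Ideal.Quotient.mkₐ (ZMod p) (annIdeal τ v0)).comp (aeval (X ^ k : (ZMod p)[X]))
  have hΨ0 : ∀ f ∈ annIdeal τ v0, Ψ0 f = 0 := by
    intro f hf
    show Ideal.Quotient.mk (annIdeal τ v0) (aeval (X ^ k : (ZMod p)[X]) f) = 0
    rw [Ideal.Quotient.eq_zero_iff_mem]
    exact hstable f hf
  let ψ : ((ZMod p)[X] ⧸ annIdeal τ v0) →ₐ[ZMod p] ((ZMod p)[X] ⧸ annIdeal τ v0) :=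
    Ideal.Quotient.liftₐ (annIdeal τ v0) Ψ0 hΨ0
  have hψmk : ∀ f, ψ (Ideal.Quotient.mk (annIdeal τ v0) f)
      = Ideal.Quotient.mk (annIdeal τ v0) (aeval (X ^ k : (ZMod p)[X]) f) := by
    intro f
    rfl
  have hψbij : Function.Bijective ψ := by
    have hinj : Function.Injective ψ := ψ.toRingHom.injective
    exact ⟨hinj, Finite.surjective_of_injective hinj⟩
  let ψ' : ((ZMod p)[X] ⧸ annIdeal τ v0) ≃ₐ[ZMod p] ((ZMod p)[X] ⧸ annIdeal τ v0) :=
    AlgEquiv.ofBijective ψ hψbij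
  have hψ'apply : ∀ y, ψ' y = ψ y := fun y => rfl
  have hψ'pow : ∀ n : ℕ, (ψ' ^ n) (Ideal.Quotient.mk (annIdeal τ v0) X)
      = Ideal.Quotient.mk (annIdeal τ v0) (X ^ (k ^ n)) := by
    intro n
    induction n with
    | zero => simp
    | succ n ih =>
      rw [pow_succ', AlgEquiv.mul_apply, ih, hψ'apply, hψmk, map_pow, aeval_X, ← pow_mul, ← pow_succ']
  have hfd : Module.Finite (ZMod p) ((ZMod p)[X] ⧸ annIdeal τ v0) := Module.Finite.of_finite
  have hgal : Nat.card (((ZMod p)[X] ⧸ annIdeal τ v0) ≃ₐ[ZMod p] ((ZMod p)[X] ⧸ annIdeal τ v0))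
      = Module.finrank (ZMod p) ((ZMod p)[X] ⧸ annIdeal τ v0) :=
    IsGalois.card_aut_eq_finrank _ _
  have hrank : Module.finrank (ZMod p) ((ZMod p)[X] ⧸ annIdeal τ v0) = d := by
    have h1 := Module.natCard_eq_pow_finrank (K := ZMod p) (V := (ZMod p)[X] ⧸ annIdeal τ v0)
    rw [hKcard, Nat.card_zmod] at h1
    exact (Nat.pow_right_injective hp.out.two_le h1).symm
  have hfinAut : Finite (((ZMod p)[X] ⧸ annIdeal τ v0) ≃ₐ[ZMod p] ((ZMod p)[X] ⧸ annIdeal τ v0)) := by
    apply Nat.finite_of_card_ne_zero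
    rw [hgal, hrank]
    intro hd0
    rw [hd0, pow_zero] at hcard
    have : Subsingleton M := (Nat.card_eq_one_iff_unique.mp hcard).1
    exact hv0 (Subsingleton.elim _ _)
  refine ⟨orderOf ψ', orderOf_pos ψ', ?_, ?_⟩
  · rw [← hrank, ← hgal]
    exact orderOf_dvd_natCard ψ'
  · have h1 := hψ'pow (orderOf ψ')
    rw [pow_orderOf_eq_one, AlgEquiv.one_apply] at h1
    have h2 : (X ^ (k ^ orderOf ψ') - X : (ZMod p)[X]) ∈ annIdeal τ v0 := by
      rw [← Ideal.Quotient.eq]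
      exact h1.symm
    have h3 := aeval_eq_zero_of_mem τ v0 hirr hv00 h2
    rw [map_sub, map_pow, aeval_X, sub_eq_zero] at h3
    exact h3

end FieldLemmaB



section Bridge

variable {p : ℕ} [hp : Fact p.Prime] {V : Type*} [CommGroup V] [Finite V]

/-- Multiplicative form of the field lemmas: an automorphism `τ` of an elementary abelian
`p`-group `V` of order `p ^ d` with no proper non-trivial invariant subgroup. -/
theorem bridge (hexp : ∀ v : V, v ^ p = 1) (τ : V →* V)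
    (hirr : ∀ W : Subgroup V, (∀ w ∈ W, τ w ∈ W) → W = ⊥ ∨ W = ⊤) (v0 : V) (hv0 : τ v0 ≠ v0)
    (d : ℕ) (hcard : Nat.card V = p ^ d) :
    (∀ q i : ℕ, (∀ v, τ^[q] v = v) → 0 < i → q ∣ p ^ i - 1 → d ≤ i) ∧
    (∀ (σ : V →* V) (k : ℕ), σ v0 = v0 → (∀ v, σ (τ v) = τ^[k] (σ v)) →
      ∃ n, 0 < n ∧ n ∣ d ∧ ∀ v, τ^[k ^ n] v = τ v) := by
  let _ : Module (ZMod p) (Additive V) := AddCommGroup.zmodModule (n := p) (fun x => hexp x)
  have hfinA : Finite (Additive V) := inferInstanceAs (Finite V)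
  let T : Module.End (ZMod p) (Additive V) := (MonoidHom.toAdditive τ).toZModLinearMap p
  have hT : ∀ x : Additive V, T x = Additive.ofMul (τ (Additive.toMul x)) := fun x => rfl
  have hTpow : ∀ (j : ℕ) (x : Additive V), (T ^ j) x = Additive.ofMul (τ^[j] (Additive.toMul x)) := by
    intro j
    induction j with
    | zero => intro x; simp
    | succ j ih =>
      intro x
      rw [pow_succ, Module.End.mul_apply, ih, hT, Function.iterate_succ_apply]
      rfl
  have hirr' : ∀ W : Submodule (ZMod p) (Additive V), (∀ w ∈ W, T w ∈ W) → W = ⊥ ∨ W = ⊤ := by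
    intro W hW
    let W' : Subgroup V :=
      { carrier := {v | Additive.ofMul v ∈ W}
        one_mem' := W.zero_mem
        mul_mem' := fun {a b} ha hb => W.add_mem ha hb
        inv_mem' := fun {a} ha => W.neg_mem ha }
    have hW' : ∀ w ∈ W', τ w ∈ W' := fun w hw => hW _ hw
    rcases hirr W' hW' with h | h
    · left
      rw [Submodule.eq_bot_iff]
      intro x hx
      have : Additive.toMul x ∈ W' := hx
      rw [h, Subgroup.mem_bot] at this
      exact this
    · right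
      rw [Submodule.eq_top_iff']
      intro x
      have : Additive.toMul x ∈ W' := by rw [h]; exact Subgroup.mem_top _
      exact this
  have hv0' : T (Additive.ofMul v0) ≠ Additive.ofMul v0 := hv0
  have hcard' : Nat.card (Additive V) = p ^ d := hcard
  refine ⟨?_, ?_⟩
  · intro q i hq hi hqi
    apply dim_le_of_dvd T (Additive.ofMul v0) hirr' hv0' d hcard' q _ i hi hqi
    apply LinearMap.ext
    intro x
    rw [hTpow, hq]
    rfl
  · intro σ k hσv hστ
    let Sg : Module.End (ZMod p) (Additive V) := (MonoidHom.toAdditive σ).toZModLinearMap p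
    have hSg : ∀ x : Additive V, Sg x = Additive.ofMul (σ (Additive.toMul x)) := fun x => rfl
    have h1 : Sg (Additive.ofMul v0) = Additive.ofMul v0 := congrArg Additive.ofMul hσv
    have h2 : Sg * T = T ^ k * Sg := by
      apply LinearMap.ext
      intro x
      rw [Module.End.mul_apply, Module.End.mul_apply, hTpow, hSg, hSg, hT]
      exact congrArg Additive.ofMul (hστ _)
    obtain ⟨n, hn0, hnd, hn⟩ := exists_pow_comm T Sg (Additive.ofMul v0) hirr' hv0' d hcard' k h1 h2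
    refine ⟨n, hn0, hnd, ?_⟩
    intro v
    have h3 : (T ^ (k ^ n)) (Additive.ofMul v) = T (Additive.ofMul v) := by rw [hn]
    rw [hTpow, hT] at h3
    exact h3

end Bridge



section BridgeSub

variable {p : ℕ} [hp : Fact p.Prime] {G : Type*} [Group G]

/-- conjugation by `t` as an endomorphism of a subgroup it normalises. -/
def conjOn (V : Subgroup G) (t : G) (ht : ∀ v ∈ V, t * v * t⁻¹ ∈ V) : ↥V →* ↥V where
  toFun v := ⟨t * v * t⁻¹, ht v v.2⟩
  map_one' := by ext; simp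
  map_mul' a b := by ext; simp

theorem conjOn_coe (V : Subgroup G) (t : G) (ht : ∀ v ∈ V, t * v * t⁻¹ ∈ V) (v : ↥V) :
    ((conjOn V t ht v : ↥V) : G) = t * v * t⁻¹ := rfl

theorem conjOn_iterate_coe (V : Subgroup G) (t : G) (ht : ∀ v ∈ V, t * v * t⁻¹ ∈ V) (j : ℕ)
    (v : ↥V) : (((conjOn V t ht)^[j] v : ↥V) : G) = t ^ j * v * (t ^ j)⁻¹ := by
  induction j generalizing v with
  | zero => simp
  | succ j ih =>
    rw [Function.iterate_succ_apply', conjOn_coe, ih, pow_succ']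
    group

theorem bridgeSub (V : Subgroup G) [Finite V] (hcomm : ∀ a ∈ V, ∀ b ∈ V, a * b = b * a)
    (hexp : ∀ v ∈ V, v ^ p = 1) (d : ℕ) (hcard : Nat.card V = p ^ d)
    (t : G) (ht : ∀ v ∈ V, t * v * t⁻¹ ∈ V)
    (hirr : ∀ W : Subgroup G, W ≤ V → (∀ w ∈ W, t * w * t⁻¹ ∈ W) → W = ⊥ ∨ W = V)
    (v0 : G) (hv0V : v0 ∈ V) (hv0 : t * v0 * t⁻¹ ≠ v0) :
    (∀ q i : ℕ, t ^ q = 1 → 0 < i → q ∣ p ^ i - 1 → d ≤ i) ∧
    (∀ (s : G) (k : ℕ), (∀ v ∈ V, s * v * s⁻¹ ∈ V) → s * v0 * s⁻¹ = v0 → s * t * s⁻¹ = t ^ k →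
      ∃ n, 0 < n ∧ n ∣ d ∧ ∀ v ∈ V, t ^ (k ^ n) * v * (t ^ (k ^ n))⁻¹ = t * v * t⁻¹) := by
  let CG : CommGroup ↥V :=
    { (inferInstance : Group ↥V) with
      mul_comm := fun a b => Subtype.ext (hcomm a a.2 b b.2) }
  have hexp' : ∀ v : ↥V, v ^ p = 1 := fun v => Subtype.ext (by simpa using hexp v v.2)
  have hirr' : ∀ W : Subgroup ↥V, (∀ w ∈ W, conjOn V t ht w ∈ W) → W = ⊥ ∨ W = ⊤ := by
    intro W hW
    have hle : W.map V.subtype ≤ V := Subgroup.map_subtype_le W
    have hinv : ∀ w ∈ W.map V.subtype, t * w * t⁻¹ ∈ W.map V.subtype := by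
      rintro _ ⟨w, hw, rfl⟩
      exact ⟨conjOn V t ht w, hW w hw, rfl⟩
    rcases hirr _ hle hinv with h | h
    · left
      exact (Subgroup.map_eq_bot_iff_of_injective W V.subtype_injective).mp h
    · right
      rw [eq_top_iff]
      intro x _
      have hx : (x : G) ∈ W.map V.subtype := by rw [h]; exact x.2
      obtain ⟨w, hw, hwx⟩ := hx
      have : w = x := Subtype.ext hwx
      rw [← this]
      exact hw
  have hv0' : conjOn V t ht ⟨v0, hv0V⟩ ≠ ⟨v0, hv0V⟩ := by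
    intro h
    exact hv0 (congrArg Subtype.val h)
  obtain ⟨hA, hB⟩ := @bridge p hp ↥V CG _ hexp' (conjOn V t ht) hirr' ⟨v0, hv0V⟩ hv0' d hcard
  refine ⟨?_, ?_⟩
  · intro q i htq hi hqi
    apply hA q i _ hi hqi
    intro v
    apply Subtype.ext
    rw [conjOn_iterate_coe, htq]
    simp
  · intro s k hs hsv hst
    have h1 : conjOn V s hs ⟨v0, hv0V⟩ = ⟨v0, hv0V⟩ := Subtype.ext hsv
    have h2 : ∀ v, conjOn V s hs (conjOn V t ht v) = (conjOn V t ht)^[k] (conjOn V s hs v) := by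
      intro v
      apply Subtype.ext
      rw [conjOn_iterate_coe, conjOn_coe, conjOn_coe, conjOn_coe, ← hst]
      group
    obtain ⟨n, hn0, hnd, hn⟩ := hB (conjOn V s hs) k h1 h2
    refine ⟨n, hn0, hnd, ?_⟩
    intro v hv
    have := congrArg Subtype.val (hn ⟨v, hv⟩)
    rw [conjOn_iterate_coe, conjOn_coe] at this
    exact this

end BridgeSub



open MulAction

/-- A solvable primitive group has a regular normal elementary abelian subgroup. -/
theorem exists_regular_normal {G : Type*} [Group G] [Finite G] {Ω : Type*} [Finite Ω]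
    [MulAction G Ω] [FaithfulSMul G Ω] [Group.IsSolvable G] (hnt : (⊤ : Subgroup G) ≠ ⊥)
    (hprim : IsPreprimitive G Ω) :
    ∃ V : Subgroup G, V.Normal ∧ V ≠ ⊥ ∧ (∀ a ∈ V, ∀ b ∈ V, a * b = b * a) ∧
      (∃ r e : ℕ, r.Prime ∧ (∀ v ∈ V, v ^ r = 1) ∧ Nat.card V = r ^ e) ∧
      (∀ ω ω' : Ω, ∃ v ∈ V, v • ω = ω') ∧ (∀ v ∈ V, ∀ ω : Ω, v • ω = ω → v = 1) ∧
      Nat.card V = Nat.card Ω := by
  obtain ⟨V, hVn, hV1, -, hVmin⟩ :=
    Cfsg.Agent.S0586.exists_minimal_normal_le (⊤ : Subgroup G) inferInstance hnt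
  have hcomm := Cfsg.Agent.S0547.minNormal_comm V hV1 hVmin
  obtain ⟨r, e, hr, -, hexp, hcard⟩ := Cfsg.Agent.S0547.minNormal_elemAb V hV1 hVmin
  -- transitivity
  have hq : IsQuasiPreprimitive G Ω := inferInstance
  have hne : fixedPoints V Ω ≠ Set.univ := by
    intro h
    apply hV1
    rw [Subgroup.eq_bot_iff_forall]
    intro v hv
    apply FaithfulSMul.eq_of_smul_eq_smul (α := Ω)
    intro ω
    rw [one_smul]
    have hmem : ω ∈ fixedPoints V Ω := by rw [h]; trivial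
    exact hmem ⟨v, hv⟩
  have htr : IsPretransitive V Ω := hq.isPretransitive_of_normal hne
  have htr' : ∀ ω ω' : Ω, ∃ v ∈ V, v • ω = ω' := by
    intro ω ω'
    obtain ⟨v, hv⟩ := exists_smul_eq V ω ω'
    exact ⟨v, v.2, hv⟩
  have hreg : ∀ v ∈ V, ∀ ω : Ω, v • ω = ω → v = 1 := by
    intro v hv ω hω
    apply FaithfulSMul.eq_of_smul_eq_smul (α := Ω)
    intro ω'
    obtain ⟨u, hu, rfl⟩ := htr' ω ω'
    rw [one_smul, ← mul_smul, hcomm v hv u hu, mul_smul, hω]
  refine ⟨V, hVn, hV1, hcomm, ⟨r, e, hr, hexp, hcard⟩, htr', hreg, ?_⟩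
  have hne : Nonempty Ω := by
    by_contra h
    rw [not_nonempty_iff] at h
    apply hV1
    rw [Subgroup.eq_bot_iff_forall]
    intro v _
    apply FaithfulSMul.eq_of_smul_eq_smul (α := Ω)
    intro ω
    exact (h.false ω).elim
  obtain ⟨ω⟩ := hne
  have h1 := MulAction.index_stabilizer_of_transitive V ω
  have h2 : stabilizer V ω = ⊥ := by
    rw [Subgroup.eq_bot_iff_forall]
    intro v hv
    apply Subtype.ext
    exact hreg v v.2 ω hv
  rw [h2, Subgroup.index_bot] at h1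
  exact h1



open MulAction

/-- (G1) a minimal normal subgroup of the (solvable) point stabiliser, seen in `G`. -/
theorem exists_A {G : Type*} [Group G] [Finite G] [Group.IsSolvable G] (H : Subgroup G)
    (hH : H ≠ ⊥) :
    ∃ (A : Subgroup G) (q : ℕ), q.Prime ∧ A ≤ H ∧ (∀ x ∈ H, ∀ a ∈ A, x * a * x⁻¹ ∈ A) ∧ A ≠ ⊥ ∧
      (∀ a ∈ A, ∀ b ∈ A, a * b = b * a) ∧ (∀ a ∈ A, a ^ q = 1) := by
  have hnt : (⊤ : Subgroup ↥H) ≠ ⊥ := by
    intro h
    apply hH
    rw [Subgroup.eq_bot_iff_forall]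
    intro x hx
    have : (⟨x, hx⟩ : ↥H) ∈ (⊤ : Subgroup ↥H) := Subgroup.mem_top _
    rw [h, Subgroup.mem_bot] at this
    exact congrArg Subtype.val this
  obtain ⟨T0, hTn, hT1, -, hTmin⟩ :=
    Cfsg.Agent.S0586.exists_minimal_normal_le (⊤ : Subgroup ↥H) inferInstance hnt
  have hcomm := Cfsg.Agent.S0547.minNormal_comm T0 hT1 hTmin
  obtain ⟨q, e, hq, -, hexp, -⟩ := Cfsg.Agent.S0547.minNormal_elemAb T0 hT1 hTmin
  refine ⟨T0.map H.subtype, q, hq, Subgroup.map_subtype_le T0, ?_, ?_, ?_, ?_⟩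
  · rintro x hx _ ⟨a, ha, rfl⟩
    exact ⟨⟨x, hx⟩ * a * ⟨x, hx⟩⁻¹, hTn.conj_mem a ha ⟨x, hx⟩, rfl⟩
  · intro h
    exact hT1 ((Subgroup.map_eq_bot_iff_of_injective T0 H.subtype_injective).mp h)
  · rintro _ ⟨a, ha, rfl⟩ _ ⟨b, hb, rfl⟩
    have := hcomm a ha b hb
    exact congrArg Subtype.val this
  · rintro _ ⟨a, ha, rfl⟩
    have := hexp a ha
    exact congrArg Subtype.val this

/-- (G2) -/
theorem card_of_cyclic_exp {G : Type*} [Group G] [Finite G] (A : Subgroup G) (q : ℕ)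
    (hq : q.Prime) (hA1 : A ≠ ⊥) (hexp : ∀ a ∈ A, a ^ q = 1) (hcyc : IsCyclic ↥A) :
    Nat.card A = q := by
  obtain ⟨g, hg⟩ := hcyc.exists_generator
  have hord : orderOf g = Nat.card A := orderOf_eq_card_of_forall_mem_zpowers hg
  have hgq : g ^ q = 1 := Subtype.ext (by simpa using hexp g g.2)
  have hdvd := orderOf_dvd_of_pow_eq_one hgq
  rcases (Nat.dvd_prime hq).mp hdvd with h | h
  · exfalso
    apply hA1
    rw [h] at hord
    exact Subgroup.card_eq_one.mp hord.symm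
  · rw [← hord, h]

/-- (G3) -/
theorem card_orbit_eq {G : Type*} [Group G] [Finite G] {Ω : Type*} [MulAction G Ω]
    (H A : Subgroup G) (hAH : A ≤ H) (ω : Ω)
    (ha : ∀ x ∈ H, ∃ a ∈ A, a • ω = x • ω) (hb : ∀ c ∈ A, c • ω = ω → c = 1) :
    Nat.card (orbit ↥H ω) = Nat.card A := by
  have horb : orbit ↥H ω = orbit ↥A ω := by
    ext ω'
    constructor
    · rintro ⟨x, rfl⟩
      obtain ⟨a, haA, hax⟩ := ha x x.2
      exact ⟨⟨a, haA⟩, hax⟩
    · rintro ⟨a, rfl⟩
      exact ⟨⟨a, hAH a.2⟩, rfl⟩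
  rw [horb, Nat.card_coe_set_eq, ← MulAction.index_stabilizer]
  have h2 : stabilizer ↥A ω = ⊥ := by
    rw [Subgroup.eq_bot_iff_forall]
    intro c hc
    apply Subtype.ext
    exact hb c c.2 hc
  rw [h2, Subgroup.index_bot]

/-- (G4) -/
theorem fpf_of_regular {G : Type*} [Group G] {Ω : Type*} [MulAction G Ω] (V A : Subgroup G)
    (α : Ω) (hAα : ∀ a ∈ A, a • α = α)
    (hreg : ∀ v ∈ V, ∀ ω : Ω, v • ω = ω → v = 1)
    (hb : ∀ ω, ω ≠ α → ∀ c ∈ A, c • ω = ω → c = 1) :
    ∀ a ∈ A, a ≠ 1 → V ⊓ Subgroup.centralizer {a} = ⊥ := by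
  intro a ha ha1
  rw [Subgroup.eq_bot_iff_forall]
  intro v hv
  rw [Subgroup.mem_inf] at hv
  obtain ⟨hvV, hvc⟩ := hv
  by_contra hv1
  have hvα : v • α ≠ α := fun h => hv1 (hreg v hvV α h)
  have hcomm : a * v = v * a := by
    rw [Subgroup.mem_centralizer_iff] at hvc
    exact hvc a rfl
  apply ha1
  apply hb (v • α) hvα a ha
  rw [← mul_smul, hcomm, mul_smul, hAα a ha]



open MulAction

/-- (G5) `V` has no proper non-trivial `A`-invariant subgroup. -/
theorem irreducible_V {G : Type*} [Group G] {Ω : Type*} [MulAction G Ω] [Finite Ω]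
    (hprim : IsPreprimitive G Ω) (α : Ω) (V A : Subgroup G) (hVn : V.Normal)
    (hreg : ∀ v ∈ V, ∀ ω : Ω, v • ω = ω → v = 1)
    (ha : ∀ ω, ω ≠ α → ∀ x ∈ stabilizer G α, ∃ a ∈ A, a • ω = x • ω)
    (W : Subgroup G) (hWV : W ≤ V) (hWA : ∀ a ∈ A, ∀ w ∈ W, a * w * a⁻¹ ∈ W)
    (hAH : A ≤ stabilizer G α) : W = ⊥ ∨ W = V := by
  by_cases hW : W = ⊥
  · exact Or.inl hW
  right
  obtain ⟨w0, hw01⟩ := Subgroup.ne_bot_iff_exists_ne_one.mp hW
  have hw0W : (w0 : G) ∈ W := w0.2
  have hw01' : (w0 : G) ≠ 1 := fun h => hw01 (Subtype.ext h)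
  -- conjugation by the stabiliser preserves W
  have hconj : ∀ x ∈ stabilizer G α, ∀ w ∈ W, x * w * x⁻¹ ∈ W := by
    intro x hx w hw
    by_cases hw1 : w = 1
    · subst hw1
      simp
    have hwα : w • α ≠ α := fun h => hw1 (hreg w (hWV hw) α h)
    obtain ⟨a, haA, hax⟩ := ha (w • α) hwα x hx
    have hxα : x • α = α := hx
    have hxiα : x⁻¹ • α = α := by rw [inv_smul_eq_iff, hxα]
    have haα : a • α = α := hAH haA
    have haiα : a⁻¹ • α = α := by rw [inv_smul_eq_iff, haα]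
    have h1 : (x * w * x⁻¹) • α = x • w • α := by rw [mul_smul, mul_smul, hxiα]
    have h2 : (a * w * a⁻¹) • α = a • w • α := by rw [mul_smul, mul_smul, haiα]
    have hmemV : (x * w * x⁻¹)⁻¹ * (a * w * a⁻¹) ∈ V :=
      V.mul_mem (V.inv_mem (hVn.conj_mem w (hWV hw) x)) (hVn.conj_mem w (hWV hw) a)
    have hfix : ((x * w * x⁻¹)⁻¹ * (a * w * a⁻¹)) • α = α := by
      rw [mul_smul, h2, hax, ← h1, inv_smul_smul]
    have := hreg _ hmemV α hfix
    have heq : x * w * x⁻¹ = a * w * a⁻¹ := by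
      calc x * w * x⁻¹ = (x * w * x⁻¹) * ((x * w * x⁻¹)⁻¹ * (a * w * a⁻¹)) := by rw [this, mul_one]
        _ = a * w * a⁻¹ := by group
    rw [heq]
    exact hWA a haA w hw
  let S : Set Ω := {ω | ∃ w ∈ W, w • α = ω}
  have hSne : S.Nonempty := ⟨α, 1, W.one_mem, one_smul _ _⟩
  have hSα : ∀ x ∈ stabilizer G α, ∀ ω ∈ S, x • ω ∈ S := by
    rintro x hx _ ⟨w, hw, rfl⟩
    refine ⟨x * w * x⁻¹, hconj x hx w hw, ?_⟩
    have hxiα : x⁻¹ • α = α := by rw [inv_smul_eq_iff]; exact (hx : x • α = α).symm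
    rw [mul_smul, mul_smul, hxiα]
  have hg : (w0 : G) • α ≠ α := fun h => hw01' (hreg _ (hWV hw0W) α h)
  have hgS : ∀ ω ∈ S, (w0 : G) • ω ∈ S := by
    rintro _ ⟨w, hw, rfl⟩
    exact ⟨w0 * w, W.mul_mem hw0W hw, mul_smul _ _ _⟩
  have hSuniv : S = Set.univ := by
    by_contra hS'
    exact Cfsg.Agent.Lib.Helper11.false_of_invariant_set hprim α S hSne hS' hSα _ hg hgS
  apply le_antisymm hWV
  intro v hv
  have : v • α ∈ S := by rw [hSuniv]; trivial
  obtain ⟨w, hw, hwv⟩ := this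
  have hmem : w⁻¹ * v ∈ V := V.mul_mem (V.inv_mem (hWV hw)) hv
  have hfix : (w⁻¹ * v) • α = α := by rw [mul_smul, ← hwv, inv_smul_smul]
  have h1 := hreg _ hmem α hfix
  have : v = w := by
    calc v = w * (w⁻¹ * v) := by group
      _ = w := by rw [h1, mul_one]
  rw [this]
  exact hw

/-- (G6) a subgroup of `H` meeting the self-centralising normal subgroup `A` of prime order
trivially is cyclic. -/
theorem cyclic_of_faithful {G : Type*} [Group G] [Finite G] (H A S0 : Subgroup G) (q : ℕ)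
    (hq : q.Prime) (hnorm : ∀ x ∈ H, ∀ a ∈ A, x * a * x⁻¹ ∈ A) (hcardA : Nat.card A = q)
    (hS0H : S0 ≤ H) (hS0A : S0 ⊓ A = ⊥)
    (hc : ∀ c ∈ H, (∀ a ∈ A, c * a = a * c) → c ∈ A) : IsCyclic ↥S0 := by
  have hS0N : S0 ≤ Subgroup.normalizer (A : Set G) := by
    intro x hx
    rw [Subgroup.mem_normalizer_iff]
    intro a
    constructor
    · intro ha
      exact hnorm x (hS0H hx) a ha
    · intro ha
      have := hnorm x⁻¹ (H.inv_mem (hS0H hx)) _ ha
      have e : x⁻¹ * (x * a * x⁻¹) * x⁻¹⁻¹ = a := by group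
      rwa [e] at this
  have hAcyc : IsCyclic ↥A := by
    have : Fact (Nat.card ↥A).Prime := ⟨hcardA ▸ hq⟩
    exact isCyclic_of_prime_card rfl
  have hprime : Fact (Nat.card ↥A).Prime := ⟨hcardA ▸ hq⟩
  let f : ↥S0 →* MulAut ↥A := A.normalizerMonoidHom.comp (Subgroup.inclusion hS0N)
  have hf : Function.Injective f := by
    rw [injective_iff_map_eq_one]
    intro x hx
    have hker : Subgroup.inclusion hS0N x ∈ A.normalizerMonoidHom.ker := hx
    rw [Subgroup.normalizerMonoidHom_ker, Subgroup.mem_subgroupOf] at hker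
    have hxc : (x : G) ∈ Subgroup.centralizer (A : Set G) := hker
    have hxA : (x : G) ∈ A := by
      apply hc _ (hS0H x.2)
      intro a ha
      rw [Subgroup.mem_centralizer_iff] at hxc
      exact (hxc a ha).symm
    have : (x : G) ∈ S0 ⊓ A := ⟨x.2, hxA⟩
    rw [hS0A, Subgroup.mem_bot] at this
    exact Subtype.ext this
  let e : MulAut ↥A ≃* (ZMod (Nat.card ↥A))ˣ := IsCyclic.mulAutMulEquiv ↥A
  have hcycU : IsCyclic (ZMod (Nat.card ↥A))ˣ := inferInstance
  exact isCyclic_of_injective (e.toMonoidHom.comp f) (e.injective.comp hf)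

theorem pow_conj {G : Type*} [Group G] (s t : G) (k : ℕ) (h : s * t * s⁻¹ = t ^ k) (n : ℕ) :
    s ^ n * t * (s ^ n)⁻¹ = t ^ (k ^ n) := by
  induction n with
  | zero => simp
  | succ n ih =>
    have e : s ^ (n + 1) * t * (s ^ (n + 1))⁻¹ = s * (s ^ n * t * (s ^ n)⁻¹) * s⁻¹ := by
      rw [pow_succ']
      group
    rw [e, ih, ← conj_pow, h, ← pow_mul, ← pow_succ']



open MulAction

theorem exists_nat_pow_of_generator {G : Type*} [Group G] [Finite G] (A : Subgroup G) (t' : ↥A)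
    (ht' : ∀ x : ↥A, x ∈ Subgroup.zpowers t') (a : G) (ha : a ∈ A) :
    ∃ j : ℕ, (t' : G) ^ j = a := by
  obtain ⟨z, hz⟩ := Subgroup.mem_zpowers_iff.mp (ht' ⟨a, ha⟩)
  have hpos : (0 : ℤ) < orderOf t' := by exact_mod_cast orderOf_pos t'
  refine ⟨(z % orderOf t').toNat, ?_⟩
  have h1 : t' ^ (z % (orderOf t' : ℤ)) = t' ^ z := zpow_mod_orderOf t' z
  have h2 : ((z % (orderOf t' : ℤ)).toNat : ℤ) = z % (orderOf t' : ℤ) :=
    Int.toNat_of_nonneg (Int.emod_nonneg _ hpos.ne')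
  have h3 : t' ^ (z % (orderOf t' : ℤ)).toNat = t' ^ z := by
    rw [← zpow_natCast, h2, h1]
  have := congrArg Subtype.val (h3.trans hz)
  simpa using this

theorem conj_pow_mem {G : Type*} [Group G] (W : Subgroup G) (t : G)
    (h : ∀ w ∈ W, t * w * t⁻¹ ∈ W) (j : ℕ) : ∀ w ∈ W, t ^ j * w * (t ^ j)⁻¹ ∈ W := by
  induction j with
  | zero => intro w hw; simpa using hw
  | succ j ih =>
    intro w hw
    have e : t ^ (j + 1) * w * (t ^ (j + 1))⁻¹ = t * (t ^ j * w * (t ^ j)⁻¹) * t⁻¹ := by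
      rw [pow_succ']
      group
    rw [e]
    exact h _ (ih w hw)

theorem le_normalizer_of_conj {G : Type*} [Group G] (H A : Subgroup G)
    (hnorm : ∀ x ∈ H, ∀ a ∈ A, x * a * x⁻¹ ∈ A) : H ≤ Subgroup.normalizer (A : Set G) := by
  intro x hx
  rw [Subgroup.mem_normalizer_iff]
  intro a
  constructor
  · intro ha
    exact hnorm x hx a ha
  · intro ha
    have := hnorm x⁻¹ (H.inv_mem hx) _ ha
    have e : x⁻¹ * (x * a * x⁻¹) * x⁻¹⁻¹ = a := by group
    rwa [e] at this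


/-- The soluble extremely primitive groups. Let a finite solvable group G act faithfully and primitively on a finite set Ω with p ^ d points (p prime), with non-trivial point stabilizers each acting primitively on every one of its orbits. Then there is a prime q such that every orbit of a point stabilizer G_α other than {α} has exactly q points, q divides p ^ d − 1 but no p ^ i − 1 with 0 < i < d, and G_α has a normal subgroup T of order q with G_α generated by T and one further element and the order of G_α dividing q·d (so G_α is cyclic of order q, or an extension of T by a cyclic group of order dividing d). -/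
theorem result {G : Type*} [Group G] [Finite G] {Ω : Type*} [Fintype Ω] [MulAction G Ω] [FaithfulSMul G Ω] [Group.IsSolvable G] (p d : ℕ) (hp : p.Prime) (hcard : Fintype.card Ω = p ^ d)
    (hprim : MulAction.IsPreprimitive G Ω) (hH : ∀ α : Ω, MulAction.stabilizer G α ≠ ⊥) (hep : ∀ (α : Ω) (ω : Ω), MulAction.IsPreprimitive (MulAction.stabilizer G α) (MulAction.orbit (MulAction.stabilizer G α) ω)) (α : Ω) :
    ∃ q : ℕ, q.Prime ∧ (∀ ω : Ω, ω ≠ α → Nat.card (MulAction.orbit (MulAction.stabilizer G α) ω) = q) ∧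
      q ∣ p ^ d - 1 ∧ (∀ i : ℕ, 0 < i → i < d → ¬ q ∣ p ^ i - 1) ∧
      ∃ T : Subgroup G, T ≤ MulAction.stabilizer G α ∧ MulAction.stabilizer G α ≤ Subgroup.normalizer (T : Set G) ∧ Nat.card T = q ∧
        (∃ h : G, MulAction.stabilizer G α = T ⊔ Subgroup.zpowers h) ∧ Nat.card (MulAction.stabilizer G α) ∣ q * d := by
  have hFact : Fact p.Prime := ⟨hp⟩
  have hnt : (⊤ : Subgroup G) ≠ ⊥ := by
    intro h
    apply hH α
    rw [eq_bot_iff, ← h]
    exact le_top
  obtain ⟨V, hVn, hV1, hVcomm, ⟨r, e, hr, hVexp, hVcard⟩, hVtr, hVreg, hVΩ⟩ :=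
    exists_regular_normal hnt hprim
  have hcard' : Nat.card Ω = p ^ d := by rw [Nat.card_eq_fintype_card, hcard]
  have hre : r ^ e = p ^ d := by rw [← hVcard, hVΩ, hcard']
  have he0 : e ≠ 0 := by
    intro h
    rw [h, pow_zero] at hVcard
    exact hV1 (Subgroup.card_eq_one.mp hVcard)
  have hrp : r = p := by
    have h1 : r ∣ p ^ d := by
      rw [← hre]
      exact dvd_pow_self r he0
    exact (Nat.prime_dvd_prime_iff_eq hr hp).mp (hr.dvd_of_dvd_pow h1)
  rw [hrp] at hre hVexp hVcard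
  have hed : e = d := Nat.pow_right_injective hp.two_le hre
  rw [hed] at hVcard
  obtain ⟨A, q, hq, hAH, hAnorm, hA1, hAcomm, hAexp⟩ := exists_A (stabilizer G α) (hH α)
  obtain ⟨ha, hb, hc⟩ := Cfsg.Agent.Lib.Helper11.abelian_normal_regular hprim hH hep α A hAH hAnorm
    hA1 hAcomm
  have hb' : ∀ ω, ω ≠ α → ∀ c ∈ A, c • ω = ω → c = 1 := fun ω hω c hcA hcω =>
    hb ω hω c (hAH hcA) (fun a ha' => hAcomm c hcA a ha') hcω
  have hAα : ∀ a ∈ A, a • α = α := fun a ha' => hAH ha'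
  have hfpf := fpf_of_regular V A α hAα hVreg hb'
  have hAV : A ≤ Subgroup.normalizer (V : Set G) := by
    rw [Subgroup.normalizer_eq_top_iff.mpr hVn]
    exact le_top
  have hAcyc : IsCyclic ↥A := Cfsg.Agent.Lib.Helper13.fpf_cyclic A V hV1 hAV hfpf
    (Or.inl ⟨⟨fun a b => Subtype.ext (hAcomm a a.2 b b.2)⟩⟩)
  have hAcard : Nat.card A = q := card_of_cyclic_exp A q hq hA1 hAexp hAcyc
  obtain ⟨t', ht'⟩ := hAcyc.exists_generator
  have htA : (t' : G) ∈ A := t'.2
  have htpow : ∀ a ∈ A, ∃ j : ℕ, (t' : G) ^ j = a := exists_nat_pow_of_generator A t' ht'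
  have htq : (t' : G) ^ q = 1 := hAexp _ htA
  have ht1 : (t' : G) ≠ 1 := by
    intro h
    apply hA1
    rw [Subgroup.eq_bot_iff_forall]
    intro a haA
    obtain ⟨j, hj⟩ := htpow a haA
    rw [← hj, h, one_pow]
  -- orbits
  have horb : ∀ ω : Ω, ω ≠ α → Nat.card (orbit (stabilizer G α) ω) = q := by
    intro ω hω
    rw [card_orbit_eq (stabilizer G α) A hAH ω (ha ω hω) (hb' ω hω), hAcard]
  -- q ∣ p^d - 1
  have hqdvd : q ∣ p ^ d - 1 := by
    have hT : ((V : Set G) \ {1}).ncard = p ^ d - 1 := by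
      rw [Set.ncard_sdiff_singleton_of_mem (show (1 : G) ∈ (V : Set G) from V.one_mem), ← hVcard]
      congr 1
    have := Cfsg.Agent.S3356.card_dvd_of_conj_invariant A 1 _ ((V : Set G) \ {1}) rfl
      (by
        intro s hs y hy
        refine ⟨hVn.conj_mem y hy.1 s, ?_⟩
        intro h
        apply hy.2
        rw [Set.mem_singleton_iff] at h ⊢
        calc y = s⁻¹ * (s * y * s⁻¹) * s := by group
          _ = 1 := by rw [h]; group)
      (by
        intro y hy
        have hbot : A ⊓ Subgroup.centralizer {y} = ⊥ := by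
          rw [Subgroup.eq_bot_iff_forall]
          intro a haa
          rw [Subgroup.mem_inf] at haa
          by_contra ha1
          have h1 := hfpf a haa.1 ha1
          have h2 : y ∈ V ⊓ Subgroup.centralizer {a} := by
            refine ⟨hy.1, ?_⟩
            show y ∈ Subgroup.centralizer {a}
            rw [Subgroup.mem_centralizer_iff]
            intro b hb0
            rw [Set.mem_singleton_iff] at hb0
            subst hb0
            have := haa.2
            rw [Subgroup.mem_centralizer_iff] at this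
            exact (this y rfl).symm
          rw [h1, Subgroup.mem_bot] at h2
          exact hy.2 (by rw [Set.mem_singleton_iff]; exact h2)
        rw [hbot, Subgroup.card_bot])
    rw [hAcard, one_mul, hT] at this
    exact this
  -- the vector v0
  obtain ⟨v0', hv0'⟩ := Subgroup.ne_bot_iff_exists_ne_one.mp hV1
  have hv0V : (v0' : G) ∈ V := v0'.2
  have hv01 : (v0' : G) ≠ 1 := fun h => hv0' (Subtype.ext h)
  have hfix_ne : ∀ a ∈ A, a ≠ 1 → ∀ v ∈ V, v ≠ 1 → a * v * a⁻¹ ≠ v := by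
    intro a haA ha1 v hv hv1 h
    have h1 := hfpf a haA ha1
    have h2 : v ∈ V ⊓ Subgroup.centralizer {a} := by
      refine ⟨hv, ?_⟩
      show v ∈ Subgroup.centralizer {a}
      rw [Subgroup.mem_centralizer_iff]
      intro b hb0
      rw [Set.mem_singleton_iff] at hb0
      subst hb0
      calc b * v = (b * v * b⁻¹) * b := by group
        _ = v * b := by rw [h]
    rw [h1, Subgroup.mem_bot] at h2
    exact hv1 h2
  have hv0 : (t' : G) * v0' * (t' : G)⁻¹ ≠ v0' := hfix_ne _ htA ht1 _ hv0V hv01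
  have htV : ∀ v ∈ V, (t' : G) * v * (t' : G)⁻¹ ∈ V := fun v hv => hVn.conj_mem v hv _
  have hirr : ∀ W : Subgroup G, W ≤ V → (∀ w ∈ W, (t' : G) * w * (t' : G)⁻¹ ∈ W) →
      W = ⊥ ∨ W = V := by
    intro W hWV hWt
    apply irreducible_V hprim α V A hVn hVreg ha W hWV _ hAH
    intro a haA w hw
    obtain ⟨j, hj⟩ := htpow a haA
    rw [← hj]
    exact conj_pow_mem W _ hWt j w hw
  have hVfin : Finite ↥V := inferInstance
  obtain ⟨hAres, hBres⟩ := bridgeSub (p := p) V hVcomm hVexp d hVcard (t' : G) htV hirr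
    (v0' : G) hv0V hv0
  have hppd : ∀ i : ℕ, 0 < i → i < d → ¬ q ∣ p ^ i - 1 := by
    intro i hi hie hqi
    have := hAres q i htq hi hqi
    omega
  -- the point stabiliser in H
  have hω0 : (v0' : G) • α ≠ α := fun h => hv01 (hVreg _ hv0V α h)
  obtain ⟨S0, hS0⟩ : ∃ S0 : Subgroup G, S0 = stabilizer G α ⊓ stabilizer G ((v0' : G) • α) :=
    ⟨_, rfl⟩
  have hS0H : S0 ≤ stabilizer G α := hS0 ▸ inf_le_left
  have hS0fix : ∀ x ∈ S0, x • ((v0' : G) • α) = (v0' : G) • α := by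
    intro x hx
    rw [hS0] at hx
    exact hx.2
  have hS0A : S0 ⊓ A = ⊥ := by
    rw [Subgroup.eq_bot_iff_forall]
    intro c hcc
    rw [Subgroup.mem_inf] at hcc
    exact hb' _ hω0 c hcc.2 (hS0fix c hcc.1)
  have hS0cyc := cyclic_of_faithful (stabilizer G α) A S0 q hq hAnorm hAcard hS0H hS0A hc
  obtain ⟨s', hs'⟩ := hS0cyc.exists_generator
  have hsS0 : (s' : G) ∈ S0 := s'.2
  have hsH : (s' : G) ∈ stabilizer G α := hS0H hsS0
  have hS0z : ∀ x ∈ S0, x ∈ Subgroup.zpowers (s' : G) := by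
    intro x hx
    obtain ⟨z, hz⟩ := Subgroup.mem_zpowers_iff.mp (hs' ⟨x, hx⟩)
    rw [Subgroup.mem_zpowers_iff]
    refine ⟨z, ?_⟩
    have := congrArg Subtype.val hz
    simpa using this
  have hHeq : stabilizer G α = A ⊔ Subgroup.zpowers (s' : G) := by
    apply le_antisymm
    · intro x hx
      obtain ⟨a, haA, hax⟩ := ha _ hω0 x hx
      have hmem : a⁻¹ * x ∈ S0 := by
        rw [hS0]
        refine ⟨(stabilizer G α).mul_mem ((stabilizer G α).inv_mem (hAH haA)) hx, ?_⟩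
        show (a⁻¹ * x) • ((v0' : G) • α) = (v0' : G) • α
        rw [mul_smul, ← hax, inv_smul_smul]
      have : x = a * (a⁻¹ * x) := by group
      rw [this]
      exact Subgroup.mul_mem_sup haA (hS0z _ hmem)
    · apply sup_le hAH
      rw [Subgroup.zpowers_le]
      exact hsH
  -- order of H
  have hcardH : Nat.card (stabilizer G α) = q * Nat.card S0 := by
    have h1 := Subgroup.card_mul_index (stabilizer (stabilizer G α) ((v0' : G) • α))
    rw [MulAction.index_stabilizer, ← Nat.card_coe_set_eq, horb _ hω0,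
      Cfsg.Agent.S3356.card_stab_sub, ← hS0] at h1
    rw [← h1, mul_comm]
  have hordS : orderOf (s' : G) = Nat.card S0 := by
    rw [Subgroup.orderOf_coe]
    exact orderOf_eq_card_of_forall_mem_zpowers hs'
  -- the Galois step
  have hsV : ∀ v ∈ V, (s' : G) * v * (s' : G)⁻¹ ∈ V := fun v hv => hVn.conj_mem v hv _
  have hsα : (s' : G) • α = α := hsH
  have hsiα : (s' : G)⁻¹ • α = α := by rw [inv_smul_eq_iff, hsα]
  have hsv0 : (s' : G) * v0' * (s' : G)⁻¹ = v0' := by
    have hmem : ((s' : G) * v0' * (s' : G)⁻¹)⁻¹ * v0' ∈ V :=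
      V.mul_mem (V.inv_mem (hsV _ hv0V)) hv0V
    have hfix : (((s' : G) * v0' * (s' : G)⁻¹)⁻¹ * v0') • α = α := by
      rw [mul_smul, inv_smul_eq_iff, mul_smul, mul_smul, hsiα, hS0fix _ hsS0]
    have h1 := hVreg _ hmem α hfix
    calc (s' : G) * v0' * (s' : G)⁻¹
        = ((s' : G) * v0' * (s' : G)⁻¹) * (((s' : G) * v0' * (s' : G)⁻¹)⁻¹ * v0') := by
          rw [h1, mul_one]
      _ = v0' := by group
  obtain ⟨k, hk⟩ := htpow _ (hAnorm _ hsH _ htA)
  obtain ⟨n, hn0, hnd, hn⟩ := hBres (s' : G) k hsV hsv0 hk.symm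
  have hpc := pow_conj (s' : G) (t' : G) k hk.symm n
  have htk : (t' : G) ^ (k ^ n) = t' := by
    by_contra hne
    have hcA : (t' : G) ^ (k ^ n) * (t' : G)⁻¹ ∈ A := A.mul_mem (A.pow_mem htA _) (A.inv_mem htA)
    have hc1 : (t' : G) ^ (k ^ n) * (t' : G)⁻¹ ≠ 1 := by
      intro h
      apply hne
      calc (t' : G) ^ (k ^ n) = ((t' : G) ^ (k ^ n) * (t' : G)⁻¹) * t' := by group
        _ = t' := by rw [h, one_mul]
    apply hfix_ne _ hcA hc1 _ hv0V hv01
    have hv' : (t' : G)⁻¹ * v0' * (t' : G) ∈ V := by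
      have := hVn.conj_mem _ hv0V (t' : G)⁻¹
      rwa [inv_inv] at this
    have h1 := hn _ hv'
    calc (t' : G) ^ (k ^ n) * (t' : G)⁻¹ * v0' * ((t' : G) ^ (k ^ n) * (t' : G)⁻¹)⁻¹
        = (t' : G) ^ (k ^ n) * ((t' : G)⁻¹ * v0' * (t' : G)) * ((t' : G) ^ (k ^ n))⁻¹ := by group
      _ = (t' : G) * ((t' : G)⁻¹ * v0' * (t' : G)) * (t' : G)⁻¹ := h1
      _ = v0' := by group
  rw [htk] at hpc
  have hsn1 : (s' : G) ^ n = 1 := by
    have hsnS0 : (s' : G) ^ n ∈ S0 := S0.pow_mem hsS0 n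
    have hcomm_t : (s' : G) ^ n * t' = t' * (s' : G) ^ n := by
      calc (s' : G) ^ n * t' = ((s' : G) ^ n * t' * ((s' : G) ^ n)⁻¹) * (s' : G) ^ n := by group
        _ = t' * (s' : G) ^ n := by rw [hpc]
    have hsnA : (s' : G) ^ n ∈ A := by
      apply hc _ (hS0H hsnS0)
      intro a haA
      obtain ⟨j, hj⟩ := htpow a haA
      rw [← hj]
      exact ((Commute.pow_right (show Commute ((s' : G) ^ n) (t' : G) from hcomm_t) j)).eq
    have : (s' : G) ^ n ∈ S0 ⊓ A := ⟨hsnS0, hsnA⟩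
    rw [hS0A, Subgroup.mem_bot] at this
    exact this
  have hmd : Nat.card S0 ∣ d := by
    rw [← hordS]
    exact dvd_trans (orderOf_dvd_of_pow_eq_one hsn1) hnd
  refine ⟨q, hq, horb, hqdvd, hppd, A, hAH, le_normalizer_of_conj _ A hAnorm, hAcard,
    ⟨(s' : G), hHeq⟩, ?_⟩
  rw [hcardH]
  exact Nat.mul_dvd_mul_left q hmd

end Cfsg.Agent.S3496
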