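import Cfsg.Statements.S3497
import Cfsg.Agent.Lib.Helper11.ExtPrim2
import Cfsg.Agent.Lib.Helper11.ElemAbGL
import Cfsg.Agent.Lib.Helper2.Cores

set_option autoImplicit false
open Cfsg

namespace Cfsg.Agent.S3497

open MulAction Cfsg.Agent.Lib.Helper11

/-- Restrictions on the point stabilizer of an extremely primitive group. -/
theorem result {G : Type*} [Group G] [Finite G] {Ω : Type*} [Fintype Ω] [MulAction G Ω] [FaithfulSMul G Ω] (hprim : MulAction.IsPreprimitive G Ω) (hep : ∀ (α : Ω) (ω : Ω), MulAction.IsPreprimitive (MulAction.stabilizer G α) (MulAction.orbit (MulAction.stabilizer G α) ω)) (α : Ω)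
    (hH1 : MulAction.stabilizer G α ≠ ⊥) (hHp : ¬ (Nat.card (MulAction.stabilizer G α)).Prime) :
    Subgroup.center (MulAction.stabilizer G α) = ⊥ ∧
    IsMulCommutative (Cfsg.fittingSubgroup (MulAction.stabilizer G α)) ∧
    ∃ p e : ℕ, p.Prime ∧ Nat.card (Cfsg.fittingSubgroup (MulAction.stabilizer G α)) = p ^ e ∧
      (∀ x ∈ Cfsg.fittingSubgroup (MulAction.stabilizer G α), x ^ p = 1) ∧
      (Cfsg.fittingSubgroup (MulAction.stabilizer G α) ≠ ⊥ →
        p ^ e ∣ Fintype.card Ω - 1 ∧
        ∃ φ : MulAction.stabilizer G α →* GL (Fin e) (ZMod p), φ.ker = Cfsg.fittingSubgroup (MulAction.stabilizer G α)) := by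
  classical
  haveI := hprim.toIsPretransitive
  have hH : ∀ β : Ω, stabilizer G β ≠ ⊥ := stabilizer_ne_bot_of_pretransitive α hH1
  -- a point ω ≠ α
  obtain ⟨ω, hω⟩ : ∃ ω, ω ≠ α := by
    by_contra hcon
    push_neg at hcon
    apply hH1
    rw [Subgroup.eq_bot_iff_forall]
    intro x _
    apply FaithfulSMul.eq_of_smul_eq_smul (α := Ω)
    intro q
    rw [hcon q, one_smul, hcon (x • α)]
  have hHcard : Nat.card (stabilizer G α) ≠ 1 := by
    intro h1
    apply hH1
    exact Subgroup.card_eq_one.1 h1
  refine ⟨?_, ?_⟩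
  · -- centre
    by_contra hZ
    set A : Subgroup G := (Subgroup.center (stabilizer G α)).map (stabilizer G α).subtype with hAdef
    have hA : A ≤ stabilizer G α := Subgroup.map_subtype_le _
    have hAc : ∀ a ∈ A, ∀ x ∈ stabilizer G α, x * a = a * x := by
      rintro _ ⟨z, hz, rfl⟩ x hx
      have := Subgroup.mem_center_iff.1 hz ⟨x, hx⟩
      exact congrArg Subtype.val this
    have hnorm : ∀ x ∈ stabilizer G α, ∀ a ∈ A, x * a * x⁻¹ ∈ A := by
      intro x hx a ha
      rw [hAc a ha x hx]
      simpa using ha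
    have hAne : A ≠ ⊥ := by
      intro h
      apply hZ
      rw [Subgroup.eq_bot_iff_forall]
      intro z hz
      have : ((z : stabilizer G α) : G) ∈ A := ⟨z, hz, rfl⟩
      rw [h, Subgroup.mem_bot] at this
      exact Subtype.ext this
    have hcomm : ∀ a ∈ A, ∀ b ∈ A, a * b = b * a := fun a ha b hb => hAc b hb a (hA ha)
    obtain ⟨ka, kb, kc⟩ := abelian_normal_regular hprim hH hep α A hA hnorm hAne hcomm
    have hreg : ∀ c ∈ stabilizer G α, c • ω = ω → c = 1 :=
      fun c hc hcω => kb ω hω c hc (fun a ha => hAc a ha c hc) hcω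
    -- nontriviality of the orbit
    obtain ⟨a, haA, ha1⟩ : ∃ a ∈ A, a ≠ 1 := by
      by_contra hcon
      push_neg at hcon
      exact hAne ((Subgroup.eq_bot_iff_forall A).2 hcon)
    have haω : a • ω ≠ ω := fun h => ha1 (hreg a (hA haA) h)
    haveI := hep α ω
    let o : orbit (stabilizer G α) ω := ⟨ω, mem_orbit_self ω⟩
    haveI : Nontrivial (orbit (stabilizer G α) ω) :=
      ⟨⟨⟨a • ω, ⟨⟨a, hA haA⟩, rfl⟩⟩, o, fun h => haω (congrArg Subtype.val h)⟩⟩
    have hco : IsCoatom (stabilizer (stabilizer G α) o) :=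
      IsPreprimitive.isCoatom_stabilizer_of_isPreprimitive (G := stabilizer G α) o
    have hstab : stabilizer (stabilizer G α) o = ⊥ := by
      rw [Subgroup.eq_bot_iff_forall]
      intro h hh
      rw [mem_stabilizer_iff] at hh
      have h1 : (h : G) • ω = ω := congrArg Subtype.val hh
      exact Subtype.ext (hreg h h.2 h1)
    rw [hstab] at hco
    obtain ⟨q, hq, hqd⟩ := Nat.exists_prime_and_dvd hHcard
    haveI : Fact q.Prime := ⟨hq⟩
    obtain ⟨y, hy⟩ := exists_prime_orderOf_dvd_card' q hqd
    have hy1 : Subgroup.zpowers y ≠ ⊥ := by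
      intro h
      rw [Subgroup.zpowers_eq_bot] at h
      rw [h, orderOf_one] at hy
      exact hq.one_lt.ne hy
    have htop : Subgroup.zpowers y = ⊤ := hco.2 _ (bot_lt_iff_ne_bot.2 hy1)
    apply hHp
    have : Nat.card (stabilizer G α) = q := by
      rw [← hy, ← Nat.card_zpowers, htop, Subgroup.card_top]
    rw [this]
    exact hq
  · -- Fitting subgroup
    have hFn : (Cfsg.fittingSubgroup (stabilizer G α)).Normal :=
      Cfsg.Agent.Lib.Helper2.fittingSubgroup_normal
    have hFnil : Group.IsNilpotent (Cfsg.fittingSubgroup (stabilizer G α)) :=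
      Cfsg.Agent.Lib.Helper2.fittingSubgroup_isNilpotent
    by_cases hF : Cfsg.fittingSubgroup (stabilizer G α) = ⊥
    · rw [hF]
      refine ⟨⟨⟨fun a b => Subsingleton.elim _ _⟩⟩, 2, 0, Nat.prime_two, ?_, ?_, ?_⟩
      · simp
      · intro x hx
        rw [Subgroup.mem_bot] at hx
        rw [hx, one_pow]
      · intro h
        exact absurd rfl h
    · set F := Cfsg.fittingSubgroup (stabilizer G α) with hFdef
      set FG : Subgroup G := F.map (stabilizer G α).subtype with hFGdef
      have hFG_le : FG ≤ stabilizer G α := Subgroup.map_subtype_le _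
      have hFG_mem : ∀ g, g ∈ FG ↔ ∃ h : g ∈ stabilizer G α, (⟨g, h⟩ : stabilizer G α) ∈ F := by
        intro g
        constructor
        · rintro ⟨f, hf, rfl⟩
          exact ⟨f.2, hf⟩
        · rintro ⟨h, hf⟩
          exact ⟨⟨g, h⟩, hf, rfl⟩
      have hFG_norm : ∀ x ∈ stabilizer G α, ∀ f ∈ FG, x * f * x⁻¹ ∈ FG := by
        rintro x hx _ ⟨f, hf, rfl⟩
        exact ⟨⟨x, hx⟩ * f * ⟨x, hx⟩⁻¹, hFn.conj_mem f hf ⟨x, hx⟩, rfl⟩
      have hFG_ne : FG ≠ ⊥ := by
        intro h
        apply hF
        rw [Subgroup.eq_bot_iff_forall]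
        intro z hz
        have : ((z : stabilizer G α) : G) ∈ FG := ⟨z, hz, rfl⟩
        rw [h, Subgroup.mem_bot] at this
        exact Subtype.ext this
      -- centre of FG
      set ZG : Subgroup G := FG ⊓ Subgroup.centralizer (FG : Set G) with hZGdef
      have hZG_le : ZG ≤ stabilizer G α := inf_le_left.trans hFG_le
      have hZG_comm : ∀ a ∈ ZG, ∀ b ∈ ZG, a * b = b * a := by
        intro a ha' b hb'
        obtain ⟨-, ha⟩ := Subgroup.mem_inf.1 ha'
        obtain ⟨hb, -⟩ := Subgroup.mem_inf.1 hb'
        exact (Subgroup.mem_centralizer_iff.1 ha b hb).symm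
      have hZG_norm : ∀ x ∈ stabilizer G α, ∀ z ∈ ZG, x * z * x⁻¹ ∈ ZG := by
        intro x hx z hz'
        obtain ⟨hz1, hz2⟩ := Subgroup.mem_inf.1 hz'
        refine Subgroup.mem_inf.2 ⟨hFG_norm x hx z hz1, ?_⟩
        rw [Subgroup.mem_centralizer_iff]
        intro f hf
        have hf' : x⁻¹ * f * x⁻¹⁻¹ ∈ FG := hFG_norm x⁻¹ (inv_mem hx) f hf
        have h1 := Subgroup.mem_centralizer_iff.1 hz2 _ hf'
        have e1 : f * (x * z * x⁻¹) = x * ((x⁻¹ * f * x⁻¹⁻¹) * z) * x⁻¹ := by group
        rw [e1, h1]; group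
      have hZG_ne : ZG ≠ ⊥ := by
        haveI : Nontrivial F := (Subgroup.nontrivial_iff_ne_bot F).2 hF
        have hc := Group.IsNilpotent.center_ne_bot F
        obtain ⟨zz, hzz1⟩ := (Subgroup.ne_bot_iff_exists_ne_one).1 hc
        set z : F := zz.1 with hzdef
        have hz : z ∈ Subgroup.center F := zz.2
        have hz1 : z ≠ 1 := fun h => hzz1 (Subtype.ext h)
        intro hbot
        have hmem : ((z : stabilizer G α) : G) ∈ ZG := by
          refine Subgroup.mem_inf.2 ⟨⟨z, z.2, rfl⟩, ?_⟩
          rw [Subgroup.mem_centralizer_iff]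
          rintro _ ⟨f, hf, rfl⟩
          have := Subgroup.mem_center_iff.1 hz ⟨f, hf⟩
          have h2 := congrArg Subtype.val this
          exact congrArg Subtype.val h2
        rw [hbot, Subgroup.mem_bot] at hmem
        apply hz1
        apply Subtype.ext
        apply Subtype.ext
        exact hmem
      obtain ⟨-, -, zc⟩ := abelian_normal_regular hprim hH hep α ZG hZG_le hZG_norm hZG_ne hZG_comm
      have hFG_ZG : FG ≤ ZG := by
        intro f hf
        apply zc f (hFG_le hf)
        intro z hz'
        obtain ⟨-, hz2⟩ := Subgroup.mem_inf.1 hz'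
        exact Subgroup.mem_centralizer_iff.1 hz2 f hf
      have hFG_comm : ∀ a ∈ FG, ∀ b ∈ FG, a * b = b * a :=
        fun a ha b hb => hZG_comm a (hFG_ZG ha) b (hFG_ZG hb)
      obtain ⟨ka, kb, kc⟩ :=
        abelian_normal_regular hprim hH hep α FG hFG_le hFG_norm hFG_ne hFG_comm
      -- a prime
      have hFcard : Nat.card F ≠ 1 := fun h1 => hF (Subgroup.card_eq_one.1 h1)
      obtain ⟨p, hp, hpd⟩ := Nat.exists_prime_and_dvd hFcard
      haveI : Fact p.Prime := ⟨hp⟩
      let Ap : Subgroup G :=
        { carrier := {a | a ∈ FG ∧ a ^ p = 1}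
          mul_mem' := by
            rintro a b ⟨ha, ha'⟩ ⟨hb, hb'⟩
            refine ⟨mul_mem ha hb, ?_⟩
            rw [(show Commute a b from hFG_comm a ha b hb).mul_pow, ha', hb', one_mul]
          one_mem' := ⟨one_mem _, one_pow _⟩
          inv_mem' := by
            rintro a ⟨ha, ha'⟩
            exact ⟨inv_mem ha, by rw [inv_pow, ha', inv_one]⟩ }
      have hAp_le : Ap ≤ stabilizer G α := fun a ha => hFG_le ha.1
      have hAp_norm : ∀ x ∈ stabilizer G α, ∀ a ∈ Ap, x * a * x⁻¹ ∈ Ap := by
        rintro x hx a ⟨ha, ha'⟩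
        refine ⟨hFG_norm x hx a ha, ?_⟩
        rw [conj_pow, ha']; group
      have hAp_ne : Ap ≠ ⊥ := by
        obtain ⟨y, hy⟩ := exists_prime_orderOf_dvd_card' p hpd
        intro hbot
        have hmem : ((y : stabilizer G α) : G) ∈ Ap := by
          refine ⟨⟨y, y.2, rfl⟩, ?_⟩
          have : y ^ p = 1 := by rw [← hy, pow_orderOf_eq_one]
          have h2 := congrArg Subtype.val this
          have h3 := congrArg Subtype.val h2
          simpa using h3
        rw [hbot, Subgroup.mem_bot] at hmem
        have hy1 : y = 1 := by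
          apply Subtype.ext
          apply Subtype.ext
          exact hmem
        rw [hy1, orderOf_one] at hy
        exact hp.one_lt.ne hy
      have hAp_comm : ∀ a ∈ Ap, ∀ b ∈ Ap, a * b = b * a :=
        fun a ha b hb => hFG_comm a ha.1 b hb.1
      obtain ⟨pa, -, -⟩ :=
        abelian_normal_regular hprim hH hep α Ap hAp_le hAp_norm hAp_ne hAp_comm
      have hexp : ∀ f ∈ FG, f ^ p = 1 := by
        intro f hf
        obtain ⟨b, hb, hbω⟩ := pa ω hω f (hFG_le hf)
        have h1 : b⁻¹ * f = 1 := by
          apply kb ω hω (b⁻¹ * f) (mul_mem (inv_mem (hAp_le hb)) (hFG_le hf))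
          · intro a ha
            exact (hFG_comm a ha _ (mul_mem (inv_mem hb.1) hf)).symm
          · rw [mul_smul, ← hbω, inv_smul_smul]
        have : f = b := by
          have : f = b * (b⁻¹ * f) := by group
          rw [this, h1, mul_one]
        rw [this]
        exact hb.2
      have hexpF : ∀ x ∈ F, x ^ p = 1 := by
        intro x hx
        apply Subtype.ext
        have := hexp (x : G) ⟨x, hx, rfl⟩
        simpa using this
      have hpg : IsPGroup p F := by
        intro x
        refine ⟨1, ?_⟩
        rw [pow_one]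
        apply Subtype.ext
        have := hexpF x.1 x.2
        simpa using this
      obtain ⟨e, he⟩ := hpg.exists_card_eq
      have hFcomm : ∀ a b : F, a * b = b * a := by
        intro a b
        apply Subtype.ext
        apply Subtype.ext
        exact hFG_comm _ ⟨a.1, a.2, rfl⟩ _ ⟨b.1, b.2, rfl⟩
      refine ⟨⟨⟨hFcomm⟩⟩, p, e, hp, he, hexpF, fun _ => ⟨?_, ?_⟩⟩
      · -- divisibility
        have hfree : ∀ b : SubMulAction.ofStabilizer G α, stabilizer F b = ⊥ := by
          intro b
          rw [Subgroup.eq_bot_iff_forall]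
          intro f hf
          rw [mem_stabilizer_iff] at hf
          have h1 : ((f : stabilizer G α) : G) • (b : Ω) = b := congrArg Subtype.val hf
          have hbα : (b : Ω) ≠ α := (SubMulAction.mem_ofStabilizer_iff G α).1 b.2
          have h2 := kb (b : Ω) hbα ((f : stabilizer G α) : G) (f : stabilizer G α).2
            (fun a ha => hFG_comm _ ⟨f.1, f.2, rfl⟩ a ha) h1
          apply Subtype.ext
          apply Subtype.ext
          exact h2
        have h1 := Nat.card_congr (MulAction.selfEquivOrbitsQuotientProd hfree)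
        rw [Nat.card_prod, SubMulAction.nat_card_ofStabilizer_eq, Nat.card_eq_fintype_card] at h1
        rw [← he, h1]
        exact dvd_mul_left _ _
      · -- the homomorphism
        letI : CommGroup F := { (inferInstance : Group F) with mul_comm := hFcomm }
        obtain ⟨ψ, hψ⟩ := exists_mulAut_to_GL F p e (fun a => by
          apply Subtype.ext
          have := hexpF a.1 a.2
          simpa using this) he
        refine ⟨ψ.comp (MulAut.conjNormal (H := F)), ?_⟩
        ext h
        rw [MonoidHom.mem_ker, MonoidHom.comp_apply]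
        constructor
        · intro hh
          have h1 : MulAut.conjNormal (H := F) h = 1 := hψ (hh.trans (map_one ψ).symm)
          have h2 : (h : G) ∈ FG := by
            apply kc (h : G) h.2
            rintro _ ⟨f, hf, rfl⟩
            change (h : G) * (f : G) = (f : G) * (h : G)
            have h3 := congrArg (fun φ : MulAut F => ((φ ⟨f, hf⟩ : F) : stabilizer G α)) h1
            simp only [MulAut.conjNormal_apply, MulAut.one_apply] at h3
            have h4 : (h : G) * (f : G) * (h : G)⁻¹ = f := congrArg Subtype.val h3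
            have : (h : G) * (f : G) = (h : G) * (f : G) * (h : G)⁻¹ * h := by group
            rw [this, h4]
          obtain ⟨hh', hf⟩ := (hFG_mem _).1 h2
          exact hf
        · intro hh
          have h1 : MulAut.conjNormal (H := F) h = 1 := by
            ext f
            rw [MulAut.conjNormal_apply, MulAut.one_apply]
            have := hFcomm ⟨h, hh⟩ f
            have h2 : h * (f : stabilizer G α) = f * h := congrArg Subtype.val this
            rw [h2]; group
          rw [h1, map_one]

end Cfsg.Agent.S3497
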