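import Cfsg.Statements.S3498
import Cfsg.Agent.Lib.Helper11.Burnside
import Mathlib

set_option autoImplicit false
open Cfsg

namespace Cfsg.Agent.S3498

/-- A simple group whose order divides a prime is commutative. -/
theorem comm_of_card_dvd_prime {T : Type*} [Group T] [Finite T] (hT : IsSimpleGroup T) (q : ℕ)
    (hq : q.Prime) (h : Nat.card T ∣ q) : IsMulCommutative T := by
  haveI := hT.toNontrivial
  have h1 : Nat.card T = q := by
    rcases (Nat.dvd_prime hq).mp h with h1 | h1
    · exact absurd h1 (Finite.one_lt_card (α := T)).ne'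
    · exact h1
  haveI : Fact q.Prime := ⟨hq⟩
  haveI : IsCyclic T := isCyclic_of_prime_card h1
  exact IsCyclic.isMulCommutative

/-- A finite simple `p`-group is commutative. -/
theorem comm_of_isPGroup {T : Type*} [Group T] [Finite T] (hT : IsSimpleGroup T) (p : ℕ)
    [Fact p.Prime] (h : IsPGroup p T) : IsMulCommutative T := by
  haveI := hT.toNontrivial
  have h1 : Nontrivial (Subgroup.center T) := h.center_nontrivial
  have h2 : Subgroup.center T = ⊤ := by
    rcases hT.eq_bot_or_eq_top_of_normal (Subgroup.center T) inferInstance with h2 | h2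
    · exfalso
      rw [h2] at h1
      exact not_nontrivial _ h1
    · exact h2
  refine ⟨⟨fun a b => ?_⟩⟩
  have : a ∈ Subgroup.center T := by rw [h2]; trivial
  exact ((Subgroup.mem_center_iff.mp this) b).symm

/-- If `L` is a normal subgroup of `G` then `L ⊓ T = ⊥` or `T ≤ L` for simple `T`. -/
theorem inf_eq_bot_or_le_of_normal {G : Type*} [Group G] (T : Subgroup G) (hT : IsSimpleGroup T)
    (L : Subgroup G) (hL : (L.subgroupOf T).Normal) : L ⊓ T = ⊥ ∨ T ≤ L := by
  rcases hT.eq_bot_or_eq_top_of_normal (L.subgroupOf T) hL with h | h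
  · left
    rw [eq_bot_iff]
    rintro x ⟨hxL, hxT⟩
    have : (⟨x, hxT⟩ : T) ∈ L.subgroupOf T := Subgroup.mem_subgroupOf.mpr hxL
    rw [h, Subgroup.mem_bot] at this
    rw [Subgroup.mem_bot]
    exact congrArg Subtype.val this
  · right
    intro x hx
    have : (⟨x, hx⟩ : T) ∈ L.subgroupOf T := by rw [h]; trivial
    exact Subgroup.mem_subgroupOf.mp this

/-- A maximal subgroup of a finite almost simple group does not have prime order. Here G is almost simple in the sense that it has a non-abelian simple normal subgroup T with trivial centralizer. -/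
theorem result {G : Type*} [Group G] [Finite G] (T : Subgroup G) [T.Normal] (hT : IsSimpleGroup T) (hTc : ¬ IsMulCommutative T)
    (hC : Subgroup.centralizer (T : Set G) = ⊥) (H : Subgroup G) (hmax : IsCoatom H) : ¬ (Nat.card H).Prime := by
  intro hq
  set q := Nat.card H with hqdef
  haveI : Fact q.Prime := ⟨hq⟩
  -- T is not contained in H
  have hTH : ¬ T ≤ H := fun hle =>
    hTc (comm_of_card_dvd_prime hT q hq (Subgroup.card_dvd_of_le hle))
  -- maximality principle
  have hmax' : ∀ M : Subgroup G, H ≤ M → M ≠ ⊤ → M = H := by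
    intro M hHM hM
    by_contra hne
    exact hM (hmax.2 M (lt_of_le_of_ne hHM (Ne.symm hne)))
  have hHp : IsPGroup q H := IsPGroup.of_card (n := 1) (by rw [pow_one])
  have hGq : ¬ IsPGroup q G := fun hG => hTc (comm_of_isPGroup hT q (hG.to_subgroup T))
  -- H is a Sylow subgroup
  obtain ⟨Q, hQ⟩ := hHp.exists_le_sylow
  have hQH : (Q : Subgroup G) = H := by
    apply hmax' _ hQ
    intro htop
    apply hGq
    have h1 : IsPGroup q (Q : Subgroup G) := Q.2
    rw [htop] at h1
    exact h1.of_equiv Subgroup.topEquiv
  have hHT : H ⊔ T = ⊤ := by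
    apply hmax.2
    refine lt_of_le_of_ne le_sup_left ?_
    intro h
    exact hTH (h ▸ le_sup_right)
  have hHne : H ≠ ⊥ := by
    intro h
    have : Nat.card H = 1 := by rw [h]; exact Subgroup.card_bot
    exact hq.one_lt.ne' this
  -- H ⊓ T is trivial or all of H
  have hdich : H ⊓ T = ⊥ ∨ H ≤ T := by
    have h1 : Nat.card (H ⊓ T : Subgroup G) ∣ q := Subgroup.card_dvd_of_le inf_le_left
    rcases (Nat.dvd_prime hq).mp h1 with h2 | h2
    · left; exact Subgroup.card_eq_one.mp h2
    · right
      have : (H ⊓ T : Subgroup G) = H :=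
        Subgroup.eq_of_le_of_card_ge inf_le_left (by rw [h2])
      exact this ▸ inf_le_right
  -- if H ⊓ T = ⊥ then T has index q
  have hidx : H ⊓ T = ⊥ → T.index = q := by
    intro hbot
    have h1 : T.relIndex (H ⊔ T) = T.relIndex H := Subgroup.relIndex_sup_right H T
    rw [hHT, Subgroup.relIndex_top_right] at h1
    rw [h1, ← Subgroup.inf_relIndex_right, inf_comm, hbot, Subgroup.relIndex_bot_left]
  by_cases hqT : q ∣ Nat.card T
  · -- then H ≤ T
    have hle : H ≤ T := by
      rcases hdich with hbot | hle
      · exfalso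
        have h1 : Nat.card T * T.index = Nat.card G := T.card_mul_index
        rw [hidx hbot] at h1
        have h2 : q ^ 2 ∣ Nat.card G := by
          rw [← h1, pow_two]; exact Nat.mul_dvd_mul_right hqT q
        have h3 : Nat.card Q = q ^ (Nat.card G).factorization q := Q.card_eq_multiplicity
        have h4 : Nat.card (Q : Subgroup G) = q := by rw [hQH]
        have h5 : (Nat.card G).factorization q = 1 := by
          have : q ^ (Nat.card G).factorization q = q ^ 1 := by rw [pow_one, ← h3]; exact h4
          exact Nat.pow_right_injective hq.two_le this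
        have h6 : 2 ≤ (Nat.card G).factorization q :=
          (hq.pow_dvd_iff_le_factorization Nat.card_pos.ne').mp h2
        omega
      · exact hle
    have hTtop : T = ⊤ := by
      apply hmax.2
      refine lt_of_le_of_ne hle ?_
      intro h
      exact hTH h.symm.le
    have hNorm : Subgroup.normalizer ((Q : Subgroup G) : Set G) ≤ Subgroup.centralizer (Q : Set G) := by
      have hN : Subgroup.normalizer ((Q : Subgroup G) : Set G) = H := by
        rw [hQH]
        apply hmax' _ Subgroup.le_normalizer
        intro htop
        have hn : H.Normal := Subgroup.normalizer_eq_top_iff.mp htop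
        rcases inf_eq_bot_or_le_of_normal T hT H (hn.subgroupOf T) with h1 | h1
        · rw [inf_of_le_left hle] at h1
          exact hHne h1
        · exact hTH h1
      rw [hN]
      intro x hx
      rw [Subgroup.mem_centralizer_iff]
      intro y hy
      have hy' : y ∈ H := by
        have : y ∈ (Q : Subgroup G) := hy
        rwa [hQH] at this
      haveI : IsCyclic H := isCyclic_of_prime_card hqdef.symm
      have := (IsCyclic.isMulCommutative (α := H)).is_comm.comm ⟨y, hy'⟩ ⟨x, hx⟩
      exact congrArg Subtype.val this
    have hK := MonoidHom.ker_transferSylow_isComplement' Q hNorm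
    have hKn : (MonoidHom.transferSylow Q hNorm).ker.Normal := inferInstance
    rcases inf_eq_bot_or_le_of_normal T hT _ (hKn.subgroupOf T) with h1 | h1
    · rw [hTtop, inf_top_eq] at h1
      rw [h1, Subgroup.isComplement'_bot_left, hQH] at hK
      exact hmax.1 hK
    · rw [hTtop, top_le_iff] at h1
      rw [h1, Subgroup.isComplement'_top_left, hQH] at hK
      exact hHne hK
  · -- q does not divide |T|
    have hbot : H ⊓ T = ⊥ := by
      rcases hdich with hbot | hle
      · exact hbot
      · exact absurd (Subgroup.card_dvd_of_le hle) hqT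
    haveI := hT.toNontrivial
    have hTcard : Nat.card T ≠ 1 := (Finite.one_lt_card (α := T)).ne'
    obtain ⟨r, hr, hrT⟩ := Nat.exists_prime_and_dvd hTcard
    haveI : Fact r.Prime := ⟨hr⟩
    obtain ⟨R⟩ : Nonempty (Sylow r T) := inferInstance
    have hRne : (R : Subgroup T) ≠ ⊥ := by
      intro h
      have h1 : Nat.card R = r ^ (Nat.card T).factorization r := R.card_eq_multiplicity
      have h2 : Nat.card (R : Subgroup T) = 1 := by rw [h]; exact Subgroup.card_bot
      have h3 : 0 < (Nat.card T).factorization r :=
        hr.factorization_pos_of_dvd Nat.card_pos.ne' hrT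
      have h4 : 1 < r ^ (Nat.card T).factorization r := Nat.one_lt_pow h3.ne' hr.one_lt
      have : Nat.card R = Nat.card (R : Subgroup T) := rfl
      omega
    set N := Subgroup.normalizer (((R : Subgroup T).map T.subtype : Subgroup G) : Set G) with hN
    have hFr : N ⊔ T = ⊤ := Sylow.normalizer_sup_eq_top R
    have hqN : q ∣ Nat.card N := by
      have h1 : T.relIndex (N ⊔ T) = T.relIndex N := Subgroup.relIndex_sup_right N T
      rw [hFr, Subgroup.relIndex_top_right, hidx hbot] at h1
      rw [h1]
      exact Subgroup.relIndex_dvd_card T N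
    obtain ⟨x, hx⟩ := exists_prime_orderOf_dvd_card' (G := N) q hqN
    have hy : orderOf (x : G) = q := by rw [Subgroup.orderOf_coe]; exact hx
    have hZp : IsPGroup q (Subgroup.zpowers (x : G)) :=
      IsPGroup.of_card (n := 1) (by rw [Nat.card_zpowers, hy, pow_one])
    obtain ⟨Q', hQ'⟩ := hZp.exists_le_sylow
    obtain ⟨g, hg⟩ := MulAction.exists_smul_eq G Q Q'
    have hQ'card : Nat.card (Q' : Subgroup G) = q := by
      have h1 : Nat.card Q' = q ^ (Nat.card G).factorization q := Q'.card_eq_multiplicity
      have h2 : Nat.card Q = q ^ (Nat.card G).factorization q := Q.card_eq_multiplicity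
      have h3 : Nat.card (Q : Subgroup G) = q := by rw [hQH]
      exact h1.trans (h2.symm.trans h3)
    have hQ'eq : Subgroup.zpowers (x : G) = (Q' : Subgroup G) :=
      Subgroup.eq_of_le_of_card_ge hQ' (by rw [hQ'card, Nat.card_zpowers, hy])
    have hQ'N : (Q' : Subgroup G) ≤ N := by
      rw [← hQ'eq, Subgroup.zpowers_le]; exact x.2
    -- the conjugate of N containing H
    set M := N.comap (MulAut.conj g).toMonoidHom with hM
    have hHM : H ≤ M := by
      intro h hh
      rw [hM, Subgroup.mem_comap]
      apply hQ'N
      rw [← hg]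
      have hhQ : h ∈ (Q : Subgroup G) := by rw [hQH]; exact hh
      exact Subgroup.smul_mem_pointwise_smul h (MulAut.conj g) (Q : Subgroup G) hhQ
    have hMtop : M ≠ ⊤ := by
      intro htop
      have hNtop : N = ⊤ := by
        rw [eq_top_iff]
        intro z _
        have h1 : g⁻¹ * z * g ∈ M := by rw [htop]; trivial
        rw [hM, Subgroup.mem_comap] at h1
        have h2 : (MulAut.conj g).toMonoidHom (g⁻¹ * z * g) = z := by
          change g * (g⁻¹ * z * g) * g⁻¹ = z
          group
        rwa [h2] at h1
      have hn : ((R : Subgroup T).map T.subtype).Normal := Subgroup.normalizer_eq_top_iff.mp hNtop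
      have hn' : (((R : Subgroup T).map T.subtype).subgroupOf T).Normal := hn.subgroupOf T
      have hRR : ((R : Subgroup T).map T.subtype).subgroupOf T = (R : Subgroup T) :=
        Subgroup.comap_map_eq_self_of_injective T.subtype_injective _
      rw [hRR] at hn'
      rcases hT.eq_bot_or_eq_top_of_normal (R : Subgroup T) hn' with h1 | h1
      · exact hRne h1
      · apply hTc
        apply comm_of_isPGroup hT r
        have h2 : IsPGroup r (R : Subgroup T) := R.2
        rw [h1] at h2
        exact h2.of_equiv Subgroup.topEquiv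
    have hMH : M = H := hmax' M hHM hMtop
    apply hRne
    rw [eq_bot_iff]
    intro z hz
    have h1 : (z : G) ∈ N := by
      apply Subgroup.le_normalizer
      exact ⟨z, hz, rfl⟩
    have h2 : g⁻¹ * (z : G) * g ∈ M := by
      rw [hM, Subgroup.mem_comap]
      have h3 : (MulAut.conj g).toMonoidHom (g⁻¹ * (z : G) * g) = (z : G) := by
        change g * (g⁻¹ * (z : G) * g) * g⁻¹ = (z : G)
        group
      rw [h3]; exact h1
    rw [hMH] at h2
    have h4 : g⁻¹ * (z : G) * g ∈ T := by
      have := (inferInstance : T.Normal).conj_mem (z : G) z.2 g⁻¹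
      rwa [inv_inv] at this
    have h5 : g⁻¹ * (z : G) * g ∈ H ⊓ T := ⟨h2, h4⟩
    rw [hbot, Subgroup.mem_bot] at h5
    have h6 : (z : G) = 1 := by
      have : (z : G) = g * (g⁻¹ * (z : G) * g) * g⁻¹ := by group
      rw [this, h5]; group
    rw [Subgroup.mem_bot]
    exact Subtype.ext h6

end Cfsg.Agent.S3498
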