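import Cfsg.Statements.S3504
-- no extra imports

set_option autoImplicit false
open Cfsg

namespace Cfsg.Agent.S3504

/-- For n ≥ 5, the fixed-point-free permutations of prime order in the symmetric group of degree n form a single conjugacy class if and only if n is a prime power. -/
theorem result (n : ℕ) (hn : 5 ≤ n) :
    Nat.card {c : ConjClasses (Equiv.Perm (Fin n)) // ∃ g : Equiv.Perm (Fin n), ConjClasses.mk g = c ∧ (orderOf g).Prime ∧ ∀ i : Fin n, g i ≠ i} = 1 ↔ IsPrimePow n := by
  classical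
  -- basic facts about derangements of prime order
  have hkey : ∀ g : Equiv.Perm (Fin n), (orderOf g).Prime → (∀ i : Fin n, g i ≠ i) →
      orderOf g ∣ n ∧ g.cycleType = Multiset.replicate (n / orderOf g) (orderOf g) := by
    intro g hg hfix
    obtain ⟨k, hk⟩ := Equiv.Perm.cycleType_prime_order hg
    have hsupp : g.support = Finset.univ := by
      ext i; simp [Equiv.Perm.mem_support, hfix i]
    have hsum : g.cycleType.sum = n := by
      rw [Equiv.Perm.sum_cycleType, hsupp, Finset.card_univ, Fintype.card_fin]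
    rw [hk, Multiset.sum_replicate, smul_eq_mul] at hsum
    have hdvd : orderOf g ∣ n := ⟨k + 1, by rw [mul_comm]; exact hsum.symm⟩
    refine ⟨hdvd, ?_⟩
    rw [hk]
    congr 1
    exact (Nat.div_eq_of_eq_mul_left hg.pos hsum.symm).symm
  -- existence for each prime divisor
  have hex : ∀ p : ℕ, p.Prime → p ∣ n → ∃ g : Equiv.Perm (Fin n), (orderOf g).Prime ∧
      (∀ i : Fin n, g i ≠ i) ∧ orderOf g = p := by
    intro p hp hpn
    have hnp : 0 < n / p := Nat.div_pos (Nat.le_of_dvd (by omega) hpn) hp.pos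
    obtain ⟨g, hg⟩ := (Equiv.Perm.exists_with_cycleType_iff (α := Fin n)
      (m := Multiset.replicate (n / p) p)).mpr ⟨by
        rw [Multiset.sum_replicate, smul_eq_mul, Fintype.card_fin, Nat.div_mul_cancel hpn], by
        intro a ha
        rw [Multiset.eq_of_mem_replicate ha]; exact hp.two_le⟩
    have hord : orderOf g = p := by
      have : Fact p.Prime := ⟨hp⟩
      apply orderOf_eq_prime
      · apply orderOf_dvd_iff_pow_eq_one.mp
        rw [← Equiv.Perm.lcm_cycleType, hg]
        apply Multiset.lcm_dvd.mpr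
        intro a ha
        rw [Multiset.eq_of_mem_replicate ha]
      · intro h1
        have : g.cycleType = 0 := by rw [h1]; exact Equiv.Perm.cycleType_one
        rw [hg] at this
        have := congrArg Multiset.card this
        rw [Multiset.card_replicate, Multiset.card_zero] at this
        omega
    refine ⟨g, by rw [hord]; exact hp, ?_, hord⟩
    have hsupp : g.support.card = n := by
      rw [← Equiv.Perm.sum_cycleType, hg, Multiset.sum_replicate, smul_eq_mul,
        Nat.div_mul_cancel hpn]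
    have huniv : g.support = Finset.univ := by
      apply Finset.eq_univ_of_card
      rw [hsupp, Fintype.card_fin]
    intro i
    have : i ∈ g.support := by rw [huniv]; exact Finset.mem_univ i
    exact Equiv.Perm.mem_support.mp this
  rw [Nat.card_eq_one_iff_unique, isPrimePow_iff_unique_prime_dvd]
  constructor
  · rintro ⟨hsub, _⟩
    obtain ⟨p, hp, hpn⟩ := Nat.exists_prime_and_dvd (show n ≠ 1 by omega)
    refine ⟨p, ⟨hp, hpn⟩, ?_⟩
    rintro q ⟨hq, hqn⟩
    obtain ⟨g₁, hg₁, hfix₁, hord₁⟩ := hex p hp hpn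
    obtain ⟨g₂, hg₂, hfix₂, hord₂⟩ := hex q hq hqn
    have heq := hsub.elim ⟨ConjClasses.mk g₁, g₁, rfl, hg₁, hfix₁⟩ ⟨ConjClasses.mk g₂, g₂, rfl, hg₂, hfix₂⟩
    have heq' : ConjClasses.mk g₁ = ConjClasses.mk g₂ := congrArg Subtype.val heq
    rw [ConjClasses.mk_eq_mk_iff_isConj, Equiv.Perm.isConj_iff_cycleType_eq] at heq'
    rw [(hkey g₁ hg₁ hfix₁).2, (hkey g₂ hg₂ hfix₂).2, hord₁, hord₂] at heq'
    have hnp : 0 < n / q := Nat.div_pos (Nat.le_of_dvd (by omega) hqn) hq.pos
    have hmem : q ∈ Multiset.replicate (n / q) q := by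
      rw [Multiset.mem_replicate]; exact ⟨by omega, rfl⟩
    rw [← heq'] at hmem
    exact Multiset.eq_of_mem_replicate hmem
  · rintro ⟨p, ⟨hp, hpn⟩, huniq⟩
    constructor
    · constructor
      rintro ⟨c₁, g₁, rfl, hg₁, hfix₁⟩ ⟨c₂, g₂, rfl, hg₂, hfix₂⟩
      apply Subtype.ext
      show ConjClasses.mk g₁ = ConjClasses.mk g₂
      rw [ConjClasses.mk_eq_mk_iff_isConj, Equiv.Perm.isConj_iff_cycleType_eq]
      have h1 := hkey g₁ hg₁ hfix₁
      have h3 := hkey g₂ hg₂ hfix₂
      have e1 : orderOf g₁ = p := huniq _ ⟨hg₁, h1.1⟩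
      have e2 : orderOf g₂ = p := huniq _ ⟨hg₂, h3.1⟩
      rw [h1.2, h3.2, e1, e2]
    · obtain ⟨g, hg, hfix, _⟩ := hex p hp hpn
      exact ⟨⟨ConjClasses.mk g, g, rfl, hg, hfix⟩⟩

end Cfsg.Agent.S3504
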