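import Cfsg.Statements.S3508
import Mathlib

set_option autoImplicit false
open Cfsg

namespace Cfsg.Agent.S3508

open Polynomial

lemma poly_sub_pow (p : ℕ) [Fact p.Prime] (s : ℕ) :
    ((X : (ZMod p)[X]) - 1) ^ (p ^ s) = X ^ (p ^ s) - 1 := by
  rw [sub_pow_char_pow, one_pow]

lemma poly_geom (p : ℕ) [Fact p.Prime] (s : ℕ) :
    (∑ i ∈ Finset.range (p ^ s), (X : (ZMod p)[X]) ^ i) = (X - 1) ^ (p ^ s - 1) := by
  have h1 : (∑ i ∈ Finset.range (p ^ s), (X : (ZMod p)[X]) ^ i) * (X - 1) = X ^ (p ^ s) - 1 :=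
    geom_sum_mul _ _
  have hpos : 0 < p ^ s := pow_pos (Fact.out : p.Prime).pos s
  have h2 : ((X : (ZMod p)[X]) - 1) ^ (p ^ s - 1) * (X - 1) = X ^ (p ^ s) - 1 := by
    rw [← pow_succ, Nat.sub_add_cancel hpos, poly_sub_pow]
  have hne : ((X : (ZMod p)[X]) - 1) ≠ 0 := by
    have := Polynomial.X_sub_C_ne_zero (1 : ZMod p)
    simpa using this
  exact mul_right_cancel₀ hne (h1.trans h2.symm)

variable {p : ℕ} [Fact p.Prime] {V : Type*} [AddCommGroup V] [Module (ZMod p) V]

lemma end_sub_pow (u : Module.End (ZMod p) V) (s : ℕ) : (u - 1) ^ (p ^ s) = u ^ (p ^ s) - 1 := by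
  have := congrArg (aeval u) (poly_sub_pow p s)
  simpa using this

lemma end_geom (u : Module.End (ZMod p) V) (s : ℕ) :
    (∑ i ∈ Finset.range (p ^ s), u ^ i) = (u - 1) ^ (p ^ s - 1) := by
  have := congrArg (aeval u) (poly_geom p s)
  simpa using this

lemma unip_pow [Module.Finite (ZMod p) V] (u : Module.End (ZMod p) V) (s : ℕ)
    (hu : u ^ (p ^ s) = 1) : (u - 1) ^ (Module.finrank (ZMod p) V) = 0 := by
  have hnil : IsNilpotent (u - 1) := ⟨p ^ s, by rw [end_sub_pow, hu, sub_self]⟩
  have hch := IsNilpotent.charpoly_eq_X_pow_finrank hnil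
  have := LinearMap.aeval_self_charpoly (u - 1)
  rw [hch] at this
  simpa using this



lemma lemmaV {p : ℕ} [Fact p.Prime] {V : Type*} [AddCommGroup V] [Module (ZMod p) V] [Finite V]
    (m : ℕ) (hcard : Nat.card V = p ^ m) (u : AddMonoid.End V) (r : ℕ) (hu : u ^ (p ^ r) = 1)
    (s : ℕ) (hs : m < p ^ s) :
    u ^ (p ^ s) = 1 ∧ (∑ i ∈ Finset.range (p ^ s), u ^ i) = 0 := by
  classical
  have hpP : p.Prime := Fact.out
  haveI : Module.Finite (ZMod p) V := Module.Finite.of_finite
  have hfr : Module.finrank (ZMod p) V = m := by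
    have h1 := Module.natCard_eq_pow_finrank (K := ZMod p) (V := V)
    rw [hcard, Nat.card_zmod] at h1
    exact (Nat.pow_right_injective hpP.two_le h1).symm
  -- ring hom from additive endomorphisms to linear endomorphisms
  let T : AddMonoid.End V →+* Module.End (ZMod p) V :=
    { toFun := fun f => AddMonoidHom.toZModLinearMap p f
      map_one' := rfl
      map_mul' := fun _ _ => rfl
      map_zero' := rfl
      map_add' := fun _ _ => rfl }
  have hTinj : Function.Injective T := by
    intro f g h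
    ext v
    have := congrArg (fun (w : Module.End (ZMod p) V) => w v) h
    exact this
  set w := T u with hw
  have hwpow : w ^ (p ^ r) = 1 := by rw [hw, ← map_pow, hu, map_one]
  have hD : (w - 1) ^ m = 0 := by
    have := unip_pow w r hwpow
    rwa [hfr] at this
  have hpos : 0 < p ^ s := pow_pos hpP.pos s
  have hD1 : (w - 1) ^ (p ^ s - 1) = 0 := by
    have : p ^ s - 1 = m + (p ^ s - 1 - m) := by omega
    rw [this, pow_add, hD, zero_mul]
  have hD2 : (w - 1) ^ (p ^ s) = 0 := by
    have : p ^ s = m + (p ^ s - m) := by omega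
    rw [this, pow_add, hD, zero_mul]
  have hws : w ^ (p ^ s) = 1 := by
    have := end_sub_pow w s
    rw [hD2] at this
    exact (sub_eq_zero.1 this.symm)
  constructor
  · apply hTinj
    rw [map_pow, map_one]; exact hws
  · apply hTinj
    rw [map_sum, map_zero]
    simp only [map_pow]
    rw [← hw, end_geom, hD1]

lemma lemmaAdd {p : ℕ} [Fact p.Prime] {V : Type*} [AddCommGroup V] [Finite V]
    (hexp : ∀ v : V, p • v = 0)
    (m : ℕ) (hcard : Nat.card V = p ^ m) (u : AddMonoid.End V) (r : ℕ) (hu : u ^ (p ^ r) = 1)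
    (s : ℕ) (hs : m < p ^ s) :
    u ^ (p ^ s) = 1 ∧ (∑ i ∈ Finset.range (p ^ s), u ^ i) = 0 :=
  @lemmaV p _ V _ (AddCommGroup.zmodModule hexp) _ m hcard u r hu s hs



/-- partial products `n * φ n * φ² n * ...` -/
def PP {N : Type*} [Group N] (φ : MulAut N) (n : N) : ℕ → N
  | 0 => 1
  | (i + 1) => PP φ n i * (φ ^ i) n

lemma lemmaA {N : Type*} [CommGroup N] [Finite N] (p m : ℕ) [Fact p.Prime]
    (hexp : ∀ x : N, x ^ p = 1) (hcard : Nat.card N = p ^ m)
    (φ : MulAut N) (r : ℕ) (hφ : φ ^ (p ^ r) = 1) (s : ℕ) (hs : m < p ^ s) :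
    φ ^ (p ^ s) = 1 ∧ ∀ n : N, PP φ n (p ^ s) = 1 := by
  classical
  haveI : Finite (Additive N) := inferInstanceAs (Finite N)
  have hexp' : ∀ v : Additive N, p • v = 0 := by
    intro x
    induction x using Additive.rec with
    | ofMul x => rw [← ofMul_pow, hexp]; rfl
  have hcard' : Nat.card (Additive N) = p ^ m := hcard
  let U : MulAut N → AddMonoid.End (Additive N) := fun ψ => (MulEquiv.toAdditive ψ).toAddMonoidHom
  have hU1 : U 1 = 1 := rfl
  have hUmul : ∀ a b, U (a * b) = U a * U b := fun _ _ => rfl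
  have hUpow : ∀ (a : MulAut N) (k : ℕ), U (a ^ k) = U a ^ k := by
    intro a k
    induction k with
    | zero => rw [pow_zero, pow_zero, hU1]
    | succ k ih => rw [pow_succ, pow_succ, hUmul, ih]
  have hUapp : ∀ (ψ : MulAut N) (n : N), U ψ (Additive.ofMul n) = Additive.ofMul (ψ n) := fun _ _ => rfl
  obtain ⟨h1, h2⟩ := lemmaAdd hexp' m hcard' (U φ) r (by rw [← hUpow, hφ, hU1]) s hs
  constructor
  · ext n
    have := congrArg (fun (w : AddMonoid.End (Additive N)) => w (Additive.ofMul n)) h1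
    simp only [← hUpow, hUapp] at this
    exact Additive.ofMul.injective this
  · intro n
    have hadd : ∀ (f g : AddMonoid.End (Additive N)) (x : Additive N), (f + g) x = f x + g x :=
      fun _ _ _ => rfl
    have hPP : ∀ j, Additive.ofMul (PP φ n j) = (∑ i ∈ Finset.range j, U φ ^ i) (Additive.ofMul n) := by
      intro j
      induction j with
      | zero => simp [PP]
      | succ j ih =>
        rw [PP, Finset.sum_range_succ, hadd, ← ih, ofMul_mul]
        congr 1
        rw [← hUpow, hUapp]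
    have := hPP (p ^ s)
    rw [h2] at this
    exact Additive.ofMul.injective this



lemma pow_decomp {G : Type*} [Group G] (N : Subgroup G) [N.Normal] (n₀ : N) (h : G) :
    ∀ j : ℕ, ((n₀ : G) * h) ^ j = ((PP (MulAut.conjNormal h : MulAut N) n₀ j : N) : G) * h ^ j := by
  intro j
  induction j with
  | zero => simp [PP]
  | succ j ih =>
    rw [pow_succ, ih, PP, Subgroup.coe_mul, ← map_pow, MulAut.conjNormal_apply, pow_succ]
    group

lemma lemmaB {G : Type*} [Group G] [Finite G] {Ω : Type*} [Fintype Ω] [MulAction G Ω]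
    [FaithfulSMul G Ω] (p m : ℕ) [Fact p.Prime] (hcard : Fintype.card Ω = p ^ m)
    (N : Subgroup G) [N.Normal] (hNc : IsMulCommutative N) (hNp : ∀ n ∈ N, n ^ p = 1)
    (hNtr : MulAction.IsPretransitive N Ω) (hNreg : ∀ ω : Ω, MulAction.stabilizer N ω = ⊥)
    (g : G) (r : ℕ) (hg : g ^ (p ^ r) = 1) (s : ℕ) (hs : m < p ^ s) : g ^ (p ^ s) = 1 := by
  classical
  have hpP : p.Prime := Fact.out
  haveI : Nonempty Ω := by
    rw [← Fintype.card_pos_iff, hcard]; exact pow_pos hpP.pos m
  obtain ⟨ω₀⟩ := ‹Nonempty Ω›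
  have hcomm : ∀ a b : N, a * b = b * a := fun a b => hNc.is_comm.comm a b
  letI cg : CommGroup N := { (inferInstance : Group N) with mul_comm := hcomm }
  -- |N| = p^m
  have hbij : Function.Bijective (fun n : N => n • ω₀) := by
    constructor
    · intro a b hab
      have hab' : a • ω₀ = b • ω₀ := hab
      have : b⁻¹ * a ∈ MulAction.stabilizer N ω₀ := by
        rw [MulAction.mem_stabilizer_iff, mul_smul, hab', inv_smul_smul]
      rw [hNreg, Subgroup.mem_bot] at this
      have h2 : a = b * (b⁻¹ * a) := by group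
      rw [h2, this, mul_one]
    · intro ω
      exact hNtr.exists_smul_eq ω₀ ω
  have hcardN : Nat.card N = p ^ m := by
    rw [Nat.card_eq_of_bijective _ hbij, Nat.card_eq_fintype_card, hcard]
  -- decomposition
  obtain ⟨n₀, hn₀⟩ := hNtr.exists_smul_eq ω₀ (g • ω₀)
  have hn₀' : (n₀ : G) • ω₀ = g • ω₀ := hn₀
  set h : G := (n₀ : G)⁻¹ * g with hh
  have hgh : g = (n₀ : G) * h := by rw [hh]; group
  have hfix : h • ω₀ = ω₀ := by
    rw [hh, mul_smul, ← hn₀', inv_smul_smul]
  set φ : MulAut N := MulAut.conjNormal h with hφ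
  have hφg : φ = MulAut.conjNormal g := by
    ext x
    rw [hφ, MulAut.conjNormal_apply, MulAut.conjNormal_apply, hgh]
    have hx : (n₀ : G) * (x : G) = (x : G) * (n₀ : G) := by
      have := congrArg Subtype.val (hcomm n₀ x)
      simpa using this
    have e1 : (n₀ : G) * h * (x : G) * ((n₀ : G) * h)⁻¹ =
        (n₀ : G) * (h * (x : G) * h⁻¹) * (n₀ : G)⁻¹ := by group
    rw [e1]
    have hy : h * (x : G) * h⁻¹ ∈ N := ‹N.Normal›.conj_mem x x.2 h
    have hy2 : (n₀ : G) * (h * (x : G) * h⁻¹) = (h * (x : G) * h⁻¹) * (n₀ : G) := by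
      have := congrArg Subtype.val (hcomm n₀ ⟨_, hy⟩)
      simpa using this
    rw [hy2]; group
  have hφpow : φ ^ (p ^ r) = 1 := by
    rw [hφg, ← map_pow, hg, map_one]
  have hexpN : ∀ x : N, x ^ p = 1 := by
    intro x
    apply Subtype.ext
    rw [Subgroup.coe_pow, hNp x x.2]; rfl
  obtain ⟨h1, h2⟩ := @lemmaA N cg _ p m _ hexpN hcardN φ r hφpow s hs
  -- h^k = 1
  have hk1 : h ^ (p ^ s) = 1 := by
    apply FaithfulSMul.eq_of_smul_eq_smul (α := Ω)
    intro ω
    obtain ⟨n, hn⟩ := hNtr.exists_smul_eq ω₀ ω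
    have hn' : (n : G) • ω₀ = ω := hn
    have hc : h ^ (p ^ s) * (n : G) = (n : G) * h ^ (p ^ s) := by
      have := congrArg (fun ψ : MulAut N => ((ψ n : N) : G)) h1
      simp only [hφ, ← map_pow, MulAut.conjNormal_apply, MulAut.one_apply] at this
      calc h ^ (p ^ s) * (n : G) = (h ^ (p ^ s) * (n : G) * (h ^ (p ^ s))⁻¹) * h ^ (p ^ s) := by group
        _ = (n : G) * h ^ (p ^ s) := by rw [this]
    have hfixk : h ^ (p ^ s) • ω₀ = ω₀ := by
      have : h ∈ MulAction.stabilizer G ω₀ := hfix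
      exact (MulAction.stabilizer G ω₀).pow_mem this _
    rw [one_smul, ← hn', ← mul_smul, hc, mul_smul, hfixk]
  rw [hgh, pow_decomp N n₀ h (p ^ s), hk1, mul_one]
  have := h2 n₀
  have h3 : PP φ n₀ (p ^ s) = PP (MulAut.conjNormal h : MulAut N) n₀ (p ^ s) := rfl
  rw [← h3, this]; rfl



lemma two_pow_gt : ∀ j : ℕ, 2 ≤ j → j + 1 < 2 ^ j := by
  intro j hj
  induction j, hj using Nat.le_induction with
  | base => norm_num
  | succ j hj ih => rw [pow_succ]; omega

lemma three_pow_gt : ∀ j : ℕ, 1 ≤ j → j + 1 < 3 ^ j := by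
  intro j hj
  induction j, hj using Nat.le_induction with
  | base => norm_num
  | succ j hj ih => rw [pow_succ]; omega


/-- Let a finite group G act faithfully on a set Ω with p ^ m points (p prime) and have an elementary abelian normal p-subgroup N acting regularly on Ω (so G is a group of affine transformations of an m-dimensional space over the field with p elements). If G contains an element of order p ^ r with r ≥ 1, then p ^ (r − 1) ≤ m. In particular an element of order p ^ m forces m ≤ 2, and m ≤ 1 when p is odd. -/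
theorem result {G : Type*} [Group G] [Finite G] {Ω : Type*} [Fintype Ω] [MulAction G Ω] [FaithfulSMul G Ω] (p m : ℕ) (hp : p.Prime) (hcard : Fintype.card Ω = p ^ m)
    (N : Subgroup G) [N.Normal] (hNc : IsMulCommutative N) (hNp : ∀ n ∈ N, n ^ p = 1)
    (hNtr : MulAction.IsPretransitive N Ω) (hNreg : ∀ ω : Ω, MulAction.stabilizer N ω = ⊥)
    (g : G) (r : ℕ) (hr : 1 ≤ r) (hg : orderOf g = p ^ r) :
    p ^ (r - 1) ≤ m ∧ (r = m → m ≤ 2 ∧ (2 < p → m ≤ 1)) := by
  haveI : Fact p.Prime := ⟨hp⟩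
  have hmain : p ^ (r - 1) ≤ m := by
    by_contra hcon
    push Not at hcon
    have hgr : g ^ (p ^ r) = 1 := by rw [← hg]; exact pow_orderOf_eq_one g
    have := lemmaB p m hcard N hNc hNp hNtr hNreg g r hgr (r - 1) hcon
    have hd : orderOf g ∣ p ^ (r - 1) := orderOf_dvd_of_pow_eq_one this
    rw [hg] at hd
    have := (Nat.pow_dvd_pow_iff_le_right hp.one_lt).1 hd
    omega
  refine ⟨hmain, ?_⟩
  intro hrm
  subst hrm
  constructor
  · by_contra hcon
    push Not at hcon
    have h1 := two_pow_gt (r - 1) (by omega)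
    have h2 : 2 ^ (r - 1) ≤ p ^ (r - 1) := Nat.pow_le_pow_left hp.two_le _
    omega
  · intro hp2
    by_contra hcon
    push Not at hcon
    have h1 := three_pow_gt (r - 1) (by omega)
    have h2 : 3 ^ (r - 1) ≤ p ^ (r - 1) := Nat.pow_le_pow_left (by omega) _
    omega

end Cfsg.Agent.S3508
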