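import Cfsg.Statements.S3511

set_option autoImplicit false
open Cfsg

namespace Cfsg.Agent.S3511

theorem aux {G : Type*} [Group G] [Finite G] {Ω : Type*} [MulAction G Ω]
    (h : ∀ g : G, Squarefree (orderOf g) → ∃ ω : Ω, MulAction.stabilizer (Subgroup.zpowers g) ω = ⊥)
    (n : ℕ) : ∀ g : G, orderOf g = n →
      ∃ ω : Ω, MulAction.stabilizer (Subgroup.zpowers g) ω = ⊥ := by
  induction n using Nat.strong_induction_on with
  | _ n ih =>
    intro g hg
    by_cases hsq : Squarefree n
    · exact h g (hg ▸ hsq)
    · rw [Nat.squarefree_iff_prime_squarefree] at hsq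
      simp only [not_forall, not_not] at hsq
      obtain ⟨p, hp, hpp⟩ := hsq
      have hn0 : 0 < n := hg ▸ orderOf_pos g
      have hpn : p ∣ n := Dvd.dvd.trans (dvd_mul_right p p) hpp
      have hord : orderOf (g ^ p) = n / p := by
        rw [orderOf_pow_of_dvd hp.ne_zero (hg ▸ hpn), hg]
      obtain ⟨ω, hω⟩ := ih (n / p) (Nat.div_lt_self hn0 hp.one_lt) (g ^ p) hord
      refine ⟨ω, ?_⟩
      rw [Subgroup.eq_bot_iff_forall]
      rintro ⟨x, hx⟩ hxstab
      by_contra hne
      have hx1 : x ≠ 1 := fun h1 => hne (Subtype.ext h1)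
      have hxs : x ∈ MulAction.stabilizer G ω := by
        rw [MulAction.mem_stabilizer_iff] at hxstab ⊢
        exact hxstab
      have hm1 : orderOf x ≠ 1 := by rwa [Ne, orderOf_eq_one_iff]
      obtain ⟨l, hl, hlm⟩ := Nat.exists_prime_and_dvd hm1
      set y := x ^ (orderOf x / l) with hydef
      have hy : orderOf y = l := orderOf_pow_orderOf_div (orderOf_pos x).ne' hlm
      have hy_mem : y ∈ Subgroup.zpowers g := Subgroup.pow_mem _ hx _
      obtain ⟨a, ha⟩ := (mem_powers_iff_mem_zpowers).mpr hy_mem
      have ha' : g ^ a = y := ha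
      have hga : g ^ (a * l) = 1 := by rw [pow_mul, ha', ← hy, pow_orderOf_eq_one]
      have hdvd : n ∣ a * l := hg ▸ orderOf_dvd_of_pow_eq_one hga
      have hpa : p ∣ a := by
        have h2 : p * p ∣ a * l := hpp.trans hdvd
        by_cases hlp : l = p
        · subst hlp
          exact Nat.dvd_of_mul_dvd_mul_right hl.pos h2
        · have hcop : Nat.Coprime p l := (Nat.coprime_primes hp hl).mpr (Ne.symm hlp)
          exact hcop.dvd_of_dvd_mul_right ((dvd_mul_right p p).trans h2)
      obtain ⟨b, rfl⟩ := hpa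
      have hy2 : y ∈ Subgroup.zpowers (g ^ p) := by
        refine ⟨(b : ℤ), ?_⟩
        simp only [zpow_natCast]
        rw [← pow_mul, ha']
      have hys : y ∈ MulAction.stabilizer G ω := Subgroup.pow_mem _ hxs _
      have hmem : (⟨y, hy2⟩ : Subgroup.zpowers (g ^ p)) ∈
          MulAction.stabilizer (Subgroup.zpowers (g ^ p)) ω := by
        rw [MulAction.mem_stabilizer_iff] at hys ⊢
        exact hys
      rw [hω, Subgroup.mem_bot] at hmem
      have hy1 : y = 1 := congrArg Subtype.val hmem
      rw [← orderOf_eq_one_iff, hy] at hy1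
      exact hl.one_lt.ne' hy1

/-- Let a finite group G act faithfully on a set Ω. If every element of G of square-free order has a regular cycle (an orbit of the cyclic group it generates with trivial stabilizer), then every element of G has a regular cycle. -/
theorem result {G : Type*} [Group G] [Finite G] {Ω : Type*} [MulAction G Ω] [FaithfulSMul G Ω]
    (h : ∀ g : G, Squarefree (orderOf g) → ∃ ω : Ω, MulAction.stabilizer (Subgroup.zpowers g) ω = ⊥) (g : G) :
    ∃ ω : Ω, MulAction.stabilizer (Subgroup.zpowers g) ω = ⊥ := by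
  exact aux h (orderOf g) g rfl

end Cfsg.Agent.S3511
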