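import Mathlib
import Cfsg.Statements.S3515

set_option autoImplicit false
set_option maxHeartbeats 1000000
open Cfsg

namespace Cfsg.Agent.S3515

theorem four_pts : ∀ x : Fin 2 → ZMod 2, x = 0 ∨ x = Pi.single 0 1 ∨ x = Pi.single 1 1 ∨
    x = Pi.single 0 1 + Pi.single 1 1 := by decide

theorem four_ne : (Pi.single 0 1 + Pi.single 1 1 : Fin 2 → ZMod 2) ≠ 0 ∧
    (Pi.single 0 1 + Pi.single 1 1 : Fin 2 → ZMod 2) ≠ Pi.single 0 1 ∧
    (Pi.single 0 1 + Pi.single 1 1 : Fin 2 → ZMod 2) ≠ Pi.single 1 1 := by decide

/-- Every primitive affine permutation group of degree p² is 3-closed. Let p be a prime and G a group of permutations of the plane V = F_p² consisting of affine maps x ↦ Ax + b, containing all translations, and acting primitively on V. Then any permutation σ of V that agrees on every triple of points with some element of G (σ preserves every G-orbit on ordered triples) already lies in G. -/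
theorem result (p : ℕ) [Fact p.Prime] (G : Subgroup (Equiv.Perm (Fin 2 → ZMod p)))
    (haff : (G : Set (Equiv.Perm (Fin 2 → ZMod p))) ⊆ {τ : Equiv.Perm (Fin 2 → ZMod p) | ∃ (A : (Fin 2 → ZMod p) ≃ₗ[ZMod p] (Fin 2 → ZMod p)) (b : Fin 2 → ZMod p), ∀ x, τ x = A x + b})
    (htrans : ∀ b : Fin 2 → ZMod p, ∃ g ∈ G, ∀ x, g x = x + b) (hprim : MulAction.IsPreprimitive G (Fin 2 → ZMod p))
    (σ : Equiv.Perm (Fin 2 → ZMod p)) (hσ : (∀ t : Fin 3 → (Fin 2 → ZMod p), ∃ g ∈ G, ∀ i, σ (t i) = g (t i))) : σ ∈ G := by
  have h3pt : ∀ a b c : Fin 2 → ZMod p, ∃ g ∈ G, σ a = g a ∧ σ b = g b ∧ σ c = g c := by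
    intro a b c
    obtain ⟨g, hg, h⟩ := hσ ![a, b, c]
    refine ⟨g, hg, ?_, ?_, ?_⟩
    · simpa using h 0
    · simpa using h 1
    · simpa using h 2
  obtain rfl | hp2 := eq_or_ne p 2
  · -- p = 2 : a permutation of four points is determined by three values
    obtain ⟨g, hg, h0, h1, h2⟩ := h3pt 0 (Pi.single 0 1) (Pi.single 1 1)
    have hall := four_pts
    have hne := four_ne
    have hsg : σ = g := by
      ext1 x
      rcases hall x with rfl | rfl | rfl | rfl
      · exact h0
      · exact h1
      · exact h2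
      · have hd : g⁻¹ (σ (Pi.single 0 1 + Pi.single 1 1)) = Pi.single 0 1 + Pi.single 1 1 := by
          rcases hall (g⁻¹ (σ (Pi.single 0 1 + Pi.single 1 1))) with h | h | h | h
          · exfalso
            have e : σ (Pi.single 0 1 + Pi.single 1 1) = g 0 := by
              have h' := congrArg g h
              simpa using h'
            exact hne.1 (σ.injective (e.trans h0.symm))
          · exfalso
            have e : σ (Pi.single 0 1 + Pi.single 1 1) = g (Pi.single 0 1) := by
              have h' := congrArg g h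
              simpa using h'
            exact hne.2.1 (σ.injective (e.trans h1.symm))
          · exfalso
            have e : σ (Pi.single 0 1 + Pi.single 1 1) = g (Pi.single 1 1) := by
              have h' := congrArg g h
              simpa using h'
            exact hne.2.2 (σ.injective (e.trans h2.symm))
          · exact h
        calc σ (Pi.single 0 1 + Pi.single 1 1)
            = g (g⁻¹ (σ (Pi.single 0 1 + Pi.single 1 1))) := by simp
          _ = g (Pi.single 0 1 + Pi.single 1 1) := by rw [hd]
    rw [hsg]; exact hg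
  · -- p odd : midpoints are preserved, hence σ is affine
    have hp := (Fact.out : p.Prime)
    have h2 : (2 : ZMod p) ≠ 0 := by
      intro h
      have h' : ((2 : ℕ) : ZMod p) = 0 := by exact_mod_cast h
      have hdvd : p ∣ 2 := (ZMod.natCast_eq_zero_iff 2 p).mp h'
      exact hp2 ((Nat.prime_dvd_prime_iff_eq hp Nat.prime_two).mp hdvd)
    obtain ⟨i2, hi2⟩ : ∃ i2 : ZMod p, i2 * 2 = 1 := ⟨(2 : ZMod p)⁻¹, inv_mul_cancel₀ h2⟩
    have hhalf : ∀ c : Fin 2 → ZMod p, i2 • (c + c) = c := by
      intro c
      rw [← two_smul (ZMod p) c, smul_smul, hi2, one_smul]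
    have hmid : ∀ x y : Fin 2 → ZMod p, σ (i2 • (x + y)) = i2 • (σ x + σ y) := by
      intro x y
      obtain ⟨g, hg, hx, hy, hm⟩ := h3pt x y (i2 • (x + y))
      obtain ⟨A, b, hA⟩ := haff hg
      rw [hm, hx, hy, hA (i2 • (x + y)), hA x, hA y, map_smul, map_add]
      calc i2 • (A x + A y) + b = i2 • (A x + A y) + i2 • (b + b) := by rw [hhalf]
        _ = i2 • (A x + b + (A y + b)) := by
          rw [← smul_add]; congr 1; abel
    obtain ⟨tau, htau⟩ : ∃ tau : (Fin 2 → ZMod p) → (Fin 2 → ZMod p), ∀ x, tau x = σ x - σ 0 :=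
      ⟨fun x => σ x - σ 0, fun x => rfl⟩
    have ht0 : tau 0 = 0 := by rw [htau]; exact sub_self _
    have htmid : ∀ x y, tau (i2 • (x + y)) = i2 • (tau x + tau y) := by
      intro x y
      rw [htau, htau x, htau y, hmid]
      have e : (σ x - σ 0) + (σ y - σ 0) = (σ x + σ y) - (σ 0 + σ 0) := by abel
      rw [e, smul_sub, hhalf]
    have hthalf : ∀ x, tau (i2 • x) = i2 • tau x := by
      intro x
      have h := htmid x 0
      rwa [add_zero, ht0, add_zero] at h
    have htdouble : ∀ x, tau (x + x) = tau x + tau x := by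
      intro x
      have h := hthalf (x + x)
      rw [hhalf] at h
      calc tau (x + x) = i2 • (tau (x + x) + tau (x + x)) := (hhalf _).symm
        _ = i2 • tau (x + x) + i2 • tau (x + x) := smul_add _ _ _
        _ = tau x + tau x := by rw [← h]
    have htadd : ∀ x y, tau (x + y) = tau x + tau y := by
      intro x y
      have h1 := htmid (x + x) (y + y)
      have e : i2 • ((x + x) + (y + y)) = x + y := by
        have e' : (x + x) + (y + y) = (x + y) + (x + y) := by abel
        rw [e', hhalf]
      rw [e, htdouble, htdouble] at h1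
      rw [h1]
      have e2 : tau x + tau x + (tau y + tau y) = (tau x + tau y) + (tau x + tau y) := by abel
      rw [e2, hhalf]
    let tauL : (Fin 2 → ZMod p) →ₗ[ZMod p] (Fin 2 → ZMod p) :=
      (AddMonoidHom.mk' tau htadd).toZModLinearMap p
    have htauL : ∀ x, tauL x = tau x := fun x => rfl
    obtain ⟨g, hg, h0, h1, h2'⟩ := h3pt 0 (Pi.single 0 1) (Pi.single 1 1)
    obtain ⟨A, b, hA⟩ := haff hg
    have hb : σ 0 = b := by rw [h0, hA, map_zero, zero_add]
    have hL1 : tauL (Pi.single 0 1) = A (Pi.single 0 1) := by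
      rw [htauL, htau, h1, hA, hb]; abel
    have hL2 : tauL (Pi.single 1 1) = A (Pi.single 1 1) := by
      rw [htauL, htau, h2', hA, hb]; abel
    have hsg : σ = g := by
      ext1 x
      have hx : x = x 0 • (Pi.single 0 1 : Fin 2 → ZMod p) + x 1 • (Pi.single 1 1 : Fin 2 → ZMod p) := by
        ext j; fin_cases j <;> simp
      have e1 : tauL x = A x := by
        have : tauL (x 0 • (Pi.single 0 1 : Fin 2 → ZMod p) + x 1 • (Pi.single 1 1 : Fin 2 → ZMod p))
            = A (x 0 • (Pi.single 0 1 : Fin 2 → ZMod p) + x 1 • (Pi.single 1 1 : Fin 2 → ZMod p)) := by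
          simp only [map_add, map_smul, hL1, hL2]
        rw [← hx] at this; exact this
      have e2 : σ x = tau x + σ 0 := by rw [htau]; abel
      rw [e2, ← htauL, e1, hb, hA]
    rw [hsg]; exact hg

end Cfsg.Agent.S3515
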