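import Mathlib
import Cfsg.Statements.S3516

set_option autoImplicit false
set_option maxHeartbeats 1000000
open Cfsg
open Matrix

namespace Cfsg.Agent.S3516

/-- Let p be an odd prime, d ≥ 3, and G a group of affine permutations x ↦ Ax + b of V = F_p^d containing all translations and all maps x ↦ Ax with A of determinant 1. Then the 3-closure of G is the full affine group: a permutation σ of V agrees on every triple of points with some element of G if and only if σ is an affine map. -/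
theorem result (p : ℕ) [Fact p.Prime] (hp : p ≠ 2) (d : ℕ) (hd : 3 ≤ d) (G : Subgroup (Equiv.Perm (Fin d → ZMod p)))
    (haff : (G : Set (Equiv.Perm (Fin d → ZMod p))) ⊆ {τ : Equiv.Perm (Fin d → ZMod p) | ∃ (A : (Fin d → ZMod p) ≃ₗ[ZMod p] (Fin d → ZMod p)) (b : Fin d → ZMod p), ∀ x, τ x = A x + b})
    (htrans : ∀ b : Fin d → ZMod p, ∃ g ∈ G, ∀ x, g x = x + b)
    (hsl : ∀ A : (Fin d → ZMod p) ≃ₗ[ZMod p] (Fin d → ZMod p), LinearMap.det (A : (Fin d → ZMod p) →ₗ[ZMod p] (Fin d → ZMod p)) = 1 → ∃ g ∈ G, ∀ x, g x = A x)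
    (σ : Equiv.Perm (Fin d → ZMod p)) :
    (∀ t : Fin 3 → (Fin d → ZMod p), ∃ g ∈ G, ∀ i, σ (t i) = g (t i)) ↔ σ ∈ {τ : Equiv.Perm (Fin d → ZMod p) | ∃ (A : (Fin d → ZMod p) ≃ₗ[ZMod p] (Fin d → ZMod p)) (b : Fin d → ZMod p), ∀ x, τ x = A x + b} := by
  have hpP := (Fact.out : p.Prime)
  constructor
  · intro hσ
    have h3pt : ∀ a b c : Fin d → ZMod p, ∃ g ∈ G, σ a = g a ∧ σ b = g b ∧ σ c = g c := by
      intro a b c
      obtain ⟨g, hg, h⟩ := hσ ![a, b, c]
      refine ⟨g, hg, ?_, ?_, ?_⟩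
      · simpa using h 0
      · simpa using h 1
      · simpa using h 2
    have h2 : (2 : ZMod p) ≠ 0 := by
      intro h
      have h' : ((2 : ℕ) : ZMod p) = 0 := by exact_mod_cast h
      have hdvd : p ∣ 2 := (ZMod.natCast_eq_zero_iff 2 p).mp h'
      exact hp ((Nat.prime_dvd_prime_iff_eq hpP Nat.prime_two).mp hdvd)
    obtain ⟨i2, hi2⟩ : ∃ i2 : ZMod p, i2 * 2 = 1 := ⟨(2 : ZMod p)⁻¹, inv_mul_cancel₀ h2⟩
    have hhalf : ∀ c : Fin d → ZMod p, i2 • (c + c) = c := by
      intro c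
      rw [← two_smul (ZMod p) c, smul_smul, hi2, one_smul]
    have hmid : ∀ x y : Fin d → ZMod p, σ (i2 • (x + y)) = i2 • (σ x + σ y) := by
      intro x y
      obtain ⟨g, hg, hx, hy, hm⟩ := h3pt x y (i2 • (x + y))
      obtain ⟨A, b, hA⟩ := haff hg
      rw [hm, hx, hy, hA (i2 • (x + y)), hA x, hA y, map_smul, map_add]
      calc i2 • (A x + A y) + b = i2 • (A x + A y) + i2 • (b + b) := by rw [hhalf]
        _ = i2 • (A x + b + (A y + b)) := by
          rw [← smul_add]; congr 1; abel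
    obtain ⟨tau, htau⟩ : ∃ tau : (Fin d → ZMod p) → (Fin d → ZMod p), ∀ x, tau x = σ x - σ 0 :=
      ⟨fun x => σ x - σ 0, fun x => rfl⟩
    have ht0 : tau 0 = 0 := by rw [htau]; exact sub_self _
    have htmid : ∀ x y, tau (i2 • (x + y)) = i2 • (tau x + tau y) := by
      intro x y
      rw [htau, htau x, htau y, hmid]
      have e : (σ x - σ 0) + (σ y - σ 0) = (σ x + σ y) - (σ 0 + σ 0) := by abel
      rw [e, smul_sub, hhalf]
    have hthalf : ∀ x, tau (i2 • x) = i2 • tau x := by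
      intro x
      have h := htmid x 0
      rwa [add_zero, ht0, add_zero] at h
    have htdouble : ∀ x, tau (x + x) = tau x + tau x := by
      intro x
      have h := hthalf (x + x)
      rw [hhalf] at h
      calc tau (x + x) = i2 • (tau (x + x) + tau (x + x)) := (hhalf _).symm
        _ = i2 • tau (x + x) + i2 • tau (x + x) := smul_add _ _ _
        _ = tau x + tau x := by rw [← h]
    have htadd : ∀ x y, tau (x + y) = tau x + tau y := by
      intro x y
      have h1 := htmid (x + x) (y + y)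
      have e : i2 • ((x + x) + (y + y)) = x + y := by
        have e' : (x + x) + (y + y) = (x + y) + (x + y) := by abel
        rw [e', hhalf]
      rw [e, htdouble, htdouble] at h1
      rw [h1]
      have e2 : tau x + tau x + (tau y + tau y) = (tau x + tau y) + (tau x + tau y) := by abel
      rw [e2, hhalf]
    let tauL : (Fin d → ZMod p) →ₗ[ZMod p] (Fin d → ZMod p) :=
      (AddMonoidHom.mk' tau htadd).toZModLinearMap p
    have htauL : ∀ x, tauL x = tau x := fun x => rfl
    have hbij : Function.Bijective tauL := by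
      constructor
      · intro x y hxy
        rw [htauL, htauL, htau, htau] at hxy
        exact σ.injective (sub_left_inj.mp hxy)
      · intro y
        refine ⟨σ.symm (y + σ 0), ?_⟩
        rw [htauL, htau, Equiv.apply_symm_apply, add_sub_cancel_right]
    refine ⟨LinearEquiv.ofBijective tauL hbij, σ 0, ?_⟩
    intro x
    rw [LinearEquiv.ofBijective_apply, htauL, htau, sub_add_cancel]
  · rintro ⟨A, b, hAb⟩ t
    have hdlt : Module.finrank (ZMod p) (Fin 2 → ZMod p) <
        Module.finrank (ZMod p) (Fin d → ZMod p) := by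
      rw [Module.finrank_fin_fun, Module.finrank_fin_fun]; omega
    let M : Matrix (Fin 2) (Fin d) (ZMod p) := Matrix.of ![t 1 - t 0, t 2 - t 0]
    have hker : LinearMap.ker (Matrix.mulVecLin M) ≠ ⊥ :=
      LinearMap.ker_ne_bot_of_finrank_lt hdlt
    obtain ⟨c, hcker, hc0⟩ := (Submodule.ne_bot_iff _).mp hker
    have hc : M *ᵥ c = 0 := by
      have := LinearMap.mem_ker.mp hcker
      simpa using this
    have hcu : c ⬝ᵥ (t 1 - t 0) = 0 := by
      have h := congrFun hc 0
      rw [dotProduct_comm]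
      exact h
    have hcv : c ⬝ᵥ (t 2 - t 0) = 0 := by
      have h := congrFun hc 1
      rw [dotProduct_comm]
      exact h
    obtain ⟨k, hk⟩ := Function.ne_iff.mp hc0
    have hk' : c k ≠ 0 := hk
    obtain ⟨w, hw⟩ : ∃ w : Fin d → ZMod p, w = (c k)⁻¹ • Pi.single k 1 := ⟨_, rfl⟩
    have hcw : c ⬝ᵥ w = 1 := by
      rw [hw, dotProduct_smul, dotProduct_single, mul_one, smul_eq_mul, inv_mul_cancel₀ hk']
    have hdetA : LinearMap.det (A : (Fin d → ZMod p) →ₗ[ZMod p] (Fin d → ZMod p)) ≠ 0 :=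
      (LinearEquiv.isUnit_det' A).ne_zero
    obtain ⟨δ, hδ⟩ : ∃ δ : ZMod p,
        δ = (LinearMap.det (A : (Fin d → ZMod p) →ₗ[ZMod p] (Fin d → ZMod p)))⁻¹ := ⟨_, rfl⟩
    obtain ⟨Dm, hDm⟩ : ∃ Dm : Matrix (Fin d) (Fin d) (ZMod p),
        Dm = 1 + Matrix.vecMulVec ((δ - 1) • w) c := ⟨_, rfl⟩
    have hdetD : Dm.det = δ := by
      rw [hDm, Matrix.vecMulVec_eq Unit, Matrix.det_one_add_replicateCol_mul_replicateRow,
        dotProduct_smul, hcw, smul_eq_mul, mul_one]
      ring
    have hDfix : ∀ y : Fin d → ZMod p, c ⬝ᵥ y = 0 → Dm *ᵥ y = y := by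
      intro y hy
      rw [hDm, Matrix.add_mulVec, Matrix.one_mulVec, Matrix.vecMulVec_mulVec, hy]
      simp
    have hdetB : LinearMap.det ((A : (Fin d → ZMod p) →ₗ[ZMod p] (Fin d → ZMod p)) ∘ₗ
        Matrix.toLin' Dm) = 1 := by
      rw [LinearMap.det_comp, LinearMap.det_toLin', hdetD, hδ, mul_inv_cancel₀ hdetA]
    obtain ⟨g1, hg1, hg1x⟩ := hsl (LinearMap.equivOfIsUnitDet
        (f := (A : (Fin d → ZMod p) →ₗ[ZMod p] (Fin d → ZMod p)) ∘ₗ Matrix.toLin' Dm)
        (by rw [hdetB]; exact isUnit_one))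
      (by rw [LinearMap.coe_equivOfIsUnitDet]; exact hdetB)
    have hg1x' : ∀ y, g1 y = A (Dm *ᵥ y) := by
      intro y
      rw [hg1x, LinearMap.equivOfIsUnitDet_apply]
      rfl
    obtain ⟨g2, hg2, hg2x⟩ := htrans (A (t 0) + b - A (Dm *ᵥ (t 0)))
    refine ⟨g2 * g1, G.mul_mem hg2 hg1, ?_⟩
    intro i
    have hfix : Dm *ᵥ (t i - t 0) = t i - t 0 := by
      apply hDfix
      fin_cases i
      · simp
      · exact hcu
      · exact hcv
    have hsplit : Dm *ᵥ (t i) = Dm *ᵥ (t 0) + (t i - t 0) := by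
      have e : t i = t 0 + (t i - t 0) := by abel
      conv_lhs => rw [e]
      rw [Matrix.mulVec_add, hfix]
    rw [hAb, Equiv.Perm.mul_apply, hg2x, hg1x', hsplit, map_add, map_sub]
    abel

end Cfsg.Agent.S3516
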