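import Cfsg.Statements.S3518
import Mathlib
import Cfsg.Agent.Lib.Helper18.PrimeDegree2

set_option autoImplicit false
open Cfsg

namespace Cfsg.Agent.S3518

open Cfsg

/-- 2-closure of a permutation group. -/
def cl2 {α : Type*} (G : Subgroup (Equiv.Perm α)) : Subgroup (Equiv.Perm α) where
  carrier := {σ | ∀ t : Fin 2 → α, ∃ g ∈ G, ∀ i, σ (t i) = g (t i)}
  one_mem' := fun t => ⟨1, G.one_mem, fun i => rfl⟩
  mul_mem' := by
    intro σ τ hσ hτ t
    obtain ⟨g, hg, hgt⟩ := hτ t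
    obtain ⟨g', hg', hgt'⟩ := hσ (fun i => g (t i))
    refine ⟨g' * g, G.mul_mem hg' hg, fun i => ?_⟩
    rw [Equiv.Perm.mul_apply, Equiv.Perm.mul_apply, hgt i]
    exact hgt' i
  inv_mem' := by
    intro σ hσ t
    obtain ⟨g, hg, hgt⟩ := hσ (fun i => σ⁻¹ (t i))
    refine ⟨g⁻¹, G.inv_mem hg, fun i => ?_⟩
    have := hgt i
    rw [show σ (σ⁻¹ (t i)) = t i from Equiv.apply_symm_apply σ (t i)] at this
    rw [Equiv.Perm.eq_inv_iff_eq]
    exact this.symm

lemma le_cl2 {α : Type*} (G : Subgroup (Equiv.Perm α)) : G ≤ cl2 G :=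
  fun g hg t => ⟨g, hg, fun _ => rfl⟩

lemma small_affine (p : ℕ) (hp : p = 2 ∨ p = 3) (σ : Equiv.Perm (ZMod p)) :
    ∀ j, σ j = (σ 1 - σ 0) * j + σ 0 := by
  rcases hp with rfl | rfl
  · revert σ; decide
  · revert σ; decide

lemma affine_form {p : ℕ} [Fact p.Prime] (g : Equiv.Perm (ZMod p))
    (hg : g ∈ Cfsg.affineGroup (ZMod p)) : ∀ j, g j = (g 1 - g 0) * j + g 0 := by
  obtain ⟨a, b, h⟩ := hg
  intro j
  rw [h j, h 1, h 0]; ring


open Cfsg

lemma cl2_affine (p : ℕ) [hp : Fact p.Prime] (G : Subgroup (Equiv.Perm (ZMod p)))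
    (hG : G ≤ Cfsg.affineGroup (ZMod p))
    (htrans : ∀ b : ZMod p, ∃ g ∈ G, ∀ x, g x = x + b) (hne : G ≠ Cfsg.affineGroup (ZMod p)) :
    ∀ σ ∈ cl2 G, ∀ j, σ j = (σ 1 - σ 0) * j + σ 0 := by
  classical
  by_cases hp5 : 5 ≤ p
  · set H := cl2 G with hH
    -- transitivity of H
    haveI htr : MulAction.IsPretransitive H (ZMod p) := by
      constructor
      intro x y
      obtain ⟨g, hg, hgx⟩ := htrans (y - x)
      refine ⟨⟨g, le_cl2 G hg⟩, ?_⟩
      show g x = y
      rw [hgx]; ring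
    have hnot : ¬ MulAction.IsMultiplyPretransitive H (ZMod p) 2 := by
      intro h2
      apply hne
      apply le_antisymm hG
      rintro τ ⟨a, b, hτ⟩
      have ha0 : (a : ZMod p) ≠ 0 := a.ne_zero
      have h01 : (0 : ZMod p) ≠ 1 := zero_ne_one
      have h0a : (0 : ZMod p) ≠ (a : ZMod p) := fun h => ha0 h.symm
      obtain ⟨⟨σ, hσ⟩, h1, h2'⟩ := (MulAction.is_two_pretransitive_iff (G := H)).1 h2 h01 h0a
      have h1' : σ 0 = 0 := h1
      have h2'' : σ 1 = (a : ZMod p) := h2'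
      obtain ⟨g, hg, hgt⟩ := hσ ![0, 1]
      have hg0 : g 0 = 0 := by
        have := hgt 0
        simp only [Matrix.cons_val_zero] at this
        rw [← this, h1']
      have hg1 : g 1 = (a : ZMod p) := by
        have := hgt 1
        simp only [Matrix.cons_val_one, Matrix.cons_val_zero] at this
        rw [← this, h2'']
      have hgform := affine_form g (hG hg)
      obtain ⟨tb, htb, htbx⟩ := htrans b
      have : τ = tb * g := by
        ext x
        rw [Equiv.Perm.mul_apply, htbx, hgform x, hg0, hg1, hτ x]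
        ring
      rw [this]
      exact G.mul_mem htb hg
    obtain ⟨U, hU2, hUp⟩ := Cfsg.Agent.Lib.Helper18.PrimeDegree.exists_subrep_of_not_two_transitive
      (p := p) (α := ZMod p) (ZMod.card p) hp5 H hnot
    obtain ⟨c, hc, hcx⟩ := htrans 1
    have key := Cfsg.Agent.Lib.Helper18.PrimeDegree.affine_of_subrep_coord (p := p) (K := ZMod p)
      H U hU2 (Or.inl hUp) ⟨c, le_cl2 G hc⟩ (Equiv.refl (ZMod p))
      (by intro j; simp only [Equiv.refl_apply]; exact (hcx j).symm)
    intro σ hσ j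
    have := key ⟨σ, hσ⟩ j
    simpa using this
  · have hp23 : p = 2 ∨ p = 3 := by
      have h2 := hp.out.two_le
      have : p ≠ 4 := by
        intro h; rw [h] at hp; exact absurd hp.out (by decide)
      omega
    intro σ _ j
    exact small_affine p hp23 σ j


open Cfsg

lemma mk_affine {p : ℕ} [hp : Fact p.Prime] (a b : ZMod p) (ha : a ≠ 0) :
    ∃ g ∈ Cfsg.affineGroup (ZMod p), ∀ x, g x = a * x + b := by
  refine ⟨(Equiv.mulLeft₀ a ha).trans (Equiv.addRight b), ⟨Units.mk0 a ha, b, fun x => ?_⟩, fun x => ?_⟩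
  · simp
  · simp


/-- Closures of subgroups of the one-dimensional affine group. Let p be a prime and G a group of permutations of F_p lying in the affine group AGL₁(p) = {x ↦ ax + b, a ≠ 0} and containing all translations. (1) If G is a proper subgroup of AGL₁(p), then G is 2-closed: a permutation of F_p agreeing on every ordered pair of points with some element of G lies in G. (2) Every permutation of F_p agrees on every ordered pair with some element of AGL₁(p) (the 2-closure of AGL₁(p) is the symmetric group). (3) AGL₁(p) is 3-closed: a permutation agreeing on every ordered triple with some affine map is affine. -/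
theorem result (p : ℕ) [Fact p.Prime] (G : Subgroup (Equiv.Perm (ZMod p))) (hG : G ≤ Cfsg.affineGroup (ZMod p))
    (htrans : ∀ b : ZMod p, ∃ g ∈ G, ∀ x, g x = x + b) :
    (G ≠ Cfsg.affineGroup (ZMod p) → ∀ σ : Equiv.Perm (ZMod p), (∀ t : Fin 2 → ZMod p, ∃ g ∈ G, ∀ i, σ (t i) = g (t i)) → σ ∈ G) ∧
    (∀ σ : Equiv.Perm (ZMod p), (∀ t : Fin 2 → ZMod p, ∃ g ∈ Cfsg.affineGroup (ZMod p), ∀ i, σ (t i) = g (t i))) ∧
    (∀ σ : Equiv.Perm (ZMod p), (∀ t : Fin 3 → ZMod p, ∃ g ∈ Cfsg.affineGroup (ZMod p), ∀ i, σ (t i) = g (t i)) → σ ∈ Cfsg.affineGroup (ZMod p)) := by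
  refine ⟨?_, ?_, ?_⟩
  · intro hne σ hσ
    have hform := cl2_affine p G hG htrans hne σ hσ
    obtain ⟨g, hg, hgt⟩ := hσ ![0, 1]
    have hg0 : σ 0 = g 0 := by simpa using hgt 0
    have hg1 : σ 1 = g 1 := by simpa using hgt 1
    have hgform := affine_form g (hG hg)
    have : σ = g := by
      ext x
      rw [hform x, hgform x, hg0, hg1]
    rw [this]; exact hg
  · intro σ t
    by_cases h : t 0 = t 1
    · obtain ⟨g, hg, hgx⟩ := mk_affine (p := p) 1 (σ (t 0) - t 0) one_ne_zero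
      refine ⟨g, hg, ?_⟩
      rw [Fin.forall_fin_two]
      refine ⟨?_, ?_⟩
      · rw [hgx]; ring
      · rw [← h, hgx]; ring
    · have hd : t 0 - t 1 ≠ 0 := sub_ne_zero.2 h
      have hσd : σ (t 0) - σ (t 1) ≠ 0 := sub_ne_zero.2 (fun e => h (σ.injective e))
      obtain ⟨g, hg, hgx⟩ := mk_affine (p := p) ((σ (t 0) - σ (t 1)) / (t 0 - t 1))
        (σ (t 0) - (σ (t 0) - σ (t 1)) / (t 0 - t 1) * t 0) (div_ne_zero hσd hd)
      refine ⟨g, hg, ?_⟩
      rw [Fin.forall_fin_two]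
      refine ⟨?_, ?_⟩
      · rw [hgx]; ring
      · rw [hgx]; field_simp; ring
  · intro σ hσ
    have hne : σ 1 - σ 0 ≠ 0 := sub_ne_zero.2 (fun e => one_ne_zero (σ.injective e))
    refine ⟨Units.mk0 _ hne, σ 0, fun x => ?_⟩
    obtain ⟨g, hg, hgt⟩ := hσ ![0, 1, x]
    have hg0 : σ 0 = g 0 := by simpa using hgt 0
    have hg1 : σ 1 = g 1 := by simpa using hgt 1
    have hgx : σ x = g x := by simpa using hgt 2
    have hgform := affine_form g hg
    show σ x = (σ 1 - σ 0) * x + σ 0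
    rw [hgx, hgform x, hg0, hg1]

end Cfsg.Agent.S3518
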