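import Cfsg.Statements.S3532
import Mathlib
import Cfsg.Agent.Lib.Helper12.AffLine
import Cfsg.Agent.S2475

set_option autoImplicit false
open Cfsg

namespace Cfsg.Agent.S3532

open Cfsg.Agent.Lib.Helper12.AffLine

theorem range_orderOf_prod {G₁ G₂ : Type*} [Group G₁] [Group G₂] (S₁ S₂ : Set ℕ)
    (h₁ : Set.range (orderOf : G₁ → ℕ) = S₁) (h₂ : Set.range (orderOf : G₂ → ℕ) = S₂) :
    Set.range (orderOf : G₁ × G₂ → ℕ) = {k | ∃ x ∈ S₁, ∃ y ∈ S₂, k = Nat.lcm x y} := by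
  ext k
  simp only [Set.mem_range, Set.mem_setOf_eq, Prod.exists, Prod.orderOf]
  constructor
  · rintro ⟨a, b, rfl⟩
    exact ⟨orderOf a, by rw [← h₁]; exact ⟨a, rfl⟩, orderOf b, by rw [← h₂]; exact ⟨b, rfl⟩, rfl⟩
  · rintro ⟨x, hx, y, hy, rfl⟩
    rw [← h₁] at hx
    rw [← h₂] at hy
    obtain ⟨a, rfl⟩ := hx
    obtain ⟨b, rfl⟩ := hy
    exact ⟨a, b, rfl⟩

theorem set_eq (p m₁ m₂ : ℕ) :
    {k | ∃ x ∈ {n : ℕ | n ∣ p ∨ n ∣ m₁}, ∃ y ∈ {n : ℕ | n ∣ p ∨ n ∣ m₂}, k = Nat.lcm x y} =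
    {k | ∃ x ∈ {n : ℕ | n ∣ p ∨ n ∣ m₁ ∨ n ∣ m₂}, ∃ y ∈ {n : ℕ | n ∣ p ∨ n ∣ m₁ ∨ n ∣ m₂},
      k = Nat.lcm x y} := by
  ext k
  simp only [Set.mem_setOf_eq]
  constructor
  · rintro ⟨x, hx, y, hy, rfl⟩
    refine ⟨x, ?_, y, ?_, rfl⟩
    · rcases hx with h | h
      · exact Or.inl h
      · exact Or.inr (Or.inl h)
    · rcases hy with h | h
      · exact Or.inl h
      · exact Or.inr (Or.inr h)
  · rintro ⟨x, hx, y, hy, rfl⟩
    rcases hx with hx | hx | hx <;> rcases hy with hy | hy | hy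
    · exact ⟨Nat.lcm x y, Or.inl (Nat.lcm_dvd hx hy), 1, Or.inl (one_dvd _), by simp⟩
    · exact ⟨y, Or.inr hy, x, Or.inl hx, Nat.lcm_comm x y⟩
    · exact ⟨x, Or.inl hx, y, Or.inr hy, rfl⟩
    · exact ⟨x, Or.inr hx, y, Or.inl hy, rfl⟩
    · exact ⟨Nat.lcm x y, Or.inr (Nat.lcm_dvd hx hy), 1, Or.inl (one_dvd _), by simp⟩
    · exact ⟨x, Or.inr hx, y, Or.inr hy, rfl⟩
    · exact ⟨y, Or.inl hy, x, Or.inr hx, Nat.lcm_comm x y⟩
    · exact ⟨y, Or.inr hy, x, Or.inr hx, Nat.lcm_comm x y⟩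
    · exact ⟨1, Or.inl (one_dvd _), Nat.lcm x y, Or.inr (Nat.lcm_dvd hx hy), by simp⟩


/-- Let q ≥ 4 be a prime power and L = PSL(2,q). There is a finite solvable group with the same set of element orders as L × L (so L × L is not determined by its spectrum). -/
theorem result {F : Type*} [Field F] [Fintype F] (hF : 4 ≤ Fintype.card F) :
    ∃ (H : Type) (_ : Group H) (_ : Finite H), Group.IsSolvable H ∧
      Set.range (orderOf : H → ℕ) = Set.range (orderOf : Matrix.ProjectiveSpecialLinearGroup (Fin 2) F × Matrix.ProjectiveSpecialLinearGroup (Fin 2) F → ℕ) := by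
  obtain ⟨p, hp⟩ := CharP.exists F
  haveI : Fact p.Prime := ⟨CharP.char_is_prime F p⟩
  obtain ⟨n, -, hn⟩ := FiniteField.card F p
  set q := Fintype.card F with hq
  set d := Nat.gcd 2 (q - 1) with hd
  have hd0 : d ≠ 0 := by
    rw [hd]; exact Nat.gcd_ne_zero_left (by norm_num)
  have hd1 : d ∣ q - 1 := Nat.gcd_dvd_right _ _
  have hd2 : d ∣ q + 1 := by
    have h2 : d ∣ 2 := Nat.gcd_dvd_left _ _
    have : q + 1 = (q - 1) + 2 := by omega
    rw [this]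
    exact dvd_add hd1 h2
  -- the field with q² elements
  let K := GaloisField p (2 * (n : ℕ))
  have hKcard : Nat.card K = q ^ 2 := by
    rw [GaloisField.card p _ (by positivity), hn, ← pow_mul, mul_comm]
  have hKu : Nat.card Kˣ = q ^ 2 - 1 := by
    rw [Nat.card_units, hKcard]
  obtain ⟨g, hg⟩ := IsCyclic.exists_ofOrder_eq_natCard (α := Kˣ)
  rw [hKu] at hg
  have hq2 : q ^ 2 - 1 = (q - 1) * (q + 1) := by
    obtain ⟨j, hj⟩ : ∃ j, q = j + 1 := ⟨q - 1, by omega⟩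
    rw [hj]; simp only [Nat.add_sub_cancel]; ring_nf; omega
  have hg0 : orderOf g ≠ 0 := by
    rw [hg, hq2]
    have : 0 < q - 1 := by omega
    positivity
  have hm1 : (q - 1) / d ∣ orderOf g := by
    rw [hg, hq2]
    exact (Nat.div_dvd_of_dvd hd1).trans (Dvd.intro _ rfl)
  have hm2 : (q + 1) / d ∣ orderOf g := by
    rw [hg, hq2]
    exact (Nat.div_dvd_of_dvd hd2).trans (Dvd.intro_left _ rfl)
  obtain ⟨a₁, ha₁⟩ := Cfsg.Agent.S2475.exists_orderOf_of_dvd g hg0 _ hm1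
  obtain ⟨a₂, ha₂⟩ := Cfsg.Agent.S2475.exists_orderOf_of_dvd g hg0 _ hm2
  have hm10 : (q - 1) / d ≠ 0 := by
    intro h
    rw [h] at hm1
    exact hg0 (zero_dvd_iff.mp hm1)
  have hm20 : (q + 1) / d ≠ 0 := by
    intro h
    rw [h] at hm2
    exact hg0 (zero_dvd_iff.mp hm2)
  refine ⟨Aff.sub a₁ × Aff.sub a₂, inferInstance, inferInstance, inferInstance, ?_⟩
  have h1 := Aff.range_orderOf_sub p a₁ (by rw [ha₁]; exact hm10)
  have h2 := Aff.range_orderOf_sub p a₂ (by rw [ha₂]; exact hm20)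
  rw [ha₁] at h1
  rw [ha₂] at h2
  have hL := Cfsg.Agent.S2475.result (F := F) p hF
  rw [range_orderOf_prod _ _ h1 h2, range_orderOf_prod _ _ hL hL, set_eq]

end Cfsg.Agent.S3532
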