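import Mathlib
import Cfsg.Statements.S3547
import Cfsg.Agent.Lib.Helper1.DerangementRank

set_option autoImplicit false
open Cfsg

namespace Cfsg.Agent.S3547

open MulAction Cfsg.Agent.Lib.Helper1

theorem result {G Ω : Type*} [Group G] [Finite G] [MulAction G Ω] [FaithfulSMul G Ω] [Finite Ω]
    (htrans : MulAction.IsPretransitive G Ω) :
    Nat.card (MulAction.orbitRel.Quotient ↥(Subgroup.closure {g : G | ∀ ω : Ω, g • ω ≠ ω}) (Ω × Ω)) - 1 =
      (Nat.card (MulAction.orbitRel.Quotient G (Ω × Ω)) - 1) * (Subgroup.closure {g : G | ∀ ω : Ω, g • ω ≠ ω}).index := by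
  rcases isEmpty_or_nonempty Ω with hΩ | hΩ
  · have h1 : IsEmpty (orbitRel.Quotient ↥(Subgroup.closure {g : G | ∀ ω : Ω, g • ω ≠ ω}) (Ω × Ω)) :=
      ⟨fun q => Quotient.inductionOn' q (fun x => hΩ.false x.1)⟩
    have h2 : IsEmpty (orbitRel.Quotient G (Ω × Ω)) :=
      ⟨fun q => Quotient.inductionOn' q (fun x => hΩ.false x.1)⟩
    simp [Nat.card_of_isEmpty]
  · have key := rank_identity (G := G) (Ω := Ω) htrans
    change Nat.card (orbitRel.Quotient (derSub G Ω) (Ω × Ω)) - 1 =
      (Nat.card (orbitRel.Quotient G (Ω × Ω)) - 1) * (derSub G Ω).index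
    have hidx := Subgroup.card_mul_index (derSub G Ω)
    have hDpos : 0 < Nat.card (derSub G Ω) := Nat.card_pos
    set d := Nat.card (derSub G Ω)
    set m := (derSub G Ω).index
    set rG := Nat.card (orbitRel.Quotient G (Ω × Ω))
    set rD := Nat.card (orbitRel.Quotient (derSub G Ω) (Ω × Ω))
    have key2 : rG * m + 1 = rD + m := by
      have : d * (rG * m + 1) = d * (rD + m) := by
        calc d * (rG * m + 1) = rG * (d * m) + d := by ring
          _ = rG * Nat.card G + d := by rw [hidx]
          _ = rD * d + Nat.card G := key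
          _ = rD * d + d * m := by rw [hidx]
          _ = d * (rD + m) := by ring
      exact Nat.eq_of_mul_eq_mul_left hDpos this
    rcases Nat.eq_zero_or_pos rG with h0 | hpos
    · rw [h0] at key2 ⊢
      rw [zero_mul, zero_add] at key2
      have : rD ≤ 1 := by omega
      simp only [Nat.zero_sub, zero_mul]
      omega
    · obtain ⟨t, ht⟩ : ∃ t, rG = t + 1 := ⟨rG - 1, by omega⟩
      rw [ht] at key2 ⊢
      have : t * m + 1 = rD := by
        have e : (t + 1) * m = t * m + m := by ring
        rw [e] at key2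
        omega
      rw [← this]
      simp

end Cfsg.Agent.S3547
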