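import Mathlib
import Cfsg.Statements.S3548
import Cfsg.Agent.Lib.Helper1.DerangementIndex

set_option autoImplicit false
open Cfsg

namespace Cfsg.Agent.S3548

open MulAction Cfsg.Agent.Lib.Helper1

theorem card_eq_sum_orbits (H Ω : Type*) [Group H] [MulAction H Ω] [Finite Ω]
    [Fintype (orbitRel.Quotient H Ω)] :
    Nat.card Ω = ∑ q : orbitRel.Quotient H Ω, Nat.card (orbit H q.out) := by
  rw [Nat.card_congr (selfEquivSigmaOrbits H Ω), Nat.card_sigma]

theorem orbit_stabilizer_self {G Ω : Type*} [Group G] [MulAction G Ω] (ω : Ω) :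
    orbit (stabilizer G ω) ω = {ω} := by
  ext y
  constructor
  · rintro ⟨h, rfl⟩
    exact h.2
  · rintro rfl
    exact mem_orbit_self _

theorem orbit_subset_compl {G Ω : Type*} [Group G] [MulAction G Ω] (ω x : Ω) (hne : x ≠ ω) :
    orbit (stabilizer G ω) x ⊆ {y | y ≠ ω} := by
  rintro _ ⟨h, rfl⟩ heq
  apply hne
  have h1 : (h : G) • x = ω := heq
  have h2 : (h : G) • ω = ω := h.2
  have : (h : G) • x = (h : G) • ω := by rw [h1, h2]
  exact smul_left_cancel _ this

theorem part1 {G Ω : Type*} [Group G] [Finite G] [MulAction G Ω] [Finite Ω] [Nonempty Ω]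
    (htrans : IsPretransitive G Ω) : (derSub G Ω).index ∣ Nat.card Ω - 1 := by
  classical
  obtain ⟨ω⟩ := ‹Nonempty Ω›
  have : Nonempty Ω := ⟨ω⟩
  have : Fintype (orbitRel.Quotient (stabilizer G ω) Ω) := Fintype.ofFinite _
  have hsum := card_eq_sum_orbits (stabilizer G ω) Ω
  set q0 : orbitRel.Quotient (stabilizer G ω) Ω := Quotient.mk'' ω with hq0
  rw [← Finset.add_sum_erase Finset.univ _ (Finset.mem_univ q0)] at hsum
  have hq0out : q0.out = ω := by
    have h1 : (Quotient.mk'' q0.out : orbitRel.Quotient (stabilizer G ω) Ω) = Quotient.mk'' ω :=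
      Quotient.out_eq' q0
    have h2 : q0.out ∈ orbit (stabilizer G ω) ω := by
      rw [← orbitRel_apply]
      exact Quotient.exact' h1
    rw [orbit_stabilizer_self] at h2
    exact h2
  have hc0 : Nat.card (orbit (stabilizer G ω) q0.out) = 1 := by
    rw [hq0out, orbit_stabilizer_self]
    simp
  rw [hc0] at hsum
  have hdvd : (derSub G Ω).index ∣
      ∑ q ∈ Finset.univ.erase q0, Nat.card (orbit (stabilizer G ω) q.out) := by
    apply Finset.dvd_sum
    intro q hq
    have hqne : q ≠ q0 := (Finset.mem_erase.mp hq).1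
    apply derSub_index_dvd_orbit htrans ω q.out
    intro he
    apply hqne
    rw [hq0]
    have := Quotient.out_eq' q
    rw [he] at this
    exact this.symm
  rw [hsum]
  simpa using hdvd

theorem part2 {G Ω : Type*} [Group G] [Finite G] [MulAction G Ω] [FaithfulSMul G Ω] [Finite Ω]
    (htrans : IsPretransitive G Ω) (hΩ : 2 ≤ Nat.card Ω)
    (hm : (derSub G Ω).index = Nat.card Ω - 1) : IsPrimePow (Nat.card Ω) := by
  classical
  have hne : Nonempty Ω := by
    rcases isEmpty_or_nonempty Ω with h | h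
    · rw [Nat.card_of_isEmpty] at hΩ; omega
    · exact h
  obtain ⟨ω⟩ := hne
  have : Nonempty Ω := ⟨ω⟩
  have hmain := derSub_main (G := G) (Ω := Ω) htrans
  have hDtrans : IsPretransitive (derSub G Ω) Ω := by
    rw [pretransitive_iff_subsingleton_quotient]
    exact (Finite.card_le_one_iff_subsingleton).mp (le_of_eq hmain.1)
  set D := derSub G Ω with hD
  set H := stabilizer G ω with hH
  have hcompl : Set.ncard {y : Ω | y ≠ ω} = Nat.card Ω - 1 := by
    have : {y : Ω | y ≠ ω} = ({ω} : Set Ω)ᶜ := by ext; simp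
    rw [this, Set.ncard_compl, Set.ncard_singleton]
  -- every orbit of H off ω is the whole complement
  have horb : ∀ x : Ω, x ≠ ω → orbit H x = {y | y ≠ ω} := by
    intro x hx
    apply Set.eq_of_subset_of_ncard_le (orbit_subset_compl ω x hx) _ (Set.toFinite _)
    have hd := derSub_index_dvd_orbit htrans ω x hx
    rw [hm] at hd
    rw [hcompl, ← Nat.card_coe_set_eq]
    have hpos : 0 < Nat.card (orbit H x) := by
      have : Nonempty (orbit H x) := ⟨⟨x, mem_orbit_self x⟩⟩
      exact Nat.card_pos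
    exact Nat.le_of_dvd hpos hd
  -- D ∩ H is trivial
  have hDH : ∀ g : G, g ∈ D → g • ω = ω → g = 1 := by
    intro g hgD hgω
    apply FaithfulSMul.eq_of_smul_eq_smul (α := Ω)
    intro x
    rw [one_smul]
    by_cases hx : x = ω
    · rw [hx, hgω]
    · -- stabilizer H x has the same index as D.subgroupOf H
      have hidx1 : (stabilizer H x).index = Nat.card Ω - 1 := by
        rw [index_stabilizer, horb x hx, hcompl]
      have hidx2 : (D.subgroupOf H).index = Nat.card Ω - 1 := by
        have := derSub_index_eq_relIndex htrans ω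
        rw [← hm, ← this]; rfl
      have hle : stabilizer H x ≤ D.subgroupOf H := by
        intro h hh
        rw [Subgroup.mem_subgroupOf]
        exact mem_derSub_of_two_fixed htrans (h : G) ω x hx h.2 hh
      have hrel := Subgroup.relIndex_mul_index hle
      rw [hidx1, hidx2] at hrel
      have hpos : 0 < Nat.card Ω - 1 := by omega
      have hrel1 : (stabilizer H x).relIndex (D.subgroupOf H) = 1 := by
        have : (stabilizer H x).relIndex (D.subgroupOf H) * (Nat.card Ω - 1) =
            1 * (Nat.card Ω - 1) := by rw [hrel, one_mul]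
        exact Nat.eq_of_mul_eq_mul_right hpos this
      have hge := Subgroup.relIndex_eq_one.mp hrel1
      have hmem : (⟨g, hgω⟩ : H) ∈ D.subgroupOf H := by
        rw [Subgroup.mem_subgroupOf]; exact hgD
      exact hge hmem
  -- all non-identity elements of D have the same order
  have hconj : ∀ d₁ d₂ : G, d₁ ∈ D → d₂ ∈ D → d₁ ≠ 1 → d₂ ≠ 1 → orderOf d₁ = orderOf d₂ := by
    intro d₁ d₂ h₁ h₂ hn₁ hn₂
    have hω₁ : d₁ • ω ≠ ω := fun h => hn₁ (hDH d₁ h₁ h)
    have hω₂ : d₂ • ω ≠ ω := fun h => hn₂ (hDH d₂ h₂ h)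
    have : d₂ • ω ∈ orbit H (d₁ • ω) := by
      rw [horb _ hω₁]; exact hω₂
    obtain ⟨h, hh⟩ := this
    have hh' : (h : G) • d₁ • ω = d₂ • ω := hh
    have hinv : (h : G)⁻¹ • ω = ω := by
      have := h.2
      rw [mem_stabilizer_iff] at this
      rw [inv_smul_eq_iff, this]
    have hfix : (d₂⁻¹ * ((h : G) * d₁ * (h : G)⁻¹)) • ω = ω := by
      rw [mul_smul, mul_smul, mul_smul, hinv, hh', inv_smul_smul]
    have hDn := derSub_normal G Ω
    have hmemD : d₂⁻¹ * ((h : G) * d₁ * (h : G)⁻¹) ∈ D :=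
      mul_mem (inv_mem h₂) (hDn.conj_mem d₁ h₁ h)
    have h1 := hDH _ hmemD hfix
    have heq : (h : G) * d₁ * (h : G)⁻¹ = d₂ := by
      have : d₂ * (d₂⁻¹ * ((h : G) * d₁ * (h : G)⁻¹)) = d₂ * 1 := by rw [h1]
      simpa using this
    rw [← heq]
    have := MulEquiv.orderOf_eq (MulAut.conj (h : G)) d₁
    simpa [MulAut.conj_apply] using this.symm
  -- |D| = |Ω|
  have hcardD : Nat.card D = Nat.card Ω := by
    have h1 : stabilizer D ω = ⊥ := by
      rw [eq_bot_iff]
      intro d hd
      rw [Subgroup.mem_bot]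
      apply Subtype.ext
      exact hDH (d : G) d.2 hd
    have h2 := index_stabilizer_of_transitive (G := D) (X := Ω) (x := ω)
    rw [h1, Subgroup.index_bot] at h2
    exact h2
  -- D is a p-group
  have hD2 : Nat.card D ≠ 1 := by omega
  obtain ⟨p, hp, hpd⟩ := Nat.exists_prime_and_dvd hD2
  have : Fact p.Prime := ⟨hp⟩
  obtain ⟨x, hx⟩ := exists_prime_orderOf_dvd_card' p hpd
  have hx1 : x ≠ 1 := by
    intro h; rw [h, orderOf_one] at hx; exact hp.one_lt.ne hx
  have hxG : orderOf (x : G) = p := by rw [Subgroup.orderOf_coe, hx]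
  have hpg : IsPGroup p D := by
    intro d
    by_cases hd : d = 1
    · exact ⟨0, by simp [hd]⟩
    · refine ⟨1, ?_⟩
      have h1 : (d : G) ≠ 1 := fun h => hd (Subtype.ext h)
      have h2 : (x : G) ≠ 1 := fun h => hx1 (Subtype.ext h)
      have := hconj (d : G) (x : G) d.2 x.2 h1 h2
      rw [hxG, Subgroup.orderOf_coe] at this
      rw [pow_one, ← this]
      exact pow_orderOf_eq_one d
  obtain ⟨k, hk⟩ := hpg.exists_card_eq
  rw [hcardD] at hk
  refine ⟨p, k, hp.prime, ?_, hk.symm⟩
  rcases Nat.eq_zero_or_pos k with h0 | h0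
  · rw [h0, pow_zero] at hk; omega
  · exact h0

theorem result {G Ω : Type*} [Group G] [Finite G] [MulAction G Ω] [FaithfulSMul G Ω] [Finite Ω]
    (htrans : MulAction.IsPretransitive G Ω) (hΩ : 2 ≤ Nat.card Ω) :
    (Subgroup.closure {g : G | ∀ ω : Ω, g • ω ≠ ω}).index ∣ Nat.card Ω - 1 ∧
    ((Subgroup.closure {g : G | ∀ ω : Ω, g • ω ≠ ω}).index = Nat.card Ω - 1 → IsPrimePow (Nat.card Ω)) := by
  have hne : Nonempty Ω := by
    rcases isEmpty_or_nonempty Ω with h | h
    · rw [Nat.card_of_isEmpty] at hΩ; omega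
    · exact h
  exact ⟨part1 htrans, fun h => part2 htrans hΩ h⟩

end Cfsg.Agent.S3548
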