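import Mathlib
import Cfsg.Statements.S3549
import Cfsg.Agent.S3548

set_option autoImplicit false
open Cfsg

namespace Cfsg.Agent.S3549

open MulAction Cfsg.Agent.Lib.Helper1
open scoped Pointwise

/-- An `H`-invariant finite set avoiding `ω` has size divisible by the index of the derangement
subgroup. -/
theorem dvd_ncard_of_invariant {G Ω : Type*} [Group G] [Finite G] [MulAction G Ω] [Finite Ω]
    [Nonempty Ω] (htrans : IsPretransitive G Ω) (ω : Ω) :
    ∀ (n : ℕ) (T : Set Ω), T.ncard = n → ω ∉ T →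
      (∀ h ∈ stabilizer G ω, ∀ x ∈ T, h • x ∈ T) → (derSub G Ω).index ∣ T.ncard := by
  intro n
  induction n using Nat.strong_induction_on with
  | _ n ih =>
    intro T hn hω hinv
    rcases Set.eq_empty_or_nonempty T with rfl | ⟨x, hx⟩
    · simp
    · have hxω : x ≠ ω := fun h => hω (h ▸ hx)
      have hsub : orbit (stabilizer G ω) x ⊆ T := by
        rintro _ ⟨h, rfl⟩
        exact hinv (h : G) h.2 x hx
      have hd := derSub_index_dvd_orbit htrans ω x hxω
      rw [Nat.card_coe_set_eq] at hd
      have hsplit := Set.ncard_sdiff_add_ncard_of_subset hsub (Set.toFinite T)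
      have hpos : 0 < (orbit (stabilizer G ω) x).ncard := by
        rw [Set.ncard_pos (Set.toFinite _)]
        exact ⟨x, mem_orbit_self x⟩
      have hlt : (T \ orbit (stabilizer G ω) x).ncard < n := by omega
      have h2 := ih _ hlt (T \ orbit (stabilizer G ω) x) rfl (fun h => hω h.1) (by
        intro h hh y hy
        refine ⟨hinv h hh y hy.1, ?_⟩
        intro hmem
        apply hy.2
        obtain ⟨k, hk⟩ := hmem
        refine ⟨(⟨h, hh⟩ : stabilizer G ω)⁻¹ * k, ?_⟩
        have hk' : (k : G) • x = h • y := hk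
        change ((h⁻¹ * (k : G)) • x) = y
        rw [mul_smul, hk', inv_smul_smul])
      rw [← hsplit]
      exact dvd_add h2 hd

/-- Arithmetic core. -/
theorem arith (m k t n : ℕ) (hk : 2 ≤ k) (ht : 2 ≤ t) (hn : k * t = n)
    (h1 : m ∣ k - 1) (h2 : m ∣ n - 1) : (m + 1) * (m + 1) ≤ n := by
  have hmk : m ≤ k - 1 := Nat.le_of_dvd (by omega) h1
  have hcop : Nat.Coprime m k := by
    have : Nat.Coprime (k - 1) k := by
      have h := (Nat.coprime_self_sub_right (n := k) (m := 1) (by omega)).mpr (Nat.coprime_one_right k)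
      exact h.symm
    exact Nat.Coprime.coprime_dvd_left h1 this
  have h3 : n - 1 = k * (t - 1) + (k - 1) := by
    rw [← hn]
    obtain ⟨t', rfl⟩ : ∃ t', t = t' + 1 := ⟨t - 1, by omega⟩
    have : 1 ≤ k := by omega
    rw [Nat.add_sub_cancel, mul_add, mul_one]
    omega
  rw [h3] at h2
  have h4 : m ∣ k * (t - 1) := (Nat.dvd_add_left h1).mp h2
  have h5 : m ∣ t - 1 := hcop.dvd_of_dvd_mul_left h4
  have hmt : m ≤ t - 1 := Nat.le_of_dvd (by omega) h5
  rw [← hn]
  exact Nat.mul_le_mul (by omega) (by omega)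

theorem result {G Ω : Type*} [Group G] [Finite G] [MulAction G Ω] [FaithfulSMul G Ω] [Finite Ω]
    (htrans : MulAction.IsPretransitive G Ω) (himp : ¬ MulAction.IsPreprimitive G Ω) :
    ((Subgroup.closure {g : G | ∀ ω : Ω, g • ω ≠ ω}).index : ℝ) ≤ Real.sqrt (Nat.card Ω) - 1 := by
  classical
  -- get a nontrivial block
  have hex : ∃ B : Set Ω, IsBlock G B ∧ ¬ IsTrivialBlock B := by
    by_contra hcon
    push Not at hcon
    exact himp ⟨fun {B} hB => hcon B hB⟩
  obtain ⟨B, hB, hBnt⟩ := hex
  unfold IsTrivialBlock at hBnt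
  push Not at hBnt
  obtain ⟨hBns, hBuniv⟩ := hBnt
  obtain ⟨ω, hωB⟩ := hBns.nonempty
  have : Nonempty Ω := ⟨ω⟩
  set m := (derSub G Ω).index with hm
  have hkey : (m + 1) * (m + 1) ≤ Nat.card Ω := by
    apply arith m B.ncard (orbit G B).ncard (Nat.card Ω)
    · exact Set.one_lt_ncard_iff_nontrivial.mpr hBns
    · -- at least two translates
      by_contra hlt
      push Not at hlt
      have h1 := hB.ncard_block_mul_ncard_orbit_eq ⟨ω, hωB⟩
      have hpos : 0 < (orbit G B).ncard := by
        rw [Set.ncard_pos (Set.toFinite _)]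
        exact ⟨B, mem_orbit_self B⟩
      have h1' : (orbit G B).ncard = 1 := by omega
      rw [h1', mul_one, ← Set.ncard_univ] at h1
      exact hBuniv (Set.eq_of_subset_of_ncard_le (Set.subset_univ B) h1.ge (Set.toFinite _))
    · exact hB.ncard_block_mul_ncard_orbit_eq ⟨ω, hωB⟩
    · have h := dvd_ncard_of_invariant htrans ω _ (B \ {ω}) rfl (fun h => h.2 rfl) (by
        intro h hh y hy
        have hhB : h • B = B := hB.stabilizer_le hωB hh
        refine ⟨?_, ?_⟩
        · rw [← hhB]; exact Set.smul_mem_smul_set hy.1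
        · intro he
          apply hy.2
          have he' : h • y = ω := he
          have hω' : h • ω = ω := hh
          rw [← hω'] at he'
          exact smul_left_cancel _ he')
      rw [Set.ncard_sdiff_singleton_of_mem hωB] at h
      exact h
    · exact Cfsg.Agent.S3548.part1 htrans
  change ((m : ℝ)) ≤ _
  have h1 : ((m : ℝ) + 1) ≤ Real.sqrt (Nat.card Ω) := by
    apply Real.le_sqrt_of_sq_le
    have : (((m + 1) * (m + 1) : ℕ) : ℝ) ≤ (Nat.card Ω : ℝ) := by exact_mod_cast hkey
    push_cast at this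
    nlinarith [this]
  linarith

end Cfsg.Agent.S3549
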