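import Cfsg.Statements.S3554

set_option autoImplicit false
open Cfsg

namespace Cfsg.Agent.S3554

/-- Let G act faithfully and transitively on a finite set and suppose G has a non-trivial cyclic normal subgroup. Then some element of G of prime order fixes no point. -/
theorem result {G Ω : Type*} [Group G] [Finite G] [MulAction G Ω] [FaithfulSMul G Ω] [Finite Ω]
    (htrans : MulAction.IsPretransitive G Ω) (C : Subgroup G) (hC : C.Normal) (hC1 : C ≠ ⊥) (hcyc : IsCyclic ↥C) :
    ∃ g : G, (orderOf g).Prime ∧ ∀ ω : Ω, g • ω ≠ ω := by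
  classical
  have hcard : Nat.card C ≠ 1 := fun h => hC1 (Subgroup.eq_bot_of_card_eq C h)
  obtain ⟨p, hp, hpd⟩ := Nat.exists_prime_and_dvd hcard
  haveI := Fact.mk hp
  obtain ⟨c, hc⟩ := exists_prime_orderOf_dvd_card' (G := C) p hpd
  haveI : Fintype C := Fintype.ofFinite C
  -- every element of `C` with `x ^ p = 1` is a power of `c`
  have hpow : ∀ x : C, x ^ p = 1 → x ∈ Subgroup.zpowers c := by
    intro x hx
    have h1 : (Finset.univ.filter fun a : C => a ^ p = 1).card ≤ p :=
      IsCyclic.card_pow_eq_one_le hp.pos
    have h2 : ((Subgroup.zpowers c : Set C).toFinset) ⊆ (Finset.univ.filter fun a : C => a ^ p = 1) := by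
      intro y hy
      rw [Set.mem_toFinset] at hy
      obtain ⟨k, rfl⟩ := hy
      simp only [Finset.mem_filter, Finset.mem_univ, true_and]
      rw [← zpow_natCast, ← zpow_mul, mul_comm, zpow_mul, zpow_natCast, ← hc, pow_orderOf_eq_one, one_zpow]
    have h3 : ((Subgroup.zpowers c : Set C).toFinset).card = p := by
      rw [Set.toFinset_card, ← hc]
      exact Fintype.card_zpowers
    have h4 : ((Subgroup.zpowers c : Set C).toFinset) = (Finset.univ.filter fun a : C => a ^ p = 1) :=
      Finset.eq_of_subset_of_card_le h2 (by rw [h3]; exact h1)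
    have : x ∈ (Finset.univ.filter fun a : C => a ^ p = 1) := by simp [hx]
    rw [← h4, Set.mem_toFinset] at this
    exact this
  refine ⟨(c : G), ?_, ?_⟩
  · rw [Subgroup.orderOf_coe, hc]; exact hp
  · intro ω hω
    -- `c` fixes every point
    have hall : ∀ ω' : Ω, (c : G) • ω' = ω' := by
      intro ω'
      obtain ⟨g, rfl⟩ := MulAction.exists_smul_eq G ω ω'
      have hmem : g⁻¹ * (c : G) * g ∈ C := by
        have := hC.conj_mem (c : G) c.2 g⁻¹
        simpa using this
      have hx : (⟨g⁻¹ * (c : G) * g, hmem⟩ : C) ^ p = 1 := by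
        apply Subtype.ext
        simp only [Subgroup.coe_pow, Subgroup.coe_one]
        have : (g⁻¹ * (c : G) * g) ^ p = g⁻¹ * (c : G) ^ p * g := by
          have := conj_pow (a := g⁻¹) (b := (c : G)) (i := p)
          simpa using this
        rw [this]
        have hcp : (c : G) ^ p = 1 := by
          rw [← hc, ← Subgroup.orderOf_coe]; exact pow_orderOf_eq_one _
        rw [hcp]; simp
      obtain ⟨k, hk⟩ := hpow _ hx
      have hfixk : ∀ k : ℤ, ((c : G) ^ k) • ω = ω := by
        intro k
        have : (c : G) ∈ MulAction.stabilizer G ω := hω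
        exact (MulAction.stabilizer G ω).zpow_mem this k
      have h5 : (g⁻¹ * (c : G) * g) • ω = ω := by
        have : g⁻¹ * (c : G) * g = (c : G) ^ k := by
          have := congrArg (fun y : C => (y : G)) hk
          simpa using this.symm
        rw [this]; exact hfixk k
      calc (c : G) • g • ω = g • (g⁻¹ * (c : G) * g) • ω := by
            simp [mul_smul]
        _ = g • ω := by rw [h5]
    have hone : (c : G) = 1 := by
      apply eq_of_smul_eq_smul (α := Ω)
      intro a
      rw [hall a, one_smul]
    have : orderOf (c : G) = 1 := by rw [hone]; exact orderOf_one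
    rw [Subgroup.orderOf_coe, hc] at this
    exact hp.one_lt.ne' this

end Cfsg.Agent.S3554
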