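import Cfsg.Statements.S3555
import Cfsg.Agent.Lib.Helper24.DerangeCount
import Cfsg.Agent.S0035

set_option autoImplicit false
open Cfsg
open scoped Pointwise

namespace Cfsg.Agent.S3555

/-- Let G act faithfully and transitively on a finite set and suppose every element of G fixing no point is an involution. Then either G is an elementary abelian 2-group, or G is a Frobenius group whose Frobenius kernel is an elementary abelian 2-group: G has a Frobenius complement H, and the elements lying in no conjugate of H, together with the identity, pairwise commute and square to the identity. -/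
theorem result {G Ω : Type*} [Group G] [Finite G] [MulAction G Ω] [FaithfulSMul G Ω] [Finite Ω]
    (htrans : MulAction.IsPretransitive G Ω) (hinv : ∀ g : G, (∀ ω : Ω, g • ω ≠ ω) → orderOf g = 2) :
    (IsMulCommutative G ∧ ∀ g : G, g ^ 2 = 1) ∨
    (∃ H : Subgroup G, Cfsg.IsFrobeniusComplement H ∧
      (∀ x ∈ Cfsg.frobeniusKernel H, x ^ 2 = 1) ∧
      ∀ x ∈ Cfsg.frobeniusKernel H, ∀ y ∈ Cfsg.frobeniusKernel H, x * y = y * x) := by
  classical
  haveI : Fintype G := Fintype.ofFinite G
  haveI : Fintype Ω := Fintype.ofFinite Ω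
  have hsq : ∀ g : G, (∀ ω : Ω, g • ω ≠ ω) → g * g = 1 := by
    intro g hg
    have := hinv g hg
    rw [← pow_two, ← this]
    exact pow_orderOf_eq_one g
  have hfaith : ∀ g : G, (∀ ω : Ω, g • ω = ω) → g = 1 := by
    intro g hg
    apply FaithfulSMul.eq_of_smul_eq_smul (α := Ω)
    intro ω
    rw [hg ω, one_smul]
  have hcomm3 : ∀ x y : G, x ^ 2 = 1 → y ^ 2 = 1 → (x * y) ^ 2 = 1 → x * y = y * x := by
    intro x y hx hy hxy
    have h1 : x⁻¹ = x := by rw [inv_eq_iff_mul_eq_one, ← pow_two]; exact hx
    have h2 : y⁻¹ = y := by rw [inv_eq_iff_mul_eq_one, ← pow_two]; exact hy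
    have h3 : (x * y)⁻¹ = x * y := by rw [inv_eq_iff_mul_eq_one, ← pow_two]; exact hxy
    rw [mul_inv_rev, h1, h2] at h3
    exact h3.symm
  rcases isEmpty_or_nonempty Ω with hE | hNE
  · left
    have h1 : ∀ g : G, g = 1 := fun g => hfaith g (fun ω => (hE.false ω).elim)
    refine ⟨⟨⟨fun a b => ?_⟩⟩, fun g => ?_⟩
    · rw [h1 a, h1 b]
    · rw [h1 g, one_pow]
  obtain ⟨α⟩ := hNE
  haveI : Nonempty Ω := ⟨α⟩
  obtain ⟨H, hHdef⟩ : ∃ H : Subgroup G, H = MulAction.stabilizer G α := ⟨_, rfl⟩
  have hmemH : ∀ g : G, g ∈ H ↔ g • α = α := by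
    intro g; rw [hHdef]; exact MulAction.mem_stabilizer_iff
  -- an element fixing a point is conjugate into H
  have hfixconj : ∀ (x : G) (ω : Ω), x • ω = ω → ∃ g : G, g • α = ω ∧ g⁻¹ * x * g ∈ H := by
    intro x ω hx
    obtain ⟨g, hg⟩ := MulAction.exists_smul_eq G α ω
    refine ⟨g, hg, ?_⟩
    rw [hmemH, mul_smul, mul_smul, hg, hx, ← hg, inv_smul_smul]
  by_cases hH : H = ⊥
  · left
    have hsq' : ∀ g : G, g ^ 2 = 1 := by
      intro g
      by_cases hg1 : g = 1
      · rw [hg1, one_pow]
      · rw [pow_two]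
        apply hsq
        intro ω hω
        obtain ⟨x, -, hx⟩ := hfixconj g ω hω
        rw [hH, Subgroup.mem_bot] at hx
        apply hg1
        have : g = x * (x⁻¹ * g * x) * x⁻¹ := by group
        rw [this, hx]; group
    refine ⟨⟨⟨fun a b => ?_⟩⟩, hsq'⟩
    exact hcomm3 a b (hsq' a) (hsq' b) (hsq' (a * b))
  · right
    have hHtop : H ≠ ⊤ := by
      intro htop
      apply hH
      rw [eq_bot_iff]
      intro g _
      rw [Subgroup.mem_bot]
      apply hfaith
      intro ω
      obtain ⟨x, hx⟩ := MulAction.exists_smul_eq G α ω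
      have h1 : x⁻¹ * g * x ∈ H := htop ▸ Subgroup.mem_top _
      rw [hmemH, mul_smul, mul_smul, hx, inv_smul_eq_iff, hx] at h1
      exact h1
    have hconjmem : ∀ g x : G, x ∈ MulAut.conj g • H ↔ g⁻¹ * x * g ∈ H := by
      intro g x
      rw [Subgroup.mem_pointwise_smul_iff_inv_smul_mem]
      have h2 : (MulAut.conj g)⁻¹ • x = g⁻¹ * x * g := by
        rw [← map_inv, MulAut.smul_def, MulAut.conj_apply, inv_inv]
      rw [h2]
    have hfrob : ∀ g : G, g ∉ H → H ⊓ (MulAut.conj g • H) = ⊥ := by
      intro g hg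
      rw [eq_bot_iff]
      intro x hx
      obtain ⟨hx1, hx2⟩ := Subgroup.mem_inf.mp hx
      rw [hconjmem, hmemH, mul_smul, mul_smul, inv_smul_eq_iff] at hx2
      rw [hmemH] at hx1
      have hne : g • α ≠ α := fun h => hg ((hmemH g).mpr h)
      rw [Subgroup.mem_bot]
      have h2 : 2 ≤ Cfsg.Agent.Lib.Helper24.fixZ (Ω := Ω) x := by
        unfold Cfsg.Agent.Lib.Helper24.fixZ
        have hsub : ({α, g • α} : Finset Ω) ⊆ Finset.univ.filter (fun ω : Ω => x • ω = ω) := by
          intro ω hω
          rw [Finset.mem_insert, Finset.mem_singleton] at hω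
          rw [Finset.mem_filter]
          refine ⟨Finset.mem_univ _, ?_⟩
          rcases hω with h | h
          · rw [h]; exact hx1
          · rw [h]; exact hx2
        have hc : ({α, g • α} : Finset Ω).card = 2 := Finset.card_pair (Ne.symm hne)
        have := Finset.card_le_card hsub
        rw [hc] at this
        exact_mod_cast this
      rcases Cfsg.Agent.Lib.Helper24.fixZ_trichotomy (G := G) (Ω := Ω) hsq x with h | h | h
      · omega
      · omega
      · apply hfaith
        intro ω
        unfold Cfsg.Agent.Lib.Helper24.fixZ at h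
        have h3 : (Finset.univ.filter (fun ω : Ω => x • ω = ω)).card = Fintype.card Ω := by
          exact_mod_cast h
        have h4 : Finset.univ.filter (fun ω : Ω => x • ω = ω) = Finset.univ :=
          (Finset.card_eq_iff_eq_univ _).mp h3
        have : ω ∈ Finset.univ.filter (fun ω : Ω => x • ω = ω) := by
          rw [h4]; exact Finset.mem_univ ω
        exact (Finset.mem_filter.mp this).2
    have hFC : Cfsg.IsFrobeniusComplement H := ⟨hH, hHtop, hfrob⟩
    have hker : ∀ x ∈ Cfsg.frobeniusKernel H, x ^ 2 = 1 := by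
      intro x hx
      rcases hx with h | h
      · rw [h, one_pow]
      · rw [pow_two]
        apply hsq
        intro ω hω
        obtain ⟨g, -, hg⟩ := hfixconj x ω hω
        exact h g ((hconjmem g x).mpr hg)
    refine ⟨H, hFC, hker, ?_⟩
    obtain ⟨N, hN, -, -⟩ := Cfsg.Agent.S0035.result H hFC
    intro x hx y hy
    have hx' : x ∈ N := by
      have : x ∈ (N : Set G) := hN ▸ hx
      exact this
    have hy' : y ∈ N := by
      have : y ∈ (N : Set G) := hN ▸ hy
      exact this
    have hxy : x * y ∈ Cfsg.frobeniusKernel H := by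
      rw [← hN]; exact N.mul_mem hx' hy'
    exact hcomm3 x y (hker x hx) (hker y hy) (hker _ hxy)

end Cfsg.Agent.S3555
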