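import Cfsg.Statements.S3560
import Mathlib

set_option autoImplicit false
open Cfsg

namespace Cfsg.Agent.S3560

open Equiv

section transport

/-- Transport a permutation-group configuration on a finite type to `Fin n`. -/
lemma transport {Ω : Type*} [Fintype Ω] (G' R' : Subgroup (Perm Ω)) (K : Type*) [Group K]
    (hRG : R' ≤ G') (hK : Nonempty (↥R' ≃* K))
    (htr : MulAction.IsPretransitive ↥R' Ω) (hreg : ∀ a : Ω, MulAction.stabilizer ↥R' a = ⊥)
    (hprim : MulAction.IsPreprimitive ↥G' Ω)
    (h2 : ¬ MulAction.IsMultiplyPretransitive ↥G' Ω 2) :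
    ∃ (n : ℕ) (G R : Subgroup (Perm (Fin n))), R ≤ G ∧ Nonempty (↥R ≃* K) ∧
      MulAction.IsPretransitive ↥R (Fin n) ∧ (∀ a : Fin n, MulAction.stabilizer ↥R a = ⊥) ∧
      MulAction.IsPreprimitive ↥G (Fin n) ∧
      ¬ MulAction.IsMultiplyPretransitive ↥G (Fin n) 2 := by
  classical
  set e : Ω ≃ Fin (Fintype.card Ω) := Fintype.equivFin Ω with he
  set ψ : Perm Ω ≃* Perm (Fin (Fintype.card Ω)) := e.permCongrHom with hψ
  have hψa : ∀ (g : Perm Ω) (x : Ω), ψ g (e x) = e (g x) := by
    intro g x
    show e (g (e.symm (e x))) = e (g x)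
    rw [e.symm_apply_apply]
  refine ⟨Fintype.card Ω, G'.map ψ.toMonoidHom, R'.map ψ.toMonoidHom, Subgroup.map_mono hRG,
    ?_, ?_, ?_, ?_, ?_⟩
  · obtain ⟨k⟩ := hK
    exact ⟨(Subgroup.equivMapOfInjective R' ψ.toMonoidHom ψ.injective).symm.trans k⟩
  · constructor
    intro a b
    obtain ⟨r, hr⟩ := htr.exists_smul_eq (e.symm a) (e.symm b)
    refine ⟨⟨ψ r.1, Subgroup.mem_map_of_mem _ r.2⟩, ?_⟩
    show ψ r.1 a = b
    have h1 := hψa r.1 (e.symm a)
    rw [e.apply_symm_apply] at h1
    rw [h1]
    have hr' : r.1 (e.symm a) = e.symm b := hr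
    rw [hr', e.apply_symm_apply]
  · intro a
    rw [Subgroup.eq_bot_iff_forall]
    rintro ⟨k, hk⟩ hka
    obtain ⟨r, hrR, rfl⟩ := Subgroup.mem_map.1 hk
    have h1 : ψ r a = a := hka
    have h2' := hψa r (e.symm a)
    rw [e.apply_symm_apply, h1] at h2'
    have h3 : r (e.symm a) = e.symm a := by
      have := congrArg e.symm h2'
      rw [e.symm_apply_apply] at this
      exact this.symm
    have h4 : (⟨r, hrR⟩ : R') ∈ MulAction.stabilizer ↥R' (e.symm a) := h3
    rw [hreg] at h4
    have h5 : r = 1 := by
      have := congrArg Subtype.val (Subgroup.mem_bot.1 h4)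
      exact this
    subst h5
    apply Subtype.ext
    simp
  · let φ : ↥G' → ↥(G'.map ψ.toMonoidHom) := fun g => ⟨ψ g.1, Subgroup.mem_map_of_mem _ g.2⟩
    let f : Ω →ₑ[φ] Fin (Fintype.card Ω) :=
      { toFun := e, map_smul' := fun g x => (hψa g.1 x).symm }
    exact MulAction.IsPreprimitive.of_surjective (f := f) e.surjective
  · intro h
    apply h2
    rw [MulAction.is_two_pretransitive_iff] at h ⊢
    intro a b c d hab hcd
    obtain ⟨⟨k, hk⟩, hk1, hk2⟩ := h (a := e a) (b := e b) (c := e c) (d := e d)
      (by simpa using hab) (by simpa using hcd)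
    obtain ⟨g, hgG, rfl⟩ := Subgroup.mem_map.1 hk
    refine ⟨⟨g, hgG⟩, ?_, ?_⟩
    · have h1 : ψ g (e a) = e c := hk1
      rw [hψa] at h1
      exact e.injective h1
    · have h1 : ψ g (e b) = e d := hk2
      rw [hψa] at h1
      exact e.injective h1

end transport

section hamming

variable {ι : Type*} [Fintype ι] [DecidableEq ι] {m : ℕ}

/-- The group of Hamming isometries of `ι → Fin m`. -/
def isoGroup (ι : Type*) [Fintype ι] [DecidableEq ι] (m : ℕ) : Subgroup (Perm (ι → Fin m)) where
  carrier := {g | ∀ x y, hammingDist (g x) (g y) = hammingDist x y}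
  mul_mem' := by
    intro a b ha hb x y
    rw [Perm.mul_apply, Perm.mul_apply, ha, hb]
  one_mem' := by
    intro x y
    rfl
  inv_mem' := by
    intro a ha x y
    have := ha (a⁻¹ x) (a⁻¹ y)
    have h : ∀ v, a (a⁻¹ v) = v := fun v => a.apply_symm_apply v
    rw [h, h] at this
    exact this.symm

/-- Coordinatewise permutation. -/
def coordPerm (σ : ι → Perm (Fin m)) : Perm (ι → Fin m) := Equiv.piCongrRight σ

lemma coordPerm_apply (σ : ι → Perm (Fin m)) (x : ι → Fin m) (k : ι) :
    coordPerm σ x k = σ k (x k) := rfl

lemma coordPerm_mem (σ : ι → Perm (Fin m)) : coordPerm σ ∈ isoGroup ι m := by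
  intro x y
  exact hammingDist_comp (fun k => σ k) (fun k => (σ k).injective)

/-- Permutation of the coordinates. -/
def coordSwap (τ : Perm ι) : Perm (ι → Fin m) where
  toFun x := x ∘ τ
  invFun x := x ∘ τ.symm
  left_inv x := by ext k; simp
  right_inv x := by ext k; simp

lemma coordSwap_apply (τ : Perm ι) (x : ι → Fin m) (k : ι) :
    coordSwap τ x k = x (τ k) := rfl

lemma coordSwap_mem (τ : Perm ι) : coordSwap (m := m) τ ∈ isoGroup ι m := by
  intro x y
  show hammingDist (x ∘ τ) (y ∘ τ) = hammingDist x y
  unfold hammingDist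
  exact Finset.card_equiv τ (by intro k; simp)

lemma coordPerm_single (i : ι) (ρ : Perm (Fin m)) (x : ι → Fin m) :
    coordPerm (Function.update (fun _ => (1 : Perm (Fin m))) i ρ) x =
      Function.update x i (ρ (x i)) := by
  ext k
  rw [coordPerm_apply]
  by_cases h : k = i
  · subst h
    simp
  · rw [Function.update_of_ne h, Function.update_of_ne h]
    rfl

lemma block_closed {B : Set (ι → Fin m)} (hB : MulAction.IsBlock (isoGroup ι m) B)
    {g : Perm (ι → Fin m)} (hg : g ∈ isoGroup ι m) {x y : ι → Fin m} (hx : x ∈ B)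
    (hgx : g x ∈ B) (hy : y ∈ B) : g y ∈ B := by
  have h := hB.smul_eq_of_mem (g := (⟨g, hg⟩ : isoGroup ι m)) hx hgx
  rw [← h]
  exact Set.smul_mem_smul_set (a := (⟨g, hg⟩ : isoGroup ι m)) hy

lemma isPreprimitive (hm : 3 ≤ m) :
    MulAction.IsPreprimitive (isoGroup ι m) (ι → Fin m) := by
  have hm0 : 0 < m := by omega
  set z0 : Fin m := ⟨0, hm0⟩ with hz0def
  set a : ι → Fin m := fun _ => z0 with hadef
  haveI : MulAction.IsPretransitive (isoGroup ι m) (ι → Fin m) := by
    constructor
    intro x y
    refine ⟨⟨coordPerm (fun k => Equiv.swap (x k) (y k)), coordPerm_mem _⟩, ?_⟩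
    ext k
    show ((Equiv.swap (x k) (y k)) (x k) : ℕ) = y k
    simp
  apply MulAction.IsPreprimitive.of_isTrivialBlock_base a
  intro B haB hB
  by_cases hsub : B.Subsingleton
  · exact Or.inl hsub
  right
  have hex : ∃ y ∈ B, y ≠ a := by
    by_contra hcon
    push Not at hcon
    apply hsub
    intro u hu v hv
    rw [hcon u hu, hcon v hv]
  obtain ⟨y, hyB, hya⟩ := hex
  obtain ⟨i, hi⟩ : ∃ i, y i ≠ z0 := by
    by_contra hcon
    push Not at hcon
    exact hya (funext hcon)
  obtain ⟨z, hz0, hzy⟩ : ∃ z : Fin m, z ≠ z0 ∧ z ≠ y i := by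
    by_cases h1 : (y i).val = 1
    · refine ⟨⟨2, by omega⟩, ?_, ?_⟩
      · simp [hz0def, Fin.ext_iff]
      · intro h
        rw [← h] at h1
        simp at h1
    · refine ⟨⟨1, by omega⟩, ?_, ?_⟩
      · simp [hz0def, Fin.ext_iff]
      · intro h
        apply h1
        rw [← h]
  have h1 : Function.update y i z ∈ B := by
    have hg := coordPerm_mem (ι := ι)
      (Function.update (fun _ => (1 : Perm (Fin m))) i (Equiv.swap (y i) z))
    have hfix : coordPerm
        (Function.update (fun _ => (1 : Perm (Fin m))) i (Equiv.swap (y i) z)) a ∈ B := by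
      rw [coordPerm_single]
      have : Equiv.swap (y i) z (a i) = a i :=
        Equiv.swap_apply_of_ne_of_ne (Ne.symm hi) (Ne.symm hz0)
      rw [this, Function.update_eq_self]
      exact haB
    have := block_closed hB hg haB hfix hyB
    rwa [coordPerm_single, Equiv.swap_apply_left] at this
  have h2 : Function.update a i z ∈ B := by
    have hg := coordPerm_mem (ι := ι) (fun k => Equiv.swap (y k) z0)
    have hty : coordPerm (fun k => Equiv.swap (y k) z0) y = a := by
      ext k
      simp [coordPerm_apply, hadef]
    have := block_closed hB hg hyB (by rw [hty]; exact haB) h1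
    convert this using 1
    ext k
    rw [coordPerm_apply]
    by_cases hk : k = i
    · subst hk
      simp only [Function.update_self]
      rw [Equiv.swap_apply_of_ne_of_ne hzy hz0]
    · rw [Function.update_of_ne hk, Function.update_of_ne hk]
      simp [hadef]
  have h3 : ∀ j c, Function.update a j c ∈ B := by
    intro j c
    have h3a : Function.update a j z ∈ B := by
      have hg := coordSwap_mem (m := m) (Equiv.swap i j)
      have hsa : coordSwap (Equiv.swap i j) a = a := by
        ext k
        rfl
      have := block_closed hB hg haB (by rw [hsa]; exact haB) h2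
      convert this using 1
      ext k
      rw [coordSwap_apply]
      by_cases hk : k = j
      · subst hk
        simp
      · rw [Function.update_of_ne hk]
        have hne : Equiv.swap i j k ≠ i := by
          intro h
          apply hk
          have := congrArg (Equiv.swap i j) h
          simpa using this
        rw [Function.update_of_ne hne]
    by_cases hc : c = z0
    · subst hc
      have : Function.update a j z0 = a := Function.update_eq_self j a
      rw [this]
      exact haB
    · by_cases hcz : c = z
      · subst hcz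
        exact h3a
      have hg := coordPerm_mem (ι := ι)
        (Function.update (fun _ => (1 : Perm (Fin m))) j (Equiv.swap z c))
      have hfix : coordPerm
          (Function.update (fun _ => (1 : Perm (Fin m))) j (Equiv.swap z c)) a ∈ B := by
        rw [coordPerm_single]
        have : Equiv.swap z c (a j) = a j :=
          Equiv.swap_apply_of_ne_of_ne (Ne.symm hz0) (Ne.symm hc)
        rw [this, Function.update_eq_self]
        exact haB
      have := block_closed hB hg haB hfix h3a
      rw [coordPerm_single] at this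
      simpa using this
  have h4 : ∀ u ∈ B, ∀ j c, Function.update u j c ∈ B := by
    intro u hu j c
    have hg := coordPerm_mem (ι := ι) (fun k => Equiv.swap z0 (u k))
    have hta : coordPerm (fun k => Equiv.swap z0 (u k)) a = u := by
      ext k
      simp [coordPerm_apply, hadef]
    have := block_closed hB hg haB (by rw [hta]; exact hu) (h3 j (Equiv.swap z0 (u j) c))
    convert this using 1
    ext k
    rw [coordPerm_apply]
    by_cases hk : k = j
    · subst hk
      simp
    · rw [Function.update_of_ne hk, Function.update_of_ne hk]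
      simp [hadef]
  apply Set.eq_univ_of_forall
  intro y'
  have h5 : ∀ S : Finset ι, (fun k => if k ∈ S then y' k else a k) ∈ B := by
    intro S
    induction S using Finset.induction_on with
    | empty => simpa using haB
    | insert j S hj ih =>
      have := h4 _ ih j (y' j)
      convert this using 1
      ext k
      by_cases hk : k = j
      · subst hk
        simp
      · simp [hk]
  have := h5 Finset.univ
  simpa using this

lemma not_two (hm : 3 ≤ m) (hr : 2 ≤ Fintype.card ι) :
    ¬ MulAction.IsMultiplyPretransitive (isoGroup ι m) (ι → Fin m) 2 := by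
  intro h
  rw [MulAction.is_two_pretransitive_iff] at h
  obtain ⟨i, j, hij⟩ := Fintype.exists_pair_of_one_lt_card (by omega : 1 < Fintype.card ι)
  set z0 : Fin m := ⟨0, by omega⟩ with hz0def
  set z1 : Fin m := ⟨1, by omega⟩ with hz1def
  have h01 : z0 ≠ z1 := by simp [hz0def, hz1def, Fin.ext_iff]
  set a : ι → Fin m := fun _ => z0 with hadef
  set b : ι → Fin m := Function.update a i z1 with hbdef
  set c : ι → Fin m := Function.update b j z1 with hcdef
  have hbi : b i = z1 := by simp [hbdef]
  have hci : c i = z1 := by
    rw [hcdef, Function.update_of_ne hij]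
    exact hbi
  have hcj : c j = z1 := by simp [hcdef]
  have hab : a ≠ b := by
    intro h
    have := congrFun h i
    rw [hbi] at this
    exact h01 this
  have hac : a ≠ c := by
    intro h
    have := congrFun h j
    rw [hcj] at this
    exact h01 this
  obtain ⟨g, hga, hgb⟩ := h hab hac
  have hiso := g.2 a b
  have e1 : g.1 a = a := hga
  have e2 : g.1 b = c := hgb
  rw [e1, e2] at hiso
  have hd1 : hammingDist a b = 1 := by
    unfold hammingDist
    rw [Finset.card_eq_one]
    refine ⟨i, ?_⟩
    ext k
    simp only [Finset.mem_filter, Finset.mem_univ, true_and, Finset.mem_singleton]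
    constructor
    · intro hk
      by_contra hki
      apply hk
      rw [hbdef, Function.update_of_ne hki]
    · rintro rfl
      rw [hbi]
      exact h01
  have hd2 : hammingDist a c = 2 := by
    unfold hammingDist
    rw [Finset.card_eq_two]
    refine ⟨i, j, hij, ?_⟩
    ext k
    simp only [Finset.mem_filter, Finset.mem_univ, true_and, Finset.mem_insert,
      Finset.mem_singleton]
    constructor
    · intro hk
      by_contra hcon
      push Not at hcon
      apply hk
      rw [hcdef, Function.update_of_ne hcon.2, hbdef, Function.update_of_ne hcon.1]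
    · rintro (rfl | rfl)
      · rw [hci]
        exact h01
      · rw [hcj]
        exact h01
  omega

end hamming

section regular

variable {ι : Type*} [Fintype ι] [DecidableEq ι] {m : ℕ}
variable (F : ι → Type*) [∀ i, Group (F i)] (β : ∀ i, F i ≃ Fin m)

/-- The translation action transported to `ι → Fin m`. -/
def T : (∀ i, F i) →* Perm (ι → Fin m) :=
  (Equiv.piCongrRight β).permCongrHom.toMonoidHom.comp
    (MulAction.toPermHom (∀ i, F i) (∀ i, F i))

lemma T_apply (a : ∀ i, F i) (x : ι → Fin m) (k : ι) :
    T F β a x k = β k (a k * (β k).symm (x k)) := rfl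

lemma T_apply' (a : ∀ i, F i) (x : ι → Fin m) :
    T F β a x = Equiv.piCongrRight β (a * (Equiv.piCongrRight β).symm x) := rfl

lemma T_mem (a : ∀ i, F i) : T F β a ∈ isoGroup ι m := by
  intro x y
  exact hammingDist_comp (fun k v => β k (a k * (β k).symm v))
    (fun k => (β k).injective.comp ((mul_right_injective (a k)).comp (β k).symm.injective))

lemma T_injective : Function.Injective (T F β) := by
  intro a b hab
  have := congrArg (fun g : Perm (ι → Fin m) => g (Equiv.piCongrRight β 1)) hab
  simp only [T_apply', Equiv.symm_apply_apply, mul_one] at this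
  exact (Equiv.piCongrRight β).injective this

end regular

/-- Let K be a finite group isomorphic to a direct product of r ≥ 2 groups all of the same order m ≥ 3. Then K is not a B-group: there is a primitive but not doubly transitive permutation group (on some finite set) containing a regular subgroup isomorphic to K. -/
theorem result {K : Type*} [Group K] [Finite K] {ι : Type*} [Fintype ι] (F : ι → Type*) [∀ i, Group (F i)]
    (hr : 2 ≤ Fintype.card ι) (m : ℕ) (hm : 3 ≤ m) (hcard : ∀ i, Nat.card (F i) = m) (e : K ≃* (∀ i, F i)) :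
    ∃ (n : ℕ) (G R : Subgroup (Equiv.Perm (Fin n))), R ≤ G ∧ Nonempty (↥R ≃* K) ∧
      MulAction.IsPretransitive ↥R (Fin n) ∧ (∀ a : Fin n, MulAction.stabilizer ↥R a = ⊥) ∧
      MulAction.IsPreprimitive ↥G (Fin n) ∧ ¬ MulAction.IsMultiplyPretransitive ↥G (Fin n) 2 := by
  classical
  have hfin : ∀ i, Finite (F i) := fun i =>
    Nat.finite_of_card_ne_zero (by rw [hcard i]; omega)
  let β : ∀ i, F i ≃ Fin m := fun i => Finite.equivFinOfCardEq (hcard i)
  let P := Equiv.piCongrRight β
  refine transport (isoGroup ι m) (T F β).range K ?_ ?_ ?_ ?_ (isPreprimitive hm)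
    (not_two hm hr)
  · rintro _ ⟨a, rfl⟩
    exact T_mem F β a
  · exact ⟨((MonoidHom.ofInjective (T_injective F β)).symm).trans e.symm⟩
  · constructor
    intro x y
    refine ⟨⟨T F β (P.symm y * (P.symm x)⁻¹), ⟨_, rfl⟩⟩, ?_⟩
    show T F β (P.symm y * (P.symm x)⁻¹) x = y
    rw [T_apply']
    show P (P.symm y * (P.symm x)⁻¹ * P.symm x) = y
    rw [inv_mul_cancel_right, P.apply_symm_apply]
  · intro x
    rw [Subgroup.eq_bot_iff_forall]
    rintro ⟨_, ⟨a, rfl⟩⟩ hax
    have h1 : T F β a x = x := hax
    rw [T_apply'] at h1
    have h2 : a * P.symm x = P.symm x := by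
      have := congrArg P.symm h1
      rwa [P.symm_apply_apply] at this
    have h3 : a = 1 := by
      have := mul_right_cancel (h2.trans (one_mul _).symm)
      exact this
    subst h3
    apply Subtype.ext
    simp

end Cfsg.Agent.S3560
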