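import Mathlib
import Cfsg.Statements.S3573

set_option autoImplicit false
open Cfsg

namespace Cfsg.Agent.S3573

open Equiv Equiv.Perm

theorem L1 {n k r : ℕ} (hr : r.Prime) (hkn : k ≤ n) (hmod : k % r ≤ n % r)
    (σ : Perm (Fin n)) (hσ : orderOf σ = r) :
    ∃ s : Finset (Fin n), s.card = k ∧ s.image σ = s := by
  classical
  obtain ⟨c', hc⟩ := cycleType_prime_order (σ := σ) (by rw [hσ]; exact hr)
  rw [hσ] at hc
  set c := c' + 1 with hcdef
  have hsupp : σ.support.card = c * r := by
    rw [← sum_cycleType, hc, Multiset.sum_replicate, smul_eq_mul]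
  have hcn : c * r ≤ n := by
    rw [← hsupp]; simpa using Finset.card_le_univ σ.support
  have hcf : σ.cycleFactorsFinset.card = c := by
    have := congrArg Multiset.card hc
    rw [cycleType_def, Multiset.card_map, Multiset.card_replicate] at this
    exact this
  have hcyc : ∀ τ ∈ σ.cycleFactorsFinset, τ.support.card = r := by
    intro τ hτ
    have : τ.support.card ∈ σ.cycleType := by
      rw [cycleType_def]
      exact Multiset.mem_map.2 ⟨τ, hτ, rfl⟩
    rw [hc] at this
    exact Multiset.eq_of_mem_replicate this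
  set j := min c (k / r) with hj
  obtain ⟨Q, hQs, hQc⟩ := Finset.exists_subset_card_eq (s := σ.cycleFactorsFinset) (n := j)
    (by rw [hcf]; exact min_le_left _ _)
  set T := Q.biUnion (fun τ => τ.support) with hT
  have hTc : T.card = j * r := by
    rw [hT, Finset.card_biUnion]
    · rw [Finset.sum_congr rfl (fun τ hτ => hcyc τ (hQs hτ)), Finset.sum_const, hQc, smul_eq_mul]
    · intro x hx y hy hxy
      exact (cycleFactorsFinset_pairwise_disjoint σ (hQs hx) (hQs hy) hxy).disjoint_support
  have hTs : T ⊆ σ.support := by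
    intro x hx
    rw [hT, Finset.mem_biUnion] at hx
    obtain ⟨τ, hτ, hx⟩ := hx
    exact mem_cycleFactorsFinset_support_le (hQs hτ) hx
  have hTinv : ∀ x ∈ T, σ x ∈ T := by
    intro x hx
    rw [hT, Finset.mem_biUnion] at hx ⊢
    obtain ⟨τ, hτ, hx⟩ := hx
    refine ⟨τ, hτ, ?_⟩
    have := (mem_cycleFactorsFinset_iff.1 (hQs hτ)).2 x hx
    rw [← this]
    exact apply_mem_support.2 hx
  have hjk : j * r ≤ k :=
    le_trans (Nat.mul_le_mul_right r (min_le_right _ _)) (Nat.div_mul_le_self k r)
  have hi : k - j * r ≤ n - c * r := by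
    rcases le_total c (k / r) with hck | hck
    · rw [hj, min_eq_left hck]
      exact Nat.sub_le_sub_right hkn _
    · rw [hj, min_eq_right hck]
      have h1 : (n - c * r) % r = n % r := by
        rw [mul_comm]; exact Nat.sub_mul_mod (by rw [mul_comm]; exact hcn)
      have h2 := Nat.mod_le (n - c * r) r
      have h3 := Nat.mod_add_div k r
      rw [mul_comm] at h3
      omega
  have hcompl : (σ.supportᶜ).card = n - c * r := by
    rw [Finset.card_compl, hsupp, Fintype.card_fin]
  obtain ⟨I, hIs, hIc⟩ := Finset.exists_subset_card_eq (s := σ.supportᶜ) (n := k - j * r)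
    (by rw [hcompl]; exact hi)
  refine ⟨T ∪ I, ?_, ?_⟩
  · rw [Finset.card_union_of_disjoint, hTc, hIc]
    · omega
    · rw [Finset.disjoint_left]
      intro x hxT hxI
      have := hIs hxI
      rw [Finset.mem_compl] at this
      exact this (hTs hxT)
  · apply Finset.eq_of_subset_of_card_le
    · intro y hy
      rw [Finset.mem_image] at hy
      obtain ⟨x, hx, rfl⟩ := hy
      rw [Finset.mem_union] at hx ⊢
      rcases hx with hx | hx
      · left; exact hTinv x hx
      · right
        have := hIs hx
        rw [Finset.mem_compl, notMem_support] at this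
        rw [this]; exact hx
    · rw [Finset.card_image_of_injective _ σ.injective]

theorem L2 {n k r : ℕ} (hr : r.Prime) (hrn : r ≤ n)
    (h : ∀ σ : Perm (Fin n), orderOf σ = r → ∃ s : Finset (Fin n), s.card = k ∧ s.image σ = s) :
    k % r ≤ n % r := by
  classical
  obtain ⟨σ, hσ⟩ := (exists_with_cycleType_iff (Fin n) (m := Multiset.replicate (n / r) r)).2 ⟨by
    rw [Multiset.sum_replicate, smul_eq_mul, Fintype.card_fin]; exact Nat.div_mul_le_self n r, by
    intro a ha; rw [Multiset.eq_of_mem_replicate ha]; exact hr.two_le⟩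
  have hc1 : 1 ≤ n / r := Nat.div_pos hrn hr.pos
  have hord : orderOf σ = r := by
    have hdvd : orderOf σ ∣ r := by
      rw [← lcm_cycleType, hσ]
      apply Multiset.lcm_dvd.2
      intro a ha; rw [Multiset.eq_of_mem_replicate ha]
    rcases (Nat.dvd_prime hr).1 hdvd with h1 | h1
    · exfalso
      rw [orderOf_eq_one_iff] at h1
      rw [h1, cycleType_one] at hσ
      have := congrArg Multiset.card hσ
      simp at this; omega
    · exact h1
  have hsupp : σ.support.card = n / r * r := by
    rw [← sum_cycleType, hσ, Multiset.sum_replicate, smul_eq_mul]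
  have hpow : σ ^ r = 1 := by rw [← hord]; exact pow_orderOf_eq_one σ
  obtain ⟨S, hSk, hSinv⟩ := h σ hord
  have hmem : ∀ x, σ x ∈ S ↔ x ∈ S := by
    intro x
    constructor
    · intro hx
      rw [← hSinv, Finset.mem_image] at hx
      obtain ⟨y, hy, hyx⟩ := hx
      rwa [← σ.injective hyx]
    · intro hx
      rw [← hSinv]
      exact Finset.mem_image_of_mem _ hx
  set A := S.filter (fun x => σ x ≠ x) with hA
  set B := S.filter (fun x => ¬ σ x ≠ x) with hB
  have hAB : A.card + B.card = k := by
    rw [← hSk]; exact Finset.card_filter_add_card_filter_not _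
  have hBle : B.card ≤ n % r := by
    have : B ⊆ σ.supportᶜ := by
      intro x hx
      rw [hB, Finset.mem_filter] at hx
      rw [Finset.mem_compl, mem_support]
      exact hx.2
    have h1 := Finset.card_le_card this
    rw [Finset.card_compl, hsupp, Fintype.card_fin] at h1
    have := Nat.mod_add_div n r
    rw [mul_comm] at this
    omega
  have hAdvd : r ∣ A.card := by
    have hAmem : ∀ x, σ x ∈ A ↔ x ∈ A := by
      intro x
      rw [hA, Finset.mem_filter, Finset.mem_filter, hmem]
      simp
    let f : Perm {x // x ∈ A} := σ.subtypePerm hAmem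
    have hfpow : f ^ r = 1 := by
      ext x
      simp [f, hpow]
    have hfsupp : f.support = Finset.univ := by
      ext x
      simp only [mem_support, Finset.mem_univ, iff_true]
      intro hx
      have h1 : σ x.1 = x.1 := congrArg Subtype.val hx
      have h2 : x.1 ∈ S.filter (fun x => σ x ≠ x) := x.2
      rw [Finset.mem_filter] at h2
      exact h2.2 h1
    have : r ∣ f.cycleType.sum := by
      apply Multiset.dvd_sum
      intro a ha
      have h1 : a ∣ r := (dvd_of_mem_cycleType ha).trans (orderOf_dvd_of_pow_eq_one hfpow)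
      rcases (Nat.dvd_prime hr).1 h1 with h2 | h2
      · have := two_le_of_mem_cycleType ha; omega
      · rw [h2]
    rw [sum_cycleType, hfsupp, Finset.card_univ, Fintype.card_coe] at this
    exact this
  obtain ⟨m, hm⟩ := hAdvd
  have hBlt : B.card < r := lt_of_le_of_lt hBle (Nat.mod_lt _ hr.pos)
  have : k % r = B.card := by
    rw [← hAB, hm, Nat.mul_add_mod, Nat.mod_eq_of_lt hBlt]
  rw [this]; exact hBle

theorem L3 {n k r : ℕ} (hr : r.Prime) (hrd : r ∣ n.choose k)
    (hmod : k % r ≤ n % r) : r ≤ k := by
  by_contra hlt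
  push Not at hlt
  haveI := Fact.mk hr
  have h1 := Choose.choose_modEq_choose_mod_mul_choose_div_nat (n := n) (k := k) (p := r)
  rw [Nat.mod_eq_of_lt hlt, Nat.div_eq_of_lt hlt, Nat.choose_zero_right, mul_one] at h1
  rw [Nat.mod_eq_of_lt hlt] at hmod
  have h2 : r ∣ (n % r).choose k := by
    rw [← Nat.modEq_zero_iff_dvd] at hrd ⊢
    exact h1.symm.trans hrd
  have h3 : (n % r).choose k ∣ (n % r).factorial := by
    rw [← Nat.choose_mul_factorial_mul_factorial hmod, mul_assoc]
    exact dvd_mul_right _ _
  have h4 := (hr.dvd_factorial).1 (h2.trans h3)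
  exact absurd h4 (not_le.2 (Nat.mod_lt _ hr.pos))

/-- Let 1 ≤ k with 2k < n and consider the symmetric group of degree n acting on the k-subsets of an n-set. Let r be a prime dividing the number C(n,k) of k-subsets. If r is odd, then every permutation of order r fixes some k-subset if and only if r ≤ k and the remainder of k modulo r is at most the remainder of n modulo r. If r = 2, then every involution fixes some k-subset if and only if k is even or n is odd. -/
theorem result (n k : ℕ) (hk : 1 ≤ k) (hkn : 2 * k < n) (r : ℕ) (hr : r.Prime) (hrd : r ∣ Nat.choose n k) :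
    (r ≠ 2 → ((∀ σ : Equiv.Perm (Fin n), orderOf σ = r → ∃ s : Finset (Fin n), s.card = k ∧ s.image σ = s) ↔
      (r ≤ k ∧ k % r ≤ n % r))) ∧
    (r = 2 → ((∀ σ : Equiv.Perm (Fin n), orderOf σ = 2 → ∃ s : Finset (Fin n), s.card = k ∧ s.image σ = s) ↔
      (Even k ∨ Odd n))) := by
  have hkn' : k ≤ n := by omega
  have hrn : r ≤ n := by
    have h3 : n.choose k ∣ n.factorial := by
      rw [← Nat.choose_mul_factorial_mul_factorial hkn', mul_assoc]
      exact dvd_mul_right _ _
    exact (hr.dvd_factorial).1 (hrd.trans h3)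
  constructor
  · intro _
    constructor
    · intro h
      have h2 := L2 hr hrn h
      exact ⟨L3 hr hrd h2, h2⟩
    · rintro ⟨_, h2⟩ σ hσ
      exact L1 hr hkn' h2 σ hσ
  · intro h2
    subst h2
    constructor
    · intro h
      have h2 := L2 hr hrn h
      rw [Nat.even_iff, Nat.odd_iff]; omega
    · intro h σ hσ
      refine L1 hr hkn' ?_ σ hσ
      rw [Nat.even_iff, Nat.odd_iff] at h; omega

end Cfsg.Agent.S3573
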