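import Cfsg.Statements.S3599
import Mathlib

set_option autoImplicit false
open Cfsg

namespace Cfsg.Agent.S3599


section FrDef

/-- the `q`-torsion units of a field -/
abbrev QQ (K : Type) [Field K] (q : ℕ) : Subgroup Kˣ := (powMonoidHom q : Kˣ →* Kˣ).ker

/-- the affine group `K ⋊ (q-torsion units)` -/
@[ext] structure Fr (K : Type) [Field K] (q : ℕ) where
  v : K
  z : QQ K q

variable {K : Type} [Field K] {q : ℕ}

instance : Mul (Fr K q) := ⟨fun a b => ⟨a.v + ((a.z : Kˣ) : K) * b.v, a.z * b.z⟩⟩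
instance : One (Fr K q) := ⟨⟨0, 1⟩⟩
instance : Inv (Fr K q) := ⟨fun a => ⟨-(((a.z⁻¹ : QQ K q) : Kˣ) : K) * a.v, a.z⁻¹⟩⟩

@[simp] lemma Fr.mul_v (a b : Fr K q) : (a * b).v = a.v + ((a.z : Kˣ) : K) * b.v := rfl
@[simp] lemma Fr.mul_z (a b : Fr K q) : (a * b).z = a.z * b.z := rfl
@[simp] lemma Fr.one_v : (1 : Fr K q).v = 0 := rfl
@[simp] lemma Fr.one_z : (1 : Fr K q).z = 1 := rfl
@[simp] lemma Fr.inv_v (a : Fr K q) : (a⁻¹).v = -(((a.z⁻¹ : QQ K q) : Kˣ) : K) * a.v := rfl
@[simp] lemma Fr.inv_z (a : Fr K q) : (a⁻¹).z = a.z⁻¹ := rfl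

instance : Group (Fr K q) :=
  Group.ofLeftAxioms
    (by
      intro a b c
      ext
      · simp only [Fr.mul_v, Fr.mul_z, Subgroup.coe_mul, Units.val_mul]; ring
      · simp only [Fr.mul_z, mul_assoc])
    (by
      intro a
      ext
      · simp
      · simp)
    (by
      intro a
      ext
      · simp only [Fr.mul_v, Fr.inv_v, Fr.inv_z, Fr.one_v]; ring
      · simp)

lemma Fr.pow_z (a : Fr K q) (n : ℕ) : (a ^ n).z = a.z ^ n := by
  induction n with
  | zero => simp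
  | succ n ih => rw [pow_succ, pow_succ, Fr.mul_z, ih]

lemma Fr.pow_v (a : Fr K q) (n : ℕ) :
    (a ^ n).v = (∑ i ∈ Finset.range n, (((a.z : Kˣ) : K)) ^ i) * a.v := by
  induction n with
  | zero => simp
  | succ n ih =>
    rw [pow_succ, Fr.mul_v, ih, Fr.pow_z, Finset.sum_range_succ]
    simp only [Subgroup.coe_pow, Units.val_pow_eq_pow_val]
    ring

lemma QQ.pow_eq_one (z : QQ K q) : z ^ q = 1 := by
  have h := z.2
  rw [MonoidHom.mem_ker, powMonoidHom_apply] at h
  exact Subtype.ext (by simpa using h)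

/-- the `q`-th power of anything has trivial `z`-part. -/
lemma Fr.pow_q_z (a : Fr K q) : (a ^ q).z = 1 := by
  rw [Fr.pow_z, QQ.pow_eq_one]

lemma Fr.pow_q_of_ne (a : Fr K q) (h : a.z ≠ 1) : a ^ q = 1 := by
  ext
  · rw [Fr.pow_v, Fr.one_v]
    have hz : (((a.z : Kˣ) : K)) ^ q = 1 := by
      have := QQ.pow_eq_one a.z
      have h2 : ((a.z : Kˣ)) ^ q = 1 := by
        have := congrArg (fun t : QQ K q => (t : Kˣ)) this
        simpa using this
      have := congrArg (fun t : Kˣ => (t : K)) h2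
      simpa using this
    have hne : (((a.z : Kˣ) : K)) - 1 ≠ 0 := by
      intro h0
      apply h
      apply Subtype.ext
      apply Units.ext
      simpa [sub_eq_zero] using h0
    have := geom_sum_mul (((a.z : Kˣ) : K)) q
    rw [hz, sub_self] at this
    rcases mul_eq_zero.mp this with h1 | h1
    · rw [h1, zero_mul]
    · exact absurd h1 hne
  · rw [Fr.pow_q_z]; rfl

lemma Fr.pow_p_of_eq (p : ℕ) [CharP K p] (a : Fr K q) (h : a.z = 1) : a ^ p = 1 := by
  ext
  · rw [Fr.pow_v, Fr.one_v, h]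
    simp
  · rw [Fr.pow_z, h, one_pow]; rfl

/-- the `z`-projection as a homomorphism. -/
def Fr.zHom : Fr K q →* QQ K q where
  toFun a := a.z
  map_one' := rfl
  map_mul' _ _ := rfl

lemma Fr.mem_ker_iff (a : Fr K q) : a ∈ (Fr.zHom (K := K) (q := q)).ker ↔ a.z = 1 := by
  rw [MonoidHom.mem_ker]; rfl

/-- the key law in the Frobenius-type group -/
lemma Fr.law (p : ℕ) [CharP K p] (m : ℕ) (hm : q ∣ m) (x y : Fr K q) :
    (x ^ m * y ^ m) ^ p = 1 := by
  obtain ⟨k, rfl⟩ := hm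
  apply Fr.pow_p_of_eq p
  rw [Fr.mul_z, pow_mul, pow_mul, Fr.pow_z (x ^ q), Fr.pow_z (y ^ q), Fr.pow_q_z, Fr.pow_q_z]
  simp

lemma Fr.pow_mul_eq_one (p : ℕ) [CharP K p] (a : Fr K q) : a ^ (p * q) = 1 := by
  by_cases h : a.z = 1
  · rw [pow_mul, Fr.pow_p_of_eq p a h, one_pow]
  · rw [mul_comm, pow_mul, Fr.pow_q_of_ne a h, one_pow]

lemma Fr.orderOf_mem (p : ℕ) [hp : Fact p.Prime] [CharP K p] (hq : q.Prime) (a : Fr K q) :
    orderOf a = 1 ∨ orderOf a = p ∨ orderOf a = q := by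
  by_cases h : a.z = 1
  · have := orderOf_dvd_of_pow_eq_one (Fr.pow_p_of_eq p a h)
    rcases (Nat.dvd_prime hp.out).mp this with h1 | h1
    · exact Or.inl h1
    · exact Or.inr (Or.inl h1)
  · have := orderOf_dvd_of_pow_eq_one (Fr.pow_q_of_ne a h)
    rcases (Nat.dvd_prime hq).mp this with h1 | h1
    · exact Or.inl h1
    · exact Or.inr (Or.inr h1)

lemma Fr.exists_orderOf_p (p : ℕ) [hp : Fact p.Prime] [CharP K p] :
    ∃ a : Fr K q, orderOf a = p := by
  refine ⟨⟨1, 1⟩, ?_⟩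
  apply orderOf_eq_prime
  · exact Fr.pow_p_of_eq p _ rfl
  · intro h
    have := congrArg Fr.v h
    simp at this

lemma Fr.exists_orderOf_q (hq : q.Prime) (ζ : Kˣ) (hζ : orderOf ζ = q) :
    ∃ a : Fr K q, orderOf a = q := by
  have hmem : ζ ∈ QQ K q := by
    rw [MonoidHom.mem_ker, powMonoidHom_apply, ← hζ, pow_orderOf_eq_one]
  have hne : (⟨ζ, hmem⟩ : QQ K q) ≠ 1 := by
    intro h
    have : ζ = 1 := congrArg Subtype.val h
    rw [this, orderOf_one] at hζ
    exact hq.one_lt.ne hζ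
  refine ⟨⟨0, ⟨ζ, hmem⟩⟩, ?_⟩
  haveI : Fact q.Prime := ⟨hq⟩
  apply orderOf_eq_prime
  · exact Fr.pow_q_of_ne _ hne
  · intro h
    exact hne (congrArg Fr.z h)

instance [Finite K] : Finite (Fr K q) :=
  Finite.of_injective (fun a : Fr K q => (a.v, a.z)) (by
    intro a b h
    simp only [Prod.mk.injEq] at h
    exact Fr.ext h.1 h.2)

end FrDef

section Galois

/-- the concrete Frobenius-type group `p^(q-1) : q`. -/
abbrev FrG (p q : ℕ) [Fact p.Prime] : Type := Fr (GaloisField p (q - 1)) q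

lemma exists_zeta (p q : ℕ) [hp : Fact p.Prime] (hq : q.Prime) (hpq : p ≠ q) :
    ∃ ζ : (GaloisField p (q - 1))ˣ, orderOf ζ = q := by
  haveI : Fact q.Prime := ⟨hq⟩
  have hq1 : q - 1 ≠ 0 := by have := hq.two_le; omega
  have hcard : Nat.card (GaloisField p (q - 1))ˣ = p ^ (q - 1) - 1 := by
    rw [Nat.card_units, GaloisField.card p (q - 1) hq1]
  have hcop : Nat.Coprime p q := (Nat.coprime_primes hp.out hq).mpr hpq
  have hmod : p ^ (q - 1) ≡ 1 [MOD q] := by
    have := Nat.ModEq.pow_totient hcop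
    rwa [Nat.totient_prime hq] at this
  have hdvd : q ∣ Nat.card (GaloisField p (q - 1))ˣ := by
    rw [hcard]
    exact (Nat.modEq_iff_dvd' (Nat.one_le_pow _ _ hp.out.pos)).mp hmod.symm
  exact exists_prime_orderOf_dvd_card' q hdvd

end Galois



section Abstract

lemma torsion_mul_of_law {X : Type*} [Group X] (p m : ℕ) (hp : p.Prime) (hm : Nat.Coprime m p)
    (L : ∀ x y : X, (x ^ m * y ^ m) ^ p = 1) (z w : X) (hz : z ^ p = 1) (hw : w ^ p = 1) :
    (z * w) ^ p = 1 := by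
  obtain ⟨u, -, hu⟩ := Nat.exists_mul_mod_eq_one_of_coprime hm hp.one_lt
  have key : ∀ t : X, t ^ p = 1 → (t ^ u) ^ m = t := by
    intro t ht
    rw [← pow_mul, mul_comm, pow_eq_pow_mod _ ht, hu, pow_one]
  have := L (z ^ u) (w ^ u)
  rwa [key z hz, key w hw] at this

lemma commute_of_laws {X : Type*} [Group X] (p q mp mq : ℕ) (hp : p.Prime) (hq : q.Prime)
    (hpq : p ≠ q) (hmp : Nat.Coprime mp p) (hmq : Nat.Coprime mq q)
    (Lp : ∀ x y : X, (x ^ mp * y ^ mp) ^ p = 1) (Lq : ∀ x y : X, (x ^ mq * y ^ mq) ^ q = 1)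
    (x y : X) (hx : x ^ p = 1) (hy : y ^ q = 1) : x * y = y * x := by
  have h1 : (x * y * x⁻¹ * y⁻¹) ^ p = 1 := by
    have e1 : x * y * x⁻¹ * y⁻¹ = x * (y * x⁻¹ * y⁻¹) := by group
    rw [e1]
    apply torsion_mul_of_law p mp hp hmp Lp _ _ hx
    rw [conj_pow, inv_pow, hx]; group
  have h2 : (x * y * x⁻¹ * y⁻¹) ^ q = 1 := by
    apply torsion_mul_of_law q mq hq hmq Lq
    · rw [conj_pow, hy]; group
    · rw [inv_pow, hy, inv_one]
  have hc : x * y * x⁻¹ * y⁻¹ = 1 := by
    rw [← orderOf_eq_one_iff]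
    have d1 := orderOf_dvd_of_pow_eq_one h1
    have d2 := orderOf_dvd_of_pow_eq_one h2
    have hcop : Nat.Coprime p q := (Nat.coprime_primes hp hq).mpr hpq
    exact Nat.eq_one_of_dvd_coprimes hcop d1 d2
  calc x * y = (x * y * x⁻¹ * y⁻¹) * (y * x) := by group
    _ = y * x := by rw [hc, one_mul]

lemma card_section_lt {X : Type*} [Group X] [Finite X] (H : Subgroup X) (N : Subgroup H)
    [N.Normal] (h : H ≠ ⊤ ∨ N ≠ ⊥) : Nat.card (H ⧸ N) < Nat.card X := by
  have h1 : Nat.card H = Nat.card (H ⧸ N) * Nat.card N :=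
    Subgroup.card_eq_card_quotient_mul_card_subgroup N
  have h2 : Nat.card H ≤ Nat.card X := Subgroup.card_le_card_group H
  have h3 : 0 < Nat.card N := Nat.card_pos
  have h4 : 0 < Nat.card (H ⧸ N) := Nat.card_pos
  rcases h with h | h
  · have : Nat.card H ≠ Nat.card X := fun hh => h ((Subgroup.card_eq_iff_eq_top H).mp hh)
    have : Nat.card H < Nat.card X := lt_of_le_of_ne h2 this
    nlinarith
  · have : Nat.card N ≠ 1 := fun hh => h ((Subgroup.card_eq_one).mp hh)
    have : 2 ≤ Nat.card N := by omega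
    nlinarith

lemma exists_critical (Ω : Set ℕ) (P : ∀ (X : Type) [Group X], Prop)
    (hsub : ∀ (X : Type) [Group X] (H : Subgroup X), P X → P H)
    (hquot : ∀ (X : Type) [Group X] (N : Subgroup X) [N.Normal], P X → P (X ⧸ N)) :
    ∀ n : ℕ, ∀ (X : Type) [Group X] [Finite X], Nat.card X = n →
      Set.range (orderOf : X → ℕ) = Ω → P X →
      ∃ (Y : Type) (_ : Group Y) (_ : Finite Y), P Y ∧ Set.range (orderOf : Y → ℕ) = Ω ∧
        ∀ (H : Subgroup Y) (N : Subgroup H) [N.Normal], (H ≠ ⊤ ∨ N ≠ ⊥) →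
          Set.range (orderOf : H ⧸ N → ℕ) ≠ Ω := by
  intro n
  induction n using Nat.strong_induction_on with
  | _ n ih =>
    intro X _ _ hn hΩ hP
    by_cases hc : ∃ (H : Subgroup X) (N : Subgroup H) (_ : N.Normal), (H ≠ ⊤ ∨ N ≠ ⊥) ∧
        Set.range (orderOf : H ⧸ N → ℕ) = Ω
    · obtain ⟨H, N, hN, hne, heq⟩ := hc
      have hlt := card_section_lt H N hne
      rw [hn] at hlt
      exact ih _ hlt (H ⧸ N) rfl heq (hquot H N (hsub X H hP))
    · refine ⟨X, inferInstance, inferInstance, hP, hΩ, ?_⟩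
      intro H N _ hne heq
      exact hc ⟨H, N, inferInstance, hne, heq⟩

end Abstract



section Prod

/-- the target spectrum -/
def Om {s : ℕ} (p : Fin s → Fin 2 → ℕ) : Set ℕ :=
  {m : ℕ | ∃ c : Fin s → ℕ, (∀ j, c j = 1 ∨ c j = p j 0 ∨ c j = p j 1) ∧ m = ∏ j, c j}

lemma fin2_cases (i : Fin 2) : i = 0 ∨ i = 1 := by
  revert i; decide

lemma fin2_sub_ne (i : Fin 2) : 1 - i ≠ i := by
  revert i; decide

lemma fin2_sub_zero : (1 : Fin 2) - 0 = 1 := by decide
lemma fin2_sub_one : (1 : Fin 2) - 1 = 0 := by decide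

variable {s : ℕ} (p : Fin s → Fin 2 → ℕ) (hp : ∀ j i, (p j i).Prime)
  (hinj : ∀ j i j' i', p j i = p j' i' → j = j' ∧ i = i')

include hp hinj in
lemma coprime_pp (j k : Fin s) (i i' : Fin 2) (h : (j, i) ≠ (k, i')) :
    Nat.Coprime (p j i) (p k i') := by
  rw [Nat.coprime_primes (hp j i) (hp k i')]
  intro heq
  obtain ⟨h1, h2⟩ := hinj _ _ _ _ heq
  exact h (by rw [h1, h2])

include hp hinj in
lemma coprime_cc (c : Fin s → ℕ) (hc : ∀ j, c j = 1 ∨ c j = p j 0 ∨ c j = p j 1)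
    (j k : Fin s) (hjk : j ≠ k) : Nat.Coprime (c j) (c k) := by
  have hne : ∀ i i' : Fin 2, (j, i) ≠ (k, i') := by
    intro i i' h
    exact hjk (congrArg Prod.fst h)
  rcases hc j with h1 | h1 | h1 <;> rcases hc k with h2 | h2 | h2 <;> rw [h1, h2]
  · exact Nat.coprime_one_left _
  · exact Nat.coprime_one_left _
  · exact Nat.coprime_one_left _
  · exact Nat.coprime_one_right _
  · exact coprime_pp p hp hinj _ _ _ _ (hne _ _)
  · exact coprime_pp p hp hinj _ _ _ _ (hne _ _)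
  · exact Nat.coprime_one_right _
  · exact coprime_pp p hp hinj _ _ _ _ (hne _ _)
  · exact coprime_pp p hp hinj _ _ _ _ (hne _ _)

lemma mem_Om (j : Fin s) (i : Fin 2) : p j i ∈ Om p := by
  classical
  refine ⟨Function.update (fun _ => 1) j (p j i), ?_, ?_⟩
  · intro k
    by_cases hk : k = j
    · subst hk
      rw [Function.update_self]
      rcases fin2_cases i with rfl | rfl
      · exact Or.inr (Or.inl rfl)
      · exact Or.inr (Or.inr rfl)
    · rw [Function.update_of_ne hk]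
      exact Or.inl rfl
  · rw [Finset.prod_eq_single j]
    · rw [Function.update_self]
    · intro k _ hk
      rw [Function.update_of_ne hk]
    · intro h; exact absurd (Finset.mem_univ j) h

include hp hinj in
lemma notMem_Om (j : Fin s) : p j 0 * p j 1 ∉ Om p := by
  rintro ⟨c, hc, hprod⟩
  have key : ∀ i : Fin 2, c j = p j i := by
    intro i
    have hd : p j i ∣ ∏ k, c k := by
      rw [← hprod]
      rcases fin2_cases i with rfl | rfl
      · exact dvd_mul_right _ _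
      · exact dvd_mul_left _ _
    obtain ⟨k, -, hk⟩ := (Prime.dvd_finsetProd_iff (Nat.Prime.prime (hp j i)) _).mp hd
    have hone : ¬ p j i ∣ 1 := by
      intro h
      exact (hp j i).one_lt.ne' (Nat.dvd_one.mp h)
    rcases hc k with h1 | h1 | h1
    · rw [h1] at hk; exact absurd hk hone
    · rw [h1] at hk
      have := (Nat.prime_dvd_prime_iff_eq (hp j i) (hp k 0)).mp hk
      obtain ⟨e1, e2⟩ := hinj _ _ _ _ this
      subst e1; subst e2
      exact h1
    · rw [h1] at hk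
      have := (Nat.prime_dvd_prime_iff_eq (hp j i) (hp k 1)).mp hk
      obtain ⟨e1, e2⟩ := hinj _ _ _ _ this
      subst e1; subst e2
      exact h1
  have := (key 0).symm.trans (key 1)
  have := (hinj _ _ _ _ this).2
  exact absurd this (by decide)

/-- the cofactor `∏_{(k,i') ≠ (j,i)} p k i'`. -/
def mm (j : Fin s) (i : Fin 2) : ℕ :=
  ∏ x ∈ (Finset.univ.erase (j, i) : Finset (Fin s × Fin 2)), p x.1 x.2

include hp hinj in
lemma mm_coprime (j : Fin s) (i : Fin 2) : Nat.Coprime (mm p j i) (p j i) := by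
  unfold mm
  apply Nat.Coprime.prod_left
  intro x hx
  rw [Finset.mem_erase] at hx
  exact coprime_pp p hp hinj _ _ _ _ hx.1

lemma dvd_mm (j : Fin s) (i : Fin 2) (k : Fin s) (i' : Fin 2) (h : (k, i') ≠ (j, i)) :
    p k i' ∣ mm p j i := by
  unfold mm
  exact Finset.dvd_prod_of_mem (fun x : Fin s × Fin 2 => p x.1 x.2)
    (Finset.mem_erase.mpr ⟨h, Finset.mem_univ _⟩)

include hp hinj in
lemma mul_dvd_mm (j : Fin s) (i : Fin 2) (k : Fin s) (hk : k ≠ j) (i' : Fin 2) :
    p k i' * p k (1 - i') ∣ mm p j i := by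
  apply Nat.Coprime.mul_dvd_of_dvd_of_dvd
  · apply coprime_pp p hp hinj
    intro h
    exact fin2_sub_ne i' (congrArg Prod.snd h).symm
  · exact dvd_mm p j i k i' (fun h => hk (congrArg Prod.fst h))
  · exact dvd_mm p j i k _ (fun h => hk (congrArg Prod.fst h))

end Prod

section GGdef

variable {s : ℕ} (p : Fin s → Fin 2 → ℕ) [hpF : ∀ j i, Fact (p j i).Prime]

/-- the product of Frobenius-type groups with orientation `e`. -/
abbrev GG (e : Fin s → Fin 2) : Type := ∀ j : Fin s, FrG (p j (e j)) (p j (1 - e j))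

variable (hinj : ∀ j i j' i', p j i = p j' i' → j = j' ∧ i = i')

omit hpF in
lemma cases_e (e : Fin s → Fin 2) (j : Fin s) (n : ℕ)
    (h : n = 1 ∨ n = p j (e j) ∨ n = p j (1 - e j)) : n = 1 ∨ n = p j 0 ∨ n = p j 1 := by
  rcases fin2_cases (e j) with h0 | h0
  · rw [h0, fin2_sub_zero] at h; exact h
  · rw [h0, fin2_sub_one] at h
    rcases h with h | h | h
    · exact Or.inl h
    · exact Or.inr (Or.inr h)
    · exact Or.inr (Or.inl h)

omit hpF in
lemma cases_e' (e : Fin s → Fin 2) (j : Fin s) (n : ℕ)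
    (h : n = 1 ∨ n = p j 0 ∨ n = p j 1) : n = 1 ∨ n = p j (e j) ∨ n = p j (1 - e j) := by
  rcases fin2_cases (e j) with h0 | h0
  · rw [h0, fin2_sub_zero]; exact h
  · rw [h0, fin2_sub_one]
    rcases h with h | h | h
    · exact Or.inl h
    · exact Or.inr (Or.inr h)
    · exact Or.inr (Or.inl h)

include hinj in
lemma orderOf_GG (e : Fin s → Fin 2) (f : GG p e) :
    (∀ j, orderOf (f j) = 1 ∨ orderOf (f j) = p j 0 ∨ orderOf (f j) = p j 1) ∧
      orderOf f = ∏ j, orderOf (f j) := by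
  have hp : ∀ j i, (p j i).Prime := fun j i => (hpF j i).out
  have h1 : ∀ j, orderOf (f j) = 1 ∨ orderOf (f j) = p j 0 ∨ orderOf (f j) = p j 1 := by
    intro j
    apply cases_e p e j
    exact Fr.orderOf_mem (p j (e j)) (hp j (1 - e j)) (f j)
  refine ⟨h1, ?_⟩
  rw [Pi.orderOf]
  apply Finset.lcm_eq_prod
  intro j _ k _ hjk
  exact coprime_cc p hp hinj (fun j => orderOf (f j)) h1 j k hjk

include hinj in
lemma range_GG (e : Fin s → Fin 2) : Set.range (orderOf : GG p e → ℕ) = Om p := by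
  have hp : ∀ j i, (p j i).Prime := fun j i => (hpF j i).out
  apply Set.eq_of_subset_of_subset
  · rintro _ ⟨f, rfl⟩
    obtain ⟨h1, h2⟩ := orderOf_GG p hinj e f
    exact ⟨fun j => orderOf (f j), h1, h2⟩
  · rintro m ⟨c, hc, rfl⟩
    have hex : ∀ j, ∃ a : FrG (p j (e j)) (p j (1 - e j)), orderOf a = c j := by
      intro j
      rcases cases_e' p e j (c j) (hc j) with h | h | h
      · exact ⟨1, by rw [orderOf_one, h]⟩
      · rw [h]; exact Fr.exists_orderOf_p (p j (e j))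
      · rw [h]
        have hne : p j (e j) ≠ p j (1 - e j) := by
          intro hh
          exact fin2_sub_ne (e j) (hinj _ _ _ _ hh).2.symm
        obtain ⟨ζ, hζ⟩ := exists_zeta (p j (e j)) (p j (1 - e j)) (hp _ _) hne
        exact Fr.exists_orderOf_q (hp _ _) ζ hζ
    choose f hf using hex
    refine ⟨f, ?_⟩
    rw [(orderOf_GG p hinj e f).2]
    exact Finset.prod_congr rfl (fun j _ => hf j)

include hinj in
lemma law_GG (e : Fin s → Fin 2) (j : Fin s) (x y : GG p e) :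
    (x ^ mm p j (e j) * y ^ mm p j (e j)) ^ p j (e j) = 1 := by
  have hp : ∀ j i, (p j i).Prime := fun j i => (hpF j i).out
  funext k
  rw [Pi.pow_apply, Pi.mul_apply, Pi.pow_apply, Pi.pow_apply, Pi.one_apply]
  rcases eq_or_ne k j with rfl | hkj
  · apply Fr.law (p k (e k)) (mm p k (e k))
    apply dvd_mm
    intro h
    exact fin2_sub_ne (e k) (congrArg Prod.snd h)
  · have hd := mul_dvd_mm p hp hinj j (e j) k hkj (e k)
    have key : ∀ t : FrG (p k (e k)) (p k (1 - e k)), t ^ mm p j (e j) = 1 := by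
      intro t
      obtain ⟨r, hr⟩ := hd
      rw [hr, pow_mul, Fr.pow_mul_eq_one (p k (e k)) t, one_pow]
    rw [key, key, one_mul, one_pow]

end GGdef



section Final

/-- the family of laws attached to an orientation -/
def PP {s : ℕ} (p : Fin s → Fin 2 → ℕ) (e : Fin s → Fin 2) (X : Type) [Group X] : Prop :=
  ∀ j, ∀ x y : X, (x ^ mm p j (e j) * y ^ mm p j (e j)) ^ p j (e j) = 1

lemma PP_sub {s : ℕ} (p : Fin s → Fin 2 → ℕ) (e : Fin s → Fin 2) (X : Type) [Group X]
    (H : Subgroup X) (h : PP p e X) : PP p e H := by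
  intro j x y
  apply Subtype.ext
  have := h j (x : X) (y : X)
  simpa using this

lemma PP_quot {s : ℕ} (p : Fin s → Fin 2 → ℕ) (e : Fin s → Fin 2) (X : Type) [Group X]
    (N : Subgroup X) [N.Normal] (h : PP p e X) : PP p e (X ⧸ N) := by
  intro j x y
  obtain ⟨x, rfl⟩ := QuotientGroup.mk_surjective x
  obtain ⟨y, rfl⟩ := QuotientGroup.mk_surjective y
  rw [← QuotientGroup.mk_pow, ← QuotientGroup.mk_pow, ← QuotientGroup.mk_mul,
    ← QuotientGroup.mk_pow, h j x y, QuotientGroup.mk_one]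

lemma noniso_aux {s : ℕ} (p : Fin s → Fin 2 → ℕ) (hp : ∀ j i, (p j i).Prime)
    (hinj : ∀ j i j' i', p j i = p j' i' → j = j' ∧ i = i')
    (e e' : Fin s → Fin 2) (hee : e ≠ e') (Y Y' : Type) [Group Y] [Group Y']
    (hY : PP p e Y) (hY' : PP p e' Y') (hΩ : Set.range (orderOf : Y → ℕ) = Om p)
    (φ : Y ≃* Y') : False := by
  obtain ⟨j, hj⟩ : ∃ j, e j ≠ e' j := by
    by_contra hcon
    push Not at hcon
    exact hee (funext hcon)
  -- transport the law
  have hY2 : ∀ x y : Y, (x ^ mm p j (e' j) * y ^ mm p j (e' j)) ^ p j (e' j) = 1 := by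
    intro x y
    apply φ.injective
    rw [map_pow, map_mul, map_pow, map_pow, map_one]
    exact hY' j (φ x) (φ y)
  have hne : p j (e j) ≠ p j (e' j) := fun h => hj (hinj _ _ _ _ h).2
  obtain ⟨x, hx⟩ : p j (e j) ∈ Set.range (orderOf : Y → ℕ) := by
    rw [hΩ]; exact mem_Om p j (e j)
  obtain ⟨y, hy⟩ : p j (e' j) ∈ Set.range (orderOf : Y → ℕ) := by
    rw [hΩ]; exact mem_Om p j (e' j)
  have hcomm : x * y = y * x :=
    commute_of_laws (p j (e j)) (p j (e' j)) (mm p j (e j)) (mm p j (e' j)) (hp _ _) (hp _ _) hne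
      (mm_coprime p hp hinj j (e j)) (mm_coprime p hp hinj j (e' j)) (hY j) hY2 x y
      (by rw [← hx, pow_orderOf_eq_one]) (by rw [← hy, pow_orderOf_eq_one])
  have hord : orderOf (x * y) = p j (e j) * p j (e' j) := by
    have hcop : Nat.Coprime (orderOf x) (orderOf y) := by
      rw [hx, hy]
      exact (Nat.coprime_primes (hp _ _) (hp _ _)).mpr hne
    rw [Commute.orderOf_mul_eq_mul_orderOf_of_coprime hcomm hcop, hx, hy]
  have hmem : p j (e j) * p j (e' j) ∈ Om p := by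
    rw [← hΩ, ← hord]; exact Set.mem_range_self _
  have hnot := notMem_Om p hp hinj j
  rcases fin2_cases (e j) with h0 | h0 <;> rcases fin2_cases (e' j) with h1 | h1
  · exact hj (h0.trans h1.symm)
  · rw [h0, h1] at hmem; exact hnot hmem
  · rw [h0, h1, mul_comm] at hmem; exact hnot hmem
  · exact hj (h0.trans h1.symm)

end Final


/-- A finite group is critical with respect to a set Ω of natural numbers when its set of element orders is Ω while no proper section H/N (H a subgroup, N normal in H, (H, N) ≠ (whole group, 1)) has Ω as its set of element orders. Let s ≥ 1 and let p(j,0), p(j,1) (j < s) be 2s pairwise distinct primes, and let Ω be the set of all products c(0)·…·c(s−1) with each c(j) ∈ {1, p(j,0), p(j,1)}. Then there are 2^s pairwise non-isomorphic finite groups critical with respect to Ω. -/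
theorem result (s : ℕ) (hs : 1 ≤ s) (p : Fin s → Fin 2 → ℕ)
    (hp : ∀ j i, (p j i).Prime) (hinj : ∀ j i j' i', p j i = p j' i' → j = j' ∧ i = i') :
    ∃ (G : Fin (2 ^ s) → Type) (_ : ∀ a, Group (G a)) (_ : ∀ a, Fintype (G a)),
      (∀ a b, a ≠ b → ¬ Nonempty (G a ≃* G b)) ∧
      ∀ a, Set.range (orderOf : (G a) → ℕ) = {m : ℕ | ∃ c : Fin s → ℕ, (∀ j, c j = 1 ∨ c j = p j 0 ∨ c j = p j 1) ∧ m = ∏ j, c j} ∧
      ∀ (H : Subgroup (G a)) (N : Subgroup ↥H) [N.Normal], (H ≠ ⊤ ∨ N ≠ ⊥) → Set.range (orderOf : (↥H ⧸ N) → ℕ) ≠ {m : ℕ | ∃ c : Fin s → ℕ, (∀ j, c j = 1 ∨ c j = p j 0 ∨ c j = p j 1) ∧ m = ∏ j, c j} := by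
  haveI hpF : ∀ j i, Fact (p j i).Prime := fun j i => ⟨hp j i⟩
  let e : Fin (2 ^ s) → (Fin s → Fin 2) := fun a => finFunctionFinEquiv.symm a
  have he : Function.Injective e := fun a b h => finFunctionFinEquiv.symm.injective h
  have hex : ∀ a : Fin (2 ^ s), ∃ (Y : Type) (_ : Group Y) (_ : Finite Y), PP p (e a) Y ∧
      Set.range (orderOf : Y → ℕ) = Om p ∧
      ∀ (H : Subgroup Y) (N : Subgroup H) [N.Normal], (H ≠ ⊤ ∨ N ≠ ⊥) →
        Set.range (orderOf : H ⧸ N → ℕ) ≠ Om p := by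
    intro a
    exact exists_critical (Om p) (fun X _ => PP p (e a) X)
      (fun X _ H h => PP_sub p (e a) X H h) (fun X _ N _ h => PP_quot p (e a) X N h)
      _ (GG p (e a)) rfl (range_GG p hinj (e a)) (fun j x y => law_GG p hinj (e a) j x y)
  choose Y hG hF hP hΩ hcrit using hex
  refine ⟨Y, hG, fun a => Fintype.ofFinite (Y a), ?_, ?_⟩
  · rintro a b hab ⟨φ⟩
    exact noniso_aux p hp hinj (e a) (e b) (fun h => hab (he h)) (Y a) (Y b) (hP a) (hP b)
      (hΩ a) φ
  · intro a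
    exact ⟨hΩ a, fun H N _ hne => hcrit a H N hne⟩

end Cfsg.Agent.S3599
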