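import Cfsg.Statements.S3619
import Mathlib

set_option autoImplicit false
open Cfsg
open scoped Pointwise

namespace Cfsg.Agent.S3619

/-- Let G act faithfully on a finite set in such a way that every non-trivial normal subgroup of G is transitive (G is quasiprimitive). Let Γ be a subset with more than one point and not the whole set, such that the pointwise stabilizer of the complement of Γ acts transitively on Γ (a Jordan set). If that pointwise stabilizer acts primitively on Γ, then G is k-fold transitive where k is one more than the number of points outside Γ (the Jordan set is a trivial one). -/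
theorem result {G Ω : Type*} [Group G] [Finite G] [MulAction G Ω] [FaithfulSMul G Ω] [Finite Ω]
    (hqp : ∀ N : Subgroup G, N.Normal → N ≠ ⊥ → MulAction.IsPretransitive ↥N Ω)
    (Γ : Set Ω) (hΓ1 : 1 < Γ.ncard) (hΓ2 : Γ.ncard < Nat.card Ω)
    (hJ : MulAction.IsPretransitive ↥(fixingSubgroup G Γᶜ) ↥(SubMulAction.ofFixingSubgroup G Γᶜ))
    (hJp : MulAction.IsPreprimitive ↥(fixingSubgroup G Γᶜ) ↥(SubMulAction.ofFixingSubgroup G Γᶜ)) :
    MulAction.IsMultiplyPretransitive G Ω (Nat.card Ω - Γ.ncard + 1) := by
  classical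
  open MulAction in
  -- H := fixingSubgroup G Γᶜ is nontrivial
  have hΓfin : Γ.Finite := Set.toFinite Γ
  obtain ⟨γ₁, γ₂, hγ₁, hγ₂, hγne⟩ := (Set.one_lt_ncard_iff hΓfin).mp hΓ1
  have memΓ' : ∀ x : Ω, x ∈ Γ → x ∈ SubMulAction.ofFixingSubgroup G Γᶜ := by
    intro x hx
    rw [SubMulAction.mem_ofFixingSubgroup_iff]
    exact fun h => h hx
  have ofΓ' : ∀ x : SubMulAction.ofFixingSubgroup G Γᶜ, (x : Ω) ∈ Γ := by
    intro x
    have := x.2
    rw [SubMulAction.mem_ofFixingSubgroup_iff] at this
    exact Set.not_notMem.mp this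
  have hHne : ∃ h ∈ fixingSubgroup G Γᶜ, h ≠ 1 := by
    obtain ⟨h, hh⟩ := MulAction.exists_smul_eq (fixingSubgroup G Γᶜ)
      (⟨γ₁, memΓ' γ₁ hγ₁⟩ : SubMulAction.ofFixingSubgroup G Γᶜ) ⟨γ₂, memΓ' γ₂ hγ₂⟩
    refine ⟨h.1, h.2, ?_⟩
    intro h1
    apply hγne
    have h2 : (h : G) • γ₁ = γ₂ := congrArg Subtype.val hh
    rw [h1, one_smul] at h2
    exact h2
  -- H preserves Γ
  have hHΓ : ∀ h ∈ fixingSubgroup G Γᶜ, ∀ x ∈ Γ, h • x ∈ Γ := by
    intro h hh x hx
    by_contra hnot
    have hfix : h • (h • x) = h • x := (mem_fixingSubgroup_iff G).mp hh _ hnot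
    have : h • x = x := smul_left_cancel h hfix
    rw [this] at hnot
    exact hnot hx
  -- G is transitive
  have hGne : (⊤ : Subgroup G) ≠ ⊥ := by
    obtain ⟨h, _, hh1⟩ := hHne
    intro hbot
    apply hh1
    have : h ∈ (⊤ : Subgroup G) := Subgroup.mem_top h
    rw [hbot] at this
    exact Subgroup.mem_bot.mp this
  have htop := hqp ⊤ inferInstance hGne
  have hGtrans : MulAction.IsPretransitive G Ω := by
    constructor
    intro x y
    obtain ⟨g, hg⟩ := MulAction.exists_smul_eq (⊤ : Subgroup G) x y
    exact ⟨g.1, hg⟩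
  -- G is primitive
  have hGprim : MulAction.IsPreprimitive G Ω := by
    refine { toIsPretransitive := hGtrans, isTrivialBlock_of_isBlock := ?_ }
    intro B hB
    by_contra hnt
    unfold MulAction.IsTrivialBlock at hnt
    push Not at hnt
    obtain ⟨hBns, hBne⟩ := hnt
    -- two distinct points of B
    obtain ⟨b₁, hb₁, b₂, hb₂, hbne⟩ := hBns
    -- every translate is fixed by H
    have hfixH : ∀ h ∈ fixingSubgroup G Γᶜ, ∀ g : G, h • (g • B) = g • B := by
      intro h hh g
      have hB' : MulAction.IsBlock G (g • B) := hB.translate g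
      by_cases hsub : g • B ⊆ Γ
      · -- block inside Γ: equal to Γ
        have hblk : MulAction.IsBlock (fixingSubgroup G Γᶜ)
            (Subtype.val ⁻¹' (g • B) : Set (SubMulAction.ofFixingSubgroup G Γᶜ)) :=
          (hB'.subgroup (H := fixingSubgroup G Γᶜ)).subtype_val_preimage
        rcases hJp.isTrivialBlock_of_isBlock hblk with hss | huniv
        · exfalso
          have h1 : g • b₁ ∈ g • B := Set.smul_mem_smul_set hb₁
          have h2 : g • b₂ ∈ g • B := Set.smul_mem_smul_set hb₂
          have m1 : (⟨g • b₁, memΓ' _ (hsub h1)⟩ : SubMulAction.ofFixingSubgroup G Γᶜ) ∈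
              (Subtype.val ⁻¹' (g • B) : Set (SubMulAction.ofFixingSubgroup G Γᶜ)) := h1
          have m2 : (⟨g • b₂, memΓ' _ (hsub h2)⟩ : SubMulAction.ofFixingSubgroup G Γᶜ) ∈
              (Subtype.val ⁻¹' (g • B) : Set (SubMulAction.ofFixingSubgroup G Γᶜ)) := h2
          have := hss m1 m2
          have h3 : g • b₁ = g • b₂ := congrArg Subtype.val this
          exact hbne (smul_left_cancel g h3)
        · have hxin : g • b₁ ∈ g • B := Set.smul_mem_smul_set hb₁
          apply hB'.smul_eq_of_mem hxin
          have hmem : h • (g • b₁) ∈ Γ := hHΓ h hh _ (hsub hxin)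
          have : (⟨h • (g • b₁), memΓ' _ hmem⟩ : SubMulAction.ofFixingSubgroup G Γᶜ) ∈
              (Subtype.val ⁻¹' (g • B) : Set (SubMulAction.ofFixingSubgroup G Γᶜ)) := by
            rw [huniv]; trivial
          exact this
      · obtain ⟨δ, hδB, hδΓ⟩ := Set.not_subset.mp hsub
        apply hB'.smul_eq_of_mem hδB
        have : h • δ = δ := (mem_fixingSubgroup_iff G).mp hh δ hδΓ
        rw [this]; exact hδB
    -- the kernel K of the action on translates
    let K : Subgroup G :=
      { carrier := {k | ∀ g : G, k • (g • B) = g • B}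
        one_mem' := fun g => one_smul _ _
        mul_mem' := by
          intro a b ha hb g
          rw [mul_smul, hb g, ha g]
        inv_mem' := by
          intro a ha g
          rw [inv_smul_eq_iff, ha g] }
    have hKn : K.Normal := by
      constructor
      intro k hk n g
      have := hk (n⁻¹ * g)
      rw [mul_smul, mul_smul, ← mul_smul n⁻¹ g, this, ← mul_smul, mul_inv_cancel_left]
    have hKne : K ≠ ⊥ := by
      obtain ⟨h, hh, hh1⟩ := hHne
      intro hbot
      apply hh1
      have : h ∈ K := hfixH h hh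
      rw [hbot] at this
      exact Subgroup.mem_bot.mp this
    have hKtrans := hqp K hKn hKne
    obtain ⟨c, hc⟩ : ∃ c, c ∉ B := by
      by_contra hall
      push Not at hall
      exact hBne (Set.eq_univ_of_forall hall)
    obtain ⟨k, hk⟩ := MulAction.exists_smul_eq K b₁ c
    apply hc
    have hkB : (k : G) • B = B := by
      have := k.2 1
      rwa [one_smul] at this
    rw [← hk, ← hkB]
    exact Set.smul_mem_smul_set hb₁
  -- apply Jordan's theorem
  have hcard := Set.ncard_add_ncard_compl Γ
  have hcpos : 0 < Γᶜ.ncard := by omega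
  obtain ⟨n, hn⟩ : ∃ n, Γᶜ.ncard = n + 1 := ⟨Γᶜ.ncard - 1, by omega⟩
  have hsn' : n + 2 < Nat.card Ω := by omega
  have hJordan := hGprim.isMultiplyPreprimitive hn hsn' hJp
  have hres : MulAction.IsMultiplyPretransitive G Ω (n + 2) := hJordan.isMultiplyPretransitive
  have : Nat.card Ω - Γ.ncard + 1 = n + 2 := by omega
  rw [this]
  exact hres

end Cfsg.Agent.S3619
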