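import Cfsg.Statements.S3620
import Cfsg.Agent.Lib.Helper3.MargK

set_option autoImplicit false
open Cfsg

namespace Cfsg.Agent.S3620

/-- Let G act faithfully on a finite set in such a way that every non-trivial normal subgroup of G is transitive (G is quasiprimitive). Let Γ be a subset with more than one point and fewer than half of the points, such that the pointwise stabilizer of the complement of Γ acts transitively on Γ. Then G induces every even permutation of the set (G is the alternating or the symmetric group). -/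
theorem result {G Ω : Type*} [Group G] [Finite G] [MulAction G Ω] [FaithfulSMul G Ω] [Fintype Ω] [DecidableEq Ω]
    (hqp : ∀ N : Subgroup G, N.Normal → N ≠ ⊥ → MulAction.IsPretransitive ↥N Ω)
    (Γ : Set Ω) (hΓ1 : 1 < Γ.ncard) (hΓ2 : 2 * Γ.ncard < Fintype.card Ω)
    (hJ : MulAction.IsPretransitive ↥(fixingSubgroup G Γᶜ) ↥(SubMulAction.ofFixingSubgroup G Γᶜ)) :
    ∀ σ : Equiv.Perm Ω, Equiv.Perm.sign σ = 1 → ∃ x : G, (MulAction.toPerm x : Equiv.Perm Ω) = σ := by
  classical
  have hJS : Cfsg.Agent.Lib.Helper3.Marg.JSet G Γ := by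
    intro x hx y hy
    have memΓ' : ∀ x : Ω, x ∈ Γ → x ∈ SubMulAction.ofFixingSubgroup G Γᶜ := by
      intro x hx
      rw [SubMulAction.mem_ofFixingSubgroup_iff]
      exact fun h => h hx
    obtain ⟨h, hh⟩ := MulAction.exists_smul_eq (fixingSubgroup G Γᶜ)
      (⟨x, memΓ' x hx⟩ : SubMulAction.ofFixingSubgroup G Γᶜ) ⟨y, memΓ' y hy⟩
    refine ⟨h.1, ?_, congrArg Subtype.val hh⟩
    intro z hz
    exact (mem_fixingSubgroup_iff G).mp h.2 z hz
  have hcard : Nat.card Ω = Fintype.card Ω := Nat.card_eq_fintype_card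
  have hprim := Cfsg.Agent.Lib.Helper3.Marg.prim_of_qp hqp hJS hΓ1 (by rw [hcard]; exact hΓ2)
  have hsm := Cfsg.Agent.Lib.Helper3.Marg.marggraf_small (Nat.card Ω) G Ω rfl hprim Γ hJS hΓ1
    (by rw [hcard]; exact hΓ2)
  have hA := Cfsg.Agent.Lib.Helper3.Marg.alt_le_range hprim hsm
  intro σ hσ
  obtain ⟨x, hx⟩ := hA (Equiv.Perm.mem_alternatingGroup.mpr hσ)
  exact ⟨x, hx⟩

end Cfsg.Agent.S3620
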