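import Cfsg.Statements.S3633
import Mathlib
import Cfsg.Agent.S1475
import Cfsg.Agent.Lib.Helper6.CoprimeHall
import Cfsg.Agent.Lib.Helper20.Signalizer
import Cfsg.Agent.Lib.Helper29.SylowSub

set_option autoImplicit false
open Cfsg

namespace Cfsg.Agent.S3633

theorem card_sup_dvd {G : Type*} [Group G] [Finite G] (X Y : Subgroup G)
    (hn : Y ≤ Subgroup.normalizer (X : Set G)) :
    Nat.card (X ⊔ Y : Subgroup G) ∣ Nat.card X * Nat.card Y := by
  haveI := Cfsg.Agent.Lib.Helper20.normal_subgroupOf_sup X Y hn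
  have hs := Cfsg.Agent.Lib.Helper20.surjective_to_sup_quotient X Y hn
  have h1 : Nat.card (↥(X ⊔ Y) ⧸ X.subgroupOf (X ⊔ Y)) ∣ Nat.card Y :=
    Subgroup.card_dvd_of_surjective _ hs
  have h2 := Subgroup.card_eq_card_quotient_mul_card_subgroup (X.subgroupOf (X ⊔ Y))
  rw [Cfsg.Agent.Lib.Helper29.card_subgroupOf_of_le (le_sup_left : X ≤ X ⊔ Y)] at h2
  rw [h2, mul_comm]
  exact Nat.mul_dvd_mul_left _ h1

/-- A solvable subgroup whose order involves exactly three primes, pairwise non-adjacent. -/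
theorem no_three {G : Type*} [Group G] [Finite G] (L : Subgroup G) (hL : Group.IsSolvable L)
    (r s t : ℕ) (hr : r.Prime) (hs : s.Prime) (ht : t.Prime) (hrs : r ≠ s) (hrt : r ≠ t)
    (hst : s ≠ t) (hrL : r ∣ Nat.card L) (hsL : s ∣ Nat.card L) (htL : t ∣ Nat.card L)
    (hπ : ∀ p : ℕ, p.Prime → p ∣ Nat.card L → p = r ∨ p = s ∨ p = t)
    (h1 : ¬ ∃ x : G, orderOf x = r * s) (h2 : ¬ ∃ x : G, orderOf x = r * t)
    (h3 : ¬ ∃ x : G, orderOf x = s * t) : False := by
  haveI := hL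
  have hno : ∀ p q : ℕ, p.Prime → q.Prime → p ≠ q → p ∣ Nat.card L → q ∣ Nat.card L →
      ¬ ∃ x : G, orderOf x = p * q := by
    intro p q hp hq hpq hpL hqL
    rcases hπ p hp hpL with rfl | rfl | rfl <;> rcases hπ q hq hqL with rfl | rfl | rfl
    · exact absurd rfl hpq
    · exact h1
    · exact h2
    · rw [mul_comm]; exact h1
    · exact absurd rfl hpq
    · exact h3
    · rw [mul_comm]; exact h2
    · rw [mul_comm]; exact h3
    · exact absurd rfl hpq
  have heppo : ∀ g : L, IsPrimePow (orderOf g) ∨ g = 1 := by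
    intro g
    by_cases hg : g = 1
    · exact Or.inr hg
    left
    by_contra hnp
    have hn1 : orderOf g ≠ 1 := by rwa [Ne, orderOf_eq_one_iff]
    obtain ⟨p, hp, hpd⟩ := Nat.exists_prime_and_dvd hn1
    have hex : ∃ q : ℕ, q.Prime ∧ q ∣ orderOf g ∧ q ≠ p := by
      by_contra hcon
      push Not at hcon
      apply hnp
      rw [isPrimePow_iff_unique_prime_dvd]
      exact ⟨p, ⟨hp, hpd⟩, fun q hq => hcon q hq.1 hq.2⟩
    obtain ⟨q, hq, hqd, hqp⟩ := hex
    have hpq : p * q ∣ orderOf g :=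
      Nat.Coprime.mul_dvd_of_dvd_of_dvd ((Nat.coprime_primes hp hq).mpr hqp.symm) hpd hqd
    have hpL : p ∣ Nat.card L := hpd.trans (orderOf_dvd_natCard g)
    have hqL : q ∣ Nat.card L := hqd.trans (orderOf_dvd_natCard g)
    apply hno p q hp hq hqp.symm hpL hqL
    refine ⟨((g ^ (orderOf g / (p * q)) : L) : G), ?_⟩
    rw [Subgroup.orderOf_coe]
    exact orderOf_pow_orderOf_div (orderOf_pos g).ne' hpq
  have hcard := Cfsg.Agent.S1475.result heppo
  have hsub : ({r, s, t} : Finset ℕ) ⊆ (Nat.card L).primeFactors := by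
    intro p hp
    simp only [Finset.mem_insert, Finset.mem_singleton] at hp
    rw [Nat.mem_primeFactors]
    rcases hp with rfl | rfl | rfl
    · exact ⟨hr, hrL, Nat.card_pos.ne'⟩
    · exact ⟨hs, hsL, Nat.card_pos.ne'⟩
    · exact ⟨ht, htL, Nat.card_pos.ne'⟩
  have h3c : ({r, s, t} : Finset ℕ).card = 3 := Finset.card_eq_three.mpr ⟨r, s, t, hrs, hrt, hst, rfl⟩
  have := Finset.card_le_card hsub
  omega


theorem hall_dvd {G : Type*} [Group G] {π : Set ℕ} {H K : Subgroup G}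
    (hH : Cfsg.IsPiHallOf π H K) (p : ℕ) (hp : p.Prime) (hpπ : p ∈ π) (hpK : p ∣ Nat.card K) :
    p ∣ Nat.card H := by
  rw [Cfsg.Agent.Lib.Helper6.isPiHallOf_iff] at hH
  obtain ⟨hHK, -, hHidx⟩ := hH
  rw [← Cfsg.Agent.Lib.Helper6.card_mul_relIndex_of_le hHK] at hpK
  rcases (Nat.Prime.dvd_mul hp).mp hpK with h | h
  · exact h
  · exact absurd hpπ (hHidx p hp h)

theorem part1 {G : Type*} [Group G] [Finite G] (K : Subgroup G) [K.Normal]
    (hK : Group.IsSolvable K)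
    (r s t : ℕ) (hr : r.Prime) (hs : s.Prime) (ht : t.Prime) (hrs : r ≠ s) (hrt : r ≠ t)
    (hst : s ≠ t) (hrK : r ∣ Nat.card K) (hsK : s ∣ Nat.card K) (htG : t ∣ Nat.card G)
    (h1 : ¬ ∃ x : G, orderOf x = r * s) (h2 : ¬ ∃ x : G, orderOf x = r * t)
    (h3 : ¬ ∃ x : G, orderOf x = s * t) : False := by
  by_cases htK : t ∣ Nat.card K
  · obtain ⟨H, hH⟩ := Cfsg.Agent.Lib.Helper6.hall_exists' ({r, s, t} : Set ℕ) K hK
    have hH' := Cfsg.Agent.Lib.Helper6.isPiHallOf_iff.mp hH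
    refine no_three H (Cfsg.Agent.Lib.Helper13.isSolvable_of_le hH'.1 hK) r s t hr hs ht hrs hrt hst
      (hall_dvd hH r hr (by simp) hrK) (hall_dvd hH s hs (by simp) hsK)
      (hall_dvd hH t ht (by simp) htK) ?_ h1 h2 h3
    intro p hp hpd
    have := hH'.2.1 p hp hpd
    simpa using this
  · haveI : Fact t.Prime := ⟨ht⟩
    obtain ⟨x, hx⟩ := exists_prime_orderOf_dvd_card' t htG
    have hAcard : Nat.card (Subgroup.zpowers x) = t := by rw [Nat.card_zpowers, hx]
    have hcop : (Nat.card (Subgroup.zpowers x)).Coprime (Nat.card K) := by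
      rw [hAcard]; exact (Nat.Prime.coprime_iff_not_dvd ht).mpr htK
    have hAK : Subgroup.zpowers x ≤ Subgroup.normalizer (K : Set G) := by
      rw [Subgroup.normalizer_eq_top]; exact le_top
    obtain ⟨H, hH, hAH⟩ := Cfsg.Agent.Lib.Helper6.hall_a (Subgroup.zpowers x) K hAK hcop hK
      ({r, s} : Set ℕ)
    have hH' := Cfsg.Agent.Lib.Helper6.isPiHallOf_iff.mp hH
    have hHsolv : Group.IsSolvable H := Cfsg.Agent.Lib.Helper13.isSolvable_of_le hH'.1 hK
    have hAsolv : Group.IsSolvable (Subgroup.zpowers x) := by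
      haveI : IsCyclic (Subgroup.zpowers x) := inferInstance
      letI : CommGroup (Subgroup.zpowers x) := IsCyclic.commGroup
      infer_instance
    have hLsolv := Cfsg.Agent.Lib.Helper20.isSolvable_sup_of_le_normalizer H (Subgroup.zpowers x)
      hAH hHsolv hAsolv
    have hLdvd := card_sup_dvd H (Subgroup.zpowers x) hAH
    rw [hAcard] at hLdvd
    refine no_three (H ⊔ Subgroup.zpowers x) hLsolv r s t hr hs ht hrs hrt hst
      ((hall_dvd hH r hr (by simp) hrK).trans (Subgroup.card_dvd_of_le le_sup_left))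
      ((hall_dvd hH s hs (by simp) hsK).trans (Subgroup.card_dvd_of_le le_sup_left))
      (hAcard ▸ Subgroup.card_dvd_of_le (le_sup_right : Subgroup.zpowers x ≤ H ⊔ Subgroup.zpowers x))
      ?_ h1 h2 h3
    intro p hp hpd
    rcases (Nat.Prime.dvd_mul hp).mp (hpd.trans hLdvd) with h | h
    · have := hH'.2.1 p hp h
      simp only [Set.mem_insert_iff, Set.mem_singleton_iff] at this
      rcases this with h | h
      · exact Or.inl h
      · exact Or.inr (Or.inl h)
    · exact Or.inr (Or.inr ((Nat.prime_dvd_prime_iff_eq hp ht).mp h))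

theorem result {G : Type*} [Group G] [Finite G] (ρ : Finset ℕ) (hρ : 3 ≤ ρ.card) (hc : ((∀ r ∈ ρ, r.Prime ∧ r ∣ Nat.card G) ∧ (∀ r ∈ ρ, ∀ s ∈ ρ, r ≠ s → ¬ ∃ x : G, orderOf x = r * s)))
    (K : Subgroup G) [K.Normal] (hK : Group.IsSolvable ↥K) :
    (∀ r ∈ ρ, ∀ s ∈ ρ, r ∣ Nat.card ↥K → s ∣ Nat.card ↥K → r = s) ∧ ¬ Group.IsSolvable G := by
  have key : ∀ (K : Subgroup G) [K.Normal], Group.IsSolvable ↥K →
      ∀ r ∈ ρ, ∀ s ∈ ρ, r ∣ Nat.card ↥K → s ∣ Nat.card ↥K → r = s := by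
    intro K _ hK r hr s hs hrK hsK
    by_contra hrs
    have hs' : s ∈ ρ.erase r := Finset.mem_erase.mpr ⟨fun h => hrs h.symm, hs⟩
    have hcard : 0 < ((ρ.erase r).erase s).card := by
      rw [Finset.card_erase_of_mem hs', Finset.card_erase_of_mem hr]
      omega
    obtain ⟨t, htm⟩ := Finset.card_pos.mp hcard
    rw [Finset.mem_erase, Finset.mem_erase] at htm
    obtain ⟨hts, htr, ht⟩ := htm
    exact part1 K hK r s t (hc.1 r hr).1 (hc.1 s hs).1 (hc.1 t ht).1 hrs (Ne.symm htr)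
      (Ne.symm hts) hrK hsK (hc.1 t ht).2 (hc.2 r hr s hs hrs) (hc.2 r hr t ht (Ne.symm htr))
      (hc.2 s hs t ht (Ne.symm hts))
  refine ⟨key K hK, fun hG => ?_⟩
  haveI := hG
  have htop : Group.IsSolvable (⊤ : Subgroup G) := inferInstance
  have hall : ∀ r ∈ ρ, ∀ s ∈ ρ, r = s := fun r hr s hs =>
    key ⊤ htop r hr s hs (by rw [Subgroup.card_top]; exact (hc.1 r hr).2)
      (by rw [Subgroup.card_top]; exact (hc.1 s hs).2)
  have : ρ.card ≤ 1 := Finset.card_le_one.mpr hall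
  omega

end Cfsg.Agent.S3633
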