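import Cfsg.Statements.S3634
import Mathlib
import Cfsg.Agent.S3633
import Cfsg.Agent.Lib.Helper24.OmegaAll

set_option autoImplicit false
open Cfsg

namespace Cfsg.Agent.S3634

/-- Frattini: the normalizer of a Sylow subgroup of a normal subgroup `K` has order divisible by
the index of `K`. -/
theorem frattini_card {G : Type*} [Group G] [Finite G] (K : Subgroup G) [K.Normal] {p : ℕ}
    [Fact p.Prime] (P₀ : Sylow p K) (N : Subgroup G)
    (hN : N = Subgroup.normalizer (((P₀ : Subgroup K).map K.subtype : Subgroup G) : Set G)) :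
    N ⊔ K = ⊤ ∧ K.index ∣ Nat.card N := by
  have h1 : N ⊔ K = ⊤ := by rw [hN]; exact Sylow.normalizer_sup_eq_top P₀
  refine ⟨h1, ?_⟩
  have h2 : K.relIndex N = K.index := by
    rw [← Subgroup.relIndex_sup_right, h1, Subgroup.relIndex_top_right]
  rw [← h2]
  exact Subgroup.relIndex_dvd_card _ _

theorem isSolvable_of_isPGroup {G : Type*} [Group G] [Finite G] {p : ℕ} [Fact p.Prime]
    (P : Subgroup G) (hP : IsPGroup p P) : Group.IsSolvable P := by
  haveI := hP.isNilpotent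
  infer_instance

theorem prime_dvd_card_pgroup {G : Type*} [Group G] [Finite G] {p : ℕ} [Fact p.Prime]
    (P : Subgroup G) (hP : IsPGroup p P) (q : ℕ) (hq : q.Prime) (h : q ∣ Nat.card P) : q = p := by
  obtain ⟨k, hk⟩ := IsPGroup.iff_card.mp hP
  rw [hk] at h
  exact (Nat.prime_dvd_prime_iff_eq hq Fact.out).mp (hq.dvd_of_dvd_pow h)

theorem dvd_card_pgroup {G : Type*} [Group G] [Finite G] {p : ℕ} [Fact p.Prime]
    (P : Subgroup G) (hP : IsPGroup p P) (h1 : P ≠ ⊥) : p ∣ Nat.card P := by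
  obtain ⟨k, hk⟩ := IsPGroup.iff_card.mp hP
  rw [hk]
  apply dvd_pow_self
  rintro rfl
  rw [pow_zero] at hk
  exact h1 (Subgroup.card_eq_one.mp hk)

theorem result {G : Type*} [Group G] [Finite G] (K M : Subgroup G) [K.Normal] [M.Normal] (hKM : K ≤ M)
    (p q r : ℕ) (hp : p.Prime) (hq : q.Prime) (hr : r.Prime) (hpq : p ≠ q) (hpr : p ≠ r) (hqr : q ≠ r)
    (hpK : p ∣ Nat.card ↥K) (hqM : q ∣ Nat.card ↥M / Nat.card ↥K) (hrG : r ∣ Nat.card G / Nat.card ↥M) :
    (∃ x : G, orderOf x = p * q) ∨ (∃ x : G, orderOf x = p * r) ∨ (∃ x : G, orderOf x = q * r) := by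
  by_contra hcon
  push Not at hcon
  obtain ⟨h1, h2, h3⟩ := hcon
  haveI : Fact p.Prime := ⟨hp⟩
  haveI : Fact q.Prime := ⟨hq⟩
  haveI : Fact r.Prime := ⟨hr⟩
  -- numeric facts
  have hq' : q ∣ K.relIndex M := by
    have := Cfsg.Agent.Lib.Helper6.card_mul_relIndex_of_le hKM
    rw [← this, Nat.mul_div_cancel_left _ Nat.card_pos] at hqM
    exact hqM
  have hr' : r ∣ M.index := by
    have := Subgroup.card_mul_index M
    rw [← this, Nat.mul_div_cancel_left _ Nat.card_pos] at hrG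
    exact hrG
  -- first Frattini
  obtain ⟨P₀⟩ : Nonempty (Sylow p K) := inferInstance
  obtain ⟨P, hPdef⟩ : ∃ P : Subgroup G, P = (P₀ : Subgroup K).map K.subtype := ⟨_, rfl⟩
  obtain ⟨N, hN⟩ : ∃ N : Subgroup G, N = Subgroup.normalizer (P : Set G) := ⟨_, rfl⟩
  have hP : IsPGroup p P := hPdef ▸ P₀.isPGroup'.map _
  have hP1 : P ≠ ⊥ := by
    rw [hPdef]
    intro h
    rw [Subgroup.map_eq_bot_iff_of_injective _ K.subtype_injective] at h
    exact P₀.ne_bot_of_dvd_card hpK h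
  obtain ⟨hNK, -⟩ := frattini_card K P₀ N (hPdef ▸ hN)
  -- (M ⊓ N) ⊔ K = M
  have hMN : (M ⊓ N) ⊔ K = M := by
    apply le_antisymm (sup_le inf_le_left hKM)
    intro m hm
    have hm' : m ∈ N ⊔ K := hNK ▸ Subgroup.mem_top m
    rw [Subgroup.mem_sup_of_normal_right] at hm'
    obtain ⟨n, hn, k, hk, rfl⟩ := hm'
    have hnM : n ∈ M := by
      have := M.mul_mem hm (M.inv_mem (hKM hk))
      simpa using this
    exact Subgroup.mul_mem_sup ⟨hnM, hn⟩ hk
  have hqMN : q ∣ Nat.card (M ⊓ N : Subgroup G) := by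
    have h : K.relIndex (M ⊓ N) = K.relIndex M := by
      rw [← Subgroup.relIndex_sup_right, hMN]
    rw [← h] at hq'
    exact hq'.trans (Subgroup.relIndex_dvd_card _ _)
  have hrMN : r ∣ M.relIndex N := by
    have hNM : N ⊔ M = ⊤ := by
      rw [eq_top_iff, ← hNK]
      exact sup_le_sup_left hKM N
    have h : M.relIndex N = M.index := by
      rw [← Subgroup.relIndex_sup_right, hNM, Subgroup.relIndex_top_right]
    rw [h]; exact hr'
  -- second Frattini, inside N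
  have hM'card : Nat.card (M.subgroupOf N) = Nat.card (M ⊓ N : Subgroup G) := by
    rw [← Subgroup.inf_subgroupOf_right M N]
    exact Cfsg.Agent.Lib.Helper29.card_subgroupOf_of_le inf_le_right
  obtain ⟨Q₀⟩ : Nonempty (Sylow q (M.subgroupOf N)) := inferInstance
  obtain ⟨Q2, hQ2⟩ : ∃ Q2 : Subgroup N, Q2 = (Q₀ : Subgroup (M.subgroupOf N)).map
      (M.subgroupOf N).subtype := ⟨_, rfl⟩
  obtain ⟨N₂, hN₂⟩ : ∃ N₂ : Subgroup N, N₂ = Subgroup.normalizer (Q2 : Set N) := ⟨_, rfl⟩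
  obtain ⟨-, hidx⟩ := frattini_card (M.subgroupOf N) Q₀ N₂ (hQ2 ▸ hN₂)
  have hrN₂ : r ∣ Nat.card N₂ := hrMN.trans hidx
  obtain ⟨y', hy'⟩ := exists_prime_orderOf_dvd_card' r hrN₂
  have hQ2p : IsPGroup q Q2 := hQ2 ▸ Q₀.isPGroup'.map _
  have hQ21 : Q2 ≠ ⊥ := by
    rw [hQ2]
    intro h
    rw [Subgroup.map_eq_bot_iff_of_injective _ (M.subgroupOf N).subtype_injective] at h
    exact Q₀.ne_bot_of_dvd_card (hM'card ▸ hqMN) h
  obtain ⟨Q, hQdef⟩ : ∃ Q : Subgroup G, Q = Q2.map N.subtype := ⟨_, rfl⟩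
  have hQp : IsPGroup q Q := hQdef ▸ hQ2p.map _
  have hQ1 : Q ≠ ⊥ := by
    rw [hQdef]
    intro h
    rw [Subgroup.map_eq_bot_iff_of_injective _ N.subtype_injective] at h
    exact hQ21 h
  have hQN : Q ≤ N := hQdef ▸ Subgroup.map_subtype_le _
  obtain ⟨y, hydef⟩ : ∃ y : G, y = ((y' : N) : G) := ⟨_, rfl⟩
  have hyN : y ∈ N := hydef ▸ (y' : N).2
  have hyo : orderOf y = r := by
    rw [hydef, Subgroup.orderOf_coe, Subgroup.orderOf_coe, hy']
  have hyQ : y ∈ Subgroup.normalizer (Q : Set G) := by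
    apply Cfsg.Agent.Lib.Helper24.mem_normalizer_of_conj_mem
    intro z hz
    rw [hQdef] at hz ⊢
    obtain ⟨z', hz', rfl⟩ := hz
    have hy'n : (y' : N) ∈ Subgroup.normalizer (Q2 : Set N) := hN₂ ▸ y'.2
    have := (Subgroup.mem_normalizer_iff.mp hy'n z').mp hz'
    refine ⟨(y' : N) * z' * (y' : N)⁻¹, this, ?_⟩
    rw [hydef]
    simp
  have hAQ : Subgroup.zpowers y ≤ Subgroup.normalizer (Q : Set G) :=
    (Subgroup.zpowers_le).mpr hyQ
  have hAcard : Nat.card (Subgroup.zpowers y) = r := by rw [Nat.card_zpowers, hyo]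
  have hAsolv : Group.IsSolvable (Subgroup.zpowers y) := by
    haveI : IsCyclic (Subgroup.zpowers y) := inferInstance
    letI : CommGroup (Subgroup.zpowers y) := IsCyclic.commGroup
    infer_instance
  have hTsolv := Cfsg.Agent.Lib.Helper20.isSolvable_sup_of_le_normalizer Q (Subgroup.zpowers y)
    hAQ (isSolvable_of_isPGroup Q hQp) hAsolv
  have hTdvd := Cfsg.Agent.S3633.card_sup_dvd Q (Subgroup.zpowers y) hAQ
  rw [hAcard] at hTdvd
  have hTN : Q ⊔ Subgroup.zpowers y ≤ Subgroup.normalizer (P : Set G) := by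
    rw [← hN]
    exact sup_le hQN ((Subgroup.zpowers_le).mpr hyN)
  have hLsolv := Cfsg.Agent.Lib.Helper20.isSolvable_sup_of_le_normalizer P
    (Q ⊔ Subgroup.zpowers y) hTN (isSolvable_of_isPGroup P hP) hTsolv
  have hLdvd := Cfsg.Agent.S3633.card_sup_dvd P (Q ⊔ Subgroup.zpowers y) hTN
  have hQL : Q ≤ P ⊔ (Q ⊔ Subgroup.zpowers y) := le_sup_left.trans le_sup_right
  have hAL : Subgroup.zpowers y ≤ P ⊔ (Q ⊔ Subgroup.zpowers y) := le_sup_right.trans le_sup_right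
  refine Cfsg.Agent.S3633.no_three (P ⊔ (Q ⊔ Subgroup.zpowers y)) hLsolv p q r hp hq hr hpq hpr hqr
    ((dvd_card_pgroup P hP hP1).trans (Subgroup.card_dvd_of_le le_sup_left))
    ((dvd_card_pgroup Q hQp hQ1).trans (Subgroup.card_dvd_of_le hQL))
    (hAcard ▸ Subgroup.card_dvd_of_le hAL) ?_ (fun ⟨x, hx⟩ => h1 x hx) (fun ⟨x, hx⟩ => h2 x hx)
    (fun ⟨x, hx⟩ => h3 x hx)
  intro s hs hsd
  rcases (Nat.Prime.dvd_mul hs).mp (hsd.trans hLdvd) with h | h
  · exact Or.inl (prime_dvd_card_pgroup P hP s hs h)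
  · rcases (Nat.Prime.dvd_mul hs).mp (h.trans hTdvd) with h | h
    · exact Or.inr (Or.inl (prime_dvd_card_pgroup Q hQp s hs h))
    · exact Or.inr (Or.inr ((Nat.prime_dvd_prime_iff_eq hs hr).mp h))

end Cfsg.Agent.S3634
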