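import Cfsg.Statements.S3678
import Mathlib
import Cfsg.Agent.Lib.Helper5.PGEightB
import Cfsg.Agent.Lib.Helper5.PGSevenB

set_option autoImplicit false
open Cfsg

namespace Cfsg.Agent.S3678

open Cfsg.Agent.Lib.Helper5.Spec

/-- The prime graph of a finite group has the prime divisors of its order as vertices, two distinct primes p, q being joined when the group has an element of order pq; two groups have the same prime graph when they have the same prime divisors and the same joined pairs. Let F be the field with 7 elements. There are finite groups of arbitrarily large order with the same prime graph as PSL(2,F) (the graph on {2, 3, 7} with no edges, which is also the prime graph of PSL(2,8)). -/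
theorem result {F : Type*} [Field F] [Fintype F] (hF : Fintype.card F = 7) (N : ℕ) :
    ∃ (H : Type) (_ : Group H) (_ : Finite H), N < Nat.card H ∧
      ((∀ p : ℕ, p.Prime → (p ∣ Nat.card (Matrix.ProjectiveSpecialLinearGroup (Fin 2) F) ↔ p ∣ Nat.card H)) ∧
      (∀ p q : ℕ, p.Prime → q.Prime → p ≠ q → ((∃ g : (Matrix.ProjectiveSpecialLinearGroup (Fin 2) F), orderOf g = p * q) ↔ (∃ g : H, orderOf g = p * q)))) := by
  classical
  let K := GaloisField 2 3
  letI : Fintype K := Fintype.ofFinite K
  have hK : Fintype.card K = 8 := by
    rw [← Nat.card_eq_fintype_card]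
    have := GaloisField.card 2 3 (by norm_num)
    rw [this]; norm_num
  have h2 : (2 : K) = 0 := CharTwo.two_eq_zero
  refine ⟨fibreGroup (N + 1) K, inferInstance, inferInstance, card_fibre_gt N, ?_, ?_⟩
  · intro p hp
    rw [← primes_fibre h2 N p hp, primes_seven hF p hp, primes_eight hK h2 p hp]
  · intro p q hp hq hpq
    rw [← adj_fibre h2 N p q hp hq hpq]
    constructor
    · rintro ⟨g, hg⟩
      exact absurd hg (no_pq_seven hF p q hp hq hpq g)
    · rintro ⟨A, hA⟩
      exact absurd hA (no_pq_eight hK h2 p q hp hq hpq A)

end Cfsg.Agent.S3678
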