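import Mathlib
import Cfsg.Statements.S3681

set_option autoImplicit false
open Cfsg

namespace Cfsg.Agent.S3681

open Equiv MulAction

set_option linter.unusedSectionVars false
set_option linter.unusedVariables false

section

variable {Ω : Type*} [Fintype Ω] [DecidableEq Ω]

/-- Jordan: two permutations whose supports meet in exactly one point have a commutator
that is a 3-cycle. -/
theorem jordan_commutator (x y : Perm Ω) (γ : Ω) (hx : x γ ≠ γ) (hy : y γ ≠ γ)
    (h : ∀ ω, x ω ≠ ω → y ω ≠ ω → ω = γ) : (x * y * x⁻¹ * y⁻¹).IsThreeCycle := by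
  have Fx : ∀ ω, y ω ≠ ω → ω ≠ γ → x ω = ω := by
    intro ω h1 h2
    by_contra h3
    exact h2 (h ω h3 h1)
  have Fy : ∀ ω, x ω ≠ ω → ω ≠ γ → y ω = ω := by
    intro ω h1 h2
    by_contra h3
    exact h2 (h ω h1 h3)
  have hxx : x (x γ) ≠ x γ := fun e => hx (x.injective e)
  have hyy : y (y γ) ≠ y γ := fun e => hy (y.injective e)
  have hyx : y γ ≠ x γ := by
    intro e
    have h1 : y (x γ) ≠ x γ := by rw [← e]; exact hyy
    exact hx (h (x γ) hxx h1)
  -- preimages
  obtain ⟨β, hβ⟩ : ∃ β, y β = γ := ⟨y⁻¹ γ, by rw [← Perm.mul_apply, mul_inv_cancel, Perm.one_apply]⟩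
  obtain ⟨α, hα⟩ : ∃ α, x α = γ := ⟨x⁻¹ γ, by rw [← Perm.mul_apply, mul_inv_cancel, Perm.one_apply]⟩
  have hinvy : ∀ u v, y u = v → y⁻¹ v = u := fun u v e => by
    rw [Perm.inv_eq_iff_eq, e]
  have hinvx : ∀ u v, x u = v → x⁻¹ v = u := fun u v e => by
    rw [Perm.inv_eq_iff_eq, e]
  have hβγ : β ≠ γ := by intro e; rw [e] at hβ; exact hy hβ
  have hαγ : α ≠ γ := by intro e; rw [e] at hα; exact hx hα
  have hyβ : y β ≠ β := by rw [hβ]; exact Ne.symm hβγ
  have hxα : x α ≠ α := by rw [hα]; exact Ne.symm hαγ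
  have hxβ : x β = β := Fx β hyβ hβγ
  have hyα : y α = α := Fy α hxα hαγ
  have key : x * y * x⁻¹ * y⁻¹ = swap γ (y γ) * swap γ (x γ) := by
    ext ω
    simp only [Perm.mul_apply]
    by_cases h1 : ω = γ
    · subst h1
      rw [hinvy β ω hβ, hinvx β β hxβ, hβ, swap_apply_left,
        swap_apply_of_ne_of_ne hx (Ne.symm hyx)]
    by_cases h2 : ω = x γ
    · subst h2
      have e1 : y (x γ) = x γ := Fy (x γ) hxx hx
      have e2 : x (y γ) = y γ := Fx (y γ) hyy hy
      rw [hinvy _ _ e1, hinvx γ (x γ) rfl, e2, swap_apply_right, swap_apply_left]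
    by_cases h3 : ω = y γ
    · subst h3
      rw [hinvy γ (y γ) rfl, hinvx α γ hα, hyα, hα,
        swap_apply_of_ne_of_ne hy hyx, swap_apply_right]
    rw [swap_apply_of_ne_of_ne h1 h2, swap_apply_of_ne_of_ne h1 h3]
    by_cases h4 : y ω = ω
    · rw [hinvy ω ω h4]
      by_cases h5 : x ω = ω
      · rw [hinvx ω ω h5, h4, h5]
      · obtain ⟨α', hα'⟩ : ∃ α', x α' = ω :=
          ⟨x⁻¹ ω, by rw [← Perm.mul_apply, mul_inv_cancel, Perm.one_apply]⟩
        have hα'ω : α' ≠ ω := by intro e; rw [e] at hα'; exact h5 hα'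
        have hα'γ : α' ≠ γ := by intro e; rw [e] at hα'; exact h2 hα'.symm
        have hxα' : x α' ≠ α' := by rw [hα']; exact Ne.symm hα'ω
        rw [hinvx α' ω hα', Fy α' hxα' hα'γ, hα']
    · obtain ⟨β', hβ'⟩ : ∃ β', y β' = ω :=
        ⟨y⁻¹ ω, by rw [← Perm.mul_apply, mul_inv_cancel, Perm.one_apply]⟩
      have hβ'ω : β' ≠ ω := by intro e; rw [e] at hβ'; exact h4 hβ'
      have hβ'γ : β' ≠ γ := by intro e; rw [e] at hβ'; exact h3 hβ'.symm
      have hyβ' : y β' ≠ β' := by rw [hβ']; exact Ne.symm hβ'ω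
      have hxβ' : x β' = β' := Fx β' hyβ' hβ'γ
      rw [hinvy β' ω hβ', hinvx β' β' hxβ', hβ', Fx ω h4 h1]
  rw [key]
  exact Perm.isThreeCycle_swap_mul_swap_same (Ne.symm hy) (Ne.symm hx) hyx

/-- Bochert's bound for a primitive subgroup of `Perm Ω`. -/
theorem bochert_subgroup (R : Subgroup (Perm Ω)) (hprim : IsPreprimitive R Ω)
    (hA : ¬ alternatingGroup Ω ≤ R) :
    Nat.card R * Nat.factorial ((Fintype.card Ω + 1) / 2) ≤ Nat.factorial (Fintype.card Ω) := by
  classical
  -- the property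
  let P : Finset Ω → Prop := fun Δ => ∀ σ ∈ R, (∀ ω, ω ∉ Δ → σ ω = ω) → σ = 1
  have hP0 : P ∅ := by
    intro σ _ hσ
    ext ω
    exact hσ ω (Finset.notMem_empty ω)
  obtain ⟨Δ, hΔmem, hΔmax⟩ := (Finset.univ.filter P).exists_max_image Finset.card
    ⟨∅, Finset.mem_filter.2 ⟨Finset.mem_univ _, hP0⟩⟩
  have hPΔ : P Δ := (Finset.mem_filter.1 hΔmem).2
  have hmax : ∀ Δ' : Finset Ω, Δ.card < Δ'.card → ¬ P Δ' := by
    intro Δ' hlt hP'
    have := hΔmax Δ' (Finset.mem_filter.2 ⟨Finset.mem_univ _, hP'⟩)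
    omega
  -- size
  have hsize : Fintype.card Ω ≤ 2 * Δ.card := by
    by_contra hcon
    push Not at hcon
    have hc : Δ.card < Δᶜ.card := by
      rw [Finset.card_compl]; omega
    have h1 := hmax _ hc
    simp only [P] at h1
    push Not at h1
    obtain ⟨x, hxR, hxfix, hx1⟩ := h1
    obtain ⟨γ, hγ⟩ : ∃ γ, x γ ≠ γ := by
      by_contra hc'
      push Not at hc'
      exact hx1 (Equiv.ext hc')
    have hγΔ : γ ∉ Δ := by
      intro hmem
      apply hγ
      apply hxfix
      rw [Finset.mem_compl]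
      exact fun h => h hmem
    have hc2 : Δ.card < (insert γ Δ).card := by
      rw [Finset.card_insert_of_notMem hγΔ]; omega
    have h2 := hmax _ hc2
    simp only [P] at h2
    push Not at h2
    obtain ⟨y, hyR, hyfix, hy1⟩ := h2
    have hyγ : y γ ≠ γ := by
      intro e
      apply hy1
      apply hPΔ y hyR
      intro ω hω
      by_cases hωγ : ω = γ
      · rw [hωγ]; exact e
      · apply hyfix
        rw [Finset.mem_insert]
        push Not
        exact ⟨hωγ, hω⟩
    have hsupp : ∀ ω, x ω ≠ ω → y ω ≠ ω → ω = γ := by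
      intro ω h1 h2
      by_contra h3
      have hωΔ : ω ∉ Δ := by
        intro hmem
        apply h1
        apply hxfix
        rw [Finset.mem_compl]
        exact fun h => h hmem
      apply h2
      apply hyfix
      rw [Finset.mem_insert]
      push Not
      exact ⟨h3, hωΔ⟩
    have h3c := jordan_commutator x y γ hγ hyγ hsupp
    have hmemR : x * y * x⁻¹ * y⁻¹ ∈ R :=
      R.mul_mem (R.mul_mem (R.mul_mem hxR hyR) (R.inv_mem hxR)) (R.inv_mem hyR)
    exact hA (Perm.alternatingGroup_le_of_isPreprimitive_of_isThreeCycle_mem hprim h3c hmemR)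
  -- counting
  have hinj : Function.Injective
      (fun q : R × Perm {ω // ω ∈ Δ} => (q.1 : Perm Ω) * Perm.ofSubtype q.2) := by
    rintro ⟨g, s⟩ ⟨g', s'⟩ e
    simp only at e
    have e1 : (g' : Perm Ω)⁻¹ * g = Perm.ofSubtype (s' * s⁻¹) := by
      rw [map_mul, map_inv, eq_mul_inv_iff_mul_eq, mul_assoc, e, ← mul_assoc, inv_mul_cancel,
        one_mul]
    have e2 : (g' : Perm Ω)⁻¹ * g = 1 := by
      apply hPΔ _ (R.mul_mem (R.inv_mem g'.2) g.2)
      intro ω hω
      rw [e1, Perm.ofSubtype_apply_of_not_mem _ hω]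
    have e3 : (g : Perm Ω) = g' := by
      rw [inv_mul_eq_one] at e2
      exact e2.symm
    have e4 : Perm.ofSubtype s = Perm.ofSubtype s' := by
      rw [e3] at e
      exact mul_left_cancel e
    exact Prod.ext (Subtype.ext e3) (Perm.ofSubtype_injective e4)
  have hcount := Nat.card_le_card_of_injective _ hinj
  rw [Nat.card_prod, Nat.card_perm, Nat.card_perm, Nat.card_eq_fintype_card (α := Ω),
    Nat.card_eq_fintype_card (α := {ω // ω ∈ Δ}), Fintype.card_coe] at hcount
  have hfac : Nat.factorial ((Fintype.card Ω + 1) / 2) ≤ Nat.factorial Δ.card :=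
    Nat.factorial_le (by omega)
  exact le_trans (Nat.mul_le_mul_left _ hfac) hcount

end

/-- Bochert's bound for primitive groups. Let a finite group G act faithfully and primitively on a finite set Ω with n elements, and suppose the image of G in the symmetric group of Ω does not contain the alternating group of Ω. Then |G| · ⌊(n + 1)/2⌋! ≤ n!, that is, the index of G in the symmetric group is at least ⌊(n + 1)/2⌋!. -/
theorem result {G Ω : Type*} [Group G] [Finite G] [MulAction G Ω] [FaithfulSMul G Ω] [Fintype Ω] [DecidableEq Ω]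
    (hprim : MulAction.IsPreprimitive G Ω) (hA : ¬ alternatingGroup Ω ≤ (MulAction.toPermHom G Ω).range) :
    Nat.card G * Nat.factorial ((Fintype.card Ω + 1) / 2) ≤ Nat.factorial (Fintype.card Ω) := by
  classical
  have hinj : Function.Injective (MulAction.toPermHom G Ω) := MulAction.toPerm_injective
  have hcard : Nat.card (MulAction.toPermHom G Ω).range = Nat.card G :=
    (Nat.card_congr (MonoidHom.ofInjective hinj).toEquiv).symm
  have hprimR : MulAction.IsPreprimitive (MulAction.toPermHom G Ω).range Ω := by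
    let φ : G → (MulAction.toPermHom G Ω).range := fun g => ⟨MulAction.toPermHom G Ω g, ⟨g, rfl⟩⟩
    let f : Ω →ₑ[φ] Ω := { toFun := id, map_smul' := fun g x => rfl }
    exact MulAction.IsPreprimitive.of_surjective (f := f) Function.surjective_id
  have := bochert_subgroup _ hprimR hA
  rwa [hcard] at this

end Cfsg.Agent.S3681
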