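import Cfsg.Statements.S3683

set_option autoImplicit false
open Cfsg

namespace Cfsg.Agent.S3683

theorem result {G Ω : Type*} [Group G] [Finite G] [MulAction G Ω] [FaithfulSMul G Ω] [Finite Ω]
    (hprim : MulAction.IsPreprimitive G Ω) (a b : Ω) (hab : a ≠ b) (hfix : ∀ g : G, g • a = a → g • b = b) :
    MulAction.stabilizer G a = ⊥ ∧ IsCyclic G ∧ (Nat.card G).Prime := by
  classical
  have : Nontrivial Ω := ⟨⟨a, b, hab⟩⟩
  have : MulAction.IsPretransitive G Ω := hprim.toIsPretransitive
  have hcoa : IsCoatom (MulAction.stabilizer G a) :=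
    MulAction.IsPreprimitive.isCoatom_stabilizer_of_isPreprimitive (G := G) a
  have hcob : IsCoatom (MulAction.stabilizer G b) :=
    MulAction.IsPreprimitive.isCoatom_stabilizer_of_isPreprimitive (G := G) b
  have hle : MulAction.stabilizer G a ≤ MulAction.stabilizer G b := by
    intro g hg
    exact hfix g hg
  have heq : MulAction.stabilizer G a = MulAction.stabilizer G b := by
    by_contra hne
    exact hcob.1 (hcoa.2 _ (lt_of_le_of_ne hle hne))
  obtain ⟨g, hg⟩ := MulAction.exists_smul_eq G a b
  -- g normalizes the stabilizer of a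
  have hgnorm : g ∈ Subgroup.normalizer (MulAction.stabilizer G a : Set G) := by
    rw [Subgroup.mem_normalizer_iff]
    intro h
    rw [MulAction.mem_stabilizer_iff]
    have hginv : g⁻¹ • b = a := by rw [← hg, inv_smul_smul]
    have : g * h * g⁻¹ ∈ MulAction.stabilizer G a ↔ h ∈ MulAction.stabilizer G a := by
      conv_lhs => rw [heq]
      rw [MulAction.mem_stabilizer_iff, MulAction.mem_stabilizer_iff, mul_smul, mul_smul, hginv]
      constructor
      · intro h1
        have h2 : g • h • a = g • a := by rw [h1, hg]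
        exact smul_left_cancel g h2
      · intro h1
        rw [h1, hg]
    exact this.symm
  have hgnot : g ∉ MulAction.stabilizer G a := by
    intro h
    rw [MulAction.mem_stabilizer_iff] at h
    exact hab (h.symm.trans hg)
  have hnormtop : Subgroup.normalizer (MulAction.stabilizer G a : Set G) = ⊤ := by
    apply hcoa.2
    apply lt_of_le_of_ne Subgroup.le_normalizer
    intro h
    exact hgnot (h ▸ hgnorm)
  have hnormal : (MulAction.stabilizer G a).Normal := Subgroup.normalizer_eq_top_iff.mp hnormtop
  have hbot : MulAction.stabilizer G a = ⊥ := by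
    rw [Subgroup.eq_bot_iff_forall]
    intro h hh
    apply FaithfulSMul.eq_of_smul_eq_smul (α := Ω)
    intro x
    obtain ⟨k, rfl⟩ := MulAction.exists_smul_eq G a x
    rw [one_smul]
    have : k⁻¹ * h * k⁻¹⁻¹ ∈ MulAction.stabilizer G a := hnormal.conj_mem h hh k⁻¹
    rw [MulAction.mem_stabilizer_iff, inv_inv, mul_smul, mul_smul] at this
    rw [inv_smul_eq_iff] at this
    exact this
  refine ⟨hbot, ?_⟩
  rw [hbot] at hcoa
  have hsub : ∀ K : Subgroup G, K = ⊥ ∨ K = ⊤ := by
    intro K
    by_cases hK : K = ⊥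
    · exact Or.inl hK
    · exact Or.inr (hcoa.2 K (bot_lt_iff_ne_bot.mpr hK))
  have hg1 : g ≠ 1 := by
    rintro rfl
    rw [one_smul] at hg
    exact hab hg
  have hcyc : IsCyclic G := by
    refine ⟨⟨g, ?_⟩⟩
    intro x
    rcases hsub (Subgroup.zpowers g) with h | h
    · exfalso
      apply hg1
      have : g ∈ Subgroup.zpowers g := Subgroup.mem_zpowers g
      rw [h] at this
      exact Subgroup.mem_bot.mp this
    · have : x ∈ Subgroup.zpowers g := h ▸ Subgroup.mem_top x
      exact this
  refine ⟨hcyc, ?_⟩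
  let _ : CommGroup G := IsCyclic.commGroup
  have : Nontrivial G := ⟨⟨g, 1, hg1⟩⟩
  have : IsSimpleGroup G := ⟨fun K _ => hsub K⟩
  exact IsSimpleGroup.prime_card

end Cfsg.Agent.S3683
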