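import Mathlib
import Cfsg.Statements.S3696

set_option autoImplicit false
open Cfsg

namespace Cfsg.Agent.S3696

theorem amgm_real (a b : ℝ) (d e : ℕ) (ha : 0 ≤ a) (hb : 0 ≤ b) (hd : 0 < d) (he : 0 < e) :
    a ^ d * b ^ e * ((d : ℝ) + e) ^ (d + e) ≤ (a + b) ^ (d + e) * (d : ℝ) ^ d * (e : ℝ) ^ e := by
  have hdr : (0 : ℝ) < d := by exact_mod_cast hd
  have her : (0 : ℝ) < e := by exact_mod_cast he
  have hr : (0 : ℝ) < (d : ℝ) + e := by positivity
  set r : ℝ := (d : ℝ) + e with hrdef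
  have h1 := Real.geom_mean_le_arith_mean2_weighted (w₁ := d / r) (w₂ := e / r)
    (p₁ := a / d) (p₂ := b / e) (by positivity) (by positivity) (by positivity) (by positivity)
    (by rw [← add_div, div_self hr.ne'])
  have h2 : (d / r * (a / d) + e / r * (b / e) : ℝ) = (a + b) / r := by
    field_simp
  rw [h2] at h1
  have h3 : ((a / d) ^ ((d : ℝ) / r) * (b / e) ^ ((e : ℝ) / r)) ^ (d + e) ≤ ((a + b) / r) ^ (d + e) :=
    pow_le_pow_left₀ (by positivity) h1 _
  have h4 : ((a / d) ^ ((d : ℝ) / r) * (b / e) ^ ((e : ℝ) / r)) ^ (d + e)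
      = (a / d) ^ d * (b / e) ^ e := by
    rw [mul_pow]
    have hde : ((d + e : ℕ) : ℝ) = r := by push_cast; rfl
    congr 1
    · rw [← Real.rpow_natCast, ← Real.rpow_mul (by positivity), hde, div_mul_cancel₀ _ hr.ne',
        Real.rpow_natCast]
    · rw [← Real.rpow_natCast, ← Real.rpow_mul (by positivity), hde, div_mul_cancel₀ _ hr.ne',
        Real.rpow_natCast]
  rw [h4, div_pow, div_pow, div_pow] at h3
  have h5 : a ^ d / (d : ℝ) ^ d * (b ^ e / (e : ℝ) ^ e) = a ^ d * b ^ e / ((d : ℝ) ^ d * (e : ℝ) ^ e) := by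
    field_simp
  rw [h5, div_le_div_iff₀ (by positivity) (by positivity)] at h3
  linarith [h3]

theorem amgm_nat (a b d e : ℕ) (hd : 0 < d) (he : 0 < e) :
    a ^ d * b ^ e * (d + e) ^ (d + e) ≤ (a + b) ^ (d + e) * d ^ d * e ^ e := by
  have := amgm_real a b d e (by positivity) (by positivity) hd he
  exact_mod_cast this

theorem N1 (a d : ℕ) (hd : 1 ≤ d) (ha : 2 ^ d ≤ a) : a * d ^ d ≤ a ^ d := by
  obtain ⟨c, rfl⟩ : ∃ c, d = c + 1 := ⟨d - 1, by omega⟩
  have h1 : c + 1 ≤ 2 ^ c := Nat.lt_two_pow_self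
  have h2 : (c + 1) ^ (c + 1) ≤ a ^ c := by
    calc (c + 1) ^ (c + 1) ≤ (2 ^ c) ^ (c + 1) := Nat.pow_le_pow_left h1 _
      _ = (2 ^ (c + 1)) ^ c := by rw [← pow_mul, ← pow_mul, mul_comm]
      _ ≤ a ^ c := Nat.pow_le_pow_left ha _
  calc a * (c + 1) ^ (c + 1) ≤ a * a ^ c := Nat.mul_le_mul_left a h2
    _ = a ^ (c + 1) := by rw [pow_succ]; ring

theorem numeric (a b X r' d : ℕ) (hd : 1 ≤ d) (ha : 2 ^ d ≤ a) (hX : X * r' ^ r' ≤ b ^ r') :
    a * X * (r' + d) ^ (r' + d) ≤ (a + b) ^ (r' + d) := by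
  have hn1 := N1 a d hd ha
  rcases Nat.eq_zero_or_pos r' with rfl | hr'
  · simp only [pow_zero, mul_one, zero_add] at hX ⊢
    calc a * X * d ^ d ≤ a * 1 * d ^ d := by gcongr
      _ = a * d ^ d := by ring
      _ ≤ a ^ d := hn1
      _ ≤ (a + b) ^ d := Nat.pow_le_pow_left (Nat.le_add_right a b) d
  · have h2 := amgm_nat a b d r' hd hr'
    have hpos : 0 < d ^ d * r' ^ r' := by positivity
    apply Nat.le_of_mul_le_mul_right _ hpos
    calc a * X * (r' + d) ^ (r' + d) * (d ^ d * r' ^ r')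
        = (a * d ^ d) * (X * r' ^ r') * (r' + d) ^ (r' + d) := by ring
      _ ≤ a ^ d * b ^ r' * (r' + d) ^ (r' + d) := by gcongr
      _ = a ^ d * b ^ r' * (d + r') ^ (d + r') := by rw [add_comm r' d]
      _ ≤ (a + b) ^ (d + r') * d ^ d * r' ^ r' := h2
      _ = (a + b) ^ (r' + d) * (d ^ d * r' ^ r') := by rw [add_comm r' d]; ring

open Equiv

section grp
variable {Ω : Type*} [Fintype Ω] [DecidableEq Ω]

/-- elements of order dividing `p` in a commutative subgroup -/
def Om (p : ℕ) (L : Subgroup (Perm Ω)) (hL : ∀ x ∈ L, ∀ y ∈ L, x * y = y * x) :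
    Subgroup (Perm Ω) where
  carrier := {x | x ∈ L ∧ x ^ p = 1}
  one_mem' := ⟨L.one_mem, one_pow p⟩
  mul_mem' := by
    rintro x y ⟨hx, hxp⟩ ⟨hy, hyp⟩
    refine ⟨L.mul_mem hx hy, ?_⟩
    have hc : Commute x y := hL x hx y hy
    rw [hc.mul_pow, hxp, hyp, one_mul]
  inv_mem' := by
    rintro x ⟨hx, hxp⟩
    exact ⟨L.inv_mem hx, by rw [inv_pow, hxp, inv_one]⟩

theorem mem_Om {p : ℕ} {L : Subgroup (Perm Ω)} {hL : ∀ x ∈ L, ∀ y ∈ L, x * y = y * x}
    {x : Perm Ω} : x ∈ Om p L hL ↔ x ∈ L ∧ x ^ p = 1 := Iff.rfl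

theorem card_Om (p : ℕ) (L : Subgroup (Perm Ω)) (hL : ∀ x ∈ L, ∀ y ∈ L, x * y = y * x) :
    Nat.card {x : L // x ^ p = 1} = Nat.card (Om p L hL) := by
  refine Nat.card_congr ⟨fun x => ⟨x.1.1, x.1.2, by
      have := congrArg Subtype.val x.2
      simpa using this⟩, fun y => ⟨⟨y.1, y.2.1⟩, Subtype.ext (by simpa using y.2.2)⟩, ?_, ?_⟩
  · intro x; rfl
  · intro y; rfl

/-- the orbit of `ω` under `A` as a finset -/
noncomputable def Orb (A : Subgroup (Perm Ω)) (ω : Ω) : Finset Ω :=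
  letI := Classical.decPred (fun ω' => ∃ a ∈ A, a ω = ω')
  Finset.univ.filter (fun ω' => ∃ a ∈ A, a ω = ω')

theorem mem_Orb {A : Subgroup (Perm Ω)} {ω ω' : Ω} : ω' ∈ Orb A ω ↔ ∃ a ∈ A, a ω = ω' := by
  simp [Orb]

theorem card_le_orb (A H : Subgroup (Perm Ω)) (hHA : H ≤ A) (ω : Ω) :
    Nat.card H ≤ (Orb A ω).card * Nat.card ↥(H ⊓ MulAction.stabilizer (Perm Ω) ω) := by
  have h1 := Subgroup.card_mul_index (MulAction.stabilizer ↥H ω)
  rw [MulAction.index_stabilizer] at h1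
  have h2 : (MulAction.orbit ↥H ω).ncard ≤ (Orb A ω).card := by
    rw [← Set.ncard_coe_finset]
    apply Set.ncard_le_ncard _ (Finset.finite_toSet _)
    rintro _ ⟨x, rfl⟩
    rw [Finset.mem_coe, mem_Orb]
    exact ⟨x.1, hHA x.2, rfl⟩
  have h3 : Nat.card (MulAction.stabilizer ↥H ω) =
      Nat.card ↥(H ⊓ MulAction.stabilizer (Perm Ω) ω) := by
    refine Nat.card_congr ⟨fun x => ⟨x.1.1, Subgroup.mem_inf.2 ⟨x.1.2, x.2⟩⟩,
      fun y => ⟨⟨y.1, (Subgroup.mem_inf.1 y.2).1⟩, (Subgroup.mem_inf.1 y.2).2⟩, ?_, ?_⟩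
    · intro x; rfl
    · intro y; rfl
  rw [← h1, h3, mul_comm]
  exact Nat.mul_le_mul_right _ h2

theorem main_ind (p : ℕ) (hp : p.Prime) (A : Subgroup (Perm Ω)) (hA : IsPGroup p A)
    (hcA : ∀ x ∈ A, ∀ y ∈ A, x * y = y * x) :
    ∀ (N : ℕ) (S : Finset Ω) (L : Subgroup (Perm Ω)) (hLA : L ≤ A) (r : ℕ), S.card = N →
      (∀ a ∈ A, ∀ ω ∈ S, a ω ∈ S) → (∀ x ∈ L, (∀ ω ∈ S, x ω = ω) → x = 1) →
      Nat.card (Om p L (fun x hx y hy => hcA x (hLA hx) y (hLA hy))) = p ^ r →
      Nat.card L * r ^ r ≤ N ^ r := by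
  haveI : Fact p.Prime := ⟨hp⟩
  intro N
  induction N using Nat.strong_induction_on with
  | _ N ih =>
    intro S L hLA r hSN hinv hfaith hr
    have hcL : ∀ x ∈ L, ∀ y ∈ L, x * y = y * x := fun x hx y hy => hcA x (hLA hx) y (hLA hy)
    rcases Nat.eq_zero_or_pos r with rfl | hrpos
    · -- L is trivial
      have hbot : L = ⊥ := by
        rw [Subgroup.eq_bot_iff_forall]
        intro x hx
        by_contra hx1
        obtain ⟨j, hj⟩ := (hA.to_le hLA) ⟨x, hx⟩
        have hj' : x ^ p ^ j = 1 := by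
          have := congrArg Subtype.val hj
          simpa using this
        -- minimal j
        have hex : ∃ j, x ^ p ^ j = 1 := ⟨j, hj'⟩
        classical
        let j0 := Nat.find hex
        have hj0 : x ^ p ^ j0 = 1 := Nat.find_spec hex
        have hj0pos : j0 ≠ 0 := by
          intro h0
          rw [h0, pow_zero, pow_one] at hj0
          exact hx1 hj0
        obtain ⟨i, hi⟩ : ∃ i, j0 = i + 1 := ⟨j0 - 1, by omega⟩
        have hmin : ¬ x ^ p ^ i = 1 := Nat.find_min hex (by omega)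
        have hy : x ^ p ^ i ∈ Om p L hcL := by
          refine ⟨L.pow_mem hx _, ?_⟩
          rw [← pow_mul, ← pow_succ, ← hi]; exact hj0
        have hcard1 : Nat.card (Om p L hcL) = 1 := by rw [hr, pow_zero]
        have := Subgroup.card_eq_one.1 hcard1
        rw [this, Subgroup.mem_bot] at hy
        exact hmin hy
      rw [hbot]
      simp
    · -- r ≥ 1
      have hVne : Om p L hcL ≠ ⊥ := by
        intro h
        rw [h, Subgroup.card_bot] at hr
        have : 1 < p ^ r := Nat.one_lt_pow hrpos.ne' hp.one_lt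
        omega
      obtain ⟨v, hv1⟩ := (Subgroup.ne_bot_iff_exists_ne_one.1 hVne)
      have hvV' : (v : Perm Ω) ∈ Om p L hcL := v.2
      have hv1' : (v : Perm Ω) ≠ 1 := fun h => hv1 (Subtype.ext h)
      have hvL : (v : Perm Ω) ∈ L := hvV'.1
      obtain ⟨ω, hωS, hvω⟩ : ∃ ω ∈ S, (v : Perm Ω) ω ≠ ω := by
        by_contra hcon
        push Not at hcon
        exact hv1' (hfaith _ hvL hcon)
      set O := Orb A ω with hO
      set L' := L ⊓ MulAction.stabilizer (Perm Ω) ω with hL'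
      have hL'L : L' ≤ L := inf_le_left
      have hL'A : L' ≤ A := hL'L.trans hLA
      have hcL' : ∀ x ∈ L', ∀ y ∈ L', x * y = y * x :=
        fun x hx y hy => hcA x (hL'A hx) y (hL'A hy)
      have hOS : O ⊆ S := by
        intro ω' hω'
        obtain ⟨a, ha, rfl⟩ := mem_Orb.1 hω'
        exact hinv a ha ω hωS
      have hωO : ω ∈ O := mem_Orb.2 ⟨1, A.one_mem, rfl⟩
      have hn1pos : 0 < O.card := Finset.card_pos.2 ⟨ω, hωO⟩
      have hOinv : ∀ a ∈ A, ∀ ω' ∈ O, a ω' ∈ O := by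
        intro a ha ω' hω'
        obtain ⟨b, hb, rfl⟩ := mem_Orb.1 hω'
        exact mem_Orb.2 ⟨a * b, A.mul_mem ha hb, rfl⟩
      have hfixO : ∀ x ∈ L', ∀ ω' ∈ O, x ω' = ω' := by
        intro x hx ω' hω'
        obtain ⟨b, hb, rfl⟩ := mem_Orb.1 hω'
        have hxω : x ω = ω := (Subgroup.mem_inf.1 hx).2
        have hc := hcA x (hL'A hx) b hb
        have : x (b ω) = b (x ω) := by
          rw [← Perm.mul_apply, hc, Perm.mul_apply]
        rw [this, hxω]
      -- the smaller data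
      set S' := S \ O with hS'
      have hS'card : S'.card = N - O.card := by
        rw [hS', Finset.card_sdiff_of_subset hOS, hSN]
      have hOle : O.card ≤ N := by rw [← hSN]; exact Finset.card_le_card hOS
      have hinv' : ∀ a ∈ A, ∀ ω' ∈ S', a ω' ∈ S' := by
        intro a ha ω' hω'
        rw [hS', Finset.mem_sdiff] at hω' ⊢
        refine ⟨hinv a ha ω' hω'.1, fun h => hω'.2 ?_⟩
        have := hOinv a⁻¹ (A.inv_mem ha) _ h
        rwa [← Perm.mul_apply, inv_mul_cancel, Perm.one_apply] at this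
      have hfaith' : ∀ x ∈ L', (∀ ω' ∈ S', x ω' = ω') → x = 1 := by
        intro x hx hfix
        apply hfaith x (hL'L hx)
        intro ω' hω'
        by_cases h : ω' ∈ O
        · exact hfixO x hx ω' h
        · exact hfix ω' (Finset.mem_sdiff.2 ⟨hω', h⟩)
      -- ranks
      have hOmeq : Om p L' hcL' = Om p L hcL ⊓ MulAction.stabilizer (Perm Ω) ω := by
        ext x
        simp only [mem_Om, Subgroup.mem_inf, hL']
        tauto
      obtain ⟨r', hr'⟩ := (IsPGroup.iff_card).1 (hA.to_le (show Om p L' hcL' ≤ A from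
        fun x hx => hL'A hx.1))
      have hVle : Om p L' hcL' ≤ Om p L hcL := by rw [hOmeq]; exact inf_le_left
      have hvnot : (v : Perm Ω) ∉ Om p L' hcL' := by
        rw [hOmeq, Subgroup.mem_inf]
        exact fun h => hvω h.2
      have hdvd := Subgroup.card_dvd_of_le hVle
      rw [hr, hr'] at hdvd
      have hr'le : r' ≤ r := (Nat.pow_dvd_pow_iff_le_right hp.one_lt).1 hdvd
      have hr'ne : r' ≠ r := by
        intro h
        have hge : Nat.card (Om p L hcL) ≤ Nat.card (Om p L' hcL') := by rw [hr, hr', h]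
        have h9 := Subgroup.eq_of_le_of_card_ge hVle hge
        apply hvnot
        rw [h9]; exact hvV'
      obtain ⟨d, hd⟩ : ∃ d, r = r' + d := ⟨r - r', by omega⟩
      have hdpos : 1 ≤ d := by omega
      have hV1 := card_le_orb A (Om p L hcL) (fun x hx => hLA hx.1) ω
      rw [← hOmeq, hr, hr', ← hO, hd, pow_add] at hV1
      have hpd : p ^ d ≤ O.card := by
        have hpos : 0 < p ^ r' := pow_pos hp.pos _
        rw [mul_comm] at hV1
        exact Nat.le_of_mul_le_mul_right hV1 hpos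
      have h2d : 2 ^ d ≤ O.card := (Nat.pow_le_pow_left hp.two_le d).trans hpd
      have hL1 := card_le_orb A L hLA ω
      rw [← hL', ← hO] at hL1
      have hih := ih (N - O.card) (by omega) S' L' hL'A r' hS'card hinv' hfaith' hr'
      have hnum := numeric O.card (N - O.card) (Nat.card L') r' d hdpos h2d hih
      rw [Nat.add_sub_cancel' hOle, ← hd] at hnum
      calc Nat.card L * r ^ r ≤ O.card * Nat.card L' * r ^ r := Nat.mul_le_mul_right _ hL1
        _ ≤ N ^ r := hnum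

end grp

/-- Let p be a prime, Ω a finite set with n ≥ p elements, and A an abelian p-subgroup of the symmetric group on Ω whose elements of order dividing p number p^k (so k is the rank of A). Then |A| · k^k ≤ n^k, that is, |A| ≤ (n/k)^k. -/
theorem result {Ω : Type*} [Fintype Ω] [DecidableEq Ω]
    (p : ℕ) (hp : p.Prime) (hn : p ≤ Fintype.card Ω) (A : Subgroup (Equiv.Perm Ω)) (hA : IsPGroup p A) (hab : IsMulCommutative A)
    (k : ℕ) (hk : Nat.card {x : A // x ^ p = 1} = p ^ k) :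
    Nat.card A * k ^ k ≤ Fintype.card Ω ^ k := by
  classical
  have hcA : ∀ x ∈ A, ∀ y ∈ A, x * y = y * x := by
    intro x hx y hy
    have := (isMulCommutative_iff.1 hab) ⟨x, hx⟩ ⟨y, hy⟩
    exact congrArg Subtype.val this
  have h := main_ind p hp A hA hcA (Fintype.card Ω) Finset.univ A le_rfl k Finset.card_univ
    (fun a _ ω _ => Finset.mem_univ _)
    (fun x _ hx => by ext ω; exact hx ω (Finset.mem_univ _))
    (by rw [← card_Om, hk])
  exact h

end Cfsg.Agent.S3696
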