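import Cfsg.Statements.S3703
import Mathlib
import Cfsg.Agent.Lib.Helper13.CoprimeSylow
import Cfsg.Agent.Lib.Helper13.SZConjB
import Cfsg.Agent.Lib.Helper6.FrobTools

set_option autoImplicit false
open Cfsg

namespace Cfsg.Agent.S3703


section Count

variable {F A : Type*} [Group F] [CommGroup A] (act : F → A → A)

/-- A Frobenius-like group `M⟨y⟩` acting on an abelian group `A` on which the trace of `y`
vanishes: all `|M|`-th powers in `A` are fixed by `M`. -/
theorem frob_count2
    (act_mul : ∀ g h v, act (g * h) v = act g (act h v))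
    (act_one : ∀ v, act 1 v = v)
    (act_map_mul : ∀ g v w, act g (v * w) = act g v * act g w)
    (M : Subgroup F) [Finite M] (y : F) (n : ℕ) (hn : 0 < n) (hyn : y ^ n = 1)
    (hnorm : ∀ m ∈ M, y * m * y⁻¹ ∈ M)
    (hfix : ∀ i, 0 < i → i < n → ∀ m ∈ M, y ^ i * m = m * y ^ i → m = 1)
    (hT : ∀ w : A, ∏ i ∈ Finset.range n, act (y ^ i) w = 1) :
    ∀ v : A, ∀ m' ∈ M, act m' (v ^ Nat.card M) = v ^ Nat.card M := by
  classical
  have : Fintype M := Fintype.ofFinite M
  let φ : F → (A →* A) := fun g => MonoidHom.mk' (act g) (act_map_mul g)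
  have hφ : ∀ g v, φ g v = act g v := fun g v => rfl
  have act_prod : ∀ (g : F) {ι : Type} (s : Finset ι) (f : ι → A),
      act g (∏ i ∈ s, f i) = ∏ i ∈ s, act g (f i) := by
    intro g ι s f
    have := map_prod (φ g) f s
    simpa [hφ] using this
  have act_prod' : ∀ (g : F) (f : M → A),
      act g (∏ i, f i) = ∏ i, act g (f i) := by
    intro g f
    have := map_prod (φ g) f Finset.univ
    simpa [hφ] using this
  have act_one' : ∀ g, act g 1 = 1 := fun g => (φ g).map_one
  have act_inv : ∀ g v, act g v⁻¹ = (act g v)⁻¹ := fun g v => (φ g).map_inv v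
  -- the trace over `M` is fixed by `M`
  have hS : ∀ w : A, ∀ m' ∈ M, act m' (∏ m : M, act (m : F) w) = ∏ m : M, act (m : F) w := by
    intro w m' hm'
    rw [act_prod']
    have e1 : ∀ m : M, act m' (act (m : F) w) = act ((⟨m', hm'⟩ * m : M) : F) w := by
      intro m
      rw [← act_mul]; rfl
    simp only [e1]
    exact Function.Bijective.prod_comp (Equiv.mulLeft (⟨m', hm'⟩ : M)).bijective
      (fun m : M => act (m : F) w)
  have hnorm' : ∀ (i : ℕ) (m : F), m ∈ M → y ^ i * m * (y ^ i)⁻¹ ∈ M := by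
    intro i
    induction i with
    | zero => intro m hm; simpa using hm
    | succ k ih =>
      intro m hm
      have := hnorm _ (ih m hm)
      have e : y ^ (k + 1) * m * (y ^ (k + 1))⁻¹ = y * (y ^ k * m * (y ^ k)⁻¹) * y⁻¹ := by
        rw [pow_succ']; group
      rw [e]; exact this
  intro v
  have hdouble : ∏ m : M, ∏ i ∈ Finset.range n, act ((m : F) * y ^ i * (m : F)⁻¹) v = 1 := by
    apply Finset.prod_eq_one
    intro m _
    have e : ∀ i, act ((m : F) * y ^ i * (m : F)⁻¹) v
        = act (m : F) (act (y ^ i) (act ((m : F)⁻¹) v)) := by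
      intro i
      rw [← act_mul, ← act_mul]
    simp only [e]
    rw [← act_prod, hT, act_one']
  rw [Finset.prod_comm] at hdouble
  obtain ⟨k, rfl⟩ : ∃ k, n = k + 1 := ⟨n - 1, by omega⟩
  rw [Finset.prod_range_succ'] at hdouble
  have hrest : ∏ i ∈ Finset.range k, ∏ m : M, act ((m : F) * y ^ (i + 1) * (m : F)⁻¹) v
      = ∏ i ∈ Finset.range k, ∏ m : M, act (m : F) (act (y ^ (i + 1)) v) := by
    apply Finset.prod_congr rfl
    intro i hi
    have hi' : i + 1 < k + 1 := by
      have := Finset.mem_range.mp hi; omega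
    set c : F := y ^ (i + 1) with hc
    have hmem : ∀ m : M, (m : F) * c * (m : F)⁻¹ * c⁻¹ ∈ M := by
      intro m
      have h1 : c * (m : F)⁻¹ * c⁻¹ ∈ M := hnorm' (i + 1) _ (M.inv_mem m.2)
      have e : (m : F) * c * (m : F)⁻¹ * c⁻¹ = (m : F) * (c * (m : F)⁻¹ * c⁻¹) := by group
      rw [e]; exact M.mul_mem m.2 h1
    let f : M → M := fun m => ⟨(m : F) * c * (m : F)⁻¹ * c⁻¹, hmem m⟩
    have hfinj : Function.Injective f := by
      intro m m' h
      have h1 : (m : F) * c * (m : F)⁻¹ * c⁻¹ = (m' : F) * c * (m' : F)⁻¹ * c⁻¹ :=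
        congrArg Subtype.val h
      have h2 : (m : F) * c * (m : F)⁻¹ = (m' : F) * c * (m' : F)⁻¹ := mul_right_cancel h1
      have h3 : c * ((m' : F)⁻¹ * (m : F)) = ((m' : F)⁻¹ * (m : F)) * c := by
        calc c * ((m' : F)⁻¹ * (m : F))
            = ((m' : F)⁻¹ * ((m' : F) * c * (m' : F)⁻¹)) * (m : F) := by group
          _ = ((m' : F)⁻¹ * ((m : F) * c * (m : F)⁻¹)) * (m : F) := by rw [h2]
          _ = ((m' : F)⁻¹ * (m : F)) * c := by group
      have h4 := hfix (i + 1) (Nat.succ_pos i) hi' _ (M.mul_mem (M.inv_mem m'.2) m.2) h3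
      apply Subtype.ext
      have : (m : F) = (m' : F) * ((m' : F)⁻¹ * (m : F)) := by group
      rw [this, h4, mul_one]
    have hfbij : Function.Bijective f := hfinj.bijective_of_finite
    have e : ∀ m : M, act ((m : F) * c * (m : F)⁻¹) v = act ((f m : M) : F) (act c v) := by
      intro m
      rw [← act_mul]
      congr 1
      show (m : F) * c * (m : F)⁻¹ = (m : F) * c * (m : F)⁻¹ * c⁻¹ * c
      group
    simp only [e]
    exact Function.Bijective.prod_comp hfbij (fun m : M => act (m : F) (act c v))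
  rw [hrest] at hdouble
  simp only [pow_zero, mul_one, mul_inv_cancel, act_one, Finset.prod_const, Finset.card_univ]
    at hdouble
  rw [Nat.card_eq_fintype_card]
  set Z : A := ∏ i ∈ Finset.range k, ∏ m : M, act (m : F) (act (y ^ (i + 1)) v) with hZ
  have hv : v ^ Fintype.card M = Z⁻¹ := eq_inv_of_mul_eq_one_right hdouble
  intro m' hm'
  have hZfix : act m' Z = Z := by
    rw [hZ, act_prod]
    apply Finset.prod_congr rfl
    intro i _
    exact hS _ m' hm'
  rw [hv, act_inv, hZfix]

end Count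



/-- The abelianization step: `K⟨h⟩` Frobenius-like acting on `X` with `(h x)^m = 1` on `X`:
then `K` acts trivially on `X / X'`. -/
theorem comm_mem_commutator {G : Type*} [Group G] [Finite G] (X K : Subgroup G)
    (hKX : K ≤ Subgroup.normalizer (X : Set G)) (h : G)
    (hhX : h ∈ Subgroup.normalizer (X : Set G))
    (hhK : ∀ k ∈ K, h * k * h⁻¹ ∈ K) (m : ℕ) (hm : 0 < m)
    (hfpf : ∀ j, 0 < j → j < m → ∀ k ∈ K, h ^ j * k = k * h ^ j → k = 1)
    (hA : ∀ x ∈ X, (h * x) ^ m = 1)
    (hcop : (Nat.card K).Coprime (Nat.card X)) :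
    ∀ k ∈ K, ∀ x ∈ X, k * x * k⁻¹ * x⁻¹ ∈ ⁅X, X⁆ := by
  classical
  obtain ⟨NX, hNX⟩ : ∃ NX : Subgroup G, NX = Subgroup.normalizer (X : Set G) := ⟨_, rfl⟩
  have hmemNX : ∀ g : NX, ∀ x : X, (g : G) * x * (g : G)⁻¹ ∈ X := by
    intro g x
    have hg : (g : G) ∈ Subgroup.normalizer (X : Set G) := hNX ▸ g.2
    exact (Subgroup.mem_normalizer_iff.mp hg x).mp x.2
  -- conjugation homs
  let c : NX → (X →* X) := fun g =>
    { toFun := fun x => ⟨(g : G) * x * (g : G)⁻¹, hmemNX g x⟩
      map_one' := by apply Subtype.ext; simp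
      map_mul' := by intro a b; apply Subtype.ext; simp }
  have hc_coe : ∀ (g : NX) (x : X), ((c g x : X) : G) = (g : G) * x * (g : G)⁻¹ := fun _ _ => rfl
  let act : NX → Abelianization X → Abelianization X := fun g => Abelianization.map (c g)
  have hsurj : ∀ v : Abelianization X, ∃ x : X, Abelianization.of x = v :=
    fun v => QuotientGroup.mk_surjective v
  have act_of : ∀ (g : NX) (x : X), act g (Abelianization.of x) = Abelianization.of (c g x) :=
    fun g x => Abelianization.map_of (c g) x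
  have act_mul : ∀ g g' v, act (g * g') v = act g (act g' v) := by
    intro g g' v
    obtain ⟨x, rfl⟩ := hsurj v
    rw [act_of, act_of, act_of]
    congr 1
    apply Subtype.ext
    rw [hc_coe, hc_coe, hc_coe]
    simp [mul_assoc]
  have act_one : ∀ v, act 1 v = v := by
    intro v
    obtain ⟨x, rfl⟩ := hsurj v
    rw [act_of]
    congr 1
    apply Subtype.ext
    rw [hc_coe]
    simp
  have act_map_mul : ∀ g v w, act g (v * w) = act g v * act g w :=
    fun g v w => map_mul (Abelianization.map (c g)) v w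
  -- the subgroup `M` and the element `y`
  have hKNX : K ≤ NX := hNX ▸ hKX
  obtain ⟨M, hM⟩ : ∃ M : Subgroup NX, M = K.subgroupOf NX := ⟨_, rfl⟩
  have hmemM : ∀ g : NX, g ∈ M ↔ (g : G) ∈ K := by
    intro g; rw [hM]; exact Subgroup.mem_subgroupOf
  obtain ⟨y, hy⟩ : ∃ y : NX, (y : G) = h := ⟨⟨h, hNX ▸ hhX⟩, rfl⟩
  have hypow : ∀ i : ℕ, ((y ^ i : NX) : G) = h ^ i := by
    intro i; rw [Subgroup.coe_pow, hy]
  have hhm : h ^ m = 1 := by
    have := hA 1 X.one_mem
    rwa [mul_one] at this
  have hym : y ^ m = 1 := by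
    apply Subtype.ext; rw [hypow, hhm]; rfl
  -- the trace vanishes
  have hT1 : ∀ x : X, ∏ i ∈ Finset.range m, act (y ^ (i + 1)) (Abelianization.of x) = 1 := by
    intro x
    -- partial products
    let z : ℕ → X := fun n => Nat.rec 1 (fun n zn => zn * c (y ^ (n + 1)) x) n
    have hz0 : z 0 = 1 := rfl
    have hzs : ∀ n, z (n + 1) = z n * c (y ^ (n + 1)) x := fun n => rfl
    have claim1 : ∀ n, (z n).1 * h ^ n = (h * (x : G)) ^ n := by
      intro n
      induction n with
      | zero => simp [hz0]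
      | succ n ih =>
        rw [hzs, Subgroup.coe_mul, hc_coe, hypow, pow_succ (h * (x : G)), ← ih]
        group
    have claim2 : ∀ n, Abelianization.of (z n)
        = ∏ i ∈ Finset.range n, act (y ^ (i + 1)) (Abelianization.of x) := by
      intro n
      induction n with
      | zero => simp [hz0]
      | succ n ih =>
        rw [hzs, map_mul, ih, Finset.prod_range_succ, act_of]
    have hzm : z m = 1 := by
      apply Subtype.ext
      have := claim1 m
      rw [hhm, mul_one, hA x x.2] at this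
      rw [this]; rfl
    rw [← claim2, hzm, map_one]
  have hT : ∀ w : Abelianization X, ∏ i ∈ Finset.range m, act (y ^ i) w = 1 := by
    intro w
    obtain ⟨x, rfl⟩ := hsurj w
    have h1 := Finset.prod_range_succ (fun i => act (y ^ i) (Abelianization.of x)) m
    have h2 := Finset.prod_range_succ' (fun i => act (y ^ i) (Abelianization.of x)) m
    simp only [hym, pow_zero] at h1 h2
    rw [h1, hT1 x] at h2
    exact mul_right_cancel h2
  have hnorm : ∀ k ∈ M, y * k * y⁻¹ ∈ M := by
    intro k hk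
    rw [hmemM] at hk ⊢
    have : ((y * k * y⁻¹ : NX) : G) = h * (k : G) * h⁻¹ := by
      rw [Subgroup.coe_mul, Subgroup.coe_mul, Subgroup.coe_inv, hy]
    rw [this]; exact hhK _ hk
  have hfix : ∀ i, 0 < i → i < m → ∀ k ∈ M, y ^ i * k = k * y ^ i → k = 1 := by
    intro i hi0 him k hk hcomm
    rw [hmemM] at hk
    have h1 : h ^ i * (k : G) = (k : G) * h ^ i := by
      have := congrArg Subtype.val hcomm
      rw [Subgroup.coe_mul, Subgroup.coe_mul, hypow] at this
      exact this
    have := hfpf i hi0 him _ hk h1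
    exact Subtype.ext this
  have hMfin : Finite M := inferInstance
  have key := frob_count2 act act_mul act_one act_map_mul M y m hm hym hnorm hfix hT
  -- coprimality
  have hcardM : Nat.card M = Nat.card K := by
    rw [hM]; exact Cfsg.Agent.Lib.Helper13.card_subgroupOf_of_le hKNX
  have hAfin : Finite (Abelianization X) := by
    unfold Abelianization; infer_instance
  have hcardA : Nat.card (Abelianization X) ∣ Nat.card X := by
    unfold Abelianization
    exact Subgroup.card_quotient_dvd_card _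
  have hcop' : (Nat.card (Abelianization X)).Coprime (Nat.card M) := by
    rw [hcardM]
    exact (Nat.Coprime.coprime_dvd_right hcardA hcop).symm
  have hfixall : ∀ k ∈ M, ∀ v : Abelianization X, act k v = v := by
    intro k hk v
    obtain ⟨w, hw⟩ := (powCoprime hcop').surjective v
    rw [powCoprime_apply] at hw
    rw [← hw]
    exact key w k hk
  intro k hk x hx
  have h1 := hfixall ⟨k, hKNX hk⟩ ((hmemM _).mpr hk) (Abelianization.of ⟨x, hx⟩)
  rw [act_of] at h1
  have h2 : (c ⟨k, hKNX hk⟩ ⟨x, hx⟩) * (⟨x, hx⟩ : X)⁻¹ ∈ commutator X := by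
    rw [← Abelianization.ker_of, MonoidHom.mem_ker, map_mul, map_inv, h1, mul_inv_cancel]
  have h3 := Subgroup.mem_map_of_mem X.subtype h2
  rw [Subgroup.map_subtype_commutator] at h3
  exact h3



open scoped Pointwise

universe u

theorem conj_mem_commutator_self {G : Type*} [Group G] (X : Subgroup G) {g : G}
    (hg : g ∈ Subgroup.normalizer (X : Set G)) :
    ∀ d ∈ (⁅X, X⁆ : Subgroup G), g * d * g⁻¹ ∈ (⁅X, X⁆ : Subgroup G) := by
  obtain ⟨φ, hφ⟩ : ∃ φ : G →* G, φ = (MulAut.conj g).toMonoidHom := ⟨_, rfl⟩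
  have hφa : ∀ x, φ x = g * x * g⁻¹ := by
    intro x; rw [hφ]; rfl
  have hX : X.map φ = X := by
    ext y
    constructor
    · rintro ⟨x, hx, rfl⟩
      rw [hφa]
      exact (Subgroup.mem_normalizer_iff.mp hg x).mp hx
    · intro hy
      refine ⟨g⁻¹ * y * g, ?_, ?_⟩
      · have := (Subgroup.mem_normalizer_iff.mp hg (g⁻¹ * y * g)).mpr
        apply this
        have e : g * (g⁻¹ * y * g) * g⁻¹ = y := by group
        rw [e]; exact hy
      · rw [hφa]; group
  intro d hd
  have h1 : φ d ∈ (⁅X, X⁆ : Subgroup G).map φ := Subgroup.mem_map_of_mem φ hd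
  rw [Subgroup.map_commutator, hX, hφa] at h1
  exact h1

theorem normalizer_commutator_self {G : Type*} [Group G] (X : Subgroup G) {g : G}
    (hg : g ∈ Subgroup.normalizer (X : Set G)) :
    g ∈ Subgroup.normalizer ((⁅X, X⁆ : Subgroup G) : Set G) := by
  rw [Subgroup.mem_normalizer_iff]
  intro d
  constructor
  · exact conj_mem_commutator_self X hg d
  · intro h
    have hg' : g⁻¹ ∈ Subgroup.normalizer (X : Set G) := Subgroup.inv_mem _ hg
    have := conj_mem_commutator_self X hg' _ h
    have e : g⁻¹ * (g * d * g⁻¹) * g⁻¹⁻¹ = d := by group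
    rwa [e] at this

/-- If `K` acts trivially on `X` modulo `D` and centralizes `D` (coprime orders), then `K`
centralizes `X`. -/
theorem centralizes_of_series {G : Type*} [Group G] [Finite G] (X D K : Subgroup G)
    (hDX : D ≤ X) (hcop : (Nat.card K).Coprime (Nat.card X))
    (hKD : K ≤ Subgroup.centralizer (D : Set G))
    (hmod : ∀ k ∈ K, ∀ x ∈ X, k * x * k⁻¹ * x⁻¹ ∈ D) :
    K ≤ Subgroup.centralizer (X : Set G) := by
  intro k hk
  rw [Subgroup.mem_centralizer_iff]
  intro x hx
  obtain ⟨d, hd⟩ : ∃ d, d = k * x * k⁻¹ * x⁻¹ := ⟨_, rfl⟩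
  have hdD : d ∈ D := hd ▸ hmod k hk x hx
  have hdk : d * k = k * d := (Subgroup.mem_centralizer_iff.mp (hKD hk)) d hdD
  have hconj : k * x * k⁻¹ = d * x := by rw [hd]; group
  have hpow : ∀ n : ℕ, k ^ n * x * (k ^ n)⁻¹ = d ^ n * x := by
    intro n
    induction n with
    | zero => simp
    | succ n ih =>
      have hc : Commute d k := hdk
      calc k ^ (n + 1) * x * (k ^ (n + 1))⁻¹
          = k * (k ^ n * x * (k ^ n)⁻¹) * k⁻¹ := by rw [pow_succ']; group
        _ = k * (d ^ n * x) * k⁻¹ := by rw [ih]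
        _ = (k * d ^ n * k⁻¹) * (k * x * k⁻¹) := by group
        _ = d ^ n * (d * x) := by
            rw [hconj]
            have : k * d ^ n * k⁻¹ = d ^ n := by
              have h2 : Commute (d ^ n) k := hc.pow_left n
              calc k * d ^ n * k⁻¹ = (d ^ n * k) * k⁻¹ := by rw [h2.eq]
                _ = d ^ n := by group
            rw [this]
        _ = d ^ (n + 1) * x := by rw [pow_succ]; group
  have h1 := hpow (orderOf k)
  rw [pow_orderOf_eq_one, one_mul, inv_one, mul_one] at h1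
  have h2 : d ^ orderOf k = 1 := by
    have : d ^ orderOf k * x = 1 * x := by rw [one_mul]; exact h1.symm
    exact mul_right_cancel this
  have h3 : orderOf d ∣ orderOf k := orderOf_dvd_of_pow_eq_one h2
  have h4 : orderOf k ∣ Nat.card K := Subgroup.orderOf_dvd_natCard K hk
  have h5 : orderOf d ∣ Nat.card X := Subgroup.orderOf_dvd_natCard X (hDX hdD)
  have h6 : orderOf d = 1 := Nat.eq_one_of_dvd_coprimes hcop (h3.trans h4) h5
  have h7 : d = 1 := orderOf_eq_one_iff.mp h6
  rw [h7, one_mul] at hconj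
  calc x * k = (k * x * k⁻¹) * k := by rw [hconj]
    _ = k * x := by group



open scoped Pointwise


open Cfsg.Agent.Lib.Helper13 in
/-- Induction over invariant subgroups of a `p`-group. -/
theorem centralizes_pgroup {G : Type u} [Group G] [Finite G] (N : Subgroup G) [hNn : N.Normal]
    (K : Subgroup G)
    (hcop : (Nat.card N).Coprime (Nat.card K))
    (hb : G ⧸ N) (m : ℕ) (hm : 0 < m)
    (hfpf : ∀ j, 0 < j → j < m → ∀ x ∈ K, hb ^ j * (x : G ⧸ N) = (x : G ⧸ N) * hb ^ j → x = 1)
    (hA : ∀ g : G, (g : G ⧸ N) = hb → g ^ m = 1)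
    (h : G) (hh : (h : G ⧸ N) = hb) (hhK : h ∈ Subgroup.normalizer (K : Set G))
    (p : ℕ) [Fact p.Prime] (n : ℕ) :
    ∀ X : Subgroup G, Nat.card X = n → X ≤ N → IsPGroup p X →
      K ≤ Subgroup.normalizer (X : Set G) → h ∈ Subgroup.normalizer (X : Set G) →
      K ≤ Subgroup.centralizer (X : Set G) := by
  induction n using Nat.strong_induction_on with
  | _ n ih =>
  intro X hXn hXN hXp hKX hhX
  by_cases hX1 : X = ⊥
  · rw [hX1]
    intro k _
    rw [Subgroup.mem_centralizer_iff]
    intro x hx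
    have : x = 1 := by simpa using hx
    rw [this, one_mul, mul_one]
  have hXs : Group.IsSolvable X := by
    have : Group.IsNilpotent X := hXp.isNilpotent
    infer_instance
  obtain ⟨D, hD⟩ : ∃ D : Subgroup G, D = ⁅X, X⁆ := ⟨_, rfl⟩
  have hDlt : D < X := hD ▸ commutator_lt_of_isSolvable hXs hX1
  have hDX : D ≤ X := hDlt.le
  have hDcard : Nat.card D < n := hXn ▸ card_lt_of_lt hDlt
  have hKD : K ≤ Subgroup.normalizer (D : Set G) := by
    intro k hk
    rw [hD]; exact normalizer_commutator_self X (hKX hk)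
  have hhD : h ∈ Subgroup.normalizer (D : Set G) := by
    rw [hD]; exact normalizer_commutator_self X hhX
  have hDp : IsPGroup p D := hXp.to_le hDX
  have hKcD : K ≤ Subgroup.centralizer (D : Set G) :=
    ih _ hDcard D rfl (hDX.trans hXN) hDp hKD hhD
  have hcopX : (Nat.card K).Coprime (Nat.card X) :=
    (Nat.Coprime.coprime_dvd_left (Subgroup.card_dvd_of_le hXN) hcop).symm
  have hmkpow : ∀ j : ℕ, ((h ^ j : G) : G ⧸ N) = hb ^ j := by
    intro j; rw [QuotientGroup.mk_pow, hh]
  have hmod : ∀ k ∈ K, ∀ x ∈ X, k * x * k⁻¹ * x⁻¹ ∈ D := by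
    rw [hD]
    apply comm_mem_commutator X K hKX h hhX
      (fun k hk => (Subgroup.mem_normalizer_iff.mp hhK k).mp hk) m hm
    · intro j hj0 hjm k hk hcomm
      apply hfpf j hj0 hjm k hk
      have := congrArg (fun g : G => (g : G ⧸ N)) hcomm
      simp only [QuotientGroup.mk_mul] at this
      rw [hmkpow] at this
      exact this
    · intro x hx
      apply hA
      rw [QuotientGroup.mk_mul, hh, (QuotientGroup.eq_one_iff x).mpr (hXN hx), mul_one]
    · exact hcopX
  exact centralizes_of_series X D K hDX hcopX hKcD hmod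



open scoped Pointwise


open Cfsg.Agent.Lib.Helper13 in
/-- The core of Mazurov's lemma. -/
theorem mazurov_core {G : Type u} [Group G] [Finite G] (N : Subgroup G) [hNn : N.Normal]
    (K : Subgroup G) (hKnorm : ∀ g : G, MulAut.conj g • K ≤ N ⊔ K)
    (hcop : (Nat.card N).Coprime (Nat.card K)) (hKs : Group.IsSolvable K)
    (hb : G ⧸ N) (m : ℕ) (hm : 0 < m)
    (hfpf : ∀ j, 0 < j → j < m → ∀ x ∈ K, hb ^ j * (x : G ⧸ N) = (x : G ⧸ N) * hb ^ j → x = 1)
    (hA : ∀ g : G, (g : G ⧸ N) = hb → g ^ m = 1) :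
    K ≤ Subgroup.centralizer (N : Set G) := by
  classical
  have hKnN : K ≤ Subgroup.normalizer (N : Set G) := by
    intro k _
    rw [Subgroup.mem_normalizer_iff]
    intro x
    constructor
    · intro hx; exact hNn.conj_mem x hx k
    · intro hx
      have := hNn.conj_mem _ hx k⁻¹
      have e : k⁻¹ * (k * x * k⁻¹) * k⁻¹⁻¹ = x := by group
      rwa [e] at this
  have hallN : ∀ g : G, g ∈ Subgroup.normalizer (N : Set G) := by
    intro g
    rw [Subgroup.mem_normalizer_iff]
    intro x
    constructor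
    · intro hx; exact hNn.conj_mem x hx g
    · intro hx
      have := hNn.conj_mem _ hx g⁻¹
      have e : g⁻¹ * (g * x * g⁻¹) * g⁻¹⁻¹ = x := by group
      rwa [e] at this
  -- Step a: an element of the coset normalizing `K`
  obtain ⟨h0, hh0⟩ := QuotientGroup.mk_surjective hb
  obtain ⟨n0, hn0, hn0K⟩ := rel_sz_conj N K (MulAut.conj h0 • K) hKnN (hKnorm h0)
    (card_cj h0 K) hcop (Or.inr hKs)
  obtain ⟨h1, hh1⟩ : ∃ h1 : G, h1 = n0⁻¹ * h0 := ⟨_, rfl⟩
  have hh1K : MulAut.conj h1 • K = K := by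
    rw [hh1, cj_mul, ← hn0K, ← cj_mul, inv_mul_cancel, cj_one]
  have hh1b : (h1 : G ⧸ N) = hb := by
    rw [← hh0, hh1]
    rw [QuotientGroup.eq]
    have e : (n0⁻¹ * h0)⁻¹ * h0 = h0⁻¹ * n0 * h0⁻¹⁻¹ := by group
    rw [e]; exact hNn.conj_mem n0 hn0 h0⁻¹
  have hh1nK : h1 ∈ Subgroup.normalizer (K : Set G) := cj_eq_self_iff_mem_normalizer.mp hh1K
  -- Step b: a `K`-invariant Sylow subgroup not centralized by `K`
  by_contra hnot
  have hex : ∃ (p : ℕ) (_ : Fact p.Prime) (P : Sylow p N),
      K ≤ Subgroup.normalizer (((P : Subgroup N).map N.subtype : Subgroup G) : Set G) ∧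
      ¬ K ≤ Subgroup.centralizer (((P : Subgroup N).map N.subtype : Subgroup G) : Set G) := by
    by_contra hall
    push Not at hall
    apply hnot
    obtain ⟨C, hC⟩ : ∃ C : Subgroup N, C = (Subgroup.centralizer (K : Set G)).subgroupOf N :=
      ⟨_, rfl⟩
    have hCN : Nat.card N ∣ Nat.card C := by
      have hC0 : Nat.card C ≠ 0 := Nat.card_pos.ne'
      have hN0 : Nat.card N ≠ 0 := Nat.card_pos.ne'
      rw [← Nat.factorization_le_iff_dvd hN0 hC0]
      intro p
      by_cases hp : p.Prime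
      · have : Fact p.Prime := ⟨hp⟩
        obtain ⟨P, hP⟩ := exists_invariant_sylow K N hKnN hcop.symm (Or.inl hKs) p
        have hPc := hall p ⟨hp⟩ P hP
        have hPC : (P : Subgroup N) ≤ C := by
          intro x hx
          rw [hC, Subgroup.mem_subgroupOf, Subgroup.mem_centralizer_iff]
          intro k hk
          have hxm : (x : G) ∈ (P : Subgroup N).map N.subtype := ⟨x, hx, rfl⟩
          exact ((Subgroup.mem_centralizer_iff.mp (hPc hk)) _ hxm).symm
        have hdvd : Nat.card (P : Subgroup N) ∣ Nat.card C := Subgroup.card_dvd_of_le hPC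
        rw [Sylow.card_eq_multiplicity] at hdvd
        exact (hp.pow_dvd_iff_le_factorization hC0).mp hdvd
      · rw [Nat.factorization_eq_zero_of_not_prime _ hp]
        exact Nat.zero_le _
    have hCtop : C = ⊤ := by
      apply Subgroup.eq_top_of_le_card
      exact Nat.le_of_dvd Nat.card_pos hCN
    intro k hk
    rw [Subgroup.mem_centralizer_iff]
    intro x hx
    have : (⟨x, hx⟩ : N) ∈ C := by rw [hCtop]; trivial
    rw [hC, Subgroup.mem_subgroupOf, Subgroup.mem_centralizer_iff] at this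
    exact (this k hk).symm
  obtain ⟨p, hpF, P, hPK, hPnc⟩ := hex
  -- Step c: adjust `h1` to normalize `P`
  obtain ⟨Q, hQ⟩ := exists_sylow_map_eq_cj N p P (hallN h1)
  have hQK : K ≤ Subgroup.normalizer (((Q : Subgroup N).map N.subtype : Subgroup G) : Set G) := by
    rw [hQ]
    have := cj_le_normalizer_cj (g := h1) hPK
    rwa [hh1K] at this
  obtain ⟨c, hcK, hcQ⟩ := invariant_sylow_conj K N hKnN hcop.symm (Or.inl hKs) p Q P hQK hPK
  obtain ⟨h2, hh2⟩ : ∃ h2 : G, h2 = (c : G) * h1 := ⟨_, rfl⟩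
  have hh2P : MulAut.conj h2 • ((P : Subgroup N).map N.subtype) = (P : Subgroup N).map N.subtype := by
    have e : (MulAut.conj c • (Q : Subgroup N)).map N.subtype
        = MulAut.conj (c : G) • (Q : Subgroup N).map N.subtype := map_cj N.subtype c _
    rw [hh2, cj_mul, ← hQ, ← e]
    have : (MulAut.conj c • (Q : Subgroup N)) = ((MulAut.conj c • Q : Sylow p N) : Subgroup N) := by
      rw [Sylow.pointwise_smul_def]
    rw [this, hcQ]
  have hh2nP : h2 ∈ Subgroup.normalizer (((P : Subgroup N).map N.subtype : Subgroup G) : Set G) :=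
    cj_eq_self_iff_mem_normalizer.mp hh2P
  have hcnK : (c : G) ∈ Subgroup.normalizer (K : Set G) := by
    rw [Subgroup.mem_normalizer_iff]
    intro k
    have hcomm : ∀ k' ∈ K, (c : G) * k' * (c : G)⁻¹ = k' := by
      intro k' hk'
      have := (Subgroup.mem_centralizer_iff.mp hcK) k' hk'
      calc (c : G) * k' * (c : G)⁻¹ = (k' * (c : G)) * (c : G)⁻¹ := by rw [this]
        _ = k' := by group
    constructor
    · intro hk; rw [hcomm k hk]; exact hk
    · intro hk
      have h3 := hcomm _ hk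
      have : (c : G) * k * (c : G)⁻¹ = k := by
        have e : (c : G) * ((c : G) * k * (c : G)⁻¹) * (c : G)⁻¹ = (c : G) * k * (c : G)⁻¹ := h3
        have e2 : (c : G) * k * (c : G)⁻¹ = (c : G)⁻¹ * ((c : G) * ((c : G) * k * (c : G)⁻¹) * (c : G)⁻¹) * (c : G) := by group
        rw [e] at e2
        calc (c : G) * k * (c : G)⁻¹ = (c : G)⁻¹ * ((c : G) * k * (c : G)⁻¹) * (c : G) := e2
          _ = k := by group
      rw [← this]; exact hk
  have hh2nK : h2 ∈ Subgroup.normalizer (K : Set G) := by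
    rw [hh2]; exact Subgroup.mul_mem _ hcnK hh1nK
  have hh2b : (h2 : G ⧸ N) = hb := by
    rw [hh2, QuotientGroup.mk_mul, hh1b, (QuotientGroup.eq_one_iff (c : G)).mpr c.2, one_mul]
  -- Step e: induction over the `p`-group
  have hP0N : (P : Subgroup N).map N.subtype ≤ N := Subgroup.map_subtype_le _
  have hP0p : IsPGroup p ((P : Subgroup N).map N.subtype) := P.2.map N.subtype
  exact hPnc (centralizes_pgroup N K hcop hb m hm hfpf hA h2 hh2b hh2nK p _ _ rfl hP0N hP0p hPK hh2nP)



open scoped Pointwise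

/-- Elements of the coset of a generator of the complement have the same order, unless
`G` has an element of order `p·m`. -/
theorem pow_eq_one_of_coset {G : Type*} [Group G] [Finite G] (N : Subgroup G) [N.Normal]
    (m : ℕ) (hm : 0 < m)
    (hcon : ∀ p : ℕ, p.Prime → p ∣ Nat.card N → ∀ g : G, orderOf g ≠ p * m)
    (g : G) (hg : orderOf (g : G ⧸ N) = m) : g ^ m = 1 := by
  by_contra hne
  have hmo : m ∣ orderOf g := by
    rw [← hg]
    exact orderOf_map_dvd (QuotientGroup.mk' N) g
  have hgN : g ^ m ∈ N := by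
    rw [← QuotientGroup.eq_one_iff, QuotientGroup.mk_pow, ← hg]
    exact pow_orderOf_eq_one _
  obtain ⟨k, hk⟩ : ∃ k, k = orderOf (g ^ m) := ⟨_, rfl⟩
  have hk1 : k ≠ 1 := by
    rw [hk]; intro h; exact hne (orderOf_eq_one_iff.mp h)
  have hkN : k ∣ Nat.card N := hk ▸ Subgroup.orderOf_dvd_natCard N hgN
  have hko : k = orderOf g / m := hk ▸ orderOf_pow_of_dvd hm.ne' hmo
  have ho : orderOf g = m * k := by
    rw [hko, Nat.mul_div_cancel' hmo]
  obtain ⟨p, hp, hpk⟩ := Nat.exists_prime_and_dvd hk1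
  obtain ⟨e, he⟩ := hpk
  have hk0 : k ≠ 0 := by
    rw [hk]; exact (orderOf_pos _).ne'
  have he0 : e ≠ 0 := by
    rintro rfl; rw [mul_zero] at he; exact hk0 he
  have heo : e ∣ orderOf g := by
    rw [ho, he]; exact ⟨m * p, by ring⟩
  have hord : orderOf (g ^ e) = p * m := by
    rw [orderOf_pow_of_dvd he0 heo, ho, he]
    have : m * (p * e) = (p * m) * e := by ring
    rw [this, Nat.mul_div_cancel _ (Nat.pos_of_ne_zero he0)]
  exact hcon p hp ((Dvd.intro _ he.symm).trans hkN) _ hord

open Cfsg.Agent.Lib.Helper13 in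
/-- The fixed-point-free property of a Frobenius complement on the kernel. -/
theorem frob_fpf {L : Type*} [Group L] (Hb Fb : Subgroup L)
    (hHb : Cfsg.IsFrobeniusComplement Hb) (hker : Cfsg.frobeniusKernel Hb = (Fb : Set L))
    (c : L) (hc : c ∈ Hb) (hc1 : c ≠ 1) (x : L) (hx : x ∈ Fb) (hcomm : c * x = x * c) :
    x = 1 := by
  by_contra hx1
  have hxk : x ∈ Cfsg.frobeniusKernel Hb := by rw [hker]; exact hx
  rcases hxk with h | h
  · exact hx1 h
  have hxH : x ∉ Hb := by
    have := h 1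
    rwa [cj_one] at this
  have hbot := hHb.2.2 x hxH
  have hcm : c ∈ Hb ⊓ MulAut.conj x • Hb := by
    refine Subgroup.mem_inf.mpr ⟨hc, ?_⟩
    rw [mem_cj]
    have : x⁻¹ * c * x = c := by
      calc x⁻¹ * c * x = x⁻¹ * (c * x) := by group
        _ = x⁻¹ * (x * c) := by rw [hcomm]
        _ = c := by group
    rw [this]; exact hc
  rw [hbot, Subgroup.mem_bot] at hcm
  exact hc1 hcm



open scoped Pointwise

open Cfsg.Agent.Lib.Helper13 in

/-- Let N be a normal subgroup of the finite group G such that G/N is a Frobenius group with kernel F and cyclic complement H, where the order of F is coprime to that of N and F is not contained in the image of C_G(N) in G/N. Then G has an element of order p·#H for some prime p dividing the order of N. (A standard tool in recognising groups by their element orders.) -/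
theorem result {G : Type*} [Group G] [Finite G] (N : Subgroup G) [N.Normal]
    (Fb Hb : Subgroup (G ⧸ N)) [Fb.Normal] (hHb : Cfsg.IsFrobeniusComplement Hb) (hker : Cfsg.frobeniusKernel Hb = (Fb : Set (G ⧸ N)))
    (hcyc : IsCyclic Hb) (hcop : (Nat.card Fb).Coprime (Nat.card N))
    (hnot : ¬ Fb ≤ (Subgroup.centralizer (N : Set G)).map (QuotientGroup.mk' N)) :
    ∃ p : ℕ, p.Prime ∧ p ∣ Nat.card N ∧ ∃ g : G, orderOf g = p * Nat.card Hb := by
  classical
  by_contra hcon
  push Not at hcon
  obtain ⟨m, hm⟩ : ∃ m, m = Nat.card Hb := ⟨_, rfl⟩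
  rw [← hm] at hcon
  -- generator of the complement
  obtain ⟨g0, hg0⟩ := hcyc.exists_generator
  have hg0ord : orderOf g0 = m := by
    rw [hm]; exact orderOf_eq_card_of_forall_mem_zpowers hg0
  obtain ⟨hb, hhb⟩ : ∃ hb : G ⧸ N, hb = (g0 : G ⧸ N) := ⟨_, rfl⟩
  have hbH : hb ∈ Hb := hhb ▸ g0.2
  have hbord : orderOf hb = m := by
    rw [hhb, Subgroup.orderOf_coe]; exact hg0ord
  have hm1 : 1 < m := by
    have h1 : Nat.card Hb ≠ 1 := fun h => hHb.1 (Subgroup.card_eq_one.mp h)
    have h2 : 0 < Nat.card Hb := Nat.card_pos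
    omega
  have hm0 : 0 < m := by omega
  have hA : ∀ g : G, (g : G ⧸ N) = hb → g ^ m = 1 := by
    intro g hg
    exact pow_eq_one_of_coset N m hm0 hcon g (hg ▸ hbord)
  have hfpfL := frob_fpf Hb Fb hHb hker
  -- the kernel is nilpotent, hence solvable
  have hFsolv : Group.IsSolvable Fb := by
    obtain ⟨r, hr, hrm⟩ := Nat.exists_prime_and_dvd hm1.ne'
    obtain ⟨b, hbdef⟩ : ∃ b : G ⧸ N, b = hb ^ (m / r) := ⟨_, rfl⟩
    have hbo : orderOf b = r := by
      rw [hbdef]
      have := orderOf_pow_orderOf_div (x := hb) (by rw [hbord]; exact hm0.ne') (hbord.symm ▸ hrm)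
      rwa [hbord] at this
    have hbHb : b ∈ Hb := hbdef ▸ Subgroup.pow_mem _ hbH _
    have hb1 : b ≠ 1 := by
      intro h; rw [h, orderOf_one] at hbo; exact hr.one_lt.ne hbo
    have hnil : Group.IsNilpotent Fb :=
      Cfsg.Agent.Lib.Helper6.FrobTools.fk_nilpotent Fb b r hr hbo
        (fun x hx hc => hfpfL b hbHb hb1 x hx hc)
    infer_instance
  -- the preimage of the kernel and a complement
  obtain ⟨F1, hF1⟩ : ∃ F1 : Subgroup G, F1 = Fb.comap (QuotientGroup.mk' N) := ⟨_, rfl⟩
  have hF1mem : ∀ x : G, x ∈ F1 ↔ (x : G ⧸ N) ∈ Fb := by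
    intro x; rw [hF1]; exact Subgroup.mem_comap
  have hF1n : F1.Normal := by rw [hF1]; infer_instance
  have hNF1 : N ≤ F1 := by
    intro x hx
    rw [hF1mem, (QuotientGroup.eq_one_iff x).mpr hx]
    exact Fb.one_mem
  obtain ⟨N', hN'⟩ : ∃ N' : Subgroup F1, N' = N.subgroupOf F1 := ⟨_, rfl⟩
  have hN'n : N'.Normal := by rw [hN']; infer_instance
  have hN'mem : ∀ x : F1, x ∈ N' ↔ (x : G) ∈ N := by
    intro x; rw [hN']; exact Subgroup.mem_subgroupOf
  -- the surjection `F1 → Fb`
  let ψ : F1 →* Fb :=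
    { toFun := fun x => ⟨((x : G) : G ⧸ N), (hF1mem x).mp x.2⟩
      map_one' := by apply Subtype.ext; simp
      map_mul' := by intro a b; apply Subtype.ext; simp }
  have hψsurj : Function.Surjective ψ := by
    rintro ⟨y, hy⟩
    obtain ⟨x, rfl⟩ := QuotientGroup.mk_surjective y
    exact ⟨⟨x, (hF1mem x).mpr hy⟩, rfl⟩
  have hψker : ψ.ker = N' := by
    ext x
    rw [MonoidHom.mem_ker, hN'mem, ← QuotientGroup.eq_one_iff]
    constructor
    · intro h; exact congrArg Subtype.val h
    · intro h; exact Subtype.ext h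
  have hN'index : N'.index = Nat.card Fb := by
    rw [← hψker, Subgroup.index_ker, MonoidHom.range_eq_top.mpr hψsurj, Subgroup.card_top]
  have hN'card : Nat.card N' = Nat.card N := by
    rw [hN']; exact card_subgroupOf_of_le hNF1
  obtain ⟨H, hH⟩ := Subgroup.exists_right_complement'_of_coprime (N := N')
    (by rw [hN'card, hN'index]; exact hcop.symm)
  obtain ⟨K, hK⟩ : ∃ K : Subgroup G, K = H.map F1.subtype := ⟨_, rfl⟩
  have hKF1 : K ≤ F1 := by rw [hK]; exact Subgroup.map_subtype_le _
  have hKN : ∀ x ∈ K, x ∈ N → x = 1 := by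
    intro x hxK hxN
    rw [hK] at hxK
    obtain ⟨y, hy, rfl⟩ := hxK
    have h1 : y ∈ N' ⊓ H := ⟨(hN'mem y).mpr hxN, hy⟩
    rw [hH.disjoint.eq_bot, Subgroup.mem_bot] at h1
    rw [h1]; rfl
  have hdecomp : ∀ f ∈ F1, ∃ n ∈ N, ∃ k ∈ K, n * k = f := by
    intro f hf
    have h1 : (⟨f, hf⟩ : F1) ∈ N' ⊔ H := by rw [hH.sup_eq_top]; trivial
    obtain ⟨n, hn, k, hk, hnk⟩ := Subgroup.mem_sup_of_normal_left.mp h1
    refine ⟨n, (hN'mem n).mp hn, k, ?_, ?_⟩
    · rw [hK]; exact ⟨k, hk, rfl⟩
    · exact congrArg Subtype.val hnk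
  have hcardK : Nat.card K = Nat.card Fb := by
    rw [hK, Subgroup.card_map_of_injective F1.subtype_injective, ← hN'index]
    exact hH.symm.index_eq_card.symm
  have hcopK : (Nat.card N).Coprime (Nat.card K) := by
    rw [hcardK]; exact hcop.symm
  have hKmk : ∀ x ∈ K, (x : G ⧸ N) ∈ Fb := fun x hx => (hF1mem x).mp (hKF1 hx)
  -- `K` is solvable
  have hKs : Group.IsSolvable K := by
    let φ : K →* Fb :=
      { toFun := fun x => ⟨((x : G) : G ⧸ N), hKmk x x.2⟩
        map_one' := by apply Subtype.ext; simp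
        map_mul' := by intro a b; apply Subtype.ext; simp }
    have hφinj : Function.Injective φ := by
      rw [injective_iff_map_eq_one]
      intro a ha
      have h1 : ((a : G) : G ⧸ N) = 1 := congrArg Subtype.val ha
      rw [QuotientGroup.eq_one_iff] at h1
      exact Subtype.ext (hKN a a.2 h1)
    exact Group.isSolvable_of_isSolvable_injective hφinj
  have hKnorm : ∀ g : G, MulAut.conj g • K ≤ N ⊔ K := by
    intro g x hx
    rw [mem_cj] at hx
    have hxF : x ∈ F1 := by
      have := hF1n.conj_mem _ (hKF1 hx) g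
      have e : g * (g⁻¹ * x * g) * g⁻¹ = x := by group
      rwa [e] at this
    obtain ⟨n, hn, k, hk, rfl⟩ := hdecomp x hxF
    exact Subgroup.mul_mem_sup hn hk
  have hfpf : ∀ j, 0 < j → j < m → ∀ x ∈ K,
      hb ^ j * (x : G ⧸ N) = (x : G ⧸ N) * hb ^ j → x = 1 := by
    intro j hj0 hjm x hx hcomm
    have hc1 : hb ^ j ≠ 1 := pow_ne_one_of_lt_orderOf hj0.ne' (hbord.symm ▸ hjm)
    have := hfpfL (hb ^ j) (Subgroup.pow_mem _ hbH _) hc1 _ (hKmk x hx) hcomm
    rw [QuotientGroup.eq_one_iff] at this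
    exact hKN x hx this
  have hcent := mazurov_core N K hKnorm hcopK hKs hb m hm0 hfpf hA
  apply hnot
  intro y hy
  obtain ⟨f, rfl⟩ := QuotientGroup.mk_surjective y
  obtain ⟨n, hn, k, hk, rfl⟩ := hdecomp f ((hF1mem f).mpr hy)
  refine ⟨k, hcent hk, ?_⟩
  rw [QuotientGroup.mk'_apply, QuotientGroup.mk_mul, (QuotientGroup.eq_one_iff n).mpr hn, one_mul]

end Cfsg.Agent.S3703
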