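import Cfsg.Statements.S3704
import Mathlib

set_option autoImplicit false
open Cfsg

namespace Cfsg.Agent.S3704

open MulAction
open Classical

/-- the permutation matrix of `g` on a finite `G`-set -/
noncomputable def pm {G : Type*} [Group G] (X : Type*) [MulAction G X] [Fintype X] (g : G) :
    Matrix X X ℚ :=
  Matrix.of fun x y => if x = g • y then (1 : ℚ) else 0

theorem trace_pm {G : Type*} [Group G] (X : Type*) [MulAction G X] [Fintype X] (g : G) :
    (pm X g).trace = (Nat.card (fixedBy X g) : ℚ) := by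
  rw [Matrix.trace]
  simp only [Matrix.diag_apply, pm, Matrix.of_apply]
  rw [Finset.sum_boole, Nat.card_eq_fintype_card, Fintype.card_subtype]
  congr 2
  ext x
  simp only [Finset.mem_filter, Finset.mem_univ, true_and, mem_fixedBy]
  exact eq_comm

/-- Brauer's permutation lemma for a "symmetric design" intertwiner. -/
theorem card_fixedBy_eq {G : Type*} [Group G] {X Y : Type*} [MulAction G X] [MulAction G Y]
    [Fintype X] [Fintype Y] (hcard : Fintype.card X = Fintype.card Y) (M : Matrix X Y ℚ)
    (hM : ∀ (g : G) (x : X) (y : Y), M (g • x) (g • y) = M x y) (k l : ℚ) (hkl : 0 < k - l)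
    (hl : 0 ≤ l)
    (hgram : ∀ x x' : X, ∑ y, M x y * M x' y = if x = x' then k else l) (g : G) :
    Nat.card (fixedBy X g) = Nat.card (fixedBy Y g) := by
  -- the Gram matrix is invertible
  set N : Matrix X X ℚ := M * M.transpose with hN
  have hNentry : ∀ x x', N x x' = if x = x' then k else l := by
    intro x x'
    rw [hN, Matrix.mul_apply]
    simp only [Matrix.transpose_apply]
    exact hgram x x'
  have hinj : Function.Injective N.mulVec := by
    have hlin : ∀ v : X → ℚ, N.mulVec v = 0 → v = 0 := by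
      intro v hv
      have h1 : ∀ x, l * (∑ z, v z) + (k - l) * v x = 0 := by
        intro x
        have h2 := congrFun hv x
        rw [Matrix.mulVec, dotProduct] at h2
        simp only [hNentry, Pi.zero_apply] at h2
        have h3 : ∀ z, (if x = z then k else l) * v z =
            l * v z + (if x = z then (k - l) * v z else 0) := by
          intro z
          split_ifs <;> ring
        simp only [h3] at h2
        rw [Finset.sum_add_distrib, Finset.sum_ite_eq, ← Finset.mul_sum] at h2
        simpa using h2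
      have hsum : (∑ z, v z) = 0 := by
        have h2 : ∑ x : X, (l * (∑ z, v z) + (k - l) * v x) = 0 := by
          simp only [h1, Finset.sum_const_zero]
        rw [Finset.sum_add_distrib, Finset.sum_const, ← Finset.mul_sum, Finset.card_univ,
          nsmul_eq_mul] at h2
        have h3 : ((Fintype.card X : ℚ) * l + (k - l)) * (∑ z, v z) = 0 := by
          rw [← h2]; ring
        have h4 : (0 : ℚ) < (Fintype.card X : ℚ) * l + (k - l) := by
          have : (0 : ℚ) ≤ (Fintype.card X : ℚ) * l := mul_nonneg (Nat.cast_nonneg _) hl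
          linarith
        rcases mul_eq_zero.mp h3 with h5 | h5
        · exact absurd h5 h4.ne'
        · exact h5
      funext x
      have h2 := h1 x
      rw [hsum, mul_zero, zero_add] at h2
      rcases mul_eq_zero.mp h2 with h5 | h5
      · exact absurd h5 hkl.ne'
      · exact h5
    intro v w hvw
    have h1 : N.mulVec (v - w) = 0 := by
      rw [Matrix.mulVec_sub, hvw, sub_self]
    have h2 := hlin _ h1
    exact sub_eq_zero.mp h2
  have hunit : IsUnit N.det := (Matrix.isUnit_iff_isUnit_det N).mp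
    (Matrix.mulVec_injective_iff_isUnit.mp hinj)
  have hNinv : N * N⁻¹ = 1 := Matrix.mul_nonsing_inv N hunit
  set R : Matrix Y X ℚ := M.transpose * N⁻¹ with hR
  have hMR : M * R = 1 := by
    rw [hR, ← Matrix.mul_assoc, ← hN, hNinv]
  have hRM : R * M = 1 := (Matrix.mul_eq_one_comm_of_card_eq _ _ _ hcard).mp hMR
  -- intertwining
  have hint : pm X g * M = M * pm Y g := by
    ext x y
    rw [Matrix.mul_apply, Matrix.mul_apply]
    simp only [pm, Matrix.of_apply]
    have h1 : ∑ j, (if x = g • j then (1 : ℚ) else 0) * M j y = M (g⁻¹ • x) y := by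
      rw [Finset.sum_eq_single (g⁻¹ • x)]
      · simp
      · intro j _ hj
        have : ¬ x = g • j := by
          intro h
          apply hj
          rw [h, inv_smul_smul]
        simp [this]
      · intro h; exact absurd (Finset.mem_univ _) h
    have h2 : ∑ j, M x j * (if j = g • y then (1 : ℚ) else 0) = M x (g • y) := by
      simp
    rw [h1, h2]
    have h3 := hM g (g⁻¹ • x) y
    rw [smul_inv_smul] at h3
    exact h3.symm
  have htr : (pm X g).trace = (pm Y g).trace := by
    calc (pm X g).trace = (pm X g * (M * R)).trace := by rw [hMR, Matrix.mul_one]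
      _ = ((M * pm Y g) * R).trace := by rw [← Matrix.mul_assoc, hint]
      _ = (M * (pm Y g * R)).trace := by rw [Matrix.mul_assoc]
      _ = ((pm Y g * R) * M).trace := Matrix.trace_mul_comm _ _
      _ = (pm Y g).trace := by rw [Matrix.mul_assoc, hRM, Matrix.mul_one]
  rw [trace_pm, trace_pm] at htr
  exact_mod_cast htr


/-- fixed points of a product action -/
theorem card_fixedBy_prod {G : Type*} [Group G] (X Y : Type*) [MulAction G X] [MulAction G Y]
    [Finite X] [Finite Y] (g : G) :
    Nat.card (fixedBy (X × Y) g) = Nat.card (fixedBy X g) * Nat.card (fixedBy Y g) := by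
  rw [← Nat.card_prod]
  apply Nat.card_congr
  exact
    { toFun := fun p => (⟨p.1.1, congrArg Prod.fst p.2⟩, ⟨p.1.2, congrArg Prod.snd p.2⟩)
      invFun := fun q => ⟨(q.1.1, q.2.1), Prod.ext q.1.2 q.2.2⟩
      left_inv := fun p => rfl
      right_inv := fun q => rfl }

theorem burnside {G : Type*} [Group G] [Fintype G] (X : Type*) [MulAction G X] [Finite X] :
    ∑ g : G, Nat.card (fixedBy X g) = Nat.card (orbitRel.Quotient G X) * Nat.card G := by
  haveI : ∀ g : G, Fintype (fixedBy X g) := fun g => Fintype.ofFinite _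
  haveI : Fintype (orbitRel.Quotient G X) := Fintype.ofFinite _
  have h := MulAction.sum_card_fixedBy_eq_card_orbits_mul_card_group G X
  simp only [Nat.card_eq_fintype_card]
  convert h

theorem card_orbits_sq {G Ω : Type*} [Group G] [MulAction G Ω] [Finite Ω]
    (h2 : IsMultiplyPretransitive G Ω 2) (a b : Ω) (hab : a ≠ b) :
    Nat.card (orbitRel.Quotient G (Ω × Ω)) = 2 := by
  have h2' : ∀ {a b c d : Ω}, a ≠ b → c ≠ d → ∃ g : G, g • a = c ∧ g • b = d :=
    is_two_pretransitive_iff.mp h2
  haveI := h2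
  haveI htr : IsPretransitive G Ω := isPretransitive_of_is_two_pretransitive
  let χ : orbitRel.Quotient G (Ω × Ω) → Bool := fun u =>
    Quotient.liftOn' u (fun p : Ω × Ω => decide (p.1 = p.2)) (by
      rintro p q hpq
      have hpq' : p ∈ orbit G q := hpq
      obtain ⟨g, rfl⟩ := hpq'
      simp)
  have hbij : Function.Bijective χ := by
    constructor
    · intro u v
      induction u using Quotient.inductionOn' with
      | h p =>
        induction v using Quotient.inductionOn' with
        | h q =>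
          intro h
          have h' : decide (p.1 = p.2) = decide (q.1 = q.2) := h
          apply Quotient.sound'
          show p ∈ orbit G q
          by_cases hp : p.1 = p.2
          · have hq : q.1 = q.2 := by
              by_contra hq
              simp [hp, hq] at h'
            obtain ⟨g, hg⟩ := exists_smul_eq G q.1 p.1
            refine ⟨g, ?_⟩
            apply Prod.ext
            · exact hg
            · show g • q.2 = p.2
              rw [← hq, hg, hp]
          · have hq : q.1 ≠ q.2 := by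
              intro hq
              simp [hp, hq] at h'
            obtain ⟨g, hg1, hg2⟩ := h2' hq hp
            exact ⟨g, Prod.ext hg1 hg2⟩
    · intro c
      cases c
      · refine ⟨Quotient.mk'' (a, b), ?_⟩
        show decide (a = b) = false
        simp [hab]
      · refine ⟨Quotient.mk'' (a, a), ?_⟩
        show decide (a = a) = true
        simp
  rw [Nat.card_congr (Equiv.ofBijective χ hbij)]
  simp

theorem card_orbits_prod_quot {G Ω : Type*} [Group G] [MulAction G Ω] (H : Subgroup G) :
    Nat.card (orbitRel.Quotient H Ω) = Nat.card (orbitRel.Quotient G (Ω × G ⧸ H)) := by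
  let φ : orbitRel.Quotient H Ω → orbitRel.Quotient G (Ω × G ⧸ H) := fun u =>
    Quotient.liftOn' u (fun α => (Quotient.mk'' (α, ((1 : G) : G ⧸ H)) :
        orbitRel.Quotient G (Ω × G ⧸ H))) (by
      rintro α β hαβ
      have h' : α ∈ orbit H β := hαβ
      obtain ⟨h, rfl⟩ := h'
      apply Quotient.sound'
      show (h • β, ((1 : G) : G ⧸ H)) ∈ orbit G (β, ((1 : G) : G ⧸ H))
      refine ⟨(h : G), ?_⟩
      apply Prod.ext
      · rfl
      · show ((h : G) • ((1 : G) : G ⧸ H)) = ((1 : G) : G ⧸ H)
        rw [MulAction.Quotient.smul_mk, smul_eq_mul, mul_one]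
        exact QuotientGroup.eq.mpr (by rw [mul_one]; exact H.inv_mem h.2))
  have hbij : Function.Bijective φ := by
    constructor
    · intro u v
      induction u using Quotient.inductionOn' with
      | h α =>
        induction v using Quotient.inductionOn' with
        | h β =>
          intro h
          have h' : (α, ((1 : G) : G ⧸ H)) ∈ orbit G (β, ((1 : G) : G ⧸ H)) := Quotient.exact' h
          obtain ⟨g, hg⟩ := h'
          have hg1 : g • β = α := congrArg Prod.fst hg
          have hg2 : g • ((1 : G) : G ⧸ H) = ((1 : G) : G ⧸ H) := congrArg Prod.snd hg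
          rw [MulAction.Quotient.smul_mk, smul_eq_mul, mul_one, QuotientGroup.eq] at hg2
          have hgH : g ∈ H := by
            have := H.inv_mem hg2
            simpa using this
          apply Quotient.sound'
          show α ∈ orbit H β
          exact ⟨⟨g, hgH⟩, hg1⟩
    · intro w
      induction w using Quotient.inductionOn' with
      | h p =>
        obtain ⟨α, ψ⟩ := p
        obtain ⟨x, rfl⟩ := QuotientGroup.mk_surjective ψ
        refine ⟨Quotient.mk'' (x⁻¹ • α), ?_⟩
        apply Quotient.sound'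
        show (x⁻¹ • α, ((1 : G) : G ⧸ H)) ∈ orbit G (α, (QuotientGroup.mk x : G ⧸ H))
        refine ⟨x⁻¹, ?_⟩
        apply Prod.ext
        · rfl
        · show x⁻¹ • (QuotientGroup.mk x : G ⧸ H) = ((1 : G) : G ⧸ H)
          rw [MulAction.Quotient.smul_mk, smul_eq_mul, inv_mul_cancel]
  exact Nat.card_congr (Equiv.ofBijective φ hbij)


theorem result {G Ω : Type*} [Group G] [Finite G] [MulAction G Ω] [FaithfulSMul G Ω] [Finite Ω] (h2 : MulAction.IsMultiplyPretransitive G Ω 2) (H : Subgroup G) (hidx : H.index = Nat.card Ω) (hnt : ¬ MulAction.IsPretransitive H Ω) (hfix : ∀ a : Ω, ∃ h : H, h • a ≠ a) : Nat.card (MulAction.orbitRel.Quotient H Ω) = 2 := by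
  haveI : Fintype G := Fintype.ofFinite G
  haveI : Fintype Ω := Fintype.ofFinite Ω
  haveI : Fintype (G ⧸ H) := Fintype.ofFinite _
  have h2' : ∀ {a b c d : Ω}, a ≠ b → c ≠ d → ∃ g : G, g • a = c ∧ g • b = d :=
    is_two_pretransitive_iff.mp h2
  haveI := h2
  haveI htr : IsPretransitive G Ω := isPretransitive_of_is_two_pretransitive
  -- a₀, b₀ in different H-orbits
  have hnt' : ∃ a₀ b₀ : Ω, ∀ h : H, h • a₀ ≠ b₀ := by
    by_contra hcon
    push Not at hcon
    exact hnt ⟨fun a b => hcon a b⟩
  obtain ⟨a₀, b₀, hab⟩ := hnt'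
  have hab_ne : a₀ ≠ b₀ := by
    intro h
    exact hab 1 (by rw [one_smul]; exact h)
  -- the block Δ = orbit of a₀ under H
  let inD : Ω → Prop := fun x => ∃ h : H, (h : G) • a₀ = x
  have hinD : ∀ (h : G), h ∈ H → ∀ x, inD (h • x) ↔ inD x := by
    intro h hh x
    constructor
    · rintro ⟨u, hu⟩
      refine ⟨⟨h, hh⟩⁻¹ * u, ?_⟩
      show (h⁻¹ * (u : G)) • a₀ = x
      rw [mul_smul, hu, inv_smul_smul]
    · rintro ⟨u, hu⟩
      refine ⟨⟨h, hh⟩ * u, ?_⟩
      show (h * (u : G)) • a₀ = h • x
      rw [mul_smul, hu]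
  let mem : Ω → G ⧸ H → Prop := fun α ψ =>
    Quotient.liftOn' ψ (fun g => inD (g⁻¹ • α)) (by
      intro g₁ g₂ hg
      rw [QuotientGroup.leftRel_apply] at hg
      apply propext
      have e : g₂⁻¹ • α = (g₁⁻¹ * g₂)⁻¹ • (g₁⁻¹ • α) := by
        rw [smul_smul]; congr 1; group
      show inD (g₁⁻¹ • α) ↔ inD (g₂⁻¹ • α)
      rw [e]
      exact (hinD _ (H.inv_mem hg) _).symm)
  have mem_mk : ∀ α (g : G), mem α (QuotientGroup.mk g) ↔ inD (g⁻¹ • α) := fun α g => Iff.rfl
  have mem_smul : ∀ (x : G) α ψ, mem (x • α) (x • ψ) ↔ mem α ψ := by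
    intro x α ψ
    obtain ⟨g, rfl⟩ := QuotientGroup.mk_surjective ψ
    rw [MulAction.Quotient.smul_mk, mem_mk, mem_mk, smul_eq_mul, mul_inv_rev, mul_smul,
      inv_smul_smul]
  let M : Matrix Ω (G ⧸ H) ℚ := Matrix.of fun α ψ => if mem α ψ then (1 : ℚ) else 0
  have hM : ∀ (g : G) (x : Ω) (y : G ⧸ H), M (g • x) (g • y) = M x y := by
    intro g x y
    show (if mem (g • x) (g • y) then (1 : ℚ) else 0) = if mem x y then (1 : ℚ) else 0
    by_cases h : mem x y
    · rw [if_pos h, if_pos ((mem_smul g x y).mpr h)]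
    · rw [if_neg h, if_neg (fun h' => h ((mem_smul g x y).mp h'))]
  let f : Ω → Ω → ℚ := fun α β => ∑ ψ, M α ψ * M β ψ
  have hf : ∀ (x : G) α β, f (x • α) (x • β) = f α β := by
    intro x α β
    show ∑ ψ, M (x • α) ψ * M (x • β) ψ = ∑ ψ, M α ψ * M β ψ
    rw [← Equiv.sum_comp (MulAction.toPerm x) (fun ψ => M (x • α) ψ * M (x • β) ψ)]
    apply Finset.sum_congr rfl
    intro ψ _
    show M (x • α) (x • ψ) * M (x • β) (x • ψ) = _
    rw [hM, hM]
  have hgram : ∀ α β : Ω, ∑ ψ, M α ψ * M β ψ = if α = β then f a₀ a₀ else f a₀ b₀ := by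
    intro α β
    by_cases hαβ : α = β
    · rw [if_pos hαβ]
      subst hαβ
      obtain ⟨x, hx⟩ := exists_smul_eq G a₀ α
      rw [← hx]
      exact hf x a₀ a₀
    · rw [if_neg hαβ]
      obtain ⟨x, hx1, hx2⟩ := h2' hab_ne hαβ
      rw [← hx1, ← hx2]
      exact hf x a₀ b₀
  have hM01 : ∀ α ψ, M α ψ = 0 ∨ M α ψ = 1 := by
    intro α ψ
    show (if mem α ψ then (1 : ℚ) else 0) = 0 ∨ (if mem α ψ then (1 : ℚ) else 0) = 1
    split_ifs
    · right; rfl
    · left; rfl
  have hl : 0 ≤ f a₀ b₀ := by
    apply Finset.sum_nonneg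
    intro ψ _
    rcases hM01 a₀ ψ with h | h <;> rcases hM01 b₀ ψ with h' | h' <;> rw [h, h'] <;> norm_num
  have hkl : 0 < f a₀ a₀ - f a₀ b₀ := by
    show 0 < ∑ ψ, M a₀ ψ * M a₀ ψ - ∑ ψ, M a₀ ψ * M b₀ ψ
    rw [← Finset.sum_sub_distrib]
    have hnonneg : ∀ ψ ∈ (Finset.univ : Finset (G ⧸ H)),
        0 ≤ M a₀ ψ * M a₀ ψ - M a₀ ψ * M b₀ ψ := by
      intro ψ _
      rcases hM01 a₀ ψ with h | h <;> rcases hM01 b₀ ψ with h' | h' <;> rw [h, h'] <;> norm_num
    have hone : M a₀ (QuotientGroup.mk 1) * M a₀ (QuotientGroup.mk 1) -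
        M a₀ (QuotientGroup.mk 1) * M b₀ (QuotientGroup.mk 1) = 1 := by
      have h1 : mem a₀ (QuotientGroup.mk 1) := by
        rw [mem_mk, inv_one, one_smul]
        exact ⟨1, by rw [Subgroup.coe_one, one_smul]⟩
      have h2 : ¬ mem b₀ (QuotientGroup.mk 1) := by
        rw [mem_mk, inv_one, one_smul]
        rintro ⟨h, hh⟩
        exact hab h hh
      show (if mem a₀ (QuotientGroup.mk 1) then (1 : ℚ) else 0) *
          (if mem a₀ (QuotientGroup.mk 1) then (1 : ℚ) else 0) -
          (if mem a₀ (QuotientGroup.mk 1) then (1 : ℚ) else 0) *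
          (if mem b₀ (QuotientGroup.mk 1) then (1 : ℚ) else 0) = 1
      rw [if_pos h1, if_neg h2]
      norm_num
    have := Finset.single_le_sum hnonneg (Finset.mem_univ (QuotientGroup.mk 1 : G ⧸ H))
    rw [hone] at this
    linarith
  have hcard : Fintype.card Ω = Fintype.card (G ⧸ H) := by
    rw [← Nat.card_eq_fintype_card, ← Nat.card_eq_fintype_card, ← hidx]
    rfl
  have hfixeq : ∀ g : G, Nat.card (fixedBy Ω g) = Nat.card (fixedBy (G ⧸ H) g) :=
    fun g => card_fixedBy_eq hcard M hM _ _ hkl hl hgram g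
  -- counting orbits
  have hB1 := burnside (G := G) (Ω × Ω)
  have hB2 := burnside (G := G) (Ω × G ⧸ H)
  have hsum : ∑ g : G, Nat.card (fixedBy (Ω × G ⧸ H) g) = ∑ g : G, Nat.card (fixedBy (Ω × Ω) g) := by
    apply Finset.sum_congr rfl
    intro g _
    rw [card_fixedBy_prod, card_fixedBy_prod, hfixeq g]
  rw [hB1, hB2, card_orbits_sq h2 a₀ b₀ hab_ne] at hsum
  have h3 : Nat.card (orbitRel.Quotient G (Ω × G ⧸ H)) = 2 :=
    Nat.eq_of_mul_eq_mul_right Nat.card_pos hsum
  rw [card_orbits_prod_quot H, h3]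

end Cfsg.Agent.S3704
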