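import Cfsg.Statements.S3733
import Mathlib

set_option autoImplicit false
open Cfsg

namespace Cfsg.Agent.S3733

/-- Let A and V be subgroups of a finite group with V abelian and nontrivial and A normalizing V. Suppose a nonempty finite family of proper subgroups of A partitions A: every non-identity element of A lies in exactly one member. If the number of members minus one is coprime to the order of V, then some member B of the family has a non-identity fixed point on V, that is V ∩ C(B) ≠ 1. -/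
theorem result {G : Type*} [Group G] [Finite G] (A V : Subgroup G) (hVab : IsMulCommutative V) (hV : V ≠ ⊥) (hAV : A ≤ Subgroup.normalizer (V : Set G)) (𝒜 : Finset (Subgroup G)) (hne : 𝒜.Nonempty) (hprop : ∀ B ∈ 𝒜, B < A) (hpart : ∀ a ∈ A, a ≠ 1 → ∃! B, B ∈ 𝒜 ∧ a ∈ B) (hk : (𝒜.card - 1).Coprime (Nat.card V)) : ∃ B ∈ 𝒜, V ⊓ Subgroup.centralizer (B : Set G) ≠ ⊥ := by
  classical
  haveI : Fintype G := Fintype.ofFinite G
  by_contra hcon
  push Not at hcon
  letI : CommGroup V := { (inferInstance : Group V) with mul_comm := hVab.is_comm.comm }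
  apply hV
  rw [Subgroup.eq_bot_iff_forall]
  intro v hv
  -- conjugation stays in V
  have hconjV : ∀ g ∈ A, ∀ x ∈ V, g * x * g⁻¹ ∈ V := fun g hg x hx =>
    (Subgroup.mem_normalizer_iff.mp (hAV hg) x).mp hx
  -- the conjugation hom
  let c : ∀ g ∈ A, (V →* V) := fun g hg =>
    { toFun := fun x => ⟨g * x * g⁻¹, hconjV g hg x x.2⟩
      map_one' := by ext; simp
      map_mul' := by intro x y; ext; simp [mul_assoc] }
  let F : G → V := fun g => if h : g ∈ A then ⟨g * v * g⁻¹, hconjV g h v hv⟩ else 1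
  have hF : ∀ g (h : g ∈ A), F g = ⟨g * v * g⁻¹, hconjV g h v hv⟩ := fun g h => dif_pos h
  let S : Subgroup G → Finset G := fun B => (B : Set G).toFinset
  have hS : ∀ B g, g ∈ S B ↔ g ∈ B := fun B g => by simp [S]
  let τ : Subgroup G → V := fun B => ∏ g ∈ S B, F g
  -- τ B is fixed by B
  have hfix : ∀ B : Subgroup G, B ≤ A → ∀ b ∈ B, (b * (τ B : G) * b⁻¹) = τ B := by
    intro B hBA b hb
    have h1 : c b (hBA hb) (τ B) = τ B := by
      show c b (hBA hb) (∏ g ∈ S B, F g) = ∏ g ∈ S B, F g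
      rw [map_prod]
      refine Finset.prod_equiv (Equiv.mulLeft b) ?_ ?_
      · intro g
        rw [hS, hS]
        simp only [Equiv.coe_mulLeft]
        exact ⟨fun h => B.mul_mem hb h, fun h => by simpa using B.mul_mem (B.inv_mem hb) h⟩
      · intro g hg
        rw [hS] at hg
        simp only [Equiv.coe_mulLeft]
        rw [hF g (hBA hg), hF (b * g) (A.mul_mem (hBA hb) (hBA hg))]
        ext
        simp [c, mul_assoc]
    have := congrArg (fun x : V => (x : G)) h1
    simpa [c] using this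
  have hcent : ∀ B : Subgroup G, B ≤ A → (τ B : G) ∈ V ⊓ Subgroup.centralizer (B : Set G) := by
    intro B hBA
    refine ⟨(τ B).2, ?_⟩
    show (τ B : G) ∈ Subgroup.centralizer (B : Set G)
    rw [Subgroup.mem_centralizer_iff]
    intro b hb
    have := hfix B hBA b hb
    calc b * (τ B : G) = b * (τ B : G) * b⁻¹ * b := by group
      _ = (τ B : G) * b := by rw [this]
  -- all τ B trivial
  have hτB : ∀ B ∈ 𝒜, τ B = 1 := by
    intro B hB
    have h := hcent B (hprop B hB).le
    rw [hcon B hB, Subgroup.mem_bot] at h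
    exact Subtype.ext h
  have hτA : τ A = 1 := by
    obtain ⟨B, hB⟩ := hne
    have h := hcent A le_rfl
    have h2 : (τ A : G) ∈ V ⊓ Subgroup.centralizer (B : Set G) :=
      ⟨h.1, Subgroup.centralizer_le (hprop B hB).le h.2⟩
    rw [hcon B hB, Subgroup.mem_bot] at h2
    exact Subtype.ext h2
  -- splitting off 1
  have hF1 : F 1 = ⟨v, hv⟩ := by
    rw [hF 1 A.one_mem]; ext; simp
  have hsplit : ∀ B : Subgroup G, τ B = ⟨v, hv⟩ * ∏ g ∈ (S B).erase 1, F g := by
    intro B
    show ∏ g ∈ S B, F g = _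
    rw [← Finset.mul_prod_erase (S B) F ((hS B 1).mpr B.one_mem), hF1]
  -- partition
  have hunion : (S A).erase 1 = 𝒜.biUnion (fun B => (S B).erase 1) := by
    ext g
    simp only [Finset.mem_erase, Finset.mem_biUnion, hS]
    constructor
    · rintro ⟨hg1, hgA⟩
      obtain ⟨B, ⟨hB, hgB⟩, -⟩ := hpart g hgA hg1
      exact ⟨B, hB, hg1, hgB⟩
    · rintro ⟨B, hB, hg1, hgB⟩
      exact ⟨hg1, (hprop B hB).le hgB⟩
  have hdisj : (𝒜 : Set (Subgroup G)).PairwiseDisjoint (fun B => (S B).erase 1) := by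
    intro B hB B' hB' hne'
    rw [Function.onFun, Finset.disjoint_left]
    intro g hg hg'
    simp only [Finset.mem_erase, hS] at hg hg'
    obtain ⟨B0, -, huniq⟩ := hpart g ((hprop B hB).le hg.2) hg.1
    exact hne' ((huniq B ⟨hB, hg.2⟩).trans (huniq B' ⟨hB', hg'.2⟩).symm)
  have hprod : ∏ B ∈ 𝒜, τ B = (⟨v, hv⟩ : V) ^ 𝒜.card * ∏ g ∈ (S A).erase 1, F g := by
    rw [hunion, Finset.prod_biUnion hdisj]
    rw [Finset.prod_congr rfl (fun B _ => hsplit B), Finset.prod_mul_distrib, Finset.prod_const]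
  have h1 : (1 : V) = (⟨v, hv⟩ : V) ^ 𝒜.card * ∏ g ∈ (S A).erase 1, F g := by
    rw [← hprod]
    exact (Finset.prod_eq_one hτB).symm
  have h2 : (1 : V) = ⟨v, hv⟩ * ∏ g ∈ (S A).erase 1, F g := by
    rw [← hsplit A, hτA]
  have hcard : 𝒜.card = (𝒜.card - 1) + 1 := by
    have := Finset.card_pos.mpr hne
    omega
  have h3 : (⟨v, hv⟩ : V) ^ (𝒜.card - 1) = 1 := by
    have h4 : (⟨v, hv⟩ : V) ^ 𝒜.card * ∏ g ∈ (S A).erase 1, F g = ⟨v, hv⟩ * ∏ g ∈ (S A).erase 1, F g := by
      rw [← h1, ← h2]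
    have h5 := mul_right_cancel h4
    rw [hcard, pow_succ] at h5
    exact mul_right_cancel (h5.trans (one_mul _).symm)
  have h6 : orderOf (⟨v, hv⟩ : V) ∣ 𝒜.card - 1 := orderOf_dvd_of_pow_eq_one h3
  have h7 : orderOf (⟨v, hv⟩ : V) ∣ Nat.card V := orderOf_dvd_natCard _
  have h8 : orderOf (⟨v, hv⟩ : V) = 1 := Nat.eq_one_of_dvd_coprimes hk h6 h7
  rw [orderOf_eq_one_iff] at h8
  exact congrArg (fun x : V => (x : G)) h8

end Cfsg.Agent.S3733
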