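import Cfsg.Statements.S3735
import Mathlib

set_option autoImplicit false
open Cfsg

namespace Cfsg.Agent.S3735

open scoped Pointwise

variable {G : Type*} [Group G]

/-- `W` is closed under conjugation by elements of `A`. -/
def Inv (A W : Subgroup G) : Prop := ∀ a ∈ A, ∀ w ∈ W, a * w * a⁻¹ ∈ W

theorem inv_of_le_normalizer {A W : Subgroup G} (h : A ≤ Subgroup.normalizer (W : Set G)) :
    Inv A W := fun a ha w hw => (Subgroup.mem_normalizer_iff.mp (h ha) w).mp hw

theorem le_normalizer_of_inv {A W : Subgroup G} (h : Inv A W) :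
    A ≤ Subgroup.normalizer (W : Set G) := by
  intro x hx
  rw [Subgroup.mem_normalizer_iff]
  intro n
  refine ⟨h x hx n, fun hn => ?_⟩
  have := h x⁻¹ (A.inv_mem hx) _ hn
  simpa [mul_assoc] using this

theorem inv_iff_map_le {A W : Subgroup G} :
    Inv A W ↔ ∀ a ∈ A, W.map (MulAut.conj a).toMonoidHom ≤ W := by
  constructor
  · rintro h a ha _ ⟨w, hw, rfl⟩
    exact h a ha w hw
  · intro h a ha w hw
    exact h a ha ⟨w, hw, rfl⟩

theorem Inv.sup {A W X : Subgroup G} (hW : Inv A W) (hX : Inv A X) : Inv A (W ⊔ X) := by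
  rw [inv_iff_map_le] at *
  intro a ha
  rw [Subgroup.map_sup]
  exact sup_le_sup (hW a ha) (hX a ha)

theorem Inv.inf {A W X : Subgroup G} (hW : Inv A W) (hX : Inv A X) : Inv A (W ⊓ X) :=
  fun a ha w hw => ⟨hW a ha w hw.1, hX a ha w hw.2⟩

theorem Inv.sSup {A : Subgroup G} {S : Set (Subgroup G)} (h : ∀ W ∈ S, Inv A W) :
    Inv A (sSup S) := by
  rw [inv_iff_map_le]
  intro a ha
  rw [sSup_eq_iSup, Subgroup.map_iSup]
  apply iSup_le
  intro W
  rw [Subgroup.map_iSup]
  apply iSup_le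
  intro hW
  exact ((inv_iff_map_le.mp (h W hW)) a ha).trans (le_iSup₂_of_le W hW le_rfl)

theorem Inv.mono {A B W : Subgroup G} (hAB : A ≤ B) (h : Inv B W) : Inv A W :=
  fun a ha => h a (hAB ha)

/-- Conjugating by an element normalizing `A` preserves `A`-invariance. -/
theorem Inv.conj {A W : Subgroup G} (h : Inv A W) (g : G)
    (hg : ∀ a ∈ A, g⁻¹ * a * g ∈ A) : Inv A (W.map (MulAut.conj g).toMonoidHom) := by
  rintro a ha _ ⟨w, hw, rfl⟩
  refine ⟨(g⁻¹ * a * g) * w * (g⁻¹ * a * g)⁻¹, h _ (hg a ha) w hw, ?_⟩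
  simp only [MulEquiv.coe_toMonoidHom, MulAut.conj_apply]
  group

/-- Minimal `A`-invariant subgroups of `V`. -/
def IsMinInv (A V X : Subgroup G) : Prop :=
  X ≤ V ∧ Inv A X ∧ X ≠ ⊥ ∧ ∀ Y : Subgroup G, Y ≤ X → Inv A Y → Y = ⊥ ∨ Y = X

theorem exists_minInv [Finite G] (A V W : Subgroup G) (hWV : W ≤ V) (hW : Inv A W) (hne : W ≠ ⊥) :
    ∃ X, IsMinInv A V X ∧ X ≤ W := by
  let S : Set (Subgroup G) := {K | Inv A K ∧ K ≠ ⊥ ∧ K ≤ W}
  have hS : S.Nonempty := ⟨W, hW, hne, le_rfl⟩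
  obtain ⟨M, ⟨hMn, hMne, hMN⟩, hMmin⟩ := WellFounded.has_min (wellFounded_lt (α := Subgroup G)) S hS
  refine ⟨M, ⟨hMN.trans hWV, hMn, hMne, ?_⟩, hMN⟩
  intro K hKM hKn
  by_cases hK : K = ⊥
  · left; exact hK
  · right
    by_contra hne'
    exact hMmin K ⟨hKn, hK, hKM.trans hMN⟩ (lt_of_le_of_ne hKM hne')

theorem map_conj_map_conj_inv (g : G) (W : Subgroup G) :
    (W.map (MulAut.conj g⁻¹).toMonoidHom).map (MulAut.conj g).toMonoidHom = W := by
  ext x
  constructor
  · rintro ⟨_, ⟨w, hw, rfl⟩, rfl⟩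
    simpa [mul_assoc] using hw
  · intro hx
    exact ⟨g⁻¹ * x * g, ⟨x, hx, by simp⟩, by simp [mul_assoc]⟩

/-- Clifford's Theorem for actions on finite abelian groups, first part. Let H and V be subgroups of a finite group with V abelian and H normalizing V, and let A be a normal subgroup of H. If every H-invariant subgroup of V has an H-invariant complement in V, then every A-invariant subgroup of V has an A-invariant complement in V. -/
theorem result {G : Type*} [Group G] [Finite G] (H A V : Subgroup G) (hVab : IsMulCommutative V) (hHV : H ≤ Subgroup.normalizer (V : Set G)) (hAH : A ≤ H) (hAn : H ≤ Subgroup.normalizer (A : Set G)) (hss : ∀ U : Subgroup G, U ≤ V → H ≤ Subgroup.normalizer (U : Set G) → ∃ W : Subgroup G, W ≤ V ∧ H ≤ Subgroup.normalizer (W : Set G) ∧ U ⊓ W = ⊥ ∧ U ⊔ W = V) (U : Subgroup G) (hUV : U ≤ V) (hAU : A ≤ Subgroup.normalizer (U : Set G)) : ∃ W : Subgroup G, W ≤ V ∧ A ≤ Subgroup.normalizer (W : Set G) ∧ U ⊓ W = ⊥ ∧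 U ⊔ W = V := by
  have hcomm : ∀ x ∈ V, ∀ y ∈ V, x * y = y * x := by
    intro x hx y hy
    have := hVab.is_comm.comm (⟨x, hx⟩ : V) ⟨y, hy⟩
    exact congrArg Subtype.val this
  have hHVinv : Inv H V := inv_of_le_normalizer hHV
  have hHAinv : Inv H A := inv_of_le_normalizer hAn
  have hUinv : Inv A U := inv_of_le_normalizer hAU
  -- conjugation by H preserves A-invariance
  have hconjA : ∀ h ∈ H, ∀ a ∈ A, h⁻¹ * a * h ∈ A := by
    intro h hh a ha
    have := hHAinv h⁻¹ (H.inv_mem hh) a ha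
    simpa using this
  -- conjugation by H preserves minimal invariant subgroups
  have hconjMin : ∀ h ∈ H, ∀ X, IsMinInv A V X → IsMinInv A V (X.map (MulAut.conj h).toMonoidHom) := by
    intro h hh X ⟨hXV, hXinv, hXne, hXmin⟩
    refine ⟨?_, hXinv.conj h (hconjA h hh), ?_, ?_⟩
    · rintro _ ⟨x, hx, rfl⟩
      exact hHVinv h hh x (hXV hx)
    · intro h0
      exact hXne ((Subgroup.map_eq_bot_iff_of_injective _ (MulAut.conj h).injective).mp h0)
    · intro Y hYX hYinv
      have hY' : Y.map (MulAut.conj h⁻¹).toMonoidHom ≤ X := by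
        rintro _ ⟨y, hy, rfl⟩
        obtain ⟨x, hx, rfl⟩ := hYX hy
        simpa [mul_assoc] using hx
      have hY'inv : Inv A (Y.map (MulAut.conj h⁻¹).toMonoidHom) :=
        hYinv.conj h⁻¹ (fun a ha => by
          have := hHAinv h hh a ha
          simpa using this)
      rcases hXmin _ hY' hY'inv with h1 | h1
      · left
        exact (Subgroup.map_eq_bot_iff_of_injective _ (MulAut.conj h⁻¹).injective).mp h1
      · right
        rw [← h1, map_conj_map_conj_inv]
  -- the socle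
  obtain ⟨S, hS⟩ : ∃ S : Subgroup G, S = sSup {X | IsMinInv A V X} := ⟨_, rfl⟩
  have hSV : S ≤ V := hS ▸ sSup_le (fun X hX => hX.1)
  have hSinvH : Inv H S := by
    rw [inv_iff_map_le]
    intro h hh
    rw [hS, sSup_eq_iSup, Subgroup.map_iSup]
    apply iSup_le
    intro X
    rw [Subgroup.map_iSup]
    apply iSup_le
    intro hX
    exact le_iSup₂_of_le (X.map (MulAut.conj h).toMonoidHom) (hconjMin h hh X hX) le_rfl
  have hSeq : S = V := by
    obtain ⟨W, hWV, hWH, hSW, hSWV⟩ := hss S hSV (le_normalizer_of_inv hSinvH)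
    have hW0 : W = ⊥ := by
      by_contra hne
      obtain ⟨X, hX, hXW⟩ :=
        exists_minInv A V W hWV ((inv_of_le_normalizer hWH).mono hAH) hne
      have hXS : X ≤ S := hS ▸ le_sSup hX
      apply hX.2.2.1
      rw [← le_bot_iff, ← hSW]
      exact le_inf hXS hXW
    rw [hW0, sup_bot_eq] at hSWV
    exact hSWV
  -- maximal W
  obtain ⟨W, -, hWmax⟩ := (Set.toFinite {W : Subgroup G | W ≤ V ∧ Inv A W ∧ U ⊓ W = ⊥}).exists_le_maximal
    (a := ⊥) ⟨bot_le, fun a _ w hw => by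
      rw [Subgroup.mem_bot] at hw ⊢; rw [hw]; simp, by simp⟩
  obtain ⟨⟨hWV, hWinv, hUW⟩, hWmax'⟩ := hWmax
  refine ⟨W, hWV, le_normalizer_of_inv hWinv, hUW, ?_⟩
  apply le_antisymm (sup_le hUV hWV)
  rw [← hSeq, hS]
  apply sSup_le
  intro X hX
  by_contra hXle
  obtain ⟨hXV, hXinv, hXne, hXmin⟩ := hX
  have hXUW : X ⊓ (U ⊔ W) = ⊥ := by
    rcases hXmin (X ⊓ (U ⊔ W)) inf_le_left (hXinv.inf (hUinv.sup hWinv)) with h | h
    · exact h
    · exfalso
      apply hXle
      rw [← h]; exact inf_le_right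
  have hXnormW : X ≤ Subgroup.normalizer (W : Set G) := by
    apply le_normalizer_of_inv
    intro x hx w hw
    have := hcomm x (hXV hx) w (hWV hw)
    rw [this]; simpa using hw
  have hmem : (W ⊔ X : Subgroup G) ∈ {W : Subgroup G | W ≤ V ∧ Inv A W ∧ U ⊓ W = ⊥} := by
    refine ⟨sup_le hWV hXV, hWinv.sup hXinv, ?_⟩
    rw [Subgroup.eq_bot_iff_forall]
    rintro g ⟨hgU, hgWX⟩
    have h1 : g ∈ (W : Set G) * (X : Set G) := by
      rw [← Subgroup.coe_mul_of_right_le_normalizer_left W X hXnormW]; exact hgWX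
    obtain ⟨w, hw, x, hx, rfl⟩ := h1
    have hx1 : x ∈ X ⊓ (U ⊔ W) := by
      refine ⟨hx, ?_⟩
      have h2 : x = w⁻¹ * (w * x) := by group
      rw [h2]
      exact (U ⊔ W).mul_mem (Subgroup.mem_sup_right (W.inv_mem hw)) (Subgroup.mem_sup_left hgU)
    rw [hXUW, Subgroup.mem_bot] at hx1
    subst hx1
    have h3 : w ∈ U ⊓ W := ⟨by simpa using hgU, hw⟩
    rw [hUW, Subgroup.mem_bot] at h3
    rw [h3]; simp
  have := hWmax' hmem le_sup_left
  exact hXle ((le_sup_right.trans this).trans le_sup_right)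

end Cfsg.Agent.S3735
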