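import Mathlib
import Cfsg.Statements.S3738
import Cfsg.Agent.Lib.Helper10.CentralSquares

set_option autoImplicit false
open Cfsg

namespace Cfsg.Agent.S3738

open Subgroup Cfsg.Agent.Lib.Helper10.CentralSquares
open scoped commutatorElement

section gen
variable {X : Type*} [Group X]

theorem exists_min_card [Finite X] (p : Subgroup X → Prop) (h : ∃ Q, p Q) :
    ∃ Q, p Q ∧ ∀ R, p R → Nat.card Q ≤ Nat.card R := by
  classical
  have h' : ∃ k, ∃ Q, p Q ∧ Nat.card Q = k := by
    obtain ⟨Q, hQ⟩ := h; exact ⟨_, Q, hQ, rfl⟩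
  obtain ⟨Q, hQ, hk⟩ := Nat.find_spec h'
  refine ⟨Q, hQ, fun R hR => ?_⟩
  rw [hk]
  exact Nat.find_min' h' ⟨R, hR, rfl⟩

theorem nrm_of_forall [Finite X] {H : Subgroup X} {d : X} (h : ∀ x ∈ H, d * x * d⁻¹ ∈ H) :
    d ∈ normalizer (H : Set X) :=
  mem_normalizer_fintype (fun n hn => h n hn)

theorem conj_mem_of_nrm {H : Subgroup X} {d : X} (hd : d ∈ normalizer (H : Set X)) {x : X}
    (hx : x ∈ H) : d * x * d⁻¹ ∈ H :=
  (mem_normalizer_iff.1 hd x).1 hx

theorem conj_inv_mem_of_nrm {H : Subgroup X} {d : X} (hd : d ∈ normalizer (H : Set X)) {x : X}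
    (hx : x ∈ H) : d⁻¹ * x * d ∈ H := by
  have := (mem_normalizer_iff.1 (inv_mem hd) x).1 hx
  simpa using this

theorem nrm_inf [Finite X] {A B : Subgroup X} {d : X} (hA : d ∈ normalizer (A : Set X))
    (hB : d ∈ normalizer (B : Set X)) : d ∈ normalizer ((A ⊓ B : Subgroup X) : Set X) :=
  nrm_of_forall (fun x hx => ⟨conj_mem_of_nrm hA hx.1, conj_mem_of_nrm hB hx.2⟩)

theorem mem_cent_singleton {z x : X} : x ∈ centralizer ({z} : Set X) ↔ z * x = x * z := by
  rw [mem_centralizer_iff]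
  constructor
  · intro h; exact h z rfl
  · intro h y hy; rw [Set.mem_singleton_iff] at hy; subst hy; exact h

theorem nrm_cent_singleton [Finite X] {d z : X} (h : d * z = z * d) :
    d ∈ normalizer ((centralizer ({z} : Set X) : Subgroup X) : Set X) := by
  apply nrm_of_forall
  intro x hx
  rw [mem_cent_singleton] at hx ⊢
  calc z * (d * x * d⁻¹) = (z * d) * x * d⁻¹ := by group
    _ = d * (z * x) * d⁻¹ := by rw [← h]; group
    _ = d * (x * z) * d⁻¹ := by rw [hx]
    _ = d * x * (z * d⁻¹) := by group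
    _ = d * x * (d⁻¹ * z) := by
        have : z * d⁻¹ = d⁻¹ * z := by
          have h2 : d⁻¹ * (d * z) * d⁻¹ = d⁻¹ * (z * d) * d⁻¹ := by rw [h]
          calc z * d⁻¹ = d⁻¹ * (d * z) * d⁻¹ := by group
            _ = d⁻¹ * (z * d) * d⁻¹ := h2
            _ = d⁻¹ * z := by group
        rw [this]
    _ = d * x * d⁻¹ * z := by group

theorem nrm_closure [Finite X] {S : Set X} {d : X} (h : ∀ s ∈ S, d * s * d⁻¹ ∈ S) :
    d ∈ normalizer ((closure S : Subgroup X) : Set X) := by
  apply nrm_of_forall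
  intro x hx
  induction hx using closure_induction with
  | mem s hs => exact subset_closure (h s hs)
  | one => simp
  | mul a b _ _ ha hb =>
    have : d * (a * b) * d⁻¹ = (d * a * d⁻¹) * (d * b * d⁻¹) := by group
    rw [this]; exact mul_mem ha hb
  | inv a _ ha =>
    have : d * a⁻¹ * d⁻¹ = (d * a * d⁻¹)⁻¹ := by group
    rw [this]; exact inv_mem ha

theorem nrm_commutator {A B : Subgroup X} {d : X} (hA : d ∈ normalizer (A : Set X))
    (hB : d ∈ normalizer (B : Set X)) : d ∈ normalizer ((⁅A, B⁆ : Subgroup X) : Set X) := by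
  rw [mem_normalizer_iff_map_conj_eq] at hA hB ⊢
  rw [map_commutator, hA, hB]

end gen

theorem key9 : ∀ j < 9, j ≠ 0 → ∃ m < 9, (j * m) % 9 = 3 := by decide

theorem free9 {S : Type*} [Fintype S] (π : Equiv.Perm S) (h9 : π ^ 9 = 1)
    (h3 : ∀ s, (π ^ 3) s ≠ s) : 9 ∣ Fintype.card S := by
  classical
  rcases isEmpty_or_nonempty S with hS | ⟨⟨s0⟩⟩
  · simp [Fintype.card_eq_zero]
  have hord : orderOf π = 9 := by
    have hdvd : orderOf π ∣ 9 := orderOf_dvd_of_pow_eq_one h9
    have hn3 : ¬ orderOf π ∣ 3 := fun h => h3 s0 (by rw [orderOf_dvd_iff_pow_eq_one.1 h]; rfl)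
    have h9' : (9 : ℕ) = 3 ^ 2 := by norm_num
    rw [h9', Nat.dvd_prime_pow Nat.prime_three] at hdvd
    obtain ⟨k, hk, hk'⟩ := hdvd
    interval_cases k
    · exfalso; apply hn3; rw [hk']; norm_num
    · exfalso; apply hn3; rw [hk']; norm_num
    · rw [hk']; norm_num
  have hHcard : Fintype.card (Subgroup.zpowers π) = 9 := by
    rw [← Nat.card_eq_fintype_card, Nat.card_zpowers, hord]
  have hfix : ∀ h : Subgroup.zpowers π, h ≠ 1 → ∀ s : S, h • s ≠ s := by
    rintro ⟨h, hh⟩ hne s hs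
    have hs' : h s = s := hs
    rw [mem_zpowers_iff_mem_range_orderOf, hord, Finset.mem_image] at hh
    obtain ⟨j, hj, rfl⟩ := hh
    rw [Finset.mem_range] at hj
    have hj0 : j ≠ 0 := by
      rintro rfl
      exact hne (Subtype.ext (by simp))
    obtain ⟨m, _, hm⟩ := key9 j hj hj0
    have h1 : ((π ^ j) ^ m) s = s := Equiv.Perm.pow_apply_eq_self_of_apply_eq_self hs' m
    rw [← pow_mul, pow_eq_pow_mod (j * m) h9, hm] at h1
    exact h3 s h1
  have hB := MulAction.sum_card_fixedBy_eq_card_orbits_mul_card_group (Subgroup.zpowers π) S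
  have hsum : ∑ a : Subgroup.zpowers π, Fintype.card (MulAction.fixedBy S a) = Fintype.card S := by
    rw [Finset.sum_eq_single (1 : Subgroup.zpowers π)]
    · exact Fintype.card_congr (Equiv.subtypeUnivEquiv (fun s => by simp [MulAction.mem_fixedBy]))
    · intro b _ hb
      rw [Fintype.card_eq_zero_iff]
      exact ⟨fun ⟨s, hs⟩ => hfix b hb s hs⟩
    · intro h; exact absurd (Finset.mem_univ _) h
  rw [hsum, hHcard] at hB
  exact ⟨_, by rw [hB, mul_comm]⟩

/-- Let d be a non-identity 3-element of a finite group and P a 2-subgroup normalized by d on which ⟨d⟩ acts faithfully (no non-identity power of d centralizes P) and without non-identity fixed points (C_P(d) = 1). If every abelian subgroup of P has 2-rank at most 2, then d has order 3. -/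
theorem result {X : Type*} [Group X] [Finite X] (d : X) (n : ℕ) (hn : 1 ≤ n) (hd : orderOf d = 3 ^ n) (P : Subgroup X) (hP : IsPGroup 2 P) (hdP : d ∈ Subgroup.normalizer (P : Set X)) (hfaith : Subgroup.zpowers d ⊓ Subgroup.centralizer (P : Set X) = ⊥) (hfpf : P ⊓ Subgroup.centralizer {d} = ⊥) (hrank : ∀ V : Subgroup X, V ≤ P → IsMulCommutative V → Cfsg.PRankLE 2 2 V) : orderOf d = 3 := by
  classical
  by_contra hne
  have hn2 : 2 ≤ n := by
    rcases Nat.lt_or_ge n 2 with h | h
    · exfalso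
      have : n = 1 := by omega
      subst this
      simp at hd
      exact hne hd
    · exact h
  have hd0ne : orderOf d ≠ 0 := by rw [hd]; positivity
  have hord0 : orderOf (d ^ (orderOf d / 3)) = 3 :=
    orderOf_pow_orderOf_div hd0ne (by rw [hd]; exact dvd_pow_self 3 (by omega))
  have hordg : orderOf (d ^ (orderOf d / 9)) = 9 :=
    orderOf_pow_orderOf_div hd0ne (by rw [hd]; exact (pow_dvd_pow 3 hn2 : 3 ^ 2 ∣ 3 ^ n))
  have hg3 : (d ^ (orderOf d / 9)) ^ 3 = d ^ (orderOf d / 3) := by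
    rw [← pow_mul]; congr 1; rw [hd]
    obtain ⟨k, rfl⟩ : ∃ k, n = k + 2 := ⟨n - 2, by omega⟩
    have e1 : 3 ^ (k + 2) = 3 ^ k * 9 := by ring
    have e2 : 3 ^ k * 9 = (3 ^ k * 3) * 3 := by ring
    rw [e1, Nat.mul_div_cancel _ (by norm_num), e2, Nat.mul_div_cancel _ (by norm_num)]
  generalize hd0def : d ^ (orderOf d / 3) = d0 at hord0 hg3
  generalize hgdef : d ^ (orderOf d / 9) = g at hordg hg3
  have hd0z : d0 ∈ zpowers d := by rw [← hd0def]; exact pow_mem (mem_zpowers d) _
  have hd01 : d0 ≠ 1 := by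
    intro h; rw [h, orderOf_one] at hord0; omega
  have hcomm0 : d * d0 = d0 * d := by
    rw [← hd0def]; exact ((Commute.refl d).pow_right _).eq
  have hcommg : d * g = g * d := by
    rw [← hgdef]; exact ((Commute.refl d).pow_right _).eq
  have hd03 : d0 ^ 3 = 1 := by rw [← hord0]; exact pow_orderOf_eq_one d0
  have hg9 : g ^ 9 = 1 := by rw [← hordg]; exact pow_orderOf_eq_one g
  -- rank condition in usable form
  have hrk : ∀ E : Subgroup X, E ≤ P → (∀ a ∈ E, ∀ b ∈ E, a * b = b * a) → (∀ a ∈ E, a ^ 2 = 1) →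
      Nat.card E ≤ 4 := by
    intro E hE hcomm hexp
    have hc : IsMulCommutative E := by
      refine ⟨⟨?_⟩⟩
      rintro ⟨a, ha⟩ ⟨b, hb⟩
      exact Subtype.ext (hcomm a ha b hb)
    have hc' : IsMulCommutative (⊤ : Subgroup E) := by
      refine ⟨⟨?_⟩⟩
      rintro ⟨⟨a, ha⟩, _⟩ ⟨⟨b, hb⟩, _⟩
      exact Subtype.ext (Subtype.ext (hcomm a ha b hb))
    have := hrank E hE hc ⊤ hc' (fun a _ => Subtype.ext (hexp a a.2))
    rw [Subgroup.card_top] at this
    simpa using this
  -- the family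
  have hex : ∃ Q : Subgroup X, Q ≤ P ∧ d ∈ normalizer (Q : Set X) ∧ ¬ Q ≤ centralizer {d0} := by
    refine ⟨P, le_rfl, hdP, fun h => ?_⟩
    have : d0 ∈ zpowers d ⊓ centralizer (P : Set X) := by
      refine ⟨hd0z, ?_⟩
      show d0 ∈ centralizer (P : Set X)
      rw [mem_centralizer_iff]
      intro x hx
      have := mem_cent_singleton.1 (h hx)
      exact this.symm
    rw [hfaith, mem_bot] at this
    exact hd01 this
  obtain ⟨Q, ⟨hQP, hdQ, hQd0⟩, hQmin⟩ := exists_min_card _ hex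
  have : Fact (Nat.Prime 2) := ⟨Nat.prime_two⟩
  have hQ2 : IsPGroup 2 Q := hP.to_le hQP
  have hcardlt : ∀ R : Subgroup X, R ≤ Q → R ≠ Q → Nat.card R < Nat.card Q := by
    intro R hRQ hne'
    exact lt_of_le_of_ne (card_le_of_le hRQ) (fun h => hne' (eq_of_le_of_card_ge hRQ h.ge))
  have hmin : ∀ R : Subgroup X, R ≤ Q → R ≠ Q → d ∈ normalizer (R : Set X) →
      R ≤ centralizer {d0} := by
    intro R hRQ hne' hdR
    by_contra hcon
    have h1 := hQmin R ⟨hRQ.trans hQP, hdR, hcon⟩
    have h2 := hcardlt R hRQ hne'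
    omega
  have hdC : d ∈ normalizer ((Q ⊓ centralizer {d0} : Subgroup X) : Set X) :=
    nrm_inf hdQ (nrm_cent_singleton hcomm0)
  generalize hCdef : Q ⊓ centralizer {d0} = C at hdC
  have hCQ : C ≤ Q := by rw [← hCdef]; exact inf_le_left
  have hCd0 : C ≤ centralizer {d0} := by rw [← hCdef]; exact inf_le_right
  have hCne : C ≠ Q := fun h => hQd0 (by rw [← h]; exact hCd0)
  have hsub : ∀ R : Subgroup X, R ≤ Q → R ≠ Q → d ∈ normalizer (R : Set X) → R ≤ C := by
    intro R h1 h2 h3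
    rw [← hCdef]
    exact le_inf h1 (hmin R h1 h2 h3)
  -- squares
  have hTQ : closure ((fun x : X => x ^ 2) '' (Q : Set X)) ≤ Q := by
    rw [closure_le]; rintro _ ⟨x, hx, rfl⟩; exact pow_mem hx 2
  have hdT : d ∈ normalizer ((closure ((fun x : X => x ^ 2) '' (Q : Set X)) : Subgroup X) : Set X) := by
    apply nrm_closure
    rintro _ ⟨x, hx, rfl⟩
    refine ⟨d * x * d⁻¹, conj_mem_of_nrm hdQ hx, ?_⟩
    simp only [pow_two]; group
  have hQbot : Q ≠ ⊥ := by
    intro h; apply hQd0; rw [h]; exact bot_le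
  have hTne : closure ((fun x : X => x ^ 2) '' (Q : Set X)) ≠ Q := by
    intro hTQeq
    obtain ⟨q, hq⟩ := (IsPGroup.iff_card (p := 2)).1 hQ2
    have hq1 : 1 ≤ q := by
      rcases Nat.eq_zero_or_pos q with h0 | h0
      · exfalso
        subst h0
        rw [pow_zero] at hq
        exact hQbot ((Subgroup.card_eq_one).1 hq)
      · exact h0
    have hdvd : 2 ^ (q - 1) ∣ Nat.card Q := by rw [hq]; exact pow_dvd_pow 2 (by omega)
    obtain ⟨K, hK⟩ := Sylow.exists_subgroup_card_pow_prime 2 hdvd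
    have hidx : K.index = 2 := by
      have h1 := K.card_mul_index
      rw [hK, hq] at h1
      have e : 2 ^ q = 2 ^ (q - 1) * 2 := by
        rw [← pow_succ]; congr 1; omega
      rw [e] at h1
      exact Nat.eq_of_mul_eq_mul_left (by positivity) h1
    have hle : closure ((fun x : X => x ^ 2) '' (Q : Set X)) ≤ K.map Q.subtype := by
      rw [closure_le]
      rintro _ ⟨x, hx, rfl⟩
      exact ⟨(⟨x, hx⟩ : Q) ^ 2, sq_mem_of_index_two hidx _, rfl⟩
    rw [hTQeq] at hle
    have h3 := card_le_of_le hle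
    rw [card_map_of_injective Q.subtype_injective, hK, hq] at h3
    have : 2 ^ (q - 1) < 2 ^ q := Nat.pow_lt_pow_right (by norm_num) (by omega)
    omega
  have hTC := hsub _ hTQ hTne hdT
  have hsqC : ∀ x ∈ Q, x ^ 2 ∈ C := fun x hx => hTC (subset_closure ⟨x, hx, rfl⟩)
  have h23 : ∀ c ∈ P, c ^ 3 = 1 → c = 1 := by
    intro c hc h3
    obtain ⟨k, hk⟩ := hP ⟨c, hc⟩
    have hk' : c ^ (2 ^ k) = 1 := by
      have := congrArg Subtype.val hk
      simpa using this
    have h1 : orderOf c ∣ 3 := orderOf_dvd_of_pow_eq_one h3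
    have h2 : orderOf c ∣ 2 ^ k := orderOf_dvd_of_pow_eq_one hk'
    have hcop : Nat.Coprime 3 (2 ^ k) := Nat.Coprime.pow_right k (by norm_num)
    have := Nat.dvd_gcd h1 h2
    rw [hcop.gcd_eq_one, Nat.dvd_one] at this
    exact orderOf_eq_one_iff.1 this
  have hCz : C ≤ centralizer (zpowers d0 : Set X) := by
    intro c hc
    have h1 : d0 * c = c * d0 := mem_cent_singleton.1 (hCd0 hc)
    rw [mem_centralizer_iff]
    rintro _ ⟨k, rfl⟩
    exact ((Commute.zpow_left (show Commute d0 c from h1) k)).eq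
  have hQCC : ⁅Q, C⁆ ≤ C := by
    rw [commutator_le]
    intro x hx c hc
    have : ⁅x, c⁆ = x ^ 2 * (x⁻¹ * c) ^ 2 * (c ^ 2)⁻¹ := by
      rw [commutatorElement_def]; simp only [pow_two]; group
    rw [this]
    exact mul_mem (mul_mem (hsqC x hx) (hsqC _ (mul_mem (inv_mem hx) (hCQ hc))))
      (inv_mem (hsqC c (hCQ hc)))
  have hzN : zpowers d0 ≤ normalizer (Q : Set X) := by
    rw [zpowers_le, ← hd0def]; exact pow_mem hdQ _
  have hKQ : ⁅zpowers d0, Q⁆ ≤ Q := by
    rw [commutator_le]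
    intro z hz x hx
    rw [commutatorElement_def]
    exact mul_mem (conj_mem_of_nrm (hzN hz) hx) (inv_mem hx)
  have hdz : d ∈ normalizer ((zpowers d0 : Subgroup X) : Set X) := by
    apply nrm_of_forall
    rintro _ ⟨k, rfl⟩
    have : d * d0 ^ k * d⁻¹ = d0 ^ k := by
      have hc : Commute d (d0 ^ k) := Commute.zpow_right (show Commute d d0 from hcomm0) k
      rw [hc.eq]; group
    rw [this]; exact zpow_mem (mem_zpowers d0) k
  have hdK : d ∈ normalizer ((⁅zpowers d0, Q⁆ : Subgroup X) : Set X) := nrm_commutator hdz hdQ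
  have hKeq : ⁅zpowers d0, Q⁆ = Q := by
    by_contra hKne
    have hKC := hsub _ hKQ hKne hdK
    apply hQd0
    intro x hx
    rw [mem_cent_singleton]
    have hcC : d0 * x * d0⁻¹ * x⁻¹ ∈ C := by
      have := commutator_mem_commutator (mem_zpowers d0) hx
      rw [commutatorElement_def] at this
      exact hKC this
    generalize hcdef : d0 * x * d0⁻¹ * x⁻¹ = c at hcC
    have hy : d0 * x * d0⁻¹ = c * x := by rw [← hcdef]; group
    have hc0 : d0 * c * d0⁻¹ = c := by
      have h1 : d0 * c = c * d0 := mem_cent_singleton.1 (hCd0 hcC)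
      rw [h1]; group
    have e1 : d0 * (c * x) * d0⁻¹ = c * (c * x) := by
      calc d0 * (c * x) * d0⁻¹ = (d0 * c * d0⁻¹) * (d0 * x * d0⁻¹) := by group
        _ = c * (c * x) := by rw [hc0, hy]
    have e2 : d0 * (c * (c * x)) * d0⁻¹ = c * (c * (c * x)) := by
      calc d0 * (c * (c * x)) * d0⁻¹ = (d0 * c * d0⁻¹) * (d0 * (c * x) * d0⁻¹) := by group
        _ = c * (c * (c * x)) := by rw [hc0, e1]
    have e3 : x = c * (c * (c * x)) := by
      calc x = d0 ^ 3 * x * (d0 ^ 3)⁻¹ := by rw [hd03]; group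
        _ = d0 * (d0 * (d0 * x * d0⁻¹) * d0⁻¹) * d0⁻¹ := by
            simp only [pow_succ, pow_zero]; group
        _ = c * (c * (c * x)) := by rw [hy, e1, e2]
    have hc3 : c ^ 3 = 1 := by
      have : c ^ 3 * x = 1 * x := by
        rw [one_mul]
        calc c ^ 3 * x = c * (c * (c * x)) := by simp only [pow_succ, pow_zero]; group
          _ = x := e3.symm
      exact mul_right_cancel this
    have hc1 := h23 c (hQP (hCQ hcC)) hc3
    rw [hc1, one_mul] at hy
    calc d0 * x = (d0 * x * d0⁻¹) * d0 := by group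
      _ = x * d0 := by rw [hy]
  have h3sub : ⁅⁅zpowers d0, Q⁆, C⁆ = ⊥ := by
    apply commutator_commutator_eq_bot_of_rotate
    · rw [commutator_eq_bot_iff_le_centralizer]
      exact hQCC.trans hCz
    · have : ⁅C, zpowers d0⁆ = ⊥ := by
        rw [commutator_eq_bot_iff_le_centralizer]; exact hCz
      rw [this]
      exact commutator_bot_left Q
  rw [hKeq, commutator_eq_bot_iff_le_centralizer] at h3sub
  have hcent : ∀ c ∈ C, ∀ x ∈ Q, x * c = c * x := by
    intro c hc x hx
    have := h3sub hx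
    rw [mem_centralizer_iff] at this
    exact (this c hc).symm
  -- index
  have hC2 : IsPGroup 2 C := hQ2.to_le hCQ
  obtain ⟨m, hm⟩ := hQ2.index (C.subgroupOf Q)
  obtain ⟨cc, hcc⟩ := (IsPGroup.iff_card (p := 2)).1 hC2
  have hcardQ : Nat.card Q = Nat.card C * 2 ^ m := by
    have h1 := (C.subgroupOf Q).card_mul_index
    rw [hm, Nat.card_congr (subgroupOfEquivOfLe hCQ).toEquiv] at h1
    exact h1.symm
  have hgQ : g ∈ normalizer (Q : Set X) := by rw [← hgdef]; exact pow_mem hdQ _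
  have hgC : g ∈ normalizer (C : Set X) := by rw [← hgdef]; exact pow_mem hdC _
  have hm5 : 5 ≤ m := by
    -- the permutation induced by g on Q \ C
    let S : Set X := (Q : Set X) \ (C : Set X)
    haveI : Fintype S := Fintype.ofFinite S
    let π : Equiv.Perm S :=
      { toFun := fun s => ⟨g * s.1 * g⁻¹, ⟨conj_mem_of_nrm hgQ s.2.1, fun h => s.2.2 (by
          have := conj_inv_mem_of_nrm hgC h
          have e : g⁻¹ * (g * s.1 * g⁻¹) * g = s.1 := by group
          rw [e] at this; exact this)⟩⟩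
        invFun := fun s => ⟨g⁻¹ * s.1 * g, ⟨conj_inv_mem_of_nrm hgQ s.2.1, fun h => s.2.2 (by
          have := conj_mem_of_nrm hgC h
          have e : g * (g⁻¹ * s.1 * g) * g⁻¹ = s.1 := by group
          rw [e] at this; exact this)⟩⟩
        left_inv := fun s => Subtype.ext (by show g⁻¹ * (g * s.1 * g⁻¹) * g = s.1; group)
        right_inv := fun s => Subtype.ext (by show g * (g⁻¹ * s.1 * g) * g⁻¹ = s.1; group) }
    have hπpow : ∀ (k : ℕ) (s : S), (((π ^ k) s : S) : X) = g ^ k * s.1 * (g ^ k)⁻¹ := by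
      intro k
      induction k with
      | zero => intro s; simp
      | succ k ih =>
        intro s
        rw [pow_succ, Equiv.Perm.mul_apply, ih]
        show g ^ k * (g * s.1 * g⁻¹) * (g ^ k)⁻¹ = g ^ (k + 1) * s.1 * (g ^ (k + 1))⁻¹
        rw [pow_succ]; group
    have h9 : π ^ 9 = 1 := by
      ext s
      rw [hπpow, hg9]; simp
    have h3 : ∀ s, (π ^ 3) s ≠ s := by
      intro s hs
      have h1 := congrArg Subtype.val hs
      rw [hπpow, hg3] at h1
      apply s.2.2
      rw [← hCdef]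
      refine ⟨s.2.1, ?_⟩
      show (s : X) ∈ centralizer ({d0} : Set X)
      rw [mem_cent_singleton]
      calc d0 * s.1 = (d0 * s.1 * d0⁻¹) * d0 := by group
        _ = s.1 * d0 := by rw [h1]
    have hdiv := free9 π h9 h3
    have hcardS : Fintype.card S = Nat.card Q - Nat.card C := by
      rw [← Nat.card_eq_fintype_card, Nat.card_coe_set_eq,
        Set.ncard_sdiff (show (C : Set X) ⊆ Q from hCQ) (Set.toFinite _),
        ← Nat.card_coe_set_eq, ← Nat.card_coe_set_eq]
      rfl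
    rw [hcardS, hcardQ, hcc] at hdiv
    have hm0 : m ≠ 0 := by
      rintro rfl
      rw [pow_zero, index_eq_one] at hm
      apply hCne
      apply le_antisymm hCQ
      intro x hx
      have : (⟨x, hx⟩ : Q) ∈ C.subgroupOf Q := by rw [hm]; trivial
      exact mem_subgroupOf.1 this
    have hdiv2 : 9 ∣ 2 ^ m - 1 := by
      have e : 2 ^ cc * 2 ^ m - 2 ^ cc = 2 ^ cc * (2 ^ m - 1) := by
        rw [Nat.mul_sub, mul_one]
      rw [e] at hdiv
      exact (Nat.Coprime.pow_right cc (by norm_num : Nat.Coprime 9 2)).dvd_of_dvd_mul_left hdiv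
    by_contra hlt
    rw [not_le] at hlt
    interval_cases m <;> omega
  -- the elements of order at most 2 in C
  let Ω : Subgroup X :=
    { carrier := {c | c ∈ C ∧ c ^ 2 = 1}
      one_mem' := ⟨C.one_mem, one_pow 2⟩
      mul_mem' := fun {a b} ha hb => ⟨mul_mem ha.1 hb.1, by
        have hc : Commute a b := (hcent b hb.1 a (hCQ ha.1))
        rw [hc.mul_pow, ha.2, hb.2, one_mul]⟩
      inv_mem' := fun {a} ha => ⟨inv_mem ha.1, by rw [inv_pow, ha.2, inv_one]⟩ }
  have hΩC : Ω ≤ C := fun c hc => hc.1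
  have hΩcomm : ∀ a ∈ Ω, ∀ b ∈ Ω, a * b = b * a := fun a ha b hb => hcent b hb.1 a (hCQ ha.1)
  have hΩ4 : Nat.card Ω ≤ 4 := hrk Ω (hΩC.trans (hCQ.trans hQP)) hΩcomm (fun a ha => ha.2)
  have hdΩ : d ∈ normalizer (Ω : Set X) := by
    apply nrm_of_forall
    intro x hx
    refine ⟨conj_mem_of_nrm hdC hx.1, ?_⟩
    have : (d * x * d⁻¹) ^ 2 = d * x ^ 2 * d⁻¹ := by simp only [pow_two]; group
    rw [this, hx.2]; group
  have hCbot : C ≠ ⊥ := by
    intro hC
    have hexp : ∀ x ∈ Q, x ^ 2 = 1 := fun x hx => by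
      have := hsqC x hx; rw [hC, mem_bot] at this; exact this
    have hinvQ : ∀ a ∈ Q, a⁻¹ = a := by
      intro a ha
      rw [inv_eq_iff_mul_eq_one, ← pow_two]; exact hexp a ha
    have hcommQ : ∀ a ∈ Q, ∀ b ∈ Q, a * b = b * a := by
      intro a ha b hb
      have h3 := hexp (a * b) (mul_mem ha hb)
      have : a * b = (a * b)⁻¹ := eq_inv_of_mul_eq_one_left (by rw [← pow_two]; exact h3)
      rw [mul_inv_rev, hinvQ a ha, hinvQ b hb] at this
      exact this
    have h4 := hrk Q hQP hcommQ hexp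
    rw [hcardQ, hC, card_bot, one_mul] at h4
    have : 2 ^ 5 ≤ 2 ^ m := Nat.pow_le_pow_right (by norm_num) hm5
    omega
  have hΩbot : Ω ≠ ⊥ := by
    intro hΩ
    have h2dvd : 2 ∣ Nat.card C := by
      rw [hcc]
      rcases Nat.eq_zero_or_pos cc with h0 | h0
      · exfalso; subst h0; rw [pow_zero] at hcc; exact hCbot (card_eq_one.1 hcc)
      · exact dvd_pow_self 2 h0.ne'
    obtain ⟨c, hc⟩ := exists_prime_orderOf_dvd_card' 2 h2dvd
    have hcΩ : (c : X) ∈ Ω := ⟨c.2, by
      have := pow_orderOf_eq_one c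
      rw [hc] at this
      have := congrArg Subtype.val this
      simpa using this⟩
    rw [hΩ, mem_bot] at hcΩ
    have : c = 1 := Subtype.ext hcΩ
    rw [this, orderOf_one] at hc; omega
  have hΩ2 : IsPGroup 2 Ω := hC2.to_le hΩC
  obtain ⟨k, hk⟩ := (IsPGroup.iff_card (p := 2)).1 hΩ2
  have hk4 : Nat.card Ω = 4 := by
    have hk2 : k ≤ 2 := by
      by_contra h; rw [not_le] at h
      have : 2 ^ 3 ≤ 2 ^ k := Nat.pow_le_pow_right (by norm_num) h
      omega
    interval_cases k
    · exfalso; rw [pow_zero] at hk; exact hΩbot (card_eq_one.1 hk)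
    · exfalso
      rw [pow_one] at hk
      obtain ⟨z, hz, hzu⟩ := (Nat.card_eq_two_iff' (1 : Ω)).1 hk
      have hdz : (⟨d * z.1 * d⁻¹, conj_mem_of_nrm hdΩ z.2⟩ : Ω) = z := by
        apply hzu
        intro h
        apply hz
        have h1 : d * z.1 * d⁻¹ = 1 := congrArg Subtype.val h
        apply Subtype.ext
        show z.1 = 1
        calc z.1 = d⁻¹ * (d * z.1 * d⁻¹) * d := by group
          _ = 1 := by rw [h1]; group
      have h1 : d * z.1 * d⁻¹ = z.1 := congrArg Subtype.val hdz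
      have : z.1 ∈ P ⊓ centralizer {d} := by
        refine ⟨hQP (hCQ (hΩC z.2)), ?_⟩
        show z.1 ∈ centralizer ({d} : Set X)
        rw [mem_cent_singleton]
        calc d * z.1 = (d * z.1 * d⁻¹) * d := by group
          _ = z.1 * d := by rw [h1]
      rw [hfpf, mem_bot] at this
      exact hz (Subtype.ext this)
    · rw [hk]; norm_num
  have hinv : ∃ x ∈ Q, x ∉ C ∧ x ^ 2 = 1 := by
    have hC' : C.subgroupOf Q ≤ center Q := by
      intro x hx
      rw [mem_center_iff]
      intro y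
      exact Subtype.ext (hcent x.1 (mem_subgroupOf.1 hx) y.1 y.2)
    have hsq' : ∀ x : Q, x ^ 2 ∈ C.subgroupOf Q := fun x =>
      mem_subgroupOf.2 (by simpa using hsqC x.1 x.2)
    have hΩ' : Nat.card {c : Q // c ∈ C.subgroupOf Q ∧ c ^ 2 = 1} = 4 := by
      rw [← hk4]
      exact Nat.card_congr
        { toFun := fun c => ⟨c.1.1, mem_subgroupOf.1 c.2.1, by
            have := congrArg Subtype.val c.2.2; simpa using this⟩
          invFun := fun w => ⟨⟨w.1, hCQ w.2.1⟩, mem_subgroupOf.2 w.2.1,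
            Subtype.ext (by simpa using w.2.2)⟩
          left_inv := fun c => rfl
          right_inv := fun w => rfl }
    obtain ⟨x, hx1, hx2⟩ := exists_sq_eq_one_not_mem (C.subgroupOf Q) hC' hsq' m hm5 hm hΩ'
    exact ⟨x.1, x.2, fun h => hx1 (mem_subgroupOf.2 h), by
      have := congrArg Subtype.val hx2; simpa using this⟩
  obtain ⟨x, hxQ, hxC, hx2⟩ := hinv
  have hk' : ∀ a ∈ (Ω : Set X) ∪ {x}, ∀ b ∈ (Ω : Set X) ∪ {x}, a * b = b * a := by
    rintro a (ha | ha) b (hb | hb)
    · exact hΩcomm a ha b hb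
    · rw [Set.mem_singleton_iff] at hb; subst hb; exact (hcent a ha.1 b hxQ).symm
    · rw [Set.mem_singleton_iff] at ha; subst ha; exact hcent b hb.1 a hxQ
    · rw [Set.mem_singleton_iff] at ha hb; subst ha; subst hb; rfl
  have hEc : IsMulCommutative (closure ((Ω : Set X) ∪ {x})) := isMulCommutative_closure hk'
  have hEcomm : ∀ a ∈ closure ((Ω : Set X) ∪ {x}), ∀ b ∈ closure ((Ω : Set X) ∪ {x}),
      a * b = b * a := by
    intro a ha b hb
    have := hEc.is_comm.comm ⟨a, ha⟩ ⟨b, hb⟩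
    exact congrArg Subtype.val this
  have hEexp : ∀ a ∈ closure ((Ω : Set X) ∪ {x}), a ^ 2 = 1 := by
    intro a ha
    induction ha using closure_induction with
    | mem s hs =>
      rcases hs with hs | hs
      · exact hs.2
      · rw [Set.mem_singleton_iff] at hs; rw [hs]; exact hx2
    | one => exact one_pow 2
    | mul a b ha hb iha ihb =>
      have hc : Commute a b := hEcomm a ha b hb
      rw [hc.mul_pow, iha, ihb, one_mul]
    | inv a _ iha => rw [inv_pow, iha, inv_one]
  have hEP : closure ((Ω : Set X) ∪ {x}) ≤ P := by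
    rw [closure_le]
    rintro a (ha | ha)
    · exact hQP (hCQ ha.1)
    · rw [Set.mem_singleton_iff] at ha; rw [ha]; exact hQP hxQ
  have hE4 := hrk _ hEP hEcomm hEexp
  have hΩE : Ω ≤ closure ((Ω : Set X) ∪ {x}) := fun a ha => subset_closure (Or.inl ha)
  have hlt : Nat.card Ω < Nat.card (closure ((Ω : Set X) ∪ {x}) : Subgroup X) := by
    apply lt_of_le_of_ne (card_le_of_le hΩE)
    intro h
    have := eq_of_le_of_card_ge hΩE h.ge
    have hxE : x ∈ closure ((Ω : Set X) ∪ {x}) := subset_closure (Or.inr rfl)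
    rw [← this] at hxE
    exact hxC hxE.1
  omega

end Cfsg.Agent.S3738
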