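import Cfsg.Statements.S3739
import Mathlib
import Cfsg.Agent.S3738
import Cfsg.Agent.Lib.Helper12.Generation
import Cfsg.Agent.Lib.Helper16.PCore
-- import your own Cfsg.Agent.* helpers here

set_option autoImplicit false
open Cfsg
open scoped Pointwise

namespace Cfsg.Agent.S3739

variable {G : Type*} [Group G] [Finite G]

theorem elemAb_of_le {A B : Subgroup G} (hB : IsElementaryAbelian 2 B) (h : A ≤ B) :
    IsElementaryAbelian 2 A := by
  obtain ⟨hc, he⟩ := hB
  refine ⟨⟨⟨fun a b => ?_⟩⟩, fun a ha => he a (h ha)⟩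
  have := hc.is_comm.comm ⟨a.1, h a.2⟩ ⟨b.1, h b.2⟩
  have h2 := congrArg Subtype.val this
  exact Subtype.ext h2

theorem elemAb_isPGroup {A : Subgroup G} (hA : IsElementaryAbelian 2 A) : IsPGroup 2 A := by
  intro a
  refine ⟨1, ?_⟩
  apply Subtype.ext
  simpa using hA.2 a.1 a.2

/-- the bound on elementary abelian subgroups under the contradiction hypothesis -/
theorem card_le_four (H0 : ∀ E : Subgroup G, IsElementaryAbelian 2 E → Nat.card E ≠ 8)
    (E : Subgroup G) (hE : IsElementaryAbelian 2 E) : Nat.card E ≤ 4 := by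
  obtain ⟨n, hn⟩ := (IsPGroup.iff_card).mp (elemAb_isPGroup hE)
  by_contra hlt
  push_neg at hlt
  have h3 : 3 ≤ n := by
    by_contra h
    push_neg at h
    have : 2 ^ n ≤ 2 ^ 2 := Nat.pow_le_pow_right (by norm_num) (by omega)
    omega
  have hdvd : 2 ^ 3 ∣ Nat.card E := by rw [hn]; exact pow_dvd_pow 2 h3
  obtain ⟨K, hK⟩ := Sylow.exists_subgroup_card_pow_prime 2 hdvd
  apply H0 (K.map E.subtype)
  · apply elemAb_of_le hE
    intro g hg
    obtain ⟨k, _, rfl⟩ := hg
    exact k.2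
  · rw [Subgroup.card_map_of_injective E.subtype_injective, hK]
    norm_num

omit [Finite G] in
theorem elemAb_sup {A B : Subgroup G} (hA : IsElementaryAbelian 2 A) (hB : IsElementaryAbelian 2 B)
    (hAB : ∀ a ∈ A, ∀ b ∈ B, a * b = b * a) : IsElementaryAbelian 2 (A ⊔ B) := by
  have hcl : A ⊔ B = Subgroup.closure ((A : Set G) ∪ (B : Set G)) := by
    rw [Subgroup.closure_union, Subgroup.closure_eq, Subgroup.closure_eq]
  have hcomm : ∀ x ∈ (A : Set G) ∪ (B : Set G), ∀ y ∈ (A : Set G) ∪ (B : Set G),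
      x * y = y * x := by
    rintro x (hx | hx) y (hy | hy)
    · have := hA.1.is_comm.comm ⟨x, hx⟩ ⟨y, hy⟩
      exact congrArg Subtype.val this
    · exact hAB x hx y hy
    · exact (hAB y hy x hx).symm
    · have := hB.1.is_comm.comm ⟨x, hx⟩ ⟨y, hy⟩
      exact congrArg Subtype.val this
  have hc : IsMulCommutative (Subgroup.closure ((A : Set G) ∪ (B : Set G))) :=
    Subgroup.isMulCommutative_closure hcomm
  rw [hcl]
  refine ⟨hc, ?_⟩
  intro g hg
  induction hg using Subgroup.closure_induction with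
  | mem x hx =>
    rcases hx with hx | hx
    · exact hA.2 x hx
    · exact hB.2 x hx
  | one => simp
  | mul x y hx hy ihx ihy =>
    have hxy : x * y = y * x := by
      have := hc.is_comm.comm ⟨x, hx⟩ ⟨y, hy⟩
      exact congrArg Subtype.val this
    have hcm : Commute x y := hxy
    rw [hcm.mul_pow, ihx, ihy, one_mul]
  | inv x hx ihx => rw [inv_pow, ihx, inv_one]

omit [Finite G] in
theorem elemAb_zpowers {s : G} (hs : s ^ 2 = 1) : IsElementaryAbelian 2 (Subgroup.zpowers s) := by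
  refine ⟨inferInstance, ?_⟩
  intro a ha
  obtain ⟨k, rfl⟩ := Subgroup.mem_zpowers_iff.mp ha
  rw [← zpow_natCast, ← zpow_mul, mul_comm, zpow_mul, zpow_natCast, hs, one_zpow]

/-- an element of order at most two centralizing a four-group lies in it -/
theorem mem_of_commute (H0 : ∀ E : Subgroup G, IsElementaryAbelian 2 E → Nat.card E ≠ 8)
    {V : Subgroup G} (hV : IsElementaryAbelian 2 V) (hV4 : Nat.card V = 4) {s : G} (hs : s ^ 2 = 1)
    (hsV : ∀ v ∈ V, s * v = v * s) : s ∈ V := by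
  by_contra hns
  have hE : IsElementaryAbelian 2 (V ⊔ Subgroup.zpowers s) := by
    apply elemAb_sup hV (elemAb_zpowers hs)
    intro a ha b hb
    obtain ⟨k, rfl⟩ := Subgroup.mem_zpowers_iff.mp hb
    have : Commute s a := hsV a ha
    exact (this.zpow_left k).symm.eq
  have hlt : V < V ⊔ Subgroup.zpowers s := by
    refine lt_of_le_of_ne le_sup_left ?_
    intro h
    apply hns
    rw [h]
    exact (le_sup_right : Subgroup.zpowers s ≤ _) (Subgroup.mem_zpowers s)
  have h1 := card_le_four H0 _ hE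
  have h2 : Nat.card V < Nat.card (V ⊔ Subgroup.zpowers s : Subgroup G) := by
    have := Subgroup.card_le_of_le hlt.le
    rcases this.lt_or_eq with h | h
    · exact h
    · exfalso
      exact hlt.ne (Subgroup.eq_of_le_of_card_ge hlt.le h.ge)
  omega

/-- a nontrivial 2-subgroup contains an involution -/
theorem exists_involution {H : Subgroup G} (hH : IsPGroup 2 H) (hne : H ≠ ⊥) :
    ∃ s ∈ H, s ≠ 1 ∧ s ^ 2 = 1 := by
  obtain ⟨n, hn⟩ := (IsPGroup.iff_card).mp hH
  have hn0 : n ≠ 0 := by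
    rintro rfl
    apply hne
    rw [pow_zero] at hn
    exact Subgroup.card_eq_one.mp hn
  have hdvd : 2 ∣ Nat.card H := by rw [hn]; exact dvd_pow_self 2 hn0
  obtain ⟨s, hs⟩ := exists_prime_orderOf_dvd_card' 2 hdvd
  refine ⟨s.1, s.2, ?_, ?_⟩
  · intro h
    have : s = 1 := Subtype.ext h
    rw [this, orderOf_one] at hs
    norm_num at hs
  · have := pow_orderOf_eq_one s
    rw [hs] at this
    exact congrArg Subtype.val this

/-- a nontrivial `p`-subgroup contains an element of order `p` -/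
theorem exists_prime_elt {p : ℕ} [Fact p.Prime] {H : Subgroup G} (hH : IsPGroup p H)
    (hne : H ≠ ⊥) : ∃ s ∈ H, s ≠ 1 ∧ s ^ p = 1 := by
  have hp : p.Prime := Fact.out
  obtain ⟨n, hn⟩ := (IsPGroup.iff_card).mp hH
  have hn0 : n ≠ 0 := by
    rintro rfl
    apply hne
    rw [pow_zero] at hn
    exact Subgroup.card_eq_one.mp hn
  have hdvd : p ∣ Nat.card H := by rw [hn]; exact dvd_pow_self p hn0
  obtain ⟨s, hs⟩ := exists_prime_orderOf_dvd_card' p hdvd
  refine ⟨s.1, s.2, ?_, ?_⟩
  · intro h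
    have : s = 1 := Subtype.ext h
    rw [this, orderOf_one] at hs
    exact hp.one_lt.ne hs
  · have := pow_orderOf_eq_one s
    rw [hs] at this
    exact congrArg Subtype.val this

/-- the centre of a nontrivial `p`-subgroup contains an element of order `p` -/
theorem exists_central_prime_elt {p : ℕ} [Fact p.Prime] {H : Subgroup G} (hH : IsPGroup p H)
    (hne : H ≠ ⊥) : ∃ s ∈ H, s ≠ 1 ∧ s ^ p = 1 ∧ ∀ h ∈ H, s * h = h * s := by
  haveI : Nontrivial H := (Subgroup.nontrivial_iff_ne_bot H).mpr hne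
  have hc := hH.center_nontrivial
  set Z : Subgroup G := (Subgroup.center H).map H.subtype with hZ
  have hZle : Z ≤ H := by
    rintro _ ⟨z, _, rfl⟩
    exact z.2
  have hZp : IsPGroup p Z := hH.to_le hZle
  have hZne : Z ≠ ⊥ := by
    obtain ⟨⟨z, hz⟩, hz1⟩ := exists_ne (1 : Subgroup.center H)
    intro h
    have : (z : G) ∈ Z := ⟨z, hz, rfl⟩
    rw [h, Subgroup.mem_bot] at this
    apply hz1
    apply Subtype.ext
    apply Subtype.ext
    exact this
  obtain ⟨s, hs, hs1, hsp⟩ := exists_prime_elt hZp hZne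
  refine ⟨s, hZle hs, hs1, hsp, ?_⟩
  obtain ⟨z, hz, rfl⟩ := hs
  intro h hh
  have := (Subgroup.mem_center_iff.mp hz) ⟨h, hh⟩
  have h2 := congrArg Subtype.val this
  exact h2.symm

omit [Finite G] in
theorem eq_of_card_two {C : Subgroup G} (h : Nat.card C = 2) {u v : G} (hu : u ∈ C) (hv : v ∈ C)
    (hu1 : u ≠ 1) (hv1 : v ≠ 1) : u = v := by
  obtain ⟨y, _, hy⟩ := (Nat.card_eq_two_iff' (1 : C)).mp h
  have h1 := hy ⟨u, hu⟩ (fun h => hu1 (congrArg Subtype.val h))
  have h2 := hy ⟨v, hv⟩ (fun h => hv1 (congrArg Subtype.val h))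
  exact congrArg Subtype.val (h1.trans h2.symm)

/-- the acted-on subgroup has order four -/
theorem card_W (H0 : ∀ E : Subgroup G, IsElementaryAbelian 2 E → Nat.card E ≠ 8)
    {W : Subgroup G} (hW : IsElementaryAbelian 2 W) (hW1 : W ≠ ⊥) {d : G}
    (hdW : d ∈ Subgroup.normalizer (W : Set G))
    (hfpf : W ⊓ Subgroup.centralizer {d} = ⊥) : Nat.card W = 4 := by
  obtain ⟨n, hn⟩ := (IsPGroup.iff_card).mp (elemAb_isPGroup hW)
  have h4 := card_le_four H0 W hW
  have hn0 : n ≠ 0 := by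
    rintro rfl
    apply hW1
    rw [pow_zero] at hn
    exact Subgroup.card_eq_one.mp hn
  have hn2 : n ≤ 2 := by
    by_contra h
    push_neg at h
    have : 2 ^ 3 ≤ 2 ^ n := Nat.pow_le_pow_right (by norm_num) h
    omega
  have hn12 : n = 1 ∨ n = 2 := by omega
  rcases hn12 with rfl | rfl
  · exfalso
    rw [pow_one] at hn
    obtain ⟨w, hw, hw1⟩ : ∃ w ∈ W, w ≠ 1 := by
      obtain ⟨w, hw⟩ := (Subgroup.ne_bot_iff_exists_ne_one).mp hW1
      exact ⟨w.1, w.2, fun h' => hw (Subtype.ext h')⟩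
    have hw' : d * w * d⁻¹ ∈ W := (Subgroup.mem_normalizer_iff.mp hdW w).mp hw
    have hw1' : d * w * d⁻¹ ≠ 1 := by
      intro h
      apply hw1
      have : w = d⁻¹ * 1 * d := by rw [← h]; group
      simpa using this
    have heq := eq_of_card_two hn hw' hw hw1' hw1
    have : w ∈ W ⊓ Subgroup.centralizer {d} := by
      rw [Subgroup.mem_inf]
      refine ⟨hw, ?_⟩
      rw [Subgroup.mem_centralizer_singleton_iff]
      have : d * w = w * d := by
        calc d * w = (d * w * d⁻¹) * d := by group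
          _ = w * d := by rw [heq]
      exact this.symm
    rw [hfpf, Subgroup.mem_bot] at this
    exact hw1 this
  · rw [hn]; norm_num

/-- irreducibility of the action on `W` -/
theorem irr (H0 : ∀ E : Subgroup G, IsElementaryAbelian 2 E → Nat.card E ≠ 8)
    {W : Subgroup G} (hW : IsElementaryAbelian 2 W) (hW4 : Nat.card W = 4) {d : G}
    (hfpf : W ⊓ Subgroup.centralizer {d} = ⊥) {U : Subgroup G} (hUW : U ≤ W) (hU1 : U ≠ ⊥)
    (hdU : d ∈ Subgroup.normalizer (U : Set G)) : U = W := by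
  have hU : IsElementaryAbelian 2 U := elemAb_of_le hW hUW
  have hfpfU : U ⊓ Subgroup.centralizer {d} = ⊥ := by
    rw [eq_bot_iff, ← hfpf]
    exact inf_le_inf_right _ hUW
  have := card_W H0 hU hU1 hdU hfpfU
  exact Subgroup.eq_of_le_of_card_ge hUW (by rw [this, hW4])

omit [Finite G] in
theorem normalizer_inf {A B : Subgroup G} {d : G} (hA : d ∈ Subgroup.normalizer (A : Set G))
    (hB : d ∈ Subgroup.normalizer (B : Set G)) : d ∈ Subgroup.normalizer ((A ⊓ B : Subgroup G) : Set G) := by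
  rw [Subgroup.mem_normalizer_iff] at hA hB ⊢
  intro h
  rw [Subgroup.mem_inf, Subgroup.mem_inf, hA h, hB h]

/-- `W` lies in `Q`, is central in it, and contains all its involutions -/
theorem W_structure (H0 : ∀ E : Subgroup G, IsElementaryAbelian 2 E → Nat.card E ≠ 8)
    {Q : Subgroup G} [hQn : Q.Normal] (hQ2 : IsPGroup 2 Q)
    (hchar : Subgroup.centralizer (Q : Set G) ≤ Q)
    {W : Subgroup G} (hW : IsElementaryAbelian 2 W) (hW4 : Nat.card W = 4) {d : G}
    (hdW : d ∈ Subgroup.normalizer (W : Set G))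
    (hfpf : W ⊓ Subgroup.centralizer {d} = ⊥) :
    W ≤ Q ∧ W ≤ Subgroup.centralizer (Q : Set G) ∧ (∀ u ∈ Q, u ^ 2 = 1 → u ∈ W) := by
  have hW1 : W ≠ ⊥ := by
    intro h
    rw [h, Subgroup.card_bot] at hW4
    norm_num at hW4
  have hdQ : ∀ (N : Subgroup G), N.Normal → d ∈ Subgroup.normalizer (N : Set G) := by
    intro N hN
    rw [Subgroup.normalizer_eq_top_iff.mpr hN]
    exact Subgroup.mem_top d
  -- step 2
  have hWQ : W ≤ Q := by
    have hS2 : IsPGroup 2 (W ⊔ Q : Subgroup G) := (elemAb_isPGroup hW).to_sup_of_normal_right hQ2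
    have hSne : (W ⊔ Q : Subgroup G) ≠ ⊥ := by
      intro h
      apply hW1
      rw [eq_bot_iff, ← h]
      exact le_sup_left
    obtain ⟨s, hsS, hs1, hs2, hsc⟩ := exists_central_prime_elt hS2 hSne
    have hsQ : s ∈ Q := by
      apply hchar
      rw [Subgroup.mem_centralizer_iff]
      intro h hh
      exact (hsc h ((le_sup_right : Q ≤ W ⊔ Q) hh)).symm
    have hsW : s ∈ W := mem_of_commute H0 hW hW4 hs2
      (fun v hv => hsc v ((le_sup_left : W ≤ W ⊔ Q) hv))
    have hne : W ⊓ Q ≠ ⊥ := by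
      intro h
      have : s ∈ W ⊓ Q := Subgroup.mem_inf.mpr ⟨hsW, hsQ⟩
      rw [h, Subgroup.mem_bot] at this
      exact hs1 this
    have := irr H0 hW hW4 hfpf inf_le_left hne (normalizer_inf hdW (hdQ Q hQn))
    rw [← this]
    exact inf_le_right
  -- step 3
  have hQne : Q ≠ ⊥ := by
    intro h
    apply hW1
    rw [eq_bot_iff, ← h]
    exact hWQ
  obtain ⟨s, hsQ, hs1, hs2, hsc⟩ := exists_central_prime_elt hQ2 hQne
  have hsW : s ∈ W := mem_of_commute H0 hW hW4 hs2 (fun v hv => hsc v (hWQ hv))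
  have hsZ : s ∈ Subgroup.centralizer (Q : Set G) := by
    rw [Subgroup.mem_centralizer_iff]
    intro h hh
    exact (hsc h hh).symm
  have hne : W ⊓ Subgroup.centralizer (Q : Set G) ≠ ⊥ := by
    intro h
    have : s ∈ W ⊓ Subgroup.centralizer (Q : Set G) := Subgroup.mem_inf.mpr ⟨hsW, hsZ⟩
    rw [h, Subgroup.mem_bot] at this
    exact hs1 this
  have hWZ : W ≤ Subgroup.centralizer (Q : Set G) := by
    have := irr H0 hW hW4 hfpf inf_le_left hne
      (normalizer_inf hdW (hdQ _ (Subgroup.normal_centralizer (H := Q))))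
    rw [← this]
    exact inf_le_right
  refine ⟨hWQ, hWZ, ?_⟩
  intro u hu hu2
  apply mem_of_commute H0 hW hW4 hu2
  intro v hv
  have := (Subgroup.mem_centralizer_iff.mp (hWZ hv)) u hu
  exact this

omit [Finite G] in
theorem sq_mul_self {W : Subgroup G} (hW : IsElementaryAbelian 2 W) {u : G} (hu : u ∈ W) :
    u * u = 1 := by
  have := hW.2 u hu
  rwa [pow_two] at this

omit [Finite G] in
theorem four_elts {W : Subgroup G} (hW : IsElementaryAbelian 2 W) (hW4 : Nat.card W = 4)
    {u v : G} (hu : u ∈ W) (hv : v ∈ W) (hu1 : u ≠ 1) (hv1 : v ≠ 1) (huv : u ≠ v) {g : G}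
    (hg : g ∈ W) : g = 1 ∨ g = u ∨ g = v ∨ g = u * v := by
  have hS : ({1, u, v, u * v} : Set G) ⊆ (W : Set G) := by
    rintro x (rfl | rfl | rfl | rfl)
    · exact W.one_mem
    · exact hu
    · exact hv
    · exact W.mul_mem hu hv
  have huu := sq_mul_self hW hu
  have hc : ({1, u, v, u * v} : Set G).ncard = 4 := by
    rw [Set.ncard_insert_of_notMem, Set.ncard_insert_of_notMem, Set.ncard_pair]
    · intro h
      exact hu1 (right_eq_mul.mp h)
    · simp only [Set.mem_insert_iff, Set.mem_singleton_iff, not_or]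
      refine ⟨huv, ?_⟩
      intro h
      exact hv1 (left_eq_mul.mp h)
    · simp only [Set.mem_insert_iff, Set.mem_singleton_iff, not_or]
      refine ⟨fun h => hu1 h.symm, fun h => hv1 h.symm, ?_⟩
      intro h
      apply huv
      have : u * (u * v) = u * 1 := by rw [← h]
      rw [← mul_assoc, huu, one_mul, mul_one] at this
      exact this.symm
  have hWc : (W : Set G).ncard = 4 := by
    rw [← hW4]
    rfl
  have hfin : (W : Set G).Finite := Set.finite_of_ncard_ne_zero (by rw [hWc]; norm_num)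
  have heq := Set.eq_of_subset_of_ncard_le hS (by rw [hc, hWc]) hfin
  have : g ∈ ({1, u, v, u * v} : Set G) := by rw [heq]; exact hg
  simpa using this

omit [Finite G] in
/-- an element of order dividing three normalizing a four-group and fixing a nontrivial element
of it centralizes it -/
theorem fix3 {W : Subgroup G} (hW : IsElementaryAbelian 2 W) (hW4 : Nat.card W = 4) {e : G}
    (he3 : e ^ 3 = 1) (heW : ∀ w ∈ W, e * w * e⁻¹ ∈ W) {u : G} (hu : u ∈ W) (hu1 : u ≠ 1)
    (heu : e * u = u * e) : ∀ w ∈ W, e * w = w * e := by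
  intro v hv
  by_contra hne
  have hv1 : v ≠ 1 := by
    rintro rfl
    exact hne (by simp)
  have huv : u ≠ v := by
    rintro rfl
    exact hne heu
  have huu := sq_mul_self hW hu
  have heu' : e * u * e⁻¹ = u := by rw [heu]; group
  have h1 : e * v * e⁻¹ = u * v := by
    rcases four_elts hW hW4 hu hv hu1 hv1 huv (heW v hv) with h | h | h | h
    · exfalso
      apply hv1
      have : v = e⁻¹ * (e * v * e⁻¹) * e := by group
      rw [this, h]; group
    · exfalso
      apply huv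
      have : v = e⁻¹ * (e * v * e⁻¹) * e := by group
      rw [this, h, mul_assoc, ← heu, ← mul_assoc, inv_mul_cancel, one_mul]
    · exfalso
      apply hne
      calc e * v = (e * v * e⁻¹) * e := by group
        _ = v * e := by rw [h]
    · exact h
  have h2 : e * (u * v) * e⁻¹ = v := by
    have : e * (u * v) * e⁻¹ = (e * u * e⁻¹) * (e * v * e⁻¹) := by group
    rw [this, h1, heu', ← mul_assoc, huu, one_mul]
  have h4 : e * e * v = v * (e * e) := by
    have : e * (e * v * e⁻¹) * e⁻¹ = v := by rw [h1, h2]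
    calc e * e * v = (e * (e * v * e⁻¹) * e⁻¹) * (e * e) := by group
      _ = v * (e * e) := by rw [this]
  have h5 : e * e = e⁻¹ := by
    have : e * e * e = 1 := by rw [← he3, pow_succ, pow_two]
    exact eq_inv_of_mul_eq_one_left this
  rw [h5] at h4
  apply hne
  calc e * v = e * (v * e⁻¹) * e := by group
    _ = e * (e⁻¹ * v) * e := by rw [h4]
    _ = v * e := by group

/-- the order three part of an element of order six centralizes `W` -/
theorem x_centralizes (H0 : ∀ E : Subgroup G, IsElementaryAbelian 2 E → Nat.card E ≠ 8)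
    {W : Subgroup G} (hW : IsElementaryAbelian 2 W) (hW4 : Nat.card W = 4)
    (hWn : ∀ g : G, ∀ w ∈ W, g * w * g⁻¹ ∈ W) {t x : G} (ht2 : t ^ 2 = 1) (ht1 : t ≠ 1)
    (hx3 : x ^ 3 = 1) (htx : t * x = x * t) : ∀ w ∈ W, x * w = w * x := by
  by_cases hc : ∀ w ∈ W, t * w = w * t
  · have htW : t ∈ W := mem_of_commute H0 hW hW4 ht2 hc
    exact fix3 hW hW4 hx3 (hWn x) htW ht1 htx.symm
  · push_neg at hc
    obtain ⟨w, hw, hwt⟩ := hc
    have htt : t * t = 1 := by rwa [pow_two] at ht2
    have hti : t⁻¹ = t := inv_eq_of_mul_eq_one_left htt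
    set w' := t * w * t⁻¹ with hw'def
    have hw' : w' ∈ W := hWn t w hw
    have hww := sq_mul_self hW hw
    have hcomm : w * w' = w' * w := by
      have := hW.1.is_comm.comm ⟨w, hw⟩ ⟨w', hw'⟩
      exact congrArg Subtype.val this
    have hu : w * w' ∈ W := W.mul_mem hw hw'
    have hu1 : w * w' ≠ 1 := by
      intro h
      apply hwt
      have h1 : w' = w := by
        have : w * w' = w * w := by rw [h, hww]
        exact mul_left_cancel this
      calc t * w = (t * w * t⁻¹) * t := by group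
        _ = w * t := by rw [← hw'def, h1]
    have htu : t * (w * w') = (w * w') * t := by
      have h1 : t * w' * t⁻¹ = w := by
        rw [hw'def, hti]
        calc t * (t * w * t) * t = (t * t) * w * (t * t) := by group
          _ = w := by rw [htt]; group
      calc t * (w * w') = (t * w * t⁻¹) * (t * w' * t⁻¹) * t := by group
        _ = w' * w * t := by rw [← hw'def, h1]
        _ = (w * w') * t := by rw [hcomm]
    -- the fixed points of t on W
    set C : Subgroup G := W ⊓ Subgroup.centralizer {t} with hC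
    have huC : w * w' ∈ C := by
      rw [hC, Subgroup.mem_inf, Subgroup.mem_centralizer_singleton_iff]
      exact ⟨hu, htu.symm⟩
    have hwC : w ∉ C := by
      intro h
      rw [hC, Subgroup.mem_inf, Subgroup.mem_centralizer_singleton_iff] at h
      exact hwt h.2.symm
    have hC2 : Nat.card C = 2 := by
      have hdvd : Nat.card C ∣ 2 ^ 2 := by
        have := Subgroup.card_dvd_of_le (inf_le_left : C ≤ W)
        rw [hW4] at this
        exact this
      obtain ⟨k, hk, hk2⟩ := (Nat.dvd_prime_pow Nat.prime_two).mp hdvd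
      have hk012 : k = 0 ∨ k = 1 ∨ k = 2 := by omega
      rcases hk012 with rfl | rfl | rfl
      · exfalso
        rw [pow_zero] at hk2
        have := Subgroup.card_eq_one.mp hk2
        rw [this, Subgroup.mem_bot] at huC
        exact hu1 huC
      · simpa using hk2
      · exfalso
        have : C = W := Subgroup.eq_of_le_of_card_ge inf_le_left (by rw [hk2, hW4]; norm_num)
        rw [this] at hwC
        exact hwC hw
    have hxu : x * (w * w') * x⁻¹ ∈ C := by
      rw [hC, Subgroup.mem_inf, Subgroup.mem_centralizer_singleton_iff]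
      refine ⟨hWn x _ hu, ?_⟩
      have htxi : t * x⁻¹ = x⁻¹ * t := by
        calc t * x⁻¹ = x⁻¹ * (x * t) * x⁻¹ := by group
          _ = x⁻¹ * (t * x) * x⁻¹ := by rw [htx]
          _ = x⁻¹ * t := by group
      symm
      calc t * (x * (w * w') * x⁻¹) = (t * x) * (w * w') * x⁻¹ := by group
        _ = x * (t * (w * w')) * x⁻¹ := by rw [htx]; group
        _ = x * (w * w') * (t * x⁻¹) := by rw [htu]; group
        _ = x * (w * w') * x⁻¹ * t := by rw [htxi]; group
    have hxu1 : x * (w * w') * x⁻¹ ≠ 1 := by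
      intro h
      apply hu1
      have : w * w' = x⁻¹ * (x * (w * w') * x⁻¹) * x := by group
      rw [this, h]; group
    have heq := eq_of_card_two hC2 hxu huC hxu1 hu1
    have hxu' : x * (w * w') = (w * w') * x := by
      calc x * (w * w') = (x * (w * w') * x⁻¹) * x := by group
        _ = (w * w') * x := by rw [heq]
    exact fix3 hW hW4 hx3 (hWn x) hu hu1 hxu'

/-- fixed-point-freeness on `W` spreads to `Q` -/
theorem fpf_on_Q {Q : Subgroup G} (hQ2 : IsPGroup 2 Q) {W : Subgroup G}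
    (hinv : ∀ u ∈ Q, u ^ 2 = 1 → u ∈ W) {e : G}
    (hfpf : W ⊓ Subgroup.centralizer {e} = ⊥) : Q ⊓ Subgroup.centralizer {e} = ⊥ := by
  by_contra hne
  have h2 : IsPGroup 2 (Q ⊓ Subgroup.centralizer {e} : Subgroup G) := hQ2.to_le inf_le_left
  obtain ⟨s, hs, hs1, hs2⟩ := exists_prime_elt h2 hne
  rw [Subgroup.mem_inf] at hs
  have : s ∈ W ⊓ Subgroup.centralizer {e} := Subgroup.mem_inf.mpr ⟨hinv s hs.1 hs2, hs.2⟩
  rw [hfpf, Subgroup.mem_bot] at this
  exact hs1 this

/-- a 3-element acting fixed-point-freely on `W` has order three -/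
theorem order_three (H0 : ∀ E : Subgroup G, IsElementaryAbelian 2 E → Nat.card E ≠ 8)
    {Q : Subgroup G} [hQn : Q.Normal] (hQ2 : IsPGroup 2 Q)
    (hchar : Subgroup.centralizer (Q : Set G) ≤ Q) {W : Subgroup G}
    (hinv : ∀ u ∈ Q, u ^ 2 = 1 → u ∈ W) {e : G} (n : ℕ) (hn : 1 ≤ n) (he : orderOf e = 3 ^ n)
    (hfpf : W ⊓ Subgroup.centralizer {e} = ⊥) : orderOf e = 3 := by
  haveI : Fact (Nat.Prime 2) := ⟨Nat.prime_two⟩
  haveI : Fact (Nat.Prime 3) := ⟨Nat.prime_three⟩
  apply Cfsg.Agent.S3738.result e n hn he Q hQ2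
  · rw [Subgroup.normalizer_eq_top_iff.mpr hQn]
    exact Subgroup.mem_top e
  · have h3 : IsPGroup 3 (Subgroup.zpowers e) := by
      apply IsPGroup.of_card (n := n)
      rw [Nat.card_zpowers, he]
    have h2 : IsPGroup 2 (Subgroup.centralizer (Q : Set G)) := hQ2.to_le hchar
    exact (IsPGroup.disjoint_of_ne 3 2 (by norm_num) _ _ h3 h2).eq_bot
  · exact fpf_on_Q hQ2 hinv hfpf
  · intro V _ _
    intro A hA hA2
    have hE : IsElementaryAbelian 2 (A.map V.subtype) := by
      refine ⟨⟨⟨fun a b => ?_⟩⟩, ?_⟩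
      · obtain ⟨a, ha⟩ := a
        obtain ⟨b, hb⟩ := b
        obtain ⟨a', ha', rfl⟩ := ha
        obtain ⟨b', hb', rfl⟩ := hb
        apply Subtype.ext
        have := hA.is_comm.comm ⟨a', ha'⟩ ⟨b', hb'⟩
        have h2 := congrArg Subtype.val this
        have h3 := congrArg Subtype.val h2
        exact h3
      · rintro _ ⟨a, ha, rfl⟩
        have := hA2 a ha
        have h2 := congrArg Subtype.val this
        exact h2
    have := card_le_four H0 _ hE
    rw [Subgroup.card_map_of_injective V.subtype_injective] at this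
    norm_num
    exact this

/-- the final contradiction from a commuting pair -/
theorem final_contra {Q : Subgroup G} [hQn : Q.Normal] (hQ2 : IsPGroup 2 Q)
    (hchar : Subgroup.centralizer (Q : Set G) ≤ Q) {W : Subgroup G}
    (hinv : ∀ u ∈ Q, u ^ 2 = 1 → u ∈ W) {e₁ e₂ : G} (h13 : e₁ ^ 3 = 1) (h11 : e₁ ≠ 1)
    (h1W : ∀ w ∈ W, e₁ * w = w * e₁) (h23 : e₂ ^ 3 = 1)
    (h2W : W ⊓ Subgroup.centralizer {e₂} = ⊥) (h12 : e₁ * e₂ = e₂ * e₁) : False := by
  haveI : Fact (Nat.Prime 3) := ⟨Nat.prime_three⟩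
  obtain ⟨m, hm⟩ := (IsPGroup.iff_card).mp hQ2
  have hcop : (Nat.card Q).Coprime 3 := by
    rw [hm]
    exact Nat.Coprime.pow_left m (by norm_num)
  have hnorm : ∀ g : G, g ∈ Subgroup.normalizer (Q : Set G) := by
    intro g
    rw [Subgroup.normalizer_eq_top_iff.mpr hQn]
    exact Subgroup.mem_top g
  have hfpf_i : ∀ i : ℕ, W ⊓ Subgroup.centralizer {e₁ ^ i * e₂} = ⊥ := by
    intro i
    rw [eq_bot_iff, ← h2W]
    intro w hw
    rw [Subgroup.mem_inf, Subgroup.mem_centralizer_singleton_iff] at hw ⊢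
    refine ⟨hw.1, ?_⟩
    have hc : Commute e₁ w := h1W w hw.1
    have hci : e₁ ^ i * w = w * e₁ ^ i := (hc.pow_left i).eq
    have h := hw.2
    -- w * (e₁^i * e₂) = e₁^i * e₂ * w
    have : e₁ ^ i * (w * e₂) = e₁ ^ i * (e₂ * w) := by
      calc e₁ ^ i * (w * e₂) = (e₁ ^ i * w) * e₂ := by group
        _ = w * (e₁ ^ i * e₂) := by rw [hci]; group
        _ = e₁ ^ i * e₂ * w := h
        _ = e₁ ^ i * (e₂ * w) := by group
    exact mul_left_cancel this
  have key := Cfsg.Agent.Lib.Helper12.le_gen_of_coprime (p := 3) Q hcop e₁ e₂ (hnorm e₁) (hnorm e₂)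
    h12 h13 h23 (Q ⊓ Subgroup.centralizer {e₁}) le_rfl
    (fun i => by rw [fpf_on_Q hQ2 hinv (hfpf_i i.val)]; exact bot_le)
  have he₁ : e₁ ∈ Subgroup.centralizer (Q : Set G) := by
    rw [Subgroup.mem_centralizer_iff]
    intro q hq
    have := key hq
    rw [Subgroup.mem_inf, Subgroup.mem_centralizer_singleton_iff] at this
    exact this.2
  have he₁Q : e₁ ∈ Q := hchar he₁
  obtain ⟨k, hk⟩ := hQ2 ⟨e₁, he₁Q⟩
  have hk' : e₁ ^ 2 ^ k = 1 := congrArg Subtype.val hk
  have hd1 : orderOf e₁ ∣ 2 ^ k := orderOf_dvd_of_pow_eq_one hk'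
  have hd2 : orderOf e₁ ∣ 3 := orderOf_dvd_of_pow_eq_one h13
  have hcop2 : Nat.Coprime (2 ^ k) 3 := Nat.Coprime.pow_left k (by norm_num)
  have := Nat.dvd_gcd hd1 hd2
  rw [hcop2.gcd_eq_one, Nat.dvd_one] at this
  exact h11 (orderOf_eq_one_iff.mp this)

/-- Let G be a finite group with C_G(O₂(G)) ≤ O₂(G) containing an element of order 6, and let d be a non-identity 3-element of G normalizing a nontrivial elementary abelian 2-subgroup W with C_W(d) = 1. Then G has an elementary abelian subgroup of order 8. -/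
theorem result {G : Type*} [Group G] [Finite G] (hchar : Subgroup.centralizer (Cfsg.pCore 2 G : Set G) ≤ Cfsg.pCore 2 G) (hsix : ∃ g : G, orderOf g = 6) (d : G) (hd1 : d ≠ 1) (hd : IsPGroup 3 ↥(Subgroup.zpowers d)) (W : Subgroup G) (hW : Cfsg.IsElementaryAbelian 2 W) (hW1 : W ≠ ⊥) (hdW : d ∈ Subgroup.normalizer (W : Set G)) (hfpf : W ⊓ Subgroup.centralizer {d} = ⊥) : ∃ E : Subgroup G, Cfsg.IsElementaryAbelian 2 E ∧ Nat.card E = 8 := by
  by_contra hcon
  push_neg at hcon
  have H0 : ∀ E : Subgroup G, IsElementaryAbelian 2 E → Nat.card E ≠ 8 := hcon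
  haveI : Fact (Nat.Prime 2) := ⟨Nat.prime_two⟩
  haveI : Fact (Nat.Prime 3) := ⟨Nat.prime_three⟩
  haveI hQn : (Cfsg.pCore 2 G).Normal := Cfsg.Agent.Lib.Helper16.pCore_normal 2 G
  have hQ2 : IsPGroup 2 (Cfsg.pCore 2 G) := Cfsg.Agent.Lib.Helper16.pCore_isPGroup 2 G
  have hW4 := card_W H0 hW hW1 hdW hfpf
  obtain ⟨hWQ, hWZ, hinv⟩ := W_structure H0 hQ2 hchar hW hW4 hdW hfpf
  have hWn : ∀ g : G, ∀ w ∈ W, g * w * g⁻¹ ∈ W := by
    intro g w hw
    apply hinv _ (hQn.conj_mem w (hWQ hw) g)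
    rw [conj_pow, hW.2 w hw]
    group
  -- the element of order six
  obtain ⟨g₆, hg₆⟩ := hsix
  have h6 : g₆ ^ 6 = 1 := by rw [← hg₆]; exact pow_orderOf_eq_one g₆
  have ht2 : (g₆ ^ 3) ^ 2 = 1 := by rw [← pow_mul]; exact h6
  have ht1 : g₆ ^ 3 ≠ 1 := by
    intro h
    have := orderOf_dvd_of_pow_eq_one h
    rw [hg₆] at this
    norm_num at this
  have hx3 : (g₆ ^ 2) ^ 3 = 1 := by rw [← pow_mul]; exact h6
  have hx1 : g₆ ^ 2 ≠ 1 := by
    intro h
    have := orderOf_dvd_of_pow_eq_one h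
    rw [hg₆] at this
    norm_num at this
  have htx : g₆ ^ 3 * g₆ ^ 2 = g₆ ^ 2 * g₆ ^ 3 := pow_mul_comm g₆ 3 2
  have hxW := x_centralizes H0 hW hW4 hWn ht2 ht1 hx3 htx
  -- the order of d
  obtain ⟨n, hn⟩ := (IsPGroup.iff_card).mp hd
  rw [Nat.card_zpowers] at hn
  have hn1 : 1 ≤ n := by
    by_contra h
    have : n = 0 := by omega
    rw [this, pow_zero] at hn
    exact hd1 (orderOf_eq_one_iff.mp hn)
  have hd3 : orderOf d = 3 := order_three H0 hQ2 hchar hinv n hn1 hn hfpf
  have hd3' : d ^ 3 = 1 := by rw [← hd3]; exact pow_orderOf_eq_one d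
  -- a Sylow 3-subgroup containing d and a conjugate of x
  obtain ⟨P, hdP⟩ := hd.exists_le_sylow
  have hxo : orderOf (g₆ ^ 2) = 3 := orderOf_eq_prime hx3 hx1
  have hx3grp : IsPGroup 3 (Subgroup.zpowers (g₆ ^ 2)) := by
    apply IsPGroup.of_card (n := 1)
    rw [Nat.card_zpowers, hxo, pow_one]
  obtain ⟨P', hxP'⟩ := hx3grp.exists_le_sylow
  obtain ⟨g, hg⟩ := MulAction.exists_smul_eq G P' P
  set x' := g * g₆ ^ 2 * g⁻¹ with hx'def
  have hx'P : x' ∈ (P : Subgroup G) := by
    rw [← hg, Sylow.coe_subgroup_smul]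
    have : MulAut.conj g • (g₆ ^ 2) ∈ MulAut.conj g • (P' : Subgroup G) :=
      Subgroup.smul_mem_pointwise_smul _ _ _ (hxP' (Subgroup.mem_zpowers _))
    simpa [MulAut.smul_def] using this
  have hx'3 : x' ^ 3 = 1 := by
    rw [hx'def, conj_pow, hx3]
    group
  have hx'1 : x' ≠ 1 := by
    intro h
    apply hx1
    have : g₆ ^ 2 = g⁻¹ * x' * g := by rw [hx'def]; group
    rw [this, h]
    group
  have hx'W : ∀ w ∈ W, x' * w = w * x' := by
    intro w hw
    have hw' : g⁻¹ * w * g ∈ W := by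
      have := hWn g⁻¹ w hw
      rwa [inv_inv] at this
    have hc := hxW _ hw'
    calc x' * w = g * (g₆ ^ 2 * (g⁻¹ * w * g)) * g⁻¹ := by rw [hx'def]; group
      _ = g * ((g⁻¹ * w * g) * g₆ ^ 2) * g⁻¹ := by rw [hc]
      _ = w * x' := by rw [hx'def]; group
  have hPne : (P : Subgroup G) ≠ ⊥ := by
    intro h
    have : d ∈ (P : Subgroup G) := hdP (Subgroup.mem_zpowers d)
    rw [h, Subgroup.mem_bot] at this
    exact hd1 this
  obtain ⟨y, hyP, hy1, hy3, hyc⟩ := exists_central_prime_elt P.isPGroup' hPne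
  by_cases hy : ∀ w ∈ W, y * w = w * y
  · exact final_contra hQ2 hchar hinv hy3 hy1 hy hd3' hfpf
      (hyc d (hdP (Subgroup.mem_zpowers d)))
  · have hyW : W ⊓ Subgroup.centralizer {y} = ⊥ := by
      by_contra hne
      obtain ⟨u, hu, hu1⟩ : ∃ u ∈ W ⊓ Subgroup.centralizer {y}, u ≠ 1 := by
        obtain ⟨u, hu⟩ := (Subgroup.ne_bot_iff_exists_ne_one).mp hne
        exact ⟨u.1, u.2, fun h' => hu (Subtype.ext h')⟩
      rw [Subgroup.mem_inf, Subgroup.mem_centralizer_singleton_iff] at hu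
      exact hy (fix3 hW hW4 hy3 (hWn y) hu.1 hu1 hu.2.symm)
    exact final_contra hQ2 hchar hinv hx'3 hx'1 hx'W hy3 hyW (hyc x' hx'P).symm

end Cfsg.Agent.S3739
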