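import Cfsg.Statements.S3741
import Mathlib
import Cfsg.Agent.Lib.Helper2.NilpotentBasic

set_option autoImplicit false
open Cfsg

namespace Cfsg.Agent.S3741

open scoped commutatorElement

variable {G : Type*} [Group G]

open scoped Classical in
/-- Counting the elements of `B` commuting with a fixed `a ∈ A`, when `[A,B]` has order at most `p`
and is centralized by `B`. -/
theorem count_commuting [Finite G] {p : ℕ} [Fact p.Prime] (A B : Subgroup G)
    (hZB : ∀ z ∈ ⁅A, B⁆, ∀ b ∈ B, b * z = z * b)
    (hcard : Nat.card ↥⁅A, B⁆ ≤ p) (hZp : IsPGroup p ↥⁅A, B⁆) (a : G) (ha : a ∈ A) :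
    p * Nat.card {b : B // a * (b : G) = b * a} =
      Nat.card B + (if a ∈ Subgroup.centralizer (B : Set G) then (p - 1) * Nat.card B else 0) := by
  have hp := (Fact.out : p.Prime)
  by_cases hc : a ∈ Subgroup.centralizer (B : Set G)
  · rw [if_pos hc]
    have hall : ∀ b : B, a * (b : G) = b * a :=
      fun b => ((Subgroup.mem_centralizer_iff.mp hc) b b.2).symm
    have h1 : Nat.card {b : B // a * (b : G) = b * a} = Nat.card B :=
      Nat.card_congr (Equiv.subtypeUnivEquiv hall)
    rw [h1]
    have h2 : p = (p - 1) + 1 := by have := hp.pos; omega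
    nth_rewrite 1 [h2]; ring
  · rw [if_neg hc, add_zero]
    let f : B →* ↥⁅A, B⁆ :=
      { toFun := fun b => ⟨⁅a, (b : G)⁆, Subgroup.commutator_mem_commutator ha b.2⟩
        map_one' := by ext; simp
        map_mul' := by
          intro b b'
          ext
          simp only [Subgroup.coe_mul]
          have hz := hZB ⁅a, (b' : G)⁆ (Subgroup.commutator_mem_commutator ha b'.2) b b.2
          have hz' : (b : G) * ⁅a, (b' : G)⁆ * (b : G)⁻¹ = ⁅a, (b' : G)⁆ := by
            rw [hz]; group
          calc ⁅a, (b : G) * b'⁆ = ⁅a, (b : G)⁆ * ((b : G) * ⁅a, (b' : G)⁆ * (b : G)⁻¹) := by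
                simp only [commutatorElement_def]; group
            _ = ⁅a, (b : G)⁆ * ⁅a, (b' : G)⁆ := by rw [hz'] }
    have hker : ∀ b : B, b ∈ f.ker ↔ a * (b : G) = b * a := by
      intro b
      rw [MonoidHom.mem_ker, Subtype.ext_iff]
      show ⁅a, (b : G)⁆ = 1 ↔ _
      exact commutatorElement_eq_one_iff_mul_comm
    -- some b does not commute
    have hex : ∃ b : B, ¬ a * (b : G) = b * a := by
      by_contra hcon
      push Not at hcon
      apply hc
      rw [Subgroup.mem_centralizer_iff]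
      intro b hb
      exact (hcon ⟨b, hb⟩).symm
    obtain ⟨b0, hb0⟩ := hex
    have hZne : Nat.card ↥⁅A, B⁆ ≠ 1 := by
      intro h1
      have : Subsingleton ↥⁅A, B⁆ := (Nat.card_eq_one_iff_unique.mp h1).1
      apply hb0
      rw [← hker, MonoidHom.mem_ker]
      exact Subsingleton.elim _ _
    have hZcard : Nat.card ↥⁅A, B⁆ = p := by
      obtain ⟨k, hk⟩ := IsPGroup.iff_card.mp hZp
      rcases k with _ | _ | k
      · rw [pow_zero] at hk; exact absurd hk hZne
      · rw [hk]; simp
      · exfalso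
        rw [hk] at hcard
        have : p ^ (k + 1 + 1) = p * p * p ^ k := by ring
        rw [this] at hcard
        have h2 := hp.two_le
        have h3 : 1 ≤ p ^ k := Nat.one_le_pow _ _ hp.pos
        nlinarith
    haveI : Fact (Nat.card ↥⁅A, B⁆).Prime := ⟨hZcard ▸ hp⟩
    have hrange : f.range = ⊤ := by
      rcases f.range.eq_bot_or_eq_top_of_prime_card with h | h
      · exfalso
        apply hb0
        rw [← hker, MonoidHom.mem_ker]
        have : f b0 ∈ f.range := ⟨b0, rfl⟩
        rw [h, Subgroup.mem_bot] at this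
        exact this
      · exact h
    have h1 := Subgroup.card_mul_index f.ker
    rw [Subgroup.index_ker, hrange, Subgroup.card_top, hZcard] at h1
    have h2 : Nat.card {b : B // a * (b : G) = b * a} = Nat.card f.ker :=
      Nat.card_congr (Equiv.subtypeEquivRight (fun b => (hker b).symm))
    rw [h2, ← h1, mul_comm]

/-- Let A and B be subgroups of a finite p-group with [A, B] ≤ A ∩ B and [A, B] of order at most p. Then |A : C_A(B)| = |B : C_B(A)|. -/
theorem result {G : Type*} [Group G] [Finite G] {p : ℕ} [Fact p.Prime] (hG : IsPGroup p G) (A B : Subgroup G) (hAB : ⁅A, B⁆ ≤ A ⊓ B) (hcard : Nat.card ↥⁅A, B⁆ ≤ p) : (A ⊓ Subgroup.centralizer (B : Set G)).relIndex A = (B ⊓ Subgroup.centralizer (A : Set G)).relIndex B := by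
  classical
  have hp := (Fact.out : p.Prime)
  -- centrality of Z = [A,B] in A ⊔ B
  have hle : ⁅A, B⁆ ≤ A ⊔ B := hAB.trans (inf_le_left.trans le_sup_left)
  have hnorm : A ⊔ B ≤ Subgroup.normalizer ((⁅A, B⁆ : Subgroup G) : Set G) := by
    have h : (⁅A, B⁆.subgroupOf (A ⊔ B)).Normal := inferInstance
    exact (Subgroup.normal_subgroupOf_iff_le_normalizer hle).mp h
  have hZp : IsPGroup p ↥⁅A, B⁆ := hG.to_subgroup _
  have hcent : ∀ z ∈ ⁅A, B⁆, ∀ x ∈ A ⊔ B, x * z = z * x := by
    obtain ⟨N, hN⟩ : ∃ N : Subgroup G, N = Subgroup.normalizer ((⁅A, B⁆ : Subgroup G) : Set G) :=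
      ⟨_, rfl⟩
    have hZN : ⁅A, B⁆ ≤ N := hN ▸ Subgroup.le_normalizer
    have hNn : (⁅A, B⁆.subgroupOf N).Normal := by
      rw [hN]; exact Subgroup.normal_in_normalizer
    have hNnil : Group.IsNilpotent ↥N := (hG.to_subgroup N).isNilpotent
    by_cases hbot : ⁅A, B⁆.subgroupOf N = ⊥
    · intro z hz x _
      have : (⟨z, hZN hz⟩ : N) ∈ ⁅A, B⁆.subgroupOf N := by
        rw [Subgroup.mem_subgroupOf]; exact hz
      rw [hbot, Subgroup.mem_bot] at this
      have hz1 : z = 1 := congrArg Subtype.val this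
      rw [hz1]; simp
    · have h1 := Cfsg.Agent.Lib.Helper2.normal_inf_center_ne_bot (⁅A, B⁆.subgroupOf N) hbot
      -- the intersection is everything
      have hcardZ' : Nat.card ↥(⁅A, B⁆.subgroupOf N) ≤ p := by
        rw [Nat.card_congr (Subgroup.subgroupOfEquivOfLe hZN).toEquiv]; exact hcard
      have hsub : ⁅A, B⁆.subgroupOf N ≤ Subgroup.center ↥N := by
        have h2 : ⁅A, B⁆.subgroupOf N ⊓ Subgroup.center ↥N = ⁅A, B⁆.subgroupOf N := by
          apply Subgroup.eq_of_le_of_card_ge inf_le_left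
          -- card of inf is a p-power ≥ p
          have hpI : IsPGroup p ↥(⁅A, B⁆.subgroupOf N ⊓ Subgroup.center ↥N) :=
            (hG.to_subgroup N).to_subgroup _
          obtain ⟨k, hk⟩ := IsPGroup.iff_card.mp hpI
          rcases k with _ | k
          · exfalso
            apply h1
            rw [← Subgroup.card_eq_one]; simpa using hk
          · rw [hk]
            refine hcardZ'.trans ?_
            calc p = p ^ 1 := (pow_one p).symm
              _ ≤ p ^ (k + 1) := Nat.pow_le_pow_right hp.pos (by omega)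
        rw [← h2]; exact inf_le_right
      intro z hz x hx
      have hzc : (⟨z, hZN hz⟩ : N) ∈ Subgroup.center ↥N := hsub (by
        rw [Subgroup.mem_subgroupOf]; exact hz)
      have hxN : x ∈ N := hN ▸ hnorm hx
      have := (Subgroup.mem_center_iff.mp hzc) ⟨x, hxN⟩
      exact congrArg Subtype.val this
  have hZB : ∀ z ∈ ⁅A, B⁆, ∀ b ∈ B, b * z = z * b :=
    fun z hz b hb => hcent z hz b (Subgroup.mem_sup_right hb)
  have hZA : ∀ z ∈ ⁅B, A⁆, ∀ a ∈ A, a * z = z * a :=
    fun z hz a ha => hcent z (Subgroup.commutator_comm B A ▸ hz) a (Subgroup.mem_sup_left ha)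
  have hcard' : Nat.card ↥⁅B, A⁆ ≤ p := by rw [Subgroup.commutator_comm B A]; exact hcard
  have hZp' : IsPGroup p ↥⁅B, A⁆ := hG.to_subgroup _
  haveI : Fintype A := Fintype.ofFinite A
  haveI : Fintype B := Fintype.ofFinite B
  -- double counting
  have hdouble : ∑ a : A, Nat.card {b : B // (a : G) * (b : G) = b * a} =
      ∑ b : B, Nat.card {a : A // (b : G) * (a : G) = a * b} := by
    have e : (Σ a : A, {b : B // (a : G) * (b : G) = b * a}) ≃
        (Σ b : B, {a : A // (b : G) * (a : G) = a * b}) :=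
      { toFun := fun x => ⟨x.2.1, ⟨x.1, x.2.2.symm⟩⟩
        invFun := fun y => ⟨y.2.1, ⟨y.1, y.2.2.symm⟩⟩
        left_inv := fun x => rfl
        right_inv := fun y => rfl }
    have h1 := Nat.card_congr e
    rw [Nat.card_sigma, Nat.card_sigma] at h1
    exact h1
  -- sums
  have hsumA : p * ∑ a : A, Nat.card {b : B // (a : G) * (b : G) = b * a} =
      Nat.card A * Nat.card B +
        Nat.card ↥(A ⊓ Subgroup.centralizer (B : Set G)) * ((p - 1) * Nat.card B) := by
    rw [Finset.mul_sum]
    rw [Finset.sum_congr rfl (fun (a : A) _ => count_commuting A B hZB hcard hZp (a : G) a.2)]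
    rw [Finset.sum_add_distrib, Finset.sum_const, Finset.card_univ, smul_eq_mul,
      ← Finset.sum_filter, Finset.sum_const, smul_eq_mul, ← Nat.card_eq_fintype_card]
    congr 2
    rw [← Fintype.card_subtype, ← Nat.card_eq_fintype_card]
    apply Nat.card_congr
    exact
      { toFun := fun x => ⟨x.1.1, x.1.2, x.2⟩
        invFun := fun y => ⟨⟨y.1, y.2.1⟩, y.2.2⟩
        left_inv := fun x => rfl
        right_inv := fun y => rfl }
  have hsumB : p * ∑ b : B, Nat.card {a : A // (b : G) * (a : G) = a * b} =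
      Nat.card B * Nat.card A +
        Nat.card ↥(B ⊓ Subgroup.centralizer (A : Set G)) * ((p - 1) * Nat.card A) := by
    rw [Finset.mul_sum]
    rw [Finset.sum_congr rfl (fun (b : B) _ => count_commuting B A hZA hcard' hZp' (b : G) b.2)]
    rw [Finset.sum_add_distrib, Finset.sum_const, Finset.card_univ, smul_eq_mul,
      ← Finset.sum_filter, Finset.sum_const, smul_eq_mul, ← Nat.card_eq_fintype_card]
    congr 2
    rw [← Fintype.card_subtype, ← Nat.card_eq_fintype_card]
    apply Nat.card_congr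
    exact
      { toFun := fun x => ⟨x.1.1, x.1.2, x.2⟩
        invFun := fun y => ⟨⟨y.1, y.2.1⟩, y.2.2⟩
        left_inv := fun x => rfl
        right_inv := fun y => rfl }
  rw [hdouble, hsumB] at hsumA
  -- arithmetic
  have hp1 : 0 < p - 1 := by have := hp.two_le; omega
  have hkey : Nat.card ↥(B ⊓ Subgroup.centralizer (A : Set G)) * Nat.card A =
      Nat.card ↥(A ⊓ Subgroup.centralizer (B : Set G)) * Nat.card B := by
    have h1 : Nat.card ↥(B ⊓ Subgroup.centralizer (A : Set G)) * ((p - 1) * Nat.card A) =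
        Nat.card ↥(A ⊓ Subgroup.centralizer (B : Set G)) * ((p - 1) * Nat.card B) := by
      have : Nat.card B * Nat.card A = Nat.card A * Nat.card B := mul_comm _ _
      omega
    have h2 : (p - 1) * (Nat.card ↥(B ⊓ Subgroup.centralizer (A : Set G)) * Nat.card A) =
        (p - 1) * (Nat.card ↥(A ⊓ Subgroup.centralizer (B : Set G)) * Nat.card B) := by
      rw [mul_left_comm, h1, mul_left_comm]
    exact Nat.eq_of_mul_eq_mul_left hp1 h2
  have hrA : (A ⊓ Subgroup.centralizer (B : Set G)).relIndex A *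
      Nat.card ↥(A ⊓ Subgroup.centralizer (B : Set G)) = Nat.card A := by
    have h1 := Subgroup.card_mul_index ((A ⊓ Subgroup.centralizer (B : Set G)).subgroupOf A)
    rw [Nat.card_congr (Subgroup.subgroupOfEquivOfLe (inf_le_left :
      A ⊓ Subgroup.centralizer (B : Set G) ≤ A)).toEquiv] at h1
    rw [Subgroup.relIndex, mul_comm]; exact h1
  have hrB : (B ⊓ Subgroup.centralizer (A : Set G)).relIndex B *
      Nat.card ↥(B ⊓ Subgroup.centralizer (A : Set G)) = Nat.card B := by
    have h1 := Subgroup.card_mul_index ((B ⊓ Subgroup.centralizer (A : Set G)).subgroupOf B)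
    rw [Nat.card_congr (Subgroup.subgroupOfEquivOfLe (inf_le_left :
      B ⊓ Subgroup.centralizer (A : Set G) ≤ B)).toEquiv] at h1
    rw [Subgroup.relIndex, mul_comm]; exact h1
  have hcA : 0 < Nat.card ↥(A ⊓ Subgroup.centralizer (B : Set G)) := Nat.card_pos
  have hcB : 0 < Nat.card ↥(B ⊓ Subgroup.centralizer (A : Set G)) := Nat.card_pos
  rw [← hrA, ← hrB] at hkey
  -- cB * (rA * cA) = cA * (rB * cB)
  have h3 : (Nat.card ↥(A ⊓ Subgroup.centralizer (B : Set G)) *
      Nat.card ↥(B ⊓ Subgroup.centralizer (A : Set G))) *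
        (A ⊓ Subgroup.centralizer (B : Set G)).relIndex A =
      (Nat.card ↥(A ⊓ Subgroup.centralizer (B : Set G)) *
      Nat.card ↥(B ⊓ Subgroup.centralizer (A : Set G))) *
        (B ⊓ Subgroup.centralizer (A : Set G)).relIndex B := by
    linarith [hkey]
  exact Nat.eq_of_mul_eq_mul_left (Nat.mul_pos hcA hcB) h3

end Cfsg.Agent.S3741
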