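import Cfsg.Statements.S3742
import Cfsg.Agent.Lib.Helper9.AutQ8
import Cfsg.Agent.S1012

set_option autoImplicit false
open Cfsg

namespace Cfsg.Agent.S3742

open Cfsg.Agent.Lib.Helper9.SLTwoThree QuaternionGroup

set_option maxRecDepth 1000000 in
theorem dec_no_six : ∀ u v : QuaternionGroup 2,
    (∀ p q, autFun u v (p * q) = autFun u v p * autFun u v q) →
    Function.Injective (autFun u v) →
    (autFun u v)^[6] (a 1) = a 1 → (autFun u v)^[6] (xa 0) = xa 0 →
    ((autFun u v)^[2] (a 1) = a 1 ∧ (autFun u v)^[2] (xa 0) = xa 0) ∨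
    ((autFun u v)^[3] (a 1) = a 1 ∧ (autFun u v)^[3] (xa 0) = xa 0) := by decide

theorem iterate_eq (τ : MulAut (QuaternionGroup 2)) (k : ℕ) (p : QuaternionGroup 2) :
    (autFun (τ (a 1)) (τ (xa 0)))^[k] p = (τ ^ k) p := by
  have h : ∀ q, autFun (τ (a 1)) (τ (xa 0)) q = τ q := fun q => by
    have := hom_eq_autFun τ.toMonoidHom q
    simpa using this.symm
  induction k generalizing p with
  | zero => simp
  | succ k ih =>
    rw [Function.iterate_succ_apply, ih, h, pow_succ]
    rfl

theorem pow_eq_one_of_fix (τ : MulAut (QuaternionGroup 2))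
    (h1 : τ (a 1) = a 1) (h2 : τ (xa 0) = xa 0) : τ = 1 := by
  have : τ.toMonoidHom = (1 : MulAut (QuaternionGroup 2)).toMonoidHom := by
    apply quat_hom_ext
    · simpa using h1
    · simpa using h2
  ext q
  have := DFunLike.congr_fun this q
  simpa using this

/-- The automorphism group of the quaternion group of order 8 is isomorphic to the symmetric group of degree 4. -/
theorem result : Nonempty (MulAut (QuaternionGroup 2) ≃* Equiv.Perm (Fin 4)) := by
  apply Cfsg.Agent.S1012.result card_mulAut_quat8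
  intro τ hτ
  have h6 : τ ^ 6 = 1 := by rw [← hτ]; exact pow_orderOf_eq_one τ
  have hv := (autEquivValidPair τ).2
  have hd := dec_no_six (τ (a 1)) (τ (xa 0)) hv.1 hv.2
    (by rw [iterate_eq, h6]; rfl) (by rw [iterate_eq, h6]; rfl)
  rcases hd with ⟨h1, h2⟩ | ⟨h1, h2⟩
  · rw [iterate_eq] at h1 h2
    have : τ ^ 2 = 1 := pow_eq_one_of_fix _ h1 h2
    have := orderOf_dvd_of_pow_eq_one this
    rw [hτ] at this
    omega
  · rw [iterate_eq] at h1 h2
    have : τ ^ 3 = 1 := pow_eq_one_of_fix _ h1 h2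
    have := orderOf_dvd_of_pow_eq_one this
    rw [hτ] at this
    omega

end Cfsg.Agent.S3742
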