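import Cfsg.Statements.S3744
import Mathlib
import Cfsg.Agent.Lib.Helper13.Hall2

set_option autoImplicit false
open Cfsg

namespace Cfsg.Agent.S3744

open Cfsg.Agent.Lib.Helper13
open scoped Pointwise

universe u

/-- `H` is a `p`-complement. -/
def IsPC (p : ℕ) {G : Type*} [Group G] (H : Subgroup G) : Prop :=
  (Nat.card H).Coprime p ∧ ∃ n : ℕ, H.index = p ^ n

/-- dominance property -/
def Dom (p : ℕ) (G : Type*) [Group G] : Prop :=
  ∀ H K : Subgroup G, IsPC p H → (Nat.card K).Coprime p → ∃ g : G, K ≤ MulAut.conj g • H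

theorem card_sup_dvd_mul' {G : Type*} [Group G] (H K : Subgroup G) [K.Normal] :
    Nat.card (H ⊔ K : Subgroup G) ∣ Nat.card H * Nat.card K := by
  have h1 : (⊥ : Subgroup G).relIndex K * K.relIndex (H ⊔ K) = (⊥ : Subgroup G).relIndex (H ⊔ K) :=
    Subgroup.relIndex_mul_relIndex _ _ _ bot_le le_sup_right
  rw [Subgroup.relIndex_bot_left, Subgroup.relIndex_bot_left, Subgroup.relIndex_sup_right] at h1
  rw [← h1, mul_comm]
  exact Nat.mul_dvd_mul_right (Subgroup.relIndex_dvd_card _ _) _

/-- Existence lifts through a normal `p`-subgroup or `p'`-subgroup. -/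
theorem exists_lift {G : Type u} [Group G] [Finite G] {p : ℕ} [Fact p.Prime] (M : Subgroup G)
    [M.Normal] (hM : IsPGroup p M ∨ (Nat.card M).Coprime p)
    (hex : ∃ Lbar : Subgroup (G ⧸ M), IsPC p Lbar) : ∃ H : Subgroup G, IsPC p H := by
  have hp := (Fact.out : p.Prime)
  obtain ⟨Lbar, h1, n, h2⟩ := hex
  obtain ⟨L, hL⟩ : ∃ L : Subgroup G, L = Lbar.comap (QuotientGroup.mk' M) := ⟨_, rfl⟩
  have hLcard : Nat.card L = Nat.card M * Nat.card Lbar := by
    rw [hL]; exact QuotientGroup.card_preimage_mk M _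
  have hLindex : L.index = Lbar.index := by
    rw [hL]; exact Subgroup.index_comap_of_surjective _ (QuotientGroup.mk'_surjective M)
  rcases hM with hMp | hMp'
  · have hML : M ≤ L := by
      rw [hL]
      intro x hx
      rw [Subgroup.mem_comap, QuotientGroup.mk'_apply, (QuotientGroup.eq_one_iff x).mpr hx]
      exact Subgroup.one_mem _
    obtain ⟨k, hk⟩ := IsPGroup.iff_card.mp hMp
    have hM'card : Nat.card (M.subgroupOf L) = Nat.card M := card_subgroupOf_of_le hML
    have hM'index : (M.subgroupOf L).index = Nat.card Lbar := by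
      have := Subgroup.card_mul_index (M.subgroupOf L)
      rw [hM'card, hLcard] at this
      exact Nat.eq_of_mul_eq_mul_left Nat.card_pos this
    have hcop : (Nat.card (M.subgroupOf L)).Coprime (M.subgroupOf L).index := by
      rw [hM'card, hM'index, hk]
      exact Nat.Coprime.pow_left k h1.symm
    obtain ⟨H', hH'⟩ := Subgroup.exists_right_complement'_of_coprime hcop
    have hH'card : Nat.card H' = Nat.card Lbar := by
      rw [← hH'.symm.index_eq_card, hM'index]
    refine ⟨H'.map L.subtype, ?_, n + k, ?_⟩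
    · rw [Subgroup.card_map_of_injective L.subtype_injective, hH'card]; exact h1
    · have e1 := Subgroup.card_mul_index (H'.map L.subtype)
      rw [Subgroup.card_map_of_injective L.subtype_injective, hH'card] at e1
      have e2 := Subgroup.card_mul_index L
      rw [hLcard, hLindex] at e2
      have hpos : 0 < Nat.card Lbar := Nat.card_pos
      apply Nat.eq_of_mul_eq_mul_left hpos
      rw [e1, ← e2, h2, hk]; ring
  · refine ⟨L, ?_, n, ?_⟩
    · rw [hLcard]; exact Nat.Coprime.mul_left hMp' h1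
    · rw [hLindex]; exact h2

/-- Dominance lifts through a normal `p`-subgroup or `p'`-subgroup. -/
theorem dom_lift {G : Type u} [Group G] [Finite G] {p : ℕ} [Fact p.Prime] (M : Subgroup G)
    [hMn : M.Normal] (hM : IsPGroup p M ∨ (Nat.card M).Coprime p)
    (hdom : Dom p (G ⧸ M)) : Dom p G := by
  have hp := (Fact.out : p.Prime)
  intro H K hH hK
  have hsurj := QuotientGroup.mk'_surjective M
  have hH' : IsPC p (H.map (QuotientGroup.mk' M)) := by
    refine ⟨Nat.Coprime.of_dvd_left (Subgroup.card_map_dvd H _) hH.1, ?_⟩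
    obtain ⟨n, hn⟩ := hH.2
    have := Subgroup.index_map_dvd H hsurj
    rw [hn] at this
    obtain ⟨m, -, hm⟩ := (Nat.dvd_prime_pow hp).mp this
    exact ⟨m, hm⟩
  have hK' : (Nat.card (K.map (QuotientGroup.mk' M))).Coprime p :=
    Nat.Coprime.of_dvd_left (Subgroup.card_map_dvd K _) hK
  obtain ⟨gbar, hg⟩ := hdom _ _ hH' hK'
  obtain ⟨g, rfl⟩ := hsurj gbar
  rw [← map_cj, Subgroup.map_le_map_iff, QuotientGroup.ker_mk'] at hg
  obtain ⟨H₁, hH₁⟩ : ∃ H₁ : Subgroup G, H₁ = MulAut.conj g • H := ⟨_, rfl⟩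
  rw [← hH₁] at hg
  have hH₁card : Nat.card H₁ = Nat.card H := by rw [hH₁, card_cj]
  have hH₁index : H₁.index = H.index := by rw [hH₁, index_cj]
  suffices h : ∃ x : G, K ≤ MulAut.conj x • H₁ by
    obtain ⟨x, hx⟩ := h
    refine ⟨x * g, ?_⟩
    rw [cj_mul, ← hH₁]
    exact hx
  have hpH : (Nat.card H₁).Coprime p := hH₁card ▸ hH.1
  rcases hM with hMp | hMp'
  · obtain ⟨k, hk⟩ := IsPGroup.iff_card.mp hMp
    have hcopH : (Nat.card M).Coprime (Nat.card H₁) := by
      rw [hk]; exact Nat.Coprime.pow_left k hpH.symm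
    have hcopK : (Nat.card M).Coprime (Nat.card K) := by
      rw [hk]; exact Nat.Coprime.pow_left k hK.symm
    obtain ⟨D, hD⟩ : ∃ D : Subgroup G, D = H₁ ⊓ (K ⊔ M) := ⟨_, rfl⟩
    have hDH : D ≤ H₁ := hD ▸ inf_le_left
    have hDL : D ≤ K ⊔ M := hD ▸ inf_le_right
    have hcopD : (Nat.card M).Coprime (Nat.card D) :=
      Nat.Coprime.of_dvd_right (Subgroup.card_dvd_of_le hDH) hcopH
    have hMnorm : ∀ X : Subgroup G, X ≤ Subgroup.normalizer (M : Set G) := by
      intro X
      rw [Subgroup.normalizer_eq_top]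
      exact le_top
    have hB : K ≤ M ⊔ D := by
      intro x hx
      obtain ⟨h, hh, m, hm, rfl⟩ := Subgroup.mem_sup_of_normal_right.mp (hg hx)
      have hhL : h ∈ K ⊔ M := by
        have : h = (h * m) * m⁻¹ := by group
        rw [this]
        exact Subgroup.mul_mem_sup hx (M.inv_mem hm)
      have hhD : h ∈ D := by rw [hD]; exact ⟨hh, hhL⟩
      have : h * m = (h * m * h⁻¹) * h := by group
      rw [this]
      exact Subgroup.mul_mem_sup (hMn.conj_mem m hm h) hhD
    have hL : M ⊔ D = K ⊔ M :=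
      le_antisymm (sup_le le_sup_right hDL) (sup_le hB le_sup_left)
    have hL' : M ⊔ K = K ⊔ M := sup_comm M K
    have c1 := isComplement'_subgroupOf_of_le_normalizer (M := M) (H := D) (L := K ⊔ M)
      le_sup_right hDL (hMnorm _) (Subgroup.disjoint_of_coprime_natCard hcopD).eq_bot hL
    have c2 := isComplement'_subgroupOf_of_le_normalizer (M := M) (H := K) (L := K ⊔ M)
      le_sup_right le_sup_left (hMnorm _) (Subgroup.disjoint_of_coprime_natCard hcopK).eq_bot hL'
    have hcard : Nat.card K = Nat.card D := by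
      have e1 := c1.card_mul_card
      have e2 := c2.card_mul_card
      rw [← e2, card_subgroupOf_of_le hDL, card_subgroupOf_of_le (le_sup_left : K ≤ K ⊔ M)] at e1
      exact (Nat.eq_of_mul_eq_mul_left Nat.card_pos e1).symm
    have hMsolv : Group.IsSolvable M := by
      have : Group.IsNilpotent M := hMp.isNilpotent
      infer_instance
    obtain ⟨x, _, hx⟩ := rel_sz_conj M D K (hMnorm D) hB hcard hcopD (Or.inl hMsolv)
    refine ⟨x, ?_⟩
    rw [← hx]
    exact cj_le_cj hDH
  · -- `M` is a `p'`-group: `M ≤ H₁`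
    have hMH : M ≤ H₁ := by
      have h1 : (Nat.card (H₁ ⊔ M : Subgroup G)).Coprime p :=
        Nat.Coprime.of_dvd_left (card_sup_dvd_mul' H₁ M) (Nat.Coprime.mul_left hpH hMp')
      have h2 : H₁.relIndex (H₁ ⊔ M) ∣ H₁.index := Subgroup.relIndex_dvd_index_of_le le_sup_left
      have h3 : H₁.relIndex (H₁ ⊔ M) ∣ Nat.card (H₁ ⊔ M : Subgroup G) :=
        Subgroup.relIndex_dvd_card _ _
      obtain ⟨n, hn⟩ := hH.2
      rw [hH₁index, hn] at h2
      obtain ⟨m, -, hm⟩ := (Nat.dvd_prime_pow hp).mp h2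
      have h4 : (p ^ m).Coprime p := Nat.Coprime.of_dvd_left (hm ▸ h3) h1
      have hm0 : m = 0 := by
        by_contra hne
        have : p ∣ p ^ m := dvd_pow_self p hne
        have h5 := Nat.Coprime.eq_one_of_dvd h4.symm this
        exact hp.one_lt.ne' h5
      rw [hm0, pow_zero] at hm
      exact le_sup_right.trans (Subgroup.relIndex_eq_one.mp hm)
    refine ⟨1, ?_⟩
    rw [cj_one]
    exact hg.trans (sup_le le_rfl hMH)

/-- Main induction on the length of the `p`-series. -/
theorem main {p : ℕ} [Fact p.Prime] (n : ℕ) : ∀ (G : Type u) [Group G] [Finite G]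
    (H : Fin (n + 1) → Subgroup G), H 0 = ⊥ → H (Fin.last n) = ⊤ → Monotone H →
    (∀ i, (H i).Normal) →
    (∀ i : Fin n, (∃ m : ℕ, (H i.castSucc).relIndex (H i.succ) = p ^ m) ∨
      ((H i.castSucc).relIndex (H i.succ)).Coprime p) →
    (∃ K : Subgroup G, IsPC p K) ∧ Dom p G := by
  induction n with
  | zero =>
    intro G _ _ H h0 hlast _ _ _
    have htriv : (⊤ : Subgroup G) = ⊥ := by
      rw [← hlast, ← h0]; rfl
    have hsub : Subsingleton G := by
      constructor
      intro a b
      have ha : a ∈ (⊤ : Subgroup G) := Subgroup.mem_top a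
      have hb : b ∈ (⊤ : Subgroup G) := Subgroup.mem_top b
      rw [htriv, Subgroup.mem_bot] at ha hb
      rw [ha, hb]
    refine ⟨⟨⊤, ?_, 0, ?_⟩, ?_⟩
    · rw [Subgroup.card_top, Nat.card_unique]; exact Nat.coprime_one_left p
    · rw [Subgroup.index_top, pow_zero]
    · intro H' K _ _
      refine ⟨1, ?_⟩
      rw [Subgroup.eq_bot_of_subsingleton K]
      exact bot_le
  | succ n ih =>
    intro G _ _ H h0 hlast hmono hnorm hfac
    obtain ⟨M, hMdef⟩ : ∃ M : Subgroup G, M = H (0 : Fin (n + 1)).succ := ⟨_, rfl⟩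
    haveI hMn : M.Normal := hMdef ▸ hnorm _
    have hM : IsPGroup p M ∨ (Nat.card M).Coprime p := by
      have h1 := hfac 0
      have h2 : (H (0 : Fin (n + 1)).castSucc).relIndex (H (0 : Fin (n + 1)).succ) = Nat.card M := by
        rw [← hMdef]
        have : (0 : Fin (n + 1)).castSucc = (0 : Fin (n + 2)) := rfl
        rw [this, h0, Subgroup.relIndex_bot_left]
      rw [h2] at h1
      rcases h1 with ⟨m, hm⟩ | h1
      · left; exact IsPGroup.of_card hm
      · right; exact h1
    set π := QuotientGroup.mk' M with hπ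
    have hsurj : Function.Surjective π := QuotientGroup.mk'_surjective M
    have hkerπ : π.ker = M := QuotientGroup.ker_mk' M
    have hML : ∀ i : Fin (n + 1), M ≤ H i.succ := by
      intro i
      rw [hMdef]
      apply hmono
      rw [Fin.succ_le_succ_iff]
      exact Fin.zero_le _
    obtain ⟨hex, hdom⟩ := ih (G ⧸ M) (fun i => (H i.succ).map π)
      (by
        show (H (0 : Fin (n + 1)).succ).map π = ⊥
        rw [← hMdef, hπ]
        exact QuotientGroup.map_mk'_self M)
      (by
        show (H (Fin.last n).succ).map π = ⊤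
        rw [Fin.succ_last, hlast]
        exact Subgroup.map_top_of_surjective π hsurj)
      (by
        intro i j hij
        apply Subgroup.map_mono
        apply hmono
        exact Fin.succ_le_succ_iff.mpr hij)
      (fun i => Subgroup.Normal.map (hnorm _) π hsurj)
      (by
        intro i
        have h1 := hfac i.succ
        have e : ((H i.castSucc.succ).map π).relIndex ((H i.succ.succ).map π) =
            (H i.succ.castSucc).relIndex (H i.succ.succ) := by
          rw [Subgroup.relIndex_map_map, hkerπ, sup_eq_left.mpr (hML _), sup_eq_left.mpr (hML _),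
            Fin.succ_castSucc]
        show (∃ m : ℕ, ((H i.castSucc.succ).map π).relIndex ((H i.succ.succ).map π) = p ^ m) ∨
          (((H i.castSucc.succ).map π).relIndex ((H i.succ.succ).map π)).Coprime p
        rw [e]
        exact h1)
    exact ⟨exists_lift M hM hex, dom_lift M hM hdom⟩

/-- A finite p-soluble group has a p-complement, all its p-complements are conjugate, and every subgroup of order prime to p lies in one of them. Here a p-complement is a subgroup of order prime to p whose index is a power of p. -/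
theorem result {G : Type*} [Group G] [Finite G] {p : ℕ} [Fact p.Prime] (hG : Cfsg.IsPSolvable p G) : (∃ H : Subgroup G, (Nat.card H).Coprime p ∧ ∃ n : ℕ, H.index = p ^ n) ∧ (∀ H₁ H₂ : Subgroup G, (Nat.card H₁).Coprime p → (∃ n : ℕ, H₁.index = p ^ n) → (Nat.card H₂).Coprime p → (∃ n : ℕ, H₂.index = p ^ n) → ∃ g : G, H₂ = H₁.map (MulAut.conj g).toMonoidHom) ∧ (∀ U : Subgroup G, (Nat.card U).Coprime p → ∃ H : Subgroup G, (Nat.card H).Coprime p ∧ (∃ n : ℕ, H.index = p ^ n) ∧ ∃ g : G, U.map (MulAut.conj g).toMonoidHom ≤ H) := by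
  obtain ⟨n, H, h0, hlast, hmono, hnorm, hfac⟩ := hG
  obtain ⟨hex, hdom⟩ := main n G H h0 hlast hmono hnorm hfac
  refine ⟨hex, ?_, ?_⟩
  · intro H₁ H₂ h1 h1' h2 h2'
    obtain ⟨g, hg⟩ := hdom H₁ H₂ ⟨h1, h1'⟩ h2
    refine ⟨g, ?_⟩
    have hcard : Nat.card H₁ = Nat.card H₂ := by
      obtain ⟨n1, hn1⟩ := h1'
      obtain ⟨n2, hn2⟩ := h2'
      have e1 := Subgroup.card_mul_index H₁
      have e2 := Subgroup.card_mul_index H₂
      rw [hn1] at e1
      rw [hn2] at e2
      have hp := (Fact.out : p.Prime)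
      -- card H₁ ∣ card H₂ and conversely
      have d1 : Nat.card H₁ ∣ Nat.card H₂ := by
        have : Nat.card H₁ ∣ Nat.card H₂ * p ^ n2 := by rw [e2, ← e1]; exact dvd_mul_right _ _
        exact (Nat.Coprime.pow_right n2 h1).dvd_of_dvd_mul_right this
      have d2 : Nat.card H₂ ∣ Nat.card H₁ := by
        have : Nat.card H₂ ∣ Nat.card H₁ * p ^ n1 := by rw [e1, ← e2]; exact dvd_mul_right _ _
        exact (Nat.Coprime.pow_right n1 h2).dvd_of_dvd_mul_right this
      exact Nat.dvd_antisymm d1 d2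
    have : H₂ = MulAut.conj g • H₁ := by
      apply Subgroup.eq_of_le_of_card_ge hg
      rw [card_cj, hcard]
    exact this
  · intro U hU
    obtain ⟨K, hK⟩ := hex
    obtain ⟨g, hg⟩ := hdom K U hK hU
    refine ⟨K, hK.1, hK.2, g⁻¹, ?_⟩
    show MulAut.conj g⁻¹ • U ≤ K
    have := cj_le_cj (g := g⁻¹) hg
    rwa [← cj_mul, inv_mul_cancel, cj_one] at this

end Cfsg.Agent.S3744
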