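import Cfsg.Statements.S3746
import Mathlib
import Cfsg.Agent.Lib.Helper20.Fitting
import Cfsg.Agent.Lib.Helper13.Coprime

set_option autoImplicit false
open Cfsg

namespace Cfsg.Agent.S3746

open Cfsg.Agent.Lib.Helper20
open scoped commutatorElement

/-- Let Z ≤ Z(G) be a central subgroup of a finite group G and E a subgroup of G containing Z whose image E/Z is a component of G/Z (subnormal and quasisimple). Then the derived subgroup [E, E] is a component of G. -/
theorem result {G : Type*} [Group G] [Finite G] (Z : Subgroup G) (hZ : Z ≤ Subgroup.center G) [Z.Normal] (E : Subgroup G) (hZE : Z ≤ E) (hE : Cfsg.IsComponent (E.map (QuotientGroup.mk' Z))) : Cfsg.IsComponent ⁅E, E⁆ := by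
  obtain ⟨π, hπ⟩ : ∃ π : G →* G ⧸ Z, π = QuotientGroup.mk' Z := ⟨_, rfl⟩
  rw [← hπ] at hE
  have hker : π.ker = Z := by rw [hπ]; exact QuotientGroup.ker_mk' Z
  have hEsub : E.IsSubnormal := by
    have h := hE.1.comap π
    rwa [Subgroup.comap_map_eq, hker, sup_eq_left.mpr hZE] at h
  obtain ⟨D, hD⟩ : ∃ D : Subgroup G, D = ⁅E, E⁆ := ⟨_, rfl⟩
  have hcomm_le : ∀ H : Subgroup G, ⁅H, H⁆ ≤ H := by
    intro H
    rw [Subgroup.commutator_le]
    intro a ha b hb
    rw [commutatorElement_def]
    exact H.mul_mem (H.mul_mem (H.mul_mem ha hb) (H.inv_mem ha)) (H.inv_mem hb)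
  have hDE : D ≤ E := hD ▸ hcomm_le E
  have hπD : D.map π = E.map π := by
    rw [hD, Subgroup.map_commutator]
    haveI := hE.2.1
    exact Subgroup.isPerfect_iff.mp inferInstance
  have hED : E ≤ D ⊔ Z := by
    have h1 : E ≤ (D.map π).comap π := by rw [hπD]; exact Subgroup.le_comap_map _ _
    rwa [Subgroup.comap_map_eq, hker] at h1
  have hperf : ⁅D, D⁆ = D := by
    apply le_antisymm (hcomm_le D)
    nth_rewrite 1 [hD]
    rw [Subgroup.commutator_le]
    intro a ha b hb
    obtain ⟨d1, hd1, z1, hz1, rfl⟩ := Subgroup.mem_sup_of_normal_right.mp (hED ha)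
    obtain ⟨d2, hd2, z2, hz2, rfl⟩ := Subgroup.mem_sup_of_normal_right.mp (hED hb)
    rw [commutatorElement_mul_center _ _ _ _ (hZ hz1) (hZ hz2)]
    exact Subgroup.commutator_mem_commutator hd1 hd2
  rw [← hD]
  refine ⟨?_, ?_⟩
  · refine Subgroup.IsSubnormal.step D E hDE hEsub ?_
    apply Subgroup.normal_subgroupOf_of_le_normalizer
    rw [hD]
    exact le_sup_left.trans (Cfsg.Agent.Lib.Helper13.le_normalizer_commutator E E)
  · haveI hDp : Group.IsPerfect ↥D := Subgroup.isPerfect_iff.mpr hperf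
    let φ : ↥D →* ↥(E.map π) := (π.comp D.subtype).codRestrict (E.map π)
      (fun d => by rw [← hπD]; exact ⟨d, d.2, rfl⟩)
    have hφs : Function.Surjective φ := by
      rintro ⟨y, hy⟩
      rw [← hπD] at hy
      obtain ⟨d, hd, rfl⟩ := hy
      exact ⟨⟨d, hd⟩, rfl⟩
    have hkerφ : φ.ker = Z.subgroupOf D := by
      ext d
      rw [MonoidHom.mem_ker, Subgroup.mem_subgroupOf, Subtype.ext_iff]
      have h1 : ((φ d : ↥(E.map π)) : G ⧸ Z) = π (d : G) := rfl
      have h2 : (d : G) ∈ Z ↔ π (d : G) = 1 := by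
        rw [← MonoidHom.mem_ker, hker]
      rw [h1, h2]
      rfl
    have e : ↥D ⧸ Z.subgroupOf D ≃* ↥(E.map π) :=
      (QuotientGroup.quotientMulEquivOfEq hkerφ.symm).trans
        (QuotientGroup.quotientKerEquivOfSurjective φ hφs)
    have hcentral : Z.subgroupOf D ≤ Subgroup.center ↥D := by
      intro d hd
      rw [Subgroup.mem_subgroupOf] at hd
      rw [Subgroup.mem_center_iff]
      intro x
      apply Subtype.ext
      exact (Subgroup.mem_center_iff.mp (hZ hd)) x
    exact isQuasisimple_of_central_quotient hDp (Z.subgroupOf D) hcentral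
      (isQuasisimple_of_mulEquiv e.symm hE.2)

end Cfsg.Agent.S3746
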