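import Cfsg.Statements.S3747
import Mathlib
import Cfsg.Agent.Lib.Helper20.Bender
import Cfsg.Agent.Lib.Helper9.Fitting

set_option autoImplicit false
open Cfsg

namespace Cfsg.Agent.S3747

open Cfsg.Agent.Lib.Helper20

/-- The join of all conjugates of a subgroup is normal. -/
theorem iSup_conj_normal {G : Type*} [Group G] (K : Subgroup G) :
    (⨆ g : G, K.map (MulAut.conj g).toMonoidHom).Normal := by
  constructor
  intro n hn h
  have h1 : (⨆ g : G, K.map (MulAut.conj g).toMonoidHom).map (MulAut.conj h).toMonoidHom ≤
      ⨆ g : G, K.map (MulAut.conj g).toMonoidHom := by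
    rw [Subgroup.map_iSup]
    apply iSup_le
    intro g
    rintro _ ⟨_, ⟨x, hx, rfl⟩, rfl⟩
    refine le_iSup (fun g : G => K.map (MulAut.conj g).toMonoidHom) (h * g) ⟨x, hx, ?_⟩
    simp [mul_assoc]
  exact h1 ⟨n, hn, rfl⟩

/-- The Fitting subgroup of a normal subgroup lies in the Fitting subgroup. -/
theorem map_fitting_le {G : Type*} [Group G] [Finite G] (N : Subgroup G) [N.Normal] :
    (Cfsg.fittingSubgroup ↥N).map N.subtype ≤ Cfsg.fittingSubgroup G := by
  haveI := Cfsg.Agent.Lib.Helper9.fittingSubgroup_characteristic ↥N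
  apply le_fittingSubgroup' inferInstance
  have hnil : Group.IsNilpotent (Cfsg.fittingSubgroup ↥N) := fittingSubgroup_isNilpotent'
  have e : ↥(Cfsg.fittingSubgroup ↥N) ≃* ↥((Cfsg.fittingSubgroup ↥N).map N.subtype) :=
    (Cfsg.fittingSubgroup ↥N).equivMapOfInjective N.subtype N.subtype_injective
  exact Group.nilpotent_of_mulEquiv e

/-- Part (a). -/
theorem partA {G : Type*} [Group G] [Finite G] (K : Subgroup G) (hK : Cfsg.IsComponent K)
    (hc : Subgroup.center ↥K = ⊥) :
    Subgroup.normalClosure (K : Set G) ≠ ⊥ ∧ ∀ N : Subgroup G, N.Normal →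
      N ≤ Subgroup.normalClosure (K : Set G) → N = ⊥ ∨ N = Subgroup.normalClosure (K : Set G) := by
  classical
  haveI : Fintype G := Fintype.ofFinite G
  have hKnt : Nontrivial ↥K := isQuasisimple_nontrivial hK.2
  have hKne : K ≠ ⊥ := (Subgroup.nontrivial_iff_ne_bot K).mp hKnt
  constructor
  · intro h
    apply hKne
    rw [← le_bot_iff, ← h]
    exact Subgroup.le_normalClosure
  · intro N hN hNle
    rcases component_le_or_commutes K N hK hN.isSubnormal with h | h
    · right
      exact le_antisymm hNle (Subgroup.normalClosure_le_normal h)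
    · left
      -- conjugates
      let cj : G → Subgroup G := fun g => K.map (MulAut.conj g).toMonoidHom
      let S : Finset (Subgroup G) := Finset.univ.image cj
      have hS : ∀ L ∈ S, Cfsg.IsComponent L := by
        intro L hL
        obtain ⟨g, -, rfl⟩ := Finset.mem_image.mp hL
        exact isComponent_map_mulEquiv (MulAut.conj g) K hK
      have hScent : ∀ L ∈ S, (Subgroup.center ↥L).map L.subtype = ⊥ := by
        intro L hL
        obtain ⟨g, -, rfl⟩ := Finset.mem_image.mp hL
        have e : ↥K ≃* ↥(K.map (MulAut.conj g).toMonoidHom) :=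
          K.equivMapOfInjective _ (MulAut.conj g).injective
        have h1 := map_center_mulEquiv e
        rw [hc, Subgroup.map_bot] at h1
        show (Subgroup.center ↥(K.map (MulAut.conj g).toMonoidHom)).map _ = ⊥
        rw [← h1, Subgroup.map_bot]
      have hsup : (⨆ L ∈ S, L : Subgroup G) = ⨆ g : G, cj g := by
        apply le_antisymm
        · apply iSup₂_le
          intro L hL
          obtain ⟨g, -, rfl⟩ := Finset.mem_image.mp hL
          exact le_iSup cj g
        · apply iSup_le
          intro g
          exact le_iSup₂_of_le (cj g) (Finset.mem_image_of_mem cj (Finset.mem_univ g)) le_rfl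
      have hncle : Subgroup.normalClosure (K : Set G) ≤ ⨆ g : G, cj g := by
        haveI := iSup_conj_normal K
        apply Subgroup.normalClosure_le_normal
        intro x hx
        refine le_iSup cj 1 ⟨x, hx, by simp⟩
      rw [Subgroup.eq_bot_iff_forall]
      intro z hz
      have hz1 : z ∈ (⨆ L ∈ S, L : Subgroup G) := by
        rw [hsup]; exact hncle (hNle hz)
      have hcomm : ∀ L ∈ S, ∀ x ∈ L, z * x = x * z := by
        intro L hL x hx
        obtain ⟨g, -, rfl⟩ := Finset.mem_image.mp hL
        obtain ⟨y, hy, rfl⟩ := hx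
        -- y ∈ K commutes with g⁻¹ z g ∈ N
        have hz' : g⁻¹ * z * g ∈ N := by
          have := hN.conj_mem z hz g⁻¹
          simpa using this
        have h2 := commutes_of_commutator_eq_bot h hy hz'
        simp only [MulEquiv.coe_toMonoidHom, MulAut.conj_apply]
        calc z * (g * y * g⁻¹) = g * ((g⁻¹ * z * g) * y) * g⁻¹ := by group
          _ = g * (y * (g⁻¹ * z * g)) * g⁻¹ := by rw [h2]
          _ = g * y * g⁻¹ * z := by group
      have h3 := center_decomp_aux S hS z hz1 hcomm
      have h4 : (⨆ L ∈ S, (Subgroup.center ↥L).map L.subtype : Subgroup G) = ⊥ := by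
        rw [← le_bot_iff]
        apply iSup₂_le
        intro L hL
        rw [hScent L hL]
      rw [h4, Subgroup.mem_bot] at h3
      exact h3

/-- Let G be a finite group. (a) If K is a component of G with trivial centre, then the normal closure of K in G is a minimal normal subgroup of G. (b) If the Fitting subgroup of G is trivial, then the layer E(G) is generated by the minimal normal subgroups of G. -/
theorem result {G : Type*} [Group G] [Finite G] : (∀ K : Subgroup G, Cfsg.IsComponent K → Subgroup.center ↥K = ⊥ → (Subgroup.normalClosure (K : Set G) ≠ ⊥ ∧ ∀ N : Subgroup G, N.Normal → N ≤ Subgroup.normalClosure (K : Set G) → N = ⊥ ∨ N = Subgroup.normalClosure (K : Set G))) ∧ (Cfsg.fittingSubgroup G = ⊥ → sSup {N : Subgroup G | N ≠ ⊥ ∧ N.Normal ∧ ∀ N' : Subgroup G, N'.Normal → N' ≤ N → N' = ⊥ ∨ N' = N} = Cfsg.layer G) := by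
  refine ⟨fun K hK hc => partA K hK hc, ?_⟩
  intro hF
  apply le_antisymm
  · apply sSup_le
    rintro N ⟨hNne, hNn, hNmin⟩
    haveI := hNn
    haveI := Cfsg.Agent.Lib.Helper9.layer_characteristic ↥N
    have hENn : ((Cfsg.layer ↥N).map N.subtype).Normal := inferInstance
    rcases hNmin _ hENn (Subgroup.map_subtype_le _) with h | h
    · exfalso
      have hE0 : Cfsg.layer ↥N = ⊥ :=
        (Subgroup.map_eq_bot_iff_of_injective _ N.subtype_injective).mp h
      have hF0 : Cfsg.fittingSubgroup ↥N = ⊥ := by
        have h1 := map_fitting_le N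
        rw [hF, le_bot_iff] at h1
        exact (Subgroup.map_eq_bot_iff_of_injective _ N.subtype_injective).mp h1
      have hgen : Cfsg.generalizedFittingSubgroup ↥N = ⊥ := by
        unfold Cfsg.generalizedFittingSubgroup; rw [hE0, hF0, sup_bot_eq]
      have h2 := centralizer_genFitting_le (G := ↥N)
      rw [hgen] at h2
      have h3 : (⊤ : Subgroup ↥N) ≤ ⊥ := by
        refine le_trans ?_ h2
        intro x _
        rw [Subgroup.mem_centralizer_iff]
        intro y hy
        have : y = 1 := hy
        rw [this]; simp
      apply hNne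
      rw [Subgroup.eq_bot_iff_forall]
      intro x hx
      have := h3 (Subgroup.mem_top (⟨x, hx⟩ : ↥N))
      rw [Subgroup.mem_bot] at this
      exact congrArg Subtype.val this
    · rw [← h]
      exact map_layer_subnormal_le N hNn.isSubnormal
  · apply sSup_le
    intro K hK
    have hc : Subgroup.center ↥K = ⊥ := by
      have hsub : ((Subgroup.center ↥K).map K.subtype).IsSubnormal :=
        Subgroup.IsSubnormal.trans' (Subgroup.Normal.isSubnormal inferInstance) hK.1
      have hnil : Group.IsNilpotent ↥((Subgroup.center ↥K).map K.subtype) := by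
        have e : ↥(Subgroup.center ↥K) ≃* ↥((Subgroup.center ↥K).map K.subtype) :=
          (Subgroup.center ↥K).equivMapOfInjective K.subtype K.subtype_injective
        have := center_isNilpotent ↥K
        exact Group.nilpotent_of_mulEquiv e
      have h1 := subnormal_nilpotent_le_fitting _ hsub hnil
      rw [hF, le_bot_iff] at h1
      exact (Subgroup.map_eq_bot_iff_of_injective _ K.subtype_injective).mp h1
    obtain ⟨h1, h2⟩ := partA K hK hc
    exact Subgroup.le_normalClosure.trans (le_sSup ⟨h1, inferInstance, h2⟩)

end Cfsg.Agent.S3747
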