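import Cfsg.Statements.S3748
import Mathlib
import Cfsg.Agent.Lib.Helper20.Wielandt
import Cfsg.Agent.Lib.Helper20.Fitting

set_option autoImplicit false
open Cfsg

namespace Cfsg.Agent.S3748

open Cfsg.Agent.Lib.Helper20

/-- A subgroup `X` whose elements conjugate `N` into itself normalizes `N`. -/
theorem le_normalizer_of_conj_mem {G : Type*} [Group G] (X N : Subgroup G)
    (h : ∀ x ∈ X, ∀ n ∈ N, x * n * x⁻¹ ∈ N) : X ≤ Subgroup.normalizer (N : Set G) := by
  intro x hx
  rw [Subgroup.mem_normalizer_iff]
  intro n
  refine ⟨h x hx n, fun hn => ?_⟩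
  have := h x⁻¹ (X.inv_mem hx) _ hn
  simpa [mul_assoc] using this

/-- Call a proper subgroup M of G primitive when M = N_G(N) for every non-trivial normal subgroup N of M. If M is a primitive subgroup of the finite group G, then no non-trivial subnormal subgroup of G is contained in M; in particular M ∩ F(G) = 1. -/
theorem result {G : Type*} [Group G] [Finite G] (M : Subgroup G) (hM : M ≠ ⊤) (hprim : ∀ N : Subgroup G, N ≤ M → M ≤ Subgroup.normalizer (N : Set G) → N ≠ ⊥ → Subgroup.normalizer (N : Set G) = M) : (∀ L : Subgroup G, L.IsSubnormal → L ≤ M → L = ⊥) ∧ M ⊓ Cfsg.fittingSubgroup G = ⊥ := by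
  -- key: no nontrivial normal subgroup of G inside M
  have hnorm : ∀ K : Subgroup G, K.Normal → K ≤ M → K = ⊥ := by
    intro K hK hKM
    by_contra hne
    have h1 : Subgroup.normalizer (K : Set G) = ⊤ := Subgroup.normalizer_eq_top_iff.mpr hK
    have h2 := hprim K hKM (h1 ▸ le_top) hne
    exact hM (h2.symm.trans h1)
  constructor
  · intro L hL hLM
    by_contra hne
    have htop : (⊤ : Subgroup G) ≠ ⊥ := by
      intro h
      apply hne
      rw [← le_bot_iff, ← h]; exact le_top
    obtain ⟨K, hK, -⟩ := exists_isMinimalNormal_le (⊤ : Subgroup G) inferInstance htop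
    let Lm : M → Subgroup G := fun m => L.map (MulAut.conj (m : G)).toMonoidHom
    let N : Subgroup G := ⨆ m : M, Lm m
    have hLN : L ≤ N := by
      refine le_trans ?_ (le_iSup Lm (1 : M))
      intro x hx
      exact ⟨x, hx, by simp⟩
    have hNM : N ≤ M := by
      refine iSup_le fun m => ?_
      rintro _ ⟨x, hx, rfl⟩
      exact M.mul_mem (M.mul_mem m.2 (hLM hx)) (M.inv_mem m.2)
    have key : ∀ g : G, (∀ m : M, (Lm m).map (MulAut.conj g).toMonoidHom ≤ N) →
        ∀ n ∈ N, g * n * g⁻¹ ∈ N := by
      intro g hg n hn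
      have h1 : N.map (MulAut.conj g).toMonoidHom ≤ N := by
        rw [Subgroup.map_iSup]; exact iSup_le hg
      exact h1 ⟨n, hn, rfl⟩
    have hMN : M ≤ Subgroup.normalizer (N : Set G) := by
      apply le_normalizer_of_conj_mem
      intro m' hm'
      apply key
      intro m
      rintro _ ⟨_, ⟨x, hx, rfl⟩, rfl⟩
      refine le_iSup Lm (⟨m', hm'⟩ * m) ⟨x, hx, ?_⟩
      simp [mul_assoc]
    have hKN : K ≤ Subgroup.normalizer (N : Set G) := by
      apply le_normalizer_of_conj_mem
      intro k hk
      apply key
      intro m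
      have hsub : (Lm m).IsSubnormal :=
        hL.map (f := (MulAut.conj (m : G)).toMonoidHom) (MulEquiv.surjective _)
      have hkn := isMinimalNormal_le_normalizer (Lm m) K hsub hK hk
      rw [Subgroup.mem_normalizer_iff] at hkn
      rintro _ ⟨y, hy, rfl⟩
      exact le_iSup Lm m ((hkn y).mp hy)
    have hNne : N ≠ ⊥ := fun h => hne (le_bot_iff.mp (h ▸ hLN))
    have h3 := hprim N hNM hMN hNne
    exact hK.2.1 (hnorm K hK.1 (h3 ▸ hKN))
  · have hF : Group.IsNilpotent (fittingSubgroup G) := fittingSubgroup_isNilpotent'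
    have hFn : (fittingSubgroup G).Normal := fittingSubgroup_normal'
    by_contra hne
    have hDM : M ⊓ fittingSubgroup G ≤ M := inf_le_left
    have hMD : M ≤ Subgroup.normalizer ((M ⊓ fittingSubgroup G : Subgroup G) : Set G) := by
      apply le_normalizer_of_conj_mem
      intro x hx n hn
      exact ⟨M.mul_mem (M.mul_mem hx hn.1) (M.inv_mem hx), hFn.conj_mem n hn.2 x⟩
    have hND := hprim _ hDM hMD hne
    have hnc := Group.normalizerCondition_of_isNilpotent (G := fittingSubgroup G)
    by_cases htop : (M ⊓ fittingSubgroup G).subgroupOf (fittingSubgroup G) = ⊤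
    · have hFM : fittingSubgroup G ≤ M := by
        rw [Subgroup.subgroupOf_eq_top] at htop; exact htop.trans hDM
      have h0 := hnorm _ hFn hFM
      apply hne
      rw [h0]; simp
    · have hlt := hnc _ (lt_top_iff_ne_top.mpr htop)
      obtain ⟨x, hxN, hxD⟩ := SetLike.exists_of_lt hlt
      apply hxD
      have hxG : (x : G) ∈ Subgroup.normalizer ((M ⊓ fittingSubgroup G : Subgroup G) : Set G) := by
        rw [Subgroup.mem_normalizer_iff] at hxN ⊢
        intro g
        constructor
        · intro hg
          have := (hxN ⟨g, hg.2⟩).mp (by rw [Subgroup.mem_subgroupOf]; exact hg)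
          rw [Subgroup.mem_subgroupOf] at this
          simpa using this
        · intro hg
          have hgF : g ∈ fittingSubgroup G := by
            have h1 := hg.2
            have h2 : g = (x : G)⁻¹ * ((x : G) * g * (x : G)⁻¹) * (x : G) := by group
            rw [h2]
            exact (fittingSubgroup G).mul_mem ((fittingSubgroup G).mul_mem
              ((fittingSubgroup G).inv_mem x.2) h1) x.2
          have := (hxN ⟨g, hgF⟩).mpr (by rw [Subgroup.mem_subgroupOf]; simpa using hg)
          rw [Subgroup.mem_subgroupOf] at this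
          simpa using this
      rw [hND] at hxG
      rw [Subgroup.mem_subgroupOf]
      exact ⟨hxG, x.2⟩

end Cfsg.Agent.S3748
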