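import Cfsg.Statements.S3749
import Mathlib
import Cfsg.Agent.Lib.Helper13.CoprimeSylow
import Cfsg.Agent.Lib.Helper20.Fitting
import Cfsg.Agent.S3748

set_option autoImplicit false
open Cfsg

namespace Cfsg.Agent.S3749

open Cfsg.Agent.Lib.Helper13 Cfsg.Agent.Lib.Helper20 Cfsg.Agent.S3748
open scoped Pointwise

/-- Call a proper subgroup M of G primitive when M = N_G(N) for every non-trivial normal subgroup N of M. Let M be a primitive subgroup of the finite group G, p a prime with O_p(M) ≠ 1, and N a normal subgroup of G with M ∩ N = 1. Then p does not divide the order of N; for every prime q there is exactly one Sylow q-subgroup of N normalized by M; and if the order of N has at least two prime divisors then M is not a maximal subgroup of G. -/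
theorem result {G : Type*} [Group G] [Finite G] (M : Subgroup G) (hM : M ≠ ⊤) (hprim : ∀ N : Subgroup G, N ≤ M → M ≤ Subgroup.normalizer (N : Set G) → N ≠ ⊥ → Subgroup.normalizer (N : Set G) = M) {p : ℕ} [Fact p.Prime] (hOp : Cfsg.pCore p ↥M ≠ ⊥) (N : Subgroup G) [N.Normal] (hMN : M ⊓ N = ⊥) : ¬ p ∣ Nat.card N ∧ (∀ q : ℕ, [Fact q.Prime] → ∃! Q : Sylow q ↥N, M ≤ Subgroup.normalizer ((Q : Subgroup ↥N).map N.subtype : Set G)) ∧ ((∃ q r : ℕ, q.Prime ∧ r.Prime ∧ q ≠ r ∧ q ∣ Nat.card N ∧ r ∣ Nat.card N) → ¬ IsCoatom M) := by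
  have hp := (Fact.out : p.Prime)
  obtain ⟨P, hPdef⟩ : ∃ P : Subgroup G, P = (Cfsg.pCore p ↥M).map M.subtype := ⟨_, rfl⟩
  have hPM : P ≤ M := hPdef ▸ Subgroup.map_subtype_le _
  have hPne : P ≠ ⊥ := by
    intro h
    apply hOp
    rw [hPdef] at h
    exact (Subgroup.map_eq_bot_iff_of_injective _ M.subtype_injective).mp h
  have hPp : IsPGroup p P := hPdef ▸ (pCore_isPGroup' (G := ↥M) p).map M.subtype
  have hnormal : (Cfsg.pCore p ↥M).Normal := Subgroup.sSup_normal _ (fun _ hH => hH.1)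
  have hMP : M ≤ Subgroup.normalizer (P : Set G) := by
    apply le_normalizer_of_conj_mem
    intro m hm x hx
    rw [hPdef] at hx ⊢
    obtain ⟨y, hy, rfl⟩ := hx
    exact ⟨(⟨m, hm⟩ : M) * y * (⟨m, hm⟩ : M)⁻¹, hnormal.conj_mem y hy _, by simp⟩
  have hNP : Subgroup.normalizer (P : Set G) = M := hprim P hPM hMP hPne
  -- Step 1
  have step1 : ∀ x, x ∈ Subgroup.normalizer (P : Set G) → x ∈ N ⊔ P → x ∈ P := by
    intro x hx hxNP
    rw [hNP] at hx
    have h1 : x ∈ (N : Set G) * (P : Set G) := by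
      rw [← Subgroup.normal_mul]; exact hxNP
    obtain ⟨n, hn, y, hy, rfl⟩ := h1
    have hnM : n ∈ M := by
      have := M.mul_mem hx (M.inv_mem (hPM hy)); simpa using this
    have h2 : n ∈ M ⊓ N := ⟨hnM, hn⟩
    rw [hMN, Subgroup.mem_bot] at h2
    subst h2; simpa using hy
  -- (a)
  have hpN : ¬ p ∣ Nat.card N := by
    intro hdvd
    obtain ⟨T, hPT⟩ := hPp.exists_le_sylow
    obtain ⟨x, hx⟩ := exists_prime_orderOf_dvd_card' (G := N) p hdvd
    have hxp : IsPGroup p (Subgroup.zpowers (x : G)) := by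
      apply IsPGroup.of_card (n := 1)
      rw [Nat.card_zpowers, Subgroup.orderOf_coe, hx, pow_one]
    obtain ⟨T0, hT0⟩ := hxp.exists_le_sylow
    obtain ⟨g, hg⟩ := MulAction.exists_smul_eq G T0 T
    obtain ⟨y, hy⟩ : ∃ y : G, y = g * (x : G) * g⁻¹ := ⟨_, rfl⟩
    have hyT : y ∈ (T : Subgroup G) := by
      rw [← hg, Sylow.coe_subgroup_smul, Subgroup.mem_pointwise_smul_iff_inv_smul_mem]
      simp only [MulAut.smul_def, MulAut.conj_inv_apply]
      have : g⁻¹ * y * g = x := by rw [hy]; group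
      rw [this]; exact hT0 (Subgroup.mem_zpowers _)
    have hyN : y ∈ N := hy ▸ Subgroup.Normal.conj_mem inferInstance _ x.2 g
    have hy1 : y ≠ 1 := by
      intro h
      have h1 : (x : G) = 1 := by
        have : (x : G) = g⁻¹ * y * g := by rw [hy]; group
        rw [this, h]; group
      have h2 : orderOf x = 1 := by rw [orderOf_eq_one_iff]; exact Subtype.ext h1
      rw [hx] at h2; exact hp.one_lt.ne' h2
    obtain ⟨R, hR⟩ : ∃ R : Subgroup G, R = ((T : Subgroup G) ⊓ N) ⊔ P := ⟨_, rfl⟩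
    have hRT : R ≤ T := hR ▸ sup_le inf_le_left hPT
    have hRp : IsPGroup p R := T.isPGroup'.to_le hRT
    have hRNP : R ≤ N ⊔ P := hR ▸ sup_le_sup_right inf_le_right P
    have hPR : P ≤ R := hR ▸ le_sup_right
    have hnil : Group.IsNilpotent R := hRp.isNilpotent
    have hnc := Group.normalizerCondition_of_isNilpotent (G := R)
    by_cases htop : P.subgroupOf R = ⊤
    · have hRP : R ≤ P := Subgroup.subgroupOf_eq_top.mp htop
      have hyR : y ∈ R := hR ▸ Subgroup.mem_sup_left ⟨hyT, hyN⟩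
      have h3 : y ∈ M ⊓ N := ⟨hPM (hRP hyR), hyN⟩
      rw [hMN, Subgroup.mem_bot] at h3
      exact hy1 h3
    · have hlt := hnc _ (lt_top_iff_ne_top.mpr htop)
      obtain ⟨z, hzN, hzP⟩ := SetLike.exists_of_lt hlt
      apply hzP
      rw [← Subgroup.subgroupOf_normalizer_eq hPR, Subgroup.mem_subgroupOf] at hzN
      rw [Subgroup.mem_subgroupOf]
      exact step1 _ hzN (hRNP z.2)
  -- coprime action data
  have hPN : P ≤ Subgroup.normalizer (N : Set G) := by
    rw [Subgroup.normalizer_eq_top]; exact le_top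
  have hcop : (Nat.card P).Coprime (Nat.card N) := by
    obtain ⟨k, hk⟩ := IsPGroup.iff_card.mp hPp
    rw [hk]
    exact Nat.Coprime.pow_left _ ((Nat.Prime.coprime_iff_not_dvd hp).mpr hpN)
  have hsolv : Group.IsSolvable P ∨ Group.IsSolvable N := by
    left
    have : Group.IsNilpotent P := hPp.isNilpotent
    infer_instance
  -- uniqueness of P-invariant Sylow
  have huniq : ∀ (q : ℕ) [Fact q.Prime] (Q1 Q2 : Sylow q ↥N),
      P ≤ Subgroup.normalizer ((Q1 : Subgroup ↥N).map N.subtype : Set G) →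
      P ≤ Subgroup.normalizer ((Q2 : Subgroup ↥N).map N.subtype : Set G) → Q1 = Q2 := by
    intro q _ Q1 Q2 h1 h2
    obtain ⟨c, hcA, hc⟩ := invariant_sylow_conj P N hPN hcop hsolv q Q1 Q2 h1 h2
    have hcP : (c : G) ∈ P := by
      apply step1
      · exact Subgroup.centralizer_le_normalizer _ hcA
      · exact Subgroup.mem_sup_left c.2
    have hc1 : (c : G) ∈ M ⊓ N := ⟨hPM hcP, c.2⟩
    rw [hMN, Subgroup.mem_bot] at hc1
    have : c = 1 := Subtype.ext hc1
    rw [this, map_one, one_smul] at hc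
    exact hc
  -- existence of M-invariant
  have hex : ∀ (q : ℕ) [Fact q.Prime], ∃ Q : Sylow q ↥N,
      M ≤ Subgroup.normalizer ((Q : Subgroup ↥N).map N.subtype : Set G) := by
    intro q _
    obtain ⟨Q0, hQ0⟩ := exists_invariant_sylow P N hPN hcop hsolv q
    refine ⟨Q0, ?_⟩
    intro m hm
    have hmN : m ∈ Subgroup.normalizer (N : Set G) := by
      rw [Subgroup.normalizer_eq_top]; trivial
    obtain ⟨Q1, hQ1⟩ := exists_sylow_map_eq_cj N q Q0 hmN
    have hQ1P : P ≤ Subgroup.normalizer ((Q1 : Subgroup ↥N).map N.subtype : Set G) := by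
      intro y hy
      rw [hQ1, ← cj_eq_self_iff_mem_normalizer, ← cj_mul]
      have h1 : y * m = m * (m⁻¹ * y * m) := by group
      rw [h1, cj_mul]
      congr 1
      rw [cj_eq_self_iff_mem_normalizer]
      apply hQ0
      have h2 := hMP (M.inv_mem hm)
      rw [Subgroup.mem_normalizer_iff] at h2
      have h3 := (h2 y).mp hy
      simpa using h3
    have h12 : Q1 = Q0 := huniq q Q1 Q0 hQ1P hQ0
    rw [h12] at hQ1
    rw [← cj_eq_self_iff_mem_normalizer]
    exact hQ1.symm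
  refine ⟨hpN, ?_, ?_⟩
  · intro q _
    obtain ⟨Q0, hQ0⟩ := hex q
    refine ⟨Q0, hQ0, ?_⟩
    intro Q hQ
    exact huniq q Q Q0 (hPM.trans hQ) (hPM.trans hQ0)
  · rintro ⟨q, r, hq, hr, hqr, hqN, hrN⟩ hco
    haveI : Fact q.Prime := ⟨hq⟩
    obtain ⟨Q, hQ⟩ := hex q
    obtain ⟨Q', hQ'⟩ : ∃ Q' : Subgroup G, Q' = (Q : Subgroup ↥N).map N.subtype := ⟨_, rfl⟩
    rw [← hQ'] at hQ
    have hQ'N : Q' ≤ N := hQ' ▸ Subgroup.map_subtype_le _
    have hQ'ne : Q' ≠ ⊥ := by
      intro h
      rw [hQ'] at h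
      exact Q.ne_bot_of_dvd_card hqN
        ((Subgroup.map_eq_bot_iff_of_injective _ N.subtype_injective).mp h)
    have hQ'q : IsPGroup q Q' := hQ' ▸ Q.isPGroup'.map N.subtype
    have hlt : M < M ⊔ Q' := by
      refine lt_of_le_of_ne le_sup_left ?_
      intro h
      have h1 : Q' ≤ M := by rw [h]; exact le_sup_right
      apply hQ'ne
      rw [← le_bot_iff, ← hMN]
      exact le_inf h1 hQ'N
    have htop := hco.2 _ hlt
    -- N ≤ Q'
    have hNQ : N ≤ Q' := by
      intro n hn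
      have h1 : n ∈ (M : Set G) * (Q' : Set G) := by
        rw [← Subgroup.coe_mul_of_left_le_normalizer_right M Q' hQ, htop]; trivial
      obtain ⟨m, hm, u, hu, rfl⟩ := h1
      have hmN : m ∈ N := by
        have := N.mul_mem hn (N.inv_mem (hQ'N hu)); simpa using this
      have h2 : m ∈ M ⊓ N := ⟨hm, hmN⟩
      rw [hMN, Subgroup.mem_bot] at h2
      subst h2; simpa using hu
    obtain ⟨k, hk⟩ := IsPGroup.iff_card.mp hQ'q
    have h1 : Nat.card N ∣ Nat.card Q' := Subgroup.card_dvd_of_le hNQ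
    have h2 : r ∣ q ^ k := hk ▸ hrN.trans h1
    have h3 : r ∣ q := hr.dvd_of_dvd_pow h2
    exact hqr ((Nat.prime_dvd_prime_iff_eq hr hq).mp h3).symm

end Cfsg.Agent.S3749
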