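import Cfsg.Statements.S3750
import Mathlib
import Cfsg.Agent.Lib.Helper20.Fitting
import Cfsg.Agent.Lib.Helper9.Fitting
import Cfsg.Agent.S3748

set_option autoImplicit false
open Cfsg

namespace Cfsg.Agent.S3750

open Cfsg.Agent.Lib.Helper20 Cfsg.Agent.S3748

/-- Call a proper subgroup M of G primitive when M = N_G(N) for every non-trivial normal subgroup N of M. Let M be a primitive subgroup of the finite group G and N a normal subgroup of G with M ∩ F*(N) ≠ 1. Then F(G) = 1 and F*(N) = F*(G) = E(G); in particular every minimal normal subgroup of G is contained in N. -/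
theorem result {G : Type*} [Group G] [Finite G] (M : Subgroup G) (hM : M ≠ ⊤) (hprim : ∀ N : Subgroup G, N ≤ M → M ≤ Subgroup.normalizer (N : Set G) → N ≠ ⊥ → Subgroup.normalizer (N : Set G) = M) (N : Subgroup G) [N.Normal] (hMF : M ⊓ (Cfsg.generalizedFittingSubgroup ↥N).map N.subtype ≠ ⊥) : Cfsg.fittingSubgroup G = ⊥ ∧ (Cfsg.generalizedFittingSubgroup ↥N).map N.subtype = Cfsg.generalizedFittingSubgroup G ∧ Cfsg.generalizedFittingSubgroup G = Cfsg.layer G ∧ ∀ K : Subgroup G, K.Normal → K ≠ ⊥ → (∀ K' : Subgroup G, K'.Normal → K' ≤ K → K' = ⊥ ∨ K' = K) → K ≤ N := by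
  have hNn : N.Normal := inferInstance
  obtain ⟨Fs, hFs⟩ : ∃ Fs : Subgroup G, Fs = (Cfsg.generalizedFittingSubgroup ↥N).map N.subtype :=
    ⟨_, rfl⟩
  rw [← hFs] at hMF ⊢
  have hFsN : Fs ≤ N := hFs ▸ Subgroup.map_subtype_le _
  have hFsn : Fs.Normal := by
    haveI := Cfsg.Agent.Lib.Helper9.generalizedFittingSubgroup_characteristic ↥N
    rw [hFs]
    infer_instance
  -- no normal subgroup of G inside M
  have hnorm : ∀ K : Subgroup G, K.Normal → K ≤ M → K = ⊥ := fun K hK hKM =>
    (Cfsg.Agent.S3748.result M hM hprim).1 K hK.isSubnormal hKM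
  -- X = M ⊓ Fs
  have hXM : M ⊓ Fs ≤ M := inf_le_left
  have hMX : M ≤ Subgroup.normalizer ((M ⊓ Fs : Subgroup G) : Set G) := by
    apply le_normalizer_of_conj_mem
    intro x hx n hn
    exact ⟨M.mul_mem (M.mul_mem hx hn.1) (M.inv_mem hx), hFsn.conj_mem n hn.2 x⟩
  have hNX := hprim _ hXM hMX hMF
  -- C = C_G(Fs) = ⊥
  have hC : Subgroup.centralizer (Fs : Set G) = ⊥ := by
    apply hnorm
    · infer_instance
    · rw [← hNX]
      exact (Subgroup.centralizer_le (show ((M ⊓ Fs : Subgroup G) : Set G) ⊆ Fs from
        fun x hx => hx.2)).trans (Subgroup.centralizer_le_normalizer _)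
  -- pieces
  have hFsdecomp : Fs = (Cfsg.layer ↥N).map N.subtype ⊔ (Cfsg.fittingSubgroup ↥N).map N.subtype := by
    rw [hFs]; unfold Cfsg.generalizedFittingSubgroup; rw [Subgroup.map_sup]
  have hEN : (Cfsg.layer ↥N).map N.subtype ≤ Cfsg.layer G :=
    map_layer_subnormal_le N hNn.isSubnormal
  have hFN : (Cfsg.fittingSubgroup ↥N).map N.subtype ≤ Cfsg.fittingSubgroup G := by
    haveI := Cfsg.Agent.Lib.Helper9.fittingSubgroup_characteristic ↥N
    apply le_fittingSubgroup' inferInstance
    have hnil : Group.IsNilpotent (Cfsg.fittingSubgroup ↥N) := fittingSubgroup_isNilpotent'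
    have e : ↥(Cfsg.fittingSubgroup ↥N) ≃* ↥((Cfsg.fittingSubgroup ↥N).map N.subtype) :=
      (Cfsg.fittingSubgroup ↥N).equivMapOfInjective N.subtype N.subtype_injective
    exact Group.nilpotent_of_mulEquiv e
  -- F(G) = ⊥
  have hFG : Cfsg.fittingSubgroup G = ⊥ := by
    by_contra hne
    have hnil : Group.IsNilpotent (Cfsg.fittingSubgroup G) := fittingSubgroup_isNilpotent'
    haveI : Nontrivial (Cfsg.fittingSubgroup G) := (Subgroup.nontrivial_iff_ne_bot _).mpr hne
    have hZ := Group.IsNilpotent.center_ne_bot (G := ↥(Cfsg.fittingSubgroup G))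
    apply hZ
    rw [Subgroup.eq_bot_iff_forall]
    intro z hz
    have hzC : (z : G) ∈ Subgroup.centralizer (Fs : Set G) := by
      have h1 : Fs ≤ Subgroup.centralizer ({(z : G)} : Set G) := by
        rw [hFsdecomp]
        apply sup_le
        · refine hEN.trans ?_
          refine (layer_le_centralizer_fitting (G := G)).trans ?_
          apply Subgroup.centralizer_le
          simp
        · intro x hx
          rw [Subgroup.mem_centralizer_singleton_iff]
          have hxF := hFN hx
          have := (Subgroup.mem_center_iff.mp hz) ⟨x, hxF⟩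
          have h2 := congrArg Subtype.val this
          simpa using h2
      rw [Subgroup.mem_centralizer_iff]
      intro x hx
      have := h1 hx
      rw [Subgroup.mem_centralizer_singleton_iff] at this
      exact this
    rw [hC, Subgroup.mem_bot] at hzC
    exact Subtype.ext hzC
  have hgen : Cfsg.generalizedFittingSubgroup G = Cfsg.layer G := by
    unfold Cfsg.generalizedFittingSubgroup; rw [hFG, sup_bot_eq]
  have hcentN : Subgroup.centralizer (N : Set G) = ⊥ := by
    rw [← le_bot_iff, ← hC]
    exact Subgroup.centralizer_le hFsN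
  refine ⟨hFG, ?_, hgen, ?_⟩
  · rw [hgen]
    apply le_antisymm
    · rw [hFsdecomp]
      apply sup_le hEN
      have h0 : (Cfsg.fittingSubgroup ↥N).map N.subtype = ⊥ := by
        rw [← le_bot_iff, ← hFG]; exact hFN
      rw [h0]; exact bot_le
    · apply sSup_le
      intro K hK
      have hKN : K ≤ N := by
        rcases component_le_or_commutes K N hK hNn.isSubnormal with h | h
        · exact h
        · exfalso
          rw [Subgroup.commutator_eq_bot_iff_le_centralizer, hcentN, le_bot_iff] at h
          have := isQuasisimple_nontrivial hK.2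
          rw [h] at this
          exact not_nontrivial _ this
      have hKc : Cfsg.IsComponent (K.subgroupOf N) := isComponent_subgroupOf hK hNn.isSubnormal hKN
      have h1 : K.subgroupOf N ≤ Cfsg.layer ↥N := le_sSup hKc
      have h2 := Subgroup.map_mono (f := N.subtype) h1
      rw [Subgroup.map_subgroupOf_eq_of_le hKN] at h2
      rw [hFsdecomp]
      exact h2.trans le_sup_left
  · intro K hKn hKne hKmin
    haveI := hKn
    rcases hKmin (K ⊓ N) inferInstance inf_le_left with h | h
    · exfalso
      have h1 : ⁅K, N⁆ = ⊥ := by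
        rw [← le_bot_iff, ← h]; exact Subgroup.commutator_le_inf K N
      rw [Subgroup.commutator_eq_bot_iff_le_centralizer, hcentN, le_bot_iff] at h1
      exact hKne h1
    · rw [← h]; exact inf_le_right

end Cfsg.Agent.S3750
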