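import Cfsg.Statements.S3760

set_option autoImplicit false
open Cfsg

namespace Cfsg.Agent.S3760

theorem mem_map_conj {G : Type*} [Group G] (K : Subgroup G) (g y : G) :
    y ∈ K.map (MulAut.conj g).toMonoidHom ↔ g⁻¹ * y * g ∈ K := by
  constructor
  · rintro ⟨k, hk, rfl⟩
    have : g⁻¹ * ((MulAut.conj g).toMonoidHom k) * g = k := by
      simp [MulAut.conj_apply, mul_assoc]
    rw [this]
    exact hk
  · intro h
    refine ⟨g⁻¹ * y * g, h, ?_⟩
    simp [MulAut.conj_apply, mul_assoc]

theorem mem_normalizer_of_map_eq {G : Type*} [Group G] (K : Subgroup G) (n : G)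
    (h : K.map (MulAut.conj n).toMonoidHom = K) : n ∈ Subgroup.normalizer (K : Set G) := by
  rw [Subgroup.mem_normalizer_iff]
  intro k
  constructor
  · intro hk
    rw [← h, mem_map_conj]
    have : n⁻¹ * (n * k * n⁻¹) * n = k := by group
    rw [this]
    exact hk
  · intro hk
    rw [← h, mem_map_conj] at hk
    have : n⁻¹ * (n * k * n⁻¹) * n = k := by group
    rw [this] at hk
    exact hk

theorem result {G : Type*} [Group G] {X : Type*} [MulAction G X] (htrans : ∀ a b : X, ∃ g : G, g • a = b) (x : X) (K : Subgroup G) (hK : K ≤ MulAction.stabilizer G x) : (∀ a b : X, (∀ k ∈ K, k • a = a) → (∀ k ∈ K, k • b = b) → ∃ g ∈ Subgroup.normalizer (K : Set G), g • a = b) ↔ ∀ g : G, K.map (MulAut.conj g).toMonoidHom ≤ MulAction.stabilizer G x → ∃ h ∈ MulAction.stabilizer G x, K.map (MulAut.conj g).toMonoidHom = K.map (MulAut.conj h).toMonoidHom := by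
  constructor
  · intro hN g hg
    -- g⁻¹ • x is fixed by K
    have hfix1 : ∀ k ∈ K, k • x = x := fun k hk => hK hk
    have hfix2 : ∀ k ∈ K, k • (g⁻¹ • x) = g⁻¹ • x := by
      intro k hk
      have h1 : g * k * g⁻¹ ∈ K.map (MulAut.conj g).toMonoidHom := by
        rw [mem_map_conj]
        have : g⁻¹ * (g * k * g⁻¹) * g = k := by group
        rw [this]; exact hk
      have h2 := hg h1
      rw [MulAction.mem_stabilizer_iff, mul_smul, mul_smul] at h2
      rw [smul_eq_iff_eq_inv_smul] at h2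
      exact h2
    obtain ⟨n, hn, hnx⟩ := hN x (g⁻¹ • x) hfix1 hfix2
    refine ⟨g * n, ?_, ?_⟩
    · rw [MulAction.mem_stabilizer_iff, mul_smul, hnx, smul_inv_smul]
    · rw [Subgroup.mem_normalizer_iff] at hn
      ext y
      rw [mem_map_conj, mem_map_conj]
      have : (g * n)⁻¹ * y * (g * n) = n⁻¹ * (g⁻¹ * y * g) * n⁻¹⁻¹ := by group
      rw [this]
      have hn' : n⁻¹ ∈ Subgroup.normalizer (K : Set G) :=
        (Subgroup.normalizer (K : Set G)).inv_mem (Subgroup.mem_normalizer_iff.mpr hn)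
      rw [Subgroup.mem_normalizer_iff] at hn'
      exact hn' (g⁻¹ * y * g)
  · intro hconj a b ha hb
    -- for a fixed point c = s • x of K, find an element of N(K) taking x to c
    have aux : ∀ c : X, (∀ k ∈ K, k • c = c) → ∃ n ∈ Subgroup.normalizer (K : Set G), n • x = c := by
      intro c hc
      obtain ⟨s, hs⟩ := htrans x c
      have hle : K.map (MulAut.conj s⁻¹).toMonoidHom ≤ MulAction.stabilizer G x := by
        intro y hy
        rw [mem_map_conj] at hy
        rw [MulAction.mem_stabilizer_iff]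
        have h1 := hc _ hy
        rw [← hs] at h1
        simp only [inv_inv, mul_smul, inv_smul_smul] at h1
        exact smul_left_cancel s h1
      obtain ⟨h, hh, heq⟩ := hconj s⁻¹ hle
      refine ⟨s * h, ?_, ?_⟩
      · apply mem_normalizer_of_map_eq
        ext y
        rw [mem_map_conj]
        have e1 : (s * h)⁻¹ * y * (s * h) = h⁻¹ * (s⁻¹ * y * s) * h := by group
        rw [e1, ← mem_map_conj, ← heq, mem_map_conj]
        have e2 : s⁻¹⁻¹ * (s⁻¹ * y * s) * s⁻¹ = y := by group
        rw [e2]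
      · rw [mul_smul, MulAction.mem_stabilizer_iff.mp hh, hs]
    obtain ⟨n₁, hn₁, h₁⟩ := aux a ha
    obtain ⟨n₂, hn₂, h₂⟩ := aux b hb
    refine ⟨n₂ * n₁⁻¹, (Subgroup.normalizer (K : Set G)).mul_mem hn₂
      ((Subgroup.normalizer (K : Set G)).inv_mem hn₁), ?_⟩
    rw [mul_smul, ← h₁, inv_smul_smul, h₂]

end Cfsg.Agent.S3760
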