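import Cfsg.Statements.S3761
import Cfsg.Agent.Lib.Helper18.CyclicSelfCent

set_option autoImplicit false
set_option linter.style.haveILetI false
open Cfsg

namespace Cfsg.Agent.S3761

open Subgroup
open Cfsg.Agent.Lib.Helper18.CyclicSelfCent
open Cfsg.Agent.Lib.Lead.CyclicMax

/-- Let G be a finite non-abelian p-group with a cyclic normal subgroup U of order p^n such that C_G(U) = U. Then either p = 2 and G is dihedral, generalized quaternion or semidihedral of order 2^(n+1); or, writing U₁ for the subgroup generated by the p-th powers of elements of U and M = C_G(U₁), the subgroup U has index p in M and the subgroup Ω₁(M) generated by the elements of M of order dividing p is elementary abelian of order p² and characteristic in G. -/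
theorem result {G : Type*} [Group G] [Finite G] {p : ℕ} [Fact p.Prime] (hG : IsPGroup p G) (hna : ¬ IsMulCommutative G) (U : Subgroup G) [U.Normal] (hU : IsCyclic U) (n : ℕ) (hUn : Nat.card U = p ^ n) (hC : Subgroup.centralizer (U : Set G) = U) : (p = 2 ∧ Nat.card G = 2 ^ (n + 1) ∧ ((∃ m : ℕ, Nonempty (G ≃* DihedralGroup m)) ∨ (∃ m : ℕ, Nonempty (G ≃* QuaternionGroup m)) ∨ Cfsg.IsQuasiDihedral G)) ∨ (U.relIndex (Subgroup.centralizer (Cfsg.powerClosure p 1 U : Set G)) = p ∧ Cfsg.IsElementaryAbelian p (Cfsg.omegaOne p (Subgroup.centralizer (Cfsg.powerClosure p 1 U : Set G))) ∧ Nat.card ↥(Cfsg.omegaOne p (Subgroup.centralizer (Cfsg.powerClosure p 1 U : Set G))) = p ^ 2 ∧ (Cfsg.omegaOne p (Subgroup.centralizer (Cfsg.powerClosure p 1 U : Set G))).Characteristic) := by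
  have hp : p.Prime := Fact.out
  obtain ⟨g, hg⟩ := hU.exists_generator
  set a : G := (g : G) with ha
  have hUa : U = zpowers a := by
    ext x
    constructor
    · intro hx
      obtain ⟨k, hk⟩ := mem_zpowers_iff.mp (hg ⟨x, hx⟩)
      rw [mem_zpowers_iff]
      refine ⟨k, ?_⟩
      have := congrArg Subtype.val hk
      simpa using this
    · intro hx
      obtain ⟨k, rfl⟩ := mem_zpowers_iff.mp hx
      exact U.zpow_mem g.2 k
  have hne : ∃ x : G, x ∉ zpowers a := by
    by_contra hall
    push Not at hall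
    apply hna
    refine ⟨⟨fun x y => ?_⟩⟩
    obtain ⟨i, rfl⟩ := mem_zpowers_iff.mp (hall x)
    obtain ⟨j, rfl⟩ := mem_zpowers_iff.mp (hall y)
    exact (((Commute.refl a).zpow_left i).zpow_right j).eq
  have S : Setup p a n := by
    refine ⟨hG, ?_, by rw [← hUa]; infer_instance, ?_, hne⟩
    · rw [← Nat.card_zpowers, ← hUa, hUn]
    · intro x hx
      rw [← hUa, ← hC, mem_centralizer_iff]
      intro y hy
      rw [SetLike.mem_coe, hUa] at hy
      obtain ⟨i, rfl⟩ := mem_zpowers_iff.mp hy
      have : Commute x a := hx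
      exact (this.zpow_right i).eq.symm
  have hMM : Subgroup.centralizer (Cfsg.powerClosure p 1 U : Set G) = MM p a := by
    rw [hUa, powerClosure_zpowers]
    rfl
  rw [hMM, hUa]
  have hn2 := S.two_le
  by_cases h22 : p = 2 ∧ n = 2
  · obtain ⟨rfl, rfl⟩ := h22
    left
    exact ⟨rfl, S.conclusion_A S.index_of_eq_two (Or.inl rfl)⟩
  by_cases hM : ∀ x : G, x * a ^ p = a ^ p * x → x ∈ zpowers a
  · left
    by_cases hp2 : p = 2
    · subst hp2
      have hn3 : 3 ≤ n := by
        by_contra hlt
        exact h22 ⟨rfl, by omega⟩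
      exact ⟨rfl, S.conclusion_A (S.index_of_M hn3 hM) (Or.inr hM)⟩
    · exfalso
      obtain ⟨g₀, hg₀⟩ := hne
      obtain ⟨k, hk, hk'⟩ := exists_pow_not_and_pow hG (fun x => x ∈ zpowers a) (one_mem _) hg₀
      set g₁ := g₀ ^ p ^ k with hg₁
      obtain ⟨r, hr⟩ := S.exists_conj g₁
      apply hk
      apply hM
      rw [S.comm_pow_iff hr]
      have h1 := pow_conj_of_conj hr p
      have h2 := (S.mem_iff h1).mp hk'
      have hodd : Odd p := hp.odd_of_ne_two hp2
      have h3 := nt_odd hp hodd (by omega : 1 ≤ n) h2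
      have e : (p : ℤ) ^ n = p * p ^ (n - 1) := by
        rw [← pow_succ']; congr 1; omega
      rw [e]
      exact mul_dvd_mul_left _ h3
  · right
    push Not at hM
    obtain ⟨b, hb, hbU⟩ := hM
    have hbM : b ∈ MM p a := mem_MM.mpr hb
    have hom : Cfsg.IsElementaryAbelian p (Cfsg.omegaOne p (MM p a)) ∧
        Nat.card (Cfsg.omegaOne p (MM p a)) = p ^ 2 := by
      by_cases hp2 : p = 2
      · subst hp2
        have hn3 : 3 ≤ n := by
          by_contra hlt
          exact h22 ⟨rfl, by omega⟩
        exact S.omega_two hn3 hbM hbU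
      · exact S.omega_odd hp2 hbM hbU
    exact ⟨S.relIndex_MM hbM hbU, hom.1, hom.2, S.omega_characteristic hom.1.2⟩

end Cfsg.Agent.S3761
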