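import Mathlib
import Cfsg.Statements.S3763
import Cfsg.Agent.S0095
import Cfsg.Agent.Lib.Helper18.ESRank
import Cfsg.Agent.Lib.Helper18.ESTwoIso

set_option autoImplicit false
open Cfsg

namespace Cfsg.Agent.S3763

open Cfsg.Agent.Lib.Helper18.ES

/-- Let E be an extraspecial 2-group of order 2^(2n+1). Then the largest elementary abelian subgroups of E have order 2^n or 2^(n+1); and two extraspecial 2-groups of the same order whose largest elementary abelian subgroups have the same order are isomorphic. -/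
theorem result {E : Type*} [Group E] [Finite E] (hE : Cfsg.IsExtraspecial 2 E) (n : ℕ) (hn : Nat.card E = 2 ^ (2 * n + 1)) : ((Cfsg.PRankLE 2 n E ∧ ¬ Cfsg.PRankLE 2 (n - 1) E) ∨ (Cfsg.PRankLE 2 (n + 1) E ∧ ¬ Cfsg.PRankLE 2 n E)) ∧ ∀ (E' : Type*) [Group E'] [Finite E'], Cfsg.IsExtraspecial 2 E' → Nat.card E' = Nat.card E → (∀ k : ℕ, Cfsg.PRankLE 2 k E ↔ Cfsg.PRankLE 2 k E') → Nonempty (E ≃* E') := by
  have h := isES_of_isExtraspecial hE
  have hn1 : 1 ≤ n := by
    obtain ⟨m, hm1, hm⟩ := Cfsg.Agent.S0095.result hE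
    rw [hn] at hm
    have : 2 * n + 1 = 2 * m + 1 := Nat.pow_right_injective (le_refl 2) hm
    omega
  constructor
  · rcases nsq_cases n E h hn with h1 | h1
    · exact Or.inr (pRank_of_plus h hn h1)
    · exact Or.inl (pRank_of_minus h hn1 hn h1)
  · intro E' _ _ hE' hc hR
    have h' := isES_of_isExtraspecial hE'
    have hn' : Nat.card E' = 2 ^ (2 * n + 1) := hc.trans hn
    have hiff := hR n
    rw [pRankLE_iff_minus h hn1 hn, pRankLE_iff_minus h' hn1 hn'] at hiff
    have hpos : 0 < 2 ^ n := by positivity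
    have hN : nsq E = nsq E' := by
      rcases nsq_cases n E h hn with h1 | h1 <;> rcases nsq_cases n E' h' hn' with h2 | h2
      · omega
      · have := hiff.mpr h2; omega
      · have := hiff.mp h1; omega
      · omega
    exact nonempty_equiv_of_nsq n E E' h h' hn hn' hN

end Cfsg.Agent.S3763
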