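import Cfsg.Statements.S3764
import Cfsg.Agent.Lib.Helper23.XSg

set_option autoImplicit false
open Cfsg

namespace Cfsg.Agent.S3764

/-- Let p, q, r be distinct primes and let X, Q, V be subgroups of a finite group with X of order r, Q an extraspecial q-group normalized by X with C_Q(X) = Z(Q), and V an elementary abelian p-group normalized by X and Q on which XQ acts faithfully ((X ⊔ Q) ∩ C(V) = 1). If C_V(X) = 1, then q = 2, r = 2^n + 1 for some n, and Q has order 2^(2n+1). -/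
theorem result {G : Type*} [Group G] [Finite G] {p q r : ℕ} (hp : p.Prime) (hq : q.Prime) (hr : r.Prime) (hpq : p ≠ q) (hpr : p ≠ r) (hqr : q ≠ r) (X Q V : Subgroup G) (hX : Nat.card X = r) (hQ : Cfsg.IsExtraspecial q ↥Q) (hXQ : X ≤ Subgroup.normalizer (Q : Set G)) (hCQ : Q ⊓ Subgroup.centralizer (X : Set G) = (Subgroup.center ↥Q).map Q.subtype) (hV : Cfsg.IsElementaryAbelian p V) (hXV : X ≤ Subgroup.normalizer (V : Set G)) (hQV : Q ≤ Subgroup.normalizer (V : Set G)) (hfaith : (X ⊔ Q) ⊓ Subgroup.centralizer (V : Set G) = ⊥) (hCV : V ⊓ Subgroup.centralizer (X : Set G) = ⊥) : q = 2 ∧ ∃ n : ℕ, r = 2 ^ n + 1 ∧ Nat.card Q = 2 ^ (2 * n + 1) := by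
  haveI : Fact q.Prime := ⟨hq⟩
  have h0 := Cfsg.Agent.Lib.Helper23.XSg.extraspecial_case hp hq hr hpq hpr hqr X Q V hX hQ hXQ hCQ hV
    hXV hQV hfaith hCV
  obtain ⟨⟨hQp, -, hcomm⟩, hZcard⟩ := hQ
  obtain ⟨m, hm⟩ := IsPGroup.iff_card.1 hQp
  have h1 : (r - 1) ∣ q ^ m := by
    rw [← hm, h0]
    exact Dvd.dvd.mul_right (dvd_pow_self _ two_ne_zero) _
  obtain ⟨n, hnm, hn⟩ := (Nat.dvd_prime_pow hq).1 h1
  have hr1 : r = q ^ n + 1 := by have := hr.one_lt; omega
  have hcard : Nat.card Q = q ^ (2 * n + 1) := by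
    rw [h0, hn]; ring
  have hn0 : n ≠ 0 := by
    rintro rfl
    have h2 : Nat.card Q = q := by rw [hcard]; simp
    have h3 : Subgroup.center ↥Q = ⊤ := by
      apply Subgroup.eq_top_of_card_eq
      rw [hZcard, h2]
    have h4 : commutator ↥Q = ⊥ := (commutator_eq_bot_iff_center_eq_top _).2 h3
    rw [hcomm] at h4
    rw [h4, Subgroup.card_bot] at hZcard
    exact hq.one_lt.ne hZcard
  have hq2 : q = 2 := by
    rcases hq.eq_two_or_odd with h | h
    · exact h
    · exfalso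
      have h5 : (q ^ n) % 2 = 1 := by rw [Nat.pow_mod, h]; simp
      have h7 : r = 2 := by
        rcases hr.eq_two_or_odd with h' | h'
        · exact h'
        · omega
      have h9 : 1 < q ^ n := Nat.one_lt_pow hn0 hq.one_lt
      omega
  subst hq2
  exact ⟨rfl, n, hr1, hcard⟩

end Cfsg.Agent.S3764
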