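import Cfsg.Statements.S3765
import Cfsg.Agent.Lib.Helper23.XSh

set_option autoImplicit false
open Cfsg

namespace Cfsg.Agent.S3765

/-- Let p, q, r be distinct primes and let X, Q, V be subgroups of a finite group with X of order r normalizing the q-group Q and acting faithfully on it (X ∩ C(Q) = 1), and V a nontrivial elementary abelian p-group normalized by X and Q on which XQ acts faithfully. If q = 2 and r has the form 2^n + 1, assume in addition that Q is abelian. Then C_V(X) ≠ 1. -/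
theorem result {G : Type*} [Group G] [Finite G] {p q r : ℕ} (hp : p.Prime) (hq : q.Prime) (hr : r.Prime) (hpq : p ≠ q) (hpr : p ≠ r) (hqr : q ≠ r) (X Q V : Subgroup G) (hX : Nat.card X = r) (hQ : IsPGroup q Q) (hXQ : X ≤ Subgroup.normalizer (Q : Set G)) (hXfaith : X ⊓ Subgroup.centralizer (Q : Set G) = ⊥) (hV : Cfsg.IsElementaryAbelian p V) (hV1 : V ≠ ⊥) (hXV : X ≤ Subgroup.normalizer (V : Set G)) (hQV : Q ≤ Subgroup.normalizer (V : Set G)) (hfaith : (X ⊔ Q) ⊓ Subgroup.centralizer (V : Set G) = ⊥) (hexc : q = 2 → (∃ n : ℕ, r = 2 ^ n + 1) → IsMulCommutative Q) : V ⊓ Subgroup.centralizer (X : Set G) ≠ ⊥ := by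
  classical
  haveI : Fact p.Prime := ⟨hp⟩
  haveI : Fact q.Prime := ⟨hq⟩
  haveI : Fact r.Prime := ⟨hr⟩
  intro hCV
  obtain ⟨x₀, hx₀X, hx₀1, hx₀gen, hx₀r⟩ := Cfsg.Agent.Lib.Helper23.XSg.exists_gen_of_prime X r hX
  have hLV : X ⊔ Q ≤ Subgroup.normalizer (V : Set G) := sup_le hXV hQV
  have hXL : X ≤ X ⊔ Q := le_sup_left
  have hQL : Q ≤ X ⊔ Q := le_sup_right
  letI : CommGroup V :=
    { (inferInstance : Group V) with mul_comm := fun a b => hV.1.is_comm.comm a b }
  have hexp : ∀ w : V, w ^ p = 1 := fun w => Subtype.ext (by simpa using hV.2 w w.2)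
  have h := Cfsg.Agent.Lib.Helper23.XSh.prime_action_core p q r hr hpr hpq hqr hexp
    (Cfsg.Agent.Lib.Helper23.FrobF.theta (X ⊔ Q) V hLV)
    (by
      intro a ha
      have h3 : (a : G) ∈ (X ⊔ Q) ⊓ Subgroup.centralizer (V : Set G) := by
        refine Subgroup.mem_inf.2 ⟨a.2, ?_⟩
        rw [Subgroup.mem_centralizer_iff]
        intro w hw
        have h1 : (a : G) * w * (a : G)⁻¹ = w := by
          have := congrArg Subtype.val (ha ⟨w, hw⟩)
          rwa [Cfsg.Agent.Lib.Helper23.FrobF.theta_apply] at this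
        calc w * (a : G) = (a : G) * w * (a : G)⁻¹ * (a : G) := by rw [h1]
          _ = (a : G) * w := by group
      rw [hfaith, Subgroup.mem_bot] at h3
      exact Subtype.ext h3)
    (Q.subgroupOf (X ⊔ Q)) hQ.comap_subtype ⟨x₀, hXL hx₀X⟩
    (Subtype.ext (by rw [Subgroup.coe_pow]; exact hx₀r))
    (by
      intro g hg
      rw [Subgroup.mem_subgroupOf] at hg ⊢
      exact (Subgroup.mem_normalizer_iff.1 (hXQ hx₀X) (g : G)).1 hg)
    (by
      intro w hw
      have h1 : x₀ * (w : G) * x₀⁻¹ = (w : G) := by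
        have := congrArg Subtype.val hw
        rwa [Cfsg.Agent.Lib.Helper23.FrobF.theta_apply] at this
      have h2 : x₀ * (w : G) = (w : G) * x₀ := by
        calc x₀ * (w : G) = x₀ * (w : G) * x₀⁻¹ * x₀ := by group
          _ = (w : G) * x₀ := by rw [h1]
      have h3 : (w : G) ∈ V ⊓ Subgroup.centralizer (X : Set G) := by
        refine Subgroup.mem_inf.2 ⟨w.2, ?_⟩
        rw [Subgroup.mem_centralizer_iff]
        intro y hy
        rw [← hx₀gen] at hy
        exact Cfsg.Agent.Lib.Helper23.XSg.comm_zpowers x₀ (w : G) h2 y hy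
      rw [hCV, Subgroup.mem_bot] at h3
      exact Subtype.ext h3)
    (by
      intro hq2 hn g hg t ht
      have hc := hexc hq2 hn
      have := hc.is_comm.comm ⟨(g : G), Subgroup.mem_subgroupOf.1 hg⟩
        ⟨(t : G), Subgroup.mem_subgroupOf.1 ht⟩
      have h5 : (g : G) * (t : G) = (t : G) * (g : G) := congrArg Subtype.val this
      exact Subtype.ext h5)
  have h4 : x₀ ∈ X ⊓ Subgroup.centralizer (Q : Set G) := by
    refine Subgroup.mem_inf.2 ⟨hx₀X, ?_⟩
    rw [Subgroup.mem_centralizer_iff]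
    intro g hg
    have := h ⟨g, hQL hg⟩ (Subgroup.mem_subgroupOf.2 hg)
    exact (congrArg Subtype.val this).symm
  rw [hXfaith, Subgroup.mem_bot] at h4
  exact hx₀1 h4

end Cfsg.Agent.S3765
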