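import Cfsg.Statements.S3766
import Mathlib
import Cfsg.Agent.Lib.Helper20.Fitting
import Cfsg.Agent.S0583

set_option autoImplicit false
open Cfsg

namespace Cfsg.Agent.S3766

open Cfsg.Agent.Lib.Helper20
open scoped commutatorElement

variable {G : Type*} [Group G]

/-- chief factor in the sense of the statement -/
def IsChief (U V : Subgroup G) : Prop :=
  U.Normal ∧ V.Normal ∧ V < U ∧ ∀ W : Subgroup G, W.Normal → V ≤ W → W ≤ U → W = V ∨ W = U

lemma nil_map {G' : Type*} [Group G'] (f : G →* G') (S : Subgroup G)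
    (h : Group.IsNilpotent ↥S) : Group.IsNilpotent ↥(S.map f) := by
  obtain ⟨m, hm⟩ := (Subgroup.isNilpotent_iff_lowerCentralSeries S).mp h
  exact (Subgroup.isNilpotent_iff_lowerCentralSeries _).mpr
    ⟨m, by rw [← Subgroup.map_lowerCentralSeries, hm, Subgroup.map_bot]⟩

/-- the Fitting subgroup of `N` as a subgroup of `G` -/
abbrev FN (N : Subgroup G) : Subgroup G := (fittingSubgroup ↥N).map N.subtype

lemma FN_le (N : Subgroup G) : FN N ≤ N := Subgroup.map_subtype_le _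

lemma FN_normal (N : Subgroup G) [N.Normal] : (FN N).Normal := by
  haveI : (fittingSubgroup ↥N).Characteristic := fittingSubgroup_characteristic
  exact ConjAct.normal_of_characteristic_of_normal

lemma FN_nil [Finite G] (N : Subgroup G) : Group.IsNilpotent ↥(FN N) :=
  nil_map _ _ fittingSubgroup_isNilpotent'

lemma le_FN (N : Subgroup G) (E : Subgroup G) (hEn : E.Normal) (hEN : E ≤ N)
    (hnil : Group.IsNilpotent ↥E) : E ≤ FN N := by
  have h1 : (E.subgroupOf N).Normal := hEn.subgroupOf N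
  have h2 : Group.IsNilpotent ↥(E.subgroupOf N) := by
    haveI := hnil
    exact Group.nilpotent_of_mulEquiv (Subgroup.subgroupOfEquivOfLe hEN).symm
  have h3 := le_fittingSubgroup' h1 h2
  intro x hx
  exact ⟨⟨x, hEN hx⟩, h3 (Subgroup.mem_subgroupOf.mpr hx), rfl⟩

lemma partA [Finite G] (N : Subgroup G) [N.Normal] (g : G) (hg : g ∈ FN N) (U V : Subgroup G)
    (hUV : IsChief U V) : ∀ u ∈ U, u * g * u⁻¹ * g⁻¹ ∈ V := by
  obtain ⟨hUn, hVn, hVU, hmin⟩ := hUV
  haveI := hVn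
  have hUbarn : (U.map (QuotientGroup.mk' V)).Normal := hUn.map _ (QuotientGroup.mk'_surjective V)
  have hUbarne : U.map (QuotientGroup.mk' V) ≠ ⊥ := by
    obtain ⟨u, huU, huV⟩ := SetLike.exists_of_lt hVU
    intro h
    have h1 : (QuotientGroup.mk' V) u ∈ U.map (QuotientGroup.mk' V) := ⟨u, huU, rfl⟩
    rw [h, Subgroup.mem_bot] at h1
    exact huV ((QuotientGroup.eq_one_iff u).mp h1)
  have hUbarmin : ∀ K : Subgroup (G ⧸ V), K.Normal → K ≤ U.map (QuotientGroup.mk' V) →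
      K = ⊥ ∨ K = U.map (QuotientGroup.mk' V) := by
    intro K hKn hKU
    have hcn : (K.comap (QuotientGroup.mk' V)).Normal := hKn.comap _
    have hVK : V ≤ K.comap (QuotientGroup.mk' V) := by
      intro v hv
      rw [Subgroup.mem_comap]
      have h1 : (QuotientGroup.mk' V) v = 1 := (QuotientGroup.eq_one_iff v).mpr hv
      rw [h1]; exact K.one_mem
    have hKU' : K.comap (QuotientGroup.mk' V) ≤ U := by
      intro x hx
      obtain ⟨u, huU, hux⟩ := hKU (Subgroup.mem_comap.mp hx)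
      have h1 : u⁻¹ * x ∈ V := QuotientGroup.eq.mp hux
      have h2 := U.mul_mem huU (hVU.le h1)
      simpa using h2
    rcases hmin _ hcn hVK hKU' with h | h
    · left
      rw [← Subgroup.map_comap_eq_self_of_surjective (QuotientGroup.mk'_surjective V) K, h]
      exact QuotientGroup.map_mk'_self V
    · right
      rw [← Subgroup.map_comap_eq_self_of_surjective (QuotientGroup.mk'_surjective V) K, h]
  have hFbar : (FN N).map (QuotientGroup.mk' V) ≤ fittingSubgroup (G ⧸ V) := by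
    apply le_fittingSubgroup' ((FN_normal N).map _ (QuotientGroup.mk'_surjective V))
    exact nil_map _ _ (FN_nil N)
  have hcent := Cfsg.Agent.S0583.result (U.map (QuotientGroup.mk' V)) hUbarne hUbarmin
  intro u hu
  have h1 : (QuotientGroup.mk' V) g ∈ Subgroup.centralizer
      ((U.map (QuotientGroup.mk' V) : Subgroup (G ⧸ V)) : Set (G ⧸ V)) :=
    hcent (hFbar ⟨g, hg, rfl⟩)
  have h2 := Subgroup.mem_centralizer_iff.mp h1 ((QuotientGroup.mk' V) u) ⟨u, hu, rfl⟩
  apply (QuotientGroup.eq_one_iff _).mp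
  have h3 : ((u * g * u⁻¹ * g⁻¹ : G) : G ⧸ V) =
      (QuotientGroup.mk' V) u * (QuotientGroup.mk' V) g * ((QuotientGroup.mk' V) u)⁻¹ *
        ((QuotientGroup.mk' V) g)⁻¹ := by
    simp
  rw [h3, h2]
  group

/-- centralizer of the factor `U/V` -/
def centFactor (U V : Subgroup G) (hV : V.Normal) : Subgroup G where
  carrier := {x | ∀ u ∈ U, u * x * u⁻¹ * x⁻¹ ∈ V}
  one_mem' := by
    intro u _
    simp
  mul_mem' := by
    intro x y hx hy u hu
    have h1 := hx u hu
    have h2 := hV.conj_mem _ (hy u hu) x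
    have h3 : u * (x * y) * u⁻¹ * (x * y)⁻¹ =
        (u * x * u⁻¹ * x⁻¹) * (x * (u * y * u⁻¹ * y⁻¹) * x⁻¹) := by group
    rw [h3]; exact V.mul_mem h1 h2
  inv_mem' := by
    intro x hx u hu
    have h1 := V.inv_mem (hx u hu)
    have h2 := hV.conj_mem _ h1 x⁻¹
    have h3 : u * x⁻¹ * u⁻¹ * x⁻¹⁻¹ = x⁻¹ * (u * x * u⁻¹ * x⁻¹)⁻¹ * x⁻¹⁻¹ := by group
    rw [h3]; exact h2

lemma mem_centFactor {U V : Subgroup G} {hV : V.Normal} {x : G} :
    x ∈ centFactor U V hV ↔ ∀ u ∈ U, u * x * u⁻¹ * x⁻¹ ∈ V := Iff.rfl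

lemma centFactor_normal (U V : Subgroup G) (hU : U.Normal) (hV : V.Normal) :
    (centFactor U V hV).Normal := by
  refine ⟨fun x hx h => ?_⟩
  rw [mem_centFactor] at hx ⊢
  intro u hu
  have h1 := hx (h⁻¹ * u * h⁻¹⁻¹) (hU.conj_mem u hu h⁻¹)
  have h2 := hV.conj_mem _ h1 h
  have h3 : u * (h * x * h⁻¹) * u⁻¹ * (h * x * h⁻¹)⁻¹ =
      h * (h⁻¹ * u * h⁻¹⁻¹ * x * (h⁻¹ * u * h⁻¹⁻¹)⁻¹ * x⁻¹) * h⁻¹ := by group
  rw [h3]; exact h2

/-- iterated commutator with `E` -/
def cc (E : Subgroup G) : ℕ → Subgroup G → Subgroup G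
  | 0, W => W
  | k + 1, W => cc E k ⁅W, E⁆

lemma cc_mono (E : Subgroup G) (k : ℕ) {W W' : Subgroup G} (h : W ≤ W') :
    cc E k W ≤ cc E k W' := by
  induction k generalizing W W' with
  | zero => exact h
  | succ k ih => exact ih (Subgroup.commutator_mono h le_rfl)

lemma lcs_add (E : Subgroup G) (j k : ℕ) :
    E.lowerCentralSeries (j + k) = cc E k (E.lowerCentralSeries j) := by
  induction k generalizing j with
  | zero => rfl
  | succ k ih =>
    show E.lowerCentralSeries (j + (k + 1)) = cc E k ⁅E.lowerCentralSeries j, E⁆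
    rw [← Subgroup.lowerCentralSeries_succ, ← ih (j + 1)]
    congr 1; omega

lemma card_lt_of_lt' [Finite G] {V W : Subgroup G} (h : V < W) : Nat.card V < Nat.card W :=
  lt_of_le_of_ne (Subgroup.card_le_of_le h.le)
    (fun h' => h.ne (Subgroup.eq_of_le_of_card_ge h.le h'.ge))

lemma cc_eq_bot [Finite G] (E F : Subgroup G)
    (hcent : ∀ U V : Subgroup G, IsChief U V → U ≤ F → ∀ u ∈ U, ∀ e ∈ E, u * e * u⁻¹ * e⁻¹ ∈ V) :
    ∀ (n : ℕ) (W : Subgroup G), Nat.card W = n → W.Normal → W ≤ F → ∃ k, cc E k W = ⊥ := by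
  intro n
  induction n using Nat.strong_induction_on with
  | _ n ih =>
    intro W hn hWn hWF
    by_cases hW : W = ⊥
    · exact ⟨0, hW⟩
    · obtain ⟨V, -, hVmax⟩ := Finite.exists_le_maximal
        (p := fun V : Subgroup G => V.Normal ∧ V < W) (a := ⊥)
        ⟨inferInstance, bot_lt_iff_ne_bot.mpr hW⟩
      obtain ⟨⟨hVn, hVW⟩, hVm⟩ := hVmax
      have hchief : IsChief W V := by
        refine ⟨hWn, hVn, hVW, fun X hXn hVX hXW => ?_⟩
        rcases eq_or_lt_of_le hXW with h | h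
        · exact Or.inr h
        · exact Or.inl (le_antisymm (hVm ⟨hXn, h⟩ hVX) hVX)
      have hWE : ⁅W, E⁆ ≤ V := by
        rw [Subgroup.commutator_le]
        intro w hw e he
        rw [commutatorElement_def]
        exact hcent W V hchief hWF w hw e he
      have hcard : Nat.card V < n := by rw [← hn]; exact card_lt_of_lt' hVW
      obtain ⟨k, hk⟩ := ih _ hcard V rfl hVn (hVW.le.trans hWF)
      exact ⟨k + 1, le_bot_iff.mp (hk ▸ cc_mono E k hWE)⟩

lemma comm_sup_le (A F : Subgroup G) [hF : F.Normal] : ⁅A ⊔ F, A ⊔ F⁆ ≤ ⁅A, A⁆ ⊔ F := by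
  have h1 : (A ⊔ F).map (QuotientGroup.mk' F) = A.map (QuotientGroup.mk' F) := by
    rw [Subgroup.map_sup, QuotientGroup.map_mk'_self, sup_bot_eq]
  calc ⁅A ⊔ F, A ⊔ F⁆
      ≤ (⁅A ⊔ F, A ⊔ F⁆.map (QuotientGroup.mk' F)).comap (QuotientGroup.mk' F) :=
        Subgroup.le_comap_map _ _
    _ = ((⁅A, A⁆).map (QuotientGroup.mk' F)).comap (QuotientGroup.mk' F) := by
        rw [Subgroup.map_commutator, h1, ← Subgroup.map_commutator]
    _ = ⁅A, A⁆ ⊔ F := by rw [Subgroup.comap_map_eq, QuotientGroup.ker_mk']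

/-- derived series of a subgroup -/
def ds (D : Subgroup G) : ℕ → Subgroup G
  | 0 => D
  | k + 1 => ⁅ds D k, ds D k⁆

lemma ds_le (D : Subgroup G) (k : ℕ) : ds D k ≤ derivedSeries G k := by
  induction k with
  | zero => exact le_top
  | succ k ih => exact Subgroup.commutator_mono ih ih

lemma comm_le_of_minimal (hG : Group.IsSolvable G) (F D : Subgroup G) [hF : F.Normal]
    (hDn : D.Normal) (hFD : F < D)
    (hmin : ∀ X : Subgroup G, X.Normal → F < X → X ≤ D → D ≤ X) : ⁅D, D⁆ ≤ F := by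
  by_contra h
  have hX : F < ⁅D, D⁆ ⊔ F := by
    apply lt_of_le_of_ne le_sup_right
    intro heq
    apply h
    rw [heq]; exact le_sup_left
  have hXn : (⁅D, D⁆ ⊔ F).Normal := by haveI := hDn; infer_instance
  have hXD : ⁅D, D⁆ ⊔ F ≤ D := by
    haveI := hDn
    exact sup_le (Subgroup.commutator_le_left D D) hFD.le
  have hD1 : D ≤ ⁅D, D⁆ ⊔ F := hmin _ hXn hX hXD
  have key : ∀ k, D ≤ ds D k ⊔ F := by
    intro k
    induction k with
    | zero => exact le_sup_left
    | succ k ih =>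
      calc D ≤ ⁅D, D⁆ ⊔ F := hD1
        _ ≤ ⁅ds D k ⊔ F, ds D k ⊔ F⁆ ⊔ F := sup_le_sup_right (Subgroup.commutator_mono ih ih) F
        _ ≤ (⁅ds D k, ds D k⁆ ⊔ F) ⊔ F := sup_le_sup_right (comm_sup_le _ F) F
        _ = ds D (k + 1) ⊔ F := by rw [sup_assoc, sup_idem]; rfl
  obtain ⟨n, hn⟩ := hG.solvable
  have h1 := key n
  have h2 : ds D n = ⊥ := le_bot_iff.mp (hn ▸ ds_le D n)
  rw [h2, bot_sup_eq] at h1
  exact absurd (lt_of_lt_of_le hFD h1) (lt_irrefl _)

lemma partB [Finite G] (hG : Group.IsSolvable G) (N : Subgroup G) [N.Normal] (g : G) (hgN : g ∈ N)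
    (hcent : ∀ U V : Subgroup G, IsChief U V → U ≤ FN N → ∀ u ∈ U, u * g * u⁻¹ * g⁻¹ ∈ V) :
    g ∈ FN N := by
  haveI hFn : (FN N).Normal := FN_normal N
  haveI hCn : (Subgroup.normalClosure ({g} : Set G)).Normal := Subgroup.normalClosure_normal
  have hCN : Subgroup.normalClosure ({g} : Set G) ≤ N :=
    Subgroup.normalClosure_le_normal (by simpa using hgN)
  have hCcent : ∀ U V : Subgroup G, IsChief U V → U ≤ FN N → ∀ u ∈ U,
      ∀ c ∈ Subgroup.normalClosure ({g} : Set G), u * c * u⁻¹ * c⁻¹ ∈ V := by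
    intro U V hUV hUF u hu c hc
    have hle : Subgroup.normalClosure ({g} : Set G) ≤ centFactor U V hUV.2.1 := by
      haveI := centFactor_normal U V hUV.1 hUV.2.1
      apply Subgroup.normalClosure_le_normal
      rintro _ rfl
      exact hcent U V hUV hUF
    exact hle hc u hu
  by_contra hgF
  have hCF : ¬ Subgroup.normalClosure ({g} : Set G) ≤ FN N :=
    fun h => hgF (h (Subgroup.subset_normalClosure rfl))
  have hp0 : (Subgroup.normalClosure ({g} : Set G) ⊔ FN N).Normal ∧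
      FN N < Subgroup.normalClosure ({g} : Set G) ⊔ FN N ∧
      Subgroup.normalClosure ({g} : Set G) ⊔ FN N ≤ Subgroup.normalClosure ({g} : Set G) ⊔ FN N :=
    ⟨inferInstance, lt_of_le_of_ne le_sup_right (fun h => hCF (h ▸ le_sup_left)), le_rfl⟩
  obtain ⟨D, -, hDmin⟩ := Finite.exists_le_minimal
    (p := fun D : Subgroup G => D.Normal ∧ FN N < D ∧
      D ≤ Subgroup.normalClosure ({g} : Set G) ⊔ FN N) hp0
  obtain ⟨⟨hDn, hFD, hDC⟩, hDm⟩ := hDmin
  have hDD : ⁅D, D⁆ ≤ FN N := comm_le_of_minimal hG (FN N) D hDn hFD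
    (fun X hXn hFX hXD => hDm ⟨hXn, hFX, hXD.trans hDC⟩ hXD)
  haveI := hDn
  have hEn : (D ⊓ Subgroup.normalClosure ({g} : Set G)).Normal := inferInstance
  have hEN : D ⊓ Subgroup.normalClosure ({g} : Set G) ≤ N := inf_le_right.trans hCN
  have hDE : D ≤ FN N ⊔ (D ⊓ Subgroup.normalClosure ({g} : Set G)) := by
    intro d hd
    obtain ⟨c, hc, f, hf, rfl⟩ := Subgroup.mem_sup_of_normal_right.mp (hDC hd)
    have hcD : c ∈ D := by
      have h1 := D.mul_mem hd (D.inv_mem (hFD.le hf))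
      simpa using h1
    have h2 : c * f ∈ (D ⊓ Subgroup.normalClosure ({g} : Set G)) ⊔ FN N :=
      Subgroup.mul_mem_sup ⟨hcD, hc⟩ hf
    rwa [sup_comm] at h2
  have hEnil : Group.IsNilpotent ↥(D ⊓ Subgroup.normalClosure ({g} : Set G)) := by
    obtain ⟨k, hk⟩ := cc_eq_bot (D ⊓ Subgroup.normalClosure ({g} : Set G)) (FN N)
      (fun U V hUV hUF u hu e he => hCcent U V hUV hUF u hu e he.2) _ (FN N) rfl hFn le_rfl
    refine (Subgroup.isNilpotent_iff_lowerCentralSeries _).mpr ⟨1 + k, ?_⟩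
    rw [lcs_add]
    apply le_bot_iff.mp
    rw [← hk]
    apply cc_mono
    show ⁅D ⊓ Subgroup.normalClosure ({g} : Set G), D ⊓ Subgroup.normalClosure ({g} : Set G)⁆ ≤ FN N
    exact (Subgroup.commutator_mono inf_le_left inf_le_left).trans hDD
  have hEF : D ⊓ Subgroup.normalClosure ({g} : Set G) ≤ FN N := le_FN N _ hEn hEN hEnil
  have h5 : D ≤ FN N := hDE.trans (sup_le le_rfl hEF)
  exact absurd (lt_of_lt_of_le hFD h5) (lt_irrefl _)

/-- Let G be a finite solvable group and N a normal subgroup of G. Call a pair V < U of normal subgroups of G a chief factor of G when no normal subgroup of G lies strictly between them; an element g centralizes the chief factor U/V when u g u⁻¹ g⁻¹ ∈ V for all u ∈ U. Then an element of G lies in the Fitting subgroup F(N) if and only if it lies in N and centralizes every chief factor of G; and also if and only if it lies in N and centralizes every chief factor U/V of G with U ≤ F(N). -/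
theorem result {G : Type*} [Group G] [Finite G] (hG : Group.IsSolvable G) (N : Subgroup G) [N.Normal] (g : G) : (g ∈ (Cfsg.fittingSubgroup ↥N).map N.subtype ↔ g ∈ N ∧ ∀ U V : Subgroup G, (U.Normal ∧ V.Normal ∧ V < U ∧ ∀ W : Subgroup G, W.Normal → V ≤ W → W ≤ U → W = V ∨ W = U) → ∀ u ∈ U, u * g * u⁻¹ * g⁻¹ ∈ V) ∧ (g ∈ (Cfsg.fittingSubgroup ↥N).map N.subtype ↔ g ∈ N ∧ ∀ U V : Subgroup G, (U.Normal ∧ V.Normal ∧ V < U ∧ ∀ W : Subgroup G, W.Normal → V ≤ W → W ≤ U → W = V ∨ W = U) → U ≤ (Cfsg.fittingSubgroup ↥N).map N.subtype → ∀ u ∈ U, u * g * u⁻¹ * g⁻¹ ∈ V) := by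
  have hA : g ∈ FN N → g ∈ N ∧ ∀ U V : Subgroup G, IsChief U V → ∀ u ∈ U, u * g * u⁻¹ * g⁻¹ ∈ V :=
    fun hg => ⟨FN_le N hg, fun U V hUV => partA N g hg U V hUV⟩
  have hB := partB hG N g
  constructor
  · constructor
    · exact hA
    · rintro ⟨hgN, h⟩
      exact hB hgN (fun U V hUV _ => h U V hUV)
  · constructor
    · intro hg
      obtain ⟨h1, h2⟩ := hA hg
      exact ⟨h1, fun U V hUV _ => h2 U V hUV⟩
    · rintro ⟨hgN, h⟩
      exact hB hgN h

end Cfsg.Agent.S3766
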