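import Cfsg.Statements.S3768
import Cfsg.Agent.S0035
import Cfsg.Agent.S0034
import Cfsg.Agent.Lib.Helper26.CommSurj

set_option autoImplicit false
open Cfsg

namespace Cfsg.Agent.S3768
open Cfsg.Agent.Lib.Helper26
open scoped Pointwise

/-- Let G be a finite Frobenius group with Frobenius complement R and Frobenius kernel K (the identity together with the elements in no conjugate of R), and let N be a normal subgroup of G not containing K. Then G/N is a Frobenius group with Frobenius complement RN/N whose Frobenius kernel is the image of K. -/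
theorem result {G : Type*} [Group G] [Finite G] (R : Subgroup G) (hR : Cfsg.IsFrobeniusComplement R) (N : Subgroup G) [N.Normal] (hKN : ¬ Cfsg.frobeniusKernel R ⊆ N) : Cfsg.IsFrobeniusComplement (R.map (QuotientGroup.mk' N)) ∧ Cfsg.frobeniusKernel (R.map (QuotientGroup.mk' N)) = QuotientGroup.mk' N '' Cfsg.frobeniusKernel R := by
  classical
  obtain ⟨K, hKset, hKn, hcompl⟩ := Cfsg.Agent.S0035.result R hR
  haveI := hKn
  have hNn : N.Normal := inferInstance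
  have hdisj : K ⊓ R = ⊥ := hcompl.disjoint.eq_bot
  have hsup : K ⊔ R = ⊤ := hcompl.sup_eq_top
  have hKR1 : ∀ x, x ∈ K → x ∈ R → x = 1 := by
    intro x hxK hxR
    have : x ∈ K ⊓ R := ⟨hxK, hxR⟩
    rw [hdisj] at this
    exact Subgroup.mem_bot.mp this
  have hKmem : ∀ x, x ∈ K ↔ x ∈ frobeniusKernel R := by
    intro x; rw [← hKset]; rfl
  have hfpf : ∀ r ∈ R, r ≠ 1 → ∀ k ∈ K, r * k = k * r → k = 1 := by
    intro r hr hr1 k hk hcomm
    apply hKR1 k hk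
    by_contra hkR
    have h1 := hR.2.2 k hkR
    have h2 : r ∈ R ⊓ MulAut.conj k • R := by
      refine Subgroup.mem_inf.mpr ⟨hr, ?_⟩
      rw [Cfsg.Agent.S0034.mem_conj_smul]
      have : k⁻¹ * r * k = r := by
        rw [mul_assoc, hcomm, ← mul_assoc, inv_mul_cancel, one_mul]
      rw [this]; exact hr
    rw [h1] at h2
    exact hr1 (Subgroup.mem_bot.mp h2)
  have hNK : N ≤ K := by
    intro n hn
    by_contra hnK
    rw [hKmem, Cfsg.Agent.S0034.not_mem_kernel_iff] at hnK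
    obtain ⟨hn1, x, hx⟩ := hnK
    apply hKN
    intro k hk
    rw [← hKmem] at hk
    show k ∈ N
    have hrN : x⁻¹ * n * x ∈ N := by
      have := hNn.conj_mem n hn x⁻¹
      simpa using this
    have hr1 : x⁻¹ * n * x ≠ 1 := by
      intro h
      apply hn1
      have : n = x * (x⁻¹ * n * x) * x⁻¹ := by group
      rw [this, h]; group
    obtain ⟨y, hy, hyk⟩ := comm_surj K (x⁻¹ * n * x)
      (fun y hy hc => hfpf _ hx hr1 y hy hc) k hk
    rw [← hyk]
    have h1 : y * (x⁻¹ * n * x) * y⁻¹ ∈ N := hNn.conj_mem _ hrN y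
    exact N.mul_mem h1 (N.inv_mem hrN)
  have hkey : ∀ r ∈ R, r ≠ 1 → ∀ k ∈ K, k * r * k⁻¹ * r⁻¹ ∈ N → k ∈ N := by
    intro r hr hr1 k hk hmem
    obtain ⟨y, hy, hyk⟩ := comm_surj N r (fun y hy hc => hfpf r hr hr1 y (hNK hy) hc) _ hmem
    have h2 : y * r * y⁻¹ = k * r * k⁻¹ := mul_right_cancel hyk
    have h3 : r * (k⁻¹ * y) = (k⁻¹ * y) * r := by
      calc r * (k⁻¹ * y) = k⁻¹ * (k * r * k⁻¹) * y := by group
        _ = k⁻¹ * (y * r * y⁻¹) * y := by rw [h2]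
        _ = (k⁻¹ * y) * r := by group
    have h4 := hfpf r hr hr1 _ (K.mul_mem (K.inv_mem hk) (hNK hy)) h3
    have : k = y := inv_mul_eq_one.mp h4
    rw [this]; exact hy
  refine ⟨⟨?_, ?_, ?_⟩, ?_⟩
  · -- R̄ ≠ ⊥
    intro hbot
    obtain ⟨r, hr1⟩ := (Subgroup.ne_bot_iff_exists_ne_one).mp hR.1
    apply hr1
    have h1 : (QuotientGroup.mk' N) (r : G) ∈ R.map (QuotientGroup.mk' N) :=
      Subgroup.mem_map.mpr ⟨r, r.2, rfl⟩
    rw [hbot, Subgroup.mem_bot, QuotientGroup.mk'_apply, QuotientGroup.eq_one_iff] at h1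
    exact Subtype.ext (hKR1 _ (hNK h1) r.2)
  · -- R̄ ≠ ⊤
    intro htop
    obtain ⟨k, hk, hkN⟩ := Set.not_subset.mp hKN
    rw [← hKmem] at hk
    apply hkN
    show k ∈ N
    have h1 : (QuotientGroup.mk' N) k ∈ R.map (QuotientGroup.mk' N) := by
      rw [htop]; trivial
    obtain ⟨r, hr, hreq⟩ := Subgroup.mem_map.mp h1
    rw [QuotientGroup.mk'_apply, QuotientGroup.mk'_apply, QuotientGroup.eq] at hreq
    have hrK : r ∈ K := by
      have : r = k * (r⁻¹ * k)⁻¹ := by group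
      rw [this]
      exact K.mul_mem hk (K.inv_mem (hNK hreq))
    have hr1 : r = 1 := hKR1 r hrK hr
    rw [hr1] at hreq
    simpa using hreq
  · -- TI
    intro gbar hg
    rw [eq_bot_iff]
    intro z hz
    rw [Subgroup.mem_bot]
    obtain ⟨g, rfl⟩ := QuotientGroup.mk'_surjective N gbar
    obtain ⟨hz1, hz2⟩ := Subgroup.mem_inf.mp hz
    rw [Cfsg.Agent.S0034.mem_conj_smul] at hz2
    obtain ⟨r₁, hr₁, rfl⟩ := Subgroup.mem_map.mp hz1
    obtain ⟨r₂, hr₂, hr₂eq⟩ := Subgroup.mem_map.mp hz2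
    have hgtop : g ∈ ((K ⊔ R : Subgroup G) : Set G) := by rw [hsup]; trivial
    rw [Subgroup.normal_mul] at hgtop
    obtain ⟨k, hk, r₀, hr₀, rfl⟩ := Set.mem_mul.1 hgtop
    have hkN : k ∉ N := by
      intro hkN
      apply hg
      refine Subgroup.mem_map.mpr ⟨r₀, hr₀, ?_⟩
      rw [QuotientGroup.mk'_apply, QuotientGroup.mk'_apply, QuotientGroup.eq]
      have := hNn.conj_mem k hkN r₀⁻¹
      simpa [mul_assoc] using this
    by_contra hz1'
    have hr₁1 : r₁ ≠ 1 := by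
      rintro rfl
      exact hz1' (map_one _)
    have h : (QuotientGroup.mk' N) (r₂⁻¹ * ((k * r₀)⁻¹ * r₁ * (k * r₀))) = 1 := by
      simp only [map_mul, map_inv] at hr₂eq ⊢
      rw [← hr₂eq]; exact inv_mul_cancel _
    rw [QuotientGroup.mk'_apply, QuotientGroup.eq_one_iff] at h
    have h1 : (r₀ * r₂ * r₀⁻¹)⁻¹ * (k⁻¹ * r₁ * k) ∈ N := by
      have h' := hNn.conj_mem _ h r₀
      have e : r₀ * (r₂⁻¹ * ((k * r₀)⁻¹ * r₁ * (k * r₀))) * r₀⁻¹ =
          (r₀ * r₂ * r₀⁻¹)⁻¹ * (k⁻¹ * r₁ * k) := by group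
      rwa [e] at h'
    have hr₃R : r₀ * r₂ * r₀⁻¹ ∈ R := R.mul_mem (R.mul_mem hr₀ hr₂) (R.inv_mem hr₀)
    have ha1 : r₁⁻¹ * (k⁻¹ * r₁ * k) ∈ K := by
      have h2 : r₁⁻¹ * k⁻¹ * r₁⁻¹⁻¹ ∈ K := hKn.conj_mem _ (K.inv_mem hk) r₁⁻¹
      have e : r₁⁻¹ * (k⁻¹ * r₁ * k) = (r₁⁻¹ * k⁻¹ * r₁⁻¹⁻¹) * k := by group
      rw [e]; exact K.mul_mem h2 hk
    have h31 : (r₀ * r₂ * r₀⁻¹)⁻¹ * r₁ ∈ K := by
      have e : (r₀ * r₂ * r₀⁻¹)⁻¹ * r₁ =
          ((r₀ * r₂ * r₀⁻¹)⁻¹ * (k⁻¹ * r₁ * k)) * (r₁⁻¹ * (k⁻¹ * r₁ * k))⁻¹ := by group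
      rw [e]; exact K.mul_mem (hNK h1) (K.inv_mem ha1)
    have h31' : (r₀ * r₂ * r₀⁻¹)⁻¹ * r₁ = 1 :=
      hKR1 _ h31 (R.mul_mem (R.inv_mem hr₃R) hr₁)
    have h3eq : r₀ * r₂ * r₀⁻¹ = r₁ := inv_mul_eq_one.mp h31'
    rw [h3eq] at h1
    have h5 : k⁻¹ * r₁ * k⁻¹⁻¹ * r₁⁻¹ ∈ N := by
      have h' := hNn.conj_mem _ h1 r₁
      have e : r₁ * (r₁⁻¹ * (k⁻¹ * r₁ * k)) * r₁⁻¹ = k⁻¹ * r₁ * k⁻¹⁻¹ * r₁⁻¹ := by group
      rwa [e] at h'
    have h6 := hkey r₁ hr₁ hr₁1 k⁻¹ (K.inv_mem hk) h5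
    exact hkN (by simpa using N.inv_mem h6)
  · ext xbar
    obtain ⟨g, rfl⟩ := QuotientGroup.mk'_surjective N xbar
    constructor
    · intro hx
      by_cases hgK : g ∈ K
      · exact ⟨g, (hKmem g).mp hgK, rfl⟩
      · rw [hKmem, Cfsg.Agent.S0034.not_mem_kernel_iff] at hgK
        obtain ⟨_, y, hy⟩ := hgK
        rcases hx with h1 | h2
        · exact ⟨1, (hKmem 1).mp K.one_mem, by rw [h1, map_one]⟩
        · exfalso
          apply h2 (QuotientGroup.mk' N y)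
          rw [Cfsg.Agent.S0034.mem_conj_smul]
          refine Subgroup.mem_map.mpr ⟨y⁻¹ * g * y, hy, ?_⟩
          simp only [map_mul, map_inv]
    · rintro ⟨k, hk, hkeq⟩
      rw [← hKmem] at hk
      rw [← hkeq]
      by_cases h1 : (QuotientGroup.mk' N) k = 1
      · exact Or.inl h1
      · refine Or.inr ?_
        intro gbar hmem
        apply h1
        obtain ⟨g', rfl⟩ := QuotientGroup.mk'_surjective N gbar
        rw [Cfsg.Agent.S0034.mem_conj_smul] at hmem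
        obtain ⟨r, hr, hreq⟩ := Subgroup.mem_map.mp hmem
        have h : (QuotientGroup.mk' N) (r⁻¹ * (g'⁻¹ * k * g')) = 1 := by
          simp only [map_mul, map_inv] at hreq ⊢
          rw [← hreq]; exact inv_mul_cancel _
        rw [QuotientGroup.mk'_apply, QuotientGroup.eq_one_iff] at h
        have hc : g'⁻¹ * k * g' ∈ K := by
          have := hKn.conj_mem k hk g'⁻¹
          simpa using this
        have hrK : r ∈ K := by
          have : r = (g'⁻¹ * k * g') * (r⁻¹ * (g'⁻¹ * k * g'))⁻¹ := by group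
          rw [this]
          exact K.mul_mem hc (K.inv_mem (hNK h))
        have hr1 : r = 1 := hKR1 r hrK hr
        rw [hr1, map_one] at hreq
        have e : (QuotientGroup.mk' N) k = (QuotientGroup.mk' N g') *
            ((QuotientGroup.mk' N g')⁻¹ * (QuotientGroup.mk' N) k * (QuotientGroup.mk' N g')) *
            (QuotientGroup.mk' N g')⁻¹ := by group
        rw [e, ← hreq]; group

end Cfsg.Agent.S3768
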