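import Cfsg.Statements.S3769
import Cfsg.Agent.Lib.Helper23.XSi

set_option autoImplicit false
open Cfsg

namespace Cfsg.Agent.S3769

/-- Let G and V be subgroups of a finite group with G solvable of odd order normalizing V, V an elementary abelian ℓ-group for a prime ℓ not dividing the order of G, and suppose G has a normal Hall subgroup K with a complement R of prime order. If C_V(R) = 1, then [R, K] centralizes V. -/
theorem result {X : Type*} [Group X] [Finite X] (G : Subgroup X) (hsolv : Group.IsSolvable G) (hodd : Odd (Nat.card G)) (V : Subgroup X) {ℓ : ℕ} (hℓ : ℓ.Prime) (hV : Cfsg.IsElementaryAbelian ℓ V) (hℓG : ¬ ℓ ∣ Nat.card G) (hGV : G ≤ Subgroup.normalizer (V : Set X)) (K R : Subgroup X) (hKG : K ≤ G) (hKn : G ≤ Subgroup.normalizer (K : Set X)) (hHall : (Nat.card K).Coprime (K.relIndex G)) (hRG : R ≤ G) (hR : (Nat.card R).Prime) (hKR : K ⊓ R = ⊥) (hKRG : K ⊔ R = G) (hCV : V ⊓ Subgroup.centralizer (R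 : Set X) = ⊥) : ⁅R, K⁆ ≤ Subgroup.centralizer (V : Set X) := by
  classical
  haveI : Fact ℓ.Prime := ⟨hℓ⟩
  set r := Nat.card R with hrdef
  haveI : Fact r.Prime := ⟨hR⟩
  obtain ⟨x₀, hx₀R, hx₀1, hx₀gen, hx₀r⟩ := Cfsg.Agent.Lib.Helper23.XSg.exists_gen_of_prime R r rfl
  -- K is normal in G
  haveI hKn' : (K.subgroupOf G).Normal := by
    constructor
    intro n hn g
    rw [Subgroup.mem_subgroupOf] at hn ⊢
    have := (Subgroup.mem_normalizer_iff.1 (hKn g.2) (n : X)).1 hn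
    simpa using this
  have hx₀G : x₀ ∈ G := hRG hx₀R
  have hzp : Subgroup.zpowers (⟨x₀, hx₀G⟩ : G) = R.subgroupOf G := by
    rw [Cfsg.Agent.Lib.Helper23.XSg.zpowers_subgroupOf, hx₀gen]
  have hgen : K.subgroupOf G ⊔ Subgroup.zpowers (⟨x₀, hx₀G⟩ : G) = ⊤ := by
    rw [hzp, ← Subgroup.subgroupOf_sup hKG hRG, hKRG, Subgroup.subgroupOf_self]
  have hxr : (⟨x₀, hx₀G⟩ : G) ^ r = 1 := Subtype.ext (by rw [Subgroup.coe_pow]; exact hx₀r)
  have hcardK : Nat.card (K.subgroupOf G) = Nat.card K :=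
    Nat.card_congr (Subgroup.subgroupOfEquivOfLe hKG).toEquiv
  have hKdvd : Nat.card K ∣ Nat.card G := Subgroup.card_dvd_of_le hKG
  -- r divides the index of K in G
  have hrdvd : r ∣ K.relIndex G := by
    have h1 : (QuotientGroup.mk' (K.subgroupOf G) ⟨x₀, hx₀G⟩) ^ r = 1 := by
      rw [← map_pow, hxr, map_one]
    have h2 : (QuotientGroup.mk' (K.subgroupOf G) ⟨x₀, hx₀G⟩) ≠ 1 := by
      intro h
      have h3 : (⟨x₀, hx₀G⟩ : G) ∈ K.subgroupOf G := (QuotientGroup.eq_one_iff _).1 h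
      have h4 : x₀ ∈ K ⊓ R := Subgroup.mem_inf.2 ⟨Subgroup.mem_subgroupOf.1 h3, hx₀R⟩
      rw [hKR, Subgroup.mem_bot] at h4
      exact hx₀1 h4
    have h3 := orderOf_eq_prime h1 h2
    have h4 := orderOf_dvd_natCard (QuotientGroup.mk' (K.subgroupOf G) ⟨x₀, hx₀G⟩)
    rw [h3] at h4
    exact h4
  have hcop : Nat.Coprime r (Nat.card (K.subgroupOf G)) := by
    rw [hcardK]
    exact (Nat.Coprime.coprime_dvd_right hrdvd hHall).symm
  have hℓr : ℓ ≠ r := by
    intro h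
    apply hℓG
    rw [h]
    exact Subgroup.card_dvd_of_le hRG
  letI : CommGroup V :=
    { (inferInstance : Group V) with mul_comm := fun a b => hV.1.is_comm.comm a b }
  have hexp : ∀ w : V, w ^ ℓ = 1 := fun w => Subtype.ext (by simpa using hV.2 w w.2)
  have hmain := Cfsg.Agent.Lib.Helper23.XSi.coprime_action_centralizes ℓ r hR hℓr hexp
    (Cfsg.Agent.Lib.Helper23.FrobF.theta G V hGV) (K.subgroupOf G) ⟨x₀, hx₀G⟩ hxr hgen hcop
    (by
      rw [hcardK]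
      intro h
      exact hℓG (h.trans hKdvd))
    (by
      rw [hcardK]
      exact Odd.of_dvd_nat hodd hKdvd)
    (by
      intro w hw
      have h1 : x₀ * (w : X) * x₀⁻¹ = (w : X) := by
        have := congrArg Subtype.val hw
        rwa [Cfsg.Agent.Lib.Helper23.FrobF.theta_apply] at this
      have h2 : x₀ * (w : X) = (w : X) * x₀ := by
        calc x₀ * (w : X) = x₀ * (w : X) * x₀⁻¹ * x₀ := by group
          _ = (w : X) * x₀ := by rw [h1]
      have h3 : (w : X) ∈ V ⊓ Subgroup.centralizer (R : Set X) := by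
        refine Subgroup.mem_inf.2 ⟨w.2, ?_⟩
        rw [Subgroup.mem_centralizer_iff]
        intro y hy
        rw [← hx₀gen] at hy
        exact Cfsg.Agent.Lib.Helper23.XSg.comm_zpowers x₀ (w : X) h2 y hy
      rw [hCV, Subgroup.mem_bot] at h3
      exact Subtype.ext h3)
  -- conclude
  rw [Subgroup.commutator_le]
  intro y hy k hk
  have hyG : y ∈ G := hRG hy
  have hkG : k ∈ G := hKG hk
  have h1 : Commute (Cfsg.Agent.Lib.Helper23.FrobF.theta G V hGV ⟨x₀, hx₀G⟩)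
      (Cfsg.Agent.Lib.Helper23.FrobF.theta G V hGV ⟨k, hkG⟩) :=
    hmain ⟨k, hkG⟩ (Subgroup.mem_subgroupOf.2 hk)
  have hy' : (⟨y, hyG⟩ : G) ∈ Subgroup.zpowers (⟨x₀, hx₀G⟩ : G) := by
    rw [hzp]; exact Subgroup.mem_subgroupOf.2 hy
  obtain ⟨n, hn⟩ := Subgroup.mem_zpowers_iff.1 hy'
  have h2 : Commute (Cfsg.Agent.Lib.Helper23.FrobF.theta G V hGV ⟨y, hyG⟩)
      (Cfsg.Agent.Lib.Helper23.FrobF.theta G V hGV ⟨k, hkG⟩) := by
    rw [← hn, map_zpow]
    exact h1.zpow_left n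
  have h3 : Cfsg.Agent.Lib.Helper23.FrobF.theta G V hGV
      (⟨y, hyG⟩ * ⟨k, hkG⟩ * (⟨y, hyG⟩ : G)⁻¹ * (⟨k, hkG⟩ : G)⁻¹) = 1 := by
    rw [map_mul, map_mul, map_mul, map_inv, map_inv, h2.eq, mul_inv_cancel_right, mul_inv_cancel]
  rw [commutatorElement_def, Subgroup.mem_centralizer_iff]
  intro w hw
  have h4 := congrArg (fun f : MulAut V => ((f ⟨w, hw⟩ : V) : X)) h3
  simp only [Cfsg.Agent.Lib.Helper23.FrobF.theta_apply, MulAut.one_apply] at h4
  have h5 : (y * k * y⁻¹ * k⁻¹) * w * (y * k * y⁻¹ * k⁻¹)⁻¹ = w := by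
    simpa using h4
  calc w * (y * k * y⁻¹ * k⁻¹) = ((y * k * y⁻¹ * k⁻¹) * w * (y * k * y⁻¹ * k⁻¹)⁻¹) * (y * k * y⁻¹ * k⁻¹) := by
        rw [h5]
    _ = (y * k * y⁻¹ * k⁻¹) * w := by group

end Cfsg.Agent.S3769
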