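import Cfsg.Statements.S3770
import Cfsg.Agent.Lib.Helper23.FrobH
import Cfsg.Agent.S0035
import Cfsg.Agent.S0042

set_option autoImplicit false
open Cfsg

namespace Cfsg.Agent.S3770

/-- Let G and V be subgroups of a finite group with G a Frobenius group with complement R of prime order and kernel K, G normalizing V, and V an elementary abelian ℓ-group for a prime ℓ not dividing the order of G. If C_V(R) has order ℓ, then the derived subgroup of K centralizes V. -/
theorem result {X : Type*} [Group X] [Finite X] (G : Subgroup X) (V : Subgroup X) {ℓ : ℕ} (hℓ : ℓ.Prime) (hV : Cfsg.IsElementaryAbelian ℓ V) (hℓG : ¬ ℓ ∣ Nat.card G) (hGV : G ≤ Subgroup.normalizer (V : Set X)) (R : Subgroup ↥G) (hR : Cfsg.IsFrobeniusComplement R) (hRp : (Nat.card R).Prime) (hCV : Nat.card ↥(V ⊓ Subgroup.centralizer ((R.map G.subtype : Subgroup X) : Set X)) = ℓ) : ⁅Subgroup.closure (Subtype.val '' Cfsg.frobeniusKernel R), Subgroup.closure (Subtype.val '' Cfsg.frobeniusKernel R)⁆ ≤ Subgroup.centralizer (V : Set X) := by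
  classical
  haveI : Fact ℓ.Prime := ⟨hℓ⟩
  obtain ⟨N, hNset, hNn, hNc⟩ := Cfsg.Agent.S0035.result R hR
  obtain ⟨N', hN'set, hN'n, hN'nil⟩ := Cfsg.Agent.S0042.result R hR
  have hNN' : N' = N := SetLike.ext' (hN'set.trans hNset.symm)
  rw [hNN'] at hN'nil
  haveI := hNn
  have hK : Subgroup.closure (Subtype.val '' Cfsg.frobeniusKernel R) = N.map G.subtype := by
    rw [← hNset]
    have : (Subtype.val '' (N : Set G)) = ((N.map G.subtype : Subgroup X) : Set X) := by
      rw [Subgroup.coe_map]
      rfl
    rw [this, Subgroup.closure_eq]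
  rw [hK]
  have hfpf : ∀ e ∈ R, e ≠ 1 → ∀ u ∈ N, e * u = u * e → u = 1 := by
    intro e he he1 u hu hc
    by_contra hu1
    have huk : u ∈ Cfsg.frobeniusKernel R := by
      rw [← hNset]
      exact hu
    rcases huk with h | h
    · exact hu1 h
    · have huR : u ∉ R := by
        intro huR
        apply h 1
        simpa using huR
      have h2 := hR.2.2 u huR
      have h3 : e ∈ (⊥ : Subgroup ↥G) := by
        rw [← h2]
        refine Subgroup.mem_inf.2 ⟨he, ?_⟩
        have := Subgroup.smul_mem_pointwise_smul e (MulAut.conj u) R he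
        have h4 : MulAut.conj u • e = e := by
          rw [MulAut.smul_def, MulAut.conj_apply, ← hc, mul_inv_cancel_right]
        rwa [h4] at this
      exact he1 (Subgroup.mem_bot.1 h3)
  have D := Cfsg.Agent.Lib.Helper23.FrobD.frobData_of_nilpotent N R hfpf hNc.sup_eq_top hN'nil
  letI : CommGroup V :=
    { (inferInstance : Group V) with mul_comm := fun a b => hV.1.is_comm.comm a b }
  have hexp : ∀ w : V, w ^ ℓ = 1 := fun w => Subtype.ext (by simpa using hV.2 w w.2)
  have hE : Nat.card (Cfsg.Agent.Lib.Helper23.FrobD.fixG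
      (Cfsg.Agent.Lib.Helper23.FrobF.theta G V hGV) R) ≤ ℓ := by
    have h1 := Cfsg.Agent.Lib.Helper23.FrobF.card_fixG_theta G V hGV (R.map G.subtype)
      (Subgroup.map_subtype_le _)
    have h2 : (R.map G.subtype).subgroupOf G = R :=
      Subgroup.comap_map_eq_self_of_injective G.subtype_injective R
    rw [h2, hCV] at h1
    exact h1.le
  have hfine := Cfsg.Agent.Lib.Helper23.FrobH.fine_elem' D ℓ hexp hℓG
    (Cfsg.Agent.Lib.Helper23.FrobF.theta G V hGV) hE
  apply Cfsg.Agent.Lib.Helper23.FrobH.comm_to_centralizer G V hGV (N.map G.subtype)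
    (Subgroup.map_subtype_le _)
  have h2 : (N.map G.subtype).subgroupOf G = N :=
    Subgroup.comap_map_eq_self_of_injective G.subtype_injective N
  rw [h2]
  exact hfine

end Cfsg.Agent.S3770
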