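import Cfsg.Statements.S3771
import Cfsg.Agent.Lib.Helper9.ExponentP

set_option autoImplicit false
open Cfsg

namespace Cfsg.Agent.S3771

/-- Let p be a prime and R a finite p-group of p-rank at most 2 (no elementary abelian subgroup of order p³) in which every element has order dividing p. Then R has order at most p³. -/
theorem result {R : Type*} [Group R] [Finite R] {p : ℕ} [Fact p.Prime] (hR : IsPGroup p R) (hrank : Cfsg.PRankLE p 2 R) (hexp : ∀ x : R, x ^ p = 1) : Nat.card R ≤ p ^ 3 := by
  obtain ⟨m, hm⟩ := (IsPGroup.iff_card).mp hR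
  have hp1 : 1 < p := (Fact.out : p.Prime).one_lt
  by_contra hcon
  have hm4 : 4 ≤ m := by
    by_contra hlt
    apply hcon
    rw [hm]
    exact Nat.pow_le_pow_right (by omega) (by omega)
  obtain ⟨A, hA, hcomm⟩ := Cfsg.Agent.Lib.Helper9.exists_abelian_subgroup_card_cube hR hexp hm4 hm
  have hAc : IsMulCommutative A := ⟨⟨fun a b => Subtype.ext (hcomm a a.2 b b.2)⟩⟩
  have := hrank A hAc (fun a _ => hexp a)
  rw [hA] at this
  have : p ^ 2 < p ^ 3 := Nat.pow_lt_pow_right hp1 (by norm_num)
  omega

end Cfsg.Agent.S3771
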