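import Mathlib
import Cfsg.Statements.S3773
import Cfsg.Agent.Lib.Helper2.PGroupFrattini
import Cfsg.Agent.Lib.Helper12.InvCount
import Cfsg.Agent.Lib.Helper12.Class2Exp4
-- import your own Cfsg.Agent.* helpers here

set_option autoImplicit false
open Cfsg

namespace Cfsg.Agent.S3773

open scoped commutatorElement
open Cfsg.Agent.Lib.Helper12.Class2Exp4 Cfsg.Agent.Lib.Helper12.InvCount

theorem pow_le_of_le {G : Type*} [Group G] [Finite G] {A B : Subgroup G} (h : A ≤ B) {a b : ℕ}
    (ha : Nat.card A = 2 ^ a) (hb : Nat.card B = 2 ^ b) : a ≤ b := by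
  have := Subgroup.card_le_of_le h
  rw [ha, hb] at this
  exact (Nat.pow_le_pow_iff_right (by norm_num)).mp this

theorem card_subgroupOf_of_le {G : Type*} [Group G] {A K : Subgroup G} (h : A ≤ K) :
    Nat.card (A.subgroupOf K) = Nat.card A :=
  Nat.card_congr (Subgroup.subgroupOfEquivOfLe h).toEquiv

/-- Let G be a finite 2-group of nilpotency class at most 2 and exponent dividing 4 in which the elements x with x² = 1 form a subgroup N. Then |G| ≤ |N|³, and |G| < |N|³ unless G is special. -/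
theorem result {G : Type*} [Group G] [Finite G] (hG : IsPGroup 2 G) (hcl : (⊤ : Subgroup G).lowerCentralSeries 2 = ⊥) (hexp : ∀ x : G, x ^ 4 = 1) (hN : ∀ x y : G, x ^ 2 = 1 → y ^ 2 = 1 → (x * y) ^ 2 = 1) : Nat.card G ≤ Nat.card {x : G // x ^ 2 = 1} ^ 3 ∧ (¬ Cfsg.IsSpecial 2 G → Nat.card G < Nat.card {x : G // x ^ 2 = 1} ^ 3) := by
  haveI hp2 : Fact (Nat.Prime 2) := ⟨Nat.prime_two⟩
  have hcen : ∀ x y : G, ⁅x, y⁆ ∈ Subgroup.center G := by
    intro x y
    rw [Subgroup.mem_center_iff]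
    intro g
    have h1 : ⁅⁅x, y⁆, g⁆ ∈ (⊤ : Subgroup G).lowerCentralSeries 2 := by
      show ⁅⁅x, y⁆, g⁆ ∈ ⁅⁅(⊤ : Subgroup G), ⊤⁆, ⊤⁆
      exact Subgroup.commutator_mem_commutator
        (Subgroup.commutator_mem_commutator (Subgroup.mem_top x) (Subgroup.mem_top y))
        (Subgroup.mem_top g)
    rw [hcl, Subgroup.mem_bot, commutatorElement_eq_one_iff_mul_comm] at h1
    exact h1.symm
  have hcomm_mem : ∀ x y : G, ⁅x, y⁆ ∈ commutator G := fun x y => by
    rw [commutator_def]
    exact Subgroup.commutator_mem_commutator (Subgroup.mem_top x) (Subgroup.mem_top y)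
  set W := omegaCenter G with hW
  have hWc : W ≤ Subgroup.center G := omegaCenter_le_center
  have hW2 : ∀ a ∈ W, a * a = 1 := fun a ha => by rw [← pow_two]; exact ha.2
  have hsqW : ∀ x : G, x * x ∈ W := fun x => by
    rw [← pow_two]; exact sq_mem_omegaCenter hcen hexp x
  have hC'W : commutator G ≤ W := commutator_le_omegaCenter hcen hexp
  have hcomW : ∀ x y : G, x * y * x⁻¹ * y⁻¹ ∈ W := fun x y => by
    rw [← commutatorElement_def]
    exact hC'W (hcomm_mem x y)
  let Nsub : Subgroup G :=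
    { carrier := {x | x ^ 2 = 1}
      one_mem' := one_pow 2
      mul_mem' := fun {a b} ha hb => hN a b ha hb
      inv_mem' := fun {a} ha => by show a⁻¹ ^ 2 = 1; rw [inv_pow, ha, inv_one] }
  have hNmem : ∀ x, x ∈ Nsub ↔ x ^ 2 = 1 := fun x => Iff.rfl
  have hcardN : Nat.card {x : G // x ^ 2 = 1} = Nat.card Nsub := rfl
  have hWN : W ≤ Nsub := fun z hz => hz.2
  obtain ⟨n, hn⟩ := IsPGroup.iff_card.mp hG
  obtain ⟨ζ, hζ⟩ := IsPGroup.iff_card.mp (hG.to_subgroup (Subgroup.center G))
  obtain ⟨lW, hlW⟩ := IsPGroup.iff_card.mp (hG.to_subgroup W)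
  obtain ⟨ν, hν⟩ := IsPGroup.iff_card.mp (hG.to_subgroup Nsub)
  have hlWζ : lW ≤ ζ := pow_le_of_le hWc hlW hζ
  have hlWν : lW ≤ ν := pow_le_of_le hWN hlW hν
  have hν' : Nat.card {x : G // x * x = 1} = 2 ^ ν := by
    rw [← hν, ← hcardN]
    exact Nat.card_congr (Equiv.subtypeEquivRight (fun x => by rw [pow_two]))
  have hb1 := bound W hWc hW2 hsqW hcomW hlW hn hζ hν'
  rw [hn, hcardN, hν, ← pow_mul]
  refine ⟨Nat.pow_le_pow_right (by norm_num) (by omega), ?_⟩
  intro hns
  apply Nat.pow_lt_pow_right (by norm_num)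
  by_contra hlt
  have hn3 : n = 3 * ν := by omega
  have hζν : ζ = ν := by omega
  have hlWν' : lW = ν := by omega
  apply hns
  -- `W` is the centre
  have hWcenter : W = Subgroup.center G :=
    Subgroup.eq_of_le_of_card_ge hWc (by rw [hζ, hlW, hζν, hlWν'])
  -- the Frattini subgroup is `W`
  have hFW : frattini G ≤ W :=
    Cfsg.Agent.Lib.Helper2.frattini_le_of_elementary_quotient (p := 2) W hC'W
      (fun x => sq_mem_omegaCenter hcen hexp x)
  have hsqF : ∀ x : G, x * x ∈ frattini G := fun x => by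
    rw [← pow_two]
    exact Cfsg.Agent.Lib.Helper2.pow_mem_frattini_of_isPGroup hG x
  have hcomF : ∀ x y : G, x * y * x⁻¹ * y⁻¹ ∈ frattini G := fun x y => by
    rw [← commutatorElement_def]
    exact Cfsg.Agent.Lib.Helper2.commutator_le_frattini_of_isPGroup hG (hcomm_mem x y)
  obtain ⟨lF, hlF⟩ := IsPGroup.iff_card.mp (hG.to_subgroup (frattini G))
  have hb2 := bound (frattini G) (hFW.trans hWc) (fun a ha => hW2 a (hFW ha)) hsqF hcomF hlF hn hζ hν'
  have hlFW : lF ≤ lW := pow_le_of_le hFW hlF hlW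
  have hFeqW : frattini G = W :=
    Subgroup.eq_of_le_of_card_ge hFW (by
      rw [hlF, hlW]
      exact Nat.pow_le_pow_right (by norm_num) (by omega))
  refine ⟨hG, by rw [hFeqW, hWcenter], ?_⟩
  -- the derived subgroup is `W`
  by_contra hne
  obtain ⟨δ, hδ⟩ := IsPGroup.iff_card.mp (hG.to_subgroup (commutator G))
  have hδν : δ ≤ lW := pow_le_of_le hC'W hδ hlW
  have hδne : δ ≠ ν := by
    intro h
    apply hne
    rw [← hWcenter]
    exact Subgroup.eq_of_le_of_card_ge hC'W (by rw [hδ, hlW, h, hlWν'])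
  have hδlt : δ < ν := by omega
  -- the squaring homomorphism modulo the derived subgroup
  set H₀ : Subgroup ↥W := (commutator G).subgroupOf W with hH₀
  haveI hH₀n : H₀.Normal := ⟨fun a ha g => by
    have : g * a * g⁻¹ = a := by
      apply Subtype.ext
      simp only [Subgroup.coe_mul, Subgroup.coe_inv]
      have := Subgroup.mem_center_iff.mp (hWc a.2) g.1
      rw [this, mul_inv_cancel_right]
    rw [this]
    exact ha⟩
  let f : G →* ↥W ⧸ H₀ := MonoidHom.mk' (fun x => QuotientGroup.mk ⟨x * x, hsqW x⟩) (by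
    intro x y
    rw [← QuotientGroup.mk_mul, QuotientGroup.eq, hH₀, Subgroup.mem_subgroupOf]
    simp only [Subgroup.coe_mul, Subgroup.coe_inv]
    have e : (x * y * (x * y))⁻¹ * (x * x * (y * y)) = y⁻¹ * ⁅x⁻¹, y⁻¹⁆ * y⁻¹⁻¹ := by
      rw [commutatorElement_def]; group
    rw [e]
    exact (inferInstance : (commutator G).Normal).conj_mem _ (hcomm_mem _ _) _)
  set K := f.ker with hK
  have hKmem : ∀ x : G, x ∈ K ↔ x * x ∈ commutator G := by
    intro x
    rw [hK, MonoidHom.mem_ker]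
    show (QuotientGroup.mk (⟨x * x, hsqW x⟩ : ↥W) : ↥W ⧸ H₀) = 1 ↔ _
    rw [QuotientGroup.eq_one_iff, hH₀, Subgroup.mem_subgroupOf]
  have hH₀card : Nat.card H₀ = 2 ^ δ := by
    rw [hH₀, card_subgroupOf_of_le hC'W, hδ]
  have hH₀idx : H₀.index = 2 ^ (ν - δ) := by
    have h1 := Subgroup.card_mul_index H₀
    rw [hH₀card, hlW, hlWν'] at h1
    have h2 : (2 : ℕ) ^ ν = 2 ^ δ * 2 ^ (ν - δ) := by
      rw [← pow_add]; congr 1; omega
    rw [h2] at h1
    exact Nat.eq_of_mul_eq_mul_left (by positivity) h1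
  have hKidx : K.index ≤ 2 ^ (ν - δ) := by
    rw [hK, Subgroup.index_ker, ← hH₀idx, Subgroup.index_eq_card]
    exact Subgroup.card_le_card_group _
  obtain ⟨nK, hnK⟩ := IsPGroup.iff_card.mp (hG.to_subgroup K)
  have hnnK : n ≤ nK + (ν - δ) := by
    have h1 := Subgroup.card_mul_index K
    rw [hnK, hn] at h1
    have h2 : 2 ^ n ≤ 2 ^ nK * 2 ^ (ν - δ) := by
      rw [← h1]
      exact Nat.mul_le_mul_left _ hKidx
    rw [← pow_add] at h2
    exact (Nat.pow_le_pow_iff_right (by norm_num)).mp h2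
  have hC'K : commutator G ≤ K := fun c hc => by
    rw [hKmem, hW2 c (hC'W hc)]
    exact one_mem _
  have hWK : W ≤ K := fun w hw => by
    rw [hKmem, hW2 w hw]
    exact one_mem _
  have hNK : Nsub ≤ K := fun x hx => by
    rw [hKmem, ← pow_two, (hNmem x).mp hx]
    exact one_mem _
  obtain ⟨ζK, hζK⟩ := IsPGroup.iff_card.mp
    ((hG.to_subgroup K).to_subgroup (Subgroup.center ↥K))
  have hνζK : ν ≤ ζK := by
    have hle : W.subgroupOf K ≤ Subgroup.center ↥K := by
      intro a ha
      rw [Subgroup.mem_subgroupOf] at ha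
      rw [Subgroup.mem_center_iff]
      intro g
      apply Subtype.ext
      rw [Subgroup.coe_mul, Subgroup.coe_mul]
      exact Subgroup.mem_center_iff.mp (hWc ha) g.1
    have hc : Nat.card (W.subgroupOf K) = 2 ^ ν := by
      rw [card_subgroupOf_of_le hWK, hlW, hlWν']
    exact pow_le_of_le hle hc hζK
  have hνK : Nat.card {x : ↥K // x * x = 1} = 2 ^ ν := by
    have h1 : Nat.card {x : ↥K // x * x = 1} = Nat.card (Nsub.subgroupOf K) := by
      apply Nat.card_congr
      apply Equiv.subtypeEquivRight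
      intro x
      rw [Subgroup.mem_subgroupOf, hNmem, pow_two, Subtype.ext_iff, Subgroup.coe_mul,
        Subgroup.coe_one]
    rw [h1, card_subgroupOf_of_le hNK, hν]
  have hb3 := bound (H := ↥K) ((commutator G).subgroupOf K)
    (by
      intro a ha
      rw [Subgroup.mem_subgroupOf] at ha
      rw [Subgroup.mem_center_iff]
      intro g
      apply Subtype.ext
      rw [Subgroup.coe_mul, Subgroup.coe_mul]
      exact Subgroup.mem_center_iff.mp (hWc (hC'W ha)) g.1)
    (by
      intro a ha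
      rw [Subgroup.mem_subgroupOf] at ha
      apply Subtype.ext
      rw [Subgroup.coe_mul, Subgroup.coe_one]
      exact hW2 _ (hC'W ha))
    (by
      intro x
      rw [Subgroup.mem_subgroupOf, Subgroup.coe_mul]
      exact (hKmem x.1).mp x.2)
    (by
      intro x y
      rw [Subgroup.mem_subgroupOf]
      simp only [Subgroup.coe_mul, Subgroup.coe_inv]
      rw [← commutatorElement_def]
      exact hcomm_mem _ _)
    (l := δ) (by rw [card_subgroupOf_of_le hC'K, hδ]) hnK hζK hνK
  omega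

end Cfsg.Agent.S3773
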