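import Cfsg.Statements.S3774
-- import your own Cfsg.Agent.* helpers here

set_option autoImplicit false
open Cfsg

namespace Cfsg.Agent.S3774

/-- Let G be a nontrivial finite 2-group whose automorphism group permutes the involutions of G transitively. Then every involution of G is central, so that the involutions together with 1 form the subgroup Ω₁(Z(G)), and if this subgroup has order q then |G| is a power of q. -/
theorem result {G : Type*} [Group G] [Finite G] [Nontrivial G] (hG : IsPGroup 2 G) (htrans : ∀ x y : G, x ≠ 1 → x ^ 2 = 1 → y ≠ 1 → y ^ 2 = 1 → ∃ a : MulAut G, a x = y) : (∀ x : G, x ^ 2 = 1 → x ∈ Subgroup.center G) ∧ ∃ m : ℕ, Nat.card G = Nat.card {z : G // z ^ 2 = 1} ^ m := by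
  classical
  haveI : Fact (Nat.Prime 2) := ⟨Nat.prime_two⟩
  haveI : Fintype G := Fintype.ofFinite G
  -- helper: the involution attached to a nontrivial element
  have hord : ∀ x : G, x ≠ 1 → ∃ j : ℕ, orderOf x = 2 ^ (j + 1) := by
    intro x hx
    obtain ⟨j, hj⟩ := hG.exists_orderOf_eq_pow x
    rcases j with _ | j
    · exfalso; apply hx; rw [pow_zero] at hj; exact orderOf_eq_one_iff.mp hj
    · exact ⟨j, hj⟩
  have hinvsq : ∀ x : G, x ≠ 1 → (x ^ (orderOf x / 2)) ^ 2 = 1 := by
    intro x hx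
    obtain ⟨j, hj⟩ := hord x hx
    rw [← pow_mul, hj, pow_succ, Nat.mul_div_cancel _ (by norm_num), ← pow_succ, ← hj]
    exact pow_orderOf_eq_one x
  have hinvne : ∀ x : G, x ≠ 1 → x ^ (orderOf x / 2) ≠ 1 := by
    intro x hx
    obtain ⟨j, hj⟩ := hord x hx
    apply pow_ne_one_of_lt_orderOf
    · rw [hj, pow_succ, Nat.mul_div_cancel _ (by norm_num)]; positivity
    · rw [hj, pow_succ, Nat.mul_div_cancel _ (by norm_num)]
      have : 0 < 2 ^ j := by positivity
      omega
  -- a central involution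
  obtain ⟨z0, hz0c, hz0ne, hz0sq⟩ : ∃ z0 : G, z0 ∈ Subgroup.center G ∧ z0 ≠ 1 ∧ z0 ^ 2 = 1 := by
    have := hG.center_nontrivial
    obtain ⟨⟨z, hz⟩, hzne⟩ := exists_ne (1 : Subgroup.center G)
    have hz1 : z ≠ 1 := fun h => hzne (Subtype.ext h)
    exact ⟨z ^ (orderOf z / 2), Subgroup.pow_mem _ hz _, hinvne z hz1, hinvsq z hz1⟩
  have hcent : ∀ x : G, x ^ 2 = 1 → x ∈ Subgroup.center G := by
    intro x hx
    by_cases hx1 : x = 1
    · rw [hx1]; exact Subgroup.one_mem _
    obtain ⟨a, ha⟩ := htrans z0 x hz0ne hz0sq hx1 hx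
    rw [Subgroup.mem_center_iff] at hz0c ⊢
    intro g
    have h1 := hz0c (a.symm g)
    have h2 := congrArg a h1
    rw [map_mul, map_mul, ha, MulEquiv.apply_symm_apply] at h2
    exact h2
  refine ⟨hcent, ?_⟩
  -- the subgroup of involutions
  let W : Subgroup G :=
    { carrier := {z | z ^ 2 = 1}
      one_mem' := by simp
      mul_mem' := by
        intro x y hx hy
        have hxc := hcent x hx
        rw [Subgroup.mem_center_iff] at hxc
        show (x * y) ^ 2 = 1
        have hx' : x ^ 2 = 1 := hx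
        have hy' : y ^ 2 = 1 := hy
        rw [pow_two] at hx' hy' ⊢
        calc x * y * (x * y) = x * (y * x) * y := by group
          _ = x * (x * y) * y := by rw [hxc y]
          _ = (x * x) * (y * y) := by group
          _ = 1 := by rw [hx', hy', one_mul]
      inv_mem' := by
        intro x hx
        show (x⁻¹) ^ 2 = 1
        have hx' : x ^ 2 = 1 := hx
        rw [inv_pow, hx', inv_one] }
  have hWcard : Nat.card {z : G // z ^ 2 = 1} = Nat.card W := rfl
  obtain ⟨n, hn⟩ := (hG.to_subgroup W).exists_card_eq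
  obtain ⟨k, hk⟩ := hG.exists_card_eq
  have hn1 : n ≠ 0 := by
    rintro rfl
    rw [pow_zero] at hn
    have : W = ⊥ := Subgroup.card_eq_one.mp hn
    have hz0W : z0 ∈ W := hz0sq
    rw [this, Subgroup.mem_bot] at hz0W
    exact hz0ne hz0W
  -- counting
  set s : Finset G := Finset.univ.filter (fun x => x ≠ 1) with hs
  set t : Finset G := Finset.univ.filter (fun z => z ≠ 1 ∧ z ^ 2 = 1) with ht
  have hmaps : ∀ x ∈ s, x ^ (orderOf x / 2) ∈ t := by
    intro x hx
    rw [hs, Finset.mem_filter] at hx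
    rw [ht, Finset.mem_filter]
    exact ⟨Finset.mem_univ _, hinvne x hx.2, hinvsq x hx.2⟩
  have hfib := Finset.card_eq_sum_card_fiberwise hmaps
  set N := (s.filter (fun x => x ^ (orderOf x / 2) = z0)).card with hN
  have hconst : ∀ z ∈ t, (s.filter (fun x => x ^ (orderOf x / 2) = z)).card = N := by
    intro z hz
    rw [ht, Finset.mem_filter] at hz
    obtain ⟨a, ha⟩ := htrans z0 z hz0ne hz0sq hz.2.1 hz.2.2
    rw [hN]
    symm
    apply Finset.card_bij (fun x _ => a x)
    · intro x hx
      rw [Finset.mem_filter, hs, Finset.mem_filter] at hx ⊢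
      refine ⟨⟨Finset.mem_univ _, ?_⟩, ?_⟩
      · intro h; apply hx.1.2; exact (map_eq_one_iff a a.injective).mp h
      · rw [MulEquiv.orderOf_eq, ← map_pow, hx.2, ha]
    · intro x _ y _ h; exact a.injective h
    · intro y hy
      rw [Finset.mem_filter, hs, Finset.mem_filter] at hy
      refine ⟨a.symm y, ?_, by simp⟩
      rw [Finset.mem_filter, hs, Finset.mem_filter]
      refine ⟨⟨Finset.mem_univ _, ?_⟩, ?_⟩
      · intro h; apply hy.1.2; exact (map_eq_one_iff a.symm a.symm.injective).mp h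
      · rw [MulEquiv.orderOf_eq, ← map_pow, hy.2, ← ha, MulEquiv.symm_apply_apply]
  rw [Finset.sum_congr rfl hconst, Finset.sum_const, smul_eq_mul] at hfib
  have hscard : s.card = 2 ^ k - 1 := by
    rw [hs, Finset.filter_ne' , Finset.card_erase_of_mem (Finset.mem_univ _), Finset.card_univ,
      ← Nat.card_eq_fintype_card, hk]
  have htcard : t.card = 2 ^ n - 1 := by
    have h1 : t = (Finset.univ.filter (fun z : G => z ^ 2 = 1)).erase 1 := by
      ext z
      simp [ht]
    rw [h1, Finset.card_erase_of_mem (by simp), ← hn, ← hWcard, Nat.card_eq_fintype_card,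
      Fintype.card_subtype]
  rw [hscard, htcard] at hfib
  have hdvd : 2 ^ n - 1 ∣ 2 ^ k - 1 := ⟨N, hfib⟩
  have hgcd := Nat.pow_sub_one_gcd_pow_sub_one 2 n k
  rw [Nat.gcd_eq_left hdvd] at hgcd
  have h2 : 2 ^ n = 2 ^ Nat.gcd n k := by
    have h3 : 1 ≤ 2 ^ n := Nat.one_le_two_pow
    have h4 : 1 ≤ 2 ^ Nat.gcd n k := Nat.one_le_two_pow
    omega
  have h5 : n = Nat.gcd n k := Nat.pow_right_injective (le_refl 2) h2
  have h6 : n ∣ k := by rw [h5]; exact Nat.gcd_dvd_right n k
  obtain ⟨m, hm⟩ := h6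
  refine ⟨m, ?_⟩
  rw [hWcard, hn, hk, hm, pow_mul]

end Cfsg.Agent.S3774
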