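import Cfsg.Statements.S3775
import Cfsg.Agent.Lib.Helper18.CoprimeAbelian

set_option autoImplicit false
open Cfsg

namespace Cfsg.Agent.S3775

open Cfsg.Agent.Lib.Helper18.CoprimeAbelian

theorem result {A : Type*} [CommGroup A] [Finite A] {p : ℕ} [Fact p.Prime] (hA : IsPGroup p A) (X : Subgroup (MulAut A)) (hX : (Nat.card X).Coprime p) : ((¬ ∃ B C : Subgroup A, B ≠ ⊥ ∧ C ≠ ⊥ ∧ (∀ x ∈ X, B.map x.toMonoidHom = B) ∧ (∀ x ∈ X, C.map x.toMonoidHom = C) ∧ B ⊓ C = ⊥ ∧ B ⊔ C = ⊤) ↔ (∀ B : Subgroup A, (∀ x ∈ X, B.map x.toMonoidHom = B) → ∃ i : ℕ, ∀ a : A, a ∈ B ↔ a ^ p ^ i = 1)) ∧ ((∀ B : Subgroup A, (∀ x ∈ X, B.map x.toMonoidHom = B) → ∃ i : ℕ, ∀ a : A, a ∈ B ↔ a ^ p ^ i = 1) ↔ (∀ B : Subgroup A, (∀ x ∈ X, B.map x.toMonoidHom = B) → (∀ b ∈ B, b ^ p = 1) → B = ⊥ ∨ ∀ a : A, a ∈ B ↔ a ^ p = 1)) := by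
  have hcb : (∀ B : Subgroup A, (∀ x ∈ X, B.map x.toMonoidHom = B) → (∀ b ∈ B, b ^ p = 1) →
      B = ⊥ ∨ ∀ a : A, a ∈ B ↔ a ^ p = 1) →
      (∀ B : Subgroup A, (∀ x ∈ X, B.map x.toMonoidHom = B) →
        ∃ i : ℕ, ∀ a : A, a ∈ B ↔ a ^ p ^ i = 1) := by
    intro hc B hB
    exact omega_of_irreducible hA X (fun B' hB' hB'p => hc B' hB'.map_eq hB'p) B
      (stable_of_map_eq hB)
  have hbc : (∀ B : Subgroup A, (∀ x ∈ X, B.map x.toMonoidHom = B) →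
        ∃ i : ℕ, ∀ a : A, a ∈ B ↔ a ^ p ^ i = 1) →
      (∀ B : Subgroup A, (∀ x ∈ X, B.map x.toMonoidHom = B) → (∀ b ∈ B, b ^ p = 1) →
      B = ⊥ ∨ ∀ a : A, a ∈ B ↔ a ^ p = 1) := by
    intro hb B hB hBp
    obtain ⟨i, hi⟩ := hb B hB
    rcases Nat.eq_zero_or_eq_succ_pred i with h0 | hs
    · left
      rw [eq_bot_iff]
      intro b hb'
      have := (hi b).mp hb'
      rw [h0, pow_zero, pow_one] at this
      rw [Subgroup.mem_bot]
      exact this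
    · right
      intro a
      constructor
      · exact hBp a
      · intro ha
        rw [hi, hs, pow_succ', pow_mul, ha, one_pow]
  refine ⟨⟨?_, ?_⟩, hbc, hcb⟩
  · intro ha
    apply hcb
    intro B hB hBp
    apply irreducible_of_indec hA X hX _ B (stable_of_map_eq hB) hBp
    intro B' C' hB' hC' hinf hsup
    by_contra hcon
    push Not at hcon
    exact ha ⟨B', C', hcon.1, hcon.2, hB'.map_eq, hC'.map_eq, le_antisymm hinf bot_le,
      le_antisymm le_top hsup⟩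
  · rintro hb ⟨B, C, hB, hC, hBi, hCi, hinf, -⟩
    obtain ⟨i, hi⟩ := hb B hBi
    obtain ⟨j, hj⟩ := hb C hCi
    rcases le_total i j with hij | hij
    · apply hB
      rw [eq_bot_iff, ← hinf]
      intro a ha
      rw [Subgroup.mem_inf]
      refine ⟨ha, ?_⟩
      rw [hj]
      obtain ⟨t, rfl⟩ := Nat.exists_eq_add_of_le hij
      rw [pow_add, pow_mul, (hi a).mp ha, one_pow]
    · apply hC
      rw [eq_bot_iff, ← hinf]
      intro a ha
      rw [Subgroup.mem_inf]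
      refine ⟨?_, ha⟩
      rw [hi]
      obtain ⟨t, rfl⟩ := Nat.exists_eq_add_of_le hij
      rw [pow_add, pow_mul, (hj a).mp ha, one_pow]

end Cfsg.Agent.S3775
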