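import Cfsg.Statements.S3778
import Mathlib
import Cfsg.Agent.Lib.Helper22.Breadth

set_option autoImplicit false
open Cfsg

namespace Cfsg.Agent.S3778

/-- If G is a finite p-group in which every conjugacy class has at most p^b elements (every element has centralizer of index at most p^b), then G is abelian when b = 0, and when b ≥ 1 its nilpotency class c satisfies (c − 1)(p − 1) < bp, that is c < bp/(p − 1) + 1, and hence c ≤ 2b. -/
theorem result {G : Type*} [Group G] [Finite G] {p : ℕ} [Fact p.Prime] (hG : IsPGroup p G) (b : ℕ) (hb : ∀ x : G, (Subgroup.centralizer ({x} : Set G)).index ≤ p ^ b) : ∃ c : ℕ, (⊤ : Subgroup G).lowerCentralSeries c = ⊥ ∧ (b ≠ 0 → (c - 1) * (p - 1) < b * p ∧ c ≤ 2 * b) ∧ (b = 0 → c ≤ 1) := by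
  classical
  have hp : p.Prime := Fact.out
  have hnil : Group.IsNilpotent G := hG.isNilpotent
  have hex : ∃ n, Lib.Helper22.Breadth.L G n = ⊥ :=
    Subgroup.nilpotent_iff_lowerCentralSeries.mp hnil
  have hLc : Lib.Helper22.Breadth.L G (Nat.find hex) = ⊥ := Nat.find_spec hex
  have hmin : ∀ m < Nat.find hex, Lib.Helper22.Breadth.L G m ≠ ⊥ :=
    fun m hm => Nat.find_min hex hm
  refine ⟨Nat.find hex, hLc, ?_, ?_⟩
  · intro hb0
    have key : (Nat.find hex - 1) * (p - 1) < b * p :=
      Lib.Helper22.Breadth.class_bound hG b hb0 hb hLc hmin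
    refine ⟨key, ?_⟩
    by_contra hcon
    push Not at hcon
    have h1 : 2 * b * (p - 1) ≤ (Nat.find hex - 1) * (p - 1) :=
      Nat.mul_le_mul_right _ (by omega)
    obtain ⟨q, rfl⟩ : ∃ q, p = q + 2 := ⟨p - 2, by have := hp.two_le; omega⟩
    have h2 : q + 2 - 1 = q + 1 := by omega
    rw [h2] at h1 key
    nlinarith
  · intro hb0
    subst hb0
    apply Nat.find_min' hex
    show Lib.Helper22.Breadth.L G 1 = ⊥
    rw [Lib.Helper22.Breadth.L_succ, eq_bot_iff, Subgroup.commutator_le]
    intro g _ x _
    have h1 := hb x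
    rw [pow_zero] at h1
    have h2 : (Subgroup.centralizer ({x} : Set G)).index = 1 := by
      have : (Subgroup.centralizer ({x} : Set G)).index ≠ 0 := Subgroup.index_ne_zero_of_finite
      omega
    rw [Subgroup.index_eq_one] at h2
    have h3 : g ∈ Subgroup.centralizer ({x} : Set G) := by rw [h2]; exact Subgroup.mem_top g
    have h4 := Subgroup.mem_centralizer_iff.mp h3 x (Set.mem_singleton x)
    rw [Subgroup.mem_bot, commutatorElement_eq_one_iff_mul_comm]
    exact h4.symm

end Cfsg.Agent.S3778
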