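import Cfsg.Statements.S3780
import Mathlib
import Cfsg.Agent.Lib.Helper14.FrattiniQuot

set_option autoImplicit false
open Cfsg

namespace Cfsg.Agent.S3780

/-- Filtration bound: for an endomorphism `N` of a finite additive group with `N ^ k = 0`,
the group has at most `|ker N| ^ k` elements. -/
theorem card_le_of_pow_eq_zero {A : Type*} [AddCommGroup A] [Finite A] (N : AddMonoid.End A) :
    ∀ k : ℕ, Nat.card (N ^ k : A →+ A).ker ≤ (Nat.card (N : A →+ A).ker) ^ k := by
  intro k
  induction k with
  | zero =>
    simp only [pow_zero]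
    have : Subsingleton ((1 : AddMonoid.End A) : A →+ A).ker := by
      refine ⟨fun x y => ?_⟩
      have hx : (1 : AddMonoid.End A) (x : A) = 0 := x.2
      have hy : (1 : AddMonoid.End A) (y : A) = 0 := y.2
      ext
      simp only [AddMonoid.End.coe_one, id_eq] at hx hy
      rw [hx, hy]
    rw [Nat.card_of_subsingleton (0 : ((1 : AddMonoid.End A) : A →+ A).ker)]
  | succ k ih =>
    -- restrict N : ker N^(k+1) → ker N^k
    have hmap : ∀ x : (N ^ (k + 1) : A →+ A).ker, N (x : A) ∈ (N ^ k : A →+ A).ker := by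
      intro x
      have hpow : ∀ y : A, (N ^ (k + 1)) y = (N ^ k) (N y) := fun y => by rw [pow_succ]; rfl
      show (N ^ k) (N (x : A)) = 0
      rw [← hpow]
      exact x.2
    let f : (N ^ (k + 1) : A →+ A).ker →+ (N ^ k : A →+ A).ker :=
      { toFun := fun x => ⟨N (x : A), hmap x⟩
        map_zero' := by ext; simp
        map_add' := fun x y => by ext; simp }
    have h1 : Nat.card f.ker * f.ker.index = Nat.card (N ^ (k + 1) : A →+ A).ker :=
      AddSubgroup.card_mul_index f.ker
    have h2 : f.ker.index = Nat.card f.range := AddSubgroup.index_ker f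
    have h3 : Nat.card f.range ≤ Nat.card (N ^ k : A →+ A).ker :=
      Nat.card_le_card_of_injective _ (AddSubgroup.subtype_injective _)
    have h4 : Nat.card f.ker ≤ Nat.card (N : A →+ A).ker := by
      let g : f.ker → (N : A →+ A).ker := fun x => ⟨((x : (N ^ (k + 1) : A →+ A).ker) : A), by
        have hx : f (x : (N ^ (k + 1) : A →+ A).ker) = 0 := x.2
        have := congrArg Subtype.val hx
        exact this⟩
      apply Nat.card_le_card_of_injective g
      intro x y hxy
      have := congrArg Subtype.val hxy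
      exact Subtype.ext (Subtype.ext this)
    calc Nat.card (N ^ (k + 1) : A →+ A).ker = Nat.card f.ker * Nat.card f.range := by
          rw [← h1, h2]
      _ ≤ Nat.card (N : A →+ A).ker * (Nat.card (N : A →+ A).ker) ^ k :=
          Nat.mul_le_mul h4 (h3.trans ih)
      _ = (Nat.card (N : A →+ A).ker) ^ (k + 1) := by rw [pow_succ']

/-- Core: a finite additive group of exponent `p` with an endomorphism `a`, `a ^ p = 1`, has at
most `|Fix a| ^ p` elements. -/
theorem core {A : Type*} [AddCommGroup A] [Finite A] (p : ℕ) [Fact p.Prime]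
    (hpA : ∀ x : A, p • x = 0) (a : AddMonoid.End A) (hap : a ^ p = 1) :
    Nat.card A ≤ (Nat.card {x : A // a x = x}) ^ p := by
  have hp : p.Prime := Fact.out
  haveI : Nonempty {x : A // a x = x} := ⟨⟨0, map_zero a⟩⟩
  by_cases hA : Subsingleton A
  · rw [Nat.card_of_subsingleton (0 : A)]
    exact Nat.one_le_pow _ _ Nat.card_pos
  rw [not_subsingleton_iff_nontrivial] at hA
  haveI : Nontrivial (AddMonoid.End A) := by
    obtain ⟨y, hy⟩ := exists_ne (0 : A)
    refine ⟨⟨1, 0, fun h => hy ?_⟩⟩
    have := DFunLike.congr_fun h y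
    simpa using this
  have hpR : ((p : ℕ) : AddMonoid.End A) = 0 := by
    ext y
    rw [AddMonoid.End.natCast_apply]
    exact hpA y
  haveI : CharP (AddMonoid.End A) p := (CharP.charP_iff_prime_eq_zero hp).mpr hpR
  obtain ⟨N, hN⟩ : ∃ N : AddMonoid.End A, N = a - 1 := ⟨_, rfl⟩
  have hNp : N ^ p = 0 := by
    rw [hN, sub_pow_char_of_commute p (Commute.one_right a), hap, one_pow, sub_self]
  have h1 := card_le_of_pow_eq_zero N p
  have hker_top : Nat.card (N ^ p : A →+ A).ker = Nat.card A := by
    rw [hNp]
    have : ((0 : AddMonoid.End A) : A →+ A).ker = ⊤ := by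
      ext y
      simp only [AddMonoidHom.mem_ker, AddSubgroup.mem_top, iff_true]
      rfl
    rw [this]
    exact (Nat.card_congr (AddSubgroup.topEquiv (G := A)).toEquiv)
  have hkerN : Nat.card (N : A →+ A).ker ≤ Nat.card {x : A // a x = x} := by
    let g : (N : A →+ A).ker → {x : A // a x = x} := fun y =>
      ⟨(y : A), by
        have hy : N (y : A) = 0 := y.2
        have hNy : ∀ t : A, N t = a t - t := fun t => by rw [hN]; rfl
        rw [hNy] at hy
        exact sub_eq_zero.mp hy⟩
    apply Nat.card_le_card_of_injective g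
    intro y z hyz
    have := congrArg Subtype.val hyz
    exact Subtype.ext this
  calc Nat.card A = Nat.card (N ^ p : A →+ A).ker := hker_top.symm
    _ ≤ (Nat.card (N : A →+ A).ker) ^ p := h1
    _ ≤ _ := Nat.pow_le_pow_left hkerN p

/-- Multiplicative version of `core`. -/
theorem bridge {W : Type*} [CommGroup W] [Finite W] (p : ℕ) [Fact p.Prime]
    (hW : ∀ w : W, w ^ p = 1) (β : W →* W) (hβ : ∀ w, β^[p] w = w) :
    Nat.card W ≤ (Nat.card {w : W // β w = w}) ^ p := by
  obtain ⟨a, ha⟩ : ∃ a : AddMonoid.End (Additive W), a = MonoidHom.toAdditive β := ⟨_, rfl⟩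
  have ha_apply : ∀ y : Additive W, a y = Additive.ofMul (β (Additive.toMul y)) := by
    intro y; rw [ha]; rfl
  have hapow : ∀ (k : ℕ) (y : Additive W), (a ^ k) y = Additive.ofMul (β^[k] (Additive.toMul y)) := by
    intro k
    induction k with
    | zero => intro y; rfl
    | succ k ih =>
      intro y
      have e1 : (a ^ (k + 1)) y = a ((a ^ k) y) := by rw [pow_succ']; rfl
      rw [e1, ih, ha_apply, Function.iterate_succ_apply']
      rfl
  have hap : a ^ p = 1 := by
    ext y
    rw [hapow p y, hβ]
    rfl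
  have hpA : ∀ x : Additive W, p • x = 0 := by
    intro x
    show Additive.ofMul ((Additive.toMul x) ^ p) = 0
    rw [hW]; rfl
  have h := core p hpA a hap
  have e1 : Nat.card (Additive W) = Nat.card W := rfl
  have e2 : Nat.card {x : Additive W // a x = x} = Nat.card {w : W // β w = w} := by
    apply Nat.card_congr
    refine { toFun := fun x => ⟨Additive.toMul x.1, ?_⟩
             invFun := fun w => ⟨Additive.ofMul w.1, ?_⟩
             left_inv := fun x => rfl
             right_inv := fun w => rfl }
    · have := x.2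
      rw [ha_apply] at this
      exact congrArg Additive.toMul this
    · rw [ha_apply]
      exact congrArg Additive.ofMul w.2
  rw [e1, e2] at h
  exact h

theorem result {V : Type*} [CommGroup V] [Finite V] {p : ℕ} [Fact p.Prime] (hV : IsPGroup p V) (α : MulAut V) (hα : orderOf α = p) (n : ℕ) (hfix : Nat.card {v : V // α v = v} = p ^ n) : ∃ S : Finset V, S.card ≤ p * n ∧ Subgroup.closure (S : Set V) = ⊤ := by
  classical
  have hp : p.Prime := Fact.out
  obtain ⟨e, he⟩ := IsPGroup.iff_card.mp hV
  obtain ⟨r, -, hr⟩ := (Nat.dvd_prime_pow hp).mp (he ▸ (frattini V).index_dvd_card)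
  obtain ⟨x, hx⟩ := Cfsg.Agent.Lib.Helper14.exists_generating_tuple hV hr
  suffices hrn : r ≤ p * n by
    refine ⟨Finset.univ.image x, ?_, ?_⟩
    · exact (Finset.card_image_le).trans (by simpa using hrn)
    · rw [Finset.coe_image, Finset.coe_univ, Set.image_univ]; exact hx
  obtain ⟨f, hf⟩ : ∃ f : V →* V, f = powMonoidHom p := ⟨_, rfl⟩
  have hfa : ∀ v : V, f v = v ^ p := fun v => by rw [hf]; rfl
  have hrange : f.range ≤ frattini V := by
    rintro _ ⟨v, rfl⟩
    rw [hfa]
    exact Cfsg.Agent.Lib.Helper14.pow_mem_frattini_of_isPGroup' hV v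
  have h1 : p ^ r ∣ f.range.index := hr ▸ Subgroup.index_dvd_of_le hrange
  have h2 : f.range.index = Nat.card f.ker := by
    have a1 := Subgroup.card_mul_index f.ker
    rw [Subgroup.index_ker] at a1
    have a2 := Subgroup.card_mul_index f.range
    have hpos : 0 < Nat.card f.range := Nat.card_pos
    have : Nat.card f.range * f.range.index = Nat.card f.range * Nat.card f.ker := by
      rw [a2, ← a1, mul_comm]
    exact Nat.eq_of_mul_eq_mul_left hpos this
  have h3 : p ^ r ≤ Nat.card f.ker := by
    rw [← h2]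
    exact Nat.le_of_dvd (Nat.pos_of_ne_zero (Subgroup.index_ne_zero_of_finite)) h1
  suffices hW : Nat.card f.ker ≤ (p ^ n) ^ p by
    have h4 : p ^ r ≤ p ^ (n * p) := by
      rw [pow_mul]; exact h3.trans hW
    have := (Nat.pow_le_pow_iff_right hp.one_lt).mp h4
    rwa [mul_comm] at this
  have hαW : ∀ w : f.ker, α (w : V) ∈ f.ker := by
    intro w
    rw [MonoidHom.mem_ker, hfa, ← map_pow, ← hfa]
    have : f (w : V) = 1 := w.2
    rw [this, map_one]
  obtain ⟨β, hβ⟩ : ∃ β : f.ker →* f.ker, ∀ w : f.ker, ((β w : f.ker) : V) = α (w : V) :=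
    ⟨{ toFun := fun w => ⟨α (w : V), hαW w⟩
       map_one' := Subtype.ext (map_one α)
       map_mul' := fun u v => Subtype.ext (map_mul α _ _) }, fun w => rfl⟩
  have hβk : ∀ (k : ℕ) (w : f.ker), ((β^[k] w : f.ker) : V) = (α ^ k) (w : V) := by
    intro k
    induction k with
    | zero => intro w; rfl
    | succ k ih =>
      intro w
      rw [Function.iterate_succ_apply', hβ, ih, pow_succ']
      rfl
  have hαp : α ^ p = 1 := by rw [← hα]; exact pow_orderOf_eq_one α
  have hβp : ∀ w : f.ker, β^[p] w = w := by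
    intro w
    apply Subtype.ext
    rw [hβk, hαp]
    rfl
  have hWp : ∀ w : f.ker, w ^ p = 1 := by
    intro w
    apply Subtype.ext
    rw [Subgroup.coe_pow, ← hfa]
    exact w.2
  have hb := bridge p hWp β hβp
  have hfixle : Nat.card {w : f.ker // β w = w} ≤ p ^ n := by
    rw [← hfix]
    let g : {w : f.ker // β w = w} → {v : V // α v = v} := fun w =>
      ⟨((w : f.ker) : V), by rw [← hβ, w.2]⟩
    apply Nat.card_le_card_of_injective g
    intro y z hyz
    have := congrArg Subtype.val hyz
    exact Subtype.ext (Subtype.ext this)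
  exact hb.trans (Nat.pow_le_pow_left hfixle p)

end Cfsg.Agent.S3780

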