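import Cfsg.Statements.S3781
import Mathlib
import Cfsg.Agent.S3872
import Cfsg.Agent.Lib.Helper22.HallPetrescu

set_option autoImplicit false
open Cfsg

namespace Cfsg.Agent.S3781

section
variable {G : Type*} [Group G]

/-- descending series `M, [M,G], [M,G,G], ...` -/
def dser (M : Subgroup G) : ℕ → Subgroup G
  | 0 => M
  | j + 1 => ⁅dser M j, (⊤ : Subgroup G)⁆

theorem dser_zero (M : Subgroup G) : dser M 0 = M := rfl

theorem dser_succ (M : Subgroup G) (j : ℕ) :
    dser M (j + 1) = ⁅dser M j, (⊤ : Subgroup G)⁆ := rfl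

instance dser_normal (M : Subgroup G) [hM : M.Normal] (j : ℕ) : (dser M j).Normal := by
  induction j with
  | zero => exact hM
  | succ j ih => rw [dser_succ]; infer_instance

theorem dser_antitone (M : Subgroup G) [M.Normal] : Antitone (dser M) := by
  refine antitone_nat_of_succ_le fun j => ?_
  rw [dser_succ]
  exact Subgroup.commutator_le_left _ _

theorem dser_le_lcs (M : Subgroup G) (j : ℕ) :
    dser M j ≤ (⊤ : Subgroup G).lowerCentralSeries j := by
  induction j with
  | zero => exact le_top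
  | succ j ih => exact Subgroup.commutator_mono ih le_rfl

theorem dser_comm_lcs (M : Subgroup G) [M.Normal] : ∀ (k j : ℕ),
    ⁅dser M j, (⊤ : Subgroup G).lowerCentralSeries k⁆ ≤ dser M (j + k + 1) := by
  intro k
  induction k with
  | zero => intro j; exact le_of_eq rfl
  | succ k ih =>
    intro j
    rw [Subgroup.commutator_comm]
    show ⁅⁅(⊤ : Subgroup G).lowerCentralSeries k, (⊤ : Subgroup G)⁆, dser M j⁆ ≤ _
    apply Cfsg.Agent.Lib.Helper22.three_subgroups_le
    · rw [Subgroup.commutator_comm (⊤ : Subgroup G)]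
      have := ih (j + 1)
      have e : j + 1 + k + 1 = j + (k + 1) + 1 := by omega
      rw [e] at this
      exact this
    · have h1 := ih j
      have h2 := Subgroup.commutator_mono h1 (le_refl (⊤ : Subgroup G))
      have e : j + (k + 1) + 1 = (j + k + 1) + 1 := by omega
      rw [e]
      exact h2

theorem comm_top_le_iff (X Y : Subgroup G) [Y.Normal] :
    ⁅X, (⊤ : Subgroup G)⁆ ≤ Y ↔
      X.map (QuotientGroup.mk' Y) ≤ Subgroup.center (G ⧸ Y) := by
  rw [← Subgroup.commutator_top_right_eq_bot_iff_le_center,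
    ← Subgroup.map_top_of_surjective (QuotientGroup.mk' Y) (QuotientGroup.mk'_surjective Y),
    ← Subgroup.map_commutator, Subgroup.map_eq_bot_iff, QuotientGroup.ker_mk']

theorem sup_comm_top_le (A K Y : Subgroup G) [Y.Normal] (h1 : ⁅A, (⊤ : Subgroup G)⁆ ≤ Y)
    (h2 : ⁅K, (⊤ : Subgroup G)⁆ ≤ Y) : ⁅A ⊔ K, (⊤ : Subgroup G)⁆ ≤ Y := by
  rw [comm_top_le_iff] at *
  rw [Subgroup.map_sup]
  exact sup_le h1 h2

/-- in a nilpotent group, `L ≤ [L, G]` forces `L = ⊥` -/
theorem eq_bot_of_le_comm_top [hnil : Group.IsNilpotent G] (L : Subgroup G)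
    (h : L ≤ ⁅L, (⊤ : Subgroup G)⁆) : L = ⊥ := by
  have hall : ∀ m, L ≤ (⊤ : Subgroup G).lowerCentralSeries m := by
    intro m
    induction m with
    | zero => exact le_top
    | succ m ih => exact h.trans (Subgroup.commutator_mono ih le_rfl)
  obtain ⟨m, hm⟩ := Subgroup.nilpotent_iff_lowerCentralSeries.mp hnil
  rw [eq_bot_iff, ← hm]
  exact hall m

end

/-- Let G be a finite p-group and n ≥ 1, and write γ_1(G) = G, γ_{k+1}(G) = [γ_k(G), G], and likewise γ_k(N) for a subgroup N. Let N be a normal subgroup of G contained in γ_n(G). If i > 1 and γ_{i+1}(N) ≠ 1, then |γ_i(N) : γ_{i+1}(N)| ≥ p^n. -/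
theorem result {G : Type*} [Group G] [Finite G] {p : ℕ} [Fact p.Prime] (hG : IsPGroup p G) (n : ℕ) (hn : 1 ≤ n) (N : Subgroup G) [N.Normal] (hN : N ≤ (⊤ : Subgroup G).lowerCentralSeries (n - 1)) (i : ℕ) (hi : 1 < i) (hne : N.lowerCentralSeries i ≠ ⊥) : p ^ n ≤ (N.lowerCentralSeries i).relIndex (N.lowerCentralSeries (i - 1)) := by
  have hp : p.Prime := Fact.out
  haveI hnil : Group.IsNilpotent G := hG.isNilpotent
  obtain ⟨i', rfl⟩ : ∃ i', i = i' + 1 := ⟨i - 1, by omega⟩
  rw [Nat.add_sub_cancel]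
  set M := N.lowerCentralSeries i' with hM
  set L := N.lowerCentralSeries (i' + 1) with hL
  have hLdef : L = ⁅M, N⁆ := rfl
  set K := ⁅L, (⊤ : Subgroup G)⁆ with hK
  have hKL : K ≤ L := Subgroup.commutator_le_left _ _
  have hLM : L ≤ M := N.lowerCentralSeries_antitone (Nat.le_succ i')
  have hLn : L ≤ dser M n := by
    have h1 : ⁅M, N⁆ ≤ ⁅dser M 0, (⊤ : Subgroup G).lowerCentralSeries (n - 1)⁆ :=
      Subgroup.commutator_mono le_rfl hN
    have h2 := dser_comm_lcs M (n - 1) 0
    have e : 0 + (n - 1) + 1 = n := by omega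
    rw [e] at h2
    rw [hLdef]
    exact h1.trans h2
  have hKK : ⁅K, (⊤ : Subgroup G)⁆ ≤ K := Subgroup.commutator_le_left _ _
  -- the chain
  have hC0 : dser M 0 ⊔ K = M := sup_eq_left.mpr (hKL.trans hLM)
  have hstrict : ∀ j, j < n → dser M (j + 1) ⊔ K < dser M j ⊔ K := by
    intro j hj
    refine lt_of_le_of_ne (sup_le_sup_right (dser_antitone M (Nat.le_succ j)) K) ?_
    intro heq
    have h0 : dser M j ≤ dser M (j + 1) ⊔ K := by
      rw [heq]; exact le_sup_left
    have hall : ∀ m, dser M j ≤ dser M (j + 1 + m) ⊔ K := by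
      intro m
      induction m with
      | zero => exact h0
      | succ m ih =>
        have h1 : dser M (j + 1) ≤ dser M (j + 1 + (m + 1)) ⊔ K := by
          rw [dser_succ M j]
          refine (Subgroup.commutator_mono ih (le_refl (⊤ : Subgroup G))).trans ?_
          apply sup_comm_top_le
          · exact le_sup_left
          · exact hKK.trans le_sup_right
        exact h0.trans (sup_le h1 le_sup_right)
    obtain ⟨c, hc⟩ := Subgroup.nilpotent_iff_lowerCentralSeries.mp hnil
    have hbot : dser M (j + 1 + c) = ⊥ := by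
      rw [eq_bot_iff, ← hc]
      exact (dser_le_lcs M (j + 1 + c)).trans
        ((⊤ : Subgroup G).lowerCentralSeries_antitone (by omega))
    have hjK : dser M j ≤ K := by
      have := hall c
      rwa [hbot, bot_sup_eq] at this
    have hLK : L ≤ K := hLn.trans ((dser_antitone M hj.le).trans hjK)
    exact hne (eq_bot_of_le_comm_top L hLK)
  have hcard : ∀ j, j ≤ n → p ^ j * Nat.card ↥(dser M j ⊔ K) ≤ Nat.card ↥M := by
    intro j
    induction j with
    | zero => intro _; rw [pow_zero, one_mul, hC0]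
    | succ j ih =>
      intro hj
      have h1 := Cfsg.Agent.S3872.card_mul_le_of_lt hp hG _ _ (hstrict j (by omega))
      calc p ^ (j + 1) * Nat.card ↥(dser M (j + 1) ⊔ K)
          = p ^ j * (p * Nat.card ↥(dser M (j + 1) ⊔ K)) := by rw [pow_succ, mul_assoc]
        _ ≤ p ^ j * Nat.card ↥(dser M j ⊔ K) := Nat.mul_le_mul_left _ h1
        _ ≤ Nat.card ↥M := ih (by omega)
  have h1 : Nat.card ↥L ≤ Nat.card ↥(dser M n ⊔ K) :=
    Subgroup.card_le_of_le (hLn.trans le_sup_left)
  have h2 : Nat.card ↥L * L.relIndex M = Nat.card ↥M := by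
    have := Subgroup.relIndex_mul_relIndex (⊥ : Subgroup G) L M bot_le hLM
    rwa [Subgroup.relIndex_bot_left, Subgroup.relIndex_bot_left] at this
  have h3 : Nat.card ↥L * p ^ n ≤ Nat.card ↥L * L.relIndex M := by
    rw [h2]
    calc Nat.card ↥L * p ^ n = p ^ n * Nat.card ↥L := mul_comm _ _
      _ ≤ p ^ n * Nat.card ↥(dser M n ⊔ K) := Nat.mul_le_mul_left _ h1
      _ ≤ Nat.card ↥M := hcard n le_rfl
  exact Nat.le_of_mul_le_mul_left h3 Nat.card_pos

end Cfsg.Agent.S3781
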