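import Cfsg.Statements.S3783
import Mathlib
import Cfsg.Agent.Lib.Helper15.HHf

set_option autoImplicit false
open Cfsg

namespace Cfsg.Agent.S3783

/-- Let G be a finite p-soluble group in which, for every prime q ≠ p, the Sylow q-subgroups are abelian. If the Sylow p-subgroups of G have exponent dividing p^n, then G has p-length at most n. -/
theorem result {G : Type*} [Group G] [Finite G] {p : ℕ} [Fact p.Prime] (hG : Cfsg.IsPSolvable p G) (hab : ∀ (q : ℕ) [Fact q.Prime], q ≠ p → ∀ Q : Sylow q G, IsMulCommutative (Q : Subgroup G)) (n : ℕ) (hexp : ∀ (P : Sylow p G), ∀ x ∈ (P : Subgroup G), x ^ p ^ n = 1) : Cfsg.PLengthLE p n G := by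
  classical
  apply Cfsg.Agent.Lib.Helper15.HH.plength_le_aux (p := p) n G hG
  · intro q _ hqp S a ha b hb
    have := hab q hqp S
    have h1 : (⟨a, ha⟩ : (S : Subgroup G)) * ⟨b, hb⟩ = ⟨b, hb⟩ * ⟨a, ha⟩ := mul_comm' _ _
    exact congrArg Subtype.val h1
  · rintro y ⟨j, hj⟩
    have hy : IsPGroup p (Subgroup.zpowers y) := by
      rintro ⟨_, k, rfl⟩
      refine ⟨j, Subtype.ext ?_⟩
      simp only [Subgroup.coe_pow, Subgroup.coe_one]
      rw [← zpow_natCast, ← zpow_mul, mul_comm, zpow_mul, zpow_natCast, hj, one_zpow]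
    obtain ⟨P, hP⟩ := hy.exists_le_sylow
    exact hexp P y (hP (Subgroup.mem_zpowers y))

end Cfsg.Agent.S3783
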