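-- Statement S3784: prime powers differing by one.
import Cfsg.Statements.S3784
import Mathlib

set_option autoImplicit false
open Cfsg

namespace Cfsg.Agent.S3784

open Finset

/-- If `x, y` are odd integers and `n` is odd with `x ^ n - y ^ n = ± 2 ^ m`-like (a divisor of a
power of two), then `|x ^ n - y ^ n| = |x - y|`. -/
theorem natAbs_pow_sub_pow_of_dvd_two_pow (x y : ℤ) (hx : Odd x) (hy : Odd y) (n : ℕ) (hn : Odd n)
    (m : ℕ) (h : x ^ n - y ^ n ∣ 2 ^ m) : (x ^ n - y ^ n).natAbs = (x - y).natAbs := by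
  set S : ℤ := ∑ i ∈ range n, x ^ i * y ^ (n - 1 - i) with hS
  have hmul : S * (x - y) = x ^ n - y ^ n := geom_sum₂_mul x y n
  have hgen : ∀ (f : ℕ → ℤ), (∀ i, Odd (f i)) → ∀ k : ℕ, Even ((∑ i ∈ range k, f i) - (k : ℤ)) := by
    intro f hf k
    induction k with
    | zero => simp
    | succ k ih =>
      rw [Finset.sum_range_succ]
      have e : (∑ i ∈ range k, f i) + f k - ((k + 1 : ℕ) : ℤ) =
          ((∑ i ∈ range k, f i) - (k : ℤ)) + (f k - 1) := by push_cast; ring
      rw [e]
      exact ih.add ((hf k).sub_odd odd_one)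
  have hSodd : Odd S := by
    have h1 := hgen (fun i => x ^ i * y ^ (n - 1 - i)) (fun i => (hx.pow).mul (hy.pow)) n
    have h2 : Odd ((n : ℕ) : ℤ) := by exact_mod_cast hn
    have e : S = (S - (n : ℤ)) + (n : ℤ) := by ring
    rw [e]
    exact h1.add_odd h2
  have hSdvd : S ∣ 2 ^ m := (Dvd.intro _ hmul).trans h
  have hSabs : S.natAbs = 1 := by
    have h1 : S.natAbs ∣ 2 ^ m := by
      have := Int.natAbs_dvd_natAbs.mpr hSdvd
      simpa [Int.natAbs_pow] using this
    obtain ⟨d, -, hd⟩ := (Nat.dvd_prime_pow Nat.prime_two).mp h1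
    rcases Nat.eq_zero_or_pos d with rfl | hdpos
    · simpa using hd
    · exfalso
      have heven : Even S.natAbs := by
        rw [hd]; exact (Nat.even_pow.mpr ⟨even_two, hdpos.ne'⟩)
      have : Odd S.natAbs := Int.natAbs_odd.mpr hSodd
      exact (Nat.not_even_iff_odd.mpr this) heven
  rw [← hmul, Int.natAbs_mul, hSabs, one_mul]

theorem result (p q a b : ℕ) (hp : p.Prime) (hq : q.Prime) (ha : 1 ≤ a) (hb : 1 ≤ b) (h : p ^ a = q ^ b + 1) : (p = 2 ∧ b = 1 ∧ a.Prime ∧ q + 1 = 2 ^ a) ∨ (q = 2 ∧ a = 1 ∧ (∃ m : ℕ, b = 2 ^ m) ∧ p = 2 ^ b + 1) ∨ (p ^ a = 9 ∧ q ^ b = 8) := by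
  have ha0 : a ≠ 0 := by omega
  have hb0 : b ≠ 0 := by omega
  rcases hp.eq_two_or_odd' with rfl | hpodd
  · -- `p = 2`
    left
    have hqodd : Odd q := by
      rcases hq.eq_two_or_odd' with rfl | hqo
      · exfalso
        have h1 : Even (2 ^ a) := Nat.even_pow.mpr ⟨even_two, ha0⟩
        have h2 : Odd (2 ^ b + 1) := (Nat.even_pow.mpr ⟨even_two, hb0⟩).add_one
        rw [h] at h1
        exact (Nat.not_even_iff_odd.mpr h2) h1
      · exact hqo
    have hb1 : b = 1 := by
      rcases Nat.even_or_odd b with hbe | hbo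
      · -- `b` even: contradiction modulo 8
        exfalso
        obtain ⟨k, rfl⟩ := hbe
        have hk0 : k ≠ 0 := by omega
        have h8 : 8 ∣ (q ^ k) ^ 2 - 1 := Nat.eight_dvd_sq_sub_one_of_odd hqodd.pow
        have hpos : 1 ≤ (q ^ k) ^ 2 := Nat.one_le_pow _ _ (Nat.pos_of_ne_zero (pow_ne_zero _ hq.ne_zero))
        have e : q ^ (k + k) = (q ^ k) ^ 2 := by rw [← pow_mul, mul_two]
        rw [e] at h
        have hq2 : 2 ≤ q ^ k := by
          calc 2 ≤ q := hq.two_le
            _ = q ^ 1 := (pow_one q).symm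
            _ ≤ q ^ k := Nat.pow_le_pow_right hq.pos (by omega)
        have hge : 4 ≤ (q ^ k) ^ 2 := by nlinarith
        -- `2 ^ a = (q^k)^2 + 1 ≡ 2 (mod 8)` and `2 ^ a ≥ 5`
        have ha3 : 3 ≤ a := by
          by_contra hlt
          have : a = 1 ∨ a = 2 := by omega
          rcases this with rfl | rfl <;> omega
        obtain ⟨c, rfl⟩ : ∃ c, a = 3 + c := ⟨a - 3, by omega⟩
        have h8' : 8 ∣ 2 ^ (3 + c) := ⟨2 ^ c, by rw [pow_add]; norm_num⟩
        omega
      · -- `b` odd: cofactor argument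
        have hdvd : ((q : ℤ) ^ b - (-1) ^ b) ∣ 2 ^ a := by
          rw [hbo.neg_one_pow, sub_neg_eq_add]
          exact ⟨1, by rw [mul_one]; exact_mod_cast h⟩
        have hqZ : Odd (q : ℤ) := by exact_mod_cast hqodd
        have := natAbs_pow_sub_pow_of_dvd_two_pow (q : ℤ) (-1) hqZ (by decide) b hbo a hdvd
        rw [hbo.neg_one_pow, sub_neg_eq_add, sub_neg_eq_add] at this
        have e1 : ((q : ℤ) ^ b + 1).natAbs = q ^ b + 1 := by
          have : ((q : ℤ) ^ b + 1) = ((q ^ b + 1 : ℕ) : ℤ) := by push_cast; ring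
          rw [this, Int.natAbs_natCast]
        have e2 : ((q : ℤ) + 1).natAbs = q + 1 := by
          have : ((q : ℤ) + 1) = ((q + 1 : ℕ) : ℤ) := by push_cast; ring
          rw [this, Int.natAbs_natCast]
        rw [e1, e2] at this
        have hqb : q ^ b = q := by omega
        exact (Nat.pow_eq_self_iff hq.one_lt).mp hqb
    subst hb1
    rw [pow_one] at h
    refine ⟨rfl, rfl, ?_, h.symm⟩
    have ha1 : a ≠ 1 := by
      rintro rfl
      have : q = 1 := by omega
      exact hq.ne_one this
    have hprime : (2 ^ a - 1).Prime := by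
      have : 2 ^ a - 1 = q := by omega
      rw [this]; exact hq
    exact (Nat.prime_of_pow_sub_one_prime ha1 hprime).2
  · -- `p` odd, hence `q = 2`
    right
    have hq2 : q = 2 := by
      rcases hq.eq_two_or_odd' with rfl | hqo
      · rfl
      · exfalso
        have h1 : Odd (p ^ a) := hpodd.pow
        have h2 : Even (q ^ b + 1) := hqo.pow.add_one
        rw [h] at h1
        exact (Nat.not_even_iff_odd.mpr h1) h2
    subst hq2
    rcases Nat.even_or_odd a with hae | hao
    · -- `a` even: `p ^ a = 9`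
      right
      obtain ⟨k, rfl⟩ := hae
      have hk0 : k ≠ 0 := by omega
      set x : ℕ := p ^ k with hx
      have e : p ^ (k + k) = x * x := by rw [hx, ← pow_add]
      rw [e] at h
      have hx2 : 2 ≤ x := by
        calc 2 ≤ p := hp.two_le
          _ = p ^ 1 := (pow_one p).symm
          _ ≤ p ^ k := Nat.pow_le_pow_right hp.pos (by omega)
      have hfac : (x - 1) * (x + 1) = 2 ^ b := by
        have hgen : ∀ z : ℕ, 1 ≤ z → (z - 1) * (z + 1) = z * z - 1 := by
          intro z hz
          obtain ⟨y, rfl⟩ : ∃ y, z = y + 1 := ⟨z - 1, by omega⟩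
          have : (y + 1) * (y + 1) = y * (y + 1 + 1) + 1 := by ring
          rw [this]; simp
        rw [hgen x (by omega), h]; simp
      obtain ⟨i, -, hi⟩ := (Nat.dvd_prime_pow Nat.prime_two).mp (Dvd.intro _ hfac)
      obtain ⟨j, -, hj⟩ := (Nat.dvd_prime_pow Nat.prime_two).mp (Dvd.intro_left _ hfac)
      -- `2 ^ j = 2 ^ i + 2`
      have hij : 2 ^ j = 2 ^ i + 2 := by omega
      have hi1 : i = 1 := by
        rcases Nat.lt_or_ge i 2 with hlt | hge
        · interval_cases i
          · -- `2 ^ j = 3` impossible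
            exfalso
            have : 2 ^ j = 3 := by simpa using hij
            rcases Nat.lt_or_ge j 2 with hj2 | hj2
            · interval_cases j <;> simp at this
            · have : 4 ∣ 2 ^ j := ⟨2 ^ (j - 2), by
                have : (4 : ℕ) = 2 ^ 2 := by norm_num
                rw [this, ← pow_add]; congr 1; omega⟩
              omega
          · rfl
        · exfalso
          have h4i : 4 ∣ 2 ^ i := ⟨2 ^ (i - 2), by
            have : (4 : ℕ) = 2 ^ 2 := by norm_num
            rw [this, ← pow_add]; congr 1; omega⟩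
          have hjge : 2 ≤ j := by
            by_contra hlt
            have : j = 0 ∨ j = 1 := by omega
            have h4le : 4 ≤ 2 ^ i := Nat.le_of_dvd (by positivity) h4i
            rcases this with rfl | rfl <;> omega
          have h4j : 4 ∣ 2 ^ j := ⟨2 ^ (j - 2), by
            have : (4 : ℕ) = 2 ^ 2 := by norm_num
            rw [this, ← pow_add]; congr 1; omega⟩
          omega
      subst hi1
      have hx3 : x = 3 := by omega
      rw [hx3] at h
      constructor
      · rw [e, hx3]
      · omega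
    · -- `a` odd: cofactor argument gives `a = 1`
      left
      have hdvd : ((p : ℤ) ^ a - 1 ^ a) ∣ 2 ^ b := by
        rw [one_pow]
        refine ⟨1, ?_⟩
        rw [mul_one]
        have : ((p ^ a : ℕ) : ℤ) = ((2 ^ b + 1 : ℕ) : ℤ) := by rw [h]
        push_cast at this
        linarith
      have hpZ : Odd (p : ℤ) := by exact_mod_cast hpodd
      have := natAbs_pow_sub_pow_of_dvd_two_pow (p : ℤ) 1 hpZ (by decide) a hao b hdvd
      rw [one_pow] at this
      have hp1 : 1 ≤ p := hp.pos
      have hpa1 : 1 ≤ p ^ a := Nat.one_le_pow _ _ hp.pos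
      have e1 : ((p : ℤ) ^ a - 1).natAbs = p ^ a - 1 := by
        have : ((p : ℤ) ^ a - 1) = ((p ^ a - 1 : ℕ) : ℤ) := by
          rw [Nat.cast_sub hpa1]; push_cast; ring
        rw [this, Int.natAbs_natCast]
      have e2 : ((p : ℤ) - 1).natAbs = p - 1 := by
        have : ((p : ℤ) - 1) = ((p - 1 : ℕ) : ℤ) := by
          rw [Nat.cast_sub hp1]; push_cast; ring
        rw [this, Int.natAbs_natCast]
      rw [e1, e2] at this
      have hpa : p ^ a = p := by omega
      have ha1 : a = 1 := (Nat.pow_eq_self_iff hp.one_lt).mp hpa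
      subst ha1
      rw [pow_one] at h
      refine ⟨rfl, rfl, ?_, h⟩
      exact Nat.pow_of_pow_add_prime (by norm_num) hb0 (h ▸ hp)

end Cfsg.Agent.S3784
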