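import Mathlib
import Cfsg.Statements.S3785
import Cfsg.Agent.S0044
import Cfsg.Agent.Lib.Helper2.Cores
import Cfsg.Agent.Lib.Helper1.OmegaOne

set_option autoImplicit false
open Cfsg

namespace Cfsg.Agent.S3785

open Cfsg.Agent.Lib.Helper2 Cfsg.Agent.Lib.Helper1

/-- the part of `F(G)` away from `q` -/
def otherPart (G : Type*) [Group G] (q : ℕ) : Subgroup G :=
  sSup {N : Subgroup G | ∃ p : ℕ, p.Prime ∧ p ≠ q ∧ N = pCore p G}

theorem otherPart_normal {G : Type*} [Group G] (q : ℕ) : (otherPart G q).Normal :=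
  Subgroup.sSup_normal _ (by rintro N ⟨p, _, _, rfl⟩; exact Cfsg.pCore_normal p G)

theorem fitting_le_sup {G : Type*} [Group G] [Finite G] (q : ℕ) :
    fittingSubgroup G ≤ pCore q G ⊔ otherPart G q := by
  rw [fittingSubgroup_eq_iSup_pCore]
  apply iSup_le
  intro p
  by_cases hpq : (p : ℕ) = q
  · rw [hpq]; exact le_sup_left
  · exact le_trans (le_sSup (show pCore (p : ℕ) G ∈ {N : Subgroup G | ∃ p' : ℕ, p'.Prime ∧ p' ≠ q ∧ N = pCore p' G} from ⟨p, p.2, hpq, rfl⟩)) le_sup_right

theorem mem_otherPart {G : Type*} [Group G] [Finite G] (q : ℕ) [Fact q.Prime] (h : G)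
    (hF : h ∈ fittingSubgroup G) (hcop : (orderOf h).Coprime q) : h ∈ otherPart G q := by
  have := otherPart_normal (G := G) q
  have h1 : h ∈ ((pCore q G ⊔ otherPart G q : Subgroup G) : Set G) := fitting_le_sup q hF
  rw [Subgroup.mul_normal] at h1
  obtain ⟨a, ha, e, he, rfl⟩ := Set.mem_mul.mp h1
  suffices ha' : a ∈ otherPart G q from (otherPart G q).mul_mem ha' he
  have h2 : (QuotientGroup.mk' (otherPart G q)) (a * e) = (QuotientGroup.mk' (otherPart G q)) a := by
    rw [map_mul]
    have : (QuotientGroup.mk' (otherPart G q)) e = 1 := by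
      rw [← MonoidHom.mem_ker, QuotientGroup.ker_mk']; exact he
    rw [this, mul_one]
  have h3 : orderOf ((QuotientGroup.mk' (otherPart G q)) a) ∣ orderOf (a * e) := by
    rw [← h2]; exact orderOf_map_dvd _ _
  obtain ⟨k, hk⟩ := (pCore_isPGroup (G := G) q) ⟨a, ha⟩
  have h4 : orderOf ((QuotientGroup.mk' (otherPart G q)) a) ∣ q ^ k := by
    refine (orderOf_map_dvd _ _).trans ?_
    apply orderOf_dvd_of_pow_eq_one
    have := congrArg Subtype.val hk
    simpa using this
  have h5 : orderOf ((QuotientGroup.mk' (otherPart G q)) a) = 1 := by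
    have hc : (orderOf ((QuotientGroup.mk' (otherPart G q)) a)).Coprime (q ^ k) :=
      Nat.Coprime.coprime_dvd_left h3 (Nat.Coprime.pow_right k hcop)
    exact Nat.Coprime.eq_one_of_dvd hc h4
  rw [orderOf_eq_one_iff, ← MonoidHom.mem_ker, QuotientGroup.ker_mk'] at h5
  exact h5

theorem claimA {G : Type*} [Group G] [Finite G]
    (hodd : Odd (Nat.card (fittingSubgroup G))) (h : G)
    (hΩ : ∀ x ∈ fittingSubgroup G, (orderOf x).Prime → h * x = x * h)
    (p : ℕ) [hp : Fact p.Prime] (hcop : (orderOf h).Coprime p) :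
    h ∈ Subgroup.centralizer (pCore p G : Set G) := by
  have hle : pCore p G ≤ fittingSubgroup G :=
    le_fittingSubgroup (Cfsg.pCore_normal p G) (pCore_isPGroup (G := G) p).isNilpotent
  by_cases hp2 : p = 2
  · subst hp2
    obtain ⟨n, hn⟩ := (pCore_isPGroup (G := G) 2).exists_card_eq
    have hdvd : Nat.card (pCore 2 G) ∣ Nat.card (fittingSubgroup G) := Subgroup.card_dvd_of_le hle
    have hn0 : n = 0 := by
      by_contra hn0
      have : 2 ∣ Nat.card (fittingSubgroup G) := by
        refine dvd_trans ?_ hdvd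
        rw [hn]; exact dvd_pow_self 2 hn0
      exact (Nat.not_even_iff_odd.mpr hodd) (even_iff_two_dvd.mpr this)
    rw [hn0, pow_zero] at hn
    have hbot : pCore 2 G = ⊥ := (Subgroup.card_eq_one).mp hn
    rw [hbot, Subgroup.mem_centralizer_iff]
    intro x hx
    have : x = 1 := by simpa using hx
    rw [this, one_mul, mul_one]
  · have hnorm : Subgroup.zpowers h ≤ Subgroup.normalizer (pCore p G : Set G) := by
      rw [Subgroup.normalizer_eq_top]; exact le_top
    have key := centralizes_of_centralizes_omega_one p hp2 (Subgroup.zpowers h)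
      (by rw [Nat.card_zpowers]; exact hcop) _ (pCore p G) rfl (pCore_isPGroup p) hnorm
      (by
        intro x hx hxp
        rw [Subgroup.zpowers_le, Subgroup.mem_centralizer_iff]
        intro y hy
        rw [Set.mem_singleton_iff] at hy
        subst hy
        by_cases hy1 : y = 1
        · rw [hy1, one_mul, mul_one]
        · exact (hΩ y (hle hx) (by rw [orderOf_eq_prime hxp hy1]; exact hp.out)).symm)
    exact key (Subgroup.mem_zpowers h)

/-- the key nilpotent normal subgroup -/
theorem qElement_mem {G : Type*} [Group G] [Finite G] (hG : Group.IsSolvable G)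
    (hodd : Odd (Nat.card (fittingSubgroup G))) (q : ℕ) [hq : Fact q.Prime]
    (C : Subgroup G) (hCn : C.Normal)
    (hC : ∀ h ∈ C, ∀ x ∈ fittingSubgroup G, (orderOf x).Prime → h * x = x * h)
    (g : G) (hgC : g ∈ C) (k : ℕ) (hgq : g ^ (q ^ k) = 1) : g ∈ fittingSubgroup G := by
  have hEn := otherPart_normal (G := G) q
  set E := otherPart G q with hE
  set D : Subgroup G := C ⊓ Subgroup.centralizer (E : Set G) with hD
  have hDn : D.Normal := Subgroup.normal_inf_normal _ _
  -- q'-elements of D are central in D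
  have hcen : ∀ h ∈ D, (orderOf h).Coprime q → ∀ d ∈ D, d * h = h * d := by
    intro h hhD hcop d hdD
    have hhC : h ∈ C := (Subgroup.mem_inf.mp hhD).1
    have h1 : h ∈ Subgroup.centralizer (pCore q G : Set G) := claimA hodd h (hC h hhC) q hcop
    have h2 : h ∈ Subgroup.centralizer (E : Set G) := (Subgroup.mem_inf.mp hhD).2
    have h3 : pCore q G ⊔ E ≤ Subgroup.centralizer (Subgroup.zpowers h : Set G) := by
      apply sup_le
      · rw [Subgroup.le_centralizer_iff, Subgroup.zpowers_le]; exact h1
      · rw [Subgroup.le_centralizer_iff, Subgroup.zpowers_le]; exact h2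
    have h4 : h ∈ Subgroup.centralizer (fittingSubgroup G : Set G) := by
      have := (fitting_le_sup (G := G) q).trans h3
      rw [Subgroup.le_centralizer_iff, Subgroup.zpowers_le] at this
      exact this
    haveI := hG
    have h5 : h ∈ fittingSubgroup G := Cfsg.Agent.S0044.result h4
    have h6 : h ∈ E := mem_otherPart q h h5 hcop
    have h7 : d ∈ Subgroup.centralizer (E : Set G) := (Subgroup.mem_inf.mp hdD).2
    exact (Subgroup.mem_centralizer_iff.mp h7 h h6).symm
  -- D / Z(D) is a q-group
  have hpg : IsPGroup q (↥D ⧸ Subgroup.center ↥D) := by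
    intro y
    obtain ⟨x, rfl⟩ := QuotientGroup.mk_surjective y
    obtain ⟨j, m, hm, hjm⟩ := Nat.exists_eq_pow_mul_and_not_dvd (orderOf_pos x).ne' q hq.out.ne_one
    refine ⟨j, ?_⟩
    rw [← QuotientGroup.mk_pow, QuotientGroup.eq_one_iff]
    have ho : orderOf (x ^ (q ^ j)) = m := by
      rw [orderOf_pow_of_dvd (pow_ne_zero _ hq.out.ne_zero) (hjm ▸ dvd_mul_right _ _), hjm,
        Nat.mul_div_cancel_left _ (pow_pos hq.out.pos _)]
    have hcop : (orderOf ((x ^ (q ^ j) : ↥D) : G)).Coprime q := by
      rw [Subgroup.orderOf_coe, ho]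
      exact ((Nat.Prime.coprime_iff_not_dvd hq.out).mpr hm).symm
    rw [Subgroup.mem_center_iff]
    intro d
    apply Subtype.ext
    have := hcen _ (x ^ (q ^ j)).2 hcop d d.2
    simpa using this
  have hDnil : Group.IsNilpotent ↥D :=
    Group.of_quotient_center_nilpotent hpg.isNilpotent
  have hDF : D ≤ fittingSubgroup G := le_fittingSubgroup hDn hDnil
  apply hDF
  refine Subgroup.mem_inf.mpr ⟨hgC, ?_⟩
  have hgo : orderOf g ∣ q ^ k := orderOf_dvd_of_pow_eq_one hgq
  have h8 : E ≤ Subgroup.centralizer (Subgroup.zpowers g : Set G) := by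
    apply sSup_le
    rintro N ⟨p, hp, hpq, rfl⟩
    haveI : Fact p.Prime := ⟨hp⟩
    rw [Subgroup.le_centralizer_iff, Subgroup.zpowers_le]
    apply claimA hodd g (hC g hgC) p
    apply Nat.Coprime.coprime_dvd_left hgo
    apply Nat.Coprime.pow_left
    exact (Nat.coprime_primes hq.out hp).mpr (Ne.symm hpq)
  rw [Subgroup.le_centralizer_iff, Subgroup.zpowers_le] at h8
  exact h8

/-- Let G be a finite solvable group whose Fitting subgroup F(G) has odd order. If an element g of G commutes with every element of prime order of F(G), then g ∈ F(G). -/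
theorem result {G : Type*} [Group G] [Finite G] (hG : Group.IsSolvable G) (hodd : Odd (Nat.card (Cfsg.fittingSubgroup G))) (g : G) (hg : ∀ x ∈ Cfsg.fittingSubgroup G, (orderOf x).Prime → g * x = x * g) : g ∈ Cfsg.fittingSubgroup G := by
  have hFn : (fittingSubgroup G).Normal := fittingSubgroup_normal
  set Ω : Set G := {x | x ∈ fittingSubgroup G ∧ (orderOf x).Prime} with hΩ
  set C : Subgroup G := Subgroup.centralizer Ω with hCdef
  have hCmem : ∀ h, h ∈ C ↔ ∀ x ∈ fittingSubgroup G, (orderOf x).Prime → h * x = x * h := by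
    intro h
    rw [hCdef, Subgroup.mem_centralizer_iff]
    constructor
    · intro H x hx hxp; exact (H x ⟨hx, hxp⟩).symm
    · rintro H x ⟨hx, hxp⟩; exact (H x hx hxp).symm
  have hCn : C.Normal := by
    constructor
    intro a ha b
    rw [hCmem] at ha ⊢
    intro x hx hxp
    have hx' : b⁻¹ * x * b ∈ fittingSubgroup G := by
      have := hFn.conj_mem x hx b⁻¹
      simpa using this
    have hxp' : (orderOf (b⁻¹ * x * b)).Prime := by
      have : orderOf (b⁻¹ * x * b) = orderOf x := by
        have := MulEquiv.orderOf_eq (MulAut.conj b⁻¹) x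
        simpa [MulAut.conj_apply] using this
      rw [this]; exact hxp
    have h1 := ha _ hx' hxp'
    -- a * (b⁻¹ x b) = (b⁻¹ x b) * a
    calc b * a * b⁻¹ * x = b * (a * (b⁻¹ * x * b)) * b⁻¹ := by group
      _ = b * ((b⁻¹ * x * b) * a) * b⁻¹ := by rw [h1]
      _ = x * (b * a * b⁻¹) := by group
  have hgC : g ∈ C := (hCmem g).mpr hg
  -- every element of C lies in F, via Sylow generation of C
  have hall : ∀ c : ↥C, (c : G) ∈ fittingSubgroup G := by
    have htop : (⊤ : Subgroup ↥C) ≤ (fittingSubgroup G).comap C.subtype := by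
      rw [← iSup_sylow_eq_top]
      apply iSup_le
      intro q
      apply iSup_le
      intro P
      intro x hx
      haveI : Fact (q : ℕ).Prime := ⟨q.2⟩
      obtain ⟨k, hk⟩ := P.isPGroup' ⟨x, hx⟩
      rw [Subgroup.mem_comap]
      apply qElement_mem hG hodd (q : ℕ) C hCn (fun h hh => (hCmem h).mp hh) _ x.2 k
      have := congrArg (fun z : ↥(P : Subgroup ↥C) => ((z : ↥C) : G)) hk
      simpa using this
    intro c
    exact htop (Subgroup.mem_top c)
  exact hall ⟨g, hgC⟩

end Cfsg.Agent.S3785
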