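import Cfsg.Statements.S3788
import Cfsg.Agent.Lib.Helper1.CyclicNormal2

set_option autoImplicit false
open Cfsg

namespace Cfsg.Agent.S3788

/-- Let G be a finite p-soluble group, P a Sylow p-subgroup of G and A a cyclic normal subgroup of P. If p is odd, or if no section of G is isomorphic to the symmetric group of degree 4, then A ≤ O_{p',p}(G). -/
theorem result {G : Type*} [Group G] [Finite G] {p : ℕ} [Fact p.Prime] (hG : Cfsg.IsPSolvable p G) (P : Sylow p G) (A : Subgroup G) (hAP : A ≤ (P : Subgroup G)) (hAn : (P : Subgroup G) ≤ Subgroup.normalizer (A : Set G)) (hA : IsCyclic A) (h : p ≠ 2 ∨ ¬ Cfsg.Involves (Equiv.Perm (Fin 4)) G) : A ≤ Cfsg.pPrimePCore p G := by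
  have hpp : p.Prime := Fact.out
  haveI hKn : (Cfsg.pPrimeCore p G).Normal := Cfsg.Agent.Lib.Helper2.pPrimeCore_normal p
  have hπs : Function.Surjective (QuotientGroup.mk' (Cfsg.pPrimeCore p G)) :=
    QuotientGroup.mk'_surjective _
  have hsep' : Cfsg.IsPSolvable p (G ⧸ Cfsg.pPrimeCore p G) :=
    Cfsg.Agent.Lib.Helper3.isPSolvable_quotient hpp hG _
  have hO' : Cfsg.pPrimeCore p (G ⧸ Cfsg.pPrimeCore p G) = ⊥ :=
    Cfsg.Agent.Lib.Helper3.pPrimeCore_quotient_pPrimeCore p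
  have hAp : IsPGroup p ↥(A.map (QuotientGroup.mk' (Cfsg.pPrimeCore p G))) :=
    (P.2.to_le hAP).map _
  have hAc : IsCyclic ↥(A.map (QuotientGroup.mk' (Cfsg.pPrimeCore p G))) :=
    isCyclic_of_surjective ((QuotientGroup.mk' (Cfsg.pPrimeCore p G)).subgroupMap A)
      ((QuotientGroup.mk' (Cfsg.pPrimeCore p G)).subgroupMap_surjective A)
  have hQA : Cfsg.pCore p (G ⧸ Cfsg.pPrimeCore p G) ≤
      Subgroup.normalizer ((A.map (QuotientGroup.mk' (Cfsg.pPrimeCore p G)) : Subgroup _) : Set _) := by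
    have h1 := Cfsg.Agent.Lib.Helper2.pCore_le_sylow p (P.mapSurjective hπs)
    rw [Sylow.coe_mapSurjective] at h1
    exact h1.trans ((Subgroup.map_mono hAn).trans (Subgroup.le_normalizer_map _))
  have h' : p ≠ 2 ∨ ¬ Cfsg.Involves (Equiv.Perm (Fin 4)) (G ⧸ Cfsg.pPrimeCore p G) := by
    rcases h with h | h
    · exact Or.inl h
    · right
      intro hinv
      exact h (Cfsg.Agent.Lib.Helper11.QuadFree.involves_of_surjective_hom _ hπs hinv)
  have key := Cfsg.Agent.Lib.Helper1.CyclicNormal.le_pCore_of_cyclic hsep' hO' _ hAp hAc hQA h'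
  intro x hx
  unfold Cfsg.pPrimePCore
  rw [Subgroup.mem_comap]
  exact key ⟨x, hx, rfl⟩

end Cfsg.Agent.S3788
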