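import Cfsg.Statements.S3790
import Mathlib
import Cfsg.Agent.Lib.Helper2.PLength3

set_option autoImplicit false
open Cfsg

namespace Cfsg.Agent.S3790

open Cfsg.Agent.Lib.Helper2

theorem plength_one_of_pgroup {G : Type*} [Group G] [Finite G] {p : ℕ} [Fact p.Prime]
    (h : ∀ s : ℕ, s.Prime → s ∣ Nat.card G → s = p) : PLengthLE p 1 G := by
  have hp : p.Prime := Fact.out
  have hcard : Nat.card G = p ^ (Nat.card G).primeFactorsList.length :=
    Nat.eq_prime_pow_of_unique_prime_dvd Nat.card_pos.ne' (fun {d} hd hdv => h d hd hdv)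
  have h2 : (⊤ : Subgroup G) ≤ (upperPSeries p G (1 + 1)).1 := by
    apply le_upperPSeries_succ p 1 ⊤ inferInstance
    unfold StepNum
    rw [if_neg (by decide)]
    rw [Subgroup.relIndex_top_right]
    have hdvd : (upperPSeries p G 1).1.index ∣ p ^ (Nat.card G).primeFactorsList.length := by
      rw [← hcard]; exact Subgroup.index_dvd_card _
    obtain ⟨j, _, hj⟩ := (Nat.dvd_prime_pow hp).mp hdvd
    exact ⟨j, hj⟩
  unfold PLengthLE
  rw [eq_top_iff]
  exact h2.trans (upperPSeries_le_succ p G (1 + 1))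

theorem step_even {G : Type*} [Group G] [Finite G] {p q₀ : ℕ} [Fact p.Prime] (n n₁ : ℕ)
    (hn₁ : n₁ = n + 1) (hn : Even n) {a b : ℕ}
    (ha : PLengthLE p a ↥(pPrimeCore q₀ (G ⧸ (upperPSeries q₀ G n).1)))
    (hb : PLengthLE p b (G ⧸ (upperPSeries q₀ G n₁).1)) :
    PLengthLE p (a + b) (G ⧸ (upperPSeries q₀ G n).1) := by
  subst hn₁
  obtain ⟨e, _⟩ := exists_quot_equiv (QuotientGroup.mk' (upperPSeries q₀ G n).1)
    (QuotientGroup.mk'_surjective _) (pPrimeCore q₀ (G ⧸ (upperPSeries q₀ G n).1))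
    (upperPSeries q₀ G (n + 1)).1 (upperPSeries_succ_of_even q₀ G n hn)
  exact PLengthLE.extension _ ha (PLengthLE.of_surjective hb e.toMonoidHom e.surjective)

theorem step_odd {G : Type*} [Group G] [Finite G] {p q₀ : ℕ} [Fact p.Prime] (n n₁ : ℕ)
    (hn₁ : n₁ = n + 1) (hn : ¬ Even n) {a b : ℕ}
    (ha : PLengthLE p a ↥(pCore q₀ (G ⧸ (upperPSeries q₀ G n).1)))
    (hb : PLengthLE p b (G ⧸ (upperPSeries q₀ G n₁).1)) :
    PLengthLE p (a + b) (G ⧸ (upperPSeries q₀ G n).1) := by
  subst hn₁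
  obtain ⟨e, _⟩ := exists_quot_equiv (QuotientGroup.mk' (upperPSeries q₀ G n).1)
    (QuotientGroup.mk'_surjective _) (pCore q₀ (G ⧸ (upperPSeries q₀ G n).1))
    (upperPSeries q₀ G (n + 1)).1 (upperPSeries_succ_of_odd q₀ G n hn)
  exact PLengthLE.extension _ ha (PLengthLE.of_surjective hb e.toMonoidHom e.surjective)

theorem main.{u} (p : ℕ) [Fact p.Prime] : ∀ r : ℕ, ∀ (G : Type u) [Group G] [Finite G],
    ∀ (q : Fin r → ℕ), (∀ i, (q i).Prime ∧ q i ≠ p) →
    (∀ s : ℕ, s.Prime → s ∣ Nat.card G → s ≠ p → ∃ i, q i = s) →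
    ∀ l : Fin r → ℕ, (∀ i, PLengthLE (q i) (l i) G) →
    PLengthLE p (∏ i, (1 + l i)) G := by
  have hp : p.Prime := Fact.out
  intro r
  induction r with
  | zero =>
    intro G _ _ q hq hcover l hl
    rw [Finset.univ_eq_empty, Finset.prod_empty]
    apply plength_one_of_pgroup
    intro s hs hsd
    by_contra hsp
    obtain ⟨i, _⟩ := hcover s hs hsd hsp
    exact i.elim0
  | succ r ih =>
    intro G _ _ q hq hcover l hl
    obtain ⟨q₀, hq₀def⟩ : ∃ q₀ : ℕ, q₀ = q (Fin.last r) := ⟨_, rfl⟩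
    obtain ⟨l₀, hl₀def⟩ : ∃ l₀ : ℕ, l₀ = l (Fin.last r) := ⟨_, rfl⟩
    obtain ⟨m, hmdef⟩ : ∃ m : ℕ, m = ∏ i : Fin r, (1 + l i.castSucc) := ⟨_, rfl⟩
    have hq₀ : q₀.Prime := by rw [hq₀def]; exact (hq _).1
    have hq₀p : q₀ ≠ p := by rw [hq₀def]; exact (hq _).2
    haveI : Fact q₀.Prime := ⟨hq₀⟩
    -- even steps
    have heven : ∀ n : ℕ, PLengthLE p m
        ↥(pPrimeCore q₀ (G ⧸ (upperPSeries q₀ G n).1)) := by
      intro n
      rw [hmdef]
      apply ih _ (fun i => q i.castSucc) (fun i => hq _) _ (fun i => l i.castSucc)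
      · intro i
        haveI : Fact (q i.castSucc).Prime := ⟨(hq _).1⟩
        have h1 : PLengthLE (q i.castSucc) (l i.castSucc) (G ⧸ (upperPSeries q₀ G n).1) :=
          PLengthLE.of_surjective (hl _) _ (QuotientGroup.mk'_surjective _)
        exact PLengthLE.of_injective h1 (Subgroup.subtype _) (Subgroup.subtype_injective _)
      · intro s hs hsd hsp
        have hsd2 : s ∣ Nat.card G :=
          (hsd.trans (Subgroup.card_subgroup_dvd_card _)).trans
            (Subgroup.card_quotient_dvd_card _)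
        obtain ⟨i', hi'⟩ := hcover s hs hsd2 hsp
        have hne : i' ≠ Fin.last r := by
          intro h
          rw [h, ← hq₀def] at hi'
          have hcop : (Nat.card ↥(pPrimeCore q₀ (G ⧸ (upperPSeries q₀ G n).1))).Coprime q₀ :=
            pPrimeCore_coprime q₀
          rw [← hi'] at hsd
          have : q₀ = 1 := (Nat.Coprime.symm hcop).eq_one_of_dvd hsd
          exact hq₀.one_lt.ne' this
        obtain ⟨j, hj⟩ := Fin.exists_castSucc_eq.mpr hne
        exact ⟨j, by rw [hj]; exact hi'⟩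
    have hodd : ∀ n : ℕ, PLengthLE p 0 ↥(pCore q₀ (G ⧸ (upperPSeries q₀ G n).1)) := by
      intro n
      apply plength_zero_of_not_dvd
      intro hd
      obtain ⟨k, hk⟩ := (IsPGroup.iff_card (p := q₀)).mp
        (pCore_isPGroup q₀ (G := G ⧸ (upperPSeries q₀ G n).1))
      rw [hk] at hd
      have := (Nat.prime_dvd_prime_iff_eq hp hq₀).mp (hp.dvd_of_dvd_pow hd)
      exact hq₀p this.symm
    have chain : ∀ k j' : ℕ, k + j' = l₀ → ∀ idx : ℕ, idx = 2 * j' + 1 →
        PLengthLE p (m * k) (G ⧸ (upperPSeries q₀ G idx).1) := by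
      intro k
      induction k with
      | zero =>
        intro j' hj' idx hidx
        have htop : (upperPSeries q₀ G idx).1 = ⊤ := by
          have := hl (Fin.last r)
          rw [← hq₀def, ← hl₀def] at this
          unfold PLengthLE at this
          rw [hidx, show j' = l₀ by omega]
          exact this
        rw [Nat.mul_zero]
        apply plength_zero_of_not_dvd
        rw [← Subgroup.index_eq_card, htop, Subgroup.index_top]
        exact hp.one_lt.ne' ∘ Nat.dvd_one.mp
      | succ k ihk =>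
        intro j' hj' idx hidx
        have h1 := ihk (j' + 1) (by omega) (2 * j' + 2 + 1) (by ring)
        have heven1 : Even (2 * j' + 2) := ⟨j' + 1, by ring⟩
        have h2 := step_even (2 * j' + 2) (2 * j' + 2 + 1) rfl heven1 (heven _) h1
        have hodd1 : ¬ Even (2 * j' + 1) := by
          rw [Nat.not_even_iff_odd]; exact ⟨j', rfl⟩
        have h3 := step_odd (2 * j' + 1) (2 * j' + 2) (by ring) hodd1 (hodd _) h2
        rw [hidx]
        rw [show m * (k + 1) = 0 + (m + m * k) by ring]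
        exact h3
    have h1 := chain l₀ 0 (by omega) (0 + 1) (by ring)
    have h2 := step_even 0 (0 + 1) rfl (by simp) (heven _) h1
    have e : G ⧸ (upperPSeries q₀ G 0).1 ≃* G :=
      (QuotientGroup.quotientMulEquivOfEq (upperPSeries_zero q₀ G)).trans
        QuotientGroup.quotientBot
    have h3 := PLengthLE.of_surjective h2 e.toMonoidHom e.surjective
    rw [Fin.prod_univ_castSucc, ← hmdef, ← hl₀def]
    rw [show m * (1 + l₀) = m + m * l₀ by ring]
    exact h3

theorem result {G : Type*} [Group G] [Finite G] (hG : Group.IsSolvable G) (p : ℕ) [Fact p.Prime] (r : ℕ) (q : Fin r → ℕ) (hq : ∀ i, (q i).Prime ∧ q i ≠ p) (hinj : Function.Injective q) (hcover : ∀ s : ℕ, s.Prime → s ∣ Nat.card G → s ≠ p → ∃ i, q i = s) (l : Fin r → ℕ) (hl : ∀ i, Cfsg.PLengthLE (q i) (l i) G) : Cfsg.PLengthLE p (Finset.univ.prod fun i => 1 + l i) G := by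
  exact main p r G q hq hcover l hl

end Cfsg.Agent.S3790
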