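import Cfsg.Statements.S3791
import Mathlib
import Cfsg.Agent.Lib.Helper2.PLength2
import Cfsg.Agent.Lib.Helper2.SchurZassenhaus
import Cfsg.Agent.S0553
import Cfsg.Agent.S0547

set_option autoImplicit false
open Cfsg

namespace Cfsg.Agent.S3791

open Cfsg.Agent.Lib.Helper2

theorem derivedSeries_add_eq_bot {G : Type*} [Group G] (P : Subgroup G) (a b : ℕ)
    (h1 : derivedSeries G a ≤ P) (h2 : derivedSeries ↥P b = ⊥) :
    derivedSeries G (a + b) = ⊥ := by
  have key : ∀ b, derivedSeries G (a + b) ≤ (derivedSeries ↥P b).map P.subtype := by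
    intro b
    induction b with
    | zero =>
      rw [derivedSeries_zero, ← MonoidHom.range_eq_map, Subgroup.range_subtype]
      exact h1
    | succ b ih =>
      rw [← add_assoc, derivedSeries_succ, derivedSeries_succ, Subgroup.map_commutator]
      exact Subgroup.commutator_mono ih ih
  have h3 := key b
  rw [h2, Subgroup.map_bot] at h3
  exact eq_bot_iff.mpr h3

theorem derived_of_map {G H : Type*} [Group G] [Group H] (f : G →* H) (P : Subgroup G)
    (T : Subgroup H) (hT : T = P.map f) {dd : ℕ} (h : derivedSeries ↥P dd = ⊥) :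
    derivedSeries ↥T dd = ⊥ := by
  subst hT
  rw [← map_derivedSeries_eq (f.subgroupMap_surjective P) dd, h, Subgroup.map_bot]

theorem derived_of_le {G : Type*} [Group G] (P S : Subgroup G) (hPS : P ≤ S) {dd : ℕ}
    (h : derivedSeries ↥S dd = ⊥) : derivedSeries ↥P dd = ⊥ := by
  have h1 := map_derivedSeries_le_derivedSeries (Subgroup.inclusion hPS) dd
  rw [h, le_bot_iff] at h1
  exact (Subgroup.map_eq_bot_iff_of_injective _ (Subgroup.inclusion_injective hPS)).mp h1

theorem hd_quot {G : Type*} [Group G] [Finite G] (N : Subgroup G) [N.Normal] (p : ℕ)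
    [Fact p.Prime] (dd : ℕ)
    (hd : ∀ P : Subgroup G, IsPGroup p P → derivedSeries ↥P dd = ⊥) :
    ∀ P : Subgroup (G ⧸ N), IsPGroup p P → derivedSeries ↥P dd = ⊥ := by
  intro Pbar hPbar
  obtain ⟨Sbar, hSbar⟩ := hPbar.exists_le_sylow
  obtain ⟨S, rfl⟩ := Sylow.mapSurjective_surjective (QuotientGroup.mk'_surjective N) p Sbar
  have hmap : Pbar = ((S : Subgroup G) ⊓ Pbar.comap (QuotientGroup.mk' N)).map
      (QuotientGroup.mk' N) := by
    apply le_antisymm
    · intro x hx
      have hx' := hSbar hx
      rw [Sylow.coe_mapSurjective] at hx'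
      obtain ⟨s, hs, rfl⟩ := hx'
      exact ⟨s, Subgroup.mem_inf.mpr ⟨hs, hx⟩, rfl⟩
    · rintro _ ⟨s, hs, rfl⟩
      exact (Subgroup.mem_inf.mp hs).2
  have hP : IsPGroup p ↥((S : Subgroup G) ⊓ Pbar.comap (QuotientGroup.mk' N)) :=
    S.2.to_le inf_le_left
  exact derived_of_map _ _ _ hmap (hd _ hP)

theorem main.{u} (r : ℕ) (q : Fin r → ℕ) (hq : ∀ i, (q i).Prime) (d : Fin r → ℕ) :
    ∀ n : ℕ, ∀ (G : Type u) [Group G] [Finite G], Nat.card G ≤ n → Group.IsSolvable G →
    (∀ s : ℕ, s.Prime → s ∣ Nat.card G → ∃ i, q i = s) →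
    (∀ i, ∀ P : Subgroup G, IsPGroup (q i) P → derivedSeries ↥P (d i) = ⊥) →
    ∀ l : Fin r → ℕ, (∀ i, PLengthLE (q i) (l i) G) →
    derivedSeries G (∑ i, d i * l i) = ⊥ := by
  intro n
  induction n with
  | zero =>
    intro G _ _ hcard
    have := Nat.card_pos (α := G)
    omega
  | succ n ih =>
    intro G _ _ hcard hsolv hcover hd l hl
    by_cases hG : Subsingleton G
    · exact Subsingleton.elim _ _
    · haveI : Nontrivial G := not_subsingleton_iff_nontrivial.mp hG
      obtain ⟨N, hNn, hNb, hNmin⟩ := Cfsg.Agent.S0553.exists_minimal_normal G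
      haveI := hNn
      haveI := hsolv
      have hquot : ∀ (K : Subgroup G) (hKn : K.Normal), K ≠ ⊥ → ∀ l' : Fin r → ℕ,
          (∀ i, PLengthLE (q i) (l' i) (G ⧸ K)) → derivedSeries G (∑ i, d i * l' i) ≤ K := by
        intro K hKn hKb l' hl'
        haveI := hKn
        have hlt : Nat.card (G ⧸ K) < Nat.card G := card_quotient_lt_of_ne_bot K hKb
        have h1 := ih (G ⧸ K) (by omega) inferInstance
          (fun s hs hsd => hcover s hs (hsd.trans (Subgroup.card_quotient_dvd_card K)))
          (fun i => by
            haveI : Fact (q i).Prime := ⟨hq i⟩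
            exact hd_quot K (q i) (d i) (hd i)) l' hl'
        have h2 := map_derivedSeries_eq (QuotientGroup.mk'_surjective K) (∑ i, d i * l' i)
        rw [h1, Subgroup.map_eq_bot_iff, QuotientGroup.ker_mk'] at h2
        exact h2
      by_cases huniq : ∀ K : Subgroup G, K.Normal → K ≠ ⊥ → N ≤ K
      · obtain ⟨p, dd, hpp, hdpos, _, hNcard⟩ := Cfsg.Agent.S0547.minNormal_elemAb N hNb hNmin
        have hpN : p ∣ Nat.card N := by
          rw [hNcard]; exact dvd_pow_self p (by omega)
        obtain ⟨i₀, hi₀⟩ := hcover p hpp (hpN.trans (Subgroup.card_subgroup_dvd_card N))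
        subst hi₀
        haveI : Fact (q i₀).Prime := ⟨hq i₀⟩
        have hOp' : pPrimeCore (q i₀) G = ⊥ := by
          by_contra h
          have h1 : N ≤ pPrimeCore (q i₀) G := huniq _ inferInstance h
          have h2 : (Nat.card (pPrimeCore (q i₀) G)).Coprime (q i₀) := pPrimeCore_coprime _
          have h3 : q i₀ ∣ Nat.card (pPrimeCore (q i₀) G) :=
            hpN.trans (Subgroup.card_dvd_of_le h1)
          have h4 : q i₀ = 1 := (Nat.Coprime.symm h2).eq_one_of_dvd h3
          exact (hq i₀).one_lt.ne' h4
        have hU2 : (upperPSeries (q i₀) G 2).1 = pCore (q i₀) G :=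
          upperPSeries_two_of_pPrimeCore_eq_bot _ G hOp'
        have hU2b : (upperPSeries (q i₀) G 2).1 ≠ ⊥ := by
          rw [hU2]
          intro h
          apply hNb
          rw [eq_bot_iff, ← h]
          exact le_pCore hNn (IsPGroup.of_card hNcard)
        have hl0 : 1 ≤ l i₀ := by
          by_contra h
          have h0 : l i₀ = 0 := by omega
          have h1 := hl i₀
          rw [h0] at h1
          unfold PLengthLE at h1
          rw [show 2 * 0 + 1 = 1 from rfl, upperPSeries_one, hOp'] at h1
          exact bot_ne_top h1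
        obtain ⟨l', hl'def⟩ : ∃ l' : Fin r → ℕ,
            l' = fun i => if i = i₀ then l i₀ - 1 else l i := ⟨_, rfl⟩
        have hl' : ∀ i, PLengthLE (q i) (l' i) (G ⧸ (upperPSeries (q i₀) G 2).1) := by
          intro i
          by_cases h : i = i₀
          · rw [h, hl'def]
            simp only [if_true]
            apply PLengthLE.quot_of_succ
            have h1 := hl i₀
            rw [show l i₀ = l i₀ - 1 + 1 by omega] at h1
            exact h1
          · haveI : Fact (q i).Prime := ⟨hq i⟩
            rw [hl'def]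
            simp only [h, if_false]
            exact PLengthLE.of_surjective (hl i) _ (QuotientGroup.mk'_surjective _)
        have h1 := hquot _ (upperPSeries_normal (q i₀) G 2) hU2b l' hl'
        have h2 : derivedSeries ↥(upperPSeries (q i₀) G 2).1 (d i₀) = ⊥ := by
          apply hd i₀
          rw [hU2]; exact pCore_isPGroup _
        have h3 := derivedSeries_add_eq_bot _ _ _ h1 h2
        have hsum : ∑ i, d i * l i = ∑ i, d i * l' i + d i₀ := by
          have hterm : ∀ i, d i * l i = d i * l' i + (if i = i₀ then d i₀ else 0) := by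
            intro i
            by_cases h : i = i₀
            · rw [h, hl'def]
              simp only [if_true]
              obtain ⟨m, hm⟩ : ∃ m, l i₀ = m + 1 := ⟨l i₀ - 1, by omega⟩
              rw [hm, Nat.add_sub_cancel]
              ring
            · rw [hl'def]
              simp only [h, if_false, add_zero]
          rw [Finset.sum_congr rfl (fun i _ => hterm i), Finset.sum_add_distrib,
            Finset.sum_ite_eq']
          simp
        rw [hsum]
        exact h3
      · push_neg at huniq
        obtain ⟨K, hKn, hKb, hNK⟩ := huniq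
        have h1 := hquot N hNn hNb l (fun i => by
          haveI : Fact (q i).Prime := ⟨hq i⟩
          exact PLengthLE.of_surjective (hl i) _ (QuotientGroup.mk'_surjective _))
        have h2 := hquot K hKn hKb l (fun i => by
          haveI : Fact (q i).Prime := ⟨hq i⟩
          haveI := hKn
          exact PLengthLE.of_surjective (hl i) _ (QuotientGroup.mk'_surjective _))
        have h3 : N ⊓ K = ⊥ := by
          haveI := hKn
          rcases hNmin (N ⊓ K) (Subgroup.normal_inf_normal N K) inf_le_left with h | h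
          · exact h
          · exact absurd (h ▸ inf_le_right) hNK
        rw [eq_bot_iff, ← h3]
        exact le_inf h1 h2

theorem result {G : Type*} [Group G] [Finite G] (hG : Group.IsSolvable G) (r : ℕ) (q : Fin r → ℕ) (hq : ∀ i, (q i).Prime) (hinj : Function.Injective q) (hcover : ∀ s : ℕ, s.Prime → s ∣ Nat.card G → ∃ i, q i = s) (d l : Fin r → ℕ) (hd : ∀ i, ∀ P : Subgroup G, (haveI := Fact.mk (hq i); ∃ S : Sylow (q i) G, (S : Subgroup G) = P) → derivedSeries ↥P (d i) = ⊥) (hl : ∀ i, Cfsg.PLengthLE (q i) (l i) G) : derivedSeries G (Finset.univ.sum fun i => d i * l i) = ⊥ := by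
  apply main r q hq d (Nat.card G) G le_rfl hG hcover _ l hl
  intro i P hP
  haveI : Fact (q i).Prime := ⟨hq i⟩
  obtain ⟨S, hS⟩ := hP.exists_le_sylow
  exact derived_of_le P S hS (hd i S ⟨S, rfl⟩)

end Cfsg.Agent.S3791
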